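import Cfsg.Statements.S3344
import Cfsg.Agent.C192.Setup
import Cfsg.Agent.C192.KindBad
import Cfsg.Agent.C192.Kind00
import Cfsg.Agent.C192.K10Fusion

set_option autoImplicit false
open Cfsg

namespace CfsgLib.C192.K10

open CfsgLib.Coset CfsgLib.Invol

/-- The nodes of the extraspecial subgroup. -/
def nQ : List Nat := [0, 1, 2, 3, 4, 8, 9, 10, 68, 70, 72, 74, 78, 80, 82, 84, 104, 106, 112, 114, 118, 120, 126,
  128, 133, 136, 142, 145, 160, 162, 166, 168]

theorem nQ_ok : nQ.contains 0 = true ∧ closB mT nQ = true ∧ invsB mT nQ = true ∧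
    (nQ.all fun i => !(invB mT i) || Nat.beq i 8 || (cls1 ++ cls2 ++ cls3).contains i) = true ∧
    invB mT 8 = true ∧
    follow (tget T10.Tb) 0 [0] = 1 ∧ follow (tget T10.Tb) 0 [4, 0, 5] = 68 ∧ follow (tget T10.Tb) 0 [2] = 3 ∧
    follow (tget T10.Tb) 0 [4, 2, 5] = 72 := by decide +kernel

/-- A fused involution in the extraspecial subgroup lies in one of three classes. -/
theorem fused_class {G : Type*} [Group G] [Finite G] {z : G} {L : List G} (Lo : Loc10 z L) {q : G}
    (hq : q ∈ Subgroup.closure ({ev L [0], ev L [4, 0, 5], ev L [2], ev L [4, 2, 5]} : Set G))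
    (hc : IsConj z q) (hne : q ≠ z) : ∃ i ∈ cls1 ++ cls2 ++ cls3, IsConj z (el L i) := by
  have C := Lo.cod
  obtain ⟨h0, hS, hi, hall, h8, w1, w2, w3, w4⟩ := nQ_ok
  obtain ⟨i, hiQ, rfl⟩ := C.closure_nodes h0 hS hi (fun x hx => by
    simp only [Set.mem_insert_iff, Set.mem_singleton_iff] at hx
    rcases hx with rfl | rfl | rfl | rfl
    exacts [⟨1, by decide, (Lo.ev_node (by decide) w1).2⟩, ⟨68, by decide, (Lo.ev_node (by decide) w2).2⟩,
      ⟨3, by decide, (Lo.ev_node (by decide) w3).2⟩, ⟨72, by decide, (Lo.ev_node (by decide) w4).2⟩]) hq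
  have hlt : i < 192 := by
    simp only [closB, List.all_eq_true, Bool.and_eq_true, Nat.blt_eq] at hS
    exact (hS i hiQ).1
  have ho : orderOf (el L i) = 2 := by
    obtain ⟨c, hcc⟩ := isConj_iff.mp hc
    rw [← hcc, ← C.zord h8, orderOf_eq_orderOf_iff]
    intro n
    rw [conj_pow]
    simp
  have h := List.all_eq_true.mp hall i hiQ
  simp only [(C.ord_iff hlt).mp ho, Bool.not_true, Bool.false_or, Bool.or_eq_true, Nat.beq_eq,
    List.contains_iff_mem] at h
  exact ⟨i, h.resolve_left fun h' => hne (by rw [h', ← C.zeq]), hc⟩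

end CfsgLib.C192.K10

namespace Cfsg.Agent.S3344

/-- Let G be a finite group with an involution s, L = C_G(s) and Q = O₂(L). Suppose Q is extraspecial of order 32, L/Q is isomorphic to Sym(3), C_Q(X) = ⟨s⟩ for a Sylow 3-subgroup X of L, and s is not weakly closed in Q with respect to G (some conjugate of s other than s lies in Q). Then either G has an elementary abelian normal subgroup of order 8 with quotient isomorphic to PSL(3,2), or G is isomorphic to the alternating group of degree 8 or 9, or to the Mathieu group M₁₂. -/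
theorem result {G : Type*} [Group G] [Finite G]
    (s : G) (hs : orderOf s = 2) (L : Subgroup G) (hL : L = Subgroup.centralizer ({s} : Set G))
    (Q : Subgroup G) (hQ : Q = (Cfsg.pCore 2 L).map L.subtype)
    (hQex : Cfsg.IsExtraspecial 2 Q) (hQcard : Nat.card Q = 32)
    (e : L ⧸ Cfsg.pCore 2 L ≃* Equiv.Perm (Fin 3))
    (X : Sylow 3 L) (hCQX : Q ⊓ Subgroup.centralizer (((X : Subgroup L).map L.subtype : Subgroup G) : Set G) = Subgroup.zpowers s)
    (hnwc : ∃ g : G, g * s * g⁻¹ ∈ Q ∧ g * s * g⁻¹ ≠ s) :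
    (∃ (N : Subgroup G) (hN : N.Normal), IsMulCommutative N ∧ (∀ n ∈ N, n ^ 2 = 1) ∧ Nat.card N = 8 ∧
        Nonempty (G ⧸ N ≃* Matrix.ProjectiveSpecialLinearGroup (Fin 3) (ZMod 2))) ∨
    Nonempty (G ≃* alternatingGroup (Fin 8)) ∨ Nonempty (G ≃* alternatingGroup (Fin 9)) ∨ Cfsg.Spor.IsoM12 G := by
  subst hL hQ
  have hQc : Nat.card (Cfsg.pCore 2 (Subgroup.centralizer ({s} : Set G))) = 32 := by
    rw [← hQcard, Subgroup.card_map_of_injective (Subgroup.subtype_injective _)]
  let θ := e.toMonoidHom.comp (QuotientGroup.mk' (Cfsg.pCore 2 (Subgroup.centralizer ({s} : Set G))))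
  have hθs : Function.Surjective θ := e.surjective.comp (QuotientGroup.mk'_surjective _)
  have hθ : θ.ker = Cfsg.pCore 2 (Subgroup.centralizer ({s} : Set G)) := by
    ext x
    rw [MonoidHom.mem_ker, MonoidHom.comp_apply, MulEquiv.coe_toMonoidHom, EmbeddingLike.map_eq_one_iff,
      QuotientGroup.mk'_apply, QuotientGroup.eq_one_iff]
  obtain ⟨sw, sq, L, hlen, hrel, hgen, hcard, hz, hQle⟩ :=
    CfsgLib.C192.exists_data s hs _ rfl _ hQc _ rfl hQex θ hθs hθ X hCQX
  obtain ⟨g, hgQ, hgne⟩ := hnwc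
  have hconj : IsConj s (g * s * g⁻¹) := isConj_iff.mpr ⟨g, rfl⟩
  have hfused : CfsgLib.M12U.Fused s := fun h => hgne (h.2 g (by
    obtain ⟨a, -, ha⟩ := hgQ
    rw [← ha]
    exact (Subgroup.mem_centralizer_singleton_iff.mp a.2).symm))
  cases sw <;> cases sq
  · rcases CfsgLib.C192.T00.classify hfused hlen hrel hgen hcard hz with h | h
    exacts [Or.inl h, Or.inr (Or.inr (Or.inr h))]
  · exact absurd (CfsgLib.C192.T01.no_fusion hs hlen hrel hgen hcard hz (hQle hgQ) hconj) hgne
  · have Lo : CfsgLib.C192.K10.Loc10 s L := ⟨hlen, hrel, hgen, hcard, hz⟩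
    rcases CfsgLib.C192.K10.classify_fused Lo (CfsgLib.C192.K10.fused_class Lo (hQle hgQ) hconj hgne) with h | h | h
    exacts [Or.inl h, Or.inr (Or.inl h), Or.inr (Or.inr (Or.inl h))]
  · exact absurd (CfsgLib.C192.T11.no_fusion hs hlen hrel hgen hcard hz (hQle hgQ) hconj) hgne

end Cfsg.Agent.S3344
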