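-- Proof of statement S1523.
import Cfsg.Statements.S1523
import Cfsg.Agent.Char.ClassProducts
import Cfsg.Agent.Char.Galois
import Cfsg.Agent.Char.FreeOrbit

set_option autoImplicit false
open Cfsg

namespace Cfsg.Agent.S1523

/-- Let G be a finite group, p a prime, P a Sylow p-subgroup whose underlying set is a TI-subset of G, with L the set normaliser of P of odd order. Let Z ≠ ⊥ be a subgroup of P, normal in L and central in P, such that the centralisers in L of any two non-identity elements of Z have the same order. If ψ is an irreducible character of G taking the same value at all non-identity elements of Z, then for z ∈ Z, z ≠ 1, the value ψ z is an integer n with Nat.card P dividing ψ(1) − n (as integers, ψ 1 being the degree). -/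
theorem result {G : Type*} [Group G] [Finite G] (p : ℕ) [Fact p.Prime] (P : Sylow p G) (hTI : Cfsg.IsTISubset ((P : Subgroup G) : Set G)) (hodd : Odd (Nat.card (Subgroup.normalizer ((P : Subgroup G) : Set G)))) (Z : Subgroup G) (hZ1 : Z ≠ ⊥) (hZP : Z ≤ P) (hZn : ∀ x ∈ Subgroup.normalizer ((P : Subgroup G) : Set G), ∀ z ∈ Z, x * z * x⁻¹ ∈ Z) (hZc : ∀ z ∈ Z, ∀ y ∈ (P : Subgroup G), z * y = y * z) (hCL : ∀ z ∈ Z, ∀ z' ∈ Z, z ≠ 1 → z' ≠ 1 → Nat.card ↥(Subgroup.normalizer ((P : Subgroup G) : Set G) ⊓ Subgroup.centralizer ({z} : Set G)) = Nat.card ↥(Subgroup.normalizer ((P : Subgroup G) : Set G) ⊓ Subgroup.centralizer ({z'} : Set G))) (ψ : G → ℂ) (hψ : Cfsg.IsIrrCharacter G ψ) (hconst : ∀ z ∈ Z, ∀ z' ∈ Z, z ≠ 1 → z' ≠ 1 → ψ z = ψ z') (z : G) (hz : z ∈ Z) (hz1 : z ≠ 1) : ∃ n d : ℤ, ψ z = n ∧ ψ 1 = d ∧ (Nat.card (P : Subgroup G) : ℤ) ∣ d - n := by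
  classical
  haveI := Fintype.ofFinite G
  have hp : p.Prime := Fact.out
  set L := Subgroup.normalizer ((P : Subgroup G) : Set G)
  have hψc := CfsgLib.Char.IsIrrCharacter.isCharacter hψ
  have hcl := CfsgLib.Char.IsIrrCharacter.isClassFunction hψ
  have hzP := hZP hz
  -- the value is a rational integer
  obtain ⟨n, hn⟩ : ∃ n : ℤ, ψ z = n := by
    refine CfsgLib.Char.IsCharacter.exists_int_apply hψc fun t ht => ?_
    refine hconst _ (Subgroup.pow_mem Z hz t) _ hz (fun h => hz1 ?_) hz1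
    exact (powCoprime (Nat.coprime_comm.1 ht)).injective (h.trans (one_pow t).symm)
  obtain ⟨d, -, hd⟩ := CfsgLib.Char.IsIrrCharacter.exists_degree hψ
  refine ⟨n, d, hn, by rw [hd]; push_cast; rfl, ?_⟩
  have hval : ∀ w ∈ Z, w ≠ 1 → ψ w = n := fun w hw hw1 => (hconst w hw z hz hw1 hz1).trans hn
  -- no element of the normaliser inverts `z`
  have hreal : ∀ g : G, g * z * g⁻¹ ≠ z⁻¹ := by
    intro g hg
    have hgL : g ∈ L := by
      by_contra hgL
      exact hz1 (hTI g hgL z hzP (hg ▸ inv_mem hzP))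
    have h2 : Commute (g ^ 2) z := by
      have h3 : g * z⁻¹ * g⁻¹ = z := by rw [← conj_inv, hg, inv_inv]
      have h4 : g ^ 2 * z * (g ^ 2)⁻¹ = z :=
        calc g ^ 2 * z * (g ^ 2)⁻¹ = g * (g * z * g⁻¹) * g⁻¹ := by rw [pow_two]; group
          _ = z := by rw [hg, h3]
      exact mul_inv_eq_iff_eq_mul.1 h4
    have ho : Odd (orderOf g) := by
      have := hodd.of_dvd_nat (orderOf_dvd_natCard (⟨g, hgL⟩ : L))
      rwa [Subgroup.orderOf_mk] at this
    obtain ⟨i, hi⟩ := exists_pow_eq_self_of_coprime (n := 2) (x := g) ho.coprime_two_left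
    have h5 : Commute g z := hi ▸ h2.pow_left i
    rw [h5.eq, mul_inv_cancel_right] at hg
    have hzo : orderOf z ∣ 2 := orderOf_dvd_of_pow_eq_one (by
      rw [pow_two]; nth_rw 2 [hg]; rw [mul_inv_cancel])
    have hzL : Odd (orderOf z) := by
      have := hodd.of_dvd_nat (orderOf_dvd_natCard (⟨z, Subgroup.le_normalizer hzP⟩ : L))
      rwa [Subgroup.orderOf_mk] at this
    rcases (Nat.dvd_prime Nat.prime_two).1 hzo with h | h
    · exact hz1 (orderOf_eq_one_iff.1 h)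
    · rw [h] at hzL; exact absurd hzL (by decide)
  set C := Finset.univ.filter fun x : G => IsConj z x with hC
  set Z0 := C.filter fun x => x ∈ Z with hZ0
  have hmemC : ∀ u, u ∈ C ↔ IsConj z u := fun u => by simp [hC]
  have hne1 : ∀ u ∈ C, u ≠ 1 := fun u hu h => hz1 (isConj_one_left.1 (h ▸ (hmemC u).1 hu))
  -- a class member centralised by a nontrivial element of `P` lies in `Z`
  have hfree : ∀ u ∈ C, ∀ y ∈ (P : Subgroup G), y ≠ 1 → y * u = u * y → u ∈ Z := by
    intro u hu y hy hy1 hyu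
    have huL : u ∈ L := by
      by_contra huL
      refine hy1 (hTI u huL y hy ?_)
      rw [← hyu, mul_inv_cancel_right]
      exact hy
    obtain ⟨g, hg⟩ := isConj_iff.1 ((hmemC u).1 hu)
    have hup : IsPGroup p (Subgroup.zpowers u) := by
      have h1 : IsPGroup p (Subgroup.zpowers z) :=
        P.isPGroup'.to_le (Subgroup.zpowers_le.2 hzP)
      have h2 := h1.map (MulAut.conj g).toMonoidHom
      rw [MonoidHom.map_zpowers] at h2
      rwa [MulEquiv.coe_toMonoidHom, MulAut.conj_apply, hg] at h2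
    have huP : u ∈ (P : Subgroup G) := by
      have h := P.3 (hup.to_sup_of_normal_right' P.isPGroup' (Subgroup.zpowers_le.2 huL)) le_sup_right
      exact h ▸ (le_sup_left (a := Subgroup.zpowers u)) (Subgroup.mem_zpowers u)
    have hgL : g ∈ L := by
      by_contra hgL
      exact hz1 (hTI g hgL z hzP (hg ▸ huP))
    exact hg ▸ hZn g hgL z hz
  have hfixZ : ∀ u ∈ Z, ∀ y ∈ (P : Subgroup G), y * u * y⁻¹ = u := fun u hu y hy => by
    rw [← hZc u hu y hy, mul_inv_cancel_right]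
  have hCconj : ∀ y : G, ∀ u, u ∈ C ↔ y * u * y⁻¹ ∈ C := fun y u => by
    rw [hmemC, hmemC]
    exact ⟨fun h => h.trans (isConj_iff.2 ⟨y, rfl⟩),
      fun h => h.trans (isConj_iff.2 ⟨y⁻¹, by group⟩)⟩
  haveI := Fintype.ofFinite P
  -- a free orbit sum
  have horb : ∀ F : G × G → ℂ, (∀ q, IsIntegral ℤ (F q)) →
      (∀ (y : G) q, F (y * q.1 * y⁻¹, y * q.2 * y⁻¹) = F q) →
      ∃ w : ℂ, IsIntegral ℤ w ∧
        ∑ q ∈ C ×ˢ C, F q = ∑ q ∈ Z0 ×ˢ Z0, F q + (Nat.card P : ℂ) * w := by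
    intro F hFint hFinv
    set D := (C ×ˢ C).filter fun q : G × G => ¬ (q.1 ∈ Z ∧ q.2 ∈ Z) with hD
    have hDconj : ∀ y ∈ (P : Subgroup G), ∀ q ∈ D, (y * q.1 * y⁻¹, y * q.2 * y⁻¹) ∈ D := by
      intro y hy q hq
      simp only [hD, Finset.mem_filter, Finset.mem_product] at hq ⊢
      refine ⟨⟨(hCconj y _).1 hq.1.1, (hCconj y _).1 hq.1.2⟩, fun h => hq.2 ⟨?_, ?_⟩⟩
      · have := hfixZ _ h.1 y⁻¹ (inv_mem hy)
        rw [show y⁻¹ * (y * q.1 * y⁻¹) * y⁻¹⁻¹ = q.1 by group] at this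
        rw [this]
        exact h.1
      · have := hfixZ _ h.2 y⁻¹ (inv_mem hy)
        rw [show y⁻¹ * (y * q.2 * y⁻¹) * y⁻¹⁻¹ = q.2 by group] at this
        rw [this]
        exact h.2
    letI : MulAction P {q : G × G // q ∈ D} :=
      { smul := fun y q => ⟨((y : G) * q.1.1 * (y : G)⁻¹, (y : G) * q.1.2 * (y : G)⁻¹),
          hDconj _ y.2 _ q.2⟩
        one_smul := fun q => Subtype.ext (by
          show (((1 : P) : G) * q.1.1 * ((1 : P) : G)⁻¹, _) = q.1
          simp)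
        mul_smul := fun a b q => Subtype.ext (by
          show (((a * b : P) : G) * q.1.1 * ((a * b : P) : G)⁻¹, ((a * b : P) : G) * q.1.2 * ((a * b : P) : G)⁻¹)
            = ((a : G) * ((b : G) * q.1.1 * (b : G)⁻¹) * (a : G)⁻¹,
              (a : G) * ((b : G) * q.1.2 * (b : G)⁻¹) * (a : G)⁻¹)
          simp [mul_assoc]) }
    have hfree' : ∀ (y : P) (q : {q : G × G // q ∈ D}), y • q = q → y = 1 := by
      intro y q hq
      by_contra hy1
      have hy1' : (y : G) ≠ 1 := fun h => hy1 (Subtype.ext h)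
      have hmem := q.2
      simp only [hD, Finset.mem_filter, Finset.mem_product] at hmem
      have h1 := congrArg (fun r : {q : G × G // q ∈ D} => r.1.1) hq
      have h2 := congrArg (fun r : {q : G × G // q ∈ D} => r.1.2) hq
      exact hmem.2 ⟨hfree _ hmem.1.1 y y.2 hy1' (mul_inv_eq_iff_eq_mul.1 h1),
        hfree _ hmem.1.2 y y.2 hy1' (mul_inv_eq_iff_eq_mul.1 h2)⟩
    obtain ⟨w, hw, hsum⟩ := CfsgLib.Char.sum_eq_card_mul_of_free hfree' (fun q => F q.1)
      (fun q => hFint q.1) (fun y q => hFinv (y : G) q.1)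
    refine ⟨w, hw, ?_⟩
    rw [Finset.sum_coe_sort D F, hD] at hsum
    rw [show Z0 ×ˢ Z0 = (C ×ˢ C).filter fun q : G × G => q.1 ∈ Z ∧ q.2 ∈ Z by
        ext q; simp [hZ0, and_assoc, and_left_comm],
      ← Finset.sum_filter_add_sum_filter_not (C ×ˢ C) (fun q : G × G => q.1 ∈ Z ∧ q.2 ∈ Z) F]
    exact congrArg (_ + ·) hsum
  set r := Z0.card with hr
  have hval' : ∀ u ∈ C, ψ u = n := fun u hu => by
    rw [← CfsgLib.Char.IsClassFunction.apply_eq_of_isConj hcl ((hmemC u).1 hu), hn]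
  -- the two sums
  obtain ⟨w1, hw1, hs1⟩ := horb (fun q => ψ (q.1 * q.2))
    (fun q => CfsgLib.Char.IsCharacter.isIntegral hψc _) (fun y q => by
      rw [← hcl (q.1 * q.2) y]; congr 1; group)
  obtain ⟨w2, hw2, hs2⟩ := horb (fun q => ψ (q.1 * q.2⁻¹))
    (fun q => CfsgLib.Char.IsCharacter.isIntegral hψc _) (fun y q => by
      rw [← hcl (q.1 * q.2⁻¹) y]; congr 1; group)
  have hLHS : ∀ f : G → G, (∀ v ∈ C, ψ (f v) = n) →
      ∑ q ∈ C ×ˢ C, ψ (q.1 * f q.2) = (C.card : ℂ) * ((C.card : ℂ) * n * n / ψ 1) := by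
    intro f hf
    rw [Finset.sum_product_right, Finset.sum_congr rfl fun v hv => ?_, Finset.sum_const, nsmul_eq_mul]
    rw [show ∑ u ∈ C, ψ (u * f v) = (Nat.card {x : G // IsConj z x} : ℂ) * ψ z * ψ (f v) / ψ 1 from
      CfsgLib.Char.IsIrrCharacter.sum_class_apply_mul hψ z (f v), hn, hf v hv,
      Nat.card_eq_fintype_card, Fintype.card_subtype]
  have hinvC : ∀ v ∈ C, ψ v⁻¹ = n := fun v hv => by
    obtain ⟨g, hg⟩ := isConj_iff.1 ((hmemC v).1 hv)
    rw [← CfsgLib.Char.IsClassFunction.apply_eq_of_isConj hcl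
      (isConj_iff.2 ⟨g, show g * z⁻¹ * g⁻¹ = v⁻¹ by rw [← conj_inv, hg]⟩)]
    exact hval _ (Z.inv_mem hz) fun h => hz1 (inv_eq_one.1 h)
  have e1 := hLHS (fun v => v) hval'
  have e2 := hLHS (fun v => v⁻¹) hinvC
  have hR1 : ∑ q ∈ Z0 ×ˢ Z0, ψ (q.1 * q.2) = (r : ℂ) * r * n := by
    rw [Finset.sum_congr rfl (g := fun _ => (n : ℂ)) fun q hq => ?_, Finset.sum_const,
      Finset.card_product, nsmul_eq_mul, Nat.cast_mul]
    simp only [hZ0, Finset.mem_product, Finset.mem_filter] at hq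
    refine hval _ (Z.mul_mem hq.1.2 hq.2.2) fun h => ?_
    obtain ⟨g, hg⟩ := isConj_iff.1 ((hmemC _).1 hq.1.1)
    obtain ⟨g', hg'⟩ := isConj_iff.1 ((hmemC _).1 hq.2.1)
    refine hreal (g⁻¹ * g') ?_
    rw [eq_inv_of_mul_eq_one_right h, ← hg] at hg'
    calc g⁻¹ * g' * z * (g⁻¹ * g')⁻¹ = g⁻¹ * (g' * z * g'⁻¹) * g := by group
      _ = z⁻¹ := by rw [hg']; group
  have hR2 : ∑ q ∈ Z0 ×ˢ Z0, ψ (q.1 * q.2⁻¹) = (r : ℂ) * r * n + (r : ℂ) * ((d : ℂ) - n) := by
    have : ∀ q ∈ Z0 ×ˢ Z0, ψ (q.1 * q.2⁻¹) = (n : ℂ) + (if q.1 = q.2 then ((d : ℂ) - n) else 0) := by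
      intro q hq
      simp only [hZ0, Finset.mem_product, Finset.mem_filter] at hq
      by_cases h : q.1 = q.2
      · rw [if_pos h, h, mul_inv_cancel, hd]; ring
      · rw [if_neg h, add_zero]
        exact hval _ (Z.mul_mem hq.1.2 (Z.inv_mem hq.2.2)) fun h' => h (mul_inv_eq_one.1 h')
    rw [Finset.sum_congr rfl this, Finset.sum_add_distrib, Finset.sum_const, Finset.card_product,
      nsmul_eq_mul, Nat.cast_mul, Finset.sum_product]
    congr 1
    simp [hr]
    ring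
  rw [e1, hR1] at hs1
  rw [e2, hR2] at hs2
  have hkey : (r : ℂ) * ((d : ℂ) - n) = (Nat.card P : ℂ) * (w1 - w2) := by
    linear_combination hs1 - hs2
  have hP0 : (Nat.card P : ℂ) ≠ 0 := Nat.cast_ne_zero.2 Nat.card_pos.ne'
  obtain ⟨m, -, hm⟩ := CfsgLib.Char.exists_int_of_isIntegral_rat
    (z := w1 - w2) (((r : ℤ) * ((d : ℤ) - n) : ℤ) / (Nat.card P : ℚ)) (hw1.sub hw2) (by
      push_cast
      rw [hkey, mul_div_cancel_left₀ _ hP0])
  have hdvd : (Nat.card P : ℤ) ∣ (r : ℤ) * ((d : ℤ) - n) := ⟨m, by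
    rw [div_eq_iff (Nat.cast_ne_zero.2 Nat.card_pos.ne')] at hm
    have : ((r : ℤ) * ((d : ℤ) - n) : ℤ) = m * (Nat.card P : ℤ) := by exact_mod_cast hm
    rw [this, mul_comm]⟩
  -- `r` is prime to `p`
  have hrcop : r.Coprime (Nat.card P) := by
    obtain ⟨j, hj⟩ := IsPGroup.iff_card.1 P.isPGroup'
    rw [hj]
    refine Nat.Coprime.pow_right _ (Nat.coprime_comm.1 (hp.coprime_iff_not_dvd.2 fun hpr => ?_))
    rcases Nat.eq_zero_or_pos j with rfl | hj0
    · have : (P : Subgroup G) = ⊥ := Subgroup.card_eq_one.1 (hj.trans (pow_zero p))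
      exact hz1 (Subgroup.mem_bot.1 (this ▸ hzP))
    have hcP : ¬ p ∣ C.card := fun hd' => P.not_dvd_index (hd'.trans (by
      refine dvd_trans ?_ (Subgroup.index_dvd_of_le (show (P : Subgroup G) ≤
        Subgroup.centralizer ({z} : Set G) from fun y hy =>
          Subgroup.mem_centralizer_singleton_iff.2 (hZc z hz y hy).symm))
      refine dvd_of_eq ?_
      have h1 := CfsgLib.Char.card_conj_class_mul_card_centralizer z
      have h2 := (Subgroup.centralizer ({z} : Set G)).card_mul_index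
      rw [← h1, mul_comm (Nat.card {x : G // IsConj z x}), Nat.card_eq_fintype_card
        (α := {x : G // IsConj z x}), Fintype.card_subtype] at h2
      exact (Nat.eq_of_mul_eq_mul_left Nat.card_pos h2).symm))
    obtain ⟨w, hw, hcw⟩ := horb (fun _ => 1) (fun _ => isIntegral_one) (fun _ _ => rfl)
    simp only [Finset.sum_const, Finset.card_product, nsmul_eq_mul, mul_one, Nat.cast_mul] at hcw
    have hpC : p ∣ C.card * C.card := by
      obtain ⟨t, ht⟩ := hpr
      have hpP : p ∣ Nat.card P := hj ▸ dvd_pow_self p hj0.ne'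
      obtain ⟨s, hs⟩ := hpP
      refine CfsgLib.Char.dvd_of_isIntegral_div hp.ne_zero ?_
      have : ((C.card * C.card : ℕ) : ℂ) / (p : ℂ) = (t : ℂ) * r + (s : ℂ) * w := by
        rw [div_eq_iff (Nat.cast_ne_zero.2 hp.ne_zero), Nat.cast_mul, hcw, hs, ← hr, ht]
        push_cast; ring
      rw [this]
      exact (((isIntegral_algebraMap (R := ℤ) (A := ℂ) (x := (t : ℤ))).mul
        (isIntegral_algebraMap (R := ℤ) (A := ℂ) (x := (r : ℤ)))).add
        ((isIntegral_algebraMap (R := ℤ) (A := ℂ) (x := (s : ℤ))).mul hw))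
    exact hcP ((hp.dvd_mul.1 hpC).elim id id)
  exact (Int.isCoprime_iff_gcd_eq_one.2 (by exact_mod_cast hrcop.symm)).dvd_of_dvd_mul_left hdvd

end Cfsg.Agent.S1523
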