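import Cfsg.Statements.S3736
import Cfsg.Agent.Solvable.SpecialAction
import Cfsg.Agent.Solvable.CoprimeAbelian
import Cfsg.Agent.Solvable.CoprimeAct
import Cfsg.Agent.FGSB.OrderPFix

set_option autoImplicit false
open Cfsg

namespace Cfsg.Agent.S3736

open Subgroup
open scoped commutatorElement

theorem normalizer_le_normalizer_map {X : Type*} [Group X] (P : Subgroup X) (H : Subgroup P)
    (hH : H.Characteristic) : normalizer (P : Set X) ≤ normalizer (H.map P.subtype : Set X) := by
  intro g hg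
  have key : ∀ g' : normalizer (P : Set X), ∀ y ∈ H.map P.subtype,
      (g' : X) * y * (g' : X)⁻¹ ∈ H.map P.subtype := by
    rintro g' _ ⟨z, hz, rfl⟩
    exact ⟨P.normalizerMonoidHom g' z, characteristic_iff_le_comap.1 hH _ hz, rfl⟩
  rw [mem_normalizer_iff]
  refine fun y => ⟨key ⟨g, hg⟩ y, fun h => ?_⟩
  have := key ⟨g⁻¹, inv_mem hg⟩ _ h
  simpa [mul_assoc] using this

/-- The Hall–Higman reduction for a minimal non-trivial action. Let B, A and P be subgroups of a finite group with P a p-group, B normalizing P, and A a normal subgroup of B of order prime to p. Suppose A does not centralize P but centralizes every proper B-invariant subgroup of P. Then [P, A] = P; P is elementary abelian or special; B acts irreducibly on P/Φ(P), that is, the only B-invariant subgroups of P containing Φ(P) are Φ(P) and P; and if p is odd then every element of P has order dividing p. -/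
theorem result {X : Type*} [Group X] [Finite X] {p : ℕ} [Fact p.Prime] (B A P : Subgroup X) (hP : IsPGroup p P) (hBP : B ≤ Subgroup.normalizer (P : Set X)) (hAB : A ≤ B) (hAn : B ≤ Subgroup.normalizer (A : Set X)) (hAp : (Nat.card A).Coprime p) (hnt : ⁅P, A⁆ ≠ ⊥) (hmin : ∀ U : Subgroup X, U < P → B ≤ Subgroup.normalizer (U : Set X) → ⁅U, A⁆ = ⊥) : ⁅P, A⁆ = P ∧ (Cfsg.IsElementaryAbelian p P ∨ Cfsg.IsSpecial p ↥P) ∧ (∀ U : Subgroup X, (frattini ↥P).map P.subtype ≤ U → U ≤ P → B ≤ Subgroup.normalizer (U : Set X) → U = (frattini ↥P).map P.subtype ∨ U = P) ∧ (p ≠ 2 → ∀ x ∈ P, x ^ p = 1) := by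
  have hpp := (Fact.out : p.Prime)
  have hAP : A ≤ normalizer (P : Set X) := hAB.trans hBP
  obtain ⟨e, he⟩ := IsPGroup.iff_card.1 hP
  have hcop : (Nat.card A).Coprime (Nat.card P) := he ▸ hAp.pow_right e
  have : Group.IsNilpotent P := hP.isNilpotent
  have hsolv : Group.IsSolvable A ∨ Group.IsSolvable P := Or.inr inferInstance
  have hcP : ⁅P, A⁆ ≤ P := le_normalizer_iff_commutator_le_left.1 hAP
  have hcomm : ⁅P, A⁆ = P := by
    refine hcP.eq_or_lt.resolve_right fun hlt => hnt ?_
    rw [← CfsgLib.CoprimeAct.commutator_commutator hAP hcop hsolv]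
    refine hmin _ hlt fun b hb => ?_
    rw [← CfsgLib.SZ.conj_smul_eq_iff_mem_normalizer, CfsgLib.SZ.conj_smul_eq_map,
      map_commutator, ← CfsgLib.SZ.conj_smul_eq_map, ← CfsgLib.SZ.conj_smul_eq_map,
      CfsgLib.SZ.conj_smul_eq_iff_mem_normalizer.2 (hBP hb),
      CfsgLib.SZ.conj_smul_eq_iff_mem_normalizer.2 (hAn hb)]
  have hne : P ≠ ⊥ := fun h => hnt (by rw [h, commutator_bot_left])
  have hnP : Nontrivial P := (nontrivial_iff_ne_bot P).2 hne
  -- proper invariant subgroups are fixed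
  have hfix : ∀ U : Subgroup X, U < P → B ≤ normalizer (U : Set X) →
      U ≤ centralizer (A : Set X) := fun U hU hB =>
    commutator_eq_bot_iff_le_centralizer.1 (hmin U hU hB)
  have hcharfix : ∀ H : Subgroup P, H.Characteristic → H ≠ ⊤ →
      H.map P.subtype ≤ centralizer (A : Set X) := by
    intro H hH hHt
    refine hfix _ ?_ (hBP.trans (normalizer_le_normalizer_map P H hH))
    refine lt_of_le_of_ne (map_subtype_le H) fun h => hHt ?_
    exact map_injective P.subtype_injective (h.trans (by rw [← MonoidHom.range_eq_map, range_subtype]))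
  have hfr : frattini P ≠ ⊤ := by
    intro h
    have : (⊥ : Subgroup P) = ⊤ := by
      refine frattini_nongenerating ?_
      rw [bot_sup_eq, h]
    exact bot_ne_top this
  have hΦfix := hcharfix (frattini P) inferInstance hfr
  by_cases hab : IsMulCommutative P
  · -- abelian case
    have hfree : P ⊓ centralizer (A : Set X) = ⊥ := by
      have h := CfsgLib.CoprimeAct.fixed_inf_commutator_abelian hAP hcop
      rwa [hcomm, inf_right_comm, inf_idem] at h
    have hΦ : frattini P = ⊥ := by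
      refine (map_eq_bot_iff_of_injective _ P.subtype_injective).1 (le_bot_iff.1 ?_)
      exact hfree ▸ le_inf (map_subtype_le _) hΦfix
    have hpow : ∀ x ∈ P, x ^ p = 1 := by
      intro x hx
      have h : (⟨x, hx⟩ : P) ^ p ∈ frattini P :=
        (CfsgLib.PGroupBasic.commutator_pow_le_frattini hP).2 ⟨x, hx⟩
      rw [hΦ, mem_bot] at h
      exact congrArg Subtype.val h
    refine ⟨hcomm, Or.inl ⟨hab, hpow⟩, fun U hU1 hU2 hUB => ?_, fun _ => hpow⟩
    rw [hΦ, Subgroup.map_bot]
    refine hU2.eq_or_lt.elim Or.inr fun hlt => Or.inl ?_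
    exact le_bot_iff.1 (hfree ▸ le_inf hU2 (hfix U hlt hUB))
  -- the action as automorphisms of `P`
  set A' : Subgroup (MulAut P) := (A.subgroupOf (normalizer (P : Set X))).map P.normalizerMonoidHom
    with hA'
  have hA'c : (Nat.card A').Coprime p := by
    refine hAp.coprime_dvd_left ((card_map_dvd _ _).trans ?_)
    rw [Nat.card_congr (subgroupOfEquivOfLe hAP).toEquiv]
  have hspec := CfsgLib.SpecialAction.special hP A' hA'c ?_ ?_
  rotate_left
  · refine eq_top_iff.2 fun x _ => ?_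
    set C := closure {x : P | ∃ g : P, ∃ a ∈ A', x = g⁻¹ * a g}
    have h : ⁅P, A⁆ ≤ C.map P.subtype := by
      rw [commutator_le]
      intro k hk a ha
      refine ⟨⟨k, hk⟩ * (P.normalizerMonoidHom ⟨a, hAP ha⟩) (⟨k, hk⟩ : P)⁻¹, subset_closure ?_, ?_⟩
      · exact ⟨(⟨k, hk⟩ : P)⁻¹, _, ⟨⟨a, hAP ha⟩, ha, rfl⟩, by rw [inv_inv]⟩
      · change k * (a * k⁻¹ * a⁻¹) = _
        rw [commutatorElement_def]; group
    obtain ⟨y, hy, hyx⟩ := h (hcomm.symm ▸ x.2 : (x : X) ∈ ⁅P, A⁆)
    rwa [← show y = x from Subtype.ext hyx]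
  · rintro H hH hHab _ ⟨a, ha, rfl⟩ h hh
    have hHt : H ≠ ⊤ := fun h => hab ⟨⟨fun x y => by
      subst h
      exact congrArg Subtype.val (hHab.is_comm.comm (⟨x, mem_top x⟩ : (⊤ : Subgroup P)) ⟨y, mem_top y⟩)⟩⟩
    refine Subtype.ext ?_
    change (a : X) * (h : X) * (a : X)⁻¹ = h
    have := mem_centralizer_iff.1 (hcharfix H hH hHt ⟨h, hh, rfl⟩) a ha
    change (a : X) * h = h * a at this
    rw [this, mul_inv_cancel_right]
  obtain ⟨hsp, hiff⟩ := hspec
  refine ⟨hcomm, Or.inr hsp, fun U hU1 hU2 hUB => ?_, fun hp2 => ?_⟩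
  · refine hU2.eq_or_lt.elim Or.inr fun hlt => Or.inl (le_antisymm ?_ hU1)
    intro u hu
    refine ⟨⟨u, hU2 hu⟩, ?_, rfl⟩
    rw [SetLike.mem_coe, hsp.2.1]
    refine (hiff _).2 ?_
    rintro _ ⟨a, ha, rfl⟩
    refine Subtype.ext ?_
    change (a : X) * u * (a : X)⁻¹ = u
    rw [mem_centralizer_iff.1 (hfix U hlt hUB hu) a ha, mul_inv_cancel_right]
  -- exponent `p`
  have hcl : commutator P ≤ center P := hsp.2.2.le
  have hpow : ∀ a : P, a ^ p ∈ center P := fun a => hsp.2.1 ▸
    (CfsgLib.PGroupBasic.commutator_pow_le_frattini hP).2 a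
  let W : Subgroup P :=
    { carrier := {x | x ^ p = 1}
      one_mem' := one_pow _
      inv_mem' := fun {x} (hx : x ^ p = 1) => show x⁻¹ ^ p = 1 by rw [inv_pow, hx, inv_one]
      mul_mem' := fun {x y} (hx : x ^ p = 1) (hy : y ^ p = 1) => show (x * y) ^ p = 1 by
        have h := CfsgLib.OrderPFix.small_pow_mul hcl hpow x y
        rw [CfsgLib.OrderPFix.small, if_neg hp2] at h
        rw [h, hx, hy, one_mul] }
  have hWc : W.Characteristic := characteristic_iff_le_comap.2 fun φ x (hx : x ^ p = 1) =>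
    show (φ x) ^ p = 1 by rw [← map_pow, hx, map_one]
  by_cases hWt : W = ⊤
  · intro x hx
    exact congrArg Subtype.val (show (⟨x, hx⟩ : P) ∈ W from hWt ▸ mem_top _)
  exfalso
  refine hnt (commutator_eq_bot_iff_le_centralizer.2 fun t ht => mem_centralizer_iff.2 fun a ha => ?_)
  refine (CfsgLib.OrderPFix.commute_of_commute_small hP
    (hAp.coprime_dvd_left (orderOf_dvd_natCard A ha)) (hAP ha) (fun s hs hsm => ?_) t ht).eq
  have hs1 : (⟨s, hs⟩ : P) ^ p = 1 := Subtype.ext (by
    rcases hsm with h | ⟨h, -⟩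
    · change s ^ p = 1; rw [← h, pow_orderOf_eq_one]
    · exact absurd h hp2)
  exact mem_centralizer_iff.1 (hcharfix W hWc hWt ⟨⟨s, hs⟩, hs1, rfl⟩) a ha

end Cfsg.Agent.S3736
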