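import Cfsg.Statements.S1443
import Cfsg.Agent.Invol.AbelianSignalizer
-- import your own Cfsg.Agent.* helpers here

set_option autoImplicit false
open Cfsg

namespace Cfsg.Agent.S1443

/-- Let G be a finite group, p an odd prime, H a p-subgroup, E an elementary abelian subgroup of H, and A a subgroup of order coprime to p normalizing H. If A centralizes every element of order p in H ∩ C_G(E), then A centralizes H. -/
theorem result {G : Type*} [Group G] [Finite G] (p : ℕ) [Fact p.Prime] (hp : p ≠ 2) (H E A : Subgroup G) (hH : IsPGroup p H) (hE : E ≤ H) (hEe : Cfsg.IsElementaryAbelian p E)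
    (hA : (A ≤ Subgroup.normalizer (H : Set G))) (hcop : (Nat.card A).Coprime p)
    (hfix : ∀ x ∈ (H ⊓ Subgroup.centralizer (E : Set G)), orderOf x = p → A ≤ Subgroup.centralizer ({x} : Set G)) :
    A ≤ Subgroup.centralizer (H : Set G) := by
  have hAE : A ≤ Subgroup.centralizer (E : Set G) := by
    intro a ha
    refine Subgroup.mem_centralizer_iff.2 fun e he => ?_
    by_cases he1 : e = 1
    · simp [he1]
    have heC : e ∈ H ⊓ Subgroup.centralizer (E : Set G) := ⟨hE he, Subgroup.mem_centralizer_iff.2 fun f hf =>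
      congrArg Subtype.val (hEe.1.is_comm.comm ⟨f, hf⟩ ⟨e, he⟩)⟩
    exact (Subgroup.mem_centralizer_singleton_iff.1 (hfix e heC (orderOf_eq_prime (hEe.2 e he) he1) ha)).symm
  have hEA : E ≤ Subgroup.normalizer (A : Set G) :=
    (Subgroup.le_centralizer_iff.1 hAE).trans (Subgroup.centralizer_le_normalizer _)
  refine fun a ha => Subgroup.mem_centralizer_iff.2 fun x hx => ?_
  refine ((CfsgLib.AbelianSignalizer.centralizes hp (hH.to_le hE) hcop hEA _ H rfl hH
    (hE.trans Subgroup.le_normalizer) hA ?_) x hx a ha).eq.symm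
  intro y hy hyp hyE q hq
  by_cases hy1 : y = 1
  · rw [hy1]; exact Commute.one_right q
  exact Subgroup.mem_centralizer_singleton_iff.1 (hfix y ⟨hy, Subgroup.mem_centralizer_iff.2 fun f hf => (hyE f hf).eq⟩
    (orderOf_eq_prime hyp hy1) hq)

end Cfsg.Agent.S1443
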