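import Cfsg.Statements.S1358
import Cfsg.Agent.OddLocal.SigmaPrimeAbelian
import Cfsg.Agent.OddLocal.ExceptionalBase
-- import your own Cfsg.Agent.* helpers here

set_option autoImplicit false
open Cfsg
open Subgroup

namespace Cfsg.Agent.S1358

/-- Let G be a minimal simple group of odd order and M a maximal subgroup with standard factorisation M = K U M_σ. Then for every prime p, every Sylow p-subgroup of U is abelian and has no elementary abelian subgroup of order p ^ 3. -/
theorem result {G : Type*} [Group G] [Finite G] (hG : Cfsg.IsMinSimpleOddOrder G)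
    (M : Subgroup G) (hM : IsCoatom M) (K U : Subgroup G) (hKU : Cfsg.IsSigmaDecomposition M K U) :
    ∀ (p : ℕ), p.Prime → ∀ P : Sylow p U, IsMulCommutative (P : Subgroup U) ∧ Cfsg.PRankLE p 2 (P : Subgroup U) := by
  intro p hp P
  haveI := Fact.mk hp
  have hUM : U ≤ M := hKU.compl.1
  have hKM : K ⊔ Cfsg.sigmaCore M ≤ M := hKU.compl.2.1
  have hdis : U ⊓ Cfsg.sigmaCore M = ⊥ :=
    le_bot_iff.1 ((inf_le_inf_left U le_sup_right).trans hKU.compl.2.2.1.le)
  set V := U ⊔ Cfsg.sigmaCore M
  have hVc : Nat.card V = Nat.card U * Nat.card ↥(Cfsg.sigmaCore M) :=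
    CfsgLib.Solvable.card_sup_of_disjoint (hUM.trans (CfsgLib.OddLocal.TH.le_normalizer_core M)) hdis
  have hσU : ∀ q : ℕ, q.Prime → q ∣ Nat.card U → q ∉ Cfsg.sigma M := fun q hq hd hσ => by
    obtain ⟨h1, -, -⟩ := CfsgLib.OddLocal.Sig.sigma_core hG hM
    refine h1.2.2 q hq hσ (hd.trans ?_)
    have h2 : Nat.card U * Nat.card ↥(Cfsg.sigmaCore M) ∣
        (Cfsg.sigmaCore M).relIndex M * Nat.card ↥(Cfsg.sigmaCore M) := by
      rw [← hVc, mul_comm, CfsgLib.InvariantHall.relIndex_mul_card h1.1]
      exact card_dvd_of_le (sup_le hUM h1.1)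
    exact (Nat.mul_dvd_mul_iff_right Nat.card_pos).1 h2
  refine ⟨?_, fun E hE hEp => ?_⟩
  · by_cases hP1 : (P : Subgroup U) = ⊥
    · rw [hP1]; exact ⟨⟨fun a b => Subsingleton.elim _ _⟩⟩
    have hd : p ∣ Nat.card ((P : Subgroup U).map U.subtype) := CfsgLib.OddLocal.Excep.isPGroup_ne_bot_dvd
      (P.2.map _) (fun h => hP1 ((map_eq_bot_iff_of_injective _ U.subtype_injective).1 h))
    have hc := CfsgLib.OddLocal.Tau.commutative_of_nilpotent hG hM ((map_subtype_le _).trans hUM)
      (P.2.map U.subtype).isNilpotent (fun q hq hq' => hσU q hq (hq'.trans (card_dvd_of_le (map_subtype_le _))))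
    exact ⟨⟨fun a b => Subtype.ext (Subtype.ext (show ((a : U) : G) * ((b : U) : G) = (b : U) * (a : U) from
      congrArg Subtype.val (hc.is_comm.comm
      ⟨((a : U) : G), mem_map_of_mem U.subtype a.2⟩ ⟨((b : U) : G), mem_map_of_mem U.subtype b.2⟩)))⟩⟩
  · by_contra hgt
    have h3 : Nat.card ((E.map (P : Subgroup U).subtype).map U.subtype) = Nat.card E := by
      rw [card_map_of_injective U.subtype_injective, card_map_of_injective (P : Subgroup U).subtype_injective]
    have h1 : Cfsg.PRankLE p 2 M := by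
      by_contra h
      have hdU : p ∣ Nat.card U := by
        have hE1 : E ≠ ⊥ := fun e => hgt (by rw [e, card_bot]; exact Nat.one_le_pow _ _ hp.pos)
        have := CfsgLib.OddLocal.Excep.isPGroup_ne_bot_dvd ((P.2.to_le (map_subtype_le E)).map U.subtype)
          (fun e => hE1 ((map_eq_bot_iff_of_injective _ (P : Subgroup U).subtype_injective).1
            ((map_eq_bot_iff_of_injective _ U.subtype_injective).1 e)))
        exact this.trans (card_dvd_of_le (map_subtype_le _))
      exact hσU p hp hdU (CfsgLib.OddLocal.Sig.alpha_subset_sigma hG hM ⟨hp, h⟩)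
    have h2 := CfsgLib.OddLocal.Uniq.rankLE_elementary h1 ((map_subtype_le _).trans hUM)
      (B := (E.map (P : Subgroup U).subtype).map U.subtype) ⟨by
        haveI := hE; exact Subgroup.map_isMulCommutative _ _, by
        rintro _ ⟨_, ⟨x, hx, rfl⟩, rfl⟩; rw [← map_pow, ← map_pow, hEp x hx, map_one, map_one]⟩
    exact hgt (h3 ▸ h2)

end Cfsg.Agent.S1358
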