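import Cfsg.Statements.S1416
import Cfsg.Agent.OddLocal.Exceptional
-- import your own Cfsg.Agent.* helpers here

set_option autoImplicit false
open Cfsg

namespace Cfsg.Agent.S1416

/-- Let G be a minimal simple group of odd order, M a maximal subgroup, p a prime and A ≤ M elementary abelian of order p ^ 2. Then C_G(A) ≤ M. If moreover for every subgroup A₀ of A of order p, M is not the unique maximal subgroup containing N_G(A₀), then p ∈ σ(M), M_α = 1 and M_σ is nilpotent. -/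
theorem result {G : Type*} [Group G] [Finite G] (hG : Cfsg.IsMinSimpleOddOrder G)
    (M : Subgroup G) (hM : IsCoatom M) (p : ℕ) [Fact p.Prime] (A : Subgroup G) (hA : (A ≤ M ∧ Cfsg.IsElementaryAbelian p A ∧ Nat.card A = p ^ 2)) :
    Subgroup.centralizer (A : Set G) ≤ M ∧
      ((∀ A₀ : Subgroup G, A₀ ≤ A → Nat.card A₀ = p →
          ¬ (Subgroup.normalizer (A₀ : Set G) ≤ M ∧ ∀ L : Subgroup G, IsCoatom L → Subgroup.normalizer (A₀ : Set G) ≤ L → L = M)) →
        p ∈ Cfsg.sigma M ∧ Cfsg.alphaCore M = ⊥ ∧ Group.IsNilpotent (Cfsg.sigmaCore M)) := by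
  obtain ⟨hAM, hA, hA2⟩ := hA
  have key : (∀ A₀ : Subgroup G, A₀ ≤ A → Nat.card A₀ = p →
      ¬ (Subgroup.normalizer (A₀ : Set G) ≤ M ∧ ∀ L : Subgroup G, IsCoatom L → Subgroup.normalizer (A₀ : Set G) ≤ L → L = M)) →
      Subgroup.centralizer (A : Set G) ≤ M ∧ p ∈ Cfsg.sigma M ∧ Cfsg.alphaCore M = ⊥ ∧
        Group.IsNilpotent (Cfsg.sigmaCore M) := by
    intro h
    have h' : CfsgLib.OddLocal.Excep.NoLine p A M := h
    have hmax := CfsgLib.OddLocal.Excep.maxElem_of_not_unique hG hA hA2 (h'.not_unique hG hA hA2 hM hAM)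
    have hα := h'.alpha_empty hG hA hA2 hmax hM hAM
    refine ⟨h'.centralizer_le hG hA hA2 hmax hM hAM, h'.sigma_mem hG hA hA2 hmax hM hAM,
      CfsgLib.OddLocal.Excep.eq_bot_of_alpha_empty hG hM hα, ?_⟩
    exact CfsgLib.CN.nilpotent_of_le (CfsgLib.OddLocal.Bender.nilpotent_fitting M)
      ((CfsgLib.OddLocal.Sig.sigma_core hG hM).2.2.trans (CfsgLib.OddLocal.Excep.derived_le_fitting hG hM hα))
  refine ⟨?_, fun h => (key h).2⟩
  by_cases h : ∀ A₀ : Subgroup G, A₀ ≤ A → Nat.card A₀ = p →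
      ¬ (Subgroup.normalizer (A₀ : Set G) ≤ M ∧ ∀ L : Subgroup G, IsCoatom L → Subgroup.normalizer (A₀ : Set G) ≤ L → L = M)
  · exact (key h).1
  · push Not at h
    obtain ⟨A₀, hA₀, -, hle, -⟩ := h
    exact ((Subgroup.centralizer_le hA₀).trans (Subgroup.centralizer_le_normalizer _)).trans hle

end Cfsg.Agent.S1416
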