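import Cfsg.Statements.S1442
import Cfsg.Agent.OddLocal.CNQuotient
import Cfsg.Agent.Signalizer.Basic
import Cfsg.Agent.Solvable.CoprimeAct
-- import your own Cfsg.Agent.* helpers here

set_option autoImplicit false
open Cfsg

namespace Cfsg.Agent.S1442

/-- Let G be a finite group, H a nilpotent subgroup and A a subgroup normalizing H with the orders of A and H coprime. Put C = H ∩ C_G(A). If H ∩ C_G(C) ≤ C then A centralizes H. -/
theorem result {G : Type*} [Group G] [Finite G] (H A : Subgroup G) (hH : Group.IsNilpotent H) (hA : (A ≤ Subgroup.normalizer (H : Set G))) (hcop : (Nat.card A).Coprime (Nat.card H))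
    (hC : H ⊓ Subgroup.centralizer (((H ⊓ Subgroup.centralizer (A : Set G)) : Subgroup G) : Set G) ≤ (H ⊓ Subgroup.centralizer (A : Set G))) :
    A ≤ Subgroup.centralizer (H : Set G) := by
  set C := H ⊓ Subgroup.centralizer (A : Set G) with hCdef
  refine Subgroup.le_centralizer_iff.1 (CfsgLib.FGSA.le_of_prime_power_mem fun r hr h hh hhr => ?_)
  haveI := Fact.mk hr
  obtain ⟨Hr, hHrle, hHrp, hHr⟩ := CfsgLib.FGSA.exists_pPart hH r
  have hord : ∀ x ∈ Hr, ∃ k, orderOf x = r ^ k := fun x hx => by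
    obtain ⟨k, hk⟩ := IsPGroup.iff_orderOf.1 hHrp ⟨x, hx⟩
    exact ⟨k, by rwa [← Subgroup.orderOf_coe] at hk⟩
  have hnorm : ∀ U : Subgroup G, U ≤ Subgroup.normalizer (H : Set G) → U ≤ Subgroup.normalizer (Hr : Set G) := by
    intro U hU
    refine CfsgLib.Signalizer.le_normalizer_of_conj_mem fun u hu x hx => ?_
    obtain ⟨k, hk⟩ := hord x hx
    exact hHr _ ((Subgroup.mem_normalizer_iff.1 (hU hu) x).1 (hHrle hx))
      ⟨k, by rw [← hk]; exact (MulAut.conj u).orderOf_eq x⟩
  obtain ⟨Cr, hCrle, hCrp, hCr⟩ := CfsgLib.FGSA.exists_pPart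
    (CfsgLib.CN.nilpotent_of_le hH (inf_le_left : C ≤ H)) r
  have hfix : Hr ⊓ Subgroup.centralizer (Cr : Set G) ≤ Subgroup.centralizer (A : Set G) := by
    rintro x ⟨hx, hxC⟩
    refine (hC ⟨hHrle hx, Subgroup.mem_centralizer_iff.2 fun c hc => ?_⟩).2
    suffices hle : C ≤ Subgroup.centralizer ({x} : Set G) from Subgroup.mem_centralizer_singleton_iff.1 (hle hc)
    refine CfsgLib.FGSA.le_of_prime_power_mem fun s hs w hw hws => ?_
    refine Subgroup.mem_centralizer_singleton_iff.2 ?_
    by_cases hsr : s = r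
    · subst hsr
      exact Subgroup.mem_centralizer_iff.1 hxC w (hCr w hw hws)
    · obtain ⟨i, hi⟩ := hord x hx
      obtain ⟨j, hj⟩ := hws
      refine (CfsgLib.CN.commute_in hH hw.1 (hHrle hx) ?_).eq
      rw [hi, hj]
      exact ((Nat.coprime_primes hs hr).2 hsr).pow j i
  have hcomm : ⁅Hr, A⁆ = ⊥ := by
    by_cases hrA : (Nat.card A).Coprime r
    · exact CfsgLib.CoprimeAct.p_times_q_aux (Nat.card Hr) r Cr A Hr rfl hCrp hrA hHrp
        (hCrle.trans inf_le_right) (hnorm _ (hCrle.trans (inf_le_left.trans Subgroup.le_normalizer))) (hnorm _ hA) hfix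
    · -- then `r` does not divide the order of `H`
      have hrH : ¬ r ∣ Nat.card H := fun hd => hrA ((hcop.coprime_dvd_right hd))
      have : Hr = ⊥ := by
        rcases hHrp.card_eq_or_dvd with h1 | h1
        · exact Subgroup.eq_bot_of_card_eq _ h1
        · exact absurd (h1.trans (Subgroup.card_dvd_of_le hHrle)) hrH
      rw [this, Subgroup.commutator_bot_left]
  exact (Subgroup.commutator_eq_bot_iff_le_centralizer.1 hcomm) (hHr h hh hhr)

end Cfsg.Agent.S1442
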