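import Cfsg.Statements.S1361
import Cfsg.Agent.OddLocal.KappaTypeTwo
import Cfsg.Agent.S1421
import Mathlib.GroupTheory.SpecificGroups.ZGroup
-- import your own Cfsg.Agent.* helpers here

set_option autoImplicit false
open Cfsg

namespace Cfsg.Agent.S1361

/-- Let G be a minimal simple group of odd order and M a maximal subgroup with standard factorisation M = K U M_σ. If X is a nontrivial subgroup of U centralizing some non-identity element of M_σ, then C_G(X) ≤ M and M is the unique maximal subgroup of G containing C_G(X). -/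
theorem result {G : Type*} [Group G] [Finite G] (hG : Cfsg.IsMinSimpleOddOrder G)
    (M : Subgroup G) (hM : IsCoatom M) (K U : Subgroup G) (hKU : Cfsg.IsSigmaDecomposition M K U) (X : Subgroup G) (hXU : X ≤ U) (hX : X ≠ ⊥)
    (hXc : Cfsg.sigmaCore M ⊓ Subgroup.centralizer (X : Set G) ≠ ⊥) :
    Subgroup.centralizer (X : Set G) ≤ M ∧ ∀ L : Subgroup G, IsCoatom L → Subgroup.centralizer (X : Set G) ≤ L → L = M := by
  open CfsgLib.OddLocal CfsgLib.OddLocal.Kap in
  have key : Subgroup.centralizer (X : Set G) ≤ M ∧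
      ∀ L : Subgroup G, IsCoatom L → Subgroup.centralizer (X : Set G) ≤ L → L = M := by
    obtain ⟨y, hy, hy1⟩ := (Subgroup.bot_or_exists_ne_one _).resolve_left hXc
    have hUH := decomp_hall hG hM hKU
    have hXM : X ≤ M := hXU.trans hUH.1
    have hab : IsMulCommutative X := by
      by_cases hK1 : K = ⊥
      · subst hK1
        have hE : Cfsg.IsComplIn U (Cfsg.sigmaCore M) M := by simpa using hKU.compl
        obtain ⟨⟨A₀, hA₀, -, hA₀c, hA₀x⟩, -⟩ := Cfsg.Agent.S1421.result hG M hM U hE (fun e he he1 hτ => by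
          by_contra hne
          obtain ⟨w, hw, hw1⟩ := (Subgroup.bot_or_exists_ne_one _).resolve_left hne
          obtain ⟨r, hr, z, hz, hzo, -⟩ := exists_prime_root (Subgroup.mem_zpowers e) he1
          haveI := Fact.mk hr
          obtain ⟨i, hi⟩ := Subgroup.mem_zpowers_iff.1 hz
          have hzU : z ∈ U := Subgroup.zpowers_le.2 he hz
          obtain ⟨-, hκ, hσ⟩ := hUH.2.1 r hr (dvd_of_mem hzU hzo)
          have h2 := (mem_kappa_or_tau_two hG hM (hUH.1 hzU) hzo hσ hw.1 hw1
            (hi ▸ (show Commute e w from (Subgroup.mem_centralizer_singleton_iff.1 hw.2).symm).zpow_left i)).resolve_left hκ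
          have h13 := hτ r hr (by
            rw [← hzo]
            exact orderOf_dvd_of_mem_zpowers hz)
          rcases h13 with h13 | h13
          · exact h2.2.2.2 h13.2.2.2.2
          · exact h2.2.2.2 h13.2.2.2)
        have hle : X ≤ A₀ := fun z hz => hA₀x y hy.1 hy1
          ⟨hXU hz, Subgroup.mem_centralizer_singleton_iff.2 (Subgroup.mem_centralizer_iff.1 hy.2 z hz)⟩
        exact ⟨⟨fun a b => Subtype.ext (congrArg (fun z : A₀ => (z : G))
          (hA₀c.is_comm.comm ⟨(a : G), hle a.2⟩ ⟨(b : G), hle b.2⟩))⟩⟩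
      · haveI := decomp_commutative hG hM hKU hK1
        exact ⟨⟨fun a b => Subtype.ext (congrArg (fun z : U => (z : G))
          (IsMulCommutative.is_comm.comm (⟨(a : G), hXU a.2⟩ : U) ⟨(b : G), hXU b.2⟩))⟩⟩
    have hτ : ∀ s : ℕ, s.Prime → s ∣ Nat.card X → s ∈ Cfsg.tau2 M := fun s hs hd => by
      haveI := Fact.mk hs
      obtain ⟨z, hz⟩ := exists_prime_orderOf_dvd_card' (G := X) s hd
      obtain ⟨-, hκ, hσ⟩ := hUH.2.1 s hs (hd.trans (Subgroup.card_dvd_of_le hXU))
      exact (mem_kappa_or_tau_two hG hM (hXM z.2) (by rw [Subgroup.orderOf_coe, hz]) hσ hy.1 hy1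
        (show Commute (z : G) y from Subgroup.mem_centralizer_iff.1 hy.2 z z.2)).resolve_left hκ
    haveI : IsZGroup X := ⟨fun s hs P => by
      haveI := Fact.mk hs
      by_cases hd : s ∣ Nat.card X
      · refine Compl.cyclic_of_rank_one (CfsgLib.CN.MinSimple.p_ne_two hG (hd.trans X.card_subgroup_dvd_card))
          P.2 ?_
        by_contra hr
        obtain ⟨B, hBP, hB, hB2⟩ := Uniq.exists_elementary (H := (P : Subgroup X).map X.subtype) (fun h => hr
          (prank_congr ((P : Subgroup X).equivMapOfInjective _ X.subtype_injective).symm h))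
        have hBX : B ≤ X := hBP.trans (Subgroup.map_subtype_le _)
        exact hy1 (Subgroup.mem_bot.1 ((Cfsg.Agent.S1417.result hG M hM s (hτ s hs hd) B
          ⟨hBX.trans hXM, hB, hB2⟩).2.2.2.1.le
            ⟨hy.1, Subgroup.centralizer_le hBX hy.2⟩))
      · have hP : (P : Subgroup X) = ⊥ := Subgroup.eq_bot_of_card_eq _ (by
          obtain ⟨j, hj⟩ := IsPGroup.iff_card.1 P.2
          rw [hj]
          cases j with
          | zero => rfl
          | succ j => exact absurd ((dvd_pow_self s (Nat.succ_ne_zero j)).trans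
              (hj ▸ Subgroup.card_subgroup_dvd_card _)) hd)
        rw [hP]
        infer_instance⟩
    letI : CommGroup X := { (inferInstance : Group X) with mul_comm := hab.is_comm.comm }
    obtain ⟨a, ha⟩ := IsCyclic.exists_generator (α := X)
    have hC : Subgroup.centralizer (X : Set G) = Subgroup.centralizer ({(a : G)} : Set G) := by
      refine le_antisymm (Subgroup.centralizer_le (Set.singleton_subset_iff.2 a.2)) fun c hc => ?_
      refine Subgroup.mem_centralizer_iff.2 fun z hz => ?_
      obtain ⟨i, hi⟩ := Subgroup.mem_zpowers_iff.1 (ha ⟨z, hz⟩)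
      have hi' : (a : G) ^ i = z := congrArg Subtype.val hi
      rw [← hi']
      exact ((show Commute c (a : G) from Subgroup.mem_centralizer_singleton_iff.1 hc).zpow_right i).eq.symm
    rw [hC]
    refine Tau.tau_element_centralizer hG hM (hXM a.2) (fun e => hX ?_) (fun s hs hd => hτ s hs ?_) hy.1 hy1
      (Subgroup.mem_centralizer_iff.1 hy.2 a a.2)
    · rw [Subgroup.eq_bot_iff_forall]
      intro z hz
      obtain ⟨i, hi⟩ := Subgroup.mem_zpowers_iff.1 (ha ⟨z, hz⟩)
      have hi' : (a : G) ^ i = z := congrArg Subtype.val hi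
      rw [← hi', e, one_zpow]
    · exact hd.trans (X.orderOf_dvd_natCard a.2)
  exact key

end Cfsg.Agent.S1361
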