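import Cfsg.Statements.S1408
import Cfsg.Agent.OddLocal.SigmaLocal
-- import your own Cfsg.Agent.* helpers here

set_option autoImplicit false
open Cfsg

namespace Cfsg.Agent.S1408

/-- Let G be a minimal simple group of odd order, M a maximal subgroup, and p a prime not in σ(M) such that M has p-rank exactly 2. Then p is not an ideal prime for G, and every elementary abelian subgroup of M of order p ^ 2 is maximal among elementary abelian p-subgroups of G. -/
theorem result {G : Type*} [Group G] [Finite G] (hG : Cfsg.IsMinSimpleOddOrder G)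
    (M : Subgroup G) (hM : IsCoatom M) (p : ℕ) [Fact p.Prime] (hp : p ∉ Cfsg.sigma M) (hr2 : Cfsg.PRankLE p 2 M) (hr1 : ¬ Cfsg.PRankLE p 1 M) :
    ¬ Cfsg.IsIdealPrime p G ∧ ∀ A : Subgroup G, A ≤ M → Cfsg.IsElementaryAbelian p A → Nat.card A = p ^ 2 →
        ∀ B : Subgroup G, Cfsg.IsElementaryAbelian p B → A ≤ B → B = A := by
  have hmax : ∀ A : Subgroup G, A ≤ M → Cfsg.IsElementaryAbelian p A → Nat.card A = p ^ 2 →
      ∀ B : Subgroup G, Cfsg.IsElementaryAbelian p B → A ≤ B → B = A := by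
    intro A hAM hA hA2 B hB hAB
    by_contra hne
    have hlt : p ^ 3 ≤ Nat.card B := by
      obtain ⟨k, hk⟩ := IsPGroup.iff_card.1 (CfsgLib.Signalizer.isPGroup hB)
      have h1 := CfsgLib.Solvable.card_lt_of_lt (lt_of_le_of_ne hAB (Ne.symm hne))
      rw [hA2, hk] at h1
      rw [hk]
      exact Nat.pow_le_pow_right (Fact.out : p.Prime).pos ((Nat.pow_lt_pow_iff_right (Fact.out : p.Prime).one_lt).1 h1)
    have hB3 : ¬ Cfsg.PRankLE p 2 B := fun h => absurd (hlt.trans (CfsgLib.OddLocal.Uniq.rankLE_elementary h le_rfl hB))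
      (not_le.2 (Nat.pow_lt_pow_right (Fact.out : p.Prime).one_lt (by norm_num)))
    have hBC : B ≤ Subgroup.centralizer (A : Set G) := fun b hb => Subgroup.mem_centralizer_iff.2 fun a ha =>
      CfsgLib.Signalizer.commute hB (hAB ha) hb
    have hAU : Cfsg.InUniqueMaximal A := CfsgLib.OddLocal.Uniq.connect hG (CfsgLib.Signalizer.isPGroup hB) hB3
      (CfsgLib.OddLocal.UThm.rank_three_unique hG (CfsgLib.Signalizer.isPGroup hB) hB3) hB.1
      (CfsgLib.Signalizer.isPGroup hA) (CfsgLib.Signalizer.not_isCyclic hA hA2.ge)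
      (fun h => hB3 (CfsgLib.OddLocal.Uniq.rankLE_mono hBC h))
    have hBM : B ≤ M := CfsgLib.OddLocal.Uniq.le_of_uniq hAU hM hAM
      (CfsgLib.CN.MinSimple.ne_top hG (CfsgLib.Signalizer.isPGroup hB).isNilpotent) hAB
    exact hB3 (CfsgLib.OddLocal.Uniq.rankLE_mono hBM hr2)
  refine ⟨fun hid => ?_, hmax⟩
  obtain ⟨A, hAM, hA, hA2⟩ := CfsgLib.OddLocal.Uniq.exists_elementary hr1
  obtain ⟨P, hP⟩ := (CfsgLib.Signalizer.isPGroup hA).exists_le_sylow
  obtain ⟨B, -, hB, hlt⟩ := hid.2.2 P A hP hA hA2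
  exact hlt.ne (hmax A hAM hA hA2 B hB hlt.le).symm

end Cfsg.Agent.S1408
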