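import Cfsg.Statements.S1409
import Cfsg.Agent.OddLocal.SigmaLocal
import Cfsg.Agent.S1408
-- import your own Cfsg.Agent.* helpers here

set_option autoImplicit false
open Cfsg

namespace Cfsg.Agent.S1409

/-- Let G be a minimal simple group of odd order, M a maximal subgroup, p a prime not in σ(M), and X a subgroup of order p with N_G(X) ≤ M. Then M has p-rank exactly 2, p is not an ideal prime for G, and X is contained in some elementary abelian subgroup of G of order p ^ 2. -/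
theorem result {G : Type*} [Group G] [Finite G] (hG : Cfsg.IsMinSimpleOddOrder G)
    (M : Subgroup G) (hM : IsCoatom M) (p : ℕ) [Fact p.Prime] (hp : p ∉ Cfsg.sigma M) (X : Subgroup G) (hX : Nat.card X = p)
    (hNX : Subgroup.normalizer (X : Set G) ≤ M) :
    (Cfsg.PRankLE p 2 M ∧ ¬ Cfsg.PRankLE p 1 M) ∧ ¬ Cfsg.IsIdealPrime p G ∧
      ∃ A : Subgroup G, Cfsg.IsElementaryAbelian p A ∧ Nat.card A = p ^ 2 ∧ X ≤ A := by
  have hp' : p.Prime := Fact.out
  have hXM : X ≤ M := Subgroup.le_normalizer.trans hNX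
  have hpM : p ∣ Nat.card M := hX ▸ Subgroup.card_dvd_of_le hXM
  have hr2 : Cfsg.PRankLE p 2 M := by
    by_contra h
    exact hp (CfsgLib.OddLocal.Sig.alpha_subset_sigma hG hM ⟨hp', h⟩)
  have hp2 : p ≠ 2 := CfsgLib.CN.MinSimple.p_ne_two hG (hpM.trans M.card_subgroup_dvd_card)
  have hXp : IsPGroup p X := IsPGroup.of_card (n := 1) (by rw [hX, pow_one])
  obtain ⟨P, hP⟩ := (hXp.comap_subtype (K := M)).exists_le_sylow
  set P' := (P : Subgroup M).map M.subtype
  have hXP : X ≤ P' := (Subgroup.map_subgroupOf_eq_of_le hXM).ge.trans (Subgroup.map_mono hP)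
  have hnc : ¬ IsCyclic P' := by
    intro hc
    refine hp ⟨hp', hpM, P, le_trans ?_ hNX⟩
    obtain ⟨x, hx, hxo⟩ : ∃ x ∈ X, Subgroup.zpowers x = X := by
      haveI : IsCyclic X := isCyclic_of_prime_card hX
      obtain ⟨x, hx⟩ := IsCyclic.exists_generator (α := X)
      refine ⟨x, x.2, le_antisymm (Subgroup.zpowers_le.2 x.2) fun y hy => ?_⟩
      obtain ⟨i, hi⟩ := Subgroup.mem_zpowers_iff.1 (hx ⟨y, hy⟩)
      exact Subgroup.mem_zpowers_iff.2 ⟨i, congrArg Subtype.val hi⟩
    rw [← hxo]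
    exact CfsgLib.OddLocal.UTool.normalizer_le_normalizer_zpowers hc (hXP hx)
  obtain ⟨A₀, hA₀, hA₀e, hA₀c⟩ := CfsgLib.OddLocal.Uniq.exists_sq hp2 (P.2.map M.subtype) hnc
  have hr1 : ¬ Cfsg.PRankLE p 1 M := fun h => by
    have h1 := CfsgLib.OddLocal.Uniq.rankLE_elementary h (hA₀.trans (Subgroup.map_subtype_le _)) hA₀e
    rw [hA₀c, pow_one] at h1
    exact absurd h1 (not_le.2 (lt_self_pow₀ hp'.one_lt one_lt_two))
  refine ⟨⟨hr2, hr1⟩, ?_, ?_⟩
  · intro hid
    obtain ⟨T, hT⟩ := (P.2.map M.subtype).exists_le_sylow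
    obtain ⟨B, -, hB, hlt⟩ := hid.2.2 T A₀ (hA₀.trans hT) hA₀e hA₀c
    exact hlt.ne ((Cfsg.Agent.S1408.result hG M hM p hp hr2 hr1).2 A₀ (hA₀.trans (Subgroup.map_subtype_le _)) hA₀e hA₀c B hB hlt.le).symm
  · have hXe : Cfsg.IsElementaryAbelian p X := by
      haveI : IsCyclic X := isCyclic_of_prime_card hX
      refine ⟨inferInstance, fun x hx => ?_⟩
      have := pow_card_eq_one' (x := (⟨x, hx⟩ : X))
      rw [hX] at this
      exact congrArg Subtype.val this
    have hP'1 : P' ≠ ⊥ := fun h => hnc (by rw [h]; exact isCyclic_of_subsingleton)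
    have hP'p : IsPGroup p P' := P.2.map _
    haveI : Nontrivial P' := (Subgroup.nontrivial_iff_ne_bot _).2 hP'1
    haveI : Nontrivial (Subgroup.center P') := hP'p.center_nontrivial
    obtain ⟨z, hz⟩ := exists_prime_orderOf_dvd_card' (G := Subgroup.center P') p
      (((hP'p.to_subgroup _).card_eq_or_dvd).resolve_left Finite.one_lt_card.ne')
    have hzc : ∀ a ∈ P', a * ((z : P') : G) = ((z : P') : G) * a := fun a ha =>
      congrArg Subtype.val (Subgroup.mem_center_iff.1 z.2 ⟨a, ha⟩)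
    have hzo : orderOf ((z : P') : G) = p := by rw [Subgroup.orderOf_coe, Subgroup.orderOf_coe, hz]
    have main : ∀ Y : Subgroup G, Cfsg.IsElementaryAbelian p Y → Y ≤ P' → ¬ Y ≤ X →
        Y ≤ Subgroup.centralizer (X : Set G) → ∃ A : Subgroup G, Cfsg.IsElementaryAbelian p A ∧ Nat.card A = p ^ 2 ∧ X ≤ A := by
      intro Y hY hYP hYX hYc
      have hsup := CfsgLib.Thompson.elab_sup hXe hY (Subgroup.le_centralizer_iff.1 hYc)
      refine ⟨X ⊔ Y, hsup, le_antisymm ?_ ?_, le_sup_left⟩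
      · exact CfsgLib.OddLocal.Uniq.rankLE_elementary hr2 (sup_le hXM (hYP.trans (Subgroup.map_subtype_le _))) hsup
      · obtain ⟨k, hk⟩ := IsPGroup.iff_card.1 (CfsgLib.Signalizer.isPGroup hsup)
        have h1 := CfsgLib.Solvable.card_lt_of_lt (left_lt_sup.2 hYX : X < X ⊔ Y)
        rw [hX, hk] at h1
        rw [hk]
        refine Nat.pow_le_pow_right hp'.pos ?_
        have : 1 < k := (Nat.pow_lt_pow_iff_right hp'.one_lt).1 (by rwa [pow_one])
        omega
    by_cases hzX : ((z : P') : G) ∈ X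
    · refine main A₀ hA₀e hA₀ (fun h => ?_) fun a ha => ?_
      · have h1 := Subgroup.card_le_of_le h
        rw [hA₀c, hX] at h1
        exact absurd h1 (not_le.2 (lt_self_pow₀ hp'.one_lt one_lt_two))
      · have hXz : Subgroup.zpowers ((z : P') : G) = X :=
          Subgroup.eq_of_le_of_card_ge (Subgroup.zpowers_le.2 hzX) (by rw [Nat.card_zpowers, hzo, hX])
        rw [← hXz, Subgroup.zpowers_eq_closure, Subgroup.centralizer_closure]
        exact Subgroup.mem_centralizer_singleton_iff.2 (hzc a (hA₀ ha))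
    · refine main (Subgroup.zpowers ((z : P') : G)) (CfsgLib.Thompson.elab_zpowers (hzo ▸ pow_orderOf_eq_one _))
        (Subgroup.zpowers_le.2 (z : P').2) (fun h => hzX (h (Subgroup.mem_zpowers _)))
        (Subgroup.zpowers_le.2 (Subgroup.mem_centralizer_iff.2 fun x hx => hzc x (hXP hx)))

end Cfsg.Agent.S1409
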