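import Cfsg.Statements.S0645
import Cfsg.Agent.PLocal.CyclicMaximal
-- import your own Cfsg.Agent.* helpers here

set_option autoImplicit false
open Cfsg
open scoped commutatorElement Pointwise

namespace Cfsg.Agent.S0645

/-- Classification of p-groups with a cyclic maximal subgroup, odd p: a non-abelian one of order p^n has generators a of order p^(n-1) and b of order p, b outside the cyclic subgroup generated by a, with b a b⁻¹ = a^(1 + p^(n-2)). -/
theorem result {G : Type*} [Group G] [Finite G] {p : ℕ} [Fact p.Prime] (hp : p ≠ 2) (n : ℕ) (hn : 3 ≤ n) (hG : Nat.card G = p ^ n) (C : Subgroup G) (hC : IsCyclic C) (hCi : C.index = p) (hna : ∃ x y : G, x * y ≠ y * x) : ∃ a b : G, orderOf a = p ^ (n - 1) ∧ orderOf b = p ∧ b ∉ Subgroup.zpowers a ∧ b * a * b⁻¹ = a ^ (1 + p ^ (n - 2)) := by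
  have hp' : p.Prime := Fact.out
  obtain ⟨m, rfl⟩ : ∃ m, n = m + 2 := ⟨n - 2, by omega⟩
  obtain ⟨a, x, r, s, hao, hx, hr, hr1, hrp, hs, hrs, hout⟩ :=
    CfsgLib.CyclicMaximal.setup hG C hC hCi hna
  rw [show m + 2 - 1 = m + 1 by omega, show m + 2 - 2 = m by omega]
  set N := p ^ m with hN
  have hM : p ^ (m + 1) = p * N := by rw [hN, pow_succ']
  rw [hM] at hao hr1 hrp hrs ⊢
  have hNN : p * N ∣ N * N := Nat.mul_dvd_mul_right (dvd_pow_self p (by omega)) N
  have hd : (N : ℤ) ∣ (r : ℤ) - 1 := by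
    have := CfsgLib.CyclicMaximal.odd_root hp' hp (m := m) (r := r) (by rw [hM]; exact hrp)
    simpa [hN] using this
  have hr0 : 1 ≤ r := by
    by_contra h
    have h0 : r = 0 := by omega
    subst h0
    rw [zero_pow hp'.ne_zero] at hrp
    have := Nat.dvd_one.1 ((Nat.modEq_iff_dvd' (by omega)).1 hrp)
    exact hp'.one_lt.ne' (mul_eq_one.1 this).1
  obtain ⟨k, hk⟩ : N ∣ r - 1 := Int.natCast_dvd_natCast.1 (by rwa [Nat.cast_sub hr0, Nat.cast_one])
  have hrk : r = 1 + k * N := by rw [mul_comm]; omega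
  have hkp : ¬ p ∣ k := by
    rintro ⟨c, rfl⟩
    refine hr1 ?_
    rw [hrk, show 1 + p * c * N = 1 + c * (p * N) by ring]
    simp [Nat.ModEq]
  obtain ⟨j, -, hj⟩ := Nat.exists_mul_mod_eq_one_of_coprime
    ((Nat.Prime.coprime_iff_not_dvd hp').2 hkp).symm hp'.one_lt
  set y := x ^ j with hy
  have hjk : j * k * N ≡ N [MOD p * N] := by
    have : (k * j) ≡ 1 [MOD p] := by rw [Nat.ModEq, hj, Nat.mod_eq_of_lt hp'.one_lt]
    have h2 := this.mul_right' N
    rwa [one_mul, mul_comm k j] at h2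
  have hya : y * a * y⁻¹ = a ^ (1 + N) := by
    have h1 := CfsgLib.CyclicMaximal.conj_pow_pow hr j 1
    rw [pow_one, mul_one] at h1
    rw [hy, h1, pow_eq_pow_iff_modEq, hao, hrk]
    exact (CfsgLib.CyclicMaximal.one_add_pow_modEq _ N k j hNN).trans (hjk.add_left 1)
  have hpj : ¬ p ∣ j := fun h => by
    have : k * j % p = 0 := Nat.mod_eq_zero_of_dvd (dvd_mul_of_dvd_right h k) |>.trans rfl
    omega
  have hyout : ∀ i : ℕ, a ^ i * y ∉ Subgroup.zpowers a := by
    intro i hi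
    have hy' : x ^ j ∈ Subgroup.zpowers a :=
      (Subgroup.mul_mem_cancel_left _ (Subgroup.pow_mem _ (Subgroup.mem_zpowers a) i)).1 hi
    have hxp : x ^ p ∈ Subgroup.zpowers a := hs ▸ Subgroup.pow_mem _ (Subgroup.mem_zpowers a) s
    refine hx ?_
    obtain ⟨c, -, hc⟩ := Nat.exists_mul_mod_eq_one_of_coprime
      ((Nat.Prime.coprime_iff_not_dvd hp').2 hpj).symm hp'.one_lt
    have he : x ^ (j * c) = x ^ (j * c % p) * x ^ (p * (j * c / p)) := by
      rw [← pow_add, Nat.mod_add_div]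
    rw [hc, pow_one, pow_mul, pow_mul] at he
    exact (Subgroup.mul_mem_cancel_right _ (Subgroup.pow_mem _ hxp _)).1
      (he ▸ Subgroup.pow_mem _ hy' c)
  set S := s * j with hS
  have hyp : y ^ p = a ^ S := by rw [hy, hS, ← pow_mul, mul_comm, pow_mul, hs, ← pow_mul]
  have hpS : p ∣ S := by
    have h1 := CfsgLib.CyclicMaximal.conj_pow_pow hya 1 S
    rw [pow_one, ← hyp] at h1
    have h2 : a ^ ((1 + N) * S) = a ^ S := by
      rw [pow_one] at h1
      rw [← h1, ← hyp]; group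
    rw [pow_eq_pow_iff_modEq, hao] at h2
    have h3 : S + N * S ≡ S + 0 [MOD p * N] := by
      rw [show (1 + N) * S = S + N * S by ring] at h2
      simpa using h2
    have h4 := (Nat.modEq_zero_iff_dvd).1 (Nat.ModEq.add_left_cancel' S h3)
    rw [mul_comm p N] at h4
    exact (Nat.mul_dvd_mul_iff_left (pow_pos hp'.pos m)).1 h4
  obtain ⟨t, ht⟩ := hpS
  set i := (p * N - 1) * t with hi
  refine ⟨a, a ^ i * y, hao, ?_, hyout i, ?_⟩
  · refine orderOf_eq_prime ?_ fun h => hyout i (h ▸ one_mem _)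
    rw [CfsgLib.CyclicMaximal.mul_pow_eq hya, hyp, ← pow_add, ← orderOf_dvd_iff_pow_eq_one, hao,
      ← Nat.modEq_zero_iff_dvd]
    have hsum : ∑ l ∈ Finset.range p, (1 + N) ^ l ≡ p [MOD p * N] := by
      have h1 : ∑ l ∈ Finset.range p, (1 + N) ^ l ≡ ∑ l ∈ Finset.range p, (1 + l * N) [MOD p * N] := by
        refine Nat.ModEq.sum fun l _ => ?_
        simpa using CfsgLib.CyclicMaximal.one_add_pow_modEq _ N 1 l hNN
      refine h1.trans ?_
      rw [Finset.sum_add_distrib, ← Finset.sum_mul, Finset.sum_const, Finset.card_range, smul_eq_mul,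
        mul_one]
      have hdv : p ∣ ∑ l ∈ Finset.range p, l := by
        rw [Finset.sum_range_id]
        obtain ⟨c, hc⟩ := hp'.odd_of_ne_two hp
        rw [hc, show (2 * c + 1 - 1) = c * 2 by omega, ← mul_assoc, Nat.mul_div_cancel _ (by norm_num)]
        exact dvd_mul_right _ _
      have h2 : (∑ l ∈ Finset.range p, l) * N ≡ 0 [MOD p * N] :=
        Nat.modEq_zero_iff_dvd.2 (Nat.mul_dvd_mul_right hdv N)
      simpa using h2.add_left p
    refine ((hsum.mul_left i).add_right S).trans ?_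
    rw [ht, hi, show (p * N - 1) * t * p + p * t = (p * N - 1 + 1) * (t * p) by ring,
      Nat.sub_add_cancel (Nat.mul_pos hp'.pos (pow_pos hp'.pos m))]
    exact Nat.modEq_zero_iff_dvd.2 (dvd_mul_right _ _)
  · calc a ^ i * y * a * (a ^ i * y)⁻¹ = a ^ i * (y * a * y⁻¹) * (a ^ i)⁻¹ := by group
      _ = _ := by rw [hya]; group


end Cfsg.Agent.S0645
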