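import Cfsg.Statements.S1432
import Cfsg.Agent.OddLocal.KappaDichotomy
-- import your own Cfsg.Agent.* helpers here

set_option autoImplicit false
open Cfsg

namespace Cfsg.Agent.S1432

/-- Let G be a minimal simple group of odd order, M a maximal subgroup, x a non-identity element of M_σ and x' a non-identity element of C_M(x) no prime divisor of whose order lies in σ(M). Then either all prime divisors of the order of x' lie in κ(M) and C_G(x) ≤ M; or all of them lie in τ₂(M), they all lie in σ(L) for a single maximal subgroup L, and C_G(x') ≤ M with M the unique maximal subgroup containing C_G(x'). -/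
theorem result {G : Type*} [Group G] [Finite G] (hG : Cfsg.IsMinSimpleOddOrder G)
    (M : Subgroup G) (hM : IsCoatom M) (x : G) (hx : x ∈ Cfsg.sigmaCore M) (hx1 : x ≠ 1) (x' : G) (hx' : x' ∈ M ⊓ Subgroup.centralizer ({x} : Set G)) (hx'1 : x' ≠ 1)
    (hσ : ∀ p : ℕ, p.Prime → p ∣ orderOf x' → p ∉ Cfsg.sigma M) :
    ((∀ p : ℕ, p.Prime → p ∣ orderOf x' → p ∈ Cfsg.kappa M) ∧ Subgroup.centralizer ({x} : Set G) ≤ M) ∨
      ((∀ p : ℕ, p.Prime → p ∣ orderOf x' → p ∈ Cfsg.tau2 M) ∧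
        (∃ L : Subgroup G, IsCoatom L ∧ ∀ p : ℕ, p.Prime → p ∣ orderOf x' → p ∈ Cfsg.sigma L) ∧
        (Subgroup.centralizer ({x'} : Set G) ≤ M ∧ ∀ L : Subgroup G, IsCoatom L → Subgroup.centralizer ({x'} : Set G) ≤ L → L = M)) := by
  obtain ⟨hx'M, hx'C⟩ := Subgroup.mem_inf.1 hx'
  have hc : Commute x' x := Subgroup.mem_centralizer_singleton_iff.1 hx'C
  set w : ℕ → G := fun p => x' ^ (orderOf x' / p) with hw
  have hwo : ∀ p : ℕ, p ∣ orderOf x' → orderOf (w p) = p := fun p hd =>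
    orderOf_pow_orderOf_div (orderOf_pos x').ne' hd
  have key : ∀ p : ℕ, p.Prime → p ∣ orderOf x' → p ∈ Cfsg.kappa M ∨ p ∈ Cfsg.tau2 M := fun p hp hd => by
    haveI := Fact.mk hp
    exact CfsgLib.OddLocal.Kap.mem_kappa_or_tau_two hG hM (pow_mem hx'M _) (hwo p hd) (hσ p hp hd) hx hx1
      (hc.pow_left _)
  by_cases hκ : ∀ p : ℕ, p.Prime → p ∣ orderOf x' → p ∈ Cfsg.kappa M
  · refine Or.inl ⟨hκ, ?_⟩
    obtain ⟨q, hq, hqd⟩ := Nat.exists_prime_and_dvd (fun h => hx'1 (orderOf_eq_one_iff.1 h))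
    haveI := Fact.mk hq
    exact CfsgLib.OddLocal.Kap.centralizer_le_of_kappa hG hM (pow_mem hx'M _) (hwo q hqd) (hκ q hq hqd) hx hx1
      (hc.pow_left _)
  · push Not at hκ
    obtain ⟨p, hp, hpd, hpκ⟩ := hκ
    haveI := Fact.mk hp
    have hτ : ∀ q : ℕ, q.Prime → q ∣ orderOf x' → q ∈ Cfsg.tau2 M := fun q hq hqd => by
      haveI := Fact.mk hq
      refine (key q hq hqd).resolve_left fun hqκ => ?_
      exact CfsgLib.OddLocal.Kap.kappa_tau_absurd hG hM (y := w q) (z := w p) (pow_mem hx'M _) (hwo q hqd) hqκ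
        (pow_mem hx'M _) (hwo p hpd) (hσ p hp hpd) hpκ (Commute.pow_pow (Commute.refl x') _ _)
    refine Or.inr ⟨hτ, ?_, CfsgLib.OddLocal.Tau.tau_element_centralizer hG hM hx'M hx'1 hτ hx hx1 hc.eq⟩
    obtain ⟨L, hL, -, h⟩ := CfsgLib.OddLocal.Kap.exists_sigma_of_tau_two hG hM hx'M hx'1 hτ hx hx1 hc
    exact ⟨L, hL, h⟩

end Cfsg.Agent.S1432
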