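import Cfsg.Statements.S1382
import Cfsg.Agent.OddLocal.KappaTypes
-- import your own Cfsg.Agent.* helpers here

set_option autoImplicit false
open Cfsg

namespace Cfsg.Agent.S1382

/-- Let G be a minimal simple group of odd order and M a maximal subgroup with standard factorisation M = K U M_σ. Then M is of Type III or of Type IV if and only if K ≠ 1, U = 1 and M_F ≠ M_σ. -/
theorem result {G : Type*} [Group G] [Finite G] (hG : Cfsg.IsMinSimpleOddOrder G)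
    (M : Subgroup G) (hM : IsCoatom M) (K U : Subgroup G) (hKU : Cfsg.IsSigmaDecomposition M K U) :
    (Cfsg.IsOfTypeIII M ∨ Cfsg.IsOfTypeIV M) ↔ (K ≠ ⊥ ∧ U = ⊥ ∧ Cfsg.fittingHallOf M ≠ Cfsg.sigmaCore M) := by
  constructor
  · have key : ∀ {W₁ V W₂ : Subgroup G}, Cfsg.IsTypePWith M W₁ V W₂ → V ≠ ⊥ →
        Subgroup.normalizer (V : Set G) ≤ M → K ≠ ⊥ ∧ U = ⊥ ∧ Cfsg.fittingHallOf M ≠ Cfsg.sigmaCore M := by
      intro W₁ V W₂ hP hV hN
      have hK1 : K ≠ ⊥ := (CfsgLib.OddLocal.Kap.kappa_nonempty_iff hG hM hKU).1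
        (CfsgLib.OddLocal.Kap.kappa_of_typeP hG hM hP)
      have hU := (CfsgLib.OddLocal.Kap.normalizer_le_iff_of_typeP hG hM hKU hK1 hP hV).1 hN
      exact ⟨hK1, hU, fun he => hV ((CfsgLib.OddLocal.Kap.outer_trivial_iff hG hM hKU hK1 hP).2 ⟨hU, he⟩)⟩
    rintro (⟨W₁, V, W₂, hP, hV, -, -, -, hN⟩ | ⟨W₁, V, W₂, hP, hV, -, -, -, hN⟩) <;> exact key hP hV hN
  · rintro ⟨hK1, hU, hne⟩
    exact CfsgLib.OddLocal.Kap.typeThreeFour_of hG hM hKU hK1 hU hne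

end Cfsg.Agent.S1382
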