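import Cfsg.Statements.S1368
import Cfsg.Agent.OddLocal.KappaPairApps
-- import your own Cfsg.Agent.* helpers here

set_option autoImplicit false
open Cfsg

namespace Cfsg.Agent.S1368

/-- Let G be a minimal simple group of odd order, M a maximal subgroup with standard factorisation M = K U M_σ, K ≠ 1, K* = M_σ ∩ C_G(K), and M* a maximal subgroup with K = M*_σ ∩ C_G(K*) and K* a Hall κ(M*)-subgroup of M*. Then M ∩ M* is the subgroup generated by K and K*, and it is cyclic. -/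
theorem result {G : Type*} [Group G] [Finite G] (hG : Cfsg.IsMinSimpleOddOrder G)
    (M : Subgroup G) (hM : IsCoatom M) (K U : Subgroup G) (hKU : Cfsg.IsSigmaDecomposition M K U) (hK1 : K ≠ ⊥) (Mstar : Subgroup G) (hMstar : IsCoatom Mstar)
    (hKst : K = Cfsg.sigmaCore Mstar ⊓ Subgroup.centralizer ((Cfsg.sigmaCore M ⊓ Subgroup.centralizer (K : Set G)) : Set G))
    (hKstH : Cfsg.IsPiHallOf (Cfsg.kappa Mstar) (Cfsg.sigmaCore M ⊓ Subgroup.centralizer (K : Set G)) Mstar) :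
    M ⊓ Mstar = K ⊔ (Cfsg.sigmaCore M ⊓ Subgroup.centralizer (K : Set G)) ∧ IsCyclic ↥(K ⊔ (Cfsg.sigmaCore M ⊓ Subgroup.centralizer (K : Set G))) := by
  refine ⟨?_, CfsgLib.OddLocal.Kap.sup_cyclic hG hM hKU.hall hK1⟩
  obtain ⟨h₁, hne⟩ := CfsgLib.OddLocal.Kap.partner_node hG hM hKU.hall hK1 hMstar hKstH hKst
  have h₀ := CfsgLib.OddLocal.Kap.isNode_self hG hM hKU.hall hK1
  refine le_antisymm ?_ (le_inf h₀.le_coatom h₁.le_coatom)
  obtain ⟨y, hy, hy1⟩ := (Subgroup.bot_or_exists_ne_one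
    (Cfsg.sigmaCore M ⊓ Subgroup.centralizer (K : Set G))).resolve_left
    (CfsgLib.OddLocal.Kap.fixed_ne_bot hG hM hKU.hall hK1)
  obtain ⟨q, hq, x, hx, hxo⟩ := CfsgLib.OddLocal.Kap.exists_order_prime hK1
  haveI := Fact.mk hq
  have hK : K = M ⊓ Cfsg.sigmaCore Mstar := by
    refine le_antisymm (le_inf hKU.hall.1 (hKst.le.trans inf_le_left)) fun d hd => ?_
    rw [hKst]
    refine (CfsgLib.OddLocal.Kap.star_fixed hG hMstar hKstH h₁.ne_bot hy hy1).le
      ⟨hd.2, Subgroup.mem_centralizer_singleton_iff.2 ?_⟩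
    have hyN : y ∈ Mstar := hKstH.1 hy
    have h1 : y * d * y⁻¹ * d⁻¹ ∈ Cfsg.sigmaCore M ⊓ Cfsg.sigmaCore Mstar := by
      refine ⟨?_, (Cfsg.sigmaCore Mstar).mul_mem
        ((Subgroup.mem_normalizer_iff.1 (CfsgLib.OddLocal.TH.le_normalizer_core Mstar hyN) d).1 hd.2)
        ((Cfsg.sigmaCore Mstar).inv_mem hd.2)⟩
      rw [show y * d * y⁻¹ * d⁻¹ = y * (d * y⁻¹ * d⁻¹) by group]
      exact (Cfsg.sigmaCore M).mul_mem hy.1 ((Subgroup.mem_normalizer_iff.1
        (CfsgLib.OddLocal.TH.le_normalizer_core M hd.1) _).1 ((Cfsg.sigmaCore M).inv_mem hy.1))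
    rw [disjoint_iff.1 (Subgroup.disjoint_of_coprime_natCard (H := Cfsg.sigmaCore M) (K := Cfsg.sigmaCore Mstar)
      (Nat.coprime_of_dvd fun r hr h2 h3 => h₀.sigma_ne hG h₁ hne.symm
        ((CfsgLib.OddLocal.Sig.sigma_core hG hM).1.2.1 r hr h2)
        ((CfsgLib.OddLocal.Sig.sigma_core hG hMstar).1.2.1 r hr h3))), Subgroup.mem_bot, mul_inv_eq_one,
      mul_inv_eq_iff_eq_mul] at h1
    exact h1.symm
  intro d hd
  have hdK : d ∈ Subgroup.normalizer (K : Set G) := by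
    rw [hK]
    exact Subgroup.inf_normalizer_le_normalizer_inf ⟨Subgroup.le_normalizer hd.1,
      CfsgLib.OddLocal.TH.le_normalizer_core Mstar hd.2⟩
  exact ((CfsgLib.OddLocal.Kap.line_normalizers hG hM hKU.hall hK1 (X := Subgroup.zpowers x)
    (Subgroup.zpowers_le.2 hx) (by rw [Nat.card_zpowers, hxo]; exact hq)).2.1).le ⟨hd.1, hdK⟩

end Cfsg.Agent.S1368
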