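import Cfsg.Statements.S1455
import Cfsg.Agent.FGSA.NarrowSolvable

set_option autoImplicit false
open Cfsg

namespace Cfsg.Agent.S1455

/-- Let G be a solvable group of odd order, p a prime dividing its order, and S a Sylow p-subgroup of G that is narrow; if S has an elementary abelian subgroup of order p ^ 3 assume also G = O_{p',p,p'}(G). Then every prime dividing the index of O_{p'}(G) is at most p; if p = 3 or p is the smallest prime divisor of #G then G has a normal p-complement; G' has a normal p-complement; every subgroup of G' of order coprime to p lies in O_{p'}(G'); and G' ≤ O_{p',p}(G) with the index of O_{p',p}(G) coprime to p. -/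
theorem result {G : Type*} [Group G] [Finite G] [Group.IsSolvable G] (hodd : Odd (Nat.card G)) (p : ℕ) [Fact p.Prime] (hpG : p ∣ Nat.card G) (S : Sylow p G) (hS : Cfsg.IsNarrow p ↥(S : Subgroup G))
    (hpl : ¬ Cfsg.PRankLE p 2 ↥(S : Subgroup G) → Cfsg.PLengthLE p 1 G) :
    (∀ q : ℕ, q.Prime → q ∣ (Cfsg.pPrimeCore p G).index → q ≤ p) ∧
      ((p = 3 ∨ ∀ q : ℕ, q.Prime → q ∣ Nat.card G → p ≤ q) → Cfsg.HasNormalPComplement p G) ∧
      Cfsg.HasNormalPComplement p ↥(commutator G) ∧
      (∀ L : Subgroup ↥(commutator G), (Nat.card L).Coprime p → L ≤ Cfsg.pPrimeCore p ↥(commutator G)) ∧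
      commutator G ≤ Cfsg.pPrimePCore p G ∧ ((Cfsg.pPrimePCore p G).index).Coprime p := by
  classical
  have hp2 : p ≠ 2 := CfsgLib.FGSA.RankTwoSolvable.ne_two_of_dvd hpG hodd
  suffices h : commutator (G ⧸ Cfsg.pPrimeCore p G) ≤ Cfsg.pCore p (G ⧸ Cfsg.pPrimeCore p G) ∧
      ∀ q : ℕ, q.Prime → q ≠ p → q ∣ Nat.card (G ⧸ Cfsg.pPrimeCore p G) → q < p from
    CfsgLib.FGSA.RankTwoSolvable.structure_of_quotient hodd h.1 h.2
  by_cases hr : Cfsg.PRankLE p 2 ↥(S : Subgroup G)
  · refine CfsgLib.FGSA.RankTwoSolvable.quotient_of_rank_two hodd fun A hAc hAe => ?_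
    have hAp : IsPGroup p A := fun a => ⟨1, Subtype.ext (by rw [pow_one]; exact hAe a a.2)⟩
    obtain ⟨T, hT⟩ := hAp.exists_le_sylow
    let e := T.equiv S
    let g : A →* ↥(S : Subgroup G) := e.toMonoidHom.comp (Subgroup.inclusion hT)
    have hg : Function.Injective g := e.injective.comp (Subgroup.inclusion_injective hT)
    have hc : IsMulCommutative g.range := ⟨⟨fun x y => by
      obtain ⟨_, a, rfl⟩ := x
      obtain ⟨_, b, rfl⟩ := y
      exact Subtype.ext (show g a * g b = g b * g a by rw [← map_mul, hAc.is_comm.comm, map_mul])⟩⟩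
    refine le_trans (Nat.card_congr (MonoidHom.ofInjective hg).toEquiv).le (hr g.range hc ?_)
    rintro _ ⟨a, rfl⟩
    rw [← map_pow, show a ^ p = 1 from Subtype.ext (hAe a a.2), map_one]
  · exact CfsgLib.FGSA.NarrowSolvable.quotient_of_narrow hp2 S hS hr (hpl hr)

end Cfsg.Agent.S1455
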