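import Cfsg.Statements.S1418
import Cfsg.Agent.OddLocal.TauTwoNormal
-- import your own Cfsg.Agent.* helpers here

set_option autoImplicit false
open Cfsg

namespace Cfsg.Agent.S1418

/-- Let G be a minimal simple group of odd order, M a maximal subgroup, E a complement to M_σ in M, p ∈ τ₂(M), and A ≤ E elementary abelian of order p ^ 2. Then A is normal in E and contains every subgroup of E of order p; C_G(A) ≤ M ∩ N_G(A) = E and N_G(A) is not contained in M; and for every subgroup X ≤ A of order p centralizing a non-identity element of M_σ, C_G(X) ≤ M and M is the unique maximal subgroup containing C_G(X). -/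
theorem result {G : Type*} [Group G] [Finite G] (hG : Cfsg.IsMinSimpleOddOrder G)
    (M : Subgroup G) (hM : IsCoatom M) (E : Subgroup G) (hE : Cfsg.IsComplIn E (Cfsg.sigmaCore M) M) (p : ℕ) [Fact p.Prime] (hp : p ∈ Cfsg.tau2 M) (A : Subgroup G) (hA : (A ≤ E ∧ Cfsg.IsElementaryAbelian p A ∧ Nat.card A = p ^ 2)) :
    (E ≤ Subgroup.normalizer (A : Set G) ∧ ∀ X : Subgroup G, X ≤ E → Nat.card X = p → X ≤ A) ∧
      (Subgroup.centralizer (A : Set G) ≤ M ⊓ Subgroup.normalizer (A : Set G) ∧ M ⊓ Subgroup.normalizer (A : Set G) = E ∧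
        ¬ Subgroup.normalizer (A : Set G) ≤ M) ∧
      ∀ X : Subgroup G, X ≤ A → Nat.card X = p → Cfsg.sigmaCore M ⊓ Subgroup.centralizer (X : Set G) ≠ ⊥ → (Subgroup.centralizer (X : Set G) ≤ M ∧ ∀ L : Subgroup G, IsCoatom L → Subgroup.centralizer (X : Set G) ≤ L → L = M) := by
  obtain ⟨hAE, hA, hA2⟩ := hA
  obtain ⟨hpp, hpσ, hr2, hr1⟩ := hp
  have hEM : E ≤ M := hE.1
  have hAM : A ≤ M := hAE.trans hEM
  have hmax := (Cfsg.Agent.S1408.result hG M hM p hpσ hr2 hr1).2 A hAM hA hA2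
  have hEN := CfsgLib.OddLocal.Tau.complement_normalizes hG hA hA2 hM hAM hpσ hmax hE hAE
  have hC := CfsgLib.OddLocal.Tau.centralizer_le_coatom hG hA hA2 hM hAM
  have hnN := CfsgLib.OddLocal.Tau.not_normalizer_le hG hA hA2 hM hAM hpσ hmax
  refine ⟨⟨hEN, fun X hXE hX => ?_⟩, ⟨le_inf hC (Subgroup.centralizer_le_normalizer _), ?_, hnN⟩,
    fun X hXA hX hne => ?_⟩
  · have hAp : IsPGroup p A := IsPGroup.of_card hA2
    have hXp : IsPGroup p X := IsPGroup.of_card (n := 1) (by rw [hX, pow_one])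
    have hW : IsPGroup p (X ⊔ A : Subgroup G) := hXp.to_sup_of_normal_right' hAp (hXE.trans hEN)
    obtain ⟨P, hP⟩ := (hW.comap_subtype (K := M)).exists_le_sylow
    have hle : X ⊔ A ≤ (P : Subgroup M).map M.subtype := by
      rw [← Subgroup.map_subgroupOf_eq_of_le (sup_le (hXE.trans hEM) hAM)]
      exact Subgroup.map_mono hP
    intro x hx
    refine (CfsgLib.OddLocal.Tau.omega hG hA hA2 hM hAM hpσ hmax (le_sup_right.trans hle)
      (hle (Subgroup.mem_sup_left hx))).1 ?_
    have h := pow_card_eq_one' (G := X) (x := ⟨x, hx⟩)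
    rw [hX] at h
    exact congrArg Subtype.val h
  · refine le_antisymm (fun m hm => ?_) (le_inf hEM hEN)
    obtain ⟨e, he, s, hs, rfl⟩ := hE.2.2.2 m hm.1
    have hsN : s ∈ Subgroup.normalizer (A : Set G) := by
      simpa using mul_mem (inv_mem (hEN he)) hm.2
    have hs1 : s = 1 := by
      have hsC : s ∈ Cfsg.sigmaCore M ⊓ Subgroup.centralizer (A : Set G) := by
        refine ⟨hs, Subgroup.mem_centralizer_iff.2 fun a ha => ?_⟩
        have h1 : s * a * s⁻¹ * a⁻¹ ∈ A := mul_mem ((Subgroup.mem_normalizer_iff.1 hsN a).1 ha) (inv_mem ha)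
        have h2 : s * a * s⁻¹ * a⁻¹ ∈ Cfsg.sigmaCore M := by
          have hn := (CfsgLib.OddLocal.TH.le_normalizer_core M (hAM ha) : a ∈ Subgroup.normalizer (Cfsg.sigmaCore M : Set G))
          have h3 : a * s⁻¹ * a⁻¹ ∈ Cfsg.sigmaCore M := (Subgroup.mem_normalizer_iff.1 hn _).1 (inv_mem hs)
          simpa [mul_assoc] using mul_mem hs h3
        have h4 : s * a * s⁻¹ * a⁻¹ = 1 := Subgroup.mem_bot.1 ((disjoint_iff.1 (Subgroup.disjoint_of_coprime_natCard
          (CfsgLib.OddLocal.Excep.coprime_of_pgroup (IsPGroup.of_card hA2)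
            (CfsgLib.OddLocal.Tau.not_dvd_sigmaCore hG hM hpσ)))) ▸ (⟨h1, h2⟩ : _ ∈ A ⊓ Cfsg.sigmaCore M))
        rw [mul_inv_eq_one, mul_inv_eq_iff_eq_mul] at h4
        exact h4.symm
      rw [CfsgLib.OddLocal.Tau.inf_centralizer_eq_bot hG hA hA2 hM hAM hpσ hmax] at hsC
      exact Subgroup.mem_bot.1 hsC
    rw [hs1, mul_one]; exact he
  · have key : ∀ L : Subgroup G, IsCoatom L → Subgroup.centralizer (X : Set G) ≤ L → L = M := by
      intro L hL hle
      by_contra hne'
      haveI := hA.1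
      have hAL : A ≤ L := ((Subgroup.le_centralizer_iff_isMulCommutative.2 hA.1).trans (Subgroup.centralizer_le hXA)).trans hle
      exact hne (le_bot_iff.1 ((CfsgLib.OddLocal.Tau.inter_eq_bot hG hA hA2 hM hAM hpσ hmax hL hne' hAL) ▸
        inf_le_inf_left _ hle))
    exact ⟨(Subgroup.centralizer_le_normalizer _).trans
      (CfsgLib.OddLocal.Tau.good_normalizer_le hG hA hA2 hM hAM hpσ hmax hXA hX hne), key⟩

end Cfsg.Agent.S1418
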