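import Cfsg.Statements.S1417
import Cfsg.Agent.OddLocal.TauTwoNormal
-- import your own Cfsg.Agent.* helpers here

set_option autoImplicit false
open Cfsg

namespace Cfsg.Agent.S1417

/-- Let G be a minimal simple group of odd order, M a maximal subgroup, p ∈ τ₂(M) and A ≤ M elementary abelian of order p ^ 2. Then (a) M_σ is nilpotent; (b) every Sylow p-subgroup P of M is abelian, and if A ≤ P then the elements of P of order dividing p are exactly those of A and N_G(P) is not contained in M; (c) M normalizes M_σA; (d) M_σ ∩ C_G(A) = 1; (e) M_σ ∩ M* = 1 for every maximal subgroup M* ≠ M containing A; (f) M_σ ∩ C_G(A₁) = 1 for some subgroup A₁ ≤ A of order p. -/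
theorem result {G : Type*} [Group G] [Finite G] (hG : Cfsg.IsMinSimpleOddOrder G)
    (M : Subgroup G) (hM : IsCoatom M) (p : ℕ) [Fact p.Prime] (hp : p ∈ Cfsg.tau2 M) (A : Subgroup G) (hA : (A ≤ M ∧ Cfsg.IsElementaryAbelian p A ∧ Nat.card A = p ^ 2)) :
    Group.IsNilpotent (Cfsg.sigmaCore M) ∧
      (∀ P : Sylow p M, IsMulCommutative (P : Subgroup M) ∧
        (A ≤ (P : Subgroup M).map M.subtype →
          (∀ x ∈ (P : Subgroup M).map M.subtype, x ^ p = 1 ↔ x ∈ A) ∧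
          ¬ Subgroup.normalizer ((((P : Subgroup M).map M.subtype : Subgroup G)) : Set G) ≤ M)) ∧
      M ≤ Subgroup.normalizer ((Cfsg.sigmaCore M ⊔ A : Subgroup G) : Set G) ∧
      Cfsg.sigmaCore M ⊓ Subgroup.centralizer (A : Set G) = ⊥ ∧
      (∀ Mstar : Subgroup G, IsCoatom Mstar → Mstar ≠ M → A ≤ Mstar → Cfsg.sigmaCore M ⊓ Mstar = ⊥) ∧
      ∃ A₁ : Subgroup G, A₁ ≤ A ∧ Nat.card A₁ = p ∧ Cfsg.sigmaCore M ⊓ Subgroup.centralizer (A₁ : Set G) = ⊥ := by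
  obtain ⟨hAM, hA, hA2⟩ := hA
  obtain ⟨hpp, hpσ, hr2, hr1⟩ := hp
  have hmax := (Cfsg.Agent.S1408.result hG M hM p hpσ hr2 hr1).2 A hAM hA hA2
  refine ⟨CfsgLib.OddLocal.Tau.nilpotent hG hA hA2 hM hAM hpσ hmax, fun P => ⟨?_, fun hAP => ⟨fun x hx => ?_, fun h => ?_⟩⟩,
    CfsgLib.OddLocal.Tau.normalizes_core_sup hG hA hA2 hM hAM hpσ hmax,
    CfsgLib.OddLocal.Tau.inf_centralizer_eq_bot hG hA hA2 hM hAM hpσ hmax,
    fun K hK hne hAK => CfsgLib.OddLocal.Tau.inter_eq_bot hG hA hA2 hM hAM hpσ hmax hK hne hAK, ?_⟩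
  · obtain ⟨P₀, hP₀⟩ := CfsgLib.OddLocal.Tau.exists_sylow_over hG hA hA2 hM hAM hpσ hmax
    haveI := CfsgLib.OddLocal.Tau.abelian hG hA hA2 hM hAM hpσ hmax hr2 hP₀
    refine ⟨⟨fun a b => (P.equiv P₀).injective ?_⟩⟩
    rw [map_mul, map_mul]
    refine Subtype.ext (M.subtype_injective ?_)
    have h : (⟨M.subtype (P.equiv P₀ a : M), Subgroup.mem_map_of_mem _ (P.equiv P₀ a).2⟩ :
        ↥((P₀ : Subgroup M).map M.subtype)) * ⟨M.subtype (P.equiv P₀ b : M), Subgroup.mem_map_of_mem _ (P.equiv P₀ b).2⟩ =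
        ⟨M.subtype (P.equiv P₀ b : M), Subgroup.mem_map_of_mem _ (P.equiv P₀ b).2⟩ *
        ⟨M.subtype (P.equiv P₀ a : M), Subgroup.mem_map_of_mem _ (P.equiv P₀ a).2⟩ := IsMulCommutative.is_comm.comm _ _
    exact congrArg Subtype.val h
  · exact CfsgLib.OddLocal.Tau.omega hG hA hA2 hM hAM hpσ hmax hAP hx
  · exact hpσ ⟨hpp, (dvd_pow_self p two_ne_zero).trans (hA2 ▸ Subgroup.card_dvd_of_le hAM), P, h⟩
  · obtain ⟨X, -, hXA, hX, -, -, -, hfix, -⟩ := CfsgLib.OddLocal.Tau.exists_two_fpf hG hA hA2 hM hAM hpσ hmax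
    exact ⟨X, hXA, hX, hfix⟩

end Cfsg.Agent.S1417
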