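import Cfsg.Statements.S1459
import Cfsg.Agent.Solvable.PGroupBasic
import Cfsg.Agent.Solvable.Basics
import Cfsg.Agent.Transfer.PResidual
import Cfsg.Agent.FGSA.Nilpotent
-- import your own Cfsg.Agent.* helpers here

set_option autoImplicit false
open Cfsg

namespace Cfsg.Agent.S1459

/-- Let G be a finite solvable group. (a) If H is a normal subgroup of order coprime to its index, K is a complement to H, and H ≤ G', then H = [H, K] and H ∩ C_G(K) ≤ [H, H]. (b) If G' is nilpotent and has prime index in G, then the order of G' is coprime to its index and G' = [G, K] (the subgroup generated by commutators of elements of G with elements of K) for every complement K of G'. -/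
theorem result {G : Type*} [Group G] [Finite G] [Group.IsSolvable G] :
    (∀ (H K : Subgroup G), H.Normal → (Nat.card H).Coprime H.index → Subgroup.IsComplement' H K → H ≤ commutator G →
        H = ⁅H, K⁆ ∧ H ⊓ Subgroup.centralizer (K : Set G) ≤ ⁅H, H⁆) ∧
      (Group.IsNilpotent ↥(commutator G) → (commutator G).index.Prime →
        (Nat.card ↥(commutator G)).Coprime (commutator G).index ∧
        ∀ K : Subgroup G, Subgroup.IsComplement' (commutator G) K → commutator G = ⁅(⊤ : Subgroup G), K⁆) := by
  have partA : ∀ (H K : Subgroup G), H.Normal → (Nat.card H).Coprime H.index → Subgroup.IsComplement' H K →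
      H ≤ commutator G → H = ⁅H, K⁆ ∧ H ⊓ Subgroup.centralizer (K : Set G) ≤ ⁅H, H⁆ := by
    intro H K hHn hHall hc hHG
    set J := ⁅H, K⁆ with hJ
    have hJH : J ≤ H := Subgroup.commutator_le_left H K
    have hJn : J.Normal := by
      refine Subgroup.normalizer_eq_top_iff.1 (top_unique ?_)
      rw [← hc.sup_eq_top]
      refine sup_le ?_ ?_
      · exact Subgroup.normalizer_commutator_ge_left H K
      · exact Subgroup.normalizer_commutator_ge_right H K
    let f : G →* G ⧸ J := QuotientGroup.mk' J
    have hfker : f.ker = J := QuotientGroup.ker_mk' J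
    have hcomm : ⁅H.map f, K.map f⁆ = ⊥ := by
      rw [← Subgroup.map_commutator, ← hJ, Subgroup.map_eq_bot_iff, hfker]
    have hHK : K.map f ≤ Subgroup.centralizer (H.map f : Set (G ⧸ J)) :=
      Subgroup.le_centralizer_iff.1 (Subgroup.commutator_eq_bot_iff_le_centralizer.1 hcomm)
    have htop : (⊤ : Subgroup (G ⧸ J)) = H.map f ⊔ K.map f := by
      rw [← Subgroup.map_sup, hc.sup_eq_top, Subgroup.map_top_of_surjective _ (QuotientGroup.mk'_surjective J)]
    -- the derived group of the quotient
    set D := ⁅H.map f, H.map f⁆ ⊔ ⁅K.map f, K.map f⁆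
    have hDn : D.Normal := by
      refine Subgroup.normalizer_eq_top_iff.1 (top_unique ?_)
      rw [htop]
      refine sup_le (le_trans (le_inf ?_ ?_) (Subgroup.normalizer_inf_normalizer_le_normalizer_sup _ _))
        (le_trans (le_inf ?_ ?_) (Subgroup.normalizer_inf_normalizer_le_normalizer_sup _ _))
      · exact Subgroup.normalizer_commutator_ge_left _ _
      · exact (Subgroup.le_centralizer_iff.1 hHK).trans ((Subgroup.centralizer_le (Subgroup.commutator_le_self _)).trans
          (Subgroup.centralizer_le_normalizer _))
      · exact hHK.trans ((Subgroup.centralizer_le (Subgroup.commutator_le_self _)).trans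
          (Subgroup.centralizer_le_normalizer _))
      · exact Subgroup.normalizer_commutator_ge_left _ _
    have hHD : H.map f ≤ D := by
      refine (Subgroup.map_mono hHG).trans ?_
      rw [_root_.commutator_def, Subgroup.map_commutator,
        Subgroup.map_top_of_surjective _ (QuotientGroup.mk'_surjective J)]
      haveI := hDn
      refine le_trans ?_ (QuotientGroup.ker_mk' D).le
      rw [← Subgroup.map_eq_bot_iff, Subgroup.map_commutator, Subgroup.commutator_eq_bot_iff_le_centralizer,
        htop, Subgroup.map_sup]
      have h1 : ∀ U : Subgroup (G ⧸ J), ⁅U, U⁆ ≤ D →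
          U.map (QuotientGroup.mk' D) ≤ Subgroup.centralizer (U.map (QuotientGroup.mk' D) : Set ((G ⧸ J) ⧸ D)) := by
        intro U hU
        rw [← Subgroup.commutator_eq_bot_iff_le_centralizer, ← Subgroup.map_commutator, Subgroup.map_eq_bot_iff,
          QuotientGroup.ker_mk']
        exact hU
      have h2 : (K.map f).map (QuotientGroup.mk' D) ≤
          Subgroup.centralizer ((H.map f).map (QuotientGroup.mk' D) : Set ((G ⧸ J) ⧸ D)) := by
        rw [← Subgroup.commutator_eq_bot_iff_le_centralizer, ← Subgroup.map_commutator,
          Subgroup.commutator_comm, hcomm, Subgroup.map_bot]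
      refine sup_le ?_ ?_ <;> rw [Subgroup.le_centralizer_iff] <;> refine sup_le ?_ ?_
      · exact h1 _ le_sup_left
      · exact h2
      · exact Subgroup.le_centralizer_iff.1 h2
      · exact h1 _ le_sup_right
    have hHbar : H.map f = ⊥ := by
      -- its image is perfect and solvable
      have hd : (Nat.card (H.map f)).Coprime (Nat.card (K.map f)) := by
        refine (Nat.Coprime.coprime_dvd_left (Subgroup.card_map_dvd _ _) ?_).coprime_dvd_right (Subgroup.card_map_dvd _ _)
        rw [← hc.symm.index_eq_card]
        exact hHall
      have hperf : H.map f ≤ ⁅H.map f, H.map f⁆ := by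
        intro x hx
        have hn : ⁅K.map f, K.map f⁆ ≤ Subgroup.normalizer ((⁅H.map f, H.map f⁆ : Subgroup (G ⧸ J)) : Set (G ⧸ J)) :=
          (Subgroup.commutator_le_self _).trans (hHK.trans ((Subgroup.centralizer_le (Subgroup.commutator_le_self _)).trans
            (Subgroup.centralizer_le_normalizer _)))
        obtain ⟨k, hk, h, hh, hhk⟩ := (CfsgLib.Solvable.mem_sup_of_le_normalizer hn).1
          (by rw [sup_comm]; exact hHD hx)
        have hk' : k ∈ H.map f ⊓ K.map f := Subgroup.mem_inf.2 ⟨by
          have : k = x * h⁻¹ := by rw [← hhk, mul_inv_cancel_right]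
          rw [this]
          exact mul_mem hx (inv_mem (Subgroup.commutator_le_self _ hh)), Subgroup.commutator_le_self _ hk⟩
        rw [Subgroup.inf_eq_bot_of_coprime hd, Subgroup.mem_bot] at hk'
        rw [← hhk, hk', one_mul]
        exact hh
      haveI : Group.IsSolvable (H.map f) := inferInstance
      by_contra hne
      haveI := (Subgroup.nontrivial_iff_ne_bot (H.map f)).2 hne
      refine (Group.IsSolvable.commutator_lt_top_of_nontrivial (H.map f)).ne (Subgroup.map_injective (H.map f).subtype_injective ?_)
      rw [Subgroup.map_subtype_commutator, ← MonoidHom.range_eq_map, Subgroup.range_subtype]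
      exact le_antisymm (Subgroup.commutator_le_self _) hperf
    have hHJ : H = J := by
      refine le_antisymm ?_ hJH
      rw [Subgroup.map_eq_bot_iff, hfker] at hHbar
      exact hHbar
    refine ⟨hHJ, ?_⟩
    rintro x ⟨hxH, hxK⟩
    -- the norm map into the abelianization
    classical
    have := Fintype.ofFinite K
    let α : Abelianization H := Abelianization.of ⟨x, hxH⟩
    let ν : H →* Abelianization H := MonoidHom.mk'
      (fun h => ∏ k : K, Abelianization.of (⟨(k : G) * h * (k : G)⁻¹, hHn.conj_mem _ h.2 _⟩ : H)) (fun h h' => by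
        rw [← Finset.prod_mul_distrib]
        refine Finset.prod_congr rfl fun k _ => ?_
        rw [← map_mul]
        congr 1
        exact Subtype.ext (by simp [mul_assoc]))
    have hν : ∀ h ∈ J, ∀ hH' : h ∈ H, ν ⟨h, hH'⟩ = 1 := by
      suffices hle : J ≤ (ν.ker).map H.subtype by
        intro h hh hH'
        obtain ⟨w, hw, hwh⟩ := hle hh
        have : (⟨h, hH'⟩ : H) = w := Subtype.ext hwh.symm
        rw [this]
        exact hw
      rw [hJ, Subgroup.commutator_le]
      intro h hh k hk
      have hmem : h * k * h⁻¹ * k⁻¹ ∈ H := Subgroup.commutator_le_left H K (Subgroup.commutator_mem_commutator hh hk)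
      refine ⟨⟨_, hmem⟩, ?_, rfl⟩
      have e : (⟨_, hmem⟩ : H) = ⟨h, hh⟩ * (⟨k * h * k⁻¹, hHn.conj_mem h hh k⟩ : H)⁻¹ :=
        Subtype.ext (by simp [mul_assoc])
      show ν _ = 1
      rw [e, map_mul, map_inv, mul_inv_eq_one]
      refine (Fintype.prod_equiv (Equiv.mulRight (⟨k, hk⟩ : K)) _ _ fun l => ?_).symm
      congr 1
      exact Subtype.ext (by simp [mul_assoc])
    have h1 : α ^ Fintype.card K = 1 := by
      rw [← hν x (hHJ ▸ hxH) hxH]
      change α ^ Fintype.card K = ∏ k : K, _
      rw [← Finset.card_univ, ← Finset.prod_const]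
      refine Finset.prod_congr rfl fun k _ => ?_
      refine congrArg Abelianization.of (Subtype.ext ?_)
      show x = (k : G) * x * (k : G)⁻¹
      rw [Subgroup.mem_centralizer_iff.1 hxK k k.2, mul_inv_cancel_right]
    have h2 : α = 1 := by
      refine orderOf_eq_one_iff.1 (Nat.eq_one_of_dvd_coprimes hHall ?_ ?_)
      · exact (orderOf_map_dvd _ _).trans (_root_.orderOf_dvd_natCard _)
      · rw [hc.symm.index_eq_card, Nat.card_eq_fintype_card]
        exact orderOf_dvd_of_pow_eq_one h1
    have h3 : (⟨x, hxH⟩ : H) ∈ commutator H := by
      have := Abelianization.ker_of H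
      rw [← this]
      exact h2
    rw [← Subgroup.map_subtype_commutator]
    exact ⟨_, h3, rfl⟩
  refine ⟨partA, fun hnil hr => ?_⟩
  set D := commutator G
  haveI := Fact.mk hr
  have hcop : (Nat.card D).Coprime D.index := by
    by_contra hcon
    have hrD : D.index ∣ Nat.card D := by
      by_contra h
      exact hcon ((Nat.Prime.coprime_iff_not_dvd hr).2 h).symm
    haveI := hnil
    set r := D.index with hrdef
    let N := Cfsg.pPrimeCore r D
    have hNn : (N.map D.subtype).Normal := by
      haveI : N.Characteristic := by
        refine Subgroup.characteristic_iff_map_le.2 fun φ => CfsgLib.Solvable.le_pPrimeCore r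
          (Subgroup.Normal.map inferInstance _ φ.surjective) ?_
        exact (CfsgLib.Solvable.coprime_card_pPrimeCore r).coprime_dvd_left (Subgroup.card_map_dvd _ _)
      exact ConjAct.normal_of_characteristic_of_normal
    haveI := hNn
    let π : G →* G ⧸ N.map D.subtype := QuotientGroup.mk' _
    have hπ : Function.Surjective π := QuotientGroup.mk'_surjective _
    have hpg : IsPGroup r (G ⧸ N.map D.subtype) := by
      -- the index of `O_{r'}(D)` is a power of `r`
      obtain ⟨S⟩ := (inferInstance : Nonempty (Sylow r D))
      obtain ⟨k, hk⟩ := IsPGroup.iff_card.1 S.2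
      have hSN : (Nat.card N) * r ^ k = Nat.card D := by
        haveI : (S : Subgroup D).Normal := S.normal_of_normalizerCondition Group.normalizerCondition_of_isNilpotent
        obtain ⟨T, hT⟩ := Subgroup.exists_right_complement'_of_coprime S.card_coprime_index
        haveI : T.Normal := by
          refine ⟨fun t ht g => ?_⟩
          have hto : (orderOf t).Coprime r := by
            refine Nat.Coprime.coprime_dvd_left (T.orderOf_dvd_natCard ht) ?_
            rw [← hT.symm.index_eq_card]
            exact CfsgLib.PResidual.coprime_of_not_dvd hr S.not_dvd_index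
          obtain ⟨t', ht', w, hw, he⟩ := (CfsgLib.Solvable.mem_sup_of_le_normalizer
            (Subgroup.le_normalizer_of_normal : T ≤ Subgroup.normalizer ((S : Subgroup D) : Set D))).1
              (sup_comm (S : Subgroup D) T ▸ hT.sup_eq_top ▸ Subgroup.mem_top (g * t * g⁻¹))
          have ht'o : (orderOf t').Coprime r := by
            refine Nat.Coprime.coprime_dvd_left (T.orderOf_dvd_natCard ht') ?_
            rw [← hT.symm.index_eq_card]
            exact CfsgLib.PResidual.coprime_of_not_dvd hr S.not_dvd_index
          obtain ⟨i, hi⟩ : ∃ i, orderOf w = r ^ i := by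
            obtain ⟨i, hi⟩ := IsPGroup.iff_orderOf.1 S.2 ⟨w, hw⟩
            exact ⟨i, by rwa [← Subgroup.orderOf_coe] at hi⟩
          have hco : (orderOf t').Coprime (orderOf w) := hi ▸ ht'o.pow_right i
          have hc' : Commute t' w := CfsgLib.FGSA.commute_of_coprime_orderOf t' w hco
          have hw1 : w = 1 := by
            have h1 : orderOf (g * t * g⁻¹) = orderOf t' * orderOf w := by
              rw [← he, hc'.orderOf_mul_eq_mul_orderOf_of_coprime hco]
            have h2 : orderOf (g * t * g⁻¹) = orderOf t := (MulAut.conj g).orderOf_eq t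
            refine orderOf_eq_one_iff.1 (Nat.eq_one_of_dvd_coprimes (hto.pow_right i) ?_ hi.dvd)
            rw [← h2, h1]
            exact dvd_mul_left _ _
          rw [← he, hw1, mul_one]
          exact ht'
        have hTc : (Nat.card T).Coprime r := by
          rw [← hT.symm.index_eq_card]
          exact CfsgLib.PResidual.coprime_of_not_dvd hr S.not_dvd_index
        have hTN : T ≤ N := CfsgLib.Solvable.le_pPrimeCore r inferInstance hTc
        have h1 : Nat.card N ∣ Nat.card T := by
          have h2 := Subgroup.card_subgroup_dvd_card N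
          rw [← hT.card_mul] at h2
          refine Nat.Coprime.dvd_of_dvd_mul_left ?_ h2
          rw [hk]
          exact (CfsgLib.Solvable.coprime_card_pPrimeCore r).pow_right k
        rw [← hT.card_mul, hk, mul_comm (r ^ k), Nat.dvd_antisymm h1 (Subgroup.card_dvd_of_le hTN)]
      refine IsPGroup.of_card (n := k + 1) ?_
      rw [← Subgroup.index_eq_card]
      have h3 := Subgroup.card_mul_index (N.map D.subtype)
      rw [Subgroup.card_map_of_injective D.subtype_injective, ← Subgroup.card_mul_index D, ← hSN, mul_assoc] at h3
      rw [Nat.eq_of_mul_eq_mul_left Nat.card_pos h3, pow_succ]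
    haveI := hpg.isNilpotent
    have hDbar : D.map π = commutator (G ⧸ N.map D.subtype) := by
      show (commutator G).map π = _
      rw [_root_.commutator_def, _root_.commutator_def, Subgroup.map_commutator,
        Subgroup.map_top_of_surjective _ hπ]
    have hidx : (commutator (G ⧸ N.map D.subtype)).index = r := by
      rw [← hDbar, Subgroup.index_map, MonoidHom.range_eq_top.2 hπ, Subgroup.index_top, mul_one, QuotientGroup.ker_mk',
        sup_eq_left.2 (Subgroup.map_subtype_le N)]
    have hab : commutator (G ⧸ N.map D.subtype) = ⊥ := by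
      set Q := G ⧸ N.map D.subtype
      obtain ⟨g, hg⟩ : ∃ g : Q, g ∉ commutator Q := by
        by_contra hall
        push Not at hall
        exact hr.ne_one (hidx ▸ Subgroup.index_eq_one.2 (eq_top_iff.2 fun x _ => hall x))
      have htop : Subgroup.zpowers g ⊔ commutator Q = ⊤ := by
        have h4 := Subgroup.index_dvd_of_le (le_sup_right : commutator Q ≤ Subgroup.zpowers g ⊔ commutator Q)
        rw [hidx, Nat.dvd_prime hr] at h4
        rcases h4 with h4 | h4
        · exact Subgroup.index_eq_one.1 h4
        · exfalso
          have h5 := Subgroup.relIndex_mul_index (le_sup_right : commutator Q ≤ Subgroup.zpowers g ⊔ commutator Q)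
          rw [h4, hidx] at h5
          exact hg ((Subgroup.relIndex_eq_one.1 ((Nat.mul_eq_right hr.ne_zero).1 h5))
            (Subgroup.mem_sup_left (Subgroup.mem_zpowers g)))
      have hfr : commutator Q ≤ frattini Q := (CfsgLib.PGroupBasic.commutator_pow_le_frattini hpg).1
      have hz : Subgroup.zpowers g = ⊤ := frattini_nongenerating (top_unique (htop ▸ sup_le_sup_left hfr _))
      rw [_root_.commutator_def, Subgroup.commutator_eq_bot_iff_le_centralizer, ← hz]
      intro x hx
      refine Subgroup.mem_centralizer_iff.2 fun y hy => ?_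
      exact setLike_mul_comm hy hx
    rw [← hDbar, Subgroup.map_eq_bot_iff, QuotientGroup.ker_mk'] at hab
    have hND : N.map D.subtype = D := le_antisymm (Subgroup.map_subtype_le N) hab
    have hcard : Nat.card D = Nat.card N := by
      conv_lhs => rw [← hND]
      exact Subgroup.card_map_of_injective D.subtype_injective
    rw [hcard] at hrD
    exact (Nat.Prime.coprime_iff_not_dvd hr).1 (CfsgLib.Solvable.coprime_card_pPrimeCore r).symm hrD
  refine ⟨hcop, fun K hK => le_antisymm ?_ ?_⟩
  · exact ((partA D K inferInstance hcop hK le_rfl).1).le.trans (Subgroup.commutator_mono le_top le_rfl)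
  · exact Subgroup.commutator_mono le_rfl le_top

end Cfsg.Agent.S1459
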