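import Cfsg.Statements.S1383
import Cfsg.Agent.OddLocal.KappaTypeFive
-- import your own Cfsg.Agent.* helpers here

set_option autoImplicit false
open Cfsg

namespace Cfsg.Agent.S1383

/-- Let G be a minimal simple group of odd order and M a maximal subgroup with standard factorisation M = K U M_σ. Then M is of Type V if and only if K ≠ 1, U = 1 and M_F = M_σ. -/
theorem result {G : Type*} [Group G] [Finite G] (hG : Cfsg.IsMinSimpleOddOrder G)
    (M : Subgroup G) (hM : IsCoatom M) (K U : Subgroup G) (hKU : Cfsg.IsSigmaDecomposition M K U) :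
    Cfsg.IsOfTypeV M ↔ (K ≠ ⊥ ∧ U = ⊥ ∧ Cfsg.fittingHallOf M = Cfsg.sigmaCore M) := by
  constructor
  · rintro ⟨W₁, V, W₂, hP, hV, -⟩
    have hK1 : K ≠ ⊥ := (CfsgLib.OddLocal.Kap.kappa_nonempty_iff hG hM hKU).1
      (CfsgLib.OddLocal.Kap.kappa_of_typeP hG hM hP)
    exact ⟨hK1, (CfsgLib.OddLocal.Kap.outer_trivial_iff hG hM hKU hK1 hP).1 hV⟩
  · rintro ⟨hK1, hU, hF⟩
    have hd := CfsgLib.OddLocal.Kap.derived_eq_of_bot hG hM hKU hK1 hU
    have hP := CfsgLib.OddLocal.Kap.typeP_data (V := (⊥ : Subgroup G)) hG hM hKU hK1 inferInstance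
      (by rw [Subgroup.normalizer_eq_top_iff.2 inferInstance]; exact le_top)
      ⟨hF ▸ hd.ge, bot_le, inf_bot_eq _, fun m hm => ⟨m, hF ▸ hd.le hm, 1, Subgroup.one_mem _, (mul_one m).symm⟩⟩
    exact ⟨K, ⊥, _, hP, rfl, CfsgLib.OddLocal.Kap.typeFive_cases hG hM hKU hK1 hU hF⟩

end Cfsg.Agent.S1383
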