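import Cfsg.Statements.S1472
import Cfsg.Agent.FGSA.NormOne.Main

set_option autoImplicit false
open Cfsg

namespace Cfsg.Agent.S1472

/-- Let p, q be primes with (p^q − 1)/(p − 1) coprime to p − 1, G a finite group, F a field with p ^ q elements, and P, U, Q subgroups of G with: f : G → F bijective from P onto F and additive on P; U normalizing P and acting through ψ : G → F, injective and multiplicative on U with ψ(u) ≠ 0 and f(uxu⁻¹) = ψ(u) f(x); #U · (p − 1) = p^q − 1; Q abelian of order coprime to p, normalized by every x ∈ P with f(x) in the prime field; and some y ∈ Q such that y x y⁻¹ normalizes U for every such x. Then p ≤ q. -/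
theorem result {G : Type*} [Group G] [Finite G] (p q : ℕ) [Fact p.Prime] [Fact q.Prime] (hA : Nat.Coprime ((p ^ q - 1) / (p - 1)) (p - 1))
    (F : Type*) [Field F] [Fintype F] (hF : Fintype.card F = p ^ q) (P U Q : Subgroup G) (f ψ : G → F)
    (hf : Set.BijOn f (P : Set G) Set.univ) (hfadd : ∀ x ∈ P, ∀ z ∈ P, f (x * z) = f x + f z)
    (hUP : U ≤ Subgroup.normalizer (P : Set G)) (hψ : ∀ u ∈ U, ψ u ≠ 0 ∧ ∀ x ∈ P, f (u * x * u⁻¹) = ψ u * f x)
    (hψmul : ∀ u ∈ U, ∀ v ∈ U, ψ (u * v) = ψ u * ψ v) (hψinj : Set.InjOn ψ (U : Set G)) (hUcard : Nat.card U * (p - 1) = p ^ q - 1)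
    (hQ : IsMulCommutative Q) (hQp : (Nat.card Q).Coprime p) (hP0Q : ∀ x ∈ P, f x ^ p = f x → x ∈ Subgroup.normalizer (Q : Set G))
    (y : G) (hy : y ∈ Q) (hP0U : ∀ x ∈ P, f x ^ p = f x → y * x * y⁻¹ ∈ Subgroup.normalizer (U : Set G)) :
    p ≤ q := by
  classical
  by_contra hle
  rw [not_le] at hle
  haveI : CharP F p := charP_of_card_eq_prime_pow (p := p) (f := q) hF
  letI : Algebra (ZMod p) F := ZMod.algebra F p
  have hp1 : 1 < p := (Fact.out : p.Prime).one_lt
  have hM : CfsgLib.NormOne.M p q = (p ^ q - 1) / (p - 1) := CfsgLib.NormOne.M_eq_div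
  have hUM : Nat.card U = CfsgLib.NormOne.M p q := by
    have h1 := CfsgLib.NormOne.M_mul p q hp1.le
    exact Nat.eq_of_mul_eq_mul_right (by omega : 0 < p - 1) (hUcard.trans h1.symm)
  have hsur : ∀ c : F, ∃ x ∈ P, f x = c := fun c => hf.surjOn (Set.mem_univ c)
  choose σ hσP hσf using hsur
  have hσfx : ∀ x ∈ P, σ (f x) = x := fun x hx => hf.injOn (hσP _) hx (hσf _)
  have hfixed : ∀ i : ZMod p, f (σ (algebraMap (ZMod p) F i)) ^ p = f (σ (algebraMap (ZMod p) F i)) :=
    fun i => by rw [hσf, ← map_pow, ZMod.pow_card]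
  have hψ1 : ψ 1 = 1 := by
    have := hψmul 1 (one_mem U) 1 (one_mem U)
    rw [one_mul] at this
    exact (left_eq_mul₀ (hψ 1 (one_mem U)).1).mp this
  have hψpow : ∀ u ∈ U, ∀ k : ℕ, ψ (u ^ k) = ψ u ^ k := by
    intro u hu k
    induction k with
    | zero => rw [pow_zero, pow_zero, hψ1]
    | succ k ih => rw [pow_succ, pow_succ, hψmul _ (pow_mem hu k) _ hu, ih]
  have hnorm : ∀ u ∈ U, ψ u ^ CfsgLib.NormOne.M p q = 1 := by
    intro u hu
    rw [← hψpow u hu, ← hUM, ← Subgroup.coe_mk U u hu, ← Subgroup.coe_pow, pow_card_eq_one',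
      Subgroup.coe_one, hψ1]
  have hsurj : ∀ x : F, x ^ CfsgLib.NormOne.M p q = 1 → ∃ u ∈ U, ψ u = x := by
    intro x hx
    haveI : Fintype U := Fintype.ofFinite _
    have hsub : Finset.univ.image (fun u : U => ψ u) ⊆
        Finset.univ.filter (fun x : F => x ^ CfsgLib.NormOne.M p q = 1) := by
      intro c hc
      obtain ⟨u, -, rfl⟩ := Finset.mem_image.mp hc
      exact Finset.mem_filter.mpr ⟨Finset.mem_univ _, hnorm u u.2⟩
    have hinj : Function.Injective (fun u : U => ψ u) := fun u v h =>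
      Subtype.ext (hψinj u.2 v.2 h)
    have heq := Finset.eq_of_subset_of_card_le hsub (by
      rw [CfsgLib.NormOne.card_normOne hF,
        Finset.card_image_of_injective _ hinj,
        Finset.card_univ, ← Nat.card_eq_fintype_card, hUM])
    have hm := heq.ge (Finset.mem_filter.mpr ⟨Finset.mem_univ x, hx⟩)
    obtain ⟨u, -, hu⟩ := Finset.mem_image.mp hm
    exact ⟨u, u.2, hu⟩
  have hcfg : CfsgLib.NormOne.Config p q σ ψ U Q y :=
    { card := hF
      cop := hM ▸ hA
      lt := hle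
      add := fun a b => hf.injOn (hσP _) (mul_mem (hσP a) (hσP b))
        (by rw [hfadd _ (hσP a) _ (hσP b), hσf, hσf, hσf])
      inj := fun a b h => by rw [← hσf a, h, hσf b]
      conj := fun u hu c => by
        have h1 : u * σ c * u⁻¹ ∈ P := (Subgroup.mem_normalizer_iff.mp (hUP hu) _).mp (hσP c)
        rw [← hσfx _ h1, (hψ u hu).2 _ (hσP c), hσf]
      psi_mul := hψmul
      psi_inj := hψinj
      psi_norm := hnorm
      psi_surj := hsurj
      ucop := by
        rw [hUM, Nat.coprime_comm, (Fact.out : p.Prime).coprime_iff_not_dvd]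
        exact CfsgLib.NormOne.not_dvd_M
      qcomm := fun z hz w hw => congrArg Subtype.val (hQ.is_comm.comm ⟨z, hz⟩ ⟨w, hw⟩)
      qp := fun z hz hzp => by
        have h1 : z ^ Nat.card Q = 1 := by
          rw [← Subgroup.coe_mk Q z hz, ← Subgroup.coe_pow, pow_card_eq_one', Subgroup.coe_one]
        have h2 := pow_gcd_eq_one.mpr ⟨h1, hzp⟩
        rwa [hQp, pow_one] at h2
      ymem := hy
      sq := fun i => hP0Q _ (hσP _) (hfixed i)
      tu := fun i => hP0U _ (hσP _) (hfixed i) }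
  exact hcfg.false_of_config

end Cfsg.Agent.S1472
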