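import Cfsg.Statements.S1436
import Cfsg.Agent.OddLocal.KappaSupportPair
import Cfsg.Agent.OddLocal.KappaPairApps
import Cfsg.Agent.OddLocal.KappaBeta
import Cfsg.Agent.OddLocal.KappaTypeTwo
import Cfsg.Agent.S1404
import Cfsg.Agent.S1408
import Cfsg.Agent.S1416
-- import your own Cfsg.Agent.* helpers here

set_option autoImplicit false
open Cfsg

namespace Cfsg.Agent.S1436

/-- Let G be a minimal simple group of odd order, M a maximal subgroup, x ≠ 1 in M_σ with C_G(x) ⊄ M, and N a maximal subgroup containing C_G(x). (a) If some prime of σ(N) divides the order of M, then κ(M) = ∅ and τ₂(M) = ∅. (b) If y ≠ 1 in M_σ has C_G(y) ⊄ M, N' is a maximal subgroup containing C_G(y), and gN'g⁻¹ = N for some g ∈ G, then mN'm⁻¹ = N for some m ∈ M. -/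
theorem result {G : Type*} [Group G] [Finite G] (hG : Cfsg.IsMinSimpleOddOrder G)
    (M : Subgroup G) (hM : IsCoatom M) (x : G) (hx : x ∈ Cfsg.sigmaCore M) (hx1 : x ≠ 1) (hxM : ¬ Subgroup.centralizer ({x} : Set G) ≤ M)
    (N : Subgroup G) (hN : IsCoatom N) (hxN : Subgroup.centralizer ({x} : Set G) ≤ N) :
    ((∃ p ∈ Cfsg.sigma N, p ∣ Nat.card M) → Cfsg.kappa M = ∅ ∧ Cfsg.tau2 M = ∅) ∧
      ∀ (y : G) (N' : Subgroup G) (g : G), y ∈ Cfsg.sigmaCore M → y ≠ 1 → ¬ Subgroup.centralizer ({y} : Set G) ≤ M → IsCoatom N' → Subgroup.centralizer ({y} : Set G) ≤ N' →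
        N'.map (MulAut.conj g).toMonoidHom = N → ∃ m ∈ M, N'.map (MulAut.conj m).toMonoidHom = N := by
  obtain ⟨N₀, hN₀, -, hu, hnc₀, hcompl₀, hnilN₀, hτ₀, -⟩ := CfsgLib.OddLocal.Kap.exists_over hG hM hx hx1 hxM
  obtain rfl : N = N₀ := hu N hN hxN
  refine ⟨?_, ?_⟩
  · rintro ⟨p, hpN, hpM⟩
    by_cases hκN : (Cfsg.kappa N).Nonempty
    · exact ⟨(CfsgLib.OddLocal.Kap.supported_structure hG hM hx hx1 hxM hN hxN hκN).1,
        (CfsgLib.OddLocal.Kap.supported_structure hG hM hx hx1 hxM hN hxN hκN).2.1⟩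
    rw [Set.not_nonempty_iff_eq_empty] at hκN
    haveI := Fact.mk hpN.1
    obtain ⟨s, hs, x₁, hx₁, hx₁o, hle⟩ := CfsgLib.OddLocal.Kap.exists_prime_root (Subgroup.mem_zpowers x) hx1
    haveI := Fact.mk hs
    have hx₁σ : x₁ ∈ Cfsg.sigmaCore M := Subgroup.zpowers_le.2 hx hx₁
    have hx₁1 : x₁ ≠ 1 := fun e => hs.ne_one (by rw [← hx₁o, e, orderOf_one])
    have hx₁M : ¬ Subgroup.centralizer ({x₁} : Set G) ≤ M := fun h => hxM (hle.trans h)
    obtain ⟨N₁, hN₁, hCN₁, hu₁, hnc, hcompl, hnilN, hτ, -⟩ :=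
      CfsgLib.OddLocal.Kap.exists_over hG hM hx₁σ hx₁1 hx₁M
    obtain rfl : N₁ = N := hu N₁ hN₁ (hle.trans hCN₁)
    have hsτ : s ∈ Cfsg.tau2 N₁ := hτ s hs (dvd_of_eq hx₁o.symm)
    have hideal := (Cfsg.Agent.S1408.result hG N₁ hN₁ s hsτ.2.1 hsτ.2.2.1 hsτ.2.2.2).1
    have hsM : s ∈ Cfsg.sigma M := CfsgLib.OddLocal.Kap.mem_sigma_of_mem_core hG hM hs hx₁σ hx₁o
    have hpσ : p ∉ Cfsg.sigma M := fun h => by
      obtain ⟨g, hg⟩ := CfsgLib.OddLocal.Kap.conj_of_common hG hM hN₁ h hpN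
      exact hnc g hg
    have hκM : Cfsg.kappa M = ∅ := by
      by_contra hne
      obtain ⟨q, hq⟩ := Set.nonempty_iff_ne_empty.2 hne
      haveI := Fact.mk hq.1
      obtain ⟨u₀, hu₀⟩ := exists_prime_orderOf_dvd_card' (G := M) q hq.2.1
      obtain ⟨H, hH, -, hH1⟩ := CfsgLib.OddLocal.Kap.exists_hall_kappa hG hM (y := (u₀ : G)) u₀.2
        (by rw [Subgroup.orderOf_coe, hu₀]) hq
      obtain ⟨U, hKU⟩ := CfsgLib.OddLocal.Kap.exists_decomp hG hM (CfsgLib.OddLocal.Kap.kappa_cyclic hG hM hH) hH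
      by_cases hU1 : U = ⊥
      · subst hU1
        have hpκ : p ∈ Cfsg.kappa M := by_contra fun h =>
          CfsgLib.OddLocal.Kap.not_hasOuter_of_decomp_bot hG hM hKU ⟨p, hpN.1, hpM, hpσ, h⟩
        have hpH : p ∣ Nat.card H := by
          by_contra h
          refine hH.2.2 p hpN.1 hpκ ?_
          refine (hpN.1.dvd_mul.1 ?_).resolve_left h
          rw [← Subgroup.relIndex_bot_left, Subgroup.relIndex_mul_relIndex ⊥ H M bot_le hH.1, Subgroup.relIndex_bot_left]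
          exact hpM
        obtain ⟨k₀, hk₀⟩ := exists_prime_orderOf_dvd_card' (G := H) p hpH
        obtain ⟨P, hP, hPH, hHe, -, -⟩ := CfsgLib.OddLocal.Kap.exists_partner hG hM hH hH1
        obtain ⟨hkP, hpP, -, -⟩ := CfsgLib.OddLocal.Kap.partner_sigma hG hM hKU hH1 hP hPH hHe k₀.2
          (show orderOf (k₀ : G) = p by rw [Subgroup.orderOf_coe, hk₀])
        obtain ⟨g, hg⟩ := CfsgLib.OddLocal.Kap.conj_of_common hG hP hN₁ hpP hpN
        obtain ⟨r, hr, h, hh, hho⟩ := CfsgLib.OddLocal.Kap.exists_order_prime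
          (CfsgLib.OddLocal.Kap.fixed_ne_bot hG hM hH hH1)
        haveI := Fact.mk hr
        have hrκ : r ∈ Cfsg.kappa P := hPH.2.1 r hr (CfsgLib.OddLocal.Kap.dvd_of_mem hh hho)
        have hhk : Commute h (k₀ : G) := (Subgroup.mem_centralizer_iff.1 hh.2 k₀ k₀.2).symm
        have hk1 : (k₀ : G) ≠ 1 := fun e => hpN.1.ne_one (by
          rw [← hk₀, ← Subgroup.orderOf_coe, e, orderOf_one])
        rcases CfsgLib.OddLocal.Kap.mem_kappa_or_tau_two hG hN₁ (p := r) (w := g * h * g⁻¹)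
          (hg ▸ ⟨h, hPH.1 hh, rfl⟩) (by rw [CfsgLib.OddLocal.Kap.conj_orderOf, hho])
          (hg ▸ fun h' => hrκ.2.2.1 ((CfsgLib.OddLocal.Kap.sigma_map_iff g).1 h'))
          (x := g * k₀ * g⁻¹) (hg ▸ CfsgLib.OddLocal.Kap.mem_sigmaCore_conj hG hP hkP g)
          (fun e => hk1 (conj_eq_one_iff.1 e)) (hhk.map (MulAut.conj g).toMonoidHom) with h' | h'
        · rw [hκN] at h'; exact h'
        · exact h'.2.2.2 (hg ▸ CfsgLib.OddLocal.Kap.rank_map g (CfsgLib.OddLocal.Kap.kappa_rank hrκ))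
      · exact hideal (CfsgLib.OddLocal.Kap.sigma_subset_beta hG hM hKU hH1 hU1 hsM).2
    refine ⟨hκM, ?_⟩
    exact CfsgLib.OddLocal.Kap.pair_tau_two hG hM hN₁ hx₁σ hx₁o hCN₁ hsτ hcompl
      (CfsgLib.OddLocal.Kap.nilpotent_of_outer hG hM ⟨p, hpN.1, hpM, hpσ, by rw [hκM]; exact id⟩)
      hnilN hκM hκN hu₁ hpN hpM hpσ
  · intro y N' g hy hy1 hyM hN' hyN hg
    obtain ⟨N₁, hN₁, -, hu', -, hF', -, hτ, -⟩ := CfsgLib.OddLocal.Kap.exists_over hG hM hy hy1 hyM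
    obtain rfl : N' = N₁ := hu' N' hN' hyN
    obtain ⟨s, hs, hsd⟩ := Nat.exists_prime_and_dvd (fun e : orderOf y = 1 => hy1 (orderOf_eq_one_iff.1 e))
    haveI := Fact.mk hs
    have hsτ := hτ s hs hsd
    have hsM : s ∈ Cfsg.sigma M := CfsgLib.OddLocal.Kap.sigma_of_order hG hM hy s hs hsd
    obtain ⟨n, hn, hnF⟩ := CfsgLib.OddLocal.Tau.conj_into_of_product (π := {r | r ∉ Cfsg.sigma N})
      (CfsgLib.OddLocal.Kap.solvable_le hG hN le_rfl) hcompl₀.1
      (Subgroup.map_subtype_le _ : Cfsg.sigmaCore N ≤ N) (CfsgLib.OddLocal.TH.le_normalizer_core N)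
      (by rw [sup_comm]; exact (CfsgLib.OddLocal.Compl.card_eq hG hN hcompl₀).2.1.ge)
      (fun r hr hrσ => CfsgLib.OddLocal.Kap.not_dvd_core hG hN hr hrσ)
      (Y := (M ⊓ N').map (MulAut.conj g).toMonoidHom) ((Subgroup.map_mono inf_le_right).trans hg.le)
      fun r hr hd hrN => by
        haveI := Fact.mk hr
        rw [Subgroup.card_map_of_injective (MulAut.conj g).injective] at hd
        obtain ⟨v, hv⟩ := exists_prime_orderOf_dvd_card' (G := ↥(M ⊓ N')) r hd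
        have hvo : orderOf (v : G) = r := by rw [Subgroup.orderOf_coe, hv]
        have hv' : (v : G) ∈ (⊥ : Subgroup G) := hF'.2.2.1 ▸ ⟨v.2,
          CfsgLib.OddLocal.Kap.mem_core_of_order hG hN' (j := 1) v.2.2 (by rw [hvo, pow_one])
            ((CfsgLib.OddLocal.Kap.sigma_map_iff g).1 (hg ▸ hrN))⟩
        exact hr.ne_one (by rw [← hvo, orderOf_eq_one_iff]; exact Subgroup.mem_bot.1 hv')
    rw [CfsgLib.OddLocal.Tau.map_conj_comp] at hnF
    obtain ⟨B₀, hB₀N, hB₀, hB₀2⟩ := CfsgLib.OddLocal.Uniq.exists_elementary hsτ.2.2.2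
    obtain ⟨c₀, -, hc₀⟩ := CfsgLib.OddLocal.Tau.conj_into_of_product (π := {s})
      (CfsgLib.OddLocal.Kap.solvable_le hG hN' le_rfl) hF'.1
      (Subgroup.map_subtype_le _ : Cfsg.sigmaCore N' ≤ N') (CfsgLib.OddLocal.TH.le_normalizer_core N')
      (by rw [sup_comm]; exact (CfsgLib.OddLocal.Compl.card_eq hG hN' hF').2.1.ge)
      (fun q hq hqr => hqr.symm ▸ CfsgLib.OddLocal.Kap.not_dvd_core hG hN' hs hsτ.2.1) hB₀N fun q hq hd => by
        rw [hB₀2] at hd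
        exact (Nat.prime_dvd_prime_iff_eq hq hs).1 (hq.dvd_of_dvd_pow hd)
    set B := B₀.map (MulAut.conj c₀).toMonoidHom with hBdef
    have hB : Cfsg.IsElementaryAbelian s B := CfsgLib.OddLocal.Tau.elementary_map hB₀ _
    have hB2 : Nat.card B = s ^ 2 := by
      rw [hBdef, Subgroup.card_map_of_injective (MulAut.conj c₀).injective, hB₀2]
    have hB1 : B ≠ ⊥ := fun e => by
      rw [e, Subgroup.card_bot] at hB2; exact (Nat.one_lt_pow two_ne_zero hs.one_lt).ne hB2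
    have hBM : B ≤ M := hc₀.trans inf_le_left
    obtain ⟨m, hm, c, hc, hmc⟩ := (Cfsg.Agent.S1404.result hG M hM s hsM B (IsPGroup.of_card hB2) hB1 hBM).1
      (n * g) (((Subgroup.map_mono hc₀).trans hnF).trans inf_le_left)
    refine ⟨n * g, ?_, ?_⟩
    · rw [hmc]
      exact M.mul_mem hm ((Cfsg.Agent.S1416.result hG M hM s B ⟨hBM, hB, hB2⟩).1 hc)
    · rw [← CfsgLib.OddLocal.Tau.map_conj_comp, hg]
      exact Subgroup.mem_normalizer_iff_map_conj_eq.1 (Subgroup.le_normalizer hn)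

end Cfsg.Agent.S1436
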