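import Cfsg.Statements.S1537
import Cfsg.Agent.OddLocal.KappaDade
-- import your own Cfsg.Agent.* helpers here

set_option autoImplicit false
open Cfsg

namespace Cfsg.Agent.S1537

/-- Let G be a minimal simple group of odd order and M a maximal subgroup. For A equal to A₁(M), A(M) or A₀(M): the set normaliser of A is M, and the Dade hypothesis holds for A, M and the function a ↦ R(a). -/
theorem result {G : Type*} [Group G] [Finite G] (hG : Cfsg.IsMinSimpleOddOrder G) (M : Subgroup G) (hM : IsCoatom M) (A : Set G) (hA : A = Cfsg.typeA1 M ∨ A = Cfsg.typeA M ∨ A = Cfsg.typeA0 M) : Subgroup.normalizer A = M ∧ Cfsg.DadeHypothesis A M (Cfsg.supportR M) := by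
  obtain ⟨h1, h2, h3⟩ := CfsgLib.OddLocal.Kap.support_normalizer hG hM
  have hsub : Cfsg.typeA1 M ⊆ Cfsg.typeA M := CfsgLib.OddLocal.Kap.typeA1_subset_typeA hG hM
  rcases hA with rfl | rfl | rfl
  · exact ⟨h1, CfsgLib.OddLocal.Kap.dade_of_subset hG hM (fun a ha => Or.inl (hsub ha))
      fun m hm a ha => CfsgLib.OddLocal.Kap.typeA1_conj hm ha⟩
  · exact ⟨h2, CfsgLib.OddLocal.Kap.dade_of_subset hG hM (fun a ha => Or.inl ha)
      fun m hm a ha => CfsgLib.OddLocal.Kap.typeA_conj hm ha⟩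
  · exact ⟨h3, CfsgLib.OddLocal.Kap.dade_of_subset hG hM (fun a ha => ha)
      fun m hm a ha => CfsgLib.OddLocal.Kap.typeA0_conj hm ha⟩

end Cfsg.Agent.S1537
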