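import Cfsg.Statements.S3743
import Cfsg.Agent.Comp.Fitting

set_option autoImplicit false
open Cfsg

namespace Cfsg.Agent.S3743

open scoped commutatorElement

theorem isPi_of_sup {G : Type*} [Group G] [Finite G] {π : Set ℕ} (S : Set (Subgroup G))
    (hn : ∀ N ∈ S, N.Normal) (hS : ∀ N ∈ S, ∀ p : ℕ, p.Prime → p ∣ Nat.card N → p ∈ π) :
    ∀ p : ℕ, p.Prime → p ∣ Nat.card ↥(sSup S) → p ∈ π := by
  obtain ⟨T, hT, hmax⟩ := (Set.toFinite {N : Subgroup G | N.Normal ∧ N ≤ sSup S ∧
      ∀ p : ℕ, p.Prime → p ∣ Nat.card N → p ∈ π}).exists_maximal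
    ⟨⊥, Subgroup.normal_of_characteristic _, bot_le, fun p hp hd => by
      rw [Subgroup.card_bot, Nat.dvd_one] at hd; exact absurd hd hp.ne_one⟩
  obtain ⟨hTn, hTle, hTπ⟩ := hT
  have hle : sSup S ≤ T := by
    refine sSup_le fun N hN => ?_
    haveI := hTn
    haveI := hn N hN
    refine (le_sup_right : N ≤ T ⊔ N).trans (hmax ⟨inferInstance, sup_le hTle (le_sSup hN), ?_⟩
      le_sup_left)
    intro p hp hd
    haveI := Fact.mk hp
    by_contra hpi
    have hd2 := Subgroup.card_mul_index (N.subgroupOf (T ⊔ N))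
    have h1 : ¬ p ∣ Nat.card (N.subgroupOf (T ⊔ N)) := by
      rw [Nat.card_congr (Subgroup.subgroupOfEquivOfLe (le_sup_right : N ≤ T ⊔ N)).toEquiv]
      exact fun h => hpi (hS N hN p hp h)
    have h2 : ¬ p ∣ (N.subgroupOf (T ⊔ N)).index := by
      change ¬ p ∣ N.relIndex (T ⊔ N)
      rw [Subgroup.relIndex_sup_right]
      exact fun h => hpi (hTπ p hp (h.trans (Subgroup.index_dvd_card (N.subgroupOf T))))
    rw [← hd2] at hd
    exact (hp.dvd_mul.1 hd).elim h1 h2
  intro p hp hd
  exact hTπ p hp (hd.trans (Subgroup.card_dvd_of_le hle))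

/-- In a finite group G, every subnormal nilpotent subgroup lies in the Fitting subgroup F(G), and, for a set of primes π, every subnormal subgroup all of whose prime divisors lie in π lies in O_π(G). -/
theorem result {G : Type*} [Group G] [Finite G] (A : Subgroup G) (hA : A.IsSubnormal) : (Group.IsNilpotent A → A ≤ Cfsg.fittingSubgroup G) ∧ ∀ π : Set ℕ, (∀ p : ℕ, p.Prime → p ∣ Nat.card A → p ∈ π) → A ≤ Cfsg.piCore π G := by
  refine ⟨fun h => CfsgLib.Comp.subnormal_nilpotent_le_fitting hA h, fun π hπ => ?_⟩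
  obtain ⟨n, hn⟩ : ∃ n, Nat.card G = n := ⟨_, rfl⟩
  induction n using Nat.strong_induction_on generalizing G with
  | _ n ih =>
    subst hn
    rcases hA.lt_normal with rfl | ⟨M, hMn, hAM, hMlt⟩
    · exact le_sSup ⟨inferInstance, hπ⟩
    haveI := hMn
    have hlt : Nat.card M < Nat.card G :=
      lt_of_le_of_ne (Subgroup.card_le_card_group M) fun h => hMlt.ne (Subgroup.eq_top_of_card_eq M h)
    have h1 := ih _ hlt (G := M) (A.subgroupOf M) (hA.subgroupOf (K := M)) (fun p hp hd => hπ p hp (by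
      rwa [Nat.card_congr (Subgroup.subgroupOfEquivOfLe hAM).toEquiv] at hd)) rfl
    have h2 := Subgroup.map_mono (f := M.subtype) h1
    rw [Subgroup.map_subgroupOf_eq_of_le hAM] at h2
    refine h2.trans (le_sSup ⟨?_, fun p hp hd => ?_⟩)
    · haveI : (Cfsg.piCore π M).Characteristic := by
        rw [Subgroup.characteristic_iff_map_le]
        intro φ
        rw [Subgroup.map_le_iff_le_comap]
        refine sSup_le fun N hN => ?_
        rw [← Subgroup.map_le_iff_le_comap]
        refine le_sSup ⟨hN.1.map _ φ.surjective, fun p hp hd => hN.2 p hp ?_⟩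
        rwa [Subgroup.card_map_of_injective (f := φ.toMonoidHom) φ.injective] at hd
      infer_instance
    · rw [Subgroup.card_map_of_injective M.subtype_injective] at hd
      exact isPi_of_sup _ (fun N hN => hN.1) (fun N hN => hN.2) p hp hd

end Cfsg.Agent.S3743
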