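import Cfsg.Statements.S1364
import Cfsg.Agent.OddLocal.KappaNonNilpotentMain
import Cfsg.Agent.OddLocal.KappaExponent
import Cfsg.Agent.S1365
-- import your own Cfsg.Agent.* helpers here

set_option autoImplicit false
open Cfsg

namespace Cfsg.Agent.S1364

/-- Let G be a minimal simple group of odd order, M a maximal subgroup with standard factorisation M = K U M_σ and K ≠ 1, and put K* = M_σ ∩ C_G(K). Then K* is cyclic, nontrivial and contained in M_F, while M_F itself is not cyclic. -/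
theorem result {G : Type*} [Group G] [Finite G] (hG : Cfsg.IsMinSimpleOddOrder G)
    (M : Subgroup G) (hM : IsCoatom M) (K U : Subgroup G) (hKU : Cfsg.IsSigmaDecomposition M K U) (hK1 : K ≠ ⊥) :
    IsCyclic ↥(Cfsg.sigmaCore M ⊓ Subgroup.centralizer (K : Set G)) ∧ (Cfsg.sigmaCore M ⊓ Subgroup.centralizer (K : Set G)) ≠ ⊥ ∧ (Cfsg.sigmaCore M ⊓ Subgroup.centralizer (K : Set G)) ≤ Cfsg.fittingHallOf M ∧ ¬ IsCyclic (Cfsg.fittingHallOf M) := by
  have hcyc : IsCyclic ↥(Cfsg.sigmaCore M ⊓ Subgroup.centralizer (K : Set G)) := by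
    haveI := CfsgLib.OddLocal.Kap.sup_cyclic hG hM hKU.hall hK1
    exact isCyclic_of_injective
      (Subgroup.inclusion (le_sup_right : CfsgLib.OddLocal.Kap.star M K ≤ K ⊔ CfsgLib.OddLocal.Kap.star M K))
      (Subgroup.inclusion_injective _)
  have hne := CfsgLib.OddLocal.Kap.fixed_ne_bot hG hM hKU.hall hK1
  by_cases hnil : Group.IsNilpotent (Cfsg.sigmaCore M)
  · rw [CfsgLib.OddLocal.Kap.fittingHallOf_eq hG hM hnil]
    refine ⟨hcyc, hne, inf_le_left, fun hc => hne ?_⟩
    obtain ⟨hd, hle⟩ := Cfsg.Agent.S1365.result hG M hM K U hKU hK1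
    have hcM := CfsgLib.OddLocal.UTool.commutator_le_centralizer_cyclic (CfsgLib.OddLocal.TH.le_normalizer_core M) hc
    haveI hUc := CfsgLib.OddLocal.Kap.decomp_commutative hG hM hKU hK1
    have hUS : U ≤ Subgroup.centralizer (Cfsg.sigmaCore M : Set G) :=
      (le_sup_left.trans hd.ge).trans hcM
    have hSS : Cfsg.sigmaCore M ≤ Subgroup.centralizer (Cfsg.sigmaCore M : Set G) :=
      (le_sup_right.trans hd.ge).trans hcM
    have hUU : U ≤ Subgroup.centralizer (U : Set G) := fun a ha => Subgroup.mem_centralizer_iff.2 fun b hb =>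
      congrArg Subtype.val (hUc.is_comm.comm (⟨b, hb⟩ : U) ⟨a, ha⟩)
    refine le_bot_iff.1 (hle.trans (le_of_eq (Subgroup.commutator_eq_bot_iff_le_centralizer.2 ?_)))
    rw [hd]
    refine sup_le (Subgroup.le_centralizer_iff.1 (sup_le hUU (Subgroup.le_centralizer_iff.1 hUS)))
      (Subgroup.le_centralizer_iff.1 (sup_le hUS hSS))
  · have hq : Fact (Nat.card ↥(CfsgLib.OddLocal.Kap.star M K)).Prime :=
      ⟨CfsgLib.OddLocal.Kap.deficient_star_prime hG hM hKU.hall hnil⟩
    have hQF := CfsgLib.OddLocal.Kap.deficient_q_le_fittingHall hG hM hKU.hall hnil (q := _) rfl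
    refine ⟨hcyc, hne, (CfsgLib.OddLocal.Kap.deficient_star_qc hG hM hKU.hall hnil rfl).trans hQF, fun hc => ?_⟩
    obtain ⟨D, hD, -, -, -, hDn⟩ := CfsgLib.OddLocal.Kap.deficient_complement hG hM hKU.hall hnil (q := _) rfl
    refine CfsgLib.OddLocal.Kap.deficient_not_central hG hM hKU.hall hnil rfl hD hDn ?_
    have hQc := isCyclic_of_injective (Subgroup.inclusion hQF) (Subgroup.inclusion_injective _)
    refine Subgroup.le_centralizer_iff.1 (hD.2.1.trans
      ((CfsgLib.OddLocal.Kap.deficient_derived hG hM hKU.hall hnil).ge.trans ?_))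
    exact CfsgLib.OddLocal.UTool.commutator_le_centralizer_cyclic
      (CfsgLib.OddLocal.Kap.deficient_q_normal hG hM hKU.hall hnil rfl) hQc

end Cfsg.Agent.S1364
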