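import Cfsg.Statements.S1363
import Cfsg.Agent.OddLocal.KappaTypeTwoSylow
-- import your own Cfsg.Agent.* helpers here

set_option autoImplicit false
open Cfsg

namespace Cfsg.Agent.S1363

/-- Let G be a minimal simple group of odd order and M a maximal subgroup with standard factorisation M = K U M_σ and K ≠ 1. Then U is abelian and the normalizer of U in G is not contained in M. -/
theorem result {G : Type*} [Group G] [Finite G] (hG : Cfsg.IsMinSimpleOddOrder G)
    (M : Subgroup G) (hM : IsCoatom M) (K U : Subgroup G) (hKU : Cfsg.IsSigmaDecomposition M K U) (hK1 : K ≠ ⊥) :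
    IsMulCommutative U ∧ ¬ Subgroup.normalizer (U : Set G) ≤ M := by
  refine ⟨CfsgLib.OddLocal.Kap.decomp_commutative hG hM hKU hK1, fun hle => ?_⟩
  by_cases hU1 : U = ⊥
  · subst hU1
    rw [Subgroup.normalizer_eq_top_iff.2 inferInstance] at hle
    exact hM.1 (top_le_iff.1 hle)
  obtain ⟨q, hq, k, hk, hko, hKq⟩ := CfsgLib.OddLocal.Kap.decomp_generator hG hM hKU hK1 hU1
  haveI := Fact.mk hq
  obtain ⟨N, hN, hNK, hKe, -, -⟩ := CfsgLib.OddLocal.Kap.exists_partner hG hM hKU.hall hK1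
  obtain ⟨r, hr, hrU⟩ := Nat.exists_prime_and_dvd (n := Nat.card U) (fun e => hU1 (Subgroup.eq_bot_of_card_eq _ e))
  haveI := Fact.mk hr
  obtain ⟨R⟩ : Nonempty (Sylow r U) := inferInstance
  have hR1 : (R : Subgroup U).map U.subtype ≠ ⊥ := fun e => by
    rw [Subgroup.map_eq_bot_iff_of_injective _ U.subtype_injective] at e
    exact R.ne_bot_of_dvd_card hrU e
  have hnt : Subgroup.normalizer (((R : Subgroup U).map U.subtype : Subgroup G) : Set G) ≠ ⊤ :=
    CfsgLib.CN.MinSimple.normalizer_ne_top hG (R.2.map U.subtype).isNilpotent hR1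
  obtain ⟨H, hH, hNR⟩ := (eq_top_or_exists_le_coatom _).resolve_left hnt
  obtain ⟨hUH, hKH, hnc⟩ := CfsgLib.OddLocal.Kap.over_sylow hG hM hKU hK1 hU1 hrU R hH hNR
  exact CfsgLib.OddLocal.Kap.over_normalizer hG hM hKU hK1 hN hNK hKe hk hko hU1 hH hnc hUH (hKH hk) hKq
    (inf_le_right.trans hle)

end Cfsg.Agent.S1363
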