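import Cfsg.Statements.S1370
import Cfsg.Agent.OddLocal.KappaPairApps
-- import your own Cfsg.Agent.* helpers here

set_option autoImplicit false
open Cfsg

namespace Cfsg.Agent.S1370

/-- Let G be a minimal simple group of odd order, M a maximal subgroup with standard factorisation M = K U M_σ, K ≠ 1, K* = M_σ ∩ C_G(K) and Z the subgroup generated by K and K*. Then the set of elements of Z lying in neither K nor K* is a TI-subset of G, and its set-normalizer in G is exactly Z. -/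
theorem result {G : Type*} [Group G] [Finite G] (hG : Cfsg.IsMinSimpleOddOrder G)
    (M : Subgroup G) (hM : IsCoatom M) (K U : Subgroup G) (hKU : Cfsg.IsSigmaDecomposition M K U) (hK1 : K ≠ ⊥) :
    Cfsg.IsTISubset ((↑(K ⊔ (Cfsg.sigmaCore M ⊓ Subgroup.centralizer (K : Set G))) : Set G) \ ((K : Set G) ∪ ↑(Cfsg.sigmaCore M ⊓ Subgroup.centralizer (K : Set G)))) ∧ Subgroup.normalizer ((↑(K ⊔ (Cfsg.sigmaCore M ⊓ Subgroup.centralizer (K : Set G))) : Set G) \ ((K : Set G) ∪ ↑(Cfsg.sigmaCore M ⊓ Subgroup.centralizer (K : Set G)))) = K ⊔ (Cfsg.sigmaCore M ⊓ Subgroup.centralizer (K : Set G)) := by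
  obtain ⟨N, hN, hNH, hHe, -, -⟩ := CfsgLib.OddLocal.Kap.exists_partner hG hM hKU.hall hK1
  have hmix := CfsgLib.OddLocal.Kap.mixed_eq hG hM hKU.hall hK1 hN hNH hHe
  have h₀ := CfsgLib.OddLocal.Kap.isNode_self hG hM hKU.hall hK1
  set Z := K ⊔ (Cfsg.sigmaCore M ⊓ Subgroup.centralizer (K : Set G)) with hZ
  set S := CfsgLib.OddLocal.Kap.mixed Z with hS
  rw [show (↑Z : Set G) \ ((K : Set G) ∪ ↑(Cfsg.sigmaCore M ⊓ Subgroup.centralizer (K : Set G))) = S from hmix.symm]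
  have hZn : Z ≤ Subgroup.normalizer S := fun c hc => Subgroup.mem_set_normalizer_iff.2 fun w =>
    ⟨fun hw => CfsgLib.OddLocal.Kap.mixed_invariant hc hw, fun hw => by
      have := CfsgLib.OddLocal.Kap.mixed_invariant (Z.inv_mem hc) hw
      rwa [show c⁻¹ * (c * w * c⁻¹) * c⁻¹⁻¹ = w by group] at this⟩
  refine ⟨fun g hg w hw hgw => absurd (hZn (h₀.mixed_ti hG hw hgw)) hg, le_antisymm (fun g hg => ?_) hZn⟩
  obtain ⟨x, hx, hx1⟩ := (Subgroup.bot_or_exists_ne_one K).resolve_left hK1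
  obtain ⟨y, hy, hy1⟩ := (Subgroup.bot_or_exists_ne_one
    (Cfsg.sigmaCore M ⊓ Subgroup.centralizer (K : Set G))).resolve_left
    (CfsgLib.OddLocal.Kap.fixed_ne_bot hG hM hKU.hall hK1)
  have hdis : K ⊓ (Cfsg.sigmaCore M ⊓ Subgroup.centralizer (K : Set G)) = ⊥ :=
    disjoint_iff.1 (Subgroup.disjoint_of_coprime_natCard (Nat.coprime_of_dvd fun p hp h1 h2 =>
      (hKU.hall.2.1 p hp h1).2.2.1 (CfsgLib.OddLocal.Kap.primes_star hG hM p hp h2)))
  have hw : x * y ∈ S := by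
    rw [hmix]
    refine ⟨mul_mem (Subgroup.mem_sup_left hx) (Subgroup.mem_sup_right hy), ?_⟩
    rintro (h | h)
    · refine hy1 (Subgroup.mem_bot.1 (hdis.le ⟨?_, hy⟩))
      simpa using K.mul_mem (K.inv_mem hx) h
    · refine hx1 (Subgroup.mem_bot.1 (hdis.le ⟨hx, ?_⟩))
      simpa using Subgroup.mul_mem _ h (Subgroup.inv_mem _ hy)
  exact h₀.mixed_ti hG hw ((Subgroup.mem_set_normalizer_iff.1 hg (x * y)).1 hw)

end Cfsg.Agent.S1370
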