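import Cfsg.Statements.S1355
import Cfsg.Agent.OddLocal.KappaFittingStructure
-- import your own Cfsg.Agent.* helpers here

set_option autoImplicit false
open Cfsg

namespace Cfsg.Agent.S1355

/-- Let G be a minimal simple group of odd order and M a maximal subgroup. Then the largest normal nilpotent Hall subgroup M_F of M is nontrivial and contained in M_σ, M_σ is contained in the derived subgroup M', M' is proper in M, and the image of M' in M/M_F is nilpotent. -/
theorem result {G : Type*} [Group G] [Finite G] (hG : Cfsg.IsMinSimpleOddOrder G)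
    (M : Subgroup G) (hM : IsCoatom M) :
    Cfsg.fittingHallOf M ≠ ⊥ ∧ Cfsg.fittingHallOf M ≤ Cfsg.sigmaCore M ∧ Cfsg.sigmaCore M ≤ ⁅M, M⁆ ∧ ⁅M, M⁆ < M ∧
      Group.IsNilpotent ↥((commutator ↥M).map (QuotientGroup.mk' (Cfsg.fittingHall ↥M))) := by
  obtain ⟨H, -, hH1, -, -, -, hHF⟩ := CfsgLib.OddLocal.Kap.exists_normal_hall hG hM
  refine ⟨fun e => hH1 (le_bot_iff.1 (hHF.trans e.le)), CfsgLib.OddLocal.Kap.fittingHallOf_le_sigmaCore hG hM,
    (CfsgLib.OddLocal.Sig.sigma_core hG hM).2.2, ?_, CfsgLib.OddLocal.Kap.derived_quotient_nilpotent hG hM⟩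
  refine lt_of_le_of_ne (Subgroup.commutator_le.2 fun a ha b hb =>
    M.mul_mem (M.mul_mem (M.mul_mem ha hb) (M.inv_mem ha)) (M.inv_mem hb)) fun hd => ?_
  haveI : Group.IsSolvable M := hG.2.2.2 M hM.1
  haveI : Nontrivial M := Finite.one_lt_card_iff_nontrivial.1 (CfsgLib.OddLocal.Kap.one_lt_card_coatom hG hM)
  refine absurd ?_ (Group.IsSolvable.commutator_lt_top_of_nontrivial M).ne
  exact Subgroup.map_injective M.subtype_injective
    (by rw [Subgroup.map_subtype_commutator, hd, ← MonoidHom.range_eq_map, M.range_subtype])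

end Cfsg.Agent.S1355
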