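import Cfsg.Statements.S1390
import Cfsg.Agent.OddLocal.KappaTypeCore
-- import your own Cfsg.Agent.* helpers here

set_option autoImplicit false
open Cfsg

namespace Cfsg.Agent.S1390

/-- Let G be a minimal simple group of odd order, M a maximal subgroup and H = M_F; suppose M is of Type I and U is a complement to H in M, or M is of Type II and U is a complement to H in M'. Then every Sylow subgroup of U is abelian with no elementary abelian subgroup of order p ^ 3; for every nonempty set X of non-identity elements of U centralizing a non-identity element of H, C_G(X) ≤ M and M is the unique maximal subgroup containing C_G(X); and A(M) with A₁(M) removed is a TI-subset of G. -/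
theorem result {G : Type*} [Group G] [Finite G] (hG : Cfsg.IsMinSimpleOddOrder G)
    (M : Subgroup G) (hM : IsCoatom M) (U : Subgroup G)
    (hU : (Cfsg.IsOfTypeI M ∧ Cfsg.IsComplIn (Cfsg.fittingHallOf M) U M) ∨ (Cfsg.IsOfTypeII M ∧ Cfsg.IsComplIn (Cfsg.fittingHallOf M) U ⁅M, M⁆)) :
    (∀ (p : ℕ), p.Prime → ∀ P : Sylow p U, IsMulCommutative (P : Subgroup U) ∧ Cfsg.PRankLE p 2 (P : Subgroup U)) ∧
      (∀ X : Set G, X ⊆ (U : Set G) \ {1} → X.Nonempty → Cfsg.fittingHallOf M ⊓ Subgroup.centralizer X ≠ ⊥ →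
        Subgroup.centralizer X ≤ M ∧ ∀ L : Subgroup G, IsCoatom L → Subgroup.centralizer X ≤ L → L = M) ∧
      Cfsg.IsTISubset (Cfsg.typeA M \ Cfsg.typeA1 M) := by
  obtain ⟨K, hKU, hF, -, -⟩ := CfsgLib.OddLocal.Kap.decomp_of_type hG hM hU
  refine ⟨Cfsg.Agent.S1358.result hG M hM K U hKU, fun X hX hne hc => ?_, ?_⟩
  · have hXU : Subgroup.closure X ≤ U := (Subgroup.closure_le U).2 fun x hx => (hX hx).1
    have hX1 : Subgroup.closure X ≠ ⊥ := fun e => by
      obtain ⟨x, hx⟩ := hne
      exact (hX hx).2 (Subgroup.mem_bot.1 (e.le (Subgroup.subset_closure hx)))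
    rw [← Subgroup.centralizer_closure] at hc ⊢
    rw [hF] at hc
    exact Cfsg.Agent.S1361.result hG M hM K U hKU (Subgroup.closure X) hXU hX1 hc
  · rw [CfsgLib.OddLocal.Kap.typeA_diff_eq hG hM hU]
    exact Cfsg.Agent.S1362.result hG M hM K U hKU

end Cfsg.Agent.S1390
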