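import Cfsg.Statements.S1538
import Cfsg.Agent.OddLocal.KappaSupportInv
import Cfsg.Agent.S1390
-- import your own Cfsg.Agent.* helpers here

set_option autoImplicit false
open Cfsg

namespace Cfsg.Agent.S1538

/-- Let G be a minimal simple group of odd order and M a maximal subgroup of Type II. Then each of A₀(M), A(M), A₁(M) is a TI-subset of G whose set normaliser is M. -/
theorem result {G : Type*} [Group G] [Finite G] (hG : Cfsg.IsMinSimpleOddOrder G) (M : Subgroup G) (hM : IsCoatom M) (hII : Cfsg.IsOfTypeII M) : (Cfsg.IsTISubset (Cfsg.typeA0 M) ∧ Subgroup.normalizer (Cfsg.typeA0 M) = M) ∧ (Cfsg.IsTISubset (Cfsg.typeA M) ∧ Subgroup.normalizer (Cfsg.typeA M) = M) ∧ (Cfsg.IsTISubset (Cfsg.typeA1 M) ∧ Subgroup.normalizer (Cfsg.typeA1 M) = M) := by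
  obtain ⟨hn1, hn2, hn3⟩ := CfsgLib.OddLocal.Kap.support_normalizer hG hM
  obtain ⟨K, U, hKU⟩ := CfsgLib.OddLocal.Kap.exists_decomp_any hG hM
  obtain ⟨hK1, hU1⟩ := (Cfsg.Agent.S1381.result hG M hM K U hKU).1 hII
  have hI : ¬ Cfsg.IsOfTypeI M := fun h => hK1 (CfsgLib.OddLocal.Kap.bot_of_typeF hG hM hKU h.1)
  have hF := CfsgLib.OddLocal.Kap.fittingHallOf_eq_of_outer hG hM hKU hK1 hU1
  have hcore : Cfsg.typeCore M = Cfsg.sigmaCore M := by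
    rw [Cfsg.typeCore, if_neg (fun h => hU1 ((Cfsg.Agent.S1382.result hG M hM K U hKU).1 h).2.1), hF]
  have hcompl : Cfsg.IsComplIn (Cfsg.fittingHallOf M) U ⁅M, M⁆ :=
    hF ▸ CfsgLib.OddLocal.Kap.outer_compl_derived hG hM hKU hK1
  have hti := (Cfsg.Agent.S1390.result hG M hM U (Or.inr ⟨hII, hcompl⟩)).2.2
  -- an element of the core moved into `M` by conjugation
  have hkey : ∀ g z : G, z ∈ Cfsg.sigmaCore M → z ≠ 1 → g * z * g⁻¹ ∈ M → g ∈ M := by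
    intro g z hz hz1 hgz
    by_contra hg
    have h := CfsgLib.OddLocal.Kap.core_meet_conj_eq_bot hG hM hKU hK1 hU1 (g := g⁻¹)
      (fun h => hg (inv_inv g ▸ M.inv_mem h))
    exact hz1 (Subgroup.mem_bot.1 (h.le ⟨hz, g * z * g⁻¹, hgz, by
      show g⁻¹ * (g * z * g⁻¹) * g⁻¹⁻¹ = z; group⟩))
  have hcase : ∀ x ∈ Cfsg.typeA0 M, (∃ n : ℕ, x ^ n ∈ Cfsg.sigmaCore M ∧ x ^ n ≠ 1) ∨
      x ∈ Cfsg.typeA M \ Cfsg.typeA1 M := by
    rintro x (hx | ⟨-, W₁, V, W₂, hP, m, hm, w, hw, h1, -, rfl⟩)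
    · by_cases h : x ∈ Cfsg.typeA1 M
      · exact Or.inl ⟨1, by rw [pow_one]; exact hcore ▸ h.1, by rw [pow_one]; exact h.2⟩
      · exact Or.inr ⟨hx, h⟩
    · obtain ⟨h, hne⟩ := CfsgLib.OddLocal.Kap.power_in_W2 hP hw h1
      refine Or.inl ⟨Nat.card W₁, ?_, ?_⟩
      · rw [conj_pow]
        exact CfsgLib.OddLocal.Kap.conj_mem_of_le_normalizer (CfsgLib.OddLocal.TH.le_normalizer_core M) hm
          ((hP.W₂_le.trans inf_le_left).trans (le_of_eq hF) h)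
      · rw [conj_pow]
        exact fun e => hne (conj_eq_one_iff.1 e)
  have hpow : ∀ (g x : G) (n : ℕ), g * x * g⁻¹ ∈ M → g * x ^ n * g⁻¹ ∈ M := fun g x n h => by
    rw [← conj_pow]; exact M.pow_mem h n
  have hM0 : ∀ x ∈ Cfsg.typeA0 M, x ∈ M := fun x hx => (CfsgLib.OddLocal.Kap.typeA0_subset M hx).1
  have hA0 : Cfsg.IsTISubset (Cfsg.typeA0 M) := by
    intro g hg x hx hgx
    refine absurd ?_ hg
    rw [hn3]
    rcases hcase x hx with ⟨n, h, h1⟩ | hxd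
    · exact hkey g _ h h1 (hpow g x n (hM0 _ hgx))
    rcases hcase _ hgx with ⟨n, h, h1⟩ | hgd
    · have := hkey g⁻¹ _ h h1 (hpow g⁻¹ _ n (by
        rw [show g⁻¹ * (g * x * g⁻¹) * g⁻¹⁻¹ = x by group]; exact hM0 x hx))
      exact inv_inv g ▸ M.inv_mem this
    by_contra hgM
    have hN : g ∉ Subgroup.normalizer (Cfsg.typeA M \ Cfsg.typeA1 M) := fun h => hgM (by
      rwa [CfsgLib.OddLocal.Kap.set_normalizer_eq hG hM (A := Cfsg.typeA M \ Cfsg.typeA1 M)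
        (fun y hy => CfsgLib.OddLocal.Kap.typeA_subset M hy.1) ⟨x, hxd⟩ (fun m hm y hy =>
          ⟨CfsgLib.OddLocal.Kap.typeA_conj hm hy.1, fun h => hy.2 (by
            have := CfsgLib.OddLocal.Kap.typeA1_conj (M.inv_mem hm) h
            rwa [show m⁻¹ * (m * y * m⁻¹) * m⁻¹⁻¹ = y by group] at this)⟩)] at h)
    exact (CfsgLib.OddLocal.Kap.typeA_subset M hxd.1).2 (hti g hN x hxd hgd)
  have hsub : Cfsg.typeA1 M ⊆ Cfsg.typeA M := CfsgLib.OddLocal.Kap.typeA1_subset_typeA hG hM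
  refine ⟨⟨hA0, hn3⟩, ⟨fun g hg x hx hgx => hA0 g (by rwa [hn3, ← hn2]) x (Or.inl hx) (Or.inl hgx), hn2⟩,
    ⟨fun g hg x hx hgx => hA0 g (by rwa [hn3, ← hn1]) x (Or.inl (hsub hx)) (Or.inl (hsub hgx)), hn1⟩⟩

end Cfsg.Agent.S1538
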