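import Cfsg.Statements.S1452
import Cfsg.Agent.Solvable.RankTwo
import Cfsg.Agent.FGSA.Huppert

set_option autoImplicit false
open Cfsg

namespace Cfsg.Agent.S1452

/-- Let p be an odd prime and R a finite p-group containing an elementary abelian subgroup of order p ^ 3. If E is a normal elementary abelian subgroup of R of order p ^ 2, then E ≤ A for some normal subgroup A of R with C_R(A) = A that contains an elementary abelian subgroup of order p ^ 3. -/
theorem result {R : Type*} [Group R] [Finite R] (p : ℕ) [Fact p.Prime] (hp : p ≠ 2) (hR : IsPGroup p R) (hr : ¬ Cfsg.PRankLE p 2 R)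
    (E : Subgroup R) [E.Normal] (hE : Cfsg.IsElementaryAbelian p E) (hE2 : Nat.card E = p ^ 2) :
    ∃ A : Subgroup R, E ≤ A ∧ A.Normal ∧ Subgroup.centralizer (A : Set R) = A ∧ ¬ Cfsg.PRankLE p 2 A := by
  classical
  obtain ⟨B, hBn, hBc, hBe, hB3⟩ : ∃ B : Subgroup R, B.Normal ∧ IsMulCommutative B ∧ (∀ a ∈ B, a ^ p = 1) ∧
      Nat.card B = p ^ 3 := by
    by_contra hcon
    exact hr fun F hFc hFe => CfsgLib.RankTwo.rank_le_two hp hR
      (fun A hA hAc hAe hA3 => hcon ⟨A, hA, hAc, hAe, hA3⟩) F ⟨hFc, hFe⟩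
  haveI := hBn
  haveI := hBc
  haveI := hE.1
  have hEcen : E ≤ Subgroup.centralizer (E : Set R) := Subgroup.le_centralizer_iff_isMulCommutative.2 hE.1
  haveI : (Subgroup.centralizer (E : Set R)).Normal := inferInstance
  obtain ⟨X, hXn, hXc, hXe, hEX, hX3⟩ : ∃ X : Subgroup R, X.Normal ∧ IsMulCommutative X ∧
      (∀ a ∈ X, a ^ p = 1) ∧ E ≤ X ∧ p ^ 3 ≤ Nat.card X := by
    by_cases hEB : E ≤ B
    · exact ⟨B, hBn, hBc, hBe, hEB, hB3.ge⟩
    set B₁ := B ⊓ Subgroup.centralizer (E : Set R) with hB₁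
    have hcomm : ∀ a ∈ (E : Set R) ∪ (B₁ : Set R), ∀ b ∈ (E : Set R) ∪ (B₁ : Set R), a * b = b * a := by
      intro a ha b hb
      rcases ha with ha | ha <;> rcases hb with hb | hb
      · exact congrArg Subtype.val (hE.1.is_comm.comm ⟨a, ha⟩ ⟨b, hb⟩)
      · exact Subgroup.mem_centralizer_iff.1 hb.2 a ha
      · exact (Subgroup.mem_centralizer_iff.1 ha.2 b hb).symm
      · exact congrArg Subtype.val (hBc.is_comm.comm ⟨a, ha.1⟩ ⟨b, hb.1⟩)
    have hsup : E ⊔ B₁ = Subgroup.closure ((E : Set R) ∪ (B₁ : Set R)) := by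
      rw [Subgroup.closure_union, Subgroup.closure_eq, Subgroup.closure_eq]
    haveI := Subgroup.isMulCommutative_closure hcomm
    have hXc : IsMulCommutative ↥(E ⊔ B₁) := by rw [hsup]; infer_instance
    refine ⟨E ⊔ B₁, inferInstance, hXc, ?_, le_sup_left, ?_⟩
    · intro a ha
      obtain ⟨e, he, b, hb, rfl⟩ := Subgroup.mem_sup_of_normal_left.1 ha
      have hc : Commute e b := Subgroup.mem_centralizer_iff.1 hb.2 e he
      rw [hc.mul_pow, hE.2 e he, hBe b hb.1, one_mul]
    · have hidx : (Subgroup.centralizer (E : Set R)).index ≤ p := by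
        have h := CfsgLib.PGroupRank.index_centralizer_le hR E hE2
        exact h.trans (by norm_num)
      have hB₁c : p ^ 3 ≤ Nat.card B₁ * p := by
        rw [← hB3, ← ((Subgroup.centralizer (E : Set R)).subgroupOf B).card_mul_index]
        refine Nat.mul_le_mul (le_of_eq ?_) ((Subgroup.relIndex_le_of_le_right (K := B) (L := ⊤) le_top
          (by rw [Subgroup.relIndex_top_right]; exact Subgroup.index_ne_zero_of_finite)).trans
          (by rw [Subgroup.relIndex_top_right]; exact hidx))
        rw [← Subgroup.card_map_of_injective (K := (Subgroup.centralizer (E : Set R)).subgroupOf B)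
          B.subtype_injective, Subgroup.subgroupOf_map_subtype, inf_comm]
      have hlt : E < E ⊔ B₁ := lt_of_le_of_ne le_sup_left fun h => hEB (by
        have hle : B₁ ≤ E := h ▸ le_sup_right
        have heq : B₁ = E := Subgroup.eq_of_le_of_card_ge hle (by
          rw [hE2]; exact Nat.le_of_mul_le_mul_right (by rwa [← pow_succ]) (Fact.out : p.Prime).pos)
        exact heq ▸ inf_le_left)
      calc p ^ 3 = p * Nat.card E := by rw [hE2, ← pow_succ']
        _ ≤ _ := CfsgLib.FGSA.Huppert.card_mul_le_of_lt hR hlt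
  obtain ⟨A, hXA, ⟨hAn, hAc⟩, hmax⟩ := Set.Finite.exists_le_maximal
    (s := {A : Subgroup R | A.Normal ∧ IsMulCommutative A}) (Set.toFinite _) (a := X) ⟨hXn, hXc⟩
  haveI := hAn
  haveI := hR.isNilpotent
  refine ⟨A, hEX.trans hXA, hAn, ?_, fun h => ?_⟩
  · refine le_antisymm ?_ (Subgroup.le_centralizer_iff_isMulCommutative.2 hAc)
    by_contra hcon
    obtain ⟨x, hxC, hxA, hx⟩ := CfsgLib.PGroupBasic.exists_central_mod A (Subgroup.centralizer (A : Set R))
      (lt_of_le_not_ge (Subgroup.le_centralizer_iff_isMulCommutative.2 hAc) hcon)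
    have hcomm : ∀ a ∈ (A : Set R) ∪ {x}, ∀ b ∈ (A : Set R) ∪ {x}, a * b = b * a := by
      intro a ha b hb
      rcases ha with ha | rfl <;> rcases hb with hb | rfl
      · exact congrArg Subtype.val (hAc.is_comm.comm ⟨a, ha⟩ ⟨b, hb⟩)
      · exact Subgroup.mem_centralizer_iff.1 hxC a ha
      · exact (Subgroup.mem_centralizer_iff.1 hxC b hb).symm
      · rfl
    haveI := Subgroup.isMulCommutative_closure hcomm
    have hn : (Subgroup.closure ((A : Set R) ∪ {x})).Normal := by
      refine ⟨fun v hv g => ?_⟩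
      have hle : Subgroup.closure ((A : Set R) ∪ {x}) ≤
          (Subgroup.closure ((A : Set R) ∪ {x})).comap (MulAut.conj g).toMonoidHom := by
        rw [Subgroup.closure_le]
        rintro a (ha | rfl)
        · exact Subgroup.subset_closure (Or.inl (hAn.conj_mem a ha g))
        · have h := inv_mem (hx g)
          rw [show (a * g * a⁻¹ * g⁻¹)⁻¹ = g * a * g⁻¹ * a⁻¹ by group] at h
          have h2 := mul_mem (Subgroup.subset_closure (Or.inl h) :
            g * a * g⁻¹ * a⁻¹ ∈ Subgroup.closure ((A : Set R) ∪ {a}))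
            (Subgroup.subset_closure (Or.inr rfl))
          rw [inv_mul_cancel_right] at h2
          exact h2
      exact hle hv
    exact hxA (hmax (y := Subgroup.closure ((A : Set R) ∪ {x})) ⟨hn, inferInstance⟩
      (fun a ha => Subgroup.subset_closure (Or.inl ha)) (Subgroup.subset_closure (Or.inr rfl)))
  · have := h (X.subgroupOf A) inferInstance (fun a ha => Subtype.ext (hXe _ ha))
    rw [Nat.card_congr (Subgroup.subgroupOfEquivOfLe hXA).toEquiv] at this
    exact absurd (hX3.trans this) (not_le.2 (Nat.pow_lt_pow_right (Fact.out : p.Prime).one_lt (by norm_num)))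

end Cfsg.Agent.S1452
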