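-- Proof of statement S1545.
import Cfsg.Statements.S1545
import Cfsg.Agent.Coprime.FrobeniusFixedFormula

set_option autoImplicit false
open Cfsg

namespace Cfsg.Agent.S1545

/-- Let X be a finite group with subgroups U, E and H such that U and E generate a subgroup UE = U ⊔ E normalising H, with U normal in UE, U ⊓ E = ⊥, U ≠ ⊥, E ≠ ⊥, every non-identity element of E commuting with no non-identity element of U (UE is a Frobenius group with kernel U acting on H by conjugation), H solvable, H ⊓ (U ⊔ E) = ⊥ and the orders of H and U ⊔ E coprime. Then Nat.card (H ⊓ C(U ⊔ E)) ^ Nat.card E * Nat.card H = Nat.card (H ⊓ C(E)) ^ Nat.card E * Nat.card (H ⊓ C(U)), where C(·) denotes the centraliser. -/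
theorem result {X : Type*} [Group X] [Finite X] (U E H : Subgroup X) (hU1 : U ≠ ⊥) (hE1 : E ≠ ⊥) (hUE : U ⊓ E = ⊥) (hUn : ∀ e ∈ E, ∀ u ∈ U, e * u * e⁻¹ ∈ U) (hfpf : ∀ e ∈ E, e ≠ 1 → ∀ u ∈ U, e * u = u * e → u = 1) (hHn : ∀ x ∈ U ⊔ E, ∀ h ∈ H, x * h * x⁻¹ ∈ H) (hdisj : H ⊓ (U ⊔ E) = ⊥) (hsolv : Group.IsSolvable H) (hcop : Nat.Coprime (Nat.card H) (Nat.card ↥(U ⊔ E))) : Nat.card ↥(H ⊓ Subgroup.centralizer ((U ⊔ E : Subgroup X) : Set X)) ^ Nat.card E * Nat.card H = Nat.card ↥(H ⊓ Subgroup.centralizer (E : Set X)) ^ Nat.card E * Nat.card ↥(H ⊓ Subgroup.centralizer (U : Set X)) := by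
  classical
  set A : Subgroup X := U ⊔ E with hA
  have hN : A ≤ Subgroup.normalizer (H : Set X) := by
    intro x hx
    rw [Subgroup.mem_normalizer_iff]
    refine fun h => ⟨fun hh => hHn x hx h hh, fun hh => ?_⟩
    have := hHn x⁻¹ (A.inv_mem hx) _ hh
    simpa [mul_assoc] using this
  let φ : A →* MulAut H := (Subgroup.normalizerMonoidHom H).comp (Subgroup.inclusion hN)
  haveI : (U.subgroupOf A).Normal := by
    refine (Subgroup.normal_subgroupOf_iff_le_normalizer le_sup_left).2 (sup_le Subgroup.le_normalizer fun e he => ?_)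
    rw [Subgroup.mem_normalizer_iff]
    refine fun u => ⟨fun hu => hUn e he u hu, fun hu => ?_⟩
    have := hUn e⁻¹ (E.inv_mem he) _ hu
    simpa [mul_assoc] using this
  have hinf : U.subgroupOf A ⊓ E.subgroupOf A = ⊥ := by
    rw [Subgroup.eq_bot_iff_forall]
    rintro x ⟨h1, h2⟩
    have : (x : X) ∈ U ⊓ E := ⟨h1, h2⟩
    rw [hUE, Subgroup.mem_bot] at this
    exact Subtype.ext this
  have hsup : U.subgroupOf A ⊔ E.subgroupOf A = ⊤ := by
    exact (Subgroup.subgroupOf_sup le_sup_left le_sup_right).symm.trans (Subgroup.subgroupOf_self A)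
  have hkey := CfsgLib.Coprime.frobenius_formula hinf hsup (fun e he he1 u hu h => Subtype.ext
      (hfpf e he (fun h0 => he1 (Subtype.ext h0)) u hu (congrArg Subtype.val h)))
    (Nat.card H) rfl hsolv hcop.symm φ
  have hcard : ∀ S : Subgroup X, S ≤ A →
      Nat.card (CfsgLib.Coprime.fixedSub φ (S.subgroupOf A)) = Nat.card ↥(H ⊓ Subgroup.centralizer (S : Set X)) := by
    intro S hS
    refine Nat.card_congr ⟨fun h => ⟨((h : H) : X), (h : H).2, Subgroup.mem_centralizer_iff.2 fun s hs => ?_⟩,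
      fun h => ⟨⟨h.1, h.2.1⟩, fun s hs => Subtype.ext ?_⟩, fun h => rfl, fun h => rfl⟩
    · have h1 : s * ((h : H) : X) * s⁻¹ = h := congrArg Subtype.val (h.2 ⟨s, hS hs⟩ hs)
      exact mul_inv_eq_iff_eq_mul.1 h1
    · show (s : X) * h.1 * (s : X)⁻¹ = h.1
      exact mul_inv_eq_iff_eq_mul.2 (Subgroup.mem_centralizer_iff.1 h.2.2 (s : X) hs)
  have htop : (⊤ : Subgroup A) = A.subgroupOf A := (Subgroup.subgroupOf_self A).symm
  rw [htop, hcard A le_rfl, hcard E le_sup_right, hcard U le_sup_left,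
    Nat.card_congr (Subgroup.subgroupOfEquivOfLe (le_sup_right : E ≤ A)).toEquiv] at hkey
  exact hkey

end Cfsg.Agent.S1545
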