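import Cfsg.Statements.S3430
import Cfsg.Agent.Zsigmondy.Basic
import Mathlib.Tactic.NormNum.Prime

set_option autoImplicit false
open Cfsg

namespace Cfsg.Agent.S3430

/-- The small pairs `(q, n)` with a witness (`0`: excluded by hypothesis). -/
def cands : List (ℕ × ℕ × ℕ) := [(2, 3, 7), (2, 5, 31), (2, 7, 127), (2, 8, 17), (2, 9, 73), (2, 11, 23), (2, 13, 8191), (2, 14, 43), (2, 15, 151), (2, 16, 257), (2, 20, 41), (2, 21, 337), (2, 22, 683), (2, 24, 241), (2, 26, 2731), (2, 30, 331), (2, 42, 5419), (3, 3, 13), (3, 5, 11), (3, 7, 1093), (3, 8, 41), (3, 9, 757), (3, 10, 61), (3, 12, 73), (3, 14, 547), (3, 18, 37), (3, 20, 1181), (4, 3, 7), (4, 4, 17), (4, 5, 11), (4, 6, 13), (4, 10, 41), (5, 3, 31), (5, 4, 13), (6, 3, 43), (6, 6, 31), (7, 3, 19), (7, 6, 43), (2, 4, 0), (2, 6, 0), (2, 10, 0), (2, 12, 0), (2, 18, 0), (3, 4, 0), (3, 6, 0), (5, 6, 0)]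

/-- Is `(q, n)` among the small pairs? -/
def small (q n : ℕ) : Bool := cands.any fun t => t.1 == q && t.2.1 == n

set_option maxRecDepth 100000 in
set_option synthInstance.maxSize 20000 in
set_option synthInstance.maxHeartbeats 400000 in
theorem caseB : ∀ n < 128, 3 ≤ n → 2 ^ n.totient ≤ (n + 1) ^ 2 → ∀ q < n + 2, 2 ≤ q →
    q ^ n.totient ≤ (n + 1) ^ 2 → small q n = true := by decide +kernel

set_option maxRecDepth 100000 in
set_option synthInstance.maxSize 20000 in
set_option synthInstance.maxHeartbeats 400000 in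
theorem caseA : ∀ a < 2, ∀ r < 16, (3 ≤ r ∧ r % 2 = 1 ∧ r ≠ 9 ∧ r ≠ 15) → r ^ a * (r - 1) ≤ 14 → ∀ m < r,
    m ∣ r - 1 → 3 ≤ r ^ (a + 1) * m → ∀ q < 140, 2 ≤ q →
    q ^ (r ^ a * (r - 1)) ≤ 7 * (r ^ a * (r - 1)) ^ 3 →
    q ^ (r ^ (a + 1) * m).totient ≤ (r * (r ^ (a + 1) * m + 1)) ^ 2 →
    small q (r ^ (a + 1) * m) = true := by decide +kernel

set_option maxRecDepth 100000 in
set_option synthInstance.maxSize 20000 in
set_option synthInstance.maxHeartbeats 400000 in
theorem caseTwo : ∀ a < 4, 1 ≤ a → ∀ q < 16, 2 ≤ q → q ^ 2 ^ a + 1 ≤ 2 * (2 ^ (a + 1) + 1) →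
    small q (2 ^ (a + 1)) = true := by decide +kernel

set_option maxRecDepth 100000 in
theorem witness_ok : ∀ t ∈ cands, t.2.2 = 0 ∨ (Nat.Prime t.2.2 ∧ t.2.2 ∣ t.1 ^ t.2.1 - 1 ∧
    (∀ i < t.2.1, 1 ≤ i → ¬ t.2.2 ∣ t.1 ^ i - 1) ∧
    (t.2.1 + 1 < t.2.2 ∨ t.2.2 ^ 2 ∣ t.1 ^ t.2.1 - 1)) := by
  simp only [cands, List.forall_mem_cons, List.not_mem_nil, false_implies, implies_true, and_true]
  repeat' apply And.intro
  all_goals first
    | exact Or.inl rfl
    | exact Or.inl trivial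
    | simp; done
    | exact Or.inr ⟨by norm_num, by decide +kernel, by decide +kernel, by decide +kernel⟩


/-- Let q, n ≥ 2 be integers. Unless (n = 2 and q + 1 = 2^s·3^t for some s ≥ 0 and t ≤ 1), or (q = 2 and n ∈ {4, 6, 10, 12, 18}), or (q = 3 and n ∈ {4, 6}), or (q, n) = (5, 6), there is a prime p dividing q^n − 1 but no q^i − 1 with 1 ≤ i < n (a primitive prime divisor), such that p > n + 1 or p² divides q^n − 1. -/
theorem result (q n : ℕ) (hq : 2 ≤ q) (hn : 2 ≤ n)
    (h1 : ¬ (n = 2 ∧ ∃ s t : ℕ, t ≤ 1 ∧ q + 1 = 2 ^ s * 3 ^ t))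
    (h2 : ¬ (q = 2 ∧ (n = 4 ∨ n = 6 ∨ n = 10 ∨ n = 12 ∨ n = 18)))
    (h3 : ¬ (q = 3 ∧ (n = 4 ∨ n = 6))) (h4 : ¬ (q = 5 ∧ n = 6)) :
    ∃ p : ℕ, p.Prime ∧ p ∣ q ^ n - 1 ∧ (∀ i : ℕ, 1 ≤ i → i < n → ¬ p ∣ q ^ i - 1) ∧ (n + 1 < p ∨ p ^ 2 ∣ q ^ n - 1) := by
  rcases (show n = 2 ∨ 3 ≤ n by omega) with rfl | hn3
  · -- n = 2
    have hprim : ∀ p : ℕ, p.Prime → p ≠ 2 → p ∣ q + 1 →
        p ∣ q ^ 2 - 1 ∧ ∀ i : ℕ, 1 ≤ i → i < 2 → ¬ p ∣ q ^ i - 1 := by
      intro p hp hp2 hd
      refine ⟨?_, fun i hi hi2 hd' => ?_⟩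
      · rw [show q ^ 2 - 1 = (q + 1) * (q - 1) by
          rw [← Nat.sq_sub_sq, one_pow]]
        exact dvd_mul_of_dvd_left hd _
      · obtain rfl : i = 1 := by omega
        rw [pow_one] at hd'
        have h2 : p ∣ 2 := by
          have := Nat.dvd_sub hd hd'
          rwa [show q + 1 - (q - 1) = 2 by omega] at this
        exact hp2 ((Nat.prime_dvd_prime_iff_eq hp Nat.prime_two).1 h2)
    by_cases hbig : ∃ p, p.Prime ∧ p ∣ q + 1 ∧ 3 < p
    · obtain ⟨p, hp, hd, hgt⟩ := hbig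
      obtain ⟨h1', h2'⟩ := hprim p hp (by omega) hd
      exact ⟨p, hp, h1', h2', Or.inl hgt⟩
    push Not at hbig
    by_cases h9 : 9 ∣ q + 1
    · obtain ⟨h1', h2'⟩ := hprim 3 Nat.prime_three (by norm_num) (dvd_trans (by norm_num) h9)
      refine ⟨3, Nat.prime_three, h1', h2', Or.inr ?_⟩
      rw [show q ^ 2 - 1 = (q + 1) * (q - 1) by rw [← Nat.sq_sub_sq, one_pow]]
      exact dvd_mul_of_dvd_left h9 _
    obtain ⟨s, o, ho, hso⟩ := Nat.exists_eq_two_pow_mul_odd (show q + 1 ≠ 0 by omega)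
    have ho3 : o ∣ 3 := CfsgLib.Zsig.dvd_of_simple fun p hp hpd => by
      have hp2 : p ≠ 2 := fun e => by subst e; exact (Nat.not_even_iff_odd.2 ho) (even_iff_two_dvd.2 hpd)
      have hpq : p ∣ q + 1 := hso ▸ dvd_mul_of_dvd_right hpd _
      have hp3 : p = 3 := by
        have := hbig p hp hpq
        have := hp.two_le
        omega
      subst hp3
      refine ⟨fun hd => h9 ?_, dvd_rfl⟩
      rw [hso]; exact dvd_mul_of_dvd_right hd _
    exfalso
    rcases (Nat.dvd_prime Nat.prime_three).1 ho3 with rfl | rfl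
    · exact h1 ⟨rfl, s, 0, by norm_num, by rw [hso]; ring⟩
    · exact h1 ⟨rfl, s, 1, le_rfl, by rw [hso]; ring⟩
  -- n ≥ 3
  by_contra hno
  push Not at hno
  set F := CfsgLib.Zsig.phiVal n q with hF
  have hFd : F ∣ q ^ n - 1 := CfsgLib.Zsig.phiVal_dvd n hq
  have hfinal : small q n = true → False := by
    intro hs
    obtain ⟨t, ht, he⟩ := List.any_eq_true.1 hs
    simp only [Bool.and_eq_true, beq_iff_eq] at he
    obtain ⟨he1, he2⟩ := he
    rcases witness_ok t ht with h0 | ⟨hp, hd, hi, hlast⟩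
    · simp only [cands, List.mem_cons, List.not_mem_nil, or_false] at ht
      rcases ht with rfl | rfl | rfl | rfl | rfl | rfl | rfl | rfl | rfl | rfl | rfl | rfl | rfl | rfl | rfl | rfl | rfl | rfl | rfl | rfl | rfl | rfl | rfl | rfl | rfl | rfl | rfl | rfl | rfl | rfl | rfl | rfl | rfl | rfl | rfl | rfl | rfl | rfl | rfl | rfl | rfl | rfl | rfl | rfl | rfl | rfl <;> simp at he1 he2 h0 <;> subst he1 <;> subst he2
      all_goals first
        | exact h3 ⟨rfl, by norm_num⟩
        | exact h2 ⟨rfl, by norm_num⟩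
        | exact h4 ⟨rfl, rfl⟩
    · rw [he1, he2] at hd hlast
      obtain ⟨hle, hsq⟩ := hno _ hp hd (fun i hi1 hin => he1 ▸ hi i (he2 ▸ hin) hi1)
      rcases hlast with h | h
      · exact absurd h (not_lt.2 hle)
      · exact hsq h
  have hdiv : ∀ p, p.Prime → p ∣ F → ¬ p ^ 2 ∣ F ∧ (p ∣ n ∨ p = n + 1) := by
    intro p hp hpF
    have : Fact p.Prime := ⟨hp⟩
    by_cases hpn : p ∣ n
    · exact ⟨CfsgLib.Zsig.sq_not_dvd hpn (by omega) hq hpF, Or.inl hpn⟩
    obtain ⟨hprim, hmod⟩ := CfsgLib.Zsig.primitive hpn hq hpF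
    obtain ⟨hle, hsq⟩ := hno p hp (hpF.trans hFd) hprim
    refine ⟨fun h => hsq (h.trans hFd), Or.inr ?_⟩
    have := Nat.le_of_dvd (by have := hp.two_le; omega) hmod
    have := hp.two_le
    omega
  have hbound := CfsgLib.Zsig.totient_bound hn3 hq
  rw [← hF] at hbound
  by_cases hA : ∃ r, r.Prime ∧ r ∣ n ∧ r ∣ F
  · obtain ⟨r, hr, hrn, hrF⟩ := hA
    have : Fact r.Prime := ⟨hr⟩
    obtain ⟨j, m, hrm, hnm⟩ := Nat.exists_eq_pow_mul_and_not_dvd (show n ≠ 0 by omega) r hr.ne_one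
    obtain ⟨a, rfl⟩ : ∃ a, j = a + 1 := ⟨j - 1, by
      have : j ≠ 0 := by rintro rfl; exact hrm (by simpa [hnm] using hrn)
      omega⟩
    have hm := CfsgLib.Zsig.cofactor_dvd hnm hrm hq hrF
    have hm0 : 0 < m := Nat.pos_of_ne_zero fun e => hrm (e ▸ dvd_zero r)
    have hr2 := hr.two_le
    have hmr : m < r := by
      have := Nat.le_of_dvd (by omega) hm
      omega
    have hFle : F ≤ r * (n + 1) := by
      refine Nat.le_of_dvd (by positivity) (CfsgLib.Zsig.dvd_of_simple fun p hp hpF => ?_)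
      obtain ⟨hs, hor⟩ := hdiv p hp hpF
      refine ⟨hs, ?_⟩
      rcases hor with hpn | rfl
      · -- the only prime of n dividing F is r
        have : Fact p.Prime := ⟨hp⟩
        by_cases hpr : p = r
        · exact hpr ▸ dvd_mul_right _ _
        exfalso
        obtain ⟨i, k, hpk, hnk⟩ :=
          Nat.exists_eq_pow_mul_and_not_dvd (show n ≠ 0 by omega) p hp.ne_one
        have hk := CfsgLib.Zsig.cofactor_dvd hnk hpk hq hpF
        have hrp : r ∣ p - 1 := by
          rcases (hr.dvd_mul).1 (hnk ▸ hrn) with h | h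
          · exact absurd ((Nat.prime_dvd_prime_iff_eq hr hp).1 (hr.dvd_of_dvd_pow h)) (Ne.symm hpr)
          · exact h.trans hk
        have hpr' : p ∣ r - 1 := by
          rcases (hp.dvd_mul).1 (hnm ▸ hpn) with h | h
          · exact absurd ((Nat.prime_dvd_prime_iff_eq hp hr).1 (hp.dvd_of_dvd_pow h)) hpr
          · exact h.trans hm
        have := Nat.le_of_dvd (by have := hp.two_le; omega) hrp
        have := Nat.le_of_dvd (by omega) hpr'
        omega
      · exact dvd_mul_left _ _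
    rcases hr.eq_two_or_odd with rfl | hodd
    · obtain rfl : m = 1 := by omega
      rw [mul_one] at hnm
      rw [hF, hnm, CfsgLib.Zsig.two_pow a q hq] at hFle
      have ha1 : 1 ≤ a := by
        rcases Nat.eq_zero_or_pos a with rfl | h
        · norm_num at hnm; omega
        · exact h
      have ha : a < 4 := by
        by_contra hge
        push Not at hge
        have h1' : 2 ^ 2 ^ a ≤ q ^ 2 ^ a := Nat.pow_le_pow_left hq _
        have h2' : ∀ k, 16 ≤ k → 4 * k + 2 < 2 ^ k := fun k hk => by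
          induction k, hk using Nat.le_induction with
          | base => norm_num
          | succ k hk ih => rw [pow_succ]; omega
        have := h2' (2 ^ a) (le_trans (by norm_num) (Nat.pow_le_pow_right (show 0 < 2 by norm_num) hge))
        rw [pow_succ] at hFle
        omega
      have hq16 : q < 16 := by
        by_contra hge
        push Not at hge
        have h1' : q ^ 2 ≤ q ^ 2 ^ a := Nat.pow_le_pow_right (by omega)
          (le_trans (by norm_num) (Nat.pow_le_pow_right (show 0 < 2 by norm_num) ha1))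
        have : 2 ^ (a + 1) ≤ 16 := le_trans (Nat.pow_le_pow_right (by norm_num) (show a + 1 ≤ 4 by omega))
          (by norm_num)
        nlinarith
      exact hfinal (hnm ▸ caseTwo a ha ha1 q hq16 hq hFle)
    have hr3 : 3 ≤ r := by omega
    set k := r ^ a * (r - 1) with hk
    have hk2 : 2 ≤ k := le_trans (show 2 ≤ r - 1 by omega) (Nat.le_mul_of_pos_left _ (by positivity))
    have hrk : r ≤ k + 1 := by
      have : r - 1 ≤ k := Nat.le_mul_of_pos_left _ (by positivity)
      omega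
    have hqk : q ^ k ≤ 7 * k ^ 3 := by
      set Q := q ^ r ^ a with hQ
      have hQ2 : 2 ≤ Q := hq.trans (Nat.le_self_pow (pow_ne_zero _ hr.ne_zero) q)
      have h1' := CfsgLib.Zsig.ratio (a := a) hr hrm hq
      rw [← hQ, ← hnm, ← hF] at h1'
      have hQk : Q ^ (r - 1) = q ^ k := by rw [hQ, ← pow_mul]
      have hQr : Q ^ r = Q * q ^ k := by
        rw [← hQk, ← pow_succ']; congr 1; omega
      set N := r * (n + 1) with hN
      have h2' : Q ^ r - 1 ≤ N * (Q + 1) := by
        rcases Nat.lt_or_ge (Q + 1) (Q ^ r - 1) with hlt | hge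
        · by_contra hcon
          push Not at hcon
          have hφ : 0 < m.totient := Nat.totient_pos.2 hm0
          have h3' : (N * (Q + 1)) ^ m.totient < (Q ^ r - 1) ^ m.totient :=
            Nat.pow_lt_pow_left hcon hφ.ne'
          have h4' : F * (Q + 1) ^ m.totient ≤ (N * (Q + 1)) ^ m.totient := by
            rw [mul_pow]
            exact Nat.mul_le_mul_right _ (hFle.trans (Nat.le_self_pow hφ.ne' N))
          omega
        · exact hge.trans (Nat.le_mul_of_pos_left _ (by positivity))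
      rw [hQr] at h2'
      have hn' : n ≤ r * k := by
        rw [hnm, hk, ← mul_assoc, ← pow_succ']
        exact Nat.mul_le_mul_left _ (by omega)
      have hN' : N ≤ (k + 1) * ((k + 1) * k + 1) := Nat.mul_le_mul hrk
        (Nat.add_le_add_right (hn'.trans (Nat.mul_le_mul_right k hrk)) 1)
      have h5' : 2 * q ^ k ≤ 1 + 3 * N := by
        have hpos : 0 < Q * q ^ k := Nat.mul_pos (by omega) (pow_pos (by omega) k)
        by_contra hcon
        have : Q * q ^ k ≤ N * (Q + 1) + 1 := by omega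
        nlinarith
      have h6' : 1 + 3 * ((k + 1) * ((k + 1) * k + 1)) ≤ 14 * k ^ 3 := by nlinarith
      omega
    have hk14 : k ≤ 14 := by
      by_contra hge
      have := CfsgLib.Zsig.cube_le_two_pow (show 15 ≤ k by omega)
      have := Nat.pow_le_pow_left hq k
      omega
    have hrlt : r < 16 := by omega
    have ha : a < 2 := by
      by_contra hge
      have h1' : 3 ^ 2 ≤ r ^ a := le_trans (Nat.pow_le_pow_left hr3 2)
        (Nat.pow_le_pow_right (by omega) (by omega))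
      have := Nat.mul_le_mul h1' (show 2 ≤ r - 1 by omega)
      omega
    have hq140 : q < 140 := by
      have h1' : q ^ 2 ≤ q ^ k := Nat.pow_le_pow_right (by omega) hk2
      have h2' : k ^ 3 ≤ 14 ^ 3 := Nat.pow_le_pow_left hk14 3
      nlinarith
    exact hfinal (hnm ▸ caseA a ha r hrlt ⟨hr3, hodd, by rintro rfl; norm_num at hr, by rintro rfl; norm_num at hr⟩ hk14 m hmr hm (hnm ▸ hn3) q hq140 hq hqk
      (hnm ▸ hbound.trans (Nat.pow_le_pow_left hFle 2)))
  -- no prime of n divides F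
  push Not at hA
  have hFle : F ≤ n + 1 := by
    refine Nat.le_of_dvd (by omega) (CfsgLib.Zsig.dvd_of_simple fun p hp hpF => ?_)
    obtain ⟨hs, hor⟩ := hdiv p hp hpF
    exact ⟨hs, (hor.resolve_left fun h => hA p hp h hpF) ▸ dvd_rfl⟩
  have hb : q ^ n.totient ≤ (n + 1) ^ 2 := hbound.trans (Nat.pow_le_pow_left hFle 2)
  have hn128 : n < 128 := by
    by_contra hge
    have hc := CfsgLib.Zsig.totient_cube' n (by omega)
    set k := n.totient with hk
    have hk16 : 16 ≤ k := by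
      by_contra hlt
      have : k ^ 3 ≤ 15 ^ 3 := Nat.pow_le_pow_left (by omega) 3
      nlinarith
    have := CfsgLib.Zsig.cube_le_two_pow' hk16
    have := Nat.pow_le_pow_left hq k
    nlinarith
  have hqn : q < n + 2 := by
    have h2' : 2 ≤ n.totient := by
      have := Nat.totient_pos.2 (show 0 < n by omega)
      rcases Nat.totient_even (show 2 < n by omega) with ⟨c, hc⟩
      omega
    have h3' := (Nat.pow_le_pow_right (show 0 < q by omega) h2').trans hb
    by_contra hge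
    nlinarith
  exact hfinal (caseB n hn128 hn3 ((Nat.pow_le_pow_left hq _).trans hb) q hqn hq hb)

end Cfsg.Agent.S3430
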