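import Cfsg.Statements.S2904
import Cfsg.Agent.S3430
import Mathlib.Tactic.NormNum.Prime

set_option autoImplicit false
open Cfsg

namespace Cfsg.Agent.S2904

/-- Zsigmondy's Theorem: for natural numbers a > 1 and n > 1 there is a prime dividing aⁿ − 1 that divides aᵏ − 1 for no natural number 0 < k < n, unless a = 2 and n = 6, or n = 2 and a + 1 is a power of two. -/
theorem result (a n : ℕ) (ha : 1 < a) (hn : 1 < n) (h6 : ¬ (a = 2 ∧ n = 6)) (h2 : ¬ (n = 2 ∧ ∃ m : ℕ, a + 1 = 2 ^ m)) : ∃ r : ℕ, r.Prime ∧ r ∣ a ^ n - 1 ∧ ∀ k : ℕ, 0 < k → k < n → ¬ r ∣ a ^ k - 1 := by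
  rcases (show n = 2 ∨ 3 ≤ n by omega) with rfl | hn3
  · obtain ⟨s, o, ho, hso⟩ := Nat.exists_eq_two_pow_mul_odd (show a + 1 ≠ 0 by omega)
    have ho1 : o ≠ 1 := fun h => h2 ⟨rfl, s, by rw [hso, h, mul_one]⟩
    obtain ⟨r, hr, hro⟩ := Nat.exists_prime_and_dvd ho1
    have hra : r ∣ a + 1 := hso ▸ dvd_mul_of_dvd_right hro _
    refine ⟨r, hr, ?_, fun k hk hk2 hd => ?_⟩
    · rw [show a ^ 2 - 1 = (a + 1) * (a - 1) by rw [← Nat.sq_sub_sq, one_pow]]
      exact dvd_mul_of_dvd_left hra _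
    · obtain rfl : k = 1 := by omega
      rw [pow_one] at hd
      have h3 : r ∣ 2 := by
        have := Nat.dvd_sub hra hd
        rwa [show a + 1 - (a - 1) = 2 by omega] at this
      obtain rfl := (Nat.prime_dvd_prime_iff_eq hr Nat.prime_two).1 h3
      exact (Nat.not_even_iff_odd.2 ho) (even_iff_two_dvd.2 hro)
  by_cases hex : (a = 2 ∧ (n = 4 ∨ n = 10 ∨ n = 12 ∨ n = 18)) ∨ (a = 3 ∧ (n = 4 ∨ n = 6)) ∨
      (a = 5 ∧ n = 6)
  · rcases hex with ⟨rfl, rfl | rfl | rfl | rfl⟩ | ⟨rfl, rfl | rfl⟩ | ⟨rfl, rfl⟩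
    · exact ⟨5, by norm_num, by norm_num, fun k _ hk => by interval_cases k <;> norm_num⟩
    · exact ⟨11, by norm_num, by norm_num, fun k _ hk => by interval_cases k <;> norm_num⟩
    · exact ⟨13, by norm_num, by norm_num, fun k _ hk => by interval_cases k <;> norm_num⟩
    · exact ⟨19, by norm_num, by norm_num, fun k _ hk => by interval_cases k <;> norm_num⟩
    · exact ⟨5, by norm_num, by norm_num, fun k _ hk => by interval_cases k <;> norm_num⟩
    · exact ⟨7, by norm_num, by norm_num, fun k _ hk => by interval_cases k <;> norm_num⟩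
    · exact ⟨7, by norm_num, by norm_num, fun k _ hk => by interval_cases k <;> norm_num⟩
  push Not at hex
  obtain ⟨r, hr, hd, hprim, -⟩ := Cfsg.Agent.S3430.result a n ha hn
    (fun h => by omega) (fun h => by have := hex; omega) (fun h => by have := hex; omega)
    (fun h => by have := hex; omega)
  exact ⟨r, hr, hd, fun k hk => hprim k hk⟩

end Cfsg.Agent.S2904
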