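import Cfsg.Statements.S3742
import Mathlib.GroupTheory.SpecificGroups.Quaternion
import Mathlib.GroupTheory.Perm.Fin
import Mathlib.Data.Fintype.Perm
import Mathlib.Data.Fintype.Sigma
import Mathlib.Data.Fintype.Sum
import Mathlib.Algebra.Group.End
import Mathlib.SetTheory.Cardinal.Finite

set_option autoImplicit false
open Cfsg

namespace Cfsg.Agent.S3742

open QuaternionGroup

abbrev Q8 := QuaternionGroup 2

/-- The axis carried by a pair of tetrahedron vertices. -/
def axisOf (x y : Fin 4) : Q8 :=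
  match x.val, y.val with
  | 0, 1 | 1, 0 => a 1
  | 2, 3 | 3, 2 => a 3
  | 0, 2 | 2, 0 => xa 0
  | 1, 3 | 3, 1 => xa 2
  | 0, 3 | 3, 0 => xa 3
  | 1, 2 | 2, 1 => xa 1
  | _, _ => a 0

def odd4 (s : Equiv.Perm (Fin 4)) : Bool :=
  xor (xor (xor (decide (s 1 < s 0)) (decide (s 2 < s 0))) (xor (decide (s 3 < s 0)) (decide (s 2 < s 1))))
    (xor (decide (s 3 < s 1)) (decide (s 3 < s 2)))

def imgA (s : Equiv.Perm (Fin 4)) : Q8 := (if odd4 s then a 2 else a 0) * axisOf (s 0) (s 1)

def imgX (s : Equiv.Perm (Fin 4)) : Q8 := (if odd4 s then a 2 else a 0) * axisOf (s 0) (s 2)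

def powFin (g : Q8) : ℕ → Q8
  | 0 => a 0
  | k + 1 => powFin g k * g

def act (s : Equiv.Perm (Fin 4)) : Q8 → Q8
  | .a i => powFin (imgA s) (ZMod.val i)
  | .xa i => imgX s * powFin (imgA s) (ZMod.val i)

set_option maxRecDepth 10000 in
theorem act_mul : ∀ (s : Equiv.Perm (Fin 4)) (x y : Q8), act s (x * y) = act s x * act s y := by decide +kernel

set_option maxRecDepth 10000 in
theorem act_comp : ∀ (s t : Equiv.Perm (Fin 4)), act (s * t) (a 1) = act s (act t (a 1)) ∧
    act (s * t) (xa 0) = act s (act t (xa 0)) := by decide +kernel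

set_option maxRecDepth 10000 in
theorem act_inj : ∀ s : Equiv.Perm (Fin 4), act s (a 1) = a 1 → act s (xa 0) = xa 0 → s = 1 := by decide +kernel

theorem act_one : act 1 (a 1) = a 1 ∧ act 1 (xa 0) = xa 0 := by decide +kernel

set_option maxRecDepth 10000 in
theorem count_pairs : (Finset.univ.filter (fun q : Q8 × Q8 => q.1 * q.2 ≠ q.2 * q.1)).card = 24 := by decide +kernel

theorem hom_ext {f g : Q8 →* Q8} (h1 : f (a 1) = g (a 1)) (h2 : f (xa 0) = g (xa 0)) : f = g := by
  refine MonoidHom.ext fun x => ?_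
  have hpow : ∀ i : ZMod (2 * 2), (a i : Q8) = a 1 ^ i.val := fun i => by rw [a_one_pow, ZMod.natCast_zmod_val]
  cases x with
  | a i => rw [hpow i, map_pow, map_pow, h1]
  | xa i =>
    rw [show (xa i : Q8) = xa 0 * a i by rw [xa_mul_a, zero_add], map_mul, map_mul, h2, hpow i, map_pow,
      map_pow, h1]

def actHom (s : Equiv.Perm (Fin 4)) : Q8 →* Q8 := MonoidHom.mk' (act s) (act_mul s)

theorem actHom_comp (s t : Equiv.Perm (Fin 4)) : actHom (s * t) = (actHom s).comp (actHom t) :=
  hom_ext (act_comp s t).1 (act_comp s t).2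

theorem actHom_one : actHom 1 = MonoidHom.id Q8 := hom_ext act_one.1 act_one.2

def actAut : Equiv.Perm (Fin 4) →* MulAut Q8 :=
  MonoidHom.mk'
    (fun s => MonoidHom.toMulEquiv (actHom s) (actHom s⁻¹)
      (by rw [← actHom_comp, inv_mul_cancel, actHom_one])
      (by rw [← actHom_comp, mul_inv_cancel, actHom_one]))
    (fun s t => MulEquiv.ext fun x => DFunLike.congr_fun (actHom_comp s t) x)


/-- The automorphism group of the quaternion group of order 8 is isomorphic to the symmetric group of degree 4. -/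
theorem result : Nonempty (MulAut (QuaternionGroup 2) ≃* Equiv.Perm (Fin 4)) := by
  have hinj : Function.Injective actAut := by
    rw [injective_iff_map_eq_one]
    intro s hs
    exact act_inj s (DFunLike.congr_fun hs (a 1)) (DFunLike.congr_fun hs (xa 0))
  let F : MulAut Q8 → {q : Q8 × Q8 // q.1 * q.2 ≠ q.2 * q.1} := fun e => ⟨(e (a 1), e (xa 0)), fun h => by
    rw [← map_mul, ← map_mul] at h
    exact absurd (e.injective h) (by decide)⟩
  have hF : Function.Injective F := fun e e' h => by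
    have h1 := congrArg (fun q : {q : Q8 × Q8 // q.1 * q.2 ≠ q.2 * q.1} => q.1.1) h
    have h2 := congrArg (fun q : {q : Q8 × Q8 // q.1 * q.2 ≠ q.2 * q.1} => q.1.2) h
    exact MulEquiv.ext fun x => DFunLike.congr_fun (hom_ext (f := e.toMonoidHom) (g := e'.toMonoidHom) h1 h2) x
  haveI : Finite (MulAut Q8) := Finite.of_injective F hF
  have hle : Nat.card (MulAut Q8) ≤ Nat.card (Equiv.Perm (Fin 4)) := by
    refine (Nat.card_le_card_of_injective F hF).trans ?_
    rw [Nat.card_perm, Nat.card_fin, Nat.card_eq_fintype_card, Fintype.card_subtype, count_pairs]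
    decide
  exact ⟨(MulEquiv.ofBijective actAut (hinj.bijective_of_nat_card_le hle)).symm⟩

end Cfsg.Agent.S3742
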