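import Cfsg.Statements.S1127
import Cfsg.Agent.Recog.RankOne
-- import your own Cfsg.Agent.* helpers here

set_option autoImplicit false
open Cfsg

namespace Cfsg.Agent.S1127

/-- In the rank-one set-up (`G` finite and doubly transitive on `Ω`, `t` an involution moving `a`, `Q` normal in `G_a` with `G_a = Q D`, `Q ⊓ D = 1` for the two-point stabiliser `D = G_a ⊓ G_{t • a}`, `|Q|` even, `|D|` odd): if `s` is an involution of `G_a` and `r ∈ Q` satisfy `t s t = r⁻¹ t r`, then `C_D(t) = C_D(s)`; moreover `C_D(t) ⊓ C_D(K) = C_D(I ∩ G_a)`, where `K` is the set of elements of `D` inverted by `t` and `I ∩ G_a` the set of involutions of `G_a`. -/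
theorem result {G Ω : Type*} [Group G] [Finite G] [MulAction G Ω] {a : Ω} {t : G} {Q : Subgroup G}
    (hS : Cfsg.IsRankOneSetup G Ω a t Q) :
    (∀ s r : G, s ∈ Cfsg.involutionsIn (MulAction.stabilizer G a : Set G) → r ∈ Q → t * s * t = r⁻¹ * t * r →
        (MulAction.stabilizer G a ⊓ MulAction.stabilizer G (t • a)) ⊓ Subgroup.centralizer {t} = (MulAction.stabilizer G a ⊓ MulAction.stabilizer G (t • a)) ⊓ Subgroup.centralizer {s}) ∧
      (MulAction.stabilizer G a ⊓ MulAction.stabilizer G (t • a)) ⊓ Subgroup.centralizer {t} ⊓ Subgroup.centralizer (Cfsg.invertedBy (MulAction.stabilizer G a ⊓ MulAction.stabilizer G (t • a)) t) =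
        (MulAction.stabilizer G a ⊓ MulAction.stabilizer G (t • a)) ⊓ Subgroup.centralizer (Cfsg.involutionsIn (MulAction.stabilizer G a : Set G)) := by
  refine ⟨fun s r hs hr he => CfsgLib.Recog.RankOne.centralizer_D_eq hS hs hr he, ?_⟩
  obtain ⟨s0, r, hs0, hr, he, hC⟩ := CfsgLib.Recog.RankOne.exists_special hS
  have hC' : ∀ g : G, g ∈ MulAction.stabilizer G a ⊓ MulAction.stabilizer G (t • a) →
      (g * t = t * g ↔ g * s0 = s0 * g) := by
    intro g hg
    have := SetLike.ext_iff.1 hC g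
    simp only [Subgroup.mem_inf, Subgroup.mem_centralizer_singleton_iff, and_congr_right_iff] at this
    exact this hg
  apply le_antisymm
  · rintro v ⟨⟨hv, hvt⟩, hvK⟩
    refine ⟨hv, Subgroup.mem_centralizer_iff.2 fun s hs => ?_⟩
    obtain ⟨k, hk, rfl⟩ := CfsgLib.Recog.RankOne.inverted_transitive hS hs0 hs
    have h1 : Commute v k := (Subgroup.mem_centralizer_iff.1 hvK k hk).symm
    have h2 : Commute v s0 := (hC' v hv).1 (Subgroup.mem_centralizer_singleton_iff.1 hvt)
    exact ((h1.inv_right.mul_right h2).mul_right h1).eq.symm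
  · rintro v ⟨hv, hvI⟩
    have hvt : v * t = t * v :=
      (hC' v hv).2 (Subgroup.mem_centralizer_iff.1 hvI s0 hs0).symm
    refine ⟨⟨hv, Subgroup.mem_centralizer_singleton_iff.2 hvt⟩,
      Subgroup.mem_centralizer_iff.2 fun k hk => ?_⟩
    obtain ⟨hkD, hkt⟩ := (CfsgLib.Recog.mem_invertedBy_iff hS.mul_self).1 hk
    have hs := CfsgLib.Recog.RankOne.conj_mem_invol hS hkD.1 hs0
    have h0 := Subgroup.mem_centralizer_iff.1 hvI _ hs
    have hw : k * v * k⁻¹ * t = t * (k * v * k⁻¹) := by
      refine (hC' _ (Subgroup.mul_mem _ (Subgroup.mul_mem _ hkD hv) (Subgroup.inv_mem _ hkD))).2 ?_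
      calc k * v * k⁻¹ * s0 = k * (v * (k⁻¹ * s0 * k)) * k⁻¹ := by group
        _ = k * (k⁻¹ * s0 * k * v) * k⁻¹ := by rw [h0]
        _ = _ := by group
    have hki : t * k⁻¹ * t = k := by
      have := congrArg Inv.inv hkt
      simpa [CfsgLib.Recog.RankOne.t_inv hS, mul_assoc] using this
    have h1 : k⁻¹ * v * k = k * v * k⁻¹ := by
      calc k⁻¹ * v * k = (t * k * t) * (t * v * t) * (t * k⁻¹ * t) := by
            rw [hkt, hki, ← hvt, mul_assoc v t t, hS.mul_self, mul_one]
        _ = t * (k * v * k⁻¹) * t := by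
            simp only [mul_assoc, ← mul_assoc t t, hS.mul_self, one_mul]
        _ = _ := by rw [← hw, mul_assoc, hS.mul_self, mul_one]
    have h2 : v * (k * k) = k * k * v := by
      calc v * (k * k) = k * (k⁻¹ * v * k) * k := by group
        _ = k * (k * v * k⁻¹) * k := by rw [h1]
        _ = _ := by group
    exact (CfsgLib.Recog.commute_of_sq (CfsgLib.Recog.odd_orderOf hS.odd_card hkD) h2).symm

end Cfsg.Agent.S1127
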