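import Cfsg.Statements.S0514
import Cfsg.Agent.KGroup.DihedralAut
import Cfsg.Agent.Transfer.Frobenius

set_option autoImplicit false
open Cfsg

namespace Cfsg.Agent.S0514

/-- In a finite group whose Sylow 2-subgroups are dihedral of order at least 4, the centralizer of any involution has a
normal subgroup of odd order whose index in the centralizer is a power of 2. -/
theorem result {X : Type*} [Group X] [Finite X]
    (S : Sylow 2 X) (n : ℕ) (hn : 2 ≤ n) (hS : Nonempty ((S : Subgroup X) ≃* DihedralGroup n)) (t : X)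
    (ht : orderOf t = 2) :
    ∃ N : Subgroup (Subgroup.centralizer ({t} : Set X)), N.Normal ∧ Odd (Nat.card N) ∧ ∃ k : ℕ, N.index = 2 ^ k := by
  haveI : Fact (Nat.Prime 2) := ⟨Nat.prime_two⟩
  set C := Subgroup.centralizer ({t} : Set X) with hC
  obtain ⟨e⟩ := hS
  have htC : t ∈ C := Subgroup.mem_centralizer_singleton_iff.2 rfl
  have hLC : CfsgLib.Fusion.LocalCondition 2 C := by
    intro Q hQ g hg hgo
    set T : Subgroup C := Subgroup.zpowers ⟨t, htC⟩ with hT
    have hTc : ∀ c : C, c * ⟨t, htC⟩ = ⟨t, htC⟩ * c := fun c =>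
      Subtype.ext (Subgroup.mem_centralizer_singleton_iff.1 c.2)
    haveI hTn : T.Normal := ⟨fun a ha c => by
      obtain ⟨k, rfl⟩ := Subgroup.mem_zpowers_iff.1 ha
      rw [← conj_zpow, hTc c, mul_inv_cancel_right]
      exact Subgroup.zpow_mem _ (Subgroup.mem_zpowers _) k⟩
    have hT2 : IsPGroup 2 T := IsPGroup.of_card (n := 1) (by
      rw [Nat.card_zpowers, ← Subgroup.orderOf_coe, pow_one]; exact ht)
    set Q' : Subgroup X := (Q ⊔ T).map C.subtype with hQ'
    have hQ'2 : IsPGroup 2 Q' := (hQ.to_sup_of_normal_right hT2).map _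
    obtain ⟨P, hP⟩ := hQ'2.exists_le_sylow
    let φ : Q' →* DihedralGroup n :=
      (e.toMonoidHom.comp (Sylow.equiv P S).toMonoidHom).comp (Subgroup.inclusion hP)
    have hφ : Function.Injective φ :=
      e.injective.comp ((Sylow.equiv P S).injective.comp (Subgroup.inclusion_injective hP))
    have hgn : (g : X) ∈ Subgroup.normalizer (Q' : Set X) := by
      rw [hQ', Subgroup.mem_normalizer_iff]
      intro x
      have hconj : ∀ q ∈ Q ⊔ T, g * q * g⁻¹ ∈ Q ⊔ T := fun q hq => by
        obtain ⟨a, ha, b, hb, rfl⟩ := Subgroup.mem_sup_of_normal_right.1 hq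
        rw [← conj_mul]
        exact Subgroup.mul_mem_sup ((Subgroup.mem_normalizer_iff.1 hg a).1 ha) (hTn.conj_mem b hb g)
      have hconj' : ∀ q ∈ Q ⊔ T, g⁻¹ * q * g ∈ Q ⊔ T := fun q hq => by
        obtain ⟨a, ha, b, hb, rfl⟩ := Subgroup.mem_sup_of_normal_right.1 hq
        rw [show g⁻¹ * (a * b) * g = (g⁻¹ * a * g) * (g⁻¹ * b * g⁻¹⁻¹) by group]
        exact Subgroup.mul_mem_sup ((Subgroup.mem_normalizer_iff''.1 hg a).1 ha) (hTn.conj_mem b hb g⁻¹)
      constructor
      · rintro ⟨q, hq, rfl⟩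
        exact ⟨g * q * g⁻¹, hconj q hq, rfl⟩
      · rintro ⟨q, hq, hqe⟩
        refine ⟨g⁻¹ * q * g, hconj' q hq, ?_⟩
        simp only [Subgroup.coe_subtype, Subgroup.coe_mul, Subgroup.coe_inv] at hqe ⊢
        rw [hqe]; group
    have hodd : Odd (orderOf (g : X)) := by
      rw [Subgroup.orderOf_coe]
      exact Nat.coprime_two_right.1 hgo
    have htQ : t ∈ Q' := ⟨⟨t, htC⟩, Subgroup.mem_sup_right (Subgroup.mem_zpowers _), rfl⟩
    have hcen := CfsgLib.DihedralAut.mem_centralizer_of_embedding hQ'2 φ hφ hgn hodd htQ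
      (fun h => by rw [h, orderOf_one] at ht; omega)
      (by rw [Subgroup.mem_centralizer_singleton_iff.1 g.2, mul_inv_cancel_right])
    rw [Subgroup.mem_centralizer_iff] at hcen ⊢
    intro q hq
    exact Subtype.ext (hcen q ⟨q, Subgroup.mem_sup_left hq, rfl⟩)
  obtain ⟨P, N, hN, hc⟩ := CfsgLib.Fusion.hasNormalPComplement_of_localCondition hLC
  obtain ⟨k, hk⟩ := IsPGroup.iff_card.1 P.2
  have hidx : N.index = Nat.card (P : Subgroup C) := hc.symm.index_eq_card
  refine ⟨N, hN, ?_, k, hidx.trans hk⟩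
  have h := P.not_dvd_index
  rw [hc.index_eq_card] at h
  exact Nat.not_even_iff_odd.1 fun he => h he.two_dvd

end Cfsg.Agent.S0514
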