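import Cfsg.Statements.S0107
import Cfsg.Agent.Invol.DihedralFusion

set_option autoImplicit false
set_option linter.deprecated false
set_option linter.style.haveILetI false
set_option linter.unusedVariables false
open Cfsg
open scoped Pointwise

namespace Cfsg.Agent.S0107

/-- A finite group with no nontrivial 2-group quotient and dihedral Sylow 2-subgroups of order at least 8 has a single class of involutions. -/
theorem result {G : Type*} [Group G] [Finite G] (T : Sylow 2 G) (n : ℕ) (hn : 2 ≤ n) (hT : Nonempty ((T : Subgroup G) ≃* DihedralGroup (2 ^ n))) (hO : Cfsg.pResidual 2 G = ⊤) (x y : G) (hx : orderOf x = 2) (hy : orderOf y = 2) : ∃ g : G, g * x * g⁻¹ = y := by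
  have hodd : Odd (T : Subgroup G).index := Nat.not_even_iff_odd.1 fun he => T.not_dvd_index he.two_dvd
  obtain ⟨D⟩ := CfsgLib.DihFour.exists_data T.isPGroup' (m := 2 ^ n)
    (le_trans (by norm_num : 2 ≤ 2 ^ 2) (Nat.pow_le_pow_right two_pos hn)) hT.some
  have hno : ∀ H : Subgroup G, H.index ≠ 2 := fun H h2 => by
    haveI := Subgroup.normal_of_index_eq_two h2
    have hle : Cfsg.pResidual 2 G ≤ H := (Subgroup.closure_le _).2 fun g hg => by
      rw [SetLike.mem_coe, ← QuotientGroup.eq_one_iff, ← orderOf_eq_one_iff]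
      have h3 : orderOf (QuotientGroup.mk' H g) ∣ orderOf g := orderOf_map_dvd _ g
      have h4 : orderOf (QuotientGroup.mk' H g) ∣ 2 := by
        rw [← h2, Subgroup.index_eq_card]; exact orderOf_dvd_natCard _
      exact Nat.eq_one_of_dvd_coprimes hg h3 h4
    rw [hO, top_le_iff] at hle
    rw [hle, Subgroup.index_top] at h2
    omega
  have hsyl : ∀ a : G, orderOf a = 2 → ∃ g : G, g * a * g⁻¹ ∈ (T : Subgroup G) := fun a ha => by
    have hp : IsPGroup 2 (Subgroup.zpowers a) := IsPGroup.of_card (n := 1) (by rw [Nat.card_zpowers, ha, pow_one])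
    obtain ⟨Q, hQ⟩ := hp.exists_le_sylow
    obtain ⟨g, rfl⟩ := MulAction.exists_smul_eq G T Q
    refine ⟨g⁻¹, ?_⟩
    have h := hQ (Subgroup.mem_zpowers a)
    rw [Sylow.coe_subgroup_smul, Subgroup.mem_pointwise_smul_iff_inv_smul_mem] at h
    simpa [MulAut.smul_def, MulAut.conj_apply] using h
  exact isConj_iff.1 ((D.all_conj_of_no_index_two hodd hsyl hno hx).trans
    (D.all_conj_of_no_index_two hodd hsyl hno hy).symm)


end Cfsg.Agent.S0107
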