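import Cfsg.Statements.S0508
import Cfsg.Agent.BSWId.Dihedral
import Cfsg.Agent.S0107

set_option autoImplicit false
open Cfsg

namespace Cfsg.Agent.S0508

/-- Let G be a finite simple group with a dihedral Sylow 2-subgroup S (of order at least 4), t an involution in the
centre of S, C the centralizer of t and O the core of C (its largest normal subgroup of odd order). Suppose that: if O
is nontrivial then the centralizer of O in S is cyclic of index 2 in S; every element of S not centralizing O inverts
every element of O; and the normalizer of every nontrivial subgroup of O lies in C. Then G is isomorphic to a projective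
special linear group of dimension 2 over a field of odd order. -/
theorem result {G : Type*} [Group G] [Finite G] [IsSimpleGroup G] (S : Sylow 2 G) (n : ℕ)
    (hn : 2 ≤ n) (hS : Nonempty ((S : Subgroup G) ≃* DihedralGroup n)) (t : G) (ht : orderOf t = 2)
    (htS : t ∈ (S : Subgroup G))
    (htZ : ∀ s ∈ (S : Subgroup G), s * t = t * s) (O : Subgroup G)
    (hO : O = (Cfsg.oddCore (Subgroup.centralizer ({t} : Set G))).map (Subgroup.centralizer ({t} : Set G)).subtype)
    (ha : O ≠ ⊥ → IsCyclic ((S : Subgroup G) ⊓ Subgroup.centralizer (O : Set G) : Subgroup G) ∧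
      ((S : Subgroup G) ⊓ Subgroup.centralizer (O : Set G)).relIndex (S : Subgroup G) = 2)
    (hb : ∀ s ∈ (S : Subgroup G), s ∉ Subgroup.centralizer (O : Set G) → ∀ y ∈ O, s * y * s⁻¹ = y⁻¹)
    (hc : ∀ Y : Subgroup G, Y ≤ O → Y ≠ ⊥ → Subgroup.normalizer (Y : Set G) ≤ Subgroup.centralizer ({t} : Set G)) :
    ∃ (F : Type) (_ : Field F) (_ : Fintype F), Odd (Fintype.card F) ∧ Nonempty (G ≃* Matrix.ProjectiveSpecialLinearGroup (Fin 2) F) := by
  classical
  haveI : Fact (Nat.Prime 2) := ⟨Nat.prime_two⟩
  obtain ⟨eS⟩ := hS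
  haveI : NeZero n := ⟨by omega⟩
  have hScard : Nat.card (S : Subgroup G) = 2 * n := by
    rw [Nat.card_congr eS.toEquiv, DihedralGroup.nat_card]
  obtain ⟨j, hj⟩ := IsPGroup.iff_card.1 S.2
  -- `n` is a power of two
  obtain ⟨i, rfl⟩ : ∃ i, n = 2 ^ i := by
    cases j with
    | zero => rw [hScard] at hj; omega
    | succ i => exact ⟨i, by rw [hScard, pow_succ] at hj; omega⟩
  have hi1 : 1 ≤ i := by
    rcases Nat.eq_zero_or_pos i with rfl | h
    · simp at hn
    · exact h
  -- `G` is not commutative, and has no quotient which is a `2`-group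
  have hnc : ¬ ∀ a b : G, a * b = b * a := by
    intro hcm
    letI : CommGroup G := { (inferInstance : Group G) with mul_comm := hcm }
    have hp : (Nat.card G).Prime := IsSimpleGroup.prime_card
    have h4 : 4 ∣ Nat.card G := by
      refine (Dvd.intro (2 ^ (i - 1)) ?_).trans (Subgroup.card_subgroup_dvd_card (S : Subgroup G))
      rw [hScard, ← Nat.sub_add_cancel hi1, pow_succ, Nat.add_sub_cancel]; ring
    have := (Nat.prime_dvd_prime_iff_eq Nat.prime_two hp).1 ((show (2:ℕ) ∣ 4 by norm_num).trans h4)
    omega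
  have hres : Cfsg.pResidual 2 G = ⊤ := CfsgLib.BSWId.pResidual_eq_top hnc
  have hone : ∀ x y : G, orderOf x = 2 → orderOf y = 2 → IsConj x y := by
    intro x y hx hy
    rcases eq_or_lt_of_le hi1 with h1 | h1
    · subst h1
      exact CfsgLib.BSWId.isConj_of_four S (by rw [hScard]; norm_num) eS hres x y hx hy
    · obtain ⟨g, hg⟩ := Cfsg.Agent.S0107.result S i h1 ⟨eS⟩ hres x y hx hy
      exact isConj_iff.2 ⟨g, hg⟩
  rcases CfsgLib.BSWId.bsw_hyp S hn eS t ht htS htZ O hO ha hb hc hone with h | ⟨F, iF, iFF, hchar, hF⟩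
  · exfalso
    exact CfsgLib.BSWId.not_simple_twelve h
  · refine ⟨F, iF, iFF, ?_, hF⟩
    letI := iF; letI := iFF
    exact Nat.odd_iff.2 (FiniteField.odd_card_of_char_ne_two hchar)

end Cfsg.Agent.S0508
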