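import Cfsg.Statements.S0223
import Cfsg.Agent.Invol.Dihedral
import Mathlib.GroupTheory.Sylow
-- import your own Cfsg.Agent.* helpers here

set_option autoImplicit false
open Cfsg

namespace Cfsg.Agent.S0223

/-- Let H be a proper subgroup of even order of the finite group G. Then H is strongly embedded if and only if (i) C_G(t) ≤ H for every involution t of H and (ii) H controls fusion of its involutions: involutions of H conjugate in G are conjugate in H. -/
theorem result {G : Type*} [Group G] [Finite G] (H : Subgroup G) (hH : H ≠ ⊤) (heven : Even (Nat.card H)) : Cfsg.IsStronglyEmbedded H ↔ ((∀ t ∈ H, orderOf t = 2 → Subgroup.centralizer ({t} : Set G) ≤ H) ∧ (∀ t ∈ H, ∀ s ∈ H, orderOf t = 2 → orderOf s = 2 → IsConj t s → ∃ h ∈ H, h * t * h⁻¹ = s)) := by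
  open Subgroup CfsgLib in
  constructor
  · rintro ⟨-, -, hodd⟩
    have key : ∀ g s, s ∈ H → orderOf s = 2 → g⁻¹ * s * g ∈ H → g ∈ H := by
      intro g s hs hso hgs
      by_contra hg
      refine Nat.not_even_iff_odd.2 (hodd g hg) (even_iff_two_dvd.2 (hso ▸ orderOf_dvd_natCard _ ?_))
      exact ⟨hs, g⁻¹ * s * g, hgs, by simp [mul_assoc]⟩
    refine ⟨fun t ht hto c hc => key c t ht hto ?_, fun t ht s hs hto hso hconj => ?_⟩
    · rw [mul_assoc, ← mem_centralizer_singleton_iff.1 hc, inv_mul_cancel_left]; exact ht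
    · obtain ⟨g, hg⟩ := isConj_iff.1 hconj
      exact ⟨g, key g s hs hso (by rw [← hg]; simpa [mul_assoc] using ht), hg⟩
  · rintro ⟨hC, hfus⟩
    refine ⟨hH, heven, fun g hg => Nat.not_even_iff_odd.1 fun hev => hg ?_⟩
    obtain ⟨w, ho⟩ := exists_prime_orderOf_dvd_card' 2 (hp := ⟨Nat.prime_two⟩) (even_iff_two_dvd.1 hev)
    rw [← orderOf_coe] at ho
    have hs : (w : G) ∈ H := w.2.1
    obtain ⟨u, hu, hus⟩ := w.2.2
    generalize (w : G) = s at ho hs hus
    have hgu : g * u * g⁻¹ = s := hus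
    have huo : orderOf u = 2 := by rw [← ho, ← hgu, Invol.orderOf_conj_eq]
    obtain ⟨h, hh, hhu⟩ := hfus u hu s hs huo ho (isConj_iff.2 ⟨g, hgu⟩)
    have h1 : h⁻¹ * g ∈ centralizer ({u} : Set G) := by
      refine mem_centralizer_singleton_iff.2 ?_
      have e : h * u * h⁻¹ = g * u * g⁻¹ := hhu.trans hgu.symm
      calc h⁻¹ * g * u = h⁻¹ * (g * u * g⁻¹) * g := by group
        _ = h⁻¹ * (h * u * h⁻¹) * g := by rw [e]
        _ = u * (h⁻¹ * g) := by group
    simpa using mul_mem hh (hC u hu huo h1)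

end Cfsg.Agent.S0223
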