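import Cfsg.Statements.S1148
import Cfsg.Agent.U3Odd.Semilinearity
import Cfsg.Agent.U3Odd.FromBN
import Cfsg.Agent.U3Odd.Model

set_option autoImplicit false
set_option linter.style.haveILetI false
open Cfsg

namespace Cfsg.Agent.S1148

/-- Let `G` be finite simple with a (B,N)-pair of rank 1, `B = U H` with `U` nilpotent normal in `B`, `H = B ⊓ N`, `U ⊓ H = 1`, where `[G : B] = p^(3n) + 1` for an odd prime `p`, `|U| = p^(3n)` and `H` is cyclic of order `(p^(2n) - 1)/gcd(3, p^n + 1)`. Then `G ≅ PSU₃(p^n)`. -/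
theorem result {G : Type*} [Group G] [Finite G] [IsSimpleGroup G]
    (P : Cfsg.BNPair G) (h1 : P.rank = 1) {p n : ℕ} (hp : p.Prime) (hp2 : p ≠ 2) (hn : 1 ≤ n)
    (U : Subgroup G) (hUB : U ≤ P.B) (hUn : ∀ b ∈ P.B, ∀ u ∈ U, b * u * b⁻¹ ∈ U)
    (hUnil : Group.IsNilpotent U) (hsplit : U ⊔ (P.B ⊓ P.N) = P.B) (hdisj : U ⊓ (P.B ⊓ P.N) = ⊥)
    (hind : P.B.index = p ^ (3 * n) + 1) (hU : Nat.card U = p ^ (3 * n))
    (hHc : IsCyclic ↥(P.B ⊓ P.N))
    (hH : Nat.gcd 3 (p ^ n + 1) * Nat.card ↥(P.B ⊓ P.N) = p ^ (2 * n) - 1) :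
    ∃ (F : Type) (_ : Field F) (_ : Fintype F), Fintype.card F = (p ^ n) ^ 2 ∧
      Nonempty (G ≃* Cfsg.PSU 3 F (p ^ n)) := by
  obtain ⟨hfaith, ⟨S⟩⟩ := CfsgLib.U3Odd.exists_setting P h1 hp hp2 hn U hUB hUn hsplit hind hU hHc hH
  haveI := hfaith
  haveI := Fact.mk hp
  obtain ⟨τ, hτ⟩ := S.exists_tau
  obtain ⟨pt, m, hgen, hUa, hUs, hUs', hma, hm0, hm⟩ := S.exists_chart τ hτ
  refine ⟨GaloisField p (2 * n), inferInstance, Fintype.ofFinite _, ?_, ?_⟩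
  · exact (@Nat.card_eq_fintype_card _ (Fintype.ofFinite _)).symm.trans S.card_E
  letI := Fintype.ofFinite (GaloisField p (2 * n))
  refine CfsgLib.U3Odd.iso_psu3_of_chart S.card_E S.two_le_q pt S.U m hgen (fun u hu => ?_) (fun z => ?_) (fun o => ?_)
  · obtain ⟨z, hz⟩ := hUs u hu
    refine ⟨z, fun o => ?_⟩
    rcases o with _ | w
    exacts [hUa u hu, hz w]
  · obtain ⟨u, hu, hz⟩ := hUs' z
    refine ⟨u, hu, fun o => ?_⟩
    rcases o with _ | w
    exacts [hUa u hu, hz w]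
  · rcases o with _ | w
    · exact hma
    by_cases hb : w.1.2 = 0
    · have hw := w.2
      have hq : p ^ n ≠ 0 := pow_ne_zero _ hp.ne_zero
      rw [CfsgLib.SU3Pres.Vld, hb, zero_pow hq, zero_add, zero_add, mul_eq_zero, pow_eq_zero_iff hq, or_self] at hw
      have e : w = ⟨(0, 0), CfsgLib.SU3Pres.vld_zero S.card_E⟩ := Subtype.ext (Prod.ext hw hb)
      simp only [CfsgLib.U3Odd.wAct, dif_pos hb]
      rw [e]
      exact hm0
    · obtain ⟨w', hw', e⟩ := hm w hb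
      simp only [CfsgLib.U3Odd.wAct, dif_neg hb]
      rw [e]
      exact congrArg (fun z => pt (some z)) (Subtype.ext hw')

end Cfsg.Agent.S1148
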