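import Cfsg.Statements.S3377
-- no helper imports

set_option autoImplicit false
open Cfsg

namespace Cfsg.Agent.S3377

open FreeGroup in
/-- The two permutations. -/
def gen : Fin 2 → alternatingGroup (Fin 5) :=
  ![⟨List.formPerm [(1 : Fin 5), 4, 2], Equiv.Perm.mem_alternatingGroup.2 (by decide +kernel)⟩,
    ⟨List.formPerm [(0 : Fin 5), 1, 2, 3, 4], Equiv.Perm.mem_alternatingGroup.2 (by decide +kernel)⟩]

theorem steps {G : Type*} [Group G] (x y : G) (hx : x ^ 3 = 1) (hy : y ^ 5 = 1) (hxy : (x * y) ^ 2 = 1) :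
    ∃ r : Fin 12 → G, r 0 = 1 ∧ ∀ i, (∃ j, r i * x * (r j)⁻¹ ∈ Subgroup.zpowers y) ∧ ∃ j, r i * y * (r j)⁻¹ ∈ Subgroup.zpowers y := by
  have w0 : x * x * x = 1 := by simpa [pow_succ] using hx
  have w1 : y * y * y * y * y = 1 := by simpa [pow_succ] using hy
  have w2 : x * y * x * y = 1 := by simpa [pow_succ, ← mul_assoc] using hxy
  have w3 : y * x * y * x = 1 := by
    calc y * x * y * x = x⁻¹ * (x * y * x * y) * x := by group
      _ = 1 := by rw [w2]; group
  set H := Subgroup.zpowers y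
  have e0 : (1 : G) * y * (1 : G)⁻¹ ∈ H := by
    simp only [one_mul, inv_one, mul_one]
    exact Subgroup.mem_zpowers y
  have e1 : (1 : G) * x * (x)⁻¹ ∈ H := by
    rw [show (1 : G) * x * (x)⁻¹ = 1 by group]
    exact one_mem _
  have e2 : (x) * x * (x * x)⁻¹ ∈ H := by
    rw [show (x) * x * (x * x)⁻¹ = 1 by group]
    exact one_mem _
  have e3 : (x * x) * x * (1 : G)⁻¹ ∈ H := by
    have hm : (1 : G) * (x * x * x) * (1 : G)⁻¹ ∈ H := by rw [w0]; simp
    have t := mul_mem (mul_mem (inv_mem (mul_mem e1 e2)) hm) (inv_mem (one_mem H))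
    simpa [mul_assoc] using t
  have e4 : (x) * y * (x * x)⁻¹ ∈ H := by
    have hm : (1 : G) * (x * y * x * y) * (1 : G)⁻¹ ∈ H := by rw [w2]; simp
    have t := mul_mem (mul_mem (inv_mem e1) hm) (inv_mem (mul_mem e3 e0))
    simpa [mul_assoc] using t
  have e5 : (x * x) * y * (x * x * y)⁻¹ ∈ H := by
    rw [show (x * x) * y * (x * x * y)⁻¹ = 1 by group]
    exact one_mem _
  have e6 : (x * x * y) * x * (x * x * y * x)⁻¹ ∈ H := by
    rw [show (x * x * y) * x * (x * x * y * x)⁻¹ = 1 by group]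
    exact one_mem _
  have e7 : (x * x * y * x) * y * (x)⁻¹ ∈ H := by
    have hm : (x) * (x * y * x * y) * (x)⁻¹ ∈ H := by rw [w2]; simp
    have t := mul_mem (mul_mem (inv_mem (mul_mem (mul_mem e2 e5) e6)) hm) (inv_mem (one_mem H))
    simpa [mul_assoc] using t
  have e8 : (x * x * y) * y * (x * x * y * y)⁻¹ ∈ H := by
    rw [show (x * x * y) * y * (x * x * y * y)⁻¹ = 1 by group]
    exact one_mem _
  have e9 : (x * x * y * y) * y * (x * x * y * x)⁻¹ ∈ H := by
    have hm : (x) * (y * y * y * y * y) * (x)⁻¹ ∈ H := by rw [w1]; simp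
    have t := mul_mem (mul_mem (inv_mem (mul_mem (mul_mem e4 e5) e8)) hm) (inv_mem e7)
    simpa [mul_assoc] using t
  have e10 : (x * x * y * x) * x * (x * x * y * x * x)⁻¹ ∈ H := by
    rw [show (x * x * y * x) * x * (x * x * y * x * x)⁻¹ = 1 by group]
    exact one_mem _
  have e11 : (x * x * y * x * x) * x * (x * x * y)⁻¹ ∈ H := by
    have hm : (x * x * y) * (x * x * x) * (x * x * y)⁻¹ ∈ H := by rw [w0]; simp
    have t := mul_mem (mul_mem (inv_mem (mul_mem e6 e10)) hm) (inv_mem (one_mem H))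
    simpa [mul_assoc] using t
  have e12 : (x * x * y * y) * x * (x * x * y * y * x)⁻¹ ∈ H := by
    rw [show (x * x * y * y) * x * (x * x * y * y * x)⁻¹ = 1 by group]
    exact one_mem _
  have e13 : (x * x * y * y * x) * y * (x * x * y * x * x)⁻¹ ∈ H := by
    have hm : (x * x * y * y) * (x * y * x * y) * (x * x * y * y)⁻¹ ∈ H := by rw [w2]; simp
    have t := mul_mem (mul_mem (inv_mem e12) hm) (inv_mem (mul_mem e11 e8))
    simpa [mul_assoc] using t
  have e14 : (x * x * y * x * x) * y * (x * x * y * x * x * y)⁻¹ ∈ H := by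
    rw [show (x * x * y * x * x) * y * (x * x * y * x * x * y)⁻¹ = 1 by group]
    exact one_mem _
  have e15 : (x * x * y * x * x * y) * x * (x * x * y * y)⁻¹ ∈ H := by
    have hm : (x * x * y * x) * (x * y * x * y) * (x * x * y * x)⁻¹ ∈ H := by rw [w2]; simp
    have t := mul_mem (mul_mem (inv_mem (mul_mem e10 e14)) hm) (inv_mem e9)
    simpa [mul_assoc] using t
  have e16 : (x * x * y * y * x) * x * (x * x * y * x * x * y)⁻¹ ∈ H := by
    have hm : (x * x * y * y) * (x * x * x) * (x * x * y * y)⁻¹ ∈ H := by rw [w0]; simp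
    have t := mul_mem (mul_mem (inv_mem e12) hm) (inv_mem e15)
    simpa [mul_assoc] using t
  have e17 : (x * x * y * x * x * y) * y * (x * x * y * x * x * y * y)⁻¹ ∈ H := by
    rw [show (x * x * y * x * x * y) * y * (x * x * y * x * x * y * y)⁻¹ = 1 by group]
    exact one_mem _
  have e18 : (x * x * y * x * x * y * y) * x * (x * x * y * x * x * y * y * x)⁻¹ ∈ H := by
    rw [show (x * x * y * x * x * y * y) * x * (x * x * y * x * x * y * y * x)⁻¹ = 1 by group]
    exact one_mem _
  have e19 : (x * x * y * x * x * y * y * x) * y * (x * x * y * y * x)⁻¹ ∈ H := by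
    have hm : (x * x * y * y * x) * (x * y * x * y) * (x * x * y * y * x)⁻¹ ∈ H := by rw [w2]; simp
    have t := mul_mem (mul_mem (inv_mem (mul_mem (mul_mem e16 e17) e18)) hm) (inv_mem (one_mem H))
    simpa [mul_assoc] using t
  have e20 : (x * x * y * x * x * y * y) * y * (x * x * y * x * x * y * y * x)⁻¹ ∈ H := by
    have hm : (x * x * y * x * x) * (y * y * y * y * y) * (x * x * y * x * x)⁻¹ ∈ H := by rw [w1]; simp
    have t := mul_mem (mul_mem (inv_mem (mul_mem e14 e17)) hm) (inv_mem (mul_mem e19 e13))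
    simpa [mul_assoc] using t
  have e21 : (x * x * y * x * x * y * y * x) * x * (x * x * y * x * x * y * y * x * x)⁻¹ ∈ H := by
    rw [show (x * x * y * x * x * y * y * x) * x * (x * x * y * x * x * y * y * x * x)⁻¹ = 1 by group]
    exact one_mem _
  have e22 : (x * x * y * x * x * y * y * x * x) * x * (x * x * y * x * x * y * y)⁻¹ ∈ H := by
    have hm : (x * x * y * x * x * y * y) * (x * x * x) * (x * x * y * x * x * y * y)⁻¹ ∈ H := by rw [w0]; simp
    have t := mul_mem (mul_mem (inv_mem (mul_mem e18 e21)) hm) (inv_mem (one_mem H))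
    simpa [mul_assoc] using t
  have e23 : (x * x * y * x * x * y * y * x * x) * y * (x * x * y * x * x * y * y * x * x)⁻¹ ∈ H := by
    have hm : (x * x * y * x * x * y * y * x) * (x * y * x * y) * (x * x * y * x * x * y * y * x)⁻¹ ∈ H := by rw [w2]; simp
    have t := mul_mem (mul_mem (inv_mem e21) hm) (inv_mem (mul_mem e22 e20))
    simpa [mul_assoc] using t
  refine ⟨![(1 : G), (x), (x * x), (x * x * y), (x * x * y * x), (x * x * y * y), (x * x * y * x * x), (x * x * y * y * x), (x * x * y * x * x * y), (x * x * y * x * x * y * y), (x * x * y * x * x * y * y * x), (x * x * y * x * x * y * y * x * x)], rfl, fun i => ?_⟩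
  fin_cases i
  · exact ⟨⟨1, e1⟩, ⟨0, e0⟩⟩
  · exact ⟨⟨2, e2⟩, ⟨2, e4⟩⟩
  · exact ⟨⟨0, e3⟩, ⟨3, e5⟩⟩
  · exact ⟨⟨4, e6⟩, ⟨5, e8⟩⟩
  · exact ⟨⟨6, e10⟩, ⟨1, e7⟩⟩
  · exact ⟨⟨7, e12⟩, ⟨4, e9⟩⟩
  · exact ⟨⟨3, e11⟩, ⟨8, e14⟩⟩
  · exact ⟨⟨8, e16⟩, ⟨6, e13⟩⟩
  · exact ⟨⟨5, e15⟩, ⟨9, e17⟩⟩
  · exact ⟨⟨10, e18⟩, ⟨10, e20⟩⟩
  · exact ⟨⟨11, e21⟩, ⟨7, e19⟩⟩
  · exact ⟨⟨9, e22⟩, ⟨11, e23⟩⟩

/-- The alternating group of degree 5 has the presentation ⟨x, y | x³ = 1, y⁵ = 1, (xy)² = 1⟩: the group so presented is isomorphic to Alt(5). -/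
theorem result :
    Nonempty (PresentedGroup ({FreeGroup.of (0 : Fin 2) ^ 3, FreeGroup.of (1 : Fin 2) ^ 5,
        (FreeGroup.of (0 : Fin 2) * FreeGroup.of 1) ^ 2} : Set (FreeGroup (Fin 2))) ≃* alternatingGroup (Fin 5)) := by
  set rels : Set (FreeGroup (Fin 2)) := {FreeGroup.of (0 : Fin 2) ^ 3, FreeGroup.of (1 : Fin 2) ^ 5,
    (FreeGroup.of (0 : Fin 2) * FreeGroup.of 1) ^ 2} with hrels
  have hgen : ∀ r ∈ rels, FreeGroup.lift gen r = 1 := by
    intro r hr
    simp only [hrels, Set.mem_insert_iff, Set.mem_singleton_iff] at hr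
    rcases hr with rfl | rfl | rfl <;>
      simp only [map_pow, map_mul, FreeGroup.lift_apply_of] <;> decide +kernel
  let f : PresentedGroup rels →* alternatingGroup (Fin 5) := PresentedGroup.toGroup hgen
  let x : PresentedGroup rels := PresentedGroup.of 0
  let y : PresentedGroup rels := PresentedGroup.of 1
  have rel : ∀ r ∈ rels, PresentedGroup.mk rels r = 1 := fun r hr =>
    PresentedGroup.one_of_mem hr
  have hx : x ^ 3 = 1 := by
    rw [show x ^ 3 = PresentedGroup.mk rels (FreeGroup.of 0 ^ 3) from (map_pow _ _ _).symm]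
    exact rel _ (by simp [hrels])
  have hy : y ^ 5 = 1 := by
    rw [show y ^ 5 = PresentedGroup.mk rels (FreeGroup.of 1 ^ 5) from (map_pow _ _ _).symm]
    exact rel _ (by simp [hrels])
  have hxy : (x * y) ^ 2 = 1 := by
    rw [show (x * y) ^ 2 = PresentedGroup.mk rels ((FreeGroup.of 0 * FreeGroup.of 1) ^ 2) by
      rw [map_pow, map_mul]; rfl]
    exact rel _ (by simp [hrels])
  obtain ⟨r, hr0, hr⟩ := steps x y hx hy hxy
  have hcov : ∀ g : PresentedGroup rels, ∃ j, g * (r j)⁻¹ ∈ Subgroup.zpowers y := by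
    intro g
    have hg : g ∈ Subgroup.closure ({x, y} : Set (PresentedGroup rels)) := by
      have e : Subgroup.closure (Set.range (PresentedGroup.of (rels := rels))) = ⊤ :=
        PresentedGroup.closure_range_of rels
      have hsub : Set.range (PresentedGroup.of (rels := rels)) ⊆ {x, y} := by
        rintro _ ⟨i, rfl⟩
        fin_cases i <;> simp [x, y]
      exact Subgroup.closure_mono hsub (e.symm ▸ Subgroup.mem_top g)
    have hstep : ∀ g s, (s = x ∨ s = y) →
        (∃ j, g * (r j)⁻¹ ∈ Subgroup.zpowers y) → ∃ j, g * s * (r j)⁻¹ ∈ Subgroup.zpowers y := by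
      rintro g s hs ⟨j, hj⟩
      obtain ⟨k, hk⟩ : ∃ k, r j * s * (r k)⁻¹ ∈ Subgroup.zpowers y := by
        rcases hs with rfl | rfl
        · exact (hr j).1
        · exact (hr j).2
      exact ⟨k, by simpa [mul_assoc] using mul_mem hj hk⟩
    induction hg using Subgroup.closure_induction_right with
    | one => exact ⟨0, by simp [hr0]⟩
    | mul_right a _ b hb ih => exact hstep a b hb ih
    | mul_inv_cancel a _ b hb ih =>
      rcases hb with rfl | rfl
      · have e : a * x⁻¹ = a * x * x := by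
          have h3 : x * x * x = 1 := by simpa [pow_succ] using hx
          rw [inv_eq_of_mul_eq_one_left h3, mul_assoc]
        rw [e]
        exact hstep _ _ (Or.inl rfl) (hstep _ _ (Or.inl rfl) ih)
      · have e : a * y⁻¹ = a * y * y * y * y := by
          have h5 : y * y * y * y * y = 1 := by simpa [pow_succ] using hy
          rw [inv_eq_of_mul_eq_one_left h5]
          simp [mul_assoc]
        rw [e]
        exact hstep _ _ (Or.inr rfl) (hstep _ _ (Or.inr rfl)
          (hstep _ _ (Or.inr rfl) (hstep _ _ (Or.inr rfl) ih)))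
  have hfin : ∃ s : Fin 12 × Fin 5 → PresentedGroup rels, Function.Surjective s := by
    refine ⟨fun p => y ^ (p.2 : ℕ) * r p.1, fun g => ?_⟩
    obtain ⟨j, hj⟩ := hcov g
    obtain ⟨k, hk⟩ := Subgroup.mem_zpowers_iff.1 hj
    have h0 : (0 : ℤ) ≤ k % 5 := Int.emod_nonneg _ (by norm_num)
    have h5 : k % 5 < 5 := Int.emod_lt_of_pos _ (by norm_num)
    refine ⟨(j, ⟨(k % 5).toNat, by omega⟩), ?_⟩
    show y ^ (k % 5).toNat * r j = g
    have e : y ^ k = y ^ (k % 5) := by
      conv_lhs => rw [← Int.emod_add_mul_ediv k 5, zpow_add, zpow_mul]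
      rw [show y ^ (5 : ℤ) = 1 by exact_mod_cast hy, one_zpow, mul_one]
    rw [← zpow_natCast, Int.toNat_of_nonneg h0, ← e, hk]
    group
  obtain ⟨s, hs⟩ := hfin
  have : Finite (PresentedGroup rels) := Finite.of_surjective s hs
  have hle : Nat.card (PresentedGroup rels) ≤ 60 := by
    simpa using Nat.card_le_card_of_surjective s hs
  have hA : Nat.card (alternatingGroup (Fin 5)) = 60 := by
    rw [Nat.card_eq_fintype_card]
    decide +kernel
  have hsurj : Function.Surjective f := by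
    rw [← MonoidHom.range_eq_top]
    have e0 : gen 0 ∈ f.range := ⟨x, PresentedGroup.toGroup.of hgen⟩
    have e1 : gen 1 ∈ f.range := ⟨y, PresentedGroup.toGroup.of hgen⟩
    have d : ∀ (g : alternatingGroup (Fin 5)) (n : ℕ), g ∈ f.range → orderOf g = n →
        n ∣ Nat.card f.range := fun g n hg hn => by
      rw [← hn, ← Subgroup.orderOf_mk g hg]; exact orderOf_dvd_natCard _
    have d3 := d _ 3 e0 (orderOf_eq_prime (hp := ⟨by norm_num⟩) (by decide +kernel) (by decide +kernel))
    have d5 := d _ 5 e1 (orderOf_eq_prime (hp := ⟨by norm_num⟩) (by decide +kernel) (by decide +kernel))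
    have d2 := d _ 2 (mul_mem e0 e1)
      (orderOf_eq_prime (hp := ⟨by norm_num⟩) (by decide +kernel) (by decide +kernel))
    have h30 : 30 ∣ Nat.card f.range :=
      Nat.Coprime.mul_dvd_of_dvd_of_dvd (m := 6) (n := 5) (by norm_num)
        (Nat.Coprime.mul_dvd_of_dvd_of_dvd (m := 2) (n := 3) (by norm_num) d2 d3) d5
    obtain ⟨c, hc⟩ := h30
    have hi := f.range.card_mul_index
    rw [hA, hc] at hi
    have hci : c * f.range.index = 2 := by
      have : 30 * (c * f.range.index) = 30 * 2 := by rw [← mul_assoc]; exact hi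
      omega
    by_contra hne
    have hidx : f.range.index = 2 := by
      rcases (Nat.dvd_prime Nat.prime_two).1 (Dvd.intro_left _ hci) with h | h
      · exact absurd (Subgroup.index_eq_one.1 h) hne
      · exact h
    have := Subgroup.normal_of_index_eq_two hidx
    have : IsSimpleGroup (alternatingGroup (Fin 5)) := alternatingGroup.isSimpleGroup_five
    rcases IsSimpleGroup.eq_bot_or_eq_top_of_normal f.range ‹_› with h | h
    · rw [h, Subgroup.index_bot, hA] at hidx; omega
    · exact hne h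
  have hge := Nat.card_le_card_of_surjective f hsurj
  exact ⟨MulEquiv.ofBijective f ((Nat.bijective_iff_surjective_and_card f).2
    ⟨hsurj, by omega⟩)⟩

end Cfsg.Agent.S3377
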