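import Cfsg.Statements.S0727
import Mathlib
import Cfsg.Agent.Perm.SharplyThreePGL
import Cfsg.Agent.Perm.SharplyThreeSetup
-- import your own Cfsg.Agent.* helpers here

set_option autoImplicit false
open Cfsg
open scoped commutatorElement Pointwise

namespace Cfsg.Agent.S0727

/-- A sharply triply transitive permutation group of degree `2^f + 1` is isomorphic to the projective general linear group of degree 2 over the field with `2^f` elements. -/
theorem result {α : Type*} [Fintype α] [DecidableEq α] {f : ℕ} (hf : 1 ≤ f) (hα : Fintype.card α = 2 ^ f + 1) (G : Subgroup (Equiv.Perm α)) (h3 : MulAction.IsMultiplyPretransitive G α 3) (hsharp : ∀ x : Fin 3 ↪ α, MulAction.stabilizer G x = ⊥) : ∃ (F : Type) (_ : Field F) (_ : Fintype F), Fintype.card F = 2 ^ f ∧ Nonempty (G ≃* Matrix.ProjGenLinGroup (Fin 2) F) := by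
  classical
  have hodd : Odd (Fintype.card α) := by
    rw [hα]
    exact ((Nat.even_pow.mpr ⟨even_two, by omega⟩).add_one)
  have h3card : 3 ≤ Fintype.card α := by
    have : 2 ^ 1 ≤ 2 ^ f := Nat.pow_le_pow_right (by norm_num) hf
    omega
  obtain ⟨u⟩ := Function.Embedding.nonempty_of_card_le (α := Fin 3) (β := α) (by simpa using h3card)
  have hab : u 0 ≠ u 1 := u.injective.ne (by decide)
  have hac : u 0 ≠ u 2 := u.injective.ne (by decide)
  have hbc : u 1 ≠ u 2 := u.injective.ne (by decide)
  obtain ⟨s, hsa, hsb, hsc⟩ := CfsgLib.SharplyThree.exists_swap h3 hab hac hbc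
  have hs2 := CfsgLib.SharplyThree.swap_sq hsharp hab hac hbc hsa hsb hsc
  let σ : ↥(MulAction.stabilizer G (u 0) ⊓ MulAction.stabilizer G (u 1)) →*
      ↥(MulAction.stabilizer G (u 0) ⊓ MulAction.stabilizer G (u 1)) :=
    MonoidHom.mk' (fun h => ⟨s * h * s⁻¹, CfsgLib.SharplyThree.conj_mem_pair hsa hsb hs2 h.2⟩)
      (fun x y => Subtype.ext (by
        show s * ((x : G) * y) * s⁻¹ = s * x * s⁻¹ * (s * y * s⁻¹)
        group))
  have hinv := CfsgLib.SharplyThree.inv_of_fixed_free σ (fun h => Subtype.ext (by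
      show s * (s * h * s⁻¹) * s⁻¹ = h
      rw [inv_eq_of_mul_eq_one_right hs2, ← mul_assoc, ← mul_assoc, hs2, one_mul, mul_assoc, hs2, mul_one]))
    (fun h hh => Subtype.ext (CfsgLib.SharplyThree.centralizer_trivial hodd hsharp hab hac hbc hsa
      hsb hsc h.2 (congrArg Subtype.val hh)))
  have hFc : Nat.card (GaloisField 2 f) = 2 ^ f := GaloisField.card 2 f (by omega)
  haveI : Fintype (GaloisField 2 f) := Fintype.ofFinite _
  refine ⟨GaloisField 2 f, inferInstance, inferInstance, by rw [← Nat.card_eq_fintype_card]; exact hFc, ?_⟩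
  exact CfsgLib.SharplyThree.nonempty_mulEquiv_pgl h3 hsharp hab hac hbc hsa hsb hsc
    (fun h hh => congrArg Subtype.val (hinv ⟨h, hh⟩)) (GaloisField 2 f) (by rw [hFc, hα])


end Cfsg.Agent.S0727
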