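import Cfsg.Statements.S1230
import Cfsg.Agent.Invol.ElementaryCentralizers
import Cfsg.Agent.S0727
import Cfsg.Agent.Classical.PSLTwo

set_option autoImplicit false
open Cfsg

namespace Cfsg.Agent.S1230

/-- Let G be a finite group with a Sylow 2-subgroup T that is neither cyclic nor normal, such that the centralizer of every involution is an elementary abelian 2-group. Then G ≅ PSL(2,F) for a finite field F with |F| = |T|. -/
theorem result {G : Type*} [Group G] [Finite G] (T : Sylow 2 G) (hnc : ¬ IsCyclic (T : Subgroup G)) (hnn : ¬ (T : Subgroup G).Normal) (hC : ∀ t : G, orderOf t = 2 → IsMulCommutative (Subgroup.centralizer ({t} : Set G)) ∧ ∀ c ∈ Subgroup.centralizer ({t} : Set G), c ^ 2 = 1) : ∃ (F : Type) (_ : Field F) (_ : Fintype F), Fintype.card F = Nat.card T ∧ Nonempty (G ≃* Matrix.ProjectiveSpecialLinearGroup (Fin 2) F) := by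
  classical
  haveI : Fact (Nat.Prime 2) := ⟨Nat.prime_two⟩
  have hT : CfsgLib.EACent.Hyp T := ⟨hnc, hnn, hC⟩
  set N := Subgroup.normalizer ((T : Subgroup G) : Set G) with hN
  set o : G ⧸ N := QuotientGroup.mk (1 : G) with ho
  haveI : Fintype (G ⧸ N) := Fintype.ofFinite _
  have h4 := CfsgLib.EACent.four_le_card hT
  obtain ⟨f, hf⟩ := IsPGroup.iff_card.1 T.2
  have hf1 : 1 ≤ f := by
    rcases Nat.eq_zero_or_pos f with h | h
    · rw [h, pow_zero] at hf; omega
    · exact h
  -- the degree
  have hdeg : Fintype.card (G ⧸ N) = 2 ^ f + 1 := by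
    obtain ⟨u, -, huN⟩ := CfsgLib.EACent.exists_outside hT
    have hy : (QuotientGroup.mk u : G ⧸ N) ≠ o := fun e => huN (by
      have := QuotientGroup.eq.1 e.symm
      rw [inv_one, one_mul] at this
      exact this)
    have hb : Function.Bijective fun t : (T : Subgroup G) =>
        (⟨(t : G) • (QuotientGroup.mk u : G ⧸ N), fun e => hy (by
          have h : (t : G) • o = o := by
            show QuotientGroup.mk ((t : G) * 1) = QuotientGroup.mk (1 : G)
            rw [QuotientGroup.eq, mul_one, mul_one]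
            exact inv_mem (Subgroup.le_normalizer t.2)
          exact smul_left_cancel (t : G) (e.trans h.symm))⟩ : {x : G ⧸ N // x ≠ o}) := by
      refine ⟨fun a b h => ?_, fun ⟨x, hx⟩ => ?_⟩
      · obtain ⟨t, -, ht⟩ := CfsgLib.EACent.T_regular hT hy (y := (b : G) • (QuotientGroup.mk u : G ⧸ N))
          (fun e => by
            have := congrArg Subtype.val h
            simp only at this
            exact hy (smul_left_cancel (b : G) (e.trans (by
              show QuotientGroup.mk (1 : G) = QuotientGroup.mk ((b : G) * 1)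
              rw [QuotientGroup.eq, inv_one, one_mul, mul_one]
              exact Subgroup.le_normalizer b.2))))
        exact Subtype.ext ((ht (a : G) ⟨a.2, congrArg Subtype.val h⟩).trans
          (ht (b : G) ⟨b.2, rfl⟩).symm)
      · obtain ⟨t, ⟨htT, htx⟩, -⟩ := CfsgLib.EACent.T_regular hT hy hx
        exact ⟨⟨t, htT⟩, Subtype.ext htx⟩
    have h := Nat.card_eq_of_bijective _ hb
    rw [hf, Nat.card_eq_fintype_card, Fintype.card_subtype_compl, Fintype.card_subtype_eq] at h
    have : 0 < Fintype.card (G ⧸ N) := Fintype.card_pos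
    omega
  let ρ : G →* Equiv.Perm (G ⧸ N) := MulAction.toPermHom G (G ⧸ N)
  obtain ⟨w⟩ := Function.Embedding.nonempty_of_card_le (α := Fin 3) (β := G ⧸ N)
    (by rw [Fintype.card_fin, hdeg]; have := Nat.two_pow_pos f; omega)
  have hρ : Function.Injective ρ := by
    rw [injective_iff_map_eq_one]
    intro g hg
    exact CfsgLib.EACent.three_point_stabilizer hT (w.injective.ne (show (0 : Fin 3) ≠ 1 by decide))
      (w.injective.ne (show (0 : Fin 3) ≠ 2 by decide)) (w.injective.ne (show (1 : Fin 3) ≠ 2 by decide))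
      (Equiv.Perm.congr_fun hg _) (Equiv.Perm.congr_fun hg _) (Equiv.Perm.congr_fun hg _)
  have h3 : MulAction.IsMultiplyPretransitive ρ.range (G ⧸ N) 3 := ⟨fun a b => by
    obtain ⟨g, g0, g1, g2⟩ := CfsgLib.EACent.three_transitive hT (a.injective.ne (show (0 : Fin 3) ≠ 1 by decide))
      (a.injective.ne (show (0 : Fin 3) ≠ 2 by decide)) (a.injective.ne (show (1 : Fin 3) ≠ 2 by decide))
      (b.injective.ne (show (0 : Fin 3) ≠ 1 by decide)) (b.injective.ne (show (0 : Fin 3) ≠ 2 by decide))
      (b.injective.ne (show (1 : Fin 3) ≠ 2 by decide))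
    refine ⟨⟨ρ g, ⟨g, rfl⟩⟩, DFunLike.ext _ _ fun i => ?_⟩
    fin_cases i
    · exact g0
    · exact g1
    · exact g2⟩
  have hsharp : ∀ x : Fin 3 ↪ G ⧸ N, MulAction.stabilizer ρ.range x = ⊥ := fun x => by
    refine (Subgroup.eq_bot_iff_forall _).2 ?_
    rintro ⟨_, g, rfl⟩ hg
    have h : ∀ i, ρ g (x i) = x i := fun i => congrArg (fun e : Fin 3 ↪ G ⧸ N => e i) hg
    have := CfsgLib.EACent.three_point_stabilizer hT (x.injective.ne (show (0 : Fin 3) ≠ 1 by decide))
      (x.injective.ne (show (0 : Fin 3) ≠ 2 by decide)) (x.injective.ne (show (1 : Fin 3) ≠ 2 by decide))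
      (h 0) (h 1) (h 2)
    subst this
    exact Subtype.ext (map_one ρ)
  obtain ⟨F, iF, iFt, hFc, ⟨e⟩⟩ := Cfsg.Agent.S0727.result hf1 hdeg ρ.range h3 hsharp
  refine ⟨F, iF, iFt, by rw [hFc]; exact hf.symm, ?_⟩
  haveI : Finite (Matrix.ProjGenLinGroup (Fin 2) F) := Nat.finite_of_card_ne_zero (by
    rw [CfsgLib.Linear.PSLTwo.card_pgl]
    have : 2 ≤ Nat.card F := Finite.one_lt_card
    have : 4 ≤ Nat.card F ^ 2 := by nlinarith
    exact Nat.mul_ne_zero (by omega) (by omega))
  have hbij : Function.Bijective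
      (Matrix.ProjectiveSpecialLinearGroup.toPGL (n := Fin 2) (R := F)) := by
    refine Nat.bijective_iff_injective_and_card _ |>.2
      ⟨Matrix.ProjectiveSpecialLinearGroup.toPGL_injective, ?_⟩
    have h1 := CfsgLib.Linear.PSLTwo.mul_card (F := F)
    have hgcd : Nat.gcd 2 (Nat.card F - 1) = 1 := by
      rw [Nat.card_eq_fintype_card, hFc, Nat.gcd_rec]
      obtain ⟨j, rfl⟩ : ∃ j, f = j + 1 := ⟨f - 1, by omega⟩
      have : 0 < 2 ^ j := Nat.two_pow_pos j
      rw [show (2 ^ (j + 1) - 1) % 2 = 1 by rw [pow_succ]; omega]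
      norm_num
    rw [hgcd, one_mul] at h1
    rw [h1, CfsgLib.Linear.PSLTwo.card_pgl]
  exact ⟨(MonoidHom.ofInjective hρ).trans (e.trans (MulEquiv.ofBijective _ hbij).symm)⟩

end Cfsg.Agent.S1230
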