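import Cfsg.Statements.S0054
import Mathlib.GroupTheory.Sylow
import Mathlib.GroupTheory.GroupAction.MultipleTransitivity

set_option autoImplicit false
set_option linter.deprecated false
set_option linter.style.haveILetI false
set_option linter.unusedVariables false
open Cfsg
open scoped Pointwise

namespace Cfsg.Agent.S0054

/-- A regular normal subgroup of a finite 2-transitive group is elementary abelian: it is commutative and all its elements have order dividing one prime. -/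
theorem result {G : Type*} [Group G] [Finite G]
    {X : Type*} [Nonempty X] [MulAction G X] (h2 : MulAction.IsMultiplyPretransitive G X 2)
    (N : Subgroup G) [N.Normal] (htrans : MulAction.IsPretransitive N X) (hreg : ∀ x : X, MulAction.stabilizer N x = ⊥) :
    IsMulCommutative N ∧ ∃ p : ℕ, p.Prime ∧ ∀ n ∈ N, n ^ p = 1 := by
  rw [MulAction.is_two_pretransitive_iff] at h2
  have hfix : ∀ (n : G), n ∈ N → ∀ y : X, n • y = y → n = 1 := by
    intro n hn y hy
    have h := hreg y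
    have : (⟨n, hn⟩ : N) ∈ MulAction.stabilizer N y := hy
    rw [h, Subgroup.mem_bot] at this
    exact congrArg Subtype.val this
  have hconj : ∀ n ∈ N, n ≠ 1 → ∀ m ∈ N, m ≠ 1 → ∃ g : G, g * n * g⁻¹ = m := by
    intro n hn hn1 m hm hm1
    obtain ⟨x⟩ := (inferInstance : Nonempty X)
    obtain ⟨g, hgx, hgn⟩ := h2 (a := x) (b := n • x) (c := x) (d := m • x)
      (fun h => hn1 (hfix n hn x h.symm)) (fun h => hm1 (hfix m hm x h.symm))
    refine ⟨g, ?_⟩
    have h1 : m⁻¹ * (g * n * g⁻¹) = 1 := by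
      refine hfix _ (N.mul_mem (N.inv_mem hm) (Subgroup.Normal.conj_mem inferInstance n hn g)) x ?_
      rw [mul_smul, mul_smul, mul_smul]
      have : g⁻¹ • x = x := by rw [inv_smul_eq_iff, hgx]
      rw [this, hgn, inv_smul_smul]
    exact (inv_mul_eq_one.1 h1).symm
  by_cases hN : ∀ n ∈ N, n = 1
  · refine ⟨⟨⟨fun a b => Subtype.ext ?_⟩⟩, 2, Nat.prime_two, fun n hn => by simp [hN n hn]⟩
    simp [hN a.1 a.2, hN b.1 b.2]
  push Not at hN
  obtain ⟨n₀, hn₀, hn₀1⟩ := hN
  obtain ⟨p, hp, hpd⟩ := Nat.exists_prime_and_dvd (fun h => hn₀1 (orderOf_eq_one_iff.1 h))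
  have : Fact p.Prime := ⟨hp⟩
  have hk1 : orderOf (n₀ ^ (orderOf n₀ / p)) = p :=
    orderOf_pow_orderOf_div (orderOf_pos n₀).ne' hpd
  have hord : ∀ m ∈ N, m ≠ 1 → orderOf m = p := by
    intro m hm hm1
    obtain ⟨g, hg⟩ := hconj _ (N.pow_mem hn₀ (orderOf n₀ / p))
      (fun h => hp.ne_one (by rw [← hk1, h, orderOf_one])) m hm hm1
    rw [← hg]
    refine Eq.trans ?_ hk1
    exact orderOf_injective (MulAut.conj g).toMonoidHom (MulAut.conj g).injective _
  have hpow : ∀ m ∈ N, m ^ p = 1 := by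
    intro m hm
    by_cases hm1 : m = 1
    · simp [hm1]
    · rw [← hord m hm hm1]; exact pow_orderOf_eq_one m
  refine ⟨?_, p, hp, hpow⟩
  have hP : IsPGroup p N := fun a => ⟨1, Subtype.ext (by simpa using hpow a.1 a.2)⟩
  have : Nontrivial N := (Subgroup.nontrivial_iff_ne_bot N).2 fun h => hn₀1 (by simpa [h] using hn₀)
  have := hP.center_nontrivial
  obtain ⟨⟨⟨z, hzN⟩, hzc⟩, hz1⟩ := exists_ne (1 : Subgroup.center N)
  have hz1' : z ≠ 1 := fun h => hz1 (Subtype.ext (Subtype.ext h))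
  refine ⟨⟨fun a b => ?_⟩⟩
  by_cases ha : a.1 = 1
  · have : a = 1 := Subtype.ext ha
    simp [this]
  obtain ⟨g, hg⟩ := hconj z hzN hz1' a.1 a.2 ha
  have hb : g⁻¹ * b.1 * g ∈ N := by
    simpa using Subgroup.Normal.conj_mem inferInstance b.1 b.2 g⁻¹
  have hzc' := congrArg Subtype.val (Subgroup.mem_center_iff.1 hzc ⟨_, hb⟩)
  simp only [Subgroup.coe_mul] at hzc'
  apply Subtype.ext
  simp only [Subgroup.coe_mul]
  rw [← hg]
  calc g * z * g⁻¹ * b.1 = g * (z * (g⁻¹ * b.1 * g)) * g⁻¹ := by group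
    _ = g * (g⁻¹ * b.1 * g * z) * g⁻¹ := by rw [hzc']
    _ = b.1 * (g * z * g⁻¹) := by group


end Cfsg.Agent.S0054
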