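import Cfsg.Statements.S4419
import Cfsg.Agent.FGSA.RankTwoAut
import Cfsg.Agent.Transfer.Frobenius
import Cfsg.Agent.Solvable.Basics
import Cfsg.Prelude.Def_Local
import Cfsg.Prelude.Def_OddOrderLocal

set_option autoImplicit false
open Cfsg

namespace Cfsg.Agent.S4419

open Subgroup
open scoped MatrixGroups

theorem two_generated {G : Type*} [Group G] (hS : Cfsg.IsMetacyclic G) (T : Subgroup G) :
    ∃ a ∈ T, ∃ b ∈ T, T ≤ Subgroup.closure ({a, b} : Set G) := by
  obtain ⟨N, hNn, hN, hQ⟩ := hS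
  haveI := hQ
  haveI := hN
  haveI : IsCyclic (T.map (QuotientGroup.mk' N)) := inferInstance
  haveI : IsCyclic (N ⊓ T : Subgroup G) :=
    isCyclic_of_injective (inclusion inf_le_left) (inclusion_injective (inf_le_left : N ⊓ T ≤ N))
  obtain ⟨⟨_, a, ha, rfl⟩, hgen⟩ := IsCyclic.exists_generator (α := T.map (QuotientGroup.mk' N))
  obtain ⟨⟨b, hb⟩, hbgen⟩ := IsCyclic.exists_generator (α := (N ⊓ T : Subgroup G))
  refine ⟨a, ha, b, hb.2, fun t ht => ?_⟩
  obtain ⟨i, hi⟩ := mem_zpowers_iff.1 (hgen ⟨_, mem_map_of_mem _ ht⟩)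
  have hi' : QuotientGroup.mk' N (a ^ i) = QuotientGroup.mk' N t := by
    rw [map_zpow]; exact congrArg Subtype.val hi
  have hmem : (a ^ i)⁻¹ * t ∈ N ⊓ T :=
    mem_inf.2 ⟨QuotientGroup.eq.1 hi', mul_mem (inv_mem (zpow_mem ha i)) ht⟩
  obtain ⟨j, hj⟩ := mem_zpowers_iff.1 (hbgen ⟨_, hmem⟩)
  have hj' : b ^ j = (a ^ i)⁻¹ * t := congrArg Subtype.val hj
  rw [show t = a ^ i * b ^ j by rw [hj', mul_inv_cancel_left]]
  exact mul_mem (zpow_mem (subset_closure (Set.mem_insert _ _)) i)
    (zpow_mem (subset_closure (Set.mem_insert_of_mem _ (Set.mem_singleton b))) j)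

theorem frattini_index_le {T : Type*} [Group T] [Finite T] {p : ℕ} [Fact p.Prime] (hT : IsPGroup p T)
    {a b : T} (hgen : Subgroup.closure ({a, b} : Set T) = ⊤) : ∃ r ≤ 2, (frattini T).index = p ^ r := by
  have hp : p.Prime := Fact.out
  obtain ⟨r, hr⟩ := hT.index (frattini T)
  refine ⟨r, ?_, hr⟩
  obtain ⟨hc, hpw⟩ := CfsgLib.PGroupBasic.commutator_pow_le_frattini (p := p) hT
  set q := QuotientGroup.mk' (frattini T)
  have hord : ∀ x : T, orderOf (q x) ≤ p := fun x => orderOf_le_of_pow_eq_one hp.pos (by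
    rw [← map_pow]; exact (QuotientGroup.eq_one_iff _).2 (hpw x))
  have hcomm : ∀ u v : T ⧸ frattini T, u * v = v * u :=
    (Normal.quotient_commutative_iff_commutator_le.2 hc).is_comm.comm
  have hnor : zpowers (q a) ≤ normalizer ((zpowers (q b) : Subgroup (T ⧸ frattini T)) : Set (T ⧸ frattini T)) :=
    fun u _ => centralizer_le_normalizer _ (mem_centralizer_iff.2 fun v _ => hcomm v u)
  have htop : zpowers (q a) ⊔ zpowers (q b) = ⊤ := by
    rw [← top_le_iff, ← map_top_of_surjective q (QuotientGroup.mk'_surjective _), ← hgen,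
      MonoidHom.map_closure, closure_le]
    rintro _ ⟨x, (rfl | rfl), rfl⟩
    · exact mem_sup_left (mem_zpowers _)
    · exact mem_sup_right (mem_zpowers _)
  have h1 := CfsgLib.Solvable.card_sup_mul_card_inf hnor
  rw [htop, card_top, ← index_eq_card, hr, Nat.card_zpowers, Nat.card_zpowers] at h1
  have h2 : p ^ r * 1 ≤ p * p := (Nat.mul_le_mul_left _ Nat.card_pos).trans
    (h1.le.trans (Nat.mul_le_mul (hord a) (hord b)))
  rw [mul_one, ← pow_two] at h2
  exact (Nat.pow_le_pow_iff_right hp.one_lt).1 h2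


/-- Let p be a prime and G a finite group whose Sylow p-subgroups are metacyclic (a cyclic normal subgroup with cyclic quotient). Then G has a normal p-complement if and only if the order of G/O_{p′,p}(G) is coprime to p² − 1. -/
theorem result {G : Type*} [Group G] [Finite G] (p : ℕ) [Fact p.Prime] (S : Sylow p G) (hS : Cfsg.IsMetacyclic ↥(S : Subgroup G)) : Cfsg.HasNormalPComplement p G ↔ Nat.Coprime (Nat.card (G ⧸ Cfsg.pPrimePCore p G)) (p ^ 2 - 1) := by
  classical
  have hp : p.Prime := Fact.out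
  set O := Cfsg.pPrimeCore p G with hO
  set K := Cfsg.pPrimePCore p G with hK
  haveI : K.Normal := Normal.comap (inferInstance : (Cfsg.pCore p (G ⧸ O)).Normal) _
  constructor
  · rintro ⟨P, N, hN, hcomp⟩
    haveI := hN
    obtain ⟨e, he⟩ := IsPGroup.iff_card.1 P.isPGroup'
    have hidx : N.index = p ^ e := (hcomp.symm.index_eq_card).trans he
    have hcop : (Nat.card N).Coprime p := by
      rw [← hcomp.index_eq_card]
      exact (hp.coprime_iff_not_dvd.2 P.not_dvd_index).symm
    have hNO : N ≤ O := CfsgLib.Solvable.le_pPrimeCore p hN hcop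
    have hQp : IsPGroup p (G ⧸ O) := by
      obtain ⟨i, -, hi⟩ := (Nat.dvd_prime_pow hp).1 ((index_dvd_of_le hNO).trans hidx.dvd)
      exact IsPGroup.of_card (n := i) (by rw [← index_eq_card, hi])
    have htop : K = ⊤ := by
      have h : Cfsg.pCore p (G ⧸ O) = ⊤ := top_le_iff.1
        (CfsgLib.Solvable.le_pCore p inferInstance (hQp.to_subgroup ⊤))
      rw [hK]
      show (Cfsg.pCore p (G ⧸ O)).comap (QuotientGroup.mk' O) = ⊤
      rw [h, comap_top]
    rw [← index_eq_card, htop, index_top]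
    exact Nat.coprime_one_left _
  · intro hco
    apply CfsgLib.Fusion.hasNormalPComplement_of_localCondition
    intro T hT g hg hgp
    by_contra hgc
    obtain ⟨P, hTP⟩ := hT.exists_le_sylow
    let e := P.equiv S
    set T' := (T.subgroupOf P).map e.toMonoidHom with hT'
    obtain ⟨a, ha, b, hb, hle⟩ := two_generated hS T'
    have hT'p : IsPGroup p T' := S.isPGroup'.to_subgroup T'
    have hgen : Subgroup.closure ({(⟨a, ha⟩ : T'), ⟨b, hb⟩} : Set T') = ⊤ := by
      apply map_injective T'.subtype_injective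
      rw [MonoidHom.map_closure, ← MonoidHom.range_eq_map, range_subtype, Set.image_pair]
      exact le_antisymm ((closure_le _).2 (Set.insert_subset ha (Set.singleton_subset_iff.2 hb))) hle
    obtain ⟨r, hr2, hr⟩ := frattini_index_le hT'p hgen
    obtain ⟨ψ, hψ⟩ := CfsgLib.FGSA.RankTwoAut.exists_gl hT'p hr
    let ι : T ≃* T' := (subgroupOfEquivOfLe hTP).symm.trans
      ((T.subgroupOf P).equivMapOfInjective e.toMonoidHom e.injective)
    let φ : normalizer (T : Set G) →* MulAut T' := (MulAut.congr ι).toMonoidHom.comp (normalizerMonoidHom T)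
    have hker : ∀ x : normalizer (T : Set G), φ x = 1 → (x : G) ∈ centralizer (T : Set G) := by
      intro x hx
      have h1 : normalizerMonoidHom T x = 1 := (MulAut.congr ι).injective (hx.trans (map_one _).symm)
      have h2 : x ∈ (normalizerMonoidHom T).ker := h1
      rwa [normalizerMonoidHom_ker, mem_subgroupOf] at h2
    have hne : orderOf (φ ⟨g, hg⟩) ≠ 1 := fun h => hgc (hker _ (orderOf_eq_one_iff.1 h))
    set q := (orderOf (φ ⟨g, hg⟩)).minFac with hq'
    have hq : q.Prime := Nat.minFac_prime hne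
    haveI := Fact.mk hq
    have hqg : q ∣ orderOf g := by
      have := (Nat.minFac_dvd _).trans (orderOf_map_dvd φ (⟨g, hg⟩ : normalizer (T : Set G)))
      rwa [← Subgroup.orderOf_coe] at this
    have hqp : q ≠ p := fun h => hp.ne_one (Nat.eq_one_of_dvd_coprimes hgp (h ▸ hqg) dvd_rfl)
    obtain ⟨n, m, hm, ho⟩ := Nat.exists_eq_pow_mul_and_not_dvd (orderOf_pos g).ne' q hq.ne_one
    have hm0 : m ≠ 0 := fun h => hm (h ▸ dvd_zero q)
    have hg1 : orderOf (g ^ m) = q ^ n := by
      rw [orderOf_pow_of_dvd hm0 (ho ▸ dvd_mul_left _ _), ho, Nat.mul_div_cancel _ (Nat.pos_of_ne_zero hm0)]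
    have hφm : φ (⟨g, hg⟩ ^ m) ≠ 1 := fun h => hm (by
      rw [map_pow] at h
      exact (Nat.minFac_dvd _).trans (orderOf_dvd_of_pow_eq_one h))
    -- `q` divides `p ^ 2 - 1`
    have hq2 : q ∣ p ^ 2 - 1 := by
      obtain ⟨f, hf⟩ := exists_prime_orderOf_dvd_card' (G := MulAut T') q
        ((Nat.minFac_dvd _).trans (orderOf_dvd_natCard _))
      have hψf : orderOf (ψ f) = q := by
        refine orderOf_eq_prime (by rw [← map_pow, ← hf, pow_orderOf_eq_one, map_one]) fun h => ?_
        obtain ⟨i, hi⟩ := IsPGroup.iff_orderOf.1 hψ ⟨f, h⟩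
        rw [← Subgroup.orderOf_coe] at hi
        change orderOf f = p ^ i at hi
        rw [hf] at hi
        exact hqp ((Nat.prime_dvd_prime_iff_eq hq hp).1 (hq.dvd_of_dvd_pow (dvd_of_eq hi)))
      have hcard := hψf ▸ orderOf_dvd_natCard (ψ f)
      rw [Matrix.card_GL_field, ZMod.card] at hcard
      obtain ⟨i, -, hi⟩ := (hq.prime.dvd_finsetProd_iff _).1 hcard
      obtain ⟨i, hilt⟩ := i
      have hsq : p ^ 2 - 1 = (p + 1) * (p - 1) := by
        rw [show p ^ 2 - 1 = p ^ 2 - 1 ^ 2 by rw [one_pow], Nat.sq_sub_sq]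
      simp only at hi
      rcases (show (r = 1 ∧ i = 0) ∨ (r = 2 ∧ i = 0) ∨ (r = 2 ∧ i = 1) by omega) with
        ⟨rfl, rfl⟩ | ⟨rfl, rfl⟩ | ⟨rfl, rfl⟩
      · rw [hsq]; exact Dvd.dvd.mul_left (by simpa using hi) _
      · rwa [pow_zero] at hi
      · rw [pow_one, sq, ← Nat.mul_sub_one] at hi
        rw [hsq]
        exact Dvd.dvd.mul_left ((hq.dvd_mul.1 hi).resolve_left fun h =>
          hqp ((Nat.prime_dvd_prime_iff_eq hq hp).1 h)) _
    -- the element is outside `O_{p',p}`
    have hgK : g ^ m ∉ K := by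
      intro hK'
      have hO' : g ^ m ∈ O := by
        have h1 : QuotientGroup.mk' O (g ^ m) ∈ Cfsg.pCore p (G ⧸ O) := hK'
        obtain ⟨k, hk⟩ := IsPGroup.iff_orderOf.1 (CfsgLib.Solvable.isPGroup_pCore (G := G ⧸ O) p) ⟨_, h1⟩
        rw [← Subgroup.orderOf_coe] at hk
        refine (QuotientGroup.eq_one_iff _).1 (orderOf_eq_one_iff.1 (Nat.eq_one_of_dvd_coprimes
          (Nat.Coprime.pow n k ((Nat.coprime_primes hq hp).2 hqp)) (hg1 ▸ orderOf_map_dvd (QuotientGroup.mk' O) (g ^ m)) (dvd_of_eq hk)))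
      refine hφm ?_
      have hc : g ^ m ∈ centralizer (T : Set G) := by
        refine mem_centralizer_iff.2 fun t ht => ?_
        have h1 : t * g ^ m * t⁻¹ * (g ^ m)⁻¹ = 1 := by
          have hT' : t * g ^ m * t⁻¹ * (g ^ m)⁻¹ ∈ T := by
            rw [mul_assoc t, mul_assoc t]
            exact mul_mem ht ((mem_normalizer_iff.1 (pow_mem hg m) _).1 (inv_mem ht))
          have hO2 : t * g ^ m * t⁻¹ * (g ^ m)⁻¹ ∈ O :=
            mul_mem ((inferInstance : O.Normal).conj_mem _ hO' t) (inv_mem hO')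
          obtain ⟨k, hk⟩ := IsPGroup.iff_orderOf.1 hT ⟨_, hT'⟩
          rw [← Subgroup.orderOf_coe] at hk
          refine orderOf_eq_one_iff.1 (Nat.eq_one_of_dvd_coprimes
            ((CfsgLib.Solvable.coprime_card_pPrimeCore (G := G) p).pow_right k) ?_ (dvd_of_eq hk))
          have := orderOf_dvd_natCard (⟨_, hO2⟩ : O)
          rwa [← Subgroup.orderOf_coe] at this
        exact mul_inv_eq_iff_eq_mul.1 (mul_inv_eq_one.1 h1)
      have h2 : (⟨g, hg⟩ ^ m : normalizer (T : Set G)) ∈ (normalizerMonoidHom T).ker := by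
        rw [normalizerMonoidHom_ker, mem_subgroupOf]; exact hc
      show (MulAut.congr ι) (normalizerMonoidHom T (⟨g, hg⟩ ^ m)) = 1
      rw [MonoidHom.mem_ker.1 h2, map_one]
    have hdvd : q ∣ Nat.card (G ⧸ K) := by
      obtain ⟨i, -, hi⟩ := (Nat.dvd_prime_pow hq).1
        (hg1 ▸ orderOf_map_dvd (QuotientGroup.mk' K) (g ^ m))
      rcases Nat.eq_zero_or_pos i with rfl | hipos
      · exact absurd ((QuotientGroup.eq_one_iff (g ^ m)).1 (orderOf_eq_one_iff.1 (by rwa [pow_zero] at hi))) hgK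
      · exact (dvd_pow_self q hipos.ne').trans (hi ▸ orderOf_dvd_natCard _)
    exact hq.ne_one (Nat.eq_one_of_dvd_coprimes hco hdvd hq2)

end Cfsg.Agent.S4419
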