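import Cfsg.Statements.S0330
import Cfsg.Agent.Suzuki.Sylow
-- import your own Cfsg.Agent.* helpers here

set_option autoImplicit false
open Cfsg

namespace Cfsg.Agent.S0330

/-- A Sylow 2-subgroup `P` of the Suzuki group (field with `q = 2^(2m+1)` elements, `m ≥ 1`) has order `q²` and
exponent `4`; its centre coincides with its commutator subgroup and has order `q`. -/
theorem result {F : Type*} [Field F] [Fintype F] {m : ℕ} (hm : 1 ≤ m)
    (hF : Fintype.card F = 2 ^ (2 * m + 1)) (P : Sylow 2 (Cfsg.Sz F m)) :
    Nat.card P = (2 ^ (2 * m + 1)) ^ 2 ∧ Monoid.exponent P = 4 ∧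
      Subgroup.center P = commutator P ∧ Nat.card (Subgroup.center P) = 2 ^ (2 * m + 1) := by
  have h := CfsgLib.Suzuki.isSzField_of_card hm hF
  obtain ⟨c, hc⟩ := CfsgLib.Suzuki.sylow_eq_conj h P
  let e : CfsgLib.Suzuki.unip h ≃* P :=
    ((CfsgLib.Suzuki.unip h).equivMapOfInjective (MulAut.conj c).toMonoidHom
      (MulAut.conj c).injective).trans (MulEquiv.subgroupCongr hc.symm)
  have hcen : (Subgroup.center (CfsgLib.Suzuki.unip h)).map e.toMonoidHom = Subgroup.center P := by
    ext x
    constructor
    · rintro ⟨u, hu, rfl⟩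
      refine Subgroup.mem_center_iff.2 fun y => ?_
      have := congrArg e (Subgroup.mem_center_iff.1 hu (e.symm y))
      simpa using this
    · intro hx
      refine ⟨e.symm x, Subgroup.mem_center_iff.2 fun y => e.injective ?_, e.apply_symm_apply x⟩
      simpa using Subgroup.mem_center_iff.1 hx (e y)
  have hcom : (commutator (CfsgLib.Suzuki.unip h)).map e.toMonoidHom = commutator P := by
    rw [commutator_def, commutator_def, Subgroup.map_commutator,
      Subgroup.map_top_of_surjective _ e.surjective]
  refine ⟨?_, ?_, ?_, ?_⟩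
  · rw [← Nat.card_congr e.toEquiv, CfsgLib.Suzuki.card_unip, h.card]
  · rw [← Monoid.exponent_eq_of_mulEquiv e, CfsgLib.Suzuki.exponent_unip]
  · rw [← hcen, ← hcom, CfsgLib.Suzuki.commutator_unip]
  · rw [← hcen, Subgroup.card_map_of_injective e.injective, CfsgLib.Suzuki.card_center_unip, h.card]

end Cfsg.Agent.S0330
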