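import Cfsg.Statements.S1141
import Cfsg.Agent.SUThreeSylowAut.Existence
import Cfsg.Agent.SUThreeSylowAut.Suzuki
import Cfsg.Agent.AlphaRho.Models

set_option autoImplicit false
open Cfsg

namespace Cfsg.Agent.S1141

/-- Let `q = 2^n ≥ 4` and `|F| = q²`. A Sylow 2-subgroup `S` of `PSU₃(q)` has order `q³`, its centre has order `q`, and `S` is a Suzuki 2-group. -/
theorem result {F : Type*} [Field F] [Fintype F] {n : ℕ} (hn : 2 ≤ n)
    (hF : Fintype.card F = (2 ^ n) ^ 2) (S : Sylow 2 (Cfsg.PSU 3 F (2 ^ n))) :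
    Nat.card S = (2 ^ n) ^ 3 ∧ Nat.card (Subgroup.center ↥(S : Subgroup (Cfsg.PSU 3 F (2 ^ n)))) = 2 ^ n ∧
      Cfsg.IsSuzukiTwoGroup ↥(S : Subgroup (Cfsg.PSU 3 F (2 ^ n))) := by
  classical
  haveI : Fact (Nat.Prime 2) := ⟨Nat.prime_two⟩
  haveI : CharP F 2 := by
    obtain ⟨r, hr⟩ := CharP.exists F
    haveI := hr
    obtain ⟨k, hrp, hcc⟩ := FiniteField.card F r
    rw [hF, ← pow_mul] at hcc
    have hd : r ∣ 2 ^ (n * 2) := hcc ▸ dvd_pow_self r k.ne_zero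
    exact (Nat.prime_dvd_prime_iff_eq hrp Nat.prime_two).1 (hrp.dvd_of_dvd_pow hd) ▸ hr
  have hF' : Nat.card F = (2 ^ n) ^ 2 := by rw [Nat.card_eq_fintype_card, hF]
  have hn' : n ≠ 0 := by omega
  obtain ⟨P⟩ := (inferInstance : Nonempty (Sylow 2 (Cfsg.SU 3 F (2 ^ n))))
  obtain ⟨e⟩ := CfsgLib.AlphaRho.psu_sylow_equiv hF' hn' rfl P S
  obtain ⟨M₀⟩ := CfsgLib.SUThreeSylowAut.nonempty_model hF' hn' rfl P
  exact CfsgLib.SUThreeSylowAut.suzuki hF' hn rfl (M₀.pull e)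

end Cfsg.Agent.S1141
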