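import Cfsg.Statements.S2879
import Cfsg.Agent.Invol.QuasiDihedral
import Cfsg.Agent.KGroup.DihedralAut
import Cfsg.Agent.Transfer.QuaternionSection
import Cfsg.Agent.Solvable.Fitting
import Cfsg.Agent.Invol.AutomizerSix

set_option autoImplicit false
set_option linter.style.haveILetI false
set_option linter.deprecated false
open Cfsg

namespace Cfsg.Agent.S2879

open Subgroup CfsgLib.KnownB CfsgLib.QSection

variable {G : Type*} [Group G] [Finite G]

/-- A quaternion group of order 8 with a faithfully acting element of order 3. -/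
theorem sup_iso (Q : Subgroup G) (e : Q ≃* QuaternionGroup 2) (g : G)
    (hg : g ∈ normalizer (Q : Set G)) (ho : orderOf g = 3) (hgC : g ∉ centralizer (Q : Set G)) :
    Nonempty (↥(Q ⊔ zpowers g) ≃* SL23) := by
  set φ : zpowers g →* MulAut Q :=
    (normalizerMonoidHom Q).comp (inclusion (zpowers_le.2 hg))
  set γ : zpowers g := ⟨g, mem_zpowers g⟩
  set θ : MulAut Q := φ γ
  have hgen : ∀ c : zpowers g, c ∈ zpowers γ := by
    rintro ⟨c, hc⟩
    obtain ⟨i, rfl⟩ := mem_zpowers_iff.1 hc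
    exact mem_zpowers_iff.2 ⟨i, Subtype.ext (by simp [γ])⟩
  have hγ3 : γ ^ 3 = 1 := Subtype.ext (by simp [γ, ← ho, pow_orderOf_eq_one])
  have hθ3 : θ ^ 3 = 1 := by rw [← map_pow, hγ3, map_one]
  have hθ : ∀ x : Q, (θ x : G) = g * x * g⁻¹ := fun _ => rfl
  have hθ1 : θ ≠ 1 := fun h => hgC (mem_centralizer_iff.2 fun q hq => by
    have := congrArg (fun e : MulAut Q => (e ⟨q, hq⟩ : G)) h
    simp only [hθ, MulAut.one_apply] at this
    calc q * g = g * q * g⁻¹ * g := by rw [this]
      _ = g * q := by group)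
  set θ' : MulAut (QuaternionGroup 2) := MulAut.congr e θ
  obtain ⟨t, ht3, ht1, htθ⟩ := realised θ' (by rw [← map_pow, hθ3, map_one])
    (fun h => hθ1 ((MulAut.congr e).injective (h.trans (map_one _).symm)))
  have hot : orderOf t = 3 := orderOf_eq_prime ht3 ht1
  have hoγ : orderOf γ = 3 := by rw [← Subgroup.orderOf_coe]; exact ho
  set τ : zpowers g →* SL23 :=
    monoidHomOfForallMemZpowers hgen (g' := t) (by rw [hot, hoγ])
  have hτ : τ γ = t := monoidHomOfForallMemZpowers_apply_gen hgen _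
  set ψ : Q →* SL23 := (MonoidHom.mk' qFun qFun_mul).comp e.toMonoidHom with hψ
  have hψθ : ∀ x, ψ (θ x) = t * ψ x * t⁻¹ := fun x => by
    simpa [hψ, θ', MulAut.congr] using htθ (e x)
  set π : Q ⋊[φ] zpowers g →* G :=
    SemidirectProduct.lift Q.subtype (zpowers g).subtype (fun c => MonoidHom.ext fun x => rfl)
  set ρ : Q ⋊[φ] zpowers g →* SL23 := SemidirectProduct.lift ψ τ (fun c => by
    obtain ⟨i, rfl⟩ := mem_zpowers_iff.1 (hgen c)
    refine MonoidHom.ext fun x => ?_
    rw [map_zpow, map_zpow, hτ]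
    exact zpow_intertwine θ ψ t hψθ i x)
  have hπr : π.range = Q ⊔ zpowers g := by
    refine le_antisymm ?_ (sup_le (fun q hq => ⟨SemidirectProduct.inl ⟨q, hq⟩, by simp [π]⟩)
      (fun c hc => ⟨SemidirectProduct.inr ⟨c, hc⟩, by simp [π]⟩))
    rintro _ ⟨a, rfl⟩
    exact mul_mem (mem_sup_left a.left.2) (mem_sup_right a.right.2)
  have hc8 : Nat.card Q = 8 := by
    rw [Nat.card_congr e.toEquiv, Nat.card_eq_fintype_card, QuaternionGroup.card]
  have hπi : Function.Injective π := by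
    refine (injective_iff_map_eq_one _).2 fun a ha => ?_
    have h1 : (a.left : G) * (a.right : G) = 1 := ha
    have hd : Disjoint Q (zpowers g) := disjoint_iff.2 (inf_eq_bot_of_coprime (by
      rw [hc8, Nat.card_zpowers, ho]; norm_num))
    have h2 : (a.left : G) = 1 := disjoint_def.1 hd a.left.2 (by
      rw [eq_inv_of_mul_eq_one_left h1]; exact inv_mem a.right.2)
    rw [h2, one_mul] at h1
    exact SemidirectProduct.ext (Subtype.ext h2) (Subtype.ext h1)
  have hρi : Function.Injective ρ := by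
    refine (injective_iff_map_eq_one _).2 fun a ha => ?_
    obtain ⟨i, hi⟩ := mem_zpowers_iff.1 (hgen a.right)
    have h1 : qFun (e a.left) * t ^ i = 1 := by
      rw [← hτ, ← map_zpow, hi]; exact ha
    have h2 : t ^ i = qFun (e a.left)⁻¹ := by
      rw [eq_inv_of_mul_eq_one_right h1]
      exact (map_inv (MonoidHom.mk' qFun qFun_mul) _).symm
    have h30 : i % ((3 : ℕ) : ℤ) = 0 := by
      rcases (show i % (3 : ℕ) = 0 ∨ i % (3 : ℕ) = 1 ∨ i % (3 : ℕ) = 2 by omega) with h | h | h
      · exact h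
      all_goals rw [← zpow_mod_orderOf, hot, h] at h2
      · exact absurd (by simpa using h2.symm) (qFun_ne (e a.left)⁻¹ t ht3 ht1).1
      · exact absurd (by simpa [zpow_ofNat] using h2.symm) (qFun_ne (e a.left)⁻¹ t ht3 ht1).2
    have hr : a.right = 1 := by
      rw [← hi, ← zpow_mod_orderOf, hoγ, h30, zpow_zero]
    have ht0 : t ^ i = 1 := by rw [← zpow_mod_orderOf, hot, h30, zpow_zero]
    rw [ht0, mul_one] at h1
    refine SemidirectProduct.ext (e.injective (qFun_inj _ _ ?_)) hr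
    rw [h1, SemidirectProduct.one_left, map_one]
    exact (map_one (MonoidHom.mk' qFun qFun_mul)).symm
  have hρb : Function.Bijective ρ := (Nat.bijective_iff_injective_and_card _).2 ⟨hρi, by
    rw [SemidirectProduct.card, hc8, Nat.card_zpowers, ho, card_SL23]⟩
  exact ⟨((MonoidHom.ofInjective hπi).trans (MulEquiv.subgroupCongr hπr)).symm.trans
    (MulEquiv.ofBijective ρ hρb)⟩

/-- An element of odd order normalizing a 2-group `Q` with a cyclic normal subgroup `R` and
fixing an element of `R` whose centralizer in `Q` is `R` centralizes `Q`. -/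
theorem centralizes_of_cyclic {Q R : Subgroup G} (hQ : IsPGroup 2 Q) (hRQ : R ≤ Q) [IsCyclic R]
    (hR : ∀ g ∈ Q, ∀ r ∈ R, g * r * g⁻¹ ∈ R) {c : G} (hc : c ∈ R)
    (hcR : ∀ g ∈ Q, g * c * g⁻¹ = c → g ∈ R) {y : G} (hy : y ∈ normalizer (Q : Set G))
    (ho : Odd (orderOf y)) (hyR : ∀ r ∈ R, y * r * y⁻¹ ∈ R) : y ∈ centralizer (Q : Set G) := by
  have hfix : ∀ r ∈ R, y * r * y⁻¹ = r := fun r hr => by
    obtain ⟨⟨r₀, hr₀⟩, hgen⟩ := IsCyclic.exists_generator (α := R)
    obtain ⟨k, hk⟩ := mem_zpowers_iff.1 (hgen ⟨_, hyR r₀ hr₀⟩)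
    obtain ⟨e, he⟩ := hQ ⟨r₀, hRQ hr₀⟩
    have h0 := CfsgLib.DihedralAut.fixes_of_power ho (k := k)
      (by simpa using (congrArg Subtype.val hk).symm) (e := e) (by simpa using congrArg Subtype.val he)
    obtain ⟨i, hi⟩ := mem_zpowers_iff.1 (hgen ⟨r, hr⟩)
    rw [show r = r₀ ^ i by simpa using (congrArg Subtype.val hi).symm, ← conj_zpow, h0]
  refine mem_centralizer_iff.2 fun g hg => ?_
  set g' := y * g * y⁻¹ with hg'
  have hg'Q : g' ∈ Q := (mem_normalizer_iff.1 hy g).1 hg
  set d := g⁻¹ * g' with hd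
  have hdR : d ∈ R := by
    refine hcR d (mul_mem (inv_mem hg) hg'Q) ?_
    have h1 : g' * c * g'⁻¹ = g * c * g⁻¹ := by
      calc g' * c * g'⁻¹ = y * (g * (y⁻¹ * c * y) * g⁻¹) * y⁻¹ := by rw [hg']; group
        _ = y * (g * c * g⁻¹) * y⁻¹ := by
            rw [show y⁻¹ * c * y = c by
              calc y⁻¹ * c * y = y⁻¹ * (y * c * y⁻¹) * y := by rw [hfix c hc]
                _ = c := by group]
        _ = g * c * g⁻¹ := hfix _ (hR g hg c hc)
    calc d * c * d⁻¹ = g⁻¹ * (g' * c * g'⁻¹) * g := by rw [hd]; group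
      _ = c := by rw [h1]; group
  obtain ⟨f, hf⟩ := hQ ⟨d, hRQ hdR⟩
  have h := CfsgLib.DihedralAut.fixes_of_drift ho (x := g) (d := d)
    (by rw [hd, mul_inv_cancel_left]) (hfix d hdR) (by simpa using congrArg Subtype.val hf)
  calc g * y = y * g * y⁻¹ * y := by rw [h]
    _ = y * g := by group

theorem result' (hsol : IsSolvable G) (hO : Cfsg.oddCore G = ⊥) (T : Sylow 2 G)
    (hT : (∃ n : ℕ, 4 ≤ n ∧ Nonempty (↥(T : Subgroup G) ≃* DihedralGroup n)) ∨
      Cfsg.IsQuasiDihedral ↥(T : Subgroup G))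
    (hne : (T : Subgroup G) ≠ ⊤)
    (hZ : ((T : Subgroup G) ⊓ Subgroup.centralizer ((T : Subgroup G) : Set G)).Normal) :
    ∃ U : Subgroup G, U.Normal ∧ Nonempty (↥U ≃* SL23) := by
  haveI : Fact (Nat.Prime 2) := ⟨Nat.prime_two⟩
  haveI : Group.IsSolvable G := hsol
  set Q := Cfsg.pCore 2 G with hQdef
  have hQp : IsPGroup 2 Q := CfsgLib.Solvable.isPGroup_pCore 2
  haveI hQn : Q.Normal := (CfsgLib.Solvable.pCore_spec 2).1
  have hQT : Q ≤ (T : Subgroup G) := CfsgLib.Fitting.pCore_le_sylow T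
  have hCQ : centralizer (Q : Set G) ≤ Q := CfsgLib.Fitting.centralizer_pCore_le hO
  have hN : ∀ g : G, g ∈ normalizer (Q : Set G) := fun g => by
    rw [normalizer_eq_top]; trivial
  -- an element of odd prime order
  obtain ⟨x, ⟨r, hr, hr2, hxr⟩⟩ : ∃ x : G, ∃ r : ℕ, r.Prime ∧ r ≠ 2 ∧ orderOf x = r := by
    have h : ¬ ∀ r, r.Prime → r ∣ Nat.card G → r = 2 := fun h => by
      apply hne
      have hp : IsPGroup 2 (⊤ : Subgroup G) := (IsPGroup.of_card (n := (Nat.card G).primeFactorsList.length)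
        (Nat.eq_prime_pow_of_unique_prime_dvd Nat.card_pos.ne' fun {d} => h d)).to_subgroup ⊤
      exact (T.3 hp le_top).symm
    push Not at h
    obtain ⟨r, hr, hrd, hr2⟩ := h
    haveI := Fact.mk hr
    obtain ⟨x, hx⟩ := exists_prime_orderOf_dvd_card' r hrd
    exact ⟨x, r, hr, hr2, hx⟩
  have hxodd : Odd (orderOf x) := by rw [hxr]; exact hr.odd_of_ne_two hr2
  have hxC : ∀ y : G, Odd (orderOf y) → y ≠ 1 → y ∉ centralizer (Q : Set G) := fun y hy hy1 h => by
    obtain ⟨k, hk⟩ := hQp ⟨y, hCQ h⟩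
    have h1 : orderOf y ∣ 2 ^ k := orderOf_dvd_of_pow_eq_one (by simpa using congrArg Subtype.val hk)
    exact hy1 (orderOf_eq_one_iff.1 (Nat.eq_one_of_dvd_coprimes
      ((Nat.coprime_two_right.2 hy).pow_right k) dvd_rfl h1))
  have hx1 : x ≠ 1 := fun h => by rw [h, orderOf_one] at hxr; exact hr.ne_one hxr.symm
  -- the central involution
  set Z := (T : Subgroup G) ⊓ centralizer ((T : Subgroup G) : Set G) with hZdef
  haveI : Nontrivial (T : Subgroup G) := by
    rcases hT with ⟨n, hn, ⟨e⟩⟩ | h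
    · exact e.toEquiv.nontrivial
    · obtain ⟨D⟩ := CfsgLib.QD.exists_data h
      exact ⟨D.x, 1, D.x_ne_one⟩
  have hZc : Z = (center (T : Subgroup G)).map (T : Subgroup G).subtype := by
    ext g
    simp only [hZdef, mem_inf, mem_centralizer_iff, mem_map, mem_center_iff, coe_subtype]
    exact ⟨fun h => ⟨⟨g, h.1⟩, fun a => Subtype.ext (h.2 a a.2), rfl⟩, by
      rintro ⟨a, ha, rfl⟩
      exact ⟨a.2, fun b hb => congrArg Subtype.val (ha ⟨b, hb⟩)⟩⟩
  have hzu : ∀ a b : center (T : Subgroup G), a ≠ 1 → b ≠ 1 → a = b := by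
    intro a b ha hb
    rcases hT with ⟨n, hn, ⟨e⟩⟩ | h
    · haveI : NeZero n := ⟨by omega⟩
      have key : ∀ c ∈ center (DihedralGroup n), c ≠ 1 →
          ∃ i : ZMod n, c = DihedralGroup.r i ∧ 2 * i.val = n := by
        intro c hc hc1
        rcases c with i | i
        · have h1 := mem_center_iff.1 hc (DihedralGroup.sr 0)
          rw [DihedralGroup.sr_mul_r, DihedralGroup.r_mul_sr, DihedralGroup.sr.injEq] at h1
          have h2 : ((2 * i.val : ℕ) : ZMod n) = 0 := by
            push_cast; rw [ZMod.natCast_zmod_val]; linear_combination h1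
          have h3 : i.val ≠ 0 := fun h0 => hc1 (by rw [(ZMod.val_eq_zero i).1 h0]; rfl)
          obtain ⟨m, hm⟩ := (ZMod.natCast_eq_zero_iff _ _).1 h2
          have := ZMod.val_lt i
          refine ⟨i, rfl, ?_⟩
          rcases m with _ | _ | m
          · omega
          · omega
          · nlinarith
        · have h1 := mem_center_iff.1 hc (DihedralGroup.r 1)
          rw [DihedralGroup.sr_mul_r, DihedralGroup.r_mul_sr, DihedralGroup.sr.injEq] at h1
          have h2 : ((2 : ℕ) : ZMod n) = 0 := by push_cast; linear_combination (-1) * h1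
          have := Nat.le_of_dvd two_pos ((ZMod.natCast_eq_zero_iff _ _).1 h2)
          omega
      have hmem : ∀ c : center (T : Subgroup G), e c.1 ∈ center (DihedralGroup n) := fun c =>
        mem_center_iff.2 fun g => by
          rw [← e.apply_symm_apply g, ← map_mul, ← map_mul, mem_center_iff.1 c.2]
      obtain ⟨i, hi, hi'⟩ := key _ (hmem a) (fun h => ha (Subtype.ext (e.injective (h.trans (map_one e).symm))))
      obtain ⟨j, hj, hj'⟩ := key _ (hmem b) (fun h => hb (Subtype.ext (e.injective (h.trans (map_one e).symm))))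
      exact Subtype.ext (e.injective (by rw [hi, hj, ZMod.val_injective n (show i.val = j.val by omega)]))
    · obtain ⟨D⟩ := CfsgLib.QD.exists_data h
      obtain ⟨c, hc, hu⟩ := Nat.card_eq_two_iff' (1 : center (T : Subgroup G)) |>.1 D.card_center
      exact (hu a ha).trans (hu b hb).symm
  have hzQ : Z ≤ Q := CfsgLib.Solvable.le_pCore 2 hZ (T.2.to_le inf_le_left)
  obtain ⟨z, hzZ, hz1, hzc⟩ : ∃ z ∈ Z, z ≠ 1 ∧ ∀ g : G, g * z * g⁻¹ = z := by
    haveI := T.2.center_nontrivial
    obtain ⟨z, hz1⟩ := exists_ne (1 : center (T : Subgroup G))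
    have hzZ : ((z : (T : Subgroup G)) : G) ∈ Z := by rw [hZc]; exact ⟨z, z.2, rfl⟩
    refine ⟨_, hzZ, fun h => hz1 (Subtype.ext (Subtype.ext h)), fun g => ?_⟩
    have hm := hZ.conj_mem _ hzZ g
    rw [hZc] at hm
    obtain ⟨w, hw, hwg⟩ := hm
    have hw1 : (⟨w, hw⟩ : center (T : Subgroup G)) ≠ 1 := fun h => hz1 (Subtype.ext (Subtype.ext (by
      have h' : (w : G) = 1 := congrArg (fun v : center (T : Subgroup G) => ((v : (T : Subgroup G)) : G)) h
      exact conj_eq_one_iff.1 (hwg.symm.trans h'))))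
    rw [← hwg]
    exact congrArg (fun v : center (T : Subgroup G) => ((v : (T : Subgroup G)) : G)) (hzu ⟨w, hw⟩ z hw1 hz1)
  -- odd elements contradict dihedral embeddings
  have hemb : ∀ {n : ℕ} (φ : Q →* DihedralGroup n), ¬ Function.Injective φ := fun φ hφ =>
    hxC x hxodd hx1 (CfsgLib.DihedralAut.mem_centralizer_of_embedding hQp φ hφ (hN x) hxodd (hzQ hzZ) hz1
      (hzc x))
  rcases hT with ⟨n, hn, ⟨e⟩⟩ | hQD
  · exact absurd (e.injective.comp (inclusion_injective hQT)) (hemb (e.toMonoidHom.comp (inclusion hQT)))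
  obtain ⟨D⟩ := CfsgLib.QD.exists_data hQD
  set N := Q.subgroupOf (T : Subgroup G) with hNdef
  haveI : N.Normal := inferInstance
  have hhalf : ¬ N ≤ D.half 0 := fun h => by
    obtain ⟨f⟩ := D.half_zero_dihedral
    set ι : Q →* D.half 0 := (inclusion hQT).codRestrict (D.half 0)
      fun a => h (mem_subgroupOf.2 a.2)
    refine hemb (f.toMonoidHom.comp ι) (f.injective.comp fun a b hab => ?_)
    exact Subtype.ext (congrArg (fun v : D.half 0 => ((v : (T : Subgroup G)) : G)) hab)
  have hq := D.q_pos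
  -- large rotation inside `Q` forces centralization
  have hbig : ∀ a : ℤ, D.x ^ a ∈ N → (a = 1 ∨ (a = 2 ∧ 2 ≤ D.q ∧ N ≤ D.half 1)) → False := by
    intro a ha hcase
    set R := (N ⊓ zpowers D.x).map (T : Subgroup G).subtype
    haveI : IsCyclic ↥(N ⊓ zpowers D.x) := isCyclic_of_le inf_le_right
    haveI : IsCyclic R := (equivMapOfInjective _ _ Subtype.coe_injective).isCyclic.1 inferInstance
    haveI hzn : (zpowers D.x).Normal := Subgroup.normal_of_index_eq_two D.index_rot
    set c : (T : Subgroup G) := D.x ^ a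
    have hco : 4 ≤ orderOf c ∧ ∀ g : (T : Subgroup G), g ∈ N → orderOf g = orderOf c → g ∈ zpowers D.x := by
      rcases hcase with rfl | ⟨rfl, hq2, hN1⟩
      · have hc : orderOf c = 8 * D.q := by simp [c, D.hx]
        refine ⟨by omega, fun g _ hgo => ?_⟩
        rcases D.cases g with ⟨i, rfl⟩ | ⟨i, rfl⟩
        · exact zpow_mem (mem_zpowers _) i
        · exfalso
          by_cases h : 2 ∣ i
          · rw [D.refl_invol_iff.2 h] at hgo; omega
          · rw [D.refl_four_iff.2 h] at hgo; omega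
      · have hc : orderOf c = 4 * D.q := by
          show orderOf (D.x ^ (2 : ℤ)) = _
          rw [zpow_ofNat, orderOf_pow' D.x two_ne_zero, D.hx,
            Nat.gcd_eq_right ⟨4 * D.q, by ring⟩]
          omega
        refine ⟨by omega, fun g _ hgo => ?_⟩
        rcases D.cases g with ⟨i, rfl⟩ | ⟨i, rfl⟩
        · exact zpow_mem (mem_zpowers _) i
        · exfalso
          by_cases h : 2 ∣ i
          · rw [D.refl_invol_iff.2 h] at hgo; omega
          · rw [D.refl_four_iff.2 h] at hgo; omega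
    have hyN : ∀ y : G, ∀ g : (T : Subgroup G), g ∈ N → ∃ g' : (T : Subgroup G), g' ∈ N ∧
        (g' : G) = y * g * y⁻¹ := fun y g hg =>
      ⟨⟨_, hQT (hQn.conj_mem _ (mem_subgroupOf.1 hg) y)⟩,
        mem_subgroupOf.2 (hQn.conj_mem _ (mem_subgroupOf.1 hg) y), rfl⟩
    -- `x` normalizes `⟨c⟩` and hence `R`
    have hxfix : x * (c : G) * x⁻¹ = c := by
      obtain ⟨c', hc'N, hc'⟩ := hyN x c ha
      have hoc : orderOf c' = orderOf c := by
        rw [← Subgroup.orderOf_coe, hc', CfsgLib.Invol.orderOf_conj_eq, Subgroup.orderOf_coe]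
      have hmem : c' ∈ zpowers c := by
        obtain ⟨j, hj⟩ := mem_zpowers_iff.1 (hco.2 c' hc'N hoc)
        rw [← hj]
        rcases hcase with rfl | ⟨rfl, -, -⟩
        · exact ⟨j, by simp [c]⟩
        · have hj2 : (2 : ℤ) ∣ j := by
            have h1 : D.x ^ (j * (4 * (D.q : ℤ))) = D.x ^ (2 * (4 * (D.q : ℤ))) := by
              have hp := pow_orderOf_eq_one c'
              have hc4 : orderOf c = 4 * D.q := by
                show orderOf (D.x ^ (2 : ℤ)) = _
                rw [zpow_ofNat, orderOf_pow' D.x two_ne_zero, D.hx,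
                  Nat.gcd_eq_right ⟨4 * D.q, by ring⟩]
                omega
              have hp' := pow_orderOf_eq_one c
              rw [hoc, hc4, ← zpow_natCast] at hp
              rw [hc4, ← zpow_natCast] at hp'
              push_cast at hp hp'
              simp only [c, ← zpow_mul] at hp'
              rw [hp']
              rw [← hj, ← zpow_mul] at hp
              exact hp
            obtain ⟨m, hm⟩ := D.zpow_eq_iff.1 h1
            exact ⟨1 + m, by
              have := D.q_pos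
              have h2 : (4 * (D.q : ℤ)) * j = (4 * (D.q : ℤ)) * (2 * (1 + m)) := by linarith
              exact mul_left_cancel₀ (by positivity) h2⟩
          obtain ⟨m, rfl⟩ := hj2
          exact ⟨m, by simp [c, zpow_mul]⟩
      obtain ⟨k, hk⟩ := mem_zpowers_iff.1 hmem
      obtain ⟨e, he⟩ := T.2 c
      exact CfsgLib.DihedralAut.fixes_of_power hxodd (k := k)
        (by rw [← hc', ← hk, Subgroup.coe_zpow]) (e := e)
        (by rw [← Subgroup.coe_pow, he, Subgroup.coe_one])
    have hcR : ∀ g : (T : Subgroup G), g * c * g⁻¹ = c → g ∈ zpowers D.x := by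
      intro g hgc
      rcases D.cases g with ⟨i, rfl⟩ | ⟨i, rfl⟩
      · exact zpow_mem (mem_zpowers _) i
      exfalso
      have h1 : D.x ^ ((4 * (D.q : ℤ) - 1) * a) = D.x ^ a := by
        rw [← D.y_conj a]
        calc D.y * D.x ^ a * D.y⁻¹ = (D.x ^ i)⁻¹ * (D.x ^ i * D.y * c * (D.x ^ i * D.y)⁻¹) * D.x ^ i := by
              simp only [c]; group
          _ = D.x ^ a := by rw [hgc]; simp only [c]; group
      obtain ⟨m, hm⟩ := D.zpow_eq_iff.1 h1
      rcases hcase with rfl | ⟨rfl, hq2, -⟩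
      · rcases le_or_gt m 0 with h0 | h0 <;> nlinarith
      · rcases le_or_gt m 0 with h0 | h0
        · nlinarith
        · rcases (show m = 1 ∨ 2 ≤ m by omega) with rfl | h0' <;> nlinarith
    refine hxC x hxodd hx1 (centralizes_of_cyclic (R := R) hQp ?_ ?_ (c := c) ?_ ?_ (hN x) hxodd ?_)
    · rintro _ ⟨v, hv, rfl⟩; exact mem_subgroupOf.1 hv.1
    · rintro g hg _ ⟨v, hv, rfl⟩
      exact ⟨⟨g, hQT hg⟩ * v * ⟨g, hQT hg⟩⁻¹,
        ⟨(inferInstance : N.Normal).conj_mem v hv.1 _, hzn.conj_mem v hv.2 _⟩, rfl⟩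
    · exact ⟨c, ⟨ha, zpow_mem (mem_zpowers _) a⟩, rfl⟩
    · intro g hg hgc
      exact ⟨⟨g, hQT hg⟩, ⟨mem_subgroupOf.2 hg, hcR _ (Subtype.ext hgc)⟩, rfl⟩
    · rintro _ ⟨v, hv, rfl⟩
      obtain ⟨v', hv'N, hv'⟩ := hyN x v hv.1
      refine ⟨v', ⟨hv'N, hcR v' (Subtype.ext ?_)⟩, hv'⟩
      have hvc : (v : G) * c * (v : G)⁻¹ = c := by
        obtain ⟨i, hi⟩ := mem_zpowers_iff.1 hv.2
        rw [← Subgroup.coe_inv, ← Subgroup.coe_mul, ← Subgroup.coe_mul, ← hi]
        congr 1
        simp only [c]; group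
      show (v' : G) * c * (v' : G)⁻¹ = c
      rw [hv']
      calc x * v * x⁻¹ * c * (x * v * x⁻¹)⁻¹
          = x * (v * (x⁻¹ * c * x) * (v : G)⁻¹) * x⁻¹ := by group
        _ = x * ((v : G) * c * (v : G)⁻¹) * x⁻¹ := by
            rw [show x⁻¹ * (c : G) * x = c by
              calc x⁻¹ * (c : G) * x = x⁻¹ * (x * c * x⁻¹) * x := by rw [hxfix]
                _ = c := by group]
        _ = c := by rw [hvc, hxfix]
  -- the shape of `Q`
  have hN1 : N = D.half 1 ∧ D.q = 1 := by
    by_cases htop : N = ⊤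
    · exact (hbig 1 (htop ▸ mem_top _) (Or.inl rfl)).elim
    rcases D.normal_cases htop with hco | hle
    · rcases D.coatom_cases hco with h | h | h
      · refine (hbig 1 ?_ (Or.inl rfl)).elim
        rw [h, zpow_one]; exact mem_zpowers _
      · refine ⟨h, ?_⟩
        by_contra hq1
        exact hbig 2 (h ▸ D.rot_mem_half.2 dvd_rfl) (Or.inr ⟨rfl, by omega, h.le⟩)
      · exact (hhalf h.le).elim
    · exact (hhalf (hle.trans (zpowers_le.2 (D.rot_mem_half.2 dvd_rfl)))).elim
  obtain ⟨hNh, hq1⟩ := hN1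
  obtain ⟨f⟩ := D.half_one_quaternion
  have e : Q ≃* QuaternionGroup 2 := by
    refine ((subgroupOfEquivOfLe hQT).symm.trans (MulEquiv.subgroupCongr hNh)).trans (f.trans ?_)
    rw [hq1]
  have hT16 : Nat.card (T : Subgroup G) = 16 := by rw [D.card_eq, hq1]
  -- the order of `G`
  have h48 : Nat.card G ∣ 48 := by
    have h1 := CfsgLib.AutomizerSix.relIndex_dvd_aut Q
    rw [CfsgLib.AutomizerSix.card_aut_quaternion e, normalizer_eq_top, relIndex_top_right] at h1
    have h2 : Nat.card (centralizer (Q : Set G)) ∣ 2 := by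
      rw [← CfsgLib.AutomizerSix.card_center_quaternion e]
      refine dvd_of_eq (Nat.card_congr
        { toFun := fun c => ⟨⟨c, hCQ c.2⟩, mem_center_iff.2 fun q => Subtype.ext
            (mem_centralizer_iff.1 c.2 q q.2)⟩
          invFun := fun c => ⟨c.1, mem_centralizer_iff.2 fun q hq =>
            congrArg Subtype.val (mem_center_iff.1 c.2 ⟨q, hq⟩)⟩
          left_inv := fun _ => rfl
          right_inv := fun _ => rfl })
    rw [← (centralizer (Q : Set G)).card_mul_index]
    exact (mul_dvd_mul h2 h1).trans (dvd_of_eq (by norm_num))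
  have hr3 : r = 3 := by
    have h1 : r ∣ 2 ^ 4 * 3 := (hxr ▸ orderOf_dvd_natCard x).trans (h48.trans (dvd_of_eq (by norm_num)))
    rcases hr.dvd_mul.1 h1 with h | h
    · exact absurd ((Nat.prime_dvd_prime_iff_eq hr Nat.prime_two).1 (hr.dvd_of_dvd_pow h)) hr2
    · exact (Nat.prime_dvd_prime_iff_eq hr Nat.prime_three).1 h
  subst hr3
  have hG : Nat.card G = 48 := by
    refine Nat.dvd_antisymm h48 ?_
    have h16 : 16 ∣ Nat.card G := hT16 ▸ card_subgroup_dvd_card _
    have h3 : 3 ∣ Nat.card G := hxr ▸ orderOf_dvd_natCard x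
    exact (by norm_num : Nat.Coprime 16 3).mul_dvd_of_dvd_of_dvd h16 h3
  obtain ⟨i⟩ := sup_iso Q e x (hN x) hxr (hxC x hxodd hx1)
  refine ⟨Q ⊔ zpowers x, normal_of_index_eq_two ?_, ⟨i⟩⟩
  have h := (Q ⊔ zpowers x).index_mul_card
  rw [hG, Nat.card_congr i.toEquiv, card_SL23] at h
  omega

/-- Let G be a finite solvable group with O(G) = 1 whose Sylow 2-subgroup T is dihedral of order at least 8 or semidihedral, with G ≠ T and Z(T) normal in G. Then G has a normal subgroup isomorphic to SL₂(3). -/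
theorem result {G : Type*} [Group G] [Finite G] (hsol : IsSolvable G) (hO : Cfsg.oddCore G = ⊥) (T : Sylow 2 G) (hT : (∃ n : ℕ, 4 ≤ n ∧ Nonempty (↥(T : Subgroup G) ≃* DihedralGroup n)) ∨ Cfsg.IsQuasiDihedral ↥(T : Subgroup G)) (hne : (T : Subgroup G) ≠ ⊤) (hZ : ((T : Subgroup G) ⊓ Subgroup.centralizer ((T : Subgroup G) : Set G)).Normal) : ∃ U : Subgroup G, U.Normal ∧ Nonempty (↥U ≃* Matrix.SpecialLinearGroup (Fin 2) (ZMod 3)) := by
  exact result' hsol hO T hT hne hZ

end Cfsg.Agent.S2879
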