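-- Proof of statement S0157.
import Cfsg.Statements.S0157
import Cfsg.Agent.Char.PermChar
import Cfsg.Agent.Char.Constituents
import Mathlib.GroupTheory.GroupAction.MultipleTransitivity

set_option autoImplicit false
open Cfsg

namespace Cfsg.Agent.S0157

/-- For a transitive action of a finite group on a finite set with at least two points: the action is 2-transitive if and only if the function sending g to (number of fixed points of g) − 1 is an irreducible character. -/
theorem result {G : Type*} [Group G] [Finite G] (X : Type*) [MulAction G X] [Finite X] [MulAction.IsPretransitive G X] (hX : 2 ≤ Nat.card X) : Cfsg.IsIrrCharacter G (fun g => (Nat.card (MulAction.fixedBy X g) : ℂ) - 1) ↔ MulAction.IsMultiplyPretransitive G X 2 := by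
  classical
  haveI := Fintype.ofFinite G
  obtain ⟨x₀⟩ : Nonempty X := by
    by_contra h
    rw [not_nonempty_iff] at h
    simp at hX
  haveI := Fintype.ofFinite (MulAction.stabilizer G x₀)
  haveI := Fintype.ofFinite (MulAction.orbitRel.Quotient (MulAction.stabilizer G x₀) X)
  have hπ : (fun g : G => (Nat.card (MulAction.fixedBy X g) : ℂ)) =
      Cfsg.indFun (MulAction.stabilizer G x₀) (fun _ => 1) :=
    (CfsgLib.Char.indFun_one_stabilizer x₀).symm
  have hsub : (fun g : G => (Nat.card (MulAction.fixedBy X g) : ℂ) - 1) =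
      Cfsg.indFun (MulAction.stabilizer G x₀) (fun _ => 1) - fun _ => 1 := by
    rw [← hπ]; rfl
  have hcl := CfsgLib.Char.IsIrrCharacter.isClassFunction (CfsgLib.Char.isIrrCharacter_one (G := G))
  have h1 : Cfsg.classInner (Cfsg.indFun (MulAction.stabilizer G x₀) (fun _ => 1))
      (fun _ : G => (1 : ℂ)) = 1 := by
    rw [CfsgLib.Char.classInner_indFun _ hcl]
    exact CfsgLib.Char.classInner_one_one
  have h2 : Cfsg.classInner (Cfsg.indFun (MulAction.stabilizer G x₀) (fun _ => 1))
      (Cfsg.indFun (MulAction.stabilizer G x₀) (fun _ => 1)) =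
      (Fintype.card (MulAction.orbitRel.Quotient (MulAction.stabilizer G x₀) X) : ℂ) := by
    rw [CfsgLib.Char.classInner_indFun_right (CfsgLib.Char.isClassFunction_indFun _ _), ← hπ,
      show (fun h : MulAction.stabilizer G x₀ => (Nat.card (MulAction.fixedBy X (h : G)) : ℂ)) =
        (fun h : MulAction.stabilizer G x₀ => (Nat.card (MulAction.fixedBy X h) : ℂ)) from rfl,
      CfsgLib.Char.fixedBy_eq_sum_orbits, CfsgLib.Char.classInner_sum_left, Fintype.card,
      ← mul_one (Finset.card _ : ℂ), ← nsmul_eq_mul, ← Finset.sum_const]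
    refine Finset.sum_congr rfl fun q _ => ?_
    haveI := Fintype.ofFinite (MulAction.stabilizer (MulAction.stabilizer G x₀) q.out)
    rw [CfsgLib.Char.permChar, CfsgLib.Char.classInner_indFun _
      (CfsgLib.Char.IsIrrCharacter.isClassFunction CfsgLib.Char.isIrrCharacter_one)]
    exact CfsgLib.Char.classInner_one_one
  have hnorm : Cfsg.classInner
      (Cfsg.indFun (MulAction.stabilizer G x₀) (fun _ => 1) - fun _ => 1)
      (Cfsg.indFun (MulAction.stabilizer G x₀) (fun _ => 1) - fun _ => 1) =
      (Fintype.card (MulAction.orbitRel.Quotient (MulAction.stabilizer G x₀) X) : ℂ) - 1 := by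
    rw [CfsgLib.Char.classInner_sub_left, CfsgLib.Char.classInner_sub_right,
      CfsgLib.Char.classInner_sub_right, h2, h1, CfsgLib.Char.classInner_one_one,
      ← CfsgLib.Char.classInner_conj (Cfsg.indFun (MulAction.stabilizer G x₀) fun _ => (1 : ℂ)), h1,
      map_one]
    ring
  have hirr : Cfsg.IsIrrCharacter G (fun g => (Nat.card (MulAction.fixedBy X g) : ℂ) - 1) ↔
      Fintype.card (MulAction.orbitRel.Quotient (MulAction.stabilizer G x₀) X) = 2 := by
    rw [hsub]
    constructor
    · intro h
      have := CfsgLib.Char.IsIrrCharacter.classInner_self h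
      rw [hnorm, sub_eq_iff_eq_add, show (1 : ℂ) + 1 = ((2 : ℕ) : ℂ) by norm_num] at this
      exact_mod_cast this
    · intro h
      refine CfsgLib.Char.IsCharacter.isIrrCharacter_of_classInner_self
        (CfsgLib.Char.IsCharacter.sub_irr
          (CfsgLib.Char.IsCharacter.indFun CfsgLib.Char.isCharacter_one)
          CfsgLib.Char.isIrrCharacter_one (by rw [h1]; exact one_ne_zero)) ?_
      rw [hnorm, h]
      norm_num
  rw [hirr, MulAction.is_two_pretransitive_iff, ← Nat.card_eq_fintype_card]
  have hsing : ∀ y : X, (Quotient.mk'' y : MulAction.orbitRel.Quotient (MulAction.stabilizer G x₀) X) =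
      Quotient.mk'' x₀ → y = x₀ := fun y hy => by
    obtain ⟨g, hg⟩ := MulAction.orbitRel_apply.1 (Quotient.exact' hy)
    rw [← hg]
    exact g.2
  haveI : Nontrivial X := Finite.one_lt_card_iff_nontrivial.1 (by omega)
  obtain ⟨y₀, hy₀⟩ := exists_ne x₀
  constructor
  · intro hcard a b c d hab hcd
    obtain ⟨g₁, hg₁⟩ := MulAction.exists_smul_eq G a x₀
    obtain ⟨g₂, hg₂⟩ := MulAction.exists_smul_eq G c x₀
    have hb : g₁ • b ≠ x₀ := fun h => hab (MulAction.injective g₁ (hg₁.trans h.symm))
    have hd : g₂ • d ≠ x₀ := fun h => hcd (MulAction.injective g₂ (hg₂.trans h.symm))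
    obtain ⟨u, v, -, huv⟩ := Nat.card_eq_two_iff.1 hcard
    have hmem : ∀ q : MulAction.orbitRel.Quotient (MulAction.stabilizer G x₀) X, q = u ∨ q = v :=
      fun q => by
        have : q ∈ ({u, v} : Set _) := huv ▸ Set.mem_univ q
        simpa using this
    have heq : (Quotient.mk'' (g₂ • d) : MulAction.orbitRel.Quotient (MulAction.stabilizer G x₀) X) =
        Quotient.mk'' (g₁ • b) := by
      have e1 := fun h => hd (hsing (g₂ • d) h)
      have e2 := fun h => hb (hsing (g₁ • b) h)
      rcases hmem (Quotient.mk'' x₀) with h | h <;> rcases hmem (Quotient.mk'' (g₂ • d)) with h' | h' <;>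
        rcases hmem (Quotient.mk'' (g₁ • b)) with h'' | h'' <;>
        first
          | exact h'.trans h''.symm
          | exact absurd (h'.trans h.symm) e1
          | exact absurd (h''.trans h.symm) e2
    obtain ⟨s, hs⟩ := MulAction.orbitRel_apply.1 (Quotient.exact' heq)
    refine ⟨g₂⁻¹ * (s : G) * g₁, ?_, ?_⟩
    · rw [mul_smul, mul_smul, hg₁, s.2, inv_smul_eq_iff, hg₂]
    · rw [mul_smul, mul_smul, inv_smul_eq_iff]
      exact hs
  · intro h2t
    refine Nat.card_eq_two_iff.2 ⟨Quotient.mk'' x₀, Quotient.mk'' y₀, fun h => hy₀ (hsing y₀ h.symm),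
      Set.eq_univ_of_forall fun q => ?_⟩
    induction q using Quotient.inductionOn' with | _ z =>
    by_cases hz : z = x₀
    · exact Or.inl (by rw [hz])
    · obtain ⟨g, hg, hg'⟩ := h2t (Ne.symm hy₀) (Ne.symm hz)
      exact Or.inr (Quotient.sound' (MulAction.orbitRel_apply.2 ⟨⟨g, hg⟩, hg'⟩))

end Cfsg.Agent.S0157
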