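import Cfsg.Statements.S4888
import Cfsg.Agent.Blocks.PrincipalCoeff
import Cfsg.Agent.Char.TwoClass
import Cfsg.Agent.Char.Linear
import Cfsg.Agent.Char.Induction
import Cfsg.Agent.Transfer.Frobenius
import Cfsg.Agent.Transfer.Tate
import Cfsg.Agent.LocalB.Tate

set_option autoImplicit false
open Cfsg

namespace Cfsg.Agent.S4888

open CfsgLib.Block CfsgLib.Block.Chr CfsgLib.Char
open scoped ComplexConjugate commutatorElement

theorem height_zero_iff {G : Type*} [Group G] [Fintype G] {p : ℕ} (hp : p.Prime) {M : Ideal AlgInt}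
    [M.IsPrime] (χ : IrrCharacter G) :
    blockHeight p (principalBlock M G) (χ : G → ℂ) = 0 ↔ ¬ p ∣ charDegree (χ : G → ℂ) := by
  have h0 : sInf ((fun ψ : IrrCharacter G => (charDegree (ψ : G → ℂ)).factorization p) ''
      (principalBlock M G)) = 0 := by
    refine Nat.sInf_eq_zero.2 (Or.inl ⟨oneIrr G, oneIrr_mem_principalBlock, ?_⟩)
    simp [charDegree]
  rw [blockHeight, h0, Nat.sub_zero, Nat.factorization_eq_zero_iff]
  have := (irr_one χ).2
  constructor
  · rintro (h | h | h)
    · exact absurd hp h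
    · exact h
    · omega
  · exact fun h => Or.inr (Or.inl h)

theorem exists_extension {G : Type*} [Group G] [Fintype G] (p : ℕ) [Fact p.Prime]
    (M : Ideal AlgInt) [M.IsPrime] (hM : IsPModular p M)
    (hdeg : ∀ χ : IrrCharacter G, χ ∈ principalBlock M G → ¬ p ∣ charDegree (χ : G → ℂ) →
      charDegree (χ : G → ℂ) = 1)
    (P : Sylow p G) (lam : (P : Subgroup G) →* ℂˣ) :
    ∃ μ : G →* ℂˣ, ∀ x : (P : Subgroup G), μ x = lam x := by
  classical
  let := irrFintype (G := G)
  have hp : p.Prime := Fact.out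
  set B := principalBlock M G with hBdef
  have hB : IsPBlock M B := isPBlock_principalBlock
  set θ := indFun (P : Subgroup G) (fun x => (lam x : ℂ)) with hθ
  -- the value of the block part at the identity
  have h1 : blockPart B θ 1 = θ 1 * blockCoeff B (1 : G) := by
    rw [blockPart_eq_sum, Finset.mul_sum, Finset.sum_eq_single (1 : G)]
    · rw [blockCoeff_eq_sum]; ring
    · intro z _ hz
      by_cases hs : p ∣ orderOf z
      · have h := blockCoeff_eq_zero_of_singular hM hB hs
        rw [blockCoeff_eq_sum] at h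
        rw [mul_left_comm, h, mul_zero]
      · have hzero : θ z = 0 := by
          refine indFun_eq_zero _ fun x hx => hz ?_
          obtain ⟨k, hk⟩ := IsPGroup.iff_orderOf.1 P.2 ⟨_, hx⟩
          rw [← Subgroup.orderOf_coe] at hk
          have ho : orderOf (x⁻¹ * z * x) = orderOf z := by
            have := orderOf_injective (MulAut.conj x⁻¹).toMonoidHom (MulAut.conj x⁻¹).injective z
            simpa using this
          simp only at hk
          rw [ho] at hk
          rcases Nat.eq_zero_or_pos k with rfl | hk0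
          · exact orderOf_eq_one_iff.1 (by simpa using hk)
          · exact absurd (hk ▸ dvd_pow_self p hk0.ne') hs
        rw [hzero, zero_mul, mul_zero]
    · simp
  have hθ1 : θ 1 = ((P : Subgroup G).index : ℂ) := by
    rw [hθ, indFun_one]; simp
  -- the coefficient at the identity is a unit
  have hcoeff : ¬ MemLocalIdeal M (blockCoeff B (1 : G)) := by
    intro hb
    have hR : ¬ MemLocalIdeal M ((Nat.card {y : G // ¬ p ∣ orderOf y}) : ℂ) := by
      rw [Nat.card_eq_fintype_card, Fintype.card_subtype]; exact card_regular_unit hM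
    have hcount : Nat.card {xy : G × G // (∃ k : ℕ, orderOf xy.1 = p ^ k) ∧
        ¬ p ∣ orderOf xy.2 ∧ xy.1 * xy.2 = 1} = 1 := by
      rw [Nat.card_eq_one_iff_unique]
      refine ⟨⟨fun a b => Subtype.ext ?_⟩, ⟨⟨(1, 1), ⟨0, by simp⟩, by simpa using hp.ne_one,
        by simp⟩⟩⟩
      have key : ∀ c : {xy : G × G // (∃ k : ℕ, orderOf xy.1 = p ^ k) ∧
          ¬ p ∣ orderOf xy.2 ∧ xy.1 * xy.2 = 1}, c.1 = (1, 1) := by
        rintro ⟨⟨x, y⟩, ⟨k, hk⟩, hy, hxy⟩
        simp only at hk hy hxy
        obtain rfl := eq_inv_of_mul_eq_one_left hxy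
        rw [orderOf_inv] at hk
        rcases Nat.eq_zero_or_pos k with rfl | hk0
        · rw [pow_zero, orderOf_eq_one_iff] at hk; simp [hk]
        · exact absurd (hk ▸ dvd_pow_self p hk0.ne') hy
      rw [key a, key b]
    have h := principal_coeff_cong hM (g := (1 : G)) (by simpa using hp.ne_one)
    rw [hcount, Nat.cast_one] at h
    have h2 := memLocalIdeal_sub hb h
    rw [sub_sub_cancel] at h2
    have h3 := memLocalIdeal_mul_left (natCast_mem_localRing (M := M)
      (Nat.card {y : G // ¬ p ∣ orderOf y})) h2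
    rw [mul_one_div_cancel (ne_zero_of_not_memLocalIdeal hR)] at h3
    exact not_memLocalIdeal_one h3
  have hidx : ¬ MemLocalIdeal M (((P : Subgroup G).index : ℂ)) := fun h =>
    P.not_dvd_index ((memLocalIdeal_natCast_iff hM).1 h)
  have hlamch : IsCharacter (P : Subgroup G) (fun x => (lam x : ℂ)) :=
    IsIrrCharacter.isCharacter (isIrrCharacter_ofHom lam)
  have hnat : ∀ χ : IrrCharacter G, ∃ n : ℕ, classInner θ (χ : G → ℂ) = (n : ℂ) := fun χ =>
    IsCharacter.exists_classInner_eq_natCast' (CfsgLib.Char.IsCharacter.indFun hlamch) (isCharacter_irr χ)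
  have hexists : ∃ χ ∈ B, ¬ p ∣ charDegree (χ : G → ℂ) ∧ classInner θ (χ : G → ℂ) ≠ 0 := by
    by_contra hne
    push Not at hne
    have hmem : MemLocalIdeal M (blockPart B θ 1) := by
      rw [blockPart_eq_sum_inner]
      refine memLocalIdeal_sum fun χ hχ => ?_
      obtain ⟨n, hn⟩ := hnat χ
      by_cases hd : p ∣ charDegree (χ : G → ℂ)
      · rw [hn, (irr_one χ).1]
        exact memLocalIdeal_mul_left (natCast_mem_localRing n)
          ((memLocalIdeal_natCast_iff hM).2 hd)
      · rw [hne χ (Finset.mem_filter.1 hχ).2 hd, zero_mul]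
        exact memLocalIdeal_zero
    rw [h1, hθ1] at hmem
    exact not_memLocalIdeal_mul (natCast_mem_localRing _) hidx hcoeff hmem
  obtain ⟨χ, hχB, hχd, hχθ⟩ := hexists
  have hχ1 : (χ : G → ℂ) 1 = 1 := by
    rw [(irr_one χ).1, hdeg χ hχB hχd, Nat.cast_one]
  obtain ⟨μ, hμ⟩ := IsCharacter.exists_hom (IsIrrCharacter.isCharacter χ.2) hχ1
  refine ⟨μ, ?_⟩
  rw [hθ, classInner_indFun _ (isClassFunction_irr χ)] at hχθ
  let ψ : (P : Subgroup G) →* ℂˣ := μ.comp (P : Subgroup G).subtype
  have h' := classInner_irr (⟨_, isIrrCharacter_ofHom lam⟩ : IrrCharacter (P : Subgroup G))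
    ⟨_, isIrrCharacter_ofHom ψ⟩
  by_contra hne
  rw [if_neg (fun h => hne fun x => Units.ext (congrFun (congrArg Subtype.val h) x).symm)] at h'
  apply hχθ
  rw [← h']
  simp [hμ, ψ]

/-- Let G be a finite group, p a prime and M a maximal ideal of the algebraic integers containing p. Then all height-zero irreducible characters of the principal p-block of G (equivalently, all its characters of degree prime to p) have the same degree if and only if G has a normal p-complement. -/
theorem result {G : Type*} [Group G] [Finite G] (p : ℕ) [Fact p.Prime] (M : Ideal Cfsg.AlgInt) (hM : Cfsg.IsPModular p M) : (∃ d : ℕ, ∀ χ : Cfsg.IrrCharacter G, χ ∈ (Cfsg.principalBlock M G) → Cfsg.blockHeight p (Cfsg.principalBlock M G) (χ : G → ℂ) = 0 → Cfsg.charDegree (χ : G → ℂ) = d) ↔ Cfsg.HasNormalPComplement p G := by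
  classical
  have := Fintype.ofFinite G
  have : M.IsPrime := hM.2.1.isPrime
  have hp : p.Prime := Fact.out
  constructor
  · rintro ⟨d, hd⟩
    have hd1 : d = 1 := by
      rw [← hd (oneIrr G) oneIrr_mem_principalBlock oneIrr_height_zero]; simp [charDegree]
    obtain ⟨P⟩ : Nonempty (Sylow p G) := inferInstance
    have hext := exists_extension p M hM (fun χ hχ hχd =>
      (hd χ hχ ((height_zero_iff hp χ).2 hχd)).trans hd1) P
    have hfoc : (P : Subgroup G).focalSubgroup ≤
        ⁅(P : Subgroup G), (P : Subgroup G)⁆ := by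
      rw [Subgroup.focalSubgroup_def, Subgroup.closure_le]
      rintro z ⟨hz, x, hx, u, rfl⟩
      have hz' : (⟨_, hz⟩ : (P : Subgroup G)) ∈ commutator (P : Subgroup G) := by
        by_contra hnc
        obtain ⟨lam, hlam⟩ := exists_hom_ne_one hnc
        obtain ⟨μ, hμ⟩ := hext lam
        apply hlam
        rw [← hμ]
        show μ ⁅x, u⁆ = 1
        rw [map_commutatorElement]
        exact commutatorElement_eq_one_iff_commute.2 (Commute.all _ _)
      rw [← Subgroup.map_subtype_commutator]
      exact ⟨_, hz', rfl⟩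
    have hres := CfsgLib.Tate.inf_pResidual_le P (P : Subgroup G) le_rfl
      ((CfsgLib.Fusion.inf_pResidual_le_focal P).trans hfoc)
    have hPbot : Cfsg.pResidual p (P : Subgroup G) = ⊥ := by
      obtain ⟨k, hk⟩ := IsPGroup.iff_card.1 P.2
      refine le_bot_iff.1 (CfsgLib.PResidual.pResidual_le (k := k) ?_)
      rw [Subgroup.index_bot, hk]
    rw [hPbot, Subgroup.map_bot, le_bot_iff] at hres
    rw [CfsgLib.PResidual.hasNormalPComplement_iff]
    refine CfsgLib.PResidual.coprime_of_not_dvd hp fun hdvd => ?_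
    obtain ⟨g, hg⟩ := exists_prime_orderOf_dvd_card' (G := Cfsg.pResidual p G) p hdvd
    have hgp : IsPGroup p (Subgroup.zpowers (g : G)) :=
      IsPGroup.of_card (n := 1) (by rw [Nat.card_zpowers, pow_one, Subgroup.orderOf_coe, hg])
    obtain ⟨Q, hQ⟩ := hgp.exists_le_sylow
    obtain ⟨c, hc⟩ := MulAction.exists_smul_eq G Q P
    have h1 : c * g * c⁻¹ ∈ (P : Subgroup G) := by
      rw [← hc, Sylow.coe_subgroup_smul]
      exact Subgroup.smul_mem_pointwise_smul (g : G) (MulAut.conj c) (Q : Subgroup G)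
        (hQ (Subgroup.mem_zpowers _))
    have h2 : c * g * c⁻¹ ∈ (⊥ : Subgroup G) := by
      rw [← hres]; exact ⟨h1, Subgroup.Normal.conj_mem inferInstance _ g.2 c⟩
    rw [Subgroup.mem_bot, conj_eq_one_iff] at h2
    rw [← Subgroup.orderOf_coe, h2, orderOf_one] at hg
    exact hp.ne_one hg.symm
  · rintro ⟨P, N, hN, hNP⟩
    obtain ⟨hc, k, hk⟩ := CfsgLib.PResidual.card_coprime_of_isComplement' P hNP
    refine ⟨1, fun χ hχ hh => ?_⟩
    have hpd := (height_zero_iff hp χ).1 hh
    have := hN
    rw [principalBlock_of_complement hM N (hp.coprime_iff_not_dvd.1 hc.symm) ⟨k, hk⟩] at hχ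
    obtain ⟨σ, hσ, hχσ⟩ := TwoClass.exists_deflate χ.2 hχ
    have := Fintype.ofFinite (G ⧸ N)
    have hdvd := charDegree_dvd_card (⟨σ, hσ⟩ : IrrCharacter (G ⧸ N))
    rw [← Subgroup.index_eq_card, hk, Nat.dvd_prime_pow hp] at hdvd
    obtain ⟨i, -, hi⟩ := hdvd
    have e : charDegree (χ : G → ℂ) = charDegree σ := by
      simp only [charDegree, hχσ, QuotientGroup.mk_one]
    rw [e, hi] at hpd ⊢
    rcases Nat.eq_zero_or_pos i with rfl | hi0
    · rfl
    · exact absurd (dvd_pow_self p hi0.ne') hpd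

end Cfsg.Agent.S4888
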