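import Cfsg.Statements.S0270
import Cfsg.Agent.Classical.SymplecticSimple
-- import your own Cfsg.Agent.* helpers here

set_option autoImplicit false
open Cfsg

namespace Cfsg.Agent.S0270

/-- PSp_{2m}(q) is simple for m at least 2 and (m, q) other than (2, 2). -/
theorem result {F : Type*} [Field F] [Fintype F] (m : ℕ) (hm : 2 ≤ m) (h : m = 2 → 3 ≤ Fintype.card F) : IsSimpleGroup (Cfsg.PSp m F) := by
  haveI : Nonempty (Fin m) := ⟨⟨0, by omega⟩⟩
  refine CfsgLib.Symp.isSimpleGroup_quot (CfsgLib.Symp.cond_of_finite m ?_)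
  rw [Nat.card_eq_fintype_card]
  rcases Nat.lt_or_ge 2 m with h2 | h2
  · exact Or.inl h2
  · obtain rfl : m = 2 := by omega
    exact Or.inr (Or.inl ⟨rfl, h rfl⟩)

end Cfsg.Agent.S0270
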