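import Cfsg.Statements.S1063
import Cfsg.Agent.Chev.GoodAll
import Cfsg.Agent.Chev.OrdE6

set_option autoImplicit false
open Cfsg

namespace Cfsg.Agent.S1063

/-- `gcd(3, q-1) · |E₆(q)| = q³⁶ (q² - 1)(q⁵ - 1)(q⁶ - 1)(q⁸ - 1)(q⁹ - 1)(q¹² - 1)`. -/
theorem result {F : Type*} [Field F] [Fintype F] {q : ℕ} (hq : Fintype.card F = q) : Nat.gcd 3 (q - 1) * Nat.card ↥(Cfsg.Lie.chevE6.group F) = q ^ 36 * (q ^ 2 - 1) * (q ^ 5 - 1) * (q ^ 6 - 1) * (q ^ 8 - 1) * (q ^ 9 - 1) * (q ^ 12 - 1) := by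
  have G := CfsgLib.Chev.good_E6
  have h := G.card_group_eq (F := F) CfsgLib.Chev.E6Data.levels_ok
  have hd := G.card_diagonal (F := F) CfsgLib.Chev.E6Data.smith_ok
  have hl : CfsgLib.Chev.E6Data.levels.map (fun l => l.2.2) =
    [[0, 1, 2, 3, 4, 4, 5, 5, 6, 6, 7, 7, 8, 8, 8, 9, 9, 10, 10, 11, 11, 12, 12, 13, 14, 15, 16],
      [0, 1, 2, 3, 4, 4, 5, 6, 7, 8],
      [0, 1, 2, 3, 3, 4, 5, 6],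
      [0, 1, 2, 3],
      [0, 1, 2],
      [0, 1]] := rfl
  rw [show (CfsgLib.Chev.E6Data.levels.map fun l =>
      (l.2.2.map fun e => Fintype.card F ^ e).sum) =
    (CfsgLib.Chev.E6Data.levels.map (fun l => l.2.2)).map
      (fun L => (L.map fun e => Fintype.card F ^ e).sum) by rw [List.map_map]; rfl, hl,
    show Cfsg.Lie.chevE6.nroots / 2 = 36 from rfl] at h
  simp only [CfsgLib.Chev.E6Data.smith, List.map_cons, List.map_nil, List.prod_cons,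
    List.prod_nil, List.sum_cons, List.sum_nil, Nat.gcd_one_right, one_mul, mul_one, add_zero,
    show Cfsg.Lie.chevE6.rank = 6 from rfl] at h hd
  rw [hq] at h hd
  have h1 : 1 ≤ q := hq ▸ Fintype.card_pos
  have e2 : 1 ≤ q ^ 2 := Nat.one_le_pow _ _ h1
  have e5 : 1 ≤ q ^ 5 := Nat.one_le_pow _ _ h1
  have e6 : 1 ≤ q ^ 6 := Nat.one_le_pow _ _ h1
  have e8 : 1 ≤ q ^ 8 := Nat.one_le_pow _ _ h1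
  have e9 : 1 ≤ q ^ 9 := Nat.one_le_pow _ _ h1
  have e12 : 1 ≤ q ^ 12 := Nat.one_le_pow _ _ h1
  rw [Nat.gcd_comm] at hd
  zify [h1, e2, e5, e6, e8, e9, e12] at h hd ⊢
  rw [h]
  linear_combination (norm := ring1) ((q : ℤ) ^ 36 * (((q : ℤ) ^ 0 + (q : ℤ) ^ 1 + (q : ℤ) ^ 2 + (q : ℤ) ^ 3 + (q : ℤ) ^ 4 + (q : ℤ) ^ 4 + (q : ℤ) ^ 5 + (q : ℤ) ^ 5 + (q : ℤ) ^ 6 + (q : ℤ) ^ 6 + (q : ℤ) ^ 7 + (q : ℤ) ^ 7 + (q : ℤ) ^ 8 + (q : ℤ) ^ 8 + (q : ℤ) ^ 8 + (q : ℤ) ^ 9 + (q : ℤ) ^ 9 + (q : ℤ) ^ 10 + (q : ℤ) ^ 10 + (q : ℤ) ^ 11 + (q : ℤ) ^ 11 + (q : ℤ) ^ 12 + (q : ℤ) ^ 12 + (q : ℤ) ^ 13 + (q : ℤ) ^ 14 + (q : ℤ) ^ 15 + (q : ℤ) ^ 16) * ((q : ℤ) ^ 0 + (q : ℤ) ^ 1 + (q : ℤ) ^ 2 + (q : ℤ) ^ 3 + (q : ℤ) ^ 4 + (q : ℤ) ^ 4 + (q : ℤ) ^ 5 + (q : ℤ) ^ 6 + (q : ℤ) ^ 7 + (q : ℤ) ^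 8) * ((q : ℤ) ^ 0 + (q : ℤ) ^ 1 + (q : ℤ) ^ 2 + (q : ℤ) ^ 3 + (q : ℤ) ^ 3 + (q : ℤ) ^ 4 + (q : ℤ) ^ 5 + (q : ℤ) ^ 6) * ((q : ℤ) ^ 0 + (q : ℤ) ^ 1 + (q : ℤ) ^ 2 + (q : ℤ) ^ 3) * ((q : ℤ) ^ 0 + (q : ℤ) ^ 1 + (q : ℤ) ^ 2) * ((q : ℤ) ^ 0 + (q : ℤ) ^ 1))) * hd

end Cfsg.Agent.S1063
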