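import Cfsg.Statements.S2530
import Cfsg.Agent.SpecBlow.CoxeterA
import Mathlib.GroupTheory.Coxeter.Basic

set_option autoImplicit false
open Cfsg

namespace Cfsg.Agent.S2530

/-- The Coxeter presentation of the symmetric group: for every n, the symmetric group on n+1 letters is the Coxeter group of type A_n with the adjacent transpositions (i, i+1) as simple reflections; that is, it is presented by generators r_1, …, r_n subject to r_i² = 1, (r_i r_j)² = 1 for |i − j| > 1 and (r_i r_{i+1})³ = 1, with r_i mapping to (i, i+1). -/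
theorem result (n : ℕ) :
    ∃ cs : CoxeterSystem (CoxeterMatrix.A n) (Equiv.Perm (Fin (n + 1))), ∀ i : Fin n, cs.simple i = Equiv.swap i.castSucc i.succ := by
  classical
  set M := CoxeterMatrix.A n with hM
  let T : CoxeterSystem M M.Group := M.toCoxeterSystem
  have hMv : ∀ i j : Fin n, M i j = if i = j then 1 else if (j : ℕ) + 1 = i ∨ (i : ℕ) + 1 = j then 3 else 2 :=
    fun i j => rfl
  let a : Fin n → Equiv.Perm (Fin (n + 1)) := fun i => Equiv.swap i.castSucc i.succ
  have hadj : ∀ i : Fin n, CfsgLib.CoxeterA.adj n i.1 = a i := fun i => by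
    rw [CfsgLib.CoxeterA.adj, dif_pos i.2]
  obtain ⟨r1, r2, r3⟩ := CfsgLib.CoxeterA.adj_rel n
  have hlift : M.IsLiftable a := by
    intro i j
    rw [hMv, ← hadj, ← hadj]
    split_ifs with h1 h2
    · subst h1; rw [pow_one, ← pow_two]; exact r1 _ i.2
    · rcases h2 with h2 | h2
      · rw [← h2]
        have h := congrArg (·⁻¹) (r2 j.1 (by omega))
        simp only [inv_one, ← inv_pow, mul_inv_rev] at h
        rwa [inv_eq_of_mul_eq_one_right (by rw [← pow_two]; exact r1 _ (by omega) :
          CfsgLib.CoxeterA.adj n (j.1 + 1) * CfsgLib.CoxeterA.adj n (j.1 + 1) = 1),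
          inv_eq_of_mul_eq_one_right (by rw [← pow_two]; exact r1 _ j.2 :
          CfsgLib.CoxeterA.adj n j.1 * CfsgLib.CoxeterA.adj n j.1 = 1)] at h
      · rw [← h2]; exact r2 i.1 (by omega)
    · push Not at h2
      have hc : Commute (CfsgLib.CoxeterA.adj n i.1) (CfsgLib.CoxeterA.adj n j.1) := by
        rcases Nat.lt_or_ge i.1 j.1 with h | h
        · exact r3 _ _ (by omega) j.2
        · exact (r3 _ _ (by have := Fin.val_ne_of_ne h1; omega) i.2).symm
      rw [hc.mul_pow, r1 _ i.2, r1 _ j.2, one_mul]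
  let s : ℕ → M.Group := fun i => if h : i < n then T.simple ⟨i, h⟩ else 1
  have hs : CfsgLib.CoxeterA.Rel s n := by
    refine ⟨fun i hi => ?_, fun i hi => ?_, fun i j hij hj => ?_⟩
    · simp only [s, dif_pos hi]; exact T.simple_sq _
    · simp only [s, dif_pos hi, dif_pos (show i < n by omega)]
      have := T.simple_mul_simple_pow ⟨i, by omega⟩ ⟨i + 1, hi⟩
      rwa [hMv, if_neg (by simp [Fin.ext_iff]), if_pos (Or.inr rfl)] at this
    · simp only [s, dif_pos hj, dif_pos (show i < n by omega)]
      have := T.simple_mul_simple_pow ⟨i, by omega⟩ ⟨j, hj⟩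
      rw [hMv, if_neg (by simp [Fin.ext_iff]; omega), if_neg (by simp; omega)] at this
      rw [pow_two, mul_eq_one_iff_eq_inv, mul_inv_rev, T.inv_simple, T.inv_simple] at this
      exact this
  obtain ⟨ψ, -, hψ⟩ := CfsgLib.CoxeterA.exists_hom s hs
  let φ : M.Group →* Equiv.Perm (Fin (n + 1)) := T.lift ⟨a, hlift⟩
  have hφ : ∀ i, φ (T.simple i) = a i := fun i => T.lift_apply_simple hlift i
  have hid : ψ.comp φ = MonoidHom.id _ := T.ext_simple fun i => by
    rw [MonoidHom.comp_apply, hφ, ← hadj, hψ _ i.2]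
    simp [s]
  have hinj : Function.Injective φ := fun x y h => by
    rw [show x = ψ (φ x) from (DFunLike.congr_fun hid x).symm, h]
    exact DFunLike.congr_fun hid y
  have hsurj : Function.Surjective φ := fun σ => by
    have hσ : σ ∈ Submonoid.closure (Set.range fun i : Fin n => Equiv.swap i.castSucc i.succ) := by
      rw [Equiv.Perm.mclosure_swap_castSucc_succ]; trivial
    induction hσ using Submonoid.closure_induction with
    | mem x hx => obtain ⟨k, rfl⟩ := hx; exact ⟨T.simple k, hφ k⟩
    | one => exact ⟨1, map_one φ⟩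
    | mul x y _ _ hx hy =>
      obtain ⟨u, rfl⟩ := hx
      obtain ⟨w, rfl⟩ := hy
      exact ⟨u * w, map_mul φ u w⟩
  refine ⟨⟨(MulEquiv.ofBijective φ ⟨hinj, hsurj⟩).symm⟩, fun i => ?_⟩
  exact hφ i

end Cfsg.Agent.S2530
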