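import Cfsg.Statements.S3225
import Mathlib.GroupTheory.Transfer
-- import your own Cfsg.Agent.* helpers here

set_option autoImplicit false
open Cfsg

namespace Cfsg.Agent.S3225

/-- Let G be a finite group of even order with no subgroup of index 2, S a Sylow 2-subgroup of G and M a subgroup of index 2 in S such that, for some n ≥ 1, every element of S outside M has order greater than 2^(n−1). Then every element of S of order 2ⁿ is conjugate in G to an element of M. -/
theorem result {G : Type*} [Group G] [Finite G] (hev : Even (Nat.card G))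
    (hG : ∀ H : Subgroup G, H.index ≠ 2) (S : Sylow 2 G) (M : Subgroup G) (hMS : M ≤ (S : Subgroup G)) (hM : M.relIndex (S : Subgroup G) = 2)
    (n : ℕ) (hn : 1 ≤ n) (hord : ∀ y ∈ (S : Subgroup G), y ∉ M → 2 ^ (n - 1) < orderOf y)
    (x : G) (hx : x ∈ (S : Subgroup G)) (hxn : orderOf x = 2 ^ n) :
    ∃ g : G, g * x * g⁻¹ ∈ M := by
  classical
  haveI : Fact (Nat.Prime 2) := ⟨Nat.prime_two⟩
  by_contra hcon
  push Not at hcon
  set H := (S : Subgroup G)
  set K := M.subgroupOf H with hK
  have hKi : K.index = 2 := hM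
  let ϕ : H →* Multiplicative (ZMod 2) :=
    MonoidHom.mk' (fun s => if s ∈ K then 1 else Multiplicative.ofAdd 1) (by
      intro a b
      have h := Subgroup.mul_mem_iff_of_index_two hKi (a := a) (b := b)
      by_cases ha : a ∈ K <;> by_cases hb : b ∈ K <;> simp [h, ha, hb]
      decide)
  have hϕ : ∀ s : H, ϕ s = if s ∈ K then 1 else Multiplicative.ofAdd 1 := fun s => rfl
  -- the transfer is trivial since there is no subgroup of index two
  have htriv : ϕ.transfer x = 1 := by
    by_contra hne
    apply hG ϕ.transfer.ker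
    rw [Subgroup.index_ker]
    have h2 : Nat.card (Multiplicative (ZMod 2)) = 2 := by
      rw [Nat.card_congr Multiplicative.toAdd, Nat.card_zmod]
    have hd := Subgroup.card_subgroup_dvd_card ϕ.transfer.range
    rw [h2] at hd
    refine ((Nat.dvd_prime Nat.prime_two).mp hd).resolve_left fun h1 => hne ?_
    have : ϕ.transfer x ∈ ϕ.transfer.range := ⟨x, rfl⟩
    rw [Subgroup.card_eq_one.mp h1] at this
    exact Subgroup.mem_bot.mp this
  haveI := Fintype.ofFinite (Quotient (MulAction.orbitRel (Subgroup.zpowers x) (G ⧸ H)))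
  rw [MonoidHom.transfer_eq_prod_quotient_orbitRel_zpowers_quot] at htriv
  set k : Quotient (MulAction.orbitRel (Subgroup.zpowers x) (G ⧸ H)) → ℕ :=
    fun q => Function.minimalPeriod (x • ·) q.out
  have hval : ∀ q, ϕ ⟨q.out.out⁻¹ * x ^ k q * q.out.out,
      QuotientGroup.out_conj_pow_minimalPeriod_mem H x q.out⟩ = Multiplicative.ofAdd (k q : ZMod 2) := by
    intro q
    have hmem : q.out.out⁻¹ * x ^ k q * q.out.out ∈ H :=
      QuotientGroup.out_conj_pow_minimalPeriod_mem H x q.out
    obtain ⟨j, -, hj⟩ : ∃ j ≤ n, k q = 2 ^ j := by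
      refine (Nat.dvd_prime_pow Nat.prime_two).mp ?_
      rw [← MulAction.pow_smul_eq_iff_minimalPeriod_dvd, ← hxn, pow_orderOf_eq_one, one_smul]
    rw [hϕ]
    rcases Nat.eq_zero_or_pos j with rfl | hjp
    · rw [if_neg, hj]
      · simp
      · intro hm
        have := hcon q.out.out⁻¹
        apply this
        have hm' : q.out.out⁻¹ * x ^ k q * q.out.out ∈ M := hm
        rw [hj, pow_zero, pow_one] at hm'
        rwa [inv_inv]
    · rw [if_pos, hj]
      · rw [Nat.cast_pow]
        rw [show ((2 : ℕ) : ZMod 2) = 0 from ZMod.natCast_self 2, zero_pow (by omega)]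
        rfl
      · show q.out.out⁻¹ * x ^ k q * q.out.out ∈ M
        by_contra hm
        have hlt := hord _ hmem hm
        have h1 : (q.out.out⁻¹ * x ^ k q * q.out.out) ^ 2 ^ (n - 1) = 1 := by
          have : q.out.out⁻¹ * x ^ k q * q.out.out = q.out.out⁻¹ * x ^ k q * q.out.out⁻¹⁻¹ := by
            rw [inv_inv]
          rw [this, conj_pow, ← pow_mul, hj, ← pow_add]
          have hd : 2 ^ n ∣ 2 ^ (j + (n - 1)) := pow_dvd_pow 2 (by omega)
          rw [← hxn] at hd
          rw [orderOf_dvd_iff_pow_eq_one.mp hd]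
          simp
        have := Nat.le_of_dvd (Nat.two_pow_pos _) (orderOf_dvd_of_pow_eq_one h1)
        omega
  rw [Finset.prod_congr rfl (fun q _ => hval q), ← ofAdd_sum, ← Nat.cast_sum] at htriv
  have hsum : ∑ q, k q = H.index := by
    haveI : ∀ q, NeZero (k q) := fun q => ⟨by
      intro h0
      have : k q ∣ orderOf x := by
        rw [← MulAction.pow_smul_eq_iff_minimalPeriod_dvd, pow_orderOf_eq_one, one_smul]
      rw [h0, zero_dvd_iff] at this
      exact (orderOf_pos x).ne' this⟩
    rw [Subgroup.index, Nat.card_congr (Subgroup.quotientEquivSigmaZMod H x), Nat.card_sigma]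
    exact Finset.sum_congr rfl fun q _ => (Nat.card_zmod _).symm
  rw [hsum, ← ofAdd_zero, Multiplicative.ofAdd.apply_eq_iff_eq, ZMod.natCast_eq_zero_iff] at htriv
  exact Sylow.not_dvd_index S htriv

end Cfsg.Agent.S3225
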