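import Cfsg.Statements.S0494
import Cfsg.Agent.Dickson.OrderSixty

set_option autoImplicit false
open Cfsg

namespace Cfsg.Agent.S0494

/-- A simple group of order 60 is isomorphic to the alternating group of degree 5. -/
theorem result {G : Type*} [Group G] [Finite G] [IsSimpleGroup G]
    (h : Nat.card G = 60) : Nonempty (G ≃* alternatingGroup (Fin 5)) := by
  haveI : Fact (Nat.Prime 5) := ⟨by norm_num⟩
  obtain ⟨P⟩ : Nonempty (Sylow 5 G) := Sylow.nonempty
  refine CfsgLib.Dickson.OrderSixty.nonempty_mulEquiv h P fun hn => ?_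
  have hP : Nat.card (P : Subgroup G) = 5 ^ 1 := by
    rw [Sylow.card_eq_multiplicity, h]
    congr 1
    rw [show (60 : ℕ) = 12 * 5 by norm_num, Nat.factorization_mul (by norm_num) (by norm_num), Finsupp.add_apply,
      Nat.factorization_eq_zero_of_not_dvd (by norm_num), Nat.Prime.factorization_self (by norm_num)]
  rcases hn.eq_bot_or_eq_top with h1 | h1
  · rw [h1, Subgroup.card_bot] at hP
    norm_num at hP
  · rw [h1, Subgroup.card_top, h] at hP
    norm_num at hP

end Cfsg.Agent.S0494
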