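import Cfsg.Statements.S0985
import Cfsg.Agent.SmallSimple.Basic

set_option autoImplicit false
open Cfsg

namespace Cfsg.Agent.S0985

/-- If the number of Sylow p-subgroups of a finite group is not congruent to 1 modulo p^k, then there are two distinct Sylow p-subgroups P and R such that the index of P ∩ R in P is at most p^(k-1). -/
theorem result {G : Type*} [Group G] [Finite G] (p k : ℕ) [Fact p.Prime] (h : ¬ Nat.card (Sylow p G) ≡ 1 [MOD p ^ k]) : ∃ P R : Sylow p G, P ≠ R ∧ ((R : Subgroup G).subgroupOf (P : Subgroup G)).index ≤ p ^ (k - 1) := by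
  classical
  by_contra hne
  push Not at hne
  apply h
  rcases Nat.eq_zero_or_pos k with rfl | hk
  · rw [pow_zero]; exact Nat.modEq_one
  obtain ⟨P⟩ : Nonempty (Sylow p G) := inferInstance
  haveI := Fintype.ofFinite (Sylow p G)
  haveI := Fintype.ofFinite (MulAction.orbitRel.Quotient (P : Subgroup G) (Sylow p G))
  rw [Nat.card_congr (MulAction.selfEquivSigmaOrbits' (P : Subgroup G) (Sylow p G)), Nat.card_sigma]
  set ω₀ : MulAction.orbitRel.Quotient (P : Subgroup G) (Sylow p G) := Quotient.mk'' P with hω₀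
  rw [← Finset.add_sum_erase _ _ (Finset.mem_univ ω₀)]
  have h0 : Nat.card ω₀.orbit = 1 := by
    rw [hω₀, MulAction.orbitRel.Quotient.orbit_mk, Nat.card_eq_one_iff_unique]
    refine ⟨⟨fun a b => ?_⟩, ⟨⟨P, MulAction.mem_orbit_self P⟩⟩⟩
    have : ∀ a ∈ MulAction.orbit (P : Subgroup G) P, a = P := by
      rintro _ ⟨g, rfl⟩
      exact Sylow.smul_eq_iff_mem_normalizer.mpr (Subgroup.le_normalizer g.2)
    exact Subtype.ext ((this a a.2).trans (this b b.2).symm)
  have hrest : ∀ ω ∈ Finset.univ.erase ω₀, p ^ k ∣ Nat.card ω.orbit := by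
    intro ω hω
    induction ω using Quotient.inductionOn' with
    | h R =>
    have hRP : P ≠ R := fun e => (Finset.mem_erase.mp hω).1 (by rw [hω₀, e])
    rw [MulAction.orbitRel.Quotient.orbit_mk, Nat.card_coe_set_eq, ← MulAction.index_stabilizer]
    have hst : MulAction.stabilizer (P : Subgroup G) R = (R : Subgroup G).subgroupOf (P : Subgroup G) := by
      ext g
      refine ⟨fun hg => ?_, fun hg => Sylow.smul_eq_iff_mem_normalizer.mpr (Subgroup.le_normalizer hg)⟩
      obtain ⟨n, hn⟩ := P.2 g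
      have hn' : (g : G) ^ p ^ n = 1 := by simpa using congrArg Subtype.val hn
      exact CfsgLib.SmallSimple.mem_sylow_of_smul_eq hn' R hg
    rw [hst]
    have hlt := hne P R hRP
    obtain ⟨j, hj⟩ := P.2.index ((R : Subgroup G).subgroupOf (P : Subgroup G))
    rw [hj] at hlt ⊢
    have := (Nat.pow_lt_pow_iff_right (Fact.out : p.Prime).one_lt).mp hlt
    exact pow_dvd_pow p (by omega)
  obtain ⟨m, hm⟩ := Finset.dvd_sum hrest
  rw [h0, hm, Nat.ModEq, Nat.add_mul_mod_self_left]

end Cfsg.Agent.S0985
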