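import Cfsg.Statements.S4293
import Mathlib.RingTheory.Nakayama
import Mathlib.GroupTheory.FiniteAbelian.Basic
import Mathlib.Algebra.CharP.Lemmas
import Mathlib.Algebra.CharP.Algebra
import Cfsg.Agent.Frobenius.Linear

set_option autoImplicit false
set_option linter.style.haveILetI false
open Cfsg

namespace Cfsg.Agent.S4293

/-- Every nontrivial finite subgroup of the unit group of a division ring is a Frobenius complement. -/
theorem result {D : Type*} [DivisionRing D] (H : Subgroup Dˣ) [Finite H] (hH : H ≠ ⊥) :
    ∃ (L : Type) (_ : Group L) (_ : Finite L) (C : Subgroup L), Cfsg.IsFrobeniusComplement C ∧ Nonempty (H ≃* C) := by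
  classical
  haveI : Nontrivial H := (Subgroup.nontrivial_iff_ne_bot H).2 hH
  -- a prime `l` prime to the order of `H`, equal to the characteristic when that is positive
  obtain ⟨l, hl, hlH, hlc⟩ : ∃ l : ℕ, l.Prime ∧ ¬ l ∣ Nat.card H ∧
      ∀ r : ℤ, (r : D) = 0 → (l : ℤ) ∣ r := by
    rcases CharP.char_is_prime_or_zero D (ringChar D) with hp | h0
    · refine ⟨ringChar D, hp, ?_, fun r hr => (CharP.intCast_eq_zero_iff D (ringChar D) r).1 hr⟩
      intro hd
      haveI : Fact (ringChar D).Prime := ⟨hp⟩
      obtain ⟨x, hx⟩ := exists_prime_orderOf_dvd_card' (ringChar D) hd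
      have h1 : (((x : Dˣ) : D) - 1) ^ ringChar D = 0 := by
        rw [sub_pow_char_of_commute (Commute.one_right _) (p := ringChar D), one_pow, sub_eq_zero,
          ← Units.val_pow_eq_pow_val, ← Units.val_one]
        congr 1
        rw [← Subgroup.coe_pow, ← hx, pow_orderOf_eq_one, Subgroup.coe_one]
      have h2 : ((x : Dˣ) : D) = 1 := sub_eq_zero.1 (eq_zero_of_pow_eq_zero h1)
      have h3 : x = 1 := Subtype.ext (Units.ext h2)
      rw [h3, orderOf_one] at hx
      exact hp.ne_one hx.symm
    · haveI : CharZero D := by
        haveI : CharP D 0 := h0 ▸ (ringChar.charP D)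
        exact CharP.charP_to_charZero D
      obtain ⟨l, hl1, hl⟩ := Nat.exists_infinite_primes (Nat.card H + 1)
      refine ⟨l, hl, fun hd => ?_, fun r hr => by rw [Int.cast_eq_zero.1 hr]; exact dvd_zero _⟩
      have := Nat.le_of_dvd Nat.card_pos hd
      omega
  let val : H → D := fun h => ((h : Dˣ) : D)
  set S : Submodule ℤ D := Submodule.span ℤ (Set.range val) with hS
  haveI : Module.Finite ℤ S := Module.Finite.span_of_finite ℤ (Set.finite_range val)
  have hmul : ∀ h : H, ∀ v ∈ S, LinearMap.mulLeft ℤ (val h) v ∈ S := by
    intro h v hv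
    induction hv using Submodule.span_induction with
    | mem x hx =>
      obtain ⟨k, rfl⟩ := hx
      exact Submodule.subset_span ⟨h * k, by simp [val]⟩
    | zero => simp
    | add x y _ _ hx hy => rw [map_add]; exact S.add_mem hx hy
    | smul r x _ hx => rw [map_smul]; exact S.smul_mem r hx
  let act : H → (S →ₗ[ℤ] S) := fun h => (LinearMap.mulLeft ℤ (val h)).restrict (hmul h)
  let T : Submodule ℤ S := LinearMap.range ((l : ℤ) • (LinearMap.id : S →ₗ[ℤ] S))
  have hT : ∀ h : H, T ≤ T.comap (act h) := by
    rintro h _ ⟨v, rfl⟩
    exact ⟨act h v, by simp [map_smul]⟩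
  let ρ : H →* AddMonoid.End (S ⧸ T) :=
    { toFun := fun h => (T.mapQ T (act h) (hT h)).toAddMonoidHom
      map_one' := by
        refine AddMonoidHom.ext fun v => ?_
        induction v using Submodule.Quotient.induction_on with
        | _ v =>
          show Submodule.Quotient.mk (act 1 v) = Submodule.Quotient.mk v
          congr 1
          exact Subtype.ext (by simp [act, val])
      map_mul' := fun a b => by
        refine AddMonoidHom.ext fun v => ?_
        induction v using Submodule.Quotient.induction_on with
        | _ v =>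
          show Submodule.Quotient.mk (act (a * b) v) = Submodule.Quotient.mk (act a (act b v))
          congr 1
          exact Subtype.ext (by simp [act, val, mul_assoc]) }
  haveI : Finite (S ⧸ T) := by
    refine Module.finite_of_fg_torsion (S ⧸ T) fun x => ?_
    induction x using Submodule.Quotient.induction_on with
    | _ v =>
      refine ⟨⟨(l : ℤ), mem_nonZeroDivisors_of_ne_zero (by exact_mod_cast hl.ne_zero)⟩, ?_⟩
      show (l : ℤ) • (Submodule.Quotient.mk v : S ⧸ T) = 0
      rw [← Submodule.Quotient.mk_smul, Submodule.Quotient.mk_eq_zero]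
      exact ⟨v, rfl⟩
  haveI : Nontrivial (S ⧸ T) := by
    refine Submodule.Quotient.nontrivial_iff.2 fun hTop => ?_
    have hle : (⊤ : Submodule ℤ S) ≤ Ideal.span {(l : ℤ)} • (⊤ : Submodule ℤ S) := by
      intro v _
      obtain ⟨w, hw⟩ : v ∈ T := hTop ▸ Submodule.mem_top
      rw [← hw]
      exact Submodule.smul_mem_smul (Ideal.subset_span rfl) Submodule.mem_top
    obtain ⟨r, hr1, hr2⟩ := Submodule.exists_sub_one_mem_and_smul_eq_zero_of_fg_of_le_smul
      (Ideal.span {(l : ℤ)}) (⊤ : Submodule ℤ S) Module.Finite.fg_top hle
    have hone : (1 : D) ∈ S := Submodule.subset_span ⟨1, by simp [val]⟩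
    have hr3 : (r : D) = 0 := by
      have := congrArg Subtype.val (hr2 ⟨1, hone⟩ Submodule.mem_top)
      simpa using this
    rw [Ideal.mem_span_singleton] at hr1
    have h1 : (l : ℤ) ∣ 1 := by
      have := dvd_sub (hlc r hr3) hr1
      simpa using this
    exact hl.ne_one (Nat.dvd_one.1 (Int.natCast_dvd_natCast.1 (by exact_mod_cast h1)))
  obtain ⟨L, hG, hF, C, hC, he, -⟩ := CfsgLib.Frobenius.exists_complement_of_addRep ρ
    (fun h hh x hx => by
      induction x using Submodule.Quotient.induction_on with
      | _ v =>
        have hv : act h v - v ∈ T := (Submodule.Quotient.eq T).1 hx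
        set d := orderOf h with hd
        have hsum : ∑ i ∈ Finset.range d, (val h) ^ i = 0 := by
          have hgs := geom_sum_mul (val h) d
          have hpow : (val h) ^ d = 1 := by
            simp only [val, ← Units.val_pow_eq_pow_val, ← Subgroup.coe_pow, hd, pow_orderOf_eq_one,
              Subgroup.coe_one, Units.val_one]
          rw [hpow, sub_self] at hgs
          refine (mul_eq_zero.1 hgs).resolve_right (sub_ne_zero.2 fun e => hh ?_)
          exact Subtype.ext (Units.ext e)
        have hi : ∀ i : ℕ, act (h ^ i) v - v ∈ T := by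
          intro i
          induction i with
          | zero =>
            have e : act (h ^ 0) v = v := Subtype.ext (by simp [act, val])
            rw [e, sub_self]; exact T.zero_mem
          | succ i ih =>
            have h2 : act h (act (h ^ i) v - v) ∈ T := hT h ih
            have e : act (h ^ (i + 1)) v = act h (act (h ^ i) v) :=
              Subtype.ext (by simp [act, val, pow_succ', mul_assoc])
            rw [map_sub, ← e] at h2
            simpa using T.add_mem h2 hv
        have hs0 : ∑ i ∈ Finset.range d, act (h ^ i) v = 0 := by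
          refine Subtype.ext ?_
          rw [Submodule.coe_sum]
          simp [act, val, ← Finset.sum_mul]
          exact Or.inl hsum
        have hdv : (d : ℤ) • v ∈ T := by
          have h2 : ∑ i ∈ Finset.range d, (act (h ^ i) v - v) ∈ T := T.sum_mem fun i _ => hi i
          rw [Finset.sum_sub_distrib, hs0, Finset.sum_const, Finset.card_range, zero_sub,
            T.neg_mem_iff] at h2
          rwa [natCast_zsmul]
        have hlv : (l : ℤ) • v ∈ T := ⟨v, rfl⟩
        have hco : IsCoprime (l : ℤ) (d : ℤ) := Int.isCoprime_iff_nat_coprime.2 (by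
          simpa using (hl.coprime_iff_not_dvd.2 fun e => hlH (e.trans (orderOf_dvd_natCard h))))
        obtain ⟨a, b, hab⟩ := hco
        rw [Submodule.Quotient.mk_eq_zero, ← one_smul ℤ v, ← hab, add_smul, mul_smul, mul_smul]
        exact T.add_mem (T.smul_mem a hlv) (T.smul_mem b hdv))
  exact ⟨L, hG, hF, C, hC, he⟩

end Cfsg.Agent.S4293
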