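import Cfsg.Statements.S0731
import Cfsg.Agent.Zass.HalfPSL
import Cfsg.Agent.Zass.Sharp
-- import your own Cfsg.Agent.* helpers here

set_option autoImplicit false
open Cfsg
open scoped commutatorElement Pointwise

namespace Cfsg.Agent.S0731

/-- A finite Zassenhaus group whose point stabiliser has an abelian regular normal subgroup on the remaining points is sharply triply transitive or isomorphic to `PSL(2, F)` for a finite field `F` of odd characteristic. -/
theorem result {G Ω : Type*} [Group G] [Finite G] [MulAction G Ω] [Finite Ω] (hZ : Cfsg.IsZassenhausGroup G Ω) (x : Ω) (F : Subgroup G) (hFle : F ≤ MulAction.stabilizer G x) (hFn : (F.subgroupOf (MulAction.stabilizer G x)).Normal) (hFab : IsMulCommutative F) (hreg : ∀ y z : Ω, y ≠ x → z ≠ x → ∃! u : F, (u : G) • y = z) : (MulAction.IsMultiplyPretransitive G Ω 3 ∧ ∀ t : Fin 3 ↪ Ω, MulAction.stabilizer G t = ⊥) ∨ ∃ (K : Type) (_ : Field K) (_ : Fintype K), ringChar K ≠ 2 ∧ Nonempty (G ≃* Matrix.ProjectiveSpecialLinearGroup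 (Fin 2) K) := by
  classical
  haveI := Fintype.ofFinite Ω
  obtain ⟨-, -, a₀, b₀, hab₀, -⟩ := hZ.2.2.2.1
  obtain ⟨y, hy⟩ : ∃ y, y ≠ x := by
    by_contra h
    push Not at h
    exact hab₀ ((h a₀).trans (h b₀).symm)
  obtain ⟨hFcard, hFfix⟩ := CfsgLib.Zass.kernel_of_regular hFle hreg hy
  have hlarge := CfsgLib.Zass.large_of_abelian hZ hy.symm F hFle hFcard hFfix hFab
  have hd := CfsgLib.Char.zass_one_lt_card_pair hZ hy.symm
  set d := Nat.card ↥(MulAction.stabilizer G x ⊓ MulAction.stabilizer G y) with hd'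
  have hdvd : d ∣ Fintype.card Ω - 2 :=
    CfsgLib.Zass.card_pair_dvd_sub_two hZ hy.symm
  have hn := CfsgLib.Char.zassenhaus_three_le hZ
  obtain ⟨k, hk⟩ := hdvd
  have hk2 : k ≤ 2 := by
    by_contra h
    have : d * 3 ≤ d * k := Nat.mul_le_mul_left _ (by omega)
    omega
  interval_cases k
  · omega
  · left
    exact CfsgLib.Zass.sharply_of_full hZ hy.symm (by omega)
  · right
    obtain ⟨K, i1, i2, hc, -, -, he⟩ :=
      CfsgLib.Zass.half_psl hZ hy.symm F hFle hFcard hFfix hFab (by omega)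
    exact ⟨K, i1, i2, hc, he⟩


end Cfsg.Agent.S0731
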