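import Cfsg.Statements.S0071
import Cfsg.Agent.Transfer.Frobenius

set_option autoImplicit false
set_option linter.deprecated false
set_option linter.style.haveILetI false
set_option linter.unusedVariables false
open Cfsg
open scoped Pointwise

namespace Cfsg.Agent.S0071

/-- The Frobenius normal p-complement Theorem states that a Sylow p-subgroup has a normal complement exactly when, for each of its subgroups Q, every element of the normalizer of Q of order prime to p centralizes Q. -/
theorem result {G : Type*} [Group G] [Finite G] {p : ℕ} [Fact p.Prime] (P : Sylow p G) : (∃ N : Subgroup G, N.Normal ∧ N.IsComplement' (P : Subgroup G)) ↔ ∀ Q : Subgroup G, Q ≤ (P : Subgroup G) → ∀ g ∈ Subgroup.normalizer (Q : Set G), Nat.Coprime (orderOf g) p → g ∈ Subgroup.centralizer (Q : Set G) := by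
  constructor
  · rintro ⟨N, hN, hNP⟩ Q hQ g hg hg'
    exact CfsgLib.Fusion.localCondition_of_hasNormalPComplement ⟨P, N, hN, hNP⟩ Q
      (P.2.to_le hQ) g hg hg'
  · intro h
    have hLC : CfsgLib.Fusion.LocalCondition p G := by
      intro Q hQ g hg hg'
      obtain ⟨k, -, hk⟩ := CfsgLib.Fusion.exists_conj_le_of_sylow_relIndex (H := (⊤ : Subgroup G))
        le_top P.2 (by rw [Subgroup.relIndex_top_right]; exact P.not_dvd_index) hQ le_top
      have hg2 : k * g * k⁻¹ ∈ Subgroup.normalizer ((MulAut.conj k • Q : Subgroup G) : Set G) := by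
        rw [← CfsgLib.SZ.conj_smul_eq_iff_mem_normalizer, ← CfsgLib.SZ.conj_smul_mul,
          inv_mul_cancel_right, CfsgLib.SZ.conj_smul_mul,
          CfsgLib.SZ.conj_smul_eq_iff_mem_normalizer.2 hg]
      have h2 := h _ hk _ hg2 (by
        have : orderOf (k * g * k⁻¹) = orderOf g := by
          rw [← MulAut.conj_apply, ← MulEquiv.coe_toMonoidHom,
            orderOf_injective _ (MulEquiv.injective _)]
        rwa [this])
      refine Subgroup.mem_centralizer_iff.2 fun q hq => ?_
      have h3 := Subgroup.mem_centralizer_iff.1 h2 (k * q * k⁻¹) (by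
        rw [SetLike.mem_coe, CfsgLib.SZ.mem_conj_smul]
        simpa [mul_assoc] using hq)
      calc q * g = k⁻¹ * ((k * q * k⁻¹) * (k * g * k⁻¹)) * k := by group
        _ = k⁻¹ * ((k * g * k⁻¹) * (k * q * k⁻¹)) * k := by rw [h3]
        _ = g * q := by group
    exact ⟨_, inferInstance, CfsgLib.PResidual.isComplement'_of_coprime_pResidual
      (CfsgLib.PResidual.hasNormalPComplement_iff.1
        (CfsgLib.Fusion.hasNormalPComplement_of_localCondition hLC)) P⟩


end Cfsg.Agent.S0071
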