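import Cfsg.Statements.S0327
import Cfsg.Agent.Suzuki.Group

set_option autoImplicit false
open Cfsg

namespace Cfsg.Agent.S0327

/-- The Suzuki group (`m ≥ 1`) is a Zassenhaus group on the `q² + 1` points of the Suzuki–Tits ovoid. -/
theorem result {F : Type*} [Field F] [Fintype F] {m : ℕ} (hm : 1 ≤ m)
    (hF : Fintype.card F = 2 ^ (2 * m + 1)) :
    Cfsg.IsZassenhausGroup (Cfsg.Sz F m) (Cfsg.suzukiOvoid F m) := by
  have h := CfsgLib.Suzuki.isSzField_of_card hm hF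
  have := h.finite
  refine ⟨⟨fun {g₁ g₂} hg => ?_⟩, CfsgLib.Suzuki.isMultiplyPretransitive_two h, ?_, ?_, ?_⟩
  · apply inv_mul_eq_one.1
    apply CfsgLib.Suzuki.eq_one_of_fix_ovoid h
    intro p hp
    rw [mul_smul, inv_smul_eq_iff]
    exact (congrArg Subtype.val (hg ⟨p, hp⟩)).symm
  · intro g a b c hab hbc hac ga gb gc
    exact CfsgLib.Suzuki.eq_one_of_fix_three h a.2 b.2 c.2 (fun e => hab (Subtype.ext e))
      (fun e => hac (Subtype.ext e)) (fun e => hbc (Subtype.ext e))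
      (congrArg Subtype.val ga) (congrArg Subtype.val gb) (congrArg Subtype.val gc)
  · obtain ⟨t, ht, -⟩ := CfsgLib.Suzuki.exists_unit_sg_ne_one h
    refine ⟨CfsgLib.Suzuki.dE h t, fun e => ht ?_, ⟨_, CfsgLib.Suzuki.inf_mem⟩,
      ⟨_, CfsgLib.Suzuki.pt_mem 0 0⟩, fun e => CfsgLib.Suzuki.pt_ne_inf (m := m) (0 : F) 0
        (congrArg Subtype.val e).symm, Subtype.ext ?_, Subtype.ext ?_⟩
    · rw [← map_one (CfsgLib.Suzuki.dE h)] at e
      rw [CfsgLib.Suzuki.dE_injective h e, Units.val_one, CfsgLib.Suzuki.sg_one]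
      linear_combination h.two_eq_zero
    · exact CfsgLib.Suzuki.D_smul_inf t
    · show CfsgLib.Suzuki.D m t • CfsgLib.Suzuki.pt m (0 : F) 0 = CfsgLib.Suzuki.pt m 0 0
      rw [CfsgLib.Suzuki.D_smul_pt h]
      simp
  · intro N hN htr
    rcases (CfsgLib.Suzuki.isSimpleGroup_Sz h).eq_bot_or_eq_top_of_normal N hN with e | e
    · obtain ⟨n, hn⟩ := htr.exists_smul_eq (⟨_, CfsgLib.Suzuki.inf_mem⟩ : Cfsg.suzukiOvoid F m)
        ⟨_, CfsgLib.Suzuki.pt_mem 0 0⟩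
      exfalso
      have hn1 : n = 1 := Subtype.ext (Subgroup.mem_bot.1 (e ▸ n.2))
      rw [hn1, one_smul] at hn
      exact CfsgLib.Suzuki.pt_ne_inf (m := m) (0 : F) 0 (congrArg Subtype.val hn).symm
    · refine ⟨⟨_, CfsgLib.Suzuki.inf_mem⟩, fun hb => ?_⟩
      have hmem : (⟨CfsgLib.Suzuki.uE h 1 0, e ▸ Subgroup.mem_top _⟩ : N) ∈
          MulAction.stabilizer N (⟨_, CfsgLib.Suzuki.inf_mem⟩ : Cfsg.suzukiOvoid F m) :=
        Subtype.ext (CfsgLib.Suzuki.U_smul_inf (1 : F) 0)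
      rw [hb, Subgroup.mem_bot] at hmem
      have h1 : CfsgLib.Suzuki.U m (1 : F) 0 = 1 := congrArg (fun x => x.1.1) hmem
      rw [← CfsgLib.Suzuki.U_zero] at h1
      exact one_ne_zero (CfsgLib.Suzuki.U_injective h1).1

end Cfsg.Agent.S0327
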