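import Cfsg.Statements.S1132
import Cfsg.Agent.Recog.RankOneK

set_option autoImplicit false
open Cfsg

namespace Cfsg.Agent.S1132

/-- In the rank-one set-up (`G` finite and doubly transitive on `Ω`, `t` an involution moving `a`, `Q` normal in `G_a` with `G_a = Q D`, `Q ⊓ D = 1` for the two-point stabiliser `D = G_a ⊓ G_{t • a}`, `|Q|` even, `|D|` odd), with the action faithful and `G` containing two distinct commuting involutions: a Sylow 2-subgroup of `Q` is abelian or a Suzuki 2-group. -/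
theorem result {G Ω : Type*} [Group G] [Finite G] [MulAction G Ω] [FaithfulSMul G Ω] {a : Ω} {t : G} {Q : Subgroup G}
    (hS : Cfsg.IsRankOneSetup G Ω a t Q)
    (h2 : ∃ x y : G, x ≠ 1 ∧ y ≠ 1 ∧ x ≠ y ∧ x * x = 1 ∧ y * y = 1 ∧ x * y = y * x)
    (S : Sylow 2 ↥Q) : IsMulCommutative (S : Subgroup ↥Q) ∨ Cfsg.IsSuzukiTwoGroup ↥(S : Subgroup ↥Q) := by
  classical
  by_cases hab : IsMulCommutative (S : Subgroup ↥Q)
  · exact Or.inl hab
  refine Or.inr ?_
  obtain ⟨k₀, -, hset, -, -⟩ := CfsgLib.Recog.RankOne.exists_kernel hS h2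
  obtain ⟨hcentral, -⟩ := CfsgLib.Recog.RankOne.invol_central hS h2
  have hnil : Group.IsNilpotent ↥Q := CfsgLib.Recog.RankOne.nilpotent_Q hS h2
  haveI : Fact (Nat.Prime 2) := ⟨Nat.prime_two⟩
  have hall : ∀ (p : ℕ) (_ : Fact p.Prime) (P : Sylow p ↥Q), (P : Subgroup ↥Q).Normal :=
    ((Group.isNilpotent_of_finite_tfae (G := ↥Q)).out 0 3 rfl rfl).1 hnil
  haveI hSn : (S : Subgroup ↥Q).Normal := hall 2 ⟨Nat.prime_two⟩ S
  haveI := Sylow.unique_of_normal S hSn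
  have hinS : ∀ x : ↥Q, x * x = 1 → x ∈ (S : Subgroup ↥Q) := fun x hx => by
    have hp : IsPGroup 2 (Subgroup.zpowers x) := by
      rintro ⟨y, i, rfl⟩
      refine ⟨1, Subtype.ext ?_⟩
      show (x ^ i) ^ (2 ^ 1) = 1
      rw [pow_one, pow_two, ← zpow_add, ← two_mul, zpow_mul, zpow_two, hx, one_zpow]
    obtain ⟨P, hP⟩ := hp.exists_le_sylow
    rw [Subsingleton.elim S P]
    exact hP (Subgroup.mem_zpowers x)
  set C := Subgroup.zpowers k₀ with hC
  have hCK : ∀ k : C, (k : G) ∈ Cfsg.invertedBy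
      (MulAction.stabilizer G a ⊓ MulAction.stabilizer G (t • a)) t := fun k => hset ▸ k.2
  have hconj : ∀ (k : C) (x : ↥Q), (k : G) * x * (k : G)⁻¹ ∈ Q := fun k x =>
    hS.conj_mem _ (hCK k).1.1 _ x.2
  let θ : C →* MulAut ↥Q := MonoidHom.mk' (fun k =>
    { toFun := fun x => ⟨(k : G) * x * (k : G)⁻¹, hconj k x⟩
      invFun := fun x => ⟨(k : G)⁻¹ * x * (k : G), by simpa using hconj k⁻¹ x⟩
      left_inv := fun x => Subtype.ext (by simp [mul_assoc])
      right_inv := fun x => Subtype.ext (by simp [mul_assoc])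
      map_mul' := fun x y => Subtype.ext (by simp [mul_assoc]) })
    (fun k l => MulEquiv.ext fun x => Subtype.ext (by simp [mul_assoc]))
  have hθS : ∀ (k : C), ∀ x ∈ (S : Subgroup ↥Q), θ k x ∈ (S : Subgroup ↥Q) := fun k x hx => by
    have h := Subgroup.characteristic_iff_map_le.1 (Sylow.characteristic_of_normal S hSn) (θ k)
    exact h ⟨x, hx, rfl⟩
  let ψ : C →* MulAut ↥(S : Subgroup ↥Q) := MonoidHom.mk' (fun k =>
    { toFun := fun x => ⟨θ k x, hθS k x x.2⟩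
      invFun := fun x => ⟨θ k⁻¹ x, hθS k⁻¹ x x.2⟩
      left_inv := fun x => Subtype.ext (by
        show θ k⁻¹ (θ k x) = x
        rw [← MulAut.mul_apply, ← map_mul, inv_mul_cancel, map_one, MulAut.one_apply])
      right_inv := fun x => Subtype.ext (by
        show θ k (θ k⁻¹ x) = x
        rw [← MulAut.mul_apply, ← map_mul, mul_inv_cancel, map_one, MulAut.one_apply])
      map_mul' := fun x y => Subtype.ext (map_mul (θ k) x.1 y.1) })
    (fun k l => MulEquiv.ext fun x => Subtype.ext (by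
      show θ (k * l) x = θ k (θ l x)
      rw [map_mul, MulAut.mul_apply]))
  refine ⟨inferInstance, S.isPGroup', ?_, ?_, ψ.range,
    isCyclic_of_surjective ψ.rangeRestrict ψ.rangeRestrict_surjective, ?_⟩
  · by_contra hall
    push Not at hall
    exact hab ⟨⟨hall⟩⟩
  · obtain ⟨s, r, hs, -, -⟩ := CfsgLib.Recog.RankOne.exists_special hS
    obtain ⟨k, hk, hk1⟩ := CfsgLib.Recog.RankOne.exists_inverted_ne_one hS h2
    have hs' := CfsgLib.Recog.RankOne.conj_mem_invol hS hk.1.1 hs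
    have hsQ := (hcentral _ hs).1
    have hsQ' := (hcentral _ hs').1
    refine ⟨⟨⟨s, hsQ⟩, hinS _ (Subtype.ext hs.2.2)⟩, ⟨⟨k⁻¹ * s * k, hsQ'⟩, hinS _ (Subtype.ext hs'.2.2)⟩,
      fun h => ?_, fun h => hs.2.1 ?_, Subtype.ext (Subtype.ext hs.2.2), fun h => hs'.2.1 ?_,
      Subtype.ext (Subtype.ext hs'.2.2)⟩
    · have he : s = k⁻¹ * s * k := congrArg (fun x : ↥(S : Subgroup ↥Q) => ((x : ↥Q) : G)) h
      refine hs.2.1 (CfsgLib.Recog.RankOne.inverted_fpf hS hk hk1 hsQ ?_)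
      conv_rhs => rw [he]
      group
    · exact congrArg (fun x : ↥(S : Subgroup ↥Q) => ((x : ↥Q) : G)) h
    · exact congrArg (fun x : ↥(S : Subgroup ↥Q) => ((x : ↥Q) : G)) h
  · intro x y hx1 hx hy1 hy
    have hI : ∀ z : ↥(S : Subgroup ↥Q), z ≠ 1 → z * z = 1 →
        ((z : ↥Q) : G) ∈ Cfsg.involutionsIn (MulAction.stabilizer G a : Set G) := fun z h1 h =>
      ⟨hS.le (z : ↥Q).2, fun h0 => h1 (Subtype.ext (Subtype.ext h0)),
        congrArg (fun w : ↥(S : Subgroup ↥Q) => ((w : ↥Q) : G)) h⟩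
    obtain ⟨k, hk, he⟩ := CfsgLib.Recog.RankOne.inverted_transitive hS (hI y hy1 hy) (hI x hx1 hx)
    have hkC : k ∈ C := by rw [← SetLike.mem_coe, hset]; exact hk
    refine ⟨⟨ψ ⟨k, hkC⟩, _, rfl⟩, Subtype.ext (Subtype.ext ?_), ?_⟩
    · show k * ((x : ↥Q) : G) * k⁻¹ = _
      rw [← he]; group
    · rintro ⟨_, ⟨l, rfl⟩⟩ hl
      refine Subtype.ext (congrArg ψ ?_)
      have hl' : (l : G) * ((x : ↥Q) : G) * (l : G)⁻¹ = ((y : ↥Q) : G) :=
        congrArg (fun w : ↥(S : Subgroup ↥Q) => ((w : ↥Q) : G)) hl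
      by_contra hne
      have hne' : k⁻¹ * (l : G) ≠ 1 := fun h => hne (Subtype.ext (inv_mul_eq_one.1 h).symm)
      have hmem : k⁻¹ * (l : G) ∈ Cfsg.invertedBy
          (MulAction.stabilizer G a ⊓ MulAction.stabilizer G (t • a)) t :=
        hset ▸ C.mul_mem (C.inv_mem hkC) l.2
      refine (hI x hx1 hx).2.1 (CfsgLib.Recog.RankOne.inverted_fpf hS hmem hne' (x : ↥Q).2 ?_)
      calc ((x : ↥Q) : G) * (k⁻¹ * (l : G)) = (k⁻¹ * ((y : ↥Q) : G) * k) * (k⁻¹ * l) := by rw [he]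
        _ = k⁻¹ * (((y : ↥Q) : G) * l) := by group
        _ = k⁻¹ * ((l : G) * x) := by rw [← hl']; group
        _ = k⁻¹ * (l : G) * x := by group

end Cfsg.Agent.S1132
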