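import Cfsg.Statements.S5093
import Cfsg.Agent.Fusion.Tate
import Cfsg.Agent.Fusion.GroupSystem
import Cfsg.Agent.Solvable.ResidualSplit
import Cfsg.Agent.Transfer.Frobenius
import Cfsg.Agent.Solvable.PGroupBasic

set_option autoImplicit false
open Cfsg Cfsg.FusionSystem CfsgLib.Fusion
open scoped commutatorElement

namespace Cfsg.Agent.S5093

/-- Hyperfocal subgroup Theorem: for a finite group G with Sylow p-subgroup S, the hyperfocal subgroup of the fusion system of G on S equals S ∩ O^p(G), where O^p(G) is the subgroup generated by the elements of order prime to p. -/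
theorem result {G : Type*} [Group G] [Finite G] (p : ℕ) [Fact p.Prime] (S : Sylow p G) : (Cfsg.groupFusionSystem (S : Subgroup G)).hyperfocalSubgroup p = (S : Subgroup G) ⊓ Cfsg.pResidual p G := by
  set F := Cfsg.groupFusionSystem (S : Subgroup G)
  set K := Cfsg.pResidual p G with hK
  have hKn : K.Normal := CfsgLib.PResidual.pResidual_normal p
  have hS : IsPGroup p (S : Subgroup G) := S.2
  have hcarr : ∀ (P : Subgroup G), P ≤ (S : Subgroup G) → ∀ β ∈ F.autGroup P,
      ∃ g : G, ∀ x : P, (((β : MulAut P) x : P) : G) = g * (x : G) * g⁻¹ := fun P hP β hβ =>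
    ((autGroup_carrier hP).1 hβ).2.2
  refine le_antisymm ?_ ?_
  · refine (Subgroup.closure_le _).2 ?_
    rintro _ ⟨P, α, x, hP, hα, rfl⟩
    refine ⟨mul_mem (Subgroup.inv_mem _ (hP x.2)) (hP ((α : MulAut P) x).2), ?_⟩
    have : Finite (MulAut P) := finite_mulAut
    let M : Subgroup (F.autGroup P) :=
      { carrier := {β | ∀ x : P, (x : G)⁻¹ * ((β : MulAut P) x : P) ∈ K}
        one_mem' := fun x => by simp
        mul_mem' := fun {a b} ha hb x => by
          have := mul_mem (hb x) (ha ((b : MulAut P) x))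
          simpa [mul_assoc] using this
        inv_mem' := fun {a} ha x => by
          simpa using inv_mem (ha ((a : MulAut P)⁻¹ x)) }
    refine (show Cfsg.pResidual p (F.autGroup P) ≤ M from ?_) hα x
    rw [Cfsg.pResidual, Subgroup.closure_le]
    intro β hβ y
    obtain ⟨g, hg⟩ := hcarr P hP β β.2
    set a := p ^ (orderOf g).factorization p
    have hpow : ∀ (k : ℕ) (z : P), ((((β ^ k : F.autGroup P) : MulAut P) z : P) : G) = g ^ k * (z : G) * (g ^ k)⁻¹ := by
      intro k
      induction k with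
      | zero => intro z; simp
      | succ k ih =>
        intro z
        rw [pow_succ', Subgroup.coe_mul, MulAut.mul_apply, hg, ih, pow_succ']
        group
    obtain ⟨j, hj⟩ := exists_pow_eq_self_of_coprime (n := a) (x := β) (Nat.Coprime.symm (Nat.Coprime.pow_right _ hβ))
    have hh : (g ^ a) ^ j ∈ K := pow_mem (CfsgLib.PResidual.pow_mem_pResidual Fact.out g) j
    rw [← hj, ← pow_mul, hpow (a * j) y, pow_mul]
    have h1 := mul_mem (hKn.conj_mem _ hh (y : G)⁻¹) (inv_mem hh)
    simpa [mul_assoc] using h1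
  set T : Subgroup G := (S : Subgroup G) ⊓ K with hT
  set U := F.hyperfocalSubgroup p
  have hUn : (S : Subgroup G) ≤ Subgroup.normalizer (U : Set G) := le_normalizer_hyperfocal p
  have hTS : T ≤ (S : Subgroup G) := inf_le_left
  have hsyl : SylowIn p T K := by
    have h0 : SylowIn p (S : Subgroup G) (⊤ : Subgroup G) :=
      ⟨le_top, S.subtype le_top, Sylow.coe_subtype _ _⟩
    exact h0.inf_normal le_top (fun g _ => by
      rw [Subgroup.normalizer_eq_top_iff.2 hKn]; exact Subgroup.mem_top g)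
  obtain ⟨hTK, R, hR⟩ := hsyl
  have key : T ≤ ⁅T, (S : Subgroup G)⁆ ⊔ U := by
    intro t ht
    have h1 : (⟨t, hTK ht⟩ : K) ∈ (R : Subgroup K) ⊓ Cfsg.pResidual p K := by
      rw [CfsgLib.ResidualSplit.pResidual_pResidual, inf_top_eq, hR]
      exact ht
    have h2 := CfsgLib.Fusion.inf_pResidual_le_focal R h1
    have hle : (R : Subgroup K).focalSubgroup ≤ (⁅T, (S : Subgroup G)⁆ ⊔ U).comap K.subtype := by
      rw [Subgroup.focalSubgroup_def, Subgroup.closure_le]
      rintro _ ⟨hg, a, ha, u, rfl⟩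
      have haT : (a : G) ∈ T := Subgroup.mem_subgroupOf.1 (hR.le ha)
      have hgT : ((⁅a, u⁆ : K) : G) ∈ T := Subgroup.mem_subgroupOf.1 (hR.le hg)
      rw [commutatorElement_def] at hgT
      have hconj : ∀ x : Subgroup.zpowers ((a : G)⁻¹),
          (u : G) * (x : G) * (u : G)⁻¹ ∈ (S : Subgroup G) := by
        rintro ⟨x, hx⟩
        obtain ⟨i, rfl⟩ := Subgroup.mem_zpowers_iff.1 hx
        rw [← MulAut.conj_apply, map_zpow]
        refine zpow_mem ?_ i
        have h3 := mul_mem (inv_mem (hTS haT)) (hTS hgT)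
        simpa [mul_assoc] using h3
      have hφ : conjHom (Subgroup.zpowers ((a : G)⁻¹)) (u : G) ∈ F.Hom _ :=
        ⟨Subgroup.zpowers_le.2 (inv_mem (hTS haT)), hconj, u, fun x => rfl⟩
      obtain ⟨s, hs, hsx⟩ := exists_inner_mod p hS (groupFusion_saturated S) hUn le_rfl hφ
      have h4 := hsx ⟨_, Subgroup.mem_zpowers _⟩
      have h5 : (a : G) * (s * (a : G)⁻¹ * s⁻¹) ∈ ⁅T, (S : Subgroup G)⁆ := by
        have := Subgroup.commutator_mem_commutator haT hs
        rw [commutatorElement_def] at this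
        simpa [mul_assoc] using this
      have h6 := mul_mem (Subgroup.mem_sup_left (T := U) h5) (Subgroup.mem_sup_right h4)
      refine Subgroup.mem_comap.2 ?_
      show ((⁅a, u⁆ : K) : G) ∈ ⁅T, (S : Subgroup G)⁆ ⊔ U
      rw [commutatorElement_def]
      simpa [conjHom, mul_assoc] using h6
    exact hle h2
  have hUT : U ≤ T ⊔ U := le_sup_right
  intro t ht
  by_contra htU
  have : (U.subgroupOf (S : Subgroup G)).Normal := ⟨fun x hx g => (Subgroup.mem_normalizer_iff.1 (hUn g.2) x).1 hx⟩
  let π : (S : Subgroup G) →* (S : Subgroup G) ⧸ U.subgroupOf (S : Subgroup G) := QuotientGroup.mk' _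
  set Tb := (T.subgroupOf (S : Subgroup G)).map π
  have hnil := (hS.of_surjective π (QuotientGroup.mk'_surjective _)).isNilpotent
  have hTb : Tb ≤ ⁅Tb, ⊤⁆ := by
    rintro _ ⟨x, hx, rfl⟩
    obtain ⟨c, hc, u, hu, hcu⟩ := (CfsgLib.Solvable.mem_sup_of_le_normalizer
      (A := ⁅T, (S : Subgroup G)⁆) (K := U) (((Subgroup.commutator_mono hTS le_rfl).trans
        (S : Subgroup G).commutator_le_self).trans hUn)).1 (key hx)
    have hcS : c ∈ (S : Subgroup G) := (Subgroup.commutator_mono hTS le_rfl).trans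
        (S : Subgroup G).commutator_le_self hc
    have h1 : π x = π ⟨c, hcS⟩ := (QuotientGroup.eq.2 (Subgroup.mem_subgroupOf.2 (by
      show (c : G)⁻¹ * (x : G) ∈ U
      have h2 : (x : G) = c * u := hcu.symm
      rw [h2, inv_mul_cancel_left]; exact hu))).symm
    rw [h1]
    have h2 : (⁅T.subgroupOf (S : Subgroup G), (⊤ : Subgroup ↥(S : Subgroup G))⁆ : Subgroup ↥(S : Subgroup G)).map (S : Subgroup G).subtype = ⁅T, (S : Subgroup G)⁆ := by
      rw [Subgroup.map_commutator, Subgroup.map_subgroupOf_eq_of_le hTS, ← MonoidHom.range_eq_map,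
        Subgroup.range_subtype]
    obtain ⟨c', hc', hce⟩ := h2.ge hc
    have h3 : π c' ∈ ⁅Tb, (⊤ : Subgroup _)⁆ := by
      have := Subgroup.mem_map_of_mem π hc'
      rw [Subgroup.map_commutator] at this
      exact Subgroup.commutator_mono le_rfl le_top this
    rwa [show (⟨c, hcS⟩ : (S : Subgroup G)) = c' from Subtype.ext hce.symm]
  obtain ⟨n, hn⟩ := (⊤ : Subgroup ((S : Subgroup G) ⧸ U.subgroupOf (S : Subgroup G))).isNilpotent_iff_lowerCentralSeries.1 inferInstance
  have hi : ∀ i, Tb ≤ (⊤ : Subgroup _).lowerCentralSeries i := by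
    intro i
    induction i with
    | zero => simp
    | succ i ih =>
      rw [Subgroup.lowerCentralSeries_succ]
      exact hTb.trans (Subgroup.commutator_mono ih le_rfl)
  have h1 : π ⟨t, hTS ht⟩ ∈ Tb := ⟨_, ht, rfl⟩
  have h2 := (hi n).trans hn.le h1
  exact htU ((QuotientGroup.eq_one_iff (⟨t, hTS ht⟩ : (S : Subgroup G))).1 (Subgroup.mem_bot.1 h2))

end Cfsg.Agent.S5093
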