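import Cfsg.Statements.S4477
import Cfsg.Agent.Char.FrobeniusSchur
import Cfsg.Agent.Char.LinearTwist
import Cfsg.Agent.Char.ClassProducts
import Cfsg.Agent.Solvable.PGroupBasic

set_option autoImplicit false
open Cfsg
open scoped commutatorElement
set_option linter.style.haveILetI false

namespace Cfsg.Agent.S4477

open CfsgLib.Char
open scoped ComplexConjugate

universe u

variable {G : Type u} [Group G] [Fintype G]

/-- Twisting by a linear character. -/
noncomputable def tw (lam : G →* ℂˣ) (χ : G → ℂ) : G → ℂ := χ * fun g => (lam g : ℂ)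

theorem tw_one (χ : G → ℂ) : tw 1 χ = χ := funext fun g => by simp [tw]

theorem tw_mul (a b : G →* ℂˣ) (χ : G → ℂ) : tw (a * b) χ = tw a (tw b χ) :=
  funext fun g => by simp [tw]; ring

theorem tw_comm (a b : G →* ℂˣ) (χ : G → ℂ) : tw a (tw b χ) = tw b (tw a χ) :=
  funext fun g => by simp [tw]; ring

/-- Real irreducible characters of degree two. -/
def RealTwo (χ : G → ℂ) : Prop :=
  Cfsg.IsIrrCharacter G χ ∧ χ 1 = 2 ∧ ∀ g, conj (χ g) = χ g

theorem card_stab_le {χ : G → ℂ} (hχ : RealTwo χ) (K : Subgroup (G →* ℂˣ))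
    (hK : ∀ lam ∈ K, tw lam χ = χ) : Nat.card K ≤ 4 := by
  classical
  let H : Subgroup G := ⨅ lam : K, (lam : G →* ℂˣ).ker
  haveI : Finite (G →* ℂˣ) := Finite.of_equiv _ (linearCharEquiv (G := G)).symm
  have hle : Nat.card K ≤ H.index := by
    refine le_trans (Nat.card_le_card_of_injective (fun lam : K =>
      (⟨lam.1, fun x hx => (Subgroup.mem_iInf.mp hx lam :)⟩ :
        {lam : G →* ℂˣ // ∀ x ∈ H, lam x = 1}))
      fun a b hab => Subtype.ext (congrArg Subtype.val hab :)) (card_hom_trivial_le H)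
  have hout : ∀ g, g ∉ H → χ g = 0 := by
    intro g hg
    by_contra h0
    refine hg (Subgroup.mem_iInf.mpr fun lam => Units.ext ?_)
    have := congrFun (hK lam.1 lam.2) g
    simpa [tw] using mul_left_cancel₀ h0 (this.trans (mul_one _).symm)
  have hbd : ∀ g, ‖χ g‖ ^ 2 ≤ 4 := fun g => by
    have := IsCharacter.norm_apply_le (IsIrrCharacter.isCharacter hχ.1) g
    rw [hχ.2.1] at this
    have h2 : (2 : ℂ).re = 2 := rfl
    rw [h2] at this
    nlinarith [norm_nonneg (χ g)]
  have hsum := sum_norm_sq_eq hχ.1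
  have hG : (Nat.card G : ℝ) ≤ 4 * Nat.card H := by
    rw [← hsum, ← Finset.sum_subset (Finset.subset_univ (Finset.univ.filter (· ∈ H))) fun g _ hg => ?_]
    · refine le_trans (Finset.sum_le_sum fun g _ => hbd g) ?_
      simp [Nat.card_eq_fintype_card, Fintype.card_subtype, mul_comm]
    · simp only [Finset.mem_filter, Finset.mem_univ, true_and] at hg
      simp [hout g hg]
  have hG' : Nat.card G ≤ 4 * Nat.card H := by exact_mod_cast hG
  rw [← H.card_mul_index, mul_comm 4] at hG'
  exact hle.trans (Nat.le_of_mul_le_mul_left hG' Nat.card_pos)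

theorem sum_indicator [DecidableEq G] :
    ∑ χ ∈ irrFinset G, χ 1 * ((Nat.card G : ℂ)⁻¹ * ∑ g : G, χ (g * g)) =
      (Finset.univ.filter fun g : G => g * g = 1).card := by
  have e : ∀ χ : G → ℂ, χ 1 * ((Nat.card G : ℂ)⁻¹ * ∑ g : G, χ (g * g)) =
      (Nat.card G : ℂ)⁻¹ * ∑ g : G, χ 1 * χ (g * g) := fun χ => by
    rw [← Finset.mul_sum]; ring
  rw [Finset.sum_congr rfl fun χ _ => e χ, ← Finset.mul_sum, Finset.sum_comm,
    Finset.sum_congr rfl fun g _ => sum_degree_mul_apply (g * g), ← Finset.sum_filter,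
    Finset.sum_const, nsmul_eq_mul, mul_comm, mul_assoc,
    mul_inv_cancel₀ (Nat.cast_ne_zero.2 Nat.card_pos.ne'), mul_one]

/-- Fixed points of a finite 2-group acting on an odd set. -/
theorem odd_fixed {K : Type*} [Group K] [Finite K] (hK : IsPGroup 2 K) {α : Type*} [MulAction K α]
    [Finite α] (h : Odd (Nat.card α)) : Odd (Nat.card (MulAction.fixedPoints K α)) := by
  haveI := Fact.mk Nat.prime_two
  have := hK.card_modEq_card_fixedPoints α
  rw [Nat.odd_iff] at h ⊢
  unfold Nat.ModEq at this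
  omega

theorem main (hG : IsPGroup 2 G) (ht : Nat.card {x : G // orderOf x = 2} % 4 = 1)
    (hnc : ¬ IsCyclic G) : (commutator G).index = 4 := by
  classical
  haveI := Fact.mk Nat.prime_two
  haveI : Finite (G →* ℂˣ) := Finite.of_equiv _ (linearCharEquiv (G := G)).symm
  obtain ⟨n, hn⟩ := IsPGroup.iff_card.mp hG
  let L2 : Subgroup (G →* ℂˣ) :=
    { carrier := {l | l ^ 2 = 1}
      one_mem' := one_pow 2
      mul_mem' := fun {a b} ha hb =>
        (mul_pow a b 2).trans ((congrArg₂ (· * ·) ha hb).trans (one_mul (1 : G →* ℂˣ)))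
      inv_mem' := fun {a} ha => (inv_pow a 2).trans (inv_eq_one.mpr ha) }
  let L4 : Subgroup (G →* ℂˣ) :=
    { carrier := {l | l ^ 4 = 1}
      one_mem' := one_pow 4
      mul_mem' := fun {a b} ha hb =>
        (mul_pow a b 4).trans ((congrArg₂ (· * ·) ha hb).trans (one_mul (1 : G →* ℂˣ)))
      inv_mem' := fun {a} ha => (inv_pow a 4).trans (inv_eq_one.mpr ha) }
  have h24 : L2 ≤ L4 := fun l hl =>
    (pow_mul l 2 2).trans ((congrArg (fun m : G →* ℂˣ => m ^ 2) hl).trans (one_pow (M := G →* ℂˣ) 2))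
  have hP4 : IsPGroup 2 L4 := fun l => ⟨2, Subtype.ext l.2⟩
  have hP2 : IsPGroup 2 L2 := fun l => ⟨1, Subtype.ext l.2⟩
  -- four real linear characters
  have hL2 : 4 ≤ Nat.card L2 ∧ 4 ∣ Nat.card L2 := by
    have h4 : 4 ≤ Nat.card L2 := by
      set Φ := frattini G
      obtain ⟨hΦc, hΦp⟩ := CfsgLib.PGroupBasic.commutator_pow_le_frattini hG
      have hidx : 4 ≤ Φ.index := by
        by_contra hlt
        obtain ⟨k, hk, hk'⟩ := (Nat.dvd_prime_pow Nat.prime_two).mp (hn ▸ Φ.index_dvd_card)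
        have hk1 : k ≤ 1 := by
          by_contra h
          have := Nat.pow_le_pow_right (show 0 < 2 by norm_num) (show 2 ≤ k by omega)
          rw [← hk'] at this
          omega
        haveI : IsCyclic (G ⧸ Φ) := by
          rcases Nat.le_one_iff_eq_zero_or_eq_one.mp hk1 with rfl | rfl
          · haveI := (Nat.card_eq_one_iff_unique.mp (show Nat.card (G ⧸ Φ) = 1 from hk')).1
            infer_instance
          · exact isCyclic_of_prime_card (p := 2) (show Nat.card (G ⧸ Φ) = 2 from hk')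
        obtain ⟨q, hq⟩ := IsCyclic.exists_generator (α := G ⧸ Φ)
        obtain ⟨a, rfl⟩ := QuotientGroup.mk'_surjective Φ q
        refine hnc ⟨a, fun g => ?_⟩
        have htop : Subgroup.zpowers a ⊔ Φ = ⊤ := by
          rw [eq_top_iff]
          intro g _
          obtain ⟨i, hi⟩ := Subgroup.mem_zpowers_iff.mp (hq (QuotientGroup.mk' Φ g))
          rw [show g = a ^ i * ((a ^ i)⁻¹ * g) by group]
          refine Subgroup.mul_mem_sup (Subgroup.zpow_mem_zpowers a i) ?_
          rw [← map_zpow] at hi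
          exact QuotientGroup.eq.mp hi
        show g ∈ Subgroup.zpowers a
        rw [show Subgroup.zpowers a = ⊤ from frattini_nongenerating htop]
        trivial
      have hqc : commutator (G ⧸ Φ) = ⊥ := by
        rw [commutator_eq_bot_iff_center_eq_top, Subgroup.eq_top_iff']
        intro x
        obtain ⟨a, rfl⟩ := QuotientGroup.mk'_surjective Φ x
        refine Subgroup.mem_center_iff.mpr fun y => ?_
        obtain ⟨b, rfl⟩ := QuotientGroup.mk'_surjective Φ y
        rw [← map_mul, ← map_mul]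
        refine QuotientGroup.eq.mpr (hΦc ?_)
        rw [show (b * a)⁻¹ * (a * b) = a⁻¹ * b⁻¹ * a * b by group]
        have := Subgroup.commutator_mem_commutator (Subgroup.mem_top a⁻¹) (Subgroup.mem_top b⁻¹)
        rw [commutatorElement_def, inv_inv, inv_inv] at this
        exact this
      refine hidx.trans ?_
      have e : Φ.index = Nat.card (G ⧸ Φ →* ℂˣ) := by
        rw [card_hom_eq_index_commutator, hqc, Subgroup.index_bot]; rfl
      rw [e]
      refine Nat.card_le_card_of_injective (fun l => (⟨l.comp (QuotientGroup.mk' Φ),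
        MonoidHom.ext fun g => ?_⟩ : L2)) fun a b hab => ?_
      · show (l.comp (QuotientGroup.mk' Φ) ^ 2) g = 1
        rw [MonoidHom.pow_apply, MonoidHom.comp_apply, ← map_pow, ← map_pow,
          show QuotientGroup.mk' Φ (g ^ 2) = 1 from (QuotientGroup.eq_one_iff _).mpr (hΦp g), map_one]
      · exact QuotientGroup.monoidHom_ext Φ (congrArg Subtype.val hab :)
    obtain ⟨k, hk⟩ := IsPGroup.iff_card.mp hP2
    refine ⟨h4, hk ▸ ?_⟩
    rw [hk] at h4
    have : 2 ≤ k := by
      by_contra h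
      have := Nat.pow_le_pow_right (show 0 < 2 by norm_num) (show k ≤ 1 by omega)
      omega
    exact Dvd.dvd.trans (by norm_num) (Nat.pow_dvd_pow 2 this)
  -- integral indicators
  let R : (G → ℂ) → Prop := fun χ => ∀ g, conj (χ g) = χ g
  let ν : (G → ℂ) → ℂ := fun χ => (Nat.card G : ℂ)⁻¹ * ∑ g : G, χ (g * g)
  have hfs : ∀ χ ∈ irrFinset G, ∃ e : ℤ, ∃ d : ℕ, ν χ = e ∧ χ 1 = d ∧ (R χ → Odd e) ∧
      (¬ R χ → e = 0) ∧ (d = 1 → R χ → e = 1) ∧ ∃ k, d = 2 ^ k := by
    intro χ hχ
    rw [mem_irrFinset] at hχ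
    obtain ⟨d, -, hd⟩ := IsIrrCharacter.exists_degree hχ
    obtain ⟨k, -, hk⟩ := (Nat.dvd_prime_pow Nat.prime_two).mp
      (hn ▸ IsIrrCharacter.degree_dvd_card hχ hd)
    have hR : R χ ↔ ∀ g, (χ g).im = 0 := forall_congr' fun g => Complex.conj_eq_iff_im
    rcases IsIrrCharacter.fs_indicator hχ with ⟨⟨g, hg⟩, h0⟩ | ⟨hre, h1 | ⟨h1, hev⟩⟩
    · exact ⟨0, d, h0.trans Int.cast_zero.symm, hd, fun h => absurd (hR.mp h g) hg, fun _ => rfl,
        fun _ h => absurd (hR.mp h g) hg, k, hk⟩
    · exact ⟨1, d, h1.trans Int.cast_one.symm, hd, fun _ => odd_one, fun h => absurd (hR.mpr hre) h,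
        fun _ _ => rfl, k, hk⟩
    · refine ⟨-1, d, h1.trans (by norm_num), hd, fun _ => odd_one.neg, fun h => absurd (hR.mpr hre) h,
        fun hd1 _ => ?_, k, hk⟩
      have := hev d hd
      rw [hd1] at this
      exact absurd this Nat.not_even_one
  choose! e d he hd hodd hzero hlin hpow using hfs
  have hkey : (∑ χ ∈ irrFinset G, (d χ : ℤ) * e χ) =
      ((Finset.univ.filter fun g : G => g * g = 1).card : ℤ) := by
    apply Int.cast_injective (α := ℂ)
    push_cast
    convert sum_indicator (G := G) using 1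
    exact Finset.sum_congr rfl fun χ hχ => by rw [← hd χ hχ, ← he χ hχ]
  have ht' : ((Finset.univ.filter fun g : G => g * g = 1).card : ℤ) % 4 = 2 := by
    have h1 : (Finset.univ.filter fun g : G => g * g = 1) =
        insert (1 : G) (Finset.univ.filter fun g : G => orderOf g = 2) := by
      ext g
      simp only [Finset.mem_filter, Finset.mem_univ, true_and, Finset.mem_insert, ← pow_two]
      refine ⟨fun h => ?_, ?_⟩
      · by_cases hg : g = 1
        · exact Or.inl hg
        · exact Or.inr (orderOf_eq_prime h hg)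
      · rintro (rfl | h)
        · exact one_pow 2
        · exact orderOf_dvd_iff_pow_eq_one.mp h.dvd
    rw [h1, Finset.card_insert_of_notMem (by simp)]
    rw [Nat.card_eq_fintype_card, Fintype.card_subtype] at ht
    omega
  -- degree one
  have hone : ∑ χ ∈ (irrFinset G).filter (fun χ => d χ = 1), (d χ : ℤ) * e χ = Nat.card L2 := by
    have hval : ∀ χ ∈ (irrFinset G).filter (fun χ => d χ = 1),
        (d χ : ℤ) * e χ = if R χ then 1 else 0 := by
      intro χ hχ
      rw [Finset.mem_filter] at hχ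
      rw [hχ.2, Nat.cast_one, one_mul]
      split_ifs with hR
      · exact hlin χ hχ.1 hχ.2 hR
      · exact hzero χ hχ.1 hR
    rw [Finset.sum_congr rfl hval, Finset.sum_boole, Nat.cast_inj, Finset.filter_filter,
      ← Nat.card_eq_finsetCard]
    symm
    have hreal : ∀ l : G →* ℂˣ, R (fun g => (l g : ℂ)) ↔ l ^ 2 = 1 := by
      intro l
      rw [MonoidHom.ext_iff]
      refine forall_congr' fun g => ?_
      rw [conj_eq_inv_hom, map_inv, Units.val_inj, MonoidHom.pow_apply, MonoidHom.one_apply,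
        pow_two, inv_eq_iff_mul_eq_one]
    refine Nat.card_eq_of_bijective (fun l : L2 => (⟨fun g => (l.1 g : ℂ), ?_⟩ :
      ↥((irrFinset G).filter fun χ => d χ = 1 ∧ R χ))) ⟨fun a b hab => ?_, fun χ => ?_⟩
    · rw [Finset.mem_filter]
      have hm : (fun g => (l.1 g : ℂ)) ∈ irrFinset G := mem_irrFinset.mpr (isIrrCharacter_ofHom l.1)
      refine ⟨hm, ?_, (hreal l.1).mpr l.2⟩
      have := hd _ hm
      simp only [map_one, Units.val_one] at this
      exact_mod_cast this.symm
    · exact Subtype.ext (MonoidHom.ext fun g => Units.ext (congrFun (congrArg Subtype.val hab) g))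
    · obtain ⟨χ, hχ⟩ := χ
      rw [Finset.mem_filter] at hχ
      obtain ⟨l, hl⟩ := IsCharacter.exists_hom
        (IsIrrCharacter.isCharacter (mem_irrFinset.mp hχ.1))
        (by rw [hd χ hχ.1, hχ.2.1, Nat.cast_one])
      exact ⟨⟨l, (hreal l).mp (hl ▸ hχ.2.2)⟩, Subtype.ext hl.symm⟩
  -- degree two
  have hS : Odd (Nat.card {χ : G → ℂ // RealTwo χ}) := by
    have hset : Nat.card {χ : G → ℂ // RealTwo χ} =
        ((irrFinset G).filter fun χ => d χ = 2 ∧ R χ).card := by
      rw [← Nat.card_eq_finsetCard]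
      refine Nat.card_congr (Equiv.subtypeEquivRight fun χ => ?_)
      rw [Finset.mem_filter]
      constructor
      · rintro ⟨h1, h2, h3⟩
        have hm := mem_irrFinset.mpr h1
        rw [hd χ hm] at h2
        exact ⟨hm, by exact_mod_cast h2, h3⟩
      · rintro ⟨hm, h2, h3⟩
        exact ⟨mem_irrFinset.mp hm, by rw [hd χ hm, h2, Nat.cast_ofNat], h3⟩
    have hrest : (∑ χ ∈ (irrFinset G).filter (fun χ => ¬ d χ = 1), (d χ : ℤ) * e χ) % 4 =
        (2 * ((irrFinset G).filter fun χ => d χ = 2 ∧ R χ).card : ℤ) % 4 := by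
      rw [Finset.sum_int_mod]
      have hval : ∀ χ ∈ (irrFinset G).filter (fun χ => ¬ d χ = 1),
          (d χ : ℤ) * e χ % 4 = (if d χ = 2 ∧ R χ then 2 else 0) := by
        intro χ hχ
        rw [Finset.mem_filter] at hχ
        obtain ⟨k, hk⟩ := hpow χ hχ.1
        split_ifs with h
        · obtain ⟨j, hj⟩ := hodd χ hχ.1 h.2
          rw [h.1, hj]; push_cast; omega
        · by_cases h2 : d χ = 2
          · rw [hzero χ hχ.1 fun hR => h ⟨h2, hR⟩]; simp
          · have h4 : 4 ∣ d χ := by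
              rcases k with _ | _ | k
              · simp at hk; exact absurd hk hχ.2
              · simp at hk; exact absurd hk h2
              · exact ⟨2 ^ k, by rw [hk]; ring⟩
            obtain ⟨c, hc⟩ := h4
            rw [hc]; push_cast; rw [mul_assoc]; exact Int.mul_emod_right _ _
      rw [Finset.sum_congr rfl hval, ← Finset.sum_filter, Finset.sum_const, Finset.filter_filter,
        nsmul_eq_mul, mul_comm, Finset.filter_congr fun χ _ =>
          (show (¬ d χ = 1 ∧ d χ = 2 ∧ R χ) ↔ (d χ = 2 ∧ R χ) from ⟨And.right, fun h => ⟨by omega, h⟩⟩)]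
    rw [← Finset.sum_filter_add_sum_filter_not (irrFinset G) (fun χ => d χ = 1), hone] at hkey
    have h4 := hL2.2
    rw [hset, Nat.odd_iff]
    omega
  haveI : Finite {χ : G → ℂ // RealTwo χ} :=
    Finite.of_injective (fun χ => (⟨χ.1, χ.2.1⟩ : Cfsg.IrrCharacter G))
      fun a b hab => Subtype.ext (congrArg Subtype.val hab :)
  -- the twisting actions
  have hmem : ∀ (l : G →* ℂˣ) (χ : G → ℂ), RealTwo χ → tw (l ^ 2) χ = χ → RealTwo (tw l χ) := by
    intro l χ hχ hfix
    refine ⟨IsIrrCharacter.mul_hom hχ.1 l, by simp [tw, hχ.2.1], fun g => ?_⟩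
    have := congrFun hfix g
    simp only [tw, Pi.mul_apply, map_mul, pow_two, MonoidHom.mul_apply, Units.val_mul] at this ⊢
    rw [hχ.2.2, conj_eq_inv_hom, map_inv, Units.val_inv_eq_inv_val]
    have hl : (l g : ℂ) ≠ 0 := Units.ne_zero _
    field_simp
    linear_combination -this
  letI : MulAction L2 {χ : G → ℂ // RealTwo χ} :=
    { smul := fun l χ => ⟨tw l.1 χ.1, hmem _ _ χ.2 (by rw [show l.1 ^ 2 = 1 from l.2, tw_one])⟩
      one_smul := fun χ => Subtype.ext (tw_one χ.1)
      mul_smul := fun a b χ => Subtype.ext (tw_mul a.1 b.1 χ.1) }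
  have hS1 := odd_fixed hP2 hS
  set S1 := MulAction.fixedPoints L2 {χ : G → ℂ // RealTwo χ}
  have hfix2 : ∀ χ : S1, ∀ l : G →* ℂˣ, l ^ 2 = 1 → tw l χ.1.1 = χ.1.1 := fun χ l hl =>
    congrArg Subtype.val (χ.2 ⟨l, hl⟩)
  have hsq : ∀ l : L4, (l.1 ^ 2) ^ 2 = 1 := fun l => by rw [← pow_mul]; exact l.2
  let act : L4 → S1 → S1 := fun l χ =>
    ⟨⟨tw l.1 χ.1.1, hmem _ _ χ.1.2 (hfix2 χ _ (hsq l))⟩, fun m => Subtype.ext (by
      show tw m.1 (tw l.1 χ.1.1) = tw l.1 χ.1.1
      rw [tw_comm, hfix2 χ m.1 m.2])⟩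
  letI : MulAction L4 S1 :=
    { smul := act
      one_smul := fun χ => Subtype.ext (Subtype.ext (tw_one χ.1.1))
      mul_smul := fun a b χ => Subtype.ext (Subtype.ext (tw_mul a.1 b.1 χ.1.1)) }
  have hS2 := odd_fixed hP4 hS1
  obtain ⟨⟨χ, hχ⟩⟩ := (Nat.card_pos_iff.mp hS2.pos).1
  have hle := card_stab_le χ.1.2 L4 fun l hl =>
    congrArg (fun x : S1 => x.1.1) (hχ ⟨l, hl⟩)
  have heq : L2 = L4 := Subgroup.eq_of_le_of_card_ge h24 (hle.trans hL2.1)
  have hexp : ∀ k, ∀ l : G →* ℂˣ, l ^ 2 ^ k = 1 → l ^ 2 = 1 := by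
    intro k
    induction k with
    | zero => intro l hl; rw [pow_zero, pow_one] at hl; rw [hl]; exact one_pow (M := G →* ℂˣ) 2
    | succ k ih =>
      intro l hl
      rw [pow_succ', pow_mul] at hl
      have h4 : l ∈ L4 := show l ^ 4 = 1 by
        rw [show 4 = 2 * 2 from rfl, pow_mul]; exact ih _ hl
      exact (heq.symm ▸ h4 : l ∈ L2)
  have hall : L2 = ⊤ := by
    rw [Subgroup.eq_top_iff']
    intro l
    refine hexp n l (MonoidHom.ext fun g => ?_)
    have hcard : Nat.card G = 2 ^ n := hn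
    rw [MonoidHom.pow_apply, MonoidHom.one_apply, ← map_pow, ← hcard, pow_card_eq_one', map_one]
  have hfin : Nat.card L2 = Nat.card (G →* ℂˣ) := by rw [hall, Subgroup.card_top]
  rw [← card_hom_eq_index_commutator, ← hfin]
  have h1 : Nat.card L2 ≤ Nat.card L4 :=
    Nat.card_le_card_of_injective _ (Subgroup.inclusion_injective h24)
  omega

/-- Let G be a finite 2-group whose number of involutions is congruent to 1 modulo 4. Then G is cyclic or its commutator subgroup has index 4. -/
theorem result {G : Type*} [Group G] [Finite G] (hG : IsPGroup 2 G) (ht : Nat.card {x : G // orderOf x = 2} % 4 = 1) : IsCyclic G ∨ (commutator G).index = 4 := by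
  haveI := Fintype.ofFinite G
  by_cases h : IsCyclic G
  · exact Or.inl h
  · exact Or.inr (main hG ht h)

end Cfsg.Agent.S4477
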