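import Cfsg.Agent.Char.SmallArc
import Cfsg.Agent.Char.Burnside
import Mathlib.Analysis.SpecificLimits.Basic

/-!
# Blichfeldt's sixty degree lemma for simple groups

A nontrivial element of a nonabelian simple group has, in a nontrivial irreducible complex
representation, no eigenvalue from which all its other eigenvalues have distance less than one.
-/

set_option autoImplicit false
set_option linter.style.haveILetI false
set_option linter.unusedSectionVars false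

namespace CfsgLib.BlichfeldtArc

set_option maxHeartbeats 400000

open Finset Module Representation CfsgLib.Char.SmallArc
open scoped ComplexConjugate InnerProductSpace

universe u

variable {G : Type u} [Group G] [Fintype G] {n : ℕ} (ρ : Representation ℂ G (Fin n → ℂ))

theorem rep_rep (a b : G) (v : Fin n → ℂ) : ρ a (ρ b v) = ρ (a * b) v := by
  rw [map_mul, Module.End.mul_apply]

theorem shift_conj {g : G} {ε : ℂ} {r : ℝ}
    (hr : ∀ v, ‖emb ρ (ρ g v - ε • v)‖ ≤ r * ‖emb ρ v‖) (c : G) (v : Fin n → ℂ) :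
    ‖emb ρ (ρ (c * g * c⁻¹) v - ε • v)‖ ≤ r * ‖emb ρ v‖ := by
  have h := hr (ρ c⁻¹ v)
  rw [norm_rep] at h
  rw [← norm_rep ρ c, map_sub, map_smul, rep_rep, rep_rep, rep_rep, mul_inv_cancel, map_one,
    Module.End.one_apply] at h
  exact h

/-- A conjugation contracts the distance to the scalar on the eigenspace. -/
theorem contract {g y : G} {ε : ℂ} (hε : ‖ε‖ = 1) {r s : ℝ} (hr0 : 0 ≤ r)
    (hr : ∀ v, ‖emb ρ (ρ g v - ε • v)‖ ≤ r * ‖emb ρ v‖) {v : Fin n → ℂ} (hv : ρ g v = ε • v)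
    (hy : ‖emb ρ (ρ y v - ε • v)‖ ≤ s) :
    ‖emb ρ (ρ (y * g * y⁻¹) v - ε • v)‖ ≤ r * s := by
  have hε0 : ε ≠ 0 := fun h => by rw [h, norm_zero] at hε; exact zero_ne_one hε
  obtain ⟨w, hw⟩ : ∃ w, ρ y⁻¹ v = w := ⟨_, rfl⟩
  have hyw : ρ y w = v := by rw [← hw, rep_rep, mul_inv_cancel, map_one, Module.End.one_apply]
  have hD : ρ (y * g * y⁻¹) v - ε • v = ρ y (ρ g w - ε • w) := by
    rw [map_sub, map_smul, hyw, ← hw, rep_rep, rep_rep, mul_assoc]
  have hsh : ρ g w - ε • w = ρ g (w - ε⁻¹ • v) - ε • (w - ε⁻¹ • v) := by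
    rw [map_sub, map_smul, hv, smul_sub]
    module
  have hn : ‖emb ρ (w - ε⁻¹ • v)‖ = ‖emb ρ (ρ y v - ε • v)‖ := by
    have e : ρ y (w - ε⁻¹ • v) = (-ε⁻¹) • (ρ y v - ε • v) := by
      rw [map_sub, map_smul, hyw, smul_sub, smul_smul, neg_mul, inv_mul_cancel₀ hε0]
      module
    rw [← norm_rep ρ y, e, map_smul, norm_smul, norm_neg, norm_inv, hε, inv_one, one_mul]
  rw [hD, norm_rep, hsh]
  exact (hr _).trans (mul_le_mul_of_nonneg_left (hn.trans_le hy) hr0)

theorem proj_mem {g : G} {μ : ℂ} (W : Submodule ℂ (Fin n → ℂ)) (hW : ∀ v ∈ W, ρ g v ∈ W)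
    {w : Fin n → ℂ} (hw : w ∈ W) : proj ρ g μ w ∈ W := by
  have hpow : ∀ j : ℕ, ρ (g ^ j) w ∈ W := by
    intro j
    induction j with
    | zero => simpa using hw
    | succ j ih => rw [pow_succ', ← rep_rep]; exact hW _ ih
  simp only [proj, LinearMap.smul_apply, LinearMap.sum_apply]
  exact W.smul_mem _ (W.sum_mem fun j _ => W.smul_mem _ (hpow j))

/-- If `y g y⁻¹` preserves the eigenspace, so does `y`, when `y` is near the scalar. -/
theorem stab_step {g y : G} {ε : ℂ} (hεr : ε ∈ roots g) {r : ℝ} (hr0 : 0 ≤ r) (hr1 : r < 1)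
    (hy : ∀ v, ‖emb ρ (ρ y v - ε • v)‖ ≤ r * ‖emb ρ v‖)
    (E : Submodule ℂ (Fin n → ℂ)) (hE : ∀ v, v ∈ E ↔ ρ g v = ε • v)
    (hD : ∀ v ∈ E, ρ (y * g * y⁻¹) v ∈ E) : ∀ v ∈ E, ρ y v ∈ E := by
  classical
  have hε : ‖ε‖ = 1 :=
    Complex.norm_eq_one_of_pow_eq_one (mem_roots.1 hεr) (orderOf_pos g).ne'
  have hinv : ∀ v ∈ E, ρ y⁻¹ v ∈ E := by
    intro v hv
    obtain ⟨w, hw⟩ : ∃ w, ρ y⁻¹ v = w := ⟨_, rfl⟩
    have hWinv : ∀ z ∈ E.comap (ρ y), ρ g z ∈ E.comap (ρ y) := fun z hz => by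
      have h := hD _ hz
      rw [rep_rep] at h
      rw [Submodule.mem_comap, rep_rep]
      simpa [mul_assoc] using h
    have hwW : w ∈ E.comap (ρ y) := by
      rw [Submodule.mem_comap, ← hw, rep_rep, mul_inv_cancel, map_one]
      simpa using hv
    obtain ⟨u, hu⟩ : ∃ u, w - proj ρ g ε w = u := ⟨_, rfl⟩
    have huW : u ∈ E.comap (ρ y) := hu ▸ Submodule.sub_mem _ hwW (proj_mem ρ _ hWinv hwW)
    have huS : u = ∑ μ ∈ (roots g).erase ε, proj ρ g μ w := by
      rw [← hu]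
      conv_lhs => arg 1; rw [← sum_proj ρ g w, ← Finset.add_sum_erase _ _ hεr]
      rw [add_sub_cancel_left]
    have horth : ⟪emb ρ (ρ y u), emb ρ u⟫_ℂ = 0 := by
      have he : emb ρ u = ∑ μ ∈ (roots g).erase ε, emb ρ (proj ρ g μ w) := by
        rw [← map_sum, ← huS]
      rw [he, inner_sum]
      refine sum_eq_zero fun μ hμ => ?_
      rw [mem_erase] at hμ
      exact inner_eigen ρ g hεr hμ.1.symm ((hE _).1 huW) (rep_proj_apply ρ g hμ.2 w)
    have h1 := hy u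
    rw [map_sub, map_smul] at h1
    have h2 : ‖emb ρ (ρ y u) - ε • emb ρ u‖ ^ 2 = 2 * ‖emb ρ u‖ ^ 2 := by
      rw [@norm_sub_sq ℂ, inner_smul_right, horth, mul_zero, map_zero, norm_smul, hε, one_mul,
        norm_rep]
      ring
    have h3 : 2 * ‖emb ρ u‖ ^ 2 ≤ r ^ 2 * ‖emb ρ u‖ ^ 2 := by
      rw [← h2, ← mul_pow]
      exact pow_le_pow_left₀ (norm_nonneg _) h1 2
    have h4 : r ^ 2 ≤ 1 := pow_le_one₀ hr0 hr1.le
    have h5 : ‖emb ρ u‖ = 0 := by nlinarith [norm_nonneg (emb ρ u)]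
    have h6 : u = 0 := emb_injective ρ (by rw [map_zero]; exact norm_eq_zero.1 h5)
    rw [h6, sub_eq_zero] at hu
    rw [hw, hu]
    exact (hE _).2 (rep_proj_apply ρ g hεr w)
  intro v hv
  have hpow : ∀ k : ℕ, ρ (y⁻¹ ^ k) v ∈ E := by
    intro k
    induction k with
    | zero => simpa using hv
    | succ k ih => rw [pow_succ', ← rep_rep]; exact hinv _ ih
  have e : y⁻¹ ^ (orderOf y - 1) = y := by
    have h := pow_orderOf_eq_one y⁻¹
    rw [orderOf_inv] at h
    rw [← Nat.sub_add_cancel (orderOf_pos y), pow_succ] at h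
    simpa using mul_eq_one_iff_eq_inv.1 h
  rw [← e]
  exact hpow _

/-- Blichfeldt: in a nontrivial irreducible representation of a nonabelian simple group, a
nontrivial element has no eigenvalue from which all its eigenvalues have distance less than one. -/
theorem false_of_arc [IsSimpleGroup G] (hna : ¬ ∀ a b : G, a * b = b * a) [ρ.IsIrreducible]
    (hne : ρ.character ≠ fun _ => 1) {g : G} (hg : g ≠ 1) {ε : ℂ} (he : IsEigen ρ g ε)
    (hall : ∀ μ, IsEigen ρ g μ → ‖μ - ε‖ < 1) : False := by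
  classical
  have hεr : ε ∈ roots g := eigen_mem_roots ρ he
  have hε : ‖ε‖ = 1 :=
    Complex.norm_eq_one_of_pow_eq_one (mem_roots.1 hεr) (orderOf_pos g).ne'
  obtain ⟨F, hF⟩ : ∃ F, ((roots g).filter (IsEigen ρ g)).image (fun μ => ‖μ - ε‖) = F :=
    ⟨_, rfl⟩
  have hFne : F.Nonempty := hF ▸ ⟨_, mem_image_of_mem _ (mem_filter.2 ⟨hεr, he⟩)⟩
  obtain ⟨r, hr⟩ : ∃ r, F.max' hFne = r := ⟨_, rfl⟩
  have hrF : r ∈ F := hr ▸ F.max'_mem hFne
  rw [← hF, mem_image] at hrF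
  obtain ⟨μ₀, hμ₀, hμr⟩ := hrF
  have hr0 : 0 ≤ r := hμr ▸ norm_nonneg _
  have hr1 : r < 1 := hμr ▸ hall μ₀ (mem_filter.1 hμ₀).2
  have hbd : ∀ v, ‖emb ρ (ρ g v - ε • v)‖ ≤ r * ‖emb ρ v‖ :=
    norm_shift_le ρ g ε hr0 fun μ hμ hμe => hr ▸ F.le_max' _
      (hF ▸ mem_image_of_mem _ (mem_filter.2 ⟨hμ, hμe⟩))
  obtain ⟨E, hE⟩ : ∃ E : Submodule ℂ (Fin n → ℂ), ∀ v, v ∈ E ↔ ρ g v = ε • v :=
    ⟨LinearMap.ker (ρ g - ε • LinearMap.id), fun v => by simp [sub_eq_zero]⟩
  -- every conjugate of `g` preserves `E`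
  have hconj : ∀ c : G, ∀ v ∈ E, ρ (c * g * c⁻¹) v ∈ E := by
    intro c
    by_contra hno
    obtain ⟨Y, hY0, hYs⟩ : ∃ Y : ℕ → G, Y 0 = c * g * c⁻¹ ∧
        ∀ k, Y (k + 1) = Y k * g * (Y k)⁻¹ :=
      ⟨fun k => Nat.rec (c * g * c⁻¹) (fun _ y => y * g * y⁻¹) k, rfl, fun _ => rfl⟩
    have hYc : ∀ k, ∃ d, Y k = d * g * d⁻¹ := by
      intro k
      cases k with
      | zero => exact ⟨c, hY0⟩
      | succ k => exact ⟨Y k, hYs k⟩
    have hout : ∀ k, ¬ ∀ v ∈ E, ρ (Y k) v ∈ E := by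
      intro k
      induction k with
      | zero => rwa [hY0]
      | succ k ih =>
        intro h
        rw [hYs] at h
        obtain ⟨d, hd⟩ := hYc k
        have hyb : ∀ v, ‖emb ρ (ρ (Y k) v - ε • v)‖ ≤ r * ‖emb ρ v‖ := by
          rw [hd]; exact shift_conj ρ hbd d
        exact ih (stab_step ρ hεr hr0 hr1 hyb E hE h)
    have hdec : ∀ k, ∀ v ∈ E, ‖emb ρ (ρ (Y k) v - ε • v)‖ ≤ r ^ (k + 1) * ‖emb ρ v‖ := by
      intro k
      induction k with
      | zero => intro v _; rw [hY0, pow_one]; exact shift_conj ρ hbd c v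
      | succ k ih =>
        intro v hv
        rw [hYs, pow_succ' r (k + 1), mul_assoc r]
        have h1 : ‖emb ρ (ρ (Y k) v - ε • v)‖ ≤ r ^ (k + 1) * ‖emb ρ v‖ := ih v hv
        have h2 : ρ g v = ε • v := (hE v).1 hv
        have h3 := @contract _ _ _ _ ρ g (Y k) ε hε r (r ^ (k + 1) * ‖emb ρ v‖) hr0 hbd v h2 h1
        exact h3
    obtain ⟨k, l, hkl, hYkl⟩ := Finite.exists_ne_map_eq_of_infinite Y
    wlog hlt : k < l generalizing k l
    · exact this l k hkl.symm hYkl.symm (lt_of_le_of_ne (not_lt.1 hlt) hkl.symm)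
    have hshift : ∀ m, Y (k + m) = Y (l + m) := by
      intro m
      induction m with
      | zero => exact hYkl
      | succ m ih => rw [← add_assoc, ← add_assoc, hYs, hYs, ih]
    have hper : ∀ i, Y (k + i * (l - k)) = Y k := by
      intro i
      induction i with
      | zero => simp
      | succ i ih =>
        rw [← ih, hshift (i * (l - k))]
        congr 1
        rw [Nat.succ_mul]
        omega
    refine hout k fun v hv => ?_
    have h0 : ‖emb ρ (ρ (Y k) v - ε • v)‖ = 0 := by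
      refine le_antisymm ?_ (norm_nonneg _)
      refine le_of_forall_pos_le_add fun δ hδ => ?_
      obtain ⟨i, hi⟩ := exists_pow_lt_of_lt_one
        (show (0 : ℝ) < δ / (‖emb ρ v‖ + 1) by positivity) hr1
      have h1 := hdec (k + i * (l - k)) v hv
      rw [hper] at h1
      have h2 : r ^ (k + i * (l - k) + 1) ≤ r ^ i :=
        pow_le_pow_of_le_one hr0 hr1.le (by
          have : i * 1 ≤ i * (l - k) := Nat.mul_le_mul_left i (by omega)
          omega)
      have h3 : r ^ i * ‖emb ρ v‖ ≤ δ := by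
        rw [lt_div_iff₀ (by positivity)] at hi
        nlinarith [norm_nonneg (emb ρ v), pow_nonneg hr0 i]
      nlinarith [mul_le_mul_of_nonneg_right h2 (norm_nonneg (emb ρ v))]
    have h1 : ρ (Y k) v = ε • v := sub_eq_zero.1
      (emb_injective ρ (by rw [map_zero]; exact norm_eq_zero.1 h0))
    rw [h1]
    exact E.smul_mem _ hv
  obtain ⟨N, hN⟩ : ∃ N : Subgroup G, ∀ y, y ∈ N ↔ ∀ v ∈ E, ρ y v ∈ E :=
    ⟨{ carrier := {y | ∀ v ∈ E, ρ y v ∈ E}
       one_mem' := fun v hv => by simpa using hv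
       mul_mem' := fun {a b} ha hb v hv => by rw [← rep_rep]; exact ha _ (hb _ hv)
       inv_mem' := fun {a} ha v hv => by
         have hp : ∀ k : ℕ, ρ (a ^ k) v ∈ E := by
           intro k
           induction k with
           | zero => simpa using hv
           | succ k ih => rw [pow_succ', ← rep_rep]; exact ha _ ih
         have e : a⁻¹ = a ^ (orderOf a - 1) := by
           have h := pow_orderOf_eq_one a
           rw [← Nat.sub_add_cancel (orderOf_pos a), pow_succ] at h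
           exact (mul_eq_one_iff_eq_inv.1 h).symm
         rw [e]; exact hp _ }, fun _ => Iff.rfl⟩
  have htop : N = ⊤ := by
    refine top_le_iff.1 ?_
    have h1 : Subgroup.normalClosure ({g} : Set G) = ⊤ := by
      refine (Subgroup.normalClosure_normal (s := ({g} : Set G))).eq_bot_or_eq_top.resolve_left
        fun hb => hg ?_
      have := Subgroup.subset_normalClosure (Set.mem_singleton g)
      rw [hb] at this
      exact Subgroup.mem_bot.1 this
    rw [← h1, Subgroup.normalClosure, Subgroup.closure_le]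
    intro x hx
    obtain ⟨a, ha, hax⟩ := Group.mem_conjugatesOfSet_iff.1 hx
    obtain ⟨c, rfl⟩ := isConj_iff.1 hax
    rw [Set.mem_singleton_iff] at ha
    subst ha
    exact (hN _).2 (hconj c)
  obtain ⟨v₀, hv₀, hv₀'⟩ := he
  let W : Subrepresentation ρ := ⟨E, fun y v hv => (hN y).1 (htop ▸ Subgroup.mem_top y) v hv⟩
  have hWtop : W = ⊤ := (eq_bot_or_eq_top W).resolve_left fun hb => hv₀ <| by
    have h1 : v₀ ∈ W.toSubmodule := (hE _).2 hv₀'
    rw [hb] at h1
    exact (Submodule.mem_bot ℂ).1 h1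
  have hsc : ρ g = ε • (1 : Module.End ℂ (Fin n → ℂ)) := by
    refine LinearMap.ext fun v => ?_
    have h1 : v ∈ W.toSubmodule := by rw [hWtop]; exact Submodule.mem_top
    simpa using (hE v).1 h1
  refine hne (CfsgLib.Char.eq_one_of_norm_eq_of_simple hna ρ hg ?_)
  rw [Representation.character, hsc, map_smul, LinearMap.trace_one, smul_eq_mul, norm_mul, hε,
    one_mul, Complex.norm_natCast]

/-- The sixty degree cells. -/
noncomputable def cell (z : ℂ) : Fin 6 :=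
  ⟨(⌊Complex.arg z * 3 / Real.pi⌋ % 6).toNat, by omega⟩

theorem dist_lt_of_cell_eq {z z' : ℂ} (hz : ‖z‖ = 1) (hz' : ‖z'‖ = 1) (h : cell z = cell z') :
    ‖z' - z‖ < 1 := by
  have h1 : ⌊Complex.arg z * 3 / Real.pi⌋ % 6 = ⌊Complex.arg z' * 3 / Real.pi⌋ % 6 := by
    have := congrArg Fin.val h
    simp only [cell] at this
    omega
  obtain ⟨k, hk⟩ : (6 : ℤ) ∣ ⌊Complex.arg z' * 3 / Real.pi⌋ - ⌊Complex.arg z * 3 / Real.pi⌋ :=
    Int.ModEq.dvd h1
  have e1 : ∀ w : ℂ, ‖w‖ = 1 → w.re = Real.cos w.arg ∧ w.im = Real.sin w.arg := by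
    intro w hw
    have hw0 : w ≠ 0 := fun h => by rw [h, norm_zero] at hw; exact zero_ne_one hw
    rw [Complex.cos_arg hw0, Complex.sin_arg, hw, div_one, div_one]
    exact ⟨rfl, rfl⟩
  obtain ⟨hr, hi⟩ := e1 z hz
  obtain ⟨hr', hi'⟩ := e1 z' hz'
  obtain ⟨a, ha⟩ : ∃ a, z.arg = a := ⟨_, rfl⟩
  obtain ⟨a', ha'⟩ : ∃ a', z'.arg = a' := ⟨_, rfl⟩
  rw [ha, ha'] at hk
  rw [ha] at hr hi
  rw [ha'] at hr' hi'
  have hpi := Real.pi_pos
  obtain ⟨δ, hδ⟩ : ∃ δ, a' - a - (k : ℝ) * (2 * Real.pi) = δ := ⟨_, rfl⟩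
  have hk' : (⌊a' * 3 / Real.pi⌋ : ℝ) - ⌊a * 3 / Real.pi⌋ = 6 * k := by exact_mod_cast hk
  have f1 := Int.floor_le (a * 3 / Real.pi)
  have f2 := Int.lt_floor_add_one (a * 3 / Real.pi)
  have f3 := Int.floor_le (a' * 3 / Real.pi)
  have f4 := Int.lt_floor_add_one (a' * 3 / Real.pi)
  have hd : δ * 3 / Real.pi = a' * 3 / Real.pi - a * 3 / Real.pi - 6 * k := by
    rw [← hδ]; field_simp; ring
  have hlo : -1 < δ * 3 / Real.pi := by rw [hd]; linarith
  have hhi : δ * 3 / Real.pi < 1 := by rw [hd]; linarith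
  rw [lt_div_iff₀ hpi] at hlo
  rw [div_lt_iff₀ hpi] at hhi
  have habs : |δ| < Real.pi / 3 := abs_lt.2 ⟨by linarith, by linarith⟩
  have hcos : Real.cos (Real.pi / 3) < Real.cos |δ| :=
    Real.cos_lt_cos_of_nonneg_of_le_pi (abs_nonneg δ) (by linarith) habs
  rw [Real.cos_abs, Real.cos_pi_div_three] at hcos
  have e2 : Real.cos a * Real.cos a' + Real.sin a * Real.sin a' = Real.cos δ := by
    rw [← hδ, Real.cos_sub_int_mul_two_pi, Real.cos_sub]; ring
  have e3 : ‖z' - z‖ ^ 2 = 2 - 2 * Real.cos δ := by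
    rw [Complex.sq_norm, Complex.normSq_apply, Complex.sub_re, Complex.sub_im, hr, hi, hr', hi',
      ← e2]
    linear_combination Real.sin_sq_add_cos_sq a + Real.sin_sq_add_cos_sq a'
  nlinarith [norm_nonneg (z' - z)]

theorem proj_rep_pow (g : G) (μ : ℂ) (s : ℕ) (v : Fin n → ℂ) :
    proj ρ g μ (ρ (g ^ s) v) = ρ (g ^ s) (proj ρ g μ v) := by
  simp only [proj, LinearMap.smul_apply, LinearMap.sum_apply, map_smul, map_sum, rep_rep,
    ← pow_add, add_comm]

/-- Eigenvalues of a power are powers of eigenvalues. -/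
theorem eigen_pow (g : G) (s : ℕ) {ν : ℂ} (h : IsEigen ρ (g ^ s) ν) :
    ∃ μ, IsEigen ρ g μ ∧ ν = μ ^ s := by
  obtain ⟨v, hv, hv'⟩ := h
  obtain ⟨μ, hμ, hμv⟩ : ∃ μ ∈ roots g, proj ρ g μ v ≠ 0 := by
    by_contra hno
    push Not at hno
    exact hv (by rw [← sum_proj ρ g v]; exact sum_eq_zero hno)
  refine ⟨μ, ⟨_, hμv, rep_proj_apply ρ g hμ v⟩, ?_⟩
  have h1 : ρ (g ^ s) (proj ρ g μ v) = ν • proj ρ g μ v := by
    rw [← proj_rep_pow, hv', map_smul]
  have h2 : ∀ j : ℕ, ρ (g ^ j) (proj ρ g μ v) = μ ^ j • proj ρ g μ v := by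
    intro j
    induction j with
    | zero => simp
    | succ j ih =>
      rw [pow_succ', ← rep_rep, ih, map_smul, rep_proj_apply ρ g hμ, smul_smul, pow_succ]
  exact smul_left_injective ℂ hμv (h1.symm.trans (h2 s))

theorem isEigen_pow (g : G) (s : ℕ) {μ : ℂ} (h : IsEigen ρ g μ) :
    IsEigen ρ (g ^ s) (μ ^ s) := by
  obtain ⟨v, hv, hv'⟩ := h
  refine ⟨v, hv, ?_⟩
  induction s with
  | zero => simp
  | succ s ih => rw [pow_succ', ← rep_rep, ih, map_smul, hv', smul_smul, pow_succ]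

/-- The multiplicity of an eigenvalue, as the trace of the projection. -/
theorem exists_mult (g : G) {μ : ℂ} (hμ : μ ∈ roots g) :
    ∃ m : ℕ, LinearMap.trace ℂ _ (proj ρ g μ) = m ∧ (IsEigen ρ g μ → 0 < m) := by
  obtain ⟨P, hP⟩ : ∃ P, proj ρ g μ = P := ⟨_, rfl⟩
  have hfix : ∀ z, ρ g z = μ • z → P z = z := by
    intro z hz
    have hμ0 : μ ≠ 0 := fun h0 => by
      have := mem_roots.1 hμ
      rw [h0, zero_pow (orderOf_pos g).ne'] at this
      exact zero_ne_one this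
    have hpz : ∀ j : ℕ, ρ (g ^ j) z = μ ^ j • z := by
      intro j
      induction j with
      | zero => simp
      | succ j ih => rw [pow_succ', ← rep_rep, ih, map_smul, hz, smul_smul, pow_succ]
    rw [← hP]
    simp only [proj, LinearMap.smul_apply, LinearMap.sum_apply]
    rw [sum_congr rfl fun j _ => by
      rw [hpz, smul_smul, ← mul_pow, inv_mul_cancel₀ hμ0, one_pow, one_smul], sum_const, card_range,
      ← Nat.cast_smul_eq_nsmul ℂ, smul_smul,
      inv_mul_cancel₀ (Nat.cast_ne_zero.2 (orderOf_pos g).ne'), one_smul]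
  have hproj : LinearMap.IsProj (LinearMap.range P) P := by
    refine ⟨fun v => LinearMap.mem_range_self P v, fun v hv => ?_⟩
    obtain ⟨u, rfl⟩ := hv
    exact hfix _ (by rw [← hP]; exact rep_proj_apply ρ g hμ u)
  refine ⟨finrank ℂ (LinearMap.range P), by rw [hP, hproj.trace], fun he => ?_⟩
  obtain ⟨v, hv, hv'⟩ := he
  refine Nat.pos_of_ne_zero fun h0 => hv ?_
  rw [Submodule.finrank_eq_zero, LinearMap.range_eq_bot] at h0
  rw [← hfix v hv', h0, LinearMap.zero_apply]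

theorem sum_trace_proj (g : G) :
    ∑ μ ∈ roots g, LinearMap.trace ℂ _ (proj ρ g μ) = (n : ℂ) := by
  have h : ∑ μ ∈ roots g, proj ρ g μ = 1 :=
    LinearMap.ext fun v => by rw [LinearMap.sum_apply, sum_proj, Module.End.one_apply]
  rw [← map_sum, h, LinearMap.trace_one, Module.finrank_fin_fun]

end CfsgLib.BlichfeldtArc
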