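import Cfsg.Statements.S4937
import Cfsg.Agent.Blocks.DadeExtension
-- import your own Cfsg.Agent.* helpers here

set_option autoImplicit false
open Cfsg

namespace Cfsg.Agent.S4937

/-- Let G be a finite group, p a prime, M a maximal ideal of the algebraic integers containing p, N a normal subgroup of G and P a Sylow p-subgroup of N such that G = N·C_G(P). Let θ be an irreducible character in the principal p-block of N that is the restriction of some irreducible character of G. Then θ is the restriction of an irreducible character χ of G lying in the principal p-block of G such that, for every subgroup J of G containing N, the restriction of χ to J is an irreducible character of J lying in the principal p-block of J. -/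
theorem result {G : Type*} [Group G] [Finite G] (p : ℕ) [Fact p.Prime] (M : Ideal Cfsg.AlgInt) (hM : Cfsg.IsPModular p M) (N : Subgroup G) [N.Normal] (P : Sylow p ↥N)
    (hcov : N ⊔ Subgroup.centralizer (((P : Subgroup ↥N).map N.subtype : Subgroup G) : Set G) = ⊤)
    (θ : Cfsg.IrrCharacter ↥N) (hθ : θ ∈ Cfsg.principalBlock M ↥N)
    (hext : ∃ ψ : Cfsg.IrrCharacter G, ∀ x : ↥N, (ψ : G → ℂ) x = (θ : ↥N → ℂ) x) :
    ∃ χ : Cfsg.IrrCharacter G, χ ∈ Cfsg.principalBlock M G ∧ (∀ x : ↥N, (χ : G → ℂ) x = (θ : ↥N → ℂ) x) ∧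
      ∀ J : Subgroup G, N ≤ J → ∃ ξ : Cfsg.IrrCharacter ↥J, ξ ∈ Cfsg.principalBlock M ↥J ∧ ∀ y : ↥J, (ξ : ↥J → ℂ) y = (χ : G → ℂ) y := by
  classical
  haveI := CfsgLib.Block.isPrime_of_isPModular hM
  haveI := Fintype.ofFinite G
  haveI := Fintype.ofFinite N
  obtain ⟨ψ, hψ⟩ := hext
  have hcov' : ∀ g : G, ∃ a ∈ N, ∃ c : G,
      (∀ u : (P : Subgroup N), ((u : N) : G) * c = c * ((u : N) : G)) ∧ a * c = g := fun g => by
    obtain ⟨a, ha, c, hc, h⟩ := Subgroup.mem_sup_of_normal_left.1
      (hcov ▸ Subgroup.mem_top g : g ∈ N ⊔ _)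
    exact ⟨a, ha, c, fun u => Subgroup.mem_centralizer_iff.1 hc _ ⟨u.1, u.2, rfl⟩, h⟩
  obtain ⟨n, ρ, hirrN, hρθ, hphi⟩ :=
    CfsgLib.Block.Dade.exists_normalized hM P hcov' hθ ψ hψ
  have key : ∀ {J : Type _} [Group J] [Fintype J] (f : J →* G), Function.Injective f →
      (∀ a ∈ N, ∃ j, f j = a) →
      ∃ ξ : Cfsg.IrrCharacter J, ξ ∈ Cfsg.principalBlock M J ∧
        ∀ y : J, (ξ : J → ℂ) y = ρ.character (f y) := by
    intro J _ _ f hf hNf
    let σ : Representation ℂ J (Fin n → ℂ) := ρ.comp f
    have hne : Nontrivial (Fin n → ℂ) := by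
      haveI := hirrN
      exact Module.nontrivial_of_finrank_pos (R := ℂ)
        (CfsgLib.Char.finrank_pos_of_isIrreducible (CfsgLib.Block.Dade.resN ρ N))
    have hσ : σ.IsIrreducible := by
      refine CfsgLib.Char.isIrreducible_of_no_sub σ fun S => ?_
      haveI := hirrN
      let S' : Subrepresentation (CfsgLib.Block.Dade.resN ρ N) :=
        ⟨S.toSubmodule, fun a x hx => by
          obtain ⟨j, hj⟩ := hNf (a : G) a.2
          have := S.apply_mem_toSubmodule j hx
          simpa [σ, CfsgLib.Block.Dade.resN, hj] using this⟩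
      rcases IsSimpleOrder.eq_bot_or_eq_top S' with h | h
      · exact Or.inl (Subrepresentation.toSubmodule_injective
          (congrArg Subrepresentation.toSubmodule h :))
      · exact Or.inr (Subrepresentation.toSubmodule_injective
          (congrArg Subrepresentation.toSubmodule h :))
    refine ⟨⟨σ.character, n, σ, hσ, rfl⟩, fun h => ?_, fun y => rfl⟩
    let S : Finset G := (Finset.univ.filter fun x : J => IsConj h x).image f
    have hS : CfsgLib.Block.Dade.Inv N S := fun a ha s hs => by
      obtain ⟨x, hx, rfl⟩ := Finset.mem_image.1 hs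
      obtain ⟨j, rfl⟩ := hNf a ha
      refine Finset.mem_image.2 ⟨j * x * j⁻¹, Finset.mem_filter.2 ⟨Finset.mem_univ _,
        (Finset.mem_filter.1 hx).2.trans (isConj_iff.2 ⟨j, rfl⟩)⟩, by simp⟩
    have hcard : S.card = (Subgroup.centralizer ({h} : Set J)).index := by
      rw [Finset.card_image_of_injective _ hf, CfsgLib.Block.Chr.card_class]
    have hval : CfsgLib.Block.Dade.phi ρ S = Cfsg.centralChar σ.character h := by
      rw [CfsgLib.Block.Dade.phi, Finset.sum_image fun x _ y _ e => hf e]
      have e : ∀ x ∈ Finset.univ.filter (fun x : J => IsConj h x),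
          ρ.character (f x) = σ.character h := fun x hx => by
        obtain ⟨j, rfl⟩ := isConj_iff.1 (Finset.mem_filter.1 hx).2
        exact (σ.char_conj h j : _)
      rw [Finset.sum_congr rfl e, Finset.sum_const, nsmul_eq_mul, CfsgLib.Block.Chr.card_class,
        Cfsg.centralChar, show σ.character 1 = ρ.character (f 1) from rfl, map_one]
    have h1 := hphi S hS
    rw [hval, hcard] at h1
    show Cfsg.MemLocalIdeal M (Cfsg.centralChar (fun _ : J => (1 : ℂ)) h - _)
    refine CfsgLib.Block.memLocalIdeal_sub_comm ?_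
    have e1 : Cfsg.centralChar (fun _ : J => (1 : ℂ)) h =
        ((Subgroup.centralizer ({h} : Set J)).index : ℂ) := by simp [Cfsg.centralChar]
    rw [e1]
    exact h1
  obtain ⟨χ, hχ, hχv⟩ := key (MonoidHom.id G) Function.injective_id fun a _ => ⟨a, rfl⟩
  refine ⟨χ, hχ, fun x => (hχv x).trans (hρθ x), fun J hJ => ?_⟩
  haveI := Fintype.ofFinite J
  obtain ⟨ξ, hξ, hξv⟩ := key J.subtype J.subtype_injective fun a ha => ⟨⟨a, hJ ha⟩, rfl⟩
  exact ⟨ξ, hξ, fun y => (hξv y).trans (hχv y).symm⟩

end Cfsg.Agent.S4937
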