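import Cfsg.Statements.S4649
import Cfsg.Agent.BlocksB.Cyclic.Main

set_option autoImplicit false
open Cfsg

namespace Cfsg.Agent.S4649

/-- A block with cyclic defect group, of a finite group relative to a maximal ideal M of the algebraic integers containing the prime p, is nilpotent if and only if its p-regular rank is 1 (it has a unique irreducible Brauer character). -/
theorem result {G : Type*} [Group G] [Finite G] (p : ℕ) [Fact p.Prime] (M : Ideal Cfsg.AlgInt) (hM : Cfsg.IsPModular p M) (B : Set (Cfsg.IrrCharacter G)) (hB : Cfsg.IsPBlock M B) (P : Subgroup G) (hPD : Cfsg.IsDefectGroup p M B P) (hcyc : IsCyclic P) : Cfsg.IsNilpotentBlock p M B ↔ Cfsg.blockRank p B = 1 := by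
  haveI := hM.2.1.isPrime
  haveI := CfsgLib.Block.charP_residue hM
  haveI := Fintype.ofFinite G
  haveI := Fintype.ofFinite (Subgroup.centralizer (P : Set G))
  have hab := CfsgLib.Cyclic.commute_of_cyclic hcyc
  have hPC : P ≤ Subgroup.centralizer (P : Set G) := fun x hx =>
    Subgroup.mem_centralizer_iff.2 fun y hy => hab y hy x hx
  obtain ⟨c, hc, -⟩ := CfsgLib.BlockB.exists_induced_of_central hM hB hPD le_rfl hPC
  obtain ⟨hP, hmax⟩ := CfsgLib.Inertial.maxPair_of_induced hM hB hPD hab hc
  rw [CfsgLib.BrauerPairs.isNilpotentBlock_iff hM, and_iff_right hB,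
    CfsgLib.BrauerPairs.isNil_iff_of_abelian hP (CfsgLib.BrauerPairs.isBlk_idem hM hB) hmax hab
      (fun R f h => CfsgLib.BrauerPairs.isSplit_of_isPair hM R f h)]
  by_cases hP1 : P = ⊥
  · refine iff_of_true (fun t _ => Subgroup.mem_centralizer_iff.2 fun y hy => ?_)
      (CfsgLib.BlockB.card_and_rank_of_defect_zero hM hB ?_).2
    · rw [hP1] at hy
      rw [Subgroup.mem_bot.1 hy, one_mul, mul_one]
    · have h := CfsgLib.Block.card_defectGroup hM hB hPD
      rw [hP1, Subgroup.card_bot] at h
      exact Nat.eq_zero_of_not_pos fun h0 =>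
        absurd h (Nat.one_lt_pow h0.ne' (Fact.out : p.Prime).one_lt).ne
  · obtain ⟨t, n, S⟩ := CfsgLib.Cyclic.exists_cycData hM hB hPD hcyc hP1 hc
    rw [CfsgLib.Cyclic.rank_eq S, S.n_eq, Subgroup.relIndex_eq_one]

end Cfsg.Agent.S4649
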