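-- Proof of statement S0867.
import Cfsg.Statements.S0867
import Cfsg.Agent.Char.ExtendInv

set_option autoImplicit false
open Cfsg

namespace Cfsg.Agent.S0867

/-- Let N be a normal subgroup of the finite group G and ϑ an irreducible character of N of degree d, invariant under conjugation by G, such that the index of N is coprime to the product of d and the determinantal order of ϑ. Then there is an irreducible character χ of G restricting to ϑ whose determinantal order equals that of ϑ, and χ is the only irreducible character of G restricting to ϑ whose determinantal order is coprime to the index of N. -/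
theorem result {G : Type*} [Group G] [Finite G] (N : Subgroup G) [hN : N.Normal] (ϑ : N → ℂ) (hϑ : Cfsg.IsIrrCharacter N ϑ) (hinv : ∀ (g : G) (n : N), ϑ ⟨g * n * g⁻¹, hN.conj_mem (n : G) n.2 g⟩ = ϑ n) (d : ℕ) (hd : ϑ 1 = d) (hcop : Nat.Coprime N.index (Cfsg.detOrder ϑ * d)) : ∃ χ : G → ℂ, (Cfsg.IsIrrCharacter G χ ∧ (∀ n : N, χ n = ϑ n) ∧ Cfsg.detOrder χ = Cfsg.detOrder ϑ) ∧ ∀ χ' : G → ℂ, Cfsg.IsIrrCharacter G χ' → (∀ n : N, χ' n = ϑ n) → Nat.Coprime N.index (Cfsg.detOrder χ') → χ' = χ := by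
  classical
  haveI := Fintype.ofFinite G
  obtain ⟨f, hf, -⟩ := CfsgLib.Char.exists_detHom
    (CfsgLib.Char.IsIrrCharacter.isCharacter hϑ) hd
  have hfo : orderOf f = Cfsg.detOrder ϑ := by
    rw [Cfsg.detOrder, funext hf, CfsgLib.Char.orderOf_coe_hom]
  have hcd : Nat.Coprime N.index d := (Nat.coprime_mul_iff_right.1 hcop).2
  have hfinv : ∀ (g : G) (n : N), f ⟨g * n * g⁻¹, hN.conj_mem (n : G) n.2 g⟩ = f n := fun g n => by
    obtain ⟨m, σ, hσ, rfl⟩ := hϑ
    let σg : Representation ℂ N (Fin m → ℂ) := σ.comp (MulAut.conjNormal g).toMonoidHom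
    have hc : σg.character = σ.character := funext fun x => hinv g x
    have h1 := CfsgLib.Char.detChar_eq σg n
    rw [hc, hf] at h1
    refine Units.ext ?_
    rw [h1, ← hf, CfsgLib.Char.detChar_eq]
    rfl
  obtain ⟨F, hF, ho, huniq⟩ := CfsgLib.Char.exists_canonical_linear_extension f hfinv
    (by rw [hfo]; exact (Nat.coprime_mul_iff_right.1 hcop).1)
  have hFN : ∀ n : N, ((F n : ℂˣ) : ℂ) = Cfsg.detChar ϑ n := fun n => by rw [hF, hf]
  have hext := CfsgLib.Char.exists_extension_of_det hϑ hinv hd 1 (by rwa [mul_one])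
    (fun g => (F g : ℂ)) ⟨CfsgLib.Char.isCharacter_ofHom F, by simp⟩
    (fun n => by rw [pow_one]; exact hFN n)
  obtain ⟨χ, ⟨hχ, hχN, hχd⟩, hu⟩ := CfsgLib.Char.existsUnique_extension_det hϑ hd hcd hext
    (fun g => (F g : ℂ)) ⟨CfsgLib.Char.isCharacter_ofHom F, by simp⟩ hFN
  refine ⟨χ, ⟨hχ, hχN, ?_⟩, fun χ' hχ' hN' hc' => ?_⟩
  · rw [Cfsg.detOrder, hχd, CfsgLib.Char.orderOf_coe_hom, ho, hfo]
  · have hd' : χ' 1 = d := by rw [← hd, ← hN' 1, OneMemClass.coe_one]
    obtain ⟨D, hD, -⟩ :=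
      CfsgLib.Char.exists_detHom (CfsgLib.Char.IsIrrCharacter.isCharacter hχ') hd'
    rw [Cfsg.detOrder, funext hD, CfsgLib.Char.orderOf_coe_hom] at hc'
    have hDF : D = F := huniq D (fun n => Units.ext (by
      rw [← hD, CfsgLib.Char.detChar_comp (CfsgLib.Char.IsIrrCharacter.isCharacter hχ') hN', hf])) hc'
    exact hu χ' ⟨hχ', hN', by rw [funext hD, hDF]⟩

end Cfsg.Agent.S0867
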