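import Cfsg.Statements.S4691
import Cfsg.Agent.BrauerPairs.NilpotentBridge
import Cfsg.Agent.BrauerPairs.PrincipalBridge
import Cfsg.Agent.Transfer.Frobenius

set_option autoImplicit false
open Cfsg

namespace Cfsg.Agent.S4691

/-- Fix a prime p and a maximal ideal M of the algebraic integers containing p. A finite group G has a normal p-complement if and only if its principal p-block is nilpotent. -/
theorem result {G : Type*} [Group G] [Fintype G] (p : ℕ) [Fact p.Prime] (M : Ideal Cfsg.AlgInt) (hM : Cfsg.IsPModular p M) : Cfsg.HasNormalPComplement p G ↔ Cfsg.IsNilpotentBlock p M (Cfsg.principalBlock M G) := by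
  haveI := CfsgLib.Block.isPrime_of_isPModular hM
  haveI := CfsgLib.Block.charP_residue hM
  rw [CfsgLib.BrauerPairs.isNilpotentBlock_iff hM, CfsgLib.BrauerPairs.idem_principal hM]
  constructor
  · intro h
    exact ⟨CfsgLib.BrauerPairs.isPBlock_principal, fun Q f hQ t ht hreg =>
      CfsgLib.Fusion.localCondition_of_hasNormalPComplement h Q hQ.1.1 t ht.1 ((Fact.out : p.Prime).coprime_iff_not_dvd.mpr hreg).symm⟩
  · rintro ⟨-, h⟩
    refine CfsgLib.Fusion.hasNormalPComplement_of_localCondition fun Q hQ g hg hreg => ?_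
    exact h Q _ (CfsgLib.BrauerPairs.isPairOf_prin hQ) g
      ⟨hg, CfsgLib.BrauerPairs.cj_prin (CfsgLib.BrauerPairs.map_normalizer_centralizer hg)⟩ ((Fact.out : p.Prime).coprime_iff_not_dvd.mp hreg.symm)

end Cfsg.Agent.S4691
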