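import Cfsg.Statements.S4765
import Cfsg.Agent.SL2C.Cases
import Cfsg.Agent.Char.TwoClass
import Cfsg.Agent.Char.CoprimeComplement
import Cfsg.Agent.BlocksB.ClassSum
import Cfsg.Agent.Char.Inflation

set_option autoImplicit false
open Cfsg

namespace Cfsg.Agent.S4765

/-- Let F be a finite field of characteristic p with at least 4 elements. Then PSL(2,F) has exactly one irreducible complex character of degree divisible by p, and its degree is the order of F. -/
theorem result (p : ℕ) [Fact p.Prime] (F : Type*) [Field F] [Fintype F] [CharP F p] (hF : 4 ≤ Fintype.card F) : Nat.card {χ : Cfsg.IrrCharacter (Matrix.ProjectiveSpecialLinearGroup (Fin 2) F) // p ∣ Cfsg.charDegree (χ : Matrix.ProjectiveSpecialLinearGroup (Fin 2) F → ℂ)} = 1 ∧ ∀ χ : Cfsg.IrrCharacter (Matrix.ProjectiveSpecialLinearGroup (Fin 2) F), p ∣ Cfsg.charDegree (χ : Matrix.ProjectiveSpecialLinearGroup (Fin 2) F → ℂ) → Cfsg.charDegree (χ : Matrix.ProjectiveSpecialLinearGroup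 (Fin 2) F → ℂ) = Fintype.card F := by
  classical
  obtain ⟨c, hc⟩ := CfsgLib.SL2C.exists_ell (F := F)
  have hpq : p ∣ Fintype.card F := by
    obtain ⟨n, hp, hn⟩ := FiniteField.card F p
    rw [hn]
    exact dvd_pow_self p n.ne_zero
  have hp1 : ¬ p ∣ 1 := (Fact.out : p.Prime).not_dvd_one
  have key : ∀ χ : Cfsg.IrrCharacter (Matrix.ProjectiveSpecialLinearGroup (Fin 2) F),
      p ∣ Cfsg.charDegree (χ : Matrix.ProjectiveSpecialLinearGroup (Fin 2) F → ℂ) →
      (∀ g : CfsgLib.SL2C.SL F, (χ : Matrix.ProjectiveSpecialLinearGroup (Fin 2) F → ℂ) (QuotientGroup.mk g) = CfsgLib.SL2C.St g) ∧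
        Cfsg.charDegree (χ : Matrix.ProjectiveSpecialLinearGroup (Fin 2) F → ℂ) = Fintype.card F := by
    intro χ hdiv
    obtain ⟨hd, hdpos⟩ := CfsgLib.BlocksB.charDegree_spec χ.2
    set d := Cfsg.charDegree (χ : Matrix.ProjectiveSpecialLinearGroup (Fin 2) F → ℂ) with hddef
    have hirr : Cfsg.IsIrrCharacter (CfsgLib.SL2C.SL F)
        (fun g => (χ : Matrix.ProjectiveSpecialLinearGroup (Fin 2) F → ℂ) (QuotientGroup.mk g)) :=
      CfsgLib.Char.IsIrrCharacter.inflate (Subgroup.center (CfsgLib.SL2C.SL F)) χ.2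
    have h1 : (fun g => (χ : Matrix.ProjectiveSpecialLinearGroup (Fin 2) F → ℂ) (QuotientGroup.mk g)) (1 : CfsgLib.SL2C.SL F) = (d : ℂ) := hd
    rcases CfsgLib.SL2C.degree_cases hc hirr with ⟨-, e⟩ | ⟨h, e⟩ | ⟨-, e⟩ | ⟨-, e⟩ | ⟨-, e⟩ | ⟨-, e⟩ <;> replace e := h1.symm.trans e
    · have : d = 1 := by exact_mod_cast e
      exact absurd (this ▸ hdiv) hp1
    · exact ⟨fun g => congrFun h g, by exact_mod_cast e⟩
    · have : d = Fintype.card F + 1 := by exact_mod_cast e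
      exact absurd ((Nat.dvd_add_right hpq).1 (this ▸ hdiv)) hp1
    · have e' : (d : ℂ) + 1 = (Fintype.card F : ℂ) := by rw [e]; ring
      have : d + 1 = Fintype.card F := by exact_mod_cast e'
      exact absurd ((Nat.dvd_add_right hdiv).1 (this ▸ hpq)) hp1
    · have e' : 2 * (d : ℂ) = (Fintype.card F : ℂ) + 1 := by rw [e]; ring
      have : 2 * d = Fintype.card F + 1 := by exact_mod_cast e'
      exact absurd ((Nat.dvd_add_right hpq).1 (this ▸ dvd_mul_of_dvd_right hdiv 2)) hp1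
    · have e' : 2 * (d : ℂ) + 1 = (Fintype.card F : ℂ) := by rw [e]; ring
      have : 2 * d + 1 = Fintype.card F := by exact_mod_cast e'
      exact absurd ((Nat.dvd_add_right (dvd_mul_of_dvd_right hdiv 2)).1 (this ▸ hpq)) hp1
  obtain ⟨σ, hσ, hσe⟩ := CfsgLib.Char.TwoClass.exists_deflate
    (N := Subgroup.center (CfsgLib.SL2C.SL F)) (CfsgLib.SL2C.isIrr_St (F := F)) (fun y hy => by
      obtain ⟨a, ha, rfl⟩ := CfsgLib.SL2C.exists_eq_bor_of_mem_center hy
      rw [(CfsgLib.SL2C.St_vals hc).cen a (CfsgLib.SL2C.mem_sgn.2 ha), CfsgLib.SL2C.St_apply_one hc])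
  have hσdeg : Cfsg.charDegree σ = Fintype.card F := by
    apply CfsgLib.Char.charDegree_eq_natCast
    rw [← CfsgLib.SL2C.St_apply_one hc, hσe]
    rfl
  refine ⟨?_, fun χ hχ => (key χ hχ).2⟩
  rw [Nat.card_eq_one_iff_unique]
  refine ⟨⟨fun a b => ?_⟩, ⟨⟨⟨σ, hσ⟩, by simpa [hσdeg] using hpq⟩⟩⟩
  apply Subtype.ext
  apply Subtype.ext
  funext x
  obtain ⟨g, rfl⟩ := QuotientGroup.mk_surjective x
  exact ((key a.1 a.2).1 g).trans ((key b.1 b.2).1 g).symm

end Cfsg.Agent.S4765
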