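import Cfsg.Statements.S4721
import Cfsg.Agent.BlocksB.FrobeniusSylow.IndexThree

set_option autoImplicit false
open Cfsg

namespace Cfsg.Agent.S4721

/-- Let p be a prime, M a maximal ideal of the algebraic integers containing p, and G a finite group with a nontrivial abelian Sylow p-subgroup P, N = N_G(P), C = C_G(P), such that N/C is cyclic of order 3, #P > 4, and C_G(y) ∩ N = C for every non-identity y ∈ P. Then the principal p-block is the disjoint union of a set X of exactly 3 characters containing the principal character and a set Y of (#P − 1)/3 characters, with signs a_χ = ±1 (χ ∈ X, a = 1 at the principal character) and δ = ±1 such that every χ ∈ X takes the value a_χ at every element whose p-part is a non-identity element of P, and there is a map ζ from the non-principal linear characters of P onto Y, constant on N-conjugacy classes, with ζ_ψ(z) = δ·Σ ψ'(y) over the N-orbit of ψ, for z with p-part y ≠ 1 in P. If moreover G has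 an involution lying in no proper normal subgroup of G, then exactly two of the three numbers −δ and a_χ (χ ∈ X non-principal) equal −1, and the product of the degrees of the two non-principal members of X and of any member of Y is a perfect square. -/
theorem result {G : Type*} [Group G] [Finite G] (p : ℕ) [Fact p.Prime] (M : Ideal Cfsg.AlgInt) (hM : Cfsg.IsPModular p M) (P : Sylow p G) (hab : IsMulCommutative P) (hP1 : Nat.card P ≠ 1) (hCN : (Subgroup.centralizer ((P : Subgroup G) : Set G)).relIndex (Subgroup.normalizer ((P : Subgroup G) : Set G)) = 3) (hcyc : ∃ g : G, g ∈ Subgroup.normalizer ((P : Subgroup G) : Set G) ∧ Subgroup.centralizer ((P : Subgroup G) : Set G) ⊔ Subgroup.zpowers g = Subgroup.normalizer ((P : Subgroup G) : Set G)) (hm2 : 3 + 1 < Nat.card P) (hfrob : ∀ y : G, y ∈ (P : Subgroup G) → y ≠ 1 → Subgroup.centralizer ({y} : Set G) ⊓ Subgroup.normalizer ((P : Subgroup G) : Set G) = Subgroup.centralizer ((P : Subgroup G)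 : Set G)) : ∃ (X Y : Set (Cfsg.IrrCharacter G)), Cfsg.principalBlock M G = X ∪ Y ∧ Disjoint X Y ∧ Nat.card X = 3 ∧ Nat.card Y = (Nat.card P - 1) / 3 ∧ (∃ χ₁ ∈ X, (χ₁ : G → ℂ) = fun _ => 1) ∧ ∃ (a : Cfsg.IrrCharacter G → ℤ) (δ : ℤ) (ζ : (↥(P : Subgroup G) →* ℂˣ) → Cfsg.IrrCharacter G), (δ = 1 ∨ δ = -1) ∧ (∀ χ ∈ X, (a χ = 1 ∨ a χ = -1) ∧ ∀ z y : G, Cfsg.IsPPart p z y → y ∈ (P : Subgroup G) → y ≠ 1 → (χ : G → ℂ) z = (a χ : ℂ)) ∧ (∀ ψ : ↥(P : Subgroup G) →* ℂˣ, ψ ≠ 1 → ζ ψ ∈ Y) ∧ (∀ η ∈ Y, ∃ ψ : ↥(P : Subgroup G) →* ℂˣ, ψ ≠ 1 ∧ ζ ψ = η) ∧ (∀ ψ ψ' : ↥(P : Subgroup G) →* ℂˣ, ψ ≠ 1 → (∃ n : G, n ∈ Subgroup.normalizer ((P : Subgroup G) : Set G) ∧ ∀ w w' : ↥(P : Subgroup G), (w' : G) = n * w * n⁻¹ → ψ' w' = ψ w) → ζ ψ' = ζ ψ) ∧ (∀ ψ : ↥(P : Subgroup G) →* ℂˣ, ψ ≠ 1 → ∀ (z : G) (y : ↥(P : Subgroup G)), Cfsg.IsPPart p z (y : G) → (y : G) ≠ 1 → (ζ ψ : G → ℂ) z = (δ : ℂ) * ∑ᶠ ψ' ∈ {ψ' : ↥(P : Subgroup G) →* ℂˣ | ∃ n : G, n ∈ Subgroup.normalizer ((P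 : Subgroup G) : Set G) ∧ ∀ w w' : ↥(P : Subgroup G), (w' : G) = n * w * n⁻¹ → ψ' w' = ψ w}, ((ψ' y : ℂˣ) : ℂ)) ∧ ((∃ t : G, orderOf t = 2 ∧ ∀ K : Subgroup G, K.Normal → t ∈ K → K = ⊤) → Nat.card {χ : Cfsg.IrrCharacter G // χ ∈ X ∧ (χ : G → ℂ) ≠ (fun _ => 1) ∧ a χ = -1} + (if δ = 1 then 1 else 0) = 2 ∧ ∀ η ∈ Y, IsSquare (Cfsg.charDegree (η : G → ℂ) * ∏ᶠ χ ∈ {χ : Cfsg.IrrCharacter G | χ ∈ X ∧ (χ : G → ℂ) ≠ fun _ => 1}, Cfsg.charDegree (χ : G → ℂ))) := by
  haveI := hM.2.1.isPrime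
  haveI := Fintype.ofFinite G
  haveI := Fintype.ofFinite (P : Subgroup G)
  letI := CfsgLib.Block.Chr.irrFintype (G := G)
  haveI : Fintype (principalBlock M G) := Fintype.ofFinite _
  classical
  obtain ⟨g, hg, hgen⟩ := hcyc
  have F : CfsgLib.FrobeniusSylow.FrobData P g 3 := ⟨hab, hg, hgen, hCN, hfrob⟩
  set one : principalBlock M G := ⟨CfsgLib.Block.oneIrr G, CfsgLib.Block.sameBlock_refl _⟩
  have hone : ∀ x : G, ((one : IrrCharacter G) : G → ℂ) x = 1 := fun x => rfl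
  obtain ⟨Y, rep, δ, S, hδ, honeY, hS1, hYc3, hcard, hY, hX, horb, hreg⟩ :=
    F.exists_structure_three hM rfl hm2 hone
  have hr : (Nat.card (P : Subgroup G) - 1) / 3 = Y.card := by omega
  have hset : ∀ s : Finset (principalBlock M G),
      Nat.card (Subtype.val '' (s : Set (principalBlock M G))) = s.card := fun s => by
    rw [Nat.card_image_of_injective Subtype.val_injective, Nat.card_eq_fintype_card]
    simp
  let ζ : ((P : Subgroup G) →* ℂˣ) → IrrCharacter G := fun ψ =>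
    if h : ψ = 1 then one.1 else ((horb ψ h).choose).1
  have hζ : ∀ ψ, ∀ h : ψ ≠ 1, ζ ψ = ((horb ψ h).choose).1 := fun ψ h => dif_neg h
  obtain ⟨a, b, hab', hab2⟩ := Finset.card_eq_two.1
    (show (Yᶜ.erase one).card = 2 by
      rw [Finset.card_erase_of_mem (Finset.mem_compl.2 honeY), hYc3])
  have hao : a ≠ one := (Finset.mem_erase.1 (hab2 ▸ Finset.mem_insert_self a _)).1
  have hbo : b ≠ one := (Finset.mem_erase.1
    (hab2 ▸ Finset.mem_insert_of_mem (Finset.mem_singleton_self b))).1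
  have hYc : Yᶜ = {one, a, b} := by
    rw [← Finset.insert_erase (Finset.mem_compl.2 honeY), hab2]
  refine ⟨Subtype.val '' ((Yᶜ : Finset (principalBlock M G)) : Set (principalBlock M G)),
    Subtype.val '' (Y : Set (principalBlock M G)), ?_, ?_, (hset _).trans hYc3,
    (hset _).trans hr.symm, ⟨one.1, ⟨one, Finset.mem_coe.2 (Finset.mem_compl.2 honeY), rfl⟩,
      funext hone⟩,
    fun χ => if h : χ ∈ principalBlock M G then -S ⟨χ, h⟩ else 0, δ, ζ, hδ, ?_, ?_, ?_, ?_, ?_, ?_⟩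
  · ext χ
    constructor
    · intro hχ
      by_cases h : (⟨χ, hχ⟩ : principalBlock M G) ∈ Y
      · exact Or.inr ⟨_, h, rfl⟩
      · exact Or.inl ⟨⟨χ, hχ⟩, Finset.mem_coe.2 (Finset.mem_compl.2 h), rfl⟩
    · rintro (⟨x, -, rfl⟩ | ⟨x, -, rfl⟩) <;> exact x.2
  · rw [Set.disjoint_image_iff Subtype.val_injective, Finset.disjoint_coe]
    exact disjoint_compl_left
  · rintro _ ⟨x, hx, rfl⟩
    obtain ⟨hS0, hv⟩ := hX x (Finset.mem_compl.1 hx)
    simp only [dif_pos x.2, Subtype.coe_eta]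
    refine ⟨by omega, fun z y hzy hy hy1 => ?_⟩
    rw [F.apply_eq_of_pPart hM x.2 hzy hy hy1,
      show (y : G) = ((⟨y, hy⟩ : (P : Subgroup G)) : G) from rfl,
      hv _ fun h => hy1 (congrArg Subtype.val h)]
    push_cast
    rfl
  · intro ψ hψ
    rw [hζ ψ hψ]
    exact ⟨_, (horb ψ hψ).choose_spec.1.1, rfl⟩
  · rintro _ ⟨y, hy, rfl⟩
    have hne := (hY y hy).1
    refine ⟨rep y, hne, ?_⟩
    rw [hζ _ hne]
    exact congrArg Subtype.val ((horb _ hne).choose_spec.2 y
      ⟨hy, 0, by omega, MonoidHom.ext fun w => congrArg (rep y) (F.act_zero w).symm⟩).symm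
  · intro ψ ψ' hψ h
    obtain ⟨l, hl, rfl⟩ := F.mem_conj_iff.1 h
    have hne := F.comp_act_ne_one hψ l
    rw [hζ _ hne, hζ _ hψ]
    obtain ⟨hy, j, hj, he⟩ := (horb ψ hψ).choose_spec.1
    exact congrArg Subtype.val ((horb _ hne).choose_spec.2 _
      ⟨hy, (F.exists_translate_iff he).1 ⟨l, hl, rfl⟩⟩).symm
  · intro ψ hψ z y hzy hy1
    obtain ⟨hy, j, hj, he⟩ := (horb ψ hψ).choose_spec.1
    have hy1' : y ≠ 1 := fun h => hy1 (congrArg Subtype.val h)
    rw [hζ ψ hψ, F.apply_eq_of_pPart hM (horb ψ hψ).choose.2 hzy y.2 hy1,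
      (hY _ hy).2 y hy1', F.finsum_conj (hY _ hy).1 he y]
  · rintro ⟨t, ht, hgen'⟩
    have hne1 : ∀ z : principalBlock M G, z ≠ one → (z.1 : G → ℂ) ≠ fun _ => 1 := fun z hz h =>
      hz (Subtype.ext (Subtype.ext (h.trans (funext hone).symm)))
    have hmem : ∀ χ : IrrCharacter G,
        (χ ∈ Subtype.val '' ((Yᶜ : Finset (principalBlock M G)) : Set (principalBlock M G)) ∧
          (χ : G → ℂ) ≠ fun _ => 1) ↔ χ = a.1 ∨ χ = b.1 := by
      intro χ
      constructor
      · rintro ⟨⟨z, hz, rfl⟩, hn⟩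
        rw [Finset.mem_coe, hYc, Finset.mem_insert, Finset.mem_insert, Finset.mem_singleton] at hz
        rcases hz with rfl | rfl | rfl
        · exact absurd (funext hone) hn
        · exact Or.inl rfl
        · exact Or.inr rfl
      · rintro (rfl | rfl)
        · exact ⟨⟨a, by simp [hYc], rfl⟩, hne1 a hao⟩
        · exact ⟨⟨b, by simp [hYc], rfl⟩, hne1 b hbo⟩
    obtain ⟨y₀, hy₀⟩ := Finset.card_pos.1 (show 0 < Y.card by omega)
    have key : ∀ y ∈ Y, (if δ = 1 then 1 else 0) + (if S a = 1 then 1 else 0) +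
        (if S b = 1 then 1 else 0) = 2 ∧
        IsSquare (Cfsg.charDegree ((y : IrrCharacter G) : G → ℂ) *
          (Cfsg.charDegree ((a : IrrCharacter G) : G → ℂ) *
            Cfsg.charDegree ((b : IrrCharacter G) : G → ℂ))) := fun y hy =>
      F.involution_signs hM rfl hm2 hone hδ hS1 hab' hao hbo hYc hY hX horb hreg ht hgen' hy
    refine ⟨?_, ?_⟩
    · have hne' : a.1 ≠ b.1 := fun h => hab' (Subtype.ext h)
      rw [Nat.card_eq_fintype_card, Fintype.card_subtype,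
        show Finset.univ.filter (fun χ : IrrCharacter G =>
          χ ∈ Subtype.val '' ((Yᶜ : Finset (principalBlock M G)) : Set (principalBlock M G)) ∧
          (χ : G → ℂ) ≠ (fun _ => 1) ∧
          (if h : χ ∈ principalBlock M G then -S ⟨χ, h⟩ else 0) = -1) =
          ({a.1, b.1} : Finset (IrrCharacter G)).filter (fun χ : IrrCharacter G =>
            (if h : χ ∈ principalBlock M G then -S ⟨χ, h⟩ else 0) = -1) by
          ext χ
          simp only [Finset.mem_filter, Finset.mem_univ, true_and, Finset.mem_insert,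
            Finset.mem_singleton]
          rw [← and_assoc, hmem χ],
        Finset.card_filter, Finset.sum_pair hne']
      simp only [dif_pos a.2, dif_pos b.2, Subtype.coe_eta, neg_inj]
      have h := (key y₀ hy₀).1
      omega
    · rintro _ ⟨y, hy, rfl⟩
      rw [show {χ : IrrCharacter G |
          χ ∈ Subtype.val '' ((Yᶜ : Finset (principalBlock M G)) : Set (principalBlock M G)) ∧
          (χ : G → ℂ) ≠ fun _ => 1} = ({a.1, b.1} : Set (IrrCharacter G)) from
          Set.ext fun χ => (hmem χ).trans (by simp),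
        finprod_mem_pair fun h => hab' (Subtype.ext h)]
      exact (key y hy).2

end Cfsg.Agent.S4721
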