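import Cfsg.Statements.S3370
import Cfsg.Agent.InvChar.UniqueInvolution

set_option autoImplicit false
open Cfsg

namespace Cfsg.Agent.S3370

theorem sum_pow_odd (a : ℤ) (ha : Odd a) : ∀ n : ℕ,
    Odd (∑ i ∈ Finset.range n, a ^ i) ↔ Odd n := by
  intro n
  induction n with
  | zero => simp
  | succ n ih =>
    rw [Finset.sum_range_succ, Int.odd_add, ih, Nat.odd_add_one]
    have : Odd (a ^ n) := ha.pow
    rw [← Int.not_odd_iff_even]
    tauto

theorem eq_one_of_odd_dvd_two_pow {x d : ℕ} (hx : Odd x) (h : x ∣ 2 ^ d) : x = 1 :=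
  (Nat.coprime_two_right.2 hx).pow_right d |>.eq_one_of_dvd h

/-- A power of an odd prime one less than a power of two is a first power. -/
theorem mersenne_exp {p k d : ℕ} (hp : p.Prime) (hp2 : p ≠ 2) (hd : 2 ≤ d) (h : 2 ^ d = p ^ k + 1) : k = 1 := by
  have hpo := hp.odd_of_ne_two hp2
  rcases Nat.even_or_odd k with hk | hk
  · exfalso
    obtain ⟨j, rfl⟩ := hk
    obtain ⟨c, hc⟩ : Odd (p ^ j) := hpo.pow
    rw [pow_add, hc, show d = d - 2 + 2 by omega, pow_add] at h
    ring_nf at h
    omega
  · have hgeo := geom_sum_mul (-(p : ℤ)) k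
    have hs : (∑ i ∈ Finset.range k, (-(p : ℤ)) ^ i) * ((p : ℤ) + 1) = (2 : ℤ) ^ d := by
      have hz : (2 : ℤ) ^ d = (p : ℤ) ^ k + 1 := by exact_mod_cast h
      rw [hk.neg_pow] at hgeo
      rw [hz]; linear_combination -hgeo
    have hodd : Odd (∑ i ∈ Finset.range k, (-(p : ℤ)) ^ i) :=
      (sum_pow_odd _ (by rw [odd_neg]; exact_mod_cast hpo) k).2 hk
    have hn : ((p : ℤ) + 1).natAbs = p + 1 := by omega
    have h1 : (∑ i ∈ Finset.range k, (-(p : ℤ)) ^ i).natAbs = 1 := by
      refine eq_one_of_odd_dvd_two_pow (Int.natAbs_odd.2 hodd) (d := d) ?_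
      exact ⟨p + 1, by simpa [Int.natAbs_mul, Int.natAbs_pow, hn] using (congrArg Int.natAbs hs).symm⟩
    have h2 : p + 1 = 2 ^ d := by
      have := congrArg Int.natAbs hs
      rw [Int.natAbs_mul, h1, one_mul, Int.natAbs_pow, hn] at this
      simpa using this
    exact Nat.pow_right_injective hp.two_le (show p ^ k = p ^ 1 by rw [pow_one]; omega)

/-- A power of an odd prime one more than a power of two. -/
theorem fermat_exp {q k d : ℕ} (hq : q.Prime) (hq2 : q ≠ 2) (hd : 1 ≤ d) (h : q ^ d = 2 ^ k + 1) :
    d = 1 ∨ (q = 3 ∧ d = 2) := by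
  have hqo := hq.odd_of_ne_two hq2
  rcases Nat.even_or_odd d with hd2 | hd2
  · refine Or.inr ?_
    obtain ⟨j, rfl⟩ := hd2
    have hj : 1 ≤ j := by omega
    have hQ : 3 ≤ q ^ j := le_trans (show 3 ≤ q by have := hq.two_le; omega) (Nat.le_self_pow (show j ≠ 0 by omega) q)
    have h' : (q ^ j + 1) * (q ^ j - 1) = 2 ^ k := by
      obtain ⟨t, ht⟩ : ∃ t, q ^ j = t + 1 := ⟨q ^ j - 1, by omega⟩
      rw [pow_add, ht] at h
      rw [ht, Nat.add_sub_cancel]
      linarith
    obtain ⟨a, -, ha⟩ := (Nat.dvd_prime_pow Nat.prime_two).1 ⟨_, h'.symm⟩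
    obtain ⟨b, -, hb⟩ := (Nat.dvd_prime_pow Nat.prime_two).1 (Dvd.intro_left _ h')
    have hQ3 : q ^ j = 3 := by
      by_contra hne
      have ha2 : 2 ≤ a := by
        by_contra hh
        interval_cases a <;> simp only [pow_zero, pow_one] at ha <;> omega
      have hb2 : 2 ≤ b := by
        by_contra hh
        interval_cases b <;> simp only [pow_zero, pow_one] at hb <;> omega
      rw [show a = a - 2 + 2 by omega, pow_add] at ha
      rw [show b = b - 2 + 2 by omega, pow_add] at hb
      omega
    have hq3 : q = 3 := (Nat.prime_dvd_prime_iff_eq hq Nat.prime_three).1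
      (hQ3 ▸ dvd_pow_self q (by omega))
    refine ⟨hq3, ?_⟩
    rw [hq3] at hQ3
    have := Nat.pow_right_injective (show 2 ≤ 3 by omega) (show 3 ^ j = 3 ^ 1 by rw [hQ3, pow_one])
    omega
  · refine Or.inl ?_
    have hgeo := geom_sum_mul (q : ℤ) d
    have hz : (q : ℤ) ^ d = 2 ^ k + 1 := by exact_mod_cast h
    have hodd : Odd (∑ i ∈ Finset.range d, (q : ℤ) ^ i) :=
      (sum_pow_odd _ (by exact_mod_cast hqo) d).2 hd2
    rw [hz, add_sub_cancel_right] at hgeo
    have hn := congrArg Int.natAbs hgeo
    rw [Int.natAbs_mul, Int.natAbs_pow] at hn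
    have h1 := eq_one_of_odd_dvd_two_pow (Int.natAbs_odd.2 hodd) (d := k)
      (Dvd.intro _ (by simpa using hn))
    rw [h1, one_mul] at hn
    have h2 : q - 1 = 2 ^ k := by
      have := hq.two_le
      rw [← show ((q : ℤ) - 1).natAbs = q - 1 by omega]
      simpa using hn
    exact Nat.pow_right_injective hq.two_le (show q ^ d = q ^ 1 by rw [pow_one, h, ← h2]; have := hq.two_le; omega)

open Matrix in
set_option maxRecDepth 100000 in
theorem mat_key : ∀ b d : ZMod 3, ∀ X Y : Matrix (Fin 2) (Fin 2) (ZMod 3), X = !![1, b; 1, d] →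
    Y = !![1, 0; 0, -1] → X ^ 16 = 1 → (X * Y) ^ 16 = 1 →
    (X ^ 4 ≠ 1 ∧ X ^ 8 = 1 ∧ Y * X * Y = X ^ 3) ∨
      ((X * Y) ^ 4 ≠ 1 ∧ (X * Y) ^ 8 = 1 ∧ Y * (X * Y) * Y = (X * Y) ^ 3) := by
  intro b d X Y hX hY; subst hX hY; revert b d
  decide +kernel

theorem zmod3_two : (2 : ZMod 3) ≠ 0 := by decide

theorem zmod3_neg : (-1 : ZMod 3) ≠ 0 := by decide

theorem zmod3_sq' : ∀ b : ZMod 3, b ≠ 0 → b * b = 1 := by decide

theorem zmod3_three : ∀ a : ZMod 3, a + a + a = 0 := by decide

theorem zmod3_sq : ∀ b : ZMod 3, b * b = 1 → b = 1 ∨ b = -1 := by decide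

/-- A faithful 2-group of order sixteen transitive on the non-zero vectors of the plane over three. -/
theorem quasidihedral_sixteen {V : Type*} [AddCommGroup V] [Module (ZMod 3) V] [Finite V]
    {G : Type*} [Group G] [Finite G] (hV : Nat.card V = 9) (h16 : Nat.card G = 16)
    (ρ : G →* (V ≃ₗ[ZMod 3] V)) (hρ : Function.Injective ρ)
    (htrans : ∀ v w : V, v ≠ 0 → w ≠ 0 → ∃ g : G, ρ g v = w)
    {v : V} {y : G} (hv : v ≠ 0) (hy : y ≠ 1) (hyv : ρ y v = v) (hyy : y * y = 1) :
    Cfsg.IsQuasiDihedral G := by
  classical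
  have hy2 : ∀ u, ρ y (ρ y u) = u := fun u => by
    rw [← LinearEquiv.mul_apply, ← map_mul, hyy, map_one]; rfl
  obtain ⟨u, hu⟩ : ∃ u, ρ y u ≠ u := by
    by_contra h
    push Not at h
    exact hy (hρ (by rw [map_one]; exact LinearEquiv.ext h))
  set w := u - ρ y u with hw
  have hw0 : w ≠ 0 := sub_ne_zero.2 hu.symm
  have hyw : ρ y w = -w := by rw [hw, map_sub, hy2, neg_sub]
  have hli : LinearIndependent (ZMod 3) ![v, w] := by
    rw [LinearIndependent.pair_iff]
    intro s t hst
    have h' := congrArg (ρ y) hst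
    rw [map_add, map_smul, map_smul, hyv, hyw, map_zero, smul_neg] at h'
    have h2t : t + t = 0 := by
      have : (t + t) • w = 0 := by
        have e : (s • v + t • w) - (s • v + -(t • w)) = 0 := by rw [hst, h', sub_self]
        rw [add_smul]; rw [← e]; abel
      exact (smul_eq_zero.1 this).resolve_right hw0
    have ht : t = 0 := by
      rw [← two_mul] at h2t
      exact (mul_eq_zero.1 h2t).resolve_left zmod3_two
    subst ht
    rw [zero_smul, add_zero] at hst
    exact ⟨(smul_eq_zero.1 hst).resolve_right hv, rfl⟩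
  have hfr : Module.finrank (ZMod 3) V = 2 := by
    have := Module.natCard_eq_pow_finrank (K := ZMod 3) (V := V)
    rw [hV, Nat.card_zmod] at this
    exact Nat.pow_right_injective (show 2 ≤ 3 by omega) (show 3 ^ _ = 3 ^ 2 by rw [← this])
  let B := basisOfLinearIndependentOfCardEqFinrank hli (by simp [hfr])
  have hB : ⇑B = ![v, w] := coe_basisOfLinearIndependentOfCardEqFinrank hli _
  let φ : G →* Matrix (Fin 2) (Fin 2) (ZMod 3) :=
    { toFun := fun g => LinearMap.toMatrix B B (ρ g : V →ₗ[ZMod 3] V)
      map_one' := by rw [map_one]; exact LinearMap.toMatrix_id B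
      map_mul' := fun g h => by rw [map_mul]; exact LinearMap.toMatrix_comp B B B _ _ }
  have hφ : Function.Injective φ := fun g h e => hρ (LinearEquiv.toLinearMap_injective ((LinearMap.toMatrix B B).injective e))
  have happ : ∀ g i j, φ g i j = B.repr (ρ g (B j)) i := fun g i j => LinearMap.toMatrix_apply B B _ i j
  have hY : φ y = !![1, 0; 0, -1] := by
    have e0 : ρ y (B 0) = B 0 := by simp [hB, hyv]
    have e1 : ρ y (B 1) = -B 1 := by simp [hB, hyw]
    ext i j
    rw [happ]
    fin_cases j <;> fin_cases i <;> simp [e0, e1]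
  obtain ⟨x, hx⟩ := htrans v (v + w) hv fun h => by
    have h' := congrArg (ρ y) h
    rw [map_add, hyv, hyw, map_zero] at h'
    have := LinearIndependent.pair_iff.1 hli 1 1 (by simpa using h)
    exact one_ne_zero this.1
  have hX : φ x = !![1, φ x 0 1; 1, φ x 1 1] := by
    have e0 : ρ x (B 0) = B 0 + B 1 := by simp [hB, hx]
    have hcol : ∀ i, φ x i 0 = 1 := by
      intro i
      rw [happ, e0, map_add]
      fin_cases i <;> simp
    ext i j
    fin_cases j <;> fin_cases i <;> simp [hcol]
  have h16' : ∀ g : G, φ g ^ 16 = 1 := fun g => by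
    rw [← map_pow, ← h16, pow_card_eq_one', map_one]
  have key := mat_key _ _ _ _ hX hY (h16' x) (by rw [← map_mul]; exact h16' _)
  have fin : ∀ z : G, φ z ^ 4 ≠ 1 → φ z ^ 8 = 1 → φ y * φ z * φ y = φ z ^ 3 → Cfsg.IsQuasiDihedral G := by
    intro z h4 h8 h3
    refine ⟨3, le_rfl, by rw [h16]; rfl, z, y, ?_, ?_, ?_⟩
    · refine orderOf_eq_prime_pow (p := 2) (n := 2) ?_ ?_
      · intro h; exact h4 (by rw [← map_pow]; simpa using congrArg φ h)
      · exact hφ (by rw [map_pow, map_one]; exact h8)
    · exact orderOf_eq_prime (by rw [pow_two, hyy]) hy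
    · rw [inv_eq_of_mul_eq_one_right hyy]
      exact hφ (by simpa using h3)
  rcases key with ⟨a, b, c⟩ | ⟨a, b, c⟩
  · exact fin x a b c
  · exact fin (x * y) (by rwa [map_mul]) (by rwa [map_mul]) (by rwa [map_mul])

/-- Let q be a prime, V a non-trivial finite vector space over the field with q elements, and G a non-trivial finite p-group (p prime) acting faithfully and linearly on V and transitively on the non-zero vectors. Then either q = 2 and G has prime order p = |V| − 1; or p = 2, V has q elements with q = 2^m + 1 and G is cyclic of order 2^m; or p = 2, q = 3, V has 9 elements and G is cyclic of order 8, quaternion of order 8, or semidihedral of order 16. -/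
theorem result (q : ℕ) [Fact q.Prime] {V : Type*} [AddCommGroup V] [Module (ZMod q) V] [Finite V] [Nontrivial V]
    {G : Type*} [Group G] [Finite G] [Nontrivial G] (p : ℕ) [Fact p.Prime] (hG : IsPGroup p G)
    (ρ : G →* (V ≃ₗ[ZMod q] V)) (hρ : Function.Injective ρ)
    (htrans : ∀ v w : V, v ≠ 0 → w ≠ 0 → ∃ g : G, ρ g v = w) :
    (q = 2 ∧ p = Nat.card V - 1 ∧ Nat.card G = p) ∨
    (p = 2 ∧ Nat.card V = q ∧ (∃ m : ℕ, q = 2 ^ m + 1 ∧ Nat.card G = 2 ^ m) ∧ IsCyclic G) ∨
    (p = 2 ∧ q = 3 ∧ Nat.card V = 9 ∧
      ((IsCyclic G ∧ Nat.card G = 8) ∨ Nonempty (G ≃* QuaternionGroup 2) ∨ (Cfsg.IsQuasiDihedral G ∧ Nat.card G = 16))) := by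
  classical
  let act : MulAction G V := MulAction.compHom V ρ
  have hsmul : ∀ (g : G) (v : V), g • v = ρ g v := fun g v => rfl
  obtain ⟨v, hv⟩ := exists_ne (0 : V)
  have horb : MulAction.orbit G v = {0}ᶜ := by
    ext w
    constructor
    · rintro ⟨g, rfl⟩
      show ρ g v ≠ 0
      exact fun h => hv ((ρ g).map_eq_zero_iff.1 h)
    · intro hw
      obtain ⟨g, hg⟩ := htrans v w hv hw
      exact ⟨g, hg⟩
  have hcard1 : Nat.card (MulAction.orbit G v) = Nat.card V - 1 := by
    rw [horb, Nat.card_coe_set_eq, Set.ncard_compl, Set.ncard_singleton]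
  obtain ⟨k, hk⟩ := hG.card_orbit v
  rw [hcard1] at hk
  have hprod : Nat.card G = p ^ k * Nat.card (MulAction.stabilizer G v) := by
    rw [← hk, ← hcard1, Nat.card_congr (MulAction.orbitEquivQuotientStabilizer G v),
      ← Subgroup.index_eq_card, Subgroup.index_mul_card]
  have hVd := Module.natCard_eq_pow_finrank (K := ZMod q) (V := V)
  rw [Nat.card_zmod] at hVd
  set d := Module.finrank (ZMod q) V with hd
  have hV2 : 2 ≤ Nat.card V := Finite.one_lt_card
  have hd1 : 1 ≤ d := by
    rcases Nat.eq_zero_or_pos d with h | h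
    · rw [h, pow_zero] at hVd; omega
    · exact h
  have hq := (Fact.out : q.Prime)
  have hp := (Fact.out : p.Prime)
  by_cases hq2 : q = 2
  · subst hq2
    refine Or.inl ⟨rfl, ?_⟩
    have hd2 : 2 ≤ d := by
      by_contra h
      have hcV : Nat.card V = 2 := by rw [hVd, show d = 1 by omega]; rfl
      obtain ⟨g, hg⟩ := exists_ne (1 : G)
      refine hg (hρ ?_)
      rw [map_one]
      refine LinearEquiv.ext fun u => ?_
      by_cases hu : u = 0
      · subst hu; simp
      · obtain ⟨a, b, hab, hall⟩ := Nat.card_eq_two_iff.1 hcV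
        have key : ∀ x y : V, x ≠ 0 → y ≠ 0 → x = y := by
          intro x y hx hy
          have hz := Set.ext_iff.1 hall 0
          have hxx := Set.ext_iff.1 hall x
          have hyy := Set.ext_iff.1 hall y
          simp only [Set.mem_insert_iff, Set.mem_singleton_iff, Set.mem_univ, iff_true] at hz hxx hyy
          rcases hz with rfl | rfl <;> rcases hxx with rfl | rfl <;> rcases hyy with rfl | rfl <;>
            first | rfl | exact absurd rfl hx | exact absurd rfl hy
        exact key _ _ (fun h => hu ((ρ g).map_eq_zero_iff.1 h)) hu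
    have hpk : 2 ^ d = p ^ k + 1 := by rw [← hVd, ← hk]; omega
    have hk0 : k ≠ 0 := by
      rintro rfl
      rw [pow_zero] at hpk
      have : 2 ^ 2 ≤ 2 ^ d := Nat.pow_le_pow_right two_pos hd2
      omega
    have hp2 : p ≠ 2 := by
      rintro rfl
      have e1 : Even (2 ^ d) := Nat.even_pow.2 ⟨even_two, by omega⟩
      have e2 : Even (2 ^ k) := Nat.even_pow.2 ⟨even_two, hk0⟩
      rw [hpk, Nat.even_add_one] at e1
      exact e1 e2
    have hk1 := mersenne_exp hp hp2 hd2 hpk
    subst hk1
    rw [pow_one] at hk hprod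
    refine ⟨hk.symm, ?_⟩
    suffices hs : MulAction.stabilizer G v = ⊥ by rw [hprod, hs, Subgroup.card_bot, mul_one]
    rw [Subgroup.eq_bot_iff_forall]
    intro g hg
    refine hρ ?_
    rw [map_one]
    refine LinearEquiv.ext fun u => ?_
    obtain ⟨i, hi⟩ := (hG.to_subgroup (MulAction.stabilizer G v)).card_orbit u
    have hsub : MulAction.orbit (MulAction.stabilizer G v) u = {u} := by
      by_cases hu : u = 0
      · subst hu
        ext x
        constructor
        · rintro ⟨⟨a, _⟩, rfl⟩; exact (ρ a).map_zero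
        · rintro rfl; exact MulAction.mem_orbit_self _
      by_cases huv : u = v
      · subst huv
        ext x
        constructor
        · rintro ⟨⟨a, ha⟩, rfl⟩; exact ha
        · rintro rfl; exact MulAction.mem_orbit_self _
      have hlt : Nat.card (MulAction.orbit (MulAction.stabilizer G v) u) < p := by
        have hsub : MulAction.orbit (MulAction.stabilizer G v) u ⊆ ({0}ᶜ \ {v} : Set V) := by
          rintro x ⟨⟨a, ha⟩, rfl⟩
          refine ⟨fun h => hu ((ρ a).map_eq_zero_iff.1 h), fun h => huv ?_⟩
          have h' : ρ a u = ρ a v := (show ρ a u = v from h).trans (show ρ a v = v from ha).symm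
          exact (ρ a).injective h'
        rw [Nat.card_coe_set_eq]
        refine lt_of_le_of_lt (Set.ncard_le_ncard hsub) ?_
        rw [Set.ncard_diff_singleton_of_mem (Set.mem_compl_singleton_iff.2 hv), Set.ncard_compl, Set.ncard_singleton]
        have := hp.two_le
        omega
      rw [hi] at hlt
      have hi0 : i = 0 := by
        by_contra hne
        exact absurd hlt (not_lt.2 (Nat.le_self_pow hne p))
      rw [hi0, pow_zero, Nat.card_coe_set_eq, Set.ncard_eq_one] at hi
      obtain ⟨x, hx⟩ := hi
      have := MulAction.mem_orbit_self (M := MulAction.stabilizer G v) u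
      rw [hx, Set.mem_singleton_iff] at this
      rw [hx, this]
    have h : (⟨g, hg⟩ : MulAction.stabilizer G v) • u ∈ MulAction.orbit (MulAction.stabilizer G v) u :=
      MulAction.mem_orbit u _
    rw [hsub, Set.mem_singleton_iff] at h
    exact h
  · have hqo := hq.odd_of_ne_two hq2
    have hk' : Nat.card V = p ^ k + 1 := by omega
    have hp2 : p = 2 := by
      by_contra h
      have h1 : Odd (q ^ d) := hqo.pow
      rw [← hVd, hk', Nat.odd_add_one] at h1
      exact h1 (hp.odd_of_ne_two h).pow
    subst hp2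
    rw [hVd] at hk'
    rcases fermat_exp hq hq2 hd1 hk' with hd' | ⟨rfl, hd'⟩
    · refine Or.inr (Or.inl ⟨rfl, by rw [hVd, hd', pow_one], ?_⟩)
      rw [hd', pow_one] at hk'
      have hsc : ∀ g : G, ∃ c : ZMod q, ∀ u, ρ g u = c • u := by
        intro g
        have hspan := (finrank_eq_one_iff_of_nonzero' v hv).1 hd'
        obtain ⟨c, hc⟩ := hspan (ρ g v)
        refine ⟨c, fun u => ?_⟩
        obtain ⟨e, rfl⟩ := hspan u
        rw [map_smul, ← hc, smul_comm]
      choose c hc using hsc
      have hinj : ∀ a b : ZMod q, a • v = b • v → a = b := fun a b h => smul_left_injective _ hv h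
      let f : G →* ZMod q :=
        { toFun := c
          map_one' := hinj _ _ (by rw [← hc, map_one, one_smul]; rfl)
          map_mul' := fun g h => hinj _ _ (by
            rw [← hc, map_mul, LinearEquiv.mul_apply, hc, hc, smul_smul]) }
      have hf : Function.Injective f := fun g h e => hρ (LinearEquiv.ext fun u => by
        rw [hc, hc]; exact congrArg (fun t => t • u) e)
      refine ⟨⟨k, hk', ?_⟩, isCyclic_of_injective_ringHom f hf⟩
      rw [hprod]
      suffices hs : MulAction.stabilizer G v = ⊥ by rw [hs, Subgroup.card_bot, mul_one]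
      rw [Subgroup.eq_bot_iff_forall]
      intro g hg
      refine hf ?_
      rw [map_one]
      refine hinj _ _ ?_
      show c g • v = _
      rw [← hc, one_smul]; exact hg
    · refine Or.inr (Or.inr ⟨rfl, rfl, by rw [hVd, hd']; rfl, ?_⟩)
      have hV9 : Nat.card V = 9 := by rw [hVd, hd']; rfl
      rw [hd'] at hk'
      have hk3 : k = 3 := Nat.pow_right_injective le_rfl (show 2 ^ k = 2 ^ 3 by omega)
      subst hk3
      obtain ⟨w, hli⟩ : ∃ w, LinearIndependent (ZMod 3) ![v, w] := by
        refine exists_linearIndependent_pair_of_one_lt_finrank ?_ hv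
        omega
      let B := basisOfLinearIndependentOfCardEqFinrank hli (by simp [← hd, hd'])
      have hB : ⇑B = ![v, w] := coe_basisOfLinearIndependentOfCardEqFinrank hli _
      -- second diagonal entry
      let β : G → ZMod 3 := fun g => B.repr (ρ g w) 1
      have hrw : ∀ g : G, ρ g w = B.repr (ρ g w) 0 • v + β g • w := fun g => by
        conv_lhs => rw [← B.sum_repr (ρ g w)]
        rw [Fin.sum_univ_two, hB]; rfl
      have hone : ∀ g : G, ρ g v = v → β g = 1 → g = 1 := by
        intro g hgv hb
        have h3 : g ^ 3 = 1 := by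
          refine hρ ?_
          rw [map_pow, map_one]
          have hdet : ∀ u, (ρ g ^ 3) u = u := by
            have e : ∀ u, (ρ g ^ 3) u = ρ g (ρ g (ρ g u)) := fun u => rfl
            have eB : ∀ i, (ρ g ^ 3) (B i) = B i := by
              intro i
              rw [e]
              fin_cases i
              · simp [hB, hgv]
              · simp only [hB]
                simp only [Fin.mk_one, Matrix.cons_val_one, Matrix.cons_val_zero]
                obtain ⟨a, ha⟩ : ∃ a, ρ g w = a • v + w :=
                  ⟨_, (hrw g).trans (by rw [hb, one_smul])⟩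
                simp only [ha, map_add, map_smul, hgv]
                rw [← add_assoc, ← add_assoc, ← add_smul, ← add_smul]
                rw [zmod3_three, zero_smul, zero_add]
            intro u
            conv_lhs => rw [← B.sum_repr u]
            conv_rhs => rw [← B.sum_repr u]
            simp only [map_sum, map_smul, eB]
          exact LinearEquiv.ext hdet
        refine orderOf_eq_one_iff.1 ?_
        obtain ⟨n, hn⟩ := hG g
        exact Nat.eq_one_of_dvd_coprimes (Nat.Coprime.pow_left n (by norm_num : Nat.Coprime 2 3))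
          (orderOf_dvd_of_pow_eq_one hn) (orderOf_dvd_of_pow_eq_one h3)
      have hmulβ : ∀ g h : G, ρ g v = v → β (g * h) = β g * β h := by
        intro g h hgv
        show B.repr (ρ (g * h) w) 1 = _
        have hv1 : B.repr v 1 = 0 := by
          rw [show v = B 0 by simp [hB], B.repr_self]; simp
        rw [map_mul, LinearEquiv.mul_apply, hrw h, map_add, map_smul, map_smul, hgv, map_add,
          map_smul, map_smul, Finsupp.add_apply, Finsupp.smul_apply, Finsupp.smul_apply, hv1,
          smul_zero, zero_add, smul_eq_mul, mul_comm]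
      rcases eq_or_ne (MulAction.stabilizer G v) ⊥ with hs | hs
      · have h8 : Nat.card G = 8 := by rw [hprod, hs, Subgroup.card_bot]; rfl
        have hinv : ∀ g : G, orderOf g = 2 → ∀ u, ρ g u = -u := by
          intro g hg u
          by_contra hne
          have hgg : g * g = 1 := by rw [← pow_two, ← hg, pow_orderOf_eq_one]
          have hx0 : ρ g u + u ≠ 0 := fun h => hne (eq_neg_of_add_eq_zero_left h)
          obtain ⟨h, hh⟩ := htrans v _ hv hx0
          have hfix : h⁻¹ * g * h ∈ MulAction.stabilizer G v := by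
            show ρ (h⁻¹ * g * h) v = v
            rw [map_mul, map_mul, LinearEquiv.mul_apply, LinearEquiv.mul_apply, hh, map_add,
              ← LinearEquiv.mul_apply (ρ g) (ρ g), ← map_mul ρ g g, hgg, map_one, map_inv]
            show (ρ h).symm (u + ρ g u) = v
            rw [add_comm, ← hh, LinearEquiv.symm_apply_apply]
          rw [hs, Subgroup.mem_bot] at hfix
          have : g = 1 := by
            have e : g = h * (h⁻¹ * g * h) * h⁻¹ := by group
            rw [e, hfix, mul_one, mul_inv_cancel]
          rw [this, orderOf_one] at hg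
          omega
        rcases CfsgLib.UniqueInvol.cyclic_or_quaternion hG (fun x y hx hy => by
          rw [hρ (LinearEquiv.ext fun u => (hinv y hy u).trans (hinv x hx u).symm : ρ y = ρ x)]
          exact Subgroup.mem_zpowers x) with h | ⟨-, n, hn, ⟨e⟩⟩
        · exact Or.inl ⟨h, h8⟩
        · refine Or.inr (Or.inl ⟨?_⟩)
          have hc := Nat.card_congr e.toEquiv
          haveI : NeZero (2 ^ n) := ⟨by positivity⟩
          rw [h8, Nat.card_eq_fintype_card, QuaternionGroup.card] at hc
          have : 2 ^ n = 2 := by omega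
          rwa [this] at e
      · have : Nontrivial (MulAction.stabilizer G v) := (Subgroup.nontrivial_iff_ne_bot _).2 hs
        obtain ⟨⟨y, hy⟩, hy1⟩ := exists_ne (1 : MulAction.stabilizer G v)
        have hy' : ρ y v = v := hy
        have hy1 : y ≠ 1 := fun h => hy1 (Subtype.ext h)
        have hsq : ∀ g ∈ MulAction.stabilizer G v, β g = 1 ∨ β g = -1 := by
          intro g hg
          have hg' : ρ g v = v := hg
          have hb0 : β g ≠ 0 := by
            intro h0
            have h1 : ρ g w = ρ g (B.repr (ρ g w) 0 • v) := by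
              rw [map_smul, hg']; exact (hrw g).trans (by rw [h0, zero_smul, add_zero])
            have := LinearIndependent.pair_iff.1 hli (B.repr (ρ g w) 0) (-1) (by
              rw [← (ρ g).injective h1]; simp)
            exact zmod3_neg this.2
          exact zmod3_sq _ (zmod3_sq' _ hb0)
        have hall : ∀ g ∈ MulAction.stabilizer G v, g = 1 ∨ g = y := by
          intro g hg
          have hg' : ρ g v = v := hg
          rcases hsq g hg with h | h
          · exact Or.inl (hone g hg' h)
          · refine Or.inr ?_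
            have hβy : β y = -1 := (hsq y hy).resolve_left fun h => hy1 (hone y hy' h)
            have hgy : g * y = 1 := hone _ ((MulAction.stabilizer G v).mul_mem hg hy)
              (by rw [hmulβ g y hg', h, hβy]; simp)
            have hyy : y * y = 1 := hone _ ((MulAction.stabilizer G v).mul_mem hy hy)
              (by rw [hmulβ y y hy', hβy]; simp)
            exact mul_right_cancel (hgy.trans hyy.symm)
        have hyy : y * y = 1 := by
          rcases hall _ ((MulAction.stabilizer G v).mul_mem hy hy) with h | h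
          · exact h
          · exact absurd (mul_eq_right.1 h) hy1
        have hc2 : Nat.card (MulAction.stabilizer G v) = 2 := by
          rw [Nat.card_eq_two_iff]
          refine ⟨1, ⟨y, hy⟩, fun h => hy1 (congrArg Subtype.val h).symm, ?_⟩
          ext ⟨g, hg⟩
          simpa using hall g hg
        have h16 : Nat.card G = 16 := by rw [hprod, hc2]; rfl
        exact Or.inr (Or.inr ⟨quasidihedral_sixteen hV9 h16 ρ hρ htrans hv hy1 hy' hyy, h16⟩)

end Cfsg.Agent.S3370
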