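import Cfsg.Statements.S0340
import Cfsg.Agent.S0344
import Cfsg.Agent.S0347
import Cfsg.Agent.Zass.KernelPrimePow
import Cfsg.Agent.Perm.SharplyThreePGL
import Cfsg.Agent.Dickson.MaxPSLOdd
-- import your own Cfsg.Agent.* helpers here

set_option autoImplicit false
open Cfsg
open scoped commutatorElement Pointwise

namespace Cfsg.Agent.S0340

/-- Classification of Zassenhaus groups, simple case, order-level form: a finite simple Zassenhaus group is
isomorphic to `PSL₂(F)` for some finite field `F` or is simple of Suzuki order. -/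
theorem result {G Ω : Type*} [Group G] [Finite G] [MulAction G Ω]
    [Finite Ω] (hZ : Cfsg.IsZassenhausGroup G Ω) [IsSimpleGroup G] :
    (∃ (F : Type) (_ : Field F) (_ : Fintype F), Nonempty (G ≃* Matrix.ProjectiveSpecialLinearGroup (Fin 2) F)) ∨ Cfsg.IsSuzuki G := by
  classical
  haveI := Fintype.ofFinite Ω
  haveI := Fintype.ofFinite G
  haveI := hZ.1
  obtain ⟨g, -, a, b, hab, -, -⟩ := hZ.2.2.2.1
  rcases Nat.even_or_odd (Nat.card ↥(MulAction.stabilizer G a ⊓ MulAction.stabilizer G b)) with he | ho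
  · obtain ⟨F, i1, i2, -, hF⟩ := Cfsg.Agent.S0344.result hZ hab he
    exact Or.inl ⟨F, i1, i2, hF⟩
  have hn := CfsgLib.Char.zassenhaus_three_le hZ
  obtain ⟨k, hk⟩ := CfsgLib.Zass.card_pair_dvd_sub_two hZ hab
  obtain ⟨U, hUa, hUcard, hUfix, hUn, hUreg⟩ := CfsgLib.Zass.exists_kernel_data hZ hab
  have he3 := CfsgLib.Char.zass_three_le_pair hZ hab ho
  set e := Nat.card ↥(MulAction.stabilizer G a ⊓ MulAction.stabilizer G b) with hedef
  rcases (show k = 0 ∨ k = 1 ∨ k = 2 ∨ 3 ≤ k by omega) with rfl | rfl | rfl | hk3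
  · exfalso
    have : Fintype.card Ω = 2 ∨ Fintype.card Ω < 3 := by omega
    omega
  · -- sharply three-transitive
    left
    have hfull : Fintype.card Ω - 2 = e := by omega
    obtain ⟨h3, hsharp⟩ := CfsgLib.Zass.sharply_of_full hZ hab hfull
    obtain ⟨p, f, hp, hf, hpf⟩ := CfsgLib.Zass.isPrimePow_degree hZ
    have hq : p ^ f = e + 1 := by omega
    have hev : Even (p ^ f) := by rw [hq]; exact ho.add_one
    have hp2 : p = 2 := hp.nat_prime.even_iff.1 ((Nat.even_pow.1 hev).1)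
    subst hp2
    obtain ⟨c, hc⟩ : ∃ c, c ∉ ({a, b} : Finset Ω) := by
      by_contra h
      push Not at h
      have := (Finset.card_le_card (fun x _ => h x : (Finset.univ : Finset Ω) ⊆ _)).trans
        (Finset.card_le_two (a := a) (b := b))
      rw [Finset.card_univ] at this
      omega
    simp only [Finset.mem_insert, Finset.mem_singleton, not_or] at hc
    obtain ⟨s, hsa, hsb, hsc⟩ :=
      CfsgLib.SharplyThree.exists_swap h3 hab (Ne.symm hc.1) (Ne.symm hc.2)
    obtain ⟨-, -, hinv⟩ := CfsgLib.Char.zass_simple_pair hZ hab ho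
    have hFc : Nat.card (GaloisField 2 f) = 2 ^ f := GaloisField.card 2 f (by omega)
    haveI : Fintype (GaloisField 2 f) := Fintype.ofFinite _
    obtain ⟨φ⟩ := CfsgLib.SharplyThree.nonempty_mulEquiv_pgl h3 hsharp hab (Ne.symm hc.1)
      (Ne.symm hc.2) hsa hsb hsc (hinv s hsa hsb) (GaloisField 2 f) (by rw [hFc]; omega)
    obtain ⟨ψ⟩ := CfsgLib.Dickson.MaxSub.pgl_equiv_psl (GaloisField 2 f) (by rw [hFc]; exact hev)
    exact ⟨GaloisField 2 f, inferInstance, inferInstance, ⟨φ.trans ψ⟩⟩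
  · -- degree `2 e + 2`
    left
    obtain ⟨hc, -⟩ := CfsgLib.Zass.kernel_elementary hZ hab (by omega) U hUa hUn hUreg
    obtain ⟨F, i1, i2, -, -, -, hF⟩ :=
      CfsgLib.Zass.half_psl hZ hab U hUa hUcard hUfix hc (by omega)
    exact ⟨F, i1, i2, hF⟩
  · right
    have h3 : e * 3 ≤ e * k := Nat.mul_le_mul_left _ hk3
    obtain ⟨h2, hna, -⟩ := CfsgLib.Char.zass_feit_simple hZ hab ho U hUa hUcard hUfix (by omega)
    exact Cfsg.Agent.S0347.result hZ a U hUa hUn h2 hna hUreg


end Cfsg.Agent.S0340
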