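import Cfsg.Statements.S0740
import Mathlib
-- import your own Cfsg.Agent.* helpers here

set_option autoImplicit false
open Cfsg
open scoped commutatorElement Pointwise

namespace Cfsg.Agent.S0740

/-- In a finite Zassenhaus group any two points `a ≠ b` are swapped by an involution; every such involution has exactly one fixed point when the degree is odd and 0 or 2 fixed points when the degree is even; and if the two-point stabiliser has even order, some such involution has exactly 2 fixed points. -/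
theorem result {G Ω : Type*} [Group G] [Finite G] [MulAction G Ω] [Fintype Ω] (hZ : Cfsg.IsZassenhausGroup G Ω) {a b : Ω} (hab : a ≠ b) : (∃ s : G, orderOf s = 2 ∧ s • a = b ∧ s • b = a) ∧ (∀ s : G, orderOf s = 2 → s • a = b → s • b = a → (Odd (Fintype.card Ω) → Nat.card (MulAction.fixedBy Ω s) = 1) ∧ (Even (Fintype.card Ω) → Nat.card (MulAction.fixedBy Ω s) = 0 ∨ Nat.card (MulAction.fixedBy Ω s) = 2)) ∧ (Even (Fintype.card Ω) → Even (Nat.card ↥(MulAction.stabilizer G a ⊓ MulAction.stabilizer G b)) → ∃ s : G, orderOf s = 2 ∧ s • a = b ∧ s • b = a ∧ Nat.card (MulAction.fixedBy Ω s) = 2) := by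
  classical
  obtain ⟨hf, h2, h3, -, -⟩ := hZ
  haveI := hf
  haveI := Fintype.ofFinite G
  have pre := @MulAction.is_two_pretransitive_iff G Ω _ _
  have hpre : ∀ {p q r t : Ω}, p ≠ q → r ≠ t → ∃ g : G, g • p = r ∧ g • q = t := pre.1 h2
  haveI : Fact (Nat.Prime 2) := ⟨Nat.prime_two⟩
  have hinv : ∀ s : G, orderOf s = 2 → ∀ x : Ω, s • s • x = x := fun s hs x => by
    rw [smul_smul, ← pow_two, ← hs, pow_orderOf_eq_one, one_smul]
  have hle : ∀ s : G, s ≠ 1 → Nat.card (MulAction.fixedBy Ω s) ≤ 2 := by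
    intro s hs
    by_contra h
    rw [Nat.card_eq_fintype_card, not_le, Fintype.two_lt_card_iff] at h
    obtain ⟨⟨x, hx⟩, ⟨y, hy⟩, ⟨z, hz⟩, hxy, hxz, hyz⟩ := h
    simp only [ne_eq, Subtype.mk.injEq] at hxy hxz hyz
    exact hs (h3 s x y z hxy hyz hxz hx hy hz)
  have hmove : ∀ s : G, orderOf s = 2 → ∃ x : Ω, s • x ≠ x := by
    intro s hs
    by_contra hall
    push Not at hall
    have : s = 1 := eq_of_smul_eq_smul (α := Ω) fun x => by rw [hall, one_smul]
    rw [this, orderOf_one] at hs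
    omega
  have hconj : ∀ s : G, orderOf s = 2 → ∃ g : G, orderOf (g * s * g⁻¹) = 2 ∧
      (g * s * g⁻¹) • a = b ∧ (g * s * g⁻¹) • b = a ∧
      Nat.card (MulAction.fixedBy Ω s) ≤ Nat.card (MulAction.fixedBy Ω (g * s * g⁻¹)) := by
    intro s hs
    obtain ⟨x, hx⟩ := hmove s hs
    obtain ⟨g, hgx, hgy⟩ := hpre (Ne.symm hx) hab
    refine ⟨g, ?_, ?_, ?_, ?_⟩
    · rw [show g * s * g⁻¹ = MulAut.conj g s from rfl, MulEquiv.orderOf_eq, hs]
    · rw [mul_smul, mul_smul, inv_smul_eq_iff.2 hgx.symm, hgy]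
    · rw [mul_smul, mul_smul, inv_smul_eq_iff.2 hgy.symm, hinv s hs, hgx]
    · refine Nat.card_le_card_of_injective
        (fun z => (⟨g • (z : Ω), ?_⟩ : MulAction.fixedBy Ω (g * s * g⁻¹))) ?_
      · show (g * s * g⁻¹) • g • (z : Ω) = g • (z : Ω)
        rw [mul_smul, mul_smul, inv_smul_smul, show s • (z : Ω) = z from z.2]
      · intro z w hzw
        exact Subtype.ext (smul_left_cancel g (congrArg Subtype.val hzw))
  refine ⟨?_, fun s hs hsa hsb => ?_, fun hodd heven => ?_⟩
  · -- the order of the group is even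
    obtain ⟨g, hga, hgb⟩ := hpre hab (Ne.symm hab)
    have h2G : 2 ∣ Nat.card G := by
      by_contra hG
      have ho : Odd (orderOf g) := (Nat.not_even_iff_odd.1 fun h => hG (even_iff_two_dvd.1 h)).of_dvd_nat
        (orderOf_dvd_natCard g)
      obtain ⟨j, hj⟩ := ho
      have hsq : ∀ i : ℕ, (g ^ 2) ^ i • a = a := by
        intro i
        induction i with
        | zero => simp
        | succ i ih => rw [pow_succ, mul_smul, pow_two, mul_smul, hga, hgb, ← pow_two, ih]
      have := pow_orderOf_eq_one g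
      rw [hj, pow_succ', pow_mul] at this
      have h' : (g * (g ^ 2) ^ j) • a = a := by rw [this, one_smul]
      rw [mul_smul, hsq, hga] at h'
      exact hab h'.symm
    obtain ⟨t, ht⟩ := exists_prime_orderOf_dvd_card' (G := G) 2 h2G
    obtain ⟨g', h1, h2', h3', -⟩ := hconj t ht
    exact ⟨_, h1, h2', h3'⟩
  · have hs1 : s ≠ 1 := fun e => by rw [e, orderOf_one] at hs; omega
    have hP : IsPGroup 2 (Subgroup.zpowers s) := IsPGroup.of_card (n := 1) (by rw [Nat.card_zpowers, hs, pow_one])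
    have hmod := hP.card_modEq_card_fixedPoints Ω
    have hfix : Nat.card (MulAction.fixedPoints (Subgroup.zpowers s) Ω) = Nat.card (MulAction.fixedBy Ω s) := by
      refine Nat.card_congr (Equiv.subtypeEquivRight fun x => ⟨fun hx => hx ⟨s, Subgroup.mem_zpowers s⟩, fun hx k => ?_⟩)
      obtain ⟨k, hk⟩ := k
      obtain ⟨i, rfl⟩ := Subgroup.mem_zpowers_iff.1 hk
      exact MulAction.fixedBy_subset_fixedBy_zpow Ω s i hx
    rw [hfix, Nat.card_eq_fintype_card] at hmod
    have := hle s hs1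
    unfold Nat.ModEq at hmod
    refine ⟨fun ho => ?_, fun he => ?_⟩
    · rw [Nat.odd_iff] at ho; omega
    · rw [Nat.even_iff] at he; omega
  · obtain ⟨⟨t, hta, htb⟩, ht⟩ := exists_prime_orderOf_dvd_card'
      (G := ↥(MulAction.stabilizer G a ⊓ MulAction.stabilizer G b)) 2 heven.two_dvd
    rw [← Subgroup.orderOf_coe] at ht
    obtain ⟨g, h1, h2', h3', h4⟩ := hconj t ht
    refine ⟨_, h1, h2', h3', le_antisymm (hle _ fun e => by rw [e, orderOf_one] at h1; omega) ?_⟩
    refine le_trans ?_ h4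
    haveI : Nontrivial (MulAction.fixedBy Ω t) := ⟨⟨a, hta⟩, ⟨b, htb⟩, fun e => hab (congrArg Subtype.val e)⟩
    exact Finite.one_lt_card


end Cfsg.Agent.S0740
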