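import Cfsg.Statements.S0338
import Cfsg.Agent.Zass.Basic
import Cfsg.Agent.S0740
-- import your own Cfsg.Agent.* helpers here

set_option autoImplicit false
open Cfsg

namespace Cfsg.Agent.S0338

/-- A Zassenhaus group of odd degree is a simple group. -/
theorem result {G Ω : Type*} [Group G] [MulAction G Ω] [Fintype Ω]
    (hZ : Cfsg.IsZassenhausGroup G Ω) (hodd : Odd (Fintype.card Ω)) : IsSimpleGroup G := by
  classical
  haveI := CfsgLib.Zass.finite_of_isZassenhaus hZ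
  haveI := hZ.1
  obtain ⟨g₀, hg₀, a, b, hab, hga, hgb⟩ := hZ.2.2.2.1
  haveI : Nontrivial G := ⟨g₀, 1, hg₀⟩
  refine ⟨fun N hN => or_iff_not_imp_left.2 fun hne => ?_⟩
  haveI := hN
  obtain ⟨h2, -, hone⟩ := CfsgLib.Zass.normal_props hZ N hne
  obtain ⟨⟨t, ht, hta, htb⟩, hfix, -⟩ := Cfsg.Agent.S0740.result hZ hab
  obtain ⟨hcard, hodd'⟩ := Nat.card_eq_one_iff_unique.1 ((hfix t ht hta htb).1 hodd)
  obtain ⟨⟨c, hc⟩⟩ := hodd'
  have huniq : ∀ d, t • d = d → d = c := fun d hd =>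
    congrArg Subtype.val (hcard.elim (⟨d, hd⟩ : MulAction.fixedBy Ω t) ⟨c, hc⟩)
  have hca : c ≠ a := fun e => hab (by rw [e] at hc; exact hc.symm.trans hta)
  have hcb : c ≠ b := fun e => hab (by rw [e] at hc; exact htb.symm.trans hc)
  have htN : t ∈ N := hone t c hc huniq
  set A := MulAction.stabilizer G a ⊓ MulAction.stabilizer G b with hA
  have htA : ∀ x ∈ A, t * x * t⁻¹ ∈ A := by
    rintro x ⟨hxa, hxb⟩
    have e1 : t⁻¹ • a = b := inv_smul_eq_iff.2 htb.symm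
    have e2 : t⁻¹ • b = a := inv_smul_eq_iff.2 hta.symm
    refine ⟨?_, ?_⟩
    · show (t * x * t⁻¹) • a = a
      rw [mul_smul, mul_smul, e1, show x • b = b from hxb, htb]
    · show (t * x * t⁻¹) • b = b
      rw [mul_smul, mul_smul, e2, show x • a = a from hxa, hta]
  let φ : A → A := fun x => ⟨x * (t * (x : G)⁻¹ * t⁻¹), mul_mem x.2 (htA _ (inv_mem x.2))⟩
  have hinj : Function.Injective φ := by
    intro u v e
    have e' : (u : G) * (t * (u : G)⁻¹ * t⁻¹) = v * (t * (v : G)⁻¹ * t⁻¹) := congrArg Subtype.val e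
    have hw : (v : G)⁻¹ * u * t = t * ((v : G)⁻¹ * u) := by
      calc (v : G)⁻¹ * u * t = (v : G)⁻¹ * ((u : G) * (t * (u : G)⁻¹ * t⁻¹)) * (t * u) := by group
        _ = t * ((v : G)⁻¹ * u) := by rw [e']; group
    have hwA : (v : G)⁻¹ * u ∈ A := mul_mem (inv_mem v.2) u.2
    refine Subtype.ext (inv_mul_eq_one.1 (hZ.2.2.1 _ a b c hab hcb.symm hca.symm hwA.1 hwA.2 ?_)).symm
    exact huniq _ (by rw [← mul_smul, ← hw, mul_smul, hc])
  have hAN : A ≤ N := fun y hy => by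
    obtain ⟨x, hx⟩ := Finite.injective_iff_surjective.1 hinj ⟨y, hy⟩
    have e : (x : G) * (t * (x : G)⁻¹ * t⁻¹) = y := congrArg Subtype.val hx
    rw [← e, ← mul_assoc, ← mul_assoc]
    exact mul_mem (hN.conj_mem _ htN _) (inv_mem htN)
  refine eq_top_iff.2 fun g _ => ?_
  have h2' : ∀ {p q u v : Ω}, p ≠ q → u ≠ v → ∃ n : N, n • p = u ∧ n • q = v :=
    MulAction.is_two_pretransitive_iff.1 h2
  obtain ⟨n, hna, hnb⟩ := h2' hab (fun e => hab (smul_left_cancel g e) : g • a ≠ g • b)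
  have e1 : (n : G)⁻¹ * g ∈ A := ⟨by
      show ((n : G)⁻¹ * g) • a = a
      rw [mul_smul, ← hna]
      exact inv_smul_smul (n : G) a, by
      show ((n : G)⁻¹ * g) • b = b
      rw [mul_smul, ← hnb]
      exact inv_smul_smul (n : G) b⟩
  have := mul_mem n.2 (hAN e1)
  rwa [mul_inv_cancel_left] at this

end Cfsg.Agent.S0338
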