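import Cfsg.Statements.S0252
import Cfsg.Agent.Quad.HeartCases
import Cfsg.Agent.Quad.SmallIso
-- import your own Cfsg.Agent.* helpers here

set_option autoImplicit false
open Cfsg

namespace Cfsg.Agent.S0252

/-- PSL_2(4) is isomorphic to A_5. -/
theorem result {F : Type*} [Field F] [Fintype F] (hF : Fintype.card F = 4) : Nonempty (Matrix.ProjectiveSpecialLinearGroup (Fin 2) F ≃* alternatingGroup (Fin 5)) := by
  obtain ⟨e⟩ := CfsgLib.Quad.Heart.nonempty_minus_four (F := ZMod 2) (ZMod.card 2)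
  obtain ⟨g⟩ := CfsgLib.Quad.Heart.nonempty_pOmega_alt le_rfl e
  rw [← CfsgLib.Quad.minusQ_coe] at g
  obtain ⟨h⟩ := CfsgLib.Quad.nonempty_pOmega_four_minus (F := ZMod 2) (K := F) (q := 2) (a := 1) (b := 1)
    (by simp) (by rw [Nat.card_eq_fintype_card, hF]; rfl) (by decide)
  exact ⟨h.symm.trans g⟩

end Cfsg.Agent.S0252
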