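import Cfsg.Statements.S0041
import Cfsg.Agent.Frobenius.Fpf

set_option autoImplicit false
set_option linter.deprecated false
set_option linter.style.haveILetI false
set_option linter.unusedVariables false
open Cfsg
open scoped Pointwise

namespace Cfsg.Agent.S0041

/-- A group acting on a nontrivial abelian group so that no nonidentity element has a nonidentity fixed point is cyclic, provided it is abelian or its order is a product of two (possibly equal) primes. -/
theorem result {G : Type*} [Group G] [Finite G] (A V : Subgroup G) [IsMulCommutative V]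
    (hV : V ≠ ⊥) (hAV : A ≤ Subgroup.normalizer (V : Set G)) (hfpf : ∀ a ∈ A, a ≠ 1 → V ⊓ Subgroup.centralizer {a} = ⊥)
    (hA : IsMulCommutative A ∨ ∃ p q : ℕ, p.Prime ∧ q.Prime ∧ Nat.card A = p * q) : IsCyclic A := by
  haveI : Nontrivial V := (Subgroup.nontrivial_iff_ne_bot V).2 hV
  let φ : A →* MulAut V := V.normalizerMonoidHom.comp (Subgroup.inclusion hAV)
  have hφ : ∀ (a : A) (v : V), ((φ a v : V) : G) = (a : G) * v * (a : G)⁻¹ := fun a v => rfl
  have hf : CfsgLib.Frobenius.IsFpf φ := fun a ha v hv => by
    have h1 := congrArg Subtype.val hv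
    rw [hφ, mul_inv_eq_iff_eq_mul] at h1
    have h2 := hfpf a a.2 (fun e => ha (Subtype.ext e))
    exact Subtype.ext (Subgroup.mem_bot.1 (h2 ▸ (⟨v.2, Subgroup.mem_centralizer_singleton_iff.2 h1.symm⟩ :
      (v : G) ∈ V ⊓ Subgroup.centralizer {(a : G)})))
  rcases hA with hA | ⟨p, q, hp, hq, hc⟩
  · exact hf.isCyclic_of_comm fun a b => mul_comm' a b
  · exact hf.isCyclic_of_card hp hq hc


end Cfsg.Agent.S0041
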