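import Cfsg.Statements.S2947
import Cfsg.Agent.LocalB.Embedded
import Cfsg.Agent.LocalB.ThompsonChar

set_option autoImplicit false
set_option linter.unusedVariables false
open Cfsg CfsgLib.LocalB

namespace Cfsg.Agent.S2947

/-- Let G be a finite group of characteristic 2 type in which every 2-local subgroup is solvable and the centralizer of Ω₁(Z(S)) lies in N_G(S) for every Sylow 2-subgroup S; suppose O₂(G) = 1, fix a Sylow 2-subgroup S and a 2-local subgroup M containing N_G(J(S)) (J the Thompson subgroup generated by the elementary abelian 2-subgroups of largest order). Then M is strongly embedded in G (a proper subgroup of even order whose intersection with each conjugate by an element outside M has odd order) if and only if no nontrivial 2-subgroup of M lies in a 2-local subgroup of G not contained in M. -/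
theorem result {G : Type*} [Group G] [Finite G] (hL : Cfsg.IsCharacteristicTwoType G) (hN : ∀ N : Subgroup G, Cfsg.IsTwoLocal N → Group.IsSolvable ↥N)
    (hZ : ∀ S : Sylow 2 G, Subgroup.centralizer (Cfsg.omegaCenterOf (S : Subgroup G) : Set G) ≤ Subgroup.normalizer ((S : Subgroup G) : Set G)) (hO : Cfsg.pCore 2 G = ⊥) (S : Sylow 2 G) (M : Subgroup G) (hM : Cfsg.IsTwoLocal M)
    (hMJ : Subgroup.normalizer (Cfsg.thompsonSubgroupOf 2 (S : Subgroup G) : Set G) ≤ M) :
    Cfsg.IsStronglyEmbedded M ↔ Cfsg.straddlingTwoSubgroups M = ∅ := by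
  constructor
  · rintro ⟨-, -, hodd⟩
    have hH : MeetsPrime 2 M := fun g hg h =>
      Nat.not_even_iff_odd.mpr (hodd g hg) (even_iff_two_dvd.mpr h)
    refine Set.eq_empty_iff_forall_notMem.mpr ?_
    rintro T ⟨hT, hT1, hTM, L, ⟨R, hR, hR1, rfl⟩, hTL, hLM⟩
    apply hLM
    have hU : IsPGroup 2 ↥(T ⊔ R) := IsPGroup.to_sup_of_normal_right' hT hR hTL
    have hUM : T ⊔ R ≤ M := hH.pgroup_le hU fun h => hT1 (eq_bot_iff.mpr (h ▸ le_inf le_sup_left hTM))
    exact hH.normalizer_le (le_sup_right.trans hUM) hR hR1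
  · intro hempty
    have hloc : ∀ Q : Subgroup G, IsPGroup 2 ↥Q → Q ≠ ⊥ → Q ≤ M →
        Subgroup.normalizer (Q : Set G) ≤ M := by
      intro Q hQ hQ1 hQM
      by_contra h
      have : Q ∈ Cfsg.straddlingTwoSubgroups M :=
        ⟨hQ, hQ1, hQM, _, ⟨Q, hQ, hQ1, rfl⟩, Subgroup.le_normalizer, h⟩
      rw [hempty] at this; exact this
    obtain ⟨R, hR, hR1, hMR⟩ := hM
    have hSM : (S : Subgroup G) ≤ M :=
      (Subgroup.le_normalizer.trans (normalizer_le_normalizer_thompsonOf 2 _)).trans hMJ
    have h2R : 2 ∣ Nat.card R := dvd_card_of_ne_bot hR hR1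
    have hRM : R ≤ M := hMR ▸ Subgroup.le_normalizer
    refine ⟨?_, even_iff_two_dvd.mpr (h2R.trans (Subgroup.card_dvd_of_le hRM)), ?_⟩
    · intro htop
      have hRn : R.Normal := Subgroup.normalizer_eq_top_iff.mp (hMR.symm.trans htop)
      exact hR1 (eq_bot_iff.mpr (hO ▸ le_sSup ⟨hRn, hR⟩))
    · intro g hg
      rw [← Nat.not_even_iff_odd, even_iff_two_dvd]
      intro hdvd
      apply hg
      obtain ⟨x, ⟨hxM, hxg⟩, hox⟩ := exists_pgroup_of_dvd hdvd
      replace hxg : g⁻¹ * x * g ∈ M := mem_map_conj.mp hxg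
      have hx2 : IsPGroup 2 (Subgroup.zpowers x) := isPGroup_zpowers ⟨1, by rw [hox, pow_one]⟩
      have hcent : ∀ y ∈ Subgroup.centralizer ({x} : Set G), y ∈ M := by
        intro y hy
        refine hloc _ hx2 (fun h => ?_) ((Subgroup.zpowers_le).mpr hxM) ?_
        · rw [Subgroup.zpowers_eq_bot] at h; rw [h, orderOf_one] at hox; omega
        · refine mem_normalizer_of_conj_le fun z hz => ?_
          obtain ⟨k, rfl⟩ := Subgroup.mem_zpowers_iff.mp hz
          have hc : Commute y x := (Subgroup.mem_centralizer_singleton_iff.mp hy)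
          rw [(hc.zpow_right k).eq, mul_inv_cancel_right]
          exact ⟨k, rfl⟩
      have hSM2 : ∀ y ∈ M, orderOf y = 2 → ∃ m ∈ M,
          y ∈ (S : Subgroup G).map (MulAut.conj m).toMonoidHom := by
        intro y hy hoy
        have hp1 : IsPGroup 2 ((Subgroup.zpowers y).subgroupOf M) :=
          IsPGroup.comap_subtype (isPGroup_zpowers ⟨1, by rw [hoy, pow_one]⟩)
        obtain ⟨V, hV⟩ := hp1.exists_le_sylow
        obtain ⟨h, hh⟩ := MulAction.exists_smul_eq M (S.subtype hSM) V
        refine ⟨h, h.2, ?_⟩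
        have h1 : (⟨y, hy⟩ : M) ∈ (V : Subgroup M) := hV (Subgroup.mem_zpowers y)
        rw [← hh, Sylow.smul_subtype] at h1
        exact h1
      have hy2 : orderOf (g⁻¹ * x * g) = 2 := by
        rw [← hox]
        simpa using orderOf_injective (MulAut.conj g⁻¹).toMonoidHom (MulAut.conj g⁻¹).injective x
      obtain ⟨m, hm, hxm⟩ := hSM2 _ hxg hy2
      rw [mem_map_conj] at hxm
      set a := g * m with ha
      have hxa : a⁻¹ * x * a ∈ (S : Subgroup G) := by simpa [ha, mul_assoc] using hxm
      set Q : Subgroup G := (S : Subgroup G).map (MulAut.conj a).toMonoidHom with hQ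
      have hQp : IsPGroup 2 Q := S.isPGroup'.map _
      have hSne : Nontrivial (S : Subgroup G) := by
        refine ⟨⟨⟨_, hxa⟩, 1, fun h => ?_⟩⟩
        have h0 : a⁻¹ * x * a = 1 := congrArg (fun z : (S : Subgroup G) => (z : G)) h
        have h1 : x = 1 := by simpa [mul_assoc] using congrArg (fun z => a * z * a⁻¹) h0
        rw [h1, orderOf_one] at hox; omega
      obtain ⟨z, hz, hz1⟩ := SetLike.exists_of_lt
        (bot_lt_iff_ne_bot.mpr (fun h => (Subgroup.nontrivial_iff_ne_bot _).mp
          S.isPGroup'.center_nontrivial h) : ⊥ < Subgroup.center (S : Subgroup G))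
      set w : G := a * z * a⁻¹ with hw
      have hwQ : ∀ q ∈ Q, w * q = q * w := by
        rintro _ ⟨s, hs, rfl⟩
        have := congrArg Subtype.val (Subgroup.mem_center_iff.mp hz ⟨s, hs⟩)
        simp only [Subgroup.coe_mul] at this
        show a * z * a⁻¹ * (a * s * a⁻¹) = a * s * a⁻¹ * (a * z * a⁻¹)
        exact ((show Commute (z : G) s from this.symm).map (MulAut.conj a).toMonoidHom).eq
      have hxQ : x ∈ Q := mem_map_conj.mpr hxa
      have hwM : w ∈ M := hcent w (Subgroup.mem_centralizer_singleton_iff.mpr (hwQ x hxQ))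
      have hQM : Q ≤ M := by
        refine le_trans ?_ (hloc (Subgroup.zpowers w) ?_ ?_ (Subgroup.zpowers_le.mpr hwM))
        · intro q hq
          refine mem_normalizer_of_conj_le fun v hv => ?_
          obtain ⟨k, rfl⟩ := Subgroup.mem_zpowers_iff.mp hv
          have hc : Commute w q := hwQ q hq
          rw [(hc.symm.zpow_right k).eq, mul_inv_cancel_right]
          exact ⟨k, rfl⟩
        · exact hQp.to_le (Subgroup.zpowers_le.mpr ⟨z, z.2, rfl⟩)
        · rw [Ne, Subgroup.zpowers_eq_bot, hw, mul_inv_eq_one, mul_eq_left]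
          exact fun h => hz1 (Subgroup.mem_bot.mpr (Subtype.ext h))
      obtain ⟨h, hh⟩ := MulAction.exists_smul_eq M (S.subtype hSM) ((a • S : Sylow 2 G).subtype hQM)
      have hha : a⁻¹ * h ∈ Subgroup.normalizer ((S : Subgroup G) : Set G) := by
        refine Sylow.smul_eq_iff_mem_normalizer.mp ?_
        rw [mul_smul, inv_smul_eq_iff]
        rw [Sylow.smul_subtype] at hh
        exact Sylow.subtype_injective hh
      have : a⁻¹ * h ∈ M := hMJ (normalizer_le_normalizer_thompsonOf 2 _ hha)
      have := M.mul_mem (M.mul_mem h.2 (M.inv_mem this)) (M.inv_mem hm)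
      simpa [ha, mul_assoc] using this

end Cfsg.Agent.S2947
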