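import Cfsg.Statements.S0518
import Cfsg.Agent.S2947
import Cfsg.Agent.S2954
import Cfsg.Agent.CharTwoS4.Residual

set_option autoImplicit false
open Cfsg

namespace Cfsg.Agent.S0518

open CfsgLib.CharTwoS4 Subgroup

theorem exists_ext {G : Type*} [Group G] {P : Subgroup G}
    (e : P ≃* Equiv.Perm (Fin 4) × Multiplicative (ZMod 2)) :
    ∃ (V : Subgroup G) (F : Sq P V) (c : G), Nonempty (Ext F c) := by
  refine ⟨_, sqOf ((MonoidHom.fst _ _).comp e.toMonoidHom) ((MonoidHom.snd _ _).comp e.toMonoidHom)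
    (fun p h h' => e.injective (by rw [map_one]; exact Prod.ext h h'))
    (fun σ => ⟨e.symm (σ, 1), by simp, by simp⟩), (e.symm (1, Multiplicative.ofAdd 1) : P), ⟨?_⟩⟩
  refine ⟨SetLike.coe_mem _, fun h => ?_, fun h => ?_, fun p hp => ?_,
    ⟨(MonoidHom.snd _ _).comp e.toMonoidHom, fun h => ?_, fun v hv => hv.2.2⟩⟩
  · have h' : e.symm (1, Multiplicative.ofAdd 1) = (1 : P) := Subtype.ext h
    have := congrArg e h'
    rw [e.apply_symm_apply, map_one e] at this
    exact absurd (congrArg Prod.snd this) (by decide)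
  · show (e ⟨_, h⟩).1 = 1
    rw [show (⟨_, h⟩ : P) = e.symm (1, Multiplicative.ofAdd 1) from rfl, e.apply_symm_apply]
  · have hp' : (e p).1 = 1 := hp
    rcases (by decide : ∀ a : Multiplicative (ZMod 2), a = 1 ∨ a = Multiplicative.ofAdd 1) (e p).2 with h | h
    · exact Or.inl (e.injective (by rw [map_one]; exact Prod.ext hp' h))
    · exact Or.inr (congrArg Subtype.val (e.eq_symm_apply.2 (Prod.ext hp' h)))
  · show (e ⟨_, h⟩).2 ≠ 1
    rw [show (⟨_, h⟩ : P) = e.symm (1, Multiplicative.ofAdd 1) from rfl, e.apply_symm_apply]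
    decide

theorem exists_sq {G : Type*} [Group G] {P : Subgroup G} (e : P ≃* Equiv.Perm (Fin 4)) :
    ∃ (V : Subgroup G) (F : Sq P V), ∀ p : P, F.π p = 1 → p = 1 :=
  ⟨_, sqOf e.toMonoidHom 1 (fun _ h _ => e.injective (h.trans (map_one e).symm))
    (fun σ => ⟨e.symm σ, e.apply_symm_apply σ, rfl⟩), fun _ h => e.injective (h.trans (map_one e).symm)⟩

/-- Let G be a finite group of characteristic 2 type with trivial 2-core in which every 2-local subgroup is solvable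
and, for every Sylow 2-subgroup S, the centralizer of the set of central involutions of S lies in the normalizer of S.
Then either G has a strongly embedded subgroup, or the subgroup generated by the elements of odd order has two distinct
maximal 2-local subgroups, each isomorphic to the symmetric group of degree 4, whose intersection has order 8. -/
theorem result {G : Type*} [Group G] [Finite G]
    (hL : Cfsg.IsCharacteristicTwoType G) (hO : Cfsg.pCore 2 G = ⊥)
    (hN : ∀ N : Subgroup G, Cfsg.IsTwoLocal N → Group.IsSolvable N)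
    (hZ : ∀ S : Sylow 2 G,
      Subgroup.centralizer {z : G | z ∈ (S : Subgroup G) ∧ z ^ 2 = 1 ∧ ∀ s ∈ (S : Subgroup G), s * z = z * s} ≤
        Subgroup.normalizer ((S : Subgroup G) : Set G))
    (H : Subgroup G) (hH : H = Subgroup.closure {g : G | Odd (orderOf g)}) :
    (∃ K : Subgroup G, Cfsg.IsStronglyEmbedded K) ∨
      ∃ M₁ M₂ : Subgroup H, M₁ ≠ M₂ ∧ Cfsg.IsMaximalTwoLocal M₁ ∧ Cfsg.IsMaximalTwoLocal M₂ ∧
        Nonempty (M₁ ≃* Equiv.Perm (Fin 4)) ∧ Nonempty (M₂ ≃* Equiv.Perm (Fin 4)) ∧ Nat.card ↥(M₁ ⊓ M₂) = 8 := by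
  haveI : Fact (Nat.Prime 2) := ⟨Nat.prime_two⟩
  have h3 : ∀ g : G, Odd (orderOf g) → g ∈ H := fun g hg => hH ▸ subset_closure hg
  haveI : H.Normal := ⟨fun n hn g => by
    have hle : H ≤ H.comap (MulAut.conj g).toMonoidHom := by
      rw [hH]
      refine (closure_le _).2 fun x hx => subset_closure ?_
      show Odd (orderOf ((MulAut.conj g) x))
      rw [MulEquiv.orderOf_eq (MulAut.conj g) x]
      exact hx
    exact hle hn⟩
  have hset : ∀ S : Subgroup G, centralizer (omegaCenterOf S : Set G) =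
      centralizer {z : G | z ∈ S ∧ z ^ 2 = 1 ∧ ∀ s ∈ S, s * z = z * s} := by
    intro S
    show centralizer ((closure _ : Subgroup G) : Set G) = _
    rw [centralizer_closure]
    congr 1
    ext x
    simp only [Set.mem_setOf_eq, mem_inf, mem_centralizer_iff, SetLike.mem_coe]
    tauto
  have hZ' : ∀ S : Sylow 2 G, centralizer (omegaCenterOf (S : Subgroup G) : Set G) ≤
      normalizer ((S : Subgroup G) : Set G) := fun S => (hset _).trans_le (hZ S)
  obtain ⟨S⟩ : Nonempty (Sylow 2 G) := inferInstance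
  have hS1 : (S : Subgroup G) ≠ ⊥ := fun h => by
    have h2 := S.not_dvd_index
    rw [h, index_bot] at h2
    exact h2 (even_iff_two_dvd.1 hL.1)
  obtain ⟨M, hM, hMJ⟩ := CfsgLib.JComp.exists_maximal_twoLocal
    (X := normalizer (thompsonSubgroupOf 2 (S : Subgroup G) : Set G))
    ⟨_, S.2.to_le (CfsgLib.Thompson.thompsonSubgroupOf_le _),
      CfsgLib.JComp.thompsonSubgroupOf_ne_bot S.2 hS1, rfl⟩
  rcases (straddlingTwoSubgroups M).eq_empty_or_nonempty with h | h
  · exact Or.inl ⟨M, (Cfsg.Agent.S2947.result hL hN hZ' hO S M hM.1 hMJ).2 h⟩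
  right
  obtain ⟨T, hT⟩ := CfsgLib.JComp.exists_maxStraddling h
  obtain ⟨P₁, P₂, hne, hm₁, hm₂, hs₁, hs₂, hiso⟩ :=
    Cfsg.Agent.S2954.result hL hN hZ' hO S M hM.1 hMJ T hT
  rcases hiso with ⟨⟨e₁⟩, ⟨e₂⟩⟩ | ⟨⟨e₁⟩, ⟨e₂⟩⟩
  · obtain ⟨V₁, F₁, hk₁⟩ := exists_sq e₁
    obtain ⟨V₂, F₂, hk₂⟩ := exists_sq e₂
    have hi : ∀ {P : Subgroup G}, IsSylowTwoIn T P → (P ≃* Equiv.Perm (Fin 4)) → T.relIndex P = 3 :=
      fun hs e => relIndex_eq_three (m := 3) hs (by
        rw [Nat.card_congr e.toEquiv, Nat.card_eq_fintype_card, Fintype.card_perm, Fintype.card_fin]; rfl)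
    exact conclusion ⟨F₁, F₂, hm₁, hm₂, hne, hs₁, hs₂, hi hs₁ e₁, hi hs₂ e₂⟩ h3
      (fun p h _ => hk₁ p h) (fun p h _ => hk₂ p h)
  · obtain ⟨V₁, F₁, c₁, ⟨x₁⟩⟩ := exists_ext e₁
    obtain ⟨V₂, F₂, c₂, ⟨x₂⟩⟩ := exists_ext e₂
    have hi : ∀ {P : Subgroup G}, IsSylowTwoIn T P →
        (P ≃* Equiv.Perm (Fin 4) × Multiplicative (ZMod 2)) → T.relIndex P = 3 :=
      fun hs e => relIndex_eq_three (m := 4) hs (by
        rw [Nat.card_congr e.toEquiv, Nat.card_prod, Nat.card_eq_fintype_card, Fintype.card_perm,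
          Fintype.card_fin, Nat.card_eq_fintype_card]
        rfl)
    let k : Conf T P₁ V₁ P₂ V₂ c₁ c₂ :=
      ⟨⟨F₁, F₂, hm₁, hm₂, hne, hs₁, hs₂, hi hs₁ e₁, hi hs₂ e₂⟩, x₁, x₂⟩
    obtain ⟨z, hz₁, hz₂, hz⟩ := k.exists_z
    obtain ⟨R, hR⟩ := hs₁.2.1.exists_le_sylow
    have hcH : H ≤ closure {g : G | Odd (orderOf g)} := hH.le
    have hc₁ := k.c_not_mem hz₁ hz₂ hz hR h3 hcH (hZ R)
    have hc₂ := k.symm.c_not_mem hz₂ hz₁ hz hR h3 hcH (hZ R)
    exact conclusion k.d h3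
      (fun p h hp => (x₁.ker p h).resolve_right fun e => hc₁ (e ▸ hp))
      (fun p h hp => (x₂.ker p h).resolve_right fun e => hc₂ (e ▸ hp))

end Cfsg.Agent.S0518
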