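import Cfsg.Statements.S3374
import Cfsg.Agent.Frobenius.Linear

set_option autoImplicit false
set_option linter.style.haveILetI false
open Cfsg

namespace Cfsg.Agent.S3374

/-- The elements of `SL(2,5)` as quadruples. -/
def elts : List (ℕ × ℕ × ℕ × ℕ) :=
  [(0, 1, 4, 0), (0, 1, 4, 1), (0, 1, 4, 2), (0, 1, 4, 3), (0, 1, 4, 4), (0, 2, 2, 0), (0, 2, 2, 1), (0, 2, 2, 2), (0, 2, 2, 3), (0, 2, 2, 4), (0, 3, 3, 0), (0, 3, 3, 1), (0, 3, 3, 2), (0, 3, 3, 3), (0, 3, 3, 4), (0, 4, 1, 0), (0, 4, 1, 1), (0, 4, 1, 2), (0, 4, 1, 3), (0, 4, 1, 4), (1, 0, 0, 1), (1, 0, 1, 1), (1, 0, 2, 1), (1, 0, 3, 1), (1, 0, 4, 1), (1, 1, 0, 1), (1, 1, 1, 2), (1, 1, 2, 3), (1, 1, 3, 4), (1, 1, 4, 0), (1, 2, 0, 1), (1, 2, 1, 3), (1, 2, 2, 0), (1, 2, 3, 2), (1, 2, 4, 4), (1, 3, 0, 1), (1, 3, 1, 4), (1, 3, 2, 2), (1, 3, 3, 0), (1, 3, 4, 3), (1, 4, 0, 1), (1, 4, 1, 0), (1, 4, 2, 4), (1, 4, 3, 3), (1, 4, 4, 2), (2, 0, 0, 3), (2, 0, 1, 3), (2, 0, 2, 3), (2, 0, 3, 3), (2, 0, 4, 3), (2, 1, 0, 3), (2, 1, 1, 1), (2, 1, 2, 4), (2, 1, 3, 2), (2, 1, 4, 0), (2, 2, 0, 3), (2, 2, 1,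 4), (2, 2, 2, 0), (2, 2, 3, 1), (2, 2, 4, 2), (2, 3, 0, 3), (2, 3, 1, 2), (2, 3, 2, 1), (2, 3, 3, 0), (2, 3, 4, 4), (2, 4, 0, 3), (2, 4, 1, 0), (2, 4, 2, 2), (2, 4, 3, 4), (2, 4, 4, 1), (3, 0, 0, 2), (3, 0, 1, 2), (3, 0, 2, 2), (3, 0, 3, 2), (3, 0, 4, 2), (3, 1, 0, 2), (3, 1, 1, 4), (3, 1, 2, 1), (3, 1, 3, 3), (3, 1, 4, 0), (3, 2, 0, 2), (3, 2, 1, 1), (3, 2, 2, 0), (3, 2, 3, 4), (3, 2, 4, 3), (3, 3, 0, 2), (3, 3, 1, 3), (3, 3, 2, 4), (3, 3, 3, 0), (3, 3, 4, 1), (3, 4, 0, 2), (3, 4, 1, 0), (3, 4, 2, 3), (3, 4, 3, 1), (3, 4, 4, 4), (4, 0, 0, 4), (4, 0, 1, 4), (4, 0, 2, 4), (4, 0, 3, 4), (4, 0, 4, 4), (4, 1, 0, 4), (4, 1, 1, 3), (4, 1, 2, 2), (4, 1, 3, 1), (4, 1, 4, 0), (4, 2, 0, 4), (4, 2, 1, 2), (4, 2, 2, 0), (4, 2, 3, 3), (4, 2, 4, 1), (4, 3, 0, 4), (4, 3, 1, 1), (4, 3, 2, 3), (4, 3, 3, 0), (4, 3, 4, 2), (4, 4, 0, 4), (4, 4, 1, 0), (4, 4, 2, 1), (4, 4, 3, 2), (4, 4, 4, 3)]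

/-- The packed images in `SL(2,11)`. -/
def packed : ℕ := 17126086646755384489027478219179952299994656949757267684658407573218111680797424303744368246673782096714390834400183038557478593378226061514069023201931987726662229935823023326130680430330275383249778663875394280263336857406465980248581578255990384923930356922485920633863667513062885551236642059224601350122840949590412647676565504688137543523726370067300646747786210893993957883536858233885035716481618762138576000949821139714009924267418621027842648615720869783254780327153675051168358713998938694512532617505720829475242227655154128890469878858189432745200286315607510725765270228004066646897623890931442615985844973398749235645023559384368833697478338086672842200703560621957068418749134523975161379055146397431881756609169538254865023784932477327049472041186210511262634609181600222719634289562199647271785604627151037494060346113647991242803108641859029850290392772680392468753164217490475993886771059993867510395505524629303848255140323319101668117580591303582896124820879249091410159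65524836488707941435301547747795726537386549690302358274363233546821765547495141422666386359876689887152323604561489445829248132922628113397721201653135228832978759003237081957946392568956192609039389310999786273247357560347257332639459781457686389560321586445430058147311124162287506483053274337147119798070216315120250699749119191483484629116136344276047355804959309410390484684255765960375619379060952143092825599198269873334223213590368388691202170583365269059664687242330160227727658695207497910887166510001652936996067400073831473752101433860756641567765253490439688035159441444772665072486317363551952584200443263723043377998461917711365139730721415011084970898018607705737001582940995321974254676738028720461769726676112800760081059133163802122642478846082076265445219096786380938868369252188387276889456844762430513419260662283581004914667566539808920228464844368715142955187582947011736364574880876406087244354056119162949396660283793840062307168849635541060260101182565964193048427197996239097122632025310557499520962238902998672177980546998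33816590133158830055807114733589956545055505260842967305687023915884851288055142835709359980677565006246075097758349446431894775827792278419835923356319914147146128823715935837406680703257959228364973869113077472159518907841526016241912401142655653839631704086545278170936314556184120688195897214754847189841624541462105721191714276225952267748013390177264101676835091346254338870308816117308623466544017234781231919606670751803059655323361875920193392211104463617250138750131274687066212322712620412960936594196009634337825623049103852262191567823362914614266076844546552928339286417177269350017898635807889026423064939302956716188027164138876183216595504757376523125836644845586279317858320065386032386029043530478437704450970274731696981760699899392813349287297341048271729698805397073328014665535378840270267342296549531008211997606387180423457978302467300568043069264117669783694544048887248755572966907483875323409418565394660082195363408340955212556533760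

/-- The image of a quadruple. -/
def img (x : ℕ × ℕ × ℕ × ℕ) : ℕ × ℕ × ℕ × ℕ :=
  let v := (packed >>> (16 * (125 * x.1 + 25 * x.2.1 + 5 * x.2.2.1 + x.2.2.2))) % 65536
  (v % 16, v / 16 % 16, v / 256 % 16, v / 4096 % 16)

/-- Multiplication of quadruples modulo `k`. -/
def mulMod (k : ℕ) (x y : ℕ × ℕ × ℕ × ℕ) : ℕ × ℕ × ℕ × ℕ :=
  ((x.1 * y.1 + x.2.1 * y.2.2.1) % k, (x.1 * y.2.1 + x.2.1 * y.2.2.2) % k,
    (x.2.2.1 * y.1 + x.2.2.2 * y.2.2.1) % k, (x.2.2.1 * y.2.1 + x.2.2.2 * y.2.2.2) % k)

set_option maxHeartbeats 4000000 in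
theorem img_mul : ∀ x ∈ elts, ∀ y ∈ elts, img (mulMod 5 x y) = mulMod 11 (img x) (img y) := by
  decide +kernel

theorem img_det : ∀ x ∈ elts, ((img x).1 * (img x).2.2.2 + 10 * ((img x).2.1 * (img x).2.2.1)) % 11 = 1 := by
  decide +kernel

theorem img_inj : ∀ x ∈ elts, ((img x).1 % 11, (img x).2.1 % 11, (img x).2.2.1 % 11, (img x).2.2.2 % 11) =
    (1, 0, 0, 1) → x = (1, 0, 0, 1) := by
  decide +kernel

theorem mem_elts : ∀ a b c d : ZMod 5, a * d - b * c = 1 → (a.val, b.val, c.val, d.val) ∈ elts := by
  decide +kernel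

/-- The quadruple of an element of `SL(2,5)`. -/
def quad (m : Matrix.SpecialLinearGroup (Fin 2) (ZMod 5)) : ℕ × ℕ × ℕ × ℕ :=
  ((m.1 0 0).val, (m.1 0 1).val, (m.1 1 0).val, (m.1 1 1).val)

theorem quad_mem (m : Matrix.SpecialLinearGroup (Fin 2) (ZMod 5)) : quad m ∈ elts := by
  refine mem_elts _ _ _ _ ?_
  have h := m.2
  rwa [Matrix.det_fin_two] at h

theorem quad_mul (m n : Matrix.SpecialLinearGroup (Fin 2) (ZMod 5)) :
    quad (m * n) = mulMod 5 (quad m) (quad n) := by
  have e : ∀ a b c d : ZMod 5, (a * b + c * d).val = (a.val * b.val + c.val * d.val) % 5 := by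
    intro a b c d
    rw [ZMod.val_add, ZMod.val_mul, ZMod.val_mul, ← Nat.add_mod]
  simp only [quad, mulMod, Matrix.SpecialLinearGroup.coe_mul, Matrix.mul_apply, Fin.sum_univ_two, e]

theorem quad_one : quad 1 = (1, 0, 0, 1) := by decide +kernel

/-- The matrix over `ZMod 11` of a quadruple. -/
def toMat (x : ℕ × ℕ × ℕ × ℕ) : Matrix (Fin 2) (Fin 2) (ZMod 11) :=
  !![(x.1 : ZMod 11), (x.2.1 : ZMod 11); (x.2.2.1 : ZMod 11), (x.2.2.2 : ZMod 11)]

theorem toMat_mul (x y : ℕ × ℕ × ℕ × ℕ) : toMat (mulMod 11 x y) = toMat x * toMat y := by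
  simp only [toMat, mulMod, Matrix.mul_fin_two, ZMod.natCast_mod, Nat.cast_add, Nat.cast_mul]

theorem toMat_one : toMat (img (1, 0, 0, 1)) = 1 := by decide +kernel

theorem ten_eq : ((10 : ℕ) : ZMod 11) = -1 := by decide +kernel

/-- A nontrivial element. -/
def shear : Matrix.SpecialLinearGroup (Fin 2) (ZMod 5) := ⟨!![1, 1; 0, 1], by decide +kernel⟩

theorem shear_ne : 1 ≠ shear := by decide +kernel

theorem card_sl : Fintype.card (Matrix.SpecialLinearGroup (Fin 2) (ZMod 5)) = 120 := by
  decide +kernel


/-- SL(2,5) occurs as a Frobenius complement: there is a finite group L with a subgroup H isomorphic to SL(2,5) which is a non-trivial proper subgroup meeting each conjugate gHg⁻¹ with g outside H trivially. -/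
theorem result :
    ∃ (L : Type) (_ : Group L) (_ : Finite L) (H : Subgroup L),
      Cfsg.IsFrobeniusComplement H ∧ Nonempty (H ≃* Matrix.SpecialLinearGroup (Fin 2) (ZMod 5)) := by
  haveI : Fact (Nat.Prime 11) := ⟨by norm_num⟩
  haveI : Fact (Nat.Prime 5) := ⟨by norm_num⟩
  let f : Matrix.SpecialLinearGroup (Fin 2) (ZMod 5) →* Matrix (Fin 2) (Fin 2) (ZMod 11) :=
    { toFun := fun m => toMat (img (quad m))
      map_one' := by
        show toMat (img (quad 1)) = 1
        rw [quad_one, toMat_one]
      map_mul' := fun m n => by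
        show toMat (img (quad (m * n))) = _
        rw [quad_mul, img_mul _ (quad_mem m) _ (quad_mem n), toMat_mul] }
  haveI : Nontrivial (Matrix.SpecialLinearGroup (Fin 2) (ZMod 5)) :=
    ⟨⟨1, shear, shear_ne⟩⟩
  have hcard : Nat.card (Matrix.SpecialLinearGroup (Fin 2) (ZMod 5)) = 120 := by
    rw [Nat.card_eq_fintype_card, card_sl]
  obtain ⟨L, hG, hF, C, hC, ⟨e⟩, -⟩ := CfsgLib.Frobenius.exists_complement_of_SL2 11
    (by rw [hcard]; norm_num) f
    (fun m => by
      have h := img_det _ (quad_mem m)
      have h2 := congrArg (fun k : ℕ => (k : ZMod 11)) h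
      simp only [ZMod.natCast_mod, Nat.cast_add, Nat.cast_mul] at h2
      show (toMat (img (quad m))).det = 1
      have h4 := ten_eq
      rw [toMat, Matrix.det_fin_two_of]
      rw [h4] at h2
      simpa [sub_eq_add_neg] using h2)
    (fun m hm => by
      have hv : ∀ k : ℕ, k % 11 = ((k : ZMod 11)).val := fun k => (ZMod.val_natCast 11 k).symm
      have hx := img_inj _ (quad_mem m)
      have e : ∀ i j, toMat (img (quad m)) i j = (1 : Matrix (Fin 2) (Fin 2) (ZMod 11)) i j :=
        fun i j => congrFun (congrFun hm i) j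
      have h00 := e 0 0
      have h01 := e 0 1
      have h10 := e 1 0
      have h11 := e 1 1
      simp [toMat] at h00 h01 h10 h11
      have hq := hx (by rw [hv, hv, hv, hv, h00, h01, h10, h11]; rfl)
      rw [← quad_one] at hq
      simp only [quad, Prod.mk.injEq] at hq
      obtain ⟨q00, q01, q10, q11⟩ := hq
      ext i j
      fin_cases i <;> fin_cases j
      exacts [ZMod.val_injective 5 q00, ZMod.val_injective 5 q01, ZMod.val_injective 5 q10,
        ZMod.val_injective 5 q11])
  exact ⟨L, hG, hF, C, hC, ⟨e.symm⟩⟩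

end Cfsg.Agent.S3374
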