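import Cfsg.Statements.S3378
import Cfsg.Agent.S3374
import Cfsg.Agent.S3377
import Cfsg.Agent.Char.Burnside
import Cfsg.Agent.Dickson.OrderSixty

set_option autoImplicit false
set_option linter.style.haveILetI false
set_option maxHeartbeats 1000000
open Cfsg

namespace Cfsg.Agent.S3378

open Cfsg.Agent.S3374 (quad quad_mul quad_mem mulMod card_sl)

/-- The relators. -/
def rels3 : Set (FreeGroup (Fin 3)) :=
  {FreeGroup.of (0 : Fin 3) ^ 3, FreeGroup.of (1 : Fin 3) ^ 5, FreeGroup.of (2 : Fin 3) ^ 2,
    (FreeGroup.of (2 : Fin 3))⁻¹ * FreeGroup.of 0 * FreeGroup.of 2 * (FreeGroup.of (0 : Fin 3))⁻¹,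
    (FreeGroup.of (2 : Fin 3))⁻¹ * FreeGroup.of 1 * FreeGroup.of 2 * (FreeGroup.of (1 : Fin 3))⁻¹,
    (FreeGroup.of (0 : Fin 3) * FreeGroup.of 1) ^ 2 * (FreeGroup.of (2 : Fin 3))⁻¹}

theorem lift_rels {H : Type*} [Group H] (a b c : H) (ha : a ^ 3 = 1) (hb : b ^ 5 = 1) (hc : c ^ 2 = 1)
    (hca : c * a = a * c) (hcb : c * b = b * c) (hab : (a * b) ^ 2 = c) :
    ∀ r ∈ rels3, FreeGroup.lift ![a, b, c] r = 1 := by
  intro r hr
  simp only [rels3, Set.mem_insert_iff, Set.mem_singleton_iff] at hr
  rcases hr with rfl | rfl | rfl | rfl | rfl | rfl <;>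
    simp only [map_mul, map_pow, map_inv, FreeGroup.lift_apply_of, Matrix.cons_val_zero, Matrix.cons_val_one,
      Matrix.cons_val_two, Matrix.tail_cons, Matrix.head_cons]
  · exact ha
  · exact hb
  · exact hc
  · rw [mul_assoc c⁻¹, ← hca, inv_mul_cancel_left, mul_inv_cancel]
  · rw [mul_assoc c⁻¹, ← hcb, inv_mul_cancel_left, mul_inv_cancel]
  · rw [hab, mul_inv_cancel]

theorem pres_card : Finite (PresentedGroup rels3) ∧ Nat.card (PresentedGroup rels3) ≤ 120 := by
  let a : PresentedGroup rels3 := PresentedGroup.of 0
  let b : PresentedGroup rels3 := PresentedGroup.of 1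
  let c : PresentedGroup rels3 := PresentedGroup.of 2
  have rel : ∀ r ∈ rels3, PresentedGroup.mk rels3 r = 1 := fun r hr => PresentedGroup.one_of_mem hr
  have ha : a ^ 3 = 1 := by
    have := rel (FreeGroup.of 0 ^ 3) (by simp [rels3])
    rw [map_pow] at this; exact this
  have hb : b ^ 5 = 1 := by
    have := rel (FreeGroup.of 1 ^ 5) (by simp [rels3])
    rw [map_pow] at this; exact this
  have hc : c ^ 2 = 1 := by
    have := rel (FreeGroup.of 2 ^ 2) (by simp [rels3])
    rw [map_pow] at this; exact this
  have hca : a * c = c * a := by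
    have := rel ((FreeGroup.of 2)⁻¹ * FreeGroup.of 0 * FreeGroup.of 2 * (FreeGroup.of 0)⁻¹) (by simp [rels3])
    rw [map_mul, map_mul, map_mul, map_inv, map_inv, mul_inv_eq_one, mul_assoc, inv_mul_eq_iff_eq_mul] at this
    exact this
  have hcb : b * c = c * b := by
    have := rel ((FreeGroup.of 2)⁻¹ * FreeGroup.of 1 * FreeGroup.of 2 * (FreeGroup.of 1)⁻¹) (by simp [rels3])
    rw [map_mul, map_mul, map_mul, map_inv, map_inv, mul_inv_eq_one, mul_assoc, inv_mul_eq_iff_eq_mul] at this
    exact this
  have hab : (a * b) ^ 2 = c := by
    have := rel ((FreeGroup.of 0 * FreeGroup.of 1) ^ 2 * (FreeGroup.of 2)⁻¹) (by simp [rels3])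
    rw [map_mul, map_pow, map_mul, map_inv, mul_inv_eq_one] at this
    exact this
  have hcen : c ∈ Subgroup.center (PresentedGroup rels3) := by
    rw [Subgroup.mem_center_iff]
    intro g
    have hg : g ∈ Subgroup.centralizer ({c} : Set (PresentedGroup rels3)) := by
      have : (⊤ : Subgroup (PresentedGroup rels3)) ≤ Subgroup.centralizer {c} := by
        rw [← PresentedGroup.closure_range_of rels3, Subgroup.closure_le]
        rintro _ ⟨i, rfl⟩
        fin_cases i
        · exact Subgroup.mem_centralizer_singleton_iff.2 hca
        · exact Subgroup.mem_centralizer_singleton_iff.2 hcb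
        · exact Subgroup.mem_centralizer_singleton_iff.2 rfl
      exact this (Subgroup.mem_top g)
    exact Subgroup.mem_centralizer_singleton_iff.1 hg
  set C := Subgroup.zpowers c with hC
  haveI : C.Normal := ⟨fun x hx g => by
    obtain ⟨k, rfl⟩ := hx
    have hk : c ^ k ∈ Subgroup.center (PresentedGroup rels3) := Subgroup.zpow_mem _ hcen k
    show g * c ^ k * g⁻¹ ∈ C
    rw [Subgroup.mem_center_iff.1 hk g, mul_inv_cancel_right]
    exact ⟨k, rfl⟩⟩
  let π := QuotientGroup.mk' C
  have hπc : π c = 1 := (QuotientGroup.eq_one_iff c).2 (Subgroup.mem_zpowers c)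
  set rels2 : Set (FreeGroup (Fin 2)) := {FreeGroup.of (0 : Fin 2) ^ 3, FreeGroup.of (1 : Fin 2) ^ 5,
    (FreeGroup.of (0 : Fin 2) * FreeGroup.of 1) ^ 2} with hrels2
  have h2 : ∀ r ∈ rels2, FreeGroup.lift ![π a, π b] r = 1 := by
    intro r hr
    simp only [hrels2, Set.mem_insert_iff, Set.mem_singleton_iff] at hr
    rcases hr with rfl | rfl | rfl <;>
      simp only [map_pow, map_mul, FreeGroup.lift_apply_of, Matrix.cons_val_zero, Matrix.cons_val_one]
    · rw [← map_pow, ha, map_one]
    · rw [← map_pow, hb, map_one]
    · rw [← map_mul, ← map_pow, hab, hπc]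
  let φ := PresentedGroup.toGroup h2
  have hφ : Function.Surjective φ := by
    rw [← MonoidHom.range_eq_top, eq_top_iff, ← MonoidHom.range_eq_top.2 (QuotientGroup.mk'_surjective C),
      MonoidHom.range_eq_map, Subgroup.map_le_iff_le_comap, ← PresentedGroup.closure_range_of rels3,
      Subgroup.closure_le]
    rintro _ ⟨i, rfl⟩
    fin_cases i
    · exact ⟨PresentedGroup.of 0, PresentedGroup.toGroup.of h2⟩
    · exact ⟨PresentedGroup.of 1, PresentedGroup.toGroup.of h2⟩
    · exact ⟨1, (map_one φ).trans hπc.symm⟩
  obtain ⟨e⟩ := Cfsg.Agent.S3377.result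
  haveI : Finite (PresentedGroup rels2) := Finite.of_equiv _ e.symm.toEquiv
  haveI : Finite (PresentedGroup rels3 ⧸ C) := Finite.of_surjective φ hφ
  have hA : Nat.card (alternatingGroup (Fin 5)) = 60 := by
    rw [nat_card_alternatingGroup]; simp [Nat.factorial]
  have hq : Nat.card (PresentedGroup rels3 ⧸ C) ≤ 60 := by
    refine (Nat.card_le_card_of_surjective φ hφ).trans ?_
    rw [Nat.card_congr e.toEquiv, hA]
  haveI : Finite C := Nat.finite_of_card_ne_zero (by
    rw [Nat.card_zpowers]
    exact (Nat.pos_of_dvd_of_pos (orderOf_dvd_of_pow_eq_one hc) two_pos).ne')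
  refine ⟨Finite.of_equiv _ (Subgroup.groupEquivQuotientProdSubgroup (s := C)).symm, ?_⟩
  rw [Subgroup.card_eq_card_quotient_mul_card_subgroup C]
  refine (Nat.mul_le_mul hq (?_ : Nat.card C ≤ 2)).trans le_rfl
  rw [Nat.card_zpowers]
  exact Nat.le_of_dvd two_pos (orderOf_dvd_of_pow_eq_one hc)

/-- The generators in `SL(2,5)`. -/
def gA : Matrix.SpecialLinearGroup (Fin 2) (ZMod 5) := ⟨!![0, 4; 1, 4], by decide +kernel⟩

/-- The generators in `SL(2,5)`. -/
def gB : Matrix.SpecialLinearGroup (Fin 2) (ZMod 5) := ⟨!![1, 1; 0, 1], by decide +kernel⟩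

/-- Words reaching every element. -/
def words : List (List Bool) := [[], [false], [true], [false, false], [false, true], [true, false], [true, true], [false, false, true], [false, true, false], [false, true, true], [true, false, false], [true, false, true], [true, true, false], [true, true, true], [false, false, true, false], [false, false, true, true], [false, true, false, false], [false, true, false, true], [false, true, true, false], [false, true, true, true], [true, false, false, true], [true, false, true, true], [true, true, false, false], [true, true, false, true], [true, true, true, false], [true, true, true, true], [false, false, true, false, false], [false, false, true, false, true], [false, false, true, true, false], [false, false, true, true, true], [false, true, false, false, true], [false, true, false, true, true], [false, true, true, false, false], [false, true, true, false, true], [false, true, true, true, false], [false, true, true, true, true], [true, false, false, true, true], [true, false, true, true, true], [true, true, false, false, true], [true, true,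 false, true, true], [true, true, true, false, true], [false, false, true, false, false, true], [false, false, true, false, true, true], [false, false, true, true, false, false], [false, false, true, true, false, true], [false, false, true, true, true, false], [false, false, true, true, true, true], [false, true, false, false, true, true], [false, true, false, true, true, true], [false, true, true, false, false, true], [false, true, true, false, true, true], [false, true, true, true, false, true], [true, false, false, true, true, false], [true, false, false, true, true, true], [true, false, true, true, true, false], [true, false, true, true, true, true], [true, true, false, false, true, true], [true, true, false, true, true, true], [true, true, true, false, true, true], [false, false, true, false, false, true, true], [false, false, true, false, true, true, true], [false, false, true, true, false, false, true], [false, false, true, true, false, true, true], [false, false, true, true, true, false, true], [false, true, false, false, true, true, false], [false, true, false, false,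 true, true, true], [false, true, false, true, true, true, false], [false, true, false, true, true, true, true], [false, true, true, false, false, true, true], [false, true, true, false, true, true, true], [false, true, true, true, false, true, true], [true, false, false, true, true, false, false], [true, false, false, true, true, false, true], [true, false, false, true, true, true, false], [true, true, false, false, true, true, false], [true, true, false, true, true, true, false], [true, true, false, true, true, true, true], [true, true, true, false, true, true, true], [false, false, true, false, false, true, true, false], [false, false, true, false, false, true, true, true], [false, false, true, false, true, true, true, false], [false, false, true, false, true, true, true, true], [false, false, true, true, false, false, true, true], [false, false, true, true, false, true, true, true], [false, false, true, true, true, false, true, true], [false, true, false, false, true, true, false, false], [false, true, false, false, true, true, false, true], [false, true, false, false,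 true, true, true, false], [false, true, true, false, false, true, true, false], [false, true, true, false, true, true, true, false], [false, true, true, false, true, true, true, true], [false, true, true, true, false, true, true, true], [true, false, false, true, true, false, false, true], [true, false, false, true, true, true, false, true], [true, true, false, false, true, true, false, false], [true, true, false, false, true, true, false, true], [true, true, true, false, true, true, true, false], [false, false, true, false, false, true, true, false, false], [false, false, true, false, false, true, true, false, true], [false, false, true, false, false, true, true, true, false], [false, false, true, true, false, false, true, true, false], [false, false, true, true, false, true, true, true, false], [false, false, true, true, false, true, true, true, true], [false, false, true, true, true, false, true, true, true], [false, true, false, false, true, true, false, false, true], [false, true, false, false, true, true, true, false, true], [false, true, true, false, false, true,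 true, false, false], [false, true, true, false, false, true, true, false, true], [false, true, true, true, false, true, true, true, false], [true, false, false, true, true, false, false, true, true], [true, false, false, true, true, true, false, true, true], [true, true, false, false, true, true, false, false, true], [false, false, true, false, false, true, true, false, false, true], [false, false, true, false, false, true, true, true, false, true], [false, false, true, true, false, false, true, true, false, true], [false, false, true, true, true, false, true, true, true, false], [false, true, false, false, true, true, false, false, true, true], [false, true, true, false, false, true, true, false, false, true], [true, false, false, true, true, false, false, true, true, false], [true, false, false, true, true, true, false, true, true, true]]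

/-- Evaluation on quadruples. -/
def evalQ : List Bool → ℕ × ℕ × ℕ × ℕ :=
  List.foldl (fun z i => mulMod 5 z (cond i (1, 1, 0, 1) (0, 4, 1, 4))) (1, 0, 0, 1)

theorem words_nodup : (words.map evalQ).Nodup := by decide +kernel

theorem words_length : words.length = 120 := by decide +kernel

theorem quads : quad 1 = (1, 0, 0, 1) ∧ quad gA = (0, 4, 1, 4) ∧ quad gB = (1, 1, 0, 1) := by decide +kernel

theorem sl_rels : gA ^ 3 = 1 ∧ gB ^ 5 = 1 ∧ ((gA * gB) ^ 2) ^ 2 = 1 ∧
    (gA * gB) ^ 2 * gA = gA * (gA * gB) ^ 2 ∧ (gA * gB) ^ 2 * gB = gB * (gA * gB) ^ 2 := by decide +kernel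

theorem pres_equiv :
    Nonempty (PresentedGroup rels3 ≃* Matrix.SpecialLinearGroup (Fin 2) (ZMod 5)) := by
  obtain ⟨hfin, hle⟩ := pres_card
  obtain ⟨r1, r2, r3, r4, r5⟩ := sl_rels
  let f := PresentedGroup.toGroup (lift_rels gA gB _ r1 r2 r3 r4 r5 rfl)
  have hw : ∀ w : List Bool, ∀ g, g ∈ f.range → ∃ h ∈ f.range,
      quad h = List.foldl (fun z i => mulMod 5 z (cond i (1, 1, 0, 1) (0, 4, 1, 4))) (quad g) w := by
    intro w
    induction w with
    | nil => exact fun g hg => ⟨g, hg, rfl⟩
    | cons i w ih =>
      intro g hg
      cases i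
      · obtain ⟨h, hh, e⟩ := ih (g * gA) (mul_mem hg ⟨PresentedGroup.of 0, PresentedGroup.toGroup.of _⟩)
        exact ⟨h, hh, by rw [e, List.foldl_cons, cond_false, quad_mul, quads.2.1]⟩
      · obtain ⟨h, hh, e⟩ := ih (g * gB) (mul_mem hg ⟨PresentedGroup.of 1, PresentedGroup.toGroup.of _⟩)
        exact ⟨h, hh, by rw [e, List.foldl_cons, cond_true, quad_mul, quads.2.2]⟩
  have hall : ∀ i : Fin words.length, ∃ h : f.range, quad h.1 = evalQ (words.get i) := fun i => by
    obtain ⟨h, hh, e⟩ := hw (words.get i) 1 (one_mem _)
    exact ⟨⟨h, hh⟩, by rw [e, quads.1]; rfl⟩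
  choose h hh using hall
  have hinj : Function.Injective h := fun i j e => by
    have e' : evalQ (words.get i) = evalQ (words.get j) := by rw [← hh i, ← hh j, e]
    have hn := List.nodup_iff_injective_get.1 words_nodup
    have := hn (a₁ := ⟨i.1, by simp⟩) (a₂ := ⟨j.1, by simp⟩) (by simpa using e')
    exact Fin.ext (by simpa using this)
  have h120 : Nat.card (Matrix.SpecialLinearGroup (Fin 2) (ZMod 5)) ≤ Nat.card f.range := by
    rw [Nat.card_eq_fintype_card, card_sl, ← words_length, ← Nat.card_fin words.length]
    exact Nat.card_le_card_of_injective h hinj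
  have hsurj : Function.Surjective f := by
    rw [← MonoidHom.range_eq_top]
    exact Subgroup.eq_top_of_card_eq _ (le_antisymm (Subgroup.card_le_card_group _) h120)
  exact ⟨MulEquiv.ofBijective f (hsurj.bijective_of_nat_card_le (by
    rw [Nat.card_eq_fintype_card (α := Matrix.SpecialLinearGroup (Fin 2) (ZMod 5)), card_sl]; exact hle))⟩

theorem solvable_ext {G : Type*} [Group G] (N : Subgroup G) [N.Normal] (h1 : Group.IsSolvable N)
    (h2 : Group.IsSolvable (G ⧸ N)) : Group.IsSolvable G :=
  (Group.isSolvable_iff_subgroup_quotient N).2 ⟨h1, h2⟩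

theorem q8_unique : ∀ u v : QuaternionGroup 2, u * u = 1 → v * v = 1 → u ≠ 1 → v ≠ 1 → u = v := by decide +kernel

theorem q8_cyclic : ∀ u v : QuaternionGroup 2, u * u = 1 → v * v = 1 → u = 1 ∨ v = 1 ∨ u = v := by decide +kernel

section Uniq

variable {G : Type*} [Group G] [Finite G]

theorem solvable_thirty (h : Nat.card G = 30) : Group.IsSolvable G := by
  haveI : Fact (Nat.Prime 2) := ⟨Nat.prime_two⟩
  obtain ⟨P⟩ : Nonempty (Sylow 2 G) := inferInstance
  have hP : Nat.card (P : Subgroup G) = 2 := by
    rw [P.card_eq_multiplicity, h, show (30 : ℕ) = 2 * 15 from rfl,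
      Nat.factorization_mul (by norm_num) (by norm_num), Finsupp.add_apply, Nat.Prime.factorization_self Nat.prime_two,
      Nat.factorization_eq_zero_of_not_dvd (by norm_num)]
    rfl
  have hc := IsCyclic.isComplement' (p := 2) (P := P)
    (by rw [h]; norm_num) (isCyclic_of_prime_card hP)
  set N := (MonoidHom.transferSylow P (IsCyclic.normalizer_le_centralizer (by rw [h]; norm_num) (isCyclic_of_prime_card hP))).ker
  have hN : Nat.card N = 15 := by
    have := hc.card_mul
    rw [hP, h] at this
    omega
  exact solvable_ext N (CfsgLib.Char.isSolvable_of_card_eq 3 5 1 1 (by norm_num) (by norm_num) (by rw [hN]; rfl))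
    (CfsgLib.Char.isSolvable_of_card_eq 2 3 1 0 (by norm_num) (by norm_num) (by
      rw [← Subgroup.index_eq_card]
      have := N.card_mul_index
      rw [hN, h] at this
      omega))

end Uniq


/-- Every non-solvable group of order 120 whose Sylow 2-subgroups are quaternion of order 8 is isomorphic to SL(2,5), and SL(2,5) has the presentation ⟨x, y, z | x³ = y⁵ = z² = 1, z⁻¹xz = x, z⁻¹yz = y, (xy)² = z⟩. -/
theorem result :
    (∀ (G : Type*) [Group G] [Finite G], Nat.card G = 120 → ¬ Group.IsSolvable G →
      (∀ P : Sylow 2 G, Nonempty ((P : Subgroup G) ≃* QuaternionGroup 2)) →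
      Nonempty (G ≃* Matrix.SpecialLinearGroup (Fin 2) (ZMod 5))) ∧
    Nonempty (PresentedGroup ({FreeGroup.of (0 : Fin 3) ^ 3, FreeGroup.of (1 : Fin 3) ^ 5, FreeGroup.of (2 : Fin 3) ^ 2,
        (FreeGroup.of (2 : Fin 3))⁻¹ * FreeGroup.of 0 * FreeGroup.of 2 * (FreeGroup.of (0 : Fin 3))⁻¹,
        (FreeGroup.of (2 : Fin 3))⁻¹ * FreeGroup.of 1 * FreeGroup.of 2 * (FreeGroup.of (1 : Fin 3))⁻¹,
        (FreeGroup.of (0 : Fin 3) * FreeGroup.of 1) ^ 2 * (FreeGroup.of (2 : Fin 3))⁻¹} : Set (FreeGroup (Fin 3)))
      ≃* Matrix.SpecialLinearGroup (Fin 2) (ZMod 5)) := by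
  refine ⟨?_, pres_equiv⟩
  intro G _ _ hcard hns hQ
  haveI : Fact (Nat.Prime 2) := ⟨Nat.prime_two⟩
  haveI : Fact (Nat.Prime 5) := ⟨by norm_num⟩
  -- the action on the Sylow 5-subgroups
  have hcases : ∀ n, n ∣ Nat.card G → n ∣ 120 := fun n h => hcard ▸ h
  have hsolv : ∀ (N : Subgroup G) [N.Normal], Group.IsSolvable N → Group.IsSolvable (G ⧸ N) → False :=
    fun N _ h1 h2 => hns (solvable_ext N h1 h2)
  obtain ⟨P5⟩ : Nonempty (Sylow 5 G) := inferInstance
  have hP5 : Nat.card (P5 : Subgroup G) = 5 := by
    rw [P5.card_eq_multiplicity, hcard, show (120 : ℕ) = 5 * 24 from rfl,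
      Nat.factorization_mul (by norm_num) (by norm_num), Finsupp.add_apply,
      Nat.Prime.factorization_self (by norm_num), Nat.factorization_eq_zero_of_not_dvd (by norm_num)]
    rfl
  have hn5 : Nat.card (Sylow 5 G) = 6 := by
    have h1 := P5.card_dvd_index
    have h2 : (P5 : Subgroup G).index = 24 := by
      have := (P5 : Subgroup G).card_mul_index
      rw [hP5, hcard] at this; omega
    rw [h2] at h1
    have h3 := card_sylow_modEq_one 5 G
    have h4 := Nat.le_of_dvd (by norm_num) h1
    have h5 : Nat.card (Sylow 5 G) = 1 ∨ Nat.card (Sylow 5 G) = 6 := by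
      generalize Nat.card (Sylow 5 G) = k at *
      unfold Nat.ModEq at h3
      interval_cases k <;> simp_all
    refine h5.resolve_left fun h => ?_
    haveI : Subsingleton (Sylow 5 G) := (Nat.card_eq_one_iff_unique.1 h).1
    haveI : (P5 : Subgroup G).Normal := Sylow.normal_of_subsingleton P5
    exact hsolv (P5 : Subgroup G)
      (CfsgLib.Char.isSolvable_of_card_eq 5 2 1 0 (by norm_num) Nat.prime_two (by rw [hP5]; rfl))
      (CfsgLib.Char.isSolvable_of_card_eq 2 3 3 1 Nat.prime_two (by norm_num) (by
        rw [← Subgroup.index_eq_card, h2]; rfl))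
  set φ := MulAction.toPermHom G (Sylow 5 G) with hφ
  have hker : φ.ker ≤ Subgroup.normalizer ((P5 : Subgroup G) : Set G) := fun g hg => by
    exact Sylow.smul_eq_iff_mem_normalizer.1
      (congrArg (fun σ : Equiv.Perm (Sylow 5 G) => σ P5) (MonoidHom.mem_ker.1 hg))
  have hNcard : Nat.card (Subgroup.normalizer ((P5 : Subgroup G) : Set G)) = 20 := by
    have h1 := (Subgroup.normalizer ((P5 : Subgroup G) : Set G)).card_mul_index
    have h2 : (Subgroup.normalizer ((P5 : Subgroup G) : Set G)).index = 6 :=
      P5.card_eq_index_normalizer.symm.trans hn5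
    rw [h2, hcard] at h1
    omega
  have hk20 : Nat.card φ.ker ∣ 20 := hNcard ▸ Subgroup.card_dvd_of_le hker
  have hq : Nat.card φ.ker * Nat.card (G ⧸ φ.ker) = 120 := by
    rw [← hcard, Subgroup.card_eq_card_quotient_mul_card_subgroup φ.ker, mul_comm]
  have hk2 : Nat.card φ.ker = 2 := by
    have hle := Nat.le_of_dvd (by norm_num) hk20
    have hb : ∀ a b : ℕ, Nat.card φ.ker = 2 ^ a * 5 ^ b → Group.IsSolvable φ.ker := fun a b h =>
      CfsgLib.Char.isSolvable_of_card_eq 2 5 a b Nat.prime_two (by norm_num) h
    have hc : ∀ a b : ℕ, Nat.card (G ⧸ φ.ker) = 2 ^ a * 3 ^ b → Group.IsSolvable (G ⧸ φ.ker) := fun a b h =>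
      CfsgLib.Char.isSolvable_of_card_eq 2 3 a b Nat.prime_two (by norm_num) h
    rcases (show Nat.card φ.ker = 1 ∨ Nat.card φ.ker = 2 ∨ Nat.card φ.ker = 4 ∨ Nat.card φ.ker = 5 ∨
        Nat.card φ.ker = 10 ∨ Nat.card φ.ker = 20 by
      generalize Nat.card φ.ker = k at *; interval_cases k <;> simp_all) with h | h | h | h | h | h
    · exfalso
      have hinj : Function.Injective φ :=
        (MonoidHom.ker_eq_bot_iff φ).1 (Subgroup.eq_bot_of_card_eq _ h)
      obtain ⟨e6⟩ : Nonempty (Sylow 5 G ≃ Fin 6) := ⟨Finite.equivFinOfCardEq hn5⟩
      let ψ : G →* Equiv.Perm (Fin 6) := e6.permCongrHom.toMonoidHom.comp φ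
      have hψ : Function.Injective ψ := e6.permCongrHom.injective.comp hinj
      let sg : G →* ℤˣ := Equiv.Perm.sign.comp ψ
      by_cases htriv : ∀ g, sg g = 1
      · -- `G` would have index three in `A₆`
        have hle6 : ψ.range ≤ alternatingGroup (Fin 6) := by
          rintro _ ⟨g, rfl⟩
          exact Equiv.Perm.mem_alternatingGroup.2 (htriv g)
        haveI : IsSimpleGroup (alternatingGroup (Fin 6)) := alternatingGroup.isSimpleGroup (α := Fin 6) (by simp)
        set H := ψ.range.subgroupOf (alternatingGroup (Fin 6)) with hH
        have hHc : Nat.card H = 120 := by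
          rw [Nat.card_congr (Subgroup.subgroupOfEquivOfLe hle6).toEquiv,
            ← Nat.card_congr (MonoidHom.ofInjective hψ).toEquiv, hcard]
        have hA6 : Nat.card (alternatingGroup (Fin 6)) = 360 := by
          rw [nat_card_alternatingGroup]; simp [Nat.factorial]
        have hidx : H.index = 3 := by
          have := H.card_mul_index
          rw [hHc, hA6] at this; omega
        let act := MulAction.toPermHom (alternatingGroup (Fin 6)) (alternatingGroup (Fin 6) ⧸ H)
        rcases IsSimpleGroup.eq_bot_or_eq_top_of_normal act.ker inferInstance with hb | hb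
        · have := Nat.card_le_card_of_injective _ ((MonoidHom.ker_eq_bot_iff act).1 hb)
          rw [Nat.card_perm, ← Subgroup.index_eq_card, hidx, hA6] at this
          norm_num [Nat.factorial] at this
        · have hle : act.ker ≤ H := by
            intro g hg
            have := congrArg (fun σ : Equiv.Perm _ => σ ((1 : alternatingGroup (Fin 6)) : _ ⧸ H))
              (MonoidHom.mem_ker.1 hg)
            simpa [act, QuotientGroup.eq] using this
          rw [hb, top_le_iff] at hle
          rw [hle, Subgroup.index_top] at hidx
          omega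
      · push Not at htriv
        obtain ⟨g₀, hg₀⟩ := htriv
        have hrange : sg.range = ⊤ := by
          rw [eq_top_iff]
          intro u _
          rcases Int.units_eq_one_or u with rfl | rfl
          · exact one_mem _
          · exact ⟨g₀, (Int.units_eq_one_or _).resolve_left hg₀⟩
        have hMi : sg.ker.index = 2 := by
          rw [Subgroup.index_ker, hrange, Subgroup.card_top]
          simp
        have hMc : Nat.card sg.ker = 60 := by
          have := sg.ker.card_mul_index
          rw [hMi, hcard] at this; omega
        obtain ⟨Q⟩ : Nonempty (Sylow 2 sg.ker) := inferInstance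
        have hQc : Nat.card (Q : Subgroup sg.ker) = 4 := by
          rw [Q.card_eq_multiplicity, hMc, show (60 : ℕ) = 2 ^ 2 * 15 from rfl,
            Nat.factorization_mul (by norm_num) (by norm_num), Finsupp.add_apply,
            Nat.Prime.factorization_pow Nat.prime_two, Finsupp.single_eq_same,
            Nat.factorization_eq_zero_of_not_dvd (by norm_num)]
          rfl
        obtain ⟨Q', hQ'⟩ := (Q.2.map sg.ker.subtype).exists_le_sylow
        obtain ⟨eQ⟩ := hQ Q'
        have hQcyc : IsCyclic (Q : Subgroup sg.ker) := by
          by_contra hnc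
          let j : (Q : Subgroup sg.ker) →* QuaternionGroup 2 :=
            eQ.toMonoidHom.comp ((Subgroup.inclusion hQ').comp
              (((Q : Subgroup sg.ker).equivMapOfInjective sg.ker.subtype sg.ker.subtype_injective).toMonoidHom))
          have hj : Function.Injective j :=
            eQ.injective.comp ((Subgroup.inclusion_injective hQ').comp
              ((Q : Subgroup sg.ker).equivMapOfInjective sg.ker.subtype sg.ker.subtype_injective).injective)
          have hsq : ∀ u : (Q : Subgroup sg.ker), u * u = 1 := by
            intro u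
            have h4 : orderOf u ∣ 2 ^ 2 := by rw [← show Nat.card (Q : Subgroup sg.ker) = 2 ^ 2 from hQc]; exact orderOf_dvd_natCard u
            obtain ⟨k, hk, hk'⟩ := (Nat.dvd_prime_pow Nat.prime_two).1 h4
            rcases (show k ≤ 1 ∨ k = 2 by omega) with hk1 | rfl
            · rw [← pow_two, ← orderOf_dvd_iff_pow_eq_one, hk']
              calc 2 ^ k ∣ 2 ^ 1 := pow_dvd_pow 2 hk1
                _ = 2 := pow_one 2
            · exact absurd (isCyclic_of_orderOf_eq_card u (hk'.trans hQc.symm)) hnc
          haveI : Fintype (Q : Subgroup sg.ker) := Fintype.ofFinite _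
          have h3 : 2 < Fintype.card (Q : Subgroup sg.ker) := by rw [← Nat.card_eq_fintype_card, hQc]; norm_num
          obtain ⟨u, v, w, huv, huw, hvw⟩ := Fintype.two_lt_card_iff.1 h3
          have key : ∀ u v : (Q : Subgroup sg.ker), u = 1 ∨ v = 1 ∨ u = v := fun u v => by
            rcases q8_cyclic (j u) (j v) (by rw [← map_mul, hsq, map_one]) (by rw [← map_mul, hsq, map_one]) with e | e | e
            · exact Or.inl (hj (e.trans (map_one j).symm))
            · exact Or.inr (Or.inl (hj (e.trans (map_one j).symm)))
            · exact Or.inr (Or.inr (hj e))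
          rcases em (u = 1) with hu | hu
          · rcases key v w with e | e | e
            · exact huv (hu.trans e.symm)
            · exact huw (hu.trans e.symm)
            · exact hvw e
          · rcases key u v with e | e | e
            · exact hu e
            · rcases key u w with e' | e' | e'
              · exact hu e'
              · exact hvw (e.trans e'.symm)
              · exact huw e'
            · exact huv e
        have hc := IsCyclic.isComplement' (p := 2) (P := Q) (by rw [hMc]; norm_num) hQcyc
        set X := (MonoidHom.transferSylow Q (IsCyclic.normalizer_le_centralizer (by rw [hMc]; norm_num) hQcyc)).ker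
        have hX : Nat.card X = 15 := by
          have := hc.card_mul
          rw [hQc, hMc] at this; omega
        have hXi : Nat.card (sg.ker ⧸ X) = 4 := by
          have := Subgroup.card_eq_card_quotient_mul_card_subgroup X
          rw [hX, hMc] at this; omega
        refine hsolv sg.ker (solvable_ext X
          (CfsgLib.Char.isSolvable_of_card_eq 3 5 1 1 (by norm_num) (by norm_num) (by rw [hX]; rfl))
          (CfsgLib.Char.isSolvable_of_card_eq 2 3 2 0 Nat.prime_two (by norm_num) (by rw [hXi]; rfl))) ?_
        exact CfsgLib.Char.isSolvable_of_card_eq 2 3 1 0 Nat.prime_two (by norm_num) (by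
          rw [← Subgroup.index_eq_card, hMi]; rfl)
    · exact h
    · exact (hsolv φ.ker (hb 2 0 (by rw [h]; rfl)) (solvable_thirty (by rw [h] at hq; omega))).elim
    · exact (hsolv φ.ker (hb 0 1 (by rw [h]; rfl)) (hc 3 1 (by rw [h] at hq; norm_num; omega))).elim
    · exact (hsolv φ.ker (hb 1 1 (by rw [h]; rfl)) (hc 2 1 (by rw [h] at hq; norm_num; omega))).elim
    · exact (hsolv φ.ker (hb 2 1 (by rw [h]; rfl)) (hc 1 1 (by rw [h] at hq; norm_num; omega))).elim
  -- the central involution
  obtain ⟨⟨c, hck⟩, hc1⟩ : ∃ c : φ.ker, c ≠ 1 := by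
    haveI : Nontrivial φ.ker := Finite.one_lt_card_iff_nontrivial.1 (by omega)
    exact exists_ne 1
  have hc1' : c ≠ 1 := fun h => hc1 (Subtype.ext h)
  have hN2 : ∀ x ∈ φ.ker, x = 1 ∨ x = c := by
    intro x hx
    obtain ⟨u, v, huv, hall⟩ := Nat.card_eq_two_iff.1 hk2
    have hm : ∀ t : φ.ker, t = u ∨ t = v := fun t => by
      have := Set.ext_iff.1 hall t; simpa using this
    rcases hm ⟨x, hx⟩ with e1 | e1 <;> rcases hm ⟨c, hck⟩ with e2 | e2 <;> rcases hm 1 with e3 | e3 <;>
      first | exact Or.inl (congrArg Subtype.val (e1.trans e3.symm)) | exact Or.inr (congrArg Subtype.val (e1.trans e2.symm)) | exact absurd (congrArg Subtype.val (e2.trans e3.symm)) hc1'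
  have hcc : c ^ 2 = 1 := by
    have := pow_card_eq_one' (G := φ.ker) (x := ⟨c, hck⟩)
    rw [hk2] at this
    exact congrArg Subtype.val this
  have hcen : ∀ g : G, g * c = c * g := fun g => by
    rcases hN2 _ (Subgroup.Normal.conj_mem inferInstance c hck g) with h | h
    · exfalso
      rw [mul_inv_eq_one, mul_eq_left] at h
      exact hc1' h
    · exact mul_inv_eq_iff_eq_mul.1 h
  have huniq : ∀ u : G, u * u = 1 → u ≠ 1 → u = c := by
    intro u hu hu1
    have hu2 : IsPGroup 2 (Subgroup.zpowers u) := by
      refine IsPGroup.of_card (n := 1) ?_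
      rw [Nat.card_zpowers, pow_one, orderOf_eq_prime (by rw [pow_two, hu]) hu1]
    have hk2' : IsPGroup 2 φ.ker := IsPGroup.of_card (n := 1) (by rw [hk2, pow_one])
    obtain ⟨Q', hQ'⟩ := (hu2.to_sup_of_normal_right hk2').exists_le_sylow
    obtain ⟨eQ⟩ := hQ Q'
    have hum : u ∈ (Q' : Subgroup G) := hQ' (Subgroup.mem_sup_left (Subgroup.mem_zpowers u))
    have hcm : c ∈ (Q' : Subgroup G) := hQ' (Subgroup.mem_sup_right hck)
    have := q8_unique (eQ ⟨u, hum⟩) (eQ ⟨c, hcm⟩)
      (by rw [← map_mul, show (⟨u, hum⟩ : (Q' : Subgroup G)) * ⟨u, hum⟩ = 1 from Subtype.ext hu, map_one])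
      (by rw [← map_mul, show (⟨c, hcm⟩ : (Q' : Subgroup G)) * ⟨c, hcm⟩ = 1 from Subtype.ext (by show c * c = 1; rw [← pow_two, hcc]), map_one])
      (fun h => hu1 (congrArg Subtype.val (eQ.injective (h.trans (map_one eQ).symm))))
      (fun h => hc1' (congrArg Subtype.val (eQ.injective (h.trans (map_one eQ).symm))))
    exact congrArg Subtype.val (eQ.injective this)
  have hq60 : Nat.card (G ⧸ φ.ker) = 60 := by rw [hk2] at hq; omega
  obtain ⟨P'⟩ : Nonempty (Sylow 5 (G ⧸ φ.ker)) := inferInstance
  have hnn : ¬ (P' : Subgroup (G ⧸ φ.ker)).Normal := fun hn => by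
    haveI := hn
    have h1 := CfsgLib.Dickson.OrderSixty.card_eq_five hq60 P'
    have h2 : Nat.card ((G ⧸ φ.ker) ⧸ (P' : Subgroup (G ⧸ φ.ker))) = 12 := by
      have := Subgroup.card_eq_card_quotient_mul_card_subgroup (P' : Subgroup (G ⧸ φ.ker))
      rw [h1, hq60] at this; omega
    refine hsolv φ.ker (CfsgLib.Char.isSolvable_of_card_eq 2 3 1 0 Nat.prime_two (by norm_num) (by rw [hk2]; rfl))
      (solvable_ext (P' : Subgroup (G ⧸ φ.ker))
        (CfsgLib.Char.isSolvable_of_card_eq 5 2 1 0 (by norm_num) Nat.prime_two (by rw [h1]; rfl))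
        (CfsgLib.Char.isSolvable_of_card_eq 2 3 2 1 Nat.prime_two (by norm_num) (by rw [h2]; rfl)))
  obtain ⟨eA⟩ := CfsgLib.Dickson.OrderSixty.nonempty_mulEquiv hq60 P' hnn
  obtain ⟨eB⟩ := Cfsg.Agent.S3377.result
  let θ := eB.trans eA.symm
  have hlift : ∀ (X : G ⧸ φ.ker) (k : ℕ), Odd k → X ^ k = 1 → ∃ x : G, (x : G ⧸ φ.ker) = X ∧ x ^ k = 1 := by
    intro X k hk hX
    obtain ⟨x, rfl⟩ := QuotientGroup.mk_surjective X
    rw [← QuotientGroup.mk_pow, QuotientGroup.eq_one_iff] at hX
    rcases hN2 _ hX with h | h
    · exact ⟨x, rfl, h⟩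
    · refine ⟨x * c, ?_, ?_⟩
      · rw [QuotientGroup.mk_mul, (QuotientGroup.eq_one_iff c).2 hck, mul_one]
      · rw [Commute.mul_pow (hcen x), h]
        obtain ⟨j, rfl⟩ := hk
        rw [pow_succ, pow_mul, hcc, one_pow, one_mul, ← pow_two, hcc]
  set rels2 : Set (FreeGroup (Fin 2)) := {FreeGroup.of (0 : Fin 2) ^ 3, FreeGroup.of (1 : Fin 2) ^ 5,
    (FreeGroup.of (0 : Fin 2) * FreeGroup.of 1) ^ 2} with hrels2
  let θ₂ : PresentedGroup rels2 ≃* G ⧸ φ.ker := θ
  obtain ⟨A', hA'⟩ : ∃ A', A' = θ₂ (PresentedGroup.mk rels2 (FreeGroup.of 0)) := ⟨_, rfl⟩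
  obtain ⟨B', hB'⟩ : ∃ B', B' = θ₂ (PresentedGroup.mk rels2 (FreeGroup.of 1)) := ⟨_, rfl⟩
  have rel2 : ∀ r ∈ rels2, θ₂ (PresentedGroup.mk rels2 r) = 1 := fun r hr => by
    rw [PresentedGroup.one_of_mem hr, map_one]
  have hA3 : A' ^ 3 = 1 := by
    have := rel2 (FreeGroup.of 0 ^ 3) (by simp [hrels2])
    rw [map_pow, map_pow] at this; first | (rw [hA']; exact this) | (rw [hB']; exact this)
  have hB5 : B' ^ 5 = 1 := by
    have := rel2 (FreeGroup.of 1 ^ 5) (by simp [hrels2])
    rw [map_pow, map_pow] at this; first | (rw [hA']; exact this) | (rw [hB']; exact this)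
  have hAB : (A' * B') ^ 2 = 1 := by
    have := rel2 ((FreeGroup.of 0 * FreeGroup.of 1) ^ 2) (by simp [hrels2])
    rw [map_pow, map_mul, map_pow, map_mul] at this; rw [hA', hB']; exact this
  obtain ⟨a, hae, ha⟩ := hlift A' 3 (by decide) hA3
  obtain ⟨b, hbe, hb⟩ := hlift B' 5 (by decide) hB5
  have hAB1 : A' * B' ≠ 1 := by
    intro h
    have h0 : A' = 1 := by
      have e : A' = B'⁻¹ := eq_inv_of_mul_eq_one_left h
      have h5 : A' ^ 5 = 1 := by rw [e, inv_pow, hB5, inv_one]
      have := pow_gcd_eq_one.2 ⟨hA3, h5⟩
      simpa using this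
    have htriv : ∀ x, θ₂ x = 1 := by
      intro x
      have : (⊤ : Subgroup _) ≤ θ₂.toMonoidHom.ker := by
        rw [← PresentedGroup.closure_range_of rels2, Subgroup.closure_le]
        rintro _ ⟨i, rfl⟩
        fin_cases i
        · show θ₂ (PresentedGroup.mk rels2 (FreeGroup.of 0)) = 1
          rw [← hA']; exact h0
        · show θ₂ (PresentedGroup.mk rels2 (FreeGroup.of 1)) = 1
          rw [← hB']; rw [h0, one_mul] at h; exact h
      exact this (Subgroup.mem_top x)
    haveI : Subsingleton (G ⧸ φ.ker) := ⟨fun x y => by
      rw [← θ₂.apply_symm_apply x, ← θ₂.apply_symm_apply y, htriv, htriv]⟩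
    have := Nat.card_of_subsingleton (1 : G ⧸ φ.ker)
    omega
  have hab : (a * b) ^ 2 = c := by
    have h : (a * b) ^ 2 ∈ φ.ker := by
      rw [← QuotientGroup.eq_one_iff, QuotientGroup.mk_pow, QuotientGroup.mk_mul, hae, hbe, hAB]
    rcases hN2 _ h with h | h
    · exfalso
      refine hAB1 ?_
      rw [← hae, ← hbe, ← QuotientGroup.mk_mul]
      by_cases h1 : a * b = 1
      · rw [h1]; rfl
      · rw [huniq (a * b) (by rw [← pow_two, h]) h1]
        exact (QuotientGroup.eq_one_iff c).2 hck
    · exact h
  let f := PresentedGroup.toGroup (lift_rels a b c ha hb hcc (hcen a).symm (hcen b).symm hab)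
  have hker_le : φ.ker ≤ f.range := fun x hx => by
    rcases hN2 x hx with rfl | rfl
    · exact one_mem _
    · exact ⟨PresentedGroup.of 2, PresentedGroup.toGroup.of _⟩
  have hsurj : Function.Surjective f := by
    intro g
    have hg : (g : G ⧸ φ.ker) ∈ ((QuotientGroup.mk' φ.ker).comp f).range := by
      have : (⊤ : Subgroup (G ⧸ φ.ker)) ≤ ((QuotientGroup.mk' φ.ker).comp f).range := by
        rw [← (MonoidHom.range_eq_top (f := θ₂.toMonoidHom)).2 θ₂.surjective, MonoidHom.range_eq_map,
          Subgroup.map_le_iff_le_comap, ← PresentedGroup.closure_range_of rels2, Subgroup.closure_le]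
        rintro _ ⟨i, rfl⟩
        fin_cases i
        · exact ⟨PresentedGroup.of 0, by
            show QuotientGroup.mk' φ.ker (f (PresentedGroup.of 0)) = θ₂ (PresentedGroup.mk rels2 (FreeGroup.of 0))
            rw [PresentedGroup.toGroup.of, ← hA', ← hae]; rfl⟩
        · exact ⟨PresentedGroup.of 1, by
            show QuotientGroup.mk' φ.ker (f (PresentedGroup.of 1)) = θ₂ (PresentedGroup.mk rels2 (FreeGroup.of 1))
            rw [PresentedGroup.toGroup.of, ← hB', ← hbe]; rfl⟩
      exact this (Subgroup.mem_top _)
    obtain ⟨p, hp⟩ := hg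
    have hm : (f p)⁻¹ * g ∈ φ.ker := QuotientGroup.eq.1 hp
    have := mul_mem (show f p ∈ f.range from ⟨p, rfl⟩) (hker_le hm)
    rwa [mul_inv_cancel_left] at this
  obtain ⟨hfin, hle⟩ := pres_card
  obtain ⟨e⟩ := pres_equiv
  exact ⟨((MulEquiv.ofBijective f (hsurj.bijective_of_nat_card_le (by rw [hcard]; exact hle))).symm).trans e⟩

end Cfsg.Agent.S3378
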