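import Cfsg.Statements.S1202
import Cfsg.Agent.Invol.WreathedAut
-- import your own Cfsg.Agent.* helpers here

set_option autoImplicit false
open Cfsg

namespace Cfsg.Agent.S1202

/-- Let S be a wreathed 2-group of order 2^(2n+1) and X a subgroup with C_S(X) ≤ X such that Aut(X) is not a 2-group. Then |N_S(X) : X| = 2, and either X is the commutative subgroup of order 2^(2n), or X = Q·Z(S) for some subgroup Q ≅ Q₈; in the latter case any two such subgroups are conjugate in S. -/
theorem result {S : Type*} [Group S] [Finite S] (hS : Cfsg.IsWreathed S) (n : ℕ) (hn : Nat.card S = 2 ^ (2 * n + 1)) (X : Subgroup S) (hC : Subgroup.centralizer (X : Set S) ≤ X) (hA : ¬ IsPGroup 2 (MulAut X)) : X.relIndex (Subgroup.normalizer (X : Set S)) = 2 ∧ ((IsMulCommutative X ∧ Nat.card X = 2 ^ (2 * n)) ∨ ∃ Q : Subgroup S, Nonempty (Q ≃* QuaternionGroup 2) ∧ X = Q ⊔ Subgroup.center S) ∧ ∀ X' : Subgroup S, Subgroup.centralizer (X' : Set S) ≤ X' → ¬ IsPGroup 2 (MulAut X') → ¬ IsMulCommutative X → ¬ IsMulCommutative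 X' → ∃ s : S, X.map (MulAut.conj s).toMonoidHom = X' := by
  obtain ⟨D⟩ := CfsgLib.Wreath.exists_data hS
  have hn' : n = D.k + 2 := by
    have h1 := D.card_eq
    rw [hn, D.hq, show 2 * (4 * 2 ^ D.k) ^ 2 = 2 ^ (2 * (D.k + 2) + 1) by ring] at h1
    have := Nat.pow_right_injective le_rfl h1
    omega
  have hN : Nat.card D.base = 2 ^ (2 * n) := by rw [D.card_base, D.hq, hn']; ring
  by_cases hab : IsMulCommutative X
  · obtain rfl := D.isMulCommutative_case hC hA hab
    haveI := Subgroup.normal_of_index_eq_two D.index_base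
    refine ⟨?_, Or.inl ⟨hab, hN⟩, fun X' hC' hA' h => absurd hab h⟩
    rw [Subgroup.normalizer_eq_top, Subgroup.relIndex_top_right, D.index_base]
  · obtain ⟨hb, a, b, hab0, hr⟩ := D.nonabelian_structure hC hA hab
    refine ⟨D.relIndex_normalizer_nonabelian hb hr, Or.inr (D.exists_quaternion hb hab0 hr), fun X' hC' hA' _ hab' => ?_⟩
    obtain ⟨hb', c, d, hcd, hr'⟩ := D.nonabelian_structure hC' hA' hab'
    exact D.nonabelian_conj hb hb' hab0 hcd hr hr'

end Cfsg.Agent.S1202
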