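import Cfsg.Statements.S3116
-- import your own Cfsg.Agent.* helpers here

set_option autoImplicit false
open Cfsg

namespace Cfsg.Agent.S3116

/-- A group with a cyclic subgroup of index two generated by an element whose order occurs only
inside that subgroup has a 2-group of automorphisms when the order is a power of two. -/
private theorem core {X : Type*} [Group X] [Finite X] (x : X) (k : ℕ) (hk : 1 ≤ k)
    (hx : orderOf x = 2 ^ k) (hidx : (Subgroup.zpowers x).index = 2)
    (hout : ∀ g : X, g ∉ Subgroup.zpowers x → orderOf g ≠ 2 ^ k) : IsPGroup 2 (MulAut X) := by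
  intro φ
  refine ⟨2 * k, ?_⟩
  have hφx : φ x ∈ Subgroup.zpowers x := by
    by_contra h
    exact hout _ h (by rw [MulEquiv.orderOf_eq, hx])
  obtain ⟨i, hi⟩ := mem_powers_iff_mem_zpowers.mpr hφx
  simp only at hi
  have hit : ∀ j : ℕ, (φ ^ j) x = x ^ i ^ j := by
    intro j
    induction j with
    | zero => simp
    | succ j ih => rw [pow_succ', MulAut.mul_apply, ih, map_pow, ← hi, ← pow_mul, pow_succ']
  have hodd : Nat.Coprime i (2 ^ k) := by
    have h1 : orderOf (x ^ i) = 2 ^ k := by rw [hi, MulEquiv.orderOf_eq, hx]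
    rw [orderOf_pow, hx] at h1
    have h2 : Nat.gcd (2 ^ k) i = 1 := by
      have hd : Nat.gcd (2 ^ k) i ∣ 2 ^ k := Nat.gcd_dvd_left _ _
      have h3 := Nat.div_mul_cancel hd
      rw [h1] at h3
      exact Nat.eq_of_mul_eq_mul_left (Nat.two_pow_pos k) (by rw [h3, mul_one])
    exact Nat.coprime_comm.mp h2
  set ψ := φ ^ (2 ^ k) with hψ
  have hψx : ψ x = x := by
    rw [hψ, hit]
    conv_rhs => rw [← pow_one x]
    rw [pow_eq_pow_iff_modEq, hx]
    have h1 := (Nat.ModEq.pow_totient hodd).pow 2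
    rw [one_pow, ← pow_mul, Nat.totient_prime_pow Nat.prime_two hk] at h1
    rwa [show 2 ^ (k - 1) * (2 - 1) * 2 = 2 ^ k by
      rw [show (2 : ℕ) - 1 = 1 from rfl, mul_one, ← pow_succ, Nat.sub_add_cancel hk]] at h1
  have hψz : ∀ z ∈ Subgroup.zpowers x, ψ z = z := by
    rintro _ ⟨j, rfl⟩
    simp [map_zpow, hψx]
  have hfix : ∀ g : X, (ψ ^ (2 ^ k)) g = g := by
    intro g
    have hd : g⁻¹ * ψ g ∈ Subgroup.zpowers x := by
      rw [Subgroup.mul_mem_iff_of_index_two hidx, inv_mem_iff]
      refine ⟨fun h => by rw [hψz g h]; exact h, fun h => ?_⟩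
      have h2 := hψz _ h
      rwa [ψ.injective h2] at h
    obtain ⟨j, hj⟩ := mem_powers_iff_mem_zpowers.mpr hd
    simp only at hj
    have hg : ψ g = g * x ^ j := by rw [hj, mul_inv_cancel_left]
    have : ∀ m : ℕ, (ψ ^ m) g = g * x ^ (m * j) := by
      intro m
      induction m with
      | zero => simp
      | succ m ih =>
        rw [pow_succ', MulAut.mul_apply, ih, map_mul, map_pow, hψx, hg, mul_assoc, ← pow_add,
          add_one_mul, add_comm]
    rw [this, pow_mul, ← hx, pow_orderOf_eq_one, one_pow, mul_one]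
  ext g
  rw [MulAut.one_apply, two_mul, pow_add, pow_mul, ← hψ]
  exact hfix g

/-- The automorphism group of a dihedral 2-group of order at least 8, or of a quasi-dihedral (semidihedral) 2-group of order at least 16, is a 2-group. -/
theorem result {X : Type*} [Group X] [Finite X] (h2 : IsPGroup 2 X)
    (h : (∃ n : ℕ, 4 ≤ n ∧ Nonempty (X ≃* DihedralGroup n)) ∨ Cfsg.IsQuasiDihedral X) : IsPGroup 2 (MulAut X) := by
  haveI : Fact (Nat.Prime 2) := ⟨Nat.prime_two⟩
  rcases h with ⟨n, hn, ⟨e⟩⟩ | ⟨n, hn, hcard, x, y, hx, hy, hrel⟩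
  · haveI : NeZero n := ⟨by omega⟩
    set x := e.symm (DihedralGroup.r 1) with hxdef
    have hxn : orderOf x = n := by rw [hxdef, MulEquiv.orderOf_eq, DihedralGroup.orderOf_r_one]
    obtain ⟨j, hj⟩ := h2 x
    obtain ⟨k, -, hk⟩ := (Nat.dvd_prime_pow Nat.prime_two).mp (orderOf_dvd_of_pow_eq_one hj)
    have hk1 : 2 ≤ k := by
      by_contra hc
      have : 2 ^ k ≤ 2 ^ 1 := Nat.pow_le_pow_right two_pos (by omega)
      omega
    refine core x k (by omega) hk ?_ ?_
    · have h1 := Subgroup.card_mul_index (Subgroup.zpowers x)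
      rw [Nat.card_zpowers, hxn, Nat.card_congr e.toEquiv, DihedralGroup.nat_card] at h1
      exact Nat.eq_of_mul_eq_mul_left (by omega : 0 < n) (by rw [h1, mul_comm])
    · intro g hg hgo
      rcases hge : e g with i | i
      · apply hg
        refine ⟨(i.val : ℤ), ?_⟩
        apply e.injective
        simp [hxdef, hge]
      · have := MulEquiv.orderOf_eq e g
        rw [hge, DihedralGroup.orderOf_sr, hgo] at this
        have : 2 ^ 2 ≤ 2 ^ k := Nat.pow_le_pow_right two_pos hk1
        omega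
  · have hidx : (Subgroup.zpowers x).index = 2 := by
      have h1 := Subgroup.card_mul_index (Subgroup.zpowers x)
      rw [Nat.card_zpowers, hx, hcard, pow_succ] at h1
      exact Nat.eq_of_mul_eq_mul_left (Nat.two_pow_pos n) h1
    refine core x n (by omega) hx hidx fun g hg hgo => ?_
    have hy1 : y * y = 1 := by
      have h' := pow_orderOf_eq_one y
      rwa [hy, sq] at h'
    have hp : 2 ^ (n - 1) ≥ 4 := by
      calc 2 ^ (n - 1) ≥ 2 ^ 2 := Nat.pow_le_pow_right two_pos (by omega)
        _ = 4 := by norm_num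
    have h2n : 2 ^ n = 2 * 2 ^ (n - 1) := by rw [← pow_succ', Nat.sub_add_cancel (by omega)]
    have hyz : y ∉ Subgroup.zpowers x := by
      rintro ⟨i, hi⟩
      have hc : y * x * y⁻¹ = x := by
        rw [← hi]; group
      rw [hc] at hrel
      have h3 : x ^ 1 = x ^ (2 ^ (n - 1) - 1) := by rw [pow_one]; exact hrel
      rw [pow_eq_pow_iff_modEq, hx] at h3
      have := Nat.ModEq.eq_of_lt_of_lt h3 (by omega) (by omega)
      omega
    obtain ⟨i, hi⟩ : g * y ∈ Submonoid.powers x := by
      rw [mem_powers_iff_mem_zpowers, Subgroup.mul_mem_iff_of_index_two hidx]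
      exact iff_of_false hg hyz
    simp only at hi
    have hgi : g = x ^ i * y := by rw [hi, mul_assoc, hy1, mul_one]
    have hg2 : g * g = x ^ (i * 2 ^ (n - 1)) := by
      have hyinv : y⁻¹ = y := inv_eq_of_mul_eq_one_right hy1
      have hc : y * x ^ i * y⁻¹ = x ^ ((2 ^ (n - 1) - 1) * i) := by
        rw [← conj_pow, hrel, ← pow_mul]
      calc g * g = x ^ i * (y * x ^ i * y) := by rw [hgi]; simp [mul_assoc]
        _ = x ^ i * (y * x ^ i * y⁻¹) := by rw [hyinv]
        _ = _ := by
          rw [hc, ← pow_add]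
          congr 1
          rw [Nat.sub_mul, one_mul, mul_comm _ i]
          have : i ≤ i * 2 ^ (n - 1) := Nat.le_mul_of_pos_right _ (by omega)
          omega
    have hg4 : g ^ 4 = 1 := by
      have : g ^ 4 = (g * g) ^ 2 := by rw [← sq, ← pow_mul]
      rw [this, hg2, ← pow_mul, mul_assoc, mul_comm (2 ^ (n - 1)) 2, ← h2n, mul_comm, pow_mul, ← hx,
        pow_orderOf_eq_one, one_pow]
    have := Nat.le_of_dvd (by norm_num) (orderOf_dvd_of_pow_eq_one hg4)
    omega

end Cfsg.Agent.S3116
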