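import Cfsg.Statements.S4142
import Cfsg.Agent.FGSB.PRegClass

set_option autoImplicit false
open Cfsg

namespace Cfsg.Agent.S4142

/-- Let G be a finite group and N a normal subgroup. Then the conjugacy class of every element g outside N is a union of cosets of N (gn is conjugate to g for all n ∈ N) if and only if for every g outside N the centralizer of g in G has the same order as the centralizer of gN in G/N. -/
theorem result {G : Type*} [Group G] [Finite G] (N : Subgroup G) [N.Normal] :
    (∀ g : G, g ∉ N → ∀ n ∈ N, ∃ x : G, x * g * x⁻¹ = g * n) ↔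
      ∀ g : G, g ∉ N → Nat.card (Subgroup.centralizer ({g} : Set G)) =
        Nat.card (Subgroup.centralizer ({(QuotientGroup.mk g : G ⧸ N)} : Set (G ⧸ N))) := by
  classical
  -- the class of `g` lies in the preimage of the class of `gN`
  have hsub : ∀ g : G, (ConjClasses.mk g).carrier ⊆
      QuotientGroup.mk ⁻¹' (ConjClasses.mk (g : G ⧸ N)).carrier := by
    intro g y hy
    rw [ConjClasses.mem_carrier_iff_mk_eq, ConjClasses.mk_eq_mk_iff_isConj] at hy
    rw [Set.mem_preimage, ConjClasses.mem_carrier_iff_mk_eq, ConjClasses.mk_eq_mk_iff_isConj]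
    exact (QuotientGroup.mk' N).map_isConj hy
  have hcard : ∀ g : G,
      (QuotientGroup.mk ⁻¹' (ConjClasses.mk (g : G ⧸ N)).carrier : Set G).ncard =
        Nat.card N * (ConjClasses.mk (g : G ⧸ N)).carrier.ncard := fun g => by
    rw [← Nat.card_coe_set_eq, ← Nat.card_coe_set_eq, ← Nat.card_prod]
    exact Nat.card_congr (QuotientGroup.preimageMkEquivSubgroupProdSet N _)
  have hiff : ∀ g : G, (QuotientGroup.mk ⁻¹' (ConjClasses.mk (g : G ⧸ N)).carrier : Set G) =
        (ConjClasses.mk g).carrier ↔
      Nat.card (Subgroup.centralizer ({g} : Set G)) =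
        Nat.card (Subgroup.centralizer ({(QuotientGroup.mk g : G ⧸ N)} : Set (G ⧸ N))) := by
    intro g
    have h1 := (Subgroup.centralizer ({g} : Set G)).card_mul_index
    have h2 := (Subgroup.centralizer ({(g : G ⧸ N)} : Set (G ⧸ N))).card_mul_index
    rw [← CfsgLib.PRegClass.ncard_carrier] at h1 h2
    have h3 : Nat.card G = Nat.card (G ⧸ N) * Nat.card N :=
      Subgroup.card_eq_card_quotient_mul_card_subgroup N
    have hpos : 0 < (ConjClasses.mk (g : G ⧸ N)).carrier.ncard :=
      (Set.ncard_pos (Set.toFinite _)).2 ⟨_, ConjClasses.mem_carrier_mk⟩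
    constructor
    · intro h
      rw [← h, hcard, h3, ← h2] at h1
      refine Nat.eq_of_mul_eq_mul_right
        (Nat.mul_pos (Nat.card_pos (α := N)) hpos) ?_
      rw [h1]; ring
    · intro h
      refine (Set.eq_of_subset_of_ncard_le (hsub g) (le_of_eq ?_) (Set.toFinite _)).symm
      rw [hcard]
      refine Nat.eq_of_mul_eq_mul_left (Nat.card_pos (α := Subgroup.centralizer ({g} : Set G))) ?_
      rw [h1, h3, ← h2, h]; ring
  constructor
  · intro h g hg
    refine (hiff g).1 (Set.Subset.antisymm (fun y hy => ?_) (hsub g))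
    rw [Set.mem_preimage, ConjClasses.mem_carrier_iff_mk_eq, ConjClasses.mk_eq_mk_iff_isConj,
      isConj_comm, isConj_iff] at hy
    obtain ⟨c', hc'⟩ := hy
    obtain ⟨c, rfl⟩ := QuotientGroup.mk_surjective c'
    have hn : (c * g * c⁻¹)⁻¹ * y ∈ N := QuotientGroup.eq.1 (by simpa using hc')
    have hn' : g⁻¹ * c⁻¹ * y * c ∈ N := by
      have := Subgroup.Normal.conj_mem inferInstance _ hn c⁻¹
      simpa [mul_assoc] using this
    obtain ⟨x, hx⟩ := h g hg _ hn'
    rw [ConjClasses.mem_carrier_iff_mk_eq, ConjClasses.mk_eq_mk_iff_isConj, isConj_comm, isConj_iff]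
    refine ⟨c * x, ?_⟩
    calc c * x * g * (c * x)⁻¹ = c * (x * g * x⁻¹) * c⁻¹ := by group
      _ = y := by rw [hx]; group
  · intro h g hg n hn
    have heq := (hiff g).2 (h g hg)
    have hmem : g * n ∈ (ConjClasses.mk g).carrier := by
      rw [← heq, Set.mem_preimage, QuotientGroup.mk_mul_of_mem g hn]
      exact ConjClasses.mem_carrier_mk
    rw [ConjClasses.mem_carrier_iff_mk_eq, ConjClasses.mk_eq_mk_iff_isConj, isConj_comm, isConj_iff] at hmem
    exact hmem

end Cfsg.Agent.S4142
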