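import Cfsg.Statements.S5599
import Cfsg.Agent.Golay.OctadStab
import Cfsg.Agent.Golay.Mathieu

set_option autoImplicit false
open scoped Pointwise
open Cfsg

namespace Cfsg.Agent.S5599

open CfsgLib.Golay CfsgLib.Golay.Cert MulAction

/-- In the automorphism group of the length-24 code, the two-point Mathieu group (permutations of the code's group fixing the extra point and the residue 0) has index 2 in the setwise stabiliser of that pair of points, and an element of the code's group interchanging the two points normalises the two-point group and induces on it, by conjugation, an automorphism that is not inner. -/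
theorem result (g : Equiv.Perm Cfsg.GolayPt) (hg : g ∈ Cfsg.M24) (h₁ : g none = some 0) (h₂ : g (some 0) = none) : Cfsg.Spor.M22.relIndex (Cfsg.M24 ⊓ MulAction.stabilizer (Equiv.Perm Cfsg.GolayPt) ({none, some 0} : Finset Cfsg.GolayPt)) = 2 ∧ (∀ x ∈ Cfsg.Spor.M22, g * x * g⁻¹ ∈ Cfsg.Spor.M22) ∧ ¬ ∃ h ∈ Cfsg.Spor.M22, ∀ x ∈ Cfsg.Spor.M22, g * x * g⁻¹ = h * x * h⁻¹ := by
    have hne : (none : GolayPt) ≠ some 0 := by simp
    have hmem : ∀ x : Equiv.Perm GolayPt, x ∈ Spor.M22 ↔ x ∈ M24 ∧ x none = none ∧ x (some 0) = some 0 := by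
      intro x
      simp only [Spor.M22, Spor.M23, Subgroup.mem_inf, mem_stabilizer_iff, Equiv.Perm.smul_def, and_assoc]
    set P := M24 ⊓ stabilizer (Equiv.Perm GolayPt) ({none, some 0} : Finset GolayPt) with hP
    have hmemP : ∀ x : Equiv.Perm GolayPt, x ∈ P ↔ x ∈ M24 ∧
        ((x none = none ∧ x (some 0) = some 0) ∨ (x none = some 0 ∧ x (some 0) = none)) := by
      intro x
      rw [hP, Subgroup.mem_inf]
      refine and_congr_right fun _ => ?_
      rw [mem_stabilizer_iff, Finset.smul_finset_insert, Finset.smul_finset_singleton]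
      constructor
      · intro h
        have a : x none ∈ ({none, some 0} : Finset GolayPt) := by rw [← h]; simp
        have b : x (some 0) ∈ ({none, some 0} : Finset GolayPt) := by rw [← h]; simp
        simp only [Finset.mem_insert, Finset.mem_singleton] at a b
        rcases a with a | a <;> rcases b with b | b
        · exact absurd (x.injective (a.trans b.symm)) hne
        · exact Or.inl ⟨a, b⟩
        · exact Or.inr ⟨a, b⟩
        · exact absurd (x.injective (a.trans b.symm)) hne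
      · rintro (⟨a, b⟩ | ⟨a, b⟩) <;> simp [Equiv.Perm.smul_def, a, b, Finset.pair_comm]
    have hle : Spor.M22 ≤ P := fun x hx => (hmemP x).mpr ⟨((hmem x).mp hx).1, Or.inl ((hmem x).mp hx).2⟩
    have hgP : g ∈ P := (hmemP g).mpr ⟨hg, Or.inr ⟨h₁, h₂⟩⟩
    have hgnot : g ∉ Spor.M22 := fun h => hne (h₁ ▸ ((hmem g).mp h).2.1).symm
    have hindex : Spor.M22.relIndex P = 2 := by
      rw [Subgroup.relIndex, Subgroup.index_eq_two_iff]
      refine ⟨⟨g, hgP⟩, fun b => ?_⟩
      simp only [Subgroup.mem_subgroupOf, Subgroup.coe_mul, hmem, Equiv.Perm.mul_apply, h₁, h₂]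
      obtain ⟨hb, hb'⟩ := (hmemP b.1).mp b.2
      rcases hb' with ⟨a, c⟩ | ⟨a, c⟩
      · refine Or.inr ⟨⟨hb, a, c⟩, fun h => hne ?_⟩
        rw [← h.2.1, c]
      · refine Or.inl ⟨⟨mul_mem hb hg, c, a⟩, fun h => hne ?_⟩
        rw [← h.2.1, a]
    have hnorm : ∀ x ∈ Spor.M22, g * x * g⁻¹ ∈ Spor.M22 := by
      intro x hx
      obtain ⟨hxM, ha, hb⟩ := (hmem x).mp hx
      refine (hmem _).mpr ⟨mul_mem (mul_mem hg hxM) (inv_mem hg), ?_, ?_⟩
      · rw [Equiv.Perm.mul_apply, Equiv.Perm.mul_apply, show g⁻¹ none = some 0 by rw [Equiv.Perm.inv_def, Equiv.symm_apply_eq, h₂], hb, h₂]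
      · rw [Equiv.Perm.mul_apply, Equiv.Perm.mul_apply, show g⁻¹ (some 0) = none by rw [Equiv.Perm.inv_def, Equiv.symm_apply_eq, h₁], ha, h₁]
    refine ⟨hindex, hnorm, ?_⟩
    rintro ⟨h, hh, hcon⟩
    obtain ⟨hhM, hh1, hh2⟩ := (hmem h).mp hh
    set c : Equiv.Perm GolayPt := h⁻¹ * g with hc
    have hcomm : ∀ x ∈ Spor.M22, c * x = x * c := by
      intro x hx
      have := hcon x hx
      calc c * x = h⁻¹ * (g * x * g⁻¹) * g := by rw [hc]; group
        _ = h⁻¹ * (h * x * h⁻¹) * g := by rw [this]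
        _ = x * c := by rw [hc]; group
    have hc1 : c none = some 0 := by
      rw [hc, Equiv.Perm.mul_apply, h₁, Equiv.Perm.inv_def, Equiv.symm_apply_eq, hh2]
    have hc2 : c (some 0) = none := by
      rw [hc, Equiv.Perm.mul_apply, h₂, Equiv.Perm.inv_def, Equiv.symm_apply_eq, hh1]
    have hcfix : ∀ x : GolayPt, x ≠ none → x ≠ some 0 → c x = x := by
      intro x hx hx'
      by_contra hne'
      have hy1 : c x ≠ none := fun e => hx' (c.injective (e.trans hc2.symm))
      have hy2 : c x ≠ some 0 := fun e => hx (c.injective (e.trans hc1.symm))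
      obtain ⟨z, -, hz⟩ : ∃ z ∈ (Finset.univ : Finset GolayPt), z ∉ ({none, some 0, x, c x} : Finset GolayPt) :=
        Finset.exists_mem_notMem_of_card_lt_card (lt_of_le_of_lt Finset.card_le_four
          (by rw [Finset.card_univ, card_golayPt]; norm_num))
      simp only [Finset.mem_insert, Finset.mem_singleton, not_or] at hz
      obtain ⟨k, hk1, hk2⟩ := exists_stab_pair_two hne (x := x) (y := c x) (z := x) (w := z)
        ⟨hx, hx'⟩ ⟨hy1, hy2⟩ ⟨hx, hx'⟩ ⟨hz.1, hz.2.1⟩ (Ne.symm hne') (Ne.symm hz.2.2.1)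
      have hkM : k.1.1 ∈ Spor.M22 := (hmem _).mpr ⟨k.1.2, k.2.1, k.2.2⟩
      have hk1' : k.1.1 x = x := hk1
      have hk2' : k.1.1 (c x) = z := hk2
      have := congrArg (fun σ : Equiv.Perm GolayPt => σ x) (hcomm _ hkM)
      simp only [Equiv.Perm.mul_apply, hk1', hk2'] at this
      exact hz.2.2.2 this.symm
    obtain ⟨o, ho⟩ : ∃ o, o ∈ octads := ⟨_, pts_baseOctad_mem⟩
    have ho2 : 1 < oᶜ.card := by rw [Finset.card_compl, card_golayPt, octad_card ho]; norm_num
    obtain ⟨p, hp, q, hq, hpq⟩ := Finset.one_lt_card.mp ho2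
    rw [Finset.mem_compl] at hp hq
    obtain ⟨k, hk1, hk2⟩ := exists_map_two hpq hne
    have hn : none ∉ k • o := fun e => hp (by rwa [← hk1, smul_mem_iff'] at e)
    have hs : some 0 ∉ k • o := fun e => hq (by rwa [← hk2, smul_mem_iff'] at e)
    obtain ⟨r, -, hr⟩ : ∃ r ∈ (Finset.univ : Finset GolayPt), r ∉ k • o ∪ {none, some 0} := by
      refine Finset.exists_mem_notMem_of_card_lt_card ?_
      refine lt_of_le_of_lt (Finset.card_union_le _ _) ?_
      rw [Finset.card_univ, card_golayPt, Finset.card_smul_finset, octad_card ho, Finset.card_pair hne]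
      norm_num
    simp only [Finset.mem_union, Finset.mem_insert, Finset.mem_singleton, not_or] at hr
    have hcM : c ∈ M24 := mul_mem (inv_mem hhM) hg
    have := eq_one_of_fix (smul_mem_octads' k ho) hr.1 (g := ⟨c, hcM⟩)
      (fun x hx => hcfix x (fun e => hn (e ▸ hx)) (fun e => hs (e ▸ hx))) (hcfix r hr.2.1 hr.2.2)
    have hc0 : c = 1 := congrArg (fun z : M24 => (z : Equiv.Perm GolayPt)) this
    rw [hc0] at hc1
    exact hne hc1

end Cfsg.Agent.S5599
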