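import Cfsg.Statements.S4282
import Cfsg.Agent.HallHigman.Critical
import Cfsg.Agent.Solvable.PGroupBasic

set_option autoImplicit false
open Cfsg

namespace Cfsg.Agent.S4282

set_option linter.style.haveILetI false
open CfsgLib.HallHigman Subgroup Finset
open scoped commutatorElement

variable {G : Type*} [Group G] {K : Type*} [Field K] {V : Type*} [AddCommGroup V] [Module K V]

private theorem rho_inv_mul (ρ : Representation K G V) (g : G) : ρ g * ρ g⁻¹ = 1 := by
  rw [← map_mul, mul_inv_cancel, map_one]

private theorem mem_center_of_scalar (ρ : Representation K G V) (hfaith : Function.Injective ρ) {g : G}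
    (h : ∃ c : K, ρ g = c • 1) : g ∈ center G := by
  obtain ⟨c, hc⟩ := h
  refine mem_center_iff.2 fun a => hfaith ?_
  rw [map_mul, map_mul, hc, mul_smul_comm, smul_mul_assoc, mul_one, one_mul]

private theorem sum_zpowers {M : Type*} [AddCommMonoid M] [Finite G] (x : G) [Fintype (zpowers x)]
    (f : G → M) : ∑ a : zpowers x, f a = ∑ i ∈ range (Nat.card (zpowers x)), f (x ^ i) := by
  rw [Nat.card_zpowers, ← Fin.sum_univ_eq_sum_range (fun i => f (x ^ i))]
  exact (Equiv.sum_comp (finEquivZPowers (isOfFinOrder_of_finite x)) (fun a : zpowers x => f a)).symm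


/-- A critical case behind the Hall–Higman theorem. Let p ≠ q be primes and G a finite group generated by a normal q-subgroup Q and a cyclic p-subgroup generated by x, such that the centralizer of every non-identity element of that cyclic subgroup is its product with the centre of G. Let K be an algebraically closed field of characteristic p and ρ a faithful representation of G on a nonzero finite-dimensional K-space whose restriction to Q is irreducible. If s is the least exponent with (ρ(x) − 1)^s = 0, then |⟨x⟩| − 1 ≤ s ≤ |⟨x⟩|; and if s = |⟨x⟩| − 1 then |⟨x⟩| − 1 is a power of q and Q is non-abelian. -/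
theorem result {G : Type*} [Group G] [Finite G] (p q : ℕ) [Fact p.Prime] [Fact q.Prime] (hpq : p ≠ q) (Q : Subgroup G) [Q.Normal] (hQ : IsPGroup q Q) (x : G) (hx : IsPGroup p (Subgroup.zpowers x)) (hgen : Q ⊔ Subgroup.zpowers x = ⊤) (hC : ∀ y ∈ Subgroup.zpowers x, y ≠ 1 → Subgroup.centralizer ({y} : Set G) = Subgroup.zpowers x ⊔ Subgroup.center G) {K : Type*} [Field K] [IsAlgClosed K] [CharP K p] {V : Type*} [AddCommGroup V] [Module K V] [FiniteDimensional K V] [Nontrivial V] (ρ : Representation K G V) (hfaith : Function.Injective ρ) (hirr : ∀ W : Submodule K V, (∀ g ∈ Q, Submodule.map (ρ g) W ≤ W) → W = ⊥ ∨ W = ⊤) (s : ℕ) (hs : (ρ x - 1) ^ s = 0) (hmin : ∀ k < s, (ρ x - 1) ^ k ≠ 0) : Nat.card (Subgroup.zpowers x) - 1 ≤ s ∧ s ≤ Nat.card (Subgroup.zpowers x) ∧ (s = Nat.card (Subgroup.zpowers x) - 1 → (∃ b : ℕ, Nat.card (Subgroup.zpowers x) - 1 = q ^ b) ∧ ¬ IsMulCommutative Q) := by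
  classical
  set N := Nat.card (zpowers x) with hN
  obtain ⟨n, hn⟩ := IsPGroup.iff_card.1 hx
  rw [← hN] at hn
  haveI : CharP (Module.End K V) p := charP_of_injective_algebraMap' K p
  have hxN : x ^ N = 1 := by rw [hN, Nat.card_zpowers]; exact pow_orderOf_eq_one x
  set X := ρ x with hX
  set T := X - 1 with hT
  have hTN : T ^ N = 0 := by
    rw [hT, hn, sub_pow_char_pow_of_commute (p := p) (n := n) (Commute.one_right X), one_pow, hX, ← map_pow, ← hn,
      hxN, map_one, sub_self]
  have hsle : s ≤ N := not_lt.1 fun h => hmin N h hTN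
  have h1ne : (1 : Module.End K V) ≠ 0 := by
    intro h
    obtain ⟨v, hv⟩ := exists_ne (0 : V)
    exact hv (by simpa using LinearMap.congr_fun h v)
  have hs0 : s ≠ 0 := fun h => h1ne (by rw [← hs, h, pow_zero])
  refine ⟨?_, hsle, ?_⟩ <;> by_cases hN1 : N = 1
  · omega
  rotate_left
  · intro h; omega
  all_goals
    suffices hmain : s = N ∨ (s + 1 = N ∧ (∃ b : ℕ, s = q ^ b) ∧ ¬ IsMulCommutative Q) by
      first
        | omega
        | (intro h
           obtain ⟨h1, h2, h3⟩ := hmain.resolve_left (by omega)
           exact ⟨h ▸ h2, h3⟩)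
    by_cases hsN : s = N
    · exact Or.inl hsN
    right
    have hlt : s < N := lt_of_le_of_ne hsle hsN
    have hNpos : 1 < N := by omega
    have hxne : x ≠ 1 := fun h => hN1 (by rw [hN, h, zpowers_one_eq_bot, card_bot])
    have hT0 : T ≠ 0 := fun h => hxne (hfaith (by rw [map_one]; exact sub_eq_zero.1 h))
    -- scalars
    have hschur := fun (f : Module.End K V) (hf : ∀ g ∈ Q, Commute f (ρ g)) => schur ρ Q hirr hf
    have hcenQ : ∀ g : G, (∀ h ∈ Q, g * h = h * g) → g ∈ center G := fun g hg =>
      mem_center_of_scalar ρ hfaith (hschur (ρ g) fun h hh => by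
        show ρ g * ρ h = ρ h * ρ g
        rw [← map_mul, ← map_mul, hg h hh])
    have hcenscal : ∀ z ∈ center G, ∃ c : K, ρ z = c • 1 := fun z hz => hschur (ρ z) fun g _ => by
      show ρ z * ρ g = ρ g * ρ z
      rw [← map_mul, ← map_mul, mem_center_iff.1 hz g]
    have hfix : ∀ y ∈ zpowers x, y ≠ 1 → ∀ g ∈ Q, y * g = g * y → g ∈ center G := by
      intro y hy hy1 g hg hyg
      have hmem : g ∈ zpowers x ⊔ center G := hC y hy hy1 ▸ mem_centralizer_singleton_iff.2 hyg.symm
      obtain ⟨a, ha, z, hz, hazg⟩ := mem_sup_of_normal_right.1 hmem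
      -- the p-part and the q-part commute
      have hag : Commute a g := by
        rw [← hazg]; exact (Commute.refl a).mul_right (mem_center_iff.1 hz a)
      obtain ⟨i, hi⟩ := IsPGroup.iff_orderOf.1 hx ⟨a, ha⟩
      obtain ⟨j, hj⟩ := IsPGroup.iff_orderOf.1 hQ ⟨g, hg⟩
      rw [orderOf_mk] at hi hj
      have hz' : z = a⁻¹ * g := by rw [← hazg, inv_mul_cancel_left]
      have hgj : g ^ q ^ j = 1 := hj ▸ pow_orderOf_eq_one g
      have hzp : z ^ q ^ j = (a⁻¹) ^ q ^ j := by
        rw [hz', hag.inv_left.mul_pow, hgj, mul_one]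
      have hcop : (orderOf a⁻¹).Coprime (q ^ j) := by
        rw [orderOf_inv, hi]
        exact Nat.Coprime.pow _ _ ((Nat.coprime_primes Fact.out Fact.out).2 hpq)
      obtain ⟨m, hm⟩ := exists_pow_eq_self_of_coprime hcop.symm
      have haZ : a ∈ center G := by
        refine inv_mem_iff.1 ?_
        rw [← hm, ← hzp]
        exact pow_mem (pow_mem hz _) _
      rw [← hazg]
      exact mul_mem haZ hz
    have hXY : X * ρ x⁻¹ = 1 := rho_inv_mul ρ x
    have hXsum : T ^ (N - 1) = ∑ i ∈ range N, X ^ i := by
      rw [hn, hT, ← sum_pow_mul_pow p n (Commute.one_right X)]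
      simp
    -- abelian normal subgroups in Q are central
    have hab : ∀ A : Subgroup G, A.Normal → A ≤ Q → (∀ a ∈ A, ∀ b ∈ A, a * b = b * a) →
        A ≤ center G := by
      intro A hA hAQ hAc
      let F : A → Module.End K V := fun a => ρ (a : G)
      obtain ⟨l0, hl0⟩ := exists_weight F fun a b => by
        show ρ (a : G) * ρ (b : G) = ρ (b : G) * ρ (a : G)
        rw [← map_mul, ← map_mul, hAc a a.2 b b.2]
      letI : MulAction G (A → K) :=
        { smul := fun g l a => l ((MulAut.conjNormal g⁻¹ : MulAut A) a)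
          one_smul := fun l => funext fun a => by
            show l ((MulAut.conjNormal (1 : G)⁻¹ : MulAut A) a) = l a
            simp
          mul_smul := fun g h l => funext fun a => by
            show l ((MulAut.conjNormal (g * h)⁻¹ : MulAut A) a) =
              l ((MulAut.conjNormal h⁻¹ : MulAut A) ((MulAut.conjNormal g⁻¹ : MulAut A) a))
            congr 1
            exact Subtype.ext (by simp [mul_assoc]) }
      have hmove : ∀ (g : G) (l : A → K), ∀ v ∈ weight F l, ρ g v ∈ weight F (g • l) := by
        intro g l v hv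
        refine mem_weight.2 fun a => ?_
        show ρ (a : G) (ρ g v) = l ((MulAut.conjNormal g⁻¹ : MulAut A) a) • ρ g v
        rw [← map_smul, ← (mem_weight.1 hv _)]
        show ρ (a : G) (ρ g v) = ρ g (ρ ((MulAut.conjNormal g⁻¹ : MulAut A) a : G) v)
        rw [← Module.End.mul_apply, ← Module.End.mul_apply, ← map_mul, ← map_mul]
        simp [mul_assoc]
      have hne : ∀ (g : G) (l : A → K), weight F l ≠ ⊥ → weight F (g • l) ≠ ⊥ := by
        intro g l hl hb
        obtain ⟨v, hv, hv0⟩ := Submodule.exists_mem_ne_zero_of_ne_bot hl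
        have := hmove g l v hv
        rw [hb, Submodule.mem_bot] at this
        exact hv0 (by
          have h2 := congrArg (ρ g⁻¹) this
          rwa [← Module.End.mul_apply, ← map_mul, inv_mul_cancel, map_one, Module.End.one_apply,
            map_zero] at h2)
      -- all weights form one orbit of Q
      have htrans : ∀ l l' : A → K, weight F l ≠ ⊥ → weight F l' ≠ ⊥ → ∃ g ∈ Q, g • l = l' := by
        intro l l' hl hl'
        let O := (Set.finite_range fun g : Q => (g : G) • l).toFinset
        have hO : ∀ m, m ∈ O ↔ ∃ g ∈ Q, g • l = m := fun m => by simp [O]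
        have htop : O.sup (weight F) = ⊤ := by
          refine (hirr _ fun g hg => ?_).resolve_left fun hb => hl ?_
          · rw [Submodule.map_le_iff_le_comap]
            refine Finset.sup_le fun m hm => ?_
            intro v hv
            obtain ⟨h, hh, rfl⟩ := (hO m).1 hm
            exact Finset.le_sup (f := weight F) ((hO _).2 ⟨g * h, mul_mem hg hh, mul_smul g h l⟩)
              (hmove g _ v hv)
          · exact eq_bot_iff.2 ((Finset.le_sup ((hO l).2 ⟨1, one_mem Q, one_smul G l⟩)).trans hb.le)
        obtain ⟨v, hv, hv0⟩ := Submodule.exists_mem_ne_zero_of_ne_bot hl'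
        by_contra hno
        exact hv0 (eq_zero_of_mem_sup F O l' (fun h => hno ((hO l').1 h)) v hv (htop ▸ Submodule.mem_top))
      let Ω := {l : A → K // weight F l ≠ ⊥}
      letI : MulAction G Ω :=
        { smul := fun g l => ⟨g • l.1, hne g l.1 l.2⟩
          one_smul := fun l => Subtype.ext (one_smul G l.1)
          mul_smul := fun g h l => Subtype.ext (mul_smul g h l.1) }
      haveI : MulAction.IsPretransitive Q Ω := ⟨fun l l' => by
        obtain ⟨g, hg, h⟩ := htrans l.1 l'.1 l.2 l'.2
        exact ⟨⟨g, hg⟩, Subtype.ext h⟩⟩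
      haveI : Finite Ω :=
        Finite.of_surjective (fun g : Q => g • (⟨l0, hl0⟩ : Ω)) (MulAction.surjective_smul Q _)
      have hΩ : ¬ p ∣ Nat.card Ω := fun hd => by
        rw [← MulAction.index_stabilizer_of_transitive Q (⟨l0, hl0⟩ : Ω)] at hd
        obtain ⟨k, hk⟩ := IsPGroup.iff_card.1 hQ
        have := (Fact.out : p.Prime).dvd_of_dvd_pow (hk ▸ hd.trans (index_dvd_card _))
        exact hpq ((Nat.prime_dvd_prime_iff_eq Fact.out Fact.out).1 this)
      obtain ⟨lf, hlf⟩ := hx.nonempty_fixed_point_of_prime_not_dvd_card Ω hΩ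
      by_cases hall : ∀ l : Ω, l = lf
      · intro a ha
        refine mem_center_of_scalar ρ hfaith ⟨lf.1 ⟨a, ha⟩, ?_⟩
        have htop : weight F lf.1 = ⊤ := by
          refine (hirr _ fun g hg => ?_).resolve_left lf.2
          rintro _ ⟨v, hv, rfl⟩
          have := hmove g lf.1 v hv
          rwa [show g • lf.1 = lf.1 from congrArg Subtype.val (hall (g • lf))] at this
        exact LinearMap.ext fun v => by
          simpa using mem_weight.1 (htop ▸ Submodule.mem_top : v ∈ weight F lf.1) ⟨a, ha⟩
      · exfalso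
        push Not at hall
        obtain ⟨l1, hl1⟩ := hall
        obtain ⟨v, hv, hv0⟩ := Submodule.exists_mem_ne_zero_of_ne_bot l1.2
        have hfree : ∀ y : zpowers x, (y : G) • l1 = l1 → y = 1 := by
          intro y hy
          by_contra hy1
          let R := {h : Q // (h : G) • lf = l1}
          have hyf : (y : G) • lf = lf := hlf y
          have hyi : (y : G)⁻¹ • lf = lf := inv_smul_eq_iff.2 hyf.symm
          letI : MulAction (zpowers (y : G)) Q :=
            MulAction.compHom _ ((MulAut.conjNormal (H := Q)).comp (zpowers (y : G)).subtype)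
          have hyfix : ∀ w : zpowers (y : G), (w : G) • lf = lf ∧ (w : G) • l1 = l1 := by
            rintro ⟨w, hw⟩
            exact ⟨(zpowers_le.2 (show (y : G) ∈ MulAction.stabilizer G lf from hyf)) hw,
              (zpowers_le.2 (show (y : G) ∈ MulAction.stabilizer G l1 from hy)) hw⟩
          letI : MulAction (zpowers (y : G)) R :=
            { smul := fun w h => ⟨w • h.1, by
                show ((w : G) * (h.1 : G) * (w : G)⁻¹) • lf = l1
                rw [mul_smul, mul_smul, inv_smul_eq_iff.2 (hyfix w).1.symm, h.2, (hyfix w).2]⟩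
              one_smul := fun h => Subtype.ext (one_smul _ h.1)
              mul_smul := fun a b h => Subtype.ext (mul_smul a b h.1) }
          obtain ⟨g0, hg0⟩ := MulAction.exists_smul_eq Q lf l1
          have hR : Nat.card R = Nat.card (MulAction.stabilizer Q lf) := by
            refine (Nat.card_congr
              { toFun := fun h : MulAction.stabilizer Q lf => (⟨g0 * h.1, ?_⟩ : R)
                invFun := fun r => ⟨g0⁻¹ * r.1, ?_⟩
                left_inv := fun h => Subtype.ext (by simp)
                right_inv := fun r => Subtype.ext (by simp) }).symm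
            · show (g0 * h.1) • lf = l1
              rw [mul_smul, h.2, hg0]
            · show (g0⁻¹ * r.1) • lf = lf
              rw [mul_smul, show r.1 • lf = l1 from r.2, inv_smul_eq_iff, hg0]
          have hR' : ¬ p ∣ Nat.card R := fun hd => by
            obtain ⟨k, hk⟩ := IsPGroup.iff_card.1 (hQ.to_subgroup (MulAction.stabilizer Q lf))
            have := (Fact.out : p.Prime).dvd_of_dvd_pow (hk ▸ hR ▸ hd)
            exact hpq ((Nat.prime_dvd_prime_iff_eq Fact.out Fact.out).1 this)
          obtain ⟨h, hh⟩ := (hx.to_le (zpowers_le.2 y.2)).nonempty_fixed_point_of_prime_not_dvd_card R hR'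
          have hcomm : (y : G) * h.1 = h.1 * y := by
            have := congrArg (fun r : R => ((r.1 : Q) : G)) (hh ⟨y, mem_zpowers _⟩)
            exact mul_inv_eq_iff_eq_mul.1 this
          have hz := hfix y y.2 (fun e => hy1 (Subtype.ext e)) h.1 h.1.2 hcomm
          refine hl1 (Subtype.ext (funext fun a => ?_))
          rw [← h.2]
          show lf.1 ((MulAut.conjNormal (h.1 : G)⁻¹ : MulAut A) a) = lf.1 a
          refine congrArg lf.1 (Subtype.ext ?_)
          simp [mem_center_iff.1 hz (a : G), mul_assoc]
        have hli : LinearIndependent K fun a : zpowers x => ρ (a : G) v := by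
          refine linearIndependent_weight F _ (fun a : zpowers x => ((a : G) • l1).1) (fun a b hab => ?_)
            (fun a => hmove _ _ v hv) fun a h0 => hv0 ?_
          · have := hfree (b⁻¹ * a) (by
              show ((b : G)⁻¹ * (a : G)) • l1 = l1
              rw [mul_smul, inv_smul_eq_iff]; exact Subtype.ext hab)
            exact (inv_mul_eq_one.1 this).symm
          · have h2 := congrArg (ρ (a : G)⁻¹) h0
            rwa [← Module.End.mul_apply, ← map_mul, inv_mul_cancel, map_one, Module.End.one_apply,
              map_zero] at h2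
        haveI := Fintype.ofFinite (zpowers x)
        have hzero : ∑ a : zpowers x, ρ (a : G) v = 0 := by
          rw [sum_zpowers x (fun g => ρ g v), ← hN]
          simp only [map_pow]
          rw [← LinearMap.sum_apply, ← hX, ← hXsum, pow_eq_zero_of_le (by omega : s ≤ N - 1) hs,
            LinearMap.zero_apply]
        have := Fintype.linearIndependent_iff.1 hli (fun _ => 1) (by simpa using hzero) 1
        simp at this
    -- class at most two
    have hclass : ∀ g ∈ Q, ∀ h ∈ Q, ⁅g, h⁆ ∈ center G := by
      by_contra hno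
      push Not at hno
      obtain ⟨g1, hg1, h1, hh1, hnc⟩ := hno
      let f := QuotientGroup.mk' (center G)
      let Qb := Q.map f
      haveI hQbn : Qb.Normal := Subgroup.Normal.map inferInstance _ (QuotientGroup.mk'_surjective _)
      haveI : (⁅Qb, Qb⁆.subgroupOf Qb).Normal := inferInstance
      have hne : ⁅Qb, Qb⁆.subgroupOf Qb ≠ ⊥ := fun hb => by
        have hmem : f ⁅g1, h1⁆ ∈ ⁅Qb, Qb⁆ := by
          rw [map_commutatorElement]
          exact commutator_mem_commutator (mem_map_of_mem f hg1) (mem_map_of_mem f hh1)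
        have h2 : (⟨f ⁅g1, h1⁆, commutator_le_left Qb Qb hmem⟩ : Qb) ∈ ⁅Qb, Qb⁆.subgroupOf Qb := hmem
        rw [hb, mem_bot] at h2
        exact hnc ((QuotientGroup.eq_one_iff _).1 (congrArg Subtype.val h2))
      haveI : Group.IsNilpotent Qb := (hQ.map f : IsPGroup q Qb).isNilpotent
      have hb := CfsgLib.PGroupBasic.inf_center_ne_bot _ hne
      obtain ⟨w, ⟨hw1, hw2⟩, hw3⟩ := (bot_or_exists_ne_one _).resolve_left hb
      have hwm : (w : G ⧸ center G) ∈ (⁅Q, Q⁆).map f := by
        rw [map_commutator]; exact hw1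
      obtain ⟨g, hg, hgw⟩ := hwm
      let A : Subgroup G := ⁅Q, Q⁆ ⊓ (centralizer (Qb : Set (G ⧸ center G))).comap f
      have hA1 : ⁅(centralizer (Qb : Set (G ⧸ center G))).comap f, Q⁆ ≤ center G := by
        refine commutator_le.2 fun a ha b hb => (QuotientGroup.eq_one_iff _).1 ?_
        show f ⁅a, b⁆ = 1
        rw [map_commutatorElement, commutatorElement_eq_one_iff_mul_comm]
        exact (mem_centralizer_iff.1 (mem_comap.1 ha) _ (mem_map_of_mem f hb)).symm
      have hA2 : ⁅⁅Q, Q⁆, (centralizer (Qb : Set (G ⧸ center G))).comap f⁆ = ⊥ := by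
        refine commutator_commutator_eq_bot_of_rotate ?_ ?_
        all_goals
          rw [commutator_eq_bot_iff_le_centralizer]
          first
            | (intro a ha; exact mem_centralizer_iff.2 fun b _ => mem_center_iff.1 (hA1 ha) b)
            | (intro a ha; exact mem_centralizer_iff.2 fun b _ =>
                mem_center_iff.1 (hA1 ((commutator_comm _ _).le ha)) b)
      have hAab : ∀ a ∈ A, ∀ b ∈ A, a * b = b * a := fun a ha b hb => by
        have := commutator_eq_bot_iff_le_centralizer.1 hA2 ha.1
        exact (mem_centralizer_iff.1 this b hb.2).symm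
      have hAn : A.Normal := by
        haveI : (centralizer (Qb : Set (G ⧸ center G))).Normal := inferInstance
        infer_instance
      have hgA : g ∈ A := ⟨hg, mem_comap.2 (mem_centralizer_iff.2 fun b hb => by
        rw [hgw]
        exact congrArg Subtype.val (mem_center_iff.1 hw2 ⟨b, hb⟩))⟩
      have := hab A hAn (inf_le_left.trans (commutator_le_left Q Q)) hAab hgA
      exact hw3 (Subtype.ext (hgw.symm.trans ((QuotientGroup.eq_one_iff _).2 this)))
    -- the basis
    let f := QuotientGroup.mk' (center G)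
    let Qb := Q.map f
    haveI hQbn : Qb.Normal := Subgroup.Normal.map inferInstance _ (QuotientGroup.mk'_surjective _)
    have hrep : ∀ c : Qb, ∃ h ∈ Q, f h = c := fun c => c.2
    choose r hrQ hr using hrep
    have hsame : ∀ h h' : G, f h = f h' → ∃ k : K, ρ h = k • ρ h' := by
      intro h h' e
      obtain ⟨k, hk⟩ := hcenscal (h'⁻¹ * h) ((QuotientGroup.eq).1 e.symm)
      refine ⟨k, ?_⟩
      rw [show h = h' * (h'⁻¹ * h) by group, map_mul, hk, mul_smul_comm, mul_one]
    let B : Qb → Module.End K V := fun c => ρ (r c)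
    have hBspan : ⊤ ≤ Submodule.span K (Set.range B) := fun φ _ => by
      refine (Submodule.span_le.2 ?_) (burnside ρ Q hirr φ)
      rintro _ ⟨h, hh, rfl⟩
      obtain ⟨k, hk⟩ := hsame h (r ⟨f h, mem_map_of_mem f hh⟩) (hr ⟨f h, mem_map_of_mem f hh⟩).symm
      rw [SetLike.mem_coe, hk]
      exact Submodule.smul_mem _ _ (Submodule.subset_span ⟨_, rfl⟩)
    let Ad : G → Module.End K (Module.End K V) :=
      fun g => LinearMap.mulLeftRight K (ρ g, ρ g⁻¹)
    have hAd : ∀ g φ, Ad g φ = ρ g * φ * ρ g⁻¹ := fun g φ => by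
      simp [Ad, LinearMap.mulLeftRight_apply]
    have hchi : ∀ (g : Q) (c : Qb), ∃ k : K, ρ ⁅(g : G), r c⁆ = k • 1 :=
      fun g c => hcenscal _ (hclass g g.2 _ (hrQ c))
    choose χ hχ using hchi
    have hBw : ∀ c, B c ∈ weight (fun g : Q => Ad (g : G)) (fun g => χ g c) := fun c => by
      refine mem_weight.2 fun g => ?_
      rw [hAd, ← map_mul, ← map_mul, show (g : G) * r c * (g : G)⁻¹ = ⁅(g : G), r c⁆ * r c by
        rw [_root_.commutatorElement_def]; group, map_mul, hχ, smul_mul_assoc, one_mul]
    have hχinj : Function.Injective (fun c (g : Q) => χ g c) := by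
      intro c d hcd
      have hcomm : ∀ h ∈ Q, h * ((r d)⁻¹ * r c) = ((r d)⁻¹ * r c) * h := fun h hh => by
        have e : ⁅h, r c⁆ = ⁅h, r d⁆ := hfaith (by
          rw [hχ ⟨h, hh⟩, hχ ⟨h, hh⟩, show χ ⟨h, hh⟩ c = χ ⟨h, hh⟩ d from congrFun hcd ⟨h, hh⟩])
        have e1 : h * r c * h⁻¹ = ⁅h, r d⁆ * r c := by
          rw [← e, _root_.commutatorElement_def]; group
        have e2 : h * r d * h⁻¹ = ⁅h, r d⁆ * r d := by rw [_root_.commutatorElement_def]; group
        have e3 : h * ((r d)⁻¹ * r c) * h⁻¹ = (r d)⁻¹ * r c := by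
          calc h * ((r d)⁻¹ * r c) * h⁻¹ = (h * r d * h⁻¹)⁻¹ * (h * r c * h⁻¹) := by group
            _ = _ := by rw [e1, e2]; group
        exact mul_inv_eq_iff_eq_mul.1 e3
      refine Subtype.ext ?_
      rw [← hr c, ← hr d]
      exact ((QuotientGroup.eq).2 (hcenQ _ fun h hh => (hcomm h hh).symm)).symm
    have hρ0 : ∀ g : G, ρ g ≠ 0 := fun g h0 => h1ne (by rw [← rho_inv_mul ρ g, h0, zero_mul])
    have hBli : LinearIndependent K B :=
      linearIndependent_weight _ B _ hχinj hBw fun c => hρ0 _
    haveI : Finite Qb := inferInstance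
    let bb : Module.Basis Qb K (Module.End K V) := Module.Basis.mk hBli hBspan
    have hbb : ∀ c, bb c = B c := fun c => Module.Basis.mk_apply hBli hBspan c
    -- semiregularity
    letI : MulDistribMulAction (zpowers x) Qb :=
      MulDistribMulAction.compHom _ ((MulAut.conjNormal (H := Qb)).comp (f.comp (zpowers x).subtype))
    have hact : ∀ (a : zpowers x) (c : Qb),
        ((a • c : Qb) : G ⧸ center G) = f ((a : G) * r c * (a : G)⁻¹) := fun a c => by
      rw [map_mul, map_mul, map_inv, hr]; rfl
    have hfree : ∀ (a : zpowers x) (c : Qb), c ≠ 1 → a • c = c → a = 1 := by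
      intro a c hc hac
      by_contra ha
      refine hc (Subtype.ext ?_)
      rw [← hr c, OneMemClass.coe_one]
      refine (QuotientGroup.eq_one_iff _).2 (hfix a a.2 (fun e => ha (Subtype.ext e)) _ (hrQ c) ?_)
      have hz := (QuotientGroup.eq).1 ((hr c).trans ((congrArg Subtype.val hac).symm.trans (hact a c)))
      set h := r c
      set z := h⁻¹ * ((a : G) * h * (a : G)⁻¹) with hzdef
      have hzQ : z ∈ Q := mul_mem (inv_mem (hrQ c))
        ((inferInstance : Q.Normal).conj_mem _ (hrQ c) _)
      have hconj : ∀ j : ℕ, (a : G) ^ j * h * ((a : G) ^ j)⁻¹ = h * z ^ j := by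
        intro j
        induction j with
        | zero => simp
        | succ j ih =>
          have hza : (a : G) * z ^ j * (a : G)⁻¹ = z ^ j := by
            rw [mem_center_iff.1 (pow_mem hz j) (a : G), mul_inv_cancel_right]
          calc (a : G) ^ (j + 1) * h * ((a : G) ^ (j + 1))⁻¹
              = (a : G) * ((a : G) ^ j * h * ((a : G) ^ j)⁻¹) * (a : G)⁻¹ := by
                rw [pow_succ']; group
            _ = ((a : G) * h * (a : G)⁻¹) * ((a : G) * z ^ j * (a : G)⁻¹) := by rw [ih]; group
            _ = _ := by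
              rw [hza, show (a : G) * h * (a : G)⁻¹ = h * z by rw [hzdef, mul_inv_cancel_left],
                pow_succ', mul_assoc h z]
      obtain ⟨i, hi⟩ := IsPGroup.iff_orderOf.1 hx a
      obtain ⟨j, hj⟩ := IsPGroup.iff_orderOf.1 hQ ⟨z, hzQ⟩
      rw [orderOf_mk] at hj
      have hzi : z ^ p ^ i = 1 := by
        have := hconj (p ^ i)
        rw [show (a : G) ^ p ^ i = 1 by rw [← hi, ← orderOf_coe]; exact pow_orderOf_eq_one _] at this
        simpa using this.symm
      have hz1 : z = 1 := by
        rw [← orderOf_eq_one_iff, hj]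
        have hd := orderOf_dvd_of_pow_eq_one hzi
        rw [hj] at hd
        exact (Nat.Coprime.pow j i ((Nat.coprime_primes Fact.out Fact.out).2 hpq.symm)).eq_one_of_dvd hd
      have := hconj 1
      rw [pow_one, pow_one, hz1, mul_one] at this
      exact mul_inv_eq_iff_eq_mul.1 this
    -- orbit representatives and the trace
    haveI := Fintype.ofFinite (zpowers x)
    let R : Qb → Prop := fun c => c ≠ 1 ∧ (Quotient.mk (MulAction.orbitRel (zpowers x) Qb) c).out = c
    let M : Module.End K (Module.End K V) := bb.constr K fun c => if R c then B c else 0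
    have hM : ∀ c, M (B c) = if R c then B c else 0 := fun c => by
      rw [← hbb c, Module.Basis.constr_basis, hbb]
    have hAdB : ∀ (a : zpowers x) (c : Qb), ∃ k : K, Ad (a : G) (B c) = k • B (a • c) := fun a c => by
      obtain ⟨k, hk⟩ := hsame ((a : G) * r c * (a : G)⁻¹) (r (a • c)) ((hact a c).symm.trans (hr _).symm)
      exact ⟨k, by rw [hAd, ← map_mul, ← map_mul, hk]⟩
    have hcancel : ∀ (a : zpowers x) φ, Ad (a : G) (Ad ((a : G)⁻¹) φ) = φ := fun a φ => by
      rw [hAd, hAd, inv_inv]
      calc ρ (a : G) * (ρ (a : G)⁻¹ * φ * ρ (a : G)) * ρ (a : G)⁻¹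
          = (ρ (a : G) * ρ (a : G)⁻¹) * φ * (ρ (a : G) * ρ (a : G)⁻¹) := by noncomm_ring
        _ = φ := by rw [rho_inv_mul, one_mul, mul_one]
    have hterm : ∀ (a : zpowers x) (c : Qb), Ad (a : G) (M (Ad ((a : G)⁻¹) (B c))) =
        if R (a⁻¹ • c) then B c else 0 := fun a c => by
      obtain ⟨k, hk⟩ := hAdB a⁻¹ c
      rw [InvMemClass.coe_inv] at hk
      rw [hk, map_smul, hM]
      split_ifs with h
      · rw [← hk, hcancel]
      · rw [smul_zero, map_zero]
    let P : Module.End K V → Module.End K V := fun φ => ∑ a : zpowers x, Ad (a : G) (M (Ad ((a : G)⁻¹) φ))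
    have hPdiff : ∀ φ, φ - P φ ∈ Submodule.span K ({1} : Set (Module.End K V)) := by
      have hPl : ∀ φ, P φ = (∑ a : zpowers x, Ad (a : G) * (M * Ad ((a : G)⁻¹))) φ := fun φ => by
        rw [LinearMap.sum_apply]; rfl
      intro φ
      refine Submodule.span_induction (p := fun φ _ => φ - P φ ∈ Submodule.span K ({1} : Set _))
        ?_ ?_ ?_ ?_ (bb.mem_span φ)
      · rintro _ ⟨c, rfl⟩
        rw [hbb]
        show B c - ∑ a : zpowers x, Ad (a : G) (M (Ad ((a : G)⁻¹) (B c))) ∈ _
        simp only [hterm]
        by_cases hc : c = 1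
        · rw [Finset.sum_eq_zero fun a _ => if_neg fun h => h.1 (by rw [hc, smul_one]), sub_zero]
          obtain ⟨k, hk⟩ := hsame (r c) 1 (by rw [hr, hc, map_one]; rfl)
          show ρ (r c) ∈ _
          rw [hk, map_one]
          exact Submodule.smul_mem _ _ (Submodule.mem_span_singleton_self _)
        · set o := (Quotient.mk (MulAction.orbitRel (zpowers x) Qb) c).out with ho
          obtain ⟨a, ha⟩ : ∃ a : zpowers x, a • o = c :=
            MulAction.orbitRel_apply.1 ((MulAction.orbitRel (zpowers x) Qb).symm (Quotient.mk_out c))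
          have ho1 : o ≠ 1 := fun h => hc (by rw [← ha, h, smul_one])
          have hcls : ∀ b : zpowers x,
              Quotient.mk (MulAction.orbitRel (zpowers x) Qb) (b⁻¹ • c) = Quotient.mk _ c :=
            fun b => Quotient.sound (MulAction.orbitRel_apply.2 ⟨b⁻¹, rfl⟩)
          rw [Finset.sum_eq_single a]
          · rw [if_pos, sub_self]
            · exact Submodule.zero_mem _
            · refine ⟨?_, ?_⟩
              · rw [← ha, inv_smul_smul]; exact ho1
              · rw [hcls, ← ho, ← ha, inv_smul_smul]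
          · intro b _ hb
            refine if_neg fun h => hb ?_
            have h2 := h.2
            rw [hcls, ← ho] at h2
            have : (a⁻¹ * b) • o = o := by rw [mul_smul, h2, smul_inv_smul, ← ha, inv_smul_smul, ha, ← h2]
            exact (inv_mul_eq_one.1 (hfree _ _ ho1 this)).symm
          · exact fun h => absurd (Finset.mem_univ a) h
      · rw [hPl, map_zero, sub_zero]; exact Submodule.zero_mem _
      · intro a b _ _ ha hb
        rw [hPl] at ha hb ⊢
        rw [map_add, add_sub_add_comm]; exact add_mem ha hb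
      · intro k a _ ha
        rw [hPl] at ha ⊢
        rw [map_smul, ← smul_sub]; exact Submodule.smul_mem _ _ ha
    have hdec : ∀ φ : Module.End K V, Commute φ T → ∃ (c : K) (g : Module.End K V),
        φ = c • 1 + ∑ a ∈ range N, T ^ a * g * T ^ (N - 1 - a) := by
      intro φ hφ
      have hφX : Commute φ X := by
        have := hφ.add_right (Commute.one_right φ)
        rwa [hT, sub_add_cancel] at this
      obtain ⟨k, hk⟩ := Submodule.mem_span_singleton.1 (hPdiff φ)
      set Y := ρ x⁻¹ with hY
      have hYX : Y * X = 1 := by rw [hY, hX, ← map_mul, inv_mul_cancel, map_one]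
      have hfix' : ∀ i : ℕ, Ad ((x ^ i)⁻¹) φ = φ := fun i => by
        rw [hAd, inv_inv, ← inv_pow, map_pow, map_pow, ← hX, ← hY, mul_assoc,
          (hφX.pow_right i).eq, ← mul_assoc,
          ← (show Commute Y X from hYX.trans hXY.symm).mul_pow, hYX, one_pow, one_mul]
      refine ⟨k, M φ * Y ^ (N - 1), ?_⟩
      rw [hk]
      have hP : P φ = ∑ a ∈ range N, T ^ a * (M φ * Y ^ (N - 1)) * T ^ (N - 1 - a) := by
        show ∑ a : zpowers x, Ad (a : G) (M (Ad ((a : G)⁻¹) φ)) = _
        rw [sum_zpowers x (fun g => Ad g (M (Ad g⁻¹ φ))), ← hN]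
        let L := LinearMap.mulLeft K T
        let R' := LinearMap.mulRight K T
        let RY := LinearMap.mulRight K Y
        let W := LinearMap.mulLeft K X * RY
        haveI : CharP (Module.End K (Module.End K V)) p := by
          haveI : Nontrivial (Module.End K V) := ⟨⟨1, 0, h1ne⟩⟩
          exact charP_of_injective_algebraMap' K p
        have hW : W - 1 = (L - R') * RY := by
          refine LinearMap.ext fun g => ?_
          show X * (g * Y) - g = T * (g * Y) - g * Y * T
          rw [hT, sub_mul, one_mul, mul_sub, mul_one, mul_assoc g Y X, hYX, mul_one]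
          abel
        have hTY : Commute T Y := by
          show (X - 1) * Y = Y * (X - 1)
          rw [sub_mul, mul_sub, hXY, hYX, one_mul, mul_one]
        have hc1 : Commute (L - R') RY := (LinearMap.commute_mulLeft_right T Y).sub_left
          (LinearMap.ext fun g => by
            show (g * Y) * T = (g * T) * Y
            rw [mul_assoc, mul_assoc, hTY.eq])
        have h1 : ∑ i ∈ range N, W ^ i = (W - 1) ^ (N - 1) := by
          rw [hn, ← sum_pow_mul_pow p n (Commute.one_right W)]
          simp
        have h2 : (L - R') ^ (N - 1) = ∑ i ∈ range N, L ^ i * R' ^ (N - 1 - i) := by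
          rw [hn, sum_pow_mul_pow p n (LinearMap.commute_mulLeft_right T T)]
        have h3 := congrArg (fun F : Module.End K (Module.End K V) => F (M φ))
          (h1.trans ((congrArg (· ^ (N - 1)) hW).trans (hc1.mul_pow (N - 1))))
        rw [h2] at h3
        simp only [LinearMap.sum_apply, Module.End.mul_apply, W, L, R', RY,
          (LinearMap.commute_mulLeft_right X Y).mul_pow, LinearMap.pow_mulLeft, LinearMap.pow_mulRight,
          LinearMap.mulLeft_apply, LinearMap.mulRight_apply] at h3
        refine ((sum_congr rfl fun i _ => ?_).trans h3).trans (sum_congr rfl fun i _ => ?_)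
        · rw [hfix', hAd, ← inv_pow, map_pow, map_pow, ← hX, ← hY, mul_assoc]
        · simp only [mul_assoc]
      rw [← hP, sub_add_cancel]
    obtain ⟨hsN1, hdim⟩ := jordan_block hT0 hs hmin hlt hdec
    refine ⟨hsN1, ?_, ?_⟩
    · have hc := Module.finrank_eq_nat_card_basis bb
      rw [Module.finrank_linearMap, hdim] at hc
      obtain ⟨m, hm⟩ := IsPGroup.iff_card.1 (hQ.map f : IsPGroup q Qb)
      rw [hm] at hc
      obtain ⟨b, -, hb⟩ := (Nat.dvd_prime_pow Fact.out).1 (hc ▸ dvd_mul_right s s : s ∣ q ^ m)
      exact ⟨b, hb⟩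
    · intro hcom
      have hQc : Q ≤ center G := fun g hg => hcenQ g fun h hh =>
        congrArg Subtype.val (hcom.is_comm.comm (⟨g, hg⟩ : Q) ⟨h, hh⟩)
      have hxc : x ∈ center G := hcenQ x fun h hh => mem_center_iff.1 (hQc hh) x
      obtain ⟨c, hc⟩ := hcenscal x hxc
      have hcN : c ^ N = 1 := by
        have : (c • (1 : Module.End K V)) ^ N = 1 := by rw [← hc, ← map_pow, hxN, map_one]
        rw [smul_pow, one_pow] at this
        by_contra hne
        exact h1ne ((smul_eq_zero.1 (show (c ^ N - 1) • (1 : Module.End K V) = 0 by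
          rw [sub_smul, this, one_smul, sub_self])).resolve_left (sub_ne_zero.2 hne))
      have hc1 : c = 1 := by
        have h := sub_pow_char_pow (R := K) c 1 (n := n) (p := p)
        rw [one_pow, ← hn, hcN, sub_self] at h
        exact sub_eq_zero.1 (eq_zero_of_pow_eq_zero h)
      exact hT0 (by rw [hT, hX, hc, hc1, one_smul, sub_self])

end Cfsg.Agent.S4282
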