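import Cfsg.Statements.S3776
import Cfsg.Agent.Recog.SuzukiSolvable.Higman
import Cfsg.Agent.Solvable.PGroupBasic
-- import your own Cfsg.Agent.* helpers here

set_option autoImplicit false
open Cfsg
open scoped commutatorElement

namespace Cfsg.Agent.S3776

/-- Let G be a finite non-abelian 2-group with more than one involution admitting a solvable group of automorphisms that permutes its involutions transitively. Then the derived subgroup, the Frattini subgroup and the centre of G coincide and consist exactly of the elements x with x² = 1. -/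
theorem result {G : Type*} [Group G] [Finite G] (hG : IsPGroup 2 G) (hna : ¬ IsMulCommutative G) (htwo : ∃ x y : G, x ≠ y ∧ x ≠ 1 ∧ x ^ 2 = 1 ∧ y ≠ 1 ∧ y ^ 2 = 1) (hY : ∃ Y : Subgroup (MulAut G), Group.IsSolvable Y ∧ ∀ x y : G, x ≠ 1 → x ^ 2 = 1 → y ≠ 1 → y ^ 2 = 1 → ∃ a ∈ Y, a x = y) : commutator G = frattini G ∧ frattini G = Subgroup.center G ∧ ∀ x : G, x ∈ Subgroup.center G ↔ x ^ 2 = 1 := by
  classical
  open CfsgLib.Recog.SuzukiSolv in
    obtain ⟨Y, hYs, hYt⟩ := hY
    have hα : Trans Y := ⟨hYs, fun x y hx hx2 hy hy2 =>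
      hYt x y hx (by rw [sq]; exact hx2) hy (by rw [sq]; exact hy2)⟩
    obtain ⟨x0, y0, hxy0, hx0, hx02, hy0, hy02⟩ := htwo
    rw [sq] at hx02 hy02
    have h2 : ∃ x y : G, x ≠ y ∧ x ≠ 1 ∧ x * x = 1 ∧ y ≠ 1 ∧ y * y = 1 :=
      ⟨x0, y0, hxy0, hx0, hx02, hy0, hy02⟩
    have hne : ∃ a b : G, a * b ≠ b * a := by
      by_contra h
      push Not at h
      exact hna ⟨⟨h⟩⟩
    have hiff : ∀ x : G, x ∈ Subgroup.center G ↔ x ^ 2 = 1 := fun x => by
      rw [sq]; exact center_iff hG hα hne
    have hsq := sq_central hG hα hne h2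
    have hcomm := comm_central hG hα hne h2
    have hGc : commutator G ≤ Subgroup.center G := by
      rw [commutator_def, Subgroup.commutator_le]
      exact fun a _ b _ => hcomm a b
    have hcG : Subgroup.center G ≤ commutator G := by
      intro t ht
      by_cases ht1 : t = 1
      · rw [ht1]; exact one_mem _
      obtain ⟨a, b, hab⟩ := hne
      have hc1 : ⁅a, b⁆ ≠ 1 := fun h => hab (commutatorElement_eq_one_iff_mul_comm.1 h)
      obtain ⟨g, -, hg⟩ := hα.2 ⁅a, b⁆ t hc1 (by rw [← sq]; exact (hiff _).1 (hcomm a b)) ht1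
        (by rw [← sq]; exact (hiff t).1 ht)
      rw [← hg, map_commutatorElement]
      exact Subgroup.commutator_mem_commutator (Subgroup.mem_top _) (Subgroup.mem_top _)
    have hFc : frattini G ≤ Subgroup.center G := by
      intro x hx
      by_contra hxc
      obtain ⟨M, ⟨hcM, hxM⟩, hmax⟩ := (Set.toFinite {M : Subgroup G | Subgroup.center G ≤ M ∧ x ∉ M}).exists_maximal
        ⟨_, le_rfl, hxc⟩
      refine hxM (frattini_le_coatom ⟨fun h => hxM (by rw [h]; exact Subgroup.mem_top x), fun H hH => ?_⟩ hx)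
      have hxH : x ∈ H := by
        by_contra h
        exact hH.not_ge (hmax ⟨hcM.trans hH.le, h⟩ hH.le)
      have hMn : ∀ m ∈ M, ∀ y : G, y * m * y⁻¹ ∈ M := fun m hm y => by
        rw [show y * m * y⁻¹ = ⁅y, m⁆ * m by simp [commutatorElement_def]]
        exact mul_mem (hcM (hcomm y m)) hm
      refine eq_top_iff.2 fun y _ => ?_
      by_cases hyM : y ∈ M
      · exact hH.le hyM
      let K : Subgroup G :=
        { carrier := {g | g ∈ M ∨ g * y⁻¹ ∈ M}
          one_mem' := Or.inl (one_mem M)
          mul_mem' := by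
            rintro u v (hu | hu) (hv | hv)
            · exact Or.inl (mul_mem hu hv)
            · refine Or.inr ?_
              rw [mul_assoc]; exact mul_mem hu hv
            · refine Or.inr ?_
              rw [show u * v * y⁻¹ = (u * y⁻¹) * (y * v * y⁻¹) by group]
              exact mul_mem hu (hMn v hv y)
            · refine Or.inl ?_
              rw [show u * v = (u * y⁻¹) * (y * (v * y⁻¹) * y⁻¹) * (y * y) by group]
              exact mul_mem (mul_mem hu (hMn _ hv y)) (hcM (hsq y))
          inv_mem' := by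
            rintro u (hu | hu)
            · exact Or.inl (inv_mem hu)
            · refine Or.inr ?_
              rw [show u⁻¹ * y⁻¹ = y⁻¹ * (u * y⁻¹)⁻¹ * y⁻¹⁻¹ * (y * y)⁻¹ by group]
              exact mul_mem (hMn _ (inv_mem hu) _) (inv_mem (hcM (hsq y))) }
      have hMK : M ≤ K := fun m hm => Or.inl hm
      have hxK : x ∈ K := by
        by_contra h
        exact hyM ((hmax ⟨hcM.trans hMK, h⟩ hMK) (show y ∈ K from Or.inr (by simp)))
      rcases hxK with h | h
      · exact absurd h hxM
      · rw [show y = (x * y⁻¹)⁻¹ * x by group]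
        exact mul_mem (inv_mem (hH.le h)) hxH
    haveI : Fact (Nat.Prime 2) := ⟨Nat.prime_two⟩
    have hcF : commutator G ≤ frattini G := (CfsgLib.PGroupBasic.commutator_pow_le_frattini hG).1
    exact ⟨le_antisymm hcF (hFc.trans hcG), le_antisymm hFc (hcG.trans hcF), hiff⟩

end Cfsg.Agent.S3776
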