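import Cfsg.Statements.S2126
import Cfsg.Agent.Suzuki.Automorphisms
import Cfsg.Agent.Suzuki.LieModel

set_option autoImplicit false
open Cfsg

namespace Cfsg.Agent.S2126

/-- Outer automorphisms of the Suzuki groups: for q = 2^(2m+1) with m ≥ 1 the outer automorphism group of Sz(q) has order 2m + 1 (field automorphisms only). -/
theorem result {F : Type*} [Field F] [Fintype F] {m : ℕ} (hm : 1 ≤ m) (hF : Fintype.card F = 2 ^ (2 * m + 1)) : Nat.card (Cfsg.Out ↥(Cfsg.Lie.Sz F (2 ^ (m + 1)))) = 2 * m + 1 := by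
  have h := CfsgLib.Suzuki.isSzField_of_card hm hF
  have hc : Nat.card (RingAut F) = 2 * m + 1 := CfsgLib.Suzuki.card_ringAut h
  rw [← hc]
  let e := (CfsgLib.Suzuki.lieEquiv h).symm
  let L := ↥(Cfsg.Lie.Sz F (2 ^ (m + 1)))
  let lift : RingAut F → MulAut L := fun θ =>
    e.trans ((CfsgLib.Suzuki.fieldAut h θ).trans e.symm)
  refine (Nat.card_congr (Equiv.ofBijective
    (fun θ => (QuotientGroup.mk (lift θ) : Cfsg.Out L)) ⟨?_, ?_⟩)).symm
  · intro θ θ' he
    obtain ⟨c, hc'⟩ := QuotientGroup.eq.1 he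
    refine (CfsgLib.Suzuki.fieldAut_inner_unique h (θ := θ) (θ' := θ')
      (c := CfsgLib.Suzuki.fieldAut h θ (e c)) fun g => ?_).symm
    have h1 := congrArg (fun φ : MulAut L => lift θ (φ (e.symm g))) hc'
    simp only [MulAut.mul_apply, MulAut.apply_inv_self, MulAut.conj_apply] at h1
    have h2 := congrArg e h1
    simp only [lift, MulEquiv.trans_apply, MulEquiv.apply_symm_apply, map_mul, map_inv] at h2
    exact h2.symm
  · intro x
    obtain ⟨α, rfl⟩ := QuotientGroup.mk_surjective x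
    obtain ⟨θ, c, hα⟩ := CfsgLib.Suzuki.aut_eq_inner_field h (e.symm.trans (α.trans e))
    refine ⟨θ, ?_⟩
    refine (QuotientGroup.eq.2 ⟨(lift θ).symm (e.symm c), ?_⟩)
    apply MulEquiv.ext
    intro y
    rw [MulAut.mul_apply, MulAut.conj_apply]
    refine (lift θ).injective ?_
    rw [map_mul, map_mul, map_inv, MulEquiv.apply_symm_apply, MulAut.apply_inv_self]
    have h3 := congrArg e.symm (hα (e y))
    simp only [MulEquiv.trans_apply, MulEquiv.symm_apply_apply, map_mul, map_inv] at h3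
    rw [h3]
    rfl

end Cfsg.Agent.S2126
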