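import Cfsg.Statements.S3305
import Mathlib

set_option autoImplicit false
open Cfsg

namespace Cfsg.Agent.S3305

theorem exists_lift {G : Type*} [Group G] [Finite G] (H : Subgroup G) [H.Normal]
    (S : Sylow 2 (G ⧸ H)) (R : Subgroup G) (hR : IsPGroup 2 R)
    (hle : R.map (QuotientGroup.mk' H) ≤ (S : Subgroup (G ⧸ H))) :
    ∃ P : Sylow 2 G, R ≤ (P : Subgroup G) ∧
      (P : Subgroup G).map (QuotientGroup.mk' H) = (S : Subgroup (G ⧸ H)) := by
  haveI : Fact (Nat.Prime 2) := ⟨Nat.prime_two⟩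
  set π := QuotientGroup.mk' H
  obtain ⟨P₀, hP₀⟩ := Sylow.mapSurjective_surjective (QuotientGroup.mk'_surjective H) 2 S
  have hP₀' : (P₀ : Subgroup G).map π = (S : Subgroup (G ⧸ H)) := by
    rw [← hP₀]; rfl
  set K := (S : Subgroup (G ⧸ H)).comap π with hK
  have hRK : R ≤ K := Subgroup.map_le_iff_le_comap.mp hle
  have hPK : (P₀ : Subgroup G) ≤ K := Subgroup.map_le_iff_le_comap.mp hP₀'.le
  obtain ⟨Q, hQ⟩ := (hR.comap_of_injective K.subtype K.subtype_injective).exists_le_sylow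
  obtain ⟨k, hk⟩ := MulAction.exists_smul_eq K (P₀.subtype hPK) Q
  refine ⟨(k : G) • P₀, fun r hr => ?_, ?_⟩
  · have h1 : (⟨r, hRK hr⟩ : K) ∈ (Q : Subgroup K) := hQ (show r ∈ R from hr)
    rw [← hk, Sylow.coe_subgroup_smul] at h1
    obtain ⟨y, hy, hye⟩ := Subgroup.mem_map.mp h1
    rw [Sylow.coe_subgroup_smul]
    exact Subgroup.mem_map.mpr ⟨y.1, hy, congrArg Subtype.val hye⟩
  · rw [Sylow.coe_subgroup_smul]
    refine le_antisymm ?_ ?_
    · rintro _ ⟨_, ⟨y, hy, rfl⟩, rfl⟩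
      have h1 : π y ∈ (S : Subgroup (G ⧸ H)) := hPK hy
      have h2 : π (k : G) ∈ (S : Subgroup (G ⧸ H)) := k.2
      simp only [MulDistribMulAction.toMonoidEnd_apply, MulDistribMulAction.toMonoidHom_apply,
        MulAut.smul_def, MulAut.conj_apply, map_mul, map_inv]
      exact mul_mem (mul_mem h2 h1) (inv_mem h2)
    · intro x hx
      have h2 : π (k : G) ∈ (S : Subgroup (G ⧸ H)) := k.2
      obtain ⟨y, hy, hye⟩ := hP₀'.ge (mul_mem (mul_mem (inv_mem h2) hx) h2)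
      refine ⟨(k : G) * y * (k : G)⁻¹, Subgroup.mem_map.mpr ⟨y, hy, rfl⟩, ?_⟩
      rw [map_mul, map_mul, map_inv, hye]
      group

/-- If any two distinct Sylow 2-subgroups of the finite group G intersect in a cyclic group, then the same holds in every quotient group G/H, H a normal subgroup of G. -/
theorem result {G : Type*} [Group G] [Finite G]
    (hC : ∀ S T : Sylow 2 G, S ≠ T → IsCyclic ↥((S : Subgroup G) ⊓ (T : Subgroup G))) (H : Subgroup G) [H.Normal] :
    ∀ S T : Sylow 2 (G ⧸ H), S ≠ T → IsCyclic ↥((S : Subgroup (G ⧸ H)) ⊓ (T : Subgroup (G ⧸ H))) := by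
  intro S T hST
  haveI : Fact (Nat.Prime 2) := ⟨Nat.prime_two⟩
  set π := QuotientGroup.mk' H with hπ
  set I := (S : Subgroup (G ⧸ H)) ⊓ (T : Subgroup (G ⧸ H)) with hI
  set K := I.comap π with hK
  obtain ⟨R⟩ : Nonempty (Sylow 2 K) := Sylow.nonempty
  set g : K →* I := π.subgroupComap I with hg
  have hgs : Function.Surjective g := by
    rintro ⟨x, hx⟩
    obtain ⟨y, rfl⟩ := QuotientGroup.mk'_surjective H x
    exact ⟨⟨y, hx⟩, rfl⟩
  have hIp : IsPGroup 2 I := S.isPGroup'.to_le inf_le_left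
  have htop : (R : Subgroup K).map g = ⊤ :=
    le_antisymm le_top ((R.mapSurjective hgs).3 (hIp.to_subgroup ⊤) le_top).le
  set R' := (R : Subgroup K).map K.subtype with hR'
  have hR'p : IsPGroup 2 R' := R.isPGroup'.map _
  have hle : R'.map π ≤ I := by
    rintro _ ⟨_, ⟨y, -, rfl⟩, rfl⟩
    exact y.2
  obtain ⟨P, hP, hPS⟩ := exists_lift H S R' hR'p (hle.trans inf_le_left)
  obtain ⟨Q, hQ, hQT⟩ := exists_lift H T R' hR'p (hle.trans inf_le_right)
  have hPQ : P ≠ Q := fun h => hST (Sylow.ext (by rw [← hPS, ← hQT, h]))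
  haveI := hC P Q hPQ
  haveI : IsCyclic R' := isCyclic_of_injective (Subgroup.inclusion (le_inf hP hQ))
    (Subgroup.inclusion_injective _)
  let f : R' →* I := (π.comp R'.subtype).codRestrict I fun x => hle ⟨x, x.2, rfl⟩
  refine isCyclic_of_surjective f ?_
  intro x
  obtain ⟨y, hy, hyx⟩ := htop.ge (Subgroup.mem_top x)
  exact ⟨⟨y, ⟨y, hy, rfl⟩⟩, Subtype.ext (congrArg Subtype.val hyx)⟩

end Cfsg.Agent.S3305
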