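import Cfsg.Statements.S4493
import Cfsg.Agent.Char.DegreesPrime
import Cfsg.Agent.Char.TwoDegrees
import Cfsg.Agent.Char.Inflation
import Cfsg.Agent.Char.CoprimeComplement
import Cfsg.Agent.Char.DegreeRatio
import Cfsg.Agent.Solvable.Basics

set_option autoImplicit false
set_option linter.style.haveILetI false
open Cfsg

namespace Cfsg.Agent.S4493

open CfsgLib.Char
open scoped commutatorElement

universe u

/-- A group all of whose irreducible characters are linear is abelian. -/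
theorem comm_of_linear {A : Type u} [Group A] [Finite A]
    (h : ∀ χ : A → ℂ, Cfsg.IsIrrCharacter A χ → χ 1 = 1) (x y : A) : x * y = y * x := by
  classical
  haveI := Fintype.ofFinite A
  rw [← commutatorElement_eq_one_iff_mul_comm]
  by_contra hne
  have h1 := congrFun (leftRegular_eq_sum (G := A)) ⁅x, y⁆
  rw [leftRegular_character, if_neg hne, Finset.sum_apply,
    Finset.sum_congr rfl (g := fun χ => χ 1 ^ 2) fun χ hχ => by
      obtain ⟨lam, rfl⟩ := IsCharacter.exists_hom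
        (IsIrrCharacter.isCharacter (mem_irrFinset.1 hχ)) (h χ (mem_irrFinset.1 hχ))
      rw [Pi.smul_apply, map_commutatorElement,
        commutatorElement_eq_one_iff_commute.2 (Commute.all _ _)]
      simp, sum_degree_sq] at h1
  exact Nat.cast_ne_zero.2 Nat.card_pos.ne' h1.symm

/-- The backward direction. -/
theorem exists_sylow {p : ℕ} [Fact p.Prime] (n : ℕ) :
    ∀ (G : Type u) [Group G] [Finite G], Nat.card G = n → Group.IsSolvable G →
      (∀ χ : G → ℂ, Cfsg.IsIrrCharacter G χ → ∀ m : ℕ, χ 1 = m → ¬ p ∣ m) →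
      ∃ P : Subgroup G, P.Normal ∧ (∀ x ∈ P, ∀ y ∈ P, x * y = y * x) ∧ IsPGroup p P ∧
        ¬ p ∣ P.index := by
  classical
  induction n using Nat.strong_induction_on with | _ n ih => ?_
  intro G _ _ hn hsolv hdeg
  haveI := Fintype.ofFinite G
  have hp : p.Prime := Fact.out
  suffices h : ∃ P : Subgroup G, P.Normal ∧ IsPGroup p P ∧ ¬ p ∣ P.index by
    obtain ⟨P, hP, hPp, hPi⟩ := h
    refine ⟨P, hP, fun x hx y hy => ?_, hPp, hPi⟩
    haveI := hP
    haveI := Fintype.ofFinite P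
    refine congrArg Subtype.val (comm_of_linear (A := P) (fun θ hθ => ?_) ⟨x, hx⟩ ⟨y, hy⟩)
    obtain ⟨d, -, hd⟩ := IsIrrCharacter.exists_degree hθ
    obtain ⟨f, hf, hfc⟩ := DegreesPrime.exists_over P hθ
    obtain ⟨m, -, hm⟩ := IsIrrCharacter.exists_degree hf
    obtain ⟨k, hk⟩ := IsPGroup.iff_card.1 hPp
    obtain ⟨j, -, rfl⟩ := (Nat.dvd_prime_pow hp).1 (hk ▸ IsIrrCharacter.degree_dvd_card hθ hd)
    rcases Nat.eq_zero_or_pos j with rfl | hj
    · simpa using hd
    · exact absurd ((dvd_pow_self p hj.ne').trans (TwoDegrees.degree_dvd hf hθ hfc hm hd))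
        (hdeg f hf m hm)
  by_cases htriv : (⊤ : Subgroup G) = ⊥
  · refine ⟨⊤, inferInstance, ?_, by simp [hp.ne_one]⟩
    rw [htriv]
    exact IsPGroup.of_bot
  obtain ⟨N, hN, hN1, -, hNc, -, q, hq, -, hNq⟩ :=
    CfsgLib.Solvable.exists_normal_elementary_le (N := (⊤ : Subgroup G)) htriv inferInstance
  haveI := hN
  haveI := Fintype.ofFinite N
  have hlt : Nat.card (G ⧸ N) < n := by
    rw [← hn, ← Subgroup.index_eq_card, ← N.card_mul_index]
    exact lt_mul_left (Nat.pos_of_ne_zero Subgroup.index_ne_zero_of_finite)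
      ((N.one_lt_card_iff_ne_bot).2 hN1)
  obtain ⟨Q, hQn, -, hQp, hQi⟩ := ih _ hlt (G ⧸ N) rfl inferInstance fun σ hσ m hm =>
    hdeg _ (IsIrrCharacter.inflate N hσ) m (by rw [← hm]; simp [CfsgLib.Char.inflate])
  obtain ⟨H, hH⟩ : ∃ H, Q.comap (QuotientGroup.mk' N) = H := ⟨_, rfl⟩
  haveI : H.Normal := hH ▸ hQn.comap _
  haveI := Fintype.ofFinite H
  have hHi : ¬ p ∣ H.index := by
    rwa [← hH, Subgroup.index_comap_of_surjective _ (QuotientGroup.mk'_surjective N)]
  have hNH : N ≤ H := hH ▸ fun x hx => by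
    rw [Subgroup.mem_comap, QuotientGroup.mk'_apply, (QuotientGroup.eq_one_iff x).2 hx]
    exact one_mem Q
  have hrel : ∃ k, N.relIndex H = p ^ k := by
    obtain ⟨k, hk⟩ := IsPGroup.iff_card.1 hQp
    refine ⟨k, ?_⟩
    rw [← hk, ← Subgroup.map_comap_eq_self_of_surjective (QuotientGroup.mk'_surjective N) Q, hH,
      ← Subgroup.relIndex_ker, QuotientGroup.ker_mk']
  obtain ⟨k, hk⟩ := hrel
  by_cases hqp : q = p
  · subst hqp
    obtain ⟨a, ha⟩ := IsPGroup.iff_card.1 hNq
    refine ⟨H, inferInstance, IsPGroup.of_card (n := a + k) ?_, hHi⟩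
    rw [← Subgroup.relIndex_bot_left H, ← Subgroup.relIndex_mul_relIndex ⊥ N H bot_le hNH,
      Subgroup.relIndex_bot_left, hk, ha, pow_add]
  -- the subgroup `N` is central in `H`
  have hab : ∀ a ∈ N, ∀ b ∈ N, a * b = b * a := fun a ha b hb =>
    congrArg Subtype.val (hNc.is_comm.comm ⟨a, ha⟩ ⟨b, hb⟩)
  obtain ⟨N', hN'⟩ : ∃ N', N.subgroupOf H = N' := ⟨_, rfl⟩
  haveI : N'.Normal := hN' ▸ Subgroup.normal_subgroupOf
  haveI := Fintype.ofFinite N'
  have hN'mem : ∀ x : H, x ∈ N' ↔ (x : G) ∈ N := fun x => by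
    rw [← hN', Subgroup.mem_subgroupOf]
  have hcentral : ∀ h : H, ∀ m : N', (h : G) * ((m : H) : G) = ((m : H) : G) * h := by
    intro h m
    have hab' : ∀ a ∈ N', ∀ b ∈ N', a * b = b * a := fun a ha b hb =>
      Subtype.ext (hab _ ((hN'mem a).1 ha) _ ((hN'mem b).1 hb))
    have key : ∀ l : N' →* ℂˣ,
        l ⟨h * m * h⁻¹, Subgroup.Normal.conj_mem inferInstance _ m.2 h⟩ = l m := by
      intro l
      obtain ⟨f, hf, hfc⟩ := DegreesPrime.exists_over N' (isIrrCharacter_ofHom l)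
      obtain ⟨d, -, hd⟩ := IsIrrCharacter.exists_degree hf
      obtain ⟨F, hF, hFc⟩ := DegreesPrime.exists_over H hf
      obtain ⟨D, -, hD⟩ := IsIrrCharacter.exists_degree hF
      have hpd : ¬ p ∣ d := fun hpd =>
        hdeg F hF D hD (hpd.trans (TwoDegrees.degree_dvd hF hf hFc hD hd))
      have h1 := DegreesPrime.index_inertia_dvd hf l hfc hd
      have h2 : (inertia (G := H) fun n : N' => (l n : ℂ)).index ∣ p ^ k := by
        rw [← hk]
        change _ ∣ (N.subgroupOf H).index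
        rw [hN']
        exact Subgroup.index_dvd_of_le
          (le_inertia (IsIrrCharacter.isClassFunction (isIrrCharacter_ofHom l)))
      obtain ⟨j, -, hj⟩ := (Nat.dvd_prime_pow hp).1 h2
      have h3 : (inertia (G := H) fun n : N' => (l n : ℂ)) = ⊤ := by
        rw [← Subgroup.index_eq_one, hj]
        rcases Nat.eq_zero_or_pos j with rfl | hj0
        · rfl
        · exact absurd ((dvd_pow_self p hj0.ne').trans (hj ▸ h1)) hpd
      have h4 := congrFun ((mem_inertia _ h).1 (h3 ▸ Subgroup.mem_top h)) m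
      exact Units.ext h4
    have h5 : ((h * m * h⁻¹ : H) : G) = ((m : H) : G) :=
      congrArg (fun z : N' => ((z : H) : G)) (DegreesPrime.separate N' hab' key)
    simp only [Subgroup.coe_mul, Subgroup.coe_inv] at h5
    exact mul_inv_eq_iff_eq_mul.1 h5
  have hpN : ¬ p ∣ Nat.card N := fun hd => by
    haveI := Fact.mk hq
    obtain ⟨a, ha⟩ := (IsPGroup.iff_card (p := q)).1 (hNq)
    haveI := Fact.mk hq
    exact hqp ((Nat.prime_dvd_prime_iff_eq hp hq).1 (hp.dvd_of_dvd_pow (ha ▸ hd))).symm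
  obtain ⟨S⟩ : Nonempty (Sylow p G) := inferInstance
  have hSH : (S : Subgroup G) ≤ H := by
    have h1 : H.relIndex S = 1 := by
      obtain ⟨a, ha⟩ := IsPGroup.iff_card.1 S.2
      obtain ⟨j, -, hj⟩ := (Nat.dvd_prime_pow hp).1
        (ha ▸ Subgroup.index_dvd_card (H.subgroupOf (S : Subgroup G)))
      rcases Nat.eq_zero_or_pos j with rfl | hj0
      · exact hj
      · refine absurd ?_ hHi
        refine (dvd_pow_self p hj0.ne').trans ?_
        rw [← hj]
        exact Subgroup.relIndex_dvd_index_of_normal H (S : Subgroup G)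
    exact Subgroup.relIndex_eq_one.1 h1
  -- `H` is the product of `N` and `S`
  have hHle : H ≤ N ⊔ (S : Subgroup G) := by
    refine Subgroup.relIndex_eq_one.1 (Nat.eq_one_of_dvd_coprimes ?_
      (Subgroup.relIndex_dvd_of_le_left H le_sup_left) (Subgroup.relIndex_dvd_of_le_left H le_sup_right))
    rw [hk]
    refine Nat.Coprime.pow_left k (hp.coprime_iff_not_dvd.2 fun hd => S.not_dvd_index ?_)
    rw [← Subgroup.relIndex_mul_index hSH]
    exact hd.mul_right _
  refine ⟨S, ⟨fun x hx g => ?_⟩, S.2, S.not_dvd_index⟩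
  obtain ⟨m, hm, y, hy, hmy⟩ := Subgroup.mem_sup_of_normal_left.1
    (hHle (Subgroup.Normal.conj_mem inferInstance x (hSH hx) g))
  have hcm : Commute m y := (hcentral ⟨y, hSH hy⟩
    ⟨⟨m, hNH hm⟩, (hN'mem _).2 hm⟩).symm
  obtain ⟨a, ha⟩ := IsPGroup.iff_card.1 S.2
  have hpow : ∀ z ∈ (S : Subgroup G), z ^ p ^ a = 1 := fun z hz => by
    rw [← ha, ← orderOf_dvd_iff_pow_eq_one]
    exact Subgroup.orderOf_dvd_natCard _ hz
  have h1 : m ^ p ^ a = 1 := by
    have h2 : (g * x * g⁻¹) ^ p ^ a = 1 := by rw [conj_pow, hpow x hx, mul_one, mul_inv_cancel]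
    rwa [← hmy, hcm.mul_pow, hpow y hy, mul_one] at h2
  have h3 : m = 1 := orderOf_eq_one_iff.1 (Nat.eq_one_of_dvd_coprimes
    ((hp.coprime_iff_not_dvd.2 hpN).pow_left a) (orderOf_dvd_of_pow_eq_one h1)
    (Subgroup.orderOf_dvd_natCard _ hm))
  rw [← hmy, h3, one_mul]
  exact hy

/-- Let G be a finite solvable group and p a prime. Then G has a normal abelian Sylow p-subgroup if and only if no irreducible character degree of G is divisible by p. -/
theorem result {G : Type*} [Group G] [Finite G] (hsolv : Group.IsSolvable G) (p : ℕ) (hp : p.Prime) : (∃ P : Subgroup G, P.Normal ∧ (∀ x ∈ P, ∀ y ∈ P, x * y = y * x) ∧ IsPGroup p P ∧ ¬ p ∣ P.index) ↔ ∀ χ : Cfsg.IrrCharacter G, ¬ p ∣ Cfsg.charDegree (χ : G → ℂ) := by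
  haveI := Fintype.ofFinite G
  haveI := Fact.mk hp
  constructor
  · rintro ⟨P, hP, hab, -, hPi⟩ χ hd
    obtain ⟨V, ρ, hρ, hχ⟩ := χ.2
    haveI := hP
    haveI := hρ
    have h := finrank_dvd_index_of_abelian ρ P hab
    refine hPi ((dvd_trans ?_ h))
    rw [Cfsg.charDegree, ← hχ, ρ.char_one, Complex.natCast_re, Nat.floor_natCast] at hd
    exact hd
  · intro hdeg
    exact exists_sylow _ G rfl hsolv fun χ hχ m hm hd =>
      hdeg ⟨χ, hχ⟩ (by rwa [charDegree_eq_natCast hm])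

end Cfsg.Agent.S4493
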