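import Cfsg.Statements.S0542
import Cfsg.Agent.Solvable.Basics
import Mathlib.GroupTheory.IsSubnormal

set_option autoImplicit false
set_option linter.deprecated false
set_option linter.style.haveILetI false
set_option linter.unusedVariables false
open Cfsg
open scoped Pointwise

namespace Cfsg.Agent.S0542

/-- A Sylow p-subgroup of a finite group meets every subnormal subgroup H in a Sylow p-subgroup of H. -/
theorem result {G : Type*} [Group G] [Finite G] (p : ℕ) [Fact p.Prime] (H : Subgroup G) (hH : H.IsSubnormal) (S : Sylow p G) : ∃ Q : Sylow p H, (Q : Subgroup H) = (S : Subgroup G).subgroupOf H := by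
  have key : ¬ p ∣ ((S : Subgroup G) ⊓ H).relIndex H := by
    induction hH with
    | top =>
      rw [inf_top_eq, Subgroup.relIndex_top_right]
      exact S.not_dvd_index
    | step H K hle hK hN ih =>
      intro hd
      apply ih
      set Q := (S : Subgroup G) ⊓ K with hQ
      have hD : Q ⊓ H = (S : Subgroup G) ⊓ H := by
        rw [hQ, inf_assoc, inf_eq_right.2 hle]
      have hn : Q ≤ Subgroup.normalizer (H : Set G) :=
        (inf_le_right : Q ≤ K).trans ((Subgroup.normal_subgroupOf_iff_le_normalizer hle).1 hN)
      have h1 := CfsgLib.Solvable.card_sup_mul_card_inf hn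
      rw [hD] at h1
      have h2 := Subgroup.card_mul_index (((S : Subgroup G) ⊓ H).subgroupOf H)
      rw [Nat.card_congr (Subgroup.subgroupOfEquivOfLe inf_le_right).toEquiv] at h2
      have h3 := Subgroup.card_mul_index (Q.subgroupOf K)
      rw [Nat.card_congr (Subgroup.subgroupOfEquivOfLe inf_le_right).toEquiv] at h3
      have h4 : Nat.card ↥(Q ⊔ H) ∣ Nat.card K :=
        Subgroup.card_dvd_of_le (sup_le inf_le_right hle)
      change p ∣ (Q.subgroupOf K).index
      change p ∣ (((S : Subgroup G) ⊓ H).subgroupOf H).index at hd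
      refine dvd_trans hd ?_
      have h5 : Nat.card ↥(Q ⊔ H) = Nat.card Q * (((S : Subgroup G) ⊓ H).subgroupOf H).index := by
        apply Nat.eq_of_mul_eq_mul_right (Nat.card_pos (α := ↥((S : Subgroup G) ⊓ H)))
        rw [h1, ← h2]; ring
      rw [h5, ← h3] at h4
      exact Nat.dvd_of_mul_dvd_mul_left Nat.card_pos h4
  have hpg : IsPGroup p ↥((S : Subgroup G).subgroupOf H) := S.isPGroup'.comap_subtype
  refine ⟨hpg.toSylow ?_, rfl⟩
  rw [Subgroup.relIndex, Subgroup.inf_subgroupOf_right] at key
  exact key


end Cfsg.Agent.S0542
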