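import Cfsg.Statements.S3028
import Cfsg.Agent.S0542
import Cfsg.Agent.PLocal.SubnormalJoin
import Cfsg.Agent.Solvable.Zipper
import Cfsg.Agent.Solvable.Gaschutz
import Cfsg.Agent.LocalB.SylowControl

set_option autoImplicit false
set_option linter.unusedVariables false
open Cfsg

namespace Cfsg.Agent.S3028

set_option linter.style.haveILetI false
open scoped Pointwise
open Subgroup CfsgLib.LocalB

universe u

theorem mem_smul' {G : Type*} [Group G] {H : Subgroup G} {g x : G} :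
    x ∈ MulAut.conj g • H ↔ g⁻¹ * x * g ∈ H := CfsgLib.SZ.mem_conj_smul

theorem sylow_inf {G : Type*} [Group G] [Finite G] {p : ℕ} [Fact p.Prime] (S : Sylow p G) {A : Subgroup G}
    (hA : A.IsSubnormal) : ∃ Q : Sylow p A, (Q : Subgroup A).map A.subtype = A ⊓ (S : Subgroup G) := by
  obtain ⟨Q, hQ⟩ := Cfsg.Agent.S0542.result p A hA S
  exact ⟨Q, by rw [hQ, subgroupOf_map_subtype, inf_comm]⟩

theorem main {p : ℕ} [Fact p.Prime] (n : ℕ) : ∀ (G : Type u) [Group G] [Finite G], Nat.card G = n →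
    ∀ (S : Sylow p G) (A B : Subgroup G), A.IsSubnormal → B.IsSubnormal → A ⊔ B = ⊤ →
      (S : Subgroup G) ≤ (A ⊓ (S : Subgroup G)) ⊔ (B ⊓ (S : Subgroup G)) := by
  have hpr : p.Prime := Fact.out
  induction n using Nat.strong_induction_on with | _ n ih => ?_
  intro G _ _ hn S A B hA hB hAB
  subst hn
  set T := (A ⊓ (S : Subgroup G)) ⊔ (B ⊓ (S : Subgroup G)) with hT
  have hTS : T ≤ (S : Subgroup G) := sup_le inf_le_right inf_le_right
  -- the statement inside proper subgroups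
  have join2 : ∀ X Y : Subgroup G, X.IsSubnormal → Y.IsSubnormal → X ⊔ Y ≠ ⊤ →
      (X ⊔ Y) ⊓ (S : Subgroup G) ≤ (X ⊓ (S : Subgroup G)) ⊔ (Y ⊓ (S : Subgroup G)) := by
    intro X Y hX hY hne
    set J := X ⊔ Y with hJ
    have hJs : J.IsSubnormal := CfsgLib.SubnormalJoin.isSubnormal_sup hX hY
    obtain ⟨Q, hQ⟩ := sylow_inf S hJs
    have hXJ : X ≤ J := le_sup_left
    have hYJ : Y ≤ J := le_sup_right
    have h := ih _ (CfsgLib.Solvable.card_lt_of_ne_top hne) J rfl Q (X.subgroupOf J) (Y.subgroupOf J)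
      (hX.subgroupOf (K := J)) (hY.subgroupOf (K := J)) (by
        apply Subgroup.map_injective J.subtype_injective
        rw [Subgroup.map_sup, map_subgroupOf_eq_of_le hXJ, map_subgroupOf_eq_of_le hYJ,
          ← MonoidHom.range_eq_map, Subgroup.range_subtype])
    have h' := Subgroup.map_mono (f := J.subtype) h
    rw [Subgroup.map_sup, Subgroup.map_inf _ _ _ J.subtype_injective,
      Subgroup.map_inf _ _ _ J.subtype_injective, map_subgroupOf_eq_of_le hXJ,
      map_subgroupOf_eq_of_le hYJ, hQ] at h'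
    exact h'.trans (sup_le_sup (inf_le_inf_left _ inf_le_right) (inf_le_inf_left _ inf_le_right))
  have multi : ∀ F : Set (Subgroup G), (∀ U ∈ F, U.IsSubnormal) → sSup F ≠ ⊤ →
      ∀ R : Subgroup G, (∀ U ∈ F, U ⊓ (S : Subgroup G) ≤ R) → sSup F ⊓ (S : Subgroup G) ≤ R := by
    intro F
    induction F, F.toFinite using Set.Finite.induction_on with
    | empty => intro _ _ R _; rw [sSup_empty, bot_inf_eq]; exact bot_le
    | @insert a s _ _ ihs =>
      intro hF hne R hR
      rw [sSup_insert] at hne ⊢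
      have hs : sSup s ≠ ⊤ := fun e => hne (by rw [e, sup_top_eq])
      refine (join2 a (sSup s) (hF a (Set.mem_insert _ _))
        (CfsgLib.Zipper.subnormal_sSup s fun U hU => hF U (Set.mem_insert_of_mem _ hU)) hne).trans ?_
      exact sup_le (hR a (Set.mem_insert _ _)) (ihs (fun U hU => hF U (Set.mem_insert_of_mem _ hU)) hs R
        (fun U hU => hR U (Set.mem_insert_of_mem _ hU)))
  by_cases hAtop : A = ⊤
  · rw [hT, hAtop, top_inf_eq]; exact le_sup_left
  by_cases hBtop : B = ⊤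
  · rw [hT, hBtop, top_inf_eq]; exact le_sup_right
  have htriv : (⊤ : Subgroup G) ≠ ⊥ := fun e => hAtop (le_antisymm le_top (e.le.trans bot_le))
  obtain ⟨V, -, hVn, hV, hmin⟩ := CfsgLib.SubnormalJoin.exists_minimal (N := (⊤ : Subgroup G)) inferInstance htriv
  haveI := hVn
  have hVA := CfsgLib.SubnormalJoin.minimal_le_normalizer hVn hV hmin hA
  have hVB := CfsgLib.SubnormalJoin.minimal_le_normalizer hVn hV hmin hB
  -- modulo `V`
  have hquot : (S : Subgroup G) ≤ T ⊔ V := by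
    set π := QuotientGroup.mk' V
    have hπ := QuotientGroup.mk'_surjective V
    have h := ih _ (CfsgLib.Solvable.card_quotient_lt hV) (G ⧸ V) rfl (S.mapSurjective hπ) (A.map π) (B.map π)
      (hA.map hπ) (hB.map hπ) (by rw [← Subgroup.map_sup, hAB, Subgroup.map_top_of_surjective π hπ])
    have key : ∀ X : Subgroup G, X.IsSubnormal →
        X.map π ⊓ (S : Subgroup G).map π = (X ⊓ (S : Subgroup G)).map π := by
      intro X hX
      obtain ⟨Q, hQ⟩ := sylow_inf S hX
      have hle : (X ⊓ (S : Subgroup G)).map π ≤ X.map π ⊓ (S : Subgroup G).map π :=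
        Subgroup.map_inf_le _ _ _
      refine (Subgroup.eq_of_le_of_card_ge hle ?_).symm
      let Q' := Q.mapSurjective (π.subgroupMap_surjective X)
      have hQ' : (Q' : Subgroup (X.map π)).map (X.map π).subtype = (X ⊓ (S : Subgroup G)).map π := by
        rw [← hQ, Sylow.coe_mapSurjective, Subgroup.map_map, Subgroup.map_map]
        rfl
      obtain ⟨Q₂, hQ₂⟩ := (((S.isPGroup'.map π).to_le (inf_le_right :
        X.map π ⊓ (S : Subgroup G).map π ≤ _)).comap_subtype (K := X.map π)).exists_le_sylow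
      refine le_trans (Subgroup.card_le_of_le (K := (Q₂ : Subgroup (X.map π)).map (X.map π).subtype)
        fun u hu => ⟨⟨u, hu.1⟩, hQ₂ hu, rfl⟩) (le_of_eq ?_)
      rw [← hQ', CfsgLib.LocalB.SylowControl.card_sylow_map Q₂ Q']
    rw [Sylow.coe_mapSurjective, key A hA, key B hB, ← Subgroup.map_sup, Subgroup.map_le_iff_le_comap,
      Subgroup.comap_map_eq, QuotientGroup.ker_mk'] at h
    exact h
  have hmod : (S : Subgroup G) ⊓ V ≤ T → (S : Subgroup G) ≤ T := by
    intro hVT s hs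
    have h1 := hquot hs
    rw [← SetLike.mem_coe, Subgroup.mul_normal] at h1
    obtain ⟨t, ht, v, hv, rfl⟩ := h1
    refine mul_mem ht (hVT ⟨?_, hv⟩)
    have := mul_mem ((S : Subgroup G).inv_mem (hTS ht)) hs
    rwa [inv_mul_cancel_left] at this
  set W := (V ⊓ A) ⊔ (V ⊓ B) with hW
  have hconjW : ∀ X Y : Subgroup G, V ≤ normalizer (X : Set G) → ∀ a ∈ X,
      (V ⊓ X ⊔ V ⊓ Y) ≤ MulAut.conj a⁻¹ • (V ⊓ X ⊔ V ⊓ Y) := by
    intro X Y hVX a ha
    refine sup_le (fun x hx => ?_) (fun x hx => ?_) <;> rw [mem_smul', inv_inv]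
    · exact (le_sup_left : V ⊓ X ≤ _) ⟨hVn.conj_mem x hx.1 a, mul_mem (mul_mem ha hx.2) (X.inv_mem ha)⟩
    · have h1 : a * x * a⁻¹ * x⁻¹ ∈ V ⊓ X := by
        refine ⟨mul_mem (hVn.conj_mem x hx.1 a) (V.inv_mem hx.1), ?_⟩
        have := mul_mem ha ((mem_normalizer_iff.1 (hVX hx.1) a⁻¹).1 (X.inv_mem ha))
        simpa [mul_assoc] using this
      have := mul_mem ((le_sup_left : V ⊓ X ≤ V ⊓ X ⊔ V ⊓ Y) h1) ((le_sup_right : V ⊓ Y ≤ _) hx.symm.symm)
      simpa [mul_assoc] using this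
  have hWn : W.Normal := by
    rw [← Subgroup.normalizer_eq_top_iff, eq_top_iff, ← hAB]
    refine sup_le (fun a ha => ?_) (fun a ha => ?_)
    · refine mem_normalizer_of_conj_le fun x hx => ?_
      simpa using mem_smul'.1 (hconjW A B hVA a ha hx)
    · refine mem_normalizer_of_conj_le fun x hx => ?_
      have e : V ⊓ B ⊔ V ⊓ A = W := by rw [hW, sup_comm]
      simpa using (e ▸ mem_smul'.1 (hconjW B A hVB a ha (e.symm ▸ hx)) : a⁻¹⁻¹ * x * a⁻¹ ∈ W)
  by_cases hWne : W ≠ ⊥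
  · -- `V` is generated by its intersections with `A` and `B`
    have hWV : W = V := hmin W hWn hWne (sup_le inf_le_left inf_le_left)
    by_cases hVtop : V = ⊤
    · exfalso
      have hnorm : ∀ X : Subgroup G, V ≤ normalizer (X : Set G) → X ≠ ⊤ → X = ⊥ := by
        intro X hX hXne
        by_contra hne
        exact hXne ((hmin X (normalizer_eq_top_iff.1 (top_le_iff.1 (hVtop ▸ hX))) hne (hVtop ▸ le_top)).trans hVtop)
      rw [hnorm A hVA hAtop, hnorm B hVB hBtop, sup_idem] at hAB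
      exact htriv hAB.symm
    apply hmod
    have hsn : ∀ X : Subgroup G, V ≤ normalizer (X : Set G) → (V ⊓ X).IsSubnormal := fun X hX =>
      IsSubnormal.step _ V inf_le_left hVn.isSubnormal ((normal_subgroupOf_iff_le_normalizer inf_le_left).2
        ((le_inf le_normalizer hX).trans inf_normalizer_le_normalizer_inf))
    have h := join2 _ _ (hsn A hVA) (hsn B hVB) (by rw [← hW, hWV]; exact hVtop)
    rw [← hW, hWV, inf_comm] at h
    exact h.trans (sup_le_sup (inf_le_inf_right _ inf_le_right) (inf_le_inf_right _ inf_le_right))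
  -- `V` is central
  push Not at hWne
  rw [hW, sup_eq_bot_iff] at hWne
  obtain ⟨hVA0, hVB0⟩ := hWne
  have hcomm : ∀ X : Subgroup G, V ≤ normalizer (X : Set G) → V ⊓ X = ⊥ → X ≤ centralizer (V : Set G) := by
    intro X hX hd x hx
    refine mem_centralizer_iff.2 fun v hv => ?_
    have h1 : v * x * v⁻¹ * x⁻¹ ∈ V ⊓ X := by
      refine ⟨?_, mul_mem ((mem_normalizer_iff.1 (hX hv) x).1 hx) (X.inv_mem hx)⟩
      have := mul_mem hv (hVn.conj_mem v⁻¹ (V.inv_mem hv) x)
      simpa [mul_assoc] using this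
    rw [hd, mem_bot, mul_inv_eq_one] at h1
    exact mul_inv_eq_iff_eq_mul.1 h1
  have hcent : ∀ v ∈ V, ∀ g : G, g * v = v * g := by
    intro v hv g
    have h1 : (⊤ : Subgroup G) ≤ centralizer (V : Set G) := hAB ▸ sup_le (hcomm A hVA hVA0) (hcomm B hVB hVB0)
    exact (mem_centralizer_iff.1 (h1 (mem_top g)) v hv).symm
  obtain ⟨q, hq, hVq⟩ : ∃ q : ℕ, q.Prime ∧ Nat.card V = q := by
    obtain ⟨q, hq, hdvd⟩ := Nat.exists_prime_and_dvd (n := Nat.card V) (fun e => hV (eq_bot_of_card_eq V e))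
    haveI := Fact.mk hq
    obtain ⟨x, hx⟩ := exists_prime_orderOf_dvd_card' q hdvd
    have hxo : orderOf (x : G) = q := by rw [Subgroup.orderOf_coe, hx]
    have hne : zpowers (x : G) ≠ ⊥ := fun e => by
      rw [zpowers_eq_bot] at e; rw [e, orderOf_one] at hxo; exact hq.one_lt.ne hxo
    have hnor : (zpowers (x : G)).Normal := ⟨fun u hu g => by
      rw [hcent u (zpowers_le.2 x.2 hu) g, mul_inv_cancel_right]; exact hu⟩
    refine ⟨q, hq, ?_⟩
    rw [← hmin _ hnor hne (zpowers_le.2 x.2), Nat.card_zpowers, hxo]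
  apply hmod
  by_cases hVT : (S : Subgroup G) ⊓ V ≤ T
  · exact hVT
  exfalso
  have hqp : q = p := by
    by_contra hne
    apply hVT
    obtain ⟨k, hk⟩ := S.isPGroup'.exists_card_eq
    have hco : (Nat.card (S : Subgroup G)).Coprime (Nat.card V) := by
      rw [hk, hVq]
      exact Nat.Coprime.pow_left _ ((Nat.coprime_primes hpr hq).2 (Ne.symm hne))
    rw [Subgroup.inf_eq_bot_of_coprime hco]
    exact bot_le
  rw [hqp] at hVq
  have hSV : (S : Subgroup G) ⊓ V = V := by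
    refine Subgroup.eq_of_le_of_card_ge inf_le_right ?_
    rcases (Nat.dvd_prime hpr).1 (hVq ▸ card_dvd_of_le (inf_le_right : (S : Subgroup G) ⊓ V ≤ V)) with h | h
    · exact absurd (eq_bot_of_card_eq _ h ▸ bot_le) hVT
    · rw [h, hVq]
  have hVS : V ≤ (S : Subgroup G) := hSV ▸ inf_le_left
  rw [hSV] at hVT
  have hTV : T ⊓ V = ⊥ := by
    rcases (Nat.dvd_prime hpr).1 (hVq ▸ card_dvd_of_le (inf_le_right : T ⊓ V ≤ V)) with h | h
    · exact eq_bot_of_card_eq _ h
    · exact absurd (Subgroup.eq_of_le_of_card_ge (inf_le_right : T ⊓ V ≤ V) (by rw [h, hVq]) ▸ inf_le_left) hVT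
  haveI : IsMulCommutative V := ⟨⟨fun a b => Subtype.ext (hcent b b.2 a)⟩⟩
  obtain ⟨K, hK⟩ := CfsgLib.Gaschutz.exists_complement hVS
    (by rw [hVq]; exact hpr.coprime_iff_not_dvd.2 S.not_dvd_index) T hTS hTV
    (le_antisymm (sup_le hVS hTS) (sup_comm T V ▸ hquot))
  have hKn : K.Normal := by
    refine ⟨fun k hk g => ?_⟩
    obtain ⟨⟨v, k'⟩, rfl⟩ := hK.2 g
    have hk' : (k' : G) * k * (k' : G)⁻¹ ∈ K := mul_mem (mul_mem k'.2 hk) (inv_mem k'.2)
    rw [show (v : G) * k' * k * ((v : G) * k')⁻¹ = v * ((k' : G) * k * (k' : G)⁻¹) * (v : G)⁻¹ by group,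
      ← hcent v v.2, mul_inv_cancel_right]
    exact hk'
  haveI := hKn
  have hKidx : K.index = p := by rw [hK.index_eq_card, hVq]
  have hKtop : K ≠ ⊤ := fun e => by rw [e, index_top] at hKidx; exact hpr.one_lt.ne hKidx
  -- the reduction step
  have absorb : ∀ X Y : Subgroup G, X.IsSubnormal → Y.IsSubnormal → X ⊔ Y = ⊤ → Y ≠ ⊤ →
      X ⊓ (S : Subgroup G) ≤ T → Y ⊓ (S : Subgroup G) ≤ T →
      ∃ Y' : Subgroup G, Y'.IsSubnormal ∧ Y' ≠ ⊤ ∧ Y' ⊓ (S : Subgroup G) ≤ T ∧ (Y ≤ K → Y' ≤ K) ∧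
        ((X ⊓ K) ⊔ Y' ≠ ⊤ → (S : Subgroup G) ≤ T) := by
    intro X Y hX hY hXY hYne hXT hYT
    set P := X ⊓ (S : Subgroup G)
    set F : Set (Subgroup G) := (fun s : G => MulAut.conj s • Y) '' (P : Set G)
    obtain ⟨N, hN, hYN, hNlt⟩ := hY.lt_normal.resolve_left hYne
    have hFN : sSup F ≤ N := sSup_le (by
      rintro _ ⟨s, -, rfl⟩ u hu
      have := hN.conj_mem _ (hYN (mem_smul'.1 hu)) s
      simpa [mul_assoc] using this)
    have hFne : sSup F ≠ ⊤ := fun e => hNlt.ne (top_le_iff.1 (e ▸ hFN))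
    have hFsub : ∀ U ∈ F, U.IsSubnormal := by rintro _ ⟨s, -, rfl⟩; exact hY.smul _
    have hFS : sSup F ⊓ (S : Subgroup G) ≤ T := by
      refine multi F hFsub hFne T ?_
      rintro _ ⟨s, hs, rfl⟩ u ⟨hu, huS⟩
      have h1 : s⁻¹ * u * s ∈ T := hYT ⟨mem_smul'.1 hu,
        mul_mem (mul_mem ((S : Subgroup G).inv_mem hs.2) huS) hs.2⟩
      have := mul_mem (mul_mem (hXT hs) h1) (T.inv_mem (hXT hs))
      simpa [mul_assoc] using this
    have hYF : Y ≤ sSup F := le_sSup ⟨1, P.one_mem, by simp⟩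
    refine ⟨sSup F, CfsgLib.Zipper.subnormal_sSup F hFsub, hFne, hFS, fun hYK => sSup_le (by
      rintro _ ⟨s, -, rfl⟩ u hu
      have := hKn.conj_mem _ (hYK (mem_smul'.1 hu)) s
      simpa [mul_assoc] using this), fun hG1 => ?_⟩
    have hXK : (X ⊓ K).IsSubnormal := IsSubnormal.step _ X inf_le_left hX
      ((normal_subgroupOf_iff_le_normalizer inf_le_left).2
        ((le_inf le_normalizer (by rw [normalizer_eq_top]; exact le_top)).trans inf_normalizer_le_normalizer_inf))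
    set G1 := X ⊓ K ⊔ sSup F
    have hG1S : G1 ⊓ (S : Subgroup G) ≤ T :=
      (join2 _ _ hXK (CfsgLib.Zipper.subnormal_sSup F hFsub) hG1).trans
        (sup_le ((inf_le_inf_right _ inf_le_left).trans hXT) hFS)
    have hPn : P ≤ normalizer (G1 : Set G) := by
      intro s hs
      refine mem_normalizer_of_conj_le fun u hu => ?_
      have hle : G1 ≤ MulAut.conj s⁻¹ • G1 := by
        refine sup_le (fun w hw => ?_) (sSup_le ?_)
        · rw [mem_smul', inv_inv]
          exact (le_sup_left : X ⊓ K ≤ G1) ⟨mul_mem (mul_mem hs.1 hw.1) (X.inv_mem hs.1), hKn.conj_mem w hw.2 s⟩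
        · rintro _ ⟨r, hr, rfl⟩ w hw
          rw [mem_smul', inv_inv]
          have hm : MulAut.conj (s * r) • Y ∈ F := ⟨s * r, P.mul_mem hs hr, rfl⟩
          refine (le_sup_right : sSup F ≤ G1) (le_sSup hm ?_)
          rw [mem_smul']
          simpa [mul_assoc] using mem_smul'.1 hw
      simpa using mem_smul'.1 (hle hu)
    have hXP : X ≤ (X ⊓ K) ⊔ P := by
      rw [← subgroupOf_eq_top, ← index_eq_one]
      obtain ⟨Q, hQ⟩ := sylow_inf S hX
      refine Nat.eq_one_of_dvd_coprimes (a := (Q : Subgroup X).index) (b := (K.subgroupOf X).index) ?_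
        (index_dvd_of_le fun w hw => (le_sup_right : P ≤ (X ⊓ K) ⊔ P) (hQ.le ⟨w, hw, rfl⟩))
        (index_dvd_of_le fun w hw => (le_sup_left : X ⊓ K ≤ (X ⊓ K) ⊔ P) ⟨w.2, hw⟩)
      have hd : (K.subgroupOf X).index ∣ p := hKidx ▸ relIndex_dvd_index_of_normal K X
      exact Nat.Coprime.coprime_dvd_right hd (hpr.coprime_iff_not_dvd.2 Q.not_dvd_index).symm
    have hgen : G1 ⊔ P = ⊤ := by
      rw [eq_top_iff, ← hXY]
      refine sup_le (hXP.trans (sup_le_sup_right le_sup_left _)) (hYF.trans (le_sup_right.trans le_sup_left))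
    have hG1n : G1.Normal := by
      rw [← normalizer_eq_top_iff, eq_top_iff, ← hgen]
      exact sup_le le_normalizer hPn
    intro s hs
    have h1 : s ∈ G1 ⊔ P := hgen ▸ mem_top s
    rw [← SetLike.mem_coe, Subgroup.normal_mul] at h1
    obtain ⟨g, hg, r, hr, rfl⟩ := h1
    refine mul_mem (hG1S ⟨hg, ?_⟩) (hXT hr)
    have := mul_mem hs ((S : Subgroup G).inv_mem hr.2)
    rwa [mul_inv_cancel_right] at this
  have hfinal : (S : Subgroup G) ≤ T → False := fun h => hVT (hVS.trans h)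
  apply hfinal
  have run : ∀ X Y : Subgroup G, X.IsSubnormal → Y.IsSubnormal → X ⊔ Y = ⊤ → X ≠ ⊤ → Y ≠ ⊤ →
      X ⊓ (S : Subgroup G) ≤ T → Y ⊓ (S : Subgroup G) ≤ T → (S : Subgroup G) ≤ T := by
    intro X Y hX hY hXY hXne hYne hXT hYT
    obtain ⟨Y', hY's, hY'ne, hY'T, -, hdone⟩ := absorb X Y hX hY hXY hYne hXT hYT
    by_cases hG1 : (X ⊓ K) ⊔ Y' = ⊤
    · have hXKs : (X ⊓ K).IsSubnormal := IsSubnormal.step _ X inf_le_left hX
        ((normal_subgroupOf_iff_le_normalizer inf_le_left).2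
          ((le_inf le_normalizer (by rw [normalizer_eq_top]; exact le_top)).trans inf_normalizer_le_normalizer_inf))
      obtain ⟨X', -, -, -, hX'K, hdone'⟩ := absorb Y' (X ⊓ K) hY's hXKs (by rw [sup_comm]; exact hG1)
        (fun e => hKtop (top_le_iff.1 (e ▸ inf_le_right))) hY'T ((inf_le_inf_right _ inf_le_left).trans hXT)
      exact hdone' fun e => hKtop (top_le_iff.1 (e ▸ sup_le inf_le_right (hX'K inf_le_right)))
    · exact hdone hG1
  exact run A B hA hB hAB hAtop hBtop le_sup_left le_sup_right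

/-- Let G be a finite group, p a prime, S a Sylow p-subgroup of G and A₁, A₂ subnormal subgroups of G. Then the join of S ∩ A₁ and S ∩ A₂ is a Sylow p-subgroup of the join of A₁ and A₂; equivalently ⟨A₁, A₂⟩ ∩ S = ⟨A₁ ∩ S, A₂ ∩ S⟩. -/
theorem result {G : Type*} [Group G] [Finite G] {p : ℕ} [Fact p.Prime] (S : Sylow p G) (A₁ A₂ : Subgroup G)
    (h₁ : A₁.IsSubnormal) (h₂ : A₂.IsSubnormal) :
    (A₁ ⊔ A₂) ⊓ (S : Subgroup G) = (A₁ ⊓ (S : Subgroup G)) ⊔ (A₂ ⊓ (S : Subgroup G)) := by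
  refine le_antisymm ?_ (sup_le (inf_le_inf_right _ le_sup_left) (inf_le_inf_right _ le_sup_right))
  set J := A₁ ⊔ A₂ with hJ
  obtain ⟨Q, hQ⟩ := sylow_inf S (CfsgLib.SubnormalJoin.isSubnormal_sup h₁ h₂)
  have h := main (p := p) _ J rfl Q (A₁.subgroupOf J) (A₂.subgroupOf J)
    (h₁.subgroupOf (K := J)) (h₂.subgroupOf (K := J)) (by
      apply Subgroup.map_injective J.subtype_injective
      rw [Subgroup.map_sup, map_subgroupOf_eq_of_le le_sup_left, map_subgroupOf_eq_of_le le_sup_right,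
        ← MonoidHom.range_eq_map, Subgroup.range_subtype])
  have h' := Subgroup.map_mono (f := J.subtype) h
  rw [Subgroup.map_sup, Subgroup.map_inf _ _ _ J.subtype_injective,
    Subgroup.map_inf _ _ _ J.subtype_injective, map_subgroupOf_eq_of_le le_sup_left,
    map_subgroupOf_eq_of_le le_sup_right, hQ] at h'
  exact h'.trans (sup_le_sup (inf_le_inf_left _ inf_le_right) (inf_le_inf_left _ inf_le_right))

end Cfsg.Agent.S3028
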