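import Cfsg.Statements.S2824
import Cfsg.Agent.CharP.LargestPReducedOf

set_option autoImplicit false
open Cfsg

namespace Cfsg.Agent.S2824

/-- Let H be a finite group, p a prime, T a Sylow p-subgroup, L and M subgroups of characteristic p containing T, Y_L the largest p-reduced normal subgroup of L and T₀ = C_T(Y_L). If M·C_H(Y_L) = L·C_H(Y_L), then L* := N_M(T₀) has Y_{L*} = Y_L and L·C_H(Y_L) = L*·C_H(Y_L). -/
theorem result {H : Type*} [Group H] [Finite H] {p : ℕ} [Fact p.Prime] (T : Sylow p H) (L M : Subgroup H) (hTL : (T : Subgroup H) ≤ L) (hTM : (T : Subgroup H) ≤ M) (hL : Subgroup.centralizer (Cfsg.pCore p ↥L : Set ↥L) ≤ Cfsg.pCore p ↥L) (hM : Subgroup.centralizer (Cfsg.pCore p ↥M : Set ↥M) ≤ Cfsg.pCore p ↥M) (T₀ : Subgroup H) (hT₀ : T₀ = (T : Subgroup H) ⊓ Subgroup.centralizer (((Cfsg.largestPReducedOf p L) : Subgroup H) : Set H)) (hfac : M ⊔ Subgroup.centralizer (((Cfsg.largestPReducedOf p L) : Subgroup H) : Set H) = L ⊔ Subgroup.centralizer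 (((Cfsg.largestPReducedOf p L) : Subgroup H) : Set H)) (Ls : Subgroup H) (hLs : Ls = M ⊓ Subgroup.normalizer ((T₀ : Subgroup H) : Set H)) : (Cfsg.largestPReducedOf p Ls) = (Cfsg.largestPReducedOf p L) ∧ L ⊔ Subgroup.centralizer (((Cfsg.largestPReducedOf p L) : Subgroup H) : Set H) = Ls ⊔ Subgroup.centralizer (((Cfsg.largestPReducedOf p L) : Subgroup H) : Set H) := by
  subst hT₀ hLs
  set Y := Cfsg.largestPReducedOf p L with hY
  set C := Subgroup.centralizer (Y : Set H) with hC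
  set T₀ := (T : Subgroup H) ⊓ C with hT0
  set Ls := M ⊓ Subgroup.normalizer (T₀ : Set H) with hLsdef
  have hCn : ∀ g ∈ Subgroup.normalizer (Y : Set H), ∀ c ∈ C, g * c * g⁻¹ ∈ C := by
    intro g hg c hc
    refine Subgroup.mem_centralizer_iff.2 fun y hy => ?_
    have h1 : g⁻¹ * y * g ∈ Y := by simpa using (Subgroup.mem_normalizer_iff.1 (inv_mem hg) y).1 hy
    calc y * (g * c * g⁻¹) = g * ((g⁻¹ * y * g) * c) * g⁻¹ := by simp [mul_assoc]
      _ = g * c * g⁻¹ * y := by rw [Subgroup.mem_centralizer_iff.1 hc _ h1]; simp [mul_assoc]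
  have hNC : Subgroup.normalizer (Y : Set H) ≤ Subgroup.normalizer (C : Set H) := fun g hg => by
    refine Subgroup.mem_normalizer_iff.2 fun c => ⟨hCn g hg c, fun hc => ?_⟩
    simpa [mul_assoc] using hCn g⁻¹ (inv_mem hg) _ hc
  have hMNC : M ≤ Subgroup.normalizer (C : Set H) :=
    (le_sup_left.trans hfac.le).trans (sup_le ((CfsgLib.CharP.le_normalizer_largestPReducedOf L).trans hNC) Subgroup.le_normalizer)
  -- Frattini inside `M`
  haveI : (C.subgroupOf M).Normal := Subgroup.normal_subgroupOf_of_le_normalizer hMNC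
  have hfr := CfsgLib.CharP.normalizer_inf_sup (T.subtype hTM) (C.subgroupOf M)
  have hmap : (((T.subtype hTM : Sylow p M) : Subgroup M) ⊓ C.subgroupOf M) = T₀.subgroupOf M := rfl
  have hM : M ≤ Ls ⊔ C := by
    intro m hm
    have h1 : (⟨m, hm⟩ : M) ∈ Subgroup.normalizer ((T₀.subgroupOf M : Subgroup M) : Set M) ⊔ C.subgroupOf M :=
      hmap ▸ hfr ▸ Subgroup.mem_top _
    obtain ⟨a, ha, c, hc, hac⟩ := Subgroup.mem_sup_of_normal_right.1 h1
    have haN : (a : H) ∈ Subgroup.normalizer (T₀ : Set H) := by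
      refine Subgroup.mem_normalizer_iff.2 fun x => ⟨fun hx => ?_, fun hx => ?_⟩
      · exact (Subgroup.mem_normalizer_iff.1 ha ⟨x, hTM hx.1⟩).1 hx
      · have hxM : x ∈ M := by simpa [mul_assoc] using mul_mem (mul_mem (inv_mem a.2) (hTM hx.1)) a.2
        exact (Subgroup.mem_normalizer_iff.1 ha ⟨x, hxM⟩).2 hx
    have h2 : (a : H) * (c : H) = m := congrArg Subtype.val hac
    exact h2 ▸ mul_mem (Subgroup.mem_sup_left ⟨a.2, haN⟩) (Subgroup.mem_sup_right hc)
  have hLC : L ⊔ C = Ls ⊔ C :=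
    le_antisymm (hfac.ge.trans (sup_le hM le_sup_right)) ((sup_le_sup_right inf_le_left C).trans hfac.le)
  refine ⟨le_antisymm ?_ ?_, hLC⟩
  · -- `Y_{L*} ≤ Ω₁(Z(T₀))`
    have hTLs : (T : Subgroup H) ≤ Ls :=
      le_inf hTM (CfsgLib.CharP.sylow_le_normalizer_inf T C (hTL.trans ((CfsgLib.CharP.le_normalizer_largestPReducedOf L).trans hNC)))
    rw [hY, CfsgLib.CharP.largestPReducedOf_eq_omega T L hTL hL T₀ rfl]
    have hT0c : T₀ ≤ Subgroup.centralizer (Cfsg.largestPReducedOf p Ls : Set H) := by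
      refine le_trans ?_ (CfsgLib.CharP.pCoreOf_le_centralizer Ls)
      have hle : T₀ ≤ Ls := inf_le_left.trans hTLs
      have h1 := Subgroup.map_mono (f := Ls.subtype) (CfsgLib.Solvable.le_pCore p
        (Subgroup.normal_subgroupOf_of_le_normalizer (inf_le_right : Ls ≤ Subgroup.normalizer (T₀ : Set H)))
        ((T.isPGroup'.to_le inf_le_left : IsPGroup p T₀).of_equiv (Subgroup.subgroupOfEquivOfLe hle).symm))
      rwa [Subgroup.map_subgroupOf_eq_of_le hle] at h1
    have hYT : Y ≤ T₀ := le_inf (CfsgLib.CharP.largestPReducedOf_le_sylow T hTL) (by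
      rintro _ ⟨a, ha, rfl⟩
      refine Subgroup.mem_centralizer_iff.2 ?_
      rintro _ ⟨b, hb, rfl⟩
      haveI := (CfsgLib.CharP.largestPReduced_spec (L := L) (p := p)).1.2.1.1
      exact congrArg (fun z : L => (z : H)) (setLike_mul_comm (s := Cfsg.largestPReduced p L) hb ha))
    intro y hy
    refine CfsgLib.Thompson.mem_omegaOne ⟨⟨CfsgLib.CharP.largestPReducedOf_le_sylow T hTLs hy, ?_⟩, Subgroup.le_centralizer_iff.1 hT0c hy⟩ ?_
    · exact Subgroup.centralizer_le hYT (Subgroup.le_centralizer_iff.1 hT0c hy)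
    · obtain ⟨a, ha, rfl⟩ := hy
      exact congrArg Subtype.val ((CfsgLib.CharP.largestPReduced_spec (L := Ls) (p := p)).1.2.1.2 a ha)
  · refine CfsgLib.CharP.le_largestPReducedOf_of_factor T Ls L hTL ?_ hLC.symm
    exact (CfsgLib.CharP.largestPReducedOf_le_sylow T hTL).trans
      (le_inf hTM (CfsgLib.CharP.sylow_le_normalizer_inf T C (hTL.trans ((CfsgLib.CharP.le_normalizer_largestPReducedOf L).trans hNC))))

end Cfsg.Agent.S2824
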