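import Cfsg.Statements.S0256
import Cfsg.Agent.Quad.HeartCases
import Cfsg.Agent.Quad.Klein
-- import your own Cfsg.Agent.* helpers here

set_option autoImplicit false
open Cfsg

namespace Cfsg.Agent.S0256

/-- PSL_4(2) is isomorphic to A_8. -/
theorem result {F : Type*} [Field F] [Fintype F] (hF : Fintype.card F = 2) : Nonempty (Matrix.ProjectiveSpecialLinearGroup (Fin 4) F ≃* alternatingGroup (Fin 8)) := by
  obtain ⟨e⟩ := CfsgLib.Quad.Heart.nonempty_plus_six hF
  obtain ⟨g⟩ := CfsgLib.Quad.Heart.nonempty_pOmega_alt (by norm_num) e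
  rw [← CfsgLib.Quad.plusQ_coe] at g
  obtain ⟨h⟩ := CfsgLib.Quad.nonempty_pOmega_six_plus F
  exact ⟨h.symm.trans g⟩

end Cfsg.Agent.S0256
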