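import Cfsg.Statements.S2157
import Cfsg.Agent.Chev.All
import Cfsg.Agent.Chev.RootElem

set_option autoImplicit false
open Cfsg

namespace Cfsg.Agent.S2157

open CfsgLib.Chev Cfsg.Lie in
/-- One step of `ad e_r` multiplies a character by its value at `r`. -/
theorem step {D : ChevalleyDatum} {T : Tab D} (C : T.Cert) {F : Type*} [Field F] {χ : ℕ → Fˣ}
    (hχ : D.IsRootCharacter χ) {r : ℕ} (hr : r < D.nroots) {x y : D.Idx} (h : T.A 1 r x y ≠ 0) :
    (if code x < D.nroots then χ (code x) else 1) =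
      χ r * (if code y < D.nroots then χ (code y) else 1) := by
  rw [Tab.A, matOf_apply] at h
  obtain ⟨p, hp, hpx⟩ := exists_mem_of_coeff_ne_zero h
  rw [← hpx]
  set b := code y
  rcases Nat.lt_or_ge b D.nroots with hb | hb
  · rw [if_pos hb]
    by_cases h1 : b = r
    · rw [h1, T.colA_self 1 r hr] at hp; simp at hp
    by_cases h2 : b = Tab.negR D r
    · rw [h2, T.colA_neg 1 r hr (C.negR_ne hr)] at hp
      simp only [if_true] at hp
      have := (T.mem_corVec hp).1
      rw [if_neg (by omega), h2, ← C.neg_eq hr, hχ.1 r hr, mul_inv_cancel]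
    rw [T.colA_chain 1 r b hb h1 h2] at hp
    have he := Tab.Cert.mem_drop_take hp
    rw [if_pos (C.ent_spec hr hb he).1]
    refine hχ.2 r b p.1 hr hb ?_
    rw [ChevalleyDatum.chainRoot, C.chainEntry_eq hr hb, he]
    rfl
  · rw [T.colA_h 1 r b hb] at hp
    simp only [if_true, List.mem_singleton] at hp
    rw [hp, if_pos hr, if_neg (show ¬ b < D.nroots by omega), mul_one]


/-- In a Chevalley group of type G₂, B₂, D₄, F₄, E₆, E₇ or E₈, for every character `χ` of the root lattice with values in `Fˣ` the diagonal matrix `ĥ(χ)` (identity on the coroot coordinates, `χ(s)` on the coordinate of `e_s`) conjugates each root element `x_r(t)` to `x_r(χ(r) t)`: `ĥ(χ) x_r(t) ĥ(χ)⁻¹ = x_r(χ(r) t)` as matrices, with `ĥ(χ)⁻¹` written as `ĥ(χ⁻¹)`. -/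
theorem result {F : Type*} [Field F] (D : Cfsg.Lie.ChevalleyDatum) (hD : D ∈ [Cfsg.Lie.chevG2, Cfsg.Lie.chevB2, Cfsg.Lie.chevD4, Cfsg.Lie.chevF4, Cfsg.Lie.chevE6, Cfsg.Lie.chevE7, Cfsg.Lie.chevE8]) (χ : ℕ → Fˣ) (hχ : D.IsRootCharacter χ) (r : ℕ) (hr : r < D.nroots) (t : F) :
    D.charDiag F χ * D.x F r t * D.charDiag F (fun s => (χ s)⁻¹) = D.x F r ((χ r : F) * t) := by
  obtain ⟨T, hT⟩ := CfsgLib.Chev.exists_full hD
  have C := hT.cert
  let W : D.Idx → Fˣ := fun b => if CfsgLib.Chev.code b < D.nroots then χ (CfsgLib.Chev.code b) else 1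
  have hdiag : ∀ ψ : ℕ → Fˣ, D.charDiag F ψ = Matrix.diagonal
      (fun b : D.Idx => (((if CfsgLib.Chev.code b < D.nroots then ψ (CfsgLib.Chev.code b) else 1) : Fˣ) : F)) := by
    intro ψ
    rw [Cfsg.Lie.ChevalleyDatum.charDiag]
    congr 1
    funext b
    rcases b with i | s
    · simp [CfsgLib.Chev.code_inl]
    · simp [CfsgLib.Chev.code_inr, s.2]
  have hpow : ∀ j x y, ((T.P 1 r) ^ j) x y ≠ 0 → W x = χ r ^ j * W y := by
    intro j
    induction j with
    | zero =>
      intro x y h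
      rw [pow_zero, Matrix.one_apply] at h
      by_cases e : x = y
      · rw [e, pow_zero, one_mul]
      · rw [if_neg e] at h; exact absurd rfl h
    | succ j ih =>
      intro x y h
      rw [pow_succ', Matrix.mul_apply] at h
      obtain ⟨z, -, hz⟩ := Finset.exists_ne_zero_of_sum_ne_zero h
      have h1 : W x = χ r * W z := step C hχ hr (by
        rw [← T.P_one]; exact left_ne_zero_of_mul hz)
      rw [h1, ih z y (right_ne_zero_of_mul hz), pow_succ', mul_assoc]
  have hW : ∀ j x y, T.P j r x y ≠ 0 → W x = χ r ^ j * W y := by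
    intro j x y h
    refine hpow j x y ?_
    rw [← C.factorial_P hr, Matrix.smul_apply, smul_eq_mul]
    exact mul_ne_zero (by exact_mod_cast j.factorial_ne_zero) h
  rw [C.x_eq hr, C.x_eq hr, hdiag, hdiag]
  ext x y
  rw [Matrix.mul_diagonal, Matrix.diagonal_mul]
  simp only [CfsgLib.Chev.Tab.X, Matrix.sum_apply, Matrix.smul_apply, Matrix.map_apply, smul_eq_mul,
    Finset.mul_sum, Finset.sum_mul]
  refine Finset.sum_congr rfl fun j _ => ?_
  rcases eq_or_ne (T.P j r x y) 0 with h | h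
  · simp [h]
  have hy : ((W y : Fˣ) : F) * (((if CfsgLib.Chev.code y < D.nroots then (χ (CfsgLib.Chev.code y))⁻¹ else 1) : Fˣ) : F) = 1 := by
    simp only [W]
    split_ifs <;> simp
  have hx := congrArg (fun u : Fˣ => (u : F)) (hW j x y h)
  simp only [Units.val_mul, Units.val_pow_eq_pow_val] at hx
  show ((W x : Fˣ) : F) * _ * _ = _
  rw [hx, mul_pow]
  linear_combination (((χ r : F)) ^ j * t ^ j * ((T.P j r x y : ℤ) : F)) * hy

end Cfsg.Agent.S2157
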