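import Cfsg.Statements.S1059
import Cfsg.Agent.Chev.GoodAll
import Cfsg.Agent.Chev.OrdG2

set_option autoImplicit false
open Cfsg

namespace Cfsg.Agent.S1059

/-- `|G₂(q)| = q⁶ (q² - 1)(q⁶ - 1)`. -/
theorem result {F : Type*} [Field F] [Fintype F] {q : ℕ} (hq : Fintype.card F = q) : Nat.card ↥(Cfsg.Lie.chevG2.group F) = q ^ 6 * (q ^ 2 - 1) * (q ^ 6 - 1) := by
  have G := CfsgLib.Chev.good_G2
  have h := G.card_group_eq (F := F) CfsgLib.Chev.G2Data.levels_ok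
  have hd := G.card_diagonal (F := F) CfsgLib.Chev.G2Data.smith_ok
  have hl : CfsgLib.Chev.G2Data.levels.map (fun l => l.2.2) =
    [[0, 1, 2, 3, 4, 5],
      [0, 1]] := rfl
  rw [show (CfsgLib.Chev.G2Data.levels.map fun l =>
      (l.2.2.map fun e => Fintype.card F ^ e).sum) =
    (CfsgLib.Chev.G2Data.levels.map (fun l => l.2.2)).map
      (fun L => (L.map fun e => Fintype.card F ^ e).sum) by rw [List.map_map]; rfl, hl,
    show Cfsg.Lie.chevG2.nroots / 2 = 6 from rfl] at h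
  simp only [CfsgLib.Chev.G2Data.smith, List.map_cons, List.map_nil, List.prod_cons,
    List.prod_nil, List.sum_cons, List.sum_nil, Nat.gcd_one_right, one_mul, mul_one, add_zero,
    show Cfsg.Lie.chevG2.rank = 2 from rfl] at h hd
  rw [hq] at h hd
  have h1 : 1 ≤ q := hq ▸ Fintype.card_pos
  have e2 : 1 ≤ q ^ 2 := Nat.one_le_pow _ _ h1
  have e6 : 1 ≤ q ^ 6 := Nat.one_le_pow _ _ h1
  zify [h1, e2, e6] at h hd ⊢
  rw [h]
  linear_combination (norm := ring1) ((q : ℤ) ^ 6 * (((q : ℤ) ^ 0 + (q : ℤ) ^ 1 + (q : ℤ) ^ 2 + (q : ℤ) ^ 3 + (q : ℤ) ^ 4 + (q : ℤ) ^ 5) * ((q : ℤ) ^ 0 + (q : ℤ) ^ 1))) * hd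

end Cfsg.Agent.S1059
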