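import Cfsg.Statements.S2161
import Cfsg.Agent.Chev.GraphAuto
import Cfsg.Agent.Chev.SimpleGen

set_option autoImplicit false
open Cfsg

namespace Cfsg.Agent.S2161

open CfsgLib.Chev

/-- A root map of type D4 (c). -/
def d4c : List (ℕ × ℤ × ℕ) :=
  [(0, 1, 1), (1, 1, 1), (2, 1, 1), (6, -1, 1), (7, -1, 1), (10, 1, 1), (3, -1, 1), (4, -1, 1), (8, 1, 1), (9, 1, 1), (5, 1, 1), (11, 1, 1), (12, 1, 1), (18, 1, 1), (14, 1, 1), (15, 1, 1), (19, -1, 1), (20, -1, 1), (13, 1, 1), (16, -1, 1), (17, -1, 1), (21, 1, 1), (22, 1, 1), (23, 1, 1)]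

/-- A root map of type D4 (d). -/
def d4d : List (ℕ × ℤ × ℕ) :=
  [(0, 1, 1), (1, 1, 1), (6, -1, 1), (3, 1, 1), (8, -1, 1), (11, 1, 1), (2, -1, 1), (7, 1, 1), (4, -1, 1), (9, 1, 1), (10, 1, 1), (5, 1, 1), (18, 1, 1), (13, 1, 1), (14, 1, 1), (19, -1, 1), (16, 1, 1), (21, -1, 1), (12, 1, 1), (15, -1, 1), (20, 1, 1), (17, -1, 1), (22, 1, 1), (23, 1, 1)]

/-- A root map of type D4 (e). -/
def d4e : List (ℕ × ℤ × ℕ) :=
  [(0, 1, 1), (1, 1, 1), (3, 1, 1), (2, 1, 1), (4, 1, 1), (5, 1, 1), (6, 1, 1), (8, 1, 1), (7, 1, 1), (9, 1, 1), (11, 1, 1), (10, 1, 1), (13, 1, 1), (12, 1, 1), (14, 1, 1), (16, 1, 1), (15, 1, 1), (17, 1, 1), (18, 1, 1), (19, 1, 1), (21, 1, 1), (20, 1, 1), (22, 1, 1), (23, 1, 1)]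

/-- The root map attached to the values of a symmetry of D4. -/
def pickD4 (l : List ℕ) : List (ℕ × ℤ × ℕ) :=
  if l = [2, 1, 3, 0] then graphMapD4a else if l = [3, 1, 0, 2] then graphMapD4b
  else if l = [2, 1, 0, 3] then d4c else if l = [3, 1, 2, 0] then d4d
  else if l = [0, 1, 3, 2] then d4e else (List.range Cfsg.Lie.chevD4.nroots).map fun r => (r, 1, 1)

/-- The root map attached to the values of a symmetry of E6. -/
def pickE6 (l : List ℕ) : List (ℕ × ℤ × ℕ) :=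
  if l = [5, 1, 4, 3, 2, 0] then graphMapE6
  else (List.range Cfsg.Lie.chevE6.nroots).map fun r => (r, 1, 1)

/-- The root map is compatible with the symmetry. -/
def chkSym (D : Cfsg.Lie.ChevalleyDatum) (m : List (ℕ × ℤ × ℕ)) (π : Equiv.Perm (Fin D.rank)) :
    Bool :=
  CfsgLib.Chev.chkSimple D m (List.ofFn fun i => ((π i).val, 1)) &&
    CfsgLib.Chev.allBelow (fun r => decide ((CfsgLib.Chev.Tab.mapAt m r).1 = D.permRoot π r ∧
      (CfsgLib.Chev.Tab.mapAt m r).2.2 = 1 ∧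
      ((CfsgLib.Chev.Tab.mapAt m r).2.1 = 1 ∨ (CfsgLib.Chev.Tab.mapAt m r).2.1 = -1))) D.nroots

/-- The values of a permutation as a list. -/
def vals {n : ℕ} (π : Equiv.Perm (Fin n)) : List ℕ := List.ofFn fun i => (π i).val

instance (D : Cfsg.Lie.ChevalleyDatum) (π : Equiv.Perm (Fin D.rank)) :
    Decidable (D.IsDiagramSymmetry π) := by
  unfold Cfsg.Lie.ChevalleyDatum.IsDiagramSymmetry; infer_instance

set_option maxHeartbeats 1000000 in
theorem symD4 : ∀ π : Equiv.Perm (Fin Cfsg.Lie.chevD4.rank), Cfsg.Lie.chevD4.IsDiagramSymmetry π →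
    D4Data.tab.chkMap 0 (pickD4 (vals π)) = true ∧
      chkSym Cfsg.Lie.chevD4 (pickD4 (vals π)) π = true := by decide +kernel

set_option maxHeartbeats 1000000 in
theorem symE6 : ∀ π : Equiv.Perm (Fin Cfsg.Lie.chevE6.rank), Cfsg.Lie.chevE6.IsDiagramSymmetry π →
    E6Data.tab.chkMap 0 (pickE6 (vals π)) = true ∧
      chkSym Cfsg.Lie.chevE6 (pickE6 (vals π)) π = true := by decide +kernel

open scoped MatrixGroups in
theorem core {D : Cfsg.Lie.ChevalleyDatum} {T : Tab D} (G : T.Good) (hW : T.HasWit)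
    {F : Type*} [Field F] {π : Equiv.Perm (Fin D.rank)} {m : List (ℕ × ℤ × ℕ)}
    (hm : T.chkMap 0 m = true) (hs : chkSym D m π = true)
    (φ : ↥(D.group F) ≃* ↥(D.group F))
    (hφ : ∀ (g : ↥(D.group F)) (i : Fin D.rank) (t : F),
      (((g : GL D.Idx F) : Matrix D.Idx D.Idx F) = D.x F (D.simple i) t →
        ((φ g : GL D.Idx F) : Matrix D.Idx D.Idx F) = D.x F (D.simple (π i)) t) ∧
      (((g : GL D.Idx F) : Matrix D.Idx D.Idx F) = D.x F (D.neg (D.simple i)) t →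
        ((φ g : GL D.Idx F) : Matrix D.Idx D.Idx F) = D.x F (D.neg (D.simple (π i))) t))
    (r : ℕ) (hr : r < D.nroots) :
    ∃ ε : F, (ε = 1 ∨ ε = -1) ∧ ∀ (g : ↥(D.group F)) (t : F),
      ((g : GL D.Idx F) : Matrix D.Idx D.Idx F) = D.x F r t →
        ((φ g : GL D.Idx F) : Matrix D.Idx D.Idx F) = D.x F (D.permRoot π r) (ε * t) := by
  simp only [chkSym, Bool.and_eq_true, chkSimple, allBelow_iff, decide_eq_true_eq] at hs
  obtain ⟨hsi, hall⟩ := hs
  obtain ⟨α, -, hx⟩ := G.exists_endo (F := F) hW (p := 0) Nat.cast_zero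
    (fun h => absurd h (lt_irrefl 0)) (fun h => absurd h (lt_irrefl 0)) hm
  have heq : φ.toMonoidHom = α := by
    refine G.hom_ext_simple fun g i t hg => Subtype.ext (Units.ext ?_)
    obtain ⟨h1, h2, h3, h4⟩ := hsi i i.isLt
    have he : (List.ofFn fun j : Fin D.rank => ((π j).val, 1)).getD i.val (0, 1) = ((π i).val, 1) := by
      simp [List.getD_eq_getElem?_getD, i.isLt]
    rw [he] at h3 h4
    show ((φ g : GL D.Idx F) : Matrix D.Idx D.Idx F) = _
    rcases hg with hg | hg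
    · rw [(hφ g i t).1 hg, hx g _ t h1 (G.full.eq_x.mp hg), Tab.Good.mapX, h3]
      simp [G.full.coe_x']
    · rw [(hφ g i t).2 hg, hx g _ t h2 (G.full.eq_x.mp hg), Tab.Good.mapX, h4]
      simp [G.full.coe_x']
  obtain ⟨e1, e2, e3⟩ := hall r hr
  refine ⟨((Tab.mapAt m r).2.1 : F), e3.imp (fun h => by simp [h]) (fun h => by simp [h]),
    fun g t hg => ?_⟩
  have h := hx g r t hr (G.full.eq_x.mp hg)
  rw [← heq] at h
  have h' : (φ g : GL D.Idx F) = G.mapX m r t := h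
  rw [h', Tab.Good.mapX, e2, pow_one, e1, G.full.coe_x']

/-- For the Chevalley groups of types D₄ and E₆ (one root length) over any field: if `π` is a symmetry of the Dynkin diagram and `φ` is an automorphism sending `x_{p_i}(t)` to `x_{p_{π i}}(t)` and `x_{-p_i}(t)` to `x_{-p_{π i}}(t)` for every fundamental root `p_i`, then for every root `r` there is a sign `ε = ±1` with `φ(x_r(t)) = x_{π·r}(ε t)` for all `t`, where `π·r` is the root whose coefficients are those of `r` permuted by `π`. -/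
theorem result {F : Type*} [Field F] (D : Cfsg.Lie.ChevalleyDatum) (hD : D ∈ [Cfsg.Lie.chevD4, Cfsg.Lie.chevE6])
    (π : Equiv.Perm (Fin D.rank)) (hπ : D.IsDiagramSymmetry π) (φ : ↥(D.group F) ≃* ↥(D.group F))
    (hφ : ∀ (g : ↥(D.group F)) (i : Fin D.rank) (t : F),
      (((g : GL D.Idx F) : Matrix D.Idx D.Idx F) = D.x F (D.simple i) t →
        ((φ g : GL D.Idx F) : Matrix D.Idx D.Idx F) = D.x F (D.simple (π i)) t) ∧
      (((g : GL D.Idx F) : Matrix D.Idx D.Idx F) = D.x F (D.neg (D.simple i)) t →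
        ((φ g : GL D.Idx F) : Matrix D.Idx D.Idx F) = D.x F (D.neg (D.simple (π i))) t))
    (r : ℕ) (hr : r < D.nroots) :
    ∃ ε : F, (ε = 1 ∨ ε = -1) ∧ ∀ (g : ↥(D.group F)) (t : F),
      ((g : GL D.Idx F) : Matrix D.Idx D.Idx F) = D.x F r t →
        ((φ g : GL D.Idx F) : Matrix D.Idx D.Idx F) = D.x F (D.permRoot π r) (ε * t) := by
  simp only [List.mem_cons, List.not_mem_nil, or_false] at hD
  rcases hD with rfl | rfl
  · exact core CfsgLib.Chev.good_D4 ⟨_, CfsgLib.Chev.wits_D4⟩ (symD4 π hπ).1 (symD4 π hπ).2 φ hφ r hr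
  · exact core CfsgLib.Chev.good_E6 ⟨_, CfsgLib.Chev.wits_E6⟩ (symE6 π hπ).1 (symE6 π hπ).2 φ hφ r hr

end Cfsg.Agent.S2161
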