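import Cfsg.Statements.S1461
import Cfsg.Agent.OddLocal.CoprimeSupplement
import Cfsg.Agent.KGroup.CharP
-- import your own Cfsg.Agent.* helpers here

set_option autoImplicit false
open Cfsg

namespace Cfsg.Agent.S1461

/-- Let G be a finite solvable group, p a prime with G = O_{p',p,p'}(G), and S a Sylow p-subgroup. Then: if S ≤ G' then S ≤ [N_G(S), N_G(S)]; if Y ⊆ S and xYx⁻¹ ⊆ S then x = g c for some g ∈ N_G(S) and c centralizing Y; and for every p-subgroup Q there is x ∈ C_G(Q ∩ S) with xQx⁻¹ ≤ S. -/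
theorem result {G : Type*} [Group G] [Finite G] [Group.IsSolvable G] (p : ℕ) [Fact p.Prime] (hpl : Cfsg.PLengthLE p 1 G) (S : Sylow p G) :
    ((S : Subgroup G) ≤ commutator G → (S : Subgroup G) ≤ ⁅Subgroup.normalizer ((S : Subgroup G) : Set G), Subgroup.normalizer ((S : Subgroup G) : Set G)⁆) ∧
      (∀ (Y : Set G) (x : G), Y ⊆ (S : Subgroup G) → (fun y => x * y * x⁻¹) '' Y ⊆ (S : Subgroup G) →
        ∃ g ∈ Subgroup.normalizer ((S : Subgroup G) : Set G), ∃ c ∈ Subgroup.centralizer Y, g * c = x) ∧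
      ∀ Q : Subgroup G, IsPGroup p Q → ∃ x ∈ Subgroup.centralizer ((Q ⊓ (S : Subgroup G) : Subgroup G) : Set G), Q.map (MulAut.conj x).toMonoidHom ≤ (S : Subgroup G) := by
  obtain ⟨O, hOn, hOc, -, hall⟩ := CfsgLib.OddLocal.Supp.exists_data hpl S
  haveI := hOn
  have hkey : ∀ o ∈ O, ∀ y ∈ (S : Subgroup G), o * y * o⁻¹ ∈ (S : Subgroup G) → o * y = y * o := by
    intro o ho y hy h
    have h1 : o * y * o⁻¹ * y⁻¹ ∈ O := by
      rw [mul_assoc o, mul_assoc o]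
      exact mul_mem ho (Subgroup.Normal.conj_mem hOn _ (inv_mem ho) y)
    have h2 := CfsgLib.CharP.eq_one_of_mem_pgroup S.2 (mul_mem h (inv_mem hy))
      (hOc.coprime_dvd_left (O.orderOf_dvd_natCard h1))
    exact mul_inv_eq_iff_eq_mul.1 (mul_inv_eq_one.1 h2)
  refine ⟨fun hS x hx => ?_, fun Y x hY hxY => ?_, fun Q hQ => ?_⟩
  · refine CfsgLib.OddLocal.Supp.inf_commutator_le (K := O) (H := (S : Subgroup G))
      (eq_top_iff.2 fun g _ => ?_) Subgroup.le_normalizer ?_ ⟨hx, hS hx⟩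
    · obtain ⟨o, ho, n, hn, rfl⟩ := CfsgLib.OddLocal.Supp.exists_decomp hall g
      exact mul_mem (Subgroup.mem_sup_left ho) (Subgroup.mem_sup_right hn)
    · obtain ⟨k, hk⟩ := IsPGroup.iff_card.1 S.2
      exact hk ▸ (hOc.pow_right k).symm
  · obtain ⟨o, ho, n, hn, rfl⟩ := CfsgLib.OddLocal.Supp.exists_decomp hall x
    refine ⟨n, hn, n⁻¹ * o * n, Subgroup.mem_centralizer_iff.2 fun y hy => ?_, by group⟩
    have hy' : n * y * n⁻¹ ∈ (S : Subgroup G) := (Subgroup.mem_normalizer_iff.1 hn y).1 (hY hy)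
    have hc := hkey o ho _ hy' (by
      have h : o * n * y * (o * n)⁻¹ ∈ (S : Subgroup G) := hxY ⟨y, hy, rfl⟩
      simpa [mul_assoc] using h)
    calc y * (n⁻¹ * o * n) = n⁻¹ * (n * y * n⁻¹ * o) * n := by group
      _ = n⁻¹ * (o * (n * y * n⁻¹)) * n := by rw [hc]
      _ = n⁻¹ * o * n * y := by group
  · obtain ⟨o, ho, hoQ⟩ := CfsgLib.OddLocal.Supp.exists_conj_into hQ (hall Q hQ)
    refine ⟨o, Subgroup.mem_centralizer_iff.2 fun y hy => ?_, hoQ⟩
    exact (hkey o ho y hy.2 (hoQ ⟨y, hy.1, rfl⟩)).symm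

end Cfsg.Agent.S1461
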