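import Cfsg.Statements.S3335
-- no helper imports

set_option autoImplicit false
open Cfsg

namespace Cfsg.Agent.S3335

open Pointwise Equiv in
/-- The relations of Carmichael. -/
structure Rel {G : Type*} [Group G] (x : ℕ → G) (n : ℕ) : Prop where
  cube : 0 < n → x 0 ^ 3 = 1
  invol : ∀ i, 1 ≤ i → i < n → x i ^ 2 = 1
  braid : ∀ i, i + 1 < n → (x i * x (i + 1)) ^ 3 = 1
  far : ∀ i j, i + 1 < j → j < n → (x i * x j) ^ 2 = 1

section Bound

variable {G : Type*} [Group G]

/-- `x k * x (k+1) * ... * x (n-1)`. -/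
def chain (x : ℕ → G) (n k : ℕ) : G := ((List.range' k (n - k)).map x).prod

theorem chain_self (x : ℕ → G) (n : ℕ) : chain x n n = 1 := by simp [chain]

theorem chain_succ (x : ℕ → G) {n k : ℕ} (h : k < n) : chain x n k = x k * chain x n (k + 1) := by
  rw [chain, chain, show n - k = (n - (k + 1)) + 1 by omega, List.range'_succ, List.map_cons, List.prod_cons]

variable {x : ℕ → G} {n : ℕ}

theorem Rel.inv_eq (h : Rel x n) {i : ℕ} (hi : 1 ≤ i) (hin : i < n) : (x i)⁻¹ = x i := by
  rw [inv_eq_iff_mul_eq_one, ← pow_two, h.invol i hi hin]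

theorem Rel.mul_far (h : Rel x n) {i j : ℕ} (hij : i + 1 < j) (hj : j < n) :
    x i * x j = x j * (x i)⁻¹ := by
  have := h.far i j hij hj
  rw [pow_two, mul_eq_one_iff_eq_inv, mul_inv_rev, h.inv_eq (by omega) hj] at this
  exact this

theorem Rel.inv_mul_far (h : Rel x n) {i j : ℕ} (hij : i + 1 < j) (hj : j < n) :
    (x i)⁻¹ * x j = x j * x i := by
  rw [inv_mul_eq_iff_eq_mul, ← mul_assoc, h.mul_far hij hj, inv_mul_cancel_right]

theorem Rel.comm_far (h : Rel x n) {i j : ℕ} (hi : 1 ≤ i) (hij : i + 1 < j) (hj : j < n) :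
    x i * x j = x j * x i := by
  rw [h.mul_far hij hj, h.inv_eq hi (by omega)]

theorem Rel.push (h : Rel x n) (H : Subgroup G) {i : ℕ} (hi : x i ∈ H) :
    ∀ d k, n - k = d → k ≤ n → i + 1 < k →
      ∀ e, e = x i ∨ e = (x i)⁻¹ → ∃ e' ∈ H, e * chain x n k = chain x n k * e' := by
  intro d
  induction d with
  | zero =>
    intro k hk hkn hik e he
    rw [show k = n by omega, chain_self]
    refine ⟨e, ?_, by simp⟩
    rcases he with rfl | rfl
    exacts [hi, H.inv_mem hi]
  | succ d ih =>
    intro k hk hkn hik e he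
    rw [chain_succ x (show k < n by omega)]
    rcases he with rfl | rfl
    · obtain ⟨e', he', heq⟩ := ih (k + 1) (by omega) (by omega) (by omega) _ (Or.inr rfl)
      exact ⟨e', he', by rw [← mul_assoc, h.mul_far hik (by omega), mul_assoc, heq, mul_assoc]⟩
    · obtain ⟨e', he', heq⟩ := ih (k + 1) (by omega) (by omega) (by omega) _ (Or.inl rfl)
      exact ⟨e', he', by rw [← mul_assoc, h.inv_mul_far hik (by omega), mul_assoc, heq, mul_assoc]⟩

theorem Rel.braid' (h : Rel x n) {k : ℕ} (hk : 1 ≤ k) (hkn : k + 1 < n) :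
    x (k + 1) * x k * x (k + 1) = x k * x (k + 1) * x k := by
  have h3 := h.braid k hkn
  rw [pow_succ, pow_two, mul_eq_one_iff_eq_inv, mul_inv_rev, h.inv_eq hk (by omega),
    h.inv_eq (show 1 ≤ k + 1 by omega) hkn] at h3
  calc x (k + 1) * x k * x (k + 1)
      = (x k)⁻¹ * (x k * x (k + 1) * (x k * x (k + 1))) := by
        simp only [mul_assoc]; rw [inv_mul_cancel_left]
    _ = x k * x (k + 1) * x k := by
        rw [h3, h.inv_eq hk (by omega)]; simp only [mul_assoc]

theorem Rel.braid0 (h : Rel x n) (hn : 1 < n) :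
    x 1 * x 0 * x 1 = (x 0)⁻¹ * (x 1 * (x 0)⁻¹) := by
  have h3 := h.braid 0 (by omega)
  rw [pow_succ, pow_two, mul_eq_one_iff_eq_inv, mul_inv_rev, h.inv_eq le_rfl hn] at h3
  calc x 1 * x 0 * x 1 = (x 0)⁻¹ * (x 0 * x 1 * (x 0 * x 1)) := by
        simp only [mul_assoc]; rw [inv_mul_cancel_left]
    _ = _ := by rw [h3]

theorem Rel.pull (h : Rel x n) (H : Subgroup G) (hH : ∀ j, j + 1 < n → x j ∈ H) :
    ∀ i k, 1 ≤ k → k < i → i < n → ∃ e ∈ H, x i * chain x n k = chain x n k * e := by
  intro i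
  suffices ∀ d k, i = k + 1 + d → 1 ≤ k → i < n → ∃ e ∈ H, x i * chain x n k = chain x n k * e from
    fun k hk hki hin => this (i - (k + 1)) k (by omega) hk hin
  intro d
  induction d with
  | zero =>
    intro k hk hk1 hin
    obtain rfl : i = k + 1 := by omega
    obtain ⟨e, he, heq⟩ := h.push H (hH k (by omega)) _ (k + 2) rfl (by omega) (by omega) _ (Or.inl rfl)
    refine ⟨e, he, ?_⟩
    rw [chain_succ x (show k < n by omega), chain_succ x hin, ← mul_assoc, ← mul_assoc, h.braid' hk1 hin,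
      mul_assoc (x k * x (k + 1)), show k + 1 + 1 = k + 2 from rfl, heq]
    simp only [mul_assoc]
  | succ d ih =>
    intro k hk hk1 hin
    obtain ⟨e, he, heq⟩ := ih (k + 1) (by omega) (by omega) hin
    refine ⟨e, he, ?_⟩
    rw [chain_succ x (show k < n by omega), ← mul_assoc, ← h.comm_far hk1 (by omega) hin, mul_assoc, heq,
      mul_assoc]

theorem card_bound : ∀ (n : ℕ) (x : ℕ → G), Rel x n →
    Finite (Subgroup.closure (x '' Set.Iio n)) ∧
      2 * Nat.card (Subgroup.closure (x '' Set.Iio n)) ≤ (n + 2).factorial := by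
  intro n
  induction n with
  | zero =>
    intro x _
    have hbot : Subgroup.closure (x '' Set.Iio 0) = ⊥ := by simp
    rw [hbot]
    exact ⟨inferInstance, by simp [Nat.factorial]⟩
  | succ N ih =>
    intro x h
    rcases Nat.eq_zero_or_pos N with rfl | hN
    · have hz : Subgroup.closure (x '' Set.Iio 1) = Subgroup.zpowers (x 0) := by
        rw [Subgroup.zpowers_eq_closure, show Set.Iio 1 = {0} by ext; simp, Set.image_singleton]
      rw [zero_add, hz]
      have h3 : orderOf (x 0) ∣ 3 := orderOf_dvd_of_pow_eq_one (h.cube one_pos)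
      have hpos : 0 < orderOf (x 0) := Nat.pos_of_dvd_of_pos h3 (by norm_num)
      have hle := Nat.le_of_dvd (by norm_num) h3
      refine ⟨Nat.finite_of_card_ne_zero (by rw [Nat.card_zpowers]; omega), ?_⟩
      rw [Nat.card_zpowers]
      show 2 * orderOf (x 0) ≤ 6
      omega
    obtain ⟨hfin, hle⟩ := ih x ⟨fun _ => h.cube (by omega), fun i a b => h.invol i a (by omega),
      fun i a => h.braid i (by omega), fun i j a b => h.far i j a (by omega)⟩
    set H := Subgroup.closure (x '' Set.Iio N) with hHdef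
    have hH : ∀ j, j + 1 < N + 1 → x j ∈ H := fun j hj =>
      Subgroup.subset_closure ⟨j, show j < N by omega, rfl⟩
    set c := chain x (N + 1) with hc
    set rep : Option (Option (Fin (N + 1))) → G := fun o => o.elim ((x 0)⁻¹ * c 1)
      (fun o' => o'.elim (x 0 * c 1) (fun k => c (k.1 + 1))) with hrep
    let U : Set G := {g | ∃ o, ∃ e ∈ H, g = rep o * e}
    have hck : ∀ k, 1 ≤ k → k ≤ N + 1 → ∀ e ∈ H, c k * e ∈ U := fun k h1 h2 e he =>
      ⟨some (some ⟨k - 1, by omega⟩), e, he, by
        show _ = c (k - 1 + 1) * e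
        rw [Nat.sub_add_cancel h1]⟩
    have hA : ∀ e ∈ H, x 0 * c 1 * e ∈ U := fun e he => ⟨some none, e, he, rfl⟩
    have hB : ∀ e ∈ H, (x 0)⁻¹ * c 1 * e ∈ U := fun e he => ⟨none, e, he, rfl⟩
    have h03 : x 0 * x 0 = (x 0)⁻¹ := by
      rw [← mul_eq_one_iff_eq_inv, ← pow_two, ← pow_succ]; exact h.cube (by omega)
    have hcstep : ∀ k, k < N + 1 → c k = x k * c (k + 1) := fun k hk => chain_succ x hk
    have step : ∀ i, i < N + 1 → ∀ u ∈ U, x i * u ∈ U := by
      intro i hi u hu
      obtain ⟨o, e, he, rfl⟩ := hu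
      rcases o with _ | _ | ⟨k, hk⟩
      · show x i * ((x 0)⁻¹ * c 1 * e) ∈ U
        rcases Nat.lt_trichotomy i 1 with hi1 | rfl | hi1
        · obtain rfl : i = 0 := by omega
          rw [← mul_assoc, ← mul_assoc, mul_inv_cancel, one_mul]
          exact hck 1 le_rfl (by omega) e he
        · obtain ⟨e', he', heq⟩ := h.push H (hH 0 (by omega)) _ 2 rfl (by omega) (by omega) _ (Or.inl rfl)
          have hb : x 1 * (x 0)⁻¹ * x 1 = x 0 * (x 1 * x 0) := by
            have := congrArg (·⁻¹) (h.braid0 (by omega))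
            simp only [mul_inv_rev, inv_inv, h.inv_eq le_rfl hi] at this
            simpa only [mul_assoc] using this
          rw [hcstep 1 hi, show x 1 * ((x 0)⁻¹ * (x 1 * c (1 + 1)) * e) =
            (x 1 * (x 0)⁻¹ * x 1) * c 2 * e by simp only [mul_assoc], hb,
            show x 0 * (x 1 * x 0) * c 2 * e = x 0 * (x 1 * (x 0 * c 2)) * e by simp only [mul_assoc],
            heq, show x 0 * (x 1 * (c 2 * e')) * e = x 0 * (x 1 * c (1 + 1)) * (e' * e) by
              simp only [mul_assoc], ← hcstep 1 hi]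
          exact hA _ (H.mul_mem he' he)
        · obtain ⟨e', he', heq⟩ := h.pull H hH i 1 le_rfl hi1 hi
          have hm : x i * (x 0)⁻¹ = x 0 * x i := by
            rw [mul_inv_eq_iff_eq_mul, mul_assoc, ← mul_right_inj (x 0)⁻¹, inv_mul_cancel_left,
              h.inv_mul_far hi1 hi]
          rw [show x i * ((x 0)⁻¹ * c 1 * e) = (x i * (x 0)⁻¹) * c 1 * e by simp only [mul_assoc], hm,
            show x 0 * x i * c 1 * e = x 0 * (x i * c 1) * e by simp only [mul_assoc], heq,
            show x 0 * (c 1 * e') * e = x 0 * c 1 * (e' * e) by simp only [mul_assoc]]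
          exact hA _ (H.mul_mem he' he)
      · show x i * (x 0 * c 1 * e) ∈ U
        rcases Nat.lt_trichotomy i 1 with hi1 | rfl | hi1
        · obtain rfl : i = 0 := by omega
          rw [← mul_assoc, ← mul_assoc, h03]
          exact hB e he
        · obtain ⟨e', he', heq⟩ := h.push H (hH 0 (by omega)) _ 2 rfl (by omega) (by omega) _ (Or.inr rfl)
          rw [hcstep 1 hi, show x 1 * (x 0 * (x 1 * c (1 + 1)) * e) = (x 1 * x 0 * x 1) * c 2 * e by
              simp only [mul_assoc], h.braid0 (by omega),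
            show (x 0)⁻¹ * (x 1 * (x 0)⁻¹) * c 2 * e = (x 0)⁻¹ * (x 1 * ((x 0)⁻¹ * c 2)) * e by
              simp only [mul_assoc], heq,
            show (x 0)⁻¹ * (x 1 * (c 2 * e')) * e = (x 0)⁻¹ * (x 1 * c (1 + 1)) * (e' * e) by
              simp only [mul_assoc], ← hcstep 1 hi]
          exact hB _ (H.mul_mem he' he)
        · obtain ⟨e', he', heq⟩ := h.pull H hH i 1 le_rfl hi1 hi
          have hm : x i * x 0 = (x 0)⁻¹ * x i := by
            rw [eq_inv_mul_iff_mul_eq, ← mul_assoc, h.mul_far hi1 hi, inv_mul_cancel_right]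
          rw [show x i * (x 0 * c 1 * e) = (x i * x 0) * c 1 * e by simp only [mul_assoc], hm,
            show (x 0)⁻¹ * x i * c 1 * e = (x 0)⁻¹ * (x i * c 1) * e by simp only [mul_assoc], heq,
            show (x 0)⁻¹ * (c 1 * e') * e = (x 0)⁻¹ * c 1 * (e' * e) by simp only [mul_assoc]]
          exact hB _ (H.mul_mem he' he)
      · show x i * (c (k + 1) * e) ∈ U
        rcases (show i = 0 ∨ 1 ≤ i by omega) with rfl | hi0
        · rcases (show k = 0 ∨ 1 ≤ k by omega) with rfl | hk0
          · rw [← mul_assoc]; exact hA e he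
          · obtain ⟨e', he', heq⟩ := h.push H (hH 0 (by omega)) _ (k + 1) rfl (by omega) (by omega) _ (Or.inl rfl)
            rw [← mul_assoc, heq, mul_assoc]
            exact hck _ (by omega) (by omega) _ (H.mul_mem he' he)
        rcases (show i + 1 < k + 1 ∨ i + 1 = k + 1 ∨ i = k + 1 ∨ k + 1 < i by omega) with hc' | hc' | hc' | hc'
        · obtain ⟨e', he', heq⟩ := h.push H (hH i (by omega)) _ (k + 1) rfl (by omega) hc' _ (Or.inl rfl)
          rw [← mul_assoc, heq, mul_assoc]
          exact hck _ (by omega) (by omega) _ (H.mul_mem he' he)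
        · obtain rfl : i = k := by omega
          rw [← mul_assoc, ← hcstep i hi]
          exact hck _ hi0 (by omega) _ he
        · subst hc'
          rw [hcstep (k + 1) hi, ← mul_assoc, ← mul_assoc, ← pow_two, h.invol _ hi0 hi, one_mul]
          exact hck _ (by omega) (by omega) _ he
        · obtain ⟨e', he', heq⟩ := h.pull H hH i (k + 1) (by omega) hc' hi
          rw [← mul_assoc, heq, mul_assoc]
          exact hck _ (by omega) (by omega) _ (H.mul_mem he' he)
    have hsub : (Subgroup.closure (x '' Set.Iio (N + 1)) : Set G) ⊆ U := by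
      intro g hg
      have h1 : (1 : G) ∈ U := by
        have := hck (N + 1) (by omega) le_rfl 1 H.one_mem
        rwa [hc, chain_self, one_mul] at this
      suffices ∀ u ∈ U, g * u ∈ U ∧ g⁻¹ * u ∈ U by simpa using (this 1 h1).1
      induction hg using Subgroup.closure_induction with
      | mem y hy =>
        obtain ⟨i, hi, rfl⟩ := hy
        intro u hu
        refine ⟨step i hi u hu, ?_⟩
        rcases (show i = 0 ∨ 1 ≤ i by omega) with rfl | hi0
        · rw [← h03, mul_assoc]; exact step 0 hi _ (step 0 hi u hu)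
        · rw [h.inv_eq hi0 hi]; exact step i hi u hu
      | one => intro u hu; simpa using hu
      | mul a b _ _ ha hb =>
        intro u hu
        exact ⟨by rw [mul_assoc]; exact (ha _ (hb u hu).1).1,
          by rw [mul_inv_rev, mul_assoc]; exact (hb _ (ha u hu).2).2⟩
      | inv a _ ha =>
        intro u hu
        exact ⟨(ha u hu).2, by rw [inv_inv]; exact (ha u hu).1⟩
    let F : Option (Option (Fin (N + 1))) × H → G := fun p => rep p.1 * p.2
    have hsub' : (Subgroup.closure (x '' Set.Iio (N + 1)) : Set G) ⊆ Set.range F := fun g hg => by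
      obtain ⟨o, e, he, rfl⟩ := hsub hg
      exact ⟨(o, ⟨e, he⟩), rfl⟩
    have hfinr : (Set.range F).Finite := Set.finite_range F
    refine ⟨(hfinr.subset hsub').to_subtype, ?_⟩
    have hcount : Nat.card (Subgroup.closure (x '' Set.Iio (N + 1))) ≤ (N + 3) * Nat.card H := by
      refine le_trans (Nat.card_mono hfinr hsub') ?_
      refine le_trans (Finite.card_range_le F) ?_
      rw [Nat.card_prod, Nat.card_eq_fintype_card, Fintype.card_option, Fintype.card_option, Fintype.card_fin]
    calc 2 * _ ≤ 2 * ((N + 3) * Nat.card H) := Nat.mul_le_mul_left 2 hcount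
      _ = (N + 3) * (2 * Nat.card H) := by ring
      _ ≤ (N + 3) * (N + 2).factorial := Nat.mul_le_mul_left _ hle
      _ = (N + 1 + 2).factorial := (Nat.factorial_succ (N + 2)).symm

end Bound

open Equiv Equiv.Perm

/-- The basic transposition `(i i+1)` of `Fin (m + 3)` (junk outside the range). -/
def adj (m i : ℕ) : Equiv.Perm (Fin (m + 3)) :=
  if h : i + 1 < m + 3 then Equiv.swap ⟨i, by omega⟩ ⟨i + 1, h⟩ else 1

theorem adj_mul_self (m i : ℕ) : adj m i * adj m i = 1 := by
  unfold adj; split <;> simp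

theorem adj_sign (m i : ℕ) (h : i + 1 < m + 3) : Perm.sign (adj m i) = -1 := by
  rw [adj, dif_pos h, sign_swap]
  simp [Fin.ext_iff]

theorem adj_comm (m : ℕ) {i j : ℕ} (h : i + 1 < j) : adj m i * adj m j = adj m j * adj m i := by
  unfold adj
  split <;> split <;> try simp
  refine (Equiv.Perm.Disjoint.commute ?_).eq
  intro a
  by_cases h1 : a.1 = i ∨ a.1 = i + 1
  · exact Or.inr (swap_apply_of_ne_of_ne (by simp [Fin.ext_iff]; omega) (by simp [Fin.ext_iff]; omega))
  · exact Or.inl (swap_apply_of_ne_of_ne (by simp [Fin.ext_iff]; omega) (by simp [Fin.ext_iff]; omega))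

theorem adj_braid (m : ℕ) {i : ℕ} (h : i + 2 < m + 3) : (adj m i * adj m (i + 1)) ^ 3 = 1 := by
  unfold adj
  rw [dif_pos (by omega), dif_pos h]
  have h3 := isThreeCycle_swap_mul_swap_same (a := (⟨i + 1, by omega⟩ : Fin (m + 3)))
    (b := ⟨i, by omega⟩) (c := ⟨i + 2, h⟩) (by simp [Fin.ext_iff]) (by simp [Fin.ext_iff]) (by simp [Fin.ext_iff])
  have hsc := Equiv.swap_comm (⟨i + 1, by omega⟩ : Fin (m + 3)) ⟨i, by omega⟩
  rw [hsc] at h3
  have e := pow_orderOf_eq_one (Equiv.swap (⟨i, by omega⟩ : Fin (m + 3)) ⟨i + 1, by omega⟩ *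
    Equiv.swap ⟨i + 1, by omega⟩ ⟨i + 2, h⟩)
  rw [h3.orderOf] at e
  exact e

/-- The generators in the alternating group. -/
def gen (m i : ℕ) : alternatingGroup (Fin (m + 3)) :=
  if h : i + 2 < m + 3 then ⟨adj m 0 * adj m (i + 1), by
    rw [mem_alternatingGroup, map_mul, adj_sign m 0 (by omega), adj_sign m (i + 1) (by omega)]; rfl⟩ else 1

theorem gen_val {m i : ℕ} (h : i + 2 < m + 3) :
    (gen m i : Equiv.Perm (Fin (m + 3))) = adj m 0 * adj m (i + 1) := by
  rw [gen, dif_pos h]

theorem gen_rel (m : ℕ) : Rel (gen m) (m + 1) := by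
  refine ⟨fun _ => Subtype.ext ?_, fun i hi hin => Subtype.ext ?_, fun i hi => Subtype.ext ?_,
    fun i j hij hj => Subtype.ext ?_⟩ <;> push_cast
  · rw [gen_val (by omega)]; exact adj_braid m (by omega)
  · rw [gen_val (by omega), Commute.mul_pow (adj_comm m (show 0 + 1 < i + 1 by omega)), pow_two, pow_two,
      adj_mul_self, adj_mul_self, one_mul]
  · rw [gen_val (by omega), gen_val (by omega)]
    have hc : adj m 0 * adj m (i + 1 + 1) = adj m (i + 1 + 1) * adj m 0 := adj_comm m (by omega)
    rcases Nat.eq_zero_or_pos i with rfl | hi0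
    · rw [show adj m 0 * adj m (0 + 1) * (adj m 0 * adj m (0 + 1 + 1)) =
        (adj m 0 * adj m 1 * adj m 0) * adj m 2 by simp only [mul_assoc]]
      have hb : adj m 0 * adj m 1 * adj m 0 = adj m 0 * adj m 1 * (adj m 0)⁻¹ := by
        rw [inv_eq_of_mul_eq_one_right (adj_mul_self m 0)]
      have h2 : adj m 2 = adj m 0 * adj m 2 * (adj m 0)⁻¹ := by
        rw [show adj m 0 * adj m 2 = adj m 2 * adj m 0 from hc, mul_inv_cancel_right]
      rw [hb]
      conv_lhs => rw [h2]
      rw [conj_mul, conj_pow, adj_braid m (show 1 + 2 < m + 3 by omega), mul_one, mul_inv_cancel]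
    · have hc1 : adj m 0 * adj m (i + 1) = adj m (i + 1) * adj m 0 := adj_comm m (by omega)
      rw [show adj m 0 * adj m (i + 1) * (adj m 0 * adj m (i + 1 + 1)) =
        adj m (i + 1) * adj m (i + 1 + 1) by
          rw [hc1, mul_assoc, ← mul_assoc (adj m 0), adj_mul_self, one_mul]]
      exact adj_braid m (by omega)
  · rw [gen_val (by omega), gen_val (by omega)]
    have hc : adj m (i + 1) * adj m (j + 1) = adj m (j + 1) * adj m (i + 1) := adj_comm m (by omega)
    have hc0 : adj m 0 * adj m (j + 1) = adj m (j + 1) * adj m 0 := adj_comm m (by omega)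
    rw [show adj m 0 * adj m (i + 1) * (adj m 0 * adj m (j + 1)) =
      (adj m 0 * adj m (i + 1) * (adj m 0)⁻¹) * adj m (j + 1) by
        rw [inv_eq_of_mul_eq_one_right (adj_mul_self m 0)]; simp only [mul_assoc]]
    have h2 : adj m (j + 1) = adj m 0 * adj m (j + 1) * (adj m 0)⁻¹ := by
      rw [hc0, mul_inv_cancel_right]
    conv_lhs => rw [h2]
    rw [conj_mul, conj_pow, Commute.mul_pow hc, pow_two, pow_two, adj_mul_self, adj_mul_self]
    simp

theorem gen_closure (m : ℕ) : Subgroup.closure (gen m '' Set.Iio (m + 1)) = ⊤ := by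
  set R := (Subgroup.closure (gen m '' Set.Iio (m + 1))).map (alternatingGroup (Fin (m + 3))).subtype
  have hgen : ∀ i, i < m + 1 → adj m 0 * adj m (i + 1) ∈ R := fun i hi =>
    ⟨gen m i, Subgroup.subset_closure ⟨i, hi, rfl⟩, gen_val (by omega)⟩
  have key : ∀ σ : Equiv.Perm (Fin (m + 3)), σ ∈ R ∨ adj m 0 * σ ∈ R := by
    intro σ
    have hσ : σ ∈ Submonoid.closure (Set.range fun i : Fin (m + 2) => Equiv.swap i.castSucc i.succ) := by
      rw [mclosure_swap_castSucc_succ]; trivial
    induction hσ using Submonoid.closure_induction_left with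
    | one => exact Or.inl R.one_mem
    | mul_left s hs y _ ih =>
      obtain ⟨k, rfl⟩ := hs
      have hs : Equiv.swap k.castSucc k.succ = adj m k.1 := by
        rw [adj, dif_pos (by have := k.2; omega)]; rfl
      simp only [hs]
      rcases Nat.eq_zero_or_pos k.1 with hk | hk
      · rw [hk]
        rcases ih with h | h
        · exact Or.inr (by rwa [← mul_assoc, adj_mul_self, one_mul])
        · exact Or.inl h
      · have hg : adj m 0 * adj m k.1 ∈ R := by
          have := hgen (k.1 - 1) (by have := k.2; omega)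
          rwa [show k.1 - 1 + 1 = k.1 by omega] at this
        rcases ih with h | h
        · exact Or.inr (by rw [← mul_assoc]; exact R.mul_mem hg h)
        · refine Or.inl ?_
          have : adj m k.1 * y = (adj m 0 * adj m k.1)⁻¹ * (adj m 0 * y) := by
            rw [mul_inv_rev, inv_eq_of_mul_eq_one_right (adj_mul_self m k.1),
              inv_eq_of_mul_eq_one_right (adj_mul_self m 0), mul_assoc, ← mul_assoc (adj m 0),
              adj_mul_self, one_mul]
          rw [this]; exact R.mul_mem (R.inv_mem hg) h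
  rw [eq_top_iff]
  rintro ⟨σ, hσ⟩ -
  rcases key σ with h | h
  · obtain ⟨τ, hτ, rfl⟩ := h
    exact hτ
  · obtain ⟨τ, hτ, he⟩ := h
    have hs := congrArg Perm.sign he
    rw [map_mul, adj_sign m 0 (by omega), show Perm.sign σ = 1 from hσ] at hs
    rw [show Perm.sign ((alternatingGroup (Fin (m + 3))).subtype τ) = 1 from τ.2] at hs
    exact absurd hs (by decide)


/-- A presentation of the alternating group of degree n ≥ 3 on generators x_1, …, x_{n−2} (indexed here by 0, …, n−3): the first generator cubes to 1, every other generator squares to 1, the product of two consecutive generators has order dividing 3, and the product of two generators at distance at least 2 has order dividing 2. The group so presented is isomorphic to the alternating group of degree n. -/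
theorem result (n : ℕ) (hn : 3 ≤ n) :
    Nonempty (PresentedGroup
      ({g : FreeGroup (Fin (n - 2)) | ∃ i : Fin (n - 2), i.val = 0 ∧ g = FreeGroup.of i ^ 3} ∪
       {g | ∃ i : Fin (n - 2), 1 ≤ i.val ∧ g = FreeGroup.of i ^ 2} ∪
       {g | ∃ i j : Fin (n - 2), j.val = i.val + 1 ∧ g = (FreeGroup.of i * FreeGroup.of j) ^ 3} ∪
       {g | ∃ i j : Fin (n - 2), i.val + 1 < j.val ∧ g = (FreeGroup.of i * FreeGroup.of j) ^ 2})
      ≃* alternatingGroup (Fin n)) := by
  obtain ⟨m, rfl⟩ : ∃ m, n = m + 3 := ⟨n - 3, by omega⟩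
  set rels := ({g : FreeGroup (Fin (m + 3 - 2)) | ∃ i : Fin (m + 3 - 2), i.val = 0 ∧ g = FreeGroup.of i ^ 3} ∪
       {g | ∃ i : Fin (m + 3 - 2), 1 ≤ i.val ∧ g = FreeGroup.of i ^ 2} ∪
       {g | ∃ i j : Fin (m + 3 - 2), j.val = i.val + 1 ∧ g = (FreeGroup.of i * FreeGroup.of j) ^ 3} ∪
       {g | ∃ i j : Fin (m + 3 - 2), i.val + 1 < j.val ∧ g = (FreeGroup.of i * FreeGroup.of j) ^ 2}) with hrels
  let x : ℕ → PresentedGroup rels := fun i =>
    if h : i < m + 3 - 2 then PresentedGroup.of ⟨i, h⟩ else 1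
  have hxof : ∀ i : Fin (m + 3 - 2), x i.1 = PresentedGroup.of i := fun i => dif_pos i.2
  have hrel : Rel x (m + 1) := by
    have h1 : ∀ r ∈ rels, PresentedGroup.mk rels r = 1 := fun r hr => PresentedGroup.one_of_mem hr
    have hlt : ∀ i, i < m + 1 → i < m + 3 - 2 := fun i h => by omega
    refine ⟨fun h0 => ?_, fun i hi hin => ?_, fun i hi => ?_, fun i j hij hj => ?_⟩
    · have := h1 _ (Or.inl (Or.inl (Or.inl ⟨⟨0, hlt 0 h0⟩, rfl, rfl⟩)))
      rw [map_pow] at this
      rw [show x 0 = x (⟨0, hlt 0 h0⟩ : Fin (m + 3 - 2)).1 from rfl, hxof]; exact this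
    · have := h1 _ (Or.inl (Or.inl (Or.inr ⟨⟨i, hlt i hin⟩, hi, rfl⟩)))
      rw [map_pow] at this
      rw [show x i = x (⟨i, hlt i hin⟩ : Fin (m + 3 - 2)).1 from rfl, hxof]; exact this
    · have := h1 _ (Or.inl (Or.inr ⟨⟨i, hlt i (by omega)⟩, ⟨i + 1, hlt _ hi⟩, rfl, rfl⟩))
      rw [map_pow, map_mul] at this
      rw [show x i = x (⟨i, hlt i (by omega)⟩ : Fin (m + 3 - 2)).1 from rfl,
        show x (i + 1) = x (⟨i + 1, hlt _ hi⟩ : Fin (m + 3 - 2)).1 from rfl, hxof, hxof]; exact this
    · have := h1 _ (Or.inr ⟨⟨i, hlt i (by omega)⟩, ⟨j, hlt _ hj⟩, hij, rfl⟩)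
      rw [map_pow, map_mul] at this
      rw [show x i = x (⟨i, hlt i (by omega)⟩ : Fin (m + 3 - 2)).1 from rfl,
        show x j = x (⟨j, hlt _ hj⟩ : Fin (m + 3 - 2)).1 from rfl, hxof, hxof]; exact this
  have htop : Subgroup.closure (x '' Set.Iio (m + 1)) = ⊤ := by
    rw [eq_top_iff, ← PresentedGroup.closure_range_of rels]
    refine Subgroup.closure_mono ?_
    rintro _ ⟨i, rfl⟩
    exact ⟨i.1, by have := i.2; show i.1 < m + 1; omega, hxof i⟩
  obtain ⟨hfin, hbound⟩ := card_bound (m + 1) x hrel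
  have hliftable : ∀ r ∈ rels, FreeGroup.lift (fun i : Fin (m + 3 - 2) => gen m i.1) r = 1 := by
    intro r hr
    obtain ⟨g0, g1, g2, g3⟩ := gen_rel m
    rcases hr with ((⟨i, hi, rfl⟩ | ⟨i, hi, rfl⟩) | ⟨i, j, hij, rfl⟩) | ⟨i, j, hij, rfl⟩
    · simp only [map_pow, FreeGroup.lift_apply_of, hi]
      exact g0 (by omega)
    · simp only [map_pow, FreeGroup.lift_apply_of]
      exact g1 _ hi (by have := i.2; omega)
    · simp only [map_pow, map_mul, FreeGroup.lift_apply_of, hij]
      exact g2 _ (by have := j.2; omega)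
    · simp only [map_pow, map_mul, FreeGroup.lift_apply_of]
      exact g3 _ _ hij (by have := j.2; omega)
  let f : PresentedGroup rels →* alternatingGroup (Fin (m + 3)) := PresentedGroup.toGroup hliftable
  have hsurj : Function.Surjective f := by
    rw [← MonoidHom.range_eq_top, eq_top_iff, ← gen_closure m]
    rw [Subgroup.closure_le]
    rintro _ ⟨i, hi, rfl⟩
    exact ⟨PresentedGroup.of ⟨i, by have : i < m + 1 := hi; omega⟩, PresentedGroup.toGroup.of _⟩
  haveI : Finite (PresentedGroup rels) := by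
    rw [htop] at hfin
    exact Finite.of_equiv _ Subgroup.topEquiv.toEquiv
  refine ⟨MulEquiv.ofBijective f (hsurj.bijective_of_nat_card_le ?_)⟩
  rw [htop, Subgroup.card_top] at hbound
  have h4 : (m + 1 + 2).factorial = (m + 3).factorial := rfl
  have h2 : 2 * Nat.card (alternatingGroup (Fin (m + 3))) = (m + 3).factorial := by
    haveI : Nontrivial (Fin (m + 3)) := Fin.nontrivial_iff_two_le.2 (by omega)
    rw [nat_card_alternatingGroup, Nat.card_fin,
      Nat.mul_div_cancel' (Nat.dvd_factorial two_pos (by omega))]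
  omega

end Cfsg.Agent.S3335
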