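import Cfsg.Statements.S0938
import Cfsg.Agent.Blocks.Cover
import Cfsg.Agent.Blocks.Principal
import Cfsg.Agent.Char.Kernel

set_option autoImplicit false
open Cfsg

namespace Cfsg.Agent.S0938

/-- Let B be a block of the finite group G relative to a maximal ideal M of the algebraic integers containing the prime p, and let χ ∈ B. Then the kernel of B (the set of g with ψ g = ψ 1 for all ψ ∈ B) is a normal subgroup of order prime to p contained in the kernel of χ, and it contains every normal subgroup of order prime to p on which χ takes the value χ(1); that is, it is O_p' of the kernel of χ. -/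
theorem result {G : Type*} [Group G] [Finite G] (p : ℕ) [Fact p.Prime] (M : Ideal Cfsg.AlgInt) (hM : Cfsg.IsPModular p M) (B : Set (Cfsg.IrrCharacter G)) (hB : Cfsg.IsPBlock M B) (χ : Cfsg.IrrCharacter G) (hχ : χ ∈ B) : ∃ K : Subgroup G, K.Normal ∧ (K : Set G) = Cfsg.blockKer B ∧ ¬ p ∣ Nat.card K ∧ (∀ g ∈ K, (χ : G → ℂ) g = (χ : G → ℂ) 1) ∧ ∀ N : Subgroup G, N.Normal → ¬ p ∣ Nat.card N → (∀ g ∈ N, (χ : G → ℂ) g = (χ : G → ℂ) 1) → N ≤ K := by
  classical
  haveI := hM.2.1.isPrime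
  haveI := Fintype.ofFinite G
  letI := CfsgLib.Block.Chr.irrFintype (G := G)
  set K : Subgroup G := ⨅ ψ : {ψ : Cfsg.IrrCharacter G // ψ ∈ B},
    CfsgLib.Char.kerSubgroup (CfsgLib.Block.Chr.isCharacter_irr ψ.1) with hKdef
  have hmem : ∀ g, g ∈ K ↔ ∀ ψ ∈ B, (ψ : G → ℂ) g = (ψ : G → ℂ) 1 := by
    intro g
    rw [hKdef, Subgroup.mem_iInf]
    exact ⟨fun h ψ hψ => (CfsgLib.Char.mem_kerSubgroup _ g).1 (h ⟨ψ, hψ⟩),
      fun h ψ => (CfsgLib.Char.mem_kerSubgroup _ g).2 (h ψ.1 ψ.2)⟩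
  refine ⟨K, ?_, ?_, ?_, fun g hg => (hmem g).1 hg χ hχ, fun N hN hcop htriv g hg => ?_⟩
  · exact Subgroup.normal_iInf_normal fun ψ => CfsgLib.Char.kerSubgroup_normal _
  · ext g; exact hmem g
  · intro hdvd
    obtain ⟨u, hu⟩ := exists_prime_orderOf_dvd_card' p hdvd
    rw [← Subgroup.orderOf_coe] at hu
    have h := CfsgLib.Block.weak_orth hM (CfsgLib.Block.isIntClass_blockCoeff hB) (g := (1 : G))
      (h := (u : G)) (by simp [hM.1.ne_one]) (by rw [hu])
    have hsum : ∑ ψ ∈ Finset.univ.filter (· ∈ B), Cfsg.charDegree (ψ : G → ℂ) ^ 2 = 0 := by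
      refine Nat.cast_injective (R := ℂ) ?_
      rw [Nat.cast_sum, Nat.cast_zero]
      refine (Finset.sum_congr rfl fun ψ hψ => ?_).trans h
      rw [(hmem u).1 u.2 ψ (Finset.mem_filter.1 hψ).2, (CfsgLib.Block.Chr.irr_one ψ).1, map_natCast,
        Nat.cast_pow, sq]
    exact (pow_pos (CfsgLib.Block.Chr.irr_one χ).2 2).ne'
      (Finset.sum_eq_zero_iff.1 hsum χ (Finset.mem_filter.2 ⟨Finset.mem_univ _, hχ⟩))
  · haveI := hN
    rw [hmem]
    intro ψ hψ
    exact CfsgLib.Block.blockOf_subset_normal hM N hcop htriv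
      ((CfsgLib.Block.sameBlock_iff_mem hB hχ).1 hψ) g hg

end Cfsg.Agent.S0938
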