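import Cfsg.Statements.S2299
import Cfsg.Agent.SL2C.Bridge

set_option autoImplicit false
open Cfsg

namespace Cfsg.Agent.S2299

/-- Over a finite field F with q elements, q odd, every irreducible complex character of SL₂ has degree 1, q, q + 1, q − 1, (q + 1)/2 or (q − 1)/2; and when q ≥ 5 (so that these six numbers are distinct) there are exactly one irreducible character of degree 1, one of degree q, (q − 3)/2 of degree q + 1, (q − 1)/2 of degree q − 1, two of degree (q + 1)/2 and two of degree (q − 1)/2. -/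
theorem result {F : Type*} [Field F] [Fintype F] (hodd : Odd (Fintype.card F)) :
    (∀ χ : Matrix.SpecialLinearGroup (Fin 2) F → ℂ, Cfsg.IsIrrCharacter (Matrix.SpecialLinearGroup (Fin 2) F) χ →
      χ 1 = 1 ∨ χ 1 = (Fintype.card F : ℂ) ∨ χ 1 = (Fintype.card F : ℂ) + 1 ∨ χ 1 = (Fintype.card F : ℂ) - 1 ∨
        χ 1 = (((Fintype.card F + 1) / 2 : ℕ) : ℂ) ∨ χ 1 = (((Fintype.card F - 1) / 2 : ℕ) : ℂ)) ∧
    (5 ≤ Fintype.card F →
      Nat.card {χ : Cfsg.IrrCharacter (Matrix.SpecialLinearGroup (Fin 2) F) // (χ : Matrix.SpecialLinearGroup (Fin 2) F → ℂ) 1 = 1} = 1 ∧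
      Nat.card {χ : Cfsg.IrrCharacter (Matrix.SpecialLinearGroup (Fin 2) F) // (χ : Matrix.SpecialLinearGroup (Fin 2) F → ℂ) 1 = (Fintype.card F : ℂ)} = 1 ∧
      Nat.card {χ : Cfsg.IrrCharacter (Matrix.SpecialLinearGroup (Fin 2) F) // (χ : Matrix.SpecialLinearGroup (Fin 2) F → ℂ) 1 = (Fintype.card F : ℂ) + 1} = (Fintype.card F - 3) / 2 ∧
      Nat.card {χ : Cfsg.IrrCharacter (Matrix.SpecialLinearGroup (Fin 2) F) // (χ : Matrix.SpecialLinearGroup (Fin 2) F → ℂ) 1 = (Fintype.card F : ℂ) - 1} = (Fintype.card F - 1) / 2 ∧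
      Nat.card {χ : Cfsg.IrrCharacter (Matrix.SpecialLinearGroup (Fin 2) F) // (χ : Matrix.SpecialLinearGroup (Fin 2) F → ℂ) 1 = (((Fintype.card F + 1) / 2 : ℕ) : ℂ)} = 2 ∧
      Nat.card {χ : Cfsg.IrrCharacter (Matrix.SpecialLinearGroup (Fin 2) F) // (χ : Matrix.SpecialLinearGroup (Fin 2) F → ℂ) 1 = (((Fintype.card F - 1) / 2 : ℕ) : ℂ)} = 2) := by
  classical
  obtain ⟨c, hc⟩ := CfsgLib.SL2C.exists_ell (F := F)
  refine ⟨fun χ hχ => ?_, fun hq => ?_⟩
  · rw [CfsgLib.SL2C.natCast_half_add hodd, CfsgLib.SL2C.natCast_half_sub hodd]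
    rcases CfsgLib.SL2C.degree_cases hc hχ with ⟨-, e⟩ | ⟨-, e⟩ | ⟨-, e⟩ | ⟨-, e⟩ | ⟨-, e⟩ | ⟨-, e⟩
    exacts [Or.inl e, Or.inr (Or.inl e), Or.inr (Or.inr (Or.inl e)),
      Or.inr (Or.inr (Or.inr (Or.inl e))), Or.inr (Or.inr (Or.inr (Or.inr (Or.inl e)))),
      Or.inr (Or.inr (Or.inr (Or.inr (Or.inr e))))]
  obtain ⟨η, θ, x₁, x₂, y₁, y₂, h⟩ := CfsgLib.SL2C.exists_halves hc hodd
  set q : ℕ := Fintype.card F with hqdef
  obtain ⟨m, hm⟩ := id hodd
  have hA : ((CfsgLib.SL2C.AR F).card : ℂ) = 2 * m - 2 := by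
    have h1 := CfsgLib.SL2C.card_sq_one h.η_ne h.η_sq h.η_all
    have h2 := CfsgLib.SL2C.card_dual_units (F := F)
    have h3 : (CfsgLib.SL2C.AR F).card + 2 = 2 * m := by rw [CfsgLib.SL2C.AR]; omega
    have h4 : ((CfsgLib.SL2C.AR F).card : ℂ) + 2 = 2 * m := by exact_mod_cast h3
    linear_combination h4
  have hB : ((CfsgLib.SL2C.AT c).card : ℂ) = 2 * m := by
    have h1 := CfsgLib.SL2C.card_sq_one h.θ_ne h.θ_sq h.θ_all
    have h2 := CfsgLib.SL2C.card_dual_tor hc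
    have h3 : (CfsgLib.SL2C.AT c).card = 2 * m := by rw [CfsgLib.SL2C.AT]; omega
    exact_mod_cast h3
  have hqC : (q : ℂ) = 2 * m + 1 := by rw [hm]; push_cast; ring
  have key : ∀ d : ℕ, (2 * (Nat.card {χ : Cfsg.IrrCharacter (Matrix.SpecialLinearGroup (Fin 2) F) //
      (χ : Matrix.SpecialLinearGroup (Fin 2) F → ℂ) 1 = (d : ℂ)} : ℂ)) =
      2 * (if 1 = d then 1 else 0) + 2 * (if 2 * m + 1 = d then 1 else 0) +
      (2 * (m : ℂ) - 2) * (if 2 * m + 2 = d then 1 else 0) +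
      2 * (m : ℂ) * (if 2 * m = d then 1 else 0) +
      4 * (if m + 1 = d then 1 else 0) + 4 * (if m = d then 1 else 0) := by
    intro d
    rw [CfsgLib.SL2C.cast_natCard_irr_subtype (fun χ => χ 1 = (d : ℂ)),
      h.sum_irr hc fun χ => if χ 1 = (d : ℂ) then 1 else 0]
    have e0 : ((fun _ => 1 : Matrix.SpecialLinearGroup (Fin 2) F → ℂ) 1) = ((1 : ℕ) : ℂ) := by simp
    have e1 : (CfsgLib.SL2C.St : CfsgLib.SL2C.SL F → ℂ) 1 = ((2 * m + 1 : ℕ) : ℂ) := by
      rw [CfsgLib.SL2C.St_apply_one hc, ← hqdef, hm]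
    have e2 : ∀ α, CfsgLib.SL2C.R α (1 : CfsgLib.SL2C.SL F) = ((2 * m + 2 : ℕ) : ℂ) := fun α => by
      rw [CfsgLib.SL2C.R_apply_one hc, ← hqdef, hqC]; push_cast; ring
    have e3 : ∀ φ : CfsgLib.SL2C.tor c →* ℂˣ, CfsgLib.SL2C.Pi' φ 1 = ((2 * m : ℕ) : ℂ) := fun φ => by
      rw [CfsgLib.SL2C.Pi'_apply_one hc, ← hqdef, hqC]; push_cast; ring
    have e4 : x₁ 1 = ((m + 1 : ℕ) : ℂ) ∧ x₂ 1 = ((m + 1 : ℕ) : ℂ) := by
      constructor <;> simp only [h.x₁_one, h.x₂_one, ← hqdef, hqC] <;> push_cast <;> ring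
    have e5 : y₁ 1 = (m : ℂ) ∧ y₂ 1 = (m : ℂ) := by
      constructor <;> simp only [h.y₁_one, h.y₂_one, ← hqdef, hqC] <;> ring
    simp only [e0, e1, e2, e3, e4.1, e4.2, e5.1, e5.2, Nat.cast_inj, Finset.sum_const,
      nsmul_eq_mul, hA, hB]
    ring
  have fin : ∀ d k : ℕ, (2 * (Nat.card {χ : Cfsg.IrrCharacter (Matrix.SpecialLinearGroup (Fin 2) F) //
      (χ : Matrix.SpecialLinearGroup (Fin 2) F → ℂ) 1 = (d : ℂ)} : ℂ)) = 2 * (k : ℂ) →
      Nat.card {χ : Cfsg.IrrCharacter (Matrix.SpecialLinearGroup (Fin 2) F) //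
        (χ : Matrix.SpecialLinearGroup (Fin 2) F → ℂ) 1 = (d : ℂ)} = k := fun d k e =>
    Nat.cast_injective (mul_left_cancel₀ two_ne_zero e)
  have hm2 : 2 ≤ m := by omega
  have c1 : ((q : ℂ) + 1) = ((2 * m + 2 : ℕ) : ℂ) := by rw [hqC]; push_cast; ring
  have c2 : ((q : ℂ) - 1) = ((2 * m : ℕ) : ℂ) := by rw [hqC]; push_cast; ring
  rw [c1, c2, show (q + 1) / 2 = m + 1 by omega, show (q - 1) / 2 = m by omega,
    show (q - 3) / 2 = m - 1 by omega, show q = 2 * m + 1 from hm]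
  refine ⟨?_, fin (2 * m + 1) 1 ?_, fin (2 * m + 2) (m - 1) ?_, fin (2 * m) m ?_, fin (m + 1) 2 ?_,
    fin m 2 ?_⟩
  · have h1 := fin 1 1 (by
      rw [key, if_pos rfl, if_neg (by omega), if_neg (by omega), if_neg (by omega), if_neg (by omega),
        if_neg (by omega)]
      push_cast; ring)
    simpa using h1
  · rw [key, if_neg (by omega), if_pos rfl, if_neg (by omega), if_neg (by omega), if_neg (by omega),
      if_neg (by omega)]
    push_cast; ring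
  · rw [key, if_neg (by omega), if_neg (by omega), if_pos rfl, if_neg (by omega), if_neg (by omega),
      if_neg (by omega), Nat.cast_sub (by omega)]
    push_cast; ring
  · rw [key, if_neg (by omega), if_neg (by omega), if_neg (by omega), if_pos rfl, if_neg (by omega),
      if_neg (by omega)]
    push_cast; ring
  · rw [key, if_neg (by omega), if_neg (by omega), if_neg (by omega), if_neg (by omega), if_pos rfl,
      if_neg (by omega)]
    push_cast; ring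
  · rw [key, if_neg (by omega), if_neg (by omega), if_neg (by omega), if_neg (by omega),
      if_neg (by omega), if_pos rfl]
    push_cast; ring

end Cfsg.Agent.S2299
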