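import Cfsg.Statements.S4626
import Cfsg.Agent.Blocks.Basic
import Cfsg.Agent.Char.Burnside
import Cfsg.Agent.Char.ScalarIndex

set_option autoImplicit false
open Cfsg

namespace Cfsg.Agent.S4626

/-- Let G be a finite group, p a prime, M a maximal ideal of the algebraic integers containing p, P a Sylow p-subgroup of G and N a normal subgroup of index prime to p containing the centralizer C_G(P). Then every irreducible character of G whose kernel contains N lies in the principal p-block of G. -/
theorem result {G : Type*} [Group G] [Finite G] (p : ℕ) [Fact p.Prime] (M : Ideal Cfsg.AlgInt) (hM : Cfsg.IsPModular p M) (P : Sylow p G) (N : Subgroup G) [N.Normal] (hidx : ¬ p ∣ N.index)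
    (hC : Subgroup.centralizer ((P : Subgroup G) : Set G) ≤ N) (χ : Cfsg.IrrCharacter G) (hker : ∀ n ∈ N, (χ : G → ℂ) n = (χ : G → ℂ) 1) :
    χ ∈ Cfsg.principalBlock M G := by
  haveI := Fintype.ofFinite G
  haveI := hM.2.1.isPrime
  classical
  obtain ⟨m, ρ, hρ, hρχ⟩ := χ.2
  haveI := hρ
  replace hρχ := hρχ.symm
  have hone : ∀ n ∈ N, ρ n = 1 := by
    intro n hn
    have h1 : ρ.character n = (Module.finrank ℂ (Fin m → ℂ) : ℂ) := by
      rw [← hρχ, hker n hn, hρχ, ρ.char_one]
    obtain ⟨w, hw⟩ := (CfsgLib.Char.norm_character_eq_iff ρ n).1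
      (by rw [h1, Complex.norm_natCast])
    have h2 : w * (Module.finrank ℂ (Fin m → ℂ) : ℂ) = 1 * (Module.finrank ℂ (Fin m → ℂ) : ℂ) := by
      rw [one_mul]
      conv_rhs => rw [← h1]
      simp [Representation.character, hw]
    rw [hw, mul_right_cancel₀
      (Nat.cast_ne_zero.2 (CfsgLib.Char.finrank_pos_of_isIrreducible ρ).ne') h2, one_smul]
    rfl
  have hNle : N ≤ CfsgLib.Char.scalarSubgroup ρ := fun n hn A => by
    rw [hone n hn]; exact Commute.one_left A
  have hdeg : ¬ p ∣ Cfsg.charDegree (χ : G → ℂ) := by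
    intro hd
    have h1 : Cfsg.charDegree (χ : G → ℂ) = Module.finrank ℂ (Fin m → ℂ) := by
      have := (CfsgLib.Block.Chr.irr_one χ).1
      rw [show ((χ : G → ℂ) 1) = ρ.character 1 from congrFun hρχ 1, Representation.char_one] at this
      exact_mod_cast this.symm
    exact hidx (((h1 ▸ hd).trans (CfsgLib.Char.finrank_dvd_index_scalarSubgroup ρ)).trans
      (Subgroup.index_dvd_of_le hNle))
  have hval : ∀ g ∈ N, (χ : G → ℂ) g = (χ : G → ℂ) 1 := hker
  intro g
  simp only [Cfsg.centralChar, mul_one, div_one]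
  by_cases hp : p ∣ (Subgroup.centralizer ({g} : Set G)).index
  · refine CfsgLib.Block.memLocalIdeal_sub ((CfsgLib.Block.memLocalIdeal_natCast_iff hM).2 hp) ?_
    rw [(CfsgLib.Block.Chr.irr_one χ).1, mul_div_assoc]
    exact CfsgLib.Block.memLocalIdeal_mul_right ((CfsgLib.Block.memLocalIdeal_natCast_iff hM).2 hp)
      (by
        rw [div_eq_mul_inv]
        exact CfsgLib.Block.memLocalRing_mul (CfsgLib.Block.irr_mem χ g)
          (CfsgLib.Block.memLocalRing_natCast_inv hM hdeg))
  · obtain ⟨Q⟩ : Nonempty (Sylow p (Subgroup.centralizer ({g} : Set G))) := inferInstance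
    have hQ : IsPGroup p ((Q : Subgroup (Subgroup.centralizer ({g} : Set G))).map
        (Subgroup.centralizer ({g} : Set G)).subtype) := Q.isPGroup'.map _
    obtain ⟨R, hR⟩ := hQ.exists_le_sylow
    have hRQ : (R : Subgroup G) ≤ (Q : Subgroup (Subgroup.centralizer ({g} : Set G))).map
        (Subgroup.centralizer ({g} : Set G)).subtype := by
      refine (Subgroup.eq_of_le_of_card_ge hR ?_).ge
      rw [R.card_eq_multiplicity, Subgroup.card_map_of_injective (Subgroup.subtype_injective _),
        Q.card_eq_multiplicity]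
      refine Nat.pow_le_pow_right (Fact.out : p.Prime).pos ?_
      rw [← Subgroup.card_mul_index (Subgroup.centralizer ({g} : Set G)),
        Nat.factorization_mul Nat.card_pos.ne' Subgroup.index_ne_zero_of_finite, Finsupp.add_apply,
        Nat.factorization_eq_zero_of_not_dvd hp, add_zero]
    have hgR : g ∈ Subgroup.centralizer ((R : Subgroup G) : Set G) := by
      rw [Subgroup.mem_centralizer_iff]
      intro r hr
      obtain ⟨c, -, rfl⟩ := hRQ hr
      exact Subgroup.mem_centralizer_singleton_iff.1 c.2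
    obtain ⟨x, hx⟩ := MulAction.exists_smul_eq G R P
    have hgN : g ∈ N := by
      have h1 : x * g * x⁻¹ ∈ Subgroup.centralizer ((P : Subgroup G) : Set G) := by
        rw [Subgroup.mem_centralizer_iff]
        intro r hr
        rw [← hx] at hr
        obtain ⟨r', hr', rfl⟩ := hr
        have := Subgroup.mem_centralizer_iff.1 hgR r' hr'
        show (x * r' * x⁻¹) * (x * g * x⁻¹) = (x * g * x⁻¹) * (x * r' * x⁻¹)
        calc (x * r' * x⁻¹) * (x * g * x⁻¹) = x * (r' * g) * x⁻¹ := by group
          _ = x * (g * r') * x⁻¹ := by rw [this]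
          _ = _ := by group
      have := (inferInstance : N.Normal).conj_mem _ (hC h1) x⁻¹
      simpa [mul_assoc] using this
    rw [hval g hgN, mul_div_assoc, div_self (CfsgLib.Block.Chr.irr_one_ne_zero χ), mul_one,
      sub_self]
    exact CfsgLib.Block.memLocalIdeal_zero

end Cfsg.Agent.S4626
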