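import Cfsg.Statements.S4127
import Cfsg.Agent.FGSB.Small
import Cfsg.Agent.LocalB.CharP
import Mathlib.GroupTheory.SchurZassenhaus

set_option autoImplicit false
open Cfsg

namespace Cfsg.Agent.S4127

set_option linter.unusedSectionVars false

variable {G : Type*} [Group G] [Finite G] {p : ℕ}

theorem mem_left_of_mul {x y : G} (hc : Commute x y) (hco : (orderOf x).Coprime (orderOf y)) :
    x ∈ Subgroup.zpowers (x * y) := by
  obtain ⟨k, hk⟩ := exists_pow_eq_self_of_coprime hco.symm
  have e : x ^ orderOf y = (x * y) ^ orderOf y := by rw [hc.mul_pow, pow_orderOf_eq_one, mul_one]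
  have : (x ^ orderOf y) ^ k ∈ Subgroup.zpowers (x * y) := by
    rw [e]; exact pow_mem (pow_mem (Subgroup.mem_zpowers _) _) _
  rwa [hk] at this

omit [Finite G] in
theorem commute_of_mem_zpowers {a b c : G} (h : Commute a c) (hb : b ∈ Subgroup.zpowers a) : Commute b c := by
  obtain ⟨i, rfl⟩ := hb
  exact h.zpow_left i

/-- A group in which each `p'`-element centralises a subgroup of `p'`-index has its Sylow
`p`-subgroup normal and centralised by every `p'`-element. -/
theorem sylow_of_centralizers [Fact p.Prime] (Q : Sylow p G)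
    (h : ∀ v : G, (orderOf v).Coprime p → ¬ p ∣ (Subgroup.centralizer ({v} : Set G)).index) :
    (Q : Subgroup G).Normal ∧ ∀ v : G, (orderOf v).Coprime p → ∀ q ∈ (Q : Subgroup G), Commute v q := by
  have key : ∀ u v : G, (orderOf v).Coprime p → (∃ k, orderOf u = p ^ k) → Commute u v →
      ∃ R : Sylow p G, u ∈ (R : Subgroup G) ∧ ∀ r ∈ (R : Subgroup G), Commute v r := by
    intro u v hv ⟨k, hk⟩ hc
    have hu : u ∈ Subgroup.centralizer ({v} : Set G) := Subgroup.mem_centralizer_singleton_iff.2 hc.eq
    obtain ⟨R, hR⟩ := (IsPGroup.of_card (p := p) (G := Subgroup.zpowers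
      (⟨u, hu⟩ : Subgroup.centralizer ({v} : Set G))) (n := k)
      (by rw [Nat.card_zpowers, Subgroup.orderOf_mk, hk])).exists_le_sylow
    set T := (R : Subgroup (Subgroup.centralizer ({v} : Set G))).map
      (Subgroup.centralizer ({v} : Set G)).subtype with hT
    have hTp : IsPGroup p T := R.isPGroup'.map _
    have hidx : ¬ p ∣ T.index := by
      rw [hT, Subgroup.index_map_subtype]
      exact fun hd => ((Fact.out : p.Prime).dvd_mul.1 hd).elim R.not_dvd_index (h v hv)
    refine ⟨hTp.toSylow hidx, ⟨_, hR (Subgroup.mem_zpowers _), rfl⟩, ?_⟩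
    rintro _ ⟨r, -, rfl⟩
    exact (Subgroup.mem_centralizer_singleton_iff.1 r.2).symm
  have hN : Subgroup.normalizer ((Q : Subgroup G) : Set G) = ⊤ := by
    refine CfsgLib.FGSBSmall.eq_top_of_conj_cover fun g => ?_
    obtain ⟨u, v, huv, hu, hv, hup, hvp⟩ := CfsgLib.FGSBSmall.exists_prime_split (Fact.out : p.Prime) g
    obtain ⟨R, hR1, hR2⟩ := key u v hvp hup (commute_of_mem_zpowers
      (commute_of_mem_zpowers (Commute.refl g) hv).symm hu)
    obtain ⟨c, hc⟩ := MulAction.exists_smul_eq G R Q
    refine ⟨c⁻¹, ?_⟩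
    subst hc
    refine Sylow.smul_eq_iff_mem_normalizer.1 ?_
    have hgR : g • R = R := by
      rw [Sylow.smul_eq_iff_mem_normalizer, ← huv]
      refine mul_mem (Subgroup.le_normalizer hR1) (Subgroup.mem_normalizer_iff.2 fun r => ?_)
      constructor
      · intro hr; rwa [(hR2 r hr).eq, mul_inv_cancel_right]
      · intro hr
        have h1 := (hR2 _ hr).inv_left.eq
        have : r = v * r * v⁻¹ := by
          calc r = v⁻¹ * (v * r * v⁻¹) * v := by group
            _ = v * r * v⁻¹ := by rw [h1, inv_mul_cancel_right]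
        rwa [this]
    rw [inv_inv, ← mul_smul, inv_mul_cancel_right, mul_smul, hgR]
  have hQn : (Q : Subgroup G).Normal := Subgroup.normalizer_eq_top_iff.1 hN
  refine ⟨hQn, fun v hv q hq => ?_⟩
  obtain ⟨R, -, hR⟩ := key 1 v hv ⟨0, by simp⟩ (Commute.one_left v)
  have : (R : Subgroup G) = Q := by
    have := Sylow.unique_of_normal Q hQn
    rw [Subsingleton.elim R Q]
  exact hR q (this ▸ hq)

/-- Let G be a finite group, p a prime and p^a the largest power of p dividing the size of any conjugacy class of G. If some element of p-power order has a conjugacy class of size exactly p^a, then G has a normal p-complement. -/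
theorem result {G : Type*} [Group G] [Finite G] (p : ℕ) [Fact p.Prime]
    (a : ℕ) (hmax : ∀ y : G, ¬ p ^ (a + 1) ∣ (Subgroup.centralizer ({y} : Set G)).index)
    (hx : ∃ x : G, (∃ k : ℕ, orderOf x = p ^ k) ∧ (Subgroup.centralizer ({x} : Set G)).index = p ^ a) :
    Cfsg.HasNormalPComplement p G := by
  classical
  have hp := (Fact.out : p.Prime)
  obtain ⟨x, ⟨k, hk⟩, hxi⟩ := hx
  set K := Subgroup.centralizer ({x} : Set G) with hK
  have hxK : ∀ v ∈ K, Commute v x := fun v hv => Subgroup.mem_centralizer_singleton_iff.1 hv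
  have hkey : ∀ v : K, (orderOf v).Coprime p → ¬ p ∣ (Subgroup.centralizer ({v} : Set K)).index := by
    intro v hv hd
    have hc : Commute x (v : G) := (hxK v v.2).symm
    have hco : (orderOf x).Coprime (orderOf (v : G)) := by
      rw [hk, Subgroup.orderOf_coe]; exact Nat.Coprime.pow_left _ hv.symm
    have e : Subgroup.centralizer ({x * (v : G)} : Set G) =
        (Subgroup.centralizer ({v} : Set K)).map K.subtype := by
      ext g
      simp only [Subgroup.mem_map, Subgroup.mem_centralizer_singleton_iff, Subgroup.coe_subtype]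
      constructor
      · intro hg
        have h1 : Commute x g := commute_of_mem_zpowers (Commute.symm hg) (mem_left_of_mul hc hco)
        refine ⟨⟨g, Subgroup.mem_centralizer_singleton_iff.2 h1.symm.eq⟩, Subtype.ext ?_, rfl⟩
        exact (commute_of_mem_zpowers (Commute.symm hg) (hc.eq ▸ mem_left_of_mul hc.symm hco.symm)).symm.eq
      · rintro ⟨g, hg, rfl⟩
        exact ((hxK g g.2).mul_right (congrArg Subtype.val hg)).eq
    apply hmax (x * v)
    rw [e, Subgroup.index_map_subtype, hxi, pow_succ, mul_comm]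
    exact Nat.mul_dvd_mul hd dvd_rfl
  obtain ⟨Q⟩ : Nonempty (Sylow p K) := inferInstance
  obtain ⟨hQn, hQc⟩ := sylow_of_centralizers Q hkey
  obtain ⟨P, hP⟩ := (IsPGroup.of_card (p := p) (G := Subgroup.zpowers x) (n := k)
    (by rw [Nat.card_zpowers, hk])).exists_le_sylow
  have hxP : x ∈ (P : Subgroup G) := hP (Subgroup.mem_zpowers x)
  -- `G = P K`, so the conjugates of `x` lie in `P`
  have hPQ : Nat.card (P : Subgroup G) = p ^ a * Nat.card (Q : Subgroup K) := by
    rw [P.card_eq_multiplicity, Q.card_eq_multiplicity, ← K.index_mul_card, hxi,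
      Nat.factorization_mul (pow_ne_zero _ hp.ne_zero) Nat.card_pos.ne', Finsupp.add_apply,
      hp.factorization_pow, Finsupp.single_eq_same, pow_add]
  have hPK : ∀ g : G, ∃ r ∈ (P : Subgroup G), r⁻¹ * g ∈ K := by
    let f : (P : Subgroup G) ⧸ K.subgroupOf P → G ⧸ K := Quotient.map' Subtype.val fun u v h => by
      rw [QuotientGroup.leftRel_apply] at h ⊢
      exact h
    have hf : Function.Injective f := by
      intro u v
      induction u using QuotientGroup.induction_on
      induction v using QuotientGroup.induction_on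
      intro h
      exact QuotientGroup.eq.2 (Subgroup.mem_subgroupOf.2 (QuotientGroup.eq.1 h))
    have hcard : Nat.card (G ⧸ K) ≤ Nat.card ((P : Subgroup G) ⧸ K.subgroupOf P) := by
      change K.index ≤ (K.subgroupOf (P : Subgroup G)).index
      rw [hxi]
      have e := (K.subgroupOf (P : Subgroup G)).index_mul_card
      rw [hPQ] at e
      have hle : Nat.card (K.subgroupOf (P : Subgroup G)) ≤ Nat.card (Q : Subgroup K) := by
        have hm : IsPGroup p ((P : Subgroup G).subgroupOf K) := P.isPGroup'.comap_subtype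
        obtain ⟨R, hR⟩ := hm.exists_le_sylow
        rw [R.card_eq_multiplicity.trans Q.card_eq_multiplicity.symm |>.symm]
        refine le_trans (le_of_eq ?_) (Subgroup.card_le_of_le hR)
        rw [← Subgroup.card_map_of_injective (f := (P : Subgroup G).subtype) Subtype.val_injective,
          ← Subgroup.card_map_of_injective (f := K.subtype) Subtype.val_injective,
          Subgroup.subgroupOf_map_subtype, Subgroup.subgroupOf_map_subtype, inf_comm]
      by_contra hlt
      push Not at hlt
      exact absurd e (ne_of_lt (lt_of_le_of_lt (Nat.mul_le_mul_left _ hle)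
        (Nat.mul_lt_mul_of_pos_right hlt Nat.card_pos)))
    intro g
    obtain ⟨u, hu⟩ := (Nat.bijective_iff_injective_and_card f).2
      ⟨hf, le_antisymm (Nat.card_le_card_of_injective f hf) hcard⟩ |>.2 (g : G ⧸ K)
    induction u using QuotientGroup.induction_on with
    | H u => exact ⟨u, u.2, QuotientGroup.eq.1 hu⟩
  set X := Subgroup.normalClosure ({x} : Set G) with hXdef
  have hXP : X ≤ (P : Subgroup G) := by
    refine (Subgroup.closure_le _).2 fun y hy => ?_
    obtain ⟨z, hz, hzy⟩ := Group.mem_conjugatesOfSet_iff.1 hy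
    rw [Set.mem_singleton_iff] at hz
    obtain ⟨g, rfl⟩ := isConj_iff.1 (hz ▸ hzy)
    obtain ⟨r, hr, hrg⟩ := hPK g
    have e : g * x * g⁻¹ = r * ((r⁻¹ * g) * x * (r⁻¹ * g)⁻¹) * r⁻¹ := by group
    rw [e, (hxK _ hrg).eq, mul_inv_cancel_right]
    exact mul_mem (mul_mem hr hxP) (inv_mem hr)
  have hXp : IsPGroup p X := P.isPGroup'.to_le hXP
  -- the `p'`-elements of `K` centralise `X`, by the `P × Q` lemma
  have hvX : ∀ v : K, (orderOf v).Coprime p → ∀ r ∈ X, Commute (v : G) r := by
    intro v hv
    refine CfsgLib.LocalB.commute_of_pxq (P := Subgroup.zpowers x) (R := X)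
      (IsPGroup.of_card (n := k) (by rw [Nat.card_zpowers, hk])) hXp
      (by rw [Subgroup.normalizer_eq_top]; exact le_top)
      (by rwa [Subgroup.orderOf_coe])
      (by rw [Subgroup.normalizer_eq_top]; exact Subgroup.mem_top _)
      (fun π hπ => commute_of_mem_zpowers (hxK v v.2).symm hπ) ?_
    intro r hr hrx
    have hrK : r ∈ K := Subgroup.mem_centralizer_singleton_iff.2 (hrx x (Subgroup.mem_zpowers x)).symm
    obtain ⟨j, hj⟩ := IsPGroup.iff_orderOf.1 hXp ⟨r, hr⟩
    rw [Subgroup.orderOf_mk] at hj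
    obtain ⟨R, hR⟩ := (IsPGroup.of_card (p := p) (G := Subgroup.zpowers (⟨r, hrK⟩ : K)) (n := j)
      (by rw [Nat.card_zpowers, Subgroup.orderOf_mk, hj])).exists_le_sylow
    have hRQ : R = Q := by
      have := Sylow.unique_of_normal Q hQn
      exact Subsingleton.elim _ _
    exact congrArg Subtype.val (hQc v hv ⟨r, hrK⟩ (hRQ ▸ hR (Subgroup.mem_zpowers _))).eq
  obtain ⟨L, hL⟩ := Subgroup.exists_right_complement'_of_coprime
    (N := (Q : Subgroup K)) Q.card_coprime_index
  have hLcard : Nat.card L = (Q : Subgroup K).index := hL.symm.index_eq_card.symm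
  have hLco : (Nat.card L).Coprime p := by
    rw [hLcard]; exact (hp.coprime_iff_not_dvd.2 Q.not_dvd_index).symm
  have hLel : ∀ v : K, v ∈ L ↔ (orderOf v).Coprime p := by
    intro v
    refine ⟨fun hv => hLco.coprime_dvd_left (Subgroup.orderOf_dvd_natCard _ hv), fun hv => ?_⟩
    obtain ⟨⟨q, l⟩, rfl⟩ := hL.2 v
    obtain ⟨i, hi⟩ := IsPGroup.iff_orderOf.1 Q.isPGroup' q
    have hl : Commute (l : K) q := hQc l (hLco.coprime_dvd_left (Subgroup.orderOf_dvd_natCard _ l.2)) q q.2
    have hql : Commute ((q : K) * l) q := hQc _ hv q q.2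
    have : (q : K) = 1 := by
      have hd : orderOf (q : K) ∣ orderOf ((q : K) * l) * Nat.card L := by
        apply orderOf_dvd_of_pow_eq_one
        have := congrArg (· ^ Nat.card L) (pow_orderOf_eq_one ((q : K) * l))
        simp only [← pow_mul, one_pow] at this
        rw [hl.symm.mul_pow, mul_comm _ (Nat.card L), pow_mul (l : K),
          show (l : K) ^ Nat.card L = 1 from congrArg Subtype.val (pow_card_eq_one' (x := l)),
          one_pow, mul_one] at this
        rw [mul_comm]; exact this
      rw [Subgroup.orderOf_coe, hi] at hd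
      have h1 : Nat.Coprime (p ^ i) (orderOf ((q : K) * l) * Nat.card L) :=
        Nat.Coprime.pow_left _ (Nat.Coprime.mul_right hv.symm hLco.symm)
      rw [← orderOf_eq_one_iff, Subgroup.orderOf_coe, hi]
      exact h1.eq_one_of_dvd hd
    show (q : K) * l ∈ L
    rw [this, one_mul]; exact l.2
  set N := L.map K.subtype with hNdef
  have hNn : N.Normal := by
    refine ⟨?_⟩
    rintro _ ⟨v, hv, rfl⟩ g
    have hgK : g * (v : G) * g⁻¹ ∈ K := by
      refine Subgroup.mem_centralizer_singleton_iff.2 ?_
      have hm : g⁻¹ * x * g ∈ X := by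
        rw [show g⁻¹ * x * g = g⁻¹ * x * g⁻¹⁻¹ by group]
        exact (Subgroup.normalClosure_normal (s := ({x} : Set G))).conj_mem x
          (Subgroup.subset_normalClosure (Set.mem_singleton x)) _
      have h1 := (hvX v ((hLel v).1 hv) _ hm).eq
      calc g * (v : G) * g⁻¹ * x = g * ((v : G) * (g⁻¹ * x * g)) * g⁻¹ := by group
        _ = _ := by rw [h1]; group
    refine ⟨⟨_, hgK⟩, (hLel _).2 ?_, rfl⟩
    rw [← Subgroup.orderOf_coe]
    show (orderOf (MulAut.conj g (v : G))).Coprime p
    rw [MulEquiv.orderOf_eq, Subgroup.orderOf_coe]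
    exact (hLel v).1 hv
  refine ⟨P, N, hNn, ?_⟩
  have hNc : Nat.card N = Nat.card L := Subgroup.card_map_of_injective Subtype.val_injective
  refine Subgroup.isComplement'_of_coprime ?_ ?_
  · rw [hNc, hPQ, hLcard, ← K.index_mul_card, hxi, ← (Q : Subgroup K).index_mul_card]; ring
  · rw [hNc]
    obtain ⟨j, hj⟩ := IsPGroup.iff_card.1 P.isPGroup'
    rw [hj]; exact hLco.pow_right j

end Cfsg.Agent.S4127
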