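import Cfsg.Statements.S5347
import Cfsg.Agent.Spor3T.Basic

set_option autoImplicit false
open Cfsg

namespace Cfsg.Agent.S5347

/-- Let D be a conjugation-invariant generating set of 3-transpositions of a finite group G, p a prime bigger than 3, and P a p-subgroup of G. If a member d of D normalizes P then d centralizes P. -/
theorem result {G : Type*} [Group G] [Finite G] {D : Set G} (hD : Cfsg.IsThreeTranspositionGroup D) {p : ℕ} (hp : p.Prime) (hp3 : 3 < p) (P : Subgroup G) (hP : IsPGroup p P) {d : G} (hd : d ∈ D) (hnorm : d ∈ Subgroup.normalizer (P : Set G)) : ∀ x ∈ P, Commute d x := by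
  intro x hx
  obtain ⟨hset, hconj, -⟩ := hD
  have od := hset.1 d hd
  have hdx : d * x * d⁻¹ ∈ P := (Subgroup.mem_normalizer_iff.1 hnorm x).1 hx
  have hy : d * (x * d * x⁻¹) ∈ P := by
    have := mul_mem hdx (inv_mem hx)
    rw [CfsgLib.ThreeT.inv_eq_of_orderOf od] at this
    convert this using 1
    group
  obtain ⟨k, hk⟩ := hP ⟨_, hy⟩
  have hk' : (d * (x * d * x⁻¹)) ^ p ^ k = 1 := by simpa using congrArg Subtype.val hk
  have h1 : d * (x * d * x⁻¹) = 1 := by
    rw [← orderOf_eq_one_iff]
    have a1 := orderOf_dvd_of_pow_eq_one hk'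
    have a2 : orderOf (d * (x * d * x⁻¹)) ∣ 2 * 3 := by
      rcases hset.2 d hd _ (hconj x d hd) with h | h
      · exact (orderOf_dvd_of_pow_eq_one h).trans (dvd_mul_right 2 3)
      · exact (orderOf_dvd_of_pow_eq_one h).trans (dvd_mul_left 3 2)
    have cop : Nat.Coprime (p ^ k) (2 * 3) := by
      apply Nat.Coprime.pow_left
      rw [hp.coprime_iff_not_dvd]
      intro h
      rcases (hp.dvd_mul).1 h with h | h <;> have := Nat.le_of_dvd (by norm_num) h <;> omega
    exact Nat.eq_one_of_dvd_coprimes cop a1 a2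
  have h2 : x * d * x⁻¹ = d := by
    have := eq_inv_of_mul_eq_one_right h1
    rwa [CfsgLib.ThreeT.inv_eq_of_orderOf od] at this
  show d * x = x * d
  calc d * x = (x * d * x⁻¹) * x := by rw [h2]
    _ = x * d := by group

end Cfsg.Agent.S5347
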