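import Cfsg.Statements.S2121
import Cfsg.Agent.ChevAut.OutCount
import Cfsg.Agent.Chev.OrdG2

set_option autoImplicit false
open Cfsg

namespace Cfsg.Agent.S2121

/-- Outer automorphisms of the Chevalley groups of type G₂: over a field with q = p^f (p prime) ≥ 3 elements, the outer automorphism group of G₂(q) has order f when p ≠ 3 and 2f when p = 3 (field automorphisms, and in characteristic 3 also the exceptional graph automorphism). -/
theorem result {F : Type*} [Field F] [Fintype F] (p f : ℕ) [Fact p.Prime] [CharP F p] (hF : Fintype.card F = p ^ f) (hq : 3 ≤ p ^ f) : Nat.card (Cfsg.Out ↥(Cfsg.Lie.chevG2.group F)) = (if p = 3 then 2 * f else f) := by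
  clear hq
  classical
  have hD : Cfsg.Lie.chevG2 ∈ [Cfsg.Lie.chevG2, Cfsg.Lie.chevB2, Cfsg.Lie.chevD4, Cfsg.Lie.chevF4,
      Cfsg.Lie.chevE6, Cfsg.Lie.chevE7, Cfsg.Lie.chevE8] := by simp
  rw [CfsgLib.Chev.good_G2.card_out (by decide) hD CfsgLib.Chev.coef_G2,
    CfsgLib.Chev.good_G2.card_ker CfsgLib.Chev.G2Data.smith_ok,
    CfsgLib.Chev.card_ringEquiv hF]
  simp only [CfsgLib.Chev.G2Data.smith, List.map_cons, List.map_nil, List.prod_cons, List.prod_nil,
    Nat.gcd_one_right, one_mul, mul_one]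
  split_ifs with h
  · subst h
    rw [(CfsgLib.Chev.graphPerms_G2 F).1 (CharP.cast_eq_zero F 3), Nat.card_coe_set_eq,
      Set.ncard_pair (by decide +kernel)]
  · rw [(CfsgLib.Chev.graphPerms_G2 F).2 ?_, Nat.card_coe_set_eq, Set.ncard_singleton, one_mul]
    intro h3
    exact h ((Nat.prime_dvd_prime_iff_eq Fact.out Nat.prime_three).mp
      ((CharP.cast_eq_zero_iff F p 3).mp h3))

end Cfsg.Agent.S2121
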