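import Cfsg.Statements.S0102
import Cfsg.Agent.Transfer.Basic

set_option autoImplicit false
set_option linter.deprecated false
set_option linter.style.haveILetI false
set_option linter.unusedVariables false
open Cfsg
open scoped Pointwise

namespace Cfsg.Agent.S0102

/-- A finite perfect group with cyclic Sylow p-subgroups has no perfect central extension whose kernel has order divisible by p. -/
theorem result {G : Type*} {H : Type*} [Group G] [Group H] [Finite G] [Finite H] (hG : commutator G = ⊤) {p : ℕ} [Fact p.Prime] (hcyc : ∀ P : Sylow p G, IsCyclic P) (σ : H →* G) (hσ : Function.Surjective σ) (hz : σ.ker ≤ Subgroup.center H) (hH : commutator H = ⊤) : ¬ p ∣ Nat.card σ.ker := by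
  intro hd
  obtain ⟨⟨z, hzk⟩, hzo⟩ := exists_prime_orderOf_dvd_card' (G := σ.ker) p hd
  obtain ⟨P⟩ : Nonempty (Sylow p H) := inferInstance
  let Q : Sylow p G := P.mapSurjective hσ
  have hQ : (Q : Subgroup G) = (P : Subgroup H).map σ := rfl
  have hcy : IsCyclic (Q : Subgroup G) := hcyc Q
  have hz' : orderOf z = p := (Subgroup.orderOf_coe (⟨z, hzk⟩ : σ.ker)).trans hzo
  have hzc : z ∈ Subgroup.center H := hz hzk
  have hab : IsMulCommutative (P : Subgroup H) := by
    let f : (P : Subgroup H) →* (Q : Subgroup G) :=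
      (σ.comp (P : Subgroup H).subtype).codRestrict (Q : Subgroup G) fun x => hQ ▸ Subgroup.mem_map_of_mem σ x.2
    have hf : f.ker ≤ Subgroup.center (P : Subgroup H) := by
      intro x hx
      have hx' : (x : H) ∈ σ.ker := congrArg Subtype.val (MonoidHom.mem_ker.1 hx)
      exact Subgroup.mem_center_iff.2 fun y =>
        Subtype.ext (Subgroup.mem_center_iff.1 (hz hx') y)
    exact ⟨⟨commutative_of_cyclic_center_quotient f hf⟩⟩
  have hzn : (Subgroup.zpowers z).Normal := by
    constructor
    intro x hx g
    have hxc : x ∈ Subgroup.center H := Subgroup.zpowers_le.2 hzc hx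
    rw [Subgroup.mem_center_iff.1 hxc g, mul_inv_cancel_right]
    exact hx
  have hzp : IsPGroup p (Subgroup.zpowers z) :=
    IsPGroup.of_card (n := 1) (by rw [Nat.card_zpowers, hz', pow_one])
  have hzP : z ∈ (P : Subgroup H) := by
    have h1 := hzp.to_sup_of_normal_left P.2
    have h2 := P.3 h1 le_sup_right
    rw [← h2]
    exact Subgroup.mem_sup_left (Subgroup.mem_zpowers z)
  have h1 : z ∈ (P : Subgroup H) ⊓ commutator H ⊓ Subgroup.center H :=
    ⟨⟨hzP, hH ▸ Subgroup.mem_top z⟩, hzc⟩
  rw [CfsgLib.TransferBasic.inf_center_inf_commutator_eq_bot hab, Subgroup.mem_bot] at h1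
  exact (Fact.out : p.Prime).ne_one (by rw [← hz', h1, orderOf_one])


end Cfsg.Agent.S0102
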