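import Cfsg.Statements.S0892
import Cfsg.Agent.CoxRot.Alt
import Cfsg.Agent.CoxRot.AltFour

set_option autoImplicit false
open Cfsg

namespace Cfsg.Agent.S0892

/-- Let n ≥ 4 with n ≠ 6 and n ≠ 7, and let Γ be a finite group with a subgroup Z contained in both the centre and the commutator subgroup of Γ such that Γ / Z is isomorphic to the alternating group on n letters. Then Z has order at most 2. -/
theorem result (n : ℕ) (hn : 4 ≤ n) (h6 : n ≠ 6) (h7 : n ≠ 7) {Γ : Type*} [Group Γ] [Finite Γ] (Z : Subgroup Γ) [Z.Normal] (hZc : Z ≤ Subgroup.center Γ) (hZd : Z ≤ commutator Γ) (e : Γ ⧸ Z ≃* alternatingGroup (Fin n)) : Nat.card Z ≤ 2 := by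
  have hker : (e.toMonoidHom.comp (QuotientGroup.mk' Z)).ker = Z := by
    ext g
    simp [MonoidHom.mem_ker]
  have hsurj : Function.Surjective (e.toMonoidHom.comp (QuotientGroup.mk' Z)) :=
    e.surjective.comp (QuotientGroup.mk'_surjective Z)
  have hc := hker.le.trans hZc
  have hk := hker.le.trans hZd
  rw [← hker]
  by_cases h4 : n = 4
  · subst h4
    let gx : alternatingGroup (Fin 4) := ⟨Equiv.swap 0 1 * Equiv.swap 1 2, Equiv.Perm.mem_alternatingGroup.2 (by decide)⟩
    let gy : alternatingGroup (Fin 4) := ⟨Equiv.swap 0 1 * Equiv.swap 2 3, Equiv.Perm.mem_alternatingGroup.2 (by decide)⟩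
    have hall : ∀ p : alternatingGroup (Fin 4), ∃ i : Fin 3, ∃ j k : Fin 2,
        p = gx ^ (i : ℕ) * gy ^ (j : ℕ) * (gx * gy * gx⁻¹) ^ (k : ℕ) := by
      decide +kernel
    refine CfsgLib.CoxRot.card_ker_le_two_four hc hk hsurj gx gy (by decide +kernel) (by decide +kernel)
      (by decide +kernel) (by decide +kernel) (by decide +kernel) (by decide +kernel) ?_
    refine eq_top_iff.2 fun p _ => ?_
    obtain ⟨i, j, k, rfl⟩ := hall p
    have hx : gx ∈ Subgroup.closure ({gx, gy} : Set _) := Subgroup.subset_closure (Or.inl rfl)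
    have hy : gy ∈ Subgroup.closure ({gx, gy} : Set _) := Subgroup.subset_closure (Or.inr rfl)
    exact mul_mem (mul_mem (pow_mem hx _) (pow_mem hy _)) (pow_mem (mul_mem (mul_mem hx hy) (inv_mem hx)) _)
  · obtain ⟨m, rfl⟩ : ∃ m, n = m + 1 := ⟨n - 1, by omega⟩
    exact CfsgLib.CoxRot.card_ker_le_two_alt (by omega) (by omega) (by omega) hc hk hsurj

end Cfsg.Agent.S0892
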