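import Cfsg.Statements.S2116
import Cfsg.Agent.AltSixMult.Cover
import Cfsg.Agent.FGSB.StemExt

set_option autoImplicit false
open Cfsg

namespace Cfsg.Agent.S2116

/-- Exceptional Schur multipliers of the alternating groups: for n = 6 and n = 7 the Schur multiplier of the alternating group of degree n is cyclic of order 6 (here the Schur multiplier is described through stem extensions, as in the definitions). -/
theorem result (n : ℕ) (hn : n = 6 ∨ n = 7) : Cfsg.HasCyclicSchurMultiplier (alternatingGroup (Fin n)) 6 := by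
  obtain ⟨Γ, _, _, σ, hσ, hc⟩ := CfsgLib.AltSixMult.exists_six hn
  exact CfsgLib.StemExt.hasCyclicSchurMultiplier σ hσ
    (CfsgLib.AltSixMult.ker_cyclic hσ.2.1 (by rw [hc])) hc
    fun Δ _ _ τ hτ => ⟨CfsgLib.AltSixMult.ker_cyclic hτ.2.1 (CfsgLib.AltSixMult.card_ker_dvd_six hn hτ),
      CfsgLib.AltSixMult.card_ker_dvd_six hn hτ⟩

end Cfsg.Agent.S2116
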