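import Cfsg.Statements.S2739
import Mathlib

set_option autoImplicit false
open scoped Pointwise
open Cfsg

namespace Cfsg.Agent.S2739

/-- In the projective special linear group PSL(3, 4) all subgroups of order 3 are conjugate. -/
theorem result (F : Type*) [Field F] [Fintype F] (hF : Fintype.card F = 4) (X Y : Subgroup (Matrix.ProjectiveSpecialLinearGroup (Fin 3) F)) (hX : Nat.card ↥X = 3) (hY : Nat.card ↥Y = 3) : ∃ g : Matrix.ProjectiveSpecialLinearGroup (Fin 3) F, MulAut.conj g • X = Y := by
  classical
  have h40 : (4 : F) = 0 := by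
    have := Nat.cast_card_eq_zero F
    rwa [hF] at this
  have h2 : (2 : F) = 0 := by
    have : (2 : F) * 2 = 0 := by rw [show (2 : F) * 2 = 4 by norm_num, h40]
    simpa using this
  have hneg : ∀ a : F, -a = a := fun a => by linear_combination -a * h2
  have hcube : ∀ a : F, a ≠ 0 → a ^ 3 = 1 := fun a ha => by
    have := FiniteField.pow_card_sub_one_eq_one a ha
    rwa [hF] at this
  obtain ⟨ω, hω0, hω1⟩ : ∃ ω : F, ω ≠ 0 ∧ ω ≠ 1 := by
    by_contra hc
    push Not at hc
    have : (Finset.univ : Finset F) ⊆ {0, 1} := fun a _ => by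
      by_cases ha : a = 0 <;> simp [ha, hc a]
    have := (Finset.card_le_card this).trans (Finset.card_le_two)
    rw [Finset.card_univ, hF] at this
    omega
  have hω3 := hcube ω hω0
  have hωq : ω ^ 2 + ω + 1 = 0 := by
    have : (ω - 1) * (ω ^ 2 + ω + 1) = 0 := by linear_combination hω3
    exact (mul_eq_zero.mp this).resolve_left (sub_ne_zero.mpr hω1)
  have hω2 : ω ^ 2 ≠ 1 := fun e => hω1 (by linear_combination hω3 - ω * e)
  let d : Matrix.SpecialLinearGroup (Fin 3) F := ⟨Matrix.diagonal ![1, ω, ω ^ 2], by
    rw [Matrix.det_diagonal, Fin.prod_univ_three]; simp; linear_combination hω3⟩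
  suffices key : ∀ X : Subgroup (Matrix.ProjectiveSpecialLinearGroup (Fin 3) F), Nat.card X = 3 →
      ∃ h : Matrix.ProjectiveSpecialLinearGroup (Fin 3) F,
        MulAut.conj h • Subgroup.zpowers
          (QuotientGroup.mk d : Matrix.ProjectiveSpecialLinearGroup (Fin 3) F) = X by
    obtain ⟨a, rfl⟩ := key X hX
    obtain ⟨b, rfl⟩ := key Y hY
    exact ⟨b * a⁻¹, by rw [smul_smul, ← map_mul, inv_mul_cancel_right]⟩
  intro X hX
  haveI : Fact (Nat.Prime 3) := ⟨Nat.prime_three⟩
  obtain ⟨⟨g, hgX⟩, hg⟩ := (isCyclic_of_prime_card hX).exists_generator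
  have hgen : Subgroup.zpowers g = X :=
    le_antisymm (Subgroup.zpowers_le.mpr hgX) fun a ha => by
      obtain ⟨k, hk⟩ := hg ⟨a, ha⟩
      exact ⟨k, congrArg Subtype.val hk⟩
  have hord : orderOf g = 3 := by rw [← Nat.card_zpowers, hgen, hX]
  obtain ⟨x, rfl⟩ : ∃ x, QuotientGroup.mk x = g := QuotientGroup.mk_surjective g
  have hx3 : x ^ 3 ∈ Subgroup.center (Matrix.SpecialLinearGroup (Fin 3) F) :=
    (QuotientGroup.eq_one_iff _).mp (by
      rw [QuotientGroup.mk_pow]
      have := pow_orderOf_eq_one (QuotientGroup.mk x : Matrix.ProjectiveSpecialLinearGroup (Fin 3) F)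
      rwa [hord] at this)
  have hxc : x ∉ Subgroup.center (Matrix.SpecialLinearGroup (Fin 3) F) := fun h => by
    rw [(QuotientGroup.eq_one_iff _).mpr h, orderOf_one] at hord
    omega
  obtain ⟨c, hc3, hc⟩ := Matrix.SpecialLinearGroup.mem_center_iff.mp hx3
  set A : Matrix (Fin 3) (Fin 3) F := (x : Matrix (Fin 3) (Fin 3) F) with hA
  have hdetA : A.det = 1 := x.2
  have hAc : A * A * A = Matrix.scalar (Fin 3) c := by
    rw [hc, Matrix.SpecialLinearGroup.coe_pow, pow_succ, pow_two]
  have hAv : ∀ v, A.mulVec (A.mulVec (A.mulVec v)) = c • v := fun v => by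
    rw [Matrix.mulVec_mulVec, Matrix.mulVec_mulVec, hAc]
    funext i; simp [Matrix.mulVec_diagonal]
  -- the cube is the identity
  have hc1 : c = 1 := by
    by_contra hc1
    let v : Fin 3 → F := Pi.single 0 1
    have hv : v ≠ 0 := fun e => one_ne_zero (congrFun e 0)
    have hne : ∀ a : F, A.mulVec v ≠ a • v := fun a e => by
      have := hAv v
      simp only [e, Matrix.mulVec_smul, smul_smul] at this
      have h2 := smul_left_injective F hv this
      apply hc1
      rcases eq_or_ne a 0 with ha | ha
      · exfalso
        rw [ha] at h2; simp at h2; rw [← h2] at hc3; simp at hc3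
      · rw [← h2, ← hcube a ha]; ring
    let w : Fin 3 → Fin 3 → F := ![v, A.mulVec v, A.mulVec (A.mulVec v)]
    by_cases hw : LinearIndependent F w
    · let b := basisOfLinearIndependentOfCardEqFinrank hw (by simp)
      have hb : ⇑b = w := coe_basisOfLinearIndependentOfCardEqFinrank hw _
      have hM : LinearMap.toMatrix b b (Matrix.toLin' A) = !![0, 0, c; 1, 0, 0; 0, 1, 0] := by
        ext i j
        rw [LinearMap.toMatrix_apply]
        have e0 : Matrix.toLin' A (b 0) = b 1 := by simp [hb, w]
        have e1 : Matrix.toLin' A (b 1) = b 2 := by simp [hb, w]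
        have e2 : Matrix.toLin' A (b 2) = c • b 0 := by simpa [hb, w] using hAv v
        fin_cases j <;> fin_cases i <;> simp [e0, e1, e2, Finsupp.single_apply]
      have := congrArg Matrix.det hM
      rw [LinearMap.det_toMatrix, LinearMap.det_toLin', hdetA, Matrix.det_fin_three] at this
      exact hc1 (by simpa using this.symm)
    · obtain ⟨a, b, hab⟩ : ∃ a b : F, A.mulVec (A.mulVec v) = a • A.mulVec v + b • v := by
        by_contra hno
        push Not at hno
        apply hw
        rw [Fintype.linearIndependent_iff]
        intro t ht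
        simp [w, Fin.sum_univ_three] at ht
        have t2 : t 2 = 0 := by
          by_contra t2
          apply hno (-(t 2)⁻¹ * t 1) (-(t 2)⁻¹ * t 0)
          funext i
          have e := congrFun ht i
          simp at e
          simp
          field_simp
          linear_combination e
        have t1 : t 1 = 0 := by
          by_contra t1
          apply hne (-(t 1)⁻¹ * t 0)
          funext i
          have e := congrFun ht i
          simp [t2] at e
          simp
          field_simp
          linear_combination e
        have t0 : t 0 = 0 := by simpa [t2, t1, hv] using ht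
        intro i; fin_cases i <;> assumption
      have h3 := hAv v
      rw [hab, Matrix.mulVec_add, Matrix.mulVec_smul, Matrix.mulVec_smul, hab] at h3
      have hco : a ^ 2 + b = 0 := by
        by_contra hco
        apply hne ((a ^ 2 + b)⁻¹ * (c - a * b))
        funext i
        have e := congrFun h3 i
        simp at e
        simp
        field_simp
        linear_combination e
      have hcab : a * b = c := by
        refine smul_left_injective F hv ?_
        funext i
        have e := congrFun h3 i
        simp only [Pi.add_apply, Pi.smul_apply, smul_eq_mul] at e ⊢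
        linear_combination e - (A.mulVec v) i * hco
      apply hc1
      have hce : c = a ^ 3 := by
        rw [← hneg (a ^ 3)]; linear_combination a * hco - hcab
      rw [hce]
      refine hcube a fun ha => ?_
      rw [hce, ha] at hc3; simp at hc3
  subst hc1
  have hA3 : A * A * A = 1 := by rw [hAc, map_one]
  -- all three eigenvalues occur
  have hproj : ∀ a : F, a ≠ 0 → ∃ v, v ≠ 0 ∧ A.mulVec v = a • v := by
    intro a ha
    let P : Matrix (Fin 3) (Fin 3) F := A * A + a • A + a ^ 2 • 1
    by_cases hP : P = 0
    · exfalso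
      let E : Matrix (Fin 3) (Fin 3) F := a⁻¹ • A + ω • 1
      have hA2 : A * A = a • A + a ^ 2 • 1 := by
        have e : A * A = -(a • A + a ^ 2 • 1) :=
          eq_neg_of_add_eq_zero_left ((add_assoc _ _ _).symm.trans hP)
        rw [e]; ext i j; simp only [Matrix.neg_apply]; exact hneg _
      have hE : E * E = E := by
        simp only [E, add_mul, mul_add, smul_mul_assoc, mul_smul_comm, one_mul, mul_one, hA2]
        ext i j
        simp only [Matrix.add_apply, Matrix.smul_apply, smul_eq_mul, smul_add]
        linear_combination (a⁻¹ * A i j + (a⁻¹ * a + 1) * (1 : Matrix (Fin 3) (Fin 3) F) i j) *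
            inv_mul_cancel₀ ha + (1 : Matrix (Fin 3) (Fin 3) F) i j * hωq +
          (ω * a⁻¹ * A i j - ω * (1 : Matrix (Fin 3) (Fin 3) F) i j) * h2
      obtain ⟨p, hp⟩ := (LinearMap.isProj_iff_isIdempotentElem (Matrix.toLin' E)).mpr
        (show Matrix.toLin' E * Matrix.toLin' E = Matrix.toLin' E by
          rw [Module.End.mul_eq_comp, ← Matrix.toLin'_mul, hE])
      have hAE : a⁻¹ • A = E + ω • 1 := by
        simp only [E]; ext i j; simp; linear_combination - (ω * (1 : Matrix (Fin 3) (Fin 3) F) i j) * h2
      have hker := hp.isCompl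
      have hd := congrArg LinearMap.det hp.eq_conj_prodMap
      have hconj : Matrix.toLin' (a⁻¹ • A) = ((p.prodEquivOfIsCompl (LinearMap.ker (Matrix.toLin' E)) hker).toLinearMap
          ∘ₗ ((1 + ω) • LinearMap.id).prodMap (ω • LinearMap.id))
          ∘ₗ (p.prodEquivOfIsCompl (LinearMap.ker (Matrix.toLin' E)) hker).symm.toLinearMap := by
        refine LinearMap.ext fun v => ?_
        obtain ⟨⟨u, w⟩, rfl⟩ := (p.prodEquivOfIsCompl (LinearMap.ker (Matrix.toLin' E)) hker).surjective v
        rw [hAE]
        simp only [map_add, map_smul, Matrix.toLin'_one, LinearMap.add_apply, LinearMap.smul_apply,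
          LinearMap.id_apply, LinearMap.comp_apply, LinearEquiv.coe_coe, LinearEquiv.symm_apply_apply,
          LinearMap.prodMap_apply, Submodule.coe_prodEquivOfIsCompl', Submodule.coe_smul,
          hp.map_id u.1 u.2, show Matrix.toLin' E w.1 = 0 from w.2,
          Submodule.prodEquivOfIsCompl_symm_apply_left, Submodule.prodEquivOfIsCompl_symm_apply_right,
          Submodule.coe_zero, smul_zero, add_zero, zero_add]
        module
      have hdet := congrArg LinearMap.det hconj
      rw [LinearMap.comp_assoc, LinearMap.det_conj, LinearMap.det_prodMap, LinearMap.det_smul, LinearMap.det_smul,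
        LinearMap.det_id, LinearMap.det_id, LinearMap.det_toLin', Matrix.det_smul, hdetA,
        Fintype.card_fin, inv_pow, hcube a ha, mul_one, mul_one, mul_one, inv_one] at hdet
      have hsum := Submodule.finrank_add_eq_of_isCompl hker
      rw [Module.finrank_fintype_fun_eq_card, Fintype.card_fin] at hsum
      have h1w : (1 + ω) = ω ^ 2 := by linear_combination hωq - ω ^ 2 * h2
      rw [h1w, ← pow_mul, ← pow_add] at hdet
      have hr : Module.finrank F p = 0 ∨ Module.finrank F p = 3 := by
        rcases (show Module.finrank F p = 0 ∨ Module.finrank F p = 1 ∨ Module.finrank F p = 2 ∨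
          Module.finrank F p = 3 by omega) with h | h | h | h
        · exact Or.inl h
        · exfalso
          rw [h, show Module.finrank F (LinearMap.ker (Matrix.toLin' E)) = 2 by omega] at hdet
          exact hω1 (by linear_combination ω * hω3 * 0 - hdet - ω * hω3)
        · exfalso
          rw [h, show Module.finrank F (LinearMap.ker (Matrix.toLin' E)) = 1 by omega] at hdet
          exact hω2 (by linear_combination -hdet - ω ^ 2 * hω3)
        · exact Or.inr h
      apply hxc
      have hscal : ∃ e : F, E = e • 1 := by
        rcases hr with h | h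
        · refine ⟨0, Matrix.toLin'.injective (LinearMap.ext fun v => ?_)⟩
          rw [zero_smul, map_zero, LinearMap.zero_apply]
          have := hp.map_mem v
          rwa [Submodule.finrank_eq_zero.mp h, Submodule.mem_bot] at this
        · refine ⟨1, Matrix.toLin'.injective (LinearMap.ext fun v => ?_)⟩
          rw [one_smul, Matrix.toLin'_one, LinearMap.id_apply]
          exact hp.map_id v (by
            rw [Submodule.eq_top_of_finrank_eq (S := p) (by simpa using h)]; trivial)
      obtain ⟨e, he⟩ := hscal
      have hAs : A = Matrix.scalar (Fin 3) (a * (e + ω)) := by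
        rw [← smul_inv_smul₀ ha A, hAE, he, ← add_smul, smul_smul]
        ext i j
        simp [Matrix.scalar_apply, Matrix.diagonal_apply, Matrix.one_apply]
      refine Matrix.SpecialLinearGroup.mem_center_iff.mpr ⟨a * (e + ω), ?_, hAs.symm⟩
      have := congrArg Matrix.det hAs
      rw [hdetA] at this
      simpa [Matrix.scalar_apply] using this.symm
    · obtain ⟨v, hv⟩ : ∃ v, P.mulVec v ≠ 0 := by
        by_contra hc
        push Not at hc
        exact hP (Matrix.toLin'.injective (LinearMap.ext fun v => by simp [hc v]))
      refine ⟨_, hv, ?_⟩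
      have : A * P = a • P := by
        simp only [P, mul_add, mul_smul_comm, mul_one, smul_add, smul_smul, ← mul_assoc, hA3]
        rw [show a * a ^ 2 = 1 by rw [← hcube a ha]; ring, one_smul, pow_two]
        abel
      rw [Matrix.mulVec_mulVec, this, Matrix.smul_mulVec]
  let e : Fin 3 → F := ![1, ω, ω ^ 2]
  have he : ∀ i, e i ≠ 0 := fun i => by fin_cases i <;> simp [e, hω0]
  choose v hv0 hv using fun i => hproj (e i) (he i)
  have hinj : Function.Injective e := by
    intro i j h
    have hne : ω ≠ ω ^ 2 := fun h => hω1 (mul_left_cancel₀ hω0 (by linear_combination -h))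
    fin_cases i <;> fin_cases j <;> simp [e, hω1, hω2, Ne.symm hω1, Ne.symm hω2, hne, hne.symm] at h ⊢
  have hli : LinearIndependent F v :=
    Module.End.eigenvectors_linearIndependent' (Matrix.toLin' A) e hinj v fun i =>
      Module.End.hasEigenvector_iff.mpr ⟨Module.End.mem_eigenspace_iff.mpr (by simp [hv]), hv0 i⟩
  let Q : Matrix (Fin 3) (Fin 3) F := Matrix.of fun i j => v j i
  have hQ : Q.det ≠ 0 :=
    ((Matrix.isUnit_iff_isUnit_det _).mp (Matrix.linearIndependent_cols_iff_isUnit.mp hli)).ne_zero
  have hAQ : A * Q = Q * Matrix.diagonal e := by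
    ext i j
    rw [Matrix.mul_diagonal]
    have := congrFun (hv j) i
    simpa [Q, Matrix.mul_apply, Matrix.mulVec, dotProduct, mul_comm] using this
  let h : Matrix.SpecialLinearGroup (Fin 3) F :=
    ⟨Q * Matrix.diagonal ![Q.det⁻¹, 1, 1], by
      rw [Matrix.det_mul, Matrix.det_diagonal, Fin.prod_univ_three]; simp [hQ]⟩
  have hxh : x * h = h * d := by
    refine Subtype.ext ?_
    show A * (Q * Matrix.diagonal _) = Q * Matrix.diagonal _ * Matrix.diagonal e
    rw [← mul_assoc, hAQ, mul_assoc, mul_assoc, Matrix.diagonal_mul_diagonal,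
      Matrix.diagonal_mul_diagonal]
    simp [mul_comm]
  refine ⟨QuotientGroup.mk h, ?_⟩
  rw [← hgen, show x = h * d * h⁻¹ by rw [← hxh, mul_inv_cancel_right]]
  show Subgroup.map (MulAut.conj _).toMonoidHom _ = _
  rw [MonoidHom.map_zpowers]
  rfl

end Cfsg.Agent.S2739
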