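import Cfsg.Statements.S2550
import Cfsg.Agent.S2739
import Cfsg.Agent.Classical.LinearOrder

set_option autoImplicit false
open Cfsg

namespace Cfsg.Agent.S2550

/-- Let F be a field with 2 elements and K a field with 4 elements. PSL_4(F) and PSL_3(K) have the same order (20160) but are not isomorphic. -/
theorem result {F K : Type*} [Field F] [Fintype F] [Field K] [Fintype K] (hF : Fintype.card F = 2) (hK : Fintype.card K = 4) : Nat.card (Matrix.ProjectiveSpecialLinearGroup (Fin 4) F) = Nat.card (Matrix.ProjectiveSpecialLinearGroup (Fin 3) K) ∧ ¬ Nonempty (Matrix.ProjectiveSpecialLinearGroup (Fin 4) F ≃* Matrix.ProjectiveSpecialLinearGroup (Fin 3) K) := by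
  classical
  refine ⟨?_, ?_⟩
  · have h1 := CfsgLib.Linear.card_PSL_mul hF 4 (by norm_num)
    have h2 := CfsgLib.Linear.card_PSL_mul hK 3 (by norm_num)
    rw [Fin.prod_univ_four] at h1
    rw [Fin.prod_univ_three] at h2
    norm_num [Nat.gcd_rec] at h1 h2
    rw [Nat.card_eq_fintype_card, Nat.card_eq_fintype_card]
    omega
  rintro ⟨φ⟩
  have h20 : (2 : F) = 0 := by
    have := Nat.cast_card_eq_zero F
    rwa [hF] at this
  let a : Matrix.SpecialLinearGroup (Fin 4) F :=
    ⟨!![0, 1, 0, 0; 1, 1, 0, 0; 0, 0, 1, 0; 0, 0, 0, 1], by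
      simp [Matrix.det_succ_row_zero, Fin.sum_univ_succ, Fin.succAbove]
      linear_combination -h20⟩
  let b : Matrix.SpecialLinearGroup (Fin 4) F :=
    ⟨!![0, 1, 0, 0; 1, 1, 0, 0; 0, 0, 0, 1; 0, 0, 1, 1], by
      simp [Matrix.det_succ_row_zero, Fin.sum_univ_succ, Fin.succAbove]⟩
  have hcub : a ^ 3 = 1 ∧ b ^ 3 = 1 := by
    constructor <;>
    · refine Subtype.ext (Matrix.ext fun i j => ?_)
      rw [Matrix.SpecialLinearGroup.coe_pow, Matrix.SpecialLinearGroup.coe_one, pow_succ, pow_two]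
      fin_cases i <;> fin_cases j <;>
        simp [a, b, Matrix.mul_apply, Fin.sum_univ_four] <;>
        first
          | linear_combination h20
          | linear_combination (2 : F) * h20
          | linear_combination (0 : F) * h20
  let Z := Subgroup.center (Matrix.SpecialLinearGroup (Fin 4) F)
  have hZ : Z = ⊥ := Subgroup.card_eq_one.mp (by
    rw [CfsgLib.Linear.card_center_SL, Fintype.card_fin, Nat.card_eq_fintype_card, hF]; rfl)
  let π : Matrix.SpecialLinearGroup (Fin 4) F →*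
      Matrix.ProjectiveSpecialLinearGroup (Fin 4) F := QuotientGroup.mk' Z
  have hπ : Function.Injective π :=
    (MonoidHom.ker_eq_bot_iff π).mp ((QuotientGroup.ker_mk' Z).trans hZ)
  haveI : Fact (Nat.Prime 3) := ⟨Nat.prime_three⟩
  have hcard : ∀ x : Matrix.SpecialLinearGroup (Fin 4) F, x ^ 3 = 1 →
      (x : Matrix (Fin 4) (Fin 4) F) 0 1 = 1 → Nat.card (Subgroup.zpowers (φ (π x))) = 3 := by
    intro x h3 h01
    have hne : φ (π x) ≠ 1 := fun e => by
      have : x = 1 := hπ (φ.injective (by rw [e, map_one, map_one]))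
      simp [this] at h01
    rw [Nat.card_zpowers]
    exact orderOf_eq_prime (by rw [← map_pow, ← map_pow, h3, map_one, map_one]) hne
  obtain ⟨g, hg⟩ := Cfsg.Agent.S2739.result K hK _ _ (hcard a hcub.1 rfl) (hcard b hcub.2 rfl)
  obtain ⟨y, rfl⟩ := φ.surjective g
  obtain ⟨h, rfl⟩ := QuotientGroup.mk_surjective y
  have hmem : φ (π (h * a * h⁻¹)) ∈ Subgroup.zpowers (φ (π b)) := by
    rw [← hg, map_mul, map_mul, map_mul, map_mul, map_inv, map_inv]
    exact Subgroup.smul_mem_pointwise_smul _ _ _ (Subgroup.mem_zpowers _)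
  obtain ⟨k, hk⟩ := Subgroup.mem_zpowers_iff.mp hmem
  rw [← map_zpow, ← map_zpow] at hk
  have hk' : b ^ k = h * a * h⁻¹ := hπ (φ.injective hk)
  let e : Fin 4 → F := Pi.single 2 1
  set w := (h : Matrix (Fin 4) (Fin 4) F).mulVec e with hw
  have hw0 : w ≠ 0 := fun hz => by
    have := congrArg ((↑(h⁻¹) : Matrix (Fin 4) (Fin 4) F).mulVec) hz
    rw [hw, Matrix.mulVec_mulVec, ← Matrix.SpecialLinearGroup.coe_mul, inv_mul_cancel,
      Matrix.SpecialLinearGroup.coe_one, Matrix.one_mulVec, Matrix.mulVec_zero] at this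
    simpa [e] using congrFun this 2
  have hfix : (↑(b ^ k) : Matrix (Fin 4) (Fin 4) F).mulVec w = w := by
    rw [hk', hw, Matrix.mulVec_mulVec, ← Matrix.SpecialLinearGroup.coe_mul, inv_mul_cancel_right,
      Matrix.SpecialLinearGroup.coe_mul, ← Matrix.mulVec_mulVec]
    congr 1
    funext i; fin_cases i <;> simp [a, e, Matrix.mulVec, dotProduct, Fin.sum_univ_four]
  have hmod : b ^ k = b ^ (k % 3) := by
    conv_lhs => rw [← Int.emod_add_mul_ediv k 3]
    rw [zpow_add, zpow_mul, show (b ^ (3 : ℤ)) = 1 by rw [show (3 : ℤ) = ((3 : ℕ) : ℤ) from rfl,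
      zpow_natCast, hcub.2], one_zpow, mul_one]
  have hb1 : (b : Matrix (Fin 4) (Fin 4) F).mulVec w = w := by
    rcases (show k % 3 = 0 ∨ k % 3 = 1 ∨ k % 3 = 2 by omega) with h0 | h0 | h0
    · exfalso
      rw [hmod, h0, zpow_zero] at hk'
      have : a = 1 := by
        calc a = h⁻¹ * (h * a * h⁻¹) * h := by group
          _ = 1 := by rw [← hk']; group
      have := congrArg (fun x : Matrix.SpecialLinearGroup (Fin 4) F =>
        (x : Matrix (Fin 4) (Fin 4) F) 0 1) this
      simp [a] at this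
    · rwa [hmod, h0, zpow_one] at hfix
    · rw [hmod, h0, show (2 : ℤ) = ((2 : ℕ) : ℤ) from rfl, zpow_natCast] at hfix
      conv_lhs => rw [← hfix]
      rw [Matrix.mulVec_mulVec, ← Matrix.SpecialLinearGroup.coe_mul, ← pow_succ', hcub.2,
        Matrix.SpecialLinearGroup.coe_one, Matrix.one_mulVec]
  apply hw0
  have e0 := congrFun hb1 0
  have e1 := congrFun hb1 1
  have e2 := congrFun hb1 2
  have e3 := congrFun hb1 3
  simp [b, Matrix.mulVec, dotProduct, Fin.sum_univ_four] at e0 e1 e2 e3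
  funext i
  fin_cases i <;> simp_all

end Cfsg.Agent.S2550
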