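import Mathlib.Tactic
import Cfsg.Statements.S0226
import Mathlib.Algebra.BigOperators.Group.Finset.Basic
-- import your own Cfsg.Agent.* helpers here

set_option autoImplicit false
open Cfsg

namespace Cfsg.Agent.S0226

/-- A finite group of even order has an odd number of involutions. -/
theorem result {G : Type*} [Group G] [Finite G] (heven : Even (Nat.card G)) : Odd (Nat.card {t : G // orderOf t = 2}) := by
  classical
  haveI := Fintype.ofFinite G
  have h1 : (∏ _x ∈ Finset.univ.filter (fun x : G => x⁻¹ ≠ x), (-1 : ℤ)) = 1 := by
    refine Finset.prod_involution (fun x _ => x⁻¹) (fun _ _ => by simp) ?_ ?_ (fun x _ => inv_inv x)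
    · intro x hx _
      simpa using hx
    · intro x hx
      simp only [Finset.mem_filter, Finset.mem_univ, true_and, inv_inv] at hx ⊢
      exact fun h => hx h.symm
  rw [Finset.prod_const, neg_one_pow_eq_one_iff_even (by norm_num)] at h1
  have h2 : Finset.univ.filter (fun x : G => x⁻¹ = x) =
      insert 1 (Finset.univ.filter (fun x : G => orderOf x = 2)) := by
    ext x
    simp only [Finset.mem_filter, Finset.mem_univ, true_and, Finset.mem_insert]
    constructor
    · intro h
      by_cases hx1 : x = 1
      · exact Or.inl hx1
      · right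
        exact orderOf_eq_prime (by rw [sq]; exact eq_inv_iff_mul_eq_one.mp h.symm) hx1
    · rintro (rfl | h)
      · simp
      · exact inv_eq_of_mul_eq_one_right (by rw [← sq, ← h, pow_orderOf_eq_one])
  have h3 := Finset.card_filter_add_card_filter_not (s := (Finset.univ : Finset G))
    (fun x => x⁻¹ = x)
  rw [Finset.card_univ, h2, Finset.card_insert_of_notMem (by simp), ← Nat.card_eq_fintype_card] at h3
  rw [Nat.card_eq_fintype_card, Fintype.card_subtype]
  rcases Nat.even_or_odd (Finset.univ.filter (fun x : G => orderOf x = 2)).card with h | h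
  · exfalso
    obtain ⟨a, ha⟩ := h
    obtain ⟨b, hb⟩ := h1
    obtain ⟨c, hc⟩ := heven
    have hb' : (Finset.univ.filter (fun x : G => ¬ x⁻¹ = x)).card = b + b := hb
    omega
  · exact h

end Cfsg.Agent.S0226
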