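import Mathlib.Tactic
import Cfsg.Statements.S1250
-- import your own Cfsg.Agent.* helpers here

set_option autoImplicit false
set_option linter.style.haveILetI false
open Cfsg
open scoped commutatorElement Pointwise

namespace Cfsg.Agent.S1250

/-- Let S be a Sylow p-subgroup of the finite group G, A ≤ S strongly closed in S, and N a normal subgroup. Then the image of A in G ⧸ N is strongly closed in the image of S (which is a Sylow p-subgroup of G ⧸ N). -/
theorem result {G : Type*} [Group G] [Finite G] {p : ℕ} [Fact p.Prime] (S : Sylow p G) (A : Subgroup G) (hA : Cfsg.IsStronglyClosed A (S : Subgroup G)) (N : Subgroup G) [N.Normal] : Cfsg.IsStronglyClosed (A.map (QuotientGroup.mk' N)) ((S : Subgroup G).map (QuotientGroup.mk' N)) := by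
  refine ⟨Subgroup.map_mono hA.1, ?_⟩
  rintro _ ⟨x, hx, rfl⟩ q hq
  obtain ⟨g, rfl⟩ := QuotientGroup.mk'_surjective N q
  rw [← map_inv, ← map_mul, ← map_mul] at hq ⊢
  have hyK : g * x * g⁻¹ ∈ (S : Subgroup G) ⊔ N := by
    have : g * x * g⁻¹ ∈ ((S : Subgroup G).map (QuotientGroup.mk' N)).comap (QuotientGroup.mk' N) := hq
    rwa [Subgroup.comap_map_eq, QuotientGroup.ker_mk'] at this
  set K := (S : Subgroup G) ⊔ N with hK
  set SK : Sylow p K := S.subtype le_sup_left with hSK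
  have hyp : IsPGroup p (Subgroup.zpowers (⟨g * x * g⁻¹, hyK⟩ : K)) := by
    refine IsPGroup.of_card (n := ((IsPGroup.iff_orderOf.mp S.isPGroup') ⟨x, hA.1 hx⟩).choose) ?_
    have h := ((IsPGroup.iff_orderOf.mp S.isPGroup') ⟨x, hA.1 hx⟩).choose_spec
    rw [Nat.card_zpowers, ← h, ← Subgroup.orderOf_coe (⟨g * x * g⁻¹, hyK⟩ : K),
      ← Subgroup.orderOf_coe (⟨x, hA.1 hx⟩ : (S : Subgroup G))]
    exact orderOf_injective (MulAut.conj g).toMonoidHom (MulAut.conj g).injective x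
  obtain ⟨R, hR⟩ := hyp.exists_le_sylow
  obtain ⟨k, hk⟩ := MulAction.exists_smul_eq K R SK
  have h1 : k * ⟨g * x * g⁻¹, hyK⟩ * k⁻¹ ∈ SK := by
    rw [← hk]
    exact ⟨_, hR (Subgroup.mem_zpowers _), rfl⟩
  have h2 : (k : G) * (g * x * g⁻¹) * (k : G)⁻¹ ∈ (S : Subgroup G) := h1
  obtain ⟨s, hs, n, hn, hsn⟩ : ∃ s ∈ (S : Subgroup G), ∃ n ∈ N, s * n = (k : G) :=
    Subgroup.mem_sup_of_normal_right.mp k.2
  have h3 : n * (g * x * g⁻¹) * n⁻¹ ∈ (S : Subgroup G) := by
    have h4 := mul_mem (mul_mem (inv_mem hs) h2) hs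
    rw [← hsn] at h4
    have e : s⁻¹ * (s * n * (g * x * g⁻¹) * (s * n)⁻¹) * s = n * (g * x * g⁻¹) * n⁻¹ := by group
    rwa [e] at h4
  refine ⟨(n * g) * x * (n * g)⁻¹, hA.2 x hx (n * g) (by convert h3 using 1; group), ?_⟩
  have hn1 : QuotientGroup.mk' N n = 1 := (QuotientGroup.eq_one_iff n).mpr hn
  simp only [map_mul, map_inv, hn1, one_mul]

end Cfsg.Agent.S1250
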