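import Cfsg.Statements.S4718
import Cfsg.Agent.Blocks.BrauerFeit
import Cfsg.Agent.BlocksB.Landau
import Cfsg.Agent.Char.Orthogonality

set_option autoImplicit false
universe u
open Cfsg

namespace Cfsg.Agent.S4718

/-- Let p be a prime and a a natural number. There is a bound N such that every finite group whose Sylow p-subgroups have order p^a and whose only p-block (relative to a maximal ideal of the algebraic integers containing p) is the principal block has order at most N. -/
theorem result (p : ℕ) [Fact p.Prime] (a : ℕ) : ∃ N : ℕ, ∀ (G : Type u) [Group G] [Finite G] (M : Ideal Cfsg.AlgInt), Cfsg.IsPModular p M → (Nat.card G).factorization p = a → (∀ B : Set (Cfsg.IrrCharacter G), Cfsg.IsPBlock M B → B = Cfsg.principalBlock M G) → Nat.card G ≤ N := by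
  obtain ⟨N, hN⟩ := CfsgLib.BlockB.exists_card_bound_of_card_conjClasses.{u} ((p ^ (2 * a) + 4) / 4)
  refine ⟨N, fun G _ _ M hM ha hall => hN G ?_⟩
  haveI := Fintype.ofFinite G
  haveI := hM.2.1.isPrime
  have hB : Cfsg.IsPBlock M (Cfsg.principalBlock M G) := CfsgLib.Block.isPBlock_principalBlock
  have huniv : Cfsg.principalBlock M G = Set.univ := Set.eq_univ_of_forall fun χ => by
    rw [← hall _ (CfsgLib.Block.isPBlock_blockOf χ)]
    exact CfsgLib.Block.mem_blockOf_self χ
  have hcard : Nat.card (Cfsg.principalBlock M G) = Nat.card (ConjClasses G) := by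
    rw [huniv, Nat.card_congr (Equiv.Set.univ _)]
    exact CfsgLib.Char.card_irr_eq_card_conjClasses
  have hbf := CfsgLib.Block.brauer_feit hM hB
  have hd : Cfsg.blockDefect p (Cfsg.principalBlock M G) ≤ a := ha ▸ CfsgLib.Block.blockDefect_le _
  have hpow : p ^ (2 * Cfsg.blockDefect p (Cfsg.principalBlock M G)) ≤ p ^ (2 * a) :=
    Nat.pow_le_pow_right (Fact.out : p.Prime).pos (Nat.mul_le_mul_left 2 hd)
  rw [← hcard, Nat.le_div_iff_mul_le (by norm_num)]
  omega

end Cfsg.Agent.S4718
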