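import Cfsg.Statements.S0668
import Mathlib
-- import your own Cfsg.Agent.* helpers here

set_option autoImplicit false
open Cfsg
open scoped commutatorElement Pointwise

namespace Cfsg.Agent.S0668

/-- The equivariant linear maps between the permutation modules of two finite `G`-sets form a space whose dimension is the number of `G`-orbits on the product of the two sets. -/
theorem result {G : Type*} [Group G] {K : Type*} [Field K] {Ω₁ Ω₂ : Type*} [Fintype Ω₁] [Fintype Ω₂] [MulAction G Ω₁] [MulAction G Ω₂] : Module.finrank K ((Cfsg.permRep K G Ω₁).linHom (Cfsg.permRep K G Ω₂)).invariants = Nat.card (MulAction.orbitRel.Quotient G (Ω₁ × Ω₂)) := by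
  classical
  set ρ₁ := Cfsg.permRep K G Ω₁
  set ρ₂ := Cfsg.permRep K G Ω₂
  let mkL : (MulAction.orbitRel.Quotient G (Ω₁ × Ω₂) → K) → ((Ω₁ → K) →ₗ[K] (Ω₂ → K)) := fun F =>
    { toFun := fun f b => ∑ a, F (Quotient.mk'' (a, b)) * f a
      map_add' := fun f g => funext fun b => by simp [mul_add, Finset.sum_add_distrib]
      map_smul' := fun c f => funext fun b => by
        simp only [Pi.smul_apply, smul_eq_mul, RingHom.id_apply, Finset.mul_sum]
        exact Finset.sum_congr rfl fun a _ => by ring }
  have hmk : ∀ F f b, mkL F f b = ∑ a, F (Quotient.mk'' (a, b)) * f a := fun _ _ _ => rfl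
  have hinv : ∀ F, mkL F ∈ (ρ₁.linHom ρ₂).invariants := by
    intro F g
    apply LinearMap.ext
    intro f
    funext b
    change mkL F (fun a => f (g⁻¹⁻¹ • a)) (g⁻¹ • b) = mkL F f b
    rw [hmk, hmk]
    refine Fintype.sum_equiv (MulAction.toPerm g) _ _ fun a => ?_
    simp only [MulAction.toPerm_apply, inv_inv]
    congr 2
    exact Quotient.sound' ⟨g⁻¹, by simp⟩
  have hcomm : ∀ L ∈ (ρ₁.linHom ρ₂).invariants, ∀ (g : G) (a : Ω₁) (b : Ω₂),
      L (Pi.single (g • a) 1) (g • b) = L (Pi.single a 1) b := by
    intro L hL g a b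
    have h1 := congrArg (fun M : (Ω₁ → K) →ₗ[K] (Ω₂ → K) => M (Pi.single a 1) b) (hL g⁻¹)
    change L (fun x => (Pi.single a (1 : K) : Ω₁ → K) (g⁻¹⁻¹⁻¹ • x)) (g⁻¹⁻¹ • b) = L (Pi.single a 1) b at h1
    simp only [inv_inv] at h1
    rw [← h1]
    have e1 : (Pi.single (g • a) (1 : K) : Ω₁ → K) = fun x => (Pi.single a (1 : K) : Ω₁ → K) (g⁻¹ • x) := by
      funext x
      simp [Pi.single_apply, inv_smul_eq_iff]
    rw [e1]
  let e : (MulAction.orbitRel.Quotient G (Ω₁ × Ω₂) → K) ≃ₗ[K] (ρ₁.linHom ρ₂).invariants :=
    { toFun := fun F => ⟨mkL F, hinv F⟩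
      map_add' := fun F F' => Subtype.ext <| LinearMap.ext fun f => funext fun b => by
        change mkL (F + F') f b = mkL F f b + mkL F' f b
        simp [hmk, add_mul, Finset.sum_add_distrib]
      map_smul' := fun c F => Subtype.ext <| LinearMap.ext fun f => funext fun b => by
        change mkL (c • F) f b = c * mkL F f b
        simp [hmk, Finset.mul_sum, mul_assoc]
      invFun := fun L q => Quotient.liftOn' q (fun x => L.1 (Pi.single x.1 1) x.2) (by
        rintro x y ⟨g, rfl⟩
        exact hcomm L.1 L.2 g y.1 y.2)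
      left_inv := fun F => by
        funext q
        induction q using Quotient.inductionOn' with
        | h x =>
          change mkL F (Pi.single x.1 1) x.2 = _
          rw [hmk, Finset.sum_eq_single x.1 (fun c _ hc => by simp [hc]) (by simp)]
          simp
      right_inv := fun L => Subtype.ext <| LinearMap.ext fun f => funext fun b => by
        change ∑ a, L.1 (Pi.single a 1) b * f a = L.1 f b
        conv_rhs => rw [show f = ∑ a, f a • (Pi.single a (1 : K) : Ω₁ → K) by
          funext x; simp [Pi.single_apply]]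
        rw [map_sum, Finset.sum_apply]
        exact Finset.sum_congr rfl fun a _ => by rw [map_smul, Pi.smul_apply, smul_eq_mul, mul_comm] }
  rw [← e.finrank_eq]
  haveI := Fintype.ofFinite (MulAction.orbitRel.Quotient G (Ω₁ × Ω₂))
  rw [Module.finrank_fintype_fun_eq_card, Nat.card_eq_fintype_card]


end Cfsg.Agent.S0668
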