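import Cfsg.Statements.S0713
import Mathlib.GroupTheory.GroupAction.Jordan
import Mathlib
-- import your own Cfsg.Agent.* helpers here

set_option autoImplicit false
open Cfsg

namespace Cfsg.Agent.S0713

/-- Jordan's Theorem: a primitive permutation group of degree `n ≥ 5` containing a `p`-cycle for a prime `p ≤ n - 3` contains the alternating group. -/
theorem result {α : Type*} [Fintype α] [DecidableEq α] (G : Subgroup (Equiv.Perm α)) (hG : MulAction.IsPreprimitive G α) {p : ℕ} (hp : p.Prime) (hn : 5 ≤ Fintype.card α) (hpn : p + 3 ≤ Fintype.card α) {g : Equiv.Perm α} (hgc : g.IsCycle) (hgp : g.support.card = p) (hg : g ∈ G) : alternatingGroup α ≤ G := by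
  open MulAction Equiv.Perm in
  classical
  have : Fact p.Prime := ⟨hp⟩
  have : Nonempty α := Fintype.card_pos_iff.mp (by omega)
  have hα : Nat.card α = Fintype.card α := Nat.card_eq_fintype_card
  set s : Set α := ((g.support : Set α))ᶜ with hsdef
  have hms : s.ncard = Fintype.card α - p := by
    rw [hsdef, Set.ncard_compl, Set.ncard_coe_finset, hgp, hα]
  have hfmem : ∀ x, x ∈ SubMulAction.ofFixingSubgroup G s ↔ x ∈ g.support := by
    intro x
    rw [SubMulAction.mem_ofFixingSubgroup_iff, hsdef, Set.mem_compl_iff, not_not, Finset.mem_coe]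
  have htr := isPretransitive_of_isCycle_mem (G := G) hgc hg
  have hprim : IsPreprimitive (fixingSubgroup G s) (SubMulAction.ofFixingSubgroup G s) := by
    refine IsPreprimitive.of_prime_card ?_
    rwa [Nat.card_congr (Equiv.subtypeEquivRight hfmem), Nat.card_eq_fintype_card, Fintype.card_coe, hgp]
  obtain ⟨n, hn'⟩ : ∃ n, s.ncard = n + 1 := ⟨s.ncard - 1, by omega⟩
  have hpp := hG.isMultiplyPreprimitive hn' (by have := hp.two_le; omega) hprim
  have hm1 : IsMultiplyPretransitive G α (n + 2) := hpp.isMultiplyPretransitive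
  have hm0 : IsMultiplyPretransitive G α (n + 1) :=
    isMultiplyPretransitive_of_le (n := n + 2) (by omega) (by rw [hα]; have := hp.two_le; omega)
  -- permutations of the fixed points of `g` are induced by elements of `G`
  obtain ⟨es⟩ : Nonempty (Fin (n + 1) ≃ s) := Finite.card_eq.mp (by rw [Nat.card_eq_fintype_card, Fintype.card_fin, Nat.card_coe_set_eq, hn'])
  let es' : Fin (n + 1) ↪ α := es.toEmbedding.trans (Function.Embedding.subtype _)
  -- the pointwise stabiliser of the fixed points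
  let K : Subgroup (Equiv.Perm α) := G ⊓ fixingSubgroup (Equiv.Perm α) s
  have hgK : g ∈ K := ⟨hg, (mem_fixingSubgroup_iff _).mpr fun x hx => notMem_support.mp hx⟩
  have hKsupp : ∀ k ∈ K, ∀ x, k x ∈ g.support ↔ x ∈ g.support := by
    intro k hk x
    constructor
    · intro h
      by_contra hx
      rw [show k x = x from (mem_fixingSubgroup_iff _).mp hk.2 x hx] at h
      exact hx h
    · intro h
      by_contra hx
      have : k (k x) = k x := (mem_fixingSubgroup_iff _).mp hk.2 (k x) hx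
      rw [k.injective this] at hx
      exact hx h
  let φ : K →* Equiv.Perm g.support :=
    { toFun := fun k => (k : Equiv.Perm α).subtypePerm fun x => hKsupp k k.2 x
      map_one' := rfl
      map_mul' := fun _ _ => rfl }
  have hφ : Function.Injective φ := by
    intro a b h
    refine Subtype.ext (Equiv.ext fun x => ?_)
    by_cases hx : x ∈ g.support
    · exact congrArg Subtype.val (Equiv.ext_iff.mp h ⟨x, hx⟩)
    · rw [show (a : Equiv.Perm α) x = x from (mem_fixingSubgroup_iff _).mp a.2.2 x hx,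
        show (b : Equiv.Perm α) x = x from (mem_fixingSubgroup_iff _).mp b.2.2 x hx]
  have hKdvd : Nat.card K ∣ p.factorial := by
    have := Subgroup.card_dvd_of_injective φ hφ
    rwa [Nat.card_eq_fintype_card (α := Equiv.Perm g.support), Fintype.card_perm, Fintype.card_coe, hgp] at this
  have hsq : ¬ p * p ∣ p.factorial := by
    rw [← Nat.mul_factorial_pred hp.ne_zero]
    intro h
    have := (Nat.Prime.dvd_factorial hp).mp (Nat.dvd_of_mul_dvd_mul_left hp.pos h)
    have := hp.two_le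
    omega
  have hord : ∀ q : K, orderOf q = p → ∀ P : Sylow p K, (Subgroup.zpowers q ≤ P) → (P : Subgroup K) = Subgroup.zpowers q := by
    intro q hq P hle
    symm
    apply Subgroup.eq_of_le_of_card_ge hle
    rw [Nat.card_zpowers, hq]
    obtain ⟨e, he⟩ := IsPGroup.iff_card.mp P.2
    have hd : p ^ e ∣ p.factorial := he ▸ (Subgroup.card_subgroup_dvd_card _).trans hKdvd
    have : e ≤ 1 := by
      by_contra hlt
      exact hsq ((pow_two p ▸ pow_dvd_pow p (by omega : 2 ≤ e)).trans hd)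
    rw [he]
    exact (pow_le_pow_right₀ hp.one_lt.le this).trans_eq (pow_one p)
  have horder : orderOf g = p := by rw [hgc.orderOf, hgp]
  -- lift a permutation of the fixed points to an element normalising `⟨g⟩`
  have hlift : ∀ σ : Equiv.Perm s, ∃ h ∈ G, (∀ x : s, h x = σ x) ∧ ∃ i : ℤ, h * g * h⁻¹ = g ^ i := by
    intro σ
    obtain ⟨h0, hh0⟩ := exists_smul_eq G es' (((es.trans σ).toEmbedding).trans (Function.Embedding.subtype _))
    have hh : ∀ x : s, (h0 : Equiv.Perm α) x = σ x := by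
      intro x
      obtain ⟨i, rfl⟩ := es.surjective x
      exact DFunLike.congr_fun hh0 i
    have hsupp' : ∀ x ∈ s, (h0 : Equiv.Perm α)⁻¹ x ∈ s := by
      intro x hx
      have := hh (σ⁻¹ ⟨x, hx⟩)
      rw [Equiv.Perm.inv_def, Equiv.apply_symm_apply] at this
      have h' := congrArg (fun y => (h0 : Equiv.Perm α)⁻¹ y) this
      simp only [Equiv.Perm.inv_def, Equiv.symm_apply_apply] at h'
      rw [Equiv.Perm.inv_def, ← h']
      exact (σ.symm ⟨x, hx⟩).2
    have hq : (h0 : Equiv.Perm α) * g * (h0 : Equiv.Perm α)⁻¹ ∈ K := by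
      refine ⟨G.mul_mem (G.mul_mem h0.2 hg) (G.inv_mem h0.2), (mem_fixingSubgroup_iff _).mpr fun x hx => ?_⟩
      change (h0 : Equiv.Perm α) (g ((h0 : Equiv.Perm α)⁻¹ x)) = x
      rw [show g ((h0 : Equiv.Perm α)⁻¹ x) = (h0 : Equiv.Perm α)⁻¹ x from notMem_support.mp (hsupp' x hx)]
      simp
    have o1 : orderOf (⟨g, hgK⟩ : K) = p := (Subgroup.orderOf_coe _).symm.trans horder
    have o2 : orderOf (⟨_, hq⟩ : K) = p := by
      rw [← Subgroup.orderOf_coe]
      exact (SemiconjBy.orderOf_eq (↑h0) (by rw [SemiconjBy]; group)).symm.trans horder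
    have pg : ∀ q : K, orderOf q = p → IsPGroup p (Subgroup.zpowers q) := fun q hq' =>
      IsPGroup.of_card (n := 1) (by rw [Nat.card_zpowers, hq', pow_one])
    obtain ⟨P, hP⟩ := (pg _ o1).exists_le_sylow
    obtain ⟨Q, hQ⟩ := (pg _ o2).exists_le_sylow
    obtain ⟨k, hk⟩ := exists_smul_eq K Q P
    have hmem : k * ⟨_, hq⟩ * k⁻¹ ∈ (P : Subgroup K) := by
      rw [← hk, Sylow.coe_subgroup_smul]
      exact ⟨_, hQ (Subgroup.mem_zpowers _), rfl⟩
    rw [hord _ o1 P hP] at hmem
    obtain ⟨i, hi⟩ := hmem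
    refine ⟨(k : Equiv.Perm α) * h0, G.mul_mem k.2.1 h0.2, fun x => ?_, i, ?_⟩
    · rw [Equiv.Perm.mul_apply, hh]
      exact (mem_fixingSubgroup_iff _).mp k.2.2 _ (σ x).2
    · have := congrArg Subtype.val hi
      simp only [Subgroup.coe_zpow, Subgroup.coe_mul, Subgroup.coe_inv] at this
      rw [this]; group
  -- a 3-cycle on the fixed points
  obtain ⟨a, b, c, hab, hac, hbc⟩ : ∃ a b c : s, a ≠ b ∧ a ≠ c ∧ b ≠ c := by
    rw [← Fintype.two_lt_card_iff, ← Nat.card_eq_fintype_card, Nat.card_coe_set_eq]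
    omega
  obtain ⟨h1, h1G, h1x, i1, hi1⟩ := hlift (Equiv.swap a b)
  obtain ⟨h2, h2G, h2x, i2, hi2⟩ := hlift (Equiv.swap b c)
  set d := (h2 * h1)⁻¹ * (h1 * h2) with hd
  have hdg : d * g = g * d := by
    have e12 : (h1 * h2) * g * (h1 * h2)⁻¹ = g ^ (i1 * i2) := by
      rw [show (h1 * h2) * g * (h1 * h2)⁻¹ = h1 * (h2 * g * h2⁻¹) * h1⁻¹ by group, hi2, ← conj_zpow, hi1, ← zpow_mul]
    have e21 : (h2 * h1) * g * (h2 * h1)⁻¹ = g ^ (i1 * i2) := by
      rw [show (h2 * h1) * g * (h2 * h1)⁻¹ = h2 * (h1 * g * h1⁻¹) * h2⁻¹ by group, hi1, ← conj_zpow, hi2, ← zpow_mul, mul_comm]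
    calc d * g = (h2 * h1)⁻¹ * ((h1 * h2) * g * (h1 * h2)⁻¹) * (h1 * h2) := by rw [hd]; group
      _ = (h2 * h1)⁻¹ * ((h2 * h1) * g * (h2 * h1)⁻¹) * (h1 * h2) := by rw [e12, e21]
      _ = g * d := by rw [hd]; group
  have hdG : d ∈ G := G.mul_mem (G.inv_mem (G.mul_mem h2G h1G)) (G.mul_mem h1G h2G)
  have hds : ∀ x : s, d x = ((Equiv.swap b c * Equiv.swap a b)⁻¹ * (Equiv.swap a b * Equiv.swap b c)) x := by
    intro x
    have hx : ∀ (h : Equiv.Perm α) (σ : Equiv.Perm s), (∀ y : s, h y = σ y) → ∀ y : s, h⁻¹ (y : α) = (σ⁻¹ y : s) := by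
      intro h σ hh y
      rw [Equiv.Perm.inv_def, Equiv.symm_apply_eq, hh, Equiv.Perm.inv_def, Equiv.apply_symm_apply]
    rw [hd, mul_inv_rev, mul_inv_rev]
    simp only [Equiv.Perm.mul_apply, h1x, h2x, hx h1 _ h1x, hx h2 _ h2x]
  -- kill the action on the support
  obtain ⟨x0, hx0⟩ : g.support.Nonempty := Finset.card_pos.mp (by rw [hgp]; exact hp.pos)
  have hdx : d x0 ∈ g.support := by
    rw [mem_support] at hx0 ⊢
    intro e
    have h' : d (g x0) = d x0 := by
      rw [← Equiv.Perm.mul_apply, hdg, Equiv.Perm.mul_apply, e]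
    exact hx0 (d.injective h')
  obtain ⟨i, hi⟩ := hgc.exists_zpow_eq (mem_support.mp hx0) (mem_support.mp hdx)
  set t := (g ^ i)⁻¹ * d with ht
  have htsupp : ∀ x ∈ g.support, t x = x := by
    intro x hx
    obtain ⟨j, rfl⟩ := hgc.exists_zpow_eq (mem_support.mp hx0) (mem_support.mp hx)
    have hc : Commute t (g ^ j) :=
      ((Commute.zpow_left (Commute.refl g) i).inv_left.mul_left hdg).zpow_right j
    rw [← Equiv.Perm.mul_apply, hc.eq, Equiv.Perm.mul_apply]
    congr 1
    rw [ht, Equiv.Perm.mul_apply, ← hi, Equiv.Perm.inv_def, Equiv.symm_apply_apply]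
  have hts : ∀ x : s, t x = d x := by
    intro x
    rw [ht, Equiv.Perm.mul_apply, Equiv.Perm.inv_def, Equiv.symm_apply_eq]
    have hdxs : d x ∉ g.support := by
      rw [hds]; exact fun h => (Subtype.prop (((Equiv.swap b c * Equiv.swap a b)⁻¹ * (Equiv.swap a b * Equiv.swap b c)) x)) (Finset.mem_coe.mpr h)
    exact (zpow_apply_eq_self_of_apply_eq_self (notMem_support.mp hdxs) i).symm
  refine alternatingGroup_le_of_isPreprimitive_of_isThreeCycle_mem (g := t) hG ?_ (G.mul_mem (G.inv_mem (G.zpow_mem hg i)) hdG)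
  rw [← card_support_eq_three_iff]
  set τ := (Equiv.swap b c * Equiv.swap a b)⁻¹ * (Equiv.swap a b * Equiv.swap b c) with hτ
  have hsup : t.support = τ.support.map (Function.Embedding.subtype _) := by
    ext x
    constructor
    · intro hx
      have hxs : x ∈ s := fun h => (mem_support.mp hx) (htsupp x h)
      refine Finset.mem_map.mpr ⟨⟨x, hxs⟩, mem_support.mpr fun e => ?_, rfl⟩
      exact (mem_support.mp hx) ((hts ⟨x, hxs⟩).trans ((hds ⟨x, hxs⟩).trans (congrArg Subtype.val e)))
    · intro hx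
      obtain ⟨y, hy, rfl⟩ := Finset.mem_map.mp hx
      refine mem_support.mpr fun e => (mem_support.mp hy) (Subtype.ext ?_)
      exact ((hts y).trans (hds y)).symm.trans e
  rw [hsup, Finset.card_map]
  have hτs : τ.support = {a, b, c} := by
    ext x
    rw [mem_support, hτ, mul_inv_rev, Equiv.swap_inv, Equiv.swap_inv]
    simp only [Equiv.Perm.mul_apply, Equiv.swap_apply_def, Finset.mem_insert, Finset.mem_singleton]
    grind
  rw [hτs]
  exact Finset.card_eq_three.mpr ⟨a, b, c, hab, hac, hbc, rfl⟩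


end Cfsg.Agent.S0713
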