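import Cfsg.Statements.S0717
import Mathlib
import Cfsg.Agent.Perm.CentralizerRing
-- import your own Cfsg.Agent.* helpers here

set_option autoImplicit false
open Cfsg
open scoped commutatorElement Pointwise

namespace Cfsg.Agent.S0717

/-- All suborbits of a transitive group are self-paired (every pair of points is interchanged by some group element) if and only if the permutation character is multiplicity-free and each of its irreducible constituents is real-valued. -/
theorem result {G : Type*} [Group G] [Fintype G] {Ω : Type*} [Fintype Ω] [MulAction G Ω] [MulAction.IsPretransitive G Ω] : (∀ a b : Ω, ∃ g : G, g • a = b ∧ g • b = a) ↔ ∀ χ : G → ℂ, Cfsg.IsIrrCharacter G χ → Cfsg.classInner (fun g : G => (Nat.card (MulAction.fixedBy Ω g) : ℂ)) χ ≠ 0 → Cfsg.classInner (fun g : G => (Nat.card (MulAction.fixedBy Ω g) : ℂ)) χ = 1 ∧ ∀ g : G, (starRingEnd ℂ) (χ g) = χ g := by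
  classical
  open CfsgLib.Char CfsgLib.CentralizerRing in
  exact (by
    let Sym : ((Ω → ℂ) →ₗ[ℂ] (Ω → ℂ)) → Prop := fun S =>
      ∀ x y : Ω, S (Pi.single y 1) x = S (Pi.single x 1) y
    have hswap : ∀ (χ : G → ℂ), Cfsg.IsIrrCharacter G χ → ∀ x y : Ω,
        op (Ω := Ω) (fun g => (starRingEnd ℂ) (χ g)) (Pi.single x 1) y =
          op (Ω := Ω) χ (Pi.single y 1) x := by
      intro χ hχ x y
      rw [op_apply_single, op_apply_single]
      refine Fintype.sum_equiv (Equiv.inv G) _ _ fun g => ?_
      rw [Equiv.inv_apply]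
      refine if_congr ?_ ?_ rfl
      · rw [inv_smul_eq_iff]; exact eq_comm
      · exact (IsCharacter.apply_inv (IsIrrCharacter.isCharacter hχ) g).symm
    constructor
    · intro hpair
      have hsym : ∀ S ∈ ((Cfsg.permRep ℂ G Ω).linHom (Cfsg.permRep ℂ G Ω)).invariants, Sym S := by
        intro S hS x y
        obtain ⟨g, hx, hy⟩ := hpair x y
        rw [mem_invariants_iff] at hS
        have h1 := congrFun (hS g (Pi.single y 1)) y
        rw [permRep_single, permRep_apply, hy] at h1
        rw [h1, inv_smul_eq_iff.2 hx.symm]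
      have hmul : ∀ (S T : (Ω → ℂ) →ₗ[ℂ] (Ω → ℂ)) (x y : Ω),
          (S ∘ₗ T) (Pi.single y 1) x = ∑ z, S (Pi.single z 1) x * T (Pi.single y 1) z := by
        intro S T x y
        rw [LinearMap.comp_apply]
        conv_lhs => rw [pi_eq_sum_univ' (T (Pi.single y 1)), map_sum, Finset.sum_apply]
        exact Finset.sum_congr rfl fun z _ => by rw [map_smul, Pi.smul_apply, smul_eq_mul, mul_comm]
      have hcomm : ∀ S T : (Ω → ℂ) →ₗ[ℂ] (Ω → ℂ),
          S ∈ ((Cfsg.permRep ℂ G Ω).linHom (Cfsg.permRep ℂ G Ω)).invariants →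
          T ∈ ((Cfsg.permRep ℂ G Ω).linHom (Cfsg.permRep ℂ G Ω)).invariants → S ∘ₗ T = T ∘ₗ S := by
        intro S T hS hT
        have hTS : T ∘ₗ S ∈ ((Cfsg.permRep ℂ G Ω).linHom (Cfsg.permRep ℂ G Ω)).invariants := by
          rw [mem_invariants_iff] at hS hT ⊢
          intro g v
          rw [LinearMap.comp_apply, LinearMap.comp_apply, hS, hT]
        refine (Pi.basisFun ℂ Ω).ext fun y => funext fun x => ?_
        rw [Pi.basisFun_apply, hsym _ hTS x y, hmul, hmul]
        refine Finset.sum_congr rfl fun z _ => ?_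
        rw [hsym S hS x z, hsym T hT z y, mul_comm]
      intro χ hχ hne
      have hmf := (mult_le_one hcomm χ hχ).resolve_left hne
      refine ⟨hmf, fun g₁ => ?_⟩
      have hop : op (Ω := Ω) (fun g => (starRingEnd ℂ) (χ g)) = op χ := by
        refine (Pi.basisFun ℂ Ω).ext fun y => funext fun x => ?_
        rw [Pi.basisFun_apply, hsym _ (op_mem fun g h => by
          show (starRingEnd ℂ) (χ _) = (starRingEnd ℂ) (χ g)
          rw [IsIrrCharacter.isClassFunction hχ g h]) x y, hswap χ hχ]
      have hχc := IsIrrCharacter.conj hχ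
      have heq : ∀ h : G, (Nat.card G : ℂ) / χ 1 * χ h =
          (Nat.card G : ℂ) / (starRingEnd ℂ) (χ 1) *
            Cfsg.classInner (pi G Ω) (fun g => (starRingEnd ℂ) (χ g)) * (starRingEnd ℂ) (χ h) := by
        intro h
        have h1 := trace_op_mul (Ω := Ω) hχ h
        have h2 := trace_op_mul (Ω := Ω) hχc h
        simp only [RingHomCompTriple.comp_apply, RingHom.id_apply, Complex.conj_conj] at h2
        rw [hop, h2, show Cfsg.classInner (pi G Ω) χ = 1 from hmf, mul_one] at h1
        exact h1.symm
      obtain ⟨d, hd0, hd⟩ := IsIrrCharacter.exists_degree hχ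
      have hc : Cfsg.classInner (pi G Ω) (fun g => (starRingEnd ℂ) (χ g)) = 1 := by
        have := heq 1
        rw [hd, Complex.conj_natCast] at this
        have hd' : (d : ℂ) ≠ 0 := by exact_mod_cast (show d ≠ 0 by omega)
        have hG : (Nat.card G : ℂ) ≠ 0 := by exact_mod_cast Nat.card_pos.ne'
        field_simp at this
        linear_combination -this
      have h3 := heq g₁
      rw [hc, hd, Complex.conj_natCast, mul_one] at h3
      exact (mul_left_cancel₀ (div_ne_zero (by exact_mod_cast Nat.card_pos.ne')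
        (by exact_mod_cast (show d ≠ 0 by omega))) h3).symm
    · intro h a b
      have hmf : ∀ χ : G → ℂ, Cfsg.IsIrrCharacter G χ →
          Cfsg.classInner (pi G Ω) χ = 0 ∨ Cfsg.classInner (pi G Ω) χ = 1 := by
        intro χ hχ
        by_cases h0 : Cfsg.classInner (pi G Ω) χ = 0
        · exact Or.inl h0
        · exact Or.inr (h χ hχ h0).1
      have key : ∀ S, S ∈ Submodule.span ℂ {T : (Ω → ℂ) →ₗ[ℂ] (Ω → ℂ) | ∃ χ : G → ℂ,
          Cfsg.IsIrrCharacter G χ ∧ Cfsg.classInner (pi G Ω) χ ≠ 0 ∧
            T = op (fun g => (starRingEnd ℂ) (χ g))} → Sym S := by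
        intro S hS
        induction hS using Submodule.span_induction with
        | mem U hU =>
          obtain ⟨χ, hχ, hne, rfl⟩ := hU
          intro x y
          have hreal : (fun g => (starRingEnd ℂ) (χ g)) = χ := funext (h χ hχ hne).2
          conv_rhs => rw [hswap χ hχ x y]
          rw [hreal]
        | zero => intro x y; simp
        | add U V _ _ hU hV =>
          intro x y
          simp only [LinearMap.add_apply, Pi.add_apply, hU x y, hV x y]
        | smul c U _ hU =>
          intro x y
          simp only [LinearMap.smul_apply, Pi.smul_apply, hU x y]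
      have hs := key _ (mem_span_op hmf (orbOp_mem a b)) a b
      rw [orbOp_apply_single, orbOp_apply_single,
        if_pos ⟨1, one_smul _ _, one_smul _ _⟩] at hs
      by_contra hno
      rw [if_neg fun ⟨g, h1, h2⟩ => hno ⟨g, h1, h2⟩] at hs
      exact one_ne_zero hs)


end Cfsg.Agent.S0717
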