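import Cfsg.Statements.S0672
import Mathlib
import Cfsg.Agent.Perm.Multi
-- import your own Cfsg.Agent.* helpers here

set_option autoImplicit false
open Cfsg
open scoped commutatorElement Pointwise

namespace Cfsg.Agent.S0672

/-- Let a finite group act faithfully and doubly transitively with point stabilisers of even order, and let `K` have characteristic `p` dividing the degree. If the heart of the permutation module admits no non-zero equivariant map to the permutation module on unordered pairs (phrased: every intertwining map from the sum-zero functions vanishing on the constants is zero), the action is triply transitive. -/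
theorem result {G : Type*} [Group G] [Finite G] {K : Type*} [Field K] {p : ℕ} [Fact p.Prime] [CharP K p] {Ω : Type*} [Fintype Ω] [DecidableEq Ω] [MulAction G Ω] [FaithfulSMul G Ω] (h2 : MulAction.IsMultiplyPretransitive G Ω 2) (hp : p ∣ Fintype.card Ω) (heven : ∀ a : Ω, Even (Nat.card (MulAction.stabilizer G a))) (h : ∀ f : Representation.IntertwiningMap (Cfsg.permSumZero K G Ω).toRepresentation (Cfsg.permRep K G (Set.powersetCard Ω 2)), (∀ v : (Cfsg.permSumZero K G Ω).toSubmodule, (v : Ω → K) ∈ (Cfsg.permConstants K G Ω).toSubmodule → f v = 0) → f = 0) : MulAction.IsMultiplyPretransitive G Ω 3 := by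
  classical
  have hkey : ∀ a b c d : Ω, a ≠ b → c ≠ a → c ≠ b → d ≠ a → d ≠ b →
      ∃ g : G, ((g • a = a ∧ g • b = b) ∨ (g • a = b ∧ g • b = a)) ∧ g • c = d := by
    intro a b c d hab hca hcb hda hdb
    by_contra hn
    let s₀ : Set.powersetCard Ω 2 := ⟨{a, b}, Finset.card_pair hab⟩
    have hsm : ∀ (g : G) (s : Set.powersetCard Ω 2) (u : Ω), u ∈ (s : Finset Ω) →
        g • u ∈ ((g • s : Set.powersetCard Ω 2) : Finset Ω) := fun g s u hu => by
      rw [Set.powersetCard.coe_smul]; exact Finset.smul_mem_smul_finset hu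
    have hs₀ : ∀ g : G, g • s₀ = s₀ → (g • a = a ∧ g • b = b) ∨ (g • a = b ∧ g • b = a) := by
      intro g hg
      have ha := hsm g s₀ a (Finset.mem_insert_self _ _)
      have hb := hsm g s₀ b (Finset.mem_insert_of_mem (Finset.mem_singleton_self _))
      rw [hg] at ha hb
      simp only [s₀, Finset.mem_insert, Finset.mem_singleton] at ha hb
      rcases ha with ha | ha <;> rcases hb with hb | hb
      · exact absurd (smul_left_cancel g (ha.trans hb.symm)) hab
      · exact Or.inl ⟨ha, hb⟩
      · exact Or.inr ⟨ha, hb⟩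
      · exact absurd (smul_left_cancel g (ha.trans hb.symm)) hab
    have htr : ∀ s : Set.powersetCard Ω 2, ∃ g : G, g • s₀ = s := by
      intro s
      obtain ⟨u, v, huv, hs⟩ := Finset.card_eq_two.1 s.2
      obtain ⟨g, h1, h2'⟩ := MulAction.is_two_pretransitive_iff.1 h2 hab huv
      refine ⟨g, Subtype.ext ?_⟩
      rw [Set.powersetCard.coe_smul]
      show g • ({a, b} : Finset Ω) = _
      rw [Finset.smul_finset_insert, Finset.smul_finset_singleton, h1, h2', hs]
    let R : Ω → Set.powersetCard Ω 2 → Ω → Prop := fun e s u => ∃ g : G, g • s₀ = s ∧ g • e = u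
    have hR : ∀ (e : Ω) (g : G) (s : Set.powersetCard Ω 2) (u : Ω),
        R e s u → R e (g • s) (g • u) := fun e g s u ⟨k, h1, h2'⟩ =>
      ⟨g * k, by rw [mul_smul, h1], by rw [mul_smul, h2']⟩
    let T : Ω → (Ω → K) →ₗ[K] (Set.powersetCard Ω 2 → K) := fun e =>
      LinearMap.pi fun s => ∑ u ∈ Finset.univ.filter (fun u => R e s u), LinearMap.proj u
    have hT : ∀ e v s, T e v s = ∑ u ∈ Finset.univ.filter (fun u => R e s u), v u := fun e v s => by
      simp [T]
    have hTg : ∀ e (g : G) (v : Ω → K),
        T e (Cfsg.permRep K G Ω g v) = Cfsg.permRep K G (Set.powersetCard Ω 2) g (T e v) := by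
      intro e g v
      funext s
      show _ = T e v (g⁻¹ • s)
      simp only [hT]
      refine Finset.sum_bij (fun u _ => g⁻¹ • u) (fun u hu => ?_)
        (fun _ _ _ _ e' => smul_left_cancel _ e') (fun u hu => ⟨g • u, ?_, by simp⟩) (fun u _ => rfl)
      · simp only [Finset.mem_filter, Finset.mem_univ, true_and] at hu ⊢
        exact hR e g⁻¹ _ _ hu
      · simp only [Finset.mem_filter, Finset.mem_univ, true_and] at hu ⊢
        simpa using hR e g _ _ hu
    let k : Ω → K := fun e => ((Finset.univ.filter (fun u => R e s₀ u)).card : K)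
    have hT1 : ∀ e s, T e (fun _ => (1 : K)) s = k e := by
      intro e s
      obtain ⟨g, rfl⟩ := htr s
      have := congrFun (hTg e g (fun _ => (1 : K))) (g • s₀)
      change T e (fun _ => (1 : K)) (g • s₀) = T e (fun _ => (1 : K)) (g⁻¹ • (g • s₀)) at this
      rw [this, inv_smul_smul, hT, Finset.sum_const, nsmul_one]
    have hval : ∀ e e' : Ω, e' ≠ a → e ≠ a → e ≠ b →
        T e (Pi.single e' (1 : K) - Pi.single a (1 : K)) s₀ = if R e s₀ e' then 1 else 0 := by
      intro e e' he' hea heb
      have hnot : ¬ R e s₀ a := by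
        rintro ⟨g, hg, hge⟩
        rcases hs₀ g hg with ⟨h1, -⟩ | ⟨-, h2'⟩
        · exact hea (smul_left_cancel g (hge.trans h1.symm))
        · exact heb (smul_left_cancel g (hge.trans h2'.symm))
      simp [hT, Pi.single_apply, Finset.sum_sub_distrib, hnot]
    have hrefl : ∀ e, R e s₀ e := fun e => ⟨1, one_smul _ _, one_smul _ _⟩
    have hndc : ¬ R d s₀ c := by
      rintro ⟨g, hg, hgd⟩
      refine hn ⟨g⁻¹, hs₀ _ (inv_smul_eq_iff.2 hg.symm), inv_smul_eq_iff.2 hgd.symm⟩
    obtain ⟨F, hFg, hF1, u, hu, hFu⟩ : ∃ F : (Ω → K) →ₗ[K] (Set.powersetCard Ω 2 → K),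
        (∀ (g : G) (v : Ω → K), F (Cfsg.permRep K G Ω g v) =
          Cfsg.permRep K G (Set.powersetCard Ω 2) g (F v)) ∧ F (fun _ => 1) = 0 ∧
        ∃ u : Ω → K, ∑ x, u x = 0 ∧ F u s₀ ≠ 0 := by
      by_cases hkd : k d = 0
      · refine ⟨T d, hTg d, funext fun s => by rw [hT1, hkd]; rfl,
          Pi.single d 1 - Pi.single a 1, by simp [Pi.single_apply, Finset.sum_sub_distrib], ?_⟩
        rw [hval d d hda hda hdb, if_pos (hrefl d)]; exact one_ne_zero
      · refine ⟨k d • T c - k c • T d, fun g v => ?_, funext fun s => ?_,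
          Pi.single c 1 - Pi.single a 1, by simp [Pi.single_apply, Finset.sum_sub_distrib], ?_⟩
        · simp only [LinearMap.sub_apply, LinearMap.smul_apply, hTg, map_sub, map_smul]
        · simp only [LinearMap.sub_apply, LinearMap.smul_apply, Pi.sub_apply, Pi.smul_apply, hT1,
            smul_eq_mul, Pi.zero_apply]
          ring
        · simp only [LinearMap.sub_apply, LinearMap.smul_apply, Pi.sub_apply, Pi.smul_apply,
            smul_eq_mul, hval c c hca hca hcb, hval d c hca hda hdb, if_pos (hrefl c), if_neg hndc,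
            mul_one, mul_zero, sub_zero]
          exact hkd
    let f : Representation.IntertwiningMap (Cfsg.permSumZero K G Ω).toRepresentation
        (Cfsg.permRep K G (Set.powersetCard Ω 2)) :=
      { toLinearMap := F.comp (Cfsg.permSumZero K G Ω).toSubmodule.subtype
        isIntertwining' := fun g => LinearMap.ext fun v => hFg g (v : Ω → K) }
    have h0 := h f (fun v hv => by
      obtain ⟨t, ht⟩ := Submodule.mem_span_singleton.1 hv
      show F (v : Ω → K) = 0
      rw [← ht, map_smul, hF1, smul_zero])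
    have hfu : f ⟨u, hu⟩ = 0 := by rw [h0]; rfl
    exact hFu (congrFun (hfu : F u = 0) s₀)
  -- remove the swap
  have hfix : ∀ a b c d : Ω, a ≠ b → c ≠ a → c ≠ b → d ≠ a → d ≠ b →
      ∃ g : G, g • a = a ∧ g • b = b ∧ g • c = d := by
    intro a b c d hab hca hcb hda hdb
    -- an involution fixing a point and moving another
    obtain ⟨t, ht⟩ := exists_prime_orderOf_dvd_card' (G := MulAction.stabilizer G a) 2 (heven a).two_dvd
    have ht1 : (t : G) ≠ 1 := fun e => by
      rw [Subtype.ext e (a2 := (1 : MulAction.stabilizer G a)), orderOf_one] at ht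
      omega
    obtain ⟨u, hu⟩ : ∃ u : Ω, (t : G) • u ≠ u := by
      by_contra hall
      push Not at hall
      exact ht1 (eq_of_smul_eq_smul (α := Ω) fun x => by rw [hall, one_smul])
    have htt : ∀ x : Ω, (t : G) • (t : G) • x = x := by
      intro x
      have : (t : G) ^ 2 = 1 := by rw [← Subgroup.orderOf_coe] at ht; rw [← ht, pow_orderOf_eq_one]
      rw [smul_smul, ← pow_two, this, one_smul]
    obtain ⟨g, hgu, hgv⟩ := MulAction.is_two_pretransitive_iff.1 h2 (Ne.symm hu) hab
    let s : G := g * t * g⁻¹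
    have hsa : s • a = b := by
      show (g * (t : G) * g⁻¹) • a = b
      rw [mul_smul, mul_smul, inv_smul_eq_iff.2 hgu.symm, hgv]
    have hsb : s • b = a := by
      show (g * (t : G) * g⁻¹) • b = a
      rw [mul_smul, mul_smul, inv_smul_eq_iff.2 hgv.symm, htt, hgu]
    let e := g • a
    have hse : s • e = e := by
      show (g * (t : G) * g⁻¹) • g • a = g • a
      rw [mul_smul, mul_smul, inv_smul_smul, MulAction.mem_stabilizer_iff.1 t.2]
    have hea : e ≠ a := fun e' => hab (by rw [← hsa, ← e', hse])
    have heb : e ≠ b := fun e' => hab (by rw [← hsb, ← e', hse])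
    -- `G_{ab}` moves `e` everywhere
    have hall : ∀ x : Ω, x ≠ a → x ≠ b → ∃ k : G, k • a = a ∧ k • b = b ∧ k • e = x := by
      intro x hxa hxb
      obtain ⟨k, (⟨h1, h2'⟩ | ⟨h1, h2'⟩), hk⟩ := hkey a b e x hab hea heb hxa hxb
      · exact ⟨k, h1, h2', hk⟩
      · exact ⟨k * s, by rw [mul_smul, hsa, h2'], by rw [mul_smul, hsb, h1], by rw [mul_smul, hse, hk]⟩
    obtain ⟨k₁, h11, h12, h13⟩ := hall c hca hcb
    obtain ⟨k₂, h21, h22, h23⟩ := hall d hda hdb
    refine ⟨k₂ * k₁⁻¹, ?_, ?_, ?_⟩
    · rw [mul_smul, inv_smul_eq_iff.2 h11.symm, h21]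
    · rw [mul_smul, inv_smul_eq_iff.2 h12.symm, h22]
    · rw [mul_smul, inv_smul_eq_iff.2 h13.symm, h23]
  by_cases h4 : 3 < Fintype.card Ω
  · refine CfsgLib.PermMulti.isMultiplyPretransitive_of_fixing h4 fun s hs b c hb hc => ?_
    obtain ⟨x, y, hxy, rfl⟩ := Finset.card_eq_two.1 (show s.card = 2 by omega)
    simp only [Finset.mem_insert, Finset.mem_singleton, not_or] at hb hc
    obtain ⟨g, h1, h2', h3⟩ := hfix x y b c hxy hb.1 hb.2 hc.1 hc.2
    exact ⟨g, by simp [h1, h2'], h3⟩
  -- three points: the group is the full symmetric group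
  refine ⟨fun x y => ?_⟩
  have h3 : Fintype.card Ω = 3 := by
    have := Fintype.card_le_of_embedding x
    rw [Fintype.card_fin] at this
    omega
  have hbx : Function.Bijective x :=
    (Fintype.bijective_iff_injective_and_card x).2 ⟨x.injective, by rw [Fintype.card_fin, h3]⟩
  haveI : MulAction.IsPretransitive G Ω := MulAction.isPretransitive_of_is_two_pretransitive
  have hidx : (MulAction.stabilizer G (x 0)).index = 3 := by
    rw [MulAction.index_stabilizer_of_transitive, Nat.card_eq_fintype_card, h3]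
  have hG6 : 6 ≤ Nat.card G := by
    rw [← Subgroup.card_mul_index (MulAction.stabilizer G (x 0)), hidx]
    have := Nat.le_of_dvd Nat.card_pos (heven (x 0)).two_dvd
    omega
  have hP : Nat.card (Equiv.Perm Ω) = 6 := by
    rw [Nat.card_perm, Nat.card_eq_fintype_card, h3]; rfl
  have hbij : Function.Bijective (MulAction.toPerm : G → Equiv.Perm Ω) :=
    Function.Injective.bijective_of_nat_card_le MulAction.toPerm_injective (by omega)
  obtain ⟨g, hg⟩ := hbij.2 ((Equiv.ofBijective x hbx).symm.trans (Equiv.ofBijective y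
    ((Fintype.bijective_iff_injective_and_card y).2 ⟨y.injective, by rw [Fintype.card_fin, h3]⟩)))
  refine ⟨g, Function.Embedding.ext fun i => ?_⟩
  have := Equiv.congr_fun hg (x i)
  rw [MulAction.toPerm_apply] at this
  rw [Function.Embedding.smul_apply, this, Equiv.trans_apply]
  show y _ = y i
  congr 1
  exact (Equiv.ofBijective x hbx).symm_apply_apply i


end Cfsg.Agent.S0672
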