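import Cfsg.Statements.S0676
import Mathlib
import Cfsg.Agent.Perm.PrimeDegreeModule
import Cfsg.Agent.S0672
-- import your own Cfsg.Agent.* helpers here

set_option autoImplicit false
open Cfsg
open scoped commutatorElement Pointwise

namespace Cfsg.Agent.S0676

/-- A non-solvable transitive permutation group of prime degree `p` whose Sylow `p`-normaliser has even order is triply transitive. -/
theorem result {α : Type*} [Fintype α] [DecidableEq α] {p : ℕ} [Fact p.Prime] (hα : Fintype.card α = p) (G : Subgroup (Equiv.Perm α)) [MulAction.IsPretransitive G α] (hG : ¬ Group.IsSolvable G) (P : Sylow p G) (heven : Even (Nat.card (Subgroup.normalizer ((P : Subgroup G) : Set G)))) : MulAction.IsMultiplyPretransitive G α 3 := by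
  classical
  have hp := (Fact.out : p.Prime)
  have hcard : Nat.card α = p := by rw [Nat.card_eq_fintype_card, hα]
  have hp2 : p ≠ 2 := fun h2 => hG (CfsgLib.PrimeDegree.isSolvable_of_two (α := α) (h2 ▸ hcard))
  have h2t : MulAction.IsMultiplyPretransitive G α 2 :=
    (CfsgLib.Muller.solvable_or_two_transitive (p := p) hcard).resolve_left hG
  obtain ⟨g, s, e, -, -, he, hss, hs1, hs⟩ := CfsgLib.PrimeDegree.exists_negation hcard hp2 P heven
  have h2 : (2 : ZMod p) ≠ 0 := by
    intro h
    have h' : ((2 : ℕ) : ZMod p) = 0 := by exact_mod_cast h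
    rw [ZMod.natCast_eq_zero_iff] at h'
    exact hp2 ((Nat.prime_dvd_prime_iff_eq Fact.out Nat.prime_two).mp h')
  refine Cfsg.Agent.S0672.result (K := ZMod p) (p := p) h2t (by rw [hα]) (fun a => ?_) ?_
  · obtain ⟨k, hk⟩ := MulAction.exists_smul_eq G (e 0) a
    have hmem : k * s * k⁻¹ ∈ MulAction.stabilizer G a := by
      rw [MulAction.mem_stabilizer_iff, mul_smul, mul_smul, inv_smul_eq_iff.2 hk.symm, hs, neg_zero, hk]
    have ho : orderOf (k * s * k⁻¹) = 2 := by
      refine orderOf_eq_prime ?_ fun h1 => hs1 ?_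
      · rw [conj_pow, pow_two, hss, mul_one, mul_inv_cancel]
      · simpa using h1
    exact even_iff_two_dvd.2 (ho ▸ Subgroup.orderOf_dvd_natCard _ hmem)
  intro f hf
  let S := Cfsg.permSumZero (ZMod p) G α
  let C := Cfsg.permConstants (ZMod p) G α
  let W : Subrepresentation (Cfsg.permRep (ZMod p) G α) :=
    { toSubmodule := (LinearMap.ker f.toLinearMap).map S.toSubmodule.subtype
      apply_mem_toSubmodule := by
        rintro k _ ⟨v, hv, rfl⟩
        refine ⟨S.toRepresentation k v, ?_, rfl⟩
        show f.toLinearMap (S.toRepresentation k v) = 0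
        have : f.toLinearMap (S.toRepresentation k v) =
            Cfsg.permRep (ZMod p) G (Set.powersetCard α 2) k (f.toLinearMap v) :=
          LinearMap.congr_fun (f.isIntertwining' k) v
        rw [this, show f.toLinearMap v = 0 from hv, map_zero] }
  have hCS : C.toSubmodule ≤ S.toSubmodule := by
    rw [show C.toSubmodule = Submodule.span (ZMod p) {fun _ => (1 : ZMod p)} from rfl,
      Submodule.span_le, Set.singleton_subset_iff]
    show ∑ _u : α, (1 : ZMod p) = 0
    simp [hα]
  let x : α → ZMod p := fun u => e.symm u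
  have hxS : x ∈ S.toSubmodule := by
    show ∑ u, e.symm u = 0
    rw [Equiv.sum_comp e.symm (fun i => i)]
    have := FiniteField.sum_pow_lt_card_sub_one (K := ZMod p) 1 (by
      rw [ZMod.card]; have := hp.two_le; omega)
    simpa using this
  have hxC : x ∉ C.toSubmodule := by
    intro h
    obtain ⟨c, hc⟩ := Submodule.mem_span_singleton.1 h
    have h0 := congrFun hc (e 0)
    have h1 := congrFun hc (e 1)
    simp only [x, Pi.smul_apply, smul_eq_mul, mul_one, Equiv.symm_apply_apply] at h0 h1
    exact zero_ne_one (h0.symm.trans h1)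
  have hfg : ∀ (k : G) (v : S.toSubmodule), f (S.toRepresentation k v) =
      Cfsg.permRep (ZMod p) G (Set.powersetCard α 2) k (f v) :=
    fun k v => LinearMap.congr_fun (f.isIntertwining' k) v
  let y := f ⟨x, hxS⟩
  have hsx : S.toRepresentation s ⟨x, hxS⟩ = -⟨x, hxS⟩ := by
    apply Subtype.ext
    funext u
    show x (s⁻¹ • u) = -x u
    obtain ⟨i, rfl⟩ := e.surjective u
    rw [inv_eq_of_mul_eq_one_left hss, hs]
    simp [x]
  have hgx : ∀ n : ℕ, f (S.toRepresentation (g ^ n) ⟨x, hxS⟩) = y := by
    intro n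
    have hc : ((fun _ => -(n : ZMod p)) : α → ZMod p) ∈ C.toSubmodule :=
      Submodule.mem_span_singleton.2 ⟨-(n : ZMod p), funext fun _ => by simp⟩
    have he' : S.toRepresentation (g ^ n) ⟨x, hxS⟩ = ⟨x, hxS⟩ + ⟨_, hCS hc⟩ := by
      apply Subtype.ext
      funext u
      show x ((g ^ n)⁻¹ • u) = x u + -(n : ZMod p)
      obtain ⟨i, rfl⟩ := e.surjective u
      have : (g ^ n)⁻¹ • e i = e (i + -(n : ZMod p)) := by
        rw [inv_smul_eq_iff, he, neg_add_cancel_right]
      rw [this]
      simp [x]
    show f.toLinearMap _ = f.toLinearMap _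
    rw [he', map_add, show f.toLinearMap ⟨_, hCS hc⟩ = 0 from hf ⟨_, hCS hc⟩ hc, add_zero]
  have hy : y = 0 := by
    funext π
    obtain ⟨u, v, huv, hπ⟩ := Finset.card_eq_two.1 π.2
    obtain ⟨i, rfl⟩ := e.surjective u
    obtain ⟨j, rfl⟩ := e.surjective v
    let k : G := g ^ (i + j).val * s
    have hkπ : k • π = π := by
      apply Subtype.ext
      refine Set.powersetCard.coe_smul.trans ?_
      rw [hπ, Finset.smul_finset_insert, Finset.smul_finset_singleton]
      simp only [k, mul_smul, hs, he, ZMod.natCast_val, ZMod.cast_id, neg_add_cancel_left,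
        show -j + (i + j) = i by ring]
      rw [Finset.pair_comm]
    have h1 : Cfsg.permRep (ZMod p) G (Set.powersetCard α 2) k y = -y := by
      rw [← hfg, map_mul, Module.End.mul_apply, hsx, map_neg]
      show f.toLinearMap _ = -f.toLinearMap _
      rw [map_neg]
      exact congrArg Neg.neg (hgx _)
    have h3 := congrFun h1 π
    change y (k⁻¹ • π) = -(y π) at h3
    rw [inv_smul_eq_iff.2 hkπ.symm] at h3
    have : (2 : ZMod p) * y π = 0 := by linear_combination h3
    exact (mul_eq_zero.1 this).resolve_left h2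
  have hW₁ : C.toSubmodule ≤ W.toSubmodule := fun v hv => ⟨⟨v, hCS hv⟩, hf _ hv, rfl⟩
  have hW₂ : W.toSubmodule ≤ S.toSubmodule := by
    rintro _ ⟨v, -, rfl⟩
    exact v.2
  rcases CfsgLib.PrimeDegree.heart_irreducible hcard hG W hW₁ hW₂ with hW | hW
  · exact absurd ((congrArg (·.toSubmodule) hW) ▸ (⟨⟨x, hxS⟩, hy, rfl⟩ : x ∈ W.toSubmodule)) hxC
  · apply Representation.IntertwiningMap.toLinearMap_injective
    refine LinearMap.ext fun v => ?_
    have hv : (v : α → ZMod p) ∈ W.toSubmodule := (congrArg (·.toSubmodule) hW).symm ▸ v.2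
    obtain ⟨v', hv', hvv⟩ := hv
    rw [← Subtype.ext hvv (a1 := v') (a2 := v)]
    exact hv'


end Cfsg.Agent.S0676
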