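import Cfsg.Statements.S4706
import Cfsg.Agent.Perm.PrimeDegreeTwoP
import Cfsg.Agent.S0676
import Cfsg.Agent.S0727
import Cfsg.Agent.Perm.SharplyTwo
import Cfsg.Agent.Dickson.MaxPSLOdd
import Cfsg.Agent.PrimeGraph.SL2Char2

set_option autoImplicit false
open Cfsg

namespace Cfsg.Agent.S4706

/-- Let p > 2 be a prime and G a permutation group on p letters whose Sylow p-subgroup P has normalizer of order 2p. Then either P is normal in G, or p − 1 = 2^a for some a and G is isomorphic to SL(2, 2^a). -/
theorem result {α : Type*} [Fintype α] [DecidableEq α] {p : ℕ} [Fact p.Prime] (hp : 2 < p) (hα : Fintype.card α = p) (G : Subgroup (Equiv.Perm α)) (P : Sylow p G) (hN : Nat.card (Subgroup.normalizer ((P : Subgroup G) : Set G)) = 2 * p) : (P : Subgroup G).Normal ∨ ∃ (a : ℕ) (F : Type) (_ : Field F) (_ : Fintype F), p = 2 ^ a + 1 ∧ Fintype.card F = 2 ^ a ∧ Nonempty (G ≃* Matrix.SpecialLinearGroup (Fin 2) F) := by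
  classical
  have hpp := (Fact.out : p.Prime)
  have hcardα : Nat.card α = p := by rw [Nat.card_eq_fintype_card, hα]
  by_cases hPn : (P : Subgroup G).Normal
  · exact Or.inl hPn
  refine Or.inr ?_
  haveI := Fintype.ofFinite G
  have hne : (P : Subgroup G) ≠ ⊥ := fun h => hPn (h ▸ inferInstance)
  have hdvd : p ∣ Nat.card G := by
    obtain ⟨k, hk⟩ := IsPGroup.iff_card.1 P.2
    rcases k with _ | k
    · exact absurd (Subgroup.card_eq_one.1 (by simpa using hk)) hne
    · exact (dvd_pow_self p k.succ_ne_zero).trans (hk ▸ (P : Subgroup G).card_subgroup_dvd_card)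
  have hsq : ¬ p ^ 2 ∣ Nat.card G := by
    intro h
    have hdf : Nat.card G ∣ p.factorial := by
      rw [← hα, ← Fintype.card_perm, ← Nat.card_eq_fintype_card]
      exact Subgroup.card_subgroup_dvd_card G
    have hq := h.trans hdf
    rw [sq, ← Nat.mul_factorial_pred hpp.ne_zero, Nat.mul_dvd_mul_iff_left hpp.pos,
      hpp.dvd_factorial] at hq
    omega
  have hPc : Nat.card (P : Subgroup G) = p := by
    rw [P.card_eq_multiplicity]
    have hne' := (Nat.card_pos (α := G)).ne'
    have h1 := (hpp.dvd_iff_one_le_factorization hne').mp hdvd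
    have h2 : ¬ 2 ≤ (Nat.card G).factorization p := fun h =>
      hsq ((hpp.pow_dvd_iff_le_factorization hne').mpr h)
    rw [show (Nat.card G).factorization p = 1 by omega, pow_one]
  haveI hPT := CfsgLib.PermSimple.isPretransitive_of_card (α := α) hPc hcardα
  haveI hGT : MulAction.IsPretransitive G α := ⟨fun a b =>
    let ⟨x, hx⟩ := MulAction.exists_smul_eq (P : Subgroup G) a b
    ⟨x, hx⟩⟩
  -- simplicity, insolubility
  have hns : ¬ Group.IsSolvable G := by
    intro hsol
    have hidx : (((P : Subgroup G).subgroupOf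
        (Subgroup.normalizer ((P : Subgroup G) : Set G))).index).Prime := by
      have h := ((P : Subgroup G).subgroupOf
        (Subgroup.normalizer ((P : Subgroup G) : Set G))).card_mul_index
      rw [Nat.card_congr (Subgroup.subgroupOfEquivOfLe Subgroup.le_normalizer).toEquiv, hPc, hN,
        mul_comm 2 p] at h
      rw [Nat.eq_of_mul_eq_mul_left hpp.pos h]
      exact Nat.prime_two
    have hn : 1 < Nat.card (Sylow p G) := by
      by_contra h
      haveI : Subsingleton (Sylow p G) := Finite.card_le_one_iff_subsingleton.1 (by omega)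
      exact hPn P.normal_of_subsingleton
    haveI := CfsgLib.PermSimple.isSimpleGroup_prime_degree hα P hn hidx
    have hcomm : ∀ a b : G, a * b = b * a := IsSimpleGroup.comm_iff_isSolvable.2 hsol
    exact hPn ⟨fun x hx g => by rw [hcomm g x, mul_inv_cancel_right]; exact hx⟩
  have hp5 : 5 ≤ p := by
    by_contra h
    have h3 : p = 3 := by
      interval_cases p <;> first | rfl | (exfalso; norm_num at hpp)
    subst h3
    refine hPn (Subgroup.normalizer_eq_top_iff.1 (Subgroup.eq_top_of_card_eq _ ?_))
    refine le_antisymm (Nat.le_of_dvd Nat.card_pos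
      (Subgroup.card_subgroup_dvd_card _)) ?_
    rw [hN]
    refine Nat.le_of_dvd (by norm_num) ?_
    have := Subgroup.card_subgroup_dvd_card G
    rw [Nat.card_eq_fintype_card (α := Equiv.Perm α), Fintype.card_perm, hα] at this
    exact this
  haveI h3 : MulAction.IsMultiplyPretransitive G α 3 :=
    Cfsg.Agent.S0676.result hα G hns P (by rw [hN]; exact even_two_mul p)
  have hsharp := CfsgLib.PrimeTwoP.sharply_three (Ω := α) hp5 hα (P : Subgroup G) hPc hN
  -- the point stabiliser
  obtain ⟨a⟩ : Nonempty α := Fintype.card_pos_iff.mp (by omega)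
  haveI h2 : MulAction.IsMultiplyPretransitive (MulAction.stabilizer G a)
      (SubMulAction.ofStabilizer G a) 2 :=
    SubMulAction.ofStabilizer.isMultiplyPretransitive.mp h3
  have hS : Nat.card (SubMulAction.ofStabilizer G a) = p - 1 := by
    show Nat.card ({a}ᶜ : Set α) = _
    rw [Nat.card_coe_set_eq, Set.ncard_compl, Set.ncard_singleton, hcardα]
  haveI : FaithfulSMul (MulAction.stabilizer G a) (SubMulAction.ofStabilizer G a) :=
    ⟨fun {g h} hgh => by
      refine Subtype.ext (eq_of_smul_eq_smul (α := α) fun b => ?_)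
      by_cases hb : b = a
      · subst hb; rw [MulAction.mem_stabilizer_iff.mp g.2, MulAction.mem_stabilizer_iff.mp h.2]
      · exact congrArg Subtype.val (hgh (⟨b, hb⟩ : SubMulAction.ofStabilizer G a))⟩
  have hsharp2 : ∀ x : Fin 2 ↪ SubMulAction.ofStabilizer G a,
      MulAction.stabilizer (MulAction.stabilizer G a) x = ⊥ := by
    intro x
    rw [eq_bot_iff]
    intro g hg
    have hgx : ∀ i, g • x i = x i := fun i => congrFun (congrArg DFunLike.coe hg) i
    let e : Fin 3 ↪ α := ⟨![a, (x 0 : α), (x 1 : α)], by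
      have h0 : (x 0 : α) ≠ a := (x 0).2
      have h1 : (x 1 : α) ≠ a := (x 1).2
      have h01 : (x 0 : α) ≠ x 1 := fun h => by simpa using x.injective (Subtype.ext h)
      have h0' := h0.symm
      have h1' := h1.symm
      have h10 := h01.symm
      intro i j h
      fin_cases i <;> fin_cases j <;> simp_all⟩
    have hge : (g : G) ∈ MulAction.stabilizer G e := by
      rw [MulAction.mem_stabilizer_iff]
      refine Function.Embedding.ext fun i => ?_
      show (g : G) • (e i) = e i
      fin_cases i
      · exact g.2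
      · exact congrArg Subtype.val (hgx 0)
      · exact congrArg Subtype.val (hgx 1)
    rw [Subgroup.mem_bot]
    exact Subtype.ext ((Subgroup.eq_bot_iff_forall _).1 (hsharp e) (g : G) hge)
  haveI : Finite (SubMulAction.ofStabilizer G a) := inferInstance
  obtain ⟨r, j, K, hr, hj, hrj, -⟩ :=
    CfsgLib.SharplyTwo.exists_kernel hsharp2 (by rw [hS]; omega)
  have hr2 : r = 2 := by
    have he : 2 ∣ r ^ j := by
      rw [← hrj, hS]
      obtain ⟨m, hm⟩ := hpp.odd_of_ne_two (by omega)
      exact ⟨m, by omega⟩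
    exact ((Nat.prime_dvd_prime_iff_eq Nat.prime_two hr).1 (Nat.prime_two.dvd_of_dvd_pow he)).symm
  subst hr2
  have hp' : p = 2 ^ j + 1 := by rw [← hrj, hS]; omega
  obtain ⟨F, iF, iFt, hF, ⟨e⟩⟩ :=
    Cfsg.Agent.S0727.result hj (hα.trans hp') G h3 hsharp
  have heven : Even (Nat.card F) := by
    rw [Nat.card_eq_fintype_card, hF]
    exact Nat.even_pow.2 ⟨even_two, by omega⟩
  haveI : CharP F 2 := by
    obtain ⟨q, hq⟩ := CharP.exists F
    haveI : Fact q.Prime := ⟨CharP.char_is_prime F q⟩
    obtain ⟨n, -, hn⟩ := FiniteField.card F q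
    have : 2 = q := (Nat.prime_dvd_prime_iff_eq Nat.prime_two Fact.out).1
      (Nat.prime_two.dvd_of_dvd_pow (hn ▸ (Nat.card_eq_fintype_card (α := F) ▸ heven.two_dvd)))
    subst this
    exact hq
  obtain ⟨e'⟩ := CfsgLib.Dickson.MaxSub.pgl_equiv_psl F heven
  exact ⟨j, F, iF, iFt, hp', hF, ⟨(e.trans e').trans CfsgLib.SL2Char2.slEquivPSL.symm⟩⟩

end Cfsg.Agent.S4706
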