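import Cfsg.Statements.S4482
import Cfsg.Agent.BlocksB.DihedralPrincipal.Order

set_option autoImplicit false
open Cfsg

namespace Cfsg.Agent.S4482

/-- An order formula for groups with dihedral Sylow 2-subgroups and one class of involutions. Let G be a finite group whose Sylow 2-subgroup P = ⟨σ, τ⟩ is dihedral of order 2^n ≥ 8 (σ of order 2^(n−1), τ an involution inverting σ), let J be the central involution σ^(2^(n−2)), and suppose J, τ and στ are conjugate in G. Fix M over 2 and let χ₁ be an irreducible character in the principal 2-block taking one constant value δ₁ = ±1 at every non-identity power of σ, with χ₁ ≠ 1. Then, with x₁ = χ₁(1) and c(·) denoting orders of centralizers, x₁ ≠ δ₁ and #G · (x₁ − δ₁)² = 2·x₁(x₁ + δ₁)·c(J)³·(1/c(J, τ) + 1/c(J, στ))², where c(J, y) is the order of the joint centralizer of J and y. -/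
theorem result {G : Type*} [Group G] [Finite G] (M : Ideal Cfsg.AlgInt) (hM : Cfsg.IsPModular 2 M) (n : ℕ) (hn : 3 ≤ n) (P : Sylow 2 G) (σ τ : G) (hσ : σ ∈ (P : Subgroup G)) (hτ : τ ∈ (P : Subgroup G)) (hσo : orderOf σ = 2 ^ (n - 1)) (hτo : orderOf τ = 2) (hrel : τ * σ * τ⁻¹ = σ⁻¹) (hgen : Subgroup.closure ({σ, τ} : Set G) = (P : Subgroup G)) (hconj : IsConj (σ ^ (2 ^ (n - 2))) τ ∧ IsConj (σ ^ (2 ^ (n - 2))) (σ * τ)) (χ₁ : Cfsg.IrrCharacter G) (hχ₁ : χ₁ ∈ Cfsg.principalBlock M G) (h1 : (χ₁ : G → ℂ) ≠ (fun _ => 1)) (δ₁ : ℤ) (hδ₁ : δ₁ = 1 ∨ δ₁ = -1) (hval : ∀ l : ℕ, 0 < l → l < 2 ^ (n - 1) → (χ₁ : G → ℂ) (σ ^ l) = δ₁) : (Cfsg.charDegree (χ₁ : G → ℂ) : ℤ) ≠ δ₁ ∧ (Nat.card G : ℚ) * ((Cfsg.charDegree (χ₁ : G → ℂ) : ℚ) - δ₁) ^ 2 = 2 * (Cfsg.charDegree (χ₁ : G → ℂ) : ℚ) * ((Cfsg.charDegree (χ₁ : G → ℂ) : ℚ) + δ₁) * (Nat.card (Subgroup.centralizer ({σ ^ (2 ^ (n - 2))} : Set G)) : ℚ) ^ 3 * (1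 / (Nat.card (Subgroup.centralizer ({σ ^ (2 ^ (n - 2)), τ} : Set G)) : ℚ) + 1 / (Nat.card (Subgroup.centralizer ({σ ^ (2 ^ (n - 2)), σ * τ} : Set G)) : ℚ)) ^ 2 := by
  haveI := hM.2.1.isPrime
  classical
  haveI : Fintype G := Fintype.ofFinite G
  letI := CfsgLib.Block.Chr.irrFintype (G := G)
  haveI : Fact (Nat.Prime 2) := ⟨Nat.prime_two⟩
  have D := CfsgLib.DihPrincipal.data_of_closure hn hσ hτ hσo hτo hrel hgen
  obtain ⟨h, hne⟩ := D.order_formula hM hconj hχ₁ h1 hδ₁ hval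
  rw [(CfsgLib.Block.Chr.irr_one χ₁).1] at h hne
  set d := Cfsg.charDegree (χ₁ : G → ℂ) with hdd
  set C := Nat.card (Subgroup.centralizer ({σ ^ (2 ^ (n - 2))} : Set G)) with hC
  have hd0 : d ≠ 0 := by
    have := (CfsgLib.Block.Chr.irr_one χ₁).2
    omega
  have hq : 2 * (D.refl.card : ℚ) * D.refl.card * C * ((d : ℚ) * ((d : ℚ) + δ₁)) =
      (Nat.card G : ℚ) * ((d : ℚ) - δ₁) ^ 2 := by
    apply Rat.cast_injective (α := ℂ)
    push_cast
    exact h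
  have hpos : (0 : ℕ) < D.refl.card := by
    refine Finset.card_pos.2 ⟨τ, ?_⟩
    simpa using D.rot_refl_mem (one_mem _)
  refine ⟨fun he => ?_, ?_⟩
  · rw [show ((d : ℚ) - δ₁) = 0 by rw [sub_eq_zero]; exact_mod_cast he] at hq
    simp only [ne_eq, OfNat.ofNat_ne_zero, not_false_eq_true, zero_pow, mul_zero, mul_eq_zero,
      Nat.cast_eq_zero, hpos.ne', hd0, false_or, or_false, Nat.card_pos.ne', hC] at hq
    exact hne (by exact_mod_cast congrArg (fun r : ℚ => (r : ℂ)) hq)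
  · rw [← hq, D.card_refl]
    ring

end Cfsg.Agent.S4482
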