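import Cfsg.Statements.S1012
import Cfsg.Agent.SmallSimple.Basic

set_option autoImplicit false
open Cfsg

namespace Cfsg.Agent.S1012

/-- A group of order 24 containing no element of order 6 is isomorphic to the symmetric group of degree 4. -/
theorem result {G : Type*} [Group G] [Finite G] (h : Nat.card G = 24) (h6 : ∀ g : G, orderOf g ≠ 6) : Nonempty (G ≃* Equiv.Perm (Fin 4)) := by
  classical
  haveI : Fact (Nat.Prime 3) := ⟨Nat.prime_three⟩
  haveI : Fact (Nat.Prime 2) := ⟨Nat.prime_two⟩
  obtain ⟨P⟩ : Nonempty (Sylow 3 G) := inferInstance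
  have hP : ∀ P : Sylow 3 G, Nat.card (P : Subgroup G) = 3 := fun P =>
    (CfsgLib.SmallSimple.card_sylow_eq P (k := 1) (m := 8) (by rw [h]; rfl) (by norm_num)).trans (pow_one 3)
  have hsix : ∀ (a b : G), orderOf a = 2 → orderOf b = 3 → Commute a b → False := fun a b ha hb hc =>
    h6 (a * b) (by rw [hc.orderOf_mul_eq_mul_orderOf_of_coprime (by rw [ha, hb]; norm_num), ha, hb])
  obtain ⟨z, hz⟩ := exists_prime_orderOf_dvd_card' (G := (P : Subgroup G)) 3 (by rw [hP])
  have hz' : orderOf (z : G) = 3 := by rw [Subgroup.orderOf_coe, hz]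
  have hi : (P : Subgroup G).index = 8 := by
    have := (P : Subgroup G).card_mul_index
    rw [hP, h] at this; omega
  have hd : Nat.card (Sylow 3 G) ∣ 8 := hi ▸ P.card_dvd_index
  have hn1 : Nat.card (Sylow 3 G) ≠ 1 := by
    intro hone
    haveI := (Nat.card_eq_one_iff_unique.mp hone).1
    haveI : (P : Subgroup G).Normal := Sylow.normal_of_subsingleton P
    let φ : G →* MulAut (P : Subgroup G) := MulAut.conjNormal
    have hsub : Nat.card φ.range ∣ 2 := by
      haveI : IsCyclic (P : Subgroup G) := isCyclic_of_prime_card (hP P)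
      have := Subgroup.card_subgroup_dvd_card φ.range
      rwa [IsCyclic.card_mulAut, hP, Nat.totient_prime Nat.prime_three] at this
    have hk : 2 ∣ Nat.card φ.ker := by
      have := φ.ker.card_mul_index
      rw [Subgroup.index_ker, h] at this
      have hle := Nat.le_of_dvd two_pos hsub
      rcases Nat.lt_or_ge (Nat.card φ.range) 2 with h' | h'
      · have := Nat.card_pos (α := φ.range)
        exact ⟨12, by nlinarith⟩
      · exact ⟨6, by nlinarith⟩
    obtain ⟨a, ha⟩ := exists_prime_orderOf_dvd_card' (G := φ.ker) 2 hk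
    refine hsix (a : G) (z : G) (by rw [Subgroup.orderOf_coe, ha]) hz' ?_
    have := congrArg Subtype.val (DFunLike.congr_fun (MonoidHom.mem_ker.mp a.2) z)
    rw [MulAut.conjNormal_apply, MulAut.one_apply] at this
    exact mul_inv_eq_iff_eq_mul.mp this
  have hn : Nat.card (Sylow 3 G) = 4 := by
    have hle := Nat.le_of_dvd (by norm_num) hd
    have hmod := card_sylow_modEq_one 3 G
    rw [Nat.ModEq] at hmod
    generalize Nat.card (Sylow 3 G) = n at hd hle hmod hn1
    interval_cases n <;> omega
  set N := Subgroup.normalizer ((P : Subgroup G) : Set G) with hN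
  have hN6 : Nat.card N = 6 := by
    have := CfsgLib.SmallSimple.card_sylow_mul P
    rw [hn, h, ← hN] at this
    omega
  set f := MulAction.toPermHom G (Sylow 3 G) with hf
  have hkN : ∀ (Q : Sylow 3 G) (g : G), g ∈ f.ker → g • Q = Q := fun Q g hg =>
    Equiv.congr_fun (MonoidHom.mem_ker.mp hg) Q
  have hk2 : ∀ g ∈ f.ker, g ^ 2 = 1 := by
    intro g hg
    have hk3 : ¬ 3 ∣ Nat.card f.ker := by
      intro h3
      obtain ⟨k, hk⟩ := exists_prime_orderOf_dvd_card' (G := f.ker) 3 h3
      have hk1 : orderOf (k : G) = 3 := by rw [Subgroup.orderOf_coe, hk]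
      have hk' : (k : G) ^ 3 ^ 1 = 1 := by
        have := pow_orderOf_eq_one (k : G)
        rw [hk1] at this
        rw [pow_one]; exact this
      have hall : ∀ Q : Sylow 3 G, (Q : Subgroup G) = Subgroup.zpowers (k : G) := fun Q =>
        (Subgroup.eq_of_le_of_card_ge (Subgroup.zpowers_le.mpr
          (CfsgLib.SmallSimple.mem_sylow_of_smul_eq hk' Q (hkN Q _ k.2)))
          (by rw [hP, Nat.card_zpowers, hk1])).symm
      haveI : Subsingleton (Sylow 3 G) := ⟨fun Q R => Sylow.ext ((hall Q).trans (hall R).symm)⟩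
      rw [Nat.card_of_subsingleton P] at hn
      norm_num at hn
    have hle : f.ker ≤ N := fun g hg => Sylow.smul_eq_iff_mem_normalizer.mp (hkN P g hg)
    have hdvd : Nat.card f.ker ∣ 2 := (Nat.Coprime.dvd_of_dvd_mul_left
      ((Nat.prime_three.coprime_iff_not_dvd.mpr hk3).symm) (show Nat.card f.ker ∣ 3 * 2 by
        have := Subgroup.card_dvd_of_le hle; rw [hN6] at this; exact this))
    have := orderOf_dvd_iff_pow_eq_one.mp ((orderOf_dvd_natCard (⟨g, hg⟩ : f.ker)).trans hdvd)
    exact congrArg Subtype.val this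
  have hker : f.ker = ⊥ := by
    rw [eq_bot_iff]
    intro g hg
    rw [Subgroup.mem_bot]
    by_contra hg1
    refine hsix g (z : G) (orderOf_eq_prime (hk2 g hg) hg1) hz' ?_
    -- the kernel is a normal subgroup of order two
    have hle2 : ∀ a ∈ f.ker, a = 1 ∨ a = g := by
      intro a ha
      by_contra hne
      push Not at hne
      have hc : (a * g) ^ 2 = 1 := hk2 _ (mul_mem ha hg)
      have hle : f.ker ≤ N := fun g hg => Sylow.smul_eq_iff_mem_normalizer.mp (hkN P g hg)
      have ha2 := orderOf_eq_prime (hk2 a ha) hne.1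
      have hg2 := orderOf_eq_prime (hk2 g hg) hg1
      have h4 : 4 ∣ Nat.card f.ker := by
        have hp : IsPGroup 2 f.ker := fun y => ⟨1, Subtype.ext (hk2 y y.2)⟩
        obtain ⟨j, hj⟩ := IsPGroup.iff_card.mp hp
        have : 2 < Nat.card f.ker := by
          haveI := Fintype.ofFinite f.ker
          rw [Nat.card_eq_fintype_card, Fintype.two_lt_card_iff]
          exact ⟨1, ⟨a, ha⟩, ⟨g, hg⟩, fun h => hne.1 (congrArg Subtype.val h).symm,
            fun h => hg1 (congrArg Subtype.val h).symm, fun h => hne.2 (congrArg Subtype.val h)⟩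
        rw [hj] at this ⊢
        exact pow_dvd_pow 2 (show 2 ≤ j by
          by_contra h; interval_cases j <;> norm_num at this)
      have := h4.trans (Subgroup.card_dvd_of_le hle)
      rw [hN6] at this
      norm_num at this
    rcases hle2 _ ((MonoidHom.normal_ker f).conj_mem g hg (z : G)) with h' | h'
    · exact absurd (conj_eq_one_iff.mp h') hg1
    · exact (mul_inv_eq_iff_eq_mul.mp h').symm
  have hinj := (MonoidHom.ker_eq_bot_iff f).mp hker
  haveI := Fintype.ofFinite (Sylow 3 G)
  have hbij : Function.Bijective f := (Nat.bijective_iff_injective_and_card f).mpr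
    ⟨hinj, by rw [h, Nat.card_perm, hn]; rfl⟩
  exact ⟨(MulEquiv.ofBijective f hbij).trans (Finite.equivFinOfCardEq hn).permCongrHom⟩

end Cfsg.Agent.S1012
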