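import Cfsg.Statements.S2119
import Cfsg.Agent.AutAlt.Main

set_option autoImplicit false
open Cfsg

namespace Cfsg.Agent.S2119

/-- Automorphisms of the alternating groups: for n ≥ 4 with n ≠ 6, every automorphism of the alternating group of degree n is conjugation by a unique permutation, i.e. conjugation induces an isomorphism from the symmetric group of degree n onto the automorphism group of the alternating group (so the outer automorphism group has order 2). -/
theorem result (n : ℕ) (hn : 4 ≤ n) (h6 : n ≠ 6) : Function.Bijective (MulAut.conjNormal : Equiv.Perm (Fin n) →* MulAut ↥(alternatingGroup (Fin n))) := by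
  refine ⟨fun σ τ h => ?_, fun φ => ?_⟩
  · have hc : τ⁻¹ * σ ∈ Subgroup.centralizer (alternatingGroup (Fin n) : Set (Equiv.Perm (Fin n))) := by
      rw [Subgroup.mem_centralizer_iff]
      intro g hg
      have e := congrArg (fun ψ : MulAut (alternatingGroup (Fin n)) => ((ψ ⟨g, hg⟩ : alternatingGroup (Fin n)) : Equiv.Perm (Fin n))) h
      simp only [MulAut.conjNormal_apply] at e
      calc g * (τ⁻¹ * σ) = τ⁻¹ * (τ * g * τ⁻¹) * σ := by group
        _ = τ⁻¹ * (σ * g * σ⁻¹) * σ := by rw [e]
        _ = τ⁻¹ * σ * g := by group
    rw [CfsgLib.ThompsonWielandt.centralizer_alternating (by simpa using hn), Subgroup.mem_bot,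
      inv_mul_eq_one] at hc
    exact hc.symm
  · exact CfsgLib.AutAlt.exists_conj (by simpa using hn) (by simpa using h6)
      (o := (⟨0, by omega⟩ : Fin n)) (u := ⟨1, by omega⟩) (by simp [Fin.ext_iff]) φ

end Cfsg.Agent.S2119
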