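import Cfsg.Statements.S0228
import Mathlib
-- import your own Cfsg.Agent.* helpers here

set_option autoImplicit false
open Cfsg

namespace Cfsg.Agent.S0228

/-- A group of order 12 in which no involution is central is isomorphic to the alternating group on four letters. -/
theorem result {G : Type*} [Group G] [Finite G] (hG : Nat.card G = 12) (hz : ∀ z : G, orderOf z = 2 → z ∉ Subgroup.center G) : Nonempty (G ≃* alternatingGroup (Fin 4)) := by
  classical
  haveI := Fact.mk Nat.prime_two
  haveI : Fact (Nat.Prime 3) := ⟨Nat.prime_three⟩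
  let P : Sylow 3 G := default
  have hP : Nat.card (P : Subgroup G) = 3 := by
    rw [P.card_eq_multiplicity, hG]
    norm_num [show (12 : ℕ).factorization 3 = 1 from by
      rw [show (12 : ℕ) = 2 ^ 2 * 3 ^ 1 by norm_num, Nat.factorization_mul (by norm_num) (by norm_num),
        Nat.Prime.factorization_pow Nat.prime_two, Nat.Prime.factorization_pow Nat.prime_three]
      simp]
  have hidx : (P : Subgroup G).index = 4 := by
    have := (P : Subgroup G).index_mul_card
    rw [hP, hG] at this
    omega
  have hdvd : Nat.card (Sylow 3 G) ∣ 4 := hidx ▸ P.card_dvd_index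
  have hmod : Nat.card (Sylow 3 G) % 3 = 1 := card_sylow_modEq_one 3 G
  rcases (show Nat.card (Sylow 3 G) = 1 ∨ Nat.card (Sylow 3 G) = 4 by
    obtain ⟨j, hj, e⟩ := (Nat.dvd_prime_pow Nat.prime_two).1 (show Nat.card (Sylow 3 G) ∣ 2 ^ 2 from hdvd)
    interval_cases j <;> omega) with h1 | h4
  · exfalso
    haveI : Subsingleton (Sylow 3 G) := (Nat.card_eq_one_iff_unique.1 h1).1
    haveI hPn : (P : Subgroup G).Normal := P.normal_of_subsingleton
    set C := Subgroup.centralizer ((P : Subgroup G) : Set G)
    haveI : IsCyclic (P : Subgroup G) := isCyclic_of_prime_card hP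
    have hPC : (P : Subgroup G) ≤ C := Subgroup.le_centralizer (P : Subgroup G)
    obtain ⟨t, ht, htC⟩ : ∃ t : G, orderOf t = 2 ∧ t ∈ C := by
      by_contra hcon
      push Not at hcon
      obtain ⟨Q, hQ⟩ := Sylow.exists_subgroup_card_pow_prime 2 (show 2 ^ 2 ∣ Nat.card G by rw [hG]; norm_num)
      let f := (MulAut.conjNormal (H := (P : Subgroup G))).comp Q.subtype
      have hf : Function.Injective f := by
        rw [injective_iff_map_eq_one]
        intro q hq
        by_contra hq1
        have hq' : (q : G) ∈ C := Subgroup.mem_centralizer_iff.2 fun x hx => by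
          have := congrArg Subtype.val (DFunLike.congr_fun hq ⟨x, hx⟩)
          rw [MonoidHom.comp_apply, MulAut.conjNormal_apply] at this
          exact (mul_inv_eq_iff_eq_mul.1 this).symm
        have hne : (q : G) ≠ 1 := fun h => hq1 (Subtype.ext h)
        obtain ⟨j, hj, e⟩ := (Nat.dvd_prime_pow Nat.prime_two).1 (hQ ▸ Subgroup.orderOf_dvd_natCard Q q.2)
        interval_cases j
        · exact hne (orderOf_eq_one_iff.1 (by simpa using e))
        · exact hcon _ (by simpa using e) hq'
        · refine hcon ((q : G) ^ 2) ?_ (pow_mem hq' 2)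
          rw [orderOf_pow' _ (by norm_num), e]
          norm_num
      have hdvd := Subgroup.card_dvd_of_injective f hf
      rw [hQ] at hdvd
      have : Nat.card (MulAut (P : Subgroup G)) = 2 := by rw [IsCyclic.card_mulAut, hP]; rfl
      rw [this] at hdvd
      norm_num at hdvd
    have hCn : C.Normal := inferInstance
    refine hz t ht (Subgroup.mem_center_iff.2 fun g => ?_)
    -- `t` is the only involution commuting with `P` outside of which it could move
    have hconj : g * t * g⁻¹ ∈ C := hCn.conj_mem t htC g
    have hCcard : Nat.card C ∣ 12 := hG ▸ C.card_subgroup_dvd_card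
    have h3C : 3 ∣ Nat.card C := hP ▸ Subgroup.card_dvd_of_le hPC
    have h2C : 2 ∣ Nat.card C := ht ▸ Subgroup.orderOf_dvd_natCard C htC
    have h6 : 6 ∣ Nat.card C := Nat.Coprime.mul_dvd_of_dvd_of_dvd (by norm_num : Nat.Coprime 2 3) h2C h3C
    have hC : Nat.card C = 6 ∨ Nat.card C = 12 := by
      obtain ⟨c, hc⟩ := h6
      have h12 : Nat.card C ≤ 12 := Nat.le_of_dvd (by norm_num) hCcard
      have h0 : 0 < Nat.card C := Nat.card_pos
      rw [hc] at h12 h0 ⊢
      omega
    rcases hC with hC | hC
    · by_contra hne
      have hne' : g * t * g⁻¹ ≠ t := fun h => hne (mul_inv_eq_iff_eq_mul.1 h)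
      -- both `t` and its conjugate give the Sylow 2-subgroup of `C`, which is central there
      let S : Sylow 2 C := default
      have hS : Nat.card (S : Subgroup C) = 2 := by
        rw [S.card_eq_multiplicity, hC]
        norm_num [show (6 : ℕ).factorization 2 = 1 from by
          rw [show (6 : ℕ) = 2 ^ 1 * 3 ^ 1 by norm_num, Nat.factorization_mul (by norm_num) (by norm_num),
            Nat.Prime.factorization_pow Nat.prime_two, Nat.Prime.factorization_pow Nat.prime_three]
          simp]
      have hZ : (P : Subgroup G).subgroupOf C ≤ Subgroup.center C := fun x hx =>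
        Subgroup.mem_center_iff.2 fun y => Subtype.ext (Subgroup.mem_centralizer_iff.1 y.2 x hx).symm
      have hdvd2 : (Subgroup.center C).index ∣ 2 := by
        have h := Subgroup.index_dvd_of_le hZ
        have h' := ((P : Subgroup G).subgroupOf C).index_mul_card
        rw [Nat.card_congr (Subgroup.subgroupOfEquivOfLe hPC).toEquiv, hP, hC] at h'
        rwa [show ((P : Subgroup G).subgroupOf C).index = 2 by omega] at h
      haveI hcq : IsCyclic (C ⧸ Subgroup.center C) := by
        rcases (Nat.dvd_prime Nat.prime_two).1 hdvd2 with e | e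
        · haveI : Subsingleton (C ⧸ Subgroup.center C) := (Nat.card_eq_one_iff_unique.1 e).1
          infer_instance
        · exact isCyclic_of_prime_card e
      have hcomm : ∀ a b : C, a * b = b * a :=
        fun a b => commutative_of_cyclic_center_quotient (QuotientGroup.mk' (Subgroup.center C))
          (QuotientGroup.ker_mk' _).le a b
      have huniq : ∀ a : C, orderOf a = 2 → a ∈ (S : Subgroup C) := fun a ha => by
        obtain ⟨S', hS'⟩ := IsPGroup.exists_le_sylow (IsPGroup.of_card (n := 1)
          (by rw [Nat.card_zpowers, ha, pow_one] : Nat.card (Subgroup.zpowers a) = 2 ^ 1))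
        haveI : (S : Subgroup C).Normal :=
          ⟨fun x hx y => by rw [hcomm y x, mul_inv_cancel_right]; exact hx⟩
        letI := Sylow.unique_of_normal S inferInstance
        rw [Subsingleton.elim S S']
        exact hS' (Subgroup.mem_zpowers a)
      have ha : orderOf (⟨g * t * g⁻¹, hconj⟩ : C) = 2 := by
        rw [← Subgroup.orderOf_coe]
        exact (orderOf_injective (MulAut.conj g).toMonoidHom (MulAut.conj g).injective t).trans ht
      have hb : orderOf (⟨t, htC⟩ : C) = 2 := by rw [← Subgroup.orderOf_coe]; exact ht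
      obtain ⟨z, -, hzu⟩ := (Nat.card_eq_two_iff' (1 : (S : Subgroup C))).1 hS
      have e1 := hzu ⟨_, huniq _ ha⟩ (fun h => by
        have : (⟨g * t * g⁻¹, hconj⟩ : C) = 1 := congrArg Subtype.val h
        rw [this, orderOf_one] at ha; norm_num at ha)
      have e2 := hzu ⟨_, huniq _ hb⟩ (fun h => by
        have : (⟨t, htC⟩ : C) = 1 := congrArg Subtype.val h
        rw [this, orderOf_one] at hb; norm_num at hb)
      exact hne' (congrArg (fun x : (S : Subgroup C) => ((x : C) : G)) (e1.trans e2.symm))
    · have hCtop : C = ⊤ := Subgroup.eq_top_of_card_eq C (hC.trans hG.symm)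
      obtain ⟨Q, hQ⟩ := Sylow.exists_subgroup_card_pow_prime 2 (show 2 ^ 2 ∣ Nat.card G by rw [hG]; norm_num)
      haveI : IsMulCommutative Q := IsPGroup.isMulCommutative_of_card_eq_prime_sq (p := 2) hQ
      have hall : (⊤ : Subgroup G) ≤ Subgroup.centralizer ((Subgroup.center G : Subgroup G) : Set G) :=
        fun x _ => Subgroup.mem_centralizer_iff.2 fun y hy => (Subgroup.mem_center_iff.1 hy x).symm
      have hPZ : (P : Subgroup G) ≤ Subgroup.center G := fun x hx =>
        Subgroup.mem_center_iff.2 fun y => (Subgroup.mem_centralizer_iff.1 (hCtop ▸ Subgroup.mem_top y : y ∈ C) x hx).symm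
      have hPQ : (P : Subgroup G) ⊔ Q = ⊤ := by
        refine Subgroup.eq_top_of_card_eq _ (le_antisymm (Subgroup.card_le_card_group _) ?_)
        rw [hG]
        refine Nat.le_of_dvd Nat.card_pos (Nat.Coprime.mul_dvd_of_dvd_of_dvd (by norm_num : Nat.Coprime 3 4)
          (Eq.mp (congrArg (· ∣ _) hP) (Subgroup.card_dvd_of_le (le_sup_left : (P : Subgroup G) ≤ (P : Subgroup G) ⊔ Q))) ?_)
        have h := Subgroup.card_dvd_of_le (le_sup_right : Q ≤ (P : Subgroup G) ⊔ Q)
        rw [hQ] at h
        exact h
      have hcl : ∀ x : G, x ∈ Subgroup.centralizer (Q : Set G) := by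
        intro x
        have : (⊤ : Subgroup G) ≤ Subgroup.centralizer (Q : Set G) := hPQ ▸ sup_le
          (hPZ.trans (Subgroup.center_le_centralizer _)) (Subgroup.le_centralizer Q)
        exact this (Subgroup.mem_top x)
      have hQc : ∀ q ∈ Q, ∀ x : G, x * q = q * x := fun q hq x =>
        (Subgroup.mem_centralizer_iff.1 (hcl x) q hq).symm
      have : (⊤ : Subgroup G) ≤ Subgroup.center G := hPQ ▸ sup_le hPZ
        (fun q hq => Subgroup.mem_center_iff.2 (hQc q hq))
      exact (Subgroup.mem_center_iff.1 (this (Subgroup.mem_top t)) g)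
  · let φ := MulAction.toPermHom G (Sylow 3 G)
    have hN : Subgroup.normalizer ((P : Subgroup G) : Set G) = (P : Subgroup G) := by
      refine (Subgroup.eq_of_le_of_card_ge Subgroup.le_normalizer ?_).symm
      have := (Subgroup.normalizer ((P : Subgroup G) : Set G)).index_mul_card
      have h4' := P.card_eq_index_normalizer
      rw [h4] at h4'
      have h5 : (Subgroup.normalizer ((P : Subgroup G) : Set G)).index = 4 := h4'.symm
      rw [h5, hG] at this
      omega
    have hker : φ.ker = ⊥ := by
      have hle : φ.ker ≤ (P : Subgroup G) := hN ▸ fun x hx => Sylow.smul_eq_iff_mem_normalizer.1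
        (DFunLike.congr_fun (MonoidHom.mem_ker.1 hx) P)
      rcases (Nat.dvd_prime Nat.prime_three).1 (hP ▸ Subgroup.card_dvd_of_le hle) with e | e
      · exact Subgroup.card_eq_one.1 e
      · exfalso
        have e' : φ.ker = (P : Subgroup G) := Subgroup.eq_of_le_of_card_ge hle (by omega)
        have hPn : (P : Subgroup G).Normal := e' ▸ inferInstance
        letI := Sylow.unique_of_normal P hPn
        rw [Nat.card_of_subsingleton P] at h4
        omega
    have hφ : Function.Injective φ := (MonoidHom.ker_eq_bot_iff _).1 hker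
    let e := Finite.equivFinOfCardEq h4
    let ψ := e.permCongrHom.toMonoidHom.comp φ
    have hψ : Function.Injective ψ := e.permCongrHom.injective.comp hφ
    have hi : ψ.range.index = 2 := by
      have := ψ.range.card_mul_index
      rw [← Nat.card_congr (MonoidHom.ofInjective hψ).toEquiv, hG, Nat.card_perm, Nat.card_fin] at this
      simp [Nat.factorial] at this
      omega
    exact ⟨(MonoidHom.ofInjective hψ).trans
      (MulEquiv.subgroupCongr (Equiv.Perm.eq_alternatingGroup_of_index_eq_two hi))⟩

end Cfsg.Agent.S0228
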