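import Cfsg.Statements.S5393
import Cfsg.Agent.Leech.CentralizerP

set_option autoImplicit false
open Cfsg

namespace Cfsg.Agent.S5393

/-- The length-24 code built from the squares modulo 23 contains the all-ones word, and the code modulo the all-ones word is an irreducible module over the field with two elements for the code's automorphism group: a subspace of the code that contains the all-ones word and is invariant under every coordinate permutation preserving the code is either the span of the all-ones word or the whole code. -/
theorem result : (fun _ : Cfsg.GolayPt => (1 : ZMod 2)) ∈ Cfsg.golayCode ∧ ∀ W : Submodule (ZMod 2) (Cfsg.GolayPt → ZMod 2), (fun _ => (1 : ZMod 2)) ∈ W → W ≤ Cfsg.golayCode → (∀ σ ∈ Cfsg.M24, ∀ w ∈ W, (fun p => w (σ.symm p)) ∈ W) → W = Submodule.span (ZMod 2) {fun _ => (1 : ZMod 2)} ∨ W = Cfsg.golayCode := by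
  classical
  haveI : Fact (Nat.Prime 23) := ⟨by norm_num⟩
  refine ⟨CfsgLib.Leech.one_mem_code, fun W h1 hW hinv => ?_⟩
  set σ : M24 := CfsgLib.Leech.trans23 with hσdef
  have hσ23 : σ ^ 23 = 1 := CfsgLib.Leech.permHom_injective (by
    rw [map_pow, map_one]
    exact CfsgLib.Leech.orderOf_tAut ▸ pow_orderOf_eq_one _)
  haveI : Finite W := Finite.of_injective (fun w : W => (w : GolayPt → ZMod 2)) Subtype.val_injective
  let H := Subgroup.zpowers σ
  letI : MulAction H W :=
    { smul := fun h w => ⟨fun p => (w : GolayPt → ZMod 2) (((h : M24) : Equiv.Perm GolayPt).symm p),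
        hinv _ (h : M24).2 _ w.2⟩
      one_smul := fun w => rfl
      mul_smul := fun a b w => rfl }
  have hH : IsPGroup 23 H := IsPGroup.of_card (n := 1) (by
    rw [Nat.card_zpowers, pow_one]
    have : orderOf (CfsgLib.Leech.permHom σ) = orderOf σ :=
      orderOf_injective _ CfsgLib.Leech.permHom_injective σ
    rw [← this]; exact CfsgLib.Leech.orderOf_tAut)
  have hmod := hH.card_modEq_card_fixedPoints W
  set one : GolayPt → ZMod 2 := fun _ => 1
  have hfixed : MulAction.fixedPoints H W = {⟨0, W.zero_mem⟩, ⟨one, h1⟩} := by
    ext ⟨w, hw⟩
    simp only [MulAction.mem_fixedPoints, Set.mem_insert_iff, Set.mem_singleton_iff]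
    constructor
    · intro h
      have hk : ∀ p, w ((σ : Equiv.Perm GolayPt).symm p) = w p := fun p =>
        congrFun (congrArg Subtype.val (h ⟨σ, Subgroup.mem_zpowers σ⟩)) p
      have hconst : ∀ k : ℕ, w (some (k : ZMod 23)) = w (some 0) := by
        intro k
        induction k with
        | zero => simp
        | succ k ih =>
          rw [Nat.cast_succ, ← ih, ← CfsgLib.Leech.trans23_apply.2 (k : ZMod 23), ← hk, Equiv.symm_apply_apply]
      have hall : ∀ x : ZMod 23, w (some x) = w (some 0) := fun x => by
        rw [← ZMod.natCast_zmod_val x]; exact hconst _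
      have hinf : w none = w (some 0) := by
        have hsum := @CfsgLib.Leech.weight_dvd
        by_contra hne
        -- then the word or its complement has a single point
        have hw' : (fun p => w p + w (some 0)) ∈ Cfsg.golayCode := by
          refine Cfsg.golayCode.add_mem (hW hw) ?_
          rcases CfsgLib.Leech.eq_zero_or_one (w (some 0)) with e | e
          · rw [e]; exact Cfsg.golayCode.zero_mem
          · rw [e]; exact CfsgLib.Leech.one_mem_code
        have hd := hsum hw'
        have hv : ∀ p : GolayPt, (w p + w (some 0)).val = if p = none then 1 else 0 := by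
          intro p
          rcases p with _ | x
          · revert hne
            generalize w none = A; generalize w (some 0) = C
            revert A C; decide
          · rw [hall x, if_neg (Option.some_ne_none x)]
            generalize w (some 0) = C
            revert C; decide
        simp only [hv, Nat.cast_ite, Nat.cast_one, Nat.cast_zero, Finset.sum_ite_eq', Finset.mem_univ, if_true] at hd
        omega
      rcases CfsgLib.Leech.eq_zero_or_one (w (some 0)) with e | e
      · exact Or.inl (Subtype.ext (funext fun p => by
          rcases p with _ | x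
          exacts [hinf.trans e, (hall x).trans e]))
      · exact Or.inr (Subtype.ext (funext fun p => by
          rcases p with _ | x
          exacts [hinf.trans e, (hall x).trans e]))
    · rintro (e | e) h <;> rw [e] <;> exact Subtype.ext rfl
  have hfixcard : Nat.card (MulAction.fixedPoints H W) = 2 := by
    rw [hfixed, show Nat.card ↥({⟨0, W.zero_mem⟩, ⟨one, h1⟩} : Set W) = Set.ncard _ from rfl]
    exact Set.ncard_pair fun e => by
      have := congrFun (congrArg Subtype.val e) none
      exact zero_ne_one this
  rw [hfixcard] at hmod
  have hcode : Nat.card Cfsg.golayCode = 2 ^ 12 := by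
    have := CfsgLib.Leech.card_code
    rw [show Nat.card CfsgLib.Leech.codeAdd = Nat.card Cfsg.golayCode from rfl] at this
    rw [this]
  have hWdvd : Nat.card W ∣ 2 ^ 12 := hcode ▸ AddSubgroup.card_dvd_of_le
    (show W.toAddSubgroup ≤ Cfsg.golayCode.toAddSubgroup from hW)
  obtain ⟨k, hk12, hk⟩ := (Nat.dvd_prime_pow Nat.prime_two).1 hWdvd
  rw [hk] at hmod
  have hk' : k = 1 ∨ k = 12 := by
    have h0 := (by decide +kernel : ∀ j ≤ 12, 2 ^ j % 23 = 2 → j = 1 ∨ j = 12)
    exact h0 k hk12 hmod
  rcases hk' with rfl | rfl
  · left
    have hle : Submodule.span (ZMod 2) {one} ≤ W := Submodule.span_le.2 (by simpa using h1)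
    refine (le_antisymm hle ?_).symm
    intro w hw
    have hset : (W : Set (GolayPt → ZMod 2)) = {0, one} := by
      refine (Set.eq_of_subset_of_ncard_le (by
        intro x hx; rcases hx with rfl | rfl
        exacts [W.zero_mem, h1]) ?_ (Set.toFinite _)).symm
      rw [show (W : Set (GolayPt → ZMod 2)).ncard = Nat.card W from rfl, hk,
        Set.ncard_pair (fun e => zero_ne_one (congrFun e none))]
      norm_num
    rcases (hset ▸ hw : w ∈ ({0, one} : Set (GolayPt → ZMod 2))) with rfl | rfl
    exacts [Submodule.zero_mem _, Submodule.mem_span_singleton_self _]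
  · right
    refine SetLike.coe_injective (Set.eq_of_subset_of_ncard_le hW ?_ (Set.toFinite _))
    rw [show (W : Set (GolayPt → ZMod 2)).ncard = Nat.card W from rfl,
      show (Cfsg.golayCode : Set (GolayPt → ZMod 2)).ncard = Nat.card Cfsg.golayCode from rfl, hk, hcode]

end Cfsg.Agent.S5393
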