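import Cfsg.Statements.S3020
import Cfsg.Agent.LocalB.Embedded
import Cfsg.Agent.Solvable.Basics
import Mathlib.GroupTheory.Transfer

set_option autoImplicit false
set_option linter.unusedVariables false
open Cfsg CfsgLib.LocalB

namespace Cfsg.Agent.S3020

/-- Let G be a finite group, p a prime and H an abelian p-subgroup of G that is extremely closed (for every g, the subgroup generated by H and g H g⁻¹ meets N_G(H) exactly in H). Then for every g ∈ G, the subgroup T generated by H and g H g⁻¹ is the product of H with O_{p'}(T), and H meets O_{p'}(T) trivially; that is, O_{p'}(T) is a normal p-complement of H in T. -/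
theorem result {G : Type*} [Group G] [Finite G] {p : ℕ} [Fact p.Prime] (H : Subgroup G) (hHp : IsPGroup p H) (hHab : IsMulCommutative H) (hcl : Cfsg.IsExtremelyClosed H) (g : G) (T : Subgroup G) (hT : T = H ⊔ H.map (MulAut.conj g).toMonoidHom) : H ⊔ (Cfsg.pPrimeCore p ↥T).map T.subtype = T ∧ H ⊓ (Cfsg.pPrimeCore p ↥T).map T.subtype = ⊥ := by
  set K := H.subgroupOf T with hK
  have hHT : H ≤ T := hT ▸ le_sup_left
  have hKp : IsPGroup p K := IsPGroup.comap_subtype hHp
  have hKn : Subgroup.normalizer (K : Set T) = K := by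
    refine le_antisymm (fun y hy => ?_) Subgroup.le_normalizer
    have : (y : G) ∈ (H ⊔ H.map (MulAut.conj g).toMonoidHom) ⊓ Subgroup.normalizer (H : Set G) := by
      refine ⟨hT ▸ y.2, mem_normalizer_of_conj_le fun z hz => ?_⟩
      exact (Subgroup.mem_normalizer_iff.mp hy ⟨z, hHT hz⟩).mp hz
    rwa [hcl g] at this
  obtain ⟨P, hKP⟩ := hKp.exists_le_sylow
  have hPK : K = (P : Subgroup T) := by
    by_contra hne
    obtain ⟨u, huP, hun, huK⟩ := exists_mem_normalizer_not_mem P.isPGroup' hKP hne
    exact huK (hKn ▸ hun)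
  have hcomm : ∀ u ∈ K, ∀ v ∈ K, u * v = v * u := fun u hu v hv =>
    Subtype.ext ((congrArg Subtype.val (hHab.is_comm.comm ⟨(u : G), hu⟩ ⟨(v : G), hv⟩) : (u : G) * v = v * u))
  have hPle : Subgroup.normalizer ((P : Subgroup T) : Set T) ≤
      Subgroup.centralizer ((P : Subgroup T) : Set T) := by
    rw [← hPK, hKn]
    exact fun u hu => Subgroup.mem_centralizer_iff.mpr fun v hv => hcomm v hv u hu
  set C := (MonoidHom.transferSylow P hPle).ker
  have hC := MonoidHom.ker_transferSylow_isComplement' P hPle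
  have hCle : C ≤ Cfsg.pPrimeCore p T := by
    refine le_sSup ⟨inferInstance, ?_⟩
    exact ((Fact.out : p.Prime).coprime_iff_not_dvd.mpr
      (MonoidHom.not_dvd_card_ker_transferSylow P hPle)).symm
  constructor
  · refine le_antisymm (sup_le hHT (Subgroup.map_subtype_le _)) ?_
    have h1 : (C ⊔ (P : Subgroup T)).map T.subtype = T := by
      rw [hC.sup_eq_top, ← MonoidHom.range_eq_map, Subgroup.range_subtype]
    conv_lhs => rw [← h1, Subgroup.map_sup, sup_comm, ← hPK]
    refine sup_le_sup ?_ (Subgroup.map_mono hCle)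
    rw [hK, Subgroup.subgroupOf_map_subtype]; exact inf_le_left
  · rw [eq_bot_iff]
    rintro x ⟨hx1, y, hy, rfl⟩
    have hx1' : y ∈ K := hx1
    obtain ⟨k, hk⟩ := IsPGroup.iff_orderOf.mp hKp ⟨y, hx1'⟩
    rw [Subgroup.orderOf_mk] at hk
    have hc : (orderOf y).Coprime (orderOf y) := by
      refine Nat.Coprime.coprime_dvd_left (Subgroup.orderOf_dvd_natCard _ hy) ?_
      rw [hk]; exact Nat.Coprime.pow_right _ (CfsgLib.Solvable.coprime_card_pPrimeCore p)
    rw [Nat.coprime_self, orderOf_eq_one_iff] at hc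
    simp [hc]

end Cfsg.Agent.S3020
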