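import Cfsg.Statements.S3021
import Mathlib.GroupTheory.Nilpotent

set_option autoImplicit false
open Cfsg

namespace Cfsg.Agent.S3021

/-- Let G be a finite group, p a prime and H a p-subgroup of G that is extremely closed (for every g, the subgroup generated by H and g H g⁻¹ meets N_G(H) exactly in H). Then every p-subgroup Q of G containing H has N_G(Q) ≤ N_G(H); in particular every Sylow p-subgroup P of G containing H normalizes H, and H is strongly closed in P with respect to G. -/
theorem result {G : Type*} [Group G] [Finite G] {p : ℕ} [Fact p.Prime] (H : Subgroup G) (hHp : IsPGroup p H) (hcl : Cfsg.IsExtremelyClosed H) : (∀ Q : Subgroup G, IsPGroup p Q → H ≤ Q → Subgroup.normalizer (Q : Set G) ≤ Subgroup.normalizer (H : Set G)) ∧ ∀ P : Sylow p G, H ≤ (P : Subgroup G) → (P : Subgroup G) ≤ Subgroup.normalizer (H : Set G) ∧ Cfsg.IsStronglyClosed H (P : Subgroup G) := by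
  have h1 : ∀ Q : Subgroup G, IsPGroup p Q → H ≤ Q →
      Subgroup.normalizer (Q : Set G) ≤ Subgroup.normalizer (H : Set G) := by
    intro Q hQ hHQ g hg
    set T := H ⊔ H.map (MulAut.conj g).toMonoidHom with hT
    have hTQ : T ≤ Q := by
      refine sup_le hHQ ?_
      rintro _ ⟨x, hx, rfl⟩
      exact (Subgroup.mem_normalizer_iff.mp hg x).mp (hHQ hx)
    have hTp : IsPGroup p T := hQ.to_le hTQ
    have hTH : T = H := by
      by_contra hne
      have := hTp.isNilpotent
      have hlt : H.subgroupOf T < ⊤ := by
        refine lt_top_iff_ne_top.mpr fun h => hne (le_antisymm ?_ le_sup_left)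
        exact Subgroup.subgroupOf_eq_top.mp h
      obtain ⟨y, hy, hyH⟩ := SetLike.exists_of_lt (Group.normalizerCondition_of_isNilpotent _ hlt)
      apply hyH
      rw [Subgroup.mem_subgroupOf]
      have : (y : G) ∈ T ⊓ Subgroup.normalizer (H : Set G) := by
        refine ⟨y.2, Subgroup.mem_normalizer_iff.mpr fun z => ?_⟩
        have hy' := Subgroup.mem_normalizer_iff.mp hy
        by_cases hz : z ∈ T
        · simpa [Subgroup.mem_subgroupOf] using hy' ⟨z, hz⟩
        · refine iff_of_false (fun h => hz ((le_sup_left : H ≤ T) h)) fun h => hz ?_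
          have := T.mul_mem (T.mul_mem (T.inv_mem y.2) ((le_sup_left : H ≤ T) h)) y.2
          simpa [mul_assoc] using this
      rwa [hcl g] at this
    have hle : H.map (MulAut.conj g).toMonoidHom ≤ H := le_sup_right.trans hTH.le
    exact Subgroup.mem_normalizer_iff.mpr fun z => by
      have : H.map (MulAut.conj g).toMonoidHom = H :=
        Subgroup.eq_of_le_of_card_ge hle (by rw [Nat.card_congr (H.equivMapOfInjective (MulAut.conj g).toMonoidHom (MulAut.conj g).injective).toEquiv])
      constructor
      · intro hz; rw [← this]; exact ⟨z, hz, rfl⟩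
      · intro hz; rw [← this] at hz
        obtain ⟨w, hw, hwz⟩ := hz
        have : w = z := (MulAut.conj g).injective hwz
        exact this ▸ hw
  refine ⟨h1, fun P hP => ?_⟩
  have hPn : (P : Subgroup G) ≤ Subgroup.normalizer (H : Set G) :=
    Subgroup.le_normalizer.trans (h1 P P.isPGroup' hP)
  refine ⟨hPn, hP, fun x hx g hgx => ?_⟩
  rw [← hcl g]
  exact ⟨(le_sup_right : _ ≤ H ⊔ H.map (MulAut.conj g).toMonoidHom) ⟨x, hx, rfl⟩, hPn hgx⟩

end Cfsg.Agent.S3021
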