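import Cfsg.Statements.S0035
import Cfsg.Agent.Frobenius.Semidirect
import Cfsg.Agent.Char.FrobeniusKernel

set_option autoImplicit false
set_option linter.deprecated false
set_option linter.style.haveILetI false
set_option linter.unusedVariables false
open Cfsg
open scoped Pointwise

namespace Cfsg.Agent.S0035

/-- Frobenius' Theorem: if H is a Frobenius complement in a finite group, the identity together with the elements lying in no conjugate of H form a normal subgroup, which is a complement to H. -/
theorem result {G : Type*} [Group G] [Finite G] (H : Subgroup G) (hH : Cfsg.IsFrobeniusComplement H) :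
    ∃ N : Subgroup G, (N : Set G) = Cfsg.frobeniusKernel H ∧ N.Normal ∧ Subgroup.IsComplement' N H := by
  obtain ⟨N, hN, -, -, hc, hmem⟩ := CfsgLib.Char.exists_frobenius_kernel H fun g hg h hh hgh => by
    by_contra h1
    exact hg (CfsgLib.Frobenius.mem_of_conj_mem hH (g := g⁻¹) h1 hh (by simpa using hgh) |> fun hi =>
      by simpa using inv_mem hi)
  refine ⟨N, ?_, hN, hc⟩
  ext x
  rw [SetLike.mem_coe, hmem]
  simp only [Cfsg.frobeniusKernel, Set.mem_setOf_eq, CfsgLib.Frobenius.mem_conj_iff]


end Cfsg.Agent.S0035
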