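import Cfsg.Statements.S4614
import Cfsg.Agent.BlocksB.PrincipalGapValues

set_option autoImplicit false
open Cfsg

namespace Cfsg.Agent.S4614

/-- Let G be a finite group, p a prime and M a maximal ideal of the algebraic integers containing p. If the principal p-block of G contains exactly three irreducible characters, then a Sylow p-subgroup of G has order 3 (so p = 3). -/
theorem result {G : Type*} [Group G] [Finite G] (p : ℕ) [Fact p.Prime] (M : Ideal Cfsg.AlgInt) (hM : Cfsg.IsPModular p M) (hk : Nat.card (Cfsg.principalBlock M G) = 3) (D : Sylow p G) : Nat.card (D : Subgroup G) = 3 := by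
  classical
  haveI := Fintype.ofFinite G
  haveI := hM.2.1.isPrime
  letI := CfsgLib.Block.Chr.irrFintype (G := G)
  have hp : p.Prime := hM.1
  set n := (Nat.card G).factorization p with hn
  rw [D.card_eq_multiplicity, ← hn]
  obtain ⟨X, h1X, hX, hXrep⟩ := CfsgLib.GapOne.exists_reps (G := G) hp
  have hcount := CfsgLib.GapOne.card_principal_eq hM X hX hXrep
  rw [hk, ← Finset.add_sum_erase _ _ h1X, CfsgLib.GapOne.blockRank_principal_centralizer_one hM]
    at hcount
  have hl1 : 1 ≤ Cfsg.blockRank p (Cfsg.principalBlock M G) :=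
    CfsgLib.GapOne.one_le_blockRank_principal hM
  have hpos : ∀ x ∈ X.erase 1,
      1 ≤ Cfsg.blockRank p (Cfsg.principalBlock M ↥(Subgroup.centralizer ({x} : Set G))) := by
    intro x _
    haveI : Fintype ↥(Subgroup.centralizer ({x} : Set G)) := Fintype.ofFinite _
    exact CfsgLib.GapOne.one_le_blockRank_principal hM
  by_cases hl : Cfsg.blockRank p (Cfsg.principalBlock M G) = 1
  · obtain ⟨hge, Q, hQg, hQf, hQp, hQc, hQk⟩ :=
      CfsgLib.GapOne.nilpotent_case hM (CfsgLib.GapOne.hnpc_of_blockRank_one hM hl)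
    rw [hk] at hge hQk
    rw [← hn] at hge hQc
    rw [← hQc]
    exact CfsgLib.GapOne.card_eq_three_of_classes hQp (hQc ▸ hge) hQk
  -- at least one class of nontrivial `p`-elements
  have hne : (X.erase 1).Nonempty := by
    rcases (X.erase 1).eq_empty_or_nonempty with he | he
    · exfalso
      refine hl (CfsgLib.GapOne.blockRank_one_of_hnpc hM ⟨D, ⊤, inferInstance, ?_⟩)
      have hD : (D : Subgroup G) = ⊥ := by
        rw [eq_bot_iff]
        intro g hg
        obtain ⟨j, hj⟩ := IsPGroup.iff_orderOf.1 D.isPGroup' ⟨g, hg⟩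
        obtain ⟨z, ⟨hz, hgz⟩, -⟩ := hXrep g ⟨j, by rw [← hj, Subgroup.orderOf_mk]⟩
        have hz1 : z = 1 := by
          by_contra hz1
          exact Finset.notMem_empty z (he ▸ Finset.mem_erase.2 ⟨hz1, hz⟩)
        subst hz1
        exact isConj_one_left.1 hgz
      rw [hD]
      exact Subgroup.isComplement'_top_bot
    · exact he
  obtain ⟨x, hx⟩ := hne
  have hxX := (Finset.mem_erase.1 hx).2
  have hx1 := (Finset.mem_erase.1 hx).1
  rw [← Finset.add_sum_erase _ _ hx] at hcount
  have hx' := hpos x hx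
  have hrest : ((X.erase 1).erase x).card ≤
      ∑ z ∈ (X.erase 1).erase x,
        Cfsg.blockRank p (Cfsg.principalBlock M ↥(Subgroup.centralizer ({z} : Set G))) := by
    rw [Finset.card_eq_sum_ones]
    exact Finset.sum_le_sum fun z hz => hpos z (Finset.mem_of_mem_erase hz)
  have hX2 : (X.erase 1).erase x = ∅ := Finset.card_eq_zero.1 (by omega)
  have hC : Cfsg.HasNormalPComplement p ↥(Subgroup.centralizer ({x} : Set G)) :=
    CfsgLib.GapOne.hnpc_of_blockRank_one hM (by omega)
  obtain ⟨k, hxk⟩ := hX x hxX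
  have hone : ∀ g : G, (∃ j : ℕ, orderOf g = p ^ j) → g ≠ 1 → IsConj g x := by
    intro g hg hg1
    obtain ⟨z, ⟨hz, hgz⟩, -⟩ := hXrep g hg
    by_cases hzx : z = x
    · exact hzx ▸ hgz
    · exfalso
      refine Finset.notMem_empty z (hX2 ▸ Finset.mem_erase.2 ⟨hzx, Finset.mem_erase.2 ⟨?_, hz⟩⟩)
      intro hz1
      exact hg1 (isConj_one_left.1 (hz1 ▸ hgz))
  obtain ⟨a, ha, ha1, ha0, hdeg, hsq⟩ :=
    CfsgLib.GapOne.one_class_values hM hxk hx1 hC hone
  have hmem1 : CfsgLib.Block.oneIrr G ∈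
      Finset.univ.filter (· ∈ Cfsg.principalBlock M G) :=
    Finset.mem_filter.2 ⟨Finset.mem_univ _, CfsgLib.Block.oneIrr_mem_principalBlock⟩
  have hcard : ((Finset.univ.filter (· ∈ Cfsg.principalBlock M G)).erase
      (CfsgLib.Block.oneIrr G)).card = 2 := by
    have hB : (Finset.univ.filter (· ∈ Cfsg.principalBlock M G)).card = 3 := by
      rw [← Fintype.card_subtype, ← Nat.card_eq_fintype_card]
      exact hk
    rw [Finset.card_erase_of_mem hmem1, hB]
  obtain ⟨χ, ψ, hχψ, hset⟩ := Finset.card_eq_two.1 hcard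
  have hmem : ∀ φ ∈ ({χ, ψ} : Finset (Cfsg.IrrCharacter G)),
      φ ∈ Cfsg.principalBlock M G := fun φ hφ => by
    rw [← hset] at hφ
    exact (Finset.mem_filter.1 (Finset.mem_of_mem_erase hφ)).2
  have haχ := ha0 χ (hmem χ (by simp))
  have haψ := ha0 ψ (hmem ψ (by simp))
  rw [← Finset.add_sum_erase _ _ hmem1, hset, Finset.sum_pair hχψ, ha1] at hdeg hsq
  rw [show Cfsg.charDegree (CfsgLib.Block.oneIrr G : G → ℂ) = 1 by simp [Cfsg.charDegree],
    Nat.cast_one] at hdeg
  rw [← hn] at hsq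
  have hsq' : (p : ℤ) ^ n = ((p ^ n : ℕ) : ℤ) := by push_cast; rfl
  have h3 : 3 ≤ p ^ n := by
    have h1 : 1 ≤ a χ * a χ := by nlinarith [sq_abs (a χ), abs_pos.2 haχ]
    have h2 : 1 ≤ a ψ * a ψ := by nlinarith [sq_abs (a ψ), abs_pos.2 haψ]
    have : (3 : ℤ) ≤ ((p ^ n : ℕ) : ℤ) := by rw [← hsq']; linarith
    exact_mod_cast this
  by_cases hp2 : p = 2
  · exfalso
    subst hp2
    obtain ⟨m, hm⟩ : ∃ m, n = m + 2 := by
      refine ⟨n - 2, ?_⟩
      have : 2 ≤ n := by
        by_contra hlt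
        interval_cases n <;> omega
      omega
    have h4 : (4 : ℤ) ∣ 1 * 1 + (a χ * a χ + a ψ * a ψ) := by
      rw [hsq, hm]
      exact ⟨2 ^ m, by push_cast; ring⟩
    have key : ∀ r s : ZMod 4, 1 * 1 + (r * r + s * s) ≠ 0 := by decide
    refine key (a χ : ZMod 4) (a ψ : ZMod 4) ?_
    have := (ZMod.intCast_zmod_eq_zero_iff_dvd _ 4).2 h4
    push_cast at this
    exact this
  · obtain ⟨ν, hν, hν1, hνsum, hν0⟩ :=
      CfsgLib.GapOne.one_class_indicator hM hp2 hxk hC a ha ha0
    rw [← Finset.add_sum_erase _ _ hmem1, hset, Finset.sum_pair hχψ, ha1, hν1] at hνsum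
    have hsame : a χ = a ψ ∨ a χ = -a ψ := by
      rcases hν χ with h | h | h
      · obtain ⟨φ, hφ, hφne, hφν, hφa⟩ := hν0 χ (hmem χ (by simp)) h
        left
        by_cases hφ1 : φ = CfsgLib.Block.oneIrr G
        · rw [hφ1, hν1] at hφν
          exact absurd hφν one_ne_zero
        · have hφ2 : φ ∈ ({χ, ψ} : Finset (Cfsg.IrrCharacter G)) := by
            rw [← hset]
            exact Finset.mem_erase.2 ⟨hφ1, Finset.mem_filter.2 ⟨Finset.mem_univ _, hφ⟩⟩
          rcases Finset.mem_insert.1 hφ2 with e | e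
          · exact absurd e hφne
          · rw [Finset.mem_singleton.1 e] at hφa
            exact hφa.symm
      all_goals
        rw [h] at hνsum
        rcases hν ψ with h' | h' | h' <;> rw [h'] at hνsum <;> omega
    have hunit : a χ ∣ 1 := by
      rcases hsame with e | e
      · exact ⟨-((Cfsg.charDegree (χ : G → ℂ) : ℤ) + Cfsg.charDegree (ψ : G → ℂ)), by
          rw [← e] at hdeg
          linear_combination hdeg⟩
      · exact ⟨-((Cfsg.charDegree (χ : G → ℂ) : ℤ) - Cfsg.charDegree (ψ : G → ℂ)), by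
          have e' : a ψ = -a χ := by omega
          rw [e'] at hdeg
          linear_combination hdeg⟩
    have h1 : a χ * a χ = 1 := by
      rcases Int.isUnit_iff.1 (isUnit_of_dvd_one hunit) with e | e <;> rw [e] <;> norm_num
    have h2 : a ψ * a ψ = 1 := by
      rcases hsame with e | e <;> rw [e] at h1 <;> ring_nf at h1 ⊢ <;> linarith
    rw [h1, h2, hsq'] at hsq
    omega

end Cfsg.Agent.S4614
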