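-- Proof of statement S0894.
import Cfsg.Statements.S0894
import Cfsg.Agent.Char.CenterValues
import Cfsg.Agent.Char.Monomial
import Cfsg.Agent.Char.Linear

set_option autoImplicit false
open Cfsg

namespace Cfsg.Agent.S0894

/-- Let P be an extraspecial p-group of order p ^ (2 * n + 1). Then every irreducible character of P has degree 1 or p ^ n, and exactly p - 1 of them have degree p ^ n. -/
theorem result {P : Type*} [Group P] [Finite P] (p n : ℕ) [Fact p.Prime] (hP : Cfsg.IsExtraspecial p P) (hcard : Nat.card P = p ^ (2 * n + 1)) : (∀ χ : Cfsg.IrrCharacter P, (χ : P → ℂ) 1 = 1 ∨ (χ : P → ℂ) 1 = (p : ℂ) ^ n) ∧ Nat.card {χ : Cfsg.IrrCharacter P // (χ : P → ℂ) 1 = (p : ℂ) ^ n} = p - 1 := by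
  classical
  haveI := Fintype.ofFinite P
  obtain ⟨⟨hp, -, hcomm⟩, hcen⟩ := hP
  have hp0 := (Fact.out : p.Prime).pos
  have hidxZ : (Subgroup.center P).index = p ^ n * p ^ n := by
    have := (Subgroup.center P).card_mul_index
    rw [hcen, hcard, show 2 * n + 1 = (n + n) + 1 by ring, pow_succ', pow_add] at this
    exact Nat.eq_of_mul_eq_mul_left hp0 this
  have hn : n ≠ 0 := by
    rintro rfl
    have htop : Subgroup.center P = ⊤ := Subgroup.eq_top_of_card_eq _ (by rw [hcen, hcard]; simp)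
    have hbot : commutator P = ⊥ := by
      rw [commutator_def, Subgroup.commutator_eq_bot_iff_le_centralizer]
      intro x _
      rw [Subgroup.mem_centralizer_iff]
      intro y _
      exact Subgroup.mem_center_iff.1 (htop ▸ Subgroup.mem_top x) y
    rw [hcomm] at hbot
    rw [hbot, Subgroup.card_bot] at hcen
    exact (Fact.out : p.Prime).ne_one hcen.symm
  have hpn : (p : ℂ) ^ n ≠ 1 := by
    intro h
    have : p ^ n = 1 := by exact_mod_cast h
    exact (Fact.out : p.Prime).ne_one ((Nat.pow_eq_one.1 this).resolve_right hn)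
  have hor : ∀ χ : P → ℂ, Cfsg.IsIrrCharacter P χ → χ 1 = 1 ∨ χ 1 = (p : ℂ) ^ n := by
    intro χ hχ
    by_cases hker : ∀ z ∈ Subgroup.center P, χ z = χ 1
    · exact Or.inl (CfsgLib.Char.IsIrrCharacter.apply_one_eq_one_of_commutators hχ fun a b =>
        hker _ (by
          rw [← hcomm, commutator_def]
          exact Subgroup.commutator_mem_commutator (Subgroup.mem_top a) (Subgroup.mem_top b)))
    push Not at hker
    obtain ⟨a, haZ, hne⟩ := hker
    obtain ⟨-, hsq⟩ := CfsgLib.Char.IsIrrCharacter.vanish_of_center_commutator hχ fun g hg => by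
      obtain ⟨x, hx⟩ : ∃ x : P, x * g * x⁻¹ * g⁻¹ ≠ 1 := by
        by_contra! h
        refine hg (Subgroup.mem_center_iff.2 fun x => ?_)
        have := h x
        rw [mul_inv_eq_one, mul_inv_eq_iff_eq_mul] at this
        exact this
      have hxZ : x * g * x⁻¹ * g⁻¹ ∈ Subgroup.center P := by
        rw [← hcomm, commutator_def]
        exact Subgroup.commutator_mem_commutator (Subgroup.mem_top x) (Subgroup.mem_top g)
      refine ⟨x, hxZ, fun h => hne ?_⟩
      have hz : (⟨a, haZ⟩ : Subgroup.center P) ∈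
          Subgroup.zpowers (⟨_, hxZ⟩ : Subgroup.center P) :=
        mem_zpowers_of_prime_card hcen (fun h' => hx (congrArg Subtype.val h'))
      obtain ⟨i, hi⟩ := Subgroup.mem_zpowers_iff.1 hz
      rw [show a = (x * g * x⁻¹ * g⁻¹) ^ i from (congrArg Subtype.val hi).symm]
      exact (CfsgLib.Char.kerSubgroup (CfsgLib.Char.IsIrrCharacter.isCharacter hχ)).zpow_mem h i
    obtain ⟨d, hd0, hd⟩ := CfsgLib.Char.IsIrrCharacter.exists_degree hχ
    rw [hd, hidxZ, sq] at hsq
    have hd' : d = p ^ n := Nat.mul_self_inj.1 (by exact_mod_cast hsq)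
    exact Or.inr (by rw [hd, hd', Nat.cast_pow])
  refine ⟨fun χ => hor χ.1 χ.2, ?_⟩
  have hA : ((CfsgLib.Char.irrFinset P).filter (fun χ => χ 1 = 1)).card = p ^ n * p ^ n := by
    rw [← hidxZ, ← hcomm, ← CfsgLib.Char.card_linear, ← Nat.card_eq_finsetCard]
    exact Nat.card_congr
      { toFun := fun x => ⟨⟨x.1, CfsgLib.Char.mem_irrFinset.1 (Finset.mem_filter.1 x.2).1⟩,
          (Finset.mem_filter.1 x.2).2⟩
        invFun := fun x => ⟨x.1.1, Finset.mem_filter.2 ⟨CfsgLib.Char.mem_irrFinset.2 x.1.2, x.2⟩⟩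
        left_inv := fun _ => rfl
        right_inv := fun _ => rfl }
  have hB : Nat.card {χ : Cfsg.IrrCharacter P // (χ : P → ℂ) 1 = (p : ℂ) ^ n} =
      ((CfsgLib.Char.irrFinset P).filter (fun χ => ¬ χ 1 = 1)).card := by
    rw [← Nat.card_eq_finsetCard]
    exact Nat.card_congr
      { toFun := fun x => ⟨x.1.1, Finset.mem_filter.2
          ⟨CfsgLib.Char.mem_irrFinset.2 x.1.2, fun h => hpn (x.2.symm.trans h)⟩⟩
        invFun := fun x => ⟨⟨x.1, CfsgLib.Char.mem_irrFinset.1 (Finset.mem_filter.1 x.2).1⟩,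
          (hor x.1 (CfsgLib.Char.mem_irrFinset.1 (Finset.mem_filter.1 x.2).1)).resolve_left
            (Finset.mem_filter.1 x.2).2⟩
        left_inv := fun _ => rfl
        right_inv := fun _ => rfl }
  have hsum := CfsgLib.Char.sum_degree_sq (G := P)
  rw [← Finset.sum_filter_add_sum_filter_not _ (fun χ : P → ℂ => χ 1 = 1),
    Finset.sum_congr rfl fun χ hχ => show χ 1 ^ 2 = (1 : ℂ) by
      rw [(Finset.mem_filter.1 hχ).2, one_pow],
    Finset.sum_congr (s₁ := (CfsgLib.Char.irrFinset P).filter fun χ => ¬ χ 1 = 1) rfl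
      fun χ hχ => show χ 1 ^ 2 = ((p ^ n * p ^ n : ℕ) : ℂ) by
        rw [(hor χ (CfsgLib.Char.mem_irrFinset.1 (Finset.mem_filter.1 hχ).1)).resolve_left
          (Finset.mem_filter.1 hχ).2]
        push_cast
        ring,
    Finset.sum_const, Finset.sum_const, hA, nsmul_eq_mul, nsmul_eq_mul, hcard, ← hB] at hsum
  have h5 : p ^ n * p ^ n + Nat.card {χ : Cfsg.IrrCharacter P // (χ : P → ℂ) 1 = (p : ℂ) ^ n} *
      (p ^ n * p ^ n) = p ^ (2 * n + 1) := by
    simp only [mul_one] at hsum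
    exact_mod_cast hsum
  have hQ : 0 < p ^ n * p ^ n := Nat.mul_pos (Nat.pow_pos hp0) (Nat.pow_pos hp0)
  rw [show p ^ (2 * n + 1) = p * (p ^ n * p ^ n) by ring] at h5
  have h6 : (1 + Nat.card {χ : Cfsg.IrrCharacter P // (χ : P → ℂ) 1 = (p : ℂ) ^ n}) * (p ^ n * p ^ n) =
      p * (p ^ n * p ^ n) := by rw [← h5]; ring
  have h7 := Nat.eq_of_mul_eq_mul_right hQ h6
  omega

end Cfsg.Agent.S0894
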