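import Cfsg.Statements.S4182
import Mathlib.GroupTheory.Sylow

set_option autoImplicit false
open Cfsg

namespace Cfsg.Agent.S4182

/-- Let p be a prime and G a finite group generated by its p-elements. If a finite family of proper subgroups of G covers the set of p-elements of G (every element of p-power order lies in one of them), then the family has at least p + 1 members. -/
theorem result {G : Type*} [Group G] [Finite G] (p : ℕ) [Fact p.Prime] (hgen : Subgroup.closure {g : G | ∃ k : ℕ, orderOf g = p ^ k} = ⊤)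
    {ι : Type*} [Fintype ι] (K : ι → Subgroup G) (hK : ∀ i, K i ≠ ⊤)
    (hcov : ∀ g : G, (∃ k : ℕ, orderOf g = p ^ k) → ∃ i, g ∈ K i) :
    p + 1 ≤ Fintype.card ι := by
  classical
  have hp := (Fact.out : p.Prime)
  by_contra hlt
  have hk : Fintype.card ι ≤ p := by omega
  -- an element of p-power order as a member of a subgroup of index prime to p
  have hmem : ∀ (X : Subgroup G) (Y : Subgroup X) [Y.Normal] (x : X),
      (∃ j : ℕ, orderOf x = p ^ j) → ¬ p ∣ Y.index → x ∈ Y := by
    intro X Y _ x hx hidx
    obtain ⟨j, hj⟩ := hx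
    have h1 : orderOf (x : X ⧸ Y) ∣ p ^ j := hj ▸ orderOf_map_dvd (QuotientGroup.mk' Y) x
    have h2 : orderOf (x : X ⧸ Y) ∣ Y.index := Subgroup.index_eq_card Y ▸ orderOf_dvd_natCard _
    rw [← QuotientGroup.eq_one_iff, ← orderOf_eq_one_iff]
    exact Nat.eq_one_of_dvd_coprimes ((Nat.Prime.coprime_iff_not_dvd hp).2 hidx |>.pow_left j) h1 h2
  have key : ∀ m : ℕ, ∀ L : Subgroup G, Nat.card L = m →
      L ≤ Subgroup.closure {g : G | g ∈ L ∧ ∃ j : ℕ, orderOf g = p ^ j} → ∃ i, L ≤ K i := by
    intro m
    induction m using Nat.strong_induction_on with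
    | _ m ih =>
    intro L hLm hLgen
    subst hLm
    by_contra hcon
    push Not at hcon
    obtain ⟨P⟩ : Nonempty (Sylow p L) := inferInstance
    set S := (P : Subgroup L).map L.subtype with hS
    have hSL : S ≤ L := Subgroup.map_subtype_le _
    have hScard : Nat.card S = p ^ (Nat.card L).factorization p := by
      rw [hS, ← P.card_eq_multiplicity]
      exact Nat.card_congr ((P : Subgroup L).equivMapOfInjective _ L.subtype_injective).symm.toEquiv
    have hSp : IsPGroup p S := P.2.map _
    have hSgen : ∀ g ∈ S, ∃ j : ℕ, orderOf g = p ^ j := fun g hg => by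
      obtain ⟨j, hj⟩ := (IsPGroup.iff_orderOf.1 hSp) ⟨g, hg⟩
      exact ⟨j, by rwa [Subgroup.orderOf_mk] at hj⟩
    by_cases hSeq : S = L
    · -- L is a p-group
      haveI : Fintype G := Fintype.ofFinite G
      obtain ⟨i0, -⟩ := hcov 1 ⟨0, by simp⟩
      have hsz : ∀ i, Nat.card (K i ⊓ L : Subgroup G) * p ≤ Nat.card L := by
        intro i
        have hlt' : K i ⊓ L < L := lt_of_le_of_ne inf_le_right fun e => hcon i (e ▸ inf_le_left)
        have h1 : (K i ⊓ L).relIndex L ∣ Nat.card L := Subgroup.relIndex_dvd_card _ _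
        have h2 : (K i ⊓ L).relIndex L ≠ 1 := fun e => not_le_of_gt hlt' (Subgroup.relIndex_eq_one.1 e)
        have h4 := hScard
        rw [hSeq] at h4
        rw [h4] at h1
        obtain ⟨j, -, hj⟩ := (Nat.dvd_prime_pow hp).1 h1
        have h3 : p ≤ (K i ⊓ L).relIndex L := by
          rw [hj] at h2 ⊢
          rcases j with _ | j
          · simp at h2
          · exact Nat.le_self_pow (Nat.succ_ne_zero j) p
        have h5 := Subgroup.relIndex_mul_relIndex (⊥ : Subgroup G) (K i ⊓ L) L bot_le inf_le_right
        rw [Subgroup.relIndex_bot_left, Subgroup.relIndex_bot_left] at h5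
        exact (Nat.mul_le_mul_left _ h3).trans h5.le
      have hsub : (Finset.univ.filter (fun g : G => g ∈ L)) ⊆ insert 1
          (Finset.univ.biUnion fun i => (Finset.univ.filter (fun g : G => g ∈ K i ⊓ L)).erase 1) := by
        intro g hg
        simp only [Finset.mem_filter, Finset.mem_univ, true_and] at hg
        rcases eq_or_ne g 1 with rfl | hg1
        · exact Finset.mem_insert_self _ _
        · obtain ⟨i, hi⟩ := hcov g (hSgen g (hSeq ▸ hg))
          refine Finset.mem_insert_of_mem (Finset.mem_biUnion.2 ⟨i, Finset.mem_univ _, ?_⟩)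
          simp [hg1, hi, hg]
      have h1 := (Finset.card_le_card hsub).trans (Finset.card_insert_le _ _)
      have h2 : ((Finset.univ.biUnion fun i =>
          (Finset.univ.filter (fun g : G => g ∈ K i ⊓ L)).erase 1).card + Fintype.card ι) * p ≤
          Fintype.card ι * Nat.card L := by
        refine le_trans (Nat.mul_le_mul_right p (Nat.add_le_add_right Finset.card_biUnion_le _)) ?_
        rw [Fintype.card, Finset.card_eq_sum_ones, ← Finset.sum_add_distrib, Finset.sum_mul,
          Finset.sum_mul]
        refine Finset.sum_le_sum fun i _ => ?_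
        rw [one_mul, Finset.card_erase_add_one (by simp [one_mem])]
        refine le_trans (le_of_eq ?_) (hsz i)
        rw [Nat.card_eq_fintype_card, Fintype.card_subtype]
      have hLc : (Finset.univ.filter (fun g : G => g ∈ L)).card = Nat.card L := by
        rw [Nat.card_eq_fintype_card, Fintype.card_subtype]
      rw [hLc] at h1
      have hι : 1 ≤ Fintype.card ι := Fintype.card_pos_iff.2 ⟨i0⟩
      have hp2 := hp.two_le
      set u := (Finset.univ.biUnion fun i =>
          (Finset.univ.filter (fun g : G => g ∈ K i ⊓ L)).erase 1).card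
      have hLpos : 2 ≤ Nat.card L := by
        by_contra hcon'
        have h' := Nat.card_pos (α := L)
        exact hcon i0 (le_of_eq_of_le (Subgroup.card_eq_one.1 (by omega)) bot_le)
      nlinarith
    -- maximal members of the family
    let good : Set (Subgroup G) := {M | M < L ∧ Nat.card S ∣ Nat.card M ∧
      M ≤ Subgroup.closure {g : G | g ∈ M ∧ ∃ j : ℕ, orderOf g = p ^ j}}
    have hgoodS : S ∈ good := ⟨lt_of_le_of_ne hSL hSeq, dvd_rfl,
      fun g hg => Subgroup.subset_closure ⟨hg, hSgen g hg⟩⟩
    obtain ⟨M, -, hM⟩ := (Set.toFinite good).exists_le_maximal hgoodS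
    have hf : ∀ N : {N // Maximal (· ∈ good) N}, ∃ i, N.1 ≤ K i := fun N =>
      ih _ (by
        have := N.2.1.1
        exact lt_of_le_of_ne (Subgroup.card_le_of_le this.le)
          fun e => this.ne (Subgroup.eq_of_le_of_card_ge this.le e.ge)) N.1 rfl N.2.1.2.2
    choose f hf using hf
    have hfinj : Function.Injective f := by
      intro A B e
      have hJ : A.1 ⊔ B.1 ≤ K (f A) := sup_le (hf A) (e ▸ hf B)
      have hJL : A.1 ⊔ B.1 < L := lt_of_le_of_ne (sup_le A.2.1.1.le B.2.1.1.le)
        fun e' => hcon _ (e' ▸ hJ)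
      have hJgood : A.1 ⊔ B.1 ∈ good := by
        refine ⟨hJL, A.2.1.2.1.trans (Subgroup.card_dvd_of_le le_sup_left), ?_⟩
        exact sup_le (A.2.1.2.2.trans (Subgroup.closure_mono fun g hg => ⟨le_sup_left (α := Subgroup G) hg.1, hg.2⟩))
          (B.2.1.2.2.trans (Subgroup.closure_mono fun g hg => ⟨le_sup_right (α := Subgroup G) hg.1, hg.2⟩))
      exact Subtype.ext ((A.2.eq_of_le hJgood le_sup_left).trans
        (B.2.eq_of_le hJgood le_sup_right).symm)
    -- the family is permuted by L
    have hconj : ∀ g ∈ L, Maximal (· ∈ good) (M.map (MulAut.conj g).toMonoidHom) := by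
      have hLg : ∀ g ∈ L, L.map (MulAut.conj g).toMonoidHom = L := fun g hg => by
        refine Subgroup.eq_of_le_of_card_ge ?_ (le_of_eq ?_)
        · rintro x ⟨y, hy, rfl⟩
          exact mul_mem (mul_mem hg hy) (inv_mem hg)
        · exact Nat.card_congr (L.equivMapOfInjective _ (MulAut.conj g).injective).toEquiv
      have hgood : ∀ g ∈ L, ∀ N ∈ good, N.map (MulAut.conj g).toMonoidHom ∈ good := by
        intro g hg N hN
        refine ⟨?_, ?_, ?_⟩
        · rw [← hLg g hg]
          exact (Subgroup.map_lt_map_iff_of_injective (MulAut.conj g).injective).2 hN.1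
        · rw [← Nat.card_congr (N.equivMapOfInjective _ (MulAut.conj g).injective).toEquiv]
          exact hN.2.1
        · refine (Subgroup.map_mono hN.2.2).trans ?_
          rw [MonoidHom.map_closure]
          refine Subgroup.closure_mono ?_
          rintro x ⟨y, ⟨hy, j, hj⟩, rfl⟩
          refine ⟨Subgroup.mem_map_of_mem _ hy, j, ?_⟩
          rw [← hj]
          exact (MulAut.conj g).orderOf_eq y
      intro g hg
      refine ⟨hgood g hg M hM.1, fun N hN hle => ?_⟩
      have h1 := hgood g⁻¹ (inv_mem hg) N hN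
      have h2 : M ≤ N.map (MulAut.conj g⁻¹).toMonoidHom := fun x hx =>
        ⟨g * x * g⁻¹, hle ⟨x, hx, rfl⟩, by simp [mul_assoc]⟩
      have h3 := hM.2 h1 h2
      rintro x hx
      exact ⟨g⁻¹ * x * g, h3 ⟨x, hx, by simp⟩, by simp [mul_assoc]⟩
    set T := (Subgroup.normalizer (M : Set G)).subgroupOf L
    have hMT : M.subgroupOf L ≤ T := fun x hx => Subgroup.le_normalizer hx
    have hMcard : Nat.card (M.subgroupOf L) = Nat.card M :=
      Nat.card_congr (Subgroup.subgroupOfEquivOfLe hM.1.1.le).toEquiv
    have hTidx : ¬ p ∣ (M.subgroupOf L).index := by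
      have h1 := (M.subgroupOf L).card_mul_index
      rw [hMcard] at h1
      intro hd
      have h2 : p ^ ((Nat.card L).factorization p + 1) ∣ Nat.card L := by
        have h3 : p ^ (Nat.card L).factorization p ∣ Nat.card M := hScard ▸ hM.1.2.1
        rw [pow_succ]
        exact (mul_dvd_mul h3 hd).trans h1.dvd
      exact Nat.pow_succ_factorization_not_dvd Nat.card_pos.ne' hp h2
    have hTdvd : T.index ∣ (M.subgroupOf L).index := Subgroup.index_dvd_of_le hMT
    have hTle : T.index ≤ Fintype.card ι := by
      rw [Subgroup.index_eq_card, ← Nat.card_eq_fintype_card]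
      refine Nat.card_le_card_of_injective (fun q => f ⟨_, hconj (q.out : L) q.out.2⟩) fun a b e => ?_
      have e' := congrArg Subtype.val (hfinj e)
      dsimp only at e'
      rw [← QuotientGroup.out_eq' a, ← QuotientGroup.out_eq' b, QuotientGroup.eq]
      show ((a.out⁻¹ * b.out : L) : G) ∈ Subgroup.normalizer (M : Set G)
      rw [Subgroup.coe_mul, Subgroup.coe_inv]
      refine Subgroup.mem_normalizer_iff.2 fun x => ⟨fun hx => ?_, fun hx => ?_⟩
      · obtain ⟨y, hy, hy'⟩ : (MulAut.conj (b.out : G)).toMonoidHom x ∈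
            M.map (MulAut.conj (a.out : G)).toMonoidHom := e' ▸ Subgroup.mem_map_of_mem _ hx
        have : ((a.out : G))⁻¹ * (b.out : G) * x * (((a.out : G))⁻¹ * (b.out : G))⁻¹ = y := by
          simp only [MulEquiv.coe_toMonoidHom, MulAut.conj_apply] at hy'
          calc _ = ((a.out : G))⁻¹ * ((b.out : G) * x * (b.out : G)⁻¹) * (a.out : G) := by group
            _ = y := by rw [← hy']; group
        rwa [this]
      · obtain ⟨y, hy, hy'⟩ : (MulAut.conj (a.out : G)).toMonoidHom
            (((a.out : G))⁻¹ * (b.out : G) * x * (((a.out : G))⁻¹ * (b.out : G))⁻¹) ∈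
            M.map (MulAut.conj (b.out : G)).toMonoidHom := e'.symm ▸ Subgroup.mem_map_of_mem _ hx
        have : x = y := by
          simp only [MulEquiv.coe_toMonoidHom, MulAut.conj_apply] at hy'
          calc x = (b.out : G)⁻¹ * ((b.out : G) * x * (b.out : G)⁻¹) * (b.out : G) := by group
            _ = (b.out : G)⁻¹ * ((a.out : G) * ((a.out : G)⁻¹ * (b.out : G) * x *
                ((a.out : G)⁻¹ * (b.out : G))⁻¹) * (a.out : G)⁻¹) * (b.out : G) := by group
            _ = y := by rw [← hy']; group
        rwa [this]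
    have hTlt : T.index < p := by
      refine lt_of_le_of_ne (hTle.trans hk) fun e => hTidx (e ▸ hTdvd)
    -- so every element of p-power order normalises M
    have hcore : ¬ p ∣ T.normalCore.index := by
      rw [T.normalCore_eq_ker, Subgroup.index_ker]
      intro hd
      have h1 := hd.trans (Subgroup.card_subgroup_dvd_card (MulAction.toPermHom L (L ⧸ T)).range)
      rw [Nat.card_perm, ← Subgroup.index_eq_card, hp.dvd_factorial] at h1
      omega
    have hLN : L ≤ Subgroup.normalizer (M : Set G) := by
      refine hLgen.trans ((Subgroup.closure_le _).2 ?_)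
      rintro g ⟨hg, j, hj⟩
      exact T.normalCore_le (hmem L _ ⟨g, hg⟩ ⟨j, by rwa [Subgroup.orderOf_mk]⟩ hcore)
    haveI : (M.subgroupOf L).Normal := Subgroup.normal_subgroupOf_iff_le_normalizer hM.1.1.le |>.2 hLN
    refine hM.1.1.not_ge (hLgen.trans ((Subgroup.closure_le _).2 ?_))
    rintro g ⟨hg, j, hj⟩
    exact hmem L _ ⟨g, hg⟩ ⟨j, by rwa [Subgroup.orderOf_mk]⟩ hTidx
  obtain ⟨i, hi⟩ := key _ ⊤ rfl (by
    refine le_of_eq ?_
    simpa using hgen.symm)
  exact hK i (top_le_iff.1 hi)

end Cfsg.Agent.S4182
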