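import Cfsg.Statements.S3889
import Mathlib.GroupTheory.Exponent

set_option autoImplicit false
open Cfsg

namespace Cfsg.Agent.S3889

/-- A finite abelian group that is the union of a family of proper subgroups any two of which intersect trivially is elementary abelian: its exponent is a prime. -/
theorem result {G : Type*} [CommGroup G] [Finite G] (𝓑 : Set (Subgroup G)) (hprop : ∀ B ∈ 𝓑, B ≠ ⊤)
    (hcov : ∀ g : G, ∃ B ∈ 𝓑, g ∈ B) (hdisj : ∀ B ∈ 𝓑, ∀ C ∈ 𝓑, B ≠ C → B ⊓ C = ⊥) :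
    (Monoid.exponent G).Prime := by
  classical
  have hnt : Nontrivial G := by
    obtain ⟨B, hB, -⟩ := hcov 1
    by_contra h
    rw [not_nontrivial_iff_subsingleton] at h
    exact hprop B hB (eq_top_iff.2 fun g _ => Subsingleton.elim (1 : G) g ▸ B.one_mem)
  have hsep : ∀ B ∈ 𝓑, ∀ C ∈ 𝓑, B ≠ C → ∀ z, z ∈ B → z ∈ C → z = 1 :=
    fun B hB C hC hne z h1 h2 => Subgroup.mem_bot.1 (hdisj B hB C hC hne ▸ ⟨h1, h2⟩)
  have hdvd : ∀ B ∈ 𝓑, ∀ x ∈ B, x ≠ 1 → ∀ y, y ∉ B → orderOf y ∣ orderOf x := by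
    intro B hB x hx hx1 y hy
    obtain ⟨C, hC, hyC⟩ := hcov y
    obtain ⟨D, hD, hxyD⟩ := hcov (x * y)
    have hDC : D ≠ C := by
      rintro rfl
      have hxD : x ∈ D := by simpa using D.mul_mem hxyD (D.inv_mem hyC)
      exact hx1 (hsep B hB D hD (fun h => hy (h ▸ hyC)) x hx hxD)
    apply orderOf_dvd_of_pow_eq_one
    have h1 : (x * y) ^ orderOf x = y ^ orderOf x := by rw [mul_pow, pow_orderOf_eq_one, one_mul]
    exact hsep D hD C hC hDC _ (h1 ▸ D.pow_mem hxyD _) (C.pow_mem hyC _)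
  have hsame : ∀ x y : G, x ≠ 1 → y ≠ 1 → orderOf x = orderOf y := by
    have hcross : ∀ x y : G, x ≠ 1 → y ≠ 1 → ∀ B ∈ 𝓑, x ∈ B → y ∉ B →
        orderOf x = orderOf y := by
      intro x y hx hy B hB hxB hyB
      obtain ⟨C, hC, hyC⟩ := hcov y
      have hxC : x ∉ C := fun h => hx (hsep B hB C hC (fun e => hyB (e ▸ hyC)) x hxB h)
      exact Nat.dvd_antisymm (hdvd C hC y hyC hy x hxC) (hdvd B hB x hxB hx y hyB)
    intro x y hx hy
    obtain ⟨B, hB, hxB⟩ := hcov x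
    by_cases hyB : y ∈ B
    · obtain ⟨z, hz⟩ : ∃ z, z ∉ B := by
        by_contra! h; exact hprop B hB (eq_top_iff.2 fun g _ => h g)
      have hz1 : z ≠ 1 := fun h => hz (h ▸ B.one_mem)
      exact (hcross x z hx hz1 B hB hxB hz).trans (hcross y z hy hz1 B hB hyB hz).symm
    · exact hcross x y hx hy B hB hxB hyB
  obtain ⟨q, hq, hqd⟩ := Nat.exists_prime_and_dvd (Finite.one_lt_card (α := G)).ne'
  haveI := Fact.mk hq
  obtain ⟨w, hw⟩ := exists_prime_orderOf_dvd_card' (G := G) q hqd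
  have hw1 : w ≠ 1 := fun h => by rw [h, orderOf_one] at hw; exact hq.ne_one hw.symm
  have : Monoid.exponent G = q := by
    refine Nat.dvd_antisymm (Monoid.exponent_dvd_of_forall_pow_eq_one fun g => ?_)
      (hw ▸ Monoid.order_dvd_exponent w)
    by_cases hg : g = 1
    · rw [hg, one_pow]
    · rw [← hw, ← hsame g w hg hw1, pow_orderOf_eq_one]
  rwa [this]

end Cfsg.Agent.S3889
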