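import Cfsg.Statements.S0132
import Cfsg.Agent.Transfer.HallFocal
import Cfsg.Agent.Solvable.Basics

set_option autoImplicit false
set_option linter.deprecated false
set_option linter.style.haveILetI false
set_option linter.unusedVariables false
open Cfsg
open scoped Pointwise

namespace Cfsg.Agent.S0132

/-- A minimal non-p-nilpotent finite group is a minimal non-nilpotent group with a normal Sylow p-subgroup. -/
theorem result {G : Type*} [Group G] [Finite G] {p : ℕ} [Fact p.Prime] (h1 : ¬ Cfsg.HasNormalPComplement p G) (h2 : ∀ H : Subgroup G, H ≠ ⊤ → Cfsg.HasNormalPComplement p H) : (∀ H : Subgroup G, H ≠ ⊤ → Group.IsNilpotent H) ∧ ¬ Group.IsNilpotent G ∧ ∀ P : Sylow p G, (P : Subgroup G).Normal := by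
  have hnLC : ¬ CfsgLib.Fusion.LocalCondition p G :=
    fun h => h1 (CfsgLib.Fusion.hasNormalPComplement_of_localCondition h)
  rw [CfsgLib.Fusion.LocalCondition] at hnLC
  push Not at hnLC
  obtain ⟨Q, hQ, g, hg, hgp, hgc⟩ := hnLC
  obtain ⟨r, a, k, hr, hak, haN, haC, hrp⟩ : ∃ r a k, r.Prime ∧ orderOf a = r ^ k ∧ a ∈ Subgroup.normalizer (Q : Set G) ∧ a ∉ Subgroup.centralizer (Q : Set G) ∧ r ≠ p := by
    by_contra hcon
    apply hgc
    refine (CfsgLib.FGSA.le_of_prime_power_mem (A := Subgroup.zpowers g)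
      (M := Subgroup.centralizer (Q : Set G)) ?_) (Subgroup.mem_zpowers g)
    rintro r hr a ha ⟨k, hk⟩
    rcases Nat.eq_zero_or_pos k with rfl | hk0
    · rw [pow_zero, orderOf_eq_one_iff] at hk
      rw [hk]; exact Subgroup.one_mem _
    by_contra hac
    refine hcon ⟨r, a, k, hr, hk, Subgroup.zpowers_le.2 hg ha, hac, ?_⟩
    rintro rfl
    exact Nat.not_coprime_of_dvd_of_dvd hr.one_lt
      ((dvd_pow_self r hk0.ne').trans (hk ▸ orderOf_dvd_of_mem_zpowers ha)) dvd_rfl hgp
  have hpp : p.Prime := Fact.out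
  have hacop : (orderOf a).Coprime p := by
    rw [hak]; exact ((Nat.coprime_primes hr hpp).2 hrp).pow_left k
  have hAN : Subgroup.zpowers a ≤ Subgroup.normalizer (Q : Set G) := Subgroup.zpowers_le.2 haN
  have htop : Subgroup.zpowers a ⊔ Q = ⊤ := by
    by_contra hne
    apply haC
    set K := Subgroup.zpowers a ⊔ Q with hK
    have haK : a ∈ K := Subgroup.mem_sup_left (Subgroup.mem_zpowers a)
    have h3 := CfsgLib.Fusion.localCondition_of_hasNormalPComplement (h2 K hne) (Q.subgroupOf K)
      hQ.comap_subtype ⟨a, haK⟩ ?_ (by rw [← Subgroup.orderOf_coe]; exact hacop)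
    · rw [Subgroup.mem_centralizer_iff] at h3 ⊢
      exact fun q hq => congrArg Subtype.val (h3 ⟨q, Subgroup.mem_sup_right hq⟩ hq)
    · rw [Subgroup.mem_normalizer_iff] at haN ⊢
      intro x
      exact haN (x : G)
  have hQn : Q.Normal := by
    rw [← Subgroup.normalizer_eq_top_iff, eq_top_iff, ← htop]
    exact sup_le hAN Subgroup.le_normalizer
  have hidx : Q.index ∣ r ^ k := by
    have h3 := CfsgLib.Solvable.card_sup_dvd hAN
    rw [htop, Subgroup.card_top, ← Subgroup.card_mul_index Q, Nat.card_zpowers, hak, mul_comm (r ^ k)] at h3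
    exact Nat.dvd_of_mul_dvd_mul_left Nat.card_pos h3
  have hpi : ¬ p ∣ Q.index := fun h =>
    hrp ((Nat.prime_dvd_prime_iff_eq hpp hr).1 (hpp.dvd_of_dvd_pow (h.trans hidx))).symm
  let P₀ : Sylow p G := hQ.toSylow hpi
  have hP₀ : (P₀ : Subgroup G) = Q := rfl
  have huniq : ∀ S : Subgroup G, IsPGroup p S → S ≤ Q := by
    intro S hS
    have h3 : IsPGroup p ↥(S ⊔ Q) := hS.to_sup_of_normal_right hQ
    exact le_sup_left.trans (P₀.3 h3 le_sup_right).le
  refine ⟨fun H hH => ?_, fun hnil => ?_, fun P => ?_⟩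
  · obtain ⟨P', N, hN, hNc⟩ := h2 H hH
    have hNp : (Nat.card N).Coprime p := (CfsgLib.PResidual.card_coprime_of_isComplement' P' hNc).1
    have hNr : Nat.card N ∣ r ^ k := by
      have h3 : Nat.card N ∣ Nat.card Q * Q.index := by
        rw [Subgroup.card_mul_index]
        exact (Subgroup.card_subgroup_dvd_card N).trans (Subgroup.card_subgroup_dvd_card H)
      obtain ⟨j, hj⟩ := IsPGroup.iff_card.1 hQ
      rw [hj] at h3
      exact ((hNp.pow_right j).dvd_of_dvd_mul_left h3).trans hidx
    refine ((Group.isNilpotent_of_finite_tfae (G := H)).out 0 3).2 fun s hs S => ?_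
    have hs' : s.Prime := hs.out
    have : Fact s.Prime := ⟨hs'⟩
    rcases eq_or_ne s p with rfl | hsp
    · have hle : (S : Subgroup H) ≤ Q.subgroupOf H := fun x hx =>
        huniq _ (S.2.map H.subtype) ⟨x, hx, rfl⟩
      have he := S.3 hQ.comap_subtype hle
      rw [← he]
      infer_instance
    · have hSN : (S : Subgroup H) ≤ N := by
        intro x hx
        rw [← QuotientGroup.eq_one_iff (N := N), ← orderOf_eq_one_iff]
        obtain ⟨j, hj⟩ := IsPGroup.iff_orderOf.1 S.2 ⟨x, hx⟩
        obtain ⟨i, hi⟩ := (CfsgLib.PResidual.card_coprime_of_isComplement' P' hNc).2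
        refine Nat.eq_one_of_dvd_coprimes (Nat.Coprime.pow j i ((Nat.coprime_primes hs' hpp).2 hsp)) ?_ ?_
        · refine (orderOf_map_dvd (QuotientGroup.mk' N) x).trans ?_
          exact ((Subgroup.orderOf_coe (⟨x, hx⟩ : (S : Subgroup H))).trans hj).dvd
        · rw [← hi, Subgroup.index_eq_card]; exact orderOf_dvd_natCard _
      rcases eq_or_ne s r with rfl | hsr
      · have he := S.3 (IsPGroup.of_card_dvd_pow hNr) hSN
        rw [← he]; exact hN
      · obtain ⟨j, hj⟩ := IsPGroup.iff_card.1 S.2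
        have h3 : Nat.card (S : Subgroup H) = 1 := by
          refine Nat.eq_one_of_dvd_coprimes (Nat.Coprime.pow j k ((Nat.coprime_primes hs' hr).2 hsr)) hj.dvd ?_
          exact (Subgroup.card_dvd_of_le hSN).trans hNr
        rw [Subgroup.eq_bot_of_card_eq _ h3]
        infer_instance
  · apply haC
    rw [Subgroup.mem_centralizer_iff]
    intro q hq
    refine (CfsgLib.FGSA.commute_of_coprime_orderOf q a ?_).eq
    obtain ⟨j, hj⟩ := IsPGroup.iff_orderOf.1 hQ ⟨q, hq⟩
    have hj' : orderOf q = p ^ j := (Subgroup.orderOf_coe (⟨q, hq⟩ : Q)).trans hj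
    rw [hj']
    exact hacop.symm.pow_left j
  · have h3 : (P : Subgroup G) = Q := by
      have := P.3 hQ (huniq _ P.2)
      exact this.symm
    rw [h3]; exact hQn


end Cfsg.Agent.S0132
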