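import Cfsg.Statements.S4866
import Cfsg.Agent.GlaubermanCorr.Perm
import Cfsg.Agent.Char.Clifford

set_option autoImplicit false
open Cfsg

namespace Cfsg.Agent.S4866

open CfsgLib.Char CfsgLib.GlaubermanCorr in
/-- Let K be a normal subgroup of odd index in the finite group G. Then G has as many orbits on the real-valued irreducible complex characters of K (acting by conjugation) as it has orbits on the conjugacy classes of K that are real in K; equivalently, the number of G-orbits of real-valued irreducible characters of K equals the number of G-conjugacy classes of elements of K that are conjugate in K to their inverses. -/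
theorem result {G : Type*} [Group G] [Finite G] (K : Subgroup G) [K.Normal] (hodd : Odd K.index) : Nat.card (Quot (fun θ η : {θ : Cfsg.IrrCharacter ↥K // (∀ k : ↥K, ((θ : ↥K → ℂ) k).im = 0)} => ∃ g : G, ∀ k k' : ↥K, (k' : G) = g * (k : G) * g⁻¹ → (η.1 : ↥K → ℂ) k' = (θ.1 : ↥K → ℂ) k)) = Nat.card (Quot (fun x y : {x : ↥K // IsConj x x⁻¹} => ∃ g : G, (y.1 : G) = g * x.1 * g⁻¹)) := by
  classical
  have := Fintype.ofFinite G
  -- conjugation of classes of `K`
  let e : G → ↥K →* ↥K := fun g => (MulAut.conjNormal g : MulAut ↥K).toMonoidHom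
  have he : ∀ g (k : ↥K), ((e g k : ↥K) : G) = g * k * g⁻¹ := fun g k => MulAut.conjNormal_apply g k
  have hmul : ∀ g h k, e (g * h) k = e g (e h k) := fun g h k => Subtype.ext (by simp only [he]; group)
  have hone : ∀ k, e 1 k = k := fun k => Subtype.ext (by simp [he])
  have hreal : ∀ g k, IsConj k k⁻¹ → IsConj (e g k) (e g k)⁻¹ := fun g k hk => by
    have := (e g).map_isConj hk
    rwa [map_inv] at this
  -- the two sets
  set X1 := {θ : Cfsg.IrrCharacter ↥K // (∀ k : ↥K, ((θ : ↥K → ℂ) k).im = 0)}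
  set X2 := {c : ConjClasses ↥K // ∀ k, ConjClasses.mk k = c → IsConj k k⁻¹}
  let A1 : MulAction G X1 :=
    { smul := fun g θ => ⟨⟨conjOn g⁻¹ (θ.1 : ↥K → ℂ), isIrrCharacter_conjOn θ.1.2 g⁻¹⟩, fun k => θ.2 _⟩
      one_smul := fun θ => Subtype.ext (Subtype.ext (by
        show conjOn (1 : G)⁻¹ _ = _
        rw [inv_one, conjOn_one]))
      mul_smul := fun g h θ => Subtype.ext (Subtype.ext (by
        show conjOn (g * h)⁻¹ _ = conjOn g⁻¹ (conjOn h⁻¹ _)
        rw [conjOn_conjOn, mul_inv_rev])) }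
  let A2 : MulAction G X2 :=
    { smul := fun g c => ⟨ConjClasses.map (e g) c.1, fun k hk => by
        obtain ⟨k0, hk0⟩ := ConjClasses.mk_surjective c.1
        rw [← hk0] at hk
        have hc : IsConj k (e g k0) := ConjClasses.mk_eq_mk_iff_isConj.mp hk
        obtain ⟨a, ha⟩ := isConj_iff.mp hc.symm
        obtain ⟨b, hb⟩ := isConj_iff.mp (hreal g k0 (c.2 k0 hk0))
        refine isConj_iff.mpr ⟨a * b * a⁻¹, ?_⟩
        rw [← ha, show (a * e g k0 * a⁻¹)⁻¹ = a * (e g k0)⁻¹ * a⁻¹ by group, ← hb]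
        group⟩
      one_smul := fun c => by
        obtain ⟨c, hc⟩ := c
        obtain ⟨k0, rfl⟩ := ConjClasses.mk_surjective c
        exact Subtype.ext (congrArg ConjClasses.mk (hone k0))
      mul_smul := fun g h c => by
        obtain ⟨c, hc⟩ := c
        obtain ⟨k0, rfl⟩ := ConjClasses.mk_surjective c
        exact Subtype.ext (congrArg ConjClasses.mk (hmul g h k0)) }
  -- a power of `g` lying in `K`, of odd exponent
  have hfix : ∀ g : G, Nat.card (MulAction.fixedBy X1 g) = Nat.card (MulAction.fixedBy X2 g) := by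
    intro g
    have hm : g ^ K.index ∈ K := Subgroup.pow_index_mem K g
    obtain ⟨t, ht⟩ := hodd
    let s : ↥K → ↥K := fun k => (e g k)⁻¹
    have hs : ∀ a b, IsConj a b → IsConj (s a) (s b) := fun a b hab => by
      obtain ⟨c, hc⟩ := isConj_iff.mp ((e g).map_isConj hab)
      exact isConj_iff.mpr ⟨c, by simp only [s, ← hc]; group⟩
    let f : Cfsg.IrrCharacter ↥K → Cfsg.IrrCharacter ↥K := fun χ =>
      ⟨fun k => (starRingEnd ℂ) (conjOn g (χ : ↥K → ℂ) k), IsIrrCharacter.conj (isIrrCharacter_conjOn χ.2 g)⟩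
    have hfs : ∀ χ k, ((f χ : Cfsg.IrrCharacter ↥K) : ↥K → ℂ) k = (χ : ↥K → ℂ) (s k) := fun χ k => by
      show (starRingEnd ℂ) ((χ : ↥K → ℂ) _) = _
      rw [← IsIrrCharacter.apply_inv χ.2]
      rfl
    have hkey := card_fixed_irr f s hs hfs
    have h1 : ∀ χ : Cfsg.IrrCharacter ↥K, f χ = χ ↔
        (∀ k, ((χ : ↥K → ℂ) k).im = 0) ∧ conjOn g⁻¹ (χ : ↥K → ℂ) = (χ : ↥K → ℂ) := by
      intro χ
      constructor
      · intro hf
        have hst : ∀ k, conjOn g (χ : ↥K → ℂ) k = (starRingEnd ℂ) ((χ : ↥K → ℂ) k) := fun k => by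
          have := congrArg (fun ψ : Cfsg.IrrCharacter ↥K => (starRingEnd ℂ) ((ψ : ↥K → ℂ) k)) hf
          simpa [f] using this
        have hev : ∀ i, conjOn (g ^ (2 * i)) (χ : ↥K → ℂ) = (χ : ↥K → ℂ) := by
          intro i
          induction i with
          | zero => simp [conjOn_one]
          | succ i ih =>
            rw [show g ^ (2 * (i + 1)) = g ^ (2 * i) * (g * g) by rw [← pow_two, ← pow_add]; ring_nf,
              ← conjOn_conjOn, ih, ← conjOn_conjOn]
            funext k
            rw [conjOn_apply, hst, ← conjOn_apply g (χ : ↥K → ℂ) k, hst, Complex.conj_conj]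
        have hg : conjOn g (χ : ↥K → ℂ) = (χ : ↥K → ℂ) := by
          have hK : conjOn (g ^ K.index) (χ : ↥K → ℂ) = (χ : ↥K → ℂ) :=
            (mem_inertia _ _).mp (le_inertia (IsIrrCharacter.isClassFunction χ.2) hm)
          rw [ht, pow_succ, ← conjOn_conjOn, hev] at hK
          exact hK
        refine ⟨fun k => Complex.conj_eq_iff_im.mp ?_, ?_⟩
        · rw [← hst, hg]
        · conv_lhs => rw [← hg, conjOn_conjOn, mul_inv_cancel, conjOn_one]
      · rintro ⟨hr, hg⟩
        have hg' : conjOn g (χ : ↥K → ℂ) = (χ : ↥K → ℂ) := by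
          conv_lhs => rw [← hg, conjOn_conjOn, inv_mul_cancel, conjOn_one]
        refine Subtype.ext (funext fun k => ?_)
        show (starRingEnd ℂ) (conjOn g (χ : ↥K → ℂ) k) = _
        rw [hg', Complex.conj_eq_iff_im.mpr (hr k)]
    have h2 : ∀ c : ConjClasses ↥K, (∀ k, ConjClasses.mk k = c → IsConj (s k) k) ↔
        (∀ k, ConjClasses.mk k = c → IsConj k k⁻¹) ∧ ConjClasses.map (e g) c = c := by
      intro c
      obtain ⟨k0, rfl⟩ := ConjClasses.mk_surjective c
      have hclass : ∀ k, ConjClasses.mk k = ConjClasses.mk k0 → IsConj k k0 := fun k h =>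
        ConjClasses.mk_eq_mk_iff_isConj.mp h
      constructor
      · intro hall
        have h0 : IsConj (e g k0)⁻¹ k0 := hall k0 rfl
        have hinv : ∀ a b : ↥K, IsConj a b → IsConj a⁻¹ b⁻¹ := fun a b hab => by
          obtain ⟨c, rfl⟩ := isConj_iff.mp hab
          exact isConj_iff.mpr ⟨c, by group⟩
        have hst : IsConj (e g k0) k0⁻¹ := by simpa using hinv _ _ h0
        have hev : ∀ i, IsConj (e (g ^ (2 * i)) k0) k0 := by
          intro i
          induction i with
          | zero =>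
            rw [show e (g ^ (2 * 0)) k0 = k0 by simp [hone]]
          | succ i ih =>
            rw [show g ^ (2 * (i + 1)) = g ^ (2 * i) * (g * g) by rw [← pow_two, ← pow_add]; ring_nf, hmul, hmul]
            have a1 : IsConj (e g (e g k0)) k0 := by
              have := ((e g).map_isConj hst)
              rw [map_inv] at this
              exact this.trans h0
            exact ((e (g ^ (2 * i))).map_isConj a1).trans ih
        have hg : IsConj (e g k0) k0 := by
          have hK : IsConj (e (g ^ K.index) k0) k0 := (isConj_iff.mpr ⟨⟨_, hm⟩, Subtype.ext (by rw [he]; rfl)⟩).symm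
          rw [ht, pow_succ', hmul] at hK
          exact (((e g).map_isConj (hev t)).symm.trans hK)
        have hr : IsConj k0 k0⁻¹ := hg.symm.trans hst
        refine ⟨fun k hk => ((hclass k hk).trans hr).trans (hinv _ _ (hclass k hk)).symm, ?_⟩
        exact ConjClasses.mk_eq_mk_iff_isConj.mpr hg
      · rintro ⟨hr, hmap⟩ k hk
        have hk0 := hclass k hk
        have hg : IsConj (e g k0) k0 := ConjClasses.mk_eq_mk_iff_isConj.mp hmap
        have h3 : IsConj (e g k) k := (((e g).map_isConj hk0).trans hg).trans hk0.symm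
        obtain ⟨a, ha⟩ := isConj_iff.mp h3
        have h4 : IsConj (e g k)⁻¹ k⁻¹ := isConj_iff.mpr ⟨a, by
          conv_rhs => rw [← ha]
          group⟩
        exact h4.trans (hr k hk).symm
    refine ((Nat.card_congr ?_).trans hkey).trans (Nat.card_congr ?_)
    · exact
        { toFun := fun θ => ⟨θ.1.1, (h1 θ.1.1).mpr ⟨θ.1.2, congrArg (fun x : X1 => (x.1 : ↥K → ℂ)) θ.2⟩⟩
          invFun := fun χ => ⟨⟨χ.1, ((h1 χ.1).mp χ.2).1⟩, Subtype.ext (Subtype.ext ((h1 χ.1).mp χ.2).2)⟩
          left_inv := fun _ => rfl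
          right_inv := fun _ => rfl }
    · exact
        { toFun := fun c => ⟨⟨c.1, ((h2 c.1).mp c.2).1⟩, Subtype.ext ((h2 c.1).mp c.2).2⟩
          invFun := fun c => ⟨c.1.1, (h2 c.1.1).mpr ⟨c.1.2, congrArg Subtype.val c.2⟩⟩
          left_inv := fun _ => rfl
          right_inv := fun _ => rfl }
  have horb : Nat.card (MulAction.orbitRel.Quotient G X1) = Nat.card (MulAction.orbitRel.Quotient G X2) := by
    have := Fintype.ofFinite X1
    have := Fintype.ofFinite X2
    have := Fintype.ofFinite (MulAction.orbitRel.Quotient G X1)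
    have := Fintype.ofFinite (MulAction.orbitRel.Quotient G X2)
    have e1 := MulAction.sum_card_fixedBy_eq_card_orbits_mul_card_group G X1
    have e2 := MulAction.sum_card_fixedBy_eq_card_orbits_mul_card_group G X2
    simp only [← Nat.card_eq_fintype_card] at e1 e2
    rw [Finset.sum_congr rfl fun g _ => hfix g, e2] at e1
    exact (Nat.eq_of_mul_eq_mul_right Nat.card_pos e1).symm
  refine Eq.trans (Nat.card_congr ?_) (horb.trans (Nat.card_eq_of_bijective (Quot.lift
    (fun x : {x : ↥K // IsConj x x⁻¹} => (Quotient.mk'' (⟨ConjClasses.mk x.1, fun k hk => ?_⟩ : X2) : MulAction.orbitRel.Quotient G X2))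
    fun x y hxy => ?_) ⟨?_, ?_⟩).symm)
  · refine Quot.congrRight fun θ η => ?_
    constructor
    · rintro ⟨g, hg⟩
      rw [MulAction.orbitRel_apply]
      refine ⟨g⁻¹, Subtype.ext (Subtype.ext (funext fun k => ?_))⟩
      show conjOn g⁻¹⁻¹ (η.1 : ↥K → ℂ) k = _
      rw [inv_inv, conjOn_apply]
      exact hg k _ rfl
    · intro h
      obtain ⟨g, hg⟩ := MulAction.orbitRel_apply.mp h
      refine ⟨g⁻¹, fun k k' hk => ?_⟩
      have := congrArg (fun x : X1 => (x.1 : ↥K → ℂ) k) hg
      rw [← this]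
      show _ = conjOn g⁻¹ (η.1 : ↥K → ℂ) k
      rw [conjOn_apply]
      exact congrArg _ (Subtype.ext hk)
  · obtain ⟨a, ha⟩ := isConj_iff.mp (ConjClasses.mk_eq_mk_iff_isConj.mp hk).symm
    obtain ⟨b, hb⟩ := isConj_iff.mp x.2
    refine isConj_iff.mpr ⟨a * b * a⁻¹, ?_⟩
    rw [← ha, show (a * x.1 * a⁻¹)⁻¹ = a * x.1⁻¹ * a⁻¹ by group, ← hb]
    group
  · obtain ⟨g, hg⟩ := hxy
    refine (Quotient.sound' ?_).symm
    rw [MulAction.orbitRel_apply]
    exact ⟨g, Subtype.ext (congrArg ConjClasses.mk (Subtype.ext (by rw [he]; exact hg.symm)))⟩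
  · intro a b hab
    induction a using Quot.ind with | _ x =>
    induction b using Quot.ind with | _ y =>
    obtain ⟨g, hg⟩ := MulAction.orbitRel_apply.mp (Quotient.exact' hab)
    obtain ⟨a, ha⟩ := isConj_iff.mp (ConjClasses.mk_eq_mk_iff_isConj.mp (congrArg Subtype.val hg : ConjClasses.mk (e g y.1) = ConjClasses.mk x.1))
    refine (Quot.sound ⟨(a : G) * g, ?_⟩).symm
    rw [← ha]
    simp only [Subgroup.coe_mul, Subgroup.coe_inv, he]
    group
  · intro q
    induction q using Quotient.inductionOn' with | _ c =>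
    obtain ⟨k, hk⟩ := ConjClasses.mk_surjective c.1
    exact ⟨Quot.mk _ ⟨k, c.2 k hk⟩, congrArg Quotient.mk'' (Subtype.ext hk)⟩

end Cfsg.Agent.S4866
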