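import Cfsg.Statements.S3231
import Cfsg.Agent.S3230
import Cfsg.Agent.U62Cent.ExtBuild
import Cfsg.Agent.U62Cent.ExtSplit
import Cfsg.Agent.U62Cent.ExtTriIsolated
-- import your own Cfsg.Agent.* helpers here

set_option autoImplicit false
open Cfsg

namespace Cfsg.Agent.S3231

/-- Let G be a finite group with an involution z, H = C_G(z), such that J = O₂(H) is extraspecial of order 2⁹ with C_H(J) ≤ J and H/J ≅ Aut(PSp₄(3)). Then either G has a subgroup G₀ of index 2 with G₀ ≅ U₆(2) and C_G(G₀) = 1 (so that G embeds in Aut(G₀)), or G = H·O(G). -/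
theorem result {G : Type*} [Group G] [Finite G] (z : G) (hz : orderOf z = 2)
    {F : Type*} [Field F] [Fintype F] (hF : Fintype.card F = 3) {K : Type*} [Field K] [Fintype K] (hK : Fintype.card K = 4)
    (hJ : Cfsg.IsExtraspecial 2 ↥(Cfsg.pCore 2 ↥(Subgroup.centralizer ({z} : Set G)))) (hJc : Nat.card ↥(Cfsg.pCore 2 ↥(Subgroup.centralizer ({z} : Set G))) = 2 ^ 9)
    (hCJ : Subgroup.centralizer ((Cfsg.pCore 2 ↥(Subgroup.centralizer ({z} : Set G))) : Set ↥(Subgroup.centralizer ({z} : Set G))) ≤ Cfsg.pCore 2 ↥(Subgroup.centralizer ({z} : Set G))) [hJn : (Cfsg.pCore 2 ↥(Subgroup.centralizer ({z} : Set G))).Normal]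
    (e : (↥(Subgroup.centralizer ({z} : Set G)) ⧸ Cfsg.pCore 2 ↥(Subgroup.centralizer ({z} : Set G))) ≃* MulAut (Cfsg.PSp 2 F)) :
    (∃ G₀ : Subgroup G, G₀.index = 2 ∧ Nonempty (↥G₀ ≃* Cfsg.PSU 6 K 2) ∧ Subgroup.centralizer (G₀ : Set G) = ⊥) ∨
      Subgroup.centralizer ({z} : Set G) ⊔ Cfsg.oddCore G = ⊤ := by
  obtain ⟨V, _, _, R, f0, hf, hout, D, hDJ⟩ :=
    CfsgLib.U62Cent.exists_ce hz (Cfsg.pCore 2 ↥(Subgroup.centralizer ({z} : Set G))) hJ hJc hCJ hF e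
  rcases R.shapes with hN | hT
  · obtain ⟨D4, h4⟩ := D.exists_natural hf hout hN
    obtain ⟨M, hMn, hMi, hJM, d, hd, hdM⟩ := D4.exists_index_two
    haveI := hMn
    have hzM : z ∈ M := hJM D4.z_mem
    rw [h4, hDJ] at hJM
    refine CfsgLib.U62Cent.reduce hz hF hK (Cfsg.pCore 2 ↥(Subgroup.centralizer ({z} : Set G))) rfl hJ hJc hCJ e M hMi
      hJM hzM (d := ⟨d, hd⟩) hdM ?_
    intro h1 h2 h3 _ e'
    exact Cfsg.Agent.S3230.result (⟨z, hzM⟩ : M) ((Subgroup.orderOf_mk z hzM).trans hz) hF hK h1 h2 h3 e'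
  · have hiso : Cfsg.IsIsolatedInvolution z := ⟨hz, fun g hg => D.tri_isolated hf hT ⟨g, rfl⟩ hg.symm⟩
    refine Or.inr (eq_top_iff.2 fun g _ => ?_)
    obtain ⟨o, ho, c, hc', rfl⟩ := CfsgLib.IsoApps.exists_mul hiso g
    exact mul_mem (Subgroup.mem_sup_right ho) (Subgroup.mem_sup_left hc')

end Cfsg.Agent.S3231
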