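import Cfsg.Statements.S1714
import Cfsg.Agent.S5377
import Cfsg.Agent.TC23.FromFi22

set_option autoImplicit false
open Cfsg

namespace Cfsg.Agent.S1714

/-- The Fischer group Fi₂₃ from a transposition centraliser: let G be a finite group with an involution d such that the centraliser C of d is quasisimple, C modulo the subgroup generated by d is isomorphic to the presented Fischer group Fi₂₂, and some conjugate of d different from d commutes with d. Then G is isomorphic to the presented Fischer group Fi₂₃. -/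
theorem result {G : Type*} [Group G] [Finite G] (d : G) (hd : orderOf d = 2) (hq : Cfsg.IsQuasisimple (Subgroup.centralizer ({d} : Set G))) [((Subgroup.zpowers d).subgroupOf (Subgroup.centralizer ({d} : Set G))).Normal] (e : Cfsg.Spor.IsoFi22 ((Subgroup.centralizer ({d} : Set G)) ⧸ (Subgroup.zpowers d).subgroupOf (Subgroup.centralizer ({d} : Set G)))) (hnwc : ∃ g : G, g * d * g⁻¹ ∈ Subgroup.centralizer ({d} : Set G) ∧ g * d * g⁻¹ ≠ d) : Cfsg.Spor.IsoFi23 G := by
  haveI := CfsgLib.Coset.Fi22.card_le.1
  haveI : ((Subgroup.zpowers CfsgLib.TC23.t22).subgroupOf CfsgLib.TC23.C22).Normal := by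
    rw [CfsgLib.TC23.zpowers_eq]; infer_instance
  have ht := (Cfsg.Agent.S5377.result CfsgLib.TC23.t22 CfsgLib.Coset.Fi22.orderOf_t CfsgLib.TC23.quasisimple_C22
    CfsgLib.Coset.G24.F4 (by rw [← Nat.card_eq_fintype_card]; exact CfsgLib.Coset.U62.hF)
    CfsgLib.TC23.quot_C22.some CfsgLib.TC23.fi22_nwc).2
  exact CfsgLib.TC23.iso_fi23 d hd hq e hnwc ht

end Cfsg.Agent.S1714
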