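import Cfsg.Statements.S1713
import Cfsg.Agent.TC22.Setup
import Cfsg.Agent.Spor3T.M22Iso

set_option autoImplicit false
open Cfsg

namespace Cfsg.Agent.S1713

/-- The Fischer group Fi₂₂ from a transposition centraliser: let G be a finite group with an involution d such that the centraliser C of d is quasisimple, C modulo the subgroup generated by d is isomorphic to PSU(6, 2) (over a field with four elements), and d is not weakly closed in C, i.e. some conjugate of d different from d commutes with d. Then G is isomorphic to the presented Fischer group Fi₂₂. -/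
theorem result {G : Type*} [Group G] [Finite G] (d : G) (hd : orderOf d = 2) (hq : Cfsg.IsQuasisimple (Subgroup.centralizer ({d} : Set G))) [((Subgroup.zpowers d).subgroupOf (Subgroup.centralizer ({d} : Set G))).Normal] (K : Type) [Field K] [Fintype K] (hK : Fintype.card K = 4) (e : (Subgroup.centralizer ({d} : Set G)) ⧸ (Subgroup.zpowers d).subgroupOf (Subgroup.centralizer ({d} : Set G)) ≃* Cfsg.PSU 6 K 2) (hnwc : ∃ g : G, g * d * g⁻¹ ∈ Subgroup.centralizer ({d} : Set G) ∧ g * d * g⁻¹ ≠ d) : Cfsg.Spor.IsoFi22 G := by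
  haveI : CharP K 2 := charP_of_card_eq_prime_pow (f := 2) (by rw [hK]; rfl)
  have hF : Nat.card K = 2 ^ 2 := by rw [Nat.card_eq_fintype_card, hK]; rfl
  obtain ⟨ω, -, -, hω⟩ := CfsgLib.ThreeT.SixTwo.exists_omega hF
  obtain ⟨T⟩ := CfsgLib.TC22.exists_setup hd hq e hnwc
  obtain ⟨f, -⟩ := CfsgLib.ThreeT.Prod.exists_iso_fi22 (T.isGroup hF hω) (T.primitive hF hω) (T.isTypeM22 hF hω)
  exact ⟨f.symm⟩

end Cfsg.Agent.S1713
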