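import Cfsg.Statements.S5402
import Cfsg.Agent.TC23.Main

set_option autoImplicit false
open Cfsg

namespace Cfsg.Agent.S5402

/-- Let G be a finite group with an involution d whose centralizer C is quasisimple, such that C modulo the subgroup generated by d is of type M(22) with respect to some conjugacy class of 3-transpositions generating it, and also has an involution whose own centralizer is quasisimple with quotient by it isomorphic to the projective special unitary group of dimension 6 over the field with four elements and which is not weakly closed in its centralizer; and suppose some conjugate of d other than d commutes with d. Then the conjugacy class of d is a class of 3-transpositions generating G, and G with this class is of type M(23). -/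
theorem result {G : Type*} [Group G] [Finite G] (d : G) (hd : orderOf d = 2) (hq : Cfsg.IsQuasisimple (Subgroup.centralizer ({d} : Set G))) [((Subgroup.zpowers d).subgroupOf (Subgroup.centralizer ({d} : Set G))).Normal] (htype : ∃ E : Set ((Subgroup.centralizer ({d} : Set G)) ⧸ (Subgroup.zpowers d).subgroupOf (Subgroup.centralizer ({d} : Set G))), Cfsg.IsThreeTranspositionClass E ∧ Cfsg.IsOfTypeM22 _ E) (hinvol : ∃ d' : (Subgroup.centralizer ({d} : Set G)) ⧸ (Subgroup.zpowers d).subgroupOf (Subgroup.centralizer ({d} : Set G)), orderOf d' = 2 ∧ Cfsg.IsQuasisimple (Subgroup.centralizer ({d'} : Set _)) ∧ (∃ (K : Type) (_ : Field K) (_ : Fintype K), Fintype.card K = 4 ∧ ∃ _ : ((Subgroup.zpowers d').subgroupOf (Subgroup.centralizer ({d'} : Set _))).Normal, Nonempty ((Subgroup.centralizer ({d'} : Set _)) ⧸ (Subgroup.zpowers d').subgroupOf (Subgroup.centralizer ({d'} : Set _)) ≃* Cfsg.PSU 6 K 2)) ∧ ∃ g, g * d' * g⁻¹ ∈ Subgroup.centralizer ({d'} : Set _) ∧ g * d' * g⁻¹ ≠ d') (hnwc : ∃ g : G, g * d * g⁻¹ ∈ Subgroup.centralizer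 ({d} : Set G) ∧ g * d * g⁻¹ ≠ d) : Cfsg.IsThreeTranspositionClass (conjugatesOf d) ∧ Cfsg.IsOfTypeM23 G (conjugatesOf d) := by
  classical
  haveI : Fact (Nat.Prime 2) := ⟨Nat.prime_two⟩
  let Z := (Subgroup.zpowers d).subgroupOf (Subgroup.centralizer ({d} : Set G))
  let ψ : ↥(Subgroup.centralizer ({d} : Set G)) →* ↥(Subgroup.centralizer ({d} : Set G)) ⧸ Z := QuotientGroup.mk' Z
  have hψ : Function.Surjective ψ := QuotientGroup.mk'_surjective Z
  have hdC : d ∈ (Subgroup.centralizer ({d} : Set G)) := Subgroup.mem_centralizer_singleton_iff.2 rfl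
  have hdd : d * d = 1 := by rw [← pow_two, ← hd, pow_orderOf_eq_one]
  obtain ⟨E, hE, h22⟩ := htype
  obtain ⟨e₀, he₀, c₀, hc₀, hnc, -⟩ := h22.2
  have hperf : commutator ↥(Subgroup.centralizer ({d} : Set G)) = ⊤ := hq.1.commutator_eq_top
  have hQperf := CfsgLib.ThreeT.M22Double.perfect_of_surjective ψ hψ hperf
  haveI hQs : IsSimpleGroup (↥(Subgroup.centralizer ({d} : Set G)) ⧸ Z) := by
    haveI := hq.2
    haveI : Nontrivial (↥(Subgroup.centralizer ({d} : Set G)) ⧸ Z) :=
      ⟨⟨e₀, 1, CfsgLib.ThreeT.ne_one_of_orderOf (hE.1.1 e₀ he₀)⟩⟩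
    have hle : Subgroup.center ↥(Subgroup.centralizer ({d} : Set G)) ≤ ψ.ker := fun z hz => by
      rw [MonoidHom.mem_ker, ← Subgroup.mem_bot, ← h22.1, Subgroup.mem_center_iff]
      intro g
      obtain ⟨y, rfl⟩ := hψ g
      rw [← map_mul, ← map_mul, Subgroup.mem_center_iff.1 hz y]
    exact IsSimpleGroup.isSimpleGroup_of_surjective (QuotientGroup.lift _ ψ hle)
      (QuotientGroup.lift_surjective_of_surjective _ _ hψ hle)
  haveI hsimple : IsSimpleGroup (commutator (↥(Subgroup.centralizer ({d} : Set G)) ⧸ Z)) := by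
    rw [hQperf]
    exact IsSimpleGroup.isSimpleGroup_of_surjective
      (Subgroup.topEquiv (G := ↥(Subgroup.centralizer ({d} : Set G)) ⧸ Z)).symm.toMonoidHom
      (Subgroup.topEquiv (G := ↥(Subgroup.centralizer ({d} : Set G)) ⧸ Z)).symm.surjective
  have hcomm : ¬ ∀ a b : ↥(Subgroup.centralizer ({d} : Set G)) ⧸ Z, a * b = b * a := fun h => hnc (h _ _)
  have hnonab : ∃ x y : commutator (↥(Subgroup.centralizer ({d} : Set G)) ⧸ Z), x * y ≠ y * x :=
    ⟨⟨e₀, hQperf ▸ Subgroup.mem_top _⟩, ⟨c₀, hQperf ▸ Subgroup.mem_top _⟩, fun h => hnc (congrArg Subtype.val h)⟩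
  have hsol : ∀ N : Subgroup (↥(Subgroup.centralizer ({d} : Set G)) ⧸ Z), N.Normal → Group.IsSolvable N → N = ⊥ :=
    fun N hN hs => hN.eq_bot_or_eq_top.resolve_right fun h => hcomm (by
      subst h
      haveI : Group.IsSolvable (↥(Subgroup.centralizer ({d} : Set G)) ⧸ Z) :=
        solvable_of_surjective (f := (Subgroup.topEquiv (G := ↥(Subgroup.centralizer ({d} : Set G)) ⧸ Z)).toMonoidHom)
          (Subgroup.topEquiv (G := ↥(Subgroup.centralizer ({d} : Set G)) ⧸ Z)).surjective
      exact IsSimpleGroup.comm_iff_isSolvable.2 inferInstance)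
  have hprim := CfsgLib.ThreeT.primitive_of_connected hE hsol
    (CfsgLib.ThreeT.connected_both hE hsimple hnonab).2
    ⟨e₀, he₀, c₀, hc₀, fun h => hnc (h ▸ Commute.refl e₀)⟩
  have hg := CfsgLib.ThreeT.Prod.geo22
    ⟨hE.1, fun g a ha => CfsgLib.ThreeT.conj_mem hE ha g, hE.2.2⟩ hprim h22
  let P : CfsgLib.DoubleM22.Cover E ↥(Subgroup.centralizer ({d} : Set G)) :=
    { ψ := ψ
      surj := hψ
      z := ⟨d, hdC⟩
      z_ne := fun h => by
        have h1 : d = 1 := congrArg Subtype.val h
        rw [h1, orderOf_one] at hd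
        exact absurd hd (by norm_num)
      ker_iff := fun x => by
        refine (QuotientGroup.eq_one_iff x).trans ?_
        rw [Subgroup.mem_subgroupOf]
        constructor
        · intro h
          obtain ⟨k, hk⟩ := Subgroup.mem_zpowers_iff.1 h
          rw [← zpow_mod_orderOf, hd] at hk
          rcases Int.emod_two_eq_zero_or_one k with h2 | h2
          · left; exact Subtype.ext (by simpa [h2] using hk.symm)
          · right; exact Subtype.ext (by simpa [h2] using hk.symm)
        · rintro (rfl | rfl)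
          · exact one_mem _
          · exact Subgroup.mem_zpowers d
      central := fun x => Subtype.ext (Subgroup.mem_centralizer_singleton_iff.1 x.2).symm
      perfect := hperf
      geo := hg
      prim := hprim
      type22 := h22 }
  let T : CfsgLib.TC23.Setup d E := ⟨P, rfl, hnwc⟩
  exact ⟨T.class3, T.type23⟩

end Cfsg.Agent.S5402
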