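import Cfsg.Statements.S5349
import Cfsg.Agent.Spor3T.Twins

set_option autoImplicit false
open Cfsg

namespace Cfsg.Agent.S5349

/-- Let D be a conjugacy class of 3-transpositions generating the finite group G, with at least two members, and d a member of D. Then the set of members of D commuting with exactly the same members of D as d coincides with the set of members of D lying in the coset of d modulo the largest normal 2-subgroup of G, and also with the orbit of d under conjugation by that normal 2-subgroup. -/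
theorem result {G : Type*} [Group G] [Finite G] {D : Set G} (hD : Cfsg.IsThreeTranspositionClass D) (hD2 : ∃ a ∈ D, ∃ b ∈ D, a ≠ b) {d : G} (hd : d ∈ D) : {v : G | v ∈ D ∧ ∀ e ∈ D, Commute v e ↔ Commute d e} = {v : G | v ∈ D ∧ d⁻¹ * v ∈ Cfsg.pCore 2 G} ∧ {v : G | v ∈ D ∧ ∀ e ∈ D, Commute v e ↔ Commute d e} = {v : G | ∃ g ∈ Cfsg.pCore 2 G, v = g * d * g⁻¹} := by
  
  haveI := CfsgLib.Solvable.pCore_normal (G := G) 2
  have hsets : {v : G | v ∈ D ∧ ∀ e ∈ D, Commute v e ↔ Commute d e} = {v : G | v ∈ D ∧ d⁻¹ * v ∈ Cfsg.pCore 2 G} := by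
    ext v
    constructor
    · rintro ⟨hv, h⟩
      exact ⟨hv, (CfsgLib.ThreeT.inv hD.1 hd).symm ▸ CfsgLib.ThreeT.mul_mem_two_core hD hd hv h⟩
    · rintro ⟨hv, h⟩
      exact ⟨hv, CfsgLib.ThreeT.same_commuting_of_mem_two_core hD hd hv h⟩
  refine ⟨hsets, ?_⟩
  ext v
  constructor
  · rintro ⟨hv, hsame⟩
    let r : D → D → Prop := fun x y => ∀ e ∈ D, (Commute (y : G) e ↔ Commute (x : G) e)
    have hr : Equivalence r := ⟨fun _ _ _ => Iff.rfl, fun h e he => (h e he).symm,
      fun h h' e he => (h' e he).trans (h e he)⟩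
    have hinv : ∀ (g : G) (x y : D), r x y →
        r ⟨_, CfsgLib.ThreeT.conj_mem hD x.2 g⟩ ⟨_, CfsgLib.ThreeT.conj_mem hD y.2 g⟩ := by
      intro g x y h e he
      have he' : e = g * (g⁻¹ * e * g⁻¹⁻¹) * g⁻¹ := by group
      show Commute (g * (y : G) * g⁻¹) e ↔ Commute (g * (x : G) * g⁻¹) e
      rw [he', CfsgLib.ThreeT.commute_conj_iff, CfsgLib.ThreeT.commute_conj_iff]
      exact h _ (CfsgLib.ThreeT.conj_mem hD he g⁻¹)
    have hmod : ∀ x y w : D, r x y → ¬ r w x → (Commute (w : G) x ↔ Commute (w : G) y) := fun x y w h _ => by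
      rw [Commute.symm_iff (a := (w : G)), Commute.symm_iff (a := (w : G))]
      exact (h w w.2).symm
    obtain ⟨c, hc⟩ : ∃ c : D, ¬ Commute d (c : G) := by
      obtain ⟨a, ha, b, hb, hab⟩ := hD2
      obtain ⟨z, hz⟩ : ∃ z : D, z ≠ ⟨d, hd⟩ := by
        by_contra h
        push Not at h
        exact hab (congrArg Subtype.val ((h ⟨a, ha⟩).trans (h ⟨b, hb⟩).symm))
      rcases (CfsgLib.ThreeT.noncomm_connected hD ⟨d, hd⟩ z).cases_head with h | ⟨c, hc, -⟩
      · exact absurd h.symm hz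
      · exact ⟨c, hc⟩
    obtain ⟨y, hy, he⟩ := CfsgLib.ThreeT.block_transitive hD r hr hinv hmod (x := c) (d := ⟨d, hd⟩)
      (fun h => hc ((h c c.2).mp (Commute.refl (c : G)))) hc (c := ⟨v, hv⟩) hsame
    exact ⟨_, CfsgLib.ThreeT.mul_mem_two_core hD c.2 y.2 hy, he.symm⟩
  · rintro ⟨g, hg, rfl⟩
    rw [hsets]
    refine ⟨CfsgLib.ThreeT.conj_mem hD hd g, ?_⟩
    have h1 := mul_mem ((inferInstance : (Cfsg.pCore 2 G).Normal).conj_mem g hg d⁻¹) (inv_mem hg)
    simpa [mul_assoc] using h1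

end Cfsg.Agent.S5349
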