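import Cfsg.Statements.S5356
import Cfsg.Agent.Spor3T.CoverSylow
import Cfsg.Agent.Spor3T.Primitive
import Cfsg.Agent.S5349

set_option autoImplicit false
open Cfsg

namespace Cfsg.Agent.S5356

/-- Let D be a conjugacy class of 3-transpositions generating the finite group G, with at least two members, and d a member of D such that every member of D commuting with d commutes with exactly the same members of D as d. Then there is a Sylow 3-subgroup P of G normalized by d such that G is generated by d, P and the largest normal 2-subgroup of G. -/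
theorem result {G : Type*} [Group G] [Finite G] {D : Set G} (hD : Cfsg.IsThreeTranspositionClass D) (hD2 : ∃ a ∈ D, ∃ b ∈ D, a ≠ b) {d : G} (hd : d ∈ D) (hV : {y : G | y ∈ D ∧ Commute d y} = {v : G | v ∈ D ∧ ∀ e ∈ D, Commute v e ↔ Commute d e}) : ∃ P : Sylow 3 G, d ∈ Subgroup.normalizer (P : Set G) ∧ Subgroup.zpowers d ⊔ (P : Subgroup G) ⊔ Cfsg.pCore 2 G = ⊤ := by
  
  haveI : Fact (Nat.Prime 2) := ⟨Nat.prime_two⟩
  haveI : Fact (Nat.Prime 3) := ⟨by norm_num⟩
  set O := Cfsg.pCore 2 G with hOdef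
  haveI : O.Normal := CfsgLib.Solvable.pCore_normal 2
  have hOp : IsPGroup 2 O := CfsgLib.Solvable.isPGroup_pCore 2
  obtain ⟨hV1, hV2⟩ := Cfsg.Agent.S5349.result hD hD2 hd
  -- members outside the core
  have hout : ∀ z ∈ D, z ∉ O := by
    intro z hz hzO
    obtain ⟨a, ha, b, hb, hab⟩ := hD2
    have hallO : ∀ e ∈ D, e ∈ O := fun e he => by
      obtain ⟨g, rfl⟩ := CfsgLib.ThreeT.exists_conj hD hz he
      exact (inferInstance : O.Normal).conj_mem z hzO g
    have hdc : d ∈ Subgroup.center G := by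
      refine Subgroup.mem_center_iff.mpr fun g => ?_
      have hle : Subgroup.closure D ≤ Subgroup.centralizer ({d} : Set G) := (Subgroup.closure_le _).mpr fun e he =>
        Subgroup.mem_centralizer_singleton_iff.mpr
          (CfsgLib.ThreeT.commute_of_two_group hD.1 he hd hOp (hallO e he) (hallO d hd)).eq
      exact Subgroup.mem_centralizer_singleton_iff.mp (hle (hD.2.2 ▸ Subgroup.mem_top g))
    have h : ∀ e ∈ D, e = d := fun e he => by
      obtain ⟨g, rfl⟩ := CfsgLib.ThreeT.exists_conj hD hd he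
      rw [Subgroup.mem_center_iff.mp hdc g, mul_inv_cancel_right]
    exact hab ((h a ha).trans (h b hb).symm)
  -- the image has no commuting pair
  obtain ⟨d₀, hd₀, hDd⟩ := hD.2.1
  have hclass : Cfsg.IsThreeTranspositionClass ((QuotientGroup.mk : G → G ⧸ O) '' D) := by
    refine ⟨⟨?_, ?_⟩, ⟨d₀, Set.mem_image_of_mem _ hd₀, Set.ext fun e => ⟨?_, ?_⟩⟩, ?_⟩
    · rintro _ ⟨z, hz, rfl⟩
      refine orderOf_eq_prime ?_ fun h => hout z hz ((QuotientGroup.eq_one_iff z).mp h)
      rw [← QuotientGroup.mk_pow, pow_two, CfsgLib.ThreeT.sq hD.1 hz, QuotientGroup.mk_one]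
    · rintro _ ⟨a, ha, rfl⟩ _ ⟨b, hb, rfl⟩
      refine (hD.1.2 a ha b hb).imp (fun h => ?_) fun h => ?_ <;>
        rw [← QuotientGroup.mk_mul, ← QuotientGroup.mk_pow, h, QuotientGroup.mk_one]
    · rintro ⟨z, hz, rfl⟩
      rw [hDd] at hz
      obtain ⟨g, rfl⟩ := isConj_iff.mp (show IsConj d₀ z from hz)
      exact isConj_iff.mpr ⟨(g : G ⧸ O), by simp⟩
    · intro he
      obtain ⟨c, rfl⟩ := isConj_iff.mp (show IsConj (d₀ : G ⧸ O) e from he)
      obtain ⟨g, rfl⟩ := QuotientGroup.mk_surjective c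
      exact ⟨g * d₀ * g⁻¹, CfsgLib.ThreeT.conj_mem hD hd₀ g, by simp⟩
    · rw [show ((QuotientGroup.mk : G → G ⧸ O) '' D) = QuotientGroup.mk' O '' D from rfl,
        ← MonoidHom.map_closure, hD.2.2, Subgroup.map_top_of_surjective _ (QuotientGroup.mk'_surjective _)]
  have hVmem : ∀ z ∈ D, Commute d z → d⁻¹ * z ∈ O := fun z hz hc => by
    have h1 : z ∈ {v : G | v ∈ D ∧ ∀ e ∈ D, Commute v e ↔ Commute d e} := hV.subset ⟨hz, hc⟩
    rw [hV1] at h1
    exact h1.2
  have hnc : ∀ a b : ((QuotientGroup.mk : G → G ⧸ O) '' D), a ≠ b → ¬ Commute (a : G ⧸ O) b := by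
    rintro ⟨_, a, ha, rfl⟩ ⟨_, b, hb, rfl⟩ hab hc
    refine hab (Subtype.ext ?_)
    show (a : G ⧸ O) = b
    rw [QuotientGroup.eq]
    by_cases hc' : Commute a b
    · obtain ⟨g, hg⟩ := CfsgLib.ThreeT.exists_conj hD ha hd
      have h1 := hVmem _ (CfsgLib.ThreeT.conj_mem hD hb g) (hg ▸ (CfsgLib.ThreeT.commute_conj_iff g a b).mpr hc')
      have h2 := (inferInstance : O.Normal).conj_mem _ h1 g⁻¹
      rw [← hg] at h2
      simpa [mul_assoc] using h2
    · rw [CfsgLib.ThreeT.inv hD.1 ha, ← QuotientGroup.eq_one_iff]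
      have e3 : ((a * b : G) : G ⧸ O) ^ 3 = 1 := by
        rw [← QuotientGroup.mk_pow, CfsgLib.ThreeT.cube_of_not_commute hD.1 ha hb hc', QuotientGroup.mk_one]
      have e2 : ((a * b : G) : G ⧸ O) ^ 2 = 1 := by
        rw [QuotientGroup.mk_mul, hc.mul_pow, ← QuotientGroup.mk_pow, ← QuotientGroup.mk_pow, pow_two, pow_two,
          CfsgLib.ThreeT.sq hD.1 ha, CfsgLib.ThreeT.sq hD.1 hb, QuotientGroup.mk_one, one_mul]
      rwa [pow_succ, e2, one_mul] at e3
  have hp3 := CfsgLib.ThreeT.isPGroup_of_no_commuting hclass hnc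
  set M := (commutator (G ⧸ O)).comap (QuotientGroup.mk' O) with hMdef
  haveI : M.Normal := inferInstance
  have hOM : O ≤ M := fun x hx => by
    show (x : G ⧸ O) ∈ commutator (G ⧸ O)
    rw [(QuotientGroup.eq_one_iff x).mpr hx]
    exact one_mem _
  have hdd : d * d = 1 := CfsgLib.ThreeT.sq hD.1 hd
  have hdinv : d⁻¹ = d := CfsgLib.ThreeT.inv hD.1 hd
  have hgen : ∀ g : G, g ∈ M ∨ g * d ∈ M := by
    intro g
    have hn : ∀ m ∈ M, d * m * d ∈ M := fun m hm => by
      have h := (inferInstance : M.Normal).conj_mem m hm d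
      rwa [hdinv] at h
    have hc : ∀ u : G, d * (d * u) = u := CfsgLib.ThreeT.invol_cancel (hD.1.1 d hd)
    induction (hD.2.2 ▸ Subgroup.mem_top g : g ∈ Subgroup.closure D) using Subgroup.closure_induction with
    | mem z hz =>
      exact Or.inr (by
        show ((z * d : G) : G ⧸ O) ∈ commutator (G ⧸ O)
        rw [QuotientGroup.mk_mul]
        exact CfsgLib.ThreeT.mul_mem_commutator hclass ⟨z, hz, rfl⟩ ⟨d, hd, rfl⟩)
    | one => exact Or.inl (one_mem _)
    | mul x y _ _ hx hy =>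
      rcases hx with hx | hx <;> rcases hy with hy | hy
      · exact Or.inl (mul_mem hx hy)
      · exact Or.inr (by rw [mul_assoc]; exact mul_mem hx hy)
      · refine Or.inr ?_
        have := mul_mem hx (hn y hy)
        simpa only [mul_assoc, hc] using this
      · refine Or.inl ?_
        have := mul_mem hx (hn _ hy)
        simpa only [mul_assoc, hc, hdd, mul_one] using this
    | inv x _ hx =>
      rcases hx with hx | hx
      · exact Or.inl (inv_mem hx)
      · refine Or.inr ?_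
        have := hn _ (inv_mem hx)
        simpa only [mul_inv_rev, hdinv, mul_assoc, hc] using this
  obtain ⟨P, hP, hPM, hPO, hPd⟩ := CfsgLib.ThreeT.Cover.exists_invariant_sylow _ G M O d rfl hdd hgen hOM hOp
    (fun m hm => by
      obtain ⟨k, hk⟩ := hp3 ⟨(m : G ⧸ O), hm⟩
      refine ⟨k, (QuotientGroup.eq_one_iff _).mp ?_⟩
      rw [QuotientGroup.mk_pow]
      exact congrArg Subtype.val hk)
    (fun m _ hm => by
      have h1 : m * d * m⁻¹ ∈ {v : G | v ∈ D ∧ ∀ e ∈ D, Commute v e ↔ Commute d e} := by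
        rw [hV1]
        exact ⟨CfsgLib.ThreeT.conj_mem hD hd m, by rw [hdinv]; simpa [mul_assoc] using hm⟩
      rw [hV2] at h1
      obtain ⟨g, hg, he⟩ := h1
      refine ⟨g⁻¹ * m, ?_, ?_⟩
      · calc g⁻¹ * m * d = g⁻¹ * (m * d * m⁻¹) * m := by group
          _ = d * (g⁻¹ * m) := by rw [he]; group
      · have := (inferInstance : O.Normal).conj_mem g hg m⁻¹
        simpa [mul_assoc] using this)
  obtain ⟨S, hS⟩ := hP.exists_le_sylow
  have hSP : (S : Subgroup G) = P := by
    refine le_antisymm (fun x hx => ?_) hS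
    obtain ⟨j, hj⟩ := S.2 ⟨x, hx⟩
    have hj' : x ^ 3 ^ j = 1 := congrArg Subtype.val hj
    have hxM : x ∈ M := by
      obtain ⟨k, hk⟩ := (Odd.pow (⟨1, rfl⟩ : Odd 3) (n := j))
      have hsq : x * x ∈ M := by
        rcases hgen x with h | h
        · exact mul_mem h h
        · have h' := (inferInstance : M.Normal).mem_comm h
          have h3 := mul_mem h h'
          rwa [show x * d * (d * x) = x * (d * d) * x by group, hdd, mul_one] at h3
      have h1 : (x * x) ^ (k + 1) = x := by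
        rw [← pow_two, ← pow_mul, show 2 * (k + 1) = 3 ^ j + 1 by omega, pow_succ, hj', one_mul]
      exact h1 ▸ pow_mem hsq _
    obtain ⟨a, ha, o, ho, rfl⟩ := Subgroup.mem_sup_of_normal_right.mp (hPO.symm ▸ hxM)
    have hoS : o ∈ (S : Subgroup G) := by
      have := mul_mem (inv_mem (hS ha)) hx
      rwa [inv_mul_cancel_left] at this
    have ho1 : o = 1 := by
      obtain ⟨i, hi⟩ := S.2 ⟨o, hoS⟩
      obtain ⟨k, hk⟩ := hOp ⟨o, ho⟩
      rw [← orderOf_eq_one_iff]
      exact Nat.eq_one_of_dvd_coprimes (Nat.Coprime.pow i k (by norm_num : Nat.Coprime 3 2))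
        (orderOf_dvd_of_pow_eq_one (congrArg Subtype.val hi : o ^ 3 ^ i = 1))
        (orderOf_dvd_of_pow_eq_one (congrArg Subtype.val hk : o ^ 2 ^ k = 1))
    rw [ho1, mul_one]; exact ha
  refine ⟨S, ?_, ?_⟩
  · show d ∈ Subgroup.normalizer ((S : Subgroup G) : Set G)
    rw [hSP]
    refine Subgroup.mem_normalizer_iff.mpr fun x => ⟨fun hx => ?_, fun hx => ?_⟩
    · rw [hdinv]; exact hPd x hx
    · have := hPd _ hx
      rw [hdinv] at this
      simpa only [mul_assoc, hdd, CfsgLib.ThreeT.invol_cancel (hD.1.1 d hd), mul_one] using this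
  · rw [hSP, eq_top_iff, sup_assoc, hPO]
    intro g _
    rcases hgen g with h | h
    · exact Subgroup.mem_sup_right h
    · have h1 := mul_mem (Subgroup.mem_sup_right (S := Subgroup.zpowers d) h)
        (Subgroup.mem_sup_left (T := M) (Subgroup.mem_zpowers d))
      rwa [mul_assoc, hdd, mul_one] at h1

end Cfsg.Agent.S5356
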