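import Cfsg.Statements.S0440
import Cfsg.Agent.Classical.SymplecticBasic
import Mathlib.LinearAlgebra.Matrix.Rank

set_option autoImplicit false
open Cfsg
open scoped Matrix

namespace Cfsg.Agent.S0440

/-- In the symplectic group in dimension 2n ≥ 2 over the field with two elements, the elements g for which g - 1 has rank one (the symplectic transvections) form a conjugacy class of 3-transpositions generating the group. -/
theorem result (n : ℕ) (hn : 1 ≤ n) : Cfsg.IsThreeTranspositionClass {g : Matrix.symplecticGroup (Fin n) (ZMod 2) | ((g : Matrix (Fin n ⊕ Fin n) (Fin n ⊕ Fin n) (ZMod 2)) - 1).rank = 1} := by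
  
  classical
  have h01 : ∀ c : ZMod 2, c = 0 ∨ c = 1 := by decide
  have hne : ∀ v : Fin n ⊕ Fin n → ZMod 2, v ≠ 0 → CfsgLib.Symp.tv v (1 : ZMod 2) ≠ 1 := by
    intro v hv e
    obtain ⟨w, hw⟩ := CfsgLib.Symp.exists_form_eq_one hv
    have h := congrArg (fun g : Matrix.symplecticGroup (Fin n) (ZMod 2) => g • w) e
    simp only [CfsgLib.Symp.tv_smul, one_smul, one_mul, add_eq_left] at h
    rw [CfsgLib.Symp.form_swap, hw] at h
    exact hv (by simpa using h)
  have hD : ∀ g : Matrix.symplecticGroup (Fin n) (ZMod 2),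
      ((g : Matrix (Fin n ⊕ Fin n) (Fin n ⊕ Fin n) (ZMod 2)) - 1).rank = 1 ↔
        ∃ v, v ≠ 0 ∧ g = CfsgLib.Symp.tv v 1 := by
    intro g
    set A : Matrix (Fin n ⊕ Fin n) (Fin n ⊕ Fin n) (ZMod 2) := (g : Matrix (Fin n ⊕ Fin n) (Fin n ⊕ Fin n) (ZMod 2)) - 1 with hA
    constructor
    · intro h
      obtain ⟨⟨a, ha⟩, ha0, hspan⟩ := (finrank_eq_one_iff' (K := ZMod 2) (V := LinearMap.range A.mulVecLin)).mp h
      have hk : ∀ x, ∃ k : ZMod 2, g • x = x + k • a := by
        intro x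
        obtain ⟨k, hk⟩ := hspan ⟨A.mulVecLin x, LinearMap.mem_range_self _ _⟩
        refine ⟨k, ?_⟩
        have h1 : k • a = A.mulVec x := congrArg Subtype.val hk
        rw [h1, hA, Matrix.sub_mulVec, Matrix.one_mulVec, add_sub_cancel]
        rfl
      choose k hk using hk
      have ha' : a ≠ 0 := fun e => ha0 (Subtype.ext e)
      have hrel : ∀ x y, k y * CfsgLib.Symp.form x a = k x * CfsgLib.Symp.form y a := by
        intro x y
        have h1 := CfsgLib.Symp.form_smul_smul g x y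
        rw [hk, hk, CfsgLib.Symp.form_add_left, CfsgLib.Symp.form_add_right, CfsgLib.Symp.form_add_right,
          CfsgLib.Symp.form_smul_left, CfsgLib.Symp.form_smul_left, CfsgLib.Symp.form_smul_right,
          CfsgLib.Symp.form_smul_right, CfsgLib.Symp.form_self, CfsgLib.Symp.form_swap a y] at h1
        linear_combination h1
      obtain ⟨y0, hy0⟩ : ∃ y, k y ≠ 0 := by
        by_contra hall
        push Not at hall
        obtain ⟨z, hz⟩ := ha
        refine ha' ?_
        have h1 := hk z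
        rw [hall, zero_smul, add_zero] at h1
        rw [← hz, Matrix.mulVecLin_apply, hA, Matrix.sub_mulVec, Matrix.one_mulVec]
        exact sub_eq_zero.mpr h1
      have hy1 : k y0 = 1 := (h01 _).resolve_left hy0
      refine ⟨a, ha', CfsgLib.Symp.symp_ext fun x => ?_⟩
      rw [hk, CfsgLib.Symp.tv_smul, one_mul]
      have hc : CfsgLib.Symp.form y0 a = 1 := by
        refine (h01 _).resolve_left fun e => ha' (CfsgLib.Symp.eq_zero_of_form_eq_zero fun u => ?_)
        have := hrel u y0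
        rwa [hy1, one_mul, e, mul_zero] at this
      have := hrel x y0
      rw [hy1, one_mul, hc, mul_one] at this
      rw [this]
    · rintro ⟨v, hv, rfl⟩
      have hAv : A = Matrix.vecMulVec v (Matrix.J (Fin n) (ZMod 2) *ᵥ v) := by
        rw [hA]
        show CfsgLib.Symp.tvMat v 1 - 1 = _
        rw [CfsgLib.Symp.tvMat, one_smul, add_sub_cancel_left]
      refine le_antisymm (hAv ▸ Matrix.rank_vecMulVec_le _ _) (Nat.one_le_iff_ne_zero.mpr fun h0 => ?_)
      have hA0 : A = 0 := by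
        have h1 := Submodule.finrank_eq_zero.mp h0
        exact Matrix.ext_of_mulVec_single fun i => by
          rw [Matrix.zero_mulVec]
          exact (Submodule.eq_bot_iff _).mp h1 _ (LinearMap.mem_range_self A.mulVecLin _)
      exact hne v hv (Subtype.ext (sub_eq_zero.mp hA0))
  have hsq : ∀ v : Fin n ⊕ Fin n → ZMod 2, CfsgLib.Symp.tv v (1 : ZMod 2) * CfsgLib.Symp.tv v 1 = 1 := fun v => by
    rw [CfsgLib.Symp.tv_add, show (1 : ZMod 2) + 1 = 0 from rfl, CfsgLib.Symp.tv_zero]
  have hconj : ∀ v w : Fin n ⊕ Fin n → ZMod 2, CfsgLib.Symp.tv v (1 : ZMod 2) * CfsgLib.Symp.tv w 1 * CfsgLib.Symp.tv v 1 =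
      CfsgLib.Symp.tv (w + CfsgLib.Symp.form w v • v) 1 := fun v w => by
    have h := CfsgLib.Symp.tv_conj (CfsgLib.Symp.tv v (1 : ZMod 2)) w 1
    rwa [inv_eq_of_mul_eq_one_right (hsq v), CfsgLib.Symp.tv_smul, one_mul] at h
  refine ⟨⟨fun d hd => ?_, fun d hd e he => ?_⟩, ?_, ?_⟩
  · obtain ⟨v, hv, rfl⟩ := (hD d).mp hd
    exact orderOf_eq_prime (by rw [pow_two, hsq]) (hne v hv)
  · obtain ⟨v, -, rfl⟩ := (hD d).mp hd
    obtain ⟨w, -, rfl⟩ := (hD e).mp he
    have e1 := hconj v w
    rcases h01 (CfsgLib.Symp.form w v) with h | h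
    · left
      rw [h, zero_smul, add_zero] at e1
      rw [pow_two, ← mul_assoc, e1, hsq]
    · right
      have e2 := hconj w v
      rw [CfsgLib.Symp.form_swap v w, h, show (-1 : ZMod 2) = 1 from rfl, one_smul, add_comm] at e2
      rw [h, one_smul] at e1
      set s := CfsgLib.Symp.tv v (1 : ZMod 2)
      set r := CfsgLib.Symp.tv w (1 : ZMod 2)
      calc (s * r) ^ 3 = s * r * s * (r * s * r) := by simp only [pow_three, mul_assoc]
        _ = s * r * s * (s * r * s) := by rw [e2, ← e1]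
        _ = 1 := by
          simp only [mul_assoc]
          rw [← mul_assoc s s, hsq, one_mul, ← mul_assoc r r, hsq, one_mul, hsq]
  · let i0 : Fin n := ⟨0, hn⟩
    set v0 : Fin n ⊕ Fin n → ZMod 2 := Pi.single (Sum.inl i0) 1
    have hv0 : v0 ≠ 0 := fun e => one_ne_zero (α := ZMod 2)
      (by simpa [v0] using congrFun e (Sum.inl i0))
    refine ⟨CfsgLib.Symp.tv v0 1, (hD _).mpr ⟨v0, hv0, rfl⟩, Set.ext fun g => ⟨fun hg => ?_, fun hg => ?_⟩⟩
    · obtain ⟨v, hv, rfl⟩ := (hD g).mp hg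
      obtain ⟨k, hk⟩ := CfsgLib.Symp.exists_smul_eq_of_ne_zero hv0 hv
      exact isConj_iff.mpr ⟨k, by rw [CfsgLib.Symp.tv_conj, hk]⟩
    · obtain ⟨k, rfl⟩ := isConj_iff.mp hg
      rw [CfsgLib.Symp.tv_conj]
      exact (hD _).mpr ⟨_, fun e => hv0 (by simpa using congrArg (fun z => k⁻¹ • z) e), rfl⟩
  · refine eq_top_iff.mpr ?_
    rw [← CfsgLib.Symp.tvGroup_eq_top (l := Fin n) (F := ZMod 2), CfsgLib.Symp.tvGroup, Subgroup.closure_le]
    rintro _ ⟨w, -, c, rfl⟩
    rcases h01 c with rfl | rfl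
    · rw [CfsgLib.Symp.tv_zero]; exact one_mem _
    · by_cases hw : w = 0
      · have : CfsgLib.Symp.tv w (1 : ZMod 2) = 1 := CfsgLib.Symp.symp_ext fun x => by
          rw [CfsgLib.Symp.tv_smul, hw, smul_zero, add_zero, one_smul]
        rw [this]; exact one_mem _
      · exact Subgroup.subset_closure ((hD _).mpr ⟨w, hw, rfl⟩)

end Cfsg.Agent.S0440
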