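import Cfsg.Statements.S1631
import Cfsg.Agent.Geo.ThreeTrans
import Cfsg.Agent.Unitary.TransvectionClass
import Cfsg.Agent.Unitary.Generated

set_option autoImplicit false
open scoped MatrixGroups
open Cfsg

namespace Cfsg.Agent.S1631

open Matrix

/-- The unitary transvections of SU(n, 2), n ≥ 4, form a generating conjugacy class of 3-transpositions. -/
theorem result (F : Type) [Field F] [Fintype F] [DecidableEq F] (hF : Fintype.card F = 4) (n : ℕ) (hn : 4 ≤ n) : Cfsg.IsThreeTranspositionClass {g : ↥(Cfsg.SU n F 2) | (((g : Matrix.SpecialLinearGroup (Fin n) F) : Matrix (Fin n) (Fin n) F) - 1).rank = 1} := by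
  classical
  have hF' : Nat.card F = 2 ^ 2 := by rw [Nat.card_eq_fintype_card, hF]; rfl
  haveI hchar : CharP F 2 := by
    obtain ⟨p, k, hp, hpp, hk⟩ := CfsgLib.Forms.exists_charP_pow hF'
    have : p ∣ 2 := by rw [hk]; exact dvd_pow_self p (by rintro rfl; simp at hk)
    rwa [← (Nat.prime_dvd_prime_iff_eq hpp Nat.prime_two).mp this]
  set D := {g : ↥(Cfsg.SU n F 2) | (((g : Matrix.SpecialLinearGroup (Fin n) F) : Matrix (Fin n) (Fin n) F) - 1).rank = 1} with hDdef
  have hD : ∀ g ∈ D, Cfsg.IsTransvection (CfsgLib.Unitary.suMat g) := by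
    intro g hg
    refine ⟨hg, ?_⟩
    obtain ⟨v, lam, hv, -, hlam⟩ := CfsgLib.Linear.RankOne.exists_vec hg
    have hlv : lam v = 0 := by
      have hdet : Matrix.det ((g : Matrix.SpecialLinearGroup (Fin n) F) : Matrix (Fin n) (Fin n) F) = 1 :=
        (g : Matrix.SpecialLinearGroup (Fin n) F).2
      have hM : ((g : Matrix.SpecialLinearGroup (Fin n) F) : Matrix (Fin n) (Fin n) F) =
          1 + Matrix.replicateCol Unit v * Matrix.replicateRow Unit (fun i => lam (Pi.single i 1)) := by
        refine Matrix.ext_of_mulVec_single fun j => ?_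
        rw [hlam]
        ext i
        simp [Matrix.mulVec_single_one, Matrix.mul_apply, Matrix.one_apply, Pi.single_apply, mul_comm]
      rw [hM, Matrix.det_one_add_replicateCol_mul_replicateRow, add_eq_left, dotProduct] at hdet
      calc lam v = lam (∑ i, v i • Pi.single i (1 : F)) := by
            congr 1; ext j; simp [Pi.single_apply]
        _ = ∑ i, v i * lam (Pi.single i 1) := by simp only [map_sum, map_smul, smul_eq_mul]
        _ = 0 := by rw [← hdet]; exact Finset.sum_congr rfl fun i _ => mul_comm _ _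
    refine Matrix.toLin'.injective (LinearMap.ext fun x => ?_)
    simp only [Matrix.toLin'_apply, ← Matrix.mulVec_mulVec, Matrix.sub_mulVec, Matrix.one_mulVec,
      Matrix.zero_mulVec, CfsgLib.Unitary.suMat, hlam, add_sub_cancel_left, map_smul, hlv, smul_zero,
      map_zero, LinearMap.zero_apply, zero_smul]
  have hc1 : ∀ c : F, c ≠ 0 → c + c ^ 2 = 0 → c = 1 := by
    intro c hc h
    have h' : c * (1 + c) = 0 := by linear_combination h
    exact (CharTwo.add_eq_zero.mp ((mul_eq_zero.mp h').resolve_left hc)).symm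
  obtain ⟨d₀, hd₀⟩ : ∃ d, d ∈ D := by
    obtain ⟨v, w, hv, hvv⟩ : ∃ (v : Fin n → F) (w : F), v ≠ 0 ∧ Cfsg.hermForm n F 2 v v = 0 := by
      refine ⟨Pi.single ⟨0, by omega⟩ 1 + Pi.single ⟨1, by omega⟩ 1, 0, fun e => ?_, ?_⟩
      · have := congrFun e ⟨0, by omega⟩
        simp [Pi.single_apply, Fin.ext_iff] at this
      · simp [CfsgLib.Unitary.herm_add_left, CfsgLib.Unitary.herm_single_left, Pi.single_apply,
          Fin.ext_iff, CharTwo.add_self_eq_zero]
    have hc2 : (1 : F) + 1 ^ 2 = 0 := by simp [CharTwo.add_self_eq_zero]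
    set g := CfsgLib.Unitary.suTv n v 1 hvv hc2 hF' with hgdef
    have hg : CfsgLib.Unitary.suMat g = Cfsg.unitaryTransvection n 2 v 1 := rfl
    refine ⟨g, ?_⟩
    show Module.finrank F (LinearMap.range (Matrix.mulVecLin (CfsgLib.Unitary.suMat g - 1))) = 1
    obtain ⟨y, -, hy, -, -⟩ := CfsgLib.Unitary.exists_partner hF' (H := ⊥) (x := v) (by simpa using hv)
      hvv (fun z hz => by rw [(Submodule.mem_bot F).mp hz]; simp [Cfsg.hermForm])
    have happ : ∀ x, (CfsgLib.Unitary.suMat g - 1) *ᵥ x = Cfsg.hermForm n F 2 x v • v := fun x => by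
      rw [Matrix.sub_mulVec, Matrix.one_mulVec, hg, CfsgLib.Unitary.utv_mulVec, one_mul, add_sub_cancel_left]
    rw [show LinearMap.range (Matrix.mulVecLin (CfsgLib.Unitary.suMat g - 1)) = Submodule.span F {v} from
      le_antisymm (by rintro _ ⟨x, rfl⟩; rw [Matrix.mulVecLin_apply, happ]; exact Submodule.smul_mem _ _ (Submodule.mem_span_singleton_self v))
        ((Submodule.span_singleton_le_iff_mem _ _).2 ⟨y, by
          rw [Matrix.mulVecLin_apply, happ, CfsgLib.Unitary.herm_swap hF' v y, hy]; simp⟩),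
      finrank_span_singleton hv]
  have hutv : ∀ g ∈ D, ∃ u, u ≠ 0 ∧ Cfsg.hermForm n F 2 u u = 0 ∧
      ∀ x, CfsgLib.Unitary.suMat g *ᵥ x = x + Cfsg.hermForm n F 2 x u • u := by
    intro g hg
    obtain ⟨u, c, hu, hc, huu, hc0, hM⟩ := CfsgLib.Unitary.exists_utv_of_isTransvection hF' (hD g hg)
    obtain rfl := hc1 c hc hc0
    exact ⟨u, hu, huu, fun x => by rw [hM, CfsgLib.Unitary.utv_mulVec, one_mul]⟩
  refine ⟨⟨fun g hg => ?_, fun g hg g' hg' => ?_⟩, ⟨d₀, hd₀, ?_⟩, ?_⟩
  · obtain ⟨u, hu, huu, happ⟩ := hutv g hg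
    refine orderOf_eq_prime ?_ fun h1 => ?_
    · refine Subtype.ext (Subtype.ext ?_)
      show CfsgLib.Unitary.suMat (g ^ 2) = 1
      rw [pow_two, CfsgLib.Unitary.suMat_mul]
      refine Matrix.toLin'.injective (LinearMap.ext fun x => ?_)
      rw [Matrix.toLin'_apply, Matrix.toLin'_apply, Matrix.one_mulVec, ← Matrix.mulVec_mulVec, happ, happ,
        CfsgLib.Unitary.herm_add_left, CfsgLib.Unitary.herm_smul_left, huu, mul_zero, add_zero, add_assoc,
        ← add_smul, CharTwo.add_self_eq_zero, zero_smul, add_zero]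
    · rw [hDdef, h1] at hg
      simp at hg
  · obtain ⟨u, hu, huu, happ⟩ := hutv g hg
    obtain ⟨v, hv, hvv, happ'⟩ := hutv g' hg'
    let f : (Fin n → F) → ((Fin n → F) →ₗ[F] F) := fun w =>
      { toFun := fun x => Cfsg.hermForm n F 2 x w
        map_add' := fun a b => CfsgLib.Unitary.herm_add_left n a b w
        map_smul' := fun c a => CfsgLib.Unitary.herm_smul_left n c a w }
    have hswap : Cfsg.hermForm n F 2 u v = Cfsg.hermForm n F 2 v u ^ 2 := CfsgLib.Unitary.herm_swap hF' v u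
    have key := CfsgLib.Geo.ThreeTrans.sq_or_cube (f := f u) (g := f v)
      (s := CfsgLib.Unitary.suMat g) (t := CfsgLib.Unitary.suMat g') happ happ' huu hvv (by
        show (Cfsg.hermForm n F 2 v u = 0 ∧ _) ∨ Cfsg.hermForm n F 2 v u * Cfsg.hermForm n F 2 u v = 1
        by_cases h : Cfsg.hermForm n F 2 v u = 0
        · exact Or.inl ⟨h, show Cfsg.hermForm n F 2 u v = 0 by rw [hswap, h]; simp⟩
        · refine Or.inr ?_
          rw [hswap, ← pow_succ']
          have := FiniteField.pow_card_sub_one_eq_one _ h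
          rwa [hF] at this)
    refine key.imp (fun k => ?_) (fun k => ?_) <;>
      (refine Subtype.ext (Subtype.ext ?_); simpa [CfsgLib.Unitary.suMat] using k)
  · ext g
    show g ∈ D ↔ IsConj d₀ g
    refine ⟨fun hg => CfsgLib.Unitary.isConj_transvection hF' (by omega) (hD _ hd₀) (hD _ hg), fun hg => ?_⟩
    obtain ⟨c, rfl⟩ := isConj_iff.1 hg
    show Matrix.rank _ = 1
    have e : ((c * d₀ * c⁻¹ : ↥(Cfsg.SU n F 2)) : Matrix.SpecialLinearGroup (Fin n) F).1 - 1 =
        CfsgLib.Unitary.suMat c * (CfsgLib.Unitary.suMat d₀ - 1) * CfsgLib.Unitary.suMat c⁻¹ := by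
      rw [mul_sub, sub_mul, mul_one, ← CfsgLib.Unitary.suMat_mul, ← CfsgLib.Unitary.suMat_mul,
        ← CfsgLib.Unitary.suMat_mul, mul_inv_cancel]
      rfl
    rw [e, Matrix.rank_mul_eq_left_of_isUnit_det _ _ (by
        rw [show Matrix.det (CfsgLib.Unitary.suMat c⁻¹) = 1 from (c⁻¹).1.2]; exact isUnit_one),
      Matrix.rank_mul_eq_right_of_isUnit_det _ _ (by
        rw [show Matrix.det (CfsgLib.Unitary.suMat c) = 1 from c.1.2]; exact isUnit_one)]
    exact hd₀
  · rw [eq_top_iff, ← CfsgLib.Unitary.tvGroup_eq_top hF' (n := n) (by omega) (by omega),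
      CfsgLib.Unitary.tvGroup, Subgroup.closure_le]
    rintro g ⟨v, c, hvv, hg⟩
    by_cases h1 : g = 1
    · rw [h1]; exact one_mem _
    refine Subgroup.subset_closure ?_
    show Module.finrank F (LinearMap.range (Matrix.mulVecLin (CfsgLib.Unitary.suMat g - 1))) = 1
    have happ : ∀ x, (CfsgLib.Unitary.suMat g - 1) *ᵥ x = (c * Cfsg.hermForm n F 2 x v) • v := fun x => by
      rw [Matrix.sub_mulVec, Matrix.one_mulVec, hg, CfsgLib.Unitary.utv_mulVec, add_sub_cancel_left]
    have hle : LinearMap.range (Matrix.mulVecLin (CfsgLib.Unitary.suMat g - 1)) ≤ Submodule.span F {v} := by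
      rintro _ ⟨x, rfl⟩
      rw [Matrix.mulVecLin_apply, happ]
      exact Submodule.smul_mem _ _ (Submodule.mem_span_singleton_self v)
    have h0 : LinearMap.range (Matrix.mulVecLin (CfsgLib.Unitary.suMat g - 1)) ≠ ⊥ := fun e => h1 (by
      refine Subtype.ext (Subtype.ext ?_)
      refine sub_eq_zero.mp (Matrix.toLin'.injective ?_)
      rw [map_zero]; exact LinearMap.range_eq_bot.mp e)
    refine le_antisymm ((Submodule.finrank_mono hle).trans (finrank_span_le_card _) |>.trans (by simp)) ?_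
    exact Nat.one_le_iff_ne_zero.2 fun e => h0 (Submodule.finrank_eq_zero.mp e)

end Cfsg.Agent.S1631
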