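import Cfsg.Statements.S1160
import Cfsg.Agent.Solvable.PGroupRank
-- import your own Cfsg.Agent.* helpers here

set_option autoImplicit false
open Cfsg

namespace Cfsg.Agent.S1160

section Aux

variable {P E : Type*} [Group P] [Finite P] [AddCommGroup E] [DistribMulAction P E]

/-- The sum of an orbit with multiplicities. -/
noncomputable def avg (L : Subgroup P) (e : E) : E :=
  ∑ l ∈ (Set.toFinite (L : Set P)).toFinset, l • e

theorem avg_fixed (L : Subgroup P) (e : E) {l : P} (hl : l ∈ L) : l • avg L e = avg L e := by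
  unfold avg
  rw [Finset.smul_sum]
  exact Finset.sum_equiv (Equiv.mulLeft l)
    (fun x => by simp [L.mul_mem_cancel_left hl]) fun x _ => (mul_smul l x e).symm

theorem avg_of_fixed {L : Subgroup P} {e : E} (h : ∀ l ∈ L, l • e = e) :
    avg L e = Nat.card L • e := by
  unfold avg
  rw [Finset.sum_congr rfl fun l hl => h l (by simpa using hl), Finset.sum_const]
  congr 1
  exact (Nat.card_eq_card_finite_toFinset (s := (L : Set P)) _).symm

theorem avg_add (L : Subgroup P) (x y : E) : avg L (x + y) = avg L x + avg L y := by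
  unfold avg
  simp [smul_add, Finset.sum_add_distrib]

theorem avg_sub (L : Subgroup P) (x y : E) : avg L (x - y) = avg L x - avg L y := by
  unfold avg
  simp [smul_sub, Finset.sum_sub_distrib]

omit [Finite P] in
theorem smul_nsmul' (g : P) (n : ℕ) (x : E) : g • (n • x) = n • (g • x) :=
  map_nsmul (DistribSMul.toAddMonoidHom E g) n x

theorem avg_nsmul (L : Subgroup P) (n : ℕ) (x : E) : avg L (n • x) = n • avg L x := by
  unfold avg
  rw [Finset.smul_sum]
  exact Finset.sum_congr rfl fun l _ => smul_nsmul' l n x

end Aux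

/-- Let `p ≠ 2` be prime and `P` a finite `p`-group acting faithfully by additive automorphisms on a finite elementary abelian `q`-group `E` (`q` prime), such that `|P_a|` is the same for all `a ≠ 0`. Then `P` is cyclic and every non-identity element of `P` fixes only `0`. -/
theorem result {P E : Type*} [Group P] [Finite P]
    [AddCommGroup E] [Finite E] [DistribMulAction P E] [FaithfulSMul P E]
    {p q : ℕ} [Fact p.Prime] (hp2 : p ≠ 2) (hP : IsPGroup p P) (hq : q.Prime) (hE : ∀ e : E, q • e = 0)
    (hconst : ∀ a b : E, a ≠ 0 → b ≠ 0 →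
      Nat.card (MulAction.stabilizer P a) = Nat.card (MulAction.stabilizer P b)) :
    IsCyclic P ∧ ∀ g : P, g ≠ 1 → ∀ a : E, g • a = a → a = 0 := by
  classical
  have hp : p.Prime := Fact.out
  have hfaith : ∀ g : P, (∀ x : E, g • x = x) → g = 1 := fun g h =>
    FaithfulSMul.eq_of_smul_eq_smul (α := E) fun x => by rw [h x, one_smul]
  -- the trivial case
  by_cases hsub : ∀ e : E, e = 0
  · have h1 : ∀ g : P, g = 1 := fun g => hfaith g fun x => by rw [hsub x, hsub (g • 0)]
    haveI : Subsingleton P := ⟨fun x y => by rw [h1 x, h1 y]⟩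
    exact ⟨inferInstance, fun g hg => absurd (h1 g) hg⟩
  push Not at hsub
  obtain ⟨e₀, he₀⟩ := hsub
  by_cases hqp : q = p
  · -- a p-group fixes a non-zero vector
    subst hqp
    have hdvd : q ∣ Nat.card E := by
      have : addOrderOf e₀ = q := addOrderOf_eq_prime (hE e₀) he₀
      exact this ▸ addOrderOf_dvd_natCard e₀
    obtain ⟨a, ha, hane⟩ := hP.exists_fixed_point_of_prime_dvd_card_of_fixed_point (α := E) hdvd
      (a := 0) (fun g => smul_zero g)
    have hall : ∀ b : E, b ≠ 0 → MulAction.stabilizer P b = ⊤ := fun b hb => by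
      apply Subgroup.eq_top_of_card_eq
      rw [← hconst a b (Ne.symm hane) hb]
      rw [show MulAction.stabilizer P a = ⊤ from eq_top_iff.2 fun g _ => ha g]
      simp
    have h1 : ∀ g : P, g = 1 := fun g => hfaith g fun x => by
      by_cases hx : x = 0
      · rw [hx, smul_zero]
      · exact MulAction.mem_stabilizer_iff.1 (hall x hx ▸ Subgroup.mem_top g)
    haveI : Subsingleton P := ⟨fun x y => by rw [h1 x, h1 y]⟩
    exact ⟨inferInstance, fun g hg => absurd (h1 g) hg⟩
  obtain ⟨N, hN⟩ := IsPGroup.iff_card.1 hP
  have hcop : ∀ L : Subgroup P, ∀ x : E, Nat.card L • x = 0 → x = 0 := by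
    intro L x hx
    obtain ⟨k, hk⟩ := IsPGroup.iff_card.1 (hP.to_subgroup L)
    have h1 : addOrderOf x ∣ Nat.card L := addOrderOf_dvd_of_nsmul_eq_zero hx
    have h2 : addOrderOf x ∣ q := addOrderOf_dvd_of_nsmul_eq_zero (hE x)
    have hc : (Nat.card L).Coprime q := by
      rw [hk]; exact ((Nat.coprime_primes hp hq).2 (Ne.symm hqp)).pow_left k
    exact AddMonoid.addOrderOf_eq_one_iff.1
      (Nat.eq_one_of_dvd_coprimes hc h1 h2)
  have hodd : ∀ g : P, Odd (orderOf g) := fun g =>
    ((hp.odd_of_ne_two hp2).pow (n := N)).of_dvd_nat (hN ▸ orderOf_dvd_natCard g)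
  -- a sum of vectors fixed by the same elements
  have hsplit : ∀ u v : E, u ≠ 0 → v ≠ 0 → u + v ≠ 0 →
      (∀ h : P, h • (u + v) = u + v → h • u = u) →
      MulAction.stabilizer P u = MulAction.stabilizer P v := by
    intro u v hu hv huv h
    have h1 : MulAction.stabilizer P (u + v) ≤ MulAction.stabilizer P u := fun g hg => h g hg
    have h2 : MulAction.stabilizer P (u + v) ≤ MulAction.stabilizer P v := fun g hg => by
      have := MulAction.mem_stabilizer_iff.1 hg
      have hu' := h g this
      rw [smul_add, hu'] at this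
      exact add_left_cancel this
    rw [← Subgroup.eq_of_le_of_card_ge h1 (hconst u _ hu huv).le,
      ← Subgroup.eq_of_le_of_card_ge h2 (hconst v _ hv huv).le]
  -- a non-trivial normal subgroup fixes no non-zero vector
  have hnormal : ∀ L : Subgroup P, L.Normal → ∀ e : E, e ≠ 0 → (∀ l ∈ L, l • e = e) → L = ⊥ := by
    intro L hL e he hfix
    have hker : ∀ u : E, avg L u = 0 → u = 0 := by
      intro u hu
      by_contra hu0
      have huv : e + u ≠ 0 := fun h => he (hcop L e (by
        have := congrArg (avg L) h
        rw [avg_add, hu, add_zero, avg_of_fixed hfix, avg_of_fixed (L := L) (e := 0)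
          (fun l _ => smul_zero l), nsmul_zero] at this
        exact this))
      have hst := hsplit e u he hu0 huv fun g hg => by
        have hcomm : ∀ x : E, avg L (g • x) = g • avg L x := by
          intro x
          unfold avg
          rw [Finset.smul_sum]
          refine Finset.sum_equiv (MulAut.conj g⁻¹).toEquiv (fun l => ?_) fun l _ => ?_
          · simp only [Set.Finite.mem_toFinset, SetLike.mem_coe, MulEquiv.toEquiv_eq_coe,
              EquivLike.coe_coe, MulAut.conj_apply, inv_inv]
            exact ⟨fun hl => by simpa using hL.conj_mem l hl g⁻¹,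
              fun hl => by simpa [mul_assoc] using hL.conj_mem _ hl g⟩
          · rw [← mul_smul, ← mul_smul]
            congr 1
            simp [mul_assoc]
        have := congrArg (avg L) hg
        rw [hcomm, avg_add, hu, add_zero, avg_of_fixed hfix] at this
        have h2 : Nat.card L • (g • e - e) = 0 := by
          rw [nsmul_sub, ← smul_nsmul']
          exact sub_eq_zero.2 this
        exact sub_eq_zero.1 (hcop L _ h2)
      have hfu : ∀ l ∈ L, l • u = u := fun l hl =>
        MulAction.mem_stabilizer_iff.1 (hst ▸ MulAction.mem_stabilizer_iff.2 (hfix l hl))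
      exact hu0 (hcop L u (avg_of_fixed hfu ▸ hu))
    rw [eq_bot_iff]
    intro l hl
    rw [Subgroup.mem_bot]
    refine hfaith l fun x => ?_
    have h0 : Nat.card L • x - avg L x = 0 := hker _ (by
      rw [avg_sub, avg_nsmul, avg_of_fixed (e := avg L x) (fun m hm => avg_fixed L x hm), sub_self])
    have h1 : Nat.card L • (l • x - x) = 0 := by
      rw [nsmul_sub, ← smul_nsmul']
      rw [sub_eq_zero.1 h0, avg_fixed L x hl, sub_self]
    exact sub_eq_zero.1 (hcop L _ h1)
  have hcyc : IsCyclic P := by
    by_contra hnc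
    obtain ⟨W, hWn, ⟨hWc, hWp⟩, hWcard⟩ := CfsgLib.PGroupRank.exists_normal_sq hp2 hP hnc
    have hWne : W ≠ ⊥ := fun h => by
      rw [h, Subgroup.card_bot] at hWcard
      exact (Nat.one_lt_pow (by norm_num : 2 ≠ 0) hp.one_lt).ne hWcard
    have hzc : ∀ z : P, ∀ i : ℕ, z ∈ W → z ^ i ∈ W := fun z i hz => W.pow_mem hz i
    -- some non-identity element of `W` fixes a non-zero vector
    obtain ⟨x, hx, hx1, e1, he1, hxe⟩ : ∃ x ∈ W, x ≠ 1 ∧ ∃ e : E, e ≠ 0 ∧ x • e = e := by
      by_contra hfree
      push Not at hfree
      obtain ⟨b, hb, hb1⟩ : ∃ b ∈ W, b ≠ 1 := W.bot_or_exists_ne_one.resolve_left hWne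
      have hob : orderOf b = p := orderOf_eq_prime (hWp b hb) hb1
      obtain ⟨c, hc, hcb⟩ : ∃ c ∈ W, c ∉ Subgroup.zpowers b := by
        by_contra hh
        push Not at hh
        have := Subgroup.card_le_of_le (fun y hy => hh y hy : W ≤ Subgroup.zpowers b)
        rw [hWcard, Nat.card_zpowers, hob] at this
        nlinarith [hp.one_lt]
      -- orbit sums of non-identity elements vanish
      have hsum : ∀ w ∈ W, w ≠ 1 → ∀ e : E, ∑ i ∈ Finset.range p, w ^ i • e = 0 := by
        intro w hw hw1 e
        by_contra hne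
        refine hfree w hw hw1 _ hne ?_
        rw [Finset.smul_sum]
        have hwp := hWp w hw
        have h1 : ∀ i, w • w ^ i • e = w ^ (i + 1) • e := fun i => by rw [← mul_smul, ← pow_succ']
        simp only [h1]
        have h2 := Finset.sum_range_succ' (fun i => w ^ i • e) p
        rw [Finset.sum_range_succ, hwp, pow_zero] at h2
        exact (add_right_cancel h2).symm
      refine he₀ (hcop (Subgroup.zpowers b) e₀ ?_)
      rw [Nat.card_zpowers, hob]
      have hbc : Commute c b := hWc.is_comm.comm ⟨c, hc⟩ ⟨b, hb⟩ |> congrArg Subtype.val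
      -- sum over the lines `⟨c b ^ j⟩`
      have hrow : ∀ j, ∑ i ∈ Finset.range p, (c * b ^ j) ^ i • e₀ = 0 := fun j =>
        hsum _ (W.mul_mem hc (hzc b j hb)) (fun h => hcb (by
          rw [eq_inv_of_mul_eq_one_left h]
          exact inv_mem (Subgroup.pow_mem _ (Subgroup.mem_zpowers b) j))) e₀
      have htot : ∑ i ∈ Finset.range p, ∑ j ∈ Finset.range p, (c * b ^ j) ^ i • e₀ = 0 := by
        rw [Finset.sum_comm]
        exact Finset.sum_eq_zero fun j _ => hrow j
      rw [Finset.sum_eq_single 0] at htot
      · simpa using htot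
      · intro i hi hi0
        have hin : ¬ p ∣ i := fun hd =>
          hi0 (Nat.eq_zero_of_dvd_of_lt hd (Finset.mem_range.1 hi))
        have hbi : b ^ i ≠ 1 := fun h => hin (hob ▸ orderOf_dvd_of_pow_eq_one h)
        have : ∀ j, (c * b ^ j) ^ i • e₀ = c ^ i • (b ^ i) ^ j • e₀ := fun j => by
          rw [(hbc.pow_right j).mul_pow, mul_smul, ← pow_mul, ← pow_mul, mul_comm j i]
        rw [Finset.sum_congr rfl fun j _ => this j, ← Finset.smul_sum,
          hsum _ (hzc b i hb) hbi e₀, smul_zero]
      · simp [hp.pos]
    -- a conjugate line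
    set L := Subgroup.zpowers x
    have hxp : orderOf x = p := orderOf_eq_prime (hWp x hx) hx1
    have hLfix : ∀ l ∈ L, l • e1 = e1 := fun l hl =>
      MulAction.mem_stabilizer_iff.1 ((Subgroup.zpowers_le (g := x)
        (H := MulAction.stabilizer P e1)).2 hxe hl)
    obtain ⟨g, hg⟩ : ∃ g : P, g * x * g⁻¹ ∉ L := by
      by_contra hh
      push Not at hh
      have hLn : L.Normal := ⟨fun l hl g => by
        obtain ⟨i, rfl⟩ := Subgroup.mem_zpowers_iff.1 hl
        rw [← MulAut.conj_apply, map_zpow, MulAut.conj_apply]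
        exact L.zpow_mem (hh g) i⟩
      exact hx1 (Subgroup.mem_bot.1 (hnormal L hLn e1 he1 hLfix ▸ Subgroup.mem_zpowers x))
    set y := g * x * g⁻¹
    set e2 := g • e1
    have hy : y ∈ W := hWn.conj_mem x hx g
    have hye : y • e2 = e2 := by
      show (g * x * g⁻¹) • g • e1 = g • e1
      rw [mul_smul, mul_smul, inv_smul_smul, hxe]
    have hWfix : ∀ e : E, (∀ w ∈ W, w • e = e) → e = 0 := fun e he =>
      by_contra fun hne => hWne (hnormal W hWn e hne he)
    have htwo : ∀ u v : P, u ∈ W → v ∈ W → u ≠ 1 → v ∉ Subgroup.zpowers u →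
        ∀ e : E, u • e = e → v • e = e → e = 0 := by
      intro u v hu hv hu1 hvu e hue hve
      refine hWfix e fun w hw => ?_
      have hlt : Subgroup.zpowers u < Subgroup.closure {u, v} := by
        refine lt_of_le_of_ne (Subgroup.zpowers_le.2 (Subgroup.subset_closure (by simp))) fun h => hvu ?_
        rw [h]; exact Subgroup.subset_closure (by simp)
      have hle : Subgroup.closure {u, v} ≤ W :=
        (Subgroup.closure_le W).2 (by rintro _ (rfl | rfl) <;> assumption)
      have heq : Subgroup.closure {u, v} = W := by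
        refine Subgroup.eq_of_le_of_card_ge hle ?_
        obtain ⟨k, hk, hkc⟩ := (Nat.dvd_prime_pow hp).1 (hWcard ▸ Subgroup.card_dvd_of_le hle)
        have h1 : Nat.card (Subgroup.zpowers u) < Nat.card (Subgroup.closure {u, v}) := by
          by_contra h
          exact hlt.ne (Subgroup.eq_of_le_of_card_ge hlt.le (not_lt.1 h))
        rw [Nat.card_zpowers, orderOf_eq_prime (hWp u hu) hu1, hkc] at h1
        have : 2 ≤ k := by
          by_contra hh
          exact absurd (h1.trans_le (Nat.pow_le_pow_right hp.pos (by omega : k ≤ 1)))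
            (by rw [pow_one]; exact lt_irrefl p)
        rw [hWcard, hkc]
        exact Nat.pow_le_pow_right hp.pos this
      rw [← heq] at hw
      exact MulAction.mem_stabilizer_iff.1 ((Subgroup.closure_le (MulAction.stabilizer P e)).2
        (by rintro _ (rfl | rfl) <;> assumption) hw)
    -- orbit sums along a line, of vectors fixed by another line
    have hcommW : ∀ u v : P, u ∈ W → v ∈ W → u * v = v * u := fun u v hu hv =>
      congrArg Subtype.val (hWc.is_comm.comm ⟨u, hu⟩ ⟨v, hv⟩)
    have hkill : ∀ u v : P, u ∈ W → v ∈ W → v ≠ 1 → u ∉ Subgroup.zpowers v →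
        ∀ e : E, v • e = e → avg (Subgroup.zpowers u) e = 0 := by
      intro u v hu hv hv1 huv e hve
      refine htwo v u hv hu hv1 huv _ ?_ (avg_fixed _ _ (Subgroup.mem_zpowers u))
      unfold avg
      rw [Finset.smul_sum]
      refine Finset.sum_congr rfl fun l hl' => ?_
      have hl : l ∈ W := (Subgroup.zpowers_le.2 hu : Subgroup.zpowers u ≤ W) (by simpa using hl')
      rw [← mul_smul, hcommW v l hv hl, mul_smul, hve]
    have hy1 : y ≠ 1 := fun h => hx1 (conj_eq_one_iff.1 h)
    have hyp : orderOf y = p := orderOf_eq_prime (hWp y hy) hy1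
    have hxy : x ∉ Subgroup.zpowers y := by
      intro h
      have := Subgroup.eq_of_le_of_card_ge (Subgroup.zpowers_le.2 h)
        (by rw [Nat.card_zpowers, Nat.card_zpowers, hxp, hyp])
      exact hg (by rw [show L = Subgroup.zpowers y from this]; exact Subgroup.mem_zpowers y)
    have he2 : e2 ≠ 0 := fun h => he1 (by
      rw [show e1 = g⁻¹ • e2 from (inv_smul_smul g e1).symm, h, smul_zero])
    have hne12 : e1 + e2 ≠ 0 := by
      intro h
      have := congrArg (avg L) h
      rw [avg_add, avg_of_fixed hLfix, hkill x y hx hy hy1 hxy e2 hye, add_zero,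
        avg_of_fixed (L := L) (e := 0) (fun l _ => smul_zero l), nsmul_zero] at this
      exact he1 (hcop L e1 this)
    have hstab := hsplit e1 e2 he1 he2 hne12 fun h hh => by
      set x' := h * x * h⁻¹
      set y' := h * y * h⁻¹
      have hx' : x' ∈ W := hWn.conj_mem x hx h
      have hy' : y' ∈ W := hWn.conj_mem y hy h
      have hx'1 : x' ≠ 1 := fun e => hx1 (conj_eq_one_iff.1 e)
      have hy'1 : y' ≠ 1 := fun e => hy1 (conj_eq_one_iff.1 e)
      have hfx : x' • (h • e1) = h • e1 := by
        show (h * x * h⁻¹) • h • e1 = h • e1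
        rw [mul_smul, mul_smul, inv_smul_smul, hxe]
      have hfy : y' • (h • e2) = h • e2 := by
        show (h * y * h⁻¹) • h • e2 = h • e2
        rw [mul_smul, mul_smul, inv_smul_smul, hye]
      have havg : avg L (h • e1) + avg L (h • e2) = Nat.card L • e1 := by
        rw [← avg_add, ← smul_add, hh, avg_add, avg_of_fixed hLfix,
          hkill x y hx hy hy1 hxy e2 hye, add_zero]
      by_cases hxL : x ∈ Subgroup.zpowers x'
      · -- the first line is fixed
        have hxy' : x ∉ Subgroup.zpowers y' := by
          intro h'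
          have a1 := Subgroup.eq_of_le_of_card_ge (Subgroup.zpowers_le.2 hxL)
            (by rw [Nat.card_zpowers, Nat.card_zpowers, hxp, orderOf_eq_prime (hWp x' hx') hx'1])
          have a2 := Subgroup.eq_of_le_of_card_ge (Subgroup.zpowers_le.2 h')
            (by rw [Nat.card_zpowers, Nat.card_zpowers, hxp, orderOf_eq_prime (hWp y' hy') hy'1])
          have hh' : y' ∈ Subgroup.zpowers x' := by rw [← a1, a2]; exact Subgroup.mem_zpowers y'
          obtain ⟨i, hi⟩ := Subgroup.mem_zpowers_iff.1 hh'
          refine hg (Subgroup.mem_zpowers_iff.2 ⟨i, ?_⟩)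
          have : (MulAut.conj h) (x ^ i) = (MulAut.conj h) y := by
            rw [map_zpow]; exact hi
          exact (MulAut.conj h).injective this
        rw [hkill x y' hx hy' hy'1 hxy' _ hfy, add_zero] at havg
        have hLx : ∀ l ∈ L, l • h • e1 = h • e1 := fun l hl =>
          MulAction.mem_stabilizer_iff.1 ((Subgroup.zpowers_le (g := x)
            (H := MulAction.stabilizer P (h • e1))).2
              ((Subgroup.zpowers_le (g := x') (H := MulAction.stabilizer P (h • e1))).2 hfx hxL) hl)
        rw [avg_of_fixed hLx] at havg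
        exact sub_eq_zero.1 (hcop L _ (by rw [nsmul_sub, havg, sub_self]))
      · exfalso
        rw [hkill x x' hx hx' hx'1 hxL _ hfx, zero_add] at havg
        have hyL : x ∈ Subgroup.zpowers y' := by
          by_contra h'
          rw [hkill x y' hx hy' hy'1 h' _ hfy] at havg
          exact he1 (hcop L e1 havg.symm)
        have havg2 : avg (Subgroup.zpowers y) (h • e1) + avg (Subgroup.zpowers y) (h • e2) =
            Nat.card (Subgroup.zpowers y) • e2 := by
          have hyfix : ∀ l ∈ Subgroup.zpowers y, l • e2 = e2 := fun l hl =>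
            MulAction.mem_stabilizer_iff.1 ((Subgroup.zpowers_le (g := y)
              (H := MulAction.stabilizer P e2)).2 hye hl)
          have hyx : y ∉ L := hg
          rw [← avg_add, ← smul_add, hh, avg_add, avg_of_fixed hyfix,
            hkill y x hy hx hx1 hyx e1 hxe, zero_add]
        have a2 := Subgroup.eq_of_le_of_card_ge (Subgroup.zpowers_le.2 hyL)
          (by rw [Nat.card_zpowers, Nat.card_zpowers, hxp, orderOf_eq_prime (hWp y' hy') hy'1])
        have hyy' : y ∉ Subgroup.zpowers y' := fun h' => hg (show y ∈ L by rw [show L = _ from a2]; exact h')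
        rw [hkill y y' hy hy' hy'1 hyy' _ hfy, add_zero] at havg2
        have hyx' : y ∈ Subgroup.zpowers x' := by
          by_contra h'
          rw [hkill y x' hy hx' hx'1 h' _ hfx] at havg2
          exact he2 (hcop _ e2 havg2.symm)
        -- `h` swaps the two lines, so its square normalises each of them
        have a3 := Subgroup.eq_of_le_of_card_ge (Subgroup.zpowers_le.2 hyx')
          (by rw [Nat.card_zpowers, Nat.card_zpowers, hyp, orderOf_eq_prime (hWp x' hx') hx'1])
        have m1 : L.map (MulAut.conj h).toMonoidHom = Subgroup.zpowers y := by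
          rw [MonoidHom.map_zpowers]; exact a3.symm
        have m2 : (Subgroup.zpowers y).map (MulAut.conj h).toMonoidHom = L := by
          rw [MonoidHom.map_zpowers]; exact a2.symm
        have hsq : h * h ∈ Subgroup.normalizer (L : Set P) := by
          rw [Subgroup.mem_normalizer_iff_map_conj_eq]
          conv_rhs => rw [← m2, ← m1, Subgroup.map_map]
          congr 1
          ext l
          simp [mul_assoc]
        obtain ⟨m, hm⟩ := hodd h
        have hN : h ∈ Subgroup.normalizer (L : Set P) := by
          have h3 : (h * h) ^ (m + 1) = h := by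
            rw [← pow_two, ← pow_mul, show 2 * (m + 1) = orderOf h + 1 by omega, pow_succ,
              pow_orderOf_eq_one, one_mul]
          exact h3 ▸ Subgroup.pow_mem _ hsq (m + 1)
        rw [Subgroup.mem_normalizer_iff] at hN
        exact hxL (by
          have : x' ∈ L := (hN x).1 (Subgroup.mem_zpowers x)
          exact (Subgroup.eq_of_le_of_card_ge (Subgroup.zpowers_le.2 this)
            (by rw [Nat.card_zpowers, Nat.card_zpowers, hxp, orderOf_eq_prime (hWp x' hx') hx'1])) ▸
              Subgroup.mem_zpowers x)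
    refine he2 (htwo y x hy hx hy1 hxy e2 hye ?_)
    exact MulAction.mem_stabilizer_iff.1 (hstab ▸ MulAction.mem_stabilizer_iff.2 hxe)
  refine ⟨hcyc, fun g hg a ha => by_contra fun ha0 => hg ?_⟩
  haveI := hcyc
  letI := hcyc.commGroup
  exact Subgroup.mem_bot.1 (hnormal (Subgroup.zpowers g) inferInstance a ha0
    (fun l hl => MulAction.mem_stabilizer_iff.1 ((Subgroup.zpowers_le (g := g)
      (H := MulAction.stabilizer P a)).2 ha hl)) ▸ Subgroup.mem_zpowers g)

end Cfsg.Agent.S1160
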