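import Cfsg.Statements.S3224
import Cfsg.Agent.Invol.Dihedral
-- import your own Cfsg.Agent.* helpers here

set_option autoImplicit false
open Cfsg

namespace Cfsg.Agent.S3224

universe u

/-- Square roots of one modulo a power of two. -/
private theorem sq_root_one {n r : ℕ} (hn : 1 ≤ n) (h : r * r ≡ 1 [MOD 2 ^ n]) :
    2 ^ (n - 1) ∣ r - 1 ∨ 2 ^ (n - 1) ∣ r + 1 := by
  have hr : r % 2 = 1 := by
    have h2 := h.of_dvd (dvd_pow_self 2 (by omega : n ≠ 0))
    rw [Nat.ModEq, Nat.mul_mod] at h2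
    rcases Nat.mod_two_eq_zero_or_one r with h3 | h3
    · rw [h3] at h2; simp at h2
    · exact h3
  have hd : 2 ^ n ∣ (r - 1) * (r + 1) := by
    rw [mul_comm, ← Nat.sq_sub_sq, one_pow, sq]
    exact (Nat.modEq_iff_dvd' (Nat.mul_pos (by omega) (by omega))).mp h.symm
  have key : ∀ u v : ℕ, 2 ^ n ∣ u * v → ∀ w, u = 2 * w → w % 2 = 1 → 2 ^ (n - 1) ∣ v := by
    intro u v huv w hu hw
    rw [hu, mul_assoc, ← Nat.sub_add_cancel hn, pow_succ'] at huv
    exact (Nat.Coprime.pow_left _ (Nat.coprime_two_left.mpr (Nat.odd_iff.mpr hw))).dvd_of_dvd_mul_left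
      ((Nat.mul_dvd_mul_iff_left two_pos).mp huv)
  rcases Nat.even_or_odd ((r - 1) / 2) with he | ho
  · rw [Nat.even_iff] at he
    exact Or.inl (key (r + 1) (r - 1) (by rwa [mul_comm]) ((r + 1) / 2) (by omega) (by omega))
  · rw [Nat.odd_iff] at ho
    exact Or.inr (key (r - 1) (r + 1) hd ((r - 1) / 2) (by omega) ho)

/-- If `x` has a centralizer of order four in a larger 2-group, some cyclic subgroup of index two
avoids `x`. -/
theorem exists_cyclic (N : ℕ) : ∀ (S : Type u) [Group S] [Finite S], Nat.card S = N →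
    IsPGroup 2 S → ∀ x : S, orderOf x = 2 →
    Nat.card ↥(Subgroup.centralizer ({x} : Set S)) = 4 → Nat.card S ≠ 4 →
    ∃ a : S, (Subgroup.zpowers a).index = 2 ∧ 4 ≤ orderOf a ∧ x ∉ Subgroup.zpowers a := by
  induction N using Nat.strong_induction_on with | _ N ih => ?_
  intro S _ _ hN hS x hx hC hne
  haveI : Fact (Nat.Prime 2) := ⟨Nat.prime_two⟩
  set C := Subgroup.centralizer ({x} : Set S)
  have hxx := CfsgLib.Invol.mul_self_eq_one hx
  haveI : Nontrivial S := ⟨x, 1, CfsgLib.Invol.ne_one hx⟩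
  -- the central involution
  obtain ⟨z, hzZ, hz⟩ : ∃ z ∈ Subgroup.center S, orderOf z = 2 := by
    have hnt := hS.center_nontrivial
    have hd : 2 ∣ Nat.card (Subgroup.center S) :=
      (hS.to_subgroup _).card_eq_or_dvd.resolve_left Finite.one_lt_card.ne'
    obtain ⟨z, hz⟩ := exists_prime_orderOf_dvd_card' 2 hd
    exact ⟨z, z.2, by rwa [Subgroup.orderOf_coe]⟩
  have hcz : ∀ g : S, g * z = z * g := Subgroup.mem_center_iff.mp hzZ
  have hzC : z ∈ C := Subgroup.mem_centralizer_singleton_iff.mpr (hcz x).symm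
  have hxz : x ≠ z := by
    rintro rfl
    apply hne
    rw [← hC, (Subgroup.eq_top_iff' C).mpr fun g => Subgroup.mem_centralizer_singleton_iff.mpr (hcz g),
      Subgroup.card_top]
  have hz1 : z ≠ 1 := CfsgLib.Invol.ne_one hz
  have hxC : x ∈ C := Subgroup.mem_centralizer_singleton_iff.mpr rfl
  have hxCz : x * z ∈ C := mul_mem hxC hzC
  have hCmem : ∀ c ∈ C, c = 1 ∨ c = x ∨ c = z ∨ c = x * z := by
    intro c hc
    by_contra hno
    push Not at hno
    classical
    haveI := Fintype.ofFinite C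
    have hcard : Fintype.card C = 4 := by rw [← Nat.card_eq_fintype_card]; exact hC
    have h5 : ({1, ⟨x, hxC⟩, ⟨z, hzC⟩, ⟨x * z, hxCz⟩, ⟨c, hc⟩} : Finset C).card ≤ 4 :=
      (Finset.card_le_univ _).trans hcard.le
    have hxz1 : x * z ≠ 1 := fun h1 => hxz (by
      rw [eq_inv_of_mul_eq_one_left h1, CfsgLib.Invol.inv_eq_self hz])
    simp [Subtype.ext_iff, hxz, hz1, hz1.symm, (CfsgLib.Invol.ne_one hx).symm,
      CfsgLib.Invol.ne_one hx, hxz1.symm, hno.1.symm, hno.2.1.symm, hno.2.2.1.symm, hno.2.2.2.symm] at h5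
  have hCcard : 4 ∣ Nat.card S := hC ▸ Subgroup.card_subgroup_dvd_card C
  obtain ⟨m, hm⟩ := IsPGroup.iff_card.mp hS
  -- the quotient by the central involution
  set Z := Subgroup.zpowers z
  haveI hZn : Z.Normal := ⟨fun w hw g => by
    obtain ⟨k, rfl⟩ := hw
    have : Commute g z := hcz g
    change g * z ^ k * g⁻¹ ∈ Z
    rw [(this.zpow_right k).eq, mul_inv_cancel_right]
    exact zpow_mem (Subgroup.mem_zpowers z) k⟩
  have hZmem : ∀ w ∈ Z, w = 1 ∨ w = z := by
    rintro _ ⟨k, rfl⟩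
    rcases Int.even_or_odd k with ⟨j, rfl⟩ | ⟨j, rfl⟩
    · left; simp only; rw [← two_mul, zpow_mul, zpow_two, CfsgLib.Invol.mul_self_eq_one hz, one_zpow]
    · right
      simp only
      rw [zpow_add, zpow_mul, zpow_two, CfsgLib.Invol.mul_self_eq_one hz, one_zpow, one_mul, zpow_one]
  let π := QuotientGroup.mk' Z
  have hxbar : orderOf (π x) = 2 := by
    refine orderOf_eq_prime (by rw [← map_pow, sq, hxx, map_one]) fun h => ?_
    rcases hZmem x ((QuotientGroup.eq_one_iff x).mp h) with h1 | h1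
    · exact CfsgLib.Invol.ne_one hx h1
    · exact hxz h1
  set P := (Subgroup.centralizer ({π x} : Set (S ⧸ Z))).comap π
  have hPmem : ∀ g, g ∈ P ↔ g * x * g⁻¹ = x ∨ g * x * g⁻¹ = x * z := by
    intro g
    rw [Subgroup.mem_comap, Subgroup.mem_centralizer_singleton_iff, ← map_mul, ← map_mul]
    change (QuotientGroup.mk (g * x) : S ⧸ Z) = QuotientGroup.mk (x * g) ↔ _
    rw [eq_comm, QuotientGroup.eq]
    have hkey : ∀ w : S, (x * g)⁻¹ * (g * x) = w → (∀ y : S, y * w = w * y) → g * x * g⁻¹ = x * w := by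
      intro w hw hwc
      calc g * x * g⁻¹ = (x * g) * ((x * g)⁻¹ * (g * x)) * g⁻¹ := by group
        _ = x * (g * w) * g⁻¹ := by rw [hw]; group
        _ = x * w := by rw [hwc g]; group
    constructor
    · intro h
      rcases hZmem _ h with h1 | h1
      · exact Or.inl (by rw [hkey 1 h1 (by simp), mul_one])
      · exact Or.inr (hkey z h1 hcz)
    · rintro (h | h)
      · have : g * x = x * g := mul_inv_eq_iff_eq_mul.mp h
        rw [this, inv_mul_cancel]; exact one_mem _
      · have : g * x = x * z * g := mul_inv_eq_iff_eq_mul.mp h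
        rw [this, mul_assoc x z g, ← hcz g, ← mul_assoc x g z, inv_mul_cancel_left]
        exact Subgroup.mem_zpowers z
  have hCP : C ≤ P := fun g hg => (hPmem g).mpr (Or.inl (by
    rw [Subgroup.mem_centralizer_singleton_iff.mp hg, mul_inv_cancel_right]))
  obtain ⟨g₀, hg₀P, hg₀C⟩ : ∃ g ∈ P, g ∉ C := by
    haveI := hS.isNilpotent
    have hCtop : C < ⊤ := lt_top_iff_ne_top.mpr fun h => hne (by rw [← hC, h, Subgroup.card_top])
    obtain ⟨g, hgN, hgC⟩ := SetLike.exists_of_lt (Group.normalizerCondition_of_isNilpotent C hCtop)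
    refine ⟨g, (hPmem g).mpr ?_, hgC⟩
    have hgx := (Subgroup.mem_normalizer_iff.mp hgN x).mp hxC
    rcases hCmem _ hgx with h | h | h | h
    · exact absurd (conj_eq_one_iff.mp h) (CfsgLib.Invol.ne_one hx)
    · exact Or.inl h
    · exfalso
      apply hxz
      calc x = g⁻¹ * (g * x * g⁻¹) * g := by group
        _ = z := by rw [h, hcz g⁻¹, inv_mul_cancel_right]
    · exact Or.inr h
  have hidx : (C.subgroupOf P).index = 2 := by
    rw [Subgroup.index_eq_two_iff]
    refine ⟨⟨g₀, hg₀P⟩, fun b => ?_⟩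
    have h0 : g₀ * x * g₀⁻¹ = x * z := ((hPmem g₀).mp hg₀P).resolve_left fun h =>
      hg₀C (Subgroup.mem_centralizer_singleton_iff.mpr (mul_inv_eq_iff_eq_mul.mp h))
    have hmemC : ∀ g : S, g ∈ C ↔ g * x * g⁻¹ = x := fun g => by
      rw [Subgroup.mem_centralizer_singleton_iff, mul_inv_eq_iff_eq_mul]
    simp only [Subgroup.mem_subgroupOf, Subgroup.coe_mul]
    rw [hmemC, hmemC]
    rcases (hPmem b.1).mp b.2 with hb | hb
    · refine Or.inr ⟨hb, fun h => hz1 ?_⟩
      have h' : b.1 * (x * z) * b.1⁻¹ = x := by rw [← h0]; convert h using 1; group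
      rw [← conj_mul, hb, hcz b.1, mul_inv_cancel_right] at h'
      exact mul_eq_left.mp h'
    · refine Or.inl ⟨?_, fun h => hz1 (mul_eq_left.mp (hb.symm.trans h))⟩
      calc b.1 * g₀ * x * (b.1 * g₀)⁻¹ = b.1 * (g₀ * x * g₀⁻¹) * b.1⁻¹ := by group
        _ = (b.1 * x * b.1⁻¹) * (b.1 * z * b.1⁻¹) := by rw [h0]; group
        _ = x := by
          rw [hb, hcz b.1, mul_inv_cancel_right, mul_assoc, CfsgLib.Invol.mul_self_eq_one hz, mul_one]
  have hP8 : Nat.card P = 8 := by
    rw [← Subgroup.card_mul_index (C.subgroupOf P), hidx,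
      Nat.card_congr (Subgroup.subgroupOfEquivOfLe hCP).toEquiv, hC]
  have hQcard : Nat.card S = Nat.card (S ⧸ Z) * 2 := by
    rw [Subgroup.card_eq_card_quotient_mul_card_subgroup Z, Nat.card_zpowers, hz]
  have hsurj : Function.Surjective π := QuotientGroup.mk'_surjective Z
  have hCbar : Nat.card (Subgroup.centralizer ({π x} : Set (S ⧸ Z))) = 4 := by
    have h1 := Subgroup.index_comap_of_surjective (Subgroup.centralizer ({π x} : Set (S ⧸ Z))) hsurj
    have h2 := Subgroup.card_mul_index P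
    rw [hP8, h1, hQcard, ← Subgroup.card_mul_index (Subgroup.centralizer ({π x} : Set (S ⧸ Z)))] at h2
    have hpos : 0 < (Subgroup.centralizer ({π x} : Set (S ⧸ Z))).index :=
      Nat.pos_of_ne_zero Subgroup.index_ne_zero_of_finite
    have := Nat.eq_of_mul_eq_mul_right hpos (h2.trans (mul_right_comm _ _ _))
    omega
  by_cases hQ4 : Nat.card (S ⧸ Z) = 4
  · -- order eight
    have hS8 : Nat.card S = 8 := by rw [hQcard, hQ4]
    obtain ⟨a, ha⟩ : ∃ a : S, a * a ≠ 1 := by
      by_contra hall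
      push Not at hall
      apply hg₀C
      rw [Subgroup.mem_centralizer_singleton_iff]
      have h1 := inv_eq_of_mul_eq_one_right (hall (g₀ * x))
      rwa [mul_inv_rev, inv_eq_of_mul_eq_one_right hxx, inv_eq_of_mul_eq_one_right (hall g₀),
        eq_comm] at h1
    have hdvd : orderOf a ∣ 2 ^ 3 := by
      rw [show 2 ^ 3 = Nat.card S by rw [hS8]; norm_num]; exact orderOf_dvd_natCard a
    obtain ⟨j, hj, hja⟩ := (Nat.dvd_prime_pow Nat.prime_two).mp hdvd
    have hj2 : 2 ≤ j := by
      by_contra hc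
      apply ha
      rw [← sq]
      exact orderOf_dvd_iff_pow_eq_one.mp (hja ▸ pow_dvd_pow 2 (by omega : j ≤ 1))
    have hxa : x ∉ Subgroup.zpowers a := by
      intro hmem
      obtain ⟨k, hk⟩ := hmem
      have haC : a ∈ C := Subgroup.mem_centralizer_singleton_iff.mpr (by
        rw [← hk]; exact (Commute.self_zpow a k).eq)
      rcases hCmem a haC with h | h | h | h <;> apply ha <;> rw [h]
      · exact one_mul 1
      · exact hxx
      · exact CfsgLib.Invol.mul_self_eq_one hz
      · rw [mul_assoc x z, ← mul_assoc z x z, ← hcz x, mul_assoc x z z,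
          CfsgLib.Invol.mul_self_eq_one hz, mul_one, hxx]
    have h1 := Subgroup.card_mul_index (Subgroup.zpowers a)
    rw [Nat.card_zpowers, hja, hS8] at h1
    rcases (by omega : j = 2 ∨ j = 3) with rfl | rfl
    · exact ⟨a, by omega, by omega, hxa⟩
    · exfalso
      have hi : (Subgroup.zpowers a).index = 1 := by omega
      exact hxa (by rw [Subgroup.index_eq_one.mp hi]; trivial)
  obtain ⟨abar, habar, hab4, hxabar⟩ := ih _ (by
      have := Nat.card_pos (α := S ⧸ Z)
      omega) (S ⧸ Z) rfl (hS.to_quotient Z) (π x) hxbar hCbar hQ4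
  set M := (Subgroup.zpowers abar).comap π
  have hxM : x ∉ M := hxabar
  have hMidx : M.index = 2 := by rw [Subgroup.index_comap_of_surjective _ hsurj, habar]
  obtain ⟨a, rfl⟩ := hsurj abar
  have haM : a ∈ M := Subgroup.mem_zpowers (π a)
  have hMmem : ∀ g ∈ M, ∃ (k : ℤ), g = a ^ k ∨ g = a ^ k * z := by
    intro g hg
    obtain ⟨k, hk⟩ := Subgroup.mem_zpowers_iff.mp (show π g ∈ Subgroup.zpowers (π a) from hg)
    rw [← map_zpow] at hk
    refine ⟨k, ?_⟩
    rcases hZmem _ (QuotientGroup.eq.mp hk) with h | h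
    · exact Or.inl (inv_mul_eq_one.mp h).symm
    · exact Or.inr (by rw [← h, mul_inv_cancel_left])
  have hordbar : orderOf (π a) ∣ orderOf a := orderOf_map_dvd π a
  refine ⟨a, ?_, hab4.trans (Nat.le_of_dvd (orderOf_pos a) hordbar), fun h => hxM (Subgroup.zpowers_le.mpr haM h)⟩
  suffices hMa : M = Subgroup.zpowers a by rw [← hMa, hMidx]
  refine le_antisymm ?_ (Subgroup.zpowers_le.mpr haM)
  suffices hzmem : z ∈ Subgroup.zpowers a by
    intro g hg
    obtain ⟨k, rfl | rfl⟩ := hMmem g hg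
    · exact zpow_mem (Subgroup.mem_zpowers a) k
    · exact mul_mem (zpow_mem (Subgroup.mem_zpowers a) k) hzmem
  -- otherwise the involution of `⟨a⟩` is centralized by `x`
  by_contra hza
  obtain ⟨j, hj⟩ := IsPGroup.iff_orderOf.mp hS a
  have hj2 : 2 ≤ j := by
    by_contra hc
    have : 2 ^ j ≤ 2 ^ 1 := Nat.pow_le_pow_right two_pos (by omega)
    have := Nat.le_of_dvd (orderOf_pos a) hordbar
    omega
  set w := a ^ 2 ^ (j - 1) with hw
  have hw1 : w ≠ 1 := fun h => by
    have := Nat.le_of_dvd (Nat.two_pow_pos _) (orderOf_dvd_of_pow_eq_one h)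
    rw [hj] at this
    have := (Nat.pow_le_pow_iff_right (by norm_num)).mp this
    omega
  have hw2 : w * w = 1 := by
    rw [hw, ← pow_add, ← two_mul, ← pow_succ', Nat.sub_add_cancel (by omega), ← hj, pow_orderOf_eq_one]
  have hwC : w ∉ C := by
    intro hwC
    rcases hCmem w hwC with h | h | h | h
    · exact hw1 h
    · exact hxM (h ▸ pow_mem haM _)
    · exact hza (h ▸ pow_mem (Subgroup.mem_zpowers a) _)
    · apply hxM
      have hzM : z ∈ M := by
        show π z ∈ Subgroup.zpowers (π a)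
        rw [show π z = 1 from (QuotientGroup.eq_one_iff z).mpr (Subgroup.mem_zpowers z)]
        exact one_mem _
      have := mul_mem (h ▸ pow_mem haM (2 ^ (j - 1)) : x * z ∈ M) (inv_mem hzM)
      rwa [mul_inv_cancel_right] at this
  apply hwC
  rw [Subgroup.mem_centralizer_singleton_iff]
  have hxax : x * a * x⁻¹ ∈ M := by
    have hn : M.Normal := Subgroup.normal_of_index_eq_two hMidx
    exact hn.conj_mem a haM x
  obtain ⟨k, hk⟩ := hMmem _ hxax
  have hkey : x * w * x⁻¹ = w ^ k := by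
    rw [hw, ← conj_pow]
    have hze : z ^ 2 ^ (j - 1) = 1 := by
      obtain ⟨l, hl⟩ : 2 ∣ 2 ^ (j - 1) := dvd_pow_self 2 (by omega)
      rw [hl, pow_mul, sq, CfsgLib.Invol.mul_self_eq_one hz, one_pow]
    have hc : Commute (a ^ k) z := hcz _
    rcases hk with h | h <;> rw [h]
    · rw [← zpow_natCast, ← zpow_natCast, ← zpow_mul, ← zpow_mul, mul_comm]
    · rw [hc.mul_pow, hze, mul_one, ← zpow_natCast, ← zpow_natCast, ← zpow_mul, ← zpow_mul, mul_comm]
  rcases Int.even_or_odd k with ⟨l, rfl⟩ | ⟨l, rfl⟩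
  · rw [← two_mul, zpow_mul, zpow_two, hw2, one_zpow, conj_eq_one_iff] at hkey
    exact absurd hkey hw1
  · rw [zpow_add, zpow_mul, zpow_two, hw2, one_zpow, one_mul, zpow_one, mul_inv_eq_iff_eq_mul] at hkey
    exact hkey.symm

/-- A finite 2-group containing an involution whose centralizer has order 4 is dihedral, quasi-dihedral (semidihedral), or of order 4. -/
theorem result {S : Type*} [Group S] [Finite S] (hS : IsPGroup 2 S)
    (x : S) (hx : orderOf x = 2) (hC : Nat.card ↥(Subgroup.centralizer ({x} : Set S)) = 4) :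
    (∃ n : ℕ, Nonempty (S ≃* DihedralGroup n)) ∨ Cfsg.IsQuasiDihedral S ∨ Nat.card S = 4 := by
  by_cases hne : Nat.card S = 4
  · exact Or.inr (Or.inr hne)
  obtain ⟨a, hidx, ha4, hxa⟩ := exists_cyclic _ S rfl hS x hx hC hne
  haveI : Fact (Nat.Prime 2) := ⟨Nat.prime_two⟩
  obtain ⟨n, hn⟩ := IsPGroup.iff_orderOf.mp hS a
  have hn2 : 2 ≤ n := by
    by_contra hc
    have : 2 ^ n ≤ 2 ^ 1 := Nat.pow_le_pow_right two_pos (by omega)
    omega
  have hcard : Nat.card S = 2 ^ (n + 1) := by
    rw [← Subgroup.card_mul_index (Subgroup.zpowers a), Nat.card_zpowers, hn, hidx, pow_succ]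
  have hconjmem : x * a * x⁻¹ ∈ Subgroup.zpowers a :=
    (Subgroup.normal_of_index_eq_two hidx).conj_mem a (Subgroup.mem_zpowers a) x
  obtain ⟨r, hr⟩ := mem_powers_iff_mem_zpowers.mpr hconjmem
  simp only at hr
  have hxx := CfsgLib.Invol.mul_self_eq_one hx
  have hconj : ∀ i : ℕ, x * a ^ i * x⁻¹ = a ^ (r * i) := fun i => by rw [← conj_pow, ← hr, pow_mul]
  have hrr : r * r ≡ 1 [MOD 2 ^ n] := by
    rw [← hn, ← pow_eq_pow_iff_modEq, pow_one, ← hconj, hr]
    calc x * (x * a * x⁻¹) * x⁻¹ = (x * x) * a * (x * x)⁻¹ := by group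
      _ = a := by rw [hxx]; simp
  -- `x` centralizes no element of `⟨a⟩` of order four
  have hfix : ∀ i : ℕ, x * a ^ i * x⁻¹ = a ^ i → (a ^ i) ^ 2 = 1 := by
    intro i hi
    have hc : a ^ i ∈ Subgroup.centralizer ({x} : Set S) :=
      Subgroup.mem_centralizer_singleton_iff.mpr (mul_inv_eq_iff_eq_mul.mp hi).symm
    have h4 : (a ^ i) ^ 4 = 1 := by
      have h := pow_card_eq_one' (x := (⟨a ^ i, hc⟩ : Subgroup.centralizer ({x} : Set S)))
      rw [hC] at h
      exact congrArg Subtype.val h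
    by_contra h2
    have ho : orderOf (a ^ i) = 4 := by
      have := orderOf_eq_prime_pow (p := 2) (n := 1) (x := a ^ i) (by simpa using h2) (by simpa using h4)
      simpa using this
    have htop : Subgroup.zpowers (a ^ i) = Subgroup.centralizer ({x} : Set S) :=
      Subgroup.eq_of_le_of_card_ge (Subgroup.zpowers_le.mpr hc) (by rw [hC, Nat.card_zpowers, ho])
    exact hxa (Subgroup.zpowers_le.mpr (pow_mem (Subgroup.mem_zpowers a) i)
      (htop ▸ Subgroup.mem_centralizer_singleton_iff.mpr rfl))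
  set N := 2 ^ (n - 1) with hN
  have h2N : 2 * N = 2 ^ n := by rw [hN, ← pow_succ', Nat.sub_add_cancel (by omega)]
  have haN : a ^ N ≠ 1 := fun h => by
    have := Nat.le_of_dvd (Nat.two_pow_pos _) (orderOf_dvd_of_pow_eq_one h)
    have hN0 : 0 < N := Nat.two_pow_pos _
    omega
  have ha2N : a ^ (2 * N) = 1 := by rw [h2N, ← hn, pow_orderOf_eq_one]
  rcases sq_root_one (by omega) hrr with ⟨q, hq⟩ | ⟨q, hq⟩ <;> rw [← hN] at hq
  · -- `r ≡ 1 mod N`
    have hr0 : r ≠ 0 := by
      rintro rfl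
      rw [pow_zero, eq_comm, conj_eq_one_iff] at hr
      rw [hr, one_pow] at haN
      exact haN rfl
    have hreq : r = N * q + 1 := by omega
    have h2 : ((a ^ 2) : S) ^ 2 = 1 := by
      refine hfix 2 ?_
      rw [hconj, hreq, show (N * q + 1) * 2 = 2 * N * q + 2 by ring, pow_add, pow_mul, ha2N, one_pow,
        one_mul]
    have hn' : n = 2 := by
      have h3 : a ^ 4 = 1 := by rw [show 4 = 2 * 2 from rfl, pow_mul]; exact h2
      have := Nat.le_of_dvd (by norm_num) (orderOf_dvd_of_pow_eq_one h3)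
      rw [hn, show (4 : ℕ) = 2 ^ 2 from rfl] at this
      have := (Nat.pow_le_pow_iff_right (by norm_num)).mp this
      omega
    subst hn'
    rcases Nat.even_or_odd q with ⟨l, hl⟩ | ⟨l, hl⟩
    · exfalso
      have h1 : (a ^ 1) ^ 2 = 1 := by
        refine hfix 1 ?_
        rw [hconj, mul_one, hreq, hl, show N * (l + l) + 1 = 2 * N * l + 1 by ring, pow_add, pow_mul,
          ha2N, one_pow, one_mul]
      rw [pow_one] at h1
      exact haN (by simpa [hN] using h1)
    · left
      refine ⟨4, ?_⟩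
      have hinv : x * a * x⁻¹ = a⁻¹ := by
        rw [← hr]
        refine eq_inv_of_mul_eq_one_left ?_
        rw [← pow_succ, hreq, hl, show N * (2 * l + 1) + 1 + 1 = 2 * N * l + (N + 2) by ring, pow_add,
          pow_mul, ha2N, one_pow, one_mul, hN, show 2 ^ (2 - 1) + 2 = 2 * 2 ^ (2 - 1) by norm_num,
          ← hN, ha2N]
      have hy : orderOf (x * a) = 2 := CfsgLib.Invol.orderOf_eq_two
        (by simpa using CfsgLib.Invol.mul_zpow_mul_self hxx hinv 1)
        (fun h => hxa (by rw [eq_inv_of_mul_eq_one_left h]; exact inv_mem (Subgroup.mem_zpowers a)))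
      have hne' : x ≠ x * a := fun h => haN (by rw [left_eq_mul.mp h, one_pow])
      obtain ⟨e⟩ := CfsgLib.Invol.nonempty_dihedral_equiv hx hy hne'
      have hxxa : x * (x * a) = a := by rw [← mul_assoc, hxx, one_mul]
      rw [hxxa, hn] at e
      refine ⟨(Subgroup.topEquiv.symm.trans (MulEquiv.subgroupCongr ?_)).trans e⟩
      refine (Subgroup.eq_top_iff' _).mpr (fun g => ?_) |>.symm
      rw [CfsgLib.Invol.mem_closure_pair_iff hx hy, hxxa]
      by_cases hg : g ∈ Subgroup.zpowers a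
      · obtain ⟨k, hk⟩ := hg; exact Or.inl ⟨k, hk.symm⟩
      · obtain ⟨k, hk⟩ := (Subgroup.mul_mem_iff_of_index_two hidx (a := x) (b := g)).mpr
          (iff_of_false hxa hg)
        simp only at hk
        exact Or.inr ⟨k, by rw [hk, ← mul_assoc, hxx, one_mul]⟩
  · -- `r ≡ -1 mod N`
    rcases Nat.even_or_odd q with ⟨l, hl⟩ | ⟨l, hl⟩
    · left
      refine ⟨2 ^ n, ?_⟩
      have hinv : x * a * x⁻¹ = a⁻¹ := by
        rw [← hr]
        refine eq_inv_of_mul_eq_one_left ?_
        rw [← pow_succ, hq, hl, show N * (l + l) = 2 * N * l by ring, pow_mul, ha2N, one_pow]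
      have hy : orderOf (x * a) = 2 := CfsgLib.Invol.orderOf_eq_two
        (by simpa using CfsgLib.Invol.mul_zpow_mul_self hxx hinv 1)
        (fun h => hxa (by rw [eq_inv_of_mul_eq_one_left h]; exact inv_mem (Subgroup.mem_zpowers a)))
      have hne' : x ≠ x * a := fun h => haN (by rw [left_eq_mul.mp h, one_pow])
      obtain ⟨e⟩ := CfsgLib.Invol.nonempty_dihedral_equiv hx hy hne'
      have hxxa : x * (x * a) = a := by rw [← mul_assoc, hxx, one_mul]
      rw [hxxa, hn] at e
      refine ⟨(Subgroup.topEquiv.symm.trans (MulEquiv.subgroupCongr ?_)).trans e⟩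
      refine (Subgroup.eq_top_iff' _).mpr (fun g => ?_) |>.symm
      rw [CfsgLib.Invol.mem_closure_pair_iff hx hy, hxxa]
      by_cases hg : g ∈ Subgroup.zpowers a
      · obtain ⟨k, hk⟩ := hg; exact Or.inl ⟨k, hk.symm⟩
      · obtain ⟨k, hk⟩ := (Subgroup.mul_mem_iff_of_index_two hidx (a := x) (b := g)).mpr
          (iff_of_false hxa hg)
        simp only at hk
        exact Or.inr ⟨k, by rw [hk, ← mul_assoc, hxx, one_mul]⟩
    · right; left
      have hr' : a ^ r = a ^ (N - 1) := by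
        have hN1 : 1 ≤ N := Nat.one_le_two_pow
        have hmul : a ^ (r + 1) = a ^ N := by
          rw [hq, hl, show N * (2 * l + 1) = 2 * N * l + N by ring, pow_add, pow_mul, ha2N, one_pow,
            one_mul]
        rw [← Nat.sub_add_cancel hN1, pow_succ, pow_succ] at hmul
        exact mul_right_cancel hmul
      have hn3 : 3 ≤ n := by
        by_contra hc
        have hn' : n = 2 := by omega
        subst hn'
        have h1 : (a ^ 1) ^ 2 = 1 := by
          refine hfix 1 ?_
          rw [hconj, mul_one, hr', hN]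
          norm_num
        rw [pow_one] at h1
        exact haN (by simpa [hN] using h1)
      exact ⟨n, hn3, hcard, a, x, hn, hx, by rw [← hr, hr']⟩

end Cfsg.Agent.S3224
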