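import Cfsg.Statements.S3390
import Cfsg.Agent.S3224

set_option autoImplicit false
open Cfsg

namespace Cfsg.Agent.S3390

open MulAction
open scoped Pointwise

/-- Sign of a permutation all of whose non-trivial cycles have the same even length. -/
theorem sign_semiregular {X : Type*} [Fintype X] [DecidableEq X] (σ : Equiv.Perm X) {o : ℕ}
    (ho : 0 < o) (hoe : Even o) (hpow : σ ^ o = 1)
    (h : ∀ x, σ x ≠ x → ∀ j, 0 < j → j < o → (σ ^ j) x ≠ x) :
    Equiv.Perm.sign σ = (-1) ^ ((Nat.card X - Nat.card ↥(Function.fixedPoints σ)) / o) := by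
  classical
  have hrep : σ.cycleType = Multiset.replicate (Multiset.card σ.cycleType) o := by
    refine Multiset.eq_replicate_card.mpr fun m hm => ?_
    rw [Equiv.Perm.cycleType_def, Multiset.mem_map] at hm
    obtain ⟨c, hc, rfl⟩ := hm
    simp only [Function.comp_apply]
    have hcyc := (Equiv.Perm.mem_cycleFactorsFinset_iff.1 hc).1
    obtain ⟨x, hx⟩ := hcyc.nonempty_support
    have hce : c = σ.cycleOf x := Equiv.Perm.cycle_is_cycleOf hx hc
    have hσx : σ x ≠ x := by
      rw [← (Equiv.Perm.mem_cycleFactorsFinset_iff.1 hc).2 x hx]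
      exact Equiv.Perm.mem_support.1 hx
    have h1 : (σ ^ c.support.card) x = x := by
      rw [← Equiv.Perm.cycleOf_pow_apply_self, ← hce, ← hcyc.orderOf, pow_orderOf_eq_one,
        Equiv.Perm.one_apply]
    have h2 : c.support.card ∣ o := by
      rw [← hcyc.orderOf, orderOf_dvd_iff_pow_eq_one]
      refine hcyc.pow_eq_one_iff.mpr ⟨x, Equiv.Perm.mem_support.1 hx, ?_⟩
      rw [hce, Equiv.Perm.cycleOf_pow_apply_self, hpow, Equiv.Perm.one_apply]
    rcases (Nat.le_of_dvd ho h2).lt_or_eq with h3 | h3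
    · exact absurd h1 (h x hσx _ (Finset.card_pos.2 hcyc.nonempty_support) h3)
    · exact h3
  rw [Equiv.Perm.sign_of_cycleType_eq_replicate ho hrep, if_neg (Nat.not_odd_iff_even.2 hoe),
    Nat.card_eq_fintype_card, Nat.card_eq_fintype_card]

/-- An element outside the kernel of a sign-valued homomorphism gives a subgroup of index `2`. -/
theorem index_two {G : Type*} [Group G] (f : G →* ℤˣ) {s : G} (hs : f s = -1) :
    f.ker.index = 2 := by
  have : f.range = ⊤ := MonoidHom.range_eq_top.2 fun u => by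
    rcases Int.units_eq_one_or u with rfl | rfl
    · exact ⟨1, map_one f⟩
    · exact ⟨s, hs⟩
  rw [Subgroup.index_ker, this, Subgroup.card_top, Nat.card_eq_fintype_card, Fintype.card_units_int]

/-- A `2`-group with an involution whose centralizer has order `4` is dihedral or semidihedral. -/
theorem dihedral_or_sd {S : Type*} [Group S] [Finite S] (hS : IsPGroup 2 S) (x : S)
    (hx : orderOf x = 2) (hC : Nat.card ↥(Subgroup.centralizer ({x} : Set S)) = 4)
    (hne : Nat.card S = 4 → ¬ IsCyclic S) :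
    (∃ n : ℕ, Nonempty (S ≃* DihedralGroup n)) ∨ Cfsg.IsQuasiDihedral S := by
  rcases Cfsg.Agent.S3224.result hS x hx hC with h | h | h
  · exact Or.inl h
  · exact Or.inr h
  · have hsq : ∀ a : S, a ^ 2 = 1 := fun a => by
      obtain ⟨k, hk, hak⟩ := (Nat.dvd_prime_pow Nat.prime_two).1
        ((orderOf_dvd_natCard a).trans (by rw [h]; norm_num) : orderOf a ∣ 2 ^ 2)
      refine orderOf_dvd_iff_pow_eq_one.1 ?_
      rcases k with _ | _ | _ | k
      · simp [hak]
      · simp [hak]
      · exact absurd (isCyclic_of_orderOf_eq_card a (by rw [hak, h]; norm_num)) (hne h)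
      · omega
    haveI : IsKleinFour S := ⟨h, by
      rcases (Nat.dvd_prime Nat.prime_two).1 (Monoid.exponent_dvd_of_forall_pow_eq_one hsq) with h1 | h1
      · have := Monoid.exp_eq_one_iff.1 h1
        rw [Nat.card_unique] at h
        omega
      · exact h1⟩
    exact Or.inl ⟨2, IsKleinFour.nonempty_mulEquiv⟩

/-- Let G be a finite group acting faithfully and transitively on a finite set Ω with fixity 2 (every non-identity element fixes at most two points, and some fixes exactly two). Let α ∈ Ω and S a Sylow 2-subgroup of G. Then one of the following holds: the stabilizer S_α of α in S is trivial; S is dihedral or semidihedral and either |S_α| = 2 or |S : S_α| = 2; |S| ≥ 4, S has exactly one orbit of size 2 on Ω, every other S-orbit is regular, and G has a normal subgroup of index 2 or of index |S| which is a Frobenius group; or S ≤ G_α. -/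
theorem result {G : Type*} [Group G] [Finite G] {Ω : Type*} [Fintype Ω] [MulAction G Ω] [FaithfulSMul G Ω] (htr : MulAction.IsPretransitive G Ω)
    (hfix : ∀ g : G, g ≠ 1 → Nat.card (MulAction.fixedBy Ω g) ≤ 2) (hex : ∃ g : G, g ≠ 1 ∧ Nat.card (MulAction.fixedBy Ω g) = 2) (α : Ω) (S : Sylow 2 G) :
    (S : Subgroup G) ⊓ MulAction.stabilizer G α = ⊥ ∨
    (((∃ n : ℕ, Nonempty (↥(S : Subgroup G) ≃* DihedralGroup n)) ∨ Cfsg.IsQuasiDihedral ↥(S : Subgroup G)) ∧
       (Nat.card ↥((S : Subgroup G) ⊓ MulAction.stabilizer G α) = 2 ∨ ((S : Subgroup G) ⊓ MulAction.stabilizer G α).relIndex (S : Subgroup G) = 2)) ∨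
    (4 ≤ Nat.card (S : Subgroup G) ∧
       (∃ ω : Ω, Nat.card (MulAction.orbit ↥(S : Subgroup G) ω) = 2 ∧
          ∀ ω' : Ω, ω' ∉ MulAction.orbit ↥(S : Subgroup G) ω → Nat.card (MulAction.orbit ↥(S : Subgroup G) ω') = Nat.card (S : Subgroup G)) ∧
       ∃ N : Subgroup G, N.Normal ∧ (N.index = 2 ∨ N.index = Nat.card (S : Subgroup G)) ∧ (∃ H : Subgroup ↥N, Cfsg.IsFrobeniusComplement H)) ∨
    (S : Subgroup G) ≤ MulAction.stabilizer G α := by
  classical
  haveI := htr
  haveI h2f : Fact (Nat.Prime 2) := ⟨Nat.prime_two⟩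
  by_cases hD1 : (S : Subgroup G) ⊓ stabilizer G α = ⊥
  · exact Or.inl hD1
  by_cases hSle : (S : Subgroup G) ≤ stabilizer G α
  · exact Or.inr (Or.inr (Or.inr hSle))
  set D : Subgroup G := (S : Subgroup G) ⊓ stabilizer G α with hDdef
  have hDS : D ≤ (S : Subgroup G) := inf_le_left
  have memD : ∀ {g : G}, g ∈ D ↔ g ∈ (S : Subgroup G) ∧ g • α = α := fun {g} =>
    Subgroup.mem_inf.trans (and_congr Iff.rfl mem_stabilizer_iff)
  -- a non-trivial element has no third fixed point
  have three : ∀ (g : G) (a b c : Ω), g • a = a → g • b = b → g • c = c →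
      a ≠ b → a ≠ c → b ≠ c → g = 1 := by
    intro g a b c ha hb hc hab hac hbc
    by_contra hg
    have h2 := hfix g hg
    have hsub : ({a, b, c} : Set Ω) ⊆ fixedBy Ω g := by
      rintro w (rfl | rfl | rfl) <;> assumption
    have h3 : ({a, b, c} : Set Ω).ncard = 3 := Set.ncard_eq_three.2 ⟨a, b, c, hab, hac, hbc, rfl⟩
    have := Set.ncard_le_ncard hsub (Set.toFinite _)
    rw [h3, ← Nat.card_coe_set_eq] at this
    omega
  have pair : ∀ (g : G) (a b c : Ω), g ≠ 1 → g • a = a → g • b = b → a ≠ b → g • c = c →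
      c = a ∨ c = b := by
    intro g a b c hg ha hb hab hc
    by_contra hne
    rw [not_or] at hne
    exact hg (three g a b c ha hb hc hab (Ne.symm hne.1) (Ne.symm hne.2))
  obtain ⟨d₀, hd₀D, hd₀1⟩ := (Subgroup.ne_bot_iff_exists_ne_one.1 hD1 :
    ∃ d : ↥D, d ≠ 1) |> fun ⟨d, hd⟩ => (⟨d.1, d.2, fun h => hd (Subtype.ext h)⟩ :
      ∃ d, d ∈ D ∧ d ≠ 1)
  -- a central involution of `S`
  have hSnt : Nontrivial ↥(S : Subgroup G) :=
    ⟨⟨⟨d₀, hDS hd₀D⟩, 1, fun h => hd₀1 (congrArg Subtype.val h)⟩⟩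
  obtain ⟨z, hz⟩ := exists_prime_orderOf_dvd_card' (G := Subgroup.center ↥(S : Subgroup G)) 2 (by
    haveI := S.2.center_nontrivial
    obtain ⟨k, hk⟩ := (S.2.to_subgroup _).exists_card_eq (G := ↥(Subgroup.center ↥(S : Subgroup G)))
    rcases Nat.eq_zero_or_pos k with rfl | hk0
    · exact absurd hk (by have := Finite.one_lt_card (α := Subgroup.center ↥(S : Subgroup G)); omega)
    · rw [hk]; exact dvd_pow_self 2 hk0.ne')
  have hzS : ((z : ↥(S : Subgroup G)) : G) ∈ (S : Subgroup G) := z.1.2
  set zg : G := ((z : ↥(S : Subgroup G)) : G) with hzg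
  have hzc : ∀ s ∈ (S : Subgroup G), s * zg = zg * s := fun s hs =>
    congrArg Subtype.val (Subgroup.mem_center_iff.1 z.2 ⟨s, hs⟩)
  have hz2 : orderOf zg = 2 := by rw [hzg, Subgroup.orderOf_coe, Subgroup.orderOf_coe, hz]
  have hz1 : zg ≠ 1 := fun h => by rw [h, orderOf_one] at hz2; omega
  -- either the orbit of `α` is a pair, or `z` moves `α`
  obtain ⟨s₁, hs₁S, hs₁⟩ : ∃ s ∈ (S : Subgroup G), s • α ≠ α := by
    by_contra hc; push Not at hc
    exact hSle fun s hs => mem_stabilizer_iff.2 (hc s hs)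
  obtain ⟨s₀, hs₀S, hs₀α, hDfix⟩ : ∃ s₀ ∈ (S : Subgroup G), s₀ • α ≠ α ∧
      ∀ d ∈ D, d • (s₀ • α) = s₀ • α := by
    by_cases hzα : zg • α = α
    · refine ⟨s₁, hs₁S, hs₁, fun d hd => ?_⟩
      have hzb : zg • (s₁ • α) = s₁ • α := by rw [← mul_smul, ← hzc s₁ hs₁S, mul_smul, hzα]
      by_cases hd1 : d = 1
      · rw [hd1, one_smul]
      have hdb : zg • (d • (s₁ • α)) = d • (s₁ • α) := by
        rw [← mul_smul, ← hzc d (hDS hd), mul_smul, hzb]
      rcases pair zg α (s₁ • α) _ hz1 hzα hzb (Ne.symm hs₁) hdb with h | h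
      · have h' : d • (s₁ • α) = d • α := by rw [h, (memD.1 hd).2]
        exact absurd (MulAction.injective d h') hs₁
      · exact h
    · refine ⟨zg, hzS, hzα, fun d hd => ?_⟩
      rw [← mul_smul, hzc d (hDS hd), mul_smul, (memD.1 hd).2]
  set β : Ω := s₀ • α with hβ
  have hαβ : α ≠ β := Ne.symm hs₀α
  -- elements moving `α` into the pair normalize `D`
  have hDeq : ∀ g ∈ (S : Subgroup G), g • α = β → ∀ d ∈ D, g⁻¹ * d * g ∈ D := by
    intro g hg hgα d hd
    refine memD.2 ⟨mul_mem (mul_mem (inv_mem hg) (hDS hd)) hg, ?_⟩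
    rw [mul_smul, mul_smul, hgα, hDfix d hd, ← hgα, inv_smul_smul]
  by_cases hidx : ∀ s ∈ (S : Subgroup G), s • α = α ∨ s • α = β
  swap
  · -- `D` has order 2
    push Not at hidx
    obtain ⟨t, htS, htα, htβ⟩ := hidx
    have hzα : zg • α ≠ α := fun hzα => by
      have hzb : zg • β = β := by rw [hβ, ← mul_smul, ← hzc s₀ hs₀S, mul_smul, hzα]
      have hzt : zg • (t • α) = t • α := by rw [← mul_smul, ← hzc t htS, mul_smul, hzα]
      rcases pair zg α β _ hz1 hzα hzb hαβ hzt with h | h
      · exact htα h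
      · exact htβ h
    have hzb : zg • α = β := by
      by_contra hne
      have hd : d₀ • (zg • α) = zg • α := by
        rw [← mul_smul, hzc d₀ (hDS hd₀D), mul_smul, (memD.1 hd₀D).2]
      rcases pair d₀ α β _ hd₀1 (memD.1 hd₀D).2 (hDfix d₀ hd₀D) hαβ hd with h | h
      · exact hzα h
      · exact hne h
    -- the pair stabiliser inside `S`
    let U : Subgroup G := (S : Subgroup G) ⊓ Subgroup.normalizer (D : Set G)
    have hU : ∀ u, u ∈ U → u • α = α ∨ u • α = β := by
      intro u hu
      have hu2 := Subgroup.mem_normalizer_iff.1 hu.2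
      have hud : u⁻¹ * d₀ * u ∈ D := by
        refine (hu2 _).2 ?_
        simpa [mul_assoc] using hd₀D
      refine pair d₀ α β _ hd₀1 (memD.1 hd₀D).2 (hDfix d₀ hd₀D) hαβ ?_
      have := (memD.1 hud).2
      rw [mul_smul, mul_smul, inv_smul_eq_iff] at this
      exact this
    have hUne : U < (S : Subgroup G) := by
      refine lt_of_le_of_ne inf_le_left fun h => ?_
      rcases hU t (h.symm ▸ htS) with h' | h'
      · exact htα h'
      · exact htβ h'
    have hnc : NormalizerCondition ↥(S : Subgroup G) := by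
      haveI := S.2.isNilpotent
      exact Group.normalizerCondition_of_isNilpotent
    have hlt := hnc (U.subgroupOf (S : Subgroup G)) (lt_top_iff_ne_top.2 fun h =>
      not_le_of_gt hUne (Subgroup.subgroupOf_eq_top.1 h))
    obtain ⟨g, hgN, hgU⟩ := SetLike.exists_of_lt hlt
    have hgconj : ∀ u ∈ U, (g : G) * u * (g : G)⁻¹ ∈ U := by
      intro u hu
      have := (Subgroup.mem_normalizer_iff.1 hgN ⟨u, hu.1⟩).1 (Subgroup.mem_subgroupOf.2 hu)
      simpa [Subgroup.mem_subgroupOf] using this
    have hgα : (g : G) • α ≠ α ∧ (g : G) • α ≠ β := by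
      refine ⟨fun h => hgU (Subgroup.mem_subgroupOf.2 ⟨g.2, ?_⟩), fun h => hgU
        (Subgroup.mem_subgroupOf.2 ⟨g.2, ?_⟩)⟩
      · exact Subgroup.le_normalizer (memD.2 ⟨g.2, h⟩)
      · have hfwd := hDeq g g.2 h
        have hinj : Function.Injective (fun d : ↥D => (⟨_, hfwd d d.2⟩ : ↥D)) := fun a b hab =>
          Subtype.ext (mul_left_cancel (mul_right_cancel (congrArg Subtype.val hab)))
        refine Subgroup.mem_normalizer_iff.2 fun d => ⟨fun hd => ?_, fun hd => ?_⟩
        · obtain ⟨e, he⟩ := Finite.injective_iff_surjective.1 hinj ⟨d, hd⟩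
          have he' : (g : G)⁻¹ * e * g = d := congrArg Subtype.val he
          rw [← he']; simpa [mul_assoc] using e.2
        · have := hfwd _ hd
          simpa [mul_assoc] using this
    have hDU : D ≤ U := le_inf hDS Subgroup.le_normalizer
    have hout : ∀ d ∈ D, (g : G) * d * (g : G)⁻¹ ∈ D → d = 1 := by
      intro d hd hd'
      by_contra hd1
      have hne : (g : G) * d * (g : G)⁻¹ ≠ 1 := fun h => hd1 (conj_eq_one_iff.1 h)
      have h1 : ((g : G) * d * (g : G)⁻¹) • ((g : G) • α) = (g : G) • α := by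
        rw [mul_smul, mul_smul, inv_smul_smul, (memD.1 hd).2]
      rcases pair _ α β _ hne (memD.1 hd').2 (hDfix _ hd') hαβ h1 with h | h
      · exact hgα.1 h
      · exact hgα.2 h
    have hswap : ∀ d ∈ D, d ≠ 1 → ((g : G) * d * (g : G)⁻¹) • α = β ∧
        ((g : G) * d * (g : G)⁻¹) • β = α := by
      intro d hd hd1
      have hmem := hgconj d (hDU hd)
      have hn : ((g : G) * d * (g : G)⁻¹) • α ≠ α := fun h => hd1 (hout d hd (memD.2 ⟨hmem.1, h⟩))
      have h1 : ((g : G) * d * (g : G)⁻¹) • α = β := (hU _ hmem).resolve_left hn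
      refine ⟨h1, ?_⟩
      have h2 : (zg * ((g : G) * d * (g : G)⁻¹)) • α = zg • β := by rw [mul_smul, h1]
      have h3 : zg • β = α := by
        rw [← hzb, ← mul_smul, show zg * zg = 1 from by
          rw [← pow_two, ← hz2, pow_orderOf_eq_one], one_smul]
      calc ((g : G) * d * (g : G)⁻¹) • β = (((g : G) * d * (g : G)⁻¹) * zg) • α := by
            rw [mul_smul _ zg, hzb]
        _ = α := by rw [hzc _ hmem.1, h2, h3]
    have hmul1 : ∀ d ∈ D, ∀ e ∈ D, d ≠ 1 → e ≠ 1 → d * e = 1 := by
      intro d hd e he hd1 he1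
      refine hout _ (mul_mem hd he) ?_
      have h1 : (g : G) * (d * e) * (g : G)⁻¹ = ((g : G) * d * (g : G)⁻¹) * ((g : G) * e * (g : G)⁻¹) := by
        group
      rw [h1]
      refine memD.2 ⟨mul_mem (hgconj d (hDU hd)).1 (hgconj e (hDU he)).1, ?_⟩
      rw [mul_smul, (hswap e he he1).1, (hswap d hd hd1).2]
    have hd2 : d₀ * d₀ = 1 := hmul1 _ hd₀D _ hd₀D hd₀1 hd₀1
    have honly : ∀ d ∈ D, d = 1 ∨ d = d₀ := fun d hd =>
      (em (d = 1)).imp id fun hd1 => mul_right_cancel ((hmul1 d hd d₀ hd₀D hd1 hd₀1).trans hd2.symm)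
    have hDset : (D : Set G) = {1, d₀} := Set.ext fun d => ⟨fun hd => honly d hd, by
      rintro (rfl | rfl)
      · exact one_mem D
      · exact hd₀D⟩
    have hDcard : Nat.card ↥D = 2 := by
      rw [show Nat.card ↥D = ((D : Set G)).ncard from Nat.card_coe_set_eq _, hDset,
        Set.ncard_pair (Ne.symm hd₀1)]
    refine Or.inr (Or.inl ⟨dihedral_or_sd S.2 ⟨d₀, hDS hd₀D⟩ ?_ ?_ ?_, Or.inl hDcard⟩)
    · rw [← Subgroup.orderOf_coe]
      exact orderOf_eq_prime (by rw [pow_two, hd2]) hd₀1
    · have hset : ((Subgroup.centralizer ({⟨d₀, hDS hd₀D⟩} : Set ↥(S : Subgroup G))) :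
          Set ↥(S : Subgroup G)).image Subtype.val = {1, d₀, zg, zg * d₀} := by
        ext u
        constructor
        · rintro ⟨v, hv, rfl⟩
          have hc : (v : G) * d₀ = d₀ * v :=
            congrArg Subtype.val (Subgroup.mem_centralizer_singleton_iff.1 hv)
          have h1 : d₀ • ((v : G) • α) = (v : G) • α := by
            rw [← mul_smul, ← hc, mul_smul, (memD.1 hd₀D).2]
          rcases pair d₀ α β _ hd₀1 (memD.1 hd₀D).2 (hDfix d₀ hd₀D) hαβ h1 with h | h
          · rcases honly _ (memD.2 ⟨v.2, h⟩) with h' | h' <;> simp [h']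
          · have h' : zg⁻¹ * (v : G) ∈ D := memD.2 ⟨mul_mem (inv_mem hzS) v.2, by
              rw [mul_smul, h, ← hzb, inv_smul_smul]⟩
            rcases honly _ h' with h'' | h''
            · simp [inv_mul_eq_one.1 h'']
            · simp [inv_mul_eq_iff_eq_mul.1 h'']
        · intro hu
          have key : u ∈ (S : Subgroup G) ∧ u * d₀ = d₀ * u := by
            rcases hu with rfl | rfl | rfl | rfl
            · exact ⟨one_mem _, by simp⟩
            · exact ⟨hDS hd₀D, rfl⟩
            · exact ⟨hzS, (hzc d₀ (hDS hd₀D)).symm⟩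
            · exact ⟨mul_mem hzS (hDS hd₀D), by
                rw [← mul_assoc, hzc d₀ (hDS hd₀D), mul_assoc]⟩
          exact ⟨⟨u, key.1⟩, Subgroup.mem_centralizer_singleton_iff.2 (Subtype.ext key.2), rfl⟩
      have hzd : zg ≠ d₀ := fun h => hzα (h ▸ (memD.1 hd₀D).2)
      rw [show Nat.card ↥(Subgroup.centralizer ({⟨d₀, hDS hd₀D⟩} : Set ↥(S : Subgroup G))) =
        ((Subgroup.centralizer ({⟨d₀, hDS hd₀D⟩} : Set ↥(S : Subgroup G))) :
          Set ↥(S : Subgroup G)).ncard from Nat.card_coe_set_eq _,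
        ← Set.ncard_image_of_injective _ Subtype.val_injective, hset,
        Set.ncard_eq_four]
      refine ⟨1, d₀, zg, zg * d₀, Ne.symm hd₀1, Ne.symm hz1, fun h => hzd ?_, Ne.symm hzd,
        fun h => hz1 (mul_eq_right.1 h.symm), fun h => hd₀1 (mul_eq_left.1 h.symm), rfl⟩
      exact mul_right_cancel (h.symm.trans hd2.symm)
    · intro h4 hcyc
      haveI := hcyc
      obtain ⟨k, hk⟩ := hcyc.exists_generator
      -- in a cyclic group there is a single involution
      haveI := Fintype.ofFinite ↥(S : Subgroup G)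
      have h2 := IsCyclic.card_pow_eq_one_le (α := ↥(S : Subgroup G)) (n := 2) two_pos
      have hsub : ({1, ⟨d₀, hDS hd₀D⟩, ⟨zg, hzS⟩} : Finset ↥(S : Subgroup G)) ⊆
          Finset.univ.filter (fun a => a ^ 2 = 1) := by
        intro a ha
        simp only [Finset.mem_insert, Finset.mem_singleton] at ha
        refine Finset.mem_filter.2 ⟨Finset.mem_univ _, ?_⟩
        rcases ha with rfl | rfl | rfl
        · exact one_pow _
        · exact Subtype.ext (by simp [pow_two, hd2])
        · exact Subtype.ext (by simp [← hz2, pow_orderOf_eq_one])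
      have h3 : ({1, ⟨d₀, hDS hd₀D⟩, ⟨zg, hzS⟩} : Finset ↥(S : Subgroup G)).card = 3 := by
        rw [Finset.card_eq_three]
        refine ⟨_, _, _, fun h => hd₀1 (congrArg Subtype.val h).symm,
          fun h => hz1 (congrArg Subtype.val h).symm,
          fun h => hzα ?_, rfl⟩
        rw [← show d₀ = zg from congrArg Subtype.val h, (memD.1 hd₀D).2]
      have h4' := Finset.card_le_card hsub
      rw [h3] at h4'
      have h5 := h4'.trans h2
      omega
  -- from now on the orbit of `α` is the pair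
  have hDmem : ∀ s ∈ (S : Subgroup G), s • α = β → s • β = α := by
    intro s hs h
    rcases hidx (s * s) (mul_mem hs hs) with h' | h'
    · rwa [mul_smul, h] at h'
    · rw [mul_smul, h] at h'
      exact absurd (MulAction.injective s (h.trans h'.symm)) hαβ
  have hrel : D.relIndex (S : Subgroup G) = 2 := by
    refine Subgroup.index_eq_two_iff.2 ⟨⟨s₀, hs₀S⟩, fun b => ?_⟩
    simp only [Subgroup.mem_subgroupOf, Subgroup.coe_mul]
    rcases hidx b b.2 with h | h
    · refine Or.inr ⟨memD.2 ⟨b.2, h⟩, fun hm => hs₀α ?_⟩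
      have := (memD.1 hm).2
      rw [mul_smul] at this
      have hb : (b : G) • β = β := hDfix _ (memD.2 ⟨b.2, h⟩)
      exact absurd (MulAction.injective (b : G) (this.trans h.symm)) hs₀α
    · refine Or.inl ⟨memD.2 ⟨mul_mem b.2 hs₀S, ?_⟩, fun hm => hs₀α ?_⟩
      · rw [mul_smul]; exact hDmem b b.2 h
      · exact h.symm.trans (memD.1 hm).2
  haveI : (D.subgroupOf (S : Subgroup G)).Normal := Subgroup.normal_of_index_eq_two hrel
  by_cases hγ : ∃ x ∈ (S : Subgroup G), x ≠ 1 ∧ ∃ γ, γ ≠ α ∧ γ ≠ β ∧ x • γ = γ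
  · obtain ⟨x, hxS, hx1, γ, hγa, hγb, hxγ⟩ := hγ
    have hxD : ∀ w, w ∈ D → w • γ = γ → w = 1 := fun w hw hwγ =>
      three w α β γ (memD.1 hw).2 (hDfix w hw) hwγ hαβ (Ne.symm hγa) (Ne.symm hγb)
    have hxα : x • α = β := (hidx x hxS).resolve_left fun h =>
      hx1 (hxD x (memD.2 ⟨hxS, h⟩) hxγ)
    have hxx : x * x = 1 := hxD _ (memD.2 ⟨mul_mem hxS hxS, by
      rw [mul_smul, hxα, hDmem x hxS hxα]⟩) (by rw [mul_smul, hxγ, hxγ])
    let C : Subgroup ↥(S : Subgroup G) := Subgroup.centralizer ({⟨x, hxS⟩} : Set ↥(S : Subgroup G))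
    have hox : orderOf (⟨x, hxS⟩ : ↥(S : Subgroup G)) = 2 := by
      rw [← Subgroup.orderOf_coe]; exact orderOf_eq_prime (by rw [pow_two, hxx]) hx1
    -- elements of `C` in `D` are determined by their value at `γ`
    let E : Subgroup ↥(S : Subgroup G) := C ⊓ D.subgroupOf (S : Subgroup G)
    have hE : Nat.card ↥E ≤ 2 := by
      have hinj : Function.Injective (fun e : ↥E => (⟨((e : ↥(S : Subgroup G)) : G) • γ, by
          have hc := congrArg Subtype.val (Subgroup.mem_centralizer_singleton_iff.1 e.2.1)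
          simp only [Subgroup.coe_mul] at hc
          rw [mem_fixedBy, ← mul_smul, ← hc, mul_smul, hxγ]⟩ : ↥(fixedBy Ω x))) := by
        intro a b hab
        have h := congrArg Subtype.val hab
        simp only at h
        have h' := hxD (((b : ↥(S : Subgroup G)) : G)⁻¹ * ((a : ↥(S : Subgroup G)) : G))
          (mul_mem (inv_mem (Subgroup.mem_subgroupOf.1 b.2.2)) (Subgroup.mem_subgroupOf.1 a.2.2))
          (by rw [mul_smul, h, inv_smul_smul])
        exact Subtype.ext (Subtype.ext (inv_mul_eq_one.1 h').symm)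
      exact (Nat.card_le_card_of_injective _ hinj).trans (hfix x hx1)
    have hC4 : Nat.card ↥C ≤ 4 := by
      have h1 : E.relIndex C ≤ 2 := by
        rw [show E.relIndex C = (D.subgroupOf (S : Subgroup G)).relIndex C from
          Subgroup.inf_relIndex_left _ _]
        have hd := Subgroup.relIndex_dvd_index_of_normal (D.subgroupOf (S : Subgroup G)) C
        rw [show (D.subgroupOf (S : Subgroup G)).index = 2 from hrel] at hd
        exact Nat.le_of_dvd two_pos hd
      calc Nat.card ↥C = Nat.card ↥E * E.relIndex C :=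
            ((Subgroup.card_mul_index (E.subgroupOf C)).symm).trans (by
              rw [Nat.card_congr (Subgroup.subgroupOfEquivOfLe inf_le_left).toEquiv]; rfl)
        _ ≤ 2 * 2 := Nat.mul_le_mul hE h1
        _ = 4 := rfl
    have hS4 : 4 ≤ Nat.card ↥(S : Subgroup G) := by
      rw [← Subgroup.card_mul_index (D.subgroupOf (S : Subgroup G)),
        show (D.subgroupOf (S : Subgroup G)).index = 2 from hrel,
        Nat.card_congr (Subgroup.subgroupOfEquivOfLe hDS).toEquiv]
      have : 1 < Nat.card ↥D := (Subgroup.one_lt_card_iff_ne_bot _).2 hD1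
      omega
    have hCx : (⟨x, hxS⟩ : ↥(S : Subgroup G)) ∈ C := Subgroup.mem_centralizer_singleton_iff.2 rfl
    have hCcard : Nat.card ↥C = 4 := by
      by_cases hzx : zg = x
      · have : C = ⊤ := eq_top_iff.2 fun s _ => Subgroup.mem_centralizer_singleton_iff.2
          (Subtype.ext (by simpa [hzx] using hzc s s.2))
        rw [this, Subgroup.card_top] at hC4 ⊢
        omega
      · obtain ⟨k, hk⟩ := (S.2.to_subgroup C).exists_card_eq
        have hbig : 3 ≤ Nat.card ↥C := by
          have hsub : ({1, ⟨x, hxS⟩, ⟨zg, hzS⟩} : Set ↥(S : Subgroup G)) ⊆ (C : Set ↥(S : Subgroup G)) := by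
            rintro a (rfl | rfl | rfl)
            · exact one_mem C
            · exact hCx
            · exact Subgroup.mem_centralizer_singleton_iff.2 (Subtype.ext (hzc x hxS).symm)
          have h3 : ({1, ⟨x, hxS⟩, ⟨zg, hzS⟩} : Set ↥(S : Subgroup G)).ncard = 3 :=
            Set.ncard_eq_three.2 ⟨_, _, _, fun h => hx1 (congrArg Subtype.val h).symm,
              fun h => hz1 (congrArg Subtype.val h).symm,
              fun h => hzx (congrArg Subtype.val h).symm, rfl⟩
          have := Set.ncard_le_ncard hsub (Set.toFinite _)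
          rw [h3] at this
          exact this.trans_eq (Nat.card_coe_set_eq _).symm
        rw [hk] at hbig hC4 ⊢
        match k with
        | 0 => norm_num at hbig
        | 1 => norm_num at hbig
        | 2 => rfl
        | k + 3 =>
          have : (2 : ℕ) ^ 3 ≤ 2 ^ (k + 3) := Nat.pow_le_pow_right two_pos (by omega)
          omega
    refine Or.inr (Or.inl ⟨dihedral_or_sd S.2 ⟨x, hxS⟩ hox hCcard fun h4 hcyc => ?_, Or.inr hrel⟩)
    haveI := hcyc
    haveI := Fintype.ofFinite ↥(S : Subgroup G)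
    -- the element of order two in `D` and `x` are two involutions
    have hD2 : Nat.card ↥D = 2 := by
      have := Subgroup.card_mul_index (D.subgroupOf (S : Subgroup G))
      rw [show (D.subgroupOf (S : Subgroup G)).index = 2 from hrel,
        Nat.card_congr (Subgroup.subgroupOfEquivOfLe hDS).toEquiv, h4] at this
      omega
    have hd2 : d₀ ^ 2 = 1 := by
      have := pow_card_eq_one' (x := (⟨d₀, hd₀D⟩ : ↥D))
      rw [hD2] at this
      exact congrArg Subtype.val this
    have hle := IsCyclic.card_pow_eq_one_le (α := ↥(S : Subgroup G)) (n := 2) two_pos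
    have hsub : ({1, ⟨d₀, hDS hd₀D⟩, ⟨x, hxS⟩} : Finset ↥(S : Subgroup G)) ⊆
        Finset.univ.filter (fun a => a ^ 2 = 1) := by
      intro a ha
      simp only [Finset.mem_insert, Finset.mem_singleton] at ha
      refine Finset.mem_filter.2 ⟨Finset.mem_univ _, ?_⟩
      rcases ha with rfl | rfl | rfl
      · exact one_pow _
      · exact Subtype.ext (by simp [hd2])
      · exact Subtype.ext (by simp [pow_two, hxx])
    have h3 : ({1, ⟨d₀, hDS hd₀D⟩, ⟨x, hxS⟩} : Finset ↥(S : Subgroup G)).card = 3 := by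
      rw [Finset.card_eq_three]
      refine ⟨_, _, _, fun h => hd₀1 (congrArg Subtype.val h).symm,
        fun h => hx1 (congrArg Subtype.val h).symm,
        fun h => hαβ ?_, rfl⟩
      have h' : d₀ = x := congrArg Subtype.val h
      rw [← hxα, ← h', (memD.1 hd₀D).2]
    have h4' := (Finset.card_le_card hsub).trans hle
    omega
  -- the regular case
  push Not at hγ
  have hS4 : 4 ≤ Nat.card ↥(S : Subgroup G) := by
    rw [← Subgroup.card_mul_index (D.subgroupOf (S : Subgroup G)),
      show (D.subgroupOf (S : Subgroup G)).index = 2 from hrel,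
      Nat.card_congr (Subgroup.subgroupOfEquivOfLe hDS).toEquiv]
    have : 1 < Nat.card ↥D := (Subgroup.one_lt_card_iff_ne_bot _).2 hD1
    omega
  have hinv : ∀ s ∈ (S : Subgroup G), ∀ w, s • w = α ∨ s • w = β → w = α ∨ w = β := by
    intro s hs w hw
    have hSs : ∀ u ∈ (S : Subgroup G), u • β = α ∨ u • β = β := fun u hu => by
      rcases hidx (u * s₀) (mul_mem hu hs₀S) with h | h <;> rw [mul_smul] at h
      · exact Or.inl h
      · exact Or.inr h
    rcases hw with h | h <;> rw [← eq_inv_smul_iff] at h <;> rw [h]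
    · exact hidx _ (inv_mem hs)
    · exact hSs _ (inv_mem hs)
  have horb : MulAction.orbit ↥(S : Subgroup G) α = {α, β} := by
    ext w
    constructor
    · rintro ⟨s, rfl⟩
      exact hidx s s.2
    · rintro (rfl | rfl)
      · exact mem_orbit_self _
      · exact ⟨⟨s₀, hs₀S⟩, rfl⟩
  have hreg : ∀ w, w ≠ α → w ≠ β → Nat.card (MulAction.orbit ↥(S : Subgroup G) w) =
      Nat.card ↥(S : Subgroup G) := by
    intro w hwa hwb
    have hbot : MulAction.stabilizer ↥(S : Subgroup G) w = ⊥ := (Subgroup.eq_bot_iff_forall _).2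
      fun s hs => Subtype.ext (by_contra fun hs1 =>
        hγ s s.2 hs1 w hwa hwb (mem_stabilizer_iff.1 hs))
    rw [Nat.card_coe_set_eq, ← MulAction.index_stabilizer, hbot, Subgroup.index_bot]
  -- the number of points outside the pair
  have hn : Nat.card ↥(S : Subgroup G) ∣ Nat.card Ω - 2 := by
    let Qs := Quotient (MulAction.orbitRel ↥(S : Subgroup G) Ω)
    haveI := Fintype.ofFinite Qs
    have hsum : Nat.card Ω = ∑ q : Qs, Nat.card (MulAction.orbit ↥(S : Subgroup G) q.out) := by
      rw [← Nat.card_sigma]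
      exact Nat.card_congr (MulAction.selfEquivSigmaOrbits ↥(S : Subgroup G) Ω)
    rw [hsum, ← Finset.add_sum_erase Finset.univ _ (Finset.mem_univ (Quotient.mk'' α : Qs))]
    have hmem : ∀ q : Qs, (q.out = α ∨ q.out = β) ↔ q = Quotient.mk'' α := by
      intro q
      constructor
      · intro h
        rw [← Quotient.out_eq' q]
        refine Quotient.eq''.2 (MulAction.orbitRel_apply.2 ?_)
        rw [horb]; exact h
      · rintro rfl
        have h := MulAction.orbitRel_apply.1 (Quotient.exact' (Quotient.out_eq' (Quotient.mk'' α : Qs)))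
        rw [horb] at h
        exact h
    have hfirst : Nat.card (MulAction.orbit ↥(S : Subgroup G) (Quotient.mk'' α : Qs).out) = 2 := by
      rw [MulAction.orbit_eq_iff.2 (show (Quotient.mk'' α : Qs).out ∈
        MulAction.orbit ↥(S : Subgroup G) α by rw [horb]; exact (hmem _).2 rfl), horb,
        Nat.card_coe_set_eq, Set.ncard_pair hαβ]
    rw [hfirst, Nat.add_sub_cancel_left]
    refine Finset.dvd_sum fun q hq => ?_
    have hne := (Finset.mem_erase.1 hq).1
    rw [hreg _ (fun h => hne ((hmem q).1 (Or.inl h))) (fun h => hne ((hmem q).1 (Or.inr h)))]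
  refine Or.inr (Or.inr (Or.inl ⟨hS4, ⟨α, by rw [horb, Nat.card_coe_set_eq, Set.ncard_pair hαβ],
    fun w hw => ?_⟩, ?_⟩))
  · rw [horb, Set.mem_insert_iff, Set.mem_singleton_iff, not_or] at hw
    exact hreg w hw.1 hw.2
  -- orders of elements of `S`
  have hpow : ∀ s ∈ (S : Subgroup G), ∃ k, orderOf s = 2 ^ k ∧ orderOf s ∣ Nat.card ↥(S : Subgroup G) := by
    intro s hs
    obtain ⟨k, hk⟩ := IsPGroup.iff_orderOf.1 S.2 ⟨s, hs⟩
    rw [← Subgroup.orderOf_coe] at hk
    exact ⟨k, hk, Subgroup.orderOf_dvd_natCard _ hs⟩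
  have htwo : ∀ s ∈ (S : Subgroup G), orderOf s ≠ Nat.card ↥(S : Subgroup G) →
      2 * orderOf s ∣ Nat.card ↥(S : Subgroup G) := by
    intro s hs hne
    obtain ⟨k, hk, hdvd⟩ := hpow s hs
    obtain ⟨K, hK⟩ := S.2.exists_card_eq
    rw [hk, hK] at hne hdvd ⊢
    have hkK : k ≤ K := (Nat.pow_dvd_pow_iff_le_right (by norm_num)).1 hdvd
    have hkne : k ≠ K := fun h => hne (by rw [h])
    rw [← pow_succ']
    exact pow_dvd_pow 2 (by omega)
  have hDlt : ∀ d ∈ D, orderOf d ≠ Nat.card ↥(S : Subgroup G) := by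
    intro d hd he
    have h1 := Nat.le_of_dvd Nat.card_pos (Subgroup.orderOf_dvd_natCard _ hd)
    have h2 := Subgroup.card_mul_index (D.subgroupOf (S : Subgroup G))
    rw [show (D.subgroupOf (S : Subgroup G)).index = 2 from hrel,
      Nat.card_congr (Subgroup.subgroupOfEquivOfLe hDS).toEquiv] at h2
    omega
  have heven : ∀ s ∈ (S : Subgroup G), s ≠ 1 → 0 < orderOf s ∧ Even (orderOf s) := by
    intro s hs hs1
    obtain ⟨k, hk, -⟩ := hpow s hs
    rcases Nat.eq_zero_or_pos k with rfl | hk0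
    · exact absurd (orderOf_eq_one_iff.1 (by rw [hk, pow_zero])) hs1
    · exact ⟨orderOf_pos s, hk ▸ (Nat.even_pow.2 ⟨even_two, hk0.ne'⟩)⟩
  -- a normal subgroup of index two cutting `S` in `D`
  obtain ⟨N, hNn, hNi, hDN⟩ : ∃ N : Subgroup G, N.Normal ∧ N.index = 2 ∧ D ≤ N := by
    haveI := Fintype.ofFinite G
    by_cases hcyc : orderOf s₀ = Nat.card ↥(S : Subgroup G)
    · -- regular representation
      let f : G →* ℤˣ := Equiv.Perm.sign.comp (MulAction.toPermHom G G)
      have hf : ∀ g ∈ (S : Subgroup G), g ≠ 1 → f g = (-1) ^ (Nat.card G / orderOf g) := by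
        intro g hg hg1
        have h0 : Nat.card ↥(Function.fixedPoints (MulAction.toPermHom G G g)) = 0 := by
          rw [Nat.card_eq_zero]
          refine Or.inl ⟨fun w => hg1 ?_⟩
          exact mul_eq_right.1 (show g * (w : G) = w from w.2)
        show Equiv.Perm.sign (MulAction.toPermHom G G g) = _
        rw [sign_semiregular _ (orderOf_pos g) (heven g hg hg1).2
          (by rw [← map_pow, pow_orderOf_eq_one, map_one]) (fun w _ j hj0 hj hw => ?_), h0, Nat.sub_zero]
        rw [← map_pow] at hw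
        exact absurd (mul_eq_right.1 (show g ^ j * w = w from hw))
          (pow_ne_one_of_lt_orderOf hj0.ne' hj)
      have hGS : Nat.card G = (S : Subgroup G).index * Nat.card ↥(S : Subgroup G) := by
        rw [mul_comm, Subgroup.card_mul_index]
      have hodd : Odd (S : Subgroup G).index :=
        Nat.not_even_iff_odd.1 fun he => S.not_dvd_index (even_iff_two_dvd.1 he)
      refine ⟨f.ker, inferInstance, index_two f (s := s₀) ?_, fun d hd => ?_⟩
      · rw [hf s₀ hs₀S (fun h => hs₀α (by rw [hβ, h, one_smul])), hcyc, hGS,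
          Nat.mul_div_cancel _ Nat.card_pos, hodd.neg_one_pow]
      · rw [MonoidHom.mem_ker]
        by_cases hd1 : d = 1
        · rw [hd1, map_one]
        obtain ⟨m, hm⟩ := htwo d (hDS hd) (hDlt d hd)
        rw [hf d (hDS hd) hd1, hGS, hm, show (S : Subgroup G).index * (2 * orderOf d * m) =
          (S : Subgroup G).index * (2 * m) * orderOf d by ring,
          Nat.mul_div_cancel _ (orderOf_pos d)]
        exact Even.neg_one_pow ⟨(S : Subgroup G).index * m, by ring⟩
    · let f : G →* ℤˣ := Equiv.Perm.sign.comp (MulAction.toPermHom G Ω)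
      obtain ⟨m, hm⟩ := hn
      -- a permutation fixing exactly the pair, agreeing elsewhere with an element of `S`
      have key : ∀ (g : G) (σ : Equiv.Perm Ω), g ∈ (S : Subgroup G) → g ≠ 1 →
          orderOf g ≠ Nat.card ↥(S : Subgroup G) → σ α = α → σ β = β →
          (∀ w, w ≠ α → w ≠ β → σ w = g • w) → Equiv.Perm.sign σ = 1 := by
        intro g σ hg hg1 hne hσa hσb hσ
        have hpw : ∀ (j : ℕ) w, w ≠ α → w ≠ β → (σ ^ j) w = g ^ j • w := by
          intro j
          induction j with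
          | zero => intro w _ _; simp
          | succ j ih =>
            intro w hwa hwb
            rw [pow_succ', Equiv.Perm.mul_apply, ih w hwa hwb, pow_succ', mul_smul]
            refine hσ _ (fun h => ?_) (fun h => ?_)
            · rcases hinv _ (pow_mem hg j) w (Or.inl h) with h' | h'
              · exact hwa h'
              · exact hwb h'
            · rcases hinv _ (pow_mem hg j) w (Or.inr h) with h' | h'
              · exact hwa h'
              · exact hwb h'
        have hout' : ∀ w, σ w ≠ w → w ≠ α ∧ w ≠ β := fun w hw =>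
          ⟨fun h => hw (h ▸ hσa), fun h => hw (h ▸ hσb)⟩
        have hfp : Nat.card ↥(Function.fixedPoints σ) = 2 := by
          rw [Nat.card_coe_set_eq, ← Set.ncard_pair hαβ]
          congr 1
          ext w
          refine ⟨fun hw => ?_, ?_⟩
          · by_contra hc
            rw [Set.mem_insert_iff, Set.mem_singleton_iff, not_or] at hc
            exact hγ g hg hg1 w hc.1 hc.2 ((hσ w hc.1 hc.2).symm.trans hw)
          · rintro (rfl | rfl)
            · exact hσa
            · exact hσb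
        obtain ⟨m', hm'⟩ := htwo g hg hne
        rw [sign_semiregular σ (orderOf_pos g) (heven g hg hg1).2 ?_ ?_, hfp, hm, hm',
          show 2 * orderOf g * m' * m = 2 * m' * m * orderOf g by ring,
          Nat.mul_div_cancel _ (orderOf_pos g)]
        · exact Even.neg_one_pow ⟨m' * m, by ring⟩
        · ext w
          by_cases hwa : w = α
          · subst hwa
            exact Equiv.Perm.pow_apply_eq_self_of_apply_eq_self hσa _
          by_cases hwb : w = β
          · subst hwb
            exact Equiv.Perm.pow_apply_eq_self_of_apply_eq_self hσb _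
          rw [hpw _ w hwa hwb, pow_orderOf_eq_one, one_smul, Equiv.Perm.one_apply]
        · intro w hw j hj0 hj hc
          obtain ⟨hwa, hwb⟩ := hout' w hw
          rw [hpw j w hwa hwb] at hc
          exact hγ (g ^ j) (pow_mem hg j) (pow_ne_one_of_lt_orderOf hj0.ne' hj) w hwa hwb hc
      refine ⟨f.ker, inferInstance, index_two f (s := s₀) ?_, fun d hd => ?_⟩
      · have h1 := key s₀ (Equiv.swap α β * MulAction.toPermHom G Ω s₀) hs₀S
          (fun h => hs₀α (by rw [hβ, h, one_smul])) hcyc (by simp [hβ]) (by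
            simp [hDmem s₀ hs₀S rfl]) (fun w hwa hwb => by
            rw [Equiv.Perm.mul_apply]
            refine Equiv.swap_apply_of_ne_of_ne (fun h => ?_) (fun h => ?_)
            · rcases hinv _ hs₀S w (Or.inl h) with h' | h'
              · exact hwa h'
              · exact hwb h'
            · rcases hinv _ hs₀S w (Or.inr h) with h' | h'
              · exact hwa h'
              · exact hwb h')
        rw [map_mul, Equiv.Perm.sign_swap hαβ] at h1
        show Equiv.Perm.sign (MulAction.toPermHom G Ω s₀) = -1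
        rcases Int.units_eq_one_or (Equiv.Perm.sign (MulAction.toPermHom G Ω s₀)) with h | h
        · rw [h] at h1; exact absurd h1 (by decide)
        · exact h
      · rw [MonoidHom.mem_ker]
        by_cases hd1 : d = 1
        · rw [hd1, map_one]
        exact key d (MulAction.toPermHom G Ω d) (hDS hd) hd1 (hDlt d hd) (memD.1 hd).2
          (hDfix d hd) (fun _ _ _ => rfl)
  haveI := hNn
  refine ⟨N, hNn, Or.inl hNi, ?_⟩
  let K : Subgroup G := N ⊓ (stabilizer G α ⊓ stabilizer G β)
  have hDK : D ≤ K := le_inf hDN (le_inf inf_le_right fun d hd => hDfix d hd)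
  refine ⟨K.subgroupOf N, fun h => hd₀1 ?_, fun h => hd₀1 ?_, fun g hg => ?_⟩
  · have := (Subgroup.subgroupOf_eq_bot.1 h).le_bot
    exact Subgroup.mem_bot.1 (this ⟨hDK hd₀D, hDN hd₀D⟩)
  · have hNfix : ∀ u ∈ N, u • α = α := fun u hu =>
      mem_stabilizer_iff.1 ((Subgroup.subgroupOf_eq_top.1 h hu).2.1)
    refine FaithfulSMul.eq_of_smul_eq_smul (α := Ω) fun w => ?_
    obtain ⟨t, rfl⟩ := MulAction.exists_smul_eq G α w
    have := hNfix _ (hNn.conj_mem _ (hDN hd₀D) t⁻¹)
    rw [inv_inv, mul_smul, mul_smul, inv_smul_eq_iff] at this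
    rw [one_smul, this]
  · rw [Subgroup.eq_bot_iff_forall]
    intro w hw
    obtain ⟨hw1, hw2⟩ := Subgroup.mem_inf.1 hw
    rw [Subgroup.mem_pointwise_smul_iff_inv_smul_mem, ← map_inv, MulAut.smul_def,
      MulAut.conj_apply, inv_inv] at hw2
    rw [Subgroup.mem_subgroupOf] at hw1 hw2
    by_contra hw0
    have hw0' : (w : G) ≠ 1 := fun h => hw0 (Subtype.ext h)
    have hf : ∀ c : Ω, ((g⁻¹ * w * g : ↥N) : G) • c = c → (w : G) • ((g : G) • c) = (g : G) • c := by
      intro c hc
      simp only [Subgroup.coe_mul, InvMemClass.coe_inv, mul_smul, inv_smul_eq_iff] at hc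
      exact hc
    have hga := pair _ α β _ hw0' hw1.2.1 hw1.2.2 hαβ (hf α hw2.2.1)
    have hgb := pair _ α β _ hw0' hw1.2.1 hw1.2.2 hαβ (hf β hw2.2.2)
    have hgne : (g : G) • α ≠ (g : G) • β := fun h => hαβ (MulAction.injective _ h)
    rcases hga with hga | hga
    · have hgb' : (g : G) • β = β := hgb.resolve_left fun h => hgne (hga.trans h.symm)
      exact hg (Subgroup.mem_subgroupOf.2 ⟨g.2, hga, hgb'⟩)
    -- a swap cannot lie in `N`
    have hgb' : (g : G) • β = α := hgb.resolve_right fun h => hgne (hga.trans h.symm)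
    let W : Subgroup G :=
      { carrier := {u | u ∈ N ∧ ((u • α = α ∧ u • β = β) ∨ (u • α = β ∧ u • β = α))}
        one_mem' := ⟨one_mem N, Or.inl ⟨one_smul _ _, one_smul _ _⟩⟩
        mul_mem' := fun {a b} ha hb => ⟨mul_mem ha.1 hb.1, by
          rcases ha.2 with ⟨a1, a2⟩ | ⟨a1, a2⟩ <;> rcases hb.2 with ⟨b1, b2⟩ | ⟨b1, b2⟩ <;>
            simp [mul_smul, a1, a2, b1, b2]⟩
        inv_mem' := fun {a} ha => ⟨inv_mem ha.1, by
          rcases ha.2 with ⟨a1, a2⟩ | ⟨a1, a2⟩
          · exact Or.inl ⟨inv_smul_eq_iff.2 a1.symm, inv_smul_eq_iff.2 a2.symm⟩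
          · exact Or.inr ⟨inv_smul_eq_iff.2 a2.symm, inv_smul_eq_iff.2 a1.symm⟩⟩ }
    have hDW : D ≤ W := fun d hd => ⟨hDN hd, Or.inl ⟨(memD.1 hd).2, hDfix d hd⟩⟩
    have hWodd : ¬ 2 ∣ (D.subgroupOf W).index := by
      intro h
      have h1 : D.relIndex W ∣ D.relIndex N :=
        ⟨_, (Subgroup.relIndex_mul_relIndex D W N hDW (fun u hu => hu.1)).symm⟩
      have h2 : D.relIndex N = (S : Subgroup G).index := by
        have e1 := Subgroup.relIndex_mul_index hDN
        have e2 := Subgroup.relIndex_mul_index hDS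
        rw [hNi] at e1
        rw [show D.relIndex (S : Subgroup G) = 2 from hrel] at e2
        omega
      exact S.not_dvd_index (h.trans (h2 ▸ h1))
    -- the 2-part of `g` still swaps
    obtain ⟨a, m, hm, hgm⟩ := Nat.exists_eq_two_pow_mul_odd (orderOf_pos (g : G)).ne'
    let v : G := (g : G) ^ m
    have hgW : (g : G) ∈ W := ⟨g.2, Or.inr ⟨hga, hgb'⟩⟩
    have hvα : v • α = β := by
      obtain ⟨k, rfl⟩ := hm
      have hsq : ∀ i : ℕ, ((g : G) ^ (2 * i)) • α = α := by
        intro i
        induction i with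
        | zero => simp
        | succ i ih => rw [mul_add, mul_one, add_comm, pow_add, mul_smul, ih, pow_two, mul_smul, hga, hgb']
      show ((g : G) ^ (2 * k + 1)) • α = β
      rw [pow_succ', mul_smul, hsq, hga]
    have hvpow : v ^ 2 ^ a = 1 := by
      show ((g : G) ^ m) ^ 2 ^ a = 1
      rw [← pow_mul, mul_comm, ← hgm, pow_orderOf_eq_one]
    have hP : IsPGroup 2 ↥(Subgroup.zpowers (⟨v, pow_mem hgW m⟩ : ↥W)) := by
      obtain ⟨b, _, hb⟩ := (Nat.dvd_prime_pow Nat.prime_two).1 (orderOf_dvd_of_pow_eq_one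
        (x := (⟨v, pow_mem hgW m⟩ : ↥W)) (Subtype.ext hvpow : (⟨v, pow_mem hgW m⟩ : ↥W) ^ 2 ^ a = 1))
      exact IsPGroup.of_card (n := b) (by rw [Nat.card_zpowers, hb])
    obtain ⟨Q, hQ⟩ := hP.exists_le_sylow
    have hDp : IsPGroup 2 ↥(D.subgroupOf W) :=
      (S.2.to_le hDS).of_equiv (Subgroup.subgroupOfEquivOfLe hDW).symm
    obtain ⟨u, hu⟩ := MulAction.exists_smul_eq ↥W Q (hDp.toSylow hWodd)
    have hmem : u * ⟨v, pow_mem hgW m⟩ * u⁻¹ ∈ D.subgroupOf W := by
      have h1 : MulAut.conj u • (⟨v, pow_mem hgW m⟩ : ↥W) ∈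
          MulAut.conj u • (Q : Subgroup ↥W) :=
        Subgroup.smul_mem_pointwise_smul _ _ _ (hQ (Subgroup.mem_zpowers _))
      rw [← Sylow.pointwise_smul_def] at h1
      change MulAut.conj u • (⟨v, pow_mem hgW m⟩ : ↥W) ∈ ((u • Q : Sylow 2 ↥W) : Subgroup ↥W) at h1
      have h2 : ((u • Q : Sylow 2 ↥W) : Subgroup ↥W) = D.subgroupOf W := by rw [hu]; rfl
      simpa [h2] using h1
    rw [Subgroup.mem_subgroupOf] at hmem
    have hua : ∀ c, c = α ∨ c = β → ((u : G) * v * (u : G)⁻¹) • c = c := by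
      rintro c (rfl | rfl)
      · exact (memD.1 hmem).2
      · exact hDfix _ hmem
    have hu' := ((inv_mem u.2 : (u : G)⁻¹ ∈ W)).2
    obtain ⟨c, hc, hcα⟩ : ∃ c, (c = α ∨ c = β) ∧ (u : G) • α = c :=
      ⟨_, by rcases (u.2 : (u : G) ∈ W).2 with ⟨h, _⟩ | ⟨h, _⟩ <;> simp [h], rfl⟩
    have := hua c hc
    rw [← hcα, mul_smul, mul_smul, inv_smul_smul, hvα] at this
    exact hαβ (MulAction.injective (u : G) this).symm

end Cfsg.Agent.S3390
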