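import Cfsg.Statements.S5128
import Cfsg.Agent.Fusion.Factor
import Cfsg.Agent.Fusion.NormalCriteria
import Cfsg.Agent.Solvable.Basics

set_option autoImplicit false
open Cfsg Cfsg.FusionSystem CfsgLib.Fusion

namespace Cfsg.Agent.S5128

/-- In a saturated fusion system over a finite p-group S, the product of two strongly closed subgroups is strongly closed. -/
theorem result {Ω : Type*} [Group Ω] {S : Subgroup Ω} [Finite S] (p : ℕ) [Fact p.Prime] (hS : IsPGroup p S) (F : Cfsg.FusionSystem S) (hF : F.IsSaturated p) (T₁ T₂ : Subgroup Ω) (h₁ : F.StronglyClosed T₁) (h₂ : F.StronglyClosed T₂) : F.StronglyClosed (T₁ ⊔ T₂) := by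
  have hT1n : S ≤ Subgroup.normalizer (T₁ : Set Ω) := stronglyClosed_normal_in_S h₁
  have hN : (T₁.subgroupOf S).Normal := ⟨fun x hx g =>
    (Subgroup.mem_normalizer_iff.1 (hT1n g.2) x).1 hx⟩
  let θ : S →* S ⧸ T₁.subgroupOf S := QuotientGroup.mk' _
  have hk : ∀ s : S, θ s = 1 ↔ (s : Ω) ∈ T₁ := fun s => QuotientGroup.eq_one_iff s
  have hr : θ.range = ⊤ := MonoidHom.range_eq_top.2 (QuotientGroup.mk'_surjective _)
  have hE : F.IsFactorSystem T₁ θ (factorSystem h₁ hk hr) := factorSystem_spec h₁ hk hr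
  refine ⟨sup_le h₁.1 h₂.1, fun R hR φ hφ x => ?_⟩
  obtain ⟨φ', hφ', hi⟩ := induces_of_mem h₁ hE p hS hF hφ
  obtain ⟨χ, hχ, hχi⟩ := exists_lift_hom hE hφ'
  have hxS : (x : Ω) ∈ S := le_of_mem_hom hφ x.2
  have hsup : ∀ y, y ∈ T₁ ⊔ T₂ ↔ ∃ b ∈ T₂, ∃ k ∈ T₁, b * k = y := fun y => by
    rw [sup_comm]
    exact CfsgLib.Solvable.mem_sup_of_le_normalizer (h₂.1.trans hT1n)
  obtain ⟨b, hb, k, hk1, hbk⟩ := (hsup x).1 (hR x.2)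
  have hbS : b ∈ S := h₂.1 hb
  have hθb : θ ⟨b, hbS⟩ = θ ⟨x, hxS⟩ := QuotientGroup.eq.2 (Subgroup.mem_subgroupOf.2 (by
    show b⁻¹ * (x : Ω) ∈ T₁
    rw [← hbk, inv_mul_cancel_left]; exact hk1))
  have hbP : b ∈ preimg θ (img θ R) := mem_preimg.2 ⟨hbS, by
    rw [hθb]; exact apply_mem_img (ι := θ) (x := ⟨x, hxS⟩) x.2⟩
  have hχb : χ ⟨b, hbP⟩ ∈ T₂ := by
    have h1 := h₂.2 (preimg θ (img θ R) ⊓ T₂) inf_le_right _ (restrict_mem hχ inf_le_left) ⟨b, hbP, hb⟩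
    exact h1
  have e1 : φ' ⟨θ ⟨x, hxS⟩, apply_mem_img (ι := θ) (x := ⟨x, hxS⟩) x.2⟩ = θ ⟨φ x, apply_mem_S hφ x⟩ :=
    induced_apply hi x
  have e2 : φ' ⟨θ ⟨b, hbS⟩, (mem_preimg.1 hbP).2⟩ = θ ⟨χ ⟨b, hbP⟩, apply_mem_S hχ _⟩ :=
    induced_apply hχi ⟨b, hbP⟩
  have e3 : θ ⟨χ ⟨b, hbP⟩, apply_mem_S hχ _⟩ = θ ⟨φ x, apply_mem_S hφ x⟩ :=
    e2.symm.trans ((congrArg φ' (Subtype.ext hθb)).trans e1)
  have h4 : (χ ⟨b, hbP⟩)⁻¹ * φ x ∈ T₁ := Subgroup.mem_subgroupOf.1 (QuotientGroup.eq.1 e3)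
  exact (hsup _).2 ⟨_, hχb, _, h4, mul_inv_cancel_left _ _⟩

end Cfsg.Agent.S5128
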