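import Cfsg.Statements.S3438
import Cfsg.Agent.SpecBlow.MatCode
import Cfsg.Agent.Unitary.Special
import Mathlib.Tactic.NormNum.Prime
import Mathlib.LinearAlgebra.Matrix.Adjugate

set_option autoImplicit false
open Cfsg

namespace Cfsg.Agent.S3438

open Matrix

/-- From `X^e - 1 = g f` in every commutative ring with `3 = 0` and `i^2 = -1`. -/
theorem pow_eq_one_of {F : Type*} [Field F] {M : Matrix (Fin 3) (Fin 3) F} {J t s : F}
    (hch : M ^ 3 - t • M ^ 2 + s • M - 1 = 0) (e : ℕ) (g : Polynomial F)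
    (he : (Polynomial.X ^ e - 1 : Polynomial F) =
      g * (Polynomial.X ^ 3 - Polynomial.C t * Polynomial.X ^ 2 + Polynomial.C s * Polynomial.X - 1)) :
    M ^ e = 1 := by
  have h2 := congrArg (Polynomial.aeval M) he
  simp only [map_add, map_sub, map_mul, map_pow, Polynomial.aeval_X, Polynomial.aeval_C, map_one,
    ← Algebra.smul_def] at h2
  rw [hch, mul_zero, sub_eq_zero] at h2
  exact h2

theorem cayley {F : Type*} [Field F] (M : Matrix (Fin 3) (Fin 3) F) (hd : M.det = 1) :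
    M ^ 3 - M.trace • M ^ 2 + M.adjugate.trace • M - 1 = 0 := by
  have h : M.adjugate = M ^ 2 - M.trace • M + M.adjugate.trace • (1 : Matrix (Fin 3) (Fin 3) F) := by
    ext i j
    fin_cases i <;> fin_cases j <;>
      simp [Matrix.adjugate_fin_three, Matrix.trace_fin_three, pow_two, Matrix.mul_apply,
        Fin.sum_univ_three] <;> ring
  have h2 := Matrix.mul_adjugate M
  conv at h2 => lhs; rw [h]
  rw [hd, one_smul, mul_add, mul_sub, Matrix.mul_smul, Matrix.mul_smul, mul_one, ← pow_two,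
    ← pow_succ'] at h2
  rw [h2, sub_self]

theorem conj_transpose {F : Type*} [Field F] {M : Matrix.SpecialLinearGroup (Fin 3) F}
    (h : M ∈ Cfsg.SU 3 F 3) : (M.1)ᵀ * M.1.map (fun x => x ^ 3) = 1 := by
  ext a b
  have h1 := h (Pi.single a 1) (Pi.single b 1)
  simp only [Cfsg.hermForm, Matrix.mulVec_single_one] at h1
  rw [Matrix.mul_apply]
  refine Eq.trans ?_ (h1.trans ?_)
  · rfl
  · rw [Matrix.one_apply, Finset.sum_eq_single a]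
    · by_cases hab : a = b <;> simp [hab, Pi.single_apply]
    · intro c _ hc; simp [Pi.single_apply, hc]
    · simp

variable {F : Type*} [Field F] [Fintype F] (hF : Fintype.card F = 9)

include hF in
theorem charP_three : CharP F 3 := by
  obtain ⟨q, hq⟩ := CharP.exists F
  have hqp : q.Prime := CharP.char_is_prime F q
  obtain ⟨n, -, hn⟩ := FiniteField.card F q
  rw [hF] at hn
  have h3 : q ∣ 3 ^ 2 := by rw [show 3 ^ 2 = 9 from rfl, hn]; exact dvd_pow_self q n.pos.ne'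
  obtain rfl : q = 3 := (Nat.prime_dvd_prime_iff_eq hqp Nat.prime_three).1 (hqp.dvd_of_dvd_pow h3)
  exact hq

include hF in
theorem trace_cubed (M : Matrix.SpecialLinearGroup (Fin 3) F) (h : M ∈ Cfsg.SU 3 F 3) :
    M.1.adjugate.trace = M.1.trace ^ 3 := by
  have := charP_three hF
  have : Fact (Nat.Prime 3) := ⟨Nat.prime_three⟩
  set N : Matrix (Fin 3) (Fin 3) F := M.1.map (fun x => x ^ 3) with hN
  have hmul : M.1 * Nᵀ = 1 := by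
    have h2 := congrArg Matrix.transpose (conj_transpose h)
    rw [Matrix.transpose_mul, Matrix.transpose_transpose, Matrix.transpose_one] at h2
    exact mul_eq_one_comm.1 h2
  have hadj : M.1.adjugate = Nᵀ := by
    have h3 : M.1.adjugate * M.1 = 1 := by rw [Matrix.adjugate_mul, M.2, one_smul]
    rw [← mul_one M.1.adjugate, ← hmul, ← mul_assoc, h3, one_mul]
  rw [hadj, Matrix.trace_transpose, Matrix.trace, Matrix.trace, ← frobenius_def, map_sum]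
  rfl

/-- `a + b i` from a pair. -/
def val (I : F) (z : ℕ × ℕ) : F := (z.1 : F) + (z.2 : F) * I

include hF in
theorem exists_I : ∃ I : F, I ^ 2 = -1 := by
  have := (FiniteField.isSquare_neg_one_iff (F := F)).2 (by rw [hF]; norm_num)
  obtain ⟨r, hr⟩ := this
  exact ⟨r, by rw [pow_two]; exact hr.symm⟩

theorem sq_ne_neg_one : ∀ r : ZMod 3, r ^ 2 ≠ -1 := by decide

include hF in
theorem val_bijective {I : F} (hI : I ^ 2 = -1) :
    Function.Bijective (fun z : Fin 3 × Fin 3 => val I (z.1.val, z.2.val)) := by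
  classical
  have := charP_three hF
  have : Fact (Nat.Prime 3) := ⟨Nat.prime_three⟩
  have hcast : ∀ x : ℕ, (x : F) = ZMod.castHom (dvd_refl 3) F (x : ZMod 3) := fun x => (map_natCast _ _).symm
  rw [Fintype.bijective_iff_injective_and_card]
  refine ⟨fun z w h => ?_, by rw [hF]; simp⟩
  simp only [val, hcast] at h
  set c := ZMod.castHom (dvd_refl 3) F with hc
  have hinj : Function.Injective c := c.injective
  by_cases hb : z.2 = w.2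
  · rw [hb] at h
    have h4 := hinj (add_right_cancel h)
    rw [ZMod.natCast_eq_natCast_iff', Nat.mod_eq_of_lt z.1.2, Nat.mod_eq_of_lt w.1.2] at h4
    exact Prod.ext (Fin.ext h4) hb
  exfalso
  have hne : ((z.2.val : ZMod 3) - (w.2.val : ZMod 3)) ≠ 0 := by
    rw [sub_ne_zero, Ne, ZMod.natCast_eq_natCast_iff', Nat.mod_eq_of_lt z.2.2, Nat.mod_eq_of_lt w.2.2]
    exact fun e => hb (Fin.ext e)
  set r : ZMod 3 := ((w.1.val : ZMod 3) - (z.1.val : ZMod 3)) / ((z.2.val : ZMod 3) - (w.2.val : ZMod 3))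
  have hr : I = c r := by
    rw [map_div₀, eq_div_iff ((map_ne_zero c).2 hne), map_sub, map_sub]
    linear_combination h
  have hneg : r ^ 2 = -1 := hinj (by rw [map_pow, ← hr, hI, map_neg, map_one])
  exact sq_ne_neg_one r hneg

include hF in
theorem su_upper (g : Cfsg.SU 3 F 3) : ∃ e ∈ [7, 8, 12], orderOf g ∣ e := by
  set M : Matrix (Fin 3) (Fin 3) F := g.1.1 with hM
  suffices ∃ e ∈ [7, 8, 12], M ^ e = 1 by
    obtain ⟨e, he, h⟩ := this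
    exact ⟨e, he, orderOf_dvd_of_pow_eq_one (Subtype.ext (Subtype.ext (by simpa using h)))⟩
  obtain ⟨J, hJ⟩ := exists_I hF
  have := charP_three hF
  have h30 : (3 : F) = 0 := by exact_mod_cast CharP.cast_eq_zero F 3
  have h30' : (3 : Polynomial F) = 0 := by
    rw [← map_ofNat (Polynomial.C : F →+* Polynomial F) 3, h30, map_zero]
  obtain ⟨⟨a, b⟩, hab⟩ := (val_bijective hF hJ).2 M.trace
  have hch0 := cayley M g.1.2
  rw [trace_cubed hF g.1 g.2, ← hab] at hch0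
  have hconj : val J ((a : Fin 3).val, (b : Fin 3).val) ^ 3 = (a.val : F) - (b.val : F) * J := by
    have h1 : ∀ x : ℕ, x < 3 → ((x : F)) ^ 3 = x := by
      intro x hx
      interval_cases x <;> norm_num
      linear_combination (2 : F) * h30
    rw [val]
    linear_combination h1 _ a.2 + (b.val : F) ^ 3 * J * hJ - J * h1 _ b.2 +
      ((a.val : F) ^ 2 * (b.val : F) * J + (a.val : F) * (b.val : F) ^ 2 * J ^ 2) * h30
  simp only at hch0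
  rw [hconj] at hch0
  clear hab hconj
  have eq_one_of : ∀ (e : ℕ) (g : Polynomial F),
      (∀ _h3 : (3 : Polynomial F) = 0, ∀ _hI : Polynomial.C J ^ 2 + 1 = 0,
        (Polynomial.X ^ e - 1 : Polynomial F) = g * (Polynomial.X ^ 3 -
        ((a.val : Polynomial F) + (b.val : Polynomial F) * Polynomial.C J) * Polynomial.X ^ 2 +
        ((a.val : Polynomial F) - (b.val : Polynomial F) * Polynomial.C J) * Polynomial.X - 1)) →
      M ^ e = 1 := by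
    intro e g hg
    refine pow_eq_one_of (J := J) hch0 e g ?_
    rw [hg h30' (by rw [← map_pow, hJ, map_neg, map_one]; ring)]
    simp [val]
  fin_cases a <;> fin_cases b
  · refine ⟨12, by simp, eq_one_of 12 ((1 + 0 * Polynomial.C J) * Polynomial.X ^ 0 + (1 + 0 * Polynomial.C J) * Polynomial.X ^ 3 + (1 + 0 * Polynomial.C J) * Polynomial.X ^ 6 + (1 + 0 * Polynomial.C J) * Polynomial.X ^ 9) fun h3 hI => ?_⟩
    simp only [Nat.cast_zero, Nat.cast_one, Nat.cast_ofNat]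
    linear_combination (0) * h3 + (0) * hI
  · refine ⟨8, by simp, eq_one_of 8 ((1 + 0 * Polynomial.C J) * Polynomial.X ^ 0 + (0 + -1 * Polynomial.C J) * Polynomial.X ^ 1 + (-1 + -1 * Polynomial.C J) * Polynomial.X ^ 2 + (-1 + 1 * Polynomial.C J) * Polynomial.X ^ 3 + (0 + 1 * Polynomial.C J) * Polynomial.X ^ 4 + (1 + 0 * Polynomial.C J) * Polynomial.X ^ 5) fun h3 hI => ?_⟩
    simp only [Nat.cast_zero, Nat.cast_one, Nat.cast_ofNat]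
    linear_combination (0) * h3 + ((-1) * Polynomial.X ^ 2 + (-2) * Polynomial.X ^ 3 + (2) * Polynomial.X ^ 5 + (1) * Polynomial.X ^ 6) * hI
  · refine ⟨8, by simp, eq_one_of 8 ((52 + 12 * Polynomial.C J) * Polynomial.X ^ 0 + (12 + -20 * Polynomial.C J) * Polynomial.X ^ 1 + (-7 + -8 * Polynomial.C J) * Polynomial.X ^ 2 + (-4 + 2 * Polynomial.C J) * Polynomial.X ^ 3 + (0 + 2 * Polynomial.C J) * Polynomial.X ^ 4 + (1 + 0 * Polynomial.C J) * Polynomial.X ^ 5) fun h3 hI => ?_⟩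
    simp only [Nat.cast_zero, Nat.cast_one, Nat.cast_ofNat]
    linear_combination ((17 + 4 * Polynomial.C J) * Polynomial.X ^ 0 + (-4 + 28 * Polynomial.C J) * Polynomial.X ^ 1 + (3 + 40 * Polynomial.C J) * Polynomial.X ^ 2) * h3 + ((24) * Polynomial.X ^ 1 + (-16) * Polynomial.X ^ 2 + (-56) * Polynomial.X ^ 3 + (-12) * Polynomial.X ^ 4 + (8) * Polynomial.X ^ 5 + (4) * Polynomial.X ^ 6) * hI
  · refine ⟨8, by simp, eq_one_of 8 ((1 + 0 * Polynomial.C J) * Polynomial.X ^ 0 + (1 + 0 * Polynomial.C J) * Polynomial.X ^ 1 + (1 + 0 * Polynomial.C J) * Polynomial.X ^ 4 + (1 + 0 * Polynomial.C J) * Polynomial.X ^ 5) fun h3 hI => ?_⟩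
    simp only [Nat.cast_zero, Nat.cast_one, Nat.cast_ofNat]
    linear_combination (0) * h3 + (0) * hI
  · refine ⟨7, by simp, eq_one_of 7 ((-8 + -6 * Polynomial.C J) * Polynomial.X ^ 0 + (-5 + 2 * Polynomial.C J) * Polynomial.X ^ 1 + (-1 + 3 * Polynomial.C J) * Polynomial.X ^ 2 + (1 + 1 * Polynomial.C J) * Polynomial.X ^ 3 + (1 + 0 * Polynomial.C J) * Polynomial.X ^ 4) fun h3 hI => ?_⟩
    simp only [Nat.cast_zero, Nat.cast_one, Nat.cast_ofNat]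
    linear_combination ((-3 + -2 * Polynomial.C J) * Polynomial.X ^ 0 + (3 + 0 * Polynomial.C J) * Polynomial.X ^ 1 + (0 + -6 * Polynomial.C J) * Polynomial.X ^ 2) * h3 + ((-6) * Polynomial.X ^ 1 + (-4) * Polynomial.X ^ 2 + (5) * Polynomial.X ^ 3 + (4) * Polynomial.X ^ 4 + (1) * Polynomial.X ^ 5) * hI
  · refine ⟨7, by simp, eq_one_of 7 ((-23 + -54 * Polynomial.C J) * Polynomial.X ^ 0 + (-20 + -2 * Polynomial.C J) * Polynomial.X ^ 1 + (-4 + 6 * Polynomial.C J) * Polynomial.X ^ 2 + (1 + 2 * Polynomial.C J) * Polynomial.X ^ 3 + (1 + 0 * Polynomial.C J) * Polynomial.X ^ 4) fun h3 hI => ?_⟩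
    simp only [Nat.cast_zero, Nat.cast_one, Nat.cast_ofNat]
    linear_combination ((-8 + -18 * Polynomial.C J) * Polynomial.X ^ 0 + (37 + 2 * Polynomial.C J) * Polynomial.X ^ 1 + (35 + -44 * Polynomial.C J) * Polynomial.X ^ 2) * h3 + ((-108) * Polynomial.X ^ 1 + (-112) * Polynomial.X ^ 2 + (8) * Polynomial.X ^ 3 + (16) * Polynomial.X ^ 4 + (4) * Polynomial.X ^ 5) * hI
  · refine ⟨12, by simp, eq_one_of 12 ((1 + 0 * Polynomial.C J) * Polynomial.X ^ 0 + (2 + 0 * Polynomial.C J) * Polynomial.X ^ 1 + (2 + 0 * Polynomial.C J) * Polynomial.X ^ 2 + (1 + 0 * Polynomial.C J) * Polynomial.X ^ 3 + (1 + 0 * Polynomial.C J) * Polynomial.X ^ 6 + (2 + 0 * Polynomial.C J) * Polynomial.X ^ 7 + (2 + 0 * Polynomial.C J) * Polynomial.X ^ 8 + (1 + 0 * Polynomial.C J) * Polynomial.X ^ 9) fun h3 hI => ?_⟩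
    simp only [Nat.cast_zero, Nat.cast_one, Nat.cast_ofNat]
    linear_combination (0) * h3 + (0) * hI
  · refine ⟨12, by simp, eq_one_of 12 ((2146 + 1353 * Polynomial.C J) * Polynomial.X ^ 0 + (1025 + -232 * Polynomial.C J) * Polynomial.X ^ 1 + (232 + -368 * Polynomial.C J) * Polynomial.X ^ 2 + (-40 + -176 * Polynomial.C J) * Polynomial.X ^ 3 + (-63 + -40 * Polynomial.C J) * Polynomial.X ^ 4 + (-30 + 7 * Polynomial.C J) * Polynomial.X ^ 5 + (-7 + 11 * Polynomial.C J) * Polynomial.X ^ 6 + (1 + 5 * Polynomial.C J) * Polynomial.X ^ 7 + (2 + 1 * Polynomial.C J) * Polynomial.X ^ 8 + (1 + 0 * Polynomial.C J) * Polynomial.X ^ 9) fun h3 hI => ?_⟩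
    simp only [Nat.cast_zero, Nat.cast_one, Nat.cast_ofNat]
    linear_combination ((715 + 451 * Polynomial.C J) * Polynomial.X ^ 0 + (-1540 + -264 * Polynomial.C J) * Polynomial.X ^ 1 + (451 + 1991 * Polynomial.C J) * Polynomial.X ^ 2) * h3 + ((1353) * Polynomial.X ^ 1 + (1121) * Polynomial.X ^ 2 + (-600) * Polynomial.X ^ 3 + (-544) * Polynomial.X ^ 4 + (-216) * Polynomial.X ^ 5 + (-33) * Polynomial.X ^ 6 + (18) * Polynomial.X ^ 7 + (16) * Polynomial.X ^ 8 + (6) * Polynomial.X ^ 9 + (1) * Polynomial.X ^ 10) * hI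
  · refine ⟨12, by simp, eq_one_of 12 ((-18623 + 54624 * Polynomial.C J) * Polynomial.X ^ 0 + (9338 + 13942 * Polynomial.C J) * Polynomial.X ^ 1 + (4870 + 302 * Polynomial.C J) * Polynomial.X ^ 2 + (929 + -1072 * Polynomial.C J) * Polynomial.X ^ 3 + (-84 + -404 * Polynomial.C J) * Polynomial.X ^ 4 + (-108 + -52 * Polynomial.C J) * Polynomial.X ^ 5 + (-31 + 16 * Polynomial.C J) * Polynomial.X ^ 6 + (-2 + 10 * Polynomial.C J) * Polynomial.X ^ 7 + (2 + 2 * Polynomial.C J) * Polynomial.X ^ 8 + (1 + 0 * Polynomial.C J) * Polynomial.X ^ 9) fun h3 hI => ?_⟩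
    simp only [Nat.cast_zero, Nat.cast_one, Nat.cast_ofNat]
    linear_combination ((-6208 + 18208 * Polynomial.C J) * Polynomial.X ^ 0 + (-20888 + -44184 * Polynomial.C J) * Polynomial.X ^ 1 + (-62728 + 21032 * Polynomial.C J) * Polynomial.X ^ 2) * h3 + ((109248) * Polynomial.X ^ 1 + (137132) * Polynomial.X ^ 2 + (28488) * Polynomial.X ^ 3 + (-1540) * Polynomial.X ^ 4 + (-2952) * Polynomial.X ^ 5 + (-912) * Polynomial.X ^ 6 + (-72) * Polynomial.X ^ 7 + (52) * Polynomial.X ^ 8 + (24) * Polynomial.X ^ 9 + (4) * Polynomial.X ^ 10) * hI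

/-- Product of codes. -/
def mul3 (a b : List (ℕ × ℕ)) : List (ℕ × ℕ) :=
  (List.range 9).map fun k =>
    let x := fun i => a.getD (3 * (k / 3) + i) (0, 0)
    let y := fun i => b.getD (3 * i + k % 3) (0, 0)
    (((x 0).1 * (y 0).1 + 2 * (x 0).2 * (y 0).2 + (x 1).1 * (y 1).1 + 2 * (x 1).2 * (y 1).2 +
        (x 2).1 * (y 2).1 + 2 * (x 2).2 * (y 2).2) % 3,
      ((x 0).1 * (y 0).2 + (x 0).2 * (y 0).1 + (x 1).1 * (y 1).2 + (x 1).2 * (y 1).1 +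
        (x 2).1 * (y 2).2 + (x 2).2 * (y 2).1) % 3)

/-- Conjugate transpose of a code. -/
def star3 (a : List (ℕ × ℕ)) : List (ℕ × ℕ) :=
  (List.range 9).map fun k =>
    let z := a.getD (3 * (k % 3) + k / 3) (0, 0)
    (z.1 % 3, (2 * z.2) % 3)

/-- Code of the identity. -/
def one3 : List (ℕ × ℕ) := [(1, 0), (0, 0), (0, 0), (0, 0), (1, 0), (0, 0), (0, 0), (0, 0), (1, 0)]

/-- Code of a power. -/
def pow3 (a : List (ℕ × ℕ)) : ℕ → List (ℕ × ℕ)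
  | 0 => one3
  | n + 1 => mul3 (pow3 a n) a

/-- Product in `F_9`. -/
def m9 (a b : ℕ × ℕ) : ℕ × ℕ := ((a.1 * b.1 + 2 * a.2 * b.2) % 3, (a.1 * b.2 + a.2 * b.1) % 3)

/-- Determinant of a code. -/
def det3 (a : List (ℕ × ℕ)) : ℕ × ℕ :=
  let x := fun k => a.getD k (0, 0)
  let p := m9 (x 0) (m9 (x 4) (x 8))
  let q := m9 (x 1) (m9 (x 5) (x 6))
  let r := m9 (x 2) (m9 (x 3) (x 7))
  let s := m9 (x 0) (m9 (x 5) (x 7))
  let t := m9 (x 1) (m9 (x 3) (x 8))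
  let u := m9 (x 2) (m9 (x 4) (x 6))
  ((p.1 + q.1 + r.1 + 2 * (s.1 + t.1 + u.1)) % 3, (p.2 + q.2 + r.2 + 2 * (s.2 + t.2 + u.2)) % 3)

/-- The matrix of a code. -/
def ofCode (I : F) (a : List (ℕ × ℕ)) : Matrix (Fin 3) (Fin 3) F :=
  Matrix.of fun i j => val I (a.getD (3 * i.val + j.val) (0, 0))

section Code

variable {I : F}

include hF

theorem cast_mod_three (x : ℕ) : ((x % 3 : ℕ) : F) = (x : F) := by
  have := charP_three hF
  rw [CharP.natCast_eq_natCast F 3, Nat.ModEq, Nat.mod_mod]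

theorem two_eq : (2 : F) = -1 := by
  have := charP_three hF
  have h30 : ((3 : ℕ) : F) = 0 := CharP.cast_eq_zero F 3
  push_cast at h30
  linear_combination h30

variable (hI : I ^ 2 = -1)
include hI

theorem ofCode_mul (a b : List (ℕ × ℕ)) : ofCode I (mul3 a b) = ofCode I a * ofCode I b := by
  ext i j
  have hk : 3 * i.val + j.val < 9 := by omega
  have h1 : (3 * i.val + j.val) / 3 = i.val := by omega
  have h2 : (3 * i.val + j.val) % 3 = j.val := by omega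
  simp only [ofCode, Matrix.of_apply, Matrix.mul_apply, Fin.sum_univ_three, mul3]
  rw [List.getD_eq_getElem?_getD, List.getElem?_eq_getElem (by simpa using hk), Option.getD_some,
    List.getElem_map, List.getElem_range]
  simp only [val, h1, h2, cast_mod_three hF, Fin.val_zero, Fin.val_one, Fin.val_two]
  push_cast [two_eq hF, mul_zero, mul_one, add_zero, zero_add]
  ring_nf
  rw [hI]
  ring

theorem ofCode_one : ofCode I one3 = 1 := by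
  ext i j
  fin_cases i <;> fin_cases j <;> simp [ofCode, one3, val]

theorem ofCode_pow (a : List (ℕ × ℕ)) (n : ℕ) : ofCode I (pow3 a n) = ofCode I a ^ n := by
  induction n with
  | zero => rw [pow3, ofCode_one hF hI, pow_zero]
  | succ n ih => rw [pow3, ofCode_mul hF hI, ih, pow_succ]

theorem val_conj (z : ℕ × ℕ) : val I (z.1 % 3, (2 * z.2) % 3) = val I z ^ 3 := by
  have := charP_three hF
  have : Fact (Nat.Prime 3) := ⟨Nat.prime_three⟩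
  have h1 : ∀ x : ℕ, (x : F) ^ 3 = x := fun x => by
    rw [← Nat.cast_pow, CharP.natCast_eq_natCast F 3, ← ZMod.natCast_eq_natCast_iff, Nat.cast_pow,
      ZMod.pow_card]
  simp only [val, cast_mod_three hF]
  rw [add_pow_char, mul_pow, h1, h1, pow_succ, hI]
  push_cast
  rw [two_eq hF]
  ring

theorem ofCode_star (a : List (ℕ × ℕ)) :
    ofCode I (star3 a) = ((ofCode I a).map fun x => x ^ 3)ᵀ := by
  ext i j
  have hk : 3 * i.val + j.val < 9 := by omega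
  have h1 : (3 * i.val + j.val) / 3 = i.val := by omega
  have h2 : (3 * i.val + j.val) % 3 = j.val := by omega
  simp only [ofCode, Matrix.transpose_apply, Matrix.map_apply, Matrix.of_apply, star3]
  rw [List.getD_eq_getElem?_getD, List.getElem?_eq_getElem (by simpa using hk), Option.getD_some,
    List.getElem_map, List.getElem_range]
  simp only [h1, h2]
  exact val_conj hF hI _

theorem val_m9 (a b : ℕ × ℕ) : val I (m9 a b) = val I a * val I b := by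
  simp only [val, m9, cast_mod_three hF]
  push_cast [two_eq hF]
  linear_combination -((a.2 : F) * (b.2 : F)) * hI

theorem ofCode_det (a : List (ℕ × ℕ)) : (ofCode I a).det = val I (det3 a) := by
  have h : ∀ x y : ℕ × ℕ, ∀ z w : ℕ × ℕ, ∀ u v : ℕ × ℕ,
      val I ((x.1 + y.1 + z.1 + 2 * (w.1 + u.1 + v.1)) % 3,
        (x.2 + y.2 + z.2 + 2 * (w.2 + u.2 + v.2)) % 3) =
      val I x + val I y + val I z - (val I w + val I u + val I v) := by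
    intro x y z w u v
    simp only [val, cast_mod_three hF]
    push_cast [two_eq hF]
    ring
  rw [Matrix.det_fin_three]
  simp only [det3, h, val_m9 hF hI]
  simp only [ofCode, Matrix.of_apply, Fin.val_zero, Fin.val_one, Fin.val_two]
  ring

theorem exists_order (a : List (ℕ × ℕ)) (m : ℕ) (hm : 0 < m) (hu : mul3 (star3 a) a = one3)
    (hd : det3 a = (1, 0)) (hp : pow3 a m = one3)
    (hne : ∀ k < m, 0 < k → ∃ i < 9, (pow3 a k).getD i (0, 0) ≠ one3.getD i (0, 0) ∧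
      ((pow3 a k).getD i (0, 0)).1 < 3 ∧ ((pow3 a k).getD i (0, 0)).2 < 3) :
    ∃ g : Cfsg.SU 3 F 3, orderOf g = m := by
  set M := ofCode I a with hM
  have hdet : M.det = 1 := by rw [hM, ofCode_det hF hI, hd]; simp [val]
  have hmem : (⟨M, hdet⟩ : Matrix.SpecialLinearGroup (Fin 3) F) ∈ Cfsg.SU 3 F 3 := by
    intro u v
    have h0 : ((M.map fun x => x ^ 3)ᵀ) * M = 1 := by
      rw [hM, ← ofCode_star hF hI, ← ofCode_mul hF hI, hu, ofCode_one hF hI]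
    have h1 : Mᵀ * (M.map fun x => x ^ 3) = 1 := by
      have := congrArg Matrix.transpose h0
      rwa [Matrix.transpose_mul, Matrix.transpose_transpose, Matrix.transpose_one] at this
    have := charP_three hF
    have : Fact (Nat.Prime 3) := ⟨Nat.prime_three⟩
    have hv : (fun i => (M *ᵥ v) i ^ 3) = (M.map fun x => x ^ 3) *ᵥ fun j => v j ^ 3 := by
      funext i
      simp only [Matrix.mulVec, dotProduct, Matrix.map_apply, ← mul_pow]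
      exact map_sum (frobenius F 3) _ _
    show (M *ᵥ u) ⬝ᵥ (fun i => (M *ᵥ v) i ^ 3) = u ⬝ᵥ fun j => v j ^ 3
    rw [hv, dotProduct_comm, Matrix.dotProduct_mulVec, ← Matrix.mulVec_transpose,
      Matrix.mulVec_mulVec, h1, Matrix.one_mulVec, dotProduct_comm]
  refine ⟨⟨⟨M, hdet⟩, hmem⟩, (orderOf_eq_iff hm).2 ⟨?_, fun k hk hk0 he => ?_⟩⟩
  · apply Subtype.ext
    apply Subtype.ext
    show M ^ m = 1
    rw [hM, ← ofCode_pow hF hI, hp, ofCode_one hF hI]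
  · obtain ⟨i, hi, hdiff, hl1, hl2⟩ := hne k hk hk0
    have h2 : ofCode I (pow3 a k) = ofCode I one3 := by
      rw [ofCode_pow hF hI, ofCode_one hF hI, ← hM]
      exact congrArg (fun g : Cfsg.SU 3 F 3 => (g.1.1 : Matrix (Fin 3) (Fin 3) F)) he
    have h3 := congrFun (congrFun h2 ⟨i / 3, by omega⟩) ⟨i % 3, by omega⟩
    simp only [ofCode, Matrix.of_apply, show 3 * (i / 3) + i % 3 = i by omega] at h3
    have hl : (one3.getD i (0, 0)).1 < 3 ∧ (one3.getD i (0, 0)).2 < 3 := by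
      interval_cases i <;> decide
    have h4 := (val_bijective hF hI).1 (a₁ := (⟨_, hl1⟩, ⟨_, hl2⟩)) (a₂ := (⟨_, hl.1⟩, ⟨_, hl.2⟩)) h3
    exact hdiff (Prod.ext (congrArg (fun z => z.1.val) h4) (congrArg (fun z => z.2.val) h4))

end Code

/-- The elements of the complement. -/
def elems : List (List ℕ) := [[1, 0, 0, 0, 0, 1, 0, 0, 0, 0, 1, 0, 0, 0, 0, 1], [0, 0, 0, 6, 0, 0, 1, 0, 1, 0, 0, 0, 0, 1, 0, 0], [4, 6, 0, 0, 6, 3, 0, 0, 0, 0, 5, 6, 0, 0, 6, 2], [0, 6, 0, 0, 1, 0, 0, 0, 0, 0, 0, 6, 0, 0, 1, 0], [0, 0, 1, 5, 0, 0, 5, 6, 4, 6, 0, 0, 6, 3, 0, 0], [0, 0, 6, 3, 0, 0, 3, 1, 5, 6, 0, 0, 6, 2, 0, 0], [3, 0, 0, 0, 0, 3, 0, 0, 0, 0, 5, 0, 0, 0, 0, 5], [0, 0, 6, 0, 0, 0, 0, 6, 0, 6, 0, 0, 1, 0, 0, 0], [1, 4, 0, 0, 4, 6, 0, 0, 0, 0, 1, 5, 0, 0, 5, 6], [1, 5, 0, 0, 5, 6, 0, 0, 0, 0, 6, 3, 0, 0, 3, 1], [0, 0, 0, 2, 0, 0, 5, 0, 3, 0, 0, 0, 0, 3, 0, 0], [6, 3, 0, 0,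 3, 1, 0, 0, 0, 0, 6, 2, 0, 0, 2, 1], [0, 0, 0, 4, 0, 0, 3, 0, 5, 0, 0, 0, 0, 5, 0, 0], [5, 4, 0, 0, 4, 2, 0, 0, 0, 0, 4, 2, 0, 0, 2, 3], [6, 0, 0, 0, 0, 6, 0, 0, 0, 0, 6, 0, 0, 0, 0, 6], [0, 0, 2, 1, 0, 0, 1, 5, 1, 4, 0, 0, 4, 6, 0, 0], [0, 0, 4, 6, 0, 0, 6, 3, 1, 5, 0, 0, 5, 6, 0, 0], [0, 4, 0, 0, 3, 0, 0, 0, 0, 0, 0, 2, 0, 0, 5, 0], [0, 0, 5, 6, 0, 0, 6, 2, 6, 3, 0, 0, 3, 1, 0, 0], [0, 2, 0, 0, 5, 0, 0, 0, 0, 0, 0, 4, 0, 0, 3, 0], [0, 0, 5, 4, 0, 0, 4, 2, 5, 4, 0, 0, 4, 2, 0, 0], [0, 0, 3, 1, 0, 0, 1, 4, 6, 2, 0, 0, 2, 1, 0, 0], [0, 3, 0, 0, 4, 0, 0, 0, 0, 0, 0, 5, 0, 0, 2, 0], [0, 0, 4, 2, 0, 0, 2, 3, 4, 2, 0, 0, 2, 3, 0, 0], [2, 0, 0, 0, 0, 2, 0, 0, 0, 0, 4, 0, 0, 0, 0, 4], [0, 0, 0, 1, 0, 0, 6, 0, 6, 0, 0, 0, 0, 6, 0, 0], [3, 1, 0, 0, 1, 4, 0, 0, 0, 0, 2, 1, 0, 0, 1, 5], [2, 1, 0, 0, 1, 5, 0, 0, 0, 0, 4, 6, 0, 0, 6, 3], [0, 0, 2, 0, 0, 0, 0, 2, 0, 4, 0, 0,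 3, 0, 0, 0], [0, 0, 4, 0, 0, 0, 0, 4, 0, 2, 0, 0, 5, 0, 0, 0], [3, 5, 0, 0, 5, 4, 0, 0, 0, 0, 5, 4, 0, 0, 4, 2], [5, 6, 0, 0, 6, 2, 0, 0, 0, 0, 3, 1, 0, 0, 1, 4], [0, 0, 5, 0, 0, 0, 0, 5, 0, 3, 0, 0, 4, 0, 0, 0], [0, 0, 0, 3, 0, 0, 4, 0, 2, 0, 0, 0, 0, 2, 0, 0], [0, 0, 3, 0, 0, 0, 0, 3, 0, 5, 0, 0, 2, 0, 0, 0], [4, 2, 0, 0, 2, 3, 0, 0, 0, 0, 2, 3, 0, 0, 3, 5], [0, 0, 0, 5, 0, 0, 2, 0, 4, 0, 0, 0, 0, 4, 0, 0], [0, 1, 0, 0, 6, 0, 0, 0, 0, 0, 0, 1, 0, 0, 6, 0], [0, 0, 6, 2, 0, 0, 2, 1, 3, 1, 0, 0, 1, 4, 0, 0], [0, 0, 1, 4, 0, 0, 4, 6, 2, 1, 0, 0, 1, 5, 0, 0], [4, 0, 0, 0, 0, 4, 0, 0, 0, 0, 2, 0, 0, 0, 0, 2], [0, 0, 3, 5, 0, 0, 5, 4, 3, 5, 0, 0, 5, 4, 0, 0], [0, 5, 0, 0, 2, 0, 0, 0, 0, 0, 0, 3, 0, 0, 4, 0], [5, 0, 0, 0, 0, 5, 0, 0, 0, 0, 3, 0, 0, 0, 0, 3], [0, 0, 2, 3, 0, 0, 3, 5, 2, 3, 0, 0, 3, 5, 0, 0], [0, 0, 1, 0, 0, 0, 0, 1, 0, 1, 0, 0, 6, 0, 0, 0], [6, 2, 0,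 0, 2, 1, 0, 0, 0, 0, 1, 4, 0, 0, 4, 6], [2, 3, 0, 0, 3, 5, 0, 0, 0, 0, 3, 5, 0, 0, 5, 4]]

/-- The inverses of `x - 1`. -/
def elemInvs : List (List ℕ) := [[1, 0, 0, 0, 0, 1, 0, 0, 0, 0, 1, 0, 0, 0, 0, 1], [3, 4, 4, 4, 3, 3, 3, 4, 3, 4, 3, 4, 3, 3, 3, 3], [6, 3, 0, 0, 3, 2, 0, 0, 0, 0, 5, 5, 0, 0, 5, 6], [3, 4, 0, 0, 3, 3, 0, 0, 0, 0, 3, 4, 0, 0, 3, 3], [3, 0, 3, 1, 0, 3, 1, 4, 5, 4, 3, 0, 4, 2, 0, 3], [3, 0, 4, 2, 0, 3, 2, 3, 1, 4, 3, 0, 4, 6, 0, 3], [4, 0, 0, 0, 0, 4, 0, 0, 0, 0, 2, 0, 0, 0, 0, 2], [3, 3, 4, 4, 4, 3, 3, 4, 3, 4, 3, 3, 3, 3, 4, 3], [1, 2, 0, 0, 2, 0, 0, 0, 0, 0, 4, 3, 0, 0, 3, 0], [4, 3, 0, 0, 3, 0, 0, 0, 0, 0, 0, 5, 0, 0, 5, 1], [3, 4, 6, 6, 3, 3, 1, 6, 2, 5, 3, 4, 2, 2, 3, 3], [0, 5, 0, 0, 5, 1, 0, 0, 0, 0, 0, 4, 0, 0, 4, 4], [3, 4, 5, 5, 3, 3, 2, 5, 1, 6, 3, 4, 1, 1, 3, 3], [4, 5, 0, 0, 5, 2, 0, 0, 0, 0, 1, 6, 0, 0, 6, 5], [3, 0, 0, 0, 0,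 3, 0, 0, 0, 0, 3, 0, 0, 0, 0, 3], [3, 0, 6, 3, 0, 3, 3, 1, 3, 5, 3, 0, 5, 4, 0, 3], [3, 0, 5, 4, 0, 3, 4, 2, 3, 1, 3, 0, 1, 4, 0, 3], [2, 1, 0, 0, 6, 2, 0, 0, 0, 0, 4, 1, 0, 0, 6, 4], [3, 0, 1, 4, 0, 3, 4, 6, 4, 2, 3, 0, 2, 3, 0, 3], [4, 1, 0, 0, 6, 4, 0, 0, 0, 0, 2, 1, 0, 0, 6, 2], [3, 0, 1, 5, 0, 3, 5, 6, 1, 5, 3, 0, 5, 6, 0, 3], [3, 0, 2, 3, 0, 3, 3, 5, 4, 6, 3, 0, 6, 3, 0, 3], [2, 6, 0, 0, 1, 2, 0, 0, 0, 0, 4, 6, 0, 0, 1, 4], [3, 0, 5, 6, 0, 3, 6, 2, 5, 6, 3, 0, 6, 2, 0, 3], [1, 0, 0, 0, 0, 1, 0, 0, 0, 0, 5, 0, 0, 0, 0, 5], [3, 4, 3, 3, 3, 3, 4, 3, 4, 3, 3, 4, 4, 4, 3, 3], [2, 4, 0, 0, 4, 6, 0, 0, 0, 0, 6, 2, 0, 0, 2, 5], [6, 2, 0, 0, 2, 5, 0, 0, 0, 0, 6, 3, 0, 0, 3, 2], [3, 3, 6, 6, 4, 3, 1, 6, 2, 5, 3, 3, 2, 2, 4, 3], [3, 3, 5, 5, 4, 3, 2, 5, 1, 6, 3, 3, 1, 1, 4, 3], [5, 1, 0, 0, 1, 1, 0, 0, 0, 0, 4, 5, 0, 0, 5, 2], [5, 5, 0, 0, 5, 6, 0, 0, 0, 0, 2, 4, 0,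 0, 4, 6], [3, 3, 1, 1, 4, 3, 6, 1, 5, 2, 3, 3, 5, 5, 4, 3], [3, 4, 2, 2, 3, 3, 5, 2, 6, 1, 3, 4, 6, 6, 3, 3], [3, 3, 2, 2, 4, 3, 5, 2, 6, 1, 3, 3, 6, 6, 4, 3], [1, 6, 0, 0, 6, 5, 0, 0, 0, 0, 2, 2, 0, 0, 2, 4], [3, 4, 1, 1, 3, 3, 6, 1, 5, 2, 3, 4, 5, 5, 3, 3], [3, 3, 0, 0, 4, 3, 0, 0, 0, 0, 3, 3, 0, 0, 4, 3], [3, 0, 4, 6, 0, 3, 6, 3, 2, 3, 3, 0, 3, 5, 0, 3], [3, 0, 3, 5, 0, 3, 5, 4, 6, 3, 3, 0, 3, 1, 0, 3], [5, 0, 0, 0, 0, 5, 0, 0, 0, 0, 1, 0, 0, 0, 0, 1], [3, 0, 2, 1, 0, 3, 1, 5, 2, 1, 3, 0, 1, 5, 0, 3], [4, 6, 0, 0, 1, 4, 0, 0, 0, 0, 2, 6, 0, 0, 1, 2], [2, 0, 0, 0, 0, 2, 0, 0, 0, 0, 4, 0, 0, 0, 0, 4], [3, 0, 6, 2, 0, 3, 2, 1, 6, 2, 3, 0, 2, 1, 0, 3], [3, 3, 3, 3, 4, 3, 4, 3, 4, 3, 3, 3, 4, 4, 4, 3], [0, 4, 0, 0, 4, 4, 0, 0, 0, 0, 1, 2, 0, 0, 2, 0], [2, 2, 0, 0, 2, 4, 0, 0, 0, 0, 5, 1, 0, 0, 1, 1]]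


/-- There is a finite solvable group with exactly the same set of element orders as the simple group PSU(3,3) (realised over the field with 9 elements). -/
theorem result {F : Type*} [Field F] [Fintype F] (hF : Fintype.card F = 9) :
    ∃ (H : Type) (_ : Group H) (_ : Fintype H), Group.IsSolvable H ∧ Set.range (orderOf : H → ℕ) = Set.range (orderOf : Cfsg.PSU 3 F 3 → ℕ) := by
  have : Fact (Nat.Prime 7) := ⟨by norm_num⟩
  obtain ⟨G, hG1, hG2, hsol, hspec⟩ := CfsgLib.SpecBlow.MatCode.exists_witness_code (p := 7)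
    [0, 0, 0, 6, 0, 0, 1, 0, 1, 0, 0, 0, 0, 1, 0, 0] [4, 6, 0, 0, 6, 3, 0, 0, 0, 0, 5, 6, 0, 0, 6, 2] [0, 0, 1, 0, 0, 0, 0, 1, 0, 1, 0, 0, 6, 0, 0, 0] [6, 2, 0, 0, 2, 1, 0, 0, 0, 0, 1, 4, 0, 0, 4, 6] elems elemInvs [8, 12]
    [[true], [false]]
    (by decide +kernel) (by decide +kernel) (by decide +kernel) (by decide +kernel) (by decide +kernel)
    (by decide +kernel) (by decide +kernel)
    (by
      intro m hm r hr hrm
      have h : r ∣ 2 ^ 3 * 3 := hrm.trans (by fin_cases hm <;> norm_num)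
      rcases (hr.dvd_mul).1 h with h | h
      · exact Or.inl ((Nat.prime_dvd_prime_iff_eq hr Nat.prime_two).1 (hr.dvd_of_dvd_pow h))
      · exact Or.inr ((Nat.prime_dvd_prime_iff_eq hr Nat.prime_three).1 h))
    (by decide) rfl (by decide +kernel)
  refine ⟨G, hG1, hG2, hsol, hspec.trans ?_⟩
  obtain ⟨J, hJ⟩ := exists_I hF
  have hF' : Nat.card F = 3 ^ 2 := by rw [Nat.card_eq_fintype_card, hF]; norm_num
  have hc : Subgroup.center (Cfsg.SU 3 F 3) = ⊥ :=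
    Subgroup.card_eq_one.1 (by rw [CfsgLib.Unitary.card_center_SU hF' (by norm_num)]; decide)
  have hf : Function.Injective (QuotientGroup.mk' (Subgroup.center (Cfsg.SU 3 F 3))) :=
    (injective_iff_map_eq_one _).2 fun x hx => by
      have h := (QuotientGroup.eq_one_iff x).1 hx
      rwa [hc, Subgroup.mem_bot] at h
  have hr : Set.range (orderOf : Cfsg.PSU 3 F 3 → ℕ) = Set.range (orderOf : Cfsg.SU 3 F 3 → ℕ) := by
    ext k
    constructor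
    · rintro ⟨x, rfl⟩
      obtain ⟨y, rfl⟩ := QuotientGroup.mk'_surjective _ x
      exact ⟨y, (orderOf_injective _ hf y).symm⟩
    · rintro ⟨y, rfl⟩
      exact ⟨QuotientGroup.mk' _ y, orderOf_injective _ hf y⟩
  rw [hr, CfsgLib.SpecBlow.range_orderOf_eq [7, 8, 12] (su_upper hF) ?_ (by decide)]
  intro m hm
  fin_cases hm
  · exact exists_order hF hJ [(0, 0), (1, 1), (1, 1), (0, 0), (1, 1), (2, 2), (0, 1), (0, 0), (0, 0)] 7 (by norm_num) (by decide +kernel) (by decide +kernel)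
      (by decide +kernel) (by decide +kernel)
  · exact exists_order hF hJ [(0, 2), (0, 2), (2, 2), (0, 2), (0, 2), (1, 1), (2, 2), (1, 1), (0, 0)] 8 (by norm_num) (by decide +kernel) (by decide +kernel)
      (by decide +kernel) (by decide +kernel)
  · exact exists_order hF hJ [(2, 2), (1, 0), (0, 1), (1, 0), (0, 1), (2, 1), (0, 2), (1, 2), (0, 1)] 12 (by norm_num) (by decide +kernel) (by decide +kernel)
      (by decide +kernel) (by decide +kernel)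

end Cfsg.Agent.S3438
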