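import Cfsg.Statements.S0975
import Cfsg.Agent.SmallSimple.ColumnApply

set_option autoImplicit false
open Cfsg

namespace Cfsg.Agent.S0975

/-- No finite simple group has order 3744 = 2^5 * 3^2 * 13. -/
theorem result {G : Type*} [Group G] [Finite G] [IsSimpleGroup G] : Nat.card G ≠ 3744 := by
  
  intro h
  haveI : Fact (Nat.Prime 13) := ⟨by norm_num⟩
  exact CfsgLib.ColumnData.false_of_order (p := 13) (e := 2) (t := 6) (k := 144) (2 : ZMod 13) h
    (by norm_num) (by norm_num) (by decide +kernel +revert) (by norm_num) (by norm_num) (by norm_num) (by decide +kernel +revert)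
    (by decide +kernel +revert) (by decide +kernel +revert)
    (D := [2, 3, 4, 6, 8, 9, 12, 13, 16, 18, 24, 26, 32, 36, 39, 48, 52])
    (T := [(0, 0), (12, 144), (24, 288), (36, 432), (48, 576), (60, 720), (72, 864), (84, 72), (84, 1008), (84, 2048), (96, 216), (96, 1152), (96, 2192), (108, 48), (108, 243), (108, 256), (108, 360), (108, 1296), (108, 2336), (120, 192), (120, 387), (120, 400), (120, 504), (120, 972), (120, 1440), (120, 2480), (132, 24), (132, 128), (132, 336), (132, 531), (132, 544), (132, 648), (132, 1116), (132, 1584), (132, 2624), (132, 3456), (144, 168), (144, 272), (144, 480), (144, 675), (144, 688), (144, 792), (144, 1260), (144, 1728), (144, 2768), (144, 3600)])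
    (by decide +kernel +revert) (by decide +kernel +revert)

end Cfsg.Agent.S0975
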