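import Cfsg.Statements.S0977
import Cfsg.Agent.SmallSimple.RealPrime.RationalFive

set_option autoImplicit false
open Cfsg

namespace Cfsg.Agent.S0977

/-- No finite simple group has order 4320 = 2^5 * 3^3 * 5. -/
theorem result {G : Type*} [Group G] [Finite G] [IsSimpleGroup G] : Nat.card G ≠ 4320 := by
  intro hn
  refine CfsgLib.RationalFive.false_of_forty_three_twenty (fun h => ?_) hn
  letI : CommGroup G := { (inferInstance : Group G) with mul_comm := h.is_comm.comm }
  have := IsSimpleGroup.prime_card (α := G)
  rw [hn] at this
  norm_num at this

end Cfsg.Agent.S0977
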