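import Cfsg.Statements.S0979
import Cfsg.Agent.SmallSimple.ColumnApply

set_option autoImplicit false
open Cfsg

namespace Cfsg.Agent.S0979

/-- No finite simple group has order 5472 = 2^5 * 3^2 * 19. -/
theorem result {G : Type*} [Group G] [Finite G] [IsSimpleGroup G] : Nat.card G ≠ 5472 := by
  
  intro h
  haveI : Fact (Nat.Prime 19) := ⟨by norm_num⟩
  exact CfsgLib.ColumnData.false_of_order (p := 19) (e := 3) (t := 6) (k := 96) (2 : ZMod 19) h
    (by norm_num) (by norm_num) (by decide +kernel +revert) (by norm_num) (by norm_num) (by norm_num) (by decide +kernel +revert)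
    (by decide +kernel +revert) (by decide +kernel +revert)
    (D := [2, 3, 4, 6, 8, 9, 12, 16, 18, 19, 24, 32, 36, 38, 48, 57, 72])
    (T := [(0, 0), (18, 324), (36, 648), (54, 972), (72, 1296), (90, 1620), (108, 1944), (126, 2268), (144, 2592), (162, 2916), (180, 162), (180, 3240), (180, 4608), (198, 486), (198, 3564), (198, 4932), (216, 810), (216, 3888), (216, 5256), (234, 108), (234, 1134), (234, 3072), (234, 4212), (252, 432), (252, 1458), (252, 3396), (252, 4536), (270, 756), (270, 1782), (270, 3720), (270, 4860), (288, 54), (288, 1080), (288, 1536), (288, 2106), (288, 4044), (288, 5184), (306, 378), (306, 1404), (306, 1860), (306, 2430), (306, 4368), (324, 702), (324, 1728), (324, 2184), (324, 2754), (324, 4692)])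
    (by decide +kernel +revert) (by decide +kernel +revert)

end Cfsg.Agent.S0979
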