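import Cfsg.Statements.S0992
import Cfsg.Agent.SmallSimple.Basic

set_option autoImplicit false
open Cfsg

namespace Cfsg.Agent.S0992

/-- Let G be a non-abelian finite simple group of even order not divisible by 8, and T a Sylow 2-subgroup. Then T is a Klein four-group and the centralizer of T has index 3 in the normalizer of T. -/
theorem result {G : Type*} [Group G] [Finite G] [IsSimpleGroup G] (hG : ¬ IsMulCommutative G) (h2 : Even (Nat.card G)) (h8 : ¬ 8 ∣ Nat.card G) (T : Sylow 2 G) : IsKleinFour ↥(T : Subgroup G) ∧ (Subgroup.centralizer ((T : Subgroup G) : Set G)).relIndex (Subgroup.normalizer ((T : Subgroup G) : Set G)) = 3 := by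
  haveI : Fact (Nat.Prime 2) := ⟨Nat.prime_two⟩
  obtain ⟨k, hk⟩ := IsPGroup.iff_card.mp T.2
  have hdvd := Subgroup.card_subgroup_dvd_card (T : Subgroup G)
  have hk2 : k ≤ 2 := by
    by_contra h
    exact h8 (dvd_trans (show 8 ∣ 2 ^ k from pow_dvd_pow 2 (show 3 ≤ k by omega)) (hk ▸ hdvd))
  have hk0 : k ≠ 0 := by
    rintro rfl
    have := T.dvd_card_of_dvd_card h2.two_dvd
    rw [hk] at this
    norm_num at this
  have hlt : Nat.card (T : Subgroup G) < Nat.card G := by
    refine lt_of_le_of_ne (Nat.le_of_dvd Nat.card_pos hdvd) fun h => hG ?_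
    have hs : Nat.card G = 2 ∨ Nat.card G = 2 ^ 2 := by
      rw [← h, hk]; interval_cases k <;> first | omega | simp
    rcases hs with hs | hs
    · haveI := isCyclic_of_prime_card hs
      exact ⟨⟨fun a b => by
        obtain ⟨g, hg⟩ := IsCyclic.exists_generator (α := G)
        obtain ⟨i, rfl⟩ := Subgroup.mem_zpowers_iff.mp (hg a)
        obtain ⟨j, rfl⟩ := Subgroup.mem_zpowers_iff.mp (hg b)
        exact (Commute.refl g).zpow_zpow i j⟩⟩
    · exact ⟨⟨IsPGroup.commutative_of_card_eq_prime_sq hs⟩⟩
  have h1lt : 1 < Nat.card (T : Subgroup G) := by rw [hk]; exact Nat.one_lt_two_pow hk0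
  have hnle := CfsgLib.SmallSimple.not_le_centralizer T h1lt hlt
  have hmin : (Nat.card G).minFac = 2 := (Nat.minFac_eq_two_iff _).mpr h2.two_dvd
  have hncyc : ¬ IsCyclic (T : Subgroup G) := fun hc => hnle (IsCyclic.normalizer_le_centralizer hmin hc)
  have hk' : k = 2 := by
    by_contra h
    have : k = 1 := by omega
    subst this
    exact hncyc (isCyclic_of_prime_card (p := 2) (by rw [hk, pow_one]))
  subst hk'
  haveI hK : IsKleinFour (T : Subgroup G) := by
    refine ⟨by rw [hk]; rfl, ?_⟩
    have hd := Group.exponent_dvd_nat_card (G := (T : Subgroup G))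
    rw [hk] at hd
    obtain ⟨j, hj, hje⟩ := (Nat.dvd_prime_pow Nat.prime_two).mp hd
    interval_cases j
    · exfalso
      have hs : Subsingleton (T : Subgroup G) := Monoid.exp_eq_one_iff.mp (by simpa using hje)
      rw [Nat.card_of_subsingleton (1 : (T : Subgroup G))] at h1lt
      omega
    · simpa using hje
    · exfalso
      apply hncyc
      haveI : IsMulCommutative (T : Subgroup G) :=
        ⟨⟨IsPGroup.commutative_of_card_eq_prime_sq (p := 2) hk⟩⟩
      letI : CommGroup (T : Subgroup G) := { (inferInstance : Group (T : Subgroup G)) with mul_comm := mul_comm' }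
      exact IsCyclic.iff_exponent_eq_card.mpr (hje.trans hk.symm)
  refine ⟨hK, ?_⟩
  set N := Subgroup.normalizer ((T : Subgroup G) : Set G) with hN
  set C := Subgroup.centralizer ((T : Subgroup G) : Set G) with hC
  let φ := (T : Subgroup G).normalizerMonoidHom
  have hrel : C.relIndex N = Nat.card φ.range := by
    rw [← Subgroup.index_ker φ, show φ.ker = C.subgroupOf N from (T : Subgroup G).normalizerMonoidHom_ker]; rfl
  have hTC : (T : Subgroup G) ≤ C := fun a ha => Subgroup.mem_centralizer_iff.mpr fun b hb =>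
    congrArg Subtype.val (IsPGroup.commutative_of_card_eq_prime_sq (p := 2) hk ⟨b, hb⟩ ⟨a, ha⟩)
  have hodd : ¬ 2 ∣ C.relIndex N := by
    intro h
    have hd : C.relIndex N ∣ (T : Subgroup G).index := by
      have hNC : C ≤ N := Subgroup.centralizer_le_normalizer _
      exact (Dvd.intro _ (Subgroup.relIndex_mul_index hNC)).trans (Subgroup.index_dvd_of_le hTC)
    exact T.not_dvd_index (h.trans hd)
  have hne1 : C.relIndex N ≠ 1 := fun h => hnle (Subgroup.relIndex_eq_one.mp h)
  have hsix : Nat.card φ.range ∣ 6 := by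
    classical
    haveI := Fintype.ofFinite (T : Subgroup G)
    let X := {t : (T : Subgroup G) // t ≠ 1}
    let ψ : MulAut (T : Subgroup G) →* Equiv.Perm X :=
      { toFun := fun e => e.toEquiv.subtypeEquiv fun t => (not_congr e.map_eq_one_iff).symm
        map_one' := by ext; rfl
        map_mul' := fun _ _ => by ext; rfl }
    have hψ : Function.Injective ψ := fun e e' h => by
      refine MulEquiv.ext fun t => ?_
      by_cases ht : t = 1
      · rw [ht, map_one, map_one]
      · exact congrArg Subtype.val (Equiv.congr_fun h ⟨t, ht⟩)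
    have hX : Nat.card (Equiv.Perm X) = 6 := by
      rw [Nat.card_perm, Nat.card_eq_fintype_card, Fintype.card_subtype_compl, Fintype.card_subtype_eq,
        ← Nat.card_eq_fintype_card, hk]
      rfl
    exact hX ▸ (Subgroup.card_subgroup_dvd_card φ.range).trans (Subgroup.card_dvd_of_injective ψ hψ)
  rw [hrel] at hodd hne1 ⊢
  have hle := Nat.le_of_dvd (by norm_num) hsix
  interval_cases hc : Nat.card φ.range <;> omega

end Cfsg.Agent.S0992
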