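import Cfsg.Statements.S0910
import Cfsg.Agent.Char.Burnside
import Cfsg.Agent.Blocks.LocalRing

set_option autoImplicit false
open Cfsg

namespace Cfsg.Agent.S0910

/-- Let G be a non-abelian finite simple group and p a prime. If an irreducible character χ lies in the principal block (relative to a maximal ideal of the algebraic integers containing p) and χ 1 is a power of p, then χ is the principal character. -/
theorem result {G : Type*} [Group G] [Finite G] (p : ℕ) [Fact p.Prime] (M : Ideal Cfsg.AlgInt) (hM : Cfsg.IsPModular p M) [IsSimpleGroup G] (hna : ∃ a b : G, a * b ≠ b * a) (χ : Cfsg.IrrCharacter G) (hχ : χ ∈ Cfsg.principalBlock M G) (k : ℕ) (hdeg : (χ : G → ℂ) 1 = (p : ℂ) ^ k) : (χ : G → ℂ) = fun _ => 1 := by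
  haveI : M.IsPrime := hM.2.1.isPrime
  have hp : p.Prime := Fact.out
  obtain ⟨n, ρ, hρ, hρχ⟩ := χ.2
  have hfin : (Module.finrank ℂ (Fin n → ℂ) : ℂ) = (p : ℂ) ^ k := by
    rw [← hdeg, ← hρχ, ρ.char_one]
  -- an element of class size prime to `p`
  obtain ⟨g, hg1, hgp⟩ : ∃ g : G, g ≠ 1 ∧ ¬ p ∣ (Subgroup.centralizer ({g} : Set G)).index := by
    by_cases hpG : p ∣ Nat.card G
    · obtain ⟨P⟩ : Nonempty (Sylow p G) := inferInstance
      haveI : Nontrivial (P : Subgroup G) := by
        rw [Subgroup.nontrivial_iff_ne_bot]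
        exact P.ne_bot_of_dvd_card hpG
      haveI := P.2.center_nontrivial
      obtain ⟨z, hz⟩ := exists_ne (1 : Subgroup.center (P : Subgroup G))
      refine ⟨((z : (P : Subgroup G)) : G), fun h => hz (Subtype.ext (Subtype.ext h)), fun hd =>
        P.not_dvd_index (hd.trans (Subgroup.index_dvd_of_le fun u hu => ?_))⟩
      exact Subgroup.mem_centralizer_singleton_iff.2
        (congrArg Subtype.val (Subgroup.mem_center_iff.1 z.2 ⟨u, hu⟩))
    · obtain ⟨g, hg⟩ := exists_ne (1 : G)
      exact ⟨g, hg, fun h => hpG (h.trans (Subgroup.index_dvd_card _))⟩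
  set i := (Subgroup.centralizer ({g} : Set G)).index
  have hcop : Nat.Coprime (Module.finrank ℂ (Fin n → ℂ)) i := by
    have : Module.finrank ℂ (Fin n → ℂ) = p ^ k := by exact_mod_cast hfin
    rw [this]
    exact ((hp.coprime_iff_not_dvd).2 hgp).pow_left k
  rw [← hρχ]
  rcases CfsgLib.Char.char_eq_zero_or_norm_eq ρ g hcop with h | h
  · exfalso
    have hB : MemLocalIdeal M (centralChar (fun _ : G => (1 : ℂ)) g - centralChar (χ : G → ℂ) g) := hχ g
    have e1 : centralChar (fun _ : G => (1 : ℂ)) g = (i : ℂ) := by simp [centralChar, i]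
    have e2 : centralChar (χ : G → ℂ) g = 0 := by simp [centralChar, ← hρχ, h]
    rw [e1, e2, sub_zero] at hB
    obtain ⟨u, v, huv⟩ : IsCoprime (i : ℤ) (p : ℤ) :=
      Int.isCoprime_iff_gcd_eq_one.2 ((hp.coprime_iff_not_dvd).2 hgp).symm
    refine CfsgLib.Block.not_memLocalIdeal_one (M := M) ?_
    have hpI : MemLocalIdeal M ((p : AlgInt) : ℂ) := CfsgLib.Block.memLocalIdeal_algInt_iff.2 hM.2.2
    have hint : ∀ z : ℤ, MemLocalRing M (z : ℂ) := fun z =>
      CfsgLib.Block.memLocalRing_of_isIntegral (isIntegral_algebraMap (x := z))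
    have e : (1 : ℂ) = (u : ℂ) * (i : ℂ) + (v : ℂ) * ((p : AlgInt) : ℂ) := by
      push_cast
      exact_mod_cast huv.symm
    rw [e]
    exact CfsgLib.Block.memLocalIdeal_add (CfsgLib.Block.memLocalIdeal_mul_left (hint u) hB)
      (CfsgLib.Block.memLocalIdeal_mul_left (hint v) hpI)
  · refine CfsgLib.Char.eq_one_of_norm_eq_of_simple ?_ ρ hg1 h
    obtain ⟨a, b, hab⟩ := hna
    exact fun h => hab (h a b)

end Cfsg.Agent.S0910
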