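import Cfsg.Statements.S4479
import Cfsg.Agent.Blocks.KleinOrder

set_option autoImplicit false
open Cfsg

namespace Cfsg.Agent.S4479

/-- An order formula from the principal 2-block. Let G be a finite group of order 4·g₀ with g₀ odd having no normal 2-complement (no normal subgroup of order g₀); let P be a Sylow 2-subgroup, J an involution of P, and fix a maximal ideal M of the algebraic integers containing 2. Suppose the principal 2-block consists of the principal character and three further distinct characters χ₁, χ₂, χ₃ of degrees x₁, x₂, x₃, with χ_i(J) = ε_i = ±1. Then, writing c(J) and c(P) for the orders of the centralizers of J and of P, the order of G equals 8·α·c(J)³/c(P)² with α = x₁x₂x₃ / ((x₁ + ε₁)(x₂ + ε₂)(x₃ + ε₃)). -/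
theorem result {G : Type*} [Group G] [Finite G] (M : Ideal Cfsg.AlgInt) (hM : Cfsg.IsPModular 2 M) (g₀ : ℕ) (hg₀ : Odd g₀) (hG : Nat.card G = 4 * g₀) (hnc : ¬ ∃ N : Subgroup G, N.Normal ∧ Nat.card N = g₀) (P : Sylow 2 G) (J : G) (hJ : J ∈ (P : Subgroup G)) (hJ2 : orderOf J = 2) (χ₁ χ₂ χ₃ : Cfsg.IrrCharacter G) (ε₁ ε₂ ε₃ : ℤ) (hB : Cfsg.principalBlock M G = {χ : Cfsg.IrrCharacter G | (χ : G → ℂ) = (fun _ => 1) ∨ χ = χ₁ ∨ χ = χ₂ ∨ χ = χ₃}) (hdist : (χ₁ : G → ℂ) ≠ (fun _ => 1) ∧ (χ₂ : G → ℂ) ≠ (fun _ => 1) ∧ (χ₃ : G → ℂ) ≠ (fun _ => 1) ∧ χ₁ ≠ χ₂ ∧ χ₁ ≠ χ₃ ∧ χ₂ ≠ χ₃) (hε : (ε₁ = 1 ∨ ε₁ = -1) ∧ (ε₂ = 1 ∨ ε₂ = -1) ∧ (ε₃ = 1 ∨ ε₃ = -1)) (hval : (χ₁ : G → ℂ) J = ε₁ ∧ (χ₂ : G → ℂ) J = ε₂ ∧ (χ₃ : G → ℂ) J = ε₃) : (Nat.card G : ℚ) = 8 * (((Cfsg.charDegree (χ₁ : G → ℂ) : ℚ) * Cfsg.charDegree (χ₂ : G → ℂ) * Cfsg.charDegree (χ₃ : G → ℂ)) / ((Cfsg.charDegree (χ₁ : G → ℂ) + ε₁) * (Cfsg.charDegree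 (χ₂ : G → ℂ) + ε₂) * (Cfsg.charDegree (χ₃ : G → ℂ) + ε₃))) * (Nat.card (Subgroup.centralizer ({J} : Set G)) : ℚ) ^ 3 / (Nat.card (Subgroup.centralizer ((P : Subgroup G) : Set G)) : ℚ) ^ 2 := by
  classical
  haveI : Fintype G := Fintype.ofFinite G
  haveI := hM.2.1.isPrime
  haveI : Fact (Nat.Prime 2) := ⟨Nat.prime_two⟩
  letI := CfsgLib.Block.Chr.irrFintype (G := G)
  have hP4 : Nat.card P = 4 := by
    rw [P.card_eq_multiplicity, hG, Nat.factorization_mul (by norm_num) hg₀.pos.ne', Finsupp.add_apply,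
      Nat.factorization_eq_zero_of_not_dvd (show ¬ 2 ∣ g₀ from Nat.two_dvd_ne_zero.2 (Nat.odd_iff.1 hg₀)),
      show (4 : ℕ) = 2 ^ 2 by norm_num, Nat.prime_two.factorization_pow, Finsupp.single_eq_same]
  have hcompl : ∀ N : Subgroup G, Subgroup.IsComplement' N (P : Subgroup G) → Nat.card N = g₀ := by
    intro N hN
    have := hN.card_mul
    rw [show Nat.card (P : Subgroup G) = 4 from hP4, hG] at this
    omega
  have hnc' : ¬ IsCyclic (P : Subgroup G) := by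
    intro hcyc
    have hp : (Nat.card G).minFac = 2 :=
      Nat.minFac_eq_two_iff (Nat.card G) |>.2 (hG ▸ ⟨2 * g₀, by ring⟩)
    exact hnc ⟨_, inferInstance, hcompl _ (IsCyclic.isComplement' hp hcyc)⟩
  have hP : IsKleinFour (P : Subgroup G) := by
    refine ⟨hP4, ?_⟩
    exact (not_isCyclic_iff_exponent_eq_prime Nat.prime_two (hP4.trans (by norm_num))).1 hnc'
  have hone : ∀ s t : G, orderOf s = 2 → orderOf t = 2 → IsConj s t := by
    intro s t hs ht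
    obtain ⟨a, ha⟩ := CfsgLib.SmallSylow.exists_invol_mem P hP hs
    obtain ⟨b, hb⟩ := CfsgLib.SmallSylow.exists_invol_mem P hP ht
    have ne1 : ∀ u g : G, orderOf u = 2 → g * u * g⁻¹ ≠ 1 := fun u g hu h => by
      rw [conj_eq_one_iff] at h
      rw [h, orderOf_one] at hu
      omega
    have h1 : IsConj s (a * s * a⁻¹) := isConj_iff.2 ⟨a, rfl⟩
    have h2 : IsConj t (b * t * b⁻¹) := isConj_iff.2 ⟨b, rfl⟩
    refine h1.trans (IsConj.trans ?_ h2.symm)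
    refine CfsgLib.SmallSylow.transitive_of_not_le P hP (fun hle => hnc ?_) ha hb (ne1 s a hs) (ne1 t b ht)
    obtain ⟨N, hN, hc⟩ := (CfsgLib.SmallSylow.complement_iff P hP).2 hle
    exact ⟨N, hN, hcompl N hc⟩
  have hexp : ∀ x : P, x * x = 1 := fun x => by
    haveI := hP; exact IsKleinFour.mul_self x
  obtain ⟨-, v, -, hv, hrel⟩ := CfsgLib.Block.klein_singular hM P hP4 hexp hone
  have h := CfsgLib.Block.klein_order_formula hM P hP hone hJ hJ2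
  have hfilter : (Finset.univ.filter (· ∈ Cfsg.principalBlock M G)) =
      {CfsgLib.Block.oneIrr G, χ₁, χ₂, χ₃} := by
    ext χ
    simp only [Finset.mem_filter, Finset.mem_univ, true_and, Finset.mem_insert, Finset.mem_singleton,
      hB, Set.mem_setOf_eq]
    refine or_congr ⟨fun h => Subtype.ext h, fun h => by rw [h]; rfl⟩ Iff.rfl
  obtain ⟨d1, d2, d3, d12, d13, d23⟩ := hdist
  have n1 : CfsgLib.Block.oneIrr G ∉ ({χ₁, χ₂, χ₃} : Finset (Cfsg.IrrCharacter G)) := by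
    simp only [Finset.mem_insert, Finset.mem_singleton, not_or]
    exact ⟨fun h => d1 (by rw [← h]; rfl), fun h => d2 (by rw [← h]; rfl),
      fun h => d3 (by rw [← h]; rfl)⟩
  have n2 : χ₁ ∉ ({χ₂, χ₃} : Finset (Cfsg.IrrCharacter G)) := by simp [d12, d13]
  have n3 : χ₂ ∉ ({χ₃} : Finset (Cfsg.IrrCharacter G)) := by simp [d23]
  rw [hfilter, Finset.sum_insert n1, Finset.sum_insert n2, Finset.sum_insert n3,
    Finset.sum_singleton] at h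
  have hr := hrel 1 (by simp)
  rw [hfilter, Finset.sum_insert n1, Finset.sum_insert n2, Finset.sum_insert n3,
    Finset.sum_singleton] at hr
  have hvJ : ∀ χ ∈ Cfsg.principalBlock M G, (v χ : ℂ) = (χ : G → ℂ) J := fun χ hχ =>
    ((hv χ hχ).2 J (by rw [hJ2])).symm
  rw [hvJ χ₁ (by rw [hB]; simp), hvJ χ₂ (by rw [hB]; simp), hvJ χ₃ (by rw [hB]; simp),
    hvJ _ (by rw [hB]; exact Or.inl rfl)] at hr
  simp only [CfsgLib.Block.oneIrr_coe, hval.1, hval.2.1, hval.2.2,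
    (CfsgLib.Block.Chr.irr_one χ₁).1, (CfsgLib.Block.Chr.irr_one χ₂).1,
    (CfsgLib.Block.Chr.irr_one χ₃).1, div_one, one_mul] at h hr
  have hx : ∀ χ : Cfsg.IrrCharacter G, (Cfsg.charDegree (χ : G → ℂ) : ℂ) ≠ 0 := fun χ =>
    Nat.cast_ne_zero.2 (CfsgLib.Block.Chr.irr_one χ).2.ne'
  -- the relation in the rationals
  have hrel' : (1 : ℚ) + ε₁ * Cfsg.charDegree (χ₁ : G → ℂ) + ε₂ * Cfsg.charDegree (χ₂ : G → ℂ) +
      ε₃ * Cfsg.charDegree (χ₃ : G → ℂ) = 0 := by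
    have : (((1 : ℚ) + ε₁ * Cfsg.charDegree (χ₁ : G → ℂ) + ε₂ * Cfsg.charDegree (χ₂ : G → ℂ) +
      ε₃ * Cfsg.charDegree (χ₃ : G → ℂ) : ℚ) : ℂ) = ((0 : ℚ) : ℂ) := by
      push_cast; linear_combination hr
    exact_mod_cast this
  have h' : (Nat.card G : ℚ) * (1 + (ε₁ / Cfsg.charDegree (χ₁ : G → ℂ) +
      (ε₂ / Cfsg.charDegree (χ₂ : G → ℂ) + ε₃ / Cfsg.charDegree (χ₃ : G → ℂ)))) =
      8 * (Nat.card (Subgroup.centralizer ({J} : Set G)) : ℚ) ^ 3 /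
        (Nat.card (Subgroup.centralizer ((P : Subgroup G) : Set G)) : ℚ) ^ 2 := by
    refine (Rat.cast_injective (α := ℂ)) ?_
    push_cast
    exact h
  have hx' : ∀ χ : Cfsg.IrrCharacter G, (Cfsg.charDegree (χ : G → ℂ) : ℚ) ≠ 0 := fun χ =>
    Nat.cast_ne_zero.2 (CfsgLib.Block.Chr.irr_one χ).2.ne'
  have g1 := hx' χ₁
  have g2 := hx' χ₂
  have g3 := hx' χ₃
  have hd0 : (Nat.card (Subgroup.centralizer ((P : Subgroup G) : Set G)) : ℚ) ≠ 0 :=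
    Nat.cast_ne_zero.2 Nat.card_pos.ne'
  have hR : (0 : ℚ) < 8 * (Nat.card (Subgroup.centralizer ({J} : Set G)) : ℚ) ^ 3 /
      (Nat.card (Subgroup.centralizer ((P : Subgroup G) : Set G)) : ℚ) ^ 2 :=
    div_pos (mul_pos (by norm_num) (pow_pos (Nat.cast_pos.2 Nat.card_pos) _))
      (pow_pos (Nat.cast_pos.2 Nat.card_pos) _)
  generalize (Cfsg.charDegree (χ₁ : G → ℂ) : ℚ) = x₁, (Cfsg.charDegree (χ₂ : G → ℂ) : ℚ) = x₂,
    (Cfsg.charDegree (χ₃ : G → ℂ) : ℚ) = x₃ at *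
  generalize (Nat.card (Subgroup.centralizer ({J} : Set G)) : ℚ) = c at *
  generalize (Nat.card (Subgroup.centralizer ((P : Subgroup G) : Set G)) : ℚ) = d at *
  generalize (Nat.card G : ℚ) = g at *
  have hS : (1 + (ε₁ / x₁ + ((ε₂ : ℚ) / x₂ + ε₃ / x₃))) ≠ 0 := by
    intro h0
    rw [h0, mul_zero] at h'
    exact hR.ne h'
  have hprod : (x₁ + (ε₁ : ℚ)) * (x₂ + ε₂) * (x₃ + ε₃) =
      x₁ * x₂ * x₃ * (1 + (ε₁ / x₁ + ((ε₂ : ℚ) / x₂ + ε₃ / x₃))) := by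
    have s1 : (ε₁ : ℚ) ^ 2 = 1 := by rcases hε.1 with h | h <;> simp [h]
    have s2 : (ε₂ : ℚ) ^ 2 = 1 := by rcases hε.2.1 with h | h <;> simp [h]
    have s3 : (ε₃ : ℚ) ^ 2 = 1 := by rcases hε.2.2 with h | h <;> simp [h]
    field_simp
    linear_combination (ε₁ : ℚ) * ε₂ * ε₃ * hrel' - x₁ * ε₂ * ε₃ * s1 - x₂ * ε₁ * ε₃ * s2 -
      x₃ * ε₁ * ε₂ * s3
  have hX : x₁ * x₂ * x₃ ≠ 0 := mul_ne_zero (mul_ne_zero g1 g2) g3
  rw [hprod, div_mul_eq_div_div, div_self hX, mul_one_div, div_mul_eq_mul_div, div_div,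
    mul_comm (1 + (ε₁ / x₁ + ((ε₂ : ℚ) / x₂ + ε₃ / x₃))) (d ^ 2), ← div_div, ← h',
    mul_div_cancel_right₀ _ hS]

end Cfsg.Agent.S4479
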