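import Cfsg.Statements.S4278
import Cfsg.Agent.Chev.InvolStatements

set_option autoImplicit false
open Cfsg

namespace Cfsg.Agent.S4278

/-- In the Chevalley group of type G₂ over a finite field of odd order, any two involutions are conjugate. -/
theorem result {F : Type*} [Field F] [Fintype F] (hF : Odd (Fintype.card F)) (s t : ↥(Cfsg.Lie.chevG2.group F)) (hs : orderOf s = 2) (ht : orderOf t = 2) : IsConj s t := by
  open CfsgLib.Chev CfsgLib.Chev.InvolData in
  have h2 := two_ne_zero_of_odd hF
  open CfsgLib.Chev CfsgLib.Chev.InvolData in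
  have h : ∀ u : ↥(Cfsg.Lie.chevG2.group F), orderOf u = 2 → IsConj u (good_G2.bitInv F 1) :=
    fun u hu => (good_G2.classes_subtype h2 scG2 coverG2 u hu).elim id id
  exact (h s hs).trans (h t ht).symm

end Cfsg.Agent.S4278
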