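import Cfsg.Statements.S0948
import Cfsg.Agent.Blocks.KleinFour

set_option autoImplicit false
open Cfsg

namespace Cfsg.Agent.S0948

/-- Let the finite group G have a Sylow 2-subgroup P that is a Klein four-group, suppose all involutions of G are conjugate, and fix a maximal ideal M of the algebraic integers containing 2. Then the principal block consists of exactly four irreducible characters, the principal character and ζ₂, ζ₃, ζ₄, and there is a sign ε such that for every involution z: ζ₂ z = 1, ζ₃ z = ε, ζ₄ z = -1; moreover ζ₂ 1 ≡ 1, ζ₃ 1 ≡ ε, ζ₄ 1 ≡ -1 (mod 4), and 1 + ζ₂ y + ε ζ₃ y - ζ₄ y = 0 for every y of odd order. -/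
theorem result {G : Type*} [Group G] [Finite G] (M : Ideal Cfsg.AlgInt) (hM : Cfsg.IsPModular 2 M) (P : Sylow 2 G) (hP : IsKleinFour (P : Subgroup G)) (hone : ∀ s t : G, orderOf s = 2 → orderOf t = 2 → IsConj s t) : ∃ ζ₂ ζ₃ ζ₄ : Cfsg.IrrCharacter G, ∃ ε : ℤ, (ε = 1 ∨ ε = -1) ∧ (ζ₂ : G → ℂ) ≠ (fun _ => 1) ∧ (ζ₃ : G → ℂ) ≠ (fun _ => 1) ∧ ζ₂ ≠ ζ₃ ∧ ζ₂ ≠ ζ₄ ∧ ζ₃ ≠ ζ₄ ∧ Cfsg.principalBlock M G = {χ : Cfsg.IrrCharacter G | (χ : G → ℂ) = (fun _ => 1) ∨ χ = ζ₂ ∨ χ = ζ₃ ∨ χ = ζ₄} ∧ (∀ z : G, orderOf z = 2 → (ζ₂ : G → ℂ) z = 1 ∧ (ζ₃ : G → ℂ) z = (ε : ℂ) ∧ (ζ₄ : G → ℂ) z = -1) ∧ (4 : ℤ) ∣ (Cfsg.charDegree (ζ₂ : G → ℂ) : ℤ) - 1 ∧ (4 : ℤ) ∣ (Cfsg.charDegree (ζ₃ : G → ℂ) : ℤ) - ε ∧ (4 : ℤ) ∣ (Cfsg.charDegree (ζ₄ : G → ℂ) : ℤ) + 1 ∧ ∀ y : G, Odd (orderOf y) → 1 + (ζ₂ : G → ℂ) y + (ε : ℂ) * (ζ₃ : G → ℂ) y - (ζ₄ : G → ℂ) y = 0 := by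
  classical
  haveI := Fintype.ofFinite G
  haveI := hM.2.1.isPrime
  letI := CfsgLib.Block.Chr.irrFintype (G := G)
  have hexp : ∀ x : (P : Subgroup G), x * x = 1 := fun x => by
    have := Monoid.pow_exponent_eq_one x
    rwa [hP.exponent_two, pow_two] at this
  obtain ⟨hcard, v, hv1, hv, horth⟩ :=
    CfsgLib.Block.klein_principal hM P hP.card_four hexp hone
  set S := Finset.univ.filter (· ∈ Cfsg.principalBlock M G) with hS
  have hone' : CfsgLib.Block.oneIrr G ∈ S :=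
    Finset.mem_filter.2 ⟨Finset.mem_univ _, CfsgLib.Block.oneIrr_mem_principalBlock⟩
  have hmem : ∀ χ ∈ S, χ ∈ Cfsg.principalBlock M G := fun χ hχ => (Finset.mem_filter.1 hχ).2
  set T := S.erase (CfsgLib.Block.oneIrr G) with hT
  have hTcard : T.card = 3 := by rw [hT, Finset.card_erase_of_mem hone', hcard]
  have hrel : (1 : ℤ) + ∑ χ ∈ T, v χ * (Cfsg.charDegree (χ : G → ℂ) : ℤ) = 0 := by
    have h := horth 1 (by simp)
    rw [← Finset.add_sum_erase S _ hone', hv1] at h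
    have e : (((1 : ℤ) + ∑ χ ∈ T, v χ * (Cfsg.charDegree (χ : G → ℂ) : ℤ) : ℤ) : ℂ) = ((0 : ℤ) : ℂ) := by
      push_cast
      rw [← h, CfsgLib.Block.oneIrr_coe, Int.cast_one, one_mul]
      exact congrArg _ (Finset.sum_congr rfl fun χ _ => by rw [(CfsgLib.Block.Chr.irr_one χ).1])
    exact_mod_cast e
  have hTmem : ∀ χ ∈ T, χ ∈ Cfsg.principalBlock M G := fun χ hχ =>
    hmem χ (Finset.mem_of_mem_erase hχ)
  obtain ⟨c, hcT, hc⟩ : ∃ c ∈ T, v c = -1 := by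
    by_contra hne
    push Not at hne
    have : (0 : ℤ) ≤ ∑ χ ∈ T, v χ * (Cfsg.charDegree (χ : G → ℂ) : ℤ) :=
      Finset.sum_nonneg fun χ hχ => by
        rw [((hv χ (hTmem χ hχ)).2.1).resolve_right (hne χ hχ)]
        simp
    omega
  obtain ⟨a, haT, ha⟩ : ∃ a ∈ T, v a = 1 := by
    by_contra hne
    push Not at hne
    have h3 : ∑ χ ∈ T, v χ * (Cfsg.charDegree (χ : G → ℂ) : ℤ) ≤ ∑ _χ ∈ T, (-3 : ℤ) := by
      refine Finset.sum_le_sum fun χ hχ => ?_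
      obtain ⟨-, h1, h4⟩ := hv χ (hTmem χ hχ)
      rw [h1.resolve_left (hne χ hχ)] at h4 ⊢
      have hpos := (CfsgLib.Block.Chr.irr_one χ).2
      omega
    rw [Finset.sum_const, hTcard] at h3
    norm_num at h3
    omega
  have hac : a ≠ c := fun h => by rw [h, hc] at ha; norm_num at ha
  obtain ⟨b, hb⟩ : ∃ b, (T.erase a).erase c = {b} := Finset.card_eq_one.1 (by
    rw [Finset.card_erase_of_mem (Finset.mem_erase.2 ⟨hac.symm, hcT⟩),
      Finset.card_erase_of_mem haT, hTcard])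
  have hb' : b ∈ (T.erase a).erase c := hb ▸ Finset.mem_singleton_self b
  have hbc : b ≠ c := (Finset.mem_erase.1 hb').1
  have hba : b ≠ a := (Finset.mem_erase.1 (Finset.mem_of_mem_erase hb')).1
  have hbT : b ∈ T := Finset.mem_of_mem_erase (Finset.mem_of_mem_erase hb')
  have hne1 : ∀ χ ∈ T, (χ : G → ℂ) ≠ (fun _ => 1) := fun χ hχ h =>
    (Finset.mem_erase.1 hχ).1 (Subtype.ext (by rw [CfsgLib.Block.oneIrr_coe]; exact h))
  refine ⟨a, b, c, v b, (hv b (hTmem b hbT)).2.1, hne1 a haT, hne1 b hbT, hba.symm, hac, hbc, ?_,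
    fun z hz => ?_, ?_, ?_, ?_, fun y hy => ?_⟩
  · ext χ
    constructor
    · intro hχ
      by_cases h1 : χ = CfsgLib.Block.oneIrr G
      · exact Or.inl (by rw [h1, CfsgLib.Block.oneIrr_coe])
      by_cases h2 : χ = a
      · exact Or.inr (Or.inl h2)
      by_cases h3 : χ = c
      · exact Or.inr (Or.inr (Or.inr h3))
      refine Or.inr (Or.inr (Or.inl (Finset.mem_singleton.1 (hb ▸ ?_))))
      exact Finset.mem_erase.2 ⟨h3, Finset.mem_erase.2 ⟨h2, Finset.mem_erase.2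
        ⟨h1, Finset.mem_filter.2 ⟨Finset.mem_univ _, hχ⟩⟩⟩⟩
    · rintro (h | rfl | rfl | rfl)
      · rw [show χ = CfsgLib.Block.oneIrr G from
          Subtype.ext (by rw [CfsgLib.Block.oneIrr_coe]; exact h)]
        exact CfsgLib.Block.oneIrr_mem_principalBlock
      · exact hTmem _ haT
      · exact hTmem _ hbT
      · exact hTmem _ hcT
  · refine ⟨?_, (hv b (hTmem b hbT)).1 z hz, ?_⟩
    · rw [(hv a (hTmem a haT)).1 z hz, ha, Int.cast_one]
    · rw [(hv c (hTmem c hcT)).1 z hz, hc]; norm_num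
  · simpa [ha] using (hv a (hTmem a haT)).2.2
  · exact (hv b (hTmem b hbT)).2.2
  · simpa [hc] using (hv c (hTmem c hcT)).2.2
  · have h := horth y (fun hd => (Nat.not_even_iff_odd.2 hy) (even_iff_two_dvd.2 hd))
    rw [← Finset.add_sum_erase S _ hone', ← Finset.add_sum_erase T _ haT,
      ← Finset.add_sum_erase (T.erase a) _ (Finset.mem_erase.2 ⟨hac.symm, hcT⟩), hb,
      Finset.sum_singleton, hv1, ha, hc, CfsgLib.Block.oneIrr_coe] at h
    push_cast at h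
    linear_combination h

end Cfsg.Agent.S0948
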