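import Cfsg.Statements.S4480
import Cfsg.Agent.Blocks.KleinPsl
import Cfsg.Agent.S4479

set_option autoImplicit false
open Cfsg

namespace Cfsg.Agent.S4480

/-- Same setting as the Klein-four order formula: G of order 4·g₀ (g₀ odd) with no normal 2-complement, P a Sylow 2-subgroup, J an involution of P, M over 2, principal 2-block {1, χ₁, χ₂, χ₃} with χ_i(J) = ε_i = ±1. Suppose ε₁ε₂ε₃ = −1 and ε₃ = −1, and put q = x₃ = χ₃(1). Then there is a natural number m with 4·c(J) = m·c(P)·(q + 1), and the order of G equals (m³·c(P)/4)·(q³ − q)/2, that is 8·#G = m³·c(P)·(q³ − q). -/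
theorem result {G : Type*} [Group G] [Finite G] (M : Ideal Cfsg.AlgInt) (hM : Cfsg.IsPModular 2 M) (g₀ : ℕ) (hg₀ : Odd g₀) (hG : Nat.card G = 4 * g₀) (hnc : ¬ ∃ N : Subgroup G, N.Normal ∧ Nat.card N = g₀) (P : Sylow 2 G) (J : G) (hJ : J ∈ (P : Subgroup G)) (hJ2 : orderOf J = 2) (χ₁ χ₂ χ₃ : Cfsg.IrrCharacter G) (ε₁ ε₂ ε₃ : ℤ) (hB : Cfsg.principalBlock M G = {χ : Cfsg.IrrCharacter G | (χ : G → ℂ) = (fun _ => 1) ∨ χ = χ₁ ∨ χ = χ₂ ∨ χ = χ₃}) (hdist : (χ₁ : G → ℂ) ≠ (fun _ => 1) ∧ (χ₂ : G → ℂ) ≠ (fun _ => 1) ∧ (χ₃ : G → ℂ) ≠ (fun _ => 1) ∧ χ₁ ≠ χ₂ ∧ χ₁ ≠ χ₃ ∧ χ₂ ≠ χ₃) (hε : (ε₁ = 1 ∨ ε₁ = -1) ∧ (ε₂ = 1 ∨ ε₂ = -1) ∧ (ε₃ = 1 ∨ ε₃ = -1)) (hval : (χ₁ : G → ℂ) J = ε₁ ∧ (χ₂ : G → ℂ) J = ε₂ ∧ (χ₃ : G → ℂ) J = ε₃) (hprod : ε₁ * ε₂ * ε₃ = -1) (hε₃ : ε₃ = -1) : ∃ m : ℕ, 4 * Nat.card (Subgroup.centralizer ({J} : Set G)) = m * Nat.card (Subgroup.centralizer ((P : Subgroup G)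 : Set G)) * (Cfsg.charDegree (χ₃ : G → ℂ) + 1) ∧ 8 * Nat.card G = m ^ 3 * Nat.card (Subgroup.centralizer ((P : Subgroup G) : Set G)) * (Cfsg.charDegree (χ₃ : G → ℂ) ^ 3 - Cfsg.charDegree (χ₃ : G → ℂ)) := by
  classical
  haveI : Fintype G := Fintype.ofFinite G
  haveI := hM.2.1.isPrime
  haveI : Fact (Nat.Prime 2) := ⟨Nat.prime_two⟩
  letI := CfsgLib.Block.Chr.irrFintype (G := G)
  have hP4 : Nat.card P = 4 := by
    rw [P.card_eq_multiplicity, hG, Nat.factorization_mul (by norm_num) hg₀.pos.ne', Finsupp.add_apply,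
      Nat.factorization_eq_zero_of_not_dvd (show ¬ 2 ∣ g₀ from Nat.two_dvd_ne_zero.2 (Nat.odd_iff.1 hg₀)),
      show (4 : ℕ) = 2 ^ 2 by norm_num, Nat.prime_two.factorization_pow, Finsupp.single_eq_same]
  have hcompl : ∀ N : Subgroup G, Subgroup.IsComplement' N (P : Subgroup G) → Nat.card N = g₀ := by
    intro N hN
    have := hN.card_mul
    rw [show Nat.card (P : Subgroup G) = 4 from hP4, hG] at this
    omega
  have hnc' : ¬ IsCyclic (P : Subgroup G) := by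
    intro hcyc
    have hp : (Nat.card G).minFac = 2 :=
      Nat.minFac_eq_two_iff (Nat.card G) |>.2 (hG ▸ ⟨2 * g₀, by ring⟩)
    exact hnc ⟨_, inferInstance, hcompl _ (IsCyclic.isComplement' hp hcyc)⟩
  have hP : IsKleinFour (P : Subgroup G) := by
    refine ⟨hP4, ?_⟩
    exact (not_isCyclic_iff_exponent_eq_prime Nat.prime_two (hP4.trans (by norm_num))).1 hnc'
  have hone : ∀ s t : G, orderOf s = 2 → orderOf t = 2 → IsConj s t := by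
    intro s t hs ht
    obtain ⟨a, ha⟩ := CfsgLib.SmallSylow.exists_invol_mem P hP hs
    obtain ⟨b, hb⟩ := CfsgLib.SmallSylow.exists_invol_mem P hP ht
    have ne1 : ∀ u g : G, orderOf u = 2 → g * u * g⁻¹ ≠ 1 := fun u g hu h => by
      rw [conj_eq_one_iff] at h
      rw [h, orderOf_one] at hu
      omega
    have h1 : IsConj s (a * s * a⁻¹) := isConj_iff.2 ⟨a, rfl⟩
    have h2 : IsConj t (b * t * b⁻¹) := isConj_iff.2 ⟨b, rfl⟩
    refine h1.trans (IsConj.trans ?_ h2.symm)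
    refine CfsgLib.SmallSylow.transitive_of_not_le P hP (fun hle => hnc ?_) ha hb (ne1 s a hs) (ne1 t b ht)
    obtain ⟨N, hN, hc⟩ := (CfsgLib.SmallSylow.complement_iff P hP).2 hle
    exact ⟨N, hN, hcompl N hc⟩
  have hexp : ∀ x : P, x * x = 1 := fun x => by
    haveI := hP; exact IsKleinFour.mul_self x
  have hε12 : ε₁ * ε₂ = 1 := by rw [hε₃] at hprod; linarith
  obtain ⟨-, v, -, hv, hrel⟩ := CfsgLib.Block.klein_singular hM P hP4 hexp hone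
  obtain ⟨d1, d2, d3, d12, d13, d23⟩ := hdist
  have hd : CfsgLib.Block.oneIrr G ≠ χ₁ ∧ CfsgLib.Block.oneIrr G ≠ χ₂ ∧ CfsgLib.Block.oneIrr G ≠ χ₃ ∧
      χ₁ ≠ χ₂ ∧ χ₁ ≠ χ₃ ∧ χ₂ ≠ χ₃ :=
    ⟨fun h => d1 (by rw [← h]; rfl), fun h => d2 (by rw [← h]; rfl), fun h => d3 (by rw [← h]; rfl),
      d12, d13, d23⟩
  have hmem : ∀ χ, χ ∈ Cfsg.principalBlock M G ↔
      χ = CfsgLib.Block.oneIrr G ∨ χ = χ₁ ∨ χ = χ₂ ∨ χ = χ₃ := fun χ => by
    rw [hB]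
    exact or_congr ⟨fun h => Subtype.ext h, fun h => by rw [h]; rfl⟩ Iff.rfl
  have hfilter : (Finset.univ.filter (· ∈ Cfsg.principalBlock M G)) =
      {CfsgLib.Block.oneIrr G, χ₁, χ₂, χ₃} := by
    ext χ
    simp only [Finset.mem_filter, Finset.mem_univ, true_and, Finset.mem_insert, Finset.mem_singleton,
      hmem]
  have n1 : CfsgLib.Block.oneIrr G ∉ ({χ₁, χ₂, χ₃} : Finset (Cfsg.IrrCharacter G)) := by
    simp [hd.1, hd.2.1, hd.2.2.1]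
  have n2 : χ₁ ∉ ({χ₂, χ₃} : Finset (Cfsg.IrrCharacter G)) := by simp [d12, d13]
  have n3 : χ₂ ∉ ({χ₃} : Finset (Cfsg.IrrCharacter G)) := by simp [d23]
  have hr := hrel 1 (by simp)
  rw [hfilter, Finset.sum_insert n1, Finset.sum_insert n2, Finset.sum_insert n3,
    Finset.sum_singleton] at hr
  have hvJ : ∀ χ ∈ Cfsg.principalBlock M G, (v χ : ℂ) = (χ : G → ℂ) J := fun χ hχ =>
    ((hv χ hχ).2 J (by rw [hJ2])).symm
  rw [hvJ χ₁ ((hmem _).2 (by simp)), hvJ χ₂ ((hmem _).2 (by simp)), hvJ χ₃ ((hmem _).2 (by simp)),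
    hvJ _ ((hmem _).2 (Or.inl rfl))] at hr
  simp only [CfsgLib.Block.oneIrr_coe, hval.1, hval.2.1, hval.2.2,
    (CfsgLib.Block.Chr.irr_one χ₁).1, (CfsgLib.Block.Chr.irr_one χ₂).1,
    (CfsgLib.Block.Chr.irr_one χ₃).1, one_mul] at hr
  have hrel' : (1 : ℤ) + ε₁ * Cfsg.charDegree (χ₁ : G → ℂ) + ε₂ * Cfsg.charDegree (χ₂ : G → ℂ) +
      ε₃ * Cfsg.charDegree (χ₃ : G → ℂ) = 0 := by
    have : (((1 : ℤ) + ε₁ * Cfsg.charDegree (χ₁ : G → ℂ) + ε₂ * Cfsg.charDegree (χ₂ : G → ℂ) +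
      ε₃ * Cfsg.charDegree (χ₃ : G → ℂ) : ℤ) : ℂ) = ((0 : ℤ) : ℂ) := by
      push_cast; linear_combination hr
    exact_mod_cast this
  have p1 := (CfsgLib.Block.Chr.irr_one χ₁).2
  have p2 := (CfsgLib.Block.Chr.irr_one χ₂).2
  have p3 := (CfsgLib.Block.Chr.irr_one χ₃).2
  have e11 : ε₁ = 1 ∧ ε₂ = 1 := by
    rcases hε.1 with h | h <;> rcases hε.2.1 with h' | h'
    · exact ⟨h, h'⟩
    · rw [h, h'] at hε12; norm_num at hε12
    · rw [h, h'] at hε12; norm_num at hε12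
    · exfalso
      rw [h, h', hε₃] at hrel'
      omega
  have hdeq := CfsgLib.Block.klein_conjugate_pair hM P hP4 hexp hone hJ hJ2 hmem hd
    (by rw [hval.1, e11.1]; simp) (by rw [hval.2.1, e11.2]; simp) (by rw [hval.2.2, hε₃]; simp)
  have hform := Cfsg.Agent.S4479.result M hM g₀ hg₀ hG hnc P J hJ hJ2 χ₁ χ₂ χ₃ ε₁ ε₂ ε₃ hB
    ⟨d1, d2, d3, d12, d13, d23⟩ hε hval
  rw [e11.1, e11.2, hε₃] at hrel'
  have hq : Cfsg.charDegree (χ₃ : G → ℂ) = 2 * Cfsg.charDegree (χ₁ : G → ℂ) + 1 := by omega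
  obtain ⟨K, hKn, hK2, hKidx⟩ := CfsgLib.Block.exists_complement_centralizer P hP4 hexp hJ
    (fun h => by rw [h, orderOf_one] at hJ2; omega)
  haveI := hKn
  haveI : Fintype K := Fintype.ofFinite _
  obtain ⟨i, hi, -⟩ := CfsgLib.Block.klein_pair_count P hP hJ hJ2 K hK2 (by rw [hKidx]; norm_num)
  obtain ⟨m, hm1, hm2⟩ := CfsgLib.Block.klein_psl_shape hq p1 hi
    (Subgroup.index_mul_card (Subgroup.centralizer ({J} : Set G)))
    (by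
      rw [hform, hdeq, e11.1, e11.2, hε₃]
      push_cast
      have hd0 : (Nat.card (Subgroup.centralizer ((P : Subgroup G) : Set G)) : ℚ) ≠ 0 :=
        Nat.cast_ne_zero.2 Nat.card_pos.ne'
      rw [div_mul_cancel₀ _ (pow_ne_zero 2 hd0)]
      ring)
    Nat.card_pos Nat.card_pos
  exact ⟨m, hm1, hm2⟩

end Cfsg.Agent.S4480
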