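import Cfsg.Statements.S1279
import Cfsg.Agent.Signalizer.Local
import Cfsg.Agent.Signalizer.Basic
-- import your own Cfsg.Agent.* helpers here

set_option autoImplicit false
open Cfsg

namespace Cfsg.Agent.S1279

/-- Let A be a noncyclic elementary abelian p-subgroup of the finite group G such that C_G(a) is solvable for every non-identity a ∈ A. Then a ↦ O_{p'}(C_G(a)) is a solvable A-signalizer functor on G. -/
theorem result {G : Type*} [Group G] [Finite G] (p : ℕ) [Fact p.Prime] (A : Subgroup G) (hA : Cfsg.IsElementaryAbelian p A) (hA2 : p ^ 2 ≤ Nat.card ↥A) (hsolv : ∀ a ∈ A, a ≠ 1 → Group.IsSolvable ↥(Subgroup.centralizer ({a} : Set G))) : Cfsg.IsSolvableSignalizerFunctor p A (fun a => Cfsg.centralizerPPrimeCore p a) := by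
  open CfsgLib.Signalizer Subgroup in
  refine ⟨⟨fun a _ _ => mem_centralizerPPrimeCore_le, fun a _ _ => ?_, fun a ha _ => ?_, fun a ha _ b hb hb1 => ?_⟩, fun a ha ha1 => ?_⟩
  · exact fun h => (Fact.out : p.Prime).ne_one
      (Nat.eq_one_of_dvd_coprimes (coprime_card_centralizerPPrimeCore (p := p) a) h dvd_rfl)
  · exact conj_mem_of_le_normalizer ((le_centralizer_singleton hA ha).trans
      (centralizer_le_normalizer_centralizerPPrimeCore a))
  · exact centralizerPPrimeCore_inf_le (hA.2 a ha) (commute hA ha hb) (hsolv b hb hb1)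
  · haveI := hsolv a ha ha1
    exact Group.isSolvable_of_isSolvable_injective
      (f := inclusion (mem_centralizerPPrimeCore_le (p := p) (x := a))) (inclusion_injective _)

end Cfsg.Agent.S1279
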