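import Cfsg.Statements.S5748
import Cfsg.Agent.CTGroup.Structure
import Cfsg.Agent.SL2C.ClassProducts

set_option autoImplicit false
open Cfsg

namespace Cfsg.Agent.S5748

/-- A finite non-abelian simple group in which commuting is a transitive relation on the non-identity elements (equivalently, every non-identity element has abelian centraliser) is isomorphic to PSL₂ over a field with 2^f elements for some f ≥ 2; conversely these groups have that property. -/
theorem result {G : Type*} [Group G] [Finite G] [IsSimpleGroup G] (hG : ¬ IsMulCommutative G) :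
    (∀ a b c : G, a ≠ 1 → b ≠ 1 → c ≠ 1 → Commute a b → Commute b c → Commute a c) ↔
    ∃ (F : Type) (_ : Field F) (_ : Fintype F) (f : ℕ), 2 ≤ f ∧ Fintype.card F = 2 ^ f ∧ Nonempty (G ≃* Matrix.ProjectiveSpecialLinearGroup (Fin 2) F) := by
  constructor
  · exact CfsgLib.CTGroup.psl_two_even_of_transitive hG
  · rintro ⟨F, iF, iFt, f, hf, hcard, ⟨φ⟩⟩
    letI : CharP F 2 := by
      obtain ⟨p, hp⟩ := CharP.exists F
      obtain ⟨n, hpp, hn⟩ := FiniteField.card F p
      have hp2 : p = 2 := (Nat.prime_dvd_prime_iff_eq hpp Nat.prime_two).1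
        (hpp.dvd_of_dvd_pow (hcard ▸ hn ▸ dvd_pow_self p n.ne_zero))
      exact hp2 ▸ hp
    intro a b c ha hb _ hab hbc
    obtain ⟨X, hX⟩ := CfsgLib.SL2C.pm_surjective (φ a)
    obtain ⟨Y, hY⟩ := CfsgLib.SL2C.pm_surjective (φ b)
    obtain ⟨Z, hZ⟩ := CfsgLib.SL2C.pm_surjective (φ c)
    have hinj := CfsgLib.SL2C.pm_injective (F := F)
    have hYc : Y ∉ Subgroup.center (CfsgLib.SL2C.SL F) := fun h => hb (φ.injective (by
      rw [map_one, ← hY, CfsgLib.SL2C.pm_eq_one_iff]; exact h))
    have h1 : Y * X = X * Y := hinj (by rw [map_mul, map_mul, hX, hY, ← map_mul, ← map_mul, hab.eq])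
    have h2 : Y * Z = Z * Y := hinj (by rw [map_mul, map_mul, hY, hZ, ← map_mul, ← map_mul, hbc.eq])
    have h3 := CfsgLib.SL2C.commute_of_commute hYc h1 h2
    apply φ.injective
    rw [map_mul, map_mul, ← hX, ← hZ, ← map_mul, ← map_mul, h3]

end Cfsg.Agent.S5748
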