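import Cfsg.Statements.S0493
import Cfsg.Agent.KGroup.SmallOrder

set_option autoImplicit false
open Cfsg

namespace Cfsg.Agent.S0493

/-- A finite simple group of order at most 100 that is not cyclic has order 60. -/
theorem result {G : Type*} [Group G] [Finite G] [IsSimpleGroup G]
    (hG : ¬ IsCyclic G) (h : Nat.card G ≤ 100) : Nat.card G = 60 := by
  have hna : ¬ IsMulCommutative G := by
    intro hc
    letI : CommGroup G := { (inferInstance : Group G) with mul_comm := fun a b => hc.is_comm.comm a b }
    exact hG (isCyclic_of_prime_card (p := Nat.card G) (hp := ⟨IsSimpleGroup.prime_card⟩) rfl)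
  by_contra h60'
  have h1 : 1 < Nat.card G := Finite.one_lt_card
  obtain ⟨n, hn⟩ : ∃ n, Nat.card G = n := ⟨_, rfl⟩
  rw [hn] at h h1 h60'
  have h60 : n = 60 → False := h60'
  interval_cases n
  · exact CfsgLib.SmallOrder.false_of_two_primes hna 2 2 1 0 (by norm_num) (by norm_num) (by norm_num [hn])
  · exact CfsgLib.SmallOrder.false_of_two_primes hna 3 3 1 0 (by norm_num) (by norm_num) (by norm_num [hn])
  · exact CfsgLib.SmallOrder.false_of_two_primes hna 2 2 2 0 (by norm_num) (by norm_num) (by norm_num [hn])
  · exact CfsgLib.SmallOrder.false_of_two_primes hna 5 5 1 0 (by norm_num) (by norm_num) (by norm_num [hn])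
  · exact CfsgLib.SmallOrder.false_of_two_primes hna 2 3 1 1 (by norm_num) (by norm_num) (by norm_num [hn])
  · exact CfsgLib.SmallOrder.false_of_two_primes hna 7 7 1 0 (by norm_num) (by norm_num) (by norm_num [hn])
  · exact CfsgLib.SmallOrder.false_of_two_primes hna 2 2 3 0 (by norm_num) (by norm_num) (by norm_num [hn])
  · exact CfsgLib.SmallOrder.false_of_two_primes hna 3 3 2 0 (by norm_num) (by norm_num) (by norm_num [hn])
  · exact CfsgLib.SmallOrder.false_of_two_primes hna 2 5 1 1 (by norm_num) (by norm_num) (by norm_num [hn])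
  · exact CfsgLib.SmallOrder.false_of_two_primes hna 11 11 1 0 (by norm_num) (by norm_num) (by norm_num [hn])
  · exact CfsgLib.SmallOrder.false_of_two_primes hna 2 3 2 1 (by norm_num) (by norm_num) (by norm_num [hn])
  · exact CfsgLib.SmallOrder.false_of_two_primes hna 13 13 1 0 (by norm_num) (by norm_num) (by norm_num [hn])
  · exact CfsgLib.SmallOrder.false_of_two_primes hna 2 7 1 1 (by norm_num) (by norm_num) (by norm_num [hn])
  · exact CfsgLib.SmallOrder.false_of_two_primes hna 3 5 1 1 (by norm_num) (by norm_num) (by norm_num [hn])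
  · exact CfsgLib.SmallOrder.false_of_two_primes hna 2 2 4 0 (by norm_num) (by norm_num) (by norm_num [hn])
  · exact CfsgLib.SmallOrder.false_of_two_primes hna 17 17 1 0 (by norm_num) (by norm_num) (by norm_num [hn])
  · exact CfsgLib.SmallOrder.false_of_two_primes hna 2 3 1 2 (by norm_num) (by norm_num) (by norm_num [hn])
  · exact CfsgLib.SmallOrder.false_of_two_primes hna 19 19 1 0 (by norm_num) (by norm_num) (by norm_num [hn])
  · exact CfsgLib.SmallOrder.false_of_two_primes hna 2 5 2 1 (by norm_num) (by norm_num) (by norm_num [hn])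
  · exact CfsgLib.SmallOrder.false_of_two_primes hna 3 7 1 1 (by norm_num) (by norm_num) (by norm_num [hn])
  · exact CfsgLib.SmallOrder.false_of_two_primes hna 2 11 1 1 (by norm_num) (by norm_num) (by norm_num [hn])
  · exact CfsgLib.SmallOrder.false_of_two_primes hna 23 23 1 0 (by norm_num) (by norm_num) (by norm_num [hn])
  · exact CfsgLib.SmallOrder.false_of_two_primes hna 2 3 3 1 (by norm_num) (by norm_num) (by norm_num [hn])
  · exact CfsgLib.SmallOrder.false_of_two_primes hna 5 5 2 0 (by norm_num) (by norm_num) (by norm_num [hn])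
  · exact CfsgLib.SmallOrder.false_of_two_primes hna 2 13 1 1 (by norm_num) (by norm_num) (by norm_num [hn])
  · exact CfsgLib.SmallOrder.false_of_two_primes hna 3 3 3 0 (by norm_num) (by norm_num) (by norm_num [hn])
  · exact CfsgLib.SmallOrder.false_of_two_primes hna 2 7 2 1 (by norm_num) (by norm_num) (by norm_num [hn])
  · exact CfsgLib.SmallOrder.false_of_two_primes hna 29 29 1 0 (by norm_num) (by norm_num) (by norm_num [hn])
  · exact CfsgLib.SmallOrder.false_of_excluded hna 5 1 6 (by norm_num) (by norm_num) (by norm_num [hn]) (by norm_num) (by norm_num) (by decide +kernel)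
  · exact CfsgLib.SmallOrder.false_of_two_primes hna 31 31 1 0 (by norm_num) (by norm_num) (by norm_num [hn])
  · exact CfsgLib.SmallOrder.false_of_two_primes hna 2 2 5 0 (by norm_num) (by norm_num) (by norm_num [hn])
  · exact CfsgLib.SmallOrder.false_of_two_primes hna 3 11 1 1 (by norm_num) (by norm_num) (by norm_num [hn])
  · exact CfsgLib.SmallOrder.false_of_two_primes hna 2 17 1 1 (by norm_num) (by norm_num) (by norm_num [hn])
  · exact CfsgLib.SmallOrder.false_of_two_primes hna 5 7 1 1 (by norm_num) (by norm_num) (by norm_num [hn])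
  · exact CfsgLib.SmallOrder.false_of_two_primes hna 2 3 2 2 (by norm_num) (by norm_num) (by norm_num [hn])
  · exact CfsgLib.SmallOrder.false_of_two_primes hna 37 37 1 0 (by norm_num) (by norm_num) (by norm_num [hn])
  · exact CfsgLib.SmallOrder.false_of_two_primes hna 2 19 1 1 (by norm_num) (by norm_num) (by norm_num [hn])
  · exact CfsgLib.SmallOrder.false_of_two_primes hna 3 13 1 1 (by norm_num) (by norm_num) (by norm_num [hn])
  · exact CfsgLib.SmallOrder.false_of_two_primes hna 2 5 3 1 (by norm_num) (by norm_num) (by norm_num [hn])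
  · exact CfsgLib.SmallOrder.false_of_two_primes hna 41 41 1 0 (by norm_num) (by norm_num) (by norm_num [hn])
  · exact CfsgLib.SmallOrder.false_of_excluded hna 7 1 6 (by norm_num) (by norm_num) (by norm_num [hn]) (by norm_num) (by norm_num) (by decide +kernel)
  · exact CfsgLib.SmallOrder.false_of_two_primes hna 43 43 1 0 (by norm_num) (by norm_num) (by norm_num [hn])
  · exact CfsgLib.SmallOrder.false_of_two_primes hna 2 11 2 1 (by norm_num) (by norm_num) (by norm_num [hn])
  · exact CfsgLib.SmallOrder.false_of_two_primes hna 3 5 2 1 (by norm_num) (by norm_num) (by norm_num [hn])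
  · exact CfsgLib.SmallOrder.false_of_two_primes hna 2 23 1 1 (by norm_num) (by norm_num) (by norm_num [hn])
  · exact CfsgLib.SmallOrder.false_of_two_primes hna 47 47 1 0 (by norm_num) (by norm_num) (by norm_num [hn])
  · exact CfsgLib.SmallOrder.false_of_two_primes hna 2 3 4 1 (by norm_num) (by norm_num) (by norm_num [hn])
  · exact CfsgLib.SmallOrder.false_of_two_primes hna 7 7 2 0 (by norm_num) (by norm_num) (by norm_num [hn])
  · exact CfsgLib.SmallOrder.false_of_two_primes hna 2 5 1 2 (by norm_num) (by norm_num) (by norm_num [hn])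
  · exact CfsgLib.SmallOrder.false_of_two_primes hna 3 17 1 1 (by norm_num) (by norm_num) (by norm_num [hn])
  · exact CfsgLib.SmallOrder.false_of_two_primes hna 2 13 2 1 (by norm_num) (by norm_num) (by norm_num [hn])
  · exact CfsgLib.SmallOrder.false_of_two_primes hna 53 53 1 0 (by norm_num) (by norm_num) (by norm_num [hn])
  · exact CfsgLib.SmallOrder.false_of_two_primes hna 2 3 1 3 (by norm_num) (by norm_num) (by norm_num [hn])
  · exact CfsgLib.SmallOrder.false_of_two_primes hna 5 11 1 1 (by norm_num) (by norm_num) (by norm_num [hn])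
  · exact CfsgLib.SmallOrder.false_of_two_primes hna 2 7 3 1 (by norm_num) (by norm_num) (by norm_num [hn])
  · exact CfsgLib.SmallOrder.false_of_two_primes hna 3 19 1 1 (by norm_num) (by norm_num) (by norm_num [hn])
  · exact CfsgLib.SmallOrder.false_of_two_primes hna 2 29 1 1 (by norm_num) (by norm_num) (by norm_num [hn])
  · exact CfsgLib.SmallOrder.false_of_two_primes hna 59 59 1 0 (by norm_num) (by norm_num) (by norm_num [hn])
  · exact h60 rfl
  · exact CfsgLib.SmallOrder.false_of_two_primes hna 61 61 1 0 (by norm_num) (by norm_num) (by norm_num [hn])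
  · exact CfsgLib.SmallOrder.false_of_two_primes hna 2 31 1 1 (by norm_num) (by norm_num) (by norm_num [hn])
  · exact CfsgLib.SmallOrder.false_of_two_primes hna 3 7 2 1 (by norm_num) (by norm_num) (by norm_num [hn])
  · exact CfsgLib.SmallOrder.false_of_two_primes hna 2 2 6 0 (by norm_num) (by norm_num) (by norm_num [hn])
  · exact CfsgLib.SmallOrder.false_of_two_primes hna 5 13 1 1 (by norm_num) (by norm_num) (by norm_num [hn])
  · exact CfsgLib.SmallOrder.false_of_excluded hna 11 1 6 (by norm_num) (by norm_num) (by norm_num [hn]) (by norm_num) (by norm_num) (by decide +kernel)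
  · exact CfsgLib.SmallOrder.false_of_two_primes hna 67 67 1 0 (by norm_num) (by norm_num) (by norm_num [hn])
  · exact CfsgLib.SmallOrder.false_of_two_primes hna 2 17 2 1 (by norm_num) (by norm_num) (by norm_num [hn])
  · exact CfsgLib.SmallOrder.false_of_two_primes hna 3 23 1 1 (by norm_num) (by norm_num) (by norm_num [hn])
  · exact CfsgLib.SmallOrder.false_of_excluded hna 7 1 10 (by norm_num) (by norm_num) (by norm_num [hn]) (by norm_num) (by norm_num) (by decide +kernel)
  · exact CfsgLib.SmallOrder.false_of_two_primes hna 71 71 1 0 (by norm_num) (by norm_num) (by norm_num [hn])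
  · exact CfsgLib.SmallOrder.false_of_two_primes hna 2 3 3 2 (by norm_num) (by norm_num) (by norm_num [hn])
  · exact CfsgLib.SmallOrder.false_of_two_primes hna 73 73 1 0 (by norm_num) (by norm_num) (by norm_num [hn])
  · exact CfsgLib.SmallOrder.false_of_two_primes hna 2 37 1 1 (by norm_num) (by norm_num) (by norm_num [hn])
  · exact CfsgLib.SmallOrder.false_of_two_primes hna 3 5 1 2 (by norm_num) (by norm_num) (by norm_num [hn])
  · exact CfsgLib.SmallOrder.false_of_two_primes hna 2 19 2 1 (by norm_num) (by norm_num) (by norm_num [hn])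
  · exact CfsgLib.SmallOrder.false_of_two_primes hna 7 11 1 1 (by norm_num) (by norm_num) (by norm_num [hn])
  · exact CfsgLib.SmallOrder.false_of_excluded hna 13 1 6 (by norm_num) (by norm_num) (by norm_num [hn]) (by norm_num) (by norm_num) (by decide +kernel)
  · exact CfsgLib.SmallOrder.false_of_two_primes hna 79 79 1 0 (by norm_num) (by norm_num) (by norm_num [hn])
  · exact CfsgLib.SmallOrder.false_of_two_primes hna 2 5 4 1 (by norm_num) (by norm_num) (by norm_num [hn])
  · exact CfsgLib.SmallOrder.false_of_two_primes hna 3 3 4 0 (by norm_num) (by norm_num) (by norm_num [hn])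
  · exact CfsgLib.SmallOrder.false_of_two_primes hna 2 41 1 1 (by norm_num) (by norm_num) (by norm_num [hn])
  · exact CfsgLib.SmallOrder.false_of_two_primes hna 83 83 1 0 (by norm_num) (by norm_num) (by norm_num [hn])
  · exact CfsgLib.SmallOrder.false_of_excluded hna 7 1 12 (by norm_num) (by norm_num) (by norm_num [hn]) (by norm_num) (by norm_num) (by decide +kernel)
  · exact CfsgLib.SmallOrder.false_of_two_primes hna 5 17 1 1 (by norm_num) (by norm_num) (by norm_num [hn])
  · exact CfsgLib.SmallOrder.false_of_two_primes hna 2 43 1 1 (by norm_num) (by norm_num) (by norm_num [hn])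
  · exact CfsgLib.SmallOrder.false_of_two_primes hna 3 29 1 1 (by norm_num) (by norm_num) (by norm_num [hn])
  · exact CfsgLib.SmallOrder.false_of_two_primes hna 2 11 3 1 (by norm_num) (by norm_num) (by norm_num [hn])
  · exact CfsgLib.SmallOrder.false_of_two_primes hna 89 89 1 0 (by norm_num) (by norm_num) (by norm_num [hn])
  · exact CfsgLib.SmallOrder.false_of_excluded hna 5 1 18 (by norm_num) (by norm_num) (by norm_num [hn]) (by norm_num) (by norm_num) (by decide +kernel)
  · exact CfsgLib.SmallOrder.false_of_two_primes hna 7 13 1 1 (by norm_num) (by norm_num) (by norm_num [hn])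
  · exact CfsgLib.SmallOrder.false_of_two_primes hna 2 23 2 1 (by norm_num) (by norm_num) (by norm_num [hn])
  · exact CfsgLib.SmallOrder.false_of_two_primes hna 3 31 1 1 (by norm_num) (by norm_num) (by norm_num [hn])
  · exact CfsgLib.SmallOrder.false_of_two_primes hna 2 47 1 1 (by norm_num) (by norm_num) (by norm_num [hn])
  · exact CfsgLib.SmallOrder.false_of_two_primes hna 5 19 1 1 (by norm_num) (by norm_num) (by norm_num [hn])
  · exact CfsgLib.SmallOrder.false_of_two_primes hna 2 3 5 1 (by norm_num) (by norm_num) (by norm_num [hn])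
  · exact CfsgLib.SmallOrder.false_of_two_primes hna 97 97 1 0 (by norm_num) (by norm_num) (by norm_num [hn])
  · exact CfsgLib.SmallOrder.false_of_two_primes hna 2 7 1 2 (by norm_num) (by norm_num) (by norm_num [hn])
  · exact CfsgLib.SmallOrder.false_of_two_primes hna 3 11 2 1 (by norm_num) (by norm_num) (by norm_num [hn])
  · exact CfsgLib.SmallOrder.false_of_two_primes hna 2 5 2 2 (by norm_num) (by norm_num) (by norm_num [hn])


end Cfsg.Agent.S0493
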