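import Cfsg.Statements.S2585
import Cfsg.Agent.QuadStd.Std
import Cfsg.Agent.Classical.SymplecticBasic
import Mathlib.FieldTheory.Perfect

set_option autoImplicit false
open Cfsg CfsgLib.QuadStd CfsgLib.Quad

namespace Cfsg.Agent.S2585

/-- Over a finite field of characteristic two every element of the symplectic group is orthogonal for a suitable quadratic form: for each A in Sp_2m(F) there is a quadratic form Q on F^(2m) whose polar form is the alternating form defining Sp_2m(F) (so Q is non-degenerate) and which A preserves. Equivalently, for m ≥ 1, Sp_2m(F) is the union of the conjugates of its two orthogonal subgroups O⁺_2m(F) and O⁻_2m(F). -/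
theorem result {F : Type*} [Field F] [Fintype F] [CharP F 2] {m : ℕ} (A : Matrix.symplecticGroup (Fin m) F) : ∃ Q : QuadraticForm F (Fin m ⊕ Fin m → F), (∀ u v : Fin m ⊕ Fin m → F, QuadraticMap.polar ⇑Q u v = Cfsg.sympForm m F u v) ∧ ∀ v : Fin m ⊕ Fin m → F, Q ((A : Matrix (Fin m ⊕ Fin m) (Fin m ⊕ Fin m) F).mulVec v) = Q v := by
  classical
  set Q0 : QuadraticForm F (Fin m ⊕ Fin m → F) := plusQ m with hQ0
  let T : (Fin m ⊕ Fin m → F) →ₗ[F] (Fin m ⊕ Fin m → F) := Matrix.toLin' (A : Matrix (Fin m ⊕ Fin m) (Fin m ⊕ Fin m) F)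
  have hT : ∀ v, T v = (A : Matrix (Fin m ⊕ Fin m) (Fin m ⊕ Fin m) F).mulVec v := fun v => Matrix.toLin'_apply _ _
  have hpol : ∀ u v, QuadraticMap.polar (⇑Q0) u v = Cfsg.sympForm m F u v := fun u v => by
    rw [hQ0, plusQ_coe, plus_polar]
    show _ = CfsgLib.Symp.form u v
    rw [CfsgLib.Symp.form_apply]
    refine Finset.sum_congr rfl fun i _ => ?_
    rw [CharTwo.sub_eq_add]
    ring
  have hA : ∀ u v, Cfsg.sympForm m F (T u) (T v) = Cfsg.sympForm m F u v := fun u v => by
    have h := SymplecticGroup.mem_iff'.mp A.2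
    rw [hT, hT, Cfsg.sympForm, Cfsg.sympForm, ← Matrix.vecMul_transpose _ u, ← Matrix.dotProduct_mulVec,
      Matrix.mulVec_mulVec, Matrix.mulVec_mulVec, h]
  let σ : F ≃+* F := frobeniusEquiv F 2
  have hσ : ∀ a, σ.symm a ^ 2 = a := fun a => by
    conv_rhs => rw [← σ.apply_symm_apply a]
    rw [frobeniusEquiv_apply, frobenius_def]
  have hσ2 : ∀ a : F, σ.symm (a ^ 2) = a := fun a => by
    rw [← frobenius_def, ← frobeniusEquiv_apply]
    exact σ.symm_apply_apply a
  let L : (Fin m ⊕ Fin m → F) →ₗ[F] F :=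
    { toFun := fun v => σ.symm (Q0 (T v) + Q0 v)
      map_add' := fun u v => by
        rw [map_add T, CfsgLib.Forms.quad_add, CfsgLib.Forms.quad_add, hpol, hpol, hA, ← map_add σ.symm]
        congr 1
        linear_combination CharTwo.add_self_eq_zero (Cfsg.sympForm m F u v)
      map_smul' := fun a v => by
        rw [map_smul, CfsgLib.Forms.quad_smul, CfsgLib.Forms.quad_smul, ← mul_add, map_mul, ← pow_two, hσ2]
        rfl }
  let D : (Fin m ⊕ Fin m → F) →ₗ[F] (Fin m ⊕ Fin m → F) := T - LinearMap.id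
  have hker : LinearMap.ker D ≤ LinearMap.ker L := fun v hv => by
    rw [LinearMap.mem_ker, LinearMap.sub_apply, LinearMap.id_apply, sub_eq_zero] at hv
    show σ.symm (Q0 (T v) + Q0 v) = 0
    rw [hv, CharTwo.add_self_eq_zero, map_zero]
  obtain ⟨M, hM⟩ := LinearMap.exists_extend
    ((LinearMap.ker D).liftQ L hker ∘ₗ D.quotKerEquivRange.symm.toLinearMap)
  have hML : ∀ v, M (T v - v) = L v := fun v => by
    have h1 := LinearMap.congr_fun hM ⟨D v, LinearMap.mem_range_self _ v⟩
    rw [LinearMap.comp_apply, LinearMap.comp_apply] at h1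
    refine h1.trans ?_
    rw [LinearEquiv.coe_coe, LinearMap.quotKerEquivRange_symm_apply_image, Submodule.mkQ_apply,
      Submodule.liftQ_apply]
  refine ⟨Q0 + LinearMap.BilinMap.toQuadraticMap ((LinearMap.mul F F).compl₁₂ M M), fun u v => ?_, fun v => ?_⟩
  · rw [show ⇑(Q0 + LinearMap.BilinMap.toQuadraticMap ((LinearMap.mul F F).compl₁₂ M M)) =
        ⇑Q0 + ⇑(LinearMap.BilinMap.toQuadraticMap ((LinearMap.mul F F).compl₁₂ M M)) from rfl,
      QuadraticMap.polar_add, hpol, LinearMap.BilinMap.polar_toQuadraticMap]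
    simp [mul_comm, CharTwo.add_self_eq_zero]
  · rw [← hT]
    simp only [add_apply, LinearMap.BilinMap.toQuadraticMap_apply, LinearMap.compl₁₂_apply, LinearMap.mul_apply']
    have h1 : Q0 (T v) + Q0 v = L v * L v := by rw [← pow_two]; exact (hσ _).symm
    rw [← hML, map_sub] at h1
    linear_combination h1 + (M (T v) - M v) * 0 - CharTwo.add_self_eq_zero (Q0 v) + (M v * M v - M (T v) * M v + (M (T v) ^ 2 - M v ^ 2)) * (CharTwo.two_eq_zero : (2 : F) = 0)

end Cfsg.Agent.S2585
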