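import Cfsg.Statements.S2131
import Cfsg.Agent.Coset.J1.Matrix
import Cfsg.Agent.J1Local.Cent

set_option autoImplicit false
open Cfsg

namespace Cfsg.Agent.S2131

/-- The Janko group J₁ (the group generated by two explicit 7 × 7 matrices over the integers modulo 11) has an involution whose centraliser is isomorphic to the direct product of a group of order 2 with the alternating group of degree 5. -/
theorem result : ∃ t : ↥Cfsg.Spor.J1, orderOf t = 2 ∧ Nonempty (↥(Subgroup.centralizer ({t} : Set ↥Cfsg.Spor.J1)) ≃* Multiplicative (ZMod 2) × ↥(alternatingGroup (Fin 5))) := by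
  set e := CfsgLib.Coset.J1.equivSpor with he
  refine ⟨e CfsgLib.J1Local.t, by rw [MulEquiv.orderOf_eq, CfsgLib.J1Local.orderOf_t], ⟨?_⟩⟩
  refine ((MulEquiv.subgroupCongr ?_).trans
    (CfsgLib.J1Local.C.equivMapOfInjective e.toMonoidHom e.injective).symm).trans
    CfsgLib.J1Local.equivCM
  ext g
  rw [Subgroup.mem_centralizer_singleton_iff, Subgroup.mem_map]
  constructor
  · intro hg
    refine ⟨e.symm g, CfsgLib.J1Local.mem_C.mpr (e.injective ?_), e.apply_symm_apply g⟩
    rw [map_mul, map_mul, e.apply_symm_apply, hg]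
  · rintro ⟨c, hc, rfl⟩
    have h := CfsgLib.J1Local.mem_C.mp hc
    show e c * _ = _ * e c
    rw [← map_mul, ← map_mul, h]

end Cfsg.Agent.S2131
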