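import Cfsg.Statements.S3794
import Cfsg.Agent.FGSA.FPFFour

set_option autoImplicit false
open Cfsg

namespace Cfsg.Agent.S3794

open CfsgLib.FPFFour
open scoped commutatorElement

universe u

theorem aux : ∀ (n : ℕ) (G : Type u) [Group G] [Finite G], Nat.card G = n →
    Group.IsSolvable G → ∀ σ : MulAut G, σ ^ 4 = 1 → (∀ g : G, σ g = g → g = 1) →
    Group.IsNilpotent (commutator G) := by
  intro n
  induction n using Nat.strong_induction_on with
  | _ n ih =>
  intro G _ _ hn hG σ hσ hfpf
  subst hn
  rcases subsingleton_or_nontrivial G with hG1 | hG1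
  · exact inferInstance
  have hodd := odd_card σ hσ hfpf
  have σ4 : ∀ g, σ (σ (σ (σ g))) = g := fun g => by
    have := DFunLike.congr_fun hσ g
    simpa [pow_succ] using this
  obtain ⟨V, r, hr, hV0, hVn, hVσ, hVc, hVexp, hVmin⟩ := exists_min_invariant hG σ
  haveI := hVn
  letI : CommGroup V :=
    { (inferInstance : Group V) with mul_comm := fun a b => Subtype.ext (hVc a a.2 b b.2) }
  have hσV : V.map σ.toMonoidHom = V := by
    refine le_antisymm (Subgroup.map_le_iff_le_comap.2 hVσ) fun x hx => ⟨σ (σ (σ x)), ?_, σ4 x⟩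
    exact hVσ _ (hVσ _ (hVσ _ hx))
  -- the quotient
  have hQ : ∀ (K : Subgroup G) [K.Normal] (hK : K.map σ.toMonoidHom = K),
      (QuotientGroup.congr K K σ hK) ^ 4 = 1 ∧
      ∀ g : G ⧸ K, QuotientGroup.congr K K σ hK g = g → g = 1 := by
    intro K _ hK
    have hKσ : ∀ k ∈ K, σ k ∈ K := fun k hk => by
      rw [← hK]; exact ⟨k, hk, rfl⟩
    constructor
    · ext g
      induction g using QuotientGroup.induction_on with
      | _ g =>
        show QuotientGroup.congr K K σ hK (QuotientGroup.congr K K σ hK
          (QuotientGroup.congr K K σ hK (QuotientGroup.congr K K σ hK (g : G ⧸ K)))) = (g : G ⧸ K)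
        exact congrArg (QuotientGroup.mk (s := K)) (σ4 g)
    · intro g
      induction g using QuotientGroup.induction_on with
      | _ g =>
        intro h
        change ((σ g : G) : G ⧸ K) = (g : G ⧸ K) at h
        rw [QuotientGroup.eq_one_iff]
        exact fpf_of_mem σ hfpf hKσ (QuotientGroup.eq.1 h.symm)
  have hquot : Group.IsNilpotent (commutator (G ⧸ V)) := by
    haveI := hG
    refine ih (Nat.card (G ⧸ V)) ?_ (G ⧸ V) rfl inferInstance _ (hQ V hσV).1 (hQ V hσV).2
    rw [Subgroup.card_eq_card_quotient_mul_card_subgroup V]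
    haveI : Nontrivial V := V.nontrivial_iff_ne_bot.2 hV0
    exact lt_mul_right Nat.card_pos Finite.one_lt_card
  -- the action on `V`
  let ρ₀ : G →* MulAut V := MulAut.conjNormal
  let s : MulAut V :=
    { toFun := fun v => ⟨σ v, hVσ v v.2⟩
      invFun := fun v => ⟨σ (σ (σ v)), hVσ _ (hVσ _ (hVσ v v.2))⟩
      left_inv := fun v => Subtype.ext (σ4 v)
      right_inv := fun v => Subtype.ext (σ4 v)
      map_mul' := fun v w => Subtype.ext (map_mul σ (v : G) w) }
  have hs : ∀ v : V, ((s v : V) : G) = σ v := fun v => rfl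
  have hρ : ∀ (g : G) (v : V), ((ρ₀ g v : V) : G) = g * v * g⁻¹ := fun g v => rfl
  have hcompat : ∀ g v, ρ₀ (σ g) (s v) = s (ρ₀ g v) := fun g v => Subtype.ext (by
    rw [hρ, hs, hs, hρ, map_mul, map_mul, map_inv])
  have hker : ρ₀.ker.map σ.toMonoidHom = ρ₀.ker := by
    have hle : ∀ g ∈ ρ₀.ker, σ g ∈ ρ₀.ker := fun g hg => by
      rw [MonoidHom.mem_ker] at hg ⊢
      ext v
      obtain ⟨w, rfl⟩ := s.surjective v
      rw [hcompat, hg]
      rfl
    refine le_antisymm (Subgroup.map_le_iff_le_comap.2 hle) fun x hx => ⟨σ (σ (σ x)), ?_, σ4 x⟩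
    exact hle _ (hle _ (hle _ hx))
  let σH := QuotientGroup.congr ρ₀.ker ρ₀.ker σ hker
  obtain ⟨hσH, hHfpf⟩ := hQ ρ₀.ker hker
  let ρ : G ⧸ ρ₀.ker →* MulAut V := QuotientGroup.kerLift ρ₀
  have hHcomm : ∀ x y : G ⧸ ρ₀.ker, x * y = y * x := by
    rcases subsingleton_or_nontrivial (G ⧸ ρ₀.ker) with hH1 | hH1
    · exact fun x y => Subsingleton.elim _ _
    haveI := hG
    obtain ⟨N, q, hq, hN0, hNn, hNσ, hNc, hNexp, hNmin⟩ :=
      exists_min_invariant (G := G ⧸ ρ₀.ker) inferInstance σH
    let D : Data (G ⧸ ρ₀.ker) V :=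
      { σ := σH
        s := s
        ρ := ρ
        N := N
        q := q
        r := r
        hq := hq
        hr := hr
        σ4 := fun h => by
          have := DFunLike.congr_fun hσH h
          simp only [pow_succ, pow_zero, one_mul, MulAut.mul_apply, MulAut.one_apply] at this
          exact this
        s4 := fun v => Subtype.ext (σ4 v)
        hfpf := hHfpf
        sfpf := fun v hv => Subtype.ext (hfpf v (congrArg Subtype.val hv))
        oddH := odd_card σH hσH hHfpf
        oddV := hodd.of_dvd_nat (Subgroup.card_subgroup_dvd_card V)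
        faithful := QuotientGroup.kerLift_injective ρ₀
        compat := fun h v => by
          induction h using QuotientGroup.induction_on with
          | _ g => exact hcompat g v
        expV := fun v => Subtype.ext (by rw [Subgroup.coe_pow]; exact hVexp v v.2)
        irred := fun U hUs hUρ => by
          have hU' : (U.map V.subtype).Normal := ⟨fun x hx g => by
            obtain ⟨v, hv, rfl⟩ := hx
            exact ⟨ρ₀ g v, hUρ (g : G ⧸ ρ₀.ker) v hv, hρ g v⟩⟩
          rcases hVmin (U.map V.subtype) (Subgroup.map_subtype_le U) hU'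
              (fun x hx => by
                obtain ⟨v, hv, rfl⟩ := hx
                exact ⟨s v, hUs v hv, hs v⟩) with h | h
          · left
            exact (Subgroup.map_eq_bot_iff_of_injective U V.subtype_injective).1 h
          · right
            exact Subgroup.map_injective V.subtype_injective
              (h.trans (by rw [← MonoidHom.range_eq_map, Subgroup.range_subtype]))
        N_ne := hN0
        N_normal := hNn
        N_inv := hNσ
        N_comm := hNc
        N_exp := hNexp
        N_min := hNmin }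
    exact D.comm
  have hle : commutator G ≤ ρ₀.ker := by
    rw [commutator_def, Subgroup.commutator_le]
    intro a _ b _
    rw [← QuotientGroup.eq_one_iff, ← QuotientGroup.mk'_apply, map_commutatorElement,
      commutatorElement_eq_one_iff_mul_comm]
    exact hHcomm _ _
  haveI := hquot
  let f : commutator G →* commutator (G ⧸ V) :=
    ((QuotientGroup.mk' V).comp (commutator G).subtype).codRestrict _ fun x => by
      have h : QuotientGroup.mk' V (x : G) ∈
          Subgroup.map (QuotientGroup.mk' V) (⁅(⊤ : Subgroup G), (⊤ : Subgroup G)⁆) :=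
        Subgroup.mem_map_of_mem _ x.2
      rw [Subgroup.map_commutator] at h
      exact Subgroup.commutator_mono le_top le_top h
  refine Subgroup.isNilpotent_of_ker_le_center f ?_
  intro x hx
  rw [Subgroup.mem_center_iff]
  intro g
  have hxV : (x : G) ∈ V := by
    have h1 : ((f x : commutator (G ⧸ V)) : G ⧸ V) = 1 := by
      rw [MonoidHom.mem_ker.1 hx]; rfl
    exact (QuotientGroup.eq_one_iff (x : G)).1 h1
  have hg : ρ₀ g = 1 := MonoidHom.mem_ker.1 (hle g.2)
  have h2 : ((ρ₀ g ⟨x, hxV⟩ : V) : G) = x := by rw [hg]; rfl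
  rw [hρ, mul_inv_eq_iff_eq_mul] at h2
  exact Subtype.ext h2

/-- Let G be a finite solvable group with an automorphism σ satisfying σ⁴ = 1 and fixing only the identity. Then the derived subgroup G' is nilpotent. -/
theorem result {G : Type*} [Group G] [Finite G] (hG : Group.IsSolvable G) (σ : MulAut G) (hσ : σ ^ 4 = 1) (hfpf : ∀ g : G, σ g = g → g = 1) : Group.IsNilpotent (commutator G) :=
  aux (Nat.card G) G rfl hG σ hσ hfpf

end Cfsg.Agent.S3794
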