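import Cfsg.Statements.S3035
import Cfsg.Agent.InvChar.DihedralEight
import Cfsg.Agent.InvChar.OneSixtyEight
import Cfsg.Agent.InvChar.ThreeSixty
import Cfsg.Agent.Invol.ElementaryCentralizers
import Cfsg.Agent.Classical.SmallPSL
-- import your own Cfsg.Agent.* helpers here

set_option autoImplicit false
set_option linter.style.haveILetI false
set_option linter.unusedSectionVars false
open Cfsg

namespace Cfsg.Agent.S3035

open Subgroup

universe u

/-- A faithful action on `n` cosets of a group of order `n!`. -/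
theorem perm_equiv {G : Type u} [Group G] [Finite G] (N : Subgroup G) {n : ℕ} (hn : N.index = n)
    (hK : N.normalCore = ⊥) (hc : Nat.card G = n.factorial) : Nonempty (G ≃* Equiv.Perm (Fin n)) := by
  let f : G →* Equiv.Perm (G ⧸ N) := MulAction.toPermHom G (G ⧸ N)
  have hf : Function.Injective f := by
    rw [← MonoidHom.ker_eq_bot_iff, ← Subgroup.normalCore_eq_ker, hK]
  have hcard : Nat.card (G ⧸ N) = n := by rw [← index_eq_card, hn]
  have hbij : Function.Bijective f :=
    (Nat.bijective_iff_injective_and_card f).2 ⟨hf, by rw [Nat.card_perm, hcard, hc]⟩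
  exact ⟨(MulEquiv.ofBijective f hbij).trans (Equiv.permCongrHom (Finite.equivFinOfCardEq hcard))⟩

/-- In a dihedral group of order eight the central involution is the square of the rotation. -/
theorem central_eq : ∀ x : DihedralGroup 4, x ≠ 1 → (∀ y, x * y = y * x) → x = DihedralGroup.r 1 * DihedralGroup.r 1 := by
  decide

theorem eightData {G : Type u} [Group G] [Finite G] (z : G) (hz : orderOf z = 2)
    (e : ↥(Subgroup.centralizer ({z} : Set G)) ≃* DihedralGroup 4) :
    ∃ a b : G, CfsgLib.InvChar.EightData z a b := by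
  set C := Subgroup.centralizer ({z} : Set G)
  have hzC : z ∈ C := mem_centralizer_singleton_iff.2 rfl
  have hz1 : z ≠ 1 := fun h => by rw [h, orderOf_one] at hz; omega
  have he : e ⟨z, hzC⟩ = DihedralGroup.r 1 * DihedralGroup.r 1 := by
    refine central_eq _ (fun h => hz1 (congrArg Subtype.val (e.injective (h.trans (map_one e).symm)))) fun y => ?_
    obtain ⟨c, rfl⟩ := e.surjective y
    rw [← map_mul, ← map_mul]
    exact congrArg e (Subtype.ext (mem_centralizer_singleton_iff.1 c.2).symm)
  set a : ↥C := e.symm (DihedralGroup.r 1)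
  set b : ↥C := e.symm (DihedralGroup.sr 0)
  refine ⟨a, b, ?_, hz1, ?_, ?_, ?_, ?_, ?_, ?_, b.2⟩
  · rw [← pow_two, ← hz, pow_orderOf_eq_one]
  · rw [Subgroup.orderOf_coe, MulEquiv.orderOf_eq, DihedralGroup.orderOf_r_one]
  · have h1 : a * a = (⟨z, hzC⟩ : ↥C) := by rw [← map_mul, ← he, MulEquiv.symm_apply_apply]
    exact congrArg Subtype.val h1
  · have h1 : b * a * b⁻¹ = a⁻¹ := by
      rw [← map_inv, ← map_mul, ← map_mul, ← map_inv]
      exact congrArg e.symm (by decide)
    exact congrArg Subtype.val h1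
  · have h1 : b * b = 1 := by rw [← map_mul, DihedralGroup.sr_mul_self, map_one]
    exact congrArg Subtype.val h1
  · intro hb
    obtain ⟨k, hk⟩ := mem_zpowers_iff.1 hb
    have h1 : a ^ k = b := Subtype.ext (by rw [SubgroupClass.coe_zpow]; exact hk)
    have h2 := congrArg e h1
    rw [map_zpow, MulEquiv.apply_symm_apply, MulEquiv.apply_symm_apply, DihedralGroup.r_one_zpow] at h2
    cases h2
  · rw [Nat.card_congr e.toEquiv, DihedralGroup.nat_card]

/-- With four group Sylow subgroup, self-centralising, and a 3-element in the normalizer: order 12 or 60. -/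
theorem four_case {H : Type u} [Group H] [Finite H] (T : Sylow 2 H) {t : H} (ht2 : orderOf t = 2)
    (hC : Subgroup.centralizer ({t} : Set H) = (T : Subgroup H)) (h4 : Nat.card (T : Subgroup H) = 4)
    (hmov : ∃ n ∈ normalizer ((T : Subgroup H) : Set H), n * t * n⁻¹ ≠ t) :
    Nat.card ↥(normalizer ((T : Subgroup H) : Set H)) = 12 ∧
      ((T : Subgroup H).Normal ∨ (Nat.card H = 60 ∧ (normalizer ((T : Subgroup H) : Set H)).index = 5 ∧
        ∀ y : H, orderOf y = 2 → y ∈ normalizer ((T : Subgroup H) : Set H) → y ∈ (T : Subgroup H))) ∧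
      ∀ y : H, orderOf y = 2 → IsConj t y := by
  classical
  haveI : Fact (Nat.Prime 2) := ⟨Nat.prime_two⟩
  set N := normalizer ((T : Subgroup H) : Set H)
  have htT : t ∈ (T : Subgroup H) := hC ▸ mem_centralizer_singleton_iff.2 rfl
  have hTN : (T : Subgroup H) ≤ N := le_normalizer
  obtain ⟨n, hn, hnt⟩ := hmov
  have hntT : n * t * n⁻¹ ∈ (T : Subgroup H) := (mem_normalizer_iff.1 hn t).1 htT
  have ho : orderOf (n * t * n⁻¹) = 2 := by rw [← MulAut.conj_apply, MulEquiv.orderOf_eq, ht2]
  -- the orbit of `t` under `N`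
  letI : MulAction ↥N H := MulAction.compHom H (MulAut.conj.comp N.subtype)
  have hsmul : ∀ (m : ↥N) (y : H), m • y = (m : H) * y * (m : H)⁻¹ := fun m y => rfl
  have hstab : MulAction.stabilizer ↥N t = (T : Subgroup H).subgroupOf N := by
    ext m
    rw [MulAction.mem_stabilizer_iff, hsmul, mem_subgroupOf, ← hC, mem_centralizer_singleton_iff,
      mul_inv_eq_iff_eq_mul]
  have horb : MulAction.orbit ↥N t ⊆ ((T : Subgroup H) : Set H) \ {1} := by
    rintro _ ⟨m, rfl⟩
    refine ⟨(mem_normalizer_iff.1 m.2 t).1 htT, fun h => ?_⟩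
    have h' : (m : H) * t * (m : H)⁻¹ = 1 := h
    rw [conj_eq_one_iff] at h'
    rw [h', orderOf_one] at ht2; omega
  have hT3 : Set.ncard (((T : Subgroup H) : Set H) \ {1}) = 3 := by
    rw [Set.ncard_diff_singleton_of_mem (one_mem (T : Subgroup H)), ← Nat.card_coe_set_eq, SetLike.coe_sort_coe, h4]
  have hmul : Nat.card (MulAction.orbit ↥N t) * 4 = Nat.card ↥N := by
    have h1 := (MulAction.index_stabilizer (G := ↥N) t)
    rw [hstab, ← Nat.card_coe_set_eq] at h1
    rw [← h1, ← h4, ← Nat.card_congr (subgroupOfEquivOfLe hTN).toEquiv, mul_comm, card_mul_index]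
  have hodd : ¬ 2 ∣ Nat.card (MulAction.orbit ↥N t) := by
    have h1 := (MulAction.index_stabilizer (G := ↥N) t)
    rw [hstab, ← Nat.card_coe_set_eq] at h1
    rw [← h1]
    intro hd
    apply T.not_dvd_index
    rw [← relIndex_mul_index hTN]
    exact dvd_mul_of_dvd_left hd _
  have h2le : 2 ≤ Nat.card (MulAction.orbit ↥N t) := by
    rw [Nat.card_coe_set_eq]
    refine le_trans (Set.ncard_pair hnt).ge (Set.ncard_le_ncard ?_ (Set.toFinite _))
    rintro x (rfl | rfl)
    · exact ⟨⟨n, hn⟩, rfl⟩
    · exact ⟨1, by simp [hsmul]⟩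
  have hle3 : Nat.card (MulAction.orbit ↥N t) ≤ 3 := by
    rw [Nat.card_coe_set_eq, ← hT3]
    exact Set.ncard_le_ncard horb (Set.toFinite _)
  have horb3 : Nat.card (MulAction.orbit ↥N t) = 3 := by omega
  have horbEq : MulAction.orbit ↥N t = ((T : Subgroup H) : Set H) \ {1} :=
    Set.eq_of_subset_of_ncard_le horb (by rw [hT3, ← Nat.card_coe_set_eq, horb3]) (Set.toFinite _)
  have hN12 : Nat.card ↥N = 12 := by omega
  have hTconj : ∀ y ∈ (T : Subgroup H), y ≠ 1 → IsConj t y := by
    intro y hy hy1
    obtain ⟨m, hm⟩ := horbEq.ge ⟨hy, hy1⟩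
    exact isConj_iff.2 ⟨(m : H), hm⟩
  have hconj : ∀ y : H, orderOf y = 2 → IsConj t y := by
    intro y hy
    have hz : IsPGroup 2 ↥(zpowers y) := IsPGroup.of_card (n := 1) (by rw [Nat.card_zpowers, hy, pow_one])
    obtain ⟨g, hg⟩ := hz.exists_le_sylow
    obtain ⟨k, hk⟩ := MulAction.exists_smul_eq H g T
    have h1 : k * y * k⁻¹ ∈ (T : Subgroup H) := by
      rw [← hk]
      exact ⟨y, hg (mem_zpowers y), rfl⟩
    refine (hTconj _ h1 fun h => ?_).trans (isConj_iff.2 ⟨k⁻¹, by group⟩)
    rw [conj_eq_one_iff] at h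
    rw [h, orderOf_one] at hy; omega
  refine ⟨hN12, ?_, hconj⟩
  by_cases hnor : (T : Subgroup H).Normal
  · exact Or.inl hnor
  refine Or.inr ?_
  have hsq : ∀ y ∈ (T : Subgroup H), y ^ 2 = 1 := by
    intro y hy
    by_cases hy1 : y = 1
    · rw [hy1, one_pow]
    obtain ⟨g, hg⟩ := isConj_iff.1 (hTconj y hy hy1)
    rw [← hg, conj_pow, ← ht2, pow_orderOf_eq_one]; simp
  have hTcomm : ∀ x ∈ (T : Subgroup H), ∀ y ∈ (T : Subgroup H), x * y = y * x := by
    intro x hx y hy
    have h := fun {w : H} (hw : w ∈ (T : Subgroup H)) =>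
      inv_eq_of_mul_eq_one_right (show w * w = 1 by rw [← sq]; exact hsq w hw)
    rw [← h (mul_mem hx hy), _root_.mul_inv_rev, h hx, h hy]
  have hyp : CfsgLib.EACent.Hyp T := by
    refine ⟨fun hc => ?_, hnor, fun y hy => ?_⟩
    · obtain ⟨⟨g, hg⟩, hgen⟩ := hc.exists_generator
      have h1 : orderOf (⟨g, hg⟩ : ↥(T : Subgroup H)) = 4 := by rw [orderOf_eq_card_of_forall_mem_zpowers hgen, h4]
      have h2 := orderOf_dvd_of_pow_eq_one (hsq g hg)
      rw [Subgroup.orderOf_mk] at h1
      rw [h1] at h2
      omega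
    · obtain ⟨g, hg⟩ := isConj_iff.1 (hconj y hy)
      have hmem : ∀ c ∈ centralizer ({y} : Set H), g⁻¹ * c * g ∈ (T : Subgroup H) := by
        intro c hc
        rw [← hC, mem_centralizer_singleton_iff]
        rw [mem_centralizer_singleton_iff, ← hg] at hc
        calc g⁻¹ * c * g * t = g⁻¹ * (c * (g * t * g⁻¹)) * g := by group
          _ = t * (g⁻¹ * c * g) := by rw [hc]; group
      refine ⟨⟨⟨fun c d => Subtype.ext ?_⟩⟩, fun c hc => ?_⟩
      · have h1 := congrArg (fun x => g * x * g⁻¹) (hTcomm _ (hmem _ c.2) _ (hmem _ d.2))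
        simpa [mul_assoc] using h1
      · have h1 := congrArg (fun x => g * x * g⁻¹) (hsq _ (hmem _ hc))
        simpa [sq, mul_assoc] using h1
  refine ⟨?_, ?_, fun y hy hyN => CfsgLib.EACent.invol_mem hyp hyN hy⟩
  all_goals
    have hidx : N.index = 5 := by
      obtain ⟨u, hu, huH⟩ := CfsgLib.EACent.exists_outside hyp
      set o : H ⧸ N := QuotientGroup.mk 1 with ho'
      have hfixo : ∀ s ∈ (T : Subgroup H), s • o = o := by
        intro s hs
        rw [ho', MulAction.Quotient.smul_mk, smul_eq_mul, mul_one]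
        exact QuotientGroup.eq.2 (by rw [mul_one]; exact inv_mem (hTN hs))
      have huo : (QuotientGroup.mk u : H ⧸ N) ≠ o := fun h => huH (by
        rw [ho', QuotientGroup.eq, mul_one] at h
        exact inv_mem_iff.1 h)
      have hne : ∀ s : ↥(T : Subgroup H), (s : H) • (QuotientGroup.mk u : H ⧸ N) ≠ o := fun s h => huo (by
        have h2 := congrArg (fun y => (s : H)⁻¹ • y) h
        simp only [inv_smul_smul] at h2
        rw [h2, hfixo _ (inv_mem s.2)])
      have hbij : Function.Bijective (fun s : ↥(T : Subgroup H) =>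
          (⟨(s : H) • (QuotientGroup.mk u : H ⧸ N), hne s⟩ : {y : H ⧸ N // y ≠ o})) := by
        refine ⟨fun s s' h => ?_, fun ⟨y, hy⟩ => ?_⟩
        · exact Subtype.ext ((CfsgLib.EACent.T_regular hyp huo (hne s)).unique ⟨s.2, rfl⟩
            ⟨s'.2, (congrArg Subtype.val h).symm⟩)
        · obtain ⟨s, ⟨hs, hsy⟩, -⟩ := CfsgLib.EACent.T_regular hyp huo hy
          exact ⟨⟨s, hs⟩, Subtype.ext hsy⟩
      have h5 := Nat.card_eq_of_bijective _ hbij
      rw [h4] at h5
      haveI := Fintype.ofFinite (H ⧸ N)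
      rw [index_eq_card, Nat.card_eq_fintype_card]
      rw [Nat.card_eq_fintype_card, Fintype.card_subtype_compl, Fintype.card_subtype_eq] at h5
      omega
  · rw [← card_mul_index N, hN12, hidx]
  · exact hidx

theorem index_of_frattini {G : Type u} [Group G] [Finite G] (N H : Subgroup G) [H.Normal] (h : N ⊔ H = ⊤) :
    N.index = N.relIndex H := by
  haveI : H.IsFiniteRelIndex N := ⟨Subgroup.index_ne_zero_of_finite⟩
  have h2 : (N ⊓ H).relIndex N * N.relIndex (N ⊔ H) = (N ⊓ H).relIndex H * H.relIndex (N ⊔ H) := by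
    rw [relIndex_mul_relIndex _ _ _ inf_le_left le_sup_left, relIndex_mul_relIndex _ _ _ inf_le_right le_sup_right]
  rw [inf_relIndex_left, inf_relIndex_right, relIndex_sup_right, h, relIndex_top_right] at h2
  exact Nat.eq_of_mul_eq_mul_left (Nat.pos_of_ne_zero relIndex_ne_zero) (h2.trans (mul_comm _ _))

/-- Let G be a finite group with an involution z whose centralizer is dihedral of order 8. Then G = C_G(z) O(G) with O(G) the largest normal subgroup of odd order, or G is isomorphic to the symmetric group of degree 4, the symmetric group of degree 5, the group SL₃(2), or the alternating group of degree 6. -/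
theorem result {G : Type*} [Group G] [Finite G] (z : G) (hz : orderOf z = 2)
    (hC : Nonempty (↥(Subgroup.centralizer ({z} : Set G)) ≃* DihedralGroup 4)) :
    Subgroup.centralizer ({z} : Set G) ⊔ Cfsg.oddCore G = ⊤ ∨ Nonempty (G ≃* Equiv.Perm (Fin 4)) ∨ Nonempty (G ≃* Equiv.Perm (Fin 5)) ∨
      Nonempty (G ≃* Matrix.SpecialLinearGroup (Fin 3) (ZMod 2)) ∨ Nonempty (G ≃* ↥(alternatingGroup (Fin 6))) := by
  classical
  haveI : Fact (Nat.Prime 2) := ⟨Nat.prime_two⟩
  obtain ⟨e⟩ := hC
  obtain ⟨a, b, E⟩ := eightData z hz e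
  obtain ⟨S, hS⟩ := E.exists_sylow
  set C := Subgroup.centralizer ({z} : Set G) with hCdef
  by_cases hno2 : ∀ H : Subgroup G, H.index ≠ 2
  · haveI := E.isSimpleGroup hno2
    rcases E.card_eq hno2 with h | h
    · obtain ⟨e1⟩ := CfsgLib.InvChar.iso_psl_zmod_seven h
      haveI : Fact (Nat.Prime 7) := ⟨by norm_num⟩
      obtain ⟨e2⟩ := CfsgLib.Linear.Small.nonempty_psl_two_seven (F := ZMod 7) (K := ZMod 2) (ZMod.card 7) (ZMod.card 2)
      have hbot : Subgroup.center (Matrix.SpecialLinearGroup (Fin 3) (ZMod 2)) = ⊥ := by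
        rw [eq_bot_iff]
        intro g hg
        obtain ⟨r, hr, hgr⟩ := Matrix.SpecialLinearGroup.mem_center_iff.1 hg
        have hr1 : r = 1 := (show ∀ r : ZMod 2, r ^ 3 = 1 → r = 1 by decide +revert) r (by simpa using hr)
        rw [Subgroup.mem_bot]
        refine Subtype.ext ?_
        rw [← hgr, hr1, map_one]; rfl
      exact Or.inr (Or.inr (Or.inr (Or.inl ⟨(e1.trans e2).trans
        ((QuotientGroup.quotientMulEquivOfEq hbot).trans QuotientGroup.quotientBot)⟩)))
    · exact Or.inr (Or.inr (Or.inr (Or.inr (CfsgLib.InvChar.iso_alternatingSix h))))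
  push Not at hno2
  obtain ⟨H, hH2⟩ := hno2
  haveI := Subgroup.normal_of_index_eq_two hH2
  have hzH : z ∈ H := by
    rw [← E.sq_eq]
    exact Subgroup.mul_self_mem_of_index_two hH2 a
  -- `C ⊓ H` is a Sylow subgroup of `H` of order four
  have hCH : Nat.card ↥(C.subgroupOf H) = 4 := by
    have hodd : Odd (C.index) := E.odd_index
    have h8 : Nat.card ↥C = 8 := E.card_centralizer
    have hrel : (H.subgroupOf C).index = 2 ∨ (H.subgroupOf C).index = 1 := by
      have := Subgroup.relIndex_dvd_index_of_normal (H := H) (K := C)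
      rw [hH2] at this
      exact ((Nat.dvd_prime Nat.prime_two).1 this).symm
    have h1 := (H.subgroupOf C).card_mul_index
    have h2 : Nat.card ↥(H.subgroupOf C) = Nat.card ↥(C.subgroupOf H) := by
      have e1 : ∀ (A B : Subgroup G), Nat.card ↥(A.subgroupOf B) = Nat.card ↥(A ⊓ B) := fun A B => by
        rw [← Subgroup.inf_subgroupOf_right]
        exact Nat.card_congr (Subgroup.subgroupOfEquivOfLe inf_le_right).toEquiv
      rw [e1, e1, inf_comm]
    rw [h8, h2] at h1
    rcases hrel with h | h
    · rw [h] at h1; omega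
    · exfalso
      rw [h, mul_one] at h1
      have h3 : 8 ∣ Nat.card ↥H := h1 ▸ Subgroup.card_subgroup_dvd_card _
      have h4 := H.card_mul_index
      rw [hH2] at h4
      have h5 := C.card_mul_index
      rw [h8] at h5
      obtain ⟨m, hm⟩ := hodd
      obtain ⟨k, hk⟩ := h3
      omega
  have hTmax : IsPGroup 2 ↥(C.subgroupOf H) := IsPGroup.of_card (n := 2) (by rw [hCH]; norm_num)
  have hTidx : ¬ 2 ∣ (C.subgroupOf H).index := by
    have h1 := (C.subgroupOf H).card_mul_index
    have h4 := H.card_mul_index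
    rw [hH2] at h4
    have h5 := C.card_mul_index
    rw [show Nat.card ↥C = 8 from E.card_centralizer] at h5
    rw [hCH] at h1
    obtain ⟨m, hm⟩ : Odd C.index := E.odd_index
    omega
  set T : Sylow 2 ↥H := hTmax.toSylow hTidx
  set t : ↥H := ⟨z, hzH⟩
  have ht2 : orderOf t = 2 := by rw [Subgroup.orderOf_mk, hz]
  have htC : Subgroup.centralizer ({t} : Set ↥H) = (T : Subgroup ↥H) := by
    ext c
    rw [Subgroup.mem_centralizer_singleton_iff]
    change _ ↔ c ∈ C.subgroupOf H
    rw [Subgroup.mem_subgroupOf, hCdef, Subgroup.mem_centralizer_singleton_iff]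
    exact ⟨fun h => congrArg Subtype.val h, fun h => Subtype.ext h⟩
  have h4 : Nat.card (T : Subgroup ↥H) = 4 := hCH
  have hcardG : Nat.card G = 2 * Nat.card ↥H := by rw [← H.card_mul_index, hH2, mul_comm]
  by_cases hfix : ∀ n ∈ Subgroup.normalizer ((T : Subgroup ↥H) : Set ↥H), n * t * n⁻¹ = t
  · -- a normal 2-complement
    left
    have hP : Subgroup.normalizer ((T : Subgroup ↥H) : Set ↥H) ≤ Subgroup.centralizer ((T : Subgroup ↥H) : Set ↥H) := by
      haveI : IsMulCommutative ↥(T : Subgroup ↥H) := IsPGroup.isMulCommutative_of_card_eq_prime_sq (p := 2) (by rw [h4]; norm_num)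
      intro n hn
      have hnT : n ∈ (T : Subgroup ↥H) := by
        rw [← htC, Subgroup.mem_centralizer_singleton_iff]
        exact mul_inv_eq_iff_eq_mul.1 (hfix n hn)
      exact Subgroup.mem_centralizer_iff.2 fun x hx => congrArg Subtype.val (mul_comm' (⟨x, hx⟩ : ↥(T : Subgroup ↥H)) ⟨n, hnT⟩)
    haveI : T.FiniteIndex := inferInstance
    set f := MonoidHom.transferSylow T hP
    have hcomp := MonoidHom.ker_transferSylow_isComplement' T hP
    have hcard := hcomp.card_mul
    rw [h4] at hcard
    have hkodd : Odd (Nat.card ↥f.ker) := by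
      rw [Nat.odd_iff, ← Nat.two_dvd_ne_zero]
      intro hd
      apply hTidx
      have h1 := (C.subgroupOf H).card_mul_index
      rw [hCH] at h1
      have : (C.subgroupOf H).index = Nat.card ↥f.ker := by
        change Nat.card ↥f.ker * 4 = Nat.card ↥H at hcard
        omega
      rwa [this]
    set M := f.ker.map H.subtype
    haveI hchar : f.ker.Characteristic := Subgroup.characteristic_iff_le_comap.2 fun φ x hx => by
      change φ x ∈ f.ker
      have hx0 : Odd (orderOf x) := hkodd.of_dvd_nat (Subgroup.orderOf_dvd_natCard _ hx)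
      have hy : Odd (orderOf (φ x)) := by rwa [MulEquiv.orderOf_eq]
      rw [MonoidHom.mem_ker, ← orderOf_eq_one_iff]
      refine Nat.eq_one_of_dvd_coprimes ?_ (orderOf_map_dvd f (φ x)) (orderOf_dvd_natCard _)
      rw [h4]
      exact (Nat.coprime_two_right.2 hy).pow_right 2
    haveI : M.Normal := ConjAct.normal_of_characteristic_of_normal
    have hMO : M ≤ Cfsg.oddCore G := le_sSup ⟨inferInstance, by
      rw [Nat.coprime_two_right, Nat.card_congr (f.ker.equivMapOfInjective H.subtype H.subtype_injective).toEquiv.symm]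
      exact hkodd⟩
    refine top_le_iff.1 (le_trans ?_ (sup_le_sup_left hMO C))
    rw [top_le_iff]
    refine Subgroup.eq_top_of_card_eq _ ?_
    have hle := Subgroup.card_le_card_group (C ⊔ M)
    have hC8 : Nat.card ↥C = 8 := E.card_centralizer
    have hMc : Nat.card ↥M = Nat.card ↥f.ker :=
      Nat.card_congr (f.ker.equivMapOfInjective H.subtype H.subtype_injective).toEquiv.symm
    have h8 : 8 ∣ Nat.card ↥(C ⊔ M) := hC8 ▸ Subgroup.card_dvd_of_le le_sup_left
    have hM : Nat.card ↥f.ker ∣ Nat.card ↥(C ⊔ M) := hMc ▸ Subgroup.card_dvd_of_le le_sup_right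
    have hdvd : 8 * Nat.card ↥f.ker ∣ Nat.card ↥(C ⊔ M) :=
      ((Nat.coprime_two_left.2 hkodd).pow_left 3).mul_dvd_of_dvd_of_dvd h8 hM
    have hpos : 0 < Nat.card ↥(C ⊔ M) := Nat.card_pos
    have := Nat.le_of_dvd hpos hdvd
    change Nat.card ↥f.ker * 4 = Nat.card ↥H at hcard
    omega
  push Not at hfix
  obtain ⟨hN12, hcase, hconj⟩ := four_case T ht2 htC h4 hfix
  -- kernels of coset actions are trivial
  have hcore : ∀ (N : Subgroup G), (∀ x : ↥H, (x : G) ∈ N.normalCore → orderOf x ≠ 2) →
      (∀ x : ↥H, (x : G) ∈ N.normalCore → x ∈ Subgroup.normalizer ((T : Subgroup ↥H) : Set ↥H)) → N.normalCore = ⊥ := by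
    intro N hinv hnor
    haveI := Subgroup.normalCore_normal N
    set K := N.normalCore
    have hKH : ∀ x : ↥H, (x : G) ∈ K → x = 1 := by
      intro x hx
      have hxT : x ∈ Subgroup.centralizer ({t} : Set ↥H) := by
        rw [Subgroup.mem_centralizer_singleton_iff]
        have h1 : x * t * x⁻¹ * t⁻¹ ∈ (T : Subgroup ↥H) := mul_mem ((Subgroup.mem_normalizer_iff.1 (hnor x hx) t).1
          (htC ▸ Subgroup.mem_centralizer_singleton_iff.2 rfl)) (inv_mem (htC ▸ Subgroup.mem_centralizer_singleton_iff.2 rfl))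
        have h2 : ((x * t * x⁻¹ * t⁻¹ : ↥H) : G) ∈ K := by
          have := mul_mem hx (Subgroup.Normal.conj_mem (inferInstance : K.Normal) _ (inv_mem hx) z)
          simpa [t, mul_assoc] using this
        have h3 : x * t * x⁻¹ * t⁻¹ = 1 := by
          by_contra hne
          refine hinv _ h2 (orderOf_eq_prime ?_ hne)
          obtain ⟨g, hg⟩ := isConj_iff.1 (show IsConj t t from IsConj.refl t)
          have hd : orderOf (x * t * x⁻¹ * t⁻¹) ∣ 4 := h4 ▸ Subgroup.orderOf_dvd_natCard _ h1
          obtain ⟨j, hj, hjo⟩ := (Nat.dvd_prime_pow Nat.prime_two).1 (show orderOf (x * t * x⁻¹ * t⁻¹) ∣ 2 ^ 2 from hd)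
          rcases (by omega : j = 0 ∨ j = 1 ∨ j = 2) with rfl | rfl | rfl
          · exact absurd (orderOf_eq_one_iff.1 hjo) hne
          · exact orderOf_dvd_iff_pow_eq_one.1 (by rw [hjo]; norm_num)
          · exfalso
            refine hinv ((x * t * x⁻¹ * t⁻¹) ^ 2) ?_ (by rw [orderOf_pow, hjo]; rfl)
            rw [Subgroup.coe_pow]; exact pow_mem h2 2
        rwa [mul_inv_eq_one, mul_inv_eq_iff_eq_mul] at h3
      rw [htC] at hxT
      by_contra hne
      have hd : orderOf x ∣ 2 ^ 2 := by
        have := h4 ▸ Subgroup.orderOf_dvd_natCard _ hxT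
        simpa using this
      obtain ⟨j, hj, hjo⟩ := (Nat.dvd_prime_pow Nat.prime_two).1 hd
      rcases (by omega : j = 0 ∨ j = 1 ∨ j = 2) with rfl | rfl | rfl
      · exact hne (orderOf_eq_one_iff.1 hjo)
      · exact hinv x hx hjo
      · refine hinv (x ^ 2) ?_ (by rw [orderOf_pow, hjo]; rfl)
        rw [Subgroup.coe_pow]; exact pow_mem hx 2
    rw [eq_bot_iff]
    intro k hk
    have hkH : ∀ y ∈ H, k * y = y * k := by
      intro y hy
      have h1 : k * y * k⁻¹ * y⁻¹ ∈ H :=
        mul_mem (Subgroup.Normal.conj_mem (inferInstance : H.Normal) y hy k) (inv_mem hy)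
      have h2 : k * y * k⁻¹ * y⁻¹ ∈ K := by
        have := mul_mem hk (Subgroup.Normal.conj_mem (inferInstance : K.Normal) _ (inv_mem hk) y)
        simpa [mul_assoc] using this
      have h3 := congrArg Subtype.val (hKH ⟨_, h1⟩ h2)
      exact mul_inv_eq_iff_eq_mul.1 (mul_inv_eq_one.1 h3)
    have hkC : k ∈ C := Subgroup.mem_centralizer_singleton_iff.2 (hkH z hzH)
    rw [Subgroup.mem_bot]
    by_cases hkin : k ∈ H
    · exact congrArg Subtype.val (hKH ⟨k, hkin⟩ hk)
    exfalso
    -- then `C` would be abelian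
    have hidx : (H.subgroupOf C).index = 2 := by
      have h1 := Subgroup.relIndex_dvd_index_of_normal (H := H) (K := C)
      rw [hH2] at h1
      rcases (Nat.dvd_prime Nat.prime_two).1 h1 with h | h
      · exact absurd (Subgroup.relIndex_eq_one.1 h hkC) hkin
      · exact h
    have hkc : ∀ c ∈ C, k * c = c * k := by
      intro c hc
      by_cases hcH : c ∈ H
      · exact hkH c hcH
      · have h1 : c * k ∈ H := by
          have := Subgroup.mul_mem_iff_of_index_two hidx (a := (⟨c, hc⟩ : ↥C)) (b := ⟨k, hkC⟩)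
          simp only [Subgroup.mem_subgroupOf, Subgroup.coe_mul] at this
          exact this.2 (iff_of_false hcH hkin)
        have h2 := hkH _ h1
        rw [← mul_assoc] at h2
        exact mul_right_cancel h2
    have hcen : ∀ y : DihedralGroup 4, e ⟨k, hkC⟩ * y = y * e ⟨k, hkC⟩ := fun y => by
      obtain ⟨c, rfl⟩ := e.surjective y
      rw [← map_mul, ← map_mul]
      exact congrArg e (Subtype.ext (hkc c c.2))
    have hk1 : e ⟨k, hkC⟩ ≠ 1 := fun h => hkin (by
      have := congrArg Subtype.val (e.injective (h.trans (map_one e).symm))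
      rw [show k = 1 from this]; exact one_mem H)
    have hzz : e ⟨z, Subgroup.mem_centralizer_singleton_iff.2 rfl⟩ = DihedralGroup.r 1 * DihedralGroup.r 1 := by
      refine central_eq _ (fun h => E.ne_one (congrArg Subtype.val (e.injective (h.trans (map_one e).symm)))) fun y => ?_
      obtain ⟨c, rfl⟩ := e.surjective y
      rw [← map_mul, ← map_mul]
      exact congrArg e (Subtype.ext (Subgroup.mem_centralizer_singleton_iff.1 c.2).symm)
    exact hkin (by
      rw [show k = z from congrArg Subtype.val (e.injective ((central_eq _ hk1 hcen).trans hzz.symm))]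
      exact hzH)
  rcases hcase with hnor | ⟨h60, hidx5, hmemT⟩
  · -- `H` has order twelve
    right; left
    haveI : Fact (Nat.Prime 3) := ⟨by norm_num⟩
    have hH12 : Nat.card ↥H = 12 := by
      rw [← hN12, Subgroup.normalizer_eq_top_iff.2 hnor, Subgroup.card_top]
    obtain ⟨P⟩ : Nonempty (Sylow 3 ↥H) := inferInstance
    have hP3 : Nat.card (P : Subgroup ↥H) = 3 := by
      rw [P.card_eq_multiplicity, hH12, show (12 : ℕ) = 3 * 4 by norm_num,
        Nat.factorization_mul (by norm_num) (by norm_num), Finsupp.add_apply, Nat.Prime.factorization_self (by norm_num),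
        Nat.factorization_eq_zero_of_not_dvd (by norm_num)]
      norm_num
    have hnot : ¬ (P : Subgroup ↥H).Normal := by
      intro hPn
      obtain ⟨⟨g, hgP⟩, hgo⟩ := exists_prime_orderOf_dvd_card' 3 (hP3.symm ▸ dvd_refl 3 : 3 ∣ Nat.card (P : Subgroup ↥H))
      rw [Subgroup.orderOf_mk] at hgo
      have hdisj : Disjoint (T : Subgroup ↥H) (P : Subgroup ↥H) := by
        rw [disjoint_iff, Subgroup.inf_eq_bot_of_coprime]
        rw [h4, hP3]; norm_num
      have hc := Subgroup.commute_of_normal_of_disjoint _ _ hnor hPn hdisj t g (htC ▸ Subgroup.mem_centralizer_singleton_iff.2 rfl) hgP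
      have hgT : g ∈ (T : Subgroup ↥H) := htC ▸ Subgroup.mem_centralizer_singleton_iff.2 hc.symm.eq
      have := Subgroup.orderOf_dvd_natCard _ hgT
      rw [hgo, h4] at this
      omega
    have hn3 : Nat.card (Sylow 3 ↥H) = 4 := by
      have h1 := card_sylow_modEq_one 3 ↥H
      have h2 := P.card_dvd_index
      have h3 := (P : Subgroup ↥H).card_mul_index
      rw [hP3, hH12] at h3
      rw [show (P : Subgroup ↥H).index = 4 by omega] at h2
      have h5 : Nat.card (Sylow 3 ↥H) ≠ 1 := fun h => by
        haveI := (Nat.card_eq_one_iff_unique.1 h).1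
        exact hnot P.normal_of_subsingleton
      have h6 : Nat.card (Sylow 3 ↥H) ≤ 4 := Nat.le_of_dvd (by norm_num) h2
      unfold Nat.ModEq at h1
      omega
    have hNP : Nat.card ↥(Subgroup.normalizer ((P : Subgroup ↥H) : Set ↥H)) = 3 := by
      have h1 := (Subgroup.normalizer ((P : Subgroup ↥H) : Set ↥H)).card_mul_index
      have h2 : (Subgroup.normalizer ((P : Subgroup ↥H) : Set ↥H)).index = 4 := hn3 ▸ (P.card_eq_index_normalizer).symm
      rw [h2, hH12] at h1
      omega
    set Q := (P : Subgroup ↥H).map H.subtype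
    set N := Subgroup.normalizer (Q : Set G)
    have hNH : ∀ x : ↥H, (x : G) ∈ N → x ∈ Subgroup.normalizer ((P : Subgroup ↥H) : Set ↥H) := by
      intro x hx
      rw [Subgroup.mem_normalizer_iff]
      intro y
      have h1 := Subgroup.mem_normalizer_iff.1 hx (y : G)
      rw [show (x : G) * (y : G) * (x : G)⁻¹ = ((x * y * x⁻¹ : ↥H) : G) by simp] at h1
      exact ((Subgroup.mem_map_iff_mem H.subtype_injective (K := (P : Subgroup ↥H)) (x := y)).symm.trans h1).trans (Subgroup.mem_map_iff_mem H.subtype_injective (K := (P : Subgroup ↥H)) (x := x * y * x⁻¹))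
    have hNidx : N.index = 4 := by
      have hfr : N ⊔ H = ⊤ := Sylow.normalizer_sup_eq_top P
      have h1 : N.relIndex H = 4 := by
        have e1 : N.subgroupOf H = Subgroup.normalizer ((P : Subgroup ↥H) : Set ↥H) := by
          ext x
          refine ⟨hNH x, fun hx => ?_⟩
          rw [Subgroup.mem_subgroupOf]
          exact Subgroup.le_normalizer_map (H := (P : Subgroup ↥H)) H.subtype ⟨x, hx, rfl⟩
        rw [Subgroup.relIndex, e1]; exact (P.card_eq_index_normalizer).symm.trans hn3
      rw [index_of_frattini N H hfr, h1]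
    refine perm_equiv N hNidx (hcore N (fun x hx hx2 => ?_) fun x hx => ?_) (by rw [hcardG, hH12]; rfl)
    · have := Subgroup.orderOf_dvd_natCard _ (hNH x (N.normalCore_le hx))
      rw [hx2, hNP] at this
      omega
    · rw [Subgroup.normalizer_eq_top_iff.2 hnor]; exact Subgroup.mem_top x
  · -- `H` has order sixty
    right; right; left
    set V := (T : Subgroup ↥H).map H.subtype
    set N := Subgroup.normalizer (V : Set G)
    have hNH : ∀ x : ↥H, (x : G) ∈ N → x ∈ Subgroup.normalizer ((T : Subgroup ↥H) : Set ↥H) := by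
      intro x hx
      rw [Subgroup.mem_normalizer_iff]
      intro y
      have h1 := Subgroup.mem_normalizer_iff.1 hx (y : G)
      rw [show (x : G) * (y : G) * (x : G)⁻¹ = ((x * y * x⁻¹ : ↥H) : G) by simp] at h1
      exact ((Subgroup.mem_map_iff_mem H.subtype_injective (K := (T : Subgroup ↥H)) (x := y)).symm.trans h1).trans (Subgroup.mem_map_iff_mem H.subtype_injective (K := (T : Subgroup ↥H)) (x := x * y * x⁻¹))
    have hNidx : N.index = 5 := by
      have hfr : N ⊔ H = ⊤ := Sylow.normalizer_sup_eq_top T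
      have h1 : N.relIndex H = 5 := by
        have e1 : N.subgroupOf H = Subgroup.normalizer ((T : Subgroup ↥H) : Set ↥H) := by
          ext x
          refine ⟨hNH x, fun hx => ?_⟩
          rw [Subgroup.mem_subgroupOf]
          exact Subgroup.le_normalizer_map (H := (T : Subgroup ↥H)) H.subtype ⟨x, hx, rfl⟩
        rw [Subgroup.relIndex, e1, hidx5]
      rw [index_of_frattini N H hfr, h1]
    refine perm_equiv N hNidx (hcore N (fun x hx hx2 => ?_) fun x hx => hNH x (N.normalCore_le hx))
      (by rw [hcardG, h60]; rfl)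
    haveI := Subgroup.normalCore_normal N
    -- every involution would normalize `T`
    have hall : ∀ y : ↥H, orderOf y = 2 → y ∈ Subgroup.normalizer ((T : Subgroup ↥H) : Set ↥H) := by
      intro y hy
      obtain ⟨g, hg⟩ := isConj_iff.1 ((hconj x hx2).symm.trans (hconj y hy))
      refine hNH y (N.normalCore_le ?_)
      rw [← hg]
      simpa using Subgroup.Normal.conj_mem (inferInstance : N.normalCore.Normal) _ hx (g : G)
    have htop : ∀ g : ↥H, g ∈ Subgroup.normalizer ((T : Subgroup ↥H) : Set ↥H) := by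
      have key : ∀ g : ↥H, ∀ s ∈ (T : Subgroup ↥H), g * s * g⁻¹ ∈ (T : Subgroup ↥H) := by
        intro g s hs
        obtain ⟨n, hn, hnt⟩ := hfix
        by_cases hs1 : s = 1
        · rw [hs1, mul_one, mul_inv_cancel]; exact one_mem _
        have hs2 : orderOf s = 2 := by
          have h1 := Subgroup.orderOf_dvd_natCard _ hs
          rw [h4] at h1
          obtain ⟨j, hj, hjo⟩ := (Nat.dvd_prime_pow Nat.prime_two).1 (show orderOf s ∣ 2 ^ 2 from h1)
          rcases (by omega : j = 0 ∨ j = 1 ∨ j = 2) with rfl | rfl | rfl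
          · exact absurd (orderOf_eq_one_iff.1 hjo) hs1
          · simpa using hjo
          · exfalso
            obtain ⟨k, hk⟩ := isConj_iff.1 (hconj (s ^ 2) (by rw [orderOf_pow, hjo]; rfl))
            -- a square root of `t` centralizes it, while `n t n⁻¹` is another involution of `T`
            set r := k⁻¹ * s * k
            have hr : r * r = t := by
              calc r * r = k⁻¹ * s ^ 2 * k := by rw [sq]; simp [r, mul_assoc]
                _ = t := by rw [← hk]; group
            have hrT : r ∈ (T : Subgroup ↥H) := by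
              rw [← htC, Subgroup.mem_centralizer_singleton_iff, ← hr]
              group
            have hr4 : orderOf r = 4 := by
              rw [show r = MulAut.conj k⁻¹ s by simp [r], MulEquiv.orderOf_eq, hjo]; rfl
            have hTr : Subgroup.zpowers r = (T : Subgroup ↥H) :=
              Subgroup.eq_of_le_of_card_ge (Subgroup.zpowers_le.2 hrT) (by rw [Nat.card_zpowers, hr4, h4])
            have hnT : n * t * n⁻¹ ∈ Subgroup.zpowers r := hTr ▸ (Subgroup.mem_normalizer_iff.1 hn t).1
              (htC ▸ Subgroup.mem_centralizer_singleton_iff.2 rfl)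
            have ho : orderOf (n * t * n⁻¹) = 2 := by rw [← MulAut.conj_apply, MulEquiv.orderOf_eq, ht2]
            have hnn : (n * t * n⁻¹) * (n * t * n⁻¹) = 1 := by rw [← sq, ← ho, pow_orderOf_eq_one]
            rcases CfsgLib.InvChar.mem_zpowers_four hr4 hnT with h | h | h | h
            · rw [h, orderOf_one] at ho; omega
            · rw [h, hr4] at ho; omega
            · exact hnt (h.trans hr)
            · rw [h, orderOf_inv, hr4] at ho; omega
        exact hmemT _ (by rw [← MulAut.conj_apply, MulEquiv.orderOf_eq, hs2])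
          (hall _ (by rw [← MulAut.conj_apply, MulEquiv.orderOf_eq, hs2]))
      intro g
      refine Subgroup.mem_normalizer_iff.2 fun s => ⟨key g s, fun hs => ?_⟩
      simpa [mul_assoc] using key g⁻¹ _ hs
    have h1 : Subgroup.normalizer ((T : Subgroup ↥H) : Set ↥H) = ⊤ := (Subgroup.eq_top_iff' _).2 htop
    rw [h1, Subgroup.index_top] at hidx5
    omega

end Cfsg.Agent.S3035
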