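import Cfsg.Statements.S3049
import Cfsg.Agent.LocalB.ZpStarMin
import Cfsg.Agent.Transfer.Frobenius
import Cfsg.Agent.FGSB.OrderPFix
import Cfsg.Agent.Comp.Layer

set_option autoImplicit false
set_option linter.unusedVariables false
open Cfsg CfsgLib CfsgLib.LocalB CfsgLib.ExtPrim Subgroup

namespace Cfsg.Agent.S3049

variable {G : Type*} [Group G] [Finite G] {p : ℕ} [hpf : Fact p.Prime]

/-- Three commuting elements of exponent `p` in a group of `p`-rank at most two. -/
theorem rank_two (hrank : PRankLE p 2 G) {a b c : G} (ha : a ^ p = 1) (hb : b ^ p = 1)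
    (hc : c ^ p = 1) (hab : Commute a b) (hac : Commute a c) (hbc : Commute b c) (ha1 : a ≠ 1)
    (hba : b ∉ zpowers a) : c ∈ zpowers a ⊔ zpowers b := by
  set E := zpowers a ⊔ zpowers b with hE
  set F := E ⊔ zpowers c with hF
  have haF : a ∈ F := mem_sup_left (mem_sup_left (mem_zpowers a))
  have hbF : b ∈ F := mem_sup_left (mem_sup_right (mem_zpowers b))
  have hcomm : F ≤ centralizer (F : Set G) := by
    have hgen : ∀ u ∈ ({a, b, c} : Set G), ∀ v ∈ ({a, b, c} : Set G), Commute u v := by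
      intro u hu v hv
      rcases hu with rfl | rfl | rfl <;> rcases hv with rfl | rfl | rfl <;>
        first
          | exact Commute.refl _ | exact hab | exact hac | exact hbc
          | exact hab.symm | exact hac.symm | exact hbc.symm
    have h1 : ∀ u ∈ ({a, b, c} : Set G), u ∈ centralizer (F : Set G) := by
      intro u hu
      refine mem_centralizer_iff.mpr fun v hv => ?_
      have : F ≤ centralizer ({u} : Set G) := by
        refine sup_le (sup_le ?_ ?_) ?_ <;> rw [zpowers_le, mem_centralizer_singleton_iff]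
        · exact (hgen a (by simp) u hu).eq
        · exact (hgen b (by simp) u hu).eq
        · exact (hgen c (by simp) u hu).eq
      exact mem_centralizer_singleton_iff.mp (this hv)
    refine sup_le (sup_le ?_ ?_) ?_ <;> rw [zpowers_le]
    · exact h1 a (by simp)
    · exact h1 b (by simp)
    · exact h1 c (by simp)
  have hFab : IsMulCommutative F :=
    ⟨⟨fun u v => Subtype.ext (mem_centralizer_iff.mp (hcomm v.2) u u.2)⟩⟩
  have hexp : ∀ u ∈ F, u ^ p = 1 := by
    let K : Subgroup G :=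
      { carrier := {u | u ∈ F ∧ u ^ p = 1}
        one_mem' := ⟨one_mem _, one_pow p⟩
        mul_mem' := fun {u v} hu hv => ⟨mul_mem hu.1 hv.1, by
          rw [(show Commute u v from mem_centralizer_iff.mp (hcomm hv.1) u hu.1).mul_pow, hu.2,
            hv.2, one_mul]⟩
        inv_mem' := fun {u} hu => ⟨inv_mem hu.1, by rw [inv_pow, hu.2, inv_one]⟩ }
    have : F ≤ K := sup_le (sup_le (zpowers_le.mpr ⟨haF, ha⟩) (zpowers_le.mpr ⟨hbF, hb⟩))
      (zpowers_le.mpr ⟨mem_sup_right (mem_zpowers c), hc⟩)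
    exact fun u hu => (this hu).2
  have hoa : orderOf a = p := orderOf_eq_prime ha ha1
  have hob : orderOf b = p := orderOf_eq_prime hb fun h => hba (h ▸ one_mem _)
  have hinf : zpowers a ⊓ zpowers b = ⊥ := by
    rw [eq_bot_iff]
    intro u hu
    by_contra hu1
    apply hba
    obtain ⟨hua, hub⟩ := mem_inf.mp hu
    have hle : zpowers u ≤ zpowers b := zpowers_le.mpr hub
    have hou : orderOf u = p := orderOf_eq_prime (hexp u (mem_sup_left (mem_sup_right hub)))
      (fun h => hu1 (mem_bot.mpr h))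
    have heq : zpowers u = zpowers b :=
      eq_of_le_of_card_ge hle (by rw [Nat.card_zpowers, Nat.card_zpowers, hou, hob])
    exact zpowers_le.mpr hua (heq ▸ mem_zpowers b)
  have hn : zpowers a ≤ normalizer (zpowers b : Set G) :=
    zpowers_le.mpr (centralizer_le_normalizer _ (mem_centralizer_iff.mpr fun u hu => by
      obtain ⟨i, rfl⟩ := mem_zpowers_iff.mp hu
      exact ((hab.symm.zpow_left i)).eq))
  have hcard := Solvable.card_sup_mul_card_inf hn
  rw [hinf, card_bot, mul_one, Nat.card_zpowers, Nat.card_zpowers, hoa, hob, ← hE, ← pow_two] at hcard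
  have hle : E ≤ F := le_sup_left
  have := eq_of_le_of_card_ge hle (hcard ▸ hrank F hFab hexp)
  exact this ▸ mem_sup_right (mem_zpowers c)

theorem isolated_conj {H : Type*} [Group H] {x : H} (hiso : IsIsolated x) (c : H) :
    IsIsolated (c * x * c⁻¹) := by
  intro g hg
  have h1 := hiso (c⁻¹ * g * c) ?_
  · calc g * (c * x * c⁻¹) * g⁻¹ = c * ((c⁻¹ * g * c) * x * (c⁻¹ * g * c)⁻¹) * c⁻¹ := by group
      _ = c * x * c⁻¹ := by rw [h1]
  · have h2 := hg.map (MulAut.conj c⁻¹).toMonoidHom
    simpa [mul_assoc] using h2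

/-- If every element of order `p` commuting with the isolated element `x` lies in `A⟨x⟩` with `A`
central, then there is a normal `p`-complement. -/
theorem npc_of_isolated {H : Type*} [Group H] [Finite H] (hp : p ≠ 2) {x : H} (hx : orderOf x = p)
    (hiso : IsIsolated x) (A : Subgroup H) (hA : A ≤ center H)
    (hgen : ∀ y : H, y ^ p = 1 → Commute x y → y ∈ A ⊔ zpowers x) :
    HasNormalPComplement p H := by
  refine Fusion.hasNormalPComplement_of_localCondition fun Q hQ g hg hgc => ?_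
  refine mem_centralizer_iff.mpr fun t ht => ?_
  refine (OrderPFix.commute_of_commute_small hQ hgc hg (fun t ht hts => ?_) t ht).eq.symm
  obtain ⟨U, hU⟩ := hQ.exists_le_sylow
  obtain ⟨P, hP⟩ := (isPGroup_zpowers (zp_pow hx)).exists_le_sylow
  obtain ⟨c, hc⟩ := MulAction.exists_smul_eq H P U
  set x' := c * x * c⁻¹ with hx'
  have hx'U : x' ∈ (U : Subgroup H) := hc ▸ ⟨x, hP (mem_zpowers x), rfl⟩
  have hiso' : IsIsolated x' := isolated_conj hiso c
  have hx'o : ∃ k, orderOf x' = p ^ k := zp_pow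
    ((orderOf_injective (MulAut.conj c).toMonoidHom (MulAut.conj c).injective x).trans hx)
  have htp : t ^ p = 1 := by
    rcases hts with h | ⟨h2, -⟩
    · rw [← h, pow_orderOf_eq_one]
    · exact absurd h2 hp
  have htx : Commute t x' := isolated_central hiso' U.isPGroup' hx'U t (hU ht)
  have h1 : c⁻¹ * t * c ∈ A ⊔ zpowers x := by
    refine hgen _ ?_ ?_
    · rw [show c⁻¹ * t * c = c⁻¹ * t * c⁻¹⁻¹ by rw [inv_inv], conj_pow, htp]
      group
    · have := htx.symm.map (MulAut.conj c⁻¹).toMonoidHom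
      simpa [hx', mul_assoc] using this
  obtain ⟨α, hα, z, hz, hαz⟩ := exists_mul_of_le_normalizer
    (H := A) (K := zpowers x) (zpowers_le.mpr (centralizer_le_normalizer _
      (mem_centralizer_iff.mpr fun u hu => (mem_center_iff.mp (hA hu) x).symm))) h1
  obtain ⟨j, rfl⟩ := mem_zpowers_iff.mp hz
  have hαc : ∀ u : H, u * α = α * u := mem_center_iff.mp (hA hα)
  have ht' : t = α * x' ^ j := by
    rw [hx', conj_zpow]
    calc t = c * (c⁻¹ * t * c) * c⁻¹ := by group
      _ = c * (α * x ^ j) * c⁻¹ := by rw [hαz]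
      _ = α * (c * x ^ j * c⁻¹) := by rw [← mul_assoc c α, hαc c]; group
  have hgt : g * t * g⁻¹ ∈ (U : Subgroup H) := hU ((mem_normalizer_iff.mp hg t).mp ht)
  have h2 : g * t * g⁻¹ = α * (g * x' ^ j * g⁻¹) := by
    rw [ht', ← mul_assoc g α, hαc g]; group
  have h3 : (g * x' ^ j * g⁻¹) * x' = x' * (g * x' ^ j * g⁻¹) := by
    have hcm : Commute (g * t * g⁻¹) x' := isolated_central hiso' U.isPGroup' hx'U _ hgt
    rw [h2] at hcm
    have h4 : Commute α⁻¹ x' := Commute.inv_left (show Commute α x' from (hαc x').symm)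
    have := h4.mul_left hcm
    rwa [inv_mul_cancel_left] at this
  have h5 := isolated_conj_pow hiso' hx'o j g h3
  rw [h5, ← ht'] at h2
  exact mul_inv_eq_iff_eq_mul.mp h2

theorem pResidual_bot_of_npc {H : Subgroup G} (hH : H.IsSubnormal) (hcore : pPrimeCore p G = ⊥)
    (h : HasNormalPComplement p H) : IsPGroup p H := by
  obtain ⟨P, N, hN, hNP⟩ := h
  have hcard : (Nat.card N).Coprime p := by
    have h1 : Nat.card N = (P : Subgroup H).index := hNP.index_eq_card.symm
    rw [h1]
    exact (hpf.out.coprime_iff_not_dvd.mpr P.not_dvd_index).symm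
  have hsub : (N.map H.subtype).IsSubnormal := by
    refine Subgroup.IsSubnormal.step _ H (map_subtype_le _) hH ?_
    rwa [subgroupOf, comap_map_eq_self_of_injective H.subtype_injective]
  have h1 := PComp.subnormal_le_pPrimeCore hsub (by rwa [card_map_of_injective H.subtype_injective])
  rw [hcore, le_bot_iff, map_eq_bot_iff_of_injective _ H.subtype_injective] at h1
  have htop : (P : Subgroup H) = ⊤ := by simpa [h1] using hNP.sup_eq_top
  intro g
  obtain ⟨k, hk⟩ := P.isPGroup' ⟨g, htop ▸ mem_top g⟩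
  exact ⟨k, by simpa using congrArg Subtype.val hk⟩

theorem not_mem_of_normal_pGroup {x : G} (hiso : IsIsolated x) (hnc : x ∉ center G) {R : Subgroup G}
    [R.Normal] (hR : IsPGroup p R) : x ∉ R := by
  intro hxR
  apply hnc
  refine mem_center_iff.mpr fun g => ?_
  have h1 : g * x * g⁻¹ ∈ R := (inferInstance : R.Normal).conj_mem x hxR g
  exact mul_inv_eq_iff_eq_mul.mp (hiso g (isolated_central hiso hR hxR _ h1).symm)

theorem pCore_eq_bot (hp : p ≠ 2) (hcore : pPrimeCore p G = ⊥) (hrank : PRankLE p 2 G) {x : G}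
    (hx : orderOf x = p) (hiso : IsIsolated x) (hnc : x ∉ center G) : pCore p G = ⊥ := by
  by_contra hR0
  set R := pCore p G with hR
  have hRp : IsPGroup p R := Solvable.isPGroup_pCore p
  have hRn : R.Normal := Solvable.pCore_normal p
  have hxR : ∀ r ∈ R, Commute r x := by
    intro r hr
    have h1 : IsPGroup p ↥(R ⊔ zpowers x) := hRp.to_sup_of_normal_left (isPGroup_zpowers (zp_pow hx))
    exact isolated_central hiso h1 (mem_sup_right (mem_zpowers x)) r (mem_sup_left hr)
  -- `A`: elements of order `p` in the center of `R`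
  let A : Subgroup G :=
    { carrier := {u | (u ∈ R ∧ u ∈ centralizer (R : Set G)) ∧ u ^ p = 1}
      one_mem' := ⟨⟨one_mem _, one_mem _⟩, one_pow p⟩
      mul_mem' := fun {u v} hu hv => ⟨⟨mul_mem hu.1.1 hv.1.1, mul_mem hu.1.2 hv.1.2⟩, by
        rw [(show Commute u v from mem_centralizer_iff.mp hv.1.2 u hu.1.1).mul_pow, hu.2, hv.2,
          one_mul]⟩
      inv_mem' := fun {u} hu => ⟨⟨inv_mem hu.1.1, inv_mem hu.1.2⟩, by rw [inv_pow, hu.2, inv_one]⟩ }
  have hAn : A.Normal := ⟨fun u hu g => ⟨⟨hRn.conj_mem u hu.1.1 g,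
    (inferInstance : (centralizer (R : Set G)).Normal).conj_mem u hu.1.2 g⟩, by
      rw [conj_pow, hu.2, mul_one, mul_inv_cancel]⟩⟩
  obtain ⟨a, haA, ha1⟩ : ∃ a ∈ A, a ≠ 1 := by
    have : Nontrivial R := (nontrivial_iff_ne_bot _).mpr hR0
    have : Nontrivial (center R) := hRp.center_nontrivial
    obtain ⟨z, hz⟩ := exists_prime_orderOf_dvd_card' p (show p ∣ Nat.card (center R) by
      obtain ⟨k, hk⟩ := (hRp.to_subgroup (center R)).exists_card_eq
      rcases k with _ | k
      · rw [pow_zero] at hk; exact absurd hk (Finite.one_lt_card).ne'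
      · exact hk ▸ dvd_pow_self p (Nat.succ_ne_zero k))
    refine ⟨((z : R) : G), ⟨⟨(z : R).2, mem_centralizer_iff.mpr fun r hr => ?_⟩, ?_⟩, ?_⟩
    · exact congrArg Subtype.val (mem_center_iff.mp z.2 ⟨r, hr⟩)
    · rw [← SubmonoidClass.coe_pow, ← SubmonoidClass.coe_pow, ← hz, pow_orderOf_eq_one]; rfl
    · intro h
      have : z = 1 := Subtype.ext (Subtype.ext h)
      rw [this, orderOf_one] at hz
      exact hpf.out.one_lt.ne hz
  have hnotR := not_mem_of_normal_pGroup hiso hnc (R := R) hRp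
  have hxpow : x ^ p = 1 := by rw [← hx, pow_orderOf_eq_one]
  have hax : x ∉ zpowers a := fun h => hnotR (zpowers_le.mpr haA.1.1 h)
  set C := centralizer (A : Set G) with hC
  have hxC : x ∈ C := mem_centralizer_iff.mpr fun u hu => (hxR u hu.1.1).eq
  have hisoC : IsIsolated (⟨x, hxC⟩ : C) := fun g hg => Subtype.ext (hiso g (hg.map C.subtype))
  have hAC : A ≤ C := fun u hu => mem_centralizer_iff.mpr fun v hv =>
    mem_centralizer_iff.mp hu.1.2 v hv.1.1
  have hnpc : HasNormalPComplement p C := by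
    refine npc_of_isolated hp (x := ⟨x, hxC⟩) (by rwa [orderOf_mk]) hisoC (A.subgroupOf C) ?_ ?_
    · intro u hu
      exact mem_center_iff.mpr fun v => Subtype.ext
        (mem_centralizer_iff.mp v.2 (u : G) hu).symm
    · intro y hy hxy
      have hy' : (y : G) ^ p = 1 := by simpa using congrArg Subtype.val hy
      have h1 := rank_two hrank haA.2 hxpow hy' (hxR a haA.1.1)
        (mem_centralizer_iff.mp y.2 a haA) (hxy.map C.subtype) ha1 hax
      have h2 : zpowers a ⊔ zpowers x ≤ (A.subgroupOf C ⊔ zpowers (⟨x, hxC⟩ : C)).map C.subtype := by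
        rw [Subgroup.map_sup, map_subgroupOf_eq_of_le hAC, MonoidHom.map_zpowers]
        exact sup_le_sup (zpowers_le.mpr haA) le_rfl
      obtain ⟨w, hw, hwy⟩ := h2 h1
      exact (C.subtype_injective hwy) ▸ hw
  have hCp := pResidual_bot_of_npc (Subgroup.Normal.isSubnormal inferInstance) hcore hnpc
  exact not_mem_of_normal_pGroup hiso hnc (R := C) hCp hxC

/-- Two commuting disjoint non-abelian simple subnormal subgroups are impossible. -/
theorem no_two_simple (hp : p ≠ 2) (hcore : pPrimeCore p G = ⊥) (hrank : PRankLE p 2 G) {x : G}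
    (hx : orderOf x = p) (hiso : IsIsolated x) (T₁ T₂ : Subgroup G) (hs₁ : T₁.IsSubnormal)
    (hs₂ : T₂.IsSubnormal) [IsSimpleGroup T₁] [IsSimpleGroup T₂] (hn₁ : ¬ IsMulCommutative T₁)
    (hn₂ : ¬ IsMulCommutative T₂) (hdisj : T₁ ⊓ T₂ = ⊥)
    (hcomm : ∀ s ∈ T₁, ∀ t ∈ T₂, Commute s t) : False := by
  have hdvd : ∀ (T : Subgroup G), T.IsSubnormal → ¬ IsMulCommutative T → p ∣ Nat.card T := by
    intro T hs hn
    by_contra h
    have h1 := PComp.subnormal_le_pPrimeCore hs (hpf.out.coprime_iff_not_dvd.mpr h).symm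
    rw [hcore, le_bot_iff] at h1
    exact hn (h1 ▸ ⟨⟨fun u v => Subsingleton.elim _ _⟩⟩)
  obtain ⟨a₀, ha₀⟩ := exists_prime_orderOf_dvd_card' p (hdvd T₁ hs₁ hn₁)
  obtain ⟨b₀, hb₀⟩ := exists_prime_orderOf_dvd_card' p (hdvd T₂ hs₂ hn₂)
  have hcab : Commute (a₀ : G) b₀ := hcomm _ a₀.2 _ b₀.2
  have hW : IsPGroup p ↥(zpowers (a₀ : G) ⊔ zpowers (b₀ : G)) := by
    refine (isPGroup_zpowers ⟨1, by rw [orderOf_coe, ha₀, pow_one]⟩).to_sup_of_normal_left'
      (isPGroup_zpowers ⟨1, by rw [orderOf_coe, hb₀, pow_one]⟩) ?_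
    exact zpowers_le.mpr (centralizer_le_normalizer _ (mem_centralizer_iff.mpr fun u hu => by
      obtain ⟨i, rfl⟩ := mem_zpowers_iff.mp hu
      exact (hcab.zpow_left i).eq))
  obtain ⟨U, hU⟩ := hW.exists_le_sylow
  obtain ⟨P, hP⟩ := (isPGroup_zpowers (zp_pow hx)).exists_le_sylow
  obtain ⟨c, hc⟩ := MulAction.exists_smul_eq G P U
  -- replace `x` by a conjugate commuting with `a₀` and `b₀`
  set y := c * x * c⁻¹ with hy
  have hyU : y ∈ (U : Subgroup G) := hc ▸ ⟨x, hP (mem_zpowers x), rfl⟩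
  have hyiso : IsIsolated y := isolated_conj hiso c
  have hyo : orderOf y = p :=
    (orderOf_injective (MulAut.conj c).toMonoidHom (MulAut.conj c).injective x).trans hx
  set a : G := (a₀ : G)
  set b : G := (b₀ : G)
  have hap : a ^ p = 1 := by rw [← SubmonoidClass.coe_pow, ← ha₀, pow_orderOf_eq_one]; rfl
  have hbp : b ^ p = 1 := by rw [← SubmonoidClass.coe_pow, ← hb₀, pow_orderOf_eq_one]; rfl
  have hyp : y ^ p = 1 := by rw [← hyo, pow_orderOf_eq_one]
  have hne1 : ∀ {T : Subgroup G} (u : T), orderOf u = p → (u : G) ≠ 1 := by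
    intro T u hu h
    rw [← orderOf_coe, h, orderOf_one] at hu
    exact hpf.out.one_lt.ne hu
  have hba : b ∉ zpowers a := fun h => hne1 b₀ hb₀ (mem_bot.mp
    (hdisj ▸ ⟨zpowers_le.mpr a₀.2 h, b₀.2⟩))
  have hab : a ∉ zpowers b := fun h => hne1 a₀ ha₀ (mem_bot.mp
    (hdisj ▸ ⟨a₀.2, zpowers_le.mpr b₀.2 h⟩))
  have hya : Commute a y :=
    isolated_central hyiso U.isPGroup' hyU a (hU (mem_sup_left (mem_zpowers a)))
  have hyb : Commute b y :=
    isolated_central hyiso U.isPGroup' hyU b (hU (mem_sup_right (mem_zpowers b)))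
  have hyab := rank_two hrank hap hbp hyp hcab hya hyb (hne1 a₀ ha₀) hba
  obtain ⟨u, hu, v, hv, huv⟩ := exists_mul_of_le_normalizer
    (zpowers_le.mpr (centralizer_le_normalizer _ (mem_centralizer_iff.mpr fun u hu => by
      obtain ⟨i, rfl⟩ := mem_zpowers_iff.mp hu
      exact (hcab.zpow_left i).eq))) hyab
  -- the contradiction from a factor on which `y` is nontrivial
  have key : ∀ (S₁ S₂ : Subgroup G) (u v b : G), IsSimpleGroup S₁ → S₁.IsSubnormal →
      ¬ IsMulCommutative S₁ → (∀ s ∈ S₁, ∀ t ∈ S₂, Commute s t) → S₁ ⊓ S₂ = ⊥ → u ∈ S₁ →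
      v ∈ S₂ → b ∈ S₂ → b ^ p = 1 → b ≠ 1 → u ^ p = 1 → u ≠ 1 → y = u * v → False := by
    intro S₁ S₂ u v b hsim hsub hnab hcm hd hu hv hb hbp hb1 hup hu1 hyuv
    have hiu : IsIsolated (⟨u, hu⟩ : S₁) := by
      intro g hg
      refine Subtype.ext ?_
      have hcg : (g : G) * u * (g : G)⁻¹ ∈ S₁ := mul_mem (mul_mem g.2 hu) (inv_mem g.2)
      have e : (g : G) * y * (g : G)⁻¹ = ((g : G) * u * (g : G)⁻¹) * v := by
        rw [hyuv, show (g : G) * (u * v) * (g : G)⁻¹ = (g : G) * u * (v * (g : G)⁻¹) by group,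
          ← (hcm _ (inv_mem g.2) _ hv).eq]
        group
      have h1 : Commute y ((g : G) * y * (g : G)⁻¹) := by
        rw [e, hyuv]
        exact ((hg.map S₁.subtype).mul_right (hcm _ hu _ hv)).mul_left
          ((hcm _ hcg _ hv).symm.mul_right (Commute.refl v))
      have h2 := hyiso (g : G) h1
      rw [e, hyuv] at h2
      exact mul_right_cancel h2
    have hou : orderOf (⟨u, hu⟩ : S₁) = p := by
      rw [orderOf_mk]; exact orderOf_eq_prime hup hu1
    have hnpc : HasNormalPComplement p S₁ := by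
      refine npc_of_isolated hp hou hiu ⊥ bot_le fun w hw huw => ?_
      have hw' : (w : G) ^ p = 1 := by simpa using congrArg Subtype.val hw
      have hbu : b ∉ zpowers u := fun h => hb1 (mem_bot.mp (hd ▸ ⟨zpowers_le.mpr hu h, hb⟩))
      have h1 := rank_two hrank hup hbp hw' (hcm _ hu _ hb) (huw.map S₁.subtype)
        (hcm _ w.2 _ hb).symm hu1 hbu
      obtain ⟨s, hs, t, ht, hst⟩ := exists_mul_of_le_normalizer
        (zpowers_le.mpr (centralizer_le_normalizer _ (mem_centralizer_iff.mpr fun z hz => by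
          obtain ⟨i, rfl⟩ := mem_zpowers_iff.mp hz
          exact ((hcm _ hu _ hb).zpow_left i).eq))) h1
      have htS : t ∈ S₁ := by
        have : t = s⁻¹ * (w : G) := by rw [hst, inv_mul_cancel_left]
        rw [this]; exact S₁.mul_mem (S₁.inv_mem (zpowers_le.mpr hu hs)) w.2
      have ht1 : t = 1 := mem_bot.mp (hd ▸ ⟨htS, zpowers_le.mpr hb ht⟩)
      obtain ⟨i, rfl⟩ := mem_zpowers_iff.mp hs
      refine mem_sup_right (mem_zpowers_iff.mpr ⟨i, Subtype.ext ?_⟩)
      rw [hst, ht1, mul_one]; rfl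
    have hSp := pResidual_bot_of_npc hsub hcore hnpc
    have : Group.IsNilpotent S₁ := hSp.isNilpotent
    exact hnab ⟨⟨fun s t => by
      have := IsSimpleGroup.comm_iff_isSolvable.mpr (inferInstance : Group.IsSolvable S₁) s t
      exact this⟩⟩
  by_cases hu1 : u = 1
  · have hv' : y = v := by rw [huv, hu1, one_mul]
    exact key T₂ T₁ v 1 a inferInstance hs₂ hn₂ (fun s hs t ht => (hcomm t ht s hs).symm)
      (by rwa [inf_comm]) (zpowers_le.mpr b₀.2 hv) (one_mem _) a₀.2 hap (hne1 a₀ ha₀)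
      (hv' ▸ hyp) (fun h => by rw [hv', h, orderOf_one] at hyo; exact hpf.out.one_lt.ne hyo)
      (by rw [hv', mul_one])
  · refine key T₁ T₂ u v b inferInstance hs₁ hn₁ hcomm hdisj (zpowers_le.mpr a₀.2 hu)
      (zpowers_le.mpr b₀.2 hv) b₀.2 hbp (hne1 b₀ hb₀) ?_ hu1 huv
    obtain ⟨i, rfl⟩ := mem_zpowers_iff.mp hu
    rw [← zpow_natCast, ← zpow_mul, mul_comm, zpow_mul, zpow_natCast, hap, one_zpow]

theorem exists_minimal_le {X : Subgroup G} [hX : X.Normal] (hne : X ≠ ⊥) :
    ∃ N : Subgroup G, N.Normal ∧ N ≤ X ∧ N ≠ ⊥ ∧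
      ∀ K : Subgroup G, K.Normal → K ≤ N → K = ⊥ ∨ K = N := by
  obtain ⟨N, hN⟩ := (Set.toFinite {N : Subgroup G | N.Normal ∧ N ≤ X ∧ N ≠ ⊥}).exists_minimal
    ⟨X, hX, le_rfl, hne⟩
  refine ⟨N, hN.1.1, hN.1.2.1, hN.1.2.2, fun K hK hle => ?_⟩
  by_cases h : K = ⊥
  · exact Or.inl h
  · exact Or.inr (le_antisymm hle (hN.2 ⟨hK, hle.trans hN.1.2.1, h⟩ hle))

theorem not_comm_of_minimal (hcore : pPrimeCore p G = ⊥) (hR : pCore p G = ⊥) {N : Subgroup G}
    [hN : N.Normal] (hne : N ≠ ⊥) : ¬ IsMulCommutative N := by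
  intro hab
  have hpN : p ∣ Nat.card N := by
    by_contra h
    exact hne (le_bot_iff.mp ((Solvable.le_pPrimeCore p hN
      (hpf.out.coprime_iff_not_dvd.mpr h).symm).trans hcore.le))
  obtain ⟨a, ha⟩ := exists_prime_orderOf_dvd_card' p hpN
  have hzn : (zpowers a).Normal := ⟨fun n hn g => by
    rw [hab.1.comm g n, mul_assoc, mul_inv_cancel, mul_one]; exact hn⟩
  have hle := Solvable.le_pCore p hzn (IsPGroup.of_card (n := 1) (by
        rw [Nat.card_zpowers, ha, pow_one]) : IsPGroup p (zpowers a))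
  have h1 := Solvable.le_pCore p (PConstrained.normal_map_pCore (p := p) hN)
    ((Solvable.isPGroup_pCore p).map N.subtype) ⟨a, hle (mem_zpowers a), rfl⟩
  rw [hR, mem_bot] at h1
  have h2 : a = 1 := Subtype.ext h1
  rw [h2, orderOf_one] at ha
  exact hpf.out.one_lt.ne ha

/-- Let G be a finite group and p an odd prime with O_{p'}(G) = 1. Suppose that G has p-rank at most 2 (no elementary abelian subgroup of order p³) and that some element x of order p is isolated in G (no G-conjugate of x other than x commutes with x) and not central. Then the generalized Fitting subgroup F*(G) is a non-abelian simple group. Since O_{p'}(G) = 1, such an x is not central modulo O_{p'}(G): the hypotheses describe a counterexample to the Z*_p statement in p-rank at most 2. -/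
theorem result {G : Type*} [Group G] [Finite G] {p : ℕ} [Fact p.Prime] (hp : p ≠ 2) (hcore : Cfsg.pPrimeCore p G = ⊥)
    (hrank : Cfsg.PRankLE p 2 G) (x : G) (hx : orderOf x = p) (hiso : Cfsg.IsIsolated x) (hnc : x ∉ Subgroup.center G) :
    IsSimpleGroup ↥(Cfsg.generalizedFittingSubgroup G) ∧ ¬ IsMulCommutative ↥(Cfsg.generalizedFittingSubgroup G) := by
  have hR := pCore_eq_bot hp hcore hrank hx hiso hnc
  have htop : (⊤ : Subgroup G) ≠ ⊥ := fun h => hnc (by
    have : x ∈ (⊥ : Subgroup G) := h ▸ mem_top x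
    rw [mem_bot.mp this]; exact one_mem _)
  obtain ⟨N, hNn, -, hNne, hNmin⟩ := exists_minimal_le htop
  have hna := not_comm_of_minimal (p := p) hcore hR hNne
  obtain ⟨T, hT⟩ := exists_isFactor N hNne hNmin hna
  have hTsub : ∀ {N T : Subgroup G}, N.Normal → IsFactor N T → T.IsSubnormal := fun {N T} hn h =>
    Subgroup.IsSubnormal.step T N h.le hn.isSubnormal ⟨fun t ht n => h.conj_mem n n.2 t ht⟩
  have hTN : T = N := by
    by_contra hne
    obtain ⟨g, hg⟩ : ∃ g : G, cj g T ≠ T := by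
      by_contra h
      simp only [not_exists, not_not] at h
      have : others T = ⊥ := by
        refine eq_bot_iff.mpr (iSup₂_le fun g hg => absurd (h g) hg)
      exact hne (by rw [← hT.sup_others, this, sup_bot_eq])
    have hT2 : IsFactor N (cj g T) := hT.cj g
    have := hT.simple
    have := hT2.simple
    exact no_two_simple hp hcore hrank hx hiso T (cj g T) (hTsub hNn hT) (hTsub hNn hT2) hT.nonab
      hT2.nonab (le_bot_iff.mp ((inf_le_inf_left T (cj_le_others hg)).trans hT.inf_others.le))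
      (fun s hs t ht => hT.commute hs (cj_le_others hg ht))
  have hCN : centralizer (N : Set G) = ⊥ := by
    by_contra hne
    obtain ⟨M, hMn, hMC, hMne, hMmin⟩ := exists_minimal_le hne
    obtain ⟨T₂, hT₂⟩ := exists_isFactor M hMne hMmin (not_comm_of_minimal (p := p) hcore hR hMne)
    have := hT.simple
    have := hT₂.simple
    have hcomm : ∀ s ∈ T, ∀ t ∈ T₂, Commute s t := fun s hs t ht =>
      mem_centralizer_iff.mp (hMC (hT₂.le ht)) s (hT.le hs)
    refine no_two_simple hp hcore hrank hx hiso T T₂ (hTsub hNn hT) (hTsub hMn hT₂) hT.nonab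
      hT₂.nonab ?_ hcomm
    have hn : ((T ⊓ T₂).subgroupOf T).Normal := ⟨fun u hu g => by
      have h2 : Commute (g : G) u := hcomm _ g.2 _ (mem_inf.mp hu).2
      have : g * u * g⁻¹ = u := Subtype.ext (by
        show (g : G) * u * (g : G)⁻¹ = u
        rw [h2.eq, mul_inv_cancel_right])
      rwa [this]⟩
    rcases hn.eq_bot_or_eq_top with h | h
    · rw [subgroupOf_eq_bot, disjoint_iff] at h
      rwa [inf_assoc, inf_comm T₂, ← inf_assoc, inf_idem] at h
    · exfalso
      have hle : T ≤ T₂ := (subgroupOf_eq_top.mp h).trans inf_le_right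
      exact hT.nonab ⟨⟨fun s t => Subtype.ext (hcomm s s.2 t (hle t.2))⟩⟩
  have hFit : Cfsg.fittingSubgroup G ≤ N := by
    rw [Fitting.fittingSubgroup_eq_pCore hcore, hR]; exact bot_le
  have hle : Cfsg.generalizedFittingSubgroup G ≤ N :=
    Comp.Fstar_le_of_self_centralizing N hFit (hCN.le.trans bot_le)
  have heq : Cfsg.generalizedFittingSubgroup G = N := by
    rcases hNmin _ inferInstance hle with h | h
    · have h1 := Comp.centralizer_Fstar_le (G := G)
      rw [h] at h1
      exact absurd (le_bot_iff.mp (le_trans (fun g _ => mem_centralizer_iff.mpr fun u hu => by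
        rw [mem_bot.mp hu, one_mul, mul_one]) h1)) htop
    · exact h
  rw [heq]
  exact ⟨hTN ▸ hT.simple, hna⟩

end Cfsg.Agent.S3049
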