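import Cfsg.Statements.S4134
import Cfsg.Agent.FGSB.TwoSizes

set_option autoImplicit false
open Cfsg

namespace Cfsg.Agent.S4134

/-- Let G be a finite group whose conjugacy classes have exactly two sizes, 1 and n > 1. Then n is a power of a prime p and G is the direct product of a p-group and an abelian group of order prime to p: its Sylow p-subgroup P is normal with an abelian normal complement centralizing it; moreover P has an abelian normal subgroup A with P/A of exponent dividing p. -/
theorem result {G : Type*} [Group G] [Finite G] (n : ℕ) (hn : 1 < n)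
    (h : ∀ x : G, (Subgroup.centralizer ({x} : Set G)).index = 1 ∨ (Subgroup.centralizer ({x} : Set G)).index = n) (hex : ∃ x : G, (Subgroup.centralizer ({x} : Set G)).index = n) :
    ∃ (p : ℕ) (_ : Fact p.Prime) (a : ℕ), n = p ^ a ∧ ∀ P : Sylow p G, (P : Subgroup G).Normal ∧
      (∃ N : Subgroup G, N.Normal ∧ N.IsComplement' (P : Subgroup G) ∧ IsMulCommutative N ∧
        ∀ x ∈ N, ∀ y ∈ (P : Subgroup G), x * y = y * x) ∧
      ∃ A : Subgroup (P : Subgroup G), A.Normal ∧ IsMulCommutative A ∧ ∀ y : (P : Subgroup G), y ^ p ∈ A := by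
  classical
  open CfsgLib.TwoSizes Subgroup in
  have hG : TwoSized G n := fun x hx => (h x).resolve_left fun e => hx (mem_center_iff.2 fun g => by
    have : g ∈ centralizer ({x} : Set G) := index_eq_one.1 e ▸ mem_top g
    exact (mem_centralizer_one.1 this).eq)
  open CfsgLib.TwoSizes Subgroup in
  have key : ¬ ∀ p : ℕ, HasOther G p := fun hB => not_hasOther hG hn hB
  push Not at key
  obtain ⟨p₀, hp₀⟩ := key
  obtain ⟨x₀, hx₀⟩ := hex
  have hx₀c : x₀ ∉ Subgroup.center G := fun hc => by
    have : Subgroup.centralizer ({x₀} : Set G) = ⊤ :=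
      eq_top_iff.2 fun g _ => CfsgLib.TwoSizes.mem_centralizer_one.2 (Subgroup.mem_center_iff.1 hc g)
    rw [this, Subgroup.index_top] at hx₀
    omega
  have hothers : ∀ (q : ℕ) (y : G), q.Prime → q ≠ p₀ → (∃ j, orderOf y = q ^ j) → y ∈ Subgroup.center G :=
    fun q y hq hqp hy => by_contra fun hyc => hp₀ ⟨q, y, hq, hqp, hyc, hy⟩
  have hpp : p₀.Prime := by
    by_contra hnp
    refine hx₀c (CfsgLib.TwoSizes.mem_of_parts _ x₀ fun q hq => hothers q _ hq ?_
      (CfsgLib.TwoSizes.part_order x₀ hq))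
    rintro rfl
    exact hnp hq
  haveI := Fact.mk hpp
  -- elements of order prime to p₀ are central
  have hp' : ∀ y : G, ¬ p₀ ∣ orderOf y → y ∈ Subgroup.center G := by
    intro y hy
    refine CfsgLib.TwoSizes.mem_of_parts _ y fun q hq => ?_
    rcases eq_or_ne q p₀ with rfl | hqp
    · rw [Nat.factorization_eq_zero_of_not_dvd hy, pow_zero, Nat.div_one, pow_orderOf_eq_one]
      exact one_mem _
    · exact hothers q _ hq hqp (CfsgLib.TwoSizes.part_order y hq)
  have hsyl : ∀ q : ℕ, q.Prime → q ≠ p₀ → ∀ Q : Sylow q G, (Q : Subgroup G) ≤ Subgroup.center G := by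
    intro q hq hqp Q y hy
    haveI := Fact.mk hq
    obtain ⟨j, hj⟩ := IsPGroup.iff_orderOf.1 Q.2 ⟨y, hy⟩
    rw [Subgroup.orderOf_mk] at hj
    exact hothers q y hq hqp ⟨j, hj⟩
  obtain ⟨a, ha⟩ : ∃ a : ℕ, n = p₀ ^ a := by
    refine ⟨n.primeFactorsList.length, Nat.eq_prime_pow_of_unique_prime_dvd (by omega) fun {d} hd hdn => ?_⟩
    by_contra hne
    haveI := Fact.mk hd
    obtain ⟨Q⟩ : Nonempty (Sylow d G) := inferInstance
    have := Subgroup.index_dvd_of_le ((hsyl d hd hne Q).trans (CfsgLib.TwoSizes.center_le x₀))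
    rw [hx₀] at this
    exact Q.not_dvd_index (hdn.trans this)
  refine ⟨p₀, inferInstance, a, ha, fun P => ?_⟩
  have hPn : (P : Subgroup G).Normal := by
    rw [← Subgroup.normalizer_eq_top_iff, ← Subgroup.index_eq_one]
    by_contra hne
    obtain ⟨q, hq, hqd⟩ := Nat.exists_prime_and_dvd hne
    haveI := Fact.mk hq
    rcases eq_or_ne q p₀ with rfl | hqp
    · exact P.not_dvd_index (hqd.trans (Subgroup.index_dvd_of_le Subgroup.le_normalizer))
    · obtain ⟨Q⟩ : Nonempty (Sylow q G) := inferInstance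
      refine Q.not_dvd_index (hqd.trans (Subgroup.index_dvd_of_le ?_))
      exact (hsyl q hq hqp Q).trans ((Subgroup.center_le_centralizer _).trans
        (Subgroup.centralizer_le_normalizer _))
  haveI := hPn
  obtain ⟨K, hK⟩ := Subgroup.exists_right_complement'_of_coprime (N := (P : Subgroup G)) P.card_coprime_index
  have hKcard : Nat.card K = (P : Subgroup G).index := hK.symm.index_eq_card.symm
  have hKc : K ≤ Subgroup.center G := fun y hy => hp' y fun hd => P.not_dvd_index (hKcard ▸ hd.trans
    (Subgroup.orderOf_dvd_natCard K hy))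
  refine ⟨hPn, ⟨K, ?_, hK.symm, ⟨⟨fun u v => Subtype.ext (Subgroup.mem_center_iff.1 (hKc v.2) u)⟩⟩,
    fun u hu v _ => (Subgroup.mem_center_iff.1 (hKc hu) v).symm⟩, ?_⟩
  · exact ⟨fun y hy g => by rw [Subgroup.mem_center_iff.1 (hKc hy) g, mul_inv_cancel_right]; exact hy⟩
  refine ⟨Subgroup.center (P : Subgroup G), inferInstance, inferInstance, fun y =>
    CfsgLib.TwoClassSizes.pow_mem_center p₀ P.2 a (fun u hu => ?_) y⟩
  have huc : (u : G) ∉ Subgroup.center G := fun hc => hu (Subgroup.mem_center_iff.2 fun v =>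
    Subtype.ext (Subgroup.mem_center_iff.1 hc v))
  set C := Subgroup.centralizer ({(u : G)} : Set G)
  have hCP : Subgroup.centralizer ({u} : Set (P : Subgroup G)) = C.subgroupOf (P : Subgroup G) := by
    ext v
    rw [Subgroup.mem_subgroupOf, CfsgLib.TwoSizes.mem_centralizer_one,
      CfsgLib.TwoSizes.mem_centralizer_one]
    exact ⟨fun e => congrArg Subtype.val e.eq, fun e => Subtype.ext e.eq⟩
  rw [hCP, ← ha, ← hG _ huc]
  -- the class in P is the class in G
  have hPcard : Nat.card (P : Subgroup G) * (P : Subgroup G).index = Nat.card G :=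
    (P : Subgroup G).card_mul_index
  set D := C.subgroupOf (P : Subgroup G)
  have hD1 := D.card_mul_index
  have hC1 := C.card_mul_index
  have hDc : Nat.card D = Nat.card (C ⊓ (P : Subgroup G) : Subgroup G) := by
    rw [Nat.card_congr (D.equivMapOfInjective _ (P : Subgroup G).subtype_injective).toEquiv,
      Subgroup.subgroupOf_map_subtype]
  have hCd : Nat.card C = Nat.card (C ⊓ (P : Subgroup G) : Subgroup G) * (P : Subgroup G).index := by
    refine Nat.dvd_antisymm ?_ ?_
    · have h1 : (P : Subgroup G).relIndex C ∣ (P : Subgroup G).index :=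
        Subgroup.relIndex_dvd_index_of_normal _ _
      have h2 := Subgroup.relIndex_mul_relIndex (⊥ : Subgroup G) (C ⊓ P) C bot_le inf_le_left
      rw [Subgroup.relIndex_bot_left, Subgroup.relIndex_bot_left, Subgroup.inf_relIndex_left] at h2
      rw [← h2]
      exact mul_dvd_mul_left _ h1
    · refine Nat.Coprime.mul_dvd_of_dvd_of_dvd ?_ (Subgroup.card_dvd_of_le inf_le_left)
        (hKcard ▸ Subgroup.card_dvd_of_le (hKc.trans (CfsgLib.TwoSizes.center_le _)))
      exact P.card_coprime_index.coprime_dvd_left (Subgroup.card_dvd_of_le inf_le_right)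
  rw [hCd, ← hDc] at hC1
  rw [← hC1, ← hD1] at hPcard
  refine Nat.eq_of_mul_eq_mul_left (Nat.mul_pos (Nat.card_pos (α := D))
    (Nat.pos_of_ne_zero (P : Subgroup G).index_ne_zero_of_finite)) ?_
  linarith [hPcard]

end Cfsg.Agent.S4134
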