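import Cfsg.Statements.S5945
import Cfsg.Agent.SimplePower.SymSix

set_option autoImplicit false
open Cfsg

namespace Cfsg.Agent.S5945

/-- The symmetric group S_6 has exactly 12 subgroups of index 6; each of them is isomorphic to S_5, and at least one of them is not the stabilizer of any point. -/
theorem result : Nat.card {H : Subgroup (Equiv.Perm (Fin 6)) // H.index = 6} = 12 ∧ (∀ H : Subgroup (Equiv.Perm (Fin 6)), H.index = 6 → Nonempty (H ≃* Equiv.Perm (Fin 5))) ∧ ∃ H : Subgroup (Equiv.Perm (Fin 6)), H.index = 6 ∧ ∀ a : Fin 6, H ≠ MulAction.stabilizer (Equiv.Perm (Fin 6)) a := by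
  classical
  have h6 : Fintype.card (Fin 6) = 6 := Fintype.card_fin 6
  have h5 : 5 ≤ Fintype.card (Fin 6) := by rw [h6]; norm_num
  obtain ⟨E, hE, hEne⟩ := CfsgLib.SymIndex.exists_exotic h6
  have hEi : E.index = Fintype.card (Fin 6) := hE.trans h6.symm
  have hEex := CfsgLib.SymIndex.not_stab_imp_exotic h5 hEi hEne
  refine ⟨?_, ?_, E, hE, hEne⟩
  · -- normaliser of the exotic subgroup
    let conjs : Set (Subgroup (Equiv.Perm (Fin 6))) :=
      Set.range fun g : Equiv.Perm (Fin 6) => E.map (MulAut.conj g).toMonoidHom
    let stabs : Set (Subgroup (Equiv.Perm (Fin 6))) :=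
      Set.range fun x : Fin 6 => MulAction.stabilizer (Equiv.Perm (Fin 6)) x
    have hset : {H : Subgroup (Equiv.Perm (Fin 6)) | H.index = 6} = stabs ∪ conjs := by
      ext H
      constructor
      · intro hH
        by_cases hs : ∃ x : Fin 6, H = MulAction.stabilizer (Equiv.Perm (Fin 6)) x
        · obtain ⟨x, rfl⟩ := hs
          exact Or.inl ⟨x, rfl⟩
        · have hHi : H.index = Fintype.card (Fin 6) := hH.trans h6.symm
          exact Or.inr (CfsgLib.SymIndex.exotic_conj h6 E H hEex
            (CfsgLib.SymIndex.not_stab_imp_exotic h5 hHi fun x hx => hs ⟨x, hx⟩) (hH := hEi) (hK := hHi))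
      · rintro (⟨x, rfl⟩ | ⟨g, rfl⟩)
        · exact (CfsgLib.SymIndex.stabilizer_index_eq x).trans h6
        · show (E.map (MulAut.conj g).toMonoidHom).index = 6
          exact (Subgroup.index_map_equiv E (MulAut.conj g)).trans hE
    have hdisj : Disjoint stabs conjs := by
      rw [Set.disjoint_left]
      rintro _ ⟨x, rfl⟩ ⟨g, hg⟩
      refine hEne (g⁻¹ • x) ?_
      simp only at hg
      rw [MulAction.stabilizer_smul_eq_stabilizer_map_conj, ← hg, Subgroup.map_map]
      convert (Subgroup.map_id E).symm using 2
      ext y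
      simp [mul_assoc]
    have hs6 : Nat.card stabs = 6 := by
      rw [← Nat.card_congr (Equiv.ofInjective _ fun x y h => CfsgLib.SymIndex.stabilizer_inj (by simp) h)]
      exact Nat.card_fin 6
    have hc6 : Nat.card conjs = 6 := by
      have hn : Subgroup.normalizer (E : Set (Equiv.Perm (Fin 6))) = E := by
        have h1 := CfsgLib.SymIndex.le_index (H := Subgroup.normalizer (E : Set (Equiv.Perm (Fin 6)))) h5
        have hne : Subgroup.normalizer (E : Set (Equiv.Perm (Fin 6))) ≠ ⊤ := fun h => by
          have : E.Normal := Subgroup.normalizer_eq_top_iff.1 h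
          rcases CfsgLib.SymIndex.normal_cases h5 E with hb | hA
          · rw [hb, Subgroup.index_bot, Nat.card_perm, Nat.card_fin] at hE
            simp [Nat.factorial] at hE
          · have := Subgroup.index_dvd_of_le hA
            rw [hE, alternatingGroup.index_eq_two] at this
            omega
        have hneA : Subgroup.normalizer (E : Set (Equiv.Perm (Fin 6))) ≠ alternatingGroup (Fin 6) := fun h => by
          have := Subgroup.index_dvd_of_le (h ▸ (Subgroup.le_normalizer (H := E)))
          have h2 := Subgroup.relIndex_mul_index (h ▸ (Subgroup.le_normalizer (H := E)) : E ≤ alternatingGroup (Fin 6))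
          rw [alternatingGroup.index_eq_two, hE] at h2
          have h3 : E.relIndex (alternatingGroup (Fin 6)) = 3 := by omega
          have h4 : (E.subgroupOf (alternatingGroup (Fin 6))).index = 3 := h3
          have hN : (E.subgroupOf (alternatingGroup (Fin 6))).normalCore = ⊥ ∨
              (E.subgroupOf (alternatingGroup (Fin 6))).normalCore = ⊤ :=
            alternatingGroup.normal_subgroup_eq_bot_or_eq_top (by simp)
          rcases hN with hN | hN
          · have hinj : Function.Injective (MulAction.toPermHom (alternatingGroup (Fin 6))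
                (alternatingGroup (Fin 6) ⧸ E.subgroupOf (alternatingGroup (Fin 6)))) := by
              rw [← MonoidHom.ker_eq_bot_iff, ← Subgroup.normalCore_eq_ker, hN]
            have h5' := Nat.card_le_card_of_injective _ hinj
            rw [Nat.card_perm, ← Subgroup.index, h4] at h5'
            have h60 := two_mul_nat_card_alternatingGroup (α := Fin 6)
            rw [Nat.card_perm, Nat.card_fin] at h60
            simp [Nat.factorial] at h5' h60
            omega
          · have ht : E.subgroupOf (alternatingGroup (Fin 6)) = ⊤ :=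
              top_le_iff.1 (hN.ge.trans (Subgroup.normalCore_le _))
            rw [ht, Subgroup.index_top] at h4
            omega
        have h1' := h1 hne hneA
        have h1'' : E.index ≤ (Subgroup.normalizer (E : Set (Equiv.Perm (Fin 6)))).index := by omega
        refine le_antisymm ?_ Subgroup.le_normalizer
        have h2 := Subgroup.relIndex_mul_index (Subgroup.le_normalizer (H := E))
        have h3 : E.relIndex (Subgroup.normalizer (E : Set (Equiv.Perm (Fin 6)))) = 1 := by
          have hpos : E.index ≠ 0 := Subgroup.index_ne_zero_of_finite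
          rcases Nat.eq_zero_or_pos (E.relIndex (Subgroup.normalizer (E : Set (Equiv.Perm (Fin 6))))) with h | h
          · rw [h, zero_mul] at h2
            omega
          · nlinarith
        exact Subgroup.relIndex_eq_one.1 h3
      let f : Equiv.Perm (Fin 6) ⧸ E → conjs := fun q => Quotient.liftOn' q
        (fun g => ⟨E.map (MulAut.conj g).toMonoidHom, g, rfl⟩) (fun a b h => Subtype.ext (by
          rw [QuotientGroup.leftRel_apply] at h
          show E.map _ = E.map _
          have hb : b = a * (a⁻¹ * b) := by group
          rw [hb, map_mul, show (MulAut.conj a * MulAut.conj (a⁻¹ * b)).toMonoidHom =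
            (MulAut.conj a).toMonoidHom.comp (MulAut.conj (a⁻¹ * b)).toMonoidHom from rfl,
            ← Subgroup.map_map]
          congr 1
          refine (Subgroup.eq_of_le_of_card_ge ?_ ?_).symm
          · rintro _ ⟨x, hx, rfl⟩
            exact E.mul_mem (E.mul_mem h hx) (E.inv_mem h)
          · rw [Subgroup.card_map_of_injective (MulAut.conj (a⁻¹ * b)).injective]))
      rw [← Nat.card_congr (Equiv.ofBijective f ⟨?_, ?_⟩)]
      · exact hE
      · intro p q hpq
        obtain ⟨a, rfl⟩ := QuotientGroup.mk_surjective p
        obtain ⟨b, rfl⟩ := QuotientGroup.mk_surjective q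
        have hpq' : E.map (MulAut.conj a).toMonoidHom = E.map (MulAut.conj b).toMonoidHom :=
          congrArg Subtype.val hpq
        rw [QuotientGroup.eq, ← hn, Subgroup.mem_normalizer_iff]
        intro x
        have h' := congrArg (fun K : Subgroup _ => (a * (a⁻¹ * b * x * (a⁻¹ * b)⁻¹) * a⁻¹) ∈ K) hpq'
        simp only [Subgroup.mem_map_equiv, MulAut.conj_symm_apply, eq_iff_iff] at h'
        simpa [mul_assoc] using h'.symm
      · rintro ⟨_, g, rfl⟩
        exact ⟨(g : Equiv.Perm (Fin 6) ⧸ E), rfl⟩
    show Nat.card ↥({H : Subgroup (Equiv.Perm (Fin 6)) | H.index = 6}) = 12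
    rw [hset, Nat.card_congr (Equiv.Set.union hdisj), Nat.card_sum, hs6, hc6]
  · intro H hH
    have hHi : H.index = Fintype.card (Fin 6) := hH.trans h6.symm
    let φ := CfsgLib.SymIndex.cosetEquiv H h5 hHi
    have hc := CfsgLib.SymIndex.card_quot H hHi
    have e1 : H ≃* MulAction.stabilizer (Equiv.Perm (Equiv.Perm (Fin 6) ⧸ H))
        ((1 : Equiv.Perm (Fin 6)) : Equiv.Perm (Fin 6) ⧸ H) :=
      (φ.subgroupMap H).trans (MulEquiv.subgroupCongr (by
        show H.map φ.toMonoidHom = _
        apply Subgroup.comap_injective (f := φ.toMonoidHom) φ.surjective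
        show (H.map φ.toMonoidHom).comap φ.toMonoidHom = _
        rw [Subgroup.comap_map_eq_self_of_injective (f := φ.toMonoidHom) φ.injective,
          CfsgLib.SymIndex.comap_cosetEquiv H h5 hHi, MulAction.stabilizer_quotient]))
    obtain ⟨e2⟩ := CfsgLib.SymIndex.stabilizer_equiv ((1 : Equiv.Perm (Fin 6)) : Equiv.Perm (Fin 6) ⧸ H)
    have e3 : {y : Equiv.Perm (Fin 6) ⧸ H // y ≠ ((1 : Equiv.Perm (Fin 6)) : Equiv.Perm (Fin 6) ⧸ H)} ≃ Fin 5 :=
      Fintype.equivFinOfCardEq (by rw [Fintype.card_subtype_compl, Fintype.card_subtype_eq, hc, h6])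
    exact ⟨(e1.trans e2).trans e3.permCongrHom⟩

end Cfsg.Agent.S5945
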