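import Cfsg.Statements.S0575
import Mathlib.GroupTheory.Frattini

set_option autoImplicit false
set_option linter.deprecated false
set_option linter.style.haveILetI false
set_option linter.unusedVariables false
open Cfsg
open scoped Pointwise

namespace Cfsg.Agent.S0575

/-- If H is a normal subgroup of a finite group G, then the Frattini subgroup of H, viewed in G, lies in the Frattini subgroup of G. -/
theorem result {G : Type*} [Group G] [Finite G] (H : Subgroup G) [H.Normal] : (frattini ↥H).map H.subtype ≤ frattini G := by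
  set F := (frattini ↥H).map H.subtype with hF
  have hFn : F.Normal := ConjAct.normal_of_characteristic_of_normal
  refine le_iInf₂ fun M hM => ?_
  by_contra hFM
  have htop : F ⊔ M = ⊤ := hM.2 _ (lt_of_le_of_ne le_sup_right fun he => hFM (he ▸ le_sup_left))
  have hsup : M.subgroupOf H ⊔ frattini ↥H = ⊤ := by
    rw [eq_top_iff]
    rintro ⟨x, hx⟩ -
    have hx' : x ∈ ((F ⊔ M : Subgroup G) : Set G) := htop ▸ Subgroup.mem_top x
    rw [Subgroup.normal_mul] at hx'
    obtain ⟨a, ⟨a', ha', rfl⟩, b, hb, rfl⟩ := hx'
    have hbH : b ∈ H := by simpa using H.mul_mem (H.inv_mem a'.2) hx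
    have he : (⟨H.subtype a' * b, hx⟩ : H) = a' * ⟨b, hbH⟩ := rfl
    rw [he]
    refine Subgroup.mul_mem _ (Subgroup.mem_sup_right ha') (Subgroup.mem_sup_left ?_)
    exact hb
  have h1 := frattini_nongenerating hsup
  rw [Subgroup.subgroupOf_eq_top] at h1
  exact hFM (le_trans (Subgroup.map_subtype_le _) h1)


end Cfsg.Agent.S0575
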