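import Cfsg.Statements.S1254
import Cfsg.Agent.Invol.DihedralFusion
-- import your own Cfsg.Agent.* helpers here

set_option autoImplicit false
open Cfsg

namespace Cfsg.Agent.S1254

/-- Let X be a finite group whose Sylow 2-subgroup S is dihedral (of order at least 4). Then X has a normal 2-complement if and only if, for every Klein four-subgroup U ≤ S, the normalizer N_X(U) is generated by C_X(U) and N_S(U). -/
theorem result {X : Type*} [Group X] [Finite X] (S : Sylow 2 X) (m : ℕ) (hm : 2 ≤ m) (eS : (S : Subgroup X) ≃* DihedralGroup m) : Cfsg.HasNormalPComplement 2 X ↔ ∀ U : Subgroup X, U ≤ S → IsKleinFour U → Subgroup.normalizer (U : Set X) = Subgroup.centralizer (U : Set X) ⊔ ((S : Subgroup X) ⊓ Subgroup.normalizer (U : Set X)) := by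
  haveI : Fact (Nat.Prime 2) := ⟨Nat.prime_two⟩
  obtain ⟨D⟩ := CfsgLib.DihFour.exists_data S.2 hm eS
  constructor
  · intro hN U hUS hU
    refine le_antisymm (fun g hg => ?_) (sup_le ?_ inf_le_right)
    swap
    · exact Subgroup.centralizer_le_normalizer _
    obtain ⟨P, K, hKn, hK⟩ := hN
    haveI := hKn
    have hKS : K.IsComplement' (S : Subgroup X) := by
      refine Subgroup.isComplement'_of_coprime ?_ ?_
      · rw [← hK.card_mul, P.card_eq_multiplicity, S.card_eq_multiplicity]
      · obtain ⟨k, hk⟩ := IsPGroup.iff_card.1 S.2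
        rw [hk]
        refine Nat.Coprime.pow_right _ ?_
        rw [← hK.index_eq_card, Nat.coprime_two_right]
        exact Nat.not_even_iff_odd.1 fun he => P.not_dvd_index (even_iff_two_dvd.1 he)
    obtain ⟨⟨⟨o, ho⟩, ⟨x, hx⟩⟩, hox, -⟩ := Subgroup.isComplement_iff_existsUnique.1 hKS g
    simp only at hox
    subst hox
    have key : ∀ u ∈ U, (o * x) * u * (o * x)⁻¹ = x * u * x⁻¹ := by
      intro u hu
      refine mul_inv_eq_one.1 (Subgroup.disjoint_def.1 hKS.disjoint ?_ ?_)
      · rw [show (o * x) * u * (o * x)⁻¹ * (x * u * x⁻¹)⁻¹ = o * ((x * u * x⁻¹) * o⁻¹ * (x * u * x⁻¹)⁻¹) by group]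
        exact mul_mem ho (hKn.conj_mem _ (inv_mem ho) _)
      · exact mul_mem (hUS ((Subgroup.mem_normalizer_iff.1 hg u).1 hu))
          (inv_mem (mul_mem (mul_mem hx (hUS hu)) (inv_mem hx)))
    have hxN : x ∈ Subgroup.normalizer (U : Set X) := by
      refine Subgroup.mem_normalizer_iff_map_conj_eq.2 (Subgroup.eq_of_le_of_card_ge ?_ ?_)
      · rintro _ ⟨u, hu, rfl⟩
        show x * u * x⁻¹ ∈ U
        rw [← key u hu]
        exact (Subgroup.mem_normalizer_iff.1 hg u).1 hu
      · exact (Subgroup.card_map_of_injective (f := (MulAut.conj x).toMonoidHom) (MulAut.conj x).injective).ge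
    have hoC : o ∈ Subgroup.centralizer (U : Set X) := by
      refine Subgroup.mem_centralizer_iff.2 fun v hv => ?_
      have hv' : x⁻¹ * v * x ∈ U := by
        have := (Subgroup.mem_normalizer_iff.1 (inv_mem hxN) v).1 hv
        rwa [inv_inv] at this
      have h1 := key _ hv'
      rw [show o * x * (x⁻¹ * v * x) * (o * x)⁻¹ = o * v * o⁻¹ by group,
        show x * (x⁻¹ * v * x) * x⁻¹ = v by group] at h1
      exact (mul_inv_eq_iff_eq_mul.1 h1).symm
    exact mul_mem (Subgroup.mem_sup_left hoC) (Subgroup.mem_sup_right ⟨hx, hxN⟩)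
  · intro h
    refine CfsgLib.Fusion.hasNormalPComplement_of_localCondition fun Q hQ g hg hg2 => ?_
    obtain ⟨P, hP⟩ := hQ.exists_le_sylow
    obtain ⟨x, hx⟩ := MulAction.exists_smul_eq X P S
    set e := MulAut.conj x
    set Q' := Q.map e.toMonoidHom with hQ'
    have hQS : Q' ≤ (S : Subgroup X) := by
      rw [← hx, Sylow.coe_subgroup_smul]
      rintro _ ⟨q, hq, rfl⟩
      exact ⟨q, hP hq, rfl⟩
    have hgN : e g ∈ Subgroup.normalizer (Q' : Set X) := by
      refine Subgroup.mem_normalizer_iff_map_conj_eq.2 (Subgroup.eq_of_le_of_card_ge ?_ ?_)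
      · rintro _ ⟨_, ⟨q, hq, rfl⟩, rfl⟩
        refine ⟨g * q * g⁻¹, (Subgroup.mem_normalizer_iff.1 hg q).1 hq, ?_⟩
        show e (g * q * g⁻¹) = e g * e q * (e g)⁻¹
        rw [map_mul, map_mul, map_inv]
      · exact (Subgroup.card_map_of_injective (f := (MulAut.conj (e g)).toMonoidHom) (MulAut.conj (e g)).injective).ge
    have hodd : Odd (orderOf (e g)) := by
      rw [e.orderOf_eq]; exact Nat.coprime_two_right.1 hg2
    suffices hc : e g ∈ Subgroup.centralizer (Q' : Set X) by
      refine Subgroup.mem_centralizer_iff.2 fun q hq => e.injective ?_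
      rw [map_mul, map_mul]
      exact Subgroup.mem_centralizer_iff.1 hc _ ⟨q, hq, rfl⟩
    by_cases hK : IsKleinFour Q'
    · set N := Subgroup.normalizer (Q' : Set X)
      haveI hCn : ((Subgroup.centralizer (Q' : Set X)).subgroupOf N).Normal :=
        ⟨fun n hn a => Subgroup.mem_subgroupOf.2 (Subgroup.mem_centralizer_iff.2 fun q hq => by
          have h1 : (a : X)⁻¹ * q * a ∈ Q' := by
            have := (Subgroup.mem_normalizer_iff.1 (inv_mem a.2) q).1 hq
            rwa [inv_inv] at this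
          have h2 := Subgroup.mem_centralizer_iff.1 (Subgroup.mem_subgroupOf.1 hn) _ h1
          rw [Subgroup.coe_mul, Subgroup.coe_mul, Subgroup.coe_inv]
          calc q * (a * n * (a : X)⁻¹) = a * (((a : X)⁻¹ * q * a) * n) * (a : X)⁻¹ := by group
            _ = a * (n * ((a : X)⁻¹ * q * a)) * (a : X)⁻¹ := by rw [h2]
            _ = a * n * (a : X)⁻¹ * q := by group)⟩
      set π := QuotientGroup.mk' ((Subgroup.centralizer (Q' : Set X)).subgroupOf N) with hπ
      have hle : N ≤ Subgroup.centralizer (Q' : Set X) ⊔ ((S : Subgroup X) ⊓ N) := le_of_eq (h Q' hQS hK)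
      have htop : (Subgroup.centralizer (Q' : Set X)).subgroupOf N ⊔ ((S : Subgroup X) ⊓ N).subgroupOf N = ⊤ := by
        rw [← Subgroup.subgroupOf_sup (Subgroup.centralizer_le_normalizer _) inf_le_right]
        exact Subgroup.subgroupOf_eq_top.2 hle
      obtain ⟨c, hc, t, ht, hct⟩ := Subgroup.mem_sup_of_normal_left.1 (htop ▸ Subgroup.mem_top (⟨e g, hgN⟩ : N))
      have h2 : π ⟨e g, hgN⟩ = π t := by
        rw [← hct, map_mul, show π c = 1 from (QuotientGroup.eq_one_iff c).2 hc, one_mul]
      have h3 : π ⟨e g, hgN⟩ = 1 := by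
        rw [← orderOf_eq_one_iff]
        obtain ⟨k, hk⟩ := IsPGroup.iff_orderOf.1 S.2 ⟨(t : X), (Subgroup.mem_subgroupOf.1 ht).1⟩
        rw [Subgroup.orderOf_mk, Subgroup.orderOf_coe] at hk
        refine Nat.eq_one_of_dvd_coprimes ((Nat.coprime_two_right.2 hodd).pow_right k) ?_ ?_
        · rw [← Subgroup.orderOf_mk (e g) hgN]; exact orderOf_map_dvd π _
        · rw [h2, ← hk]; exact orderOf_map_dvd π t
      exact Subgroup.mem_subgroupOf.1 ((QuotientGroup.eq_one_iff _).1 h3)
    · exact D.odd_centralizes eS.toMonoidHom eS.injective S.2 hQS hK hgN hodd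

end Cfsg.Agent.S1254
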