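import Cfsg.Statements.S3331
import Cfsg.Agent.SelfThree.Main

set_option autoImplicit false
open Cfsg

namespace Cfsg.Agent.S3331

/-- Let G be a finite group containing a subgroup X of order 3 with C_G(X) = X. Then one of the following holds: G has a nilpotent normal subgroup N of order prime to 3 with G/N of order 3 or isomorphic to Sym(3); or G has an elementary abelian normal 2-subgroup N with G/N isomorphic to the alternating group of degree 5; or G is isomorphic to PSL(2,7). -/
theorem result {G : Type*} [Group G] [Finite G]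
    (X : Subgroup G) (hX : Nat.card X = 3) (hC : Subgroup.centralizer (X : Set G) = X) :
    (∃ (N : Subgroup G) (hN : N.Normal), Group.IsNilpotent N ∧ (Nat.card N).Coprime 3 ∧
        (Nat.card (G ⧸ N) = 3 ∨ Nonempty (G ⧸ N ≃* Equiv.Perm (Fin 3)))) ∨
    (∃ (N : Subgroup G) (hN : N.Normal), IsMulCommutative N ∧ (∀ n ∈ N, n ^ 2 = 1) ∧
        Nonempty (G ⧸ N ≃* alternatingGroup (Fin 5))) ∨
    Nonempty (G ≃* Matrix.ProjectiveSpecialLinearGroup (Fin 2) (ZMod 7)) := by
  haveI : Fact (Nat.Prime 3) := ⟨Nat.prime_three⟩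
  obtain ⟨⟨x, hxX⟩, hx⟩ := exists_prime_orderOf_dvd_card' (G := X) 3 (dvd_of_eq hX.symm)
  rw [Subgroup.orderOf_mk] at hx
  have hXx : Subgroup.zpowers x = X :=
    Subgroup.eq_of_le_of_card_ge (Subgroup.zpowers_le.2 hxX) (by rw [hX, Nat.card_zpowers, hx])
  have h : CfsgLib.SelfThree.SC x := ⟨hx, by
    rw [← hXx, Subgroup.zpowers_eq_closure, Subgroup.centralizer_closure] at hC
    rw [hC, ← Subgroup.zpowers_eq_closure]⟩
  exact CfsgLib.SelfThree.main h

end Cfsg.Agent.S3331
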