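import Cfsg.Statements.S5434
import Cfsg.Agent.Spor3T.Extraspecial
import Cfsg.Agent.Monster.ExtraBasics
import Cfsg.Agent.Coprime.Sylow
-- import your own Cfsg.Agent.* helpers here

set_option autoImplicit false
open Cfsg

namespace Cfsg.Agent.S5434

open Subgroup
open scoped commutatorElement

/-- A factor of a central decomposition is the centre or extraspecial. -/
private theorem factor {G : Type*} [Group G] [Finite G] {Q R S : Subgroup G} {z : G}
    (hg : CfsgLib.Extra2.Gen Q z) (hQ2 : IsPGroup 2 Q) (hR : R ≤ Q) (hRS : R ⊔ S = Q)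
    (hc : ∀ x ∈ R, ∀ y ∈ S, x * y = y * x) (hz : z ∈ R) :
    R = zpowers z ∨ Cfsg.IsExtraspecial 2 R := by
  have hcen : ∀ x ∈ R, (∀ y ∈ R, x * y = y * x) → x = 1 ∨ x = z := fun x hx h => by
    refine hg.center_iff x (hR hx) fun y hy => ?_
    have : Q ≤ centralizer ({x} : Set G) := by
      rw [← hRS, sup_le_iff]
      exact ⟨fun r hr => mem_centralizer_singleton_iff.2 (h r hr).symm,
        fun r hr => mem_centralizer_singleton_iff.2 (hc x hx r hr).symm⟩
    exact (mem_centralizer_singleton_iff.1 (this hy)).symm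
  have hzc : (⟨z, hz⟩ : R) ∈ center R :=
    mem_center_iff.2 fun r => Subtype.ext (hg.comm_z r (hR r.2)).eq
  have hcz : ∀ x : R, (x : G) = 1 ∨ (x : G) = z → x ∈ center R := by
    rintro x (e | e)
    · rw [show x = 1 from Subtype.ext e]; exact one_mem _
    · rw [show x = ⟨z, hz⟩ from Subtype.ext e]; exact hzc
  by_cases hab : ∀ a b : R, a * b = b * a
  · refine Or.inl (le_antisymm (fun x hx => ?_) (zpowers_le.2 hz))
    exact (CfsgLib.Extra2.mem_zpowers_iff hg.sq).2
      (hcen x hx fun y hy => congrArg Subtype.val (hab ⟨x, hx⟩ ⟨y, hy⟩))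
  push Not at hab
  refine Or.inr (CfsgLib.Monster.isExtraspecial_of (hQ2.to_le hR) ?_ ?_ ?_ hab)
  · have hmap : (center R).map R.subtype = zpowers z := by
      refine le_antisymm ?_ (zpowers_le.2 ⟨_, hzc, rfl⟩)
      rintro _ ⟨x, hx, rfl⟩
      exact (CfsgLib.Extra2.mem_zpowers_iff hg.sq).2 (hcen x x.2 fun y hy =>
        (congrArg Subtype.val (mem_center_iff.1 hx ⟨y, hy⟩)).symm)
    rw [← card_map_of_injective R.subtype_injective, hmap, Nat.card_zpowers,
      CfsgLib.Extra2.orderOf_gen hg]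
  · exact fun a b => hcz _ (hg.comm a (hR a.2) b (hR b.2))
  · exact fun a => hcz _ (hg.square a (hR a.2))

/-- Let Q be a large extraspecial 2-subgroup of the finite group G (extraspecial; centralizer equal to its centre; normal in the centralizer of its centre; normalizing no non-trivial subgroup of odd order), and A a non-trivial subgroup of odd order of the normalizer of Q. Then Q is the central product of the centralizer of A in Q and the commutator subgroup [Q, A] (they generate Q and commute elementwise), [Q, A] is extraspecial, and the centralizer of A in Q is either the centre of Q or extraspecial. -/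
theorem result {G : Type*} [Group G] [Finite G] (Q : Subgroup G) (hQ : Cfsg.IsLargeExtraspecial Q) (A : Subgroup G) (hA : A ≤ Subgroup.normalizer (Q : Set G)) (hAodd : Odd (Nat.card ↥A)) (hA1 : A ≠ ⊥) : (Q ⊓ Subgroup.centralizer (A : Set G)) ⊔ ⁅Q, A⁆ = Q ∧ (∀ x ∈ Q ⊓ Subgroup.centralizer (A : Set G), ∀ y ∈ ⁅Q, A⁆, x * y = y * x) ∧ Cfsg.IsExtraspecial 2 ↥⁅Q, A⁆ ∧ (Q ⊓ Subgroup.centralizer (A : Set G) = ((Subgroup.center ↥Q).map Q.subtype) ∨ Cfsg.IsExtraspecial 2 ↥(Q ⊓ Subgroup.centralizer (A : Set G))) := by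
  classical
  obtain ⟨z, hg⟩ := CfsgLib.Extra2.exists_gen hQ.1
  obtain ⟨hex, hCQ, -, -⟩ := hQ
  have hQ2 : IsPGroup 2 Q := hex.1.1
  haveI : Fact (Nat.Prime 2) := ⟨Nat.prime_two⟩
  have hconj : ∀ a ∈ A, ∀ q ∈ Q, a * q * a⁻¹ ∈ Q := fun a ha q hq =>
    (mem_normalizer_iff.1 (hA ha) q).1 hq
  have hAz : ∀ a ∈ A, a * z = z * a := by
    intro a ha
    have hm := hconj a ha z hg.mem
    have hcm : ∀ y ∈ Q, Commute (a * z * a⁻¹) y := fun y hy => by
      have hy' : a⁻¹ * y * a ∈ Q := by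
        have := (mem_normalizer_iff.1 (hA (A.inv_mem ha)) y).1 hy
        rwa [inv_inv] at this
      show a * z * a⁻¹ * y = y * (a * z * a⁻¹)
      calc a * z * a⁻¹ * y = a * (z * (a⁻¹ * y * a)) * a⁻¹ := by group
        _ = a * ((a⁻¹ * y * a) * z) * a⁻¹ := by rw [(hg.comm_z _ hy').eq]
        _ = _ := by group
    rcases hg.center_iff _ hm hcm with e | e
    · exact absurd (conj_eq_one_iff.1 e) hg.ne_one
    · exact mul_inv_eq_iff_eq_mul.1 e
  set C := Q ⊓ centralizer (A : Set G) with hC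
  set T := ⁅Q, A⁆ with hT
  have hzC : z ∈ C := ⟨hg.mem, mem_centralizer_iff.2 fun a ha => hAz a ha⟩
  have hTQ : T ≤ Q := by
    rw [hT, commutator_le]
    intro q hq a ha
    rw [commutatorElement_def, show q * a * q⁻¹ * a⁻¹ = q * (a * q⁻¹ * a⁻¹) by group]
    exact Q.mul_mem hq (hconj a ha _ (Q.inv_mem hq))
  letI : MulDistribMulAction A Q :=
    { smul := fun a q => ⟨a * q * (a : G)⁻¹, hconj a a.2 q q.2⟩
      one_smul := fun q => Subtype.ext (by show (1 : G) * q * (1 : G)⁻¹ = q; simp)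
      mul_smul := fun a b q => Subtype.ext (by
        show (a * b : G) * q * (a * b : G)⁻¹ = a * ((b : G) * q * (b : G)⁻¹) * (a : G)⁻¹
        group)
      smul_mul := fun a q r => Subtype.ext (by
        show (a : G) * (q * r : G) * (a : G)⁻¹ =
          ((a : G) * q * (a : G)⁻¹) * ((a : G) * r * (a : G)⁻¹)
        group)
      smul_one := fun a => Subtype.ext (by show (a : G) * 1 * (a : G)⁻¹ = 1; simp) }
  have hcop : (Nat.card A).Coprime (Nat.card Q) := by
    obtain ⟨k, hk⟩ := hQ2.exists_card_eq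
    rw [hk]
    exact (Nat.coprime_two_right.2 hAodd).pow_right k
  haveI := hQ2.isNilpotent
  haveI : Group.IsSolvable Q := IsNilpotent.to_isSolvable
  set W : Subgroup Q := T.subgroupOf Q with hW
  have hWinv : CfsgLib.Coprime.IsInvariant A W := by
    intro a q hq
    show (a : G) * q * (a : G)⁻¹ ∈ T
    have h1 : (q : G) * a * (q : G)⁻¹ * (a : G)⁻¹ ∈ T := commutator_mem_commutator q.2 a.2
    rw [show (a : G) * q * (a : G)⁻¹ = ((q : G) * a * (q : G)⁻¹ * (a : G)⁻¹)⁻¹ * q by group]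
    exact T.mul_mem (T.inv_mem h1) hq
  haveI : Group.IsSolvable W := inferInstance
  have hgen : ∀ (a : A) (q : Q), q⁻¹ * a • q ∈ W := fun a q => by
    show (q : G)⁻¹ * ((a : G) * q * (a : G)⁻¹) ∈ T
    have h1 : (q : G)⁻¹ * a * ((q : G)⁻¹)⁻¹ * (a : G)⁻¹ ∈ T :=
      commutator_mem_commutator (Q.inv_mem q.2) a.2
    rwa [inv_inv, mul_assoc, mul_assoc, ← mul_assoc (a : G)] at h1
  have hsup : C ⊔ T = Q := by
    refine le_antisymm (sup_le inf_le_left hTQ) fun q hq => ?_
    obtain ⟨c, hc, hc'⟩ := CfsgLib.Coprime.exists_fixed_mem_coset_of_isSolvable' W hWinv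
      (hcop.coprime_dvd_right (card_subgroup_dvd_card _)) ⟨q, hq⟩ (fun a => hgen a ⟨q, hq⟩)
    have hcC : (c : G) ∈ C := ⟨c.2, mem_centralizer_iff.2 fun a ha =>
      mul_inv_eq_iff_eq_mul.1 (congrArg Subtype.val (hc ⟨a, ha⟩) : a * (c : G) * a⁻¹ = c)⟩
    have h1 : q⁻¹ * (c : G) ∈ T := hc'
    have h2 := (C ⊔ T).mul_mem (mem_sup_left hcC) ((C ⊔ T).inv_mem (mem_sup_right h1))
    rwa [mul_inv_rev, inv_inv, ← mul_assoc, mul_inv_cancel, one_mul] at h2
  have hcomm : ∀ x ∈ C, ∀ y ∈ T, x * y = y * x := by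
    intro x hx
    suffices T ≤ centralizer {x} from fun y hy => (mem_centralizer_singleton_iff.1 (this hy)).symm
    rw [hT, commutator_le]
    intro q hq a ha
    rw [mem_centralizer_singleton_iff, commutatorElement_def]
    have hxa : a * x = x * a := mem_centralizer_iff.1 hx.2 a ha
    have hxa' : a⁻¹ * x = x * a⁻¹ := mem_centralizer_iff.1 hx.2 a⁻¹ (A.inv_mem ha)
    refine (mul_inv_eq_iff_eq_mul.1 ?_).symm
    rcases CfsgLib.Extra2.conj_eq hg hx.1 hq with e | e
    · calc x * (q * a * q⁻¹ * a⁻¹) * x⁻¹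
          = (x * q * x⁻¹) * (x * a * x⁻¹) * (x * q * x⁻¹)⁻¹ * (x * a⁻¹ * x⁻¹) := by group
        _ = q * a * q⁻¹ * a⁻¹ := by
          rw [e, ← hxa, ← hxa', mul_inv_cancel_right, mul_inv_cancel_right]
    · calc x * (q * a * q⁻¹ * a⁻¹) * x⁻¹
          = (x * q * x⁻¹) * (x * a * x⁻¹) * (x * q * x⁻¹)⁻¹ * (x * a⁻¹ * x⁻¹) := by group
        _ = (q * z) * a * (q * z)⁻¹ * a⁻¹ := by
          rw [e, ← hxa, ← hxa', mul_inv_cancel_right, mul_inv_cancel_right,
            (hg.comm_z q hq).eq]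
        _ = q * (z * a * z⁻¹) * q⁻¹ * a⁻¹ := by group
        _ = q * a * q⁻¹ * a⁻¹ := by rw [← hAz a ha, mul_inv_cancel_right]
  have hstab : ¬ T ≤ zpowers z := by
    intro hle
    apply hA1
    rw [eq_bot_iff_forall]
    intro a ha
    have hfix : ∀ q : Q, (⟨a, ha⟩ : A) • q = q := fun q =>
      CfsgLib.Coprime.smul_eq_self_of_stabilizes W
        (hcop.coprime_dvd_right (card_subgroup_dvd_card _)) q (fun b => hgen b q)
        (fun b n hn => Subtype.ext (by
          show (b : G) * n * (b : G)⁻¹ = n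
          rcases (CfsgLib.Extra2.mem_zpowers_iff hg.sq).1 (hle hn) with e | e
          · rw [show (n : G) = 1 from e]; simp
          · rw [show (n : G) = z from e, hAz b b.2, mul_inv_cancel_right])) ⟨a, ha⟩
    have haQ : a ∈ centralizer (Q : Set G) := mem_centralizer_iff.2 fun q hq =>
      (mul_inv_eq_iff_eq_mul.1 (congrArg Subtype.val (hfix ⟨q, hq⟩) : a * q * a⁻¹ = q)).symm
    rw [hCQ] at haQ
    have haQ' : a ∈ Q := map_subtype_le _ haQ
    exact mem_bot.1 ((disjoint_of_coprime_natCard hcop).eq_bot ▸ ⟨ha, haQ'⟩)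
  have hzT : z ∈ T := by
    haveI : Nontrivial T := (nontrivial_iff_ne_bot T).2 fun h => hstab (h ▸ bot_le)
    haveI := (hQ2.to_le hTQ).center_nontrivial
    obtain ⟨t, ht⟩ := exists_ne (1 : center T)
    have hcm : ∀ y ∈ Q, Commute ((t : T) : G) y := fun y hy => by
      have : Q ≤ centralizer ({((t : T) : G)} : Set G) := by
        rw [← hsup, sup_le_iff]
        exact ⟨fun r hr => mem_centralizer_singleton_iff.2 (hcomm r hr _ (t : T).2),
          fun r hr => mem_centralizer_singleton_iff.2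
            (congrArg Subtype.val (mem_center_iff.1 t.2 ⟨r, hr⟩))⟩
      exact (mem_centralizer_singleton_iff.1 (this hy)).symm
    rcases hg.center_iff ((t : T) : G) (hTQ (t : T).2) hcm with e | e
    · exact absurd (Subtype.ext (Subtype.ext e)) ht
    · exact e ▸ (t : T).2
  refine ⟨hsup, hcomm, ?_, ?_⟩
  · refine (factor hg hQ2 hTQ (sup_comm C T ▸ hsup)
      (fun x hx y hy => (hcomm y hy x hx).symm) hzT).resolve_left fun h => hstab h.le
  · rw [hg.map_center]
    exact factor hg hQ2 inf_le_left hsup hcomm hzC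

end Cfsg.Agent.S5434
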