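import Cfsg.Statements.S1954
import Cfsg.Agent.FusionLift.Basic
import Mathlib

set_option autoImplicit false
open Cfsg

namespace Cfsg.Agent.S1954

/-- Let N be a normal subgroup of the finite group G, P a Sylow p-subgroup of G, and V a subgroup of P ∩ N normal in P ∩ N such that N_N(V) controls strong fusion in P ∩ N with respect to N (whenever a subgroup A of P ∩ N has n A n⁻¹ ≤ P ∩ N for some n in N, then n = h c with h in N_N(V) and c in C_N(A)). Let W be the subgroup generated by the conjugates of V under N_G(P ∩ N). Then N_G(W) controls strong fusion in P with respect to G. -/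
theorem result {G : Type*} [Group G] [Finite G] {p : ℕ} [Fact p.Prime] (N : Subgroup G) [N.Normal] (P : Sylow p G) (V : Subgroup G)
    (hV : V ≤ (P : Subgroup G) ⊓ N) (hVn : ∀ x ∈ (P : Subgroup G) ⊓ N, V.map (MulAut.conj x).toMonoidHom = V)
    (hctrl : ∀ A : Subgroup G, A ≤ (P : Subgroup G) ⊓ N → ∀ n ∈ N, A.map (MulAut.conj n).toMonoidHom ≤ (P : Subgroup G) ⊓ N →
      ∃ h ∈ N ⊓ Subgroup.normalizer (V : Set G), ∃ c ∈ N ⊓ Subgroup.centralizer (A : Set G), n = h * c)
    (W : Subgroup G) (hW : W = Subgroup.closure (⋃ x ∈ Subgroup.normalizer (((P : Subgroup G) ⊓ N : Subgroup G) : Set G),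
      ((V.map (MulAut.conj x).toMonoidHom : Subgroup G) : Set G))) :
    ∀ A : Subgroup G, A ≤ (P : Subgroup G) → ∀ g : G, A.map (MulAut.conj g).toMonoidHom ≤ (P : Subgroup G) →
        ∃ h ∈ Subgroup.normalizer (W : Set G), ∃ c ∈ Subgroup.centralizer (A : Set G), g = h * c := by
  classical
  haveI : Fintype G := Fintype.ofFinite G
  open Subgroup CfsgLib.FusionLift in
  have key : ∀ A : Subgroup G, A ≤ (P : Subgroup G) → ∀ g : G, (∀ a ∈ A, g * a * g⁻¹ ∈ (P : Subgroup G)) →
      ∃ h ∈ normalizer (W : Set G), ∃ c ∈ centralizer (A : Set G), g = h * c := by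
    set P0 := (P : Subgroup G) ⊓ N with hP0
    set M := normalizer (P0 : Set G) with hM
    -- the subgroups normalizing a set of conjugates of `V`
    let Ls : Finset G → Subgroup G := fun s => N ⊓ ⨅ x ∈ s, normalizer ((cj x V : Subgroup G) : Set G)
    have hMN : M ≤ normalizer (N : Set G) := fun x _ => normalizer_eq_top N ▸ mem_top x
    have hconj : ∀ x : G, x ∈ M → ∀ a, a ∈ P0 → x * a * x⁻¹ ∈ P0 := fun x hx a ha => conj_mem_of_le_normalizer le_rfl hx ha
    have hconj' : ∀ x : G, x ∈ M → ∀ a, a ∈ P0 → x⁻¹ * a * x ∈ P0 := fun x hx a ha => conj_mem_of_le_normalizer' le_rfl hx ha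
    have hN' : ∀ x n : G, n ∈ N → x * n * x⁻¹ ∈ N := fun x n hn => Subgroup.Normal.conj_mem ‹N.Normal› n hn x
    have hNinv : ∀ x n : G, n ∈ N → x⁻¹ * n * x ∈ N := fun x n hn => by
      simpa using Subgroup.Normal.conj_mem ‹N.Normal› n hn x⁻¹
    have hctrl' : ∀ s : Finset G, (∀ x ∈ s, x ∈ M) → ∀ A : Subgroup G, A ≤ P0 → ∀ n ∈ N,
        (∀ a ∈ A, n * a * n⁻¹ ∈ P0) → ∃ l ∈ Ls s, ∃ c ∈ N ⊓ centralizer (A : Set G), n = l * c := by
      intro s
      induction s using Finset.induction_on with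
      | empty =>
        intro _ A _ n hn _
        exact ⟨n, by simpa [Ls] using hn, 1, one_mem _, (mul_one n).symm⟩
      | @insert x s hx ih =>
        intro hs A hA n hn hnA
        have hsM : ∀ y ∈ s, y ∈ M := fun y hy => hs y (Finset.mem_insert_of_mem hy)
        have hxM : x ∈ M := hs x (Finset.mem_insert_self x s)
        obtain ⟨l, hl, c, hc, rfl⟩ := ih hsM A hA n hn hnA
        set A1 := A ⊔ ⨆ y ∈ s, cj y V with hA1
        have hlN : l ∈ N := hl.1
        have hls : ∀ y ∈ s, l ∈ normalizer ((cj y V : Subgroup G) : Set G) := fun y hy =>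
          (mem_iInf.1 (mem_iInf.1 hl.2 y)) hy
        have hA1P : A1 ≤ P0 := sup_le hA (iSup₂_le fun y hy => cj_le fun a ha => hconj y (hsM y hy) a (hV ha))
        have hlA1 : A1 ≤ P0.comap (MulAut.conj l).toMonoidHom := by
          refine sup_le (fun a ha => mem_comap.2 ?_) (iSup₂_le fun y hy a ha => mem_comap.2 ?_)
          · show l * a * l⁻¹ ∈ P0
            have h1 := hnA a ha
            rwa [show l * c * a * (l * c)⁻¹ = l * a * l⁻¹ by
              rw [show l * c * a * (l * c)⁻¹ = l * (c * a) * c⁻¹ * l⁻¹ by group,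
                ← mem_centralizer_iff.1 hc.2 a ha]
              group] at h1
          · show l * a * l⁻¹ ∈ P0
            exact cj_le (fun b hb => hconj y (hsM y hy) b (hV hb)) (conj_mem_of_le_normalizer le_rfl (hls y hy) ha)
        obtain ⟨h, hh, c', hc', e⟩ := hctrl (cj x⁻¹ A1) (cj_le fun a ha => by
            rw [inv_inv]; exact hconj' x hxM a (hA1P ha)) (x⁻¹ * l * x) (hNinv x l hlN) (by
          rintro _ ⟨b, ⟨a, ha, rfl⟩, rfl⟩
          show x⁻¹ * l * x * (x⁻¹ * a * x⁻¹⁻¹) * (x⁻¹ * l * x)⁻¹ ∈ P0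
          rw [show x⁻¹ * l * x * (x⁻¹ * a * x⁻¹⁻¹) * (x⁻¹ * l * x)⁻¹ = x⁻¹ * (l * a * l⁻¹) * x by group]
          exact hconj' x hxM _ (mem_comap.1 (hlA1 ha)))
        set h2 := x * h * x⁻¹
        set c2 := x * c' * x⁻¹
        have hc2 : c2 ∈ centralizer (A1 : Set G) := by
          have := mem_centralizer_conj (x := x⁻¹) hc'.2
          rwa [inv_inv] at this
        have hl2 : l = h2 * c2 := by
          rw [show l = x * (x⁻¹ * l * x) * x⁻¹ by group, e]
          simp only [h2, c2]; group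
        have hh2N : h2 ∈ N := hN' x h hh.1
        have hh2x : h2 ∈ normalizer ((cj x V : Subgroup G) : Set G) := by
          refine mem_normalizer_iff.2 fun a => ?_
          rw [mem_cj, mem_cj, show x⁻¹ * (h2 * a * h2⁻¹) * x = h * (x⁻¹ * a * x) * h⁻¹ by simp only [h2]; group]
          exact mem_normalizer_iff.1 hh.2 _
        have hh2s : ∀ y ∈ s, h2 ∈ normalizer ((cj y V : Subgroup G) : Set G) := fun y hy => by
          rw [eq_mul_inv_of_mul_eq hl2.symm]
          refine mul_mem (hls y hy) (inv_mem (centralizer_le_normalizer _ ?_))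
          exact centralizer_le (SetLike.coe_subset_coe.2 (le_sup_of_le_right (le_iSup₂_of_le y hy le_rfl))) hc2
        refine ⟨h2, ⟨hh2N, ?_⟩, c2 * c, Subgroup.mem_inf.2 ⟨mul_mem (hN' x c' hc'.1) hc.1, mul_mem (centralizer_le (SetLike.coe_subset_coe.2 le_sup_left) hc2) hc.2⟩, by rw [hl2, mul_assoc]⟩
        refine mem_iInf.2 fun y => mem_iInf.2 fun hy => ?_
        rcases Finset.mem_insert.1 hy with rfl | hy
        exacts [hh2x, hh2s y hy]
    set Ms : Finset G := Finset.univ.filter (· ∈ M) with hMs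
    set L := Ls Ms with hL
    have hmem : ∀ l, l ∈ L ↔ l ∈ N ∧ ∀ x ∈ M, l ∈ normalizer ((cj x V : Subgroup G) : Set G) := fun l => by
      simp only [hL, Ls, Subgroup.mem_inf, Subgroup.mem_iInf, hMs, Finset.mem_filter, Finset.mem_univ, true_and]
    have hLM : M ≤ normalizer (L : Set G) := Subgroup.le_normalizer_iff.2 fun m hm l hl => by
      rw [hmem] at hl ⊢
      refine ⟨hN' m l hl.1, fun x hx => mem_normalizer_iff.2 fun a => ?_⟩
      have h1 := mem_normalizer_iff.1 (hl.2 (m⁻¹ * x) (mul_mem (inv_mem hm) hx)) (m⁻¹ * a * m)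
      simp only [mem_cj] at h1 ⊢
      convert h1 using 2 <;> group
    have hPM : (P : Subgroup G) ≤ M := Subgroup.le_normalizer_iff.2 fun x hx a ha =>
      Subgroup.mem_inf.2 ⟨mul_mem (mul_mem hx ha.1) (inv_mem hx), hN' x a ha.2⟩
    have hP0L : P0 ≤ L := fun a ha => by
      rw [hmem]
      refine ⟨ha.2, fun x hx => mem_normalizer_iff.2 fun b => ?_⟩
      have h1 := SetLike.ext_iff.1 (hVn _ (hconj' x hx a ha)) (x⁻¹ * a * x * (x⁻¹ * b * x) * (x⁻¹ * a * x)⁻¹)
      rw [mem_cj, show (x⁻¹ * a * x)⁻¹ * (x⁻¹ * a * x * (x⁻¹ * b * x) * (x⁻¹ * a * x)⁻¹) * (x⁻¹ * a * x) = x⁻¹ * b * x by group] at h1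
      rw [mem_cj, mem_cj, h1]
      convert Iff.rfl using 2
      group
    have hs : Setting p N (P : Subgroup G) L := ⟨hPM.trans hMN, fun l hl => ((hmem l).1 hl).1,
      hPM.trans hLM, hP0L, P.2, fun S hPS _ hS => (card_le_of_le (P.3 hS hPS).le), fun A hA n hn hnA =>
        hctrl' Ms (fun x hx => (Finset.mem_filter.1 hx).2) A hA n hn hnA⟩
    have hWgen : ∀ x ∈ M, cj x V ≤ W := fun x hx a ha => by
      rw [hW]
      exact subset_closure (Set.mem_biUnion hx ha)
    have hnorm : ∀ h : G, (∀ x ∈ M, ∀ a ∈ cj x V, h * a * h⁻¹ ∈ W) → cj h W ≤ W := fun h hh => by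
      rw [cj, Subgroup.map_le_iff_le_comap, hW, closure_le]
      intro a ha
      obtain ⟨x, hx, hax⟩ := Set.mem_iUnion₂.1 ha
      have := hh x hx a hax
      rw [hW] at this
      exact this
    have hLW : L ≤ normalizer (W : Set G) := Subgroup.le_normalizer_iff.2 fun l hl a ha =>
      hnorm l (fun x hx b hb => hWgen x hx (conj_mem_of_le_normalizer le_rfl (((hmem l).1 hl).2 x hx) hb)) (conj_mem_cj ha)
    have hMW : M ≤ normalizer (W : Set G) := Subgroup.le_normalizer_iff.2 fun m hm a ha =>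
      hnorm m (fun x hx b hb => hWgen (m * x) (mul_mem hm hx) (by
        rw [mem_cj] at hb ⊢
        convert hb using 1
        group)) (conj_mem_cj ha)
    intro A hA g hgA
    obtain ⟨Q, hQ⟩ : ∃ Q : Sylow p N, (Q : Subgroup N) = (P : Subgroup G).subgroupOf N := by
      refine ⟨{ toSubgroup := (P : Subgroup G).subgroupOf N, isPGroup' := P.2.comap_subtype, is_maximal' := ?_ }, rfl⟩
      intro S hS hle
      refine (eq_of_le_of_card_ge hle ?_).symm
      obtain ⟨R, hR⟩ := (hS.map N.subtype).exists_le_sylow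
      obtain ⟨x, hx⟩ := MulAction.exists_smul_eq G R P
      rw [← card_map_of_injective (K := S) N.subtype_injective, ← card_map_of_injective (K := (P : Subgroup G).subgroupOf N) N.subtype_injective, subgroupOf_map_subtype, ← card_cj x (S.map N.subtype)]
      refine card_le_of_le (cj_le fun t ht => Subgroup.mem_inf.2 ⟨?_, hN' x t (map_subtype_le _ ht)⟩)
      rw [← hx, Sylow.coe_subgroup_smul]
      exact smul_mem_pointwise_smul _ _ _ (hR ht)
    have hfr : M ⊔ N = ⊤ := by
      have h1 := Sylow.normalizer_sup_eq_top Q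
      rw [hQ, subgroupOf_map_subtype] at h1
      exact h1
    have hg : g ∈ (↑(M ⊔ N) : Set G) := by rw [hfr]; exact mem_top g
    rw [mul_normal M N] at hg
    obtain ⟨m, hm, n, hn, rfl⟩ := Set.mem_mul.1 hg
    have hB : cj n A ≤ (N ⊔ (P : Subgroup G)) ⊓ M := cj_le fun a ha => Subgroup.mem_inf.2
      ⟨mul_mem (mul_mem (mem_sup_left hn) (mem_sup_right (hA ha))) (inv_mem (mem_sup_left hn)), by
        have h1 := mul_mem (mul_mem (inv_mem hm) (hPM (hgA a ha))) hm
        convert h1 using 1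
        group⟩
    obtain ⟨x, hx, hxA⟩ := conj_into (le_inf le_sup_right hPM) P.2
      (fun T hT _ hTp => card_le_of_le (P.3 hTp hT).le) hB ((P.2.to_le hA).map _)
    obtain ⟨h, hh, c, hc, e⟩ := controls hs hA (x * n) (mul_mem hx.1 (mem_sup_left hn)) fun a ha => by
      have := hxA _ (conj_mem_cj (x := n) ha)
      convert this using 1
      group
    refine ⟨m * x⁻¹ * h, mul_mem (mul_mem (hMW hm) (inv_mem (hMW hx.2))) ?_, c, hc, ?_⟩
    · exact (sup_le hLW (hPM.trans hMW) : L ⊔ (P : Subgroup G) ≤ _) hh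
    · rw [mul_assoc (m * x⁻¹), ← e]
      group
  intro A hA g hg
  exact key A hA g fun a ha => hg ⟨a, ha, rfl⟩

end Cfsg.Agent.S1954
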