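import Cfsg.Statements.S0292
import Cfsg.Agent.Quad.POmega
-- import your own Cfsg.Agent.* helpers here

set_option autoImplicit false
open Cfsg

namespace Cfsg.Agent.S0292

/-- 2 |PΩ_{2m+1}(q)| = q^(m^2) prod_{i=1}^{m} (q^(2i) - 1), for q odd and m at least 3 (type B_m). -/
theorem result {F : Type*} [Field F] [Fintype F] {q : ℕ} (hF : Fintype.card F = q) (hodd : Odd q) (m : ℕ) (hm : 3 ≤ m) : 2 * Nat.card (Cfsg.POmega F (Cfsg.quadFormOdd m F)) = q ^ (m ^ 2) * ∏ i ∈ Finset.range m, (q ^ (2 * (i + 1)) - 1) := by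
  have hq : Nat.card F = q := by rw [Nat.card_eq_fintype_card, hF]
  have hq1 : 1 ≤ q := by rw [← hF]; exact Fintype.card_pos
  have hp : ∀ k, 1 ≤ q ^ k := fun k => Nat.one_le_pow _ _ hq1
  have h2 : (2 : F) ≠ 0 := by
    intro e
    haveI : CharP F 2 := CharTwo.of_one_ne_zero_of_two_eq_zero one_ne_zero e
    have h0 := FiniteField.even_card_of_char_two (F := F) (ringChar.eq F 2)
    rw [hF] at h0
    rcases hodd with ⟨r, rfl⟩
    omega
  rw [← CfsgLib.Quad.oddQ_coe, Nat.card_congr (CfsgLib.Quad.pOmegaEquiv _).toEquiv]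
  have hn : Module.finrank F (Unit ⊕ (Fin m ⊕ Fin m) → F) = 2 * m + 1 := by
    simp; omega
  refine (CfsgLib.Quad.card_pOmega (CfsgLib.Quad.oddQ_nondeg h2 m) (by omega) _ ?_).2.1 h2
    (CfsgLib.Quad.negIso_notMem_of_odd h2 ⟨m, hn⟩)
  apply Nat.cast_injective (R := ℤ)
  push_cast [hp]
  rw [CfsgLib.Quad.card_oGroup_odd hq h2 m]
  ring

end Cfsg.Agent.S0292
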