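import Cfsg.Statements.S0294
import Cfsg.Agent.Quad.POmega
import Cfsg.Agent.Quad.NegOneMinus
-- import your own Cfsg.Agent.* helpers here

set_option autoImplicit false
open Cfsg

namespace Cfsg.Agent.S0294

/-- gcd(4, q^m + 1) |PΩ^-_{2m}(q)| = q^(m(m-1)) (q^m + 1) prod_{i=1}^{m-1} (q^(2i) - 1), m at least 4 (type ²D_m). -/
theorem result {F : Type*} [Field F] [Fintype F] {q : ℕ} (hF : Fintype.card F = q) (m : ℕ) (hm : 4 ≤ m) (a b : F) (hab : ∀ z₁ z₂ : F, z₁ ^ 2 + a * z₁ * z₂ + b * z₂ ^ 2 = 0 → z₁ = 0 ∧ z₂ = 0) : Nat.gcd 4 (q ^ m + 1) * Nat.card (Cfsg.POmega F (Cfsg.quadFormMinus (m - 1) F a b)) = q ^ (m * (m - 1)) * (q ^ m + 1) * ∏ i ∈ Finset.range (m - 1), (q ^ (2 * (i + 1)) - 1) := by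
  have hq : Nat.card F = q := by rw [Nat.card_eq_fintype_card, hF]
  have hq1 : 1 ≤ q := by rw [← hF]; exact Fintype.card_pos
  have hp : ∀ k, 1 ≤ q ^ k := fun k => Nat.one_le_pow _ _ hq1
  obtain ⟨k, rfl⟩ : ∃ k, m = k + 1 := ⟨m - 1, by omega⟩
  rw [show k + 1 - 1 = k from rfl, ← CfsgLib.Quad.minusQ_coe]
  rw [Nat.card_congr (CfsgLib.Quad.pOmegaEquiv _).toEquiv]
  have hN : Nat.card (CfsgLib.Quad.oGroup (CfsgLib.Quad.minusQ k a b)) = 2 * (q ^ ((k + 1) * k) * (q ^ (k + 1) + 1) * ∏ i ∈ Finset.range k, (q ^ (2 * (i + 1)) - 1)) := by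
    apply Nat.cast_injective (R := ℤ)
    push_cast [hp]
    rw [CfsgLib.Quad.card_oGroup_minus hq hab k]
    ring
  obtain ⟨h1, h3, h4⟩ := CfsgLib.Quad.card_pOmega (CfsgLib.Quad.minusQ_nondeg hab k) (by simp; omega) _ hN
  have hgcd : ∀ x : ℕ, Nat.gcd 4 x = if x % 4 = 0 then 4 else if x % 2 = 0 then 2 else 1 := fun x => by
    rw [Nat.gcd_rec]
    have : x % 4 = 0 ∨ x % 4 = 1 ∨ x % 4 = 2 ∨ x % 4 = 3 := by omega
    rcases this with h | h | h | h <;> rw [h] <;> simp <;> omega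
  rw [hgcd]
  by_cases h2 : (2 : F) = 0
  · haveI : CharP F 2 := CharTwo.of_one_ne_zero_of_two_eq_zero one_ne_zero h2
    have h0 := FiniteField.even_card_of_char_two (F := F) (ringChar.eq F 2)
    rw [hF] at h0
    have hev : q ^ (k + 1) % 2 = 0 := by rw [Nat.pow_mod, h0, Nat.zero_pow (Nat.succ_pos k)]
    have := hp (k + 1)
    rw [h1 h2, if_neg (by omega), if_neg (by omega), one_mul]
  · have hodd : Odd q := by
      rw [Nat.odd_iff, ← hq]; exact CfsgLib.Forms.odd_card_of_two_ne h2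
    have ho : q ^ (k + 1) % 2 = 1 := Nat.odd_iff.mp hodd.pow
    have key : CfsgLib.Quad.negIso (CfsgLib.Quad.minusQ k a b) ∈ commutator _ ↔ q ^ (k + 1) % 4 = 3 := by
      exact CfsgLib.Quad.negIso_minus_iff hq hodd h2 hab k
    by_cases hneg : CfsgLib.Quad.negIso (CfsgLib.Quad.minusQ k a b) ∈ commutator (CfsgLib.Quad.oGroup (CfsgLib.Quad.minusQ k a b))
    · have := key.mp hneg
      rw [if_pos (by omega)]; exact h4 h2 hneg
    · have := mt key.mpr hneg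
      rw [if_neg (by omega), if_pos (by omega)]; exact h3 h2 hneg

end Cfsg.Agent.S0294
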