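import Cfsg.Statements.S1163
import Cfsg.Agent.Suzuki.LieModel
import Cfsg.Agent.Suzuki.Sylow
-- import your own Cfsg.Agent.* helpers here

set_option autoImplicit false
open Cfsg

namespace Cfsg.Agent.S1163

/-- For the Suzuki group Sz(q), q = 2^(2m+1) ≥ 8, realised as the elements g of Sp₄(F) with g* = g^θ (θ the 2^(m+1)-th power map, so that θ² is squaring): `|Sz(q)| = q² (q - 1) (q² + 1)`, and there is a Sylow 2-subgroup `S` whose normaliser `H` has order `q²(q-1)` and index `q² + 1`, the action of `Sz(q)` on the cosets of `H` is doubly transitive, and `S` acts regularly on the cosets other than `H` itself. -/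
theorem result {F : Type*} [Field F] [Fintype F] {m : ℕ} (hm : 1 ≤ m) (hF : Fintype.card F = 2 ^ (2 * m + 1)) :
    Nat.card ↥(Cfsg.Lie.Sz F (2 ^ (m + 1))) = (2 ^ (2 * m + 1)) ^ 2 * (2 ^ (2 * m + 1) - 1) * ((2 ^ (2 * m + 1)) ^ 2 + 1) ∧
    ∃ S : Sylow 2 ↥(Cfsg.Lie.Sz F (2 ^ (m + 1))),
      Nat.card (Subgroup.normalizer ((S : Subgroup ↥(Cfsg.Lie.Sz F (2 ^ (m + 1)))) : Set ↥(Cfsg.Lie.Sz F (2 ^ (m + 1))))) = (2 ^ (2 * m + 1)) ^ 2 * (2 ^ (2 * m + 1) - 1) ∧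
      (Subgroup.normalizer ((S : Subgroup ↥(Cfsg.Lie.Sz F (2 ^ (m + 1)))) : Set ↥(Cfsg.Lie.Sz F (2 ^ (m + 1))))).index = (2 ^ (2 * m + 1)) ^ 2 + 1 ∧
      MulAction.IsMultiplyPretransitive ↥(Cfsg.Lie.Sz F (2 ^ (m + 1))) (↥(Cfsg.Lie.Sz F (2 ^ (m + 1))) ⧸ Subgroup.normalizer ((S : Subgroup ↥(Cfsg.Lie.Sz F (2 ^ (m + 1)))) : Set ↥(Cfsg.Lie.Sz F (2 ^ (m + 1))))) 2 ∧
      ∀ x y : ↥(Cfsg.Lie.Sz F (2 ^ (m + 1))) ⧸ Subgroup.normalizer ((S : Subgroup ↥(Cfsg.Lie.Sz F (2 ^ (m + 1)))) : Set ↥(Cfsg.Lie.Sz F (2 ^ (m + 1)))),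
        x ≠ (QuotientGroup.mk 1) → y ≠ (QuotientGroup.mk 1) → ∃! s : ↥(S : Subgroup ↥(Cfsg.Lie.Sz F (2 ^ (m + 1)))), (s : ↥(Cfsg.Lie.Sz F (2 ^ (m + 1)))) • x = y := by
  have h := CfsgLib.Suzuki.isSzField_of_card hm hF
  let e := CfsgLib.Suzuki.lieEquiv h
  have : Fact (Nat.Prime 2) := ⟨Nat.prime_two⟩
  have hU : ((CfsgLib.Suzuki.unip h).map e.toMonoidHom).index =
      (CfsgLib.Suzuki.unip h).index := Subgroup.index_map_equiv _ e
  let S : Sylow 2 ↥(Cfsg.Lie.Sz F (2 ^ (m + 1))) :=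
    ((CfsgLib.Suzuki.isPGroup_unip h).map e.toMonoidHom).toSylow
      (by rw [hU]; exact CfsgLib.Suzuki.not_two_dvd_index_unip h)
  have hN : Subgroup.normalizer ((S : Subgroup ↥(Cfsg.Lie.Sz F (2 ^ (m + 1)))) : Set ↥(Cfsg.Lie.Sz F (2 ^ (m + 1)))) =
      (CfsgLib.Suzuki.borel F m).map e.toMonoidHom := by
    rw [show (S : Subgroup ↥(Cfsg.Lie.Sz F (2 ^ (m + 1)))) = (CfsgLib.Suzuki.unip h).map e.toMonoidHom from rfl]
    rw [← CfsgLib.Suzuki.normalizer_unip h]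
    exact (Subgroup.map_equiv_normalizer_eq (CfsgLib.Suzuki.unip h) e).symm
  refine ⟨?_, S, ?_, ?_, ?_⟩
  · rw [← Nat.card_congr e.toEquiv, CfsgLib.Suzuki.card_Sz h, h.card]
    ring
  · rw [hN, Subgroup.card_map_of_injective e.injective, CfsgLib.Suzuki.card_borel h, h.card]
  · rw [hN]
    refine (Subgroup.index_map_equiv _ e).trans ?_
    rw [CfsgLib.Suzuki.index_borel h, h.card]
  rw [hN]
  set H := (CfsgLib.Suzuki.borel F m).map e.toMonoidHom with hH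
  have hmemS : ∀ s : ↥(Cfsg.Lie.Sz F (2 ^ (m + 1))),
      s ∈ (S : Subgroup ↥(Cfsg.Lie.Sz F (2 ^ (m + 1)))) ↔ e.symm s ∈ CfsgLib.Suzuki.unip h := by
    intro s
    show s ∈ (CfsgLib.Suzuki.unip h).map e.toMonoidHom ↔ _
    rw [Subgroup.mem_map_equiv]
  -- the coset determined by an element is the point it maps infinity to
  have hmk : ∀ a b : ↥(Cfsg.Lie.Sz F (2 ^ (m + 1))),
      (QuotientGroup.mk a : ↥(Cfsg.Lie.Sz F (2 ^ (m + 1))) ⧸ H) = QuotientGroup.mk b ↔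
      e.symm a • CfsgLib.Suzuki.inf F = e.symm b • CfsgLib.Suzuki.inf F := by
    intro a b
    rw [QuotientGroup.eq, hH, Subgroup.mem_map_equiv, map_mul, map_inv]
    show ((e.symm a)⁻¹ * e.symm b) • CfsgLib.Suzuki.inf F = _ ↔ _
    rw [mul_smul, inv_smul_eq_iff, eq_comm]
  have hreg : ∀ x y : ↥(Cfsg.Lie.Sz F (2 ^ (m + 1))) ⧸ H,
      x ≠ QuotientGroup.mk 1 → y ≠ QuotientGroup.mk 1 →
      ∃! s : ↥(S : Subgroup ↥(Cfsg.Lie.Sz F (2 ^ (m + 1)))),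
        (s : ↥(Cfsg.Lie.Sz F (2 ^ (m + 1)))) • x = y := by
    intro x y
    induction x using QuotientGroup.induction_on with
    | H a =>
    induction y using QuotientGroup.induction_on with
    | H b =>
    intro ha hb
    rw [Ne, hmk, map_one, one_smul] at ha hb
    obtain ⟨s, hs, huniq⟩ := CfsgLib.Suzuki.existsUnique_unip h
      (CfsgLib.Suzuki.smul_mem_ovoid (e.symm a).2 CfsgLib.Suzuki.inf_mem)
      (CfsgLib.Suzuki.smul_mem_ovoid (e.symm b).2 CfsgLib.Suzuki.inf_mem) ha hb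
    refine ⟨⟨e s.1, (hmemS _).2 (by rw [e.symm_apply_apply]; exact s.2)⟩, ?_, ?_⟩
    · show (QuotientGroup.mk (e s.1 * a) : ↥(Cfsg.Lie.Sz F (2 ^ (m + 1))) ⧸ H) = QuotientGroup.mk b
      rw [hmk, map_mul, e.symm_apply_apply, mul_smul]
      exact hs
    · rintro ⟨t, ht⟩ het
      change (QuotientGroup.mk (t * a) : ↥(Cfsg.Lie.Sz F (2 ^ (m + 1))) ⧸ H) = QuotientGroup.mk b at het
      rw [hmk, map_mul, mul_smul] at het
      have := huniq ⟨e.symm t, (hmemS t).1 ht⟩ het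
      apply Subtype.ext
      show t = e s.1
      rw [← this, e.apply_symm_apply]
  refine ⟨?_, hreg⟩
  rw [MulAction.is_two_pretransitive_iff]
  intro a b c d hab hcd
  obtain ⟨g, hg⟩ := MulAction.exists_smul_eq ↥(Cfsg.Lie.Sz F (2 ^ (m + 1))) a
    (QuotientGroup.mk 1 : _ ⧸ H)
  obtain ⟨k, hk⟩ := MulAction.exists_smul_eq ↥(Cfsg.Lie.Sz F (2 ^ (m + 1))) c
    (QuotientGroup.mk 1 : _ ⧸ H)
  have hgb : g • b ≠ QuotientGroup.mk 1 := fun e' => hab (MulAction.injective g (hg.trans e'.symm))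
  have hkd : k • d ≠ QuotientGroup.mk 1 := fun e' => hcd (MulAction.injective k (hk.trans e'.symm))
  obtain ⟨s, hs, -⟩ := hreg _ _ hgb hkd
  have hfix : (s : ↥(Cfsg.Lie.Sz F (2 ^ (m + 1)))) •
      (QuotientGroup.mk 1 : ↥(Cfsg.Lie.Sz F (2 ^ (m + 1))) ⧸ H) = QuotientGroup.mk 1 := by
    show (QuotientGroup.mk ((s : ↥(Cfsg.Lie.Sz F (2 ^ (m + 1)))) * 1) : _ ⧸ H) = _
    rw [mul_one, hmk, map_one, one_smul]
    exact CfsgLib.Suzuki.unip_le_stab h ((hmemS _).1 s.2)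
  refine ⟨k⁻¹ * s * g, ?_, ?_⟩
  · rw [mul_smul, mul_smul, hg, hfix, ← hk, inv_smul_smul]
  · rw [mul_smul, mul_smul, hs, inv_smul_smul]

end Cfsg.Agent.S1163
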