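import Cfsg.Statements.S3012

set_option autoImplicit false
set_option linter.unusedVariables false
open Cfsg

namespace Cfsg.Agent.S3012

/-- Let G be a finite group, V a nontrivial elementary abelian 2-subgroup of G satisfying the Sidki pair condition (every odd-order element inverted by an element of V commutes with a nontrivial element of V), and K a normal subgroup of G with V ∩ K = 1. Then the image of V in G/K satisfies the Sidki pair condition in G/K. -/
theorem result {G : Type*} [Group G] [Finite G] (V K : Subgroup G) [K.Normal] (hV : Cfsg.IsElementaryAbelian 2 V) (hV1 : V ≠ ⊥) (hS : Cfsg.IsSidkiPair V) (hVK : V ⊓ K = ⊥) : Cfsg.IsSidkiPair (V.map (QuotientGroup.mk' K)) := by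
  intro h' v' hv' hodd hinv
  obtain ⟨v, hv, rfl⟩ := hv'
  induction h' using QuotientGroup.induction_on with
  | H a =>
  set π : G →* G ⧸ K := QuotientGroup.mk' K with hπ
  change π v * π a * (π v)⁻¹ = (π a)⁻¹ at hinv
  change Odd (orderOf (π a)) at hodd
  have hvv : v * v = 1 := by rw [← sq]; exact hV.2 v hv
  have hvi : v⁻¹ = v := inv_eq_of_mul_eq_one_right hvv
  set d := v * (a⁻¹ * v * a) with hd
  have hπd : π d = π a ^ 2 := by
    have h1 : (π v)⁻¹ = π v := by rw [← map_inv, hvi]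
    have hinv' : π v * (π a)⁻¹ * (π v)⁻¹ = π a := by rw [← conj_inv, hinv, inv_inv]
    rw [hd, map_mul, map_mul, map_mul, map_inv, sq, ← mul_assoc, ← mul_assoc]
    conv_lhs => arg 1; arg 2; rw [← h1]
    rw [hinv']
  have hvd : v * d * v⁻¹ = d⁻¹ := by
    simp only [hd, mul_inv_rev, inv_inv, hvi, mul_assoc]
    rw [← mul_assoc v v, hvv, one_mul]
  obtain ⟨s, m, hm, hsm⟩ := Nat.exists_eq_two_pow_mul_odd (orderOf_pos d).ne'
  set t := d ^ (2 ^ s) with ht
  have hto : orderOf t = m := by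
    rw [ht, orderOf_pow' d (pow_ne_zero s (by norm_num)), hsm, Nat.gcd_eq_right (dvd_mul_right _ _),
      Nat.mul_div_cancel_left _ (Nat.pos_of_ne_zero (pow_ne_zero s (by norm_num)))]
  have hvt : v * t * v⁻¹ = t⁻¹ := by
    rw [ht, ← inv_pow, ← hvd, conj_pow]
  obtain ⟨w, hw, hw1, hwt⟩ := hS t v hv (hto ▸ hm) hvt
  refine ⟨π w, ⟨w, hw, rfl⟩, fun h => hw1 ?_, ?_⟩
  · have : w ∈ V ⊓ K := ⟨hw, (QuotientGroup.eq_one_iff w).mp h⟩
    rwa [hVK, Subgroup.mem_bot] at this
  have hc : Commute (π w) ((π a ^ 2) ^ (2 ^ s)) := by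
    rw [← hπd, ← map_pow]; exact (show Commute w t from hwt).map π
  rw [← pow_mul, ← pow_succ'] at hc
  have hcop : (2 ^ (s + 1)).Coprime (orderOf (π a)) :=
    Nat.Coprime.pow_left _ (Nat.coprime_two_left.mpr hodd)
  obtain ⟨j, hj⟩ := exists_pow_eq_self_of_coprime hcop
  have := hc.pow_right j
  rwa [hj] at this

end Cfsg.Agent.S3012
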