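import Cfsg.Statements.S4501
import Cfsg.Agent.ThreePrimes.FourThree
-- import your own Cfsg.Agent.* helpers here

set_option autoImplicit false
set_option linter.style.haveILetI false
open Cfsg

namespace Cfsg.Agent.S4501

/-- Let G be a non-abelian finite simple group and p, q distinct primes. If the order of G is 4·p^a·q^b with a ≤ 2, then G is isomorphic to the alternating group of degree 5. If the order of G is 3·p^a·q^b with a ≤ 2, then G is isomorphic to the alternating group of degree 5 or to PSL(2,7). -/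
theorem result {G : Type*} [Group G] [Finite G] [IsSimpleGroup G] (hna : ∃ x y : G, x * y ≠ y * x) (p q a b : ℕ) (hp : p.Prime) (hq : q.Prime) (hpq : p ≠ q) (ha : a ≤ 2) : (Nat.card G = 4 * p ^ a * q ^ b → Nonempty (G ≃* alternatingGroup (Fin 5))) ∧ (Nat.card G = 3 * p ^ a * q ^ b → Nonempty (G ≃* alternatingGroup (Fin 5)) ∨ Nonempty (G ≃* Matrix.ProjectiveSpecialLinearGroup (Fin 2) (ZMod 7))) := by
  classical
  have hnc : ¬ IsMulCommutative G := fun h => by
    obtain ⟨x, y, hxy⟩ := hna
    exact hxy (h.is_comm.comm x y)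
  have sixty : Nat.card G = 60 → Nonempty (G ≃* alternatingGroup (Fin 5)) := Cfsg.Agent.S0494.result
  refine ⟨fun hG => ?_, fun hG => ?_⟩
  · -- order `4 p ^ a q ^ b`
    have hp2 : p ≠ 2 := by
      rintro rfl
      exact CfsgLib.ThreePrimes.not_two_primes hnc (p := 2) (q := q) (a := a + 2) (b := b) Nat.prime_two hq
        (by rw [hG]; ring)
    have hq2 : q ≠ 2 := by
      rintro rfl
      exact CfsgLib.ThreePrimes.not_two_primes hnc (p := p) (q := 2) (a := a) (b := b + 2) hp Nat.prime_two
        (by rw [hG]; ring)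
    exact sixty (CfsgLib.ThreePrimes.card_eq_sixty hnc hp hq hp2 hq2 (hG.trans (mul_assoc _ _ _)))
  -- order `3 p ^ a q ^ b`
  have hp3 : p ≠ 3 := by
    rintro rfl
    exact CfsgLib.ThreePrimes.not_two_primes hnc (p := 3) (q := q) (a := a + 1) (b := b) Nat.prime_three hq
      (by rw [hG]; ring)
  have hq3 : q ≠ 3 := by
    rintro rfl
    exact CfsgLib.ThreePrimes.not_two_primes hnc (p := p) (q := 3) (a := a) (b := b + 1) hp Nat.prime_three
      (by rw [hG]; ring)
  have hdvd3 : 3 ∣ Nat.card G := hG ▸ (Dvd.intro _ rfl).mul_right _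
  by_cases hq2 : q = 2
  · subst hq2
    obtain ⟨x, hx⟩ := CfsgLib.ThreePrimes.exists_self_centralizing_three hnc hp hpq hp3 ha hG
    rcases CfsgLib.SelfThree.main hx with ⟨N, hN, -, -, hQ⟩ | ⟨N, hN, -, -, ⟨e⟩⟩ | h
    · haveI := hN
      exfalso
      rcases IsSimpleGroup.eq_bot_or_eq_top_of_normal N hN with rfl | rfl
      · have hsix : Nat.card G ∣ 6 := by
          rw [← Nat.card_congr (QuotientGroup.quotientBot (G := G)).toEquiv]
          rcases hQ with h | ⟨⟨e⟩⟩
          · rw [h]; norm_num
          · rw [Nat.card_congr e.toEquiv, Nat.card_perm, Nat.card_fin]; rfl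
        obtain ⟨i, j, hij⟩ : ∃ i j, Nat.card G = 2 ^ i * 3 ^ j := by
          have := Nat.le_of_dvd (by norm_num) hsix
          interval_cases h : Nat.card G <;> first
            | exact ⟨0, 0, rfl⟩ | exact ⟨1, 0, rfl⟩ | exact ⟨0, 1, rfl⟩ | exact ⟨1, 1, rfl⟩
            | exact absurd hsix (by norm_num)
        exact CfsgLib.ThreePrimes.not_two_primes hnc Nat.prime_two Nat.prime_three hij
      · have h1 : Nat.card (G ⧸ (⊤ : Subgroup G)) = 1 := by
          rw [← Subgroup.index_eq_card, Subgroup.index_top]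
        rcases hQ with h | ⟨⟨e⟩⟩
        · omega
        · rw [Nat.card_congr e.toEquiv, Nat.card_perm, Nat.card_fin] at h1
          exact absurd h1 (by decide)
    · haveI := hN
      rcases IsSimpleGroup.eq_bot_or_eq_top_of_normal N hN with rfl | rfl
      · exact Or.inl ⟨QuotientGroup.quotientBot.symm.trans e⟩
      · exfalso
        have h1 : Nat.card (G ⧸ (⊤ : Subgroup G)) = 1 := by
          rw [← Subgroup.index_eq_card, Subgroup.index_top]
        rw [Nat.card_congr e.toEquiv, nat_card_alternatingGroup, Nat.card_fin] at h1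
        exact absurd h1 (by decide)
    · exact Or.inr h
  haveI := Fact.mk hp
  have hqodd : ¬ 2 ∣ q ^ b := fun h => hq2 ((Nat.prime_dvd_prime_iff_eq Nat.prime_two hq).1
    (Nat.prime_two.dvd_of_dvd_pow h)).symm
  have hlt : ∀ {r : ℕ} [Fact r.Prime] (P : Sylow r G), Nat.card (P : Subgroup G) < Nat.card G := by
    intro r hr P
    refine lt_of_le_of_ne (Subgroup.card_le_card_group _) fun h => ?_
    obtain ⟨k, hk⟩ := P.2.exists_card_eq
    exact CfsgLib.ThreePrimes.not_two_primes hnc (p := r) (q := r) (a := k) (b := 0) hr.out hr.out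
      (by rw [← h, hk, pow_zero, mul_one])
  by_cases hp2 : p = 2
  · subst hp2
    rcases (show a = 0 ∨ a = 1 ∨ a = 2 by omega) with rfl | rfl | rfl
    · exact absurd (hG.trans (by ring)) (CfsgLib.ThreePrimes.not_two_primes hnc (p := 3) (q := q) (a := 1)
        (b := b) Nat.prime_three hq)
    · exfalso
      obtain ⟨P⟩ : Nonempty (Sylow 2 G) := inferInstance
      have hc : Nat.card (P : Subgroup G) = 2 :=
        (CfsgLib.SmallSimple.card_sylow_eq P (k := 1) (m := 3 * q ^ b) (by rw [hG]; ring)
          (fun h => (Nat.prime_two.dvd_mul.1 h).elim (by norm_num) hqodd)).trans (pow_one 2)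
      exact CfsgLib.ThreePrimes.not_cyclic_minFac P
        ((Nat.minFac_eq_two_iff _).2 (hG ▸ ⟨3 * q ^ b, by ring⟩)) (by omega) (hlt P)
        (isCyclic_of_prime_card (p := 2) hc)
    · exact Or.inl (sixty (CfsgLib.ThreePrimes.card_eq_sixty hnc (u := 3) (a := 1) (b := b) Nat.prime_three hq
        (by norm_num) hq2 (by rw [hG]; ring)))
  · -- odd order
    exfalso
    haveI : Fact (Nat.Prime 3) := ⟨Nat.prime_three⟩
    have hodd : ¬ 2 ∣ Nat.card G := by
      rw [hG]
      intro h
      rcases Nat.prime_two.dvd_mul.1 h with h | h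
      · rcases Nat.prime_two.dvd_mul.1 h with h | h
        · norm_num at h
        · exact hp2 ((Nat.prime_dvd_prime_iff_eq Nat.prime_two hp).1 (Nat.prime_two.dvd_of_dvd_pow h)).symm
      · exact hqodd h
    have hmin : (Nat.card G).minFac = 3 := by
      refine le_antisymm (Nat.minFac_le_of_dvd (by norm_num) hdvd3) ?_
      have hpr := Nat.minFac_prime (show Nat.card G ≠ 1 from fun h =>
        CfsgLib.ThreePrimes.not_two_primes hnc (p := 2) (q := 2) (a := 0) (b := 0) Nat.prime_two Nat.prime_two
          (by rw [h]; rfl))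
      have := hpr.two_le
      rcases Nat.lt_or_ge (Nat.card G).minFac 3 with h | h
      · exact absurd ((show (Nat.card G).minFac = 2 by omega) ▸ Nat.minFac_dvd _) hodd
      · exact h
    obtain ⟨P⟩ : Nonempty (Sylow 3 G) := inferInstance
    have hc : Nat.card (P : Subgroup G) = 3 := by
      refine (CfsgLib.SmallSimple.card_sylow_eq P (k := 1) (m := p ^ a * q ^ b) (by rw [hG]; ring)
        fun h => ?_).trans (pow_one 3)
      rcases Nat.prime_three.dvd_mul.1 h with h | h
      · exact hp3 ((Nat.prime_dvd_prime_iff_eq Nat.prime_three hp).1 (Nat.prime_three.dvd_of_dvd_pow h)).symm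
      · exact hq3 ((Nat.prime_dvd_prime_iff_eq Nat.prime_three hq).1 (Nat.prime_three.dvd_of_dvd_pow h)).symm
    exact CfsgLib.ThreePrimes.not_cyclic_minFac P hmin (by omega) (hlt P) (isCyclic_of_prime_card (p := 3) hc)

end Cfsg.Agent.S4501
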