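import Cfsg.Statements.S4701
import Cfsg.Agent.BrauerPrime.Reduction

set_option linter.style.haveILetI false

set_option autoImplicit false
open Cfsg

namespace Cfsg.Agent.S4701

/-- Let G be a finite perfect group and p a prime dividing the order of G with p^3 larger than the order of G. Suppose a Sylow p-subgroup of G is not normal and G has no normal subgroup of order 2. Then p > 3 and G is isomorphic to PSL(2, p), or to SL(2, 2^m) with p = 2^m + 1. -/
theorem result {G : Type*} [Group G] [Finite G] (hperf : commutator G = ⊤) (p : ℕ) [Fact p.Prime] (hdvd : p ∣ Nat.card G) (hbig : Nat.card G < p ^ 3) (P : Sylow p G) (hP : ¬ (P : Subgroup G).Normal) (h2 : ∀ N : Subgroup G, N.Normal → Nat.card N ≠ 2) : (∃ (F : Type) (_ : Field F) (_ : Fintype F), Fintype.card F = p ∧ 3 < p ∧ Nonempty (G ≃* Matrix.ProjectiveSpecialLinearGroup (Fin 2) F)) ∨ (∃ (m : ℕ) (F : Type) (_ : Field F) (_ : Fintype F), Fintype.card F = 2 ^ m ∧ p = 2 ^ m + 1 ∧ 3 < p ∧ Nonempty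 (G ≃* Matrix.SpecialLinearGroup (Fin 2) F)) := by
  have hp : p.Prime := Fact.out
  have hPc := CfsgLib.BrauerPrime.card_eq_of_big hdvd hbig P hP
  obtain ⟨n, j, -, hn, -, -, hlow⟩ := CfsgLib.BrauerPrime.quotient_numbers hperf P hPc
  set O := Cfsg.pPrimeCore p G with hO
  have hG : Nat.card G = Nat.card (G ⧸ O) * Nat.card O :=
    Subgroup.card_eq_card_quotient_mul_card_subgroup O
  have hO0 : 1 ≤ Nat.card O := Nat.card_pos
  have hlt : 2 * p * (1 + n * p) < p ^ 3 := by
    have := Nat.le_mul_of_pos_right (Nat.card (G ⧸ O)) hO0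
    omega
  have main := CfsgLib.BrauerPrime.classify_quotient hperf P hPc hn
    (CfsgLib.BrauerPrime.not_eqn_of_mul_lt hlt)
  have hsmall : Nat.card O ≤ 2 := by
    by_contra hge
    rw [not_le] at hge
    rcases main with ⟨F, iF, iF', hF, h3, ⟨e⟩⟩ | ⟨m, F, iF, iF', hF, hpm, h3, ⟨e⟩⟩
    · have hc := CfsgLib.Linear.Small.card_psl_two hF
      rw [← Nat.card_congr e.toEquiv] at hc
      obtain ⟨k, hk⟩ := hp.odd_of_ne_two (by omega)
      rw [show Nat.gcd 2 (p - 1) = 2 from Nat.gcd_eq_left ⟨k, by omega⟩] at hc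
      obtain ⟨r, rfl⟩ : ∃ r, p = r + 4 := ⟨p - 4, by omega⟩
      rw [show (r + 4) ^ 2 - (r + 4) = (r + 4) * (r + 3) from
          Nat.sub_eq_of_eq_add (by ring),
        show (r + 4) ^ 2 - 1 = (r + 5) * (r + 3) from Nat.sub_eq_of_eq_add (by ring),
        show r + 4 - 1 = r + 3 from by omega] at hc
      nlinarith [Nat.mul_le_mul_left (Nat.card (G ⧸ O)) hge]
    · have hc := CfsgLib.Linear.Small.card_psl_two hF
      rw [← Nat.card_congr e.toEquiv] at hc
      have hm : 1 ≤ m := Nat.pos_of_ne_zero fun h0 => by rw [h0, pow_zero] at hpm; omega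
      rw [show Nat.gcd 2 (2 ^ m - 1) = 1 from Nat.prime_two.coprime_iff_not_dvd.2 fun h => by
        have := dvd_pow_self 2 (show m ≠ 0 by omega)
        omega] at hc
      obtain ⟨r, hr⟩ : ∃ r, 2 ^ m = r + 3 := ⟨2 ^ m - 3, by omega⟩
      rw [hr] at hc hpm
      subst hpm
      rw [show (r + 3) ^ 2 - (r + 3) = (r + 3) * (r + 2) from
          Nat.sub_eq_of_eq_add (by ring),
        show (r + 3) ^ 2 - 1 = (r + 4) * (r + 2) from Nat.sub_eq_of_eq_add (by ring),
        show r + 3 - 1 = r + 2 from by omega] at hc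
      have hc' : Nat.card (G ⧸ O) = (r + 4) * ((r + 3) * (r + 2)) :=
        Nat.eq_of_mul_eq_mul_left (show 0 < r + 2 by omega) (by linarith)
      have h5 : Nat.card (G ⧸ O) * 3 ≤ Nat.card G := hG ▸ Nat.mul_le_mul_left _ hge
      rw [hc'] at h5
      nlinarith
  have hbot : O = ⊥ := by
    refine Subgroup.eq_bot_of_card_eq _ ?_
    have := h2 O inferInstance
    omega
  have e0 : G ≃* G ⧸ O :=
    ((QuotientGroup.quotientMulEquivOfEq hbot).trans QuotientGroup.quotientBot).symm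
  rcases main with ⟨F, iF, iF', hF, h3, ⟨e⟩⟩ | ⟨m, F, iF, iF', hF, hpm, h3, ⟨e⟩⟩
  · exact Or.inl ⟨F, iF, iF', hF, h3, ⟨e0.trans e⟩⟩
  · exact Or.inr ⟨m, F, iF, iF', hF, hpm, h3, CfsgLib.BrauerPrime.sl_iso hF (e0.trans e)⟩


end Cfsg.Agent.S4701
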