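import Cfsg.Statements.S0999
import Cfsg.Agent.S4701

set_option linter.style.haveILetI false

set_option autoImplicit false
open Cfsg

namespace Cfsg.Agent.S0999

/-- Let G be a non-cyclic finite simple group and p a prime divisor of its order with p^3 > |G|. Then p > 3 and G is isomorphic to the projective special linear group of dimension 2 over the field with p elements, or p - 1 is a power of 2 and G is isomorphic to that group over the field with p - 1 elements. -/
theorem result {G : Type*} [Group G] [Finite G] [IsSimpleGroup G] (hG : ¬ IsCyclic G) (p : ℕ) (hp : p.Prime) (hdvd : p ∣ Nat.card G) (hbig : Nat.card G < p ^ 3) : (∃ (F : Type) (_ : Field F) (_ : Fintype F), Fintype.card F = p ∧ 3 < p ∧ Nonempty (G ≃* Matrix.ProjectiveSpecialLinearGroup (Fin 2) F)) ∨ (∃ (m : ℕ) (F : Type) (_ : Field F) (_ : Fintype F), Fintype.card F = 2 ^ m ∧ p = 2 ^ m + 1 ∧ 3 < p ∧ Nonempty (G ≃* Matrix.ProjectiveSpecialLinearGroup (Fin 2) F)) := by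
  haveI := Fact.mk hp
  have hperf : commutator G = ⊤ := by
    refine (Subgroup.Normal.eq_bot_or_eq_top (inferInstance : (commutator G).Normal)).resolve_left
      fun h => hG ?_
    rw [commutator_def, Subgroup.commutator_eq_bot_iff_le_centralizer] at h
    letI : CommGroup G := { (inferInstance : Group G) with
      mul_comm := fun a b => Subgroup.mem_centralizer_iff.1 (h (Subgroup.mem_top b)) a
        (Subgroup.mem_top a) }
    infer_instance
  obtain ⟨P⟩ : Nonempty (Sylow p G) := inferInstance
  have hP : ¬ (P : Subgroup G).Normal := fun hn => by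
    rcases hn.eq_bot_or_eq_top with h | h
    · refine P.not_dvd_index ?_
      rw [h, Subgroup.index_bot]
      exact hdvd
    · have hpg : IsPGroup p G := fun g => by
        obtain ⟨k, hk⟩ := P.2 ⟨g, h ▸ Subgroup.mem_top g⟩
        exact ⟨k, congrArg Subtype.val hk⟩
      haveI : Nontrivial G := IsSimpleGroup.toNontrivial
      rcases (Subgroup.Normal.eq_bot_or_eq_top (inferInstance : (Subgroup.center G).Normal)) with
        hc | hc
      · exact hpg.bot_lt_center.ne' hc
      · refine hG ?_
        letI : CommGroup G := { (inferInstance : Group G) with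
          mul_comm := fun a b => Subgroup.mem_center_iff.1 (hc ▸ Subgroup.mem_top b) a }
        infer_instance
  have h2 : ∀ N : Subgroup G, N.Normal → Nat.card N ≠ 2 := fun N hN h => by
    rcases hN.eq_bot_or_eq_top with h' | h'
    · rw [h', Subgroup.card_bot] at h; omega
    · rw [h', Subgroup.card_top] at h
      haveI : Fact (Nat.Prime 2) := ⟨Nat.prime_two⟩
      exact hG (isCyclic_of_prime_card h)
  rcases Cfsg.Agent.S4701.result hperf p hdvd hbig P hP h2 with
    h | ⟨m, F, iF, iF', hF, hpm, h3, ⟨e⟩⟩
  · exact Or.inl h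
  · haveI : CharP F 2 := by
      haveI : Fact (Nat.Prime 2) := ⟨Nat.prime_two⟩
      exact charP_of_card_eq_prime_pow hF
    exact Or.inr ⟨m, F, iF, iF', hF, hpm, h3, ⟨e.trans CfsgLib.SL2Char2.slEquivPSL⟩⟩


end Cfsg.Agent.S0999
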