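import Cfsg.Statements.S0997
import Cfsg.Agent.BrauerPrime.QPower
import Cfsg.Agent.S0999

set_option linter.style.haveILetI false

set_option autoImplicit false
open Cfsg

namespace Cfsg.Agent.S0997

/-- Let G be a non-cyclic finite simple group of order p * q^b * g₀, where p and q are distinct primes and g₀ < p - 1. Then either p has the form 2^m + 1 or 2^m - 1 and G is isomorphic to the projective special linear group of dimension 2 over the field with p elements, or p = 2^m + 1 > 3 and G is isomorphic to that group over the field with 2^m elements. -/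
theorem result {G : Type*} [Group G] [Finite G] [IsSimpleGroup G] (hG : ¬ IsCyclic G) (p q b g₀ : ℕ) (hp : p.Prime) (hq : q.Prime) (hpq : p ≠ q) (hG' : Nat.card G = p * q ^ b * g₀) (hg : g₀ < p - 1) : (∃ (m : ℕ) (F : Type) (_ : Field F) (_ : Fintype F), Fintype.card F = p ∧ (p = 2 ^ m + 1 ∨ p = 2 ^ m - 1) ∧ Nonempty (G ≃* Matrix.ProjectiveSpecialLinearGroup (Fin 2) F)) ∨ (∃ (m : ℕ) (F : Type) (_ : Field F) (_ : Fintype F), Fintype.card F = 2 ^ m ∧ p = 2 ^ m + 1 ∧ 3 < p ∧ Nonempty (G ≃* Matrix.ProjectiveSpecialLinearGroup (Fin 2) F)) := by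
  classical
  haveI := Fact.mk hp
  letI := Fintype.ofFinite G
  obtain ⟨S⟩ : Nonempty (Sylow p G) := inferInstance
  have hg0 : 0 < g₀ := Nat.pos_of_ne_zero fun h0 => by
    rw [h0, mul_zero] at hG'; exact Nat.card_pos.ne' hG'
  have hS : Nat.card S = p := by
    rw [S.card_eq_multiplicity, hG', mul_assoc, Nat.factorization_mul hp.ne_zero
      (Nat.mul_ne_zero (pow_ne_zero _ hq.ne_zero) hg0.ne'), Finsupp.add_apply,
      hp.factorization_self, Nat.factorization_eq_zero_of_not_dvd, add_zero, pow_one]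
    intro hd
    rcases hp.dvd_mul.1 hd with h1 | h1
    · exact hpq ((Nat.prime_dvd_prime_iff_eq hp hq).1 (hp.dvd_of_dvd_pow h1))
    · have := Nat.le_of_dvd hg0 h1
      omega
  have h := CfsgLib.BrauerPrime.setup_of_simple hG hS
  rcases CfsgLib.BrauerPrime.qpower h hq hpq hG' hg with ⟨m, hm, hiso⟩ | ⟨hlt, hg2, hq2⟩
  · exact Or.inl ⟨m, ZMod p, inferInstance, inferInstance, ZMod.card p, hm, hiso⟩
  rcases Cfsg.Agent.S0999.result hG p hp ⟨q ^ b * g₀, by rw [hG', mul_assoc]⟩ hlt with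
    ⟨F, iF, iF', hF, h3, ⟨iso⟩⟩ | hr
  · refine Or.inl ⟨2, F, iF, iF', hF, Or.inl ?_, ⟨iso⟩⟩
    have hc := CfsgLib.Linear.Small.card_psl_two (F := F) hF
    rw [← Nat.card_congr iso.toEquiv, hG', hg2, hq2] at hc
    obtain ⟨k, hk⟩ := hp.odd_of_ne_two (by omega)
    obtain ⟨r, hr⟩ : ∃ r, p = r + 2 := ⟨2 * k - 1, by omega⟩
    subst hr
    rw [show Nat.gcd 2 (r + 2 - 1) = 2 from Nat.gcd_eq_left ⟨k, by omega⟩,
      show r + 2 - 1 = r + 1 by omega, Nat.add_sub_cancel,
      show (r + 2) ^ 2 - 1 = (r + 1) * (r + 3) from Nat.sub_eq_of_eq_add (by ring),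
      show (r + 2) ^ 2 - (r + 2) = (r + 2) * (r + 1) from Nat.sub_eq_of_eq_add (by ring)] at hc
    have h2 : (r + 1) * (r + 2) * (2 * 2 ^ b * r) = (r + 1) * (r + 2) * ((r + 3) * (r + 1)) := by
      linarith
    have h4 := Nat.eq_of_mul_eq_mul_left (Nat.mul_pos (Nat.succ_pos r) (Nat.succ_pos (r + 1))) h2
    have h5 : r ∣ 3 := (Nat.dvd_add_right (dvd_mul_left r (r + 4))).1
      ⟨2 * 2 ^ b, by linarith⟩
    rcases (Nat.dvd_prime Nat.prime_three).1 h5 with h6 | h6
    · omega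
    · omega
  · exact Or.inr hr

end Cfsg.Agent.S0997
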