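import Cfsg.Statements.S4033
import Cfsg.Agent.TwoRegular.Main
-- import your own Cfsg.Agent.* helpers here

set_option autoImplicit false
open Cfsg
open CfsgLib.TwoLargest CfsgLib.ItoSizes

namespace Cfsg.Agent.S4033

/-- Let G be a finite group and p a prime, and suppose the conjugacy classes of p-regular elements of G (elements of order prime to p) have exactly two distinct sizes. Then either G has an abelian p-complement (an abelian subgroup of order prime to p and p-power index), or there are a prime q ≠ p, a Sylow p-subgroup P, a Sylow q-subgroup Q and a central subgroup A such that PQ is a normal subgroup of order #P·#Q and G is the internal direct product PQ × A. -/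
theorem result {G : Type*} [Group G] [Finite G] {p : ℕ} (hp : p.Prime)
    (h2 : Set.ncard (Set.range fun x : {x : G // (orderOf x).Coprime p} => (ConjClasses.mk (x : G)).carrier.ncard) = 2) :
    (∃ H : Subgroup G, IsMulCommutative H ∧ ¬ p ∣ Nat.card H ∧ ∃ k : ℕ, H.index = p ^ k) ∨
    (∃ (q : ℕ) (_ : Fact q.Prime) (P : Sylow p G) (Q : Sylow q G) (A : Subgroup G), q ≠ p ∧
        A ≤ Subgroup.center G ∧ Nat.card ↥((P : Subgroup G) ⊔ (Q : Subgroup G)) = Nat.card P * Nat.card Q ∧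
        ((P : Subgroup G) ⊔ (Q : Subgroup G)).Normal ∧
        ((P : Subgroup G) ⊔ (Q : Subgroup G)) ⊓ A = ⊥ ∧ ((P : Subgroup G) ⊔ (Q : Subgroup G)) ⊔ A = ⊤) := by
  classical
  haveI := Fact.mk hp
  by_cases hpow : ∀ x : G, (orderOf x).Coprime p → ∃ k : ℕ, (Subgroup.centralizer ({x} : Set G)).index = p ^ k
  · exact Or.inl ((CfsgLib.PRegClass.cond_iff hp).1 hpow)
  simp only [CfsgLib.PRegClass.ncard_carrier] at h2
  push Not at hpow
  obtain ⟨x₀, hx₀, hx₀k⟩ := hpow
  have hx₀c : x₀ ∉ Subgroup.center G := fun hc => hx₀k 0 (by rw [pow_zero]; exact k_of_center hc)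
  obtain ⟨n, hn⟩ : ∃ n, n = k x₀ := ⟨_, rfl⟩
  have hsizes : ∀ x : G, (orderOf x).Coprime p → x ∉ Subgroup.center G → k x = n := by
    intro x hx hxc
    obtain ⟨u, v, -, huv⟩ := Set.ncard_eq_two.1 h2
    have hmem : ∀ z : G, (orderOf z).Coprime p → k z = u ∨ k z = v := fun z hz => by
      have h1 : k z ∈ ({u, v} : Set ℕ) := huv ▸ ⟨⟨z, hz⟩, rfl⟩
      simpa using h1
    have h1 : k (1 : G) = 1 := k_of_center (one_mem _)
    have hx1 : k x ≠ 1 := fun e => hxc (mem_center_of_k e)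
    have hn1 : n ≠ 1 := fun e => hx₀c (mem_center_of_k (hn ▸ e))
    rcases hmem 1 (by simp) with e | e <;> rcases hmem x hx with e' | e' <;>
      rcases hmem x₀ hx₀ with e'' | e'' <;> omega
  obtain ⟨s, hs, hsp, hsn⟩ : ∃ s : ℕ, s.Prime ∧ s ≠ p ∧ s ∣ n := by
    by_contra hno
    push Not at hno
    refine hx₀k _ (hn.symm.trans (Nat.eq_prime_pow_of_unique_prime_dvd (hn ▸ (k_pos x₀).ne') fun {d} hd hdd => ?_))
    by_contra hne
    exact hno d hd hne hdd
  by_cases htwo : ∃ r t, other' G p r ∧ other' G p t ∧ r ≠ t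
  · exact ((CfsgLib.TwoRegular.Two.mk hp hsizes htwo).false_of_dvd hs hsp hsn hx₀ hx₀c).elim
  push Not at htwo
  obtain ⟨r, hr, hrp, hcen⟩ : ∃ r : ℕ, r.Prime ∧ r ≠ p ∧
      ∀ d : ℕ, d.Prime → d ≠ p → d ≠ r → ¬ other' G p d := by
    by_cases hex : ∃ r, other' G p r
    · obtain ⟨r, hr⟩ := hex
      exact ⟨r, hr.1, hr.2.1, fun d _ _ hdr hd => hdr (htwo d r hd hr)⟩
    · exact ⟨s, hs, hsp, fun d _ _ _ hd => hex ⟨d, hd⟩⟩
  haveI := Fact.mk hr
  obtain ⟨P⟩ : Nonempty (Sylow p G) := inferInstance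
  obtain ⟨Q⟩ : Nonempty (Sylow r G) := inferInstance
  obtain ⟨A, hA⟩ := CfsgLib.TwoRegular.exists_direct hp hrp hcen P Q
  exact Or.inr ⟨r, inferInstance, P, Q, A, hrp, hA⟩

end Cfsg.Agent.S4033
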