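import Cfsg.Statements.S4160
import Cfsg.Agent.FGSA.ClassSizePrimes

set_option autoImplicit false
open Cfsg

namespace Cfsg.Agent.S4160

/-- Let G be a finite group and p ≠ q primes each dividing the size of some conjugacy class of G, such that no conjugacy class size is divisible by pq. Then G has a normal p-complement or a normal q-complement. -/
theorem result {G : Type*} [Group G] [Finite G] (p q : ℕ) (hp : p.Prime) (hq : q.Prime) (hpq : p ≠ q)
    (hp' : ∃ x : G, p ∣ (Subgroup.centralizer ({x} : Set G)).index) (hq' : ∃ x : G, q ∣ (Subgroup.centralizer ({x} : Set G)).index) (h : ∀ x : G, ¬ p * q ∣ (Subgroup.centralizer ({x} : Set G)).index) :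
    Cfsg.HasNormalPComplement p G ∨ Cfsg.HasNormalPComplement q G := by
  classical
  by_contra hcon
  rw [not_or] at hcon
  haveI := Fintype.ofFinite G
  haveI : Fact p.Prime := ⟨hp⟩
  haveI : Fact q.Prime := ⟨hq⟩
  have h1 := CfsgLib.ClassSizePrimes.two_mul_card_good_le hcon.1
  have h2 := CfsgLib.ClassSizePrimes.two_mul_card_good_le hcon.2
  rw [Nat.card_eq_fintype_card, Nat.card_eq_fintype_card, Fintype.card_subtype] at h1 h2
  set A := Finset.univ.filter (fun x : G => ¬ p ∣ (Subgroup.centralizer ({x} : Set G)).index) with hA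
  set B := Finset.univ.filter (fun x : G => ¬ q ∣ (Subgroup.centralizer ({x} : Set G)).index) with hB
  have hu : A ∪ B = Finset.univ := by
    refine Finset.eq_univ_of_forall fun x => ?_
    rw [Finset.mem_union, hA, hB, Finset.mem_filter, Finset.mem_filter]
    by_cases hx : p ∣ (Subgroup.centralizer ({x} : Set G)).index
    · exact Or.inr ⟨Finset.mem_univ _, fun hx' =>
        h x (((Nat.coprime_primes hp hq).2 hpq).mul_dvd_of_dvd_of_dvd hx hx')⟩
    · exact Or.inl ⟨Finset.mem_univ _, hx⟩
  have htop : Subgroup.centralizer ({(1 : G)} : Set G) = ⊤ := by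
    ext; simp [Subgroup.mem_centralizer_singleton_iff]
  have hi : (1 : G) ∈ A ∩ B := by
    simp [hA, hB, htop, Subgroup.index_top, hp.ne_one, hq.ne_one]
  have h3 := Finset.card_union_add_card_inter A B
  rw [hu, Finset.card_univ] at h3
  have h4 := Finset.card_pos.2 ⟨1, hi⟩
  omega

end Cfsg.Agent.S4160
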