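import Cfsg.Statements.S0218
import Mathlib.Data.ZMod.Basic
-- import your own Cfsg.Agent.* helpers here

set_option autoImplicit false
open Cfsg

namespace Cfsg.Agent.S0218

/-- The generalized quaternion group of order 2^(n+3) contains exactly one element of order 2. -/
theorem result (n : ℕ) : Nat.card {x : QuaternionGroup (2 ^ (n + 1)) // orderOf x = 2} = 1 := by
  haveI : NeZero (2 ^ (n + 1)) := ⟨by positivity⟩
  have hn2 : orderOf (QuaternionGroup.a 1 : QuaternionGroup (2 ^ (n + 1))) = 2 * 2 ^ (n + 1) :=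
    QuaternionGroup.orderOf_a_one
  rw [Nat.card_eq_one_iff_exists]
  refine ⟨⟨QuaternionGroup.a ((2 ^ (n + 1) : ℕ) : ZMod _), ?_⟩, ?_⟩
  · rw [← QuaternionGroup.a_one_pow, orderOf_pow, hn2, Nat.gcd_mul_left_left,
      Nat.mul_div_cancel _ (by positivity)]
  · rintro ⟨x, hx⟩
    apply Subtype.ext
    rcases x with i | i
    · show QuaternionGroup.a i = _
      obtain ⟨k, hk, rfl⟩ : ∃ k : ℕ, k < 2 * 2 ^ (n + 1) ∧ (k : ZMod (2 * 2 ^ (n + 1))) = i :=
        ⟨i.val, ZMod.val_lt i, ZMod.natCast_zmod_val i⟩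
      have h2 := pow_orderOf_eq_one (QuaternionGroup.a (k : ZMod (2 * 2 ^ (n + 1))))
      rw [hx, ← QuaternionGroup.a_one_pow, ← pow_mul, ← orderOf_dvd_iff_pow_eq_one, hn2,
        mul_comm k 2] at h2
      obtain ⟨c, hc⟩ := Nat.dvd_of_mul_dvd_mul_left (by norm_num) h2
      have hc2 : c < 2 := Nat.lt_of_mul_lt_mul_left (a := 2 ^ (n + 1)) (by rw [← hc]; omega)
      rcases (by omega : c = 0 ∨ c = 1) with rfl | rfl
      · exfalso
        rw [mul_zero] at hc
        subst hc
        simp [QuaternionGroup.a_zero] at hx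
      · rw [hc, mul_one]
    · rw [QuaternionGroup.orderOf_xa] at hx
      omega

end Cfsg.Agent.S0218
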