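import Cfsg.Statements.S2073
import Cfsg.Agent.OutConway.PairMcL

set_option autoImplicit false
open Cfsg

namespace Cfsg.Agent.S2073

/-- The outer automorphism group of the McLaughlin group (as a two-vector stabiliser in the automorphism group of the rank-24 lattice) has order 2. -/
theorem result : Nat.card (Cfsg.Out ↥Cfsg.Spor.McL) = 2 := by
  let e : Cfsg.Spor.McL ≃* CfsgLib.OutConway.Pair275.H :=
    { toFun := fun g => ⟨⟨g.1, g.2.1.1⟩, g.2.1.2, g.2.2⟩
      invFun := fun g => ⟨g.1.1, ⟨g.1.2, g.2.1⟩, g.2.2⟩
      left_inv := fun g => rfl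
      right_inv := fun g => rfl
      map_mul' := fun g h => rfl }
  rw [CfsgLib.OutConway.card_out_congr e]
  exact CfsgLib.OutConway.Pair275.card_out

end Cfsg.Agent.S2073
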