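import Cfsg.Statements.S2146
import Cfsg.Agent.MinIdxOrth.Level
-- import your own Cfsg.Agent.* helpers here

set_option autoImplicit false
open Cfsg

namespace Cfsg.Agent.S2146

/-- Minimal index of a proper subgroup of the even-dimensional orthogonal groups of plus type over the field with 2 elements: for m ≥ 4, every proper subgroup of Ω⁺_2m(2) (for the form Σ xᵢyᵢ) has index at least 2^(m−1)(2^m − 1), and that index is attained. -/
theorem result {F : Type*} [Field F] [Fintype F] (hF : Fintype.card F = 2) (m : ℕ) (hm : 4 ≤ m) : (∀ H : Subgroup (Cfsg.POmega F (Cfsg.quadFormPlus m F)), H ≠ ⊤ → 2 ^ (m - 1) * (2 ^ m - 1) ≤ H.index) ∧ (∃ H : Subgroup (Cfsg.POmega F (Cfsg.quadFormPlus m F)), H.index = 2 ^ (m - 1) * (2 ^ m - 1)) := by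
  classical
  obtain ⟨n, rfl⟩ : ∃ n, m = n + 3 + 1 := ⟨m - 4, by omega⟩
  have he := CfsgLib.Quad.plusSplit_apply (F := F) (n + 3)
  have hdim : Module.finrank F (Fin (n + 3) ⊕ Fin (n + 3) → F) = 2 * (n + 3) := by
    rw [Module.finrank_fintype_fun_eq_card, Fintype.card_sum, Fintype.card_fin]; omega
  set Q := CfsgLib.Quad.plusQ (F := F) (n + 3)
  have hnd := CfsgLib.Quad.plusQ_nondeg (F := F) (n + 3)
  have hn : 5 ≤ Module.finrank F (Fin (n + 3) ⊕ Fin (n + 3) → F) := by omega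
  have hspt := CfsgLib.MinIdxOrth.card_spt_eq (CfsgLib.Quad.plusQ (F := F) (n + 3 + 1)) hn
    (CfsgLib.Quad.plusSplit (F := F) (n + 3)) he
  have hz := CfsgLib.Quad.zeros_plus (F := F) Nat.card_eq_fintype_card (n + 3 + 1)
  have hgeo := CfsgLib.MinDeg.Om.geo_plus (F := F) (n + 2)
  have h2 : (2 : F) = 0 := by
    have h := Nat.cast_card_eq_zero F
    rwa [hF] at h
  have hlev : ∀ a : F, a ≠ 0 → (CfsgLib.MinIdxOrth.nz Q a : ℤ) =
      32 * (2 ^ n : ℤ) * 2 ^ n - 4 * 2 ^ n := by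
    intro a ha
    rw [CfsgLib.MinIdxOrth.nz_eq_level ha, hgeo.level a ha, hF, Nat.add_sub_cancel,
      show 2 * (n + 2 + 1) - 1 = 5 + n + n from by omega]
    push_cast
    simp only [pow_add]
    ring
  have hone : (Nat.card {p // CfsgLib.Quad.hypSum Q p = (1 : F)} : ℤ) = 128 * (2 ^ n : ℤ) * 2 ^ n - 8 * 2 ^ n := by
    rw [CfsgLib.MinDeg.Om.card_level_hypSum, ← CfsgLib.MinIdxOrth.nz_eq_level one_ne_zero, hlev 1 one_ne_zero, hF,
      Module.natCard_eq_pow_finrank (K := F), hdim, Nat.card_eq_fintype_card, hF,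
      show 2 * (n + 3) = 6 + n + n from by omega]
    push_cast
    simp only [pow_add]
    ring
  have hD : ((2 ^ (n + 3 + 1 - 1) * (2 ^ (n + 3 + 1) - 1) : ℕ) : ℤ) = 128 * (2 ^ n : ℤ) * 2 ^ n - 8 * 2 ^ n := by
    rw [Nat.add_sub_cancel, Nat.cast_mul, Nat.cast_sub Nat.one_le_two_pow]
    push_cast
    simp only [pow_add]
    ring
  set D := 2 ^ (n + 3 + 1 - 1) * (2 ^ (n + 3 + 1) - 1)
  have hP : (1 : ℤ) ≤ 2 ^ n := one_le_pow₀ (by norm_num)
  have hpts : (D : ℤ) ≤ (Nat.card (CfsgLib.Quad.SPt (CfsgLib.Quad.hypSum Q)) : ℤ) := by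
    rw [hF, show (2 - 1 : ℕ) = 1 from rfl, mul_one] at hspt
    rw [hF, ← hspt, show 2 * (n + 3 + 1) = 8 + n + n from by omega] at hz
    push_cast at hz
    simp only [pow_add] at hz
    rw [hD]
    linarith
  have hnum : CfsgLib.MinIdxOrth.Numeric Q D := by
    refine ⟨Or.inl ⟨hF, by omega⟩, by exact_mod_cast hpts, ?_, ?_, fun a ha => ?_, fun a ha => ?_⟩
    · rw [hF, hdim, show 2 * (n + 3) = 6 + n + n from by omega]
      zify
      simp only [pow_add]
      rw [hD]
      linarith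
    · rcases Nat.eq_zero_or_pos n with rfl | hn0
      · left
        rw [hF, hdim]
        norm_num [D]
      · right; omega
    · rw [hF, hdim, show (2 - 1 : ℕ) = 1 from rfl, one_mul, one_mul, show 2 * (n + 3) = 6 + n + n from by omega]
      zify
      simp only [pow_add]
      rw [hD, hlev a ha]
      linarith
    · refine Or.inr ⟨hF, ?_, ?_⟩
      · have h0 : (CfsgLib.MinIdxOrth.nz Q 0 : ℤ) + 1 = 32 * (2 ^ n : ℤ) * 2 ^ n + 4 * 2 ^ n := by
          rw [← Nat.cast_one, ← Nat.cast_add, ← CfsgLib.MinIdxOrth.card_zero_eq, hgeo.zero, hF, Nat.add_sub_cancel,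
            show 2 * (n + 2 + 1) - 1 = 5 + n + n from by omega]
          push_cast
          simp only [pow_add]
          ring
        zify
        rw [hD, hlev a ha]
        nlinarith
      · zify
        rw [hD, hlev a ha]
        nlinarith
  obtain ⟨v₀, hv₀⟩ := CfsgLib.MinIdxOrth.exists_of_level_pos (Q := Q) (a := (1 : F))
    (by zify; rw [hone]; nlinarith)
  rw [← CfsgLib.Quad.plusQ_coe]
  refine ⟨fun H hH => CfsgLib.MinIdxOrth.bound_pOmega _ _ he
      (CfsgLib.MinIdxOrth.bound_of_numeric hnum hnd hn) H hH, ?_⟩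
  obtain ⟨H, hH⟩ := CfsgLib.MinIdxOrth.exists_index_level _ hnd hn one_ne_zero hv₀ h2 _ he
  exact ⟨H, hH.trans (by exact_mod_cast hone.trans hD.symm)⟩

end Cfsg.Agent.S2146
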