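import Cfsg.Statements.S0799
import Cfsg.Agent.Dickson.Transfer
-- import your own Cfsg.Agent.* helpers here

set_option autoImplicit false
open Cfsg

namespace Cfsg.Agent.S0799

/-- Dickson's classification of the subgroups of PSL_2(q), q a power of the prime p, d = gcd(2, q − 1): every subgroup H is (a) cyclic or dihedral with k dividing (q+1)/d or (q−1)/d (cyclic of order k, or dihedral of order 2k), (b) isomorphic to a subgroup of the normaliser of a Sylow p-subgroup, (c) isomorphic to A_4, S_4 or A_5, or (d) isomorphic to PSL_2(K) or PGL_2(K) for a finite field K with |K|^m = q. -/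
theorem result {F : Type*} [Field F] [Fintype F] {q : ℕ} (hF : Fintype.card F = q) (p : ℕ) [Fact p.Prime] [CharP F p] (H : Subgroup (Matrix.ProjectiveSpecialLinearGroup (Fin 2) F)) : (∃ k : ℕ, (k ∣ (q + 1) / Nat.gcd 2 (q - 1) ∨ k ∣ (q - 1) / Nat.gcd 2 (q - 1)) ∧ ((IsCyclic H ∧ Nat.card H = k) ∨ Nonempty (H ≃* DihedralGroup k))) ∨ (∃ (P : Sylow p (Matrix.ProjectiveSpecialLinearGroup (Fin 2) F)) (K : Subgroup (Matrix.ProjectiveSpecialLinearGroup (Fin 2) F)), K ≤ Subgroup.normalizer ((P : Subgroup (Matrix.ProjectiveSpecialLinearGroup (Fin 2) F)) : Set (Matrix.ProjectiveSpecialLinearGroup (Fin 2) F)) ∧ Nonempty (H ≃* K)) ∨ Nonempty (H ≃* alternatingGroup (Fin 4)) ∨ Nonempty (H ≃* Equiv.Perm (Fin 4)) ∨ Nonempty (H ≃* alternatingGroup (Fin 5)) ∨ (∃ (K : Type) (_ : Field K) (_ : Fintype K) (m : ℕ), Fintype.card K ^ m = q ∧ (Nonempty (H ≃* Matrix.ProjectiveSpecialLinearGroup (Fin 2) K) ∨ Nonempty (H ≃* Matrix.ProjGenLinGroup (Fin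 2) K))) := by
  have hq : Nat.card F = q := by rw [Nat.card_eq_fintype_card, hF]
  subst hq
  rcases CfsgLib.Dickson.psl_classification p H with ⟨P, -, h⟩ | ⟨hc, -, hk⟩ |
    ⟨n, -, -, hn, -, hd⟩ | ⟨-, -, h⟩ | ⟨-, -, h⟩ | ⟨-, -, -, h⟩ | ⟨f, m, hf, -, hm, h⟩
  · exact Or.inr (Or.inl ⟨P, H, h, ⟨MulEquiv.refl H⟩⟩)
  · exact Or.inl ⟨_, hk.symm, Or.inl ⟨hc, rfl⟩⟩
  · exact Or.inl ⟨n, hn.symm, Or.inr hd⟩
  · exact Or.inr (Or.inr (Or.inl h))
  · exact Or.inr (Or.inr (Or.inr (Or.inl h)))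
  · exact Or.inr (Or.inr (Or.inr (Or.inr (Or.inl h))))
  · refine Or.inr (Or.inr (Or.inr (Or.inr (Or.inr ⟨GaloisField p f, inferInstance,
      Fintype.ofFinite _, m, ?_, ?_⟩))))
    · let _ : Fintype (GaloisField p f) := Fintype.ofFinite _
      rw [hm]; congr 1
      exact (@Nat.card_eq_fintype_card (GaloisField p f) (Fintype.ofFinite _)).symm.trans (GaloisField.card p f (by omega))
    · rcases h with h | ⟨-, h⟩
      · exact Or.inr h
      · exact Or.inl h

end Cfsg.Agent.S0799
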