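import Cfsg.Statements.S3214
import Cfsg.Agent.TwoNilCent.RankTwo
import Cfsg.Agent.TwoNilCent.RankThree
import Cfsg.Agent.CITGroups.Final
import Cfsg.Agent.OneComp.Lists

set_option autoImplicit false
open Cfsg

namespace Cfsg.Agent.S3214

/-- Let G be a finite non-abelian simple group in which the centralizer of every involution has a normal 2-complement. Then G is isomorphic to PSL₂(q) for some prime power q > 3, to a Suzuki group Sz(2ⁿ) with n ≥ 3 odd, to the alternating group A₇, or to PSL₃(4). -/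
theorem result {G : Type*} [Group G] [Finite G] [IsSimpleGroup G]
    (hG : ¬ IsMulCommutative G)
    (hI : ∀ t : G, orderOf t = 2 → Cfsg.HasNormalPComplement 2 ↥(Subgroup.centralizer ({t} : Set G))) :
    (∃ (F : Type) (_ : Field F) (_ : Fintype F), 3 < Fintype.card F ∧
        Nonempty (G ≃* Matrix.ProjectiveSpecialLinearGroup (Fin 2) F)) ∨
      Cfsg.Lie.IsoSuzuki G ∨ Nonempty (G ≃* ↥(alternatingGroup (Fin 7))) ∨
      (∃ (F : Type) (_ : Field F) (_ : Fintype F), Fintype.card F = 4 ∧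
        Nonempty (G ≃* Matrix.ProjectiveSpecialLinearGroup (Fin 3) F)) := by
  have hns : ¬ Group.IsSolvable G := fun h =>
    hG ⟨⟨IsSimpleGroup.comm_iff_isSolvable.2 h⟩⟩
  obtain ⟨t, ht⟩ : ∃ t : G, orderOf t = 2 := by
    haveI : Fact (Nat.Prime 2) := ⟨Nat.prime_two⟩
    refine exists_prime_orderOf_dvd_card' 2 (by_contra fun h => hns ?_)
    exact CfsgLib.OddEnd.odd_solvable _ (Nat.not_even_iff_odd.1 fun he => h (even_iff_two_dvd.1 he))
  by_cases h2 : Cfsg.PRankLE 2 2 G
  · rcases CfsgLib.TwoNilCent.rank_two hG hI h2 ht with h | h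
    · exact Or.inl h
    · exact Or.inr (Or.inr (Or.inl h))
  rcases CfsgLib.CIT.simple_cit (CfsgLib.TwoNilCent.isCIT hG hI h2) hns with
    ⟨F, iF, iFt, -, ⟨e⟩⟩ | h | h
  · refine Or.inl ⟨F, iF, iFt, ?_, ⟨e⟩⟩
    by_contra hle
    exact hns (CfsgLib.OneComp.card_psl_small e (by omega))
  · exact Or.inr (Or.inr (Or.inr h))
  · exact Or.inr (Or.inl h)

end Cfsg.Agent.S3214
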