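import Cfsg.Statements.S0042
import Cfsg.Agent.FGSA.ThompsonNil
import Cfsg.Agent.Char.FrobeniusKernel

set_option autoImplicit false
open Cfsg
open scoped Pointwise

namespace Cfsg.Agent.S0042

/-- In a finite Frobenius group, the Frobenius kernel is (the carrier of) a normal subgroup which is nilpotent. -/
theorem result {G : Type*} [Group G] [Finite G] (H : Subgroup G) (hH : Cfsg.IsFrobeniusComplement H) :
    ∃ N : Subgroup G, (N : Set G) = Cfsg.frobeniusKernel H ∧ N.Normal ∧ Group.IsNilpotent N := by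
  have hTI : ∀ g : G, g ∉ H → ∀ h ∈ H, g * h * g⁻¹ ∈ H → h = 1 := by
    intro g hg h hh hgh
    have h1 : g * h * g⁻¹ ∈ H ⊓ MulAut.conj g • H :=
      ⟨hgh, Subgroup.smul_mem_pointwise_smul h (MulAut.conj g) H hh⟩
    rw [hH.2.2 g hg, Subgroup.mem_bot, conj_eq_one_iff] at h1
    exact h1
  obtain ⟨K, hKn, hKH, -, -, hK⟩ := CfsgLib.Char.exists_frobenius_kernel H hTI
  refine ⟨K, ?_, hKn, ?_⟩
  · ext g
    rw [SetLike.mem_coe, hK]
    refine or_congr Iff.rfl (forall_congr' fun x => not_congr ?_)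
    rw [Subgroup.mem_pointwise_smul_iff_inv_smul_mem]
    simp
  haveI := hKn
  obtain ⟨h, hh⟩ := (Subgroup.bot_or_exists_ne_one H).resolve_left hH.1
  have : orderOf (h : G) ≠ 1 := fun e => hh.2 (orderOf_eq_one_iff.1 e)
  obtain ⟨r, hr, hrd⟩ := Nat.exists_prime_and_dvd this
  obtain ⟨a, haH, har⟩ : ∃ a ∈ H, orderOf a = r := by
    refine ⟨h ^ (orderOf h / r), pow_mem hh.1 _, orderOf_pow_orderOf_div (orderOf_pos h).ne' hrd⟩
  refine CfsgLib.ThompsonNil.isNilpotent hr (MulAut.conjNormal a) ?_ fun k hk => ?_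
  · rw [← map_pow, ← har, pow_orderOf_eq_one, map_one]
  · have hk' : a * (k : G) * a⁻¹ = k := by
      simpa using congrArg Subtype.val hk
    by_contra hk1
    have hkH : (k : G) ∉ H := fun hmem => hk1 (Subtype.ext
      (Subgroup.mem_bot.1 (hKH ▸ (⟨k.2, hmem⟩ : (k : G) ∈ K ⊓ H))))
    have hka : (k : G) * a * (k : G)⁻¹ = a :=
      mul_inv_eq_iff_eq_mul.2 (mul_inv_eq_iff_eq_mul.1 hk').symm
    have ha1 : a = 1 := hTI k hkH a haH (by rw [hka]; exact haH)
    rw [ha1, orderOf_one] at har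
    exact hr.one_lt.ne har

end Cfsg.Agent.S0042
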