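import Cfsg.Statements.S4249
import Cfsg.Agent.FGSA.KegelSplitting
import Cfsg.Agent.Frobenius.Fpf
import Mathlib.GroupTheory.Nilpotent

set_option autoImplicit false
set_option linter.style.haveILetI false
open Cfsg

namespace Cfsg.Agent.S4249

theorem inf_center_ne_bot {K : Type*} [Group K] [Group.IsNilpotent K] (N : Subgroup K) [N.Normal]
    (hN : N ≠ ⊥) : N ⊓ Subgroup.center K ≠ ⊥ := by
  classical
  intro hbot
  apply hN
  obtain ⟨n, hn⟩ := Group.IsNilpotent.nilpotent K
  have key : ∀ i, N ⊓ Subgroup.upperCentralSeries K i = ⊥ := by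
    intro i
    induction i with
    | zero => simp
    | succ i ih =>
      rw [eq_bot_iff]
      rintro y ⟨hyN, hyZ⟩
      rw [← hbot]
      refine ⟨hyN, Subgroup.mem_center_iff.2 fun g => ?_⟩
      have h1 : y * g * y⁻¹ * g⁻¹ ∈ N ⊓ Subgroup.upperCentralSeries K i := by
        refine ⟨?_, Subgroup.mem_upperCentralSeries_succ_iff.1 hyZ g⟩
        have := mul_mem hyN (Subgroup.Normal.conj_mem ‹_› _ (inv_mem hyN) g)
        simpa [mul_assoc] using this
      rw [ih, Subgroup.mem_bot, mul_inv_eq_one, mul_inv_eq_iff_eq_mul] at h1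
      exact h1.symm
  rw [← key n, hn, inf_top_eq]

/-- Let G be a finite group and p a prime such that G is not a p-group, and suppose the Hughes subgroup H_p(G), generated by all elements g with g^p ≠ 1, is a proper subgroup. Then H_p(G) is nilpotent and has index p in G. -/
theorem result {G : Type*} [Group G] [Finite G] (p : ℕ) (hp : p.Prime) (hG : ¬ IsPGroup p G)
    (hH : Subgroup.closure {g : G | g ^ p ≠ 1} ≠ ⊤) :
    Group.IsNilpotent (Subgroup.closure {g : G | g ^ p ≠ 1}) ∧ (Subgroup.closure {g : G | g ^ p ≠ 1}).index = p := by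
  classical
  haveI := Fact.mk hp
  set H := Subgroup.closure {g : G | g ^ p ≠ 1} with hHdef
  have hout : ∀ x, x ∉ H → x ^ p = 1 := fun x hx => by
    by_contra hne; exact hx (Subgroup.subset_closure hne)
  haveI hHn : H.Normal := by
    refine ⟨fun n hn g => ?_⟩
    have hle : H ≤ H.comap (MulAut.conj g).toMonoidHom := (Subgroup.closure_le _).2 fun y hy => by
      refine Subgroup.subset_closure ?_
      show (g * y * g⁻¹) ^ p ≠ 1
      rw [conj_pow]
      intro e
      apply hy
      have := congrArg (fun w => g⁻¹ * w * g) e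
      simpa [mul_assoc] using this
    exact hle hn
  obtain ⟨x, hx⟩ : ∃ x, x ∉ H := by
    by_contra! hall; exact hH ((Subgroup.eq_top_iff' H).2 hall)
  -- nilpotency from Kegel's theorem
  let c : MulAut H := MulAut.conjNormal x
  have hc : c ^ p = 1 := by rw [← map_pow, hout x hx, map_one]
  have hnil : Group.IsNilpotent H := by
    refine CfsgLib.KegelSplit.isNilpotent hp c hc fun h => ?_
    have key : ∀ n : ℕ, ((h : G) * x) ^ n =
        ((((List.range n).map fun i : ℕ => (c ^ i) h).prod : H) : G) * x ^ n := by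
      intro n
      induction n with
      | zero => simp
      | succ n ih =>
        rw [pow_succ, ih, List.range_succ, List.map_append, List.prod_append, List.map_singleton,
          List.prod_singleton, Subgroup.coe_mul, ← map_pow, MulAut.conjNormal_apply, pow_succ x n]
        group
    have hhx : (h : G) * x ∉ H := fun hm => hx (by simpa using mul_mem (inv_mem h.2) hm)
    have h1 := key p
    rw [hout _ hhx, hout x hx, mul_one] at h1
    exact Subtype.ext h1.symm
  refine ⟨hnil, ?_⟩
  -- a prime different from `p` dividing `|H|`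
  obtain ⟨q, hq, hqp, hqH⟩ : ∃ q, q.Prime ∧ q ≠ p ∧ q ∣ Nat.card H := by
    by_contra! hcon
    apply hG
    intro g
    by_cases hg : g ∈ H
    · have hPH : IsPGroup p H := IsPGroup.of_card (n := (Nat.card H).primeFactorsList.length)
        (Nat.eq_prime_pow_of_unique_prime_dvd Nat.card_pos.ne' fun {q} hq hqd => by
          by_contra hne; exact hcon q hq hne hqd)
      obtain ⟨k, hk⟩ := hPH ⟨g, hg⟩
      exact ⟨k, congrArg Subtype.val hk⟩
    · exact ⟨1, by rw [pow_one]; exact hout g hg⟩
  haveI := Fact.mk hq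
  haveI := hnil
  -- a nontrivial normal `q`-subgroup of `G` inside the centre of `H`
  obtain ⟨z, hz⟩ : ∃ z : Subgroup.center H, orderOf z = q := by
    obtain ⟨Q⟩ := (inferInstance : Nonempty (Sylow q H))
    haveI hQn : (Q : Subgroup H).Normal :=
      (Group.isNilpotent_of_finite_tfae.out 0 3 rfl rfl).mp hnil q ⟨hq⟩ Q
    haveI : Nontrivial (Q : Subgroup H) := (Subgroup.nontrivial_iff_ne_bot _).2 (Q.ne_bot_of_dvd_card hqH)
    -- a normal subgroup of a nilpotent group meets the centre
    have hne : (Q : Subgroup H) ⊓ Subgroup.center H ≠ ⊥ :=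
      Cfsg.Agent.S4249.inf_center_ne_bot _ (Q.ne_bot_of_dvd_card hqH)
    haveI : Nontrivial ((Q : Subgroup H) ⊓ Subgroup.center H : Subgroup H) :=
      (Subgroup.nontrivial_iff_ne_bot _).2 hne
    have hp' : IsPGroup q ((Q : Subgroup H) ⊓ Subgroup.center H : Subgroup H) := Q.2.to_le inf_le_left
    have hd : q ∣ Nat.card (Subgroup.center H) := by
      obtain ⟨n, hn0, hn⟩ := hp'.nontrivial_iff_card.1 inferInstance
      exact (dvd_pow_self q hn0.ne').trans (hn ▸ Subgroup.card_dvd_of_le inf_le_right)
    exact exists_prime_orderOf_dvd_card' q hd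
  let K : Subgroup G := (Subgroup.center H).map H.subtype
  haveI : Nontrivial K := by
    refine ⟨⟨⟨((z : H) : G), z, z.2, rfl⟩, 1, fun e => ?_⟩⟩
    have : z = 1 := Subtype.ext (Subtype.ext (congrArg (fun t : K => (t : G)) e))
    rw [this, orderOf_one] at hz
    exact hq.one_lt.ne hz
  haveI : K.Normal := by
    refine ⟨fun k hk g => ?_⟩
    obtain ⟨w, hw, rfl⟩ := hk
    refine ⟨⟨g * w * g⁻¹, hHn.conj_mem _ w.2 g⟩, ?_, rfl⟩
    rw [SetLike.mem_coe, Subgroup.mem_center_iff]
    intro t
    have h1 := Subgroup.mem_center_iff.1 hw ⟨g⁻¹ * t * g, by simpa using hHn.conj_mem _ t.2 g⁻¹⟩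
    have h2 : g⁻¹ * t * g * w = w * (g⁻¹ * t * g) := congrArg Subtype.val h1
    apply Subtype.ext
    show (t : G) * (g * w * g⁻¹) = g * w * g⁻¹ * t
    calc (t : G) * (g * w * g⁻¹) = g * (g⁻¹ * t * g * w) * g⁻¹ := by group
      _ = g * (w * (g⁻¹ * t * g)) * g⁻¹ := by rw [h2]
      _ = g * w * g⁻¹ * t := by group
  -- the action of the quotient on the q-part of the centre
  let A : Subgroup K := Subgroup.closure {k : K | k ^ q = 1}
  let φ : (G ⧸ H) →* MulAut K := QuotientGroup.lift H MulAut.conjNormal (fun h hh => by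
    rw [MonoidHom.mem_ker]
    ext k
    obtain ⟨w, hw, hwk⟩ := k.2
    show h * (k : G) * h⁻¹ = k
    have h1 : h * (w : G) = w * h := congrArg Subtype.val (Subgroup.mem_center_iff.1 hw ⟨h, hh⟩)
    rw [← hwk]
    show h * (w : G) * h⁻¹ = w
    rw [h1, mul_inv_cancel_right])
  have hAinv : ∀ e, ∀ a ∈ A, φ e a ∈ A := by
    intro e a ha
    have hle : A ≤ A.comap (φ e).toMonoidHom := (Subgroup.closure_le _).2 fun y hy => by
      refine Subgroup.subset_closure ?_
      show (φ e y) ^ q = 1
      rw [← map_pow, show y ^ q = 1 from hy, map_one]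
    exact hle ha
  have hAq : ∀ a ∈ A, a ^ q = 1 := by
    intro a ha
    induction ha using Subgroup.closure_induction with
    | mem y hy => exact hy
    | one => exact one_pow q
    | mul y w _ _ hy hw =>
      have hc' : Commute y w := by
        obtain ⟨u, hu, huy⟩ := y.2
        obtain ⟨v, hv, hvw⟩ := w.2
        apply Subtype.ext
        show (y : G) * w = w * y
        rw [← huy, ← hvw]
        exact congrArg Subtype.val (Subgroup.mem_center_iff.1 hv u)
      rw [hc'.mul_pow, hy, hw, one_mul]
    | inv y _ hy => rw [inv_pow, hy, inv_one]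
  haveI : Nontrivial A := by
    refine ⟨⟨⟨⟨((z : H) : G), z, z.2, rfl⟩, Subgroup.subset_closure ?_⟩, 1, fun e => ?_⟩⟩
    · apply Subtype.ext
      show ((z : H) : G) ^ q = 1
      rw [← hz]
      exact congrArg (fun t : Subgroup.center H => ((t : H) : G)) (pow_orderOf_eq_one z)
    · have : z = 1 := Subtype.ext (Subtype.ext (congrArg (fun t : A => ((t : K) : G)) e))
      rw [this, orderOf_one] at hz
      exact hq.one_lt.ne hz
  let ψ := CfsgLib.Frobenius.restrictAut φ A hAinv
  have hfpf : CfsgLib.Frobenius.IsFpf ψ := by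
    intro e he a ha
    induction e using QuotientGroup.induction_on with
    | H g =>
      have hg : g ∉ H := fun hm => he ((QuotientGroup.eq_one_iff g).2 hm)
      have hcomm : g * ((a : K) : G) * g⁻¹ = ((a : K) : G) :=
        congrArg (fun t : A => ((t : K) : G)) ha
      have haH : ((a : K) : G) ∈ H := by
        obtain ⟨w, -, hwk⟩ := (a : K).2
        rw [← hwk]; exact w.2
      have hga : g * ((a : K) : G) ∉ H := fun hm => hg (by simpa using mul_mem hm (inv_mem haH))
      have h1 : (g * ((a : K) : G)) ^ p = 1 := hout _ hga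
      rw [Commute.mul_pow (mul_inv_eq_iff_eq_mul.1 hcomm : Commute g ((a : K) : G)), hout g hg, one_mul] at h1
      have h2 : ((a : K) : G) ^ q = 1 := congrArg Subtype.val (hAq _ a.2)
      have h3 : orderOf ((a : K) : G) = 1 := Nat.eq_one_of_dvd_coprimes
        ((Nat.coprime_primes hp hq).2 (Ne.symm hqp)) (orderOf_dvd_of_pow_eq_one h1) (orderOf_dvd_of_pow_eq_one h2)
      exact Subtype.ext (Subtype.ext (orderOf_eq_one_iff.1 h3))
  -- the quotient has exponent `p` and is therefore of order `p`
  have hE : ∀ e : G ⧸ H, e ^ p = 1 := by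
    intro e
    induction e using QuotientGroup.induction_on with
    | H g =>
      by_cases hg : g ∈ H
      · rw [(QuotientGroup.eq_one_iff g).2 hg, one_pow]
      · rw [← QuotientGroup.mk_pow, hout g hg]; rfl
  have hEp : IsPGroup p (G ⧸ H) := fun e => ⟨1, by rw [pow_one]; exact hE e⟩
  haveI : Nontrivial (G ⧸ H) := ⟨⟨(x : G ⧸ H), 1, fun e => hx ((QuotientGroup.eq_one_iff x).1 e)⟩⟩
  haveI := hEp.center_nontrivial
  obtain ⟨w, hw⟩ := exists_ne (1 : Subgroup.center (G ⧸ H))
  have hw1 : (w : G ⧸ H) ≠ 1 := fun e => hw (Subtype.ext e)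
  have hall : ∀ e : G ⧸ H, e ∈ Subgroup.zpowers (w : G ⧸ H) := by
    intro e
    let S := Subgroup.zpowers (w : G ⧸ H) ⊔ Subgroup.zpowers e
    have hSle : S ≤ Subgroup.centralizer ({e} : Set (G ⧸ H)) := sup_le
      (Subgroup.zpowers_le.2 (Subgroup.mem_centralizer_singleton_iff.2 (Subgroup.mem_center_iff.1 w.2 e).symm))
      (Subgroup.zpowers_le.2 (Subgroup.mem_centralizer_singleton_iff.2 rfl))
    have hScomm : ∀ a b : S, a * b = b * a := by
      have hle : S ≤ Subgroup.centralizer (S : Set (G ⧸ H)) := sup_le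
        (Subgroup.zpowers_le.2 (Subgroup.center_le_centralizer _ w.2))
        (Subgroup.zpowers_le.2 (Subgroup.mem_centralizer_iff.2 fun u hu =>
          (Subgroup.mem_centralizer_singleton_iff.1 (hSle hu))))
      intro a b
      exact Subtype.ext ((Subgroup.mem_centralizer_iff.1 (hle b.2)) a a.2)
    haveI : IsCyclic S := (hfpf.comp S.subtype Subtype.val_injective).isCyclic_of_comm hScomm
    obtain ⟨gen, hgen⟩ := IsCyclic.exists_generator (α := S)
    have hS : Nat.card S ≤ p := by
      rw [← orderOf_eq_card_of_forall_mem_zpowers hgen]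
      exact Nat.le_of_dvd hp.pos (orderOf_dvd_of_pow_eq_one (Subtype.ext (hE gen)))
    have heq : Subgroup.zpowers (w : G ⧸ H) = S := by
      refine Subgroup.eq_of_le_of_card_ge le_sup_left ?_
      rw [Nat.card_zpowers, orderOf_eq_prime (hE _) hw1]
      exact hS
    rw [heq]
    exact Subgroup.mem_sup_right (Subgroup.mem_zpowers e)
  rw [Subgroup.index_eq_card, ← orderOf_eq_card_of_forall_mem_zpowers hall, orderOf_eq_prime (hE _) hw1]

end Cfsg.Agent.S4249
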