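import Cfsg.Statements.S1258
import Cfsg.Agent.Comp.Basic
-- import your own Cfsg.Agent.* helpers here

set_option autoImplicit false
open Cfsg
open scoped commutatorElement

namespace Cfsg.Agent.S1258

/-- If the central quotient of a finite group X is non-abelian simple, then X = X' Z(X) and the commutator subgroup X' is quasisimple. -/
theorem result {X : Type*} [Group X] [Finite X] (hs : IsSimpleGroup (X ⧸ Subgroup.center X)) (hna : ¬ IsMulCommutative (X ⧸ Subgroup.center X)) : commutator X ⊔ Subgroup.center X = ⊤ ∧ Cfsg.IsQuasisimple ↥(commutator X) := by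
  classical
  have hder : ∀ H : Subgroup X, H.Normal → H = commutator X → H ⊔ Subgroup.center X = ⊤ := by
    intro H hHn hH
    haveI := hHn
    haveI := hs
    rcases Subgroup.Normal.eq_bot_or_eq_top
      (hHn.map (QuotientGroup.mk' (Subgroup.center X)) (QuotientGroup.mk'_surjective _))
      with h | h
    · exfalso
      rw [Subgroup.map_eq_bot_iff, QuotientGroup.ker_mk', hH] at h
      exact hna (Subgroup.Normal.quotient_commutative_iff_commutator_le.mpr h)
    · have := congrArg (Subgroup.comap (QuotientGroup.mk' (Subgroup.center X))) h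
      rwa [Subgroup.comap_map_eq, QuotientGroup.ker_mk', Subgroup.comap_top] at this
  have hsup := hder (commutator X) inferInstance rfl
  refine ⟨hsup, ?_⟩
  have hpm : ⁅commutator X, commutator X⁆ = commutator X := by
    refine le_antisymm (Subgroup.commutator_le_self _) ?_
    rw [commutator_def, Subgroup.commutator_le]
    intro a _ b _
    have ha : a ∈ commutator X ⊔ Subgroup.center X := hsup ▸ Subgroup.mem_top a
    have hb : b ∈ commutator X ⊔ Subgroup.center X := hsup ▸ Subgroup.mem_top b
    obtain ⟨u, hu, z, hz, rfl⟩ := Subgroup.mem_sup_of_normal_right.mp ha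
    obtain ⟨v, hv, w, hw, rfl⟩ := Subgroup.mem_sup_of_normal_right.mp hb
    have hz' := Subgroup.mem_center_iff.mp hz
    have hw' := Subgroup.mem_center_iff.mp hw
    have : ⁅u * z, v * w⁆ = ⁅u, v⁆ := by
      simp only [commutatorElement_def, mul_inv_rev]
      calc u * z * (v * w) * (z⁻¹ * u⁻¹) * (w⁻¹ * v⁻¹)
          = u * (z * (v * w)) * z⁻¹ * u⁻¹ * (w⁻¹ * v⁻¹) := by simp only [mul_assoc]
        _ = u * v * (w * u⁻¹) * w⁻¹ * v⁻¹ := by rw [← hz' (v * w)]; simp [mul_assoc]
        _ = u * v * u⁻¹ * v⁻¹ := by rw [← hw' u⁻¹]; simp [mul_assoc]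
    rw [this]
    exact Subgroup.commutator_mem_commutator hu hv
  refine ⟨Subgroup.isPerfect_iff.mpr hpm, ?_⟩
  have hf : Function.Surjective
      ((QuotientGroup.mk' (Subgroup.center X)).comp (commutator X).subtype) := by
    intro q
    obtain ⟨x, rfl⟩ := QuotientGroup.mk'_surjective _ q
    have hx : x ∈ commutator X ⊔ Subgroup.center X := hsup ▸ Subgroup.mem_top x
    obtain ⟨u, hu, z, hz, rfl⟩ := Subgroup.mem_sup_of_normal_right.mp hx
    refine ⟨⟨u, hu⟩, ?_⟩
    simp [(QuotientGroup.eq_one_iff z).mpr hz]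
  have hker : ((QuotientGroup.mk' (Subgroup.center X)).comp (commutator X).subtype).ker =
      Subgroup.center (commutator X) := by
    ext c
    rw [MonoidHom.mem_ker, MonoidHom.comp_apply, QuotientGroup.mk'_apply, QuotientGroup.eq_one_iff]
    refine ⟨fun hc => Subgroup.mem_center_iff.mpr fun g => Subtype.ext
      (Subgroup.mem_center_iff.mp hc g), fun hc => Subgroup.mem_center_iff.mpr fun g => ?_⟩
    have hg : g ∈ commutator X ⊔ Subgroup.center X := hsup ▸ Subgroup.mem_top g
    obtain ⟨u, hu, z, hz, rfl⟩ := Subgroup.mem_sup_of_normal_right.mp hg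
    have h1 : u * (c : X) = c * u :=
      congrArg Subtype.val (Subgroup.mem_center_iff.mp hc ⟨u, hu⟩)
    have h2 := Subgroup.mem_center_iff.mp hz (c : X)
    show u * z * (c : X) = c * (u * z)
    rw [mul_assoc, ← h2, ← mul_assoc, h1, mul_assoc]
  exact (((QuotientGroup.quotientMulEquivOfEq hker).symm.trans
    (QuotientGroup.quotientKerEquivOfSurjective _ hf))).isSimpleGroup_congr.mpr hs

end Cfsg.Agent.S1258
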