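import Cfsg.Statements.S3958
import Cfsg.Agent.Schur.Pullback

set_option autoImplicit false
universe u v
open Cfsg

namespace Cfsg.Agent.S3958

/-- Let `σ : Γ →* Q` be a finite stem extension of the finite group `Q` with `Γ` of trivial Schur multiplier. Then `σ` is a Schur covering group of `Q`: for every finite stem extension `τ : Δ →* Q` with `Δ` in the same universe as `Q`, the kernel of `τ` is a homomorphic image of the kernel of `σ`. -/
theorem result {Q : Type u} [Group Q] [Finite Q] {Γ : Type v} [Group Γ] [Finite Γ] (σ : Γ →* Q) (hσ : Cfsg.IsStemExtension σ) (hΓ : Cfsg.HasCyclicSchurMultiplier Γ 1) (Δ : Type u) [Group Δ] [Finite Δ] (τ : Δ →* Q) (hτ : Cfsg.IsStemExtension τ) : ∃ π : σ.ker →* τ.ker, Function.Surjective π := by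
  open Subgroup CfsgLib.Schur in
  refine exists_surjection_ker hσ hτ fun e he h1 => ?_
  obtain ⟨eq⟩ := CfsgLib.Schur.equiv_mult Γ hΓ
  haveI : Subsingleton (Multiplicative (ZMod 1)) := Multiplicative.toAdd.injective.subsingleton
  haveI : Subsingleton ↥(CfsgLib.Schur.mult Γ) := eq.symm.toEquiv.subsingleton
  have hs := CfsgLib.Schur.pfst_surjective σ τ hτ.1
  have hc := CfsgLib.Schur.pfst_ker_le_center σ τ hτ.2.1
  obtain ⟨ψ, hψ⟩ := CfsgLib.Schur.exists_hom Γ _ hs hc
  obtain ⟨m, hm, hme⟩ := (CfsgLib.Schur.map_mult Γ _ hc ψ hψ).ge ⟨h1, he⟩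
  rw [← hme, show m = 1 from congrArg Subtype.val (Subsingleton.elim (⟨m, hm⟩ : CfsgLib.Schur.mult Γ) 1),
    map_one, map_one]

end Cfsg.Agent.S3958
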