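import Cfsg.Statements.S1001
import Cfsg.Agent.ThreePrimes.SelfCentralizing

set_option autoImplicit false
open Cfsg

namespace Cfsg.Agent.S1001

/-- In a finite simple group whose order has the form p * 3^a * 2^b with p prime, the centralizer of any element of order p is the cyclic group it generates. -/
theorem result {G : Type*} [Group G] [Finite G] [IsSimpleGroup G] (p a b : ℕ) (hp : p.Prime) (hG : Nat.card G = p * 3 ^ a * 2 ^ b) (x : G) (hx : orderOf x = p) : Subgroup.centralizer ({x} : Set G) = Subgroup.zpowers x := by
  have hS : Nat.card (Subgroup.zpowers x) = p := by rw [Nat.card_zpowers, hx]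
  have hcent : Subgroup.centralizer ({x} : Set G) = Subgroup.centralizer ((Subgroup.zpowers x : Subgroup G) : Set G) := by
    rw [Subgroup.zpowers_eq_closure, Subgroup.centralizer_closure]
  by_cases h3 : p = 3 ∨ p = 2
  · by_cases hna : IsMulCommutative G
    · refine le_antisymm (fun c _ => ?_) (Subgroup.zpowers_le.2 (Subgroup.mem_centralizer_singleton_iff.2 rfl))
      have hne : Subgroup.zpowers x ≠ ⊥ := by
        rw [Ne, Subgroup.zpowers_eq_bot]
        rintro rfl
        rw [orderOf_one] at hx
        exact hp.one_lt.ne hx
      rcases IsSimpleGroup.eq_bot_or_eq_top_of_normal (Subgroup.zpowers x)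
        ⟨fun n hn g => by rw [hna.is_comm.comm g n, mul_inv_cancel_right]; exact hn⟩ with h | h
      · exact absurd h hne
      · exact h ▸ Subgroup.mem_top c
    · exfalso
      rcases h3 with rfl | rfl
      · exact CfsgLib.ThreePrimes.not_two_primes hna (p := 3) (q := 2) (a := a + 1) (b := b) Nat.prime_three Nat.prime_two
          (by rw [hG]; ring)
      · exact CfsgLib.ThreePrimes.not_two_primes hna (p := 3) (q := 2) (a := a) (b := b + 1) Nat.prime_three Nat.prime_two
          (by rw [hG]; ring)
  · simp only [not_or] at h3
    rw [hcent]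
    exact CfsgLib.ThreePrimes.centralizer_eq_self (p := 3) (q := 2) (r := p) (a := a) (b := b) Nat.prime_three
      Nat.prime_two hp (by norm_num) (Ne.symm h3.1) (Ne.symm h3.2) (by rw [hG]; ring) _ hS

end Cfsg.Agent.S1001
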