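import Cfsg.Statements.S3968
import Cfsg.Agent.Char.Central
import Cfsg.Agent.Char.Burnside
import Cfsg.Agent.Char.Kernel
import Mathlib.RepresentationTheory.Character

set_option autoImplicit false
open Cfsg

namespace Cfsg.Agent.S3968

/-- Let `p` be a prime and `G` a finite group with a faithful irreducible complex character of degree `p` (so `G` is an irreducible linear group in `p` variables). If `p ^ 2` divides the order of `G`, then the centre of `G` is nontrivial. -/
theorem result {G : Type*} [Group G] [Finite G] (p : ℕ) (hp : p.Prime) (χ : Cfsg.IrrCharacter G) (hdeg : χ.1 1 = p) (hfaith : ∀ g : G, χ.1 g = χ.1 1 → g = 1) (hdiv : p ^ 2 ∣ Nat.card G) : Subgroup.center G ≠ ⊥ := by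
  classical
  intro hZ
  haveI := Fact.mk hp
  obtain ⟨n, ρ, hρ, hρχ⟩ := χ.2
  rw [← hρχ] at hdeg hfaith
  haveI := hρ
  have hn : (Module.finrank ℂ (Fin n → ℂ) : ℂ) = p := by rw [← ρ.char_one]; exact hdeg
  have hfr : Module.finrank ℂ (Fin n → ℂ) = p := by exact_mod_cast hn
  -- only the identity acts by a scalar
  have hscalar : ∀ g : G, ‖ρ.character g‖ = (p : ℝ) → g = 1 := by
    intro g hg
    obtain ⟨ω, hω⟩ := (CfsgLib.Char.norm_character_eq_iff ρ g).1 (by rw [hfr]; exact hg)
    rw [← Subgroup.mem_bot, ← hZ, Subgroup.mem_center_iff]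
    intro h
    have hcomm : ρ (h * g) = ρ (g * h) := LinearMap.ext fun w => by simp [map_mul, hω]
    have h1 : ρ ((g * h)⁻¹ * (h * g)) = 1 := by
      rw [map_mul, hcomm, ← map_mul, inv_mul_cancel, map_one]
    have h2 : ρ.character ((g * h)⁻¹ * (h * g)) = ρ.character 1 := by
      simp only [Representation.character, h1, map_one]
    exact (inv_mul_eq_one.1 (hfaith _ h2)).symm
  obtain ⟨P⟩ : Nonempty (Sylow p G) := inferInstance
  have hpP : p ^ 2 ≤ Nat.card (P : Subgroup G) := by
    rw [P.card_eq_multiplicity]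
    exact Nat.pow_le_pow_right hp.pos ((hp.pow_dvd_iff_le_factorization Nat.card_pos.ne').1 hdiv)
  -- vanishing on the centre of P
  have hvan : ∀ z : (P : Subgroup G), z ∈ Subgroup.center (P : Subgroup G) → z ≠ 1 →
      ρ.character (z : G) = 0 := by
    intro z hz hz1
    have hidx : ¬ p ∣ (Subgroup.centralizer ({(z : G)} : Set G)).index := fun hd =>
      P.not_dvd_index (hd.trans (Subgroup.index_dvd_of_le fun y hy =>
        Subgroup.mem_centralizer_singleton_iff.2 (congrArg Subtype.val (Subgroup.mem_center_iff.1 hz ⟨y, hy⟩))))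
    rcases CfsgLib.Char.char_eq_zero_or_norm_eq ρ (z : G)
        (by rw [hfr]; exact (Nat.Prime.coprime_iff_not_dvd hp).2 hidx) with h | h
    · exact h
    · exact absurd (Subtype.ext (hscalar _ (by rw [h, hfr]))) hz1
  set ψ : ↥(P : Subgroup G) → ℂ := fun x => ρ.character (x : G)
  have hψ : Cfsg.IsCharacter (P : Subgroup G) ψ :=
    CfsgLib.Char.IsCharacter.restrict (CfsgLib.Char.isCharacter_character ρ) _
  by_cases hab : ∀ a b : (P : Subgroup G), a * b = b * a
  · -- the average of the character over P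
    haveI : Fintype (P : Subgroup G) := Fintype.ofFinite _
    have hsum : ∑ x : (P : Subgroup G), ψ x = p := by
      rw [Finset.sum_eq_single (1 : (P : Subgroup G)) (fun x _ hx => hvan x
        (Subgroup.mem_center_iff.2 fun y => hab y x) hx) (by simp)]
      exact hdeg
    obtain ⟨m, σ, hσ⟩ := hψ
    haveI : Invertible (Nat.card (P : Subgroup G) : ℂ) := invertibleOfNonzero (by
      exact_mod_cast Nat.card_pos.ne')
    have h1 := FDRep.average_char_eq_finrank_invariants (FDRep.of σ)
    have e : ∀ x, (FDRep.of σ).character x = ψ x := fun x => by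
      rw [← hσ]; rfl
    simp only [e, hsum] at h1
    rw [inv_mul_eq_iff_eq_mul₀ (by exact_mod_cast Nat.card_pos.ne')] at h1
    obtain ⟨r, hr⟩ : ∃ r : ℕ, (p : ℂ) = (Nat.card (P : Subgroup G) : ℂ) * r := ⟨_, h1⟩
    have h2 : p = Nat.card (P : Subgroup G) * r := by exact_mod_cast hr
    have h3 := Nat.le_of_dvd hp.pos (Dvd.intro _ h2.symm)
    nlinarith [hp.two_le]
  · -- a constituent of degree p
    have key : ∀ φ : ↥(P : Subgroup G) → ℂ, Cfsg.IsCharacter (P : Subgroup G) φ →
        (∀ a b : (P : Subgroup G), φ (a * b * a⁻¹ * b⁻¹) = φ 1) ∨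
        ∃ θ, Cfsg.IsIrrCharacter (P : Subgroup G) θ ∧ θ 1 ≠ 1 ∧
          Cfsg.IsCharacter (P : Subgroup G) (φ - θ) := by
      intro φ hφ
      refine CfsgLib.Char.IsCharacter.induction_irr
        (P := fun φ => Cfsg.IsCharacter (P : Subgroup G) φ ∧
          ((∀ a b : (P : Subgroup G), φ (a * b * a⁻¹ * b⁻¹) = φ 1) ∨
          ∃ θ, Cfsg.IsIrrCharacter (P : Subgroup G) θ ∧ θ 1 ≠ 1 ∧
            Cfsg.IsCharacter (P : Subgroup G) (φ - θ))) ?_ ?_ ?_ hφ |>.2
      · exact ⟨CfsgLib.Char.isCharacter_zero, Or.inl fun _ _ => rfl⟩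
      · rintro φ₁ φ₂ ⟨hc₁, h₁⟩ ⟨hc₂, h₂⟩
        refine ⟨CfsgLib.Char.IsCharacter.add hc₁ hc₂, ?_⟩
        rcases h₁ with h₁ | ⟨θ, h₁, h₁', h₁''⟩
        · rcases h₂ with h₂ | ⟨θ, h₂, h₂', h₂''⟩
          · exact Or.inl fun a b => by simp only [Pi.add_apply, h₁ a b, h₂ a b]
          · refine Or.inr ⟨θ, h₂, h₂', ?_⟩
            rw [add_sub_assoc]
            exact CfsgLib.Char.IsCharacter.add hc₁ h₂''
        · refine Or.inr ⟨θ, h₁, h₁', ?_⟩
          rw [add_sub_right_comm]
          exact CfsgLib.Char.IsCharacter.add h₁'' hc₂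
      · intro θ hθ
        refine ⟨CfsgLib.Char.IsIrrCharacter.isCharacter hθ, ?_⟩
        by_cases h1 : θ 1 = 1
        · obtain ⟨m, σ, hσ', rfl⟩ := hθ
          have hm : Module.finrank ℂ (Fin m → ℂ) = 1 := by
            rw [σ.char_one] at h1; exact_mod_cast h1
          obtain ⟨v, hv, hspan⟩ := finrank_eq_one_iff'.1 hm
          have hsm : ∀ x : (P : Subgroup G), ∃ c : ℂ, ∀ w, σ x w = c • w := by
            intro x
            obtain ⟨c, hc⟩ := hspan (σ x v)
            refine ⟨c, fun w => ?_⟩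
            obtain ⟨d, rfl⟩ := hspan w
            rw [map_smul, ← hc, smul_comm]
          refine Or.inl fun a b => ?_
          have hcomm : σ (a * b) = σ (b * a) := LinearMap.ext fun w => by
            obtain ⟨c, hc⟩ := hsm a
            obtain ⟨d, hd⟩ := hsm b
            simp [map_mul, hc, hd, smul_comm c d]
          have : σ (a * b * a⁻¹ * b⁻¹) = σ 1 := by
            rw [mul_assoc _ a⁻¹, ← mul_inv_rev, map_mul, hcomm, ← map_mul, mul_inv_cancel]
          simp only [Representation.character, this]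
        · exact Or.inr ⟨θ, hθ, h1, by rw [sub_self]; exact CfsgLib.Char.isCharacter_zero⟩
    rcases key ψ hψ with hlin | ⟨θ, hθ, hθ1, hrest⟩
    · refine hab fun a b => ?_
      have h1 := hfaith ((a * b * a⁻¹ * b⁻¹ : (P : Subgroup G)) : G) (hlin a b)
      have h2 : a * b * a⁻¹ * b⁻¹ = 1 := Subtype.ext h1
      rwa [mul_inv_eq_one, mul_inv_eq_iff_eq_mul] at h2
    · obtain ⟨d, hd0, hd⟩ := CfsgLib.Char.IsIrrCharacter.exists_degree hθ
      obtain ⟨e, he⟩ := CfsgLib.Char.IsCharacter.exists_degree hrest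
      have hψ1 : ψ 1 = p := hdeg
      rw [Pi.sub_apply, hψ1, hd, sub_eq_iff_eq_add] at he
      have hde : p = e + d := by exact_mod_cast he
      have hdP := CfsgLib.Char.IsIrrCharacter.degree_dvd_card hθ hd
      obtain ⟨k, hk⟩ := P.2.exists_card_eq
      rw [hk] at hdP
      obtain ⟨i, -, hi⟩ := (Nat.dvd_prime_pow hp).1 hdP
      have hd1 : d ≠ 1 := fun h => hθ1 (by rw [hd, h, Nat.cast_one])
      have hdp : d = p := by
        rcases i with _ | i
        · exact absurd (by simpa using hi) hd1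
        · have : p ≤ d := hi ▸ Nat.le_self_pow (Nat.succ_ne_zero i) p
          omega
      have he0 : e = 0 := by omega
      obtain ⟨m, τ, hτ⟩ := hrest
      have hm : m = 0 := by
        have h1 := congrFun hτ 1
        rw [τ.char_one, Module.finrank_fin_fun, Pi.sub_apply, hψ1, hd, hdp, sub_self] at h1
        exact_mod_cast h1
      subst hm
      have hψθ : ∀ x, ψ x = θ x := fun x => by
        have h1 := congrFun hτ x
        rw [Representation.character, Subsingleton.elim (τ x) 0, map_zero, Pi.sub_apply] at h1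
        exact sub_eq_zero.1 h1.symm
      haveI : Nontrivial (P : Subgroup G) := Finite.one_lt_card_iff_nontrivial.1
        (lt_of_lt_of_le (by nlinarith [hp.two_le]) hpP)
      haveI := P.2.center_nontrivial
      obtain ⟨z, hz⟩ := exists_ne (1 : Subgroup.center (P : Subgroup G))
      have hz0 := hvan z z.2 (fun h => hz (Subtype.ext h))
      obtain ⟨m, σ, hσ, rfl⟩ := hθ
      haveI := hσ
      have hA := CfsgLib.Char.eq_smul_one_of_commute σ (σ (z : (P : Subgroup G))) fun g => by
        rw [← map_mul, ← map_mul, Subgroup.mem_center_iff.1 z.2 g]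
      have htr : LinearMap.trace ℂ _ (σ (z : (P : Subgroup G))) = 0 := (hψθ _).symm.trans hz0
      rw [htr, zero_div, zero_smul] at hA
      have h1 : (1 : Module.End ℂ (Fin m → ℂ)) = 0 := by
        have := congrArg (fun A => σ ((z : (P : Subgroup G))⁻¹) * A) hA
        simpa [← map_mul] using this
      have hm0 : m ≠ 0 := by
        intro h
        rw [σ.char_one, Module.finrank_fin_fun, h] at hd
        have : d = 0 := by exact_mod_cast hd.symm
        omega
      haveI : Nonempty (Fin m) := ⟨⟨0, Nat.pos_of_ne_zero hm0⟩⟩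
      exact one_ne_zero (congrFun (LinearMap.congr_fun h1 (fun _ => (1 : ℂ))) ⟨0, Nat.pos_of_ne_zero hm0⟩)

end Cfsg.Agent.S3968
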