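import Cfsg.Statements.S2751
import Cfsg.Agent.Amalgam.MixBound
import Cfsg.Agent.S2858

set_option autoImplicit false
open Cfsg

namespace Cfsg.Agent.S2751

open MulAction CfsgLib.SThreeAmalgam

variable {G : Type*} [Group G]

theorem pCore_map_le (p : ℕ) {A B : Type*} [Group A] [Group B] (e : A ≃* B) :
    (Cfsg.pCore p A).map e.toMonoidHom ≤ Cfsg.pCore p B :=
  Subgroup.map_le_iff_le_comap.2 (sSup_le fun N hN => Subgroup.map_le_iff_le_comap.1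
    (CfsgLib.Solvable.le_pCore p (hN.1.map _ e.surjective) (hN.2.map _)))

theorem facts (P T : Subgroup G) [Finite P] (hT : T ≤ P)
    (h2 : ∃ S : Sylow 2 ↥P, (S : Subgroup ↥P) = T.subgroupOf P)
    (h4 : Nonempty (↥P ⧸ Cfsg.pCore 2 ↥P ≃* Equiv.Perm (Fin 3))) :
    Cfsg.pCoreOf 2 P ≤ T ∧ Nat.card P = 3 * Nat.card T ∧
      Nat.card T = 2 * Nat.card (Cfsg.pCoreOf 2 P) ∧ IsPGroup 2 T := by
  haveI : Fact (Nat.Prime 2) := ⟨Nat.prime_two⟩
  obtain ⟨S, hS⟩ := h2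
  obtain ⟨e⟩ := h4
  obtain ⟨k, hk⟩ := IsPGroup.iff_card.1 (CfsgLib.Solvable.isPGroup_pCore (G := P) 2)
  have hidx : (Cfsg.pCore 2 ↥P).index = 6 := by
    show Nat.card (↥P ⧸ Cfsg.pCore 2 ↥P) = 6
    rw [Nat.card_congr e.toEquiv, Nat.card_perm, Nat.card_fin]; rfl
  have hcardP : Nat.card P = 2 ^ (k + 1) * 3 := by
    rw [← (Cfsg.pCore 2 ↥P).index_mul_card, hidx, hk, pow_succ]; ring
  have hcardT : Nat.card T = 2 ^ (k + 1) := by
    rw [← Nat.card_congr (Subgroup.subgroupOfEquivOfLe hT).toEquiv, ← hS,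
      S.card_eq_multiplicity, hcardP, Nat.factorization_mul (by positivity) (by norm_num),
      Finsupp.add_apply, Nat.Prime.factorization_pow Nat.prime_two, Finsupp.single_eq_same,
      Nat.factorization_eq_zero_of_not_dvd (show ¬ 2 ∣ 3 by norm_num), add_zero]
  have hQcard : Nat.card (Cfsg.pCoreOf 2 P) = 2 ^ k := by
    rw [Cfsg.pCoreOf, Subgroup.card_subtype, hk]
  refine ⟨?_, by rw [hcardP, hcardT, mul_comm], by rw [hcardT, hQcard, pow_succ, mul_comm],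
    IsPGroup.of_card hcardT⟩
  rintro _ ⟨q, hq, rfl⟩
  have := CfsgLib.Fitting.pCore_le_sylow S hq
  rw [hS] at this
  exact this

theorem inv_mul_mem_of_index_two (T Q : Subgroup G) [Finite T] (hQ : Q ≤ T)
    (h : Nat.card T = 2 * Nat.card Q) {x y : G} (hx : x ∈ T) (hy : y ∈ T) (hxQ : x ∉ Q)
    (hyQ : y ∉ Q) : x⁻¹ * y ∈ Q := by
  haveI : Finite Q := Finite.of_injective _ (Subgroup.inclusion_injective hQ)
  have hi : (Q.subgroupOf T).index = 2 := by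
    have := (Q.subgroupOf T).index_mul_card
    rw [Nat.card_congr (Subgroup.subgroupOfEquivOfLe hQ).toEquiv, h] at this
    exact Nat.eq_of_mul_eq_mul_right Nat.card_pos this
  have := (Subgroup.mul_mem_iff_of_index_two hi (a := ⟨x, hx⟩⁻¹) (b := ⟨y, hy⟩)).2
    (by simp [Subgroup.mem_subgroupOf, hxQ, hyQ])
  exact this

/-- The case of an end whose core has a centralizer outside it. -/
theorem not_constrained (P₁ P₂ T : Subgroup G) [Finite P₁] [Finite P₂] (hT : T = P₁ ⊓ P₂)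
    (h₂ : ∃ S : Sylow 2 ↥P₁, (S : Subgroup ↥P₁) = T.subgroupOf P₁)
    (h₂' : ∃ S : Sylow 2 ↥P₂, (S : Subgroup ↥P₂) = T.subgroupOf P₂)
    (h₄ : Nonempty (↥P₁ ⧸ Cfsg.pCore 2 ↥P₁ ≃* Equiv.Perm (Fin 3)))
    (h₄' : Nonempty (↥P₂ ⧸ Cfsg.pCore 2 ↥P₂ ≃* Equiv.Perm (Fin 3)))
    (h₃ : ∀ N : Subgroup G, N ≤ T → (∀ g ∈ P₁, ∀ n ∈ N, g * n * g⁻¹ ∈ N) →
      (∀ g ∈ P₂, ∀ n ∈ N, g * n * g⁻¹ ∈ N) → N = ⊥)
    (hcon : ¬ P₁ ⊓ Subgroup.centralizer (Cfsg.pCoreOf 2 P₁ : Set G) ≤ Cfsg.pCoreOf 2 P₁) :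
    Nat.card T ≤ 2 ^ 7 := by
  haveI : Fact (Nat.Prime 2) := ⟨Nat.prime_two⟩
  obtain ⟨hQ₁T, hP₁, hT₁, hT2⟩ := facts P₁ T (hT ▸ inf_le_left) h₂ h₄
  obtain ⟨hQ₂T, hP₂, hT₂, -⟩ := facts P₂ T (hT ▸ inf_le_right) h₂' h₄'
  have hTP₁ : T ≤ P₁ := hT ▸ inf_le_left
  have hTP₂ : T ≤ P₂ := hT ▸ inf_le_right
  haveI : Finite T := Finite.of_injective _ (Subgroup.inclusion_injective hTP₁)
  set Q₁ := Cfsg.pCoreOf 2 P₁ with hQ₁
  set Q₂ := Cfsg.pCoreOf 2 P₂ with hQ₂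
  have conjQ : ∀ (P : Subgroup G) [Finite P], ∀ g ∈ P, ∀ n ∈ Cfsg.pCoreOf 2 P,
      g * n * g⁻¹ ∈ Cfsg.pCoreOf 2 P := by
    rintro P _ g hg _ ⟨q, hq, rfl⟩
    exact ⟨⟨g, hg⟩ * q * ⟨g, hg⟩⁻¹,
      ((CfsgLib.Solvable.pCore_spec (G := P) 2).1).conj_mem q hq _, rfl⟩
  -- an element centralizing `Q₁` outside `T`
  obtain ⟨x, ⟨hxP, hxC⟩, hxT⟩ : ∃ x, (x ∈ P₁ ∧ x ∈ Subgroup.centralizer (Q₁ : Set G)) ∧ x ∉ T := by
    by_contra hno
    push Not at hno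
    refine hcon fun x hx => ?_
    have hle : (P₁ ⊓ Subgroup.centralizer (Q₁ : Set G)).subgroupOf P₁ ≤ Cfsg.pCore 2 ↥P₁ := by
      refine CfsgLib.Solvable.le_pCore 2 ⟨fun n hn g => ?_⟩ ?_
      · rw [Subgroup.mem_subgroupOf] at hn ⊢
        refine ⟨(g * n * g⁻¹).2, Subgroup.mem_centralizer_iff.2 fun q hq => ?_⟩
        have h := Subgroup.mem_centralizer_iff.1 hn.2 ((g : G)⁻¹ * q * g) (by
          have := conjQ P₁ (g : G)⁻¹ (inv_mem g.2) q hq
          rwa [inv_inv] at this)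
        calc q * ((g : G) * n * (g : G)⁻¹) = g * ((g : G)⁻¹ * q * g * n) * (g : G)⁻¹ := by group
          _ = g * n * (g : G)⁻¹ * q := by rw [h]; group
      · obtain ⟨S, hS⟩ := h₂
        refine S.2.to_le fun n hn => ?_
        rw [hS]
        exact hno _ (Subgroup.mem_subgroupOf.1 hn)
    exact ⟨⟨x, hx.1⟩, hle (Subgroup.mem_subgroupOf.2 hx), rfl⟩
  -- the largest subgroup of `Q₂` with all conjugates in `Q₁`
  set N : Subgroup G := Q₂ ⊓ ⨅ g : P₂, Q₁.comap (MulAut.conj ((g : G)⁻¹)).toMonoidHom with hN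
  have memN : ∀ {n}, n ∈ N ↔ n ∈ Q₂ ∧ ∀ g ∈ P₂, g⁻¹ * n * g ∈ Q₁ := by
    intro n
    simp [hN, Subgroup.mem_inf, Subgroup.mem_iInf]
  have hN2 : ∀ g ∈ P₂, ∀ n ∈ N, g * n * g⁻¹ ∈ N := fun g hg n hn => by
    obtain ⟨hn1, hn2⟩ := memN.1 hn
    refine memN.2 ⟨conjQ P₂ g hg n hn1, fun k hk => ?_⟩
    have := hn2 (g⁻¹ * k) (mul_mem (inv_mem hg) hk)
    simpa [mul_assoc] using this
  have hN1 : ∀ g ∈ P₁, ∀ n ∈ N, g * n * g⁻¹ ∈ N := by
    let K : Subgroup G :=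
      { carrier := {g | g ∈ P₁ ∧ (∀ n ∈ N, g * n * g⁻¹ ∈ N) ∧ ∀ n ∈ N, g⁻¹ * n * g ∈ N}
        one_mem' := ⟨one_mem _, fun n hn => by simpa using hn, fun n hn => by simpa using hn⟩
        mul_mem' := fun {a b} ha hb => ⟨mul_mem ha.1 hb.1, fun n hn => by
            simpa [mul_assoc] using ha.2.1 _ (hb.2.1 n hn), fun n hn => by
            simpa [mul_assoc] using hb.2.2 _ (ha.2.2 n hn)⟩
        inv_mem' := fun {a} ha => ⟨inv_mem ha.1, by simpa using ha.2.2, by simpa using ha.2.1⟩ }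
    have hTK : T ≤ K := fun t ht => ⟨hTP₁ ht, hN2 t (hTP₂ ht), fun n hn => by
      simpa using hN2 t⁻¹ (inv_mem (hTP₂ ht)) n hn⟩
    have hxK : x ∈ K := by
      have hcx : ∀ n ∈ N, n * x = x * n := fun n hn => by
        have := (memN.1 hn).2 1 (one_mem _)
        exact Subgroup.mem_centralizer_iff.1 hxC n (by simpa using this)
      refine ⟨hxP, fun n hn => ?_, fun n hn => ?_⟩
      · rwa [← hcx n hn, mul_inv_cancel_right]
      · rwa [mul_assoc, hcx n hn, inv_mul_cancel_left]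
    have hKP : K ≤ P₁ := fun g hg => hg.1
    haveI : Finite K := Finite.of_injective _ (Subgroup.inclusion_injective hKP)
    have hdiv1 := Subgroup.card_dvd_of_le hTK
    have hdiv2 := Subgroup.card_dvd_of_le hKP
    obtain ⟨j, hj⟩ := hdiv1
    rw [hj, hP₁, mul_comm 3] at hdiv2
    have hj3 : j ∣ 3 := (Nat.mul_dvd_mul_iff_left Nat.card_pos).1 hdiv2
    rcases (Nat.dvd_prime Nat.prime_three).1 hj3 with rfl | rfl
    · exfalso
      have := Subgroup.eq_of_le_of_card_ge hTK (by rw [hj, mul_one])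
      exact hxT (this ▸ hxK)
    · have := Subgroup.eq_of_le_of_card_ge hKP (by rw [hj, hP₁, mul_comm])
      intro g hg
      exact ((this ▸ hg : g ∈ K)).2.1
  have hNbot : N = ⊥ := h₃ N (inf_le_left.trans hQ₂T) hN1 hN2
  -- three conjugates suffice
  haveI : Finite (↥P₂ ⧸ T.subgroupOf P₂) := inferInstance
  have hq3 : Nat.card (↥P₂ ⧸ T.subgroupOf P₂) = 3 := by
    have h := (T.subgroupOf P₂).index_mul_card
    rw [Nat.card_congr (Subgroup.subgroupOfEquivOfLe hTP₂).toEquiv, hP₂] at h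
    exact Nat.eq_of_mul_eq_mul_right Nat.card_pos h
  haveI : Fintype (↥P₂ ⧸ T.subgroupOf P₂) := Fintype.ofFinite _
  haveI : Finite Q₂ := Finite.of_injective _ (Subgroup.inclusion_injective hQ₂T)
  classical
  set f : (↥P₂ ⧸ T.subgroupOf P₂) → Subgroup G :=
    fun c => Q₁.comap (MulAut.conj ((c.out : G)⁻¹)).toMonoidHom with hf
  have step : ∀ s : Finset (↥P₂ ⧸ T.subgroupOf P₂),
      Nat.card Q₂ ≤ 2 ^ s.card * Nat.card (Q₂ ⊓ s.inf f : Subgroup G) := by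
    intro s
    induction s using Finset.induction with
    | empty => simp
    | @insert c s hcs ih =>
      rw [Finset.card_insert_of_notMem hcs, Finset.inf_insert, pow_succ, mul_assoc]
      refine ih.trans (Nat.mul_le_mul_left _ ?_)
      rw [show Q₂ ⊓ (f c ⊓ s.inf f) = Q₂ ⊓ s.inf f ⊓ f c by ac_rfl]
      haveI : Finite (Q₂ ⊓ s.inf f : Subgroup G) :=
        Finite.of_injective _ (Subgroup.inclusion_injective inf_le_left)
      refine card_le_two_mul inf_le_left fun a ha b hb hac hbc =>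
        ⟨Subgroup.mul_mem _ (Subgroup.inv_mem _ ha) hb, ?_⟩
      have hmem : ∀ {a}, a ∈ Q₂ ⊓ s.inf f → ((c.out : G)⁻¹ * a * c.out) ∈ T := fun {a} ha => by
        have := conjQ P₂ (c.out : G)⁻¹ (inv_mem c.out.2) a ha.1
        rw [inv_inv] at this
        exact hQ₂T this
      have hn : ∀ {a}, a ∈ Q₂ ⊓ s.inf f → a ∉ Q₂ ⊓ s.inf f ⊓ f c →
          (c.out : G)⁻¹ * a * c.out ∉ Q₁ := fun {a} ha hac h =>
        hac ⟨ha, by simpa [hf, Subgroup.mem_comap] using h⟩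
      have := inv_mul_mem_of_index_two T Q₁ hQ₁T hT₁ (hmem ha) (hmem hb) (hn ha hac) (hn hb hbc)
      simp only [hf, Subgroup.mem_comap]
      show (c.out : G)⁻¹ * (a⁻¹ * b) * ((c.out : G)⁻¹)⁻¹ ∈ Q₁
      simpa [mul_assoc] using this
  have h8 := step Finset.univ
  rw [Finset.card_univ, ← Nat.card_eq_fintype_card, hq3] at h8
  have hle : Q₂ ⊓ Finset.univ.inf f ≤ N := fun n hn => by
    refine memN.2 ⟨hn.1, fun g hg => ?_⟩
    set c : ↥P₂ ⧸ T.subgroupOf P₂ := QuotientGroup.mk ⟨g, hg⟩ with hc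
    have h1 : (c.out : G)⁻¹ * n * c.out ∈ Q₁ := by
      have := (Finset.inf_le (f := f) (Finset.mem_univ c)) hn.2
      simpa [hf, Subgroup.mem_comap] using this
    obtain ⟨t, ht⟩ := QuotientGroup.mk_out_eq_mul (T.subgroupOf P₂) ⟨g, hg⟩
    rw [← hc] at ht
    have hco : (c.out : G) = g * (t : P₂) := by rw [ht]; rfl
    rw [hco] at h1
    have := conjQ P₁ _ (hTP₁ (Subgroup.mem_subgroupOf.1 t.2)) _ h1
    simpa [mul_assoc] using this
  rw [hNbot] at hle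
  rw [le_bot_iff.1 hle, Subgroup.card_bot] at h8
  omega

theorem isX_conj {V : Type*} [MulAction G V] {a b : V} {x : G} (g : G) (hx : IsX a b x) :
    IsX (g • a) (g • b) (g * x * g⁻¹) := Mix.conj_isX hx

/-- The case of exactly one centralizing end. -/
theorem mixed (P₁ P₂ : Subgroup G) [Finite P₁] [Finite P₂] (hgen : P₁ ⊔ P₂ = ⊤) (T : Subgroup G)
    (hT : T = P₁ ⊓ P₂)
    (hc₁ : P₁ ⊓ Subgroup.centralizer (Cfsg.pCoreOf 2 P₁ : Set G) ≤ Cfsg.pCoreOf 2 P₁)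
    (hc₂ : P₂ ⊓ Subgroup.centralizer (Cfsg.pCoreOf 2 P₂ : Set G) ≤ Cfsg.pCoreOf 2 P₂)
    (h₂ : ∃ S : Sylow 2 ↥P₁, (S : Subgroup ↥P₁) = T.subgroupOf P₁)
    (h₂' : ∃ S : Sylow 2 ↥P₂, (S : Subgroup ↥P₂) = T.subgroupOf P₂)
    (h₄ : Nonempty (↥P₁ ⧸ Cfsg.pCore 2 ↥P₁ ≃* Equiv.Perm (Fin 3)))
    (h₄' : Nonempty (↥P₂ ⧸ Cfsg.pCore 2 ↥P₂ ≃* Equiv.Perm (Fin 3)))
    (h₃ : ∀ N : Subgroup G, N.Normal → N ≤ T → N = ⊥)
    (h₅ : P₂ ≤ Subgroup.centralizer
      (Cfsg.omegaOne 2 (T ⊓ Subgroup.centralizer (T : Set G)) : Set G)) :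
    Nat.card T ≤ 2 ^ 7 := by
  haveI : Fact (Nat.Prime 2) := ⟨Nat.prime_two⟩
  obtain ⟨-, -, hT₁, hT2⟩ := facts P₁ T (hT ▸ inf_le_left) h₂ h₄
  let R : CosetVertex P₁ P₂ → CosetVertex P₁ P₂ → Prop := (cosetGraph P₁ P₂).Adj
  set v : CosetVertex P₁ P₂ := Sum.inl ((1 : G) : G ⧸ P₁) with hv
  set w : CosetVertex P₁ P₂ := Sum.inr ((1 : G) : G ⧸ P₂) with hw
  have sv : stabilizer G v = P₁ := by
    ext x; rw [CfsgLib.Amalgam.mem_stabilizer_inl]; simp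
  have sw : stabilizer G w = P₂ := by
    ext x; rw [CfsgLib.Amalgam.mem_stabilizer_inr]; simp
  have hR : ∀ (g : G) a b, R a b → R (g • a) (g • b) := fun g a b h => CfsgLib.Amalgam.adj_smul g h
  have hvw : R v w := CfsgLib.Amalgam.adj_inl_inr 1
  have smul_v : ∀ x : G, (Sum.inl (x : G ⧸ P₁) : CosetVertex P₁ P₂) = x • v := fun x => by
    rw [hv, Sum.smul_inl, MulAction.Quotient.smul_coe, smul_eq_mul, mul_one]
  have smul_w : ∀ x : G, (Sum.inr (x : G ⧸ P₂) : CosetVertex P₁ P₂) = x • w := fun x => by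
    rw [hw, Sum.smul_inr, MulAction.Quotient.smul_coe, smul_eq_mul, mul_one]
  have edge : ∀ a b, R a b → ∃ g : G, (a = g • v ∧ b = g • w) ∨ (a = g • w ∧ b = g • v) := by
    intro a b hab
    obtain ⟨x, ⟨rfl, rfl⟩ | ⟨rfl, rfl⟩⟩ := CfsgLib.Amalgam.adj_iff.1 hab
    · exact ⟨x, Or.inl ⟨smul_v x, smul_w x⟩⟩
    · exact ⟨x, Or.inr ⟨smul_w x, smul_v x⟩⟩
  have hnv : ∀ b, R v b → ∃ x ∈ P₁, x • w = b := fun b hb => by
    obtain ⟨g, hg, hgb⟩ := CfsgLib.Amalgam.transitive_neighbours hvw hb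
    exact ⟨g, sv ▸ hg, hgb⟩
  have hnw : ∀ b, R w b → ∃ x ∈ P₂, x • v = b := fun b hb => by
    obtain ⟨g, hg, hgb⟩ := CfsgLib.Amalgam.transitive_neighbours (μ := v) (μ' := b) hvw.symm hb
    exact ⟨g, sw ▸ hg, hgb⟩
  obtain ⟨b1, s1, c1⟩ := MixGraph.base P₁ P₂ T sv sw hT hvw hR hnv hc₁ h₂ h₄
  obtain ⟨b2, s2, c2⟩ := MixGraph.base P₂ P₁ T sw sv (hT.trans (inf_comm _ _)) hvw.symm hR hnw
    hc₂ h₂' h₄'
  have vert : ∀ a, ∃ g : G, a = g • v ∨ a = g • w := by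
    rintro (a | a) <;> obtain ⟨x, rfl⟩ := QuotientGroup.mk_surjective a
    · exact ⟨x, Or.inl (smul_v x)⟩
    · exact ⟨x, Or.inr (smul_w x)⟩
  have third : ∀ a b, R a b → ∃ c d, R a c ∧ R a d ∧ c ≠ b ∧ d ≠ b ∧ c ≠ d ∧
      ∀ e, R a e → e = b ∨ e = c ∨ e = d := by
    have tr : ∀ (g : G) (a : CosetVertex P₁ P₂), (∀ b, R a b → ∃ c d, R a c ∧ R a d ∧ c ≠ b ∧ d ≠ b ∧ c ≠ d ∧
        ∀ e, R a e → e = b ∨ e = c ∨ e = d) → ∀ b, R (g • a) b → ∃ c d, R (g • a) c ∧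
        R (g • a) d ∧ c ≠ b ∧ d ≠ b ∧ c ≠ d ∧ ∀ e, R (g • a) e → e = b ∨ e = c ∨ e = d := by
      intro g a h b hb
      obtain ⟨c, d, hc, hd, hcb, hdb, hcd, hall⟩ := h (g⁻¹ • b) (by simpa using hR g⁻¹ _ _ hb)
      refine ⟨g • c, g • d, hR g _ _ hc, hR g _ _ hd, fun e => hcb (eq_inv_smul_iff.2 e),
        fun e => hdb (eq_inv_smul_iff.2 e), fun e => hcd (smul_left_cancel g e), fun e he => ?_⟩
      rcases hall (g⁻¹ • e) (by simpa using hR g⁻¹ _ _ he) with h' | h' | h'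
      · exact Or.inl (smul_left_cancel g⁻¹ h')
      · exact Or.inr (Or.inl (inv_smul_eq_iff.1 h'))
      · exact Or.inr (Or.inr (inv_smul_eq_iff.1 h'))
    intro a b hab
    obtain ⟨g, rfl | rfl⟩ := vert a
    · exact tr g v b1 b hab
    · exact tr g w b2 b hab
  have swap : ∀ a b, R a b → ∃ t : G, t • a = a ∧ t • b = b ∧ t ∉ kern R a := by
    have tr : ∀ (g : G) (a b : CosetVertex P₁ P₂), (∃ t : G, t • a = a ∧ t • b = b ∧ t ∉ kern R a) →
        ∃ t : G, t • (g • a) = g • a ∧ t • (g • b) = g • b ∧ t ∉ kern R (g • a) := by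
      rintro g a b ⟨t, h1, h2, h3⟩
      refine ⟨g * t * g⁻¹, by simp [mul_smul, h1], by simp [mul_smul, h2], fun h => h3 ?_⟩
      simpa [mul_assoc] using (MixGraph.mem_kern_smul hR).1 h
    intro a b hab
    obtain ⟨g, ⟨rfl, rfl⟩ | ⟨rfl, rfl⟩⟩ := edge a b hab
    exacts [tr g v w s1, tr g w v s2]
  have cent : ∀ a (x : G), x • a = a → (∀ q ∈ kern (G := G) R a, q * x = x * q) → x ∈ kern R a := by
    intro a x hx hc
    have tr : ∀ (g : G) (a₀ : CosetVertex P₁ P₂), (∀ y : G, y • a₀ = a₀ →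
        (∀ q ∈ kern (G := G) R a₀, q * y = y * q) → y ∈ kern R a₀) → a = g • a₀ → x ∈ kern R a := by
      intro g a₀ h e
      subst e
      refine (MixGraph.mem_kern_smul hR).2
        (h _ (by rw [mul_smul, mul_smul, hx, inv_smul_smul]) fun q hq => ?_)
      have hq' : g * q * g⁻¹ ∈ kern R (g • a₀) :=
        (MixGraph.mem_kern_smul hR).2 (by simpa [mul_assoc] using hq)
      calc q * (g⁻¹ * x * g) = g⁻¹ * (g * q * g⁻¹ * x) * g := by group
        _ = g⁻¹ * x * g * q := by rw [hc _ hq']; group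
    obtain ⟨g, e | e⟩ := vert a
    exacts [tr g v c1 e, tr g w c2 e]
  have memT : ∀ {x : G}, x ∈ T ↔ x • v = v ∧ x • w = w := fun {x} => by
    rw [hT, Subgroup.mem_inf, ← mem_stabilizer_iff, ← mem_stabilizer_iff, sv, sw]
  haveI : Finite T :=
    Finite.of_injective _ (Subgroup.inclusion_injective (hT ▸ inf_le_left : T ≤ P₁))
  obtain ⟨z, hz1, hz⟩ : ∃ z : G, z ≠ 1 ∧ IsX v w z := by
    haveI : Nontrivial T := by
      rw [← Finite.one_lt_card_iff_nontrivial, hT₁]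
      haveI : Finite (Cfsg.pCoreOf 2 P₁) :=
        Finite.of_injective _ (Subgroup.inclusion_injective (Subgroup.map_subtype_le _))
      have := (Nat.card_pos : 0 < Nat.card (Cfsg.pCoreOf 2 P₁))
      omega
    haveI := hT2.center_nontrivial
    obtain ⟨y, hy⟩ := exists_ne (1 : Subgroup.center T)
    have hyo : 2 ∣ Nat.card (Subgroup.center T) := by
      rcases (hT2.to_subgroup (Subgroup.center T)).card_eq_or_dvd with h | h
      · have := Finite.one_lt_card (α := Subgroup.center T)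
        omega
      · exact h
    obtain ⟨z, hz⟩ := exists_prime_orderOf_dvd_card' (G := Subgroup.center T) 2 hyo
    refine ⟨((z : T) : G), fun h => ?_, (memT.1 (z : T).2).1, (memT.1 (z : T).2).2, ?_,
      fun t h1 h2 => ?_⟩
    · have : z = 1 := Subtype.ext (Subtype.ext h)
      rw [this, orderOf_one] at hz
      omega
    · have h2 := pow_orderOf_eq_one z
      rw [hz, pow_two] at h2
      simpa using congrArg (fun q : Subgroup.center T => ((q : T) : G)) h2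
    · exact congrArg Subtype.val (Subgroup.mem_center_iff.1 z.2 ⟨t, memT.2 ⟨h1, h2⟩⟩)
  let Cn : CosetVertex P₁ P₂ → Prop := fun a => ∃ g : G, a = g • w
  have notCn : ∀ g : G, ¬ Cn (g • v) := by
    rintro g ⟨k, hk⟩
    simp [hv, hw] at hk
  let D : Mix G (CosetVertex P₁ P₂) :=
    { R := R
      Cen := Cn
      symm := fun a b h => h.symm
      ne := fun a b h => h.ne
      smul := hR
      third := third
      swap := swap
      cent := cent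
      exists_adj := CfsgLib.Amalgam.exists_adj
      conn := fun a b => by
        obtain ⟨p⟩ := (CfsgLib.Amalgam.connected hgen).preconnected a b
        induction p with
        | nil => exact ⟨0, Within.refl _ 0⟩
        | cons h _ ih => obtain ⟨n, hn⟩ := ih; exact ⟨n + 1, Within.step h hn⟩
      faithful := fun g hg => CfsgLib.Amalgam.fixes_all_eq_bot
        (fun N hN hn => h₃ N hn (hT ▸ hN)) hg
      cen_adj := by
        intro a b hab
        obtain ⟨g, ⟨rfl, rfl⟩ | ⟨rfl, rfl⟩⟩ := edge a b hab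
        · exact iff_of_false (notCn g) (not_not.2 ⟨g, rfl⟩)
        · exact iff_of_true ⟨g, rfl⟩ (notCn g)
      cen_smul := fun g a ⟨k, hk⟩ => ⟨g * k, by rw [hk, mul_smul]⟩
      central := by
        intro c b x hc hcb hx g hg
        obtain ⟨h, ⟨rfl, rfl⟩ | ⟨rfl, rfl⟩⟩ := edge c b hcb
        · exact absurd hc (notCn h)
        have hx' := isX_conj h⁻¹ hx
        rw [inv_smul_smul, inv_smul_smul, inv_inv] at hx'
        have hy : h⁻¹ * x * h ∈ Cfsg.omegaOne 2 (T ⊓ Subgroup.centralizer (T : Set G)) := by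
          refine Subgroup.subset_closure ⟨⟨memT.2 ⟨hx'.2.1, hx'.1⟩,
            Subgroup.mem_centralizer_iff.2 fun t ht => ?_⟩, by rw [pow_two]; exact hx'.2.2.1⟩
          exact hx'.2.2.2 t (memT.1 ht).2 (memT.1 ht).1
        have hg' : h⁻¹ * g * h ∈ P₂ := by
          rw [← sw, mem_stabilizer_iff, mul_smul, mul_smul, hg, inv_smul_smul]
        have := Subgroup.mem_centralizer_iff.1 (h₅ hg') _ hy
        calc g * x = h * (h⁻¹ * g * h * (h⁻¹ * x * h)) * h⁻¹ := by group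
          _ = x * g := by rw [← this]; group
      nontriv := by
        intro a b hab
        obtain ⟨g, ⟨rfl, rfl⟩ | ⟨rfl, rfl⟩⟩ := edge a b hab
        · exact ⟨_, fun h => hz1 (conj_eq_one_iff.1 h), isX_conj g hz⟩
        · exact ⟨_, fun h => hz1 (conj_eq_one_iff.1 h), Mix.isX_comm (isX_conj g hz)⟩
      two := by
        intro a b hab g hga hgb
        have key : ∀ h : G, g • h • v = h • v → g • h • w = h • w → ∃ k : ℕ, g ^ 2 ^ k = 1 := by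
          intro h h1 h2
          have hm : h⁻¹ * g * h ∈ T := memT.2 ⟨by rw [mul_smul, mul_smul, h1, inv_smul_smul],
            by rw [mul_smul, mul_smul, h2, inv_smul_smul]⟩
          obtain ⟨k, hk⟩ := hT2 ⟨_, hm⟩
          refine ⟨k, ?_⟩
          have hk' : (h⁻¹ * g * h) ^ 2 ^ k = 1 := congrArg Subtype.val hk
          have e := conj_pow (a := h⁻¹) (b := g) (i := 2 ^ k)
          rw [inv_inv, hk'] at e
          calc g ^ 2 ^ k = h * (h⁻¹ * g ^ 2 ^ k * h) * h⁻¹ := by group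
            _ = 1 := by rw [← e]; group
        obtain ⟨h, ⟨rfl, rfl⟩ | ⟨rfl, rfl⟩⟩ := edge a b hab
        exacts [key h hga hgb, key h hgb hga] }
  haveI : ∀ a, Finite (stabilizer G (a : CosetVertex P₁ P₂)) := fun a => by
    obtain ⟨g, rfl | rfl⟩ := vert a
    · obtain ⟨i⟩ := Cfsg.Agent.S2858.stab_conj g v
      haveI : Finite (stabilizer G v) := by rw [sv]; infer_instance
      exact Finite.of_equiv _ i.symm.toEquiv
    · obtain ⟨i⟩ := Cfsg.Agent.S2858.stab_conj g w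
      haveI : Finite (stabilizer G w) := by rw [sw]; infer_instance
      exact Finite.of_equiv _ i.symm.toEquiv
  haveI : Nonempty (CosetVertex P₁ P₂) := ⟨v⟩
  obtain ⟨a, c, hac, ha, hcard⟩ := D.bound
  obtain ⟨g, ⟨rfl, rfl⟩ | ⟨rfl, rfl⟩⟩ := edge a c hac
  · have heq : Mix.est (G := G) (g • v) (g • w) = T.map (MulAut.conj g).toMonoidHom := by
      ext x
      rw [Subgroup.mem_map_equiv, memT, Mix.mem_est, MulAut.conj_symm_apply, mul_smul, mul_smul,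
        mul_smul, mul_smul, inv_smul_eq_iff, inv_smul_eq_iff]
    rw [heq, Subgroup.card_map_of_injective (MulAut.conj g).injective] at hcard
    exact hcard
  · exact absurd ⟨g, rfl⟩ ha

theorem bound' (P₁ P₂ : Subgroup G) [Finite P₁] [Finite P₂] (hgen : P₁ ⊔ P₂ = ⊤) (T : Subgroup G)
    (hT : T = P₁ ⊓ P₂)
    (h₂ : ∃ S : Sylow 2 ↥P₁, (S : Subgroup ↥P₁) = T.subgroupOf P₁)
    (h₂' : ∃ S : Sylow 2 ↥P₂, (S : Subgroup ↥P₂) = T.subgroupOf P₂)
    (h₄ : Nonempty (↥P₁ ⧸ Cfsg.pCore 2 ↥P₁ ≃* Equiv.Perm (Fin 3)))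
    (h₄' : Nonempty (↥P₂ ⧸ Cfsg.pCore 2 ↥P₂ ≃* Equiv.Perm (Fin 3)))
    (h₃ : ∀ N : Subgroup G, N ≤ T → (∀ g ∈ P₁, ∀ n ∈ N, g * n * g⁻¹ ∈ N) →
      (∀ g ∈ P₂, ∀ n ∈ N, g * n * g⁻¹ ∈ N) → N = ⊥) :
    Nat.card T ≤ 2 ^ 7 := by
  by_cases hc₁ : P₁ ⊓ Subgroup.centralizer (Cfsg.pCoreOf 2 P₁ : Set G) ≤ Cfsg.pCoreOf 2 P₁
  swap
  · exact not_constrained P₁ P₂ T hT h₂ h₂' h₄ h₄' h₃ hc₁
  by_cases hc₂ : P₂ ⊓ Subgroup.centralizer (Cfsg.pCoreOf 2 P₂ : Set G) ≤ Cfsg.pCoreOf 2 P₂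
  swap
  · exact not_constrained P₂ P₁ T (hT.trans (inf_comm _ _)) h₂' h₂ h₄' h₄
      (fun N hN a b => h₃ N hN b a) hc₂
  have hn : ∀ N : Subgroup G, N.Normal → N ≤ T → N = ⊥ := fun N hN hle =>
    h₃ N hle (fun g _ n hn => hN.conj_mem n hn g) (fun g _ n hn => hN.conj_mem n hn g)
  set Z := Cfsg.omegaOne 2 (T ⊓ Subgroup.centralizer (T : Set G)) with hZ
  by_cases h5 : P₂ ≤ Subgroup.centralizer (Z : Set G)
  · exact mixed P₁ P₂ hgen T hT hc₁ hc₂ h₂ h₂' h₄ h₄' hn h5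
  by_cases h5' : P₁ ≤ Subgroup.centralizer (Z : Set G)
  · exact mixed P₂ P₁ (sup_comm P₁ P₂ ▸ hgen) T (hT.trans (inf_comm _ _)) hc₂ hc₁ h₂' h₂ h₄' h₄
      hn h5'
  obtain ⟨hQ, hP, -, -⟩ := facts P₁ T (hT ▸ inf_le_left) h₂ h₄
  have hmain := Cfsg.Agent.S2858.result P₁ P₂ hgen T hT
    (by simp only [Set.forall_mem_insert, Set.mem_singleton_iff, forall_eq]; exact ⟨hc₁, hc₂⟩)
    (by simp only [Set.forall_mem_insert, Set.mem_singleton_iff, forall_eq]; exact ⟨h₂, h₂'⟩) hn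
    (by simp only [Set.forall_mem_insert, Set.mem_singleton_iff, forall_eq]; exact ⟨h₄, h₄'⟩)
    (by simp only [Set.forall_mem_insert, Set.mem_singleton_iff, forall_eq]; exact ⟨h5', h5⟩)
  rcases hmain with ⟨⟨i⟩, -⟩ | ⟨⟨i⟩, -⟩
  · have : Nat.card P₁ = 24 := by
      rw [Nat.card_congr i.toEquiv, Nat.card_perm, Nat.card_fin]; rfl
    omega
  · have : Nat.card P₁ = 48 := by
      rw [Nat.card_congr i.toEquiv, Nat.card_prod, Nat.card_perm, Nat.card_fin,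
        Nat.card_congr Multiplicative.toAdd, Nat.card_zmod]; rfl
    omega

/-- Goldschmidt's bound for amalgams of index (3, 3): let M₁ and M₂ be finite subgroups of a group G such that M₁ ⊓ M₂ is a Sylow 2-subgroup of both M₁ and M₂, each quotient Mᵢ / O₂(Mᵢ) is isomorphic to the symmetric group of degree 3, and no nontrivial subgroup of M₁ ⊓ M₂ is normal in both M₁ and M₂. Then M₁ ⊓ M₂ has order at most 2^7. -/
theorem result {G : Type*} [Group G] (M₁ M₂ : Subgroup G) [Finite M₁] [Finite M₂] (ha₁ : ∃ P : Sylow 2 M₁, (P : Subgroup M₁) = (M₁ ⊓ M₂).subgroupOf M₁) (ha₂ : ∃ P : Sylow 2 M₂, (P : Subgroup M₂) = (M₁ ⊓ M₂).subgroupOf M₂) (hb₁ : Nonempty (M₁ ⧸ Cfsg.pCore 2 M₁ ≃* Equiv.Perm (Fin 3))) (hb₂ : Nonempty (M₂ ⧸ Cfsg.pCore 2 M₂ ≃* Equiv.Perm (Fin 3))) (hc : ∀ N : Subgroup G, N ≤ M₁ ⊓ M₂ → (N.subgroupOf M₁).Normal → (N.subgroupOf M₂).Normal → N = ⊥) : Nat.card ↥(M₁ ⊓ M₂) ≤ 2 ^ 7 := by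
  set H := M₁ ⊔ M₂ with hH
  have l1 : M₁ ≤ H := le_sup_left
  have l2 : M₂ ≤ H := le_sup_right
  set T := (M₁ ⊓ M₂).subgroupOf H with hT
  haveI : Finite (M₁.subgroupOf H) :=
    Finite.of_equiv _ (Subgroup.subgroupOfEquivOfLe l1).symm.toEquiv
  haveI : Finite (M₂.subgroupOf H) :=
    Finite.of_equiv _ (Subgroup.subgroupOfEquivOfLe l2).symm.toEquiv
  have syl : ∀ (M : Subgroup G) (hM : M ≤ H) [Finite M],
      (∃ P : Sylow 2 M, (P : Subgroup M) = (M₁ ⊓ M₂).subgroupOf M) →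
      ∃ S : Sylow 2 ↥(M.subgroupOf H), (S : Subgroup ↥(M.subgroupOf H)) =
        T.subgroupOf (M.subgroupOf H) := by
    intro M hM _ ⟨P, hP⟩
    refine ⟨P.comapOfInjective (Subgroup.subgroupOfEquivOfLe hM).toMonoidHom
      (Subgroup.subgroupOfEquivOfLe hM).injective
      (fun x _ => (Subgroup.subgroupOfEquivOfLe hM).surjective x), ?_⟩
    show Subgroup.comap _ (P : Subgroup M) = _
    rw [hP]
    rfl
  have quot : ∀ (M : Subgroup G) (hM : M ≤ H),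
      Nonempty (M ⧸ Cfsg.pCore 2 M ≃* Equiv.Perm (Fin 3)) →
      Nonempty (↥(M.subgroupOf H) ⧸ Cfsg.pCore 2 ↥(M.subgroupOf H) ≃* Equiv.Perm (Fin 3)) := by
    intro M hM ⟨e⟩
    have hmap : (Cfsg.pCore 2 ↥(M.subgroupOf H)).map
        (Subgroup.subgroupOfEquivOfLe hM : ↥(M.subgroupOf H) ≃* M) = Cfsg.pCore 2 M := by
      refine le_antisymm (pCore_map_le 2 _) fun x hx => ?_
      exact ⟨(Subgroup.subgroupOfEquivOfLe hM).symm x,
        pCore_map_le 2 (Subgroup.subgroupOfEquivOfLe hM).symm ⟨x, hx, rfl⟩,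
        (Subgroup.subgroupOfEquivOfLe hM).apply_symm_apply x⟩
    exact ⟨(QuotientGroup.congr _ _ (Subgroup.subgroupOfEquivOfLe hM) hmap).trans e⟩
  have h := bound' (M₁.subgroupOf H) (M₂.subgroupOf H)
    (by rw [← Subgroup.subgroupOf_sup l1 l2, hH, Subgroup.subgroupOf_self]) T rfl
    (syl M₁ l1 ha₁) (syl M₂ l2 ha₂) (quot M₁ l1 hb₁) (quot M₂ l2 hb₂) (fun N hN h1 h2 => by
      have hle : N.map H.subtype ≤ M₁ ⊓ M₂ := by
        rintro _ ⟨n, hn, rfl⟩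
        exact hN hn
      have nrm : ∀ (M : Subgroup G) (hM : M ≤ H),
          (∀ g ∈ M.subgroupOf H, ∀ n ∈ N, g * n * g⁻¹ ∈ N) →
          ((N.map H.subtype).subgroupOf M).Normal := by
        intro M hM hc
        refine ⟨fun n hn g => ?_⟩
        obtain ⟨m, hm, hm'⟩ := Subgroup.mem_subgroupOf.1 hn
        refine Subgroup.mem_subgroupOf.2 ⟨⟨g, hM g.2⟩ * m * ⟨g, hM g.2⟩⁻¹,
          hc ⟨g, hM g.2⟩ g.2 m hm, ?_⟩
        simp only [map_mul, map_inv, hm']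
        rfl
      exact (Subgroup.map_eq_bot_iff_of_injective _ H.subtype_injective).1
        (hc _ hle (nrm M₁ l1 h1) (nrm M₂ l2 h2)))
  rwa [Nat.card_congr (Subgroup.subgroupOfEquivOfLe (inf_le_left.trans l1)).toEquiv] at h

end Cfsg.Agent.S2751
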