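import Cfsg.Statements.S0996
import Cfsg.Agent.BrauerPrime.Reduction
import Cfsg.Agent.BlocksB.SelfCentralizingPrime

set_option linter.style.haveILetI false

set_option autoImplicit false
open Cfsg

namespace Cfsg.Agent.S0996

/-- Let G be a finite perfect group containing an element z of prime order p whose centralizer is the cyclic group it generates, and suppose the number 1 + n * p of Sylow p-subgroups satisfies n < (p + 3) / 2. Then p > 3 and G is isomorphic to the projective special linear group of dimension 2 over the field with p elements, or p - 1 is a power of 2 and G is isomorphic to that group over the field with p - 1 elements. -/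
theorem result {G : Type*} [Group G] [Finite G] (hperf : commutator G = ⊤) (p : ℕ) [Fact p.Prime] (z : G) (hz : orderOf z = p) (hC : Subgroup.centralizer ({z} : Set G) = Subgroup.zpowers z) (hn : 2 * Nat.card (Sylow p G) < (p + 1) * (p + 2)) : (∃ (F : Type) (_ : Field F) (_ : Fintype F), Fintype.card F = p ∧ 3 < p ∧ Nonempty (G ≃* Matrix.ProjectiveSpecialLinearGroup (Fin 2) F)) ∨ (∃ (m : ℕ) (F : Type) (_ : Field F) (_ : Fintype F), Fintype.card F = 2 ^ m ∧ p = 2 ^ m + 1 ∧ 3 < p ∧ Nonempty (G ≃* Matrix.ProjectiveSpecialLinearGroup (Fin 2) F)) := by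
  have hp : p.Prime := Fact.out
  obtain ⟨P, hP⟩ := CfsgLib.SelfCentPrime.exists_sylow hz hC
  have hPc : Nat.card P = p := by
    rw [show Nat.card P = Nat.card (P : Subgroup G) from rfl, hP, Nat.card_zpowers, hz]
  obtain ⟨n, j, hn1, hn', hnp, hj, -⟩ := CfsgLib.BrauerPrime.quotient_numbers hperf P hPc
  rw [hnp] at hn
  have hj0 : j = 0 := by
    by_contra h0
    have h1 : (1 + p) * (1 + p) ≤ (1 + n * p) * (1 + j * p) :=
      Nat.mul_le_mul (Nat.add_le_add_left (Nat.le_mul_of_pos_left _ hn1) _)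
        (Nat.add_le_add_left (Nat.le_mul_of_pos_left _ (Nat.pos_of_ne_zero h0)) _)
    nlinarith
  have hbot : Cfsg.pPrimeCore p G = ⊥ := by
    rw [Subgroup.eq_bot_iff_forall]
    intro o ho
    have hoN := hj hj0 ho
    rw [hP] at hoN
    have hdisj : ∀ x ∈ Cfsg.pPrimeCore p G, x ∈ Subgroup.zpowers z → x = 1 := fun x hx hx' => by
      rw [← orderOf_eq_one_iff, ← Nat.dvd_one]
      have h1 : orderOf x ∣ p := by
        have h := Subgroup.orderOf_dvd_natCard _ hx'
        rwa [Nat.card_zpowers, hz] at h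
      have h2 := Nat.dvd_gcd (Subgroup.orderOf_dvd_natCard _ hx) h1
      rwa [CfsgLib.Solvable.coprime_card_pPrimeCore p] at h2
    refine hdisj o ho ?_
    rw [← hC, Subgroup.mem_centralizer_singleton_iff, ← mul_inv_eq_iff_eq_mul, ← mul_inv_eq_one]
    refine hdisj _ ?_ (mul_mem ((Subgroup.mem_normalizer_iff.1 hoN z).1
      (Subgroup.mem_zpowers z)) (inv_mem (Subgroup.mem_zpowers z)))
    rw [show o * z * o⁻¹ * z⁻¹ = o * (z * o⁻¹ * z⁻¹) by group]
    exact mul_mem ho (Subgroup.Normal.conj_mem inferInstance _ (inv_mem ho) z)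
  have hE : ¬ CfsgLib.BrauerPrime.Eqn p n := by
    refine CfsgLib.BrauerPrime.not_eqn_of_lt ?_
    rw [hj0] at hn
    by_contra hle
    rw [not_lt] at hle
    nlinarith [Nat.mul_le_mul_right p hle]
  have e0 : G ≃* G ⧸ Cfsg.pPrimeCore p G :=
    ((QuotientGroup.quotientMulEquivOfEq hbot).trans QuotientGroup.quotientBot).symm
  rcases CfsgLib.BrauerPrime.classify_quotient hperf P hPc hn' hE with
    ⟨F, iF, iF', hF, h3, ⟨e⟩⟩ | ⟨m, F, iF, iF', hF, hpm, h3, ⟨e⟩⟩
  · exact Or.inl ⟨F, iF, iF', hF, h3, ⟨e0.trans e⟩⟩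
  · exact Or.inr ⟨m, F, iF, iF', hF, hpm, h3, ⟨e0.trans e⟩⟩


end Cfsg.Agent.S0996
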