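import Cfsg.Statements.S1011
import Cfsg.Agent.SmallSimple.FiveOhFour
import Cfsg.Agent.Classical.SmallPSL

set_option autoImplicit false
open Cfsg

namespace Cfsg.Agent.S1011

/-- A simple group of order 504 is isomorphic to the projective special linear group of dimension 2 over the field with 8 elements. -/
theorem result {G : Type*} [Group G] [Finite G] [IsSimpleGroup G] (h : Nat.card G = 504) {F : Type*} [Field F] [Fintype F] (hF : Fintype.card F = 8) : Nonempty (G ≃* Matrix.ProjectiveSpecialLinearGroup (Fin 2) F) := by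
  haveI : Fact (Nat.Prime 2) := ⟨Nat.prime_two⟩
  obtain ⟨e⟩ := CfsgLib.SmallSimple.FiveOhFour.nonempty_mulEquiv_pgl h (GaloisField 2 3)
    (by rw [GaloisField.card 2 3 (by norm_num)]; norm_num)
  haveI : IsSimpleGroup (Matrix.ProjectiveSpecialLinearGroup (Fin 2) F) :=
    CfsgLib.Linear.isSimpleGroup_PSL (Or.inr (CfsgLib.Linear.Small.exists_sq_ne_one (by omega)))
  have hc : Nat.card (Matrix.ProjectiveSpecialLinearGroup (Fin 2) F) = 504 := by
    have := CfsgLib.Linear.Small.card_psl_two (F := F) hF
    norm_num at this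
    omega
  obtain ⟨e'⟩ := CfsgLib.SmallSimple.FiveOhFour.nonempty_mulEquiv_pgl hc (GaloisField 2 3)
    (by rw [GaloisField.card 2 3 (by norm_num)]; norm_num)
  exact ⟨e.trans e'.symm⟩

end Cfsg.Agent.S1011
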