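import Cfsg.Statements.S3716
import Cfsg.Agent.SmallSylow.DihedralNine.Build
import Cfsg.Agent.SmallSylow.DihedralNine.Chars
import Cfsg.Agent.SmallSimple.OrderBound.Sweep

set_option autoImplicit false
open Cfsg

namespace Cfsg.Agent.S3716

/-- Let G be a finite group with an elementary abelian Sylow 3-subgroup M of order 9 which is self-centralizing (C_G(M) = M), let N = N_G(M), and suppose C_G(g) ≤ N for every nonidentity g ∈ M. If the Sylow 2-subgroups of N are dihedral of order 8, then G is not simple. -/
theorem result {G : Type*} [Group G] [Finite G] (M : Sylow 3 G) (hM9 : Nat.card ↥(M : Subgroup G) = 9)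
    (hMel : ∀ m ∈ (M : Subgroup G), m ^ 3 = 1)
    (hCM : Subgroup.centralizer ((M : Subgroup G) : Set G) = (M : Subgroup G))
    (N : Subgroup G) (hN : N = Subgroup.normalizer ((M : Subgroup G) : Set G))
    (hCg : ∀ g ∈ (M : Subgroup G), g ≠ 1 → Subgroup.centralizer ({g} : Set G) ≤ N)
    (hS : ∀ S : Sylow 2 ↥N, Nonempty (↥(S : Subgroup ↥N) ≃* DihedralGroup 4)) :
    ¬ IsSimpleGroup G := by
  intro hsimple
  subst hN
  obtain ⟨D, -⟩ := CfsgLib.DihedralNine.exists_setup M hM9 hMel hCM hCg hS
  have h9 : 9 ∣ Nat.card G := hM9 ▸ Subgroup.card_subgroup_dvd_card _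
  have hna : ¬ IsMulCommutative G := by
    intro h
    have hn : ((M : Subgroup G)).Normal := ⟨fun x hx g => by
      rwa [show g * x = x * g from mul_comm' g x, mul_inv_cancel_right]⟩
    rcases hn.eq_bot_or_eq_top with e | e
    · rw [e] at hM9; simp at hM9
    · rw [e] at hM9
      simp only [Subgroup.card_top] at hM9
      have := D.card_N
      have h72 : 72 ∣ Nat.card G := this ▸ Subgroup.card_subgroup_dvd_card _
      rw [hM9] at h72
      norm_num at h72
  rcases D.order_cases with h | h
  · rcases CfsgLib.OrderBound.card_of_le hna (by omega) with e | e | e | e | e | e <;> omega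
  · haveI : Fact (Nat.Prime 19) := ⟨by norm_num⟩
    obtain ⟨P⟩ := (inferInstance : Nonempty (Sylow 19 G))
    have hP : Nat.card ↥(P : Subgroup G) = 19 := by
      rw [P.card_eq_multiplicity, h, show (1368 : ℕ) = 19 ^ 1 * 72 by norm_num,
        Nat.factorization_mul (by norm_num) (by norm_num)]
      simp only [Finsupp.coe_add, Pi.add_apply]
      rw [Nat.Prime.factorization_pow (by norm_num : Nat.Prime 19), Finsupp.single_eq_same,
        Nat.factorization_eq_zero_of_not_dvd (show ¬ 19 ∣ 72 by norm_num)]
      norm_num
    have h1 := card_sylow_modEq_one 19 G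
    have h2 := P.card_dvd_index
    have hidx : (P : Subgroup G).index = 72 := by
      have := Subgroup.card_mul_index (P : Subgroup G)
      rw [hP, h] at this
      omega
    rw [hidx] at h2
    have h3 : Nat.card (Sylow 19 G) = 1 := by
      have := Nat.le_of_dvd (by norm_num) h2
      generalize Nat.card (Sylow 19 G) = k at *
      unfold Nat.ModEq at h1
      interval_cases k <;> omega
    haveI : Subsingleton (Sylow 19 G) := (Nat.card_eq_one_iff_unique.1 h3).1
    have hn : ((P : Subgroup G)).Normal := P.normal_of_subsingleton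
    rcases hn.eq_bot_or_eq_top with e | e
    · rw [e] at hP; simp at hP
    · rw [e] at hP; simp only [Subgroup.card_top] at hP; omega

end Cfsg.Agent.S3716
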