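import Cfsg.Statements.S3342
import Cfsg.Agent.PSpFourRec.Main

set_option autoImplicit false
open Cfsg

namespace Cfsg.Agent.S3342

/-- Let G be a finite group and a ∈ G an element of order 3 whose centralizer C has O₃(C) extraspecial of order 27 and exponent 3 with C/O₃(C) isomorphic to SL(2,3), and suppose some elementary abelian J ≤ C of order 27 normalizes no non-trivial subgroup of G of order prime to 3. If a is not conjugate to its inverse, then G has a normal subgroup of index 3 or G is isomorphic to PSp(4,3). If a is conjugate to its inverse, then ⟨a⟩ is normal in G, or G is isomorphic to the full automorphism group of PSp(4,3), or G is isomorphic to Sp(6,2). -/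
theorem result {G : Type*} [Group G] [Finite G]
    (a : G) (ha : orderOf a = 3) (C : Subgroup G) (hC : C = Subgroup.centralizer ({a} : Set G))
    (hR : Cfsg.IsExtraspecial 3 (Cfsg.pCore 3 C)) (hRcard : Nat.card (Cfsg.pCore 3 C) = 27)
    (hRexp : ∀ r ∈ Cfsg.pCore 3 C, r ^ 3 = 1)
    (e : C ⧸ Cfsg.pCore 3 C ≃* Matrix.SpecialLinearGroup (Fin 2) (ZMod 3))
    (J : Subgroup G) (hJC : J ≤ C) (hJcomm : IsMulCommutative J) (hJexp : ∀ j ∈ J, j ^ 3 = 1) (hJcard : Nat.card J = 27)
    (hJsig : ∀ K : Subgroup G, (Nat.card K).Coprime 3 → (∀ j ∈ J, K.map (MulAut.conj j).toMonoidHom = K) → K = ⊥)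
    (F : Type*) [Field F] [Fintype F] (hF : Fintype.card F = 3)
    (F₂ : Type*) [Field F₂] [Fintype F₂] (hF₂ : Fintype.card F₂ = 2) :
    ((∀ g : G, g * a * g⁻¹ ≠ a⁻¹) →
      (∃ N : Subgroup G, N.Normal ∧ N.index = 3) ∨ Nonempty (G ≃* Cfsg.PSp 2 F)) ∧
    ((∃ g : G, g * a * g⁻¹ = a⁻¹) →
      Subgroup.normalizer (Subgroup.zpowers a : Set G) = ⊤ ∨ Nonempty (G ≃* MulAut (Cfsg.PSp 2 F)) ∨
        Nonempty (G ≃* Matrix.symplecticGroup (Fin 3) F₂)) := by
  exact CfsgLib.PSpFourRec.recognition a ha C hC hR hRcard hRexp e J hJC hJcomm hJexp hJcard hJsig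
    F hF F₂ hF₂

end Cfsg.Agent.S3342
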