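import Cfsg.Statements.S3345
import Cfsg.Agent.O8Plus.Closing
import Cfsg.Agent.O8Plus.Relabel
import Cfsg.Agent.LargeExtra.NoFusion

set_option autoImplicit false
open Cfsg

namespace Cfsg.Agent.S3345

/-- Let G be a finite group with O^2(G) = G and an involution t with centralizer C such that F*(C) is extraspecial of order 2^9, C/O₂(C) is isomorphic to Sym(3) × Sym(3) × Sym(3), and C_G(O₂(C)) ≤ O₂(C). Then either the image of t is central in G/O_{2'}(G), or G is isomorphic to Ω⁺(8,2), the commutator subgroup of the isometry group of the hyperbolic quadratic form in dimension 8 over the field with 2 elements. -/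
theorem result {G : Type*} [Group G] [Finite G]
    (hG : Cfsg.pResidual 2 G = ⊤) (t : G) (ht : orderOf t = 2)
    (C : Subgroup G) (hC : C = Subgroup.centralizer ({t} : Set G))
    (hF : Cfsg.IsExtraspecial 2 (Cfsg.generalizedFittingSubgroup C))
    (hFcard : Nat.card (Cfsg.generalizedFittingSubgroup C) = 2 ^ 9)
    (e : C ⧸ Cfsg.pCore 2 C ≃* Equiv.Perm (Fin 3) × Equiv.Perm (Fin 3) × Equiv.Perm (Fin 3))
    (hcc : Subgroup.centralizer (((Cfsg.pCore 2 C).map C.subtype : Subgroup G) : Set G) ≤ (Cfsg.pCore 2 C).map C.subtype) :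
    (∀ g : G, g * t * g⁻¹ * t⁻¹ ∈ Cfsg.oddCore G) ∨
      Nonempty (G ≃* Cfsg.Omega (ZMod 2) (Cfsg.quadFormPlus 4 (ZMod 2))) := by
  subst hC
  obtain ⟨V, iV, ⟨D⟩⟩ := CfsgLib.O8Plus.exists_base t ht hF hFcard e
  by_cases hfus : ∀ g : G, g * t * g⁻¹ ∈ D.Q → g * t * g⁻¹ = t
  · -- without fusion there would be a character of order two
    exfalso
    let φ : ↥(Subgroup.centralizer ({t} : Set G)) →* ℤˣ :=
      MonoidHom.mk' (fun c => Equiv.Perm.sign (D.ph c 0)) fun a b => by
        rw [show ((a * b : ↥(Subgroup.centralizer ({t} : Set G))) : G) = (a : G) * (b : G) from rfl,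
          D.ph_mul _ _ (Subgroup.mem_centralizer_singleton_iff.1 a.2)
            (Subgroup.mem_centralizer_singleton_iff.1 b.2), Pi.mul_apply, map_mul]
    obtain ⟨c, hc, hc'⟩ := D.ph_surj (Pi.mulSingle 0 (Equiv.swap 0 1))
    have h1 : φ ⟨c, Subgroup.mem_centralizer_singleton_iff.2 hc⟩ = 1 :=
      CfsgLib.NoFusion.char_eq_one D.pre φ hG Int.units_mul_self D.twoQ (n := 4) (by norm_num)
        (by rw [D.card]; norm_num) hfus _
    simp [φ, hc'] at h1
  push Not at hfus
  obtain ⟨g, hg, hne⟩ := hfus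
  obtain ⟨F, hFQ, -⟩ := CfsgLib.O8Plus.exists_frame D hg hne
  obtain ⟨Gd, hGd⟩ := F.exists_good
  obtain ⟨E, hEQ⟩ := Gd.exists_emb
  have hQ : E.Q = D.Q := hEQ.trans (hGd.trans hFQ)
  obtain ⟨K, -⟩ := E.core ht (hQ ▸ D.twoQ) fun z hz => by
    rw [hQ] at hz
    exact D.pre.gen.center_iff z
      (D.pre.self (Subgroup.mem_centralizer_iff.2 fun q hq => (hz q hq).symm.eq))
      fun q hq => hz q hq
  exact Or.inr ⟨(MulEquiv.ofBijective K.f ⟨K.inj,
    K.surjective ⟨CfsgLib.O8Plus.exists_relabel_two, CfsgLib.O8Plus.exists_relabel_three⟩⟩).symm⟩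

end Cfsg.Agent.S3345
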