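import Cfsg.Statements.S0125
import Cfsg.Agent.Transfer.HallFocal

set_option autoImplicit false
set_option linter.deprecated false
set_option linter.style.haveILetI false
set_option linter.unusedVariables false
open Cfsg
open scoped Pointwise

namespace Cfsg.Agent.S0125

/-- The centralizer of a self-centralizing normal subgroup A of a Sylow p-subgroup is the direct product of A with a normal p'-subgroup. -/
theorem result {G : Type*} [Group G] [Finite G] {p : ℕ} [Fact p.Prime] (R : Sylow p G) (A : Subgroup G) (hAR : A ≤ (R : Subgroup G)) (hAn : (R : Subgroup G) ≤ Subgroup.normalizer (A : Set G)) (hC : (R : Subgroup G) ⊓ Subgroup.centralizer (A : Set G) = A) : ∃ H : Subgroup G, H ≤ Subgroup.centralizer (A : Set G) ∧ Nat.Coprime (Nat.card H) p ∧ Subgroup.centralizer (A : Set G) ≤ Subgroup.normalizer (H : Set G) ∧ H ⊓ A = ⊥ ∧ H ⊔ A = Subgroup.centralizer (A : Set G) := by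
  set C := Subgroup.centralizer (A : Set G) with hCdef
  have hAC : A ≤ C := fun a ha => (hC.ge ha).2
  have hRN : (R : Subgroup G) ≤ Subgroup.normalizer (C : Set G) := by
    intro r hr
    rw [Subgroup.mem_normalizer_iff]
    intro x
    have hA := Subgroup.mem_normalizer_iff.1 (hAn hr)
    simp only [hCdef, Subgroup.mem_centralizer_iff, SetLike.mem_coe]
    constructor
    · intro hx a ha
      have := hx (r⁻¹ * a * r) ((hA _).2 (by simpa [mul_assoc] using ha))
      calc a * (r * x * r⁻¹) = r * ((r⁻¹ * a * r) * x) * r⁻¹ := by group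
        _ = r * (x * (r⁻¹ * a * r)) * r⁻¹ := by rw [this]
        _ = r * x * r⁻¹ * a := by group
    · intro hx a ha
      have := hx (r * a * r⁻¹) ((hA a).1 ha)
      calc a * x = r⁻¹ * ((r * a * r⁻¹) * (r * x * r⁻¹)) * r := by group
        _ = r⁻¹ * ((r * x * r⁻¹) * (r * a * r⁻¹)) * r := by rw [this]
        _ = x * a := by group
  have hidx : ¬ p ∣ (A.subgroupOf C).index := by
    have hdvd : Nat.card ↥((R : Subgroup G) ⊔ C) ∣ Nat.card G := Subgroup.card_subgroup_dvd_card _
    have h1 := CfsgLib.Solvable.card_sup_mul_card_inf hRN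
    rw [hC] at h1
    have h2 := Subgroup.card_mul_index (A.subgroupOf C)
    rw [Nat.card_congr (Subgroup.subgroupOfEquivOfLe hAC).toEquiv] at h2
    have h5 : Nat.card ↥((R : Subgroup G) ⊔ C) = Nat.card (R : Subgroup G) * (A.subgroupOf C).index := by
      apply Nat.eq_of_mul_eq_mul_right (Nat.card_pos (α := A))
      rw [h1, ← h2]; ring
    rw [h5, ← Subgroup.card_mul_index (R : Subgroup G)] at hdvd
    exact fun h => R.not_dvd_index (h.trans (Nat.dvd_of_mul_dvd_mul_left Nat.card_pos hdvd))
  have hAp : IsPGroup p (A.subgroupOf C) := (R.2.to_le hAR).comap_subtype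
  let S : Sylow p C := hAp.toSylow hidx
  have hS : (S : Subgroup C) = A.subgroupOf C := rfl
  have hcen : (S : Subgroup C) ≤ Subgroup.center C := by
    intro x hx
    rw [Subgroup.mem_center_iff]
    intro y
    exact Subtype.ext ((Subgroup.mem_centralizer_iff.1 y.2) (x : G) hx).symm
  have hle : Subgroup.normalizer ((S : Subgroup C) : Set C) ≤ Subgroup.centralizer ((S : Subgroup C) : Set C) :=
    fun y _ => Subgroup.mem_centralizer_iff.2 fun x hx => (Subgroup.mem_center_iff.1 (hcen hx) y).symm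
  obtain ⟨N, hN, hNc⟩ : ∃ N : Subgroup C, N.Normal ∧ N.IsComplement' (S : Subgroup C) :=
    ⟨_, inferInstance, MonoidHom.ker_transferSylow_isComplement' S hle⟩
  refine ⟨N.map C.subtype, Subgroup.map_subtype_le _, ?_, ?_, ?_, ?_⟩
  · rw [Subgroup.card_map_of_injective C.subtype_injective, ← hNc.index_eq_card]
    exact CfsgLib.PResidual.coprime_of_not_dvd Fact.out hidx
  · intro c hc
    rw [Subgroup.mem_normalizer_iff]
    intro x
    constructor
    · rintro ⟨y, hy, rfl⟩
      exact ⟨⟨c, hc⟩ * y * ⟨c, hc⟩⁻¹, hN.conj_mem y hy _, rfl⟩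
    · rintro ⟨y, hy, hyx⟩
      have hyx' : (y : G) = c * x * c⁻¹ := hyx
      refine ⟨⟨c, hc⟩⁻¹ * y * ⟨c, hc⟩, by simpa using hN.conj_mem y hy ⟨c, hc⟩⁻¹, ?_⟩
      simp [hyx', mul_assoc]
  · rw [← Subgroup.map_subgroupOf_eq_of_le hAC, ← Subgroup.map_inf_eq _ _ _ C.subtype_injective, ← hS, hNc.disjoint.eq_bot, Subgroup.map_bot]
  · rw [← Subgroup.map_subgroupOf_eq_of_le hAC, ← Subgroup.map_sup, ← hS, hNc.sup_eq_top,
      ← MonoidHom.range_eq_map, Subgroup.range_subtype]


end Cfsg.Agent.S0125
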