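import Cfsg.Statements.S4931
import Cfsg.Agent.Char.Inflation
import Cfsg.Agent.Char.Kernel
import Cfsg.Agent.Char.DegreeRatio
import Cfsg.Agent.Char.Orthogonality
import Cfsg.Agent.Solvable.NormalizerComplement
import Cfsg.Prelude.Def_Blocks

set_option autoImplicit false
open Cfsg

namespace Cfsg.Agent.S4931

open CfsgLib.Char
open scoped commutatorElement

universe u

variable {G : Type u} [Group G] [Finite G]

/-- Outside a normal subgroup containing `[P, P]`, characters of degree prime to `p` separate. -/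
theorem exists_sep {p : ℕ} [Fact p.Prime] (A M : Subgroup G) [A.Normal] [M.Normal]
    (hA : ¬ p ∣ A.index) (hAM : ⁅A, A⁆ ≤ M) {x : G} (hx : x ∉ M) :
    ∃ θ : Cfsg.IrrCharacter G, ¬ p ∣ Cfsg.charDegree (θ : G → ℂ) ∧
      (∀ m ∈ M, (θ : G → ℂ) m = (θ : G → ℂ) 1) ∧ (θ : G → ℂ) x ≠ (θ : G → ℂ) 1 := by
  have hne : ¬ IsConj (QuotientGroup.mk' M x) 1 := fun h => hx (by
    rw [isConj_one_left] at h
    exact (QuotientGroup.eq_one_iff x).1 h)
  rw [isConj_iff_irr_eq] at hne
  push_neg at hne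
  obtain ⟨ψ, hψ, hne⟩ := hne
  refine ⟨⟨inflate M ψ, IsIrrCharacter.inflate M hψ⟩, ?_, fun m hm => inflate_apply_mem M ψ hm, hne⟩
  obtain ⟨n, ρ, hρ, rfl⟩ := hψ
  haveI := hρ
  haveI : (A.map (QuotientGroup.mk' M)).Normal :=
    Subgroup.Normal.map inferInstance _ (QuotientGroup.mk'_surjective M)
  have h1 := finrank_dvd_index_of_abelian ρ (A.map (QuotientGroup.mk' M)) (by
    rintro _ ⟨a, ha, rfl⟩ _ ⟨b, hb, rfl⟩
    rw [← map_mul, ← map_mul, QuotientGroup.mk'_eq_mk']
    refine ⟨(a * b)⁻¹ * (b * a), hAM ?_, by group⟩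
    have := Subgroup.commutator_mem_commutator (inv_mem hb) (inv_mem ha)
    simpa [commutatorElement_def, mul_assoc] using this)
  have h2 : Cfsg.charDegree (inflate M ρ.character) = n := by
    simp [Cfsg.charDegree, inflate, Representation.char_one]
  rw [h2]
  rw [Module.finrank_fin_fun] at h1
  exact fun h => hA ((h.trans h1).trans
    (Subgroup.index_map_dvd _ (QuotientGroup.mk'_surjective M)))

/-- If characters of `N` extend, the normal closure of `M` meets `N` in `M`. -/
theorem normalClosure_inf {p : ℕ} [Fact p.Prime] {N : Subgroup G}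
    (hext : ∀ θ : Cfsg.IrrCharacter N, ¬ p ∣ Cfsg.charDegree (θ : N → ℂ) →
      ∃ χ : Cfsg.IrrCharacter G, ∀ x : N, (χ : G → ℂ) x = (θ : N → ℂ) x)
    (A M : Subgroup N) [A.Normal] [M.Normal] (hA : ¬ p ∣ A.index) (hAM : ⁅A, A⁆ ≤ M)
    {x : N} (hx : (x : G) ∈ Subgroup.normalClosure ((M.map N.subtype : Subgroup G) : Set G)) :
    x ∈ M := by
  by_contra hxM
  obtain ⟨θ, hθ, hM, hne⟩ := exists_sep A M hA hAM hxM
  obtain ⟨χ, hχ⟩ := hext θ hθ
  have hc := IsIrrCharacter.isCharacter χ.2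
  haveI := kerSubgroup_normal hc
  have hone : (χ : G → ℂ) 1 = (θ : N → ℂ) 1 := by simpa using hχ 1
  have hle : Subgroup.normalClosure ((M.map N.subtype : Subgroup G) : Set G) ≤ kerSubgroup hc := by
    refine Subgroup.normalClosure_le_normal ?_
    rintro _ ⟨m, hm, rfl⟩
    rw [SetLike.mem_coe, mem_kerSubgroup, hone, Subgroup.coe_subtype, hχ]
    exact hM m hm
  have := hle hx
  rw [mem_kerSubgroup, hone, hχ] at this
  exact hne this

/-- A Sylow normalizer all whose characters of degree prime to `p` extend has a normal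
complement. -/
theorem exists_complement {p : ℕ} [Fact p.Prime] (P : Sylow p G)
    (hext : ∀ θ : Cfsg.IrrCharacter ↥(Subgroup.normalizer ((P : Subgroup G) : Set G)),
      ¬ p ∣ Cfsg.charDegree (θ : ↥(Subgroup.normalizer ((P : Subgroup G) : Set G)) → ℂ) →
      ∃ χ : Cfsg.IrrCharacter G, ∀ x : ↥(Subgroup.normalizer ((P : Subgroup G) : Set G)),
        (χ : G → ℂ) x =
          (θ : ↥(Subgroup.normalizer ((P : Subgroup G) : Set G)) → ℂ) x) :
    ∃ K : Subgroup G, K.Normal ∧ K ⊔ Subgroup.normalizer ((P : Subgroup G) : Set G) = ⊤ ∧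
      K ⊓ Subgroup.normalizer ((P : Subgroup G) : Set G) = ⊥ := by
  classical
  set N := Subgroup.normalizer ((P : Subgroup G) : Set G)
  have hPN : (P : Subgroup G) ≤ N := Subgroup.le_normalizer
  set A : Subgroup N := (P : Subgroup G).subgroupOf N with hAdef
  haveI : A.Normal := Subgroup.normal_in_normalizer
  have hA : ¬ p ∣ A.index := fun h => P.not_dvd_index (h.trans (Subgroup.relIndex_dvd_index_of_le hPN))
  have hAmap : A.map N.subtype = (P : Subgroup G) := Subgroup.map_subgroupOf_eq_of_le hPN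
  obtain ⟨X, hX⟩ : ∃ X : Subgroup G,
      X = Subgroup.normalClosure (((⁅A, A⁆ : Subgroup N).map N.subtype : Subgroup G) : Set G) :=
    ⟨_, rfl⟩
  obtain ⟨Y, hY⟩ : ∃ Y : Subgroup G,
      Y = Subgroup.normalClosure ((A.map N.subtype : Subgroup G) : Set G) := ⟨_, rfl⟩
  haveI hXn : X.Normal := hX ▸ Subgroup.normalClosure_normal
  haveI hYn : Y.Normal := hY ▸ Subgroup.normalClosure_normal
  have hXN : ∀ x : N, (x : G) ∈ X → x ∈ ⁅A, A⁆ :=
    fun x hx => normalClosure_inf hext A ⁅A, A⁆ hA le_rfl (hX ▸ hx)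
  have hYN : ∀ x : N, (x : G) ∈ Y → x ∈ A :=
    fun x hx => normalClosure_inf hext A A hA (Subgroup.commutator_le_self A) (hY ▸ hx)
  have hPY : (P : Subgroup G) ≤ Y := fun a ha => hY ▸ Subgroup.subset_normalClosure (by
    rw [SetLike.mem_coe, hAmap]; exact ha)
  have hPX : ⁅(P : Subgroup G), (P : Subgroup G)⁆ ≤ X := fun a ha => hX ▸ Subgroup.subset_normalClosure (by
    rw [SetLike.mem_coe, Subgroup.map_commutator, hAmap]; exact ha)
  -- fusion in `Y` modulo `X`
  have hfus : ∀ y ∈ (P : Subgroup G), ∀ g ∈ Y, g * y * g⁻¹ ∈ (P : Subgroup G) →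
      y⁻¹ * (g * y * g⁻¹) ∈ ⁅(P : Subgroup G), (P : Subgroup G)⁆ := by
    intro y hy g hg hgy
    have hcomm : ∀ a ∈ (P : Subgroup G), ∀ b ∈ (P : Subgroup G), a * b * a⁻¹ * b⁻¹ ∈ X :=
      fun a ha b hb => hPX (Subgroup.commutator_mem_commutator ha hb)
    obtain ⟨C, hC⟩ : ∃ C : Subgroup G, ∀ c, c ∈ C ↔ c ∈ Y ∧
        QuotientGroup.mk' X c * QuotientGroup.mk' X y = QuotientGroup.mk' X y * QuotientGroup.mk' X c :=
      ⟨Y ⊓ (Subgroup.centralizer {QuotientGroup.mk' X y}).comap (QuotientGroup.mk' X),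
        fun c => by simp [Subgroup.mem_centralizer_singleton_iff]⟩
    have hc : ∀ a b : G, a * b * a⁻¹ * b⁻¹ ∈ X ↔
        QuotientGroup.mk' X a * QuotientGroup.mk' X b = QuotientGroup.mk' X b * QuotientGroup.mk' X a := by
      intro a b
      rw [← commutatorElement_eq_one_iff_mul_comm, ← map_commutatorElement, commutatorElement_def,
        QuotientGroup.mk'_apply, QuotientGroup.eq_one_iff]
    have h1 : (P : Subgroup G) ≤ C := fun a ha => (hC a).2 ⟨hPY ha, (hc a y).1 (hcomm a ha y hy)⟩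
    have hgP : ∀ a ∈ (P : Subgroup G), g⁻¹ * a * g ∈ C := fun a ha => (hC _).2
      ⟨by
        have := hYn.conj_mem a (hPY ha) g⁻¹
        simpa using this, by
        refine (hc _ _).1 ?_
        have := hXn.conj_mem _ (hcomm a ha _ hgy) g⁻¹
        simpa [mul_assoc] using this⟩
    have h2 : ((g⁻¹ • P : Sylow p G) : Subgroup G) ≤ C := by
      intro a ha
      rw [Sylow.coe_subgroup_smul, CfsgLib.SZ.mem_conj_smul] at ha
      simp only [inv_inv] at ha
      have := hgP _ ha
      simpa [mul_assoc] using this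
    obtain ⟨c, hcc⟩ := MulAction.exists_smul_eq C (P.subtype h1) ((g⁻¹ • P).subtype h2)
    rw [Sylow.smul_subtype] at hcc
    have hcc' := Sylow.subtype_injective hcc
    have hn : g * (c : G) ∈ N := by
      show g * (c : G) ∈ Subgroup.normalizer (P : Set G)
      rw [← Sylow.smul_eq_iff_mem_normalizer, mul_smul]
      rw [show (c : G) • P = g⁻¹ • P from hcc', smul_inv_smul]
    have hgc : g * (c : G) ∈ (P : Subgroup G) :=
      hYN ⟨_, hn⟩ (mul_mem hg ((hC _).1 c.2).1)
    have h3 : g ∈ C := by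
      have := mul_mem (h1 hgc) (inv_mem c.2)
      simpa using this
    have h4 : y⁻¹ * (g * y * g⁻¹) ∈ X := by
      have := hXn.conj_mem _ ((hc g y).2 ((hC g).1 h3).2) y⁻¹
      simpa [mul_assoc] using this
    have h5 := hXN ⟨_, hPN (mul_mem (inv_mem hy) hgy)⟩ h4
    have := Subgroup.mem_map_of_mem N.subtype h5
    rwa [Subgroup.map_commutator, hAmap] at this
  -- the normal complement of `Y`
  set PY : Sylow p Y := P.subtype hPY with hPYdef
  have hnpc : Cfsg.HasNormalPComplement p Y := by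
    refine CfsgLib.NormalizerComplement.hasNormalPComplement_of_focal PY ?_
    rw [Subgroup.focalSubgroup_def, Subgroup.closure_le]
    rintro a ⟨ha, b, hb, g, rfl⟩
    have hb' : (b : G) ∈ (P : Subgroup G) := by simpa [hPYdef, Subgroup.mem_subgroupOf] using hb
    have ha' : ((⁅b, g⁆ : Y) : G) ∈ (P : Subgroup G) := by
      simpa [hPYdef, Subgroup.mem_subgroupOf] using ha
    have hcg : ((⁅b, g⁆ : Y) : G) = (b : G) * ((g : G) * (b : G)⁻¹ * (g : G)⁻¹) := by
      simp [commutatorElement_def, mul_assoc]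
    rw [hcg] at ha'
    have h := hfus (b : G)⁻¹ (inv_mem hb') g g.2 ((Subgroup.mul_mem_cancel_left _ hb').1 ha')
    rw [inv_inv, ← hcg] at h
    have hmap : (⁅(PY : Subgroup Y), (PY : Subgroup Y)⁆).map Y.subtype =
        ⁅(P : Subgroup G), (P : Subgroup G)⁆ := by
      rw [Subgroup.map_commutator, hPYdef, Sylow.coe_subtype, Subgroup.map_subgroupOf_eq_of_le hPY]
    rw [← hmap] at h
    obtain ⟨w, hw, hwe⟩ := h
    rwa [Subtype.ext hwe] at hw
  obtain ⟨L, hL⟩ : ∃ L : Subgroup G,
      L = Subgroup.closure {a : G | a ∈ Y ∧ (orderOf a).Coprime p} := ⟨_, rfl⟩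
  have hLeq : L = (Cfsg.pResidual p Y).map Y.subtype := by
    rw [hL, Cfsg.pResidual, MonoidHom.map_closure]
    congr 1
    ext a
    constructor
    · rintro ⟨haY, hao⟩
      exact ⟨⟨a, haY⟩, by simpa using hao, rfl⟩
    · rintro ⟨b, hb, rfl⟩
      exact ⟨b.2, by simpa using hb⟩
  have hcop : (Nat.card L).Coprime p := by
    rw [hLeq, Subgroup.card_map_of_injective Y.subtype_injective]
    exact CfsgLib.PResidual.hasNormalPComplement_iff.1 hnpc
  have hLn : L.Normal := by
    rw [hL]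
    refine ⟨fun a ha g => ?_⟩
    induction ha using Subgroup.closure_induction with
    | mem x hx =>
      refine Subgroup.subset_closure ⟨hYn.conj_mem x hx.1 g, ?_⟩
      rw [show g * x * g⁻¹ = MulAut.conj g x from rfl,
        ← MulEquiv.coe_toMonoidHom, orderOf_injective _ (MulEquiv.injective _)]
      exact hx.2
    | one => simp
    | mul a b _ _ ha hb =>
      have := mul_mem ha hb
      simpa [mul_assoc] using this
    | inv a _ ha => simpa [mul_assoc] using inv_mem ha
  refine ⟨L, hLn, ?_, ?_⟩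
  · have hY' : Y ≤ L ⊔ (P : Subgroup G) := by
      have h := (CfsgLib.PResidual.isComplement'_of_coprime_pResidual
        (CfsgLib.PResidual.hasNormalPComplement_iff.1 hnpc) PY).sup_eq_top
      have := congrArg (Subgroup.map Y.subtype) h
      rw [Subgroup.map_sup, ← hLeq, hPYdef, Sylow.coe_subtype,
        Subgroup.map_subgroupOf_eq_of_le hPY, ← MonoidHom.range_eq_map, Subgroup.range_subtype] at this
      exact this.ge
    have hF := Sylow.normalizer_sup_eq_top PY
    rw [hPYdef, Sylow.coe_subtype, Subgroup.map_subgroupOf_eq_of_le hPY] at hF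
    rw [eq_top_iff, ← hF, sup_le_iff]
    exact ⟨le_sup_right, hY'.trans (sup_le le_sup_left (hPN.trans le_sup_right))⟩
  · rw [eq_bot_iff]
    rintro a ⟨haL, haN⟩
    have haY : a ∈ Y := by
      rw [SetLike.mem_coe, hLeq] at haL
      obtain ⟨b, -, rfl⟩ := haL
      exact b.2
    have haP : a ∈ (P : Subgroup G) := hYN ⟨a, haN⟩ haY
    obtain ⟨j, hj⟩ := IsPGroup.iff_orderOf.1 P.2 ⟨a, haP⟩
    rw [Subgroup.orderOf_mk] at hj
    rw [Subgroup.mem_bot, ← orderOf_eq_one_iff]
    exact Nat.eq_one_of_dvd_coprimes (hcop.pow_right j)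
      (Subgroup.orderOf_dvd_natCard _ haL) hj.dvd

/-- Let G be a finite group, p a prime and P a Sylow p-subgroup of G with normalizer N. Then every irreducible complex character of N of degree not divisible by p is the restriction of an irreducible character of G if and only if there is a normal subgroup K of G with KN = G and K ∩ N = 1. -/
theorem result {G : Type*} [Group G] [Finite G] (p : ℕ) [Fact p.Prime] (P : Sylow p G) :
    (∀ θ : Cfsg.IrrCharacter ↥(Subgroup.normalizer ((P : Subgroup G) : Set G)), ¬ p ∣ Cfsg.charDegree (θ : ↥(Subgroup.normalizer ((P : Subgroup G) : Set G)) → ℂ) →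
        ∃ χ : Cfsg.IrrCharacter G, ∀ x : ↥(Subgroup.normalizer ((P : Subgroup G) : Set G)), (χ : G → ℂ) x = (θ : ↥(Subgroup.normalizer ((P : Subgroup G) : Set G)) → ℂ) x) ↔
      ∃ K : Subgroup G, K.Normal ∧ K ⊔ Subgroup.normalizer ((P : Subgroup G) : Set G) = ⊤ ∧ K ⊓ Subgroup.normalizer ((P : Subgroup G) : Set G) = ⊥ := by
  classical
  refine ⟨exists_complement P, ?_⟩
  rintro ⟨K, hK, hsup, hinf⟩
  haveI := hK
  set N := Subgroup.normalizer ((P : Subgroup G) : Set G)
  rintro ⟨θf, hθf⟩ -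
  have hbij : Function.Bijective ((QuotientGroup.mk' K).comp N.subtype) := by
    refine ⟨(injective_iff_map_eq_one _).2 fun x hx => ?_, fun y => ?_⟩
    · have : (x : G) ∈ K ⊓ N := ⟨(QuotientGroup.eq_one_iff _).1 hx, x.2⟩
      rw [hinf, Subgroup.mem_bot] at this
      exact Subtype.ext this
    · obtain ⟨g, rfl⟩ := QuotientGroup.mk'_surjective K y
      have hg : g ∈ ((K ⊔ N : Subgroup G) : Set G) := by rw [hsup]; trivial
      rw [Subgroup.normal_mul] at hg
      obtain ⟨k, hk, n, hn, rfl⟩ := Set.mem_mul.1 hg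
      refine ⟨⟨n, hn⟩, ?_⟩
      rw [map_mul, show QuotientGroup.mk' K k = 1 from (QuotientGroup.eq_one_iff k).2 hk, one_mul]
      rfl
  let e := MulEquiv.ofBijective _ hbij
  refine ⟨⟨inflate K (θf ∘ e.symm), IsIrrCharacter.inflate K
    (IsIrrCharacter.comp_surjective hθf e.symm.toMonoidHom e.symm.surjective)⟩, fun x => ?_⟩
  show θf (e.symm (QuotientGroup.mk (x : G))) = θf x
  exact congrArg _ (e.symm_apply_apply x)

end Cfsg.Agent.S4931
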