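import Cfsg.Statements.S1387
import Cfsg.Agent.OddLocal.FittingHall
-- import your own Cfsg.Agent.* helpers here

set_option autoImplicit false
open Cfsg

namespace Cfsg.Agent.S1387

/-- Let M be a subgroup of a finite group G with type-P data (W₁, U, W₂) and H = M_F. Then the Fitting subgroup F(M) is generated by H and the centralizer of H in U. -/
theorem result {G : Type*} [Group G] [Finite G] (M W₁ U W₂ : Subgroup G) (hP : Cfsg.IsTypePWith M W₁ U W₂) :
    Cfsg.fittingOf M = Cfsg.fittingHallOf M ⊔ (U ⊓ Subgroup.centralizer (Cfsg.fittingHallOf M : Set G)) := by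
  set H := Cfsg.fittingHallOf M
  have hM'M : ⁅M, M⁆ ≤ M := Subgroup.commutator_le_self _
  have hcop := CfsgLib.OddLocal.FittingHall.coprime_complIn hM'M hP.U_compl
  have hUM : U ≤ M := hP.U_compl.2.1.trans hM'M
  have hFnil : Group.IsNilpotent (Cfsg.fittingOf M) :=
    CfsgLib.CN.nilpotent_map CfsgLib.Solvable.isNilpotent_fittingSubgroup _
  have hHF : H ≤ Cfsg.fittingOf M := hP.fitting_eq ▸ le_sup_left
  refine le_antisymm (fun x hx => ?_) (sup_le hHF ?_)
  · obtain ⟨h, hh, u, hu, rfl⟩ := hP.U_compl.2.2.2 x (hP.fitting_le hx)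
    have huF : u ∈ Cfsg.fittingOf M := by simpa using mul_mem (inv_mem (hHF hh)) hx
    refine mul_mem (Subgroup.mem_sup_left hh) (Subgroup.mem_sup_right ⟨hu, Subgroup.mem_centralizer_iff.2 fun k hk => ?_⟩)
    exact (CfsgLib.CN.commute_in hFnil (hHF hk) huF
      ((hcop.coprime_dvd_left (H.orderOf_dvd_natCard hk)).coprime_dvd_right (U.orderOf_dvd_natCard hu))).eq
  · refine le_of_le_of_eq ?_ hP.fitting_eq
    exact (inf_le_inf_right _ hUM).trans le_sup_right

end Cfsg.Agent.S1387
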