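import Cfsg.Statements.S1388
import Cfsg.Agent.OddLocal.FittingHall
import Cfsg.Agent.Signalizer.Basic
-- import your own Cfsg.Agent.* helpers here

set_option autoImplicit false
open Cfsg

namespace Cfsg.Agent.S1388

/-- Let M be a subgroup of a finite group G with type-P data (W₁, U, W₂) and H = M_F. Then the derived subgroup of U centralizes H, and if U ≠ 1 then U does not centralize H. -/
theorem result {G : Type*} [Group G] [Finite G] (M W₁ U W₂ : Subgroup G) (hP : Cfsg.IsTypePWith M W₁ U W₂) :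
    ⁅U, U⁆ ≤ Subgroup.centralizer (Cfsg.fittingHallOf M : Set G) ∧ (U ≠ ⊥ → ¬ U ≤ Subgroup.centralizer (Cfsg.fittingHallOf M : Set G)) := by
  set H := Cfsg.fittingHallOf M
  set M' := ⁅M, M⁆
  have hM'M : M' ≤ M := Subgroup.commutator_le_self _
  have hcop := CfsgLib.OddLocal.FittingHall.coprime_complIn hM'M hP.U_compl
  have hUM' : U ≤ M' := hP.U_compl.2.1
  have hFnil : Group.IsNilpotent (Cfsg.fittingOf M) :=
    CfsgLib.CN.nilpotent_map CfsgLib.Solvable.isNilpotent_fittingSubgroup _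
  have hHF : H ≤ Cfsg.fittingOf M := hP.fitting_eq ▸ le_sup_left
  have hUC : ∀ u ∈ U, u ∈ Cfsg.fittingOf M → u ∈ Subgroup.centralizer (H : Set G) := fun u hu huF =>
    Subgroup.mem_centralizer_iff.2 fun k hk => (CfsgLib.CN.commute_in hFnil (hHF hk) huF
      ((hcop.coprime_dvd_left (H.orderOf_dvd_natCard hk)).coprime_dvd_right (U.orderOf_dvd_natCard hu))).eq
  refine ⟨fun u hu => hUC u (Subgroup.commutator_le_self _ hu) ?_, fun hU hle => hU (eq_bot_iff.2 fun u hu => ?_)⟩
  · exact hP.fitting_eq.le (hP.derived_two_le (Subgroup.commutator_mono hUM' hUM' hu))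
  -- otherwise `M'` is nilpotent and `U` is a normal Hall subgroup of `M`
  have hUF : U ≤ Cfsg.fittingOf M :=
    le_of_le_of_eq (le_trans (le_inf (hUM'.trans hM'M) hle) le_sup_right) hP.fitting_eq
  have hF : Cfsg.fittingOf M = M' := by
    refine le_antisymm hP.fitting_le fun x hx => ?_
    obtain ⟨h, hh, v, hv, rfl⟩ := hP.U_compl.2.2.2 x hx
    exact mul_mem (hHF hh) (hUF hv)
  have hmem : ∀ x ∈ M', (orderOf x).Coprime (Nat.card H) → x ∈ U := by
    intro x hx hco
    obtain ⟨h, hh, v, hv, rfl⟩ := hP.U_compl.2.2.2 x hx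
    have hc : Commute h v := CfsgLib.CN.commute_in hFnil (hHF hh) (hUF hv)
      ((hcop.coprime_dvd_left (H.orderOf_dvd_natCard hh)).coprime_dvd_right (U.orderOf_dvd_natCard hv))
    rw [hc.orderOf_mul_eq_mul_orderOf_of_coprime
      ((hcop.coprime_dvd_left (H.orderOf_dvd_natCard hh)).coprime_dvd_right (U.orderOf_dvd_natCard hv))] at hco
    have h1 : h = 1 := orderOf_eq_one_iff.1 (Nat.eq_one_of_dvd_coprimes hco (dvd_mul_right _ _) (H.orderOf_dvd_natCard hh))
    rwa [h1, one_mul]
  have hUn : M ≤ Subgroup.normalizer (U : Set G) := by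
    refine CfsgLib.Signalizer.le_normalizer_of_conj_mem fun m hm v hv => hmem _ ?_ ?_
    · have hn : M ≤ Subgroup.normalizer (M' : Set G) := Subgroup.normalizer_commutator_ge_left M M
      exact (Subgroup.mem_normalizer_iff.1 (hn hm) v).1 (hUM' hv)
    · rw [show orderOf (m * v * m⁻¹) = orderOf v from (MulAut.conj m).orderOf_eq v]
      exact (hcop.coprime_dvd_right (U.orderOf_dvd_natCard hv)).symm
  have hidx : U.relIndex M = Nat.card H * Nat.card W₁ := by
    refine Nat.eq_of_mul_eq_mul_left (Nat.card_pos (α := U)) ?_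
    rw [← mul_assoc, mul_comm (Nat.card U) (Nat.card H), ← CfsgLib.OddLocal.FittingHall.card_complIn hP.U_compl,
      ← CfsgLib.OddLocal.FittingHall.card_complIn hP.W₁_compl, ← Subgroup.relIndex_bot_left,
      Subgroup.relIndex_mul_relIndex _ _ _ bot_le (hUM'.trans hM'M), Subgroup.relIndex_bot_left]
  have hW : (Nat.card U).Coprime (Nat.card W₁) := by
    refine (hP.W₁_hall.coprime_dvd_right ?_).symm
    have h1 : W₁.relIndex M = Nat.card M' := by
      refine Nat.eq_of_mul_eq_mul_left (Nat.card_pos (α := W₁)) ?_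
      rw [mul_comm (Nat.card W₁) (Nat.card M'), ← CfsgLib.OddLocal.FittingHall.card_complIn hP.W₁_compl,
        ← Subgroup.relIndex_bot_left, Subgroup.relIndex_mul_relIndex _ _ _ bot_le hP.W₁_compl.2.1,
        Subgroup.relIndex_bot_left]
    rw [h1]
    exact Subgroup.card_dvd_of_le hUM'
  have huH : u ∈ H := CfsgLib.OddLocal.FittingHall.le_of (hUM'.trans hM'M) hUn hP.U_nilpotent
    (hidx ▸ Nat.Coprime.mul_right hcop.symm hW) hu
  rw [← hP.U_compl.2.2.1]
  exact ⟨huH, hu⟩

end Cfsg.Agent.S1388
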