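import Cfsg.Statements.S1379
import Cfsg.Agent.OddLocal.KappaPairApps
-- import your own Cfsg.Agent.* helpers here

set_option autoImplicit false
open Cfsg

namespace Cfsg.Agent.S1379

/-- Let G be a minimal simple group of odd order; for a maximal subgroup M write M̃ for the union of the G-conjugates of the cosets x R(x), x ≠ 1 in M_σ. Then M̃ ∩ Ñ = ∅ for non-conjugate maximal M, N; if every maximal subgroup has κ empty, every g ≠ 1 lies in some M̃; and if M = K U M_σ has K ≠ 1 with Ẑ = K K* − (K ∪ K*), then every g ≠ 1 lies in some Ñ or in a conjugate of Ẑ, and no conjugate of an element of Ẑ lies in any Ñ. -/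
theorem result {G : Type*} [Group G] [Finite G] (hG : Cfsg.IsMinSimpleOddOrder G) :
    (∀ M N : Subgroup G, IsCoatom M → IsCoatom N → (∀ g : G, N ≠ M.map (MulAut.conj g).toMonoidHom) → Cfsg.tildeOf M ((Cfsg.sigmaCore M : Set G) \ {1}) ∩ Cfsg.tildeOf N ((Cfsg.sigmaCore N : Set G) \ {1}) = ∅) ∧
      ((∀ M : Subgroup G, IsCoatom M → Cfsg.kappa M = ∅) →
        ∀ g : G, g ≠ 1 → ∃ M : Subgroup G, IsCoatom M ∧ g ∈ Cfsg.tildeOf M ((Cfsg.sigmaCore M : Set G) \ {1})) ∧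
      ∀ (M K U : Subgroup G), IsCoatom M → Cfsg.IsSigmaDecomposition M K U → K ≠ ⊥ →
        (∀ g : G, g ≠ 1 → (∃ N : Subgroup G, IsCoatom N ∧ g ∈ Cfsg.tildeOf N ((Cfsg.sigmaCore N : Set G) \ {1})) ∨
            ∃ y : G, ∃ z ∈ ((↑(K ⊔ (Cfsg.sigmaCore M ⊓ Subgroup.centralizer (K : Set G))) : Set G) \ ((K : Set G) ∪ ↑(Cfsg.sigmaCore M ⊓ Subgroup.centralizer (K : Set G)))), g = y * z * y⁻¹) ∧
        ∀ N : Subgroup G, IsCoatom N → ∀ y : G, ∀ z ∈ ((↑(K ⊔ (Cfsg.sigmaCore M ⊓ Subgroup.centralizer (K : Set G))) : Set G) \ ((K : Set G) ∪ ↑(Cfsg.sigmaCore M ⊓ Subgroup.centralizer (K : Set G)))), y * z * y⁻¹ ∉ Cfsg.tildeOf N ((Cfsg.sigmaCore N : Set G) \ {1}) := by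
  refine ⟨fun M N hM hN h => CfsgLib.OddLocal.Kap.tilde_disjoint hG hM hN h, fun hall g hg => ?_,
    fun M K U hM hKU hK1 => ?_⟩
  · rcases CfsgLib.OddLocal.Kap.covered hG hg with h | ⟨M, H, hM, hH, hH1, -⟩
    · exact h
    · exfalso
      refine hH1 (Subgroup.eq_bot_of_card_eq _ (Nat.eq_one_iff_not_exists_prime_dvd.2 fun p hp hd => ?_))
      have h := hH.2.1 p hp hd
      rw [hall M hM] at h
      exact Set.notMem_empty p h
  obtain ⟨N, hN, hNH, hHe, -, -⟩ := CfsgLib.OddLocal.Kap.exists_partner hG hM hKU.hall hK1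
  have hmix := CfsgLib.OddLocal.Kap.mixed_eq hG hM hKU.hall hK1 hN hNH hHe
  refine ⟨fun g hg => ?_, fun L hL y z hz => CfsgLib.OddLocal.Kap.mixed_not_covered hG hM hKU.hall hK1
    (by rw [hmix]; exact hz) hL y⟩
  rcases CfsgLib.OddLocal.Kap.covered hG hg with h | ⟨M₁, H, hM₁, hH, hH1, c, hc⟩
  · exact Or.inl h
  by_cases hcov : ∃ L : Subgroup G, IsCoatom L ∧ g ∈ Cfsg.tildeOf L ((Cfsg.sigmaCore L : Set G) \ {1})
  · exact Or.inl hcov
  refine Or.inr ?_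
  obtain ⟨d, hd⟩ := CfsgLib.OddLocal.Kap.mixed_conj hG hM hKU.hall hK1 hN hNH hHe hM₁ hH hH1 hc
  exact ⟨(d * c)⁻¹, d * (c * g * c⁻¹) * d⁻¹, hmix ▸ hd, by group⟩

end Cfsg.Agent.S1379
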