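import Cfsg.Statements.S1542
import Cfsg.Agent.OddLocal.KappaDade
import Cfsg.Agent.Char.DadeIntegral
import Cfsg.Agent.Char.DadeMap
import Cfsg.Agent.Char.OddFrobeniusCoherence
import Cfsg.Agent.Char.FeitCoherence
import Cfsg.Agent.Solvable.FpfComplement
import Mathlib.GroupTheory.SpecificGroups.ZGroup

set_option autoImplicit false
open Cfsg

namespace Cfsg.Agent.S1542

open CfsgLib.Char in
/-- When every `R(a)` is trivial and `A` is a TI-set, the Dade map is induction. -/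
theorem dade_eq_indFun {G : Type*} [Group G] [Fintype G] {A : Set G} {L : Subgroup G} [Fintype L]
    {H : G → Subgroup G} (hD : Cfsg.DadeHypothesis A L H) (hH : ∀ a ∈ A, H a = ⊥)
    (hTI : ∀ g : G, g ∉ L → ∀ t ∈ A, g * t * g⁻¹ ∈ A → t = 1) {α : L → ℂ}
    (hα : Cfsg.IsClassFunction L α) (hαA : ∀ x : L, (x : G) ∉ A → α x = 0) :
    Cfsg.dadeIsometry A L H α = Cfsg.indFun L α := by
  classical
  funext g
  by_cases hg : ∃ a ∈ A, ∃ x : G, x * g * x⁻¹ = a
  · obtain ⟨a, ha, x, hx⟩ := hg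
    have h2 := isClassFunction_indFun L α g x
    rw [hx] at h2
    rw [← h2, indFun_apply_TI hTI hα hαA ⟨a, hD.subset ha⟩ ha
        (fun e => hD.one_not_mem (by rw [← show a = 1 from congrArg Subtype.val e]; exact ha)),
      dadeIsometry_apply hD hα (a := ⟨a, hD.subset ha⟩) ha (H a).one_mem (by rw [mul_one]; exact hx)]
  · rw [dadeIsometry_eq_zero hD, Cfsg.indFun, Finset.sum_eq_zero, mul_zero]
    · intro x _
      by_cases hm : x⁻¹ * g * x ∈ L
      · rw [extendByZero_of_mem α hm]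
        exact hαA _ fun h => hg ⟨_, h, x⁻¹, by rw [inv_inv]⟩
      · exact extendByZero_of_not_mem α hm
    · rintro ⟨a, ha, u, hu, x, hx⟩
      rw [hH a ha, Subgroup.mem_bot] at hu
      exact hg ⟨a, ha, x, by rw [hx, hu, mul_one]⟩

/-- Let G be a minimal simple group of odd order and L a maximal subgroup of Type I in which every non-identity element of H = L_F has its centraliser within L inside H. Let S be the set of functions on L induced from non-principal irreducible characters of H. Then every member of S is an irreducible character of L, and (S, L minus 1, τ) is coherent for τ the Dade map relative to A(L), L and a ↦ R(a). -/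
theorem result {G : Type*} [Group G] [Fintype G] (hG : Cfsg.IsMinSimpleOddOrder G) (L : Subgroup G) [Fintype L] (hL : IsCoatom L) (hI : Cfsg.IsOfTypeI L) (hfrob : ∀ x ∈ Cfsg.fittingHallOf L, x ≠ 1 → L ⊓ Subgroup.centralizer ({x} : Set G) ≤ Cfsg.fittingHallOf L) : (∀ χ ∈ Cfsg.inducedIrrAbove (Cfsg.fittingHall L) ⊥, Cfsg.IsIrrCharacter L χ) ∧ Cfsg.IsCoherent (Cfsg.inducedIrrAbove (Cfsg.fittingHall L) ⊥) {1}ᶜ (Cfsg.dadeIsometry (Cfsg.typeA L) L (Cfsg.supportR L)) := by
  classical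
  set K := Cfsg.fittingHall L with hKdef
  set H := Cfsg.fittingHallOf L with hHdef
  have hHK : H.subgroupOf L = K :=
    Subgroup.comap_map_eq_self_of_injective (Subgroup.subtype_injective L) K
  have hHL : H ≤ L := Subgroup.map_subtype_le _
  have hmemH : ∀ x : L, x ∈ K ↔ (x : G) ∈ H := fun x => by rw [← hHK]; rfl
  obtain ⟨⟨hsolv, hodd, hK1, hK2, U, hU1, hU, -, -⟩, hcase⟩ := id hI
  haveI := hsolv
  haveI hKn : K.Normal := inferInstance
  have hKL : K < ⊤ := lt_top_iff_ne_top.2 hK2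
  have hC : ∀ a ∈ K, a ≠ 1 → Subgroup.centralizer ({a} : Set L) ≤ K := fun a ha ha1 x hx => by
    rw [hmemH]
    refine hfrob a ((hmemH a).1 ha) (fun h => ha1 (Subtype.ext h)) ⟨x.2, ?_⟩
    exact Subgroup.mem_centralizer_singleton_iff.2
      (congrArg Subtype.val (Subgroup.mem_centralizer_singleton_iff.1 hx))
  -- the support of `L`
  set A := Cfsg.typeA L with hAdef
  have hAmem : ∀ a : G, a ∈ A ↔ a ∈ H ∧ a ≠ 1 := by
    intro a
    rw [hAdef, Cfsg.typeA, if_pos hI]
    refine ⟨fun ⟨haL, ha1, x, hx, hx1, hax⟩ => ⟨hfrob x hx hx1 ⟨haL, ?_⟩, ha1⟩,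
      fun ⟨ha, ha1⟩ => ⟨hHL ha, ha1, a, ha, ha1, rfl⟩⟩
    exact Subgroup.mem_centralizer_singleton_iff.2 hax
  have hinv : ∀ m ∈ L, ∀ a ∈ A, m * a * m⁻¹ ∈ A := fun m hm a ha => by
    rw [hAmem] at ha ⊢
    exact ⟨(hmemH (⟨m, hm⟩ * ⟨a, hHL ha.1⟩ * ⟨m, hm⟩⁻¹)).1
      (hKn.conj_mem _ ((hmemH _).2 ha.1) _), fun h => ha.2 (conj_eq_one_iff.1 h)⟩
  have hD : Cfsg.DadeHypothesis A L (Cfsg.supportR L) :=
    CfsgLib.OddLocal.Kap.dade_of_subset hG hL Set.subset_union_left hinv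
  set τ := Cfsg.dadeIsometry A L (Cfsg.supportR L) with hτdef
  set S := Cfsg.inducedIrrAbove K ⊥ with hSdef
  have hSeq := CfsgLib.Char.inducedIrrAbove_bot_eq (A := K) hC
  have hirr : ∀ χ ∈ S, Cfsg.IsIrrCharacter L χ := fun χ hχ => by
    rw [hSdef, hSeq] at hχ; exact hχ.1
  refine ⟨hirr, ?_⟩
  have hspan : ∀ α ∈ Cfsg.zspanOn S ({1}ᶜ : Set L),
      Cfsg.IsGeneralizedCharacter L α ∧ ∀ x : L, (x : G) ∉ A → α x = 0 := by
    intro α hα
    have hgen : Cfsg.IsGeneralizedCharacter L α ∧ ∀ x : L, x ∉ K → α x = 0 := by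
      obtain ⟨hα, -⟩ := hα
      induction hα using Submodule.span_induction with
      | mem φ hφ =>
        obtain ⟨θ, h1, -, -, rfl⟩ := hφ
        exact ⟨CfsgLib.Char.IsGeneralized.indFun (CfsgLib.Char.IsIrrCharacter.isGeneralized h1),
          fun x hx => CfsgLib.Char.indFun_eq_zero_of_normal θ hx⟩
      | zero => exact ⟨CfsgLib.Char.isGeneralized_zero, fun _ _ => rfl⟩
      | add a b _ _ h1 h2 => exact ⟨CfsgLib.Char.IsGeneralized.add h1.1 h2.1, fun x hx => by
          rw [Pi.add_apply, h1.2 x hx, h2.2 x hx, add_zero]⟩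
      | smul n a _ h => exact ⟨CfsgLib.Char.IsGeneralized.zsmul h.1 n, fun x hx => by
          rw [Pi.smul_apply, h.2 x hx, smul_zero]⟩
    refine ⟨hgen.1, fun x hx => ?_⟩
    rcases eq_or_ne x 1 with rfl | hx1
    · exact (CfsgLib.Char.mem_zspanOn_one.1 hα).2
    · exact hgen.2 x fun h => hx ((hAmem x).2 ⟨(hmemH x).1 h, fun e => hx1 (Subtype.ext e)⟩)
  have hcl : ∀ α ∈ Cfsg.zspanOn S ({1}ᶜ : Set L), Cfsg.IsClassFunction L α := fun α hα =>
    CfsgLib.Char.IsGeneralized.isClassFunction (hspan α hα).1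
  have hτ1 : ∀ α ∈ Cfsg.zspanOn S ({1}ᶜ : Set L), τ α 1 = 0 := fun α _ =>
    CfsgLib.Char.dadeIsometry_apply_one hD
  have hτ : Cfsg.IsLinearIsometryOn (Cfsg.zspanOn S ({1}ᶜ : Set L)) τ := by
    refine ⟨fun α _ β _ => ?_, fun α _ n => ?_, fun α hα β hβ =>
      CfsgLib.Char.classInner_dadeIsometry_dadeIsometry hD (hcl α hα) (hspan α hα).2 (hcl β hβ),
      fun α hα => CfsgLib.Char.isGeneralized_dadeIsometry hD (hspan α hα).1 (hspan α hα).2⟩
    all_goals
      funext g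
      simp only [hτdef, Cfsg.dadeIsometry, Pi.add_apply, Pi.smul_apply]
      split_ifs <;> simp
  have hoddL : Odd (Nat.card L) := hodd
  haveI : Nontrivial K := (Subgroup.nontrivial_iff_ne_bot K).2 hK1
  have hne : Nat.card K ≠ K.index + 1 := fun h => by
    have h1 : Odd (Nat.card K) := hoddL.of_dvd_nat K.card_subgroup_dvd_card
    have h2 : Odd K.index := hoddL.of_dvd_nat K.index_dvd_card
    rw [h] at h1
    exact Nat.not_even_iff_odd.2 h1 (h2.add_odd odd_one)
  have hτS : Cfsg.IsLinearIsometryOn (Cfsg.zspanOn {χ : L → ℂ | Cfsg.IsIrrCharacter L χ ∧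
      ∃ h ∈ K, χ h ≠ χ 1} ({1}ᶜ : Set L)) τ := by rw [← hSeq]; exact hτ
  rcases CfsgLib.Char.feit_coherence hK1 hK2 hC hne τ hτS (by rw [← hSeq]; exact hτ1) with
    h | ⟨p, hp, ⟨m, hm⟩, hna, -⟩
  · rw [hSdef, hSeq]; exact h
  haveI := Fact.mk hp
  have hKnil : Group.IsNilpotent K := (IsPGroup.of_card hm).isNilpotent
  have hHnil : Group.IsNilpotent H :=
    @Group.nilpotent_of_mulEquiv _ _ _ _ hKnil (K.equivMapOfInjective L.subtype L.subtype_injective)
  rcases hcase with hTI | ⟨hab, -⟩ | ⟨hexp, -⟩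
  · -- `H` is a TI-subgroup with normaliser `L`
    haveI := hG.2.1
    have hH1 : H ≠ ⊥ := fun h => hK1 ((Subgroup.map_eq_bot_iff_of_injective _ L.subtype_injective).1 h)
    have hN : Subgroup.normalizer (H : Set G) = L := by
      have hle : L ≤ Subgroup.normalizer (H : Set G) :=
        Subgroup.le_normalizer.trans (CfsgLib.OddLocal.Kap.normalizer_le_fittingHallOf L)
      refine (hL.le_iff.1 hle).resolve_left fun h => ?_
      haveI : H.Normal := Subgroup.normalizer_eq_top_iff.1 h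
      rcases (inferInstance : H.Normal).eq_bot_or_eq_top with h | h
      · exact hH1 h
      · exact hL.1 (top_le_iff.1 (h ▸ hHL))
    have hTI' : ∀ g : G, g ∉ L → ∀ t ∈ A, g * t * g⁻¹ ∈ A → t = 1 := fun g hg t ht ht' =>
      hTI g (by rw [hN]; exact hg) t ((hAmem t).1 ht).1 ((hAmem _).1 ht').1
    have hR : ∀ a ∈ A, Cfsg.supportR L a = ⊥ := fun a ha => by
      refine CfsgLib.OddLocal.Kap.supportR_eq_bot hG fun c hc => ?_
      by_contra hcL
      refine ((hAmem a).1 ha).2 (hTI' c hcL a ha ?_)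
      rwa [Subgroup.mem_centralizer_singleton_iff.1 hc, mul_inv_cancel_right]
    have hlt : H < L := lt_of_le_of_ne hHL fun h => hKL.ne (by rw [← hHK, h, Subgroup.subgroupOf_self])
    have hHn : ∀ x ∈ L, ∀ h ∈ H, x * h * x⁻¹ ∈ H := fun x hx h hh =>
      (Subgroup.mem_normalizer_iff.1 (hN.ge hx) h).1 hh
    obtain ⟨hne', τ₁, hτ₁, hag⟩ := CfsgLib.Char.coherent_odd_frobenius_TI hoddL hlt hH1 hHnil hHn
      hfrob hTI hN
    rw [hHK] at hne' hτ₁ hag
    exact ⟨hne', τ₁, hτ₁, fun α hα => (hag α hα).trans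
      (dade_eq_indFun hD hR hTI' (hcl α hα) (hspan α hα).2).symm⟩
  · refine absurd ?_ hna
    haveI := hab
    exact ⟨⟨fun a b => Subtype.ext (Subtype.ext (congrArg (Subtype.val : H → G)
      (mul_comm' (⟨_, (hmemH a.1).1 a.2⟩ : H) ⟨_, (hmemH b.1).1 b.2⟩)))⟩⟩
  -- the exponent case
  have hm0 : m ≠ 0 := fun h => by
    rw [h, pow_zero] at hm
    exact (Finite.one_lt_card (α := K)).ne' hm
  set φ : U →* MulAut K := (MulAut.conjNormal : L →* MulAut K).comp U.subtype with hφdef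
  have hφ : CfsgLib.Frobenius.IsFpf φ := by
    intro u hu k hk
    by_contra hk1
    refine hu (Subtype.ext (Subgroup.mem_bot.1 (hU.disjoint.le_bot ⟨?_, u.2⟩)))
    refine hC k k.2 (fun h => hk1 (Subtype.ext h)) (Subgroup.mem_centralizer_singleton_iff.2 ?_)
    have h2 := congrArg Subtype.val hk
    rw [hφdef, MonoidHom.comp_apply, MulAut.conjNormal_apply, Subgroup.coe_subtype] at h2
    exact mul_inv_eq_iff_eq_mul.1 h2
  have hUodd : Odd (Nat.card U) := hoddL.of_dvd_nat U.card_subgroup_dvd_card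
  haveI : IsZGroup U := ⟨fun r hr P => by
    haveI := Fact.mk hr
    rcases CfsgLib.FpfComplement.sylow_cyclic_or_quaternion hφ r P with h | ⟨rfl, n, hn, ⟨e⟩⟩
    · exact h
    · exfalso
      refine Nat.not_even_iff_odd.2 hUodd (even_iff_two_dvd.2 ?_)
      refine Nat.dvd_trans ?_ (P : Subgroup U).card_subgroup_dvd_card
      rw [Nat.card_congr e.toEquiv, Nat.card_eq_fintype_card, QuaternionGroup.card]
      exact Dvd.intro _ (by ring : 2 * (2 * 2 ^ n) = 4 * 2 ^ n)⟩
  have hidx : K.index ∣ p - 1 := by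
    have hcardH : p ∣ Nat.card H := by
      show p ∣ Nat.card (K.map L.subtype)
      rw [← Nat.card_congr (K.equivMapOfInjective L.subtype L.subtype_injective).toEquiv]
      refine hm.symm ▸ ?_
      exact dvd_pow_self p hm0
    have h2 := hexp p hp hcardH
    rwa [Monoid.exponent_eq_of_mulEquiv hU.symm.QuotientMulEquiv, IsZGroup.exponent_eq_card,
      ← hU.symm.index_eq_card] at h2
  have hfr := CfsgLib.Char.frob_mod_commutator hC
  have hmapD : (commutator K).map K.subtype = ⁅K, K⁆ := by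
    rw [commutator_def, Subgroup.map_commutator, ← MonoidHom.range_eq_map, Subgroup.range_subtype]
  have hsolvK : Group.IsSolvable K := inferInstance
  have hDK : ⁅K, K⁆ < K := by
    rw [← hmapD]
    refine lt_of_le_of_ne (Subgroup.map_subtype_le _) fun h => ?_
    refine (Group.IsSolvable.commutator_lt_top_of_nontrivial K).ne ?_
    refine Subgroup.map_injective K.subtype_injective ?_
    rw [h, ← MonoidHom.range_eq_map, Subgroup.range_subtype]
  have hneS : ∀ χ ∈ S, Cfsg.conjFun χ ∈ S ∧ Cfsg.conjFun χ ≠ χ := fun χ hχ => by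
    refine ⟨CfsgLib.Char.conjFun_mem_inducedIrrAbove hχ, fun h => ?_⟩
    obtain ⟨θ, h1, h2, -, rfl⟩ := id hχ
    have h0 : Cfsg.classInner (Cfsg.conjFun (Cfsg.indFun K θ)) (Cfsg.indFun K θ) = 0 :=
      CfsgLib.Char.classInner_conj_indFun_eq_zero hoddL h1 h2
    rw [h, CfsgLib.Char.IsIrrCharacter.classInner_self (hirr _ hχ)] at h0
    exact one_ne_zero h0
  obtain ⟨ψ, hψ, -⟩ := CfsgLib.Char.exists_linear_aboveInd (L := L) (K := K) (A := ⁅K, K⁆) hsolvK hDK
  obtain ⟨R, hS⟩ := CfsgLib.Char.exists_coherenceSystem S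
    ⟨ψ, CfsgLib.Char.inducedIrrAbove_subset_bot K _ (CfsgLib.Char.mem_aboveInd.1 hψ)⟩ hirr hneS
    hτ hτ1
  refine CfsgLib.Char.coherent_odd_nilpotent hsolvK hS hoddL ⊥ bot_le inferInstance ⁅K, K⁆
    (sup_bot_eq _).symm hDK hKL hfr ?_
  exact Or.inr (Or.inr (Or.inr (Or.inr ⟨p, m, hp, by rw [Subgroup.relIndex_bot_left, hm], hidx⟩)))

end Cfsg.Agent.S1542
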