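import Cfsg.Statements.S1375
import Cfsg.Agent.OddLocal.KappaSupport
-- import your own Cfsg.Agent.* helpers here

set_option autoImplicit false
open Cfsg

namespace Cfsg.Agent.S1375

/-- Let G be a minimal simple group of odd order, M a maximal subgroup, x ≠ 1 in M_σ with C_G(x) not contained in M. Then exactly one maximal subgroup N contains C_G(x); for it N_σ = N_F, C_{N_σ}(x) is a normal subgroup of C_G(x) complementing C_M(x), M ∩ N is a complement to N_σ in N, and for every standard factorisation N = K' U' N_σ one has U' ≠ 1 and x ∈ A(N) with x ∉ N_σ. -/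
theorem result {G : Type*} [Group G] [Finite G] (hG : Cfsg.IsMinSimpleOddOrder G)
    (M : Subgroup G) (hM : IsCoatom M) (x : G) (hx : x ∈ Cfsg.sigmaCore M) (hx1 : x ≠ 1) (hxM : ¬ Subgroup.centralizer ({x} : Set G) ≤ M) :
    ∃ N : Subgroup G, (IsCoatom N ∧ Subgroup.centralizer ({x} : Set G) ≤ N) ∧ (∀ L : Subgroup G, IsCoatom L → Subgroup.centralizer ({x} : Set G) ≤ L → L = N) ∧
        Cfsg.sigmaCore N = Cfsg.fittingHallOf N ∧
        Subgroup.centralizer ({x} : Set G) ≤ Subgroup.normalizer ((Cfsg.sigmaCore N ⊓ Subgroup.centralizer ({x} : Set G) : Subgroup G) : Set G) ∧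
        Cfsg.IsComplIn (M ⊓ Subgroup.centralizer ({x} : Set G)) (Cfsg.sigmaCore N ⊓ Subgroup.centralizer ({x} : Set G)) (Subgroup.centralizer ({x} : Set G)) ∧
        Cfsg.IsComplIn (M ⊓ N) (Cfsg.sigmaCore N) N ∧
        ∀ K' U' : Subgroup G, Cfsg.IsSigmaDecomposition N K' U' → U' ≠ ⊥ ∧ x ∈ Cfsg.sigmaA N U' ∧ x ∉ Cfsg.sigmaCore N := by
  obtain ⟨N, hN, hCN, hu, -, hcompl, hnil, hτ, y, hy, hy1, hxy⟩ :=
    CfsgLib.OddLocal.Kap.exists_over hG hM hx hx1 hxM
  set C := Subgroup.centralizer ({x} : Set G) with hC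
  set K := Cfsg.sigmaCore N with hK
  have hxN : x ∈ N := hCN (Subgroup.mem_centralizer_singleton_iff.2 rfl)
  have hxMN : x ∈ M ⊓ N := ⟨Subgroup.map_subtype_le _ hx, hxN⟩
  refine ⟨N, ⟨hN, hCN⟩, hu, (CfsgLib.OddLocal.Kap.fittingHallOf_eq hG hN hnil).symm,
    (le_inf (hCN.trans (CfsgLib.OddLocal.TH.le_normalizer_core N)) Subgroup.le_normalizer).trans
      Subgroup.inf_normalizer_le_normalizer_inf,
    ⟨inf_le_right, inf_le_right, le_bot_iff.1 ((le_inf (le_inf (inf_le_left.trans inf_le_left)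
      (inf_le_left.trans (inf_le_right.trans hCN))) (inf_le_right.trans inf_le_left)).trans hcompl.2.2.1.le),
    fun c hc => CfsgLib.OddLocal.Kap.centralizer_split hcompl hxMN hc (hCN hc)⟩,
    hcompl, fun K' U' hd => ?_⟩
  have hH := CfsgLib.OddLocal.Kap.decomp_hall hG hN hd
  have hπ : ∀ r : ℕ, r.Prime → r ∣ orderOf x → ¬ r ∣ U'.relIndex N := fun r hr hrd => by
    obtain ⟨h1, h2, -, h4⟩ := hτ r hr hrd
    exact hH.2.2 r hr ⟨h1, fun h => h4 (CfsgLib.OddLocal.Kap.kappa_rank h), h2⟩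
  have hxU : x ∈ U' ⊔ K := by
    refine CfsgLib.OddLocal.Excep.le_of_hall (sup_le hd.compl.1 (Subgroup.map_subtype_le _))
      (CfsgLib.OddLocal.Kap.decomp_normal hG hN hd) (Subgroup.zpowers_le.2 hxN) ?_ (Subgroup.mem_zpowers x)
    rw [Nat.card_zpowers]
    exact Nat.coprime_of_dvd fun r hr h1 h2 => hπ r hr h1
      (h2.trans (Subgroup.relIndex_dvd_of_le_left N le_sup_left))
  refine ⟨fun e => ?_, ⟨⟨hxN, y, hy, hy1, hxy.eq⟩, hxU⟩, fun h => hx1 ?_⟩
  · obtain ⟨r, hr, hrd⟩ := Nat.exists_prime_and_dvd (fun h => hx1 (orderOf_eq_one_iff.1 h))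
    refine hπ r hr hrd ?_
    rw [e, Subgroup.relIndex_bot_left]
    exact hrd.trans (Subgroup.orderOf_dvd_natCard N hxN)
  · exact Subgroup.mem_bot.1 (hcompl.2.2.1.le ⟨hxMN, h⟩)

end Cfsg.Agent.S1375
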