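import Cfsg.Statements.S1434
import Cfsg.Agent.OddLocal.KappaPairApps
-- import your own Cfsg.Agent.* helpers here

set_option autoImplicit false
open Cfsg

namespace Cfsg.Agent.S1434

/-- Let G be a minimal simple group of odd order, M a maximal subgroup with standard factorisation M = K U M_σ, K ≠ 1, K* = M_σ ∩ C_G(K), and M* a maximal subgroup with K = M*_σ ∩ C_G(K*) and K* a Hall κ(M*)-subgroup of M*. Then κ(M) = τ₁(M); K* is a Hall σ(M)-subgroup of M*; for non-identity x ∈ K and y ∈ K*, C_M(x), C_{M*}(y) and C_G(xy) all equal K K*; the set Ẑ of elements of K K* outside K ∪ K* meets no gMg⁻¹ with g ∉ M; and with k = #K, k* = #K*, the union of the conjugates of Ẑ has k·k*·(number of elements) = (k k* − k − k* + 1)·#G and more than #G / 2 elements. -/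
theorem result {G : Type*} [Group G] [Finite G] (hG : Cfsg.IsMinSimpleOddOrder G)
    (M : Subgroup G) (hM : IsCoatom M) (K U : Subgroup G) (hKU : Cfsg.IsSigmaDecomposition M K U) (hK1 : K ≠ ⊥) (Mstar : Subgroup G) (hMstar : IsCoatom Mstar)
    (hKst : K = Cfsg.sigmaCore Mstar ⊓ Subgroup.centralizer ((Cfsg.sigmaCore M ⊓ Subgroup.centralizer (K : Set G)) : Set G))
    (hKstH : Cfsg.IsPiHallOf (Cfsg.kappa Mstar) (Cfsg.sigmaCore M ⊓ Subgroup.centralizer (K : Set G)) Mstar) :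
    Cfsg.kappa M = Cfsg.tau1 M ∧ Cfsg.IsPiHallOf (Cfsg.sigma M) (Cfsg.sigmaCore M ⊓ Subgroup.centralizer (K : Set G)) Mstar ∧
      (∀ x ∈ K, x ≠ 1 → ∀ y ∈ (Cfsg.sigmaCore M ⊓ Subgroup.centralizer (K : Set G)), y ≠ 1 →
        M ⊓ Subgroup.centralizer ({x} : Set G) = K ⊔ (Cfsg.sigmaCore M ⊓ Subgroup.centralizer (K : Set G)) ∧ Mstar ⊓ Subgroup.centralizer ({y} : Set G) = K ⊔ (Cfsg.sigmaCore M ⊓ Subgroup.centralizer (K : Set G)) ∧
        Subgroup.centralizer ({x * y} : Set G) = K ⊔ (Cfsg.sigmaCore M ⊓ Subgroup.centralizer (K : Set G))) ∧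
      (∀ g : G, g ∉ M → ∀ z ∈ ((↑(K ⊔ (Cfsg.sigmaCore M ⊓ Subgroup.centralizer (K : Set G))) : Set G) \ ((K : Set G) ∪ ↑(Cfsg.sigmaCore M ⊓ Subgroup.centralizer (K : Set G)))), z ∉ M.map (MulAut.conj g).toMonoidHom) ∧
      Nat.card K * Nat.card ↥(Cfsg.sigmaCore M ⊓ Subgroup.centralizer (K : Set G)) * Set.ncard {a : G | ∃ g : G, ∃ z ∈ ((↑(K ⊔ (Cfsg.sigmaCore M ⊓ Subgroup.centralizer (K : Set G))) : Set G) \ ((K : Set G) ∪ ↑(Cfsg.sigmaCore M ⊓ Subgroup.centralizer (K : Set G)))), a = g * z * g⁻¹} =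
        (Nat.card K * Nat.card ↥(Cfsg.sigmaCore M ⊓ Subgroup.centralizer (K : Set G)) - Nat.card K - Nat.card ↥(Cfsg.sigmaCore M ⊓ Subgroup.centralizer (K : Set G)) + 1) * Nat.card G ∧
      Nat.card G < 2 * Set.ncard {a : G | ∃ g : G, ∃ z ∈ ((↑(K ⊔ (Cfsg.sigmaCore M ⊓ Subgroup.centralizer (K : Set G))) : Set G) \ ((K : Set G) ∪ ↑(Cfsg.sigmaCore M ⊓ Subgroup.centralizer (K : Set G)))), a = g * z * g⁻¹} := by
  have hHe : K = CfsgLib.OddLocal.Kap.star Mstar (CfsgLib.OddLocal.Kap.star M K) := hKst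
  have hK := hKU.hall
  obtain ⟨h₁, hne⟩ := CfsgLib.OddLocal.Kap.partner_node hG hM hK hK1 hMstar hKstH hHe
  have h₀ := CfsgLib.OddLocal.Kap.isNode_self hG hM hK hK1
  have hmix := CfsgLib.OddLocal.Kap.mixed_eq hG hM hK hK1 hMstar hKstH hHe
  refine ⟨CfsgLib.OddLocal.Kap.kappa_eq_tau_one hG hM hKU hK1,
    ⟨hKstH.1, CfsgLib.OddLocal.Kap.primes_star hG hM, fun p hp hpM hd => ?_⟩,
    fun x hx hx1 y hy hy1 => ⟨CfsgLib.OddLocal.Kap.meet_centralizer hG hM hK hK1 hx hx1, ?_,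
      CfsgLib.OddLocal.Kap.centralizer_mul hG hM hK hK1 hx hx1 hy hy1⟩, ?_, ?_, ?_⟩
  · exact hKstH.2.2 p hp (CfsgLib.OddLocal.Kap.sigma_mem_kappa_partner hG hM hK hK1 hMstar hKstH hHe hpM
      (hd.trans (Subgroup.relIndex_dvd_card _ _))) hd
  · rw [CfsgLib.OddLocal.Kap.meet_centralizer hG hMstar hKstH h₁.ne_bot hy hy1, ← hHe, sup_comm]
  · intro g hg z hz hzg
    obtain ⟨hzZ, hznot⟩ := hz
    obtain ⟨b, hb, a, ha, hc, rfl⟩ := h₀.split hzZ
    have ha1 : a ≠ 1 := fun e => hznot (Or.inl (by rw [e, one_mul]; exact hb))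
    have h1 : (a * b) ^ orderOf b = a ^ orderOf b := by rw [hc.mul_pow, pow_orderOf_eq_one, mul_one]
    have h2 := (CfsgLib.OddLocal.Kap.fixed_meet_conj hG hM hK hK1 hg).le
      (show a ^ orderOf b ∈ _ from ⟨Subgroup.pow_mem _ ha _, h1 ▸ Subgroup.pow_mem _ hzg _⟩)
    refine ha1 (orderOf_eq_one_iff.1 (Nat.eq_one_iff_not_exists_prime_dvd.2 fun p hp hd => ?_))
    have h3 : p ∣ orderOf b := hd.trans (orderOf_dvd_of_pow_eq_one (Subgroup.mem_bot.1 h2))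
    exact (hK.2.1 p hp (h3.trans (K.orderOf_dvd_natCard hb))).2.2.1
      (CfsgLib.OddLocal.Kap.primes_star hG hM p hp (hd.trans (Subgroup.orderOf_dvd_natCard _ ha)))
  · have h := CfsgLib.OddLocal.Kap.card_conj_mixed hG hM hK hK1 hMstar hKstH hHe
    rw [hmix] at h
    exact h
  · have h := CfsgLib.OddLocal.Kap.half_conj_mixed hG hM hK hK1 hMstar hKstH hHe
    rw [hmix] at h
    exact h

end Cfsg.Agent.S1434
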