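import Cfsg.Statements.S1350
import Cfsg.Agent.OddLocal.SigmaBasic
import Cfsg.Agent.OddLocal.ExceptionalBase
-- import your own Cfsg.Agent.* helpers here

set_option autoImplicit false
open Cfsg

namespace Cfsg.Agent.S1350

/-- Let G be a minimal simple group of odd order and M a maximal subgroup. Then M_σ (the largest normal σ(M)-subgroup of M) is a Hall σ(M)-subgroup of M and also of G, and every Hall σ(M)-subgroup of M that is normal in M equals M_σ. -/
theorem result {G : Type*} [Group G] [Finite G] (hG : Cfsg.IsMinSimpleOddOrder G)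
    (M : Subgroup G) (hM : IsCoatom M) :
    Cfsg.IsPiHallOf (Cfsg.sigma M) (Cfsg.sigmaCore M) M ∧ Cfsg.IsPiHall (Cfsg.sigma M) (Cfsg.sigmaCore M) ∧
      ∀ N : Subgroup G, M ≤ Subgroup.normalizer (N : Set G) → Cfsg.IsPiHallOf (Cfsg.sigma M) N M →
        N = Cfsg.sigmaCore M := by
  obtain ⟨h1, h2, -⟩ := CfsgLib.OddLocal.Sig.sigma_core hG hM
  refine ⟨h1, h2, fun N hn hN => le_antisymm (CfsgLib.OddLocal.Excep.le_sigmaCore hG hM hN.1 hN.2.1) ?_⟩
  exact CfsgLib.OddLocal.Excep.le_of_hall hN.1 hn h1.1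
    (Nat.coprime_of_dvd fun q hq hd1 hd2 => hN.2.2 q hq (h1.2.1 q hq hd1) hd2)

end Cfsg.Agent.S1350
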