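import Cfsg.Statements.S2761
import Cfsg.Agent.ZJ.Involve


set_option autoImplicit false
open Cfsg

namespace Cfsg.Agent.S2761

/-- The group Qd(2), the natural semidirect product of an elementary abelian group of order 4 by SL₂(2) (realised as the affine subgroup of SL₃(2)), is isomorphic to the symmetric group of degree 4. -/
theorem result : Nonempty (↥(Cfsg.qd 2) ≃* Equiv.Perm (Fin 4)) := by
  classical
  open CfsgLib.ZJ in
  haveI : Fact (Nat.Prime 2) := ⟨Nat.prime_two⟩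
  let act : Matrix.SpecialLinearGroup (Fin 3) (ZMod 2) → ZMod 2 × ZMod 2 → ZMod 2 × ZMod 2 :=
    fun M v => (M 0 0 * v.1 + M 0 1 * v.2 + M 0 2, M 1 0 * v.1 + M 1 1 * v.2 + M 1 2)
  have hact : ∀ x ∈ Cfsg.qd 2, ∀ y ∈ Cfsg.qd 2, ∀ v, act (x * y) v = act x (act y v) := by
    intro x hx y hy v
    obtain ⟨c, d, A, rfl⟩ := CfsgLib.ZJ.exists_affMat_of_mem_qd hx
    obtain ⟨c', d', A', rfl⟩ := CfsgLib.ZJ.exists_affMat_of_mem_qd hy
    rw [CfsgLib.ZJ.affMat_mul]
    simp [act, CfsgLib.ZJ.affMat, CfsgLib.ZJ.sl2_mul]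
    constructor <;> ring
  have hone : ∀ v, act 1 v = v := fun v => by simp [act]
  let f : ↥(Cfsg.qd 2) →* Equiv.Perm (ZMod 2 × ZMod 2) :=
    MonoidHom.mk' (fun x => ⟨act x.1, act x.1⁻¹,
      fun v => by rw [← hact _ (inv_mem x.2) _ x.2, inv_mul_cancel, hone],
      fun v => by rw [← hact _ x.2 _ (inv_mem x.2), mul_inv_cancel, hone]⟩)
      (fun x y => Equiv.ext fun v => hact _ x.2 _ y.2 v)
  have hinj : Function.Injective f := by
    refine (injective_iff_map_eq_one f).mpr fun x hx => ?_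
    have h : ∀ v, act x.1 v = v := fun v => congrArg (fun e : Equiv.Perm _ => e v) hx
    obtain ⟨c, d, A, hA⟩ := CfsgLib.ZJ.exists_affMat_of_mem_qd x.2
    have h0 := h (0, 0)
    have h1 := h (1, 0)
    have h2 := h (0, 1)
    rw [hA] at h0 h1 h2
    simp [act, CfsgLib.ZJ.affMat] at h0 h1 h2
    refine Subtype.ext ?_
    rw [hA, h0.1, h0.2]
    rw [h0.1, h0.2, add_zero, add_zero] at h1 h2
    have hA1 : A = 1 := CfsgLib.ZJ.sl2_ext (by simpa using h1.1) (by simpa using h2.1)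
      (by simpa using h1.2) (by simpa using h2.2)
    rw [hA1, CfsgLib.ZJ.affMat_one]
    rfl
  have hP : Nat.card (Equiv.Perm (ZMod 2 × ZMod 2)) = 24 := by
    rw [Nat.card_perm]
    simp
    rfl
  have hle : 24 ≤ Nat.card ↥(Cfsg.qd 2) := by
    have h6 : Nat.card (Matrix.SpecialLinearGroup (Fin 2) (ZMod 2)) = 6 := by
      rw [Nat.card_eq_fintype_card]
      decide
    let j : (ZMod 2 × ZMod 2) × Matrix.SpecialLinearGroup (Fin 2) (ZMod 2) → ↥(Cfsg.qd 2) :=
      fun z => ⟨CfsgLib.ZJ.affMat z.1.1 z.1.2 z.2, CfsgLib.ZJ.affMat_mem_qd _ _ _⟩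
    have hj : Function.Injective j := fun z z' h => by
      obtain ⟨h1, h2, h3⟩ := CfsgLib.ZJ.affMat_inj (congrArg Subtype.val h)
      exact Prod.ext (Prod.ext h1 h2) h3
    have := Nat.card_le_card_of_injective j hj
    rw [Nat.card_prod, Nat.card_prod, Nat.card_zmod, h6] at this
    omega
  have hbij : Function.Bijective f := by
    refine (Nat.bijective_iff_injective_and_card f).mpr ⟨hinj, ?_⟩
    have := Nat.card_le_card_of_injective f hinj
    omega
  exact ⟨(MulEquiv.ofBijective f hbij).trans (Equiv.permCongrHom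
    (Fintype.equivFinOfCardEq (by simp : Fintype.card (ZMod 2 × ZMod 2) = 4)))⟩

end Cfsg.Agent.S2761
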