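-- Proof of statement S1446.
import Cfsg.Statements.S1446
import Cfsg.Agent.Coprime.FrobeniusPrimeDim

set_option autoImplicit false
open Cfsg

namespace Cfsg.Agent.S1446

/-- Let X be a finite group with subgroups K, R, M such that: K and R are nontrivial, K ∩ R = 1, R normalizes K, no non-identity element of R centralizes a non-identity element of K, K ⊔ R is solvable of odd order; M is nilpotent and nontrivial, normalized by K and by R, with order coprime to that of K ⊔ R, M ∩ C(K) = 1, and M ∩ C(x) = M ∩ C(R) for all non-identity x ∈ R. Then R has prime order p, #M = #(M ∩ C(R)) ^ p, and if M ∩ C(R) is cyclic then [K, K] centralizes M. -/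
theorem result {X : Type*} [Group X] [Finite X] (K R M : Subgroup X) (hK1 : K ≠ ⊥) (hR1 : R ≠ ⊥) (hKR : K ⊓ R = ⊥)
    (hRK : R ≤ Subgroup.normalizer (K : Set X)) (hfrob : ∀ r ∈ R, r ≠ 1 → K ⊓ Subgroup.centralizer ({r} : Set X) = ⊥)
    (hsolv : Group.IsSolvable ↥(K ⊔ R)) (hodd : Odd (Nat.card ↥(K ⊔ R)))
    (hM1 : M ≠ ⊥) (hMn : Group.IsNilpotent M) (hKM : K ≤ Subgroup.normalizer (M : Set X)) (hRM : R ≤ Subgroup.normalizer (M : Set X))
    (hcop : (Nat.card ↥(K ⊔ R)).Coprime (Nat.card M)) (hCK : M ⊓ Subgroup.centralizer (K : Set X) = ⊥)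
    (hpr : ∀ x ∈ R, x ≠ 1 → M ⊓ Subgroup.centralizer ({x} : Set X) = M ⊓ Subgroup.centralizer (R : Set X)) :
    (Nat.card R).Prime ∧ Nat.card M = Nat.card ↥(M ⊓ Subgroup.centralizer (R : Set X)) ^ Nat.card R ∧
      (IsCyclic ↥(M ⊓ Subgroup.centralizer (R : Set X)) → ⁅K, K⁆ ≤ Subgroup.centralizer (M : Set X)) := by
  classical
  haveI := hMn
  have hsM : Group.IsSolvable M := inferInstance
  set A := K ⊔ R with hA
  have hKA : K ≤ A := le_sup_left
  have hRA : R ≤ A := le_sup_right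
  let U := K.subgroupOf A
  let E := R.subgroupOf A
  haveI : U.Normal :=
    (Subgroup.normal_subgroupOf_iff_le_normalizer hKA).2 (sup_le Subgroup.le_normalizer hRK)
  have hinf : U ⊓ E = ⊥ := by
    change K.subgroupOf A ⊓ R.subgroupOf A = ⊥
    rw [Subgroup.subgroupOf, Subgroup.subgroupOf, ← Subgroup.comap_inf, hKR]
    exact (MonoidHom.comap_bot _).trans (Subgroup.ker_subtype A)
  have hsup : U ⊔ E = ⊤ := by
    change K.subgroupOf A ⊔ R.subgroupOf A = ⊤
    rw [← Subgroup.subgroupOf_sup hKA hRA]; exact Subgroup.subgroupOf_self _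
  have hfpf : ∀ e ∈ E, e ≠ 1 → ∀ u ∈ U, e * u = u * e → u = 1 := by
    intro e he he1 u hu h
    have h1 : (u : X) ∈ K ⊓ Subgroup.centralizer ({(e : X)} : Set X) :=
      ⟨hu, Subgroup.mem_centralizer_singleton_iff.2 (congrArg Subtype.val h).symm⟩
    rw [hfrob e he (fun h0 => he1 (Subtype.ext h0)), Subgroup.mem_bot] at h1
    exact Subtype.ext h1
  let φ : ↥A →* MulAut M := M.normalizerMonoidHom.comp (Subgroup.inclusion (sup_le hKM hRM))
  have hφ : ∀ (g : ↥A) (v : M), (φ g v : X) = g * v * (g : X)⁻¹ := fun g v => rfl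
  have hcard : ∀ (T : Subgroup X), T ≤ A → ∀ S : Subgroup ↥A, S = T.subgroupOf A →
      Nat.card (CfsgLib.Coprime.fixedSub φ S) = Nat.card ↥(M ⊓ Subgroup.centralizer (T : Set X)) := by
    rintro T hT _ rfl
    refine Nat.card_congr ⟨fun v => ⟨((v : M) : X), (v : M).2, fun t ht => ?_⟩,
      fun v => ⟨⟨(v : X), v.2.1⟩, fun s hs => ?_⟩, fun v => rfl, fun v => rfl⟩
    · exact mul_inv_eq_iff_eq_mul.1 ((hφ ⟨t, hT ht⟩ v).symm.trans
        (congrArg Subtype.val (v.2 ⟨t, hT ht⟩ ht)))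
    · exact Subtype.ext ((hφ s _).trans (mul_inv_eq_iff_eq_mul.2 (v.2.2 (s : X) hs)))
  have hfix : CfsgLib.Coprime.fixedSub φ U = ⊥ := by
    rw [← Subgroup.card_eq_one, hcard K hKA U rfl, hCK, Subgroup.card_bot]
  have hUn : ∀ T : Subgroup ↥A, T ≤ Subgroup.normalizer (U : Set ↥A) := fun T => by
    rw [Subgroup.normalizer_eq_top]; exact le_top
  have hRcard : Nat.card E = Nat.card R := Nat.card_congr (Subgroup.subgroupOfEquivOfLe hRA).toEquiv
  have hMR : Nat.card M = Nat.card ↥(M ⊓ Subgroup.centralizer (R : Set X)) ^ Nat.card R := by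
    rw [CfsgLib.Coprime.card_eq_pow (hUn E) hinf hfpf hsM hcop φ hfix, hcard R hRA E rfl, hRcard]
  -- the complement has prime order
  obtain ⟨q, hq, hqd⟩ := Nat.exists_prime_and_dvd (fun h => hR1 (Subgroup.card_eq_one.1 h))
  haveI := Fact.mk hq
  obtain ⟨x, hx⟩ := exists_prime_orderOf_dvd_card' (G := R) q hqd
  have hx1 : (x : X) ≠ 1 := fun h => hq.one_lt.ne' (by rw [← hx, ← Subgroup.orderOf_coe, h, orderOf_one])
  let T := Subgroup.zpowers (x : X)
  have hTR : T ≤ R := Subgroup.zpowers_le.2 x.2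
  have hTq : Nat.card (T.subgroupOf A) = q := by
    rw [Nat.card_congr (Subgroup.subgroupOfEquivOfLe (hTR.trans hRA)).toEquiv, Nat.card_zpowers,
      Subgroup.orderOf_coe, hx]
  have hCT : M ⊓ Subgroup.centralizer (T : Set X) = M ⊓ Subgroup.centralizer (R : Set X) := by
    refine le_antisymm ?_ (inf_le_inf_left _ (Subgroup.centralizer_le hTR))
    rw [← hpr x x.2 hx1]
    exact inf_le_inf_left _ (Subgroup.centralizer_le (by simp [T]))
  have hMT : Nat.card M = Nat.card ↥(M ⊓ Subgroup.centralizer (R : Set X)) ^ q := by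
    have hTE : T.subgroupOf A ≤ E := fun t ht => hTR ht
    rw [CfsgLib.Coprime.card_eq_pow (hUn (T.subgroupOf A))
      (eq_bot_iff.2 (hinf ▸ inf_le_inf_left _ hTE)) (fun e he => hfpf e (hTE he)) hsM hcop φ hfix,
      hcard T (hTR.trans hRA) _ rfl, hCT, hTq]
  have h1M : 1 < Nat.card M := (Subgroup.one_lt_card_iff_ne_bot M).2 hM1
  have h2 : 2 ≤ Nat.card ↥(M ⊓ Subgroup.centralizer (R : Set X)) := by
    by_contra h
    have h' : Nat.card ↥(M ⊓ Subgroup.centralizer (R : Set X)) = 1 := by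
      have := Nat.card_pos (α := ↥(M ⊓ Subgroup.centralizer (R : Set X))); omega
    rw [h', one_pow] at hMR
    omega
  have hRq : Nat.card R = q := Nat.pow_right_injective h2 (hMR.symm.trans hMT)
  refine ⟨hRq ▸ hq, hMR, fun hcyc => ?_⟩
  have hcyc' : IsCyclic (CfsgLib.Coprime.fixedSub φ E) := by
    haveI := hcyc
    let f : CfsgLib.Coprime.fixedSub φ E →* ↥(M ⊓ Subgroup.centralizer (R : Set X)) :=
      (M.subtype.comp (CfsgLib.Coprime.fixedSub φ E).subtype).codRestrict _ fun v =>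
        ⟨(v : M).2, fun t ht => mul_inv_eq_iff_eq_mul.1 ((hφ ⟨t, hRA ht⟩ v).symm.trans
          (congrArg Subtype.val (v.2 ⟨t, hRA ht⟩ ht)))⟩
    exact isCyclic_of_injective f fun v w h => Subtype.ext (Subtype.ext
      (congrArg (fun z : ↥(M ⊓ Subgroup.centralizer (R : Set X)) => (z : X)) h :))
  have key := CfsgLib.Coprime.commute_of_cyclic_fixed hinf hsup hfpf (by rw [hRcard, hRq]; exact hq)
    (Nat.card M) rfl hsM hcop φ hcyc'
  rw [Subgroup.commutator_le]
  intro a ha b hb v hv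
  let a' : ↥A := ⟨a, hKA ha⟩
  let b' : ↥A := ⟨b, hKA hb⟩
  have h1 : φ (a' * b' * a'⁻¹ * b'⁻¹) = 1 := by
    rw [mul_assoc (a' * b'), ← mul_inv_rev, map_mul, map_inv, key a' ha b' hb, mul_inv_cancel]
  have h3 := (hφ (a' * b' * a'⁻¹ * b'⁻¹) ⟨v, hv⟩).symm.trans (congrArg Subtype.val (DFunLike.congr_fun h1 (⟨v, hv⟩ : M)))
  exact (mul_inv_eq_iff_eq_mul.1 h3).symm

end Cfsg.Agent.S1446
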