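import Cfsg.Statements.S1407
import Cfsg.Agent.OddLocal.SigmaLocal
-- import your own Cfsg.Agent.* helpers here

set_option autoImplicit false
open Cfsg

namespace Cfsg.Agent.S1407

/-- Let G be a minimal simple group of odd order, M a maximal subgroup with M_α ≠ 1, p a prime dividing the order of M but not in σ(M), and P a Sylow p-subgroup of M. Then there is an element x of order p in the centre of P such that M_α ∩ C_G(x) has all Sylow subgroups cyclic and M is not the unique maximal subgroup of G containing C_G(x). -/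
theorem result {G : Type*} [Group G] [Finite G] (hG : Cfsg.IsMinSimpleOddOrder G)
    (M : Subgroup G) (hM : IsCoatom M) (hMα : Cfsg.alphaCore M ≠ ⊥) (p : ℕ) [Fact p.Prime] (hpM : p ∣ Nat.card M) (hp : p ∉ Cfsg.sigma M) (P : Sylow p M) :
    ∃ x : G, x ∈ ((Subgroup.center ↥(P : Subgroup M)).map (P : Subgroup M).subtype).map M.subtype ∧ orderOf x = p ∧
        IsZGroup ↥(Cfsg.alphaCore M ⊓ Subgroup.centralizer ({x} : Set G)) ∧
        ¬ (Subgroup.centralizer ({x} : Set G) ≤ M ∧ ∀ L : Subgroup G, IsCoatom L → Subgroup.centralizer ({x} : Set G) ≤ L → L = M) := by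
  have hp' : p.Prime := Fact.out
  set P' := (P : Subgroup M).map M.subtype with hP'
  have hP'p : IsPGroup p P' := P.2.map _
  have hN : ¬ Subgroup.normalizer (P' : Set G) ≤ M := fun h => hp ⟨hp', hpM, P, h⟩
  obtain ⟨g, hg, hgM⟩ := SetLike.not_le_iff_exists.1 hN
  have hP1 : (P : Subgroup M) ≠ ⊥ := P.ne_bot_of_dvd_card hpM
  haveI : Nontrivial (P : Subgroup M) := (Subgroup.nontrivial_iff_ne_bot _).2 hP1
  haveI : Nontrivial (Subgroup.center (P : Subgroup M)) := P.2.center_nontrivial
  obtain ⟨z, hz⟩ := exists_prime_orderOf_dvd_card' (G := Subgroup.center (P : Subgroup M)) p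
    (((P.2.to_subgroup _).card_eq_or_dvd).resolve_left Finite.one_lt_card.ne')
  set x : G := (((z : (P : Subgroup M)) : M) : G) with hx
  have hxo : orderOf x = p := by rw [hx, Subgroup.orderOf_coe, Subgroup.orderOf_coe, Subgroup.orderOf_coe, hz]
  have hxM : x ∈ M := ((z : (P : Subgroup M)) : M).2
  have hxP : x ∈ P' := Subgroup.mem_map_of_mem M.subtype (z : (P : Subgroup M)).2
  -- central elements of order `p` of `P`
  have hcen : ∀ y : G, y ∈ P' → (∀ a ∈ P', a * y = y * a) →
      y ∈ ((Subgroup.center ↥(P : Subgroup M)).map (P : Subgroup M).subtype).map M.subtype := by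
    rintro _ ⟨y, hy, rfl⟩ hc
    refine Subgroup.mem_map_of_mem M.subtype ⟨⟨y, hy⟩, Subgroup.mem_center_iff.2 fun a => ?_, rfl⟩
    exact Subtype.ext (Subtype.ext (hc _ (Subgroup.mem_map_of_mem M.subtype a.2)))
  have hxc : ∀ a ∈ P', a * x = x * a := by
    rintro _ ⟨a, ha, rfl⟩
    exact congrArg (fun w : (P : Subgroup M) => ((w : M) : G)) (Subgroup.mem_center_iff.1 z.2 ⟨a, ha⟩)
  have key : ∀ y : G, y ∈ P' → (∀ a ∈ P', a * y = y * a) → orderOf y = p →
      ¬ (Subgroup.centralizer ({y} : Set G) ≤ M ∧ ∀ L : Subgroup G, IsCoatom L → Subgroup.centralizer ({y} : Set G) ≤ L → L = M) →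
      IsZGroup ↥(Cfsg.alphaCore M ⊓ Subgroup.centralizer ({y} : Set G)) := by
    intro y hy hyc hyo hnu
    have hyM : y ∈ M := Subgroup.map_subtype_le _ hy
    have hpα : p ∉ Cfsg.alpha M := fun h => hp (CfsgLib.OddLocal.Sig.alpha_subset_sigma hG hM h)
    have hcy : Subgroup.centralizer ((Subgroup.zpowers y : Subgroup G) : Set G) = Subgroup.centralizer ({y} : Set G) := by
      rw [Subgroup.zpowers_eq_closure, Subgroup.centralizer_closure]
    have hr : Cfsg.RankLE 1 ↥(Cfsg.alphaCore M ⊓ Subgroup.centralizer ({y} : Set G)) := by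
      by_contra hr
      rw [← hcy] at hr
      have hU := CfsgLib.OddLocal.Sig.centralizer_unique hG hM (Subgroup.zpowers_le.2 hyM) (fun q hq hd => ?_) hr
      · rw [hcy] at hU
        have hne : Subgroup.centralizer ({y} : Set G) ≠ ⊤ :=
          CfsgLib.OddLocal.Uniq.centralizer_singleton_ne_top hG fun e => hp'.ne_one (by rw [← hyo, e, orderOf_one])
        exact hnu ⟨CfsgLib.OddLocal.Uniq.le_of_uniq hU hM inf_le_left hne inf_le_right,
          fun L hL hyL => CfsgLib.OddLocal.Uniq.eq_of hU hL (inf_le_right.trans hyL) hM inf_le_left⟩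
      · rw [Nat.card_zpowers, hyo] at hd
        rwa [(Nat.prime_dvd_prime_iff_eq hq hp').1 hd]
    rw [isZGroup_iff]
    intro q hq Q
    haveI := Fact.mk hq
    by_contra hnc
    rcases eq_or_ne q 2 with rfl | hq2
    · refine hnc ?_
      have hodd := hG.1.of_dvd_nat (Q.toSubgroup.card_subgroup_dvd_card.trans
        (Subgroup.card_subgroup_dvd_card _))
      rcases Q.2.card_eq_or_dvd with h | h
      · haveI : Subsingleton Q := (Nat.card_eq_one_iff_unique.1 h).1
        exact isCyclic_of_subsingleton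
      · exact absurd (hodd.of_dvd_nat h) (by decide)
    · obtain ⟨E, -, hE, hEc⟩ := CfsgLib.OddLocal.Uniq.exists_sq hq2 Q.2 hnc
      haveI := hE.1
      have h1 := hr q hq E hE.1 hE.2
      rw [hEc, pow_one] at h1
      exact absurd h1 (not_le.2 (lt_self_pow₀ hq.one_lt one_lt_two))
  by_cases hnu : Subgroup.centralizer ({x} : Set G) ≤ M ∧ ∀ L : Subgroup G, IsCoatom L → Subgroup.centralizer ({x} : Set G) ≤ L → L = M
  swap
  · exact ⟨x, hcen x hxP hxc, hxo, key x hxP hxc hxo hnu, hnu⟩
  set y := g * x * g⁻¹ with hy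
  have hyP : y ∈ P' := (Subgroup.mem_normalizer_iff.1 hg x).1 hxP
  have hyc : ∀ a ∈ P', a * y = y * a := by
    intro a ha
    have h1 := hxc (g⁻¹ * a * g) (by
      simpa using (Subgroup.mem_normalizer_iff.1 (inv_mem hg) a).1 ha)
    calc a * y = g * (g⁻¹ * a * g * x) * g⁻¹ := by rw [hy]; group
      _ = g * (x * (g⁻¹ * a * g)) * g⁻¹ := by rw [h1]
      _ = y * a := by rw [hy]; group
  have hyo : orderOf y = p := by rw [hy, ← hxo]; exact (MulAut.conj g).orderOf_eq x
  have hnu' : ¬ (Subgroup.centralizer ({y} : Set G) ≤ M ∧ ∀ L : Subgroup G, IsCoatom L → Subgroup.centralizer ({y} : Set G) ≤ L → L = M) := by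
    rintro ⟨-, hu⟩
    have hle : Subgroup.centralizer ({y} : Set G) ≤ M.map (MulAut.conj g).toMonoidHom := by
      intro c hc
      refine ⟨g⁻¹ * c * g, hnu.1 ?_, by simp [mul_assoc]⟩
      rw [Subgroup.mem_centralizer_singleton_iff] at hc ⊢
      calc g⁻¹ * c * g * x = g⁻¹ * (c * y) * g := by rw [hy]; group
        _ = g⁻¹ * (y * c) * g := by rw [hc]
        _ = x * (g⁻¹ * c * g) := by rw [hy]; group
    have heq := hu _ (CfsgLib.OddLocal.Uniq.coatom_conj hM g) hle
    have hgN : g ∈ Subgroup.normalizer (M : Set G) := Subgroup.mem_normalizer_iff_map_conj_eq.2 heq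
    haveI := CfsgLib.CN.MinSimple.nontrivial hG
    have hMne : M ≠ ⊥ := fun h => hP1 ((Subgroup.eq_bot_iff_forall _).2 fun w _ =>
      Subtype.ext (Subgroup.mem_bot.1 (h.le w.2)))
    rw [CfsgLib.OddLocal.Uniq.coatom_normalizer_eq hG hM le_rfl Subgroup.le_normalizer hMne] at hgN
    exact hgM hgN
  exact ⟨y, hcen y hyP hyc, hyo, key y hyP hyc hyo hnu', hnu'⟩

end Cfsg.Agent.S1407
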