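import Cfsg.Statements.S1337
import Cfsg.Agent.Invol.NormalFour
import Cfsg.Agent.Kinf.LocalBalance

set_option autoImplicit false
open Cfsg Subgroup CfsgLib

namespace Cfsg.Agent.S1337

/-- Let P be a finite p-group of p-rank greater than 2. Then P has a normal elementary abelian subgroup U of order p², and for every elementary abelian X ≤ P with |X| ≥ p²: X is joined to U by a chain of pairwise commuting elementary abelian subgroups of order ≥ p² if and only if C_P(X) has p-rank greater than 2. -/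
theorem result {P : Type*} [Group P] [Finite P] (p : ℕ) [Fact p.Prime] (hP : IsPGroup p P) (hrk : ¬ Cfsg.PRankLE p 2 P) : ∃ U : Subgroup P, U.Normal ∧ Cfsg.IsElementaryAbelian p U ∧ Nat.card ↥U = p ^ 2 ∧ ∀ X : Subgroup P, Cfsg.IsElementaryAbelian p X → p ^ 2 ≤ Nat.card ↥X → (Relation.ReflTransGen (fun A B : Subgroup P => Cfsg.IsElementaryAbelian p A ∧ p ^ 2 ≤ Nat.card ↥A ∧ Cfsg.IsElementaryAbelian p B ∧ p ^ 2 ≤ Nat.card ↥B ∧ ∀ a ∈ A, ∀ b ∈ B, a * b = b * a) X U ↔ ¬ Cfsg.PRankLE p 2 ↥(Subgroup.centralizer (X : Set P))) := by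
  have hp1 : p.Prime := Fact.out
  -- a set of pairwise commuting elements of order dividing `p` bounds the rank from below
  have hrankC : ∀ {X E : Subgroup P}, Cfsg.IsElementaryAbelian p E → E ≤ centralizer (X : Set P) →
      Cfsg.PRankLE p 2 ↥(centralizer (X : Set P)) → Nat.card E ≤ p ^ 2 := by
    intro X E hE hEC h
    haveI := hE.1
    have h1 := h (E.subgroupOf (centralizer (X : Set P)))
      ⟨⟨fun u v => Subtype.ext (Subtype.ext (Signalizer.commute hE u.2 v.2))⟩⟩
      (fun u hu => Subtype.ext (by simpa using hE.2 (u : P) hu))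
    rwa [Nat.card_congr (subgroupOfEquivOfLe hEC).toEquiv] at h1
  have hjoin : ∀ {A B : Subgroup P}, Cfsg.IsElementaryAbelian p A → Cfsg.IsElementaryAbelian p B →
      (∀ a ∈ A, ∀ b ∈ B, a * b = b * a) →
      Cfsg.IsElementaryAbelian p (closure ((A : Set P) ∪ B)) := by
    intro A B hA hB hc
    refine NormalFour.of_gens ?_ ?_
    · rintro u (hu | hu) v (hv | hv)
      · exact Signalizer.commute hA hu hv
      · exact hc u hu v hv
      · exact (hc v hv u hu).symm
      · exact Signalizer.commute hB hu hv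
    · rintro u (hu | hu)
      · exact hA.2 u hu
      · exact hB.2 u hu
  have hbig : ∀ {X : Subgroup P}, ¬ Cfsg.PRankLE p 2 ↥X → ∃ Y : Subgroup P, Y ≤ X ∧
      Cfsg.IsElementaryAbelian p Y ∧ p ^ 3 ≤ Nat.card Y := by
    intro X hX
    obtain ⟨Y', hc, he, hlt⟩ : ∃ Y' : Subgroup X, IsMulCommutative Y' ∧ (∀ a ∈ Y', a ^ p = 1) ∧
        p ^ 2 < Nat.card Y' := by
      by_contra hcon
      push Not at hcon
      exact hX fun A hA hA' => hcon A hA hA'
    have hY : Cfsg.IsElementaryAbelian p (Y'.map X.subtype) :=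
      LocalBalance.isElementaryAbelian_map (E := Y') ⟨hc, he⟩ X.subtype
    refine ⟨Y'.map X.subtype, map_subtype_le _, hY, ?_⟩
    obtain ⟨k, hk⟩ := IsPGroup.iff_card.1 (hP.to_subgroup (Y'.map X.subtype))
    rw [card_map_of_injective X.subtype_injective] at hk ⊢
    rw [hk] at hlt ⊢
    exact Nat.pow_le_pow_right hp1.pos ((Nat.pow_lt_pow_iff_right hp1.one_lt).1 hlt)
  obtain ⟨Y, -, hY, hY3⟩ := hbig (X := ⊤) (fun h => hrk fun A hA hA' => by
    haveI := hA
    have h1 := h (A.map (Subgroup.topEquiv (G := P)).symm.toMonoidHom) inferInstance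
      (by rintro _ ⟨a, ha, rfl⟩; rw [← map_pow, hA' a ha, map_one])
    rwa [card_map_of_injective (f := (Subgroup.topEquiv (G := P)).symm.toMonoidHom)
      (MulEquiv.injective _)] at h1)
  obtain ⟨U, hUn, hU, hU2⟩ := NormalFour.exists_normal_sq hP hY hY3
  haveI := hUn
  have hUU : ¬ Cfsg.PRankLE p 2 ↥(centralizer (U : Set P)) := by
    intro h
    set D := Y ⊓ centralizer (U : Set P)
    have hD : Cfsg.IsElementaryAbelian p D := Signalizer.of_le hY inf_le_left
    have hE := hjoin hD hU fun d hd u hu => (mem_centralizer_iff.1 hd.2 u hu).symm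
    set E := closure ((D : Set P) ∪ U)
    have hEC : E ≤ centralizer (U : Set P) := (closure_le _).2 (Set.union_subset
      (fun d hd => hd.2) (Signalizer.le_centralizer_of_le hU le_rfl))
    have hUE : U = E := eq_of_le_of_card_ge (fun u hu => subset_closure (Or.inr hu))
      (hU2 ▸ hrankC hE hEC h)
    have hDU : D = U := eq_of_le_of_card_ge (fun d hd => hUE ▸ subset_closure (Or.inl hd))
      (hU2 ▸ NormalFour.sq_le_card_inf_centralizer hP hU2 hY3)
    have hYC : Y ≤ centralizer (U : Set P) :=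
      Signalizer.le_centralizer_of_le hY (hDU ▸ inf_le_left)
    have := (hY3.trans (hrankC hY hYC h))
    exact absurd this (not_le.2 (Nat.pow_lt_pow_right hp1.one_lt (by omega)))
  refine ⟨U, hUn, hU, hU2, fun X hX hX2 => ⟨fun hchain => ?_, fun hrank => ?_⟩⟩
  · induction hchain using Relation.ReflTransGen.head_induction_on with
    | refl => exact hUU
    | @head X A hstep _ ih =>
      obtain ⟨-, -, hA, hA2, hc⟩ := hstep
      intro h
      have hE := hjoin hX hA hc
      set E := closure ((X : Set P) ∪ A)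
      have hEC : E ≤ centralizer (X : Set P) := (closure_le _).2 (Set.union_subset
        (Signalizer.le_centralizer_of_le hX le_rfl)
        (fun a ha => mem_centralizer_iff.2 fun x hx => hc x hx a ha))
      have hXE : X = E := eq_of_le_of_card_ge (fun u hu => subset_closure (Or.inl hu))
        ((hrankC hE hEC h).trans hX2)
      have hAX : A = X := eq_of_le_of_card_ge (fun a ha => hXE ▸ subset_closure (Or.inr ha))
        ((hrankC hX (Signalizer.le_centralizer_of_le hX le_rfl) h).trans hA2)
      exact ih hA hA2 (hAX ▸ h)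
  · obtain ⟨Z, hZC, hZ, hZ3⟩ := hbig hrank
    have hZ2 : p ^ 2 ≤ Nat.card Z := (Nat.pow_le_pow_right hp1.pos (by omega)).trans hZ3
    set D := Z ⊓ centralizer (U : Set P)
    have hD : Cfsg.IsElementaryAbelian p D := Signalizer.of_le hZ inf_le_left
    have hD2 := NormalFour.sq_le_card_inf_centralizer hP hU2 hZ3
    refine Relation.ReflTransGen.head ⟨hX, hX2, hZ, hZ2,
      fun x hx z hz => mem_centralizer_iff.1 (hZC hz) x hx⟩ ?_
    refine Relation.ReflTransGen.head ⟨hZ, hZ2, hD, hD2,
      fun a ha b hb => Signalizer.commute hZ ha hb.1⟩ ?_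
    exact Relation.ReflTransGen.single ⟨hD, hD2, hU, hU2.ge,
      fun d hd u hu => (mem_centralizer_iff.1 hd.2 u hu).symm⟩

end Cfsg.Agent.S1337
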