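import Cfsg.Statements.S1395
import Cfsg.Agent.OddLocal.Transitivity
-- import your own Cfsg.Agent.* helpers here

set_option autoImplicit false
open Cfsg

namespace Cfsg.Agent.S1395

/-- Let G be a minimal simple group of odd order, A a subgroup satisfying the transitivity hypothesis with K = O_{π(A)'}(C_G(A)), q a prime not dividing the order of A, and P a proper subgroup all of whose prime divisors divide the order of A, containing A as a subnormal subgroup, such that any two maximal A-invariant q-subgroups are conjugate under K. Then (a) K ∩ C_G(P) = O_{π(A)'}(C_G(P)); (b) any two maximal P-invariant q-subgroups are conjugate under O_{π(A)'}(C_G(P)); (c) every maximal P-invariant q-subgroup is a maximal A-invariant q-subgroup; (d) for every maximal P-invariant q-subgroup Q, P ∩ N_G(P)' ≤ N_G(Q)' and N_G(P) is generated by O_{π(A)'}(C_G(P)) and N_G(P) ∩ N_G(Q). -/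
theorem result {G : Type*} [Group G] [Finite G] (hG : Cfsg.IsMinSimpleOddOrder G)
    (A : Subgroup G) (hA : Cfsg.TransitivityHypothesis A) (q : ℕ) (hq : q.Prime) (hqA : ¬ q ∣ Nat.card A)
    (P : Subgroup G) (hP : P ≠ ⊤) (hPπ : (∀ r : ℕ, r.Prime → r ∣ Nat.card P → r ∣ Nat.card A)) (hAP : A ≤ P) (hsn : (A.subgroupOf P).IsSubnormal)
    (htr : ∀ Q₁ ∈ Cfsg.maxInvSubgroups ⊤ A {q}, ∀ Q₂ ∈ Cfsg.maxInvSubgroups ⊤ A {q}, ∃ k ∈ Cfsg.piCoreOf (Cfsg.primesNotDvd (Nat.card A)) (Subgroup.centralizer (A : Set G)), Q₂ = Q₁.map (MulAut.conj k).toMonoidHom) :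
    Cfsg.piCoreOf (Cfsg.primesNotDvd (Nat.card A)) (Subgroup.centralizer (A : Set G)) ⊓ Subgroup.centralizer (P : Set G) = Cfsg.piCoreOf (Cfsg.primesNotDvd (Nat.card A)) (Subgroup.centralizer (P : Set G)) ∧
      (∀ Q₁ ∈ Cfsg.maxInvSubgroups ⊤ P {q}, ∀ Q₂ ∈ Cfsg.maxInvSubgroups ⊤ P {q}, ∃ k ∈ Cfsg.piCoreOf (Cfsg.primesNotDvd (Nat.card A)) (Subgroup.centralizer (P : Set G)), Q₂ = Q₁.map (MulAut.conj k).toMonoidHom) ∧
      Cfsg.maxInvSubgroups ⊤ P {q} ⊆ Cfsg.maxInvSubgroups ⊤ A {q} ∧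
      ∀ Q ∈ Cfsg.maxInvSubgroups ⊤ P {q},
        P ⊓ ⁅Subgroup.normalizer (P : Set G), Subgroup.normalizer (P : Set G)⁆ ≤ ⁅Subgroup.normalizer (Q : Set G), Subgroup.normalizer (Q : Set G)⁆ ∧
        Subgroup.normalizer (P : Set G) = Cfsg.piCoreOf (Cfsg.primesNotDvd (Nat.card A)) (Subgroup.centralizer (P : Set G)) ⊔ (Subgroup.normalizer (P : Set G) ⊓ Subgroup.normalizer (Q : Set G)) := by
  haveI := Fact.mk hq
  have hK := CfsgLib.OddLocal.TH.k_inf_centralizer hG hA hAP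
  obtain ⟨htr', hex⟩ : CfsgLib.OddLocal.TH.Trans hG hA q P := by
    have hmap : (A.subgroupOf P).map P.subtype = A := Subgroup.map_subgroupOf_eq_of_le hAP
    refine CfsgLib.OddLocal.TH.trans_subnormal hG hA hqA hP hPπ hsn hmap.ge ?_
    rw [hmap]
    refine ⟨fun Q₁ h₁ Q₂ h₂ _ _ => ?_, ?_⟩
    · obtain ⟨k, hk, he⟩ := htr Q₁ h₁ Q₂ h₂
      exact ⟨k, ⟨hk, CfsgLib.OddLocal.TH.core_le _ hk⟩, he⟩
    · obtain ⟨Q, -, hQ⟩ := CfsgLib.OddLocal.TH.exists_max_ge (X := A) (IsPGroup.of_bot (p := q) (G := G))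
        (le_of_le_of_eq le_top (Subgroup.normalizer_eq_top (H := (⊥ : Subgroup G))).symm)
      exact ⟨Q, hQ, hQ.1.2.2⟩
  have hsub := CfsgLib.OddLocal.TH.max_subset hG hA hqA hP hPπ hAP hex
  have hb : ∀ Q₁ ∈ Cfsg.maxInvSubgroups ⊤ P {q}, ∀ Q₂ ∈ Cfsg.maxInvSubgroups ⊤ P {q},
      ∃ k ∈ Cfsg.piCoreOf (Cfsg.primesNotDvd (Nat.card A)) (Subgroup.centralizer (P : Set G)),
        Q₂ = Q₁.map (MulAut.conj k).toMonoidHom := by
    intro Q₁ h₁ Q₂ h₂
    rw [← hK]
    exact htr' Q₁ (hsub h₁) Q₂ (hsub h₂) h₁.1.2.2 h₂.1.2.2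
  refine ⟨hK, hb, hsub, fun Q hQ => ?_⟩
  set N := Subgroup.normalizer (P : Set G)
  set KP := Cfsg.piCoreOf (Cfsg.primesNotDvd (Nat.card A)) (Subgroup.centralizer (P : Set G))
  set L := N ⊓ Subgroup.normalizer (Q : Set G)
  have hKN : KP ≤ N := (CfsgLib.OddLocal.TH.core_le _).trans (Subgroup.centralizer_le_normalizer _)
  have hNK : N ≤ Subgroup.normalizer (KP : Set G) :=
    CfsgLib.OddLocal.TH.normalizer_le_normalizer_core (CfsgLib.OddLocal.TH.normalizer_le_normalizer_centralizer P)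
  have hgen : N = KP ⊔ L := by
    refine le_antisymm (fun x hx => ?_) (sup_le hKN inf_le_left)
    obtain ⟨k, hk, he⟩ := hb Q hQ _ (CfsgLib.OddLocal.TH.max_conj hx hQ)
    have hkx : k⁻¹ * x ∈ L := by
      refine Subgroup.mem_inf.2 ⟨mul_mem (inv_mem (hKN hk)) hx, Subgroup.mem_normalizer_iff_map_conj_eq.2 ?_⟩
      show Q.map (MulAut.conj (k⁻¹ * x)).toMonoidHom = Q
      rw [← CfsgLib.OddLocal.TH.map_conj_map_conj, he, CfsgLib.OddLocal.TH.map_conj_map_conj, inv_mul_cancel,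
        CfsgLib.OddLocal.TH.map_conj_one]
    have := mul_mem (Subgroup.mem_sup_left hk : k ∈ KP ⊔ L) (Subgroup.mem_sup_right hkx : k⁻¹ * x ∈ KP ⊔ L)
    rwa [mul_inv_cancel_left] at this
  refine ⟨?_, hgen⟩
  rintro x ⟨hxP, hxN⟩
  -- in `N / KP` the derived subgroup comes from `L`
  haveI : (KP.subgroupOf N).Normal := (Subgroup.normal_subgroupOf_iff_le_normalizer hKN).2 hNK
  let f : N →* N ⧸ KP.subgroupOf N := QuotientGroup.mk' _
  have hfker : f.ker = KP.subgroupOf N := QuotientGroup.ker_mk' _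
  have hLtop : (L.subgroupOf N).map f = (⊤ : Subgroup N).map f := by
    refine le_antisymm (Subgroup.map_mono le_top) (Subgroup.map_le_map_iff.2 ?_)
    rw [hfker, sup_comm, ← Subgroup.subgroupOf_sup hKN inf_le_left, ← hgen, Subgroup.subgroupOf_self]
  have hLN : (L.subgroupOf N).map N.subtype = L := Subgroup.map_subgroupOf_eq_of_le inf_le_left
  have hNN : (⊤ : Subgroup N).map N.subtype = N := by rw [← MonoidHom.range_eq_map, Subgroup.range_subtype]
  rw [← hNN, ← Subgroup.map_commutator] at hxN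
  obtain ⟨y, hy, rfl⟩ := hxN
  have hy' : f y ∈ (⁅L.subgroupOf N, L.subgroupOf N⁆).map f := by
    rw [Subgroup.map_commutator, hLtop, ← Subgroup.map_commutator]
    exact ⟨y, hy, rfl⟩
  obtain ⟨l, hl, hly⟩ := hy'
  have hlL : (l : G) ∈ ⁅L, L⁆ := by
    have : (l : G) ∈ (⁅L.subgroupOf N, L.subgroupOf N⁆).map N.subtype := ⟨l, hl, rfl⟩
    rwa [Subgroup.map_commutator, hLN] at this
  have hlL' : (l : G) ∈ L := Subgroup.commutator_le_self _ hlL
  have hyL : (y : G) ∈ L := ⟨y.2, hQ.1.2.2 hxP⟩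
  have hk : (l : G)⁻¹ * (y : G) ∈ KP := by
    have h0 : l⁻¹ * y ∈ f.ker := by rw [MonoidHom.mem_ker, map_mul, map_inv, hly, inv_mul_cancel]
    rw [hfker] at h0
    exact h0
  -- compare in the abelianization of `L`
  let g : L →* L ⧸ commutator L := QuotientGroup.mk' _
  have hgl : g ⟨l, hlL'⟩ = 1 := by
    refine (QuotientGroup.eq_one_iff _).2 ?_
    have h := hlL
    have hLL : (⊤ : Subgroup L).map L.subtype = L := by rw [← MonoidHom.range_eq_map, Subgroup.range_subtype]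
    rw [← hLL, ← Subgroup.map_commutator] at h
    obtain ⟨w, hw, hwl⟩ := h
    rw [_root_.commutator_def]
    have e : (⟨l, hlL'⟩ : L) = w := Subtype.ext hwl.symm
    rw [e]
    exact hw
  have hgy : g ⟨y, hyL⟩ = g ⟨(l : G)⁻¹ * y, mul_mem (inv_mem hlL') hyL⟩ := by
    have : (⟨(l : G)⁻¹ * y, mul_mem (inv_mem hlL') hyL⟩ : L) = (⟨l, hlL'⟩ : L)⁻¹ * ⟨y, hyL⟩ := Subtype.ext rfl
    rw [this, map_mul, map_inv, hgl, inv_one, one_mul]
  have hone : g ⟨y, hyL⟩ = 1 := by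
    refine orderOf_eq_one_iff.1 (Nat.eq_one_of_dvd_coprimes
      (CfsgLib.OddLocal.TH.coprime_of_primes (A := A) (N := KP) hPπ (CfsgLib.OddLocal.TH.core_primes _)) ?_ ?_)
    · refine (orderOf_map_dvd g _).trans ?_
      rw [Subgroup.orderOf_mk]
      exact P.orderOf_dvd_natCard hxP
    · rw [hgy]
      refine (orderOf_map_dvd g _).trans ?_
      rw [Subgroup.orderOf_mk]
      exact KP.orderOf_dvd_natCard hk
  have hmem := (QuotientGroup.eq_one_iff _).1 hone
  have h1 : (y : G) ∈ ⁅L, L⁆ := by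
    have hm : (y : G) ∈ (commutator L).map L.subtype := ⟨_, hmem, rfl⟩
    rwa [_root_.commutator_def, Subgroup.map_commutator, ← MonoidHom.range_eq_map, Subgroup.range_subtype] at hm
  exact Subgroup.commutator_mono inf_le_right inf_le_right h1

end Cfsg.Agent.S1395
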