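import Cfsg.Statements.S1396
import Cfsg.Agent.OddLocal.TransitivityCases
-- import your own Cfsg.Agent.* helpers here

set_option autoImplicit false
open Cfsg

namespace Cfsg.Agent.S1396

/-- Let G be a minimal simple group of odd order, p a prime dividing the order of G and A an abelian p-subgroup. Suppose either (1) A consists exactly of the elements x of C_G(A) with x^p = 1, and every proper subgroup of G has p-length at most one, or (2) A is normal and self-centralizing in some Sylow p-subgroup of G and has rank at least 2. Then A satisfies the transitivity hypothesis. -/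
theorem result {G : Type*} [Group G] [Finite G] (hG : Cfsg.IsMinSimpleOddOrder G)
    (p : ℕ) [Fact p.Prime] (hp : p ∣ Nat.card G) (A : Subgroup G) (hAp : IsPGroup p A) (hAc : IsMulCommutative A)
    (h : (∀ x ∈ Subgroup.centralizer (A : Set G), x ^ p = 1 ↔ x ∈ A) ∧ (∀ H : Subgroup G, H ≠ ⊤ → Cfsg.PLengthLE p 1 H) ∨
      ∃ P : Sylow p G, Cfsg.IsSCN (P : Subgroup G) A ∧ ¬ Cfsg.PRankLE p 1 A) :
    Cfsg.TransitivityHypothesis A := by
  have hpp : p.Prime := Fact.out
  have hp2 : p ≠ 2 := CfsgLib.CN.MinSimple.p_ne_two hG hp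
  haveI := CfsgLib.CN.MinSimple.nontrivial hG
  have hA1 : A ≠ ⊥ := by
    rintro rfl
    rcases h with ⟨h1, -⟩ | ⟨P, -, h2⟩
    · obtain ⟨x, hx⟩ := exists_prime_orderOf_dvd_card' p hp
      have hxC : x ∈ Subgroup.centralizer ((⊥ : Subgroup G) : Set G) := Subgroup.mem_centralizer_iff.2 fun z hz => by
        rw [Subgroup.mem_bot.1 hz]; simp
      have := Subgroup.mem_bot.1 ((h1 x hxC).1 (hx ▸ pow_orderOf_eq_one x))
      rw [this, orderOf_one] at hx
      exact hpp.ne_one hx.symm
    · refine h2 fun E _ _ => ?_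
      rw [Subsingleton.elim E ⊥, Subgroup.card_bot]
      exact Nat.one_le_pow _ _ hpp.pos
  have hAtop : A ≠ ⊤ := CfsgLib.CN.MinSimple.ne_top hG hAp.isNilpotent
  have hpA : p ∣ Nat.card A := (hAp.card_eq_or_dvd).resolve_left fun e => hA1 (Subgroup.eq_bot_of_card_eq _ e)
  have hAonly : ∀ r : ℕ, r.Prime → r ∣ Nat.card A → r = p := by
    intro r hr hd
    obtain ⟨k, hk⟩ := IsPGroup.iff_card.1 hAp
    rw [hk] at hd
    exact (Nat.prime_dvd_prime_iff_eq hr hpp).1 (hr.dvd_of_dvd_pow hd)
  refine ⟨hA1, hAtop, fun X hX hAX => le_antisymm (sSup_le ?_) (le_sSup ?_)⟩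
  · rintro W ⟨hWX, hW, hn⟩
    have hWc : (Nat.card W).Coprime p :=
      ((Nat.Prime.coprime_iff_not_dvd hpp).2 fun hd => (hW p hpp hd).2 hpA).symm
    have hle : W ≤ (Cfsg.pPrimeCore p X).map X.subtype := by
      rcases h with ⟨h1, -⟩ | ⟨P, hscn, hr⟩
      · haveI : Group.IsSolvable X := hG.2.2.2 X hX
        refine le_of_eq_of_le (Subgroup.map_subgroupOf_eq_of_le hWX).symm (Subgroup.map_mono ?_)
        refine CfsgLib.AbelianSignalizer.le_core hp2 CfsgLib.OddLocal.THCases.isPConstrained_of_solvable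
          (A := A.subgroupOf X) hAp.comap_subtype (fun x hx hxo => ?_) ?_ (fun a ha => ?_)
        · refine (h1 x (Subgroup.mem_centralizer_iff.2 fun a ha => ?_)).1 ?_
          · exact congrArg Subtype.val (Subgroup.mem_centralizer_iff.1 hx ⟨a, hAX ha⟩ ha)
          · rw [← hxo]
            exact congrArg Subtype.val (pow_orderOf_eq_one x)
        · rw [Nat.card_congr (Subgroup.subgroupOfEquivOfLe hWX).toEquiv]
          exact (Nat.Prime.coprime_iff_not_dvd hpp).1 hWc.symm
        · exact (Subgroup.le_normalizer_comap X.subtype) (hn ha)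
      · exact CfsgLib.OddLocal.THCases.le_pPrimeCore_of_scn hG hp2 P hscn hr X hX hAX hWX hn hWc
    refine hle.trans ?_
    refine CfsgLib.OddLocal.TH.le_core (Subgroup.map_subtype_le _) (fun x hx => ?_) fun r hr hd => ⟨hr, fun hrA => ?_⟩
    · exact Subgroup.le_normalizer_map X.subtype (Subgroup.mem_map_of_mem X.subtype
        (Subgroup.le_normalizer_of_normal (H := Cfsg.pPrimeCore p X) (Subgroup.mem_top (⟨x, hx⟩ : X))))
    · rw [Subgroup.card_map_of_injective X.subtype_injective, hAonly r hr hrA] at hd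
      exact (Nat.Prime.coprime_iff_not_dvd hpp).1 (CfsgLib.Solvable.coprime_card_pPrimeCore p).symm hd
  · exact ⟨CfsgLib.OddLocal.TH.core_le X, CfsgLib.OddLocal.TH.core_primes X,
      hAX.trans (CfsgLib.OddLocal.TH.le_normalizer_core X)⟩

end Cfsg.Agent.S1396
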