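import Cfsg.Statements.S1399
import Cfsg.Agent.OddLocal.UniquenessLemma
-- import your own Cfsg.Agent.* helpers here

set_option autoImplicit false
open Cfsg

namespace Cfsg.Agent.S1399

/-- Let G be a minimal simple group of odd order, L a subgroup contained in exactly one maximal subgroup of G, and K a subgroup of C_G(L) having, for some prime p, an elementary abelian subgroup of order p ^ 2. Then K is contained in exactly one maximal subgroup of G. -/
theorem result {G : Type*} [Group G] [Finite G] (hG : Cfsg.IsMinSimpleOddOrder G)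
    (L K : Subgroup G) (hL : Cfsg.InUniqueMaximal L) (hK : K ≤ Subgroup.centralizer (L : Set G)) (hKr : ¬ Cfsg.RankLE 1 K) :
    Cfsg.InUniqueMaximal K := by
  obtain ⟨M, ⟨hM, hLM⟩, huniq⟩ := hL
  unfold Cfsg.RankLE at hKr
  push Not at hKr
  obtain ⟨p, hp, hr⟩ := hKr
  haveI := Fact.mk hp
  unfold Cfsg.PRankLE at hr
  push Not at hr
  obtain ⟨A, hAc, hAe, hAcard⟩ := hr
  haveI := hAc
  have hB : Cfsg.IsElementaryAbelian p (A.map K.subtype) := by
    refine ⟨Subgroup.map_isMulCommutative A _, ?_⟩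
    rintro _ ⟨a, ha, rfl⟩
    exact congrArg Subtype.val (hAe a ha)
  have hBcard : p ^ 1 < Nat.card (A.map K.subtype) := by
    rwa [Subgroup.card_map_of_injective K.subtype_injective]
  have hB1 : A.map K.subtype ≠ ⊥ := fun h => by
    rw [h, Subgroup.card_bot, pow_one] at hBcard
    have := hp.two_le
    omega
  have hB2 : p ^ 2 ≤ Nat.card (A.map K.subtype) := by
    obtain ⟨k, hk⟩ := IsPGroup.iff_card.1 (CfsgLib.Signalizer.isPGroup hB)
    rw [hk] at hBcard ⊢
    exact Nat.pow_le_pow_right hp.pos ((Nat.pow_lt_pow_iff_right hp.one_lt).1 hBcard)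
  have hne : Subgroup.centralizer (L : Set G) ≠ ⊤ := by
    intro h
    have hz : ∀ l ∈ L, l = 1 := fun l hl => by
      by_contra hl1
      refine CfsgLib.CN.MinSimple.normalizer_ne_top hG (CfsgLib.CN.nilpotent_zpowers l)
        (fun e => hl1 (Subgroup.zpowers_eq_bot.1 e)) (top_unique fun g _ => ?_)
      refine Subgroup.centralizer_le_normalizer _ (Subgroup.mem_centralizer_iff.2 fun z hz => ?_)
      obtain ⟨i, rfl⟩ := Subgroup.mem_zpowers_iff.1 hz
      have hg : l * g = g * l := Subgroup.mem_centralizer_iff.1 (h.ge (Subgroup.mem_top g)) l hl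
      exact ((show Commute l g from hg).zpow_left i).eq
    refine hM.1 (eq_top_iff.2 fun g _ => ?_)
    obtain ⟨M', hM', hgM'⟩ := (eq_top_or_exists_le_coatom (Subgroup.zpowers g)).resolve_left
      (CfsgLib.CN.MinSimple.ne_top hG (CfsgLib.CN.nilpotent_zpowers g))
    rw [← huniq M' ⟨hM', fun l hl => (hz l hl).symm ▸ one_mem M'⟩]
    exact hgM' (Subgroup.mem_zpowers g)
  have hcent : ∀ b ∈ A.map K.subtype, b ≠ 1 → Subgroup.centralizer ({b} : Set G) ≤ M := by
    intro b hb hb1
    have hC : Subgroup.centralizer ({b} : Set G) ≠ ⊤ := by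
      intro h
      refine CfsgLib.CN.MinSimple.normalizer_ne_top hG (CfsgLib.CN.nilpotent_zpowers b)
        (fun e => hb1 (Subgroup.zpowers_eq_bot.1 e)) (top_unique (h ▸ fun g hg => ?_))
      refine Subgroup.centralizer_le_normalizer _ (Subgroup.mem_centralizer_iff.2 fun z hz => ?_)
      obtain ⟨i, rfl⟩ := Subgroup.mem_zpowers_iff.1 hz
      exact ((show Commute g b from Subgroup.mem_centralizer_singleton_iff.1 hg).symm.zpow_left i).eq
    obtain ⟨M', hM', hle⟩ := (eq_top_or_exists_le_coatom _).resolve_left hC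
    rw [← huniq M' ⟨hM', fun l hl => hle (Subgroup.mem_centralizer_singleton_iff.2
      (Subgroup.mem_centralizer_iff.1 (hK (Subgroup.map_subtype_le A hb)) l hl))⟩]
    exact hle
  have hBM : A.map K.subtype ≤ M := fun c hc => by
    by_cases hc1 : c = 1
    · exact hc1 ▸ one_mem M
    · exact hcent c hc hc1 (Subgroup.mem_centralizer_singleton_iff.2 rfl)
  obtain ⟨M₀, -, hu⟩ := CfsgLib.OddLocal.Uniq.unique_of_invariant hG hM hBM hB hB1
    (fun Y hY hYc => CfsgLib.Signalizer.le_of_forall_centralizer hB le_rfl hB2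
      hY ((Nat.Prime.coprime_iff_not_dvd hp).1 hYc.symm) fun c hc hc1 => inf_le_right.trans (hcent c hc hc1))
  have heq : ∀ H : Subgroup G, IsCoatom H → A.map K.subtype ≤ H → H = M := fun H h1 h2 =>
    (hu H ⟨h1, h2⟩).trans (hu M ⟨hM, hBM⟩).symm
  obtain ⟨M', hM', hle⟩ := (eq_top_or_exists_le_coatom _).resolve_left hne
  have hKM : K ≤ M := heq M' hM' (((Subgroup.map_subtype_le A).trans hK).trans hle) ▸ hK.trans hle
  exact ⟨M, ⟨hM, hKM⟩, fun H hH => heq H hH.1 ((Subgroup.map_subtype_le A).trans hH.2)⟩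

end Cfsg.Agent.S1399
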