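import Cfsg.Statements.S2332
import Cfsg.Agent.MinDeg.LinearMin

set_option autoImplicit false
open Cfsg

namespace Cfsg.Agent.S2332

/-- Smallest degree of a non-linear irreducible complex representation of SL_n over a finite field with q elements, for n ≥ 3 and (n, q) not one of (3, 2), (3, 4), (4, 2), (4, 3): every irreducible complex representation of SL_n(F) of degree at least 2 has degree at least (q^n − q)/(q − 1), and there is an irreducible complex representation of exactly that degree. -/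
theorem result {F : Type*} [Field F] [Fintype F] [DecidableEq F] (n : ℕ) (hn : 3 ≤ n)
    (hex : (n, Fintype.card F) ≠ (3, 2) ∧ (n, Fintype.card F) ≠ (3, 4) ∧ (n, Fintype.card F) ≠ (4, 2) ∧ (n, Fintype.card F) ≠ (4, 3)) :
    (∀ (k : ℕ) (ρ : Representation ℂ (Matrix.SpecialLinearGroup (Fin n) F) (Fin k → ℂ)), ρ.IsIrreducible → 2 ≤ k → (Fintype.card F ^ n - Fintype.card F) / (Fintype.card F - 1) ≤ k) ∧
    (∃ ρ : Representation ℂ (Matrix.SpecialLinearGroup (Fin n) F) (Fin ((Fintype.card F ^ n - Fintype.card F) / (Fintype.card F - 1)) → ℂ), ρ.IsIrreducible) := by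
  classical
  obtain ⟨d, rfl⟩ : ∃ d, n = d + 2 := ⟨n - 2, by omega⟩
  simp only [ne_eq, Prod.mk.injEq] at hex
  obtain ⟨e32, e34, e42, e43⟩ := hex
  have hq2 : 2 ≤ Fintype.card F := Fintype.one_lt_card
  rw [show (Fintype.card F ^ (d + 2) - Fintype.card F) / (Fintype.card F - 1) =
    Fintype.card F * ∑ i ∈ Finset.range (d + 1), Fintype.card F ^ i from CfsgLib.MinDeg.Lin.div_eq (d + 1)]
  refine ⟨fun k ρ hρ hk => CfsgLib.MinDeg.Lin.sl_lower d (by omega) ?_ ?_ ρ hρ hk, CfsgLib.MinDeg.Lin.sl_exists d⟩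
  · rintro rfl
    refine CfsgLib.MinDeg.Lin.exists_pow_ne_one fun h => ?_
    have := (Nat.dvd_prime Nat.prime_three).1 h
    omega
  · rintro rfl
    refine CfsgLib.MinDeg.Lin.exists_pow_ne_one fun h => ?_
    have := (Nat.dvd_prime Nat.prime_two).1 h
    omega

end Cfsg.Agent.S2332
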