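import Cfsg.Statements.S2334
import Cfsg.Agent.MinDeg.UnitaryBound
-- import your own Cfsg.Agent.* helpers here

set_option autoImplicit false
open Cfsg

namespace Cfsg.Agent.S2334

/-- For odd n ≥ 3 and a finite field F with q² elements, (n, q) ≠ (3, 2), every irreducible complex representation of the special unitary group SU_n(q) (the determinant-one isometries of the standard Hermitian form over F) of degree at least 2 has degree at least (q^n − q)/(q + 1). -/
theorem result {F : Type*} [Field F] [Fintype F] [DecidableEq F] (n q : ℕ) (hn : 3 ≤ n) (hodd : Odd n) (hF : Fintype.card F = q ^ 2) (hex : (n, q) ≠ (3, 2)) :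
    (∀ (k : ℕ) (ρ : Representation ℂ (Cfsg.SU n F q) (Fin k → ℂ)), ρ.IsIrreducible → 2 ≤ k → (q ^ n - q) / (q + 1) ≤ k) := by
  intro k ρ hρ hk
  obtain ⟨m, hm⟩ := hodd
  have hF' : Nat.card F = q ^ 2 := by rw [Nat.card_eq_fintype_card, hF]
  have h := CfsgLib.MinDeg.unitary_odd_bound hF' hm (by omega)
    (by rintro ⟨rfl, rfl⟩; exact hex rfl) hρ (by rwa [Module.finrank_fin_fun])
  rw [Module.finrank_fin_fun] at h
  refine Nat.div_le_of_le_mul ?_
  rw [hm, pow_succ]
  calc q ^ (2 * m) * q - q = (q ^ (2 * m) - 1) * q := by rw [Nat.sub_mul, one_mul]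
    _ ≤ (q + 1) * k := h

end Cfsg.Agent.S2334
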