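import Cfsg.Statements.S0622
import Cfsg.Agent.PLocal.StableClosure
-- import your own Cfsg.Agent.* helpers here

set_option autoImplicit false
universe u
open Cfsg

namespace Cfsg.Agent.S0622

/-- Basic properties of the stable normal closure W(S) of Ω₁(Z(S)) in a finite p-group: characteristic, squeezed between Ω₁(Z(S)) and Ω₁(Z(J(S))), nontrivial for S ≠ 1, and transported by group isomorphisms. -/
theorem result {S : Type u} [Group S] [Finite S] {p : ℕ} [Fact p.Prime] (hS : IsPGroup p S) : (Cfsg.stableNormalClosure p S).Characteristic ∧ Cfsg.omegaOne p (Subgroup.center S) ≤ Cfsg.stableNormalClosure p S ∧ Cfsg.stableNormalClosure p S ≤ Cfsg.omegaCenterThompson p S ∧ (Nontrivial S → Cfsg.stableNormalClosure p S ≠ ⊥) ∧ ∀ (S' : Type u) [Group S'] (η : S ≃* S'), (Cfsg.stableNormalClosure p S).map η.toMonoidHom = Cfsg.stableNormalClosure p S' := by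
  open CfsgLib.StableClosure CfsgLib.Thompson Subgroup in
  refine ⟨stableNormalClosure_characteristic, omegaOne_center_le_stableNormalClosure, stableNormalClosure_le, fun hnt hbot => ?_,
    fun S' _ η => map_stableNormalClosure η⟩
  have := hS.center_nontrivial
  obtain ⟨k, hk⟩ := IsPGroup.iff_card.mp (hS.to_subgroup (center S))
  have h1 : 1 < Nat.card (center S) := Finite.one_lt_card_iff_nontrivial.mpr this
  obtain ⟨x, hx⟩ := exists_prime_orderOf_dvd_card' (G := center S) p (by
    rw [hk]
    exact dvd_pow_self p (fun h => by rw [hk, h, pow_zero] at h1; omega))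
  have hx1 : (x : S) = 1 := by
    rw [← mem_bot, ← hbot]
    exact omegaOne_center_le_stableNormalClosure (mem_omegaOne x.2
      (by rw [← Subgroup.coe_pow, ← hx, pow_orderOf_eq_one, Subgroup.coe_one]))
  rw [show x = 1 from Subtype.ext hx1, orderOf_one] at hx
  exact (Fact.out : p.Prime).one_lt.ne hx


end Cfsg.Agent.S0622
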