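import Cfsg.Statements.S0597
import Cfsg.Agent.PLocal.SubnormalJoin
-- import your own Cfsg.Agent.* helpers here

set_option autoImplicit false
open Cfsg
open scoped commutatorElement Pointwise

namespace Cfsg.Agent.S0597

/-- If two subnormal subgroups of a faithful group on an elementary abelian p-group satisfy [V, E₁, E₂] = 1, then their commutator lies in the largest normal p-subgroup. -/
theorem result {G : Type*} [Group G] [Finite G] {p : ℕ} [Fact p.Prime] (V H : Subgroup G) (hV : Cfsg.IsElementaryAbelian p V) (hHV : H ≤ Subgroup.normalizer (V : Set G)) (hf : H ⊓ Subgroup.centralizer (V : Set G) = ⊥) (E₁ E₂ : Subgroup G) (h₁ : E₁ ≤ H) (h₂ : E₂ ≤ H) (hs₁ : (E₁.subgroupOf H).IsSubnormal) (hs₂ : (E₂.subgroupOf H).IsSubnormal) (hc : ⁅⁅V, E₁⁆, E₂⁆ = ⊥) : ⁅E₁, E₂⁆ ≤ (Cfsg.pCore p H).map H.subtype := by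
  classical
  obtain ⟨hab, hexp⟩ := id hV
  have hcomm : ∀ x ∈ V, ∀ y ∈ V, x * y = y * x := fun x hx y hy =>
    congrArg Subtype.val (hab.is_comm.comm (⟨x, hx⟩ : V) ⟨y, hy⟩)
  set W : Subgroup G := ⁅V, E₁⁆ with hW
  have hconj : ∀ h ∈ H, ∀ v ∈ V, h * v * h⁻¹ ∈ V := fun h hh v hv =>
    (Subgroup.mem_normalizer_iff.1 (hHV hh) v).1 hv
  have hWV : W ≤ V := by
    rw [hW, Subgroup.commutator_le]
    intro v hv a ha
    rw [commutatorElement_def, show v * a * v⁻¹ * a⁻¹ = v * (a * v⁻¹ * a⁻¹) by group]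
    exact V.mul_mem hv (hconj a (h₁ ha) _ (V.inv_mem hv))
  have hE2 : ∀ b ∈ E₂, ∀ w ∈ W, b * w * b⁻¹ = w := fun b hb w hw => by
    rw [Subgroup.mem_centralizer_iff.1 ((Subgroup.commutator_eq_bot_iff_le_centralizer.1 hc) hw) b hb,
      mul_inv_cancel_right]
  have hE1 : ∀ a ∈ E₁, ∀ w ∈ W, a * w * a⁻¹ ∈ W := fun a ha w hw =>
    (Subgroup.mem_normalizer_iff.1 (Subgroup.normalizer_commutator_ge_right V E₁ ha) w).1 hw
  have hmod : ∀ a ∈ E₁, ∀ v ∈ V, a * v * a⁻¹ * v⁻¹ ∈ W := fun a ha v hv => by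
    have h1 : ⁅v⁻¹, a⁆ ∈ W := Subgroup.commutator_mem_commutator (V.inv_mem hv) ha
    have h2 := hcomm v⁻¹ (V.inv_mem hv) _ (hconj a (h₁ ha) v hv)
    rw [commutatorElement_def, inv_inv,
      show v⁻¹ * a * v * a⁻¹ = v⁻¹ * (a * v * a⁻¹) by group, h2] at h1
    exact h1
  let T : Subgroup G :=
    { carrier := {c | c ∈ H ∧ (∀ w ∈ W, c * w * c⁻¹ = w) ∧ ∀ v ∈ V, c * v * c⁻¹ * v⁻¹ ∈ W}
      one_mem' := ⟨H.one_mem, by simp, by simp [Subgroup.one_mem]⟩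
      mul_mem' := by
        rintro c d ⟨hc0, hc1, hc2⟩ ⟨hd0, hd1, hd2⟩
        refine ⟨H.mul_mem hc0 hd0, fun w hw => ?_, fun v hv => ?_⟩
        · rw [show c * d * w * (c * d)⁻¹ = c * (d * w * d⁻¹) * c⁻¹ by group, hd1 w hw, hc1 w hw]
        · rw [show c * d * v * (c * d)⁻¹ * v⁻¹ =
            c * (d * v * d⁻¹ * v⁻¹) * c⁻¹ * (c * v * c⁻¹ * v⁻¹) by group]
          exact W.mul_mem (by rw [hc1 _ (hd2 v hv)]; exact hd2 v hv) (hc2 v hv)
      inv_mem' := by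
        rintro c ⟨hc0, hc1, hc2⟩
        refine ⟨H.inv_mem hc0, fun w hw => ?_, fun v hv => ?_⟩
        · calc c⁻¹ * w * c⁻¹⁻¹ = c⁻¹ * (c * w * c⁻¹) * c := by rw [hc1 w hw, inv_inv]
            _ = w := by group
        · have hv' : c⁻¹ * v * c ∈ V := by simpa using hconj _ (H.inv_mem hc0) v hv
          have := W.inv_mem (hc2 _ hv')
          rw [show (c * (c⁻¹ * v * c) * c⁻¹ * (c⁻¹ * v * c)⁻¹)⁻¹ = c⁻¹ * v * c⁻¹⁻¹ * v⁻¹ by group] at this
          exact this }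
  have hCT : ⁅E₁, E₂⁆ ≤ T := by
    rw [Subgroup.commutator_le]
    intro a ha b hb
    have hb' := E₂.inv_mem hb
    have ha' := E₁.inv_mem ha
    refine ⟨?_, fun w hw => ?_, fun v hv => ?_⟩
    · rw [commutatorElement_def]
      exact H.mul_mem (H.mul_mem (H.mul_mem (h₁ ha) (h₂ hb)) (h₁ ha')) (h₂ hb')
    · have w1 : b⁻¹ * w * b = w := by simpa using hE2 _ hb' w hw
      rw [commutatorElement_def, show a * b * a⁻¹ * b⁻¹ * w * (a * b * a⁻¹ * b⁻¹)⁻¹ =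
        a * (b * (a⁻¹ * (b⁻¹ * w * b) * a) * b⁻¹) * a⁻¹ by group, w1,
        hE2 b hb _ (by simpa using hE1 _ ha' w hw)]
      group
    · set v1 := b⁻¹ * v * b with hv1
      have hv1V : v1 ∈ V := by simpa [hv1] using hconj _ (h₂ hb') v hv
      obtain ⟨w1, hw1, e1⟩ : ∃ w1 ∈ W, a⁻¹ * v1 * a = w1 * v1 :=
        ⟨a⁻¹ * v1 * a * v1⁻¹, by simpa using hmod _ ha' v1 hv1V, by group⟩
      rw [commutatorElement_def, show a * b * a⁻¹ * b⁻¹ * v * (a * b * a⁻¹ * b⁻¹)⁻¹ * v⁻¹ =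
        a * (b * (a⁻¹ * v1 * a) * b⁻¹) * a⁻¹ * v⁻¹ by rw [hv1]; group, e1,
        show b * (w1 * v1) * b⁻¹ = (b * w1 * b⁻¹) * v by rw [hv1]; group, hE2 b hb w1 hw1,
        show a * (w1 * v) * a⁻¹ * v⁻¹ = (a * w1 * a⁻¹) * (a * v * a⁻¹ * v⁻¹) by group]
      exact W.mul_mem (hE1 a ha w1 hw1) (hmod a ha v hv)
  have hCH : ⁅E₁, E₂⁆ ≤ H := fun c hc' => (hCT hc').1
  have hp : IsPGroup p (⁅E₁, E₂⁆ : Subgroup G) := by
    rintro ⟨c, hc'⟩
    refine ⟨1, Subtype.ext ?_⟩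
    obtain ⟨hc0, hc1, hc2⟩ := hCT hc'
    rw [pow_one, SubmonoidClass.coe_pow, Subgroup.coe_one]
    have key : ∀ v ∈ V, ∀ k : ℕ, c ^ k * v * (c ^ k)⁻¹ = (c * v * c⁻¹ * v⁻¹) ^ k * v := by
      intro v hv k
      induction k with
      | zero => simp
      | succ k ih =>
        calc c ^ (k + 1) * v * (c ^ (k + 1))⁻¹ = c * (c ^ k * v * (c ^ k)⁻¹) * c⁻¹ := by
              rw [pow_succ']; group
          _ = (c * ((c * v * c⁻¹ * v⁻¹) ^ k) * c⁻¹) * (c * v * c⁻¹) := by rw [ih]; group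
          _ = (c * v * c⁻¹ * v⁻¹) ^ k * (c * v * c⁻¹) := by rw [hc1 _ (W.pow_mem (hc2 v hv) k)]
          _ = _ := by rw [pow_succ]; group
    have : c ^ p ∈ H ⊓ Subgroup.centralizer (V : Set G) := by
      refine ⟨H.pow_mem hc0 p, Subgroup.mem_centralizer_iff.2 fun v hv => ?_⟩
      have := key v hv p
      rw [hexp _ (hWV (hc2 v hv)), one_mul, mul_inv_eq_iff_eq_mul] at this
      exact this.symm
    rwa [hf, Subgroup.mem_bot] at this
  have hnX : (E₁ ⊔ E₂) ≤ Subgroup.normalizer (⁅E₁, E₂⁆ : Subgroup G) :=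
    sup_le (Subgroup.normalizer_commutator_ge_left _ _) (Subgroup.normalizer_commutator_ge_right _ _)
  have hle : ⁅E₁, E₂⁆ ≤ E₁ ⊔ E₂ :=
    (Subgroup.commutator_mono le_sup_left le_sup_right).trans (Subgroup.commutator_le_self _)
  have hsn : (⁅E₁, E₂⁆.subgroupOf H).IsSubnormal := by
    refine Subgroup.IsSubnormal.step _ ((E₁ ⊔ E₂).subgroupOf H) (Subgroup.comap_mono hle)
      ?_ (Subgroup.normal_subgroupOf_of_le_normalizer ((Subgroup.comap_mono hnX).trans (Subgroup.le_normalizer_comap _)))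
    rw [Subgroup.subgroupOf_sup h₁ h₂]
    exact CfsgLib.SubnormalJoin.isSubnormal_sup hs₁ hs₂
  have := Subgroup.map_mono (f := H.subtype) (CfsgLib.SubnormalJoin.le_pCore_of_isSubnormal hsn (hp.of_equiv (Subgroup.subgroupOfEquivOfLe hCH).symm))
  rwa [Subgroup.map_subgroupOf_eq_of_le hCH] at this


end Cfsg.Agent.S0597
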