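import Cfsg.Statements.S4364
import Cfsg.Agent.Kazarin.Main

set_option autoImplicit false
set_option linter.style.haveILetI false
open Cfsg

namespace Cfsg.Agent.S4364

/-- Let G be a finite group, p a prime and x an element whose conjugacy class has p-power size. Then for any two conjugates y and z of x, the commutator y z y⁻¹ z⁻¹ lies in O_p(G), the largest normal p-subgroup of G. -/
theorem result {G : Type*} [Group G] [Finite G] (p : ℕ) [Fact p.Prime]
    (x : G) (hx : ∃ a : ℕ, (Subgroup.centralizer ({x} : Set G)).index = p ^ a) (g h : G) :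
    (g * x * g⁻¹) * (h * x * h⁻¹) * (g * x * g⁻¹)⁻¹ * (h * x * h⁻¹)⁻¹ ∈ Cfsg.pCore p G := by
  classical
  obtain ⟨a, ha⟩ := hx
  set O := Cfsg.pCore p G with hO
  haveI : O.Normal := Subgroup.sSup_normal _ (fun _ h => h.1)
  let π := QuotientGroup.mk' O
  have hπ : Function.Surjective π := QuotientGroup.mk'_surjective O
  have hOp : IsPGroup p O := CfsgLib.Solvable.isPGroup_pCore (p := p)
  have hbot : Cfsg.pCore p (G ⧸ O) = ⊥ := by
    haveI : (Cfsg.pCore p (G ⧸ O)).Normal := Subgroup.sSup_normal _ (fun _ h => h.1)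
    have hp' : IsPGroup p ((Cfsg.pCore p (G ⧸ O)).comap π) :=
      (CfsgLib.Solvable.isPGroup_pCore (p := p)).comap_of_ker_isPGroup π (by rw [QuotientGroup.ker_mk']; exact hOp)
    have hle := CfsgLib.Solvable.le_pCore (p := p) inferInstance hp'
    rw [eq_bot_iff]
    intro y hy
    obtain ⟨c, rfl⟩ := hπ y
    exact (QuotientGroup.eq_one_iff c).2 (hle hy)
  obtain ⟨b, -, hb⟩ := (Nat.dvd_prime_pow (Fact.out : p.Prime)).1
    (ha ▸ CfsgLib.Kazarin.index_map_centralizer π hπ x)
  have hmem : ∀ t : G, π (t * x * t⁻¹) ∈ Subgroup.normalClosure ({π x} : Set (G ⧸ O)) := fun t => by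
    rw [map_mul, map_mul, map_inv]
    exact (Subgroup.normalClosure_normal (s := ({π x} : Set (G ⧸ O)))).conj_mem (π x)
      (Subgroup.subset_normalClosure (Set.mem_singleton (π x))) (π t)
  have hc := CfsgLib.Kazarin.comm_of_pCore_eq_bot hbot (π x) hb _ (hmem g) _ (hmem h)
  rw [← QuotientGroup.eq_one_iff]
  show π _ = 1
  rw [map_mul, map_mul, map_mul, map_inv, map_inv, hc]
  group

end Cfsg.Agent.S4364
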