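import Cfsg.Statements.S1427
import Cfsg.Agent.OddLocal.CyclicSylowAction
-- import your own Cfsg.Agent.* helpers here

set_option autoImplicit false
open Cfsg

namespace Cfsg.Agent.S1427

/-- Let G be a minimal simple group of odd order, M a maximal subgroup, E a complement to M_σ in M, and S a nontrivial cyclic Sylow subgroup of E (for some prime). Then M_σ ∩ C_G(x) = M_σ ∩ C_G(S) for every non-identity x ∈ S. -/
theorem result {G : Type*} [Group G] [Finite G] (hG : Cfsg.IsMinSimpleOddOrder G)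
    (M : Subgroup G) (hM : IsCoatom M) (E : Subgroup G) (hE : Cfsg.IsComplIn E (Cfsg.sigmaCore M) M) (p : ℕ) [Fact p.Prime] (S : Sylow p E) (hS1 : (S : Subgroup E) ≠ ⊥) (hSc : IsCyclic (S : Subgroup E)) :
    ∀ x ∈ (S : Subgroup E).map E.subtype, x ≠ 1 →
        Cfsg.sigmaCore M ⊓ Subgroup.centralizer ({x} : Set G) = Cfsg.sigmaCore M ⊓ Subgroup.centralizer (((S : Subgroup E).map E.subtype : Subgroup G) : Set G) := by
  classical
  intro x hx hx1
  set T := (S : Subgroup E).map E.subtype with hT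
  have hTp : IsPGroup p T := S.2.map _
  have hTd : ¬ p ∣ T.relIndex E := by
    rw [hT, Subgroup.relIndex, ← Subgroup.comap_subtype, Subgroup.comap_map_eq_self_of_injective E.subtype_injective]
    exact S.not_dvd_index
  have hTc : IsCyclic T := ((S : Subgroup E).equivMapOfInjective E.subtype E.subtype_injective).isCyclic.1 hSc
  obtain ⟨k, hk⟩ := hTp ⟨x, hx⟩
  obtain ⟨j, -, hj⟩ := (Nat.dvd_prime_pow Fact.out).1 (orderOf_dvd_of_pow_eq_one (congrArg Subtype.val hk))
  obtain ⟨i, rfl⟩ : ∃ i, j = i + 1 := ⟨j - 1, (Nat.succ_pred_eq_of_ne_zero fun h0 => hx1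
    (orderOf_eq_one_iff.1 (by rw [h0, pow_zero] at hj; exact hj))).symm⟩
  have ho : orderOf (x ^ p ^ i) = p := by
    rw [orderOf_pow' _ (pow_ne_zero _ (Fact.out : p.Prime).ne_zero), hj,
      Nat.gcd_eq_right (pow_dvd_pow p (Nat.le_succ i)), pow_succ, Nat.mul_div_cancel_left _ (pow_pos (Fact.out : p.Prime).pos _)]
  refine le_antisymm (le_inf inf_le_left (le_trans (fun y hy => ?_)
    (CfsgLib.OddLocal.Tau.cyclic_action hG hM hE hTp (Subgroup.map_subtype_le _) hTd hTc (pow_mem hx _) ho)))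
    (inf_le_inf_left _ (Subgroup.centralizer_le (Set.singleton_subset_iff.2 hx)))
  refine ⟨hy.1, Subgroup.mem_centralizer_singleton_iff.2 ?_⟩
  exact ((show Commute y x from Subgroup.mem_centralizer_singleton_iff.1 hy.2).pow_right _).eq

end Cfsg.Agent.S1427
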