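import Cfsg.Statements.S5089
import Cfsg.Agent.Fusion.NormalCriteria

set_option autoImplicit false
open Cfsg Cfsg.FusionSystem CfsgLib.Fusion

namespace Cfsg.Agent.S5089

/-- A saturated fusion system over a finite p-group has a nontrivial subgroup that is normal in the system (O_p(F) ≠ 1) if and only if some nontrivial abelian subgroup is strongly closed in the system. -/
theorem result {Ω : Type*} [Group Ω] {S : Subgroup Ω} [Finite S] (p : ℕ) [Fact p.Prime] (hS : IsPGroup p S) (F : Cfsg.FusionSystem S) (hF : F.IsSaturated p) : F.core ≠ ⊥ ↔ ∃ Q : Subgroup Ω, Q ≠ ⊥ ∧ IsMulCommutative Q ∧ F.StronglyClosed Q := by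
  constructor
  · intro h
    have hn : F.IsNormal F.core := isNormal_core
    have := finite_of_le (core_le_S (F := F))
    have : Nontrivial F.core := (Subgroup.nontrivial_iff_ne_bot _).2 h
    have := (isPGroup_of_le hS (core_le_S (F := F))).center_nontrivial
    refine ⟨(Subgroup.center F.core).map F.core.subtype, ?_, ⟨⟨?_⟩⟩,
      stronglyClosed_of_isNormal (isNormal_of_characteristic hn (Subgroup.map_subtype_le _) ?_)⟩
    · rw [Ne, Subgroup.map_eq_bot_iff_of_injective _ F.core.subtype_injective]
      exact (Subgroup.nontrivial_iff_ne_bot _).1 this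
    · rintro ⟨_, a, ha, rfl⟩ ⟨_, b, -, rfl⟩
      exact Subtype.ext (congrArg Subtype.val (Subgroup.mem_center_iff.1 ha b).symm :)
    · rw [Subgroup.subgroupOf, Subgroup.comap_map_eq_self_of_injective F.core.subtype_injective]
      infer_instance
  · rintro ⟨Q, hQ, hab, hsc⟩ h
    exact hQ (eq_bot_iff.2 (h ▸ le_core (isNormal_of_abelian p hS hF hsc hab)))

end Cfsg.Agent.S5089
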