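import Cfsg.Statements.S2759
import Cfsg.Agent.ZJ.SymFourSection


set_option autoImplicit false
open Cfsg

namespace Cfsg.Agent.S2759

/-- For a finite group G, the symmetric group of degree 4 is involved in G if and only if there is a 2-subgroup T of G such that the symmetric group of degree 3 is involved in N(T)/C(T). -/
theorem result {G : Type*} [Group G] [Finite G] : Cfsg.Involves (Equiv.Perm (Fin 4)) G ↔ ∃ T : Subgroup G, IsPGroup 2 ↥T ∧ Cfsg.Involves (Equiv.Perm (Fin 3)) (↥(Subgroup.normalizer (T : Set G)) ⧸ (Subgroup.centralizer (T : Set G)).subgroupOf (Subgroup.normalizer (T : Set G))) := by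
  classical
  constructor
  · intro h
    obtain ⟨T, hT, hi⟩ := CfsgLib.ZJ.exists_action_of_involves_s4 h
    exact ⟨T, hT, CfsgLib.ZJ.involves_perm_three_iff.mpr hi⟩
  · rintro ⟨T, hT, hi⟩
    have hi' := CfsgLib.ZJ.involves_perm_three_iff.mp hi
    set N := Subgroup.normalizer (T : Set G)
    haveI : (T.subgroupOf N).Normal := Subgroup.normal_in_normalizer
    have hcen : (Subgroup.centralizer (T : Set G)).subgroupOf N =
        Subgroup.centralizer ((T.subgroupOf N : Subgroup N) : Set N) := by
      ext x
      simp only [Subgroup.mem_subgroupOf, Subgroup.mem_centralizer_iff]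
      constructor
      · intro hx y hy
        exact Subtype.ext (hx _ hy)
      · intro hx y hy
        exact congrArg Subtype.val (hx ⟨y, Subgroup.le_normalizer hy⟩ hy)
    refine CfsgLib.ZJ.involves_of_subgroup N (CfsgLib.ZJ.involves_s4_of_action (T.subgroupOf N)
      (hT.comap_subtype) ?_)
    obtain ⟨g, x, hx, ⟨k, hk⟩, hgx⟩ := hi'
    let e := QuotientGroup.quotientMulEquivOfEq hcen
    exact ⟨e g, e x, fun hh => hx (e.injective (hh.trans (map_one e).symm)),
      ⟨k, by rw [← map_pow, hk, map_one]⟩, by rw [← map_inv, ← map_mul, ← map_mul, hgx, map_inv]⟩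

end Cfsg.Agent.S2759
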