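import Cfsg.Statements.S5109
import Cfsg.Agent.Fusion.WFunctor
import Cfsg.Agent.Fusion.NormalizerModel
import Cfsg.Agent.ZJ.Involve
import Cfsg.Agent.S2759

set_option autoImplicit false
set_option linter.style.haveILetI false
open Cfsg Cfsg.FusionSystem

namespace Cfsg.Agent.S5109

universe u

private theorem perm_three_two_normal : ∀ x : Equiv.Perm (Fin 3), x * x = 1 → x ≠ 1 →
    ∃ y : Equiv.Perm (Fin 3), (x * (y * x * y⁻¹)) * (x * (y * x * y⁻¹)) * (x * (y * x * y⁻¹)) = 1 ∧
      x * (y * x * y⁻¹) ≠ 1 := by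
  decide +kernel

private theorem two_normal_trivial {N : Subgroup (Equiv.Perm (Fin 3))} (hN : N.Normal)
    (h2 : IsPGroup 2 N) : N = ⊥ := by
  by_contra h
  obtain ⟨k, hk⟩ := IsPGroup.iff_card.1 h2
  have hk0 : k ≠ 0 := fun h0 => h (Subgroup.card_eq_one.1 (by rw [hk, h0, pow_zero]))
  haveI : Fact (Nat.Prime 2) := ⟨Nat.prime_two⟩
  obtain ⟨x, hx⟩ := exists_prime_orderOf_dvd_card' (G := N) 2 (hk ▸ dvd_pow_self 2 hk0)
  have hx1 : (x : Equiv.Perm (Fin 3)) ≠ 1 := fun e => by
    rw [← Subgroup.orderOf_coe, e, orderOf_one] at hx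
    omega
  obtain ⟨y, hy3, hy1⟩ := perm_three_two_normal x (by
    rw [← pow_two, ← hx, ← Subgroup.orderOf_coe, pow_orderOf_eq_one]) hx1
  have hc : (x : Equiv.Perm (Fin 3)) * (y * x * y⁻¹) ∈ N := mul_mem x.2 (hN.conj_mem _ x.2 y)
  have h3 : orderOf (⟨_, hc⟩ : N) = 3 :=
    haveI : Fact (Nat.Prime 3) := ⟨Nat.prime_three⟩
    orderOf_eq_prime (Subtype.ext (by rw [SubmonoidClass.coe_pow, pow_succ, pow_two]; exact hy3))
      fun e => hy1 (congrArg Subtype.val e)
  have hd : 3 ∣ 2 ^ k := by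
    rw [← hk]
    exact h3.symm.dvd.trans (orderOf_dvd_natCard _)
  exact absurd (Nat.prime_three.dvd_of_dvd_pow hd) (by norm_num)

private theorem involves_image {L A : Type*} [Group L] [Group A] (α : L →* A)
    (hker : IsPGroup 2 α.ker) (h : Cfsg.Involves (Equiv.Perm (Fin 3)) L) :
    Cfsg.Involves (Equiv.Perm (Fin 3)) A := by
  obtain ⟨K, f, hf⟩ := CfsgLib.ZJ.exists_surjective_of_involves h
  have hbot : ((α.ker.subgroupOf K).map f) = ⊥ :=
    two_normal_trivial (Subgroup.Normal.map inferInstance f hf)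
      ((hker.comap_subtype).map f)
  refine CfsgLib.ZJ.involves_of_surjective (K.map α)
    ((α.subgroupMap K).liftOfSurjective (α.subgroupMap_surjective K) ⟨f, fun x hx => ?_⟩) ?_
  · have hx' : α (x : L) = 1 := congrArg Subtype.val (MonoidHom.mem_ker.1 hx)
    exact MonoidHom.mem_ker.2 (Subgroup.mem_bot.1 (hbot ▸ ⟨x, MonoidHom.mem_ker.2 hx', rfl⟩))
  · intro y
    obtain ⟨x, rfl⟩ := hf y
    exact ⟨α.subgroupMap K x, MonoidHom.liftOfRightInverse_comp_apply _ _ _ _ _⟩

/-- A saturated fusion system over a finite 2-group S in which no automorphism group Aut_F(U), U ≤ S, has a section isomorphic to the symmetric group of degree 3 is constrained. -/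
theorem result {Ω : Type*} [Group Ω] {S : Subgroup Ω} [Finite S] (hS : IsPGroup 2 S) (F : Cfsg.FusionSystem S) (hF : F.IsSaturated 2) (h3 : ∀ U : Subgroup Ω, U ≤ S → ¬ Cfsg.Involves (Equiv.Perm (Fin 3)) ↥(F.autGroup U)) : F.IsConstrained 2 := by
  haveI : Fact (Nat.Prime 2) := ⟨Nat.prime_two⟩
  obtain ⟨W, hW⟩ := CfsgLib.Fusion.exists_functorFor_qd 2
  have hfree : F.IsSectionFree 2 ↥(Cfsg.qd 2) := by
    intro Q hQn hQc N hN L iL ι hm h4
    have hQS : Q ≤ S := hQc.1
    haveI : Finite L := hm.1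
    haveI : Finite ↥(normalizerIn S Q) :=
      Finite.of_injective _ (Subgroup.inclusion_injective (inf_le_left : normalizerIn S Q ≤ S))
    have hS' : IsPGroup 2 ↥(normalizerIn S Q) := hS.to_le inf_le_left
    have hQN := CfsgLib.Fusion.isNormal_normalizerSystem hQS hN
    have hQcN := CfsgLib.Fusion.isCentric_normalizerSystem hQc hN
    obtain ⟨α, -, hα⟩ := CfsgLib.Fusion.exists_modelAct 2 hm hQN
    have hker : IsPGroup 2 α.ker := by
      refine ((hS'.of_surjective ι.rangeRestrict ι.rangeRestrict_surjective).to_le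
        ((CfsgLib.Fusion.img_le_range Q))).to_le fun g hg => ?_
      refine CfsgLib.Fusion.centralizer_img_le 2 hS' hm hQN hQcN
        (Subgroup.mem_centralizer_iff.2 ?_)
      rintro _ ⟨x, hx, rfl⟩
      have := hα g ⟨(x : Ω), hx⟩
      rw [MonoidHom.mem_ker.1 hg] at this
      exact eq_mul_inv_iff_mul_eq.1 this
    obtain ⟨T, -, hT⟩ := Cfsg.Agent.S2759.result.1
      (CfsgLib.SThreeFree.involves_qd_two_iff.1 h4)
    haveI : ((Subgroup.centralizer (T : Set L)).subgroupOf
        (Subgroup.normalizer (T : Set L))).Normal := by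
      rw [← Subgroup.normalizerMonoidHom_ker]; infer_instance
    have := involves_image α hker (CfsgLib.ZJ.involves_of_section _ _ hT)
    rw [CfsgLib.Fusion.autGroup_normalizerSystem hQS hN] at this
    exact h3 Q hQS this
  exact CfsgLib.Fusion.isConstrained_of_solvable 2 hS hF (hW.isSolvableSystem hS hF hfree)

end Cfsg.Agent.S5109
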