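import Mathlib.Tactic
import Cfsg.Statements.S1249
-- import your own Cfsg.Agent.* helpers here

set_option autoImplicit false
set_option linter.style.haveILetI false
open Cfsg
open scoped commutatorElement Pointwise

namespace Cfsg.Agent.S1249

/-- Let P and Q be Sylow p-subgroups of the finite group G both containing the subgroup A. If A is strongly closed in P, then A is strongly closed in Q. -/
theorem result {G : Type*} [Group G] [Finite G] {p : ℕ} [Fact p.Prime] (P Q : Sylow p G) (A : Subgroup G) (hAQ : A ≤ Q) (hA : Cfsg.IsStronglyClosed A (P : Subgroup G)) : Cfsg.IsStronglyClosed A (Q : Subgroup G) := by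
  obtain ⟨k, hk⟩ := MulAction.exists_smul_eq G P Q
  have hQ : ∀ y, y ∈ (Q : Subgroup G) → k⁻¹ * y * k ∈ (P : Subgroup G) := by
    intro y hy
    rw [← hk] at hy
    obtain ⟨z, hz, rfl⟩ := hy
    show k⁻¹ * (k * z * k⁻¹) * k ∈ (P : Subgroup G)
    rw [show k⁻¹ * (k * z * k⁻¹) * k = z by group]
    exact hz
  have hkA : ∀ a ∈ A, k⁻¹ * a * k ∈ A := fun a ha => by
    have := hA.2 a ha k⁻¹ (by rw [inv_inv]; exact hQ a (hAQ ha))
    rwa [inv_inv] at this
  refine ⟨hAQ, fun x hx g hg => ?_⟩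
  have h1 := hA.2 x hx (k⁻¹ * g) (by
    have e : k⁻¹ * g * x * (k⁻¹ * g)⁻¹ = k⁻¹ * (g * x * g⁻¹) * k := by group
    rw [e]; exact hQ _ hg)
  have hmapA : A.map (MulAut.conj k⁻¹).toMonoidHom = A := by
    refine Subgroup.eq_of_le_of_card_ge ?_ (Subgroup.card_map_of_injective (MulAut.conj k⁻¹).injective).ge
    rintro _ ⟨a, ha, rfl⟩
    simpa using hkA a ha
  rw [← hmapA] at h1
  obtain ⟨a, ha, hae⟩ := h1
  have : a = g * x * g⁻¹ := by
    have hae' : k⁻¹ * a * k⁻¹⁻¹ = k⁻¹ * g * x * (k⁻¹ * g)⁻¹ := hae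
    calc a = k * (k⁻¹ * a * k⁻¹⁻¹) * k⁻¹ := by group
      _ = g * x * g⁻¹ := by rw [hae']; group
  exact this ▸ ha

end Cfsg.Agent.S1249
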