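import Cfsg.Statements.S3559
import Cfsg.Agent.SchurRing.TwoTransitive

set_option autoImplicit false
open Cfsg

namespace Cfsg.Agent.S3559

/-- Let G act faithfully and transitively on a finite set whose number of points n ≥ 2 is not a prime power, and suppose G has a cyclic subgroup acting regularly (transitively with trivial point stabilizers). Then G is imprimitive or doubly transitive. -/
theorem result {G Ω : Type*} [Group G] [Finite G] [MulAction G Ω] [FaithfulSMul G Ω] [Finite Ω]
    (htrans : MulAction.IsPretransitive G Ω) (hn : 2 ≤ Nat.card Ω) (hnp : ¬ IsPrimePow (Nat.card Ω))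
    (C : Subgroup G) (hcyc : IsCyclic ↥C) (hC : MulAction.IsPretransitive ↥C Ω ∧ ∀ a : Ω, MulAction.stabilizer ↥C a = ⊥) :
    ¬ MulAction.IsPreprimitive G Ω ∨ MulAction.IsMultiplyPretransitive G Ω 2 := by
  by_cases hprim : MulAction.IsPreprimitive G Ω
  · right
    obtain ⟨htr, hfix⟩ := hC
    haveI := hprim
    haveI : Nontrivial Ω := (Finite.one_lt_card_iff_nontrivial).1 (by omega)
    obtain ⟨a⟩ := (inferInstance : Nonempty Ω)
    have hbij : Function.Bijective fun x : C => x • a := by
      refine ⟨fun x y h => ?_, fun b => MulAction.exists_smul_eq C a b⟩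
      have : y⁻¹ * x ∈ MulAction.stabilizer C a := by
        rw [MulAction.mem_stabilizer_iff, mul_smul, show x • a = y • a from h, inv_smul_smul]
      rw [hfix a, Subgroup.mem_bot, inv_mul_eq_one] at this
      exact this.symm
    have R : CfsgLib.SchurRing.Reg C a :=
      ⟨fun x y => hcyc.isMulCommutative.is_comm.comm x y, hbij⟩
    have hcard : Nat.card C = Nat.card Ω := Nat.card_eq_of_bijective _ hbij
    set p := (Nat.card Ω).minFac with hp_def
    have hp : p.Prime := Nat.minFac_prime (by omega)
    obtain ⟨q, hq, hqn, hne⟩ : ∃ q : ℕ, q.Prime ∧ q ∣ Nat.card Ω ∧ q ≠ p := by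
      by_contra! hall
      exact hnp (isPrimePow_iff_unique_prime_dvd.2
        ⟨p, ⟨hp, Nat.minFac_dvd _⟩, fun q hq => hall q hq.1 hq.2⟩)
    haveI := Fact.mk hp
    haveI := Fact.mk hq
    refine R.two_transitive fun x y hx hy => R.orb_eq_of_cyclic_sylow
      (MulAction.IsPreprimitive.isCoatom_stabilizer_of_isPreprimitive (G := G) (X := Ω) a) hne
      (hcard ▸ Nat.minFac_dvd _) (hcard ▸ hqn) ?_ hx hy
    classical
    haveI := Fintype.ofFinite C
    rw [Nat.card_eq_fintype_card, Fintype.card_subtype]
    exact IsCyclic.card_pow_eq_one_le hp.pos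
  · exact Or.inl hprim

end Cfsg.Agent.S3559
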