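import Cfsg.Statements.S2929
import Cfsg.Agent.Comp.Layer

set_option autoImplicit false
open Cfsg

namespace Cfsg.Agent.S2929

open Equiv Equiv.Perm
open scoped Pointwise

set_option maxRecDepth 8000 in
theorem perm_four_facts :
    (∀ a b : Perm (Fin 4), sign a = 1 → sign b = 1 → (a * b * a⁻¹ * b⁻¹) * (a * b * a⁻¹ * b⁻¹) = 1) ∧
    (∀ a b : Perm (Fin 4), sign a = 1 ∧ a * a = 1 → sign b = 1 ∧ b * b = 1 → (a * b) * (a * b) = 1) ∧
    (∀ a b : Perm (Fin 4), sign a = 1 ∧ a * a = 1 → sign b = 1 ∧ b * b = 1 → a * b = b * a) := by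
  refine ⟨?_, ?_, ?_⟩ <;> decide +kernel

theorem isSolvable_alt_four : Group.IsSolvable (alternatingGroup (Fin 4)) := by
  obtain ⟨h1, h2, h3⟩ := perm_four_facts
  let V : Subgroup (alternatingGroup (Fin 4)) :=
    { carrier := {x | (x : Perm (Fin 4)) * x = 1}
      one_mem' := by simp
      mul_mem' := fun {x y} hx hy => h2 x y ⟨Equiv.Perm.mem_alternatingGroup.1 x.2, hx⟩ ⟨Equiv.Perm.mem_alternatingGroup.1 y.2, hy⟩
      inv_mem' := fun {x} hx => by
        show ((x : Perm (Fin 4))⁻¹) * (x : Perm (Fin 4))⁻¹ = 1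
        rw [← mul_inv_rev, hx, inv_one] }
  have hV1 : derivedSeries (alternatingGroup (Fin 4)) 1 ≤ V := by
    rw [derivedSeries_one, commutator_def, Subgroup.commutator_le]
    intro x _ y _
    exact h1 x y (Equiv.Perm.mem_alternatingGroup.1 x.2) (Equiv.Perm.mem_alternatingGroup.1 y.2)
  refine (Group.isSolvable_def _).2 ⟨1 + 1, ?_⟩
  rw [derivedSeries_succ, eq_bot_iff]
  refine (Subgroup.commutator_mono hV1 hV1).trans ?_
  rw [le_bot_iff, Subgroup.commutator_eq_bot_iff_le_centralizer]
  intro x hx y hy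
  exact Subtype.ext (h3 y x ⟨Equiv.Perm.mem_alternatingGroup.1 y.2, hy⟩ ⟨Equiv.Perm.mem_alternatingGroup.1 x.2, hx⟩)

theorem isSolvable_alt_of_le_four {β : Type*} [Fintype β] [DecidableEq β] (h : Fintype.card β ≤ 4) :
    Group.IsSolvable (alternatingGroup β) := by
  haveI := isSolvable_alt_four
  let i : β ↪ Fin 4 := (Fintype.equivFin β).toEmbedding.trans (Fin.castLEEmb h)
  let f : alternatingGroup β →* alternatingGroup (Fin 4) :=
    ((Equiv.Perm.viaEmbeddingHom i).comp (alternatingGroup β).subtype).codRestrict _ fun a => by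
      rw [Equiv.Perm.mem_alternatingGroup]
      have ha : sign (a : Perm β) = 1 := Equiv.Perm.mem_alternatingGroup.1 a.2
      simp [Equiv.Perm.viaEmbeddingHom, Equiv.Perm.viaEmbedding, Equiv.Perm.extendDomainHom, ha]
  refine Group.isSolvable_of_isSolvable_injective (f := f) ?_
  intro a b hab
  exact Subtype.ext (Equiv.Perm.viaEmbeddingHom_injective i (congrArg Subtype.val hab))

theorem isQuasisimple_alt {β : Type*} [Fintype β] [DecidableEq β] (h : 5 ≤ Nat.card β) :
    Cfsg.IsQuasisimple (alternatingGroup β) := by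
  haveI := alternatingGroup.isSimpleGroup h
  have hc : Subgroup.center (alternatingGroup β) = ⊥ := alternatingGroup.center_eq_bot (by omega)
  haveI : Nontrivial (alternatingGroup β) := IsSimpleGroup.toNontrivial
  refine ⟨⟨?_⟩, ?_⟩
  · rcases (inferInstance : (commutator (alternatingGroup β)).Normal).eq_bot_or_eq_top with h1 | h1
    · exfalso
      apply bot_ne_top (α := Subgroup (alternatingGroup β))
      rw [← hc, eq_top_iff]
      intro x _
      rw [Subgroup.mem_center_iff]
      intro y
      have h2 := Subgroup.commutator_mem_commutator (Subgroup.mem_top y) (Subgroup.mem_top x)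
      rw [← commutator_def, h1, Subgroup.mem_bot] at h2
      exact commutatorElement_eq_one_iff_mul_comm.1 h2
    · exact h1
  · exact MulEquiv.isSimpleGroup ((QuotientGroup.quotientMulEquivOfEq hc).trans QuotientGroup.quotientBot)

variable {n : ℕ}

/-- The subgroup generated by the three-cycles of `H`. -/
def tri (H : Subgroup (Perm (Fin n))) : Subgroup (Perm (Fin n)) :=
  Subgroup.closure {c | c ∈ H ∧ c.IsThreeCycle}

theorem tri_le (H : Subgroup (Perm (Fin n))) : tri H ≤ H :=
  (Subgroup.closure_le _).2 fun _ h => h.1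

theorem tri_normal (H : Subgroup (Perm (Fin n))) : ((tri H).subgroupOf H).Normal := by
  refine ⟨fun x hx g => ?_⟩
  rw [Subgroup.mem_subgroupOf] at hx ⊢
  have h1 : tri H ≤ (tri H).comap (MulAut.conj (g : Perm (Fin n))).toMonoidHom := by
    refine (Subgroup.closure_le _).2 fun c hc => Subgroup.subset_closure ⟨?_, ?_⟩
    · exact H.mul_mem (H.mul_mem g.2 hc.1) (H.inv_mem g.2)
    · show cycleType ((g : Perm (Fin n)) * c * (g : Perm (Fin n))⁻¹) = {3}
      rw [cycleType_conj]; exact hc.2
  exact h1 hx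

set_option maxHeartbeats 1000000 in
/-- Each point moved by a three-cycle of `H` gives a subnormal alternating subgroup of `H`. -/
theorem exists_block (H : Subgroup (Perm (Fin n))) {c : Perm (Fin n)} (hcH : c ∈ H) (hc : c.IsThreeCycle)
    {a : Fin n} (ha : c a ≠ a) :
    ∃ (p : Fin n → Prop) (_ : DecidablePred p) (f : alternatingGroup {x // p x} →* ↥H), Function.Injective f ∧
      p a ∧ f.range.IsSubnormal ∧ (∀ g, ((f g : ↥H) : Perm (Fin n)) = ofSubtype (g : Perm {x // p x})) ∧
      (∀ d ∈ H, d.IsThreeCycle → (∀ x, d x ≠ x → p x) ∨ (∀ x, d x ≠ x → ¬ p x)) ∧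
      ∃ g, f g = ⟨c, hcH⟩ := by
  let p : Fin n → Prop := fun x => ∃ g ∈ tri H, g a = x
  haveI dp : DecidablePred p := Classical.decPred p
  have hinv : ∀ g ∈ tri H, ∀ x, p (g x) ↔ p x := by
    intro g hg x
    constructor
    · rintro ⟨k, hk, hka⟩; exact ⟨g⁻¹ * k, mul_mem (inv_mem hg) hk, by simp [hka]⟩
    · rintro ⟨k, hk, hka⟩; exact ⟨g * k, mul_mem hg hk, by simp [hka]⟩
  have hmem : ∀ d ∈ H, d.IsThreeCycle → d ∈ tri H := fun d h1 h2 => Subgroup.subset_closure ⟨h1, h2⟩
  have hdi : ∀ d ∈ H, d.IsThreeCycle → (∀ x, d x ≠ x → p x) ∨ (∀ x, d x ≠ x → ¬ p x) := by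
    intro d hd hd3
    by_cases h : ∃ x, d x ≠ x ∧ p x
    · obtain ⟨x, hx, hpx⟩ := h
      refine Or.inl fun y hy => ?_
      obtain ⟨i, hi⟩ := hd3.isCycle.exists_zpow_eq hx hy
      rw [← hi]
      exact (hinv _ (Subgroup.zpow_mem _ (hmem d hd hd3) i) x).2 hpx
    · exact Or.inr fun x hx hpx => h ⟨x, hx, hpx⟩
  have hca : ∀ x, c x ≠ x → p x :=
    (hdi c hcH hc).resolve_right fun h => h a ha ⟨1, one_mem _, rfl⟩
  let T' : Set (Perm {x // p x}) := {d | ofSubtype d ∈ H ∧ d.IsThreeCycle}
  let M := Subgroup.closure T'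
  have hrestrict : ∀ d ∈ H, d.IsThreeCycle → (∀ x, d x ≠ x → p x) →
      ∃ d' ∈ T', ofSubtype d' = d := by
    intro d hd hd3 hsupp
    have h1 : ∀ x, p (d x) ↔ p x := hinv d (hmem d hd hd3)
    have h2 : ofSubtype (d.subtypePerm h1) = d := ofSubtype_subtypePerm h1 hsupp
    refine ⟨d.subtypePerm h1, ⟨by rw [h2]; exact hd, ?_⟩, h2⟩
    show cycleType _ = {3}
    rw [← cycleType_ofSubtype, h2]; exact hd3
  have htr : ∀ g ∈ tri H, ∃ m ∈ M, ∀ x : {x // p x}, ((m x : {x // p x}) : Fin n) = g x := by
    intro g hg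
    induction hg using Subgroup.closure_induction with
    | mem d hd =>
      rcases hdi d hd.1 hd.2 with h | h
      · obtain ⟨d', hd', hdd⟩ := hrestrict d hd.1 hd.2 h
        exact ⟨d', Subgroup.subset_closure hd', fun x => by rw [← hdd, ofSubtype_apply_coe]⟩
      · exact ⟨1, one_mem _, fun x => by
          rw [one_apply]; by_contra hne; exact h x (Ne.symm hne) x.2⟩
    | one => exact ⟨1, one_mem _, fun x => rfl⟩
    | mul u v _ _ hu hv =>
      obtain ⟨m, hm, hm'⟩ := hu
      obtain ⟨k, hk, hk'⟩ := hv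
      exact ⟨m * k, mul_mem hm hk, fun x => by rw [mul_apply, hm', hk', mul_apply]⟩
    | inv u _ hu =>
      obtain ⟨m, hm, hm'⟩ := hu
      refine ⟨m⁻¹, inv_mem hm, fun x => ?_⟩
      have h := hm' (m⁻¹ x)
      rw [show m (m⁻¹ x) = x from m.apply_symm_apply x] at h
      rw [h]; simp
  have hpre : MulAction.IsPretransitive M {x // p x} := by
    have hbase : ∀ x : {x // p x}, ∃ m : M, m • (⟨a, 1, one_mem _, rfl⟩ : {x // p x}) = x := by
      rintro ⟨x, g, hg, rfl⟩
      obtain ⟨m, hm, hm'⟩ := htr g hg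
      exact ⟨⟨m, hm⟩, Subtype.ext (hm' _)⟩
    constructor
    intro x y
    obtain ⟨m, hm⟩ := hbase x
    obtain ⟨k, hk⟩ := hbase y
    exact ⟨k * m⁻¹, by rw [← hm, mul_smul, inv_smul_smul, hk]⟩
  have hprim : MulAction.IsPreprimitive M {x // p x} := by
    haveI := hpre
    refine ⟨fun {B} hB => ?_⟩
    rcases B.subsingleton_or_nontrivial with hsub | hnt
    · exact Or.inl hsub
    right
    obtain ⟨b₁, hb₁, b₂, hb₂, hb⟩ := hnt
    have hgen : ∀ d (hd : d ∈ T'), (⟨d, Subgroup.subset_closure hd⟩ : M) • B = B := by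
      intro d hd
      refine ((MulAction.isBlock_iff_smul_eq_or_disjoint.1 hB) (⟨d, Subgroup.subset_closure hd⟩ : M)).resolve_right
        fun hdisj => ?_
      have hout : ∀ b ∈ B, d b ∉ B := fun b hbB hdB =>
        Set.disjoint_left.1 hdisj ⟨b, hbB, rfl⟩ hdB
      have hmove : ∀ b ∈ B, d b ≠ b := fun b hbB hdb => hout b hbB (by rw [hdb]; exact hbB)
      have h4 : ({b₁, b₂, d b₁, d b₂} : Finset {x // p x}) ⊆ d.support := by
        intro x hx
        simp only [Finset.mem_insert, Finset.mem_singleton] at hx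
        rcases hx with rfl | rfl | rfl | rfl
        · exact mem_support.2 (hmove _ hb₁)
        · exact mem_support.2 (hmove _ hb₂)
        · exact apply_mem_support.2 (mem_support.2 (hmove _ hb₁))
        · exact apply_mem_support.2 (mem_support.2 (hmove _ hb₂))
      have hcard : ({b₁, b₂, d b₁, d b₂} : Finset {x // p x}).card = 4 := by
        rw [Finset.card_eq_four]
        exact ⟨b₁, b₂, d b₁, d b₂, hb, fun h => hout b₁ hb₁ (h ▸ hb₁), fun h => hout b₂ hb₂ (h ▸ hb₁),
          fun h => hout b₁ hb₁ (h ▸ hb₂), fun h => hout b₂ hb₂ (h ▸ hb₂), fun h => hb (d.injective h), rfl⟩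
      have := Finset.card_le_card h4
      rw [hcard, hd.2.card_support] at this
      omega
    have hall : ∀ m : M, m • B = B := by
      rintro ⟨m, hm⟩
      induction hm using Subgroup.closure_induction with
      | mem d hd => exact hgen d hd
      | one => exact one_smul _ _
      | mul u v hu hv ihu ihv =>
        show ((⟨u, hu⟩ : M) * ⟨v, hv⟩) • B = B
        rw [mul_smul, ihv, ihu]
      | inv u hu ihu =>
        show ((⟨u, hu⟩ : M)⁻¹) • B = B
        rw [inv_smul_eq_iff, ihu]
    refine Set.eq_univ_of_forall fun x => ?_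
    obtain ⟨m, hm⟩ := hpre.exists_smul_eq b₁ x
    rw [← hall m, ← hm]
    exact Set.smul_mem_smul_set hb₁
  obtain ⟨c', hc', hcc⟩ := hrestrict c hcH hc hca
  have halt : alternatingGroup {x // p x} ≤ M :=
    alternatingGroup_le_of_isPreprimitive_of_isThreeCycle_mem hprim hc'.2 (Subgroup.subset_closure hc')
  have hMH : ∀ m ∈ M, ofSubtype m ∈ tri H := by
    intro m hm
    have h1 : M ≤ (tri H).comap ofSubtype := by
      refine (Subgroup.closure_le _).2 fun d hd => Subgroup.subset_closure ⟨hd.1, ?_⟩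
      show cycleType _ = {3}
      rw [cycleType_ofSubtype]; exact hd.2
    exact h1 hm
  let f : alternatingGroup {x // p x} →* ↥H :=
    ((ofSubtype : Perm {x // p x} →* Perm (Fin n)).comp (alternatingGroup {x // p x}).subtype).codRestrict H
      fun g => tri_le H (hMH _ (halt g.2))
  have hle : f.range ≤ (tri H).subgroupOf H := by
    rintro _ ⟨g, rfl⟩
    exact hMH _ (halt g.2)
  refine ⟨p, dp, f, fun g k h => Subtype.ext (ofSubtype_injective (congrArg Subtype.val h)), ⟨1, one_mem _, rfl⟩, ?_,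
    fun g => rfl, hdi, ⟨c', hc'.2.mem_alternatingGroup⟩, Subtype.ext hcc⟩
  refine Subgroup.IsSubnormal.step _ _ hle (tri_normal H).isSubnormal ⟨fun x hx k => ?_⟩
  rw [Subgroup.mem_subgroupOf] at hx ⊢
  obtain ⟨g, hg⟩ := hx
  have hk : ((k : ↥H) : Perm (Fin n)) ∈ tri H := k.2
  have hinvk := hinv _ hk
  refine ⟨⟨((k : ↥H) : Perm (Fin n)).subtypePerm hinvk * (g : Perm {x // p x}) *
    (((k : ↥H) : Perm (Fin n)).subtypePerm hinvk)⁻¹, ?_⟩, ?_⟩
  · exact (inferInstance : (alternatingGroup {x // p x}).Normal).conj_mem _ g.2 _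
  apply Subtype.ext
  have hx' : ((x : ↥H) : Perm (Fin n)) = ofSubtype (g : Perm {x // p x}) := by rw [← hg]; rfl
  show ofSubtype _ = ((k : ↥H) : Perm (Fin n)) * ((x : ↥H) : Perm (Fin n)) * (((k : ↥H) : Perm (Fin n)))⁻¹
  rw [hx', eq_mul_inv_iff_mul_eq]
  ext y
  simp only [mul_apply]
  by_cases hy : p y
  · rw [ofSubtype_apply_of_mem _ hy, ofSubtype_apply_of_mem _ ((hinvk y).2 hy)]
    simp [subtypePerm_apply]
  · rw [ofSubtype_apply_of_not_mem _ hy, ofSubtype_apply_of_not_mem _ (mt (hinvk y).1 hy)]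

/-- The points `3i, 3i+1, 3i+2` cycled. -/
def triple (n i : ℕ) : Perm (Fin n) where
  toFun x := if h : x.val / 3 = i ∧ 3 * i + 2 < n then ⟨3 * i + (x.val % 3 + 1) % 3, by omega⟩ else x
  invFun x := if h : x.val / 3 = i ∧ 3 * i + 2 < n then ⟨3 * i + (x.val % 3 + 2) % 3, by omega⟩ else x
  left_inv x := by
    by_cases h : x.val / 3 = i ∧ 3 * i + 2 < n
    · simp only [dif_pos h]
      rw [dif_pos ⟨by show (3 * i + (x.val % 3 + 1) % 3) / 3 = i; omega, h.2⟩]
      ext; show 3 * i + _ = _; omega
    · simp [dif_neg h]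
  right_inv x := by
    by_cases h : x.val / 3 = i ∧ 3 * i + 2 < n
    · simp only [dif_pos h]
      rw [dif_pos ⟨by show (3 * i + (x.val % 3 + 2) % 3) / 3 = i; omega, h.2⟩]
      ext; show 3 * i + _ = _; omega
    · simp [dif_neg h]

theorem triple_apply_ne {n i : ℕ} {x : Fin n} (hx : x.val / 3 = i) (hi : 3 * i + 2 < n) : triple n i x ≠ x := by
  intro h
  have := congrArg Fin.val h
  simp only [triple, Equiv.coe_fn_mk, dif_pos (And.intro hx hi)] at this
  omega

theorem triple_isThreeCycle {n i : ℕ} (hi : 3 * i + 2 < n) : (triple n i).IsThreeCycle := by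
  rw [← card_support_eq_three_iff]
  have : (triple n i).support = {⟨3 * i, by omega⟩, ⟨3 * i + 1, by omega⟩, ⟨3 * i + 2, hi⟩} := by
    ext x
    simp only [mem_support, Finset.mem_insert, Finset.mem_singleton, Fin.ext_iff]
    constructor
    · intro hx
      by_cases h : x.val / 3 = i
      · omega
      · exact absurd (by simp [triple, h]) hx
    · intro hx h
      exact triple_apply_ne (show x.val / 3 = i by omega) hi h
  rw [this]
  simp [Fin.ext_iff]

theorem triple_disjoint {n i j : ℕ} (hij : i ≠ j) : Disjoint (triple n i) (triple n j) := by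
  intro x
  by_cases h : x.val / 3 = i
  · right; simp [triple, show x.val / 3 ≠ j by omega]
  · left; simp [triple, h]

/-- Let n ≥ 5 and let H be a subgroup of the symmetric group of degree n whose generalized Fitting subgroup F*(H) is quasisimple. If H contains a Sylow 3-subgroup of the symmetric group, then F*(H) is isomorphic to an alternating group of degree m for some m ∈ {n − 2, n − 1, n}. -/
theorem result (n : ℕ) (hn : 5 ≤ n) (H : Subgroup (Equiv.Perm (Fin n))) (hF : Cfsg.IsQuasisimple ↥(Cfsg.generalizedFittingSubgroup ↥H)) (hS : ∃ P : Sylow 3 (Equiv.Perm (Fin n)), (P : Subgroup (Equiv.Perm (Fin n))) ≤ H) : ∃ m : ℕ, (m = n - 2 ∨ m = n - 1 ∨ m = n) ∧ Nonempty (↥(Cfsg.generalizedFittingSubgroup ↥H) ≃* ↥(alternatingGroup (Fin m))) := by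
  obtain ⟨P, hP⟩ := hS
  -- conjugates of a maximal set of disjoint three-cycles
  let T : Set (Perm (Fin n)) := {c | ∃ i, 3 * i + 2 < n ∧ c = triple n i}
  have hcomm : ∀ u ∈ T, ∀ v ∈ T, Commute u v := by
    rintro u ⟨i, -, rfl⟩ v ⟨j, -, rfl⟩
    by_cases hij : i = j
    · subst hij; exact Commute.refl _
    · exact (triple_disjoint hij).commute
  have hQ : IsPGroup 3 (Subgroup.closure T) := by
    have hcube : ∀ x ∈ Subgroup.closure T, x ^ 3 = 1 ∧ ∀ v ∈ Subgroup.closure T, Commute x v := by
      have hc : ∀ x ∈ Subgroup.closure T, ∀ v ∈ Subgroup.closure T, Commute x v := by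
        intro x hx v hv
        haveI := Subgroup.isMulCommutative_closure (k := T) fun u hu w hw => hcomm u hu w hw
        exact congrArg Subtype.val (mul_comm' (⟨x, hx⟩ : Subgroup.closure T) ⟨v, hv⟩)
      intro x hx
      refine ⟨?_, hc x hx⟩
      induction hx using Subgroup.closure_induction with
      | mem d hd =>
        obtain ⟨i, hi, rfl⟩ := hd
        rw [← (triple_isThreeCycle hi).orderOf, pow_orderOf_eq_one]
      | one => exact one_pow 3
      | mul u v hu hv ihu ihv => rw [(hc u hu v hv).mul_pow, ihu, ihv, one_mul]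
      | inv u hu ihu => rw [inv_pow, ihu, inv_one]
    intro x
    exact ⟨1, Subtype.ext (by rw [pow_one]; exact (hcube x x.2).1)⟩
  obtain ⟨P', hP'⟩ := hQ.exists_le_sylow
  obtain ⟨g, hg⟩ := MulAction.exists_smul_eq (Perm (Fin n)) P' P
  have hcyc : ∀ i, 3 * i + 2 < n → g * triple n i * g⁻¹ ∈ H ∧ (g * triple n i * g⁻¹).IsThreeCycle := by
    intro i hi
    refine ⟨hP ?_, ?_⟩
    · rw [← hg, Sylow.coe_subgroup_smul]
      exact Subgroup.smul_mem_pointwise_smul _ (MulAut.conj g) _ (hP' (Subgroup.subset_closure ⟨i, hi, rfl⟩))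
    · show cycleType _ = {3}
      rw [cycleType_conj]; exact triple_isThreeCycle hi
  have hcov : ∀ x : Fin n, x.val < 3 * (n / 3) → ∃ c ∈ H, c.IsThreeCycle ∧ c (g x) ≠ g x := by
    intro x hx
    have hi : 3 * (x.val / 3) + 2 < n := by omega
    refine ⟨_, (hcyc _ hi).1, (hcyc _ hi).2, ?_⟩
    simp only [mul_apply, coe_inv, symm_apply_apply, ne_eq, EmbeddingLike.apply_eq_iff_eq]
    exact triple_apply_ne rfl hi
  set E := Cfsg.generalizedFittingSubgroup ↥H with hE
  haveI hEn : E.Normal := Subgroup.sup_normal _ _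
  have hEc : Cfsg.IsComponent E := ⟨hEn.isSubnormal, hF⟩
  have hcent := CfsgLib.Comp.centralizer_Fstar_le (G := ↥H)
  by_cases hbig : ∃ (p : Fin n → Prop) (_ : DecidablePred p) (f : alternatingGroup {x // p x} →* ↥H),
      Function.Injective f ∧ 5 ≤ Nat.card {x // p x} ∧ f.range.IsSubnormal ∧
      (∀ g, ((f g : ↥H) : Perm (Fin n)) = ofSubtype (g : Perm {x // p x})) ∧
      (∀ d ∈ H, d.IsThreeCycle → (∀ x, d x ≠ x → p x) ∨ (∀ x, d x ≠ x → ¬ p x))
  · obtain ⟨p, _, f, hf, h5, hsub, hfv, hdi⟩ := hbig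
    have hKc : Cfsg.IsComponent f.range :=
      ⟨hsub, CfsgLib.Comp.isQuasisimple_of_equiv (MonoidHom.ofInjective hf) (isQuasisimple_alt h5)⟩
    have hKE : f.range ≤ E := (CfsgLib.Comp.component_le_layer hKc).trans le_sup_left
    have hEK : f.range = E := CfsgLib.Comp.component_le_eq hKc hEc hKE
    have hall : ∀ x : Fin n, x.val < 3 * (n / 3) → p (g x) := by
      intro x hx
      obtain ⟨c, hcH, hc3, hcx⟩ := hcov x hx
      refine ((hdi c hcH hc3).resolve_right fun hdis => ?_) (g x) hcx
      have hcE : (⟨c, hcH⟩ : ↥H) ∈ E := by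
        apply hcent
        rw [Subgroup.mem_centralizer_iff]
        intro y hy
        rw [← hE, ← hEK] at hy
        obtain ⟨k, rfl⟩ := hy
        apply Subtype.ext
        show ((f k : ↥H) : Perm (Fin n)) * c = c * _
        rw [hfv]
        refine (Disjoint.commute fun z => ?_).eq
        by_cases hz : c z = z
        · exact Or.inr hz
        · exact Or.inl (ofSubtype_apply_of_not_mem _ (hdis z hz))
      rw [← hEK] at hcE
      obtain ⟨k, hk⟩ := hcE
      have hk' : ofSubtype (k : Perm {x // p x}) = c := by rw [← hfv, hk]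
      exact hcx (by rw [← hk', ofSubtype_apply_of_not_mem _ (hdis _ hcx)])
    refine ⟨Fintype.card {x // p x}, ?_, ⟨?_⟩⟩
    · have h1 : 3 * (n / 3) ≤ Fintype.card {x // p x} := by
        have := Fintype.card_le_of_injective
          (fun x : Fin (3 * (n / 3)) => (⟨g ⟨x.val, by omega⟩, hall _ x.2⟩ : {x // p x}))
          (fun x y h => by
            have h2 := g.injective (Subtype.mk.injEq .. ▸ h)
            exact Fin.ext (congrArg Fin.val h2 : _))
        simpa using this
      have h2 : Fintype.card {x // p x} ≤ n := (Fintype.card_subtype_le _).trans_eq (Fintype.card_fin n)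
      omega
    · exact ((MulEquiv.subgroupCongr hEK.symm).trans (MonoidHom.ofInjective hf).symm).trans
        (Equiv.altCongrHom (Fintype.equivFin _))
  exfalso
  -- every three-cycle of `H` centralises `E`
  have hcE : ∀ c (hcH : c ∈ H), c.IsThreeCycle → (⟨c, hcH⟩ : ↥H) ∈ E := by
    classical
    intro c hcH hc3
    obtain ⟨a, ha⟩ : ∃ a, c a ≠ a := by
      by_contra hcon
      push Not at hcon
      exact hc3.isCycle.ne_one (Equiv.ext hcon)
    obtain ⟨p, dp, f, hf, -, hsub, hfv, hdi, k, hk⟩ := exists_block H hcH hc3 ha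
    have h4 : Fintype.card {x // p x} ≤ 4 := by
      by_contra h5
      exact hbig ⟨p, dp, f, hf, by rw [Nat.card_eq_fintype_card]; omega, hsub, hfv, hdi⟩
    have hsolv : Group.IsSolvable f.range := by
      haveI := isSolvable_alt_of_le_four h4
      exact Group.isSolvable_of_surjective (f := f.rangeRestrict) f.rangeRestrict_surjective
    have hle := CfsgLib.Comp.subnormal_solvable_le_solvRad hsub hsolv
    have hcomm' := CfsgLib.Comp.component_commutator_normal_solvable (H := CfsgLib.Comp.solvRad ↥H) hEc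
      CfsgLib.Comp.solvRad_isSolvable
    apply hcent
    rw [← hE]
    rw [Subgroup.commutator_comm, Subgroup.commutator_eq_bot_iff_le_centralizer] at hcomm'
    exact hcomm' (hle ⟨k, hk⟩)
  -- hence `E` is abelian
  have hab : ∀ u v : ↥E, u * v = v * u := by
    intro u v
    apply Subtype.ext
    apply Subtype.ext
    have hc : ∀ (w : ↥E) (c : Perm (Fin n)) (hcH : c ∈ H), c.IsThreeCycle →
        ((w : ↥H) : Perm (Fin n)) * c = c * ((w : ↥H) : Perm (Fin n)) := by
      intro w c hcH hc3
      have h1 : Commute ((w : ↥H)) ⟨c, hcH⟩ := by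
        have hq := hcE c hcH hc3
        have h2 := CfsgLib.Comp.component_commutator_normal_solvable (H := CfsgLib.Comp.solvRad ↥H) hEc
          CfsgLib.Comp.solvRad_isSolvable
        obtain ⟨a, ha⟩ : ∃ a, c a ≠ a := by
          by_contra hcon
          push Not at hcon
          exact hc3.isCycle.ne_one (Equiv.ext hcon)
        classical
        obtain ⟨p, dp, f, hf, -, hsub, hfv, hdi, k, hk⟩ := exists_block H hcH hc3 ha
        have h4 : Fintype.card {x // p x} ≤ 4 := by
          by_contra h5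
          exact hbig ⟨p, dp, f, hf, by rw [Nat.card_eq_fintype_card]; omega, hsub, hfv, hdi⟩
        have hsolv : Group.IsSolvable f.range := by
          haveI := isSolvable_alt_of_le_four h4
          exact Group.isSolvable_of_surjective (f := f.rangeRestrict) f.rangeRestrict_surjective
        have hle := CfsgLib.Comp.subnormal_solvable_le_solvRad hsub hsolv
        rw [Subgroup.commutator_eq_bot_iff_le_centralizer] at h2
        exact (Subgroup.mem_centralizer_iff.1 (h2 w.2) _ (hle ⟨k, hk⟩)).symm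
      exact congrArg Subtype.val h1.eq
    set A := ((u : ↥H) : Perm (Fin n))
    set B := ((v : ↥H) : Perm (Fin n))
    show A * B = B * A
    have hmv : ∀ y, (∃ c ∈ H, c.IsThreeCycle ∧ c y ≠ y) → A (B y) = B (A y) := by
      rintro y ⟨c, hcH, hc3, hcy⟩
      have hA : A * c = c * A := hc u c hcH hc3
      have hB : B * c = c * B := hc v c hcH hc3
      obtain ⟨i, hi⟩ := IsCycle.exists_zpow_eq hc3.isCycle hcy (show c (A y) ≠ A y by
        rw [← mul_apply, ← hA, mul_apply]; exact fun h => hcy (A.injective h))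
      obtain ⟨j, hj⟩ := IsCycle.exists_zpow_eq hc3.isCycle hcy (show c (B y) ≠ B y by
        rw [← mul_apply, ← hB, mul_apply]; exact fun h => hcy (B.injective h))
      rw [← hi, ← hj, ← mul_apply, (Commute.zpow_right hA j).eq, ← mul_apply B, (Commute.zpow_right hB i).eq,
        mul_apply, mul_apply, ← hi, ← hj, ← mul_apply, ← mul_apply, ← zpow_add, ← zpow_add, add_comm]
    ext y
    congr 1
    rw [mul_apply, mul_apply]
    by_cases hy : ∃ c ∈ H, c.IsThreeCycle ∧ c y ≠ y
    · exact hmv y hy
    · classical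
      let S := Finset.univ.filter fun y : Fin n => ¬ ∃ c ∈ H, c.IsThreeCycle ∧ c y ≠ y
      have hmem : ∀ (w : ↥E) (z : Fin n), z ∈ S → ((w : ↥H) : Perm (Fin n)) z ∈ S := by
        intro w z hz
        rw [Finset.mem_filter] at hz ⊢
        refine ⟨Finset.mem_univ _, ?_⟩
        rintro ⟨c, hcH, hc3, hcz⟩
        refine hz.2 ⟨c, hcH, hc3, fun h => hcz ?_⟩
        rw [← mul_apply, ← hc w c hcH hc3, mul_apply, h]
      have hS2 : S.card ≤ 2 := by
        have hsub : S ⊆ (Finset.univ.filter fun x : Fin n => ¬ x.val < 3 * (n / 3)).image g := by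
          intro z hz
          rw [Finset.mem_image]
          refine ⟨g⁻¹ z, Finset.mem_filter.2 ⟨Finset.mem_univ _, fun hlt => ?_⟩, by simp⟩
          obtain ⟨c, hcH, hc3, hcx⟩ := hcov _ hlt
          simp only [coe_inv, apply_symm_apply] at hcx
          exact (Finset.mem_filter.1 hz).2 ⟨c, hcH, hc3, hcx⟩
        refine (Finset.card_le_card hsub).trans (Finset.card_image_le.trans ?_)
        refine (Finset.card_le_card_of_injOn (t := Finset.range 2) (fun x : Fin n => x.val - 3 * (n / 3))
          ?_ ?_).trans_eq (Finset.card_range 2)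
        · intro x hx
          have := (Finset.mem_filter.1 hx).2
          simp only [Finset.coe_range, Set.mem_Iio]
          omega
        · intro x hx z hz h
          have h1 := (Finset.mem_filter.1 hx).2
          have h2 := (Finset.mem_filter.1 hz).2
          simp only at h
          exact Fin.ext (by omega)
      have hyS : y ∈ S := Finset.mem_filter.2 ⟨Finset.mem_univ _, hy⟩
      have hAy := hmem u y hyS
      have hBy := hmem v y hyS
      have hABy := hmem u _ hBy
      have hBAy := hmem v _ hAy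
      have hinj : ∀ z ∈ S, z ≠ y → S = {y, z} := fun z hz hzy =>
        (Finset.eq_of_subset_of_card_le (by simp [Finset.insert_subset_iff, hyS, hz])
          (by rw [Finset.card_pair (Ne.symm hzy)]; exact hS2)).symm
      by_cases hAf : A y = y
      · by_cases hBf : B y = y
        · rw [hBf, hAf, hBf]
        · have hS' := hinj _ hBy hBf
          rw [hAf]
          rw [hS', Finset.mem_insert, Finset.mem_singleton] at hABy
          exact hABy.resolve_left fun h => hBf (A.injective (h.trans hAf.symm))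
      · have hS' := hinj _ hAy hAf
        rw [hS', Finset.mem_insert, Finset.mem_singleton] at hBy hBAy hABy
        rcases hBy with hBf | hBf
        · rw [hBf]
          exact (hBAy.resolve_left fun h => hAf (B.injective (h.trans hBf.symm))).symm
        · rw [hBf] at hABy ⊢
          have h1 : A (A y) = y := hABy.resolve_right fun h => hAf (A.injective h)
          have h2 : B (A y) = y := hBAy.resolve_right fun h => hAf (B.injective (h.trans hBf.symm))
          rw [h1, h2]
  refine CfsgLib.Comp.quasisimple_center_ne_top hF (eq_top_iff.2 fun u _ => ?_)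
  exact Subgroup.mem_center_iff.2 fun v => hab v u

end Cfsg.Agent.S2929
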