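import Cfsg.Statements.S0743
import Cfsg.Agent.Perm.Multi
-- import your own Cfsg.Agent.* helpers here

set_option autoImplicit false
open Cfsg

namespace Cfsg.Agent.S0743

/-- Gleason's Lemma: let `p` be a prime and `1 ≤ k < n`; if every `k`-subset of the `n` points is exactly the fixed-point set of some `p`-subgroup of `G`, then `G` is `k`-transitive. -/
theorem result {α : Type*} [Fintype α] [DecidableEq α] (G : Subgroup (Equiv.Perm α)) {p k : ℕ} (hp : p.Prime) (hk : 1 ≤ k) (hkn : k < Fintype.card α) (h : ∀ s : Finset α, s.card = k → ∃ P : Subgroup G, IsPGroup p P ∧ MulAction.fixedPoints P α = (s : Set α)) : MulAction.IsMultiplyPretransitive G α k := by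
  open MulAction in
  have : Fact p.Prime := ⟨hp⟩
  refine CfsgLib.PermMulti.isMultiplyPretransitive_of_fixing hkn fun s hs b c hb hc => ?_
  classical
  by_contra hno
  push Not at hno
  let H : Subgroup G := fixingSubgroup G (s : Set α)
  have hHmem : ∀ g, g ∈ H ↔ ∀ x ∈ s, g • x = x := fun g => mem_fixingSubgroup_iff G
  have hcO : c ∉ orbit H b := by
    rintro ⟨⟨g, hg⟩, hgc⟩
    exact hno g ((hHmem g).mp hg) hgc
  have hbs : ∀ z ∈ orbit H b, z ∉ s := by
    rintro _ ⟨⟨g, hg⟩, rfl⟩ hzs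
    change g • b ∈ s at hzs
    have hgb := (hHmem g).mp hg _ hzs
    exact hb (by rw [← smul_left_cancel g hgb]; exact hzs)
  have hfix : ∀ d, d ∉ s → ∃ P : Subgroup G, P ≤ H ∧ IsPGroup p P ∧ ∀ z, z ∈ fixedPoints P α ↔ z = d ∨ z ∈ s := by
    intro d hd
    obtain ⟨P, hP, hPf⟩ := h (insert d s) (by rw [Finset.card_insert_of_notMem hd, hs])
    refine ⟨P, fun g hg => (hHmem g).mpr fun x hx => ?_, hP, fun z => by rw [hPf]; simp⟩
    have : x ∈ fixedPoints P α := by rw [hPf]; simp [hx]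
    exact this ⟨g, hg⟩
  obtain ⟨P, hPH, hP, hPf⟩ := hfix b hb
  obtain ⟨Q, hQH, hQ, hQf⟩ := hfix c hc
  have e1 := CfsgLib.PermMulti.card_orbit_modEq hPH hP b
  have e2 := CfsgLib.PermMulti.card_orbit_modEq hQH hQ b
  have c1 : Nat.card {z : α // z ∈ orbit H b ∧ z ∈ fixedPoints P α} = 1 := by
    rw [Nat.card_eq_one_iff_unique]
    refine ⟨⟨fun u v => Subtype.ext ?_⟩, ⟨⟨b, mem_orbit_self b, (hPf b).mpr (Or.inl rfl)⟩⟩⟩
    rw [((hPf u.1).mp u.2.2).resolve_right (hbs _ u.2.1), ((hPf v.1).mp v.2.2).resolve_right (hbs _ v.2.1)]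
  have c2 : Nat.card {z : α // z ∈ orbit H b ∧ z ∈ fixedPoints Q α} = 0 := by
    have : IsEmpty {z : α // z ∈ orbit H b ∧ z ∈ fixedPoints Q α} := ⟨fun u =>
      hcO (((hQf u.1).mp u.2.2).resolve_right (hbs _ u.2.1) ▸ u.2.1)⟩
    exact Nat.card_of_isEmpty
  rw [c1] at e1
  rw [c2] at e2
  have : p ∣ 1 := Nat.modEq_zero_iff_dvd.mp (e1.symm.trans e2)
  exact hp.one_lt.ne' (Nat.dvd_one.mp this)


end Cfsg.Agent.S0743
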