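import Cfsg.Statements.S0736
import Mathlib
-- import your own Cfsg.Agent.* helpers here

set_option autoImplicit false
open Cfsg
open scoped commutatorElement Pointwise

namespace Cfsg.Agent.S0736

/-- A `k`-homogeneous permutation group of degree `n`, `k ≥ 2`, with `k + q - 1 ≤ n` for every prime power `q` dividing `k`, is `(k-1)`-homogeneous. -/
theorem result {α : Type*} [Fintype α] [DecidableEq α] (G : Subgroup (Equiv.Perm α)) {k : ℕ} (hk : 2 ≤ k) (hG : MulAction.IsPretransitive G (Set.powersetCard α k)) (hq : ∀ q : ℕ, IsPrimePow q → q ∣ k → k + q - 1 ≤ Fintype.card α) : MulAction.IsPretransitive G (Set.powersetCard α (k - 1)) := by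
  classical
  obtain ⟨p₀, hp₀, hp₀k⟩ := Nat.exists_prime_and_dvd (show k ≠ 1 by omega)
  have hkn : k + 1 ≤ Fintype.card α := by
    have := hq p₀ hp₀.isPrimePow hp₀k
    have := hp₀.two_le
    omega
  refine ⟨fun S₀ S₁ => ?_⟩
  by_contra hne
  let O : Finset (Finset α) := Finset.univ.filter fun S => ∃ g : G, g • (S₀ : Finset α) = S
  have hOcard : ∀ S ∈ O, S.card = k - 1 := by
    intro S hS
    obtain ⟨g, rfl⟩ := (Finset.mem_filter.1 hS).2
    rw [Finset.card_smul_finset]; exact S₀.2
  have hOg : ∀ (g : G) S, S ∈ O → g • S ∈ O := by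
    intro g S hS
    obtain ⟨h, rfl⟩ := (Finset.mem_filter.1 hS).2
    exact Finset.mem_filter.2 ⟨Finset.mem_univ _, g * h, mul_smul _ _ _⟩
  have hS₀ : (S₀ : Finset α) ∈ O := Finset.mem_filter.2 ⟨Finset.mem_univ _, 1, one_smul _ _⟩
  have hS₁ : (S₁ : Finset α) ∉ O := by
    intro h
    obtain ⟨g, hg⟩ := (Finset.mem_filter.1 h).2
    refine hne ⟨g, Subtype.ext ?_⟩
    exact Set.powersetCard.coe_smul.trans hg
  let cnt : Finset α → ℕ := fun K => (O.filter fun S => S ⊆ K).card
  have hcnt : ∀ (g : G) (K : Finset α), cnt K ≤ cnt (g • K) := by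
    intro g K
    refine Finset.card_le_card_of_injOn (fun S => g • S) (fun S hS => ?_)
      ((MulAction.injective g).injOn)
    simp only [Finset.coe_filter, Set.mem_ofPred_eq] at hS ⊢
    exact ⟨hOg g S hS.1, Finset.smul_finset_subset_smul_finset hS.2⟩
  -- a `k`-set containing a given `(k-1)`-set
  have hext : ∀ S : Finset α, S.card = k - 1 → ∃ K : Finset α, S ⊆ K ∧ K.card = k := by
    intro S hS
    obtain ⟨z, -, hz⟩ := Finset.exists_mem_notMem_of_card_lt_card (s := S) (t := Finset.univ)
      (by rw [Finset.card_univ]; omega)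
    exact ⟨insert z S, Finset.subset_insert _ _, by rw [Finset.card_insert_of_notMem hz]; omega⟩
  obtain ⟨K₀, hK₀S, hK₀⟩ := hext _ S₀.2
  let c := cnt K₀
  have hconst : ∀ K : Finset α, K.card = k → cnt K = c := by
    intro K hK
    obtain ⟨g, hg⟩ := hG.exists_smul_eq (⟨K₀, hK₀⟩ : Set.powersetCard α k) ⟨K, hK⟩
    have hg' : g • K₀ = K := Set.powersetCard.coe_smul.symm.trans (congrArg Subtype.val hg)
    refine le_antisymm ?_ (hg' ▸ hcnt g K₀)
    have := hcnt g⁻¹ K
    rwa [← hg', inv_smul_smul, hg'] at this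
  have hc0 : 0 < c := Finset.card_pos.2 ⟨_, Finset.mem_filter.2 ⟨hS₀, hK₀S⟩⟩
  have hck : c < k := by
    obtain ⟨K, hKS, hK⟩ := hext _ S₁.2
    rw [← hconst K hK]
    have h1 : (O.filter fun S => S ⊆ K) ⊆ (K.powersetCard (k - 1)).erase (S₁ : Finset α) := by
      intro S hS
      simp only [Finset.mem_filter] at hS
      exact Finset.mem_erase.2 ⟨fun e => hS₁ (e ▸ hS.1), Finset.mem_powersetCard.2 ⟨hS.2, hOcard S hS.1⟩⟩
    have h2 := Finset.card_le_card h1
    rw [Finset.card_erase_of_mem (Finset.mem_powersetCard.2 ⟨hKS, S₁.2⟩), Finset.card_powersetCard, hK,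
      show k.choose (k - 1) = k by rw [Nat.choose_symm (by omega), Nat.choose_one_right]] at h2
    show (O.filter fun S => S ⊆ K).card < k
    omega
  -- double counting inside a set of size `k + m - 1`
  have hdiv : ∀ m : ℕ, 1 ≤ m → k + m - 1 ≤ Fintype.card α → m ∣ c * (k + m - 1).choose k := by
    intro m hm hmn
    obtain ⟨Y, -, hY⟩ := Finset.exists_subset_card_eq (s := (Finset.univ : Finset α)) (n := k + m - 1)
      (by rw [Finset.card_univ]; exact hmn)
    have h1 : ∑ K ∈ Y.powersetCard k, cnt K = c * (k + m - 1).choose k := by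
      rw [Finset.sum_congr rfl (fun K hK => hconst K (Finset.mem_powersetCard.1 hK).2), Finset.sum_const,
        Finset.card_powersetCard, hY, smul_eq_mul, Nat.mul_comm]
    have h2 : ∑ K ∈ Y.powersetCard k, cnt K =
        ∑ S ∈ O.filter (fun S => S ⊆ Y), ((Y.powersetCard k).filter fun K => S ⊆ K).card := by
      simp only [cnt, Finset.card_filter]
      rw [Finset.sum_comm, Finset.sum_filter (s := O) (fun S => S ⊆ Y)]
      refine Finset.sum_congr rfl fun S _ => ?_
      by_cases hSY : S ⊆ Y
      · rw [if_pos hSY]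
      · rw [if_neg hSY]
        refine Finset.sum_eq_zero fun K hK => if_neg fun h => hSY (h.trans (Finset.mem_powersetCard.1 hK).1)
    have h3 : ∀ S ∈ O.filter (fun S => S ⊆ Y), ((Y.powersetCard k).filter fun K => S ⊆ K).card = m := by
      intro S hS
      simp only [Finset.mem_filter] at hS
      have hm' : (Y \ S).card = m := by
        rw [Finset.card_sdiff_of_subset hS.2, hY, hOcard S hS.1]; omega
      rw [← hm']
      refine (Finset.card_bij (fun z _ => insert z S) (fun z hz => ?_) (fun z hz w hw e => ?_)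
        (fun K hK => ?_)).symm
      · simp only [Finset.mem_sdiff] at hz
        simp only [Finset.mem_filter, Finset.mem_powersetCard]
        exact ⟨⟨Finset.insert_subset hz.1 hS.2,
          by rw [Finset.card_insert_of_notMem hz.2, hOcard S hS.1]; omega⟩, Finset.subset_insert _ _⟩
      · have := e ▸ Finset.mem_insert_self z S
        rcases Finset.mem_insert.1 this with h | h
        · exact h
        · exact absurd h (Finset.mem_sdiff.1 hz).2
      · simp only [Finset.mem_filter, Finset.mem_powersetCard] at hK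
        obtain ⟨z, hz⟩ := Finset.card_eq_one.1 (show (K \ S).card = 1 by
          rw [Finset.card_sdiff_of_subset hK.2, hK.1.2, hOcard S hS.1]; omega)
        have hz' := Finset.mem_sdiff.1 (hz ▸ Finset.mem_singleton_self z)
        refine ⟨z, Finset.mem_sdiff.2 ⟨hK.1.1 hz'.1, hz'.2⟩, ?_⟩
        apply Finset.eq_of_subset_of_card_le (Finset.insert_subset hz'.1 hK.2)
        rw [Finset.card_insert_of_notMem hz'.2, hOcard S hS.1, hK.1.2]; omega
    exact ⟨(O.filter (fun S => S ⊆ Y)).card, by
      rw [← h1, h2, Finset.sum_congr rfl h3, Finset.sum_const, smul_eq_mul, Nat.mul_comm]⟩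
  have hdvd : k ∣ c := by
    rw [Nat.dvd_iff_prime_pow_dvd_dvd]
    intro p j hp hpj
    refine (pow_dvd_pow p (show j ≤ k.factorization p from (hp.pow_dvd_iff_le_factorization (by omega)).1 hpj)).trans ?_
    let e := k.factorization p
    rcases Nat.eq_zero_or_pos e with he | he
    · show p ^ e ∣ c
      rw [he, pow_zero]; exact one_dvd c
    have hpe : p ^ e ∣ k := Nat.ordProj_dvd k p
    have hqn := hq (p ^ e) (hp.isPrimePow.pow he.ne') hpe
    have h := hdiv (p ^ e) (Nat.one_le_pow _ _ hp.pos) hqn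
    refine ((hp.coprime_iff_not_dvd.2 fun hd => ?_).pow_left e).dvd_of_dvd_mul_right h
    have h0 : ((k + (p ^ e - 1)).choose (p ^ e - 1)).factorization p = 0 := by
      rw [Nat.factorization_choose' hp (Nat.lt_succ_self _), Finset.card_eq_zero,
        Finset.filter_eq_empty_iff]
      intro i hi
      rw [Finset.mem_Ico] at hi
      rw [not_le]
      have hpi : 0 < p ^ i := pow_pos hp.pos i
      by_cases hie : i ≤ e
      · have : k % p ^ i = 0 := Nat.mod_eq_zero_of_dvd ((pow_dvd_pow p hie).trans hpe)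
        rw [this, Nat.add_zero]
        exact Nat.mod_lt _ hpi
      · push Not at hie
        have hlt : p ^ e < p ^ i := Nat.pow_lt_pow_right hp.one_lt hie
        have h1 : p ^ e ∣ k % p ^ i := (Nat.dvd_mod_iff (pow_dvd_pow p hie.le)).2 hpe
        have h2 : k % p ^ i < p ^ i := Nat.mod_lt _ hpi
        have h3 : k % p ^ i + p ^ e ≤ p ^ i := by
          obtain ⟨u, hu⟩ := h1
          obtain ⟨v, hv⟩ := pow_dvd_pow p hie.le
          rw [hu, hv] at h2
          rw [hu, hv, ← Nat.mul_succ]
          exact Nat.mul_le_mul_left _ (Nat.lt_of_mul_lt_mul_left h2)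
        rw [Nat.mod_eq_of_lt (show p ^ e - 1 < p ^ i by omega)]
        have := Nat.one_le_pow e p hp.pos
        omega
    have h1le : 1 ≤ p ^ e := Nat.one_le_pow e p hp.pos
    rw [show k + p ^ e - 1 = k + (p ^ e - 1) by omega, Nat.choose_symm_add] at hd
    have := hp.factorization_pos_of_dvd (Nat.choose_pos (by omega)).ne' hd
    omega
  have := Nat.le_of_dvd hc0 hdvd
  omega


end Cfsg.Agent.S0736
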