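import Cfsg.Statements.S0744
import Cfsg.Agent.Perm.Multi
-- import your own Cfsg.Agent.* helpers here

set_option autoImplicit false
open Cfsg

namespace Cfsg.Agent.S0744

/-- If for some `k > 1` the pointwise stabilisers of all `(k-1)`-subsets have the same order `> 1` and those of all `k`-subsets have the same order, then the group is `(k-1)`-transitive. -/
theorem result {α : Type*} [Fintype α] [DecidableEq α] (G : Subgroup (Equiv.Perm α)) {k : ℕ} (hk : 1 < k) (hkn : k ≤ Fintype.card α) (l m : ℕ) (hl : 1 < l) (hkm1 : ∀ s : Finset α, s.card = k - 1 → Nat.card (fixingSubgroup G (s : Set α)) = l) (hkm : ∀ s : Finset α, s.card = k → Nat.card (fixingSubgroup G (s : Set α)) = m) : MulAction.IsMultiplyPretransitive G α (k - 1) := by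
  open MulAction in
  classical
  refine CfsgLib.PermMulti.isMultiplyPretransitive_of_fixing (by omega) fun s hs b c hb hc => ?_
  by_contra hno
  push Not at hno
  let H : Subgroup G := fixingSubgroup G (s : Set α)
  have hHmem : ∀ g, g ∈ H ↔ ∀ x ∈ s, g • x = x := fun g => mem_fixingSubgroup_iff G
  have hins : ∀ d, fixingSubgroup G ((insert d s : Finset α) : Set α) ≤ H := fun d g hg =>
    (hHmem g).mpr fun x hx => (mem_fixingSubgroup_iff G).mp hg x (by simp [hx])
  -- the orbit length of a stabiliser of a (k-1)-set
  have hr : ∀ d e : α, d ∉ s → e ∉ insert d s →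
      Nat.card (orbit (fixingSubgroup G ((insert d s : Finset α) : Set α)) e) * m = l := by
    intro d e hd he
    set K := fixingSubgroup G ((insert d s : Finset α) : Set α) with hK
    rw [Nat.card_coe_set_eq, ← index_stabilizer K e, ← hkm1 (insert d s) (by rw [Finset.card_insert_of_notMem hd]; omega),
      ← hkm (insert e (insert d s)) (by rw [Finset.card_insert_of_notMem he, Finset.card_insert_of_notMem hd]; omega)]
    have hle : Nat.card ↥(stabilizer K e) = Nat.card (fixingSubgroup G ((insert e (insert d s) : Finset α) : Set α)) := by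
      refine Nat.card_congr
        { toFun := fun g => ⟨g.1.1, (mem_fixingSubgroup_iff G).mpr fun x hx => ?_⟩
          invFun := fun g => ⟨⟨g.1, (mem_fixingSubgroup_iff G).mpr fun x hx =>
            (mem_fixingSubgroup_iff G).mp g.2 x (Finset.mem_insert_of_mem hx)⟩,
            (mem_fixingSubgroup_iff G).mp g.2 e (Finset.mem_insert_self _ _)⟩
          left_inv := fun g => rfl
          right_inv := fun g => rfl }
      rcases Finset.mem_insert.mp hx with rfl | hx
      · exact g.2
      · exact (mem_fixingSubgroup_iff G).mp g.1.2 x hx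
    rw [← hle, mul_comm, Subgroup.card_mul_index]
  set r := l / m with hrdef
  have hm : 0 < m := by
    obtain ⟨u, -, hu⟩ := Finset.exists_subset_card_eq (s := (Finset.univ : Finset α)) (n := k) (by rw [Finset.card_univ]; exact hkn)
    rw [← hkm u hu]
    exact Nat.card_pos
  -- each orbit of H splits
  have hdvd : ∀ u d : α, u ∉ s → d ∉ s → r ∣ Nat.card {z : α // z ∈ orbit H u ∧ z ≠ d} := by
    intro u d hu hd
    set K := fixingSubgroup G ((insert d s : Finset α) : Set α) with hK
    have hKd : ∀ g : K, (g : G) • d = d := fun g =>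
      (mem_fixingSubgroup_iff G).mp g.2 d (Finset.mem_insert_self _ _)
    let S : SubMulAction K α :=
      { carrier := {z | z ∈ orbit H u ∧ z ≠ d}
        smul_mem' := fun g z hz => by
          refine ⟨?_, fun e => hz.2 (smul_left_cancel (g : G) ((show (g : G) • z = d from e).trans (hKd g).symm))⟩
          obtain ⟨h, rfl⟩ := hz.1
          exact ⟨⟨g, hins d g.2⟩ * h, mul_smul (⟨g, hins d g.2⟩ : H) h u⟩ }
    change r ∣ Nat.card S
    have hq : ∀ w : S, Nat.card (orbit K w) = r := by
      rintro ⟨v, hv1, hv2⟩
      have hvs : v ∉ s := by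
        obtain ⟨⟨g, hg⟩, rfl⟩ := hv1
        intro hvs
        change g • u ∈ s at hvs
        exact hu (by rw [← smul_left_cancel g ((hHmem g).mp hg _ hvs)]; exact hvs)
      have he := hr d v hd (by simp [hvs, hv2])
      have hoq : Nat.card (orbit K (⟨v, hv1, hv2⟩ : S)) = Nat.card (orbit K v) := by
        rw [Nat.card_coe_set_eq, Nat.card_coe_set_eq, ← Set.ncard_image_of_injective _ Subtype.val_injective]
        congr 1
        exact SubMulAction.val_image_orbit _
      rw [hoq, hrdef, ← he, Nat.mul_div_cancel _ hm]
    rw [Nat.card_congr (selfEquivSigmaOrbits K S), Nat.card_sigma]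
    exact Finset.dvd_sum fun q _ => (hq q.out).symm.dvd
  -- r is not 1
  have hr1 : r ≠ 1 := by
    intro h1
    have : l = m := by
      have := hr b c hb
      obtain ⟨e, -, he⟩ := Finset.exists_mem_notMem_of_card_lt_card (s := insert b s) (t := Finset.univ)
        (by rw [Finset.card_insert_of_notMem hb, Finset.card_univ]; omega)
      have hh := hr b e hb he
      rw [hrdef, ← hh, Nat.mul_div_cancel _ hm] at h1
      rw [h1, one_mul] at hh
      exact hh.symm
    -- every stabiliser of a (k-1)-set is trivial
    have hfix : ∀ t : Finset α, t.card = k - 1 → ∀ g ∈ fixingSubgroup G (t : Set α), ∀ x : α, g • x = x := by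
      intro t ht g hg x
      by_cases hx : x ∈ t
      · exact (mem_fixingSubgroup_iff G).mp hg x hx
      have hle : fixingSubgroup G ((insert x t : Finset α) : Set α) ≤ fixingSubgroup G (t : Set α) :=
        fun k hk => (mem_fixingSubgroup_iff G).mpr fun y hy =>
          (mem_fixingSubgroup_iff G).mp hk y (Finset.mem_insert_of_mem hy)
      have heq := Subgroup.eq_of_le_of_card_ge hle (by
        rw [hkm1 t ht, hkm _ (by rw [Finset.card_insert_of_notMem hx, ht]; omega), this])
      rw [← heq] at hg
      exact (mem_fixingSubgroup_iff G).mp hg x (Finset.mem_insert_self x t)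
    obtain ⟨t, -, ht⟩ := Finset.exists_subset_card_eq (s := (Finset.univ : Finset α)) (n := k - 1) (by rw [Finset.card_univ]; omega)
    have : fixingSubgroup G (t : Set α) = ⊥ := by
      rw [eq_bot_iff]
      intro g hg
      rw [Subgroup.mem_bot]
      exact Subtype.ext (Equiv.ext fun x => hfix t ht g hg x)
    have hh := hkm1 t ht
    rw [this, Subgroup.card_bot] at hh
    omega
  have hsplit : ∀ u : α, Nat.card {z : α // z ∈ orbit H u ∧ z ≠ u} + 1 = Nat.card (orbit H u) := by
    intro u
    rw [Nat.card_coe_set_eq, ← Set.ncard_sdiff_singleton_add_one (mem_orbit_self u), ← Nat.card_coe_set_eq]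
    rfl
  have hcO : c ∉ orbit H b := by
    rintro ⟨⟨g, hg⟩, hgc⟩
    exact hno g ((hHmem g).mp hg) hgc
  have d1 := hdvd b c hb hc
  have d2 := hdvd b b hb hb
  have e1 : Nat.card {z : α // z ∈ orbit H b ∧ z ≠ c} = Nat.card (orbit H b) :=
    Nat.card_congr (Equiv.subtypeEquivRight fun z => ⟨fun h => h.1, fun h => ⟨h, fun e => hcO (e ▸ h)⟩⟩)
  rw [e1, ← hsplit b] at d1
  exact hr1 (Nat.dvd_one.mp ((Nat.dvd_add_right d2).mp d1))


end Cfsg.Agent.S0744
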