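import Cfsg.Statements.S0722
import Cfsg.Agent.Perm.Basic
-- import your own Cfsg.Agent.* helpers here

set_option autoImplicit false
open Cfsg

namespace Cfsg.Agent.S0722

/-- In a primitive group `H`, with `N` a minimal normal subgroup and `K` a point stabiliser, `K ⊓ N` is maximal among proper `K`-invariant subgroups of `N`. -/
theorem result {α : Type*} [Finite α] (H : Subgroup (Equiv.Perm α)) [MulAction.IsPreprimitive H α] (N : Subgroup H) [N.Normal] (hN : N ≠ ⊥) (hmin : ∀ M : Subgroup H, M.Normal → M ≤ N → M = ⊥ ∨ M = N) (a : α) (X : Subgroup H) (hX : X ≤ N) (hKX : MulAction.stabilizer H a ⊓ N ≤ X) (hinv : MulAction.stabilizer H a ≤ Subgroup.normalizer (X : Set H)) : X = MulAction.stabilizer H a ⊓ N ∨ X = N := by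
  open MulAction in
  rcases subsingleton_or_nontrivial α with hα | hα
  · right
    refine le_antisymm hX fun n hn => hKX ⟨?_, hn⟩
    exact Subsingleton.elim _ _
  have : IsPretransitive H α := (inferInstance : IsPreprimitive H α).toIsPretransitive
  have hco : IsCoatom (stabilizer H a) := (isCoatom_stabilizer_iff_preprimitive H a).mpr inferInstance
  rcases eq_or_lt_of_le (le_sup_left : stabilizer H a ≤ stabilizer H a ⊔ X) with h | h
  · left
    exact le_antisymm (le_inf (h.symm ▸ le_sup_right) hX) hKX
  · right
    have htop := hco.2 _ h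
    refine le_antisymm hX fun n hn => ?_
    have hmem : n ∈ stabilizer H a ⊔ X := htop ▸ Subgroup.mem_top n
    rw [← SetLike.mem_coe, Subgroup.coe_mul_of_left_le_normalizer_right (stabilizer H a) X hinv] at hmem
    obtain ⟨k, hk, x, hx, rfl⟩ := hmem
    have : k ∈ N := by
      have := N.mul_mem hn (N.inv_mem (hX hx))
      simpa using this
    exact X.mul_mem (hKX ⟨hk, this⟩) hx


end Cfsg.Agent.S0722
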