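import Cfsg.Statements.S3863
import Mathlib.GroupTheory.Index
import Mathlib.Tactic.Group
import Mathlib.GroupTheory.GroupAction.ConjAct
import Mathlib.GroupTheory.Perm.Cycle.Type
import Mathlib.Data.Nat.Factorization.Basic

set_option autoImplicit false
open Cfsg

namespace Cfsg.Agent.S3863

/-- Let x be an element of the finite group G that is conjugate to its inverse. Then some 2-element conjugates x to its inverse; if the conjugacy class of x has odd size then x ^ 2 = 1; and x lies in, and is conjugate to its inverse inside, every normal subgroup of odd index. -/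
theorem result {G : Type*} [Group G] [Finite G] (x : G) (hx : IsConj x x⁻¹) : (∃ t : G, (∃ j : ℕ, orderOf t = 2 ^ j) ∧ t * x * t⁻¹ = x⁻¹) ∧ (Odd (Subgroup.centralizer ({x} : Set G)).index → x ^ 2 = 1) ∧ ∀ (N : Subgroup G) [N.Normal], Odd N.index → ∃ hxN : x ∈ N, IsConj (⟨x, hxN⟩ : N) (⟨x, hxN⟩ : N)⁻¹ := by
  obtain ⟨c, hc⟩ := isConj_iff.1 hx
  obtain ⟨k, m, hm, hkm⟩ :=
    Nat.exists_eq_pow_mul_and_not_dvd (orderOf_pos c).ne' 2 (by decide)
  have hpow : ∀ i : ℕ, c ^ (2 * i + 1) * x * (c ^ (2 * i + 1))⁻¹ = x⁻¹ := by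
    intro i
    induction i with
    | zero => simpa using hc
    | succ i ih =>
      have e : 2 * (i + 1) + 1 = 2 * i + 1 + 1 + 1 := by omega
      rw [e, pow_succ', pow_succ']
      calc c * (c * c ^ (2 * i + 1)) * x * (c * (c * c ^ (2 * i + 1)))⁻¹
          = c * (c * (c ^ (2 * i + 1) * x * (c ^ (2 * i + 1))⁻¹) * c⁻¹) * c⁻¹ := by group
        _ = c * ((c * x * c⁻¹)⁻¹) * c⁻¹ := by rw [ih]; group
        _ = x⁻¹ := by rw [hc, inv_inv, hc]
  obtain ⟨i, hi⟩ : Odd m := Nat.not_even_iff_odd.1 fun h => hm h.two_dvd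
  have ht : c ^ m * x * (c ^ m)⁻¹ = x⁻¹ := hi ▸ hpow i
  have htord : orderOf (c ^ m) = 2 ^ k := by
    rw [orderOf_pow' c (by omega), hkm, Nat.gcd_eq_right (dvd_mul_left m _),
      Nat.mul_div_cancel _ (by omega)]
  refine ⟨⟨c ^ m, ⟨k, htord⟩, ht⟩, fun hodd => ?_, fun N _ hN => ?_⟩
  · -- inversion is an involution on the class
    by_contra hx2
    have hcentralizer : Subgroup.centralizer ({x} : Set G) =
        MulAction.stabilizer (ConjAct G) x := by
      rw [Subgroup.centralizer_eq_comap_stabilizer]; rfl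
    let C := {y : G // IsConj x y}
    have hcard : Nat.card C = (Subgroup.centralizer ({x} : Set G)).index := by
      refine (Nat.card_congr ?_).symm
      refine Equiv.ofBijective (Quotient.lift (fun g : G => (⟨g * x * g⁻¹, isConj_iff.2 ⟨g, rfl⟩⟩ : C))
        ?_) ⟨?_, ?_⟩
      · intro a b hab
        have hab : a⁻¹ * b ∈ Subgroup.centralizer ({x} : Set G) := QuotientGroup.leftRel_apply.1 hab
        have h1 := Subgroup.mem_centralizer_iff.1 hab x rfl
        apply Subtype.ext
        show a * x * a⁻¹ = b * x * b⁻¹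
        calc a * x * a⁻¹ = a * (x * (a⁻¹ * b)) * b⁻¹ := by group
          _ = b * x * b⁻¹ := by rw [h1]; group
      · intro a b
        induction a using Quotient.inductionOn with
        | _ a =>
          induction b using Quotient.inductionOn with
          | _ b =>
            intro hab
            have h1 : a * x * a⁻¹ = b * x * b⁻¹ := congrArg Subtype.val hab
            refine QuotientGroup.eq.2 (Subgroup.mem_centralizer_iff.2 ?_)
            intro y hy
            rw [Set.mem_singleton_iff.1 hy]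
            calc x * (a⁻¹ * b) = a⁻¹ * (a * x * a⁻¹) * b := by group
              _ = a⁻¹ * b * x := by rw [h1]; group
      · rintro ⟨y, hy⟩
        obtain ⟨g, hg⟩ := isConj_iff.1 hy
        exact ⟨Quotient.mk'' g, Subtype.ext hg⟩
    haveI : Fintype C := Fintype.ofFinite C
    let σ : Equiv.Perm C :=
      { toFun := fun y => ⟨y.1⁻¹, hx.trans (by
          obtain ⟨g, hg⟩ := isConj_iff.1 y.2
          exact isConj_iff.2 ⟨g, by rw [← hg]; group⟩)⟩
        invFun := fun y => ⟨y.1⁻¹, hx.trans (by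
          obtain ⟨g, hg⟩ := isConj_iff.1 y.2
          exact isConj_iff.2 ⟨g, by rw [← hg]; group⟩)⟩
        left_inv := fun y => Subtype.ext (inv_inv _)
        right_inv := fun y => Subtype.ext (inv_inv _) }
    haveI : Fact (Nat.Prime 2) := ⟨Nat.prime_two⟩
    obtain ⟨y, hy⟩ := Equiv.Perm.exists_fixed_point_of_prime (p := 2) (n := 1) (σ := σ)
      (by rw [← Nat.card_eq_fintype_card, hcard]; exact fun h => hodd.not_two_dvd_nat h)
      (Equiv.ext fun y => by rw [pow_one, pow_two]; exact Subtype.ext (inv_inv y.1))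
    obtain ⟨g, hg⟩ := isConj_iff.1 y.2
    have hy' : y.1⁻¹ = y.1 := congrArg Subtype.val hy
    apply hx2
    have h3 : y.1 * y.1 = 1 := by nth_rewrite 1 [← hy']; exact inv_mul_cancel _
    calc x ^ 2 = g⁻¹ * (g * x * g⁻¹ * (g * x * g⁻¹)) * g := by rw [pow_two]; group
      _ = 1 := by rw [hg, h3]; group
  · have hodd : Odd (Nat.card (G ⧸ N)) := hN
    have himg : ∀ g : G, (∃ j, orderOf g = 2 ^ j) → g ∈ N := by
      rintro g ⟨j, hj⟩
      rw [← QuotientGroup.eq_one_iff, ← orderOf_eq_one_iff]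
      refine Nat.eq_one_of_dvd_coprimes (Nat.Coprime.pow_left j ?_)
        (hj ▸ orderOf_map_dvd (QuotientGroup.mk' N) g) (orderOf_dvd_natCard _)
      exact (Nat.prime_two.coprime_iff_not_dvd).2 hodd.not_two_dvd_nat
    have htN : c ^ m ∈ N := himg _ ⟨k, htord⟩
    have hxN : x ∈ N := by
      rw [← QuotientGroup.eq_one_iff, ← orderOf_eq_one_iff]
      refine Nat.eq_one_of_dvd_coprimes ((Nat.prime_two.coprime_iff_not_dvd).2 hodd.not_two_dvd_nat)
        (orderOf_dvd_of_pow_eq_one ?_) (orderOf_dvd_natCard _)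
      have h1 := congrArg (QuotientGroup.mk' N) ht
      simp only [map_mul, map_inv, QuotientGroup.mk'_apply, (QuotientGroup.eq_one_iff _).2 htN,
        one_mul, inv_one, mul_one] at h1
      rw [pow_two]
      nth_rewrite 1 [h1]
      exact inv_mul_cancel _
    exact ⟨hxN, isConj_iff.2 ⟨⟨c ^ m, htN⟩, Subtype.ext ht⟩⟩

end Cfsg.Agent.S3863
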