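import Cfsg.Statements.S1124
import Cfsg.Agent.Recog.OddInvolution
-- import your own Cfsg.Agent.* helpers here

set_option autoImplicit false
open scoped Pointwise
open Cfsg

namespace Cfsg.Agent.S1124

/-- Let `t` be an element of order 2 of a finite group normalising a subgroup `X` of odd order, `Y = C_X(t)` and `Z` the set of elements of `X` inverted by `t`. Then `(y, z) ↦ y z` is a bijection `Y × Z → X`, so `|X| = |Y| |Z|`, and the subgroup generated by `Z` is normal in `X`. -/
theorem result {M : Type*} [Group M] [Finite M]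
    (t : M) (ht : orderOf t = 2) (X : Subgroup M) (hodd : Odd (Nat.card X))
    (hnorm : ∀ x ∈ X, t * x * t⁻¹ ∈ X) :
    (∀ x ∈ X, ∃! p : M × M, p.1 ∈ X ⊓ Subgroup.centralizer {t} ∧ p.2 ∈ Cfsg.invertedBy X t ∧ x = p.1 * p.2) ∧
      Nat.card X = Nat.card ↥(X ⊓ Subgroup.centralizer {t}) * Nat.card (Cfsg.invertedBy X t) ∧
      ∀ x ∈ X, MulAut.conj x • Subgroup.closure (Cfsg.invertedBy X t) = Subgroup.closure (Cfsg.invertedBy X t) := by
  have ht2 : t * t = 1 := by rw [← pow_two, ← ht, pow_orderOf_eq_one]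
  have hti : t⁻¹ = t := inv_eq_of_mul_eq_one_right ht2
  have hn : ∀ x ∈ X, t * x * t ∈ X := fun x hx => by simpa [hti] using hnorm x hx
  refine ⟨fun x hx => CfsgLib.Recog.existsUnique_decomp ht2 hn hodd hx,
    CfsgLib.Recog.card_decomp ht2 hn hodd, fun x hx => ?_⟩
  set L := Subgroup.closure (Cfsg.invertedBy X t)
  obtain ⟨⟨c, k⟩, ⟨hc, hk, hxe⟩, -⟩ := CfsgLib.Recog.existsUnique_decomp ht2 hn hodd hx
  have hxe' : x = c * k := hxe
  subst hxe'
  have hct := Subgroup.mem_centralizer_singleton_iff.1 hc.2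
  have hcK : ∀ d ∈ X ⊓ Subgroup.centralizer {t},
      ∀ y ∈ L, d * y * d⁻¹ ∈ L := by
    intro d hd y hy
    have hdt := Subgroup.mem_centralizer_singleton_iff.1 hd.2
    induction hy using Subgroup.closure_induction with
    | mem z hz =>
      refine Subgroup.subset_closure ⟨X.mul_mem (X.mul_mem hd.1 hz.1) (X.inv_mem hd.1), ?_⟩
      calc t * (d * z * d⁻¹) * t⁻¹ = (t * d) * z * (t * d)⁻¹ := by group
        _ = (d * t) * z * (d * t)⁻¹ := by rw [hdt]
        _ = d * (t * z * t⁻¹) * d⁻¹ := by group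
        _ = (d * z * d⁻¹)⁻¹ := by rw [hz.2]; group
    | one => simp
    | mul u v _ _ hu hv => simpa [mul_assoc] using L.mul_mem hu hv
    | inv u _ hu => simpa [mul_assoc] using L.inv_mem hu
  have hkL : k ∈ L := Subgroup.subset_closure hk
  refine le_antisymm ?_ ?_
  · intro y hy
    rw [Subgroup.mem_pointwise_smul_iff_inv_smul_mem] at hy
    have h1 := hcK c hc _ (L.mul_mem (L.mul_mem hkL hy) (L.inv_mem hkL))
    simpa [MulAut.smul_def, mul_assoc] using h1
  · intro y hy
    rw [Subgroup.mem_pointwise_smul_iff_inv_smul_mem]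
    have h1 := hcK c⁻¹ (Subgroup.inv_mem _ hc) y hy
    have h2 := L.mul_mem (L.mul_mem (L.inv_mem hkL) h1) hkL
    simpa [MulAut.smul_def, mul_assoc] using h2

end Cfsg.Agent.S1124
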