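import Cfsg.Statements.S0015
import Cfsg.Agent.Solvable.PGroupBasic

set_option autoImplicit false
set_option linter.deprecated false
set_option linter.style.haveILetI false
set_option linter.unusedVariables false
open Cfsg
open scoped Pointwise

namespace Cfsg.Agent.S0015

/-- In a finite nilpotent group, an abelian normal subgroup that is maximal among abelian normal subgroups equals its own centralizer. -/
theorem result {G : Type*} [Group G] [Finite G] [Group.IsNilpotent G]
    (N : Subgroup G) [N.Normal] [IsMulCommutative N]
    (hmax : ∀ M : Subgroup G, M.Normal → IsMulCommutative M → N ≤ M → M = N) :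
    Subgroup.centralizer (N : Set G) = N := by
  have hle : N ≤ Subgroup.centralizer (N : Set G) := Subgroup.le_centralizer N
  have : (Subgroup.centralizer (N : Set G)).Normal := Subgroup.normal_centralizer
  by_contra hne
  obtain ⟨x, hxC, hxN, hcen⟩ := CfsgLib.PGroupBasic.exists_central_mod N _ (lt_of_le_of_ne hle (Ne.symm hne))
  let M := Subgroup.closure (insert x (N : Set G))
  have hxM : x ∈ M := Subgroup.subset_closure (Set.mem_insert _ _)
  have hNM : N ≤ M := fun n hn => Subgroup.subset_closure (Set.mem_insert_of_mem _ hn)
  have hM : M.Normal := by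
    rw [← Subgroup.normalizer_eq_top_iff, eq_top_iff]
    intro g _
    have key : ∀ g : G, ∀ m ∈ M, g * m * g⁻¹ ∈ M := by
      intro g m hm
      induction hm using Subgroup.closure_induction with
      | mem m hm =>
        rcases Set.mem_insert_iff.1 hm with h | h
        · subst h
          have h1 := hNM (hcen g)
          have : g * m * g⁻¹ = (m * g * m⁻¹ * g⁻¹)⁻¹ * m := by group
          rw [this]
          exact M.mul_mem (M.inv_mem h1) hxM
        · exact hNM (Subgroup.Normal.conj_mem inferInstance m h g)
      | one => simp [M.one_mem]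
      | mul a b _ _ ha hb =>
        have : g * (a * b) * g⁻¹ = g * a * g⁻¹ * (g * b * g⁻¹) := by group
        rw [this]; exact M.mul_mem ha hb
      | inv a _ ha =>
        have : g * a⁻¹ * g⁻¹ = (g * a * g⁻¹)⁻¹ := by group
        rw [this]; exact M.inv_mem ha
    rw [Subgroup.mem_normalizer_iff]
    refine fun m => ⟨fun h => key g m h, fun h => ?_⟩
    have := key g⁻¹ _ h
    simpa [mul_assoc] using this
  have hMc : IsMulCommutative M := by
    refine Subgroup.isMulCommutative_closure ?_
    intro a ha b hb
    rcases Set.mem_insert_iff.1 ha with h1 | h1 <;> rcases Set.mem_insert_iff.1 hb with h2 | h2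
    · subst h1; subst h2; rfl
    · subst h1; exact ((Subgroup.mem_centralizer_iff.1 hxC) b h2).symm
    · subst h2; exact (Subgroup.mem_centralizer_iff.1 hxC) a h1
    · exact congrArg Subtype.val (IsMulCommutative.is_comm.comm (⟨a, h1⟩ : N) ⟨b, h2⟩)
  exact hxN (hmax M hM hMc hNM ▸ hxM)


end Cfsg.Agent.S0015
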