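import Cfsg.Statements.S0031
import Cfsg.Agent.Solvable.SchurZassenhaus

set_option autoImplicit false
open Cfsg
open scoped Pointwise

namespace Cfsg.Agent.S0031

/-- A fixed-point-free automorphism of a finite group maps some Sylow p-subgroup to itself. -/
theorem result {G : Type*} [Group G] [Finite G] (φ : G ≃* G)
    (hφ : MonoidHom.FixedPointFree (φ : G →* G)) (p : ℕ) [Fact p.Prime] :
    ∃ P : Sylow p G, (P : Subgroup G).map (φ : G →* G) = P := by
  obtain ⟨P⟩ := (inferInstance : Nonempty (Sylow p G))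
  let Q := P.mapSurjective (f := (φ : G →* G)) φ.surjective
  obtain ⟨g, hg⟩ := MulAction.exists_smul_eq G P Q
  obtain ⟨y, hy⟩ := hφ.commutatorMap_surjective g⁻¹
  -- `g⁻¹ = y / φ y`, so `φ y * g = y` up to inverses
  have hyg : φ y * y⁻¹ = g := by
    have := congr_arg (·⁻¹) hy
    simpa [div_eq_mul_inv] using this
  refine ⟨y⁻¹ • P, ?_⟩
  have hP : (P : Subgroup G).map (φ : G →* G) = MulAut.conj g • (P : Subgroup G) := by
    have := congr_arg (fun R : Sylow p G => (R : Subgroup G)) hg
    exact this.symm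
  show (MulAut.conj y⁻¹ • (P : Subgroup G)).map (φ : G →* G) = MulAut.conj y⁻¹ • (P : Subgroup G)
  rw [CfsgLib.SZ.conj_smul_map, hP, ← CfsgLib.SZ.conj_smul_mul]
  congr 2
  simp [← hyg, ← mul_assoc]


end Cfsg.Agent.S0031
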