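import Cfsg.Statements.S0032

set_option autoImplicit false
open Cfsg

namespace Cfsg.Agent.S0032

/-- If an automorphism of a finite group fixes only the identity and maps a normal subgroup N into itself, then the only cosets of N it fixes are those in N: a fixed coset xN forces x ∈ N. -/
theorem result {G : Type*} [Group G] [Finite G] (φ : G ≃* G)
    (hφ : MonoidHom.FixedPointFree (φ : G →* G)) (N : Subgroup G) [N.Normal] (hN : ∀ n ∈ N, φ n ∈ N)
    (x : G) (hx : (φ x)⁻¹ * x ∈ N) : x ∈ N := by
  let ψ : N →* N := MonoidHom.mk' (fun n => ⟨φ n, hN n n.2⟩) fun a b => Subtype.ext (map_mul φ _ _)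
  have hψ : MonoidHom.FixedPointFree ψ := fun n hn =>
    Subtype.ext (hφ n (congr_arg Subtype.val hn))
  have hx' : x⁻¹ * φ x ∈ N := by simpa using N.inv_mem hx
  obtain ⟨m, hm⟩ := hψ.commutatorMap_surjective ⟨x⁻¹ * φ x, hx'⟩
  have hm' : (m : G) * (φ m)⁻¹ = x⁻¹ * φ x := by
    rw [← div_eq_mul_inv]
    exact congr_arg Subtype.val hm
  have h1 : x * m = 1 := by
    refine hφ (x * m) ?_
    show φ (x * m) = x * m
    calc φ (x * m) = φ x * φ m := map_mul φ _ _
      _ = x * (x⁻¹ * φ x) * φ m := by group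
      _ = x * m := by rw [← hm']; group
  rw [eq_inv_of_mul_eq_one_left h1]
  exact N.inv_mem m.2


end Cfsg.Agent.S0032
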