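import Cfsg.Statements.S0036
import Cfsg.Agent.Frobenius.Semidirect
import Cfsg.Agent.Char.FrobeniusKernel

set_option autoImplicit false
set_option linter.deprecated false
set_option linter.style.haveILetI false
set_option linter.unusedVariables false
open Cfsg
open scoped Pointwise

namespace Cfsg.Agent.S0036

/-- When a Frobenius complement contains an involution, an elementary argument shows the Frobenius kernel is closed under multiplication (hence a subgroup). -/
theorem result {G : Type*} [Group G] [Finite G] (H : Subgroup G) (hH : Cfsg.IsFrobeniusComplement H)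
    (t : G) (ht : t ∈ H) (ht1 : t ≠ 1) (ht2 : t * t = 1) :
    ∀ x ∈ Cfsg.frobeniusKernel H, ∀ y ∈ Cfsg.frobeniusKernel H, x * y ∈ Cfsg.frobeniusKernel H := by
  obtain ⟨N, hN, -, -, hc, hmem⟩ := CfsgLib.Char.exists_frobenius_kernel H fun g hg h hh hgh => by
    by_contra h1
    exact hg (CfsgLib.Frobenius.mem_of_conj_mem hH (g := g⁻¹) h1 hh (by simpa using hgh) |> fun hi =>
      by simpa using inv_mem hi)
  have hset : (N : Set G) = Cfsg.frobeniusKernel H := by
    ext x
    rw [SetLike.mem_coe, hmem]
    simp only [Cfsg.frobeniusKernel, Set.mem_setOf_eq, CfsgLib.Frobenius.mem_conj_iff]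
  rw [← hset]
  exact fun x hx y hy => N.mul_mem hx hy


end Cfsg.Agent.S0036
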