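import Cfsg.Statements.S0039
import Cfsg.Agent.Frobenius.Semidirect

set_option autoImplicit false
set_option linter.deprecated false
set_option linter.style.haveILetI false
set_option linter.unusedVariables false
open Cfsg
open scoped Pointwise

namespace Cfsg.Agent.S0039

/-- In a finite group that is a semidirect product of a normal subgroup K by a nontrivial subgroup H, H is a Frobenius complement exactly when each nonidentity element of H acts without nonidentity fixed points on K by conjugation. -/
theorem result {G : Type*} [Group G] [Finite G] (K H : Subgroup G) [K.Normal]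
    (hc : Subgroup.IsComplement' K H) (hK : K ≠ ⊥) (hH : H ≠ ⊥) :
    Cfsg.IsFrobeniusComplement H ↔ ∀ h ∈ H, h ≠ 1 → K ⊓ Subgroup.centralizer {h} = ⊥ := by
  constructor
  · intro hF h hh hh1
    rw [Subgroup.eq_bot_iff_forall]
    intro k hk
    exact CfsgLib.Frobenius.eq_one_of_commute hF hc.disjoint.eq_bot hh hh1 hk.1
      (Subgroup.mem_centralizer_singleton_iff.1 hk.2).symm
  · intro hf
    refine CfsgLib.Frobenius.of_fpf hc hK hH fun h hh hh1 k hk hc' => ?_
    exact Subgroup.mem_bot.1 ((hf h hh hh1) ▸ (⟨hk, Subgroup.mem_centralizer_singleton_iff.2 hc'.symm⟩ :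
      k ∈ K ⊓ Subgroup.centralizer {h}))


end Cfsg.Agent.S0039
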