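import Cfsg.Statements.S0040
import Cfsg.Agent.Solvable.FpfComplement

set_option autoImplicit false
set_option linter.deprecated false
set_option linter.style.haveILetI false
set_option linter.unusedVariables false
open Cfsg
open scoped Pointwise

namespace Cfsg.Agent.S0040

/-- Sylow subgroups of Frobenius complements: if H complements a nontrivial normal subgroup K and every nonidentity element of H has trivial centraliser in K, then each Sylow subgroup of H is cyclic or isomorphic to a generalized quaternion group. -/
theorem result {G : Type*} [Group G] [Finite G] (K H : Subgroup G) [K.Normal]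
    (hc : Subgroup.IsComplement' K H) (hK : K ≠ ⊥) (hfpf : ∀ h ∈ H, h ≠ 1 → K ⊓ Subgroup.centralizer {h} = ⊥)
    (p : ℕ) [Fact p.Prime] (P : Sylow p H) :
    IsCyclic P ∨ ∃ n : ℕ, Nonempty (P ≃* QuaternionGroup (2 ^ n)) := by
  obtain ⟨φ, hφ⟩ := CfsgLib.FpfComplement.exists_fpf hfpf
  haveI : Nontrivial K := (Subgroup.nontrivial_iff_ne_bot K).2 hK
  exact (CfsgLib.FpfComplement.sylow_cyclic_or_quaternion hφ p P).imp_right
    fun ⟨_, n, _, e⟩ => ⟨n, e⟩


end Cfsg.Agent.S0040
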