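import Cfsg.Statements.S0049
import Cfsg.Agent.Solvable.Basics
import Mathlib.GroupTheory.SchurZassenhaus
import Mathlib.GroupTheory.Frattini

set_option autoImplicit false
set_option linter.deprecated false
set_option linter.style.haveILetI false
set_option linter.unusedVariables false
open Cfsg
open scoped Pointwise

namespace Cfsg.Agent.S0049

/-- A prime divisor of the order of a finite group also divides the index of the Frattini subgroup. -/
theorem result {G : Type*} [Group G] [Finite G] (p : ℕ) (hp : p.Prime) (hdvd : p ∣ Nat.card G) :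
    p ∣ (frattini G).index := by
  have : Fact p.Prime := ⟨hp⟩
  by_contra hnd
  obtain ⟨P⟩ : Nonempty (Sylow p G) := inferInstance
  have hPle : (P : Subgroup G) ≤ frattini G := by
    have h1 : IsPGroup p ((P : Subgroup G).map (QuotientGroup.mk' (frattini G))) := P.isPGroup'.map _
    obtain ⟨k, hk⟩ := IsPGroup.iff_card.1 h1
    have h2 := Subgroup.card_subgroup_dvd_card ((P : Subgroup G).map (QuotientGroup.mk' (frattini G)))
    rw [hk, ← Subgroup.index_eq_card] at h2
    have hk0 : k = 0 := by
      by_contra hk0
      exact hnd (dvd_trans (dvd_pow_self p hk0) h2)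
    subst hk0
    rw [pow_zero] at hk
    have h3 := Subgroup.eq_bot_of_card_eq _ hk
    rwa [Subgroup.map_eq_bot_iff, QuotientGroup.ker_mk'] at h3
  have hn : (P : Subgroup G).Normal := by
    rw [← Subgroup.normalizer_eq_top_iff]
    exact frattini_nongenerating (Sylow.normalizer_sup_eq_top' P hPle)
  obtain ⟨H, hH⟩ := Subgroup.exists_right_complement'_of_coprime P.card_coprime_index
  have hHtop : H = ⊤ := frattini_nongenerating
    (eq_top_iff.2 (hH.sup_eq_top ▸ sup_le (le_sup_of_le_right hPle) le_sup_left))
  subst hHtop
  exact P.ne_bot_of_dvd_card hdvd (disjoint_top.1 hH.disjoint)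


end Cfsg.Agent.S0049
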