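import Cfsg.Statements.S0053
import Cfsg.Agent.Solvable.Basics
import Mathlib.GroupTheory.Frattini

set_option autoImplicit false
set_option linter.deprecated false
set_option linter.style.haveILetI false
set_option linter.unusedVariables false
open Cfsg
open scoped Pointwise

namespace Cfsg.Agent.S0053

/-- An abelian minimal normal subgroup N of a finite group is complemented exactly when N is not inside the Frattini subgroup. -/
theorem result {G : Type*} [Group G] [Finite G]
    (N : Subgroup G) [N.Normal] [IsMulCommutative N] (hN : N ≠ ⊥)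
    (hmin : ∀ M : Subgroup G, M.Normal → M ≤ N → M = ⊥ ∨ M = N) :
    (∃ H : Subgroup G, Subgroup.IsComplement' N H) ↔ ¬ N ≤ frattini G := by
  constructor
  · rintro ⟨H, hH⟩ hle
    have hHtop : H = ⊤ := frattini_nongenerating
      (eq_top_iff.2 (hH.sup_eq_top ▸ sup_le (le_sup_of_le_right hle) le_sup_left))
    subst hHtop
    exact hN (disjoint_top.1 hH.disjoint)
  · intro h
    obtain ⟨M, hM, hNM⟩ : ∃ M : Subgroup G, IsCoatom M ∧ ¬ N ≤ M := by
      by_contra hcon
      push Not at hcon
      exact h (le_iInf₂ hcon)
    have htop : N ⊔ M = ⊤ := hM.2 _ (lt_of_le_of_ne le_sup_right fun he => hNM (he ▸ le_sup_left))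
    have hn : (N ⊓ M).Normal := by
      rw [← Subgroup.normalizer_eq_top_iff, eq_top_iff, ← htop, sup_le_iff]
      refine ⟨fun n hn => ?_, fun m hm => ?_⟩
      · rw [Subgroup.mem_normalizer_iff]
        intro x
        have key : ∀ x ∈ N, n * x * n⁻¹ = x := fun x hx => by
          have := congrArg Subtype.val (IsMulCommutative.is_comm.comm (⟨n, hn⟩ : N) ⟨x, hx⟩)
          simp only [Subgroup.coe_mul] at this
          rw [this]; group
        refine ⟨fun hx => by rw [key x hx.1]; exact hx, fun hx => ?_⟩
        have hxN : x ∈ N := by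
          have := Subgroup.Normal.conj_mem inferInstance _ hx.1 n⁻¹
          simpa [mul_assoc] using this
        rwa [key x hxN] at hx
      · rw [Subgroup.mem_normalizer_iff]
        intro x
        simp only [Subgroup.mem_inf]
        constructor
        · exact fun hx => ⟨Subgroup.Normal.conj_mem inferInstance x hx.1 m, M.mul_mem (M.mul_mem hm hx.2) (M.inv_mem hm)⟩
        · intro hx
          have h1 := Subgroup.Normal.conj_mem inferInstance _ hx.1 m⁻¹
          have h2 := M.mul_mem (M.mul_mem (M.inv_mem hm) hx.2) hm
          constructor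
          · simpa [mul_assoc] using h1
          · simpa [mul_assoc] using h2
    have hbot : N ⊓ M = ⊥ := (hmin _ hn inf_le_left).resolve_right fun he => hNM (he ▸ inf_le_right)
    refine ⟨M, Subgroup.isComplement'_of_disjoint_and_mul_eq_univ (disjoint_iff.2 hbot) ?_⟩
    rw [← Subgroup.normal_mul, htop]; rfl


end Cfsg.Agent.S0053
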