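import Cfsg.Statements.S1009
import Mathlib

set_option autoImplicit false
open Cfsg

namespace Cfsg.Agent.S1009

/-- Brodkey's Theorem: if a finite group has abelian Sylow p-subgroups, then there are two Sylow p-subgroups whose intersection equals the intersection of all Sylow p-subgroups. -/
theorem result {G : Type*} [Group G] [Finite G] (p : ℕ) [Fact p.Prime] (hab : ∀ P : Sylow p G, IsMulCommutative ↥(P : Subgroup G)) : ∃ P Q : Sylow p G, (P : Subgroup G) ⊓ (Q : Subgroup G) = ⨅ R : Sylow p G, (R : Subgroup G) := by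
  haveI : Finite (Sylow p G × Sylow p G) := inferInstance
  obtain ⟨⟨P, Q⟩, hmin⟩ := Finite.exists_min (fun a : Sylow p G × Sylow p G =>
    Nat.card ↥((a.1 : Subgroup G) ⊓ (a.2 : Subgroup G)))
  refine ⟨P, Q, le_antisymm (le_iInf fun R => ?_) (le_inf (iInf_le _ P) (iInf_le _ Q))⟩
  set D := (P : Subgroup G) ⊓ (Q : Subgroup G) with hD
  set C := Subgroup.centralizer (D : Set G) with hC
  have hPC : (P : Subgroup G) ≤ C := fun a ha => Subgroup.mem_centralizer_iff.mpr fun d hd => by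
    haveI := hab P
    exact congrArg Subtype.val (mul_comm' (⟨d, hd.1⟩ : (P : Subgroup G)) ⟨a, ha⟩)
  have hQC : (Q : Subgroup G) ≤ C := fun a ha => Subgroup.mem_centralizer_iff.mpr fun d hd => by
    haveI := hab Q
    exact congrArg Subtype.val (mul_comm' (⟨d, hd.2⟩ : (Q : Subgroup G)) ⟨a, ha⟩)
  obtain ⟨S, hS⟩ := (R.2.comap_of_injective C.subtype Subtype.coe_injective).exists_le_sylow
  obtain ⟨c, hc⟩ := MulAction.exists_smul_eq C S (P.subtype hPC)
  have key : ∀ r ∈ (R : Subgroup G), (c : G) * r * (c : G)⁻¹ ∈ C → (c : G) * r * (c : G)⁻¹ ∈ (P : Subgroup G) := by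
    intro r hr hrC
    have hrC' : r ∈ C := by
      have := mul_mem (mul_mem (inv_mem c.2) hrC) c.2
      simpa [mul_assoc] using this
    have h1 : c * ⟨r, hrC'⟩ * c⁻¹ ∈ ((c • S : Sylow p C) : Subgroup C) := by
      rw [Sylow.coe_subgroup_smul]
      exact ⟨⟨r, hrC'⟩, hS hr, rfl⟩
    rw [hc] at h1
    exact h1
  have hle : ((((c : G) • R : Sylow p G)) : Subgroup G) ⊓ (Q : Subgroup G) ≤ D := by
    rintro y ⟨hy, hyQ⟩
    rw [Sylow.coe_subgroup_smul] at hy
    obtain ⟨r, hr, rfl⟩ := hy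
    exact ⟨key r hr (hQC hyQ), hyQ⟩
  have heq := Subgroup.eq_of_le_of_card_ge hle (hmin ((c : G) • R, Q))
  intro d hd
  have hd' : d ∈ (((c : G) • R : Sylow p G) : Subgroup G) := (heq.ge hd).1
  rw [Sylow.coe_subgroup_smul] at hd'
  obtain ⟨r, hr, hrd⟩ := hd'
  have hcd : d * (c : G) = c * d := Subgroup.mem_centralizer_iff.mp c.2 d hd
  have hr' : r = d := by
    have h0 : (c : G) * r * (c : G)⁻¹ = d := hrd
    calc r = (c : G)⁻¹ * ((c : G) * r * (c : G)⁻¹) * c := by group
      _ = (c : G)⁻¹ * (d * c) := by rw [h0, mul_assoc]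
      _ = d := by rw [hcd, inv_mul_cancel_left]
  exact hr' ▸ hr

end Cfsg.Agent.S1009
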