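import Cfsg.Statements.S0060
import Cfsg.Agent.Solvable.Fitting
import Cfsg.Agent.Solvable.SchurZassenhaus
import Cfsg.Agent.S1009

set_option autoImplicit false
set_option linter.deprecated false
set_option linter.style.haveILetI false
set_option linter.unusedVariables false
open Pointwise
open Cfsg
open scoped Pointwise

namespace Cfsg.Agent.S0060

/-- Brodkey's Theorem: in a finite group with abelian Sylow p-subgroups and no nontrivial normal p-subgroup, some conjugate of a Sylow p-subgroup meets it trivially. -/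
theorem result {G : Type*} [Group G] [Finite G] (p : ℕ) [Fact p.Prime]
    (S : Sylow p G) (hS : IsMulCommutative S) (hOp : Cfsg.pCore p G = ⊥) :
    ∃ g : G, (S : Subgroup G) ⊓ MulAut.conj g • (S : Subgroup G) = ⊥ := by
  have hab : ∀ P : Sylow p G, IsMulCommutative ↥(P : Subgroup G) := fun P => by
    obtain ⟨g, rfl⟩ := MulAction.exists_smul_eq G S P
    refine ⟨⟨fun a b => Subtype.ext ?_⟩⟩
    have ha := a.2
    have hb := b.2
    simp only [Sylow.coe_subgroup_smul, CfsgLib.SZ.mem_conj_smul] at ha hb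
    have h := setLike_mul_comm ha hb
    calc (a : G) * (b : G) = g * ((g⁻¹ * a * g) * (g⁻¹ * b * g)) * g⁻¹ := by group
      _ = (b : G) * a := by rw [h]; group
  obtain ⟨P, Q, hPQ⟩ := Cfsg.Agent.S1009.result p hab
  rw [← CfsgLib.Fitting.pCore_eq_iInf_sylow, hOp] at hPQ
  obtain ⟨a, rfl⟩ := MulAction.exists_smul_eq G S P
  obtain ⟨b, rfl⟩ := MulAction.exists_smul_eq G S Q
  refine ⟨a⁻¹ * b, ?_⟩
  have h := congrArg (fun X : Subgroup G => MulAut.conj a⁻¹ • X) hPQ
  simp only [Sylow.coe_subgroup_smul, Subgroup.smul_inf, ← CfsgLib.SZ.conj_smul_mul, inv_mul_cancel,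
    map_one, one_smul, Subgroup.smul_bot] at h
  exact h


end Cfsg.Agent.S0060
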