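import Cfsg.Statements.S0063
import Cfsg.Agent.Solvable.PGroupBasic

set_option autoImplicit false
set_option linter.deprecated false
set_option linter.style.haveILetI false
set_option linter.unusedVariables false
open Cfsg
open scoped Pointwise

namespace Cfsg.Agent.S0063

/-- A finite group of prime-power order p ^ m with m > 1 is nilpotent of class at most m - 1. -/
theorem result {G : Type*} [Group G] [Finite G] (p m : ℕ) [Fact p.Prime]
    (hG : Nat.card G = p ^ m) (hm : 1 < m) : Group.nilpotencyClass G ≤ m - 1 := by
  have key : ∀ (k : ℕ) (H : Type _) [Group H] [Finite H], Nat.card H = p ^ k →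
      Group.nilpotencyClass H ≤ max 1 (k - 1) := by
    intro k
    induction k using Nat.strong_induction_on with
    | _ k ih =>
      intro H _ _ hH
      have := (IsPGroup.of_card hH).isNilpotent
      rcases subsingleton_or_nontrivial H with hs | hn
      · rw [Group.nilpotencyClass_zero_iff_subsingleton.2 hs]; exact Nat.zero_le _
      have hc := (IsPGroup.of_card hH).center_nontrivial
      obtain ⟨j, hj⟩ := IsPGroup.iff_card.1 ((IsPGroup.of_card hH).to_quotient (Subgroup.center H))
      have hjk : j < k := by
        have h1 := CfsgLib.Solvable.card_quotient_lt (N := Subgroup.center H)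
          ((Subgroup.nontrivial_iff_ne_bot _).1 hc)
        rw [hH, hj] at h1
        exact (Nat.pow_lt_pow_iff_right (Fact.out : p.Prime).one_lt).1 h1
      rw [Group.nilpotencyClass_eq_quotient_center_plus_one]
      by_cases hj0 : j = 0
      · subst hj0
        have : Subsingleton (H ⧸ Subgroup.center H) :=
          (Nat.card_eq_one_iff_unique.1 (by simpa using hj)).1
        rw [Group.nilpotencyClass_zero_iff_subsingleton.2 this]
        exact le_max_left _ _
      · have hj1 : j ≠ 1 := by
          rintro rfl
          rw [pow_one] at hj
          have : IsCyclic (H ⧸ Subgroup.center H) := isCyclic_of_prime_card hj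
          have hcomm : ∀ a b : H, a * b = b * a :=
            commutative_of_cyclic_center_quotient (QuotientGroup.mk' (Subgroup.center H))
              (QuotientGroup.ker_mk' _).le
          have htop : Subgroup.center H = ⊤ :=
            eq_top_iff.2 fun a _ => Subgroup.mem_center_iff.2 fun b => hcomm b a
          rw [← Subgroup.index_eq_card, htop, Subgroup.index_top] at hj
          exact (Fact.out : p.Prime).ne_one hj.symm
        have := ih j hjk _ hj
        omega
  have := key m G hG
  omega


end Cfsg.Agent.S0063
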