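import Cfsg.Statements.S0064
import Mathlib.GroupTheory.IsSubnormal

set_option autoImplicit false
set_option linter.deprecated false
set_option linter.style.haveILetI false
set_option linter.unusedVariables false
open Cfsg
open scoped Pointwise

namespace Cfsg.Agent.S0064

/-- A finite group is nilpotent exactly when each of its subgroups is subnormal. -/
theorem result {G : Type*} [Group G] [Finite G] :
    Group.IsNilpotent G ↔ ∀ H : Subgroup G, H.IsSubnormal := by
  constructor
  · intro h H
    induction hi : H.index using Nat.strong_induction_on generalizing H with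
    | _ i ih =>
      subst hi
      by_cases hH : H = ⊤
      · subst hH; exact Subgroup.IsSubnormal.top
      have hlt := Group.normalizerCondition_of_isNilpotent H (lt_top_iff_ne_top.2 hH)
      refine Subgroup.IsSubnormal.step H (Subgroup.normalizer (H : Set G)) hlt.le
        (ih _ ?_ _ rfl) (Subgroup.normal_subgroupOf_of_le_normalizer le_rfl)
      exact Subgroup.index_strictAnti hlt
  · intro h
    refine ((Group.isNilpotent_of_finite_tfae (G := G)).out 0 1).2 ?_
    intro H hH
    rcases Subgroup.IsSubnormal.iff_eq_top_or_exists.1 (h H) with rfl | ⟨K, hHK, -, hN⟩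
    · exact absurd hH (lt_irrefl _)
    · exact lt_of_lt_of_le hHK ((Subgroup.normal_subgroupOf_iff_le_normalizer hHK.le).1 hN)


end Cfsg.Agent.S0064
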