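import Cfsg.Statements.S0067
import Cfsg.Agent.Solvable.Zipper
import Cfsg.Agent.Solvable.Basics
import Cfsg.Agent.Comp.Fitting

set_option autoImplicit false
set_option linter.deprecated false
set_option linter.style.haveILetI false
set_option linter.unusedVariables false
open Pointwise
open Cfsg
open scoped Pointwise

namespace Cfsg.Agent.S0067

/-- If the join of a subgroup A with each of its conjugates is nilpotent, then A is subnormal in the finite group and contained in the Fitting subgroup. -/
theorem result {G : Type*} [Group G] [Finite G] (A : Subgroup G)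
    (h : ∀ g : G, Group.IsNilpotent (A ⊔ MulAut.conj g • A : Subgroup G)) : A.IsSubnormal ∧ A ≤ Cfsg.fittingSubgroup G := by
  have hsub : ∀ g : G, (A.subgroupOf (A ⊔ MulAut.conj g • A)).IsSubnormal := by
    intro g
    have := h g
    generalize A.subgroupOf (A ⊔ MulAut.conj g • A) = H
    induction hi : H.index using Nat.strong_induction_on generalizing H with
    | _ i ih =>
      subst hi
      by_cases hH : H = ⊤
      · subst hH; exact Subgroup.IsSubnormal.top
      have hlt := Group.normalizerCondition_of_isNilpotent H (lt_top_iff_ne_top.2 hH)
      exact Subgroup.IsSubnormal.step H _ hlt.le (ih _ (Subgroup.index_strictAnti hlt) _ rfl)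
        (Subgroup.normal_subgroupOf_of_le_normalizer le_rfl)
  have hA := CfsgLib.Zipper.criterion_aux _ G rfl A hsub
  refine ⟨hA, CfsgLib.Comp.subnormal_nilpotent_le_fitting hA ?_⟩
  have := h 1
  exact (Group.isNilpotent_congr (Subgroup.subgroupOfEquivOfLe (le_sup_left : A ≤ A ⊔ MulAut.conj (1 : G) • A))).mp inferInstance


end Cfsg.Agent.S0067
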