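import Cfsg.Statements.S0068
import Cfsg.Agent.Frobenius.Fpf

set_option autoImplicit false
set_option linter.deprecated false
set_option linter.style.haveILetI false
set_option linter.unusedVariables false
open Cfsg
open scoped Pointwise

namespace Cfsg.Agent.S0068

/-- Frobenius complements of even order: if H complements a nontrivial normal subgroup K, each nonidentity element of H has trivial centraliser in K, and H has even order, then H contains a unique involution s, K is abelian, and s inverts every element of K. -/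
theorem result {G : Type*} [Group G] [Finite G] (K H : Subgroup G) [K.Normal]
    (hc : Subgroup.IsComplement' K H) (hK : K ≠ ⊥) (hfpf : ∀ h ∈ H, h ≠ 1 → K ⊓ Subgroup.centralizer {h} = ⊥)
    (heven : 2 ∣ Nat.card H) :
    (∃ s ∈ H, orderOf s = 2 ∧ (∀ t ∈ H, orderOf t = 2 → t = s) ∧ ∀ k ∈ K, s * k * s⁻¹ = k⁻¹) ∧ IsMulCommutative K := by
  haveI : Nontrivial K := (Subgroup.nontrivial_iff_ne_bot K).2 hK
  let φ : H →* MulAut K := MulAut.conjNormal.comp H.subtype
  have hφ : CfsgLib.Frobenius.IsFpf φ := fun h hh k hk => by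
    have h1 : (h : G) * k * (h : G)⁻¹ = k := (MulAut.conjNormal_apply _ _).symm.trans (congrArg Subtype.val hk)
    rw [mul_inv_eq_iff_eq_mul] at h1
    have h2 := hfpf h h.2 (fun e => hh (Subtype.ext e))
    exact Subtype.ext (Subgroup.mem_bot.1 (h2 ▸ (⟨k.2, Subgroup.mem_centralizer_singleton_iff.2 h1.symm⟩ :
      (k : G) ∈ K ⊓ Subgroup.centralizer {(h : G)})))
  obtain ⟨s, hs⟩ := exists_prime_orderOf_dvd_card' 2 heven
  have hs1 : s ≠ 1 := fun h => by rw [h, orderOf_one] at hs; omega
  have hinv : ∀ k : K, (φ s) k = k⁻¹ := CfsgLib.Frobenius.fpf_inv (φ s) (hφ s hs1)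
    (by rw [← map_mul, ← pow_two, ← hs, pow_orderOf_eq_one, map_one])
  refine ⟨⟨s, s.2, by rw [Subgroup.orderOf_coe, hs], fun t ht ht2 => ?_, fun k hk => ?_⟩, ?_⟩
  · exact congrArg Subtype.val (hφ.unique_involution (s := ⟨t, ht⟩) (t := s)
      (by rw [Subgroup.orderOf_mk]; exact ht2) hs)
  · exact (MulAut.conjNormal_apply _ _).symm.trans (congrArg Subtype.val (hinv ⟨k, hk⟩))
  · refine ⟨⟨fun a b => ?_⟩⟩
    have h1 := map_mul (φ s) a b
    rw [hinv, hinv, hinv, ← mul_inv_rev, inv_inj] at h1
    exact h1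


end Cfsg.Agent.S0068
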