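import Cfsg.Statements.S0073
import Cfsg.Agent.Transfer.HallFocal
import Cfsg.Agent.Solvable.Basics

set_option autoImplicit false
set_option linter.deprecated false
set_option linter.style.haveILetI false
set_option linter.unusedVariables false
open Cfsg
open scoped Pointwise

namespace Cfsg.Agent.S0073

/-- For a finite non-abelian simple group, either the cube of the least prime divisor of the order divides the order, or 12 does. -/
theorem result {G : Type*} [Group G] [Finite G] [IsSimpleGroup G] (hG : ∃ x y : G, x * y ≠ y * x) : (Nat.card G).minFac ^ 3 ∣ Nat.card G ∨ 12 ∣ Nat.card G := by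
  set q := (Nat.card G).minFac with hq
  have hnt : Nontrivial G := inferInstance
  have hn1 : Nat.card G ≠ 1 := Finite.one_lt_card.ne'
  have hqp : q.Prime := Nat.minFac_prime hn1
  have : Fact q.Prime := ⟨hqp⟩
  by_contra hcon
  push Not at hcon
  obtain ⟨h3, h12⟩ := hcon
  obtain ⟨P⟩ : Nonempty (Sylow q G) := inferInstance
  obtain ⟨k, hk⟩ := IsPGroup.iff_card.1 P.2
  have hk2 : k ≤ 2 := by
    by_contra hk2
    exact h3 ((pow_dvd_pow q (by omega)).trans (hk ▸ (P : Subgroup G).card_subgroup_dvd_card))
  have hk1 : 1 ≤ k := by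
    by_contra hk1
    have h0 : k = 0 := by omega
    subst h0
    exact P.ne_bot_of_dvd_card (Nat.minFac_dvd _) (Subgroup.eq_bot_of_card_eq _ (by simpa using hk))
  have hcomm : IsMulCommutative (P : Subgroup G) := by
    rcases (show k = 1 ∨ k = 2 by omega) with rfl | rfl
    · have := isCyclic_of_prime_card (p := q) (by simpa using hk)
      infer_instance
    · exact IsPGroup.isMulCommutative_of_card_eq_prime_sq hk
  obtain ⟨Q, N, hN, hNc⟩ := CfsgLib.HallFocal.hasNormalPComplement_of_congr P hcomm (by
    intro r hr hrq hrd d hd hmod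
    have hqr : q < r := lt_of_le_of_ne (Nat.minFac_le_of_dvd hr.two_le hrd) (Ne.symm hrq)
    change Nat.card (P : Subgroup G) ≡ d [MOD r] at hmod
    change d ∣ Nat.card (P : Subgroup G) at hd
    change d = Nat.card (P : Subgroup G)
    rw [hk] at hd hmod ⊢
    obtain ⟨j, hj, rfl⟩ := (Nat.dvd_prime_pow hqp).1 hd
    by_contra hne
    have hjk : j < k := lt_of_le_of_ne hj fun e => hne (e ▸ rfl)
    have h1 : r ∣ q ^ k - q ^ j :=
      (Nat.modEq_iff_dvd' (Nat.pow_le_pow_right hqp.pos hj)).1 hmod.symm
    have h2 : ¬ r ∣ q ^ j := fun h => hrq ((Nat.prime_dvd_prime_iff_eq hr hqp).1 (hr.dvd_of_dvd_pow h))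
    have e : q ^ k - q ^ j = q ^ j * (q ^ (k - j) - 1) := by
      rw [Nat.mul_sub, mul_one, ← pow_add, Nat.add_sub_cancel' hj]
    rw [e] at h1
    have h4 := (hr.dvd_mul.1 h1).resolve_left h2
    have h5 : q ^ 2 - 1 = (q - 1) * (q + 1) := by
      have := hqp.two_le
      rw [Nat.mul_comm, ← Nat.sq_sub_sq, one_pow]
    have h6 : r ∣ (q - 1) * (q + 1) := by
      rcases (show k - j = 1 ∨ k - j = 2 by omega) with e' | e'
      · rw [e', pow_one] at h4
        exact h4.mul_right _
      · rw [e', h5] at h4
        exact h4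
    have := hqp.two_le
    rcases hr.dvd_mul.1 h6 with h7 | h7
    · have := Nat.le_of_dvd (by omega) h7; omega
    · have h8 := Nat.le_of_dvd (by omega) h7
      have h9 : r = q + 1 := by omega
      have hq2 : q = 2 := by
        by_contra hq2
        have ho := hqp.odd_of_ne_two hq2
        have hr2 : r ≠ 2 := by omega
        have ho2 := hr.odd_of_ne_two hr2
        rw [Nat.odd_iff] at ho ho2
        omega
      apply h12
      have h4d : 4 ∣ Nat.card G := by
        have hkk : k = 2 := by
          by_contra hkk
          have hk' : k = 1 := by omega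
          subst hk'
          have hj0 : j = 0 := by omega
          subst hj0
          simp [hq2, h9] at h4
        have := (P : Subgroup G).card_subgroup_dvd_card
        rw [hk, hkk, hq2] at this
        exact this
      have h3d : 3 ∣ Nat.card G := by rw [h9, hq2] at hrd; exact hrd
      omega)
  rcases hN.eq_bot_or_eq_top with rfl | rfl
  · have htop : (Q : Subgroup G) = ⊤ := by simpa using hNc.sup_eq_top
    have e : (P : Subgroup G) = ⊤ := by
      apply Subgroup.eq_top_of_card_eq
      rw [P.card_eq_multiplicity, ← Q.card_eq_multiplicity, htop, Subgroup.card_top]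
    obtain ⟨x, y, hxy⟩ := hG
    exact hxy (congrArg Subtype.val (hcomm.is_comm.comm ⟨x, e ▸ Subgroup.mem_top x⟩ ⟨y, e ▸ Subgroup.mem_top y⟩))
  · exact Q.ne_bot_of_dvd_card (Nat.minFac_dvd _) (disjoint_top.1 hNc.disjoint.symm)


end Cfsg.Agent.S0073
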