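import Cfsg.Statements.S0075
import Cfsg.Agent.Transfer.Basic

set_option autoImplicit false
set_option linter.deprecated false
set_option linter.style.haveILetI false
set_option linter.unusedVariables false
open Cfsg
open scoped Pointwise

namespace Cfsg.Agent.S0075

/-- For an abelian Sylow p-subgroup T, its intersection with the subgroup generated by the elements of order prime to p is the commutator of T with its normalizer. -/
theorem result {G : Type*} [Group G] [Finite G] {p : ℕ} [Fact p.Prime] (T : Sylow p G) (hT : IsMulCommutative T) : (T : Subgroup G) ⊓ Cfsg.pResidual p G = ⁅(T : Subgroup G), Subgroup.normalizer (T : Set G)⁆ := by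
  show _ = ⁅(T : Subgroup G), Subgroup.normalizer ((T : Subgroup G) : Set G)⁆
  refine le_antisymm ((CfsgLib.Fusion.inf_pResidual_le_focal T).trans_eq
    (CfsgLib.TransferBasic.focal_eq_commutator hT)) (le_inf ?_ ?_)
  · rw [← CfsgLib.TransferBasic.focal_eq_commutator hT]
    exact Subgroup.focalSubgroup_le _
  · refine le_trans (le_trans (Subgroup.commutator_mono le_top le_top) (le_of_eq (commutator_def G).symm)) ?_
    -- the quotient by `O^p` is the image of the abelian `T`
    let f := QuotientGroup.mk' (Cfsg.pResidual p G)
    have hf : Function.Surjective f := QuotientGroup.mk'_surjective _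
    have htop : (T.mapSurjective hf : Subgroup (G ⧸ Cfsg.pResidual p G)) = ⊤ := by
      rw [← Subgroup.card_eq_iff_eq_top, (T.mapSurjective hf).card_eq_multiplicity]
      obtain ⟨k, hk⟩ := IsPGroup.iff_card.1
        (CfsgLib.PResidual.isPGroup_quotient_pResidual (G := G) (p := p))
      rw [hk, Nat.Prime.factorization_pow Fact.out, Finsupp.single_eq_same]
    have : IsMulCommutative (G ⧸ Cfsg.pResidual p G) := by
      refine ⟨⟨fun a b => ?_⟩⟩
      obtain ⟨x, hx, rfl⟩ := (htop.ge (Subgroup.mem_top a) : a ∈ (T : Subgroup G).map f)
      obtain ⟨y, hy, rfl⟩ := (htop.ge (Subgroup.mem_top b) : b ∈ (T : Subgroup G).map f)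
      rw [← map_mul, ← map_mul]
      exact congr_arg f (Subgroup.mem_centralizer_iff.1
        (CfsgLib.TransferBasic.le_centralizer_self T hT hy) x hx)
    exact Subgroup.Normal.quotient_commutative_iff_commutator_le.1 this


end Cfsg.Agent.S0075
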