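import Cfsg.Statements.S0078
import Cfsg.Agent.Transfer.Tate
import Cfsg.Agent.Solvable.Glauberman

set_option autoImplicit false
set_option linter.deprecated false
set_option linter.style.haveILetI false
set_option linter.unusedVariables false
open Cfsg
open scoped Pointwise

namespace Cfsg.Agent.S0078

/-- In a p-normal group, a Sylow p-subgroup P meets O^p(G) exactly where it meets O^p(V), for any subgroup V containing the normalizer of the centre of P. -/
theorem result {G : Type*} [Group G] [Finite G] {p : ℕ} [Fact p.Prime] (P : Sylow p G) (hn : ∀ Q : Sylow p G, (P : Subgroup G) ⊓ Subgroup.centralizer (P : Set G) ≤ (Q : Subgroup G) → (Q : Subgroup G) ⊓ Subgroup.centralizer (Q : Set G) = (P : Subgroup G) ⊓ Subgroup.centralizer (P : Set G)) (V : Subgroup G) (hV : Subgroup.normalizer (((P : Subgroup G) ⊓ Subgroup.centralizer (P : Set G) : Subgroup G) : Set G) ≤ V) : (P : Subgroup G) ⊓ Cfsg.pResidual p G = (P : Subgroup G) ⊓ (Cfsg.pResidual p V).map V.subtype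 := by
  set Z := (P : Subgroup G) ⊓ Subgroup.centralizer (P : Set G) with hZ
  have hZP : Z ≤ (P : Subgroup G) := inf_le_left
  have hPV : (P : Subgroup G) ≤ V := by
    refine le_trans ?_ hV
    refine le_trans ?_ (Subgroup.centralizer_le_normalizer _)
    intro x hx
    exact Subgroup.mem_centralizer_iff.2 fun z hz => (Subgroup.mem_centralizer_iff.1 hz.2 x hx).symm
  have hW : Cfsg.IsWeaklyClosed Z (P : Subgroup G) := by
    refine ⟨hZP, fun g hg => ?_⟩
    rw [← CfsgLib.SZ.conj_smul_eq_map] at hg ⊢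
    have hQle : Z ≤ ((g⁻¹ • P : Sylow p G) : Subgroup G) := by
      rw [Sylow.coe_subgroup_smul, ← CfsgLib.SZ.conj_smul_inv_smul g Z]
      exact Subgroup.pointwise_smul_le_pointwise_smul_iff.2 hg
    have h1 := hn _ hQle
    have h2 : ((g⁻¹ • P : Sylow p G) : Subgroup G) ⊓ Subgroup.centralizer ((g⁻¹ • P : Sylow p G) : Set G) = MulAut.conj g⁻¹ • Z := by
      ext x
      rw [CfsgLib.SZ.mem_conj_smul]
      simp only [Subgroup.mem_inf, hZ, Sylow.coe_subgroup_smul, Subgroup.mem_centralizer_iff]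
      rw [CfsgLib.SZ.mem_conj_smul]
      refine and_congr_right fun _ => ⟨fun h y hy => ?_, fun h y hy => ?_⟩
      · have := h (g⁻¹ * y * g) (by
          show g⁻¹ * y * g ∈ MulAut.conj g⁻¹ • (P : Subgroup G)
          rw [CfsgLib.SZ.mem_conj_smul, show g⁻¹⁻¹ * (g⁻¹ * y * g) * g⁻¹ = y by group]
          exact hy)
        calc y * (g⁻¹⁻¹ * x * g⁻¹) = g * ((g⁻¹ * y * g) * x) * g⁻¹ := by group
          _ = g * (x * (g⁻¹ * y * g)) * g⁻¹ := by rw [this]
          _ = g⁻¹⁻¹ * x * g⁻¹ * y := by group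
      · have hy' : g⁻¹⁻¹ * y * g⁻¹ ∈ (P : Subgroup G) := CfsgLib.SZ.mem_conj_smul.1 hy
        have := h _ hy'
        calc y * x = g⁻¹ * ((g⁻¹⁻¹ * y * g⁻¹) * (g⁻¹⁻¹ * x * g⁻¹)) * g := by group
          _ = g⁻¹ * ((g⁻¹⁻¹ * x * g⁻¹) * (g⁻¹⁻¹ * y * g⁻¹)) * g := by rw [this]
          _ = x * y := by group
    have h3 : MulAut.conj g⁻¹ • Z = Z := h2.symm.trans h1
    conv_lhs => rw [← h3]
    rw [← CfsgLib.SZ.conj_smul_mul, mul_inv_cancel, map_one, one_smul]
  have hfoc := CfsgLib.TransferBasic.focal_le_of_weaklyClosed P inf_le_right hW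
  refine le_antisymm (le_inf inf_le_left (CfsgLib.Tate.inf_pResidual_le P V hPV ?_))
    (inf_le_inf le_rfl (CfsgLib.PResidual.map_pResidual_le V.subtype))
  exact (CfsgLib.Fusion.inf_pResidual_le_focal P).trans (hfoc.trans (Subgroup.commutator_mono hV hV))


end Cfsg.Agent.S0078
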