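import Cfsg.Statements.S0079
import Cfsg.Agent.Transfer.HallFocal

set_option autoImplicit false
set_option linter.deprecated false
set_option linter.style.haveILetI false
set_option linter.unusedVariables false
open Cfsg
open scoped Pointwise commutatorElement

namespace Cfsg.Agent.S0079

/-- A nilpotent Hall subgroup has a normal complement exactly when elements of it that are conjugate in the whole group are already conjugate inside it. -/
theorem result {G : Type*} [Group G] [Finite G] (H : Subgroup G) (hH : Group.IsNilpotent H) (hHall : Nat.Coprime (Nat.card H) H.index) : (∃ N : Subgroup G, N.Normal ∧ N.IsComplement' H) ↔ ∀ x ∈ H, ∀ y ∈ H, (∃ g : G, g * x * g⁻¹ = y) → ∃ h ∈ H, h * x * h⁻¹ = y := by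
  constructor
  · rintro ⟨N, hN, hNc⟩ x hx y hy ⟨g, hg⟩
    obtain ⟨⟨⟨n, hn⟩, ⟨h, hh⟩⟩, hnh⟩ := hNc.2 g
    have hnh' : n * h = g := hnh
    refine ⟨h, hh, ?_⟩
    set x' := h * x * h⁻¹ with hx'
    have hx'H : x' ∈ H := H.mul_mem (H.mul_mem hh hx) (H.inv_mem hh)
    have h1 : y * x'⁻¹ ∈ N ⊓ H := by
      refine ⟨?_, H.mul_mem hy (H.inv_mem hx'H)⟩
      have e : y * x'⁻¹ = n * (x' * n⁻¹ * x'⁻¹) := by
        rw [← hg, ← hnh', hx']; group
      rw [e]
      exact N.mul_mem hn (hN.conj_mem _ (N.inv_mem hn) x')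
    rw [hNc.disjoint.eq_bot, Subgroup.mem_bot, mul_inv_eq_one] at h1
    exact h1.symm
  · intro hfus
    obtain ⟨n, hn⟩ := (Subgroup.isNilpotent_iff_lowerCentralSeries H).1 hH
    refine CfsgLib.HallFocal.complement_of_iterate n G H hHall ?_
    rw [eq_bot_iff, ← hn]
    clear hn
    induction n with
    | zero => exact le_rfl
    | succ k ih =>
      rw [Function.iterate_succ_apply', Subgroup.lowerCentralSeries_succ]
      refine (CfsgLib.HallFocal.focalSubgroup_mono ih).trans ?_
      rw [Subgroup.focalSubgroup_def, Subgroup.closure_le]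
      rintro w ⟨hw, x, hx, u, rfl⟩
      have hle := H.lowerCentralSeries_le_self k
      have hy := CfsgLib.TransferBasic.conj_mem_of_commutator_mem (hle hx) (hle hw)
      obtain ⟨z, hz, hzx⟩ := hfus x (hle hx) _ hy ⟨u, rfl⟩
      have e : ⁅x, u⁆ = ⁅x, z⁆ := by
        have := congrArg (fun t => x * t⁻¹) hzx
        simpa [commutatorElement_def, mul_assoc] using this.symm
      rw [SetLike.mem_coe, e]
      exact Subgroup.commutator_mem_commutator hx hz


end Cfsg.Agent.S0079
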