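import Cfsg.Statements.S0081
import Cfsg.Agent.LocalB.Tate
import Cfsg.Agent.Solvable.Basics

set_option autoImplicit false
set_option linter.deprecated false
set_option linter.style.haveILetI false
set_option linter.unusedVariables false
open Cfsg
open scoped Pointwise

namespace Cfsg.Agent.S0081

/-- If a normal subgroup meets a Sylow p-subgroup P inside the Frattini subgroup of P, then it has a normal p-complement. -/
theorem result {G : Type*} [Group G] [Finite G] {p : ℕ} [Fact p.Prime] (P : Sylow p G) (N : Subgroup G) [N.Normal] (h : N ⊓ (P : Subgroup G) ≤ (frattini P).map (P : Subgroup G).subtype) : Cfsg.HasNormalPComplement p N := by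
  let H : Subgroup G := (P : Subgroup G) ⊔ N
  have hPH : (P : Subgroup G) ≤ H := le_sup_left
  let P' : Sylow p H := P.subtype hPH
  have hP' : (P' : Subgroup H) = (P : Subgroup G).subgroupOf H := rfl
  have hNn : (N.subgroupOf H).Normal := Subgroup.normal_subgroupOf
  have hidx : ∃ k, (N.subgroupOf H).index = p ^ k := by
    have h1 := CfsgLib.Solvable.card_sup_mul_card_inf (A := (P : Subgroup G)) (K := N) Subgroup.le_normalizer_of_normal
    have h2 := Subgroup.card_mul_index (N.subgroupOf H)
    rw [Nat.card_congr (Subgroup.subgroupOfEquivOfLe (le_sup_right : N ≤ H)).toEquiv] at h2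
    obtain ⟨k, hk⟩ := IsPGroup.iff_card.1 P.2
    have h3 : (N.subgroupOf H).index * Nat.card ↥((P : Subgroup G) ⊓ N) = p ^ k := by
      apply Nat.eq_of_mul_eq_mul_left (Nat.card_pos (α := N))
      rw [← mul_assoc, h2, h1, hk, mul_comm]
    obtain ⟨i, -, hi⟩ := (Nat.dvd_prime_pow Fact.out).1 (Dvd.intro _ h3)
    exact ⟨i, hi⟩
  obtain ⟨k, hk⟩ := hidx
  have hres : Cfsg.pResidual p H ≤ N.subgroupOf H := CfsgLib.PResidual.pResidual_le hk
  have htriv := CfsgLib.LocalB.Tate.inf_pResidual_eq_bot P' fun x hx => by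
    obtain ⟨y, hy, hyx⟩ := h ⟨hres hx, x.2⟩
    let e : (P : Subgroup G) ≃* (P' : Subgroup H) := (Subgroup.subgroupOfEquivOfLe hPH).symm
    have hex : e y = x := by
      apply Subtype.ext
      apply Subtype.ext
      exact hyx
    rw [← hex]
    exact (frattini_le_comap_frattini_of_surjective (φ := e.toMonoidHom) e.surjective) hy
  have hH : Cfsg.HasNormalPComplement p H := by
    refine CfsgLib.PResidual.hasNormalPComplement_iff.2 (CfsgLib.PResidual.coprime_of_not_dvd Fact.out fun hd => ?_)
    obtain ⟨z, hz⟩ := exists_prime_orderOf_dvd_card' p hd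
    obtain ⟨S, hS⟩ := IsPGroup.exists_le_sylow (IsPGroup.of_card (n := 1)
      (show Nat.card (Subgroup.zpowers (z : H)) = p ^ 1 by rw [Nat.card_zpowers, pow_one, Subgroup.orderOf_coe]; exact hz))
    obtain ⟨g, hg⟩ := MulAction.exists_smul_eq H S P'
    have hmem : g * (z : H) * g⁻¹ ∈ (P' : Subgroup H) := by
      rw [← hg]
      exact ⟨(z : H), hS (Subgroup.mem_zpowers _), rfl⟩
    have h1 := htriv ⟨_, hmem⟩ (Subgroup.Normal.conj_mem inferInstance _ z.2 g)
    have h2 : (z : H) = 1 := by simpa using congrArg Subtype.val h1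
    exact (Fact.out : p.Prime).ne_one (by rw [← hz, ← Subgroup.orderOf_coe, h2, orderOf_one])
  exact CfsgLib.PResidual.hasNormalPComplement_of_injective (Subgroup.inclusion (le_sup_right : N ≤ H))
    (Subgroup.inclusion_injective _) hH


end Cfsg.Agent.S0081
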