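import Cfsg.Statements.S0082
import Cfsg.Agent.Transfer.Basic

set_option autoImplicit false
set_option linter.deprecated false
set_option linter.style.haveILetI false
set_option linter.unusedVariables false
open Cfsg
open scoped Pointwise

namespace Cfsg.Agent.S0082

/-- With a cyclic Sylow p-subgroup, either there is a normal p-complement or the elements of order prime to p generate the whole group. -/
theorem result {G : Type*} [Group G] [Finite G] {p : ℕ} [Fact p.Prime] (P : Sylow p G) (hP : IsCyclic P) : Cfsg.HasNormalPComplement p G ∨ Cfsg.pResidual p G = ⊤ := by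
  refine (CfsgLib.TransferBasic.cyclic_dichotomy (P := P) hP).imp id fun ⟨hF, hC⟩ => ?_
  have hc : IsMulCommutative P := inferInstance
  obtain ⟨k, hk⟩ := CfsgLib.PResidual.exists_index_pResidual (G := G) (p := p)
  have hPle : (P : Subgroup G) ≤ Cfsg.pResidual p G := by
    obtain ⟨A, hAN, hcop, hA⟩ := CfsgLib.TransferBasic.exists_normalizer_complement P
    rw [← hF, CfsgLib.TransferBasic.focal_eq_commutator hc,
      CfsgLib.TransferBasic.commutator_normalizer_eq hc hA, Subgroup.commutator_le]
    intro x hx a ha
    have hp : p ∣ Nat.card G ∨ (P : Subgroup G) = ⊥ := by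
      by_cases h : p ∣ Nat.card G
      · exact Or.inl h
      · refine Or.inr (Subgroup.eq_bot_of_card_eq _ ?_)
        rw [P.card_eq_multiplicity, Nat.factorization_eq_zero_of_not_dvd h, pow_zero]
    rcases hp with hp | hP1
    · have hpP : p ∣ Nat.card P := P.dvd_card_of_dvd_card hp
      have ha' : a ∈ Cfsg.pResidual p G := CfsgLib.PResidual.mem_pResidual p
        ((hcop.coprime_dvd_left (Subgroup.orderOf_dvd_natCard _ ha)).coprime_dvd_right hpP)
      rw [commutatorElement_def]
      exact mul_mem (Subgroup.Normal.conj_mem inferInstance a ha' x) (inv_mem ha')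
    · rw [hP1, Subgroup.mem_bot] at hx
      rw [hx, commutatorElement_one_left]
      exact one_mem _
  rw [← Subgroup.index_eq_one, hk]
  rcases Nat.eq_zero_or_pos k with rfl | hk0
  · rfl
  · exfalso
    refine P.not_dvd_index ((dvd_pow_self p hk0.ne').trans ?_)
    exact hk ▸ Subgroup.index_dvd_of_le hPle


end Cfsg.Agent.S0082
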