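import Cfsg.Statements.S0083
import Cfsg.Agent.Transfer.Basic

set_option autoImplicit false
set_option linter.deprecated false
set_option linter.style.haveILetI false
set_option linter.unusedVariables false
open Cfsg
open scoped Pointwise

namespace Cfsg.Agent.S0083

/-- For an abelian Sylow p-subgroup P, a normal p-complement exists exactly when the normalizer of P is an internal direct product of P with some subgroup. -/
theorem result {G : Type*} [Group G] [Finite G] {p : ℕ} [Fact p.Prime] (P : Sylow p G) (hP : IsMulCommutative P) : Cfsg.HasNormalPComplement p G ↔ ∃ Q : Subgroup G, Q ≤ Subgroup.centralizer (P : Set G) ∧ Q ⊓ (P : Subgroup G) = ⊥ ∧ Q ⊔ (P : Subgroup G) = Subgroup.normalizer (P : Set G) := by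
  constructor
  · intro h
    obtain ⟨A, hAN, hcop, hA⟩ := CfsgLib.TransferBasic.exists_normalizer_complement P
    refine ⟨A, fun a ha => ?_, Subgroup.inf_eq_bot_of_coprime hcop, (sup_comm _ _).trans hA⟩
    refine CfsgLib.Fusion.localCondition_of_hasNormalPComplement h _ P.2 a (hAN ha) ?_
    obtain ⟨k, hk⟩ := IsPGroup.iff_card.1 P.2
    by_cases hd : p ∣ orderOf a
    · exfalso
      have hd' : p ∣ Nat.card A := hd.trans (Subgroup.orderOf_dvd_natCard _ ha)
      obtain ⟨b, hb⟩ := exists_prime_orderOf_dvd_card' p hd'
      have hbP : (b : G) ∈ P := by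
        haveI : ((P : Subgroup G).subgroupOf (Subgroup.normalizer ((P : Subgroup G) : Set G))).Normal :=
          (Subgroup.normal_subgroupOf_iff_le_normalizer Subgroup.le_normalizer).2 le_rfl
        have hzp : IsPGroup p (Subgroup.zpowers (b : G)) :=
          IsPGroup.of_card (n := 1) (by rw [Nat.card_zpowers, Subgroup.orderOf_coe, hb, pow_one])
        have := P.3 (hzp.to_sup_of_normal_right' P.2 (Subgroup.zpowers_le.2 (hAN b.2))) le_sup_right
        exact this.le (Subgroup.mem_sup_left (Subgroup.mem_zpowers _))
      have hb1 : (b : G) = 1 := Subgroup.mem_bot.1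
        (Subgroup.inf_eq_bot_of_coprime hcop ▸ (⟨b.2, hbP⟩ : (b : G) ∈ A ⊓ (P : Subgroup G)))
      rw [OneMemClass.coe_eq_one] at hb1
      rw [hb1, orderOf_one] at hb
      exact (Fact.out : p.Prime).one_lt.ne hb
    · exact CfsgLib.PResidual.coprime_of_not_dvd Fact.out hd
  · rintro ⟨Q, hQ, -, hQP⟩
    refine CfsgLib.TransferBasic.hasNormalPComplement_of_le_centralizer P ?_
    show Subgroup.normalizer (P : Set G) ≤ _
    rw [← hQP]
    exact sup_le hQ (CfsgLib.TransferBasic.le_centralizer_self P hP)


end Cfsg.Agent.S0083
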