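import Cfsg.Statements.S0084
import Cfsg.Agent.Transfer.HallFocal

set_option autoImplicit false
set_option linter.deprecated false
set_option linter.style.haveILetI false
set_option linter.unusedVariables false
open Cfsg
open scoped Pointwise

namespace Cfsg.Agent.S0084

/-- A group whose Sylow 2-subgroups are Klein four-groups and whose order is prime to 3 has a normal 2-complement. -/
theorem result {G : Type*} [Group G] [Finite G] (T : Sylow 2 G) (hT : IsKleinFour T) (h3 : ¬ 3 ∣ Nat.card G) : Cfsg.HasNormalPComplement 2 G := by
  have hcomm : IsMulCommutative (T : Subgroup G) := ⟨⟨mul_comm_of_exponent_two hT.exponent_two⟩⟩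
  refine CfsgLib.HallFocal.hasNormalPComplement_of_congr T hcomm fun r hr hr2 hrd d hd hmod => ?_
  have hc : Nat.card (T : Subgroup G) = 4 := hT.card_four
  have h5 : 5 ≤ r := by
    have := hr.two_le
    rcases eq_or_ne r 3 with rfl | h; · exact absurd hrd h3
    rcases eq_or_ne r 4 with rfl | h'; · exact absurd hr (by decide)
    omega
  rw [hc] at hd hmod ⊢
  by_contra hne
  have hle := Nat.le_of_dvd (by norm_num) hd
  have h1 := (Nat.modEq_iff_dvd' hle).1 hmod.symm
  have := Nat.le_of_dvd (by omega) h1
  omega


end Cfsg.Agent.S0084
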