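import Cfsg.Statements.S0085
import Cfsg.Agent.Transfer.HallFocal

set_option autoImplicit false
set_option linter.deprecated false
set_option linter.style.haveILetI false
set_option linter.unusedVariables false
open Cfsg
open scoped Pointwise

namespace Cfsg.Agent.S0085

/-- A group whose Sylow 2-subgroups are elementary abelian of order 8 and whose order is prime to 3 and to 7 has a normal 2-complement. -/
theorem result {G : Type*} [Group G] [Finite G] (T : Sylow 2 G) (h8 : Nat.card T = 8) (he : ∀ x : T, x * x = 1) (h3 : ¬ 3 ∣ Nat.card G) (h7 : ¬ 7 ∣ Nat.card G) : Cfsg.HasNormalPComplement 2 G := by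
  have hcomm : IsMulCommutative (T : Subgroup G) := by
    refine ⟨⟨fun a b => ?_⟩⟩
    have hi : ∀ x : (T : Subgroup G), x⁻¹ = x := fun x => inv_eq_of_mul_eq_one_right (he x)
    calc a * b = (a * b)⁻¹ := (hi _).symm
      _ = b⁻¹ * a⁻¹ := mul_inv_rev a b
      _ = b * a := by rw [hi, hi]
  refine CfsgLib.HallFocal.hasNormalPComplement_of_congr T hcomm fun r hr hr2 hrd d hd hmod => ?_
  rw [h8] at hd hmod ⊢
  by_contra hne
  have hle := Nat.le_of_dvd (by norm_num) hd
  have h1 := (Nat.modEq_iff_dvd' hle).1 hmod.symm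
  have hd' : d = 1 ∨ d = 2 ∨ d = 4 := by
    have : d ∈ Nat.divisors 8 := Nat.mem_divisors.2 ⟨hd, by norm_num⟩
    rw [show Nat.divisors 8 = {1, 2, 4, 8} by decide] at this
    simp at this; omega
  have hr' : r ≠ 3 ∧ r ≠ 7 := ⟨fun e => h3 (e ▸ hrd), fun e => h7 (e ▸ hrd)⟩
  have hle' := Nat.le_of_dvd (by omega) h1
  have h2 : 2 ≤ r := hr.two_le
  have hr4 : r ≠ 4 := fun e => by rw [e] at hr; exact absurd hr (by decide)
  have hr6 : r ≠ 6 := fun e => by rw [e] at hr; exact absurd hr (by decide)
  rcases hd' with rfl | rfl | rfl <;> interval_cases r <;> omega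


end Cfsg.Agent.S0085
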