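import Cfsg.Statements.S0088
import Cfsg.Agent.Transfer.Basic

set_option autoImplicit false
set_option linter.deprecated false
set_option linter.style.haveILetI false
set_option linter.unusedVariables false
open Cfsg
open scoped Pointwise

namespace Cfsg.Agent.S0088

/-- An abelian Hall subgroup meets G' ∩ Z(G) trivially. -/
theorem result {G : Type*} [Group G] [Finite G] (H : Subgroup G) (hc : IsMulCommutative H) (hHall : Nat.Coprime (Nat.card H) H.index) : H ⊓ commutator G ⊓ Subgroup.center G = ⊥ := by
  rw [Subgroup.eq_bot_iff_forall]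
  by_contra! hne
  obtain ⟨z, hz, hz1⟩ := hne
  set K := H ⊓ commutator G ⊓ Subgroup.center G
  have hK1 : Nat.card K ≠ 1 := fun h => hz1 (by
    have := Subgroup.eq_bot_of_card_eq K h
    rwa [this, Subgroup.mem_bot] at hz)
  haveI := Fact.mk (Nat.minFac_prime hK1)
  obtain ⟨x, hx⟩ := exists_prime_orderOf_dvd_card' (G := K) _ (Nat.card K).minFac_dvd
  set p := (Nat.card K).minFac
  have hxH : (x : G) ∈ H := x.2.1.1
  obtain ⟨S, hS⟩ := (IsPGroup.of_card (n := 1)
    (by rw [Nat.card_zpowers, hx, pow_one]) : IsPGroup p (Subgroup.zpowers x)).map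
      (Subgroup.inclusion (inf_le_left.trans inf_le_left : K ≤ H)) |>.exists_le_sylow
  have hpH : p ∣ Nat.card H :=
    (Nat.minFac_dvd _).trans (Subgroup.card_dvd_of_le (inf_le_left.trans inf_le_left))
  let P : Sylow p G := Sylow.ofCard ((S : Subgroup H).map H.subtype) (by
    rw [Subgroup.card_map_of_injective H.subtype_injective, S.card_eq_multiplicity,
      ← Subgroup.card_mul_index H, Nat.factorization_mul Nat.card_pos.ne' Subgroup.index_ne_zero_of_finite]
    have : H.index.factorization p = 0 := Nat.factorization_eq_zero_of_not_dvd fun h =>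
      Nat.not_coprime_of_dvd_of_dvd (Nat.Prime.one_lt Fact.out) hpH h hHall
    simp [this])
  have hP : IsMulCommutative (P : Subgroup G) := by
    rw [← Subgroup.le_centralizer_iff_isMulCommutative]
    intro a ha
    exact Subgroup.centralizer_le (SetLike.coe_subset_coe.2 (Subgroup.map_subtype_le _))
      (Subgroup.le_centralizer_iff_isMulCommutative.2 hc (Subgroup.map_subtype_le _ ha))
  have hxP : (x : G) ∈ (P : Subgroup G) :=
    ⟨_, hS (Subgroup.mem_map_of_mem _ (Subgroup.mem_zpowers x)), rfl⟩
  have h1 : (x : G) = 1 := Subgroup.mem_bot.1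
    (CfsgLib.TransferBasic.inf_center_inf_commutator_eq_bot hP ▸
      (⟨⟨hxP, x.2.1.2⟩, x.2.2⟩ : (x : G) ∈ (P : Subgroup G) ⊓ commutator G ⊓ Subgroup.center G))
  rw [OneMemClass.coe_eq_one] at h1
  rw [h1, orderOf_one] at hx
  exact (Nat.Prime.one_lt (Fact.out : p.Prime)).ne hx


end Cfsg.Agent.S0088
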