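import Cfsg.Statements.S0089
import Cfsg.Agent.Transfer.Basic

set_option autoImplicit false
set_option linter.deprecated false
set_option linter.style.haveILetI false
set_option linter.unusedVariables false
open Cfsg
open scoped Pointwise

namespace Cfsg.Agent.S0089

/-- When all Sylow subgroups are abelian, the derived subgroup meets the centre trivially. -/
theorem result {G : Type*} [Group G] [Finite G] (h : ∀ p : ℕ, p.Prime → ∀ P : Sylow p G, IsMulCommutative P) : commutator G ⊓ Subgroup.center G = ⊥ := by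
  rw [Subgroup.eq_bot_iff_forall]
  by_contra! hne
  obtain ⟨z, hz, hz1⟩ := hne
  set K := commutator G ⊓ Subgroup.center G
  have hK1 : Nat.card K ≠ 1 := fun h => hz1 (by
    have := Subgroup.eq_bot_of_card_eq K h
    rwa [this, Subgroup.mem_bot] at hz)
  haveI := Fact.mk (Nat.minFac_prime hK1)
  obtain ⟨x, hx⟩ := exists_prime_orderOf_dvd_card' (G := K) _ (Nat.card K).minFac_dvd
  set p := (Nat.card K).minFac
  obtain ⟨P, hP⟩ := ((IsPGroup.of_card (n := 1)
    (by rw [Nat.card_zpowers, hx, pow_one]) : IsPGroup p (Subgroup.zpowers x)).map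
      K.subtype).exists_le_sylow
  have hxP : (x : G) ∈ (P : Subgroup G) := hP (Subgroup.mem_map_of_mem _ (Subgroup.mem_zpowers x))
  have h1 : (x : G) = 1 := Subgroup.mem_bot.1
    (CfsgLib.TransferBasic.inf_center_inf_commutator_eq_bot (h p Fact.out P) ▸
      (⟨⟨hxP, x.2.1⟩, x.2.2⟩ : (x : G) ∈ (P : Subgroup G) ⊓ commutator G ⊓ Subgroup.center G))
  rw [OneMemClass.coe_eq_one] at h1
  rw [h1, orderOf_one] at hx
  exact (Nat.Prime.one_lt (Fact.out : p.Prime)).ne hx


end Cfsg.Agent.S0089
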