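import Cfsg.Statements.S0090
import Cfsg.Agent.Transfer.HallFocal
import Cfsg.Agent.S0088

set_option autoImplicit false
set_option linter.deprecated false
set_option linter.style.haveILetI false
set_option linter.unusedVariables false
open Cfsg
open scoped Pointwise

namespace Cfsg.Agent.S0090

/-- An abelian normal Hall subgroup A splits as the internal direct product of G' ∩ A and Z(G) ∩ A, and [A, G] = G' ∩ A. -/
theorem result {G : Type*} [Group G] [Finite G] (A : Subgroup G) [A.Normal] (hc : IsMulCommutative A) (hHall : Nat.Coprime (Nat.card A) A.index) : ⁅A, (⊤ : Subgroup G)⁆ = commutator G ⊓ A ∧ (commutator G ⊓ A) ⊓ (Subgroup.center G ⊓ A) = ⊥ ∧ (commutator G ⊓ A) ⊔ (Subgroup.center G ⊓ A) = A := by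
  have hcopA : A.index.Coprime (Nat.card (A ⧸ A.focalSubgroupOf)) :=
    hHall.symm.coprime_dvd_right (by rw [← Subgroup.index_eq_card]; exact Subgroup.index_dvd_card _)
  obtain ⟨hfoc, -⟩ := CfsgLib.HallFocal.supplement_of_coprime A hcopA
  have h1 : ⁅A, (⊤ : Subgroup G)⁆ = A.focalSubgroup := by
    refine le_antisymm ?_ ?_
    · rw [Subgroup.commutator_le]
      intro a ha g _
      refine Subgroup.subset_closure ⟨?_, a, ha, g, rfl⟩
      rw [commutatorElement_def, mul_assoc, mul_assoc, ← mul_assoc g]
      exact A.mul_mem ha (Subgroup.Normal.conj_mem inferInstance _ (A.inv_mem ha) g)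
    · rw [Subgroup.focalSubgroup_def, Subgroup.closure_le]
      rintro z ⟨-, x, hx, u, rfl⟩
      exact Subgroup.commutator_mem_commutator hx (Subgroup.mem_top u)
  refine ⟨h1.trans hfoc, ?_, le_antisymm (sup_le inf_le_right inf_le_right) ?_⟩
  · rw [eq_bot_iff, ← Cfsg.Agent.S0088.result A hc hHall]
    exact le_inf (le_inf (inf_le_left.trans inf_le_right) (inf_le_left.trans inf_le_left))
      (inf_le_right.trans inf_le_left)
  obtain ⟨B, hB⟩ := Subgroup.exists_right_complement'_of_coprime hHall
  have hBN : B ≤ Subgroup.normalizer (A : Set G) := Subgroup.le_normalizer_of_normal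
  have hs : Group.IsSolvable A := by
    have := hc
    exact Group.IsSolvable.mk ⟨1, by
      rw [derivedSeries_one, commutator_eq_bot_iff_center_eq_top, eq_top_iff]
      exact fun x _ => Subgroup.mem_center_iff.2 fun y => hc.is_comm.comm y x⟩
  have hcop : (Nat.card B).Coprime (Nat.card A) := by
    rw [← hB.symm.index_eq_card]; exact hHall.symm
  refine (CfsgLib.CoprimeAct.commutator_sup_centralizer hBN hcop (Or.inr hs)).ge.trans (sup_le_sup ?_ ?_)
  · exact le_inf (Subgroup.commutator_mono le_top le_top) (Subgroup.le_normalizer_iff_commutator_le_left.1 hBN)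
  · refine le_inf (fun x hx => ?_) inf_le_left
    rw [Subgroup.mem_center_iff]
    intro g
    have hg : g ∈ A ⊔ B := hB.sup_eq_top ▸ Subgroup.mem_top g
    have hle : A ⊔ B ≤ Subgroup.centralizer {x} := by
      refine sup_le (fun a ha => Subgroup.mem_centralizer_singleton_iff.2 ?_)
        fun b hb => Subgroup.mem_centralizer_singleton_iff.2 (Subgroup.mem_centralizer_iff.1 hx.2 b hb)
      exact congrArg Subtype.val (hc.is_comm.comm (⟨a, ha⟩ : A) ⟨x, hx.1⟩)
    exact Subgroup.mem_centralizer_singleton_iff.1 (hle hg)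


end Cfsg.Agent.S0090
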