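import Cfsg.Statements.S0091
import Cfsg.Agent.Transfer.HallFocal

set_option autoImplicit false
set_option linter.deprecated false
set_option linter.style.haveILetI false
set_option linter.unusedVariables false
open Cfsg
open scoped Pointwise commutatorElement

namespace Cfsg.Agent.S0091

/-- If a nontrivial Sylow p-subgroup controls its own fusion then it is not contained in the derived subgroup. -/
theorem result {G : Type*} [Group G] [Finite G] {p : ℕ} [Fact p.Prime] (P : Sylow p G) (hp : p ∣ Nat.card G) (h : ∀ x ∈ P, ∀ y ∈ P, (∃ g : G, g * x * g⁻¹ = y) → ∃ z ∈ P, z * x * z⁻¹ = y) : ¬ (P : Subgroup G) ≤ commutator G := by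
  intro hle
  have h1 : (P : Subgroup G).focalSubgroup ≤ ⁅(P : Subgroup G), (P : Subgroup G)⁆ := by
    rw [Subgroup.focalSubgroup_def, Subgroup.closure_le]
    rintro w ⟨hw, x, hx, u, rfl⟩
    have hy := CfsgLib.TransferBasic.conj_mem_of_commutator_mem hx hw
    obtain ⟨z, hz, hzx⟩ := h x hx _ hy ⟨u, rfl⟩
    have e : ⁅x, u⁆ = ⁅x, z⁆ := by
      have := congrArg (fun t => x * t⁻¹) hzx
      simpa [commutatorElement_def, mul_assoc] using this.symm
    rw [SetLike.mem_coe, e]
    exact Subgroup.commutator_mem_commutator hx hz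
  rw [← Subgroup.commutator_inf_eq_focalSubgroup, inf_eq_right.2 hle] at h1
  have hne := P.ne_bot_of_dvd_card hp
  have : Nontrivial (P : Subgroup G) := (Subgroup.nontrivial_iff_ne_bot _).2 hne
  have hnil := P.2.isNilpotent
  have hlt := Group.IsSolvable.commutator_lt_top_of_nontrivial (G := (P : Subgroup G))
  rw [lt_top_iff_ne_top] at hlt
  refine hlt (Subgroup.map_injective (P : Subgroup G).subtype_injective (le_antisymm (Subgroup.map_mono le_top) ?_))
  rw [← MonoidHom.range_eq_map, Subgroup.range_subtype, Subgroup.map_subtype_commutator]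
  exact h1


end Cfsg.Agent.S0091
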