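import Cfsg.Statements.S0093
import Cfsg.Agent.Kinf.Critical

set_option autoImplicit false
open Cfsg

namespace Cfsg.Agent.S0093

/-- Every finite p-group has a critical subgroup: a characteristic subgroup H whose Frattini subgroup and whose commutator with the whole group lie in the centre of H, and whose centralizer is contained in H. -/
theorem result {P : Type*} [Group P] [Finite P] {p : ℕ} [Fact p.Prime] (hP : IsPGroup p P) : ∃ H : Subgroup P, H.Characteristic ∧ (frattini H).map H.subtype ≤ Subgroup.centralizer (H : Set P) ∧ ⁅H, (⊤ : Subgroup P)⁆ ≤ H ⊓ Subgroup.centralizer (H : Set P) ∧ Subgroup.centralizer (H : Set P) ≤ H := by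
  open Subgroup in
  obtain ⟨H, h1, h2, h3, h4⟩ := CfsgLib.Kinf.exists_critical hP
  refine ⟨H, h1, ?_, h3, h4⟩
  have hle : frattini H ≤ (Subgroup.centralizer (H : Set P)).subgroupOf H := by
    haveI : ((Subgroup.centralizer (H : Set P)).subgroupOf H).Normal := by
      refine ⟨fun a ha g => Subgroup.mem_subgroupOf.2 ?_⟩
      exact (inferInstance : (Subgroup.centralizer (H : Set P)).Normal).conj_mem _ ha _
    refine CfsgLib.PGroupBasic.frattini_le_of_elementary (p := p) _ ?_ fun x => h2 _ x.2
    rw [← Subgroup.map_le_map_iff_of_injective H.subtype_injective, map_subtype_commutator,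
      Subgroup.subgroupOf_map_subtype]
    exact le_inf ((Subgroup.commutator_mono le_rfl le_top).trans (h3.trans inf_le_right))
      (Subgroup.commutator_le_self H)
  refine (Subgroup.map_mono hle).trans ?_
  rw [Subgroup.subgroupOf_map_subtype]
  exact inf_le_left


end Cfsg.Agent.S0093
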