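import Cfsg.Statements.S0094
import Cfsg.Agent.Solvable.PGroupPower
import Cfsg.Agent.Solvable.PGroupBasic

set_option autoImplicit false
set_option linter.deprecated false
set_option linter.style.haveILetI false
set_option linter.unusedVariables false
open Cfsg
open scoped Pointwise

open scoped commutatorElement
namespace Cfsg.Agent.S0094

/-- In a special p-group every central element has order dividing p. -/
theorem result {P : Type*} [Group P] [Finite P] {p : ℕ} [Fact p.Prime] (h : Cfsg.IsSpecial p P) (z : P) (hz : z ∈ Subgroup.center P) : z ^ p = 1 := by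
  obtain ⟨hP, hΦ, hcz⟩ := h
  have hc : ∀ a b : P, ⁅a, b⁆ ∈ Subgroup.center P := fun a b =>
    hcz.le (Subgroup.commutator_mem_commutator (Subgroup.mem_top a) (Subgroup.mem_top b))
  have hgen : ∀ a b : P, ⁅a, b⁆ ^ p = 1 := fun a b => by
    have e1 : a * b = ⁅a, b⁆ * b * a := by simp [commutatorElement_def, mul_assoc]
    have e3 : a * ⁅a, b⁆ = 1 * ⁅a, b⁆ * a := by rw [one_mul, Subgroup.mem_center_iff.1 (hc a b) a]
    have h1 := CfsgLib.PGroupPower.pow_mul_eq (x := b) (y := a) e1 e3 (d := (1 : P))
      (fun g _ => Commute.one_left g) p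
    have h2 : Commute (a ^ p) b :=
      (Subgroup.mem_center_iff.1 (hΦ ▸ (CfsgLib.PGroupBasic.commutator_pow_le_frattini hP).2 a) b).symm
    rw [one_pow, one_mul, h2.eq, mul_assoc] at h1
    exact mul_eq_right.1 h1.symm
  rw [← hcz, commutator_eq_closure] at hz
  induction hz using Subgroup.closure_induction with
  | mem x hx => obtain ⟨a, b, rfl⟩ := hx; exact hgen a b
  | one => exact one_pow p
  | mul x y hx hy hx1 hy1 =>
    have hxz : x ∈ Subgroup.center P := hcz.le (commutator_eq_closure P ▸ hx)
    rw [Commute.mul_pow (Subgroup.mem_center_iff.1 hxz y).symm, hx1, hy1, one_mul]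
  | inv x _ hx => rw [inv_pow, hx, inv_one]


end Cfsg.Agent.S0094
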