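import Cfsg.Statements.S0097
import Cfsg.Agent.Solvable.PGroupPower
import Cfsg.Agent.Solvable.PGroupBasic

set_option autoImplicit false
set_option linter.deprecated false
set_option linter.style.haveILetI false
set_option linter.unusedVariables false
open Cfsg
open scoped Pointwise

namespace Cfsg.Agent.S0097

/-- For odd p and E extraspecial, the subgroup generated by the elements of order dividing p has exponent dividing p and index at most p. -/
theorem result {E : Type*} [Group E] [Finite E] {p : ℕ} [Fact p.Prime] (hp : p ≠ 2) (h : Cfsg.IsExtraspecial p E) : (Subgroup.closure {x : E | x ^ p = 1}).index ≤ p ∧ ∀ g ∈ Subgroup.closure {x : E | x ^ p = 1}, g ^ p = 1 := by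
  classical
  obtain ⟨⟨hE, hΦ, hcz⟩, hz⟩ := h
  have h2 : ⁅commutator E, (⊤ : Subgroup E)⁆ = ⊥ := by
    rw [Subgroup.commutator_eq_bot_iff_le_centralizer, Subgroup.coe_top, Subgroup.centralizer_univ]
    exact hcz.le
  refine ⟨?_, fun g hg => CfsgLib.PGroupPower.pow_eq_one_of_closure (Or.inl ⟨hp, h2⟩) hg⟩
  have hpz : ∀ c ∈ commutator E, c ^ p = 1 := fun c hc => by
    have := pow_card_eq_one' (x := (⟨c, hcz.le hc⟩ : Subgroup.center E))
    rw [hz] at this
    exact congrArg Subtype.val this
  let f : E →* Subgroup.center E :=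
    { toFun := fun x => ⟨x ^ p, hΦ ▸ (CfsgLib.PGroupBasic.commutator_pow_le_frattini hE).2 x⟩
      map_one' := Subtype.ext (one_pow p)
      map_mul' := fun x y => Subtype.ext (CfsgLib.PGroupPower.mul_pow_eq_of_pow (h := Or.inl ⟨hp, h2⟩)
        (hpz _ (Subgroup.commutator_mem_commutator (Subgroup.mem_top _) (Subgroup.mem_top _)))
        (hpz _ (Subgroup.commutator_mem_commutator (Subgroup.mem_top _) (Subgroup.mem_top _)))
        (hpz _ (Subgroup.commutator_mem_commutator (Subgroup.mem_top _) (Subgroup.mem_top _)))) }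
  refine le_trans (Nat.le_of_dvd ?_ (Subgroup.index_dvd_of_le (H := f.ker) fun x hx =>
    Subgroup.subset_closure (congrArg Subtype.val (MonoidHom.mem_ker.1 hx)))) ?_
  · exact Nat.pos_of_ne_zero Subgroup.index_ne_zero_of_finite
  · rw [Subgroup.index_ker, ← hz]
    exact Subgroup.card_le_card_group _


end Cfsg.Agent.S0097
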