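import Cfsg.Statements.S0098
import Cfsg.Agent.Solvable.ExtraspecialIso

set_option autoImplicit false
set_option linter.deprecated false
set_option linter.style.haveILetI false
set_option linter.unusedVariables false
open Cfsg
open scoped Pointwise

namespace Cfsg.Agent.S0098

/-- For odd p, extraspecial p-groups of exponent p are determined up to isomorphism by their order. -/
theorem result {E₁ : Type*} {E₂ : Type*} [Group E₁] [Group E₂] [Finite E₁] [Finite E₂] {p : ℕ} [Fact p.Prime] (hp : p ≠ 2) (h₁ : Cfsg.IsExtraspecial p E₁) (h₂ : Cfsg.IsExtraspecial p E₂) (he₁ : Monoid.exponent E₁ = p) (he₂ : Monoid.exponent E₂ = p) (hc : Nat.card E₁ = Nat.card E₂) : Nonempty (E₁ ≃* E₂) := by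
  obtain ⟨z1, hz1, hn1⟩ := CfsgLib.ExtraspecialIso.exists_gen h₁
  obtain ⟨z2, hz2, hn2⟩ := CfsgLib.ExtraspecialIso.exists_gen h₂
  exact CfsgLib.ExtraspecialIso.equiv_of_iso (CfsgLib.ExtraspecialIso.iso_of_exponent h₁ h₂ hp
    (fun x => by rw [← he₁]; exact Monoid.pow_exponent_eq_one x)
    (fun x => by rw [← he₂]; exact Monoid.pow_exponent_eq_one x)
    hz1 hz2 hn1 hn2 _ ⊤ ⊤ le_rfl (by rw [Subgroup.card_top, Subgroup.card_top, hc])
    CfsgLib.ExtraspecialIso.frame_top CfsgLib.ExtraspecialIso.frame_top)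


end Cfsg.Agent.S0098
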