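import Cfsg.Statements.S0101
import Cfsg.Agent.Solvable.PGroupBasic
import Mathlib.GroupTheory.Transfer
import Mathlib.GroupTheory.Abelianization.Defs

set_option autoImplicit false
set_option linter.deprecated false
set_option linter.style.haveILetI false
set_option linter.unusedVariables false
open Cfsg
open scoped Pointwise

namespace Cfsg.Agent.S0101

/-- In a perfect central extension, the kernel meets each Sylow p-subgroup P inside the Frattini subgroup of P. -/
theorem result {H : Type*} {G : Type*} [Group H] [Group G] [Finite H] (σ : H →* G) (hσ : Function.Surjective σ) (hc : σ.ker ≤ Subgroup.center H) (hH : commutator H = ⊤) {p : ℕ} [Fact p.Prime] (P : Sylow p H) : σ.ker ⊓ (P : Subgroup H) ≤ (frattini P).map (P : Subgroup H).subtype := by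
  rintro z ⟨hzk, hzP⟩
  by_contra hz
  have hzc : z ∈ Subgroup.center H := hc hzk
  have hzF : (⟨z, hzP⟩ : (P : Subgroup H)) ∉ frattini P := fun h => hz ⟨_, h, rfl⟩
  rw [frattini, Order.radical] at hzF
  simp only [Subgroup.mem_iInf, not_forall] at hzF
  obtain ⟨M, hM, hzM⟩ := hzF
  obtain ⟨hMn, hMi⟩ := CfsgLib.PGroupBasic.coatom_normal_index P.2 hM
  have hcy : IsCyclic ((P : Subgroup H) ⧸ M) :=
    isCyclic_of_prime_card (p := p) (by rw [← Subgroup.index_eq_card]; exact hMi)
  letI : CommGroup ((P : Subgroup H) ⧸ M) := IsCyclic.commGroup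
  let φ : (P : Subgroup H) →* (P : Subgroup H) ⧸ M := QuotientGroup.mk' M
  have hker : z ∈ (MonoidHom.transfer φ).ker :=
    Abelianization.commutator_subset_ker _ (hH ▸ Subgroup.mem_top z)
  have key : ∀ (k : ℕ) (g₀ : H), g₀⁻¹ * z ^ k * g₀ ∈ (P : Subgroup H) → g₀⁻¹ * z ^ k * g₀ = z ^ k :=
    fun k g₀ _ => by
      rw [mul_assoc, ← Subgroup.mem_center_iff.1 (Subgroup.pow_mem _ hzc k) g₀, inv_mul_cancel_left]
  rw [MonoidHom.mem_ker, MonoidHom.transfer_eq_pow φ z key] at hker
  have h1 : (⟨z, hzP⟩ : (P : Subgroup H)) ^ (P : Subgroup H).index ∈ M :=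
    (QuotientGroup.eq_one_iff _).1 hker
  have h3 : (p : ℕ).Coprime (P : Subgroup H).index :=
    (Fact.out : p.Prime).coprime_iff_not_dvd.2 P.not_dvd_index
  have h4 : ((⟨z, hzP⟩ : (P : Subgroup H)) : (P : Subgroup H) ⧸ M) = 1 := by
    rw [← orderOf_eq_one_iff]
    refine Nat.eq_one_of_dvd_coprimes h3 ?_ ?_
    · have h5 := orderOf_dvd_natCard ((⟨z, hzP⟩ : (P : Subgroup H)) : (P : Subgroup H) ⧸ M)
      rw [← Subgroup.index_eq_card] at h5
      exact h5.trans hMi.dvd
    · rw [orderOf_dvd_iff_pow_eq_one, ← QuotientGroup.mk_pow, QuotientGroup.eq_one_iff]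
      exact h1
  exact hzM ((QuotientGroup.eq_one_iff _).1 h4)


end Cfsg.Agent.S0101
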