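import Cfsg.Statements.S0104
import Cfsg.Agent.Transfer.Basic

set_option autoImplicit false
set_option linter.deprecated false
set_option linter.style.haveILetI false
set_option linter.unusedVariables false
open Cfsg
open scoped Pointwise

namespace Cfsg.Agent.S0104

/-- A subgroup Z of a Sylow p-subgroup P that is normalized by N_G(P) is weakly closed in P exactly when it is normal in every Sylow p-subgroup containing it. -/
theorem result {G : Type*} [Group G] [Finite G] {p : ℕ} [Fact p.Prime] (P : Sylow p G) (Z : Subgroup G) (hZP : Z ≤ (P : Subgroup G)) (hZN : Subgroup.normalizer (P : Set G) ≤ Subgroup.normalizer (Z : Set G)) : Cfsg.IsWeaklyClosed Z P ↔ ∀ R : Sylow p G, Z ≤ (R : Subgroup G) → (R : Subgroup G) ≤ Subgroup.normalizer (Z : Set G) := by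
  constructor
  · intro hW R hR
    obtain ⟨h, hh⟩ := MulAction.exists_smul_eq G R P
    have e : MulAut.conj h • (R : Subgroup G) = P := congr_arg (fun S : Sylow p G => (S : Subgroup G)) hh
    have hZ : h ∈ Subgroup.normalizer (Z : Set G) :=
      CfsgLib.SZ.conj_smul_eq_iff_mem_normalizer.1
        (hW.2 h ((Subgroup.pointwise_smul_le_pointwise_smul_iff.2 hR).trans_eq e))
    intro r hr
    have h1 : h * r * h⁻¹ ∈ Subgroup.normalizer (Z : Set G) :=
      hZN (Subgroup.le_normalizer (e.le ((CfsgLib.SZ.mem_conj_smul).2 (by simpa [mul_assoc] using hr))))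
    have := mul_mem (mul_mem (inv_mem hZ) h1) hZ
    simpa [mul_assoc] using this
  · intro h
    refine ⟨hZP, fun g hg => ?_⟩
    rw [← CfsgLib.SZ.conj_smul_eq_map] at hg ⊢
    set R := MulAut.conj g⁻¹ • (P : Subgroup G)
    have hZR : Z ≤ R := by
      rw [← CfsgLib.SZ.conj_smul_inv_smul g Z]
      exact Subgroup.pointwise_smul_le_pointwise_smul_iff.2 hg
    have hRN : R ≤ Subgroup.normalizer (Z : Set G) := h (g⁻¹ • P : Sylow p G) hZR
    obtain ⟨n, hn, hle⟩ := CfsgLib.Fusion.exists_conj_le_of_sylow_relIndex (T := (P : Subgroup G))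
      (Subgroup.le_normalizer.trans hZN) P.2
      (fun hd => P.not_dvd_index (hd.trans (Subgroup.relIndex_dvd_index_of_le
        (Subgroup.le_normalizer.trans hZN)))) (P.2.map _) hRN
    have hn' : n * g⁻¹ ∈ Subgroup.normalizer (Z : Set G) := by
      refine hZN (CfsgLib.SZ.conj_smul_eq_iff_mem_normalizer.1 ?_)
      rw [CfsgLib.SZ.conj_smul_mul]
      exact CfsgLib.Solvable.eq_of_le_of_card_le hle
        (by rw [CfsgLib.SZ.card_conj_smul, CfsgLib.SZ.card_conj_smul])
    apply CfsgLib.SZ.conj_smul_eq_iff_mem_normalizer.2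
    have := mul_mem (inv_mem hn') hn
    simpa [mul_assoc] using this


end Cfsg.Agent.S0104
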