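import Cfsg.Statements.S0105
import Cfsg.Agent.Transfer.HallFocal

set_option autoImplicit false
set_option linter.deprecated false
set_option linter.style.haveILetI false
set_option linter.unusedVariables false
open Cfsg
open scoped Pointwise

namespace Cfsg.Agent.S0105

/-- With an abelian Sylow p-subgroup P, some quotient of G is isomorphic to the part of P central in N_G(P). -/
theorem result {G : Type*} [Group G] [Finite G] {p : ℕ} [Fact p.Prime] (P : Sylow p G) (hP : IsMulCommutative P) : ∃ (N : Subgroup G) (hN : N.Normal), Nonempty (G ⧸ N ≃* ((P : Subgroup G) ⊓ Subgroup.centralizer (Subgroup.normalizer (P : Set G) : Set G) : Subgroup G)) := by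
  obtain ⟨N, hN, hinf, hsup, -⟩ := CfsgLib.Fusion.exists_focal_supplement P
  obtain ⟨hd, hs⟩ := CfsgLib.TransferBasic.focal_disjoint_sup hP
  set C := (P : Subgroup G) ⊓ Subgroup.centralizer (Subgroup.normalizer (P : Set G) : Set G) with hC
  refine ⟨N, hN, ⟨(MulEquiv.ofBijective ((QuotientGroup.mk' N).comp C.subtype) ⟨?_, ?_⟩).symm⟩⟩
  · rw [← MonoidHom.ker_eq_bot_iff, eq_bot_iff]
    intro x hx
    rw [MonoidHom.mem_ker, MonoidHom.comp_apply] at hx
    have hxN : (x : G) ∈ N := (QuotientGroup.eq_one_iff _).1 hx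
    have hxF : (x : G) ∈ (P : Subgroup G).focalSubgroup := hinf ▸ ⟨hxN, x.2.1⟩
    have h1 : (x : G) ∈ C ⊓ (P : Subgroup G).focalSubgroup := ⟨x.2, hxF⟩
    have h2 : (x : G) ∈ (⊥ : Subgroup G) := hd.le h1
    rw [Subgroup.mem_bot] at h2
    exact Subtype.ext h2
  · rw [← MonoidHom.range_eq_top, MonoidHom.range_comp, Subgroup.range_subtype, eq_top_iff,
      ← Subgroup.map_top_of_surjective _ (QuotientGroup.mk'_surjective N), ← hsup, ← hs,
      Subgroup.map_sup, Subgroup.map_sup]
    have hNb : N.map (QuotientGroup.mk' N) = ⊥ :=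
      (Subgroup.map_eq_bot_iff _).2 (QuotientGroup.ker_mk' N).ge
    have hFb : (P : Subgroup G).focalSubgroup.map (QuotientGroup.mk' N) = ⊥ := by
      rw [eq_bot_iff, ← hNb]; exact Subgroup.map_mono (hinf ▸ inf_le_left)
    rw [hNb, hFb, bot_sup_eq, sup_bot_eq]
    exact le_rfl


end Cfsg.Agent.S0105
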