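import Cfsg.Statements.S0109
import Cfsg.Agent.ZJ.Faithful
import Cfsg.Agent.PLocal.Core
import Cfsg.Agent.S0606
import Cfsg.Agent.S0599
import Cfsg.Agent.Solvable.Fitting

set_option autoImplicit false
set_option linter.deprecated false
set_option linter.style.haveILetI false
set_option linter.unusedVariables false
open Cfsg
open scoped Pointwise

namespace Cfsg.Agent.S0109

/-- The Thompson factorization Theorem for solvable groups states that, with p odd (and abelian Sylow 2-subgroups when p = 3) and no nontrivial normal subgroup of order prime to p, every element of G is a product of an element normalizing J(P) and an element centralizing the elements of order dividing p in the centre of P. -/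
theorem result {G : Type*} [Group G] [Finite G] {p : ℕ} [Fact p.Prime] (hp : p ≠ 2) (hs : Group.IsSolvable G) (h3 : p = 3 → ∀ T : Sylow 2 G, IsMulCommutative T) (hF : ∀ N : Subgroup G, N.Normal → Nat.Coprime (Nat.card N) p → N = ⊥) (P : Sylow p G) (g : G) : ∃ a ∈ Subgroup.normalizer (Cfsg.thompsonSubgroupOf p (P : Subgroup G) : Set G), ∃ c ∈ Subgroup.centralizer {x : G | x ∈ (P : Subgroup G) ∧ (∀ y ∈ (P : Subgroup G), x * y = y * x) ∧ x ^ p = 1}, g = a * c := by
  have hO : Cfsg.pPrimeCore p G = ⊥ :=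
    hF _ (CfsgLib.Solvable.pPrimeCore_normal p) (CfsgLib.Solvable.coprime_card_pPrimeCore p)
  haveI := hs
  have hV := CfsgLib.PLocalCore.zGen_elab_of_charP (G := G) (p := p) (CfsgLib.Fitting.centralizer_pCore_le hO)
  set V := CfsgLib.PLocalCore.zGen p G with hVdef
  have hgen : V = ⨆ S : Sylow p G, V ⊓ Subgroup.centralizer ((S : Subgroup G) : Set G) := by
    refine le_antisymm (iSup_le fun S => le_iSup_of_le S (le_inf
      (le_iSup (fun S : Sylow p G => CfsgLib.PLocalCore.zSylow p (S : Subgroup G)) S)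
      (Subgroup.le_centralizer_iff.mp (CfsgLib.PLocalCore.le_centralizer_zSylow (S : Subgroup G))))) (iSup_le fun S => inf_le_left)
  have hcore := CfsgLib.PLocalCore.pCore_quotient_eq_bot_of_fixed V hgen
  have hJ : Cfsg.thompsonSubgroup p G ≤ Subgroup.centralizer (V : Set G) := by
    refine sSup_le fun A hA => ?_
    by_contra hAC
    obtain ⟨-, -, h3'⟩ := Cfsg.Agent.S0599.result V A hV (Subgroup.le_normalizer_of_normal (H := V))
      (Cfsg.Agent.S0606.result V hV A hA) V le_rfl
    have hB := h3' (fun h => hAC (Subgroup.le_centralizer_iff.mp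
      (Subgroup.commutator_eq_bot_iff_le_centralizer.mp h)))
    obtain ⟨a, ha, haV⟩ : ∃ a ∈ A ⊓ Subgroup.centralizer ((⁅V, A⁆ : Subgroup G) : Set G),
        a ∉ Subgroup.centralizer (V : Set G) := by
      by_contra h
      push Not at h
      exact hB (Subgroup.commutator_eq_bot_iff_le_centralizer.mpr (Subgroup.le_centralizer_iff.mp h))
    have hq : ⁅⁅V, Subgroup.zpowers a⁆, Subgroup.zpowers a⁆ = ⊥ := by
      refine le_bot_iff.mp ((Subgroup.commutator_mono (Subgroup.commutator_mono le_rfl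
        (Subgroup.zpowers_le.mpr ha.1)) le_rfl).trans (le_of_eq ?_))
      exact Subgroup.commutator_eq_bot_iff_le_centralizer.mpr
        (Subgroup.le_centralizer_iff.mp (Subgroup.zpowers_le.mpr ha.2))
    have hn : ¬ CfsgLib.ZJ.PCoreMod p ((Subgroup.centralizer (V : Set G)).subgroupOf ⊤)
        (⟨a, Subgroup.mem_top a⟩ : (⊤ : Subgroup G)) := by
      rintro ⟨D, hD, haD, hDp⟩
      haveI := hD
      set q := (QuotientGroup.mk' (Subgroup.centralizer (V : Set G))).comp (⊤ : Subgroup G).subtype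
      have hq' : Function.Surjective q := (QuotientGroup.mk'_surjective _).comp fun x => ⟨⟨x, Subgroup.mem_top x⟩, rfl⟩
      haveI : (D.map q).Normal := Subgroup.Normal.map hD q hq'
      have hle : D.map q ≤ Cfsg.pCore p (G ⧸ Subgroup.centralizer (V : Set G)) :=
        CfsgLib.Solvable.le_pCore p inferInstance (by
          rintro ⟨_, x, hx, rfl⟩
          obtain ⟨k, hk⟩ := hDp x hx
          exact ⟨k, Subtype.ext (((map_pow q x (p ^ k)).symm).trans ((QuotientGroup.eq_one_iff _).mpr hk))⟩)
      rw [hcore, le_bot_iff, Subgroup.map_eq_bot_iff] at hle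
      exact haV ((QuotientGroup.eq_one_iff _).mp (hle haD))
    obtain ⟨K0, -, ⟨f, hf⟩, -⟩ := CfsgLib.ZJ.sections_of_quadratic hp hV ⊤
      (Subgroup.le_normalizer_of_normal (H := V)) ⟨a, Subgroup.mem_top a⟩ hq hn
    by_cases hp3 : p = 3
    · obtain ⟨T⟩ := (inferInstance : Nonempty (Sylow 2 G))
      exact CfsgLib.ZJ.sylow_two_noncomm hp K0 f hf T (h3 hp3 T)
    · haveI : Group.IsSolvable K0 := inferInstance
      haveI : Group.IsSolvable (CfsgLib.ZJ.SL2 (ZMod p)) := Group.isSolvable_of_surjective hf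
      haveI : Nontrivial (CfsgLib.ZJ.SL2 (ZMod p)) := by
        obtain ⟨Q, -, u, hu, w, hw, huw⟩ := CfsgLib.ZJ.exists_two_group_noncomm (p := p) hp
        exact ⟨⟨u * w, w * u, huw⟩⟩
      exact (Group.IsSolvable.commutator_lt_top_of_nontrivial (CfsgLib.ZJ.SL2 (ZMod p))).ne
        (CfsgLib.ZJ.sl2_commutator_top hp hp3)
  obtain ⟨x, hx, c, hc, n, hn, hg⟩ :=
    (CfsgLib.PLocalCore.isThompsonFactorizable_iff_le_centralizer hO).mpr hJ P g⁻¹
  rw [hO, Subgroup.mem_bot] at hx
  rw [hx, one_mul] at hg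
  refine ⟨n⁻¹, inv_mem hn, c⁻¹, ?_, by rw [← mul_inv_rev, ← hg, inv_inv]⟩
  rw [Subgroup.mem_centralizer_iff]
  rintro y ⟨hy1, hy2, hy3⟩
  exact Subgroup.mem_centralizer_iff.mp (inv_mem hc) y (Subgroup.subset_closure
    ⟨⟨hy1, Subgroup.mem_centralizer_iff.mpr fun z hz => (hy2 z hz).symm⟩, hy3⟩)


end Cfsg.Agent.S0109
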