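import Cfsg.Statements.S0118
import Cfsg.Agent.ZJ.FullCenter

set_option autoImplicit false
open Cfsg

namespace Cfsg.Agent.S0118

/-- Glauberman's ZJ-Theorem, in the case of groups with no section isomorphic to SL(2,p), p odd: conjugation of subsets of a Sylow p-subgroup P inside P is always induced from the normalizer of Z(J(P)). -/
theorem result {G : Type*} [Group G] [Finite G] {p : ℕ} [Fact p.Prime] (hp : p ≠ 2) (hfree : ¬ ∃ (H K : Subgroup G) (hK : (K.subgroupOf H).Normal), Nonempty ((H ⧸ K.subgroupOf H) ≃* Matrix.SpecialLinearGroup (Fin 2) (ZMod p))) (P : Sylow p G) (A : Set G) (hA : A ⊆ (P : Set G)) (g : G) (hAg : (fun a => g⁻¹ * a * g) '' A ⊆ (P : Set G)) : ∃ n ∈ Subgroup.normalizer (Cfsg.centerThompsonOf p (P : Subgroup G) : Set G), ∀ a ∈ A, n⁻¹ * a * n = g⁻¹ * a * g := by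
  have hqd : ¬ Cfsg.Involves ↥(Cfsg.qd p) G := by
    intro hq
    obtain ⟨M, f, hf⟩ := CfsgLib.ZJ.exists_surjective_of_involves (CfsgLib.ZJ.involves_sl2_of_qd hq)
    obtain ⟨R, hR, he⟩ := CfsgLib.ZJ.exists_section_of_surjective M f hf
    exact hfree ⟨M, R, hR, he⟩
  obtain ⟨-, hc⟩ := CfsgLib.ZJ.controlsStrongFusionOf_of_fused (S := (P : Subgroup G))
    (fun B x hB hx => CfsgLib.ZJ.control_of_free hp (CfsgLib.ZJ.zkind_centerThompsonOf hp) G hqd P _
      (CfsgLib.ZJ.stronglyClosed_self P) B x hB hx) A hA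
  obtain ⟨n, hn, hne⟩ := hc g⁻¹ (by
    rintro _ ⟨a, ha, rfl⟩
    simpa using hAg ⟨a, ha, rfl⟩)
  refine ⟨n⁻¹, inv_mem hn, fun a ha => ?_⟩
  simpa using (hne a ha).symm

end Cfsg.Agent.S0118
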