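import Cfsg.Statements.S0121
import Cfsg.Agent.Kinf.Critical

set_option autoImplicit false
open Cfsg

namespace Cfsg.Agent.S0121

/-- A p'-automorphism of a p-group acting trivially on a critical subgroup is trivial. -/
theorem result {G : Type*} [Group G] [Finite G] {p : ℕ} [Fact p.Prime] (hG : IsPGroup p G) (H : Subgroup G) (hH : H.Characteristic) (h1 : (frattini H).map H.subtype ≤ Subgroup.centralizer (H : Set G)) (h2 : ⁅H, (⊤ : Subgroup G)⁆ ≤ H ⊓ Subgroup.centralizer (H : Set G)) (h3 : Subgroup.centralizer (H : Set G) ≤ H) (a : MulAut G) (ha : Nat.Coprime (orderOf a) p) (h : ∀ x ∈ H, a x = x) : a = 1 := by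
  open Subgroup in
  let e : MulAut G ≃* MulAut (⊤ : Subgroup G) := MulAut.congr Subgroup.topEquiv.symm
  have hz : (⊤ : Subgroup G) ⊓ Subgroup.centralizer (H : Set G) = H ⊓ Subgroup.centralizer (H : Set G) := by
    rw [top_inf_eq, inf_eq_right.2 h3]
  have h := CfsgLib.Kinf.aut_eq_one_of_critical (T := (⊤ : Subgroup G)) (A := H) (p := p)
    (hG.to_subgroup ⊤) le_top (by rw [Subgroup.commutator_comm]; exact h2) hz (e a)
    (by rw [MulEquiv.orderOf_eq]; exact ha) (fun x hx => Subtype.ext (h (x : G) hx))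
  exact e.injective (h.trans e.map_one.symm)


end Cfsg.Agent.S0121
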