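import Cfsg.Statements.S0131
import Cfsg.Agent.Transfer.Basic

set_option autoImplicit false
set_option linter.deprecated false
set_option linter.style.haveILetI false
set_option linter.unusedVariables false
open Cfsg
open scoped Pointwise

namespace Cfsg.Agent.S0131

/-- P/P' has a normal complement in G exactly when the focal subgroup G' ∩ P is as small as possible, namely P'. -/
theorem result {G : Type*} [Group G] [Finite G] {p : ℕ} [Fact p.Prime] (P : Sylow p G) : (∃ N : Subgroup G, N.Normal ∧ N ⊓ (P : Subgroup G) = ⁅(P : Subgroup G), (P : Subgroup G)⁆ ∧ N ⊔ (P : Subgroup G) = ⊤) ↔ commutator G ⊓ (P : Subgroup G) = ⁅(P : Subgroup G), (P : Subgroup G)⁆ := by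
  rw [Subgroup.commutator_inf_eq_focalSubgroup]
  constructor
  · rintro ⟨N, hN, hNP, hsup⟩
    refine le_antisymm ?_ (Subgroup.commutator_le_focalSubgroup _)
    rw [← Subgroup.commutator_inf_eq_focalSubgroup, ← hNP]
    refine inf_le_inf_right _ ?_
    refine Subgroup.Normal.quotient_commutative_iff_commutator_le.1 ⟨⟨fun a b => ?_⟩⟩
    have hsurj : ∀ q : G ⧸ N, ∃ x ∈ P, QuotientGroup.mk' N x = q := by
      intro q
      obtain ⟨g, rfl⟩ := QuotientGroup.mk'_surjective N q
      have : g ∈ (P : Subgroup G) ⊔ N := by rw [sup_comm, hsup]; trivial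
      rw [← SetLike.mem_coe, Subgroup.mul_normal] at this
      obtain ⟨x, hx, n, hn, rfl⟩ := this
      exact ⟨x, hx, by simp [QuotientGroup.mk_mul, (QuotientGroup.eq_one_iff n).2 hn]⟩
    obtain ⟨x, hx, rfl⟩ := hsurj a
    obtain ⟨y, hy, rfl⟩ := hsurj b
    rw [← commutatorElement_eq_one_iff_mul_comm, ← map_commutatorElement]
    · exact (QuotientGroup.eq_one_iff _).2
        (hNP.ge (Subgroup.commutator_mem_commutator hx hy)).1
  · intro h
    obtain ⟨N, hN, hNP, hsup, -⟩ := CfsgLib.Fusion.exists_focal_supplement P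
    exact ⟨N, hN, hNP.trans h, hsup⟩


end Cfsg.Agent.S0131
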