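-- Proof of statement S0158.
import Cfsg.Statements.S0158
import Cfsg.Agent.Char.FrobeniusSchur

set_option autoImplicit false
open Cfsg

namespace Cfsg.Agent.S0158

/-- The Frobenius–Schur indicator of an irreducible complex representation of a finite group — the average over s of the character at s * s — is 0, 1 or −1, and it vanishes exactly when some character value is not real. -/
theorem result {G : Type*} [Group G] [Fintype G] {V : Type*} [AddCommGroup V] [Module ℂ V] [FiniteDimensional ℂ V] (ρ : Representation ℂ G V) [ρ.IsIrreducible] : ((Nat.card G : ℂ)⁻¹ * ∑ s : G, ρ.character (s * s) = 0 ∨ (Nat.card G : ℂ)⁻¹ * ∑ s : G, ρ.character (s * s) = 1 ∨ (Nat.card G : ℂ)⁻¹ * ∑ s : G, ρ.character (s * s) = -1) ∧ ((Nat.card G : ℂ)⁻¹ * ∑ s : G, ρ.character (s * s) = 0 ↔ ∃ s : G, (ρ.character s).im ≠ 0) := by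
  rcases CfsgLib.Char.IsIrrCharacter.fs_indicator (CfsgLib.Char.isIrrCharacter_character ρ) with
    ⟨h1, h2⟩ | ⟨h1, h2⟩
  · exact ⟨Or.inl h2, iff_of_true h2 h1⟩
  · rcases h2 with h2 | ⟨h2, -⟩
    · exact ⟨Or.inr (Or.inl h2), iff_of_false (by rw [h2]; norm_num) (by simp [h1])⟩
    · exact ⟨Or.inr (Or.inr h2), iff_of_false (by rw [h2]; norm_num) (by simp [h1])⟩

end Cfsg.Agent.S0158
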