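-- Proof of statement S0162.
import Cfsg.Statements.S0162
import Cfsg.Agent.Char.BrauerPerm
import Cfsg.Agent.Char.Central

set_option autoImplicit false
open Cfsg

namespace Cfsg.Agent.S0162

/-- If a finite group has odd order, its order is congruent to its number of conjugacy classes modulo 16. -/
theorem result {G : Type*} [Group G] [Finite G] (hodd : Odd (Nat.card G)) : Nat.card G ≡ Nat.card (ConjClasses G) [MOD 16] := by
  classical
  haveI := Fintype.ofFinite G
  obtain ⟨d, hd⟩ : ∃ d : (G → ℂ) → ℕ, ∀ χ ∈ CfsgLib.Char.irrFinset G, χ 1 = d χ :=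
    ⟨fun χ => ⌊(χ 1).re⌋₊, fun χ hχ => by
      obtain ⟨n, -, hn⟩ := CfsgLib.Char.IsIrrCharacter.exists_degree (CfsgLib.Char.mem_irrFinset.1 hχ)
      simp [hn]⟩
  have hsum : ∑ χ ∈ CfsgLib.Char.irrFinset G, d χ ^ 2 = Nat.card G := by
    have h := CfsgLib.Char.sum_degree_sq (G := G)
    rw [Finset.sum_congr rfl fun χ hχ => show χ 1 ^ 2 = ((d χ ^ 2 : ℕ) : ℂ) by
      rw [hd χ hχ]; push_cast; rfl, ← Nat.cast_sum] at h
    exact_mod_cast h
  have hone : (fun _ : G => (1 : ℂ)) ∈ CfsgLib.Char.irrFinset G :=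
    CfsgLib.Char.mem_irrFinset.2 CfsgLib.Char.isIrrCharacter_one
  obtain ⟨S, hS⟩ : ∃ S, S = (CfsgLib.Char.irrFinset G).erase (fun _ => 1) := ⟨_, rfl⟩
  have hd1 : d (fun _ => 1) = 1 := by
    have := hd _ hone
    exact_mod_cast this.symm
  have key : ∑ χ ∈ S, (((d χ : ℕ) : ZMod 16) ^ 2 - 1) = 0 := by
    refine Finset.sum_involution (fun χ _ => fun g => (starRingEnd ℂ) (χ g)) (fun χ hχ => ?_)
      (fun χ hχ _ => ?_) (fun χ hχ => ?_) (fun χ _ => funext fun g => Complex.conj_conj _)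
    all_goals
      rw [hS, Finset.mem_erase, CfsgLib.Char.mem_irrFinset] at hχ
    · have hconj := CfsgLib.Char.mem_irrFinset.2 (CfsgLib.Char.IsIrrCharacter.conj hχ.2)
      have e1 := hd _ hconj
      simp only [hd χ (CfsgLib.Char.mem_irrFinset.2 hχ.2), Complex.conj_natCast, Nat.cast_inj] at e1
      rw [← e1]
      have hodd' : Odd (d χ) := hodd.of_dvd_nat
        (CfsgLib.Char.IsIrrCharacter.degree_dvd_card hχ.2 (hd χ (CfsgLib.Char.mem_irrFinset.2 hχ.2)))
      obtain ⟨t, ht⟩ := hodd'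
      obtain ⟨u, hu⟩ := Nat.even_mul_succ_self t
      have h8 : d χ ^ 2 = 8 * u + 1 := by
        rw [ht]
        nlinarith
      rw [← Nat.cast_pow, h8]
      push_cast
      rw [add_sub_cancel_right, ← two_mul, ← mul_assoc, show (2 : ZMod 16) * 8 = 0 by decide, zero_mul]
    · intro h
      refine hχ.1 (CfsgLib.Char.eq_one_of_real_of_odd hodd hχ.2 fun g => ?_)
      exact Complex.conj_eq_iff_im.1 (congrFun h g)
    · rw [hS, Finset.mem_erase, CfsgLib.Char.mem_irrFinset]
      refine ⟨fun h => hχ.1 (funext fun g => ?_), CfsgLib.Char.IsIrrCharacter.conj hχ.2⟩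
      have := congrArg (starRingEnd ℂ) (congrFun h g)
      simpa using this
  refine (ZMod.natCast_eq_natCast_iff _ _ 16).1 ?_
  rw [← CfsgLib.Char.card_irr_eq_card_conjClasses, CfsgLib.Char.card_irr, ← hsum,
    ← Finset.add_sum_erase _ _ hone, ← Finset.card_erase_add_one hone, ← hS, hd1]
  rw [Finset.sum_sub_distrib, sub_eq_zero, Finset.sum_const, nsmul_eq_mul, mul_one] at key
  push_cast
  rw [key]
  ring

end Cfsg.Agent.S0162
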