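-- Proof of statement S0165.
import Cfsg.Statements.S0165
import Cfsg.Agent.Blocks.DefectZeroVanish
import Cfsg.Agent.Char.Equivalence

set_option autoImplicit false
open Cfsg

namespace Cfsg.Agent.S0165

/-- If p ^ n is the exact power of the prime p dividing the order of a finite group and p ^ n divides the degree of an irreducible complex representation, then its character vanishes at every element of order divisible by p. -/
theorem result {G : Type*} [Group G] [Finite G] {V : Type*} [AddCommGroup V] [Module ℂ V] [FiniteDimensional ℂ V] (ρ : Representation ℂ G V) [ρ.IsIrreducible] (p n : ℕ) (hp : p.Prime) (hn : p ^ n ∣ Nat.card G) (hn' : ¬ p ^ (n + 1) ∣ Nat.card G) (hdeg : p ^ n ∣ Module.finrank ℂ V) (x : G) (hx : p ∣ orderOf x) : ρ.character x = 0 := by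
  haveI := Fintype.ofFinite G
  have hχ := CfsgLib.Char.isIrrCharacter_character ρ
  refine CfsgLib.Block.eq_zero_of_defectZero hp ⟨_, hχ⟩ ?_ hx
  have hfac : (Nat.card G).factorization p = n := by
    have h1 := (hp.pow_dvd_iff_le_factorization Nat.card_pos.ne').1 hn
    have h2 : ¬ n + 1 ≤ (Nat.card G).factorization p := fun h =>
      hn' ((hp.pow_dvd_iff_le_factorization Nat.card_pos.ne').2 h)
    omega
  rw [hfac, Cfsg.charDegree]
  simp only [ρ.char_one, Complex.natCast_re, Nat.floor_natCast]
  exact hdeg

end Cfsg.Agent.S0165
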