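-- Proof of statement S0166.
import Cfsg.Statements.S0166
import Cfsg.Agent.Char.Realizable

set_option autoImplicit false
open Cfsg

namespace Cfsg.Agent.S0166

/-- Brauer's splitting field Theorem: a complex representation of a finite group of exponent m is equivalent to a representation by matrices with entries in ℚ adjoined exp(2πi/m). -/
theorem result {G : Type*} [Group G] [Finite G] (n : ℕ) (ρ : Representation ℂ G (Fin n → ℂ)) : ∃ σ : Representation ℂ G (Fin n → ℂ), Nonempty (ρ.Equiv σ) ∧ ∀ g : G, ∀ i j : Fin n, LinearMap.toMatrix' (σ g) i j ∈ Algebra.adjoin ℚ ({Complex.exp (2 * Real.pi * Complex.I / (Monoid.exponent G : ℂ))} : Set ℂ) := by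
  classical
  haveI := Fintype.ofFinite G
  set m := Monoid.exponent G with hm
  set z := Complex.exp (2 * Real.pi * Complex.I / (m : ℂ)) with hz
  have hm0 : m ≠ 0 := Monoid.exponent_ne_zero_of_finite
  have hprim : IsPrimitiveRoot z m := Complex.isPrimitiveRoot_exp m hm0
  let F : IntermediateField ℚ ℂ := IntermediateField.adjoin ℚ {z}
  have hsub : F.toSubalgebra = Algebra.adjoin ℚ {z} :=
    IntermediateField.adjoin_simple_toSubalgebra_of_isAlgebraic
      ((hprim.isIntegral (Nat.pos_of_ne_zero hm0)).tower_top.isAlgebraic)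
  have hF : ∀ w : ℂ, w ^ m = 1 → w ∈ F := fun w hw => by
    haveI : NeZero m := ⟨hm0⟩
    obtain ⟨i, -, rfl⟩ := hprim.eq_pow_of_pow_eq_one hw
    exact pow_mem (IntermediateField.mem_adjoin_simple_self ℚ z) i
  obtain ⟨k, α, hα⟩ := CfsgLib.Char.realizable_of_isCharacter F hF ⟨n, ρ, rfl⟩
  have hk : k = n := by
    have h1 := congrFun hα 1
    simp [CfsgLib.Char.subChar] at h1
    exact_mod_cast h1
  subst hk
  let φ : Matrix (Fin k) (Fin k) F →+* Matrix (Fin k) (Fin k) ℂ := (algebraMap F ℂ).mapMatrix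
  let M : G →* Matrix (Fin k) (Fin k) ℂ :=
    φ.toMonoidHom.comp (((LinearMap.toMatrixAlgEquiv' (R := F) (n := Fin k))).toRingEquiv.toMonoidHom.comp α)
  let σ : Representation ℂ G (Fin k → ℂ) :=
    (Matrix.toLinAlgEquiv' (R := ℂ) (n := Fin k)).toRingEquiv.toMonoidHom.comp M
  have hσ : ∀ g, LinearMap.toMatrix' (σ g) = M g := fun g => LinearMap.toMatrix'_toLin' (M g)
  refine ⟨σ, CfsgLib.Char.equiv_of_character_eq ρ σ (funext fun g => ?_), fun g i j => ?_⟩
  · rw [← hα]
    change algebraMap F ℂ (LinearMap.trace F _ (α g)) = LinearMap.trace ℂ _ (σ g)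
    rw [LinearMap.trace_eq_matrix_trace F (Pi.basisFun F (Fin k)), LinearMap.toMatrix_eq_toMatrix',
      LinearMap.trace_eq_matrix_trace ℂ (Pi.basisFun ℂ (Fin k)), LinearMap.toMatrix_eq_toMatrix', hσ]
    exact AddMonoidHom.map_trace (algebraMap F ℂ).toAddMonoidHom _
  · rw [hσ, ← hsub]
    exact (LinearMap.toMatrix' (α g) i j).2

end Cfsg.Agent.S0166
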