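-- Proof of statement S0175.
import Cfsg.Statements.S0175
import Cfsg.Agent.Char.PermChar
import Cfsg.Agent.Char.Constituents
import Cfsg.Agent.Char.Kernel

set_option autoImplicit false
open Cfsg

namespace Cfsg.Agent.S0175

/-- Taketa's Theorem on M-groups: if every irreducible complex character of a finite group is induced from a linear character (a homomorphism to ℂˣ) of some subgroup, the group is solvable. -/
theorem result {G : Type*} [Group G] [Fintype G] (hM : ∀ χ : G → ℂ, Cfsg.IsIrrCharacter G χ → ∃ (H : Subgroup G) (lam : H →* ℂˣ), χ = Cfsg.indFun H (fun h => (lam h : ℂ))) : Group.IsSolvable G := by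
  classical
  have key : ∀ d : ℕ, ∀ χ : G → ℂ, Cfsg.IsIrrCharacter G χ → χ 1 = d →
      ∀ g ∈ derivedSeries G d, χ g = χ 1 := by
    intro d
    induction d using Nat.strong_induction_on with | _ d ih =>
    intro χ hχ hd g hg
    obtain ⟨H, lam, rfl⟩ := hM χ hχ
    haveI := Fintype.ofFinite H
    rw [CfsgLib.Char.indFun_one, map_one, Units.val_one, mul_one] at hd
    have hdH : H.index = d := by exact_mod_cast hd
    subst hdH
    obtain ⟨k, hk⟩ : ∃ k, H.index = k + 1 :=
      ⟨H.index - 1, by have := H.index_ne_zero_of_finite; omega⟩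
    rw [hk] at hg
    obtain ⟨D, hD⟩ : ∃ D : Subgroup G, D = derivedSeries G k := ⟨_, rfl⟩
    haveI hDn : D.Normal := hD ▸ derivedSeries_normal G k
    have hperm : Cfsg.IsCharacter G (Cfsg.indFun H (fun _ => 1)) :=
      CfsgLib.Char.IsCharacter.indFun CfsgLib.Char.isCharacter_one
    have hDH : D ≤ H := by
      rcases Nat.eq_zero_or_pos k with rfl | hk0
      · rw [Subgroup.index_eq_one.1 hk]; exact le_top
      intro x hx
      have hone : Cfsg.classInner (Cfsg.indFun H (fun _ => 1)) (fun _ : G => (1 : ℂ)) ≠ 0 := by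
        rw [CfsgLib.Char.classInner_indFun _
          (CfsgLib.Char.IsIrrCharacter.isClassFunction CfsgLib.Char.isIrrCharacter_one)]
        rw [CfsgLib.Char.classInner_one_one]
        exact one_ne_zero
      have hsmall : ∀ β, Cfsg.IsIrrCharacter G β →
          Cfsg.classInner (Cfsg.indFun H (fun _ => 1)) β ≠ 0 → β x = β 1 := by
        intro β hβ hβc
        obtain ⟨b, -, hb⟩ := CfsgLib.Char.IsIrrCharacter.exists_degree hβ
        have hbk : b ≤ k := by
          by_cases hβ1 : β = fun _ => 1
          · subst hβ1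
            have : b = 1 := by simpa using hb.symm
            omega
          have h1 := CfsgLib.Char.IsCharacter.sub_irr hperm CfsgLib.Char.isIrrCharacter_one hone
          have h2 : Cfsg.classInner (Cfsg.indFun H (fun _ => 1) - fun _ : G => (1 : ℂ)) β ≠ 0 := by
            rw [CfsgLib.Char.classInner_sub_left,
              CfsgLib.Char.IsIrrCharacter.classInner_of_ne CfsgLib.Char.isIrrCharacter_one hβ
                (Ne.symm hβ1), sub_zero]
            exact hβc
          have h3 := CfsgLib.Char.IsCharacter.re_constituent_le h1 hβ h2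
          rw [Pi.sub_apply, CfsgLib.Char.indFun_one, mul_one, hb, hk, Nat.cast_add, Nat.cast_one,
            add_sub_cancel_right, Complex.natCast_re, Complex.natCast_re] at h3
          exact_mod_cast h3
        exact ih b (by omega) β hβ hb x (derivedSeries_antitone G hbk (hD ▸ hx))
      have hx1 : Cfsg.indFun H (fun _ => (1 : ℂ)) x = Cfsg.indFun H (fun _ => 1) 1 := by
        have h := CfsgLib.Char.eq_sum_irr (CfsgLib.Char.isClassFunction_indFun H fun _ => (1 : ℂ))
        rw [h, Finset.sum_apply, Finset.sum_apply]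
        refine Finset.sum_congr rfl fun β hβ => ?_
        by_cases hc : Cfsg.classInner (Cfsg.indFun H fun _ => (1 : ℂ)) β = 0
        · simp [hc]
        · rw [Pi.smul_apply, Pi.smul_apply, hsmall β (CfsgLib.Char.mem_irrFinset.1 hβ) hc]
      have hfix : MulAction.fixedBy (G ⧸ H) x = Set.univ := by
        have hx2 := CfsgLib.Char.permChar_apply H x
        rw [CfsgLib.Char.permChar, hx1, CfsgLib.Char.indFun_one, mul_one, Nat.cast_inj,
          Subgroup.index] at hx2
        refine Set.eq_of_subset_of_ncard_le (Set.subset_univ _) ?_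
        rw [Set.ncard_univ, hx2, Nat.card_coe_set_eq]
      have : ((1 : G) : G ⧸ H) ∈ MulAction.fixedBy (G ⧸ H) x := hfix ▸ Set.mem_univ _
      rw [MulAction.mem_fixedBy] at this
      change ((x * 1 : G) : G ⧸ H) = ((1 : G) : G ⧸ H) at this
      rw [mul_one, QuotientGroup.eq, mul_one] at this
      exact inv_mem_iff.1 this
    have hval : ∀ y : G, y ∈ derivedSeries G (k + 1) →
        Cfsg.extendByZero H (fun h => (lam h : ℂ)) y = 1 := by
      intro y hy
      rw [derivedSeries_succ, ← hD] at hy
      have hyH : y ∈ H := hDH (D.commutator_le_self hy)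
      rw [CfsgLib.Char.extendByZero_of_mem _ hyH]
      have hle : ⁅D, D⁆ ≤ lam.ker.map H.subtype := Subgroup.commutator_le.2 fun a ha b hb =>
        ⟨(⟨a, hDH ha⟩ : H) * ⟨b, hDH hb⟩ * (⟨a, hDH ha⟩ : H)⁻¹ * (⟨b, hDH hb⟩ : H)⁻¹, by
          rw [SetLike.mem_coe, MonoidHom.mem_ker, map_mul, map_mul, map_mul, map_inv, map_inv,
            mul_comm (lam ⟨a, hDH ha⟩), mul_inv_cancel_right, mul_inv_cancel],
          (commutatorElement_def a b).symm⟩
      obtain ⟨w, hw, hwy⟩ := hle hy
      rw [show (⟨y, hyH⟩ : H) = w from Subtype.ext hwy.symm, MonoidHom.mem_ker.1 hw, Units.val_one]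
    haveI := derivedSeries_normal G (k + 1)
    rw [CfsgLib.Char.indFun_def, CfsgLib.Char.indFun_def]
    congr 1
    refine Finset.sum_congr rfl fun x _ => ?_
    rw [hval _ (by simpa using Subgroup.Normal.conj_mem inferInstance g hg x⁻¹), mul_one,
      inv_mul_cancel, hval 1 (one_mem _)]
  refine ⟨⟨Nat.card G, le_bot_iff.1 fun g hg => Subgroup.mem_bot.2 ?_⟩⟩
  have hall : ∀ χ, Cfsg.IsIrrCharacter G χ → χ g = χ 1 := fun χ hχ => by
    obtain ⟨d, hd0, hd⟩ := CfsgLib.Char.IsIrrCharacter.exists_degree hχ
    obtain ⟨H, lam, hH⟩ := hM χ hχ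
    refine key d χ hχ hd g (derivedSeries_antitone G ?_ hg)
    have h1 := congrFun hH 1
    rw [hd, CfsgLib.Char.indFun_one, map_one, Units.val_one, mul_one, Nat.cast_inj] at h1
    exact h1 ▸ Nat.le_of_dvd Nat.card_pos H.index_dvd_card
  exact isConj_one_left.1 ((CfsgLib.Char.isConj_iff_irr_eq g 1).2 hall)

end Cfsg.Agent.S0175
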