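-- Proof of statement S0184.
import Cfsg.Statements.S0184
import Cfsg.Agent.Char.ScalarIndex
import Cfsg.Agent.Char.Kernel

set_option autoImplicit false
open Cfsg

namespace Cfsg.Agent.S0184

/-- A finite p-group admits a faithful irreducible complex representation if and only if its centre is cyclic. -/
theorem result {G : Type*} [Group G] [Finite G] (p : ℕ) [Fact p.Prime] (hG : IsPGroup p G) : (∃ (n : ℕ) (ρ : Representation ℂ G (Fin n → ℂ)), ρ.IsIrreducible ∧ Function.Injective ρ) ↔ IsCyclic (Subgroup.center G) := by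
  classical
  haveI := Fintype.ofFinite G
  constructor
  · rintro ⟨n, ρ, hρ, hinj⟩
    haveI := hρ
    have hd := CfsgLib.Char.finrank_pos_of_isIrreducible ρ
    have hne : (1 : Module.End ℂ (Fin n → ℂ)) ≠ 0 := by
      have := Module.nontrivial_of_finrank_pos (R := ℂ) hd
      exact one_ne_zero
    have hsc : ∀ z : Subgroup.center G, ∃ c : ℂ, ρ z = c • (1 : Module.End ℂ (Fin n → ℂ)) :=
      fun z => CfsgLib.Char.exists_scalar_of_mem_scalarSubgroup ρ
        (CfsgLib.Char.center_le_scalarSubgroup ρ z.2)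
    choose c hc using hsc
    have hcinj : Function.Injective c := fun a b h => Subtype.ext (hinj (by rw [hc, hc, h]))
    let φ : Subgroup.center G →* ℂ :=
      { toFun := c
        map_one' := smul_left_injective ℂ hne (by dsimp only; rw [← hc, one_smul]; simp)
        map_mul' := fun a b => smul_left_injective ℂ hne (by
          dsimp only
          rw [← hc, Subgroup.coe_mul, map_mul, hc, hc, smul_mul_smul_comm, mul_one]) }
    exact isCyclic_of_injective_ringHom φ hcinj
  · intro hcyc
    rcases subsingleton_or_nontrivial G with hG1 | hG1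
    · obtain ⟨n, ρ, hρ, -⟩ := CfsgLib.Char.isIrrCharacter_one (G := G)
      exact ⟨n, ρ, hρ, Function.injective_of_subsingleton _⟩
    haveI := hG.center_nontrivial
    have hdvd : ∀ (L : Subgroup G) [Nontrivial L], p ∣ Nat.card L := fun L _ =>
      (hG.to_subgroup L).card_eq_or_dvd.resolve_left Finite.one_lt_card.ne'
    have hpZ : p ∣ Nat.card (Subgroup.center G) := hdvd _
    obtain ⟨z, hz⟩ := exists_prime_orderOf_dvd_card' p hpZ
    have hz1 : (z : G) ≠ 1 := fun h => by
      rw [show z = 1 from Subtype.ext h, orderOf_one] at hz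
      exact (Fact.out : p.Prime).ne_one hz.symm
    obtain ⟨χ, hχ, hne⟩ : ∃ χ, Cfsg.IsIrrCharacter G χ ∧ χ (z : G) ≠ χ 1 := by
      by_contra! h
      exact hz1 (isConj_one_left.1 ((CfsgLib.Char.isConj_iff_irr_eq (z : G) 1).2 h))
    obtain ⟨n, ρ, hρ, rfl⟩ := hχ
    refine ⟨n, ρ, hρ, ?_⟩
    by_contra hni
    obtain ⟨K, hK⟩ : ∃ K : Subgroup G,
        K = (MonoidHom.toHomUnits (G := G) (M := Module.End ℂ (Fin n → ℂ)) ρ).ker := ⟨_, rfl⟩
    haveI : K.Normal := hK ▸ MonoidHom.normal_ker _
    have hKne : K ≠ ⊥ := fun h => hni fun a b hab => by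
      have : (MonoidHom.toHomUnits (G := G) (M := Module.End ℂ (Fin n → ℂ)) ρ) a =
          MonoidHom.toHomUnits (G := G) (M := Module.End ℂ (Fin n → ℂ)) ρ b := Units.ext hab
      exact (MonoidHom.ker_eq_bot_iff _).1 (hK.symm.trans h) this
    haveI : Nontrivial K := (Subgroup.nontrivial_iff_ne_bot K).2 hKne
    obtain ⟨k, hk1, hk⟩ : ∃ k : G, k ≠ 1 ∧ k ∈ K ⊓ Subgroup.center G := by
      have h1 : (1 : K) ∈ MulAction.fixedPoints (ConjAct G) K := fun g => smul_one g
      obtain ⟨b, hb, hb1⟩ :=
        (hG.of_equiv ConjAct.toConjAct).exists_fixed_point_of_prime_dvd_card_of_fixed_point K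
          (hdvd K) h1
      refine ⟨b, fun h => hb1 (Subtype.ext h.symm), b.2, Subgroup.mem_center_iff.2 fun g => ?_⟩
      have := congrArg Subtype.val (hb (ConjAct.toConjAct g))
      change g * (b : G) * g⁻¹ = b at this
      exact mul_inv_eq_iff_eq_mul.1 this
    haveI : Nontrivial ↥(K ⊓ Subgroup.center G) :=
      ⟨⟨k, hk⟩, 1, fun h => hk1 (congrArg Subtype.val h)⟩
    obtain ⟨w, hw⟩ := exists_prime_orderOf_dvd_card' p (hdvd (K ⊓ Subgroup.center G))
    obtain ⟨w', hw'⟩ : ∃ w' : Subgroup.center G, (w' : G) = w := ⟨⟨w, w.2.2⟩, rfl⟩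
    have hwo : orderOf w' = p := by
      rw [← Subgroup.orderOf_coe, hw', Subgroup.orderOf_coe, hw]
    have hmem : z ∈ Subgroup.zpowers w' := by
      have hle := IsCyclic.card_pow_eq_one_le (α := Subgroup.center G) (n := p)
        (Fact.out : p.Prime).pos
      have hsub : (Subgroup.zpowers w' : Set (Subgroup.center G)).toFinset ⊆
          Finset.univ.filter (fun a : Subgroup.center G => a ^ p = 1) := fun a ha => by
        rw [Set.mem_toFinset] at ha
        simp only [Finset.mem_filter, Finset.mem_univ, true_and]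
        exact orderOf_dvd_iff_pow_eq_one.1 (hwo ▸ orderOf_dvd_of_mem_zpowers ha)
      have heq := Finset.eq_of_subset_of_card_le hsub (hle.trans (le_of_eq (by
        rw [Set.toFinset_card, ← Nat.card_eq_fintype_card]
        exact (hwo.symm.trans (Nat.card_zpowers w').symm))))
      have hzm : z ∈ Finset.univ.filter (fun a : Subgroup.center G => a ^ p = 1) := by
        simp only [Finset.mem_filter, Finset.mem_univ, true_and]
        rw [← hz, pow_orderOf_eq_one]
      rw [← heq, Set.mem_toFinset] at hzm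
      exact hzm
    have hwK : (w' : G) ∈ K := hw' ▸ w.2.1
    have hzK : (z : G) ∈ K := by
      obtain ⟨i, hi⟩ := Subgroup.mem_zpowers_iff.1 hmem
      rw [← hi, Subgroup.coe_zpow]
      exact K.zpow_mem hwK i
    have : ρ (z : G) = 1 := congrArg Units.val (MonoidHom.mem_ker.1 (hK ▸ hzK))
    exact hne (by rw [(CfsgLib.Char.character_eq_iff ρ _).2 this, ρ.char_one])

end Cfsg.Agent.S0184
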