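-- Proof of statement S0186.
import Cfsg.Statements.S0186
import Cfsg.Agent.Char.Central
import Cfsg.Agent.Char.Kernel
import Cfsg.Agent.Char.Constituents
import Cfsg.Agent.Char.Orthogonality

set_option autoImplicit false
open Cfsg

namespace Cfsg.Agent.S0186

/-- Let G be a finite simple group of order n and p a prime dividing n. If G has more than n / p^2 conjugacy classes, then every Sylow p-subgroup of G is abelian. -/
theorem result {G : Type*} [Group G] [Finite G] [IsSimpleGroup G] (p : ℕ) [Fact p.Prime] (hp : p ∣ Nat.card G) (hmany : Nat.card G < p ^ 2 * Nat.card (ConjClasses G)) (P : Sylow p G) (a b : G) (ha : a ∈ P) (hb : b ∈ P) : a * b = b * a := by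
  classical
  haveI := Fintype.ofFinite G
  have hp' : p.Prime := Fact.out
  by_contra hab
  -- a faithful non-principal character has degree above `p`
  have hdeg : ∀ χ : G → ℂ, Cfsg.IsIrrCharacter G χ → χ ≠ (fun _ => 1) →
      ∃ d : ℕ, χ 1 = d ∧ p + 1 ≤ d := by
    intro χ hχ hne
    obtain ⟨d, hd0, hd⟩ := CfsgLib.Char.IsIrrCharacter.exists_degree hχ
    refine ⟨d, hd, ?_⟩
    obtain ⟨m, ρ, hρ, rfl⟩ := id hχ
    haveI := hρ
    have hc := CfsgLib.Char.IsIrrCharacter.isCharacter hχ
    have hker : ∀ g : G, ρ.character g = ρ.character 1 → g = 1 := by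
      intro g hg
      haveI := CfsgLib.Char.kerSubgroup_normal hc
      rcases Subgroup.Normal.eq_bot_or_eq_top (CfsgLib.Char.kerSubgroup_normal hc) with h | h
      · exact Subgroup.mem_bot.1 (h ▸ hg)
      · exfalso
        apply hne
        have hall : ∀ x : G, ρ.character x = ρ.character 1 := fun x =>
          show x ∈ CfsgLib.Char.kerSubgroup hc from h ▸ Subgroup.mem_top x
        have h1 := CfsgLib.Char.IsIrrCharacter.classInner_of_ne hχ
          CfsgLib.Char.isIrrCharacter_one hne
        simp only [CfsgLib.Char.classInner_def, map_one, mul_one, hall, Finset.sum_const,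
          Finset.card_univ, nsmul_eq_mul, Fintype.card_eq_nat_card] at h1
        rw [← mul_assoc, inv_mul_cancel₀ (Nat.cast_ne_zero.2 Nat.card_pos.ne'), one_mul] at h1
        exact absurd h1 (CfsgLib.Char.IsIrrCharacter.apply_one_ne_zero hχ)
    haveI : Fintype P := Fintype.ofFinite _
    have hres : Cfsg.IsCharacter P (fun x : P => ρ.character x) :=
      CfsgLib.Char.IsCharacter.restrict hc (P : Subgroup G)
    obtain ⟨ψ, hψ, hψc, hψ1⟩ : ∃ ψ : P → ℂ, Cfsg.IsIrrCharacter P ψ ∧
        Cfsg.classInner (fun x : P => ρ.character x) ψ ≠ 0 ∧ ψ 1 ≠ 1 := by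
      by_contra! hall
      apply hab
      have hx : ∀ a b : P, (a : G) * b * (a : G)⁻¹ * (b : G)⁻¹ = 1 := by
        intro a b
        apply hker
        have e := CfsgLib.Char.eq_sum_irr (CfsgLib.Char.IsCharacter.isClassFunction hres)
        have e1 := congrFun e (a * b * a⁻¹ * b⁻¹)
        have e2 := congrFun e 1
        simp only [Subgroup.coe_mul, Subgroup.coe_inv, OneMemClass.coe_one, Finset.sum_apply,
          Pi.smul_apply, smul_eq_mul] at e1 e2
        refine e1.trans (Eq.trans (Finset.sum_congr rfl fun φ hφ => ?_) e2.symm)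
        by_cases h0 : Cfsg.classInner (fun x : P => ρ.character x) φ = 0
        · rw [h0, zero_mul, zero_mul]
        · have hφ' := CfsgLib.Char.mem_irrFinset.1 hφ
          obtain ⟨lam, rfl⟩ := CfsgLib.Char.IsCharacter.exists_hom
            (CfsgLib.Char.IsIrrCharacter.isCharacter hφ') (hall φ hφ' h0)
          simp
      have h := hx ⟨a, ha⟩ ⟨b, hb⟩
      have h2 := congrArg (fun z => z * (b * a)) h
      simpa [mul_assoc] using h2
    obtain ⟨e, he0, he⟩ := CfsgLib.Char.IsIrrCharacter.exists_degree hψ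
    obtain ⟨k, hk⟩ := IsPGroup.iff_card.1 P.isPGroup'
    obtain ⟨j, -, hj⟩ := (Nat.dvd_prime_pow hp').1
      (hk ▸ CfsgLib.Char.IsIrrCharacter.degree_dvd_card hψ he)
    have hpe : p ≤ e := by
      rcases Nat.eq_zero_or_pos j with rfl | hj0
      · exact absurd (by rw [he, hj]; simp) hψ1
      · rw [hj]
        exact Nat.le_self_pow hj0.ne' p
    have hed : e ≤ d := by
      obtain ⟨r, hr⟩ := CfsgLib.Char.IsCharacter.exists_degree
        (CfsgLib.Char.IsCharacter.sub_irr hres hψ hψc)
      rw [Pi.sub_apply, he, show ρ.character ((1 : P) : G) = ρ.character 1 from rfl, hd,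
        sub_eq_iff_eq_add, ← Nat.cast_add, Nat.cast_inj] at hr
      omega
    by_contra hlt
    have heq : e = d := by omega
    have hirrP : Cfsg.IsIrrCharacter P (fun x : P => ρ.character x) := by
      rw [CfsgLib.Char.IsCharacter.eq_of_constituent hres hψ hψc
        (show ρ.character ((1 : P) : G) = ψ 1 by rw [OneMemClass.coe_one, hd, he, heq])]
      exact hψ
    obtain ⟨m', ρ', hρ', hchar'⟩ := id hirrP
    haveI := hρ'
    haveI : Nontrivial P := by
      by_contra hnt
      rw [not_nontrivial_iff_subsingleton] at hnt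
      exact hab (congrArg Subtype.val (Subsingleton.elim (α := P) (⟨a, ha⟩ * ⟨b, hb⟩)
        (⟨b, hb⟩ * ⟨a, ha⟩)))
    haveI : Nontrivial (Subgroup.center P) := P.isPGroup'.center_nontrivial
    obtain ⟨⟨z, hz⟩, hz1⟩ := exists_ne (1 : Subgroup.center P)
    have hz' : ρ' z = (LinearMap.trace ℂ _ (ρ' z) / (Module.finrank ℂ (Fin m' → ℂ) : ℂ)) •
        (1 : Module.End ℂ (Fin m' → ℂ)) :=
      CfsgLib.Char.eq_smul_one_of_commute ρ' (ρ' z) fun x => by
        rw [← map_mul, ← map_mul, Subgroup.mem_center_iff.1 hz x]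
    have hmm : (m' : ℂ) = (m : ℂ) := by
      have := congrFun hchar' 1
      simp only [OneMemClass.coe_one, Representation.char_one, Module.finrank_fin_fun] at this
      exact this
    have hn' : ‖ρ'.character z‖ = (Module.finrank ℂ (Fin m' → ℂ) : ℝ) :=
      (CfsgLib.Char.norm_character_eq_iff ρ' z).2 ⟨_, hz'⟩
    have hn : ‖ρ.character (z : G)‖ = (Module.finrank ℂ (Fin m → ℂ) : ℝ) := by
      rw [congrFun hchar' z] at hn'
      rw [hn', Module.finrank_fin_fun, Module.finrank_fin_fun]
      exact_mod_cast hmm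
    obtain ⟨ω, hω⟩ := (CfsgLib.Char.norm_character_eq_iff ρ (z : G)).1 hn
    have hcen : (z : G) ∈ Subgroup.center G := Subgroup.mem_center_iff.2 fun g => by
      have h1 : g * (z : G) * g⁻¹ * (z : G)⁻¹ = 1 := by
        apply hker
        have h2 : ρ g * ρ z = ρ z * ρ g := by
          rw [hω]
          exact ((Commute.one_right (ρ g)).smul_right ω).eq
        have : ρ (g * (z : G) * g⁻¹ * (z : G)⁻¹) = 1 := by
          rw [map_mul, map_mul, map_mul, h2, mul_assoc (ρ z), ← map_mul, mul_inv_cancel, map_one,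
            mul_one, ← map_mul, mul_inv_cancel, map_one]
        simp [Representation.character, this]
      have h2 := congrArg (fun y => y * ((z : G) * g)) h1
      simpa [mul_assoc] using h2
    rcases (inferInstance : (Subgroup.center G).Normal).eq_bot_or_eq_top with h | h
    · exact hz1 (Subtype.ext (Subtype.ext (Subgroup.mem_bot.1 (h ▸ hcen) :)))
    · exact hab (Subgroup.mem_center_iff.1 (h ▸ Subgroup.mem_top b) a)
  -- `|P| ≥ p ^ 3`
  obtain ⟨k, hk⟩ := IsPGroup.iff_card.1 P.isPGroup'
  have hk3 : 3 ≤ k := by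
    by_contra hk3
    apply hab
    have hcomm : ∀ x y : P, x * y = y * x := by
      interval_cases k
      · intro x y
        haveI := (Nat.card_eq_one_iff_unique.1 (hk.trans (pow_zero p))).1
        exact Subsingleton.elim _ _
      · haveI : IsCyclic P := isCyclic_of_prime_card (p := p) (hk.trans (pow_one p))
        intro x y
        exact mul_comm' x y
      · exact IsPGroup.commutative_of_card_eq_prime_sq hk
    exact congrArg Subtype.val (hcomm ⟨a, ha⟩ ⟨b, hb⟩)
  have hn3 : p ^ 3 ≤ Nat.card G :=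
    le_trans (Nat.pow_le_pow_right hp'.pos hk3) (hk ▸ P.1.card_le_card_group)
  set S := CfsgLib.Char.irrFinset G
  have h1S : (fun _ : G => (1 : ℂ)) ∈ S :=
    CfsgLib.Char.mem_irrFinset.2 CfsgLib.Char.isIrrCharacter_one
  have hge : (1 + (S.card - 1) * (p + 1) ^ 2 : ℕ) ≤ Nat.card G := by
    have hsum := CfsgLib.Char.sum_degree_sq (G := G)
    rw [← Finset.add_sum_erase _ _ h1S, one_pow] at hsum
    have : ∀ χ ∈ S.erase (fun _ => 1), ∃ d : ℕ, χ 1 = d ∧ p + 1 ≤ d := fun χ hχ =>
      hdeg χ (CfsgLib.Char.mem_irrFinset.1 (Finset.mem_of_mem_erase hχ)) (Finset.ne_of_mem_erase hχ)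
    choose! D hD hDp using this
    rw [Finset.sum_congr rfl fun χ hχ => by rw [hD χ hχ]] at hsum
    have h2 : 1 + ∑ χ ∈ S.erase (fun _ => 1), D χ ^ 2 = Nat.card G := by exact_mod_cast hsum
    rw [← h2, ← Finset.card_erase_of_mem h1S, ← smul_eq_mul, ← Finset.sum_const]
    exact Nat.add_le_add_left (Finset.sum_le_sum fun χ hχ => Nat.pow_le_pow_left (hDp χ hχ) 2) 1
  have hcard : Nat.card (ConjClasses G) = S.card := by
    rw [← CfsgLib.Char.card_irr_eq_card_conjClasses, CfsgLib.Char.card_irr]
  rw [hcard] at hmany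
  have hS1 : 1 ≤ S.card := Finset.card_pos.2 ⟨_, h1S⟩
  obtain ⟨t, ht⟩ := Nat.exists_eq_add_of_le hS1
  rw [ht] at hmany hge
  rw [Nat.add_sub_cancel_left] at hge
  have h2 : 2 ≤ p := hp'.two_le
  have hpt : p ≤ t := by
    by_contra hlt
    have : p ^ 2 * (1 + t) ≤ p ^ 3 := by
      rw [pow_succ p 2]
      exact Nat.mul_le_mul_left _ (by omega)
    omega
  nlinarith [Nat.mul_le_mul_right (2 * p + 1) hpt]

end Cfsg.Agent.S0186
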