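import Cfsg.Statements.S0211
import Cfsg.Agent.Invol.Dihedral
-- import your own Cfsg.Agent.* helpers here

set_option autoImplicit false
open Cfsg CfsgLib.Invol

namespace Cfsg.Agent.S0211

/-- Let x, y be involutions with xy of even order n and z = (xy)^(n/2). Then xz is conjugate to x by an element of the subgroup generated by x, y if and only if 4 divides n. -/
theorem result {G : Type*} [Group G] [Finite G] (x y : G) (hx : orderOf x = 2) (hy : orderOf y = 2) (heven : Even (orderOf (x * y))) : (∃ d ∈ Subgroup.closure ({x, y} : Set G), d * x * d⁻¹ = x * (x * y) ^ (orderOf (x * y) / 2)) ↔ 4 ∣ orderOf (x * y) := by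
  obtain ⟨m, hm⟩ := heven
  have hpos := orderOf_pos (x * y)
  constructor
  · rintro ⟨d, hd, hdx⟩
    obtain ⟨k, hk⟩ := conj_mem_pair hx hy hd
    rw [hdx] at hk
    have h1 := mul_left_cancel hk
    rw [← zpow_natCast, zpow_eq_zpow_iff_modEq] at h1
    obtain ⟨c, hc⟩ := Int.modEq_iff_dvd.mp h1
    rw [hm] at hc ⊢
    have hm2 : (m + m) / 2 = m := by omega
    rw [hm2] at hc
    push_cast at hc
    have h2 : (2 : ℤ) ∣ (m : ℤ) := ⟨k - m * c, by linarith⟩
    obtain ⟨j, hj⟩ := Int.natCast_dvd_natCast.mp (by exact_mod_cast h2 : ((2 : ℕ) : ℤ) ∣ (m : ℤ))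
    exact ⟨j, by omega⟩
  · rintro ⟨j, hj⟩
    refine ⟨(x * y) ^ (-(j : ℤ)), (mem_closure_pair_iff hx hy).mpr (Or.inl ⟨_, rfl⟩), ?_⟩
    rw [zpow_conj_invol (mul_self_eq_one hx) (conj_mul_inv hx hy), ← zpow_natCast]
    congr 2
    omega

end Cfsg.Agent.S0211
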