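import Cfsg.Statements.S0212
import Cfsg.Agent.Invol.BrauerFowler
import Cfsg.Agent.SmallSimple.Basic
-- import your own Cfsg.Agent.* helpers here

set_option autoImplicit false
open Cfsg

namespace Cfsg.Agent.S0212

/-- The Brauer–Fowler bound: if G is a finite simple group and t an involution of G whose centralizer has order n, then |G| ≤ (2n^2)!. -/
theorem result {G : Type*} [Group G] [Finite G] [IsSimpleGroup G] (t : G) (ht : orderOf t = 2) : Nat.card G ≤ Nat.factorial (2 * (Nat.card (Subgroup.centralizer ({t} : Set G))) ^ 2) := by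
  set c := Nat.card (Subgroup.centralizer ({t} : Set G)) with hc
  by_cases hG : IsMulCommutative G
  · have h1 : Subgroup.centralizer ({t} : Set G) = ⊤ :=
      eq_top_iff.2 fun y _ => Subgroup.mem_centralizer_singleton_iff.2 (hG.1.1 y t)
    rw [hc, h1, Subgroup.card_top]
    exact le_trans (by nlinarith [Nat.card_pos (α := G)]) (Nat.self_le_factorial _)
  have hno : ∀ K : Subgroup G, K.index ≠ 2 := fun K hK => by
    rcases IsSimpleGroup.eq_bot_or_eq_top_of_normal K (Subgroup.normal_of_index_eq_two hK) with h | h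
    · rw [h, Subgroup.index_bot] at hK
      haveI := Fact.mk Nat.prime_two
      exact hG (isCyclic_of_prime_card hK).isMulCommutative
    · rw [h, Subgroup.index_top] at hK
      omega
  have hcen : Subgroup.center G = ⊥ := by
    rcases IsSimpleGroup.eq_bot_or_eq_top_of_normal (Subgroup.center G) inferInstance with h | h
    · exact h
    · exact absurd ⟨⟨fun a b => (Subgroup.mem_center_iff.1 (h ▸ Subgroup.mem_top b : b ∈ Subgroup.center G) a)⟩⟩ hG
  have hz : ∀ z : G, orderOf z = 2 → z ∉ Subgroup.center G := fun z hz2 hzc => by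
    rw [hcen, Subgroup.mem_bot] at hzc
    simp [hzc] at hz2
  obtain ⟨H, hH, hmax⟩ := CfsgLib.BrauerFowler.exists_max_proper (G := G)
  have heven : Even (Nat.card G) := even_iff_two_dvd.2 (ht ▸ orderOf_dvd_natCard t)
  have hlt := (CfsgLib.BrauerFowler.main_estimate heven hz hmax).resolve_left fun ⟨K, hK⟩ => hno K hK
  have h1 := CfsgLib.BrauerFowler.card_le_invol_mul ht
  rw [← hc] at h1
  set n := Nat.card {u : G // orderOf u = 2}
  have h2 := H.card_mul_index
  have hmul : 2 * n ^ 2 * H.index < n ^ 2 * (c * (c + 1)) := by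
    calc 2 * n ^ 2 * H.index < Nat.card H * (Nat.card G + n) * H.index :=
          Nat.mul_lt_mul_of_pos_right hlt (Nat.pos_of_ne_zero Subgroup.index_ne_zero_of_finite)
      _ = Nat.card G * (Nat.card G + n) := by rw [← h2]; ring
      _ ≤ (n * c) * (n * c + n) := Nat.mul_le_mul h1 (Nat.add_le_add_right h1 n)
      _ = _ := by ring
  have hidx : 2 * H.index < c * (c + 1) :=
    Nat.lt_of_mul_lt_mul_left (a := n ^ 2) (by rw [show n ^ 2 * (2 * H.index) = 2 * n ^ 2 * H.index by ring]; exact hmul)
  have hcpos : 0 < c := Nat.card_pos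
  exact (Nat.le_of_dvd (Nat.factorial_pos _) (CfsgLib.SmallSimple.card_dvd_factorial H hH)).trans
    (Nat.factorial_le (by nlinarith))

end Cfsg.Agent.S0212
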