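import Cfsg.Statements.S0214
import Cfsg.Agent.Invol.KCore
-- import your own Cfsg.Agent.* helpers here

set_option autoImplicit false
open Cfsg

namespace Cfsg.Agent.S0214

/-- Let H be a proper subgroup of the finite group G and P a nontrivial Sylow 2-subgroup of H. Then H is strongly embedded in G if and only if N_G(X) ≤ H for every nontrivial subgroup X of P. -/
theorem result {G : Type*} [Group G] [Finite G] (H : Subgroup G) (hH : H ≠ ⊤) (P : Sylow 2 ↥H) (hP : (P : Subgroup ↥H) ≠ ⊥) : Cfsg.IsStronglyEmbedded H ↔ (∀ X : Subgroup ↥H, X ≤ (P : Subgroup ↥H) → X ≠ ⊥ → Subgroup.normalizer ((X.map H.subtype : Subgroup G) : Set G) ≤ H) := by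
  open Subgroup CfsgLib in
  haveI : Fact (Nat.Prime 2) := ⟨Nat.prime_two⟩
  have heven : Even (Nat.card H) := by
    rw [even_iff_two_dvd]
    obtain ⟨k, hk⟩ := IsPGroup.iff_card.1 P.2
    refine dvd_trans ?_ (Subgroup.card_subgroup_dvd_card (P : Subgroup ↥H))
    rw [hk]
    exact dvd_pow_self 2 (fun h0 => hP (card_eq_one.1 (by rw [hk, h0, pow_zero])))
  set S := (P : Subgroup ↥H).map H.subtype
  have hr : ∀ X : Subgroup G, IsPGroup 2 ↥X → (Cfsg.PRankLE 2 0 ↥X ↔ X = ⊥) := by
    intro X hX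
    refine ⟨fun h => ?_, fun h A _ _ => ?_⟩
    · by_contra hne
      haveI := (nontrivial_iff_ne_bot X).2 hne
      obtain ⟨k, hk⟩ := IsPGroup.iff_card.1 hX
      obtain ⟨z, hz⟩ := exists_prime_orderOf_dvd_card' (G := ↥X) 2 (hk ▸ dvd_pow_self 2 (fun h0 => hne (card_eq_one.1 (by rw [hk, h0, pow_zero]))))
      have h1 := h (zpowers z) inferInstance (by
        intro a ha
        obtain ⟨i, rfl⟩ := mem_zpowers_iff.1 ha
        rw [← zpow_natCast, zpow_comm, zpow_natCast, ← hz, pow_orderOf_eq_one, one_zpow])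
      rw [Nat.card_zpowers, hz] at h1
      omega
    · haveI : Subsingleton ↥X := by rw [h]; infer_instance
      rw [pow_zero]; exact Finite.card_le_one_iff_subsingleton.2 inferInstance
  constructor
  · rintro ⟨-, -, hodd⟩ X hXP hX1 n hn
    by_contra hnH
    set X' := X.map H.subtype
    have hXp : IsPGroup 2 ↥X' := (P.2.to_le hXP).map _
    have hle : X' ≤ H ⊓ H.map (MulAut.conj n).toMonoidHom := by
      refine le_inf (map_subtype_le _) ?_
      calc X' = X'.map (MulAut.conj n).toMonoidHom := (Functor.mem_normalizer_iff_cj.1 hn).symm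
        _ ≤ _ := map_mono (map_subtype_le _)
    obtain ⟨k, hk⟩ := IsPGroup.iff_card.1 hXp
    have hd : 2 ∣ Nat.card ↥X' := hk ▸ dvd_pow_self 2 (fun h0 => hX1 (card_eq_one.1 (by rw [← card_map_of_injective H.subtype_injective, hk, h0, pow_zero])))
    exact Nat.not_even_iff_odd.2 (hodd n hnH) (even_iff_two_dvd.2 (hd.trans (card_dvd_of_le hle)))
  · intro h
    refine ⟨hH, heven, fun g hg => Nat.not_even_iff_odd.1 fun hev => ?_⟩
    have hS : ¬ Cfsg.PRankLE 2 0 ↥S := fun h' => hP ((map_eq_bot_iff_of_injective _ H.subtype_injective).1 ((hr S (P.2.map _)).1 h'))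
    have h1 := KCore.rankLE_inf_conj (Functor.isSylowIn_map_subtype P) hS (fun X hX hXr => by
      have h2 := h (X.subgroupOf H) (fun x hx => by
          obtain ⟨y, hy, e⟩ := hX (mem_subgroupOf.1 hx)
          rwa [← Subtype.ext e]) (fun e => hXr ((hr X ((P.2.map H.subtype).to_le hX)).2 (by
        rw [← map_subgroupOf_eq_of_le (hX.trans (map_subtype_le _)), e, Subgroup.map_bot])))
      rwa [map_subgroupOf_eq_of_le (hX.trans (map_subtype_le _))] at h2) hg
    obtain ⟨z, hz⟩ := exists_prime_orderOf_dvd_card' 2 (even_iff_two_dvd.1 hev)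
    have h3 := h1 (zpowers z) inferInstance (by
      intro a ha
      obtain ⟨i, rfl⟩ := mem_zpowers_iff.1 ha
      rw [← zpow_natCast, zpow_comm, zpow_natCast, ← hz, pow_orderOf_eq_one, one_zpow])
    rw [Nat.card_zpowers, hz] at h3
    omega

end Cfsg.Agent.S0214
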