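import Cfsg.Statements.S0216
import Cfsg.Agent.Invol.Dihedral
-- import your own Cfsg.Agent.* helpers here

set_option autoImplicit false
set_option linter.style.haveILetI false
open Cfsg CfsgLib.Invol

namespace Cfsg.Agent.S0216

/-- For an involution u in a Sylow 2-subgroup P of a finite group G, the following are equivalent: no G-conjugate of u other than u lies in P; every commutator of u with an element of G has odd order. -/
theorem result {G : Type*} [Group G] [Finite G] (P : Sylow 2 G) (u : G) (hu : orderOf u = 2) (huP : u ∈ P) : (∀ g : G, g * u * g⁻¹ ∈ P → g * u * g⁻¹ = u) ↔ (∀ g : G, Odd (orderOf (u * g * u⁻¹ * g⁻¹))) := by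
  constructor
  · intro h g
    have hu' : orderOf (g * u * g⁻¹) = 2 := (orderOf_conj_eq g u).trans hu
    have hkey : u * g * u⁻¹ * g⁻¹ = u * (g * u * g⁻¹) := by
      rw [inv_eq_self hu]
      group
    rw [hkey]
    by_contra hodd
    rw [Nat.not_odd_iff_even] at hodd
    obtain ⟨hz, hzu, hzv⟩ := half_props hu hu' hodd
    -- `u` is isolated: it commutes with no other conjugate of itself
    have hcomm : ∀ a : G, Commute u (a * u * a⁻¹) → a * u * a⁻¹ = u := by
      intro a ha
      haveI : Fact (Nat.Prime 2) := ⟨Nat.prime_two⟩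
      have hp : IsPGroup 2 (Subgroup.closure ({u, a * u * a⁻¹} : Set G)) := by
        have hau : orderOf (a * u * a⁻¹) = 2 := (orderOf_conj_eq a u).trans hu
        rintro ⟨z, hz⟩
        refine ⟨1, Subtype.ext ?_⟩
        show z ^ 2 ^ 1 = 1
        have hsq : (u * (a * u * a⁻¹)) ^ 2 = 1 := by
          rw [ha.mul_pow, sq, sq, mul_self_eq_one hu, mul_self_eq_one hau, one_mul]
        rcases (mem_closure_pair_iff hu hau).mp hz with ⟨k, rfl⟩ | ⟨k, rfl⟩
        · rw [pow_one, ← zpow_natCast, ← zpow_mul, mul_comm k, zpow_mul, zpow_natCast, hsq,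
            one_zpow]
        · rw [pow_one, sq]
          exact mul_zpow_mul_self (mul_self_eq_one hu) (conj_mul_inv hu hau) k
      obtain ⟨R, hR⟩ := hp.exists_le_sylow
      obtain ⟨b, hb⟩ := MulAction.exists_smul_eq G R P
      have h1 : b * u * b⁻¹ ∈ P := by
        rw [← hb]; exact ⟨u, hR (Subgroup.subset_closure (Set.mem_insert u _)), rfl⟩
      have h2 : (b * a) * u * (b * a)⁻¹ ∈ P := by
        rw [← hb]
        refine ⟨a * u * a⁻¹, hR (Subgroup.subset_closure (Set.mem_insert_of_mem _ rfl)), ?_⟩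
        show b * (a * u * a⁻¹) * b⁻¹ = _
        group
      have e1 := h b h1
      have e2 := h (b * a) h2
      have : b * (a * u * a⁻¹) * b⁻¹ = b * u * b⁻¹ := by
        rw [e1]; conv_rhs => rw [← e2]
        group
      exact mul_left_cancel (mul_right_cancel this)
    obtain ⟨v, hv⟩ : ∃ v, v = g * u * g⁻¹ := ⟨_, rfl⟩
    rw [← hv] at hu' hodd hz hzu hzv
    set z := (u * v) ^ (orderOf (u * v) / 2) with hz'
    -- the involution `u z` is a conjugate of `u` or of `v`
    obtain ⟨m, hm⟩ := hodd
    have hm2 : orderOf (u * v) / 2 = m := by omega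
    rcases Nat.even_or_odd m with ⟨j, hj⟩ | ⟨j, hj⟩
    · have he : (u * v) ^ (-(j : ℤ)) * u * ((u * v) ^ (-(j : ℤ)))⁻¹ = u * z := by
        rw [zpow_conj_invol (mul_self_eq_one hu) (conj_mul_inv hu hu'), hz', hm2, ← zpow_natCast]
        congr 2
        omega
      have hc : Commute u (u * z) := (Commute.refl u).mul_right hzu.symm
      have := hcomm _ (he ▸ hc)
      rw [he] at this
      exact ne_one hz (mul_eq_left.mp this)
    · -- `u z` is conjugate to `v`
      have hyv : v * (u * v) * v⁻¹ = (u * v)⁻¹ := by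
        rw [mul_inv_rev_invol hu hu', inv_eq_self hu', ← mul_assoc, mul_assoc (v * u) v v,
          mul_self_eq_one hu', mul_one]
      have hu_eq : u = v * (u * v) ^ (-1 : ℤ) := by
        rw [zpow_neg_one, mul_inv_rev_invol hu hu', ← mul_assoc, mul_self_eq_one hu', one_mul]
      have he : (u * v) ^ (-(j : ℤ)) * v * ((u * v) ^ (-(j : ℤ)))⁻¹ = u * z := by
        rw [zpow_conj_invol (mul_self_eq_one hu') hyv, hz', hm2, ← zpow_natCast]
        conv_rhs => arg 1; rw [hu_eq]
        rw [mul_assoc, ← zpow_add]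
        congr 2
        omega
      have hc : Commute u (u * z) := (Commute.refl u).mul_right hzu.symm
      have e3 : ((u * v) ^ (-(j : ℤ)) * g) * u * ((u * v) ^ (-(j : ℤ)) * g)⁻¹ = u * z := by
        rw [← he, hv]; group
      have := hcomm _ (e3 ▸ hc)
      rw [e3] at this
      exact ne_one hz (mul_eq_left.mp this)
  · intro h g hg
    have hu' : orderOf (g * u * g⁻¹) = 2 := (orderOf_conj_eq g u).trans hu
    have hkey : u * g * u⁻¹ * g⁻¹ = u * (g * u * g⁻¹) := by
      rw [inv_eq_self hu]
      group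
    have h1 := h g
    rw [hkey] at h1
    have hmem : u * (g * u * g⁻¹) ∈ (P : Subgroup G) := mul_mem huP hg
    haveI : Fact (Nat.Prime 2) := ⟨Nat.prime_two⟩
    obtain ⟨k, hk⟩ := IsPGroup.iff_orderOf.mp P.isPGroup' ⟨_, hmem⟩
    rw [Subgroup.orderOf_mk] at hk
    rcases Nat.eq_zero_or_pos k with rfl | hk0
    · rw [pow_zero, orderOf_eq_one_iff] at hk
      exact (eq_inv_of_mul_eq_one_right hk).trans (inv_eq_self hu)
    · exfalso
      rw [hk, Nat.odd_pow_iff hk0.ne'] at h1
      exact absurd h1 (by decide)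

end Cfsg.Agent.S0216
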