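import Cfsg.Statements.S0220
import Cfsg.Agent.Invol.SmallSylow
import Cfsg.Agent.Functor.Sylow
-- import your own Cfsg.Agent.* helpers here

set_option autoImplicit false
open Cfsg

namespace Cfsg.Agent.S0220

/-- If x is an involution of a finite group G and a Sylow 2-subgroup of the centralizer of x is cyclic, then G has a subgroup of index 2; in particular G is not simple unless it has order 2. -/
theorem result {G : Type*} [Group G] [Finite G] (x : G) (hx : orderOf x = 2) (S : Sylow 2 ↥(Subgroup.centralizer ({x} : Set G))) (hS : IsCyclic (S : Subgroup ↥(Subgroup.centralizer ({x} : Set G)))) : ∃ H : Subgroup G, H.index = 2 := by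
  open Subgroup CfsgLib in
  haveI : Fact (Nat.Prime 2) := ⟨Nat.prime_two⟩
  have key : ∀ (C : Subgroup G), C = centralizer ({x} : Set G) → ∀ S : Sylow 2 ↥C, IsCyclic (S : Subgroup ↥C) → ∃ H : Subgroup G, H.index = 2 := ?_
  · exact key _ rfl S hS
  intro C hC S hS
  set S' := (S : Subgroup ↥C).map C.subtype with hS'
  haveI : IsCyclic ↥S' := (((S : Subgroup ↥C).equivMapOfInjective C.subtype C.subtype_injective).isCyclic).1 hS
  have hSy : Functor.IsSylowIn 2 S' C := Functor.isSylowIn_map_subtype S
  have hxS : x ∈ S' := by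
    have hxC : x ∈ C := hC ▸ mem_centralizer_singleton_iff.2 rfl
    have hX : IsPGroup 2 ↥(zpowers x) := IsPGroup.iff_card.2 ⟨1, by rw [Nat.card_zpowers, hx, pow_one]⟩
    obtain ⟨n, hn, hle⟩ := hSy.exists_cj_le hX (zpowers_le.2 hxC)
    have h := hle ⟨x, mem_zpowers x, rfl⟩
    rwa [show (MulAut.conj n).toMonoidHom x = x from by
      show n * x * n⁻¹ = x
      rw [mem_centralizer_singleton_iff.1 (show n ∈ centralizer ({x} : Set G) by rw [← hC]; exact hn), mul_inv_cancel_right]] at h
  obtain ⟨T, hT⟩ := hSy.2.1.exists_le_sylow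
  refine CfsgLib.SmallSylow.exists_index_two_of_cyclic (even_iff_two_dvd.2 (hx ▸ _root_.orderOf_dvd_natCard x)) T ?_
  rcases eq_or_lt_of_le hT with he | hlt
  · rw [← he]; infer_instance
  · exfalso
    have h1 := Functor.lt_inf_normalizer T.2 hlt
    refine h1.ne (hSy.eq_of_le (T.2.to_le inf_le_left) ?_ h1.le)
    intro n hn
    rw [hC]
    refine mem_centralizer_singleton_iff.2 ?_
    have h2 : n * x * n⁻¹ ∈ S' := (mem_normalizer_iff.1 hn.2 x).1 hxS
    have hx2 : x ^ 2 = 1 := hx ▸ pow_orderOf_eq_one x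
    classical
    haveI := Fintype.ofFinite ↥S'
    by_contra hne
    have h3 := IsCyclic.card_pow_eq_one_le (α := ↥S') (n := 2) two_pos
    have hsub : ({1, ⟨x, hxS⟩, ⟨n * x * n⁻¹, h2⟩} : Finset ↥S') ⊆ Finset.univ.filter (fun a : ↥S' => a ^ 2 = 1) := by
      intro a ha
      simp only [Finset.mem_insert, Finset.mem_singleton] at ha
      simp only [Finset.mem_filter, Finset.mem_univ, true_and]
      rcases ha with rfl | rfl | rfl
      · simp
      · exact Subtype.ext hx2
      · refine Subtype.ext ?_
        show (n * x * n⁻¹) ^ 2 = 1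
        rw [conj_pow, hx2, mul_one, mul_inv_cancel]
    have h4 : ({1, ⟨x, hxS⟩, ⟨n * x * n⁻¹, h2⟩} : Finset ↥S').card = 3 := by
      have e1 : x ≠ 1 := fun e => by simp [e] at hx
      have e2 : x ≠ n * x * n⁻¹ := fun e => hne (mul_inv_eq_iff_eq_mul.1 e.symm)
      have e3 : n * x * n⁻¹ ≠ 1 := fun e => e1 (conj_eq_one_iff.1 e)
      rw [Finset.card_insert_of_notMem, Finset.card_insert_of_notMem, Finset.card_singleton]
      · simp only [Finset.mem_singleton]; exact fun e => e2 (congrArg Subtype.val e)
      · simp only [Finset.mem_insert, Finset.mem_singleton, not_or]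
        exact ⟨fun e => e1 (congrArg Subtype.val e).symm, fun e => e3 (congrArg Subtype.val e).symm⟩
    have h5 := Finset.card_le_card hsub
    omega

end Cfsg.Agent.S0220
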