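import Cfsg.Statements.S0224
import Mathlib.GroupTheory.Sylow
-- import your own Cfsg.Agent.* helpers here

set_option autoImplicit false
open Cfsg

namespace Cfsg.Agent.S0224

/-- Let H be a proper subgroup of even order of the finite group G. Then H is strongly embedded if and only if each involution of H fixes exactly one point (namely the coset H) in the action of G on the cosets of H. -/
theorem result {G : Type*} [Group G] [Finite G] (H : Subgroup G) (hH : H ≠ ⊤) (heven : Even (Nat.card H)) : Cfsg.IsStronglyEmbedded H ↔ ∀ t ∈ H, orderOf t = 2 → Nat.card {c : G ⧸ H // t • c = c} = 1 := by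
  open Subgroup in
  have hfix : ∀ (t g : G), t • (QuotientGroup.mk g : G ⧸ H) = QuotientGroup.mk g ↔ g⁻¹ * t⁻¹ * g ∈ H := by
    intro t g
    rw [MulAction.Quotient.smul_mk, QuotientGroup.eq, smul_eq_mul, mul_inv_rev, mul_assoc]
  constructor
  · rintro ⟨-, -, hodd⟩ t ht hto
    rw [Nat.card_eq_one_iff_unique]
    refine ⟨⟨fun c d => ?_⟩, ⟨⟨QuotientGroup.mk 1, (hfix t 1).2 (by simpa using inv_mem ht)⟩⟩⟩
    suffices ∀ c : {c : G ⧸ H // t • c = c}, c.1 = QuotientGroup.mk 1 from Subtype.ext ((this c).trans (this d).symm)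
    rintro ⟨c, hc⟩
    obtain ⟨g, rfl⟩ := QuotientGroup.mk_surjective c
    refine QuotientGroup.eq.2 ?_
    rw [mul_one]
    refine inv_mem ?_
    by_contra hg
    have h1 := (hfix t g).1 hc
    refine Nat.not_even_iff_odd.2 (hodd g hg) (even_iff_two_dvd.2 (hto ▸ orderOf_dvd_natCard _ ?_))
    exact ⟨ht, g⁻¹ * t * g, by simpa [mul_assoc] using inv_mem h1, by simp [mul_assoc]⟩
  · intro h
    refine ⟨hH, heven, fun g hg => Nat.not_even_iff_odd.1 fun hev => hg ?_⟩
    obtain ⟨w, ho⟩ := exists_prime_orderOf_dvd_card' 2 (hp := ⟨Nat.prime_two⟩) (even_iff_two_dvd.1 hev)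
    rw [← orderOf_coe] at ho
    have hs : (w : G) ∈ H := w.2.1
    obtain ⟨u, hu, hus⟩ := w.2.2
    generalize (w : G) = s at ho hs hus
    have hgu : g * u * g⁻¹ = s := hus
    haveI := (Nat.card_eq_one_iff_unique.1 (h s hs ho)).1
    have h1 : s • (QuotientGroup.mk g : G ⧸ H) = QuotientGroup.mk g :=
      (hfix s g).2 (by rw [← hgu]; simpa [mul_assoc] using inv_mem hu)
    have h2 : s • (QuotientGroup.mk (1 : G) : G ⧸ H) = QuotientGroup.mk 1 := (hfix s 1).2 (by simpa using inv_mem hs)
    have h3 := congrArg Subtype.val (Subsingleton.elim (⟨_, h2⟩ : {c : G ⧸ H // s • c = c}) ⟨_, h1⟩)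
    simpa using QuotientGroup.eq.1 h3

end Cfsg.Agent.S0224
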