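import Cfsg.Statements.S0229
import Cfsg.Agent.Invol.Isolated
-- import your own Cfsg.Agent.* helpers here

set_option autoImplicit false
open Cfsg

namespace Cfsg.Agent.S0229

/-- Let t be an involution of a Sylow 2-subgroup S of a finite group G, conjugate in G to no other element of S, and let s be an involution of G not conjugate to t. Then the order of st is twice an odd number. -/
theorem result {G : Type*} [Group G] [Finite G] (S : Sylow 2 G) (t : G) (ht : orderOf t = 2) (htS : t ∈ S) (hiso : ∀ g : G, g * t * g⁻¹ ∈ S → g * t * g⁻¹ = t) (s : G) (hs : orderOf s = 2) (hns : ¬ IsConj s t) : orderOf (s * t) % 4 = 2 := by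
  have hiso' := CfsgLib.Invol.isolated_of_sylow S ht hiso
  have heven := CfsgLib.Invol.even_orderOf_mul_of_not_isConj hs ht hns
  have hflip : orderOf (t * s) = orderOf (s * t) := by
    rw [← CfsgLib.Invol.mul_inv_rev_invol hs ht, orderOf_inv]
  obtain ⟨hw, hwt, hws⟩ := CfsgLib.Invol.half_props ht hs (hflip ▸ heven)
  obtain ⟨m, hm⟩ := heven
  by_contra h4
  have hm2 : Even m := by
    rcases Nat.even_or_odd m with h | ⟨j, hj⟩
    · exact h
    · omega
  obtain ⟨j, hj⟩ := hm2
  have he : (t * s) ^ (-(j : ℤ)) * t * ((t * s) ^ (-(j : ℤ)))⁻¹ =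
      t * (t * s) ^ (orderOf (t * s) / 2) := by
    rw [CfsgLib.Invol.zpow_conj_invol (CfsgLib.Invol.mul_self_eq_one ht)
      (CfsgLib.Invol.conj_mul_inv ht hs), ← zpow_natCast, hflip, hm]
    congr 2
    omega
  have h5 := hiso'.2 _ (he ▸ ((Commute.refl t).mul_right hwt.symm))
  rw [he] at h5
  exact CfsgLib.Invol.ne_one hw (mul_eq_left.mp h5)

end Cfsg.Agent.S0229
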