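import Mathlib.Tactic
import Cfsg.Statements.S0230
import Cfsg.Agent.Invol.Dihedral
import Mathlib.GroupTheory.GroupAction.Quotient
-- import your own Cfsg.Agent.* helpers here

set_option autoImplicit false
open Cfsg

namespace Cfsg.Agent.S0230

/-- Let G be a finite group with two non-conjugate involutions, and let t be an involution whose centralizer has maximal order among centralizers of involutions. Then |G| < |C_G(t)|^3. -/
theorem result {G : Type*} [Group G] [Finite G] (s t : G) (hs : orderOf s = 2) (ht : orderOf t = 2) (hnc : ¬ IsConj s t) (hmax : ∀ u : G, orderOf u = 2 → Nat.card (Subgroup.centralizer ({u} : Set G)) ≤ Nat.card (Subgroup.centralizer ({t} : Set G))) : Nat.card G < Nat.card (Subgroup.centralizer ({t} : Set G)) ^ 3 := by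
  classical
  set c := Nat.card (Subgroup.centralizer ({t} : Set G)) with hc
  have hcls : ∀ a : G, Nat.card (Subgroup.centralizer ({a} : Set G)) *
      Nat.card {b : G // IsConj a b} = Nat.card G := by
    intro a
    have h1 : Nat.card (MulAction.orbit (ConjAct G) a) *
        Nat.card (MulAction.stabilizer (ConjAct G) a) = Nat.card (ConjAct G) := by
      rw [← Nat.card_prod]
      exact Nat.card_congr (MulAction.orbitProdStabilizerEquivGroup (ConjAct G) a)
    rw [mul_comm, Nat.card_congr (ConjAct.toConjAct (G := G)).toEquiv, ← h1]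
    refine congrArg₂ _ (Nat.card_congr (Equiv.subtypeEquivRight fun b =>
        ⟨fun h => ConjAct.mem_orbit_conjAct.mpr h.symm,
          fun h => (ConjAct.mem_orbit_conjAct.mp h).symm⟩)) ?_
    exact Nat.card_congr (Equiv.subtypeEquiv (ConjAct.toConjAct (G := G)).toEquiv fun b => by
      rw [MulAction.mem_stabilizer_iff, Subgroup.mem_centralizer_singleton_iff]
      show b * a = a * b ↔ b * a * b⁻¹ = a
      exact mul_inv_eq_iff_eq_mul.symm)
  have hmap : ∀ p : {b : G // IsConj s b}, ∃ u : G, (u ∈ Subgroup.centralizer ({t} : Set G)) ∧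
      orderOf u = 2 ∧ (p : G) ∈ Subgroup.centralizer ({u} : Set G) ∧ (p : G) ≠ 1 := by
    rintro ⟨b, hb⟩
    obtain ⟨g, rfl⟩ := isConj_iff.mp hb
    have hb2 : orderOf (g * s * g⁻¹) = 2 := (CfsgLib.Invol.orderOf_conj_eq g s).trans hs
    obtain ⟨u, hu, hu1, hu2⟩ := CfsgLib.Invol.exists_commuting_invol hb2 ht
      (fun h => hnc (hb.trans h))
    exact ⟨u, Subgroup.mem_centralizer_singleton_iff.mpr hu2.eq, hu,
      Subgroup.mem_centralizer_singleton_iff.mpr hu1.symm.eq, CfsgLib.Invol.ne_one hb2⟩
  choose u hu1 hu2 hu3 hu4 using hmap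
  let T := {x : Subgroup.centralizer ({t} : Set G) // x ≠ 1}
  let C := fun x : T => {b : Subgroup.centralizer ({((x : Subgroup.centralizer ({t} : Set G)) : G)} : Set G) // b ≠ 1 ∧ orderOf ((x : Subgroup.centralizer ({t} : Set G)) : G) = 2}
  let f : {b : G // IsConj s b} → Σ x : T, C x := fun p =>
    ⟨⟨⟨u p, hu1 p⟩, fun h => CfsgLib.Invol.ne_one (hu2 p) (congrArg Subtype.val h)⟩,
      ⟨⟨p, hu3 p⟩, fun h => hu4 p (congrArg Subtype.val h), hu2 p⟩⟩
  have hf : Function.Injective f := fun p q h =>
    Subtype.ext (congrArg (fun z : Σ x : T, C x => (z.2.1 : G)) h)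
  haveI := Fintype.ofFinite T
  have h1 := Nat.card_le_card_of_injective f hf
  rw [Nat.card_sigma] at h1
  have hC : ∀ x : T, Nat.card (C x) ≤ c - 1 := by
    intro x
    by_cases hx : orderOf ((x : Subgroup.centralizer ({t} : Set G)) : G) = 2
    · haveI := Fintype.ofFinite (Subgroup.centralizer ({((x : Subgroup.centralizer ({t} : Set G)) : G)} : Set G))
      have h2 := hmax _ hx
      have h3 : Nat.card (C x) ≤ Nat.card (Subgroup.centralizer ({((x : Subgroup.centralizer ({t} : Set G)) : G)} : Set G)) - 1 := by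
        rw [Nat.card_eq_fintype_card (α := C x), Nat.card_eq_fintype_card]
        calc Fintype.card (C x) ≤ Fintype.card {b : Subgroup.centralizer ({((x : Subgroup.centralizer ({t} : Set G)) : G)} : Set G) // b ≠ 1} :=
              Fintype.card_le_of_injective (fun b => ⟨b.1, b.2.1⟩) (fun a b hab => Subtype.ext (congrArg Subtype.val hab :))
          _ = _ := by simp [Fintype.card_subtype_compl]
      omega
    · haveI : IsEmpty (C x) := ⟨fun b => hx b.2.2⟩
      simp
  have h4 : Nat.card T = c - 1 := by
    haveI := Fintype.ofFinite (Subgroup.centralizer ({t} : Set G))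
    rw [hc, Nat.card_eq_fintype_card, Nat.card_eq_fintype_card]
    simp [T, Fintype.card_subtype_compl]
  have h5 : Nat.card {b : G // IsConj s b} ≤ (c - 1) * (c - 1) := by
    refine h1.trans ((Finset.sum_le_card_nsmul _ _ (c - 1) fun x _ => hC x).trans ?_)
    rw [Finset.card_univ, ← Nat.card_eq_fintype_card, h4, smul_eq_mul]
  have hcpos : 0 < c := Nat.card_pos
  rw [← hcls s]
  calc _ ≤ c * ((c - 1) * (c - 1)) := Nat.mul_le_mul (hmax s hs) h5
    _ < c * (c * c) := Nat.mul_lt_mul_of_pos_left (Nat.mul_lt_mul_of_lt_of_lt (by omega) (by omega)) hcpos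
    _ = c ^ 3 := by ring

end Cfsg.Agent.S0230
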