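import Mathlib.Tactic
import Cfsg.Statements.S0231
import Cfsg.Agent.Invol.Dihedral
-- import your own Cfsg.Agent.* helpers here

set_option autoImplicit false
set_option linter.style.haveILetI false
open scoped Pointwise
open Cfsg
open scoped commutatorElement

namespace Cfsg.Agent.S0231

/-- Let T be a Sylow 2-subgroup of the finite group G which is not normal and which intersects every other Sylow 2-subgroup trivially. Then G has a single conjugacy class of involutions. -/
theorem result {G : Type*} [Group G] [Finite G] (T : Sylow 2 G) (hnn : ¬ (T : Subgroup G).Normal) (hTI : ∀ g : G, MulAut.conj g • (T : Subgroup G) ≠ T → MulAut.conj g • (T : Subgroup G) ⊓ T = ⊥) (s t : G) (hs : orderOf s = 2) (ht : orderOf t = 2) : IsConj s t := by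
  haveI : Fact (Nat.Prime 2) := ⟨Nat.prime_two⟩
  -- two Sylow subgroups with a common nontrivial element are equal
  have hTI' : ∀ R R' : Sylow 2 G, ∀ u : G, u ≠ 1 → u ∈ R → u ∈ R' → R = R' := by
    intro R R' u hu hR hR'
    obtain ⟨g, hg⟩ := MulAction.exists_smul_eq G R T
    obtain ⟨k, hk⟩ := MulAction.exists_smul_eq G (g • R') T
    have hR'T : (g • R' : Sylow 2 G) = T := by
      by_contra hne
      have h1 : g * u * g⁻¹ ∈ (T : Subgroup G) := by
        rw [← hg]; exact ⟨u, hR, rfl⟩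
      have h2 : g * u * g⁻¹ ∈ ((g • R' : Sylow 2 G) : Subgroup G) := ⟨u, hR', rfl⟩
      have h3 : g • R' = k⁻¹ • T := by rw [← hk, inv_smul_smul]
      have h4 := hTI k⁻¹ (fun h => hne (h3.trans (Sylow.ext h)))
      rw [h3] at h2
      have h5 : g * u * g⁻¹ ∈ MulAut.conj k⁻¹ • (T : Subgroup G) ⊓ (T : Subgroup G) := ⟨h2, h1⟩
      rw [h4, Subgroup.mem_bot] at h5
      exact hu (conj_eq_one_iff.mp h5)
    exact MulAction.injective g (hg.trans hR'T.symm)
  -- non-conjugate involutions lie in one Sylow subgroup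
  have hpair : ∀ a b : G, orderOf a = 2 → orderOf b = 2 → ¬ IsConj a b →
      ∃ R : Sylow 2 G, a ∈ R ∧ b ∈ R := by
    intro a b ha hb hne
    obtain ⟨u, hu, hua, hub⟩ := CfsgLib.Invol.exists_commuting_invol ha hb hne
    have hp : ∀ c : G, orderOf c = 2 → Commute u c → ∃ R : Sylow 2 G, c ∈ R ∧ u ∈ R := by
      intro c hc huc
      have h1 : IsPGroup 2 (Subgroup.zpowers c) :=
        IsPGroup.of_card (n := 1) (by rw [Nat.card_zpowers, hc, pow_one])
      have h2 : IsPGroup 2 (Subgroup.zpowers u) :=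
        IsPGroup.of_card (n := 1) (by rw [Nat.card_zpowers, hu, pow_one])
      have hle : Subgroup.zpowers c ≤ Subgroup.normalizer (Subgroup.zpowers u : Set G) := by
        refine le_trans ?_ (Subgroup.centralizer_le_normalizer _)
        rw [Subgroup.zpowers_le, Subgroup.mem_centralizer_iff]
        intro e he
        obtain ⟨k, rfl⟩ := Subgroup.mem_zpowers_iff.mp he
        exact (huc.zpow_left k).eq
      obtain ⟨R, hR⟩ := (IsPGroup.to_sup_of_normal_right' h1 h2 hle).exists_le_sylow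
      exact ⟨R, hR (Subgroup.mem_sup_left (Subgroup.mem_zpowers c)),
        hR (Subgroup.mem_sup_right (Subgroup.mem_zpowers u))⟩
    obtain ⟨R, hRa, hRu⟩ := hp a ha hua
    obtain ⟨R', hRb, hRu'⟩ := hp b hb hub
    exact ⟨R, hRa, (hTI' R R' u (CfsgLib.Invol.ne_one hu) hRu hRu') ▸ hRb⟩
  by_contra hne
  obtain ⟨R, hsR, htR⟩ := hpair s t hs ht hne
  obtain ⟨g, hg⟩ : ∃ g : G, g * t * g⁻¹ ∉ R := by
    by_contra hcon
    push Not at hcon
    obtain ⟨g₀, hg₀⟩ := MulAction.exists_smul_eq G R T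
    have hnR : ∀ g : G, g • R = R := by
      intro g
      refine hTI' _ _ (g * t * g⁻¹) ?_ ⟨t, htR, rfl⟩ (hcon g)
      intro h
      exact CfsgLib.Invol.ne_one ht (conj_eq_one_iff.mp h)
    have hTeq : T = R := hg₀ ▸ hnR g₀
    exact hnn (hTeq ▸ Subgroup.normalizer_eq_top_iff.mp
      (eq_top_iff.mpr fun g _ => Sylow.smul_eq_iff_mem_normalizer.mp (hnR g)))
  obtain ⟨R', hsR', htR'⟩ := hpair s (g * t * g⁻¹) hs
    ((CfsgLib.Invol.orderOf_conj_eq g t).trans ht)
    (fun h => hne (h.trans (isConj_iff.mpr ⟨g, rfl⟩).symm))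
  exact hg ((hTI' R R' s (CfsgLib.Invol.ne_one hs) hsR hsR') ▸ htR')

end Cfsg.Agent.S0231
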