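import Cfsg.Statements.S0233
import Cfsg.Agent.Invol.BrauerFowler
-- import your own Cfsg.Agent.* helpers here

set_option autoImplicit false
open Cfsg

namespace Cfsg.Agent.S0233

/-- Let G be a finite group of even order with exactly n involutions whose centre has odd order, and put a = |G|/n. Then G has a proper subgroup H with |G : H| = 2 or |G : H| < a(a+1)/2; over ℕ the latter reads 2·|G:H|·n² < |G|·(|G| + n). -/
theorem result {G : Type*} [Group G] [Finite G] (heven : Even (Nat.card G)) (hZ : Odd (Nat.card (Subgroup.center G))) : ∃ H : Subgroup G, H ≠ ⊤ ∧ (H.index = 2 ∨ 2 * H.index * (Nat.card {t : G // orderOf t = 2}) ^ 2 < Nat.card G * (Nat.card G + Nat.card {t : G // orderOf t = 2})) := by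
  haveI : Nontrivial G := Finite.one_lt_card_iff_nontrivial.1 (by
    have := Nat.card_pos (α := G); obtain ⟨k, hk⟩ := heven; omega)
  obtain ⟨H, hH, hmax⟩ := CfsgLib.BrauerFowler.exists_max_proper (G := G)
  rcases CfsgLib.BrauerFowler.main_estimate heven (fun z hz2 hzc => by
      have h := Subgroup.orderOf_dvd_natCard (Subgroup.center G) hzc
      rw [hz2] at h
      exact (Nat.not_even_iff_odd.2 hZ) (even_iff_two_dvd.2 h)) hmax with ⟨K, hK⟩ | hlt
  · exact ⟨K, fun e => by rw [e, Subgroup.index_top] at hK; omega, Or.inl hK⟩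
  · refine ⟨H, hH, Or.inr ?_⟩
    have h1 := Nat.mul_lt_mul_of_pos_right hlt (Nat.pos_of_ne_zero (Subgroup.index_ne_zero_of_finite (H := H)))
    calc 2 * H.index * Nat.card {t : G // orderOf t = 2} ^ 2
        = 2 * Nat.card {t : G // orderOf t = 2} ^ 2 * H.index := by ring
      _ < _ := h1
      _ = _ := by rw [mul_right_comm, H.card_mul_index]

end Cfsg.Agent.S0233
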