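import Cfsg.Statements.S0234
import Cfsg.Agent.Invol.BrauerFowler
import Cfsg.Agent.SmallSimple.Basic
-- import your own Cfsg.Agent.* helpers here

set_option autoImplicit false
open Cfsg

namespace Cfsg.Agent.S0234

/-- In a finite simple group G of even order greater than 2, the number n of involutions satisfies 3n < |G|. -/
theorem result {G : Type*} [Group G] [Finite G] [IsSimpleGroup G] (heven : Even (Nat.card G)) (hgt : 2 < Nat.card G) : 3 * Nat.card {t : G // orderOf t = 2} < Nat.card G := by
  by_contra hcon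
  push Not at hcon
  set n := Nat.card {t : G // orderOf t = 2}
  have hG : ¬ IsMulCommutative G := fun h => by
    obtain ⟨t, ht⟩ := exists_prime_orderOf_dvd_card' (G := G) 2 heven.two_dvd
    haveI hn : (Subgroup.zpowers t).Normal :=
      ⟨fun a ha g => by rw [h.1.1 g a, mul_inv_cancel_right]; exact ha⟩
    rcases IsSimpleGroup.eq_bot_or_eq_top_of_normal _ hn with e | e <;>
      have := congrArg (fun K : Subgroup G => Nat.card K) e <;>
      simp only [Nat.card_zpowers, ht, Subgroup.card_top, Subgroup.card_bot] at this <;> omega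
  have hno : ∀ K : Subgroup G, K.index ≠ 2 := fun K hK => by
    rcases IsSimpleGroup.eq_bot_or_eq_top_of_normal K (Subgroup.normal_of_index_eq_two hK) with h | h
    · rw [h, Subgroup.index_bot] at hK; omega
    · rw [h, Subgroup.index_top] at hK; omega
  have hz : ∀ z : G, orderOf z = 2 → z ∉ Subgroup.center G := fun z hz2 hzc => by
    rcases IsSimpleGroup.eq_bot_or_eq_top_of_normal (Subgroup.center G) inferInstance with h | h
    · rw [h, Subgroup.mem_bot] at hzc; simp [hzc] at hz2
    · exact hG ⟨⟨fun a b => (Subgroup.mem_center_iff.1 (h ▸ Subgroup.mem_top b : b ∈ Subgroup.center G) a)⟩⟩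
  obtain ⟨H, hH, hmax⟩ := CfsgLib.BrauerFowler.exists_max_proper (G := G)
  have hlt := (CfsgLib.BrauerFowler.main_estimate heven hz hmax).resolve_left fun ⟨K, hK⟩ => hno K hK
  have hidx : H.index ≤ 5 := by
    have h1 := Nat.mul_lt_mul_of_pos_right hlt (Nat.pos_of_ne_zero (Subgroup.index_ne_zero_of_finite (H := H)))
    rw [mul_right_comm (Nat.card H), H.card_mul_index] at h1
    have h2 : Nat.card G * (Nat.card G + n) ≤ 3 * n * (4 * n) := Nat.mul_le_mul hcon (by omega)
    by_contra h5
    push Not at h5
    have h3 : 2 * n ^ 2 * 6 ≤ 2 * n ^ 2 * H.index := Nat.mul_le_mul_left _ h5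
    rw [show Nat.card {t : G // orderOf t = 2} = n from rfl] at h1
    nlinarith
  obtain ⟨f, hf⟩ := CfsgLib.SmallSimple.exists_hom_alternating hG H hH
  obtain ⟨g, hg⟩ : ∃ g : G →* alternatingGroup (Fin 5), Function.Injective g := by
    refine ⟨((Equiv.Perm.viaEmbeddingHom (Fin.castLEEmb hidx)).comp
      ((alternatingGroup (Fin H.index)).subtype.comp f)).codRestrict _ fun a => ?_, ?_⟩
    · exact Equiv.Perm.mem_alternatingGroup.2 (CfsgLib.SmallSimple.sign_eq_one hG
        ((Equiv.Perm.viaEmbeddingHom (Fin.castLEEmb hidx)).comp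
          ((alternatingGroup (Fin H.index)).subtype.comp f)) a)
    · intro a b hab
      exact hf (Subtype.ext (Equiv.Perm.viaEmbeddingHom_injective _ (congrArg Subtype.val hab)))
  have h60 : Nat.card (alternatingGroup (Fin 5)) = 60 := by
    rw [nat_card_alternatingGroup, Nat.card_fin]; rfl
  have hn15 : n ≤ 15 := by
    have h15 : Nat.card {t : alternatingGroup (Fin 5) // t * t = 1 ∧ t ≠ 1} = 15 := by
      rw [Nat.card_eq_fintype_card]; decide +kernel
    rw [← h15]
    refine Nat.card_le_card_of_injective (fun t => ⟨g t.1, ?_, ?_⟩) fun t t' h => Subtype.ext (hg (congrArg Subtype.val h))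
    · rw [← map_mul, CfsgLib.Invol.mul_self_eq_one t.2, map_one]
    · exact fun h => CfsgLib.Invol.ne_one t.2 (hg (h.trans (map_one g).symm))
  by_cases hgs : g.range = ⊤
  · have := (Nat.card_congr (MonoidHom.ofInjective hg).toEquiv)
    rw [hgs, Subgroup.card_top, h60] at this
    omega
  · have h5 : 5 ≤ g.range.index := by
      by_contra hl
      push Not at hl
      haveI : IsSimpleGroup (alternatingGroup (Fin 5)) := inferInstance
      have hd := Nat.le_of_dvd (Nat.factorial_pos _) (CfsgLib.SmallSimple.card_dvd_factorial g.range hgs)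
      rw [h60] at hd
      have h24 : g.range.index.factorial ≤ 24 := (Nat.factorial_le (show g.range.index ≤ 4 by omega)).trans_eq rfl
      omega
    have hcard := g.range.card_mul_index
    rw [h60, ← Nat.card_congr (MonoidHom.ofInjective hg).toEquiv] at hcard
    have hle : Nat.card G ≤ 12 := by nlinarith
    have hd : Nat.card G ∣ H.index.factorial := CfsgLib.SmallSimple.card_dvd_factorial H hH
    have hd60 : Nat.card G ∈ Nat.divisors 60 := Nat.mem_divisors.2 ⟨⟨g.range.index, hcard.symm⟩, by norm_num⟩
    rw [show Nat.divisors 60 = {1, 2, 3, 4, 5, 6, 10, 12, 15, 20, 30, 60} by decide] at hd60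
    simp only [Finset.mem_insert, Finset.mem_singleton] at hd60
    obtain ⟨k, hk⟩ := heven
    haveI := Fact.mk Nat.prime_two
    haveI := Fact.mk Nat.prime_three
    haveI : Fact (Nat.Prime 5) := ⟨by norm_num⟩
    have hsub : ∀ (p j : ℕ) [Fact p.Prime], p ^ j ∣ Nat.card G → ∃ K : Subgroup G, Nat.card K = p ^ j ∧ K.index * p ^ j = Nat.card G :=
      fun p j _ hp => by
        obtain ⟨K, hK⟩ := Sylow.exists_subgroup_card_pow_prime p hp
        exact ⟨K, hK, hK ▸ K.index_mul_card⟩
    have hcases : Nat.card G = 4 ∨ Nat.card G = 6 ∨ Nat.card G = 10 ∨ Nat.card G = 12 := by omega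
    rcases hcases with e | e | e | e
    · obtain ⟨K, -, hKi⟩ := hsub 2 1 (by rw [e]; norm_num)
      exact hno K (by omega)
    · obtain ⟨K, -, hKi⟩ := hsub 3 1 (by rw [e]; norm_num)
      exact hno K (by omega)
    · obtain ⟨K, -, hKi⟩ := hsub 5 1 (by rw [e]; norm_num)
      exact hno K (by omega)
    · obtain ⟨K, -, hKi⟩ := hsub 2 2 (by rw [e]; norm_num)
      have h3 : K.index = 3 := by omega
      have := CfsgLib.SmallSimple.card_dvd_factorial K (fun e' => by rw [e', Subgroup.index_top] at h3; omega)
      rw [h3, e] at this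
      norm_num [Nat.factorial] at this

end Cfsg.Agent.S0234
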