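import Cfsg.Statements.S0235
-- import your own Cfsg.Agent.* helpers here

set_option autoImplicit false
open Cfsg

namespace Cfsg.Agent.S0235

/-- If x² ≠ 1, the ordered pairs (u, v) of involutions with uv = x correspond bijectively to the involutions t with t x t⁻¹ = x⁻¹ (via (u, v) ↦ u), so the two counts agree. -/
theorem result {G : Type*} [Group G] [Finite G] (x : G) (hx : x ^ 2 ≠ 1) : Nat.card {p : G × G // orderOf p.1 = 2 ∧ orderOf p.2 = 2 ∧ p.1 * p.2 = x} = Nat.card {t : G // orderOf t = 2 ∧ t * x * t⁻¹ = x⁻¹} := by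
  refine Nat.card_congr
    { toFun := fun p => ⟨p.1.1, p.2.1, ?_⟩
      invFun := fun t => ⟨(t.1, t.1 * x), t.2.1, ?_, ?_⟩
      left_inv := ?_
      right_inv := fun t => rfl }
  · obtain ⟨⟨u, v⟩, hu, hv, huv⟩ := p
    show u * x * u⁻¹ = x⁻¹
    have hu' : u⁻¹ = u := inv_eq_of_mul_eq_one_right (by rw [← sq, ← hu, pow_orderOf_eq_one])
    have hv' : v⁻¹ = v := inv_eq_of_mul_eq_one_right (by rw [← sq, ← hv, pow_orderOf_eq_one])
    rw [← huv, mul_inv_rev, hv', hu', ← mul_assoc, ← sq, ← hu, pow_orderOf_eq_one, one_mul]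
  · obtain ⟨t, ht, htx⟩ := t
    show orderOf (t * x) = 2
    have htt : t * t = 1 := by rw [← sq, ← ht, pow_orderOf_eq_one]
    refine orderOf_eq_prime ?_ ?_
    · rw [inv_eq_of_mul_eq_one_right htt] at htx
      calc (t * x) ^ 2 = t * x * t * x := by rw [sq, ← mul_assoc]
        _ = 1 := by rw [htx, inv_mul_cancel]
    · intro h
      apply hx
      rw [← inv_eq_of_mul_eq_one_right h, inv_eq_of_mul_eq_one_right htt, sq, htt]
  · obtain ⟨t, ht, htx⟩ := t
    show t * (t * x) = x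
    rw [← mul_assoc, ← sq, ← ht, pow_orderOf_eq_one, one_mul]
  · rintro ⟨⟨u, v⟩, hu, hv, huv⟩
    refine Subtype.ext (Prod.ext rfl ?_)
    show u * x = v
    rw [← huv, ← mul_assoc, ← sq, ← hu, pow_orderOf_eq_one, one_mul]

end Cfsg.Agent.S0235
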