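import Cfsg.Statements.S0236
-- import your own Cfsg.Agent.* helpers here

set_option autoImplicit false
open Cfsg

namespace Cfsg.Agent.S0236

/-- If x is an involution, the number of ordered pairs (u, v) of involutions with uv = x, plus one, equals the number of involutions in the centralizer of x. -/
theorem result {G : Type*} [Group G] [Finite G] (x : G) (hx : orderOf x = 2) : Nat.card {p : G × G // orderOf p.1 = 2 ∧ orderOf p.2 = 2 ∧ p.1 * p.2 = x} + 1 = Nat.card {t : G // orderOf t = 2 ∧ Commute t x} := by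
  classical
  have hxx : x * x = 1 := by rw [← sq, ← hx, pow_orderOf_eq_one]
  have e : {p : G × G // orderOf p.1 = 2 ∧ orderOf p.2 = 2 ∧ p.1 * p.2 = x} ≃
      {t : {t : G // orderOf t = 2 ∧ Commute t x} // t ≠ ⟨x, hx, Commute.refl x⟩} := by
    refine
      { toFun := fun p => ⟨⟨p.1.1, p.2.1, ?_⟩, ?_⟩
        invFun := fun t => ⟨(t.1.1, t.1.1 * x), t.1.2.1, ?_, ?_⟩
        left_inv := ?_
        right_inv := fun t => rfl }
    · obtain ⟨⟨u, v⟩, hu, hv, huv⟩ := p
      show u * x = x * u
      have hu' : u⁻¹ = u := inv_eq_of_mul_eq_one_right (by rw [← sq, ← hu, pow_orderOf_eq_one])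
      have hv' : v⁻¹ = v := inv_eq_of_mul_eq_one_right (by rw [← sq, ← hv, pow_orderOf_eq_one])
      have h1 : x * u = u * (v * u) := by rw [← huv, mul_assoc]
      have h2 : v * u = x := by
        rw [← inv_eq_of_mul_eq_one_right hxx, ← huv, mul_inv_rev, hu', hv']
      rw [h1, h2]
    · obtain ⟨⟨u, v⟩, hu, hv, huv⟩ := p
      intro h
      have hux : u = x := congrArg Subtype.val h
      rw [hux, mul_eq_left] at huv
      subst huv
      simp at hv
    · obtain ⟨⟨t, ht, htx⟩, hne⟩ := t
      show orderOf (t * x) = 2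
      have htt : t * t = 1 := by rw [← sq, ← ht, pow_orderOf_eq_one]
      refine orderOf_eq_prime (by rw [htx.mul_pow, sq, sq, htt, hxx, one_mul]) ?_
      intro h
      apply hne
      apply Subtype.ext
      show t = x
      exact (eq_inv_of_mul_eq_one_left h).trans (inv_eq_of_mul_eq_one_right hxx)
    · obtain ⟨⟨t, ht, htx⟩, hne⟩ := t
      show t * (t * x) = x
      rw [← mul_assoc, ← sq, ← ht, pow_orderOf_eq_one, one_mul]
    · rintro ⟨⟨u, v⟩, hu, hv, huv⟩
      refine Subtype.ext (Prod.ext rfl ?_)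
      show u * x = v
      rw [← huv, ← mul_assoc, ← sq, ← hu, pow_orderOf_eq_one, one_mul]
  haveI := Fintype.ofFinite {t : G // orderOf t = 2 ∧ Commute t x}
  rw [Nat.card_congr e, Nat.card_eq_fintype_card, Fintype.card_subtype_compl,
    Fintype.card_subtype_eq, Nat.card_eq_fintype_card]
  exact Nat.sub_add_cancel (Fintype.card_pos_iff.mpr ⟨⟨x, hx, Commute.refl x⟩⟩)

end Cfsg.Agent.S0236
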