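import Cfsg.Statements.S0239
import Mathlib.Tactic.Group
import Mathlib.GroupTheory.OrderOfElement
-- import your own Cfsg.Agent.* helpers here

set_option autoImplicit false
open Cfsg

namespace Cfsg.Agent.S0239

/-- If some nontrivial element x of a finite group G is conjugate to x⁻¹, then |G| is even. -/
theorem result {G : Type*} [Group G] [Finite G] (x : G) (hx : x ≠ 1) (hreal : IsConj x x⁻¹) : Even (Nat.card G) := by
  by_contra hodd
  rw [Nat.not_even_iff_odd] at hodd
  obtain ⟨g, hg⟩ := isConj_iff.mp hreal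
  have h2 : g ^ 2 * x * (g ^ 2)⁻¹ = x := by
    have : g * (g * x * g⁻¹) * g⁻¹ = x := by
      rw [hg, ← conj_inv, hg, inv_inv]
    calc g ^ 2 * x * (g ^ 2)⁻¹ = g * (g * x * g⁻¹) * g⁻¹ := by rw [sq, mul_inv_rev]; simp only [mul_assoc]
      _ = x := this
  obtain ⟨m, hm⟩ := hodd
  have hc : Commute (g ^ 2) x := mul_inv_eq_iff_eq_mul.mp h2
  have hg' : g = (g ^ 2) ^ (m + 1) := by
    rw [← pow_mul, show 2 * (m + 1) = Nat.card G + 1 by omega, pow_succ, pow_card_eq_one', one_mul]
  have hcg : Commute g x := hg' ▸ hc.pow_left _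
  rw [hcg.eq, mul_inv_cancel_right] at hg
  apply hx
  have hxx : x ^ 2 = 1 := by rw [sq]; exact eq_inv_iff_mul_eq_one.mp hg
  have := pow_card_eq_one' (x := x)
  rwa [hm, pow_succ, pow_mul, hxx, one_pow, one_mul] at this

end Cfsg.Agent.S0239
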