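import Cfsg.Statements.S0240
-- import your own Cfsg.Agent.* helpers here

set_option autoImplicit false
open Cfsg

namespace Cfsg.Agent.S0240

/-- Let G be a finite group with n involutions and H a subgroup with |H|·(n+1) > |G|. Then some nontrivial h ∈ H is strongly real in G: an involution t of G satisfies t h t⁻¹ = h⁻¹. -/
theorem result {G : Type*} [Group G] [Finite G] (H : Subgroup G) (hH : Nat.card G < Nat.card H * (Nat.card {t : G // orderOf t = 2} + 1)) : ∃ h : G, h ∈ H ∧ h ≠ 1 ∧ ∃ t : G, orderOf t = 2 ∧ t * h * t⁻¹ = h⁻¹ := by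
  classical
  haveI := Fintype.ofFinite G
  haveI := Fintype.ofFinite H
  by_contra hcon
  push Not at hcon
  have hinj : Function.Injective
      (fun p : H × Option {t : G // orderOf t = 2} => (p.1 : G) * (p.2.elim 1 Subtype.val)) := by
    have key : ∀ (h : G) (t : G), h ∈ H → orderOf t = 2 → h = t → False := by
      intro h t hh ht he
      subst he
      refine hcon h hh (fun h1 => by simp [h1] at ht) h ht ?_
      rw [mul_inv_cancel_right]
      exact (inv_eq_of_mul_eq_one_right (by rw [← sq, ← ht, pow_orderOf_eq_one])).symm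
    rintro ⟨h, o⟩ ⟨h', o'⟩ he
    simp only at he
    rcases o with _ | ⟨t, ht⟩ <;> rcases o' with _ | ⟨t', ht'⟩ <;>
      simp only [Option.elim_none, Option.elim_some, mul_one] at he
    · simp [Subtype.ext he]
    · exact (key _ t' (mul_mem (inv_mem h'.2) h.2) ht' (inv_mul_eq_iff_eq_mul.mpr he)).elim
    · exact (key _ t (mul_mem (inv_mem h.2) h'.2) ht (inv_mul_eq_iff_eq_mul.mpr he.symm)).elim
    · by_cases htt : t = t'
      · subst htt
        rw [mul_right_cancel_iff] at he
        simp [Subtype.ext he]
      · exfalso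
        set k := ((h' : G))⁻¹ * h with hk
        have hkt : k = t' * t := by
          have hti : t⁻¹ = t := inv_eq_of_mul_eq_one_right (by rw [← sq, ← ht, pow_orderOf_eq_one])
          rw [hk, inv_mul_eq_iff_eq_mul, ← mul_assoc, ← he]
          conv_rhs => rw [mul_assoc, ← sq, ← ht, pow_orderOf_eq_one, mul_one]
        refine hcon k (mul_mem (inv_mem h'.2) h.2) ?_ t ht ?_
        · intro h1
          rw [hkt] at h1
          apply htt
          rw [eq_inv_of_mul_eq_one_right h1]
          exact inv_eq_of_mul_eq_one_right (by rw [← sq, ← ht', pow_orderOf_eq_one])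
        · rw [hkt, mul_inv_rev, inv_eq_of_mul_eq_one_right
            (show t * t = 1 by rw [← sq, ← ht, pow_orderOf_eq_one]),
            inv_eq_of_mul_eq_one_right (show t' * t' = 1 by rw [← sq, ← ht', pow_orderOf_eq_one]),
            mul_assoc t (t' * t), mul_assoc t' t, ← sq t, ← ht, pow_orderOf_eq_one, mul_one]
  have h1 := Nat.card_le_card_of_injective _ hinj
  rw [Nat.card_prod, Finite.card_option] at h1
  omega

end Cfsg.Agent.S0240
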