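import Mathlib.Tactic
import Cfsg.Statements.S0241
-- import your own Cfsg.Agent.* helpers here

set_option autoImplicit false
open Cfsg

namespace Cfsg.Agent.S0241

/-- If x ≠ 1 is conjugate to x⁻¹ in a finite group G and |C_G(x)| is odd, then some involution t satisfies t x t⁻¹ = x⁻¹. -/
theorem result {G : Type*} [Group G] [Finite G] (x : G) (hx : x ≠ 1) (hreal : IsConj x x⁻¹) (hodd : Odd (Nat.card (Subgroup.centralizer ({x} : Set G)))) : ∃ t : G, orderOf t = 2 ∧ t * x * t⁻¹ = x⁻¹ := by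
  classical
  obtain ⟨g, hg⟩ := isConj_iff.mp hreal
  have hx2 : x⁻¹ ≠ x := by
    intro h
    have h2 : orderOf x = 2 :=
      orderOf_eq_prime (by rw [sq]; exact eq_inv_iff_mul_eq_one.mp h.symm) hx
    have h3 := Subgroup.orderOf_dvd_natCard (Subgroup.centralizer ({x} : Set G))
      (Subgroup.mem_centralizer_singleton_iff.mpr rfl : x ∈ _)
    rw [h2] at h3
    exact (Nat.not_even_iff_odd.mpr hodd) (even_iff_two_dvd.mpr h3)
  have hg2 : Commute (g ^ 2) x := by
    have h1 : g * x⁻¹ * g⁻¹ = x := by rw [← conj_inv, hg, inv_inv]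
    show g ^ 2 * x = x * g ^ 2
    calc g ^ 2 * x = g * (g * x * g⁻¹) * g := by rw [sq]; group
      _ = g * x⁻¹ * g := by rw [hg]
      _ = g * x⁻¹ * g⁻¹ * g ^ 2 := by rw [sq]; group
      _ = x * g ^ 2 := by rw [h1]
  obtain ⟨j, hj⟩ : Odd (orderOf (g ^ 2)) := by
    refine hodd.of_dvd_nat ?_
    exact Subgroup.orderOf_dvd_natCard _ (Subgroup.mem_centralizer_singleton_iff.mpr hg2.eq)
  have hm : g ^ orderOf (g ^ 2) * x * (g ^ orderOf (g ^ 2))⁻¹ = x⁻¹ := by
    rw [hj, pow_succ', pow_mul, mul_inv_rev, ← mul_assoc, mul_assoc g _ x,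
      (hg2.pow_left j).eq, ← mul_assoc, mul_inv_cancel_right, hg]
  refine ⟨_, orderOf_eq_prime ?_ ?_, hm⟩
  · rw [← pow_mul, mul_comm, pow_mul, pow_orderOf_eq_one]
  · intro h1
    rw [h1, one_mul, inv_one, mul_one] at hm
    exact hx2 hm.symm

end Cfsg.Agent.S0241
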