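import Cfsg.Statements.S0244
import Cfsg.Agent.Classical.SymplecticBasic
-- import your own Cfsg.Agent.* helpers here

set_option autoImplicit false
open Cfsg

namespace Cfsg.Agent.S0244

/-- Sp_2 = SL_2: a matrix on Fin 1 ⊕ Fin 1 lies in Mathlib's symplectic group iff its determinant is 1. -/
theorem result {R : Type*} [CommRing R] (A : Matrix (Fin 1 ⊕ Fin 1) (Fin 1 ⊕ Fin 1) R) : A ∈ Matrix.symplecticGroup (Fin 1) R ↔ A.det = 1 := by
  have h : ∀ u v, CfsgLib.Symp.form (A.mulVec u) (A.mulVec v) =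
      A.det * CfsgLib.Symp.form u v := by
    intro u v
    have hd : A.det = A (Sum.inl 0) (Sum.inl 0) * A (Sum.inr 0) (Sum.inr 0) -
        A (Sum.inl 0) (Sum.inr 0) * A (Sum.inr 0) (Sum.inl 0) := by
      rw [← Matrix.det_submatrix_equiv_self finSumFinEquiv.symm A, Matrix.det_fin_two]
      rfl
    rw [hd]
    simp [CfsgLib.Symp.form_apply, Matrix.mulVec, dotProduct, Fintype.sum_sum_type]
    ring
  rw [CfsgLib.Symp.mem_iff_form]
  constructor
  · intro hA
    have := (h (Pi.single (Sum.inr 0) 1) (Pi.single (Sum.inl 0) 1)).symm.trans (hA _ _)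
    simpa [CfsgLib.Symp.form_single_inr] using this
  · intro hd u v
    rw [h, hd, one_mul]

end Cfsg.Agent.S0244
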