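import Cfsg.Statements.S0286
import Cfsg.Agent.Quad.Orders
-- import your own Cfsg.Agent.* helpers here

set_option autoImplicit false
open Cfsg

namespace Cfsg.Agent.S0286

/-- |GO_{2m+1}(q)| = 2 q^(m^2) prod_{i=1}^{m} (q^(2i) - 1) for q odd. -/
theorem result {F : Type*} [Field F] [Fintype F] {q : ℕ} (hF : Fintype.card F = q) (hodd : Odd q) (m : ℕ) : Nat.card (Cfsg.isometryGroup F (Cfsg.quadFormOdd m F)) = 2 * q ^ (m ^ 2) * ∏ i ∈ Finset.range m, (q ^ (2 * (i + 1)) - 1) := by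
  have hq : Nat.card F = q := by rw [Nat.card_eq_fintype_card, hF]
  have hq1 : 1 ≤ q := hq ▸ Nat.card_pos
  have h2 : (2 : F) ≠ 0 := fun h2 => by
    haveI : CharP F 2 := CharTwo.of_one_ne_zero_of_two_eq_zero one_ne_zero h2
    have := FiniteField.even_card_of_char_two (F := F) (ringChar.eq F 2)
    rw [hF] at this
    exact Nat.not_even_iff_odd.mpr hodd (Nat.even_iff.mpr this)
  rw [← CfsgLib.Quad.oddQ_coe, Nat.card_congr (CfsgLib.Quad.isoGroupEquiv _).toEquiv]
  zify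
  rw [CfsgLib.Quad.card_oGroup_odd hq h2 m]
  congr 1
  push_cast [Nat.one_le_pow _ q hq1]
  rfl

end Cfsg.Agent.S0286
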