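import Cfsg.Statements.S0295
import Cfsg.Agent.Quad.POmega
-- import your own Cfsg.Agent.* helpers here

set_option autoImplicit false
open Cfsg

namespace Cfsg.Agent.S0295

/-- PΩ_{2m+1}(q) is simple for q odd and m at least 3. -/
theorem result {F : Type*} [Field F] [Fintype F] (hodd : Odd (Fintype.card F)) (m : ℕ) (hm : 3 ≤ m) : IsSimpleGroup (Cfsg.POmega F (Cfsg.quadFormOdd m F)) := by
  have h2 : (2 : F) ≠ 0 := by
    intro e
    haveI : CharP F 2 := CharTwo.of_one_ne_zero_of_two_eq_zero one_ne_zero e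
    have h0 := FiniteField.even_card_of_char_two (F := F) (ringChar.eq F 2)
    rcases hodd with ⟨r, hr⟩
    omega
  rw [← CfsgLib.Quad.oddQ_coe]
  exact @MulEquiv.isSimpleGroup _ _ _ _ (CfsgLib.Quad.isSimpleGroup_omega (CfsgLib.Quad.oddQ_nondeg h2 m) (by simp; omega)) (CfsgLib.Quad.pOmegaEquiv _)

end Cfsg.Agent.S0295
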