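import Cfsg.Statements.S0301
import Cfsg.Agent.Quad.KleinSymp
-- import your own Cfsg.Agent.* helpers here

set_option autoImplicit false
open Cfsg

namespace Cfsg.Agent.S0301

/-- PΩ_5(q) is isomorphic to PSp_4(q) for q odd. -/
theorem result {F : Type*} [Field F] [Fintype F] (hodd : Odd (Fintype.card F)) : Nonempty (Cfsg.POmega F (Cfsg.quadFormOdd 2 F) ≃* Cfsg.PSp 2 F) := by
  have h2 : (2 : F) ≠ 0 := by
    intro e
    haveI : CharP F 2 := CharTwo.of_one_ne_zero_of_two_eq_zero one_ne_zero e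
    have h0 := FiniteField.even_card_of_char_two (F := F) (ringChar.eq F 2)
    rcases hodd with ⟨r, hr⟩
    omega
  rw [← CfsgLib.Quad.oddQ_coe]
  exact CfsgLib.Quad.nonempty_pOmega_five h2

end Cfsg.Agent.S0301
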