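import Cfsg.Statements.S0306
import Cfsg.Agent.Quad.Orders
-- import your own Cfsg.Agent.* helpers here

set_option autoImplicit false
open Cfsg

namespace Cfsg.Agent.S0306

/-- GO^-_2(q) is dihedral of order 2(q+1). -/
theorem result {F : Type*} [Field F] [Fintype F] {q : ℕ} (hF : Fintype.card F = q) (a b : F) (hab : ∀ z₁ z₂ : F, z₁ ^ 2 + a * z₁ * z₂ + b * z₂ ^ 2 = 0 → z₁ = 0 ∧ z₂ = 0) : Nonempty (Cfsg.isometryGroup F (Cfsg.quadFormMinus 0 F a b) ≃* DihedralGroup (q + 1)) := by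
  have hq : Nat.card F = q := by rw [Nat.card_eq_fintype_card, hF]
  rw [← CfsgLib.Quad.minusQ_coe]
  obtain ⟨e⟩ := (CfsgLib.Quad.oGroup_plane hab hq).2
  let ψ : ((Fin 0 ⊕ Fin 0) ⊕ Fin 2 → F) ≃ₗ[F] F × F :=
    { toFun := fun v => (v (.inr 0), v (.inr 1))
      map_add' := fun _ _ => rfl
      map_smul' := fun _ _ => rfl
      invFun := fun p => Sum.elim (fun _ => 0) ![p.1, p.2]
      left_inv := fun v => by
        funext i
        rcases i with (i | i) | i
        · exact i.elim0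
        · exact i.elim0
        · fin_cases i <;> rfl
      right_inv := fun p => rfl }
  refine ⟨(CfsgLib.Quad.isoGroupEquiv _).trans ((CfsgLib.Quad.oGroupCongr ψ fun v => ?_).trans e)⟩
  rw [CfsgLib.Quad.planeQ_apply, CfsgLib.Quad.minusQ_coe]
  change v (.inr 0) ^ 2 + a * v (.inr 0) * v (.inr 1) + b * v (.inr 1) ^ 2 = _
  simp [Cfsg.quadFormMinus]

end Cfsg.Agent.S0306
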