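import Cfsg.Statements.S0316
import Cfsg.Agent.BN.Parabolic
-- import your own Cfsg.Agent.* helpers here

set_option autoImplicit false
open Cfsg

namespace Cfsg.Agent.S0316

/-- The map `J ↦ P_J` is a lattice isomorphism from the power set of the set of distinguished generators onto the
subgroups containing `B`. -/
theorem result {G : Type*} [Group G] (P : Cfsg.BNPair G) :
    ∃ e : Set P.S ≃o {M : Subgroup G // P.B ≤ M},
      ∀ J : Set P.S, ((e J : {M : Subgroup G // P.B ≤ M}) : Subgroup G) = P.parabolic (Subtype.val '' J) := by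
  have hsub : ∀ J : Set P.S, Subtype.val '' J ⊆ P.S := fun J => by
    rintro _ ⟨s, _, rfl⟩; exact s.2
  refine ⟨{ toFun := fun J => ⟨P.parabolic (Subtype.val '' J), le_sup_left⟩
            invFun := fun M => {s | s.1 ∈ M.1}
            left_inv := fun J => ?_
            right_inv := fun M => ?_
            map_rel_iff' := ?_ }, fun J => rfl⟩
  · ext s
    simp only [Set.mem_setOf_eq]
    exact ⟨fun h => by
      obtain ⟨t, ht, e⟩ := CfsgLib.BN.mem_of_mem_parabolic P (hsub J) s.2 h
      rwa [← Subtype.ext e], fun h => Subgroup.mem_sup_right (Subgroup.subset_closure ⟨s, h, rfl⟩)⟩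
  · refine Subtype.ext ?_
    conv_rhs => rw [CfsgLib.BN.eq_parabolic P M.2]
    refine congrArg P.parabolic ?_
    ext s
    exact ⟨fun ⟨t, ht, e⟩ => e ▸ ⟨t.2, ht⟩, fun h => ⟨⟨s, h.1⟩, h.2, rfl⟩⟩
  · intro J K
    refine ⟨fun h s hs => ?_, fun h => CfsgLib.BN.parabolic_mono P (Set.image_mono h)⟩
    obtain ⟨t, ht, e⟩ := CfsgLib.BN.mem_of_mem_parabolic P (hsub K) s.2
      (h (Subgroup.mem_sup_right (Subgroup.subset_closure ⟨s, hs, rfl⟩)))
    rwa [← Subtype.ext e]

end Cfsg.Agent.S0316
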