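import Cfsg.Statements.S0328
import Cfsg.Agent.Suzuki.Group

set_option autoImplicit false
open Cfsg

namespace Cfsg.Agent.S0328

/-- The stabiliser in the Suzuki group of the two ovoid points spanned by `(1,0,0,0)` and `(0,0,0,1)` is
isomorphic to the multiplicative group of the field (cyclic of order `q - 1`). -/
theorem result {F : Type*} [Field F] [Fintype F] {m : ℕ} (hm : 1 ≤ m)
    (hF : Fintype.card F = 2 ^ (2 * m + 1)) :
    Nonempty (↥(MulAction.stabilizer (Cfsg.Sz F m) (Cfsg.suzukiPointInfinity F) ⊓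
        MulAction.stabilizer (Cfsg.Sz F m) (Cfsg.suzukiPointZero F)) ≃* Fˣ) := by
  have h := CfsgLib.Suzuki.isSzField_of_card hm hF
  refine ⟨(MulEquiv.ofBijective ((CfsgLib.Suzuki.dE h).codRestrict _ ?_) ⟨?_, ?_⟩).symm⟩
  · intro t
    refine ⟨CfsgLib.Suzuki.D_smul_inf t, ?_⟩
    show CfsgLib.Suzuki.D m t • Cfsg.suzukiPointZero F = Cfsg.suzukiPointZero F
    rw [CfsgLib.Suzuki.pointZero_eq (m := m), CfsgLib.Suzuki.D_smul_pt h]
    simp
  · intro s t e
    exact CfsgLib.Suzuki.dE_injective h (congrArg Subtype.val e)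
  · rintro ⟨g, g1, g2⟩
    have g2' : g.1 • Cfsg.suzukiPointZero F = Cfsg.suzukiPointZero F := g2
    rw [CfsgLib.Suzuki.pointZero_eq (m := m)] at g2'
    obtain ⟨t, ht⟩ := CfsgLib.Suzuki.twoPointStab h g.2 g1 g2'
    exact ⟨t, Subtype.ext (Subtype.ext ht.symm)⟩

end Cfsg.Agent.S0328
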