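import Cfsg.Statements.S0341
import Cfsg.Agent.S0054
import Cfsg.Agent.Char.FrobeniusKernel
import Cfsg.Agent.Zass.FreeFixed

set_option autoImplicit false
set_option linter.style.haveILetI false
open Cfsg

namespace Cfsg.Agent.S0341

/-- If a finite group acts faithfully and doubly transitively, no non-identity element fixes three points, some
non-identity element fixes two points, and some normal subgroup acts regularly, then the number of points
is `2^p` with `p` prime. -/
theorem result {G Ω : Type*} [Group G]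
    [MulAction G Ω] [Fintype Ω] [FaithfulSMul G Ω] (h2 : MulAction.IsMultiplyPretransitive G Ω 2)
    (h3 : ∀ g : G, ∀ a b c : Ω, a ≠ b → b ≠ c → a ≠ c → g • a = a → g • b = b → g • c = c → g = 1)
    (hfix : ∃ g : G, g ≠ 1 ∧ ∃ a b : Ω, a ≠ b ∧ g • a = a ∧ g • b = b)
    (N : Subgroup G) [N.Normal] (hNt : MulAction.IsPretransitive N Ω)
    (hNr : ∀ a : Ω, MulAction.stabilizer N a = ⊥) :
    ∃ p : ℕ, p.Prime ∧ Fintype.card Ω = 2 ^ p := by
  classical
  haveI : Finite G := Finite.of_injective (fun g : G => fun x : Ω => g • x) fun g g' e =>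
    FaithfulSMul.eq_of_smul_eq_smul (congrFun e)
  obtain ⟨g₀, hg₀, a, b₀, hab₀, hga, hgb⟩ := hfix
  haveI : Nonempty Ω := ⟨a⟩
  obtain ⟨hcomm, r, hr, hrN⟩ := Cfsg.Agent.S0054.result h2 N hNt hNr
  have h2' : ∀ {p q u v : Ω}, p ≠ q → u ≠ v → ∃ g : G, g • p = u ∧ g • q = v :=
    MulAction.is_two_pretransitive_iff.1 h2
  -- the regular subgroup as a labelling of the points
  have hreg : ∀ u v : N, (u : G) • a = (v : G) • a → u = v := fun u v e => by
    have : v⁻¹ * u ∈ MulAction.stabilizer N a := by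
      show ((v : G)⁻¹ * (u : G)) • a = a
      rw [mul_smul, e, inv_smul_smul]
    rw [hNr a, Subgroup.mem_bot, inv_mul_eq_one] at this
    exact this.symm
  have hcardN : Nat.card N = Fintype.card Ω := by
    rw [← Nat.card_eq_fintype_card]
    exact Nat.card_congr (Equiv.ofBijective (fun u : N => (u : G) • a)
      ⟨fun u v => hreg u v, fun x => MulAction.exists_smul_eq N a x⟩)
  have hconjfix : ∀ g : G, g • a = a → ∀ u : N, (g • ((u : G) • a) = (u : G) • a ↔ g * u * g⁻¹ = u) := by
    intro g hg u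
    have e : g • ((u : G) • a) = (g * u * g⁻¹) • a := by
      rw [mul_smul, inv_smul_eq_iff.2 hg.symm, mul_smul]
    rw [e]
    refine ⟨fun h => ?_, fun h => by rw [h]⟩
    exact congrArg Subtype.val (hreg ⟨g * u * g⁻¹, Subgroup.Normal.conj_mem inferInstance _ u.2 g⟩ u h)
  -- Frobenius structure of the point stabiliser
  let L := MulAction.stabilizer G a
  let E : Subgroup L := (MulAction.stabilizer G b₀).subgroupOf L
  have hTI : ∀ g : L, g ∉ E → ∀ x ∈ E, g * x * g⁻¹ ∈ E → x = 1 := by
    intro g hg x hx hgx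
    apply Subtype.ext
    have hgb : (g : G)⁻¹ • b₀ ≠ b₀ := fun e => hg (inv_smul_eq_iff.1 e).symm
    have hga' : (g : G)⁻¹ • b₀ ≠ a := fun e => hab₀ (by rw [← g.2, ← inv_smul_eq_iff.1 e])
    refine h3 x a b₀ ((g : G)⁻¹ • b₀) hab₀ hgb.symm hga'.symm x.2 hx ?_
    have e : ((g : G) * x * (g : G)⁻¹) • b₀ = b₀ := hgx
    rw [mul_smul, mul_smul] at e
    exact eq_inv_smul_iff.2 e
  obtain ⟨K, hKn, hKE, hKsup, -, hKmem⟩ := CfsgLib.Char.exists_frobenius_kernel E hTI
  have hfpf : ∀ k : L, k ∈ K → k ≠ 1 → ∀ x, x ≠ a → (k : G) • x ≠ x := by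
    intro k hk hk1 x hxa hx
    obtain ⟨g, hga, hgb⟩ := h2' hab₀ hxa.symm
    refine ((hKmem k).1 hk).resolve_left hk1 ⟨g, hga⟩ ?_
    show (g⁻¹ * (k : G) * g) • b₀ = b₀
    rw [mul_smul, mul_smul, hgb, hx, inv_smul_eq_iff, hgb]
  haveI : Nontrivial K := by
    by_contra hK
    rw [not_nontrivial_iff_subsingleton] at hK
    have hKbot : K = ⊥ := Subgroup.eq_bot_of_subsingleton K
    rw [hKbot, bot_sup_eq] at hKsup
    by_cases h : ∃ x, x ≠ a ∧ x ≠ b₀
    · obtain ⟨x, hxa, hxb⟩ := h
      obtain ⟨g, hga', hgb'⟩ := h2' hab₀ (Ne.symm hxa)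
      exact hxb (hgb'.symm.trans (show (⟨g, hga'⟩ : L) ∈ E from hKsup ▸ Subgroup.mem_top _))
    · push Not at h
      refine hg₀ (FaithfulSMul.eq_of_smul_eq_smul fun x : Ω => ?_)
      rw [one_smul]
      by_cases hxa : x = a
      · rw [hxa, hga]
      · rw [h x hxa, hgb]
  -- an invariant Sylow subgroup of the kernel and an element normalising it
  obtain ⟨l, hl, hlK⟩ := Nat.exists_prime_and_dvd (Finite.one_lt_card (α := K)).ne'
  haveI : Fact l.Prime := ⟨hl⟩
  obtain ⟨P⟩ : Nonempty (Sylow l K) := inferInstance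
  haveI := hKn
  have hfr := Sylow.normalizer_sup_eq_top P
  obtain ⟨x, hxN, hxK⟩ : ∃ x ∈ Subgroup.normalizer (((P : Subgroup K).map K.subtype : Subgroup L) : Set L), x ∉ K := by
    by_contra hn
    push Not at hn
    have hKtop : K = ⊤ := top_le_iff.1 (hfr ▸ sup_le hn le_rfl)
    rw [hKtop, top_inf_eq] at hKE
    have : (⟨g₀, hga⟩ : L) ∈ E := hgb
    rw [hKE, Subgroup.mem_bot] at this
    exact hg₀ (congrArg Subtype.val this)
  obtain ⟨s, hs, hsx⟩ := Nat.exists_prime_and_dvd (show orderOf x ≠ 1 from fun e =>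
    hxK (by rw [orderOf_eq_one_iff.1 e]; exact one_mem K))
  obtain ⟨c, hxc⟩ : ∃ c, c ≠ a ∧ (x : G) • c = c := by
    have hm := (hKmem x).not.1 hxK
    push Not at hm
    obtain ⟨y, hy⟩ := hm.2
    refine ⟨(y : G) • b₀, fun e => hab₀ ?_, ?_⟩
    · exact smul_left_cancel (y : G) ((show (y : G) • a = a from y.2).trans e.symm)
    · have e : ((y : G)⁻¹ * x * y) • b₀ = b₀ := hy
      rw [mul_smul, mul_smul, inv_smul_eq_iff] at e
      exact e
  set h := x ^ (orderOf x / s) with hh
  have hho : orderOf h = s := orderOf_pow_orderOf_div (orderOf_pos x).ne' hsx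
  have hhN : h ∈ Subgroup.normalizer (((P : Subgroup K).map K.subtype : Subgroup L) : Set L) := pow_mem hxN _
  have hhc : (h : G) • c = c := by
    have : (x : G) ∈ MulAction.stabilizer G c := hxc.2
    exact pow_mem this _
  have hh1 : (h : G) ≠ 1 := fun e => hs.one_lt.ne' (by rw [← hho, orderOf_eq_one_iff]; exact Subtype.ext e)
  have hfix2 : ∀ z, (h : G) • z = z → z = a ∨ z = c := by
    intro z hz
    by_contra hn
    push Not at hn
    exact hh1 (h3 h a c z (Ne.symm hxc.1) hn.2.symm hn.1.symm h.2 hhc hz)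
  -- the abelian group
  have hcom : ∀ u v : N, u * v = v * u := fun u v => hcomm.is_comm.comm u v
  let Z : Subgroup L := ((Subgroup.center P).map (P : Subgroup K).subtype).map K.subtype
  have hZP : Z ≤ (P : Subgroup K).map K.subtype := by
    refine Subgroup.map_mono ?_
    rintro _ ⟨z, -, rfl⟩
    exact z.2
  have hZK : Z ≤ K := Subgroup.map_subtype_le _
  have hZmem : ∀ z : L, z ∈ Z ↔ z ∈ (P : Subgroup K).map K.subtype ∧
      ∀ y ∈ (P : Subgroup K).map K.subtype, y * z = z * y := by
    intro z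
    constructor
    · intro hz
      refine ⟨hZP hz, ?_⟩
      obtain ⟨_, ⟨w, hw, rfl⟩, rfl⟩ := hz
      rintro _ ⟨y, hy, rfl⟩
      exact congrArg (fun t : P => ((t : K) : L)) (Subgroup.mem_center_iff.1 hw ⟨y, hy⟩)
    · rintro ⟨⟨w, hw, rfl⟩, hz⟩
      refine ⟨w, ⟨⟨w, hw⟩, Subgroup.mem_center_iff.2 fun y => ?_, rfl⟩, rfl⟩
      exact Subtype.ext (Subtype.ext (hz _ ⟨y, y.2, rfl⟩))
  have hZconj : ∀ z ∈ Z, h * z * h⁻¹ ∈ Z := by
    intro z hz
    rw [hZmem] at hz ⊢
    refine ⟨((Subgroup.mem_normalizer_iff.1 hhN) z).1 hz.1, fun y hy => ?_⟩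
    have hy' : h⁻¹ * y * h ∈ (P : Subgroup K).map K.subtype := by
      refine ((Subgroup.mem_normalizer_iff.1 hhN) _).2 ?_
      rwa [show h * (h⁻¹ * y * h) * h⁻¹ = y by group]
    calc y * (h * z * h⁻¹) = h * ((h⁻¹ * y * h) * z) * h⁻¹ := by group
      _ = h * (z * (h⁻¹ * y * h)) * h⁻¹ := by rw [hz.2 _ hy']
      _ = h * z * h⁻¹ * y := by group
  haveI : Nontrivial P := (Subgroup.nontrivial_iff_ne_bot _).2 (P.ne_bot_of_dvd_card hlK)
  haveI : Nontrivial (Subgroup.center P) := P.2.center_nontrivial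
  haveI : Nontrivial Z := by
    refine ((Subgroup.equivMapOfInjective _ _ (Subgroup.subtype_injective _)).toEquiv.trans
      (Subgroup.equivMapOfInjective _ _ (Subgroup.subtype_injective K)).toEquiv).nontrivial_congr.1 inferInstance
  letI : CommGroup Z :=
    { (inferInstance : Group Z) with
      mul_comm := fun u v => Subtype.ext (((hZmem v).1 v.2).2 u ((hZmem u).1 u.2).1) }
  letI : CommGroup N := { (inferInstance : Group N) with mul_comm := hcom }
  let conjN : G →* MulAut N := MulAut.conjNormal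
  let ρ : Z →* AddMonoid.End (Additive N) :=
    { toFun := fun z => MonoidHom.toAdditive (conjN ((z : L) : G)).toMonoidHom
      map_one' := by
        refine DFunLike.ext _ _ fun m => ?_
        show Additive.ofMul (conjN ((1 : L) : G) (Additive.toMul m)) = m
        rw [Subgroup.coe_one, map_one]
        rfl
      map_mul' := fun u v => by
        refine DFunLike.ext _ _ fun m => ?_
        show Additive.ofMul (conjN (((u : L) * (v : L) : L) : G) (Additive.toMul m)) = _
        rw [Subgroup.coe_mul, map_mul]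
        rfl }
  have hρ : ∀ (z : Z) (m : Additive N), Additive.toMul (ρ z m) = conjN ((z : L) : G) (Additive.toMul m) :=
    fun z m => rfl
  have hfixN : ∀ (g : G) (u : N), g • a = a → (conjN g u = u ↔ g • ((u : G) • a) = (u : G) • a) := by
    intro g u hg
    rw [hconjfix g hg u, Subtype.ext_iff, MulAut.conjNormal_apply]
  obtain ⟨u, hu⟩ := MulAction.exists_smul_eq N a c
  have hu' : (u : G) • a = c := hu
  have hru : ∀ v : N, v ^ r = 1 := fun v => Subtype.ext (hrN v v.2)
  have hfixh : ∀ v : N, conjN (h : G) v = v ↔ v = 1 ∨ v = u := by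
    intro v
    rw [hfixN _ v h.2]
    constructor
    · intro e
      rcases hfix2 _ e with e' | e'
      · exact Or.inl (hreg v 1 (by rw [e']; exact (one_smul G a).symm))
      · exact Or.inr (hreg v u (e'.trans hu'.symm))
    · rintro (rfl | rfl)
      · show (h : G) • ((1 : G) • a) = (1 : G) • a
        rw [one_smul]
        exact h.2
      · rw [hu', hhc]
  have hu1 : u ≠ 1 := fun e => hxc.1 (by rw [← hu', e]; exact one_smul G a)
  -- the exponent is two
  have hr2 : r = 2 := by
    haveI : Fact r.Prime := ⟨hr⟩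
    have hou : orderOf u = r := orderOf_eq_prime (hru u) hu1
    have e : conjN (h : G) (u ^ 2) = u ^ 2 := by rw [map_pow, (hfixh u).2 (Or.inr rfl)]
    rcases (hfixh _).1 e with e' | e'
    · have := orderOf_dvd_of_pow_eq_one e'
      rw [hou] at this
      exact (Nat.prime_dvd_prime_iff_eq hr Nat.prime_two).1 this
    · rw [pow_two] at e'
      exact absurd (mul_eq_left.1 e') hu1
  subst hr2
  let σ : Z ≃* Z :=
    { toFun := fun z => ⟨h * z * h⁻¹, hZconj z z.2⟩
      invFun := fun z => ⟨h⁻¹ * z * h, by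
        have hfin : ∀ i : ℕ, ∀ z ∈ Z, h ^ i * z * (h ^ i)⁻¹ ∈ Z := by
          intro i
          induction i with
          | zero => intro z hz; simpa using hz
          | succ i ih =>
            intro z hz
            rw [pow_succ', show h * h ^ i * z * (h * h ^ i)⁻¹ = h * (h ^ i * z * (h ^ i)⁻¹) * h⁻¹ by group]
            exact hZconj _ (ih z hz)
        have e : h ^ (s - 1) = h⁻¹ := eq_inv_of_mul_eq_one_left (by
          rw [← pow_succ, Nat.sub_add_cancel hs.one_lt.le, ← hho, pow_orderOf_eq_one])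
        have := hfin (s - 1) z z.2
        rwa [e, inv_inv] at this⟩
      left_inv := fun z => Subtype.ext (by group)
      right_inv := fun z => Subtype.ext (by group)
      map_mul' := fun u v => Subtype.ext (by
        show h * ((u : L) * v) * h⁻¹ = h * u * h⁻¹ * (h * v * h⁻¹)
        group) }
  have hσi : ∀ (i : ℕ) (z : Z), ((σ ^ i) z : L) = h ^ i * z * (h ^ i)⁻¹ := by
    intro i
    induction i with
    | zero => simp
    | succ i ih =>
      intro z
      rw [pow_succ', MulAut.mul_apply]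
      show h * ((σ ^ i) z : L) * h⁻¹ = _
      rw [ih, pow_succ']
      group
  refine ⟨s, hs, ?_⟩
  rw [← hcardN, ← Nat.card_congr (Additive.ofMul (α := N)).symm]
  refine CfsgLib.Zass.natCard_module (M := Additive N) (fun m => ?_) ρ ?_ hs
    (MulEquiv.toAdditive (conjN (h : G))) ?_ σ ?_ ?_ ?_ (c := Additive.ofMul u) hu1 ?_
  · have := hru (Additive.toMul m)
    rw [pow_two] at this
    exact this
  · intro z hz m hm
    have hza : ((z : L) : G) • a = a := (z : L).2
    have e := (hfixN _ (Additive.toMul m) hza).1 (congrArg Additive.toMul hm)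
    by_contra hm0
    exact hfpf z (hZK z.2) (fun e' => hz (Subtype.ext e')) _
      (fun e' => hm0 (hreg (Additive.toMul m) 1 (e'.trans (one_smul G a).symm))) e
  · intro m
    have : ∀ i : ℕ, (⇑(MulEquiv.toAdditive (conjN (h : G))))^[i] m =
        Additive.ofMul (conjN (((h ^ i : L) : G)) (Additive.toMul m)) := by
      intro i
      induction i with
      | zero => simp
      | succ i ih =>
        rw [Function.iterate_succ_apply', ih, pow_succ', Subgroup.coe_mul, map_mul]
        rfl
    rw [this, ← hho, pow_orderOf_eq_one, Subgroup.coe_one, map_one]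
    rfl
  · refine MulEquiv.ext fun z => Subtype.ext ?_
    rw [hσi, ← hho, pow_orderOf_eq_one]
    simp
  · intro z hz
    by_contra hz1
    have e : h * (z : L) * h⁻¹ = z := congrArg Subtype.val hz
    have e' : ((z : L) : G) • ((h : G) • c) = (h : G) • (((z : L) : G) • c) := by
      rw [← mul_smul, ← mul_smul, ← Subgroup.coe_mul, ← Subgroup.coe_mul, mul_inv_eq_iff_eq_mul.1 e]
    rw [hhc] at e'
    rcases hfix2 _ e'.symm with h' | h'
    · exact hxc.1 (smul_left_cancel ((z : L) : G) (h'.trans ((z : L).2 : ((z : L) : G) • a = a).symm))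
    · exact hfpf z (hZK z.2) (fun e' => hz1 (Subtype.ext e')) c hxc.1 h'
  · intro z m
    show Additive.ofMul (conjN (h : G) (conjN ((z : L) : G) (Additive.toMul m))) =
      Additive.ofMul (conjN ((h * (z : L) * h⁻¹ : L) : G) (conjN (h : G) (Additive.toMul m)))
    rw [← MulAut.mul_apply, ← MulAut.mul_apply, ← map_mul, ← map_mul, Subgroup.coe_mul, Subgroup.coe_mul,
      Subgroup.coe_inv, show (h : G) * (z : L) * (h : G)⁻¹ * h = h * (z : L) by group]
  · intro m
    constructor
    · intro e
      exact ((hfixh (Additive.toMul m)).1 (congrArg Additive.toMul e)).imp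
        (fun e => congrArg Additive.ofMul e) (fun e => congrArg Additive.ofMul e)
    · rintro (e | e)
      · rw [e, map_zero]
      · rw [e]
        exact congrArg Additive.ofMul ((hfixh _).2 (Or.inr rfl))

end Cfsg.Agent.S0341
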