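import Cfsg.Statements.S0350
import Cfsg.Agent.Steiner.Numbers

set_option autoImplicit false
open Cfsg

namespace Cfsg.Agent.S0350

/-- Counting pairs (t-subset, block containing it) in two ways: the number of blocks of a Steiner system with parameters (t, k, v), multiplied by C(k, t), equals C(v, t). -/
theorem result {α : Type*} [Fintype α] [DecidableEq α] {t k : ℕ} {B : Set (Finset α)} (hB : Cfsg.IsSteinerSystem t k B) : B.ncard * Nat.choose k t = Nat.choose (Fintype.card α) t := by
  obtain h | h := Finset.eq_empty_or_nonempty ((CfsgLib.Steiner.blocks B))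
  · by_contra hne
    have hv : t ≤ Fintype.card α := by
      by_contra hlt
      apply hne
      rw [← CfsgLib.Steiner.card_blocks, h, Finset.card_empty, zero_mul, Nat.choose_eq_zero_of_lt (show Fintype.card α < t by omega)]
    obtain ⟨s, -, hs⟩ := Finset.exists_subset_card_eq (s := (Finset.univ : Finset α)) hv
    have h1 := CfsgLib.Steiner.count_t hB s hs
    rw [h, Finset.filter_empty, Finset.card_empty] at h1
    omega
  · have h0 := CfsgLib.Steiner.count_mul hB ∅ (by simp)
    simp only [Finset.empty_subset, Finset.filter_true, Finset.card_empty, Nat.sub_zero] at h0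
    rw [← h0, CfsgLib.Steiner.card_blocks]

end Cfsg.Agent.S0350
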