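import Cfsg.Statements.S0351
import Cfsg.Agent.Steiner.Numbers

set_option autoImplicit false
open Cfsg

namespace Cfsg.Agent.S0351

/-- Derived design: removing a point p from the blocks through p of an S(t+1, k+1, v) yields an S(t, k, v-1) on the points other than p. -/
theorem result {α : Type*} [Fintype α] [DecidableEq α] {t k : ℕ} {B : Set (Finset α)} (hB : Cfsg.IsSteinerSystem (t + 1) (k + 1) B) (p : α) : Cfsg.IsSteinerSystem t k {b' : Finset {a : α // a ≠ p} | ∃ b ∈ B, p ∈ b ∧ b' = Finset.subtype (fun a => a ≠ p) b} := by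
  have hsub : ∀ b : Finset α, p ∈ b →
      (Finset.subtype (fun a => a ≠ p) b).card = b.card - 1 := by
    intro b hp
    rw [Finset.card_subtype, Finset.filter_ne', Finset.card_erase_of_mem hp]
  refine ⟨?_, fun s hs => ?_⟩
  · rintro b' ⟨b, hb, hp, rfl⟩
    rw [hsub b hp, hB.1 b hb, Nat.add_sub_cancel]
  · set s₀ := s.map (Function.Embedding.subtype _) with hs0
    have hp : p ∉ s₀ := by simp [hs0]
    obtain ⟨b, ⟨hb, hsb⟩, huniq⟩ := hB.2 (insert p s₀) (by
      rw [Finset.card_insert_of_notMem hp, hs0, Finset.card_map, hs])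
    have hpb : p ∈ b := hsb (Finset.mem_insert_self _ _)
    refine ⟨Finset.subtype (fun a => a ≠ p) b, ⟨⟨b, hb, hpb, rfl⟩, fun a ha => ?_⟩, ?_⟩
    · exact Finset.mem_subtype.mpr (hsb (Finset.mem_insert_of_mem (Finset.mem_map_of_mem _ ha)))
    · rintro b' ⟨⟨c, hc, hpc, rfl⟩, hsc⟩
      rw [huniq c ⟨hc, Finset.insert_subset hpc fun a ha => ?_⟩]
      obtain ⟨a', ha', rfl⟩ := Finset.mem_map.mp ha
      exact Finset.mem_subtype.mp (hsc ha')

end Cfsg.Agent.S0351
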