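import Cfsg.Statements.S0354
import Cfsg.Agent.Steiner.Numbers

set_option autoImplicit false
open Cfsg

namespace Cfsg.Agent.S0354

/-- In an S(5, 8, 24), each block is disjoint from exactly 30 blocks. -/
theorem result {α : Type*} [Fintype α] [DecidableEq α] (hα : Fintype.card α = 24) {B : Set (Finset α)} (hB : Cfsg.IsSteinerSystem 5 8 B) {b : Finset α} (hb : b ∈ B) : {c : Finset α | c ∈ B ∧ Disjoint b c}.ncard = 30 := by
  have hb' := CfsgLib.Steiner.mem_blocks.mpr hb
  rw [← (CfsgLib.Steiner.numbers_24 hB hα hb').1, CfsgLib.Steiner.meet]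
  rw [← Set.ncard_coe_finset]
  congr 1
  ext c
  simp only [Set.mem_ofPred_eq, Finset.mem_coe, Finset.mem_filter, Finset.mem_erase,
    CfsgLib.Steiner.mem_blocks, Finset.card_eq_zero, Finset.disjoint_iff_inter_eq_empty]
  refine ⟨fun h => ⟨⟨fun hcb => ?_, h.1⟩, h.2⟩, fun h => ⟨h.1.2, h.2⟩⟩
  subst hcb
  have h2 := h.2
  rw [Finset.inter_self] at h2
  have := hB.1 c hb
  rw [h2, Finset.card_empty] at this
  omega

end Cfsg.Agent.S0354
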