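import Cfsg.Statements.S0355
import Cfsg.Agent.Steiner.Numbers

set_option autoImplicit false
open Cfsg

namespace Cfsg.Agent.S0355

/-- In a Steiner system S(4, 7, 23), two distinct blocks intersect in 1 or 3 points. -/
theorem result {α : Type*} [Fintype α] [DecidableEq α] (hα : Fintype.card α = 23) {B : Set (Finset α)} (hB : Cfsg.IsSteinerSystem 4 7 B) {b c : Finset α} (hb : b ∈ B) (hc : c ∈ B) (hbc : b ≠ c) : (b ∩ c).card = 1 ∨ (b ∩ c).card = 3 := by
  have hb' := CfsgLib.Steiner.mem_blocks.mpr hb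
  have hc' : c ∈ (CfsgLib.Steiner.blocks B).erase b :=
    Finset.mem_erase.mpr ⟨hbc.symm, CfsgLib.Steiner.mem_blocks.mpr hc⟩
  obtain ⟨h0, h2⟩ := CfsgLib.Steiner.numbers_23 hB hα hb'
  have hlt := CfsgLib.Steiner.inter_lt hB hb' hc'
  have hp := CfsgLib.Steiner.meet_pos (S := b) hc'
  have : (b ∩ c).card ≠ 0 ∧ (b ∩ c).card ≠ 2 := by
    constructor <;> intro h <;> rw [h] at hp <;> omega
  omega

end Cfsg.Agent.S0355
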