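import Cfsg.Statements.S0357
import Cfsg.Agent.Steiner.Numbers

set_option autoImplicit false
open Cfsg

namespace Cfsg.Agent.S0357

/-- In a Steiner system S(5, 6, 12), the complement of every block is again a block. -/
theorem result {α : Type*} [Fintype α] [DecidableEq α] (hα : Fintype.card α = 12) {B : Set (Finset α)} (hB : Cfsg.IsSteinerSystem 5 6 B) {b : Finset α} (hb : b ∈ B) : bᶜ ∈ B := by
  have hb' := CfsgLib.Steiner.mem_blocks.mpr hb
  obtain ⟨c, hc⟩ := Finset.card_eq_one.mp (CfsgLib.Steiner.numbers_12 hB hα hb')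
  have hc' := Finset.mem_filter.mp (hc.ge (Finset.mem_singleton_self c))
  have hcB := CfsgLib.Steiner.mem_blocks.mp (Finset.mem_erase.mp hc'.1).2
  have hle : c ⊆ bᶜ := fun x hx => Finset.mem_compl.mpr fun hxb => by
    have := Finset.mem_inter.mpr ⟨hxb, hx⟩
    rw [Finset.card_eq_zero.mp hc'.2] at this
    exact Finset.notMem_empty _ this
  rw [← Finset.eq_of_subset_of_card_le hle (by rw [Finset.card_compl, hα, hB.1 b hb, hB.1 c hcB])]
  exact hcB

end Cfsg.Agent.S0357
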