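import Cfsg.Statements.S0380
import Cfsg.Agent.PlaneFour.Automorphisms
import Cfsg.Agent.Golay.Mathieu
import Cfsg.Agent.Golay.Steiner
import Cfsg.Agent.Classical.Transvections
import Cfsg.Agent.Classical.LinearOrder

set_option autoImplicit false
open Cfsg

namespace Cfsg.Agent.S0380

open Finset MulAction

private lemma card_three_stab (p q r : Cfsg.GolayPt) (hpq : p ≠ q) (hpr : p ≠ r) (hqr : q ≠ r) :
    Nat.card ↥(MulAction.stabilizer Cfsg.M24 p ⊓ MulAction.stabilizer Cfsg.M24 q ⊓
      MulAction.stabilizer Cfsg.M24 r) = 20160 := by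
  set G := MulAction.stabilizer Cfsg.M24 p ⊓ MulAction.stabilizer Cfsg.M24 q
  have heq : (G ⊓ MulAction.stabilizer Cfsg.M24 r).subgroupOf G = stabilizer G r := by
    ext g
    simp only [Subgroup.mem_subgroupOf, Subgroup.mem_inf, mem_stabilizer_iff, Subgroup.smul_def]
    exact ⟨fun h => h.2, fun h => ⟨g.2, h⟩⟩
  have horb : orbit G r = ({p, q}ᶜ : Set Cfsg.GolayPt) := by
    ext z
    simp only [Set.mem_compl_iff, Set.mem_insert_iff, Set.mem_singleton_iff, not_or]
    constructor
    · rintro ⟨g, rfl⟩
      refine ⟨fun h => hpr ?_, fun h => hqr ?_⟩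
      · exact (MulAction.injective (g : Cfsg.M24) (h.trans (mem_stabilizer_iff.mp g.2.1).symm)).symm
      · exact (MulAction.injective (g : Cfsg.M24) (h.trans (mem_stabilizer_iff.mp g.2.2).symm)).symm
    · rintro ⟨hzp, hzq⟩
      obtain ⟨w, hw⟩ : ∃ w : Cfsg.GolayPt, w ∉ ({p, q, r, z} : Finset Cfsg.GolayPt) := by
        by_contra h
        push Not at h
        have := Finset.card_le_card (fun w (_ : w ∈ Finset.univ) => h w)
        rw [Finset.card_univ, CfsgLib.Golay.card_golayPt] at this
        have h4 : ({p, q, r, z} : Finset Cfsg.GolayPt).card ≤ 4 := Finset.card_le_four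
        omega
      simp only [Finset.mem_insert, Finset.mem_singleton, not_or] at hw
      obtain ⟨g, hg, -⟩ := CfsgLib.Golay.exists_stab_pair_two hpq ⟨hpr.symm, hqr.symm⟩
        ⟨hw.1, hw.2.1⟩ ⟨hzp, hzq⟩ ⟨hw.1, hw.2.1⟩ (Ne.symm hw.2.2.1) (Ne.symm hw.2.2.2)
      exact ⟨g, hg⟩
  have h := Subgroup.card_mul_index (stabilizer G r)
  rw [index_stabilizer, horb, Set.ncard_compl, CfsgLib.Golay.natCard_golayPt, Set.ncard_pair hpq,
    CfsgLib.Golay.card_stab_pair p q hpq, ← heq,
    Nat.card_congr (Subgroup.subgroupOfEquivOfLe inf_le_left).toEquiv] at h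
  omega

/-- A three-point stabiliser in the group of the length-24 code is isomorphic to PSL(3, F) for the field F with 4 elements. -/
theorem result (p q r : Cfsg.GolayPt) (hpq : p ≠ q) (hpr : p ≠ r) (hqr : q ≠ r) (F : Type) [Field F] [Fintype F] (hF : Fintype.card F = 4) : Nonempty (↥(MulAction.stabilizer Cfsg.M24 p ⊓ MulAction.stabilizer Cfsg.M24 q ⊓ MulAction.stabilizer Cfsg.M24 r) ≃* Matrix.ProjectiveSpecialLinearGroup (Fin 3) F) := by
  classical
  let X : Type := {x : Cfsg.GolayPt // x ≠ p ∧ x ≠ q ∧ x ≠ r}
  let base : Finset Cfsg.GolayPt := {p, q, r}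
  have hbase : base.card = 3 := Finset.card_eq_three.mpr ⟨p, q, r, hpq, hpr, hqr, rfl⟩
  have hbm : ∀ x : X, x.1 ∉ base := fun x => by
    simp [base, x.2.1, x.2.2.1, x.2.2.2]
  have hXm : ∀ z : Cfsg.GolayPt, z ∉ base → z ≠ p ∧ z ≠ q ∧ z ≠ r := fun z hz => by
    simpa [base] using hz
  let emb : X ↪ Cfsg.GolayPt := Function.Embedding.subtype _
  let LA : Set (Finset X) := {b | b.map emb ∪ base ∈ Cfsg.octads}
  have hdis : ∀ b : Finset X, Disjoint (b.map emb) base := fun b => by
    rw [Finset.disjoint_left]
    rintro z hz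
    obtain ⟨x, -, rfl⟩ := Finset.mem_map.mp hz
    exact hbm x
  have hst := CfsgLib.Golay.octads_steiner
  have hA : Cfsg.Agent.PlaneFour.Plane LA := by
    refine ⟨⟨fun b hb => ?_, fun s hs => ?_⟩, ?_⟩
    · have := hst.1 _ hb
      rw [Finset.card_union_of_disjoint (hdis b), Finset.card_map, hbase] at this
      omega
    · obtain ⟨o, ⟨ho, hso⟩, huniq⟩ := hst.2 (s.map emb ∪ base) (by
        rw [Finset.card_union_of_disjoint (hdis s), Finset.card_map, hbase, hs])
      have hbo : base ⊆ o := Finset.union_subset_right hso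
      let b : Finset X := Finset.univ.filter fun x => x.1 ∈ o
      have hb : b.map emb ∪ base = o := by
        ext z
        simp only [Finset.mem_union, Finset.mem_map, b, Finset.mem_filter, Finset.mem_univ, true_and]
        constructor
        · rintro (⟨x, hx, rfl⟩ | hz)
          · exact hx
          · exact hbo hz
        · intro hz
          by_cases hzb : z ∈ base
          · exact Or.inr hzb
          · exact Or.inl ⟨⟨z, hXm z hzb⟩, hz, rfl⟩
      refine ⟨b, ⟨show b.map emb ∪ base ∈ Cfsg.octads from hb ▸ ho, fun x hx => ?_⟩, ?_⟩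
      · exact Finset.mem_filter.mpr ⟨Finset.mem_univ _,
          hso (Finset.mem_union_left _ (Finset.mem_map_of_mem emb hx))⟩
      · rintro c ⟨hc, hsc⟩
        have e := huniq _ ⟨hc, Finset.union_subset_union (Finset.map_subset_map.mpr hsc) le_rfl⟩
        rw [← hb] at e
        refine Finset.map_injective emb ?_
        have := congrArg (fun u => u \ base) e
        simp only [Finset.union_sdiff_right] at this
        rwa [Finset.sdiff_eq_self_of_disjoint (hdis c), Finset.sdiff_eq_self_of_disjoint (hdis b)] at this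
    · rw [Fintype.card_subtype]
      have : (Finset.univ.filter fun x : Cfsg.GolayPt => x ≠ p ∧ x ≠ q ∧ x ≠ r) = baseᶜ := by
        ext z; simp [base]
      rw [this, Finset.card_compl, hbase, CfsgLib.Golay.card_golayPt]
  -- the plane over the field
  let Y : Type := Projectivization F (Fin 3 → F)
  haveI : Fintype Y := Fintype.ofFinite _
  let LB : Set (Finset Y) := {l | ∃ W : Submodule F (Fin 3 → F), Module.finrank F W = 2 ∧
    ∀ y : Y, y ∈ l ↔ Projectivization.submodule y ≤ W}
  have hnF : Nat.card F = 4 := by rw [Nat.card_eq_fintype_card, hF]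
  have hB : Cfsg.Agent.PlaneFour.Plane LB := by
    refine ⟨⟨fun l ⟨W, hW, hl⟩ => ?_, fun s hs => ?_⟩, ?_⟩
    · have e : ↥l ≃ Projectivization F W :=
        { toFun := fun y => Projectivization.mk'' ((Projectivization.submodule y.1).comap W.subtype) (by
            rw [(Submodule.comapSubtypeEquivOfLe ((hl _).mp y.2)).finrank_eq,
              Projectivization.finrank_submodule])
          invFun := fun w => ⟨Projectivization.mk'' ((Projectivization.submodule w).map W.subtype) (by
            rw [Submodule.finrank_map_subtype_eq, Projectivization.finrank_submodule]), (hl _).mpr (by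
            rw [Projectivization.submodule_mk'']; exact Submodule.map_subtype_le _ _)⟩
          left_inv := fun y => Subtype.ext (Projectivization.submodule_injective (by
            simp [Submodule.map_comap_subtype, (hl _).mp y.2]))
          right_inv := fun w => Projectivization.submodule_injective (by
            simp [Submodule.comap_map_eq_of_injective W.injective_subtype]) }
      rw [← Fintype.card_coe, ← Nat.card_eq_fintype_card, Nat.card_congr e,
        Projectivization.card_of_finrank_two _ _ hW, hnF]
    · obtain ⟨u, v, huv, rfl⟩ := Finset.card_eq_two.mp hs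
      set W := Projectivization.submodule u ⊔ Projectivization.submodule v with hW
      have hinf : Projectivization.submodule u ⊓ Projectivization.submodule v = ⊥ := by
        by_contra hne
        have h1 := Submodule.one_le_finrank_iff.mpr hne
        have e1 : Projectivization.submodule u ⊓ Projectivization.submodule v =
            Projectivization.submodule u := Submodule.eq_of_le_of_finrank_le inf_le_left (by
          rw [Projectivization.finrank_submodule]; exact h1)
        have e2 : Projectivization.submodule u ⊓ Projectivization.submodule v =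
            Projectivization.submodule v := Submodule.eq_of_le_of_finrank_le inf_le_right (by
          rw [Projectivization.finrank_submodule]; exact h1)
        exact huv (Projectivization.submodule_injective (e1.symm.trans e2))
      have hW2 : Module.finrank F W = 2 := by
        have := Submodule.finrank_sup_add_finrank_inf_eq (Projectivization.submodule u)
          (Projectivization.submodule v)
        rw [hinf, finrank_bot, Projectivization.finrank_submodule,
          Projectivization.finrank_submodule, ← hW] at this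
        omega
      refine ⟨Finset.univ.filter fun y => Projectivization.submodule y ≤ W,
        ⟨⟨W, hW2, fun y => by simp⟩, ?_⟩, ?_⟩
      · intro y hy
        simp only [Finset.mem_insert, Finset.mem_singleton] at hy
        rcases hy with rfl | rfl <;> simp [hW]
      · rintro l ⟨⟨W', hW', hl⟩, hsub⟩
        have e : W = W' := Submodule.eq_of_le_of_finrank_le
          (sup_le ((hl u).mp (hsub (by simp))) ((hl v).mp (hsub (by simp)))) (by rw [hW2, hW'])
        ext y
        simp [hl, e]
    · rw [← Nat.card_eq_fintype_card]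
      show Nat.card (Projectivization F (Fin 3 → F)) = 21
      rw [Projectivization.card_of_finrank (n := 3) _ _ (Module.finrank_fin_fun F), hnF]
      rfl
  obtain ⟨HA, hA6, hAarc⟩ := hA.exists_oval
  obtain ⟨HB, hB6, hBarc⟩ := hB.exists_oval
  obtain ⟨e, he, -⟩ := Cfsg.Agent.PlaneFour.exists_iso hA hB hA6 hAarc hB6 hBarc
    (Finset.equivOfCardEq (hA6.trans hB6.symm))
  set M := MulAction.stabilizer Cfsg.M24 p ⊓ MulAction.stabilizer Cfsg.M24 q ⊓
    MulAction.stabilizer Cfsg.M24 r
  have hfix : ∀ g : ↥M, (g.1.1 p = p ∧ g.1.1 q = q) ∧ g.1.1 r = r := fun g =>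
    ⟨⟨mem_stabilizer_iff.mp g.2.1.1, mem_stabilizer_iff.mp g.2.1.2⟩, mem_stabilizer_iff.mp g.2.2⟩
  have hpres : ∀ (g : ↥M) (z : Cfsg.GolayPt), (z ≠ p ∧ z ≠ q ∧ z ≠ r) ↔
      (g.1.1 z ≠ p ∧ g.1.1 z ≠ q ∧ g.1.1 z ≠ r) := by
    intro g z
    obtain ⟨⟨hp', hq'⟩, hr'⟩ := hfix g
    have a : g.1.1 z = p ↔ z = p := ⟨fun h => g.1.1.injective (h.trans hp'.symm), fun h => h ▸ hp'⟩
    have b : g.1.1 z = q ↔ z = q := ⟨fun h => g.1.1.injective (h.trans hq'.symm), fun h => h ▸ hq'⟩
    have c : g.1.1 z = r ↔ z = r := ⟨fun h => g.1.1.injective (h.trans hr'.symm), fun h => h ▸ hr'⟩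
    simp only [ne_eq, a, b, c]
  let φ : ↥M →* Equiv.Perm Y :=
    { toFun := fun g => e.permCongr (g.1.1.subtypeEquiv (hpres g))
      map_one' := Equiv.ext fun y => (congrArg e (Subtype.ext rfl)).trans (e.apply_symm_apply y)
      map_mul' := fun g h => Equiv.ext fun y => by
        simp [Equiv.permCongr_apply, Equiv.Perm.mul_apply]
        exact Subtype.ext rfl }
  have hφA : ∀ g : ↥M, φ g ∈ Cfsg.setSystemAut LB := by
    intro g
    refine hB.mem_aut_of_line_image fun l hl => ?_
    obtain ⟨b, hb, rfl⟩ := (show l ∈ (fun b => b.image e) '' LA from he ▸ hl)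
    let π : Equiv.Perm X := g.1.1.subtypeEquiv (hpres g)
    have hπb : b.image π ∈ LA := by
      have hoct : (b.map emb ∪ base).image g.1.1 ∈ Cfsg.octads := by
        have hmem := g.1.2
        obtain ⟨⟨c, hc, hce⟩, hcard⟩ := (hb : b.map emb ∪ base ∈ Cfsg.octads)
        refine ⟨?_, by rw [Finset.card_image_of_injective _ g.1.1.injective]; exact hcard⟩
        exact (Cfsg.Agent.PlaneFour.mem_setSystemAut g.1.1).mp hmem ▸
          Set.mem_image_of_mem (fun s : Finset Cfsg.GolayPt => s.image g.1.1) ⟨c, hc, hce⟩
      show (b.image π).map emb ∪ base ∈ Cfsg.octads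
      convert! hoct using 1
      rw [Finset.image_union]
      congr 1
      · rw [Finset.map_eq_image, Finset.map_eq_image, Finset.image_image, Finset.image_image]
        rfl
      · obtain ⟨⟨hp', hq'⟩, hr'⟩ := hfix g
        simp [base, Finset.image_insert, hp', hq', hr']
    have := he ▸ Set.mem_image_of_mem (fun b : Finset X => b.image e) hπb
    convert! this using 1
    simp only [Finset.image_image]
    congr 1
    funext x
    simp [φ, π, Equiv.permCongr_apply]
  let ψ : ↥M →* ↥(Cfsg.setSystemAut LB) := φ.codRestrict _ hφA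
  have hψ : Function.Injective ψ := by
    intro g h hgh
    have h1 : φ g = φ h := congrArg Subtype.val hgh
    refine Subtype.ext (Subtype.ext (Equiv.ext fun z => ?_))
    by_cases hz : z ≠ p ∧ z ≠ q ∧ z ≠ r
    · have h2 : g.1.1.subtypeEquiv (hpres g) = h.1.1.subtypeEquiv (hpres h) := e.permCongr.injective h1
      exact congrArg (fun x : X => x.1) (Equiv.ext_iff.mp h2 ⟨z, hz⟩)
    · obtain ⟨⟨hp', hq'⟩, hr'⟩ := hfix g
      obtain ⟨⟨hp'', hq''⟩, hr''⟩ := hfix h
      simp only [not_and_or, not_not] at hz
      rcases hz with rfl | rfl | rfl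
      exacts [hp'.trans hp''.symm, hq'.trans hq''.symm, hr'.trans hr''.symm]
  -- the linear group
  have hχA : ∀ g : Matrix.ProjectiveSpecialLinearGroup (Fin 3) F,
      Projectivization.PSLAction.toPermHom g ∈ Cfsg.setSystemAut LB := by
    intro g
    obtain ⟨A, rfl⟩ := QuotientGroup.mk_surjective g
    refine hB.mem_aut_of_line_image fun l ⟨W, hW, hl⟩ => ?_
    let T : (Fin 3 → F) ≃ₗ[F] (Fin 3 → F) := Matrix.SpecialLinearGroup.toLin' A
    have hsub : ∀ y : Y, Projectivization.submodule (A • y : Y) =
        (Projectivization.submodule y).map T.toLinearMap := by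
      intro y
      induction y using Projectivization.ind with
      | h v hv =>
        rw [Projectivization.smul_mk, Projectivization.submodule_mk, Projectivization.submodule_mk,
          Submodule.map_span, Set.image_singleton]
        rfl
    refine ⟨W.map T.toLinearMap, by rw [LinearEquiv.finrank_map_eq, hW], fun y => ?_⟩
    have hperm : ∀ x : Y, Projectivization.PSLAction.toPermHom
        (QuotientGroup.mk A : Matrix.ProjectiveSpecialLinearGroup (Fin 3) F) x = (A • x : Y) :=
      fun x => rfl
    rw [Finset.mem_image]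
    constructor
    · rintro ⟨x, hx, rfl⟩
      rw [hperm, hsub]
      exact Submodule.map_mono ((hl x).mp hx)
    · intro hy
      refine ⟨(A⁻¹ • y : Y), (hl _).mpr ?_, by rw [hperm, smul_inv_smul]⟩
      have h1 := hsub (A⁻¹ • y : Y)
      rw [smul_inv_smul] at h1
      rw [h1, Submodule.map_le_map_iff_of_injective T.injective] at hy
      exact hy
  let χ : Matrix.ProjectiveSpecialLinearGroup (Fin 3) F →* ↥(Cfsg.setSystemAut LB) :=
    (Projectivization.PSLAction.toPermHom (K := F) (ι := Fin 3)).codRestrict _ hχA
  have hχ : Function.Injective χ := fun a b hab =>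
    Matrix.ProjectiveSpecialLinearGroup.toPermHom_injective (congrArg Subtype.val hab)
  have hPc : Nat.card (Matrix.ProjectiveSpecialLinearGroup (Fin 3) F) = 20160 := by
    have := CfsgLib.Linear.card_PSL_mul hF 3 (by norm_num)
    rw [Fin.prod_univ_three] at this
    rw [show Nat.gcd 3 (4 - 1) = 3 from rfl] at this
    norm_num at this
    rw [Nat.card_eq_fintype_card]; omega
  haveI : IsSimpleGroup (Matrix.ProjectiveSpecialLinearGroup (Fin 3) F) :=
    CfsgLib.Linear.isSimpleGroup_PSL (Or.inl (by simp))
  have hcK : Nat.card ψ.range = 20160 := by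
    rw [← Nat.card_congr (MonoidHom.ofInjective hψ).toEquiv]
    exact card_three_stab p q r hpq hpr hqr
  have hcN : Nat.card χ.range = 20160 := by
    rw [← Nat.card_congr (MonoidHom.ofInjective hχ).toEquiv, hPc]
  haveI : Nontrivial χ.range := Finite.one_lt_card_iff_nontrivial.mp (by rw [hcN]; norm_num)
  haveI : IsSimpleGroup χ.range :=
    IsSimpleGroup.isSimpleGroup_of_surjective χ.rangeRestrict χ.rangeRestrict_surjective
  have heq := Cfsg.Agent.PlaneFour.eq_of_simple_of_card hB.card_aut_le ψ.range χ.range hcK hcN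
  exact ⟨((MonoidHom.ofInjective hψ).trans (MulEquiv.subgroupCongr heq)).trans
    (MonoidHom.ofInjective hχ).symm⟩

end Cfsg.Agent.S0380
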