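import Cfsg.Statements.S1588
import Mathlib

set_option autoImplicit false
open Matrix
open Cfsg

namespace Cfsg.Agent.S1588

open Finset

private def red (x : Fin 24 → ℤ) : Fin 24 → ZMod 2 := fun i => (x i : ZMod 2)

private lemma red_eq_iff (x y : Fin 24 → ℤ) : red x = red y ↔ ∀ i, (2 : ℤ) ∣ (x - y) i := by
  simp only [red, funext_iff, Pi.sub_apply]
  refine forall_congr' fun i => ?_
  rw [ZMod.intCast_eq_intCast_iff_dvd_sub, ← dvd_neg, neg_sub]
  rfl

section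

variable {B : Matrix (Fin 24) (Fin 24) ℤ}

private lemma congr_short (hsymm : B.IsSymm)
    (hpos : ∀ x : Fin 24 → ℤ, x ≠ 0 → 0 < x ⬝ᵥ (B *ᵥ x))
    (heven : ∀ x : Fin 24 → ℤ, (2 : ℤ) ∣ x ⬝ᵥ (B *ᵥ x))
    (h2 : ∀ x : Fin 24 → ℤ, x ⬝ᵥ (B *ᵥ x) ≠ 2)
    {x y : Fin 24 → ℤ} (hx : x ⬝ᵥ (B *ᵥ x) ≤ 8) (hy : y ⬝ᵥ (B *ᵥ y) ≤ 8)
    (h : red x = red y) (h1 : y ≠ x) (h1' : y ≠ -x) :
    x ⬝ᵥ (B *ᵥ x) = 8 ∧ y ⬝ᵥ (B *ᵥ y) = 8 ∧ x ⬝ᵥ (B *ᵥ y) = 0 := by
  have hd := (red_eq_iff x y).mp h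
  choose z hz using hd
  have hz' : x - y = (2 : ℤ) • z := funext fun i => by rw [hz i]; simp
  set w : Fin 24 → ℤ := z + y with hw
  have hsw : x + y = (2 : ℤ) • w := by rw [hw, smul_add, ← hz']; abel
  have hz0 : z ≠ 0 := fun e => h1 (by rw [e, smul_zero, sub_eq_zero] at hz'; exact hz'.symm)
  have hw0 : w ≠ 0 := fun e => h1' (by
    rw [e, smul_zero, add_eq_zero_iff_eq_neg] at hsw; rw [hsw, neg_neg])
  have hge : ∀ v : Fin 24 → ℤ, v ≠ 0 → 4 ≤ v ⬝ᵥ (B *ᵥ v) := fun v hv => by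
    have := hpos v hv; have := heven v; have := h2 v; omega
  have hcomm : y ⬝ᵥ (B *ᵥ x) = x ⬝ᵥ (B *ᵥ y) := by
    rw [dotProduct_mulVec, ← Matrix.mulVec_transpose, hsymm.eq, dotProduct_comm]
  have e1 : (x - y) ⬝ᵥ (B *ᵥ (x - y)) = 4 * (z ⬝ᵥ (B *ᵥ z)) := by
    rw [hz', mulVec_smul, smul_dotProduct, dotProduct_smul]; simp only [smul_eq_mul]; ring
  have e2 : (x + y) ⬝ᵥ (B *ᵥ (x + y)) = 4 * (w ⬝ᵥ (B *ᵥ w)) := by
    rw [hsw, mulVec_smul, smul_dotProduct, dotProduct_smul]; simp only [smul_eq_mul]; ring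
  simp only [mulVec_add, mulVec_sub, dotProduct_add, add_dotProduct, dotProduct_sub,
    sub_dotProduct, hcomm] at e1 e2
  have := hge z hz0
  have := hge w hw0
  omega

private lemma frame_le (hsymm : B.IsSymm)
    (hpos : ∀ x : Fin 24 → ℤ, x ≠ 0 → 0 < x ⬝ᵥ (B *ᵥ x))
    (heven : ∀ x : Fin 24 → ℤ, (2 : ℤ) ∣ x ⬝ᵥ (B *ᵥ x))
    (h2 : ∀ x : Fin 24 → ℤ, x ⬝ᵥ (B *ᵥ x) ≠ 2)
    (T : Finset (Fin 24 → ℤ)) (h8 : ∀ y ∈ T, y ⬝ᵥ (B *ᵥ y) = 8)
    (hT : ∀ x ∈ T, ∀ y ∈ T, red x = red y) : T.card ≤ 48 := by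
  classical
  let f : (Fin 24 → ℤ) → Finset (Fin 24 → ℤ) := fun y => {y, -y}
  have hfib : ∀ a ∈ T.image f, (T.filter fun y => f y = a).card ≤ 2 := by
    intro a ha
    obtain ⟨x, _, rfl⟩ := Finset.mem_image.mp ha
    refine le_trans (Finset.card_le_card fun y hy => ?_) (Finset.card_le_two (a := x) (b := -x))
    have : y ∈ f y := by simp [f]
    rw [(Finset.mem_filter.mp hy).2] at this
    exact this
  have hmul := Finset.card_le_mul_card_image T 2 hfib
  have hchoice : ∀ a : ↥(T.image f), ∃ y ∈ T, f y = a.1 := fun a => Finset.mem_image.mp a.2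
  choose r hr hrf using hchoice
  have horth : ∀ a b, a ≠ b → r a ⬝ᵥ (B *ᵥ r b) = 0 := by
    intro a b hab
    refine (congr_short hsymm hpos heven h2 (h8 _ (hr a)).le (h8 _ (hr b)).le
      (hT _ (hr a) _ (hr b)) ?_ ?_).2.2
    · exact fun e => hab (Subtype.ext (by rw [← hrf a, ← hrf b, e]))
    · exact fun e => hab (Subtype.ext (by rw [← hrf a, ← hrf b, e]; simp [f, Finset.pair_comm]))
  have hli : LinearIndependent ℤ r := by
    rw [Fintype.linearIndependent_iff]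
    intro c hc a
    have h := congrArg (fun v => v ⬝ᵥ (B *ᵥ r a)) hc
    simp only [sum_dotProduct, zero_dotProduct, smul_dotProduct, smul_eq_mul] at h
    rw [Finset.sum_eq_single a (fun b _ hb => by rw [horth b a hb, mul_zero]) (by simp),
      h8 _ (hr a)] at h
    omega
  have hcard := hli.fintype_card_le_finrank
  rw [Fintype.card_coe, Module.finrank_fin_fun] at hcard
  omega

end

/-- Second step of the characterisation: under the vector counts of the rank-24 lattice, the norm-8 vectors fall into congruence classes of exactly 48 modulo twice the lattice. -/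
theorem result (B : Matrix (Fin 24) (Fin 24) ℤ) (hsymm : B.IsSymm) (hpos : ∀ x : Fin 24 → ℤ, x ≠ 0 → 0 < x ⬝ᵥ (B *ᵥ x)) (heven : ∀ x : Fin 24 → ℤ, (2 : ℤ) ∣ x ⬝ᵥ (B *ᵥ x)) (h2 : ∀ x : Fin 24 → ℤ, x ⬝ᵥ (B *ᵥ x) ≠ 2) (h4 : {x : Fin 24 → ℤ | x ⬝ᵥ (B *ᵥ x) = 4}.ncard = 196560) (h6 : {x : Fin 24 → ℤ | x ⬝ᵥ (B *ᵥ x) = 6}.ncard = 16773120) (h8 : {x : Fin 24 → ℤ | x ⬝ᵥ (B *ᵥ x) = 8}.ncard = 398034000) (x : Fin 24 → ℤ) (hx : x ⬝ᵥ (B *ᵥ x) = 8) : {y : Fin 24 → ℤ | y ⬝ᵥ (B *ᵥ y) = 8 ∧ ∀ i, (2 : ℤ) ∣ (x - y) i}.ncard = 48 := by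
  classical
  let q : (Fin 24 → ℤ) → ℤ := fun v => v ⬝ᵥ (B *ᵥ v)
  have hfin : ∀ m : ℤ, {v | q v = m}.ncard ≠ 0 → {v | q v = m}.Finite :=
    fun m h => Set.finite_of_ncard_ne_zero h
  have f4 := hfin 4 (by simp only [q]; omega)
  have f6 := hfin 6 (by simp only [q]; omega)
  have f8 := hfin 8 (by simp only [q]; omega)
  set S4 := f4.toFinset with hS4
  set S6 := f6.toFinset with hS6
  set S8 := f8.toFinset with hS8
  have c4 : S4.card = 196560 := by rw [hS4, ← Set.ncard_eq_toFinset_card _ f4]; exact h4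
  have c6 : S6.card = 16773120 := by rw [hS6, ← Set.ncard_eq_toFinset_card _ f6]; exact h6
  have c8 : S8.card = 398034000 := by rw [hS8, ← Set.ncard_eq_toFinset_card _ f8]; exact h8
  have m4 : ∀ v, v ∈ S4 ↔ q v = 4 := fun v => by simp [hS4]
  have m6 : ∀ v, v ∈ S6 ↔ q v = 6 := fun v => by simp [hS6]
  have m8 : ∀ v, v ∈ S8 ↔ q v = 8 := fun v => by simp [hS8]
  have two : ∀ S : Finset (Fin 24 → ℤ), (∀ v ∈ S, q v < 8) →
      S.card ≤ 2 * (S.image red).card := by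
    intro S hS
    refine Finset.card_le_mul_card_image S 2 fun a ha => ?_
    obtain ⟨u, hu, rfl⟩ := Finset.mem_image.mp ha
    refine le_trans (Finset.card_le_card fun v hv => ?_) (Finset.card_le_two (a := u) (b := -u))
    obtain ⟨hvS, hvu⟩ := Finset.mem_filter.mp hv
    by_contra hne
    simp only [Finset.mem_insert, Finset.mem_singleton, not_or] at hne
    exact (hS u hu).ne (congr_short hsymm hpos heven h2 (hS u hu).le (hS v hvS).le hvu.symm
      hne.1 hne.2).1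
  have key : ∀ u v, q u ≤ 8 → q v ≤ 8 → red u = red v → q u = q v := by
    intro u v hu hv huv
    by_cases e1 : v = u
    · rw [e1]
    by_cases e2 : v = -u
    · simp [q, e2, mulVec_neg]
    obtain ⟨a, b, -⟩ := congr_short hsymm hpos heven h2 hu hv huv e1 e2
    exact a.trans b.symm
  have dis : ∀ (a b : ℤ) (S S' : Finset (Fin 24 → ℤ)), a ≤ 8 → b ≤ 8 → a ≠ b →
      (∀ v ∈ S, q v = a) → (∀ v ∈ S', q v = b) → Disjoint (S.image red) (S'.image red) := by
    intro a b S S' ha hb hab hS hS'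
    rw [Finset.disjoint_left]
    intro r h1 h1'
    obtain ⟨u, hu, rfl⟩ := Finset.mem_image.mp h1
    obtain ⟨v, hv, hvu⟩ := Finset.mem_image.mp h1'
    exact hab (by rw [← hS u hu, ← hS' v hv]
                  exact key u v (by rw [hS u hu]; exact ha) (by rw [hS' v hv]; exact hb) hvu.symm)
  have q0 : ∀ v ∈ ({0} : Finset (Fin 24 → ℤ)), q v = 0 := by simp [q]
  have n4 : ∀ v ∈ S4, q v = 4 := fun v h => (m4 v).mp h
  have n6 : ∀ v ∈ S6, q v = 6 := fun v h => (m6 v).mp h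
  have n8 : ∀ v ∈ S8, q v = 8 := fun v h => (m8 v).mp h
  have htot : 1 + (S4.image red).card + (S6.image red).card + (S8.image red).card ≤ 16777216 := by
    have h := Finset.card_le_univ
      ((({0} : Finset (Fin 24 → ℤ)).image red ∪ S4.image red) ∪ S6.image red ∪ S8.image red)
    rw [Finset.card_union_of_disjoint, Finset.card_union_of_disjoint,
      Finset.card_union_of_disjoint, Finset.image_singleton, Finset.card_singleton,
      Fintype.card_fun, ZMod.card, Fintype.card_fin] at h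
    · simpa using h
    · exact dis 0 4 _ _ (by norm_num) (by norm_num) (by norm_num) q0 n4
    · exact Finset.disjoint_union_left.mpr
        ⟨dis 0 6 _ _ (by norm_num) (by norm_num) (by norm_num) q0 n6,
          dis 4 6 _ _ (by norm_num) (by norm_num) (by norm_num) n4 n6⟩
    · exact Finset.disjoint_union_left.mpr ⟨Finset.disjoint_union_left.mpr
        ⟨dis 0 8 _ _ (by norm_num) (by norm_num) (by norm_num) q0 n8,
          dis 4 8 _ _ (by norm_num) (by norm_num) (by norm_num) n4 n8⟩,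
          dis 6 8 _ _ (by norm_num) (by norm_num) (by norm_num) n6 n8⟩
  have t4 := two S4 (fun v hv => by rw [n4 v hv]; norm_num)
  have t6 := two S6 (fun v hv => by rw [n6 v hv]; norm_num)
  have hle : ∀ a ∈ S8.image red, (S8.filter fun v => red v = a).card ≤ 48 := fun a _ =>
    frame_le hsymm hpos heven h2 _ (fun v hv => n8 v (Finset.mem_filter.mp hv).1)
      (fun u hu v hv => (Finset.mem_filter.mp hu).2.trans (Finset.mem_filter.mp hv).2.symm)
  have hsum := Finset.card_eq_sum_card_image red S8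
  have hxS : x ∈ S8 := (m8 x).mpr hx
  have hset : {y : Fin 24 → ℤ | y ⬝ᵥ (B *ᵥ y) = 8 ∧ ∀ i, (2 : ℤ) ∣ (x - y) i} =
      ↑(S8.filter fun v => red v = red x) := by
    ext y
    simp only [Set.mem_ofPred_eq, Finset.coe_filter, m8, ← red_eq_iff, eq_comm (a := red x)]
    exact Iff.rfl
  rw [hset, Set.ncard_coe_finset]
  refine le_antisymm (hle _ (Finset.mem_image_of_mem _ hxS)) ?_
  by_contra hlt
  rw [not_le] at hlt
  have hstrict : S8.card < ∑ _a ∈ S8.image red, 48 := by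
    rw [hsum]
    exact Finset.sum_lt_sum hle ⟨_, Finset.mem_image_of_mem _ hxS, hlt⟩
  rw [Finset.sum_const, smul_eq_mul] at hstrict
  omega

end Cfsg.Agent.S1588
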