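import Cfsg.Statements.S0406
import Cfsg.Agent.LeechChar.Basic
import Cfsg.Agent.S1588

set_option autoImplicit false
open Matrix
open Cfsg

namespace Cfsg.Agent.S0406

open Finset

variable {B : Matrix (Fin 24) (Fin 24) ℤ}

private lemma orth_of_congr (hsymm : B.IsSymm)
    (hpos : ∀ x : Fin 24 → ℤ, x ≠ 0 → 0 < x ⬝ᵥ (B *ᵥ x))
    (heven : ∀ x : Fin 24 → ℤ, (2 : ℤ) ∣ x ⬝ᵥ (B *ᵥ x))
    (h2 : ∀ x : Fin 24 → ℤ, x ⬝ᵥ (B *ᵥ x) ≠ 2)
    {x y : Fin 24 → ℤ} (hx : x ⬝ᵥ (B *ᵥ x) = 8) (hy : y ⬝ᵥ (B *ᵥ y) = 8)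
    (hd : ∀ i, (2 : ℤ) ∣ (x - y) i) (h1 : y ≠ x) (h1' : y ≠ -x) :
    x ⬝ᵥ (B *ᵥ y) = 0 := by
  choose z hz using hd
  have hz' : x - y = (2 : ℤ) • z := funext fun i => by rw [hz i]; simp
  set w : Fin 24 → ℤ := z + y with hw
  have hsw : x + y = (2 : ℤ) • w := by rw [hw, smul_add, ← hz']; abel
  have hz0 : z ≠ 0 := fun e => h1 (by rw [e, smul_zero, sub_eq_zero] at hz'; exact hz'.symm)
  have hw0 : w ≠ 0 := fun e => h1' (by
    rw [e, smul_zero, add_eq_zero_iff_eq_neg] at hsw; rw [hsw, neg_neg])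
  have hge : ∀ v : Fin 24 → ℤ, v ≠ 0 → 4 ≤ v ⬝ᵥ (B *ᵥ v) := fun v hv => by
    have := hpos v hv; have := heven v; have := h2 v; omega
  have hcomm : y ⬝ᵥ (B *ᵥ x) = x ⬝ᵥ (B *ᵥ y) := by
    rw [dotProduct_mulVec, ← Matrix.mulVec_transpose, hsymm.eq, dotProduct_comm]
  have e1 : (x - y) ⬝ᵥ (B *ᵥ (x - y)) = 4 * (z ⬝ᵥ (B *ᵥ z)) := by
    rw [hz', mulVec_smul, smul_dotProduct, dotProduct_smul]; simp only [smul_eq_mul]; ring
  have e2 : (x + y) ⬝ᵥ (B *ᵥ (x + y)) = 4 * (w ⬝ᵥ (B *ᵥ w)) := by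
    rw [hsw, mulVec_smul, smul_dotProduct, dotProduct_smul]; simp only [smul_eq_mul]; ring
  simp only [mulVec_add, mulVec_sub, dotProduct_add, add_dotProduct, dotProduct_sub,
    sub_dotProduct, hcomm] at e1 e2
  have := hge z hz0
  have := hge w hw0
  omega

/-- A family of pairwise orthogonal vectors of norm 8 is linearly independent. -/
private lemma indep_of_orth {κ : Type*} [Fintype κ] [DecidableEq κ] (r : κ → Fin 24 → ℤ)
    (h8 : ∀ a, r a ⬝ᵥ (B *ᵥ r a) ≠ 0) (horth : ∀ a b, a ≠ b → r a ⬝ᵥ (B *ᵥ r b) = 0) :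
    Fintype.card κ ≤ 24 := by
  have hli : LinearIndependent ℤ r := by
    rw [Fintype.linearIndependent_iff]
    intro c hc a
    have h := congrArg (fun v => v ⬝ᵥ (B *ᵥ r a)) hc
    simp only [sum_dotProduct, zero_dotProduct, smul_dotProduct, smul_eq_mul] at h
    rw [Finset.sum_eq_single a (fun b _ hb => by rw [horth b a hb, mul_zero]) (by simp)] at h
    exact (mul_eq_zero.mp h).resolve_right (h8 a)
  have := hli.fintype_card_le_finrank
  rwa [Module.finrank_fin_fun] at this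

/-- A rank-24 even lattice with no roots and the stated numbers of vectors of norms 4, 6, 8 is isomorphic to the Leech lattice. -/
theorem result (B : Matrix (Fin 24) (Fin 24) ℤ) (hsymm : B.IsSymm) (hpos : ∀ x : Fin 24 → ℤ, x ≠ 0 → 0 < x ⬝ᵥ (B *ᵥ x)) (heven : ∀ x : Fin 24 → ℤ, (2 : ℤ) ∣ x ⬝ᵥ (B *ᵥ x)) (h2 : ∀ x : Fin 24 → ℤ, x ⬝ᵥ (B *ᵥ x) ≠ 2) (h4 : {x : Fin 24 → ℤ | x ⬝ᵥ (B *ᵥ x) = 4}.ncard = 196560) (h6 : {x : Fin 24 → ℤ | x ⬝ᵥ (B *ᵥ x) = 6}.ncard = 16773120) (h8 : {x : Fin 24 → ℤ | x ⬝ᵥ (B *ᵥ x) = 8}.ncard = 398034000) : ∃ f : (Fin 24 → ℤ) ≃+ Cfsg.leechLattice, ∀ x : Fin 24 → ℤ, Cfsg.sqNorm ((f x : Cfsg.leechLattice) : Cfsg.GolayPt → ℤ) = 8 * (x ⬝ᵥ (B *ᵥ x)) := by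
  classical
  let q : (Fin 24 → ℤ) → ℤ := fun v => v ⬝ᵥ (B *ᵥ v)
  obtain ⟨x₀, hx₀⟩ : {x : Fin 24 → ℤ | x ⬝ᵥ (B *ᵥ x) = 8}.Nonempty :=
    Set.nonempty_of_ncard_ne_zero (by rw [h8]; norm_num)
  simp only [Set.mem_ofPred_eq] at hx₀
  have h48 := Cfsg.Agent.S1588.result B hsymm hpos heven h2 h4 h6 h8 x₀ hx₀
  have hfin := Set.finite_of_ncard_ne_zero (h48.trans_ne (by norm_num))
  set T := hfin.toFinset with hT
  have hmT : ∀ y, y ∈ T ↔ q y = 8 ∧ ∀ i, (2 : ℤ) ∣ (x₀ - y) i := fun y => by simp [hT, q]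
  have hcT : T.card = 48 := by rw [hT, ← Set.ncard_eq_toFinset_card _ hfin]; exact h48
  have hTc : ∀ a ∈ T, ∀ b ∈ T, ∀ i, (2 : ℤ) ∣ (a - b) i := fun a ha b hb i => by
    have h1 := ((hmT a).mp ha).2 i
    have h2 := ((hmT b).mp hb).2 i
    simp only [Pi.sub_apply] at *
    omega
  let f : (Fin 24 → ℤ) → Finset (Fin 24 → ℤ) := fun y => {y, -y}
  have hfib : ∀ a ∈ T.image f, (T.filter fun y => f y = a).card ≤ 2 := by
    intro a ha
    obtain ⟨x, _, rfl⟩ := Finset.mem_image.mp ha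
    refine le_trans (Finset.card_le_card fun y hy => ?_) (Finset.card_le_two (a := x) (b := -x))
    have : y ∈ f y := by simp [f]
    rw [(Finset.mem_filter.mp hy).2] at this
    exact this
  have hge := Finset.card_le_mul_card_image T 2 hfib
  have hchoice : ∀ a : ↥(T.image f), ∃ y ∈ T, f y = a.1 := fun a => Finset.mem_image.mp a.2
  choose r hr hrf using hchoice
  have hq8 : ∀ a, q (r a) = 8 := fun a => ((hmT _).mp (hr a)).1
  have horth' : ∀ a b, a ≠ b → r a ⬝ᵥ (B *ᵥ r b) = 0 := by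
    intro a b hab
    refine orth_of_congr hsymm hpos heven h2 (hq8 a) (hq8 b) (hTc _ (hr a) _ (hr b)) ?_ ?_
    · exact fun e => hab (Subtype.ext (by rw [← hrf a, ← hrf b, e]))
    · exact fun e => hab (Subtype.ext (by rw [← hrf a, ← hrf b, e]; simp [f, Finset.pair_comm]))
  have hle := indep_of_orth r (fun a => by have := hq8 a; simp only [q] at this; omega) horth'
  have hcard : Fintype.card ↥(T.image f) = 24 := by rw [Fintype.card_coe] at hle ⊢; omega
  -- coordinates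
  let φ : (Fin 24 → ℤ) →+ (↥(T.image f) → ℤ) :=
    { toFun := fun x a => x ⬝ᵥ (B *ᵥ r a)
      map_zero' := funext fun a => by simp
      map_add' := fun x y => funext fun a => by simp [add_dotProduct] }
  have hcomm : ∀ x y : Fin 24 → ℤ, y ⬝ᵥ (B *ᵥ x) = x ⬝ᵥ (B *ᵥ y) := fun x y => by
    rw [dotProduct_mulVec, ← Matrix.mulVec_transpose, hsymm.eq, dotProduct_comm]
  have hdotr : ∀ a b, r a ⬝ᵥ (B *ᵥ r b) = if a = b then 8 else 0 := fun a b => by
    split_ifs with e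
    · subst e; exact hq8 a
    · exact horth' a b e
  have hcomplete : ∀ x : Fin 24 → ℤ, (8 : ℤ) • x = ∑ a, φ x a • r a := by
    intro x
    set y := (8 : ℤ) • x - ∑ a, φ x a • r a with hy
    by_contra hne
    have hy0 : y ≠ 0 := sub_ne_zero.mpr hne
    have hperp : ∀ b, y ⬝ᵥ (B *ᵥ r b) = 0 := by
      intro b
      rw [hy, sub_dotProduct, smul_dotProduct, sum_dotProduct]
      simp only [smul_dotProduct, hdotr, smul_eq_mul, mul_ite, mul_zero, Finset.sum_ite_eq',
        Finset.mem_univ, if_true]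
      simp only [φ, AddMonoidHom.coe_mk, ZeroHom.coe_mk]
      ring
    have h25 := indep_of_orth (B := B) (fun o : Option ↥(T.image f) => o.elim y r)
      (by rintro (_ | a)
          · exact (hpos y hy0).ne'
          · have := hq8 a; simp only [q, Option.elim] at *; omega)
      (by rintro (_ | a) (_ | b) hab
          · exact absurd rfl hab
          · exact hperp b
          · exact (hcomm y (r a)).trans (hperp a)
          · exact horth' a b fun e => hab (by rw [e]))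
    rw [Fintype.card_option, hcard] at h25
    omega
  have hnorm : ∀ x, Cfsg.sqNorm (φ x) = 8 * q x := by
    intro x
    have h := congrArg (fun v => v ⬝ᵥ (B *ᵥ x)) (hcomplete x)
    simp only [smul_dotProduct, sum_dotProduct, smul_eq_mul] at h
    rw [show (8 : ℤ) * q x = 8 * (x ⬝ᵥ (B *ᵥ x)) from rfl, h, Cfsg.sqNorm]
    refine Finset.sum_congr rfl fun a _ => ?_
    rw [hcomm x (r a)]
    simp only [φ, AddMonoidHom.coe_mk, ZeroHom.coe_mk]
    ring
  have hinj : Function.Injective φ := by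
    rw [injective_iff_map_eq_zero]
    intro x hx
    by_contra hne
    have h := hnorm x
    rw [hx, show Cfsg.sqNorm (0 : ↥(T.image f) → ℤ) = 0 by simp [Cfsg.sqNorm]] at h
    have := hpos x hne
    simp only [q] at h
    omega
  have hφr : ∀ a b, φ (r a) b = if a = b then 8 else 0 := fun a b => hdotr a b
  have hfour : ∀ z : ↥(T.image f) → ℤ, (2 : ℤ) ∣ ∑ a, z a → (fun a => 4 * z a) ∈ φ.range := by
    intro z hz
    have hdiv : ∀ i, (2 : ℤ) ∣ (∑ a, z a • r a) i := by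
      intro i
      rw [Finset.sum_apply]
      simp only [Pi.smul_apply, smul_eq_mul]
      have h1 : (2 : ℤ) ∣ ∑ a, (z a * r a i - z a * x₀ i) := Finset.dvd_sum fun a _ => by
        rw [← mul_sub]
        refine dvd_mul_of_dvd_right ?_ _
        have := ((hmT _).mp (hr a)).2 i
        simp only [Pi.sub_apply] at this
        omega
      rw [Finset.sum_sub_distrib, ← Finset.sum_mul] at h1
      have h3 : (2 : ℤ) ∣ (∑ a, z a) * x₀ i := dvd_mul_of_dvd_left hz _
      omega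
    choose y hy using hdiv
    refine ⟨y, funext fun b => ?_⟩
    have e : (∑ a, z a • r a) = (2 : ℤ) • y := funext fun i => by rw [hy i]; simp
    have h := congrArg (fun v => v ⬝ᵥ (B *ᵥ r b)) e
    simp only [sum_dotProduct, smul_dotProduct, hdotr, smul_eq_mul, mul_ite, mul_zero,
      Finset.sum_ite_eq', Finset.mem_univ, if_true] at h
    show y ⬝ᵥ (B *ᵥ r b) = 4 * z b
    omega
  have hF : Cfsg.Agent.LeechChar.Framed φ.range := by
    refine ⟨hcard, ?_, hfour, ?_, ?_, ?_⟩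
    · rintro v ⟨x, rfl⟩ a b
      have hd := hTc _ (hr a) _ (hr b)
      choose z hz using hd
      have e : r a = r b + (2 : ℤ) • z := funext fun i => by
        have := hz i; simp only [Pi.sub_apply, Pi.add_apply, Pi.smul_apply, smul_eq_mul] at *; omega
      simp only [φ, AddMonoidHom.coe_mk, ZeroHom.coe_mk]
      rw [e, mulVec_add, mulVec_smul, dotProduct_add, dotProduct_smul, smul_eq_mul]
      omega
    · rintro v ⟨x, rfl⟩
      rw [hnorm]
      have := heven x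
      simp only [q]
      omega
    · rintro v ⟨x, rfl⟩ hne
      rw [hnorm]
      have hx0 : x ≠ 0 := fun e => hne (by rw [e, map_zero])
      have := hpos x hx0; have := heven x; have := h2 x
      simp only [q]
      omega
    · rw [show {v : ↥(T.image f) → ℤ | v ∈ φ.range ∧ Cfsg.sqNorm v = 32} =
          φ '' {x | x ⬝ᵥ (B *ᵥ x) = 4} from ?_, Set.ncard_image_of_injective _ hinj, h4]
      ext v
      simp only [Set.mem_ofPred_eq, Set.mem_image, AddMonoidHom.mem_range]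
      constructor
      · rintro ⟨⟨x, rfl⟩, hx⟩
        exact ⟨x, by rw [hnorm] at hx; simp only [q] at hx; omega, rfl⟩
      · rintro ⟨x, hx, rfl⟩
        exact ⟨⟨x, rfl⟩, by rw [hnorm]; simp only [q, hx]; norm_num⟩
  obtain ⟨σ, s, hs, hiff⟩ := Cfsg.Agent.LeechChar.exists_signed_equiv hF
  let ψ : (Fin 24 → ℤ) →+ (Cfsg.GolayPt → ℤ) :=
    { toFun := fun x p => s (σ.symm p) * φ x (σ.symm p)
      map_zero' := funext fun p => by simp
      map_add' := fun x y => funext fun p => by simp [mul_add] }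
  have hψinj : Function.Injective ψ := fun x y e => hinj (funext fun a => by
    have h : s (σ.symm (σ a)) * φ x (σ.symm (σ a)) = s (σ.symm (σ a)) * φ y (σ.symm (σ a)) :=
      congrFun e (σ a)
    rw [Equiv.symm_apply_apply] at h
    exact mul_left_cancel₀ (left_ne_zero_of_mul_eq_one (hs a)) h)
  have hrange : ψ.range = Cfsg.leechLattice := by
    ext w
    constructor
    · rintro ⟨x, rfl⟩
      exact (hiff (φ x)).mp ⟨x, rfl⟩
    · intro hw
      have e : (fun p => s (σ.symm p) * (s (σ.symm p) * w (σ (σ.symm p)))) = w := funext fun p => by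
        rw [← mul_assoc, hs, one_mul, Equiv.apply_symm_apply]
      obtain ⟨x, hx⟩ := (hiff (fun a => s a * w (σ a))).mpr (by rw [e]; exact hw)
      refine ⟨x, funext fun p => ?_⟩
      show s (σ.symm p) * φ x (σ.symm p) = w p
      rw [hx]
      exact congrFun e p
  refine ⟨(AddMonoidHom.ofInjective hψinj).trans (AddEquiv.addSubgroupCongr hrange), fun x => ?_⟩
  show Cfsg.sqNorm (ψ x) = _
  rw [← show 8 * q x = 8 * (x ⬝ᵥ (B *ᵥ x)) from rfl, ← hnorm, Cfsg.sqNorm, Cfsg.sqNorm,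
    ← Equiv.sum_comp σ]
  refine Finset.sum_congr rfl fun a _ => ?_
  simp only [ψ, AddMonoidHom.coe_mk, ZeroHom.coe_mk, Equiv.symm_apply_apply, mul_pow, sq (s a), hs,
    one_mul]

end Cfsg.Agent.S0406
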