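import Cfsg.Statements.S0423
import Cfsg.Agent.J2.Main

set_option autoImplicit false
open Cfsg

namespace Cfsg.Agent.S0423

/-- Existence of a simple group of order 604800. -/
theorem result : ∃ G : Subgroup (Equiv.Perm (Fin 100)), Cfsg.IsJ2 G := by
  have hinj := CfsgLib.J2.Perm.ρ100_injective
  have e := MonoidHom.ofInjective hinj
  have := CfsgLib.J2.Perm.isSimple
  exact ⟨CfsgLib.J2.Perm.ρ100.range, e.symm.isSimpleGroup,
    (Nat.card_congr e.toEquiv).symm.trans CfsgLib.J2.Perm.card_P⟩

end Cfsg.Agent.S0423
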