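import Cfsg.Statements.S0427
import Cfsg.Agent.Steiner.Graph

set_option autoImplicit false
open Cfsg

namespace Cfsg.Agent.S0427

/-- The block graph (adjacent = disjoint) of an S(3, 6, 22) is strongly regular with parameters (77, 16, 0, 4). -/
theorem result {α : Type*} [Fintype α] (hα : Fintype.card α = 22) {B : Set (Finset α)} (hB : Cfsg.IsSteinerSystem 3 6 B) [Fintype B] [DecidableRel (Cfsg.blockGraph B).Adj] : (Cfsg.blockGraph B).IsSRGWith 77 16 0 4 := by
  classical
  refine ⟨CfsgLib.Steiner.card_all hB hα, fun b => ?_, fun b c h => ?_, fun b c hne h => ?_⟩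
  · rw [← SimpleGraph.card_neighborFinset_eq_degree, ← CfsgLib.Steiner.disjoint_count hB hα b.2,
      ← CfsgLib.Steiner.card_sub (B := B) (fun c => Disjoint (b : Finset α) c)]
    congr 1
    ext c
    rw [SimpleGraph.mem_neighborFinset, Finset.mem_filter, CfsgLib.Steiner.blockGraph_adj]
    refine ⟨fun h => ⟨Finset.mem_univ _, h.2⟩, fun h => ⟨fun hbc => ?_, h.2⟩⟩
    subst hbc
    have h2 := hB.1 b b.2
    rw [disjoint_self.mp h.2, Finset.bot_eq_empty, Finset.card_empty] at h2
    omega
  all_goals
    have hcount : Fintype.card ((Cfsg.blockGraph B).commonNeighbors b c) =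
        ((CfsgLib.Steiner.blocks B).filter fun d =>
          Disjoint (b : Finset α) d ∧ Disjoint (c : Finset α) d).card := by
      rw [← CfsgLib.Steiner.card_sub (B := B) (fun d => Disjoint (b : Finset α) d ∧ Disjoint (c : Finset α) d),
        ← Set.toFinset_card]
      congr 1
      ext d
      rw [Set.mem_toFinset, Finset.mem_filter]
      simp only [SimpleGraph.commonNeighbors, Set.mem_inter_iff, SimpleGraph.mem_neighborSet,
        CfsgLib.Steiner.blockGraph_adj, Finset.mem_univ, true_and]
      refine ⟨fun h => ⟨h.1.2, h.2.2⟩, fun h => ⟨⟨fun hbd => ?_, h.1⟩, fun hcd => ?_, h.2⟩⟩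
      · subst hbd
        have h2 := hB.1 b b.2
        rw [disjoint_self.mp h.1, Finset.bot_eq_empty, Finset.card_empty] at h2
        omega
      · subst hcd
        have h2 := hB.1 c c.2
        rw [disjoint_self.mp h.2, Finset.bot_eq_empty, Finset.card_empty] at h2
        omega
  · have h' := (CfsgLib.Steiner.blockGraph_adj b c).mp h
    rw [hcount, CfsgLib.Steiner.disjoint_both hB hα b.2 c.2 (fun e => h'.1 (Subtype.ext e)), if_pos h'.2]
  · rw [hcount, CfsgLib.Steiner.disjoint_both hB hα b.2 c.2 (fun e => hne (Subtype.ext e)),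
      if_neg fun hd => h ((CfsgLib.Steiner.blockGraph_adj b c).mpr ⟨hne, hd⟩)]

end Cfsg.Agent.S0427
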