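import Cfsg.Statements.S0428
import Cfsg.Agent.Steiner.Graph

set_option autoImplicit false
open Cfsg

namespace Cfsg.Agent.S0428

/-- The point-block graph of an S(3, 6, 22) is strongly regular with parameters (100, 22, 0, 6). -/
theorem result {α : Type*} [Fintype α] (hα : Fintype.card α = 22) {B : Set (Finset α)} (hB : Cfsg.IsSteinerSystem 3 6 B) [Fintype B] [DecidableRel (Cfsg.pointBlockGraph B).Adj] : (Cfsg.pointBlockGraph B).IsSRGWith 100 22 0 6 := by
  classical
  have hne0 : ∀ b : B, (b : Finset α).Nonempty := fun b => Finset.card_pos.mp (by rw [hB.1 b b.2]; norm_num)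
  have hnd : ∀ b : B, ¬ Disjoint (b : Finset α) (b : Finset α) := fun b h => by
    rw [disjoint_self] at h; exact (hne0 b).ne_empty h
  have h1 : ∀ x, (Cfsg.pointBlockGraph B).Adj none x ↔ ∃ p, x = some (Sum.inl p) := by
    intro x
    show none ≠ x ∧ (_ ∨ _) ↔ _
    rcases x with _ | (p | c) <;> simp [Cfsg.pointBlockRel]
  have h2 : ∀ p x, (Cfsg.pointBlockGraph B).Adj (some (Sum.inl p)) x ↔
      x = none ∨ ∃ c : B, p ∈ (c : Finset α) ∧ x = some (Sum.inr c) := by
    intro p x
    show some (Sum.inl p) ≠ x ∧ (_ ∨ _) ↔ _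
    rcases x with _ | (q | c) <;> simp [Cfsg.pointBlockRel]
  have h3 : ∀ b x, (Cfsg.pointBlockGraph B).Adj (some (Sum.inr b)) x ↔
      (∃ p ∈ (b : Finset α), x = some (Sum.inl p)) ∨
        ∃ c : B, Disjoint (b : Finset α) c ∧ x = some (Sum.inr c) := by
    intro b x
    show some (Sum.inr b) ≠ x ∧ (_ ∨ _) ↔ _
    rcases x with _ | (q | c) <;> simp [Cfsg.pointBlockRel, disjoint_comm]
    intro hd hbc
    subst hbc
    exact hnd b hd
  let P : Finset α → Finset (Option (α ⊕ B)) := fun s => s.image fun p => some (Sum.inl p)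
  let Q : (Finset α → Prop) → Finset (Option (α ⊕ B)) := fun φ =>
    ((Finset.univ : Finset B).filter fun c : B => φ c).image fun c => some (Sum.inr c)
  have hP : ∀ s, (P s).card = s.card := fun s =>
    Finset.card_image_of_injective _ fun p q h => by simpa using h
  have hQ : ∀ φ : Finset α → Prop, (Q φ).card = ((CfsgLib.Steiner.blocks B).filter φ).card := fun φ => by
    rw [← CfsgLib.Steiner.card_sub (B := B) φ]
    exact Finset.card_image_of_injective _ fun p q h => by simpa using h
  have c1 : ∀ p : α, (Q fun s => p ∈ s).card = 21 := fun p => by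
    rw [hQ (fun s => p ∈ s)]; convert CfsgLib.Steiner.count_point hB hα p
  have c2 : ∀ b : B, (Q fun s => Disjoint (b : Finset α) s).card = 16 := fun b => by
    rw [hQ (fun s => Disjoint (b : Finset α) s)]; convert CfsgLib.Steiner.disjoint_count hB hα b.2
  have c3 : ∀ p q : α, p ≠ q → (Q fun s => p ∈ s ∧ q ∈ s).card = 5 := fun p q h => by
    rw [hQ (fun s => p ∈ s ∧ q ∈ s)]; convert CfsgLib.Steiner.count_pair hB hα h
  have c4 : ∀ (p : α) (b : B), p ∉ (b : Finset α) →
      (Q fun s => p ∈ s ∧ Disjoint (b : Finset α) s).card = 6 := fun p b h => by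
    rw [hQ (fun s => p ∈ s ∧ Disjoint (b : Finset α) s)]
    convert CfsgLib.Steiner.disjoint_through hB hα b.2 h
  have c5 : ∀ b c : B, b ≠ c → ¬ Disjoint (b : Finset α) c →
      (Q fun s => Disjoint (b : Finset α) s ∧ Disjoint (c : Finset α) s).card = 4 := fun b c h h' => by
    rw [hQ (fun s => Disjoint (b : Finset α) s ∧ Disjoint (c : Finset α) s)]
    have := CfsgLib.Steiner.disjoint_both hB hα b.2 c.2 (fun e => h (Subtype.ext e))
    rw [if_neg h'] at this
    convert this
  have hPQ : ∀ s φ, Disjoint (P s) (Q φ) := fun s φ => by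
    rw [Finset.disjoint_left]
    intro x hx hx'
    simp only [P, Q, Finset.mem_image] at hx hx'
    obtain ⟨p, -, rfl⟩ := hx
    obtain ⟨c, -, h⟩ := hx'
    simp at h
  have hcn : ∀ (v w : Option (α ⊕ B)) (S : Finset (Option (α ⊕ B))),
      (∀ x, ((Cfsg.pointBlockGraph B).Adj v x ∧ (Cfsg.pointBlockGraph B).Adj w x) ↔ x ∈ S) →
      Fintype.card ((Cfsg.pointBlockGraph B).commonNeighbors v w) = S.card := by
    intro v w S hS
    rw [← Set.toFinset_card]
    congr 1
    ext x
    rw [Set.mem_toFinset, ← hS]
    rfl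
  refine ⟨?_, fun v => ?_, ?_, ?_⟩
  · rw [Fintype.card_option, Fintype.card_sum, hα, CfsgLib.Steiner.card_all hB hα]
  · rw [← SimpleGraph.card_neighborFinset_eq_degree]
    rcases v with _ | (p | b)
    · rw [show (Cfsg.pointBlockGraph B).neighborFinset none = P Finset.univ by
        ext x; simp [SimpleGraph.mem_neighborFinset, h1, P, eq_comm], hP, Finset.card_univ, hα]
    · rw [show (Cfsg.pointBlockGraph B).neighborFinset (some (Sum.inl p)) = insert none (Q (p ∈ ·)) by
        ext x; simp [SimpleGraph.mem_neighborFinset, h2, Q, eq_comm],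
        Finset.card_insert_of_notMem (by simp [Q]), c1]
    · rw [show (Cfsg.pointBlockGraph B).neighborFinset (some (Sum.inr b)) =
          P b ∪ Q (Disjoint (b : Finset α) ·) by
        ext x; simp [SimpleGraph.mem_neighborFinset, h3, P, Q, eq_comm],
        Finset.card_union_of_disjoint (hPQ _ _), hP, c2,
        hB.1 b b.2]
  · intro v w h
    have hs : (Cfsg.pointBlockGraph B).commonNeighbors v w = ∅ := by
      refine Set.eq_empty_iff_forall_notMem.mpr fun x hx => ?_
      have hv : (Cfsg.pointBlockGraph B).Adj v x := hx.1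
      have hw : (Cfsg.pointBlockGraph B).Adj w x := hx.2
      rcases v with _ | (p | b) <;> rcases w with _ | (q | c) <;> rcases x with _ | (r | d) <;>
        simp [h1, h2, h3] at h hv hw
      · exact Finset.disjoint_left.mp hw h hv
      · exact Finset.disjoint_left.mp hv h hw
      · exact Finset.disjoint_left.mp h hv hw
      · have h0 := CfsgLib.Steiner.disjoint_both hB hα b.2 c.2 (fun e => by
          have := Subtype.ext e; subst this; exact hnd b h)
        rw [if_pos h, Finset.card_eq_zero, Finset.filter_eq_empty_iff] at h0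
        exact h0 (CfsgLib.Steiner.mem_blocks.mpr d.2) ⟨hv, hw⟩
    simp [hs]
  · intro v w hne h
    rcases v with _ | (p | b) <;> rcases w with _ | (q | c)
    · exact absurd rfl hne
    · simp [h1] at h
    · rw [hcn _ _ (P c) fun x => by
        rcases x with _ | (r | d) <;> simp [h1, h3, P], hP, hB.1 c c.2]
    · simp [h2] at h
    · have hpq : p ≠ q := fun e => hne (by rw [e])
      rw [hcn _ _ (insert none (Q fun s => p ∈ s ∧ q ∈ s)) fun x => by
        rcases x with _ | (r | d) <;> simp [h2, Q],
        Finset.card_insert_of_notMem (by simp [Q]), c3 p q hpq]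
    · simp [h2] at h
      rw [hcn _ _ (Q fun s => p ∈ s ∧ Disjoint (c : Finset α) s) fun x => by
        rcases x with _ | (r | d) <;> simp [h2, h3, Q],
        c4 p c h]
    · rw [hcn _ _ (P b) fun x => by
        rcases x with _ | (r | d) <;> simp [h1, h3, P], hP, hB.1 b b.2]
    · simp [h3] at h
      rw [hcn _ _ (Q fun s => q ∈ s ∧ Disjoint (b : Finset α) s) fun x => by
        rcases x with _ | (r | d) <;> simp [h2, h3, Q, and_comm],
        c4 q b h]
    · simp [h3] at h
      have hbc : (b : Finset α) ≠ c := fun e => hne (by rw [Subtype.ext e])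
      rw [hcn _ _ (P ((b : Finset α) ∩ c) ∪ Q fun s => Disjoint (b : Finset α) s ∧ Disjoint (c : Finset α) s)
        fun x => by rcases x with _ | (r | d) <;> simp [h3, P, Q],
        Finset.card_union_of_disjoint (hPQ ((b : Finset α) ∩ c) (fun s => Disjoint (b : Finset α) s ∧ Disjoint (c : Finset α) s)), hP, c5 b c (fun e => hne (by rw [e])) h]
      rcases CfsgLib.Steiner.inter_cases_22 hB hα b.2 c.2 hbc with h' | h'
      · exact absurd (Finset.disjoint_iff_inter_eq_empty.mpr (Finset.card_eq_zero.mp h')) h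
      · rw [h']

end Cfsg.Agent.S0428
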