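import Cfsg.Statements.S0437
import Cfsg.Agent.Spor3T.Basic

set_option autoImplicit false
open Cfsg

namespace Cfsg.Agent.S0437

/-- For three distinct, pairwise commuting members a, b, c of a set of 3-transpositions E, a member e of E centralises a * b * c if and only if it centralises each of a, b and c. -/
theorem result {G : Type*} [Group G] {E : Set G} (hE : Cfsg.IsThreeTranspositionSet E) {a b c e : G} (ha : a ∈ E) (hb : b ∈ E) (hc : c ∈ E) (he : e ∈ E) (hab : a ≠ b) (hac : a ≠ c) (hbc : b ≠ c) (h₁ : Commute a b) (h₂ : Commute a c) (h₃ : Commute b c) : Commute e (a * b * c) ↔ (Commute e a ∧ Commute e b ∧ Commute e c) := by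
  open CfsgLib.ThreeT in
  refine ⟨fun hx => ?_, fun hh => (hh.1.mul_right hh.2.1).mul_right hh.2.2⟩
  have aux : ∀ {p q r : G}, p ∈ E → q ∈ E → r ∈ E → q ≠ r → Commute q r →
      Commute e (p * (q * r)) → Commute e p → Commute e p ∧ Commute e q ∧ Commute e r := by
    intro p q r hp hq hr hqr hc hpqr hep
    have h1 : Commute e (q * r) := by
      simpa using hep.inv_right.mul_right hpqr
    have h2 := (CfsgLib.ThreeT.commute_mul_iff hE hq hr he hc hqr).mp h1.symm
    exact ⟨hep, h2.1.symm, h2.2.symm⟩
  by_cases hea : Commute e a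
  · exact aux ha hb hc hbc h₃ (by rwa [← mul_assoc]) hea
  by_cases heb : Commute e b
  · have := aux hb ha hc hac h₂ (by rwa [← mul_assoc, ← h₁.eq]) heb
    exact ⟨this.2.1, this.1, this.2.2⟩
  by_cases hec : Commute e c
  · have := aux hc ha hb hab h₁ (by rwa [← (h₂.mul_left h₃).eq]) hec
    exact ⟨this.2.1, this.2.2, this.1⟩
  exfalso
  have sa := CfsgLib.ThreeT.sq hE ha
  have sb := CfsgLib.ThreeT.sq hE hb
  have sc := CfsgLib.ThreeT.sq hE hc
  have se := CfsgLib.ThreeT.sq hE he
  have ba := CfsgLib.ThreeT.braid hE ha he (fun h => hea h.symm)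
  have bb := CfsgLib.ThreeT.braid hE hb he (fun h => heb h.symm)
  have bc := CfsgLib.ThreeT.braid hE hc he (fun h => hec h.symm)
  -- conjugation by `a * b * c` fixes `e`
  have hfix : a * b * c * e * c * b * a = e := by
    calc a * b * c * e * c * b * a = (a * b * c * e) * (c * b * a) := by group
      _ = e * (a * b * (c * c) * b * a) := by rw [← hx.eq]; group
      _ = e := by rw [sc, mul_one, mul_assoc a b b, sb, mul_one, sa, mul_one]
  have h1 : b * (e * c * e) * b = e * a * e := by
    calc b * (e * c * e) * b = (a * a) * (b * (c * e * c) * b) * (a * a) := by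
          rw [bc, sa, one_mul, mul_one]
      _ = a * (a * b * c * e * c * b * a) * a := by group
      _ = a * e * a := by rw [hfix]
      _ = e * a * e := ba
  have h2 : b * e * (b * c * b) * e * b = a := by
    calc b * e * (b * c * b) * e * b = (e * e) * (b * e * b) * c * (b * e * b) * (e * e) := by
          rw [se, one_mul, mul_one]; group
      _ = e * (e * (e * b * e)) * c * ((e * b * e) * e) * e := by rw [bb]; group
      _ = e * ((e * e) * (b * (e * c * e) * b) * (e * e)) * e := by group
      _ = e * (e * a * e) * e := by rw [se, one_mul, mul_one, h1]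
      _ = (e * e) * a * (e * e) := by group
      _ = a := by rw [se, one_mul, mul_one]
  have hbcb : b * c * b = c := by rw [h₃.eq, mul_assoc, sb, mul_one]
  rw [hbcb] at h2
  have hbab : b * a * b = a := by rw [← h₁.eq, mul_assoc, sb, mul_one]
  have h3 : e * c * e = a := by
    calc e * c * e = (b * b) * (e * c * e) * (b * b) := by rw [sb, one_mul, mul_one]
      _ = b * (b * e * c * e * b) * b := by group
      _ = a := by rw [h2, hbab]
  have h4 : c = a * e * a := by
    calc c = (e * e) * c * (e * e) := by rw [se, one_mul, mul_one]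
      _ = e * (e * c * e) * e := by group
      _ = a * e * a := by rw [h3, ba]
  apply hea
  have h5 : a * (a * e * a) = (a * e * a) * a := h4 ▸ h₂.eq
  rw [← mul_assoc, ← mul_assoc, sa, one_mul, mul_assoc (a * e) a a, sa, mul_one] at h5
  exact h5

end Cfsg.Agent.S0437
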