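import Cfsg.Statements.S0439

set_option autoImplicit false
open Cfsg

namespace Cfsg.Agent.S0439

/-- In the symmetric group of degree n ≥ 2, the set of transpositions is a conjugacy class of 3-transpositions which generates the group. -/
theorem result (n : ℕ) (hn : 2 ≤ n) : Cfsg.IsThreeTranspositionClass {σ : Equiv.Perm (Fin n) | σ.IsSwap} := by
  have h3 : ∀ {a b c : Fin n}, a ≠ b → a ≠ c →
      (Equiv.swap a b * Equiv.swap a c) ^ 2 = 1 ∨ (Equiv.swap a b * Equiv.swap a c) ^ 3 = 1 := by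
    intro a b c hab hac
    by_cases hbc : b = c
    · subst hbc; exact Or.inl (by rw [Equiv.swap_mul_self, one_pow])
    · exact Or.inr (by rw [← (Equiv.Perm.isThreeCycle_swap_mul_swap_same hab hac hbc).orderOf, pow_orderOf_eq_one])
  have h2 : ∀ {a b : Equiv.Perm (Fin n)}, a.IsSwap → b.IsSwap →
      (a * b) ^ 2 = 1 ∨ (a * b) ^ 3 = 1 := by
    rintro _ _ ⟨a, b, hab, rfl⟩ ⟨c, d, hcd, rfl⟩
    by_cases hac : a = c
    · subst hac; exact h3 hab hcd
    by_cases had : a = d
    · subst had; rw [Equiv.swap_comm c a]; exact h3 hab (Ne.symm hcd)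
    by_cases hbc : b = c
    · subst hbc; rw [Equiv.swap_comm a b]; exact h3 (Ne.symm hab) hcd
    by_cases hbd : b = d
    · subst hbd; rw [Equiv.swap_comm a b, Equiv.swap_comm c b]; exact h3 (Ne.symm hab) (Ne.symm hcd)
    left
    have hnd : [a, b, c, d].Nodup := by simp; tauto
    rw [((Equiv.Perm.disjoint_swap_swap hnd).commute).mul_pow, pow_two, pow_two,
      Equiv.swap_mul_self, Equiv.swap_mul_self, one_mul]
  refine ⟨⟨fun d hd => ?_, fun d hd e he => h2 hd he⟩, ?_, Equiv.Perm.closure_isSwap⟩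
  · obtain ⟨x, y, hxy, rfl⟩ := hd
    exact orderOf_eq_prime (by rw [pow_two, Equiv.swap_mul_self]) (by simpa [Equiv.swap_eq_one_iff] using hxy)
  · refine ⟨Equiv.swap ⟨0, by omega⟩ ⟨1, by omega⟩, ⟨_, _, by simp, rfl⟩, ?_⟩
    ext σ
    constructor
    · rintro ⟨x, y, hxy, rfl⟩
      exact Equiv.Perm.isConj_swap (by simp) hxy
    · intro h
      obtain ⟨c, rfl⟩ := isConj_iff.mp (show IsConj _ σ from h)
      exact ⟨c ⟨0, by omega⟩, c ⟨1, by omega⟩, by simp, by rw [Equiv.swap_apply_apply]⟩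

end Cfsg.Agent.S0439
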