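import Cfsg.Statements.S0442
import Cfsg.Agent.Spor3T.Basic

set_option autoImplicit false
open Cfsg

namespace Cfsg.Agent.S0442

/-- A standard trick for producing elements of an involution centraliser: for an involution a and an element g, let b be the conjugate g⁻¹ * a * g. If a * b has odd order 2m + 1 then g * (a * b) ^ m commutes with a; if a * b has even order 2m then (a * b) ^ m and (a * (g * a * g⁻¹)) ^ m commute with a. -/
theorem result {G : Type*} [Group G] (a g : G) (ha : orderOf a = 2) : (∀ m : ℕ, orderOf (a * (g⁻¹ * a * g)) = 2 * m + 1 → Commute (g * (a * (g⁻¹ * a * g)) ^ m) a) ∧ (∀ m : ℕ, orderOf (a * (g⁻¹ * a * g)) = 2 * m → Commute ((a * (g⁻¹ * a * g)) ^ m) a ∧ Commute ((a * (g * a * g⁻¹)) ^ m) a) := by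
  have ha2 := CfsgLib.ThreeT.mul_self_of_orderOf ha
  have hainv := CfsgLib.ThreeT.inv_eq_of_orderOf ha
  set b := g⁻¹ * a * g with hb
  set c := a * b with hc
  have hb2 : b * b = 1 := by
    calc b * b = g⁻¹ * (a * a) * g := by rw [hb]; group
      _ = 1 := by rw [ha2]; group
  have hinv : a * c * a⁻¹ = c⁻¹ := by
    rw [hainv, hc, mul_inv_rev, inv_eq_of_mul_eq_one_right hb2, hainv, ← mul_assoc, ha2, one_mul]
  have hconjpow : ∀ m : ℕ, a * c ^ m * a = (c ^ m)⁻¹ := fun m => by
    rw [← inv_pow, ← hinv, conj_pow, hainv]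
  refine ⟨fun m hm => ?_, fun m hm => ?_⟩
  · have h1 : c ^ m * (c ^ m * c) = 1 := by
      rw [← pow_succ, ← pow_add, show m + (m + 1) = orderOf c by rw [hm]; omega, pow_orderOf_eq_one]
    have h2 : c ^ m * a = b * c ^ m := by
      calc c ^ m * a = a * (a * c ^ m * a) := by rw [← mul_assoc, ← mul_assoc, ha2, one_mul]
        _ = a * (c ^ m * c) := by rw [hconjpow, inv_eq_of_mul_eq_one_right h1]
        _ = a * (c * c ^ m) := by rw [← pow_succ, pow_succ']
        _ = b * c ^ m := by rw [← mul_assoc, hc, ← mul_assoc, ha2, one_mul]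
    show g * c ^ m * a = a * (g * c ^ m)
    rw [mul_assoc, h2, hb]; group
  · have key : ∀ d : G, a * d * a = d⁻¹ → orderOf d = 2 * m → Commute (d ^ m) a := by
      intro d hd hdm
      have h1 : (d ^ m)⁻¹ = d ^ m := inv_eq_of_mul_eq_one_right (by
        rw [← pow_add, ← two_mul, ← hdm, pow_orderOf_eq_one])
      have h3 : a * d ^ m * a = d ^ m := by
        have : (a * d * a⁻¹) ^ m = (d ^ m)⁻¹ := by rw [hainv, hd, inv_pow]
        rwa [conj_pow, hainv, h1] at this
      show d ^ m * a = a * d ^ m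
      calc d ^ m * a = a * d ^ m * a * a := by rw [h3]
        _ = a * d ^ m := by rw [mul_assoc, ha2, mul_one]
    refine ⟨key c (by rw [← hinv, hainv]) hm, key _ ?_ ?_⟩
    · calc a * (a * (g * a * g⁻¹)) * a = (a * a) * (g * a * g⁻¹) * a := by group
        _ = (g * a⁻¹ * g⁻¹) * a⁻¹ := by rw [ha2, one_mul, hainv]
        _ = _ := by group
    · have : a * (g * a * g⁻¹) = MulAut.conj g c⁻¹ := by
        rw [MulAut.conj_apply, hc, hb]
        simp only [mul_inv_rev, inv_inv, hainv]
        group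
      rw [this, MulEquiv.orderOf_eq, orderOf_inv, hm]

end Cfsg.Agent.S0442
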