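import Cfsg.Statements.S0444
import Cfsg.Agent.Spor3T.Basic

set_option autoImplicit false
open Cfsg

namespace Cfsg.Agent.S0444

/-- Two members of a set of 3-transpositions which do not commute generate a subgroup isomorphic to the symmetric group on three letters. -/
theorem result {G : Type*} [Group G] {E : Set G} (hE : Cfsg.IsThreeTranspositionSet E) {d e : G} (hd : d ∈ E) (he : e ∈ E) (h : ¬ Commute d e) : Nonempty (Subgroup.closure ({d, e} : Set G) ≃* Equiv.Perm (Fin 3)) := by
  have ed2 := CfsgLib.ThreeT.sq hE hd
  have ee2 := CfsgLib.ThreeT.sq hE he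
  have h3 := CfsgLib.ThreeT.cube_of_not_commute hE hd he h
  have hord := CfsgLib.ThreeT.orderOf_mul_of_not_commute hE hd he h
  set c := d * e with hc
  have hdc : ∀ i : ℕ, c ^ i * d = d * c ^ (2 * i) := by
    intro i
    induction i with
    | zero => simp
    | succ i ih =>
      have h1 : c * d = d * c ^ 2 := by
        calc c * d = d * (e * d) := by rw [hc, mul_assoc]
          _ = d * c⁻¹ := by rw [hc, mul_inv_rev, CfsgLib.ThreeT.inv hE hd, CfsgLib.ThreeT.inv hE he]
          _ = d * c ^ 2 := by rw [inv_eq_of_mul_eq_one_right (show c * c ^ 2 = 1 by rw [← pow_succ', h3])]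
      rw [pow_succ, mul_assoc, h1, ← mul_assoc, ih, mul_assoc, ← pow_add, mul_add, mul_one]
  have hmod : ∀ i j : ℕ, i % 3 = j % 3 → c ^ i = c ^ j := fun i j hij => by
    rw [← pow_mod_orderOf c i, ← pow_mod_orderOf c j, hord, hij]
  let f : DihedralGroup 3 →* G :=
    { toFun := fun x => match x with
        | DihedralGroup.r i => c ^ i.val
        | DihedralGroup.sr i => d * c ^ i.val
      map_one' := by show c ^ (0 : ZMod 3).val = 1; simp
      map_mul' := by
        rintro (i | i) (j | j)
        · show c ^ (i + j).val = c ^ i.val * c ^ j.val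
          rw [← pow_add]; exact hmod _ _ (by rw [ZMod.val_add, Nat.mod_mod])
        · show d * c ^ (j - i).val = c ^ i.val * (d * c ^ j.val)
          rw [← mul_assoc, hdc, mul_assoc, ← pow_add]
          exact congrArg _ (hmod _ _ (by revert i j; decide))
        · show d * c ^ (i + j).val = d * c ^ i.val * c ^ j.val
          rw [mul_assoc, ← pow_add]
          exact congrArg _ (hmod _ _ (by rw [ZMod.val_add, Nat.mod_mod]))
        · show c ^ (j - i).val = d * c ^ i.val * (d * c ^ j.val)
          rw [← mul_assoc, mul_assoc d, hdc, ← mul_assoc, ed2, one_mul, ← pow_add]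
          exact hmod _ _ (by revert i j; decide) }
  have hinj : Function.Injective f := by
    rw [injective_iff_map_eq_one]
    rintro (i | i) hi
    · have hi' : c ^ i.val = 1 := hi
      have hlt := ZMod.val_lt i
      have hdvd := orderOf_dvd_of_pow_eq_one hi'
      rw [hord] at hdvd
      have h0 : i.val = 0 := Nat.eq_zero_of_dvd_of_lt hdvd hlt
      rw [(ZMod.val_eq_zero i).mp h0]; rfl
    · have hi' : d * c ^ i.val = 1 := hi
      exfalso
      apply h
      have hdc' : d = (c ^ i.val)⁻¹ := eq_inv_of_mul_eq_one_left hi'
      have : Commute d c := by rw [hdc']; exact (Commute.pow_self c _).inv_left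
      have h2 : Commute d (d * (d * e)) := (Commute.refl d).mul_right this
      rwa [← mul_assoc, ed2, one_mul] at h2
  have hrange : f.range = Subgroup.closure ({d, e} : Set G) := by
    apply le_antisymm
    · rintro _ ⟨x, rfl⟩
      have hd' : d ∈ Subgroup.closure ({d, e} : Set G) := Subgroup.subset_closure (by simp)
      have he' : e ∈ Subgroup.closure ({d, e} : Set G) := Subgroup.subset_closure (by simp)
      have hc' : c ∈ Subgroup.closure ({d, e} : Set G) := mul_mem hd' he'
      rcases x with i | i
      · exact pow_mem hc' _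
      · exact mul_mem hd' (pow_mem hc' _)
    · rw [Subgroup.closure_le]
      rintro x (rfl | rfl)
      · exact ⟨DihedralGroup.sr 0, by show x * c ^ (0 : ZMod 3).val = x; simp⟩
      · exact ⟨DihedralGroup.sr 1, by show d * c ^ (1 : ZMod 3).val = x; rw [ZMod.val_one, pow_one, hc, ← mul_assoc, ed2, one_mul]⟩
  let g : DihedralGroup 3 →* Equiv.Perm (Fin 3) :=
    { toFun := fun x => match x with
        | DihedralGroup.r i => finRotate 3 ^ i.val
        | DihedralGroup.sr i => Equiv.swap 0 1 * finRotate 3 ^ i.val
      map_one' := by decide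
      map_mul' := by
        rintro (i | i) (j | j) <;> revert i j <;> decide }
  have hg : Function.Bijective g := by
    rw [Fintype.bijective_iff_injective_and_card]
    refine ⟨?_, by rw [DihedralGroup.card, Fintype.card_perm, Fintype.card_fin]; rfl⟩
    rw [injective_iff_map_eq_one]
    rintro (i | i) <;> revert i <;> decide
  exact ⟨((MonoidHom.ofInjective hinj).trans (MulEquiv.subgroupCongr hrange)).symm.trans
    (MulEquiv.ofBijective g hg)⟩

end Cfsg.Agent.S0444
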