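import Cfsg.Statements.S0454
import Cfsg.Agent.Coset.Ly.Cent2A11

set_option autoImplicit false
open Cfsg

namespace Cfsg.Agent.S0454

open CfsgLib.Coset.Ly

/-- The presented Lyons group as a transitive group on 8835156 points. -/
theorem exists_perm_model : ∃ φ : Cfsg.Spor.Ly →* Equiv.Perm (Fin 8835156), Function.Injective φ ∧
    (∀ x y : Fin 8835156, ∃ g, φ g x = y) ∧
    ∀ g, φ g 0 = 0 ↔ g ∈ frame_LG.H := by
  haveI := finite_Ly
  haveI := simple_Ly isSimple_A
  have hc : Nat.card (Cfsg.Spor.Ly ⧸ frame_LG.H) = 8835156 := by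
    rw [← Subgroup.index_eq_card, index_H isSimple_A]
  let e0 : Cfsg.Spor.Ly ⧸ frame_LG.H ≃ Fin 8835156 := Finite.equivFinOfCardEq hc
  let o : Cfsg.Spor.Ly ⧸ frame_LG.H := QuotientGroup.mk 1
  let e : Cfsg.Spor.Ly ⧸ frame_LG.H ≃ Fin 8835156 := e0.trans (Equiv.swap (e0 o) 0)
  have he : e o = 0 := by simp [e]
  let φ : Cfsg.Spor.Ly →* Equiv.Perm (Fin 8835156) :=
    (Equiv.permCongrHom e).toMonoidHom.comp
      (MulAction.toPermHom Cfsg.Spor.Ly (Cfsg.Spor.Ly ⧸ frame_LG.H))
  have happ : ∀ g x, φ g (e x) = e (g • x) := fun g x => by simp [φ]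
  have hstab : ∀ g, φ g 0 = 0 ↔ g ∈ frame_LG.H := by
    intro g
    rw [← he, happ, e.apply_eq_iff_eq]
    show (QuotientGroup.mk (g * 1) : Cfsg.Spor.Ly ⧸ frame_LG.H) = QuotientGroup.mk 1 ↔ _
    rw [QuotientGroup.eq]
    simp
  have htrans : ∀ x y, ∃ g, φ g x = y := by
    intro x y
    obtain ⟨g, hg⟩ := MulAction.exists_smul_eq Cfsg.Spor.Ly (e.symm x) (e.symm y)
    exact ⟨g, by rw [← e.apply_symm_apply x, happ, hg, e.apply_symm_apply]⟩
  refine ⟨φ, ?_, htrans, hstab⟩
  rw [← MonoidHom.ker_eq_bot_iff]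
  rcases (inferInstance : IsSimpleGroup Cfsg.Spor.Ly).eq_bot_or_eq_top_of_normal φ.ker inferInstance
    with h | h
  · exact h
  exfalso
  obtain ⟨g, hg⟩ := htrans 0 1
  rw [MonoidHom.mem_ker.mp (h ▸ Subgroup.mem_top g : g ∈ φ.ker)] at hg
  exact absurd hg (by decide)

/-- Existence of the Lyons group: there is a transitive permutation group of degree 8835156, simple of order 51765179004000000, whose point stabiliser is simple of the order of a group of type G2, and which has an involution whose centraliser is a non-split double cover of the alternating group of degree 11. -/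
theorem result : ∃ H : Subgroup (Equiv.Perm (Fin 8835156)), Cfsg.IsLy H ∧ MulAction.IsPretransitive H (Fin 8835156) ∧ Cfsg.IsG2 (MulAction.stabilizer H (0 : Fin 8835156)) ∧ ∃ t : H, orderOf t = 2 ∧ Cfsg.IsNonsplitDoubleCover (Subgroup.centralizer ({t} : Set H)) (alternatingGroup (Fin 11)) := by
  obtain ⟨φ, hinj, htrans, hstab⟩ := exists_perm_model
  let e : Cfsg.Spor.Ly ≃* φ.range := MonoidHom.ofInjective hinj
  obtain ⟨hs, hn⟩ := CfsgLib.Coset.Ly.isLy isSimple_A
  refine ⟨φ.range, ⟨e.isSimpleGroup_congr.mp hs, (Nat.card_congr e.toEquiv).symm.trans hn⟩,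
    ⟨fun x y => ?_⟩, ?_, exists_involution_cent_of_equiv e⟩
  · obtain ⟨g, hg⟩ := htrans x y
    exact ⟨⟨φ g, g, rfl⟩, hg⟩
  · let f : A →* MulAction.stabilizer φ.range (0 : Fin 8835156) :=
      (e.toMonoidHom.comp frame_LG.Ψ).codRestrict _ fun a =>
        MulAction.mem_stabilizer_iff.mpr ((hstab _).mpr ⟨a, rfl⟩)
    have hbij : Function.Bijective f := by
      refine ⟨fun a b h => Ψ_injective isSimple_A (e.injective (congrArg Subtype.val h)), ?_⟩
      rintro ⟨⟨_, g, rfl⟩, hx⟩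
      obtain ⟨a, rfl⟩ := (hstab g).mp (MulAction.mem_stabilizer_iff.mp hx)
      exact ⟨a, rfl⟩
    let i := MulEquiv.ofBijective f hbij
    refine ⟨i.isSimpleGroup_congr.mp isSimple_A, 5, Nat.prime_five.isPrimePow, by norm_num, ?_⟩
    rw [← Nat.card_congr i.toEquiv, card_and_injective.1]
    norm_num

end Cfsg.Agent.S0454
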