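import Cfsg.Statements.S0461
import Cfsg.Agent.Coset.J4.Main

set_option autoImplicit false
set_option maxRecDepth 100000
open Cfsg CfsgLib.Coset.J4

namespace Cfsg.Agent.S0461

theorem exists_isJ4_range {G L : Type*} [Group G] [Group L] (f : G →* L) (t : G) (ht : f t ≠ 1)
    (hs : IsSimpleGroup G) (hc : Nat.card G = 86775571046077562880) :
    ∃ H : Subgroup L, Cfsg.IsJ4 H := by
  haveI := hs
  have hinj : Function.Injective f := by
    rw [← MonoidHom.ker_eq_bot_iff]
    refine (f.normal_ker.eq_bot_or_eq_top).resolve_right fun h => ?_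
    exact ht (MonoidHom.mem_ker.mp (h ▸ Subgroup.mem_top _))
  exact ⟨f.range, (MonoidHom.ofInjective hinj).symm.isSimpleGroup,
    (Nat.card_congr (MonoidHom.ofInjective hinj).symm.toEquiv).trans hc⟩

/-- Janko's fourth group exists as a group of 112 × 112 matrices over the field with two elements: GL(112, 2) has a simple subgroup of order 86775571046077562880. -/
theorem result : ∃ H : Subgroup (GL (Fin 112) (ZMod 2)), Cfsg.IsJ4 H := by
  exact exists_isJ4_range repJ4 _ repJ4_t_ne_one simple_J4 card_J4

end Cfsg.Agent.S0461
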