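import Cfsg.Statements.S0480
import Cfsg.Agent.Fischer.SimpleCases

set_option autoImplicit false
open Cfsg
open scoped commutatorElement

namespace Cfsg.Agent.S0480

/-- The simple 3-transposition groups: if a finite non-abelian simple group G is generated by a conjugacy class of 3-transpositions, then G is isomorphic to a symplectic group Sp(2n, 2), or to a projective special unitary group PSU(n, 2) (defined over the field with four elements), or to the projective commutator subgroup of an orthogonal group in odd dimension over the field with three elements, or G has order 64561751654400, or G has order 4089470473293004800. -/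
theorem result {G : Type*} [Group G] [Finite G] [IsSimpleGroup G] (hna : ∃ x y : G, x * y ≠ y * x) {D : Set G} (hD : Cfsg.IsThreeTranspositionClass D) : (∃ n : ℕ, Nonempty (G ≃* Matrix.symplecticGroup (Fin n) (ZMod 2))) ∨ (∃ (F : Type) (_ : Field F) (_ : Fintype F) (n : ℕ), Fintype.card F = 4 ∧ Nonempty (G ≃* Cfsg.PSU n F 2)) ∨ (∃ m : ℕ, Nonempty (G ≃* Cfsg.POmega (ZMod 3) (Cfsg.quadFormOdd m (ZMod 3)))) ∨ Cfsg.IsFi22 G ∨ Cfsg.IsFi23 G := by
  classical
  have hnsol : ¬ Group.IsSolvable G := fun hs => by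
    obtain ⟨x, y, hxy⟩ := hna
    exact hxy (IsSimpleGroup.comm_iff_isSolvable.2 hs x y)
  have hperf : commutator G = ⊤ := by
    rcases (inferInstance : IsSimpleGroup G).eq_bot_or_eq_top_of_normal (commutator G) inferInstance with e | e
    · exfalso
      refine hnsol (Group.isSolvable_of_comm fun a b => ?_)
      have h1 : ⁅a, b⁆ ∈ commutator G := Subgroup.commutator_mem_commutator (Subgroup.mem_top a) (Subgroup.mem_top b)
      rw [e, Subgroup.mem_bot, commutatorElement_eq_one_iff_mul_comm] at h1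
      exact h1
    · exact e
  have hZ : Subgroup.center G = ⊥ := by
    rcases (inferInstance : IsSimpleGroup G).eq_bot_or_eq_top_of_normal (Subgroup.center G) inferInstance with e | e
    · exact e
    · exfalso
      obtain ⟨x, y, hxy⟩ := hna
      exact hxy (Subgroup.mem_center_iff.1 (e ▸ Subgroup.mem_top y) x)
  haveI : Nontrivial ↥(commutator G) := by rw [hperf]; infer_instance
  haveI hs : IsSimpleGroup ↥(commutator G) :=
    ((MulEquiv.subgroupCongr hperf).trans Subgroup.topEquiv).isSimpleGroup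
  have hab : ¬ ∀ a b : commutator G, a * b = b * a := fun h => by
    obtain ⟨x, y, hxy⟩ := hna
    exact hxy (congrArg Subtype.val (h ⟨x, hperf ▸ Subgroup.mem_top x⟩ ⟨y, hperf ▸ Subgroup.mem_top y⟩))
  have h : CfsgLib.Fischer.Fi D := CfsgLib.Fischer.fi_of_simple hD hZ hab
  have hne : D.Nonempty := let ⟨a, ha, _⟩ := h.width; ⟨a, ha⟩
  by_cases ho : ∀ x ∈ D, Cfsg.oddCore ↥(Subgroup.closure (CfsgLib.ThreeT.Prod.nb D x)) ≤
      Subgroup.center ↥(Subgroup.closure (CfsgLib.ThreeT.Prod.nb D x))
  swap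
  · push Not at ho
    obtain ⟨x, hx, ho⟩ := ho
    obtain ⟨e, -⟩ := CfsgLib.Fischer.sym_model hD hZ (by norm_num) (CfsgLib.Fischer.start_five h hx ho)
    exact absurd (CfsgLib.Fischer.perfect_congr e hperf) (CfsgLib.Fischer.sym_not_perfect (by norm_num))
  by_cases h2 : ∀ x ∈ D, Cfsg.pCore 2 ↥(Subgroup.closure (CfsgLib.ThreeT.Prod.nb D x)) ≤
      Subgroup.center ↥(Subgroup.closure (CfsgLib.ThreeT.Prod.nb D x))
  swap
  · push Not at h2
    obtain ⟨x, hx, h2⟩ := h2
    rcases CfsgLib.Fischer.start_tv h hx h2 with ⟨m, hm, h'⟩ | ⟨n, hn, K, i1, i2, hK, φ, f⟩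
    · obtain ⟨e, -⟩ := CfsgLib.Fischer.symp_model hD hZ hne (by omega) h'
      exact Or.inl ⟨m, ⟨e⟩⟩
    · obtain ⟨e, -⟩ := CfsgLib.Fischer.uni_model hK hn hD hZ hne f
      exact Or.inr (Or.inl ⟨K, i1, i2, n, hK, ⟨e⟩⟩)
  exact Or.inr (Or.inr (CfsgLib.Fischer.simple_stepped hperf h fun a ha => h.local_fi ha (h2 a ha) (ho a ha)))

end Cfsg.Agent.S0480
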