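import Cfsg.Statements.S0481

set_option autoImplicit false
open Cfsg

namespace Cfsg.Agent.S0481

/-- Large extraspecial subgroups: let z be an involution of a finite group G whose centraliser C contains a normal 2-subgroup Q with centre of order 2 and all squares central, such that every element of G centralising Q lies in Q. Then C contains a Sylow 2-subgroup of G, and any involution of G whose centraliser contains a Sylow 2-subgroup of G is conjugate to z. -/
theorem result {G : Type*} [Group G] [Finite G] (z : G) (hz : orderOf z = 2) (Q : Subgroup G) (hQC : Q ≤ Subgroup.centralizer ({z} : Set G)) (hQn : ∀ g ∈ Subgroup.centralizer ({z} : Set G), ∀ q ∈ Q, g * q * g⁻¹ ∈ Q) (hQ2 : IsPGroup 2 Q) (hZ : Nat.card (Subgroup.center Q) = 2) (hsq : ∀ x : Q, x ^ 2 ∈ Subgroup.center Q) (hlarge : Subgroup.centralizer (Q : Set G) ≤ Q) : (∃ P : Sylow 2 G, (P : Subgroup G) ≤ Subgroup.centralizer ({z} : Set G)) ∧ ∀ u : G, orderOf u = 2 → (∃ P : Sylow 2 G, (P : Subgroup G) ≤ Subgroup.centralizer ({u} : Set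 G)) → IsConj z u := by
  haveI : Fact (Nat.Prime 2) := ⟨Nat.prime_two⟩
  have hzc : z ∈ Subgroup.centralizer (Q : Set G) :=
    Subgroup.mem_centralizer_iff.mpr fun q hq => (Subgroup.mem_centralizer_iff.mp (hQC hq) z rfl).symm
  have hzQ : z ∈ Q := hlarge hzc
  have hz1 : z ≠ 1 := by rintro rfl; simp at hz
  have hkey : ∀ u : G, u ∈ Subgroup.centralizer (Q : Set G) → u = 1 ∨ u = z := by
    intro u hu
    have hmem : ∀ (v : G) (hv : v ∈ Subgroup.centralizer (Q : Set G)),
        (⟨v, hlarge hv⟩ : Q) ∈ Subgroup.center Q := fun v hv =>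
      Subgroup.mem_center_iff.mpr fun q => Subtype.ext (Subgroup.mem_centralizer_iff.mp hv q q.2)
    by_contra hne
    push Not at hne
    haveI := Fintype.ofFinite (Subgroup.center Q)
    have h2 : 2 < Fintype.card (Subgroup.center Q) := by
      rw [Fintype.two_lt_card_iff]
      refine ⟨1, ⟨_, hmem z hzc⟩, ⟨_, hmem u hu⟩, ?_, ?_, ?_⟩
      · intro h; exact hz1 (congrArg (fun w : Subgroup.center Q => ((w : Q) : G)) h).symm
      · intro h; exact hne.1 (congrArg (fun w : Subgroup.center Q => ((w : Q) : G)) h).symm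
      · intro h; exact hne.2 (congrArg (fun w : Subgroup.center Q => ((w : Q) : G)) h).symm
    rw [← Nat.card_eq_fintype_card, hZ] at h2
    omega
  set C := Subgroup.centralizer ({z} : Set G) with hC
  obtain ⟨T₀, hT₀⟩ := (hQ2.comap_of_injective C.subtype Subtype.coe_injective).exists_le_sylow
  have hQT : Q ≤ (T₀ : Subgroup C).map C.subtype := by
    intro q hq
    exact ⟨⟨q, hQC hq⟩, hT₀ hq, rfl⟩
  have hTC : (T₀ : Subgroup C).map C.subtype ≤ C := Subgroup.map_subtype_le _
  set T := (T₀ : Subgroup C).map C.subtype with hT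
  have hTp : IsPGroup 2 T := T₀.2.map _
  obtain ⟨P, hTP⟩ := hTp.exists_le_sylow
  have hPT : (P : Subgroup G) = T := by
    by_contra hne
    haveI := P.2.isNilpotent
    have hlt : (T.subgroupOf (P : Subgroup G)) < ⊤ := lt_top_iff_ne_top.mpr (by
      rw [Ne, Subgroup.subgroupOf_eq_top]; exact fun h => hne (le_antisymm h hTP))
    have hn' := Group.normalizerCondition_of_isNilpotent (T.subgroupOf (P : Subgroup G)) hlt
    obtain ⟨x, hxN, hxT⟩ := SetLike.exists_of_lt hn'
    have hconj : ∀ t ∈ T, (x : G) * t * (x : G)⁻¹ ∈ T := by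
      intro t ht
      have := (Subgroup.mem_normalizer_iff.mp hxN ⟨t, hTP ht⟩).mp ht
      exact this
    have hxz : (x : G) * z * (x : G)⁻¹ = z := by
      have hmem : (x : G) * z * (x : G)⁻¹ ∈ Subgroup.centralizer (Q : Set G) := by
        rw [Subgroup.mem_centralizer_iff]
        intro q hq
        have hq' : (x : G)⁻¹ * q * (x : G) ∈ T := by
          have hxinv : (x⁻¹) ∈ Subgroup.normalizer ((T.subgroupOf (P : Subgroup G)) : Set (P : Subgroup G)) :=
            inv_mem hxN
          have := (Subgroup.mem_normalizer_iff.mp hxinv ⟨q, hTP (hQT hq)⟩).mp (hQT hq)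
          simpa [Subgroup.mem_subgroupOf] using this
        have hcomm := Subgroup.mem_centralizer_iff.mp (hTC hq') z rfl
        calc q * ((x : G) * z * (x : G)⁻¹) = (x : G) * (((x : G)⁻¹ * q * x) * z) * (x : G)⁻¹ := by group
          _ = (x : G) * (z * ((x : G)⁻¹ * q * x)) * (x : G)⁻¹ := by rw [hcomm]
          _ = (x : G) * z * (x : G)⁻¹ * q := by group
      rcases hkey _ hmem with h | h
      · exact absurd (conj_eq_one_iff.mp h) hz1
      · exact h
    have hxC : (x : G) ∈ C := Subgroup.mem_centralizer_iff.mpr (by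
      intro w hw; rw [Set.mem_singleton_iff.mp hw]
      calc z * (x : G) = (x : G) * z * (x : G)⁻¹ * x := by rw [hxz]
        _ = x * z := by group)
    -- the larger two-group inside the centraliser contradicts maximality
    have hsub : IsPGroup 2 ((P : Subgroup G).comap C.subtype) :=
      P.2.comap_of_injective C.subtype Subtype.coe_injective
    have hle : (T₀ : Subgroup C) ≤ (P : Subgroup G).comap C.subtype := fun y hy => hTP ⟨y, hy, rfl⟩
    have heq := T₀.3 hsub hle
    apply hxT
    show (x : G) ∈ T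
    exact ⟨⟨x, hxC⟩, heq.le (show (⟨x, hxC⟩ : C) ∈ (P : Subgroup G).comap C.subtype from x.2), rfl⟩
  refine ⟨⟨P, hPT.le.trans hTC⟩, ?_⟩
  rintro u hu ⟨R, hR⟩
  obtain ⟨g, hg⟩ := MulAction.exists_smul_eq G R P
  refine (isConj_iff.mpr ⟨g, ?_⟩ : IsConj u z).symm
  have hmem : g * u * g⁻¹ ∈ Subgroup.centralizer (Q : Set G) := by
    rw [Subgroup.mem_centralizer_iff]
    intro q hq
    have hq' : q ∈ (P : Subgroup G) := hPT ▸ hQT hq
    rw [← hg, Sylow.coe_subgroup_smul] at hq'
    obtain ⟨r, hr, hrq⟩ := hq'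
    have hru := Subgroup.mem_centralizer_iff.mp (hR hr) u rfl
    rw [← hrq]
    show g * r * g⁻¹ * (g * u * g⁻¹) = g * u * g⁻¹ * (g * r * g⁻¹)
    calc g * r * g⁻¹ * (g * u * g⁻¹) = g * (r * u) * g⁻¹ := by group
      _ = g * (u * r) * g⁻¹ := by rw [hru]
      _ = _ := by group
  rcases hkey _ hmem with h | h
  · exact absurd (conj_eq_one_iff.mp h) (by rintro rfl; simp at hu)
  · exact h

end Cfsg.Agent.S0481
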