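import Cfsg.Statements.S0499
import Cfsg.Agent.Transfer.Frobenius

set_option autoImplicit false
open Cfsg

namespace Cfsg.Agent.S0499

/-- A non-abelian finite simple group of even order has order divisible by 12, 16 or 56. -/
theorem result {G : Type*} [Group G] [Finite G] [IsSimpleGroup G]
    (hG : ¬ IsMulCommutative G) (h2 : Even (Nat.card G)) :
    12 ∣ Nat.card G ∨ 16 ∣ Nat.card G ∨ 56 ∣ Nat.card G := by
  haveI : Fact (Nat.Prime 2) := ⟨Nat.prime_two⟩
  by_contra hno
  push Not at hno
  obtain ⟨h12, h16, h56⟩ := hno
  obtain ⟨S⟩ : Nonempty (Sylow 2 G) := Sylow.nonempty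
  obtain ⟨e, he⟩ := IsPGroup.iff_card.1 S.2
  have hdvd : 2 ^ e ∣ Nat.card G := he ▸ Subgroup.card_subgroup_dvd_card _
  have he3 : e ≤ 3 := by
    by_contra h
    exact h16 ((pow_dvd_pow 2 (show 4 ≤ e by omega)).trans hdvd)
  have hLC : CfsgLib.Fusion.LocalCondition 2 G := by
    intro Q hQ g hg hgo
    obtain ⟨P, hP⟩ := hQ.exists_le_sylow
    have hQle : Nat.card Q ≤ 2 ^ e := by
      rw [← he, Nat.card_congr (Sylow.equiv S P).toEquiv]
      exact Subgroup.card_le_of_le hP
    obtain ⟨i, hi⟩ := IsPGroup.iff_card.1 hQ
    have hgodd : Odd (orderOf g) := Nat.coprime_two_right.1 hgo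
    let f : Q → Q := fun x => ⟨g * x * g⁻¹, (Subgroup.mem_normalizer_iff.1 hg x).1 x.2⟩
    have hiter : ∀ (m : ℕ) (x : Q), ((f^[m] x : Q) : G) = g ^ m * x * (g ^ m)⁻¹ := by
      intro m x
      induction m with
      | zero => simp
      | succ m ih =>
        rw [Function.iterate_succ_apply', pow_succ']
        change g * ((f^[m] x : Q) : G) * g⁻¹ = _
        rw [ih]; group
    have hper : ∀ x : Q, Function.IsPeriodicPt f (orderOf g) x := fun x => Subtype.ext (by
      rw [hiter, pow_orderOf_eq_one]; simp)
    -- every point has period one or five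
    have hfive : ∀ x : Q, Function.minimalPeriod f x = 1 ∨
        Function.minimalPeriod f x = 5 ∧ Nat.card Q = 8 := by
      intro x
      set d := Function.minimalPeriod f x with hd
      have hdg : d ∣ orderOf g := (hper x).minimalPeriod_dvd
      have hdodd : Odd d := hgodd.of_dvd_nat hdg
      have hdG : d ∣ Nat.card G := hdg.trans (orderOf_dvd_natCard g)
      by_cases hd1 : d = 1
      · exact Or.inl hd1
      right
      -- the orbit of `x` avoids the identity
      have hlt : d < Nat.card Q := by
        classical
        haveI : Fintype Q := Fintype.ofFinite _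
        rw [Nat.card_eq_fintype_card]
        have hx1 : ∀ m, f^[m] x ≠ 1 := fun m h => hd1 (by
          have h1 : (x : G) = 1 := by
            have := congrArg Subtype.val h
            rw [hiter, Subgroup.coe_one, conj_eq_one_iff] at this
            exact this
          rw [hd, Function.minimalPeriod_eq_one_iff_isFixedPt]
          exact Subtype.ext (by simp [f, h1]))
        have hinj : (Finset.range d).card = ((Finset.range d).image fun m => f^[m] x).card := by
          refine (Finset.card_image_of_injOn fun a ha b hb hab => ?_).symm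
          exact (Function.iterate_eq_iterate_iff_of_lt_minimalPeriod
            (Finset.mem_range.1 ha) (Finset.mem_range.1 hb)).1 hab
        rw [Finset.card_range] at hinj
        have h1 : ((Finset.range d).image fun m => f^[m] x) ⊆ Finset.univ.erase (1 : Q) := by
          intro y hy
          obtain ⟨m, -, rfl⟩ := Finset.mem_image.1 hy
          exact Finset.mem_erase.2 ⟨hx1 m, Finset.mem_univ _⟩
        have h2 := Finset.card_le_card h1
        rw [← hinj, Finset.card_erase_of_mem (Finset.mem_univ _), Finset.card_univ] at h2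
        have := Fintype.card_pos (α := Q)
        omega
      have hd0 : d ≠ 0 := fun h => by rw [h] at hdodd; simp at hdodd
      obtain ⟨j, hj⟩ := hdodd
      have hi3 : i ≤ e := (Nat.pow_le_pow_iff_right (by norm_num)).1 (hi ▸ hQle)
      have h3 : e = 2 ∨ e = 3 → ¬ 3 ∣ Nat.card G := fun he' h => h12 (by
        have h4 : 4 ∣ Nat.card G := (pow_dvd_pow 2 (show 2 ≤ e by omega)).trans hdvd
        exact Nat.Coprime.mul_dvd_of_dvd_of_dvd (show Nat.Coprime 3 4 by norm_num) h h4)
      have h7 : e = 3 → ¬ 7 ∣ Nat.card G := fun he' h => h56 (by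
        exact Nat.Coprime.mul_dvd_of_dvd_of_dvd (show Nat.Coprime 7 8 by norm_num) h
          ((by rw [he']; norm_num : (8 : ℕ) ∣ 2 ^ e).trans hdvd))
      rw [hi] at hlt ⊢
      interval_cases e <;> interval_cases i <;>
        first
          | omega
          | (have hd3 : d ≠ 3 := fun h => h3 (by omega) (h ▸ hdG)
             omega)
          | (have hd3 : d ≠ 3 := fun h => h3 (by omega) (h ▸ hdG)
             have hd7 : d ≠ 7 := fun h => h7 (by omega) (h ▸ hdG)
             omega)
    -- count fixed points
    rw [Subgroup.mem_centralizer_iff]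
    intro x hx
    rcases hfive ⟨x, hx⟩ with h | ⟨h, h8⟩
    · rw [Function.minimalPeriod_eq_one_iff_isFixedPt] at h
      exact (mul_inv_eq_iff_eq_mul.1 (congrArg Subtype.val h)).symm
    exfalso
    classical
    haveI : Fintype Q := Fintype.ofFinite _
    let F : Subgroup G := Q ⊓ Subgroup.centralizer ({g} : Set G)
    have hF8 : Nat.card F ∣ 8 := h8 ▸ Subgroup.card_dvd_of_le inf_le_left
    have hmemF : ∀ y : Q, (y : G) ∈ F ↔ f y = y := fun y => by
      rw [Subgroup.mem_inf, Subgroup.mem_centralizer_singleton_iff]
      refine ⟨fun hy => Subtype.ext ?_, fun hy => ⟨y.2, ?_⟩⟩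
      · show g * y * g⁻¹ = y
        rw [← hy.2, mul_inv_cancel_right]
      · exact (mul_inv_eq_iff_eq_mul.1 (congrArg Subtype.val hy)).symm
    have hFcard : Nat.card F = (Finset.univ.filter fun y : Q => f y = y).card := by
      rw [← Finset.card_map ⟨fun y : Q => (y : G), Subtype.val_injective⟩]
      rw [← Nat.card_eq_finsetCard]
      refine Nat.card_congr (Equiv.subtypeEquivRight fun u => ?_)
      simp only [Finset.mem_map, Finset.mem_filter, Finset.mem_univ, true_and, Function.Embedding.coeFn_mk]
      constructor
      · intro hu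
        exact ⟨⟨u, hu.1⟩, (hmemF ⟨u, hu.1⟩).1 hu, rfl⟩
      · rintro ⟨y, hy, rfl⟩
        exact (hmemF y).2 hy
    have hfinj : Function.Injective f := fun a b hab =>
      Subtype.ext (mul_left_cancel (mul_right_cancel (congrArg Subtype.val hab)))
    set O := (Finset.range 5).image fun m => f^[m] (⟨x, hx⟩ : Q) with hO
    have hO5 : O.card = 5 := by
      rw [hO, Finset.card_image_of_injOn fun a ha b hb hab => ?_, Finset.card_range]
      exact (Function.iterate_eq_iterate_iff_of_lt_minimalPeriod
        (h.symm ▸ Finset.mem_range.1 ha) (h.symm ▸ Finset.mem_range.1 hb)).1 hab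
    have hper5 : ∀ y : Q, f y ≠ y → Function.minimalPeriod f y = 5 := fun y hy =>
      ((hfive y).resolve_left fun h1 => hy (Function.minimalPeriod_eq_one_iff_isFixedPt.1 h1)).1
    -- a point outside `O` which moves gives five more points
    have hall : ∀ y : Q, f y = y ∨ y ∈ O := by
      intro y
      by_contra hy
      push Not at hy
      set O' := (Finset.range 5).image fun m => f^[m] y with hO'
      have hdisj : Disjoint O O' := by
        rw [Finset.disjoint_left]
        intro u hu hu'
        obtain ⟨a, ha, rfl⟩ := Finset.mem_image.1 hu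
        obtain ⟨b, hb, hab⟩ := Finset.mem_image.1 hu'
        apply hy.2
        have hb5 : f^[5] y = y := by
          rw [← hper5 y hy.1]; exact Function.iterate_minimalPeriod
        have : f^[5 - b + a] (⟨x, hx⟩ : Q) = y := by
          rw [Function.iterate_add_apply, ← hab, ← Function.iterate_add_apply,
            Nat.sub_add_cancel (Finset.mem_range.1 hb).le, hb5]
        refine Finset.mem_image.2 ⟨(5 - b + a) % 5, Finset.mem_range.2 (Nat.mod_lt _ (by norm_num)), ?_⟩
        have h' := Function.iterate_mod_minimalPeriod_eq (f := f) (x := (⟨x, hx⟩ : Q)) (n := 5 - b + a)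
        rw [h] at h'
        rw [h', this]
      have h2 := Finset.card_le_univ (O ∪ O')
      rw [Finset.card_union_of_disjoint hdisj, hO5, hO', Finset.card_image_of_injOn fun a ha b hb hab => ?_,
        Finset.card_range, ← Nat.card_eq_fintype_card, h8] at h2
      · omega
      · exact (Function.iterate_eq_iterate_iff_of_lt_minimalPeriod
          ((hper5 y hy.1).symm ▸ Finset.mem_range.1 ha) ((hper5 y hy.1).symm ▸ Finset.mem_range.1 hb)).1 hab
    have hcount : (Finset.univ.filter fun y : Q => f y = y).card = 3 := by
      have hsplit : (Finset.univ.filter fun y : Q => f y = y) = Oᶜ := by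
        ext y
        simp only [Finset.mem_filter, Finset.mem_univ, true_and, Finset.mem_compl]
        refine ⟨fun hy hyO => ?_, fun hy => (hall y).resolve_right hy⟩
        obtain ⟨a, ha, rfl⟩ := Finset.mem_image.1 hyO
        have h1 : f^[a + 1] (⟨x, hx⟩ : Q) = f^[a] ⟨x, hx⟩ := by
          rw [Function.iterate_succ_apply']; exact hy
        have h2 : f (⟨x, hx⟩ : Q) = ⟨x, hx⟩ := by
          apply (hfinj.iterate a)
          rw [← Function.iterate_succ_apply]; exact h1
        have := Function.minimalPeriod_eq_one_iff_isFixedPt.2 (show Function.IsFixedPt f ⟨x, hx⟩ from h2)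
        omega
      rw [hsplit, Finset.card_compl, hO5, ← Nat.card_eq_fintype_card, h8]
    rw [hFcard, hcount] at hF8
    norm_num at hF8
  obtain ⟨P, N, hN, hc⟩ := CfsgLib.Fusion.hasNormalPComplement_of_localCondition hLC
  have hidx : N.index = Nat.card (P : Subgroup G) := hc.symm.index_eq_card
  have hne : (2 : ℕ) ∣ Nat.card (P : Subgroup G) := Sylow.dvd_card_of_dvd_card P h2.two_dvd
  rcases hN.eq_bot_or_eq_top with hb | hb
  · -- a simple 2-group is abelian
    have hG2 : IsPGroup 2 G := by
      rw [hb, Subgroup.index_bot] at hidx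
      obtain ⟨k, hk⟩ := IsPGroup.iff_card.1 P.2
      exact IsPGroup.of_card (hidx.trans hk)
    apply hG
    haveI : Group.IsNilpotent G := hG2.isNilpotent
    have hcen : Subgroup.center G ≠ ⊥ := (Subgroup.center G).nontrivial_iff_ne_bot.1
      (hG2.center_nontrivial)
    have htop := ((inferInstance : (Subgroup.center G).Normal).eq_bot_or_eq_top).resolve_left hcen
    exact ⟨⟨fun a b => Subgroup.mem_center_iff.1 (htop ▸ Subgroup.mem_top b) a⟩⟩
  · rw [hb, Subgroup.index_top] at hidx
    rw [← hidx] at hne
    norm_num at hne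

end Cfsg.Agent.S0499
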