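import Cfsg.Statements.S0502
import Cfsg.Agent.KGroup.Faithful

set_option autoImplicit false
open Cfsg

namespace Cfsg.Agent.S0502

/-- If a finite 2-group has a normal elementary abelian subgroup of order at least 8, then any two of its Klein
four-subgroups are joined by a chain of Klein four-subgroups with consecutive members commuting elementwise. -/
theorem result {P : Type*} [Group P] [Finite P] (hP : IsPGroup 2 P)
    (E : Subgroup P) [E.Normal] (hE : IsMulCommutative E) (hE2 : ∀ e ∈ E, e ^ 2 = 1) (hE8 : 8 ≤ Nat.card E) :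
    Cfsg.IsFourConnected P := by
  haveI : Fact (Nat.Prime 2) := ⟨Nat.prime_two⟩
  have hEne : E ≠ ⊥ := by
    intro h
    rw [h, Subgroup.card_bot] at hE8
    omega
  obtain ⟨z, hzE, hz1, hzc⟩ := CfsgLib.CharP.exists_fixed_ne_one (hP.to_subgroup ⊤)
    (hP.to_subgroup E) hEne (fun q _ i hi => Subgroup.Normal.conj_mem inferInstance i hi q)
  have hzc' : ∀ x : P, x * z = z * x := fun x =>
    Subgroup.mem_centralizer_iff.1 hzc x (Subgroup.mem_top x)
  have hz2 : z ^ 2 = 1 := hE2 z hzE
  -- the four-group on `z` and an involution `a`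
  have key : ∀ w : P, w ^ 2 = 1 → ∀ i ∈ Subgroup.zpowers w, i = 1 ∨ i = w := by
    intro w hw i hi
    obtain ⟨k, rfl⟩ := Subgroup.mem_zpowers_iff.1 hi
    rcases Int.even_or_odd k with ⟨l, rfl⟩ | ⟨l, rfl⟩
    · left; rw [← two_mul, zpow_mul, zpow_ofNat, hw, one_zpow]
    · right; rw [zpow_add_one, zpow_mul, zpow_ofNat, hw, one_zpow, one_mul]
  let four : P → Subgroup P := fun a => Subgroup.zpowers z ⊔ Subgroup.zpowers a
  have hmem : ∀ a, a ^ 2 = 1 → ∀ x ∈ four a, x = 1 ∨ x = z ∨ x = a ∨ x = z * a := by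
    intro a ha x hx
    have hN : Subgroup.zpowers z ≤ Subgroup.normalizer (Subgroup.zpowers a : Set P) := by
      refine le_trans ?_ (Subgroup.centralizer_le_normalizer _)
      rw [Subgroup.zpowers_le, Subgroup.mem_centralizer_iff]
      exact fun y _ => hzc' y
    obtain ⟨i, hi, j, hj, rfl⟩ := (CfsgLib.Solvable.mem_sup_of_le_normalizer hN).1 hx
    rcases key z hz2 i hi with rfl | rfl <;> rcases key a ha j hj with rfl | rfl <;> simp
  have hzord : ∀ a : P, a ^ 2 = 1 → a ≠ 1 → Nat.card (Subgroup.zpowers a) = 2 := fun a ha ha1 => by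
    rw [Nat.card_zpowers, orderOf_eq_prime ha ha1]
  have hfour : ∀ a, a ^ 2 = 1 → a ≠ 1 → a ≠ z → IsKleinFour (four a) := by
    intro a ha ha1 haz
    have hd : Subgroup.zpowers z ⊓ Subgroup.zpowers a = ⊥ := by
      rw [eq_bot_iff]
      intro x hx
      rcases key z hz2 x hx.1 with rfl | rfl
      · exact one_mem _
      · rcases key a ha x hx.2 with h | h
        · exact absurd h hz1
        · exact absurd h.symm haz
    have hN : Subgroup.zpowers z ≤ Subgroup.normalizer (Subgroup.zpowers a : Set P) := by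
      refine le_trans ?_ (Subgroup.centralizer_le_normalizer _)
      rw [Subgroup.zpowers_le, Subgroup.mem_centralizer_iff]
      exact fun y _ => hzc' y
    have hcard : Nat.card (four a) = 4 := by
      rw [CfsgLib.Solvable.card_sup_of_disjoint hN hd, hzord z hz2 hz1, hzord a ha ha1]
    haveI : Nontrivial (four a) := (Finite.one_lt_card_iff_nontrivial).1 (by omega)
    refine ⟨hcard, (Monoid.exponent_eq_prime_iff Nat.prime_two).2 fun x hx => orderOf_eq_prime ?_ hx⟩
    apply Subtype.ext
    rw [Subgroup.coe_pow, Subgroup.coe_one]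
    rcases hmem a ha x x.2 with h | h | h | h <;> rw [h]
    · exact one_pow _
    · exact hz2
    · exact ha
    · rw [(show Commute z a from (hzc' a).symm).mul_pow, hz2, ha, one_mul]
  -- elements of a four-group
  have hK : ∀ U : Subgroup P, IsKleinFour U → ∃ u ∈ U, u ^ 2 = 1 ∧ u ≠ 1 ∧ u ≠ z ∧
      ∀ x ∈ U, x * u = u * x := by
    intro U hU
    have hsq : ∀ x ∈ U, x ^ 2 = 1 := fun x hx => by
      have := Monoid.pow_exponent_eq_one (⟨x, hx⟩ : U)
      rw [IsKleinFour.exponent_two] at this
      simpa using congrArg Subtype.val this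
    have : ∃ u ∈ U, u ≠ 1 ∧ u ≠ z := by
      by_contra hne
      push_neg at hne
      have hle : U ≤ Subgroup.zpowers z := fun u hu => by
        by_cases h : u = 1
        · exact h ▸ one_mem _
        · exact (hne u hu h) ▸ Subgroup.mem_zpowers z
      have := Subgroup.card_le_of_le hle
      rw [IsKleinFour.card_four, hzord z hz2 hz1] at this
      omega
    obtain ⟨u, hu, hu1, huz⟩ := this
    refine ⟨u, hu, hsq u hu, hu1, huz, fun x hx => ?_⟩
    have h1 : x * u = (x * u)⁻¹ := eq_inv_of_mul_eq_one_left (by rw [← sq]; exact hsq _ (mul_mem hx hu))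
    rw [h1, mul_inv_rev, inv_eq_of_mul_eq_one_left (by rw [← sq]; exact hsq u hu),
      inv_eq_of_mul_eq_one_left (by rw [← sq]; exact hsq x hx)]
  -- fixed points on `E`
  have hw : ∀ u : P, u ^ 2 = 1 → ∃ w ∈ E, w ≠ 1 ∧ w ≠ z ∧ u * w = w * u := by
    intro u hu
    by_contra hne
    push_neg at hne
    have hEc : ∀ a ∈ E, ∀ b ∈ E, a * b = b * a := fun a ha b hb =>
      congrArg Subtype.val (hE.is_comm.comm (⟨a, ha⟩ : E) ⟨b, hb⟩)
    have hEu : ∀ e ∈ E, u * e * u⁻¹ ∈ E := fun e he => Subgroup.Normal.conj_mem inferInstance e he u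
    let f : E →* P :=
      { toFun := fun e => (e : P) * (u * e * u⁻¹)
        map_one' := by simp
        map_mul' := fun a b => by
          simp only [Subgroup.coe_mul]
          calc (a : P) * b * (u * (a * b) * u⁻¹) = a * (b * (u * a * u⁻¹)) * (u * b * u⁻¹) := by group
            _ = a * ((u * a * u⁻¹) * b) * (u * b * u⁻¹) := by rw [hEc b b.2 _ (hEu a a.2)]
            _ = _ := by group }
    have hsmall : ∀ H : Subgroup P, (∀ w ∈ H, w = 1 ∨ w = z) → Nat.card H ≤ 2 := by
      intro H hH
      refine (Subgroup.card_le_of_le (K := Subgroup.zpowers z) fun w hw => ?_).trans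
        (hzord z hz2 hz1).le
      rcases hH w hw with rfl | rfl
      · exact one_mem _
      · exact Subgroup.mem_zpowers w
    have hCE : ∀ w ∈ E, u * w = w * u → w = 1 ∨ w = z := fun w hw hc => by
      by_contra h
      push_neg at h
      exact hne w hw h.1 h.2 hc
    have hu' : u⁻¹ = u := inv_eq_of_mul_eq_one_left (by rw [← sq]; exact hu)
    have hr : Nat.card f.range ≤ 2 := hsmall _ fun w hwr => by
      obtain ⟨e, rfl⟩ := hwr
      have hc := hEu e e.2
      refine hCE _ (mul_mem e.2 hc) ?_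
      change u * ((e : P) * (u * e * u⁻¹)) = (e : P) * (u * e * u⁻¹) * u
      have huu : u * u = 1 := by rw [← sq]; exact hu
      conv_lhs => rw [hEc e e.2 _ hc]
      simp only [hu', mul_assoc, huu, mul_one]
      rw [← mul_assoc u u, huu, one_mul]
    have hk : Nat.card f.ker ≤ 2 := by
      rw [← Subgroup.card_map_of_injective E.subtype_injective]
      refine hsmall _ fun w hwk => ?_
      obtain ⟨e, he, rfl⟩ := hwk
      refine hCE _ e.2 ?_
      have : (e : P) * (u * e * u⁻¹) = 1 := he
      have h1 : u * (e : P) * u⁻¹ = (e : P)⁻¹ := eq_inv_of_mul_eq_one_right this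
      have he2 : (e : P)⁻¹ = e := inv_eq_of_mul_eq_one_left (by rw [← sq]; exact hE2 e e.2)
      rw [he2] at h1
      calc u * (e : P) = u * e * u⁻¹ * u := by group
        _ = e * u := by rw [h1]
    have := Subgroup.card_mul_index f.ker
    rw [Subgroup.index_ker] at this
    nlinarith
  set R := fun A B : Subgroup P => IsKleinFour A ∧ IsKleinFour B ∧ ∀ a ∈ A, ∀ b ∈ B, a * b = b * a
  have hsym : ∀ A B, R A B → R B A := fun A B h =>
    ⟨h.2.1, h.1, fun a ha b hb => (h.2.2 b hb a ha).symm⟩
  -- two four-groups on `z` with commuting second generators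
  have hzz : ∀ a b, a ^ 2 = 1 → b ^ 2 = 1 → a * b = b * a →
      ∀ x ∈ four a, ∀ y ∈ four b, x * y = y * x := by
    intro a b ha hb hab x hx y hy
    have c1 : ∀ w, Commute z w := fun w => (hzc' w).symm
    rcases hmem a ha x hx with rfl | rfl | rfl | rfl <;>
      rcases hmem b hb y hy with rfl | rfl | rfl | rfl
    all_goals first
      | simp
      | exact hab
      | exact c1 _
      | exact hzc' _
      | exact (Commute.mul_left (c1 _) (Commute.mul_right (c1 _).symm hab))
      | exact (Commute.mul_left (c1 _) hab)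
      | exact (Commute.mul_right (c1 _).symm hab)
  have main : ∀ U : Subgroup P, IsKleinFour U → ∃ w ∈ E, w ≠ 1 ∧ w ≠ z ∧
      Relation.ReflTransGen R U (four w) ∧ Relation.ReflTransGen R (four w) U := by
    intro U hU
    obtain ⟨u, huU, hu2, hu1, huz, huc⟩ := hK U hU
    obtain ⟨w, hwE, hw1, hwz, hwu⟩ := hw u hu2
    have hs1 : R U (four u) := by
      refine ⟨hU, hfour u hu2 hu1 huz, fun x hx y hy => ?_⟩
      rcases hmem u hu2 y hy with rfl | rfl | rfl | rfl
      · simp
      · exact hzc' x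
      · exact huc x hx
      · rw [← mul_assoc, hzc' x, mul_assoc, huc x hx, mul_assoc]
    have hs2 : R (four u) (four w) :=
      ⟨hfour u hu2 hu1 huz, hfour w (hE2 w hwE) hw1 hwz, hzz u w hu2 (hE2 w hwE) hwu⟩
    exact ⟨w, hwE, hw1, hwz, (Relation.ReflTransGen.single hs1).tail hs2,
      (Relation.ReflTransGen.single (hsym _ _ hs2)).tail (hsym _ _ hs1)⟩
  intro U V hU hV
  obtain ⟨w, hwE, hw1, hwz, h1, -⟩ := main U hU
  obtain ⟨w', hwE', hw1', hwz', -, h2⟩ := main V hV
  exact (h1.tail ⟨hfour w (hE2 w hwE) hw1 hwz, hfour w' (hE2 w' hwE') hw1' hwz',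
    hzz w w' (hE2 w hwE) (hE2 w' hwE')
      (congrArg Subtype.val (hE.is_comm.comm (⟨w, hwE⟩ : E) ⟨w', hwE'⟩))⟩).trans h2

end Cfsg.Agent.S0502
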