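import Cfsg.Statements.S0519
import Cfsg.Agent.InvChar.UniqueInvolution
import Cfsg.Agent.Suborbit.Dihedral
import Mathlib.NumberTheory.Multiplicity

set_option autoImplicit false
open Cfsg

namespace Cfsg.Agent.S0519

open Subgroup

/-- In a cyclic subgroup there is only one subgroup of prime order. -/
theorem mem_zpowers_prime {G : Type*} [Group G] {p : ℕ} [hp : Fact p.Prime] {e z h : G}
    (hz : z ∈ zpowers e) (hh : h ∈ zpowers e) (hzo : orderOf z = p) (hhp : h ^ p = 1) :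
    h ∈ zpowers z := by
  obtain ⟨j, rfl⟩ := hz
  obtain ⟨i, rfl⟩ := hh
  simp only at *
  obtain ⟨M, hM⟩ : p ∣ orderOf e := by
    rw [← hzo]
    exact orderOf_dvd_of_mem_zpowers (zpow_mem (mem_zpowers e) j)
  have hp0 : (p : ℤ) ≠ 0 := Int.natCast_ne_zero.mpr hp.out.ne_zero
  have hdiv : ∀ k : ℤ, (e ^ k) ^ p = 1 → (M : ℤ) ∣ k := by
    intro k hk
    rw [← zpow_natCast, ← zpow_mul, ← orderOf_dvd_iff_zpow_eq_one, hM, Nat.cast_mul,
      mul_comm (p : ℤ) (M : ℤ)] at hk
    exact (mul_dvd_mul_iff_right hp0).mp hk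
  obtain ⟨i', rfl⟩ := hdiv i hhp
  obtain ⟨j', rfl⟩ := hdiv j (hzo ▸ pow_orderOf_eq_one _)
  have hj : ¬ (p : ℤ) ∣ j' := by
    rintro ⟨c, rfl⟩
    have h1 : e ^ ((M : ℤ) * ((p : ℤ) * c)) = 1 :=
      orderOf_dvd_iff_zpow_eq_one.mp ⟨c, by rw [hM]; push_cast; ring⟩
    rw [h1, orderOf_one] at hzo
    exact hp.out.one_lt.ne hzo
  obtain ⟨u, v, huv⟩ := (Nat.prime_iff_prime_int.mp hp.out).irreducible.coprime_iff_not_dvd.mpr hj
  refine ⟨i' * v, ?_⟩
  simp only
  rw [← zpow_mul, zpow_eq_zpow_iff_modEq, hM]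
  refine Int.modEq_iff_dvd.mpr ⟨i' * u, ?_⟩
  push_cast
  linear_combination (-((M : ℤ) * i')) * huv

variable {P : Type*} [Group P] [Finite P] {p : ℕ} [hp : Fact p.Prime]

/-- A closure of two commuting elements is normal once the conjugates of both lie in it. -/
theorem not_normal_pair {z h : P}
    (hn : ∀ A : Subgroup P, A.Normal → IsMulCommutative A → IsCyclic A)
    (hzo : orderOf z = p) (hhp : h ^ p = 1) (hh : h ∉ zpowers z) (hc : h * z = z * h)
    (hz1 : ∀ x : P, x * z * x⁻¹ ∈ closure ({z, h} : Set P))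
    (hh1 : ∀ x : P, x * h * x⁻¹ ∈ closure ({z, h} : Set P)) : False := by
  set E := closure ({z, h} : Set P)
  have hEc : IsMulCommutative E := by
    refine isMulCommutative_closure ?_
    rintro x (rfl | rfl) y (rfl | rfl)
    · rfl
    · exact hc.symm
    · exact hc
    · rfl
  have hEn : E.Normal := by
    refine ⟨fun y hy x => ?_⟩
    have hle : E ≤ E.comap (MulAut.conj x).toMonoidHom := by
      refine (closure_le _).2 ?_
      rintro w (rfl | rfl)
      · exact hz1 x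
      · exact hh1 x
    exact hle hy
  obtain ⟨⟨e, he⟩, hgen⟩ := (hn E hEn hEc).exists_generator
  have hmem : ∀ w ∈ E, w ∈ zpowers e := by
    intro w hw
    obtain ⟨k, hk⟩ := hgen ⟨w, hw⟩
    exact ⟨k, congrArg Subtype.val hk⟩
  exact hh (mem_zpowers_prime (hmem z (subset_closure (by simp)))
    (hmem h (subset_closure (by simp))) hzo hhp)

/-- No element outside acts on a self-centralizing cyclic normal subgroup as a universal power map
congruent to the identity. -/
theorem no_modular (hn : ∀ A : Subgroup P, A.Normal → IsMulCommutative A → IsCyclic A)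
    {a : P} {n : ℕ} (hao : orderOf a = p ^ n) (hn1 : 1 ≤ n) (hAn : (zpowers a).Normal)
    (hC : centralizer (zpowers a : Set P) ≤ zpowers a)
    (hcom : ∀ x y : P, x * y * x⁻¹ * y⁻¹ ∈ zpowers a)
    {g : P} (hg : g ∉ zpowers a) {r s : ℕ} (hr : g * a * g⁻¹ = a ^ r) (hs : g ^ p = a ^ s)
    (hr1 : (r : ℤ) ≡ 1 [ZMOD (p : ℤ)]) {u : ℤ}
    (hsum : (∑ j ∈ Finset.range p, (r : ℤ) ^ j) = p * u) (hu : IsCoprime u (p : ℤ)) : False := by
  obtain ⟨s', rfl⟩ : p ∣ s := by
    by_contra hps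
    apply hg
    refine hC (mem_centralizer_iff.mpr fun y hy => ?_)
    have hcop : Nat.Coprime s (orderOf a) := by
      rw [hao]; exact ((hp.out.coprime_iff_not_dvd.mpr hps).symm).pow_right n
    have hmem : a ∈ zpowers (g ^ p) := by rw [hs, mem_zpowers_pow_iff]; exact hcop
    obtain ⟨k, hk⟩ := hy
    simp only at hk
    rw [← hk]
    obtain ⟨l, hl⟩ := hmem
    simp only at hl
    rw [← hl]
    exact (((Commute.refl g).pow_left p).zpow_left l).zpow_left k |>.eq
  obtain ⟨x₀, y₀, hxy⟩ := hu.pow_right (n := n)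
  set i : ℤ := -(x₀ * s') with hi
  set h := a ^ i * g with hh
  have hhg : h ∉ zpowers a := fun hmem => hg (by
    simpa [hh] using mul_mem (inv_mem (zpow_mem (mem_zpowers a) i)) hmem)
  have hhr : h * a * h⁻¹ = a ^ r := by
    calc h * a * h⁻¹ = a ^ i * (g * a * g⁻¹) * (a ^ i)⁻¹ := by rw [hh]; group
      _ = a ^ r := by rw [hr]; group
  have hhp : h ^ p = 1 := by
    rw [hh, CfsgLib.UniqueInvol.mul_pow_formula hr, hs, ← zpow_natCast a (p * s'), ← zpow_add,
      ← orderOf_dvd_iff_zpow_eq_one, hao, hsum]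
    exact ⟨p * (s' * y₀), by push_cast; rw [hi]; linear_combination (-((p : ℤ) * s')) * hxy⟩
  set z := a ^ p ^ (n - 1) with hz
  have hpn : p ^ n = p * p ^ (n - 1) := by rw [← pow_succ', Nat.sub_add_cancel hn1]
  have hzo : orderOf z = p := by
    rw [hz, orderOf_pow, hao, Nat.gcd_eq_right (pow_dvd_pow p (Nat.sub_le n 1)), hpn,
      Nat.mul_div_cancel _ (pow_pos hp.out.pos _)]
  have hza : z ∈ zpowers a := pow_mem (mem_zpowers a) _
  have hzh : h * z = z * h := by
    rw [← mul_inv_eq_iff_eq_mul, hz, ← conj_pow, hhr, ← pow_mul, mul_comm r, pow_mul, ← hz]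
    conv_rhs => rw [← pow_one z]
    rw [pow_eq_pow_iff_modEq, hzo]
    exact Int.natCast_modEq_iff.mp (by exact_mod_cast hr1)
  refine not_normal_pair hn hzo hhp (fun hm => hhg (zpowers_le.mpr hza hm)) hzh ?_ ?_
  · intro x
    obtain ⟨t, ht⟩ := mem_powers_iff_mem_zpowers.mpr (hAn.conj_mem a (mem_zpowers a) x)
    simp only at ht
    rw [hz, ← conj_pow, ← ht, ← pow_mul, mul_comm t, pow_mul, ← hz]
    exact pow_mem (subset_closure (by simp)) t
  · intro x
    obtain ⟨l, hl⟩ := hcom x h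
    simp only at hl
    have hx : x * h * x⁻¹ = a ^ l * h := by rw [hl]; group
    have hxp : (a ^ l * h) ^ p = 1 := by rw [← hx, conj_pow, hhp]; group
    rw [CfsgLib.UniqueInvol.mul_pow_formula hhr, hhp, mul_one, hsum,
      ← orderOf_dvd_iff_zpow_eq_one, hao, ← mul_assoc] at hxp
    have hcop : IsCoprime ((p ^ n : ℕ) : ℤ) u := by
      push_cast
      exact hu.symm.pow_left
    have h1 : ((p ^ n : ℕ) : ℤ) ∣ l * p := hcop.dvd_of_dvd_mul_right hxp
    rw [hpn, Nat.cast_mul, mul_comm l] at h1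
    obtain ⟨l', hl'⟩ := (mul_dvd_mul_iff_left (Int.natCast_ne_zero.mpr hp.out.ne_zero)).mp h1
    rw [hx, hl', zpow_mul, zpow_natCast, ← hz]
    exact mul_mem (zpow_mem (subset_closure (by simp)) l') (subset_closure (by simp))

omit [Finite P] in
/-- The multiplier of an element whose `p`-th power centralizes. -/
theorem multiplier_modEq_one {a g : P} {n r : ℕ} (hao : orderOf a = p ^ n) (hn1 : 1 ≤ n)
    (hr : g * a * g⁻¹ = a ^ r) (hgp : g ^ p ∈ zpowers a) : (r : ℤ) ≡ 1 [ZMOD (p : ℤ)] := by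
  have hfix : a ^ (r ^ p) = a ^ 1 := by
    rw [pow_one, ← CfsgLib.UniqueInvol.pow_conj_pow hr]
    obtain ⟨k, hk⟩ := hgp
    simp only at hk
    rw [← hk]
    group
  rw [pow_eq_pow_iff_modEq, hao] at hfix
  have h1 : ((r ^ p : ℕ) : ZMod p) = ((1 : ℕ) : ZMod p) :=
    (ZMod.natCast_eq_natCast_iff _ _ _).mpr (hfix.of_dvd (dvd_pow_self p (by omega)))
  rw [Nat.cast_pow, ZMod.pow_card] at h1
  refine (ZMod.intCast_eq_intCast_iff _ _ _).mp ?_
  push_cast
  simpa using h1

/-- Let P be a finite p-group in which every abelian normal subgroup is cyclic, but which has a non-cyclic abelian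
subgroup. Then p = 2 and P is generalized quaternion, dihedral of order at least 16, or quasi-dihedral. -/
theorem result {P : Type*} [Group P] [Finite P] (p : ℕ) [Fact p.Prime]
    (hP : IsPGroup p P) (hn : ∀ A : Subgroup P, A.Normal → IsMulCommutative A → IsCyclic A)
    (hm : ∃ B : Subgroup P, IsMulCommutative B ∧ ¬ IsCyclic B) :
    p = 2 ∧ ((∃ n : ℕ, Nonempty (P ≃* QuaternionGroup n)) ∨ (∃ n : ℕ, 8 ≤ n ∧ Nonempty (P ≃* DihedralGroup n)) ∨
      Cfsg.IsQuasiDihedral P) := by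
  have hp := (Fact.out : p.Prime)
  obtain ⟨A, hAn, hAc, hC⟩ := CfsgLib.UniqueInvol.exists_self_centralizing hP
  obtain ⟨a, rfl⟩ : ∃ a : P, A = zpowers a := by
    obtain ⟨⟨a, ha⟩, hgen⟩ := (hn A hAn (isMulCommutative_iff.mpr fun x y =>
      Subtype.ext (hAc x x.2 y y.2))).exists_generator
    refine ⟨a, le_antisymm (fun w hw => ?_) (zpowers_le.mpr ha)⟩
    obtain ⟨k, hk⟩ := hgen ⟨w, hw⟩
    exact ⟨k, congrArg Subtype.val hk⟩
  obtain ⟨B, hB, hBnc⟩ := hm
  obtain ⟨g₀, hg₀⟩ : ∃ g₀ : P, g₀ ∉ zpowers a := by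
    by_contra hall
    push Not at hall
    haveI : IsCyclic P := ⟨a, hall⟩
    exact hBnc inferInstance
  obtain ⟨n, hao⟩ := IsPGroup.iff_orderOf.mp hP a
  have hn1 : 1 ≤ n := by
    by_contra hc
    obtain rfl : n = 0 := by omega
    rw [pow_zero, orderOf_eq_one_iff] at hao
    subst hao
    exact hg₀ (hC (mem_centralizer_iff.mpr fun y hy => by
      rw [zpowers_one_eq_bot, SetLike.mem_coe, mem_bot] at hy
      simp [hy]))
  have hmult : ∀ x : P, ∃ t : ℕ, x * a * x⁻¹ = a ^ t := fun x => by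
    obtain ⟨t, ht⟩ := mem_powers_iff_mem_zpowers.mpr (hAn.conj_mem a (mem_zpowers a) x)
    exact ⟨t, ht.symm⟩
  have hcomp : ∀ {x y : P} {t v : ℕ}, x * a * x⁻¹ = a ^ t → y * a * y⁻¹ = a ^ v →
      (x * y) * a * (x * y)⁻¹ = a ^ (t * v) := by
    intro x y t v hx hy
    calc (x * y) * a * (x * y)⁻¹ = x * (y * a * y⁻¹) * x⁻¹ := by group
      _ = a ^ (t * v) := by rw [hy, ← conj_pow, hx, ← pow_mul]
  have hcom : ∀ x y : P, x * y * x⁻¹ * y⁻¹ ∈ zpowers a := by
    intro x y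
    obtain ⟨t, ht⟩ := hmult x
    obtain ⟨v, hv⟩ := hmult y
    have he : x * y * a * (x * y)⁻¹ = y * x * a * (y * x)⁻¹ := by
      rw [hcomp ht hv, hcomp hv ht, mul_comm]
    have hc : (y * x)⁻¹ * (x * y) ∈ zpowers a := by
      refine hC (mem_centralizer_iff.mpr fun w hw => ?_)
      obtain ⟨k, rfl⟩ := hw
      have hc1 : Commute ((y * x)⁻¹ * (x * y)) a := by
        rw [Commute, SemiconjBy, ← mul_inv_eq_iff_eq_mul]
        calc (y * x)⁻¹ * (x * y) * a * ((y * x)⁻¹ * (x * y))⁻¹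
            = (y * x)⁻¹ * (x * y * a * (x * y)⁻¹) * (y * x) := by group
          _ = a := by rw [he]; group
      exact ((hc1.zpow_right k).eq).symm
    have h2 := hAn.conj_mem _ hc (y * x)
    rwa [show y * x * ((y * x)⁻¹ * (x * y)) * (y * x)⁻¹ = x * y * x⁻¹ * y⁻¹ by group] at h2
  -- elements of order `p` modulo `A`
  have hstep : ∀ g : P, g ∉ zpowers a → g ^ p ∈ zpowers a → ∀ r : ℕ, g * a * g⁻¹ = a ^ r →
      p = 2 ∧ r % 4 = 3 := by
    intro g hg hgp r hr
    obtain ⟨s, hs⟩ := mem_powers_iff_mem_zpowers.mpr hgp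
    have hr1 := multiplier_modEq_one hao hn1 hr hgp
    obtain ⟨t, ht⟩ := Int.ModEq.dvd hr1.symm
    rcases hp.eq_two_or_odd' with rfl | hodd
    · refine ⟨rfl, ?_⟩
      push_cast at ht
      by_contra h3
      have h4 : r % 4 = 1 := by omega
      refine no_modular hn hao hn1 hAn hC hcom hg hr hs.symm hr1 (u := 2 * ((r / 4 : ℕ) : ℤ) + 1) ?_
        ⟨1, -((r / 4 : ℕ) : ℤ), by push_cast; ring⟩
      simp only [Finset.sum_range_succ, Finset.sum_range_zero]
      have h5 : (r : ℤ) = 4 * ((r / 4 : ℕ) : ℤ) + 1 := by omega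
      push_cast at h5 ⊢
      linear_combination h5
    · exfalso
      obtain ⟨w, hw⟩ := odd_sq_dvd_geom_sum₂_sub (R := ℤ) (p := p) 1 t hodd
      simp only [one_pow, mul_one] at hw
      rw [show (1 : ℤ) + p * t = r by rw [← ht]; ring] at hw
      exact no_modular hn hao hn1 hAn hC hcom hg hr hs.symm hr1 (u := 1 + p * w)
        (by linear_combination hw) ⟨1, -w, by ring⟩
  obtain ⟨g₁, hg₁, hg₁p⟩ : ∃ g₁ : P, g₁ ∉ zpowers a ∧ g₁ ^ p ∈ zpowers a := by
    suffices ∀ k : ℕ, ∀ g : P, g ^ p ^ k ∈ zpowers a → g ∉ zpowers a →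
        ∃ g₁ : P, g₁ ∉ zpowers a ∧ g₁ ^ p ∈ zpowers a by
      obtain ⟨k, hk⟩ := hP g₀
      exact this k g₀ (by rw [hk]; exact one_mem _) hg₀
    intro k
    induction k with
    | zero => intro g h1 h2; exact absurd (by simpa using h1) h2
    | succ k ih =>
      intro g h1 h2
      by_cases hgp : g ^ p ∈ zpowers a
      · exact ⟨g, h2, hgp⟩
      · exact ih (g ^ p) (by rw [← pow_mul, ← pow_succ']; exact h1) hgp
  obtain ⟨r₁, hr₁⟩ := hmult g₁
  obtain ⟨hp2, -⟩ := hstep g₁ hg₁ hg₁p r₁ hr₁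
  subst hp2
  refine ⟨rfl, Or.inr ?_⟩
  have hsq : ∀ g : P, g ^ 2 ∈ zpowers a := by
    suffices ∀ k : ℕ, ∀ g : P, g ^ 2 ^ k ∈ zpowers a → g ^ 2 ∈ zpowers a by
      intro g
      obtain ⟨k, hk⟩ := hP g
      exact this k g (by rw [hk]; exact one_mem _)
    intro k
    induction k with
    | zero => intro g h1; exact pow_mem (by simpa using h1) 2
    | succ k ih =>
      intro g h1
      by_contra h2
      have h4 : (g ^ 2) ^ 2 ∈ zpowers a := ih (g ^ 2) (by rw [← pow_mul, ← pow_succ']; exact h1)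
      obtain ⟨r, hr⟩ := hmult g
      have h3 := (hstep (g ^ 2) h2 h4 (r * r) (by rw [pow_two]; exact hcomp hr hr)).2
      rw [Nat.mul_mod] at h3
      have := Nat.mod_lt r (show 4 > 0 by norm_num)
      interval_cases (r % 4) <;> norm_num at h3
  have hout : ∀ g : P, g ∉ zpowers a → ∀ r : ℕ, g * a * g⁻¹ = a ^ r → r % 4 = 3 :=
    fun g hg r hr => (hstep g hg (hsq g) r hr).2
  have hidx : (zpowers a).index = 2 := by
    rw [index_eq_two_iff]
    refine ⟨g₀, fun b => ?_⟩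
    by_cases hb : b ∈ zpowers a
    · exact Or.inr ⟨hb, fun h => hg₀ ((mul_mem_cancel_left hb).mp h)⟩
    · refine Or.inl ⟨?_, hb⟩
      by_contra hbg
      obtain ⟨t, ht⟩ := hmult b
      obtain ⟨v, hv⟩ := hmult g₀
      have h1 := hout _ hbg _ (hcomp ht hv)
      rw [Nat.mul_mod, hout b hb t ht, hout g₀ hg₀ v hv] at h1
      norm_num at h1
  have hcard : Nat.card P = 2 * 2 ^ n := by
    rw [← (zpowers a).card_mul_index, hidx, Nat.card_zpowers, hao, mul_comm]
  obtain ⟨g, hg, hg2⟩ : ∃ g : P, g ∉ zpowers a ∧ orderOf g = 2 := by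
    by_contra hno
    push Not at hno
    have hu : ∀ x y : P, orderOf x = 2 → orderOf y = 2 → y ∈ zpowers x := fun x y hx hy =>
      mem_zpowers_prime (e := a) (p := 2) (by_contra fun h => hno x h hx)
        (by_contra fun h => hno y h hy) hx (by rw [← hy]; exact pow_orderOf_eq_one y)
    obtain ⟨b, rfl⟩ := CfsgLib.UniqueInvol.exists_generator_of_comm hP
      (fun x hx y hy => setLike_mul_comm hx hy) hu (A := B)
    exact hBnc inferInstance
  have hgg : g * g = 1 := by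
    have := pow_orderOf_eq_one g
    rwa [hg2, pow_two] at this
  have hginv : g⁻¹ = g := inv_eq_of_mul_eq_one_right hgg
  obtain ⟨r, hr⟩ := hmult g
  have hn2 : 2 ≤ n := by
    by_contra hc
    obtain rfl : n = 1 := by omega
    apply hg
    refine hC (mem_centralizer_iff.mpr fun w hw => ?_)
    obtain ⟨k, rfl⟩ := hw
    have hc1 : Commute g a := by
      rw [Commute, SemiconjBy, ← mul_inv_eq_iff_eq_mul, hr]
      conv_rhs => rw [← pow_one a]
      rw [pow_eq_pow_iff_modEq, hao, pow_one, Nat.ModEq]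
      have := hout g hg r hr
      omega
    exact ((hc1.zpow_right k).eq).symm
  have hN2 : 2 ^ n = 2 * 2 ^ (n - 1) := by rw [← pow_succ', Nat.sub_add_cancel (by omega)]
  have hN4 : 4 ∣ 2 ^ n := pow_dvd_pow 2 hn2
  set R := r % 2 ^ n with hR
  have hR4 : R % 4 = 3 := by rw [hR, Nat.mod_mod_of_dvd _ hN4]; exact hout g hg r hr
  have hgR : g * a * g⁻¹ = a ^ R := by
    rw [hr, pow_eq_pow_iff_modEq, hao]
    exact (Nat.mod_modEq r _).symm
  have hdvd : 2 ^ (n - 1) ∣ R + 1 := by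
    have h1 : a ^ (R * R) = a ^ 1 := by
      rw [← hcomp hgR hgR, hgg, pow_one]
      group
    rw [pow_eq_pow_iff_modEq, hao, Nat.modEq_iff_dvd] at h1
    have h2 : ((2 * 2 ^ (n - 1) : ℕ) : ℤ) ∣
        2 * ((2 * ((R / 4 : ℕ) : ℤ) + 1) * ((R : ℤ) + 1)) := by
      rw [← hN2]
      have h5 : (R : ℤ) = 4 * ((R / 4 : ℕ) : ℤ) + 3 := by omega
      have h6 := dvd_neg.mpr h1
      have e : 2 * ((2 * ((R / 4 : ℕ) : ℤ) + 1) * ((R : ℤ) + 1)) =
          -(((1 : ℕ) : ℤ) - ((R * R : ℕ) : ℤ)) := by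
        rw [Nat.cast_mul, Nat.cast_one]
        linear_combination (-((R : ℤ) + 1)) * h5
      rw [e]
      exact h6
    rw [Nat.cast_mul, Nat.cast_ofNat] at h2
    have h3 := (mul_dvd_mul_iff_left (two_ne_zero' ℤ)).mp h2
    have hcop : IsCoprime ((2 ^ (n - 1) : ℕ) : ℤ) (2 * ((R / 4 : ℕ) : ℤ) + 1) := by
      push_cast
      exact IsCoprime.pow_left ⟨-((R / 4 : ℕ) : ℤ), 1, by push_cast; ring⟩
    have h4 := hcop.dvd_of_dvd_mul_left h3
    exact_mod_cast h4
  have hlt : R < 2 ^ n := Nat.mod_lt _ (Nat.two_pow_pos n)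
  have hn3 : R + 1 = 2 ^ (n - 1) ∨ R + 1 = 2 ^ n := by
    obtain ⟨c, hc⟩ := hdvd
    have hpos := Nat.two_pow_pos (n - 1)
    have : c ≤ 2 := by
      by_contra hcc
      have : 2 ^ (n - 1) * 3 ≤ 2 ^ (n - 1) * c := Nat.mul_le_mul_left _ (by omega)
      omega
    interval_cases c <;> omega
  rcases hn3 with hq | hd
  · refine Or.inr ⟨n, ?_, by rw [hcard, pow_succ'], a, g, hao, hg2, ?_⟩
    · by_contra hc
      obtain rfl : n = 2 := by omega
      norm_num at hq
      omega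
    · rw [hgR, ← hq, Nat.add_sub_cancel]
  · have hinv : g * a * g⁻¹ = a⁻¹ := by
      rw [hgR]
      refine eq_inv_of_mul_eq_one_left ?_
      rw [← pow_succ, hd, ← hao, pow_orderOf_eq_one]
    refine Or.inl ⟨2 ^ n, ?_, ?_⟩
    · by_contra hc
      obtain rfl : n = 2 := by
        by_contra hn'
        have : 2 ^ 3 ≤ 2 ^ n := Nat.pow_le_pow_right (by norm_num) (by omega)
        omega
      have hgz : ∀ j : ℤ, g * a ^ j * g⁻¹ = a ^ (-j) := fun j => by
        rw [← conj_zpow, hinv, inv_zpow, zpow_neg]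
      refine not_normal_pair (p := 2) (z := a ^ (2 : ℤ)) (h := g) hn ?_ (by rw [pow_two]; exact hgg)
        (fun hm => hg (zpowers_le.mpr (zpow_mem (mem_zpowers a) _) hm)) ?_ ?_ ?_
      · refine orderOf_eq_prime ?_ ?_
        · rw [← zpow_natCast, ← zpow_mul, ← orderOf_dvd_iff_zpow_eq_one, hao]; norm_num
        · rw [Ne, ← orderOf_dvd_iff_zpow_eq_one, hao]; norm_num
      · rw [← mul_inv_eq_iff_eq_mul, hgz, zpow_eq_zpow_iff_modEq, hao]; decide
      · intro x
        obtain ⟨t, ht⟩ := hmult x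
        rw [← conj_zpow, ht, ← zpow_natCast, ← zpow_mul, mul_comm, zpow_mul]
        exact zpow_mem (subset_closure (by simp)) _
      · intro x
        have hj : ∀ w ∈ zpowers a, w * g * w⁻¹ ∈ closure ({a ^ (2 : ℤ), g} : Set P) := by
          rintro _ ⟨j, rfl⟩
          simp only
          have : a ^ j * g * (a ^ j)⁻¹ = (a ^ (2 : ℤ)) ^ j * g := by
            calc a ^ j * g * (a ^ j)⁻¹ = a ^ j * (g * a ^ (-j) * g⁻¹) * g := by group
              _ = (a ^ (2 : ℤ)) ^ j * g := by rw [hgz, ← zpow_mul, ← zpow_add]; congr 2; ring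
          rw [this]
          exact mul_mem (zpow_mem (subset_closure (by simp)) _) (subset_closure (by simp))
        by_cases hx : x ∈ zpowers a
        · exact hj x hx
        · have hxg : x * g ∈ zpowers a := (mul_mem_iff_of_index_two hidx).mpr (iff_of_false hx hg)
          have := hj _ hxg
          rwa [show x * g * g * (x * g)⁻¹ = x * g * x⁻¹ by group] at this
    · haveI : NeZero (2 ^ n) := ⟨(Nat.two_pow_pos n).ne'⟩
      refine CfsgLib.Suborbit.dihedral_of_inverts (2 ^ n) a g hcard hao hgg hg ?_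
      rw [← hinv, hginv]

end Cfsg.Agent.S0519
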