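import Cfsg.Statements.S0520
import Cfsg.Agent.Transfer.Alperin

set_option autoImplicit false
open Cfsg

namespace Cfsg.Agent.S0520

open Subgroup
open scoped Pointwise

variable {G : Type*} [Group G]

theorem isKleinFour_of {U : Subgroup G} (hc : Nat.card U = 4) (h2 : ∀ x ∈ U, x ^ 2 = 1) :
    IsKleinFour U where
  card_four := hc
  exponent_two := by
    have hd : Monoid.exponent U ∣ 2 := Monoid.exponent_dvd_of_forall_pow_eq_one fun x =>
      Subtype.ext (by simpa using h2 x x.2)
    rcases (Nat.dvd_prime Nat.prime_two).1 hd with h | h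
    · have : Subsingleton U := Monoid.exp_eq_one_iff.1 h
      rw [Nat.card_of_subsingleton (1 : U)] at hc
      omega
    · exact h

theorem sq_eq_one {U : Subgroup G} (hU : IsKleinFour U) {x : G} (hx : x ∈ U) : x ^ 2 = 1 := by
  have h := Monoid.pow_exponent_eq_one (⟨x, hx⟩ : U)
  rw [hU.exponent_two] at h
  exact congrArg Subtype.val h

theorem comm_of_four {U : Subgroup G} (hU : IsKleinFour U) {x y : G} (hx : x ∈ U) (hy : y ∈ U) :
    x * y = y * x := by
  have hi : ∀ z ∈ U, z⁻¹ = z := fun z hz =>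
    inv_eq_of_mul_eq_one_left (by rw [← sq]; exact sq_eq_one hU hz)
  calc x * y = (x * y)⁻¹ := (hi _ (mul_mem hx hy)).symm
    _ = y * x := by rw [mul_inv_rev, hi x hx, hi y hy]

theorem mem_smul_conj {U : Subgroup G} {g x : G} :
    x ∈ MulAut.conj g • U ↔ g⁻¹ * x * g ∈ U := by
  rw [mem_pointwise_smul_iff_inv_smul_mem]
  simp [MulAut.smul_def]

theorem isKleinFour_smul [Finite G] {U : Subgroup G} (hU : IsKleinFour U) (g : G) :
    IsKleinFour (MulAut.conj g • U : Subgroup G) := by
  refine isKleinFour_of ?_ fun x hx => ?_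
  · exact (Nat.card_congr (equivSMul (MulAut.conj g) U).toEquiv).symm.trans hU.card_four
  · rw [mem_smul_conj] at hx
    have h := sq_eq_one hU hx
    calc x ^ 2 = g * (g⁻¹ * x * g) ^ 2 * g⁻¹ := by rw [sq, sq]; group
      _ = 1 := by rw [h]; group

theorem exists_four [Finite G] {Q : Subgroup G} (h : ¬ Cfsg.PRankLE 2 1 Q) :
    ∃ U : Subgroup G, U ≤ Q ∧ IsKleinFour U := by
  haveI : Fact (Nat.Prime 2) := ⟨Nat.prime_two⟩
  unfold Cfsg.PRankLE at h
  push Not at h
  obtain ⟨A, -, h2, hlt⟩ := h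
  have hA : IsPGroup 2 A := fun x => ⟨1, Subtype.ext (by simpa using h2 x x.2)⟩
  obtain ⟨k, hk⟩ := IsPGroup.iff_card.mp hA
  have hk2 : 2 ≤ k := by
    by_contra hc
    have : 2 ^ k ≤ 2 ^ 1 := Nat.pow_le_pow_right (by norm_num) (by omega)
    omega
  obtain ⟨V, hV⟩ := Sylow.exists_subgroup_card_pow_prime 2 (hk ▸ pow_dvd_pow 2 hk2 : 2 ^ 2 ∣ Nat.card A)
  refine ⟨(V.map A.subtype).map Q.subtype, map_subtype_le _, isKleinFour_of ?_ ?_⟩
  · rw [card_map_of_injective Q.subtype_injective, card_map_of_injective A.subtype_injective, hV]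
    norm_num
  · rintro _ ⟨a, ⟨v, -, rfl⟩, rfl⟩
    have := congrArg Subtype.val (h2 v v.2)
    simpa using this

theorem not_rankLE_of_four {Q U : Subgroup G} (hU : IsKleinFour U) (hle : U ≤ Q) :
    ¬ Cfsg.PRankLE 2 1 Q := by
  intro h
  have := h (U.subgroupOf Q) (isMulCommutative_iff.mpr fun x y =>
    Subtype.ext (Subtype.ext (comm_of_four hU x.2 y.2)))
    (fun a ha => Subtype.ext (by simpa using sq_eq_one hU ha))
  rw [Nat.card_congr (subgroupOfEquivOfLe hle).toEquiv, hU.card_four] at this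
  norm_num at this

/-- The commuting relation on four-groups. -/
abbrev Adj (A B : Subgroup G) : Prop :=
  IsKleinFour A ∧ IsKleinFour B ∧ ∀ a ∈ A, ∀ b ∈ B, a * b = b * a

theorem adj_symm {A B : Subgroup G} (h : Adj A B) : Adj B A :=
  ⟨h.2.1, h.1, fun b hb a ha => (h.2.2 a ha b hb).symm⟩

theorem conn_symm {A B : Subgroup G} (h : Relation.ReflTransGen Adj A B) :
    Relation.ReflTransGen Adj B A := by
  induction h with
  | refl => rfl
  | tail _ h2 ih => exact (Relation.ReflTransGen.single (adj_symm h2)).trans ih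

theorem conn_smul [Finite G] {A B : Subgroup G} (h : Relation.ReflTransGen Adj A B) (g : G) :
    Relation.ReflTransGen Adj (MulAut.conj g • A) (MulAut.conj g • B) := by
  refine h.lift (fun U : Subgroup G => MulAut.conj g • U) ?_
  rintro C D ⟨hC, hD, hcd⟩
  refine ⟨isKleinFour_smul hC g, isKleinFour_smul hD g, fun c hc d hd => ?_⟩
  rw [mem_smul_conj] at hc hd
  have e := hcd _ hc _ hd
  calc c * d = g * (g⁻¹ * c * g * (g⁻¹ * d * g)) * g⁻¹ := by group
    _ = g * (g⁻¹ * d * g * (g⁻¹ * c * g)) * g⁻¹ := by rw [e]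
    _ = d * c := by group

theorem conn_of_connected [Finite G] {S : Subgroup G} (hS : Cfsg.IsFourConnected S) {U V : Subgroup G}
    (hU : IsKleinFour U) (hV : IsKleinFour V) (hUS : U ≤ S) (hVS : V ≤ S) :
    Relation.ReflTransGen Adj U V := by
  have hk : ∀ {W : Subgroup G}, IsKleinFour W → W ≤ S → IsKleinFour (W.subgroupOf S) :=
    fun hW hle => isKleinFour_of
      ((Nat.card_congr (subgroupOfEquivOfLe hle).toEquiv).trans hW.card_four)
      (fun x hx => Subtype.ext (by simpa using sq_eq_one hW hx))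
  have h := (hS _ _ (hk hU hUS) (hk hV hVS)).lift (fun W : Subgroup S => W.map S.subtype)
    (p := Adj) ?_
  · simpa [Function.onFun, subgroupOf_map_subtype, inf_eq_left.mpr hUS, inf_eq_left.mpr hVS] using h
  rintro C D ⟨hC, hD, hcd⟩
  have hkm : ∀ {W : Subgroup S}, IsKleinFour W → IsKleinFour (W.map S.subtype) :=
    fun hW => isKleinFour_of ((card_map_of_injective S.subtype_injective).trans hW.card_four)
      (by rintro _ ⟨w, hw, rfl⟩; simpa using congrArg Subtype.val (sq_eq_one hW hw))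
  refine ⟨hkm hC, hkm hD, ?_⟩
  rintro _ ⟨c, hc, rfl⟩ _ ⟨d, hd, rfl⟩
  simpa using congrArg Subtype.val (hcd c hc d hd)

/-- Sylow subgroups through a four-group of `S` are conjugate to `S` under any subgroup containing
the normalizers of the subgroups of `S` of rank at least two. -/
theorem sylow_conj_mem [Finite G] (S : Sylow 2 G) (Γ : Subgroup G)
    (hΓ : ∀ Q : Subgroup G, Q ≤ (S : Subgroup G) → ¬ Cfsg.PRankLE 2 1 Q →
      normalizer (Q : Set G) ≤ Γ) :
    ∀ (k : ℕ) (T : Sylow 2 G) (U : Subgroup G), IsKleinFour U → U ≤ (S : Subgroup G) →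
      U ≤ (T : Subgroup G) → Nat.card (S : Subgroup G) - Nat.card ↥((S : Subgroup G) ⊓ T) ≤ k →
      ∃ x ∈ Γ, T = x • S := by
  haveI : Fact (Nat.Prime 2) := ⟨Nat.prime_two⟩
  intro k
  induction k with
  | zero =>
    intro T U _ _ _ hk
    have hle : (S : Subgroup G) ≤ T := by
      rw [← inf_eq_left]
      exact eq_of_le_of_card_ge inf_le_left (by omega)
    exact ⟨1, one_mem _, by rw [one_smul]; exact Sylow.ext (S.is_maximal' T.isPGroup' hle)⟩
  | succ k ih =>
    intro T U hU hUS hUT hk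
    set Q := (S : Subgroup G) ⊓ T
    by_cases hQS : Q = S
    · have hle : (S : Subgroup G) ≤ T := inf_eq_left.mp hQS
      exact ⟨1, one_mem _, by rw [one_smul]; exact Sylow.ext (S.is_maximal' T.isPGroup' hle)⟩
    have hQlS : Q < S := lt_of_le_of_ne inf_le_left hQS
    have hQlT : Q < T := lt_of_le_of_ne inf_le_right fun h => by
      have hle : (T : Subgroup G) ≤ S := inf_eq_right.mp h
      have := T.is_maximal' S.isPGroup' hle
      exact hQS (inf_eq_left.mpr this.le)
    have hR1 := CfsgLib.Fusion.lt_inf_normalizer S.isPGroup' hQlS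
    have hR2 := CfsgLib.Fusion.lt_inf_normalizer T.isPGroup' hQlT
    set N := normalizer (Q : Set G)
    have hUQ : U ≤ Q := le_inf hUS hUT
    have hNΓ : N ≤ Γ := hΓ Q inf_le_left (not_rankLE_of_four hU hUQ)
    set R1 := (S : Subgroup G) ⊓ N
    set R2 := (T : Subgroup G) ⊓ N
    have hp1 : IsPGroup 2 R1 := S.isPGroup'.to_le inf_le_left
    have hp2 : IsPGroup 2 R2 := T.isPGroup'.to_le inf_le_left
    obtain ⟨P1, hP1⟩ := (hp1.comap_of_injective N.subtype N.subtype_injective).exists_le_sylow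
    obtain ⟨P2, hP2⟩ := (hp2.comap_of_injective N.subtype N.subtype_injective).exists_le_sylow
    obtain ⟨y, hy⟩ := MulAction.exists_smul_eq N P1 P2
    obtain ⟨S', hS'⟩ := (P1.isPGroup'.map N.subtype).exists_le_sylow
    have hR1S' : R1 ≤ S' := fun w hw =>
      hS' ⟨⟨w, hw.2⟩, hP1 (show w ∈ R1 from hw), rfl⟩
    have hR2S' : ∀ w ∈ R2, (y : G)⁻¹ * w * y ∈ S' := fun w hw => by
      have hmem : (⟨w, hw.2⟩ : N) ∈ (P2 : Subgroup N) := hP2 (show w ∈ R2 from hw)
      rw [← hy, Sylow.coe_subgroup_smul, mem_smul_conj] at hmem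
      exact hS' ⟨_, hmem, rfl⟩
    have hcard : Nat.card Q < Nat.card R1 := by
      by_contra h
      exact hR1.ne (eq_of_le_of_card_ge hR1.le (by omega))
    have hcard2 : Nat.card Q < Nat.card R2 := by
      by_contra h
      exact hR2.ne (eq_of_le_of_card_ge hR2.le (by omega))
    obtain ⟨x, hx, rfl⟩ := ih S' U hU hUS ((hUQ.trans hR1.le).trans hR1S') (by
      have hle : Nat.card R1 ≤ Nat.card ↥((S : Subgroup G) ⊓ S') :=
        card_le_of_le (le_inf inf_le_left hR1S')
      omega)
    set z := (y : G) * x with hz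
    have hzΓ : z ∈ Γ := mul_mem (hNΓ y.2) hx
    have hR2z : MulAut.conj z⁻¹ • R2 ≤ (S : Subgroup G) ⊓ ((z⁻¹ • T : Sylow 2 G) : Subgroup G) := by
      intro w hw
      rw [mem_smul_conj, inv_inv] at hw
      refine ⟨?_, ?_⟩
      · have h : _ ∈ ((x • S : Sylow 2 G) : Subgroup G) := hR2S' _ hw
        rw [Sylow.coe_subgroup_smul, mem_smul_conj] at h
        have e : x⁻¹ * ((y : G)⁻¹ * (z * w * z⁻¹) * y) * x = w := by rw [hz]; group
        rwa [e] at h
      · rw [Sylow.coe_subgroup_smul]
        exact mem_smul_conj.mpr (by rw [inv_inv]; exact hw.1)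
    obtain ⟨w, hw, hT⟩ := ih (z⁻¹ • T) (MulAut.conj z⁻¹ • U) (isKleinFour_smul hU _)
      (fun u hu => (hR2z (pointwise_smul_le_pointwise_smul_iff.mpr (hUQ.trans hR2.le) hu)).1)
      (fun u hu => (hR2z (pointwise_smul_le_pointwise_smul_iff.mpr (hUQ.trans hR2.le) hu)).2)
      (by
        have hle := card_le_of_le hR2z
        rw [← Nat.card_congr (equivSMul (MulAut.conj z⁻¹) R2).toEquiv] at hle
        omega)
    refine ⟨z * w, mul_mem hzΓ hw, ?_⟩
    rw [mul_smul, ← hT, smul_inv_smul]

/-- Let G be a finite group of 2-rank at least 2 and S a Sylow 2-subgroup whose commuting graph of Klein four-subgroups is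
connected. Then the commuting graph of Klein four-subgroups of G is disconnected if and only if the 2-generated core — the
subgroup generated by the normalizers N_G(Q) of the subgroups Q of S that contain a Klein four-group — is a proper
subgroup of G. -/
theorem result {G : Type*} [Group G] [Finite G] (h2 : ¬ Cfsg.PRankLE 2 1 G)
    (S : Sylow 2 G) (hS : Cfsg.IsFourConnected (S : Subgroup G)) :
    ¬ Cfsg.IsFourConnected G ↔
      (⨆ Q : {Q : Subgroup G // Q ≤ (S : Subgroup G) ∧ ¬ Cfsg.PRankLE 2 1 Q},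
          Subgroup.normalizer ((Q : Subgroup G) : Set G)) ≠ ⊤ := by
  haveI : Fact (Nat.Prime 2) := ⟨Nat.prime_two⟩
  set Γ := ⨆ Q : {Q : Subgroup G // Q ≤ (S : Subgroup G) ∧ ¬ Cfsg.PRankLE 2 1 Q},
      Subgroup.normalizer ((Q : Subgroup G) : Set G) with hΓ
  have hN : ∀ Q : Subgroup G, Q ≤ (S : Subgroup G) → ¬ Cfsg.PRankLE 2 1 Q →
      normalizer (Q : Set G) ≤ Γ := fun Q h1 h2 =>
    le_iSup (fun Q : {Q : Subgroup G // Q ≤ (S : Subgroup G) ∧ ¬ Cfsg.PRankLE 2 1 Q} =>
      Subgroup.normalizer ((Q : Subgroup G) : Set G)) ⟨Q, h1, h2⟩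
  obtain ⟨U₀, hU₀S, hU₀⟩ : ∃ U : Subgroup G, U ≤ (S : Subgroup G) ∧ IsKleinFour U := by
    obtain ⟨U, -, hU⟩ := exists_four (Q := (⊤ : Subgroup G)) (fun h => h2 fun A hA hA2 => by
      have := h (A.subgroupOf ⊤) (isMulCommutative_iff.mpr fun a b =>
        haveI := hA
        Subtype.ext (Subtype.ext (setLike_mul_comm (mem_subgroupOf.1 a.2) (mem_subgroupOf.1 b.2))))
        (fun a ha => Subtype.ext (by simpa using hA2 _ ha))
      rwa [Nat.card_congr (subgroupOfEquivOfLe le_top).toEquiv] at this)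
    have hU2 : IsPGroup 2 U := fun x => ⟨1, Subtype.ext (by simpa using sq_eq_one hU x.2)⟩
    obtain ⟨T, hT⟩ := hU2.exists_le_sylow
    obtain ⟨g, rfl⟩ := MulAction.exists_smul_eq G S T
    refine ⟨MulAut.conj g⁻¹ • U, ?_, isKleinFour_smul hU _⟩
    intro u hu
    rw [mem_smul_conj] at hu
    have := hT hu
    rw [Sylow.coe_subgroup_smul, mem_smul_conj] at this
    simpa [mul_assoc] using this
  rw [not_iff_not]
  constructor
  · intro hconn
    rw [eq_top_iff]
    intro g _
    have hU' : IsKleinFour (MulAut.conj g • U₀ : Subgroup G) := isKleinFour_smul hU₀ g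
    have key : ∀ V : Subgroup G, Relation.ReflTransGen Adj U₀ V → IsKleinFour V →
        ∀ T : Sylow 2 G, V ≤ (T : Subgroup G) → ∃ x ∈ Γ, T = x • S := by
      intro V hV
      induction hV with
      | refl =>
        intro hV T hT
        exact sylow_conj_mem S Γ hN _ T U₀ hV hU₀S hT le_rfl
      | @tail A B _ hAB ih =>
        intro hB T hT
        obtain ⟨hA, -, hcom⟩ := hAB
        have hp : ∀ {W : Subgroup G}, IsKleinFour W → IsPGroup 2 W :=
          fun hW x => ⟨1, Subtype.ext (by simpa using sq_eq_one hW x.2)⟩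
        have hAN : A ≤ normalizer (B : Set G) := by
          refine le_trans ?_ (centralizer_le_normalizer _)
          exact fun a ha => mem_centralizer_iff.mpr fun b hb => (hcom a ha b hb).symm
        obtain ⟨T₁, hT₁⟩ := ((hp hA).to_sup_of_normal_right' (hp hB) hAN).exists_le_sylow
        obtain ⟨x, hx, rfl⟩ := ih hA T₁ (le_sup_left.trans hT₁)
        have hBx : MulAut.conj x⁻¹ • B ≤ (S : Subgroup G) := by
          intro b hb
          rw [mem_smul_conj] at hb
          have := hT₁ (mem_sup_right hb)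
          rw [Sylow.coe_subgroup_smul, mem_smul_conj] at this
          simpa [mul_assoc] using this
        have hBT : MulAut.conj x⁻¹ • B ≤ ((x⁻¹ • T : Sylow 2 G) : Subgroup G) := by
          rw [Sylow.coe_subgroup_smul]
          exact pointwise_smul_le_pointwise_smul_iff.mpr hT
        obtain ⟨w, hw, hT'⟩ := sylow_conj_mem S Γ hN _ (x⁻¹ • T) _ (isKleinFour_smul hB _) hBx hBT le_rfl
        exact ⟨x * w, mul_mem hx hw, by rw [mul_smul, ← hT', smul_inv_smul]⟩
    obtain ⟨x, hx, hxS⟩ := key _ (hconn U₀ _ hU₀ hU') hU' (g • S) (by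
      rw [Sylow.coe_subgroup_smul]
      exact pointwise_smul_le_pointwise_smul_iff.mpr hU₀S)
    have hn : x⁻¹ * g ∈ normalizer ((S : Subgroup G) : Set G) := by
      exact Sylow.smul_eq_iff_mem_normalizer.1 (by rw [mul_smul, hxS, inv_smul_smul])
    have h3 : x⁻¹ * g ∈ Γ := hN S le_rfl (not_rankLE_of_four hU₀ hU₀S) hn
    have := mul_mem hx h3
    rwa [mul_inv_cancel_left] at this
  · intro htop
    let H : Subgroup G :=
      { carrier := {g | ∀ U : Subgroup G, IsKleinFour U → U ≤ (S : Subgroup G) →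
          Relation.ReflTransGen Adj U₀ (MulAut.conj g • U)}
        one_mem' := fun U hU hUS => by
          rw [map_one, one_smul]
          exact conn_of_connected hS hU₀ hU hU₀S hUS
        mul_mem' := fun {a b} ha hb U hU hUS => by
          rw [map_mul, mul_smul]
          exact (ha U₀ hU₀ hU₀S).trans (conn_smul (hb U hU hUS) a)
        inv_mem' := fun {a} ha U hU hUS => by
          have h1 := conn_smul (ha U₀ hU₀ hU₀S) a⁻¹
          rw [map_inv, inv_smul_smul] at h1
          exact (conn_symm h1).trans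
            (conn_smul (conn_of_connected hS hU₀ hU hU₀S hUS) a⁻¹ |> fun h => by rwa [map_inv] at h ⊢) }
    have hle : Γ ≤ H := by
      refine iSup_le ?_
      rintro ⟨Q, hQS, hQ⟩ g hg U hU hUS
      obtain ⟨V, hVQ, hV⟩ := exists_four hQ
      have hgV : MulAut.conj g • V ≤ (S : Subgroup G) := by
        intro v hv
        rw [mem_smul_conj] at hv
        have h := (mem_normalizer_iff.1 hg _).1 (hVQ hv)
        exact hQS (by simpa [mul_assoc] using h)
      exact (conn_of_connected hS hU₀ (isKleinFour_smul hV g) hU₀S hgV).trans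
        (conn_smul (conn_of_connected hS hV hU (hVQ.trans hQS) hUS) g)
    have hall : ∀ V : Subgroup G, IsKleinFour V → Relation.ReflTransGen Adj U₀ V := by
      intro V hV
      have hV2 : IsPGroup 2 V := fun x => ⟨1, Subtype.ext (by simpa using sq_eq_one hV x.2)⟩
      obtain ⟨T, hT⟩ := hV2.exists_le_sylow
      obtain ⟨g, rfl⟩ := MulAction.exists_smul_eq G S T
      have h1 : MulAut.conj g⁻¹ • V ≤ (S : Subgroup G) := by
        intro u hu
        rw [mem_smul_conj] at hu
        have := hT hu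
        rw [Sylow.coe_subgroup_smul, mem_smul_conj] at this
        simpa [mul_assoc] using this
      have := hle (htop ▸ mem_top g : g ∈ Γ) _ (isKleinFour_smul hV g⁻¹) h1
      rwa [map_inv, smul_inv_smul] at this
    exact fun U V hU hV => (conn_symm (hall U hU)).trans (hall V hV)

end Cfsg.Agent.S0520
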