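import Cfsg.Statements.S0521
import Cfsg.Agent.KGroup.Invariant
import Cfsg.Agent.Solvable.CoprimeAct

set_option autoImplicit false
open Cfsg

namespace Cfsg.Agent.S0521

open Subgroup
open scoped commutatorElement

theorem pow_mem_frattini {G : Type*} [Group G] [Finite G] {p : ℕ} [Fact p.Prime]
    (hG : IsPGroup p G) (g : G) : g ^ p ∈ frattini G := by
  rw [frattini, Order.radical]
  simp only [Subgroup.mem_iInf]
  intro M hM
  haveI : Group.IsNilpotent G := hG.isNilpotent
  haveI : M.Normal :=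
    NormalizerCondition.normal_of_coatom M Group.normalizerCondition_of_isNilpotent hM
  have hdvd : p ∣ Nat.card (G ⧸ M) := (hG.to_quotient M).card_eq_or_dvd.resolve_left fun h => by
    rw [← index_eq_card, index_eq_one] at h
    exact hM.1 h
  obtain ⟨x, hx⟩ := exists_prime_orderOf_dvd_card' p hdvd
  have htop : zpowers x = ⊤ := by
    refine comap_injective (QuotientGroup.mk'_surjective M) ?_
    rw [comap_top]
    refine hM.2 _ (lt_of_le_of_ne ?_ fun h => ?_)
    · exact fun m hm => by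
        rw [mem_comap, show QuotientGroup.mk' M m = 1 from (QuotientGroup.eq_one_iff m).2 hm]
        exact one_mem _
    · obtain ⟨y, hy⟩ := QuotientGroup.mk'_surjective M x
      have : y ∈ M := h.symm.le (by rw [mem_comap, hy]; exact mem_zpowers x)
      rw [show QuotientGroup.mk' M y = 1 from (QuotientGroup.eq_one_iff y).2 this] at hy
      rw [← hy, orderOf_one] at hx
      exact (Fact.out : p.Prime).one_lt.ne hx
  refine (QuotientGroup.eq_one_iff _).1 ?_
  show QuotientGroup.mk' M (g ^ p) = 1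
  have hmem : QuotientGroup.mk' M g ∈ zpowers x := htop ▸ mem_top _
  rw [map_pow, ← orderOf_dvd_iff_pow_eq_one, ← hx]
  exact orderOf_dvd_of_mem_zpowers hmem

/-- The reduced case: no `p'`-core. -/
theorem sylow_le_pCore {X : Type*} [Group X] [Finite X] [Group.IsSolvable X]
    (hX : Odd (Nat.card X)) {p : ℕ} [Fact p.Prime] (hp : p ≠ 2)
    (hO : Cfsg.pPrimeCore p X = ⊥) (S : Sylow p X)
    (hS : IsCyclic ↥(⁅(S : Subgroup X), (S : Subgroup X)⁆ : Subgroup X)) :
    (S : Subgroup X) ≤ Cfsg.pCore p X := by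
  intro x hx
  set F := Cfsg.pCore p X
  have hF : IsPGroup p F := CfsgLib.Solvable.isPGroup_pCore p
  haveI hFn : F.Normal := (CfsgLib.Solvable.pCore_spec p).1
  have hFS : F ≤ (S : Subgroup X) :=
    CfsgLib.CharP.le_sylow_of_le_normalizer S hF le_normalizer_of_normal
  set Φ := (frattini F).map F.subtype
  haveI : Φ.Normal := inferInstance
  set f := QuotientGroup.mk' Φ
  set P := F.map f
  haveI : P.Normal := hFn.map f (QuotientGroup.mk'_surjective Φ)
  have hexp : ∀ u ∈ P, u ^ p = 1 := by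
    rintro _ ⟨w, hw, rfl⟩
    rw [← map_pow]
    exact (QuotientGroup.eq_one_iff _).2 ⟨⟨w, hw⟩ ^ p, pow_mem_frattini hF _, rfl⟩
  obtain ⟨⟨s, hs⟩, hgen⟩ := hS.exists_generator
  -- every commutator with `x` is a power of one element of order `p`
  have hline : ∀ u ∈ P, Commute (u * f x * u⁻¹ * (f x)⁻¹) (f x) := by
    intro u hu
    set c := u * f x * u⁻¹ * (f x)⁻¹ with hc
    have hcP : c ∈ P := by
      rw [hc, show u * f x * u⁻¹ * (f x)⁻¹ = u * (f x * u⁻¹ * (f x)⁻¹) by group]
      exact mul_mem hu ((inferInstance : P.Normal).conj_mem _ (inv_mem hu) _)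
    by_cases hc1 : c = 1
    · rw [hc1]; exact Commute.one_left _
    have hmemC : ∀ w ∈ (S : Subgroup X), ∀ y ∈ (S : Subgroup X), f (w * y * w⁻¹ * y⁻¹) ∈ zpowers (f s) := by
      intro w hw y hy
      obtain ⟨k, hk⟩ := hgen ⟨w * y * w⁻¹ * y⁻¹, commutator_mem_commutator hw hy⟩
      refine ⟨k, ?_⟩
      simp only
      rw [← map_zpow]
      exact congrArg f (congrArg Subtype.val hk)
    obtain ⟨w, hw, rfl⟩ := hu
    have hcC : c ∈ zpowers (f s) := by
      rw [hc, ← map_inv, ← map_inv, ← map_mul, ← map_mul, ← map_mul]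
      exact hmemC w (hFS hw) x hx
    have hc'C : f x * c * (f x)⁻¹ ∈ zpowers (f s) := by
      have e : f x * c * (f x)⁻¹ = f (x * (w * x * w⁻¹ * x⁻¹) * x⁻¹ * (w * x * w⁻¹ * x⁻¹)⁻¹) * c := by
        rw [hc]; simp only [map_mul, map_inv]; group
      rw [e]
      refine mul_mem (hmemC x hx _ ?_) hcC
      exact mul_mem (mul_mem (mul_mem (hFS hw) hx) (inv_mem (hFS hw))) (inv_mem hx)
    have hco : orderOf c = p := orderOf_eq_prime (hexp c hcP) hc1
    have hc'P : f x * c * (f x)⁻¹ ∈ P := (inferInstance : P.Normal).conj_mem _ hcP _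
    -- the only subgroup of order `p` of the cyclic group
    have hr : f x * c * (f x)⁻¹ ∈ zpowers c := by
      set Z : Subgroup (X ⧸ Φ) := zpowers (f s) ⊓ P
      have hZc : IsCyclic Z :=
        isCyclic_of_injective (inclusion (inf_le_left : Z ≤ zpowers (f s))) (inclusion_injective _)
      have hZ : Nat.card Z ≤ p := by
        obtain ⟨z, hz⟩ := hZc.exists_generator
        rw [← orderOf_eq_card_of_forall_mem_zpowers hz]
        exact Nat.le_of_dvd (Fact.out : p.Prime).pos
          (orderOf_dvd_of_pow_eq_one (Subtype.ext (by simpa using hexp _ z.2.2)))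
      have heq : zpowers c = Z := eq_of_le_of_card_ge (zpowers_le.2 ⟨hcC, hcP⟩)
        (by rw [Nat.card_zpowers, hco]; exact hZ)
      exact heq.symm ▸ ⟨hc'C, hc'P⟩
    obtain ⟨r, hr⟩ := mem_powers_iff_mem_zpowers.2 hr
    simp only at hr
    have hpow : ∀ k : ℕ, (f x) ^ k * c * ((f x) ^ k)⁻¹ = c ^ (r ^ k) := by
      intro k
      induction k with
      | zero => simp
      | succ k ih =>
        calc (f x) ^ (k + 1) * c * ((f x) ^ (k + 1))⁻¹
            = f x * ((f x) ^ k * c * ((f x) ^ k)⁻¹) * (f x)⁻¹ := by rw [pow_succ']; group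
          _ = c ^ (r ^ (k + 1)) := by rw [ih, ← conj_pow, ← hr, ← pow_mul, pow_succ']
    obtain ⟨k, hk⟩ := (S.2.map f) ⟨f x, mem_map_of_mem f hx⟩
    have hk' : (f x) ^ p ^ k = 1 := by simpa using congrArg Subtype.val hk
    have h1 : c ^ (r ^ p ^ k) = c ^ 1 := by rw [← hpow, hk', pow_one]; group
    rw [pow_eq_pow_iff_modEq, hco] at h1
    have h2 : ((r ^ p ^ k : ℕ) : ZMod p) = ((1 : ℕ) : ZMod p) :=
      (ZMod.natCast_eq_natCast_iff _ _ _).2 h1
    rw [Nat.cast_pow, ZMod.pow_card_pow] at h2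
    have h3 : c ^ r = c := by
      conv_rhs => rw [← pow_one c]
      rw [pow_eq_pow_iff_modEq, hco]
      exact (ZMod.natCast_eq_natCast_iff _ _ _).1 h2
    rw [h3] at hr
    exact (mul_inv_eq_iff_eq_mul.1 hr.symm).symm
  have hquad : ⁅⁅P, zpowers (f x)⁆, zpowers (f x)⁆ = ⊥ := by
    rw [commutator_eq_bot_iff_le_centralizer, commutator_le]
    rintro u hu _ ⟨k, rfl⟩
    have hc := hline u hu
    have e : ⁅u, f x ^ k⁆ = (u * f x * u⁻¹ * (f x)⁻¹) ^ k := by
      rw [commutatorElement_def, ← conj_zpow,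
        show u * f x * u⁻¹ = (u * f x * u⁻¹ * (f x)⁻¹) * f x by group, hc.mul_zpow]
      simp only [mul_inv_cancel_right, inv_mul_cancel_right]
    rw [e]
    refine zpow_mem (mem_centralizer_iff.2 ?_) k
    rintro _ ⟨l, rfl⟩
    exact ((hc.zpow_right l).eq).symm
  have hodd : Odd (Nat.card (X ⧸ Φ)) := hX.of_dvd_nat (card_quotient_dvd_card Φ)
  obtain ⟨D, hD, hxD, hDp⟩ := CfsgLib.ZJ.pcoreMod_of_quadratic hp
    (CfsgLib.Invariant.not_involves_qd_of_odd hodd hp) P (hF.map f) (f x) hquad
  refine CfsgLib.Solvable.le_pCore p (hD.comap f) ?_ (show x ∈ D.comap f from hxD)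
  rintro ⟨d, hd⟩
  obtain ⟨k, hk⟩ := hDp _ hd
  set e := d ^ p ^ k
  obtain ⟨j, m, hm, hjm⟩ := Nat.exists_eq_pow_mul_and_not_dvd (orderOf_pos e).ne' p
    (Fact.out : p.Prime).ne_one
  set y := e ^ p ^ j
  have hym : y ^ m = 1 := by rw [← pow_mul, ← hjm, pow_orderOf_eq_one]
  have hy : (Nat.card (zpowers y)).Coprime p := by
    rw [Nat.card_zpowers]
    exact (((Fact.out : p.Prime).coprime_iff_not_dvd.2 hm).symm).coprime_dvd_left
      (orderOf_dvd_of_pow_eq_one hym)
  have hyP : f y ∈ centralizer (P : Set (X ⧸ Φ)) := by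
    rw [map_pow, map_pow]
    exact pow_mem hk _
  have hyF : y ∈ centralizer (F : Set X) := by
    obtain ⟨l, hl⟩ := IsPGroup.iff_card.1 (hF.to_subgroup (frattini F))
    refine CfsgLib.CoprimeAct.trivial_on_frattini_quotient le_normalizer_of_normal
      (hl ▸ hy.pow_right l) ?_ (mem_zpowers y)
    rintro _ ⟨i, rfl⟩ u hu
    refine (QuotientGroup.eq_one_iff _).1 ?_
    show f (y ^ i * u * (y ^ i)⁻¹ * u⁻¹) = 1
    have hc : Commute (f y) (f u) := (mem_centralizer_iff.1 hyP _ (mem_map_of_mem f hu)).symm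
    simp only [map_mul, map_inv, map_zpow]
    rw [(hc.zpow_left i).eq]
    group
  have hy1 : y = 1 := CfsgLib.CharP.eq_one_of_mem_pgroup hF
    (CfsgLib.Fitting.centralizer_pCore_le hO hyF) (by rw [← Nat.card_zpowers]; exact hy)
  refine ⟨k + j, Subtype.ext ?_⟩
  show d ^ p ^ (k + j) = 1
  rw [pow_add, pow_mul]
  exact hy1

/-- Let X be a finite solvable group of odd order, p a prime and S a Sylow p-subgroup of X whose commutator subgroup is
cyclic. Then the product of the largest normal subgroup of X of order prime to p with S is a normal subgroup of X. -/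
theorem result {X : Type*} [Group X] [Finite X] [Group.IsSolvable X]
    (hX : Odd (Nat.card X)) (p : ℕ) [Fact p.Prime] (S : Sylow p X) (hS : IsCyclic (commutator (S : Subgroup X))) :
    (Cfsg.pPrimeCore p X ⊔ (S : Subgroup X)).Normal := by
  have hp := (Fact.out : p.Prime)
  set O := Cfsg.pPrimeCore p X
  haveI hOn : O.Normal := (CfsgLib.Solvable.pPrimeCore_spec p).1
  set f := QuotientGroup.mk' O
  have hsup : O ⊔ (S : Subgroup X) = ((S : Subgroup X).map f).comap f := by
    rw [comap_map_eq, QuotientGroup.ker_mk', sup_comm]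
  suffices h : ((S : Subgroup X).map f).Normal by rw [hsup]; exact h.comap f
  by_cases hp2 : p = 2
  · subst hp2
    have hbot : (S : Subgroup X) = ⊥ := by
      refine eq_bot_of_card_eq _ ?_
      obtain ⟨k, hk⟩ := IsPGroup.iff_card.1 S.2
      rcases Nat.eq_zero_or_pos k with rfl | hk0
      · simpa using hk
      · exfalso
        have : 2 ∣ Nat.card X := (hk ▸ dvd_pow_self 2 (by omega)).trans (card_subgroup_dvd_card _)
        exact (Nat.not_even_iff_odd.2 hX) (even_iff_two_dvd.2 this)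
    rw [hbot, Subgroup.map_bot]
    infer_instance
  have hcyc : IsCyclic ↥(⁅(S : Subgroup X).map f, (S : Subgroup X).map f⁆ : Subgroup (X ⧸ O)) := by
    haveI := hS
    rw [← map_commutator, ← map_subtype_commutator]
    exact isCyclic_of_surjective
      ((f.subgroupMap _).comp ((S : Subgroup X).subtype.subgroupMap (commutator (S : Subgroup X))))
      ((f.subgroupMap_surjective _).comp ((S : Subgroup X).subtype.subgroupMap_surjective _))
  have hle := sylow_le_pCore (X := X ⧸ O) (hX.of_dvd_nat (card_quotient_dvd_card O)) hp2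
    (CfsgLib.Fitting.pPrimeCore_quotient_eq_bot p) (S.mapSurjective (QuotientGroup.mk'_surjective O))
    hcyc
  have heq : (S : Subgroup X).map f = Cfsg.pCore p (X ⧸ O) := le_antisymm hle
    (CfsgLib.CharP.le_sylow_of_le_normalizer (S.mapSurjective (QuotientGroup.mk'_surjective O))
      (CfsgLib.Solvable.isPGroup_pCore p) le_normalizer_of_normal)
  rw [heq]
  exact (CfsgLib.Solvable.pCore_spec p).1

end Cfsg.Agent.S0521
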