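import Cfsg.Statements.S0522
import Cfsg.Agent.KGroup.Invariant
import Cfsg.Agent.Signalizer.Transitivity
import Cfsg.Agent.Signalizer.Local
import Cfsg.Agent.InvChar.UniqueInvolution

set_option autoImplicit false
open Cfsg
open CfsgLib.Signalizer

namespace Cfsg.Agent.S0522

open Subgroup
open scoped Pointwise

variable {X : Type*} [Group X] [Finite X] {p : ℕ} [Fact p.Prime]

/-- The `p`-subgroups centralizing `B` lie in `B`. -/
theorem le_of_le_centralizer (P : Sylow p X) {B : Subgroup X}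
    (hBn : ∀ x ∈ (P : Subgroup X), ∀ b ∈ B, x * b * x⁻¹ ∈ B)
    (hBc : (P : Subgroup X) ⊓ centralizer (B : Set X) = B)
    {U : Subgroup X} (hU : IsPGroup p U) (hUC : U ≤ centralizer (B : Set X)) : U ≤ B := by
  set N := normalizer (B : Set X)
  have hPN : (P : Subgroup X) ≤ N := CfsgLib.Signalizer.le_normalizer_of_conj_mem hBn
  have hUN : U ≤ N := hUC.trans (centralizer_le_normalizer _)
  obtain ⟨T, hT⟩ := (hU.comap_subtype (K := N)).exists_le_sylow
  obtain ⟨n, hn⟩ := MulAction.exists_smul_eq N T (P.subtype hPN)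
  intro u hu
  have h1 : MulAut.conj n • (⟨u, hUN hu⟩ : N) ∈ MulAut.conj n • (T : Subgroup N) :=
    smul_mem_pointwise_smul _ _ _ (hT (show u ∈ U from hu))
  rw [← Sylow.coe_subgroup_smul, hn, Sylow.coe_subtype, mem_subgroupOf] at h1
  have h1' : (n : X) * u * (n : X)⁻¹ ∈ (P : Subgroup X) := by simpa using h1
  have h2 : (n : X) * u * (n : X)⁻¹ ∈ centralizer (B : Set X) := by
    refine mem_centralizer_iff.2 fun b hb => ?_
    have hb' : (n : X)⁻¹ * b * n ∈ B := by
      simpa using (mem_normalizer_iff.1 (inv_mem n.2) b).1 hb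
    have := mem_centralizer_iff.1 (hUC hu) _ hb'
    calc b * ((n : X) * u * (n : X)⁻¹) = n * (((n : X)⁻¹ * b * n) * u) * (n : X)⁻¹ := by group
      _ = n * (u * ((n : X)⁻¹ * b * n)) * (n : X)⁻¹ := by rw [this]
      _ = _ := by group
  have h3 : (n : X) * u * (n : X)⁻¹ ∈ B := hBc.le ⟨h1', h2⟩
  exact (mem_normalizer_iff.1 n.2 u).2 h3

/-- The local lemma at an element of `B` whose centralizer has index at most `p` in `P`. -/
theorem inf_centralizer_le (hX : Odd (Nat.card X)) (hp : p ≠ 2) (P : Sylow p X) {B : Subgroup X}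
    (hBP : B ≤ (P : Subgroup X)) (hBn : ∀ x ∈ (P : Subgroup X), ∀ b ∈ B, x * b * x⁻¹ ∈ B)
    (hBa : ∀ x ∈ B, ∀ y ∈ B, x * y = y * x)
    (hBc : (P : Subgroup X) ⊓ centralizer (B : Set X) = B) {e : X} (he : e ∈ B)
    (hs : Group.IsSolvable ↥(centralizer ({e} : Set X)))
    (hidx : Nat.card (P : Subgroup X) ≤ Nat.card ↥((P : Subgroup X) ⊓ centralizer {e}) * p)
    {H : Subgroup X} (hBH : B ≤ normalizer (H : Set X)) (hH : (Nat.card H).Coprime p)
    (hHe : H ≤ centralizer {e}) : H ≤ Cfsg.centralizerPPrimeCore p e := by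
  set C := centralizer ({e} : Set X)
  set D := (P : Subgroup X) ⊓ C
  have hBC : B ≤ C := fun b hb => mem_centralizer_singleton_iff.2 (hBa b hb e he)
  have hBD : B ≤ D := le_inf hBP hBC
  obtain ⟨S, hS⟩ := ((P.2.to_le (inf_le_left : D ≤ _)).comap_subtype (K := C)).exists_le_sylow
  set S' := (S : Subgroup C).map C.subtype
  have hS'p : IsPGroup p S' := S.2.map _
  have hDS : D ≤ S' := fun d hd => ⟨⟨d, hd.2⟩, hS (show d ∈ D from hd), rfl⟩
  have hcardS : Nat.card S' ≤ Nat.card (P : Subgroup X) := by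
    obtain ⟨k, hk⟩ := IsPGroup.iff_card.1 hS'p
    rw [hk, P.card_eq_multiplicity]
    exact Nat.pow_le_pow_right (Fact.out : p.Prime).pos
      (((Fact.out : p.Prime).pow_dvd_iff_le_factorization Nat.card_pos.ne').1
        (hk ▸ card_subgroup_dvd_card S'))
  have hDn : (D.subgroupOf S').Normal := by
    have hmul := (D.subgroupOf S').card_mul_index
    rw [Nat.card_congr (subgroupOfEquivOfLe hDS).toEquiv] at hmul
    have hle : (D.subgroupOf S').index ≤ p :=
      Nat.le_of_mul_le_mul_left (hmul.le.trans (hcardS.trans hidx)) Nat.card_pos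
    obtain ⟨k, hk⟩ := IsPGroup.iff_card.1 hS'p
    obtain ⟨j, hjk, hj⟩ := (Nat.dvd_prime_pow (Fact.out : p.Prime)).1
      (hk ▸ (D.subgroupOf S').index_dvd_card)
    rcases Nat.lt_or_ge j 1 with hj0 | hj1
    · obtain rfl : j = 0 := by omega
      rw [index_eq_one.1 (hj.trans (pow_zero p))]
      infer_instance
    · have h1 : p ^ j ≤ p ^ 1 := by rw [← hj, pow_one]; exact hle
      obtain rfl : j = 1 := le_antisymm ((Nat.pow_le_pow_iff_right (Fact.out : p.Prime).one_lt).1 h1) hj1
      refine normal_of_index_eq_minFac_card ?_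
      rw [hj, hk, pow_one, Nat.Prime.pow_minFac (Fact.out) (by omega)]
  have hmain := CfsgLib.Invariant.le_pPrimeCore (G := C) (hX.of_dvd_nat (card_subgroup_dvd_card C))
    hp S (B := B.subgroupOf C) (H := H.subgroupOf C)
    (fun b hb => hS (hBD (show (b : X) ∈ B from hb)))
    (fun x hx y hy => Subtype.ext (hBa x hx y hy))
    (fun b hb => mem_normalizer_iff.2 fun h => mem_normalizer_iff.1 (hBH hb) h)
    (hH.coprime_dvd_left (Nat.card_congr (subgroupOfEquivOfLe hHe).toEquiv).dvd)
    (fun x hx => ?_) (fun x hx b hb => ?_)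
  · intro h hh
    exact ⟨⟨h, hHe hh⟩, hmain hh, rfl⟩
  · refine le_of_le_centralizer P hBn hBc (U := zpowers (x : X)) ?_ ?_ (mem_zpowers _)
    · exact hS'p.to_le (zpowers_le.2 ⟨x, hx.1, rfl⟩)
    · refine zpowers_le.2 (mem_centralizer_iff.2 fun b hb => ?_)
      exact congrArg Subtype.val (mem_centralizer_iff.1 hx.2 ⟨b, hBC hb⟩ hb)
  · set y : S' := ⟨(x : X), ⟨x, hx, rfl⟩⟩
    set c : S' := ⟨(b : X), hDS (hBD hb)⟩
    have h1 : y * c * y⁻¹ * c⁻¹ ∈ D.subgroupOf S' :=
      mul_mem (hDn.conj_mem c (hBD (show (b : X) ∈ B from hb)) y)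
        (inv_mem (hBD (show (b : X) ∈ B from hb)))
    have h2 : (x : X) * b * (x : X)⁻¹ * (b : X)⁻¹ ∈ D := h1
    exact mul_mem (hBn _ h2.1 _ hb) (inv_mem (show (b : X) ∈ B from hb))

/-- Transitivity Theorem (odd-order setting). Let X be a finite group of odd order in which the normalizer of every
nontrivial p-subgroup is solvable, P a Sylow p-subgroup, and B an abelian subgroup of P, normalized by P, with
C_P(B) = B and containing an elementary abelian subgroup of order p^3. Then for every prime q ≠ p, any two q-subgroups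
that are maximal among the q-subgroups normalized by B are conjugate by an element of the centralizer of B. -/
theorem result {X : Type*} [Group X] [Finite X] (hX : Odd (Nat.card X)) (p : ℕ)
    [Fact p.Prime] (hloc : ∀ T : Subgroup X, IsPGroup p T → T ≠ ⊥ → Group.IsSolvable (Subgroup.normalizer (T : Set X)))
    (P : Sylow p X) (B : Subgroup X) (hBP : B ≤ (P : Subgroup X))
    (hBn : ∀ x ∈ (P : Subgroup X), ∀ b ∈ B, x * b * x⁻¹ ∈ B) (hBa : IsMulCommutative B)
    (hBc : (P : Subgroup X) ⊓ Subgroup.centralizer (B : Set X) = B)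
    (hB3 : ∃ E : Subgroup X, E ≤ B ∧ (∀ e ∈ E, e ^ p = 1) ∧ p ^ 3 ≤ Nat.card E)
    (q : ℕ) [Fact q.Prime] (hqp : q ≠ p) (Q₁ Q₂ : Subgroup X)
    (h₁ : IsPGroup q Q₁ ∧ B ≤ Subgroup.normalizer (Q₁ : Set X) ∧
      ∀ R : Subgroup X, IsPGroup q R → B ≤ Subgroup.normalizer (R : Set X) → Q₁ ≤ R → R = Q₁)
    (h₂ : IsPGroup q Q₂ ∧ B ≤ Subgroup.normalizer (Q₂ : Set X) ∧
      ∀ R : Subgroup X, IsPGroup q R → B ≤ Subgroup.normalizer (R : Set X) → Q₂ ≤ R → R = Q₂) :
    ∃ c ∈ Subgroup.centralizer (B : Set X), Q₂ = Q₁.map (MulAut.conj c).toMonoidHom := by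

  have hp := (Fact.out : p.Prime)
  have hq := (Fact.out : q.Prime)
  have hBc' : ∀ x ∈ B, ∀ y ∈ B, x * y = y * x := fun x hx y hy => setLike_mul_comm hx hy
  let A : Subgroup X :=
    { carrier := {x | x ∈ B ∧ x ^ p = 1}
      one_mem' := ⟨one_mem B, one_pow p⟩
      mul_mem' := fun {a b} ha hb => ⟨mul_mem ha.1 hb.1, by
        rw [(show Commute a b from hBc' a ha.1 b hb.1).mul_pow, ha.2, hb.2, one_mul]⟩
      inv_mem' := fun {a} ha => ⟨inv_mem ha.1, by rw [inv_pow, ha.2, inv_one]⟩ }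
  have hAB : A ≤ B := fun x hx => hx.1
  have hA : Cfsg.IsElementaryAbelian p A :=
    ⟨⟨⟨fun x y => Subtype.ext (hBc' x (hAB x.2) y (hAB y.2))⟩⟩, fun a ha => ha.2⟩
  have hA3 : p ^ 3 ≤ Nat.card A := by
    obtain ⟨E, hEB, hE, hE3⟩ := hB3
    exact hE3.trans (card_le_of_le fun e he => ⟨hEB he, hE e he⟩)
  have hA1 : A ≠ ⊥ := by
    intro h
    rw [h, card_bot] at hA3
    have := one_lt_pow₀ hp.one_lt (show (3 : ℕ) ≠ 0 by norm_num)
    omega
  have hp2 : p ≠ 2 := by
    rintro rfl
    obtain ⟨k, hk⟩ := IsPGroup.iff_card.1 (CfsgLib.Signalizer.isPGroup hA)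
    have hd : 2 ∣ Nat.card X := by
      refine dvd_trans ?_ (card_subgroup_dvd_card A)
      rw [hk]
      refine dvd_pow_self 2 fun h => ?_
      rw [hk, h] at hA3
      norm_num at hA3
    exact (Nat.not_even_iff_odd.2 hX) (even_iff_two_dvd.2 hd)
  have hsolv : ∀ a ∈ A, a ≠ 1 → Group.IsSolvable ↥(centralizer ({a} : Set X)) := by
    intro a ha ha1
    have h := hloc (zpowers a) ((CfsgLib.Signalizer.isPGroup hA).to_le (zpowers_le.2 ha))
      (fun h => ha1 (zpowers_eq_bot.1 h))
    have hle : centralizer ({a} : Set X) ≤ normalizer (zpowers a : Set X) := by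
      rw [← centralizer_closure, ← zpowers_eq_closure]
      exact centralizer_le_normalizer _
    exact Group.isSolvable_of_isSolvable_injective (inclusion_injective hle)
  set θ : X → Subgroup X := fun a => Cfsg.centralizerPPrimeCore p a with hθdef
  have hθ : Cfsg.IsSolvableSignalizerFunctor p A θ := by
    refine ⟨⟨fun a _ _ => mem_centralizerPPrimeCore_le, fun a _ _ => ?_, fun a ha _ => ?_,
      fun a ha _ b hb hb1 => ?_⟩, fun a ha ha1 => ?_⟩
    · exact fun h => hp.ne_one
        (Nat.eq_one_of_dvd_coprimes (coprime_card_centralizerPPrimeCore (p := p) a) h dvd_rfl)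
    · exact conj_mem_of_le_normalizer ((le_centralizer_singleton hA ha).trans
        (centralizer_le_normalizer_centralizerPPrimeCore a))
    · exact centralizerPPrimeCore_inf_le (hA.2 a ha) (CfsgLib.Signalizer.commute hA ha hb) (hsolv b hb hb1)
    · haveI := hsolv a ha ha1
      exact Group.isSolvable_of_isSolvable_injective
        (f := inclusion (mem_centralizerPPrimeCore_le (p := p) (x := a))) (inclusion_injective _)
  -- a normal subgroup of `P` of order `p²` inside `A`
  obtain ⟨E, hEA, hE2, hEidx⟩ : ∃ E : Subgroup X, E ≤ A ∧ p ^ 2 ≤ Nat.card E ∧ ∀ e ∈ E,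
      Nat.card (P : Subgroup X) ≤ Nat.card ↥((P : Subgroup X) ⊓ centralizer {e}) * p := by
    set A' := A.subgroupOf (P : Subgroup X)
    have hA'n : A'.Normal := ⟨fun a ha x => ⟨hBn x x.2 a ha.1, by
      show ((x : X) * a * (x : X)⁻¹) ^ p = 1
      rw [conj_pow, show (a : X) ^ p = 1 from ha.2]
      group⟩⟩
    have hA'1 : A' ≠ ⊥ := by
      intro h
      refine hA1 ?_
      rw [← map_subgroupOf_eq_of_le (hAB.trans hBP), show A.subgroupOf (P : Subgroup X) = ⊥ from h,
        Subgroup.map_bot]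
    obtain ⟨z, hzA, hz1, hzc⟩ := CfsgLib.UniqueInvol.exists_central P.2 A' hA'1
    have hZn : (zpowers z).Normal := ⟨fun w hw g => by
      have : g * w * g⁻¹ = w := by
        rw [← (mem_center_iff.1 (zpowers_le.2 hzc hw) g).symm]; group
      rwa [this]⟩
    have hzo : orderOf (z : X) = p := orderOf_eq_prime hzA.2 (fun h => hz1 (Subtype.ext h))
    set f := QuotientGroup.mk' (zpowers z)
    haveI : (A'.map f).Normal := hA'n.map f (QuotientGroup.mk'_surjective _)
    have hA'ne : A'.map f ≠ ⊥ := by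
      intro h
      rw [Subgroup.map_eq_bot_iff, QuotientGroup.ker_mk'] at h
      have := card_le_of_le h
      rw [Nat.card_congr (subgroupOfEquivOfLe (hAB.trans hBP)).toEquiv, Nat.card_zpowers,
        ← orderOf_coe, hzo] at this
      have h1 : p ^ 1 < p ^ 3 := Nat.pow_lt_pow_right hp.one_lt (by norm_num)
      rw [pow_one] at h1
      omega
    obtain ⟨c, ⟨y, hyA, rfl⟩, hy1, hyc⟩ :=
      CfsgLib.UniqueInvol.exists_central (P.2.to_quotient (zpowers z)) (A'.map f) hA'ne
    have hyz : y ∉ zpowers z := fun h => hy1 ((QuotientGroup.eq_one_iff y).2 h)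
    set E := zpowers (z : X) ⊔ zpowers (y : X)
    have hzA' : (z : X) ∈ A := hzA
    have hyA' : (y : X) ∈ A := hyA
    have hEA : E ≤ A := sup_le (zpowers_le.2 hzA') (zpowers_le.2 hyA')
    have hcom : ∀ x : (P : Subgroup X), ∀ e ∈ E,
        (x : X) * e * (x : X)⁻¹ * e⁻¹ ∈ zpowers (z : X) := by
      intro x e he
      obtain ⟨u, hu, v, hv, rfl⟩ : ∃ u ∈ zpowers (z : X), ∃ v ∈ zpowers (y : X), u * v = e := by
        have hn : zpowers (y : X) ≤ normalizer (zpowers (z : X) : Set X) :=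
          (zpowers_le.2 (mem_centralizer_singleton_iff.2
            (CfsgLib.Signalizer.commute hA hyA' hzA'))).trans
            (by rw [← centralizer_closure, ← zpowers_eq_closure]; exact centralizer_le_normalizer _)
        have := he
        rwa [← SetLike.mem_coe, coe_mul_of_right_le_normalizer_left _ _ hn, Set.mem_mul] at this
      obtain ⟨i, rfl⟩ := hu
      obtain ⟨j, rfl⟩ := hv
      have hxz : (x : X) * (z : X) * (x : X)⁻¹ = z :=
        mul_inv_eq_iff_eq_mul.2 (congrArg Subtype.val (mem_center_iff.1 hzc x))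
      have hxy : (x : X) * (y : X) * (x : X)⁻¹ * (y : X)⁻¹ ∈ zpowers (z : X) := by
        have h := mem_center_iff.1 hyc (f x)
        have h' : f (x * y * x⁻¹ * y⁻¹) = 1 := by
          simp only [map_mul, map_inv, h]; group
        obtain ⟨k, hk⟩ := (QuotientGroup.eq_one_iff _).1 h'
        exact ⟨k, by simpa using congrArg Subtype.val hk⟩
      obtain ⟨k, hk⟩ := hxy
      simp only at hk ⊢
      have hy' : (x : X) * (y : X) * (x : X)⁻¹ = (z : X) ^ k * y := by rw [hk]; group
      have hzy : Commute ((z : X) ^ k) (y : X) :=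
        (show Commute (z : X) y from CfsgLib.Signalizer.commute hA hzA' hyA').zpow_left k
      refine ⟨k * j, ?_⟩
      simp only
      calc (z : X) ^ (k * j) = (z : X) ^ i * (((z : X) ^ k) ^ j * (y : X) ^ j) * ((z : X) ^ i * (y : X) ^ j)⁻¹ := by
            rw [← zpow_mul, mul_inv_rev]
            simp only [mul_assoc, mul_inv_cancel_left]
            rw [← zpow_neg, ← zpow_add, ← zpow_add]
            congr 1
            ring
        _ = ((x : X) * (z : X) * (x : X)⁻¹) ^ i * ((x : X) * (y : X) * (x : X)⁻¹) ^ j *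
              ((z : X) ^ i * (y : X) ^ j)⁻¹ := by rw [hxz, hy', hzy.mul_zpow]
        _ = _ := by rw [conj_zpow, conj_zpow]; group
    refine ⟨E, hEA, ?_, fun e he => ?_⟩
    · have hz' : zpowers (z : X) < E := by
        refine lt_of_le_of_ne le_sup_left fun h => hyz ?_
        obtain ⟨k, hk⟩ := (h ▸ mem_sup_right (mem_zpowers (y : X)) : (y : X) ∈ zpowers (z : X))
        exact ⟨k, Subtype.ext (by simpa using hk)⟩
      have h1 := CfsgLib.Solvable.card_lt_of_lt hz'
      obtain ⟨k, hk⟩ := IsPGroup.iff_card.1 ((CfsgLib.Signalizer.isPGroup hA).to_le hEA)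
      rw [Nat.card_zpowers, hzo, hk] at h1
      have : 2 ≤ k := by
        by_contra hc
        have : p ^ k ≤ p ^ 1 := Nat.pow_le_pow_right hp.pos (by omega)
        rw [pow_one] at this
        omega
      rw [hk]
      exact Nat.pow_le_pow_right hp.pos this
    · let φ : (P : Subgroup X) →* zpowers (z : X) :=
        MonoidHom.mk' (fun x => ⟨_, hcom x e he⟩) fun a b => Subtype.ext (by
          obtain ⟨k, hk⟩ := hcom b e he
          simp only at hk
          have hc : Commute (a : X) ((z : X) ^ k) :=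
            ((show Commute (a : X) (z : X) from
              congrArg Subtype.val (mem_center_iff.1 hzc a)).zpow_right k)
          show ((a : X) * b) * e * ((a : X) * b)⁻¹ * e⁻¹ =
            ((a : X) * e * (a : X)⁻¹ * e⁻¹) * ((b : X) * e * (b : X)⁻¹ * e⁻¹)
          rw [← hk]
          have hb : (b : X) * e * (b : X)⁻¹ = (z : X) ^ k * e := by rw [hk]; group
          have hcz : Commute ((z : X) ^ k) ((a : X) * e * (a : X)⁻¹ * e⁻¹) := by
            obtain ⟨l, hl⟩ := hcom a e he
            simp only at hl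
            rw [← hl]
            exact Commute.zpow_zpow_self _ _ _
          calc (a : X) * b * e * ((a : X) * b)⁻¹ * e⁻¹
              = (a : X) * ((b : X) * e * (b : X)⁻¹) * (a : X)⁻¹ * e⁻¹ := by group
            _ = ((a : X) * (z : X) ^ k) * e * (a : X)⁻¹ * e⁻¹ := by rw [hb]; group
            _ = (z : X) ^ k * ((a : X) * e * (a : X)⁻¹ * e⁻¹) := by rw [hc.eq]; group
            _ = _ := hcz.eq)
      have h1 : Nat.card φ.range ≤ p := by
        refine (card_le_of_le (le_top : φ.range ≤ ⊤)).trans ?_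
        rw [card_top, Nat.card_zpowers, hzo]
      have h2 : Nat.card φ.ker ≤ Nat.card ↥((P : Subgroup X) ⊓ centralizer {e}) := by
        rw [← card_map_of_injective (P : Subgroup X).subtype_injective]
        refine card_le_of_le ?_
        rintro _ ⟨x, hx, rfl⟩
        refine ⟨x.2, mem_centralizer_singleton_iff.2 ?_⟩
        have := congrArg Subtype.val (show φ x = 1 from hx)
        exact mul_inv_eq_iff_eq_mul.1 (mul_inv_eq_one.1 this)
      calc Nat.card (P : Subgroup X) = Nat.card φ.ker * Nat.card φ.range := by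
            rw [← index_ker, card_mul_index]
        _ ≤ _ := Nat.mul_le_mul h2 h1
  -- `B`-invariant `p'`-subgroups
  have key : ∀ H : Subgroup X, (Nat.card H).Coprime p → B ≤ normalizer (H : Set X) →
      ∀ a ∈ A, a ≠ 1 → H ⊓ centralizer {a} ≤ θ a := by
    intro H hH hBH a ha ha1
    have hBa' : ∀ a ∈ A, B ≤ centralizer ({a} : Set X) := fun a ha b hb =>
      mem_centralizer_singleton_iff.2 (hBc' b hb a (hAB ha))
    have hBY : B ≤ normalizer ((H ⊓ centralizer {a} : Subgroup X) : Set X) :=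
      (le_inf hBH ((hBa' a ha).trans le_normalizer)).trans inf_normalizer_le_normalizer_inf
    have hcop : (Nat.card ↥(H ⊓ centralizer {a})).Coprime p :=
      hH.coprime_dvd_left (card_dvd_of_le inf_le_left)
    refine le_of_forall_centralizer hA hEA hE2 ((hEA.trans hAB).trans hBY)
      (fun h => hp.ne_one (Nat.eq_one_of_dvd_coprimes hcop h dvd_rfl)) fun e he he1 => ?_
    have heA := hEA he
    refine le_trans (le_inf ?_ (inf_le_left.trans inf_le_right))
      (centralizerPPrimeCore_inf_le (hA.2 e heA) (CfsgLib.Signalizer.commute hA heA ha) (hsolv a ha ha1))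
    exact inf_centralizer_le hX hp2 P hBP hBn hBc' hBc (hAB heA) (hsolv e heA he1) (hEidx e he)
      ((le_inf hBY ((hBa' e heA).trans le_normalizer)).trans inf_normalizer_le_normalizer_inf)
      (hcop.coprime_dvd_left (card_dvd_of_le inf_le_left)) inf_le_right
  have hcopq : ∀ {R : Subgroup X}, IsPGroup q R → (Nat.card R).Coprime p := by
    intro R hR
    obtain ⟨k, hk⟩ := IsPGroup.iff_card.1 hR
    rw [hk]
    exact ((Nat.coprime_primes hq hp).2 hqp).pow_left k
  have hfam : ∀ R : Subgroup X, IsPGroup q R → B ≤ normalizer (R : Set X) →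
      R ∈ Cfsg.signalizerFamily p A θ := by
    intro R hR hBR
    haveI := hR.isNilpotent
    exact ⟨inferInstance, fun h => hp.ne_one (Nat.eq_one_of_dvd_coprimes (hcopq hR) h dvd_rfl),
      conj_mem_of_le_normalizer (hAB.trans hBR), key R (hcopq hR) hBR⟩
  have hBp : IsPGroup p B := P.2.to_le hBP
  have hBθ : ∀ a ∈ A, B ≤ normalizer (θ a : Set X) := fun a ha => by
    have h : B ≤ centralizer ({a} : Set X) :=
      fun b hb => mem_centralizer_singleton_iff.2 (hBc' b hb a (hAB ha))
    exact h.trans (centralizer_le_normalizer_centralizerPPrimeCore a)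
  have hmax : ∀ Q : Subgroup X, IsPGroup q Q → B ≤ normalizer (Q : Set X) →
      (∀ R : Subgroup X, IsPGroup q R → B ≤ normalizer (R : Set X) → Q ≤ R → R = Q) →
      IsMaxMember p A θ q Q := by
    intro Q hQ hBQ hQm
    refine ⟨hfam Q hQ hBQ, hQ, fun R hR hRq hQR => ?_⟩
    by_contra hne
    obtain ⟨x, hxR, hxQ, hxN⟩ :=
      CfsgLib.CharP.exists_mem_normalizer_notMem hRq (lt_of_le_of_ne hQR (Ne.symm hne))
    set N := normalizer (Q : Set X)
    have hAY : A ≤ normalizer ((N ⊓ R : Subgroup X) : Set X) :=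
      (le_inf ((hAB.trans hBQ).trans le_normalizer) (family_le_normalizer hR)).trans
        inf_normalizer_le_normalizer_inf
    obtain ⟨a, ha, ha1, hnle⟩ : ∃ a ∈ A, a ≠ 1 ∧ ¬ N ⊓ R ⊓ centralizer {a} ≤ Q := by
      by_contra hcon
      push Not at hcon
      exact hxQ (le_of_forall_centralizer hA le_rfl
        ((Nat.pow_le_pow_right hp.pos (by norm_num)).trans hA3) hAY
        (fun h => hR.2.1 (h.trans (card_dvd_of_le inf_le_right))) hcon ⟨hxN, hxR⟩)
    set L := θ a ⊓ N
    have hBL : B ≤ normalizer (L : Set X) :=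
      (le_inf (hBθ a ha) (hBQ.trans le_normalizer)).trans inf_normalizer_le_normalizer_inf
    have hK : Q ⊔ L ∈ Cfsg.signalizerFamily p A θ :=
      sup_mem_family hA (hfam Q hQ hBQ) (family_of_le (theta_mem hθ ha ha1) inf_le_left
        (hAB.trans hBL)) inf_le_right
    have hBK : B ≤ normalizer ((Q ⊔ L : Subgroup X) : Set X) :=
      (le_inf hBQ hBL).trans (normalizer_inf_normalizer_le_normalizer_sup _ _)
    obtain ⟨j, hj⟩ := IsPGroup.iff_card.1 hBp
    haveI := hBp.isNilpotent
    obtain ⟨S, hQS, hBS⟩ := CfsgLib.CoprimeAct.exists_invariant_sylow_ge hBK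
      (hj ▸ ((hp.coprime_iff_not_dvd.2 hK.2.1).pow_left j)) (Or.inl inferInstance) q
      (le_sup_left : Q ≤ Q ⊔ L) hQ hBQ
    have hS := hQm _ (S.2.map _) hBS hQS
    set U := Q ⊔ N ⊓ R ⊓ centralizer {a}
    have hUR : U ≤ R := sup_le hQR (inf_le_left.trans inf_le_right)
    have hCL : N ⊓ R ⊓ centralizer {a} ≤ L := le_inf
      ((inf_le_inf_right _ inf_le_right).trans (hR.2.2.2 a ha ha1)) (inf_le_left.trans inf_le_left)
    have hUK : U ≤ Q ⊔ L := sup_le_sup_left hCL Q
    have hSU : (S : Subgroup ↥(Q ⊔ L)) ≤ U.subgroupOf (Q ⊔ L) := fun w hw =>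
      (le_sup_left : Q ≤ U) (hS.le (mem_map_of_mem _ hw))
    have hUeq := S.3 ((hRq.to_le hUR).comap_subtype) hSU
    have : U ≤ Q := by
      exact ((map_subgroupOf_eq_of_le hUK).symm.trans ((congrArg _ hUeq).trans hS)).le
    exact hnle (le_sup_right.trans this)
  obtain ⟨c, hc, hcQ⟩ := transitivity hA hθ hA3 (hmax Q₁ h₁.1 h₁.2.1 h₁.2.2)
    (hmax Q₂ h₂.1 h₂.2.1 h₂.2.2)
  set M := Cfsg.signalizerInf A θ
  have hM := signalizerInf_mem hθ (le_refl A) hA1
  have hBM : B ≤ normalizer (M : Set X) := le_normalizer_of_conj_mem fun b hb u hu => by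
    simp only [M, Cfsg.signalizerInf, mem_iInf] at hu ⊢
    exact fun d => (mem_normalizer_iff.1 (hBθ d d.2.1 hb) u).1 (hu d)
  obtain ⟨j, hj⟩ := IsPGroup.iff_card.1 hBp
  haveI := hBp.isNilpotent
  obtain ⟨d, hd, hdc⟩ := CfsgLib.Coprime.exists_commute_mem_coset B (M ⊓ normalizer (Q₁ : Set X))
    ((le_inf hBM (h₁.2.1.trans le_normalizer)).trans inf_normalizer_le_normalizer_inf)
    (hj ▸ ((hp.coprime_iff_not_dvd.2 fun h => hM.2.1 (h.trans (card_dvd_of_le inf_le_left))).pow_left j))
    c (fun b hb => by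
      have hbM : b * c * b⁻¹ ∈ M := (mem_normalizer_iff.1 (hBM hb) c).1 hc
      refine mem_inf.2 ⟨M.mul_mem (M.inv_mem hc) hbM, ?_⟩
      rw [← CfsgLib.SZ.conj_smul_eq_iff_mem_normalizer, map_mul, mul_smul, map_inv, inv_smul_eq_iff,
        map_mul, map_mul, mul_smul, mul_smul, map_inv]
      have e1 : (MulAut.conj b)⁻¹ • Q₁ = Q₁ :=
        inv_smul_eq_iff.2 (CfsgLib.SZ.conj_smul_eq_iff_mem_normalizer.2 (h₁.2.1 hb)).symm
      rw [e1]
      show MulAut.conj b • Q₁.map (MulAut.conj c).toMonoidHom = Q₁.map (MulAut.conj c).toMonoidHom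
      rw [hcQ, CfsgLib.SZ.conj_smul_eq_iff_mem_normalizer.2 (h₂.2.1 hb)])
  refine ⟨d, mem_centralizer_iff.2 hd, ?_⟩
  rw [← hcQ]
  show MulAut.conj c • Q₁ = MulAut.conj d • Q₁
  have h := CfsgLib.SZ.conj_smul_eq_iff_mem_normalizer.2 hdc.2
  rw [map_mul, mul_smul, map_inv, inv_smul_eq_iff] at h
  exact h.symm

end Cfsg.Agent.S0522
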