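import Cfsg.Statements.S0530
import Cfsg.Agent.Solvable.Huppert

set_option autoImplicit false
set_option linter.deprecated false
set_option linter.style.haveILetI false
set_option linter.unusedVariables false
open Cfsg
open scoped Pointwise

namespace Cfsg.Agent.S0530

/-- A finite group whose order is twice a prime power is supersolvable. -/
theorem result {G : Type*} [Group G] [Finite G] (p n : ℕ) (hp : p.Prime) (hG : Nat.card G = 2 * p ^ n) : Cfsg.IsSupersolvable G := by
  haveI := Fact.mk hp
  rcases eq_or_ne p 2 with rfl | hp2
  · exact CfsgLib.Huppert.of_pGroup_aux 2 _ G rfl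
      (IsPGroup.of_card (n := n + 1) (by rw [hG, pow_succ, mul_comm]))
  · exact CfsgLib.Huppert.two_mul_prime_pow_aux hp hp2 n G hG


end Cfsg.Agent.S0530
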