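import Cfsg.Statements.S0547
import Cfsg.Agent.Solvable.Basics
import Cfsg.Agent.Perm.Basic

set_option autoImplicit false
set_option linter.deprecated false
set_option linter.style.haveILetI false
set_option linter.unusedVariables false
open Cfsg
open scoped Pointwise

namespace Cfsg.Agent.S0547

/-- Let a finite solvable group G act faithfully and primitively on a set, and let M be a minimal normal subgroup of G. Then M is transitive with trivial point stabilizers, and the number of points equals the order of M, which is a prime power p ^ d with d ≥ 1. -/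
theorem result {G : Type*} [Group G] [Finite G] [Group.IsSolvable G] {Ω : Type*} [Nonempty Ω] [MulAction G Ω] [FaithfulSMul G Ω] (hprim : MulAction.IsPreprimitive G Ω) (M : Subgroup G) [M.Normal] (hM : M ≠ ⊥) (hmin : ∀ K : Subgroup G, K.Normal → K ≤ M → K = ⊥ ∨ K = M) : MulAction.IsPretransitive M Ω ∧ (∀ ω : Ω, MulAction.stabilizer M ω = ⊥) ∧ ∃ p d : ℕ, p.Prime ∧ 0 < d ∧ Nat.card Ω = p ^ d ∧ Nat.card M = p ^ d := by
  obtain ⟨ω₀⟩ := (inferInstance : Nonempty Ω)
  have htr := CfsgLib.PermBasic.isPretransitive_of_normal (α := Ω) M hM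
  obtain ⟨hab, p, hp, -, hpg⟩ := CfsgLib.Solvable.minimal_normal_elementary hM hmin inferInstance
  have : Fact p.Prime := ⟨hp⟩
  have hle : M ≤ Subgroup.centralizer (M : Set G) := Subgroup.le_centralizer M
  have hreg : ∀ ω : Ω, MulAction.stabilizer M ω = ⊥ :=
    fun ω => CfsgLib.PermBasic.semiregular_of_le_centralizer M M hle ω
  have hcard := CfsgLib.PermBasic.card_eq_of_regular M ω₀ (hreg ω₀)
  have : Nontrivial M := (Subgroup.nontrivial_iff_ne_bot M).2 hM
  obtain ⟨d, hd, hcd⟩ := hpg.nontrivial_iff_card.1 ‹_›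
  exact ⟨htr, hreg, p, d, hp, hd, hcard ▸ hcd, hcd⟩


end Cfsg.Agent.S0547
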