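import Cfsg.Statements.S0548
import Cfsg.Agent.Solvable.Basics
import Cfsg.Agent.Perm.Basic

set_option autoImplicit false
set_option linter.deprecated false
set_option linter.style.haveILetI false
set_option linter.unusedVariables false
open Cfsg
open scoped Pointwise

namespace Cfsg.Agent.S0548

/-- Let a finite solvable group G act faithfully and primitively on a set, let M be a minimal normal subgroup and H the stabilizer of a point. Then H is a complement to M, no non-identity element of H centralizes M, and the only subgroups of M normalized by H are the trivial subgroup and M. -/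
theorem result {G : Type*} [Group G] [Finite G] [Group.IsSolvable G] {Ω : Type*} [MulAction G Ω] [FaithfulSMul G Ω] (hprim : MulAction.IsPreprimitive G Ω) (M : Subgroup G) [M.Normal] (hM : M ≠ ⊥) (hmin : ∀ K : Subgroup G, K.Normal → K ≤ M → K = ⊥ ∨ K = M) (ω : Ω) : Subgroup.IsComplement' M (MulAction.stabilizer G ω) ∧ MulAction.stabilizer G ω ⊓ Subgroup.centralizer (M : Set G) = ⊥ ∧ ∀ K : Subgroup G, K ≤ M → MulAction.stabilizer G ω ≤ Subgroup.normalizer (K : Set G) → K = ⊥ ∨ K = M := by
  have htr := CfsgLib.PermBasic.isPretransitive_of_normal (α := Ω) M hM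
  obtain ⟨hab, -⟩ := CfsgLib.Solvable.minimal_normal_elementary hM hmin inferInstance
  have hle : M ≤ Subgroup.centralizer (M : Set G) := Subgroup.le_centralizer M
  have hreg := CfsgLib.PermBasic.semiregular_of_le_centralizer (α := Ω) M M hle ω
  have hC : MulAction.stabilizer G ω ⊓ Subgroup.centralizer (M : Set G) = ⊥ := by
    rw [eq_bot_iff]
    rintro c ⟨hcω, hc⟩
    rw [Subgroup.mem_bot]
    exact CfsgLib.PermBasic.eq_one_of_commute_of_fix M
      (fun t ht => Subgroup.mem_centralizer_iff.1 hc t ht) (MulAction.mem_stabilizer_iff.1 hcω)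
  have hdis : M ⊓ MulAction.stabilizer G ω = ⊥ := by
    rw [eq_bot_iff, ← hC]
    exact le_inf inf_le_right (inf_le_left.trans hle)
  have htop : M ⊔ MulAction.stabilizer G ω = ⊤ := by
    rw [eq_top_iff]
    intro g _
    obtain ⟨⟨m, hm⟩, hmω⟩ := MulAction.exists_smul_eq M ω (g • ω)
    have hmω' : m • ω = g • ω := hmω
    have : g = m * (m⁻¹ * g) := by group
    rw [this]
    refine Subgroup.mul_mem_sup hm ?_
    rw [MulAction.mem_stabilizer_iff, mul_smul, ← hmω', inv_smul_smul]
  refine ⟨Subgroup.isComplement'_of_disjoint_and_mul_eq_univ (disjoint_iff.2 hdis)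
    (by rw [← Subgroup.normal_mul, htop]; rfl), hC, fun K hK hKn => hmin K ?_ hK⟩
  rw [← Subgroup.normalizer_eq_top_iff, eq_top_iff, ← htop, sup_le_iff]
  refine ⟨hle.trans (le_trans ?_ (Subgroup.centralizer_le_normalizer _)), hKn⟩
  exact Subgroup.centralizer_le hK


end Cfsg.Agent.S0548
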