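import Cfsg.Statements.S0549
import Cfsg.Agent.Perm.Basic

set_option autoImplicit false
set_option linter.deprecated false
set_option linter.style.haveILetI false
set_option linter.unusedVariables false
open Cfsg
open scoped Pointwise

namespace Cfsg.Agent.S0549

/-- Let U be a maximal subgroup of a finite group G whose normal core is trivial, and N a nontrivial normal subgroup with centralizer C. Then C ∩ U = 1, and either C = 1 or C is a minimal normal subgroup of G. -/
theorem result {G : Type*} [Group G] [Finite G] (U : Subgroup G) (hU : IsCoatom U) (hcore : U.normalCore = ⊥) (N : Subgroup G) [N.Normal] (hN : N ≠ ⊥) : Subgroup.centralizer (N : Set G) ⊓ U = ⊥ ∧ (Subgroup.centralizer (N : Set G) = ⊥ ∨ (Subgroup.centralizer (N : Set G) ≠ ⊥ ∧ ∀ K : Subgroup G, K.Normal → K ≤ Subgroup.centralizer (N : Set G) → K = ⊥ ∨ K = Subgroup.centralizer (N : Set G))) := by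
  have hNU : N ⊔ U = ⊤ := by
    refine hU.2 _ (lt_of_le_of_ne le_sup_right fun h => hN ?_)
    rw [eq_bot_iff, ← hcore]
    exact Subgroup.normal_le_normalCore.2 (h ▸ le_sup_left)
  have hC : (Subgroup.centralizer (N : Set G)).Normal := Subgroup.normal_centralizer
  have hdis : Subgroup.centralizer (N : Set G) ⊓ U = ⊥ := by
    have hn : (Subgroup.centralizer (N : Set G) ⊓ U).Normal := by
      rw [← Subgroup.normalizer_eq_top_iff, eq_top_iff, ← hNU, sup_le_iff]
      refine ⟨?_, ?_⟩
      · refine le_trans ?_ (Subgroup.centralizer_le_normalizer _)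
        intro n hn
        exact Subgroup.mem_centralizer_iff.2 fun c hc =>
          ((Subgroup.mem_centralizer_iff.1 hc.1) n hn).symm
      · intro u hu
        rw [Subgroup.mem_normalizer_iff]
        intro x
        simp only [Subgroup.mem_inf]
        constructor
        · exact fun hx => ⟨hC.conj_mem x hx.1 u, U.mul_mem (U.mul_mem hu hx.2) (U.inv_mem hu)⟩
        · intro hx
          exact ⟨by simpa [mul_assoc] using hC.conj_mem _ hx.1 u⁻¹,
            by simpa [mul_assoc] using U.mul_mem (U.mul_mem (U.inv_mem hu) hx.2) hu⟩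
    rw [eq_bot_iff, ← hcore]
    exact Subgroup.normal_le_normalCore.2 inf_le_right
  refine ⟨hdis, ?_⟩
  by_cases hb : Subgroup.centralizer (N : Set G) = ⊥
  · exact Or.inl hb
  refine Or.inr ⟨hb, fun K hK hKC => ?_⟩
  by_cases hK0 : K = ⊥
  · exact Or.inl hK0
  refine Or.inr (le_antisymm hKC fun c hc => ?_)
  have hKU : K ⊔ U = ⊤ := by
    refine hU.2 _ (lt_of_le_of_ne le_sup_right fun h => hK0 ?_)
    rw [eq_bot_iff, ← hcore]
    exact Subgroup.normal_le_normalCore.2 (h ▸ le_sup_left)
  have hc' : c ∈ ((K ⊔ U : Subgroup G) : Set G) := hKU ▸ Subgroup.mem_top c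
  rw [Subgroup.normal_mul] at hc'
  obtain ⟨k, hk, u, hu, hku⟩ := hc'
  have hu' : u ∈ Subgroup.centralizer (N : Set G) ⊓ U := by
    refine ⟨?_, hu⟩
    have : u = k⁻¹ * c := by rw [← hku]; simp
    rw [this]
    exact Subgroup.mul_mem _ (Subgroup.inv_mem _ (hKC hk)) hc
  rw [hdis, Subgroup.mem_bot] at hu'
  have : c = k := by rw [← hku, hu']; simp
  exact this ▸ hk


end Cfsg.Agent.S0549
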