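import Cfsg.Statements.S0552
import Cfsg.Agent.Solvable.Fitting

set_option autoImplicit false
set_option linter.deprecated false
set_option linter.style.haveILetI false
set_option linter.unusedVariables false
open Cfsg
open scoped Pointwise

namespace Cfsg.Agent.S0552

/-- Let σ be an automorphism of a finite solvable group G fixing every element of the Fitting subgroup. If σ is not the identity then the order of σ and the order of G have a common prime factor. -/
theorem result {G : Type*} [Group G] [Finite G] [Group.IsSolvable G] (σ : G ≃* G) (hσ : ∀ x ∈ Cfsg.fittingSubgroup G, σ x = x) (hne : σ ≠ MulEquiv.refl G) : ¬ (orderOf σ).Coprime (Nat.card G) := by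
  intro hcop
  apply hne
  have key : ∀ g : G, g⁻¹ * σ g ∈ Cfsg.fittingSubgroup G := by
    intro g
    haveI : (Cfsg.fittingSubgroup G).Normal := by
      rw [CfsgLib.Solvable.fittingSubgroup_eq_iSup_pCore]; infer_instance
    refine CfsgLib.Fitting.centralizer_fittingSubgroup_le_of_solvable
      (Subgroup.mem_centralizer_iff.2 fun x hx => ?_)
    have h1 := hσ _ (Subgroup.Normal.conj_mem inferInstance x hx g)
    rw [map_mul, map_mul, map_inv, hσ x hx] at h1
    calc x * (g⁻¹ * σ g) = g⁻¹ * (g * x * g⁻¹) * σ g := by group
      _ = g⁻¹ * σ g * x := by rw [← h1]; group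
  ext g
  show σ g = g
  set c := g⁻¹ * σ g with hc
  have hsg : σ g = g * c := by rw [hc, mul_inv_cancel_left]
  have hpow : ∀ k : ℕ, (σ ^ k) g = g * c ^ k := by
    intro k
    induction k with
    | zero => simp
    | succ k ih =>
      rw [pow_succ', MulAut.mul_apply, ih, map_mul, map_pow, hσ c (key g), hsg, mul_assoc,
        ← pow_succ']
  have h1 := hpow (orderOf σ)
  rw [pow_orderOf_eq_one, MulAut.one_apply, left_eq_mul] at h1
  have h2 : c = 1 := orderOf_eq_one_iff.1 (Nat.eq_one_of_dvd_coprimes hcop
    (orderOf_dvd_of_pow_eq_one h1) (orderOf_dvd_natCard c))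
  rw [hsg, h2, mul_one]


end Cfsg.Agent.S0552
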