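import Cfsg.Statements.S0555

set_option autoImplicit false
set_option linter.deprecated false
set_option linter.style.haveILetI false
set_option linter.unusedVariables false
open Cfsg
open scoped Pointwise commutatorElement

namespace Cfsg.Agent.S0555

/-- Let i ≥ 1. If in the derived series of a group the quotient of the i-th term by the (i+1)-st and the quotient of the (i+1)-st by the (i+2)-nd are both cyclic, then the (i+1)-st and (i+2)-nd terms coincide. -/
theorem result {G : Type*} [Group G] (i : ℕ) (hi : 1 ≤ i) (h₁ : IsCyclic (↥(derivedSeries G i) ⧸ (derivedSeries G (i + 1)).subgroupOf (derivedSeries G i))) (h₂ : IsCyclic (↥(derivedSeries G (i + 1)) ⧸ (derivedSeries G (i + 2)).subgroupOf (derivedSeries G (i + 1)))) : derivedSeries G (i + 1) = derivedSeries G (i + 2) := by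
  have hn := fun j => derivedSeries_normal (G := G) j
  have hanti : ∀ j, derivedSeries G (j + 1) ≤ derivedSeries G j :=
    fun j => derivedSeries_antitone G (Nat.le_succ j)
  let f := QuotientGroup.mk' (derivedSeries G (i + 2))
  have hgen : ∀ j, IsCyclic (↥(derivedSeries G j) ⧸ (derivedSeries G (j + 1)).subgroupOf (derivedSeries G j)) →
      ∃ a ∈ derivedSeries G j, ∀ x ∈ derivedSeries G j, ∃ k : ℤ, a ^ (-k) * x ∈ derivedSeries G (j + 1) := by
    intro j hj
    obtain ⟨q, hq⟩ := hj.exists_generator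
    obtain ⟨a, rfl⟩ := QuotientGroup.mk_surjective q
    refine ⟨a.1, a.2, fun x hx => ?_⟩
    obtain ⟨k, hk⟩ := Subgroup.mem_zpowers_iff.1 (hq (QuotientGroup.mk ⟨x, hx⟩))
    refine ⟨k, ?_⟩
    rw [← QuotientGroup.mk_zpow] at hk
    have := QuotientGroup.eq.1 hk
    rw [Subgroup.mem_subgroupOf] at this
    simpa [zpow_neg] using this
  obtain ⟨a, ha, hA⟩ := hgen i h₁
  obtain ⟨b, hb, hB⟩ := hgen (i + 1) h₂
  have hB' : ∀ x ∈ derivedSeries G (i + 1), f x ∈ Subgroup.zpowers (f b) := by
    intro x hx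
    obtain ⟨k, hk⟩ := hB x hx
    refine Subgroup.mem_zpowers_iff.2 ⟨k, ?_⟩
    have h := (QuotientGroup.eq_one_iff _).2 hk
    have h' : (f b) ^ (-k) * f x = 1 := by rw [← map_zpow, ← map_mul]; exact h
    rw [zpow_neg, inv_mul_eq_one] at h'
    exact h'
  have hconj : ∀ g : G ⧸ derivedSeries G (i + 2), g * f b * g⁻¹ ∈ Subgroup.zpowers (f b) := by
    intro g
    obtain ⟨g, rfl⟩ := QuotientGroup.mk'_surjective (derivedSeries G (i + 2)) g
    have h := hB' _ ((hn (i + 1)).conj_mem b hb g)
    rw [map_mul, map_mul, map_inv] at h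
    exact h
  have hcomm : commutator (G ⧸ derivedSeries G (i + 2)) ≤ Subgroup.centralizer {f b} := by
    rw [commutator_def, Subgroup.commutator_le]
    intro g _ h _
    rw [Subgroup.mem_centralizer_singleton_iff]
    have key : ∀ g h : G ⧸ derivedSeries G (i + 2), g * (h * f b * h⁻¹) * g⁻¹ = h * (g * f b * g⁻¹) * h⁻¹ := by
      intro g h
      obtain ⟨m, hm⟩ := Subgroup.mem_zpowers_iff.1 (hconj g)
      obtain ⟨n, hn'⟩ := Subgroup.mem_zpowers_iff.1 (hconj h)
      rw [← hm, ← hn', ← conj_zpow, ← conj_zpow, ← hm, ← hn', ← zpow_mul, ← zpow_mul, mul_comm]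
    have h' := key g⁻¹ h⁻¹
    simp only [inv_inv] at h'
    rw [commutatorElement_def]
    have e1 : g * h * g⁻¹ * h⁻¹ * f b * (g * h * g⁻¹ * h⁻¹)⁻¹ = g * h * (g⁻¹ * (h⁻¹ * f b * h) * g) * (g * h)⁻¹ := by group
    have e2 : g * h * (h⁻¹ * (g⁻¹ * f b * g) * h) * (g * h)⁻¹ = f b := by group
    rw [h', e2] at e1
    exact mul_inv_eq_iff_eq_mul.1 e1
  have hsur := QuotientGroup.mk'_surjective (derivedSeries G (i + 2))
  have hac : Commute (f a) (f b) := by
    have h1 : a ∈ commutator G := by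
      rw [← derivedSeries_one]
      exact derivedSeries_antitone G hi ha
    have h2 : f a ∈ commutator (G ⧸ derivedSeries G (i + 2)) := by
      have h3 := Subgroup.mem_map_of_mem f h1
      rw [commutator_def, Subgroup.map_commutator, Subgroup.map_top_of_surjective f hsur] at h3
      exact h3
    exact Subgroup.mem_centralizer_singleton_iff.1 (hcomm h2)
  have hA' : ∀ x ∈ derivedSeries G i, ∃ k l : ℤ, f x = f a ^ k * f b ^ l := by
    intro x hx
    obtain ⟨k, hk⟩ := hA x hx
    obtain ⟨l, hl⟩ := Subgroup.mem_zpowers_iff.1 (hB' _ hk)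
    refine ⟨k, l, ?_⟩
    rw [hl, map_mul, map_zpow, zpow_neg]; group
  refine le_antisymm ?_ (hanti (i + 1))
  rw [derivedSeries_succ, Subgroup.commutator_le]
  intro x hx y hy
  obtain ⟨k, l, hxk⟩ := hA' x hx
  obtain ⟨k', l', hyk⟩ := hA' y hy
  refine (QuotientGroup.eq_one_iff _).1 ?_
  change f ⁅x, y⁆ = 1
  rw [map_commutatorElement, commutatorElement_eq_one_iff_commute, hxk, hyk]
  exact ((((Commute.refl (f a)).zpow_zpow k k').mul_right (hac.zpow_zpow k l')).mul_left
    ((hac.symm.zpow_zpow l k').mul_right ((Commute.refl (f b)).zpow_zpow l l')))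


end Cfsg.Agent.S0555
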