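import Cfsg.Statements.S0562
import Cfsg.Agent.Solvable.Glauberman

set_option autoImplicit false
set_option linter.deprecated false
set_option linter.style.haveILetI false
set_option linter.unusedVariables false
open Cfsg
open scoped Pointwise

namespace Cfsg.Agent.S0562

/-- Let the finite group G be the product HK of subgroups, A normal in H, B normal in K, and L the normalizer of the subgroup generated by A and B. Then every element of L is a product of an element of L ∩ H and an element of L ∩ K. -/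
theorem result {G : Type*} [Group G] [Finite G] (H K A B : Subgroup G) (hHK : ∀ g : G, ∃ h ∈ H, ∃ k ∈ K, g = h * k) (hA : A ≤ H) (hAn : (A.subgroupOf H).Normal) (hB : B ≤ K) (hBn : (B.subgroupOf K).Normal) : ∀ g ∈ Subgroup.normalizer ((A ⊔ B : Subgroup G) : Set G), ∃ h ∈ Subgroup.normalizer ((A ⊔ B : Subgroup G) : Set G) ⊓ H, ∃ k ∈ Subgroup.normalizer ((A ⊔ B : Subgroup G) : Set G) ⊓ K, g = h * k := by
  intro g hg
  obtain ⟨h, hh, k, hk, rfl⟩ := hHK g
  have hA' : MulAut.conj h⁻¹ • A = A := CfsgLib.SZ.conj_smul_eq_iff_mem_normalizer.2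
    (((Subgroup.normal_subgroupOf_iff_le_normalizer hA).1 hAn) (H.inv_mem hh))
  have hB' : MulAut.conj k • B = B := CfsgLib.SZ.conj_smul_eq_iff_mem_normalizer.2
    (((Subgroup.normal_subgroupOf_iff_le_normalizer hB).1 hBn) hk)
  have hT : MulAut.conj k • (A ⊔ B) = MulAut.conj h⁻¹ • (A ⊔ B) := by
    have h1 := CfsgLib.SZ.conj_smul_eq_iff_mem_normalizer.2 hg
    conv_rhs => rw [← h1]
    rw [CfsgLib.SZ.conj_smul_mul, CfsgLib.SZ.conj_smul_inv_smul]
  have hle : A ⊔ B ≤ MulAut.conj k • (A ⊔ B) := by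
    refine sup_le ?_ ?_
    · rw [hT]; conv_lhs => rw [← hA']
      rw [Subgroup.pointwise_smul_le_pointwise_smul_iff]; exact le_sup_left
    · conv_lhs => rw [← hB']
      rw [Subgroup.pointwise_smul_le_pointwise_smul_iff]; exact le_sup_right
  have heq : MulAut.conj k • (A ⊔ B) = A ⊔ B :=
    (CfsgLib.Solvable.eq_of_le_of_card_le hle (CfsgLib.SZ.card_conj_smul k _).le).symm
  have hk' := CfsgLib.SZ.conj_smul_eq_iff_mem_normalizer.1 heq
  have hh' := CfsgLib.SZ.conj_smul_eq_iff_mem_normalizer.1 (hT ▸ heq)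
  exact ⟨h, ⟨by simpa using Subgroup.inv_mem _ hh', hh⟩, k, ⟨hk', hk⟩, rfl⟩


end Cfsg.Agent.S0562
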