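import Cfsg.Statements.S0567
import Mathlib.GroupTheory.IsSubnormal
import Mathlib.Tactic.Group
import Mathlib.GroupTheory.Commutator.Basic

set_option autoImplicit false
set_option linter.deprecated false
set_option linter.style.haveILetI false
set_option linter.unusedVariables false
open Cfsg
open scoped Pointwise commutatorElement

namespace Cfsg.Agent.S0567

/-- A subgroup H of a group G is subnormal exactly when, for some m, the subgroup obtained from G by taking the commutator with H m times in succession is contained in H. -/
theorem result {G : Type*} [Group G] (H : Subgroup G) : H.IsSubnormal ↔ ∃ m : ℕ, (fun K : Subgroup G => ⁅K, H⁆)^[m] ⊤ ≤ H := by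
  constructor
  · intro h
    induction h with
    | top => exact ⟨0, le_rfl⟩
    | step H K hle hK hN ih =>
      obtain ⟨m, hm⟩ := ih
      refine ⟨m + 1, ?_⟩
      have key : ∀ j, (fun L : Subgroup G => ⁅L, H⁆)^[j] ⊤ ≤ (fun L : Subgroup G => ⁅L, K⁆)^[j] ⊤ := by
        intro j
        induction j with
        | zero => exact le_rfl
        | succ j ihj =>
          rw [Function.iterate_succ_apply', Function.iterate_succ_apply']
          exact Subgroup.commutator_mono ihj hle
      rw [Function.iterate_succ_apply']
      exact (Subgroup.commutator_mono ((key m).trans hm) le_rfl).trans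
        (Subgroup.le_normalizer_iff_commutator_le_right.1 ((Subgroup.normal_subgroupOf_iff_le_normalizer hle).1 hN))
  · rintro ⟨m, hm⟩
    set T := fun j => (fun L : Subgroup G => ⁅L, H⁆)^[j] (⊤ : Subgroup G) with hTdef
    have hsucc : ∀ j, T (j + 1) = ⁅T j, H⁆ := fun j => Function.iterate_succ_apply' _ _ _
    have hnorm : ∀ j, H ≤ Subgroup.normalizer (T j : Set G) := by
      intro j
      cases j with
      | zero =>
        intro x _
        change x ∈ Subgroup.normalizer ((⊤ : Subgroup G) : Set G)
        rw [Subgroup.normalizer_eq_top]; trivial
      | succ j => rw [hsucc]; exact Subgroup.normalizer_commutator_ge_right _ _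
    have key : ∀ j, (H ⊔ T j).IsSubnormal := by
      intro j
      induction j with
      | zero =>
        have : H ⊔ T 0 = ⊤ := eq_top_iff.2 le_sup_right
        rw [this]; exact Subgroup.IsSubnormal.top
      | succ j ih =>
        have hle : H ⊔ T (j + 1) ≤ H ⊔ T j := by
          refine sup_le le_sup_left ?_
          rw [hsucc]
          exact ((Subgroup.commutator_mono le_sup_right le_sup_left).trans
            (Subgroup.commutator_le_self _))
        refine Subgroup.IsSubnormal.step _ _ hle ih (Subgroup.normal_subgroupOf_of_le_normalizer ?_)
        refine sup_le (le_sup_left.trans Subgroup.le_normalizer) ?_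
        rw [Subgroup.le_normalizer_iff_commutator_le_right, Subgroup.commutator_le]
        intro t ht x hx
        have htT : t ∈ Subgroup.normalizer (T (j + 1) : Set G) := by
          rw [hsucc]; exact Subgroup.normalizer_commutator_ge_left _ _ ht
        suffices hx' : t * x * t⁻¹ ∈ H ⊔ T (j + 1) by
          rw [commutatorElement_def]
          exact Subgroup.mul_mem _ hx' (Subgroup.inv_mem _ hx)
        rw [Subgroup.sup_eq_closure] at hx
        induction hx using Subgroup.closure_induction with
        | mem y hy =>
          rcases hy with hy | hy
          · have : t * y * t⁻¹ = ⁅t, y⁆ * y := by rw [commutatorElement_def]; group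
            rw [this]
            refine Subgroup.mul_mem _ (Subgroup.mem_sup_right ?_) (Subgroup.mem_sup_left hy)
            rw [hsucc]; exact Subgroup.commutator_mem_commutator ht hy
          · exact Subgroup.mem_sup_right ((Subgroup.mem_normalizer_iff.1 htT y).1 hy)
        | one => simp [Subgroup.one_mem]
        | mul a b _ _ iha ihb =>
          have : t * (a * b) * t⁻¹ = t * a * t⁻¹ * (t * b * t⁻¹) := by group
          rw [this]; exact Subgroup.mul_mem _ iha ihb
        | inv a _ iha =>
          have : t * a⁻¹ * t⁻¹ = (t * a * t⁻¹)⁻¹ := by group
          rw [this]; exact Subgroup.inv_mem _ iha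
    have h1 := key m
    rwa [sup_eq_left.2 hm] at h1


end Cfsg.Agent.S0567
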