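import Cfsg.Statements.S0568
import Cfsg.Agent.Solvable.System

set_option autoImplicit false
set_option linter.deprecated false
set_option linter.style.haveILetI false
set_option linter.unusedVariables false
open Cfsg
open scoped Pointwise

namespace Cfsg.Agent.S0568

/-- Let D be the system normalizer of a Hall complement system of a finite solvable group G, and let A < B be normal subgroups with no normal subgroup of G strictly between them (a chief factor). If G centralizes B modulo A then B ≤ A ⊔ D (D covers the factor); otherwise B ∩ D ≤ A (D avoids it). -/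
theorem result {G : Type*} [Group G] [Finite G] [Group.IsSolvable G] (K : Nat.Primes → Subgroup G) (hK : Cfsg.IsComplementSystem K) (A B : Subgroup G) [A.Normal] [B.Normal] (hAB : A < B) (hchief : ∀ N : Subgroup G, N.Normal → A ≤ N → N ≤ B → N = A ∨ N = B) : (⁅B, (⊤ : Subgroup G)⁆ ≤ A → B ≤ A ⊔ Cfsg.systemNormalizer K) ∧ (¬ ⁅B, (⊤ : Subgroup G)⁆ ≤ A → B ⊓ Cfsg.systemNormalizer K ≤ A) := by
  let f := QuotientGroup.mk' A
  have hf := QuotientGroup.mk'_surjective A
  have hsys := CfsgLib.System.map_system hK hf
  have hD := CfsgLib.System.map_systemNormalizer hK A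
  have hcent : B.map f ≤ Subgroup.center (G ⧸ A) ↔ ⁅B, (⊤ : Subgroup G)⁆ ≤ A := by
    constructor
    · intro h
      rw [← QuotientGroup.ker_mk' A, ← Subgroup.map_eq_bot_iff, Subgroup.map_commutator,
        Subgroup.map_top_of_surjective f hf, Subgroup.commutator_eq_bot_iff_le_centralizer]
      intro x hx
      exact Subgroup.mem_centralizer_iff.2 fun y hy => Subgroup.mem_center_iff.1 (h hx) y
    · intro h
      rw [← QuotientGroup.ker_mk' A, ← Subgroup.map_eq_bot_iff, Subgroup.map_commutator,
        Subgroup.map_top_of_surjective f hf, Subgroup.commutator_eq_bot_iff_le_centralizer] at h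
      intro x hx
      exact Subgroup.mem_center_iff.2 fun y => Subgroup.mem_centralizer_iff.1 (h hx) y (Subgroup.mem_top y)
  refine ⟨fun h => ?_, fun h => ?_⟩
  · have h1 := (CfsgLib.System.le_systemNormalizer_of_central (K := fun p => (K p).map f) _ (hcent.2 h)).trans hD.le
    have h2 := Subgroup.map_le_iff_le_comap.1 h1
    rwa [Subgroup.comap_map_eq, QuotientGroup.ker_mk', sup_comm] at h2
  · have hBn : (B.map f).Normal := Subgroup.Normal.map inferInstance f hf
    have hne : B.map f ≠ ⊥ := by
      rw [Ne, Subgroup.map_eq_bot_iff, QuotientGroup.ker_mk']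
      exact not_le_of_gt hAB
    have hmin : ∀ M : Subgroup (G ⧸ A), M.Normal → M ≤ B.map f → M = ⊥ ∨ M = B.map f := by
      intro M hM hMB
      have hA : A ≤ M.comap f := fun x hx => by
        show f x ∈ M
        rw [show f x = 1 from (QuotientGroup.eq_one_iff x).2 hx]
        exact M.one_mem
      have hle : M.comap f ≤ B := by
        have := Subgroup.comap_mono (f := f) hMB
        rwa [Subgroup.comap_map_eq, QuotientGroup.ker_mk', sup_eq_left.2 hAB.le] at this
      rcases hchief _ (hM.comap f) hA hle with h' | h'
      · left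
        rw [← Subgroup.map_comap_eq_self_of_surjective hf M, h', Subgroup.map_eq_bot_iff, QuotientGroup.ker_mk']
      · right
        rw [← Subgroup.map_comap_eq_self_of_surjective hf M, h']
    have h1 := CfsgLib.System.inf_eq_bot hsys (B.map f) hne hmin (fun h' => h (hcent.1 h'))
    rintro x ⟨hxB, hxD⟩
    have h2 : f x ∈ B.map f ⊓ Cfsg.systemNormalizer (fun p => (K p).map f) :=
      ⟨Subgroup.mem_map_of_mem f hxB, hD.ge (Subgroup.mem_map_of_mem f hxD)⟩
    rw [h1, Subgroup.mem_bot] at h2
    exact (QuotientGroup.eq_one_iff x).1 h2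


end Cfsg.Agent.S0568
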