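import Cfsg.Statements.S0576
import Mathlib.GroupTheory.Frattini

set_option autoImplicit false
set_option linter.deprecated false
set_option linter.style.haveILetI false
set_option linter.unusedVariables false
open Cfsg
open scoped Pointwise

namespace Cfsg.Agent.S0576

/-- Let H be a normal subgroup of a finite group G with H contained in the Frattini subgroup of G. Then the group of inner automorphisms of H is contained in the Frattini subgroup of the automorphism group of H. -/
theorem result {G : Type*} [Group G] [Finite G] (H : Subgroup G) [H.Normal] (hH : H ≤ frattini G) : (MulAut.conj : ↥H →* MulAut ↥H).range ≤ frattini (MulAut ↥H) := by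
  refine le_iInf fun M => le_iInf fun hM => ?_
  by_contra hI
  haveI : ((MulAut.conj : ↥H →* MulAut ↥H).range).Normal := by
    refine ⟨fun n hn g => ?_⟩
    obtain ⟨x, rfl⟩ := hn
    refine ⟨g x, MulEquiv.ext fun y => ?_⟩
    simp [MulAut.conj_apply]
  have htop : (MulAut.conj : ↥H →* MulAut ↥H).range ⊔ M = ⊤ :=
    hM.2 _ (lt_of_le_of_ne le_sup_right fun e => hI (e ▸ le_sup_left))
  set X := M.comap (MulAut.conjNormal (H := H) : G →* MulAut H)
  have hφ : ∀ x : H, MulAut.conjNormal (x : G) = MulAut.conj x := fun x =>
    MulEquiv.ext fun y => Subtype.ext (by simp [MulAut.conjNormal_apply, MulAut.conj_apply])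
  have hX : X ⊔ frattini G = ⊤ := by
    refine top_unique (le_trans ?_ (sup_le_sup_left hH X))
    intro g _
    obtain ⟨i, hi, m, hm, e⟩ := Subgroup.mem_sup_of_normal_left.1
      (htop.ge (Subgroup.mem_top (MulAut.conjNormal g)))
    obtain ⟨x, rfl⟩ := hi
    have hx : (x : G)⁻¹ * g ∈ X := by
      show MulAut.conjNormal ((x : G)⁻¹ * g) ∈ M
      rw [map_mul, map_inv, hφ, ← e, inv_mul_cancel_left]
      exact hm
    have := mul_mem (Subgroup.mem_sup_right x.2 : (x : G) ∈ X ⊔ H) (Subgroup.mem_sup_left hx)
    rwa [mul_inv_cancel_left] at this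
  refine hI ?_
  rintro _ ⟨x, rfl⟩
  rw [← hφ]
  exact (frattini_nongenerating hX).ge (Subgroup.mem_top (x : G))


end Cfsg.Agent.S0576
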