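import Cfsg.Statements.S0578
import Cfsg.Agent.Solvable.Basics
import Cfsg.Agent.Solvable.PGroupBasic
import Cfsg.Agent.Transfer.Basic

set_option autoImplicit false
set_option linter.deprecated false
set_option linter.style.haveILetI false
set_option linter.unusedVariables false
open Cfsg
open scoped Pointwise commutatorElement

namespace Cfsg.Agent.S0578

/-- If in a finite group the normalizer of each abelian subgroup coincides with its centralizer, then the group is abelian. -/
theorem result {G : Type*} [Group G] [Finite G] (h : ∀ A : Subgroup G, IsMulCommutative A → Subgroup.normalizer (A : Set G) = Subgroup.centralizer (A : Set G)) : IsMulCommutative G := by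
  have hp : ∀ (p : ℕ) [Fact p.Prime] (n : ℕ) (P : Subgroup G), IsPGroup p P → Nat.card P = n → IsMulCommutative P := by
    intro p _ n
    induction n using Nat.strong_induction_on with
    | _ n ih =>
      intro P hP hn
      by_cases hc : Nat.card (Subgroup.center P) = Nat.card P
      · have htop := (Subgroup.eq_top_of_card_eq _ hc)
        refine ⟨⟨fun a b => ?_⟩⟩
        exact (Subgroup.mem_center_iff.1 (htop ▸ Subgroup.mem_top b) a)
      have hcent : ∀ M : Subgroup P, IsCoatom M → M ≤ Subgroup.center P := by
        intro M hM
        obtain ⟨hMn, -⟩ := CfsgLib.PGroupBasic.coatom_normal_index hP hM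
        have hcard : Nat.card (M.map P.subtype) < n := by
          rw [Subgroup.card_map_of_injective P.subtype_injective, ← hn]
          exact CfsgLib.Solvable.card_lt_of_ne_top hM.1
        have hab := ih _ hcard (M.map P.subtype) ((hP.to_subgroup M).map _) rfl
        have h1 := h _ hab
        intro m hm
        rw [Subgroup.mem_center_iff]
        intro g
        have hg : (g : G) ∈ Subgroup.normalizer ((M.map P.subtype : Subgroup G) : Set G) := by
          rw [Subgroup.mem_normalizer_iff]
          intro x
          constructor
          · rintro ⟨y, hy, rfl⟩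
            exact ⟨g * y * g⁻¹, hMn.conj_mem y hy g, rfl⟩
          · rintro ⟨y, hy, hyx⟩
            refine ⟨g⁻¹ * y * g, by simpa using hMn.conj_mem y hy g⁻¹, ?_⟩
            have hyx' : (y : G) = g * x * (g : G)⁻¹ := hyx
            simp [hyx', mul_assoc]
        rw [h1] at hg
        exact Subtype.ext ((Subgroup.mem_centralizer_iff.1 hg) (m : G) ⟨m, hm, rfl⟩).symm
      have htriv : Nontrivial P := by
        by_contra hnt
        rw [not_nontrivial_iff_subsingleton] at hnt
        exact hc (by simp [Subsingleton.elim (Subgroup.center P) ⊤])
      have htop : Subgroup.center P = ⊤ := by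
        by_contra hne
        obtain ⟨M, hM, hZM⟩ := (eq_top_or_exists_le_coatom (Subgroup.center P)).resolve_left hne
        obtain ⟨hMn, hMi⟩ := CfsgLib.PGroupBasic.coatom_normal_index hP hM
        have hMe : M = Subgroup.center P := le_antisymm (hcent M hM) hZM
        have : IsCyclic (P ⧸ Subgroup.center P) :=
          isCyclic_of_prime_card (p := p) (by rw [← Subgroup.index_eq_card, ← hMe, hMi])
        exact hne (eq_top_iff.2 fun a _ => Subgroup.mem_center_iff.2 fun b =>
          commutative_of_cyclic_center_quotient (QuotientGroup.mk' (Subgroup.center P))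
              (QuotientGroup.ker_mk' _).le b a)
      exact absurd (by rw [htop, Subgroup.card_top]) hc
  have hbot : commutator G = ⊥ := by
    rw [← Subgroup.card_eq_one, Nat.eq_one_iff_not_exists_prime_dvd]
    intro p hpp hd
    have : Fact p.Prime := ⟨hpp⟩
    obtain ⟨P⟩ : Nonempty (Sylow p G) := inferInstance
    have hPc := hp p _ (P : Subgroup G) P.isPGroup' rfl
    obtain ⟨Q, N, hN, hNc⟩ := CfsgLib.TransferBasic.hasNormalPComplement_of_le_centralizer P (h _ hPc).le
    have hQc := hp p _ (Q : Subgroup G) Q.isPGroup' rfl
    have hle : commutator G ≤ N := by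
      rw [← Subgroup.Normal.quotient_commutative_iff_commutator_le]
      have hsur : Function.Surjective ((QuotientGroup.mk' N).comp (Q : Subgroup G).subtype) := by
        intro x
        obtain ⟨g, rfl⟩ := QuotientGroup.mk'_surjective N x
        obtain ⟨⟨a, b⟩, hab⟩ := hNc.2 g
        refine ⟨b, ?_⟩
        simp only [MonoidHom.comp_apply, Subgroup.coe_subtype]
        rw [← hab, map_mul]
        have : QuotientGroup.mk' N (a : G) = 1 := (QuotientGroup.eq_one_iff _).2 a.2
        rw [this, one_mul]
      refine ⟨⟨fun x y => ?_⟩⟩
      obtain ⟨a, rfl⟩ := hsur x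
      obtain ⟨b, rfl⟩ := hsur y
      rw [← map_mul, hQc.is_comm.comm a b, map_mul]
    have h2 : Nat.card N = (Q : Subgroup G).index := hNc.index_eq_card.symm
    exact Q.not_dvd_index (h2 ▸ hd.trans (Subgroup.card_dvd_of_le hle))
  refine ⟨⟨fun a b => ?_⟩⟩
  have : ⁅a, b⁆ ∈ commutator G := Subgroup.commutator_mem_commutator (Subgroup.mem_top a) (Subgroup.mem_top b)
  rw [hbot, Subgroup.mem_bot, commutatorElement_eq_one_iff_commute] at this
  exact this


end Cfsg.Agent.S0578
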