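import Cfsg.Statements.S0583
import Cfsg.Agent.Solvable.Basics
import Cfsg.Agent.Solvable.PGroupBasic
import Cfsg.Agent.Perm.Basic

set_option autoImplicit false
set_option linter.deprecated false
set_option linter.style.haveILetI false
set_option linter.unusedVariables false
open Cfsg
open scoped Pointwise

namespace Cfsg.Agent.S0583

/-- In a finite group the Fitting subgroup is contained in the centralizer of each minimal normal subgroup. -/
theorem result {G : Type*} [Group G] [Finite G] (M : Subgroup G) [M.Normal] (hM : M ≠ ⊥) (hmin : ∀ K : Subgroup G, K.Normal → K ≤ M → K = ⊥ ∨ K = M) : Cfsg.fittingSubgroup G ≤ Subgroup.centralizer (M : Set G) := by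
  obtain hFn : (Cfsg.fittingSubgroup G).Normal := inferInstance
  have := CfsgLib.Solvable.isNilpotent_fittingSubgroup (G := G)
  set F := Cfsg.fittingSubgroup G
  rcases hmin (M ⊓ F) inferInstance inf_le_left with h | h
  · exact CfsgLib.PermBasic.le_centralizer_of_inf_eq_bot (by rwa [inf_comm])
  have hMF : M ≤ F := inf_eq_left.1 h
  have hne : M.subgroupOf F ≠ ⊥ := by
    intro hb
    rw [Subgroup.subgroupOf_eq_bot, disjoint_iff, inf_eq_left.2 hMF] at hb
    exact hM hb
  set Z := (Subgroup.center F).map F.subtype with hZ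
  have hZn : Z.Normal := ConjAct.normal_of_characteristic_of_normal
  rcases hmin (M ⊓ Z) inferInstance inf_le_left with h' | h'
  · exfalso
    obtain ⟨y, hy, hy1⟩ := (Subgroup.bot_or_exists_ne_one _).resolve_left
      (CfsgLib.PGroupBasic.inf_center_ne_bot (M.subgroupOf F) hne)
    have hy' : (y : G) ∈ M ⊓ Z := ⟨hy.1, y, hy.2, rfl⟩
    rw [h', Subgroup.mem_bot] at hy'
    exact hy1 (Subtype.ext hy')
  · intro f hf
    rw [Subgroup.mem_centralizer_iff]
    intro m hm
    obtain ⟨z, hz, rfl⟩ := (inf_eq_left.1 h') hm
    have := congrArg Subtype.val (Subgroup.mem_center_iff.1 hz ⟨f, hf⟩)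
    exact this.symm


end Cfsg.Agent.S0583
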