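import Cfsg.Statements.S0585
import Cfsg.Agent.Solvable.Basics
import Mathlib.GroupTheory.Frattini

set_option autoImplicit false
set_option linter.deprecated false
set_option linter.style.haveILetI false
set_option linter.unusedVariables false
open Cfsg
open scoped Pointwise

namespace Cfsg.Agent.S0585

/-- If the Frattini subgroup of a finite group G is trivial, then every abelian normal subgroup of G has a complement in G. -/
theorem result {G : Type*} [Group G] [Finite G] (hΦ : frattini G = ⊥) (A : Subgroup G) [A.Normal] [IsMulCommutative A] : ∃ H : Subgroup G, Subgroup.IsComplement' A H := by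
  obtain ⟨H, hHmin⟩ := (Set.toFinite {H : Subgroup G | A ⊔ H = ⊤}).exists_minimal ⟨⊤, sup_top_eq _⟩
  have hH : A ⊔ H = ⊤ := hHmin.prop
  refine ⟨H, Subgroup.isComplement'_of_disjoint_and_mul_eq_univ ?_ (by rw [← Subgroup.normal_mul, hH]; rfl)⟩
  rw [disjoint_iff]
  by_contra hne
  have hle : A ≤ Subgroup.centralizer (A : Set G) := Subgroup.le_centralizer A
  have hn : (A ⊓ H).Normal := by
    rw [← Subgroup.normalizer_eq_top_iff, eq_top_iff, ← hH, sup_le_iff]
    refine ⟨?_, ?_⟩
    · exact hle.trans ((Subgroup.centralizer_le inf_le_left).trans (Subgroup.centralizer_le_normalizer _))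
    · intro h' hh'
      rw [Subgroup.mem_normalizer_iff]
      intro x
      simp only [Subgroup.mem_inf]
      constructor
      · exact fun hx => ⟨Subgroup.Normal.conj_mem inferInstance x hx.1 h', H.mul_mem (H.mul_mem hh' hx.2) (H.inv_mem hh')⟩
      · intro hx
        exact ⟨by simpa [mul_assoc] using Subgroup.Normal.conj_mem inferInstance _ hx.1 h'⁻¹,
          by simpa [mul_assoc] using H.mul_mem (H.mul_mem (H.inv_mem hh') hx.2) hh'⟩
  obtain ⟨M, hM, hNM⟩ : ∃ M : Subgroup G, IsCoatom M ∧ ¬ A ⊓ H ≤ M := by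
    by_contra hcon
    push Not at hcon
    refine hne (eq_bot_iff.2 ?_)
    rw [← hΦ]
    exact le_iInf₂ hcon
  have htop : (A ⊓ H) ⊔ M = ⊤ := hM.2 _ (lt_of_le_of_ne le_sup_right fun he => hNM (he ▸ le_sup_left))
  have hsup : A ⊔ (H ⊓ M) = ⊤ := by
    rw [eq_top_iff, ← hH]
    refine sup_le le_sup_left fun x hx => ?_
    have hx' : x ∈ (((A ⊓ H) ⊔ M : Subgroup G) : Set G) := htop ▸ Subgroup.mem_top x
    rw [Subgroup.normal_mul] at hx'
    obtain ⟨a, ha, b, hb, rfl⟩ := hx'
    refine Subgroup.mul_mem_sup ha.1 ⟨?_, hb⟩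
    simpa using H.mul_mem (H.inv_mem ha.2) hx
  exact hNM (inf_le_right.trans ((hHmin.2 hsup inf_le_left).trans inf_le_right))


end Cfsg.Agent.S0585
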