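import Cfsg.Statements.S0588
import Mathlib.GroupTheory.Sylow

set_option autoImplicit false
set_option linter.deprecated false
set_option linter.style.haveILetI false
set_option linter.unusedVariables false
open Cfsg
open scoped Pointwise

namespace Cfsg.Agent.S0588

/-- If a subgroup H of a finite group G contains the centralizer of every non-identity element of H, then the order of H is coprime to its index. -/
theorem result {G : Type*} [Group G] [Finite G] (H : Subgroup G) (h : ∀ x ∈ H, x ≠ 1 → Subgroup.centralizer ({x} : Set G) ≤ H) : (Nat.card H).Coprime H.index := by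
  rw [Nat.coprime_iff_gcd_eq_one, Nat.eq_one_iff_not_exists_prime_dvd]
  intro p hp hd
  have : Fact p.Prime := ⟨hp⟩
  obtain ⟨⟨u, huH⟩, hu⟩ := exists_prime_orderOf_dvd_card' (G := H) p (hd.trans (Nat.gcd_dvd_left _ _))
  have hu' : orderOf u = p := (Subgroup.orderOf_coe ⟨u, huH⟩).symm ▸ hu
  obtain ⟨S, hS⟩ := IsPGroup.exists_le_sylow (IsPGroup.of_card (n := 1)
    (show Nat.card (Subgroup.zpowers u) = p ^ 1 by rw [Nat.card_zpowers, hu', pow_one]))
  have hu1 : u ≠ 1 := fun he => hp.ne_one (by rw [← hu', he, orderOf_one])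
  have hSn : Nontrivial (S : Subgroup G) :=
    ⟨⟨⟨u, hS (Subgroup.mem_zpowers u)⟩, 1, fun he => hu1 (congrArg Subtype.val he)⟩⟩
  have := S.isPGroup'.center_nontrivial
  obtain ⟨⟨⟨z, hzS⟩, hzc⟩, hz1⟩ := exists_ne (1 : Subgroup.center (S : Subgroup G))
  have hz1' : z ≠ 1 := fun he => hz1 (Subtype.ext (Subtype.ext he))
  have hcomm : ∀ s ∈ (S : Subgroup G), z * s = s * z := fun s hs =>
    (congrArg Subtype.val (Subgroup.mem_center_iff.1 hzc ⟨s, hs⟩)).symm
  have hzH : z ∈ H := h u huH hu1 (Subgroup.mem_centralizer_singleton_iff.2 (hcomm u (hS (Subgroup.mem_zpowers u))))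
  have hSH : (S : Subgroup G) ≤ H := fun s hs =>
    h z hzH hz1' (Subgroup.mem_centralizer_singleton_iff.2 (hcomm s hs).symm)
  exact S.not_dvd_index ((hd.trans (Nat.gcd_dvd_right _ _)).trans (Subgroup.index_dvd_of_le hSH))


end Cfsg.Agent.S0588
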