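import Cfsg.Statements.S0593
import Cfsg.Agent.ZJ.Faithful

set_option autoImplicit false
open Cfsg

namespace Cfsg.Agent.S0593

/-- For odd p, a faithful group on an elementary abelian p-group generated by two quadratically acting elements is a p-group or has non-abelian Sylow 2-subgroups. -/
theorem result {G : Type*} [Group G] [Finite G] {p : ℕ} [Fact p.Prime] (hp : p ≠ 2) (V H : Subgroup G) (hV : Cfsg.IsElementaryAbelian p V) (hHV : H ≤ Subgroup.normalizer (V : Set G)) (hf : H ⊓ Subgroup.centralizer (V : Set G) = ⊥) (a b : G) (hab : H = Subgroup.closure {a, b}) (ha : ⁅⁅V, Subgroup.zpowers a⁆, Subgroup.zpowers a⁆ = ⊥) (hb : ⁅⁅V, Subgroup.zpowers b⁆, Subgroup.zpowers b⁆ = ⊥) (hnp : ¬ IsPGroup p H) (T : Sylow 2 H) : ¬ IsMulCommutative T := by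
  obtain ⟨c, hcH, hc, hcn⟩ : ∃ c ∈ H, ⁅⁅V, Subgroup.zpowers c⁆, Subgroup.zpowers c⁆ = ⊥ ∧
      c ∉ (Cfsg.pCore p H).map H.subtype := by
    rcases CfsgLib.ZJ.mem_or_isPGroup hab hnp with h | h
    · exact ⟨a, hab ▸ Subgroup.subset_closure (by simp), ha, h⟩
    · exact ⟨b, hab ▸ Subgroup.subset_closure (by simp), hb, h⟩
  obtain ⟨K0, hK, f, hfs⟩ := CfsgLib.ZJ.sl2_section_of_quadratic hp hV hHV hf hcH hc hcn
  exact CfsgLib.ZJ.sylow_two_of_section hp hK f hfs T

end Cfsg.Agent.S0593
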