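import Cfsg.Statements.S0596
import Cfsg.Agent.ZJ.Faithful

set_option autoImplicit false
open Cfsg

namespace Cfsg.Agent.S0596

/-- For odd p, a p-separable group with a faithful action on an elementary abelian p-group that is not p-stable has p = 3 and involves SL(2,3). -/
theorem result {G : Type*} [Group G] [Finite G] {p : ℕ} [Fact p.Prime] (hp : p ≠ 2) (V H : Subgroup G) (hV : Cfsg.IsElementaryAbelian p V) (hHV : H ≤ Subgroup.normalizer (V : Set G)) (hf : H ⊓ Subgroup.centralizer (V : Set G) = ⊥) (hsep : Cfsg.IsPSolvable p H) (a : G) (haH : a ∈ H) (hq : ⁅⁅V, Subgroup.zpowers a⁆, Subgroup.zpowers a⁆ = ⊥) (hna : a ∉ (Cfsg.pCore p H).map H.subtype) : p = 3 ∧ ∃ (K L : Subgroup G) (hL : (L.subgroupOf K).Normal), K ≤ H ∧ Nonempty ((K ⧸ L.subgroupOf K) ≃* Matrix.SpecialLinearGroup (Fin 2) (ZMod 3)) := by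
  obtain ⟨K0, hK, f, hfs⟩ := CfsgLib.ZJ.sl2_section_of_quadratic hp hV hHV hf haH hq hna
  obtain ⟨n, C, h0, hl, hm, hn, hs⟩ := hsep
  have h3 : p = 3 := CfsgLib.ZJ.eq_three_of_chain hp C h0 hl hn
    (fun i => ⟨(C i.castSucc).relIndex (C i.succ), fun x hx => ?_, hs i⟩)
    (K0.subgroupOf H) (f.comp (Subgroup.subgroupOfEquivOfLe hK).toMonoidHom)
    (hfs.comp (MulEquiv.surjective _))
  · subst h3
    exact ⟨rfl, CfsgLib.ZJ.exists_section_le hK f hfs⟩
  · haveI : ((C i.castSucc).subgroupOf (C i.succ)).Normal := (hn i.castSucc).subgroupOf _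
    exact Subgroup.mem_subgroupOf.mp (Subgroup.pow_index_mem ((C i.castSucc).subgroupOf (C i.succ)) ⟨x, hx⟩)

end Cfsg.Agent.S0596
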