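import Cfsg.Statements.S0609
import Cfsg.Agent.PLocal.Core
-- import your own Cfsg.Agent.* helpers here

set_option autoImplicit false
open Cfsg

namespace Cfsg.Agent.S0609

/-- Thompson factorizability passes to and from the quotient by the largest normal subgroup of order prime to p. -/
theorem result {G : Type*} [Group G] [Finite G] {p : ℕ} [Fact p.Prime] : Cfsg.IsThompsonFactorizable p G ↔ Cfsg.IsThompsonFactorizable p (G ⧸ Cfsg.pPrimeCore p G) := by
  open CfsgLib.Thompson CfsgLib.PLocalCore Subgroup in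
  classical
  set O := Cfsg.pPrimeCore p G with hOdef
  set π := QuotientGroup.mk' O with hπ
  have hsurj : Function.Surjective π := QuotientGroup.mk'_surjective O
  have hOc : (Nat.card O).Coprime p := CfsgLib.Solvable.coprime_card_pPrimeCore p
  have hObot : Cfsg.pPrimeCore p (G ⧸ O) = ⊥ := CfsgLib.Fitting.pPrimeCore_quotient_eq_bot p
  have hdisj : ∀ {P : Subgroup G}, IsPGroup p P → P ⊓ O = ⊥ := by
    intro P hP
    obtain ⟨j, hj⟩ := IsPGroup.iff_card.mp hP
    rw [← Subgroup.card_eq_one]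
    exact Nat.eq_one_of_dvd_coprimes (Nat.Coprime.pow_left j hOc.symm)
      (hj ▸ card_dvd_of_le inf_le_left) (card_dvd_of_le inf_le_right)
  have heq : ∀ {P : Subgroup G}, IsPGroup p P → ∀ x ∈ P, ∀ y ∈ P, π x = π y → x = y := by
    intro P hP x hx y hy h
    have : x⁻¹ * y ∈ P ⊓ O := ⟨P.mul_mem (P.inv_mem hx) hy, QuotientGroup.eq.mp h⟩
    rw [hdisj hP, mem_bot, inv_mul_eq_one] at this
    exact this
  -- Thompson subgroup and omega-one centre of the image of a Sylow subgroup
  have hJ : ∀ S : Sylow p G, (Cfsg.thompsonSubgroupOf p (S : Subgroup G)).map π =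
      Cfsg.thompsonSubgroupOf p ((S : Subgroup G).map π) := by
    intro S
    let f : (S : Subgroup G) →* ((S : Subgroup G).map π : Subgroup (G ⧸ O)) := π.subgroupMap (S : Subgroup G)
    have hf : Function.Bijective f := ⟨fun x y h => Subtype.ext (heq S.2 x x.2 y y.2 (congrArg Subtype.val h)),
      MonoidHom.subgroupMap_surjective π _⟩
    rw [Cfsg.thompsonSubgroupOf, Cfsg.thompsonSubgroupOf,
      ← map_thompsonSubgroup (MulEquiv.ofBijective f hf), map_map, map_map]
    rfl
  have hZ : ∀ S : Sylow p G, (zSylow p (S : Subgroup G)).map π = zSylow p ((S : Subgroup G).map π) := by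
    intro S
    refine le_antisymm ?_ ((closure_le _).mpr ?_)
    · rw [zSylow, Cfsg.omegaOne, MonoidHom.map_closure, closure_le]
      rintro _ ⟨x, ⟨⟨hxS, hxC⟩, hxp⟩, rfl⟩
      refine mem_omegaOne ⟨mem_map_of_mem π hxS, mem_centralizer_iff.mpr ?_⟩ (by rw [← map_pow, hxp, map_one])
      rintro _ ⟨y, hy, rfl⟩
      rw [← map_mul, ← map_mul, mem_centralizer_iff.mp hxC y hy]
    · rintro _ ⟨⟨⟨x, hxS, rfl⟩, hxC⟩, hxp⟩
      refine mem_map_of_mem π (mem_omegaOne ⟨hxS, mem_centralizer_iff.mpr fun y hy => ?_⟩ ?_)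
      · exact heq S.2 _ (mul_mem hy hxS) _ (mul_mem hxS hy)
          (by rw [map_mul, map_mul]; exact mem_centralizer_iff.mp hxC _ (mem_map_of_mem π hy))
      · exact heq S.2 _ (pow_mem hxS p) _ (one_mem _) (by rw [map_pow, hxp, map_one])
  have hlift : ∀ {P : Subgroup G}, IsPGroup p P → ∀ g : G, (∀ x ∈ P, π (g * x * g⁻¹) ∈ P.map π) →
      ∃ n ∈ Subgroup.normalizer (P : Set G), π n = π g := by
    intro P hP g hg
    obtain ⟨o, ho, hn⟩ := exists_normalizer_lift hP hOc (O := O) (g := g) fun x hx => by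
      obtain ⟨y, hy, hyx⟩ := hg x hx
      have h' : y⁻¹ * (g * x * g⁻¹) ∈ O := QuotientGroup.eq.mp hyx
      have := mul_mem (mem_sup_left (T := O) hy) (mem_sup_right (S := P) h')
      rwa [mul_inv_cancel_left] at this
    refine ⟨o * g, hn, ?_⟩
    rw [map_mul, show π o = 1 from (QuotientGroup.eq_one_iff o).mpr ho, one_mul]
  constructor
  · intro h T q
    obtain ⟨S, rfl⟩ : ∃ S : Sylow p G, Sylow.mapSurjective hsurj S = T := Sylow.mapSurjective_surjective hsurj p T
    obtain ⟨g, rfl⟩ := hsurj q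
    obtain ⟨x, hx, c, hc, n, hn, hg⟩ := h S g
    refine ⟨1, one_mem _, π c, ?_, π n, ?_, ?_⟩
    · change π c ∈ centralizer ((zSylow p ((S : Subgroup G).map π) : Subgroup (G ⧸ O)) : Set (G ⧸ O))
      rw [← hZ]
      refine mem_centralizer_iff.mpr ?_
      rintro _ ⟨z, hz, rfl⟩
      rw [← map_mul, ← map_mul, mem_centralizer_iff.mp hc z hz]
    · change π n ∈ Subgroup.normalizer (Cfsg.thompsonSubgroupOf p ((S : Subgroup G).map π) : Set (G ⧸ O))
      rw [← hJ]
      exact Subgroup.le_normalizer_map π ⟨n, hn, rfl⟩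
    · rw [hg, map_mul, map_mul, show π x = 1 from (QuotientGroup.eq_one_iff x).mpr hx]
  · intro h S g
    obtain ⟨x, hx, c, hc, n, hn, hg⟩ := h (Sylow.mapSurjective hsurj S) (π g)
    rw [hObot, mem_bot] at hx
    rw [hx, one_mul] at hg
    obtain ⟨c', rfl⟩ := hsurj c
    obtain ⟨n', rfl⟩ := hsurj n
    change π c' ∈ centralizer ((zSylow p ((S : Subgroup G).map π) : Subgroup (G ⧸ O)) : Set (G ⧸ O)) at hc
    change π n' ∈ Subgroup.normalizer (Cfsg.thompsonSubgroupOf p ((S : Subgroup G).map π) : Set (G ⧸ O)) at hn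
    rw [← hZ] at hc
    rw [← hJ] at hn
    have hZp : IsPGroup p (zSylow p (S : Subgroup G)) := S.2.to_le ((omegaOne_le _).trans inf_le_left)
    have hJp : IsPGroup p (Cfsg.thompsonSubgroupOf p (S : Subgroup G)) := S.2.to_le (thompsonSubgroupOf_le _)
    obtain ⟨c'', hc'', ec⟩ := hlift hZp c' fun z hz => by
      have e : π (c' * z * c'⁻¹) = π z := by
        rw [map_mul, map_mul, map_inv, ← mem_centralizer_iff.mp hc _ (mem_map_of_mem π hz), mul_inv_cancel_right]
      rw [e]
      exact mem_map_of_mem π hz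
    obtain ⟨n'', hn'', en⟩ := hlift hJp n' fun z hz => by
      rw [map_mul, map_mul, map_inv]
      exact (mem_normalizer_iff.mp hn _).mp (mem_map_of_mem π hz)
    refine ⟨g * (c'' * n'')⁻¹, ?_, c'', mem_centralizer_iff.mpr fun z hz => ?_, n'', hn'', by group⟩
    · rw [← QuotientGroup.eq_one_iff]
      change π (g * (c'' * n'')⁻¹) = 1
      rw [map_mul, map_inv, map_mul, ec, en, ← hg, mul_inv_cancel]
    · have h1 : c'' * z * c''⁻¹ ∈ zSylow p (S : Subgroup G) := (mem_normalizer_iff.mp hc'' z).mp hz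
      have h2 : c'' * z * c''⁻¹ = z := heq hZp _ h1 _ hz (by
        rw [map_mul, map_mul, map_inv, ec, ← mem_centralizer_iff.mp hc _ (mem_map_of_mem π hz), mul_inv_cancel_right])
      exact (mul_inv_eq_iff_eq_mul.mp h2).symm


end Cfsg.Agent.S0609
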