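import Cfsg.Statements.S0615
import Cfsg.Agent.PLocal.SubnormalPair
-- import your own Cfsg.Agent.* helpers here

set_option autoImplicit false
open Cfsg
open scoped commutatorElement Pointwise

namespace Cfsg.Agent.S0615

/-- Two subnormal subgroups acting irreducibly on their incomparable commutator modules, in a faithful group with trivial largest normal p-subgroup, generate their direct product, and the commutator module splits accordingly. -/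
theorem result {G : Type*} [Group G] [Finite G] {p : ℕ} [Fact p.Prime] (V E E₁ E₂ : Subgroup G) (hV : Cfsg.IsElementaryAbelian p V) (hEV : E ≤ Subgroup.normalizer (V : Set G)) (hf : E ⊓ Subgroup.centralizer (V : Set G) = ⊥) (hgen : E = E₁ ⊔ E₂) (hs₁ : (E₁.subgroupOf E).IsSubnormal) (hs₂ : (E₂.subgroupOf E).IsSubnormal) (hOp : Cfsg.pCore p ↥E = ⊥) (hirr₁ : (∀ U : Subgroup G, U ≤ ⁅V, E₁⁆ → E₁ ≤ Subgroup.normalizer (U : Set G) → U = ⊥ ∨ U = ⁅V, E₁⁆)) (hirr₂ : (∀ U : Subgroup G, U ≤ ⁅V, E₂⁆ → E₂ ≤ Subgroup.normalizer (U : Set G) → U = ⊥ ∨ U = ⁅V, E₂⁆)) (h12 : ¬ ⁅V, E₁⁆ ≤ ⁅V, E₂⁆) (h21 : ¬ ⁅V, E₂⁆ ≤ ⁅V, E₁⁆) (hc₁ : 2 < Nat.card E₁) (hc₂ : 2 < Nat.card E₂) : ⁅E₁, E₂⁆ = ⊥ ∧ E₁ ⊓ E₂ = ⊥ ∧ ⁅V, E₁⁆ ⊓ ⁅V, E₂⁆ = ⊥ ∧ ⁅V, E⁆ = ⁅V, E₁⁆ ⊔ ⁅V, E₂⁆ := by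
  classical
  have h₁ : E₁ ≤ E := hgen ▸ le_sup_left
  have h₂ : E₂ ≤ E := hgen ▸ le_sup_right
  have pA : CfsgLib.SubnormalPair.Piece p V E E₁ := ⟨h₁, hs₁, hirr₁, hc₁⟩
  have pB : CfsgLib.SubnormalPair.Piece p V E E₂ := ⟨h₂, hs₂, hirr₂, hc₂⟩
  obtain ⟨hW2A, hW1B, hW⟩ := CfsgLib.SubnormalPair.main hV _ E E₁ E₂ rfl hEV hf hOp pA pB h12 h21
  have hcomm : ⁅E₁, E₂⁆ = ⊥ := by
    have := Cfsg.Agent.S0597.result V E hV hEV hf E₁ E₂ h₁ h₂ hs₁ hs₂ hW1B
    rwa [hOp, Subgroup.map_bot, le_bot_iff] at this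
  refine ⟨hcomm, ?_, hW, ?_⟩
  · rw [eq_bot_iff]
    rintro x ⟨hx1, hx2⟩
    refine Subgroup.mem_bot.2 (CfsgLib.SubnormalPair.faithful hV hEV hf hOp pA hx1 fun w hw => ?_)
    rw [Subgroup.mem_centralizer_iff.1 (Subgroup.commutator_eq_bot_iff_le_centralizer.1 hW1B hw) x hx2,
      mul_inv_cancel_right]
  · refine le_antisymm ?_ (sup_le (Subgroup.commutator_mono le_rfl h₁) (Subgroup.commutator_mono le_rfl h₂))
    set W : Subgroup G := ⁅V, E₁⁆ ⊔ ⁅V, E₂⁆ with hWdef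
    have hn : E ≤ Subgroup.normalizer (W : Set G) := by
      have n1 : E ≤ Subgroup.normalizer ((⁅V, E₁⁆ : Subgroup G) : Set G) := hgen.le.trans
        (sup_le (Subgroup.normalizer_commutator_ge_right _ _)
          (le_trans (Subgroup.commutator_eq_bot_iff_le_centralizer.1
            (by rwa [Subgroup.commutator_comm])) (Subgroup.centralizer_le_normalizer _)))
      have n2 : E ≤ Subgroup.normalizer ((⁅V, E₂⁆ : Subgroup G) : Set G) := hgen.le.trans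
        (sup_le (le_trans (Subgroup.commutator_eq_bot_iff_le_centralizer.1
            (by rwa [Subgroup.commutator_comm])) (Subgroup.centralizer_le_normalizer _))
          (Subgroup.normalizer_commutator_ge_right _ _))
      intro e he
      rw [Subgroup.mem_normalizer_iff_map_conj_eq, hWdef, Subgroup.map_sup,
        Subgroup.mem_normalizer_iff_map_conj_eq.1 (n1 he), Subgroup.mem_normalizer_iff_map_conj_eq.1 (n2 he)]
    let T : Subgroup G :=
      { carrier := {c | c ∈ E ∧ ∀ v ∈ V, c * v * c⁻¹ * v⁻¹ ∈ W}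
        one_mem' := ⟨E.one_mem, by simp [Subgroup.one_mem]⟩
        mul_mem' := by
          rintro c d ⟨hc0, hc2⟩ ⟨hd0, hd2⟩
          refine ⟨E.mul_mem hc0 hd0, fun v hv => ?_⟩
          rw [show c * d * v * (c * d)⁻¹ * v⁻¹ =
            c * (d * v * d⁻¹ * v⁻¹) * c⁻¹ * (c * v * c⁻¹ * v⁻¹) by group]
          exact W.mul_mem ((Subgroup.mem_normalizer_iff.1 (hn hc0) _).1 (hd2 v hv)) (hc2 v hv)
        inv_mem' := by
          rintro c ⟨hc0, hc2⟩
          refine ⟨E.inv_mem hc0, fun v hv => ?_⟩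
          have hv' : c⁻¹ * v * c ∈ V := (Subgroup.mem_normalizer_iff''.1 (hEV hc0) v).1 hv
          have := W.inv_mem (hc2 _ hv')
          rw [show (c * (c⁻¹ * v * c) * c⁻¹ * (c⁻¹ * v * c)⁻¹)⁻¹ = c⁻¹ * v * c⁻¹⁻¹ * v⁻¹ by group] at this
          exact this }
    have hT : E ≤ T := hgen.le.trans (sup_le
      (fun a ha => ⟨h₁ ha, fun v hv => Subgroup.mem_sup_left (CfsgLib.SubnormalPair.conj_mul_inv_mem ha hv)⟩)
      (fun a ha => ⟨h₂ ha, fun v hv => Subgroup.mem_sup_right (CfsgLib.SubnormalPair.conj_mul_inv_mem ha hv)⟩))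
    rw [Subgroup.commutator_le]
    intro v hv e he
    have := W.inv_mem ((hT he).2 v hv)
    rw [commutatorElement_def]
    simpa [mul_assoc] using this


end Cfsg.Agent.S0615
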