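import Cfsg.Statements.S0618
import Cfsg.Agent.PLocal.FFTransfer
import Cfsg.Agent.PLocal.Core
-- import your own Cfsg.Agent.* helpers here

set_option autoImplicit false
open Cfsg
open scoped commutatorElement Pointwise

namespace Cfsg.Agent.S0618

/-- A p-separable group with trivial p'-core in which the Thompson factorization fails has p = 2 or 3, and J(G) induces on the normal closure of Ω₁(Z(S)) a group containing a normal SL(2, p). -/
theorem result {G : Type*} [Group G] [Finite G] {p : ℕ} [Fact p.Prime] (hsep : Cfsg.IsPSolvable p G) (hO : Cfsg.pPrimeCore p G = ⊥) (hnf : ¬ Cfsg.IsThompsonFactorizable p G) : (p = 2 ∨ p = 3) ∧ ∃ E : Subgroup G, Subgroup.centralizer ((⨆ S : Sylow p G, Cfsg.omegaOne p ((S : Subgroup G) ⊓ Subgroup.centralizer ((S : Subgroup G) : Set G))) : Set G) ≤ E ∧ E ≤ Cfsg.thompsonSubgroup p G ⊔ Subgroup.centralizer ((⨆ S : Sylow p G, Cfsg.omegaOne p ((S : Subgroup G) ⊓ Subgroup.centralizer ((S : Subgroup G) : Set G))) : Set G) ∧ Cfsg.thompsonSubgroup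 p G ⊔ Subgroup.centralizer ((⨆ S : Sylow p G, Cfsg.omegaOne p ((S : Subgroup G) ⊓ Subgroup.centralizer ((S : Subgroup G) : Set G))) : Set G) ≤ Subgroup.normalizer (E : Set G) ∧ ∃ hn : ((Subgroup.centralizer ((⨆ S : Sylow p G, Cfsg.omegaOne p ((S : Subgroup G) ⊓ Subgroup.centralizer ((S : Subgroup G) : Set G))) : Set G)).subgroupOf E).Normal, Nonempty ((↥E ⧸ (Subgroup.centralizer ((⨆ S : Sylow p G, Cfsg.omegaOne p ((S : Subgroup G) ⊓ Subgroup.centralizer ((S : Subgroup G) : Set G))) : Set G)).subgroupOf E) ≃* Matrix.SpecialLinearGroup (Fin 2) (ZMod p)) := by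
  have e : Subgroup.centralizer ((⨆ S : Sylow p G, Cfsg.omegaOne p ((S : Subgroup G) ⊓ Subgroup.centralizer ((S : Subgroup G) : Set G))) : Set G)
      = Subgroup.centralizer (CfsgLib.PLocalCore.zGen p G : Set G) := by
    rw [CfsgLib.PLocalCore.zGen, Subgroup.iSup_eq_closure, Subgroup.centralizer_closure]
    rfl
  rw [e]
  have hc := CfsgLib.PConstrained.selfCent_of_pSolvable hO (CfsgLib.PConstrained.isPSolvable_comap
    (Subgroup.centralizer (Cfsg.pCore p G : Set G)).subtype (Subgroup.subtype_injective _) hsep)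
  refine CfsgLib.FFTransfer.sl2_normal_of_failure (V := CfsgLib.PLocalCore.zGen p G) hsep
    (CfsgLib.PLocalCore.zGen_elab_of_charP hc)
    (CfsgLib.PLocalCore.pCore_quotient_eq_bot_of_fixed _ (le_antisymm (iSup_le fun S => ?_)
      (iSup_le fun S => inf_le_left)))
    (fun h => hnf ((CfsgLib.PLocalCore.isThompsonFactorizable_iff_le_centralizer hO).mpr h))
  exact le_iSup_of_le S (le_inf (le_iSup (fun T : Sylow p G => CfsgLib.PLocalCore.zSylow p (T : Subgroup G)) S)
    (Subgroup.le_centralizer_iff.mp (CfsgLib.PLocalCore.le_centralizer_zSylow _)))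


end Cfsg.Agent.S0618
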