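import Cfsg.Statements.S0621
import Cfsg.Agent.PLocal.FFCoprime
-- import your own Cfsg.Agent.* helpers here

set_option autoImplicit false
open Cfsg
open scoped commutatorElement Pointwise

namespace Cfsg.Agent.S0621

/-- Let K be p-separable with O_p'(K) = 1, normalized by an elementary abelian q-group X for a prime q not dividing the order of K. If the Thompson factorization fails in K, then p is 2 or 3 and the fixed points of X contain a plane W of order p² and a subgroup inducing SL(2, p) on it. -/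
theorem result {G : Type*} [Group G] [Finite G] {p : ℕ} [Fact p.Prime] {q : ℕ} [Fact q.Prime] (K X : Subgroup G) (hXK : X ≤ Subgroup.normalizer (K : Set G)) (hX : Cfsg.IsElementaryAbelian q X) (hq : ¬ q ∣ Nat.card K) (hsep : Cfsg.IsPSolvable p ↥K) (hO : Cfsg.pPrimeCore p ↥K = ⊥) (hnf : ¬ Cfsg.IsThompsonFactorizable p ↥K) : (p = 2 ∨ p = 3) ∧ ∃ W D : Subgroup G, W ≤ K ⊓ Subgroup.centralizer (X : Set G) ∧ D ≤ K ⊓ Subgroup.centralizer (X : Set G) ∧ Cfsg.IsElementaryAbelian p W ∧ Nat.card W = p ^ 2 ∧ D ≤ Subgroup.normalizer (W : Set G) ∧ ∃ hn : ((Subgroup.centralizer (W : Set G)).subgroupOf D).Normal, Nonempty ((↥D ⧸ (Subgroup.centralizer (W : Set G)).subgroupOf D) ≃* Matrix.SpecialLinearGroup (Fin 2) (ZMod p)) := by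
  by_cases hpq : p = q
  · haveI := CfsgLib.FFCoprime.subsingleton_of_eq hq hpq hO
    exact absurd (fun S g => ⟨1, one_mem _, 1, one_mem _, 1, one_mem _, Subsingleton.elim _ _⟩) hnf
  obtain ⟨h1, h2, h3, h4⟩ := CfsgLib.FFCoprime.ambient_setup hXK hX hpq
  haveI := CfsgLib.FFCoprime.zV_normal (p := p) _ (Subgroup.inclusion_injective (le_sup_left : K ≤ K ⊔ X)) h1
  obtain ⟨hp, W, D, hW, hWc, hWX, hDX, hDW, f, hf, hfk⟩ := CfsgLib.FFCoprime.exists_plane
    (Subgroup.inclusion (le_sup_left : K ≤ K ⊔ X)) (Subgroup.inclusion_injective _) h1 h2 hsep hO h3 hq hnf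
  rw [h4] at hWX hDX
  refine ⟨hp, W.map K.subtype, D.map K.subtype,
    le_inf (Subgroup.map_subtype_le _) (Subgroup.map_le_iff_le_comap.mpr hWX),
    le_inf (Subgroup.map_subtype_le _) (Subgroup.map_le_iff_le_comap.mpr hDX),
    CfsgLib.Thompson.elab_map _ hW, by rw [Subgroup.card_map_of_injective K.subtype_injective, hWc],
    (Subgroup.map_mono hDW).trans (Subgroup.le_normalizer_map _), ?_⟩
  let e := D.equivMapOfInjective K.subtype K.subtype_injective
  have hk : (f.comp e.symm.toMonoidHom).ker =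
      (Subgroup.centralizer ((W.map K.subtype : Subgroup G) : Set G)).subgroupOf (D.map K.subtype) := by
    rw [← MonoidHom.comap_ker, hfk]
    ext z
    obtain ⟨d, rfl⟩ := e.surjective z
    rw [Subgroup.mem_comap, MulEquiv.coe_toMonoidHom, e.symm_apply_apply, Subgroup.mem_subgroupOf,
      Subgroup.mem_subgroupOf, Subgroup.mem_centralizer_iff, Subgroup.mem_centralizer_iff]
    refine ⟨?_, fun h y hy => Subtype.ext (h _ (Subgroup.mem_map_of_mem K.subtype hy))⟩
    rintro h _ ⟨y, hy, rfl⟩
    exact congrArg Subtype.val (h y hy)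
  haveI hn' : ((Subgroup.centralizer ((W.map K.subtype : Subgroup G) : Set G)).subgroupOf (D.map K.subtype)).Normal :=
    hk ▸ MonoidHom.normal_ker _
  refine ⟨hn', ⟨?_⟩⟩
  exact (QuotientGroup.quotientMulEquivOfEq hk.symm).trans
    (QuotientGroup.quotientKerEquivOfSurjective _ (hf.comp e.symm.surjective))


end Cfsg.Agent.S0621
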