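import Cfsg.Statements.S0625
import Cfsg.Agent.PLocal.ActionStable
import Cfsg.Agent.ZJ.SL2Facts
-- import your own Cfsg.Agent.* helpers here

set_option autoImplicit false
open Cfsg
open scoped commutatorElement Pointwise

namespace Cfsg.Agent.S0625

/-- A p-separable group with p at least 5 is p-stable in the action sense. -/
theorem result {G : Type*} [Group G] [Finite G] {p : ℕ} [Fact p.Prime] (hp : 5 ≤ p) (hsep : Cfsg.IsPSolvable p G) : Cfsg.IsActionPStable p G := by
  refine CfsgLib.ActionStable.isActionPStable_of_sl2free (by omega) fun K f hf => ?_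
  obtain ⟨n, C, h0, hl, hm, hn, hs⟩ := hsep
  have h3 : p = 3 := CfsgLib.ZJ.eq_three_of_chain (by omega) C h0 hl hn
    (fun i => ⟨(C i.castSucc).relIndex (C i.succ), fun x hx => ?_, hs i⟩) K f hf
  · omega
  · haveI : ((C i.castSucc).subgroupOf (C i.succ)).Normal := (hn i.castSucc).subgroupOf _
    exact Subgroup.mem_subgroupOf.mp (Subgroup.pow_index_mem ((C i.castSucc).subgroupOf (C i.succ)) ⟨x, hx⟩)


end Cfsg.Agent.S0625
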