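import Cfsg.Statements.S0629
import Cfsg.Agent.PLocal.PConstrained
-- import your own Cfsg.Agent.* helpers here

set_option autoImplicit false
open Cfsg
open scoped commutatorElement Pointwise

namespace Cfsg.Agent.S0629

/-- A group in which the centralizer of a Sylow p-subgroup of O_{p',p}(G) is p-solvable is p-constrained. -/
theorem result {G : Type*} [Group G] [Finite G] {p : ℕ} [Fact p.Prime] (P : Sylow p ↥(Cfsg.pPrimePCore p G)) (hsol : Cfsg.IsPSolvable p ↥(Subgroup.centralizer (((P : Subgroup ↥(Cfsg.pPrimePCore p G)).map (Cfsg.pPrimePCore p G).subtype : Subgroup G) : Set G))) : Cfsg.IsPConstrained p G := by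
  rw [CfsgLib.PConstrained.isPConstrained_iff]
  set f := QuotientGroup.mk' (Cfsg.pPrimeCore p G) with hf
  set P' : Subgroup G := (P : Subgroup ↥(Cfsg.pPrimePCore p G)).map (Cfsg.pPrimePCore p G).subtype
  have hR : P'.map f = Cfsg.pCore p (G ⧸ Cfsg.pPrimeCore p G) := CfsgLib.PConstrained.map_sylow_eq P
  have hle : (Subgroup.centralizer (P' : Set G)).map f =
      Subgroup.centralizer (Cfsg.pCore p (G ⧸ Cfsg.pPrimeCore p G) : Set (G ⧸ Cfsg.pPrimeCore p G)) := by
    rw [← hR]
    refine le_antisymm ?_ fun y hy => ?_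
    · rintro _ ⟨x, hx, rfl⟩
      refine Subgroup.mem_centralizer_iff.2 ?_
      rintro _ ⟨r, hr, rfl⟩
      rw [← map_mul, ← map_mul, Subgroup.mem_centralizer_iff.1 hx r hr]
    · obtain ⟨x, rfl⟩ := QuotientGroup.mk'_surjective (Cfsg.pPrimeCore p G) y
      obtain ⟨n, hn, hnx⟩ := CfsgLib.ZJ.exists_mul_mem_centralizer (N := Cfsg.pPrimeCore p G)
        (P := P') (P.2.map _) (CfsgLib.Solvable.coprime_card_pPrimeCore p) (g := x) (fun r hr => by
          rw [← QuotientGroup.eq_one_iff]
          change f (x * r * x⁻¹ * r⁻¹) = 1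
          rw [map_mul, map_mul, map_mul, map_inv, map_inv,
            ← Subgroup.mem_centralizer_iff.1 hy (f r) ⟨r, hr, rfl⟩, mul_inv_cancel_right, mul_inv_cancel])
      exact ⟨n * x, hnx, by rw [map_mul, (QuotientGroup.eq_one_iff n).2 hn |> (show f n = 1 from ·), one_mul]⟩
  refine CfsgLib.PConstrained.selfCent_of_pSolvable (CfsgLib.Fitting.pPrimeCore_quotient_eq_bot p) ?_
  rw [← hle]
  exact CfsgLib.PConstrained.isPSolvable_map (f.subgroupMap _) (f.subgroupMap_surjective _) hsol


end Cfsg.Agent.S0629
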