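import Cfsg.Statements.S0630
import Cfsg.Agent.PLocal.PConstrained
-- import your own Cfsg.Agent.* helpers here

set_option autoImplicit false
open Cfsg
open scoped commutatorElement Pointwise

namespace Cfsg.Agent.S0630

/-- p-constraint passes to and from the quotient by the largest normal subgroup of order prime to p. -/
theorem result {G : Type*} [Group G] [Finite G] {p : ℕ} [Fact p.Prime] : Cfsg.IsPConstrained p G ↔ Cfsg.IsPConstrained p (G ⧸ Cfsg.pPrimeCore p G) := by
  rw [CfsgLib.PConstrained.isPConstrained_iff, CfsgLib.PConstrained.isPConstrained_iff]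
  have h0 := CfsgLib.Fitting.pPrimeCore_quotient_eq_bot (G := G) p
  let e : (G ⧸ Cfsg.pPrimeCore p G) ≃* (G ⧸ Cfsg.pPrimeCore p G) ⧸ Cfsg.pPrimeCore p (G ⧸ Cfsg.pPrimeCore p G) :=
    (QuotientGroup.quotientBot.symm).trans (QuotientGroup.quotientMulEquivOfEq h0.symm)
  exact ⟨fun h => h.of_equiv e, fun h => h.of_equiv e.symm⟩


end Cfsg.Agent.S0630
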