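import Cfsg.Statements.S0633
import Cfsg.Agent.HallHigman.TheoremB
import Cfsg.Agent.FGSA.AbelianSylowLength
-- import your own Cfsg.Agent.* helpers here

set_option autoImplicit false
open Cfsg
open scoped commutatorElement Pointwise

namespace Cfsg.Agent.S0633

/-- Theorem B of Hall and Higman on the minimal polynomial of a p-element of order p^n in a p-solvable linear group on a nonzero vector space in characteristic p with no nontrivial normal p-subgroup: its degree is p^n, except when some p^n₀ - 1 (n₀ ≤ n) is a power of a prime q for which the Sylow q-subgroups are non-abelian, in which case the degree is at least p^(n-n₀)(p^n₀ - 1). -/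
theorem result {F : Type*} [Field F] {p : ℕ} [Fact p.Prime] [CharP F p] {V : Type*} [AddCommGroup V] [Module F V] [FiniteDimensional F V] [Nontrivial V] (H : Subgroup (V ≃ₗ[F] V)) [Finite H] (hsol : Cfsg.IsPSolvable p H) (hOp : Cfsg.pCore p H = ⊥) (x : V ≃ₗ[F] V) (hx : x ∈ H) (n : ℕ) (hn : orderOf x = p ^ n) (r : ℕ) (hr : minpoly F (x : Module.End F V) = (Polynomial.X - 1) ^ r) : r = p ^ n ∨ ∃ n₀ q m : ℕ, 1 ≤ n₀ ∧ n₀ ≤ n ∧ q.Prime ∧ 1 ≤ m ∧ p ^ n₀ - 1 = q ^ m ∧ (∀ Q : Sylow q H, ¬ IsMulCommutative Q) ∧ p ^ (n - n₀) * (p ^ n₀ - 1) ≤ r := by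
    classical
    have hp : p.Prime := Fact.out
    set xE : Module.End F V := (x : Module.End F V) with hxE
    let ι : (V ≃ₗ[F] V) →* Module.End F V := LinearEquiv.automorphismGroup.toLinearMapMonoidHom
    have hxpow : x ^ p ^ n = 1 := hn ▸ pow_orderOf_eq_one x
    haveI : Nontrivial (Module.End F V) := inferInstance
    haveI : CharP (Polynomial F) p := inferInstance
    have hroot : (xE - 1) ^ r = 0 := by
      have h := minpoly.aeval F xE
      rwa [hr, map_pow, map_sub, Polynomial.aeval_X, map_one] at h
    have hrle : r ≤ p ^ n := by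
      have hd : minpoly F xE ∣ (Polynomial.X - 1) ^ p ^ n := by
        refine minpoly.dvd F xE ?_
        rw [sub_pow_char_pow, one_pow, map_sub, map_pow, Polynomial.aeval_X, map_one]
        have : ι x ^ p ^ n = 1 := by rw [← map_pow, hxpow, map_one]
        rw [show xE = ι x from rfl, this, sub_self]
      rw [hr] at hd
      have hne : ((Polynomial.X - 1 : Polynomial F) ^ p ^ n) ≠ 0 :=
        pow_ne_zero _ (by simpa using Polynomial.X_sub_C_ne_zero (1 : F))
      have h1 := Polynomial.natDegree_le_of_dvd hd hne
      rwa [Polynomial.natDegree_pow, Polynomial.natDegree_pow,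
        show (Polynomial.X - 1 : Polynomial F) = Polynomial.X - Polynomial.C 1 by simp,
        Polynomial.natDegree_X_sub_C, mul_one, mul_one] at h1
    rcases Nat.eq_zero_or_pos n with rfl | hn1
    · refine Or.inl (le_antisymm hrle ?_)
      rw [pow_zero]
      by_contra h
      rw [show r = 0 by omega, pow_zero] at hroot
      exact one_ne_zero hroot
    -- a prime whose invariant Sylow subgroup is moved
    set x' : H := ⟨x, hx⟩ with hx'
    set y : H := x' ^ p ^ (n - 1) with hy
    have hyo : orderOf y = p := by
      rw [hy, orderOf_pow' _ (pow_pos hp.pos _).ne', hx', Subgroup.orderOf_mk, hn,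
        Nat.gcd_eq_right (pow_dvd_pow p (by omega : n - 1 ≤ n)),
        Nat.pow_div (by omega) hp.pos, show n - (n - 1) = 1 by omega, pow_one]
    have hself := CfsgLib.FGSA.AbelianSylow.centralizer_pPrimeCore_le hOp hsol
    set K0 := Cfsg.pPrimeCore p H with hK0
    haveI : K0.Normal := CfsgLib.Solvable.pPrimeCore_normal p
    have hcopK := CfsgLib.Solvable.coprime_card_pPrimeCore (p := p) (G := H)
    have hxord : orderOf x' = p ^ n := by rw [hx', Subgroup.orderOf_mk, hn]
    set A := Subgroup.zpowers x' with hA
    have hAK : A ≤ Subgroup.normalizer (K0 : Set H) := by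
      rw [Subgroup.normalizer_eq_top]; exact le_top
    have hcop : (Nat.card A).Coprime (Nat.card K0) := by
      rw [hA, Nat.card_zpowers, hxord]
      exact (hcopK.symm).pow_left n
    have hex : ∃ q, ∃ _ : Fact q.Prime, ∃ P : Sylow q K0,
        A ≤ Subgroup.normalizer ((P : Subgroup K0).map K0.subtype : Set H) ∧
        ¬ (P : Subgroup K0).map K0.subtype ≤ Subgroup.centralizer {y} := by
      by_contra hno
      push Not at hno
      have hle : K0 ≤ Subgroup.centralizer {y} := by
        set C := K0 ⊓ Subgroup.centralizer {y} with hC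
        have hdvd : Nat.card K0 ∣ Nat.card C := by
          refine (Nat.dvd_iff_prime_pow_dvd_dvd _ _).2 fun q e hq hqe => ?_
          haveI : Fact q.Prime := ⟨hq⟩
          obtain ⟨P, hP⟩ := CfsgLib.CoprimeAct.exists_invariant_sylow hAK hcop
            (Or.inl (by haveI : IsMulCommutative A := inferInstance; infer_instance)) q
          have h1 : (P : Subgroup K0).map K0.subtype ≤ C :=
            le_inf (Subgroup.map_subtype_le _) (hno q ⟨hq⟩ P hP)
          refine dvd_trans ?_ (Subgroup.card_dvd_of_le h1)
          rw [Subgroup.card_map_of_injective K0.subtype_injective]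
          exact P.pow_dvd_card_of_pow_dvd_card hqe
        have : C = K0 := Subgroup.eq_of_le_of_card_ge inf_le_left
          (Nat.le_of_dvd Nat.card_pos hdvd)
        exact this ▸ inf_le_right
      have hyK : y ∈ K0 := hself (Subgroup.mem_centralizer_iff.2 fun k hk =>
        Subgroup.mem_centralizer_singleton_iff.1 (hle hk))
      have h1 : p ∣ Nat.card K0 := hyo ▸ K0.orderOf_dvd_natCard hyK
      exact hp.ne_one (Nat.eq_one_of_dvd_coprimes hcopK h1 dvd_rfl)
    obtain ⟨q, hq, P, hPn, hPy⟩ := hex
    set Q := (P : Subgroup K0).map K0.subtype with hQdef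
    have hQ : IsPGroup q Q := P.2.map _
    have hpq : p ≠ q := by
      rintro rfl
      apply hPy
      have h1 : Nat.card (P : Subgroup K0) = 1 := by
        obtain ⟨k, hk⟩ := IsPGroup.iff_card.1 P.2
        rcases Nat.eq_zero_or_pos k with rfl | hk0
        · simpa using hk
        · exfalso
          refine hp.ne_one (Nat.eq_one_of_dvd_coprimes hcopK ?_ dvd_rfl)
          exact ((dvd_pow_self p hk0.ne').trans hk.symm.dvd).trans
            (Subgroup.card_subgroup_dvd_card _)
      rw [Subgroup.eq_bot_of_card_eq _ h1] at hQdef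
      rw [hQdef, Subgroup.map_bot]
      exact bot_le
    -- the representation over the algebraic closure
    let K := AlgebraicClosure F
    haveI : CharP K p := charP_of_injective_algebraMap (algebraMap F K).injective p
    let b := Module.finBasis F V
    let d := Module.finrank F V
    let M : (V ≃ₗ[F] V) →* Module.End K (Fin d → K) :=
      ((Matrix.toLinAlgEquiv' (R := K) (n := Fin d)).toMonoidHom.comp
        ((algebraMap F K).mapMatrix (m := Fin d)).toMonoidHom).comp
          ((LinearMap.toMatrixAlgEquiv b).toMonoidHom.comp ι)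
    have hMinj : Function.Injective M := by
      intro u v huv
      have h1 := Matrix.toLinAlgEquiv'.injective huv
      have h2 := (LinearMap.toMatrixAlgEquiv b).injective
        (Matrix.map_injective (algebraMap F K).injective h1)
      exact LinearEquiv.toLinearMap_injective h2
    let ρ : Representation K H (Fin d → K) := M.comp H.subtype
    have hρinj : Function.Injective ρ := hMinj.comp H.subtype_injective
    have hρr : (ρ x' - 1) ^ r = 0 := by
      let f : Module.End F V →+* Module.End K (Fin d → K) :=
        ((Matrix.toLinAlgEquiv' (R := K) (n := Fin d)).toRingEquiv.toRingHom.comp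
          ((algebraMap F K).mapMatrix (m := Fin d))).comp
            (LinearMap.toMatrixAlgEquiv b).toRingEquiv.toRingHom
      have h := congrArg f hroot
      rw [map_pow, map_sub, map_one, map_zero] at h
      exact h
    have hmv : CfsgLib.HallHigman.Moves ρ Q y := by
      by_contra hno
      apply hPy
      intro g hg
      rw [Subgroup.mem_centralizer_singleton_iff]
      by_contra hne
      refine hno ⟨g, hg, fun h => hne ?_⟩
      rw [← map_one ρ] at h
      exact mul_inv_eq_iff_eq_mul.1 (mul_inv_eq_one.1 (hρinj h))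
    have hres := CfsgLib.HallHigman.hallHigmanB (K := K) (p := p) (q := q) hpq n hn1 H (Fin d → K) ρ Q x' hQ
      (hPn (Subgroup.mem_zpowers x')) (Subtype.ext (by simpa [hx'] using hxpow)) hmv r hρr
    rcases hres with h | ⟨n₀, m, h1, h2, h3, h4, h5, a, ha, c, hc, hne⟩
    · exact Or.inl (le_antisymm hrle h)
    · refine Or.inr ⟨n₀, q, m, h1, h2, hq.out, h3, h4, fun S hS => hne ?_, h5⟩
      obtain ⟨S', hS'⟩ := hQ.exists_le_sylow
      obtain ⟨g, hg⟩ := MulAction.exists_smul_eq H S' S
      have hmem : ∀ t ∈ Q, g * t * g⁻¹ ∈ (S : Subgroup H) := fun t ht => by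
        rw [← hg, Sylow.coe_subgroup_smul]
        exact ⟨t, hS' ht, rfl⟩
      have h6 := congrArg Subtype.val
        (hS.is_comm.comm ⟨_, hmem a ha⟩ ⟨_, hmem c hc⟩)
      simp only [Subgroup.coe_mul] at h6
      calc a * c = g⁻¹ * ((g * a * g⁻¹) * (g * c * g⁻¹)) * g := by group
        _ = g⁻¹ * ((g * c * g⁻¹) * (g * a * g⁻¹)) * g := by rw [h6]
        _ = c * a := by group


end Cfsg.Agent.S0633
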