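import Cfsg.Statements.S0634
import Cfsg.Agent.PLocal.PConstrained
import Cfsg.Agent.FGSA.PLengthSeries
-- import your own Cfsg.Agent.* helpers here

set_option autoImplicit false
open Cfsg
open scoped commutatorElement Pointwise

namespace Cfsg.Agent.S0634

/-- In a p-soluble group each p-factor of the upper p-series contains its own centralizer in the corresponding quotient. -/
theorem result {G : Type*} [Group G] [Finite G] {p : ℕ} [Fact p.Prime] (hsol : Cfsg.IsPSolvable p G) (k : ℕ) : Subgroup.centralizer ((((Cfsg.upperPSeries p G (2 * k + 2)).1.map (QuotientGroup.mk' (Cfsg.upperPSeries p G (2 * k + 1)).1)) : Subgroup (G ⧸ (Cfsg.upperPSeries p G (2 * k + 1)).1)) : Set (G ⧸ (Cfsg.upperPSeries p G (2 * k + 1)).1)) ≤ (Cfsg.upperPSeries p G (2 * k + 2)).1.map (QuotientGroup.mk' (Cfsg.upperPSeries p G (2 * k + 1)).1) := by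
  set U := (Cfsg.upperPSeries p G (2 * k + 1)).1 with hU
  set W := (Cfsg.upperPSeries p G (2 * k)).1 with hW
  have h2 : (Cfsg.upperPSeries p G (2 * k + 2)).1 =
      (Cfsg.pCore p (G ⧸ U)).comap (QuotientGroup.mk' U) := by
    change (Cfsg.upperPSeries p G (2 * k + 1 + 1)).1 = _
    rw [Cfsg.upperPSeries, if_neg (by simp)]
  have h1 : U = (Cfsg.pPrimeCore p (G ⧸ W)).comap (QuotientGroup.mk' W) := by
    rw [hU, Cfsg.upperPSeries, if_pos (by simp)]
  rw [h2, Subgroup.map_comap_eq_self_of_surjective (QuotientGroup.mk'_surjective U)]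
  refine CfsgLib.PConstrained.selfCent_of_pSolvable ?_ ?_
  · set Y := (Cfsg.pPrimeCore p (G ⧸ U)).comap (QuotientGroup.mk' U) with hY
    have hYU : Y ≤ U := by
      rw [h1, ← Subgroup.map_le_iff_le_comap]
      refine CfsgLib.Solvable.le_pPrimeCore p
        (((CfsgLib.Solvable.pPrimeCore_normal p).comap _).map _ (QuotientGroup.mk'_surjective W)) ?_
      have e1 : Nat.card (Y.map (QuotientGroup.mk' W)) = W.relIndex Y := by
        rw [← Subgroup.relIndex_ker, QuotientGroup.ker_mk']
      have hWU : W ≤ U := h1 ▸ fun x hx => by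
        rw [Subgroup.mem_comap]
        have h3 : QuotientGroup.mk' W x = 1 := (QuotientGroup.eq_one_iff x).2 hx
        rw [h3]; exact one_mem _
      have hUY : U ≤ Y := fun x hx => by
        rw [hY, Subgroup.mem_comap]
        have h3 : QuotientGroup.mk' U x = 1 := (QuotientGroup.eq_one_iff x).2 hx
        rw [h3]; exact one_mem _
      rw [e1, ← Subgroup.relIndex_mul_relIndex W U Y hWU hUY]
      have e2 : W.relIndex U = Nat.card (U.map (QuotientGroup.mk' W)) := by
        rw [← Subgroup.relIndex_ker, QuotientGroup.ker_mk']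
      have e3 : U.relIndex Y = Nat.card (Y.map (QuotientGroup.mk' U)) := by
        rw [← Subgroup.relIndex_ker, QuotientGroup.ker_mk']
      have e4 : U.map (QuotientGroup.mk' W) = Cfsg.pPrimeCore p (G ⧸ W) := by
        rw [h1, Subgroup.map_comap_eq_self_of_surjective (QuotientGroup.mk'_surjective W)]
      rw [e2, e3, e4, hY, Subgroup.map_comap_eq_self_of_surjective (QuotientGroup.mk'_surjective U)]
      exact Nat.Coprime.mul_left (CfsgLib.Solvable.coprime_card_pPrimeCore p)
        (CfsgLib.Solvable.coprime_card_pPrimeCore p)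
    rw [← Subgroup.map_comap_eq_self_of_surjective (QuotientGroup.mk'_surjective U) (Cfsg.pPrimeCore p (G ⧸ U)),
      Subgroup.map_eq_bot_iff, QuotientGroup.ker_mk']
    exact hYU
  · exact CfsgLib.PConstrained.isPSolvable_comap (Subgroup.subtype _) (Subgroup.subtype_injective _)
      (CfsgLib.PConstrained.isPSolvable_map (QuotientGroup.mk' U) (QuotientGroup.mk'_surjective U) hsol)


end Cfsg.Agent.S0634
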