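import Cfsg.Statements.S0635
import Cfsg.Agent.S0634
import Cfsg.Agent.Solvable.Fitting
-- import your own Cfsg.Agent.* helpers here

set_option autoImplicit false
open Cfsg
open scoped commutatorElement Pointwise

namespace Cfsg.Agent.S0635

/-- The p-length of a p-soluble group is at most the nilpotency class of its Sylow p-subgroups. -/
theorem result {G : Type*} [Group G] [Finite G] {p : ℕ} [Fact p.Prime] (hsol : Cfsg.IsPSolvable p G) (S : Sylow p G) : Cfsg.PLengthLE p (Group.nilpotencyClass ↥(S : Subgroup G)) G := by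
  have hp : p.Prime := Fact.out
  haveI : Group.IsNilpotent (S : Subgroup G) := S.2.isNilpotent
  set U := fun j => (Cfsg.upperPSeries p G j).1 with hU
  have hle : ∀ j, U j ≤ U (j + 1) := by
    intro j x hx
    simp only [hU, Cfsg.upperPSeries]
    split <;>
      · simp only [Subgroup.mem_comap]
        have h3 : QuotientGroup.mk' (Cfsg.upperPSeries p G j).1 x = 1 := (QuotientGroup.eq_one_iff x).2 hx
        rw [h3]; exact one_mem _
  have hU2 : ∀ k, U (2 * k + 2) = (Cfsg.pCore p (G ⧸ U (2 * k + 1))).comap (QuotientGroup.mk' (U (2 * k + 1))) := by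
    intro k
    change (Cfsg.upperPSeries p G (2 * k + 1 + 1)).1 = _
    rw [Cfsg.upperPSeries, if_neg (by simp)]
  have key : ∀ k, (Subgroup.upperCentralSeries (S : Subgroup G) k).map (S : Subgroup G).subtype ≤ U (2 * k) := by
    intro k
    induction k with
    | zero => simp
    | succ k ih =>
      rintro _ ⟨x, hx, rfl⟩
      rw [show 2 * (k + 1) = 2 * k + 2 by ring, hU2, Subgroup.mem_comap]
      have hS := Cfsg.Agent.S0634.result hsol k
      have h2 : (Cfsg.upperPSeries p G (2 * k + 2)).1.map (QuotientGroup.mk' (Cfsg.upperPSeries p G (2 * k + 1)).1) =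
          Cfsg.pCore p (G ⧸ (Cfsg.upperPSeries p G (2 * k + 1)).1) := by
        rw [show (Cfsg.upperPSeries p G (2 * k + 2)).1 = _ from hU2 k]
        exact Subgroup.map_comap_eq_self_of_surjective (QuotientGroup.mk'_surjective _) _
      rw [h2] at hS
      refine hS (Subgroup.mem_centralizer_iff.2 fun r hr => ?_)
      have hr' : r ∈ (S : Subgroup G).map (QuotientGroup.mk' (Cfsg.upperPSeries p G (2 * k + 1)).1) := by
        have := CfsgLib.Fitting.pCore_le_sylow (S.mapSurjective (QuotientGroup.mk'_surjective (Cfsg.upperPSeries p G (2 * k + 1)).1)) hr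
        exact this
      obtain ⟨s, hs, rfl⟩ := hr'
      have hc : (x : G) * s * (x : G)⁻¹ * s⁻¹ ∈ U (2 * k + 1) :=
        hle _ (ih ⟨_, Subgroup.mem_upperCentralSeries_succ_iff.1 hx ⟨s, hs⟩, rfl⟩)
      have h3 : QuotientGroup.mk' (Cfsg.upperPSeries p G (2 * k + 1)).1 ((x : G) * s * (x : G)⁻¹ * s⁻¹) = 1 :=
        (QuotientGroup.eq_one_iff _).2 hc
      rw [map_mul, map_mul, map_mul, map_inv, map_inv, mul_inv_eq_one, mul_inv_eq_iff_eq_mul] at h3
      exact h3.symm
  set c := Group.nilpotencyClass (S : Subgroup G) with hc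
  have hS : (S : Subgroup G) ≤ U (2 * c) := by
    refine le_trans ?_ (key c)
    rw [hc, Subgroup.upperCentralSeries_nilpotencyClass, ← MonoidHom.range_eq_map, Subgroup.range_subtype]
  change U (2 * c + 1) = ⊤
  change (Cfsg.upperPSeries p G (2 * c + 1)).1 = ⊤
  rw [Cfsg.upperPSeries, if_pos (by simp)]
  simp only
  rw [← Subgroup.comap_top (QuotientGroup.mk' (Cfsg.upperPSeries p G (2 * c)).1)]
  congr 1
  refine top_le_iff.1 (CfsgLib.Solvable.le_pPrimeCore p inferInstance ?_)
  rw [Subgroup.card_top, ← Subgroup.index_eq_card]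
  refine Nat.Coprime.coprime_dvd_left (Subgroup.index_dvd_of_le hS) ?_
  exact ((Nat.Prime.coprime_iff_not_dvd hp).2 S.not_dvd_index).symm


end Cfsg.Agent.S0635
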