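import Cfsg.Statements.S0642
import Mathlib
-- import your own Cfsg.Agent.* helpers here

set_option autoImplicit false
open Cfsg

namespace Cfsg.Agent.S0642

/-- Among finite 2-groups the regular ones are exactly the abelian ones. -/
theorem result {G : Type*} [Group G] [Finite G] (hG : IsPGroup 2 G) : Cfsg.IsRegularPGroup 2 G ↔ ∀ a b : G, a * b = b * a := by
  open Subgroup in
  open scoped commutatorElement in
  constructor
  · intro h a b
    obtain ⟨c, hc, e⟩ := h.2 a b 1
    set K := Subgroup.closure ({a, b} : Set G) with hK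
    set D := ⁅K, K⁆ with hD
    set E := Cfsg.powerClosure 2 1 D with hE
    have ha : a ∈ K := subset_closure (by simp)
    have hb : b ∈ K := subset_closure (by simp)
    have hED : E ≤ D := (closure_le _).mpr (by rintro _ ⟨x, hx, rfl⟩; exact D.pow_mem hx _)
    have hEK : ∀ k ∈ K, ∀ x ∈ E, k * x * k⁻¹ ∈ E := by
      intro k hk x hx
      have hDK : D.map (MulAut.conj k).toMonoidHom ≤ D := by
        rw [hD, map_commutator]
        have : K.map (MulAut.conj k).toMonoidHom ≤ K := by
          rintro _ ⟨y, hy, rfl⟩; exact K.mul_mem (K.mul_mem hk hy) (K.inv_mem hk)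
        exact commutator_mono this this
      have : E.map (MulAut.conj k).toMonoidHom ≤ E := by
        rw [hE, Cfsg.powerClosure, MonoidHom.map_closure, closure_le]
        rintro _ ⟨_, ⟨y, hy, rfl⟩, rfl⟩
        exact subset_closure ⟨_, hDK (mem_map_of_mem _ hy), map_pow _ _ _⟩
      exact this ⟨x, hx, rfl⟩
    have hgen : ∀ x ∈ ({a, b} : Set G), ∀ y ∈ ({a, b} : Set G), ⁅x, y⁆ ∈ E := by
      have hba : ⁅b, a⁆ ∈ E := by
        have h1 : a * b * (a * b) = a * a * (b * b) * c := by simpa [pow_two] using e
        have hba' : b * a = a * b * (b * c * b⁻¹) := by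
          calc b * a = a⁻¹ * (a * b * (a * b)) * b⁻¹ := by group
            _ = a⁻¹ * (a * a * (b * b) * c) * b⁻¹ := by rw [h1]
            _ = _ := by group
        have h2 : ⁅b, a⁆ = (a * b) * (b * c * b⁻¹) * (a * b)⁻¹ := by
          rw [commutatorElement_def, hba']; group
        rw [h2]
        exact hEK _ (K.mul_mem ha hb) _ (hEK _ hb _ hc)
      rintro x (rfl | rfl) y (rfl | rfl)
      · simp
      · rw [← commutatorElement_inv]; exact inv_mem hba
      · exact hba
      · simp
    have hright : ∀ x ∈ ({a, b} : Set G), ∀ y ∈ K, ⁅x, y⁆ ∈ E := by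
      intro x hx y hy
      induction hy using Subgroup.closure_induction with
      | mem y hy => exact hgen x hx y hy
      | one => simp
      | mul y z hy _ ihy ihz =>
        rw [show ⁅x, y * z⁆ = ⁅x, y⁆ * (y * ⁅x, z⁆ * y⁻¹) by simp only [commutatorElement_def]; group]
        exact mul_mem ihy (hEK y hy _ ihz)
      | inv y hy ihy =>
        rw [show ⁅x, y⁻¹⁆ = y⁻¹ * ⁅x, y⁆⁻¹ * y⁻¹⁻¹ by simp only [commutatorElement_def]; group]
        exact hEK _ (K.inv_mem hy) _ (inv_mem ihy)
    have hDE : D ≤ E := commutator_le.mpr fun x hx y hy => by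
      induction hx using Subgroup.closure_induction with
      | mem x hx => exact hright x hx y hy
      | one => simp
      | mul x z hx _ ihx ihz =>
        rw [show ⁅x * z, y⁆ = (x * ⁅z, y⁆ * x⁻¹) * ⁅x, y⁆ by simp only [commutatorElement_def]; group]
        exact mul_mem (hEK x hx _ ihz) ihx
      | inv x hx ihx =>
        rw [show ⁅x⁻¹, y⁆ = x⁻¹ * ⁅x, y⁆⁻¹ * x⁻¹⁻¹ by simp only [commutatorElement_def]; group]
        exact hEK _ (K.inv_mem hx) _ (inv_mem ihx)
    have hDbot : D = ⊥ := by
      by_contra hne
      have h2 : Fact (Nat.Prime 2) := ⟨Nat.prime_two⟩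
      obtain ⟨j, hj⟩ := IsPGroup.iff_card.mp (hG.to_subgroup D)
      have h1 : 1 < Nat.card D := (one_lt_card_iff_ne_bot D).mpr hne
      obtain ⟨i, rfl⟩ : ∃ i, j = i + 1 := ⟨j - 1, by rcases j with _ | i <;> simp_all⟩
      obtain ⟨M, hM⟩ := Sylow.exists_subgroup_card_pow_prime 2 (G := D) (n := i) (hj ▸ pow_dvd_pow 2 (Nat.le_succ i))
      have hidx : M.index = 2 := by
        have := M.card_mul_index
        rw [hM, hj, pow_succ] at this
        exact Nat.eq_of_mul_eq_mul_left (by positivity) this
      have hEM : E ≤ M.map D.subtype := (closure_le _).mpr (by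
        rintro _ ⟨x, hx, rfl⟩
        refine ⟨⟨x, hx⟩ ^ (2 : ℕ), Subgroup.sq_mem_of_index_two hidx _, ?_⟩
        simp)
      have hMD : M.map D.subtype < D := by
        refine lt_of_le_of_ne (map_subtype_le M) fun he => ?_
        have := congrArg (fun L : Subgroup G => Nat.card L) he
        rw [card_map_of_injective D.subtype_injective, hM, hj, pow_succ] at this
        have : 0 < 2 ^ i := by positivity
        omega
      exact (lt_of_le_of_lt (hDE.trans hEM) hMD).false
    have := commutator_mem_commutator ha hb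
    rw [← hD, hDbot, mem_bot] at this
    exact commutatorElement_eq_one_iff_mul_comm.mp this
  · intro h
    refine ⟨hG, fun a b n => ⟨1, one_mem _, by rw [mul_one, (show Commute a b from h a b).mul_pow]⟩⟩


end Cfsg.Agent.S0642
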