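import Cfsg.Statements.S0646
import Cfsg.Agent.PLocal.CyclicMaximal
-- import your own Cfsg.Agent.* helpers here

set_option autoImplicit false
open Cfsg
open scoped commutatorElement Pointwise

namespace Cfsg.Agent.S0646

/-- Classification of non-abelian 2-groups with a cyclic maximal subgroup: dihedral, generalized quaternion, and for order at least 16 the modular group and the semidihedral group, each given by generators a (of index 2) and b with the stated relations. -/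
theorem result {G : Type*} [Group G] [Finite G] (n : ℕ) (hn : 3 ≤ n) (hG : Nat.card G = 2 ^ n) (C : Subgroup G) (hC : IsCyclic C) (hCi : C.index = 2) (hna : ∃ x y : G, x * y ≠ y * x) : ∃ a b : G, orderOf a = 2 ^ (n - 1) ∧ b ∉ Subgroup.zpowers a ∧ ((b ^ 2 = 1 ∧ b * a * b⁻¹ = a⁻¹) ∨ (b ^ 2 = a ^ (2 ^ (n - 2)) ∧ b * a * b⁻¹ = a⁻¹) ∨ (4 ≤ n ∧ b ^ 2 = 1 ∧ b * a * b⁻¹ = a ^ (1 + 2 ^ (n - 2))) ∨ (4 ≤ n ∧ b ^ 2 = 1 ∧ b * a * b⁻¹ = a ^ (2 ^ (n - 2) - 1))) := by
  have : Fact (Nat.Prime 2) := ⟨Nat.prime_two⟩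
  obtain ⟨m, rfl⟩ : ∃ m, n = m + 2 := ⟨n - 2, by omega⟩
  obtain ⟨a, x, r, s, hao, hx, hr, hr1, hrp, hs, hrs, hout⟩ :=
    CfsgLib.CyclicMaximal.setup hG C hC hCi hna
  rw [show m + 2 - 1 = m + 1 by omega, show m + 2 - 2 = m by omega]
  obtain ⟨M, hN, hMpow⟩ : ∃ M, 2 ^ m = 2 * M ∧ M = 2 ^ (m - 1) :=
    ⟨2 ^ (m - 1), by rw [← pow_succ', Nat.sub_add_cancel (by omega)], rfl⟩
  have hM0 : 0 < M := hMpow ▸ Nat.two_pow_pos _
  have hM : 2 ^ (m + 1) = 4 * M := by rw [pow_succ, hN]; ring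
  rw [hM] at hao hr1 hrp hrs
  rw [hN, hM]
  have heq : ∀ u v : ℕ, a ^ u = a ^ v ↔ u ≡ v [MOD 4 * M] := fun u v => by
    rw [pow_eq_pow_iff_modEq, hao]
  have hzero : ∀ u : ℕ, a ^ u = 1 ↔ (4 * M) ∣ u := fun u => by
    rw [← hao]; exact orderOf_dvd_iff_pow_eq_one.symm
  -- `r` mod `4 M`
  obtain ⟨q, hq⟩ : ∃ q, r % (4 * M) = 2 * q + 1 := by
    have h1 : r ^ 2 % 2 = 1 % 2 := Nat.ModEq.of_dvd (⟨2 * M, by ring⟩ : 2 ∣ 4 * M) hrp
    rw [Nat.pow_mod] at h1
    have hr2 : r % 2 = 1 := by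
      rcases Nat.mod_two_eq_zero_or_one r with h | h
      · simp [h] at h1
      · exact h
    refine ⟨r % (4 * M) / 2, ?_⟩
    have : r % (4 * M) % 2 = 1 := by rw [Nat.mod_mod_of_dvd _ ⟨2 * M, by ring⟩, hr2]
    omega
  set R := r % (4 * M) with hRdef
  have hR : R ≡ r [MOD 4 * M] := Nat.mod_modEq _ _
  have hRlt : R < 4 * M := Nat.mod_lt _ (by omega)
  have hconj : x * a * x⁻¹ = a ^ R := by rw [hr, heq]; exact hR.symm
  have hsq : (2 * q + 1) ^ 2 ≡ 1 [MOD 4 * M] := by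
    rw [← hq]; exact ((hR.pow 2).trans hrp)
  have hRs : R * s ≡ s [MOD 4 * M] := (hR.mul_right s).trans hrs
  have hR1 : R ≠ 1 := fun h => hr1 (h ▸ hR.symm)
  have hdvd : M ∣ q * (q + 1) := by
    have h1 : 4 * M ∣ (2 * q + 1) ^ 2 - 1 := (Nat.modEq_iff_dvd' (by nlinarith)).1 hsq.symm
    rw [show (2 * q + 1) ^ 2 - 1 = 4 * (q * (q + 1)) by
      have : (2 * q + 1) ^ 2 = 4 * (q * (q + 1)) + 1 := by ring
      omega] at h1
    exact (Nat.mul_dvd_mul_iff_left (by norm_num)).1 h1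
  have hcases : R + 1 = 4 * M ∨ R = 2 * M + 1 ∨ R + 1 = 2 * M := by
    rcases Nat.even_or_odd q with hev | hod
    · have : Nat.Coprime M (q + 1) := by
        rw [hMpow]
        exact Nat.Coprime.pow_left _ ((Nat.prime_two.coprime_iff_not_dvd).2 (fun h => by
          obtain ⟨c, rfl⟩ := hev; omega))
      obtain ⟨c, rfl⟩ := this.dvd_of_dvd_mul_right hdvd
      have hc : c < 2 := by
        by_contra h
        have : M * 2 ≤ M * c := Nat.mul_le_mul_left M (by omega)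
        omega
      interval_cases c
      · simp at hq; omega
      · right; left; omega
    · have : Nat.Coprime M q := by
        rw [hMpow]
        exact Nat.Coprime.pow_left _ ((Nat.prime_two.coprime_iff_not_dvd).2 (fun h => by
          obtain ⟨c, rfl⟩ := hod; omega))
      obtain ⟨c, hc⟩ := this.dvd_of_dvd_mul_left hdvd
      have hc2 : c ≤ 2 := by
        by_contra h
        have : M * 3 ≤ M * c := Nat.mul_le_mul_left M (by omega)
        omega
      interval_cases c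
      · omega
      · right; right; omega
      · left; omega
  have hconjinv : R + 1 = 4 * M → x * a * x⁻¹ = a⁻¹ := fun h => by
    rw [hconj]
    exact eq_inv_of_mul_eq_one_left (by rw [← pow_succ, h, hzero])
  have hy : ∀ i, (a ^ i * x) * a * (a ^ i * x)⁻¹ = a ^ R := fun i => by
    calc a ^ i * x * a * (a ^ i * x)⁻¹ = a ^ i * (x * a * x⁻¹) * (a ^ i)⁻¹ := by group
      _ = _ := by rw [hconj]; group
  have hy2 : ∀ i, (a ^ i * x) ^ 2 = a ^ (i * (1 + R) + s) := fun i => by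
    rw [CfsgLib.CyclicMaximal.mul_pow_eq hconj, hs, ← pow_add, Finset.sum_range_succ,
      Finset.sum_range_succ, Finset.sum_range_zero, pow_zero, pow_one, zero_add]
  rcases hcases with h | h | h
  · -- inversion
    have hxx : x * a * x⁻¹ = a⁻¹ := hconjinv h
    have h2 : 4 * M ∣ 2 * s := by
      rw [← hzero, two_mul, pow_add]
      have h3 : x * a ^ s * x⁻¹ = (a ^ s)⁻¹ := by rw [← conj_pow, hxx, inv_pow]
      have h4 : x * a ^ s * x⁻¹ = a ^ s := by rw [← hs]; group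
      rw [h4] at h3
      rw [mul_eq_one_iff_eq_inv]
      exact h3
    obtain ⟨c, hc⟩ : 2 * M ∣ s := (Nat.mul_dvd_mul_iff_left two_pos).1 (by
      rwa [← mul_assoc])
    refine ⟨a, x, by rw [hao], hx, ?_⟩
    rcases Nat.even_or_odd c with ⟨d, rfl⟩ | ⟨d, rfl⟩
    · left
      exact ⟨by rw [hs, hzero, hc]; exact ⟨d, by ring⟩, hxx⟩
    · right; left
      refine ⟨?_, hxx⟩
      rw [hs, heq, hc, Nat.ModEq, show 2 * M * (2 * d + 1) = 2 * M + 4 * M * d by ring,
        Nat.add_mul_mod_self_left]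
  · -- modular
    by_cases hm : m = 1
    · subst hm
      simp at hMpow
      subst hMpow
      obtain ⟨hxx⟩ : Nonempty (x * a * x⁻¹ = a⁻¹) := ⟨hconjinv (by omega)⟩
      have h2 : 4 ∣ 2 * s := by
        have := (hzero (2 * s)).1 (by
          rw [two_mul, pow_add, mul_eq_one_iff_eq_inv]
          calc a ^ s = x * a ^ s * x⁻¹ := by rw [← hs]; group
            _ = (a ^ s)⁻¹ := by rw [← conj_pow, hxx, inv_pow])
        simpa using this
      refine ⟨a, x, by rw [hao], hx, ?_⟩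
      rcases (show s % 4 = 0 ∨ s % 4 = 2 by omega) with h3 | h3
      · left
        exact ⟨by rw [hs, hzero]; omega, hxx⟩
      · right; left
        exact ⟨by rw [hs, heq, Nat.ModEq]; omega, hxx⟩
    obtain ⟨L, hL⟩ : 2 ∣ M := hMpow ▸ dvd_pow_self 2 (by omega)
    have h2 : 4 * M ∣ 2 * M * s := by
      rw [← Nat.modEq_zero_iff_dvd]
      have h3 : s + 2 * M * s ≡ s + 0 [MOD 4 * M] := by
        rw [add_zero, show s + 2 * M * s = (2 * M + 1) * s by ring, ← h]; exact hRs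
      exact h3.add_left_cancel' s
    obtain ⟨t, rfl⟩ : 2 ∣ s := by
      rw [show 4 * M = 2 * M * 2 by ring] at h2
      exact (Nat.mul_dvd_mul_iff_left (by omega)).1 h2
    refine ⟨a, a ^ (t * (M - 1)) * x, by rw [hao], hout _, Or.inr (Or.inr (Or.inl ⟨by omega, ?_, ?_⟩))⟩
    · rw [hy2, hzero, h]
      refine ⟨t * L, ?_⟩
      have e1 : (M - 1) * (M + 1) + 1 = M * M := by
        obtain ⟨u, hu⟩ : ∃ u, M = u + 1 := ⟨M - 1, by omega⟩
        subst hu
        simp only [Nat.add_sub_cancel]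
        ring
      calc t * (M - 1) * (1 + (2 * M + 1)) + 2 * t = 2 * t * ((M - 1) * (M + 1) + 1) := by ring
        _ = 4 * M * (t * L) := by rw [e1, hL]; ring
    · rw [hy, h, add_comm]
  · by_cases hm : m = 1
    · subst hm
      simp at hMpow
      omega
    obtain ⟨L, hL⟩ : 2 ∣ M := hMpow ▸ dvd_pow_self 2 (by omega)
    have h2 : 4 * M ∣ 2 * (M - 1) * s := by
      rw [← Nat.modEq_zero_iff_dvd]
      have h3 : s + 2 * (M - 1) * s ≡ s + 0 [MOD 4 * M] := by
        rw [add_zero, show s + 2 * (M - 1) * s = (2 * (M - 1) + 1) * s by ring,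
          show 2 * (M - 1) + 1 = R by omega]
        exact hRs
      exact h3.add_left_cancel' s
    obtain ⟨c, hc⟩ : 2 * M ∣ s := by
      have h4 : 2 * M ∣ (M - 1) * s := by
        rw [show 4 * M = 2 * (2 * M) by ring, mul_assoc 2 (M - 1) s] at h2
        exact (Nat.mul_dvd_mul_iff_left two_pos).1 h2
      refine Nat.Coprime.dvd_of_dvd_mul_left ?_ h4
      rw [← hN]
      exact Nat.Coprime.pow_left _ ((Nat.prime_two.coprime_iff_not_dvd).2 (by omega))
    rcases Nat.even_or_odd c with ⟨d, rfl⟩ | ⟨d, rfl⟩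
    · refine ⟨a, x, by rw [hao], hx, Or.inr (Or.inr (Or.inr ⟨by omega, ?_, ?_⟩))⟩
      · rw [hs, hzero, hc]; exact ⟨d, by ring⟩
      · rw [hconj]; congr 1; omega
    · refine ⟨a, a ^ 1 * x, by rw [hao], hout _, Or.inr (Or.inr (Or.inr ⟨by omega, ?_, ?_⟩))⟩
      · rw [hy2, hzero, hc, one_mul, show 1 + R = 2 * M by omega]; exact ⟨d + 1, by ring⟩
      · rw [hy]; congr 1; omega


end Cfsg.Agent.S0646
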