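import Cfsg.Statements.S0647
-- import your own Cfsg.Agent.* helpers here

set_option autoImplicit false
open Cfsg

namespace Cfsg.Agent.S0647

/-- For a nonempty family of maximal abelian subgroups of a finite group, the intersection of the family is the centre of the subgroup it generates, which is also the full centralizer of that subgroup. -/
theorem result {S : Type*} [Group S] [Finite S] (𝒜 : Set (Subgroup S)) (hne : 𝒜.Nonempty) (hab : ∀ A ∈ 𝒜, IsMulCommutative A) (hmax : ∀ A ∈ 𝒜, ∀ B : Subgroup S, IsMulCommutative B → A ≤ B → B = A) : sInf 𝒜 = sSup 𝒜 ⊓ Subgroup.centralizer ((sSup 𝒜 : Subgroup S) : Set S) ∧ sInf 𝒜 = Subgroup.centralizer ((sSup 𝒜 : Subgroup S) : Set S) := by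
  have hcomm : ∀ A ∈ 𝒜, ∀ x ∈ A, ∀ y ∈ A, x * y = y * x := fun A hA x hx y hy =>
    congrArg Subtype.val ((hab A hA).is_comm.comm (⟨x, hx⟩ : A) ⟨y, hy⟩)
  have h1 : sInf 𝒜 ≤ Subgroup.centralizer ((sSup 𝒜 : Subgroup S) : Set S) := by
    intro x hx
    rw [Subgroup.mem_sInf] at hx
    have : sSup 𝒜 ≤ Subgroup.centralizer {x} :=
      sSup_le fun A hA a ha => Subgroup.mem_centralizer_singleton_iff.mpr (hcomm A hA a ha x (hx A hA))
    exact Subgroup.mem_centralizer_iff.mpr fun j hj => Subgroup.mem_centralizer_singleton_iff.mp (this hj)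
  have h2 : Subgroup.centralizer ((sSup 𝒜 : Subgroup S) : Set S) ≤ sInf 𝒜 := by
    refine le_sInf fun A hA x hx => ?_
    have hcx : ∀ y ∈ A, y * x = x * y := fun y hy =>
      Subgroup.mem_centralizer_iff.mp hx y (le_sSup (a := A) hA hy)
    let B := Subgroup.closure (insert x (A : Set S))
    have hset : ∀ a ∈ insert x (A : Set S), ∀ b ∈ insert x (A : Set S), a * b = b * a := by
      rintro a (rfl | ha) b (rfl | hb)
      exacts [rfl, (hcx b hb).symm, hcx a ha, hcomm A hA a ha b hb]
    have hB : IsMulCommutative B := Subgroup.isMulCommutative_closure hset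
    have := hmax A hA B hB fun a ha => Subgroup.subset_closure (Set.mem_insert_of_mem x ha)
    exact this ▸ Subgroup.subset_closure (Set.mem_insert x _)
  obtain ⟨A, hA⟩ := hne
  refine ⟨le_antisymm (le_inf ((sInf_le hA).trans (le_sSup hA)) h1) (inf_le_right.trans h2), le_antisymm h1 h2⟩


end Cfsg.Agent.S0647
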