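import Cfsg.Statements.S0648
-- import your own Cfsg.Agent.* helpers here

set_option autoImplicit false
open Cfsg
open scoped commutatorElement Pointwise

namespace Cfsg.Agent.S0648

/-- If A acts on B centralizing [B, B], then [B, A] has derived subgroup central in B, and for abelian A and b ∈ B with [[b, A], A, A] = 1 the derived subgroup of the subgroup [b, A] generated by the commutators of b with A has exponent dividing 2. -/
theorem result {G : Type*} [Group G] [Finite G] (A B : Subgroup G) (hAB : A ≤ Subgroup.normalizer (B : Set G)) (hc : ⁅⁅B, B⁆, A⁆ = ⊥) : ⁅⁅B, A⁆, ⁅B, A⁆⁆ ≤ B ⊓ Subgroup.centralizer (B : Set G) ∧ (IsMulCommutative A → ∀ b ∈ B, ⁅⁅(Subgroup.closure {g : G | ∃ a ∈ A, g = b⁻¹ * a * b * a⁻¹}), A⁆, A⁆ = ⊥ → ∀ w ∈ ⁅(Subgroup.closure {g : G | ∃ a ∈ A, g = b⁻¹ * a * b * a⁻¹}), (Subgroup.closure {g : G | ∃ a ∈ A, g = b⁻¹ * a * b * a⁻¹})⁆, w ^ 2 = 1) := by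
  have hB' : ∀ u ∈ B, ∀ v ∈ B, ∀ a ∈ A, a * ⁅u, v⁆ * a⁻¹ = ⁅u, v⁆ := fun u hu v hv a ha => by
    rw [Subgroup.mem_centralizer_iff.1 ((Subgroup.commutator_eq_bot_iff_le_centralizer.1 hc)
      (Subgroup.commutator_mem_commutator hu hv)) a ha, mul_inv_cancel_right]
  have hconjB : ∀ a ∈ A, ∀ u ∈ B, a * u * a⁻¹ ∈ B := fun a ha u hu =>
    (Subgroup.mem_normalizer_iff.1 (hAB ha) u).1 hu
  have hfixY : ∀ c ∈ ⁅B, B⁆, ∀ a ∈ A, a * c * a⁻¹ = c := fun c hc' a ha => by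
    rw [Subgroup.mem_centralizer_iff.1 ((Subgroup.commutator_eq_bot_iff_le_centralizer.1 hc) hc') a ha,
      mul_inv_cancel_right]
  have hconjY : ∀ u ∈ B, ∀ c ∈ ⁅B, B⁆, u * c * u⁻¹ ∈ ⁅B, B⁆ := fun u hu c hc' =>
    (Subgroup.mem_normalizer_iff.1 (Subgroup.normalizer_commutator_ge_right B B hu) c).1 hc'
  have hBA_cent : ⁅B, A⁆ ≤ Subgroup.centralizer ((⁅B, B⁆ : Subgroup G) : Set G) := by
    rw [Subgroup.commutator_le]
    intro u hu a ha
    refine Subgroup.mem_centralizer_iff.2 fun c hc' => ?_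
    set v := u⁻¹ with hv
    have h1 : (a * v * a⁻¹) * c * (a * v * a⁻¹)⁻¹ = v * c * v⁻¹ := by
      calc (a * v * a⁻¹) * c * (a * v * a⁻¹)⁻¹ = a * (v * (a⁻¹ * c * a⁻¹⁻¹) * v⁻¹) * a⁻¹ := by group
        _ = a * (v * c * v⁻¹) * a⁻¹ := by rw [hfixY c hc' a⁻¹ (A.inv_mem ha)]
        _ = v * c * v⁻¹ := hfixY _ (hconjY v (B.inv_mem hu) c hc') a ha
    have h2 : ⁅u, a⁆ * c * ⁅u, a⁆⁻¹ = c := by
      rw [commutatorElement_def]
      calc u * a * u⁻¹ * a⁻¹ * c * (u * a * u⁻¹ * a⁻¹)⁻¹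
          = u * ((a * v * a⁻¹) * c * (a * v * a⁻¹)⁻¹) * u⁻¹ := by rw [hv]; group
        _ = u * (v * c * v⁻¹) * u⁻¹ := by rw [h1]
        _ = c := by rw [hv]; group
    exact (mul_inv_eq_iff_eq_mul.1 h2).symm
  have hBA_le : ⁅B, A⁆ ≤ B := by
    rw [Subgroup.commutator_le]
    intro u hu a ha
    rw [commutatorElement_def, show u * a * u⁻¹ * a⁻¹ = u * (a * u⁻¹ * a⁻¹) by group]
    exact B.mul_mem hu (hconjB a ha _ (B.inv_mem hu))
  have hcen : ⁅⁅B, A⁆, ⁅B, A⁆⁆ ≤ Subgroup.centralizer (B : Set G) := by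
    rw [← Subgroup.commutator_eq_bot_iff_le_centralizer]
    have h0 : ⁅⁅B, B⁆, ⁅B, A⁆⁆ = ⊥ := by
      rw [Subgroup.commutator_comm]
      exact Subgroup.commutator_eq_bot_iff_le_centralizer.2 hBA_cent
    refine Subgroup.commutator_commutator_eq_bot_of_rotate ?_ ?_
    · rw [eq_bot_iff, ← h0]
      exact Subgroup.commutator_mono (Subgroup.commutator_mono hBA_le le_rfl) le_rfl
    · rw [eq_bot_iff, ← h0]
      exact Subgroup.commutator_mono (Subgroup.commutator_mono le_rfl hBA_le) le_rfl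
  refine ⟨le_inf ((Subgroup.commutator_mono hBA_le hBA_le).trans (Subgroup.commutator_le_self B)) hcen, ?_⟩
  intro hab b hb hXAA w hw
  set S : Set G := {g : G | ∃ a ∈ A, g = b⁻¹ * a * b * a⁻¹} with hS
  set X := Subgroup.closure S with hX
  have hSBA : X ≤ ⁅B, A⁆ := by
    rw [hX, Subgroup.closure_le]
    rintro _ ⟨a, ha, rfl⟩
    have := Subgroup.commutator_mem_commutator (B.inv_mem hb) ha
    rwa [commutatorElement_def, inv_inv] at this
  have hXB : X ≤ B := hSBA.trans hBA_le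
  have hz : ∀ u ∈ X, ∀ v ∈ X, ∀ g ∈ B, g * ⁅u, v⁆ = ⁅u, v⁆ * g := fun u hu v hv g hg =>
    Subgroup.mem_centralizer_iff.1 (hcen (Subgroup.commutator_mem_commutator (hSBA hu) (hSBA hv))) g hg
  have hXY : ∀ u ∈ X, ∀ c ∈ ⁅B, B⁆, u * c * u⁻¹ = c := fun u hu c hc' => by
    rw [← Subgroup.mem_centralizer_iff.1 (hBA_cent (hSBA hu)) c hc', mul_inv_cancel_right]
  have main : ∀ e ∈ A, ∀ a ∈ A,
      ⁅b⁻¹ * e * b * e⁻¹, b⁻¹ * a * b * a⁻¹⁆ * ⁅b⁻¹ * e * b * e⁻¹, b⁻¹ * a * b * a⁻¹⁆ = 1 := by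
    have hea : ∀ e ∈ A, ∀ a ∈ A, e * a = a * e := fun e he a ha =>
      congrArg Subtype.val (hab.is_comm.comm (⟨e, he⟩ : A) ⟨a, ha⟩)
    let x : G → G := fun a => b⁻¹ * a * b * a⁻¹
    let d : G → G → G := fun e a => (x a)⁻¹ * (e * x a * e⁻¹)
    have hxX : ∀ a ∈ A, x a ∈ X := fun a ha => Subgroup.subset_closure ⟨a, ha, rfl⟩
    have hb' : ∀ e : G, e * b * e⁻¹ = b * x e := fun e => by simp [x, mul_assoc]
    have hdfix : ∀ e ∈ A, ∀ a ∈ A, ∀ f ∈ A, f * d e a * f⁻¹ = d e a := fun e he a ha f hf => by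
      have hd : d e a ∈ ⁅X, A⁆ := by
        have := Subgroup.commutator_mem_commutator (X.inv_mem (hxX a ha)) he
        rwa [commutatorElement_def, inv_inv, show (x a)⁻¹ * e * x a * e⁻¹ = d e a by simp [d, mul_assoc]] at this
      rw [Subgroup.mem_centralizer_iff.1 ((Subgroup.commutator_eq_bot_iff_le_centralizer.1 hXAA) hd) f hf,
        mul_inv_cancel_right]
    have hdB : ∀ e ∈ A, ∀ a ∈ A, d e a ∈ B := fun e he a ha =>
      B.mul_mem (B.inv_mem (hXB (hxX a ha))) (hconjB e he _ (hXB (hxX a ha)))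
    have hconj : ∀ f u v : G, f * ⁅u, v⁆ * f⁻¹ = ⁅f * u * f⁻¹, f * v * f⁻¹⁆ := fun f u v => by
      simp [commutatorElement_def, mul_assoc]
    have h1 : ∀ e ∈ A, ∀ a ∈ A, ⁅x e, d e a⁆ = 1 := fun e he a ha => by
      have h := hB' b hb _ (hdB e he a ha) e he
      rw [hconj, hb', hdfix e he a ha e he,
        show ⁅b * x e, d e a⁆ = b * ⁅x e, d e a⁆ * b⁻¹ * ⁅b, d e a⁆ by simp [commutatorElement_def, mul_assoc]] at h
      have h' := mul_eq_right.1 h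
      simpa using h'
    have h2 : ∀ e ∈ A, ∀ a ∈ A, ⁅b, d e a⁆ = ⁅x e, x a⁆⁻¹ := fun e he a ha => by
      have h := hB' b hb _ (hXB (hxX a ha)) e he
      rw [hconj, hb', show e * x a * e⁻¹ = x a * d e a by simp [d],
        show ⁅b * x e, x a * d e a⁆ =
          b * (⁅x e, x a⁆ * (x a * ⁅x e, d e a⁆ * (x a)⁻¹)) * b⁻¹ *
            (⁅b, x a⁆ * (x a * ⁅b, d e a⁆ * (x a)⁻¹)) by simp [commutatorElement_def, mul_assoc],
        h1 e he a ha, mul_one, mul_inv_cancel, mul_one,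
        hz _ (hxX e he) _ (hxX a ha) b hb, mul_inv_cancel_right,
        hXY _ (hxX a ha) _ (Subgroup.commutator_mem_commutator hb (hdB e he a ha)),
        ← mul_assoc, ← hz _ (hxX e he) _ (hxX a ha) _ (Subgroup.commutator_le_self B (Subgroup.commutator_mem_commutator hb (hXB (hxX a ha)))),
        mul_assoc, mul_eq_left] at h
      exact eq_inv_of_mul_eq_one_right h
    intro e he a ha
    have hmul : ∀ f g : G, x (f * g) = x f * (f * x g * f⁻¹) := fun f g => by simp [x, mul_assoc]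
    have h3 : x e * (x a * d e a) = x a * (x e * d a e) := by
      rw [show x a * d e a = e * x a * e⁻¹ by simp [d], show x e * d a e = a * x e * a⁻¹ by simp [d],
        ← hmul, ← hmul, hea e he a ha]
    set z := ⁅(x e)⁻¹, (x a)⁻¹⁆ with hzdef
    have h4 : d a e = z * d e a := by
      calc d a e = (x e)⁻¹ * (x a)⁻¹ * (x a * (x e * d a e)) := by group
        _ = (x e)⁻¹ * (x a)⁻¹ * (x e * (x a * d e a)) := by rw [h3]
        _ = z * d e a := by simp [hzdef, commutatorElement_def, mul_assoc]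
    have hzc := hz _ (X.inv_mem (hxX e he)) _ (X.inv_mem (hxX a ha)) b hb
    have h5 : ⁅b, d a e⁆ = ⁅b, d e a⁆ := by
      have hz1 : ⁅b, z⁆ = 1 := commutatorElement_eq_one_iff_mul_comm.2 hzc
      rw [h4, show ⁅b, z * d e a⁆ = ⁅b, z⁆ * (z * ⁅b, d e a⁆ * z⁻¹) by simp [commutatorElement_def, mul_assoc],
        hz1, one_mul, ← hz _ (X.inv_mem (hxX e he)) _ (X.inv_mem (hxX a ha)) _
          (Subgroup.commutator_le_self B (Subgroup.commutator_mem_commutator hb (hdB e he a ha))),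
        mul_inv_cancel_right]
    rw [h2 a ha e he, h2 e he a ha, inv_inj, ← commutatorElement_inv (x e) (x a)] at h5
    exact mul_eq_one_iff_inv_eq.2 h5
  have hT : ∀ u ∈ X, ∀ v ∈ X, ⁅u, v⁆ ^ 2 = 1 := by
    intro u hu v hv
    have hz' : ∀ u ∈ X, ∀ v ∈ X, ∀ g ∈ X, g * ⁅u, v⁆ * g⁻¹ = ⁅u, v⁆ := fun u hu v hv g hg => by
      rw [hz u hu v hv g (hXB hg), mul_inv_cancel_right]
    have hsq : ∀ s ∈ S, ∀ v ∈ X, ⁅s, v⁆ ^ 2 = 1 := by
      rintro _ ⟨e, he, rfl⟩ v hv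
      have hsX : b⁻¹ * e * b * e⁻¹ ∈ X := Subgroup.subset_closure ⟨e, he, rfl⟩
      induction hv using Subgroup.closure_induction with
      | mem t ht =>
        obtain ⟨a, ha, rfl⟩ := ht
        rw [sq]; exact main e he a ha
      | one => simp
      | mul y z hy hz'' ihy ihz =>
        rw [show ⁅b⁻¹ * e * b * e⁻¹, y * z⁆ = ⁅b⁻¹ * e * b * e⁻¹, y⁆ * (y * ⁅b⁻¹ * e * b * e⁻¹, z⁆ * y⁻¹) by
          simp [commutatorElement_def, mul_assoc], hz' _ hsX z hz'' y hy,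
          (show Commute ⁅b⁻¹ * e * b * e⁻¹, y⁆ ⁅b⁻¹ * e * b * e⁻¹, z⁆ from hz _ hsX z hz'' _
            (B.mul_mem (B.mul_mem (B.mul_mem (hXB hsX) (hXB hy)) (B.inv_mem (hXB hsX))) (B.inv_mem (hXB hy)))).mul_pow,
          ihy, ihz, mul_one]
      | inv y hy ihy =>
        have e1 : ⁅b⁻¹ * e * b * e⁻¹, y⁻¹⁆ = y⁻¹ * ⁅b⁻¹ * e * b * e⁻¹, y⁆⁻¹ * y⁻¹⁻¹ := by
          simp [commutatorElement_def, mul_assoc]
        rw [e1, conj_pow, inv_pow, ihy, inv_one, mul_one, mul_inv_cancel]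
    induction hu using Subgroup.closure_induction with
    | mem t ht => exact hsq t ht v hv
    | one => simp
    | mul y z hy hz'' ihy ihz =>
      rw [show ⁅y * z, v⁆ = y * ⁅z, v⁆ * y⁻¹ * ⁅y, v⁆ by simp [commutatorElement_def, mul_assoc],
        hz' z hz'' v hv y hy,
        (show Commute ⁅z, v⁆ ⁅y, v⁆ from (hz z hz'' v hv _
          (B.mul_mem (B.mul_mem (B.mul_mem (hXB hy) (hXB hv)) (B.inv_mem (hXB hy))) (B.inv_mem (hXB hv)))).symm).mul_pow,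
        ihy, ihz, mul_one]
    | inv y hy ihy =>
      have e1 : ⁅y⁻¹, v⁆ = y⁻¹ * ⁅y, v⁆⁻¹ * y⁻¹⁻¹ := by
        simp [commutatorElement_def, mul_assoc]
      rw [e1, conj_pow, inv_pow, ihy, inv_one, mul_one, mul_inv_cancel]
  let T : Subgroup G :=
    { carrier := {t | t ∈ Subgroup.centralizer (B : Set G) ∧ t ∈ B ∧ t ^ 2 = 1}
      one_mem' := ⟨one_mem _, one_mem _, one_pow 2⟩
      mul_mem' := by
        rintro s t ⟨hs1, hs2, hs3⟩ ⟨ht1, ht2, ht3⟩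
        exact ⟨mul_mem hs1 ht1, mul_mem hs2 ht2, by
          rw [(show Commute s t from (Subgroup.mem_centralizer_iff.1 hs1 t ht2).symm).mul_pow, hs3, ht3, one_mul]⟩
      inv_mem' := by
        rintro s ⟨hs1, hs2, hs3⟩
        exact ⟨inv_mem hs1, inv_mem hs2, by rw [inv_pow, hs3, inv_one]⟩ }
  have : ⁅X, X⁆ ≤ T := Subgroup.commutator_le.2 fun u hu v hv =>
    ⟨hcen (Subgroup.commutator_mem_commutator (hSBA hu) (hSBA hv)),
      B.mul_mem (B.mul_mem (B.mul_mem (hXB hu) (hXB hv)) (B.inv_mem (hXB hu))) (B.inv_mem (hXB hv)), hT u hu v hv⟩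
  exact (this hw).2.2


end Cfsg.Agent.S0648
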