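import Cfsg.Statements.S0650
import Cfsg.Agent.ZJ.ReplacementNormal

set_option autoImplicit false
open Cfsg

namespace Cfsg.Agent.S0650

/-- The Glauberman replacement Theorem: from an abelian A ⊇ [B, B] not normalized by the normal subgroup B and a suitable b ∈ B one gets the abelian subgroup A* = (A ∩ b⁻¹Ab)[A, b] of the same order, containing [B, B], meeting B strictly more than A does but not containing B, mutually normalizing with A, with strictly larger normalizer containing b, and (p odd) of no larger exponent. -/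
theorem result {S : Type*} [Group S] [Finite S] {p : ℕ} [Fact p.Prime] (hS : IsPGroup p S) (B : Subgroup S) [B.Normal] (hB2 : p = 2 → IsMulCommutative B) (A : Subgroup S) (hA : IsMulCommutative A) (hBA : ⁅B, B⁆ ≤ A) (hnot : ¬ B ≤ Subgroup.normalizer (A : Set S)) (b : S) (hb : b ∈ B) (hbN : b ∈ Subgroup.normalizer ((Subgroup.normalizer (A : Set S)) : Set S)) (hbA : b ∉ Subgroup.normalizer (A : Set S)) : Nat.card ↥((A ⊓ A.map (MulAut.conj (b⁻¹)).toMonoidHom) ⊔ Subgroup.closure {g : S | ∃ a ∈ A, g = a * b⁻¹ * a⁻¹ * b}) = Nat.card A ∧ IsMulCommutative ↥((A ⊓ A.map (MulAut.conj (b⁻¹)).toMonoidHom) ⊔ Subgroup.closure {g : S | ∃ a ∈ A, g = a * b⁻¹ * a⁻¹ * b}) ∧ ⁅B, B⁆ ≤ ((A ⊓ A.map (MulAut.conj (b⁻¹)).toMonoidHom) ⊔ Subgroup.closure {g : S | ∃ a ∈ A, g = a * b⁻¹ * a⁻¹ * b}) ∧ A ⊓ B < ((A ⊓ A.map (MulAut.conj (b⁻¹)).toMonoidHom) ⊔ Subgroup.closure {g : S | ∃ a ∈ A, g =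 a * b⁻¹ * a⁻¹ * b}) ⊓ B ∧ ((A ⊓ A.map (MulAut.conj (b⁻¹)).toMonoidHom) ⊔ Subgroup.closure {g : S | ∃ a ∈ A, g = a * b⁻¹ * a⁻¹ * b}) ⊓ B < B ∧ A ≤ Subgroup.normalizer (((A ⊓ A.map (MulAut.conj (b⁻¹)).toMonoidHom) ⊔ Subgroup.closure {g : S | ∃ a ∈ A, g = a * b⁻¹ * a⁻¹ * b} : Subgroup S) : Set S) ∧ ((A ⊓ A.map (MulAut.conj (b⁻¹)).toMonoidHom) ⊔ Subgroup.closure {g : S | ∃ a ∈ A, g = a * b⁻¹ * a⁻¹ * b}) ≤ Subgroup.normalizer (A : Set S) ∧ b ∈ Subgroup.normalizer (((A ⊓ A.map (MulAut.conj (b⁻¹)).toMonoidHom) ⊔ Subgroup.closure {g : S | ∃ a ∈ A, g = a * b⁻¹ * a⁻¹ * b} : Subgroup S) : Set S) ∧ Subgroup.normalizer (A : Set S) < Subgroup.normalizer (((A ⊓ A.map (MulAut.conj (b⁻¹)).toMonoidHom) ⊔ Subgroup.closure {g : S | ∃ a ∈ A, g = a * b⁻¹ * a⁻¹ * b} : Subgroup S) : Set S) ∧ (p ≠ 2 → Monoid.exponent ↥((A ⊓ A.map (MulAut.conj (b⁻¹)).toMonoidHom) ⊔ Subgroup.closure {g :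 S | ∃ a ∈ A, g = a * b⁻¹ * a⁻¹ * b}) ∣ Monoid.exponent A) := by
  have R : CfsgLib.ZJ.ReplData A B b := CfsgLib.ZJ.replData_of_normalizes hA hBA
    (by rw [Subgroup.normalizer_eq_top (H := B)]; exact le_top) hb Subgroup.le_normalizer le_rfl hbN
  have hodd : Odd (orderOf b) ∨ IsMulCommutative B := by
    by_cases hp : p = 2
    · exact Or.inr (hB2 hp)
    · exact Or.inl (CfsgLib.ZJ.odd_orderOf hS hp b)
  change Nat.card ↥(CfsgLib.ZJ.repl A b) = _ ∧ IsMulCommutative ↥(CfsgLib.ZJ.repl A b) ∧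
    _ ≤ CfsgLib.ZJ.repl A b ∧ _ < CfsgLib.ZJ.repl A b ⊓ B ∧ CfsgLib.ZJ.repl A b ⊓ B < B ∧
    _ ≤ Subgroup.normalizer (CfsgLib.ZJ.repl A b : Set S) ∧ CfsgLib.ZJ.repl A b ≤ _ ∧
    b ∈ Subgroup.normalizer (CfsgLib.ZJ.repl A b : Set S) ∧
    _ < Subgroup.normalizer (CfsgLib.ZJ.repl A b : Set S) ∧
    (p ≠ 2 → Monoid.exponent ↥(CfsgLib.ZJ.repl A b) ∣ _)
  refine ⟨R.card_repl hodd, R.isMulCommutative_repl hodd, R.derived_le_repl, R.inf_lt hbA,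
    lt_of_le_of_ne inf_le_right (fun h => hnot ((inf_eq_right.mp h).trans R.repl_le_normalizer)),
    R.normalizes_repl, R.repl_le_normalizer, R.b_mem_normalizer,
    lt_of_le_of_ne (R.normalizer_le hbN) (fun h => hbA (h ▸ R.b_mem_normalizer)), fun hp => ?_⟩
  obtain ⟨ho, he⟩ := CfsgLib.ZJ.exponent_facts hS hp A
  exact Monoid.exponent_dvd_of_forall_pow_eq_one fun x =>
    Subtype.ext (R.pow_eq_one hodd _ ho he x.2)

end Cfsg.Agent.S0650
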