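import Cfsg.Statements.S0651
import Cfsg.Agent.ZJ.ReplacementNormal

set_option autoImplicit false
open Cfsg

namespace Cfsg.Agent.S0651

/-- For odd p and D normal in the p-group S, the abelian subgroups of D of largest order satisfy the replacement property: a class-2 normal subgroup B of S with a member containing [B, B] but not B normalizes some such member. -/
theorem result {S : Type*} [Group S] [Finite S] {p : ℕ} [Fact p.Prime] (hS : IsPGroup p S) (hp : p ≠ 2) (D : Subgroup S) [D.Normal] : ∀ (B : Subgroup S) [B.Normal], ⁅⁅B, B⁆, B⁆ = ⊥ → (∃ U ∈ (Set.image (fun A : Subgroup ↥D => A.map D.subtype) (Cfsg.maxAbelianSubgroups ↥D)), ⁅B, B⁆ ≤ U ∧ ¬ B ≤ U) → ∃ A ∈ (Set.image (fun A : Subgroup ↥D => A.map D.subtype) (Cfsg.maxAbelianSubgroups ↥D)), ⁅B, B⁆ ≤ A ∧ ¬ B ≤ A ∧ B ≤ Subgroup.normalizer (A : Set S) := by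
  intro B hB _ hU
  obtain ⟨A, hA, h⟩ := CfsgLib.ZJ.exists_max_normalized hS hp D B
    (fun A => A ∈ (Set.image (fun A : Subgroup ↥D => A.map D.subtype) (Cfsg.maxAbelianSubgroups ↥D)))
    (by
      rintro _ ⟨A, hA, rfl⟩
      exact ⟨(haveI := hA.1; Subgroup.map_isMulCommutative A D.subtype), Subgroup.map_subtype_le A⟩)
    (by
      rintro _ b ⟨A, hA, rfl⟩ _ hle hc hcard
      refine ⟨(CfsgLib.ZJ.repl (A.map D.subtype) b).subgroupOf D, ⟨?_, fun C hC => ?_⟩,
        Subgroup.map_subgroupOf_eq_of_le hle⟩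
      · exact ⟨⟨fun x y => Subtype.ext (Subtype.ext (by
          simpa using congrArg Subtype.val (hc.is_comm.comm ⟨_, x.2⟩ ⟨_, y.2⟩)))⟩⟩
      · rw [Nat.card_congr (Subgroup.subgroupOfEquivOfLe hle).toEquiv, hcard,
          Nat.card_congr (A.equivMapOfInjective _ D.subtype_injective).symm.toEquiv]
        exact hA.2 C hC) hU
  exact ⟨A, hA, h⟩

end Cfsg.Agent.S0651
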