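import Cfsg.Statements.S0652
import Cfsg.Agent.ZJ.ReplacementNormal

set_option autoImplicit false
open Cfsg

namespace Cfsg.Agent.S0652

/-- For odd p and D normal in the p-group S, the elementary abelian subgroups of D of largest order satisfy the replacement property for class-2 normal subgroups of S. -/
theorem result {S : Type*} [Group S] [Finite S] {p : ℕ} [Fact p.Prime] (hS : IsPGroup p S) (hp : p ≠ 2) (D : Subgroup S) [D.Normal] : ∀ (B : Subgroup S) [B.Normal], ⁅⁅B, B⁆, B⁆ = ⊥ → (∃ U ∈ (Set.image (fun A : Subgroup ↥D => A.map D.subtype) (Cfsg.maxElementaryAbelianSubgroups p ↥D)), ⁅B, B⁆ ≤ U ∧ ¬ B ≤ U) → ∃ A ∈ (Set.image (fun A : Subgroup ↥D => A.map D.subtype) (Cfsg.maxElementaryAbelianSubgroups p ↥D)), ⁅B, B⁆ ≤ A ∧ ¬ B ≤ A ∧ B ≤ Subgroup.normalizer (A : Set S) := by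
  intro B hB _ hU
  obtain ⟨A, hA, h⟩ := CfsgLib.ZJ.exists_max_normalized hS hp D B
    (fun A => A ∈ (Set.image (fun A : Subgroup ↥D => A.map D.subtype)
      (Cfsg.maxElementaryAbelianSubgroups p ↥D)))
    (by
      rintro _ ⟨A, hA, rfl⟩
      exact ⟨(haveI := hA.1.1; Subgroup.map_isMulCommutative A D.subtype), Subgroup.map_subtype_le A⟩)
    (by
      rintro _ b ⟨A, hA, rfl⟩ R hle hc hcard
      refine ⟨(CfsgLib.ZJ.repl (A.map D.subtype) b).subgroupOf D, ⟨⟨?_, fun x hx => ?_⟩,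
        fun C hC => ?_⟩, Subgroup.map_subgroupOf_eq_of_le hle⟩
      · exact ⟨⟨fun x y => Subtype.ext (Subtype.ext (by
          simpa using congrArg Subtype.val (hc.is_comm.comm ⟨_, x.2⟩ ⟨_, y.2⟩)))⟩⟩
      · refine Subtype.ext (R.pow_eq_one (Or.inl (CfsgLib.ZJ.odd_orderOf hS hp b)) p
          ((Fact.out : p.Prime).odd_of_ne_two hp) ?_ hx)
        rintro _ ⟨a, ha, rfl⟩
        simpa using congrArg Subtype.val (hA.1.2 a ha)
      · rw [Nat.card_congr (Subgroup.subgroupOfEquivOfLe hle).toEquiv, hcard,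
          Nat.card_congr (A.equivMapOfInjective _ D.subtype_injective).symm.toEquiv]
        exact hA.2 C hC) hU
  exact ⟨A, hA, h⟩

end Cfsg.Agent.S0652
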