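import Cfsg.Statements.S0654
import Cfsg.Agent.ZJ.ZJCenter

set_option autoImplicit false
open Cfsg

namespace Cfsg.Agent.S0654

/-- The ZJ-Theorem for the elementary-abelian Thompson subgroup: for an odd prime p, a finite group G with C_G(O_p(G)) ≤ O_p(G) acting p-stably on its normal p-subgroups, and a Sylow p-subgroup S of G, the subgroup generated by the elements of order dividing p in Z(J_e(S)) is characteristic in G. -/
theorem result {G : Type*} [Group G] [Finite G] {p : ℕ} [Fact p.Prime] (hp : p ≠ 2) (hc : Subgroup.centralizer (Cfsg.pCore p G : Set G) ≤ Cfsg.pCore p G) (hst : ∀ (P : Subgroup G) [P.Normal], IsPGroup p P → Cfsg.IsPStableOn p P) (S : Sylow p G) : ((Cfsg.omegaCenterThompson p ↥(S : Subgroup G)).map (S : Subgroup G).subtype).Characteristic := by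
  have e : (Cfsg.omegaCenterThompson p ↥(S : Subgroup G)).map (S : Subgroup G).subtype =
      Cfsg.omegaOne p (Cfsg.centerThompsonOf p (S : Subgroup G)) := by
    rw [Cfsg.omegaCenterThompson, CfsgLib.Thompson.map_omegaOne _ (S : Subgroup G).subtype_injective]
    congr 1
    ext x
    simp only [Cfsg.centerThompsonOf, Cfsg.thompsonSubgroupOf, Subgroup.mem_map, Subgroup.mem_inf,
      Subgroup.mem_centralizer_iff, SetLike.mem_coe]
    constructor
    · rintro ⟨y, ⟨hy, hc⟩, rfl⟩
      exact ⟨⟨y, hy, rfl⟩, fun z ⟨w, hw, hz⟩ => hz ▸ congrArg Subtype.val (hc w hw)⟩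
    · rintro ⟨⟨y, hy, rfl⟩, hc⟩
      exact ⟨y, ⟨hy, fun w hw => Subtype.ext (hc _ ⟨w, hw, rfl⟩)⟩, rfl⟩
  rw [e, ← CfsgLib.ZJ.famCenter_elab_eq]
  exact CfsgLib.ZJ.famCenter_characteristic (CfsgLib.ZJ.admissible_elab hp) S
    (CfsgLib.ZJ.famCenter_normal hp (CfsgLib.ZJ.admissible_elab hp) S _
      (CfsgLib.ZJ.stronglyClosed_self S) (CfsgLib.ZJ.stableNormal_of_isPStableOn hst) hc)

end Cfsg.Agent.S0654
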