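import Cfsg.Statements.S0658
import Cfsg.Agent.ZJ.Constrained
import Cfsg.Agent.Fusion.InnerZJ

set_option autoImplicit false
open Cfsg
open scoped CfsgLib.Functor

namespace Cfsg.Agent.S0658


section aux

open Subgroup CfsgLib.Functor

variable {G : Type*} [Group G] [Finite G] {p : ℕ} [Fact p.Prime]

theorem ctA_cj (g : G) (U : Subgroup G) :
    Cfsg.centerThompsonAOf (g ⋆ U) = g ⋆ Cfsg.centerThompsonAOf U :=
  CfsgLib.ZJ.centerThompsonAOf_map (MulAut.conj g).toMonoidHom U fun _ _ h =>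
    (MulAut.conj g).injective (h.trans (map_one _).symm)

theorem normalizer_le_ctA (U : Subgroup G) :
    normalizer (U : Set G) ≤ normalizer (Cfsg.centerThompsonAOf U : Set G) := fun g hg => by
  rw [mem_normalizer_iff_cj, ← ctA_cj, mem_normalizer_iff_cj.1 hg]

/-- Every `p`-local lies in the normalizer of `Z(J)` of a suitable Sylow subgroup. -/
theorem exists_sylow_local (hp : p ≠ 2)
    (hloc : ∀ Q : Subgroup G, IsPGroup p Q → Q ≠ ⊥ →
      Cfsg.pPrimeCore p ↥(normalizer (Q : Set G)) = ⊥ ∧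
      Cfsg.IsPConstrained p ↥(normalizer (Q : Set G)) ∧
      Cfsg.IsPStable p ↥(normalizer (Q : Set G))) :
    ∀ (n : ℕ) (X T : Subgroup G), Nat.card G - Nat.card T ≤ n → IsPGroup p X → X ≠ ⊥ →
      IsSylowIn p T (normalizer (X : Set G)) →
      ∃ P : Sylow p G, T ≤ P ∧
        normalizer (X : Set G) ≤ normalizer (Cfsg.centerThompsonAOf (P : Subgroup G) : Set G) := by
  intro n
  induction n using Nat.strong_induction_on with
  | _ n ih =>
    intro X T hn hX hX1 hT
    obtain ⟨h1, h2, h3⟩ := hloc X hX hX1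
    have hXT : X ≤ T := by
      obtain ⟨g, hg, hle⟩ := hT.exists_cj_le hX le_normalizer
      rwa [mem_normalizer_iff_cj.1 hg] at hle
    have hT1 : T ≠ ⊥ := fun h => hX1 (le_bot_iff.1 (h ▸ hXT))
    have hNZ : normalizer (X : Set G) ≤ normalizer (Cfsg.centerThompsonAOf T : Set G) := by
      obtain ⟨T0, hT0⟩ := hT.exists_sylow
      have h := CfsgLib.ZJ.sup_normalizer_centerThompsonAOf hp h2 h3 T0
      rw [h1, bot_sup_eq] at h
      have he := CfsgLib.ZJ.centerThompsonAOf_map (normalizer (X : Set G)).subtype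
        (T0 : Subgroup ↥(normalizer (X : Set G))) fun _ _ hx => Subtype.ext hx
      rw [hT0] at he
      rw [he]
      intro g hg
      have hg' : (⟨g, hg⟩ : normalizer (X : Set G)) ∈
          normalizer (Cfsg.centerThompsonAOf (T0 : Subgroup ↥(normalizer (X : Set G))) : Set _) :=
        h ▸ mem_top _
      exact le_normalizer_map _ ⟨_, hg', rfl⟩
    obtain ⟨P1, hP1⟩ := hT.2.1.exists_le_sylow
    rcases eq_or_lt_of_le hP1 with he | hlt
    · exact ⟨P1, hP1, he ▸ hNZ⟩
    have hgrow := lt_inf_normalizer P1.2 hlt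
    have hRle : (P1 : Subgroup G) ⊓ normalizer (T : Set G) ≤
        normalizer (Cfsg.centerThompsonAOf T : Set G) :=
      inf_le_right.trans (normalizer_le_ctA T)
    obtain ⟨T1, hT1', hRT1⟩ := exists_sylowIn_ge (P1.2.to_le inf_le_left) hRle
    have hcard : Nat.card T < Nat.card T1 :=
      lt_of_lt_of_le (Nat.lt_of_not_le fun hc =>
        hgrow.ne (Subgroup.eq_of_le_of_card_ge hgrow.le hc)) (Subgroup.card_le_of_le hRT1)
    have hle : Nat.card T1 ≤ Nat.card G := Subgroup.card_le_card_group _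
    have hZle : Cfsg.centerThompsonAOf T ≤ T := inf_le_left.trans (map_subtype_le _)
    obtain ⟨P, hP, hNP⟩ := ih (Nat.card G - Nat.card T1) (by omega) (Cfsg.centerThompsonAOf T) T1
      le_rfl (hT.2.1.to_le hZle)
      (CfsgLib.Fusion.centerThompsonAOf_ne_bot hT.2.1 hT1) hT1'
    exact ⟨P, (hgrow.le.trans hRT1).trans hP, hNZ.trans hNP⟩

/-- Sylow subgroups with nontrivial intersection give the same normalizer of `Z(J)`. -/
theorem same_normalizer (hp : p ≠ 2)
    (hloc : ∀ Q : Subgroup G, IsPGroup p Q → Q ≠ ⊥ →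
      Cfsg.pPrimeCore p ↥(normalizer (Q : Set G)) = ⊥ ∧
      Cfsg.IsPConstrained p ↥(normalizer (Q : Set G)) ∧
      Cfsg.IsPStable p ↥(normalizer (Q : Set G))) :
    ∀ (n : ℕ) (P P' : Sylow p G), Nat.card G - Nat.card ↥((P : Subgroup G) ⊓ P') ≤ n →
      (P : Subgroup G) ⊓ P' ≠ ⊥ →
      normalizer (Cfsg.centerThompsonAOf (P : Subgroup G) : Set G) =
        normalizer (Cfsg.centerThompsonAOf (P' : Subgroup G) : Set G) := by
  intro n
  induction n using Nat.strong_induction_on with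
  | _ n ih =>
    intro P P' hn hD1
    rcases eq_or_lt_of_le (inf_le_left : (P : Subgroup G) ⊓ P' ≤ P) with he | hlt
    · rw [P.3 P'.2 (he.ge.trans inf_le_right)]
    have hlt' : (P : Subgroup G) ⊓ P' < P' := lt_of_le_of_ne inf_le_right fun he =>
      hlt.ne (le_antisymm inf_le_left (by rw [← P'.3 P.2 (he.ge.trans inf_le_left)] at *; simp))
    set D := (P : Subgroup G) ⊓ P' with hD
    have hDp : IsPGroup p D := P.2.to_le inf_le_left
    have step : ∀ R R' : Sylow p G, D < (R : Subgroup G) ⊓ R' →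
        normalizer (Cfsg.centerThompsonAOf (R : Subgroup G) : Set G) =
          normalizer (Cfsg.centerThompsonAOf (R' : Subgroup G) : Set G) := by
      intro R R' hDR
      have hc : Nat.card D < Nat.card ↥((R : Subgroup G) ⊓ R') := Nat.lt_of_not_le fun hc =>
        hDR.ne (Subgroup.eq_of_le_of_card_ge hDR.le hc)
      have hle : Nat.card ↥((R : Subgroup G) ⊓ R') ≤ Nat.card G := Subgroup.card_le_card_group _
      exact ih _ (by omega) R R' le_rfl fun h => hD1 (le_bot_iff.1 (h ▸ hDR.le))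
    have g1 := lt_inf_normalizer P.2 hlt
    have g2 := lt_inf_normalizer P'.2 hlt'
    obtain ⟨T1, hT1, hle1⟩ := exists_sylowIn_ge (P.2.to_le (inf_le_left (b := normalizer (D : Set G))))
      (inf_le_right : (P : Subgroup G) ⊓ normalizer (D : Set G) ≤ _)
    obtain ⟨Ps, hPs, hNs⟩ := exists_sylow_local hp hloc _ D T1 le_rfl hDp hD1 hT1
    obtain ⟨x, hx, hxle⟩ := hT1.exists_cj_le (P'.2.to_le (inf_le_left (b := normalizer (D : Set G))))
      (inf_le_right : (P' : Subgroup G) ⊓ normalizer (D : Set G) ≤ _)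
    have e1 := step P Ps (g1.trans_le (le_inf inf_le_left (hle1.trans hPs)))
    have hco : ((x⁻¹ • Ps : Sylow p G) : Subgroup G) = x⁻¹ ⋆ (Ps : Subgroup G) := rfl
    have e2 := step P' (x⁻¹ • Ps) (g2.trans_le (le_inf inf_le_left (by
      rw [hco]
      refine le_trans (le_of_eq ?_) (cj_mono x⁻¹ (hxle.trans hPs))
      rw [cj_cj, inv_mul_cancel, cj_one])))
    rw [e1, e2, hco, ctA_cj, mem_normalizer_iff_cj.1 (hNs (inv_mem hx))]

end aux

/-- In a group of characteristic p type all of whose p-locals are p-stable (p odd), the normalizer of Z(J(P)) contains the normalizer of every nontrivial subgroup of the Sylow p-subgroup P. -/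
theorem result {G : Type*} [Group G] [Finite G] {p : ℕ} [Fact p.Prime] (hp : p ≠ 2) (hloc : ∀ Q : Subgroup G, IsPGroup p Q → Q ≠ ⊥ → Cfsg.pPrimeCore p ↥(Subgroup.normalizer (Q : Set G)) = ⊥ ∧ Cfsg.IsPConstrained p ↥(Subgroup.normalizer (Q : Set G)) ∧ Cfsg.IsPStable p ↥(Subgroup.normalizer (Q : Set G))) (P : Sylow p G) (Q : Subgroup G) (hQP : Q ≤ (P : Subgroup G)) (hQ1 : Q ≠ ⊥) : Subgroup.normalizer (Q : Set G) ≤ Subgroup.normalizer (Cfsg.centerThompsonAOf ((P : Subgroup G)) : Set G) := by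
  have hQp : IsPGroup p Q := P.2.to_le hQP
  obtain ⟨T, hT⟩ := CfsgLib.Functor.exists_sylowIn (p := p) (Subgroup.normalizer (Q : Set G))
  obtain ⟨Ps, hPs, hNs⟩ := exists_sylow_local hp hloc _ Q T le_rfl hQp hQ1 hT
  have hQT : Q ≤ T := by
    obtain ⟨g, hg, hle⟩ := hT.exists_cj_le hQp Subgroup.le_normalizer
    rwa [CfsgLib.Functor.mem_normalizer_iff_cj.1 hg] at hle
  rw [same_normalizer hp hloc _ P Ps le_rfl fun h =>
    hQ1 (le_bot_iff.1 (h ▸ le_inf hQP (hQT.trans hPs)))]
  exact hNs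

end Cfsg.Agent.S0658
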