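import Cfsg.Statements.S0660
-- import your own Cfsg.Agent.* helpers here

set_option autoImplicit false
open Cfsg

namespace Cfsg.Agent.S0660

/-- Under a coprime action on an abelian group, an invariant subgroup that is complemented admits an invariant complement. -/
theorem result {G : Type*} [Group G] [Finite G] (V A U : Subgroup G) (hVab : IsMulCommutative V) (hAV : A ≤ Subgroup.normalizer (V : Set G)) (hcop : (Nat.card A).Coprime (Nat.card V)) (hUV : U ≤ V) (hAU : A ≤ Subgroup.normalizer (U : Set G)) (W : Subgroup G) (hWV : W ≤ V) (hUW : U ⊓ W = ⊥) (hUWV : U ⊔ W = V) : ∃ W' : Subgroup G, W' ≤ V ∧ A ≤ Subgroup.normalizer (W' : Set G) ∧ U ⊓ W' = ⊥ ∧ U ⊔ W' = V := by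
  classical
  have : Fintype A := Fintype.ofFinite A
  let i1 : CommGroup V := { (inferInstance : Group V) with mul_comm := hVab.is_comm.comm }
  let conjV : A → V →* V := fun a =>
    { toFun := fun v => ⟨(a : G) * v * (a : G)⁻¹, (Subgroup.mem_normalizer_iff.mp (hAV a.2) v).mp v.2⟩
      map_one' := Subtype.ext (by simp)
      map_mul' := fun v w => Subtype.ext (by simp [mul_assoc]) }
  have hconj_comp : ∀ (a b : A) (v : V), conjV a (conjV b v) = conjV (a * b) v := fun a b v =>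
    Subtype.ext (show (a : G) * ((b : G) * v * (b : G)⁻¹) * (a : G)⁻¹ = ((a * b : A) : G) * v * ((a * b : A) : G)⁻¹ by
      rw [Subgroup.coe_mul]; group)
  have hcomm : ∀ x ∈ V, ∀ y ∈ V, x * y = y * x := fun x hx y hy =>
    congrArg Subtype.val (hVab.is_comm.comm (⟨x, hx⟩ : V) ⟨y, hy⟩)
  have hdec : ∀ v : V, ∃ u ∈ U, ∃ w ∈ W, u * w = (v : G) := by
    intro v
    have hn : U ≤ Subgroup.normalizer (W : Set G) := fun u hu =>
      Subgroup.centralizer_le_normalizer _ (Subgroup.mem_centralizer_iff.mpr fun w hw => hcomm w (hWV hw) u (hUV hu))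
    have hv : (v : G) ∈ U ⊔ W := hUWV.symm ▸ v.2
    rw [← SetLike.mem_coe, Subgroup.coe_mul_of_left_le_normalizer_right U W hn] at hv
    obtain ⟨u, hu, w, hw, e⟩ := hv
    exact ⟨u, hu, w, hw, e⟩
  choose pu hpu pw hpw hpe using hdec
  have huniq : ∀ u ∈ U, ∀ w ∈ W, ∀ u' ∈ U, ∀ w' ∈ W, u * w = u' * w' → u = u' := by
    intro u hu w hw u' hu' w' hw' e
    have e1 : u'⁻¹ * u = w' * w⁻¹ := by
      rw [inv_mul_eq_iff_eq_mul, ← mul_assoc, eq_mul_inv_iff_mul_eq, e]
    have : u'⁻¹ * u ∈ U ⊓ W := ⟨U.mul_mem (U.inv_mem hu') hu, e1 ▸ W.mul_mem hw' (W.inv_mem hw)⟩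
    rw [hUW, Subgroup.mem_bot, inv_mul_eq_one] at this
    exact this.symm
  let π : V →* V := MonoidHom.mk' (fun v => ⟨pu v, hUV (hpu v)⟩) fun v w => Subtype.ext <| by
    refine huniq _ (hpu (v * w)) _ (hpw (v * w)) _ (U.mul_mem (hpu v) (hpu w)) _ (W.mul_mem (hpw v) (hpw w)) ?_
    calc pu (v * w) * pw (v * w) = (pu v * pw v) * (pu w * pw w) := by rw [hpe, hpe, hpe]; rfl
      _ = pu v * (pw v * pu w) * pw w := by group
      _ = _ := by rw [hcomm _ (hWV (hpw v)) _ (hUV (hpu w))]; simp only [Subgroup.coe_mul]; group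
  let r : V →* V := ∏ a : A, (conjV a).comp (π.comp (conjV a⁻¹))
  have hr : ∀ v, r v = ∏ a : A, conjV a (π (conjV a⁻¹ v)) := fun v => by simp [r]
  let UV : Subgroup V := U.subgroupOf V
  have hrU : ∀ v, r v ∈ UV := fun v => by
    rw [hr]
    refine Subgroup.prod_mem _ fun a _ => ?_
    exact (Subgroup.mem_normalizer_iff.mp (hAU a.2) _).mp (hpu _)
  have hrid : ∀ u : V, (u : G) ∈ U → r u = u ^ Nat.card A := by
    intro u hu
    rw [hr, Nat.card_eq_fintype_card, ← Finset.card_univ, ← Finset.prod_const]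
    refine Finset.prod_congr rfl fun a _ => ?_
    have hu' : ((conjV a⁻¹ u : V) : G) ∈ U := (Subgroup.mem_normalizer_iff.mp (hAU (a⁻¹).2) _).mp hu
    have e : π (conjV a⁻¹ u) = conjV a⁻¹ u := Subtype.ext
      (huniq _ (hpu _) _ (hpw _) _ hu' 1 W.one_mem (by rw [hpe, mul_one]))
    rw [e, hconj_comp, mul_inv_cancel]
    exact Subtype.ext (by simp [conjV])
  have hrc : ∀ (b : A) (v : V), r (conjV b v) = conjV b (r v) := by
    intro b v
    rw [hr, hr, map_prod]
    refine (Fintype.prod_equiv (Equiv.mulLeft b) _ _ fun a => ?_).symm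
    change conjV b (conjV a (π (conjV a⁻¹ v))) = conjV (b * a) (π (conjV (b * a)⁻¹ (conjV b v)))
    rw [hconj_comp, hconj_comp, mul_inv_rev, inv_mul_cancel_right]
  have hcopU : Nat.Coprime (Nat.card UV) (Nat.card A) :=
    (Nat.Coprime.coprime_dvd_right (Subgroup.card_subgroup_dvd_card UV) hcop).symm
  refine ⟨(r.ker).map V.subtype, Subgroup.map_subtype_le _, fun b hb => ?_, ?_, ?_⟩
  · refine Subgroup.mem_normalizer_iff.mpr fun x => ?_
    have key : ∀ c : A, ∀ y ∈ (r.ker).map V.subtype, (c : G) * y * (c : G)⁻¹ ∈ (r.ker).map V.subtype := by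
      rintro c _ ⟨y, hy, rfl⟩
      exact ⟨conjV c y, show r (conjV c y) = 1 by rw [hrc, hy, map_one], rfl⟩
    exact ⟨key ⟨b, hb⟩ x, fun hx => by simpa [mul_assoc] using key ⟨b, hb⟩⁻¹ _ hx⟩
  · rw [eq_bot_iff]
    rintro _ ⟨hu, ⟨u, hk, rfl⟩⟩
    have h1 : (⟨u, hu⟩ : UV) ^ Nat.card A = 1 := Subtype.ext ((hrid u hu).symm.trans hk)
    have := (powCoprime hcopU).injective (a₁ := ⟨u, hu⟩) (a₂ := 1) (by simpa using h1)
    rw [Subgroup.mem_bot]
    exact congrArg (fun z : UV => ((z : V) : G)) this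
  · refine le_antisymm (sup_le hUV (Subgroup.map_subtype_le _)) fun v hv => ?_
    obtain ⟨u, hu⟩ := (powCoprime hcopU).surjective ⟨r ⟨v, hv⟩, hrU _⟩
    have hu' : r (u : V) = r ⟨v, hv⟩ := by
      rw [hrid _ u.2]; exact congrArg Subtype.val hu
    have hk : ((u : V)⁻¹ * ⟨v, hv⟩) ∈ r.ker := by
      rw [MonoidHom.mem_ker, map_mul, map_inv, hu', inv_mul_cancel]
    have hu2 : ((u : V) : G) ∈ U := u.2
    have := Subgroup.mul_mem_sup hu2 (Subgroup.mem_map_of_mem V.subtype hk)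
    simpa using this


end Cfsg.Agent.S0660
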