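import Cfsg.Statements.S0662
import Cfsg.Agent.PLocal.MaximalClass
-- import your own Cfsg.Agent.* helpers here

set_option autoImplicit false
open Cfsg
open scoped commutatorElement Pointwise

namespace Cfsg.Agent.S0662

/-- In a p-group of maximal class of order at least p³ the normal subgroups of index at least p² are exactly the terms of the lower central series, and there are exactly p + 1 normal subgroups of index p. -/
theorem result {G : Type*} [Group G] [Finite G] {p : ℕ} [Fact p.Prime] (n : ℕ) (hG : Nat.card G = p ^ n) (hcl : Group.nilpotencyClass G = n - 1) (hn : 3 ≤ n) : (∀ (N : Subgroup G) [N.Normal] (r : ℕ), 2 ≤ r → N.index = p ^ r → N = (⊤ : Subgroup G).lowerCentralSeries (r - 1)) ∧ Nat.card {N : Subgroup G // N.Normal ∧ N.index = p} = p + 1 := by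
  have hp : p.Prime := Fact.out
  have hG' : IsPGroup p G := IsPGroup.of_card hG
  haveI := hG'.isNilpotent
  set L := fun i => (⊤ : Subgroup G).lowerCentralSeries i with hL
  have hne : L (n - 2) ≠ ⊥ := fun h => by
    have := (lowerCentralSeries_eq_bot_iff_nilpotencyClass_le).1 h
    omega
  have hbot : L (n - 1) = ⊥ := lowerCentralSeries_eq_bot_iff_nilpotencyClass_le.2 hcl.le
  have hnorm : ∀ i, (⊤ : Subgroup G) ≤ Subgroup.normalizer (L i : Set G) :=
    fun i => (⊤ : Subgroup G).self_le_normalizer_lowerCentralSeries i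
  have hupper : ∀ j i, i + j = n - 1 → p ^ j ≤ Nat.card (L i) := by
    intro j
    induction j with
    | zero => intro i _; rw [pow_zero]; exact Nat.card_pos
    | succ j ih =>
      intro i hi
      have hLi : L i ≠ ⊥ := fun h => hne (le_bot_iff.1
        ((Subgroup.lowerCentralSeries_antitone (⊤ : Subgroup G) (by omega : i ≤ n - 2)).trans h.le))
      have h1 : p * Nat.card (L (i + 1)) ≤ Nat.card (L i) :=
        CfsgLib.Uniserial.descend (hG'.to_subgroup ⊤) le_top le_top (hnorm i) hLi
      calc p ^ (j + 1) = p * p ^ j := by rw [pow_succ']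
        _ ≤ p * Nat.card (L (i + 1)) := Nat.mul_le_mul_left _ (ih (i + 1) (by omega))
        _ ≤ _ := h1
  have hidx : ∀ i, 1 ≤ i → i ≤ n - 1 → (L i).index = p ^ (i + 1) := by
    intro i hi1 hi2
    rcases hi2.lt_or_eq with hlt | rfl
    · obtain ⟨i', rfl⟩ : ∃ i', i = i' + 1 := ⟨i - 1, by omega⟩
      refine le_antisymm ?_ (CfsgLib.Uniserial.index_lcs_ge hG' i' fun h => hne (le_bot_iff.1
        ((Subgroup.lowerCentralSeries_antitone (⊤ : Subgroup G) (by omega : i' + 1 ≤ n - 2)).trans h.le)))
      have h1 := hupper (n - 1 - (i' + 1)) (i' + 1) (by omega)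
      refine Nat.le_of_mul_le_mul_right ?_ (pow_pos hp.pos (n - 1 - (i' + 1)))
      calc (L (i' + 1)).index * p ^ (n - 1 - (i' + 1)) ≤ (L (i' + 1)).index * Nat.card (L (i' + 1)) :=
            Nat.mul_le_mul_left _ h1
        _ = p ^ n := by rw [Subgroup.index_mul_card, hG]
        _ = _ := by rw [← pow_add]; congr 1; omega
    · rw [hbot, Subgroup.index_bot, hG]; congr 1; omega
  refine ⟨fun N hNn r hr hNi => ?_, ?_⟩
  · haveI := hNn
    have hrn : r ≤ n := by
      have := N.index_dvd_card
      rw [hNi, hG] at this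
      exact (Nat.pow_dvd_pow_iff_le_right hp.one_lt).1 this
    have hle : L (r - 1) ≤ N := by
      have hq : IsPGroup p (G ⧸ N) := hG'.to_quotient N
      have hcard : Nat.card (G ⧸ N) = p ^ r := by rw [← Subgroup.index_eq_card, hNi]
      have hz : (⊤ : Subgroup (G ⧸ N)).lowerCentralSeries (r - 1) = ⊥ := by
        by_contra hne'
        have h1 := CfsgLib.Uniserial.index_lcs_ge hq (r - 2) (by rwa [show r - 2 + 1 = r - 1 by omega])
        rw [show r - 2 + 1 = r - 1 by omega, show r - 2 + 2 = r by omega] at h1
        have h2 := ((⊤ : Subgroup (G ⧸ N)).lowerCentralSeries (r - 1)).index_mul_card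
        rw [hcard] at h2
        have h3 := (Subgroup.one_lt_card_iff_ne_bot _).2 hne'
        have h4 : 0 < p ^ r := pow_pos hp.pos r
        nlinarith
      rw [← QuotientGroup.ker_mk' N, ← Subgroup.map_eq_bot_iff, Subgroup.map_lowerCentralSeries,
        ← MonoidHom.range_eq_map, MonoidHom.range_eq_top.2 (QuotientGroup.mk'_surjective N)]
      exact hz
    refine (CfsgLib.Solvable.eq_of_le_of_card_le hle ?_).symm
    have h1 := N.index_mul_card
    rw [hNi, ← (L (r - 1)).index_mul_card, hidx (r - 1) (by omega) (by omega),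
      show r - 1 + 1 = r by omega] at h1
    exact (Nat.eq_of_mul_eq_mul_left (pow_pos hp.pos r) h1).le
  · have h1ne : L 1 ≠ ⊥ := fun h => hne (le_bot_iff.1
      ((Subgroup.lowerCentralSeries_antitone (⊤ : Subgroup G) (by omega : 1 ≤ n - 2)).trans h.le))
    have hcard : Nat.card (G ⧸ L 1) = p ^ 2 := by
      rw [← Subgroup.index_eq_card, hidx 1 le_rfl (by omega)]
    rw [← CfsgLib.Uniserial.card_subgroups_prime hcard (CfsgLib.Uniserial.not_isCyclic_abelianization hG' h1ne)]
    let π := QuotientGroup.mk' (L 1)
    have hπ : Function.Surjective π := QuotientGroup.mk'_surjective _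
    have hcomm : ∀ K : Subgroup (G ⧸ L 1), K.Normal := fun K => by
      haveI : IsMulCommutative (G ⧸ L 1) := IsPGroup.isMulCommutative_of_card_eq_prime_sq hcard
      infer_instance
    have hle : ∀ N : Subgroup G, N.Normal → N.index = p → L 1 ≤ N := fun N hN hi => by
      haveI := hN; exact CfsgLib.Uniserial.commutator_le_of_index_prime hi
    refine Nat.card_congr
      { toFun := fun N => ⟨N.1.map π, ?_⟩
        invFun := fun K => ⟨K.1.comap π, (hcomm K.1).comap π, ?_⟩
        left_inv := fun N => Subtype.ext ?_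
        right_inv := fun K => Subtype.ext (Subgroup.map_comap_eq_self_of_surjective hπ K.1) }
    · have h := (N.1.map π).index_mul_card
      rw [Subgroup.index_map_eq _ hπ (by rw [QuotientGroup.ker_mk']; exact hle _ N.2.1 N.2.2), N.2.2,
        hcard, sq] at h
      exact Nat.eq_of_mul_eq_mul_left hp.pos h
    · have h := K.1.index_mul_card
      rw [K.2, hcard, sq] at h
      rw [Subgroup.index_comap_of_surjective _ hπ]
      exact Nat.eq_of_mul_eq_mul_right hp.pos h
    · change (N.1.map π).comap π = N.1
      rw [Subgroup.comap_map_eq, QuotientGroup.ker_mk', sup_eq_left.2 (hle _ N.2.1 N.2.2)]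


end Cfsg.Agent.S0662
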