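import Cfsg.Statements.S0663
import Cfsg.Agent.PLocal.Uniserial
-- import your own Cfsg.Agent.* helpers here

set_option autoImplicit false
open Cfsg
open scoped commutatorElement Pointwise

namespace Cfsg.Agent.S0663

/-- A p-group acts uniserially on a p-group N of order p^n exactly when the iterated commutator chain from N has length n; in that case the chain terms are all the invariant subgroups of N and they are normal in N. -/
theorem result {L : Type*} [Group L] [Finite L] {p : ℕ} [Fact p.Prime] (N G : Subgroup L) (hN : IsPGroup p N) (hG : IsPGroup p G) (hGN : G ≤ Subgroup.normalizer (N : Set L)) (n : ℕ) (hn : Nat.card N = p ^ n) : ((∀ H : Subgroup L, H ≤ N → G ≤ Subgroup.normalizer (H : Set L) → H ≠ ⊥ → (⁅H, G⁆).relIndex H = p) ↔ Cfsg.iterCommutator N G (n - 1) ≠ ⊥ ∨ n = 0) ∧ ((∀ H : Subgroup L, H ≤ N → G ≤ Subgroup.normalizer (H : Set L) → H ≠ ⊥ → (⁅H, G⁆).relIndex H = p) → ∀ H : Subgroup L, H ≤ N → G ≤ Subgroup.normalizer (H : Set L) → (∃ i ≤ n, H = Cfsg.iterCommutator N G i) ∧ N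 ≤ Subgroup.normalizer (H : Set L)) := by
  have hp : p.Prime := Fact.out
  have hQ : IsPGroup p ↥(N ⊔ G) := IsPGroup.to_sup_of_normal_left' hN hG hGN
  have hNQ : N ≤ N ⊔ G := le_sup_left
  have hPQ : G ≤ N ⊔ G := le_sup_right
  have hU : (∀ H : Subgroup L, H ≤ N → G ≤ Subgroup.normalizer (H : Set L) → H ≠ ⊥ → (⁅H, G⁆).relIndex H = p) →
      n ≠ 0 → Cfsg.iterCommutator N G (n - 1) ≠ ⊥ := by
    intro hyp hn0
    have key : ∀ j ≤ n, Nat.card (Cfsg.iterCommutator N G j) = p ^ (n - j) := by
      intro j hj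
      induction j with
      | zero => exact hn
      | succ j ih =>
        have ih' := ih (by omega)
        have hne : Cfsg.iterCommutator N G j ≠ ⊥ := fun h => by
          rw [h, Subgroup.card_bot] at ih'
          exact (Nat.one_lt_pow (by omega) hp.one_lt).ne ih'
        have h1 := hyp _ (CfsgLib.Uniserial.iter_le hGN j).2.2 (CfsgLib.Uniserial.iter_le hGN j).1 hne
        have h2 : Nat.card (Cfsg.iterCommutator N G (j + 1)) * p = p ^ (n - j) := by
          rw [← ih', ← h1, ← Subgroup.relIndex_bot_left, ← Subgroup.relIndex_bot_left]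
          exact Subgroup.relIndex_mul_relIndex ⊥ _ _ bot_le (CfsgLib.Uniserial.iter_le hGN j).2.1
        rw [show n - j = n - (j + 1) + 1 by omega, pow_succ] at h2
        exact Nat.eq_of_mul_eq_mul_right hp.pos h2
    intro h
    have := key (n - 1) (by omega)
    rw [h, Subgroup.card_bot, show n - (n - 1) = 1 by omega, pow_one] at this
    exact hp.one_lt.ne this
  have hN0 : n = 0 → ∀ H : Subgroup L, H ≤ N → H = ⊥ := fun h H hH => by
    have : N = ⊥ := N.eq_bot_of_card_eq (by rw [hn, h, pow_zero])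
    exact le_bot_iff.1 (this ▸ hH)
  refine ⟨⟨fun hyp => ?_, ?_⟩, fun hyp H hH hHP => ?_⟩
  · by_cases h : n = 0
    · exact Or.inr h
    · exact Or.inl (hU hyp h)
  · intro h H hH hHP hH1
    rcases h with h | h
    · obtain ⟨⟨i, hi, rfl⟩, -⟩ := CfsgLib.Uniserial.uniserial hQ hNQ hPQ hGN hn h H hH hHP
      have hin : i < n := by
        refine lt_of_le_of_ne hi fun he => hH1 ?_
        rw [he, CfsgLib.Uniserial.iter_eq_bot hQ hNQ hPQ hGN hn]
      have h1 := CfsgLib.Uniserial.iter_card_eq hQ hNQ hPQ hGN hn h hi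
      have h2 := CfsgLib.Uniserial.iter_card_eq hQ hNQ hPQ hGN hn h (j := i + 1) (by omega)
      have h3 : Nat.card (Cfsg.iterCommutator N G (i + 1)) *
          (Cfsg.iterCommutator N G (i + 1)).relIndex (Cfsg.iterCommutator N G i) =
          Nat.card (Cfsg.iterCommutator N G i) := by
        rw [← Subgroup.relIndex_bot_left, ← Subgroup.relIndex_bot_left]
        exact Subgroup.relIndex_mul_relIndex ⊥ _ _ bot_le (CfsgLib.Uniserial.iter_le hGN i).2.1
      rw [h1, h2, show n - i = n - (i + 1) + 1 by omega, pow_succ] at h3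
      exact Nat.eq_of_mul_eq_mul_left (pow_pos hp.pos _) h3
    · exact absurd (hN0 h H hH) hH1
  · by_cases h : n = 0
    · have h1 := hN0 h H hH
      subst h1
      refine ⟨⟨0, Nat.zero_le n, ?_⟩, ?_⟩
      · exact (hN0 h N le_rfl).symm
      · intro x _; rw [Subgroup.normalizer_eq_top]; exact Subgroup.mem_top x
    · exact CfsgLib.Uniserial.uniserial hQ hNQ hPQ hGN hn (hU hyp h) H hH hHP


end Cfsg.Agent.S0663
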