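import Cfsg.Statements.S0666
import Cfsg.Agent.Frobenius.Basic
import Cfsg.Agent.Char.FrobeniusKernel
-- import your own Cfsg.Agent.* helpers here

set_option autoImplicit false
open Cfsg
open scoped Pointwise

namespace Cfsg.Agent.S0666

/-- A Frobenius group acting on a nontrivial abelian group of order prime to that of its kernel, with the kernel acting without nontrivial fixed points, has a complement with a nontrivial fixed point. -/
theorem result {G : Type*} [Group G] [Finite G] (V F : Subgroup G) (hVab : IsMulCommutative V) (hV1 : V ≠ ⊥) (hFV : F ≤ Subgroup.normalizer (V : Set G)) (H : Subgroup ↥F) (hH : Cfsg.IsFrobeniusComplement H) (hcop : (Nat.card V).Coprime (Nat.card (Cfsg.frobeniusKernel H))) (hCK : V ⊓ Subgroup.centralizer (Subtype.val '' Cfsg.frobeniusKernel H : Set G) = ⊥) : V ⊓ Subgroup.centralizer ((H.map F.subtype : Subgroup G) : Set G) ≠ ⊥ := by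
  classical
  have : Fintype F := Fintype.ofFinite F
  let i1 : CommGroup V := { (inferInstance : Group V) with mul_comm := hVab.is_comm.comm }
  let φ : F →* MulAut V := (Subgroup.normalizerMonoidHom V).comp (Subgroup.inclusion hFV)
  have hφ : ∀ (f : F) (v : V), ((φ f v : V) : G) = (f : G) * v * (f : G)⁻¹ := fun f v => rfl
  by_contra hCH
  have hTI : ∀ g : F, g ∉ H → ∀ h ∈ H, g * h * g⁻¹ ∈ H → h = 1 := by
    intro g hg h hh hc
    by_contra h1
    refine hg (inv_mem_iff.1 (CfsgLib.Frobenius.mem_of_conj_mem hH (g := g⁻¹) h1 hh ?_))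
    rwa [inv_inv]
  obtain ⟨K, -, -, -, -, hK⟩ := CfsgLib.Char.exists_frobenius_kernel H hTI
  have hKset : (K : Set F) = Cfsg.frobeniusKernel H := by
    ext g
    simp only [SetLike.mem_coe, hK, Cfsg.frobeniusKernel, Set.mem_setOf_eq, CfsgLib.Frobenius.mem_conj_iff]
  have fixK : ∀ v : V, (∀ k ∈ K, φ k v = v) → v = 1 := by
    intro v hv
    have hm : (v : G) ∈ V ⊓ Subgroup.centralizer (Subtype.val '' Cfsg.frobeniusKernel H : Set G) := by
      refine ⟨v.2, Subgroup.mem_centralizer_iff.2 ?_⟩
      rintro _ ⟨k, hk, rfl⟩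
      have := congrArg Subtype.val (hv k (by rw [← SetLike.mem_coe, hKset]; exact hk))
      rw [hφ, mul_inv_eq_iff_eq_mul] at this
      exact this
    rw [hCK, Subgroup.mem_bot] at hm
    exact Subtype.ext hm
  have fixH : ∀ v : V, (∀ h ∈ H, φ h v = v) → v = 1 := by
    intro v hv
    have hm : (v : G) ∈ V ⊓ Subgroup.centralizer ((H.map F.subtype : Subgroup G) : Set G) := by
      refine ⟨v.2, Subgroup.mem_centralizer_iff.2 ?_⟩
      rintro _ ⟨k, hk, rfl⟩
      have := congrArg Subtype.val (hv k hk)
      rw [hφ, mul_inv_eq_iff_eq_mul] at this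
      exact this
    rw [hCH, Subgroup.mem_bot] at hm
    exact Subtype.ext hm
  have hnorm : ∀ (D : Subgroup F) (v : V), (∀ w : V, (∀ d ∈ D, φ d w = w) → w = 1) →
      ∏ e ∈ Finset.univ.filter (· ∈ D), φ e v = 1 := by
    intro D v hfix
    refine hfix _ fun d hd => ?_
    rw [map_prod]
    refine Finset.prod_nbij' (fun x => d * x) (fun x => d⁻¹ * x) ?_ ?_ ?_ ?_ ?_
    · intro x hx
      simp only [Finset.mem_filter, Finset.mem_univ, true_and] at hx ⊢
      exact mul_mem hd hx
    · intro x hx
      simp only [Finset.mem_filter, Finset.mem_univ, true_and] at hx ⊢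
      exact mul_mem (inv_mem hd) hx
    · intro x _; simp
    · intro x _; simp
    · intro x _; simp [map_mul]
  let C : Option (F ⧸ H) → Subgroup F := fun i => Option.elim i K fun q => MulAut.conj q.out • H
  have hfixC : ∀ i, ∀ w : V, (∀ d ∈ C i, φ d w = w) → w = 1 := by
    rintro (_ | q) w hw
    · exact fixK w hw
    · have : φ q.out⁻¹ w = 1 := fixH _ fun h hh => by
        have := hw (q.out * h * q.out⁻¹) (CfsgLib.Frobenius.mem_conj_iff.2 (by simpa [mul_assoc] using hh))
        calc φ h (φ q.out⁻¹ w) = φ q.out⁻¹ (φ (q.out * h * q.out⁻¹) w) := by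
              rw [← MulAut.mul_apply, ← MulAut.mul_apply, ← map_mul, ← map_mul]; congr 2; group
          _ = φ q.out⁻¹ w := by rw [this]
      simpa using this
  have hpart : ∀ e : F, e ≠ 1 → ∃! i, e ∈ C i := by
    intro e he
    by_cases heK : e ∈ K
    · refine ⟨none, heK, ?_⟩
      rintro (_ | q) hq
      · rfl
      · exact absurd (CfsgLib.Frobenius.mem_conj_iff.1 hq) (((hK e).1 heK).resolve_left he q.out)
    · obtain ⟨x, hx⟩ : ∃ x : F, x⁻¹ * e * x ∈ H := by
        by_contra hne
        exact heK ((hK e).2 (Or.inr fun x hx => hne ⟨x, hx⟩))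
      obtain ⟨h, hh⟩ := QuotientGroup.mk_out_eq_mul H x
      refine ⟨some ↑x, ?_, ?_⟩
      · change e ∈ MulAut.conj (Quotient.out (↑x : F ⧸ H)) • H
        rw [CfsgLib.Frobenius.mem_conj_iff, hh]
        have := H.mul_mem (H.mul_mem (H.inv_mem h.2) hx) h.2
        simpa [mul_assoc] using this
      · rintro (_ | q) hq
        · exact absurd hq heK
        · have := CfsgLib.Frobenius.inv_mul_mem_of_mem_conj hH he hx (CfsgLib.Frobenius.mem_conj_iff.1 hq)
          congr 1
          rw [← QuotientGroup.out_eq' q, eq_comm, QuotientGroup.eq]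
          exact this
  refine hV1 (Subgroup.eq_bot_iff_forall _ |>.2 fun v hv => ?_)
  have hins : ∀ D : Subgroup F, Finset.univ.filter (· ∈ D) =
      insert 1 ((Finset.univ.erase 1).filter (· ∈ D)) := by
    intro D
    ext e
    by_cases he : e = 1 <;> simp [he, one_mem]
  set w : V := ⟨v, hv⟩ with hw
  set X := ∏ e ∈ Finset.univ.erase (1 : F), φ e w with hX
  have h1 : w * X = 1 := by
    have := hnorm ⊤ w fun u hu => fixK u fun k _ => hu k (Subgroup.mem_top k)
    simp only [Subgroup.mem_top, Finset.filter_true] at this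
    rw [← this, hX, ← Finset.mul_prod_erase _ _ (Finset.mem_univ (1 : F)), map_one, MulAut.one_apply]
  have h2 : w ^ Fintype.card (Option (F ⧸ H)) * X = 1 := by
    have hall : ∏ i, ∏ e ∈ Finset.univ.filter (· ∈ C i), φ e w = 1 :=
      Finset.prod_eq_one fun i _ => hnorm _ w (hfixC i)
    simp only [hins, Finset.prod_insert (show (1 : F) ∉ (Finset.univ.erase 1).filter _ by simp),
      map_one, MulAut.one_apply, Finset.prod_mul_distrib, Finset.prod_const,
      Finset.card_univ] at hall
    rw [← hall, hX]
    congr 1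
    simp only [Finset.prod_filter]
    rw [Finset.prod_comm]
    refine Finset.prod_congr rfl fun e he => ?_
    obtain ⟨i, hi, huq⟩ := hpart e (Finset.ne_of_mem_erase he)
    rw [Finset.prod_eq_single i (fun j _ hj => if_neg fun hm => hj (huq j hm))
      (fun hh => absurd (Finset.mem_univ i) hh), if_pos hi]
  have hpow : w ^ H.index = 1 := by
    have := mul_right_cancel (h2.trans h1.symm)
    rw [Fintype.card_option, pow_succ] at this
    rw [H.index_eq_card, Nat.card_eq_fintype_card]
    exact mul_eq_right.1 this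
  rw [CfsgLib.Frobenius.card_frobeniusKernel hH] at hcop
  have := (powCoprime hcop).injective (a₁ := w) (a₂ := 1) (by simpa using hpow)
  exact congrArg Subtype.val this


end Cfsg.Agent.S0666
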