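import Cfsg.Statements.S0670
import Mathlib
-- import your own Cfsg.Agent.* helpers here

set_option autoImplicit false
open Cfsg
open scoped commutatorElement Pointwise

namespace Cfsg.Agent.S0670

/-- In characteristic `p`, the permutation module of a transitive action of degree `p ^ f` has the line of constant functions as its only irreducible submodule: every non-zero subrepresentation contains it. -/
theorem result {G : Type*} [Group G] [Finite G] {K : Type*} [Field K] {p f : ℕ} [Fact p.Prime] [CharP K p] {Ω : Type*} [Fintype Ω] [MulAction G Ω] [MulAction.IsPretransitive G Ω] (hf : 1 ≤ f) (hcard : Fintype.card Ω = p ^ f) (W : Subrepresentation (Cfsg.permRep K G Ω)) (hW : W.toSubmodule ≠ ⊥) : (Cfsg.permConstants K G Ω).toSubmodule ≤ W.toSubmodule := by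
  classical
  obtain ⟨P⟩ := (inferInstance : Nonempty (Sylow p G))
  have htrans : ∀ a b : Ω, ∃ g ∈ (P : Subgroup G), g • a = b := by
    intro a b
    have hidx : (MulAction.stabilizer G a).index = p ^ f := by
      rw [MulAction.index_stabilizer_of_transitive, Nat.card_eq_fintype_card, hcard]
    have hdvd : p ^ f ∣ (MulAction.stabilizer G a).relIndex (P : Subgroup G) := by
      have h1 := Subgroup.relIndex_mul_index (inf_le_right : MulAction.stabilizer G a ⊓ (P : Subgroup G) ≤ P)
      have h2 := Subgroup.relIndex_mul_index (inf_le_left : MulAction.stabilizer G a ⊓ (P : Subgroup G) ≤ MulAction.stabilizer G a)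
      rw [Subgroup.inf_relIndex_right, ← h2, hidx] at h1
      have h3 : p ^ f ∣ (MulAction.stabilizer G a).relIndex (P : Subgroup G) * (P : Subgroup G).index :=
        h1 ▸ dvd_mul_left _ _
      exact (((Fact.out : p.Prime).coprime_iff_not_dvd.2 P.not_dvd_index).pow_left f).dvd_of_dvd_mul_right h3
    have hst : (MulAction.stabilizer G a).relIndex (P : Subgroup G) = (MulAction.stabilizer (P : Subgroup G) a).index := by
      have e : (MulAction.stabilizer G a).subgroupOf (P : Subgroup G) = MulAction.stabilizer (P : Subgroup G) a :=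
        Subgroup.ext fun x => Iff.rfl
      rw [← e, Subgroup.relIndex]
    rw [hst, MulAction.index_stabilizer] at hdvd
    have hle : Nat.card Ω ≤ (MulAction.orbit (P : Subgroup G) a).ncard := by
      rw [Nat.card_eq_fintype_card, hcard]
      refine Nat.le_of_dvd ?_ hdvd
      exact (Set.ncard_pos (Set.toFinite _)).2 ⟨a, MulAction.mem_orbit_self a⟩
    have hu : MulAction.orbit (P : Subgroup G) a = Set.univ :=
      Set.eq_of_subset_of_ncard_le (Set.subset_univ _) (by rw [Set.ncard_univ]; exact hle) (Set.toFinite _)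
    obtain ⟨g, hg⟩ := (hu.symm ▸ Set.mem_univ b : b ∈ MulAction.orbit (P : Subgroup G) a)
    exact ⟨g, g.2, hg⟩
  obtain ⟨w, hw, hw0⟩ := (Submodule.ne_bot_iff _).1 hW
  letI : Algebra (ZMod p) K := ZMod.algebra K p
  set A : Submodule (ZMod p) (Ω → K) := Submodule.span (ZMod p) (Set.range fun g : G => Cfsg.permRep K G Ω g w) with hA
  haveI : FiniteDimensional (ZMod p) A := FiniteDimensional.span_of_finite _ (Set.finite_range _)
  haveI : Finite A := Module.finite_of_finite (ZMod p)
  have hAW : ∀ v ∈ A, v ∈ W.toSubmodule := by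
    intro v hv
    have hle : A ≤ W.toSubmodule.restrictScalars (ZMod p) := Submodule.span_le.2 <| by
      rintro _ ⟨g, rfl⟩
      exact W.apply_mem_toSubmodule g hw
    exact hle hv
  have hAinv : ∀ (g : G), ∀ v ∈ A, Cfsg.permRep K G Ω g v ∈ A := by
    intro g v hv
    have hle : A ≤ A.comap ((Cfsg.permRep K G Ω g).restrictScalars (ZMod p)) := Submodule.span_le.2 <| by
      rintro _ ⟨h, rfl⟩
      refine Submodule.subset_span ⟨g * h, ?_⟩
      simp [map_mul]
    exact hle hv
  letI : MulAction (P : Subgroup G) A :=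
    { smul := fun g v => ⟨Cfsg.permRep K G Ω (g : G) (v : Ω → K), hAinv g v v.2⟩
      one_smul := fun v => Subtype.ext (by change Cfsg.permRep K G Ω ((1 : (P : Subgroup G)) : G) (v : Ω → K) = v; simp)
      mul_smul := fun g h v => Subtype.ext (by
        change Cfsg.permRep K G Ω ((g * h : (P : Subgroup G)) : G) (v : Ω → K) =
          Cfsg.permRep K G Ω (g : G) (Cfsg.permRep K G Ω (h : G) (v : Ω → K))
        simp [map_mul]) }
  have hwA : w ∈ A := Submodule.subset_span ⟨1, by simp⟩
  have hp : p ∣ Nat.card A := by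
    rw [Module.natCard_eq_pow_finrank (K := ZMod p) (V := A), Nat.card_zmod]
    refine dvd_pow_self p ?_
    intro h0
    haveI := Module.finrank_zero_iff.1 h0
    exact hw0 (congrArg Subtype.val (Subsingleton.elim (⟨w, hwA⟩ : A) 0))
  have h0 : (0 : A) ∈ MulAction.fixedPoints (P : Subgroup G) A := fun g => Subtype.ext (by
    change Cfsg.permRep K G Ω (g : G) ((0 : A) : Ω → K) = ((0 : A) : Ω → K)
    simp)
  obtain ⟨v, hv, hv0⟩ := P.2.exists_fixed_point_of_prime_dvd_card_of_fixed_point A hp h0
  have hv' : ∀ x y : Ω, (v : Ω → K) x = (v : Ω → K) y := by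
    intro x y
    obtain ⟨g, hg, rfl⟩ := htrans x y
    have h1 : Cfsg.permRep K G Ω g (v : Ω → K) = v := congrArg Subtype.val (hv ⟨g, hg⟩)
    have h2 := congrFun h1 (g • x)
    change (v : Ω → K) (g⁻¹ • g • x) = _ at h2
    rwa [inv_smul_smul] at h2
  change Submodule.span K {fun _ => (1 : K)} ≤ _
  rw [Submodule.span_singleton_le_iff_mem]
  obtain ⟨x, hx⟩ : ∃ x, (v : Ω → K) x ≠ 0 := by
    by_contra h
    push Not at h
    exact hv0 (Subtype.ext (funext h)).symm
  have : (fun _ : Ω => (1 : K)) = ((v : Ω → K) x)⁻¹ • (v : Ω → K) := by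
    funext y
    rw [Pi.smul_apply, smul_eq_mul, ← hv' x y, inv_mul_cancel₀ hx]
  rw [this]
  exact W.toSubmodule.smul_mem _ (hAW _ v.2)


end Cfsg.Agent.S0670
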