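import Cfsg.Statements.S0671
import Mathlib
import Cfsg.Agent.S0670
-- import your own Cfsg.Agent.* helpers here

set_option autoImplicit false
open Cfsg
open scoped commutatorElement Pointwise

namespace Cfsg.Agent.S0671

/-- If the heart of the permutation module in characteristic `p` of a transitive action of degree `p ^ f` has no trivial composition factor, the action is doubly transitive. The hypothesis is phrased without composition series: no invariant subspaces `W < W'` between the constants and the sum-zero functions with trivial action on the quotient. -/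
theorem result {G : Type*} [Group G] [Finite G] {K : Type*} [Field K] {p f : ℕ} [Fact p.Prime] [CharP K p] {Ω : Type*} [Fintype Ω] [MulAction G Ω] [MulAction.IsPretransitive G Ω] (hf : 1 ≤ f) (hcard : Fintype.card Ω = p ^ f) (h : ∀ W W' : Subrepresentation (Cfsg.permRep K G Ω), (Cfsg.permConstants K G Ω).toSubmodule ≤ W.toSubmodule → W.toSubmodule < W'.toSubmodule → W'.toSubmodule ≤ (Cfsg.permSumZero K G Ω).toSubmodule → ∃ g : G, ∃ v ∈ W'.toSubmodule, Cfsg.permRep K G Ω g v - v ∉ W.toSubmodule) : MulAction.IsMultiplyPretransitive G Ω 2 := by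
  classical
  haveI : Fact (1 < Fintype.card Ω) := ⟨hcard ▸ Nat.one_lt_pow (by omega) (Fact.out : p.Prime).one_lt⟩
  rw [MulAction.is_two_pretransitive_iff]
  by_contra hn
  push Not at hn
  obtain ⟨x, y, z, w, hxy, hzw, hno⟩ := hn
  obtain ⟨g₀, hg₀⟩ := MulAction.exists_smul_eq G z x
  -- `y` and `d` lie in different orbits of the stabiliser of `x`
  let d := g₀ • w
  have hdx : d ≠ x := fun e => hzw (smul_left_cancel g₀ (hg₀.trans e.symm))
  have hd : ¬ ∃ g : G, g • x = x ∧ g • y = d := by
    rintro ⟨g, h1, h2⟩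
    refine hno (g₀⁻¹ * g) ?_ ?_
    · rw [mul_smul, h1, inv_smul_eq_iff, hg₀]
    · rw [mul_smul, h2, inv_smul_smul]
  let ρ := Cfsg.permRep K G Ω
  have hρ : ∀ (g : G) (v : Ω → K) (u : Ω), ρ g v u = v (g⁻¹ • u) := fun g v u => rfl
  let R : Ω → Ω → Prop := fun u v => ∃ g : G, g • x = u ∧ g • y = v
  have hR : ∀ (g : G) (u v : Ω), R u v → R (g • u) (g • v) := fun g u v ⟨k, h1, h2⟩ =>
    ⟨g * k, by rw [mul_smul, h1], by rw [mul_smul, h2]⟩
  let k : K := ((Finset.univ.filter fun v => R x v).card : K)
  let T : (Ω → K) →ₗ[K] (Ω → K) :=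
    { toFun := fun v u => (∑ t, if R u t then v t else 0) - k * v u
      map_add' := fun v v' => by
        funext u
        simp only [Pi.add_apply, mul_add]
        rw [show (∑ t, if R u t then v t + v' t else 0) =
          (∑ t, if R u t then v t else 0) + ∑ t, if R u t then v' t else 0 by
            rw [← Finset.sum_add_distrib]; exact Finset.sum_congr rfl fun t _ => by split_ifs <;> simp]
        ring
      map_smul' := fun c v => by
        funext u
        simp only [Pi.smul_apply, smul_eq_mul, RingHom.id_apply, mul_sub, Finset.mul_sum, mul_ite,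
          mul_zero]
        ring }
  have hT : ∀ (v : Ω → K) (u : Ω), T v u = (∑ t, if R u t then v t else 0) - k * v u :=
    fun v u => rfl
  have hTg : ∀ (g : G) (v : Ω → K), T (ρ g v) = ρ g (T v) := by
    intro g v
    funext u
    simp only [hT, hρ]
    congr 1
    refine Fintype.sum_equiv (MulAction.toPerm g⁻¹) _ _ fun t => ?_
    have : R u t ↔ R (g⁻¹ • u) (g⁻¹ • t) :=
      ⟨hR g⁻¹ u t, fun hh => by simpa using hR g _ _ hh⟩
    simp only [MulAction.toPerm_apply]
    exact if_congr this rfl rfl
  have hdeg : ∀ u, ((Finset.univ.filter fun v => R u v).card : K) = k := by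
    intro u
    obtain ⟨g, rfl⟩ := MulAction.exists_smul_eq G x u
    show _ = ((Finset.univ.filter fun v => R x v).card : K)
    congr 1
    refine Finset.card_bij (fun v _ => g⁻¹ • v) (fun v hv => ?_) (fun _ _ _ _ e => smul_left_cancel _ e)
      (fun v hv => ⟨g • v, ?_, by simp⟩)
    · simp only [Finset.mem_filter, Finset.mem_univ, true_and] at hv ⊢
      simpa using hR g⁻¹ _ _ hv
    · simp only [Finset.mem_filter, Finset.mem_univ, true_and] at hv ⊢
      exact hR g _ _ hv
  have hT1 : T (fun _ => 1) = 0 := by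
    funext u
    simp only [hT, mul_one, Pi.zero_apply, Finset.sum_boole, hdeg, sub_self]
  let S := Cfsg.permSumZero K G Ω
  let C := Cfsg.permConstants K G Ω
  have hCS : C.toSubmodule ≤ S.toSubmodule := by
    rw [show C.toSubmodule = Submodule.span K {fun _ => (1 : K)} from rfl, Submodule.span_le,
      Set.singleton_subset_iff]
    show ∑ _u : Ω, (1 : K) = 0
    simp only [Finset.sum_const, Finset.card_univ, hcard, nsmul_one, Nat.cast_pow, CharP.cast_eq_zero K p]
    exact zero_pow (by omega)
  let W : Subrepresentation ρ :=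
    { toSubmodule := LinearMap.ker T ⊓ S.toSubmodule
      apply_mem_toSubmodule := fun g v hv => ⟨by
        show T (ρ g v) = 0
        rw [hTg, show T v = 0 from hv.1, map_zero], S.apply_mem_toSubmodule g hv.2⟩ }
  let W' : Subrepresentation ρ :=
    { toSubmodule := C.toSubmodule.comap T ⊓ S.toSubmodule
      apply_mem_toSubmodule := fun g v hv => ⟨by
        show T (ρ g v) ∈ C.toSubmodule
        rw [hTg]; exact C.apply_mem_toSubmodule g hv.1, S.apply_mem_toSubmodule g hv.2⟩ }
  let I : Subrepresentation ρ :=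
    { toSubmodule := S.toSubmodule.map T
      apply_mem_toSubmodule := by
        rintro g _ ⟨v, hv, rfl⟩
        exact ⟨ρ g v, S.apply_mem_toSubmodule g hv, hTg g v⟩ }
  have hI : I.toSubmodule ≠ ⊥ := by
    rw [Submodule.ne_bot_iff]
    refine ⟨_, ⟨Pi.single y (1 : K) - Pi.single d (1 : K), ?_, rfl⟩, fun e => ?_⟩
    · show ∑ u, (Pi.single y (1 : K) - Pi.single d (1 : K) : Ω → K) u = 0
      simp [Pi.single_apply, Finset.sum_sub_distrib]
    · have := congrFun e x
      simp only [hT, Pi.sub_apply, Pi.single_apply, Pi.zero_apply] at this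
      rw [if_neg hxy, if_neg (Ne.symm hdx), sub_zero, mul_zero, sub_zero,
        Finset.sum_eq_single y] at this
      · rw [if_pos ⟨1, one_smul _ _, one_smul _ _⟩, if_pos rfl,
          if_neg (fun e' => hd ⟨1, one_smul _ _, by rw [one_smul, e']⟩)] at this
        simp at this
      · intro t _ hty
        by_cases h1 : R x t
        · rw [if_pos h1, if_neg hty, if_neg (fun (e' : t = d) => hd (e' ▸ h1)), sub_zero]
        · rw [if_neg h1]
      · simp
  have hle : C.toSubmodule ≤ I.toSubmodule := Cfsg.Agent.S0670.result hf hcard I hI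
  obtain ⟨v, hvS, hv⟩ := hle (Submodule.subset_span (Set.mem_singleton (fun _ : Ω => (1 : K))))
  obtain ⟨g, v', hv', hgv⟩ := h W W' (fun u hu => ⟨by
      obtain ⟨c, rfl⟩ := Submodule.mem_span_singleton.1 hu
      show T (c • fun _ => 1) = 0
      rw [map_smul, hT1, smul_zero], hCS hu⟩)
    (lt_of_le_of_ne (fun u hu => ⟨by
        show T u ∈ C.toSubmodule
        rw [show T u = 0 from hu.1]; exact C.toSubmodule.zero_mem, hu.2⟩) fun e => by
      have : v ∈ W.toSubmodule := e ▸ (⟨(hv ▸ Submodule.subset_span (Set.mem_singleton _) :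
        T v ∈ C.toSubmodule), hvS⟩ : v ∈ W'.toSubmodule)
      have h0 : T v = 0 := this.1
      rw [hv] at h0
      exact one_ne_zero (congrFun h0 x))
    (fun u hu => hu.2)
  apply hgv
  obtain ⟨c, hc⟩ := Submodule.mem_span_singleton.1 (hv'.1 : T v' ∈ C.toSubmodule)
  refine ⟨?_, S.toSubmodule.sub_mem (S.apply_mem_toSubmodule g hv'.2) hv'.2⟩
  show T (ρ g v' - v') = 0
  rw [map_sub, hTg, ← hc]
  funext u
  simp [hρ]


end Cfsg.Agent.S0671
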