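import Cfsg.Statements.S0673
import Mathlib
-- import your own Cfsg.Agent.* helpers here

set_option autoImplicit false
open Cfsg
open scoped commutatorElement Pointwise

namespace Cfsg.Agent.S0673

/-- In characteristic `p`, the translation-invariant subspaces of the space of functions on `ZMod p` are exactly the spaces of polynomial functions of degree less than `r`, one for each `r ≤ p`, of dimension `r`. -/
theorem result {p : ℕ} [Fact p.Prime] {K : Type*} [Field K] [CharP K p] (W : Submodule K (ZMod p → K)) (hW : ∀ f ∈ W, (fun j => f (j - 1)) ∈ W) : ∃ r : ℕ, r ≤ p ∧ Module.finrank K W = r ∧ ∀ f : ZMod p → K, f ∈ W ↔ ∃ P : Polynomial K, P.degree < r ∧ ∀ j : ZMod p, f j = P.eval (ZMod.cast j : K) := by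
  classical
  have hp : p.Prime := Fact.out
  let T : Module.End K (ZMod p → K) := LinearMap.funLeft K K fun j : ZMod p => j - 1
  let Δ : Module.End K (ZMod p → K) := T - 1
  have hT : ∀ f j, T f j = f (j - 1) := fun f j => rfl
  have hTpow : ∀ n : ℕ, ∀ f j, (T ^ n) f j = f (j - n) := by
    intro n
    induction n with
    | zero => simp
    | succ n ih =>
      intro f j
      rw [pow_succ, Module.End.mul_apply, ih, hT]
      congr 1
      push_cast
      ring
  haveI : CharP (Module.End K (ZMod p → K)) p :=
    charP_of_injective_algebraMap (algebraMap K (Module.End K (ZMod p → K))).injective p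
  have hnil : Δ ^ p = 0 := by
    rw [show Δ = T - 1 from rfl, sub_pow_char_of_commute _ (Commute.one_right T), one_pow, sub_eq_zero]
    apply LinearMap.ext
    intro f
    funext j
    rw [hTpow, Module.End.one_apply, ZMod.natCast_self, sub_zero]
  have hker1 : Module.finrank K (LinearMap.ker Δ) ≤ 1 := by
    refine le_trans (Submodule.finrank_mono (t := K ∙ (fun _ : ZMod p => (1 : K))) fun f hf => ?_) ?_
    · rw [LinearMap.mem_ker] at hf
      have hstep : ∀ j, f (j - 1) = f j := fun j => by
        have := congrFun hf j
        simpa [Δ, hT, sub_eq_zero] using this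
      rw [Submodule.mem_span_singleton]
      refine ⟨f 0, funext fun j => ?_⟩
      have : ∀ n : ℕ, f (n : ZMod p) = f 0 := by
        intro n
        induction n with
        | zero => simp
        | succ n ih => rw [← hstep ((n + 1 : ℕ) : ZMod p)]; simpa using ih
      rw [Pi.smul_apply, smul_eq_mul, mul_one, ← ZMod.natCast_rightInverse j]
      exact (this _).symm
    · exact (finrank_span_le_card _).trans (by simp)
  have hkern : ∀ r : ℕ, Module.finrank K (LinearMap.ker (Δ ^ r)) ≤ r := by
    intro r
    induction r with
    | zero => simp [Module.End.one_eq_id]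
    | succ r ih =>
      let g : LinearMap.ker (Δ ^ (r + 1)) →ₗ[K] (ZMod p → K) := Δ ∘ₗ Submodule.subtype _
      have h1 := g.finrank_range_add_finrank_ker
      have h2 : Module.finrank K (LinearMap.range g) ≤ r := by
        refine le_trans (Submodule.finrank_mono ?_) ih
        rintro _ ⟨v, rfl⟩
        rw [LinearMap.mem_ker]
        have := LinearMap.mem_ker.1 v.2
        generalize hw : ((v : LinearMap.ker (Δ ^ (r + 1))) : ZMod p → K) = w at this
        rw [pow_succ, Module.End.mul_apply] at this
        change (Δ ^ r) (Δ (v : ZMod p → K)) = 0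
        rw [hw]
        exact this
      have h3 : Module.finrank K (LinearMap.ker g) ≤ 1 := by
        refine le_trans ?_ hker1
        let e : LinearMap.ker g →ₗ[K] LinearMap.ker Δ :=
          ((Submodule.subtype _).comp (Submodule.subtype _)).codRestrict _ fun v => LinearMap.mem_ker.1 v.2
        refine LinearMap.finrank_le_finrank_of_injective (f := e) ?_
        intro u v huv
        have h : ((u : LinearMap.ker (Δ ^ (r + 1))) : ZMod p → K) = ((v : LinearMap.ker (Δ ^ (r + 1))) : ZMod p → K) :=
          congrArg (fun z : LinearMap.ker Δ => (z : ZMod p → K)) huv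
        exact Subtype.ext (Subtype.ext h)
      omega
  have key : ∀ U : Submodule K (ZMod p → K), (∀ f ∈ U, (fun j => f (j - 1)) ∈ U) →
      U = LinearMap.ker (Δ ^ Module.finrank K U) := by
    intro U hU
    refine Submodule.eq_of_le_of_finrank_le ?_ (hkern _)
    have hUΔ : ∀ f ∈ U, Δ f ∈ U := fun f hf => U.sub_mem (hU f hf) hf
    intro f hf
    let D : Module.End K U := Δ.restrict hUΔ
    have hD : ∀ (n : ℕ) (u : U), ((D ^ n) u : ZMod p → K) = (Δ ^ n) u := by
      intro n
      induction n with
      | zero => simp
      | succ n ih =>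
        intro u
        rw [pow_succ', pow_succ', Module.End.mul_apply, Module.End.mul_apply, ← ih]
        rfl
    have hle := Module.End.ker_pow_le_ker_pow_finrank D p
    have hmem : (⟨f, hf⟩ : U) ∈ LinearMap.ker (D ^ p) := by
      rw [LinearMap.mem_ker]
      apply Subtype.ext
      rw [hD, hnil]
      rfl
    have := congrArg Subtype.val (LinearMap.mem_ker.1 (hle hmem))
    rw [hD] at this
    exact LinearMap.mem_ker.2 this
  set r := Module.finrank K W with hr
  have hrp : r ≤ p := (Submodule.finrank_le W).trans (by rw [Module.finrank_fintype_fun_eq_card, ZMod.card])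
  let ev : Polynomial.degreeLT K r →ₗ[K] (ZMod p → K) :=
    (LinearMap.pi fun j : ZMod p => Polynomial.leval (ZMod.cast j : K)).comp (Submodule.subtype _)
  have hev : ∀ P j, ev P j = (P : Polynomial K).eval (ZMod.cast j : K) := fun P j => rfl
  have hinj : Function.Injective ev := by
    rw [injective_iff_map_eq_zero]
    intro P hP
    refine Subtype.ext ?_
    by_contra hne
    have hne' : (P : Polynomial K) ≠ 0 := hne
    have hdeg : (P : Polynomial K).natDegree < r :=
      (Polynomial.natDegree_lt_iff_degree_lt hne').2 (Polynomial.mem_degreeLT.1 P.2)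
    have hcast : Function.Injective fun j : ZMod p => (ZMod.cast j : K) :=
      (ZMod.castHom (dvd_refl p) K).injective
    refine hne' (Polynomial.eq_zero_of_natDegree_lt_card_of_eval_eq_zero _ hcast
      (fun j => ?_) (by rw [ZMod.card]; omega))
    rw [← hev, hP]
    rfl
  have hV : LinearMap.range ev = W := by
    have hinv : ∀ f ∈ LinearMap.range ev, (fun j => f (j - 1)) ∈ LinearMap.range ev := by
      rintro _ ⟨P, rfl⟩
      have hdeg : ((P : Polynomial K).comp (Polynomial.X - Polynomial.C (1 : K))) ∈ Polynomial.degreeLT K r := by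
        rw [Polynomial.mem_degreeLT]
        have hP := Polynomial.mem_degreeLT.1 P.2
        by_cases h0 : (P : Polynomial K) = 0
        · rw [h0, Polynomial.zero_comp, Polynomial.degree_zero]; exact WithBot.bot_lt_coe _
        refine lt_of_le_of_lt Polynomial.degree_le_natDegree ?_
        rw [Polynomial.natDegree_comp, Polynomial.natDegree_X_sub_C, mul_one]
        exact_mod_cast (Polynomial.natDegree_lt_iff_degree_lt h0).2 hP
      refine ⟨⟨_, hdeg⟩, funext fun j => ?_⟩
      rw [hev, hev, Polynomial.eval_comp, Polynomial.eval_sub, Polynomial.eval_X, Polynomial.eval_C]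
      congr 1
      rw [ZMod.cast_sub (dvd_refl p), ZMod.cast_one (dvd_refl p)]
    have h1 := key _ hinv
    rw [LinearMap.finrank_range_of_inj hinj, (Polynomial.degreeLTEquiv K r).finrank_eq,
      Module.finrank_fin_fun] at h1
    exact h1.trans (key W hW).symm
  refine ⟨r, hrp, rfl, fun f => ?_⟩
  rw [← hV]
  constructor
  · rintro ⟨P, rfl⟩
    exact ⟨P, Polynomial.mem_degreeLT.1 P.2, fun j => hev P j⟩
  · rintro ⟨P, hP, hf⟩
    exact ⟨⟨P, Polynomial.mem_degreeLT.2 hP⟩, funext fun j => (hev _ j).trans (hf j).symm⟩


end Cfsg.Agent.S0673
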