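import Cfsg.Statements.S0678
import Cfsg.Agent.PermSimple.Sharp
import Cfsg.Agent.PermSimple.PrimeDegree
import Mathlib.GroupTheory.GroupAction.Jordan
import Mathlib.GroupTheory.SpecificGroups.ZGroup
import Mathlib.GroupTheory.Transfer
import Cfsg.Agent.Perm.PrimeDegree

set_option autoImplicit false
open Cfsg

namespace Cfsg.Agent.S0678

open MulAction

/-- An element of order `p` is conjugate into any subgroup containing the full `p`-part. -/
theorem exists_conj_mem {S : Type*} [Group S] [Finite S] {p k : ℕ} [hp : Fact p.Prime]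
    (H : Subgroup S) (hk : (Nat.card S).factorization p = k) (hH : p ^ k ∣ Nat.card H) (x : S)
    (hx : orderOf x = p) : ∃ g : S, g * x * g⁻¹ ∈ H := by
  obtain ⟨Q⟩ : Nonempty (Sylow p H) := inferInstance
  have hQ : Nat.card ((Q : Subgroup H).map H.subtype) = p ^ (Nat.card S).factorization p := by
    rw [Subgroup.card_map_of_injective H.subtype_injective, Q.card_eq_multiplicity]
    congr 1
    refine le_antisymm ((Nat.factorization_le_iff_dvd Nat.card_pos.ne' Nat.card_pos.ne').mpr
      H.card_subgroup_dvd_card p) ?_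
    rw [hk]
    exact (hp.out.pow_dvd_iff_le_factorization Nat.card_pos.ne').mp hH
  obtain ⟨R, hR⟩ := (IsPGroup.of_card (n := 1) (show Nat.card (Subgroup.zpowers x) = p ^ 1 by
    rw [Nat.card_zpowers, hx, pow_one]) : IsPGroup p (Subgroup.zpowers x)).exists_le_sylow
  obtain ⟨g, hg⟩ := MulAction.exists_smul_eq S R (Sylow.ofCard _ hQ)
  refine ⟨g, ?_⟩
  have h1 : g * x * g⁻¹ ∈ ((g • R : Sylow p S) : Subgroup S) :=
    Subgroup.mem_pointwise_smul_iff_inv_smul_mem.mpr (by
      simpa [MulAut.smul_def, MulAut.conj_symm_apply, mul_assoc] using hR (Subgroup.mem_zpowers x))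
  rw [hg] at h1
  exact Subgroup.map_subtype_le _ h1

theorem factorization_eq {p k n : ℕ} (hp : p.Prime) (hn : n ≠ 0) (h1 : p ^ k ∣ n)
    (h2 : ¬ p ^ (k + 1) ∣ n) : n.factorization p = k := by
  rw [hp.pow_dvd_iff_le_factorization hn] at h1 h2
  omega

theorem squarefree_210 : Squarefree 210 := by
  rw [Nat.squarefree_iff_prime_squarefree]
  intro x hx hd
  have h1 := Nat.le_of_dvd (by norm_num) hd
  have h2 : x ≤ 14 := by nlinarith
  interval_cases x <;> (revert hx hd; norm_num)

set_option maxRecDepth 8000 in
theorem divisors_mod_seven : ∀ n ∈ Nat.divisors 720, n % 7 = 1 →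
    n = 1 ∨ n = 8 ∨ n = 15 ∨ n = 36 ∨ n = 120 := by
  decide

/-- A non-solvable transitive permutation group on 7 points that does not contain the alternating group is a simple group of order 168. -/
theorem result {α : Type*} [Fintype α] [DecidableEq α] (hα : Fintype.card α = 7) (G : Subgroup (Equiv.Perm α)) [MulAction.IsPretransitive G α] (hG : ¬ Group.IsSolvable G) (hA : ¬ alternatingGroup α ≤ G) : Nat.card G = 168 ∧ IsSimpleGroup G := by
  classical
  haveI : Fact (Nat.Prime 7) := ⟨by norm_num⟩
  haveI : Fact (Nat.Prime 3) := ⟨Nat.prime_three⟩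
  haveI : Fact (Nat.Prime 2) := ⟨Nat.prime_two⟩
  have hα' : Nat.card α = 7 := by rw [Nat.card_eq_fintype_card, hα]
  haveI : IsPreprimitive G α := IsPreprimitive.of_prime_card (by rw [hα']; norm_num)
  have hS : Nat.card (Equiv.Perm α) = 5040 := by rw [Nat.card_perm, hα']; decide
  have hdG : Nat.card G ∣ 5040 := hS ▸ G.card_subgroup_dvd_card
  obtain ⟨a⟩ : Nonempty α := Fintype.card_pos_iff.mp (by omega)
  have h7 : 7 ∣ Nat.card G := by
    rw [← hα', ← index_stabilizer_of_transitive G a]; exact Subgroup.index_dvd_card _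
  -- no 3-cycle, no transposition
  have h9 : ¬ 9 ∣ Nat.card G := by
    intro h
    obtain ⟨c, hc⟩ : ∃ c : Equiv.Perm α, c.IsThreeCycle := by
      obtain ⟨x, y, z, hxy, hxz, hyz⟩ := Fintype.two_lt_card_iff.mp (show 2 < Fintype.card α by omega)
      exact ⟨_, Equiv.Perm.isThreeCycle_swap_mul_swap_same hxy hxz hyz⟩
    have hk : (Nat.card (Equiv.Perm α)).factorization 3 = 2 := by
      rw [hS]
      exact factorization_eq Nat.prime_three (by norm_num) (by norm_num) (by norm_num)
    obtain ⟨g, hg⟩ := exists_conj_mem (k := 2) G hk (by simpa using h) c hc.orderOf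
    exact hA (Equiv.Perm.alternatingGroup_le_of_isPreprimitive_of_isThreeCycle_mem ‹_› (g := g * c * g⁻¹) (by rw [Equiv.Perm.IsThreeCycle, Equiv.Perm.cycleType_conj]; exact hc) hg)
  have h16 : ¬ 16 ∣ Nat.card G := by
    intro h
    obtain ⟨x, y, hxy⟩ := Fintype.exists_pair_of_one_lt_card (show 1 < Fintype.card α by omega)
    have hk : (Nat.card (Equiv.Perm α)).factorization 2 = 4 := by
      rw [hS]
      exact factorization_eq Nat.prime_two (by norm_num) (by norm_num) (by norm_num)
    obtain ⟨g, hg⟩ := exists_conj_mem (k := 4) G hk (by simpa using h) (Equiv.swap x y)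
      (orderOf_eq_prime (by rw [pow_two, Equiv.swap_mul_self]) fun e => hxy (Equiv.swap_eq_one_iff.mp e))
    refine hA ?_
    rw [Equiv.Perm.subgroup_eq_top_of_isPreprimitive_of_isSwap_mem ‹_› (g * Equiv.swap x y * g⁻¹)
      ⟨g x, g y, fun e => hxy (g.injective e), by rw [Equiv.swap_apply_apply]⟩ hg]
    exact le_top
  -- the Sylow 7-normaliser
  obtain ⟨P⟩ : Nonempty (Sylow 7 G) := inferInstance
  have hP : Nat.card (P : Subgroup G) = 7 := by
    obtain ⟨g, hg, hPg⟩ := CfsgLib.PrimeDegree.exists_sylow_generator (α := α) hα' P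
    rw [hPg, Nat.card_zpowers, hg]
  have hcen := CfsgLib.PermSimple.centralizer_eq_of_card (α := α) hP hα'
  haveI : IsCyclic (P : Subgroup G) := isCyclic_of_prime_card hP
  set N := Subgroup.normalizer ((P : Subgroup G) : Set G) with hN
  set d := ((P : Subgroup G).subgroupOf N).index with hd
  have hker : (P : Subgroup G).normalizerMonoidHom.ker = (P : Subgroup G).subgroupOf N := by
    rw [Subgroup.normalizerMonoidHom_ker, hcen]
  have hd6 : d ∣ 6 := by
    have h := Subgroup.card_subgroup_dvd_card (P : Subgroup G).normalizerMonoidHom.range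
    rw [← Subgroup.index_ker, hker, IsCyclic.card_mulAut, hP,
      Nat.totient_prime (by norm_num : Nat.Prime 7)] at h
    exact h
  have hNc : Nat.card N = 7 * d := by
    rw [hd, ← Subgroup.card_mul_index ((P : Subgroup G).subgroupOf N),
      Nat.card_congr (Subgroup.subgroupOfEquivOfLe Subgroup.le_normalizer).toEquiv, hP]
  have hidx : N.index = Nat.card (Sylow 7 G) := P.card_eq_index_normalizer.symm
  have hG' : Nat.card G = 7 * d * Nat.card (Sylow 7 G) := by
    rw [← hidx, ← hNc, Subgroup.card_mul_index]
  set n := Nat.card (Sylow 7 G) with hn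
  have hn1 : n ≠ 1 := by
    intro h1
    apply hG
    have htop : N = ⊤ := by
      rw [← Subgroup.index_eq_one, hidx, h1]
    haveI : Group.IsSolvable N := by
      letI : CommGroup (MulAut (P : Subgroup G)) :=
        (IsCyclic.mulAutMulEquiv (P : Subgroup G)).toMonoidHom.commGroupOfInjective
          (IsCyclic.mulAutMulEquiv (P : Subgroup G)).injective
      haveI : Group.IsSolvable (P : Subgroup G) := by
        letI := IsCyclic.commGroup (α := (P : Subgroup G))
        infer_instance
      refine Group.isSolvable_of_ker_le_range (Subgroup.inclusion (Subgroup.le_normalizer))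
        (P : Subgroup G).normalizerMonoidHom ?_
      rw [hker, Subgroup.inclusion_range]
    haveI : Group.IsSolvable (⊤ : Subgroup G) := htop ▸ this
    exact Group.isSolvable_of_surjective (f := (Subgroup.topEquiv : (⊤ : Subgroup G) ≃* G).toMonoidHom)
      Subgroup.topEquiv.surjective
  have hd1 : d ≠ 1 := by
    intro h1
    have hle : N ≤ Subgroup.centralizer ((P : Subgroup G) : Set G) := by
      rw [hcen]
      exact Subgroup.subgroupOf_eq_top.mp (Subgroup.index_eq_one.mp h1)
    have hcompl := MonoidHom.ker_transferSylow_isComplement' P hle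
    set K := (MonoidHom.transferSylow P hle).ker with hK
    by_cases hKb : K = ⊥
    · rw [hKb] at hcompl
      apply hn1
      have hPt : (P : Subgroup G) = ⊤ := Subgroup.isComplement'_bot_left.mp hcompl
      rw [← hidx, Subgroup.index_eq_one]
      exact eq_top_iff.mpr (hPt.ge.trans Subgroup.le_normalizer)
    · have : 7 ∣ Nat.card K := by
        haveI := CfsgLib.PermBasic.isPretransitive_of_normal (α := α) K hKb
        rw [← hα', ← index_stabilizer_of_transitive K a]; exact Subgroup.index_dvd_card _
      have hmul := hcompl.card_mul_card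
      rw [hP] at hmul
      have : 49 ∣ 5040 := (mul_dvd_mul_right this 7).trans (hmul ▸ hdG)
      norm_num at this
  have hn7 : n % 7 = 1 := card_sylow_modEq_one 7 G
  have hndvd : d * n ∣ 720 := by
    have := hG' ▸ hdG
    rw [mul_assoc] at this
    exact Nat.dvd_of_mul_dvd_mul_left (by norm_num : 0 < 7) this
  have hcases := divisors_mod_seven n (Nat.mem_divisors.mpr ⟨(dvd_mul_left n d).trans hndvd, by norm_num⟩) hn7
  have hsq : ¬ Squarefree (Nat.card G) := fun h => by
    haveI := IsZGroup.of_squarefree h
    exact hG inferInstance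
  have hd' : d ∈ Nat.divisors 6 := Nat.mem_divisors.mpr ⟨hd6, by norm_num⟩
  have key : d = 3 ∧ n = 8 := by
    rw [hG'] at h9 h16 hsq
    rw [show Nat.divisors 6 = {1, 2, 3, 6} by decide] at hd'
    simp only [Finset.mem_insert, Finset.mem_singleton] at hd'
    rcases hd' with h | h | h | h <;> rcases hcases with h' | h' | h' | h' | h' <;>
      rw [h, h'] at h9 h16 hsq <;> first
        | exact ⟨h, h'⟩
        | exact absurd h hd1
        | exact absurd h' hn1
        | (exfalso; apply h9; norm_num; done)
        | (exfalso; apply h16; norm_num; done)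
        | (exfalso; apply hsq; norm_num
           exact squarefree_210)
  refine ⟨by rw [hG', key.1, key.2], ?_⟩
  exact CfsgLib.PermSimple.isSimpleGroup_prime_degree (α := α) hα P (by rw [← hn, key.2]; norm_num)
    (by rw [← hN, ← hd, key.1]; norm_num)

end Cfsg.Agent.S0678
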