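import Cfsg.Statements.S0679
import Cfsg.Agent.ElevenPts.M11Action
import Cfsg.Agent.ElevenPts.IndexTwo
import Cfsg.Agent.ElevenPts.Order1320
import Cfsg.Agent.SmallSimple.PSLPrime

set_option autoImplicit false
open Cfsg

namespace Cfsg.Agent.S0679

/-- A non-solvable transitive permutation group on 11 points that does not contain the alternating group is either sharply 4-transitive (of order 7920) or isomorphic to the projective special linear group of degree 2 over the field with 11 elements. -/
theorem result {α : Type*} [Fintype α] [DecidableEq α] (hα : Fintype.card α = 11) (G : Subgroup (Equiv.Perm α)) [MulAction.IsPretransitive G α] (hG : ¬ Group.IsSolvable G) (hA : ¬ alternatingGroup α ≤ G) : (MulAction.IsMultiplyPretransitive G α 4 ∧ ∀ x : Fin 4 ↪ α, MulAction.stabilizer G x = ⊥) ∨ Nonempty (G ≃* Matrix.ProjectiveSpecialLinearGroup (Fin 2) (ZMod 11)) := by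
  haveI : Fact (Nat.Prime 11) := ⟨by norm_num⟩
  obtain ⟨hS, -⟩ := CfsgLib.ElevenPts.sylow_eleven hα hA hG
  haveI := hS
  haveI := CfsgLib.ElevenPts.isPretransitive_evenPart hα G
  obtain ⟨i, hi, hcard, heq⟩ := CfsgLib.ElevenPts.card_evenPart G
  rcases CfsgLib.ElevenPts.card_cases hα hA hG with h | h
  · rcases hi with rfl | rfl
    · refine Or.inr ?_
      have hGc : Nat.card G = 660 := by rw [hcard, h]
      rw [heq rfl] at hS
      haveI := hS
      exact CfsgLib.SmallSimple.iso_psl_of_card_field (G := G) (F := ZMod 11) (p := 11)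
        (by norm_num) le_rfl (by rw [hGc]; norm_num) (ZMod.card 11)
    · exact (CfsgLib.ElevenPts.not_order_1320 hα hA hG h (by rw [hcard, h])).elim
  · obtain ⟨h4, hsharp⟩ := CfsgLib.ElevenPts.sharply_four (G := CfsgLib.ElevenPts.evenPart G) h hα
    rcases hi with rfl | rfl
    · refine Or.inl ⟨?_, ?_⟩
      · rw [heq rfl] at h4
        exact h4
      · rw [heq rfl] at hsharp
        exact hsharp
    · exact (CfsgLib.ElevenPts.not_double_sharp hα hA h4 hsharp h (by rw [hcard, h])).elim

end Cfsg.Agent.S0679
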