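import Cfsg.Statements.S0681
import Mathlib.GroupTheory.GroupAction.MultipleTransitivity
-- import your own Cfsg.Agent.* helpers here

set_option autoImplicit false
open Cfsg

namespace Cfsg.Agent.S0681

/-- The affine maps `x ↦ x * a + b`, `a ≠ 0`, of a near-field form a sharply doubly transitive permutation group. -/
theorem result {F : Type*} [Cfsg.NearField F] : ∃ H : Subgroup (Equiv.Perm F), (∀ σ : Equiv.Perm F, σ ∈ H ↔ ∃ a b : F, a ≠ 0 ∧ ∀ x : F, σ x = x * a + b) ∧ MulAction.IsMultiplyPretransitive H F 2 ∧ ∀ x : Fin 2 ↪ F, MulAction.stabilizer H x = ⊥ := by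
  open MulAction in
  have h0m : ∀ c : F, (0 : F) * c = 0 := fun c => by
    have h := NearField.right_distrib (0 : F) 0 c
    rw [add_zero] at h
    exact left_eq_add.mp h
  have hne : ∀ a b : F, a ≠ 0 → b ≠ 0 → a * b ≠ 0 := by
    intro a b ha hb h
    obtain ⟨c, hbc, -⟩ := NearField.exists_inv b hb
    exact ha (by rw [← mul_one a, ← hbc, ← mul_assoc, h, h0m])
  have hneg : ∀ x c : F, (-x) * c = -(x * c) := fun x c => by
    apply eq_neg_of_add_eq_zero_left
    rw [← NearField.right_distrib, neg_add_cancel, h0m]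
  let H : Subgroup (Equiv.Perm F) :=
    { carrier := {σ | ∃ a b : F, a ≠ 0 ∧ ∀ x : F, σ x = x * a + b}
      one_mem' := ⟨1, 0, Ne.symm NearField.zero_ne_one, fun x => by simp⟩
      mul_mem' := by
        rintro σ τ ⟨a, b, ha, hσ⟩ ⟨c, d, hc, hτ⟩
        refine ⟨c * a, d * a + b, hne c a hc ha, fun x => ?_⟩
        rw [Equiv.Perm.mul_apply, hτ, hσ, NearField.right_distrib, mul_assoc, add_assoc]
      inv_mem' := by
        rintro σ ⟨a, b, ha, hσ⟩
        obtain ⟨c, hac, hca⟩ := NearField.exists_inv a ha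
        refine ⟨c, -(b * c), fun h => ?_, fun x => σ.injective ?_⟩
        · rw [h, NearField.mul_zero] at hac
          exact NearField.zero_ne_one hac
        · rw [Equiv.Perm.inv_def, Equiv.apply_symm_apply, hσ, ← hneg, ← NearField.right_distrib,
            mul_assoc, hca, mul_one, neg_add_cancel_right] }
  have hmem : ∀ σ, σ ∈ H ↔ ∃ a b : F, a ≠ 0 ∧ ∀ x : F, σ x = x * a + b := fun _ => Iff.rfl
  have mkp : ∀ a b : F, a ≠ 0 → ∃ σ : H, ∀ x, (σ : Equiv.Perm F) x = x * a + b := by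
    intro a b ha
    obtain ⟨c, hac, hca⟩ := NearField.exists_inv a ha
    refine ⟨⟨⟨fun x => x * a + b, fun y => (y + -b) * c, fun x => ?_, fun y => ?_⟩, a, b, ha, fun x => rfl⟩, fun x => rfl⟩
    · simp only [add_neg_cancel_right, mul_assoc, hac, mul_one]
    · simp only [mul_assoc, hca, mul_one, neg_add_cancel_right]
  have to01 : ∀ u v : F, u ≠ v → ∃ σ : H, σ • (0 : F) = u ∧ σ • (1 : F) = v := by
    intro u v huv
    obtain ⟨σ, hσ⟩ := mkp (v + -u) u (fun h => huv (add_neg_eq_zero.mp h).symm)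
    exact ⟨σ, (hσ 0).trans (by rw [h0m, zero_add]), (hσ 1).trans (by rw [one_mul, neg_add_cancel_right])⟩
  refine ⟨H, hmem, is_two_pretransitive_iff.mpr fun {u v s t} huv hst => ?_, fun x => ?_⟩
  · obtain ⟨σ, hσ0, hσ1⟩ := to01 u v huv
    obtain ⟨τ, hτ0, hτ1⟩ := to01 s t hst
    exact ⟨τ * σ⁻¹, by rw [← hσ0, mul_smul, inv_smul_smul, hτ0], by rw [← hσ1, mul_smul, inv_smul_smul, hτ1]⟩
  · rw [eq_bot_iff]
    intro g hg
    rw [Subgroup.mem_bot]
    have h0 : g • x 0 = x 0 := DFunLike.congr_fun (mem_stabilizer_iff.mp hg) 0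
    have h1 : g • x 1 = x 1 := DFunLike.congr_fun (mem_stabilizer_iff.mp hg) 1
    obtain ⟨σ, hσ0, hσ1⟩ := to01 (x 0) (x 1) (fun h => by simpa using x.injective h)
    have k0 : (σ⁻¹ * g * σ) • (0 : F) = 0 := by rw [mul_smul, mul_smul, hσ0, h0, inv_smul_eq_iff, hσ0]
    have k1 : (σ⁻¹ * g * σ) • (1 : F) = 1 := by rw [mul_smul, mul_smul, hσ1, h1, inv_smul_eq_iff, hσ1]
    obtain ⟨a, b, ha, hab⟩ := (σ⁻¹ * g * σ).2
    have e0 : (0 : F) = 0 * a + b := k0.symm.trans (hab 0)
    rw [h0m, zero_add] at e0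
    have e1 : (1 : F) = 1 * a + b := k1.symm.trans (hab 1)
    rw [← e0, one_mul, add_zero] at e1
    have he : σ⁻¹ * g * σ = 1 := Subtype.ext (Equiv.ext fun y => by
      rw [hab y, ← e0, ← e1, mul_one, add_zero]; rfl)
    have := congrArg (fun z => σ * z * σ⁻¹) he
    simpa [mul_assoc] using this


end Cfsg.Agent.S0681
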