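import Cfsg.Statements.S0682
import Mathlib.GroupTheory.PGroup
import Mathlib.GroupTheory.Perm.Cycle.Type
-- import your own Cfsg.Agent.* helpers here

set_option autoImplicit false
open Cfsg

namespace Cfsg.Agent.S0682

/-- A finite near-field has prime-power order; its additive group is commutative of prime exponent. -/
theorem result {F : Type*} [Cfsg.NearField F] [Finite F] : ∃ p j : ℕ, p.Prime ∧ 1 ≤ j ∧ Nat.card F = p ^ j ∧ (∀ x y : F, x + y = y + x) ∧ ∀ x : F, p • x = 0 := by
  classical
  have h0m : ∀ c : F, (0 : F) * c = 0 := fun c => by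
    have h := NearField.right_distrib (0 : F) 0 c
    rw [add_zero] at h
    exact left_eq_add.mp h
  have : Nontrivial F := ⟨0, 1, NearField.zero_ne_one⟩
  let f : F → F →+ F := fun a => AddMonoidHom.mk' (fun x => x * a) fun x y => NearField.right_distrib x y a
  have hinj : ∀ a : F, a ≠ 0 → Function.Injective (f a) := by
    intro a ha x y h
    obtain ⟨b, hab, -⟩ := NearField.exists_inv a ha
    have := congrArg (· * b) (show x * a = y * a from h)
    simpa only [mul_assoc, hab, mul_one] using this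
  have htr : ∀ x y : F, x ≠ 0 → ∃ a, f a x = y := by
    intro x y hx
    obtain ⟨b, hxb, -⟩ := NearField.exists_inv x hx
    exact ⟨b * y, show x * (b * y) = y by rw [← mul_assoc, hxb, one_mul]⟩
  have h1 : (1 : F) ≠ 0 := Ne.symm NearField.zero_ne_one
  obtain ⟨p, hp, hpd⟩ := Nat.exists_prime_and_dvd (Finite.one_lt_card_iff_nontrivial.mpr ‹Nontrivial F›).ne'
  have := Fact.mk hp
  obtain ⟨z, hz⟩ := exists_prime_addOrderOf_dvd_card' (G := F) p hpd
  have hz0 : z ≠ 0 := fun h => by rw [h, addOrderOf_zero] at hz; exact hp.one_lt.ne hz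
  have hexp : ∀ x : F, p • x = 0 := by
    intro x
    obtain ⟨a, ha⟩ := htr z x hz0
    rw [← ha, ← map_nsmul, ← hz, addOrderOf_nsmul_eq_zero, map_zero]
  let M := Multiplicative F
  have hpg : IsPGroup p M := fun x => ⟨1, by
    rw [pow_one]; exact congrArg Multiplicative.ofAdd (hexp x.toAdd)⟩
  obtain ⟨j, hj⟩ := IsPGroup.iff_card.mp hpg
  have hcard : Nat.card F = p ^ j := by rw [← hj]; rfl
  have hM : Nontrivial M := ⟨⟨Multiplicative.ofAdd 1, 1, fun h => h1 (congrArg Multiplicative.toAdd h)⟩⟩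
  have := hpg.center_nontrivial
  obtain ⟨⟨w, hw⟩, hw1⟩ := exists_ne (1 : Subgroup.center M)
  have hw0 : w.toAdd ≠ 0 := fun h => hw1 (Subtype.ext (congrArg Multiplicative.ofAdd h))
  have hwc : ∀ y : F, y + w.toAdd = w.toAdd + y := fun y =>
    congrArg Multiplicative.toAdd (Subgroup.mem_center_iff.mp hw (Multiplicative.ofAdd y))
  refine ⟨p, j, hp, Nat.one_le_iff_ne_zero.mpr ?_, hcard, fun x y => ?_, hexp⟩
  · rintro rfl
    rw [pow_zero] at hcard
    exact (Finite.one_lt_card_iff_nontrivial.mpr ‹Nontrivial F›).ne' hcard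
  · by_cases hx : x = 0
    · rw [hx, zero_add, add_zero]
    obtain ⟨a, ha⟩ := htr _ x hw0
    have ha0 : a ≠ 0 := fun h => hx (by rw [← ha, h]; exact NearField.mul_zero _)
    obtain ⟨y', rfl⟩ := (Finite.injective_iff_surjective.mp (hinj a ha0)) y
    rw [← ha, ← map_add, ← map_add, hwc]


end Cfsg.Agent.S0682
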