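import Cfsg.Statements.S0683
import Cfsg.Agent.Perm.SharplyTwo
-- import your own Cfsg.Agent.* helpers here

set_option autoImplicit false
open Cfsg

namespace Cfsg.Agent.S0683

/-- A finite sharply doubly transitive permutation group is the affine group of a near-field: the permuted set carries a near-field structure for which the group consists exactly of the maps `x ↦ x * a + b` with `a ≠ 0`. -/
theorem result {α : Type*} [Fintype α] [DecidableEq α] (H : Subgroup (Equiv.Perm α)) [MulAction.IsMultiplyPretransitive H α 2] (hsharp : ∀ x : Fin 2 ↪ α, MulAction.stabilizer H x = ⊥) (h2 : 2 ≤ Fintype.card α) : ∃ _ : Cfsg.NearField α, ∀ σ : Equiv.Perm α, σ ∈ H ↔ ∃ a b : α, a ≠ 0 ∧ ∀ x : α, σ x = x * a + b := by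
  open MulAction in
  classical
  have hn : 2 ≤ Nat.card α := by rwa [Nat.card_eq_fintype_card]
  have hnt : Nontrivial α := Fintype.one_lt_card_iff_nontrivial.mp (by omega)
  obtain ⟨p, j, K, hp, hj, hα, hmem, hnorm, hcomm, hexp, htr, hreg, hKc, hGc⟩ :=
    CfsgLib.SharplyTwo.exists_kernel hsharp hn
  obtain ⟨a0, a1, h01⟩ := exists_pair_ne α
  have hKb : Function.Bijective fun k : K => k • a0 := by
    refine ⟨fun s t h => ?_, fun y => exists_smul_eq K a0 y⟩
    have : t⁻¹ * s ∈ stabilizer K a0 := by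
      rw [mem_stabilizer_iff, mul_smul]
      exact inv_smul_eq_iff.mpr h
    rw [hreg, Subgroup.mem_bot, inv_mul_eq_one] at this
    exact this.symm
  let k : α → K := fun x => (Equiv.ofBijective _ hKb).symm x
  have hk : ∀ x, k x • a0 = x := fun x => (Equiv.ofBijective _ hKb).apply_symm_apply x
  let A : AddGroup α := ((Equiv.ofBijective _ hKb).symm.trans (Additive.ofMul (α := K))).addGroup
  have hadd : ∀ x y : α, x + y = (k x * k y) • a0 := fun x y => rfl
  have hadd' : ∀ x y : α, x + y = k x • y := fun x y => by rw [hadd, mul_smul, hk]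
  have hzero : (0 : α) = a0 := one_smul K a0
  have hcadd : ∀ x y : α, x + y = y + x := fun x y => by
    rw [hadd, hadd, show k x * k y = k y * k x from Subtype.ext (hcomm _ (k x).2 _ (k y).2)]
  have hmove : ∀ a : α, a ≠ a0 → ∃ h : H, h • a0 = a0 ∧ h • a1 = a := fun a ha =>
    is_two_pretransitive_iff.mp ‹_› h01 (Ne.symm ha)
  choose hh hh0 hh1 using hmove
  have huniq : ∀ (g g' : H), g • a0 = a0 → g' • a0 = a0 → g • a1 = g' • a1 → g = g' := by
    intro g g' h1 h2 h3
    have := CfsgLib.SharplyTwo.eq_one_of_two_fixed hsharp h01 (g := g'⁻¹ * g)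
      (by rw [mul_smul, h1, inv_smul_eq_iff, h2]) (by rw [mul_smul, h3, inv_smul_smul])
    rw [inv_mul_eq_one] at this
    exact this.symm
  have hconjK : ∀ (g : H), g • a0 = a0 → ∀ x y : α, g • (x + y) = g • x + g • y := by
    intro g hg x y
    have hgk : k (g • x) = ⟨g * (k x : H) * g⁻¹, hnorm.conj_mem _ (k x).2 g⟩ := by
      apply hKb.1
      have hge : g⁻¹ • a0 = a0 := by rw [inv_smul_eq_iff, hg]
      change k (g • x) • a0 = (g * (k x : H) * g⁻¹) • a0
      rw [hk, mul_smul, mul_smul, hge]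
      exact congrArg (g • ·) (hk x).symm
    rw [hadd', hadd', hgk]
    change g • (k x : H) • y = (g * (k x : H) * g⁻¹) • g • y
    rw [mul_smul, mul_smul, inv_smul_smul]
  let m : α → α → α := fun x a => if h : a = a0 then a0 else hh a h • x
  have hm0 : ∀ x, m x a0 = a0 := fun x => dif_pos rfl
  have hmh : ∀ x a (h : a ≠ a0), m x a = hh a h • x := fun x a h => dif_neg h
  have hm1 : ∀ a, m a1 a = a := fun a => by
    by_cases h : a = a0
    · rw [h, hm0]
    · rw [hmh _ _ h, hh1]
  have hmone : ∀ x, m x a1 = x := fun x => by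
    rw [hmh _ _ h01.symm, huniq _ 1 (hh0 a1 h01.symm) (one_smul _ _) (by rw [hh1, one_smul]), one_smul]
  have hm0' : ∀ a, m a0 a = a0 := fun a => by
    by_cases h : a = a0
    · rw [h, hm0]
    · rw [hmh _ _ h, hh0]
  have hmne : ∀ a c, a ≠ a0 → c ≠ a0 → m a c ≠ a0 := fun a c ha hc h => by
    rw [hmh _ _ hc] at h
    exact ha (smul_left_cancel (hh c hc) (h.trans (hh0 c hc).symm))
  have hmassoc : ∀ x a c, m (m x a) c = m x (m a c) := by
    intro x a c
    by_cases hc : c = a0
    · rw [hc, hm0, hm0, hm0]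
    by_cases ha : a = a0
    · rw [ha, hm0, hm0', hm0]
    rw [hmh _ _ (hmne a c ha hc), hmh _ _ hc, hmh x a ha,
      huniq (hh (m a c) (hmne a c ha hc)) (hh c hc * hh a ha) (hh0 _ _)
        (by rw [mul_smul, hh0, hh0]) (by rw [hh1, mul_smul, hh1, hmh _ _ hc]), mul_smul]
  let NF : Cfsg.NearField α :=
    { A with
      mul := m
      mul_assoc := hmassoc
      one := a1
      one_mul := hm1
      mul_one := hmone
      right_distrib := fun x y c => by
        change m (x + y) c = m x c + m y c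
        by_cases hc : c = a0
        · rw [hc, hm0, hm0, hm0, ← hzero, add_zero]
        · rw [hmh _ _ hc, hmh _ _ hc, hmh _ _ hc, hconjK _ (hh0 c hc)]
      mul_zero := fun a => by
        change m a (0 : α) = (0 : α)
        rw [hzero, hm0]
      zero_ne_one := by
        change (0 : α) ≠ a1
        rw [hzero]; exact h01
      exists_inv := fun a ha => by
        have ha' : a ≠ a0 := fun h => ha (h.trans hzero.symm)
        have hg0 : (hh a ha')⁻¹ • a0 = a0 := by rw [inv_smul_eq_iff, hh0]
        have hb : (hh a ha')⁻¹ • a1 ≠ a0 := fun h => h01.symm (smul_left_cancel _ (h.trans hg0.symm))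
        refine ⟨(hh a ha')⁻¹ • a1, ?_, ?_⟩
        · change m a _ = a1
          rw [hmh _ _ hb, huniq (hh _ hb) (hh a ha')⁻¹ (hh0 _ _) hg0 (hh1 _ _), inv_smul_eq_iff, hh1]
        · change m _ a = a1
          rw [hmh _ _ ha', smul_inv_smul] }
  refine ⟨NF, fun σ => ?_⟩
  change σ ∈ H ↔ ∃ a b : α, a ≠ (0 : α) ∧ ∀ x, σ x = m x a + b
  rw [hzero]
  constructor
  · intro hσ
    set g : H := (⟨σ, hσ⟩ : H) with hg
    set b := g • a0 with hb
    have hg0 : (((k b : K) : H)⁻¹ * g) • a0 = a0 := by
      rw [mul_smul, inv_smul_eq_iff]; exact (hk b).symm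
    have ha : (((k b : K) : H)⁻¹ * g) • a1 ≠ a0 := fun h => h01.symm (smul_left_cancel _ (h.trans hg0.symm))
    refine ⟨_, b, ha, fun x => ?_⟩
    rw [hmh _ _ ha, huniq (hh _ ha) _ (hh0 _ _) hg0 (hh1 _ _), hcadd, hadd']
    change σ x = ((k b : K) : H) • (((k b : K) : H)⁻¹ * g) • x
    rw [← mul_smul, mul_inv_cancel_left]
    rfl
  · rintro ⟨a, b, ha, hσ⟩
    have : σ = ((((k b : K) : H) * hh a ha : H) : Equiv.Perm α) := Equiv.ext fun x => by
      rw [hσ, hmh _ _ ha, hcadd, hadd']
      rfl
    rw [this]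
    exact Subtype.mem _


end Cfsg.Agent.S0683
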