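import Cfsg.Statements.S0684
import Cfsg.Agent.Zassenhaus.RegularMinimal
-- import your own Cfsg.Agent.* helpers here

set_option autoImplicit false
open Cfsg

namespace Cfsg.Agent.S0684

/-- Point stabiliser of a sharply doubly transitive group not of semilinear type: a maximal normal abelian subgroup `A` of a linear group `H` that is regular on non-zero vectors and has no irreducible cyclic normal subgroup is cyclic and reducible, and the order of `A` divides `p ^ k - 1` for `k` the dimension of a minimal `A`-invariant subspace. -/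
theorem result {p : ℕ} [Fact p.Prime] {V : Type*} [AddCommGroup V] [Module (ZMod p) V] [Finite V] (H : Subgroup (V ≃ₗ[ZMod p] V)) (hreg : ∀ v w : V, v ≠ 0 → w ≠ 0 → ∃! h : H, (h : V ≃ₗ[ZMod p] V) v = w) (hI : ∀ A : Subgroup H, A.Normal → IsCyclic A → ∃ W : Submodule (ZMod p) V, W ≠ ⊥ ∧ W ≠ ⊤ ∧ ∀ a ∈ A, ∀ v ∈ W, ((a : H) : V ≃ₗ[ZMod p] V) v ∈ W) (A : Subgroup H) (hAn : A.Normal) (hAc : IsMulCommutative A) (hAmax : ∀ B : Subgroup H, B.Normal → IsMulCommutative B → A ≤ B → B = A) : IsCyclic A ∧ ∃ W : Submodule (ZMod p) V, W ≠ ⊥ ∧ W ≠ ⊤ ∧ (∀ a ∈ A, ∀ v ∈ W, ((a : H) : V ≃ₗ[ZMod p] V) v ∈ W) ∧ (∀ W' : Submodule (ZMod p) V, W' ≤ W → (∀ a ∈ A, ∀ v ∈ W', ((a : H) : V ≃ₗ[ZMod p] V) v ∈ W') → W' = ⊥ ∨ W' = W) ∧ Nat.card A ∣ p ^ Module.finrank (ZMod p) W - 1 := by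
  have hS : CfsgLib.RegularLinear.Setting H A := ⟨hreg, hI, hAn, hAc, hAmax⟩
  obtain ⟨hV, hcyc, -, k, m, hk, hm, hkm, hdvd, -, -, hrank, -⟩ := hS.data
  haveI := hAn
  haveI := hAc
  haveI := Module.Finite.of_finite (R := ZMod p) (M := V)
  obtain ⟨v, hv⟩ := exists_ne (0 : V)
  refine ⟨hcyc, CfsgLib.RegularLinear.cyc A v, fun e => ?_, fun e => ?_, fun a ha w hw => ?_, fun W' hle hinv => ?_, ?_⟩
  · have h := hrank v hv
    rw [e, finrank_bot] at h
    omega
  · have h := hrank v hv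
    rw [e, finrank_top, hkm] at h
    nlinarith
  · exact CfsgLib.RegularLinear.apply_mem_cyc A (CfsgLib.RegularLinear.mem_env A ha) hw
  · by_cases h0 : W' = ⊥
    · exact Or.inl h0
    obtain ⟨w, hw, hw0⟩ := Submodule.exists_mem_ne_zero_of_ne_bot h0
    refine Or.inr (le_antisymm hle ?_)
    rw [← CfsgLib.RegularLinear.cyc_eq A hreg hv hw0 (hle hw)]
    exact CfsgLib.RegularLinear.cyc_le_invariant A hinv hw
  · rw [hrank v hv]
    exact hdvd

end Cfsg.Agent.S0684
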