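import Cfsg.Statements.S0689
import Cfsg.Agent.Zassenhaus.Regular
-- import your own Cfsg.Agent.* helpers here

set_option autoImplicit false
open Cfsg

namespace Cfsg.Agent.S0689

/-- The insoluble sharply doubly transitive groups: a non-solvable linear group over the prime field that is regular on the non-zero vectors of `V` occurs only for `|V| = 11², 29², 59²`, and is `SL(2,5) × C_m` with `m = 1, 7, 29` respectively. -/
theorem result {p : ℕ} [Fact p.Prime] {V : Type*} [AddCommGroup V] [Module (ZMod p) V] [Finite V] (H : Subgroup (V ≃ₗ[ZMod p] V)) (hreg : ∀ v w : V, v ≠ 0 → w ≠ 0 → ∃! h : H, (h : V ≃ₗ[ZMod p] V) v = w) (hsolv : ¬ Group.IsSolvable H) : (Nat.card V = 121 ∧ Nonempty (H ≃* Matrix.SpecialLinearGroup (Fin 2) (ZMod 5))) ∨ (Nat.card V = 841 ∧ Nonempty (H ≃* Matrix.SpecialLinearGroup (Fin 2) (ZMod 5) × Multiplicative (ZMod 7))) ∨ (Nat.card V = 3481 ∧ Nonempty (H ≃* Matrix.SpecialLinearGroup (Fin 2)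 (ZMod 5) × Multiplicative (ZMod 29))) := by
  obtain ⟨m, hcases, hV, S, M, hSM, hb, hcomm, ⟨eS⟩, hM, hcyc⟩ :=
    CfsgLib.Zassenhaus.regular_nonsolvable H hreg hsolv
  obtain ⟨e⟩ := CfsgLib.Zassenhaus.equiv_prod S M hSM hb hcomm
  have hprod : ∀ m', m = m' → Nonempty (H ≃* Matrix.SpecialLinearGroup (Fin 2) (ZMod 5) × Multiplicative (ZMod m')) := by
    rintro m' rfl
    exact ⟨e.trans (MulEquiv.prodCongr eS (mulEquivOfCyclicCardEq (by
      rw [hM, Nat.card_congr Multiplicative.toAdd, Nat.card_zmod])))⟩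
  rcases hcases with ⟨rfl, rfl⟩ | ⟨rfl, hm⟩ | ⟨rfl, hm⟩
  · refine Or.inl ⟨by rw [hV]; rfl, ?_⟩
    have hbot : M = ⊥ := Subgroup.eq_bot_of_card_eq _ hM
    rw [hbot, sup_bot_eq] at hSM
    exact ⟨(Subgroup.topEquiv.symm.trans (MulEquiv.subgroupCongr hSM.symm)).trans eS⟩
  · exact Or.inr (Or.inl ⟨by rw [hV]; rfl, hprod 7 hm⟩)
  · exact Or.inr (Or.inr ⟨by rw [hV]; rfl, hprod 29 hm⟩)

end Cfsg.Agent.S0689
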