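import Cfsg.Statements.S0691
import Cfsg.Agent.Perm.SmallMatrixGroup
-- import your own Cfsg.Agent.* helpers here

set_option autoImplicit false
set_option maxRecDepth 100000
open Cfsg
open scoped commutatorElement Pointwise

namespace Cfsg.Agent.S0691

/-- An exceptional sharply doubly transitive group of degree 5^2: the listed matrices generate a subgroup of GL(2,5) of order 24 acting regularly on the non-zero vectors. -/
theorem result (A : Matrix.GeneralLinearGroup (Fin 2) (ZMod 5)) (B : Matrix.GeneralLinearGroup (Fin 2) (ZMod 5)) (C : Matrix.GeneralLinearGroup (Fin 2) (ZMod 5)) (hA : (A : Matrix (Fin 2) (Fin 2) (ZMod 5)) = !![2, 0; 0, -2]) (hB : (B : Matrix (Fin 2) (Fin 2) (ZMod 5)) = !![0, -1; 1, 0]) (hC : (C : Matrix (Fin 2) (Fin 2) (ZMod 5)) = !![1, 2; 1, -2]) : Nat.card (Subgroup.closure ({A, B, C} : Set (Matrix.GeneralLinearGroup (Fin 2) (ZMod 5)))) = 24 ∧ ∀ v w : Fin 2 → ZMod 5, v ≠ 0 → w ≠ 0 → ∃! h : Subgroup.closure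 ({A, B, C} : Set (Matrix.GeneralLinearGroup (Fin 2) (ZMod 5))), Matrix.mulVec ((h : Matrix.GeneralLinearGroup (Fin 2) (ZMod 5)) : Matrix (Fin 2) (Fin 2) (ZMod 5)) v = w := by
  let gs : List (CfsgLib.SmallMat.T 5) := [(2, 0, 0, 3), (0, 4, 1, 0), (1, 2, 1, 3)]
  let els : List (CfsgLib.SmallMat.T 5) := [(1, 0, 0, 1), (2, 0, 0, 3), (0, 4, 1, 0), (1, 2, 1, 3), (4, 0, 0, 4),
      (0, 3, 3, 0), (2, 4, 3, 4), (0, 2, 2, 0), (4, 2, 1, 2), (2, 1, 2, 4),
      (3, 3, 4, 1), (3, 0, 0, 2), (0, 1, 4, 0), (4, 3, 4, 2), (3, 4, 3, 1),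
      (1, 1, 2, 3), (3, 1, 2, 1), (1, 4, 3, 3), (1, 3, 4, 3), (3, 2, 1, 1),
      (2, 2, 1, 4), (2, 3, 4, 4), (4, 4, 3, 2), (4, 1, 2, 2)]
  let steps : List (ℕ × ℕ) := [(0, 0), (0, 1), (0, 2), (1, 0), (1, 1), (1, 2), (2, 0), (2, 2), (3, 0), (3, 2), (4, 0), (4, 1), (4, 2), (5, 2), (6, 2), (8, 0), (8, 2), (9, 1), (9, 2), (13, 2), (14, 2), (16, 2), (18, 2)]
  have htA : CfsgLib.SmallMat.toT (A : Matrix (Fin 2) (Fin 2) (ZMod 5)) = (2, 0, 0, 3) := by rw [hA]; decide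
  have htB : CfsgLib.SmallMat.toT (B : Matrix (Fin 2) (Fin 2) (ZMod 5)) = (0, 4, 1, 0) := by rw [hB]; decide
  have htC : CfsgLib.SmallMat.toT (C : Matrix (Fin 2) (Fin 2) (ZMod 5)) = (1, 2, 1, 3) := by rw [hC]; decide
  have hgs : ∀ t ∈ gs, ∃ g ∈ ({A, B, C} : Set (Matrix.GeneralLinearGroup (Fin 2) (ZMod 5))),
      CfsgLib.SmallMat.toT (g : Matrix (Fin 2) (Fin 2) (ZMod 5)) = t := by
    intro t ht
    simp only [gs, List.mem_cons, List.not_mem_nil, or_false] at ht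
    rcases ht with rfl | rfl | rfl
    · exact ⟨A, by simp, htA⟩
    · exact ⟨B, by simp, htB⟩
    · exact ⟨C, by simp, htC⟩
  have hS : ∀ g ∈ ({A, B, C} : Set (Matrix.GeneralLinearGroup (Fin 2) (ZMod 5))),
      CfsgLib.SmallMat.toT (g : Matrix (Fin 2) (Fin 2) (ZMod 5)) ∈ gs := by
    rintro g (rfl | rfl | rfl)
    · rw [htA]; simp [gs]
    · rw [htB]; simp [gs]
    · rw [htC]; simp [gs]
  have hmulb : (els.all fun x => gs.all fun g => els.contains (CfsgLib.SmallMat.mul x g)) = true := by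
    decide +kernel
  have hmul : ∀ x ∈ els, ∀ g ∈ gs, CfsgLib.SmallMat.mul x g ∈ els := fun x hx g hg =>
    List.contains_iff_mem.1 (List.all_eq_true.1 (List.all_eq_true.1 hmulb x hx) g hg)
  have hfreeb : (els.all fun x => decide (x = CfsgLib.SmallMat.one) || decide (CfsgLib.SmallMat.Free x)) = true := by
    decide +kernel
  have hspec := CfsgLib.SmallMat.closure_spec _ gs hgs hS steps els (by decide +kernel) (by decide +kernel) hmul
  have hfree : ∀ x ∈ els, x ≠ CfsgLib.SmallMat.one → CfsgLib.SmallMat.Free x := fun x hx hne => by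
    have := List.all_eq_true.1 hfreeb x hx
    simpa [hne] using this
  have hcard : Nat.card (Subgroup.closure ({A, B, C} : Set (Matrix.GeneralLinearGroup (Fin 2) (ZMod 5)))) = 24 := by
    rw [CfsgLib.SmallMat.card_of_spec _ _ hspec
      (CfsgLib.SmallMat.mem_of_build _ gs (fun t ht => (hgs t ht).imp fun g hg => ⟨Subgroup.subset_closure hg.1, hg.2⟩) steps els (by decide +kernel))
      (by decide +kernel)]
    decide +kernel
  haveI : Fact (Nat.Prime 5) := ⟨by norm_num⟩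
  refine ⟨hcard, CfsgLib.SmallMat.regular _ (by rw [hcard]; norm_num) fun g hg hne => hfree _ ((hspec g).1 hg) fun h => hne ?_⟩
  exact Units.ext (CfsgLib.SmallMat.toT_injective (by rw [h, Units.val_one, CfsgLib.SmallMat.toT_one]))


end Cfsg.Agent.S0691
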