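import Cfsg.Statements.S0692
import Cfsg.Agent.Perm.SmallMatrixGroup
-- import your own Cfsg.Agent.* helpers here

set_option autoImplicit false
set_option maxRecDepth 100000
open Cfsg
open scoped commutatorElement Pointwise

namespace Cfsg.Agent.S0692

/-- An exceptional sharply doubly transitive group of degree 11^2: the listed matrices generate a subgroup of GL(2,11) of order 120 acting regularly on the non-zero vectors. -/
theorem result (A : Matrix.GeneralLinearGroup (Fin 2) (ZMod 11)) (B : Matrix.GeneralLinearGroup (Fin 2) (ZMod 11)) (hA : (A : Matrix (Fin 2) (Fin 2) (ZMod 11)) = !![0, -1; 1, 0]) (hB : (B : Matrix (Fin 2) (Fin 2) (ZMod 11)) = !![2, 4; 1, -3]) : Nat.card (Subgroup.closure ({A, B} : Set (Matrix.GeneralLinearGroup (Fin 2) (ZMod 11)))) = 120 ∧ ∀ v w : Fin 2 → ZMod 11, v ≠ 0 → w ≠ 0 → ∃! h : Subgroup.closure ({A, B} : Set (Matrix.GeneralLinearGroup (Fin 2) (ZMod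 11))), Matrix.mulVec ((h : Matrix.GeneralLinearGroup (Fin 2) (ZMod 11)) : Matrix (Fin 2) (Fin 2) (ZMod 11)) v = w := by
  let gs : List (CfsgLib.SmallMat.T 11) := [(0, 10, 1, 0), (2, 4, 1, 8)]
  let els : List (CfsgLib.SmallMat.T 11) := [(1, 0, 0, 1), (0, 10, 1, 0), (2, 4, 1, 8), (10, 0, 0, 10), (10, 3, 2, 4),
      (4, 9, 8, 10), (8, 7, 10, 2), (0, 1, 10, 0), (9, 7, 10, 3), (3, 1, 4, 9),
      (1, 9, 8, 7), (6, 0, 4, 2), (7, 3, 2, 1), (1, 8, 9, 7), (7, 2, 3, 1),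
      (3, 4, 1, 9), (7, 9, 6, 0), (9, 10, 7, 3), (0, 5, 2, 7), (1, 2, 10, 10),
      (6, 8, 5, 5), (8, 10, 7, 2), (10, 2, 3, 4), (5, 0, 7, 9), (4, 8, 9, 10),
      (9, 4, 0, 5), (1, 1, 1, 2), (6, 6, 6, 8), (5, 7, 0, 9), (2, 10, 10, 1),
      (8, 5, 5, 6), (9, 0, 4, 5), (4, 2, 5, 0), (2, 1, 4, 8), (0, 6, 9, 4),
      (10, 9, 1, 1), (5, 3, 6, 6), (0, 2, 5, 7), (1, 10, 2, 10), (6, 5, 8, 5),
      (7, 6, 9, 0), (6, 10, 9, 6), (3, 0, 10, 4), (10, 6, 5, 2), (2, 7, 0, 6),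
      (10, 10, 10, 9), (5, 5, 5, 3), (6, 4, 0, 2), (9, 1, 1, 10), (3, 6, 6, 5),
      (2, 0, 7, 6), (2, 5, 6, 10), (1, 7, 3, 0), (6, 9, 10, 6), (10, 5, 6, 2),
      (0, 8, 4, 1), (6, 1, 2, 6), (4, 0, 1, 3), (0, 9, 6, 4), (10, 1, 9, 1),
      (5, 6, 3, 6), (4, 5, 2, 0), (5, 1, 2, 5), (8, 0, 1, 7), (1, 5, 6, 9),
      (5, 9, 10, 5), (7, 10, 0, 8), (9, 5, 6, 1), (10, 8, 4, 0), (3, 3, 3, 7),
      (8, 9, 9, 2), (0, 7, 3, 10), (9, 6, 5, 1), (10, 4, 8, 0), (5, 2, 1, 5),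
      (1, 6, 5, 9), (0, 3, 7, 10), (5, 10, 9, 5), (7, 0, 10, 8), (8, 4, 3, 3),
      (2, 9, 8, 9), (8, 1, 0, 7), (3, 8, 7, 8), (9, 3, 2, 2), (3, 5, 9, 8),
      (7, 1, 5, 4), (6, 2, 1, 6), (4, 1, 0, 3), (2, 6, 5, 10), (1, 3, 7, 0),
      (8, 8, 8, 4), (3, 2, 2, 9), (0, 4, 8, 1), (4, 3, 3, 8), (9, 9, 9, 3),
      (2, 3, 3, 5), (6, 7, 7, 1), (3, 10, 0, 4), (5, 8, 8, 2), (1, 4, 4, 6),
      (3, 7, 8, 8), (9, 2, 3, 2), (8, 3, 4, 3), (2, 8, 9, 9), (8, 6, 2, 3),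
      (4, 10, 6, 7), (3, 9, 5, 8), (7, 5, 1, 4), (5, 4, 4, 10), (7, 7, 7, 4),
      (6, 3, 3, 9), (7, 8, 8, 3), (2, 2, 2, 8), (9, 8, 8, 6), (10, 7, 7, 5),
      (4, 7, 7, 7), (8, 2, 6, 3), (4, 6, 10, 7), (7, 4, 4, 4), (4, 4, 4, 7)]
  let steps : List (ℕ × ℕ) := [(0, 0), (0, 1), (1, 0), (1, 1), (2, 0), (2, 1), (3, 0), (3, 1), (4, 0), (4, 1), (5, 1), (6, 0), (7, 1), (8, 0), (8, 1), (9, 1), (10, 0), (11, 0), (11, 1), (12, 1), (13, 0), (13, 1), (14, 1), (15, 0), (16, 0), (16, 1), (17, 1), (18, 1), (19, 0), (20, 0), (20, 1), (21, 1), (22, 0), (23, 0), (23, 1), (24, 1), (25, 1), (26, 0), (27, 0), (27, 1), (28, 1), (29, 1), (30, 1), (32, 0), (32, 1), (33, 1), (34, 1), (35, 0), (36, 0), (36, 1), (37, 1), (38, 1), (39, 1), (41, 0), (42, 0), (42, 1), (43, 1), (44, 1), (45, 0), (46, 0), (46, 1), (47, 1), (48, 1), (49, 1), (51, 0), (52, 0), (52, 1), (53, 1), (54, 1), (55, 1), (57, 0), (58,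 1), (59, 1), (60, 1), (62, 0), (63, 0), (63, 1), (64, 1), (65, 1), (66, 1), (68, 0), (69, 0), (69, 1), (70, 1), (71, 1), (72, 0), (73, 0), (73, 1), (74, 1), (75, 1), (76, 1), (78, 0), (79, 0), (79, 1), (80, 1), (81, 1), (82, 1), (84, 0), (85, 0), (86, 1), (87, 1), (90, 0), (90, 1), (91, 1), (92, 1), (95, 0), (96, 0), (97, 1), (98, 1), (99, 1), (100, 0), (100, 1), (101, 1), (105, 0), (106, 1), (107, 1), (108, 0), (109, 0), (110, 1)]
  have htA : CfsgLib.SmallMat.toT (A : Matrix (Fin 2) (Fin 2) (ZMod 11)) = (0, 10, 1, 0) := by rw [hA]; decide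
  have htB : CfsgLib.SmallMat.toT (B : Matrix (Fin 2) (Fin 2) (ZMod 11)) = (2, 4, 1, 8) := by rw [hB]; decide
  have hgs : ∀ t ∈ gs, ∃ g ∈ ({A, B} : Set (Matrix.GeneralLinearGroup (Fin 2) (ZMod 11))),
      CfsgLib.SmallMat.toT (g : Matrix (Fin 2) (Fin 2) (ZMod 11)) = t := by
    intro t ht
    simp only [gs, List.mem_cons, List.not_mem_nil, or_false] at ht
    rcases ht with rfl | rfl
    · exact ⟨A, by simp, htA⟩
    · exact ⟨B, by simp, htB⟩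
  have hS : ∀ g ∈ ({A, B} : Set (Matrix.GeneralLinearGroup (Fin 2) (ZMod 11))),
      CfsgLib.SmallMat.toT (g : Matrix (Fin 2) (Fin 2) (ZMod 11)) ∈ gs := by
    rintro g (rfl | rfl)
    · rw [htA]; simp [gs]
    · rw [htB]; simp [gs]
  have hmulb : (els.all fun x => gs.all fun g => els.contains (CfsgLib.SmallMat.mul x g)) = true := by
    decide +kernel
  have hmul : ∀ x ∈ els, ∀ g ∈ gs, CfsgLib.SmallMat.mul x g ∈ els := fun x hx g hg =>
    List.contains_iff_mem.1 (List.all_eq_true.1 (List.all_eq_true.1 hmulb x hx) g hg)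
  have hfreeb : (els.all fun x => decide (x = CfsgLib.SmallMat.one) || decide (CfsgLib.SmallMat.Free x)) = true := by
    decide +kernel
  have hspec := CfsgLib.SmallMat.closure_spec _ gs hgs hS steps els (by decide +kernel) (by decide +kernel) hmul
  have hfree : ∀ x ∈ els, x ≠ CfsgLib.SmallMat.one → CfsgLib.SmallMat.Free x := fun x hx hne => by
    have := List.all_eq_true.1 hfreeb x hx
    simpa [hne] using this
  have hcard : Nat.card (Subgroup.closure ({A, B} : Set (Matrix.GeneralLinearGroup (Fin 2) (ZMod 11)))) = 120 := by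
    rw [CfsgLib.SmallMat.card_of_spec _ _ hspec
      (CfsgLib.SmallMat.mem_of_build _ gs (fun t ht => (hgs t ht).imp fun g hg => ⟨Subgroup.subset_closure hg.1, hg.2⟩) steps els (by decide +kernel))
      (by decide +kernel)]
    decide +kernel
  haveI : Fact (Nat.Prime 11) := ⟨by norm_num⟩
  refine ⟨hcard, CfsgLib.SmallMat.regular _ (by rw [hcard]; norm_num) fun g hg hne => hfree _ ((hspec g).1 hg) fun h => hne ?_⟩
  exact Units.ext (CfsgLib.SmallMat.toT_injective (by rw [h, Units.val_one, CfsgLib.SmallMat.toT_one]))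


end Cfsg.Agent.S0692
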