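import Cfsg.Statements.S0693
import Cfsg.Agent.Perm.SmallMatrixGroup
-- import your own Cfsg.Agent.* helpers here

set_option autoImplicit false
set_option maxRecDepth 100000
open Cfsg
open scoped commutatorElement Pointwise

namespace Cfsg.Agent.S0693

/-- An exceptional sharply doubly transitive group of degree 59^2: the listed matrices generate a subgroup of GL(2,59) of order 3480 acting regularly on the non-zero vectors. -/
theorem result (A : Matrix.GeneralLinearGroup (Fin 2) (ZMod 59)) (B : Matrix.GeneralLinearGroup (Fin 2) (ZMod 59)) (C : Matrix.GeneralLinearGroup (Fin 2) (ZMod 59)) (hA : (A : Matrix (Fin 2) (Fin 2) (ZMod 59)) = !![0, -1; 1, 0]) (hB : (B : Matrix (Fin 2) (Fin 2) (ZMod 59)) = !![9, 15; -10, -10]) (hC : (C : Matrix (Fin 2) (Fin 2) (ZMod 59)) = !![4, 0; 0, 4]) : Nat.card (Subgroup.closure ({A, B, C} : Set (Matrix.GeneralLinearGroup (Fin 2) (ZMod 59)))) = 3480 ∧ ∀ v w : Fin 2 → ZMod 59, v ≠ 0 → w ≠ 0 → ∃!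 h : Subgroup.closure ({A, B, C} : Set (Matrix.GeneralLinearGroup (Fin 2) (ZMod 59))), Matrix.mulVec ((h : Matrix.GeneralLinearGroup (Fin 2) (ZMod 59)) : Matrix (Fin 2) (Fin 2) (ZMod 59)) v = w := by
  let gs : List (CfsgLib.SmallMat.T 59) := [(0, 58, 1, 0), (9, 15, 49, 49)]
  let els : List (CfsgLib.SmallMat.T 59) := [(1, 0, 0, 1), (0, 58, 1, 0), (9, 15, 49, 49), (58, 0, 0, 58), (10, 10, 9, 15),
      (15, 50, 49, 10), (49, 44, 10, 9), (0, 1, 58, 0), (50, 44, 10, 10), (10, 49, 15, 50),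
      (49, 50, 49, 44), (48, 20, 46, 45), (44, 10, 9, 49), (49, 49, 50, 44), (44, 9, 10, 49),
      (10, 15, 49, 50), (13, 14, 48, 20), (50, 10, 44, 10), (20, 11, 45, 13), (55, 48, 23, 4),
      (1, 29, 4, 58), (49, 10, 44, 9), (10, 9, 10, 15), (11, 39, 13, 14), (15, 49, 50, 10),
      (14, 46, 20, 11), (36, 55, 55, 48), (55, 1, 1, 29), (11, 13, 39, 14), (48, 4, 4, 36),
      (29, 58, 58, 55), (14, 20, 46, 11), (46, 45, 11, 39), (9, 49, 15, 49), (39, 48, 14, 46),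
      (4, 11, 36, 55), (58, 30, 55, 1), (20, 45, 11, 13), (55, 23, 48, 4), (1, 4, 29, 58),
      (13, 48, 14, 20), (28, 35, 34, 32), (38, 31, 30, 54), (35, 32, 31, 25), (45, 13, 39, 48),
      (23, 4, 4, 11), (4, 58, 58, 30), (48, 46, 20, 45), (11, 55, 55, 23), (30, 1, 1, 4),
      (45, 39, 13, 48), (25, 27, 28, 35), (29, 5, 38, 31), (28, 34, 35, 32), (35, 31, 32, 25),
      (31, 21, 54, 29), (32, 24, 25, 28), (54, 28, 29, 38), (39, 14, 48, 46), (4, 36, 11, 55),
      (58, 55, 30, 1), (46, 11, 45, 39), (31, 24, 25, 27), (21, 28, 29, 5), (24, 27, 28, 34),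
      (27, 34, 35, 31), (5, 30, 31, 21), (34, 31, 32, 24), (30, 21, 54, 28), (5, 38, 38, 53),
      (10, 19, 19, 48), (28, 5, 38, 30), (34, 32, 31, 24), (30, 54, 21, 28), (31, 25, 24, 27),
      (24, 28, 27, 34), (28, 38, 5, 30), (27, 35, 34, 31), (5, 31, 30, 21), (21, 6, 5, 38),
      (40, 11, 10, 19), (21, 29, 28, 5), (38, 54, 53, 21), (19, 49, 48, 40), (18, 19, 45, 41),
      (25, 16, 42, 34), (32, 25, 24, 28), (54, 29, 28, 38), (25, 28, 27, 35), (29, 38, 5, 31),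
      (54, 21, 21, 6), (49, 40, 40, 11), (31, 54, 21, 29), (6, 38, 38, 54), (11, 19, 19, 49),
      (14, 18, 18, 19), (17, 25, 25, 16), (38, 30, 31, 54), (19, 41, 41, 14), (16, 34, 34, 17),
      (38, 53, 54, 21), (19, 48, 49, 40), (21, 5, 6, 38), (40, 10, 11, 19), (41, 40, 14, 18),
      (34, 43, 17, 25), (18, 45, 19, 41), (25, 42, 16, 34), (42, 34, 34, 43), (56, 52, 52, 3),
      (40, 18, 18, 45), (53, 21, 21, 5), (48, 40, 40, 10), (45, 41, 41, 40), (43, 25, 25, 42),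
      (7, 56, 56, 52), (41, 14, 40, 18), (34, 17, 43, 25), (52, 3, 3, 7), (3, 7, 7, 56)]
  let steps : List (ℕ × ℕ) := [(0, 0), (0, 1), (1, 0), (1, 1), (2, 0), (2, 1), (3, 0), (3, 1), (4, 0), (4, 1), (5, 1), (6, 0), (7, 1), (8, 0), (8, 1), (9, 1), (10, 0), (11, 0), (11, 1), (12, 1), (13, 0), (13, 1), (14, 1), (15, 0), (16, 0), (16, 1), (17, 1), (18, 1), (19, 0), (20, 0), (20, 1), (21, 1), (22, 0), (23, 0), (23, 1), (24, 1), (25, 1), (26, 0), (27, 0), (27, 1), (28, 1), (29, 1), (30, 1), (32, 0), (32, 1), (33, 1), (34, 1), (35, 0), (36, 0), (36, 1), (37, 1), (38, 1), (39, 1), (41, 0), (42, 0), (42, 1), (43, 1), (44, 1), (45, 0), (46, 0), (46, 1), (47, 1), (48, 1), (49, 1), (51, 0), (52, 0), (52, 1), (53, 1), (54, 1), (55, 1), (57, 0), (58, 1), (59, 1), (60, 1), (62, 0), (63, 0), (63, 1), (64, 1), (65, 1), (66, 1), (68, 0), (69, 0), (69, 1), (70, 1), (71, 1), (72, 0), (73, 0), (73, 1), (74, 1), (75, 1), (76, 1), (78, 0), (79,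 0), (79, 1), (80, 1), (81, 1), (82, 1), (84, 0), (85, 0), (86, 1), (87, 1), (90, 0), (90, 1), (91, 1), (92, 1), (95, 0), (96, 0), (97, 1), (98, 1), (99, 1), (100, 0), (100, 1), (101, 1), (105, 0), (106, 1), (107, 1), (108, 0), (109, 0), (110, 1)]
  have htA : CfsgLib.SmallMat.toT (A : Matrix (Fin 2) (Fin 2) (ZMod 59)) = (0, 58, 1, 0) := by rw [hA]; decide
  have htB : CfsgLib.SmallMat.toT (B : Matrix (Fin 2) (Fin 2) (ZMod 59)) = (9, 15, 49, 49) := by rw [hB]; decide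
  have hgs : ∀ t ∈ gs, ∃ g ∈ ({A, B} : Set (Matrix.GeneralLinearGroup (Fin 2) (ZMod 59))),
      CfsgLib.SmallMat.toT (g : Matrix (Fin 2) (Fin 2) (ZMod 59)) = t := by
    intro t ht
    simp only [gs, List.mem_cons, List.not_mem_nil, or_false] at ht
    rcases ht with rfl | rfl
    · exact ⟨A, by simp, htA⟩
    · exact ⟨B, by simp, htB⟩
  have hS : ∀ g ∈ ({A, B} : Set (Matrix.GeneralLinearGroup (Fin 2) (ZMod 59))),
      CfsgLib.SmallMat.toT (g : Matrix (Fin 2) (Fin 2) (ZMod 59)) ∈ gs := by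
    rintro g (rfl | rfl)
    · rw [htA]; simp [gs]
    · rw [htB]; simp [gs]
  have hmulb : (els.all fun x => gs.all fun g => els.contains (CfsgLib.SmallMat.mul x g)) = true := by
    decide +kernel
  have hmul : ∀ x ∈ els, ∀ g ∈ gs, CfsgLib.SmallMat.mul x g ∈ els := fun x hx g hg =>
    List.contains_iff_mem.1 (List.all_eq_true.1 (List.all_eq_true.1 hmulb x hx) g hg)
  have hfreeb : (els.all fun x => decide (x = CfsgLib.SmallMat.one) || decide (CfsgLib.SmallMat.Free x)) = true := by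
    decide +kernel
  have hspec := CfsgLib.SmallMat.closure_spec _ gs hgs hS steps els (by decide +kernel) (by decide +kernel) hmul
  have hfree : ∀ x ∈ els, x ≠ CfsgLib.SmallMat.one → CfsgLib.SmallMat.Free x := fun x hx hne => by
    have := List.all_eq_true.1 hfreeb x hx
    simpa [hne] using this
  have hcard : Nat.card (Subgroup.closure ({A, B} : Set (Matrix.GeneralLinearGroup (Fin 2) (ZMod 59)))) = 120 := by
    rw [CfsgLib.SmallMat.card_of_spec _ _ hspec
      (CfsgLib.SmallMat.mem_of_build _ gs (fun t ht => (hgs t ht).imp fun g hg => ⟨Subgroup.subset_closure hg.1, hg.2⟩) steps els (by decide +kernel))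
      (by decide +kernel)]
    decide +kernel
  have htC : CfsgLib.SmallMat.toT (C : Matrix (Fin 2) (Fin 2) (ZMod 59)) = CfsgLib.SmallMat.scal 4 := by rw [hC]; decide
  set H := Subgroup.closure ({A, B} : Set (Matrix.GeneralLinearGroup (Fin 2) (ZMod 59)))
  set G3 := Subgroup.closure ({A, B, C} : Set (Matrix.GeneralLinearGroup (Fin 2) (ZMod 59)))
  have hCpow : ∀ i : ℕ, CfsgLib.SmallMat.toT ((C ^ i : Matrix.GeneralLinearGroup (Fin 2) (ZMod 59)) : Matrix (Fin 2) (Fin 2) (ZMod 59)) =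
      CfsgLib.SmallMat.scal (4 ^ i) := by
    intro i
    induction i with
    | zero => rw [pow_zero, pow_zero, Units.val_one, CfsgLib.SmallMat.toT_one]; rfl
    | succ i ih =>
      rw [pow_succ, Units.val_mul, CfsgLib.SmallMat.toT_mul, ih, htC, pow_succ]
      simp [CfsgLib.SmallMat.mul, CfsgLib.SmallMat.scal]
  have hC29 : C ^ 29 = 1 := by
    apply Units.ext
    apply CfsgLib.SmallMat.toT_injective
    rw [hCpow, Units.val_one, CfsgLib.SmallMat.toT_one]
    decide +kernel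
  have hfree3b : (els.all fun x => (List.range 29).all fun i => (decide (x = CfsgLib.SmallMat.one) && decide (i = 0)) ||
      decide (CfsgLib.SmallMat.Free (CfsgLib.SmallMat.mul x (CfsgLib.SmallMat.scal ((4 : ZMod 59) ^ i))))) = true := by
    decide +kernel
  have hfree3 : ∀ x ∈ els, ∀ i : Fin 29, (x = CfsgLib.SmallMat.one ∧ i = 0) ∨
      CfsgLib.SmallMat.Free (CfsgLib.SmallMat.mul x (CfsgLib.SmallMat.scal ((4 : ZMod 59) ^ (i : ℕ)))) := by
    intro x hx i
    have := List.all_eq_true.1 (List.all_eq_true.1 hfree3b x hx) (i : ℕ) (List.mem_range.2 i.isLt)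
    rw [Bool.or_eq_true, Bool.and_eq_true, decide_eq_true_eq, decide_eq_true_eq, decide_eq_true_eq] at this
    exact this.imp_left fun h => ⟨h.1, Fin.ext h.2⟩
  have hone : ∀ h ∈ H, ∀ i : Fin 29, h * C ^ (i : ℕ) = 1 → h = 1 ∧ i = 0 := by
    intro h hh i he
    rcases hfree3 _ ((hspec h).1 hh) i with ⟨e1, e2⟩ | hf
    · exact ⟨Units.ext (CfsgLib.SmallMat.toT_injective (by rw [e1, Units.val_one, CfsgLib.SmallMat.toT_one])), e2⟩
    · refine absurd ?_ hf
      rw [← hCpow, ← CfsgLib.SmallMat.toT_mul, ← Units.val_mul, he, Units.val_one, CfsgLib.SmallMat.toT_one]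
      decide +kernel
  have hcomm : ∀ g : Matrix.GeneralLinearGroup (Fin 2) (ZMod 59), Commute g C := by
    intro g
    apply Units.ext
    apply CfsgLib.SmallMat.toT_injective
    rw [Units.val_mul, Units.val_mul, CfsgLib.SmallMat.toT_mul, CfsgLib.SmallMat.toT_mul, htC]
    simp [CfsgLib.SmallMat.mul, CfsgLib.SmallMat.scal, mul_comm]
  have hCmem : C ∈ G3 := Subgroup.subset_closure (by simp)
  have hHle : H ≤ G3 := Subgroup.closure_mono (by intro x hx; rcases hx with rfl | rfl <;> simp)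
  let φ : H × Fin 29 → G3 := fun x => ⟨(x.1 : Matrix.GeneralLinearGroup (Fin 2) (ZMod 59)) * C ^ (x.2 : ℕ),
    mul_mem (hHle x.1.2) (pow_mem hCmem _)⟩
  have hall : ∀ g ∈ G3, ∃ h ∈ H, ∃ i : Fin 29, g = h * C ^ (i : ℕ) := by
    intro g hg
    have hred : ∀ h ∈ H, ∀ k : ℕ, ∃ h' ∈ H, ∃ i : Fin 29, h * C ^ k = h' * C ^ (i : ℕ) := fun h hh k =>
      ⟨h, hh, ⟨k % 29, Nat.mod_lt _ (by norm_num)⟩, by rw [← pow_eq_pow_mod k hC29]⟩
    rw [show G3 = Subgroup.closure ({A, B, C} : Set _) from rfl, ← Subgroup.mem_toSubmonoid, Subgroup.closure_toSubmonoid_of_finite] at hg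
    induction hg using Submonoid.closure_induction_right with
    | one => exact ⟨1, one_mem _, 0, by simp⟩
    | mul_right x hx y hy ih =>
      obtain ⟨h, hh, i, rfl⟩ := ih
      rcases hy with rfl | rfl | rfl
      · refine ⟨h * y, mul_mem hh (Subgroup.subset_closure (by simp)), i, ?_⟩
        rw [mul_assoc, mul_assoc, ((hcomm y).pow_right _).eq]
      · refine ⟨h * y, mul_mem hh (Subgroup.subset_closure (by simp)), i, ?_⟩
        rw [mul_assoc, mul_assoc, ((hcomm y).pow_right _).eq]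
      · obtain ⟨h', hh', j, e⟩ := hred h hh ((i : ℕ) + 1)
        exact ⟨h', hh', j, by rw [← e, mul_assoc, ← pow_succ]⟩
  have hbij : Function.Bijective φ := by
    refine ⟨?_, fun g => ?_⟩
    · rintro ⟨⟨h, hh⟩, i⟩ ⟨⟨h', hh'⟩, j⟩ e
      have e1 : h * C ^ (i : ℕ) = h' * C ^ (j : ℕ) := congrArg Subtype.val e
      obtain ⟨k, hk⟩ : ∃ k : Fin 29, ((j : ℕ) + k) % 29 = (i : ℕ) := ⟨⟨((i : ℕ) + 29 - j) % 29, Nat.mod_lt _ (by norm_num)⟩, by
        have := i.isLt; have := j.isLt; simp only; omega⟩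
      have e2 : C ^ (i : ℕ) = C ^ (j : ℕ) * C ^ (k : ℕ) := by
        rw [← pow_add, ← hk, ← pow_eq_pow_mod _ hC29]
      have e3 : (h'⁻¹ * h) * C ^ (k : ℕ) = 1 := by
        rw [e2, ← mul_assoc, ((hcomm h).pow_right (j : ℕ)).eq, mul_assoc, ((hcomm h').pow_right (j : ℕ)).eq] at e1
        calc h'⁻¹ * h * C ^ (k : ℕ) = h'⁻¹ * ((C ^ (j : ℕ))⁻¹ * (C ^ (j : ℕ) * (h * C ^ (k : ℕ)))) := by group
          _ = 1 := by rw [e1]; group
      obtain ⟨q1, q2⟩ := hone _ (mul_mem (inv_mem hh') hh) k e3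
      have q3 : h' = h := inv_mul_eq_one.1 q1
      subst q3
      rw [q2] at hk
      simp only [Fin.val_zero, add_zero, Nat.mod_eq_of_lt j.isLt] at hk
      rw [Fin.ext hk.symm]
    · obtain ⟨h, hh, i, e⟩ := hall g g.2
      exact ⟨⟨⟨h, hh⟩, i⟩, Subtype.ext e.symm⟩
  have hcard3 : Nat.card G3 = 3480 := by
    rw [← Nat.card_eq_of_bijective φ hbij, Nat.card_prod, hcard, Nat.card_fin]
  haveI : Fact (Nat.Prime 59) := ⟨by norm_num⟩
  refine ⟨hcard3, CfsgLib.SmallMat.regular _ (by rw [hcard3]; norm_num) fun g hg hne => ?_⟩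
  obtain ⟨h, hh, i, rfl⟩ := hall g hg
  rcases hfree3 _ ((hspec h).1 hh) i with ⟨e1, e2⟩ | hf
  · refine absurd ?_ hne
    rw [e2, Fin.val_zero, pow_zero, mul_one]
    exact Units.ext (CfsgLib.SmallMat.toT_injective (by rw [e1, Units.val_one, CfsgLib.SmallMat.toT_one]))
  · rw [Units.val_mul, CfsgLib.SmallMat.toT_mul, hCpow]
    exact hf


end Cfsg.Agent.S0693
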