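import Cfsg.Statements.S0694
import Cfsg.Agent.Perm.NearfieldArith
-- import your own Cfsg.Agent.* helpers here

set_option autoImplicit false
open Cfsg
open scoped commutatorElement Pointwise

namespace Cfsg.Agent.S0694

/-- The Dickson pair condition: for a prime power `q` and `n > 1`, (every prime factor of `n` divides `q - 1`, and `4 ∣ n → 4 ∣ q - 1`) holds exactly when `q ^ n ≡ 1` modulo `n * (q - 1)` but `q ^ i` is not, for `0 < i < n`. -/
theorem result (q n : ℕ) (hq : IsPrimePow q) (hn : 1 < n) : ((∀ r : ℕ, r.Prime → r ∣ n → r ∣ q - 1) ∧ (4 ∣ n → 4 ∣ q - 1)) ↔ (q ^ n ≡ 1 [MOD n * (q - 1)] ∧ ∀ i : ℕ, 0 < i → i < n → ¬ q ^ i ≡ 1 [MOD n * (q - 1)]) := by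
  classical
  obtain ⟨x, rfl⟩ : ∃ x, q = x + 1 := ⟨q - 1, by have := hq.one_lt; omega⟩
  have hx : 0 < x := by have := hq.one_lt; omega
  rw [Nat.add_sub_cancel]
  simp only [CfsgLib.GeomArith.modEq_one_iff x n _ hx]
  have hmod : ∀ s, s ∣ x → x + 1 ≡ 1 [MOD s] := fun s hs => by
    simpa using (Nat.modEq_zero_iff_dvd.2 hs).add_right 1
  constructor
  · rintro ⟨hall, h4⟩
    refine ⟨?_, fun i hi0 hin hd => ?_⟩
    · refine (Nat.dvd_iff_prime_pow_dvd_dvd _ _).2 fun s e hs he => ?_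
      rcases Nat.eq_zero_or_pos e with rfl | he0
      · simp
      exact CfsgLib.GeomArith.pow_dvd_S e _ n (hmod s (hall s hs ((dvd_pow_self s he0.ne').trans he))) he
    · suffices hni : n ∣ i by
        have := Nat.le_of_dvd hi0 hni
        omega
      refine (Nat.dvd_iff_prime_pow_dvd_dvd _ _).2 fun s e hs he => ?_
      rcases Nat.eq_zero_or_pos e with rfl | he0
      · simp
      refine CfsgLib.GeomArith.pow_dvd_of_dvd_S hs e _ i (hmod s (hall s hs ((dvd_pow_self s he0.ne').trans he))) ?_ (he.trans hd)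
      by_cases hs2 : s = 2
      · by_cases he2 : e ≤ 1
        · exact Or.inl he2
        · subst hs2
          exact Or.inr (Or.inr (hmod 4 (h4 ((pow_dvd_pow 2 (by omega : 2 ≤ e)).trans he))))
      · exact Or.inr (Or.inl hs2)
  · rintro ⟨hn1, hmin⟩
    have hgood : ∀ r : ℕ, r.Prime → r ∣ n → r ∣ x := by
      by_contra hbad
      push Not at hbad
      obtain ⟨r₀, hr₀, hr₀n, hr₀x⟩ := hbad
      have hne : (n.primeFactors.filter fun r => ¬ r ∣ x).Nonempty :=
        ⟨r₀, Finset.mem_filter.2 ⟨Nat.mem_primeFactors.2 ⟨hr₀, hr₀n, by omega⟩, hr₀x⟩⟩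
      set r := (n.primeFactors.filter fun r => ¬ r ∣ x).max' hne with hr
      obtain ⟨hr1, hrx⟩ := Finset.mem_filter.1 (Finset.max'_mem _ hne)
      obtain ⟨hrp, hrn, -⟩ := Nat.mem_primeFactors.1 hr1
      refine hmin (n / r) (Nat.div_pos (Nat.le_of_dvd (by omega) hrn) hrp.pos)
        (Nat.div_lt_self (by omega) hrp.one_lt) ?_
      refine (Nat.dvd_iff_prime_pow_dvd_dvd _ _).2 fun s e hs he => ?_
      rcases Nat.eq_zero_or_pos e with rfl | he0
      · simp
      have hsn : s ∣ n := (dvd_pow_self s he0.ne').trans he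
      by_cases hsx : s ∣ x
      · refine CfsgLib.GeomArith.pow_dvd_S e _ _ (hmod s hsx) ?_
        obtain ⟨m, hm⟩ := hrn
        rw [hm, Nat.mul_div_cancel_left _ hrp.pos]
        refine (Nat.Coprime.pow_left _ (hs.coprime_iff_not_dvd.2 fun h => ?_)).dvd_of_dvd_mul_left (hm ▸ he)
        exact hrx ((Nat.prime_dvd_prime_iff_eq hs hrp).1 h ▸ hsx)
      · have hfac : e ≤ n.factorization s := (hs.pow_dvd_iff_le_factorization (by omega)).1 he
        refine (pow_dvd_pow s hfac).trans (CfsgLib.GeomArith.bad_prime_dvd hs hrp hsx (by omega)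
          (Nat.ordProj_dvd n s) (by omega) hn1 hrn ?_)
        have hsr : s ≤ r := Finset.le_max' _ _ (Finset.mem_filter.2 ⟨Nat.mem_primeFactors.2 ⟨hs, hsn, by omega⟩, hsx⟩)
        rcases hsr.lt_or_eq with h | h
        · exact Or.inr h
        · exact Or.inl ⟨h.symm, Nat.pow_succ_factorization_not_dvd (by omega) hs⟩
    refine ⟨hgood, fun h4 => ?_⟩
    by_contra h4x
    have h2n : 2 ∣ n := (by norm_num : (2 : ℕ) ∣ 4).trans h4
    have hxodd : x % 4 = 2 := by
      have := Nat.mod_mod_of_dvd x (by norm_num : 2 ∣ 4)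
      have h2 := hgood 2 Nat.prime_two h2n
      omega
    obtain ⟨m, rfl⟩ := h2n
    refine hmin m (by omega) (by omega) ((Nat.dvd_iff_prime_pow_dvd_dvd _ _).2 fun s e hs he => ?_)
    rcases Nat.eq_zero_or_pos e with rfl | he0
    · simp
    have hsx := hgood s hs ((dvd_pow_self s he0.ne').trans he)
    by_cases hs2 : s = 2
    · subst hs2
      obtain ⟨c, rfl⟩ : 2 ∣ m := (Nat.mul_dvd_mul_iff_left two_pos).1 (show 2 * 2 ∣ 2 * m by simpa using h4)
      by_cases he2 : e ≤ 1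
      · exact CfsgLib.GeomArith.pow_dvd_S e _ _ (hmod 2 hsx) ((pow_dvd_pow 2 he2).trans (by simp))
      obtain ⟨e', rfl⟩ : ∃ e', e = e' + 2 := ⟨e - 2, by omega⟩
      rw [show 2 ^ (e' + 2) = 4 * 2 ^ e' by ring, CfsgLib.GeomArith.S_mul]
      refine mul_dvd_mul ?_ (CfsgLib.GeomArith.pow_dvd_S e' _ c ?_ ?_)
      · simp [CfsgLib.GeomArith.S, Finset.sum_range_succ]; omega
      · simpa using (hmod 2 hsx).pow 2
      · rw [show 2 ^ (e' + 2) = 4 * 2 ^ e' by ring, show 2 * (2 * c) = 4 * c by ring] at he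
        exact (Nat.mul_dvd_mul_iff_left (by norm_num)).1 he
    · refine CfsgLib.GeomArith.pow_dvd_S e _ _ (hmod s hsx) ?_
      exact (Nat.Coprime.pow_left _ ((Nat.coprime_primes hs Nat.prime_two).2 hs2)).dvd_of_dvd_mul_left he


end Cfsg.Agent.S0694
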