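import Cfsg.Statements.S0695
import Cfsg.Agent.Perm.RegularNormal
-- import your own Cfsg.Agent.* helpers here

set_option autoImplicit false
open Cfsg
open scoped commutatorElement Pointwise

namespace Cfsg.Agent.S0695

/-- A regular normal subgroup of a doubly primitive group of finite degree at least 2 is an elementary abelian 2-group (and the degree is a power of 2), unless the degree is 3. -/
theorem result {G : Type*} [Group G] {X : Type*} [Fintype X] [MulAction G X] (hX : 2 ≤ Fintype.card X) (h2 : MulAction.IsMultiplyPreprimitive G X 2) (N : Subgroup G) [N.Normal] (htrans : MulAction.IsPretransitive N X) (hreg : ∀ x : X, MulAction.stabilizer N x = ⊥) : Fintype.card X = 3 ∨ (IsMulCommutative N ∧ (∀ n ∈ N, n ^ 2 = 1) ∧ ∃ m : ℕ, Fintype.card X = 2 ^ m) := by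
  classical
  refine (CfsgLib.RegularNormal.two_primitive N hX h2 htrans hreg).imp id fun hexp => ?_
  have hcomm : ∀ a ∈ N, ∀ b ∈ N, a * b = b * a := fun a ha b hb => by
    have h1 : ∀ c ∈ N, c⁻¹ = c := fun c hc => inv_eq_of_mul_eq_one_right (by rw [← sq, hexp c hc])
    rw [← h1 _ (mul_mem ha hb), mul_inv_rev, h1 a ha, h1 b hb]
  refine ⟨⟨⟨fun a b => Subtype.ext (hcomm a a.2 b b.2)⟩⟩, hexp, ?_⟩
  obtain ⟨x⟩ : Nonempty X := Fintype.card_pos_iff.1 (by omega)
  have hbij : Function.Bijective fun n : N => (n : G) • x := by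
    refine ⟨fun a b h => Subtype.ext (CfsgLib.RegularNormal.eq_of_smul_eq N hreg a.2 b.2 h), fun y => ?_⟩
    obtain ⟨n, hn⟩ := htrans.exists_smul_eq x y
    exact ⟨n, hn⟩
  haveI : Finite N := Finite.of_injective _ hbij.1
  haveI : Fact (Nat.Prime 2) := ⟨Nat.prime_two⟩
  have hp : IsPGroup 2 N := fun n => ⟨1, Subtype.ext (by simpa using hexp n n.2)⟩
  obtain ⟨m, hm⟩ := IsPGroup.iff_card.1 hp
  exact ⟨m, by rw [← Nat.card_eq_fintype_card, ← Nat.card_eq_of_bijective _ hbij, hm]⟩


end Cfsg.Agent.S0695
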