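import Cfsg.Statements.S0698
import Cfsg.Agent.Perm.NormalMulti
-- import your own Cfsg.Agent.* helpers here

set_option autoImplicit false
open Cfsg
open scoped commutatorElement Pointwise

namespace Cfsg.Agent.S0698

/-- Jordan's Theorem on normal subgroups of multiply transitive groups: if `G` is `k`-transitive (`k > 1`) of degree greater than `k`, a non-trivial normal subgroup is `(k-1)`-transitive, except possibly for `k = 3` when it may be an elementary abelian 2-group. -/
theorem result {α : Type*} [Fintype α] [DecidableEq α] (G : Subgroup (Equiv.Perm α)) {k : ℕ} (hk : 1 < k) (hdeg : k < Fintype.card α) (hG : MulAction.IsMultiplyPretransitive G α k) (N : Subgroup G) [N.Normal] (hN : N ≠ ⊥) : MulAction.IsMultiplyPretransitive N α (k - 1) ∨ (k = 3 ∧ IsMulCommutative N ∧ ∀ n ∈ N, n ^ 2 = 1) := by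
  classical
  haveI : MulAction.IsMultiplyPretransitive G α ((k - 1).succ) := by
    rwa [show (k - 1).succ = k by omega]
  have hP : MulAction.IsMultiplyPreprimitive G α (k - 1) :=
    MulAction.isMultiplyPreprimitive_of_isMultiplyPretransitive_succ G α (n := k - 1)
      (by rw [ENat.card_eq_coe_fintype_card]; exact_mod_cast (by omega : (k - 1).succ ≤ Fintype.card α))
  by_cases hns : k - 1 ≤ 1 ∨ ∃ a : α, ∃ h ∈ N, h ≠ 1 ∧ h • a = a
  · exact Or.inl (CfsgLib.NormalMulti.main (k - 1) hP (by omega) (fun _ => by omega) N hN hns)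
  push Not at hns
  obtain ⟨hk2, hsemi⟩ := hns
  have hreg : ∀ x : α, MulAction.stabilizer N x = ⊥ := fun x => by
    rw [Subgroup.eq_bot_iff_forall]
    intro m hm
    by_contra hm1
    exact hsemi x m m.2 (fun e => hm1 (Subtype.ext e)) hm
  haveI : MulAction.IsPreprimitive G α := (MulAction.is_one_preprimitive_iff G α).1
    (MulAction.isMultiplyPreprimitive_of_le G α hP (by omega)
      (by rw [ENat.card_eq_coe_fintype_card]; exact_mod_cast (by omega : k - 1 ≤ Fintype.card α)))
  have hNt : MulAction.IsPretransitive N α := CfsgLib.PermBasic.isPretransitive_of_normal N hN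
  rcases (show k = 3 ∨ 4 ≤ k by omega) with rfl | hk4
  · right
    rcases CfsgLib.RegularNormal.two_primitive N (by omega) hP hNt hreg with h | h
    · omega
    · refine ⟨rfl, ⟨⟨fun a b => Subtype.ext ?_⟩⟩, h⟩
      have h1 : ∀ c ∈ N, c⁻¹ = c := fun c hc => inv_eq_of_mul_eq_one_right (by rw [← sq, h c hc])
      change (a : G) * b = b * a
      rw [← h1 _ (mul_mem a.2 b.2), mul_inv_rev, h1 _ a.2, h1 _ b.2]
  · exfalso
    have h3 : MulAction.IsMultiplyPreprimitive G α 3 := MulAction.isMultiplyPreprimitive_of_le G α hP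
      (by omega) (by rw [ENat.card_eq_coe_fintype_card]; exact_mod_cast (by omega : k - 1 ≤ Fintype.card α))
    rcases CfsgLib.RegularNormal.three_primitive N (by omega) h3 hNt hreg with h | h <;> omega


end Cfsg.Agent.S0698
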