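import Cfsg.Statements.S0699
import Mathlib
import Cfsg.Agent.S0698
import Cfsg.Agent.Perm.Basic
import Cfsg.Agent.Perm.Multi
-- import your own Cfsg.Agent.* helpers here

set_option autoImplicit false
open Cfsg
open scoped commutatorElement Pointwise

namespace Cfsg.Agent.S0699

/-- Wagner's Theorem: a non-trivial normal subgroup of a triply transitive permutation group of odd degree at least 5 is triply transitive. -/
theorem result {α : Type*} [Fintype α] [DecidableEq α] (G : Subgroup (Equiv.Perm α)) (hodd : Odd (Fintype.card α)) (h5 : 5 ≤ Fintype.card α) (hG : MulAction.IsMultiplyPretransitive G α 3) (N : Subgroup G) [N.Normal] (hN : N ≠ ⊥) : MulAction.IsMultiplyPretransitive N α 3 := by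
  classical
  have emb3 : ∀ p q r : α, p ≠ q → p ≠ r → q ≠ r →
      ∃ e : Fin 3 ↪ α, e 0 = p ∧ e 1 = q ∧ e 2 = r := by
    intro p q r h1 h2 h3
    refine ⟨⟨![p, q, r], ?_⟩, rfl, rfl, rfl⟩
    intro i j hij
    fin_cases i <;> fin_cases j <;> simp [h1, h2, h3, h1.symm, h2.symm, h3.symm] at hij ⊢
  haveI := hG
  haveI : Fact (Nat.Prime 2) := ⟨Nat.prime_two⟩
  have hn : Odd (Nat.card α) := by rw [Nat.card_eq_fintype_card]; exact hodd
  haveI hG2 : MulAction.IsMultiplyPretransitive G α 2 :=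
    MulAction.isMultiplyPretransitive_of_le (n := 3) (by omega) (by rw [Nat.card_eq_fintype_card]; omega)
  haveI : MulAction.IsPreprimitive G α := MulAction.isPreprimitive_of_is_two_pretransitive hG2
  haveI hNt : MulAction.IsPretransitive N α := CfsgLib.PermBasic.isPretransitive_of_normal N hN
  have hN2 : MulAction.IsMultiplyPretransitive N α 2 := by
    rcases Cfsg.Agent.S0698.result G (k := 3) (by omega) (by omega) hG N hN with h | ⟨-, -, h⟩
    · exact h
    exfalso
    obtain ⟨a⟩ : Nonempty α := Fintype.card_pos_iff.1 (by omega)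
    have hP : IsPGroup 2 N := fun x => ⟨1, Subtype.ext (by rw [pow_one]; exact h x x.2)⟩
    obtain ⟨j, hj⟩ := IsPGroup.iff_card.1 hP
    have hd := Subgroup.index_dvd_card (MulAction.stabilizer N a)
    rw [MulAction.index_stabilizer_of_transitive, hj] at hd
    obtain ⟨i, -, hi⟩ := (Nat.dvd_prime_pow Nat.prime_two).1 hd
    rw [hi] at hn
    rcases Nat.eq_zero_or_pos i with rfl | hi0
    · rw [Nat.card_eq_fintype_card] at hi; omega
    · exact (Nat.not_even_iff_odd.2 hn) (Nat.even_pow.2 ⟨even_two, hi0.ne'⟩)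
  refine CfsgLib.PermMulti.isMultiplyPretransitive_of_fixing (by omega) fun σ hσ x y hx hy => ?_
  obtain ⟨a, b, hab, rfl⟩ := Finset.card_eq_two.1 (show σ.card = 2 by omega)
  simp only [Finset.mem_insert, Finset.mem_singleton, not_or] at hx hy
  let H : Subgroup G := N ⊓ MulAction.stabilizer G a ⊓ MulAction.stabilizer G b
  let S : Subgroup G :=
    { carrier := {m | m ∈ N ∧ ((m • a = a ∧ m • b = b) ∨ (m • a = b ∧ m • b = a))}
      one_mem' := ⟨N.one_mem, Or.inl ⟨one_smul _ _, one_smul _ _⟩⟩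
      mul_mem' := fun {u v} hu hv => ⟨N.mul_mem hu.1 hv.1, by
        rcases hu.2 with ⟨p, q⟩ | ⟨p, q⟩ <;> rcases hv.2 with ⟨r, t⟩ | ⟨r, t⟩
        · exact Or.inl ⟨by rw [mul_smul, r, p], by rw [mul_smul, t, q]⟩
        · exact Or.inr ⟨by rw [mul_smul, r, q], by rw [mul_smul, t, p]⟩
        · exact Or.inr ⟨by rw [mul_smul, r, p], by rw [mul_smul, t, q]⟩
        · exact Or.inl ⟨by rw [mul_smul, r, q], by rw [mul_smul, t, p]⟩⟩
      inv_mem' := fun {u} hu => ⟨N.inv_mem hu.1, by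
        rcases hu.2 with ⟨p, q⟩ | ⟨p, q⟩
        · exact Or.inl ⟨inv_smul_eq_iff.2 p.symm, inv_smul_eq_iff.2 q.symm⟩
        · exact Or.inr ⟨inv_smul_eq_iff.2 q.symm, inv_smul_eq_iff.2 p.symm⟩⟩ }
  have hH : ∀ m, m ∈ H ↔ m ∈ N ∧ m • a = a ∧ m • b = b := fun m => by
    simp only [H, Subgroup.mem_inf, MulAction.mem_stabilizer_iff, and_assoc]
  have hswap : ∀ u v, u ∈ S → v ∈ S → u ∉ H → v ∉ H → u * v ∈ H := by
    intro u v hu hv hu' hv'
    rw [hH] at hu' hv' ⊢
    rcases hu.2 with h1 | ⟨p, q⟩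
    · exact absurd ⟨hu.1, h1⟩ hu'
    rcases hv.2 with h1 | ⟨r, t⟩
    · exact absurd ⟨hv.1, h1⟩ hv'
    exact ⟨N.mul_mem hu.1 hv.1, by rw [mul_smul, r, q], by rw [mul_smul, t, p]⟩
  have hHS : H ≤ S := fun m hm => ⟨((hH m).1 hm).1, Or.inl ((hH m).1 hm).2⟩
  obtain ⟨s, hsa, hsb⟩ := MulAction.is_two_pretransitive_iff.1 hN2 hab (Ne.symm hab)
  have hsS : (s : G) ∈ S := ⟨s.2, Or.inr ⟨hsa, hsb⟩⟩
  have hsH : (s : G) ∉ H := fun h => hab (((hH _).1 h).2.1.symm.trans hsa)
  have hidx : (H.subgroupOf S).index = 2 := by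
    rw [Subgroup.index_eq_two_iff]
    refine ⟨⟨s, hsS⟩, fun m => ?_⟩
    simp only [Subgroup.mem_subgroupOf, Subgroup.coe_mul]
    by_cases hm : (m : G) ∈ H
    · exact Or.inr ⟨hm, fun h => hsH (by simpa using H.mul_mem (H.inv_mem hm) h)⟩
    · exact Or.inl ⟨hswap _ _ m.2 hsS hm hsH, hm⟩
  have hcardS : Nat.card S = 2 * Nat.card H := by
    rw [← Subgroup.card_mul_index (H.subgroupOf S), hidx,
      Nat.card_congr (Subgroup.subgroupOfEquivOfLe hHS).toEquiv, Nat.mul_comm]
  obtain ⟨T⟩ := (inferInstance : Nonempty (Sylow 2 S))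
  -- `T` is not inside `H`
  obtain ⟨t, htT, htH⟩ : ∃ t ∈ (T : Subgroup S), (t : G) ∉ H := by
    by_contra hall
    push Not at hall
    have hle : (T : Subgroup S) ≤ H.subgroupOf S := fun m hm => Subgroup.mem_subgroupOf.2 (hall m hm)
    refine T.not_dvd_index ?_
    have := Subgroup.index_dvd_of_le hle
    rwa [hidx] at this
  -- `T` fixes a point
  obtain ⟨c, hc⟩ : ∃ c : α, ∀ m ∈ (T : Subgroup S), (m : G) • c = c := by
    have h := T.2.card_modEq_card_fixedPoints α
    have hne : Nat.card (MulAction.fixedPoints (T : Subgroup S) α) ≠ 0 := by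
      intro h0
      rw [h0, Nat.modEq_zero_iff_dvd] at h
      exact (Nat.not_even_iff_odd.2 hn) (even_iff_two_dvd.2 h)
    obtain ⟨⟨c, hc⟩⟩ := (Nat.card_ne_zero.1 hne).1
    exact ⟨c, fun m hm => hc ⟨m, hm⟩⟩
  have htab : (t : G) • a = b ∧ (t : G) • b = a :=
    t.2.2.resolve_left fun h => htH ((hH _).2 ⟨t.2.1, h⟩)
  have hca : c ≠ a := fun e => hab (by
    have h1 := hc t htT
    rw [e, htab.1] at h1
    exact h1.symm)
  have hcb : c ≠ b := fun e => hab (by
    have h1 := hc t htT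
    rw [e, htab.2] at h1
    exact h1)
  have hreach : ∀ d, d ≠ a → d ≠ b → ∃ h ∈ H, h • c = d := by
    intro d hda hdb
    -- a translation in `G` fixing `a` and `b`
    obtain ⟨u, hu0, hu1, hu2⟩ := emb3 a b c hab hca.symm hcb.symm
    obtain ⟨v, hv0, hv1, hv2⟩ := emb3 a b d hab hda.symm hdb.symm
    obtain ⟨g, hg⟩ := MulAction.exists_smul_eq G u v
    have hga : g • a = a := by rw [← hu0, ← Function.Embedding.smul_apply, hg, hv0, hu0]
    have hgb : g • b = b := by rw [← hu1, ← Function.Embedding.smul_apply, hg, hv1, hu1]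
    have hgc : g • c = d := by rw [← hu2, ← Function.Embedding.smul_apply, hg, hv2]
    have hconj : ∀ m ∈ S, g * m * g⁻¹ ∈ S := by
      intro m hm
      refine ⟨‹N.Normal›.conj_mem m hm.1 g, ?_⟩
      simp only [mul_smul, inv_smul_eq_iff.2 hga.symm, inv_smul_eq_iff.2 hgb.symm]
      rcases hm.2 with ⟨p, q⟩ | ⟨p, q⟩
      · exact Or.inl ⟨by rw [p, hga], by rw [q, hgb]⟩
      · exact Or.inr ⟨by rw [p, hgb], by rw [q, hga]⟩
    -- every element of `S` preserves the `H`-orbit of `d`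
    have hcol : ∀ m ∈ S, ∃ h ∈ H, h • d = m • d := by
      intro m hm
      by_cases hmH : m ∈ H
      · exact ⟨m, hmH, rfl⟩
      have hsd : g * (t : G) * g⁻¹ ∈ S := hconj _ t.2
      refine ⟨m * (g * (t : G) * g⁻¹), hswap _ _ hm hsd hmH fun h => ?_, ?_⟩
      · have := ((hH _).1 h).2.1
        simp only [mul_smul, inv_smul_eq_iff.2 hga.symm, htab.1, hgb] at this
        exact hab this.symm
      · simp only [mul_smul, inv_smul_eq_iff.2 hgc.symm, hc t htT, hgc]
    -- the conjugated Sylow subgroup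
    let T' : Subgroup G := ((T : Subgroup S).map S.subtype).map (MulAut.conj g).toMonoidHom
    have hT'S : T' ≤ S := by
      rintro _ ⟨_, ⟨m, hm, rfl⟩, rfl⟩
      exact hconj _ m.2
    have hT'card : Nat.card (T'.subgroupOf S) = Nat.card T := by
      rw [Nat.card_congr (Subgroup.subgroupOfEquivOfLe hT'S).toEquiv]
      exact ((Subgroup.equivMapOfInjective _ _ S.subtype_injective).trans
        (Subgroup.equivMapOfInjective _ _ (MulAut.conj g).injective)).toEquiv.symm |> Nat.card_congr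
    obtain ⟨m, hm⟩ := MulAction.exists_smul_eq S T
      (Sylow.ofCard (T'.subgroupOf S) (by rw [hT'card]; exact T.card_eq_multiplicity))
    -- so `T` fixes a point in the orbit of `d`
    let d' := (m : G)⁻¹ • d
    have hd' : ∀ z ∈ (T : Subgroup S), (z : G) • d' = d' := by
      intro z hz
      have hmem : m * z * m⁻¹ ∈ T'.subgroupOf S := by
        have h1 : MulAut.conj m z ∈ ((m • T : Sylow 2 S) : Subgroup S) := by
          rw [Sylow.smul_def, Sylow.pointwise_smul_def]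
          exact Subgroup.smul_mem_pointwise_smul z (MulAut.conj m) _ hz
        rw [hm] at h1
        exact h1
      obtain ⟨_, ⟨w, hw, rfl⟩, hwe⟩ := Subgroup.mem_subgroupOf.1 hmem
      have e : ((m : G) * (z : G) * (m : G)⁻¹) • d = d := by
        rw [show (m : G) * (z : G) * (m : G)⁻¹ = g * (w : G) * g⁻¹ from hwe.symm]
        simp only [mul_smul, inv_smul_eq_iff.2 hgc.symm, hc w hw, hgc]
      simp only [mul_smul] at e
      exact (eq_inv_smul_iff.2 e)
    obtain ⟨h₁, hh₁, hh₁d⟩ := hcol (m : G)⁻¹ (S.inv_mem m.2)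
    by_cases hcd : c = d'
    · refine ⟨h₁⁻¹, H.inv_mem hh₁, ?_⟩
      rw [hcd, inv_smul_eq_iff]
      exact hh₁d.symm
    exfalso
    obtain ⟨k, hk1, hk2⟩ := MulAction.is_two_pretransitive_iff.1 hN2 hcd hab
    let T'' : Subgroup G := ((T : Subgroup S).map S.subtype).map (MulAut.conj (k : G)).toMonoidHom
    have hT''H : T'' ≤ H := by
      rintro _ ⟨_, ⟨z, hz, rfl⟩, rfl⟩
      refine (hH _).2 ⟨N.mul_mem (N.mul_mem k.2 z.2.1) (N.inv_mem k.2), ?_, ?_⟩
      · show ((k : G) * (z : G) * (k : G)⁻¹) • a = a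
        rw [mul_smul, mul_smul, show (k : G)⁻¹ • a = c from inv_smul_eq_iff.2 hk1.symm, hc z hz]
        exact hk1
      · show ((k : G) * (z : G) * (k : G)⁻¹) • b = b
        rw [mul_smul, mul_smul, show (k : G)⁻¹ • b = d' from inv_smul_eq_iff.2 hk2.symm, hd' z hz]
        exact hk2
    have hdvd : Nat.card T ∣ Nat.card H := by
      rw [Nat.card_congr ((Subgroup.equivMapOfInjective _ _ S.subtype_injective).trans
        (Subgroup.equivMapOfInjective _ (MulAut.conj (k : G)).toMonoidHom (MulAut.conj (k : G)).injective)).toEquiv]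
      exact Subgroup.card_dvd_of_le hT''H
    obtain ⟨r, hr⟩ := hdvd
    have h2 := Subgroup.card_mul_index (T : Subgroup S)
    rw [hcardS, hr, Nat.mul_left_comm] at h2
    exact T.not_dvd_index ⟨r, Nat.eq_of_mul_eq_mul_left Nat.card_pos h2⟩
  obtain ⟨h₁, hh₁, e₁⟩ := hreach x hx.1 hx.2
  obtain ⟨h₂, hh₂, e₂⟩ := hreach y hy.1 hy.2
  have hmem : h₂ * h₁⁻¹ ∈ H := H.mul_mem hh₂ (H.inv_mem hh₁)
  refine ⟨⟨h₂ * h₁⁻¹, ((hH _).1 hmem).1⟩, ?_, ?_⟩
  · simp only [Finset.mem_insert, Finset.mem_singleton, forall_eq_or_imp, forall_eq]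
    exact ⟨((hH _).1 hmem).2.1, ((hH _).1 hmem).2.2⟩
  · show (h₂ * h₁⁻¹) • x = y
    rw [mul_smul, inv_smul_eq_iff.2 e₁.symm, e₂]


end Cfsg.Agent.S0699
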