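import Cfsg.Statements.S0701
import Cfsg.Agent.Perm.Basic
import Mathlib.GroupTheory.GroupAction.Primitive
-- import your own Cfsg.Agent.* helpers here

set_option autoImplicit false
open Cfsg

namespace Cfsg.Agent.S0701

/-- The centraliser in the full symmetric group of a transitive permutation group `G` is semiregular, and it is transitive if and only if `G` is regular. -/
theorem result {α : Type*} (G : Subgroup (Equiv.Perm α)) [MulAction.IsPretransitive G α] : (∀ c ∈ Subgroup.centralizer (G : Set (Equiv.Perm α)), ∀ a : α, c a = a → c = 1) ∧ (MulAction.IsPretransitive (Subgroup.centralizer (G : Set (Equiv.Perm α))) α ↔ ∀ a : α, MulAction.stabilizer G a = ⊥) := by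
  open CfsgLib.PermBasic MulAction in
  refine ⟨fun c hc a ha => eq_one_of_commute_of_fix G
      (fun t ht => Subgroup.mem_centralizer_iff.mp hc t ht) ha, ?_, ?_⟩
  · intro hC a
    exact semiregular_of_le_centralizer (Subgroup.centralizer (G : Set (Equiv.Perm α))) G
      (Subgroup.le_centralizer_iff.mp le_rfl) a
  · intro hreg
    refine ⟨fun a b => ?_⟩
    have hbij : ∀ x : α, Function.Bijective (fun g : G => g • x) := fun x =>
      ⟨fun s t h => by
        have : t⁻¹ * s ∈ stabilizer G x := by
          rw [mem_stabilizer_iff, mul_smul]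
          exact inv_smul_eq_iff.mpr h
        rw [hreg, Subgroup.mem_bot, inv_mul_eq_one] at this
        exact this.symm,
      fun y => exists_smul_eq G x y⟩
    let ea := Equiv.ofBijective _ (hbij a)
    let eb := Equiv.ofBijective _ (hbij b)
    let c : Equiv.Perm α := ea.symm.trans eb
    have hc : ∀ g : G, c (g • a) = g • b := fun g => by
      change eb (ea.symm (ea g)) = _
      rw [Equiv.symm_apply_apply]; rfl
    refine ⟨⟨c, Subgroup.mem_centralizer_iff.mpr fun g hg => ?_⟩, ?_⟩
    · ext x
      obtain ⟨h, rfl⟩ := exists_smul_eq G a x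
      change g (c (h • a)) = c (g (h • a))
      rw [hc, show g (h • a) = (⟨g, hg⟩ * h : G) • a from rfl, hc]
      rfl
    · have := hc 1
      rw [one_smul, one_smul] at this
      exact this


end Cfsg.Agent.S0701
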