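import Cfsg.Statements.S0702
import Cfsg.Agent.Perm.Basic
-- import your own Cfsg.Agent.* helpers here

set_option autoImplicit false
open Cfsg

namespace Cfsg.Agent.S0702

/-- For a transitive permutation group `G` on a finite set, the centraliser of `G` in the symmetric group is isomorphic to `N_G(G_ω)/G_ω`, and its orbit of `ω` is the set of fixed points of `G_ω`. -/
theorem result {α : Type*} [Finite α] (G : Subgroup (Equiv.Perm α)) [MulAction.IsPretransitive G α] (a : α) : Nonempty (Subgroup.centralizer (G : Set (Equiv.Perm α)) ≃* Subgroup.normalizer ((MulAction.stabilizer G a : Subgroup G) : Set G) ⧸ (MulAction.stabilizer G a).subgroupOf (Subgroup.normalizer ((MulAction.stabilizer G a : Subgroup G) : Set G))) ∧ MulAction.orbit (Subgroup.centralizer (G : Set (Equiv.Perm α))) a = MulAction.fixedPoints (MulAction.stabilizer G a) α := by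
  open CfsgLib.PermBasic MulAction in
  classical
  set S := stabilizer G a with hS
  set N := Subgroup.normalizer (S : Set G) with hN
  have hsurj : Function.Surjective (fun g : G => g • a) := fun y => exists_smul_eq G a y
  let f := Function.surjInv hsurj
  have hf : ∀ y, f y • a = y := fun y => Function.surjInv_eq hsurj y
  have hwell : ∀ n : N, ∀ g g' : G, g • a = g' • a → (g * (n : G)⁻¹) • a = (g' * (n : G)⁻¹) • a := by
    intro n g g' h
    have h1 : g⁻¹ * g' ∈ S := by
      rw [hS, mem_stabilizer_iff, mul_smul, ← h, inv_smul_smul]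
    have h2 := (Subgroup.mem_normalizer_iff.mp n.2 (g⁻¹ * g')).mp h1
    rw [hS, mem_stabilizer_iff, mul_smul, mul_smul] at h2
    have h3 : (g⁻¹ * g') • ((n : G)⁻¹ • a) = (n : G)⁻¹ • a := eq_inv_smul_iff.mpr h2
    rw [mul_smul, inv_smul_eq_iff] at h3
    rw [mul_smul, mul_smul]
    exact h3.symm
  let cf : N → α → α := fun n x => (f x * (n : G)⁻¹) • a
  have hcf : ∀ (n : N) (g : G), cf n (g • a) = (g * (n : G)⁻¹) • a := fun n g => hwell n _ _ (hf _)
  have hcm : ∀ (n m : N) (x : α), cf n (cf m x) = cf (n * m) x := by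
    intro n m x
    obtain ⟨g, rfl⟩ := hsurj x
    simp only [hcf, Subgroup.coe_mul, mul_inv_rev, mul_assoc]
  have hc1 : ∀ x, cf 1 x = x := by
    intro x
    obtain ⟨g, rfl⟩ := hsurj x
    simp only [hcf, Subgroup.coe_one, inv_one, mul_one]
  let cp : N →* Equiv.Perm α :=
    { toFun := fun n => ⟨cf n, cf n⁻¹, fun x => by rw [hcm, inv_mul_cancel, hc1],
        fun x => by rw [hcm, mul_inv_cancel, hc1]⟩
      map_one' := Equiv.ext hc1
      map_mul' := fun n m => Equiv.ext fun x => (hcm n m x).symm }
  have hcp : ∀ (n : N) (g : G), cp n (g • a) = (g * (n : G)⁻¹) • a := hcf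
  have hcC : ∀ n, cp n ∈ Subgroup.centralizer (G : Set (Equiv.Perm α)) := by
    intro n
    refine Subgroup.mem_centralizer_iff.mpr fun t ht => ?_
    ext x
    obtain ⟨g, rfl⟩ := hsurj x
    change t (cp n (g • a)) = cp n (t (g • a))
    rw [show t (g • a) = ((⟨t, ht⟩ : G) * g) • a from rfl, hcp, hcp]
    rw [mul_assoc, mul_smul _ (g * _) a]
    rfl
  let ψ := cp.codRestrict (Subgroup.centralizer (G : Set (Equiv.Perm α))) hcC
  have hfix : ∀ x ∈ fixedPoints S α, ∃ n : N, cp n a = x := by
    intro x hx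
    obtain ⟨g, rfl⟩ := hsurj x
    have hle : ∀ h ∈ S, g⁻¹ * h * g ∈ S := fun h hh => by
      have : h • g • a = g • a := hx ⟨h, hh⟩
      rw [hS, mem_stabilizer_iff, mul_smul, mul_smul, this, inv_smul_smul]
    have hn : g⁻¹ ∈ N := by
      rw [hN]
      refine Subgroup.mem_normalizer_iff.mpr fun h => ⟨fun hh => by simpa using hle h hh, fun hh => ?_⟩
      let F : S → S := fun s => ⟨g⁻¹ * s * g, hle s s.2⟩
      have hFi : Function.Injective F := fun s t hst => by
        have := congrArg Subtype.val hst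
        exact Subtype.ext (mul_left_cancel (mul_right_cancel this))
      obtain ⟨s, hs⟩ := Finite.surjective_of_injective hFi ⟨g⁻¹ * h * g⁻¹⁻¹, hh⟩
      have hv : g⁻¹ * (s : G) * g = g⁻¹ * h * g⁻¹⁻¹ := congrArg Subtype.val hs
      rw [inv_inv] at hv
      rw [← mul_left_cancel (mul_right_cancel hv)]
      exact s.2
    refine ⟨⟨g⁻¹, hn⟩, ?_⟩
    have := hcp ⟨g⁻¹, hn⟩ 1
    simpa using this
  have hψsurj : Function.Surjective ψ := by
    rintro ⟨c, hc⟩
    have hcg : ∀ (g : G) (x : α), c (g • x) = g • c x := fun g x =>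
      (congrArg (fun e : Equiv.Perm α => e x) (Subgroup.mem_centralizer_iff.mp hc g g.2)).symm
    obtain ⟨n, hn⟩ := hfix (c a) fun h => by
      change (h : G) • c a = c a
      rw [← hcg, mem_stabilizer_iff.mp h.2]
    refine ⟨n, Subtype.ext (Equiv.ext fun x => ?_)⟩
    obtain ⟨g, rfl⟩ := hsurj x
    change cp n (g • a) = c (g • a)
    have := hcp n 1
    rw [one_smul, one_mul] at this
    rw [hcg, ← hn, hcp, this, mul_smul]
  have hker : ψ.ker = S.subgroupOf N := by
    ext n
    rw [MonoidHom.mem_ker, Subgroup.mem_subgroupOf]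
    constructor
    · intro h
      have h2 : cp n a = a := by rw [show cp n = 1 from congrArg Subtype.val h]; rfl
      have := hcp n 1
      rw [one_smul, one_mul] at this
      rw [h2] at this
      rw [hS, mem_stabilizer_iff]
      exact smul_eq_iff_eq_inv_smul _ |>.mpr this
    · intro h
      refine Subtype.ext (Equiv.ext fun x => ?_)
      obtain ⟨g, rfl⟩ := hsurj x
      change cp n (g • a) = g • a
      rw [hcp, mul_smul, show (n : G)⁻¹ • a = a from S.inv_mem h]
  refine ⟨⟨((QuotientGroup.quotientMulEquivOfEq hker.symm).trans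
    (QuotientGroup.quotientKerEquivOfSurjective ψ hψsurj)).symm⟩, ?_⟩
  ext x
  constructor
  · rintro ⟨⟨c, hc⟩, rfl⟩ h
    change ((h : G) : Equiv.Perm α) (c a) = c a
    have := congrArg (fun e : Equiv.Perm α => e a) (Subgroup.mem_centralizer_iff.mp hc (h : G) (h : G).2)
    refine this.trans ?_
    change c ((h : G) • a) = c a
    rw [mem_stabilizer_iff.mp h.2]
  · intro hx
    obtain ⟨n, hn⟩ := hfix x hx
    exact ⟨ψ n, hn⟩


end Cfsg.Agent.S0702
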