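import Cfsg.Statements.S0703
import Cfsg.Agent.Perm.Basic
import Mathlib.GroupTheory.Perm.Cycle.Type
-- import your own Cfsg.Agent.* helpers here

set_option autoImplicit false
open Cfsg

namespace Cfsg.Agent.S0703

/-- An abelian transitive minimal normal subgroup `M` of a permutation group on a finite set is self-centralising in the symmetric group, regular, elementary abelian, and is the unique minimal normal subgroup. -/
theorem result {α : Type*} [Finite α] (G : Subgroup (Equiv.Perm α)) (M : Subgroup G) [M.Normal] (hM : M ≠ ⊥) (hmin : ∀ L : Subgroup G, L.Normal → L ≤ M → L = ⊥ ∨ L = M) (hab : IsMulCommutative M) (htrans : MulAction.IsPretransitive M α) : Subgroup.centralizer ((M.map G.subtype : Subgroup (Equiv.Perm α)) : Set (Equiv.Perm α)) = M.map G.subtype ∧ (∀ a : α, MulAction.stabilizer M a = ⊥) ∧ (∃ p : ℕ, p.Prime ∧ ∀ m ∈ M, m ^ p = 1) ∧ ∀ L : Subgroup G, L.Normal → L ≠ ⊥ → (∀ L' : Subgroup G, L'.Normal → L' ≤ L → L' = ⊥ ∨ L' = L) → L = M := by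
  open CfsgLib.PermBasic MulAction in
  obtain ⟨⟨m, hm⟩, hmne⟩ : ∃ m : M, m ≠ 1 := by
    rw [Subgroup.ne_bot_iff_exists_ne_one] at hM
    exact hM
  have : IsPretransitive (M.map G.subtype) α := isPretransitive_map_subtype M
  set T := M.map G.subtype with hT
  have hTC : T ≤ Subgroup.centralizer (T : Set (Equiv.Perm α)) := by
    rintro _ ⟨x, hx, rfl⟩
    refine Subgroup.mem_centralizer_iff.mpr ?_
    rintro _ ⟨y, hy, rfl⟩
    exact congrArg G.subtype (congrArg Subtype.val (hab.is_comm.comm (⟨y, hy⟩ : M) ⟨x, hx⟩))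
  have hne : Nonempty α := by
    rw [← not_isEmpty_iff]
    intro hemp
    exact hmne (Subtype.ext (Subtype.ext (Equiv.ext fun x => (hemp.false x).elim)))
  obtain ⟨a0⟩ := hne
  have hsr : ∀ a : α, stabilizer (Subgroup.centralizer (T : Set (Equiv.Perm α))) a = ⊥ :=
    fun a => semiregular_of_le_centralizer T _ le_rfl a
  have hCT : Subgroup.centralizer (T : Set (Equiv.Perm α)) = T :=
    eq_of_semiregular_of_transitive_le hTC a0 (hsr a0)
  have hMst : ∀ a : α, stabilizer M a = ⊥ := by
    intro a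
    rw [eq_bot_iff]
    intro x hx
    rw [Subgroup.mem_bot]
    exact Subtype.ext (Subtype.ext (eq_one_of_commute_of_fix T
      (fun t ht => Subgroup.mem_centralizer_iff.mp (hTC (Subgroup.mem_map_of_mem G.subtype x.2)) t ht)
      (mem_stabilizer_iff.mp hx)))
  refine ⟨hCT, hMst, ?_, ?_⟩
  · classical
    let inst : Fintype α := Fintype.ofFinite α
    have hnt : 1 < Nat.card M := Finite.one_lt_card_iff_nontrivial.mpr ⟨⟨⟨m, hm⟩, 1, hmne⟩⟩
    obtain ⟨p, hp, hpd⟩ := Nat.exists_prime_and_dvd (ne_of_gt hnt)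
    have : Fact p.Prime := ⟨hp⟩
    obtain ⟨x, hx⟩ := exists_prime_orderOf_dvd_card' (G := M) p hpd
    let L : Subgroup G :=
      { carrier := {y | y ∈ M ∧ y ^ p = 1}
        one_mem' := ⟨M.one_mem, one_pow p⟩
        mul_mem' := fun {u v} hu hv => ⟨M.mul_mem hu.1 hv.1, by
          have hc : Commute u v := congrArg Subtype.val (hab.is_comm.comm (⟨u, hu.1⟩ : M) ⟨v, hv.1⟩)
          rw [hc.mul_pow, hu.2, hv.2, one_mul]⟩
        inv_mem' := fun {u} hu => ⟨M.inv_mem hu.1, by rw [inv_pow, hu.2, inv_one]⟩ }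
    have hLn : L.Normal := ⟨fun y hy g => ⟨‹M.Normal›.conj_mem y hy.1 g, by
      rw [conj_pow, hy.2, mul_one, mul_inv_cancel]⟩⟩
    have hxL : (x : G) ∈ L := ⟨x.2, by
      rw [← Subgroup.coe_pow, ← hx, pow_orderOf_eq_one, Subgroup.coe_one]⟩
    refine ⟨p, hp, fun y hy => ?_⟩
    rcases hmin L hLn (fun y hy => hy.1) with h | h
    · rw [h, Subgroup.mem_bot] at hxL
      have hx1 : x = 1 := Subtype.ext hxL
      rw [hx1, orderOf_one] at hx
      exact absurd hx hp.one_lt.ne
    · exact (show y ∈ L by rw [h]; exact hy).2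
  · intro L hLn hL hLmin
    by_contra hLM
    have hc := le_centralizer_of_inf_eq_bot (inf_eq_bot_of_minimal hLmin hmin hLM)
    have hLM' : L ≤ M := by
      intro x hx
      have : G.subtype x ∈ Subgroup.centralizer (T : Set (Equiv.Perm α)) := by
        refine Subgroup.mem_centralizer_iff.mpr ?_
        rintro _ ⟨y, hy, rfl⟩
        exact congrArg G.subtype (Subgroup.mem_centralizer_iff.mp (hc hx) y hy)
      rw [hCT] at this
      obtain ⟨y, hy, hxy⟩ := this
      exact G.subtype_injective hxy ▸ hy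
    rcases hmin L hLn hLM' with h | h
    · exact hL h
    · exact hLM h


end Cfsg.Agent.S0703
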