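import Cfsg.Statements.S0704
import Cfsg.Agent.Perm.Basic
-- import your own Cfsg.Agent.* helpers here

set_option autoImplicit false
open Cfsg

namespace Cfsg.Agent.S0704

/-- Two distinct transitive minimal normal subgroups `M`, `N` of a permutation group are regular, non-abelian, isomorphic, each other's centraliser in the symmetric group, and the only minimal normal subgroups. -/
theorem result {α : Type*} (G : Subgroup (Equiv.Perm α)) (M N : Subgroup G) [M.Normal] [N.Normal] (hM : M ≠ ⊥) (hN : N ≠ ⊥) (hMmin : ∀ L : Subgroup G, L.Normal → L ≤ M → L = ⊥ ∨ L = M) (hNmin : ∀ L : Subgroup G, L.Normal → L ≤ N → L = ⊥ ∨ L = N) (hMN : M ≠ N) (hMt : MulAction.IsPretransitive M α) (hNt : MulAction.IsPretransitive N α) : (∀ a : α, MulAction.stabilizer M a = ⊥) ∧ (∀ a : α, MulAction.stabilizer N a = ⊥) ∧ ¬ IsMulCommutative M ∧ Nonempty (M ≃* N) ∧ Subgroup.centralizer ((M.map G.subtype : Subgroup (Equiv.Perm α)) : Set (Equiv.Perm α)) = N.map G.subtype ∧ Subgroup.centralizer ((N.map G.subtype : Subgroup (Equiv.Perm α)) : Set (Equiv.Perm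 α)) = M.map G.subtype ∧ ∀ L : Subgroup G, L.Normal → L ≠ ⊥ → (∀ L' : Subgroup G, L'.Normal → L' ≤ L → L' = ⊥ ∨ L' = L) → L = M ∨ L = N := by
  open CfsgLib.PermBasic MulAction in
  have : IsPretransitive (M.map G.subtype) α := isPretransitive_map_subtype M
  have : IsPretransitive (N.map G.subtype) α := isPretransitive_map_subtype N
  have hdis : M ⊓ N = ⊥ := inf_eq_bot_of_minimal hMmin hNmin hMN
  have hmap : ∀ A B : Subgroup G, A ≤ Subgroup.centralizer (B : Set G) →
      A.map G.subtype ≤ Subgroup.centralizer ((B.map G.subtype : Subgroup (Equiv.Perm α)) : Set (Equiv.Perm α)) := by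
    rintro A B hAB _ ⟨x, hx, rfl⟩
    refine Subgroup.mem_centralizer_iff.mpr ?_
    rintro _ ⟨y, hy, rfl⟩
    exact congrArg G.subtype (Subgroup.mem_centralizer_iff.mp (hAB hx) y hy)
  have hMcN := hmap M N (le_centralizer_of_inf_eq_bot hdis)
  have hNcM := hmap N M (le_centralizer_of_inf_eq_bot (inf_comm M N ▸ hdis))
  have hreg : ∀ A B : Subgroup G, IsPretransitive (B.map G.subtype) α →
      A.map G.subtype ≤ Subgroup.centralizer ((B.map G.subtype : Subgroup (Equiv.Perm α)) : Set (Equiv.Perm α)) →
      ∀ a : α, stabilizer A a = ⊥ := by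
    intro A B hB hAB a
    rw [eq_bot_iff]
    intro x hx
    rw [Subgroup.mem_bot]
    exact Subtype.ext (Subtype.ext (eq_one_of_commute_of_fix (B.map G.subtype)
      (fun t ht => Subgroup.mem_centralizer_iff.mp (hAB (Subgroup.mem_map_of_mem G.subtype x.2)) t ht)
      (mem_stabilizer_iff.mp hx)))
  have hMs := hreg M N inferInstance hMcN
  have hNs := hreg N M inferInstance hNcM
  have hne : Nonempty α := by
    rw [← not_isEmpty_iff]
    intro hemp
    apply hM
    rw [eq_bot_iff]
    intro x hx
    exact Subgroup.mem_bot.mpr (Subtype.ext (Equiv.ext fun y => (hemp.false y).elim))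
  obtain ⟨a⟩ := hne
  have hCM : Subgroup.centralizer ((M.map G.subtype : Subgroup (Equiv.Perm α)) : Set (Equiv.Perm α)) = N.map G.subtype :=
    eq_of_semiregular_of_transitive_le hNcM a (semiregular_of_le_centralizer _ _ le_rfl a)
  have hCN : Subgroup.centralizer ((N.map G.subtype : Subgroup (Equiv.Perm α)) : Set (Equiv.Perm α)) = M.map G.subtype :=
    eq_of_semiregular_of_transitive_le hMcN a (semiregular_of_le_centralizer _ _ le_rfl a)
  refine ⟨hMs, hNs, ?_, ?_, hCM, hCN, ?_⟩
  · intro hab
    have h1 : M.map G.subtype ≤ N.map G.subtype := by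
      rw [← hCM]
      refine hmap M M fun x hx => Subgroup.mem_centralizer_iff.mpr fun y hy => ?_
      exact congrArg Subtype.val (hab.is_comm.comm (⟨y, hy⟩ : M) ⟨x, hx⟩)
    rw [Subgroup.map_le_map_iff_of_injective G.subtype_injective] at h1
    exact hM ((inf_eq_left.mpr h1).symm.trans hdis)
  · have hbij : ∀ A : Subgroup G, IsPretransitive A α → (∀ a : α, stabilizer A a = ⊥) →
        Function.Bijective (fun x : A => x • a) := by
      intro A hA hAs
      refine ⟨fun s t h => ?_, fun y => exists_smul_eq A a y⟩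
      have : t⁻¹ * s ∈ stabilizer A a := by
        rw [mem_stabilizer_iff, mul_smul]
        exact inv_smul_eq_iff.mpr h
      rw [hAs, Subgroup.mem_bot, inv_mul_eq_one] at this
      exact this.symm
    let eM := Equiv.ofBijective _ (hbij M hMt hMs)
    let eN := Equiv.ofBijective _ (hbij N hNt hNs)
    let e : M ≃ N := (Equiv.inv M).trans (eM.trans eN.symm)
    have he : ∀ x : M, (e x) • a = x⁻¹ • a := fun x => eN.apply_symm_apply _
    have hcom : ∀ (x : M) (y : N) (b : α), x • y • b = y • x • b := by
      intro x y b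
      have := Subgroup.mem_centralizer_iff.mp (le_centralizer_of_inf_eq_bot hdis x.2) y y.2
      change (x : G) • (y : G) • b = (y : G) • (x : G) • b
      rw [← mul_smul, ← mul_smul, this]
    refine ⟨{ e with map_mul' := fun x y => eN.injective ?_ }⟩
    change e (x * y) • a = (e x * e y) • a
    rw [mul_smul, he y, ← hcom, he x, ← mul_smul, he, mul_inv_rev]
  · intro L hLn hL hLmin
    by_contra! h
    obtain ⟨hLM, hLN⟩ := h
    have hc := hmap L M (le_centralizer_of_inf_eq_bot (inf_eq_bot_of_minimal hLmin hMmin hLM))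
    rw [hCM, Subgroup.map_le_map_iff_of_injective G.subtype_injective] at hc
    rcases hNmin L hLn hc with h | h
    · exact hL h
    · exact hLN h


end Cfsg.Agent.S0704
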