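import Cfsg.Statements.S0705
import Cfsg.Agent.Perm.Multi
import Mathlib
-- import your own Cfsg.Agent.* helpers here

set_option autoImplicit false
open scoped Pointwise
open Cfsg

namespace Cfsg.Agent.S0705

/-- A generously `k`-transitive permutation group (every `(k+1)`-subset has its full symmetric group induced by the setwise stabiliser) of degree greater than `k` is `k`-transitive, and for a `k`-subset the setwise and pointwise stabilisers have the same orbits outside it. -/
theorem result {α : Type*} [Fintype α] [DecidableEq α] (G : Subgroup (Equiv.Perm α)) {k : ℕ} (hk : k < Fintype.card α) (hgen : ∀ s : Finset α, s.card = k + 1 → ∀ σ : Equiv.Perm ↥s, ∃ g ∈ G, ∀ x : ↥s, g (x : α) = σ x) : MulAction.IsMultiplyPretransitive G α k ∧ ∀ s : Finset α, s.card = k → ∀ a b : α, a ∉ s → b ∉ s → (∃ g ∈ G, g • s = s ∧ g a = b) → ∃ g ∈ G, (∀ x ∈ s, g x = x) ∧ g a = b := by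
  open MulAction in
  classical
  refine ⟨CfsgLib.PermMulti.isMultiplyPretransitive_of_improve fun x y i hi => ?_, fun s hs a b ha hb => ?_⟩
  · set R := Finset.univ.map x with hR
    have hRc : R.card = k := by rw [hR, Finset.card_map, Finset.card_univ, Fintype.card_fin]
    have hmem : ∀ l, x l ∈ R := fun l => Finset.mem_map_of_mem x (Finset.mem_univ l)
    obtain ⟨S, hS1, -, hS3⟩ := Finset.exists_subsuperset_card_eq (s := insert (y i) R) (t := Finset.univ)
      (n := k + 1) (Finset.subset_univ _) ((Finset.card_insert_le _ _).trans (by omega))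
      (by rw [Finset.card_univ]; omega)
    have hx : x i ∈ S := hS1 (Finset.mem_insert_of_mem (hmem i))
    have hy : y i ∈ S := hS1 (Finset.mem_insert_self _ _)
    obtain ⟨g, hg, hgx⟩ := hgen S hS3 (Equiv.swap ⟨x i, hx⟩ ⟨y i, hy⟩)
    refine ⟨⟨g, hg⟩, (hgx ⟨x i, hx⟩).trans (by rw [Equiv.swap_apply_left]), fun j hj => ?_⟩
    have hji : j ≠ i := fun e => hi (e ▸ hj)
    refine (hgx ⟨x j, hS1 (Finset.mem_insert_of_mem (hmem j))⟩).trans ?_
    rw [Equiv.swap_apply_of_ne_of_ne]
    · exact hj
    · exact fun e => hji (x.injective (congrArg Subtype.val e))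
    · exact fun e => hji (y.injective (hj.symm.trans (congrArg Subtype.val e)))
  · rintro ⟨g, hg, hgs, hgab⟩
    have hmem : ∀ x ∈ s, g x ∈ s := fun x hx => by
      have := Finset.smul_mem_smul_finset (a := g) hx
      rwa [hgs] at this
    let f : ↥(insert b s) → ↥(insert b s) := fun x =>
      if h : (x : α) ∈ s then ⟨g x, Finset.mem_insert_of_mem (hmem _ h)⟩ else x
    have hf : Function.Injective f := by
      intro u v huv
      simp only [f] at huv
      split at huv <;> split at huv <;> rename_i h1 h2
      · exact Subtype.ext (g.injective (congrArg Subtype.val huv))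
      · exact absurd (congrArg Subtype.val huv ▸ hmem _ h1) h2
      · exact absurd ((congrArg Subtype.val huv).symm ▸ hmem _ h2) h1
      · exact huv
    obtain ⟨u, hu, hux⟩ := hgen (insert b s) (by rw [Finset.card_insert_of_notMem hb, hs])
      (Equiv.ofBijective f (Finite.injective_iff_bijective.mp hf))⁻¹
    refine ⟨u * g, G.mul_mem hu hg, fun x hx => ?_, ?_⟩
    · rw [Equiv.Perm.mul_apply]
      have h1 : Equiv.ofBijective f (Finite.injective_iff_bijective.mp hf) ⟨x, Finset.mem_insert_of_mem hx⟩ = ⟨g x, Finset.mem_insert_of_mem (hmem x hx)⟩ := dif_pos hx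
      refine (hux ⟨g x, Finset.mem_insert_of_mem (hmem x hx)⟩).trans ?_
      rw [← h1, Equiv.Perm.inv_def, Equiv.symm_apply_apply]
    · rw [Equiv.Perm.mul_apply, hgab]
      have h1 : Equiv.ofBijective f (Finite.injective_iff_bijective.mp hf) ⟨b, Finset.mem_insert_self b s⟩ = ⟨b, Finset.mem_insert_self b s⟩ := dif_neg hb
      refine (hux ⟨b, Finset.mem_insert_self b s⟩).trans ?_
      conv_lhs => rw [← h1, Equiv.Perm.inv_def, Equiv.symm_apply_apply]


end Cfsg.Agent.S0705
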