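import Cfsg.Statements.S0706
import Cfsg.Agent.S0705
import Cfsg.Agent.Solvable.Basics
-- import your own Cfsg.Agent.* helpers here

set_option autoImplicit false
open Cfsg
open scoped commutatorElement Pointwise

namespace Cfsg.Agent.S0706

/-- In a generously `k`-transitive permutation group, for a prime `p ≤ k` and a `k`-set `Γ`, there are no `p` points outside `Γ` lying in distinct orbits of the pointwise stabiliser of `Γ` all of length prime to `p` (at most `p - 1` such orbits). -/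
theorem result {α : Type*} [Fintype α] [DecidableEq α] (G : Subgroup (Equiv.Perm α)) {k : ℕ} (hk : k < Fintype.card α) (hgen : ∀ s : Finset α, s.card = k + 1 → ∀ σ : Equiv.Perm ↥s, ∃ g ∈ G, ∀ x : ↥s, g (x : α) = σ x) {p : ℕ} (hp : p.Prime) (hpk : p ≤ k) (Γ : Finset α) (hΓ : Γ.card = k) (f : Fin p → α) (hf : ∀ i, f i ∉ Γ) (hdist : ∀ i j, i ≠ j → f j ∉ MulAction.orbit (fixingSubgroup G (Γ : Set α)) (f i)) : ∃ i, p ∣ Nat.card (MulAction.orbit (fixingSubgroup G (Γ : Set α)) (f i)) := by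
  classical
  haveI : Fact p.Prime := ⟨hp⟩
  by_contra hcon
  push Not at hcon
  obtain ⟨hkt, horb⟩ := Cfsg.Agent.S0705.result G hk hgen
  set K := fixingSubgroup G (Γ : Set α) with hK
  have hKmem : ∀ g : G, g ∈ K ↔ ∀ x ∈ Γ, g • x = x := fun g => mem_fixingSubgroup_iff G
  obtain ⟨P₀⟩ := (inferInstance : Nonempty (Sylow p K))
  set P : Subgroup G := (P₀ : Subgroup K).map K.subtype with hP
  have hPp : IsPGroup p P := P₀.2.map _
  have hPK : P ≤ K := Subgroup.map_subtype_le _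
  -- the cycle
  obtain ⟨C, hCΓ, hCc⟩ := Finset.exists_subset_card_eq (s := Γ) (n := p) (by omega)
  obtain ⟨c₀, hc₀⟩ : ∃ c, c ∉ Γ := ⟨f ⟨0, hp.pos⟩, hf _⟩
  set s : Finset α := insert c₀ Γ with hs
  have hscard : s.card = k + 1 := by rw [hs, Finset.card_insert_of_notMem hc₀, hΓ]
  let eC : Fin p ≃ ↥C := (C.equivFin.trans (finCongr hCc)).symm
  let π : Equiv.Perm ↥C := eC.permCongr (finRotate p)
  let eSub : {x : ↥s // (x : α) ∈ C} ≃ ↥C :=
    { toFun := fun x => ⟨x.1.1, x.2⟩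
      invFun := fun x => ⟨⟨x.1, Finset.mem_insert_of_mem (hCΓ x.2)⟩, x.2⟩
      left_inv := fun x => rfl
      right_inv := fun x => rfl }
  let σ : Equiv.Perm ↥s := Equiv.Perm.ofSubtype (eSub.symm.permCongr π)
  obtain ⟨g₀, hg₀G, hg₀⟩ := hgen s hscard σ
  set g : G := ⟨g₀, hg₀G⟩ with hgdef
  have hgC : ∀ x : ↥C, g • (x : α) = π x := fun x => by
    refine (hg₀ ⟨x, Finset.mem_insert_of_mem (hCΓ x.2)⟩).trans ?_
    simp only [σ]
    rw [Equiv.Perm.ofSubtype_apply_of_mem (p := fun y : ↥s => (y : α) ∈ C) (a := ⟨(x : α), Finset.mem_insert_of_mem (hCΓ x.2)⟩) _ x.2]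
    rfl
  have hgout : ∀ x ∈ Γ, x ∉ C → g • x = x := fun x hx hxC => by
    refine (hg₀ ⟨x, Finset.mem_insert_of_mem hx⟩).trans ?_
    simp only [σ]
    rw [Equiv.Perm.ofSubtype_apply_of_not_mem (p := fun y : ↥s => (y : α) ∈ C) (a := ⟨x, Finset.mem_insert_of_mem hx⟩) _ hxC]
  have hπp : π ^ p = 1 := by
    have h1 : finRotate p ^ p = 1 := by
      obtain ⟨q, hq⟩ : ∃ q, p = q + 2 := ⟨p - 2, by have := hp.two_le; omega⟩
      subst hq
      have := pow_orderOf_eq_one (finRotate (q + 2))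
      rwa [isCycle_finRotate.orderOf, support_finRotate, Finset.card_univ, Fintype.card_fin] at this
    apply Equiv.ext
    intro x
    have h2 : ∀ (j : ℕ) (y : ↥C), (π ^ j) y = eC ((finRotate p ^ j) (eC.symm y)) := by
      intro j
      induction j with
      | zero => simp
      | succ j ih =>
        intro y
        rw [pow_succ', Equiv.Perm.mul_apply, ih, pow_succ', Equiv.Perm.mul_apply]
        simp [π, Equiv.permCongr_apply]
    rw [h2, h1]
    simp
  have hstable : ∀ x ∈ Γ, g • x ∈ Γ := fun x hx => by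
    by_cases hxC : x ∈ C
    · rw [show g • x = π ⟨x, hxC⟩ from hgC ⟨x, hxC⟩]; exact hCΓ (π ⟨x, hxC⟩).2
    · rw [hgout x hx hxC]; exact hx
  have hgΓ : g • (Γ : Set α) = (Γ : Set α) := by
    refine Set.eq_of_subset_of_ncard_le ?_ ?_ (Γ.finite_toSet)
    · rintro _ ⟨x, hx, rfl⟩; exact hstable x hx
    · exact (Set.ncard_image_of_injective _ (MulAction.injective g)).ge
  -- Frattini
  obtain ⟨x, hxK, hxP⟩ : ∃ x ∈ K, x⁻¹ * g ∈ Subgroup.normalizer (P : Set G) := by
    have hmap : P.map (MulAut.conj g).toMonoidHom ≤ K := by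
      rintro _ ⟨y, hy, rfl⟩
      refine (hKmem _).2 fun z hz => ?_
      obtain ⟨w, hw, hwz⟩ : z ∈ g • (Γ : Set α) := by rw [hgΓ]; exact hz
      change (g * y * g⁻¹) • z = z
      rw [← hwz]
      change (g * y * g⁻¹) • g • w = g • w
      rw [mul_smul, mul_smul, inv_smul_smul, (hKmem y).1 (hPK hy) w hw]
    have hcard : Nat.card (P.map (MulAut.conj g).toMonoidHom) = Nat.card P :=
      (Nat.card_congr (P.equivMapOfInjective _ (MulAut.conj g).injective).toEquiv).symm
    set R := (P.map (MulAut.conj g).toMonoidHom).subgroupOf K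
    have hRp : IsPGroup p R := (hPp.map _).comap_of_injective K.subtype K.subtype_injective
    obtain ⟨Q, hQ⟩ := hRp.exists_le_sylow
    have hRQ : R = (Q : Subgroup K) := by
      refine CfsgLib.Solvable.eq_of_le_of_card_le hQ ?_
      rw [Nat.card_congr (Subgroup.subgroupOfEquivOfLe hmap).toEquiv, hcard, hP,
        ← Nat.card_congr ((P₀ : Subgroup K).equivMapOfInjective _ K.subtype_injective).toEquiv,
        Sylow.card_eq_multiplicity, Sylow.card_eq_multiplicity]
    obtain ⟨⟨x, hxK⟩, hx⟩ := MulAction.exists_smul_eq K P₀ Q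
    refine ⟨x, hxK, Subgroup.mem_normalizer_iff_map_conj_eq.2 ?_⟩
    have h1 : ((Q : Subgroup K)).map K.subtype = P.map (MulAut.conj x).toMonoidHom := by
      rw [← hx, Sylow.coe_subgroup_smul]
      ext y
      constructor
      · rintro ⟨z, ⟨w, hw, rfl⟩, rfl⟩
        exact ⟨(w : G), ⟨w, hw, rfl⟩, rfl⟩
      · rintro ⟨_, ⟨w, hw, rfl⟩, rfl⟩
        exact ⟨_, ⟨w, hw, rfl⟩, rfl⟩
    rw [← hRQ, Subgroup.map_subgroupOf_eq_of_le hmap] at h1
    apply le_antisymm
    · rintro _ ⟨y, hy, rfl⟩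
      have h2 : (MulAut.conj g) y ∈ P.map (MulAut.conj x).toMonoidHom := h1 ▸ ⟨y, hy, rfl⟩
      obtain ⟨w, hw, hwy⟩ := h2
      have hwy' : x * w * x⁻¹ = g * y * g⁻¹ := hwy
      change x⁻¹ * g * y * (x⁻¹ * g)⁻¹ ∈ P
      rw [show x⁻¹ * g * y * (x⁻¹ * g)⁻¹ = x⁻¹ * (g * y * g⁻¹) * x by group, ← hwy',
        show x⁻¹ * (x * w * x⁻¹) * x = w by group]
      exact hw
    · intro w hw
      obtain ⟨y, hy, hyw⟩ : (MulAut.conj x) w ∈ P.map (MulAut.conj g).toMonoidHom := h1 ▸ ⟨w, hw, rfl⟩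
      have hyw' : g * y * g⁻¹ = x * w * x⁻¹ := hyw
      refine ⟨y, hy, ?_⟩
      change x⁻¹ * g * y * (x⁻¹ * g)⁻¹ = w
      rw [show x⁻¹ * g * y * (x⁻¹ * g)⁻¹ = x⁻¹ * (g * y * g⁻¹) * x by group, hyw']
      group
  set g₁ := x⁻¹ * g with hg₁
  have hg₁Γ : ∀ z ∈ Γ, g₁ • z = g • z := fun z hz => by
    rw [hg₁, mul_smul, inv_smul_eq_iff, (hKmem x).1 hxK _ (hstable z hz)]
  obtain ⟨e, m, hm, hem⟩ := Nat.exists_eq_pow_mul_and_not_dvd (orderOf_pos g₁).ne' p hp.one_lt.ne'
  set u := g₁ ^ m with hu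
  have hup : u ^ p ^ e = 1 := by rw [hu, ← pow_mul, mul_comm, ← hem, pow_orderOf_eq_one]
  have hgC' : ∀ (j : ℕ) (c : ↥C), g₁ ^ j • (c : α) = ((π ^ j) c : ↥C) := by
    intro j
    induction j with
    | zero => simp
    | succ j ih =>
      intro c
      rw [pow_succ', mul_smul, ih, hg₁Γ _ (hCΓ ((π ^ j) c).2), hgC, pow_succ', Equiv.Perm.mul_apply]
  set c₁ := eC ⟨0, hp.pos⟩ with hc₁
  have hmove : u • (c₁ : α) ≠ c₁ := by
    intro hfix
    rw [hu, hgC'] at hfix
    have h1 : (π ^ m) c₁ = c₁ := Subtype.ext hfix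
    have h2 : (π ^ p) c₁ = c₁ := by rw [hπp, Equiv.Perm.one_apply]
    have h3 : π c₁ = c₁ := by
      have : m.gcd p = 1 := (hp.coprime_iff_not_dvd.2 hm).symm
      have h4 : (⟨m, h1⟩ : {j : ℕ // (π ^ j) c₁ = c₁}).1 = m := rfl
      have h5 : π ^ ((m.gcd p : ℕ) : ℤ) ∈ MulAction.stabilizer (Equiv.Perm ↥C) c₁ := by
        rw [Nat.gcd_eq_gcd_ab, zpow_add, zpow_mul, zpow_mul, zpow_natCast, zpow_natCast]
        exact mul_mem (zpow_mem h1 _) (zpow_mem h2 _)
      rw [this, Nat.cast_one, zpow_one] at h5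
      exact h5
    have h4 : finRotate p ⟨0, hp.pos⟩ = ⟨0, hp.pos⟩ := by
      apply eC.injective
      simpa [π, c₁, Equiv.permCongr_apply] using h3
    obtain ⟨q, hq⟩ : ∃ q, p = q + 2 := ⟨p - 2, by have := hp.two_le; omega⟩
    subst hq
    rw [finRotate_succ_apply] at h4
    simp [Fin.ext_iff] at h4
  have huout : ∀ z ∈ Γ, z ∉ C → u • z = z := fun z hz hzC => by
    have h0 : g₁ ∈ MulAction.stabilizer G z := by
      rw [MulAction.mem_stabilizer_iff, hg₁Γ z hz, hgout z hz hzC]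
    exact Subgroup.pow_mem _ h0 m
  have hg₁st : g₁ ∈ MulAction.stabilizer G (Γ : Set α) := by
    rw [MulAction.mem_stabilizer_iff]
    refine Set.eq_of_subset_of_ncard_le ?_ ?_ (Γ.finite_toSet)
    · rintro _ ⟨z, hz, rfl⟩
      change g₁ • z ∈ (Γ : Set α)
      rw [hg₁Γ z hz]; exact hstable z hz
    · exact (Set.ncard_image_of_injective _ (MulAction.injective g₁)).ge
  have huN : Subgroup.zpowers u ≤ Subgroup.normalizer (P : Set G) := by
    rw [Subgroup.zpowers_le, hu]; exact Subgroup.pow_mem _ hxP m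
  have hupg : IsPGroup p (Subgroup.zpowers u) := by
    rintro ⟨_, i, rfl⟩
    refine ⟨e, Subtype.ext ?_⟩
    change (u ^ i) ^ p ^ e = 1
    rw [← zpow_natCast, zpow_comm, zpow_natCast, hup, one_zpow]
  set Q := P ⊔ Subgroup.zpowers u with hQdef
  have hQp : IsPGroup p Q := IsPGroup.to_sup_of_normal_left' hPp hupg huN
  have hz : ∀ i : Fin p, ∃ z, z ∈ MulAction.orbit K (f i) ∧ ∀ q ∈ Q, q • z = z := by
    intro i
    have hinvK : ∀ q ∈ Q, ∀ w ∈ MulAction.orbit K (f i), q • w ∈ MulAction.orbit K (f i) := by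
      intro q hq w hw
      have hqst : q ∈ MulAction.stabilizer G (Γ : Set α) := by
        refine (sup_le ?_ ?_ : Q ≤ _) hq
        · refine hPK.trans fun y hy => ?_
          rw [MulAction.mem_stabilizer_iff]
          ext z
          refine ⟨?_, fun hz => ⟨z, hz, (hKmem y).1 hy z hz⟩⟩
          rintro ⟨z', hz', rfl⟩
          change y • z' ∈ (Γ : Set α)
          rw [(hKmem y).1 hy z' hz']; exact hz'
        · rw [Subgroup.zpowers_le, hu]; exact Subgroup.pow_mem _ hg₁st m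
      obtain ⟨y, hy⟩ := hw
      have hwΓ : w ∉ Γ := fun h => by
        have h1 := (hKmem (y : G)⁻¹).1 (inv_mem y.2) w h
        have h2 : (y : G) • f i = w := hy
        rw [← h2, inv_smul_smul, h2] at h1
        exact hf i (h1 ▸ h)
      have hqΓ : q • w ∉ Γ := fun h => by
        obtain ⟨z, hz, hzw⟩ : q • w ∈ q • (Γ : Set α) := by rw [MulAction.mem_stabilizer_iff.1 hqst]; exact h
        exact hwΓ (MulAction.injective q hzw ▸ hz)
      have hΓeq : (q : Equiv.Perm α) • Γ = Γ := by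
        rw [← Finset.coe_inj, Finset.coe_smul_finset]
        exact MulAction.mem_stabilizer_iff.1 hqst
      obtain ⟨r, hr, hrfix, hrw⟩ := horb Γ hΓ w (q • w) hwΓ hqΓ ⟨q, q.2, hΓeq, rfl⟩
      have hrK : (⟨r, hr⟩ : G) ∈ K := (hKmem _).2 hrfix
      exact ⟨⟨⟨r, hr⟩, hrK⟩ * y, by
        change ((⟨r, hr⟩ : G) * (y : G)) • f i = q • w
        rw [mul_smul, show (y : G) • f i = w from hy]
        exact hrw⟩
    let S : SubMulAction Q α :=
      { carrier := MulAction.orbit K (f i)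
        smul_mem' := fun q w hw => hinvK q q.2 w hw }
    obtain ⟨⟨z, hzm⟩, hzfix⟩ := hQp.nonempty_fixed_point_of_prime_not_dvd_card S (hcon i)
    exact ⟨z, hzm, fun q hq => congrArg Subtype.val (hzfix ⟨q, hq⟩)⟩
  choose z hzorb hzfix using hz
  have hzinj : Function.Injective z := by
    intro i j hij
    by_contra hne
    refine hdist i j hne ?_
    rw [← MulAction.orbit_eq_iff.2 (hzorb i), hij, MulAction.orbit_eq_iff.2 (hzorb j)]
    exact MulAction.mem_orbit_self _
  have hzΓ : ∀ i, z i ∉ Γ := fun i h => by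
    obtain ⟨y, hy⟩ := hzorb i
    have h1 := (hKmem (y : G)⁻¹).1 (inv_mem y.2) (z i) h
    have h2 : (y : G) • f i = z i := hy
    rw [← h2, inv_smul_smul, h2] at h1
    exact hf i (h1 ▸ h)
  set Γ' : Finset α := (Γ \ C) ∪ Finset.univ.image z with hΓ'
  have hdisj : Disjoint (Γ \ C) (Finset.univ.image z) := by
    rw [Finset.disjoint_left]
    intro w hw hw'
    obtain ⟨i, -, rfl⟩ := Finset.mem_image.1 hw'
    exact hzΓ i (Finset.mem_sdiff.1 hw).1
  have hΓ'c : Γ'.card = k := by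
    rw [hΓ', Finset.card_union_of_disjoint hdisj, Finset.card_sdiff_of_subset hCΓ,
      Finset.card_image_of_injective _ hzinj, Finset.card_univ, Fintype.card_fin, hΓ, hCc]
    omega
  obtain ⟨h, hh⟩ := hkt.exists_smul_eq
    ((Γ.equivFin.trans (finCongr hΓ)).symm.toEmbedding.trans (Function.Embedding.subtype _))
    ((Γ'.equivFin.trans (finCongr hΓ'c)).symm.toEmbedding.trans (Function.Embedding.subtype _))
  have himg : h • (Γ : Set α) = (Γ' : Set α) := by
    refine Set.eq_of_subset_of_ncard_le ?_ ?_ (Γ'.finite_toSet)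
    · rintro _ ⟨w, hw, rfl⟩
      have := DFunLike.congr_fun hh ((Γ.equivFin.trans (finCongr hΓ)) ⟨w, hw⟩)
      simp only [Function.Embedding.smul_apply, Function.Embedding.trans_apply, Equiv.coe_toEmbedding,
        Equiv.symm_apply_apply] at this
      change h • w ∈ (Γ' : Set α)
      exact (show h • w = _ from this) ▸ Subtype.mem _
    · rw [show (h • (Γ : Set α)).ncard = (Γ : Set α).ncard from Set.ncard_image_of_injective _ (MulAction.injective h),
        Set.ncard_coe_finset, Set.ncard_coe_finset, hΓ, hΓ'c]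
  have hcardK : Nat.card (fixingSubgroup G (Γ' : Set α)) = Nat.card K :=
    (Nat.card_congr (SubMulAction.fixingSubgroupEquivFixingSubgroup himg).toEquiv).symm
  have hQle : Q ≤ fixingSubgroup G (Γ' : Set α) := by
    intro q hq
    refine (mem_fixingSubgroup_iff G).2 fun w hw => ?_
    rcases Finset.mem_union.1 (Finset.mem_coe.1 hw) with hw | hw
    · have hw' := Finset.mem_sdiff.1 hw
      refine MulAction.mem_stabilizer_iff.1 ((sup_le ?_ ?_ : Q ≤ MulAction.stabilizer G w) hq)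
      · exact fun y hy => (hKmem y).1 (hPK hy) w hw'.1
      · rw [Subgroup.zpowers_le]; exact huout w hw'.1 hw'.2
    · obtain ⟨i, -, rfl⟩ := Finset.mem_image.1 hw
      exact hzfix i q hq
  have hQP : Q = P := by
    refine (CfsgLib.Solvable.eq_of_le_of_card_le le_sup_left ?_).symm
    obtain ⟨j, hj⟩ := IsPGroup.iff_card.1 hQp
    have h1 : p ^ j ∣ Nat.card K := hcardK ▸ hj ▸ Subgroup.card_dvd_of_le hQle
    rw [hj, hP, ← Nat.card_congr ((P₀ : Subgroup K).equivMapOfInjective _ K.subtype_injective).toEquiv,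
      Sylow.card_eq_multiplicity]
    exact Nat.pow_le_pow_right hp.pos ((hp.pow_dvd_iff_le_factorization Nat.card_pos.ne').1 h1)
  refine hmove ((hKmem u).1 (hPK ?_) _ (hCΓ c₁.2))
  rw [← hQP]
  exact Subgroup.mem_sup_right (Subgroup.mem_zpowers u)


end Cfsg.Agent.S0706
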