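import Cfsg.Statements.S0707
import Cfsg.Agent.Perm.Basic
import Mathlib.GroupTheory.SpecificGroups.Cyclic
-- import your own Cfsg.Agent.* helpers here

set_option autoImplicit false
open Cfsg

namespace Cfsg.Agent.S0707

/-- In a primitive permutation group, distinct points have distinct stabilisers unless the group is regular of prime degree. -/
theorem result {α : Type*} (G : Subgroup (Equiv.Perm α)) [MulAction.IsPreprimitive G α] (h : ¬ (Nat.card α).Prime ∨ ∃ a : α, MulAction.stabilizer G a ≠ ⊥) {a b : α} (hab : a ≠ b) : MulAction.stabilizer G a ≠ MulAction.stabilizer G b := by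
  open CfsgLib.PermBasic MulAction in
  intro heq
  have : Nontrivial α := ⟨a, b, hab⟩
  have : IsPretransitive G α := (inferInstance : IsPreprimitive G α).toIsPretransitive
  have hco : IsCoatom (stabilizer G a) := (isCoatom_stabilizer_iff_preprimitive G a).mpr inferInstance
  obtain ⟨g, hg⟩ := exists_smul_eq G a b
  have hn : g ∈ Subgroup.normalizer (stabilizer G a : Set G) := by
    refine Subgroup.mem_normalizer_iff.mpr fun h => ?_
    conv_rhs => rw [heq, ← hg]
    rw [stabilizer_smul_mem_iff]
    simp [mul_assoc]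
  have hgS : g ∉ stabilizer G a := fun h => hab ((mem_stabilizer_iff.mp h).symm.trans hg)
  have htop : Subgroup.normalizer (stabilizer G a : Set G) = ⊤ :=
    hco.2 _ (lt_of_le_of_ne Subgroup.le_normalizer fun h => hgS (h ▸ hn))
  have hall : ∀ x : α, stabilizer G x = stabilizer G a := by
    intro x
    obtain ⟨k, rfl⟩ := exists_smul_eq G a x
    ext h
    rw [stabilizer_smul_mem_iff]
    have hk : k ∈ Subgroup.normalizer (stabilizer G a : Set G) := htop ▸ Subgroup.mem_top k
    have := Subgroup.mem_normalizer_iff.mp hk (k⁻¹ * h * k)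
    simpa [mul_assoc] using this
  have hbot : stabilizer G a = ⊥ := by
    rw [eq_bot_iff]
    intro h hh
    rw [Subgroup.mem_bot]
    apply eq_of_smul_eq_smul (α := α)
    intro x
    rw [one_smul, ← mem_stabilizer_iff, hall x]
    exact hh
  rcases h with h | ⟨c, hc⟩
  swap
  · exact hc (by rw [hall c, hbot])
  apply h
  rw [hbot] at hco
  have : Nontrivial G := ⟨g, 1, fun h1 => hab (by rw [← hg, h1, one_smul])⟩
  have hcyc : ∀ x : G, x ≠ 1 → Subgroup.zpowers x = ⊤ := fun x hx =>
    hco.2 _ (bot_lt_iff_ne_bot.mpr (mt Subgroup.zpowers_eq_bot.mp hx))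
  have : IsCyclic G := by
    obtain ⟨x, hx⟩ := exists_ne (1 : G)
    exact ⟨⟨x, fun y => (show y ∈ Subgroup.zpowers x from (hcyc x hx).symm ▸ Subgroup.mem_top y)⟩⟩
  letI : CommGroup G := IsCyclic.commGroup
  have : IsSimpleGroup G := ⟨fun H _ => (eq_or_ne H ⊥).imp_right fun hH =>
    hco.2 H (bot_lt_iff_ne_bot.mpr hH)⟩
  have hp : (Nat.card G).Prime := IsSimpleGroup.prime_card
  have hcard : Nat.card G = Nat.card α := by
    refine Nat.card_congr (Equiv.ofBijective (fun t : G => t • a) ⟨?_, ?_⟩)
    · intro s t h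
      have : t⁻¹ * s ∈ stabilizer G a := by
        rw [mem_stabilizer_iff, mul_smul]
        exact inv_smul_eq_iff.mpr h
      rw [hbot, Subgroup.mem_bot, inv_mul_eq_one] at this
      exact this.symm
    · exact fun x => exists_smul_eq G a x
  exact hcard ▸ hp


end Cfsg.Agent.S0707
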