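import Cfsg.Statements.S0709
import Mathlib
import Cfsg.Agent.Perm.WittExtension
-- import your own Cfsg.Agent.* helpers here

set_option autoImplicit false
open Cfsg
open scoped commutatorElement Pointwise

namespace Cfsg.Agent.S0709

/-- Witt's Lemma for constructing transitive extensions. Points `q 1, …, q t` (`t ≥ 2`) of a finite set are given; `G` fixes `q i` for `i ≥ 3` and is doubly transitive on the remaining points; `s 1 ∈ G` swaps `q 1, q 2`; for `2 ≤ i ≤ t-1`, `s i` swaps `q i, q (i+1)` and fixes the other `q j`; with `H` the stabiliser of `q 1, q 2` in `G`: `s i ^ 2 ∈ H`, `(s i * s (i+1)) ^ 3 ∈ H`, `(s i * s j) ^ 2 ∈ H` for `j ≥ i + 2`, and `s i` (`i ≥ 2`) normalises the stabiliser of `q 2` in `G`. Then `G` and the `s i` generate a `t`-transitive group whose pointwise stabiliser of the `q`'s is `H`. -/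
theorem result {α : Type*} [Fintype α] [DecidableEq α] (t : ℕ) (ht : 2 ≤ t) (q : ℕ → α) (hq : ∀ i j : ℕ, 1 ≤ i → i ≤ t → 1 ≤ j → j ≤ t → q i = q j → i = j) (G : Subgroup (Equiv.Perm α)) (hfix : ∀ g ∈ G, ∀ i : ℕ, 3 ≤ i → i ≤ t → g (q i) = q i) (h2 : ∀ a b c d : α, (∀ i, 3 ≤ i → i ≤ t → a ≠ q i ∧ b ≠ q i ∧ c ≠ q i ∧ d ≠ q i) → a ≠ b → c ≠ d → ∃ g ∈ G, g a = c ∧ g b = d) (s : ℕ → Equiv.Perm α) (hs1 : s 1 ∈ G) (hs1q : s 1 (q 1) = q 2 ∧ s 1 (q 2) = q 1) (hsq : ∀ i : ℕ, 2 ≤ i → i + 1 ≤ t → s i (q i) = q (i + 1) ∧ s i (q (i + 1)) = q i ∧ ∀ j : ℕ, 1 ≤ j → j ≤ t → j ≠ i → j ≠ i + 1 → s i (q j) = q j) (H : Subgroup (Equiv.Perm α)) (hH : H = G ⊓ MulAction.stabilizer (Equiv.Perm α) (q 1) ⊓ MulAction.stabilizer (Equiv.Perm α) (q 2)) (hsq2 : ∀ i : ℕ, 1 ≤ i → i + 1 ≤ t → s i ^ 2 ∈ H) (hbraid : ∀ i : ℕ, 1 ≤ i → i + 2 ≤ t → (s i * s (i + 1)) ^ 3 ∈ H) (hcomm : ∀ i j :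 ℕ, 1 ≤ i → i + 2 ≤ j → j + 1 ≤ t → (s i * s j) ^ 2 ∈ H ∧ (s j * s i) ^ 2 ∈ H) (hnorm : ∀ i : ℕ, 2 ≤ i → i + 1 ≤ t → ∀ g ∈ G ⊓ MulAction.stabilizer (Equiv.Perm α) (q 2), s i * g * (s i)⁻¹ ∈ G ⊓ MulAction.stabilizer (Equiv.Perm α) (q 2)) : MulAction.IsMultiplyPretransitive ↥(Subgroup.closure ((G : Set (Equiv.Perm α)) ∪ {x | ∃ i : ℕ, 2 ≤ i ∧ i + 1 ≤ t ∧ x = s i})) α t ∧ Subgroup.closure ((G : Set (Equiv.Perm α)) ∪ {x | ∃ i : ℕ, 2 ≤ i ∧ i + 1 ≤ t ∧ x = s i}) ⊓ fixingSubgroup (Equiv.Perm α) {x | ∃ i : ℕ, 1 ≤ i ∧ i ≤ t ∧ x = q i} = H := by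
  subst hH
  have h := CfsgLib.WittExtension.main t ht q hq G hfix h2 s hs1 hs1q hsq hsq2 hbraid
    (fun i j a b c => (hcomm i j a b c).2) hnorm
  obtain ⟨htr, hst⟩ := h
  constructor
  · refine ⟨fun x y => ?_⟩
    have ext : ∀ x : Fin t ↪ α, ∃ k : ↥(Subgroup.closure ((G : Set (Equiv.Perm α)) ∪
        {x | ∃ i : ℕ, 2 ≤ i ∧ i + 1 ≤ t ∧ x = s i})), ∀ i : Fin t, k • x i = q (i + 1) := by
      intro x
      obtain ⟨k, hk, hkx⟩ := htr (fun i => x ⟨(i - 1) % t, Nat.mod_lt _ (by omega)⟩)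
        (fun i j a b c d e => by
          have := congrArg Fin.val (x.injective e)
          simp only [Nat.mod_eq_of_lt (show i - 1 < t by omega),
            Nat.mod_eq_of_lt (show j - 1 < t by omega)] at this
          omega)
      refine ⟨⟨k, hk⟩, fun i => ?_⟩
      have := hkx ((i : ℕ) + 1) (by omega) (by omega)
      simp only [Nat.add_sub_cancel, Nat.mod_eq_of_lt i.2, Fin.eta] at this
      exact this
    obtain ⟨k₁, h₁⟩ := ext x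
    obtain ⟨k₂, h₂⟩ := ext y
    refine ⟨k₂⁻¹ * k₁, Function.Embedding.ext fun i => ?_⟩
    rw [Function.Embedding.smul_apply, mul_smul, h₁, inv_smul_eq_iff, h₂]
  · ext k
    rw [← hst k, Subgroup.mem_inf, mem_fixingSubgroup_iff]
    refine and_congr Iff.rfl ⟨fun h i a b => h _ ⟨i, a, b, rfl⟩, ?_⟩
    rintro h _ ⟨i, a, b, rfl⟩
    exact h i a b


end Cfsg.Agent.S0709
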