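import Cfsg.Statements.S0710
import Cfsg.Agent.Perm.Basic
import Mathlib
-- import your own Cfsg.Agent.* helpers here

set_option autoImplicit false
open Cfsg

namespace Cfsg.Agent.S0710

/-- No transitive permutation group on 13 points has order `13 * 12 * 11 * 10 * 9 * 8`. -/
theorem result {α : Type*} [Fintype α] [DecidableEq α] (hα : Fintype.card α = 13) (G : Subgroup (Equiv.Perm α)) [MulAction.IsPretransitive G α] : Nat.card G ≠ 13 * 12 * 11 * 10 * 9 * 8 := by
  open CfsgLib.PermBasic MulAction in
  intro hcard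
  have : Fact (Nat.Prime 13) := ⟨by norm_num⟩
  have hα' : Nat.card α = 13 := by rw [Nat.card_eq_fintype_card, hα]
  obtain ⟨P⟩ : Nonempty (Sylow 13 G) := inferInstance
  have hP : Nat.card (P : Subgroup G) = 13 := by
    rw [P.card_eq_multiplicity, hcard]
    have : (13 * 12 * 11 * 10 * 9 * 8 : ℕ).factorization 13 = 1 := by
      rw [show (13 * 12 * 11 * 10 * 9 * 8 : ℕ) = 13 * 95040 by norm_num,
        Nat.factorization_mul (by norm_num) (by norm_num), Finsupp.add_apply,
        Nat.Prime.factorization_self (by norm_num), Nat.factorization_eq_zero_of_not_dvd (by norm_num)]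
    rw [this, pow_one]
  have : IsPretransitive (P : Subgroup G) α := by
    have : Nontrivial (P : Subgroup G) := Finite.one_lt_card_iff_nontrivial.mp (by omega)
    obtain ⟨⟨g, hgP⟩, hg⟩ := exists_ne (1 : (P : Subgroup G))
    have hg1 : ((g : Equiv.Perm α)) ≠ 1 := fun h => hg (Subtype.ext (Subtype.ext h))
    obtain ⟨x, hx⟩ : ∃ x, (g : Equiv.Perm α) x ≠ x := by
      by_contra! h
      exact hg1 (Equiv.ext h)
    have hdvd : Nat.card (orbit (P : Subgroup G) x) ∣ 13 := by
      rw [Nat.card_coe_set_eq, ← index_stabilizer]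
      exact (Subgroup.index_dvd_card _).trans hP.dvd
    have hgt : 1 < Nat.card (orbit (P : Subgroup G) x) := by
      rw [Finite.one_lt_card_iff_nontrivial]
      exact ⟨⟨⟨x, mem_orbit_self x⟩, ⟨(g : Equiv.Perm α) x, ⟨⟨g, hgP⟩, rfl⟩⟩, fun h => hx (congrArg Subtype.val h).symm⟩⟩
    rcases (Nat.dvd_prime (by norm_num)).mp hdvd with h | h
    · omega
    have huniv : orbit (P : Subgroup G) x = Set.univ :=
      Set.eq_of_subset_of_ncard_le (Set.subset_univ _) (by rw [Set.ncard_univ, hα', ← Nat.card_coe_set_eq, h])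
    exact ⟨fun u v => by
      obtain ⟨s, hs⟩ : u ∈ orbit (P : Subgroup G) x := huniv ▸ Set.mem_univ u
      obtain ⟨t, ht⟩ : v ∈ orbit (P : Subgroup G) x := huniv ▸ Set.mem_univ v
      exact ⟨t * s⁻¹, by rw [← hs, ← ht]; simp [mul_smul]⟩⟩
  obtain ⟨a⟩ : Nonempty α := Fintype.card_pos_iff.mp (by omega)
  have hCcard : Nat.card (Subgroup.centralizer ((P : Subgroup G) : Set G)) = 13 := by
    have hPc : IsCyclic (P : Subgroup G) := isCyclic_of_prime_card hP
    have hle : (P : Subgroup G) ≤ Subgroup.centralizer ((P : Subgroup G) : Set G) :=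
      Subgroup.le_centralizer _
    rw [eq_of_semiregular_of_transitive_le hle a (semiregular_of_le_centralizer _ _ le_rfl a), hP]
  set N := Subgroup.normalizer ((P : Subgroup G) : Set G)
  have hNdvd : Nat.card N ∣ 13 * 12 := by
    let φ : N →* MulAut (P : Subgroup G) := Subgroup.normalizerMonoidHom (P : Subgroup G)
    have hker : Nat.card φ.ker ∣ 13 := by
      refine (?_ : _ ∣ _).trans hCcard.dvd
      refine Subgroup.card_dvd_of_injective (((N.subtype).comp φ.ker.subtype).codRestrict _ ?_) ?_
      · intro n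
        refine Subgroup.mem_centralizer_iff.mpr fun h hh => ?_
        have := congrArg Subtype.val (DFunLike.congr_fun (show φ n.1 = 1 from n.2) ⟨h, hh⟩)
        change ((n.1 : N) : G) * h * ((n.1 : N) : G)⁻¹ = h at this
        exact (mul_inv_eq_iff_eq_mul.mp this).symm
      · intro x y h
        have h' : ((x.1 : N) : G) = ((y.1 : N) : G) := congrArg (fun z : Subgroup.centralizer ((P : Subgroup G) : Set G) => (z : G)) h
        exact Subtype.ext (Subtype.ext h')
    have hPc : IsCyclic (P : Subgroup G) := isCyclic_of_prime_card hP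
    have haut : Nat.card (MulAut (P : Subgroup G)) = 12 := by
      rw [IsCyclic.card_mulAut, hP, Nat.totient_prime (by norm_num)]
    rw [← Subgroup.card_mul_index φ.ker, Subgroup.index_ker]
    exact Nat.mul_dvd_mul hker (haut ▸ Subgroup.card_subgroup_dvd_card _)
  have hPN : 13 ∣ Nat.card N := hP ▸ Subgroup.card_dvd_of_le Subgroup.le_normalizer
  obtain ⟨t, ht⟩ := hPN
  rw [ht] at hNdvd
  have ht12 : t ∣ 12 := Nat.dvd_of_mul_dvd_mul_left (by norm_num) hNdvd
  have hidx : N.index % 13 = 1 := by
    rw [show N.index = Nat.card (Sylow 13 G) from (P.card_eq_index_normalizer).symm]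
    exact card_sylow_modEq_one 13 G
  have := N.card_mul_index
  rw [hcard, ht] at this
  have ht' : t ≤ 12 := Nat.le_of_dvd (by norm_num) ht12
  interval_cases t <;> omega


end Cfsg.Agent.S0710
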