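import Cfsg.Statements.S0711
import Mathlib
-- import your own Cfsg.Agent.* helpers here

set_option autoImplicit false
open Cfsg
open scoped commutatorElement Pointwise

namespace Cfsg.Agent.S0711

/-- A `k`-transitive permutation group (`k ≥ 3`) with a non-identity element of support smaller than `2k - 2` contains a non-identity element of support at most 3, and therefore contains the alternating group. -/
theorem result {α : Type*} [Fintype α] [DecidableEq α] (G : Subgroup (Equiv.Perm α)) {k : ℕ} (hk : 3 ≤ k) (hkn : k ≤ Fintype.card α) (hG : MulAction.IsMultiplyPretransitive G α k) (g : Equiv.Perm α) (hg : g ∈ G) (hg1 : g ≠ 1) (hsupp : g.support.card < 2 * k - 2) : (∃ h : Equiv.Perm α, h ∈ G ∧ h ≠ 1 ∧ h.support.card ≤ 3) ∧ alternatingGroup α ≤ G := by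
  classical
  haveI h2 : MulAction.IsMultiplyPretransitive G α 2 :=
    MulAction.isMultiplyPretransitive_of_le (α := α) (m := 2) (n := k) (by omega)
      (by rw [Nat.card_eq_fintype_card]; omega)
  have hprim : MulAction.IsPreprimitive G α := MulAction.isPreprimitive_of_is_two_pretransitive h2
  suffices H : ∃ h : Equiv.Perm α, h ∈ G ∧ h ≠ 1 ∧ h.support.card ≤ 3 by
    refine ⟨H, ?_⟩
    obtain ⟨h, hhG, hh1, hh3⟩ := H
    have h0 : h.support.card ≠ 0 := fun e => hh1 (Equiv.Perm.support_eq_empty_iff.1 (Finset.card_eq_zero.1 e))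
    have h1 := Equiv.Perm.card_support_ne_one h
    rcases (show h.support.card = 2 ∨ h.support.card = 3 by omega) with e | e
    · rw [Equiv.Perm.subgroup_eq_top_of_isPreprimitive_of_isSwap_mem hprim h (Equiv.Perm.card_support_eq_two.1 e) hhG]
      exact le_top
    · exact Equiv.Perm.alternatingGroup_le_of_isPreprimitive_of_isThreeCycle_mem hprim
        (card_support_eq_three_iff.1 e) hhG
  obtain ⟨g₀, hg₀, hmin⟩ := Finset.exists_min_image
    (Finset.univ.filter fun h : Equiv.Perm α => h ∈ G ∧ h ≠ 1) (fun h => h.support.card)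
    ⟨g, by simp [hg, hg1]⟩
  obtain ⟨-, hg₀G, hg₀1⟩ := Finset.mem_filter.1 hg₀
  refine ⟨g₀, hg₀G, hg₀1, ?_⟩
  by_contra h4
  push Not at h4
  let M := g₀.support
  let m := M.card
  have hmd : g₀.support.card = m := rfl
  have hMd : M.card = m := rfl
  have hm : m < 2 * k - 2 := lt_of_le_of_lt (hmin g (by simp [hg, hg1])) hsupp
  -- a point outside the support
  have hn : m < Fintype.card α := by
    by_contra hn
    obtain ⟨a, b, c, d, hab, hac, had, hbc, hbd, hcd⟩ : ∃ a b c d : α,
        a ≠ b ∧ a ≠ c ∧ a ≠ d ∧ b ≠ c ∧ b ≠ d ∧ c ≠ d := by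
      obtain ⟨e⟩ := Function.Embedding.nonempty_of_card_le (α := Fin 4) (β := α)
        (by rw [Fintype.card_fin]; exact le_trans (by omega) (Finset.card_le_univ g₀.support))
      exact ⟨e 0, e 1, e 2, e 3, by simp, by simp, by simp, by simp, by simp, by simp⟩
    haveI h3 : MulAction.IsMultiplyPretransitive G α 3 :=
      MulAction.isMultiplyPretransitive_of_le (α := α) (m := 3) (n := k) hk
        (by rw [Nat.card_eq_fintype_card]; omega)
    let u : Fin 3 ↪ α := ⟨![a, b, c], by
      intro i j hij
      fin_cases i <;> fin_cases j <;>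
        simp_all [hab.symm, hac.symm, hbc.symm, had.symm, hbd.symm]⟩
    let v : Fin 3 ↪ α := ⟨![a, b, d], by
      intro i j hij
      fin_cases i <;> fin_cases j <;>
        simp_all [hab.symm, hac.symm, hbc.symm, had.symm, hbd.symm]⟩
    obtain ⟨x, hx⟩ := MulAction.exists_smul_eq G u v
    have hxa : (x : Equiv.Perm α) a = a := congrArg (fun e : Fin 3 ↪ α => e 0) hx
    have hxc : (x : Equiv.Perm α) c = d := congrArg (fun e : Fin 3 ↪ α => e 2) hx
    have hle := hmin x (Finset.mem_filter.2 ⟨Finset.mem_univ _, x.2, fun e => hcd (by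
      rw [← hxc, e]; rfl)⟩)
    have : (x : Equiv.Perm α).support.card < Fintype.card α :=
      Finset.card_lt_univ_of_notMem (fun h => Equiv.Perm.mem_support.1 h hxa)
    exact hn (lt_of_le_of_lt hle this)
  let s := min (k - 1) (m - 1)
  -- a set of `s` moved points from which the permutation escapes at most once
  have hM : ∀ x, x ∈ M ↔ g₀ x ≠ x := fun x => Equiv.Perm.mem_support
  have hgM : ∀ x ∈ M, g₀ x ∈ M := fun x hx => Equiv.Perm.apply_mem_support.2 hx
  have hbuild : ∀ t ≤ s, ∃ S ⊆ M, S.card = t ∧ (S.filter fun u => g₀ u ∉ S).card ≤ 1 := by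
    intro t
    induction t with
    | zero => exact fun _ => ⟨∅, Finset.empty_subset _, rfl, by simp⟩
    | succ t ih =>
      intro ht
      obtain ⟨S, hSM, hSt, hS1⟩ := ih (by omega)
      rcases Nat.eq_zero_or_pos (S.filter fun u => g₀ u ∉ S).card with h0 | hpos
      · obtain ⟨z, hzM, hzS⟩ := Finset.exists_mem_notMem_of_card_lt_card (s := S) (t := M) (by omega)
        refine ⟨insert z S, Finset.insert_subset hzM hSM, by rw [Finset.card_insert_of_notMem hzS, hSt],
          Finset.card_le_one.2 fun a ha b hb => ?_⟩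
        simp only [Finset.mem_filter, Finset.mem_insert, not_or] at ha hb
        rw [Finset.card_eq_zero, Finset.filter_eq_empty_iff] at h0
        rcases ha.1 with rfl | ha' <;> rcases hb.1 with rfl | hb'
        · rfl
        · exact absurd hb.2.2 (h0 hb')
        · exact absurd ha.2.2 (h0 ha')
        · exact absurd ha.2.2 (h0 ha')
      · obtain ⟨y, hy⟩ := Finset.card_eq_one.1 (le_antisymm hS1 hpos)
        have hy' : y ∈ S ∧ g₀ y ∉ S := Finset.mem_filter.1 (hy ▸ Finset.mem_singleton_self y)
        refine ⟨insert (g₀ y) S, Finset.insert_subset (hgM _ (hSM hy'.1)) hSM,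
          by rw [Finset.card_insert_of_notMem hy'.2, hSt], Finset.card_le_one.2 fun a ha b hb => ?_⟩
        simp only [Finset.mem_filter, Finset.mem_insert, not_or] at ha hb
        have key : ∀ u, u ∈ S → g₀ u ∉ S → u = y := fun u h1 h2 =>
          Finset.mem_singleton.1 (hy ▸ Finset.mem_filter.2 ⟨h1, h2⟩)
        rcases ha.1 with rfl | ha' <;> rcases hb.1 with rfl | hb'
        · rfl
        · exact absurd (by rw [key b hb' hb.2.2]) hb.2.1
        · exact absurd (by rw [key a ha' ha.2.2]) ha.2.1
        · exact (key a ha' ha.2.2).trans (key b hb' hb.2.2).symm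
  obtain ⟨S, hSM, hSs, hS1⟩ := hbuild s le_rfl
  -- the element fixing `S` and moving `z` to `w`
  have hmove : ∀ z w : α, z ∉ S → w ∉ S → ∃ x ∈ G, (∀ u ∈ S, x u = u) ∧ x z = w := by
    intro z w hz hw
    haveI hs1 : MulAction.IsMultiplyPretransitive G α (s + 1) :=
      MulAction.isMultiplyPretransitive_of_le (α := α) (m := s + 1) (n := k) (by omega)
        (by rw [Nat.card_eq_fintype_card]; omega)
    let c := S.equivFinOfCardEq hSs
    let e₀ : Fin s ↪ α := c.symm.toEmbedding.trans (Function.Embedding.subtype _)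
    have hr : ∀ q, q ∉ S → q ∉ Set.range e₀ := by
      rintro q hq ⟨i, rfl⟩
      exact hq (c.symm i).2
    obtain ⟨x, hx⟩ := MulAction.exists_smul_eq G (Fin.Embedding.snoc e₀ (hr z hz))
      (Fin.Embedding.snoc e₀ (hr w hw))
    refine ⟨x, x.2, fun u hu => ?_, ?_⟩
    · have := congrArg (fun e : Fin (s + 1) ↪ α => e (Fin.castSucc (c ⟨u, hu⟩))) hx
      simpa [e₀, Fin.Embedding.coe_snoc, Function.Embedding.smul_apply, Subgroup.smul_def] using this
    · have := congrArg (fun e : Fin (s + 1) ↪ α => e (Fin.last s)) hx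
      simpa [Fin.Embedding.coe_snoc, Function.Embedding.smul_apply, Subgroup.smul_def] using this
  -- bound on the product with the conjugate
  have hbound : ∀ z w : α, z ∈ M → z ∉ S → ∀ x ∈ G, (∀ u ∈ S, x u = u) → x z = w →
      x * g₀ * x⁻¹ ≠ g₀ →
      m + (S.filter fun u => g₀ u ∈ S).card ≤ (insert w M).card + (m - s - 1) := by
    intro z w hzM hzS x hxG hxS hxz hne
    let h := g₀⁻¹ * (x * g₀ * x⁻¹)
    have hhG : h ∈ G := G.mul_mem (G.inv_mem hg₀G) (G.mul_mem (G.mul_mem hxG hg₀G) (G.inv_mem hxG))
    have hh1 : h ≠ 1 := fun e => hne ((inv_mul_eq_one.1 e).symm)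
    have hle : m ≤ h.support.card := hmin h (Finset.mem_filter.2 ⟨Finset.mem_univ _, hhG, hh1⟩)
    let A := S.filter fun u => g₀ u ∈ S
    have hsub : h.support ⊆ (insert w M ∪ ((M \ insert z S).image x)) \ A := by
      intro q hq
      rw [Equiv.Perm.mem_support] at hq
      refine Finset.mem_sdiff.2 ⟨?_, fun hqA => hq ?_⟩
      · by_contra hout
        simp only [Finset.mem_union, Finset.mem_insert, not_or] at hout
        apply hq
        have hfix : g₀ q = q := by
          by_contra h'
          exact hout.1.2 ((hM q).2 h')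
        have hfix' : g₀ (x⁻¹ q) = x⁻¹ q := by
          by_contra h'
          have hmem := (hM _).2 h'
          have hxq : x (x⁻¹ q) = q := Equiv.apply_symm_apply x q
          by_cases hqS : x⁻¹ q ∈ S
          · exact hout.1.2 (by rw [← hxq, hxS _ hqS]; exact hmem)
          by_cases hqz : x⁻¹ q = z
          · exact hout.1.1 (by rw [← hxq, hqz, hxz])
          exact hout.2 (Finset.mem_image.2 ⟨x⁻¹ q,
            Finset.mem_sdiff.2 ⟨hmem, fun h1 => (Finset.mem_insert.1 h1).elim hqz hqS⟩, hxq⟩)
        show g₀⁻¹ (x (g₀ (x⁻¹ q))) = q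
        rw [hfix', Equiv.Perm.inv_eq_iff_eq, hfix]
        exact Equiv.apply_symm_apply x q
      · simp only [A, Finset.mem_filter] at hqA
        show g₀⁻¹ (x (g₀ (x⁻¹ q))) = q
        rw [show x⁻¹ q = q by rw [Equiv.Perm.inv_eq_iff_eq, hxS q hqA.1], hxS _ hqA.2,
          Equiv.Perm.inv_eq_iff_eq]
    have hA : A ⊆ insert w M ∪ ((M \ insert z S).image x) := fun q hq =>
      Finset.mem_union_left _ (Finset.mem_insert_of_mem (hSM (Finset.mem_filter.1 hq).1))
    have h1 := Finset.card_le_card hsub
    rw [Finset.card_sdiff_of_subset hA] at h1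
    have h2 := Finset.card_union_le (insert w M) ((M \ insert z S).image x)
    have h3 : ((M \ insert z S).image x).card ≤ m - s - 1 := by
      refine Finset.card_image_le.trans (le_of_eq ?_)
      rw [Finset.card_sdiff_of_subset (Finset.insert_subset hzM hSM), Finset.card_insert_of_notMem hzS, hSs]
      omega
    have h4 := Finset.card_le_card hA
    show m + A.card ≤ _
    omega
  have hsplit := Finset.card_filter_add_card_filter_not (s := S) fun u => g₀ u ∈ S
  rcases Nat.eq_zero_or_pos (S.filter fun u => g₀ u ∉ S).card with h0 | hpos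
  · -- closed
    obtain ⟨z, hzM, hzS⟩ := Finset.exists_mem_notMem_of_card_lt_card (s := S) (t := M) (by omega)
    obtain ⟨w, -, hwM⟩ := Finset.exists_mem_notMem_of_card_lt_card (s := M) (t := Finset.univ) hn
    obtain ⟨x, hxG, hxS, hxz⟩ := hmove z w hzS (fun h => hwM (hSM h))
    have := hbound z w hzM hzS x hxG hxS hxz (fun e => by
      have hgw : g₀ w = w := by
        by_contra h'
        exact hwM ((hM w).2 h')
      have e' := congrArg (fun p : Equiv.Perm α => p w) e
      simp only [Equiv.Perm.mul_apply, hgw] at e'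
      rw [show x⁻¹ w = z by rw [Equiv.Perm.inv_eq_iff_eq, hxz], ← hxz] at e'
      exact (hM z).1 hzM (x.injective e'))
    rw [Finset.card_insert_of_notMem hwM] at this
    omega
  · obtain ⟨y, hy⟩ := Finset.card_eq_one.1 (le_antisymm hS1 hpos)
    have hy' : y ∈ S ∧ g₀ y ∉ S := Finset.mem_filter.1 (hy ▸ Finset.mem_singleton_self y)
    have hzM : g₀ y ∈ M := hgM _ (hSM hy'.1)
    have hmain : ∀ w, w ∉ S → w ≠ g₀ y →
        m + (s - 1) ≤ (insert w M).card + (m - s - 1) := by
      intro w hwS hwz
      obtain ⟨x, hxG, hxS, hxz⟩ := hmove (g₀ y) w hy'.2 hwS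
      have := hbound (g₀ y) w hzM hy'.2 x hxG hxS hxz (fun e => by
        have e' := congrArg (fun p : Equiv.Perm α => p y) e
        simp only [Equiv.Perm.mul_apply] at e'
        rw [show x⁻¹ y = y by rw [Equiv.Perm.inv_eq_iff_eq, hxS y hy'.1], hxz] at e'
        exact hwz e')
      omega
    by_cases hbig : s + 1 < m
    · obtain ⟨w, hwM, hw⟩ := Finset.exists_mem_notMem_of_card_lt_card (s := insert (g₀ y) S) (t := M)
        (by rw [Finset.card_insert_of_notMem hy'.2]; omega)
      simp only [Finset.mem_insert, not_or] at hw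
      have := hmain w hw.2 hw.1
      rw [Finset.insert_eq_of_mem hwM] at this
      omega
    · obtain ⟨w, -, hwM⟩ := Finset.exists_mem_notMem_of_card_lt_card (s := M) (t := Finset.univ) hn
      have := hmain w (fun h => hwM (hSM h)) (fun h => hwM (h ▸ hzM))
      rw [Finset.card_insert_of_notMem hwM] at this
      omega


end Cfsg.Agent.S0711
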