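import Cfsg.Statements.S0712
import Mathlib.GroupTheory.GroupAction.Jordan
import Mathlib
-- import your own Cfsg.Agent.* helpers here

set_option autoImplicit false
open Cfsg

namespace Cfsg.Agent.S0712

/-- Jordan: a primitive group in which the pointwise stabiliser of a set `s` is doubly transitive on the complement of `s` (which has at least 2 points) is `(|s| + 2)`-transitive. -/
theorem result {α : Type*} [Fintype α] [DecidableEq α] (G : Subgroup (Equiv.Perm α)) (hG : MulAction.IsPreprimitive G α) (s : Set α) {m : ℕ} (hsm : s.ncard = m) (hm : m + 2 ≤ Fintype.card α) (h2 : MulAction.IsMultiplyPretransitive (fixingSubgroup G s) (SubMulAction.ofFixingSubgroup G s) 2) : MulAction.IsMultiplyPretransitive G α (m + 2) := by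
  open MulAction in
  classical
  have hα : Nat.card α = Fintype.card α := Nat.card_eq_fintype_card
  rcases Nat.eq_zero_or_pos m with rfl | hmpos
  · have hs : s = ∅ := (Set.ncard_eq_zero (Set.toFinite s)).mp hsm
    subst hs
    rw [zero_add, is_two_pretransitive_iff]
    intro a b c d hab hcd
    have h2' := @(is_two_pretransitive_iff (G := fixingSubgroup G (∅ : Set α))
      (α := SubMulAction.ofFixingSubgroup G (∅ : Set α))).mp h2
    have hm' : ∀ z : α, z ∈ SubMulAction.ofFixingSubgroup G (∅ : Set α) := fun z => by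
      simp [SubMulAction.mem_ofFixingSubgroup_iff]
    obtain ⟨g, hga, hgb⟩ := @h2' ⟨a, hm' a⟩ ⟨b, hm' b⟩ ⟨c, hm' c⟩ ⟨d, hm' d⟩
      (by simpa using hab) (by simpa using hcd)
    exact ⟨g.1, congrArg Subtype.val hga, congrArg Subtype.val hgb⟩
  obtain ⟨n, rfl⟩ : ∃ n, m = n + 1 := ⟨m - 1, by omega⟩
  have hpp := hG.isMultiplyPreprimitive hsm (by omega)
    (isPreprimitive_of_is_two_pretransitive h2)
  have hm1 : IsMultiplyPretransitive G α (n + 2) := hpp.isMultiplyPretransitive
  have hm0 : IsMultiplyPretransitive G α (n + 1) :=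
    isMultiplyPretransitive_of_le (n := n + 2) (by omega) (by rw [hα]; omega)
  have : Finite s := Set.toFinite s
  obtain ⟨es⟩ : Nonempty (Fin (n + 1) ≃ s) := Finite.card_eq.mp (by rw [Nat.card_eq_fintype_card, Fintype.card_fin, Nat.card_coe_set_eq, hsm])
  let es' : Fin (n + 1) ↪ α := es.toEmbedding.trans (Function.Embedding.subtype _)
  let ι : Fin (n + 1) ↪ Fin (n + 1 + 2) := Fin.castAddEmb 2
  have hlast : ∀ (x : Fin (n + 1 + 2) ↪ α) (g : G), g • (ι.trans x) = es' →
      ∀ l : Fin 2, g • x (Fin.natAdd (n + 1) l) ∈ SubMulAction.ofFixingSubgroup G s := by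
    intro x g hg l hmem
    obtain ⟨i, hi⟩ := es.surjective ⟨_, hmem⟩
    have h1 : g • x (ι i) = (es i : α) := DFunLike.congr_fun hg i
    rw [hi] at h1
    have h2 := congrArg Fin.val (x.injective (smul_left_cancel g h1))
    simp only [ι, Fin.coe_castAddEmb, Fin.val_castAdd, Fin.val_natAdd] at h2
    omega
  refine ⟨fun x y => ?_⟩
  obtain ⟨g, hg⟩ := exists_smul_eq G (ι.trans x) es'
  obtain ⟨k, hk⟩ := exists_smul_eq G (ι.trans y) es'
  have h2' := @(is_two_pretransitive_iff (G := fixingSubgroup G s) (α := SubMulAction.ofFixingSubgroup G s)).mp h2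
  obtain ⟨t, ht1, ht2⟩ := @h2' ⟨_, hlast x g hg 0⟩ ⟨_, hlast x g hg 1⟩
        ⟨_, hlast y k hk 0⟩ ⟨_, hlast y k hk 1⟩
    (fun e => by simpa using congrArg Fin.val (x.injective (smul_left_cancel g (congrArg Subtype.val e))))
    (fun e => by simpa using congrArg Fin.val (y.injective (smul_left_cancel k (congrArg Subtype.val e))))
  refine ⟨k⁻¹ * t.1 * g, ?_⟩
  ext i
  rw [Function.Embedding.smul_apply]
  induction i using Fin.addCases with
  | left i =>
    have h1 : g • x (ι i) = (es i : α) := DFunLike.congr_fun hg i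
    have h2 : k • y (ι i) = (es i : α) := DFunLike.congr_fun hk i
    change (k⁻¹ * t.1 * g) • x (ι i) = y (ι i)
    rw [mul_smul, mul_smul, h1, (mem_fixingSubgroup_iff G).mp t.2 _ (es i).2, ← h2, inv_smul_smul]
  | right l =>
    rw [mul_smul, mul_smul, inv_smul_eq_iff]
    fin_cases l
    · exact congrArg Subtype.val ht1
    · exact congrArg Subtype.val ht2


end Cfsg.Agent.S0712
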