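import Cfsg.Statements.S0714
import Mathlib
-- import your own Cfsg.Agent.* helpers here

set_option autoImplicit false
open Cfsg
open scoped commutatorElement Pointwise

namespace Cfsg.Agent.S0714

/-- Over any field, the permutation module of the alternating group of degree at least 5 has exactly four invariant subspaces: zero, the constant functions, the functions with coordinate sum zero, and everything. -/
theorem result {α : Type*} [Fintype α] [DecidableEq α] (hα : 5 ≤ Fintype.card α) {K : Type*} [Field K] (W : Subrepresentation (Cfsg.permRep K (alternatingGroup α) α)) : W.toSubmodule = ⊥ ∨ W = Cfsg.permConstants K (alternatingGroup α) α ∨ W = Cfsg.permSumZero K (alternatingGroup α) α ∨ W.toSubmodule = ⊤ := by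
  classical
  let ρ := Cfsg.permRep K (alternatingGroup α) α
  have hρ : ∀ (g : alternatingGroup α) (v : α → K) (x : α), ρ g v x = v ((g : Equiv.Perm α)⁻¹ x) := fun g v x => rfl
  by_cases hconst : ∀ v ∈ W.toSubmodule, ∀ a b, v a = v b
  · have hle : W.toSubmodule ≤ (Cfsg.permConstants K (alternatingGroup α) α).toSubmodule := by
      intro v hv
      obtain ⟨a⟩ : Nonempty α := Fintype.card_pos_iff.1 (by omega)
      refine Submodule.mem_span_singleton.2 ⟨v a, funext fun x => ?_⟩
      simp [hconst v hv a x]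
    by_cases hb : W.toSubmodule = ⊥
    · exact Or.inl hb
    refine Or.inr (Or.inl (Subrepresentation.ext (le_antisymm hle fun v hv => ?_)))
    obtain ⟨w, hw, hw0⟩ := (Submodule.ne_bot_iff _).1 hb
    obtain ⟨c, rfl⟩ := Submodule.mem_span_singleton.1 (hle hw)
    obtain ⟨d, rfl⟩ := Submodule.mem_span_singleton.1 hv
    have hc : c ≠ 0 := fun h => hw0 (by rw [h, zero_smul])
    have := W.toSubmodule.smul_mem (d * c⁻¹) hw
    rwa [smul_smul, mul_assoc, inv_mul_cancel₀ hc, mul_one] at this
  push Not at hconst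
  obtain ⟨v, hv, a, b, hvab⟩ := hconst
  have hab : a ≠ b := fun h => hvab (h ▸ rfl)
  have hexists : ∀ s : Finset α, s.card ≤ 4 → ∃ c, c ∉ s := by
    intro s hs
    by_contra h
    push Not at h
    have := Finset.card_le_card (show Finset.univ ⊆ s from fun z _ => h z)
    rw [Finset.card_univ] at this
    omega
  obtain ⟨c, hc⟩ := hexists {a, b} (by have := Finset.card_le_two (a := a) (b := b); omega)
  simp only [Finset.mem_insert, Finset.mem_singleton, not_or] at hc
  obtain ⟨d, hd⟩ := hexists {a, b, c} (by have := Finset.card_le_three (a := a) (b := b) (c := c); omega)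
  simp only [Finset.mem_insert, Finset.mem_singleton, not_or] at hd
  obtain ⟨e, he⟩ := hexists {a, b, c, d} (Finset.card_le_four)
  simp only [Finset.mem_insert, Finset.mem_singleton, not_or] at he
  have mk3 : ∀ x y z : α, x ≠ y → x ≠ z → y ≠ z →
      ∃ g : alternatingGroup α, (g : Equiv.Perm α)⁻¹ x = z ∧ (g : Equiv.Perm α)⁻¹ y = x ∧
        (g : Equiv.Perm α)⁻¹ z = y ∧ ∀ u, u ≠ x → u ≠ y → u ≠ z → (g : Equiv.Perm α)⁻¹ u = u := by
    intro x y z hxy hxz hyz
    refine ⟨⟨(Equiv.swap x y * Equiv.swap x z)⁻¹, ?_⟩, ?_, ?_, ?_, fun u h1 h2 h3 => ?_⟩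
    · rw [Equiv.Perm.mem_alternatingGroup, map_inv, map_mul, Equiv.Perm.sign_swap hxz, Equiv.Perm.sign_swap hxy]
      rfl
    · rw [inv_inv, Equiv.Perm.mul_apply, Equiv.swap_apply_left, Equiv.swap_apply_of_ne_of_ne hxz.symm hyz.symm]
    · rw [inv_inv, Equiv.Perm.mul_apply, Equiv.swap_apply_of_ne_of_ne hxy.symm hyz, Equiv.swap_apply_right]
    · rw [inv_inv, Equiv.Perm.mul_apply, Equiv.swap_apply_right, Equiv.swap_apply_left]
    · rw [inv_inv, Equiv.Perm.mul_apply, Equiv.swap_apply_of_ne_of_ne h1 h3, Equiv.swap_apply_of_ne_of_ne h1 h2]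
  obtain ⟨g, hga, hgb, hgc, hgo⟩ := mk3 a b c hab (Ne.symm hc.1) (Ne.symm hc.2)
  have hw : ρ g v - v ∈ W.toSubmodule := W.toSubmodule.sub_mem (W.apply_mem_toSubmodule g hv) hv
  set w := ρ g v - v with hwdef
  have hwout : ∀ u, u ≠ a → u ≠ b → u ≠ c → w u = 0 := fun u h1 h2 h3 => by
    simp [hwdef, hρ, hgo u h1 h2 h3]
  have hwb : w b ≠ 0 := by simp [hwdef, hρ, hgb, sub_eq_zero, hvab]
  obtain ⟨h, hhb, hhd, hhe, hho⟩ := mk3 b d e (Ne.symm hd.2.1) (Ne.symm he.2.1) (Ne.symm he.2.2.2)
  have hz : ρ h w - w ∈ W.toSubmodule := W.toSubmodule.sub_mem (W.apply_mem_toSubmodule h hw) hw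
  have hd0 : w d = 0 := hwout d hd.1 hd.2.1 hd.2.2
  have he0 : w e = 0 := hwout e he.1 he.2.1 he.2.2.1
  have hdiff : ρ h w - w = w b • (Pi.single d (1 : K) - Pi.single b (1 : K) : α → K) := by
    funext u
    simp only [Pi.sub_apply, Pi.smul_apply, smul_eq_mul, hρ]
    by_cases h1 : u = b
    · subst h1; simp [hhb, he0, hd.2.1]
    by_cases h2 : u = d
    · subst h2; simp [hhd, hd0, hd.2.1]
    by_cases h3 : u = e
    · subst h3; simp [hhe, hd0, he0, he.2.1, he.2.2.2]
    simp [hho u h1 h2 h3, h1, h2]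
  have hbase : (Pi.single d (1 : K) - Pi.single b (1 : K) : α → K) ∈ W.toSubmodule := by
    have := W.toSubmodule.smul_mem (w b)⁻¹ hz
    rwa [hdiff, smul_smul, inv_mul_cancel₀ hwb, one_smul] at this
  haveI h2t : MulAction.IsMultiplyPretransitive (alternatingGroup α) α 2 := by
    haveI := alternatingGroup.isMultiplyPretransitive α
    exact MulAction.isMultiplyPretransitive_of_le (n := Nat.card α - 2) (by rw [Nat.card_eq_fintype_card]; omega)
      (Nat.sub_le _ _)
  have hall : ∀ x y : α, (Pi.single x (1 : K) - Pi.single y (1 : K) : α → K) ∈ W.toSubmodule := by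
    intro x y
    by_cases hxy : x = y
    · subst hxy; simp
    obtain ⟨g, hg1, hg2⟩ := MulAction.is_two_pretransitive_iff.1 h2t hd.2.1 hxy
    have hm := W.apply_mem_toSubmodule g hbase
    convert hm using 1
    funext u
    change _ = (Pi.single d (1 : K) - Pi.single b (1 : K) : α → K) (g⁻¹ • u)
    simp only [Pi.sub_apply, Pi.single_apply, inv_smul_eq_iff, hg1, hg2]
  have hle : (Cfsg.permSumZero K (alternatingGroup α) α).toSubmodule ≤ W.toSubmodule := by
    intro f hf
    have hf' : ∑ x, f x = 0 := hf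
    have e1 : f = ∑ x, f x • (Pi.single x (1 : K) - Pi.single a (1 : K) : α → K) := by
      funext u
      simp only [Finset.sum_apply, Pi.smul_apply, Pi.sub_apply, Pi.single_apply, smul_eq_mul, mul_sub]
      rw [Finset.sum_sub_distrib, ← Finset.sum_mul, hf', zero_mul, sub_zero]
      simp
    rw [e1]
    exact W.toSubmodule.sum_mem fun x _ => W.toSubmodule.smul_mem _ (hall x a)
  by_cases hsum : ∀ f ∈ W.toSubmodule, ∑ x, f x = 0
  · exact Or.inr (Or.inr (Or.inl (Subrepresentation.ext (le_antisymm (fun f hf => hsum f hf) hle))))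
  push Not at hsum
  obtain ⟨f, hf, hf0⟩ := hsum
  refine Or.inr (Or.inr (Or.inr (eq_top_iff.2 fun u _ => ?_)))
  set t := (∑ x, u x) * (∑ x, f x)⁻¹ with ht
  have h1 : u - t • f ∈ W.toSubmodule := hle (by
    change ∑ x, (u - t • f) x = 0
    simp only [Pi.sub_apply, Pi.smul_apply, smul_eq_mul, Finset.sum_sub_distrib, ← Finset.mul_sum]
    rw [ht, inv_mul_cancel_right₀ hf0, sub_self])
  simpa using W.toSubmodule.add_mem h1 (W.toSubmodule.smul_mem t hf)


end Cfsg.Agent.S0714
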