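import Cfsg.Statements.S0716
import Mathlib
import Cfsg.Agent.Perm.CentralizerRing
-- import your own Cfsg.Agent.* helpers here

set_option autoImplicit false
open Cfsg
open scoped commutatorElement Pointwise

namespace Cfsg.Agent.S0716

/-- (a) If all non-principal irreducible constituents of the permutation character of a transitive group have the same degree `f`, the character is multiplicity-free and all non-trivial subdegrees equal `f`. (b) A transitive group of rank at most 5 has multiplicity-free permutation character. -/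
theorem result {G : Type*} [Group G] [Fintype G] {Ω : Type*} [Fintype Ω] [MulAction G Ω] [MulAction.IsPretransitive G Ω] (a : Ω) : ((f : ℕ) → (∀ χ : G → ℂ, Cfsg.IsIrrCharacter G χ → χ ≠ (fun _ => 1) → Cfsg.classInner (fun g : G => (Nat.card (MulAction.fixedBy Ω g) : ℂ)) χ ≠ 0 → χ 1 = f) → (∀ χ : G → ℂ, Cfsg.IsIrrCharacter G χ → Cfsg.classInner (fun g : G => (Nat.card (MulAction.fixedBy Ω g) : ℂ)) χ = 0 ∨ Cfsg.classInner (fun g : G => (Nat.card (MulAction.fixedBy Ω g) : ℂ)) χ = 1) ∧ ∀ b : Ω, b ≠ a → Nat.card (MulAction.orbit (MulAction.stabilizer G a) b) = f) ∧ (Nat.card (MulAction.orbitRel.Quotient (MulAction.stabilizer G a) Ω) ≤ 5 → ∀ χ : G → ℂ, Cfsg.IsIrrCharacter G χ → Cfsg.classInner (fun g : G => (Nat.card (MulAction.fixedBy Ω g) : ℂ)) χ = 0 ∨ Cfsg.classInner (fun g : G => (Nat.card (MulAction.fixedBy Ω g) : ℂ)) χ = 1) := by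
  classical
  open CfsgLib.Char CfsgLib.CentralizerRing in
  exact (by
    haveI : Nonempty Ω := ⟨a⟩
    obtain ⟨m, hm, hpi, hsq⟩ := exists_mult_fun (G := G) (Ω := Ω)
    rw [← card_orbits_pairs a] at hsq
    let one : G → ℂ := fun _ => 1
    have hone : one ∈ irrFinset G := mem_irrFinset.2 isIrrCharacter_one
    have hm1 : m one = 1 := by
      have := hm one isIrrCharacter_one
      rw [classInner_pi_one_transitive] at this
      exact_mod_cast this.symm
    have key : ∀ f : ℕ, (∀ χ : G → ℂ, Cfsg.IsIrrCharacter G χ → χ ≠ (fun _ => 1) →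
        Cfsg.classInner (pi G Ω) χ ≠ 0 → χ 1 = f) →
        (∀ χ : G → ℂ, Cfsg.IsIrrCharacter G χ →
          Cfsg.classInner (pi G Ω) χ = 0 ∨ Cfsg.classInner (pi G Ω) χ = 1) ∧
        ∀ b : Ω, b ≠ a → Nat.card (MulAction.orbit (MulAction.stabilizer G a) b) = f := by
      intro f hf
      let M := ∑ χ ∈ (irrFinset G).erase one, m χ
      have hn : Fintype.card Ω = 1 + f * M := by
        have h1 := congrFun hpi 1
        simp only [Finset.sum_apply, Pi.smul_apply, smul_eq_mul] at h1
        rw [← Finset.add_sum_erase _ _ hone, hm1, Nat.cast_one, one_mul] at h1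
        have h2 : ∀ χ ∈ (irrFinset G).erase one, (m χ : ℂ) * χ 1 = ((f * m χ : ℕ) : ℂ) := by
          intro χ hχ
          obtain ⟨hne, hχ'⟩ := Finset.mem_erase.1 hχ
          rcases Nat.eq_zero_or_pos (m χ) with h0 | hpos
          · simp [h0]
          · rw [hf χ (mem_irrFinset.1 hχ') hne (by rw [hm χ (mem_irrFinset.1 hχ')]; exact_mod_cast hpos.ne')]
            push_cast; ring
        rw [Finset.sum_congr rfl h2, ← Nat.cast_sum, ← Finset.mul_sum] at h1
        have h3 : (Fintype.card Ω : ℂ) = ((1 + f * M : ℕ) : ℂ) := by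
          rw [Nat.cast_add, Nat.cast_one, ← show pi G Ω 1 = (Fintype.card Ω : ℂ) from ?_]
          · exact h1
          · rw [← character_permRep, Representation.char_one, Module.finrank_pi]
        exact_mod_cast h3
      let H := MulAction.stabilizer G a
      let sz : MulAction.orbitRel.Quotient H Ω → ℕ := fun q => Nat.card q.orbit
      have hsum : ∑ q, sz q = Fintype.card Ω := by
        rw [← Nat.card_eq_fintype_card (α := Ω),
          Nat.card_congr (MulAction.selfEquivSigmaOrbits' H Ω), Nat.card_sigma]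
      let q₀ : MulAction.orbitRel.Quotient H Ω := Quotient.mk'' a
      have hq₀ : sz q₀ = 1 := by
        show Nat.card q₀.orbit = 1
        rw [MulAction.orbitRel.Quotient.orbit_mk, Nat.card_eq_one_iff_unique]
        refine ⟨⟨fun x y => ?_⟩, ⟨⟨a, MulAction.mem_orbit_self a⟩⟩⟩
        obtain ⟨x, g, rfl⟩ := x
        obtain ⟨y, h, rfl⟩ := y
        exact Subtype.ext (g.2.trans h.2.symm)
      have horb : ∀ b : Ω, b ≠ a → f ∣ Nat.card (MulAction.orbit H b) ∧
          (Quotient.mk'' b : MulAction.orbitRel.Quotient H Ω) ≠ q₀ := fun b hb =>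
        ⟨dvd_subdegree f (fun χ h1 h2 h3 => ⟨1, by rw [hf χ h1 h2 h3, Nat.cast_one, mul_one]⟩) a b hb,
          fun e => by
            obtain ⟨g, hg⟩ := Quotient.exact' e
            exact hb (hg.symm.trans g.2)⟩
      have hge : ∀ q ∈ Finset.univ.erase q₀, f ≤ sz q := by
        intro q hq
        induction q using Quotient.inductionOn' with
        | h b =>
          have hb : b ≠ a := fun e => (Finset.mem_erase.1 hq).1 (by rw [e])
          show f ≤ Nat.card (MulAction.orbitRel.Quotient.orbit (Quotient.mk'' b : MulAction.orbitRel.Quotient H Ω))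
          rw [MulAction.orbitRel.Quotient.orbit_mk]
          refine Nat.le_of_dvd ?_ (horb b hb).1
          exact Nat.card_pos_iff.2 ⟨⟨⟨b, MulAction.mem_orbit_self b⟩⟩, inferInstance⟩
      have hrest : ∑ q ∈ Finset.univ.erase q₀, sz q = f * M := by
        have := Finset.add_sum_erase Finset.univ sz (Finset.mem_univ q₀)
        rw [hsum, hn, hq₀] at this
        omega
      have hcardM : (Finset.univ.erase q₀).card = ∑ χ ∈ (irrFinset G).erase one, m χ ^ 2 := by
        rw [Nat.card_eq_fintype_card, ← Finset.add_sum_erase _ _ hone, hm1] at hsq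
        rw [Finset.card_erase_of_mem (Finset.mem_univ q₀), Finset.card_univ]
        have hH : Fintype.card (MulAction.orbitRel.Quotient H Ω) =
            Fintype.card (MulAction.orbitRel.Quotient (MulAction.stabilizer G a) Ω) :=
          Fintype.card_congr (Equiv.refl _)
        omega
      have hMle : M ≤ (Finset.univ.erase q₀).card := by
        rw [hcardM]
        exact Finset.sum_le_sum fun χ _ => Nat.le_self_pow (by omega) _
      rcases Nat.eq_zero_or_pos f with rfl | hf0
      · have hn1 : Fintype.card Ω = 1 := by rw [hn]; simp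
        haveI : Subsingleton Ω := Fintype.card_le_one_iff_subsingleton.1 hn1.le
        refine ⟨fun χ hχ => ?_, fun b hb => absurd (Subsingleton.elim b a) hb⟩
        by_cases hne : χ = one
        · exact Or.inr (by rw [hm χ hχ, hne, hm1, Nat.cast_one])
        · refine Or.inl (by_contra fun h => IsIrrCharacter.apply_one_ne_zero hχ ?_)
          rw [hf χ hχ hne h, Nat.cast_zero]
      have hconst : ∑ q ∈ Finset.univ.erase q₀, f ≤ f * M := hrest ▸ Finset.sum_le_sum hge
      rw [Finset.sum_const, smul_eq_mul, Nat.mul_comm] at hconst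
      have hMeq : M = (Finset.univ.erase q₀).card :=
        le_antisymm hMle (Nat.le_of_mul_le_mul_left hconst hf0)
      refine ⟨fun χ hχ => ?_, fun b hb => ?_⟩
      · by_cases hne : χ = one
        · exact Or.inr (by rw [hm χ hχ, hne, hm1, Nat.cast_one])
        have h1 : ∀ ψ ∈ (irrFinset G).erase one, m ψ = m ψ ^ 2 :=
          (Finset.sum_eq_sum_iff_of_le fun ψ _ => Nat.le_self_pow (by omega) _).1
            (show M = _ from hMeq.trans hcardM)
        have h2 := h1 χ (Finset.mem_erase.2 ⟨hne, mem_irrFinset.2 hχ⟩)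
        rw [hm χ hχ]
        rcases (show m χ = 0 ∨ m χ = 1 by
          rw [pow_two] at h2
          rcases Nat.eq_zero_or_pos (m χ) with h | h
          · exact Or.inl h
          · exact Or.inr (Nat.eq_of_mul_eq_mul_left h (by omega : m χ * m χ = m χ * 1))) with h | h
        · exact Or.inl (by rw [h, Nat.cast_zero])
        · exact Or.inr (by rw [h, Nat.cast_one])
      · have h1 : ∀ q ∈ Finset.univ.erase q₀, f = sz q :=
          (Finset.sum_eq_sum_iff_of_le hge).1 (by rw [hrest, hMeq, Finset.sum_const, smul_eq_mul, Nat.mul_comm])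
        have h2 := h1 (Quotient.mk'' b) (Finset.mem_erase.2 ⟨(horb b hb).2, Finset.mem_univ _⟩)
        rw [h2]
        show _ = Nat.card (MulAction.orbitRel.Quotient.orbit (Quotient.mk'' b : MulAction.orbitRel.Quotient H Ω))
        rw [MulAction.orbitRel.Quotient.orbit_mk]
    refine ⟨fun f hf => key f hf, fun hr χ hχ => ?_⟩
    show Cfsg.classInner (pi G Ω) χ = 0 ∨ Cfsg.classInner (pi G Ω) χ = 1
    rw [hm χ hχ]
    rcases (show m χ = 0 ∨ m χ = 1 ∨ 2 ≤ m χ by omega) with h | h | h
    · exact Or.inl (by rw [h, Nat.cast_zero])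
    · exact Or.inr (by rw [h, Nat.cast_one])
    exfalso
    have hne : χ ≠ one := fun e => by rw [e, hm1] at h; omega
    have hmem : χ ∈ (irrFinset G).erase one := Finset.mem_erase.2 ⟨hne, mem_irrFinset.2 hχ⟩
    rw [← Finset.add_sum_erase _ _ hone, hm1, ← Finset.add_sum_erase _ _ hmem] at hsq
    have h4 : 4 ≤ m χ ^ 2 := le_trans (by norm_num) (Nat.pow_le_pow_left h 2)
    obtain ⟨d, -, hd⟩ := IsIrrCharacter.exists_degree hχ
    have hother : ∀ ψ : G → ℂ, Cfsg.IsIrrCharacter G ψ → ψ ≠ (fun _ => 1) →
        Cfsg.classInner (pi G Ω) ψ ≠ 0 → ψ 1 = d := by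
      intro ψ hψ hψ1 hψ0
      by_cases he : ψ = χ
      · rw [he, hd]
      exfalso
      have hmem' : ψ ∈ ((irrFinset G).erase one).erase χ :=
        Finset.mem_erase.2 ⟨he, Finset.mem_erase.2 ⟨hψ1, mem_irrFinset.2 hψ⟩⟩
      have h5 := Finset.single_le_sum (f := fun x => m x ^ 2) (fun _ _ => Nat.zero_le _) hmem'
      have h6 : m ψ ≠ 0 := fun e => hψ0 (by rw [hm ψ hψ, e, Nat.cast_zero])
      have : 1 ≤ m ψ ^ 2 := Nat.one_le_pow _ _ (Nat.pos_of_ne_zero h6)
      omega
    rcases (key d hother).1 χ hχ with h7 | h7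
    · rw [hm χ hχ, Nat.cast_eq_zero] at h7; omega
    · rw [hm χ hχ, Nat.cast_eq_one] at h7; omega)


end Cfsg.Agent.S0716
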