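import Cfsg.Statements.S0718
import Mathlib
import Cfsg.Agent.Perm.CentralizerRing
-- import your own Cfsg.Agent.* helpers here

set_option autoImplicit false
open Cfsg
open scoped commutatorElement Pointwise

namespace Cfsg.Agent.S0718

/-- Multiplicity-freeness of the permutation character is equivalent to commutativity of the centraliser ring, i.e. of the algebra of `G`-equivariant endomorphisms of the complex permutation module. -/
theorem result {G : Type*} [Group G] [Fintype G] {Ω : Type*} [Fintype Ω] [MulAction G Ω] : (∀ χ : G → ℂ, Cfsg.IsIrrCharacter G χ → Cfsg.classInner (fun g : G => (Nat.card (MulAction.fixedBy Ω g) : ℂ)) χ = 0 ∨ Cfsg.classInner (fun g : G => (Nat.card (MulAction.fixedBy Ω g) : ℂ)) χ = 1) ↔ ∀ S T : (Ω → ℂ) →ₗ[ℂ] (Ω → ℂ), S ∈ ((Cfsg.permRep ℂ G Ω).linHom (Cfsg.permRep ℂ G Ω)).invariants → T ∈ ((Cfsg.permRep ℂ G Ω).linHom (Cfsg.permRep ℂ G Ω)).invariants → S ∘ₗ T = T ∘ₗ S := by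
  refine ⟨fun hmf S T hS hT => ?_, fun hcomm χ hχ => CfsgLib.CentralizerRing.mult_le_one hcomm χ hχ⟩
  have h := CfsgLib.CentralizerRing.mem_span_op hmf hS
  clear hS
  induction h using Submodule.span_induction with
  | mem U hU =>
    obtain ⟨χ, -, -, rfl⟩ := hU
    exact (CfsgLib.CentralizerRing.op_commute _ hT).symm
  | zero => simp
  | add U V _ _ hU hV => rw [LinearMap.add_comp, LinearMap.comp_add, hU, hV]
  | smul c U _ hU => rw [LinearMap.smul_comp, LinearMap.comp_smul, hU]


end Cfsg.Agent.S0718
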