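import Cfsg.Statements.S0724
import Mathlib
-- import your own Cfsg.Agent.* helpers here

set_option autoImplicit false
open Cfsg

namespace Cfsg.Agent.S0724

/-- Blichfeldt's Theorem: if a finite set `L` of natural numbers contains the number of fixed points of every non-identity element of a permutation group `G` of degree `n`, then the order of `G` divides `∏ (n - l)` over `l ∈ L`. -/
theorem result {α : Type*} [Fintype α] [DecidableEq α] (G : Subgroup (Equiv.Perm α)) (L : Finset ℕ) (hL : ∀ g ∈ G, g ≠ 1 → Nat.card (MulAction.fixedBy α g) ∈ L) : Nat.card G ∣ ∏ l ∈ L, (Fintype.card α - l) := by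
  open MulAction Polynomial in
  classical
  set n := Fintype.card α with hn
  by_cases hbig : ∃ l ∈ L, n ≤ l
  · obtain ⟨l, hl, hnl⟩ := hbig
    rw [Finset.prod_eq_zero hl (Nat.sub_eq_zero_of_le hnl)]
    exact dvd_zero _
  push Not at hbig
  let π : G → ℤ := fun g => (Nat.card (fixedBy α g) : ℤ)
  let Q : ℤ[X] := ∏ l ∈ L, (X - C (l : ℤ))
  have hpow : ∀ k : ℕ, (Nat.card G : ℤ) ∣ ∑ g : G, π g ^ k := by
    intro k
    have h := sum_card_fixedBy_eq_card_orbits_mul_card_group G (Fin k → α)
    have hfix : ∀ g : G, Fintype.card (fixedBy (Fin k → α) g) = Nat.card (fixedBy α g) ^ k := by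
      intro g
      rw [← Nat.card_eq_fintype_card, ← Nat.card_fin k, ← Nat.card_fun, Nat.card_fin]
      exact Nat.card_congr
        { toFun := fun f i => ⟨f.1 i, congrFun f.2 i⟩
          invFun := fun f => ⟨fun i => (f i).1, funext fun i => (f i).2⟩ }
    simp only [hfix] at h
    refine ⟨Fintype.card (Quotient (orbitRel G (Fin k → α))), ?_⟩
    rw [mul_comm, Nat.card_eq_fintype_card (α := G), ← Nat.cast_mul, ← h, Nat.cast_sum]
    simp [π]
  have hsum : (Nat.card G : ℤ) ∣ ∑ g : G, Q.eval (π g) := by
    simp only [Polynomial.eval_eq_sum_range]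
    rw [Finset.sum_comm]
    refine Finset.dvd_sum fun i _ => ?_
    rw [← Finset.mul_sum]
    exact (hpow i).mul_left _
  have hval : ∑ g : G, Q.eval (π g) = ((∏ l ∈ L, (n - l) : ℕ) : ℤ) := by
    rw [Finset.sum_eq_single (1 : G)]
    · simp only [Q, π, eval_prod, eval_sub, eval_X, eval_C, fixedBy_one_eq_univ]
      simp only [Nat.card_coe_set_eq, Set.ncard_univ]
      rw [Nat.card_eq_fintype_card, ← hn]
      rw [Nat.cast_prod]
      exact Finset.prod_congr rfl fun l hl => (Nat.cast_sub (hbig l hl).le).symm
    · intro g _ hg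
      have := hL g g.2 (fun h => hg (Subtype.ext h))
      simp only [Q, eval_prod]
      refine Finset.prod_eq_zero this ?_
      simp only [π, eval_sub, eval_X, eval_C, sub_eq_zero]
      rfl
    · intro h; exact absurd (Finset.mem_univ _) h
  rw [hval] at hsum
  exact_mod_cast hsum


end Cfsg.Agent.S0724
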