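import Cfsg.Statements.S0726
import Cfsg.Agent.Perm.Basic
-- import your own Cfsg.Agent.* helpers here

set_option autoImplicit false
open Cfsg

namespace Cfsg.Agent.S0726

/-- The left and right regular permutation representations of a group are each other's centralisers in the symmetric group: the centraliser of the left regular image is the right regular image, and a transitive subgroup centralising the left regular image is the whole right regular image. -/
theorem result {G : Type*} [Group G] : Subgroup.centralizer ((MulAction.toPermHom G G).range : Set (Equiv.Perm G)) = (MulAction.toPermHom Gᵐᵒᵖ G).range ∧ ∀ H : Subgroup (Equiv.Perm G), H ≤ Subgroup.centralizer ((MulAction.toPermHom G G).range : Set (Equiv.Perm G)) → MulAction.IsPretransitive H G → H = (MulAction.toPermHom Gᵐᵒᵖ G).range := by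
  open CfsgLib.PermBasic MulAction in
  set L := (toPermHom G G).range with hL
  have : IsPretransitive L G := ⟨fun x y => ⟨⟨_, y * x⁻¹, rfl⟩, by
    change (y * x⁻¹) * x = y
    rw [inv_mul_cancel_right]⟩⟩
  have hR : Subgroup.centralizer (L : Set (Equiv.Perm G)) = (toPermHom Gᵐᵒᵖ G).range := by
    ext c
    constructor
    · intro hc
      refine ⟨MulOpposite.op (c 1), Equiv.ext fun g => ?_⟩
      have := congrArg (fun e : Equiv.Perm G => e 1) (Subgroup.mem_centralizer_iff.mp hc (toPermHom G G g) ⟨g, rfl⟩)
      change g * c 1 = c (g * 1) at this
      rw [mul_one] at this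
      exact this
    · rintro ⟨r, rfl⟩
      refine Subgroup.mem_centralizer_iff.mpr ?_
      rintro _ ⟨g, rfl⟩
      refine Equiv.ext fun x => ?_
      exact (mul_assoc g x r.unop).symm
  refine ⟨hR, fun H hH hHt => ?_⟩
  rw [← hR]
  exact (eq_of_semiregular_of_transitive_le hH (1 : G) (semiregular_of_le_centralizer L _ le_rfl (1 : G))).symm


end Cfsg.Agent.S0726
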