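import Cfsg.Statements.S0728
import Mathlib
import Cfsg.Agent.Perm.SharplyThree
-- import your own Cfsg.Agent.* helpers here

set_option autoImplicit false
open Cfsg
open scoped commutatorElement Pointwise

namespace Cfsg.Agent.S0728

/-- In a sharply triply transitive group of even degree at least 6 (degree `q + 1`, `q` odd), a two-point stabiliser has at most one subgroup of order 3. -/
theorem result {α : Type*} [Fintype α] [DecidableEq α] (heven : Even (Fintype.card α)) (h6 : 6 ≤ Fintype.card α) (G : Subgroup (Equiv.Perm α)) (h3 : MulAction.IsMultiplyPretransitive G α 3) (hsharp : ∀ x : Fin 3 ↪ α, MulAction.stabilizer G x = ⊥) {a b : α} (hab : a ≠ b) (A B : Subgroup G) (hA : A ≤ MulAction.stabilizer G a ⊓ MulAction.stabilizer G b) (hB : B ≤ MulAction.stabilizer G a ⊓ MulAction.stabilizer G b) (hA3 : Nat.card A = 3) (hB3 : Nat.card B = 3) : A = B := by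
  classical
  have h2 : MulAction.IsMultiplyPretransitive G α 2 := by
    haveI := h3
    exact MulAction.isMultiplyPretransitive_of_le' (α := α) (n := 3) (by norm_num) (by
      rw [ENat.card_eq_coe_fintype_card]; exact_mod_cast (by omega : 3 ≤ Fintype.card α))
  obtain ⟨c, hc⟩ : ∃ c, c ∉ ({a, b} : Finset α) := by
    by_contra h
    push Not at h
    have := Finset.card_le_card (s := (Finset.univ : Finset α)) (t := {a, b}) fun x _ => h x
    rw [Finset.card_univ] at this
    have := this.trans Finset.card_le_two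
    omega
  simp only [Finset.mem_insert, Finset.mem_singleton, not_or] at hc
  have hle := CfsgLib.SharplyThree.card_three_le h3 h2 hsharp hab (Ne.symm hc.1) (Ne.symm hc.2)
  set T := {g : G // g ^ 3 = 1 ∧ g ≠ 1 ∧ g • a = a ∧ g • b = b}
  have hmem : ∀ C : Subgroup G, C ≤ MulAction.stabilizer G a ⊓ MulAction.stabilizer G b →
      Nat.card C = 3 → ∀ g ∈ C, g ≠ 1 → g ^ 3 = 1 ∧ g ≠ 1 ∧ g • a = a ∧ g • b = b := by
    intro C hC hC3 g hg hg1
    have h3' : (⟨g, hg⟩ : C) ^ 3 = 1 := by rw [← hC3]; exact pow_card_eq_one'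
    exact ⟨congrArg Subtype.val h3', hg1, (hC hg).1, (hC hg).2⟩
  have key : ∀ C : Subgroup G, C ≤ MulAction.stabilizer G a ⊓ MulAction.stabilizer G b →
      Nat.card C = 3 → ∀ t : T, (t : G) ∈ C := by
    intro C hC hC3 t
    have hfin : Finite C := Nat.finite_of_card_ne_zero (by omega)
    let f : {g : C // g ≠ 1} → T := fun g =>
      ⟨(g.1 : G), hmem C hC hC3 _ g.1.2 fun h => g.2 (Subtype.ext h)⟩
    have hinj : Function.Injective f := fun g k h =>
      Subtype.ext (Subtype.ext (congrArg Subtype.val h :))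
    have h2' : Nat.card {g : C // g ≠ 1} = 2 := by
      have := Fintype.ofFinite C
      rw [Nat.card_eq_fintype_card] at hC3 ⊢
      rw [Fintype.card_subtype_compl, Fintype.card_subtype_eq, hC3]
    have hsurj : Function.Surjective f :=
      ((Nat.bijective_iff_injective_and_card f).mpr ⟨hinj, le_antisymm
        (Nat.card_le_card_of_injective f hinj) (by omega)⟩).2
    obtain ⟨g, rfl⟩ := hsurj t
    exact g.1.2
  ext g
  by_cases hg : g = 1
  · simp [hg]
  · exact ⟨fun h => key B hB hB3 ⟨g, hmem A hA hA3 g h hg⟩,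
      fun h => key A hA hA3 ⟨g, hmem B hB hB3 g h hg⟩⟩


end Cfsg.Agent.S0728
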