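import Cfsg.Statements.S0733
import Mathlib
-- import your own Cfsg.Agent.* helpers here

set_option autoImplicit false
open Cfsg

namespace Cfsg.Agent.S0733

/-- A permutation group of affine type — generated by the translations of a finite vector space `V` over `ZMod p` together with a group `G₀` of linear automorphisms — is primitive on `V` if and only if `G₀` is irreducible on `V`. -/
theorem result {p : ℕ} [Fact p.Prime] {V : Type*} [AddCommGroup V] [Module (ZMod p) V] [Finite V] [Nontrivial V] (G₀ : Subgroup (V ≃ₗ[ZMod p] V)) (G : Subgroup (Equiv.Perm V)) (hG : ∀ σ : Equiv.Perm V, σ ∈ G ↔ ∃ g ∈ G₀, ∃ b : V, ∀ x : V, σ x = (g : V ≃ₗ[ZMod p] V) x + b) : MulAction.IsPreprimitive G V ↔ ∀ W : Submodule (ZMod p) V, (∀ g ∈ G₀, ∀ v ∈ W, (g : V ≃ₗ[ZMod p] V) v ∈ W) → W = ⊥ ∨ W = ⊤ := by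
  open MulAction in
  open scoped Pointwise in
  have htrans : IsPretransitive G V := ⟨fun u v => ⟨⟨Equiv.addRight (v - u),
    (hG _).mpr ⟨1, G₀.one_mem, v - u, fun x => by simp⟩⟩, by
    change u + (v - u) = v
    abel⟩⟩
  have hlin : ∀ g ∈ G₀, ∃ σ : G, ∀ x : V, σ • x = g x := fun g hg =>
    ⟨⟨g.toEquiv, (hG _).mpr ⟨g, hg, 0, fun x => by simp⟩⟩, fun x => rfl⟩
  have htr : ∀ b : V, ∃ σ : G, ∀ x : V, σ • x = x + b := fun b =>
    ⟨⟨Equiv.addRight b, (hG _).mpr ⟨1, G₀.one_mem, b, fun x => by simp⟩⟩, fun x => rfl⟩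
  constructor
  · intro hprim W hW
    have hblock : IsBlock G (W : Set V) := by
      rw [isBlock_iff_smul_eq_or_disjoint]
      intro σ
      obtain ⟨g, hg, b, hσ⟩ := (hG σ).mp σ.2
      have himg : ∀ z : V, z ∈ σ • (W : Set V) ↔ z - b ∈ W := by
        intro z
        constructor
        · rintro ⟨w, hw, rfl⟩
          change (σ : Equiv.Perm V) w - b ∈ W
          rw [hσ, add_sub_cancel_right]
          exact hW g hg w hw
        · intro hz
          refine ⟨(g⁻¹ : V ≃ₗ[ZMod p] V) (z - b), hW _ (G₀.inv_mem hg) _ hz, ?_⟩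
          change (σ : Equiv.Perm V) _ = z
          rw [hσ]
          have : g ((g⁻¹ : V ≃ₗ[ZMod p] V) (z - b)) = z - b := g.apply_symm_apply _
          rw [this, sub_add_cancel]
      by_cases hb : b ∈ W
      · left
        ext z
        rw [himg, SetLike.mem_coe]
        exact Submodule.sub_mem_iff_left W hb
      · right
        rw [Set.disjoint_left]
        intro z hz hzW
        rw [himg] at hz
        exact hb (by simpa using W.sub_mem hzW hz)
    rcases hblock.subsingleton_or_eq_univ with h | h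
    · exact Or.inl ((Submodule.eq_bot_iff W).mpr fun w hw => h hw W.zero_mem)
    · exact Or.inr (SetLike.coe_injective (h.trans Submodule.top_coe.symm))
  · intro hirr
    refine IsPreprimitive.of_isTrivialBlock_base (0 : V) fun {B} h0 hB => ?_
    have hadd : ∀ a ∈ B, ∀ b ∈ B, a + b ∈ B := by
      intro a ha b hb
      obtain ⟨σ, hσ⟩ := htr b
      have h1 : σ • B = B := hB.smul_eq_of_mem h0 (by rw [hσ, zero_add]; exact hb)
      rw [← h1, ← hσ a]
      exact Set.smul_mem_smul_set ha
    have hsmul : ∀ (c : ZMod p) a, a ∈ B → c • a ∈ B := by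
      intro c a ha
      rw [← ZMod.natCast_zmod_val c, Nat.cast_smul_eq_nsmul]
      induction c.val with
      | zero => rw [zero_smul]; exact h0
      | succ k ih => rw [succ_nsmul]; exact hadd _ ih _ ha
    let W : Submodule (ZMod p) V :=
      { carrier := B, add_mem' := fun ha hb => hadd _ ha _ hb, zero_mem' := h0, smul_mem' := hsmul }
    rcases hirr W (by
      intro g hg v hv
      obtain ⟨σ, hσ⟩ := hlin g hg
      have h1 : σ • B = B := hB.smul_eq_of_mem h0 (by rw [hσ, map_zero]; exact h0)
      change g v ∈ B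
      rw [← h1, ← hσ v]
      exact Set.smul_mem_smul_set hv) with h | h
    · exact Or.inl fun u hu v hv => by
        have hu' : u ∈ (⊥ : Submodule (ZMod p) V) := h ▸ (show u ∈ W from hu)
        have hv' : v ∈ (⊥ : Submodule (ZMod p) V) := h ▸ (show v ∈ W from hv)
        rw [(Submodule.mem_bot _).mp hu', (Submodule.mem_bot _).mp hv']
    · exact Or.inr (Set.eq_univ_of_forall fun v => (h ▸ Submodule.mem_top : v ∈ W))


end Cfsg.Agent.S0733
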