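import Cfsg.Statements.S0734
import Mathlib
-- import your own Cfsg.Agent.* helpers here

set_option autoImplicit false
open Cfsg

namespace Cfsg.Agent.S0734

/-- Higman's criterion for primitivity: a transitive action on a finite set is primitive if and only if every non-trivial orbital graph (edges = images of a fixed pair of distinct points) is connected. -/
theorem result {G : Type*} [Group G] {Ω : Type*} [Finite Ω] [MulAction G Ω] [MulAction.IsPretransitive G Ω] [Nontrivial Ω] : MulAction.IsPreprimitive G Ω ↔ ∀ a b : Ω, a ≠ b → (SimpleGraph.fromRel fun x y : Ω => ∃ g : G, g • a = x ∧ g • b = y).Connected := by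
  open MulAction in
  open scoped Pointwise in
  constructor
  · intro hprim a b hab
    set Γ := SimpleGraph.fromRel fun x y : Ω => ∃ g : G, g • a = x ∧ g • b = y with hΓ
    let φ : G → (Γ →g Γ) := fun g =>
      { toFun := fun x => g • x
        map_rel' := by
          intro x y hxy
          rw [hΓ, SimpleGraph.fromRel_adj] at hxy ⊢
          refine ⟨fun e => hxy.1 (smul_left_cancel g e), ?_⟩
          rcases hxy.2 with ⟨h, h1, h2⟩ | ⟨h, h1, h2⟩
          · exact Or.inl ⟨g * h, by rw [mul_smul, h1], by rw [mul_smul, h2]⟩
          · exact Or.inr ⟨g * h, by rw [mul_smul, h1], by rw [mul_smul, h2]⟩ }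
    let C : Set Ω := {x | Γ.Reachable a x}
    have hblock : IsBlock G C := by
      rw [isBlock_iff_smul_eq_or_disjoint]
      intro g
      refine (em (Γ.Reachable a (g • a))).imp (fun h => ?_) (fun h => ?_)
      · ext x
        constructor
        · rintro ⟨y, hy, rfl⟩
          exact h.trans (hy.map (φ g))
        · intro hx
          refine ⟨g⁻¹ • x, ?_, smul_inv_smul g x⟩
          have := (h.symm.trans hx).map (φ g⁻¹)
          change Γ.Reachable (g⁻¹ • g • a) (g⁻¹ • x) at this
          rwa [inv_smul_smul] at this
      · rw [Set.disjoint_left]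
        rintro _ ⟨y, hy, rfl⟩ hyC
        exact h (hyC.trans (hy.map (φ g)).symm)
    have hab' : Γ.Reachable a b := SimpleGraph.Adj.reachable (by
      rw [hΓ, SimpleGraph.fromRel_adj]
      exact ⟨hab, Or.inl ⟨1, one_smul G a, one_smul G b⟩⟩)
    rcases hblock.subsingleton_or_eq_univ with h | h
    · exact absurd (h (SimpleGraph.Reachable.refl (G := Γ) a) hab') hab
    · refine ⟨fun x y => ?_⟩
      have hx : x ∈ C := h ▸ Set.mem_univ x
      have hy : y ∈ C := h ▸ Set.mem_univ y
      exact hx.symm.trans hy
  · intro hconn
    obtain ⟨a⟩ : Nonempty Ω := inferInstance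
    refine IsPreprimitive.of_isTrivialBlock_base a fun {B} ha hB => ?_
    by_cases hs : B.Subsingleton
    · exact Or.inl hs
    rw [Set.not_subsingleton_iff] at hs
    obtain ⟨b, hb, hba⟩ := hs.exists_ne a
    refine Or.inr (Set.eq_univ_of_forall fun x => ?_)
    obtain ⟨w⟩ := (hconn a b hba.symm).preconnected a x
    have : ∀ {u v : Ω}, (SimpleGraph.fromRel fun x y : Ω => ∃ g : G, g • a = x ∧ g • b = y).Walk u v → u ∈ B → v ∈ B := by
      intro u v w
      induction w with
      | nil => exact id
      | @cons u v w h _ ih =>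
        intro hu
        apply ih
        rw [SimpleGraph.fromRel_adj] at h
        rcases h.2 with ⟨g, h1, h2⟩ | ⟨g, h1, h2⟩
        · have h3 : g • B = B := hB.smul_eq_of_mem ha (h1 ▸ hu)
          rw [← h2, ← h3]; exact Set.smul_mem_smul_set hb
        · have h3 : g • B = B := hB.smul_eq_of_mem hb (h2 ▸ hu)
          rw [← h1, ← h3]; exact Set.smul_mem_smul_set ha
    exact this w ha


end Cfsg.Agent.S0734
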