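import Cfsg.Statements.S0735
import Mathlib
-- import your own Cfsg.Agent.* helpers here

set_option autoImplicit false
open Cfsg

namespace Cfsg.Agent.S0735

/-- A 2-homogeneous permutation group (transitive on 2-subsets) of even order is doubly transitive; a non-trivial 2-homogeneous group is primitive. -/
theorem result {α : Type*} [Fintype α] [DecidableEq α] (G : Subgroup (Equiv.Perm α)) (h2 : MulAction.IsPretransitive G (Set.powersetCard α 2)) (hα : 3 ≤ Fintype.card α) : (Even (Nat.card G) → MulAction.IsMultiplyPretransitive G α 2) ∧ (G ≠ ⊥ → MulAction.IsPreprimitive G α) := by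
  open MulAction in
  open scoped Pointwise in
  classical
  have hmove : ∀ a b c d : α, a ≠ b → c ≠ d → ∃ g : G, (g • a = c ∧ g • b = d) ∨ (g • a = d ∧ g • b = c) := by
    intro a b c d hab hcd
    obtain ⟨g, hg⟩ := h2.exists_smul_eq ⟨{a, b}, Finset.card_pair hab⟩ ⟨{c, d}, Finset.card_pair hcd⟩
    refine ⟨g, ?_⟩
    have hg' : g • ({a, b} : Finset α) = {c, d} := congrArg Subtype.val hg
    have ha : g • a ∈ ({c, d} : Finset α) := hg' ▸ Finset.smul_mem_smul_finset (by simp)
    have hb : g • b ∈ ({c, d} : Finset α) := hg' ▸ Finset.smul_mem_smul_finset (by simp)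
    simp only [Finset.mem_insert, Finset.mem_singleton] at ha hb
    rcases ha with ha | ha <;> rcases hb with hb | hb
    · exact absurd (smul_left_cancel g (ha.trans hb.symm)) hab
    · exact Or.inl ⟨ha, hb⟩
    · exact Or.inr ⟨ha, hb⟩
    · exact absurd (smul_left_cancel g (ha.trans hb.symm)) hab
  refine ⟨fun heven => ?_, fun hne => ?_⟩
  · obtain ⟨t, ht⟩ := exists_prime_orderOf_dvd_card' (G := G) 2 (even_iff_two_dvd.mp heven)
    obtain ⟨a, ha⟩ : ∃ a : α, t • a ≠ a := by
      by_contra! h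
      have : t = 1 := eq_of_smul_eq_smul fun a : α => (h a).trans (one_smul G a).symm
      simp [this] at ht
    have hswap : t • t • a = a := by
      rw [← mul_smul, ← pow_two, ← ht, pow_orderOf_eq_one, one_smul]
    have hs : ∀ c d : α, c ≠ d → ∃ g : G, g • a = c ∧ g • (t • a) = d := by
      intro c d hcd
      obtain ⟨g, h | h⟩ := hmove a (t • a) c d (Ne.symm ha) hcd
      · exact ⟨g, h⟩
      · exact ⟨g * t, by rw [mul_smul]; exact h.2, by rw [mul_smul, hswap]; exact h.1⟩
    rw [is_two_pretransitive_iff]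
    intro u v c d huv hcd
    obtain ⟨g, hg1, hg2⟩ := hs u v huv
    obtain ⟨k, hk1, hk2⟩ := hs c d hcd
    exact ⟨k * g⁻¹, by rw [← hg1, mul_smul, inv_smul_smul, hk1], by rw [← hg2, mul_smul, inv_smul_smul, hk2]⟩
  · obtain ⟨g0, hg0, hg01⟩ : ∃ g0, g0 ∈ G ∧ g0 ≠ 1 := by
      by_contra! h
      exact hne ((Subgroup.eq_bot_iff_forall G).mpr h)
    obtain ⟨x, hx⟩ : ∃ x, g0 x ≠ x := by
      by_contra! h
      exact hg01 (Equiv.ext h)
    have htr : IsPretransitive G α := by
      have horb : ∀ z, z ∈ orbit G x := by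
        intro z
        by_contra hz
        have hzx : z ≠ x := fun e => hz (by rw [e]; exact mem_orbit_self x)
        obtain ⟨g, ⟨h1, h2⟩ | ⟨h1, h2⟩⟩ := hmove x (g0 x) x z (Ne.symm hx) hzx.symm
        · exact hz ⟨g * ⟨g0, hg0⟩, (mul_smul g _ x).trans h2⟩
        · exact hz ⟨g, h1⟩
      exact ⟨fun u v => by
        obtain ⟨g, rfl⟩ := horb u
        obtain ⟨k, rfl⟩ := horb v
        exact ⟨k * g⁻¹, by simp [mul_smul]⟩⟩
    refine IsPreprimitive.of_isTrivialBlock_base x fun {B} hx' hB => ?_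
    by_cases hs : B.Subsingleton
    · exact Or.inl hs
    rw [Set.not_subsingleton_iff] at hs
    obtain ⟨b, hb, hbx⟩ := hs.exists_ne x
    refine Or.inr (Set.eq_univ_of_forall fun c => ?_)
    by_cases hc : c = x
    · exact hc ▸ hx'
    obtain ⟨g, ⟨h1, h2⟩ | ⟨h1, h2⟩⟩ := hmove x b x c hbx.symm (Ne.symm hc)
    · have h3 : g • B = B := hB.smul_eq_of_mem hx' (by rw [h1]; exact hx')
      rw [← h2, ← h3]; exact Set.smul_mem_smul_set hb
    · have h3 : g • B = B := hB.smul_eq_of_mem hb (by rw [h2]; exact hx')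
      rw [← h1, ← h3]; exact Set.smul_mem_smul_set hx'


end Cfsg.Agent.S0735
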