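import Cfsg.Statements.S0742
import Cfsg.Agent.Zass.EvenPair
-- import your own Cfsg.Agent.* helpers here

set_option autoImplicit false
open Cfsg
open scoped commutatorElement Pointwise

namespace Cfsg.Agent.S0742

/-- A finite Zassenhaus group of degree `n + 1` with two-point stabilisers of even order `d` satisfying `2d ≤ n - 1` has `n = p^f` for an odd prime `p` and is isomorphic to `PSL(2, p^f)`. -/
theorem result {G Ω : Type*} [Group G] [Finite G] [MulAction G Ω] [Fintype Ω] (hZ : Cfsg.IsZassenhausGroup G Ω) {a b : Ω} (hab : a ≠ b) (heven : Even (Nat.card ↥(MulAction.stabilizer G a ⊓ MulAction.stabilizer G b))) (hd : 2 * Nat.card ↥(MulAction.stabilizer G a ⊓ MulAction.stabilizer G b) ≤ Fintype.card Ω - 2) : ∃ (p f : ℕ) (K : Type) (_ : Field K) (_ : Fintype K), p.Prime ∧ p ≠ 2 ∧ Fintype.card K = p ^ f ∧ Fintype.card Ω = p ^ f + 1 ∧ Nonempty (G ≃* Matrix.ProjectiveSpecialLinearGroup (Fin 2) K) := by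
  obtain ⟨F, hFa, hFcard, hFfix, hFc, p, f, hp, hpf⟩ :=
    CfsgLib.Zass.exists_abelian_kernel_of_even hZ hab heven
  have hlarge := CfsgLib.Zass.two_mul_card_of_even hZ hab heven
  have hn := CfsgLib.Char.zassenhaus_three_le hZ
  obtain ⟨K, i1, i2, hc, hK, -, he⟩ :=
    CfsgLib.Zass.half_psl hZ hab F hFa hFcard hFfix hFc (by omega)
  refine ⟨p, f, K, i1, i2, hp, ?_, by omega, hpf, he⟩
  intro h2
  subst h2
  have hj := FiniteField.odd_card_of_char_ne_two hc
  have hf : f ≠ 0 := fun h => by rw [h, pow_zero] at hpf; omega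
  obtain ⟨g, hg⟩ : 2 ∣ 2 ^ f := dvd_pow_self 2 hf
  omega


end Cfsg.Agent.S0742
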