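import Cfsg.Statements.S0745
import Cfsg.Agent.Perm.Homog.LWExceptions
-- import your own Cfsg.Agent.* helpers here

set_option autoImplicit false
open Cfsg
open scoped commutatorElement Pointwise

namespace Cfsg.Agent.S0745

/-- Let `G` have degree `n` and `3 ≤ k ≤ n`; suppose `G` is `(k-2)`-transitive but not `(k-1)`-transitive, and is `(k-1)`-homogeneous and `k`-homogeneous. Then `k = n` and `G` is the alternating group, or `n = 5, k = 4, |G| = 20`, or `n = 6, k = 5, |G| = 120`, or `n = 9, k = 5, |G| ∈ {504, 1512}`. -/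
theorem result {α : Type*} [Fintype α] [DecidableEq α] (G : Subgroup (Equiv.Perm α)) {k : ℕ} (hk : 3 ≤ k) (hkn : k ≤ Fintype.card α) (ht : MulAction.IsMultiplyPretransitive G α (k - 2)) (hnt : ¬ MulAction.IsMultiplyPretransitive G α (k - 1)) (hh1 : MulAction.IsPretransitive G (Set.powersetCard α (k - 1))) (hh : MulAction.IsPretransitive G (Set.powersetCard α k)) : (k = Fintype.card α ∧ G = alternatingGroup α) ∨ (Fintype.card α = 5 ∧ k = 4 ∧ Nat.card G = 20) ∨ (Fintype.card α = 6 ∧ k = 5 ∧ Nat.card G = 120) ∨ (Fintype.card α = 9 ∧ k = 5 ∧ (Nat.card G = 504 ∨ Nat.card G = 1512)) := by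
  open MulAction CfsgLib.Homog in
  classical
  have hn2k : Fintype.card α < 2 * k := by
    by_contra h
    exact hnt (lw_pred (by omega) hh)
  rcases Nat.lt_or_ge k (Fintype.card α) with hlt | hge
  · right
    rcases Nat.lt_or_ge k 6 with hk5 | hk6
    · obtain rfl | rfl | rfl : k = 3 ∨ k = 4 ∨ k = 5 := by omega
      · exact absurd (exceptions_three (by omega) (by omega) ht hh1 hh) hnt
      · rcases exceptions_four (by omega) (by omega) ht hh1 hh with h | ⟨h1, h2⟩
        · exact absurd h hnt
        · exact Or.inl ⟨h1, rfl, h2⟩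
      · rcases exceptions_five (by omega) (by omega) ht hh1 hh with h | ⟨h1, h2⟩ | ⟨h1, h2⟩
        · exact absurd h hnt
        · exact Or.inr (Or.inl ⟨h1, rfl, h2⟩)
        · exact Or.inr (Or.inr ⟨h1, rfl, h2⟩)
    · exact absurd (lw_trans.lw_trans_step (k := k - 1) (by omega) (by omega) hh1
        (by rwa [show k - 1 - 1 = k - 2 by omega])) hnt
  · left
    have hkeq : k = Fintype.card α := by omega
    have hle := alt_le_of_trans ht (by omega) (by omega)
    refine ⟨hkeq, le_antisymm (fun g hg => ?_) hle⟩
    by_contra hodd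
    have hall : ∀ h : Equiv.Perm α, h ∈ G := by
      intro h
      rcases Int.units_eq_one_or (Equiv.Perm.sign h) with h1 | h1
      · exact hle h1
      · have h2 : h * g⁻¹ ∈ alternatingGroup α := by
          rw [Equiv.Perm.mem_alternatingGroup, map_mul, map_inv, h1,
            (Int.units_eq_one_or (Equiv.Perm.sign g)).resolve_left hodd]
          decide
        have := G.mul_mem (hle h2) hg
        rwa [inv_mul_cancel_right] at this
    refine hnt (transitive_of_exists_map fun x y => ?_)
    have := Equiv.Perm.isMultiplyPretransitive α (k - 1)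
    obtain ⟨h, hh'⟩ := exists_smul_eq (Equiv.Perm α) x y
    exact ⟨h, hall h, fun i => DFunLike.congr_fun hh' i⟩


end Cfsg.Agent.S0745
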