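import Cfsg.Statements.S0757
import Cfsg.Agent.Forms.Classify
-- import your own Cfsg.Agent.* helpers here

set_option autoImplicit false
open Cfsg

namespace Cfsg.Agent.S0757

/-- The two diagonal forms Σ x_i^2 and Σ_(i<n) x_i^2 + α x_n^2 on F^(n+1), with α a non-square and 2 ≠ 0 in F, are inequivalent quadratic forms (so over a finite field of odd order there are exactly two classes of non-singular symmetric bilinear forms in each dimension). -/
theorem result {F : Type*} [Field F] (h2 : (2 : F) ≠ 0) (n : ℕ) (α : F) (hα : ¬ IsSquare α) : ¬ (QuadraticMap.weightedSumSquares F (fun _ : Fin (n + 1) => (1 : F))).Equivalent (QuadraticMap.weightedSumSquares F (fun i : Fin (n + 1) => if i = Fin.last n then α else (1 : F))) := by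
  rintro ⟨e⟩
  refine hα ?_
  let w : Fin (n + 1) → F := fun i => if i = Fin.last n then α else 1
  let M : Matrix (Fin (n + 1)) (Fin (n + 1)) F := LinearMap.toMatrix' e.toLinearEquiv.toLinearMap
  have hQ : ∀ v, ∑ k, w k * ((M.mulVec v) k * (M.mulVec v) k) = ∑ k, v k * v k := by
    intro v
    have hv : M.mulVec v = e v := by
      simp only [M, LinearMap.toMatrix'_mulVec]
      rfl
    have h := e.map_app v
    rw [QuadraticMap.weightedSumSquares_apply, QuadraticMap.weightedSumSquares_apply] at h
    simp only [smul_eq_mul, one_mul] at h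
    rw [hv]
    exact h
  have hP : ∀ u v, ∑ k, w k * ((M.mulVec u) k * (M.mulVec v) k) = ∑ k, u k * v k := by
    intro u v
    have h := hQ (u + v)
    simp only [Matrix.mulVec_add, Pi.add_apply, mul_add, add_mul, Finset.sum_add_distrib] at h
    have c1 : ∑ k, w k * ((M.mulVec v) k * (M.mulVec u) k) =
        ∑ k, w k * ((M.mulVec u) k * (M.mulVec v) k) :=
      Finset.sum_congr rfl fun k _ => by ring
    have c2 : ∑ k, v k * u k = ∑ k, u k * v k := Finset.sum_congr rfl fun k _ => by ring
    rw [c1, c2, hQ u, hQ v] at h
    apply mul_left_cancel₀ h2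
    linear_combination h
  have hmat : M.transpose * Matrix.diagonal w * M = 1 := by
    ext i j
    have := hP (Pi.single i 1) (Pi.single j 1)
    rw [Matrix.one_apply]
    simp [Pi.single_apply] at this
    rw [Matrix.mul_apply]
    simp only [Matrix.mul_diagonal, Matrix.transpose_apply]
    exact (Finset.sum_congr rfl fun k _ => by ring).trans (this.trans (by simp [eq_comm]))
  have hd := congrArg Matrix.det hmat
  rw [Matrix.det_mul, Matrix.det_mul, Matrix.det_transpose, Matrix.det_diagonal, Matrix.det_one,
    Finset.prod_ite_eq' Finset.univ (Fin.last n) (fun _ => α), if_pos (Finset.mem_univ _)] at hd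
  have hM : M.det ≠ 0 := fun h0 => by rw [h0, zero_mul, zero_mul] at hd; exact zero_ne_one hd
  exact ⟨M.det⁻¹, by field_simp; linear_combination hd⟩

end Cfsg.Agent.S0757
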