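import Cfsg.Statements.S0758
import Cfsg.Agent.Forms.Classify
-- import your own Cfsg.Agent.* helpers here

set_option autoImplicit false
open Cfsg

namespace Cfsg.Agent.S0758

/-- For a finite field F of odd order q and a non-square α: the form x² + y² is isotropic iff q ≡ 1 mod 4, and the form x² + α y² is isotropic iff q ≡ 3 mod 4. -/
theorem result {F : Type*} [Field F] [Fintype F] (h2 : (2 : F) ≠ 0) (α : F) (hα : ¬ IsSquare α) : ((∃ x y : F, (x ≠ 0 ∨ y ≠ 0) ∧ x ^ 2 + y ^ 2 = 0) ↔ Fintype.card F % 4 = 1) ∧ ((∃ x y : F, (x ≠ 0 ∨ y ≠ 0) ∧ x ^ 2 + α * y ^ 2 = 0) ↔ Fintype.card F % 4 = 3) := by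
  have hc : ∀ c : F, c ≠ 0 →
      ((∃ x y : F, (x ≠ 0 ∨ y ≠ 0) ∧ x ^ 2 + c * y ^ 2 = 0) ↔ IsSquare (-c)) := by
    intro c hc
    constructor
    · rintro ⟨x, y, hne, e⟩
      have hy : y ≠ 0 := by
        rintro rfl
        have : x = 0 := by simpa using e
        simp [this] at hne
      exact ⟨x / y, by field_simp; linear_combination -e⟩
    · rintro ⟨r, hr⟩
      exact ⟨r, 1, Or.inr one_ne_zero, by linear_combination -hr⟩
  have hα0 : α ≠ 0 := by rintro rfl; exact hα ⟨0, by simp⟩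
  have hodd := CfsgLib.Forms.odd_card_of_two_ne h2
  rw [Nat.card_eq_fintype_card] at hodd
  have h1 := hc 1 one_ne_zero
  simp only [one_mul] at h1
  rw [h1, hc α hα0, FiniteField.isSquare_neg_one_iff]
  refine ⟨by omega, ?_⟩
  constructor
  · rintro ⟨r, hr⟩
    by_contra hq
    obtain ⟨s, hs⟩ : IsSquare (-1 : F) := FiniteField.isSquare_neg_one_iff.mpr hq
    exact hα ⟨r * s, by linear_combination -hr + (r * r) * hs⟩
  · intro hq
    have hm : ¬IsSquare (-1 : F) := by rw [FiniteField.isSquare_neg_one_iff]; omega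
    have := CfsgLib.Forms.isSquare_div_of_nonsquare h2 hα hm
    rwa [div_neg, div_one] at this

end Cfsg.Agent.S0758
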