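import Cfsg.Statements.S0759
import Cfsg.Agent.Classical.SplitForm
-- import your own Cfsg.Agent.* helpers here

set_option autoImplicit false
open Cfsg

namespace Cfsg.Agent.S0759

/-- Type of the orthonormal form: over a finite field of odd order q and for m ≥ 1, the quadratic form Σ_(i<2m) x_i² on F^(2m) admits an m-dimensional subspace on which it vanishes identically if and only if it is not the case that q ≡ 3 (mod 4) and m is odd. -/
theorem result {F : Type*} [Field F] [Fintype F] (h2 : (2 : F) ≠ 0) (m : ℕ) (hm : 1 ≤ m) : (∃ W : Submodule F (Fin (2 * m) → F), Module.finrank F W = m ∧ ∀ w ∈ W, ∑ i, w i ^ 2 = 0) ↔ ¬ (Fintype.card F % 4 = 3 ∧ Odd m) := by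
  classical
  let B : LinearMap.BilinForm F (Fin (2 * m) → F) := Matrix.toBilin' (1 : Matrix (Fin (2 * m)) (Fin (2 * m)) F)
  have hB : ∀ x y, B x y = ∑ i, x i * y i := fun x y => by
    simp [B, Matrix.toBilin'_apply, Matrix.one_apply, Finset.sum_ite_eq]
  have hsymm : B.IsSymm := ⟨fun x y => by rw [hB, hB]; exact Finset.sum_congr rfl fun i _ => mul_comm _ _⟩
  have hmat : LinearMap.BilinForm.toMatrix (Pi.basisFun F (Fin (2 * m))) B = 1 := by
    ext i j
    rw [LinearMap.BilinForm.toMatrix_apply, hB]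
    simp [Pi.single_apply, Matrix.one_apply, eq_comm]
  have hN : B.Nondegenerate :=
    (LinearMap.BilinForm.nondegenerate_iff_det_ne_zero (Pi.basisFun F (Fin (2 * m)))).2
      (by rw [hmat, Matrix.det_one]; exact one_ne_zero)
  have key := CfsgLib.Linear.SplitForm.exists_iso_iff h2 B hsymm hN (Pi.basisFun F (Fin (2 * m))) m
    (Fintype.card_fin _)
  rw [hmat, Matrix.det_one, mul_one] at key
  have h1 : (∃ W : Submodule F (Fin (2 * m) → F), Module.finrank F W = m ∧ ∀ w ∈ W, ∑ i, w i ^ 2 = 0) ↔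
      IsSquare ((-1 : F) ^ m) := by
    refine Iff.trans ⟨?_, ?_⟩ key
    · rintro ⟨X, hX, h⟩
      refine ⟨X, hX, fun x hx y hy => ?_⟩
      have e := h _ (add_mem hx hy)
      simp only [Pi.add_apply, add_sq, Finset.sum_add_distrib, h x hx, h y hy, mul_assoc,
        ← Finset.mul_sum, add_zero, zero_add] at e
      rw [hB]
      exact (mul_eq_zero.1 e).resolve_left h2
    · rintro ⟨X, hX, h⟩
      refine ⟨X, hX, fun w hw => ?_⟩
      have e := h w hw w hw
      rw [hB] at e
      simpa [pow_two] using e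
  rw [h1]
  rcases Nat.even_or_odd m with hm2 | hm2
  · rw [hm2.neg_one_pow]
    exact iff_of_true IsSquare.one fun h => (Nat.not_even_iff_odd.2 h.2) hm2
  · rw [hm2.neg_one_pow, FiniteField.isSquare_neg_one_iff]
    exact ⟨fun h e => h e.1, fun h e => h ⟨e, hm2⟩⟩

end Cfsg.Agent.S0759
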