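import Cfsg.Statements.S0760
import Cfsg.Agent.Forms.Quadratic
-- import your own Cfsg.Agent.* helpers here

set_option autoImplicit false
open Cfsg

namespace Cfsg.Agent.S0760

/-- Witt index is well defined: if Q is a quadratic form on a finite-dimensional space V over a finite field with non-degenerate polar form, and W₁, W₂ are subspaces on which Q vanishes that are maximal with this property, then W₁ and W₂ have the same dimension, and twice this dimension is at most dim V. -/
theorem result {F V : Type*} [Field F] [Finite F] [AddCommGroup V] [Module F V] [FiniteDimensional F V] (Q : QuadraticForm F V) (hQ : (QuadraticMap.polarBilin Q).Nondegenerate) (W₁ W₂ : Submodule F V) (h₁ : ∀ w ∈ W₁, Q w = 0) (h₂ : ∀ w ∈ W₂, Q w = 0) (hmax₁ : ∀ W : Submodule F V, W₁ ≤ W → (∀ w ∈ W, Q w = 0) → W = W₁) (hmax₂ : ∀ W : Submodule F V, W₂ ≤ W → (∀ w ∈ W, Q w = 0) → W = W₂) : Module.finrank F W₁ = Module.finrank F W₂ ∧ 2 * Module.finrank F W₁ ≤ Module.finrank F V := by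
  have key : ∀ A A' : Submodule F V, (∀ w ∈ A, Q w = 0) → (∀ w ∈ A', Q w = 0) →
      (∀ W : Submodule F V, A ≤ W → (∀ w ∈ W, Q w = 0) → W = A) →
      Module.finrank F A ≤ Module.finrank F A' → Module.finrank F A = Module.finrank F A' := by
    intro A A' hA hA' hmax hle
    obtain ⟨i, hi⟩ : ∃ i : A →ₗ[F] A', Function.Injective i := by
      refine ⟨(Module.finBasis F A).constr F fun k => Module.finBasis F A' (Fin.castLE hle k), ?_⟩
      exact (Module.finBasis F A).injective_constr_of_linearIndependent
        ((Module.finBasis F A').linearIndependent.comp _ (Fin.castLE_injective hle))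
    obtain ⟨g, hg, hgA⟩ := CfsgLib.Forms.quad_witt hQ A (A'.subtype ∘ₗ i)
      (A'.injective_subtype.comp hi) (fun a => by
        change Q ((i a : A') : V) = Q (a : V)
        rw [hA' _ (i a).2, hA _ a.2])
    have := hmax (A'.comap g.toLinearMap) (fun a ha => by
        change g a ∈ A'
        rw [show g a = ((i ⟨a, ha⟩ : A') : V) from hgA ⟨a, ha⟩]
        exact (i ⟨a, ha⟩).2)
      (fun w hw => by rw [← hg w]; exact hA' _ hw)
    conv_lhs => rw [← this, Submodule.comap_equiv_eq_map_symm, LinearEquiv.finrank_map_eq]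
  refine ⟨?_, ?_⟩
  · rcases le_total (Module.finrank F W₁) (Module.finrank F W₂) with h | h
    · exact key W₁ W₂ h₁ h₂ hmax₁ h
    · exact (key W₂ W₁ h₂ h₁ hmax₂ h).symm
  · have hle : W₁ ≤ LinearMap.BilinForm.orthogonal (QuadraticMap.polarBilin Q) W₁ := by
      intro x hx y hy
      change QuadraticMap.polar Q y x = 0
      rw [QuadraticMap.polar, h₁ _ (W₁.add_mem hy hx), h₁ _ hy, h₁ _ hx]; ring
    have h3 := Submodule.finrank_mono hle
    rw [LinearMap.BilinForm.finrank_orthogonal hQ] at h3
    have := Submodule.finrank_le W₁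
    omega

end Cfsg.Agent.S0760
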