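import Cfsg.Statements.S0761
import Cfsg.Agent.Forms.OfBilin
-- import your own Cfsg.Agent.* helpers here

set_option autoImplicit false
open Cfsg

namespace Cfsg.Agent.S0761

/-- Hyperbolic partners: let B be a non-degenerate bilinear form on a finite-dimensional space, either alternating, or symmetric with 2 ≠ 0. If Z is a subspace on which B vanishes, x ∉ Z is isotropic and orthogonal to Z, then there is an isotropic y with B x y = 1 which is orthogonal to Z. -/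
theorem result {F V : Type*} [Field F] [AddCommGroup V] [Module F V] [FiniteDimensional F V] (B : LinearMap.BilinForm F V) (hB : B.Nondegenerate) (hform : B.IsAlt ∨ (B.IsSymm ∧ (2 : F) ≠ 0)) (x : V) (Z : Submodule F V) (hxZ : x ∉ Z) (hx : B x x = 0) (hxz : ∀ z ∈ Z, B x z = 0) (hZ : ∀ z ∈ Z, ∀ z' ∈ Z, B z z' = 0) : ∃ y : V, B y y = 0 ∧ B x y = 1 ∧ ∀ z ∈ Z, B z y = 0 := by
  have key : ∀ Φ : CfsgLib.Forms.RForm F V, Φ.Nondeg → (∀ u v, Φ.h u v = B u v) →
      ∃ y0, B x y0 = 1 ∧ ∀ z ∈ Z, B z y0 = 0 := by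
    intro Φ hΦ hh
    obtain ⟨u, hu1, hu2⟩ := Φ.exists_perp_one hΦ hxZ
    exact ⟨u, by rw [← hh, hu2], fun z hz => by rw [← hh, hu1 z hz]⟩
  rcases hform with hA | ⟨hS, h2⟩
  · obtain ⟨y, h1, h3⟩ := key (CfsgLib.Forms.ofAlt B hA) (CfsgLib.Forms.ofAlt_nondeg hB hA)
      (fun _ _ => rfl)
    exact ⟨y, hA y, h1, h3⟩
  · obtain ⟨y, h1, h3⟩ := key (CfsgLib.Forms.ofSymm B hS h2) (fun v hv => hB.2 v hv) (fun _ _ => rfl)
    refine ⟨y - (B y y / 2) • x, ?_, ?_, fun z hz => ?_⟩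
    · simp [map_sub, map_smul, hx, h1, show B y x = 1 by rw [hS.eq, h1]]
      field_simp
      ring
    · simp [hx, h1]
    · simp [h3 z hz, show B z x = 0 by rw [hS.eq, hxz z hz]]

end Cfsg.Agent.S0761
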