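import Cfsg.Statements.S0786
import Cfsg.Agent.Quad.Matrices
-- import your own Cfsg.Agent.* helpers here

set_option autoImplicit false
open Cfsg

namespace Cfsg.Agent.S0786

/-- Generation by reflections: if F is finite, Q is a quadratic form on F^n with non-degenerate polar form, and (|F|, n) ≠ (2, 4), then the isometry group of Q is generated by the reflections r_v, Q(v) ≠ 0. -/
theorem result {F : Type*} [Field F] [Fintype F] {n : ℕ} (Q : QuadraticForm F (Fin n → F)) (hQ : (QuadraticMap.polarBilin Q).Nondegenerate) (h : Fintype.card F ≠ 2 ∨ n ≠ 4) : Subgroup.closure {g : ↥(Cfsg.isometryGroup F ⇑Q) | ∃ v : Fin n → F, Q v ≠ 0 ∧ ((g : Matrix.GeneralLinearGroup (Fin n) F) : Matrix (Fin n) (Fin n) F) = Cfsg.reflectionMatrix ⇑Q v} = ⊤ := by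
  have hgen : (∃ t : F, t ≠ 0 ∧ t ≠ 1) ∨ Module.finrank F (Fin n → F) ≠ 4 := by
    rw [Module.finrank_fin_fun]
    rcases h with h | h
    · left
      have h3 : 2 < Fintype.card F := lt_of_le_of_ne Fintype.one_lt_card (Ne.symm h)
      by_contra! hc
      classical
      have hle : Fintype.card F ≤ 2 := by
        rw [← Finset.card_univ]
        refine le_trans (Finset.card_le_card (t := ({0, 1} : Finset F)) fun t _ => ?_) Finset.card_le_two
        by_cases ht : t = 0
        · simp [ht]
        · simp [hc t ht]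
      omega
    · exact Or.inr h
  refine eq_top_iff.mpr fun g _ => ?_
  have hg : CfsgLib.Quad.isoGroupEquiv Q g ∈ CfsgLib.Quad.reflGroup Q := by
    rw [CfsgLib.Quad.reflGroup_eq_top hQ hgen]; trivial
  rw [← (CfsgLib.Quad.isoGroupEquiv Q).symm_apply_apply g]
  refine Subgroup.closure_induction (p := fun x _ => (CfsgLib.Quad.isoGroupEquiv Q).symm x ∈ _)
    ?_ ?_ ?_ ?_ hg
  · rintro _ ⟨d, rfl⟩
    by_cases hd : Q d = 0
    · rw [CfsgLib.Quad.refl_eq_one hd, map_one]; exact one_mem _
    · refine Subgroup.subset_closure ⟨d, hd, ?_⟩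
      rw [← CfsgLib.Quad.isoGroupEquiv_eq_refl_iff, MulEquiv.apply_symm_apply]
  · rw [map_one]; exact one_mem _
  · intro x y _ _ hx hy; rw [map_mul]; exact mul_mem hx hy
  · intro x _ hx; rw [map_inv]; exact inv_mem hx

end Cfsg.Agent.S0786
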