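import Cfsg.Statements.S0790
import Cfsg.Agent.Quad.NegOne
-- import your own Cfsg.Agent.* helpers here

set_option autoImplicit false
open Cfsg

namespace Cfsg.Agent.S0790

/-- −1 ∈ Ω⁺_2m(q) iff q^m ≡ 1 (mod 4), for q odd and m ≥ 1 (so that in the other case SO⁺_2m(q) = 2 × Ω⁺_2m(q)). -/
theorem result {F : Type*} [Field F] [Fintype F] {q : ℕ} (hF : Fintype.card F = q) (hodd : Odd q) (m : ℕ) (hm : 1 ≤ m) : (∃ g : ↥(Cfsg.isometryGroup F (Cfsg.quadFormPlus m F)), g ∈ Cfsg.Omega F (Cfsg.quadFormPlus m F) ∧ ((g : Matrix.GeneralLinearGroup (Fin m ⊕ Fin m) F) : Matrix (Fin m ⊕ Fin m) (Fin m ⊕ Fin m) F) = -1) ↔ q ^ m % 4 = 1 := by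
  have h2 : (2 : F) ≠ 0 := by
    intro e
    haveI : CharP F 2 := CharTwo.of_one_ne_zero_of_two_eq_zero one_ne_zero e
    have h0 := FiniteField.even_card_of_char_two (F := F) (ringChar.eq F 2)
    rw [hF] at h0
    rcases hodd with ⟨r, rfl⟩
    omega
  have hq : Nat.card F = q := by rw [Nat.card_eq_fintype_card, hF]
  rw [← CfsgLib.Quad.plusQ_coe]
  obtain ⟨h1, h3, horth, hprod⟩ := CfsgLib.Quad.plusFam_spec (F := F) m
  have key : CfsgLib.Quad.negIso (CfsgLib.Quad.plusQ (F := F) m) ∈ commutator _ ↔ q ^ m % 4 = 1 := by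
    rw [CfsgLib.Quad.negIso_mem_commutator_iff (CfsgLib.Quad.plusQ_nondeg m) h2
      (CfsgLib.Quad.plusFam F m) (by simp) (by simp; omega) (by simp)
      (fun i => by rcases i with i | i <;> simp [h1, h3]) horth, hprod]
    exact CfsgLib.Quad.isSquare_neg_one_pow_iff hq hodd m
  constructor
  · rintro ⟨g, hg, hgm⟩
    have := (CfsgLib.Quad.mem_commutator_equiv (CfsgLib.Quad.isoGroupEquiv _) g).mpr hg
    rw [(CfsgLib.Quad.isoGroupEquiv_eq_negIso_iff _ g).mpr hgm] at this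
    exact key.mp this
  · intro h
    refine ⟨(CfsgLib.Quad.isoGroupEquiv _).symm (CfsgLib.Quad.negIso _), ?_, ?_⟩
    · refine (CfsgLib.Quad.mem_commutator_equiv (CfsgLib.Quad.isoGroupEquiv _) _).mp ?_
      rw [MulEquiv.apply_symm_apply]; exact key.mpr h
    · rw [← CfsgLib.Quad.isoGroupEquiv_eq_negIso_iff, MulEquiv.apply_symm_apply]

end Cfsg.Agent.S0790
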