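import Cfsg.Statements.S0791
import Cfsg.Agent.Quad.NegOne
-- import your own Cfsg.Agent.* helpers here

set_option autoImplicit false
open Cfsg

namespace Cfsg.Agent.S0791

/-- −1 ∈ Ω⁻_2m(q) iff q^m ≡ −1 (mod 4), for q odd and m ≥ 1; for the minus-type form quadFormMinus (m−1) with anisotropic binary part. -/
theorem result {F : Type*} [Field F] [Fintype F] {q : ℕ} (hF : Fintype.card F = q) (hodd : Odd q) (m : ℕ) (hm : 1 ≤ m) (a b : F) (hab : ∀ z₁ z₂ : F, z₁ ^ 2 + a * z₁ * z₂ + b * z₂ ^ 2 = 0 → z₁ = 0 ∧ z₂ = 0) : (∃ g : ↥(Cfsg.isometryGroup F (Cfsg.quadFormMinus (m - 1) F a b)), g ∈ Cfsg.Omega F (Cfsg.quadFormMinus (m - 1) F a b) ∧ ((g : Matrix.GeneralLinearGroup ((Fin (m - 1) ⊕ Fin (m - 1)) ⊕ Fin 2) F) : Matrix ((Fin (m - 1) ⊕ Fin (m - 1)) ⊕ Fin 2) ((Fin (m - 1) ⊕ Fin (m - 1)) ⊕ Fin 2) F) = -1) ↔ q ^ m % 4 = 3 := by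
  have h2 : (2 : F) ≠ 0 := by
    intro e
    haveI : CharP F 2 := CharTwo.of_one_ne_zero_of_two_eq_zero one_ne_zero e
    have h0 := FiniteField.even_card_of_char_two (F := F) (ringChar.eq F 2)
    rw [hF] at h0
    rcases hodd with ⟨r, rfl⟩
    omega
  have hq : Nat.card F = q := by rw [Nat.card_eq_fintype_card, hF]
  obtain ⟨k, rfl⟩ : ∃ k, m = k + 1 := ⟨m - 1, by omega⟩
  show (∃ g : ↥(Cfsg.isometryGroup F (Cfsg.quadFormMinus k F a b)), g ∈ Cfsg.Omega F (Cfsg.quadFormMinus k F a b) ∧ ((g : Matrix.GeneralLinearGroup ((Fin k ⊕ Fin k) ⊕ Fin 2) F) : Matrix ((Fin k ⊕ Fin k) ⊕ Fin 2) ((Fin k ⊕ Fin k) ⊕ Fin 2) F) = -1) ↔ q ^ (k + 1) % 4 = 3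
  rw [← CfsgLib.Quad.minusQ_coe]
  obtain ⟨h1, h3, horth, hprod⟩ := CfsgLib.Quad.plusFam_spec (F := F) k
  let fam : (Fin k ⊕ Fin k) ⊕ Fin 2 → ((Fin k ⊕ Fin k) ⊕ Fin 2 → F) :=
    Sum.elim (fun i => Sum.elim (CfsgLib.Quad.plusFam F k i) 0)
      (fun i => Sum.elim 0 (![![1, 0], ![-a, 2]] i))
  have hval : ∀ i, CfsgLib.Quad.minusQ k a b (fam (Sum.inl i)) =
      CfsgLib.Quad.plusQ k (CfsgLib.Quad.plusFam F k i) := fun i => by
    simp [fam, CfsgLib.Quad.minusQ_coe, CfsgLib.Quad.plusQ_coe, Cfsg.quadFormMinus, Cfsg.quadFormPlus]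
  have hv0 : CfsgLib.Quad.minusQ k a b (fam (Sum.inr 0)) = 1 := by
    simp [fam, CfsgLib.Quad.minusQ_coe, Cfsg.quadFormMinus]
  have hv1 : CfsgLib.Quad.minusQ k a b (fam (Sum.inr 1)) = 4 * b - a ^ 2 := by
    simp [fam, CfsgLib.Quad.minusQ_coe, Cfsg.quadFormMinus]; ring
  have hD := CfsgLib.Quad.disc_ne_zero hab
  have hnsq : ¬IsSquare (-(4 * b - a ^ 2)) := by
    rintro ⟨r, hr⟩
    have := (hab ((-a + r) / 2) 1 (by field_simp; linear_combination -hr)).2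
    exact one_ne_zero this
  have key : CfsgLib.Quad.negIso (CfsgLib.Quad.minusQ k a b) ∈ commutator _ ↔ q ^ (k + 1) % 4 = 3 := by
    rw [CfsgLib.Quad.negIso_mem_commutator_iff (CfsgLib.Quad.minusQ_nondeg hab k) h2 fam
      (by simp) (by simp) (by simp; exact ⟨k + 1, by omega⟩)
      (fun i => by
        rcases i with i | i
        · rw [hval]; rcases i with i | i <;> simp [h1, h3]
        · fin_cases i <;> simp [hv0, hv1, hD])
      (fun i j hij => by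
        rw [CfsgLib.Quad.polar_minusQ]
        rcases i with i | i <;> rcases j with j | j
        · simp only [fam, Sum.elim_inl, Sum.elim_comp_inl]
          rw [horth i j (fun e => hij (by rw [e]))]; simp
        · simp [fam]
        · simp [fam]
        · fin_cases i <;> fin_cases j <;> first | exact absurd rfl hij | (simp [fam]; ring))]
    rw [Fintype.prod_sum_type, Fin.prod_univ_two, hv0, hv1, one_mul]
    simp only [hval, hprod]
    have e : ((-1 : F) ^ k * (4 * b - a ^ 2)) = (-1) ^ (k + 1) * -(4 * b - a ^ 2) := by ring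
    rw [e, CfsgLib.Quad.isSquare_mul_iff h2 (pow_ne_zero _ (by simp)) (neg_ne_zero.mpr hD),
      iff_false_right hnsq, CfsgLib.Quad.isSquare_neg_one_pow_iff hq hodd]
    have : q ^ (k + 1) % 2 = 1 := Nat.odd_iff.mp hodd.pow
    omega
  constructor
  · rintro ⟨g, hg, hgm⟩
    have := (CfsgLib.Quad.mem_commutator_equiv (CfsgLib.Quad.isoGroupEquiv _) g).mpr hg
    rw [(CfsgLib.Quad.isoGroupEquiv_eq_negIso_iff _ g).mpr hgm] at this
    exact key.mp this
  · intro h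
    refine ⟨(CfsgLib.Quad.isoGroupEquiv _).symm (CfsgLib.Quad.negIso _), ?_, ?_⟩
    · refine (CfsgLib.Quad.mem_commutator_equiv (CfsgLib.Quad.isoGroupEquiv _) _).mp ?_
      rw [MulEquiv.apply_symm_apply]; exact key.mpr h
    · rw [← CfsgLib.Quad.isoGroupEquiv_eq_negIso_iff, MulEquiv.apply_symm_apply]

end Cfsg.Agent.S0791
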