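import Cfsg.Statements.S0792
import Cfsg.Agent.Quad.Matrices
-- import your own Cfsg.Agent.* helpers here

set_option autoImplicit false
open Cfsg

namespace Cfsg.Agent.S0792

/-- For q odd and Q with non-degenerate polar form on F^n, the determinant-one isometries form the subgroup generated by all products r_u r_v of two reflections (Q(u), Q(v) ≠ 0). -/
theorem result {F : Type*} [Field F] [Fintype F] (h2 : (2 : F) ≠ 0) {n : ℕ} (Q : QuadraticForm F (Fin n → F)) (hQ : (QuadraticMap.polarBilin Q).Nondegenerate) : Cfsg.specialIsometryGroup F ⇑Q = Subgroup.closure {g : ↥(Cfsg.isometryGroup F ⇑Q) | ∃ u v : Fin n → F, Q u ≠ 0 ∧ Q v ≠ 0 ∧ ((g : Matrix.GeneralLinearGroup (Fin n) F) : Matrix (Fin n) (Fin n) F) = Cfsg.reflectionMatrix ⇑Q u * Cfsg.reflectionMatrix ⇑Q v} := by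
  have key : ∀ g : ↥(Cfsg.isometryGroup F ⇑Q),
      g ∈ Cfsg.specialIsometryGroup F ⇑Q ↔ CfsgLib.Quad.isoGroupEquiv Q g ∈ CfsgLib.Quad.pairGroup Q := by
    intro g
    rw [← CfsgLib.Quad.ker_detO_eq_pairGroup hQ h2, MonoidHom.mem_ker, ← Units.val_inj,
      CfsgLib.Quad.det_isoGroupEquiv, Units.val_one]
    rw [Cfsg.specialIsometryGroup, MonoidHom.mem_ker, ← Units.val_inj, MonoidHom.comp_apply,
      Matrix.GeneralLinearGroup.val_det_apply, Units.val_one]
    rfl
  refine le_antisymm (fun g hg => ?_) ((Subgroup.closure_le _).mpr ?_)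
  · rw [← (CfsgLib.Quad.isoGroupEquiv Q).symm_apply_apply g]
    refine Subgroup.closure_induction (p := fun x _ => (CfsgLib.Quad.isoGroupEquiv Q).symm x ∈ _)
      ?_ ?_ ?_ ?_ ((key g).mp hg)
    · rintro _ ⟨u, v, hu, hv, rfl⟩
      refine Subgroup.subset_closure ⟨u, v, hu, hv, ?_⟩
      rw [map_mul, Subgroup.coe_mul, Matrix.GeneralLinearGroup.coe_mul]
      congr 1 <;> rw [← CfsgLib.Quad.isoGroupEquiv_eq_refl_iff, MulEquiv.apply_symm_apply]
    · rw [map_one]; exact one_mem _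
    · intro x y _ _ hx hy; rw [map_mul]; exact mul_mem hx hy
    · intro x _ hx; rw [map_inv]; exact inv_mem hx
  · rintro g ⟨u, v, hu, hv, hg⟩
    refine (key g).mpr (Subgroup.subset_closure ⟨u, v, hu, hv, ?_⟩)
    rw [CfsgLib.Quad.isoGroupEquiv_eq_iff]
    intro x
    rw [hg, ← Matrix.mulVec_mulVec, CfsgLib.Quad.reflectionMatrix_mulVec,
      CfsgLib.Quad.reflectionMatrix_mulVec]
    rfl

end Cfsg.Agent.S0792
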