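import Cfsg.Statements.S0793
import Cfsg.Agent.Quad.Matrices
-- import your own Cfsg.Agent.* helpers here

set_option autoImplicit false
open Cfsg

namespace Cfsg.Agent.S0793

/-- Root elements: if Q(u) = Q(v) = 0 and f(u, v) = 0 (f the polar form), then for every c the Siegel matrix T_(u,v)(c) preserves Q, fixes u and v, and T(c) T(d) = T(c + d). -/
theorem result {F : Type*} [Field F] {n : ℕ} (Q : QuadraticForm F (Fin n → F)) (u v : Fin n → F) (hu : Q u = 0) (hv : Q v = 0) (huv : QuadraticMap.polar ⇑Q u v = 0) : (∀ c x, Q ((Cfsg.siegelMatrix ⇑Q u v c).mulVec x) = Q x) ∧ (∀ c, (Cfsg.siegelMatrix ⇑Q u v c).mulVec u = u ∧ (Cfsg.siegelMatrix ⇑Q u v c).mulVec v = v) ∧ ∀ c d, Cfsg.siegelMatrix ⇑Q u v c * Cfsg.siegelMatrix ⇑Q u v d = Cfsg.siegelMatrix ⇑Q u v (c + d) := by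
  have hT := CfsgLib.Quad.siegelMatrix_mulVec Q u v
  refine ⟨fun c x => ?_, fun c => ⟨?_, ?_⟩, fun c d => ?_⟩
  · rw [hT, CfsgLib.Forms.quad_add]
    simp only [QuadraticMap.polar_smul_right, QuadraticMap.polar_add_right, CfsgLib.Forms.quad_smul,
      sub_eq_add_neg, CfsgLib.Forms.quad_add, QuadraticMap.polar_neg_left, QuadraticMap.polar_smul_left,
      QuadraticMap.map_neg, QuadraticMap.polar_neg_right, hu, hv, QuadraticMap.polar_comm (⇑Q) v u, huv,
      smul_eq_mul, mul_zero, zero_mul, neg_zero, add_zero]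
    ring
  · rw [hT, QuadraticMap.polar_self, hu, huv]; simp
  · rw [hT, QuadraticMap.polar_self, hv, QuadraticMap.polar_comm (⇑Q) v u, huv]; simp
  · refine Matrix.ext_iff_smul.mpr fun x => ?_
    rw [Matrix.smul_eq_mulVec, Matrix.smul_eq_mulVec, ← Matrix.mulVec_mulVec, hT, hT, hT]
    simp only [QuadraticMap.polar_add_left, QuadraticMap.polar_smul_left, QuadraticMap.polar_sub_left,
      QuadraticMap.polar_self, hu, hv, QuadraticMap.polar_comm (⇑Q) v u, huv, smul_eq_mul, smul_zero,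
      mul_zero, sub_zero, zero_sub, neg_zero, add_zero]
    module

end Cfsg.Agent.S0793
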