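import Cfsg.Statements.S0795
import Cfsg.Agent.Quad.SiegelMatrix
-- import your own Cfsg.Agent.* helpers here

set_option autoImplicit false
open Cfsg

namespace Cfsg.Agent.S0795

/-- Generation of Ω by root elements: for q odd, n ≥ 5 and Q with non-degenerate polar form on F^n, the commutator subgroup of the isometry group equals the subgroup generated by the isometries whose matrices are Siegel transformations T_(u,v)(c) with u, v singular and orthogonal. -/
theorem result {F : Type*} [Field F] [Fintype F] (h2 : (2 : F) ≠ 0) {n : ℕ} (hn : 5 ≤ n) (Q : QuadraticForm F (Fin n → F)) (hQ : (QuadraticMap.polarBilin Q).Nondegenerate) : Cfsg.Omega F ⇑Q = Subgroup.closure {g : ↥(Cfsg.isometryGroup F ⇑Q) | ∃ (u v : Fin n → F) (c : F), Q u = 0 ∧ Q v = 0 ∧ QuadraticMap.polar ⇑Q u v = 0 ∧ ((g : Matrix.GeneralLinearGroup (Fin n) F) : Matrix (Fin n) (Fin n) F) = Cfsg.siegelMatrix ⇑Q u v c} := by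
  set e := CfsgLib.Quad.isoGroupEquiv Q with he
  have hn' : 5 ≤ Module.finrank F (Fin n → F) := by rwa [Module.finrank_fin_fun]
  apply Subgroup.map_injective (f := e.toMonoidHom) e.injective
  rw [CfsgLib.Quad.commutator_map_equiv e, ← CfsgLib.Quad.siegelGroup_eq_commutator hQ hn',
    CfsgLib.Quad.siegelGroup_eq_closure_singular hQ hn', MonoidHom.map_closure]
  congr 1
  ext x
  constructor
  · rintro ⟨u, a, hu, ha, hua, rfl⟩
    refine ⟨e.symm (CfsgLib.Quad.siegel Q u a), ⟨u, a, 1, hu, ha, hua, ?_⟩, e.apply_symm_apply _⟩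
    rw [← CfsgLib.Quad.isoGroupEquiv_eq_siegel_iff Q _ hu ha hua 1, one_smul, ← he, e.apply_symm_apply]
  · rintro ⟨g, ⟨u, v, c, hu, hv, huv, hg⟩, rfl⟩
    refine ⟨u, c • v, hu, ?_, ?_, (CfsgLib.Quad.isoGroupEquiv_eq_siegel_iff Q g hu hv huv c).mpr hg⟩
    · rw [CfsgLib.Forms.quad_smul, hv, mul_zero]
    · rw [QuadraticMap.polar_smul_right, huv, smul_zero]

end Cfsg.Agent.S0795
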