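import Cfsg.Statements.S0796
import Mathlib.GroupTheory.GroupAction.Primitive
import Mathlib.GroupTheory.QuotientGroup.Basic
-- import your own Cfsg.Agent.* helpers here

set_option autoImplicit false
open Cfsg

namespace Cfsg.Agent.S0796

/-- If G is finite and acts faithfully and primitively on X, H is the stabiliser of a point, A is a normal subgroup of H whose normal closure in G is G, then for every non-trivial normal subgroup K of G the quotient G ⧸ K is isomorphic to A ⧸ B for some normal subgroup B of A. -/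
theorem result {G X : Type*} [Group G] [Finite G] [MulAction G X] [FaithfulSMul G X] (hprim : MulAction.IsPreprimitive G X) (x : X) (A : Subgroup G) (hA : A ≤ MulAction.stabilizer G x) (hAn : (A.subgroupOf (MulAction.stabilizer G x)).Normal) (hgen : Subgroup.normalClosure (A : Set G) = ⊤) (K : Subgroup G) [K.Normal] (hK : K ≠ ⊥) : ∃ (B : Subgroup A) (_ : B.Normal), Nonempty (G ⧸ K ≃* A ⧸ B) := by
  classical
  have hfix : MulAction.fixedPoints K X ≠ .univ := by
    intro h
    refine hK ((Subgroup.eq_bot_iff_forall K).2 fun k hk => ?_)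
    exact FaithfulSMul.eq_of_smul_eq_smul (α := X) fun y => by
      rw [one_smul]
      exact (Set.eq_univ_iff_forall.1 h y) ⟨k, hk⟩
  haveI := hprim
  haveI : MulAction.IsPretransitive K X := MulAction.IsQuasiPreprimitive.isPretransitive_of_normal hfix
  let π : A →* G ⧸ K := (QuotientGroup.mk' K).comp A.subtype
  have hsurj : Function.Surjective π := by
    have hle : Subgroup.normalClosure (A : Set G) ≤ π.range.comap (QuotientGroup.mk' K) := by
      rw [Subgroup.normalClosure, Subgroup.closure_le]
      intro z hz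
      obtain ⟨a, ha, hc⟩ := Group.mem_conjugatesOfSet_iff.1 hz
      obtain ⟨g, rfl⟩ := isConj_iff.1 hc
      obtain ⟨k, hk⟩ := MulAction.exists_smul_eq K x (g • x)
      have hh : (k : G)⁻¹ * g ∈ MulAction.stabilizer G x := by
        rw [MulAction.mem_stabilizer_iff, mul_smul, inv_smul_eq_iff]
        exact hk.symm
      have hmem : ((k : G)⁻¹ * g) * a * ((k : G)⁻¹ * g)⁻¹ ∈ A := by
        simpa [Subgroup.mem_subgroupOf] using hAn.conj_mem ⟨a, hA ha⟩ (Subgroup.mem_subgroupOf.2 ha) ⟨_, hh⟩
      refine ⟨⟨_, hmem⟩, ?_⟩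
      have hk1 : QuotientGroup.mk' K (k : G) = 1 := (QuotientGroup.eq_one_iff _).2 k.2
      change QuotientGroup.mk' K (((k : G)⁻¹ * g) * a * ((k : G)⁻¹ * g)⁻¹) = QuotientGroup.mk' K (g * a * g⁻¹)
      simp [map_mul, hk1]
    rintro ⟨y⟩
    have hy : y ∈ π.range.comap (QuotientGroup.mk' K) := hle (hgen ▸ Subgroup.mem_top y)
    exact hy
  exact ⟨π.ker, inferInstance, ⟨(QuotientGroup.quotientKerEquivOfSurjective π hsurj).symm⟩⟩

end Cfsg.Agent.S0796
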