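import Cfsg.Statements.S0798
import Cfsg.Agent.Quad.ReflClass
import Cfsg.Agent.Quad.Transport
-- import your own Cfsg.Agent.* helpers here

set_option autoImplicit false
open Cfsg

namespace Cfsg.Agent.S0798

/-- For q odd, n ≥ 2 even, Q with non-degenerate polar form (n, |F|) ≠ (4, 3), and a fixed c ≠ 0: the subgroup of the isometry group generated by the reflections r_v with Q(v) ∈ c·(F^×)² has index 2. -/
theorem result {F : Type*} [Field F] [Fintype F] (h2 : (2 : F) ≠ 0) {n : ℕ} (hn : 2 ≤ n) (heven : Even n) (Q : QuadraticForm F (Fin n → F)) (hQ : (QuadraticMap.polarBilin Q).Nondegenerate) (h43 : ¬ (n = 4 ∧ Fintype.card F = 3)) (c : F) (hc : c ≠ 0) : (Subgroup.closure {g : ↥(Cfsg.isometryGroup F ⇑Q) | ∃ (v : Fin n → F) (t : F), t ≠ 0 ∧ Q v = c * t ^ 2 ∧ ((g : Matrix.GeneralLinearGroup (Fin n) F) : Matrix (Fin n) (Fin n) F) = Cfsg.reflectionMatrix ⇑Q v}).index = 2 := by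
  have hfr : Module.finrank F (Fin n → F) = n := Module.finrank_fin_fun F
  have h : (∃ t : F, t ≠ 0 ∧ t ^ 2 ≠ 1) ∨ 6 ≤ n ∨ n = 2 := by
    by_cases ht : ∃ t : F, t ≠ 0 ∧ t ^ 2 ≠ 1
    · exact Or.inl ht
    push Not at ht
    classical
    have hcard : Fintype.card F ≤ 3 := by
      rw [← Finset.card_univ]
      refine le_trans (Finset.card_le_card (t := ({0, 1, -1} : Finset F)) fun t _ => ?_) Finset.card_le_three
      by_cases h0 : t = 0
      · simp [h0]
      · rcases sq_eq_one_iff.mp (ht t h0) with h1 | h1 <;> simp [h1]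
    have hodd := CfsgLib.Forms.odd_card_of_two_ne h2
    rw [Nat.card_eq_fintype_card] at hodd
    have h1lt : 1 < Fintype.card F := Fintype.one_lt_card
    have hn4 : n ≠ 4 := fun e => h43 ⟨e, by omega⟩
    obtain ⟨k, rfl⟩ := heven
    right
    omega
  have hidx := CfsgLib.Quad.classGroup_index hQ h2 (hn.trans_eq hfr.symm) hc
    (by rw [hfr]; obtain ⟨k, rfl⟩ := heven; omega) (by rwa [hfr])
  refine (Subgroup.index_map_equiv _ (CfsgLib.Quad.isoGroupEquiv Q)).symm.trans (Eq.trans ?_ hidx)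
  rw [MonoidHom.map_closure, CfsgLib.Quad.classGroup]
  congr 2
  ext x
  constructor
  · rintro ⟨g, ⟨v, t, ht, hv, hg⟩, rfl⟩
    exact ⟨v, by rw [hv]; exact mul_ne_zero hc (pow_ne_zero _ ht), ⟨c * t, by rw [hv]; ring⟩,
      (CfsgLib.Quad.isoGroupEquiv_eq_refl_iff Q g v).mpr hg⟩
  · rintro ⟨v, hv, ⟨r, hr⟩, rfl⟩
    refine ⟨(CfsgLib.Quad.isoGroupEquiv Q).symm (CfsgLib.Quad.refl Q v), ⟨v, r / c, ?_, ?_, ?_⟩,
      MulEquiv.apply_symm_apply _ _⟩
    · exact div_ne_zero (fun e => mul_ne_zero hc hv (by rw [hr, e, mul_zero])) hc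
    · field_simp; rw [pow_two, ← hr]; ring
    · rw [← CfsgLib.Quad.isoGroupEquiv_eq_refl_iff, MulEquiv.apply_symm_apply]

end Cfsg.Agent.S0798
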