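import Cfsg.Statements.S0802
import Cfsg.Agent.Classical.SmallSubPSL
import Cfsg.Agent.Classical.PSLTwo
-- import your own Cfsg.Agent.* helpers here

set_option autoImplicit false
open Cfsg

namespace Cfsg.Agent.S0802

/-- PSL_2(p^n) has a subgroup isomorphic to A_4 if and only if it is not the case that p = 2 and n is odd. -/
theorem result {F : Type*} [Field F] [Fintype F] (p n : ℕ) [Fact p.Prime] [CharP F p] (hF : Fintype.card F = p ^ n) : (∃ H : Subgroup (Matrix.ProjectiveSpecialLinearGroup (Fin 2) F), Nonempty (H ≃* alternatingGroup (Fin 4))) ↔ ¬ (p = 2 ∧ Odd n) := by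
  classical
  have hp : p.Prime := Fact.out
  rw [← Nat.card_eq_fintype_card] at hF
  constructor
  · rintro ⟨H, ⟨e⟩⟩ ⟨rfl, hn⟩
    have h12 : Nat.card H = 12 := by
      rw [Nat.card_congr e.toEquiv, nat_card_alternatingGroup, Nat.card_fin]
      decide
    have h3 : Nat.card F % 3 = 2 := by
      rw [hF]
      obtain ⟨k, rfl⟩ := hn
      rw [pow_succ, pow_mul, Nat.mul_mod, Nat.pow_mod]
      norm_num
    have hd : Nat.gcd 2 (Nat.card F - 1) = 1 := CfsgLib.Linear.PSLTwo.gcd_eq_one (by
      rw [hF]; exact (Nat.even_pow' (by rintro rfl; simp at hn)).2 even_two)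
    rcases CfsgLib.Dickson.psl_classification 2 H with ⟨P, -, hle⟩ | ⟨-, h, -⟩ |
      ⟨m, -, hm, -, hc, -⟩ | ⟨h, -⟩ | ⟨h, -⟩ | ⟨h, -⟩ | ⟨f, m, hf, hm, -, g | ⟨h, -⟩⟩
    · have hdvd := Subgroup.card_dvd_of_le hle
      rw [h12, CfsgLib.Linear.PSLTwo.card_normalizer, hd, Nat.div_one] at hdvd
      have h3' : 3 ∣ Nat.card F * (Nat.card F - 1) := (Dvd.intro 4 rfl).trans hdvd
      rcases (Nat.prime_three.dvd_mul).1 h3' with h | h <;> omega
    · rw [h12] at h; norm_num at h
    · rw [h12] at hc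
      exact hm (by omega)
    · omega
    · omega
    · exact h rfl
    · obtain ⟨g⟩ := g
      have hc := (Nat.card_congr g.toEquiv).symm.trans h12
      rw [CfsgLib.Linear.PSLTwo.card_pgl, GaloisField.card _ _ (by omega)] at hc
      rcases eq_or_lt_of_le hf with rfl | hf2
      · norm_num at hc
      · have h4 : 4 ≤ 2 ^ f := le_trans (by norm_num) (Nat.pow_le_pow_right two_pos hf2)
        have h16 : 15 ≤ (2 ^ f) ^ 2 - 1 :=
          Nat.le_sub_of_add_le (le_trans (by norm_num) (Nat.pow_le_pow_left h4 2))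
        have := Nat.mul_le_mul h4 h16
        omega
    · exact h rfl
  · intro h
    refine CfsgLib.Linear.SmallSub.exists_altFour fun h2 => ?_
    have hp2 : p = 2 := by
      have h' : ((2 : ℕ) : F) = 0 := by exact_mod_cast h2
      exact (Nat.prime_dvd_prime_iff_eq hp Nat.prime_two).1 ((CharP.cast_eq_zero_iff F p 2).1 h')
    subst hp2
    obtain ⟨k, rfl⟩ := Nat.not_odd_iff_even.1 fun ho => h ⟨rfl, ho⟩
    have h3 : Nat.card F % 3 = 1 := by
      rw [hF, ← two_mul, pow_mul, Nat.pow_mod]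
      norm_num
    have hq : 1 < Nat.card F := Finite.one_lt_card
    have := Fact.mk Nat.prime_three
    obtain ⟨w, hw⟩ := exists_prime_orderOf_dvd_card' (G := Fˣ) 3
      (by rw [Nat.card_units]; omega)
    refine ⟨(w : F), ?_⟩
    have hw3 : (w : F) ^ 3 = 1 := by
      rw [← Units.val_pow_eq_pow_val, ← hw, pow_orderOf_eq_one, Units.val_one]
    have hw1 : (w : F) - 1 ≠ 0 := sub_ne_zero.2 fun e => by
      rw [Units.val_eq_one.1 e, orderOf_one] at hw; norm_num at hw
    refine (mul_eq_zero.1 ?_).resolve_left hw1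
    linear_combination hw3

end Cfsg.Agent.S0802
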