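import Cfsg.Statements.S0803
import Cfsg.Agent.Classical.SmallSubPSL
import Mathlib.NumberTheory.LegendreSymbol.QuadraticChar.GaussSum
-- import your own Cfsg.Agent.* helpers here

set_option autoImplicit false
open Cfsg

namespace Cfsg.Agent.S0803

/-- PSL_2(q) has a subgroup isomorphic to S_4 iff q² ≡ 1 (mod 16). -/
theorem result {F : Type*} [Field F] [Fintype F] {q : ℕ} (hF : Fintype.card F = q) : (∃ H : Subgroup (Matrix.ProjectiveSpecialLinearGroup (Fin 2) F), Nonempty (H ≃* Equiv.Perm (Fin 4))) ↔ q ^ 2 % 16 = 1 := by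
  classical
  subst hF
  constructor
  · rintro ⟨H, ⟨e⟩⟩
    let g : H := e.symm CfsgLib.Linear.SmallSub.s4y
    have hord : orderOf CfsgLib.Linear.SmallSub.s4y = 4 := by
      refine orderOf_eq_prime_pow (p := 2) (n := 1) ?_ ?_ <;> decide +kernel
    have hg : orderOf (g : Matrix.ProjectiveSpecialLinearGroup (Fin 2) F) = 4 := by
      rw [Subgroup.orderOf_coe, MulEquiv.orderOf_eq, hord]
    obtain ⟨p, hp⟩ := CharP.exists F
    obtain ⟨n, hpp, hn⟩ := FiniteField.card F p
    have := Fact.mk hpp
    have hq : 1 < Fintype.card F := Fintype.one_lt_card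
    have hd := CfsgLib.PSL2Spec.orderOf_dvd p (g : Matrix.ProjectiveSpecialLinearGroup (Fin 2) F)
    rw [hg] at hd
    have hodd : Fintype.card F % 2 = 1 := by
      by_contra h0
      have hev : 2 ∣ Fintype.card F := by omega
      have hgcd : Nat.gcd 2 (Fintype.card F - 1) = 1 := by
        rcases (Nat.dvd_prime Nat.prime_two).1 (Nat.gcd_dvd_left 2 (Fintype.card F - 1)) with h | h
        · exact h
        · have := Nat.gcd_dvd_right 2 (Fintype.card F - 1)
          rw [h] at this
          omega
      rw [hgcd, Nat.div_one, Nat.div_one] at hd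
      rcases hd with h | h | h
      · rcases (Nat.dvd_prime hpp).1 h with h' | h'
        · omega
        · rw [← h'] at hpp; norm_num at hpp
      · omega
      · omega
    have hgcd : Nat.gcd 2 (Fintype.card F - 1) = 2 := Nat.gcd_eq_left (by omega)
    rw [hgcd] at hd
    rcases hd with h | h | h
    · rcases (Nat.dvd_prime hpp).1 h with h' | h'
      · omega
      · rw [← h'] at hpp; norm_num at hpp
    · obtain ⟨k, hk⟩ := h
      rw [show Fintype.card F = 8 * k + 1 by omega,
        show (8 * k + 1) ^ 2 = 16 * (4 * k * k + k) + 1 by ring]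
      omega
    · obtain ⟨k, hk⟩ := h
      obtain ⟨l, rfl⟩ : ∃ l, k = l + 1 := ⟨k - 1, by omega⟩
      rw [show Fintype.card F = 8 * l + 7 by omega,
        show (8 * l + 7) ^ 2 = 16 * (4 * l * l + 7 * l + 3) + 1 by ring]
      omega
  · intro h
    have h8 : Fintype.card F % 8 = 1 ∨ Fintype.card F % 8 = 7 := by
      rw [Nat.pow_mod] at h
      have : Fintype.card F % 16 < 16 := Nat.mod_lt _ (by norm_num)
      have e : Fintype.card F % 8 = (Fintype.card F % 16) % 8 := by omega
      rw [e]
      interval_cases Fintype.card F % 16 <;> simp at h ⊢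
    have hsq : IsSquare (2 : F) := FiniteField.isSquare_two_iff.2 (by omega)
    obtain ⟨s, hs⟩ := hsq
    have h2 : (2 : F) ≠ 0 := fun e => by
      have := FiniteField.even_card_of_char_two (F := F) (ringChar.eq_iff.2 (CharTwo.of_one_ne_zero_of_two_eq_zero one_ne_zero e))
      omega
    exact CfsgLib.Linear.SmallSub.exists_symFour h2 (show s ^ 2 = 2 by rw [pow_two, hs])

end Cfsg.Agent.S0803
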