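import Cfsg.Statements.S0804
import Cfsg.Agent.Classical.SmallSubPSL
import Cfsg.Agent.Classical.PSLTwo
-- import your own Cfsg.Agent.* helpers here

set_option autoImplicit false
open Cfsg

namespace Cfsg.Agent.S0804

/-- PSL_2(q) has a subgroup isomorphic to A_5 iff 5 ∣ q(q² − 1). -/
theorem result {F : Type*} [Field F] [Fintype F] {q : ℕ} (hF : Fintype.card F = q) : (∃ H : Subgroup (Matrix.ProjectiveSpecialLinearGroup (Fin 2) F), Nonempty (H ≃* alternatingGroup (Fin 5))) ↔ 5 ∣ q * (q ^ 2 - 1) := by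
  classical
  rw [← Nat.card_eq_fintype_card] at hF
  subst hF
  have hd := CfsgLib.Linear.PSLTwo.mul_card (F := F)
  constructor
  · rintro ⟨H, ⟨e⟩⟩
    have h5 : 5 ∣ Nat.card H := by
      rw [Nat.card_congr e.toEquiv, nat_card_alternatingGroup, Nat.card_fin]
      decide
    rw [← hd]
    exact (h5.trans H.card_subgroup_dvd_card).trans (dvd_mul_left _ _)
  · intro h
    rw [Nat.card_eq_fintype_card, ← CfsgLib.SL2C.card_SL2_mul] at h
    obtain ⟨t, ht⟩ := CfsgLib.Linear.SmallSub.exists_tau h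
    exact CfsgLib.Linear.SmallSub.exists_altFive ht

end Cfsg.Agent.S0804
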