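import Cfsg.Statements.S0805
import Cfsg.Agent.Classical.PSLTwoTorus
import Mathlib.Algebra.Ring.GeomSum
-- import your own Cfsg.Agent.* helpers here

set_option autoImplicit false
open Cfsg

namespace Cfsg.Agent.S0805

/-- Subfield subgroups: let F be a finite field of odd order q and K a finite field with |K|^m = q, m ≥ 1. Then PSL_2(F) has a subgroup isomorphic to PSL_2(K), and has a subgroup isomorphic to PGL_2(K) if and only if m is even. -/
theorem result {F K : Type*} [Field F] [Fintype F] [Field K] [Fintype K] {q : ℕ} (hF : Fintype.card F = q) (hodd : Odd q) (m : ℕ) (hm : 1 ≤ m) (hK : Fintype.card K ^ m = q) : (∃ H : Subgroup (Matrix.ProjectiveSpecialLinearGroup (Fin 2) F), Nonempty (H ≃* Matrix.ProjectiveSpecialLinearGroup (Fin 2) K)) ∧ ((∃ H : Subgroup (Matrix.ProjectiveSpecialLinearGroup (Fin 2) F), Nonempty (H ≃* Matrix.ProjGenLinGroup (Fin 2) K)) ↔ Even m) := by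
  classical
  rw [← Nat.card_eq_fintype_card] at hF hK
  subst hF
  obtain ⟨p, hp⟩ := CharP.exists F
  obtain ⟨n, hpp, hn⟩ := FiniteField.card F p
  have := Fact.mk hpp
  rw [← Nat.card_eq_fintype_card] at hn
  obtain ⟨r, hr⟩ := CharP.exists K
  obtain ⟨a, hrp, ha⟩ := FiniteField.card K r
  rw [← Nat.card_eq_fintype_card] at ha
  have hpow : r ^ ((a : ℕ) * m) = p ^ (n : ℕ) := by rw [pow_mul, ← ha, hK, hn]
  have hrp' : r = p := (Nat.prime_dvd_prime_iff_eq hrp hpp).1
    (hrp.dvd_of_dvd_pow (hpow ▸ dvd_pow_self r (Nat.mul_ne_zero a.pos.ne' (by omega))))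
  subst hrp'
  have hnam : (n : ℕ) = (a : ℕ) * m := (Nat.pow_right_injective hpp.two_le hpow).symm
  obtain ⟨φ₀⟩ := CfsgLib.Linear.PSLTwo.exists_hom_galois (F := F) r a n hn a.pos.ne'
    (hnam ▸ dvd_mul_right _ _)
  let _ : Algebra (ZMod r) K := ZMod.algebra K r
  let ε : K ≃+* GaloisField r a := (GaloisField.algEquivGaloisField r a ha).toRingEquiv
  let φ : K →+* F := φ₀.comp ε.toRingHom
  refine ⟨CfsgLib.Linear.PSLTwo.exists_subfield_psl φ, ⟨fun ⟨H, ⟨e⟩⟩ => ?_, fun hev => ?_⟩⟩
  · by_contra hno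
    have hdvd := H.card_subgroup_dvd_card
    rw [Nat.card_congr e.toEquiv] at hdvd
    change Nat.card (CfsgLib.Dickson.PGL2 K) ∣ Nat.card (CfsgLib.Dickson.PSL2 F) at hdvd
    rw [CfsgLib.Linear.PSLTwo.card_pgl] at hdvd
    have h2 := (Nat.mul_dvd_mul_left 2 hdvd).trans
      (CfsgLib.Linear.PSLTwo.two_mul_card_psl F hodd).dvd
    have hS := geom_sum_mul_of_one_le (R := ℕ) (x := Nat.card K ^ 2)
      (Nat.one_le_pow _ _ Nat.card_pos) m
    rw [← pow_mul, mul_comm 2 m, pow_mul, hK] at hS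
    have hKo : Odd (Nat.card K) := by
      rw [← hK] at hodd
      exact (Nat.odd_pow_iff (by omega)).1 hodd
    have hSo : Odd (∑ i ∈ Finset.range m, (Nat.card K ^ 2) ^ i) := by
      rw [Finset.odd_sum_iff_odd_card_odd, Finset.filter_true_of_mem (fun i _ => hKo.pow.pow),
        Finset.card_range]
      exact Nat.not_even_iff_odd.1 hno
    generalize ∑ i ∈ Finset.range m, (Nat.card K ^ 2) ^ i = S at hS hSo
    rw [← hS, ← mul_assoc, ← mul_assoc] at h2
    have h1 : 1 < Nat.card K ^ 2 := Nat.one_lt_pow two_ne_zero Finite.one_lt_card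
    have h3 := Nat.dvd_of_mul_dvd_mul_right (show 0 < Nat.card K ^ 2 - 1 by omega) h2
    exact absurd ((dvd_mul_right 2 _).trans h3)
      (Nat.two_dvd_ne_zero.2 (Nat.odd_iff.1 (hodd.mul hSo)))
  · refine CfsgLib.Linear.PSLTwo.exists_subfield_pgl φ fun x => ?_
    obtain ⟨j, rfl⟩ := hev
    have hchar : ringChar F ≠ 2 := by
      intro h
      have := FiniteField.even_card_of_char_two (F := F) h
      rw [← Nat.card_eq_fintype_card] at this
      obtain ⟨i, hi⟩ := hodd
      omega
    by_cases hx : x = 0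
    · subst hx
      rw [map_zero]
      exact IsSquare.zero
    rw [FiniteField.isSquare_iff hchar (fun h => hx (φ.injective (h.trans (map_zero φ).symm)))]
    have hxo : orderOf (Units.mk0 x hx) ∣ Nat.card K - 1 := by
      rw [← Nat.card_units]; exact orderOf_dvd_natCard _
    have hd : Nat.card K - 1 ∣ Fintype.card F / 2 := by
      rw [← Nat.card_eq_fintype_card, ← hK, ← two_mul, pow_mul]
      have hKo : Odd (Nat.card K) := by
        rw [← hK] at hodd
        exact (Nat.odd_pow_iff (by omega)).1 hodd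
      obtain ⟨i, hi⟩ := hKo
      have hd1 := Nat.sub_one_dvd_pow_sub_one (Nat.card K ^ 2) j
      have hsq : Nat.card K ^ 2 - 1 = (Nat.card K - 1) * (2 * (i + 1)) := by
        rw [CfsgLib.Linear.PSLTwo.sq_sub_one, hi]
        congr 1
      rw [hsq] at hd1
      obtain ⟨c, hc⟩ := hd1
      have hpos : 1 ≤ (Nat.card K ^ 2) ^ j := Nat.one_le_pow _ _ (pow_pos Nat.card_pos 2)
      refine ⟨(i + 1) * c, ?_⟩
      rw [show (Nat.card K ^ 2) ^ j = 2 * ((Nat.card K - 1) * ((i + 1) * c)) + 1 by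
        rw [show 2 * ((Nat.card K - 1) * ((i + 1) * c)) = (Nat.card K - 1) * (2 * (i + 1)) * c by ring]
        omega]
      omega
    rw [← map_pow]
    have := orderOf_dvd_iff_pow_eq_one.1 (hxo.trans hd)
    rw [show x ^ (Fintype.card F / 2) = 1 from by simpa using congrArg Units.val this, map_one]

end Cfsg.Agent.S0805
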