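import Cfsg.Statements.S0808
import Cfsg.Agent.Classical.PSLTwoFour
-- import your own Cfsg.Agent.* helpers here

set_option autoImplicit false
open Cfsg

namespace Cfsg.Agent.S0808

/-- Conjugacy classes of four-groups in PSL_2(q), q odd: if q ≡ 3 or 5 (mod 8) all Klein four-subgroups are conjugate; if q ≡ 1 or 7 (mod 8) there are two Klein four-subgroups which are not conjugate, and every Klein four-subgroup is conjugate to one of them. -/
theorem result {F : Type*} [Field F] [Fintype F] {q : ℕ} (hF : Fintype.card F = q) (hodd : Odd q) : ((q % 8 = 3 ∨ q % 8 = 5) → ∀ V W : Subgroup (Matrix.ProjectiveSpecialLinearGroup (Fin 2) F), IsKleinFour V → IsKleinFour W → ∃ g : Matrix.ProjectiveSpecialLinearGroup (Fin 2) F, W = V.map (MulAut.conj g).toMonoidHom) ∧ ((q % 8 = 1 ∨ q % 8 = 7) → ∃ V₁ V₂ : Subgroup (Matrix.ProjectiveSpecialLinearGroup (Fin 2) F), IsKleinFour V₁ ∧ IsKleinFour V₂ ∧ (¬ ∃ g : Matrix.ProjectiveSpecialLinearGroup (Fin 2) F, V₂ = V₁.map (MulAut.conj g).toMonoidHom)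 ∧ ∀ W : Subgroup (Matrix.ProjectiveSpecialLinearGroup (Fin 2) F), IsKleinFour W → (∃ g : Matrix.ProjectiveSpecialLinearGroup (Fin 2) F, W = V₁.map (MulAut.conj g).toMonoidHom) ∨ (∃ g : Matrix.ProjectiveSpecialLinearGroup (Fin 2) F, W = V₂.map (MulAut.conj g).toMonoidHom)) := by
  classical
  subst hF
  have := Fact.mk Nat.prime_two
  refine ⟨fun h8 V W hV hW => ?_, fun h8 => ?_⟩
  · obtain ⟨P₀⟩ : Nonempty (Sylow 2 (Matrix.ProjectiveSpecialLinearGroup (Fin 2) F)) := inferInstance
    have h4 : 2 ^ (Nat.card (Matrix.ProjectiveSpecialLinearGroup (Fin 2) F)).factorization 2 = 4 := by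
      rw [← P₀.card_eq_multiplicity]
      exact (CfsgLib.Linear.SylowTwoSL.isKleinFour_sylow_psl rfl h8 P₀).card_four
    have mkS : ∀ U : Subgroup (Matrix.ProjectiveSpecialLinearGroup (Fin 2) F), IsKleinFour U →
        ∃ P : Sylow 2 (Matrix.ProjectiveSpecialLinearGroup (Fin 2) F), (P : Subgroup _) = U :=
      fun U hU => ⟨Sylow.ofCard U (hU.card_four.trans h4.symm), Sylow.coe_ofCard _ _⟩
    obtain ⟨P, rfl⟩ := mkS V hV
    obtain ⟨Q, rfl⟩ := mkS W hW
    obtain ⟨g, hg⟩ := MulAction.exists_smul_eq (Matrix.ProjectiveSpecialLinearGroup (Fin 2) F) P Q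
    exact ⟨g, by rw [← hg]; rfl⟩
  have hnum := CfsgLib.Linear.FourGroups.count_klein (F := F) hodd
  let G := Matrix.ProjectiveSpecialLinearGroup (Fin 2) F
  have hN := CfsgLib.Linear.FourGroups.card_normalizer_klein (F := F) hodd h8
  have hG : 0 < Nat.card G := Nat.card_pos
  -- the class of a four-group
  let cls : Subgroup G → Set (Subgroup G) := fun V =>
    {W | ∃ g : G, W = V.map (MulAut.conj g).toMonoidHom}
  have hcls : ∀ V : Subgroup G, IsKleinFour V → 24 * (cls V).ncard = Nat.card G := by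
    intro V hV
    let f : G ⧸ Subgroup.normalizer (V : Set G) → cls V :=
      Quotient.lift (fun g => ⟨V.map (MulAut.conj g).toMonoidHom, g, rfl⟩) (fun a b hab => by
        replace hab : a⁻¹ * b ∈ Subgroup.normalizer (V : Set G) := QuotientGroup.leftRel_apply.1 hab
        apply Subtype.ext
        show V.map _ = V.map _
        have e : (MulAut.conj b).toMonoidHom =
            (MulAut.conj a).toMonoidHom.comp (MulAut.conj (a⁻¹ * b)).toMonoidHom := by
          refine MonoidHom.ext fun z => ?_; simp [mul_assoc]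
        rw [e, ← Subgroup.map_map]
        congr 1
        ext z
        constructor
        · intro hz
          refine ⟨(a⁻¹ * b)⁻¹ * z * (a⁻¹ * b), (Subgroup.mem_normalizer_iff.1 hab _).2 ?_, by simp; group⟩
          rw [show a⁻¹ * b * ((a⁻¹ * b)⁻¹ * z * (a⁻¹ * b)) * (a⁻¹ * b)⁻¹ = z by group]
          exact hz
        · rintro ⟨w, hw, rfl⟩
          exact (Subgroup.mem_normalizer_iff.1 hab w).1 hw)
    have hf : Function.Bijective f := by
      refine ⟨?_, ?_⟩
      · intro x y h
        induction x using QuotientGroup.induction_on with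
        | H a =>
          induction y using QuotientGroup.induction_on with
          | H b =>
            apply QuotientGroup.eq.2
            have e : V.map (MulAut.conj a).toMonoidHom = V.map (MulAut.conj b).toMonoidHom :=
              congrArg Subtype.val h
            refine Subgroup.mem_normalizer_fintype fun z hz => ?_
            obtain ⟨w, hw, hwe⟩ : b * z * b⁻¹ ∈ V.map (MulAut.conj a).toMonoidHom :=
              e ▸ ⟨z, hz, rfl⟩
            simp only [MulEquiv.coe_toMonoidHom, MulAut.conj_apply] at hwe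
            show a⁻¹ * b * z * (a⁻¹ * b)⁻¹ ∈ (V : Set G)
            rw [show a⁻¹ * b * z * (a⁻¹ * b)⁻¹ = a⁻¹ * (b * z * b⁻¹) * a by group, ← hwe,
              show a⁻¹ * (a * w * a⁻¹) * a = w by group]
            exact hw
      · rintro ⟨W, g, rfl⟩
        exact ⟨QuotientGroup.mk g, rfl⟩
    rw [← Nat.card_coe_set_eq, ← Nat.card_eq_of_bijective f hf, ← Subgroup.index_eq_card,
      ← hN V hV]
    exact Subgroup.card_mul_index _
  have hsub : ∀ V : Subgroup G, IsKleinFour V → cls V ⊆ {W | IsKleinFour W} := by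
    rintro V hV W ⟨g, rfl⟩
    have e := V.equivMapOfInjective (MulAut.conj g).toMonoidHom (MulAut.conj g).injective
    exact ⟨(Nat.card_congr e.toEquiv).symm.trans hV.card_four,
      (Monoid.exponent_eq_of_mulEquiv e).symm.trans hV.exponent_two⟩
  have hall : 12 * ({W : Subgroup G | IsKleinFour W}).ncard = Nat.card G := by
    rw [← Nat.card_coe_set_eq]; exact hnum
  obtain ⟨V₁, hV₁⟩ : {W : Subgroup G | IsKleinFour W}.Nonempty := by
    refine Set.nonempty_of_ncard_ne_zero fun h => ?_
    rw [h] at hall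
    omega
  have h1 := hcls V₁ hV₁
  obtain ⟨V₂, hV₂, hne⟩ : ∃ V₂ : Subgroup G, IsKleinFour V₂ ∧ V₂ ∉ cls V₁ := by
    obtain ⟨W, hW, hW'⟩ := Set.exists_mem_notMem_of_ncard_lt_ncard
      (show (cls V₁).ncard < ({W : Subgroup G | IsKleinFour W}).ncard by omega)
    exact ⟨W, hW, hW'⟩
  refine ⟨V₁, V₂, hV₁, hV₂, fun ⟨g, hg⟩ => hne ⟨g, hg⟩, fun W hW => ?_⟩
  have hdisj : Disjoint (cls V₁) (cls V₂) := by
    rw [Set.disjoint_left]
    rintro X ⟨a, rfl⟩ ⟨b, hb⟩
    refine hne ⟨b⁻¹ * a, ?_⟩
    have e1 : (MulAut.conj (b⁻¹ * a)).toMonoidHom =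
        (MulAut.conj b⁻¹).toMonoidHom.comp (MulAut.conj a).toMonoidHom := by
      refine MonoidHom.ext fun z => ?_; simp [mul_assoc]
    have e2 : (MulAut.conj b⁻¹).toMonoidHom.comp (MulAut.conj b).toMonoidHom = MonoidHom.id G := by
      refine MonoidHom.ext fun z => ?_; simp [mul_assoc]
    rw [e1, ← Subgroup.map_map, hb, Subgroup.map_map, e2, Subgroup.map_id]
  have hu : cls V₁ ∪ cls V₂ = {W : Subgroup G | IsKleinFour W} := by
    refine Set.eq_of_subset_of_ncard_le (Set.union_subset (hsub _ hV₁) (hsub _ hV₂)) ?_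
    rw [Set.ncard_union_eq hdisj (Set.toFinite _) (Set.toFinite _)]
    have h2 := hcls V₂ hV₂
    omega
  have : W ∈ cls V₁ ∪ cls V₂ := hu ▸ hW
  exact this

end Cfsg.Agent.S0808
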