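import Cfsg.Statements.S0809
import Cfsg.Agent.Classical.PSLTwoFour
-- import your own Cfsg.Agent.* helpers here

set_option autoImplicit false
open Cfsg

namespace Cfsg.Agent.S0809

/-- In SL_2(q), q odd: any two subgroups of order 4 are conjugate, and the normaliser of a subgroup of order 4 has order 2(q − 1) if q ≡ 1 (mod 4) and 2(q + 1) if q ≡ 3 (mod 4); consequently all involutions of PSL_2(q) are conjugate. -/
theorem result {F : Type*} [Field F] [Fintype F] {q : ℕ} (hF : Fintype.card F = q) (hodd : Odd q) (A : Subgroup (Matrix.SpecialLinearGroup (Fin 2) F)) (hA : Nat.card A = 4) : (∀ B : Subgroup (Matrix.SpecialLinearGroup (Fin 2) F), Nat.card B = 4 → ∃ g : Matrix.SpecialLinearGroup (Fin 2) F, B = A.map (MulAut.conj g).toMonoidHom) ∧ (q % 4 = 1 → Nat.card ↥(Subgroup.normalizer (A : Set (Matrix.SpecialLinearGroup (Fin 2) F))) = 2 * (q - 1)) ∧ (q % 4 = 3 → Nat.card ↥(Subgroup.normalizer (A : Set (Matrix.SpecialLinearGroup (Fin 2) F))) = 2 * (q + 1)) ∧ (∀ x y : Matrix.ProjectiveSpecialLinearGroup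 (Fin 2) F, orderOf x = 2 → orderOf y = 2 → IsConj x y) := by
  classical
  subst hF
  have h4 : Fintype.card F % 4 = 1 ∨ Fintype.card F % 4 = 3 := by obtain ⟨k, hk⟩ := hodd; omega
  refine ⟨fun B hB => CfsgLib.Linear.FourGroups.subgroups_four_conj hodd A B hA hB,
    fun h => ?_, fun h => ?_, fun x y hx hy => ?_⟩
  · rw [CfsgLib.Linear.FourGroups.card_normalizer_four hodd A hA, if_pos h]
  · rw [CfsgLib.Linear.FourGroups.card_normalizer_four hodd A hA, if_neg (by omega)]
  · have key : ∀ z : Matrix.ProjectiveSpecialLinearGroup (Fin 2) F, orderOf z = 2 → z * z = 1 ∧ z ≠ 1 := by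
      intro z hz
      refine ⟨by rw [← pow_two]; exact orderOf_dvd_iff_pow_eq_one.1 hz.dvd, fun e => ?_⟩
      rw [e, orderOf_one] at hz
      norm_num at hz
    exact CfsgLib.Linear.FourGroups.involutions_conj hodd (key x hx).1 (key x hx).2 (key y hy).1
      (key y hy).2

end Cfsg.Agent.S0809
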