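import Cfsg.Statements.S0810
import Cfsg.Agent.Classical.PSLTwoTorus
import Cfsg.Agent.Classical.SmallSubPSL
-- import your own Cfsg.Agent.* helpers here

set_option autoImplicit false
open Cfsg

namespace Cfsg.Agent.S0810

/-- PSL_2(q) is minimal simple iff q is 2^r (r prime), 3^r (r an odd prime), a prime greater than 5 congruent to 2 or 3 mod 5, or 5. -/
theorem result {F : Type*} [Field F] [Fintype F] {q : ℕ} (hF : Fintype.card F = q) : Cfsg.IsMinimalSimple (Matrix.ProjectiveSpecialLinearGroup (Fin 2) F) ↔ ((∃ r : ℕ, r.Prime ∧ q = 2 ^ r) ∨ (∃ r : ℕ, r.Prime ∧ r ≠ 2 ∧ q = 3 ^ r) ∨ (q.Prime ∧ 5 < q ∧ (q % 5 = 2 ∨ q % 5 = 3)) ∨ q = 5) := by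
  classical
  rw [← Nat.card_eq_fintype_card] at hF
  subst hF
  obtain ⟨p, hp⟩ := CharP.exists F
  obtain ⟨n, hpp, hn⟩ := FiniteField.card F p
  have := Fact.mk hpp
  rw [← Nat.card_eq_fintype_card] at hn
  have hp2 := hpp.two_le
  constructor
  · rintro ⟨hs, hna, hall⟩
    have hns : ¬ Group.IsSolvable (Matrix.ProjectiveSpecialLinearGroup (Fin 2) F) := fun h =>
      hna ⟨⟨IsSimpleGroup.comm_iff_isSolvable.2 h⟩⟩
    have h4 : 4 ≤ Nat.card F := by
      by_contra h
      exact hns (CfsgLib.Linear.PSLTwo.solvable_small _ rfl (by omega))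
    have hA5 : 5 ∣ Nat.card F * (Nat.card F ^ 2 - 1) → Nat.card F ≤ 5 := by
      intro h5
      by_contra hgt
      rw [Nat.card_eq_fintype_card, ← CfsgLib.SL2C.card_SL2_mul] at h5
      obtain ⟨t, ht⟩ := CfsgLib.Linear.SmallSub.exists_tau h5
      obtain ⟨H, ⟨e⟩⟩ := CfsgLib.Linear.SmallSub.exists_altFive ht
      have h60 : Nat.card H = 60 := by
        rw [Nat.card_congr e.toEquiv, nat_card_alternatingGroup, Nat.card_fin]
        decide
      have hne : H ≠ ⊤ := by
        intro h
        rw [h, Subgroup.card_top] at h60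
        have hc := CfsgLib.Linear.PSLTwo.mul_card (F := F)
        change Nat.gcd 2 _ * Nat.card (Matrix.ProjectiveSpecialLinearGroup (Fin 2) F) = _ at hc
        rw [h60] at hc
        have h36 : 6 ^ 2 - 1 ≤ Nat.card F ^ 2 - 1 :=
          Nat.sub_le_sub_right (Nat.pow_le_pow_left (by omega) 2) 1
        have := Nat.mul_le_mul (show 6 ≤ Nat.card F by omega) h36
        rcases CfsgLib.Linear.PSLTwo.gcd_cases (F := F) with h | h <;> rw [h] at hc <;> omega
      have := hall H hne
      refine Equiv.Perm.not_isSolvable (Fin 5) (by simp) ?_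
      have hA : Group.IsSolvable (alternatingGroup (Fin 5)) :=
        Group.isSolvable_of_isSolvable_injective (f := e.symm.toMonoidHom) e.symm.injective
      exact Group.isSolvable_of_ker_le_range (alternatingGroup (Fin 5)).subtype Equiv.Perm.sign
        (le_of_eq (Subgroup.range_subtype _).symm)
    have hsub : ∀ a : ℕ, a ∣ n → a < (n : ℕ) → p ^ a ≤ 3 := by
      intro a han hlt
      by_contra hgt
      have ha0 : a ≠ 0 := by rintro rfl; exact n.pos.ne' (Nat.zero_dvd.1 han)
      obtain ⟨φ⟩ := CfsgLib.Linear.PSLTwo.exists_hom_galois (F := F) p a n hn ha0 han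
      obtain ⟨H, ⟨e⟩⟩ := CfsgLib.Linear.PSLTwo.exists_subfield_psl φ
      have hgf : Nat.card (GaloisField p a) = p ^ a := GaloisField.card p a ha0
      have hns' := CfsgLib.Linear.PSLTwo.not_solvable (F := GaloisField p a) (by omega)
      have hne : H ≠ ⊤ := by
        intro h
        have e1 := Nat.card_congr e.toEquiv
        rw [h, Subgroup.card_top] at e1
        have c1 := CfsgLib.Linear.PSLTwo.mul_card (F := F)
        have c2 := CfsgLib.Linear.PSLTwo.mul_card (F := GaloisField p a)
        have hl : p ^ a < p ^ (n : ℕ) := Nat.pow_lt_pow_right hp2 hlt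
        change Nat.card (CfsgLib.Dickson.PSL2 F) = _ at e1
        rw [e1] at c1
        rw [hgf] at c2
        rw [hn] at c1
        have hg : Nat.gcd 2 (p ^ (n : ℕ) - 1) = Nat.gcd 2 (p ^ a - 1) := by
          by_cases h2 : p = 2
          · rw [← hn, CfsgLib.Linear.PSLTwo.gcd_eq_one, ← hgf, CfsgLib.Linear.PSLTwo.gcd_eq_one]
            · rw [hgf, h2]; exact (Nat.even_pow' ha0).2 even_two
            · rw [hn, h2]; exact (Nat.even_pow' n.pos.ne').2 even_two
          · rw [← hn, CfsgLib.Linear.PSLTwo.gcd_eq_two, ← hgf, CfsgLib.Linear.PSLTwo.gcd_eq_two]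
            · rw [hgf]; exact Odd.pow (hpp.odd_of_ne_two h2)
            · rw [hn]; exact Odd.pow (hpp.odd_of_ne_two h2)
        rw [hg, c2] at c1
        have h1 : (p ^ a) ^ 2 - 1 ≤ (p ^ (n : ℕ)) ^ 2 - 1 :=
          Nat.sub_le_sub_right (Nat.pow_le_pow_left hl.le 2) 1
        have h2 : 1 ≤ (p ^ a) ^ 2 - 1 :=
          Nat.le_sub_of_add_le (Nat.one_lt_pow two_ne_zero (by omega : 1 < p ^ a))
        exact absurd c1 (Nat.mul_lt_mul_of_lt_of_le hl h1 (by omega)).ne
      have := hall H hne
      exact hns' (Group.isSolvable_of_isSolvable_injective (f := e.symm.toMonoidHom) e.symm.injective)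
    have hprime : p ≤ 3 → (n : ℕ).Prime := by
      intro hp3
      have h2 : 2 ≤ (n : ℕ) := by
        by_contra h
        have : (n : ℕ) = 1 := by have := n.pos; omega
        rw [this, pow_one] at hn
        omega
      refine Nat.prime_def.2 ⟨h2, fun a ha => ?_⟩
      by_contra hne
      push Not at hne
      have hlt : a < (n : ℕ) := lt_of_le_of_ne (Nat.le_of_dvd n.pos ha) hne.2
      have ha2 : 2 ≤ a := by
        rcases Nat.eq_zero_or_pos a with rfl | h
        · exact absurd (Nat.zero_dvd.1 ha) n.pos.ne'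
        · omega
      have := hsub a ha hlt
      have : 2 ^ 2 ≤ p ^ a :=
        (Nat.pow_le_pow_left hp2 2).trans (Nat.pow_le_pow_right (by omega) ha2)
      omega
    rcases (show p = 2 ∨ p = 3 ∨ 4 ≤ p by omega) with h | h | h
    · subst h
      exact Or.inl ⟨n, hprime (by omega), hn⟩
    · subst h
      refine Or.inr (Or.inl ⟨n, hprime (by omega), fun h2 => ?_, hn⟩)
      rw [h2] at hn
      have := hA5 (by rw [hn]; decide)
      omega
    · have hn1 : (n : ℕ) = 1 := by
        by_contra h1
        have hlt : 1 < (n : ℕ) := by have := n.pos; omega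
        have := hsub 1 (one_dvd _) hlt
        rw [pow_one] at this
        omega
      rw [hn1, pow_one] at hn
      by_cases h5 : Nat.card F = 5
      · exact Or.inr (Or.inr (Or.inr h5))
      · refine Or.inr (Or.inr (Or.inl ⟨hn ▸ hpp, ?_, ?_⟩))
        · by_contra hle
          have h4' : p = 4 := by omega
          rw [h4'] at hpp
          norm_num at hpp
        · by_contra hmod
          have hp5 : p ≠ 5 := fun e => h5 (hn.trans e)
          have hle : 5 < Nat.card F := by
            by_contra hle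
            have h4' : p = 4 := by omega
            rw [h4'] at hpp
            norm_num at hpp
          have h0 : Nat.card F % 5 ≠ 0 := by
            intro h0
            rw [hn] at h0
            exact hp5 ((Nat.prime_dvd_prime_iff_eq (by norm_num) hpp).1 (Nat.dvd_of_mod_eq_zero h0)).symm
          have h14 : Nat.card F % 5 = 1 ∨ Nat.card F % 5 = 4 := by omega
          have := hA5 (Dvd.dvd.mul_left (by
            rw [CfsgLib.Linear.PSLTwo.sq_sub_one]
            rcases h14 with h | h
            · exact Dvd.dvd.mul_right (by omega) _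
            · exact Dvd.dvd.mul_left (by omega) _) _)
          omega
  · intro hcase
    have h4 : 4 ≤ Nat.card F := by
      rcases hcase with ⟨r, hr, h⟩ | ⟨r, hr, -, h⟩ | ⟨-, h, -⟩ | h
      · rw [h]; exact le_trans (by norm_num) (Nat.pow_le_pow_right (by norm_num) hr.two_le)
      · rw [h]; exact le_trans (by norm_num) (Nat.pow_le_pow_right (by norm_num) hr.two_le)
      · omega
      · omega
    refine ⟨CfsgLib.Linear.PSLTwo.isSimple h4, fun hc => ?_, ?_⟩
    · exact CfsgLib.Linear.PSLTwo.not_solvable h4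
        (Group.isSolvable_of_comm fun a b => hc.1.1 a b)
    have hpr : ∀ (b r : ℕ), b.Prime → r ≠ 0 → Nat.card F = b ^ r → p = b ∧ (n : ℕ) = r := by
      intro b r hb hr h
      have e : p ^ (n : ℕ) = b ^ r := hn.symm.trans h
      have hpb : p = b := (Nat.prime_dvd_prime_iff_eq hpp hb).1
        (hpp.dvd_of_dvd_pow (e ▸ dvd_pow_self p n.pos.ne'))
      subst hpb
      exact ⟨rfl, Nat.pow_right_injective hp2 e⟩
    have hfm : ∀ f m, Nat.card F = (p ^ f) ^ m → f * m = (n : ℕ) := by
      intro f m h
      rw [← pow_mul, hn] at h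
      exact (Nat.pow_right_injective hp2 h).symm
    intro H hH
    refine CfsgLib.Linear.PSLTwo.solvable_of_proper p ?_ ?_ H hH
    · rintro ⟨h2, h5, hd⟩
      have hq5 : Nat.card F % 5 = 2 ∨ Nat.card F % 5 = 3 := by
        rcases hcase with ⟨r, hr, h⟩ | ⟨r, hr, hr2, h⟩ | ⟨-, -, h⟩ | h
        · exact absurd (hpr 2 r Nat.prime_two hr.ne_zero h).1 h2
        · obtain ⟨k, rfl⟩ := hr.odd_of_ne_two hr2
          have h9 : ∀ i, (4 : ℕ) ^ i % 5 = 1 ∨ (4 : ℕ) ^ i % 5 = 4 := fun i => by
            induction i with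
            | zero => simp
            | succ i ih => rw [pow_succ, Nat.mul_mod]; rcases ih with e | e <;> rw [e] <;> simp
          rw [h, pow_succ, pow_mul, Nat.mul_mod, Nat.pow_mod]
          norm_num
          rw [Nat.mul_mod]
          rcases h9 k with e | e <;> rw [e] <;> norm_num
        · exact h
        · exact absurd (hpr 5 1 (by norm_num) one_ne_zero (by rw [h, pow_one])).1 h5
      rcases (Nat.Prime.dvd_mul (by norm_num : Nat.Prime 5)).1 hd with hd | hd
      · omega
      · have h1 : 1 ≤ Nat.card F ^ 2 := Nat.one_le_pow _ _ (by omega)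
        have hm : Nat.card F ^ 2 % 5 = 4 := by
          rw [Nat.pow_mod]
          rcases hq5 with h | h <;> rw [h] <;> rfl
        omega
    · intro f m hf hm hfq
      have hprod := hfm f m hfq
      rcases hcase with ⟨r, hr, h⟩ | ⟨r, hr, -, h⟩ | ⟨h, -, -⟩ | h
      · obtain ⟨h1, h2⟩ := hpr 2 r Nat.prime_two hr.ne_zero h
        rw [← h2, ← hprod] at hr
        rcases Nat.prime_mul_iff.1 hr with ⟨-, h'⟩ | ⟨-, h'⟩
        · omega
        · rw [h', h1]; norm_num
      · obtain ⟨h1, h2⟩ := hpr 3 r Nat.prime_three hr.ne_zero h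
        rw [← h2, ← hprod] at hr
        rcases Nat.prime_mul_iff.1 hr with ⟨-, h'⟩ | ⟨-, h'⟩
        · omega
        · rw [h', h1]; norm_num
      · obtain ⟨h1, h2⟩ := hpr _ 1 h one_ne_zero (pow_one _).symm
        rw [← hprod] at h2
        have := Nat.eq_one_of_mul_eq_one_left h2
        omega
      · obtain ⟨h1, h2⟩ := hpr 5 1 (by norm_num) one_ne_zero (by rw [h, pow_one])
        rw [← hprod] at h2
        have := Nat.eq_one_of_mul_eq_one_left h2
        omega

end Cfsg.Agent.S0810
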