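import Cfsg.Statements.S0811
import Cfsg.Agent.Classical.PSLTwoTorus
import Cfsg.Agent.Classical.SylowTwoSL
-- import your own Cfsg.Agent.* helpers here

set_option autoImplicit false
open Cfsg

namespace Cfsg.Agent.S0811

/-- For q ∉ {2, 7, 9}, PSL_2(q) has a maximal subgroup isomorphic to the dihedral group of order 2(q + 1)/d, d = gcd(2, q − 1). -/
theorem result {F : Type*} [Field F] [Fintype F] {q : ℕ} (hF : Fintype.card F = q) (hq : q ∉ ({2, 7, 9} : Finset ℕ)) : ∃ H : Subgroup (Matrix.ProjectiveSpecialLinearGroup (Fin 2) F), IsCoatom H ∧ Nonempty (H ≃* DihedralGroup ((q + 1) / Nat.gcd 2 (q - 1))) := by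
  classical
  rw [← Nat.card_eq_fintype_card] at hF
  subst hF
  obtain ⟨p, hp⟩ := CharP.exists F
  obtain ⟨n, hpp, hn⟩ := FiniteField.card F p
  have := Fact.mk hpp
  rw [← Nat.card_eq_fintype_card] at hn
  have hq1 : 1 < Nat.card F := Finite.one_lt_card
  have hodd : p ≠ 2 → Odd (Nat.card F) := fun h => by rw [hn]; exact Odd.pow (hpp.odd_of_ne_two h)
  have hev : p = 2 → Even (Nat.card F) := fun h => by
    rw [hn, h]
    exact (Nat.even_pow' n.pos.ne').2 even_two
  simp only [Finset.mem_insert, Finset.mem_singleton, not_or] at hq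
  by_cases h3 : Nat.card F = 3
  · have h3' : Fintype.card F = 3 := by rw [← Nat.card_eq_fintype_card, h3]
    have := Fact.mk Nat.prime_two
    obtain ⟨P⟩ : Nonempty (Sylow 2 (Matrix.ProjectiveSpecialLinearGroup (Fin 2) F)) := inferInstance
    have hK := CfsgLib.Linear.SylowTwoSL.isKleinFour_sylow_psl h3' (Or.inl rfl) P
    have hG : Nat.card (Matrix.ProjectiveSpecialLinearGroup (Fin 2) F) = 12 :=
      CfsgLib.Linear.PSLTwo.card_eq.trans (by rw [h3]; norm_num)
    refine ⟨P, ⟨fun h => ?_, fun M hM => ?_⟩, ?_⟩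
    · have := hK.card_four
      rw [h, Subgroup.card_top, hG] at this
      norm_num at this
    · have h4 : (4 : ℕ) ∣ Nat.card M := hK.card_four ▸ Subgroup.card_dvd_of_le hM.le
      have h12 : Nat.card M ∣ 12 := hG ▸ M.card_subgroup_dvd_card
      have hne : Nat.card M ≠ 4 := fun h =>
        hM.ne (Subgroup.eq_of_le_of_card_ge hM.le (by rw [hK.card_four, h]))
      have h1 := Nat.le_of_dvd (by norm_num) h12
      refine Subgroup.eq_top_of_le_card M ?_
      rw [hG]
      interval_cases Nat.card M <;> omega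
    · have := hK
      rw [show (Nat.card F + 1) / Nat.gcd 2 (Nat.card F - 1) = 2 by rw [h3]; rfl]
      exact IsKleinFour.nonempty_mulEquiv
  refine CfsgLib.Linear.PSLTwo.exists_maximal_dihedral p _ (Or.inr rfl) (by omega) ?_ ?_ ?_ ?_
  · rcases CfsgLib.Linear.PSLTwo.gcd_cases (F := F) with h | h
    · rw [h]; omega
    · have hd := Nat.gcd_dvd_right 2 (Nat.card F - 1)
      rw [h] at hd ⊢
      omega
  · intro h5 hk
    obtain ⟨j, hj⟩ := hodd (by omega)
    have e := CfsgLib.Linear.PSLTwo.gcd_eq_two ⟨j, hj⟩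
    rw [e] at hk ⊢
    omega
  · intro h2 h5
    obtain ⟨j, hj⟩ := hodd h2
    rw [CfsgLib.Linear.PSLTwo.gcd_eq_two ⟨j, hj⟩]
    by_contra hlt
    have hc : Nat.card F = 5 := by omega
    rw [hc] at hn
    exact h5 ((Nat.prime_dvd_prime_iff_eq hpp (by norm_num)).1 (hn ▸ dvd_pow_self p n.pos.ne'))
  · intro h m hm hm'
    obtain ⟨j, hj⟩ := hodd (by omega)
    rw [CfsgLib.Linear.PSLTwo.gcd_eq_two ⟨j, hj⟩]
    have : 3 ^ 2 ≤ Nat.card F := hm' ▸ Nat.pow_le_pow_right (by norm_num) hm
    omega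

end Cfsg.Agent.S0811
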