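import Cfsg.Statements.S0812
import Cfsg.Agent.Classical.PSLTwoTorus
-- import your own Cfsg.Agent.* helpers here

set_option autoImplicit false
open Cfsg

namespace Cfsg.Agent.S0812

/-- For q ∉ {2, 3, 5, 7, 9, 11}, PSL_2(q) has a maximal subgroup isomorphic to the dihedral group of order 2(q − 1)/d, d = gcd(2, q − 1). -/
theorem result {F : Type*} [Field F] [Fintype F] {q : ℕ} (hF : Fintype.card F = q) (hq : q ∉ ({2, 3, 5, 7, 9, 11} : Finset ℕ)) : ∃ H : Subgroup (Matrix.ProjectiveSpecialLinearGroup (Fin 2) F), IsCoatom H ∧ Nonempty (H ≃* DihedralGroup ((q - 1) / Nat.gcd 2 (q - 1))) := by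
  classical
  rw [← Nat.card_eq_fintype_card] at hF
  subst hF
  obtain ⟨p, hp⟩ := CharP.exists F
  obtain ⟨n, hpp, hn⟩ := FiniteField.card F p
  have := Fact.mk hpp
  rw [← Nat.card_eq_fintype_card] at hn
  have hq1 : 1 < Nat.card F := Finite.one_lt_card
  have hodd : p ≠ 2 → Odd (Nat.card F) := fun h => by rw [hn]; exact Odd.pow (hpp.odd_of_ne_two h)
  have hev : p = 2 → Even (Nat.card F) := fun h => by
    rw [hn, h]
    exact (Nat.even_pow' n.pos.ne').2 even_two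
  simp only [Finset.mem_insert, Finset.mem_singleton, not_or] at hq
  refine CfsgLib.Linear.PSLTwo.exists_maximal_dihedral p _ (Or.inl rfl) (by omega) ?_ ?_ ?_ ?_
  · by_cases h : p = 2
    · obtain ⟨j, hj⟩ := hev h
      rw [CfsgLib.Linear.PSLTwo.gcd_eq_one ⟨j, hj⟩]
      omega
    · obtain ⟨j, hj⟩ := hodd h
      rw [CfsgLib.Linear.PSLTwo.gcd_eq_two ⟨j, hj⟩]
      omega
  · intro h5 hk
    obtain ⟨j, hj⟩ := hodd (by omega)
    rw [CfsgLib.Linear.PSLTwo.gcd_eq_two ⟨j, hj⟩] at hk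
    omega
  · intro h2 h5
    obtain ⟨j, hj⟩ := hodd h2
    rw [CfsgLib.Linear.PSLTwo.gcd_eq_two ⟨j, hj⟩]
    omega
  · intro h m hm hm'
    obtain ⟨j, hj⟩ := hodd (by omega)
    rw [CfsgLib.Linear.PSLTwo.gcd_eq_two ⟨j, hj⟩]
    omega

end Cfsg.Agent.S0812
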