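import Cfsg.Statements.S0813
import Cfsg.Agent.AutPSL.Out

set_option autoImplicit false
open Cfsg

namespace Cfsg.Agent.S0813

/-- |Aut(PSL_n(q))|, q = p^f: for n ≥ 3 it is 2 f |PGL_n(q)|, and for n = 2 (q ≥ 4) it is f |PGL_2(q)|. -/
theorem result {F : Type*} [Field F] [Fintype F] (p f : ℕ) [Fact p.Prime] (hf : 1 ≤ f) (hF : Fintype.card F = p ^ f) (n : ℕ) (hn : 2 ≤ n) (h2 : n = 2 → 4 ≤ p ^ f) : Nat.card (MulAut (Matrix.ProjectiveSpecialLinearGroup (Fin n) F)) = (if n = 2 then 1 else 2) * f * Nat.card (Matrix.ProjGenLinGroup (Fin n) F) := by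
  obtain ⟨e⟩ := CfsgLib.AutPSL.nonempty_ringAut_equiv hf hF
  obtain ⟨E⟩ := CfsgLib.AutPSL.nonempty_inndiag_equiv_PGL (F := F) hn
  have he : Nat.card (RingAut F) = f := by
    rw [Nat.card_congr e.toEquiv, Nat.card_congr Multiplicative.toAdd, Nat.card_zmod]
  split_ifs with h
  · subst h
    rw [CfsgLib.AutPSL.card_eq_card_mul_ker _ CfsgLib.AutPSL.fieldData_surjective, CfsgLib.AutPSL.ker_fieldData,
      Nat.card_congr E.toEquiv, he, one_mul]
  · have h3 : 3 ≤ n := by omega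
    rw [CfsgLib.AutPSL.card_eq_card_mul_ker _ (CfsgLib.AutPSL.outData_surjective (F := F) h3), CfsgLib.AutPSL.ker_outData,
      Nat.card_congr E.toEquiv, Nat.card_prod, he, Nat.card_congr Multiplicative.toAdd, Nat.card_zmod]
    ring

end Cfsg.Agent.S0813
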