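import Cfsg.Statements.S0814
import Cfsg.Agent.AutPSp.Classes

set_option autoImplicit false
open Cfsg

namespace Cfsg.Agent.S0814

/-- |Aut(PSp_2m(q))| = gcd(2, q−1) · f · |PSp_2m(q)| for q = p^f, m ≥ 2, (m, q) ≠ (2, 2), with an extra factor 2 exactly when m = 2 and p = 2. -/
theorem result {F : Type*} [Field F] [Fintype F] (p f : ℕ) [Fact p.Prime] (hf : 1 ≤ f) (hF : Fintype.card F = p ^ f) (m : ℕ) (hm : 2 ≤ m) (h22 : m = 2 → 3 ≤ p ^ f) : Nat.card (MulAut (Cfsg.PSp m F)) = (if m = 2 ∧ p = 2 then 2 else 1) * Nat.gcd 2 (p ^ f - 1) * f * Nat.card (Cfsg.PSp m F) := by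
  have : NeZero m := ⟨by omega⟩
  obtain ⟨e⟩ := CfsgLib.AutPSL.nonempty_ringAut_equiv hf hF
  have he : Nat.card (RingAut F) = f := by
    rw [Nat.card_congr e.toEquiv, Nat.card_congr Multiplicative.toAdd, Nat.card_zmod]
  have hc := CfsgLib.AutPSp.card_semiGroup (F := F) (m := m)
  rw [Nat.card_eq_fintype_card (α := F), hF, he] at hc
  have hp : (p : F) = 0 := by
    have h0 : ((Fintype.card F : ℕ) : F) = 0 := FiniteField.cast_card_eq_zero F
    rw [hF, Nat.cast_pow] at h0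
    exact (pow_eq_zero_iff (by omega)).mp h0
  split_ifs with h
  · obtain ⟨rfl, rfl⟩ := h
    haveI : CharP F 2 := CharTwo.of_one_ne_zero_of_two_eq_zero one_ne_zero (by exact_mod_cast hp)
    have hi := CfsgLib.AutPSp.index_semiGroup_two (F := F)
    rw [← Subgroup.card_mul_index (CfsgLib.AutPSp.semiGroup 2 F), hi, hc]
    ring
  · have h2 : (2 : F) ≠ 0 ∨ 3 ≤ m := by
      by_cases hm3 : 3 ≤ m
      · exact Or.inr hm3
      · refine Or.inl fun h0 => h ⟨by omega, ?_⟩
        haveI : CharP F 2 := CharTwo.of_one_ne_zero_of_two_eq_zero one_ne_zero h0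
        have : 2 ∣ p := (CharP.cast_eq_zero_iff F 2 p).mp hp
        exact ((Nat.prime_dvd_prime_iff_eq Nat.prime_two Fact.out).mp this).symm
    rw [← Subgroup.card_mul_index (CfsgLib.AutPSp.semiGroup m F), CfsgLib.AutPSp.semiGroup_eq_top hm h2,
      Subgroup.index_top, mul_one, ← CfsgLib.AutPSp.semiGroup_eq_top hm h2, hc]
    ring

end Cfsg.Agent.S0814
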