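import Cfsg.Statements.S0817
import Cfsg.Agent.AutPOm.EightCard

set_option autoImplicit false
open Cfsg

namespace Cfsg.Agent.S0817

/-- |Aut(PΩ⁺_2m(q))| for q = p^f, m ≥ 4: |PΩ⁺_2m(q)| times f, times 3 when m = 4, times 2 if p = 2, and times 8 or 4 if p is odd according as m(q−1)/2 is even or odd. -/
theorem result {F : Type*} [Field F] [Fintype F] (p f : ℕ) [Fact p.Prime] (hf : 1 ≤ f) (hF : Fintype.card F = p ^ f) (m : ℕ) (hm : 4 ≤ m) : Nat.card (MulAut (Cfsg.POmega F (Cfsg.quadFormPlus m F))) = (if m = 4 then 3 else 1) * (if p = 2 then 2 else (if Even (m * (p ^ f - 1) / 2) then 8 else 4)) * f * Nat.card (Cfsg.POmega F (Cfsg.quadFormPlus m F)) := by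
  rw [← CfsgLib.Quad.plusQ_coe]
  have hF' : Nat.card F = p ^ f := Nat.card_eq_fintype_card.trans hF
  by_cases h4 : m = 4
  · subst h4
    rw [CfsgLib.AutPOm.card_aut_plus_four hf hF', if_pos rfl]
    congr 2
    by_cases hp : p = 2
    · rw [if_pos hp, if_pos hp]
    · rw [if_neg hp, if_neg hp, if_pos]
      rw [CfsgLib.AutPOm.even_mul_half_iff ((Fact.out : p.Prime).odd_of_ne_two hp).pow]
      exact fun h => absurd h.1 (by decide)
  · rw [CfsgLib.AutPOm.card_aut_plus hf hF' (by omega), if_neg h4, one_mul]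
    congr 2
    by_cases hp : p = 2
    · rw [if_pos hp, if_pos hp]
    · rw [if_neg hp, if_neg hp]
      have hodd : Odd (p ^ f) := ((Fact.out : p.Prime).odd_of_ne_two hp).pow
      by_cases hc : Odd m ∧ p ^ f % 4 = 3
      · rw [if_pos hc, if_neg fun h => (CfsgLib.AutPOm.even_mul_half_iff hodd m).mp h hc]
      · rw [if_neg hc, if_pos ((CfsgLib.AutPOm.even_mul_half_iff hodd m).mpr hc)]

end Cfsg.Agent.S0817
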