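import Cfsg.Statements.S0821
import Cfsg.Agent.Quad.TwoRankLower
import Cfsg.Agent.Classical.TwoRankPSp
-- import your own Cfsg.Agent.* helpers here

set_option autoImplicit false
open Cfsg

namespace Cfsg.Agent.S0821

/-- PSp_2m(q) ≇ PΩ_(2m+1)(q) for q odd and m ≥ 3 (they have the same order). -/
theorem result {F : Type*} [Field F] [Fintype F] (hodd : Odd (Fintype.card F)) (m : ℕ) (hm : 3 ≤ m) : IsEmpty (Cfsg.PSp m F ≃* Cfsg.POmega F (Cfsg.quadFormOdd m F)) := by
  have h2 : (2 : F) ≠ 0 := by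
    intro e
    haveI : CharP F 2 := CharTwo.of_one_ne_zero_of_two_eq_zero one_ne_zero e
    have h0 := FiniteField.even_card_of_char_two (F := F) (ringChar.eq F 2)
    rcases hodd with ⟨r, hr⟩
    omega
  rw [← CfsgLib.Quad.oddQ_coe]
  refine ⟨fun φ => ?_⟩
  set Q := CfsgLib.Quad.oddQ (F := F) m
  have hQ := CfsgLib.Quad.oddQ_nondeg (F := F) h2 m
  have hn : Module.finrank F (Unit ⊕ (Fin m ⊕ Fin m) → F) = 2 * m + 1 := by simp; omega
  obtain ⟨E, hEle, hE2, hEc, hEcard⟩ := CfsgLib.Quad.exists_elementary hQ h2 m hn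
  have hcen := CfsgLib.Quad.card_center_omega_one hQ (by omega)
    (Or.inr (CfsgLib.Quad.negIso_notMem_of_odd (Q := Q) h2 ⟨m, hn⟩))
  let ψ : E →* Cfsg.PSp m F := φ.symm.toMonoidHom.comp
    ((CfsgLib.Quad.pOmegaEquiv Q).symm.toMonoidHom.comp
      ((QuotientGroup.mk' _).comp (Subgroup.inclusion hEle)))
  have hψ : Function.Injective ψ := by
    refine φ.symm.injective.comp ((CfsgLib.Quad.pOmegaEquiv Q).symm.injective.comp ?_)
    intro x y e
    have h1 := QuotientGroup.eq.mp e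
    rw [Subgroup.eq_bot_of_card_eq _ hcen, Subgroup.mem_bot, inv_mul_eq_one] at h1
    exact Subgroup.inclusion_injective hEle h1
  have h := CfsgLib.Symp.TwoRank.card_elementary_le h2 hm ψ.range
    (by rintro _ ⟨x, rfl⟩; rw [← map_mul, show x * x = 1 from Subtype.ext (hE2 _ x.2), map_one])
    (by
      rintro _ ⟨x, rfl⟩ _ ⟨y, rfl⟩
      rw [← map_mul, ← map_mul, show x * y = y * x from Subtype.ext (hEc _ x.2 _ y.2)])
  rw [← Nat.card_congr (MonoidHom.ofInjective hψ).toEquiv] at h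
  omega

end Cfsg.Agent.S0821
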