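import Cfsg.Statements.S0829
import Cfsg.Agent.Unitary.Isotropic
-- import your own Cfsg.Agent.* helpers here

set_option autoImplicit false
open Cfsg

namespace Cfsg.Agent.S0829

/-- The unitary quadrangle of PSU_4(q): with |F| = q², the number of 2-dimensional subspaces of F^4 on which the Hermitian form Σ x_i y_i^q vanishes is (q + 1)(q³ + 1). -/
theorem result {F : Type*} [Field F] [Fintype F] {q : ℕ} (hF : Fintype.card F = q ^ 2) : Nat.card {W : Submodule F (Fin 4 → F) // Module.finrank F W = 2 ∧ ∀ u ∈ W, ∀ v ∈ W, Cfsg.hermForm 4 F q u v = 0} = (q + 1) * (q ^ 3 + 1) := by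
  have hF' : Nat.card F = q ^ 2 := by rw [Nat.card_eq_fintype_card, hF]
  have hq := CfsgLib.Forms.two_le_q hF'
  have h1 := congrArg (Nat.cast : ℕ → ℤ) (CfsgLib.Unitary.card_isoSub hF' (n := 4) (k := 2))
  have h2 := CfsgLib.Unitary.numTuple_eq (F := F) hF' (n := 4) (k := 2) (by norm_num)
  have hle : q ^ 2 ≤ (q ^ 2) ^ 2 := Nat.le_self_pow two_ne_zero _
  have hle1 : 1 ≤ (q ^ 2) ^ 2 := Nat.one_le_pow _ _ (Nat.pos_of_ne_zero (by positivity))
  simp only [Fin.prod_univ_two, Fin.val_zero, Fin.val_one, pow_zero, pow_one] at h1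
  push_cast [Nat.cast_sub hle, Nat.cast_sub hle1] at h1
  rw [← h1] at h2
  change Nat.card (CfsgLib.Unitary.IsoSub q 4 2 F) = _
  norm_num [CfsgLib.Unitary.guz, Finset.prod_range_succ, -Nat.card_eq_fintype_card] at h2
  have hz : (2 : ℤ) ≤ q := by exact_mod_cast hq
  zify
  apply mul_left_cancel₀ (show ((q : ℤ) ^ 2) ^ 2 - 1 ≠ 0 by nlinarith)
  apply mul_left_cancel₀ (show ((q : ℤ) ^ 2) ^ 2 - (q : ℤ) ^ 2 ≠ 0 by nlinarith)
  apply mul_left_cancel₀ (show (q : ℤ) ≠ 0 by omega)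
  apply mul_left_cancel₀ (show (q : ℤ) ≠ 0 by omega)
  apply mul_left_cancel₀ (show (q : ℤ) ≠ 0 by omega)
  apply mul_left_cancel₀ (show (q : ℤ) ≠ 0 by omega)
  linear_combination h2

end Cfsg.Agent.S0829
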