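import Cfsg.Statements.S0832
import Cfsg.Agent.Classical.MaxSingular
-- import your own Cfsg.Agent.* helpers here

set_option autoImplicit false
open Cfsg

namespace Cfsg.Agent.S0832

/-- For the form Σ x_i y_i on F^(2m) over a finite field, m ≥ 1: an (m−1)-dimensional subspace on which the form vanishes is contained in exactly two m-dimensional subspaces on which it vanishes. -/
theorem result {F : Type*} [Field F] [Finite F] (m : ℕ) (hm : 1 ≤ m) (U : Submodule F (Fin m ⊕ Fin m → F)) (hU : Module.finrank F U + 1 = m ∧ ∀ u ∈ U, Cfsg.quadFormPlus m F u = 0) : Nat.card {W : Submodule F (Fin m ⊕ Fin m → F) // Module.finrank F W = m ∧ (∀ w ∈ W, Cfsg.quadFormPlus m F w = 0) ∧ U ≤ W} = 2 := by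
  have hQ := CfsgLib.Quad.plusQ_nondeg (F := F) m
  have hV := CfsgLib.Linear.MaxSing.finrank_space F m
  simp only [← CfsgLib.Quad.plusQ_coe] at hU ⊢
  obtain ⟨W₁, W₂, hne, hW₁, hW₂, hU₁, hU₂, -, honly⟩ :=
    CfsgLib.Linear.MaxSing.exists_two hQ hV (CfsgLib.Linear.MaxSing.isMax_inl F m) hU.1 hU.2
  refine Nat.card_eq_two_iff.2 ⟨⟨W₁, hW₁.1, hW₁.2, hU₁⟩, ⟨W₂, hW₂.1, hW₂.2, hU₂⟩,
    fun e => hne (congrArg Subtype.val e), Set.eq_univ_of_forall fun W => ?_⟩
  rcases honly W.1 ⟨W.2.1, W.2.2.1⟩ W.2.2.2 with h | h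
  · exact Or.inl (Subtype.ext h)
  · exact Or.inr (Subtype.ext h)

end Cfsg.Agent.S0832
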