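import Cfsg.Statements.S0835
import Cfsg.Agent.Classical.SplitForm
-- import your own Cfsg.Agent.* helpers here

set_option autoImplicit false
open Cfsg

namespace Cfsg.Agent.S0835

/-- Over a finite field with 2 ≠ 0: if B₁ on U (dim 2k, k ≥ 1) is non-degenerate symmetric of minus type (no totally isotropic k-subspace) and B₂ on W (dim 2l + 1) is non-degenerate symmetric, then B₁ ⊗ B₂ (dimension 2k(2l+1)) admits no totally isotropic subspace of dimension k(2l+1) (minus type). -/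
theorem result {F U W : Type*} [Field F] [Fintype F] [AddCommGroup U] [Module F U] [FiniteDimensional F U] [AddCommGroup W] [Module F W] [FiniteDimensional F W] (h2 : (2 : F) ≠ 0) (B₁ : LinearMap.BilinForm F U) (B₂ : LinearMap.BilinForm F W) (h₁ : B₁.Nondegenerate) (h₂ : B₂.Nondegenerate) (hS₁ : B₁.IsSymm) (hS₂ : B₂.IsSymm) (k l : ℕ) (hk : 1 ≤ k) (hU : Module.finrank F U = 2 * k) (hW : Module.finrank F W = 2 * l + 1) (hm₁ : ¬ (∃ X : Submodule F (U), Module.finrank F X = k ∧ ∀ x ∈ X, ∀ y ∈ X, (B₁) x y = 0)) : ¬ (∃ X : Submodule F (TensorProduct F U W), Module.finrank F X = k * (2 * l + 1) ∧ ∀ x ∈ X, ∀ y ∈ X, (B₁.tmul B₂) x y = 0) := by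
  classical
  set b := Module.finBasis F U
  set c := Module.finBasis F W
  have hN := CfsgLib.Linear.SplitForm.nondeg_tmul B₁ B₂ b c h₁ h₂
  have hS : LinearMap.BilinForm.IsSymm (B₁.tmul B₂) :=
    ⟨fun u v => LinearMap.IsSymm.eq (LinearMap.IsSymm.tmul ⟨hS₁.eq⟩ ⟨hS₂.eq⟩) u v⟩
  set d₁ := (LinearMap.BilinForm.toMatrix b B₁).det
  set d₂ := (LinearMap.BilinForm.toMatrix c B₂).det
  have hd : (LinearMap.BilinForm.toMatrix (b.tensorProduct c) (B₁.tmul B₂)).det =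
      d₁ ^ Module.finrank F W * d₂ ^ Module.finrank F U := by
    rw [CfsgLib.Linear.SplitForm.toMatrix_tmul, Matrix.det_kronecker, Fintype.card_fin,
      Fintype.card_fin]
  have hd₁ : d₁ ≠ 0 := (LinearMap.BilinForm.nondegenerate_iff_det_ne_zero b).1 h₁
  have hd₂ : d₂ ≠ 0 := (LinearMap.BilinForm.nondegenerate_iff_det_ne_zero c).1 h₂
  rw [CfsgLib.Linear.SplitForm.exists_iso_iff h2 _ hS hN (b.tensorProduct c) (k * (2 * l + 1))
    (by rw [Fintype.card_prod, Fintype.card_fin, Fintype.card_fin, hU, hW]; ring)]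
  rw [CfsgLib.Linear.SplitForm.exists_iso_iff h2 B₁ hS₁ h₁ b k (by rw [Fintype.card_fin, hU])] at hm₁
  intro hsq
  apply hm₁
  rw [hd, hU, hW, show (-1 : F) ^ (k * (2 * l + 1)) * (d₁ ^ (2 * l + 1) * d₂ ^ (2 * k)) =
    (-1) ^ k * d₁ * ((-1) ^ (k * l) * d₁ ^ l * d₂ ^ k) ^ 2 by ring,
    CfsgLib.Linear.SplitForm.isSquare_sq_mul (mul_ne_zero (mul_ne_zero (pow_ne_zero _ (neg_ne_zero.2 one_ne_zero))
      (pow_ne_zero _ hd₁)) (pow_ne_zero _ hd₂))] at hsq
  exact hsq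

end Cfsg.Agent.S0835
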