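import Cfsg.Statements.S0838
import Cfsg.Agent.Forms.Classify
-- import your own Cfsg.Agent.* helpers here

set_option autoImplicit false
open Cfsg

namespace Cfsg.Agent.S0838

/-- Over a finite field with 2 ≠ 0 and n odd: two quadratic forms Q₁, Q₂ on F^n with non-degenerate polar forms are similar — there are an invertible linear map g and a scalar c ≠ 0 with Q₂ (g v) = c · Q₁ v for all v. -/
theorem result {F : Type*} [Field F] [Fintype F] (h2 : (2 : F) ≠ 0) {n : ℕ} (hn : Odd n) (Q₁ Q₂ : QuadraticForm F (Fin n → F)) (h₁ : (QuadraticMap.polarBilin Q₁).Nondegenerate) (h₂ : (QuadraticMap.polarBilin Q₂).Nondegenerate) : ∃ (g : (Fin n → F) ≃ₗ[F] (Fin n → F)) (c : F), c ≠ 0 ∧ ∀ v, Q₂ (g v) = c * Q₁ v := by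
  obtain ⟨N, rfl⟩ : ∃ N, n = N + 1 := Nat.exists_eq_succ_of_ne_zero (by rintro rfl; simp at hn)
  obtain ⟨α, hα⟩ := FiniteField.exists_nonsquare (F := F) (fun h => h2 (by
    haveI : CharP F 2 := ringChar.of_eq h
    exact CharP.cast_eq_zero F 2))
  have hα0 : α ≠ 0 := by rintro rfl; exact hα ⟨0, by simp⟩
  let V := Fin (N + 1) → F
  have hfr : Module.finrank F V = N + 1 := Module.finrank_fin_fun F
  have hsym : ∀ Q : QuadraticForm F V,
      LinearMap.BilinForm.IsSymm (QuadraticMap.polarBilin Q : LinearMap.BilinForm F V) :=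
    fun Q => ⟨fun u v => QuadraticMap.polar_comm Q u v⟩
  let w : F → Fin (N + 1) → F := fun d i => if i = Fin.last N then d else 1
  have hnd : ∀ c : F, c ≠ 0 → LinearMap.BilinForm.Nondegenerate
      (c • QuadraticMap.polarBilin Q₂) := by
    intro c hc
    exact ⟨fun v hv => h₂.1 v fun u => (mul_eq_zero.mp (hv u)).resolve_left hc,
      fun v hv => h₂.2 v fun u => (mul_eq_zero.mp (hv u)).resolve_left hc⟩
  have hbasis : ∀ B : LinearMap.BilinForm F V, B.IsSymm → B.Nondegenerate →
      ∃ (b : Module.Basis (Fin (N + 1)) F V) (d : F), (d = 1 ∨ d = α) ∧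
        ∀ i j, B (b i) (b j) = if i = j then w d i else 0 := by
    intro B hS hB
    obtain ⟨b, hb1, hb2, hb3⟩ := CfsgLib.Forms.exists_symm_basis h2 hα N V B hS hB hfr
    refine ⟨b, _, hb3, fun i j => ?_⟩
    by_cases e : i = j
    · subst e
      by_cases e' : i = Fin.last N
      · simp [w, e']
      · simp [w, e', hb2 i e']
    · simp [e, hb1 i j e]
  obtain ⟨b₁, d₁, hd₁, e₁⟩ := hbasis _ (hsym Q₁) h₁
  obtain ⟨b₂, d₂, hd₂, e₂⟩ := hbasis _ (hsym Q₂) h₂
  obtain ⟨b₃, d₃, hd₃, e₃⟩ := hbasis (α • QuadraticMap.polarBilin Q₂)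
    ⟨fun u v => by simp [(hsym Q₂).eq u v, QuadraticMap.polar_comm]⟩ (hnd α hα0)
  have key : ∀ (Q : QuadraticForm F V) (b : Module.Basis (Fin (N + 1)) F V) (c d : F),
      (∀ i j, c * QuadraticMap.polar Q (b i) (b j) = if i = j then w d i else 0) →
      ∀ v : V, c * QuadraticMap.polar Q v v =
        ∑ i, w d i * (b.repr v i * b.repr v i) := by
    intro Q b c d e v
    conv_lhs => rw [← b.sum_repr v]
    rw [show ∀ u u' : V, QuadraticMap.polar Q u u' = QuadraticMap.polarBilin Q u u' from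
      fun _ _ => rfl]
    simp only [map_sum, LinearMap.sum_apply, map_smul, LinearMap.smul_apply, smul_eq_mul,
      Finset.mul_sum]
    refine Finset.sum_congr rfl fun i _ => ?_
    rw [Finset.sum_eq_single i]
    · have := e i i
      rw [if_pos rfl] at this
      rw [← this, QuadraticMap.polarBilin_apply_apply]; ring
    · intro j _ hj
      have := e j i
      rw [if_neg hj] at this
      rw [QuadraticMap.polarBilin_apply_apply]
      linear_combination (b.repr v i * b.repr v j) * this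
    · simp
  have hmain : ∀ (b : Module.Basis (Fin (N + 1)) F V) (c : F), c ≠ 0 →
      (∀ i j, c * QuadraticMap.polar Q₂ (b i) (b j) = if i = j then w d₁ i else 0) →
      ∃ (g : V ≃ₗ[F] V) (c : F), c ≠ 0 ∧ ∀ v, Q₂ (g v) = c * Q₁ v := by
    intro b c hc e
    refine ⟨b₁.equiv b (Equiv.refl _), c⁻¹, inv_ne_zero hc, fun v => ?_⟩
    have r1 := key Q₁ b₁ 1 d₁ (fun i j => by rw [one_mul]; exact e₁ i j) v
    have r2 := key Q₂ b c d₁ e (b₁.equiv b (Equiv.refl _) v)
    have hrepr : ∀ i, b.repr (b₁.equiv b (Equiv.refl _) v) i = b₁.repr v i := fun i => by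
      simp [Module.Basis.equiv]
    simp only [hrepr] at r2
    rw [← r1, one_mul, QuadraticMap.polar_self, QuadraticMap.polar_self] at r2
    simp only [nsmul_eq_mul, Nat.cast_ofNat] at r2
    field_simp
    apply mul_left_cancel₀ h2
    linear_combination r2
  by_cases h12 : d₁ = d₂
  · exact hmain b₂ 1 one_ne_zero fun i j => by rw [one_mul, h12]; exact e₂ i j
  by_cases h13 : d₁ = d₃
  · exact hmain b₃ α hα0 fun i j => by rw [h13]; exact e₃ i j
  exfalso
  have h23 : d₂ = d₃ := by
    rcases hd₁ with r | r <;> rcases hd₂ with r' | r' <;> rcases hd₃ with r'' | r'' <;>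
      simp_all
  let G : Matrix (Fin (N + 1)) (Fin (N + 1)) F := LinearMap.BilinForm.toMatrix b₂ (QuadraticMap.polarBilin Q₂)
  have hG : G = Matrix.diagonal (w d₂) := by
    ext i j; exact (LinearMap.BilinForm.toMatrix_apply b₂ _ i j).trans ((e₂ i j).trans (Matrix.diagonal_apply ..).symm)
  have hG3 : LinearMap.BilinForm.toMatrix b₃ (α • QuadraticMap.polarBilin Q₂) = G := by
    rw [hG, h23]; ext i j; rw [LinearMap.BilinForm.toMatrix_apply, e₃, Matrix.diagonal_apply]
  have hG' : (b₂.toMatrix b₃).transpose * G * b₂.toMatrix b₃ =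
      LinearMap.BilinForm.toMatrix b₃ (QuadraticMap.polarBilin Q₂) :=
    LinearMap.BilinForm.toMatrix_mul_basis_toMatrix b₂ b₃ _
  have hd := congrArg Matrix.det hG3
  rw [map_smul, ← hG', Matrix.det_smul, Matrix.det_mul, Matrix.det_mul, Matrix.det_transpose,
    Fintype.card_fin] at hd
  have hGdet : G.det ≠ 0 := by
    rw [hG, Matrix.det_diagonal, Finset.prod_ne_zero_iff]
    intro i _
    rcases hd₂ with r | r <;> simp only [w] <;> split_ifs <;> simp [r, hα0]
  set D := (b₂.toMatrix b₃).det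
  have h1 : α ^ (N + 1) * (D * D) = 1 := mul_right_cancel₀ hGdet (by linear_combination hd)
  obtain ⟨k, hk⟩ := hn
  rw [hk, pow_succ] at h1
  have hD : D ≠ 0 := fun h0 => by simp [h0] at h1
  exact hα ⟨(α ^ k * D)⁻¹, by
    rw [← mul_inv]
    exact eq_inv_of_mul_eq_one_left (by linear_combination h1)⟩

end Cfsg.Agent.S0838
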