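import Cfsg.Statements.S0848
import Cfsg.Agent.InvChar.DihedralEight

set_option autoImplicit false
open Cfsg

namespace Cfsg.Agent.S0848

/-- If a finite group equals its own commutator subgroup and contains an involution whose centralizer is isomorphic to the dihedral group of order 8, then the group has order 168 or 360. -/
theorem result {G : Type*} [Group G] [Finite G] (hperf : commutator G = ⊤) (t : G) (ht : orderOf t = 2) (e : Subgroup.centralizer ({t} : Set G) ≃* DihedralGroup 4) : Nat.card G = 168 ∨ Nat.card G = 360 := by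
  open CfsgLib.InvChar in
  have hno2 : ∀ H : Subgroup G, H.index ≠ 2 := by
    intro H hH
    haveI := Subgroup.normal_of_index_eq_two hH
    have hc : IsCyclic (G ⧸ H) := isCyclic_of_prime_card (p := 2) (hp := ⟨Nat.prime_two⟩) hH
    letI := hc.commGroup
    have hle := Abelianization.commutator_subset_ker (QuotientGroup.mk' H)
    rw [hperf, QuotientGroup.ker_mk', top_le_iff] at hle
    rw [hle, Subgroup.index_top] at hH
    omega
  set C := Subgroup.centralizer ({t} : Set G)
  have h8 : Nat.card C = 8 := by rw [Nat.card_congr e.toEquiv, DihedralGroup.nat_card]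
  have hne : ∀ i : ZMod 4, (e.symm (DihedralGroup.sr i) : G) ≠ 1 := by
    intro i h
    have h1 : e.symm (DihedralGroup.sr i) = 1 := Subtype.ext h
    rw [MulEquiv.map_eq_one_iff] at h1
    rw [DihedralGroup.one_def] at h1; cases h1
  have hsq : ∀ i : ZMod 4, (e.symm (DihedralGroup.sr i) : G) * (e.symm (DihedralGroup.sr i) : G) = 1 := by
    intro i
    rw [← Subgroup.coe_mul, ← map_mul, DihedralGroup.sr_mul_self, map_one, OneMemClass.coe_one]
  have hinj : (e.symm (DihedralGroup.sr 0) : G) ≠ (e.symm (DihedralGroup.sr 1) : G) := fun h => by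
    have h1 := e.symm.injective (Subtype.ext h)
    injection h1 with h2
    exact absurd h2 (by decide)
  obtain ⟨i, hi⟩ : ∃ i : ZMod 4, (e.symm (DihedralGroup.sr i) : G) ≠ t := by
    by_contra hall
    push Not at hall
    exact hinj ((hall 0).trans (hall 1).symm)
  obtain ⟨a, b, E⟩ := exists_eightData ht h8
    ⟨_, (e.symm (DihedralGroup.r 1)).2, _, (e.symm (DihedralGroup.sr 0)).2, fun h => by
      rw [← Subgroup.coe_mul, ← Subgroup.coe_mul, ← map_mul, ← map_mul] at h
      have h1 := e.symm.injective (Subtype.ext h)
      rw [DihedralGroup.r_mul_sr, DihedralGroup.sr_mul_r] at h1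
      injection h1 with h2
      exact absurd h2 (by decide)⟩
    (e.symm (DihedralGroup.sr i)).2 (hsq i) (hne i) hi
  exact E.card_eq hno2

end Cfsg.Agent.S0848
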