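-- Proof of statement S0849.
import Cfsg.Statements.S0849

set_option autoImplicit false
open Cfsg

namespace Cfsg.Agent.S0849

/-- Let H be a subgroup of a finite group G and S a subset of H that is mapped to itself under conjugation by H, is disjoint from its conjugate by any element outside H, and is closed under inverses. Let φ be a class function of H vanishing on H away from S, and let u, v be involutions of G. Then the sum of the induced function of φ over all products a * b with a conjugate to u and b conjugate to v equals the index of H times the sum of φ (a * b) over such pairs with a and b in H. -/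
theorem result {G : Type*} [Group G] [Fintype G] (H : Subgroup G) (S : Set G) (hSH : S ⊆ H) (hHS : ∀ h ∈ H, ∀ s ∈ S, h * s * h⁻¹ ∈ S) (hTI : ∀ g : G, g ∉ H → ∀ s ∈ S, g * s * g⁻¹ ∉ S) (hinv : ∀ s ∈ S, s⁻¹ ∈ S) (φ : H → ℂ) (hφ : Cfsg.IsClassFunction H φ) (hφS : ∀ x : H, (x : G) ∉ S → φ x = 0) (u v : G) (hu : orderOf u = 2) (hv : orderOf v = 2) : ∑ᶠ p ∈ {p : G × G | IsConj u p.1 ∧ IsConj v p.2}, Cfsg.indFun H φ (p.1 * p.2) = (H.index : ℂ) * ∑ᶠ p ∈ {p : H × H | IsConj u (p.1 : G) ∧ IsConj v (p.2 : G)}, φ (p.1 * p.2) := by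
    classical
    have hSA : ∀ (A : G → G → ℂ), ∑ᶠ p ∈ {p : G × G | IsConj u p.1 ∧ IsConj v p.2}, A p.1 p.2
        = ∑ p : G × G, if IsConj u p.1 ∧ IsConj v p.2 then A p.1 p.2 else 0 := by
      intro A
      rw [finsum_mem_eq_toFinset_sum, ← Finset.sum_filter]
      exact Finset.sum_congr (by ext p; simp) fun _ _ => rfl
    have h1 : ∀ x : G, ∑ p : G × G, (if IsConj u p.1 ∧ IsConj v p.2
        then Cfsg.extendByZero H φ (x⁻¹ * (p.1 * p.2) * x) else 0)
        = ∑ p : G × G, (if IsConj u p.1 ∧ IsConj v p.2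
        then Cfsg.extendByZero H φ (p.1 * p.2) else 0) := by
      intro x
      refine Fintype.sum_equiv ((MulAut.conj x⁻¹).toEquiv.prodCongr (MulAut.conj x⁻¹).toEquiv)
        _ _ fun p => ?_
      have e : ∀ w a : G, IsConj w a ↔ IsConj w (x⁻¹ * a * x⁻¹⁻¹) := fun w a =>
        ⟨fun h => h.trans (isConj_iff.mpr ⟨x⁻¹, rfl⟩),
          fun h => h.trans (isConj_iff.mpr ⟨x, by group⟩)⟩
      simp only [Equiv.prodCongr_apply, Prod.map_fst, Prod.map_snd, MulEquiv.toEquiv_eq_coe,
        MulEquiv.coe_toEquiv, MulAut.conj_apply]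
      rw [← e u p.1, ← e v p.2]
      split_ifs
      · congr 1; group
      · rfl
    have ha2 : ∀ a : G, orderOf a = 2 → a⁻¹ = a := fun a ha => by
      have h : a * a = 1 := by rw [← pow_two, ← ha, pow_orderOf_eq_one]
      exact inv_eq_of_mul_eq_one_left h
    have hord : ∀ w a : G, IsConj w a → orderOf a = orderOf w := fun w a h => by
      obtain ⟨c, hc⟩ := isConj_iff.mp h
      rw [← hc, ← MulAut.conj_apply, MulEquiv.orderOf_eq]
    have hmem : ∀ p : G × G, IsConj u p.1 → IsConj v p.2 →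
        Cfsg.extendByZero H φ (p.1 * p.2) ≠ 0 → p.1 ∈ H ∧ p.2 ∈ H := by
      intro p hp1 hp2 hne
      by_cases hH : p.1 * p.2 ∈ H
      · rw [show p.1 * p.2 = ((⟨_, hH⟩ : H) : G) from rfl, Cfsg.extendByZero,
          Subtype.val_injective.extend_apply] at hne
        have hs : p.1 * p.2 ∈ S := by
          by_contra h; exact hne (hφS _ h)
        have a2 := ha2 p.1 ((hord u p.1 hp1).trans hu)
        have b2 := ha2 p.2 ((hord v p.2 hp2).trans hv)
        have h1 : p.1 * (p.1 * p.2) * p.1⁻¹ = (p.1 * p.2)⁻¹ := by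
          rw [mul_inv_rev, b2, a2]
          nth_rw 1 [← a2]
          group
        have haH : p.1 ∈ H := by
          by_contra ha
          exact hTI p.1 ha _ hs (h1 ▸ hinv _ hs)
        refine ⟨haH, ?_⟩
        have := H.mul_mem (H.inv_mem haH) hH
        rwa [inv_mul_cancel_left] at this
      · refine absurd ?_ hne
        rw [Cfsg.extendByZero, Function.extend_apply']
        · rfl
        · rintro ⟨y, hy⟩; exact hH (hy ▸ y.2)
    rw [hSA fun a b => Cfsg.indFun H φ (a * b)]
    simp only [Cfsg.indFun]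
    have h2 : ∀ p : G × G, (if IsConj u p.1 ∧ IsConj v p.2 then (Nat.card H : ℂ)⁻¹ *
        ∑ x : G, Cfsg.extendByZero H φ (x⁻¹ * (p.1 * p.2) * x) else 0)
        = (Nat.card H : ℂ)⁻¹ * ∑ x : G, (if IsConj u p.1 ∧ IsConj v p.2 then
          Cfsg.extendByZero H φ (x⁻¹ * (p.1 * p.2) * x) else 0) := by
      intro p; split_ifs <;> simp
    simp only [h2]
    rw [← Finset.mul_sum, Finset.sum_comm]
    simp only [h1, Finset.sum_const, Finset.card_univ, nsmul_eq_mul]
    have h3 : ∑ p : G × G, (if IsConj u p.1 ∧ IsConj v p.2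
        then Cfsg.extendByZero H φ (p.1 * p.2) else 0)
        = ∑ᶠ p ∈ {p : H × H | IsConj u (p.1 : G) ∧ IsConj v (p.2 : G)}, φ (p.1 * p.2) := by
      rw [finsum_mem_eq_toFinset_sum]
      rw [← Finset.sum_filter]
      symm
      refine Finset.sum_bij_ne_zero (fun p _ _ => ((p.1 : G), (p.2 : G))) ?_ ?_ ?_ ?_
      · intro p hp _
        simpa using hp
      · intro p _ _ q _ _ h
        simp only [Prod.mk.injEq, SetLike.coe_eq_coe] at h
        exact Prod.ext h.1 h.2
      · intro p hp hne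
        simp only [Finset.mem_filter, Finset.mem_univ, true_and] at hp
        obtain ⟨ha, hb⟩ := hmem p hp.1 hp.2 hne
        refine ⟨(⟨p.1, ha⟩, ⟨p.2, hb⟩), by simpa using hp, ?_, rfl⟩
        intro h0
        apply hne
        rw [← h0]
        exact Subtype.val_injective.extend_apply _ _ ((⟨p.1, ha⟩ : H) * ⟨p.2, hb⟩)
      · intro p _ _
        exact (Subtype.val_injective.extend_apply φ 0 (p.1 * p.2)).symm
    rw [h3, ← mul_assoc]
    congr 1
    rw [Fintype.card_eq_nat_card, ← H.card_mul_index, Nat.cast_mul, ← mul_assoc,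
      inv_mul_cancel₀ (Nat.cast_ne_zero.mpr Nat.card_pos.ne'), one_mul]

end Cfsg.Agent.S0849
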