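-- Proof of statement S0851.
import Cfsg.Statements.S0851
import Cfsg.Agent.Char.FrobeniusTI
import Cfsg.Agent.Char.NormTwo
import Cfsg.Agent.Char.Linear

set_option autoImplicit false
open Cfsg

namespace Cfsg.Agent.S0851

/-- Let K be a subgroup of the finite group G that meets each conjugate by an element outside its normalizer N trivially, is properly contained in N, and contains the centralizer of each of its non-identity elements (a T.I. subgroup with Frobenius normalizer). Suppose K is abelian, let e be the index of K in N, and call an irreducible character of N relevant when it takes at some element of K a value different from its degree. Then either there is exactly one relevant character and K is an elementary abelian p-group of order e + 1 for some prime p, or there are a sign ε and an injective map f from the relevant characters to the irreducible characters of G such that inducing χ - ξ to G gives ε (f χ - f ξ) for all relevant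 χ and ξ. -/
theorem result {G : Type*} [Group G] [Fintype G] (K : Subgroup G) (hTI : ∀ g : G, g ∉ Subgroup.normalizer (K : Set G) → ∀ k ∈ K, g * k * g⁻¹ ∈ K → k = 1) (hlt : K < Subgroup.normalizer (K : Set G)) (hC : ∀ k ∈ K, k ≠ 1 → Subgroup.centralizer ({k} : Set G) ≤ K) (hab : ∀ a ∈ K, ∀ b ∈ K, a * b = b * a) : (Nat.card {χ : Cfsg.IrrCharacter (Subgroup.normalizer (K : Set G)) // ∃ k : Subgroup.normalizer (K : Set G), (k : G) ∈ K ∧ (χ : ↥(Subgroup.normalizer (K : Set G)) → ℂ) k ≠ (χ : ↥(Subgroup.normalizer (K : Set G)) → ℂ) 1} = 1 ∧ ∃ p : ℕ, p.Prime ∧ Cfsg.IsElementaryAbelian p K ∧ Nat.card K = (K.subgroupOf (Subgroup.normalizer (K : Set G))).index + 1) ∨ ∃ (ε : ℂ) (f : {χ : Cfsg.IrrCharacter (Subgroup.normalizer (K : Set G)) // ∃ k : Subgroup.normalizer (K : Set G), (k : G) ∈ K ∧ (χ : ↥(Subgroup.normalizer (K : Set G)) → ℂ) k ≠ (χ : ↥(Subgroup.normalizer (K : Set G)) → ℂ) 1} → Cfsg.IrrCharacter G), (ε = 1 ∨ ε = -1) ∧ Function.Injective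 f ∧ ∀ χ ξ, Cfsg.indFun (Subgroup.normalizer (K : Set G)) ((χ.1 : ↥(Subgroup.normalizer (K : Set G)) → ℂ) - (ξ.1 : ↥(Subgroup.normalizer (K : Set G)) → ℂ)) = ε • ((f χ : G → ℂ) - (f ξ : G → ℂ)) := by
  classical
  obtain ⟨N, hN⟩ : ∃ N, N = Subgroup.normalizer (K : Set G) := ⟨_, rfl⟩
  rw [← hN] at hTI hlt ⊢
  haveI : (K.subgroupOf N).Normal := hN ▸ Subgroup.normal_in_normalizer
  haveI := Fintype.ofFinite N
  haveI := Fintype.ofFinite (K.subgroupOf N)
  have hC' := CfsgLib.Char.centralizer_subgroupOf_le (N := N) hC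
  have hKN : K ≤ N := hlt.le
  have habA : ∀ x y : K.subgroupOf N, x * y = y * x := fun x y =>
    Subtype.ext (Subtype.ext (hab _ x.2 _ y.2))
  have hlin : ∀ θ : K.subgroupOf N → ℂ, Cfsg.IsIrrCharacter (K.subgroupOf N) θ → θ 1 = 1 :=
    fun θ hθ => CfsgLib.Char.IsIrrCharacter.apply_one_eq_one hθ habA
  obtain ⟨T, hT⟩ : ∃ T : Type _, T = {χ : Cfsg.IrrCharacter N //
      ∃ k : N, (k : G) ∈ K ∧ (χ : N → ℂ) k ≠ (χ : N → ℂ) 1} := ⟨_, rfl⟩
  subst hT
  haveI := Fintype.ofFinite {χ : Cfsg.IrrCharacter N //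
      ∃ k : N, (k : G) ∈ K ∧ (χ : N → ℂ) k ≠ (χ : N → ℂ) 1}
  obtain ⟨n, hn⟩ : ∃ n, n = Fintype.card {χ : Cfsg.IrrCharacter N //
      ∃ k : N, (k : G) ∈ K ∧ (χ : N → ℂ) k ≠ (χ : N → ℂ) 1} := ⟨_, rfl⟩
  have hind : ∀ χ : {χ : Cfsg.IrrCharacter N //
      ∃ k : N, (k : G) ∈ K ∧ (χ : N → ℂ) k ≠ (χ : N → ℂ) 1},
      ∃ θ : K.subgroupOf N → ℂ, Cfsg.IsIrrCharacter (K.subgroupOf N) θ ∧ θ ≠ (fun _ => 1) ∧
        (χ.1 : N → ℂ) = Cfsg.indFun (K.subgroupOf N) θ := fun χ =>
    CfsgLib.Char.exists_indFun_eq_of_centralizer_le hC' χ.1.2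
      (by obtain ⟨k, hk, hne⟩ := χ.2; exact ⟨k, Subgroup.mem_subgroupOf.2 hk, hne⟩)
  rcases Nat.lt_or_ge n 2 with hn2 | hn2
  · rcases Nat.eq_zero_or_pos n with h0 | hpos
    · right
      haveI : IsEmpty {χ : Cfsg.IrrCharacter N //
          ∃ k : N, (k : G) ∈ K ∧ (χ : N → ℂ) k ≠ (χ : N → ℂ) 1} :=
        Fintype.card_eq_zero_iff.1 (hn.symm.trans h0)
      exact ⟨1, fun χ => isEmptyElim χ, Or.inl rfl, fun χ => isEmptyElim χ, fun χ => isEmptyElim χ⟩
    left
    have hn1 : n = 1 := by omega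
    refine ⟨by rw [Nat.card_eq_fintype_card, ← hn, hn1], ?_⟩
    obtain ⟨χ₀, hχ₀⟩ := Fintype.card_eq_one_iff.1 (hn.symm.trans hn1)
    obtain ⟨θ₀, hθ₀, hθ₀1, hθ₀e⟩ := hind χ₀
    have horb : ∀ θ, Cfsg.IsIrrCharacter (K.subgroupOf N) θ → θ ≠ (fun _ => 1) →
        θ ∈ CfsgLib.Char.conjOrbit θ₀ := by
      intro θ hθ h1
      have hirr := CfsgLib.Char.isIrrCharacter_indFun_of_centralizer_le hC' hθ h1
      have hrel : ∃ k : N, (k : G) ∈ K ∧
          Cfsg.indFun (K.subgroupOf N) θ k ≠ Cfsg.indFun (K.subgroupOf N) θ 1 := by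
        by_contra! h
        have h2 := (CfsgLib.Char.apply_eq_iff_indFun_eq (A := K.subgroupOf N) le_rfl hθ).2
          fun a ha => h a (Subgroup.mem_subgroupOf.1 ha)
        exact h1 (funext fun a => (h2 a a.2).trans (hlin θ hθ))
      have heq : Cfsg.indFun (K.subgroupOf N) θ = Cfsg.indFun (K.subgroupOf N) θ₀ := by
        rw [← hθ₀e]
        exact congrArg (fun x => (x.1 : N → ℂ)) (hχ₀ ⟨⟨_, hirr⟩, hrel⟩)
      by_contra hne
      have h3 := CfsgLib.Char.classInner_indFun_indFun hθ hθ₀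
      rw [if_neg hne, heq, CfsgLib.Char.classInner_indFun_self hθ₀, div_eq_zero_iff] at h3
      exact h3.elim (by exact_mod_cast Nat.card_pos.ne') (by exact_mod_cast Nat.card_pos.ne')
    have hnontriv : ∀ θ ∈ CfsgLib.Char.conjOrbit θ₀, θ ≠ fun _ => 1 := by
      intro θ hθ h1
      obtain ⟨g, rfl⟩ := CfsgLib.Char.mem_conjOrbit.1 hθ
      refine hθ₀1 ?_
      have := congrArg (CfsgLib.Char.conjOn g⁻¹) h1
      rw [CfsgLib.Char.conjOn_conjOn, mul_inv_cancel, CfsgLib.Char.conjOn_one] at this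
      exact this
    have hcard : Nat.card K = (K.subgroupOf N).index + 1 := by
      have hI : CfsgLib.Char.inertia θ₀ = K.subgroupOf N := le_antisymm
        (CfsgLib.Char.inertia_le_of_centralizer_le hC' hθ₀ hθ₀1)
        (CfsgLib.Char.le_inertia (CfsgLib.Char.IsIrrCharacter.isClassFunction hθ₀))
      have h1 : CfsgLib.Char.irrFinset (K.subgroupOf N) =
          insert (fun _ => 1) (CfsgLib.Char.conjOrbit θ₀) := by
        ext θ
        rw [Finset.mem_insert, CfsgLib.Char.mem_irrFinset]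
        refine ⟨fun h => or_iff_not_imp_left.2 (horb θ h), ?_⟩
        rintro (rfl | h)
        · exact CfsgLib.Char.isIrrCharacter_one
        · obtain ⟨g, rfl⟩ := CfsgLib.Char.mem_conjOrbit.1 h
          exact CfsgLib.Char.isIrrCharacter_conjOn hθ₀ g
      have h2 := CfsgLib.Char.sum_degree_sq (G := K.subgroupOf N)
      rw [Finset.sum_congr rfl fun θ hθ => show θ 1 ^ 2 = (1 : ℂ) by
        rw [hlin θ (CfsgLib.Char.mem_irrFinset.1 hθ), one_pow], Finset.sum_const, nsmul_eq_mul,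
        mul_one, Nat.cast_inj, h1,
        Finset.card_insert_of_notMem (fun h => hnontriv _ h rfl), CfsgLib.Char.card_conjOrbit, hI,
        Nat.card_congr (Subgroup.subgroupOfEquivOfLe hKN).toEquiv] at h2
      exact h2.symm
    obtain ⟨k₀, hk₀, hk₀ne⟩ := χ₀.2
    have hk₀1 : (k₀ : G) ≠ 1 := fun h => hk₀ne (by rw [show k₀ = 1 from Subtype.ext h])
    obtain ⟨p, hp, hpK⟩ := Nat.exists_prime_and_dvd (n := Nat.card K) (fun h => hk₀1 (by
      have := Subgroup.card_eq_one.1 h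
      exact Subgroup.mem_bot.1 (this ▸ hk₀)))
    refine ⟨p, hp, ⟨⟨⟨fun a b => Subtype.ext (hab _ a.2 _ b.2)⟩⟩, fun a ha => ?_⟩, hcard⟩
    haveI := Fact.mk hp
    rw [← Nat.card_congr (Subgroup.subgroupOfEquivOfLe hKN).toEquiv] at hpK
    have hbot : commutator (K.subgroupOf N) = ⊥ := by
      rw [commutator_def, Subgroup.commutator_eq_bot_iff_le_centralizer]
      exact fun x _ => Subgroup.mem_centralizer_iff.2 fun y _ => habA y x
    haveI : Finite (K.subgroupOf N →* ℂˣ) :=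
      Finite.of_equiv _ (CfsgLib.Char.linearCharEquiv (G := K.subgroupOf N)).symm
    have hpd : p ∣ Nat.card (K.subgroupOf N →* ℂˣ) := by
      rwa [CfsgLib.Char.card_hom_eq_index_commutator, hbot, Subgroup.index_bot]
    obtain ⟨l, hl⟩ := exists_prime_orderOf_dvd_card' p hpd
    have hl1 : (fun x => (l x : ℂ)) ≠ (fun _ : K.subgroupOf N => (1 : ℂ)) := fun h => by
      rw [show l = 1 from MonoidHom.ext fun x => Units.ext (congrFun h x), orderOf_one] at hl
      exact hp.ne_one hl.symm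
    obtain ⟨g₁, hg₁⟩ := CfsgLib.Char.mem_conjOrbit.1
      (horb _ (CfsgLib.Char.isIrrCharacter_ofHom l) hl1)
    have hpow₀ : ∀ x, θ₀ x ^ p = 1 := by
      intro x
      have h := congrFun (congrArg (CfsgLib.Char.conjOn g₁⁻¹) hg₁) x
      rw [CfsgLib.Char.conjOn_conjOn, mul_inv_cancel, CfsgLib.Char.conjOn_one] at h
      rw [← h, CfsgLib.Char.conjOn_apply, ← Units.val_pow_eq_pow_val, ← MonoidHom.pow_apply, ← hl,
        pow_orderOf_eq_one, MonoidHom.one_apply, Units.val_one]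
    by_contra hne
    obtain ⟨m, hm⟩ := CfsgLib.Char.exists_hom_ne_one
      (g := (⟨⟨a, hKN ha⟩, Subgroup.mem_subgroupOf.2 ha⟩ : K.subgroupOf N) ^ p) (by
        rw [hbot, Subgroup.mem_bot]
        exact fun h => hne (congrArg (fun y : K.subgroupOf N => ((y : N) : G)) h))
    have hm1 : (fun x => (m x : ℂ)) ≠ (fun _ : K.subgroupOf N => (1 : ℂ)) := fun h =>
      hm (Units.ext (congrFun h _))
    obtain ⟨g, hg⟩ := CfsgLib.Char.mem_conjOrbit.1
      (horb _ (CfsgLib.Char.isIrrCharacter_ofHom m) hm1)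
    refine hm (Units.ext ?_)
    rw [map_pow, Units.val_pow_eq_pow_val, Units.val_one]
    have h := congrFun hg (⟨⟨a, hKN ha⟩, Subgroup.mem_subgroupOf.2 ha⟩ : K.subgroupOf N)
    rw [h, CfsgLib.Char.conjOn_apply, hpow₀]
  · right
    obtain ⟨e⟩ : Nonempty (Fin n ≃ {χ : Cfsg.IrrCharacter N //
        ∃ k : N, (k : G) ∈ K ∧ (χ : N → ℂ) k ≠ (χ : N → ℂ) 1}) :=
      ⟨(Fintype.equivFinOfCardEq hn.symm).symm⟩
    obtain ⟨ε, hε, θ, hθ, hθinj, heq⟩ := CfsgLib.Char.exists_exceptional (G := G) (S := (K : Set G))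
      (H := N) hTI hn2 (χ := fun i => ((e i).1 : N → ℂ)) (fun i => (e i).1.2)
      (fun i j h => e.injective (Subtype.ext (Subtype.ext h)))
      (fun i x hx => by
        obtain ⟨φ, -, -, hφ⟩ := hind (e i)
        rw [hφ]
        exact CfsgLib.Char.indFun_eq_zero_of_normal φ fun h => hx (Subgroup.mem_subgroupOf.1 h))
      (fun i j => by
        obtain ⟨φ, hφ1, -, hφ⟩ := hind (e i)
        obtain ⟨φ', hφ1', -, hφ'⟩ := hind (e j)
        rw [hφ, hφ', CfsgLib.Char.indFun_one, CfsgLib.Char.indFun_one, hlin φ hφ1, hlin φ' hφ1'])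
    refine ⟨ε, fun χ => ⟨θ (e.symm χ), hθ _⟩, hε,
      fun a b h => e.symm.injective (hθinj (congrArg Subtype.val h)), fun χ ξ => ?_⟩
    have h := heq (e.symm χ) (e.symm ξ)
    simp only [Equiv.apply_symm_apply] at h
    rw [CfsgLib.Char.indFun_sub]
    exact h

end Cfsg.Agent.S0851
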