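-- Proof of statement S0855.
import Cfsg.Statements.S0855
import Cfsg.Agent.Char.DegreeRatio
import Cfsg.Agent.Char.Linear
import Cfsg.Agent.Char.Clifford
import Mathlib.GroupTheory.Index
import Mathlib.RingTheory.RootsOfUnity.Complex

set_option autoImplicit false
open Cfsg

namespace Cfsg.Agent.S0855

/-- For a finite group G and a prime p: every irreducible character of G has degree a power of p if and only if G has an abelian normal subgroup whose order is prime to p and whose index is a power of p. -/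
theorem result {G : Type*} [Group G] [Finite G] (p : ℕ) (hp : p.Prime) : (∀ χ : Cfsg.IrrCharacter G, ∃ k : ℕ, (χ : G → ℂ) 1 = (p : ℂ) ^ k) ↔ ∃ A : Subgroup G, A.Normal ∧ (∀ a ∈ A, ∀ b ∈ A, a * b = b * a) ∧ Nat.Coprime (Nat.card A) p ∧ ∃ k : ℕ, A.index = p ^ k := by
  classical
  constructor
  · intro hdeg
    induction hn : Nat.card G using Nat.strong_induction_on generalizing G with | _ N ih =>
    subst hn
    haveI := Fintype.ofFinite G
    by_cases hpG : p ∣ Nat.card G
    swap
    · refine ⟨⊤, inferInstance, fun a _ b _ => ?_, ?_, 0, by simp⟩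
      · refine CfsgLib.Char.abelian_iff_degree_one.2 (fun χ hχ => ?_) a b
        obtain ⟨k, hk⟩ := hdeg ⟨χ, hχ⟩
        rcases Nat.eq_zero_or_pos k with rfl | hk0
        · simpa using hk
        · exfalso
          refine hpG ((dvd_pow_self p hk0.ne').trans
            (CfsgLib.Char.IsIrrCharacter.degree_dvd_card hχ (d := p ^ k) (by simpa using hk)))
      · rw [Subgroup.card_top]; exact (hp.coprime_iff_not_dvd.2 hpG).symm
    have hcomm : p ∣ (commutator G).index := by
      have hex : ∀ χ ∈ CfsgLib.Char.irrFinset G, ∃ k : ℕ, χ 1 = (p : ℂ) ^ k := fun χ hχ =>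
        hdeg ⟨χ, CfsgLib.Char.mem_irrFinset.1 hχ⟩
      choose! k hk using hex
      have hsum : ∑ χ ∈ CfsgLib.Char.irrFinset G, (p ^ k χ) ^ 2 = Nat.card G := by
        have h := CfsgLib.Char.sum_degree_sq (G := G)
        rw [Finset.sum_congr rfl fun χ hχ => show χ 1 ^ 2 = (((p ^ k χ) ^ 2 : ℕ) : ℂ) by
          rw [hk χ hχ]; push_cast; rfl, ← Nat.cast_sum] at h
        exact_mod_cast h
      have hlin : (commutator G).index =
          ((CfsgLib.Char.irrFinset G).filter (fun χ => k χ = 0)).card := by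
        rw [← CfsgLib.Char.card_linear, ← Nat.card_eq_finsetCard]
        exact Nat.card_congr
          { toFun := fun x => ⟨x.1.1, Finset.mem_filter.2 ⟨CfsgLib.Char.mem_irrFinset.2 x.1.2, by
              have h1 := hk x.1.1 (CfsgLib.Char.mem_irrFinset.2 x.1.2)
              rw [x.2] at h1
              by_contra h0
              have h2 : p ^ k (x.1.1) = 1 := by exact_mod_cast h1.symm
              exact hp.ne_one ((Nat.pow_eq_one.1 h2).resolve_right h0)⟩⟩
            invFun := fun x => ⟨⟨x.1, CfsgLib.Char.mem_irrFinset.1 (Finset.mem_filter.1 x.2).1⟩, by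
              show x.1 1 = 1
              rw [hk x.1 (Finset.mem_filter.1 x.2).1, (Finset.mem_filter.1 x.2).2, pow_zero]⟩
            left_inv := fun _ => rfl
            right_inv := fun _ => rfl }
      rw [← Finset.sum_filter_add_sum_filter_not _ (fun χ => k χ = 0),
        Finset.sum_congr rfl fun χ hχ => show (p ^ k χ) ^ 2 = 1 by
          rw [(Finset.mem_filter.1 hχ).2]; simp,
        Finset.sum_const, smul_eq_mul, mul_one, ← hlin] at hsum
      have hdvd : p ∣ ∑ χ ∈ (CfsgLib.Char.irrFinset G).filter (fun χ => ¬ k χ = 0), (p ^ k χ) ^ 2 :=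
        Finset.dvd_sum fun χ hχ =>
          (dvd_pow_self p (Finset.mem_filter.1 hχ).2).trans (dvd_pow_self _ two_ne_zero)
      exact (Nat.dvd_add_iff_left hdvd).2 (by rw [hsum]; exact hpG)
    obtain ⟨M, hMn, hMp⟩ : ∃ M : Subgroup G, M.Normal ∧ M.index = p := by
      haveI := Fact.mk hp
      haveI : Finite (G →* ℂˣ) := Finite.of_equiv _ (CfsgLib.Char.linearCharEquiv (G := G)).symm
      rw [← CfsgLib.Char.card_hom_eq_index_commutator] at hcomm
      obtain ⟨l, hl⟩ := exists_prime_orderOf_dvd_card' p hcomm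
      refine ⟨l.ker, inferInstance, ?_⟩
      rw [Subgroup.index_ker]
      have hle : l.range ≤ rootsOfUnity p ℂ := by
        rintro _ ⟨g, rfl⟩
        rw [mem_rootsOfUnity, ← MonoidHom.pow_apply, ← hl, pow_orderOf_eq_one, MonoidHom.one_apply]
      have hdvd := Subgroup.card_dvd_of_le hle
      haveI : NeZero p := ⟨hp.ne_zero⟩
      rw [Complex.card_rootsOfUnity] at hdvd
      refine ((Nat.dvd_prime hp).1 hdvd).resolve_left fun h1 => ?_
      have hbot : l.range = ⊥ := Subgroup.card_eq_one.1 h1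
      rw [MonoidHom.range_eq_bot_iff] at hbot
      rw [hbot, orderOf_one] at hl
      exact hp.ne_one hl.symm
    haveI := hMn
    haveI := Fintype.ofFinite M
    have hlt : Nat.card M < Nat.card G := by
      rw [← M.card_mul_index, hMp]
      exact lt_mul_of_one_lt_right Nat.card_pos hp.one_lt
    have hdegM : ∀ θ : Cfsg.IrrCharacter M, ∃ k : ℕ, (θ : M → ℂ) 1 = (p : ℂ) ^ k := by
      intro θ
      obtain ⟨χ, hχ, hc⟩ := CfsgLib.Char.IsCharacter.exists_constituent
        (CfsgLib.Char.IsCharacter.indFun (G := G) (CfsgLib.Char.IsIrrCharacter.isCharacter θ.2))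
        fun h0 => by
          have := congrFun h0 1
          rw [CfsgLib.Char.indFun_one, Pi.zero_apply, mul_eq_zero] at this
          exact this.elim (by exact_mod_cast M.index_ne_zero_of_finite)
            (CfsgLib.Char.IsIrrCharacter.apply_one_ne_zero θ.2)
      have hc' : Cfsg.classInner (fun m : M => χ m) θ.1 ≠ 0 := by
        rw [CfsgLib.Char.classInner_indFun _ (CfsgLib.Char.IsIrrCharacter.isClassFunction hχ),
          ← CfsgLib.Char.classInner_conj] at hc
        simpa using hc
      obtain ⟨e, he⟩ := CfsgLib.Char.IsCharacter.exists_classInner_eq_natCast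
        (CfsgLib.Char.IsCharacter.restrict (CfsgLib.Char.IsIrrCharacter.isCharacter hχ) M) θ.2
      obtain ⟨d, -, hd⟩ := CfsgLib.Char.IsIrrCharacter.exists_degree θ.2
      obtain ⟨i, hi⟩ := hdeg ⟨χ, hχ⟩
      have h1 := CfsgLib.Char.degree_eq_mul hχ θ.2 hc'
      rw [show χ 1 = _ from hi, he, hd, ← Nat.cast_pow, ← Nat.cast_mul, ← Nat.cast_mul,
        Nat.cast_inj] at h1
      obtain ⟨i', -, hi'⟩ := (Nat.dvd_prime_pow hp).1 (show d ∣ p ^ i from ⟨_, h1.trans (mul_comm _ _)⟩)
      exact ⟨i', by rw [hd, hi', Nat.cast_pow]⟩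
    obtain ⟨A, hAn, hAab, hAcop, j, hj⟩ := ih (Nat.card M) hlt hdegM rfl
    refine ⟨A.map M.subtype, ⟨fun x hx g => ?_⟩, ?_, ?_, j + 1, ?_⟩
    · obtain ⟨a, ha, rfl⟩ := hx
      obtain ⟨B, hB⟩ : ∃ B : Subgroup M, B = A.map (MulAut.conjNormal g).toMonoidHom := ⟨_, rfl⟩
      have hBA : B ≤ A := by
        intro b hb
        rw [hB] at hb
        obtain ⟨a', ha', rfl⟩ := hb
        rw [← QuotientGroup.eq_one_iff, ← orderOf_eq_one_iff]
        refine Nat.eq_one_of_dvd_coprimes (hAcop.pow_right j) ?_ ?_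
        · refine (orderOf_map_dvd (QuotientGroup.mk' A) _).trans ?_
          rw [MulEquiv.coe_toMonoidHom, MulEquiv.orderOf_eq]
          exact (Subgroup.orderOf_mk a' ha').symm ▸ orderOf_dvd_natCard (⟨a', ha'⟩ : A)
        · rw [← hj]
          exact orderOf_dvd_natCard _
      refine ⟨MulAut.conjNormal g a, hBA (hB ▸ ⟨a, ha, rfl⟩), ?_⟩
      exact MulAut.conjNormal_apply g a
    · rintro _ ⟨a, ha, rfl⟩ _ ⟨b, hb, rfl⟩
      rw [← map_mul, ← map_mul, hAab a ha b hb]
    · rwa [Subgroup.card_map_of_injective M.subtype_injective]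
    · rw [Subgroup.index_map_subtype, hj, hMp, pow_succ]
  · rintro ⟨A, hAn, hA, -, j, hj⟩ χ
    obtain ⟨n, ρ, hρ, hχ⟩ := χ.2
    haveI := hρ
    have h1 := CfsgLib.Char.finrank_dvd_index_of_abelian ρ A hA
    rw [hj] at h1
    obtain ⟨k, -, hk⟩ := (Nat.dvd_prime_pow hp).1 h1
    exact ⟨k, by rw [← hχ, ρ.char_one, hk, Nat.cast_pow]⟩

end Cfsg.Agent.S0855
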