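-- Proof of statement S0857.
import Cfsg.Statements.S0857
import Cfsg.Agent.Char.InertiaAbelian

set_option autoImplicit false
open Cfsg

namespace Cfsg.Agent.S0857

/-- Let L < K be normal subgroups of the finite group G with no normal subgroup of G strictly between them and with K / L abelian (the commutator subgroup of K lies in L). Let ϑ be an irreducible character of K invariant under conjugation by G. Then the restriction of ϑ to L is irreducible; or it equals e times an irreducible character of L with e ^ 2 equal to the index of L in K; or it is the sum of a family of pairwise distinct irreducible characters of L indexed by a set whose size is the index of L in K. -/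
theorem result {G : Type*} [Group G] [Fintype G] (K L : Subgroup G) [hK : K.Normal] [L.Normal] (hLK : L < K) (hchief : ∀ M : Subgroup G, M.Normal → L ≤ M → M ≤ K → M = L ∨ M = K) (hab : ⁅K, K⁆ ≤ L) (ϑ : K → ℂ) (hϑ : Cfsg.IsIrrCharacter K ϑ) (hinv : ∀ (g : G) (n : K), ϑ ⟨g * n * g⁻¹, hK.conj_mem (n : G) n.2 g⟩ = ϑ n) : Cfsg.IsIrrCharacter L (fun x : L => ϑ ⟨(x : G), hLK.le x.2⟩) ∨ (∃ (φ : L → ℂ) (e : ℕ), Cfsg.IsIrrCharacter L φ ∧ (fun x : L => ϑ ⟨(x : G), hLK.le x.2⟩) = (e : ℂ) • φ ∧ e ^ 2 = L.relIndex K) ∨ (∃ F : Finset (L → ℂ), (∀ φ ∈ F, Cfsg.IsIrrCharacter L φ) ∧ F.card = L.relIndex K ∧ (fun x : L => ϑ ⟨(x : G), hLK.le x.2⟩) = ∑ φ ∈ F, φ) := by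
  classical
  have hle := hLK.le
  haveI := Fintype.ofFinite K
  haveI := Fintype.ofFinite L
  haveI := Fintype.ofFinite (L.subgroupOf K)
  obtain ⟨φ₀, hφ₀, hφ₀c⟩ : ∃ φ : L → ℂ, Cfsg.IsIrrCharacter L φ ∧
      Cfsg.classInner (fun x : L.subgroupOf K => ϑ x) (CfsgLib.Char.pullBack φ) ≠ 0 := by
    obtain ⟨φ', hφ', hc⟩ := CfsgLib.Char.exists_constituent_restrict (N := L.subgroupOf K) hϑ
    refine ⟨fun x : L => φ' ((Subgroup.subgroupOfEquivOfLe hle).symm x),
      CfsgLib.Char.IsIrrCharacter.comp_surjective hφ' (Subgroup.subgroupOfEquivOfLe hle).symm.toMonoidHom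
        (Subgroup.subgroupOfEquivOfLe hle).symm.surjective, ?_⟩
    convert hc using 2
    funext y
    exact congrArg φ' ((Subgroup.subgroupOfEquivOfLe hle).symm_apply_apply y)
  obtain ⟨φ, hφdef⟩ : ∃ φ : L.subgroupOf K → ℂ, φ = CfsgLib.Char.pullBack φ₀ := ⟨_, rfl⟩
  have hφ : Cfsg.IsIrrCharacter (L.subgroupOf K) φ :=
    hφdef ▸ CfsgLib.Char.isIrrCharacter_pullBack hle hφ₀
  have hφc : Cfsg.classInner (fun x : L.subgroupOf K => ϑ x) φ ≠ 0 := hφdef ▸ hφ₀c
  have hres : ∀ x : L, ϑ ⟨(x : G), hle x.2⟩ =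
      (fun y : L.subgroupOf K => ϑ y) ((Subgroup.subgroupOfEquivOfLe hle).symm x) := fun x => rfl
  have hcomm : ∀ a ∈ K, ∀ b ∈ K, a * b * a⁻¹ * b⁻¹ ∈ L := fun a ha b hb =>
    hab (Subgroup.commutator_mem_commutator ha hb)
  -- the intersection with the inertia group
  obtain ⟨T, hT⟩ : ∃ T : Subgroup G, T = CfsgLib.Char.inertia φ₀ := ⟨_, rfl⟩
  have hLT : L ≤ T := hT ▸ CfsgLib.Char.le_inertia (CfsgLib.Char.IsIrrCharacter.isClassFunction hφ₀)
  have hfac : ∀ g : G, ∃ k ∈ K, g * k⁻¹ ∈ T := by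
    intro g
    have hconj : CfsgLib.Char.conjOn g (fun x : L => ϑ ⟨(x : G), hle x.2⟩) =
        fun x : L => ϑ ⟨(x : G), hle x.2⟩ := funext fun x => hinv g ⟨(x : G), hle x.2⟩
    have h1 : Cfsg.classInner (fun x : L.subgroupOf K => ϑ x)
        (CfsgLib.Char.pullBack (CfsgLib.Char.conjOn g φ₀)) ≠ 0 := by
      rw [show (fun x : L.subgroupOf K => ϑ x) =
          CfsgLib.Char.pullBack (fun x : L => ϑ ⟨(x : G), hle x.2⟩) from rfl,
        CfsgLib.Char.classInner_pullBack hle, ← hconj, CfsgLib.Char.classInner_conjOn,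
        ← CfsgLib.Char.classInner_pullBack hle]
      exact hφ₀c
    obtain ⟨k, hk⟩ := CfsgLib.Char.mem_conjOrbit.1 (CfsgLib.Char.mem_conjOrbit_of_constituent hϑ hφ
      (CfsgLib.Char.isIrrCharacter_pullBack hle (CfsgLib.Char.isIrrCharacter_conjOn hφ₀ g)) hφc h1)
    have h2 : CfsgLib.Char.conjOn g φ₀ = CfsgLib.Char.conjOn (k : G) φ₀ := by
      funext x
      have := congrFun hk ((Subgroup.subgroupOfEquivOfLe hle).symm x)
      rw [hφdef] at this
      exact this
    refine ⟨k, k.2, ?_⟩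
    rw [hT, CfsgLib.Char.mem_inertia, ← CfsgLib.Char.conjOn_conjOn, h2,
      CfsgLib.Char.conjOn_conjOn, mul_inv_cancel, CfsgLib.Char.conjOn_one]
  have hInorm : (K ⊓ T).Normal := ⟨fun i hi g => by
    obtain ⟨k, hk, ht⟩ := hfac g
    have h1 : k * i * k⁻¹ ∈ K ⊓ T := by
      rw [show k * i * k⁻¹ = (k * i * k⁻¹ * i⁻¹) * i by group]
      exact (K ⊓ T).mul_mem ⟨hle (hcomm k hk i hi.1), hLT (hcomm k hk i hi.1)⟩ hi
    rw [show g * i * g⁻¹ = (g * k⁻¹) * (k * i * k⁻¹) * (g * k⁻¹)⁻¹ by group]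
    exact ⟨hK.conj_mem _ h1.1 _, T.mul_mem (T.mul_mem ht h1.2) (T.inv_mem ht)⟩⟩
  have hIeq : CfsgLib.Char.inertia φ = (K ⊓ T).subgroupOf K := by
    ext k
    rw [Subgroup.mem_subgroupOf, Subgroup.mem_inf, hT, CfsgLib.Char.mem_inertia,
      CfsgLib.Char.mem_inertia, hφdef]
    refine ⟨fun h => ⟨k.2, funext fun x => ?_⟩, fun h => funext fun x => ?_⟩
    · exact congrFun h ((Subgroup.subgroupOfEquivOfLe hle).symm x)
    · exact congrFun h.2 (Subgroup.subgroupOfEquivOfLe hle x)
  have hindex : (L.subgroupOf K).index = L.relIndex K := rfl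
  rcases hchief (K ⊓ T) hInorm (le_inf hle hLT) inf_le_left with hcase | hcase
  · -- small inertia group
    refine Or.inr (Or.inr ?_)
    rw [hcase] at hIeq
    have hirr := CfsgLib.Char.isIrrCharacter_indFun_of_inertia_le hφ hIeq.le
    have hind : Cfsg.indFun (L.subgroupOf K) φ = ϑ := by
      by_contra hne
      refine hφc ?_
      rw [← CfsgLib.Char.classInner_indFun_right (CfsgLib.Char.IsIrrCharacter.isClassFunction hϑ),
        CfsgLib.Char.IsIrrCharacter.classInner_of_ne hϑ hirr (Ne.symm hne)]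
    have hr := CfsgLib.Char.indFun_restrict φ
    rw [hind, hIeq, div_self (by exact_mod_cast Nat.card_pos.ne'), one_smul] at hr
    obtain ⟨tr, htr⟩ : ∃ tr : (L.subgroupOf K → ℂ) → L → ℂ,
        tr = fun ψ x => ψ ((Subgroup.subgroupOfEquivOfLe hle).symm x) := ⟨_, rfl⟩
    have hinj : Function.Injective tr := fun a b h => funext fun y => by
      have := congrFun h (Subgroup.subgroupOfEquivOfLe hle y)
      rw [htr] at this
      simpa using this
    refine ⟨(CfsgLib.Char.conjOrbit φ).image tr, fun ψ hψ => ?_, ?_, ?_⟩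
    · obtain ⟨ψ', hψ', rfl⟩ := Finset.mem_image.1 hψ
      obtain ⟨k, rfl⟩ := CfsgLib.Char.mem_conjOrbit.1 hψ'
      rw [htr]
      exact CfsgLib.Char.IsIrrCharacter.comp_surjective
        (CfsgLib.Char.isIrrCharacter_conjOn hφ k)
        (Subgroup.subgroupOfEquivOfLe hle).symm.toMonoidHom
        (Subgroup.subgroupOfEquivOfLe hle).symm.surjective
    · rw [Finset.card_image_of_injective _ hinj, CfsgLib.Char.card_conjOrbit, hIeq, hindex]
    · rw [Finset.sum_image hinj.injOn]
      funext x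
      rw [hres, hr, htr, Finset.sum_apply, Finset.sum_apply]
  · -- invariant constituent
    have hI : CfsgLib.Char.inertia φ = ⊤ := by rw [hIeq, hcase, Subgroup.subgroupOf_self]
    obtain ⟨e, he⟩ := CfsgLib.Char.IsCharacter.exists_classInner_eq_natCast
      (CfsgLib.Char.IsCharacter.restrict (CfsgLib.Char.IsIrrCharacter.isCharacter hϑ) _) hφ
    have hr := CfsgLib.Char.restrict_eq_smul_of_invariant hϑ hφ hI hφc
    rw [he] at hr
    have hrL : (fun x : L => ϑ ⟨(x : G), hle x.2⟩) = (e : ℂ) • φ₀ := by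
      funext x
      rw [hres, hr, hφdef]
      rfl
    obtain ⟨S, hS⟩ : ∃ S : Set G, ∀ g, g ∈ S ↔ ∃ h : g ∈ K, ϑ ⟨g, h⟩ ≠ 0 :=
      ⟨{g | ∃ h : g ∈ K, ϑ ⟨g, h⟩ ≠ 0}, fun g => Iff.rfl⟩
    have hncK : Subgroup.normalClosure S ≤ K :=
      Subgroup.normalClosure_le_normal fun g hg => ((hS g).1 hg).1
    rcases hchief (L ⊔ Subgroup.normalClosure S) inferInstance le_sup_left (sup_le hle hncK)
      with hU | hU
    · -- vanishing outside
      refine Or.inr (Or.inl ⟨φ₀, e, hφ₀, hrL, ?_⟩)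
      obtain ⟨e', he', he2⟩ := ((CfsgLib.Char.fully_ramified_tfae hϑ hφ hφc).1).2 ⟨fun k hk => by
        by_contra h0
        refine hk (Subgroup.mem_subgroupOf.2 ?_)
        rw [← hU]
        exact Subgroup.mem_sup_right
          (Subgroup.subset_normalClosure ((hS k).2 ⟨k.2, h0⟩)), hI⟩
      have hee : e' = e := by
        rw [he', CfsgLib.Char.classInner_smul_left,
          CfsgLib.Char.IsIrrCharacter.classInner_self hφ, mul_one] at he
        exact_mod_cast he
      rw [← hee, he2, hindex]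
    · -- irreducible restriction
      refine Or.inl ?_
      have hSconj : Group.conjugatesOfSet S ⊆ S := fun g hg => by
        obtain ⟨s, hs, hsg⟩ := Group.mem_conjugatesOfSet_iff.1 hg
        obtain ⟨c, rfl⟩ := isConj_iff.1 hsg
        obtain ⟨hsK, hs0⟩ := (hS s).1 hs
        refine (hS _).2 ⟨hK.conj_mem s hsK c, ?_⟩
        rw [hinv c ⟨s, hsK⟩]
        exact hs0
      obtain ⟨c, C, hc, hC, hcard, hind1⟩ := CfsgLib.Char.exists_indFun_eq_smul_sum
        (N := L.subgroupOf K) CfsgLib.Char.isIrrCharacter_one CfsgLib.Char.inertia_one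
        fun a b => Subgroup.mem_subgroupOf.2 (hcomm a a.2 b b.2)
      have hlin : ∀ β ∈ C, β 1 = 1 ∧ ∀ x : L.subgroupOf K, β x = 1 := fun β hβ => by
        have hk := (CfsgLib.Char.classInner_indFun_one_ne_zero_iff (N := L.subgroupOf K) (hC β hβ).1).1 (by
          rw [CfsgLib.Char.classInner_indFun_ne_zero_iff
            (CfsgLib.Char.IsIrrCharacter.isClassFunction (hC β hβ).1), (hC β hβ).2.2]
          exact_mod_cast hc.ne')
        have h1 : β 1 = 1 := CfsgLib.Char.IsIrrCharacter.apply_one_eq_one_of_commutators (hC β hβ).1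
          fun a b => hk _ (Subgroup.mem_subgroupOf.2 (hcomm a a.2 b b.2))
        exact ⟨h1, fun x => (hk x x.2).trans h1⟩
      have hCne : C.Nonempty := by
        rw [← Finset.card_pos]
        exact Nat.pos_of_ne_zero fun h0 => (L.subgroupOf K).index_ne_zero_of_finite
          (by rw [← hcard, h0, mul_zero])
      obtain ⟨β₀, hβ₀⟩ := hCne
      have hc1 : c = 1 := by
        have := (hC β₀ hβ₀).2.1
        rw [(hlin β₀ hβ₀).1, mul_one] at this
        exact_mod_cast this.symm
      subst hc1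
      rw [Nat.cast_one, one_smul] at hind1
      rw [one_pow, one_mul] at hcard
      have hirr : ∀ β ∈ C, Cfsg.IsIrrCharacter K (ϑ * β) := fun β hβ => by
        obtain ⟨lam, rfl⟩ := CfsgLib.Char.IsCharacter.exists_hom
          (CfsgLib.Char.IsIrrCharacter.isCharacter (hC β hβ).1) (hlin β hβ).1
        exact CfsgLib.Char.IsIrrCharacter.mul_hom hϑ lam
      have hsep : ∀ β ∈ C, ∀ β' ∈ C, β ≠ β' → ϑ * β ≠ ϑ * β' := by
        intro β hβ β' hβ' hne heq
        refine hne ?_
        obtain ⟨l, rfl⟩ := CfsgLib.Char.IsCharacter.exists_hom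
          (CfsgLib.Char.IsIrrCharacter.isCharacter (hC β hβ).1) (hlin β hβ).1
        obtain ⟨l', rfl⟩ := CfsgLib.Char.IsCharacter.exists_hom
          (CfsgLib.Char.IsIrrCharacter.isCharacter (hC β' hβ').1) (hlin _ hβ').1
        have hsub : L ⊔ Subgroup.normalClosure S ≤ ((l * l'⁻¹).ker).map K.subtype := by
          refine sup_le (fun x hx => ?_) ?_
          · refine ⟨⟨x, hle hx⟩, ?_, rfl⟩
            have a1 : (l ⟨x, hle hx⟩ : ℂ) = 1 :=
              (hlin _ hβ).2 ⟨⟨x, hle hx⟩, Subgroup.mem_subgroupOf.2 hx⟩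
            have a2 : (l' ⟨x, hle hx⟩ : ℂ) = 1 :=
              (hlin _ hβ').2 ⟨⟨x, hle hx⟩, Subgroup.mem_subgroupOf.2 hx⟩
            rw [Units.val_eq_one] at a1 a2
            simp [a1, a2]
          · refine (Subgroup.closure_le _).2 fun x hx => ?_
            obtain ⟨hxK, hx0⟩ := (hS x).1 (hSconj hx)
            refine ⟨⟨x, hxK⟩, ?_, rfl⟩
            have := congrFun heq ⟨x, hxK⟩
            simp only [Pi.mul_apply] at this
            have hll : l ⟨x, hxK⟩ = l' ⟨x, hxK⟩ := Units.ext (mul_left_cancel₀ hx0 this)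
            simp [hll]
        rw [hU] at hsub
        funext k
        obtain ⟨k', hk', hkk⟩ := hsub k.2
        rw [show k' = k from Subtype.ext hkk] at hk'
        simp only [SetLike.mem_coe, MonoidHom.mem_ker, MonoidHom.mul_apply, MonoidHom.inv_apply,
          mul_inv_eq_one] at hk'
        rw [hk']
      have hprod : (e : ℂ) • Cfsg.indFun (L.subgroupOf K) φ = ∑ β ∈ C, ϑ * β := by
        have h1 := CfsgLib.Char.indFun_mul_restrict (fun _ : L.subgroupOf K => (1 : ℂ))
          (CfsgLib.Char.IsIrrCharacter.isClassFunction hϑ)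
        rw [hind1, show ((fun _ : L.subgroupOf K => (1 : ℂ)) * fun h : L.subgroupOf K => ϑ h) =
            (e : ℂ) • φ by rw [← hr]; funext y; simp, CfsgLib.Char.indFun_smul,
          Finset.sum_mul] at h1
        rw [h1]
        exact Finset.sum_congr rfl fun β _ => mul_comm _ _
      have hnorm := congrArg (fun F => Cfsg.classInner F F) hprod
      simp only [CfsgLib.Char.classInner_smul_left, CfsgLib.Char.classInner_smul_right,
        Complex.conj_natCast, CfsgLib.Char.classInner_indFun_self_of_invariant hφ hI,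
        CfsgLib.Char.classInner_sum_left] at hnorm
      rw [Finset.sum_congr rfl fun β hβ => show Cfsg.classInner (ϑ * β) (∑ x ∈ C, ϑ * x) = 1 by
        rw [CfsgLib.Char.classInner_sum_right, Finset.sum_eq_single β (fun x hx hne =>
          CfsgLib.Char.IsIrrCharacter.classInner_of_ne (hirr β hβ) (hirr x hx)
            (hsep β hβ x hx (Ne.symm hne))) (fun h => absurd hβ h),
          CfsgLib.Char.IsIrrCharacter.classInner_self (hirr β hβ)],
        Finset.sum_const, nsmul_eq_mul, mul_one, hcard] at hnorm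
      have he1 : e = 1 := by
        have h5 : e * (e * (L.subgroupOf K).index) = 1 * (L.subgroupOf K).index := by
          rw [one_mul]; exact_mod_cast hnorm
        rw [← mul_assoc] at h5
        exact Nat.eq_one_of_mul_eq_one_right
          (Nat.eq_of_mul_eq_mul_right (Nat.pos_of_ne_zero Subgroup.index_ne_zero_of_finite) h5)
      rw [hrL, he1, Nat.cast_one, one_smul]
      exact hφ₀

end Cfsg.Agent.S0857
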