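-- Proof of statement S0858.
import Cfsg.Statements.S0858
import Cfsg.Agent.S0857
import Cfsg.Agent.Char.CliffordCorrespondence
import Cfsg.Agent.Char.IndSpan

set_option autoImplicit false
open Cfsg

namespace Cfsg.Agent.S0858

universe u

open scoped commutatorElement

/-- A chief factor over which the quotient is solvable is abelian. -/
theorem commutator_le_of_chief {G : Type u} [Group G] (K L : Subgroup G) [K.Normal] [L.Normal]
    (hLK : L < K) (hchief : ∀ M : Subgroup G, M.Normal → L ≤ M → M ≤ K → M = L ∨ M = K)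
    {j : ℕ} (hj : derivedSeries G j ≤ L) : ⁅K, K⁆ ≤ L := by
  rcases hchief (⁅K, K⁆ ⊔ L) inferInstance le_sup_right
    (sup_le (Subgroup.commutator_le_left _ _) hLK.le) with h | h
  · exact le_sup_left.trans h.le
  · exfalso
    have hq : ∀ i : ℕ, K.map (QuotientGroup.mk' L) ≤ derivedSeries (G ⧸ L) i := by
      intro i
      induction i with
      | zero => simp
      | succ i ih =>
        calc K.map (QuotientGroup.mk' L) = (⁅K, K⁆ ⊔ L).map (QuotientGroup.mk' L) := by rw [h]
          _ = ⁅K.map (QuotientGroup.mk' L), K.map (QuotientGroup.mk' L)⁆ := by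
            rw [Subgroup.map_sup, Subgroup.map_commutator, QuotientGroup.map_mk'_self, sup_bot_eq]
          _ ≤ _ := Subgroup.commutator_mono ih ih
    have h1 := hq j
    have h2 : (derivedSeries G j).map (QuotientGroup.mk' L) = ⊥ :=
      (Subgroup.map_eq_bot_iff _).2 (by rw [QuotientGroup.ker_mk']; exact hj)
    rw [← map_derivedSeries_eq (QuotientGroup.mk'_surjective L) j, h2, le_bot_iff,
      Subgroup.map_eq_bot_iff, QuotientGroup.ker_mk'] at h1
    exact hLK.not_ge h1

theorem aux (n : ℕ) : ∀ (G : Type u) [Group G] [Fintype G], Nat.card G = n →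
    ∀ (N : Subgroup G) [N.Normal], (∃ j : ℕ, derivedSeries G j ≤ N) →
    (∀ (H K L : Subgroup G), N ≤ L → L < K → K ≤ H → (∀ h ∈ H, ∀ k ∈ K, h * k * h⁻¹ ∈ K) →
      (∀ h ∈ H, ∀ l ∈ L, h * l * h⁻¹ ∈ L) → (∀ M : Subgroup G, L ≤ M → M ≤ K →
      (∀ h ∈ H, ∀ m ∈ M, h * m * h⁻¹ ∈ M) → M = L ∨ M = K) → ¬ IsSquare (L.relIndex K)) →
    ∀ χ : G → ℂ, Cfsg.IsIrrCharacter G χ → ∃ (H : Subgroup G) (hNH : N ≤ H) (ψ : H → ℂ),
      Cfsg.IsIrrCharacter H ψ ∧ Cfsg.indFun H ψ = χ ∧
        Cfsg.IsIrrCharacter N (fun n : N => ψ ⟨(n : G), hNH n.2⟩) := by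
  induction n using Nat.strong_induction_on with
  | _ n ih =>
  intro G _ _ hn N hN hder hchief χ hχ
  subst hn
  classical
  have hχtop : Cfsg.indFun (⊤ : Subgroup G) (fun u => χ u) = χ :=
    CfsgLib.Char.indFun_top (CfsgLib.Char.IsIrrCharacter.isClassFunction hχ)
  by_cases hN0 : Cfsg.IsIrrCharacter N (fun n : N => χ n)
  · exact ⟨⊤, le_top, fun u => χ u, CfsgLib.Char.IsIrrCharacter.comp_surjective hχ
      (Subgroup.topEquiv : (⊤ : Subgroup G) ≃* G).toMonoidHom
      (Subgroup.topEquiv : (⊤ : Subgroup G) ≃* G).surjective, hχtop, hN0⟩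
  obtain ⟨K, ⟨hKn, hNK, hKirr⟩, hKmin⟩ := (Set.toFinite {K : Subgroup G | K.Normal ∧ N ≤ K ∧
    Cfsg.IsIrrCharacter K (fun x : K => χ x)}).exists_minimal
    ⟨⊤, inferInstance, le_top, CfsgLib.Char.IsIrrCharacter.comp_surjective hχ
      (Subgroup.topEquiv : (⊤ : Subgroup G) ≃* G).toMonoidHom
      (Subgroup.topEquiv : (⊤ : Subgroup G) ≃* G).surjective⟩
  haveI := hKn
  have hNlt : N < K := lt_of_le_of_ne hNK (by rintro rfl; exact hN0 hKirr)
  obtain ⟨L, ⟨hLn, hNL, hLK⟩, hLmax⟩ := (Set.toFinite {L : Subgroup G | L.Normal ∧ N ≤ L ∧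
    L < K}).exists_maximal ⟨N, hN, le_rfl, hNlt⟩
  haveI := hLn
  have hmax : ∀ M : Subgroup G, M.Normal → L ≤ M → M ≤ K → M = L ∨ M = K := by
    intro M hM h1 h2
    rcases h2.lt_or_eq with h | h
    · exact Or.inl (le_antisymm (hLmax ⟨hM, hNL.trans h1, h⟩ h1) h1)
    · exact Or.inr h
  obtain ⟨j, hj⟩ := hder
  have hinv : ∀ (g : G) (x : K), χ (g * x * g⁻¹) = χ x := fun g x =>
    CfsgLib.Char.IsIrrCharacter.isClassFunction hχ x g
  have hsq : ¬ IsSquare (L.relIndex K) :=
    hchief ⊤ K L hNL hLK le_top (fun h _ k hk => hKn.conj_mem k hk h)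
      (fun h _ l hl => hLn.conj_mem l hl h)
      (fun M h1 h2 hM => hmax M ⟨fun m hm g => hM g trivial m hm⟩ h1 h2)
  haveI := Fintype.ofFinite L
  rcases Cfsg.Agent.S0857.result K L hLK hmax (commutator_le_of_chief K L hLK hmax (hj.trans hNL))
    (fun x : K => χ x) hKirr hinv with h | ⟨φ, e, -, -, he⟩ | ⟨F, hFirr, hFcard, hF⟩
  · exact absurd (hKmin ⟨hLn, hNL, h⟩ hLK.le) hLK.not_ge
  · exact absurd ⟨e, by rw [← he, sq]⟩ hsq
  · have hidx : 1 < L.relIndex K := by
      rcases Nat.lt_or_ge 1 (L.relIndex K) with h | h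
      · exact h
      · interval_cases hr : L.relIndex K
        · exact absurd hr Subgroup.index_ne_zero_of_finite
        · exact absurd (Subgroup.relIndex_eq_one.1 hr) hLK.not_ge
    obtain ⟨φ, hφ, φ', hφ', hne⟩ := Finset.one_lt_card.1 (hFcard ▸ hidx)
    have hsum : (fun x : L => χ x) = ∑ φ ∈ F, φ := hF
    have hc : ∀ ψ ∈ F, Cfsg.classInner (fun x : L => χ x) ψ = 1 := fun ψ hψ => by
      rw [hsum, CfsgLib.Char.classInner_sum_left, Finset.sum_eq_single ψ (fun b hb hbne =>
        CfsgLib.Char.IsIrrCharacter.classInner_of_ne (hFirr b hb) (hFirr ψ hψ) hbne)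
        (fun h => absurd hψ h)]
      exact CfsgLib.Char.IsIrrCharacter.classInner_self (hFirr ψ hψ)
    have hT : CfsgLib.Char.inertia φ ≠ ⊤ := by
      intro htop
      have hψ' := CfsgLib.Char.mem_conjOrbit_of_constituent hχ (hFirr φ hφ) (hFirr φ' hφ')
        (by rw [hc φ hφ]; exact one_ne_zero) (by rw [hc φ' hφ']; exact one_ne_zero)
      obtain ⟨g, hg⟩ := CfsgLib.Char.mem_conjOrbit.1 hψ'
      rw [(CfsgLib.Char.mem_inertia φ g).1 (htop ▸ Subgroup.mem_top g)] at hg
      exact hne hg.symm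
    set T := CfsgLib.Char.inertia φ with hTdef
    have hLT : L ≤ T :=
      CfsgLib.Char.le_inertia (CfsgLib.Char.IsIrrCharacter.isClassFunction (hFirr φ hφ))
    obtain ⟨ψ, hψ, hψχ, -⟩ := CfsgLib.Char.exists_indFun_eq_of_inertia hLT (hFirr φ hφ) rfl hχ
      (by rw [hc φ hφ]; exact one_ne_zero)
    have hNT : N ≤ T := hNL.trans hLT
    have hlt : Nat.card T < Nat.card G :=
      lt_of_le_of_ne T.card_le_card_group fun h => hT (Subgroup.eq_top_of_card_eq _ h)
    haveI : (N.subgroupOf T).Normal := hN.subgroupOf T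
    obtain ⟨U, hNU, η, hη, hηψ, hηN⟩ := ih _ hlt T rfl (N.subgroupOf T)
      ⟨j, fun x hx => hj (map_derivedSeries_le_derivedSeries T.subtype j
        (Subgroup.mem_map_of_mem T.subtype hx))⟩
      (fun H K L' h1 h2 h3 h4 h5 h6 => by
        have := hchief (H.map T.subtype) (K.map T.subtype) (L'.map T.subtype)
          (fun x hx => ⟨⟨x, hNT hx⟩, h1 (show (⟨x, hNT hx⟩ : T) ∈ N.subgroupOf T from hx), rfl⟩)
          ((Subgroup.map_lt_map_iff_of_injective T.subtype_injective).2 h2)
          (Subgroup.map_mono h3)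
          (by rintro _ ⟨h, hh, rfl⟩ _ ⟨k, hk, rfl⟩; exact ⟨_, h4 h hh k hk, by simp⟩)
          (by rintro _ ⟨h, hh, rfl⟩ _ ⟨k, hk, rfl⟩; exact ⟨_, h5 h hh k hk, by simp⟩)
          (fun M hM1 hM2 hM3 => by
            have hMT : M ≤ T := hM2.trans (Subgroup.map_subtype_le K)
            have hMeq : M = (M.subgroupOf T).map T.subtype :=
              (Subgroup.map_subgroupOf_eq_of_le hMT).symm
            rcases h6 (M.subgroupOf T)
              (fun x hx => hM1 (Subgroup.mem_map_of_mem T.subtype hx))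
              (fun x hx => by
                obtain ⟨k, hk, hkx⟩ := hM2 hx
                exact (Subtype.ext hkx : k = x) ▸ hk)
              (fun h hh m hm => by
                have := hM3 _ (Subgroup.mem_map_of_mem T.subtype hh) _ hm
                simpa [Subgroup.mem_subgroupOf] using this) with e | e
            · exact Or.inl (hMeq.trans (by rw [e]))
            · exact Or.inr (hMeq.trans (by rw [e])))
        rwa [show (L'.map T.subtype).relIndex (K.map T.subtype) = L'.relIndex K from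
          Subgroup.relIndex_map_map_of_injective L' K T.subtype_injective] at this)
      ψ hψ
    have hNU' : N ≤ U.map T.subtype := fun x hx =>
      ⟨⟨x, hNT hx⟩, hNU (show (⟨x, hNT hx⟩ : T) ∈ N.subgroupOf T from hx), rfl⟩
    let e := U.equivMapOfInjective T.subtype T.subtype_injective
    refine ⟨U.map T.subtype, hNU', fun y => η (e.symm y),
      CfsgLib.Char.IsIrrCharacter.comp_surjective hη e.symm.toMonoidHom e.symm.surjective, ?_, ?_⟩
    · rw [← hψχ, ← hηψ, ← CfsgLib.Char.indFun_indFun_map U]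
      congr 2
      funext u
      exact congrArg η ((MulEquiv.symm_apply_eq _).2 (Subtype.ext rfl))
    · have hi := CfsgLib.Char.IsIrrCharacter.comp_surjective hηN
        (Subgroup.subgroupOfEquivOfLe hNT).symm.toMonoidHom
        (Subgroup.subgroupOfEquivOfLe hNT).symm.surjective
      convert hi using 1
      funext x
      refine congrArg η ((MulEquiv.symm_apply_eq _).2 (Subtype.ext ?_))
      rfl

/-- Let N be a normal subgroup of the finite group G with G / N solvable, and suppose that for every subgroup H containing N and all subgroups L < K between N and H that are normal in H with no subgroup normal in H strictly between them, the index of L in K is not a perfect square. Then every irreducible character χ of G is induced from an irreducible character ψ of some subgroup H containing N such that the restriction of ψ to N is irreducible. -/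
theorem result {G : Type*} [Group G] [Fintype G] (N : Subgroup G) [N.Normal] (hsolv : Group.IsSolvable (G ⧸ N)) (hchief : ∀ (H K L : Subgroup G), N ≤ L → L < K → K ≤ H → (∀ h ∈ H, ∀ k ∈ K, h * k * h⁻¹ ∈ K) → (∀ h ∈ H, ∀ l ∈ L, h * l * h⁻¹ ∈ L) → (∀ M : Subgroup G, L ≤ M → M ≤ K → (∀ h ∈ H, ∀ m ∈ M, h * m * h⁻¹ ∈ M) → M = L ∨ M = K) → ¬ IsSquare (L.relIndex K)) (χ : G → ℂ) (hχ : Cfsg.IsIrrCharacter G χ) : ∃ (H : Subgroup G) (hNH : N ≤ H) (ψ : H → ℂ), Cfsg.IsIrrCharacter H ψ ∧ Cfsg.indFun H ψ = χ ∧ Cfsg.IsIrrCharacter N (fun n : N => ψ ⟨(n : G), hNH n.2⟩) := by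
  obtain ⟨⟨j, hj⟩⟩ := hsolv
  have hder : ∃ j : ℕ, derivedSeries G j ≤ N := by
    refine ⟨j, fun x hx => (QuotientGroup.eq_one_iff x).1 ?_⟩
    have h := map_derivedSeries_eq (QuotientGroup.mk'_surjective N) j
    rw [hj, Subgroup.map_eq_bot_iff, QuotientGroup.ker_mk'] at h
    exact (QuotientGroup.eq_one_iff x).2 (h hx)
  exact aux _ G rfl N hder hchief χ hχ

end Cfsg.Agent.S0858
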