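-- Proof of statement S0859.
import Cfsg.Statements.S0859
import Cfsg.Agent.Char.RelativeMonomial

set_option autoImplicit false
open Cfsg

namespace Cfsg.Agent.S0859

/-- Let G be a finite solvable group and N a normal subgroup such that for every prime p every Sylow p-subgroup of N is abelian. Suppose every irreducible character of G is induced from an irreducible character of some subgroup containing N whose restriction to N is irreducible. Then every irreducible character of G is induced from a character of degree 1 of some subgroup. -/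
theorem result {G : Type*} [Group G] [Fintype G] [Group.IsSolvable G] (N : Subgroup G) [N.Normal] (hab : ∀ (p : ℕ) [Fact p.Prime] (P : Sylow p N), ∀ a ∈ P, ∀ b ∈ P, a * b = b * a) (hrel : ∀ χ : G → ℂ, Cfsg.IsIrrCharacter G χ → ∃ (H : Subgroup G) (hNH : N ≤ H) (ψ : H → ℂ), Cfsg.IsIrrCharacter H ψ ∧ Cfsg.indFun H ψ = χ ∧ Cfsg.IsIrrCharacter N (fun n : N => ψ ⟨(n : G), hNH n.2⟩)) (χ : G → ℂ) (hχ : Cfsg.IsIrrCharacter G χ) : ∃ (U : Subgroup G) (lam : U → ℂ), Cfsg.IsCharacter U lam ∧ lam 1 = 1 ∧ Cfsg.indFun U lam = χ := by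
  classical
  obtain ⟨H, hNH, ψ, hψ, hψχ, hψN⟩ := hrel χ hχ
  haveI := Fintype.ofFinite H
  have hψN' : Cfsg.IsIrrCharacter (N.subgroupOf H) (fun x : N.subgroupOf H => ψ x) :=
    CfsgLib.Char.isIrrCharacter_pullBack hNH hψN
  haveI : (N.subgroupOf H).Normal := Subgroup.Normal.subgroupOf inferInstance H
  have hsyl : ∀ (p : ℕ) [Fact p.Prime] (P : Subgroup H), P ≤ N.subgroupOf H → IsPGroup p P →
      ∀ a ∈ P, ∀ b ∈ P, a * b = b * a := by
    intro p _ P hP hp x hx y hy
    let K : Subgroup N := (P.map H.subtype).subgroupOf N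
    have hK : IsPGroup p K := by
      refine IsPGroup.of_injective (hp.map H.subtype)
        ({ toFun := fun z => ⟨((z : N) : G), z.2⟩, map_one' := rfl, map_mul' := fun _ _ => rfl } :
          K →* ↥(P.map H.subtype)) fun a b h => ?_
      exact Subtype.ext (Subtype.ext (congrArg (fun w : ↥(P.map H.subtype) => (w : G)) h :))
    obtain ⟨Q, hQ⟩ := hK.exists_le_sylow
    have := hab p Q ⟨(x : G), hP hx⟩ (hQ (Subgroup.mem_map_of_mem H.subtype hx))
      ⟨(y : G), hP hy⟩ (hQ (Subgroup.mem_map_of_mem H.subtype hy))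
    exact Subtype.ext (congrArg Subtype.val this :)
  obtain ⟨V, lam, hV⟩ := CfsgLib.Char.exists_indFun_linear_of_restrict _ H rfl inferInstance
    (N.subgroupOf H) hsyl ψ hψ hψN'
  refine ⟨V.map H.subtype,
    fun w => (lam ((V.equivMapOfInjective H.subtype H.subtype_injective).symm w) : ℂ),
    CfsgLib.Char.isCharacter_ofHom (lam.comp
      (V.equivMapOfInjective H.subtype H.subtype_injective).symm.toMonoidHom), by simp, ?_⟩
  rw [← hψχ, ← hV, ← CfsgLib.Char.indFun_indFun_map V]
  congr 2
  funext u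
  congr 2
  exact (MulEquiv.symm_apply_eq _).2 (Subtype.ext rfl)

end Cfsg.Agent.S0859
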