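-- Proof of statement S0861.
import Cfsg.Statements.S0861
import Cfsg.Agent.Char.CosetSquare
import Cfsg.Agent.Char.DegreeRatio
import Cfsg.Agent.Char.Inflation
import Cfsg.Agent.Char.Linear
import Cfsg.Agent.Char.Galois

set_option autoImplicit false
open Cfsg

namespace Cfsg.Agent.S0861

/-- Let P be a normal abelian Sylow p-subgroup of the finite group G and suppose some element g of P has centralizer exactly P. Then the number of irreducible characters of G is at most the order of P, and if equality holds then G / P is abelian (the commutator subgroup lies in P). -/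
theorem result {G : Type*} [Group G] [Finite G] (p : ℕ) [Fact p.Prime] (P : Sylow p G) [(P : Subgroup G).Normal] (hab : ∀ a ∈ P, ∀ b ∈ P, a * b = b * a) (g : G) (hg : g ∈ P) (hC : Subgroup.centralizer ({g} : Set G) = P) : Nat.card (Cfsg.IrrCharacter G) ≤ Nat.card P ∧ (Nat.card (Cfsg.IrrCharacter G) = Nat.card P → commutator G ≤ P) := by
  classical
  haveI := Fintype.ofFinite G
  have hp : p.Prime := Fact.out
  set s : Finset G := Finset.univ.filter fun y => ∃ t : ℕ, t.Coprime (Nat.card G) ∧ g ^ t = y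
    with hsdef
  have hstable : ∀ t : ℕ, t.Coprime (Nat.card G) → ∀ y ∈ s, y ^ t ∈ s := by
    intro t ht y hy
    obtain ⟨u, hu, rfl⟩ := (Finset.mem_filter.1 hy).2
    exact Finset.mem_filter.2 ⟨Finset.mem_univ _, u * t, hu.mul_left ht, pow_mul g u t⟩
  have hgs : g ∈ s := Finset.mem_filter.2 ⟨Finset.mem_univ _, 1, by simp, pow_one g⟩
  have hcent : ∀ y ∈ s, Nat.card (Subgroup.centralizer ({y} : Set G)) = Nat.card P := by
    intro y hy
    obtain ⟨u, hu, rfl⟩ := (Finset.mem_filter.1 hy).2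
    have : Subgroup.centralizer ({g ^ u} : Set G) = Subgroup.centralizer ({g} : Set G) := by
      obtain ⟨m, hm⟩ := exists_pow_eq_self_of_coprime
        (hu.coprime_dvd_right (orderOf_dvd_natCard g))
      ext x
      simp only [Subgroup.mem_centralizer_singleton_iff]
      refine ⟨fun h => ?_, fun h => (Commute.pow_right (h : Commute x g) u).eq⟩
      have := (Commute.pow_right (h : Commute x (g ^ u)) m).eq
      rwa [hm] at this
    rw [this, hC]
  have hne : ∀ χ : G → ℂ, Cfsg.IsIrrCharacter G χ → ∀ y ∈ s, χ y ≠ 0 := by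
    intro χ hχ y hy h0
    obtain ⟨n, ρ, hρ, rfl⟩ := hχ
    haveI := hρ
    obtain ⟨u, hu, hgu⟩ := (Finset.mem_filter.1 hy).2
    have hyP : y ∈ (P : Subgroup G) := hgu ▸ pow_mem hg u
    obtain ⟨a, ha⟩ := P.isPGroup' ⟨y, hyP⟩
    have hya : y ^ p ^ a = 1 := congrArg Subtype.val ha
    have hn : ¬ p ∣ n := by
      intro hd
      have h := CfsgLib.Char.finrank_dvd_index_of_abelian ρ (P : Subgroup G) hab
      rw [Module.finrank_fin_fun] at h
      exact P.not_dvd_index (hd.trans h)
    have hc : Cfsg.IsCharacter G ρ.character := ⟨n, ρ, rfl⟩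
    obtain ⟨ms, hms, hroots, hk⟩ := CfsgLib.Char.IsCharacter.exists_roots hc y
    have hmap : ∀ l : Multiset ℂ, (∀ z ∈ l, IsIntegral ℤ z) → ∃ w : ℂ, IsIntegral ℤ w ∧
        l.sum ^ p ^ a = (l.map fun z => z ^ p ^ a).sum + (p : ℂ) * w := by
      intro l
      induction l using Multiset.induction with
      | empty => exact fun _ => ⟨0, isIntegral_zero, by simp [zero_pow (pow_ne_zero a hp.ne_zero)]⟩
      | cons z t ih =>
        intro hzt
        obtain ⟨w, hw, hwe⟩ := ih fun x hx => hzt x (Multiset.mem_cons_of_mem hx)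
        have hz : z ∈ integralClosure ℤ ℂ := hzt z (Multiset.mem_cons_self z t)
        have ht : t.sum ∈ integralClosure ℤ ℂ :=
          IsIntegral.multiset_sum fun x hx => hzt x (Multiset.mem_cons_of_mem hx)
        obtain ⟨r, hr⟩ := exists_add_pow_prime_pow_eq hp
          (⟨z, hz⟩ : integralClosure ℤ ℂ) ⟨t.sum, ht⟩ a
        have hr' := congrArg Subtype.val hr
        push_cast at hr'
        refine ⟨w + z * t.sum * r, hw.add ((IsIntegral.mul hz ht).mul r.2), ?_⟩
        rw [Multiset.sum_cons, Multiset.map_cons, Multiset.sum_cons, hr', hwe]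
        ring
    obtain ⟨w, hw, hwe⟩ := hmap ms fun z hz =>
      CfsgLib.Char.isIntegral_of_pow_eq_one (orderOf_pos y) (hroots z hz)
    have h1 : ms.sum = 0 := by
      have := hk 1
      simp only [pow_one, Multiset.map_id'] at this
      rw [← this, h0]
    rw [h1, zero_pow (pow_ne_zero a hp.ne_zero), ← hk, hya, ρ.char_one,
      Module.finrank_fin_fun] at hwe
    have hdiv : IsIntegral ℤ ((n : ℂ) / (p : ℂ)) := by
      have hp0 : (p : ℂ) ≠ 0 := Nat.cast_ne_zero.2 hp.ne_zero
      have : (n : ℂ) / (p : ℂ) = -w := by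
        rw [div_eq_iff hp0]
        linear_combination -hwe
      rw [this]
      exact hw.neg
    exact hn (CfsgLib.Char.dvd_of_isIntegral_div hp.ne_zero hdiv)
  have hge : ∀ (k : ℕ) (χ : G → ℂ), Cfsg.IsIrrCharacter G χ →
      (s.card : ℝ) ≤ ∑ y ∈ s, ‖χ y‖ ^ k := fun k χ hχ =>
    CfsgLib.Char.card_le_sum_norm_pow s χ k
      (fun y _ => CfsgLib.Char.IsCharacter.isIntegral (CfsgLib.Char.IsIrrCharacter.isCharacter hχ) y)
      (hne χ hχ)
      (fun σ => CfsgLib.Char.prod_fixed_of_stable
        (CfsgLib.Char.IsIrrCharacter.isCharacter hχ) s hstable σ)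
  have htot : ∑ χ ∈ CfsgLib.Char.irrFinset G, ∑ y ∈ s, ‖χ y‖ ^ 2
      = (s.card : ℝ) * Nat.card P := by
    rw [Finset.sum_comm, Finset.sum_congr rfl fun y hy => ?_, Finset.sum_const, nsmul_eq_mul]
    have := CfsgLib.Char.sum_irr_mul_conj y y
    rw [if_pos (IsConj.refl y), hcent y hy] at this
    simp only [Complex.mul_conj'] at this
    exact_mod_cast this
  have hpos : (0 : ℝ) < s.card := by exact_mod_cast Finset.card_pos.2 ⟨g, hgs⟩
  rw [CfsgLib.Char.card_irr]
  refine ⟨?_, fun heq => ?_⟩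
  · have h := Finset.sum_le_sum fun χ hχ => hge 2 χ (CfsgLib.Char.mem_irrFinset.1 hχ)
    rw [Finset.sum_const, nsmul_eq_mul, htot] at h
    have h' : ((CfsgLib.Char.irrFinset G).card : ℝ) ≤ Nat.card P := by nlinarith
    exact_mod_cast h'
  · have hall : ∀ χ ∈ CfsgLib.Char.irrFinset G, ∑ y ∈ s, ‖χ y‖ ^ 2 = (s.card : ℝ) := by
      intro χ hχ
      refine ((Finset.sum_eq_sum_iff_of_le
        (fun χ hχ => hge 2 χ (CfsgLib.Char.mem_irrFinset.1 hχ))).1 ?_ χ hχ).symm
      rw [htot, Finset.sum_const, nsmul_eq_mul, heq]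
      ring
    have hnorm : ∀ χ : G → ℂ, Cfsg.IsIrrCharacter G χ → ‖χ g‖ = 1 := by
      intro χ hχ
      have h1 := hge 1 χ hχ
      simp only [pow_one] at h1
      have h2 := hall χ (CfsgLib.Char.mem_irrFinset.2 hχ)
      have h3 : ∑ y ∈ s, (‖χ y‖ - 1) ^ 2 ≤ 0 := by
        simp only [sub_sq, Finset.sum_add_distrib, Finset.sum_sub_distrib, Finset.sum_const,
          nsmul_eq_mul, mul_one, one_pow, ← Finset.mul_sum]
        linarith
      have h4 := (Finset.sum_eq_zero_iff_of_nonneg (fun y _ => sq_nonneg (‖χ y‖ - 1))).1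
        (le_antisymm h3 (Finset.sum_nonneg fun y _ => sq_nonneg _)) g hgs
      exact sub_eq_zero.1 (pow_eq_zero_iff (n := 2) (by norm_num) |>.1 h4)
    have hlin : ∀ ψ : G ⧸ (P : Subgroup G) → ℂ, Cfsg.IsIrrCharacter _ ψ → ψ 1 = 1 := by
      intro ψ hψ
      obtain ⟨d, -, hd⟩ := CfsgLib.Char.IsIrrCharacter.exists_degree hψ
      have h := hnorm _ (CfsgLib.Char.IsIrrCharacter.inflate (P : Subgroup G) hψ)
      rw [CfsgLib.Char.inflate_apply_mem _ ψ hg] at h
      simp only [CfsgLib.Char.inflate, QuotientGroup.mk_one, hd, Complex.norm_natCast] at h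
      rw [hd]
      exact_mod_cast h
    rw [commutator_def, Subgroup.commutator_le]
    intro a _ b _
    have h := CfsgLib.Char.abelian_iff_degree_one.2 hlin (a : G ⧸ (P : Subgroup G)) b
    rw [← QuotientGroup.eq_one_iff, commutatorElement_def]
    simp only [QuotientGroup.mk_mul, QuotientGroup.mk_inv]
    rw [h]
    group

end Cfsg.Agent.S0861
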