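-- Proof of statement S0864.
import Cfsg.Statements.S0864
import Cfsg.Agent.Char.ExtendExp
import Cfsg.Agent.Char.ExtendInv

set_option autoImplicit false
open Cfsg

namespace Cfsg.Agent.S0864

/-- Let N be a normal subgroup of the finite group G and λ a character of N of degree 1 invariant under conjugation by G. Suppose that for every prime p dividing the order of λ (in the group of functions under pointwise multiplication) there is a subgroup H containing N, of index prime to p and with the index of N in H a power of p, together with a character of H of degree 1 restricting to λ. Then λ is the restriction of a character of G of degree 1. -/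
theorem result {G : Type*} [Group G] [Finite G] (N : Subgroup G) [hN : N.Normal] (lam : N → ℂ) (hlam : Cfsg.IsCharacter N lam ∧ lam 1 = 1) (hinv : ∀ (g : G) (n : N), lam ⟨g * n * g⁻¹, hN.conj_mem (n : G) n.2 g⟩ = lam n) (hsyl : ∀ p : ℕ, p.Prime → p ∣ orderOf lam → ∃ (H : Subgroup G) (hNH : N ≤ H) (ν : H → ℂ), Nat.Coprime H.index p ∧ (∃ k : ℕ, N.relIndex H = p ^ k) ∧ Cfsg.IsCharacter H ν ∧ ν 1 = 1 ∧ ∀ n : N, ν ⟨(n : G), hNH n.2⟩ = lam n) : ∃ μ : G → ℂ, Cfsg.IsCharacter G μ ∧ μ 1 = 1 ∧ ∀ n : N, μ n = lam n := by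
  classical
  haveI := Fintype.ofFinite G
  obtain ⟨f, rfl⟩ := CfsgLib.Char.IsCharacter.exists_hom hlam.1 hlam.2
  rw [CfsgLib.Char.orderOf_coe_hom] at hsyl
  have hfinv : ∀ (g : G) (n : N), f ⟨g * n * g⁻¹, hN.conj_mem (n : G) n.2 g⟩ = f n :=
    fun g n => Units.ext (hinv g n)
  obtain ⟨F, hF⟩ := CfsgLib.Char.exists_extend_of_exponents f fun p hp => by
    by_cases hpo : p ∣ orderOf f
    · obtain ⟨H, hNH, ν, hcop, -, hν, hν1, hνN⟩ := hsyl p hp hpo
      obtain ⟨V, rfl⟩ := CfsgLib.Char.IsCharacter.exists_hom hν hν1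
      exact ⟨H.index, fun h => hp.ne_one (Nat.eq_one_of_dvd_coprimes hcop h (dvd_refl p)),
        CfsgLib.Char.index_mem_extExponents hNH f V (fun c => Units.ext (hνN c)) hfinv⟩
    · exact ⟨orderOf f, hpo, 1, fun c => by
        rw [MonoidHom.one_apply, zpow_natCast, ← MonoidHom.pow_apply, pow_orderOf_eq_one,
          MonoidHom.one_apply]⟩
  exact ⟨fun g => (F g : ℂ), CfsgLib.Char.isCharacter_ofHom F, by simp,
    fun n => congrArg Units.val (hF n)⟩

end Cfsg.Agent.S0864
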