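-- Proof of statement S0876.
import Cfsg.Statements.S0876
import Cfsg.Agent.Char.IntegralBrauer

set_option autoImplicit false
open Cfsg

namespace Cfsg.Agent.S0876

/-- Let G be a finite group, p a prime and M a maximal ideal of the ring of algebraic integers containing p. Let x, y be elements with p-parts a and b (so a⁻¹ * x and b⁻¹ * y are their p-regular parts). Then a⁻¹ * x and b⁻¹ * y are conjugate in G if and only if, for every irreducible character χ, the difference χ x - χ y lies in the local ideal at M. -/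
theorem result {G : Type*} [Group G] [Finite G] (p : ℕ) (M : Ideal Cfsg.AlgInt) (hM : Cfsg.IsPModular p M) (x y a b : G) (ha : Cfsg.IsPPart p x a) (hb : Cfsg.IsPPart p y b) : IsConj (a⁻¹ * x) (b⁻¹ * y) ↔ ∀ χ : Cfsg.IrrCharacter G, Cfsg.MemLocalIdeal M ((χ : G → ℂ) x - (χ : G → ℂ) y) := by
  have := Fintype.ofFinite G
  have := CfsgLib.Block.isPrime_of_isPModular hM
  obtain ⟨x', hxe, hxc, ⟨i, hi⟩, hx'⟩ := ha
  obtain ⟨y', hye, hyc, ⟨k, hk⟩, hy'⟩ := hb
  have e1 : a⁻¹ * x = x' := by rw [← hxe, inv_mul_cancel_left]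
  have e2 : b⁻¹ * y = y' := by rw [← hye, inv_mul_cancel_left]
  rw [e1, e2]
  have hp : p.Prime := hM.1
  have hcx : ∀ χ : Cfsg.IrrCharacter G,
      Cfsg.MemLocalIdeal M ((χ : G → ℂ) x - (χ : G → ℂ) x') := fun χ => by
    rw [← hxe]
    exact CfsgLib.Block.char_cong_pPart hM (CfsgLib.Char.IsIrrCharacter.isCharacter χ.2) hxc
      (hi ▸ pow_orderOf_eq_one a) hx' (pow_orderOf_eq_one x')
  have hcy : ∀ χ : Cfsg.IrrCharacter G,
      Cfsg.MemLocalIdeal M ((χ : G → ℂ) y - (χ : G → ℂ) y') := fun χ => by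
    rw [← hye]
    exact CfsgLib.Block.char_cong_pPart hM (CfsgLib.Char.IsIrrCharacter.isCharacter χ.2) hyc
      (hk ▸ pow_orderOf_eq_one b) hy' (pow_orderOf_eq_one y')
  constructor
  · intro h χ
    refine CfsgLib.Block.memLocalIdeal_sub_trans (hcx χ) ?_
    rw [CfsgLib.Char.IsClassFunction.apply_eq_of_isConj
      (CfsgLib.Char.IsIrrCharacter.isClassFunction χ.2) h]
    exact CfsgLib.Block.memLocalIdeal_sub_comm (hcy χ)
  · intro h
    refine CfsgLib.Char.isConj_of_cong hM hx' hy' fun χ hχ => ?_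
    exact CfsgLib.Block.memLocalIdeal_sub_trans
      (CfsgLib.Block.memLocalIdeal_sub_comm (hcx ⟨χ, hχ⟩))
      (CfsgLib.Block.memLocalIdeal_sub_trans (h ⟨χ, hχ⟩) (hcy ⟨χ, hχ⟩))

end Cfsg.Agent.S0876
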