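-- Proof of statement S0886.
import Cfsg.Statements.S0886
import Cfsg.Agent.GlaubermanCorr.Extend
import Mathlib.RingTheory.RootsOfUnity.Complex
import Mathlib.GroupTheory.SpecificGroups.Cyclic

set_option autoImplicit false
open Cfsg

namespace Cfsg.Agent.S0886

/-- Let N be a normal subgroup of the finite group G with G / N cyclic, and ϑ an irreducible character of N invariant under conjugation by G. Then ϑ is the restriction of some irreducible character of G. -/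
theorem result {G : Type*} [Group G] [Finite G] (N : Subgroup G) [hN : N.Normal] (hcyc : IsCyclic (G ⧸ N)) (ϑ : N → ℂ) (hϑ : Cfsg.IsIrrCharacter N ϑ) (hinv : ∀ (g : G) (n : N), ϑ ⟨g * n * g⁻¹, hN.conj_mem (n : G) n.2 g⟩ = ϑ n) : ∃ χ : G → ℂ, Cfsg.IsIrrCharacter G χ ∧ ∀ n : N, χ n = ϑ n := by
  classical
  haveI := Fintype.ofFinite G
  obtain ⟨y, hy⟩ := hcyc.exists_generator
  obtain ⟨x, rfl⟩ := QuotientGroup.mk_surjective y
  haveI : NeZero N.index := ⟨Subgroup.index_ne_zero_of_finite⟩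
  have hord : orderOf (x : G ⧸ N) = N.index := orderOf_eq_card_of_forall_mem_zpowers hy
  obtain ⟨ω, hω⟩ : ∃ ω : ℂ, IsPrimitiveRoot ω N.index :=
    ⟨_, Complex.isPrimitiveRoot_exp N.index (NeZero.ne _)⟩
  obtain ⟨u, hu, hu'⟩ : ∃ u : ℂˣ, (u : ℂ) = ω ∧ orderOf u = N.index :=
    ⟨Units.mk0 ω (hω.ne_zero (NeZero.ne _)), rfl, by
      rw [← orderOf_units, Units.val_mk0]; exact hω.eq_orderOf.symm⟩
  obtain ⟨lam0, hlam0⟩ : ∃ lam0 : G ⧸ N →* ℂˣ, lam0 (x : G ⧸ N) = u :=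
    ⟨monoidHomOfForallMemZpowers hy (show orderOf u ∣ orderOf (x : G ⧸ N) by rw [hord, hu']),
      monoidHomOfForallMemZpowers_apply_gen hy _⟩
  have hgen : ∀ g : G, ∃ k ∈ N, ∃ i : ℕ, g = k * x ^ i := fun g => by
    obtain ⟨i, hi⟩ := mem_powers_iff_mem_zpowers.2 (hy (g : G ⧸ N))
    refine ⟨g * (x ^ i)⁻¹, ?_, i, by group⟩
    rw [← QuotientGroup.eq_one_iff, QuotientGroup.mk_mul, QuotientGroup.mk_inv,
      QuotientGroup.mk_pow, show (x : G ⧸ N) ^ i = (g : G ⧸ N) from hi, mul_inv_cancel]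
  have hd : CfsgLib.GlaubermanCorr.CycData N x N.index (lam0.comp (QuotientGroup.mk' N)) ω := by
    refine ⟨hω, ?_, fun g => ?_, hgen⟩
    · rw [MonoidHom.comp_apply, QuotientGroup.mk'_apply, hlam0, hu]
    · obtain ⟨k, hk, i, rfl⟩ := hgen g
      rw [← QuotientGroup.eq_one_iff, MonoidHom.comp_apply, QuotientGroup.mk'_apply,
        QuotientGroup.mk_mul, (QuotientGroup.eq_one_iff k).2 hk, one_mul, QuotientGroup.mk_pow,
        map_pow, hlam0, ← orderOf_dvd_iff_pow_eq_one, ← orderOf_dvd_iff_pow_eq_one, hord, hu']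
  exact hd.exists_extension ⟨ϑ, hϑ⟩ fun k k' h => by
    have h1 : k' = ⟨x * k * x⁻¹, hN.conj_mem (k : G) k.2 x⟩ := Subtype.ext h
    rw [h1]
    exact hinv x k

end Cfsg.Agent.S0886
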