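-- Proof of statement S0890.
import Cfsg.Statements.S0890
import Cfsg.Agent.S0858
import Cfsg.Agent.Char.RestrictInd
import Cfsg.Agent.Char.DegreeRatio
import Cfsg.Agent.Char.CliffordCorrespondence

set_option autoImplicit false
open Cfsg

namespace Cfsg.Agent.S0890

universe u

open scoped commutatorElement

/-- A character with irreducible restriction is irreducible. -/
theorem irr_of_restrict_irr {K : Type u} [Group K] [Fintype K] (L : Subgroup K) {f : K → ℂ}
    (hf : Cfsg.IsCharacter K f) (hL : Cfsg.IsIrrCharacter L (fun x : L => f x)) :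
    Cfsg.IsIrrCharacter K f := by
  classical
  haveI := Fintype.ofFinite L
  have hf0 : f ≠ 0 := fun h => CfsgLib.Char.IsIrrCharacter.ne_zero hL (by funext x; simp [h])
  obtain ⟨a, ha, hc⟩ := CfsgLib.Char.IsCharacter.exists_constituent hf hf0
  by_contra hn
  have hsub := CfsgLib.Char.IsCharacter.sub_irr hf ha hc
  have hA := CfsgLib.Char.IsCharacter.restrict (CfsgLib.Char.IsIrrCharacter.isCharacter ha) L
  have hB := CfsgLib.Char.IsCharacter.restrict hsub L
  have hA0 : (fun x : L => a x) ≠ 0 := fun h =>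
    CfsgLib.Char.IsIrrCharacter.apply_one_ne_zero ha (by simpa using congrFun h 1)
  have hB0 : (fun x : L => (f - a) x) ≠ 0 := fun h => by
    apply hn
    have h0 := CfsgLib.Char.IsCharacter.eq_zero_of_apply_one hsub (by simpa using congrFun h 1)
    rwa [sub_eq_zero.1 h0]
  obtain ⟨x, hx⟩ := CfsgLib.Char.IsCharacter.exists_classInner_eq_natCast' hA hA
  obtain ⟨y, hy⟩ := CfsgLib.Char.IsCharacter.exists_classInner_eq_natCast' hA hB
  obtain ⟨z, hz⟩ := CfsgLib.Char.IsCharacter.exists_classInner_eq_natCast' hB hA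
  obtain ⟨w, hw⟩ := CfsgLib.Char.IsCharacter.exists_classInner_eq_natCast' hB hB
  have hx0 : x ≠ 0 := fun h => hA0 (CfsgLib.Char.classInner_self_eq_zero (by rw [hx, h, Nat.cast_zero]))
  have hw0 : w ≠ 0 := fun h => hB0 (CfsgLib.Char.classInner_self_eq_zero (by rw [hw, h, Nat.cast_zero]))
  have h1 := CfsgLib.Char.IsIrrCharacter.classInner_self hL
  rw [show (fun x : L => f x) = (fun x : L => a x) + fun x : L => (f - a) x by funext u; simp,
    CfsgLib.Char.classInner_add_left, CfsgLib.Char.classInner_add_right,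
    CfsgLib.Char.classInner_add_right, hx, hy, hz, hw] at h1
  have h2 : x + y + (z + w) = 1 := by exact_mod_cast h1
  omega

/-- An abelian chief factor has prime power order. -/
theorem relIndex_prime_pow {G : Type u} [Group G] [Finite G] (K L : Subgroup G) [K.Normal]
    [L.Normal] (hLK : L < K) (hchief : ∀ M : Subgroup G, M.Normal → L ≤ M → M ≤ K → M = L ∨ M = K)
    (hab : ⁅K, K⁆ ≤ L) : ∃ p n : ℕ, p.Prime ∧ 1 ≤ n ∧ L.relIndex K = p ^ n := by
  have hne1 : L.relIndex K ≠ 1 := fun h => hLK.not_ge (Subgroup.relIndex_eq_one.1 h)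
  obtain ⟨p, hp, hpd⟩ := Nat.exists_prime_and_dvd hne1
  haveI : Fact p.Prime := ⟨hp⟩
  let q := QuotientGroup.mk' L
  have hcomm : ∀ x ∈ K, ∀ y ∈ K, Commute (q x) (q y) := fun x hx y hy => by
    rw [← commutatorElement_eq_one_iff_commute, ← map_commutatorElement]
    exact (QuotientGroup.eq_one_iff _).2 (hab (Subgroup.commutator_mem_commutator hx hy))
  let S : Subgroup G :=
    { carrier := {x | x ∈ K ∧ q x ^ p = 1}
      one_mem' := ⟨K.one_mem, by rw [map_one, one_pow]⟩
      mul_mem' := fun {a b} ha hb => ⟨K.mul_mem ha.1 hb.1, by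
        rw [map_mul, (hcomm a ha.1 b hb.1).mul_pow, ha.2, hb.2, mul_one]⟩
      inv_mem' := fun {a} ha => ⟨K.inv_mem ha.1, by rw [map_inv, inv_pow, ha.2, inv_one]⟩ }
  have hS : S.Normal := ⟨fun x hx g => ⟨Subgroup.Normal.conj_mem inferInstance x hx.1 g, by
    rw [map_mul, map_mul, map_inv, conj_pow, hx.2, mul_one, mul_inv_cancel]⟩⟩
  have hLS : L ≤ S := fun x hx => ⟨hLK.le hx, by
    rw [show q x = 1 from (QuotientGroup.eq_one_iff x).2 hx, one_pow]⟩
  haveI : (L.subgroupOf K).Normal := Subgroup.Normal.subgroupOf inferInstance K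
  obtain ⟨y, hy⟩ := exists_prime_orderOf_dvd_card' (G := ↥K ⧸ L.subgroupOf K) p hpd
  obtain ⟨x, rfl⟩ := QuotientGroup.mk_surjective y
  have hxS : (x : G) ∈ S := ⟨x.2, by
    rw [← map_pow]
    refine (QuotientGroup.eq_one_iff _).2 ?_
    have : ((x ^ p : K) : ↥K ⧸ L.subgroupOf K) = 1 := by
      rw [QuotientGroup.mk_pow, ← hy, pow_orderOf_eq_one]
    simpa [Subgroup.mem_subgroupOf] using (QuotientGroup.eq_one_iff _).1 this⟩
  have hSK : S = K := (hchief S hS hLS fun x hx => hx.1).resolve_left fun h => by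
    have h1 : ((x : K) : ↥K ⧸ L.subgroupOf K) = 1 := (QuotientGroup.eq_one_iff _).2 (h ▸ hxS)
    rw [h1, orderOf_one] at hy
    exact hp.ne_one hy.symm
  have hP : IsPGroup p (↥K ⧸ L.subgroupOf K) := fun z => ⟨1, by
    obtain ⟨k, rfl⟩ := QuotientGroup.mk_surjective z
    have hk : (k : G) ∈ S := by rw [hSK]; exact k.2
    rw [pow_one, ← QuotientGroup.mk_pow, QuotientGroup.eq_one_iff, Subgroup.mem_subgroupOf,
      ← QuotientGroup.eq_one_iff]
    exact hk.2⟩
  obtain ⟨n, hn⟩ := IsPGroup.iff_card.1 hP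
  exact ⟨p, n, hp, Nat.one_le_iff_ne_zero.2 fun h0 => hne1 (by
    rw [h0, pow_zero] at hn; exact hn), hn⟩

/-- In a `p`-quotient a chief factor is central. -/
theorem commutator_le_of_pPower {G : Type u} [Group G] [Finite G] (M K L : Subgroup G) [M.Normal]
    [K.Normal] [L.Normal] (hLK : L < K) (hKM : K ≤ M)
    (hchief : ∀ N : Subgroup G, N.Normal → L ≤ N → N ≤ K → N = L ∨ N = K)
    {p n : ℕ} [Fact p.Prime] (hn : L.relIndex M = p ^ n) : ⁅K, M⁆ ≤ L := by
  rcases hchief (⁅K, M⁆ ⊔ L) inferInstance le_sup_right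
    (sup_le (Subgroup.commutator_le_left _ _) hLK.le) with h | h
  · exact le_sup_left.trans h.le
  exfalso
  set M' := M.map (QuotientGroup.mk' L)
  set K' := K.map (QuotientGroup.mk' L)
  have hM' : IsPGroup p M' := IsPGroup.of_card (n := n) (by
    rw [← hn, ← Subgroup.relIndex_bot_left, ← Subgroup.relIndex_comap, MonoidHom.comap_bot,
      QuotientGroup.ker_mk'])
  haveI := hM'.isNilpotent
  have hK' : K' = ⁅K', M'⁆ := by
    conv_lhs => rw [show K' = (⁅K, M⁆ ⊔ L).map (QuotientGroup.mk' L) by rw [h]]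
    rw [Subgroup.map_sup, Subgroup.map_commutator, QuotientGroup.map_mk'_self, sup_bot_eq]
  have hlcs : ∀ i : ℕ, K' ≤ M'.lowerCentralSeries i := by
    intro i
    induction i with
    | zero => exact Subgroup.map_mono hKM
    | succ i ih =>
      rw [hK']
      exact Subgroup.commutator_mono ih le_rfl
  obtain ⟨i, hi⟩ := (Subgroup.isNilpotent_iff_lowerCentralSeries M').1 inferInstance
  have h1 := hlcs i
  rw [hi, le_bot_iff, Subgroup.map_eq_bot_iff, QuotientGroup.ker_mk'] at h1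
  exact hLK.not_ge h1

/-- Frobenius reciprocity along a factorisation. -/
theorem classInner_restrict_ind {G : Type u} [Group G] [Fintype G] (H M : Subgroup G) [M.Normal]
    [Fintype M] [Fintype (H.subgroupOf M)] (hHM : M ⊔ H = ⊤) {ϑ : H → ℂ}
    (hϑ : Cfsg.IsClassFunction H ϑ) :
    Cfsg.classInner (fun x : M => Cfsg.indFun H ϑ x) (fun x : M => Cfsg.indFun H ϑ x) =
      Cfsg.classInner (fun u : H.subgroupOf M => ϑ ⟨((u : M) : G), u.2⟩)
        (fun u : H.subgroupOf M => Cfsg.indFun H ϑ ((u : M) : G)) := by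
  have hmul : ∀ x : G, ∃ a ∈ M, ∃ b ∈ H, a * b = x := fun x =>
    Subgroup.mem_sup_of_normal_left.1 (hHM ▸ Subgroup.mem_top x)
  have h1 := CfsgLib.Char.indFun_restrict_of_mul_eq_top M H hmul hϑ
  conv_lhs => arg 1; rw [h1]
  rw [CfsgLib.Char.classInner_indFun]
  exact fun x y => CfsgLib.Char.isClassFunction_indFun H ϑ (x : G) (y : G)

set_option maxHeartbeats 1000000 in
theorem no_homogeneous {G : Type u} [Group G] [Fintype G] (H : Subgroup G) (hmax : IsCoatom H)
    (L : Subgroup G) [L.Normal] (hLH : L ≤ H) (hcore : H.normalCore ≤ L) (j : ℕ)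
    (hj : derivedSeries G j ≤ L) (ϑ : H → ℂ) (hϑ : Cfsg.IsIrrCharacter H ϑ)
    (hϑL : Cfsg.IsIrrCharacter L (fun x : L => ϑ ⟨(x : G), hLH x.2⟩))
    (hind : Cfsg.IsIrrCharacter G (Cfsg.indFun H ϑ))
    (hhom : ∀ M : Subgroup G, M.Normal → L ≤ M → ∃ (φ : M → ℂ) (e : ℕ),
      Cfsg.IsIrrCharacter M φ ∧ (fun m : M => Cfsg.indFun H ϑ m) = (e : ℂ) • φ) : False := by
  classical
  haveI := Fintype.ofFinite H
  haveI := Fintype.ofFinite L
  have hϑc := CfsgLib.Char.IsIrrCharacter.isClassFunction hϑ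
  have hχc := CfsgLib.Char.IsIrrCharacter.isClassFunction hind
  set χ := Cfsg.indFun H ϑ with hχdef
  set φ : L → ℂ := fun x => ϑ ⟨(x : G), hLH x.2⟩
  obtain ⟨d, hd0, hd⟩ := CfsgLib.Char.IsIrrCharacter.exists_degree hϑ
  have hd1 : (d : ℂ) ≠ 0 := hd ▸ CfsgLib.Char.IsIrrCharacter.apply_one_ne_zero hϑ
  have hφ1 : φ 1 = d := hd
  have hχ1 : χ 1 = (H.index : ℂ) * d := by rw [hχdef, CfsgLib.Char.indFun_one, hd]
  -- the restriction to `L`
  have hχL : (fun x : L => χ x) = (H.index : ℂ) • φ := by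
    obtain ⟨φ0, e0, hφ0, hφ0e⟩ := hhom L inferInstance le_rfl
    have hin : Cfsg.classInner (fun x : L => χ x) φ ≠ 0 := by
      have h1 : Cfsg.classInner (fun x : H => χ x) ϑ = 1 := by
        rw [← CfsgLib.Char.classInner_indFun_right hχc]
        exact CfsgLib.Char.IsIrrCharacter.classInner_self hind
      obtain ⟨r, hr⟩ := CfsgLib.Char.IsCharacter.exists_classInner_eq_natCast
        (CfsgLib.Char.IsCharacter.comp (CfsgLib.Char.IsCharacter.sub_irr
          (CfsgLib.Char.IsCharacter.restrict (CfsgLib.Char.IsIrrCharacter.isCharacter hind) H) hϑ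
          (h1 ▸ one_ne_zero)) (Subgroup.inclusion hLH)) hϑL
      rw [show (fun x : L => χ x) = φ + fun x : L =>
          ((fun y : H => χ y) - ϑ) (Subgroup.inclusion hLH x) by
            funext x; simp [φ, Subgroup.inclusion],
        CfsgLib.Char.classInner_add_left, CfsgLib.Char.IsIrrCharacter.classInner_self hϑL, hr,
        ← Nat.cast_one, ← Nat.cast_add, Nat.cast_ne_zero]
      omega
    have heq : φ0 = φ := by
      by_contra hne
      apply hin
      rw [hφ0e, CfsgLib.Char.classInner_smul_left,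
        CfsgLib.Char.IsIrrCharacter.classInner_of_ne hφ0 hϑL hne, mul_zero]
    subst heq
    rw [hφ0e]
    congr 1
    have h1 := congrFun hφ0e 1
    simp only [OneMemClass.coe_one, Pi.smul_apply, smul_eq_mul, hφ1, hχ1] at h1
    exact (mul_right_cancel₀ hd1 h1).symm
  -- a chief factor above `L`
  have hLne : L ≠ ⊤ := fun h => hmax.1 (top_le_iff.1 (h ▸ hLH))
  obtain ⟨K, ⟨hKn, hLK⟩, hKmin⟩ := (Set.toFinite {K : Subgroup G | K.Normal ∧ L < K}).exists_minimal
    ⟨⊤, inferInstance, hLne.lt_top⟩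
  haveI := hKn
  haveI := Fintype.ofFinite K
  have hchief : ∀ M : Subgroup G, M.Normal → L ≤ M → M ≤ K → M = L ∨ M = K := by
    intro M hM h1 h2
    rcases h1.lt_or_eq with h | h
    · exact Or.inr (le_antisymm h2 (hKmin ⟨hM, h⟩ h2))
    · exact Or.inl h.symm
  have hab := Cfsg.Agent.S0858.commutator_le_of_chief K L hLK hchief hj
  have hKH : K ⊔ H = ⊤ := hmax.2 _ (lt_of_le_of_ne le_sup_right fun h =>
    hLK.not_ge ((Subgroup.normal_le_normalCore.2 (le_sup_left.trans h.ge)).trans hcore))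
  have hKHL : ∀ x : G, x ∈ K → x ∈ H → x ∈ L := by
    have hn : (K ⊓ H).Normal := by
      refine Subgroup.normalizer_eq_top_iff.1 (top_le_iff.1 (hKH ▸ sup_le ?_ ?_))
      · exact Subgroup.le_set_normalizer_iff.2 fun k hk x hx => ⟨hKn.conj_mem x hx.1 k, by
          have : k * x * k⁻¹ = ⁅k, x⁆ * x := by rw [commutatorElement_def]; group
          rw [this]
          exact H.mul_mem (hLH (hab (Subgroup.commutator_mem_commutator hk hx.1))) hx.2⟩
      · exact Subgroup.le_set_normalizer_iff.2 fun k hk x hx =>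
          ⟨hKn.conj_mem x hx.1 k, H.mul_mem (H.mul_mem hk hx.2) (H.inv_mem hk)⟩
    exact fun x h1 h2 => hcore (Subgroup.normal_le_normalCore.2 (inf_le_right : K ⊓ H ≤ H) ⟨h1, h2⟩)
  obtain ⟨ψ, f, hψ, hψe⟩ := hhom K hKn hLK.le
  haveI := Fintype.ofFinite (H.subgroupOf K)
  have hfe : f ^ 2 = H.index := by
    have h1 : Cfsg.classInner (fun x : K => χ x) (fun x : K => χ x) = ((f ^ 2 : ℕ) : ℂ) := by
      rw [hψe, CfsgLib.Char.classInner_smul_left, CfsgLib.Char.classInner_smul_right,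
        CfsgLib.Char.IsIrrCharacter.classInner_self hψ, Complex.conj_natCast]
      push_cast; ring
    have h2 : Cfsg.classInner (fun u : H.subgroupOf K => ϑ ⟨((u : K) : G), u.2⟩)
        (fun u : H.subgroupOf K => χ ((u : K) : G)) = (H.index : ℂ) := by
      let e : H.subgroupOf K ≃* L :=
        { toFun := fun u => ⟨((u : K) : G), hKHL _ (u : K).2 u.2⟩
          invFun := fun x => ⟨⟨(x : G), hLK.le x.2⟩, hLH x.2⟩
          left_inv := fun _ => rfl
          right_inv := fun _ => rfl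
          map_mul' := fun _ _ => rfl }
      have h3 := CfsgLib.Char.classInner_comp_mulEquiv e φ (fun x : L => χ x)
      refine h3.trans ?_
      rw [hχL, CfsgLib.Char.classInner_smul_right, CfsgLib.Char.IsIrrCharacter.classInner_self hϑL,
        Complex.conj_natCast, mul_one]
    rw [hχdef, classInner_restrict_ind H K hKH hϑc, ← hχdef, h2] at h1
    exact_mod_cast h1.symm
  have hidx : 1 < H.index := by
    have := Subgroup.index_ne_zero_of_finite (H := H)
    have : H.index ≠ 1 := fun h => hmax.1 (Subgroup.index_eq_one.1 h)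
    omega
  have hf0 : f ≠ 0 := fun h => by rw [h] at hfe; simp at hfe; omega
  obtain ⟨p, i, hp, hi, hpi⟩ := relIndex_prime_pow K L hLK hchief hab
  have hHK : H.relIndex K = L.relIndex K := by
    have : H.subgroupOf K = L.subgroupOf K := Subgroup.ext fun x =>
      ⟨fun h => hKHL _ x.2 h, fun h => hLH h⟩
    exact congrArg Subgroup.index this
  have hidxK : H.index = L.relIndex K := by
    rw [← hHK]
    have h1 := congrFun (CfsgLib.Char.indFun_restrict_of_mul_eq_top K H (fun x =>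
      Subgroup.mem_sup_of_normal_left.1 (hKH ▸ Subgroup.mem_top x)) hϑc) 1
    rw [CfsgLib.Char.indFun_one] at h1
    simp only [OneMemClass.coe_one] at h1
    rw [← hχdef, hχ1] at h1
    have h2 : ϑ ⟨((1 : G)), H.one_mem⟩ = d := hd
    simp only [h2] at h1
    exact_mod_cast mul_right_cancel₀ hd1 h1
  by_cases hKtop : K = ⊤
  · -- `G / L` has prime order
    subst hKtop
    have hHL : H = L := le_antisymm (fun x hx => hKHL x (Subgroup.mem_top x) hx) hLH
    subst hHL
    obtain ⟨g, -, hg⟩ := Set.exists_of_ssubset (show ((H : Set G)) ⊂ (⊤ : Subgroup G) from hLK)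
    obtain ⟨x, hx⟩ := exists_prime_orderOf_dvd_card' (G := G ⧸ H) (hp := ⟨hp⟩) p
      (by rw [← Subgroup.index_eq_card, hidxK, hpi]; exact dvd_pow_self p (by omega))
    have hA : (Subgroup.zpowers x).comap (QuotientGroup.mk' H) = ⊤ := by
      refine hmax.2 _ (lt_of_le_of_ne (fun y hy => ?_) fun h => ?_)
      · rw [Subgroup.mem_comap, show QuotientGroup.mk' H y = 1 from
          (QuotientGroup.eq_one_iff y).2 hy]
        exact Subgroup.one_mem _
      · obtain ⟨y, rfl⟩ := QuotientGroup.mk_surjective x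
        have hy : y ∈ H := h ▸ Subgroup.mem_zpowers _
        rw [(QuotientGroup.eq_one_iff y).2 hy, orderOf_one] at hx
        exact hp.ne_one hx.symm
    have htop : Subgroup.zpowers x = ⊤ := top_le_iff.1 fun y _ => by
      obtain ⟨z, rfl⟩ := QuotientGroup.mk_surjective y
      exact (hA ▸ Subgroup.mem_top z : z ∈ (Subgroup.zpowers x).comap (QuotientGroup.mk' H))
    have hcard : H.index = p := by
      rw [Subgroup.index_eq_card, ← Subgroup.card_top, ← htop, Nat.card_zpowers, hx]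
    rw [hcard] at hfe
    exact Nat.Prime.not_prime_pow (le_refl 2) (hfe ▸ hp)
  -- a chief factor above `K`
  obtain ⟨M, ⟨hMn, hKM⟩, hMmin⟩ := (Set.toFinite {M : Subgroup G | M.Normal ∧ K < M}).exists_minimal
    ⟨⊤, inferInstance, Ne.lt_top hKtop⟩
  haveI := hMn
  haveI := Fintype.ofFinite M
  haveI := Fintype.ofFinite (H.subgroupOf M)
  have hchief2 : ∀ N : Subgroup G, N.Normal → K ≤ N → N ≤ M → N = K ∨ N = M := by
    intro N hN h1 h2
    rcases h1.lt_or_eq with h | h
    · exact Or.inr (le_antisymm h2 (hMmin ⟨hN, h⟩ h2))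
    · exact Or.inl h.symm
  obtain ⟨q, i', hq, -, hqi⟩ := relIndex_prime_pow M K hKM hchief2
    (Cfsg.Agent.S0858.commutator_le_of_chief M K hKM hchief2 (hj.trans hLK.le))
  have hMH : M ⊔ H = ⊤ := top_le_iff.1 (hKH ▸ sup_le_sup_right hKM.le H)
  have hMbig : ¬ ∀ x ∈ M, x ∈ H → x ∈ L := by
    intro h
    obtain ⟨m, hmM, hmK⟩ := Set.exists_of_ssubset (show (K : Set G) ⊂ M from hKM)
    obtain ⟨k, hk, b, hb, hkb⟩ := Subgroup.mem_sup_of_normal_left.1
      (hKH ▸ Subgroup.mem_top m : m ∈ K ⊔ H)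
    have hbM : b ∈ M := by
      rw [show b = k⁻¹ * m by rw [← hkb, inv_mul_cancel_left]]
      exact M.mul_mem (M.inv_mem (hKM.le hk)) hmM
    exact hmK (hkb ▸ K.mul_mem hk (hLK.le (h b hbM hb)))
  have hpq : p ≠ q := by
    rintro rfl
    haveI : Fact p.Prime := ⟨hp⟩
    have hcent : ⁅K, M⁆ ≤ L := commutator_le_of_pPower M K L hLK hKM.le hchief (p := p) (n := i + i')
      (by rw [← Subgroup.relIndex_mul_relIndex L K M hLK.le hKM.le, hpi, hqi, pow_add])
    apply hMbig
    have hn : (M ⊓ H).Normal := by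
      refine Subgroup.normalizer_eq_top_iff.1 (top_le_iff.1 (hKH ▸ sup_le ?_ ?_))
      · exact Subgroup.le_set_normalizer_iff.2 fun k hk x hx => ⟨hMn.conj_mem x hx.1 k, by
          have : k * x * k⁻¹ = ⁅k, x⁆ * x := by rw [commutatorElement_def]; group
          rw [this]
          exact H.mul_mem (hLH (hcent (Subgroup.commutator_mem_commutator hk hx.1))) hx.2⟩
      · exact Subgroup.le_set_normalizer_iff.2 fun k hk x hx =>
          ⟨hMn.conj_mem x hx.1 k, H.mul_mem (H.mul_mem hk hx.2) (H.inv_mem hk)⟩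
    exact fun x h1 h2 =>
      hcore (Subgroup.normal_le_normalCore.2 (inf_le_right : M ⊓ H ≤ H) ⟨h1, h2⟩)
  obtain ⟨ω, c, hω, hωe⟩ := hhom M hMn (hLK.le.trans hKM.le)
  -- the multiplicity does not drop
  have hcf : c = f := by
    haveI : (K.subgroupOf M).Normal := hKn.subgroupOf M
    haveI := Fintype.ofFinite (K.subgroupOf M)
    obtain ⟨θ, hθ, hθc⟩ := CfsgLib.Char.exists_constituent_restrict (N := K.subgroupOf M) hω
    have hψ' := CfsgLib.Char.isIrrCharacter_pullBack hKM.le hψ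
    have hχM : (fun x : K.subgroupOf M => χ ((x : M) : G)) =
        (f : ℂ) • CfsgLib.Char.pullBack ψ := funext fun x =>
      congrFun hψe ⟨((x : M) : G), x.2⟩
    have hθψ : θ = CfsgLib.Char.pullBack ψ := by
      by_contra hne
      apply hθc
      have h1 : ((c : ℂ) * Cfsg.classInner (fun x : K.subgroupOf M => ω x) θ) = 0 := by
        rw [← CfsgLib.Char.classInner_smul_left,
          show (c : ℂ) • (fun x : K.subgroupOf M => ω x) = fun x : K.subgroupOf M => χ ((x : M) : G)
            from funext fun x => (congrFun hωe (x : M)).symm,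
          hχM, CfsgLib.Char.classInner_smul_left,
          CfsgLib.Char.IsIrrCharacter.classInner_of_ne hψ' hθ (Ne.symm hne), mul_zero]
      refine (mul_eq_zero.1 h1).resolve_left fun hc0 => ?_
      have h2 := congrFun hωe 1
      simp only [OneMemClass.coe_one, Pi.smul_apply, hc0, smul_eq_mul, zero_mul] at h2
      exact CfsgLib.Char.IsIrrCharacter.apply_one_ne_zero hind h2
    obtain ⟨b, hb, hb1⟩ := CfsgLib.Char.exists_degree_ratio hω hθ hθc
    rw [hθψ, show CfsgLib.Char.pullBack (T := M) ψ 1 = ψ 1 from rfl] at hb1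
    have h2 := congrFun hωe 1
    have h3 := congrFun hψe 1
    simp only [OneMemClass.coe_one, Pi.smul_apply, smul_eq_mul] at h2 h3
    rw [h3, hb1, ← mul_assoc] at h2
    have hcb : f = c * b := by
      exact_mod_cast mul_right_cancel₀ (CfsgLib.Char.IsIrrCharacter.apply_one_ne_zero hψ) h2
    obtain ⟨r, -, hr⟩ := (Nat.dvd_prime_pow hq).1 (hqi ▸ hb : b ∣ q ^ i')
    have hbp : b ∣ p ^ i := hpi ▸ hidxK ▸ hfe ▸ (dvd_pow (hcb ▸ dvd_mul_left b c) two_ne_zero)
    have hb1' : b = 1 := Nat.eq_one_of_dvd_coprimes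
      (Nat.coprime_pow_primes r i hq hp (Ne.symm hpq)) (hr ▸ dvd_rfl) hbp
    rw [hcb, hb1', mul_one]
  subst hcf
  -- `χ` vanishes on `M` off `M ⊓ H`
  have hHM : H.relIndex M = H.index := by
    have h1 := congrFun (CfsgLib.Char.indFun_restrict_of_mul_eq_top M H (fun x =>
      Subgroup.mem_sup_of_normal_left.1 (hMH ▸ Subgroup.mem_top x)) hϑc) 1
    rw [CfsgLib.Char.indFun_one] at h1
    simp only [OneMemClass.coe_one] at h1
    rw [← hχdef, hχ1] at h1
    have h2 : ϑ ⟨((1 : G)), H.one_mem⟩ = d := hd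
    simp only [h2] at h1
    exact_mod_cast (mul_right_cancel₀ hd1 h1).symm
  set M0 := H.subgroupOf M
  have hnorm : ∀ (A : Type u) [Group A] [Fintype A] (F : A → ℂ),
      ((∑ x, ‖F x‖ ^ 2 : ℝ) : ℂ) = (Nat.card A : ℂ) * Cfsg.classInner F F := fun A _ _ F => by
    rw [CfsgLib.Char.classInner_def, ← mul_assoc,
      mul_inv_cancel₀ (Nat.cast_ne_zero.2 Nat.card_pos.ne'), one_mul, Complex.ofReal_sum]
    exact Finset.sum_congr rfl fun x _ => by rw [Complex.mul_conj']; push_cast; rfl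
  have hsM : ∑ x : M, ‖χ x‖ ^ 2 = (Nat.card M : ℝ) * H.index := by
    have := hnorm M (fun x : M => χ x)
    rw [hωe, CfsgLib.Char.classInner_smul_left, CfsgLib.Char.classInner_smul_right,
      CfsgLib.Char.IsIrrCharacter.classInner_self hω, Complex.conj_natCast, mul_one] at this
    rw [← hfe, Nat.cast_pow, pow_two (c : ℝ)]
    exact_mod_cast this
  set θ0 : M0 → ℂ := fun u => ϑ ⟨((u : M) : G), u.2⟩
  have hθ0 : Cfsg.IsIrrCharacter M0 θ0 := by
    have hLM0 : ∀ x : L, (⟨(x : G), hKM.le (hLK.le x.2)⟩ : M) ∈ M0 := fun x => hLH x.2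
    refine irr_of_restrict_irr ((L.subgroupOf M).subgroupOf M0)
      (CfsgLib.Char.IsCharacter.comp (CfsgLib.Char.IsIrrCharacter.isCharacter hϑ)
        ({ toFun := fun u => ⟨((u : M) : G), u.2⟩, map_one' := rfl, map_mul' := fun _ _ => rfl } :
          M0 →* H)) ?_
    let e : (L.subgroupOf M).subgroupOf M0 ≃* L :=
      { toFun := fun u => ⟨(((u : M0) : M) : G), u.2⟩
        invFun := fun x => ⟨⟨⟨(x : G), hKM.le (hLK.le x.2)⟩, hLM0 x⟩, x.2⟩
        left_inv := fun _ => rfl
        right_inv := fun _ => rfl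
        map_mul' := fun _ _ => rfl }
    exact CfsgLib.Char.IsIrrCharacter.comp_surjective hϑL e.toMonoidHom e.surjective
  have hsM0 : (Nat.card M0 : ℝ) * (H.index : ℝ) ^ 2 ≤ ∑ u : M0, ‖χ ((u : M) : G)‖ ^ 2 := by
    have h1 : Cfsg.classInner θ0 (fun u : M0 => χ ((u : M) : G)) = (H.index : ℂ) := by
      rw [hχdef, ← classInner_restrict_ind H M hMH hϑc, ← hχdef, hωe,
        CfsgLib.Char.classInner_smul_left, CfsgLib.Char.classInner_smul_right,
        CfsgLib.Char.IsIrrCharacter.classInner_self hω, Complex.conj_natCast, mul_one, ← hfe]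
      push_cast; ring
    have h1' : Cfsg.classInner (fun u : M0 => χ ((u : M) : G)) θ0 = (H.index : ℂ) := by
      rw [← CfsgLib.Char.classInner_conj, h1, Complex.conj_natCast]
    have h2 : (Nat.card M0 : ℂ) * Cfsg.classInner ((fun u : M0 => χ ((u : M) : G)) -
        (H.index : ℂ) • θ0) ((fun u : M0 => χ ((u : M) : G)) - (H.index : ℂ) • θ0) =
        ((∑ u : M0, ‖χ ((u : M) : G)‖ ^ 2 : ℝ) : ℂ) - (Nat.card M0 : ℂ) * (H.index : ℂ) ^ 2 := by
      rw [hnorm, CfsgLib.Char.classInner_sub_left, CfsgLib.Char.classInner_sub_right,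
        CfsgLib.Char.classInner_sub_right, CfsgLib.Char.classInner_smul_left,
        CfsgLib.Char.classInner_smul_left, CfsgLib.Char.classInner_smul_right,
        CfsgLib.Char.classInner_smul_right, h1, h1',
        CfsgLib.Char.IsIrrCharacter.classInner_self hθ0, Complex.conj_natCast]
      ring
    rw [← hnorm] at h2
    have h3 : (0 : ℝ) ≤ ∑ u : M0, ‖((fun u : M0 => χ ((u : M) : G)) - (H.index : ℂ) • θ0) u‖ ^ 2 :=
      Finset.sum_nonneg fun u _ => sq_nonneg _
    have h4 : (∑ u : M0, ‖((fun u : M0 => χ ((u : M) : G)) - (H.index : ℂ) • θ0) u‖ ^ 2 : ℝ) =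
        (∑ u : M0, ‖χ ((u : M) : G)‖ ^ 2) - (Nat.card M0 : ℝ) * (H.index : ℝ) ^ 2 := by
      exact_mod_cast h2
    linarith
  have hcardM : (Nat.card M : ℝ) = Nat.card M0 * H.index := by
    rw [← hHM]
    exact_mod_cast M0.card_mul_index.symm
  have hsplit := Finset.sum_filter_add_sum_filter_not (Finset.univ : Finset M)
    (fun x : M => x ∈ M0) (fun x : M => ‖χ x‖ ^ 2)
  rw [Finset.sum_subtype (p := fun x : M => x ∈ M0) _ (fun x => by simp) (fun x : M => ‖χ x‖ ^ 2)]
    at hsplit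
  have hvan : ∀ x : M, x ∉ M0 → χ x = 0 := by
    intro x hx
    have hle : ∑ y ∈ Finset.univ.filter (fun y : M => ¬ y ∈ M0), ‖χ y‖ ^ 2 ≤ 0 := by
      have : (Nat.card M0 : ℝ) * (H.index : ℝ) ^ 2 = (Nat.card M : ℝ) * H.index := by
        rw [hcardM]; ring
      linarith
    have := (Finset.sum_eq_zero_iff_of_nonneg (fun (y : M) _ => sq_nonneg ‖χ y‖)).1
      (le_antisymm hle (Finset.sum_nonneg fun y _ => sq_nonneg _)) x
      (Finset.mem_filter.2 ⟨Finset.mem_univ _, hx⟩)
    simpa using this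
  -- hence off `L`
  have hvanL : ∀ x : M, (x : G) ∉ L → χ x = 0 := by
    intro x hx
    by_contra h0
    apply hx
    refine hcore fun g => ?_
    by_contra hg
    apply h0
    rw [← hχc (x : G) g]
    exact hvan ⟨g * x * g⁻¹, hMn.conj_mem _ x.2 g⟩ hg
  apply hMbig
  have hsL : ∑ x : M, ‖χ x‖ ^ 2 = (Nat.card L : ℝ) * (H.index : ℝ) ^ 2 := by
    have h1 := hnorm L (fun x : L => χ x)
    rw [hχL, CfsgLib.Char.classInner_smul_left, CfsgLib.Char.classInner_smul_right,
      CfsgLib.Char.IsIrrCharacter.classInner_self hϑL, Complex.conj_natCast, mul_one] at h1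
    have h2 : ∑ x : L, ‖χ x‖ ^ 2 = ∑ x : M, ‖χ x‖ ^ 2 := by
      refine Finset.sum_bij_ne_zero (fun x _ _ => (⟨(x : G), hKM.le (hLK.le x.2)⟩ : M))
        (fun _ _ _ => Finset.mem_univ _) (fun a _ _ b _ _ hab => Subtype.ext
          (congrArg (fun y : M => (y : G)) hab)) (fun b _ hb => ?_) (fun _ _ _ => rfl)
      have hbL : (b : G) ∈ L := by
        by_contra hbL
        exact hb (by rw [hvanL b hbL]; simp)
      exact ⟨⟨b, hbL⟩, Finset.mem_univ _, hb, rfl⟩
    rw [← h2, pow_two (H.index : ℝ)]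
    exact_mod_cast h1
  have hcardL : Nat.card L = Nat.card M0 := by
    rw [hsM, hcardM] at hsL
    have : (H.index : ℝ) ≠ 0 := Nat.cast_ne_zero.2 Subgroup.index_ne_zero_of_finite
    have h4 : (Nat.card L : ℝ) = Nat.card M0 :=
      mul_right_cancel₀ (pow_ne_zero 2 this) (by linear_combination -hsL)
    exact_mod_cast h4
  intro x hxM hxH
  have hLM0 : ∀ y : L, (⟨(y : G), hKM.le (hLK.le y.2)⟩ : M) ∈ M0 := fun y => hLH y.2
  have hbij : Function.Bijective (fun y : L => (⟨⟨(y : G), hKM.le (hLK.le y.2)⟩, hLM0 y⟩ : M0)) :=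
    (Nat.bijective_iff_injective_and_card _).2 ⟨fun a b hab =>
      Subtype.ext (congrArg (fun y : M0 => ((y : M) : G)) hab), hcardL⟩
  obtain ⟨y, hy⟩ := hbij.2 ⟨⟨x, hxM⟩, hxH⟩
  have hyx : (y : G) = x := congrArg (fun z : M0 => ((z : M) : G)) hy
  exact hyx ▸ y.2

/-- Let L ≤ H < G with L normal in G, H a maximal subgroup and G / L solvable. Let ϑ be an irreducible character of H whose restriction to L is irreducible and whose induction χ to G is irreducible. Then there is a normal subgroup M of G containing L such that the restriction of χ to M is not a natural-number multiple of a single irreducible character of M. -/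
theorem result {G : Type*} [Group G] [Fintype G] (L H : Subgroup G) [L.Normal] (hLH : L ≤ H) (hmax : IsCoatom H) (hsolv : Group.IsSolvable (G ⧸ L)) (ϑ : H → ℂ) (hϑ : Cfsg.IsIrrCharacter H ϑ) (hϑL : Cfsg.IsIrrCharacter L (fun x : L => ϑ ⟨(x : G), hLH x.2⟩)) (hind : Cfsg.IsIrrCharacter G (Cfsg.indFun H ϑ)) : ∃ M : Subgroup G, M.Normal ∧ L ≤ M ∧ ¬ ∃ (φ : M → ℂ) (e : ℕ), Cfsg.IsIrrCharacter M φ ∧ (fun m : M => Cfsg.indFun H ϑ m) = (e : ℂ) • φ := by
  classical
  by_contra hcon
  push Not at hcon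
  obtain ⟨⟨j, hj⟩⟩ := hsolv
  have hder : derivedSeries G j ≤ L := fun x hx => by
    have h := map_derivedSeries_eq (QuotientGroup.mk'_surjective L) j
    rw [hj, Subgroup.map_eq_bot_iff, QuotientGroup.ker_mk'] at h
    exact h hx
  have hLc : L ≤ H.normalCore := Subgroup.normal_le_normalCore.2 hLH
  have hirr : Cfsg.IsIrrCharacter H.normalCore
      (fun x : H.normalCore => ϑ ⟨(x : G), H.normalCore_le x.2⟩) := by
    refine irr_of_restrict_irr (L.subgroupOf H.normalCore)
      (CfsgLib.Char.IsCharacter.comp (CfsgLib.Char.IsIrrCharacter.isCharacter hϑ)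
        (Subgroup.inclusion H.normalCore_le)) ?_
    exact CfsgLib.Char.isIrrCharacter_pullBack hLc hϑL
  exact no_homogeneous H hmax H.normalCore H.normalCore_le le_rfl j (hder.trans hLc) ϑ hϑ hirr hind
    fun M hM hLM => hcon M hM (hLc.trans hLM)

end Cfsg.Agent.S0890
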