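-- Proof of statement S0893.
import Cfsg.Statements.S0893
import Cfsg.Agent.Char.CenterValues
import Cfsg.Agent.Char.Induction

set_option autoImplicit false
open Cfsg

namespace Cfsg.Agent.S0893

/-- Let P be an extraspecial p-group of order p ^ (2 * n + 1), A an abelian subgroup of order p ^ (n + 1), and λ a character of A of degree 1 that is not identically 1 on the elements of A lying in the centre of P. Then the function induced from λ to P is an irreducible character of P and vanishes at every element outside the centre. -/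
theorem result {P : Type*} [Group P] [Fintype P] (p n : ℕ) [Fact p.Prime] (hP : Cfsg.IsExtraspecial p P) (hcard : Nat.card P = p ^ (2 * n + 1)) (A : Subgroup P) (hab : ∀ a ∈ A, ∀ b ∈ A, a * b = b * a) (hA : Nat.card A = p ^ (n + 1)) (lam : A → ℂ) (hlam : Cfsg.IsCharacter A lam ∧ lam 1 = 1) (hZ : ∃ a : A, (a : P) ∈ Subgroup.center P ∧ lam a ≠ 1) : Cfsg.IsIrrCharacter P (Cfsg.indFun A lam) ∧ ∀ x : P, x ∉ Subgroup.center P → Cfsg.indFun A lam x = 0 := by
  classical
  obtain ⟨⟨hp, -, hcomm⟩, hcen⟩ := hP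
  haveI := Fintype.ofFinite A
  obtain ⟨f, rfl⟩ := CfsgLib.Char.IsCharacter.exists_hom hlam.1 hlam.2
  obtain ⟨a, haZ, ha⟩ := hZ
  have hz : ∀ z ∈ Subgroup.center P, z ≠ 1 → ∀ w ∈ Subgroup.center P, w ∈ Subgroup.zpowers z := by
    intro z hz hz1 w hw
    have : (⟨w, hw⟩ : Subgroup.center P) ∈ Subgroup.zpowers (⟨z, hz⟩ : Subgroup.center P) :=
      mem_zpowers_of_prime_card hcen (fun h => hz1 (congrArg Subtype.val h))
    obtain ⟨i, hi⟩ := Subgroup.mem_zpowers_iff.1 this
    exact ⟨i, congrArg Subtype.val hi⟩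
  have ha1 : (a : P) ≠ 1 := fun h => ha (by simp [show a = 1 from Subtype.ext h])
  have hZA : Subgroup.center P ≤ A := fun w hw => by
    obtain ⟨i, hi⟩ := Subgroup.mem_zpowers_iff.1 (hz _ haZ ha1 w hw)
    exact hi ▸ A.zpow_mem a.2 i
  have hChar : Cfsg.IsCharacter P (Cfsg.indFun A fun x => (f x : ℂ)) :=
    CfsgLib.Char.IsCharacter.indFun (CfsgLib.Char.isCharacter_ofHom f)
  have hi0 : (A.index : ℂ) ≠ 0 := by exact_mod_cast A.index_ne_zero_of_finite
  obtain ⟨χ, hχ, hχc⟩ := CfsgLib.Char.IsCharacter.exists_constituent hChar fun h => by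
    have := congrFun h 1
    rw [CfsgLib.Char.indFun_one, map_one, Units.val_one, mul_one, Pi.zero_apply] at this
    exact hi0 this
  have hne : χ a ≠ χ 1 := by
    intro h
    refine hχc ?_
    rw [CfsgLib.Char.classInner_indFun _ (CfsgLib.Char.IsIrrCharacter.isClassFunction hχ)]
    have key : Cfsg.classInner (fun x : A => (f x : ℂ)) (fun x : A => χ x) =
        (f a : ℂ) * Cfsg.classInner (fun x : A => (f x : ℂ)) (fun x : A => χ x) := by
      rw [CfsgLib.Char.classInner_def, mul_left_comm]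
      congr 1
      rw [Finset.mul_sum]
      refine (Fintype.sum_equiv (Equiv.mulLeft a) _ _ fun x => ?_).symm
      rw [Equiv.coe_mulLeft, map_mul, Units.val_mul, Subgroup.coe_mul,
        CfsgLib.Char.IsIrrCharacter.apply_center_mul hχ haZ, h,
        div_self (CfsgLib.Char.IsIrrCharacter.apply_one_ne_zero hχ), one_mul]
      ring
    by_contra h0
    exact ha ((mul_eq_right₀ h0).1 key.symm)
  obtain ⟨hvan, hsq⟩ := CfsgLib.Char.IsIrrCharacter.vanish_of_center_commutator hχ fun g hg => by
    obtain ⟨x, hx⟩ : ∃ x : P, x * g * x⁻¹ * g⁻¹ ≠ 1 := by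
      by_contra! h
      refine hg (Subgroup.mem_center_iff.2 fun x => ?_)
      have := h x
      rw [mul_inv_eq_one, mul_inv_eq_iff_eq_mul] at this
      exact this
    have hxZ : x * g * x⁻¹ * g⁻¹ ∈ Subgroup.center P := by
      rw [← hcomm, commutator_def]
      exact Subgroup.commutator_mem_commutator (Subgroup.mem_top x) (Subgroup.mem_top g)
    refine ⟨x, hxZ, fun h => hne ?_⟩
    obtain ⟨i, hi⟩ := Subgroup.mem_zpowers_iff.1 (hz _ hxZ hx _ haZ)
    rw [← hi]
    exact (CfsgLib.Char.kerSubgroup (CfsgLib.Char.IsIrrCharacter.isCharacter hχ)).zpow_mem h i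
  obtain ⟨d, hd0, hd⟩ := CfsgLib.Char.IsIrrCharacter.exists_degree hχ
  have hp0 := (Fact.out : p.Prime).pos
  have hidxZ : (Subgroup.center P).index = p ^ n * p ^ n := by
    have := (Subgroup.center P).card_mul_index
    rw [hcen, hcard, show 2 * n + 1 = (n + n) + 1 by ring, pow_succ', pow_add] at this
    exact Nat.eq_of_mul_eq_mul_left hp0 this
  have hidxA : A.index = p ^ n := by
    have := A.card_mul_index
    rw [hA, hcard, show 2 * n + 1 = (n + 1) + n by ring, pow_add p (n + 1)] at this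
    exact Nat.eq_of_mul_eq_mul_left (Nat.pow_pos hp0) this
  have hdp : d = p ^ n := by
    rw [hd, hidxZ, sq] at hsq
    exact Nat.mul_self_inj.1 (by exact_mod_cast hsq)
  have heq := CfsgLib.Char.IsCharacter.eq_of_constituent hChar hχ hχc (by
    rw [CfsgLib.Char.indFun_one, map_one, Units.val_one, mul_one, hd, hidxA, hdp])
  rw [heq]
  exact ⟨hχ, hvan⟩

end Cfsg.Agent.S0893
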