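-- Proof of statement S0896.
import Cfsg.Statements.S0896
import Cfsg.Agent.Char.FixedMultiplicity

set_option autoImplicit false
open scoped ComplexConjugate
open Cfsg

namespace Cfsg.Agent.S0896

/-- Let N be a normal subgroup of the finite group G with the index of N a power of the prime p, and ϑ an irreducible character of N invariant under conjugation by G. Then there are a p-elementary subgroup E of G with E ⊔ N = ⊤ and an irreducible character φ of the subgroup E ⊓ N, invariant under conjugation by E, such that the inner product of the restriction of ϑ to E ⊓ N with φ is an integer not divisible by p. -/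
theorem result {G : Type*} [Group G] [Fintype G] (p : ℕ) (hp : p.Prime) (N : Subgroup G) [hN : N.Normal] (hind : ∃ k : ℕ, N.index = p ^ k) (ϑ : N → ℂ) (hϑ : Cfsg.IsIrrCharacter N ϑ) (hinv : ∀ (g : G) (n : N), ϑ ⟨g * n * g⁻¹, hN.conj_mem (n : G) n.2 g⟩ = ϑ n) : ∃ (E : Subgroup G) (φ : ↥(E ⊓ N) → ℂ), Cfsg.IsElementary p E ∧ E ⊔ N = ⊤ ∧ Cfsg.IsIrrCharacter ↥(E ⊓ N) φ ∧ (∀ (g : G) (hg : g ∈ E) (x : ↥(E ⊓ N)), φ ⟨g * x * g⁻¹, ⟨(E.mul_mem (E.mul_mem hg x.2.1) (E.inv_mem hg)), hN.conj_mem (x : G) x.2.2 g⟩⟩ = φ x) ∧ ∃ m : ℕ, ¬ p ∣ m ∧ (Nat.card ↥(E ⊓ N) : ℂ)⁻¹ * ∑ᶠ x : ↥(E ⊓ N), ϑ ⟨(x : G), x.2.2⟩ * conj (φ x) = (m : ℂ) := by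
  classical
  haveI : Fact p.Prime := ⟨hp⟩
  obtain ⟨k, hk⟩ := hind
  let P : Subgroup G → Prop := fun E => Cfsg.IsElementary p E
  let f : N → ℂ := fun x => ϑ x * conj (ϑ x)
  by_contra hcon
  have key : ∀ h ∈ CfsgLib.Char.indSpan P,
      ∃ z : ℤ, Cfsg.classInner (fun x : N => h x) f = (p : ℂ) * z := by
    intro h hh
    induction hh using Submodule.span_induction with
    | zero => exact ⟨0, by simp [Cfsg.classInner]⟩
    | add a b _ _ h1 h2 =>
      obtain ⟨y, hy⟩ := h1
      obtain ⟨z, hz⟩ := h2
      refine ⟨y + z, ?_⟩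
      rw [show (fun x : N => (a + b) x) = (fun x : N => a x) + fun x : N => b x from rfl,
        CfsgLib.Char.classInner_add_left, hy, hz, Int.cast_add, mul_add]
    | smul n a _ h1 =>
      obtain ⟨y, hy⟩ := h1
      refine ⟨n * y, ?_⟩
      rw [show (fun x : N => (n • a) x) = (n : ℂ) • fun x : N => a x from
        funext fun x => by simp, CfsgLib.Char.classInner_smul_left, hy, Int.cast_mul]
      ring
    | mem h hh =>
      obtain ⟨E, φ, hE, hφ, rfl⟩ := hh
      set M := N.subgroupOf E
      haveI : M.Normal := hN.subgroupOf E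
      let θM : M → ℂ := fun y => ϑ ⟨((y : E) : G), y.2⟩
      let ηM : M → ℂ := fun y => φ y
      have hθM : Cfsg.IsCharacter M θM :=
        CfsgLib.Char.IsCharacter.comp (CfsgLib.Char.IsIrrCharacter.isCharacter hϑ)
          ({ toFun := fun y => ⟨((y : E) : G), y.2⟩, map_one' := rfl, map_mul' := fun _ _ => rfl } :
            M →* N)
      have hηM : Cfsg.IsCharacter M ηM := CfsgLib.Char.IsCharacter.restrict hφ M
      have hM0 : (Nat.card M : ℂ) ≠ 0 := Nat.cast_ne_zero.2 Nat.card_pos.ne'
      have hN0 : (Nat.card N : ℂ) ≠ 0 := Nat.cast_ne_zero.2 Nat.card_pos.ne'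
      have hE0 : (Nat.card E : ℂ) ≠ 0 := Nat.cast_ne_zero.2 Nat.card_pos.ne'
      have hcard : Nat.card G * Nat.card M = Nat.card N * Nat.card E * (E ⊔ N).index := by
        have h1 := N.card_mul_index
        have h2 : Nat.card M * M.index = Nat.card E := M.card_mul_index
        have h3 : M.index = N.relIndex (E ⊔ N) := (Subgroup.relIndex_sup_right (K := N) (H := E)).symm
        have h4 := Subgroup.relIndex_mul_index (le_sup_right : N ≤ E ⊔ N)
        rw [← h1, ← h2, h3, ← h4]
        ring
      let F : G → ℂ := Cfsg.extendByZero N (fun x => conj (f x))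
      have hFinv : ∀ g y : G, F (g * y * g⁻¹) = F y := by
        intro g y
        by_cases hy : y ∈ N
        · simp only [F]
          rw [CfsgLib.Char.extendByZero_of_mem _ (hN.conj_mem y hy g),
            CfsgLib.Char.extendByZero_of_mem _ hy]
          have := hinv g ⟨y, hy⟩
          simp only [f, this]
        · have : g * y * g⁻¹ ∉ N := fun h => hy (by simpa [mul_assoc] using hN.conj_mem _ h g⁻¹)
          simp only [F]
          rw [CfsgLib.Char.extendByZero_of_not_mem _ this, CfsgLib.Char.extendByZero_of_not_mem _ hy]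
      have hsumM : ∑ e : E, φ e * F e = ∑ y : M, ηM y * θM y * conj (θM y) := by
        rw [← Finset.sum_filter_add_sum_filter_not Finset.univ (fun e : E => e ∈ M),
          Finset.sum_eq_zero (s := Finset.univ.filter fun e : E => ¬ e ∈ M) (fun e he => by
            simp only [F]
            rw [CfsgLib.Char.extendByZero_of_not_mem _
              (show (e : G) ∉ N from (Finset.mem_filter.1 he).2), mul_zero]),
          add_zero, Finset.sum_subtype _ (p := fun e : E => e ∈ M) (fun e => by simp)]
        refine Finset.sum_congr rfl fun y _ => ?_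
        simp only [F]
        rw [CfsgLib.Char.extendByZero_of_mem _ (show ((y : E) : G) ∈ N from y.2)]
        simp only [f, θM, ηM, map_mul, Complex.conj_conj]
        ring
      have hL : Cfsg.classInner (fun x : N => Cfsg.indFun E φ x) f
          = ((E ⊔ N).index : ℂ) * Cfsg.classInner (ηM * θM) θM := by
        have h1 : ∑ x : N, Cfsg.indFun E φ x * conj (f x)
            = (Nat.card E : ℂ)⁻¹ * ((Nat.card G : ℂ) * ∑ y : M, ηM y * θM y * conj (θM y)) := by
          rw [← hsumM, ← CfsgLib.Char.sum_extendByZero φ F]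
          have h2 : ∀ x : G, ∑ g : G, Cfsg.extendByZero E φ (x⁻¹ * g * x) * F g
              = ∑ g : G, Cfsg.extendByZero E φ g * F g := fun x => by
            refine Fintype.sum_equiv (MulAut.conj x⁻¹).toEquiv _ _ fun g => ?_
            simp only [MulEquiv.toEquiv_eq_coe, MulEquiv.coe_toEquiv, MulAut.conj_apply, inv_inv]
            congr 1
            have := hFinv x⁻¹ g
            rwa [inv_inv, eq_comm] at this
          calc ∑ x : N, Cfsg.indFun E φ x * conj (f x)
              = ∑ g : G, Cfsg.indFun E φ g * F g := by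
                rw [← CfsgLib.Char.sum_extendByZero (H := N) (fun x => conj (f x)) (Cfsg.indFun E φ)
                  |>.trans (Finset.sum_congr rfl fun x _ => mul_comm _ _)]
                exact Finset.sum_congr rfl fun g _ => mul_comm _ _
            _ = (Nat.card E : ℂ)⁻¹ * ∑ x : G, ∑ g : G,
                Cfsg.extendByZero E φ (x⁻¹ * g * x) * F g := by
                rw [Finset.sum_comm, Finset.mul_sum]
                simp only [Cfsg.indFun, Finset.sum_mul, mul_assoc, Finset.mul_sum]
            _ = _ := by
                rw [Finset.sum_congr rfl fun x _ => h2 x, Finset.sum_const, Finset.card_univ,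
                  nsmul_eq_mul, Fintype.card_eq_nat_card]
        rw [CfsgLib.Char.classInner_def, h1, CfsgLib.Char.classInner_def]
        have hc : (Nat.card G : ℂ) * Nat.card M = Nat.card N * Nat.card E * (E ⊔ N).index := by
          exact_mod_cast hcard
        simp only [Pi.mul_apply]
        field_simp
        linear_combination (∑ y : M, ηM y * θM y * conj (θM y)) * hc
      rw [hL]
      by_cases htop : E ⊔ N = ⊤
      · obtain ⟨z, hz⟩ := CfsgLib.Char.dvd_classInner_of_no_invariant (p := p)
          (fun g : E => ⟨k, Subgroup.mem_subgroupOf.2 (by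
            rw [SubgroupClass.coe_pow, ← hk]
            exact N.pow_index_mem (g : G))⟩) hθM hηM
          (fun g => funext fun y => hinv g ⟨((y : E) : G), y.2⟩)
          (fun g => funext fun y => CfsgLib.Char.IsCharacter.isClassFunction hφ y g)
          (fun a ha hai c hc => by
            by_contra hpc
            let e : ↥(E ⊓ N) ≃* M :=
              { toFun := fun x => ⟨⟨(x : G), x.2.1⟩, x.2.2⟩
                invFun := fun y => ⟨((y : E) : G), (y : E).2, y.2⟩
                left_inv := fun _ => rfl
                right_inv := fun _ => rfl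
                map_mul' := fun _ _ => rfl }
            refine hcon ⟨E, fun x => a (e x), hE, htop,
              CfsgLib.Char.IsIrrCharacter.comp_surjective ha e.toMonoidHom e.surjective,
              fun g hg x => congrFun (hai ⟨g, hg⟩) (e x), c, hpc, ?_⟩
            rw [← hc, finsum_eq_sum_of_fintype, CfsgLib.Char.classInner_def,
              Nat.card_congr e.toEquiv]
            congr 1
            exact Fintype.sum_equiv e.toEquiv _ _ fun x => rfl)
        exact ⟨z, by rw [hz, htop, Subgroup.index_top, Nat.cast_one, one_mul]⟩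
      · obtain ⟨z, hz⟩ := CfsgLib.Char.IsGeneralized.exists_classInner_eq_int
          (CfsgLib.Char.IsCharacter.isGeneralized (CfsgLib.Char.IsCharacter.mul hηM hθM))
          (CfsgLib.Char.IsCharacter.isGeneralized hθM)
        have hdvd : p ∣ (E ⊔ N).index := by
          have h4 := Subgroup.relIndex_mul_index (le_sup_right : N ≤ E ⊔ N)
          rw [hk] at h4
          obtain ⟨j, -, hj⟩ := (Nat.dvd_prime_pow hp).1 (Dvd.intro_left _ h4)
          rw [hj]
          refine dvd_pow_self p fun hj0 => htop (Subgroup.index_eq_one.1 ?_)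
          rw [hj, hj0, pow_zero]
        obtain ⟨d, hd⟩ := hdvd
        exact ⟨(d : ℤ) * z, by rw [hz, hd]; push_cast; ring⟩
  obtain ⟨m, hm, hmem⟩ := CfsgLib.Char.brauer_local (G := G) p hp
  obtain ⟨z, hz⟩ := key _ hmem
  have hone : Cfsg.classInner (fun x : N => (m : ℂ)) f = m := by
    have h1 := CfsgLib.Char.IsIrrCharacter.classInner_self hϑ
    rw [CfsgLib.Char.classInner_def] at h1 ⊢
    calc _ = (m : ℂ) * ((Nat.card N : ℂ)⁻¹ * ∑ x : N, ϑ x * conj (ϑ x)) := by
          simp only [f, map_mul, Complex.conj_conj, ← Finset.mul_sum]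
          rw [Finset.sum_congr rfl fun x _ => mul_comm (conj (ϑ x)) (ϑ x)]
          ring
      _ = m := by rw [h1, mul_one]
  rw [hone] at hz
  exact hm ⟨z, by exact_mod_cast hz⟩

end Cfsg.Agent.S0896
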