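-- Proof of statement S0897.
import Cfsg.Statements.S0897
import Cfsg.Agent.S0896
import Cfsg.Agent.Char.ExtendDade

set_option autoImplicit false
open Cfsg

namespace Cfsg.Agent.S0897

/-- Let N be a normal subgroup of the finite group G with the index of N a power of the prime p, and P a Sylow p-subgroup of G such that P ⊓ N lies in the centre of P and every character of degree 1 of P ⊓ N is the restriction of a character of degree 1 of P. Then every irreducible character of N invariant under conjugation by G is the restriction of an irreducible character of G. -/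
theorem result {G : Type*} [Group G] [Fintype G] (p : ℕ) [Fact p.Prime] (N : Subgroup G) [hN : N.Normal] (hind : ∃ k : ℕ, N.index = p ^ k) (P : Sylow p G) (hcent : ∀ x ∈ (P : Subgroup G) ⊓ N, ∀ y ∈ (P : Subgroup G), x * y = y * x) (hlin : ∀ lam : ↥((P : Subgroup G) ⊓ N) → ℂ, Cfsg.IsCharacter ↥((P : Subgroup G) ⊓ N) lam → lam 1 = 1 → ∃ μ : ↥(P : Subgroup G) → ℂ, Cfsg.IsCharacter ↥(P : Subgroup G) μ ∧ μ 1 = 1 ∧ ∀ x : ↥((P : Subgroup G) ⊓ N), μ ⟨(x : G), x.2.1⟩ = lam x) (ϑ : N → ℂ) (hϑ : Cfsg.IsIrrCharacter N ϑ) (hinv : ∀ (g : G) (n : N), ϑ ⟨g * n * g⁻¹, hN.conj_mem (n : G) n.2 g⟩ = ϑ n) : ∃ χ : G → ℂ, Cfsg.IsIrrCharacter G χ ∧ ∀ n : N, χ n = ϑ n := by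
  classical
  obtain ⟨k, hk⟩ := hind
  have hp : p.Prime := Fact.out
  obtain ⟨E, φ, hE, htop, hφ, hφinv, m, hm, hmult⟩ :=
    Cfsg.Agent.S0896.result p hp N ⟨k, hk⟩ ϑ hϑ hinv
  obtain ⟨x, hx, hcop, j, hj⟩ := hE
  obtain ⟨S⟩ : Nonempty (Sylow p E) := inferInstance
  have hScard : Nat.card S = p ^ j := by
    rw [S.card_eq_multiplicity, ← (Subgroup.zpowers x).card_mul_index, hj, Nat.card_zpowers,
      Nat.factorization_mul (orderOf_pos x).ne' (pow_ne_zero _ hp.ne_zero), Finsupp.add_apply,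
      Nat.factorization_eq_zero_of_not_dvd (hp.coprime_iff_not_dvd.1 hcop.symm),
      hp.factorization_pow, Finsupp.single_eq_same, zero_add]
  have hdisj : (S : Subgroup E) ⊓ Subgroup.zpowers x = ⊥ := disjoint_iff.1
    (Subgroup.disjoint_of_coprime_natCard (by
      rw [hScard, Nat.card_zpowers]
      exact Nat.Coprime.pow_left _ hcop.symm))
  haveI hZn : (Subgroup.zpowers x).Normal := ⟨fun a ha g => by
    rw [Subgroup.mem_center_iff.1 (Subgroup.zpowers_le.2 hx ha) g, mul_inv_cancel_right]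
    exact ha⟩
  have hZS : Subgroup.zpowers x ⊔ (S : Subgroup E) = ⊤ :=
    (Subgroup.isComplement'_of_coprime (by
        rw [Nat.card_zpowers, hScard, ← (Subgroup.zpowers x).card_mul_index, hj, Nat.card_zpowers])
      (by rw [Nat.card_zpowers, hScard]; exact Nat.Coprime.pow_right _ hcop)).sup_eq_top
  have hxN : (x : G) ∈ N := by
    obtain ⟨i, hi⟩ := exists_pow_eq_self_of_coprime
      (n := p ^ k) (x := (x : G)) (by rw [Subgroup.orderOf_coe]; exact Nat.Coprime.pow_left _ hcop.symm)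
    rw [← hi]
    exact pow_mem (hk ▸ N.pow_index_mem (x : G)) i
  have hZN : ∀ z ∈ Subgroup.zpowers x, (z : G) ∈ N := fun z hz => by
    obtain ⟨i, rfl⟩ := Subgroup.mem_zpowers_iff.1 hz
    rw [SubgroupClass.coe_zpow]
    exact zpow_mem hxN i
  -- a conjugate of `P` containing the Sylow subgroup of `E`
  obtain ⟨Q, hQ⟩ := (S.isPGroup'.map E.subtype).exists_le_sylow
  obtain ⟨g, hg⟩ := MulAction.exists_smul_eq G P Q
  have hQP : ∀ y : G, y ∈ (Q : Subgroup G) → g⁻¹ * y * g ∈ (P : Subgroup G) := by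
    intro y hy
    rw [← hg, Sylow.coe_subgroup_smul, Subgroup.mem_pointwise_smul_iff_inv_smul_mem] at hy
    simpa [MulAut.smul_def] using hy
  have hSP : ∀ s : E, s ∈ (S : Subgroup E) → g⁻¹ * (s : G) * g ∈ (P : Subgroup G) := fun s hs =>
    hQP _ (hQ (Subgroup.mem_map_of_mem E.subtype hs))
  have hconjN : ∀ y : G, y ∈ N → g⁻¹ * y * g ∈ N := fun y hy => by
    simpa using hN.conj_mem y hy g⁻¹
  -- the intersection is abelian
  have hMab : ∀ a b : ↥(E ⊓ N), a * b = b * a := by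
    intro a b
    obtain ⟨z1, hz1, s1, hs1, ha⟩ := Subgroup.mem_sup_of_normal_left.1
      (hZS ▸ Subgroup.mem_top (⟨a, a.2.1⟩ : E) : (⟨(a : G), a.2.1⟩ : E) ∈ _ ⊔ _)
    obtain ⟨z2, hz2, s2, hs2, hb⟩ := Subgroup.mem_sup_of_normal_left.1
      (hZS ▸ Subgroup.mem_top (⟨b, b.2.1⟩ : E) : (⟨(b : G), b.2.1⟩ : E) ∈ _ ⊔ _)
    have hc : ∀ z ∈ Subgroup.zpowers x, ∀ w : E, Commute w z := fun z hz w =>
      Subgroup.mem_center_iff.1 (Subgroup.zpowers_le.2 hx hz) w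
    have hs1N : (s1 : G) ∈ N := by
      have := N.mul_mem (N.inv_mem (hZN z1 hz1)) a.2.2
      rw [← show ((z1 * s1 : E) : G) = (a : G) from congrArg Subtype.val ha] at this
      simpa using this
    have hs : Commute s1 s2 := by
      have h1 := hcent _ ⟨hSP s1 hs1, hconjN _ hs1N⟩ _ (hSP s2 hs2)
      refine Subtype.ext ?_
      have h2 := congrArg (fun y => g * y * g⁻¹) h1
      simpa [mul_assoc] using h2
    have hE' : (⟨(a : G), a.2.1⟩ : E) * ⟨b, b.2.1⟩ = ⟨(b : G), b.2.1⟩ * ⟨a, a.2.1⟩ := by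
      rw [← ha, ← hb]
      exact (Commute.mul_left
        (Commute.mul_right (hc z2 hz2 z1) ((hc z1 hz1 s2).symm))
        (Commute.mul_right (hc z2 hz2 s1) hs)).eq
    exact Subtype.ext (congrArg (fun w : E => (w : G)) hE')
  obtain ⟨lam, hlam⟩ := CfsgLib.Char.IsCharacter.exists_hom
    (CfsgLib.Char.IsIrrCharacter.isCharacter hφ) (CfsgLib.Char.IsIrrCharacter.apply_one_eq_one hφ hMab)
  -- transport to `P ⊓ N` and extend
  let T : Subgroup ↥((P : Subgroup G) ⊓ N) :=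
    { carrier := {y | ∃ s : E, s ∈ (S : Subgroup E) ∧ (s : G) = g * y * g⁻¹}
      one_mem' := ⟨1, Subgroup.one_mem _, by simp⟩
      mul_mem' := by
        rintro a b ⟨s, hs, hsa⟩ ⟨t, ht, htb⟩
        exact ⟨s * t, Subgroup.mul_mem _ hs ht, by simp [hsa, htb, mul_assoc]⟩
      inv_mem' := by
        rintro a ⟨s, hs, hsa⟩
        exact ⟨s⁻¹, Subgroup.inv_mem _ hs, by simp [hsa, mul_assoc]⟩ }
  have hT : ∀ y : T, g * ((y : ↥((P : Subgroup G) ⊓ N)) : G) * g⁻¹ ∈ E ⊓ N := fun y => by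
    obtain ⟨s, -, hs⟩ := y.2
    exact ⟨hs ▸ s.2, hN.conj_mem _ (y : ↥((P : Subgroup G) ⊓ N)).2.2 g⟩
  let f1 : T →* ℂˣ := lam.comp
    (MonoidHom.mk' (fun y : T => (⟨_, hT y⟩ : ↥(E ⊓ N)))
      fun a b => Subtype.ext (by simp [mul_assoc]))
  have hPNab : ∀ a b : ↥((P : Subgroup G) ⊓ N), a * b = b * a := fun a b =>
    Subtype.ext (hcent _ a.2 _ b.2.1)
  obtain ⟨f2, hf2⟩ := CfsgLib.Char.exists_extend_of_abelian hPNab T f1
  obtain ⟨μ0, hμ0, hμ1, hμext⟩ := hlin (fun y => (f2 y : ℂ)) (CfsgLib.Char.isCharacter_ofHom f2)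
    (by simp)
  obtain ⟨μP, hμP⟩ := CfsgLib.Char.IsCharacter.exists_hom hμ0 hμ1
  let μS : (S : Subgroup E) →* ℂˣ := μP.comp
    (MonoidHom.mk' (fun s : (S : Subgroup E) =>
      (⟨g⁻¹ * ((s : E) : G) * g, hSP _ s.2⟩ : ↥(P : Subgroup G)))
      fun a b => Subtype.ext (by simp [mul_assoc]))
  let fZ : Subgroup.zpowers x →* ℂˣ := lam.comp
    (MonoidHom.mk' (fun z : Subgroup.zpowers x =>
      (⟨((z : E) : G), (z : E).2, hZN _ z.2⟩ : ↥(E ⊓ N))) fun a b => rfl)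
  obtain ⟨μ, hμZ, hμS⟩ := CfsgLib.Char.exists_hom_glue (Subgroup.zpowers x) (S : Subgroup E) hZS fZ μS
    (fun y h1 h2 => by
      have hy1 : y = 1 := Subgroup.mem_bot.1 (hdisj ▸ ⟨h2, h1⟩)
      subst hy1
      exact (map_one fZ).trans (map_one μS).symm)
    (fun s z => congrArg fZ (Subtype.ext (show (s : E) * z * (s : E)⁻¹ = z by
      rw [Subgroup.mem_center_iff.1 (Subgroup.zpowers_le.2 hx z.2) (s : E), mul_inv_cancel_right])))
  have hμφ : ∀ y : ↥(E ⊓ N), φ y = ((μ ⟨(y : G), y.2.1⟩ : ℂˣ) : ℂ) := by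
    intro y
    obtain ⟨z, hz, s, hs, hy⟩ := Subgroup.mem_sup_of_normal_left.1
      (hZS ▸ Subgroup.mem_top (⟨y, y.2.1⟩ : E) : (⟨(y : G), y.2.1⟩ : E) ∈ _ ⊔ _)
    have hsN : (s : G) ∈ N := by
      have := N.mul_mem (N.inv_mem (hZN z hz)) y.2.2
      rw [← show ((z * s : E) : G) = (y : G) from congrArg Subtype.val hy] at this
      simpa using this
    have hyeq : y = ⟨(z : G), z.2, hZN z hz⟩ * ⟨(s : G), s.2, hsN⟩ :=
      Subtype.ext (congrArg Subtype.val hy).symm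
    have hlam' : ∀ w, φ w = (lam w : ℂ) := fun w => by rw [hlam]
    rw [← hy, map_mul, show μ z = fZ ⟨z, hz⟩ from hμZ ⟨z, hz⟩,
      show μ s = μS ⟨s, hs⟩ from hμS ⟨s, hs⟩, hlam', hyeq, map_mul, Units.val_mul, Units.val_mul]
    congr 1
    let w : T := ⟨⟨g⁻¹ * (s : G) * g, hSP s hs, hconjN _ hsN⟩, s, hs,
      show (s : G) = g * (g⁻¹ * (s : G) * g) * g⁻¹ by group⟩
    have e1 : ((μS ⟨s, hs⟩ : ℂˣ) : ℂ) = (f2 (w : ↥((P : Subgroup G) ⊓ N)) : ℂ) := by
      rw [← hμext (w : ↥((P : Subgroup G) ⊓ N)), hμP]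
      rfl
    rw [e1, hf2 w]
    change _ = ((lam ⟨_, hT w⟩ : ℂˣ) : ℂ)
    congr 2
    exact Subtype.ext (show (s : G) = g * (g⁻¹ * (s : G) * g) * g⁻¹ by group)
  obtain ⟨n, σ, hσ, rfl⟩ := hϑ
  haveI := hσ
  have hinv' : ∀ g : G, CfsgLib.Char.conjOn g σ.character = σ.character :=
    CfsgLib.Char.conjOn_eq_of_invariant hinv
  obtain ⟨R, hR⟩ := CfsgLib.Char.exists_extension_of_exponents σ hinv' fun q hq => by
    by_cases hqp : q = p
    · subst hqp
      refine ⟨m, hm, CfsgLib.Char.multiplicity_mem_extExponents σ hinv' E htop μ m ?_⟩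
      rw [← hmult, finsum_eq_sum_of_fintype]
      simp only [hμφ]
    · exact ⟨N.index, fun hd => hqp ((Nat.prime_dvd_prime_iff_eq hq hp).1
        (hq.dvd_of_dvd_pow (hk ▸ hd))),
        CfsgLib.Char.index_mem_extExponents_scalar σ le_rfl σ (fun _ => rfl) hinv'⟩
  exact CfsgLib.Char.exists_extension_char σ rfl R hR

end Cfsg.Agent.S0897
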