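import Cfsg.Statements.S0901
import Cfsg.Agent.Blocks.LocalRing
import Cfsg.Agent.Char.AlgInt
import Mathlib.FieldTheory.Finite.Basic
import Mathlib.Algebra.Algebra.ZMod
import Mathlib.RingTheory.Polynomial.Cyclotomic.Basic

set_option autoImplicit false
open Cfsg

namespace Cfsg.Agent.S0901

/-- Let M be a maximal ideal of the ring of algebraic integers containing the prime p, and let U be the set of complex roots of unity of order prime to p. Then reduction modulo M is injective on U, and every algebraic integer not in M is congruent modulo M to an element of U (so U maps bijectively onto the nonzero residues). -/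
theorem result (p : ℕ) [Fact p.Prime] (M : Ideal Cfsg.AlgInt) (hM : Cfsg.IsPModular p M) : (∀ ε₁ ε₂ : Cfsg.AlgInt, (∃ m : ℕ, ¬ p ∣ m ∧ (ε₁ : ℂ) ^ m = 1) → (∃ m : ℕ, ¬ p ∣ m ∧ (ε₂ : ℂ) ^ m = 1) → ε₁ - ε₂ ∈ M → ε₁ = ε₂) ∧ (∀ a : Cfsg.AlgInt, a ∉ M → ∃ ε : Cfsg.AlgInt, (∃ m : ℕ, ¬ p ∣ m ∧ (ε : ℂ) ^ m = 1) ∧ a - ε ∈ M) := by
  classical
  haveI := hM.2.1.isPrime
  refine ⟨?_, ?_⟩
  · intro ε₁ ε₂ ⟨m₁, hm₁, h₁⟩ ⟨m₂, hm₂, h₂⟩ hsub
    by_contra hne
    have hn1 : (ε₂ : ℂ) ≠ 0 := fun h0 => by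
      rw [h0, zero_pow (fun h => hm₂ (by rw [h]; exact dvd_zero p))] at h₂; exact zero_ne_one h₂
    have hm : ¬ p ∣ m₁ * m₂ := fun h => (hM.1.dvd_mul.1 h).elim hm₁ hm₂
    have hi : MemLocalRing M ((ε₂ : ℂ)⁻¹) := CfsgLib.Block.memLocalRing_of_isIntegral
      (CfsgLib.Char.isIntegral_of_pow_eq_one (m := m₂) (Nat.pos_of_ne_zero fun h => hm₂ (by rw [h]; exact dvd_zero p))
        (by rw [inv_pow, h₂, inv_one]))
    set z : ℂ := (ε₁ : ℂ) * (ε₂ : ℂ)⁻¹ with hz
    have hzm : z ^ (m₁ * m₂) = 1 := by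
      rw [hz, mul_pow, pow_mul, h₁, one_pow, one_mul, inv_pow, mul_comm m₁, pow_mul, h₂, one_pow,
        inv_one]
    have hz1 : MemLocalIdeal M (z - 1) := by
      have : z - 1 = ((ε₁ - ε₂ : Cfsg.AlgInt) : ℂ) * (ε₂ : ℂ)⁻¹ := by
        rw [hz]; push_cast; field_simp
      rw [this]
      exact CfsgLib.Block.memLocalIdeal_mul_right
        (CfsgLib.Block.memLocalIdeal_algInt_iff.2 hsub) hi
    have hzne : z ≠ 1 := fun h => hne (Subtype.ext (by
      rw [hz, mul_inv_eq_one₀ hn1] at h; exact h))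
    have hgeom : ∑ i ∈ Finset.range (m₁ * m₂), z ^ i = 0 := by
      rw [geom_sum_eq hzne, hzm, sub_self, zero_div]
    have hcong : MemLocalIdeal M (∑ i ∈ Finset.range (m₁ * m₂), (z ^ i - 1)) := by
      refine CfsgLib.Block.memLocalIdeal_sum fun i _ => ?_
      rw [← geom_sum_mul]
      refine CfsgLib.Block.memLocalIdeal_mul_left ?_ hz1
      exact CfsgLib.Block.memLocalRing_sum fun j _ =>
        CfsgLib.Block.memLocalRing_of_isIntegral ((CfsgLib.Char.isIntegral_of_pow_eq_one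
          (Nat.pos_of_ne_zero fun h => hm (by rw [h]; exact dvd_zero p)) hzm).pow j)
    rw [Finset.sum_sub_distrib, hgeom, Finset.sum_const, Finset.card_range, nsmul_one,
      zero_sub] at hcong
    exact hm ((CfsgLib.Block.memLocalIdeal_natCast_iff hM).1
      (by simpa using CfsgLib.Block.memLocalIdeal_neg hcong))
  · intro a ha
    haveI : M.IsMaximal := hM.2.1
    letI : Field (Cfsg.AlgInt ⧸ M) := Ideal.Quotient.field M
    haveI : CharP (Cfsg.AlgInt ⧸ M) p := by
      refine (CharP.charP_iff_prime_eq_zero hM.1).2 ?_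
      rw [← map_natCast (Ideal.Quotient.mk M), Ideal.Quotient.eq_zero_iff_mem]
      exact hM.2.2
    letI : Algebra (ZMod p) (Cfsg.AlgInt ⧸ M) := ZMod.algebra _ p
    set x := Ideal.Quotient.mk M a with hx
    have hx0 : x ≠ 0 := fun h => ha (Ideal.Quotient.eq_zero_iff_mem.1 h)
    have hint : IsIntegral (ZMod p) x := by
      obtain ⟨f, hf, hfa⟩ := (Algebra.IsIntegral.isIntegral a : IsIntegral ℤ a)
      refine ⟨f.map (Int.castRingHom (ZMod p)), hf.map _, ?_⟩
      rw [Polynomial.eval₂_map]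
      have h := congrArg (Ideal.Quotient.mk M) hfa
      rw [Polynomial.hom_eval₂, map_zero] at h
      rw [← h, hx]
      congr 1
      exact RingHom.ext_int _ _
    let K := IntermediateField.adjoin (ZMod p) ({x} : Set (Cfsg.AlgInt ⧸ M))
    haveI : FiniteDimensional (ZMod p) K := IntermediateField.adjoin.finiteDimensional hint
    haveI : Finite K := Module.finite_of_finite (ZMod p)
    haveI : Fintype K := Fintype.ofFinite K
    let y : K := ⟨x, IntermediateField.mem_adjoin_simple_self _ x⟩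
    have hy : y ≠ 0 := fun h => hx0 (congrArg Subtype.val h)
    have hq := FiniteField.pow_card_sub_one_eq_one y hy
    set m := Fintype.card K - 1 with hm
    haveI : CharP K p := (algebraMap K (Cfsg.AlgInt ⧸ M)).charP
      (algebraMap K (Cfsg.AlgInt ⧸ M)).injective p
    obtain ⟨n, -, hn⟩ := FiniteField.card K p
    have hm0 : 0 < m := by
      have := Fintype.one_lt_card (α := K); omega
    have hpm : ¬ p ∣ m := by
      intro h
      have h2 : p ∣ Fintype.card K := by rw [hn]; exact dvd_pow_self p n.ne_zero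
      have h3 : p ∣ 1 := (Nat.dvd_add_right h).1 (by rwa [hm, Nat.sub_add_cancel Fintype.card_pos])
      exact hM.1.not_dvd_one h3
    have hxm : x ^ m = 1 := by
      have := congrArg (Subtype.val : K → Cfsg.AlgInt ⧸ M) hq
      simpa [y] using this
    have hC := Complex.isPrimitiveRoot_exp m hm0.ne'
    let ζ : Cfsg.AlgInt := ⟨_, CfsgLib.Char.isIntegral_of_pow_eq_one hm0 hC.pow_eq_one⟩
    have hζ : IsPrimitiveRoot ζ m :=
      (IsPrimitiveRoot.map_iff_of_injective (f := (Cfsg.AlgInt).val) Subtype.val_injective).1 hC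
    have hprod := Polynomial.X_pow_sub_one_eq_prod hm0 hζ
    have h := congrArg (Polynomial.eval₂ (Ideal.Quotient.mk M) x) hprod
    rw [Polynomial.eval₂_sub, Polynomial.eval₂_pow, Polynomial.eval₂_X, Polynomial.eval₂_one, hxm,
      sub_self, Polynomial.eval₂_finsetProd] at h
    obtain ⟨e, he, he0⟩ := Finset.prod_eq_zero_iff.1 h.symm
    rw [Polynomial.eval₂_sub, Polynomial.eval₂_X, Polynomial.eval₂_C, sub_eq_zero] at he0
    refine ⟨e, ⟨m, hpm, ?_⟩, Ideal.Quotient.eq.1 he0⟩
    have := congrArg (Subtype.val : Cfsg.AlgInt → ℂ) ((Polynomial.mem_nthRootsFinset hm0 (1 : Cfsg.AlgInt)).1 he)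
    simpa using this

end Cfsg.Agent.S0901
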