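import Cfsg.Statements.S0903
import Mathlib.GroupTheory.PGroup

set_option autoImplicit false
open Cfsg

namespace Cfsg.Agent.S0903

/-- Let P be a p-subgroup of the finite group G, let c centralize P and let g, h ∈ G. The number of pairs (x, y) with x conjugate to g, y conjugate to h and x * y = c is congruent modulo p to the number of such pairs in which x and y both centralize P. (This is why the Brauer map on class sums is multiplicative.) -/
theorem result {G : Type*} [Group G] [Finite G] (p : ℕ) [Fact p.Prime] (P : Subgroup G) (hP : IsPGroup p P) (c : G) (hc : c ∈ Subgroup.centralizer (P : Set G)) (g h : G) : Nat.card {xy : G × G // IsConj g xy.1 ∧ IsConj h xy.2 ∧ xy.1 * xy.2 = c} ≡ Nat.card {xy : G × G // IsConj g xy.1 ∧ IsConj h xy.2 ∧ xy.1 * xy.2 = c ∧ xy.1 ∈ Subgroup.centralizer (P : Set G) ∧ xy.2 ∈ Subgroup.centralizer (P : Set G)} [MOD p] := by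
  classical
  haveI := Fintype.ofFinite G
  let X := {xy : G × G // IsConj g xy.1 ∧ IsConj h xy.2 ∧ xy.1 * xy.2 = c}
  have hconj : ∀ (a x y : G), IsConj a x → IsConj a (y * x * y⁻¹) := fun a x y hax =>
    hax.trans (isConj_iff.2 ⟨y, rfl⟩)
  letI : MulAction P X :=
    { smul := fun u x => ⟨((u : G) * x.1.1 * (u : G)⁻¹, (u : G) * x.1.2 * (u : G)⁻¹),
        hconj _ _ _ x.2.1, hconj _ _ _ x.2.2.1, by
          have hu : (u : G) * c = c * (u : G) := Subgroup.mem_centralizer_iff.1 hc (u : G) u.2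
          calc (u : G) * x.1.1 * (u : G)⁻¹ * ((u : G) * x.1.2 * (u : G)⁻¹)
              = (u : G) * (x.1.1 * x.1.2) * (u : G)⁻¹ := by group
            _ = c := by rw [x.2.2.2, hu]; group⟩
      one_smul := fun x => Subtype.ext (Prod.ext
        (show ((1 : P) : G) * x.1.1 * ((1 : P) : G)⁻¹ = x.1.1 by simp)
        (show ((1 : P) : G) * x.1.2 * ((1 : P) : G)⁻¹ = x.1.2 by simp))
      mul_smul := fun a b x => Subtype.ext (Prod.ext
        (show ((a * b : P) : G) * x.1.1 * ((a * b : P) : G)⁻¹ =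
          (a : G) * ((b : G) * x.1.1 * (b : G)⁻¹) * (a : G)⁻¹ by rw [Subgroup.coe_mul]; group)
        (show ((a * b : P) : G) * x.1.2 * ((a * b : P) : G)⁻¹ =
          (a : G) * ((b : G) * x.1.2 * (b : G)⁻¹) * (a : G)⁻¹ by rw [Subgroup.coe_mul]; group)) }
  have h1 := hP.card_modEq_card_fixedPoints X
  have hmem : ∀ (x : G), (∀ u : P, (u : G) * x * (u : G)⁻¹ = x) ↔
      x ∈ Subgroup.centralizer (P : Set G) := by
    intro x
    rw [Subgroup.mem_centralizer_iff]
    exact ⟨fun hx u hu => mul_inv_eq_iff_eq_mul.1 (hx ⟨u, hu⟩),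
      fun hx u => mul_inv_eq_iff_eq_mul.2 (hx (u : G) u.2)⟩
  have h2 : Nat.card (MulAction.fixedPoints P X) = Nat.card {xy : G × G // IsConj g xy.1 ∧
      IsConj h xy.2 ∧ xy.1 * xy.2 = c ∧ xy.1 ∈ Subgroup.centralizer (P : Set G) ∧
        xy.2 ∈ Subgroup.centralizer (P : Set G)} := Nat.card_congr
    { toFun := fun x => ⟨x.1.1, x.1.2.1, x.1.2.2.1, x.1.2.2.2,
        (hmem _).1 fun u => congrArg (fun z : X => z.1.1) (x.2 u),
        (hmem _).1 fun u => congrArg (fun z : X => z.1.2) (x.2 u)⟩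
      invFun := fun x => ⟨⟨x.1, x.2.1, x.2.2.1, x.2.2.2.1⟩, fun u => Subtype.ext (Prod.ext
        ((hmem _).2 x.2.2.2.2.1 u) ((hmem _).2 x.2.2.2.2.2 u))⟩
      left_inv := fun x => rfl
      right_inv := fun x => rfl }
  rw [← h2]
  exact h1

end Cfsg.Agent.S0903
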