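import Cfsg.Statements.S0905
import Cfsg.Agent.BlocksB.ClassSumNilpotent
import Cfsg.Agent.Solvable.Basics

set_option autoImplicit false
open Cfsg

namespace Cfsg.Agent.S0905

/-- Let F be a field of characteristic p and let g be an element of the finite group G no conjugate of which centralizes O_p(G). Then the class sum of g is a nilpotent element of the group algebra F[G]. -/
theorem result {G : Type*} [Group G] [Finite G] (p : ℕ) [Fact p.Prime] (F : Type*) [Field F] [CharP F p] (g : G) (hg : ∀ x : G, IsConj g x → x ∉ Subgroup.centralizer (Cfsg.pCore p G : Set G)) : IsNilpotent (∑ᶠ x ∈ ConjClasses.carrier (ConjClasses.mk g), MonoidAlgebra.single x (1 : F) : MonoidAlgebra F G) := by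
  classical
  haveI := Fintype.ofFinite G
  haveI : (Cfsg.pCore p G).Normal := CfsgLib.Solvable.pCore_normal p
  rw [finsum_mem_eq_toFinset_sum]
  refine CfsgLib.Block.ClassNil.isNilpotent_sum (p := p) (Cfsg.pCore p G)
    (CfsgLib.Solvable.isPGroup_pCore p) _ (fun x y hy => ?_) (fun y hy => ?_)
  · rw [Set.mem_toFinset, ConjClasses.mem_carrier_iff_mk_eq] at hy ⊢
    rw [← hy, ConjClasses.mk_eq_mk_iff_isConj]
    exact (isConj_iff.2 ⟨x, rfl⟩).symm
  · rw [Set.mem_toFinset, ConjClasses.mem_carrier_iff_mk_eq, ConjClasses.mk_eq_mk_iff_isConj] at hy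
    exact hg y hy.symm

end Cfsg.Agent.S0905
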