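import Cfsg.Statements.S0914
import Cfsg.Agent.Blocks.Principal

set_option autoImplicit false
open Cfsg

namespace Cfsg.Agent.S0914

/-- Let χ be an irreducible character of the finite group G, p a prime and M a maximal ideal of the algebraic integers containing p. Then p does not divide the integer (Nat.card G) / χ(1) if and only if the block of χ relative to M consists of χ alone. -/
theorem result {G : Type*} [Group G] [Finite G] (p : ℕ) [Fact p.Prime] (M : Ideal Cfsg.AlgInt) (hM : Cfsg.IsPModular p M) (χ : Cfsg.IrrCharacter G) : ¬ p ∣ Nat.card G / Cfsg.charDegree (χ : G → ℂ) ↔ Cfsg.blockOf M (χ : G → ℂ) = {χ} := by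
  classical
  haveI := Fintype.ofFinite G
  letI := CfsgLib.Block.Chr.irrFintype (G := G)
  haveI := hM.2.1.isPrime
  obtain ⟨m, hm⟩ := CfsgLib.Block.charDegree_dvd_card χ
  obtain ⟨hd, hpos⟩ := CfsgLib.Block.Chr.irr_one χ
  rw [hm, Nat.mul_div_cancel_left _ hpos]
  have hcG : (Nat.card G : ℂ) = (Cfsg.charDegree (χ : G → ℂ) : ℂ) * (m : ℂ) := by
    rw [hm]; push_cast; rfl
  constructor
  · intro hpm
    refine Set.Subset.antisymm (CfsgLib.Block.blockOf_subset_of_integral (fun g => ?_) rfl)
      (by rintro ψ rfl; exact CfsgLib.Block.mem_blockOf_self _)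
    have hval : Cfsg.blockCoeff {χ} g = (m : ℂ)⁻¹ * (starRingEnd ℂ) ((χ : G → ℂ) g) := by
      rw [Cfsg.blockCoeff, finsum_mem_singleton, hcG, hd, mul_inv, ← mul_assoc,
        mul_right_comm _ (m : ℂ)⁻¹, inv_mul_cancel₀ (Nat.cast_ne_zero.2 hpos.ne'), one_mul]
    rw [hval]
    exact CfsgLib.Block.memLocalRing_mul (CfsgLib.Block.memLocalRing_natCast_inv hM hpm)
      (CfsgLib.Block.memLocalRing_of_isIntegral
        ((CfsgLib.Char.IsCharacter.isIntegral (CfsgLib.Block.Chr.isCharacter_irr χ) g).map
          (starRingEnd ℂ).toIntAlgHom))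
  · intro hB hpm
    obtain ⟨P⟩ : Nonempty (Sylow p G) := inferInstance
    have hP : Nat.card P ∣ Cfsg.charDegree (χ : G → ℂ) := by
      refine CfsgLib.Block.card_dvd_charDegree χ (P : Subgroup G) fun x hx hx1 => ?_
      obtain ⟨k, hk⟩ := (IsPGroup.iff_orderOf.1 P.isPGroup') ⟨x, hx⟩
      rw [Subgroup.orderOf_mk] at hk
      have hsing : p ∣ orderOf x := by
        rcases Nat.eq_zero_or_pos k with rfl | hk0
        · rw [pow_zero, orderOf_eq_one_iff] at hk; exact absurd hk hx1
        · rw [hk]; exact dvd_pow_self p hk0.ne'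
      have h := CfsgLib.Block.blockCoeff_eq_zero_of_singular hM (B := {χ})
        ⟨χ, hB.symm⟩ hsing
      rw [Cfsg.blockCoeff, finsum_mem_singleton] at h
      rcases mul_eq_zero.1 h with h | h
      · exact absurd h (inv_ne_zero (Nat.cast_ne_zero.2 Nat.card_pos.ne'))
      · rcases mul_eq_zero.1 h with h | h
        · exact absurd h (CfsgLib.Block.Chr.irr_one_ne_zero χ)
        · simpa using h
    rw [Sylow.card_eq_multiplicity] at hP
    have h1 : p ^ ((Nat.card G).factorization p + 1) ∣ Nat.card G := by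
      rw [pow_succ]
      nth_rewrite 2 [hm]
      exact mul_dvd_mul hP hpm
    have h2 := (hM.1.pow_dvd_iff_le_factorization Nat.card_pos.ne').1 h1
    omega

end Cfsg.Agent.S0914
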