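import Cfsg.Statements.S0921
import Cfsg.Agent.Blocks.Cover
import Cfsg.Agent.Solvable.Basics

set_option autoImplicit false
open Cfsg

namespace Cfsg.Agent.S0921

/-- Let N = O_p'(G) be the largest normal subgroup of the finite group G of order prime to p, and fix a maximal ideal M of the algebraic integers containing p. If two irreducible characters χ, ψ of G lie in the same block relative to M, then an irreducible character of N occurs in the restriction of χ exactly when it occurs in the restriction of ψ. -/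
theorem result {G : Type*} [Group G] [Finite G] (p : ℕ) [Fact p.Prime] (M : Ideal Cfsg.AlgInt) (hM : Cfsg.IsPModular p M) [Fintype G] (χ ψ : Cfsg.IrrCharacter G) (h : Cfsg.SameBlock M (χ : G → ℂ) (ψ : G → ℂ)) (θ : Cfsg.IrrCharacter (Cfsg.pPrimeCore p G)) [Fintype (Cfsg.pPrimeCore p G)] : Cfsg.classInner (fun n : Cfsg.pPrimeCore p G => (χ : G → ℂ) n) (θ : Cfsg.pPrimeCore p G → ℂ) ≠ 0 ↔ Cfsg.classInner (fun n : Cfsg.pPrimeCore p G => (ψ : G → ℂ) n) (θ : Cfsg.pPrimeCore p G → ℂ) ≠ 0 := by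
  classical
  haveI := hM.2.1.isPrime
  have hN : ¬ p ∣ Nat.card (Cfsg.pPrimeCore p G) :=
    hM.1.coprime_iff_not_dvd.1 (CfsgLib.Solvable.coprime_card_pPrimeCore p).symm
  haveI : (Cfsg.pPrimeCore p G).Normal := CfsgLib.Solvable.pPrimeCore_normal p
  have key : ∀ χ ψ : Cfsg.IrrCharacter G, Cfsg.SameBlock M (χ : G → ℂ) (ψ : G → ℂ) →
      Cfsg.classInner (fun n : Cfsg.pPrimeCore p G => (χ : G → ℂ) n)
        (θ : Cfsg.pPrimeCore p G → ℂ) ≠ 0 →
      Cfsg.classInner (fun n : Cfsg.pPrimeCore p G => (ψ : G → ℂ) n)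
        (θ : Cfsg.pPrimeCore p G → ℂ) ≠ 0 := by
    intro χ ψ h hc
    obtain ⟨φ, hφ, hc'⟩ :=
      CfsgLib.Char.exists_constituent_restrict (N := Cfsg.pPrimeCore p G) ψ.2
    have hb : Cfsg.IsPBlock M (Cfsg.blockOf M (θ : Cfsg.pPrimeCore p G → ℂ)) :=
      CfsgLib.Block.isPBlock_blockOf θ
    obtain ⟨g, θ', hθ', he⟩ := CfsgLib.Block.mem_orbitUnion_of_covering
      (CfsgLib.Block.isPBlock_blockOf χ) hb (CfsgLib.Block.mem_blockOf_self χ)
      (show ψ ∈ Cfsg.blockOf M (χ : G → ℂ) from h) (CfsgLib.Block.mem_blockOf_self θ)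
      (ψ := ⟨φ, hφ⟩) hc hc'
    rw [CfsgLib.Block.blockOf_eq_singleton hM hN θ, Set.mem_singleton_iff] at hθ'
    subst hθ'
    have h2 := CfsgLib.Char.classInner_restrict_conjOn (N := Cfsg.pPrimeCore p G)
      (CfsgLib.Block.Chr.isClassFunction_irr ψ) (θ' : Cfsg.pPrimeCore p G → ℂ) g
    rw [show φ = CfsgLib.Char.conjOn g (θ' : Cfsg.pPrimeCore p G → ℂ) from
      congrArg Subtype.val he] at hc'
    exact h2 ▸ hc'
  exact ⟨key χ ψ h, key ψ χ (CfsgLib.Block.sameBlock_symm h)⟩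

end Cfsg.Agent.S0921
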