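import Cfsg.Statements.S0926
import Cfsg.Agent.Blocks.MinMax

set_option autoImplicit false
open Cfsg

namespace Cfsg.Agent.S0926

/-- Let B be a block of the finite group G with defect group D (relative to a maximal ideal M of the algebraic integers containing p), let χ ∈ B have height zero, and let x be a p-element. Then some conjugate of x lies in D if and only if χ does not vanish on the whole p-section of x (the elements whose p-part is conjugate to x). -/
theorem result {G : Type*} [Group G] [Finite G] (p : ℕ) [Fact p.Prime] (M : Ideal Cfsg.AlgInt) (hM : Cfsg.IsPModular p M) (B : Set (Cfsg.IrrCharacter G)) (hB : Cfsg.IsPBlock M B) (D : Subgroup G) (hD : Cfsg.IsDefectGroup p M B D) (χ : Cfsg.IrrCharacter G) (hχ : χ ∈ B) (h0 : Cfsg.blockHeight p B (χ : G → ℂ) = 0) (x : G) (hx : ∃ k : ℕ, orderOf x = p ^ k) : (∃ g : G, g * x * g⁻¹ ∈ D) ↔ ∃ u : G, (∃ z : G, Cfsg.IsPPart p u z ∧ IsConj x z) ∧ (χ : G → ℂ) u ≠ 0 := by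
  haveI := Fintype.ofFinite G
  haveI := hM.2.1.isPrime
  obtain ⟨k, hk⟩ := hx
  constructor
  · rintro ⟨g, hg⟩
    obtain ⟨y, hy, hyD, -⟩ := (CfsgLib.Block.isDefectGroup_iff hM hB).1 hD
    have hreg := CfsgLib.Block.defectClass_regular hM hB hy
    have hc : Commute (g * x * g⁻¹) y := Subgroup.mem_centralizer_iff.1 hyD _ hg
    have ho : orderOf (g * x * g⁻¹) = p ^ k := by
      rw [← hk]
      exact orderOf_injective (MulAut.conj g).toMonoidHom (MulAut.conj g).injective x
    refine ⟨g * x * g⁻¹ * y, ⟨g * x * g⁻¹, ⟨y, rfl, hc, ⟨k, ho⟩, hreg⟩,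
      isConj_iff.2 ⟨g, rfl⟩⟩, fun hv => ?_⟩
    refine (CfsgLib.Block.blockHeight_eq_zero_iff hM hB hy hχ).1 h0 ?_
    have hcong := CfsgLib.Block.char_cong_pPart hM (CfsgLib.Block.Chr.isCharacter_irr χ) hc
      (n := k) (by rw [← ho, pow_orderOf_eq_one]) hreg (pow_orderOf_eq_one y)
    rw [hv, zero_sub] at hcong
    simpa using CfsgLib.Block.memLocalIdeal_neg hcong
  · rintro ⟨u, ⟨z, hz, hxz⟩, hne⟩
    by_contra hno
    push Not at hno
    refine hne (CfsgLib.Block.apply_eq_zero_of_not_mem_defectGroup hM hB hχ hz fun E hE hzE => ?_)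
    obtain ⟨w, hw⟩ := CfsgLib.Block.defectGroup_conj hM hB hD hE
    obtain ⟨c, hc⟩ := isConj_iff.1 hxz
    refine hno (w * c) ?_
    rw [← hw]
    exact ⟨z, hzE, by rw [← hc]; simp [mul_assoc]⟩

end Cfsg.Agent.S0926
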