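import Cfsg.Statements.S0932
import Cfsg.Agent.Blocks.Counting

set_option autoImplicit false
open Cfsg

namespace Cfsg.Agent.S0932

/-- Let H be a subgroup of the finite group G and ξ a character of H. For every g ∈ G, the sum of ξ h / ξ 1 over the elements h ∈ H that are conjugate in G to g equals the central character at g of the character of G induced from ξ (class size times value divided by degree). -/
theorem result {G : Type*} [Group G] [Fintype G] (H : Subgroup G) (ξ : H → ℂ) (hξ : Cfsg.IsCharacter H ξ) (g : G) : Cfsg.inducedCentralChar H ξ g = Cfsg.centralChar (Cfsg.indFun H ξ) g := by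
  classical
  have hn : (Nat.card (Subgroup.centralizer ({g} : Set G)) : ℂ) ≠ 0 :=
    Nat.cast_ne_zero.2 Nat.card_pos.ne'
  have hH : (Nat.card H : ℂ) ≠ 0 := Nat.cast_ne_zero.2 Nat.card_pos.ne'
  rw [Cfsg.centralChar, CfsgLib.Char.indFun_one, Cfsg.indFun,
    CfsgLib.Block.sum_conj_eq (Cfsg.extendByZero H ξ) g, Cfsg.inducedCentralChar,
    finsum_mem_eq_sum_of_inter_support_eq (t := Finset.univ.filter (fun h : H => IsConj g (h : G)))
      _ (by ext; simp)]
  have hsum : ∑ y ∈ Finset.univ.filter (IsConj g), Cfsg.extendByZero H ξ y =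
      ∑ h ∈ Finset.univ.filter (fun h : H => IsConj g (h : G)), ξ h := by
    rw [Finset.sum_filter, Finset.sum_filter]
    have h := CfsgLib.Char.sum_extendByZero ξ (fun y : G => if IsConj g y then (1 : ℂ) else 0)
    simpa [mul_ite, ite_mul] using h
  rw [hsum, ← Finset.sum_div]
  have hG : (Nat.card G : ℂ) ≠ 0 := Nat.cast_ne_zero.2 Nat.card_pos.ne'
  have h1 : ((Subgroup.centralizer ({g} : Set G)).index : ℂ) *
      (Nat.card (Subgroup.centralizer ({g} : Set G)) : ℂ) = (Nat.card G : ℂ) := by
    exact_mod_cast Subgroup.index_mul_card _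
  have h2 : (H.index : ℂ) * (Nat.card H : ℂ) = (Nat.card G : ℂ) := by
    exact_mod_cast Subgroup.index_mul_card _
  by_cases hx : ξ 1 = 0
  · simp [hx]
  · have hi : (H.index : ℂ) ≠ 0 := fun h => hG (by rw [← h2, h, zero_mul])
    field_simp
    linear_combination (∑ h ∈ Finset.univ.filter (fun h : H => IsConj g (h : G)), ξ h) * (h2 - h1)

end Cfsg.Agent.S0932
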