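import Cfsg.Statements.S0933
import Cfsg.Agent.Blocks.BlockSize

set_option autoImplicit false
open Cfsg

namespace Cfsg.Agent.S0933

/-- Let H be a subgroup of the finite group G and ξ an irreducible character of H such that the induced function ξ^G is an irreducible character of G. Then, relative to any maximal ideal M of the algebraic integers containing the prime p, the block of ξ induces the block of ξ^G. -/
theorem result {G : Type*} [Group G] [Fintype G] (p : ℕ) [Fact p.Prime] (M : Ideal Cfsg.AlgInt) (hM : Cfsg.IsPModular p M) (H : Subgroup G) (ξ : Cfsg.IrrCharacter H) (hind : Cfsg.IsIrrCharacter G (Cfsg.indFun H (ξ : H → ℂ))) : Cfsg.IsInducedBlock M H (Cfsg.blockOf M (ξ : H → ℂ)) (Cfsg.blockOf M (Cfsg.indFun H (ξ : H → ℂ))) := by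
  classical
  haveI := hM.2.1.isPrime
  haveI : Fintype H := Fintype.ofFinite H
  set χ : Cfsg.IrrCharacter G := ⟨Cfsg.indFun H (ξ : H → ℂ), hind⟩
  refine ⟨CfsgLib.Block.isPBlock_blockOf ξ, CfsgLib.Block.isPBlock_blockOf χ,
    fun ξ' hξ' χ' hχ' g => ?_⟩
  have h1 : Cfsg.inducedCentralChar H (ξ : H → ℂ) g = Cfsg.centralChar (χ : G → ℂ) g := by
    rw [CfsgLib.Block.inducedCentralChar_eq, ← CfsgLib.Block.omega_classInd χ g,
      CfsgLib.Block.omega_indFun H ξ (CfsgLib.Block.isClassFunction_classInd g)]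
  refine CfsgLib.Block.memLocalIdeal_sub_trans ?_ (h1 ▸ hχ' g)
  rw [CfsgLib.Block.inducedCentralChar_eq, CfsgLib.Block.inducedCentralChar_eq]
  exact CfsgLib.Block.omega_cong (CfsgLib.Block.sameBlock_symm hξ')
    (CfsgLib.Block.isIntClass_resFun H (CfsgLib.Block.isIntClass_classInd g))

end Cfsg.Agent.S0933
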