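import Cfsg.Statements.S0934
import Cfsg.Agent.Blocks.BlockSize
import Cfsg.Agent.Char.Induction

set_option autoImplicit false
open Cfsg

namespace Cfsg.Agent.S0934

/-- Let H be a subgroup of the finite group G and fix a maximal ideal M of the algebraic integers containing the prime p. If the block b of H induces the block B of G and ξ ∈ b, then there is χ ∈ B whose restriction to H has nonzero inner product with ξ. -/
theorem result {G : Type*} [Group G] [Fintype G] (p : ℕ) [Fact p.Prime] (M : Ideal Cfsg.AlgInt) (hM : Cfsg.IsPModular p M) (H : Subgroup G) [Fintype H] (b : Set (Cfsg.IrrCharacter H)) (B : Set (Cfsg.IrrCharacter G)) (hind : Cfsg.IsInducedBlock M H b B) (ξ : Cfsg.IrrCharacter H) (hξ : ξ ∈ b) : ∃ χ ∈ B, Cfsg.classInner (fun h : H => (χ : G → ℂ) h) (ξ : H → ℂ) ≠ 0 := by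
  classical
  haveI := hM.2.1.isPrime
  obtain ⟨n, hn, hnd, hd⟩ := CfsgLib.Block.blockPart_indFun_one H ξ B
  have hw := CfsgLib.Block.omega_mem (M := M) ξ
    (CfsgLib.Block.isIntClass_resFun H (CfsgLib.Block.isIntClass_blockCoeff hind.2.1))
  have hc := CfsgLib.Block.omega_res_blockCoeff hind hξ hind.2.1
  rw [if_pos rfl] at hc
  have hu : ¬ Cfsg.MemLocalIdeal M _ := fun h => CfsgLib.Block.not_memLocalIdeal_one (M := M)
    (sub_sub_cancel _ (1 : ℂ) ▸ CfsgLib.Block.memLocalIdeal_sub h hc)
  have hne := ((CfsgLib.Block.factorization_of_ratio hM hd hw hnd).2 hu).1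
  by_contra hno
  push Not at hno
  letI := CfsgLib.Block.Chr.irrFintype (G := G)
  refine hne (Nat.cast_injective (R := ℂ) ?_)
  rw [← hn, CfsgLib.Block.blockPart_eq_sum_inner, Nat.cast_zero]
  refine Finset.sum_eq_zero fun χ hχ => ?_
  rw [CfsgLib.Char.classInner_indFun _ (CfsgLib.Block.Chr.isClassFunction_irr χ),
    ← CfsgLib.Char.classInner_conj]
  simp [hno χ (Finset.mem_filter.1 hχ).2]

end Cfsg.Agent.S0934
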