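import Cfsg.Statements.S0943
import Cfsg.Agent.Blocks.Basic

set_option autoImplicit false
open Cfsg

namespace Cfsg.Agent.S0943

/-- Let χ be an irreducible character of the finite group G and u, v ∈ G. If χ (x * y) = χ (u * v) whenever x is conjugate to u and y is conjugate to v, then χ u * χ v = χ 1 * χ (u * v). (Multiply the class sums of u and v and apply the central character of χ.) -/
theorem result {G : Type*} [Group G] [Finite G] (χ : Cfsg.IrrCharacter G) (u v : G) (hc : ∀ x y : G, IsConj u x → IsConj v y → (χ : G → ℂ) (x * y) = (χ : G → ℂ) (u * v)) : (χ : G → ℂ) u * (χ : G → ℂ) v = (χ : G → ℂ) 1 * (χ : G → ℂ) (u * v) := by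
  classical
  haveI := Fintype.ofFinite G
  have h := CfsgLib.Block.Chr.class_mul χ (CfsgLib.Block.isClassFunction_classInd u)
    (CfsgLib.Block.classInd v)
  have hterm : ∀ g k : G, CfsgLib.Block.classInd u g * CfsgLib.Block.classInd v k *
      (χ : G → ℂ) (g * k) =
      CfsgLib.Block.classInd u g * CfsgLib.Block.classInd v k * (χ : G → ℂ) (u * v) := by
    intro g k
    by_cases hg : IsConj u g
    · by_cases hk : IsConj v k
      · rw [hc g k hg hk]
      · simp [CfsgLib.Block.classInd_of_not_isConj hk]
    · simp [CfsgLib.Block.classInd_of_not_isConj hg]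
  have hval : ∀ w : G, ∑ g : G, CfsgLib.Block.classInd w g * (χ : G → ℂ) g =
      (∑ g : G, CfsgLib.Block.classInd w g) * (χ : G → ℂ) w := by
    intro w
    rw [Finset.sum_mul]
    refine Finset.sum_congr rfl fun g _ => ?_
    by_cases hg : IsConj w g
    · obtain ⟨c, hc'⟩ := isConj_iff.1 hg
      rw [← hc', CfsgLib.Block.Chr.isClassFunction_irr χ w c]
    · simp [CfsgLib.Block.classInd_of_not_isConj hg]
  have hne : ∀ w : G, ∑ g : G, CfsgLib.Block.classInd w g ≠ 0 := by
    intro w
    have hs : ∑ g : G, CfsgLib.Block.classInd w g =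
        ((Finset.univ.filter (IsConj w)).card : ℂ) := by
      rw [← Finset.sum_boole]
      refine Finset.sum_congr rfl fun g _ => ?_
      by_cases hg : IsConj w g
      · rw [CfsgLib.Block.classInd_of_isConj hg, if_pos hg]
      · rw [CfsgLib.Block.classInd_of_not_isConj hg, if_neg hg]
    rw [hs, Nat.cast_ne_zero, Finset.card_ne_zero]
    exact ⟨w, Finset.mem_filter.2 ⟨Finset.mem_univ _, IsConj.refl w⟩⟩
  rw [hval u, hval v] at h
  simp only [hterm, ← Finset.sum_mul, ← Finset.mul_sum] at h
  refine mul_left_cancel₀ (mul_ne_zero (hne u) (hne v)) ?_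
  linear_combination -h

end Cfsg.Agent.S0943
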