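import Cfsg.Statements.S0944
import Cfsg.Agent.Blocks.Congr
import Cfsg.Agent.Blocks.CharExtra

set_option autoImplicit false
open Cfsg

namespace Cfsg.Agent.S0944

/-- Let χ be an irreducible character of the finite group G and u an involution. Then χ u is a rational integer n with n ≡ χ 1 (mod 2). -/
theorem result {G : Type*} [Group G] [Finite G] (χ : Cfsg.IrrCharacter G) (u : G) (hu : orderOf u = 2) : ∃ n : ℤ, (χ : G → ℂ) u = (n : ℂ) ∧ (2 : ℤ) ∣ (Cfsg.charDegree (χ : G → ℂ) : ℤ) - n := by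
  classical
  obtain ⟨s, hcard, hs, hk⟩ :=
    CfsgLib.Char.IsCharacter.exists_roots (CfsgLib.Block.Chr.isCharacter_irr χ) u
  have h1 : (χ : G → ℂ) u = s.sum := by simpa using hk 1
  have hd := (CfsgLib.Block.Chr.irr_one χ).1
  have hcard' : Multiset.card s = Cfsg.charDegree (χ : G → ℂ) := by
    exact_mod_cast (hcard.trans hd)
  rw [hu] at hs
  have key : ∀ t : Multiset ℂ, (∀ z ∈ t, z ^ 2 = 1) →
      ∃ n : ℤ, t.sum = (n : ℂ) ∧ (2 : ℤ) ∣ (Multiset.card t : ℤ) - n := by
    intro t
    induction t using Multiset.induction_on with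
    | empty => intro _; exact ⟨0, by simp, by simp⟩
    | cons a t ih =>
      intro ht
      obtain ⟨n, hn, hdvd⟩ := ih fun z hz => ht z (Multiset.mem_cons_of_mem hz)
      rcases sq_eq_one_iff.1 (ht a (Multiset.mem_cons_self a t)) with rfl | rfl
      · exact ⟨n + 1, by push_cast; rw [Multiset.sum_cons, hn]; ring,
          by rw [Multiset.card_cons]; push_cast; omega⟩
      · exact ⟨n - 1, by push_cast; rw [Multiset.sum_cons, hn]; ring,
          by rw [Multiset.card_cons]; push_cast; omega⟩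
  obtain ⟨n, hn, hdvd⟩ := key s hs
  exact ⟨n, h1.trans hn, hcard' ▸ hdvd⟩

end Cfsg.Agent.S0944
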