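import Cfsg.Statements.S0947
import Cfsg.Agent.Blocks.Section
import Cfsg.Agent.Solvable.Basics

set_option autoImplicit false
open Cfsg

namespace Cfsg.Agent.S0947

/-- Let z ≠ 1 be a p-element of the finite group G with centralizer H, and fix a maximal ideal M of the algebraic integers containing p. (i) For every y ∈ H of order prime to p, the sum over ζ in the principal block of G of |ζ (z * y)|² equals the sum over χ in the principal block of H of |χ y|². (ii) If moreover H has a normal p-complement (its largest normal subgroup of order prime to p has p-power index), that common value is the largest power of p dividing the order of H. -/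
theorem result {G : Type*} [Group G] [Finite G] (p : ℕ) [Fact p.Prime] (M : Ideal Cfsg.AlgInt) (hM : Cfsg.IsPModular p M) (z : G) (hz : ∃ k : ℕ, orderOf z = p ^ k) (hz1 : z ≠ 1) (y : Subgroup.centralizer ({z} : Set G)) (hy : ¬ p ∣ orderOf y) : (∑ᶠ ζ ∈ Cfsg.principalBlock M G, ‖(ζ : G → ℂ) (z * (y : G))‖ ^ 2 = ∑ᶠ χ ∈ Cfsg.principalBlock M (Subgroup.centralizer ({z} : Set G)), ‖(χ : Subgroup.centralizer ({z} : Set G) → ℂ) y‖ ^ 2) ∧ ((∃ k : ℕ, (Cfsg.pPrimeCore p (Subgroup.centralizer ({z} : Set G))).index = p ^ k) → ∑ᶠ ζ ∈ Cfsg.principalBlock M G, ‖(ζ : G → ℂ) (z * (y : G))‖ ^ 2 = ((p ^ (Nat.card (Subgroup.centralizer ({z} : Set G))).factorization p : ℕ) : ℝ)) := by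
  classical
  haveI := Fintype.ofFinite G
  haveI := Fintype.ofFinite (Subgroup.centralizer ({z} : Set G))
  haveI := hM.2.1.isPrime
  letI := CfsgLib.Block.Chr.irrFintype (G := G)
  letI := CfsgLib.Block.Chr.irrFintype (G := Subgroup.centralizer ({z} : Set G))
  obtain ⟨k, hk⟩ := hz
  have key : ∀ {H : Type _} [Group H] [Fintype (Cfsg.IrrCharacter H)]
      (A : Set (Cfsg.IrrCharacter H)) [DecidablePred (· ∈ A)] (g : H),
      ((∑ᶠ χ ∈ A, ‖(χ : H → ℂ) g‖ ^ 2 : ℝ) : ℂ) =
        ∑ χ ∈ Finset.univ.filter (· ∈ A), (χ : H → ℂ) g * starRingEnd ℂ ((χ : H → ℂ) g) := by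
    intro H _ _ A _ g
    rw [CfsgLib.Block.finsum_set_eq A fun χ => ‖(χ : H → ℂ) g‖ ^ 2, Complex.ofReal_sum]
    exact Finset.sum_congr rfl fun χ _ => by rw [Complex.mul_conj', Complex.ofReal_pow]
  have h1 : ∑ᶠ ζ ∈ Cfsg.principalBlock M G, ‖(ζ : G → ℂ) (z * (y : G))‖ ^ 2 =
      ∑ᶠ χ ∈ Cfsg.principalBlock M (Subgroup.centralizer ({z} : Set G)),
        ‖(χ : Subgroup.centralizer ({z} : Set G) → ℂ) y‖ ^ 2 := by
    apply Complex.ofReal_injective
    rw [key, key]
    exact CfsgLib.Block.principal_section_kernel hM hk y y hy hy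
  refine ⟨h1, fun hidx => ?_⟩
  rw [h1]
  apply Complex.ofReal_injective
  haveI : (Cfsg.pPrimeCore p (Subgroup.centralizer ({z} : Set G))).Normal :=
    CfsgLib.Solvable.pPrimeCore_normal p
  rw [key, CfsgLib.Block.principal_complement_sum hM _
    (hM.1.coprime_iff_not_dvd.1 (CfsgLib.Solvable.coprime_card_pPrimeCore p).symm) hidx hy,
    Complex.ofReal_natCast]

end Cfsg.Agent.S0947
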