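import Cfsg.Statements.S0950
import Cfsg.Agent.Transfer.Frobenius
import Mathlib.GroupTheory.SpecificGroups.Quaternion

set_option autoImplicit false
open Cfsg

namespace Cfsg.Agent.S0950

/-- Let S be a Sylow 2-subgroup of the finite group G that is isomorphic to the quaternion group of order 8, and suppose S has no normal complement in G. Then any two subgroups of order 4 of S are conjugate by an element of the normalizer of S. -/
theorem result {G : Type*} [Group G] [Finite G] (S : Sylow 2 G) (e : (S : Subgroup G) ≃* QuaternionGroup 2) (hnc : ∀ N : Subgroup G, N.Normal → ¬ Subgroup.IsComplement' N (S : Subgroup G)) (A B : Subgroup G) (hA : A ≤ S) (hB : B ≤ S) (hA4 : Nat.card A = 4) (hB4 : Nat.card B = 4) : ∃ n ∈ Subgroup.normalizer ((S : Subgroup G) : Set G), B = A.map (MulAut.conj n).toMonoidHom := by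
  classical
  haveI : Fact (Nat.Prime 2) := ⟨Nat.prime_two⟩
  haveI := Fintype.ofFinite G
  set N := Subgroup.normalizer ((S : Subgroup G) : Set G) with hN
  let toQ : ∀ y : G, y ∈ (S : Subgroup G) → QuaternionGroup 2 := fun y hy => e ⟨y, hy⟩
  have h4 : ∀ y ∈ (S : Subgroup G), y ^ 4 = 1 := fun y hy => by
    have key : ∀ q : QuaternionGroup 2, q ^ 4 = 1 := by decide
    have h := key (e ⟨y, hy⟩)
    rw [← map_pow, MulEquiv.map_eq_one_iff] at h
    exact congrArg Subtype.val h
  have hinv1 : ∀ y ∈ (S : Subgroup G), ∀ z ∈ (S : Subgroup G), y ^ 2 = 1 → z ^ 2 = 1 →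
      y ≠ 1 → z ≠ 1 → y = z := fun y hy z hz hy2 hz2 hy1 hz1 => by
    have key : ∀ a b : QuaternionGroup 2, a ^ 2 = 1 → b ^ 2 = 1 → a ≠ 1 → b ≠ 1 → a = b := by decide
    have h := key (e ⟨y, hy⟩) (e ⟨z, hz⟩) (by rw [← map_pow, MulEquiv.map_eq_one_iff]; exact Subtype.ext hy2)
      (by rw [← map_pow, MulEquiv.map_eq_one_iff]; exact Subtype.ext hz2)
      (fun h => hy1 (congrArg Subtype.val ((MulEquiv.map_eq_one_iff e).1 h)))
      (fun h => hz1 (congrArg Subtype.val ((MulEquiv.map_eq_one_iff e).1 h)))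
    exact congrArg Subtype.val (e.injective h)
  have h3 : ∃ u v w : G, ∀ y ∈ (S : Subgroup G), y ^ 2 ≠ 1 →
      Subgroup.zpowers y = Subgroup.zpowers u ∨ Subgroup.zpowers y = Subgroup.zpowers v ∨
        Subgroup.zpowers y = Subgroup.zpowers w := by
    have key : ∀ a : QuaternionGroup 2, a ^ 2 ≠ 1 →
        (a = QuaternionGroup.a 1 ∨ a⁻¹ = QuaternionGroup.a 1) ∨
          (a = QuaternionGroup.xa 0 ∨ a⁻¹ = QuaternionGroup.xa 0) ∨
            (a = QuaternionGroup.xa 1 ∨ a⁻¹ = QuaternionGroup.xa 1) := by decide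
    refine ⟨(e.symm (QuaternionGroup.a 1) : G), (e.symm (QuaternionGroup.xa 0) : G),
      (e.symm (QuaternionGroup.xa 1) : G), fun y hy hy2 => ?_⟩
    have hz : ∀ q : QuaternionGroup 2, (e ⟨y, hy⟩ = q ∨ (e ⟨y, hy⟩)⁻¹ = q) →
        Subgroup.zpowers y = Subgroup.zpowers ((e.symm q : (S : Subgroup G)) : G) := by
      rintro q (h | h) <;> subst h
      · rw [e.symm_apply_apply]
      · rw [map_inv, e.symm_apply_apply, Subgroup.coe_inv, Subgroup.zpowers_inv]
    rcases key (e ⟨y, hy⟩) (fun h => hy2 (by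
      rw [← map_pow, MulEquiv.map_eq_one_iff] at h
      exact congrArg Subtype.val h)) with h | h | h
    · exact Or.inl (hz _ h)
    · exact Or.inr (Or.inl (hz _ h))
    · exact Or.inr (Or.inr (hz _ h))
  have hord4 : ∀ y ∈ (S : Subgroup G), y ^ 2 ≠ 1 → orderOf y = 4 := fun y hy hy2 => by
    have h := orderOf_eq_prime_pow (p := 2) (n := 1) (x := y) (by simpa using hy2)
      (by simpa using h4 y hy)
    simpa using h
  -- subgroups of order four are cyclic
  have hA4cyc : ∀ C : Subgroup G, C ≤ (S : Subgroup G) → Nat.card C = 4 →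
      ∃ y ∈ C, y ^ 2 ≠ 1 ∧ C = Subgroup.zpowers y := by
    intro C hCS hC
    obtain ⟨y, hyC, hy2⟩ : ∃ y ∈ C, y ^ 2 ≠ 1 := by
      by_contra hno
      push Not at hno
      have hle : Nat.card C ≤ 2 := by
        by_cases h1 : ∃ t ∈ C, t ≠ 1
        · obtain ⟨t, ht, ht1⟩ := h1
          have hsub : (Finset.univ.filter fun y : G => y ∈ C) ⊆ {1, t} := fun y hy => by
            simp only [Finset.mem_filter, Finset.mem_univ, true_and] at hy
            by_cases hy1 : y = 1
            · simp [hy1]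
            · simp [hinv1 y (hCS hy) t (hCS ht) (hno y hy) (hno t ht) hy1 ht1]
          rw [Nat.card_eq_fintype_card, Fintype.card_subtype]
          exact (Finset.card_le_card hsub).trans Finset.card_le_two
        · push Not at h1
          have : C = ⊥ := (Subgroup.eq_bot_iff_forall C).2 h1
          rw [this, Subgroup.card_bot]; omega
      omega
    exact ⟨y, hyC, hy2, (Subgroup.eq_of_le_of_card_ge (Subgroup.zpowers_le.2 hyC)
      (by rw [Nat.card_zpowers, hord4 y (hCS hyC) hy2, hC])).symm⟩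
  -- elements of odd order normalising a small cyclic group centralise it
  have hodd : ∀ g y : G, Nat.Coprime (orderOf g) 2 → y ^ 4 = 1 →
      g * y * g⁻¹ ∈ Subgroup.zpowers y → g * y = y * g := by
    intro g y hg hy hm
    obtain ⟨k, hk⟩ := hm
    simp only at hk
    have h2 : (g * g) * y * (g * g)⁻¹ = y := by
      have e1 : (g * g) * y * (g * g)⁻¹ = y ^ (k * k) := by
        calc (g * g) * y * (g * g)⁻¹ = g * (g * y * g⁻¹) * g⁻¹ := by group
          _ = y ^ (k * k) := by rw [← hk, ← conj_zpow, ← hk, ← zpow_mul]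
      rw [e1]
      by_cases hy1 : y = 1
      · simp [hy1]
      rcases Int.even_or_odd k with ⟨l, hl⟩ | ⟨l, hl⟩
      · exfalso
        have ho : orderOf (y ^ k) = orderOf y := by rw [hk]; exact (MulAut.conj g).orderOf_eq y
        have hdvd : orderOf y ∣ 2 ^ 2 := orderOf_dvd_of_pow_eq_one (by norm_num; exact hy)
        obtain ⟨j, -, hj⟩ := (Nat.dvd_prime_pow Nat.prime_two).1 hdvd
        have hj0 : j ≠ 0 := fun h => hy1 (orderOf_eq_one_iff.1 (by rw [hj, h, pow_zero]))
        have h3 : (y ^ k) ^ (orderOf y / 2) = 1 := by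
          rw [hj, show j = j - 1 + 1 by omega, pow_succ, Nat.mul_div_cancel _ two_pos,
            ← zpow_natCast, ← zpow_mul, hl, show (l + l) * ((2 ^ (j - 1) : ℕ) : ℤ) =
              ((2 ^ (j - 1) * 2 : ℕ) : ℤ) * l by push_cast; ring,
            zpow_mul, zpow_natCast, ← pow_succ, show j - 1 + 1 = j by omega, ← hj,
            pow_orderOf_eq_one, one_zpow]
        have h5 := Nat.le_of_dvd (Nat.div_pos (Nat.le_of_dvd (orderOf_pos y)
          (hj ▸ dvd_pow_self 2 hj0)) two_pos) (ho ▸ orderOf_dvd_of_pow_eq_one h3)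
        exact absurd h5 (not_le.2 (Nat.div_lt_self (orderOf_pos y) one_lt_two))
      · subst hl
        obtain ⟨c, hc⟩ : (4 : ℤ) ∣ (2 * l + 1) * (2 * l + 1) - 1 := ⟨l * l + l, by ring⟩
        rw [show (2 * l + 1) * (2 * l + 1) = 4 * c + 1 by omega, zpow_add, zpow_mul, zpow_one,
          show y ^ (4 : ℤ) = 1 by exact_mod_cast hy, one_zpow, one_mul]
    have hc : Commute (g ^ 2) y := by
      rw [pow_two]
      exact mul_inv_eq_iff_eq_mul.1 h2
    obtain ⟨m, hm⟩ := exists_pow_eq_self_of_coprime (x := g) (n := 2) hg.symm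
    rw [← hm]
    exact (hc.pow_left m).eq
  -- some odd element moves a subgroup of order four
  obtain ⟨n, hnN, hnodd, C₀, hC₀, hC₀4, hmove⟩ : ∃ n ∈ N, Nat.Coprime (orderOf n) 2 ∧
      ∃ C₀ : Subgroup G, C₀ ≤ (S : Subgroup G) ∧ Nat.card C₀ = 4 ∧
        C₀.map (MulAut.conj n).toMonoidHom ≠ C₀ := by
    by_contra hno
    push Not at hno
    obtain ⟨P, K, hK, hKP⟩ :=
      CfsgLib.Fusion.hasNormalPComplement_of_localCondition (p := 2) (G := G) fun Q hQ g hg hg' => by
        rw [Subgroup.mem_centralizer_iff]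
        intro q hq
        obtain ⟨T, hT⟩ := hQ.exists_le_sylow
        obtain ⟨x, hx⟩ := MulAction.exists_smul_eq G S T
        have hmem : ∀ z ∈ Q, x⁻¹ * z * x ∈ (S : Subgroup G) := fun z hz => by
          have h : z ∈ (T : Subgroup G) := hT hz
          rw [← hx] at h
          obtain ⟨s, hs, hsz⟩ := h
          rw [← show x * s * x⁻¹ = z from hsz]
          simp [mul_assoc]
          exact hs
        set g' := x⁻¹ * g * x with hg'def
        have hg'o : Nat.Coprime (orderOf g') 2 := by
          rwa [hg'def, show x⁻¹ * g * x = MulAut.conj x⁻¹ g by simp, MulEquiv.orderOf_eq]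
        set y := x⁻¹ * q * x with hy
        have hyS : y ∈ (S : Subgroup G) := hmem q hq
        suffices hgy : g' * y = y * g' by
          calc q * g = x * (y * g') * x⁻¹ := by rw [hy, hg'def]; group
            _ = x * (g' * y) * x⁻¹ := by rw [hgy]
            _ = g * q := by rw [hy, hg'def]; group
        refine hodd g' y hg'o (h4 y hyS) ?_
        have hgq : g * q * g⁻¹ ∈ Q := (Subgroup.mem_normalizer_iff.1 hg q).1 hq
        have hconj : g' * y * g'⁻¹ = x⁻¹ * (g * q * g⁻¹) * x := by rw [hg'def, hy]; group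
        have hgS : g' * y * g'⁻¹ ∈ (S : Subgroup G) := hconj ▸ hmem _ hgq
        by_cases hy2 : y ^ 2 = 1
        · by_cases hy1 : y = 1
          · simp [hy1]
          · rw [hinv1 _ hgS y hyS (by rw [conj_pow, hy2, mul_one, mul_inv_cancel]) hy2
              (fun h => hy1 (conj_eq_one_iff.1 h)) hy1]
            exact Subgroup.mem_zpowers y
        · have hyo := hord4 y hyS hy2
          let Q' : Subgroup G := Q.map (MulAut.conj x⁻¹).toMonoidHom
          have hQ'S : Q' ≤ (S : Subgroup G) := by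
            rintro _ ⟨z, hz, rfl⟩
            simpa using hmem z hz
          have hQ'c : Nat.card Q' = Nat.card Q :=
            Subgroup.card_map_of_injective (f := (MulAut.conj x⁻¹).toMonoidHom)
              (MulAut.conj x⁻¹).injective
          have hyQ' : y ∈ Q' := ⟨q, hq, by simp [hy]⟩
          have hgyQ' : g' * y * g'⁻¹ ∈ Q' := ⟨g * q * g⁻¹, hgq, by rw [hconj]; simp⟩
          have hcS : Nat.card (S : Subgroup G) = 8 := by
            rw [Nat.card_congr e.toEquiv, Nat.card_eq_fintype_card, QuaternionGroup.card]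
          have hd : Nat.card Q' ∣ 8 := hcS ▸ Subgroup.card_dvd_of_le hQ'S
          have hd' : 4 ∣ Nat.card Q' := hyo ▸ Subgroup.orderOf_dvd_natCard _ hyQ'
          have hle := Nat.le_of_dvd (by norm_num) hd
          rcases (show Nat.card Q' = 4 ∨ Nat.card Q' = 8 by
            interval_cases h : Nat.card Q' <;> omega) with h | h
          · rw [Subgroup.eq_of_le_of_card_ge (Subgroup.zpowers_le.2 hyQ')
              (by rw [Nat.card_zpowers, hyo, h])]
            exact hgyQ'
          · have hQS : Q' = (S : Subgroup G) := Subgroup.eq_of_le_of_card_ge hQ'S (by rw [h, hcS])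
            have hg'N : g' ∈ N := by
              rw [hN, Subgroup.mem_normalizer_iff]
              intro z
              have h1 : ∀ w : G, w ∈ (S : Subgroup G) ↔ x * w * x⁻¹ ∈ Q := fun w => by
                rw [← hQS]
                constructor
                · rintro ⟨z, hz, rfl⟩; simpa [mul_assoc] using hz
                · intro hw; exact ⟨_, hw, by simp [mul_assoc]⟩
              rw [h1, h1, Subgroup.mem_normalizer_iff.1 hg,
                show g * (x * z * x⁻¹) * g⁻¹ = x * (g' * z * g'⁻¹) * x⁻¹ by rw [hg'def]; group]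
            have := hno g' hg'N hg'o (Subgroup.zpowers y) (Subgroup.zpowers_le.2 hyS)
              (by rw [Nat.card_zpowers, hyo])
            rw [← this]
            exact ⟨y, Subgroup.mem_zpowers y, rfl⟩
    obtain ⟨c, hc⟩ := MulAction.exists_smul_eq G P S
    refine hnc K hK ?_
    haveI := hK
    refine Subgroup.isComplement'_of_coprime ?_ ?_
    · rw [S.card_eq_multiplicity, ← P.card_eq_multiplicity]
      exact hKP.card_mul_card
    · obtain ⟨j, hj⟩ := IsPGroup.iff_card.1 S.isPGroup'
      rw [hj]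
      exact ((Nat.prime_two.coprime_iff_not_dvd.2 (hKP.index_eq_card ▸ P.not_dvd_index)).symm).pow_right j
  -- the three subgroups are one orbit
  obtain ⟨u, v, w, huvw⟩ := h3
  have hS4 : ∀ C : Subgroup G, C ≤ (S : Subgroup G) → Nat.card C = 4 →
      C ∈ ({Subgroup.zpowers u, Subgroup.zpowers v, Subgroup.zpowers w} : Finset (Subgroup G)) := by
    intro C hC h
    obtain ⟨y, hy, hy2, rfl⟩ := hA4cyc C hC h
    simp only [Finset.mem_insert, Finset.mem_singleton]
    exact huvw y (hC hy) hy2
  let cj : G → Subgroup G → Subgroup G := fun g C => C.map (MulAut.conj g).toMonoidHom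
  have hcj : ∀ g h C, cj g (cj h C) = cj (g * h) C := fun g h C => by
    simp only [cj, Subgroup.map_map]
    congr 1
    ext z
    simp [mul_assoc]
  have hcj1 : ∀ C, cj 1 C = C := fun C => by
    ext z
    simp [cj, Subgroup.mem_map]
  have hin : ∀ g ∈ N, ∀ C, C ≤ (S : Subgroup G) → cj g C ≤ (S : Subgroup G) ∧
      (Nat.card C = 4 → Nat.card (cj g C) = 4) := fun g hg C hC => by
    refine ⟨?_, fun h => by
      rw [← h]
      exact Subgroup.card_map_of_injective (f := (MulAut.conj g).toMonoidHom) (MulAut.conj g).injective⟩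
    rintro _ ⟨z, hz, rfl⟩
    exact (Subgroup.mem_normalizer_iff.1 hg z).1 (hC hz)
  set C₁ := cj n C₀ with hC₁
  set C₂ := cj n C₁ with hC₂
  have h1 := hin n hnN C₀ hC₀
  have h2 := hin n hnN C₁ h1.1
  have hne10 : C₁ ≠ C₀ := hmove
  have hne21 : C₂ ≠ C₁ := fun h => hne10 (by
    have := congrArg (cj n⁻¹) h
    rwa [hC₂, hcj, inv_mul_cancel, hcj1, hC₁, hcj, inv_mul_cancel, hcj1] at this)
  have hne20 : C₂ ≠ C₀ := fun h => hne10 (by
    obtain ⟨m, hm⟩ := exists_pow_eq_self_of_coprime (x := n) (n := 2) hnodd.symm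
    have hfix : ∀ j : ℕ, cj ((n ^ 2) ^ j) C₀ = C₀ := by
      intro j
      induction j with
      | zero => rw [pow_zero, hcj1]
      | succ j ih => rw [pow_succ, ← hcj, pow_two, ← hcj, ← hC₁, ← hC₂, h, ← pow_two, ih]
    rw [hC₁, ← hm, hfix])
  have hall : ∀ C : Subgroup G, C ≤ (S : Subgroup G) → Nat.card C = 4 →
      C ∈ ({C₀, C₁, C₂} : Finset (Subgroup G)) := by
    intro C hC h
    have hsub : ({C₀, C₁, C₂} : Finset (Subgroup G)) ⊆
        {Subgroup.zpowers u, Subgroup.zpowers v, Subgroup.zpowers w} := by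
      intro D hD
      simp only [Finset.mem_insert, Finset.mem_singleton] at hD
      rcases hD with rfl | rfl | rfl
      · exact hS4 _ hC₀ hC₀4
      · exact hS4 _ h1.1 (h1.2 hC₀4)
      · exact hS4 _ h2.1 (h2.2 (h1.2 hC₀4))
    rw [Finset.eq_of_subset_of_card_le hsub (by
      rw [Finset.card_eq_three.2 ⟨C₀, C₁, C₂, hne10.symm, hne20.symm, hne21.symm, rfl⟩]
      exact Finset.card_le_three)]
    exact hS4 C hC h
  have hpow : ∀ C : Subgroup G, C ∈ ({C₀, C₁, C₂} : Finset (Subgroup G)) →
      ∃ i : ℕ, cj (n ^ i) C₀ = C := fun C hC => by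
    simp only [Finset.mem_insert, Finset.mem_singleton] at hC
    rcases hC with rfl | rfl | rfl
    · exact ⟨0, by rw [pow_zero, hcj1]⟩
    · exact ⟨1, by rw [pow_one]⟩
    · exact ⟨2, by rw [pow_two, ← hcj]⟩
  obtain ⟨i, hi⟩ := hpow A (hall A hA hA4)
  obtain ⟨j, hj⟩ := hpow B (hall B hB hB4)
  refine ⟨n ^ j * (n ^ i)⁻¹, N.mul_mem (N.pow_mem hnN j) (N.inv_mem (N.pow_mem hnN i)), ?_⟩
  show B = cj _ A
  rw [← hi, hcj, inv_mul_cancel_right, hj]

end Cfsg.Agent.S0950
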