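import Cfsg.Statements.S0952
import Cfsg.Agent.Blocks.Principal

set_option autoImplicit false
open scoped ComplexConjugate
open Cfsg

namespace Cfsg.Agent.S0952

/-- Let χ and ψ be irreducible characters of the finite group G lying in different blocks relative to a maximal ideal M of the algebraic integers containing the prime p. Then the sum of χ x * conj (ψ x) over the elements x of order prime to p is zero. -/
theorem result {G : Type*} [Group G] [Finite G] (p : ℕ) [Fact p.Prime] (M : Ideal Cfsg.AlgInt) (hM : Cfsg.IsPModular p M) (χ ψ : Cfsg.IrrCharacter G) (h : ¬ Cfsg.SameBlock M (χ : G → ℂ) (ψ : G → ℂ)) : ∑ᶠ x ∈ {x : G | ¬ p ∣ orderOf x}, (χ : G → ℂ) x * conj ((ψ : G → ℂ) x) = 0 := by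
  classical
  haveI := Fintype.ofFinite G
  letI := CfsgLib.Block.Chr.irrFintype (G := G)
  haveI := hM.2.1.isPrime
  have h0 := CfsgLib.Block.classInner_regPart_eq_zero hM χ ψ h
  rw [CfsgLib.Block.classInner_regPart] at h0
  rw [finsum_mem_eq_sum_of_inter_support_eq (t := Finset.univ.filter (fun g : G => ¬ p ∣ orderOf g))
    _ (by ext; simp)]
  exact (mul_eq_zero.1 h0).resolve_left (inv_ne_zero (Nat.cast_ne_zero.2 Nat.card_pos.ne'))

end Cfsg.Agent.S0952
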