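import Cfsg.Statements.S0954
import Cfsg.Agent.Blocks.Cover
import Cfsg.Agent.Blocks.Principal

set_option autoImplicit false
open Cfsg

namespace Cfsg.Agent.S0954

/-- Let N be a normal subgroup of the finite group G of order prime to p and of p-power index (a normal p-complement), and fix a maximal ideal M of the algebraic integers containing p. Then two irreducible characters χ, ψ of G lie in the same block if and only if some irreducible character of N has nonzero inner product with both the restriction of χ and the restriction of ψ. -/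
theorem result {G : Type*} [Group G] [Fintype G] (p : ℕ) [Fact p.Prime] (M : Ideal Cfsg.AlgInt) (hM : Cfsg.IsPModular p M) (N : Subgroup G) [N.Normal] [Fintype N] (hN : ¬ p ∣ Nat.card N) (hidx : ∃ k : ℕ, N.index = p ^ k) (χ ψ : Cfsg.IrrCharacter G) : Cfsg.SameBlock M (χ : G → ℂ) (ψ : G → ℂ) ↔ ∃ θ : Cfsg.IrrCharacter N, Cfsg.classInner (fun n : N => (χ : G → ℂ) n) (θ : N → ℂ) ≠ 0 ∧ Cfsg.classInner (fun n : N => (ψ : G → ℂ) n) (θ : N → ℂ) ≠ 0 := by
  classical
  haveI := hM.2.1.isPrime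
  have hreg : ∀ g : G, ¬ p ∣ orderOf g → g ∈ N := by
    intro g hg
    obtain ⟨k, hk⟩ := hidx
    rw [← QuotientGroup.eq_one_iff (N := N), ← orderOf_eq_one_iff]
    have h1 : orderOf (g : G ⧸ N) ∣ p ^ k := by
      rw [← hk, Subgroup.index]; exact orderOf_dvd_natCard _
    have h2 : orderOf (g : G ⧸ N) ∣ orderOf g := orderOf_map_dvd (QuotientGroup.mk' N) g
    exact Nat.eq_one_of_dvd_coprimes ((hM.1.coprime_iff_not_dvd.2 hg).pow_left k) h1 h2
  constructor
  · intro h
    obtain ⟨θ, hθ, hc⟩ := CfsgLib.Char.exists_constituent_restrict (N := N) χ.2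
    obtain ⟨φ, hφ, hc'⟩ := CfsgLib.Char.exists_constituent_restrict (N := N) ψ.2
    have hb : Cfsg.IsPBlock M (Cfsg.blockOf M θ) := CfsgLib.Block.isPBlock_blockOf ⟨θ, hθ⟩
    obtain ⟨g, θ', hθ', he⟩ := CfsgLib.Block.mem_orbitUnion_of_covering
      (CfsgLib.Block.isPBlock_blockOf χ) hb (CfsgLib.Block.mem_blockOf_self χ)
      (show ψ ∈ Cfsg.blockOf M (χ : G → ℂ) from h) (θ := ⟨θ, hθ⟩)
      (CfsgLib.Block.mem_blockOf_self ⟨θ, hθ⟩) (ψ := ⟨φ, hφ⟩) hc hc'
    rw [CfsgLib.Block.blockOf_eq_singleton hM hN ⟨θ, hθ⟩, Set.mem_singleton_iff] at hθ'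
    subst hθ'
    refine ⟨⟨θ, hθ⟩, hc, ?_⟩
    have h2 := CfsgLib.Char.classInner_restrict_conjOn (N := N)
      (CfsgLib.Block.Chr.isClassFunction_irr ψ) θ g
    rw [show φ = CfsgLib.Char.conjOn g θ from congrArg Subtype.val he] at hc'
    exact h2 ▸ hc'
  · rintro ⟨θ, hc, hc'⟩
    have hb : Cfsg.IsPBlock M (Cfsg.blockOf M (θ : N → ℂ)) := CfsgLib.Block.isPBlock_blockOf θ
    refine CfsgLib.Block.sameBlock_of_regular hM χ ψ fun g hg => ?_
    have h1 := CfsgLib.Block.covering_cong (CfsgLib.Block.isPBlock_blockOf χ) hb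
      (CfsgLib.Block.mem_blockOf_self χ) (CfsgLib.Block.mem_blockOf_self θ) hc
      (CfsgLib.Block.mem_blockOf_self χ) (CfsgLib.Block.mem_blockOf_self θ) ⟨g, hreg g hg⟩
    have h2 := CfsgLib.Block.covering_cong (CfsgLib.Block.isPBlock_blockOf ψ) hb
      (CfsgLib.Block.mem_blockOf_self ψ) (CfsgLib.Block.mem_blockOf_self θ) hc'
      (CfsgLib.Block.mem_blockOf_self ψ) (CfsgLib.Block.mem_blockOf_self θ) ⟨g, hreg g hg⟩
    exact CfsgLib.Block.memLocalIdeal_sub_trans h1 (CfsgLib.Block.memLocalIdeal_sub_comm h2)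

end Cfsg.Agent.S0954
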