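import Cfsg.Statements.S0957
import Mathlib.GroupTheory.Sylow
import Mathlib.GroupTheory.GroupAction.Quotient

set_option autoImplicit false
open Cfsg

namespace Cfsg.Agent.S0957

/-- Let P be a Sylow p-subgroup of the finite group G, let g, h ∈ G and let p ^ d be the order of a Sylow p-subgroup of the centralizer of g. Then the number of pairs (y, z) with y conjugate to g, z conjugate to h and z * y⁻¹ ∈ P is divisible by the order of P divided by p ^ d. -/
theorem result {G : Type*} [Group G] [Finite G] (p : ℕ) [Fact p.Prime] (P : Sylow p G) (g h : G) (S : Sylow p (Subgroup.centralizer ({g} : Set G))) : Nat.card P / Nat.card S ∣ Nat.card {yz : G × G // IsConj g yz.1 ∧ IsConj h yz.2 ∧ yz.2 * yz.1⁻¹ ∈ (P : Subgroup G)} := by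
  classical
  haveI := Fintype.ofFinite G
  let X := {yz : G × G // IsConj g yz.1 ∧ IsConj h yz.2 ∧ yz.2 * yz.1⁻¹ ∈ (P : Subgroup G)}
  have hconj : ∀ (a x y : G), IsConj a x → IsConj a (y * x * y⁻¹) := fun a x y hax =>
    hax.trans (isConj_iff.2 ⟨y, rfl⟩)
  letI : MulAction (P : Subgroup G) X :=
    { smul := fun u x => ⟨((u : G) * x.1.1 * (u : G)⁻¹, (u : G) * x.1.2 * (u : G)⁻¹),
        hconj _ _ _ x.2.1, hconj _ _ _ x.2.2.1, by
          have he : (u : G) * x.1.2 * (u : G)⁻¹ * ((u : G) * x.1.1 * (u : G)⁻¹)⁻¹ =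
              (u : G) * (x.1.2 * x.1.1⁻¹) * (u : G)⁻¹ := by group
          rw [he]
          exact (P : Subgroup G).mul_mem ((P : Subgroup G).mul_mem u.2 x.2.2.2)
            ((P : Subgroup G).inv_mem u.2)⟩
      one_smul := fun x => Subtype.ext (Prod.ext
        (show ((1 : (P : Subgroup G)) : G) * x.1.1 * ((1 : (P : Subgroup G)) : G)⁻¹ = x.1.1 by simp)
        (show ((1 : (P : Subgroup G)) : G) * x.1.2 * ((1 : (P : Subgroup G)) : G)⁻¹ = x.1.2 by simp))
      mul_smul := fun a b x => Subtype.ext (Prod.ext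
        (show ((a * b : (P : Subgroup G)) : G) * x.1.1 * ((a * b : (P : Subgroup G)) : G)⁻¹ =
          (a : G) * ((b : G) * x.1.1 * (b : G)⁻¹) * (a : G)⁻¹ by rw [Subgroup.coe_mul]; group)
        (show ((a * b : (P : Subgroup G)) : G) * x.1.2 * ((a * b : (P : Subgroup G)) : G)⁻¹ =
          (a : G) * ((b : G) * x.1.2 * (b : G)⁻¹) * (a : G)⁻¹ by rw [Subgroup.coe_mul]; group)) }
  obtain ⟨b, hb⟩ := IsPGroup.iff_card.1 P.isPGroup'
  obtain ⟨d, hd⟩ := IsPGroup.iff_card.1 S.isPGroup'
  have hdf : d = (Nat.card (Subgroup.centralizer ({g} : Set G))).factorization p := by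
    have := S.card_eq_multiplicity
    rw [hd] at this
    exact Nat.pow_right_injective (Fact.out : p.Prime).two_le this
  rw [Nat.card_congr (MulAction.selfEquivSigmaOrbits (P : Subgroup G) X)]
  haveI : Fintype X := Fintype.ofFinite X
  rw [Nat.card_sigma]
  refine Finset.dvd_sum fun ω _ => ?_
  set x := Quotient.out ω with hx
  have horb := MulAction.card_orbit_mul_card_stabilizer_eq_card_group (P : Subgroup G) x
  rw [← Nat.card_eq_fintype_card, ← Nat.card_eq_fintype_card, ← Nat.card_eq_fintype_card] at horb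
  obtain ⟨k, hk⟩ := IsPGroup.iff_card.1
    (P.isPGroup'.to_subgroup (MulAction.stabilizer (P : Subgroup G) x))
  obtain ⟨c, hc⟩ := isConj_iff.1 x.2.1
  have hle : k ≤ d := by
    rw [hdf, ← (Fact.out : p.Prime).pow_dvd_iff_le_factorization Nat.card_pos.ne', ← hk]
    let φ : MulAction.stabilizer (P : Subgroup G) x →* Subgroup.centralizer ({g} : Set G) :=
      { toFun := fun u => ⟨c⁻¹ * ((u : (P : Subgroup G)) : G) * c, by
          have hu : ((u : (P : Subgroup G)) : G) * x.1.1 * ((u : (P : Subgroup G)) : G)⁻¹ = x.1.1 :=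
            congrArg (fun z : X => z.1.1) u.2
          rw [mul_inv_eq_iff_eq_mul, ← hc] at hu
          rw [Subgroup.mem_centralizer_singleton_iff]
          calc c⁻¹ * ((u : (P : Subgroup G)) : G) * c * g
              = c⁻¹ * (((u : (P : Subgroup G)) : G) * (c * g * c⁻¹)) * c := by group
            _ = c⁻¹ * ((c * g * c⁻¹) * ((u : (P : Subgroup G)) : G)) * c := by rw [hu]
            _ = g * (c⁻¹ * ((u : (P : Subgroup G)) : G) * c) := by group⟩
        map_one' := Subtype.ext (by simp)
        map_mul' := fun a b => Subtype.ext (by simp only [Subgroup.coe_mul]; group) }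
    refine Subgroup.card_dvd_of_injective φ fun a b hab => ?_
    have := congrArg (Subtype.val : _ → G) hab
    simp only [φ, MonoidHom.coe_mk, OneHom.coe_mk] at this
    exact Subtype.ext (Subtype.ext (mul_left_cancel (mul_right_cancel this)))
  rw [hk] at horb
  have hpos : 0 < p ^ d := pow_pos (Fact.out : p.Prime).pos d
  rw [hb, hd]
  rw [hb] at horb
  by_cases hbd : d ≤ b
  · rw [Nat.pow_div hbd (Fact.out : p.Prime).pos]
    refine (Nat.mul_dvd_mul_iff_left (pow_pos (Fact.out : p.Prime).pos k)).1 ?_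
    rw [mul_comm (p ^ k) (Nat.card _)]
    change _ ∣ Nat.card (MulAction.orbit (P : Subgroup G) x) * p ^ k
    rw [horb, ← pow_add]
    exact pow_dvd_pow p (by omega)
  · rw [Nat.div_eq_of_lt (Nat.pow_lt_pow_right (Fact.out : p.Prime).one_lt (by omega))]
    exfalso
    refine hbd ?_
    obtain ⟨Q, hQ⟩ : ∃ Q : Sylow p G,
        (S : Subgroup (Subgroup.centralizer ({g} : Set G))).map
          (Subgroup.centralizer ({g} : Set G)).subtype ≤ Q :=
      IsPGroup.exists_le_sylow (S.isPGroup'.map _)
    have h1 := Subgroup.card_dvd_of_le hQ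
    rw [Subgroup.card_map_of_injective (Subgroup.centralizer ({g} : Set G)).subtype_injective, hd]
      at h1
    rw [Q.card_eq_multiplicity, ← P.card_eq_multiplicity, hb] at h1
    exact (Nat.pow_dvd_pow_iff_le_right (Fact.out : p.Prime).one_lt).1 h1

end Cfsg.Agent.S0957
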