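import Cfsg.Statements.S0959
import Cfsg.Agent.Blocks.BlockCount

set_option autoImplicit false
open Cfsg

namespace Cfsg.Agent.S0959

/-- Let B be a block of the finite group G with defect group D (relative to a maximal ideal M of the algebraic integers containing the prime p), and let P be a p-subgroup. Then there is an element g whose idempotent coefficient for B is a local integer outside the local ideal at M and which has a conjugate centralizing P, if and only if some conjugate of P is contained in D. -/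
theorem result {G : Type*} [Group G] [Finite G] (p : ℕ) [Fact p.Prime] (M : Ideal Cfsg.AlgInt) (hM : Cfsg.IsPModular p M) (B : Set (Cfsg.IrrCharacter G)) (hB : Cfsg.IsPBlock M B) (D : Subgroup G) (hD : Cfsg.IsDefectGroup p M B D) (P : Subgroup G) (hP : IsPGroup p P) : (∃ g : G, Cfsg.MemLocalRing M (Cfsg.blockCoeff B g) ∧ ¬ Cfsg.MemLocalIdeal M (Cfsg.blockCoeff B g) ∧ ∃ c : G, IsConj g c ∧ c ∈ Subgroup.centralizer (P : Set G)) ↔ ∃ x : G, P.map (MulAut.conj x).toMonoidHom ≤ D := by
  haveI := Fintype.ofFinite G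
  haveI := hM.2.1.isPrime
  constructor
  · rintro ⟨g, -, hu, c, hgc, hc⟩
    obtain ⟨x, hx⟩ := isConj_iff.1 hgc
    exact CfsgLib.Block.exists_conj_le_defectGroup hM hB hD (h := c)
      (by rw [← hx, CfsgLib.Block.isClassFunction_blockCoeff B g x]; exact hu) hP hc
  · rintro ⟨x, hx⟩
    obtain ⟨y, hy, hyD, -⟩ := (CfsgLib.Block.isDefectGroup_iff hM hB).1 hD
    refine ⟨y, hy.1, hy.2.1, x⁻¹ * y * x, isConj_iff.2 ⟨x⁻¹, by group⟩, ?_⟩
    rw [Subgroup.mem_centralizer_iff]
    intro u hu
    have h := Subgroup.mem_centralizer_iff.1 hyD _ (hx ⟨u, hu, rfl⟩)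
    simp only [MulEquiv.toMonoidHom_eq_coe, MonoidHom.coe_coe, MulAut.conj_apply] at h
    calc u * (x⁻¹ * y * x) = x⁻¹ * (x * u * x⁻¹ * y) * x := by group
      _ = x⁻¹ * (y * (x * u * x⁻¹)) * x := by rw [h]
      _ = x⁻¹ * y * x * u := by group

end Cfsg.Agent.S0959
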