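import Cfsg.Statements.S0960
import Cfsg.Agent.BlocksB.Cyclic.PrimeOrder

set_option autoImplicit false
open Cfsg

namespace Cfsg.Agent.S0960

/-- Let p be an odd prime and G a finite group whose Sylow p-subgroup P has order p; let e be the index of C_G(P) in N_G(P) (a divisor of p − 1) and fix a maximal ideal M of the algebraic integers containing p. Then the principal block of G consists of exactly e + (p - 1) / e irreducible characters, and the degree d of each of them satisfies d ≡ 1, d ≡ -1, d ≡ e or d ≡ -e modulo p. -/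
theorem result {G : Type*} [Group G] [Finite G] (p : ℕ) [Fact p.Prime] (M : Ideal Cfsg.AlgInt) (hM : Cfsg.IsPModular p M) (hodd : p ≠ 2) (P : Sylow p G) (hP : Nat.card P = p) (e : ℕ) (he : (Subgroup.centralizer ((P : Subgroup G) : Set G)).relIndex (Subgroup.normalizer ((P : Subgroup G) : Set G)) = e) : Nat.card (Cfsg.principalBlock M G) = e + (p - 1) / e ∧ ∀ χ ∈ Cfsg.principalBlock M G, ((Cfsg.charDegree (χ : G → ℂ) : ℤ) ≡ 1 [ZMOD p] ∨ (Cfsg.charDegree (χ : G → ℂ) : ℤ) ≡ -1 [ZMOD p] ∨ (Cfsg.charDegree (χ : G → ℂ) : ℤ) ≡ (e : ℤ) [ZMOD p] ∨ (Cfsg.charDegree (χ : G → ℂ) : ℤ) ≡ -(e : ℤ) [ZMOD p]) := by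
  haveI := hM.2.1.isPrime
  haveI := CfsgLib.Block.charP_residue hM
  haveI := Fintype.ofFinite G
  letI := CfsgLib.Block.Chr.irrFintype (G := G)
  haveI : Fintype (principalBlock M G) := Fintype.ofFinite _
  classical
  obtain ⟨X, εX, ε, hX, hY, h1, hε, h2, -, -⟩ :=
    CfsgLib.Cyclic.principal_prime_order hM P hP he
  have he0 : 0 < e := by
    rw [← he]; exact Nat.pos_of_ne_zero Subgroup.index_ne_zero_of_finite
  refine ⟨?_, fun χ hχ => ?_⟩
  · rw [← hY, Nat.add_sub_cancel, Nat.mul_div_cancel_left _ he0, Nat.card_eq_fintype_card,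
      ← Finset.card_add_card_compl X, hX]
  · by_cases h : (⟨χ, hχ⟩ : principalBlock M G) ∈ X
    · obtain ⟨hs, hc, -⟩ := h1 _ h
      rcases hs with hs | hs <;> rw [hs] at hc
      · exact Or.inl hc
      · exact Or.inr (Or.inl hc)
    · have hc := h2 _ h
      rcases hε with hs | hs <;> rw [hs] at hc
      · rw [one_mul] at hc; exact Or.inr (Or.inr (Or.inl hc))
      · rw [neg_one_mul] at hc; exact Or.inr (Or.inr (Or.inr hc))

end Cfsg.Agent.S0960
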