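import Cfsg.Statements.S0961
import Cfsg.Agent.Blocks.Integrality

set_option autoImplicit false
open Cfsg

namespace Cfsg.Agent.S0961

/-- Let χ be an irreducible character of the finite group G and let p ^ a be the largest power of the prime p dividing the order of G. Then the function equal to p ^ a * χ x at elements x of order prime to p and to 0 elsewhere is a generalized character (a difference of characters). -/
theorem result {G : Type*} [Group G] [Finite G] (p : ℕ) [Fact p.Prime] (χ : Cfsg.IrrCharacter G) : Cfsg.IsGeneralizedCharacter G (fun x : G => if p ∣ orderOf x then 0 else ((p ^ (Nat.card G).factorization p : ℕ) : ℂ) * (χ : G → ℂ) x) := by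
  classical
  haveI := Fintype.ofFinite G
  refine CfsgLib.Char.isGeneralized_of_classInner_int ?_ fun ψ hψ => ?_
  · intro g x
    have ho : orderOf (x * g * x⁻¹) = orderOf g :=
      orderOf_injective (MulAut.conj x).toMonoidHom (MulAut.conj x).injective g
    simp only [ho, CfsgLib.Block.Chr.isClassFunction_irr χ g x]
  · obtain ⟨z, hz⟩ := CfsgLib.Block.exists_int_regPart (Fact.out : p.Prime) χ ⟨ψ, hψ⟩
    refine ⟨((p ^ (Cfsg.charDegree (χ : G → ℂ)).factorization p : ℕ) : ℤ) * z, ?_⟩
    have hba : (Cfsg.charDegree (χ : G → ℂ)).factorization p ≤ (Nat.card G).factorization p :=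
      (Nat.factorization_le_iff_dvd (CfsgLib.Block.Chr.irr_one χ).2.ne' Nat.card_pos.ne').2
        (CfsgLib.Block.charDegree_dvd_card χ) p
    have hf : (fun x : G => if p ∣ orderOf x then (0 : ℂ) else
        ((p ^ (Nat.card G).factorization p : ℕ) : ℂ) * (χ : G → ℂ) x) =
        (((p ^ (Cfsg.charDegree (χ : G → ℂ)).factorization p : ℕ) : ℂ) *
          ((p ^ ((Nat.card G).factorization p - (Cfsg.charDegree (χ : G → ℂ)).factorization p) : ℕ) : ℂ))
            • CfsgLib.Block.regPart p (χ : G → ℂ) := by
      ext x
      rw [Pi.smul_apply, smul_eq_mul, ← Nat.cast_mul, ← pow_add, Nat.add_sub_cancel' hba]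
      by_cases h : p ∣ orderOf x
      · rw [if_pos h, CfsgLib.Block.regPart_of_dvd h, mul_zero]
      · rw [if_neg h, CfsgLib.Block.regPart_of_not_dvd h]
    rw [hf, CfsgLib.Char.classInner_smul_left, mul_assoc, hz, Int.cast_mul, Int.cast_natCast]

end Cfsg.Agent.S0961
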