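import Cfsg.Statements.S0966
import Cfsg.Agent.Blocks.Cover
import Cfsg.Agent.Blocks.Principal
import Cfsg.Agent.Char.Constituents
import Cfsg.Agent.Char.Induction

set_option autoImplicit false
open Cfsg

namespace Cfsg.Agent.S0966

/-- Let N be a normal subgroup of p-power index in the finite group G and b a block of N relative to a maximal ideal M of the algebraic integers containing p. Then there is exactly one block B of G containing a character whose restriction to N has a constituent in b. -/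
theorem result {G : Type*} [Group G] [Fintype G] (p : ℕ) [Fact p.Prime] (M : Ideal Cfsg.AlgInt) (hM : Cfsg.IsPModular p M) (N : Subgroup G) [N.Normal] [Fintype N] (hidx : ∃ k : ℕ, N.index = p ^ k) (b : Set (Cfsg.IrrCharacter N)) (hb : Cfsg.IsPBlock M b) : ∃! B : Set (Cfsg.IrrCharacter G), Cfsg.IsPBlock M B ∧ ∃ χ ∈ B, ∃ θ ∈ b, Cfsg.classInner (fun n : N => (χ : G → ℂ) n) (θ : N → ℂ) ≠ 0 := by
  classical
  haveI := hM.2.1.isPrime
  have hreg : ∀ g : G, ¬ p ∣ orderOf g → g ∈ N := by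
    intro g hg
    obtain ⟨k, hk⟩ := hidx
    rw [← QuotientGroup.eq_one_iff (N := N), ← orderOf_eq_one_iff]
    have h1 : orderOf (g : G ⧸ N) ∣ p ^ k := by
      rw [← hk, Subgroup.index]; exact orderOf_dvd_natCard _
    have h2 : orderOf (g : G ⧸ N) ∣ orderOf g := orderOf_map_dvd (QuotientGroup.mk' N) g
    exact Nat.eq_one_of_dvd_coprimes ((hM.1.coprime_iff_not_dvd.2 hg).pow_left k) h1 h2
  obtain ⟨θ, hθ⟩ := CfsgLib.Block.exists_mem_block hb
  have hne : Cfsg.indFun N (θ : N → ℂ) ≠ 0 := fun h => by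
    have := congrFun h 1
    rw [CfsgLib.Char.indFun_one, Pi.zero_apply] at this
    exact mul_ne_zero (Nat.cast_ne_zero.2 Subgroup.index_ne_zero_of_finite)
      (CfsgLib.Block.Chr.irr_one_ne_zero θ) this
  obtain ⟨χ, hχ, hc⟩ := CfsgLib.Char.IsCharacter.exists_constituent
    (CfsgLib.Char.IsCharacter.indFun (CfsgLib.Block.Chr.isCharacter_irr θ)) hne
  have hcon : Cfsg.classInner (fun n : N => χ n) (θ : N → ℂ) ≠ 0 := by
    rw [CfsgLib.Char.classInner_indFun _ (CfsgLib.Block.Chr.isClassFunction_irr ⟨χ, hχ⟩)] at hc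
    rw [← CfsgLib.Char.classInner_conj]
    simpa using hc
  refine ⟨Cfsg.blockOf M χ, ⟨CfsgLib.Block.isPBlock_blockOf ⟨χ, hχ⟩, ⟨χ, hχ⟩,
    CfsgLib.Block.mem_blockOf_self ⟨χ, hχ⟩, θ, hθ, hcon⟩, fun B ⟨hB, χ', hχ', θ', hθ', hc'⟩ => ?_⟩
  refine CfsgLib.Block.eq_blockOf_of_mem hB ((CfsgLib.Block.sameBlock_iff_mem hB hχ').2 ?_) (χ := ⟨χ, hχ⟩)
  refine CfsgLib.Block.sameBlock_of_regular hM χ' ⟨χ, hχ⟩ fun g hg => ?_
  have h1 := CfsgLib.Block.covering_cong hB hb hχ' hθ' hc' hχ' hθ ⟨g, hreg g hg⟩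
  have h2 := CfsgLib.Block.covering_cong (CfsgLib.Block.isPBlock_blockOf ⟨χ, hχ⟩) hb
    (CfsgLib.Block.mem_blockOf_self ⟨χ, hχ⟩) hθ hcon (CfsgLib.Block.mem_blockOf_self ⟨χ, hχ⟩) hθ
    ⟨g, hreg g hg⟩
  exact CfsgLib.Block.memLocalIdeal_sub_trans h1 (CfsgLib.Block.memLocalIdeal_sub_comm h2)

end Cfsg.Agent.S0966
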