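import Cfsg.Statements.S0967
import Cfsg.Agent.Blocks.Principal

set_option autoImplicit false
open Cfsg

namespace Cfsg.Agent.S0967

/-- Let N be a normal subgroup of the finite group G of order prime to p and fix a maximal ideal M of the algebraic integers containing p. If χ is an irreducible character of G ⧸ N and ψ lies in the block of its inflation χ ∘ (quotient map), then ψ is itself inflated from an irreducible character ψ' of G ⧸ N lying in the block of χ. (Over a normal p'-subgroup, blocks of the quotient are whole blocks of G.) -/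
theorem result {G : Type*} [Group G] [Finite G] (p : ℕ) [Fact p.Prime] (M : Ideal Cfsg.AlgInt) (hM : Cfsg.IsPModular p M) (N : Subgroup G) [N.Normal] (hN : ¬ p ∣ Nat.card N) (χ : Cfsg.IrrCharacter (G ⧸ N)) (ψ : Cfsg.IrrCharacter G) (hψ : ψ ∈ Cfsg.blockOf M ((χ : G ⧸ N → ℂ) ∘ QuotientGroup.mk)) : ∃ ψ' : Cfsg.IrrCharacter (G ⧸ N), (ψ : G → ℂ) = (ψ' : G ⧸ N → ℂ) ∘ QuotientGroup.mk ∧ Cfsg.SameBlock M (χ : G ⧸ N → ℂ) (ψ' : G ⧸ N → ℂ) := by
  classical
  haveI := Fintype.ofFinite G
  haveI := Fintype.ofFinite (G ⧸ N)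
  haveI := hM.2.1.isPrime
  let π := QuotientGroup.mk' N
  have hπs : Function.Surjective π := QuotientGroup.mk'_surjective N
  have hinf : Cfsg.IsIrrCharacter G ((χ : G ⧸ N → ℂ) ∘ QuotientGroup.mk) :=
    CfsgLib.Char.IsIrrCharacter.comp_surjective χ.2 π hπs
  let Χ : Cfsg.IrrCharacter G := ⟨_, hinf⟩
  have hmk : ∀ n ∈ N, (QuotientGroup.mk n : G ⧸ N) = 1 := fun n hn =>
    (QuotientGroup.eq_one_iff n).2 hn
  have hψker : ∀ n ∈ N, (ψ : G → ℂ) n = (ψ : G → ℂ) 1 :=
    CfsgLib.Block.blockOf_subset_normal hM N hN (χ := Χ)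
      (fun n hn => by simp [Χ, hmk n hn]) hψ
  obtain ⟨d, ρ, hirr, hρ⟩ := ψ.2
  haveI := hirr
  have hNker : N ≤ ρ.ker := fun n hn => by
    rw [MonoidHom.mem_ker]
    exact CfsgLib.Char.apply_eq_one_of_character_eq ρ (by
      rw [hρ, hψker n hn, ← hρ, Representation.char_one])
  let σ : Representation ℂ (G ⧸ N) (Fin d → ℂ) := QuotientGroup.lift N ρ hNker
  have hσ : σ.IsIrreducible := by
    have h : Representation.IsIrreducible (σ.comp π : Representation ℂ G (Fin d → ℂ)) := by
      have : (σ.comp π : Representation ℂ G (Fin d → ℂ)) = ρ := MonoidHom.ext fun g => rfl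
      rw [this]; exact hirr
    exact CfsgLib.Block.isIrreducible_of_comp π hπs σ h
  have hval : ∀ g : G, σ.character (QuotientGroup.mk g) = ρ.character g := fun g => rfl
  let ψ' : Cfsg.IrrCharacter (G ⧸ N) := ⟨σ.character, d, σ, hσ, rfl⟩
  refine ⟨ψ', funext fun g => ?_, ?_⟩
  · show (ψ : G → ℂ) g = σ.character (QuotientGroup.mk g)
    rw [hval, hρ]
  intro q
  obtain ⟨g, rfl⟩ := hπs q
  let a : G → ℂ := fun x => CfsgLib.Block.classInd (π g) (π x)
  have ha : CfsgLib.Block.IsIntClass M a :=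
    ⟨fun x y => by
      simp only [a, map_mul, map_inv]
      exact CfsgLib.Block.isClassFunction_classInd (π g) (π x) (π y),
     fun x => (CfsgLib.Block.isIntClass_classInd (π g)).2 _⟩
  have hom : ∀ (φ : Cfsg.IrrCharacter (G ⧸ N)) (Φ : Cfsg.IrrCharacter G),
      (∀ x, (Φ : G → ℂ) x = (φ : G ⧸ N → ℂ) (π x)) →
      CfsgLib.Block.omega (Φ : G → ℂ) a =
        (Nat.card N : ℂ) * Cfsg.centralChar (φ : G ⧸ N → ℂ) (π g) := by
    intro φ Φ hΦ
    rw [← CfsgLib.Block.omega_classInd φ (π g), CfsgLib.Block.omega, CfsgLib.Block.omega, hΦ 1,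
      map_one, ← mul_div_assoc]
    congr 1
    rw [Finset.mul_sum,
      ← Finset.sum_fiberwise_of_maps_to (t := Finset.univ) (g := π) (fun x _ => Finset.mem_univ _)]
    refine Finset.sum_congr rfl fun q _ => ?_
    rw [Finset.sum_congr rfl (g := fun _ => CfsgLib.Block.classInd (π g) q * (φ : G ⧸ N → ℂ) q)
      (fun x hx => by simp only [a, hΦ, (Finset.mem_filter.1 hx).2]),
      Finset.sum_const, nsmul_eq_mul]
    congr 1
    rw [Nat.cast_inj, Nat.card_eq_fintype_card, ← Finset.card_univ]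
    obtain ⟨x, rfl⟩ := hπs q
    refine (Finset.card_nbij' (fun n : N => x * (n : G))
      (fun y => if hy : x⁻¹ * y ∈ N then (⟨x⁻¹ * y, hy⟩ : N) else 1) ?_ ?_ ?_ ?_).symm
    · intro n _
      refine Finset.mem_filter.2 ⟨Finset.mem_univ _, ?_⟩
      rw [map_mul, show π (n : G) = 1 from (QuotientGroup.eq_one_iff (N := N) (n : G)).2 n.2,
        mul_one]
    · intro y _; simp
    · intro n _; simp
    · intro y hy
      have hy' : x⁻¹ * y ∈ N := by
        have h : π y = π x := (Finset.mem_filter.1 hy).2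
        rw [← QuotientGroup.eq_one_iff]
        show π (x⁻¹ * y) = 1
        rw [map_mul, map_inv, h, inv_mul_cancel]
      simp [dif_pos hy']
  have h := CfsgLib.Block.omega_cong (χ := Χ) (ψ := ψ) hψ ha
  rw [hom χ Χ (fun x => rfl), hom ψ' ψ (fun x => by rw [← hρ]; exact (hval x).symm), ← mul_sub] at h
  have h2 := CfsgLib.Block.memLocalIdeal_mul_left
    (CfsgLib.Block.memLocalRing_natCast_inv hM hN) h
  rwa [← mul_assoc, inv_mul_cancel₀ (Nat.cast_ne_zero.2 Nat.card_pos.ne'), one_mul] at h2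

end Cfsg.Agent.S0967
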