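import Cfsg.Statements.S0969
import Cfsg.Agent.Blocks.BlockSize

set_option autoImplicit false
open Cfsg

namespace Cfsg.Agent.S0969

/-- Let D be a central p-subgroup of the finite group G and χ an irreducible character with the exponent of p in χ(1) equal to the exponent of p in the index of D; fix a maximal ideal M of the algebraic integers containing p. Then D is a defect group of the block of χ, and χ g = 0 whenever the p-part of g does not lie in D. -/
theorem result {G : Type*} [Group G] [Finite G] (p : ℕ) [Fact p.Prime] (M : Ideal Cfsg.AlgInt) (hM : Cfsg.IsPModular p M) (D : Subgroup G) (hD : IsPGroup p D) (hDZ : D ≤ Subgroup.center G) (χ : Cfsg.IrrCharacter G) (hdeg : (Cfsg.charDegree (χ : G → ℂ)).factorization p = D.index.factorization p) : Cfsg.IsDefectGroup p M (Cfsg.blockOf M (χ : G → ℂ)) D ∧ ∀ g x : G, Cfsg.IsPPart p g x → x ∉ D → (χ : G → ℂ) g = 0 := by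
  classical
  haveI := Fintype.ofFinite G
  haveI := hM.2.1.isPrime
  have hp : p.Prime := Fact.out
  set a := (Nat.card G).factorization p
  obtain ⟨δ, hδ⟩ := IsPGroup.iff_card.1 hD
  have hidx : D.index.factorization p + δ = a := by
    have : a = (D.index * Nat.card D).factorization p := by rw [Subgroup.index_mul_card]
    rw [this, Nat.factorization_mul Subgroup.index_ne_zero_of_finite Nat.card_pos.ne',
      Finsupp.add_apply, hδ, hp.factorization_pow, Finsupp.single_eq_same]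
  set ε : G → ℂ := fun d => Cfsg.centralChar (χ : G → ℂ) d
  have hmul : ∀ d ∈ D, ∀ y : G, ‖(χ : G → ℂ) (d * y)‖ = ‖(χ : G → ℂ) y‖ := by
    intro d hd y
    have h1 := CfsgLib.Block.irr_central_mul χ (hDZ hd) d⁻¹
    have h2 := CfsgLib.Block.irr_central_mul χ (hDZ hd) 1
    rw [mul_one] at h2
    rw [mul_inv_cancel, ← CfsgLib.Block.Chr.conj_irr, h2, map_mul,
      (CfsgLib.Block.Chr.irr_one χ).1, map_natCast, ← mul_assoc, Complex.mul_conj',
      eq_comm, mul_eq_right₀ (Nat.cast_ne_zero.2 (CfsgLib.Block.Chr.irr_one χ).2.ne')] at h1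
    have hn : ‖Cfsg.centralChar (χ : G → ℂ) d‖ = 1 :=
      (pow_eq_one_iff_of_nonneg (norm_nonneg _) two_ne_zero).1 (by exact_mod_cast h1)
    rw [CfsgLib.Block.irr_central_mul χ (hDZ hd) y, norm_mul, hn, one_mul]
  set Reg := Finset.univ.filter (fun g : G => ¬ p ∣ orderOf g)
  set T := ((Finset.univ.filter (· ∈ D)) ×ˢ Reg).image fun q => q.1 * q.2
  have hord : ∀ d ∈ D, ∃ k : ℕ, orderOf d = p ^ k := by
    intro d hd
    obtain ⟨k, hk⟩ := hD ⟨d, hd⟩
    obtain ⟨j, -, hj⟩ := (Nat.dvd_prime_pow hp).1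
      (orderOf_dvd_of_pow_eq_one (congrArg Subtype.val hk : d ^ p ^ k = 1))
    exact ⟨j, hj⟩
  have hpart : ∀ q ∈ (Finset.univ.filter (· ∈ D)) ×ˢ Reg, Cfsg.IsPPart p (q.1 * q.2) q.1 := by
    intro q hq
    obtain ⟨h1, h2⟩ := Finset.mem_product.1 hq
    exact ⟨q.2, rfl, Subgroup.mem_center_iff.1 (hDZ (Finset.mem_filter.1 h1).2) q.2 |>.symm,
      hord _ (Finset.mem_filter.1 h1).2, (Finset.mem_filter.1 h2).2⟩
  have huniq : ∀ {g x x' : G}, Cfsg.IsPPart p g x → Cfsg.IsPPart p g x' → x = x' := by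
    intro g x x' h h'
    obtain ⟨y', hg', hc', ⟨k', hk'⟩, hy'⟩ := h'
    exact CfsgLib.Block.pPart_unique hp h hg' hc' (n := k') (hk' ▸ pow_orderOf_eq_one x') hy'
      (pow_orderOf_eq_one y')
  have hTsum : ∑ g ∈ T, ‖(χ : G → ℂ) g‖ ^ 2 = (p : ℝ) ^ δ * ∑ g ∈ Reg, ‖(χ : G → ℂ) g‖ ^ 2 := by
    rw [Finset.sum_image, Finset.sum_product]
    · rw [Finset.sum_congr rfl fun d hd => Finset.sum_congr rfl fun y _ => by
        rw [hmul d (Finset.mem_filter.1 hd).2 y], Finset.sum_const, nsmul_eq_mul]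
      congr 1
      rw [← Fintype.card_subtype, ← Nat.card_eq_fintype_card, show Nat.card {x // x ∈ D} = p ^ δ from hδ,
        Nat.cast_pow]
    · intro q hq q' hq' he
      have h1 : q.1 = q'.1 := huniq (hpart q hq) (by
        rw [show q.1 * q.2 = q'.1 * q'.2 from he]; exact hpart q' hq')
      refine Prod.ext h1 (mul_left_cancel (a := q.1) ?_)
      rw [show q.1 * q.2 = q'.1 * q'.2 from he, h1]
  have htot : ∑ g : G, ‖(χ : G → ℂ) g‖ ^ 2 = (Nat.card G : ℝ) := by
    have := CfsgLib.Char.IsIrrCharacter.classInner_self χ.2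
    rw [CfsgLib.Char.classInner_self, Complex.ofReal_eq_one,
      inv_mul_eq_one₀ (by exact_mod_cast Nat.card_pos.ne')] at this
    exact this.symm
  obtain ⟨z, hz⟩ := CfsgLib.Block.exists_int_regPart hp χ χ
  rw [hdeg, show a - D.index.factorization p = δ by omega] at hz
  have hreg : Cfsg.classInner (CfsgLib.Block.regPart p (χ : G → ℂ)) (χ : G → ℂ) =
      (((Nat.card G : ℝ)⁻¹ * ∑ g ∈ Reg, ‖(χ : G → ℂ) g‖ ^ 2 : ℝ) : ℂ) := by
    rw [CfsgLib.Block.classInner_regPart]
    push_cast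
    congr 1
    exact Finset.sum_congr rfl fun g _ => Complex.mul_conj' _
  have hzR : (Nat.card G : ℝ) * z = ∑ g ∈ T, ‖(χ : G → ℂ) g‖ ^ 2 := by
    rw [hreg] at hz
    have : ((p ^ δ : ℕ) : ℝ) * ((Nat.card G : ℝ)⁻¹ * ∑ g ∈ Reg, ‖(χ : G → ℂ) g‖ ^ 2) = (z : ℝ) := by
      exact_mod_cast hz
    rw [hTsum, ← this]
    have hG : (Nat.card G : ℝ) ≠ 0 := by exact_mod_cast Nat.card_pos.ne'
    push_cast
    field_simp
  have hpos : 0 < ∑ g ∈ T, ‖(χ : G → ℂ) g‖ ^ 2 := by
    refine Finset.sum_pos' (fun g _ => by positivity) ⟨1, Finset.mem_image.2 ⟨(1, 1),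
      Finset.mem_product.2 ⟨by simp [one_mem], by simp [Reg, hp.ne_one]⟩, one_mul 1⟩, ?_⟩
    exact pow_pos (norm_pos_iff.2 (CfsgLib.Block.Chr.irr_one_ne_zero χ)) 2
  have hGpos : (0 : ℝ) < Nat.card G := by exact_mod_cast Nat.card_pos
  have hle : ∑ g ∈ T, ‖(χ : G → ℂ) g‖ ^ 2 ≤ ∑ g : G, ‖(χ : G → ℂ) g‖ ^ 2 :=
    Finset.sum_le_univ_sum_of_nonneg fun g => by positivity
  have hz1 : z = 1 := by
    have h1 : (0 : ℝ) < (z : ℝ) := pos_of_mul_pos_right (hzR ▸ hpos) hGpos.le
    have h2 : (z : ℝ) ≤ 1 := by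
      refine le_of_mul_le_mul_left ?_ hGpos
      rw [mul_one, hzR]; exact hle.trans_eq htot
    have h1' : (0 : ℤ) < z := by exact_mod_cast h1
    have h2' : z ≤ 1 := by exact_mod_cast h2
    omega
  have hvan : ∀ g : G, g ∉ T → (χ : G → ℂ) g = 0 := by
    intro g hg
    by_contra hne
    have h := Finset.sum_lt_sum_of_subset (f := fun g => ‖(χ : G → ℂ) g‖ ^ 2) (Finset.subset_univ T)
      (Finset.mem_univ g) hg (pow_pos (norm_pos_iff.2 hne) 2) fun _ _ _ => by positivity
    rw [htot, ← hzR, hz1, Int.cast_one, mul_one] at h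
    exact lt_irrefl _ h
  refine ⟨?_, fun g x hgx hxD => hvan g fun hg => ?_⟩
  swap
  · obtain ⟨q, hq, rfl⟩ := Finset.mem_image.1 hg
    exact hxD (huniq hgx (hpart q hq) ▸ (Finset.mem_filter.1 (Finset.mem_product.1 hq).1).2)
  set B := Cfsg.blockOf M (χ : G → ℂ)
  have hB : Cfsg.IsPBlock M B := CfsgLib.Block.isPBlock_blockOf χ
  set n := Cfsg.charDegree (χ : G → ℂ) with hn_def
  have hn0 : n ≠ 0 := (CfsgLib.Block.Chr.irr_one χ).2.ne'
  set r : ℂ := ((p ^ δ : ℕ) : ℂ) * (n : ℂ) / (Nat.card G : ℂ) with hr_def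
  have hr : CfsgLib.Block.IsIntClass M (r • CfsgLib.Block.regPart p
      fun g => starRingEnd ℂ ((χ : G → ℂ) g)) := by
    have hI := CfsgLib.Block.isIntClass_regConj (M := M) (p := p) χ
    have hrl : Cfsg.MemLocalRing M r := by
      have e : r = ((p ^ a : ℕ) : ℂ) / (Nat.card G : ℂ) * ((n / p ^ n.factorization p : ℕ) : ℂ) := by
        rw [hr_def, div_mul_eq_mul_div, ← Nat.cast_mul, ← Nat.cast_mul]
        congr 2
        calc p ^ δ * n = p ^ δ * (p ^ n.factorization p * (n / p ^ n.factorization p)) := by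
              rw [Nat.ordProj_mul_ordCompl_eq_self]
          _ = p ^ a * (n / p ^ n.factorization p) := by
              rw [← mul_assoc, ← pow_add, hn_def, hdeg, add_comm δ, hidx]
      rw [e]
      exact CfsgLib.Block.memLocalRing_mul
        (CfsgLib.Block.pow_factorization_unit hM Nat.card_pos.ne')
        (CfsgLib.Block.natCast_mem_localRing _)
    exact ⟨fun g x => by simp only [Pi.smul_apply, hI.1 g x],
      fun g => CfsgLib.Block.memLocalRing_mul hrl (hI.2 g)⟩
  have hω : CfsgLib.Block.omega (χ : G → ℂ) (r • CfsgLib.Block.regPart p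
      fun g => starRingEnd ℂ ((χ : G → ℂ) g)) = 1 := by
    rw [CfsgLib.Block.omega_smul]
    have : CfsgLib.Block.omega (χ : G → ℂ) (CfsgLib.Block.regPart p
        fun g => starRingEnd ℂ ((χ : G → ℂ) g)) =
        (Nat.card G : ℂ) * Cfsg.classInner (CfsgLib.Block.regPart p (χ : G → ℂ)) (χ : G → ℂ) /
          (n : ℂ) := by
      rw [← CfsgLib.Char.sum_eq_card_mul_classInner, CfsgLib.Block.omega,
        (CfsgLib.Block.Chr.irr_one χ).1]
      congr 1
      refine Finset.sum_congr rfl fun g _ => ?_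
      by_cases hg : p ∣ orderOf g <;> simp [CfsgLib.Block.regPart, hg, mul_comm]
    rw [this, hr_def]
    have hz' := hz
    rw [hz1, Int.cast_one] at hz'
    have hn1 : (n : ℂ) ≠ 0 := Nat.cast_ne_zero.2 hn0
    have hG : (Nat.card G : ℂ) ≠ 0 := Nat.cast_ne_zero.2 Nat.card_pos.ne'
    field_simp
    linear_combination hz'
  obtain ⟨w, hw1, hw2⟩ := CfsgLib.Block.exists_of_omega hr (χ := χ)
    (by rw [hω]; exact CfsgLib.Block.not_memLocalIdeal_one)
  have hwu : ¬ Cfsg.MemLocalIdeal M ((χ : G → ℂ) w⁻¹) := by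
    intro h
    refine hw1 ?_
    rw [Pi.smul_apply, smul_eq_mul]
    by_cases hwp : p ∣ orderOf w
    · rw [CfsgLib.Block.regPart_of_dvd hwp, mul_zero]; exact CfsgLib.Block.memLocalIdeal_zero
    rw [CfsgLib.Block.regPart_of_not_dvd hwp, CfsgLib.Block.Chr.conj_irr]
    refine CfsgLib.Block.memLocalIdeal_mul_left ?_ h
    rw [hr_def]
    rw [show ((p ^ δ : ℕ) : ℂ) * (n : ℂ) / (Nat.card G : ℂ) =
      ((p ^ a : ℕ) : ℂ) / (Nat.card G : ℂ) * ((n / p ^ n.factorization p : ℕ) : ℂ) by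
        rw [div_mul_eq_mul_div, ← Nat.cast_mul, ← Nat.cast_mul]
        congr 2
        calc p ^ δ * n = p ^ δ * (p ^ n.factorization p * (n / p ^ n.factorization p)) := by
              rw [Nat.ordProj_mul_ordCompl_eq_self]
          _ = p ^ a * (n / p ^ n.factorization p) := by
              rw [← mul_assoc, ← pow_add, hn_def, hdeg, add_comm δ, hidx]]
    exact CfsgLib.Block.memLocalRing_mul
      (CfsgLib.Block.pow_factorization_unit hM Nat.card_pos.ne')
      (CfsgLib.Block.natCast_mem_localRing _)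
  have hcd : CfsgLib.Block.classDefect p w ≤ δ := by
    by_contra hlt
    push Not at hlt
    set C := Subgroup.centralizer ({w} : Set G)
    have hcinv : Subgroup.centralizer ({w⁻¹} : Set G) = C := by
      ext c
      simp only [C, Subgroup.mem_centralizer_singleton_iff]
      exact ⟨fun h => by simpa using (Commute.inv_right (show Commute c w⁻¹ from h)).eq,
        fun h => (Commute.inv_right (show Commute c w from h)).eq⟩
    have hCi : C.index.factorization p < n.factorization p := by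
      have h1 : a = C.index.factorization p + (Nat.card C).factorization p := by
        rw [show a = (C.index * Nat.card C).factorization p by rw [Subgroup.index_mul_card],
          Nat.factorization_mul Subgroup.index_ne_zero_of_finite Nat.card_pos.ne', Finsupp.add_apply]
      have h2 : δ < (Nat.card C).factorization p := hlt
      rw [hn_def, hdeg]
      omega
    refine hwu ?_
    set v := C.index.factorization p
    set m := C.index / p ^ v
    have hm : ¬ p ∣ m := Nat.not_dvd_ordCompl hp Subgroup.index_ne_zero_of_finite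
    have hCm : (C.index : ℂ) = (p : ℂ) ^ v * (m : ℂ) := by
      rw [← Nat.cast_pow, ← Nat.cast_mul, Nat.ordProj_mul_ordCompl_eq_self]
    obtain ⟨c, hc⟩ : p ^ (v + 1) ∣ n := (hp.pow_dvd_iff_le_factorization hn0).2 hCi
    have hp0 : (p : ℂ) ≠ 0 := Nat.cast_ne_zero.2 hp.ne_zero
    have hm0 : (m : ℂ) ≠ 0 := Nat.cast_ne_zero.2 fun h => hm (h ▸ dvd_zero p)
    have hnC : (n : ℂ) = (p : ℂ) ^ v * (p : ℂ) * (c : ℂ) := by rw [hc]; push_cast; ring
    have hc0 : (c : ℂ) ≠ 0 := fun h => hn0 (Nat.cast_injective (R := ℂ) (by rw [hnC, h]; simp))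
    have e : (χ : G → ℂ) w⁻¹ =
        (p : ℂ) * ((c : ℂ) * (m : ℂ)⁻¹ * Cfsg.centralChar (χ : G → ℂ) w⁻¹) := by
      rw [Cfsg.centralChar, hcinv, hCm, (CfsgLib.Block.Chr.irr_one χ).1, ← hn_def, hnC]
      field_simp
    rw [e]
    exact CfsgLib.Block.memLocalIdeal_mul_right (CfsgLib.Block.memLocalIdeal_p hM)
      (CfsgLib.Block.memLocalRing_mul (CfsgLib.Block.memLocalRing_mul
        (CfsgLib.Block.natCast_mem_localRing c) (CfsgLib.Block.memLocalRing_natCast_inv hM hm))
        (CfsgLib.Block.centralChar_mem χ _))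
  have hdB := (CfsgLib.Block.le_classDefect_of_centralChar hM hB
    ⟨χ, CfsgLib.Block.mem_blockOf_self χ, hw2⟩).trans hcd
  obtain ⟨E, hE⟩ := CfsgLib.Block.exists_defectGroup (M := M) hB hM
  haveI : D.Normal := ⟨fun d hd g => by
    rw [Subgroup.mem_center_iff.1 (hDZ hd) g, mul_inv_cancel_right]; exact hd⟩
  have hDE := CfsgLib.Block.normal_le_defectGroup hM hB hE D hD
  have : D = E := Subgroup.eq_of_le_of_card_ge hDE (by
    rw [hδ, CfsgLib.Block.card_defectGroup hM hB hE]
    exact Nat.pow_le_pow_right hp.pos hdB)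
  exact this ▸ hE

end Cfsg.Agent.S0969
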