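import Cfsg.Statements.S0971
import Cfsg.Agent.Blocks.Cover
import Cfsg.Agent.Blocks.Induced

set_option autoImplicit false
open Cfsg

namespace Cfsg.Agent.S0971

/-- Let Q be a normal p-subgroup of the finite group G, let N = Q ⊔ C_G(Q) (a normal subgroup) and let b be a block of N relative to a maximal ideal M of the algebraic integers containing p. Then b induces some block of G, and every block B of G containing a character whose restriction to N has a constituent in b is induced by b. -/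
theorem result {G : Type*} [Group G] [Fintype G] (p : ℕ) [Fact p.Prime] (M : Ideal Cfsg.AlgInt) (hM : Cfsg.IsPModular p M) (Q : Subgroup G) [Q.Normal] (hQ : IsPGroup p Q) [Fintype ↥(Q ⊔ Subgroup.centralizer (Q : Set G))] (b : Set (Cfsg.IrrCharacter ↥(Q ⊔ Subgroup.centralizer (Q : Set G)))) (hb : Cfsg.IsPBlock M b) : Cfsg.InducedBlockDefined M (Q ⊔ Subgroup.centralizer (Q : Set G)) b ∧ ∀ B : Set (Cfsg.IrrCharacter G), Cfsg.IsPBlock M B → (∃ χ ∈ B, ∃ θ ∈ b, Cfsg.classInner (fun n : ↥(Q ⊔ Subgroup.centralizer (Q : Set G)) => (χ : G → ℂ) n) (θ : ↥(Q ⊔ Subgroup.centralizer (Q : Set G)) → ℂ) ≠ 0) → Cfsg.IsInducedBlock M (Q ⊔ Subgroup.centralizer (Q : Set G)) b B := by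
  classical
  haveI := hM.2.1.isPrime
  have hQN : Q ≤ Q ⊔ Subgroup.centralizer (Q : Set G) := le_sup_left
  have hCN : Subgroup.centralizer (Q : Set G) ≤ Q ⊔ Subgroup.centralizer (Q : Set G) := le_sup_right
  haveI hn : (Q ⊔ Subgroup.centralizer (Q : Set G)).Normal := by
    haveI : (Subgroup.centralizer (Q : Set G)).Normal := Subgroup.normal_centralizer
    exact Subgroup.sup_normal _ _
  refine ⟨CfsgLib.Block.exists_induced hM hQ hQN hCN
    (by rw [Subgroup.normalizer_eq_top]; exact le_top) hb, ?_⟩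
  rintro B hB ⟨χ₀, hχ₀, θ₀, hθ₀, h⟩
  refine ⟨hb, hB, fun ξ hξ χ hχ g => ?_⟩
  by_cases hg : g ∈ Q ⊔ Subgroup.centralizer (Q : Set G)
  · exact CfsgLib.Block.memLocalIdeal_sub_comm
      (CfsgLib.Block.covering_cong hB hb hχ₀ hθ₀ h hχ hξ ⟨g, hg⟩)
  · rw [CfsgLib.Block.inducedCentralChar_eq, CfsgLib.Block.omega, Finset.sum_eq_zero, zero_div,
      zero_sub]
    · exact CfsgLib.Block.memLocalIdeal_neg
        (CfsgLib.Block.centralChar_mem_ideal_of_normal hM Q hQ χ fun hc => hg (hCN hc))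
    · intro w _
      rw [CfsgLib.Block.resFun, CfsgLib.Block.classInd_of_not_isConj, zero_mul]
      intro hc
      obtain ⟨c, hc⟩ := isConj_iff.1 hc.symm
      exact hg (hc ▸ hn.conj_mem _ w.2 c)

end Cfsg.Agent.S0971
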