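import Cfsg.Statements.S0973
import Cfsg.Agent.Blocks.FirstMain
import Cfsg.Agent.Blocks.Cover
import Cfsg.Agent.Blocks.Transport

set_option autoImplicit false
open Cfsg

namespace Cfsg.Agent.S0973

/-- Let B be a block of the finite group G with defect group P (relative to a maximal ideal M of the algebraic integers containing p), and let L = P ⊔ C_G(P). Then (i) some block b of L with defect group P (viewed in L) induces B, and (ii) if b and b' are blocks of L both inducing B, there is n ∈ N_G(P) carrying b to b': for every θ ∈ b there is θ' ∈ b' with θ' x = θ (n x n⁻¹) for all x ∈ L. -/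
theorem result {G : Type*} [Group G] [Finite G] (p : ℕ) [Fact p.Prime] (M : Ideal Cfsg.AlgInt) (hM : Cfsg.IsPModular p M) (B : Set (Cfsg.IrrCharacter G)) (hB : Cfsg.IsPBlock M B) (P : Subgroup G) (hP : Cfsg.IsDefectGroup p M B P) : (∃ b : Set (Cfsg.IrrCharacter ↥(P ⊔ Subgroup.centralizer (P : Set G))), Cfsg.IsDefectGroup p M b (P.subgroupOf (P ⊔ Subgroup.centralizer (P : Set G))) ∧ Cfsg.IsInducedBlock M (P ⊔ Subgroup.centralizer (P : Set G)) b B) ∧ ∀ b b' : Set (Cfsg.IrrCharacter ↥(P ⊔ Subgroup.centralizer (P : Set G))), Cfsg.IsInducedBlock M (P ⊔ Subgroup.centralizer (P : Set G)) b B → Cfsg.IsInducedBlock M (P ⊔ Subgroup.centralizer (P : Set G)) b' B → ∃ n ∈ Subgroup.normalizer (P : Set G), ∀ θ ∈ b, ∃ θ' ∈ b', ∀ x : ↥(P ⊔ Subgroup.centralizer (P : Set G)), ∀ hx : n * (x : G) * n⁻¹ ∈ P ⊔ Subgroup.centralizer (P : Set G), (θ' : ↥(P ⊔ Subgroup.centralizer (P : Set G)) → ℂ) x = (θ : ↥(P ⊔ Subgroup.centralizer (P : Set G)) → ℂ) ⟨n * (x : G) * n⁻¹, hx⟩ := by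
  classical
  haveI := Fintype.ofFinite G
  haveI := hM.2.1.isPrime
  have hPp := CfsgLib.Block.isPGroup_defectGroup hP
  haveI := Fintype.ofFinite ↥(P ⊔ Subgroup.centralizer (P : Set G))
  haveI := Fintype.ofFinite (Subgroup.normalizer (P : Set G))
  have hPL : P ≤ P ⊔ Subgroup.centralizer (P : Set G) := le_sup_left
  have hCL : Subgroup.centralizer (P : Set G) ≤ P ⊔ Subgroup.centralizer (P : Set G) := le_sup_right
  have hLN : P ⊔ Subgroup.centralizer (P : Set G) ≤ Subgroup.normalizer (P : Set G) :=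
    sup_le Subgroup.le_normalizer (Subgroup.centralizer_le_normalizer _)
  refine ⟨?_, fun b b' hb hb' => ?_⟩
  · obtain ⟨b, hind⟩ := CfsgLib.Block.exists_inducing (H := P ⊔ Subgroup.centralizer (P : Set G))
      hM hPp hPL hCL hLN hB hP (x := 1) (by rintro _ ⟨u, hu, rfl⟩; simpa using hu)
    exact ⟨b, CfsgLib.Block.isDefectGroup_of_induced hM hPL hLN hP hind, hind⟩
  haveI := Fintype.ofFinite
    ↥((P ⊔ Subgroup.centralizer (P : Set G)).subgroupOf (Subgroup.normalizer (P : Set G)))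
  have hPN : P ≤ Subgroup.normalizer (P : Set G) := Subgroup.le_normalizer
  haveI hP'n : (P.subgroupOf (Subgroup.normalizer (P : Set G))).Normal :=
    (Subgroup.normal_subgroupOf_iff_le_normalizer hPN).2 le_rfl
  haveI hL'n : ((P ⊔ Subgroup.centralizer (P : Set G)).subgroupOf
      (Subgroup.normalizer (P : Set G))).Normal := by
    rw [Subgroup.subgroupOf_sup hPN (Subgroup.centralizer_le_normalizer _)]
    haveI : ((Subgroup.centralizer (P : Set G)).subgroupOf (Subgroup.normalizer (P : Set G))).Normal := by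
      rw [show (Subgroup.centralizer (P : Set G)).subgroupOf (Subgroup.normalizer (P : Set G)) =
        Subgroup.centralizer ((P.subgroupOf (Subgroup.normalizer (P : Set G)) :
          Subgroup (Subgroup.normalizer (P : Set G))) : Set (Subgroup.normalizer (P : Set G))) from
        Subgroup.ext fun w => (CfsgLib.Block.centralizer_subgroupOf_iff hPN w).symm]
      exact Subgroup.normal_centralizer
    exact Subgroup.sup_normal _ _
  let e := Subgroup.subgroupOfEquivOfLe hLN
  have hP'p := hPp.of_equiv (Subgroup.subgroupOfEquivOfLe hPN).symm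
  have hP'L : P.subgroupOf (Subgroup.normalizer (P : Set G)) ≤
      (P ⊔ Subgroup.centralizer (P : Set G)).subgroupOf (Subgroup.normalizer (P : Set G)) :=
    fun u hu => hPL hu
  have hC'L : Subgroup.centralizer ((P.subgroupOf (Subgroup.normalizer (P : Set G)) :
      Subgroup (Subgroup.normalizer (P : Set G))) : Set (Subgroup.normalizer (P : Set G))) ≤
      (P ⊔ Subgroup.centralizer (P : Set G)).subgroupOf (Subgroup.normalizer (P : Set G)) :=
    fun u hu => hCL ((CfsgLib.Block.centralizer_subgroupOf_iff hPN u).1 hu)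
  have step : ∀ {β : Set (Cfsg.IrrCharacter ↥(P ⊔ Subgroup.centralizer (P : Set G)))},
      Cfsg.IsInducedBlock M (P ⊔ Subgroup.centralizer (P : Set G)) β B →
      ∃ c : Set (Cfsg.IrrCharacter (Subgroup.normalizer (P : Set G))),
        Cfsg.IsInducedBlock M ((P ⊔ Subgroup.centralizer (P : Set G)).subgroupOf
          (Subgroup.normalizer (P : Set G))) (CfsgLib.Block.irrComp e '' β) c ∧
        Cfsg.IsInducedBlock M (Subgroup.normalizer (P : Set G)) c B := by
    intro β hβ
    obtain ⟨c, hc⟩ := CfsgLib.Block.exists_induced hM hP'p hP'L hC'L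
      (fun w _ => Subgroup.mem_normalizer_iff.2 fun u =>
        ⟨fun hu => hP'n.conj_mem u hu w, fun hu => by
          have := hP'n.conj_mem _ hu w⁻¹
          simpa [mul_assoc] using this⟩) (CfsgLib.Block.isPBlock_image e hβ.1)
    refine ⟨c, hc, hc.2.1, hβ.2.1, fun ψ hψ χ hχ g => ?_⟩
    obtain ⟨ξ, hξ⟩ := CfsgLib.Block.exists_mem_block hβ.1
    have h1 := CfsgLib.Block.induced_cong _ (hc.2.2 _ ⟨ξ, hξ, rfl⟩ ψ hψ)
      (CfsgLib.Block.isIntClass_resFun (M := M) (Subgroup.normalizer (P : Set G))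
        (CfsgLib.Block.isIntClass_classInd g))
    have h2 : CfsgLib.Block.omega (CfsgLib.Block.irrComp e ξ :
        ↥((P ⊔ Subgroup.centralizer (P : Set G)).subgroupOf (Subgroup.normalizer (P : Set G))) → ℂ)
        (CfsgLib.Block.resFun _ (CfsgLib.Block.resFun (Subgroup.normalizer (P : Set G))
          (CfsgLib.Block.classInd g))) =
        Cfsg.inducedCentralChar (P ⊔ Subgroup.centralizer (P : Set G))
          (ξ : ↥(P ⊔ Subgroup.centralizer (P : Set G)) → ℂ) g := by
      rw [CfsgLib.Block.inducedCentralChar_eq, ← CfsgLib.Block.omega_irrComp e]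
      rfl
    rw [h2] at h1
    rw [CfsgLib.Block.inducedCentralChar_eq]
    exact CfsgLib.Block.memLocalIdeal_sub_trans (CfsgLib.Block.memLocalIdeal_sub_comm h1)
      (hβ.2.2 ξ hξ χ hχ g)
  obtain ⟨c, hc, hcB⟩ := step hb
  obtain ⟨c', hc', hcB'⟩ := step hb'
  obtain ⟨c₀, -, huniq⟩ := CfsgLib.Block.first_main_existsUnique hM hB hP
  have hcc : c = c' := by
    rw [huniq c ⟨hcB.1, CfsgLib.Block.isDefectGroup_of_induced hM hPN le_rfl hP hcB, hcB⟩,
      huniq c' ⟨hcB'.1, CfsgLib.Block.isDefectGroup_of_induced hM hPN le_rfl hP hcB', hcB'⟩]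
  subst hcc
  obtain ⟨ξ, hξ⟩ := CfsgLib.Block.exists_mem_block hb.1
  obtain ⟨ξ', hξ'⟩ := CfsgLib.Block.exists_mem_block hb'.1
  obtain ⟨ψ, hψ⟩ := CfsgLib.Block.exists_mem_block hcB.1
  have hβ := CfsgLib.Block.isPBlock_image (M := M) e hb.1
  have hI := CfsgLib.Block.isIntClass_coverFun (M := M) (G := Subgroup.normalizer (P : Set G)) hβ
  have h1 := CfsgLib.Block.induced_cong _ (hc.2.2 _ ⟨ξ, hξ, rfl⟩ ψ hψ) hI
  have h2 := CfsgLib.Block.induced_cong _ (hc'.2.2 _ ⟨ξ', hξ', rfl⟩ ψ hψ) hI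
  rw [CfsgLib.Block.resFun_coverFun, CfsgLib.Block.omega_blockCoeff,
    if_pos (CfsgLib.Block.self_mem_orbitUnion (Set.mem_image_of_mem _ hξ))] at h1
  rw [CfsgLib.Block.resFun_coverFun, CfsgLib.Block.omega_blockCoeff] at h2
  by_cases hmem : CfsgLib.Block.irrComp e ξ' ∈
      CfsgLib.Block.orbitUnion (G := Subgroup.normalizer (P : Set G)) (CfsgLib.Block.irrComp e '' b)
  swap
  · rw [if_neg hmem, zero_sub] at h2
    have h3 := CfsgLib.Block.memLocalIdeal_sub h1 h2
    rw [show ∀ w : ℂ, 1 - w - -w = 1 from fun w => by ring] at h3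
    exact absurd h3 CfsgLib.Block.not_memLocalIdeal_one
  obtain ⟨n, -, ⟨θ₀, hθ₀, rfl⟩, he⟩ := hmem
  refine ⟨n, n.2, fun θ hθ => ?_⟩
  refine ⟨CfsgLib.Block.irrComp e.symm (CfsgLib.Block.conjIrr n (CfsgLib.Block.irrComp e θ)), ?_,
    fun x hx => ?_⟩
  · refine (CfsgLib.Block.sameBlock_iff_mem hb'.1 hξ').2 ?_
    rw [← CfsgLib.Block.sameBlock_irrComp e, CfsgLib.Block.irrComp_symm', he]
    exact CfsgLib.Block.sameBlock_conjIrr n ((CfsgLib.Block.sameBlock_irrComp e θ₀ θ).2
      (CfsgLib.Block.sameBlock_of_mem hb.1 hθ₀ hθ))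
  · rfl

end Cfsg.Agent.S0973
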