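import Cfsg.Statements.S0974
import Cfsg.Agent.SmallSimple.ColumnApply

set_option autoImplicit false
open Cfsg

namespace Cfsg.Agent.S0974

/-- No finite simple group has order 3648 = 2^6 * 3 * 19. -/
theorem result {G : Type*} [Group G] [Finite G] [IsSimpleGroup G] : Nat.card G ≠ 3648 := by
  
  intro h
  haveI : Fact (Nat.Prime 19) := ⟨by norm_num⟩
  exact CfsgLib.ColumnData.false_of_order (p := 19) (e := 2) (t := 9) (k := 96) (2 : ZMod 19) h
    (by norm_num) (by norm_num) (by decide +kernel +revert) (by norm_num) (by norm_num) (by norm_num) (by decide +kernel +revert)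
    (by decide +kernel +revert) (by decide +kernel +revert)
    (D := [2, 3, 4, 6, 8, 12, 16, 19, 24, 32, 38, 48, 57])
    (T := [(0, 0), (234, 108), (234, 3072), (252, 432), (306, 36), (324, 1728)])
    (by decide +kernel +revert) (by decide +kernel +revert)

end Cfsg.Agent.S0974
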