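import Cfsg.Agent.S0999
import Cfsg.Agent.InvChar.OneSixtyEight
import Cfsg.Agent.Classical.SmallPSL

set_option autoImplicit false
open Cfsg

namespace Cfsg.Agent.S0981

/-- A simple group of order 4080 is isomorphic to the projective special linear group of dimension 2 over the field with 16 elements. -/
theorem result {G : Type*} [Group G] [Finite G] [IsSimpleGroup G] (h : Nat.card G = 4080) {F : Type*} [Field F] [Fintype F] (hF : Fintype.card F = 16) : Nonempty (G ≃* Matrix.ProjectiveSpecialLinearGroup (Fin 2) F) := by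
  have hnc : ¬ IsCyclic G := fun hc => by
    letI : CommGroup G := IsCyclic.commGroup
    have h1 := IsSimpleGroup.prime_card (α := G)
    rw [h] at h1
    norm_num at h1
  have h17 : Nat.Prime 17 := by norm_num
  rcases Cfsg.Agent.S0999.result hnc 17 h17 ⟨240, by rw [h]⟩ (by rw [h]; norm_num) with
    ⟨K, iK, iK', hK, -, ⟨iso⟩⟩ | ⟨m, K, iK, iK', hK, hm, -, ⟨iso⟩⟩
  · have hc := CfsgLib.Linear.Small.card_psl_two (F := K) hK
    rw [← Nat.card_congr iso.toEquiv, h] at hc
    norm_num at hc
  · have hKF : Fintype.card K = Fintype.card F := by rw [hK, hF]; omega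
    obtain ⟨e⟩ := CfsgLib.InvChar.psl_congr
      (FiniteField.ringEquivOfCardEq hKF : K ≃+* F)
    exact ⟨iso.trans e⟩

end Cfsg.Agent.S0981
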