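import Cfsg.Statements.S0986
import Cfsg.Agent.SmallSimple.Basic

set_option autoImplicit false
open Cfsg

namespace Cfsg.Agent.S0986

/-- Let P and Q be distinct Sylow p-subgroups of a finite group G chosen so that the order of P ∩ Q is as large as possible among intersections of two distinct Sylow p-subgroups, and let N be the normalizer of P ∩ Q. Then N has more than one Sylow p-subgroup, any two distinct Sylow p-subgroups of N intersect exactly in P ∩ Q, and each Sylow p-subgroup of N lies in exactly one Sylow p-subgroup of G. -/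
theorem result {G : Type*} [Group G] [Finite G] (p : ℕ) [Fact p.Prime] (P Q : Sylow p G) (hPQ : P ≠ Q) (hmax : ∀ P' Q' : Sylow p G, P' ≠ Q' → Nat.card ↥((P' : Subgroup G) ⊓ (Q' : Subgroup G)) ≤ Nat.card ↥((P : Subgroup G) ⊓ (Q : Subgroup G))) : 1 < Nat.card (Sylow p ↥(Subgroup.normalizer (((P : Subgroup G) ⊓ (Q : Subgroup G) : Subgroup G) : Set G))) ∧ (∀ S T : Sylow p ↥(Subgroup.normalizer (((P : Subgroup G) ⊓ (Q : Subgroup G) : Subgroup G) : Set G)), S ≠ T → (S : Subgroup _) ⊓ (T : Subgroup _) = ((P : Subgroup G) ⊓ (Q : Subgroup G)).subgroupOf (Subgroup.normalizer (((P : Subgroup G) ⊓ (Q : Subgroup G) : Subgroup G) : Set G))) ∧ ∀ S : Sylow p ↥(Subgroup.normalizer (((P : Subgroup G) ⊓ (Q : Subgroup G) : Subgroup G) : Set G)), ∃! T : Sylow p G, (S : Subgroup _).map (Subgroup.normalizer (((P : Subgroup G) ⊓ (Q : Subgroup G) : Subgroup G) : Set G)).subtype ≤ (T : Subgroup G) := by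
  set D := (P : Subgroup G) ⊓ (Q : Subgroup G) with hD
  set N := Subgroup.normalizer (D : Set G) with hN
  have hDN : D ≤ N := Subgroup.le_normalizer
  haveI hnorm : (D.subgroupOf N).Normal := Subgroup.normal_in_normalizer
  have hgrow : ∀ R : Sylow p G, D < (R : Subgroup G) → D < N ⊓ (R : Subgroup G) := by
    intro R hR
    haveI := R.2.isNilpotent
    have hlt : D.subgroupOf (R : Subgroup G) < ⊤ := lt_top_iff_ne_top.mpr (by
      rw [Ne, Subgroup.subgroupOf_eq_top]; exact fun h => (not_le_of_gt hR) h)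
    obtain ⟨x, hxN, hxD⟩ := SetLike.exists_of_lt (Group.normalizerCondition_of_isNilpotent _ hlt)
    refine lt_of_le_of_ne (le_inf hDN hR.le) fun h => hxD ?_
    show (x : G) ∈ D
    rw [h]
    refine ⟨Subgroup.mem_normalizer_iff.mpr fun d => ?_, x.2⟩
    constructor <;> intro hd
    · exact (Subgroup.mem_normalizer_iff.mp hxN ⟨d, hR.le hd⟩).mp hd
    · have hdR : d ∈ (R : Subgroup G) := by
        have := mul_mem (mul_mem (inv_mem x.2) (hR.le hd)) x.2
        simpa [mul_assoc] using this
      exact (Subgroup.mem_normalizer_iff.mp hxN ⟨d, hdR⟩).mpr hd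
  have hcardeq : ∀ R R' : Sylow p G, Nat.card (R : Subgroup G) = Nat.card (R' : Subgroup G) := fun R R' => by
    rw [R.card_eq_multiplicity, R'.card_eq_multiplicity]
  have hDP : D < (P : Subgroup G) := lt_of_le_of_ne inf_le_left fun h => hPQ (Sylow.ext
    (Subgroup.eq_of_le_of_card_ge (show (P : Subgroup G) ≤ Q from h ▸ inf_le_right) (hcardeq Q P).le))
  have hDQ : D < (Q : Subgroup G) := lt_of_le_of_ne inf_le_right fun h => hPQ (Sylow.ext
    (Subgroup.eq_of_le_of_card_ge (show (Q : Subgroup G) ≤ P from h ▸ inf_le_left) (hcardeq P Q).le).symm)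
  have huniqT : ∀ (A : Subgroup G) (T T' : Sylow p G), D < A → A ≤ T → A ≤ T' → T = T' := by
    intro A T T' hA h1 h2
    by_contra hne
    have := hmax T T' hne
    have hlt : Nat.card D < Nat.card A := by
      by_contra h; exact hA.ne (Subgroup.eq_of_le_of_card_ge hA.le (not_lt.mp h))
    have := Subgroup.card_le_of_le (le_inf h1 h2)
    omega
  have hDS : ∀ S : Sylow p N, D.subgroupOf N ≤ (S : Subgroup N) := fun S => by
    have hp : IsPGroup p (D.subgroupOf N) :=
      (P.2.to_le inf_le_left).comap_of_injective N.subtype Subtype.coe_injective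
    exact le_sup_left.trans (S.3 (hp.to_sup_of_normal_left S.2) le_sup_right).le
  have hbig : ∀ S : Sylow p N, D < (S : Subgroup N).map N.subtype := by
    intro S
    obtain ⟨S', hS'⟩ := (P.2.comap_of_injective N.subtype Subtype.coe_injective).exists_le_sylow
    have hle : D ≤ (S : Subgroup N).map N.subtype := fun d hd => ⟨⟨d, hDN hd⟩, hDS S hd, rfl⟩
    refine lt_of_le_of_ne hle fun h => (hgrow P hDP).ne ?_
    refine Subgroup.eq_of_le_of_card_ge (le_inf hDN hDP.le) ?_
    have hc1 : Nat.card ((S : Subgroup N).map N.subtype) = Nat.card (S' : Subgroup N) := by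
      rw [← Nat.card_congr ((S : Subgroup N).equivMapOfInjective _ N.subtype_injective).toEquiv,
        S.card_eq_multiplicity, S'.card_eq_multiplicity]
    rw [h, hc1, Nat.card_congr ((S' : Subgroup N).equivMapOfInjective _ N.subtype_injective).toEquiv]
    exact Subgroup.card_le_of_le fun y hy => ⟨⟨y, hy.1⟩, hS' hy.2, rfl⟩
  have hex : ∀ S : Sylow p N, ∃! T : Sylow p G, (S : Subgroup N).map N.subtype ≤ T := by
    intro S
    obtain ⟨T, hT⟩ := (S.2.map N.subtype).exists_le_sylow
    exact ⟨T, hT, fun T' hT' => huniqT _ T' T (hbig S) hT' hT⟩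
  refine ⟨?_, ?_, hex⟩
  · rw [Finite.one_lt_card_iff_nontrivial]
    by_contra hnt
    rw [not_nontrivial_iff_subsingleton] at hnt
    obtain ⟨S⟩ : Nonempty (Sylow p N) := inferInstance
    obtain ⟨T, hT, -⟩ := hex S
    have hle : ∀ R : Sylow p G, D < (R : Subgroup G) → R = T := by
      intro R hR
      refine huniqT (N ⊓ (R : Subgroup G)) R T (hgrow R hR) inf_le_right ?_
      obtain ⟨S', hS'⟩ := (R.2.comap_of_injective N.subtype Subtype.coe_injective).exists_le_sylow
      exact fun y hy => hT ⟨⟨y, hy.1⟩, Subsingleton.elim S' S ▸ hS' (show (⟨y, hy.1⟩ : N) ∈ (R : Subgroup G).comap N.subtype from hy.2), rfl⟩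
    exact hPQ ((hle P hDP).trans (hle Q hDQ).symm)
  · intro S T hST
    refine le_antisymm ?_ (le_inf (hDS S) (hDS T))
    by_contra hnot
    obtain ⟨T1, hT1, -⟩ := hex S
    obtain ⟨T2, hT2, -⟩ := hex T
    have hlt : D < ((S : Subgroup N) ⊓ T).map N.subtype := by
      refine lt_of_le_of_ne (fun d hd => ⟨⟨d, hDN hd⟩, ⟨hDS S hd, hDS T hd⟩, rfl⟩) fun h => hnot ?_
      intro y hy
      show (y : G) ∈ D
      rw [h]
      exact ⟨y, hy, rfl⟩
    have h12 : T1 = T2 := huniqT _ T1 T2 hlt ((Subgroup.map_mono inf_le_left).trans hT1)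
      ((Subgroup.map_mono inf_le_right).trans hT2)
    subst h12
    have hp := T1.2.comap_of_injective N.subtype Subtype.coe_injective
    have e1 := S.3 hp fun y hy => hT1 ⟨y, hy, rfl⟩
    have e2 := T.3 hp fun y hy => hT2 ⟨y, hy, rfl⟩
    exact hST (Sylow.ext (e1.symm.trans e2))

end Cfsg.Agent.S0986
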