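import Cfsg.Statements.S0987
import Cfsg.Agent.SmallSimple.Basic

set_option autoImplicit false
open Cfsg

namespace Cfsg.Agent.S0987

/-- If a finite group has order pqr for primes p < q < r, then its Sylow r-subgroups are normal. -/
theorem result {G : Type*} [Group G] [Finite G] (p q r : ℕ) (hp : p.Prime) (hq : q.Prime) [Fact r.Prime] (hpq : p < q) (hqr : q < r) (hG : Nat.card G = p * q * r) (R : Sylow r G) : (R : Subgroup G).Normal := by
  haveI : Fact p.Prime := ⟨hp⟩
  haveI : Fact q.Prime := ⟨hq⟩
  have hr : r.Prime := Fact.out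
  have h1 : ¬ p ∣ q * r := fun h => by
    rcases hp.dvd_mul.mp h with h | h
    · exact hpq.ne ((Nat.prime_dvd_prime_iff_eq hp hq).mp h)
    · exact (hpq.trans hqr).ne ((Nat.prime_dvd_prime_iff_eq hp hr).mp h)
  obtain ⟨P⟩ : Nonempty (Sylow p G) := inferInstance
  have hP : Nat.card (P : Subgroup G) = p :=
    (CfsgLib.SmallSimple.card_sylow_eq P (k := 1) (m := q * r) (by rw [hG]; ring) h1).trans (pow_one p)
  have hmin : (Nat.card G).minFac = p := by
    refine le_antisymm (Nat.minFac_le_of_dvd hp.two_le ⟨q * r, by rw [hG, mul_assoc]⟩) ?_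
    have h2 := Nat.minFac_prime (n := Nat.card G) (by
      intro h; rw [hG] at h; exact hp.ne_one (Nat.eq_one_of_mul_eq_one_right (Nat.eq_one_of_mul_eq_one_right h)))
    have hd := Nat.minFac_dvd (Nat.card G)
    generalize hm : (Nat.card G).minFac = m at h2 hd ⊢
    rw [hG] at hd
    rcases h2.dvd_mul.mp hd with h | h
    · rcases h2.dvd_mul.mp h with h | h
      · rw [(Nat.prime_dvd_prime_iff_eq h2 hp).mp h]
      · rw [(Nat.prime_dvd_prime_iff_eq h2 hq).mp h]; omega
    · rw [(Nat.prime_dvd_prime_iff_eq h2 hr).mp h]; omega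
  haveI : IsCyclic (P : Subgroup G) := isCyclic_of_prime_card hP
  have hle : Subgroup.normalizer ((P : Subgroup G) : Set G) ≤ Subgroup.centralizer ((P : Subgroup G) : Set G) :=
    IsCyclic.normalizer_le_centralizer hmin inferInstance
  set K := (MonoidHom.transferSylow P hle).ker with hK
  have hKc : Nat.card K = q * r := by
    have := (MonoidHom.ker_transferSylow_isComplement' P hle).card_mul_card
    rw [hP, hG, show p * q * r = (q * r) * p by ring] at this
    exact Nat.eq_of_mul_eq_mul_right hp.pos this
  have hKn : K.Normal := MonoidHom.normal_ker _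
  have hKi : K.index = p := by
    have := K.card_mul_index
    rw [hKc, hG, show p * q * r = (q * r) * p by ring] at this
    exact Nat.eq_of_mul_eq_mul_left (Nat.mul_pos hq.pos hr.pos) this
  have hsub : ∀ T : Sylow r G, (T : Subgroup G) ≤ K := by
    intro T x hx
    rw [← QuotientGroup.eq_one_iff]
    obtain ⟨k, hk⟩ := T.2 ⟨x, hx⟩
    have hx' : x ^ r ^ k = 1 := by simpa using congrArg Subtype.val hk
    have h2 : orderOf (x : G ⧸ K) ∣ r ^ k := orderOf_dvd_of_pow_eq_one (by rw [← QuotientGroup.mk_pow, hx']; rfl)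
    have h3 : orderOf (x : G ⧸ K) ∣ p := by
      rw [← hKi, Subgroup.index_eq_card]; exact _root_.orderOf_dvd_natCard _
    have hco : Nat.Coprime p (r ^ k) := ((Nat.coprime_primes hp hr).mpr (by omega)).pow_right k
    exact orderOf_eq_one_iff.mp (Nat.eq_one_of_dvd_coprimes hco h3 h2)
  have hone : Nat.card (Sylow r K) = 1 := by
    obtain ⟨S⟩ : Nonempty (Sylow r K) := inferInstance
    have hS : Nat.card (S : Subgroup K) = r :=
      (CfsgLib.SmallSimple.card_sylow_eq S (k := 1) (m := q) (by rw [hKc]; ring)
        (fun h => hqr.ne ((Nat.prime_dvd_prime_iff_eq hr hq).mp h).symm)).trans (pow_one r)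
    have hd := S.card_dvd_index
    have hi : (S : Subgroup K).index = q := by
      have := (S : Subgroup K).card_mul_index
      rw [hS, hKc, mul_comm q r] at this
      exact Nat.eq_of_mul_eq_mul_left hr.pos this
    rw [hi] at hd
    rcases (Nat.dvd_prime hq).mp hd with h | h
    · exact h
    · exfalso
      have hmod := card_sylow_modEq_one r K
      rw [h, Nat.ModEq, Nat.mod_eq_of_lt hqr, Nat.mod_eq_of_lt hr.one_lt] at hmod
      have := hq.two_le
      omega
  haveI : Subsingleton (Sylow r G) := ⟨fun A B =>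
    Sylow.subtype_injective (hP := hsub A) (hQ := hsub B) (by
      haveI := (Nat.card_eq_one_iff_unique.mp hone).1
      exact Subsingleton.elim _ _)⟩
  exact Sylow.normal_of_subsingleton R

end Cfsg.Agent.S0987
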