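import Cfsg.Statements.S0988
import Cfsg.Agent.KGroup.SmallOrder
import Cfsg.Agent.SmallSimple.Basic

set_option autoImplicit false
open Cfsg

namespace Cfsg.Agent.S0988

open CfsgLib.SmallSimple Subgroup
open scoped Pointwise

theorem key {G : Type*} [Group G] [Finite G] [IsSimpleGroup G] (hG : ¬ IsMulCommutative G) (p q r : ℕ)
    (hp : p.Prime) (hq : q.Prime) (hr : r.Prime) (hc : Nat.card G = p ^ 2 * q * r)
    (hpq : p < q) (hqr : q < r ∨ r < q) (hpr : p < r) : Nat.card G = 60 := by
  classical
  haveI := Fact.mk hp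
  have hnd : ¬ p ∣ q * r := fun h => by
    rcases (Nat.Prime.dvd_mul hp).mp h with h | h
    · exact (Nat.ne_of_lt hpq) ((Nat.prime_dvd_prime_iff_eq hp hq).mp h)
    · exact (Nat.ne_of_lt hpr) ((Nat.prime_dvd_prime_iff_eq hp hr).mp h)
  obtain ⟨P⟩ : Nonempty (Sylow p G) := Sylow.nonempty
  have hP : Nat.card (P : Subgroup G) = p ^ 2 :=
    card_sylow_eq P (k := 2) (m := q * r) (by rw [hc, mul_assoc]) hnd
  have hqr1 : 1 < q * r := by nlinarith [hq.two_le, hr.two_le]
  have hbig : Nat.card (P : Subgroup G) < Nat.card G := by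
    rw [hP, hc, mul_assoc]
    exact lt_mul_of_one_lt_right (pow_pos hp.pos 2) hqr1
  have h1 : 1 < Nat.card (P : Subgroup G) := by rw [hP]; exact one_lt_pow₀ hp.one_lt two_ne_zero
  set N := normalizer ((P : Subgroup G) : Set G) with hN
  set C := centralizer ((P : Subgroup G) : Set G) with hC
  have hcomm : ∀ a ∈ (P : Subgroup G), ∀ b ∈ (P : Subgroup G), a * b = b * a := by
    haveI : IsMulCommutative (P : Subgroup G) := IsPGroup.isMulCommutative_of_card_eq_prime_sq hP
    exact fun a ha b hb => setLike_mul_comm (S := Subgroup G) ha hb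
  have hPC : (P : Subgroup G) ≤ C := fun x hx => mem_centralizer_iff.mpr fun y hy => hcomm y hy x hx
  -- an element of prime order acting non-trivially
  obtain ⟨y, hyN, hyC, l, hl, hyo, hlqr⟩ : ∃ y ∈ N, y ∉ C ∧ ∃ l : ℕ, l.Prime ∧ orderOf y = l ∧ l ∣ q * r := by
    by_contra hno
    push Not at hno
    refine not_le_centralizer P h1 hbig fun y hy => ?_
    -- every element of prime power order centralises
    have hsub : ∀ l : ℕ, l.Prime → ∀ Q : Sylow l N, ∀ z ∈ (Q : Subgroup N), (z : G) ∈ C := by
      intro l hl Q z hz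
      haveI := Fact.mk hl
      by_cases hlp : l = p
      · subst hlp
        exact hPC (mem_sylow_of_smul_eq (n := 2) (by
          have hd : orderOf (z : G) ∣ Nat.card G := orderOf_dvd_natCard _
          obtain ⟨j, hj⟩ := IsPGroup.iff_orderOf.mp Q.2 ⟨z, hz⟩
          rw [Subgroup.orderOf_mk, ← Subgroup.orderOf_coe] at hj
          rw [hj, hc, mul_assoc] at hd
          have := (Nat.Coprime.pow_left j ((Nat.Prime.coprime_iff_not_dvd hl).mpr hnd)).dvd_of_dvd_mul_right hd
          rw [← hj] at this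
          exact orderOf_dvd_iff_pow_eq_one.mp this) P (Sylow.smul_eq_iff_mem_normalizer.mpr z.2))
      · by_cases hz1 : z = 1
        · rw [hz1]; exact one_mem _
        obtain ⟨j, hj⟩ := IsPGroup.iff_orderOf.mp Q.2 ⟨z, hz⟩
        rw [Subgroup.orderOf_mk] at hj
        have hd : orderOf (z : G) ∣ Nat.card G := orderOf_dvd_natCard _
        rw [Subgroup.orderOf_coe, hj, hc, mul_assoc] at hd
        have hd2 := (Nat.Coprime.pow _ 2 ((Nat.coprime_primes hl hp).mpr hlp)).dvd_of_dvd_mul_left hd
        have hj1 : j = 1 := by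
          rcases Nat.eq_zero_or_pos j with rfl | hj0
          · rw [pow_zero, orderOf_eq_one_iff] at hj; exact absurd hj hz1
          by_contra hne
          have h2 : l ^ 2 ∣ q * r := (pow_dvd_pow l (show 2 ≤ j by omega)).trans hd2
          have hlq : l = q ∨ l = r := by
            rcases (Nat.Prime.dvd_mul hl).mp ((dvd_pow_self l two_ne_zero).trans h2) with h | h
            exacts [Or.inl ((Nat.prime_dvd_prime_iff_eq hl hq).mp h), Or.inr ((Nat.prime_dvd_prime_iff_eq hl hr).mp h)]
          rcases hlq with rfl | rfl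
          · rw [sq, Nat.mul_dvd_mul_iff_left hl.pos, Nat.prime_dvd_prime_iff_eq hl hr] at h2; omega
          · rw [sq, mul_comm q, Nat.mul_dvd_mul_iff_left hl.pos, Nat.prime_dvd_prime_iff_eq hl hq] at h2; omega
        rw [hj1, pow_one] at hj hd2
        exact by_contra fun hzC => hno z z.2 hzC l hl (by rw [Subgroup.orderOf_coe, hj]) hd2
    have htop : C.subgroupOf N = ⊤ := by
      refine Subgroup.eq_top_of_card_eq _ (Nat.dvd_antisymm (card_subgroup_dvd_card _) ?_)
      refine (Nat.factorization_le_iff_dvd Nat.card_pos.ne' Nat.card_pos.ne').mp ((Finsupp.le_iff _ _).mpr fun l hl' => ?_)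
      have hlp : l.Prime := Nat.prime_of_mem_primeFactors (Nat.support_factorization _ ▸ hl')
      haveI := Fact.mk hlp
      obtain ⟨Q⟩ : Nonempty (Sylow l N) := Sylow.nonempty
      have hle : (Q : Subgroup N) ≤ C.subgroupOf N := fun z hz => mem_subgroupOf.mpr (hsub l hlp Q z hz)
      rw [← hlp.pow_dvd_iff_le_factorization Nat.card_pos.ne', ← Q.card_eq_multiplicity]
      exact card_dvd_of_le hle
    exact mem_subgroupOf.mp (htop ▸ mem_top (⟨y, hy⟩ : N))
  haveI := Fact.mk hl
  have hZ : IsPGroup l (zpowers y) := IsPGroup.of_card (n := 1) (by rw [Nat.card_zpowers, hyo, pow_one])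
  letI : MulAction (zpowers y) (P : Subgroup G) :=
    { smul := fun g x => ⟨(g : G) * x * (g : G)⁻¹,
        (mem_normalizer_iff.mp ((zpowers_le.mpr hyN : zpowers y ≤ N) g.2) x).mp x.2⟩
      one_smul := fun x => Subtype.ext (by show ((1 : zpowers y) : G) * x * ((1 : zpowers y) : G)⁻¹ = x; simp)
      mul_smul := fun a b x => Subtype.ext (by
        show ((a * b : zpowers y) : G) * x * ((a * b : zpowers y) : G)⁻¹ = a * (b * x * (b : G)⁻¹) * (a : G)⁻¹
        simp [mul_assoc]) }
  let F : Subgroup G := (P : Subgroup G) ⊓ centralizer ({y} : Set G)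
  have hfix : Nat.card (MulAction.fixedPoints (zpowers y) (P : Subgroup G)) = Nat.card F := by
    refine Nat.card_congr ⟨fun x => ⟨x.1, x.1.2, ?_⟩, fun x => ⟨⟨x.1, x.2.1⟩, ?_⟩, fun x => rfl, fun x => rfl⟩
    · have := congrArg Subtype.val (x.2 ⟨y, mem_zpowers y⟩)
      exact mem_centralizer_singleton_iff.mpr ((mul_inv_eq_iff_eq_mul.mp this).symm)
    · rintro ⟨g, i, rfl⟩
      refine Subtype.ext ?_
      show y ^ i * (x : G) * (y ^ i)⁻¹ = x
      rw [(Commute.zpow_left (mem_centralizer_singleton_iff.mp x.2.2).symm i).eq, mul_inv_cancel_right]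
  have hmod := hZ.card_modEq_card_fixedPoints (α := (P : Subgroup G))
  rw [hfix, hP] at hmod
  have hFd : Nat.card F ∣ p ^ 2 := hP ▸ card_dvd_of_le inf_le_left
  obtain ⟨i, hi, hFi⟩ := (Nat.dvd_prime_pow hp).mp hFd
  have hi2 : i ≠ 2 := by
    rintro rfl
    refine hyC (mem_centralizer_iff.mpr fun x hx => ?_)
    exact mem_centralizer_singleton_iff.mp
      (inf_le_right (a := (P : Subgroup G)) ((eq_of_le_of_card_ge inf_le_left (by rw [hFi, hP]) : F = P).ge hx))
  have hlcases : l = q ∨ l = r := by
    rcases (Nat.Prime.dvd_mul hl).mp hlqr with h | h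
    exacts [Or.inl ((Nat.prime_dvd_prime_iff_eq hl hq).mp h), Or.inr ((Nat.prime_dvd_prime_iff_eq hl hr).mp h)]
  have hlp : p < l := by rcases hlcases with rfl | rfl <;> assumption
  have hl1 : l ∣ p + 1 := by
    rw [hFi] at hmod
    have hd := (Nat.modEq_iff_dvd' (Nat.pow_le_pow_right hp.pos hi)).mp hmod.symm
    interval_cases i
    · rw [pow_zero, show p ^ 2 - 1 = (p + 1) * (p - 1) by rw [← Nat.sq_sub_sq, one_pow]] at hd
      rcases (Nat.Prime.dvd_mul hl).mp hd with h | h
      · exact h
      · have := Nat.le_of_dvd (by have := hp.two_le; omega) h; omega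
    · rw [pow_one, show p ^ 2 - p = p * (p - 1) by rw [Nat.mul_sub, mul_one, sq]] at hd
      rcases (Nat.Prime.dvd_mul hl).mp hd with h | h
      · exact absurd ((Nat.prime_dvd_prime_iff_eq hl hp).mp h) (by omega)
      · have := Nat.le_of_dvd (by have := hp.two_le; omega) h; omega
    · exact absurd rfl hi2
  have hleq : l = p + 1 := by have := Nat.le_of_dvd (Nat.succ_pos p) hl1; omega
  have hp2 : p = 2 := by
    rcases hp.eq_two_or_odd' with h | h
    · exact h
    · exfalso
      have hodd : Odd l := hl.odd_of_ne_two (by have := hp.two_le; omega)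
      rw [hleq] at hodd
      exact (Nat.not_odd_iff_even.mpr h.add_one) hodd
  subst hp2
  obtain rfl : l = 3 := hleq
  -- the third prime
  obtain ⟨t, ht, ht3, htc⟩ : ∃ t : ℕ, t.Prime ∧ t > 3 ∧ Nat.card G = 12 * t := by
    rcases hlcases with h | h
    · refine ⟨r, hr, ?_, by rw [hc, ← h]; ring⟩
      have := hr.two_le
      omega
    · refine ⟨q, hq, ?_, by rw [hc, ← h]; ring⟩
      have := hq.two_le
      omega
  haveI := Fact.mk ht
  have htn : ¬ t ∣ 12 := fun h => by
    have := Nat.le_of_dvd (by norm_num) h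
    interval_cases t <;> revert ht h <;> decide
  obtain ⟨Q⟩ : Nonempty (Sylow t G) := Sylow.nonempty
  have hQ : Nat.card (Q : Subgroup G) = t := by
    rw [card_sylow_eq Q (k := 1) (m := 12) (by rw [htc]; ring) htn, pow_one]
  have hne := card_sylow_ne_one Q (by rw [hQ]; exact ht.one_lt) (by rw [hQ, htc]; omega)
  have hd : Nat.card (Sylow t G) ∣ 12 := by
    have h' := (Q : Subgroup G).card_mul_index
    rw [hQ, htc, mul_comm 12] at h'
    exact (Nat.eq_of_mul_eq_mul_left ht.pos h') ▸ Q.card_dvd_index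
  have hmodt : Nat.card (Sylow t G) % t = 1 := Eq.trans (card_sylow_modEq_one t G) (Nat.mod_eq_of_lt ht.one_lt)
  have hk := Nat.le_of_dvd (by norm_num) hd
  have hdvd : t ∣ Nat.card (Sylow t G) - 1 := hmodt ▸ Nat.dvd_sub_mod (Nat.card (Sylow t G))
  have hpos := Nat.card_pos (α := Sylow t G)
  have ht11 : t ≤ 11 := by
    have := Nat.le_of_dvd (by omega) hdvd
    omega
  interval_cases t <;> first
    | omega
    | (exfalso; norm_num at ht; done)
    | skip
  · exact (CfsgLib.SmallOrder.false_of_excluded hG 7 1 12 (by norm_num) one_pos (htc.trans (by norm_num))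
      (by decide) (by decide) (by decide +kernel)).elim
  · exact (CfsgLib.SmallOrder.false_of_excluded hG 11 1 12 (by norm_num) one_pos (htc.trans (by norm_num))
      (by decide) (by decide) (by decide +kernel)).elim

/-- A simple group of order p²qr has order 60. -/
theorem result {G : Type*} [Group G] [Finite G] [IsSimpleGroup G] (p q r : ℕ) (hp : p.Prime) (hq : q.Prime) (hr : r.Prime) (hG : Nat.card G = p ^ 2 * q * r) : Nat.card G = 60 := by
  have hnc : ¬ IsMulCommutative G := by
    intro h
    letI : CommGroup G := { ‹Group G› with mul_comm := h.is_comm.comm }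
    have hprime : (Nat.card G).Prime := IsSimpleGroup.prime_card
    have hd : p ∣ Nat.card G := ⟨p * q * r, by rw [hG]; ring⟩
    have heq := (Nat.prime_dvd_prime_iff_eq hp hprime).mp hd
    have hgt : p * 1 < p * (p * q * r) :=
      Nat.mul_lt_mul_of_pos_left (by nlinarith [hp.two_le, hq.two_le, hr.two_le, Nat.mul_pos hp.pos hq.pos]) hp.pos
    rw [hG] at heq
    nlinarith
  by_cases h1 : q = p
  · subst h1; exact (CfsgLib.SmallOrder.false_of_two_primes hnc q r 3 1 hp hr (by rw [hG]; ring)).elim
  by_cases h2 : r = p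
  · subst h2; exact (CfsgLib.SmallOrder.false_of_two_primes hnc r q 3 1 hp hq (by rw [hG]; ring)).elim
  by_cases h3 : q = r
  · subst h3; exact (CfsgLib.SmallOrder.false_of_two_primes hnc p q 2 2 hp hq (by rw [hG]; ring)).elim
  -- a smallest prime of multiplicity one is impossible
  have hsmall : ∀ s m : ℕ, s.Prime → Nat.card G = s * m → ¬ s ∣ m → 1 < m →
      (∀ l : ℕ, l.Prime → l ∣ m → s < l) → False := by
    intro s m hs hcard hsm hm hmin
    haveI := Fact.mk hs
    obtain ⟨S⟩ : Nonempty (Sylow s G) := Sylow.nonempty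
    have hS : Nat.card (S : Subgroup G) = s := by
      rw [CfsgLib.SmallSimple.card_sylow_eq S (k := 1) (m := m) (by rw [hcard, pow_one]) hsm, pow_one]
    have hne : Nat.card G ≠ 1 := by rw [hcard]; nlinarith [hs.two_le]
    have hfac : (Nat.card G).minFac = s := by
      refine le_antisymm (Nat.minFac_le_of_dvd hs.two_le (hcard ▸ dvd_mul_right s m)) ?_
      have hp' := Nat.minFac_prime hne
      rcases (Nat.Prime.dvd_mul hp').mp ((Nat.minFac_dvd _).trans hcard.dvd) with h | h
      · exact ((Nat.prime_dvd_prime_iff_eq hp' hs).mp h).ge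
      · exact (hmin _ hp' h).le
    exact CfsgLib.SmallSimple.not_le_centralizer S (by rw [hS]; exact hs.one_lt)
      (by rw [hS, hcard]; nlinarith [hs.two_le])
      ((isCyclic_of_prime_card hS).normalizer_le_centralizer hfac)
  rcases Nat.lt_or_ge p q with hpq | hpq <;> rcases Nat.lt_or_ge p r with hpr | hpr
  · exact key hnc p q r hp hq hr hG hpq (Nat.lt_or_gt_of_ne h3) hpr
  all_goals exfalso
  all_goals rcases Nat.lt_or_ge q r with hqr | hqr
  all_goals first
    | omega
    | (refine hsmall r (p ^ 2 * q) hr (by rw [hG]; ring) ?_ (by nlinarith [hp.two_le, hq.two_le]) ?_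
       · intro h
         rcases (Nat.Prime.dvd_mul hr).mp h with h | h
         · exact h2 ((Nat.prime_dvd_prime_iff_eq hr hp).mp (hr.dvd_of_dvd_pow h))
         · exact h3 ((Nat.prime_dvd_prime_iff_eq hr hq).mp h).symm
       · intro l hl h
         rcases (Nat.Prime.dvd_mul hl).mp h with h | h
         · rw [(Nat.prime_dvd_prime_iff_eq hl hp).mp (hl.dvd_of_dvd_pow h)]; omega
         · rw [(Nat.prime_dvd_prime_iff_eq hl hq).mp h]; omega)
    | (refine hsmall q (p ^ 2 * r) hq (by rw [hG]; ring) ?_ (by nlinarith [hp.two_le, hr.two_le]) ?_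
       · intro h
         rcases (Nat.Prime.dvd_mul hq).mp h with h | h
         · exact h1 ((Nat.prime_dvd_prime_iff_eq hq hp).mp (hq.dvd_of_dvd_pow h))
         · exact h3 ((Nat.prime_dvd_prime_iff_eq hq hr).mp h)
       · intro l hl h
         rcases (Nat.Prime.dvd_mul hl).mp h with h | h
         · rw [(Nat.prime_dvd_prime_iff_eq hl hp).mp (hl.dvd_of_dvd_pow h)]; omega
         · rw [(Nat.prime_dvd_prime_iff_eq hl hr).mp h]; omega)

end Cfsg.Agent.S0988
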