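import Cfsg.Statements.S0989
import Cfsg.Agent.SmallSimple.Basic

set_option autoImplicit false
open Cfsg

namespace Cfsg.Agent.S0989

/-- In the symmetric group on p or p + 1 letters, p a prime, the normalizer of a Sylow p-subgroup has order p * (p - 1). -/
theorem result {α : Type*} [Fintype α] [DecidableEq α] (p : ℕ) [Fact p.Prime] (hα : Fintype.card α = p ∨ Fintype.card α = p + 1) (P : Sylow p (Equiv.Perm α)) : Nat.card ↥(Subgroup.normalizer ((P : Subgroup (Equiv.Perm α)) : Set (Equiv.Perm α))) = p * (p - 1) := by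
  have hp : p.Prime := Fact.out
  have hp2 := hp.two_le
  have hdvd1 : ¬ p ∣ (p - 1).factorial := fun h => by
    have := hp.dvd_factorial.mp h
    omega
  have hP : Nat.card (P : Subgroup (Equiv.Perm α)) = p := by
    have hG : Nat.card (Equiv.Perm α) = (Fintype.card α).factorial := by
      rw [Nat.card_perm, Nat.card_eq_fintype_card]
    have e : p.factorial = p * (p - 1).factorial := (Nat.mul_factorial_pred hp.ne_zero).symm
    rcases hα with h | h <;> rw [h] at hG
    · exact (CfsgLib.SmallSimple.card_sylow_eq P (k := 1) (by rw [hG, e, pow_one]) hdvd1).trans (pow_one p)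
    · refine (CfsgLib.SmallSimple.card_sylow_eq P (k := 1) (m := (p + 1) * (p - 1).factorial) ?_ ?_).trans (pow_one p)
      · rw [hG, Nat.factorial_succ, e, pow_one]; ring
      · intro h'
        rcases hp.dvd_mul.mp h' with h'' | h''
        · have := Nat.le_of_dvd one_pos ((Nat.dvd_add_right (dvd_refl p)).mp h'')
          omega
        · exact hdvd1 h''
  have htype : ∀ g : Equiv.Perm α, orderOf g = p → g.cycleType = {p} := by
    intro g hg
    obtain ⟨n, hn⟩ := Equiv.Perm.cycleType_prime_order (by rw [hg]; exact hp)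
    rw [hg] at hn
    have hsum := g.sum_cycleType
    rw [hn, Multiset.sum_replicate, smul_eq_mul] at hsum
    have := Finset.card_le_univ g.support
    have hn0 : n = 0 := by
      by_contra h
      have : 2 * p ≤ (n + 1) * p := Nat.mul_le_mul_right p (by omega)
      omega
    rw [hn, hn0]; rfl
  haveI : IsCyclic (P : Subgroup (Equiv.Perm α)) := isCyclic_of_prime_card hP
  obtain ⟨c, hc⟩ := IsCyclic.exists_generator (α := (P : Subgroup (Equiv.Perm α)))
  have hcord : orderOf (c : Equiv.Perm α) = p := by
    rw [Subgroup.orderOf_coe, orderOf_eq_card_of_forall_mem_zpowers hc, hP]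
  have hPc : (P : Subgroup (Equiv.Perm α)) = Subgroup.zpowers (c : Equiv.Perm α) :=
    (Subgroup.eq_of_le_of_card_ge (Subgroup.zpowers_le.mpr c.2) (by rw [Nat.card_zpowers, hcord, hP])).symm
  set N := Subgroup.normalizer ((P : Subgroup (Equiv.Perm α)) : Set (Equiv.Perm α)) with hN
  set C := Subgroup.centralizer ((P : Subgroup (Equiv.Perm α)) : Set (Equiv.Perm α)) with hC
  let φ := (P : Subgroup (Equiv.Perm α)).normalizerMonoidHom
  have hsurj : Function.Surjective φ := by
    intro a
    have hac : orderOf ((a c : (P : Subgroup (Equiv.Perm α))) : Equiv.Perm α) = p := by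
      rw [Subgroup.orderOf_coe, MulEquiv.orderOf_eq, ← Subgroup.orderOf_coe, hcord]
    obtain ⟨σ, hσ⟩ := isConj_iff.mp ((Equiv.Perm.isConj_iff_cycleType_eq).mpr ((htype _ hcord).trans (htype _ hac).symm))
    have hσN : σ ∈ N := by
      rw [hN, Subgroup.mem_normalizer_iff_conj_image_eq]
      have h1 : (P : Subgroup (Equiv.Perm α)).map (MulAut.conj σ).toMonoidHom = P := by
        refine Subgroup.eq_of_le_of_card_ge ?_ ?_
        · rw [hPc, MonoidHom.map_zpowers, Subgroup.zpowers_le, ← hPc]
          show σ * (c : Equiv.Perm α) * σ⁻¹ ∈ _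
          rw [hσ]
          exact (a c).2
        · exact (Nat.card_congr ((P : Subgroup (Equiv.Perm α)).equivMapOfInjective (MulAut.conj σ).toMonoidHom (MulAut.conj σ).injective).toEquiv).le
      exact congrArg SetLike.coe h1
    refine ⟨⟨σ, hσN⟩, ?_⟩
    refine MulEquiv.ext fun t => ?_
    obtain ⟨i, rfl⟩ := Subgroup.mem_zpowers_iff.mp (hc t)
    rw [map_zpow, map_zpow]
    congr 1
    exact Subtype.ext hσ
  have hker : Nat.card φ.ker = p := by
    have h1 : φ.ker = C.subgroupOf N := (P : Subgroup (Equiv.Perm α)).normalizerMonoidHom_ker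
    have h2 : C = Subgroup.centralizer ({(c : Equiv.Perm α)} : Set _) := by
      rw [← Subgroup.centralizer_closure {(c : Equiv.Perm α)}, ← Subgroup.zpowers_eq_closure]
      exact congrArg (fun K : Subgroup (Equiv.Perm α) => Subgroup.centralizer (K : Set (Equiv.Perm α))) hPc
    have h3 : C ≤ N := Subgroup.centralizer_le_normalizer _
    rw [h1, Nat.card_congr (Subgroup.subgroupOfEquivOfLe h3).toEquiv, h2,
      Equiv.Perm.nat_card_centralizer, htype _ hcord]
    have h0 : (Fintype.card α - p).factorial = 1 := by
      rcases hα with h | h <;> rw [h] <;> simp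
    simp [h0]
  have := φ.ker.card_mul_index
  rw [Subgroup.index_ker, MonoidHom.range_eq_top.mpr hsurj, Subgroup.card_top, hker,
    IsCyclic.card_mulAut, hP, Nat.totient_prime hp] at this
  exact this.symm

end Cfsg.Agent.S0989
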