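import Cfsg.Statements.S0990
import Cfsg.Agent.SmallSimple.Basic

set_option autoImplicit false
open Cfsg

namespace Cfsg.Agent.S0990

/-- Let p be an odd prime and P a Sylow p-subgroup of the symmetric group on a finite set with at least two elements. Then P is contained in the alternating group, and twice the order of the normalizer of P inside the alternating group equals the order of the normalizer of P in the symmetric group. -/
theorem result {α : Type*} [Fintype α] [DecidableEq α] (hα : 2 ≤ Fintype.card α) (p : ℕ) [Fact p.Prime] (hp : p ≠ 2) (P : Sylow p (Equiv.Perm α)) : (P : Subgroup (Equiv.Perm α)) ≤ alternatingGroup α ∧ 2 * Nat.card ↥(Subgroup.normalizer ((((P : Subgroup (Equiv.Perm α)).subgroupOf (alternatingGroup α) : Subgroup ↥(alternatingGroup α)) : Set ↥(alternatingGroup α)))) = Nat.card ↥(Subgroup.normalizer ((P : Subgroup (Equiv.Perm α)) : Set (Equiv.Perm α))) := by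
  have hPA : (P : Subgroup (Equiv.Perm α)) ≤ alternatingGroup α := by
    intro x hx
    rw [Equiv.Perm.mem_alternatingGroup]
    obtain ⟨k, hk⟩ := P.2 ⟨x, hx⟩
    have hx' : x ^ p ^ k = 1 := by simpa using congrArg Subtype.val hk
    have h1 : Equiv.Perm.sign x ^ p ^ k = 1 := by rw [← map_pow, hx', map_one]
    have hodd : Odd (p ^ k) := ((Fact.out : p.Prime).odd_of_ne_two hp).pow
    rcases Int.units_eq_one_or (Equiv.Perm.sign x) with h | h
    · exact h
    · rw [h, hodd.neg_one_pow] at h1
      exact absurd h1 (by decide)
  refine ⟨hPA, ?_⟩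
  set N := Subgroup.normalizer ((P : Subgroup (Equiv.Perm α)) : Set (Equiv.Perm α)) with hN
  rw [← Subgroup.subgroupOf_normalizer_eq hPA]
  haveI : Nontrivial α := Fintype.one_lt_card_iff_nontrivial.mp (by omega)
  haveI := Fintype.ofFinite (Sylow p (Equiv.Perm α))
  have hnA : ¬ N ≤ alternatingGroup α := by
    intro hle
    haveI : (alternatingGroup α).Normal := inferInstance
    have hsup : N ⊔ alternatingGroup α = ⊤ := by
      have := Sylow.normalizer_sup_eq_top (P.subtype hPA)
      have e : ((P.subtype hPA : Sylow p (alternatingGroup α)) : Subgroup (alternatingGroup α)).map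
          (alternatingGroup α).subtype = (P : Subgroup (Equiv.Perm α)) := by
        rw [Sylow.coe_subtype, Subgroup.map_subgroupOf_eq_of_le hPA]
      rw [e] at this
      exact this
    rw [sup_eq_right.mpr hle] at hsup
    have h := alternatingGroup.index_eq_two (α := α)
    rw [hsup, Subgroup.index_top] at h
    omega
  let f : N →* ℤˣ := Equiv.Perm.sign.comp N.subtype
  have hsurj : Function.Surjective f := by
    obtain ⟨n, hn, hnot⟩ := SetLike.not_le_iff_exists.mp hnA
    intro u
    rcases Int.units_eq_one_or u with h | h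
    · exact ⟨1, by rw [h, map_one]⟩
    · refine ⟨⟨n, hn⟩, ?_⟩
      rw [h]
      exact (Int.units_eq_one_or _).resolve_left hnot
  have hker : Nat.card (N.subgroupOf (alternatingGroup α)) = Nat.card f.ker := by
    refine Nat.card_congr ⟨fun x => ⟨⟨(x : alternatingGroup α), x.2⟩, (x : alternatingGroup α).2⟩,
      fun x => ⟨⟨((x : N) : Equiv.Perm α), x.2⟩, (x : N).2⟩, fun x => rfl, fun x => rfl⟩
  have := f.ker.card_mul_index
  rw [Subgroup.index_ker, MonoidHom.range_eq_top.mpr hsurj, Subgroup.card_top,
    Nat.card_eq_fintype_card (α := ℤˣ), Fintype.card_units_int, ← hker] at this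
  rw [mul_comm]; exact this

end Cfsg.Agent.S0990
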