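import Cfsg.Statements.S0994
import Cfsg.Agent.KGroup.SmallOrder

set_option autoImplicit false
open Cfsg

namespace Cfsg.Agent.S0994

/-- No finite simple group has order 1188 = 2^2 * 3^3 * 11. -/
theorem result {G : Type*} [Group G] [Finite G] [IsSimpleGroup G] : Nat.card G ≠ 1188 := by
  intro h
  obtain ⟨P⟩ : Nonempty (Sylow 11 G) := Sylow.nonempty
  haveI : Fact (Nat.Prime 11) := ⟨by norm_num⟩
  have hP := CfsgLib.SmallSimple.card_sylow_eq P (k := 1) (m := 108) (by rw [h]; norm_num) (by norm_num)
  exact CfsgLib.SmallOrder.false_of_excluded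
    (CfsgLib.SmallSimple.not_comm_of_sylow P (by rw [hP]; norm_num) (by rw [hP, h]; norm_num))
    11 1 108 (by norm_num) one_pos (by rw [h]; norm_num) (by norm_num) (by norm_num) (by decide +kernel)

end Cfsg.Agent.S0994
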