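import Cfsg.Statements.S0995
import Cfsg.Agent.SmallSimple.Basic

set_option autoImplicit false
open Cfsg

namespace Cfsg.Agent.S0995

/-- Let G be a finite perfect group containing an element z of prime order p whose centralizer is the cyclic group it generates. Let t be the number of conjugacy classes of elements of order p. Then t divides p - 1, the number of Sylow p-subgroups has the form 1 + n * p, and |G| * t = (p - 1) * p * (1 + n * p). -/
theorem result {G : Type*} [Group G] [Finite G] (hperf : commutator G = ⊤) (p : ℕ) [Fact p.Prime] (z : G) (hz : orderOf z = p) (hC : Subgroup.centralizer ({z} : Set G) = Subgroup.zpowers z) : ∃ n t : ℕ, t = Nat.card {c : ConjClasses G // ∃ g : G, ConjClasses.mk g = c ∧ orderOf g = p} ∧ t ∣ p - 1 ∧ Nat.card (Sylow p G) = 1 + n * p ∧ Nat.card G * t = (p - 1) * p * (1 + n * p) := by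
  have hp : p.Prime := Fact.out
  set Z := Subgroup.zpowers z with hZ
  have hZc : Nat.card Z = p := by rw [hZ, Nat.card_zpowers, hz]
  obtain ⟨P, hP⟩ := (IsPGroup.of_card (n := 1) (G := Z) (by rw [hZc, pow_one])).exists_le_sylow
  have hz1 : z ≠ 1 := by rintro rfl; simp at hz; exact hp.ne_one hz.symm
  have hPZ : (P : Subgroup G) = Z := by
    refine le_antisymm (fun x hx => ?_) hP
    haveI : Nontrivial (P : Subgroup G) :=
      ⟨⟨⟨z, hP (Subgroup.mem_zpowers z)⟩, 1, fun h => hz1 (congrArg Subtype.val h)⟩⟩
    haveI := P.2.center_nontrivial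
    obtain ⟨w, hw⟩ := exists_ne (1 : Subgroup.center (P : Subgroup G))
    have hwC : ((w : (P : Subgroup G)) : G) ∈ Z := by
      rw [← hC, Subgroup.mem_centralizer_iff]
      intro y hy
      rw [Set.mem_singleton_iff.mp hy]
      exact congrArg Subtype.val (Subgroup.mem_center_iff.mp w.2 ⟨z, hP (Subgroup.mem_zpowers z)⟩)
    have hgen : Subgroup.zpowers ((w : (P : Subgroup G)) : G) = Z := by
      refine Subgroup.eq_of_le_of_card_ge (Subgroup.zpowers_le.mpr hwC) ?_
      have hd := Subgroup.card_dvd_of_le (Subgroup.zpowers_le.mpr hwC)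
      rw [hZc] at hd ⊢
      rcases (Nat.dvd_prime hp).mp hd with h | h
      · rw [Nat.card_zpowers, orderOf_eq_one_iff] at h
        exact absurd (Subtype.ext (Subtype.ext h)) hw
      · exact h.ge
    rw [← hC, Subgroup.mem_centralizer_iff]
    intro y hy
    rw [Set.mem_singleton_iff.mp hy]
    obtain ⟨i, hi⟩ := Subgroup.mem_zpowers_iff.mp (hgen.ge (Subgroup.mem_zpowers z))
    rw [← hi]
    exact (Commute.zpow_left (congrArg Subtype.val (Subgroup.mem_center_iff.mp w.2 ⟨x, hx⟩) : Commute x ((w : (P : Subgroup G)) : G)).symm i)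
  have hsyl : ∀ Q : Sylow p G, Nat.card (Q : Subgroup G) = p := fun Q => by
    rw [Q.card_eq_multiplicity, ← P.card_eq_multiplicity, hPZ, hZc]
  -- elements of order p
  have hcount : Nat.card {g : G // orderOf g = p} = Nat.card (Sylow p G) * (p - 1) := by
    haveI := Fintype.ofFinite (Sylow p G)
    let f : (Σ Q : Sylow p G, {x : (Q : Subgroup G) // x ≠ 1}) → {g : G // orderOf g = p} := fun a =>
      ⟨((a.2 : (a.1 : Subgroup G)) : G), by
        rw [Subgroup.orderOf_coe]
        rcases (Nat.dvd_prime hp).mp ((_root_.orderOf_dvd_natCard (a.2 : (a.1 : Subgroup G))).trans (hsyl a.1).dvd) with h | h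
        · exact absurd (orderOf_eq_one_iff.mp h) a.2.2
        · exact h⟩
    have hfz : ∀ (Q : Sylow p G) (x : G), orderOf x = p → x ∈ (Q : Subgroup G) → (Q : Subgroup G) = Subgroup.zpowers x :=
      fun Q x hx hxQ => (Subgroup.eq_of_le_of_card_ge (Subgroup.zpowers_le.mpr hxQ)
        (by rw [hsyl, Nat.card_zpowers, hx])).symm
    have hbij : Function.Bijective f := by
      constructor
      · rintro ⟨Q, ⟨x, hx1⟩⟩ ⟨R, ⟨y, hy1⟩⟩ h
        have hxy : (x : G) = y := congrArg Subtype.val h
        have hord : orderOf (x : G) = p := (f ⟨Q, ⟨x, hx1⟩⟩).2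
        have hQR : Q = R := Sylow.ext ((hfz Q _ hord x.2).trans (hfz R _ hord (hxy ▸ y.2)).symm)
        subst hQR
        obtain rfl : x = y := Subtype.ext hxy
        rfl
      · rintro ⟨g, hg⟩
        obtain ⟨Q, hQ⟩ := (IsPGroup.of_card (n := 1) (G := Subgroup.zpowers g) (by rw [Nat.card_zpowers, hg, pow_one])).exists_le_sylow
        refine ⟨⟨Q, ⟨⟨g, hQ (Subgroup.mem_zpowers g)⟩, fun h => ?_⟩⟩, rfl⟩
        have : g = 1 := congrArg Subtype.val h
        rw [this, orderOf_one] at hg
        exact hp.ne_one hg.symm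
    have hfib : ∀ Q : Sylow p G, Nat.card {x : (Q : Subgroup G) // x ≠ 1} = p - 1 := by
      intro Q
      classical
      haveI := Fintype.ofFinite (Q : Subgroup G)
      rw [Nat.card_eq_fintype_card, Fintype.card_subtype_compl, Fintype.card_subtype_eq,
        ← Nat.card_eq_fintype_card, hsyl]
    rw [← Nat.card_congr (Equiv.ofBijective f hbij), Nat.card_sigma, Finset.sum_congr rfl fun Q _ => hfib Q,
      Finset.sum_const, Finset.card_univ, smul_eq_mul, ← Nat.card_eq_fintype_card]
  -- centralisers of elements of order p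
  have hcent : ∀ g : G, orderOf g = p → Nat.card {h : G // IsConj g h} * p = Nat.card G := by
    intro g hg
    obtain ⟨Q, hQ⟩ := (IsPGroup.of_card (n := 1) (G := Subgroup.zpowers g) (by rw [Nat.card_zpowers, hg, pow_one])).exists_le_sylow
    have hCg : Nat.card (Subgroup.centralizer ({g} : Set G)) = p := by
      obtain ⟨c, hc⟩ := MulAction.exists_smul_eq G Q P
      have hgQ : g ∈ (Q : Subgroup G) := hQ (Subgroup.mem_zpowers g)
      have hg' : c * g * c⁻¹ ∈ Z := by
        rw [← hPZ, ← hc, Sylow.coe_subgroup_smul]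
        exact ⟨g, hgQ, rfl⟩
      have hgen : Subgroup.zpowers (c * g * c⁻¹) = Z := by
        refine Subgroup.eq_of_le_of_card_ge (Subgroup.zpowers_le.mpr hg') ?_
        rw [hZc, Nat.card_zpowers, show c * g * c⁻¹ = MulAut.conj c g from rfl, MulEquiv.orderOf_eq, hg]
      have hmap : (Subgroup.centralizer ({g} : Set G)).map (MulAut.conj c).toMonoidHom = Z := by
        have h1 : Subgroup.centralizer ({c * g * c⁻¹} : Set G) = Z := by
          have := Subgroup.centralizer_closure ({c * g * c⁻¹} : Set G)
          rw [← Subgroup.zpowers_eq_closure, hgen] at this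
          rw [← this]; exact (congrArg (fun K : Subgroup G => Subgroup.centralizer (K : Set G)) (Subgroup.zpowers_eq_closure z)).trans ((Subgroup.centralizer_closure _).trans hC)
        rw [← h1]
        ext x
        rw [Subgroup.mem_centralizer_iff, Subgroup.mem_map]
        constructor
        · rintro ⟨y, hy, rfl⟩ w hw
          rw [Set.mem_singleton_iff.mp hw]
          show c * g * c⁻¹ * (c * y * c⁻¹) = c * y * c⁻¹ * (c * g * c⁻¹)
          have := Subgroup.mem_centralizer_iff.mp hy g rfl
          calc _ = c * (g * y) * c⁻¹ := by group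
            _ = c * (y * g) * c⁻¹ := by rw [this]
            _ = _ := by group
        · intro hx
          refine ⟨c⁻¹ * x * c, Subgroup.mem_centralizer_iff.mpr fun w hw => ?_, by
            show c * (c⁻¹ * x * c) * c⁻¹ = x; group⟩
          rw [Set.mem_singleton_iff.mp hw]
          have := hx _ rfl
          calc g * (c⁻¹ * x * c) = c⁻¹ * (c * g * c⁻¹ * x) * c := by group
            _ = c⁻¹ * (x * (c * g * c⁻¹)) * c := by rw [this]
            _ = _ := by group
      rw [← hZc, ← hmap]
      exact Nat.card_congr ((Subgroup.centralizer ({g} : Set G)).equivMapOfInjective _ (MulAut.conj c).injective).toEquiv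
    have h1 : Nat.card {h : G // IsConj g h} = Nat.card (MulAction.orbit (ConjAct G) g) :=
      Nat.card_congr (Equiv.subtypeEquivRight fun h => by
        rw [ConjAct.mem_orbit_conjAct]; exact isConj_comm)
    haveI := Fintype.ofFinite G
    rw [h1, ← hCg, Subgroup.nat_card_centralizer_nat_card_stabilizer]
    haveI := Fintype.ofFinite (MulAction.orbit (ConjAct G) g)
    haveI := Fintype.ofFinite (MulAction.stabilizer (ConjAct G) g)
    have this := MulAction.card_orbit_mul_card_stabilizer_eq_card_group (ConjAct G) g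
    rw [Nat.card_eq_fintype_card (α := MulAction.orbit (ConjAct G) g),
      Nat.card_eq_fintype_card (α := MulAction.stabilizer (ConjAct G) g), this]
    exact (Nat.card_eq_fintype_card (α := G)).symm.trans rfl
  -- count the classes
  haveI := Fintype.ofFinite G
  set t := Nat.card {c : ConjClasses G // ∃ g : G, ConjClasses.mk g = c ∧ orderOf g = p} with ht
  have ht' : Nat.card {g : G // orderOf g = p} * p = t * Nat.card G := by
    haveI := Fintype.ofFinite {c : ConjClasses G // ∃ g : G, ConjClasses.mk g = c ∧ orderOf g = p}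
    let e : {g : G // orderOf g = p} ≃
        Σ c : {c : ConjClasses G // ∃ g : G, ConjClasses.mk g = c ∧ orderOf g = p},
          {g : G // ConjClasses.mk g = c.1} :=
      { toFun := fun g => ⟨⟨ConjClasses.mk g.1, g.1, rfl, g.2⟩, g.1, rfl⟩
        invFun := fun a => ⟨a.2.1, by
          obtain ⟨⟨c, g, hgc, hg⟩, x, hx⟩ := a
          obtain ⟨d, hd⟩ := isConj_iff.mp (ConjClasses.mk_eq_mk_iff_isConj.mp (hgc.trans hx.symm))
          show orderOf x = p
          rw [← hd, show d * g * d⁻¹ = MulAut.conj d g from rfl, MulEquiv.orderOf_eq, hg]⟩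
        left_inv := fun g => rfl
        right_inv := fun a => by
          obtain ⟨⟨c, hc⟩, x, hx⟩ := a
          obtain rfl : ConjClasses.mk x = c := hx
          rfl }
    rw [Nat.card_congr e, Nat.card_sigma, Finset.sum_mul, Finset.sum_congr rfl (fun c _ => ?_),
      Finset.sum_const, Finset.card_univ, smul_eq_mul, ← Nat.card_eq_fintype_card]
    obtain ⟨c, g, hgc, hg⟩ := c
    rw [← hcent g hg]
    congr 1
    subst hgc
    exact Nat.card_congr (Equiv.subtypeEquivRight fun h => by
      rw [ConjClasses.mk_eq_mk_iff_isConj, isConj_comm])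
  obtain ⟨n, hn⟩ := (Nat.modEq_iff_dvd' (Nat.card_pos (α := Sylow p G))).mp (card_sylow_modEq_one p G).symm
  have hn' : Nat.card (Sylow p G) = 1 + n * p := by
    have := Nat.card_pos (α := Sylow p G)
    rw [mul_comm n p]; omega
  rw [hcount] at ht'
  have hsylmul := CfsgLib.SmallSimple.card_sylow_mul P
  obtain ⟨e, he⟩ : p ∣ Nat.card (Subgroup.normalizer ((P : Subgroup G) : Set G)) :=
    (hsyl P).symm.dvd.trans (Subgroup.card_dvd_of_le Subgroup.le_normalizer)
  have hte : t ∣ p - 1 := by
    refine ⟨e, ?_⟩
    rw [he] at hsylmul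
    rw [← hsylmul] at ht'
    refine Nat.eq_of_mul_eq_mul_left (Nat.mul_pos (Nat.card_pos (α := Sylow p G)) hp.pos) ?_
    calc Nat.card (Sylow p G) * p * (p - 1) = Nat.card (Sylow p G) * (p - 1) * p := by ring
      _ = _ := by rw [ht']; ring
  exact ⟨n, t, rfl, hte, hn', by rw [← hn', mul_comm (Nat.card G) t, ← ht']; ring⟩

end Cfsg.Agent.S0995
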