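import Cfsg.Agent.S0997
import Cfsg.Agent.S0073

/-!
# Simple groups of order `p r q ^ b`
-/

set_option autoImplicit false
set_option linter.style.haveILetI false

namespace Cfsg.Agent.S0998

theorem two_pow_mod_three (n : ℕ) :
    (2 ^ n % 3 = 1 ∧ n % 2 = 0) ∨ (2 ^ n % 3 = 2 ∧ n % 2 = 1) := by
  induction n with
  | zero => exact Or.inl ⟨rfl, rfl⟩
  | succ k ih => rw [pow_succ]; omega

theorem eq_three {k : ℕ} (hk : k.Prime) (h : k % 3 = 0) : k = 3 :=
  ((Nat.prime_dvd_prime_iff_eq Nat.prime_three hk).1 (Nat.dvd_of_mod_eq_zero h)).symm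

/-- `r q ^ b = 2 ^ k s` with `1 < s` odd and `2 ≤ k` forces `q = 2`. -/
theorem split {r q b k s : ℕ} (hr : r.Prime) (hq : q.Prime) (hqr : q ≠ r) (hk : 2 ≤ k)
    (hs : s % 2 = 1) (h : r * q ^ b = 2 ^ k * s) : r = s := by
  have h4 : 2 * 2 ∣ r * q ^ b :=
    h ▸ Dvd.dvd.mul_right (show (2 : ℕ) * 2 ∣ 2 ^ k from pow_dvd_pow 2 hk) s
  have hr2 : r ≠ 2 := fun e => by
    rw [e] at h4
    have h5 := Nat.dvd_of_mul_dvd_mul_left two_pos h4
    exact hqr (e.symm ▸ ((Nat.prime_dvd_prime_iff_eq Nat.prime_two hq).1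
      (Nat.prime_two.dvd_of_dvd_pow h5)).symm)
  have hq2 : q = 2 := by
    rcases Nat.prime_two.dvd_mul.1 ((dvd_mul_right 2 2).trans h4) with h5 | h5
    · exact absurd ((Nat.prime_dvd_prime_iff_eq Nat.prime_two hr).1 h5).symm hr2
    · exact ((Nat.prime_dvd_prime_iff_eq Nat.prime_two hq).1
        (Nat.prime_two.dvd_of_dvd_pow h5)).symm
  subst hq2
  have h6 : b = k := by
    have h1 := congrArg (fun n : ℕ => n.factorization 2) h
    rw [Nat.factorization_mul hr.ne_zero (by positivity),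
      Nat.factorization_mul (by positivity) (by omega), Finsupp.add_apply, Finsupp.add_apply,
      Nat.prime_two.factorization_pow, Nat.prime_two.factorization_pow, Finsupp.single_eq_same,
      Finsupp.single_eq_same,
      Nat.factorization_eq_zero_of_not_dvd (fun h2 => hr2
        ((Nat.prime_dvd_prime_iff_eq Nat.prime_two hr).1 h2).symm),
      Nat.factorization_eq_zero_of_not_dvd (show ¬ 2 ∣ s by omega)] at h1
    omega
  subst h6
  rw [mul_comm r] at h
  exact Nat.eq_of_mul_eq_mul_left (pow_pos two_pos _) h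

theorem main {G : Type*} [Group G] [Finite G] [IsSimpleGroup G] (hG : ¬ IsCyclic G) {p q r b : ℕ}
    (hp : p.Prime) (hq : q.Prime) (hr : r.Prime) (hpq : p ≠ q) (hqr : q ≠ r)
    (hG' : Nat.card G = p * r * q ^ b) (hlt : r < p - 1) :
    (∃ (F : Type) (_ : Field F) (_ : Fintype F), Fintype.card F = 5 ∧
      Nonempty (G ≃* Matrix.ProjectiveSpecialLinearGroup (Fin 2) F)) ∨
    (∃ (F : Type) (_ : Field F) (_ : Fintype F), Fintype.card F = 7 ∧
      Nonempty (G ≃* Matrix.ProjectiveSpecialLinearGroup (Fin 2) F)) := by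
  have hr2 := hr.two_le
  have hG'' : Nat.card G = p * q ^ b * r := by rw [hG']; ring
  have hodd := hp.odd_of_ne_two (by omega)
  rcases Cfsg.Agent.S0997.result hG p q b r hp hq hpq hG'' hlt with
    ⟨m, F, iF, iF', hF, hpm, ⟨iso⟩⟩ | ⟨m, F, iF, iF', hF, hpm, h3, ⟨iso⟩⟩
  · have hc := CfsgLib.Linear.Small.card_psl_two (F := F) hF
    rw [← Nat.card_congr iso.toEquiv, hG', show Nat.gcd 2 (p - 1) = 2 from
      Nat.gcd_eq_left (by obtain ⟨k, hk⟩ := hodd; exact ⟨k, by omega⟩)] at hc
    obtain ⟨t, rfl⟩ : ∃ t, p = t + 1 := ⟨p - 1, by omega⟩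
    rw [show t + 1 - 1 = t by omega,
      show (t + 1) ^ 2 - 1 = t * (t + 2) from Nat.sub_eq_of_eq_add (by ring),
      show (t + 1) ^ 2 - (t + 1) = (t + 1) * t from Nat.sub_eq_of_eq_add (by ring)] at hc
    have h2 : (t * (t + 1)) * (2 * (r * q ^ b)) = (t * (t + 1)) * (t * (t + 2)) := by linarith
    have h4 := Nat.eq_of_mul_eq_mul_left (Nat.mul_pos (by omega) (Nat.succ_pos t)) h2
    rcases hpm with hm | hm
    · have ht : t = 2 ^ m := by omega
      obtain ⟨k, rfl⟩ : ∃ k, m = k + 1 := ⟨m - 1, by rcases m with _ | m <;> simp_all⟩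
      have hk : 1 ≤ k := Nat.pos_of_ne_zero fun e => by subst e; norm_num at ht; omega
      have h5 : r * q ^ b = 2 ^ (k + 1) * (2 ^ k + 1) := by
        subst ht; rw [pow_succ] at h4 ⊢; nlinarith
      have hev : 2 ^ k % 2 = 0 :=
        Nat.dvd_iff_mod_eq_zero.1 (dvd_pow_self 2 (by omega))
      have h6 := split hr hq hqr (by omega) (by omega) h5
      have h7 := two_pow_mod_three k
      have h8 := pow_succ (2 : ℕ) k
      refine Or.inl ⟨F, iF, iF', ?_, ⟨iso⟩⟩
      rcases h7 with ⟨h7, -⟩ | ⟨h7, -⟩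
      · have := eq_three hp (by omega); omega
      · have := eq_three hr (by omega); omega
    · have ht : t + 2 = 2 ^ m := by have := Nat.two_pow_pos m; omega
      obtain ⟨k, rfl⟩ : ∃ k, m = k + 1 := ⟨m - 1, by rcases m with _ | m <;> simp_all⟩
      have hk : 2 ≤ k := by
        by_contra h
        interval_cases k <;> norm_num at ht <;> omega
      obtain ⟨s, hs⟩ : ∃ s, 2 ^ k = s + 1 :=
        ⟨2 ^ k - 1, by have := Nat.two_pow_pos k; omega⟩
      have h8 := pow_succ (2 : ℕ) k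
      have h5 : r * q ^ b = 2 ^ (k + 1) * s := by
        rw [h8, hs]
        have : t = 2 * s := by omega
        subst this; nlinarith
      have hev : 2 ^ k % 2 = 0 :=
        Nat.dvd_iff_mod_eq_zero.1 (dvd_pow_self 2 (by omega))
      have h6 := split hr hq hqr (by omega) (by omega) h5
      refine Or.inr ⟨F, iF, iF', ?_, ⟨iso⟩⟩
      rcases two_pow_mod_three k with ⟨h7, -⟩ | ⟨h7, -⟩
      · have := eq_three hr (by omega); omega
      · have := eq_three hp (by omega); omega
  · have hc := CfsgLib.Linear.Small.card_psl_two (F := F) hF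
    have hm2 : 2 ≤ m := by
      by_contra h
      interval_cases m <;> norm_num at hpm <;> omega
    obtain ⟨s, hs⟩ : ∃ s, 2 ^ m = s + 1 :=
      ⟨2 ^ m - 1, by have := Nat.two_pow_pos m; omega⟩
    have hev : 2 ^ m % 2 = 0 :=
      Nat.dvd_iff_mod_eq_zero.1 (dvd_pow_self 2 (by omega))
    rw [← Nat.card_congr iso.toEquiv, hG', show Nat.gcd 2 (2 ^ m - 1) = 1 from
      (Nat.prime_two.coprime_iff_not_dvd.2 (by omega)).gcd_eq_one] at hc
    have hp' : p = s + 2 := by omega
    subst hp'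
    rw [hs, show s + 1 - 1 = s by omega,
      show (s + 1) ^ 2 - 1 = s * (s + 2) from Nat.sub_eq_of_eq_add (by ring),
      show (s + 1) ^ 2 - (s + 1) = (s + 1) * s from Nat.sub_eq_of_eq_add (by ring)] at hc
    have h2 : (s * (s + 2)) * (r * q ^ b) = (s * (s + 2)) * (2 ^ m * s) := by
      rw [hs]; linarith
    have h4 := Nat.eq_of_mul_eq_mul_left (Nat.mul_pos (by omega) (by omega)) h2
    have h6 := split hr hq hqr hm2 (by omega) h4
    have h60 : Nat.card G = 60 := by
      have hs3 : s = 3 := by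
        rcases two_pow_mod_three m with ⟨h7, -⟩ | ⟨h7, -⟩
        · have := eq_three hr (by omega); omega
        · have := eq_three hp (by omega); omega
      rw [hG', mul_assoc, h4, hs, hs3]
      all_goals norm_num
    have hF5 : Fintype.card (ZMod 5) = 5 := ZMod.card 5
    haveI : Fact (Nat.Prime 5) := ⟨by norm_num⟩
    obtain ⟨e5⟩ := CfsgLib.Linear.Small.nonempty_psl_two_five (F := ZMod 5) hF5
    obtain ⟨P⟩ : Nonempty (Sylow 5 G) := Sylow.nonempty
    obtain ⟨e⟩ := CfsgLib.Dickson.OrderSixty.nonempty_mulEquiv h60 P fun hn => by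
      have hP := CfsgLib.Dickson.OrderSixty.card_eq_five h60 P
      rcases hn.eq_bot_or_eq_top with h1 | h1
      · rw [h1, Subgroup.card_bot] at hP
        norm_num at hP
      · rw [h1, Subgroup.card_top, h60] at hP
        norm_num at hP
    exact Or.inl ⟨ZMod 5, inferInstance, inferInstance, hF5, ⟨e.trans e5.symm⟩⟩

theorem result {G : Type*} [Group G] [Finite G] [IsSimpleGroup G] (hG : ¬ IsCyclic G) (p q r b : ℕ) (hp : p.Prime) (hq : q.Prime) (hr : r.Prime) (hpq : p ≠ q) (hpr : p ≠ r) (hqr : q ≠ r) (hG' : Nat.card G = p * r * q ^ b) : (∃ (F : Type) (_ : Field F) (_ : Fintype F), Fintype.card F = 5 ∧ Nonempty (G ≃* Matrix.ProjectiveSpecialLinearGroup (Fin 2) F)) ∨ (∃ (F : Type) (_ : Field F) (_ : Fintype F), Fintype.card F = 7 ∧ Nonempty (G ≃* Matrix.ProjectiveSpecialLinearGroup (Fin 2) F)) := by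
  by_cases h1 : r < p - 1
  · exact main hG hp hq hr hpq hqr hG' h1
  by_cases h2 : p < r - 1
  · exact main hG hr hq hp hqr.symm hpq.symm (by rw [hG', mul_comm p r]) h2
  exfalso
  have h6 : p * r = 6 := by
    have hp2 := hp.two_le
    have hr2 := hr.two_le
    rcases hp.eq_two_or_odd with rfl | hpo
    · obtain rfl : r = 3 := by omega
      rfl
    rcases hr.eq_two_or_odd with rfl | hro
    · obtain rfl : p = 3 := by omega
      rfl
    omega
  have hp23 : (p = 2 ∧ r = 3) ∨ (p = 3 ∧ r = 2) := by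
    have := hp.two_le
    have := hr.two_le
    have : p ≤ 3 := by nlinarith
    interval_cases p <;> omega
  have hq5 : 5 ≤ q := hq.five_le_of_ne_two_of_ne_three (by omega) (by omega)
  have hqo : q % 2 = 1 := hq.eq_two_or_odd.resolve_left (by omega)
  have hmf : (Nat.card G).minFac = 2 := (Nat.minFac_eq_two_iff _).2 (by rw [hG', h6]; omega)
  have hpow : q ^ b % 2 = 1 := Nat.odd_iff.1 ((Nat.odd_iff.2 hqo).pow)
  rcases Cfsg.Agent.S0073.result (G := G) (by
    by_contra hc
    push Not at hc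
    letI : CommGroup G := { ‹Group G› with mul_comm := hc }
    exact hG IsSimpleGroup.isCyclic) with h | h
  · rw [hmf, hG', h6] at h; omega
  · rw [hG', h6] at h; omega

end Cfsg.Agent.S0998
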