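import Cfsg.Statements.S1018
import Cfsg.Agent.SmallSimple.Basic

set_option autoImplicit false
open Cfsg

namespace Cfsg.Agent.S1018

/-- Let P be a Sylow p-subgroup of order p of a finite group G, and consider the action of G on the left cosets of the normalizer N of P. Then every element of order p fixes exactly one coset, and an element of N that does not centralize P fixes at most as many cosets as there are orbits of P. -/
theorem result {G : Type*} [Group G] [Finite G] (p : ℕ) [Fact p.Prime] (P : Sylow p G) (hP : Nat.card ↥(P : Subgroup G) = p) : (∀ y : G, orderOf y = p → Nat.card (MulAction.fixedBy (G ⧸ Subgroup.normalizer ((P : Subgroup G) : Set G)) y) = 1) ∧ ∀ x : G, x ∈ Subgroup.normalizer ((P : Subgroup G) : Set G) → x ∉ Subgroup.centralizer ((P : Subgroup G) : Set G) → Nat.card (MulAction.fixedBy (G ⧸ Subgroup.normalizer ((P : Subgroup G) : Set G)) x) ≤ Nat.card (MulAction.orbitRel.Quotient ↥(P : Subgroup G) (G ⧸ Subgroup.normalizer ((P : Subgroup G) : Set G))) := by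
  set N := Subgroup.normalizer ((P : Subgroup G) : Set G) with hN
  have hnrm : ∀ v : G, v • P = P ↔ v ∈ Subgroup.normalizer ((P : Subgroup G) : Set G) :=
    fun v => Sylow.smul_eq_iff_mem_normalizer
  have hfix : ∀ (x g : G), x • (g : G ⧸ N) = g ↔ x • (g • P) = g • P := by
    intro x g
    rw [MulAction.Quotient.smul_coe, smul_eq_mul, eq_comm, QuotientGroup.eq, hN, ← mul_assoc,
      ← hnrm, mul_smul, mul_smul, inv_smul_eq_iff]
  have hpP : ∀ Q : Sylow p G, Nat.card (Q : Subgroup G) = p := fun Q => by
    rw [Q.card_eq_multiplicity, ← P.card_eq_multiplicity, hP]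
  refine ⟨fun y hy => ?_, fun x hx hxC => ?_⟩
  · have hy1 : y ^ p ^ 1 = 1 := by rw [pow_one, ← hy, pow_orderOf_eq_one]
    have huniq : ∀ g : G, y • (g : G ⧸ N) = g → (g • P : Sylow p G).toSubgroup = Subgroup.zpowers y := by
      intro g hg
      have hmem := CfsgLib.SmallSimple.mem_sylow_of_smul_eq hy1 _ ((hfix y g).mp hg)
      exact (Subgroup.eq_of_le_of_card_ge (Subgroup.zpowers_le.mpr hmem)
        (by rw [hpP, Nat.card_zpowers, hy])).symm
    rw [Nat.card_eq_one_iff_unique]
    refine ⟨⟨fun a b => ?_⟩, ?_⟩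
    · obtain ⟨a, ha⟩ := a
      obtain ⟨b, hb⟩ := b
      induction a using QuotientGroup.induction_on with
      | H g =>
      induction b using QuotientGroup.induction_on with
      | H h =>
        have heq : g • P = h • P := Sylow.ext ((huniq g ha).trans (huniq h hb).symm)
        apply Subtype.ext
        show (g : G ⧸ N) = h
        rw [QuotientGroup.eq, hN, ← hnrm, mul_smul, ← heq, inv_smul_smul]
    · obtain ⟨Q, hQ⟩ := (IsPGroup.of_card (n := 1) (G := Subgroup.zpowers y)
        (by rw [Nat.card_zpowers, hy, pow_one])).exists_le_sylow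
      obtain ⟨g, hg⟩ := MulAction.exists_smul_eq G P Q
      refine ⟨⟨(g : G ⧸ N), (hfix y g).mpr ?_⟩⟩
      rw [hg, Sylow.smul_eq_iff_mem_normalizer]
      exact Subgroup.le_normalizer (hQ (Subgroup.mem_zpowers y))
  · refine Nat.card_le_card_of_injective
      (fun a => (Quotient.mk'' (a : G ⧸ N) : MulAction.orbitRel.Quotient (P : Subgroup G) (G ⧸ N))) ?_
    rintro ⟨a, ha⟩ ⟨b, hb⟩ hab
    have hab' := Quotient.exact' hab
    rw [MulAction.orbitRel_apply] at hab'
    obtain ⟨r, hr⟩ := hab'
    apply Subtype.ext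
    show a = b
    have hr' : (r : G) • b = a := hr
    by_cases hr1 : (r : G) = 1
    · rw [← hr', hr1, one_smul]
    have hxr : x * (r : G) * x⁻¹ ∈ (P : Subgroup G) := (Subgroup.mem_normalizer_iff.mp hx _).mp r.2
    set r' : G := (r : G)⁻¹ * (x * (r : G) * x⁻¹) with hr'def
    have hfb : r' • b = b := by
      rw [hr'def, mul_smul, mul_smul, mul_smul, inv_smul_eq_iff.mpr hb.symm, hr', ha, inv_smul_eq_iff]
      exact hr'.symm
    have hgen : ∀ v : G, v ∈ (P : Subgroup G) → v ≠ 1 → ∀ w ∈ (P : Subgroup G), w ∈ Subgroup.zpowers v := by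
      intro v hv hv1 w hw
      have hle : Subgroup.zpowers v ≤ (P : Subgroup G) := Subgroup.zpowers_le.mpr hv
      have heq : Subgroup.zpowers v = (P : Subgroup G) := by
        refine Subgroup.eq_of_le_of_card_ge hle ?_
        rw [hP, Nat.card_zpowers]
        have hd := Subgroup.card_dvd_of_le hle
        rw [hP, Nat.card_zpowers] at hd
        rcases (Nat.dvd_prime (Fact.out : p.Prime)).mp hd with h | h
        · exact absurd (orderOf_eq_one_iff.mp h) hv1
        · omega
      exact heq ▸ hw
    have hrne : r' ≠ 1 := by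
      intro h
      apply hxC
      rw [hr'def, inv_mul_eq_one, eq_mul_inv_iff_mul_eq] at h
      rw [Subgroup.mem_centralizer_iff]
      intro w hw
      obtain ⟨n, rfl⟩ := Subgroup.mem_zpowers_iff.mp (hgen (r : G) r.2 hr1 w hw)
      exact (Commute.zpow_left (show Commute (r : G) x from h) n)
    have hstab : (r : G) ∈ MulAction.stabilizer G b := by
      obtain ⟨n, hn⟩ := Subgroup.mem_zpowers_iff.mp
        (hgen r' (mul_mem (inv_mem r.2) hxr) hrne (r : G) r.2)
      exact hn ▸ zpow_mem (show r' ∈ MulAction.stabilizer G b from hfb) n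
    rw [← hr']
    exact hstab

end Cfsg.Agent.S1018
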