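import Cfsg.Statements.S1002
import Cfsg.Agent.SmallSimple.CountOrders
import Cfsg.Agent.S1018

set_option autoImplicit false
open Cfsg

namespace Cfsg.Agent.S1002

/-- No finite simple group has order 1004913 = 3^3 * 7 * 13 * 409. -/
theorem result {G : Type*} [Group G] [Finite G] [IsSimpleGroup G] : Nat.card G ≠ 1004913 := by
  
  intro h
  classical
  haveI := Fintype.ofFinite G
  haveI : Fact (Nat.Prime 3) := ⟨Nat.prime_three⟩
  haveI : Fact (Nat.Prime 7) := ⟨by norm_num⟩
  haveI : Fact (Nat.Prime 13) := ⟨by norm_num⟩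
  haveI : Fact (Nat.Prime 409) := ⟨by norm_num⟩
  have dvd3 : ∀ {a q r k : ℕ}, q.Prime → r.Prime → k ∣ 3 ^ a * (q * r) →
      ∃ i ≤ a, k = 3 ^ i ∨ k = 3 ^ i * q ∨ k = 3 ^ i * r ∨ k = 3 ^ i * (q * r) := by
    intro a q r k hq hr hk
    obtain ⟨x, y, hx, hy, rfl⟩ := Nat.dvd_mul.mp hk
    obtain ⟨c, d, hc, hd, rfl⟩ := Nat.dvd_mul.mp hy
    obtain ⟨i, hi, rfl⟩ := (Nat.dvd_prime_pow Nat.prime_three).mp hx
    refine ⟨i, hi, ?_⟩
    rcases (Nat.dvd_prime hq).mp hc with rfl | rfl <;> rcases (Nat.dvd_prime hr).mp hd with rfl | rfl <;> simp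
  obtain ⟨n7, s7⟩ := CfsgLib.SmallSimple.card_sylow_of_candidates (G := G) 7 143559 47853 (by rw [h]) (by norm_num) (by norm_num) (by
    intro k hd h1 h2
    obtain ⟨i, hi, e⟩ := dvd3 (a := 3) (q := 13) (r := 409) (by norm_num) (by norm_num) hd
    interval_cases i <;> rcases e with rfl | rfl | rfl | rfl <;> first | omega | (left; decide))
  obtain ⟨n13, s13⟩ := CfsgLib.SmallSimple.card_sylow_of_candidates (G := G) 13 77301 25767 (by rw [h]) (by norm_num) (by norm_num) (by
    intro k hd h1 h2
    obtain ⟨i, hi, e⟩ := dvd3 (a := 3) (q := 7) (r := 409) (by norm_num) (by norm_num) hd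
    interval_cases i <;> rcases e with rfl | rfl | rfl | rfl <;> first | omega | (left; decide))
  obtain ⟨n409, s409⟩ := CfsgLib.SmallSimple.card_sylow_of_candidates (G := G) 409 2457 819 (by rw [h]) (by norm_num) (by norm_num) (by
    intro k hd h1 h2
    obtain ⟨i, hi, e⟩ := dvd3 (a := 3) (q := 7) (r := 13) (by norm_num) (by norm_num) hd
    interval_cases i <;> rcases e with rfl | rfl | rfl | rfl <;> first | omega | (left; decide))
  have c7 := CfsgLib.Simple168.card_orderOf_prime (G := G) (p := 7) fun Q => (s7 Q).1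
  have c13 := CfsgLib.Simple168.card_orderOf_prime (G := G) (p := 13) fun Q => (s13 Q).1
  have c409 := CfsgLib.Simple168.card_orderOf_prime (G := G) (p := 409) fun Q => (s409 Q).1
  obtain ⟨P⟩ : Nonempty (Sylow 409 G) := inferInstance
  obtain ⟨hP, hN⟩ := s409 P
  rw [show 409 * (2457 / 819) = 1227 from rfl] at hN
  set N := Subgroup.normalizer ((P : Subgroup G) : Set G)
  obtain ⟨hfix, hfixN⟩ := Cfsg.Agent.S1018.result 409 P hP
  -- an element of order three in the normaliser
  obtain ⟨y, hy⟩ := exists_prime_orderOf_dvd_card' (G := N) 3 (by rw [hN]; norm_num)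
  have hy3 : orderOf (y : G) = 3 := (Subgroup.orderOf_coe y).trans hy
  -- it does not centralise
  have hyC : (y : G) ∉ Subgroup.centralizer ((P : Subgroup G) : Set G) := by
    intro hyC
    refine CfsgLib.SmallSimple.not_le_centralizer P (by rw [hP]; norm_num) (by rw [hP, h]; norm_num) ?_
    set C := Subgroup.centralizer ((P : Subgroup G) : Set G)
    have hCN : C ≤ N := Subgroup.centralizer_le_normalizer _
    have h409 : 409 ∣ Nat.card C := by
      haveI : IsCyclic (P : Subgroup G) := isCyclic_of_prime_card hP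
      exact hP ▸ Subgroup.card_dvd_of_le (fun x hx =>
        Subgroup.mem_centralizer_iff.2 fun w hw => setLike_mul_comm (S := Subgroup G) hw hx)
    have h3 : 3 ∣ Nat.card C := by
      have := orderOf_dvd_natCard (⟨y, hyC⟩ : C)
      rwa [← Subgroup.orderOf_coe, hy3] at this
    exact (Subgroup.eq_of_le_of_card_ge hCN (hN ▸ Nat.le_of_dvd Nat.card_pos
      (Nat.Coprime.mul_dvd_of_dvd_of_dvd (by norm_num : Nat.Coprime 3 409) h3 h409))).symm.le
  -- the orbits of the Sylow subgroup
  have hidx : Nat.card (G ⧸ N) = 819 := by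
    rw [← Subgroup.index_eq_card]; exact P.card_eq_index_normalizer.symm.trans n409
  have horb : Nat.card (MulAction.orbitRel.Quotient (P : Subgroup G) (G ⧸ N)) = 3 := by
    have hb := MulAction.sum_card_fixedBy_eq_card_orbits_mul_card_group (P : Subgroup G) (G ⧸ N)
    simp only [← Nat.card_eq_fintype_card] at hb
    rw [hP, ← Finset.add_sum_erase _ _ (Finset.mem_univ (1 : (P : Subgroup G)))] at hb
    have h1 : Nat.card (MulAction.fixedBy (G ⧸ N) (1 : (P : Subgroup G))) = 819 := by
      rw [← hidx]
      exact Nat.card_congr (Equiv.subtypeUnivEquiv fun a => one_smul _ a)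
    have h2 : ∀ r ∈ (Finset.univ : Finset (P : Subgroup G)).erase 1,
        Nat.card (MulAction.fixedBy (G ⧸ N) r) = 1 := fun r hr => by
      refine hfix (r : G) ?_
      rw [Subgroup.orderOf_coe]
      exact ((Nat.dvd_prime (by norm_num)).mp ((orderOf_dvd_natCard r).trans hP.dvd)).resolve_left
        fun e => Finset.ne_of_mem_erase hr (orderOf_eq_one_iff.mp e)
    rw [h1, Finset.sum_congr rfl h2, Finset.sum_const, Finset.card_erase_of_mem (Finset.mem_univ _),
      Finset.card_univ, ← Nat.card_eq_fintype_card, hP, smul_eq_mul] at hb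
    show Nat.card (Quotient (MulAction.orbitRel (P : Subgroup G) (G ⧸ N))) = 3
    omega
  -- its centraliser is small
  have hle := (hfixN y y.2 hyC).trans horb.le
  set Cy := Subgroup.centralizer ({(y : G)} : Set G)
  have horbit : Cy.relIndex ⊤ * 9 ≥ 1004913 := by
    set S := N.subgroupOf Cy
    have hS : S.index ≤ 3 := by
      refine le_trans ?_ hle
      rw [Subgroup.index_eq_card]
      refine Nat.card_le_card_of_injective (fun c => Quotient.liftOn' c
        (fun g : Cy => (⟨((g : G) : G ⧸ N), ?_⟩ : MulAction.fixedBy (G ⧸ N) (y : G))) ?_) ?_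
      · show (y : G) • (((g : G) : G ⧸ N)) = _
        rw [MulAction.Quotient.smul_coe, smul_eq_mul, ← Subgroup.mem_centralizer_singleton_iff.mp g.2]
        exact QuotientGroup.mk_mul_of_mem _ y.2
      · intro a b hab
        apply Subtype.ext
        show ((a : G) : G ⧸ N) = (b : G)
        rw [QuotientGroup.eq]
        exact Subgroup.mem_subgroupOf.mp (QuotientGroup.leftRel_apply.mp hab)
      · intro a b hab
        induction a using QuotientGroup.induction_on with
        | H a =>
        induction b using QuotientGroup.induction_on with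
        | H b =>
          have h3 := congrArg Subtype.val hab
          rw [QuotientGroup.eq]
          exact Subgroup.mem_subgroupOf.mpr (QuotientGroup.eq.mp h3)
    have hS3 : Nat.card S ≤ 3 := by
      have hd1 : Nat.card S ∣ 1227 := by
        rw [← hN, show Nat.card S = Nat.card ↥((N ⊓ Cy).subgroupOf Cy) by rw [Subgroup.inf_subgroupOf_right],
          Nat.card_congr (Subgroup.subgroupOfEquivOfLe (inf_le_right : N ⊓ Cy ≤ Cy)).toEquiv]
        exact Subgroup.card_dvd_of_le inf_le_left
      have h409 : ¬ 409 ∣ Nat.card S := by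
        intro hd
        obtain ⟨w, hw⟩ := exists_prime_orderOf_dvd_card' 409 hd
        have hw' : orderOf ((w : Cy) : G) = 409 := by rw [Subgroup.orderOf_coe, Subgroup.orderOf_coe, hw]
        have hwP : ((w : Cy) : G) ∈ (P : Subgroup G) := by
          refine CfsgLib.SmallSimple.mem_sylow_of_smul_eq (n := 1) ?_ P
            (Sylow.smul_eq_iff_mem_normalizer.mpr w.2)
          rw [pow_one, ← hw', pow_orderOf_eq_one]
        have hz : Subgroup.zpowers ((w : Cy) : G) = (P : Subgroup G) :=
          Subgroup.eq_of_le_of_card_ge (Subgroup.zpowers_le.mpr hwP) (by rw [hP, Nat.card_zpowers, hw'])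
        refine hyC (Subgroup.mem_centralizer_iff.mpr fun v hv => ?_)
        obtain ⟨j, rfl⟩ := Subgroup.mem_zpowers_iff.mp (hz ▸ hv : v ∈ Subgroup.zpowers ((w : Cy) : G))
        exact (Commute.zpow_left
          (show Commute ((w : Cy) : G) y from Subgroup.mem_centralizer_singleton_iff.mp (w : Cy).2) j).eq
      have : Nat.card S ∈ Nat.divisors 1227 := Nat.mem_divisors.mpr ⟨hd1, by norm_num⟩
      rw [show Nat.divisors 1227 = {1, 3, 409, 1227} by decide +kernel] at this
      simp only [Finset.mem_insert, Finset.mem_singleton] at this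
      rcases this with e | e | e | e
      · omega
      · omega
      · exact absurd ⟨1, by rw [e]⟩ h409
      · exact absurd ⟨3, by rw [e]⟩ h409
    have hC9 : Nat.card Cy ≤ 9 := by
      rw [← S.card_mul_index]; exact Nat.mul_le_mul hS3 hS
    rw [Subgroup.relIndex_top_right]
    have := Cy.card_mul_index
    rw [h] at this
    calc 1004913 = Nat.card Cy * Cy.index := this.symm
      _ ≤ 9 * Cy.index := Nat.mul_le_mul_right _ hC9
      _ = Cy.index * 9 := mul_comm _ _
  rw [Subgroup.relIndex_top_right] at horbit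
  -- conjugates of it
  have h3count : Cy.index ≤ Nat.card {g : G // orderOf g = 3} := by
    rw [Subgroup.index_eq_card]
    refine Nat.card_le_card_of_injective (fun c => Quotient.liftOn' c
      (fun g => (⟨g * y * g⁻¹, by rw [← MulAut.conj_apply, MulEquiv.orderOf_eq, hy3]⟩ : {g : G // orderOf g = 3})) ?_) ?_
    · intro a b hab
      have hc := Subgroup.mem_centralizer_singleton_iff.mp (QuotientGroup.leftRel_apply.mp hab)
      apply Subtype.ext
      show a * y * a⁻¹ = b * y * b⁻¹
      calc a * y * a⁻¹ = a * (y * (a⁻¹ * b)) * b⁻¹ := by group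
        _ = a * ((a⁻¹ * b) * y) * b⁻¹ := by rw [hc]
        _ = b * y * b⁻¹ := by group
    · intro a b hab
      induction a using QuotientGroup.induction_on with
      | H a =>
      induction b using QuotientGroup.induction_on with
      | H b =>
        have h3 : a * y * a⁻¹ = b * y * b⁻¹ := congrArg Subtype.val hab
        rw [QuotientGroup.eq, Subgroup.mem_centralizer_singleton_iff]
        calc a⁻¹ * b * y = a⁻¹ * (b * y * b⁻¹) * b := by group
          _ = y * (a⁻¹ * b) := by rw [← h3]; group
  -- too many elements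
  have htot : ∑ q ∈ ({3, 7, 13, 409} : Finset ℕ), Nat.card {g : G // orderOf g = q} ≤ Nat.card G := by
    simp only [Nat.card_eq_fintype_card, Fintype.card_subtype]
    rw [← Finset.card_biUnion]
    · exact Finset.card_le_univ _
    · intro a _ b _ hab
      exact Finset.disjoint_filter.mpr fun g _ h1 h2 => hab (h1.symm.trans h2)
  rw [Finset.sum_insert (by decide), Finset.sum_insert (by decide), Finset.sum_insert (by decide),
    Finset.sum_singleton] at htot
  rw [c7, c13, c409, n7, n13, n409, h] at htot
  norm_num at htot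
  simp only [← Nat.card_eq_fintype_card] at htot
  omega

end Cfsg.Agent.S1002
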