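import Cfsg.Statements.S1014
import Cfsg.Agent.SmallSimple.Basic

set_option autoImplicit false
open Cfsg

namespace Cfsg.Agent.S1014

/-- No finite simple group has order 1104 = 2^4 * 3 * 23. -/
theorem result {G : Type*} [Group G] [Finite G] [IsSimpleGroup G] : Nat.card G ≠ 1104 := by
  classical
  intro hG
  haveI : Fact (Nat.Prime 23) := ⟨by norm_num⟩
  haveI : Fact (Nat.Prime 2) := ⟨Nat.prime_two⟩
  obtain ⟨P⟩ : Nonempty (Sylow 23 G) := inferInstance
  have hP : Nat.card (P : Subgroup G) = 23 :=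
    (CfsgLib.SmallSimple.card_sylow_eq P (k := 1) (m := 48) (by rw [hG]; rfl) (by norm_num)).trans (pow_one 23)
  have hlt : Nat.card (P : Subgroup G) < Nat.card G := by rw [hP, hG]; norm_num
  have h1 : 1 < Nat.card (P : Subgroup G) := by rw [hP]; norm_num
  have hcomm := CfsgLib.SmallSimple.not_comm_of_sylow P h1 hlt
  have hn1 := CfsgLib.SmallSimple.card_sylow_ne_one P h1 hlt
  set N := Subgroup.normalizer ((P : Subgroup G) : Set G) with hN
  set C := Subgroup.centralizer ((P : Subgroup G) : Set G) with hC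
  have hmul := CfsgLib.SmallSimple.card_sylow_mul P
  rw [hG, ← hN] at hmul
  have hn : Nat.card (Sylow 23 G) = 24 := by
    have hi : (P : Subgroup G).index = 48 := by
      have := (P : Subgroup G).card_mul_index
      rw [hP, hG] at this; omega
    have hd : Nat.card (Sylow 23 G) ∣ 48 := hi ▸ P.card_dvd_index
    have hle := Nat.le_of_dvd (by norm_num) hd
    have hmod := card_sylow_modEq_one 23 G
    rw [Nat.ModEq] at hmod
    generalize Nat.card (Sylow 23 G) = n at hd hle hmod hn1
    interval_cases n <;> omega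
  rw [hn] at hmul
  have hN46 : Nat.card N = 46 := by omega
  have hCN : C ≤ N := Subgroup.centralizer_le_normalizer _
  haveI : IsCyclic (P : Subgroup G) := isCyclic_of_prime_card hP
  have hPC : (P : Subgroup G) ≤ C := fun a ha => Subgroup.mem_centralizer_iff.mpr fun b hb => by
    haveI := IsCyclic.commutative (α := (P : Subgroup G))
    exact congrArg Subtype.val (mul_comm' (⟨b, hb⟩ : (P : Subgroup G)) ⟨a, ha⟩)
  obtain ⟨xN, hxN⟩ := exists_prime_orderOf_dvd_card' (G := N) 2 (by rw [hN46]; norm_num)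
  set x : G := (xN : G) with hx
  have hx2 : orderOf x = 2 := by rw [hx, Subgroup.orderOf_coe, hxN]
  have hxC : x ∉ C := by
    intro h
    apply CfsgLib.SmallSimple.not_le_centralizer P h1 hlt
    rw [← hN, ← hC]
    have hd2 : 2 ∣ Nat.card C := by
      have := orderOf_dvd_natCard (⟨x, h⟩ : C)
      rwa [← Subgroup.orderOf_coe, hx2] at this
    have hd23 : 23 ∣ Nat.card C := hP ▸ Subgroup.card_dvd_of_le hPC
    have : 46 ∣ Nat.card C := Nat.Coprime.mul_dvd_of_dvd_of_dvd (by norm_num : Nat.Coprime 2 23) hd2 hd23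
    exact (Subgroup.eq_of_le_of_card_ge hCN (hN46 ▸ Nat.le_of_dvd Nat.card_pos this)).ge
  -- action on the 24 Sylow subgroups
  haveI := Fintype.ofFinite (Sylow 23 G)
  set f := MulAction.toPermHom G (Sylow 23 G) with hf
  have hxP : x • P = P := Sylow.smul_eq_iff_mem_normalizer.mpr xN.2
  have horb : ∀ Q : Sylow 23 G, Q ≠ P → MulAction.orbit (P : Subgroup G) Q = {R | R ≠ P} := by
    intro Q hQ
    have hfixP : ∀ r : (P : Subgroup G), (r : G) • P = P := fun r =>
      Sylow.smul_eq_iff_mem_normalizer.mpr (Subgroup.le_normalizer r.2)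
    refine Set.eq_of_subset_of_ncard_le ?_ ?_ (Set.toFinite _)
    · rintro _ ⟨r, rfl⟩ h
      exact hQ (MulAction.injective (r : G) (h.trans (hfixP r).symm))
    · have hcard : ({R | R ≠ P} : Set (Sylow 23 G)).ncard = 23 := by
        have : ({R | R ≠ P} : Set (Sylow 23 G)) = Set.univ \ {P} := by ext; simp
        rw [this, Set.ncard_sdiff_singleton_of_mem (Set.mem_univ _), Set.ncard_univ, hn]
      obtain ⟨j, hj⟩ := P.2.card_orbit Q
      rw [hcard, ← Nat.card_coe_set_eq, hj]
      rcases Nat.eq_zero_or_pos j with rfl | hj0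
      · exfalso
        rw [pow_zero, Nat.card_eq_one_iff_unique] at hj
        obtain ⟨hsub, -⟩ := hj
        apply hQ
        have hle : (P : Subgroup G) ≤ Q := fun r hr => by
          refine CfsgLib.SmallSimple.mem_sylow_of_smul_eq (n := 1) ?_ Q
            (congrArg Subtype.val (hsub.elim ⟨(⟨r, hr⟩ : (P : Subgroup G)) • Q, MulAction.mem_orbit Q _⟩ ⟨Q, MulAction.mem_orbit_self Q⟩))
          have h := pow_card_eq_one' (x := (⟨r, hr⟩ : (P : Subgroup G)))
          rw [hP] at h
          rw [pow_one]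
          exact congrArg Subtype.val h
        exact Sylow.ext (P.3 Q.2 hle)
      · calc 23 = 23 ^ 1 := (pow_one 23).symm
          _ ≤ 23 ^ j := Nat.pow_le_pow_right (by norm_num) hj0
  have hfix : ∀ Q R : Sylow 23 G, Q ≠ P → R ≠ P → x • Q = Q → x • R = R → Q = R := by
    intro Q R hQ hR hxQ hxR
    have hmem : R ∈ MulAction.orbit (P : Subgroup G) Q := (horb Q hQ).ge hR
    obtain ⟨r, hr⟩ := hmem
    have hr' : (r : G) • Q = R := hr
    have hxr : x * (r : G) * x⁻¹ ∈ (P : Subgroup G) := (Subgroup.mem_normalizer_iff.mp xN.2 _).mp r.2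
    -- the map `P → orbit` is injective
    have hinj : ∀ a b : (P : Subgroup G), (a : G) • Q = (b : G) • Q → a = b := by
      intro a b hab
      by_contra hne
      have hfixd : ((a⁻¹ * b : (P : Subgroup G)) : G) • Q = Q := by
        rw [Subgroup.coe_mul, Subgroup.coe_inv, mul_smul, ← hab, inv_smul_smul]
      have hle : (P : Subgroup G) ≤ Q := by
        intro c hc
        have hgen : Subgroup.zpowers (a⁻¹ * b) = ⊤ := zpowers_eq_top_of_prime_card hP (fun h => hne (inv_mul_eq_one.mp h))
        have hst : a⁻¹ * b ∈ MulAction.stabilizer (P : Subgroup G) Q := hfixd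
        have hc' : (⟨c, hc⟩ : (P : Subgroup G)) ∈ MulAction.stabilizer (P : Subgroup G) Q :=
          Subgroup.zpowers_le.mpr hst (hgen ▸ Subgroup.mem_top _)
        refine CfsgLib.SmallSimple.mem_sylow_of_smul_eq (n := 1) ?_ Q hc'
        have h := pow_card_eq_one' (x := (⟨c, hc⟩ : (P : Subgroup G)))
        rw [hP] at h
        rw [pow_one]
        exact congrArg Subtype.val h
      exact hQ (Sylow.ext (P.3 Q.2 hle))
    have heq : (⟨x * (r : G) * x⁻¹, hxr⟩ : (P : Subgroup G)) = r := hinj _ _ (by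
      show (x * (r : G) * x⁻¹) • Q = (r : G) • Q
      rw [mul_smul, mul_smul, inv_smul_eq_iff.mpr hxQ.symm, hr', hxR])
    by_contra hne
    apply hxC
    have hr1 : r ≠ 1 := by
      rintro rfl
      rw [Subgroup.coe_one, one_smul] at hr'
      exact hne hr'
    rw [Subgroup.mem_centralizer_iff]
    intro c hc
    obtain ⟨i, hi⟩ := Subgroup.mem_zpowers_iff.mp
      ((zpowers_eq_top_of_prime_card hP hr1).ge (Subgroup.mem_top (⟨c, hc⟩ : (P : Subgroup G))))
    have hcr : (r : G) ^ i = c := by rw [← Subgroup.coe_zpow, hi]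
    rw [← hcr]
    have he : x * (r : G) * x⁻¹ = r := congrArg Subtype.val heq
    exact (Commute.zpow_left (show Commute (r : G) x from (mul_inv_eq_iff_eq_mul.mp he).symm) i)
  -- parity
  have hsq : f x ^ 2 = 1 := by rw [← map_pow, ← hx2, pow_orderOf_eq_one, map_one]
  have hfx : f x ≠ 1 := by
    intro h
    have hker : f.ker = ⊥ := by
      rcases IsSimpleGroup.eq_bot_or_eq_top_of_normal f.ker inferInstance with h' | h'
      · exact h'
      · exfalso
        obtain ⟨Q, hQ⟩ : ∃ Q : Sylow 23 G, Q ≠ P := by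
          haveI : Nontrivial (Sylow 23 G) := Finite.one_lt_card_iff_nontrivial.mp (by rw [hn]; norm_num)
          exact exists_ne P
        obtain ⟨g, hg⟩ := MulAction.exists_smul_eq G P Q
        have : g ∈ f.ker := h' ▸ Subgroup.mem_top g
        exact hQ (hg.symm.trans (Equiv.congr_fun (MonoidHom.mem_ker.mp this) P))
    have : x = 1 := (MonoidHom.ker_eq_bot_iff f).mp hker (h.trans (map_one f).symm)
    rw [this, orderOf_one] at hx2
    norm_num at hx2
  obtain ⟨k, hk⟩ := Equiv.Perm.cycleType_prime_order (σ := f x) (by rw [orderOf_eq_prime hsq hfx]; exact Nat.prime_two)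
  rw [orderOf_eq_prime hsq hfx] at hk
  have hsum := (f x).sum_cycleType
  rw [hk, Multiset.sum_replicate, smul_eq_mul] at hsum
  have hsign := Equiv.Perm.sign_of_cycleType (f x)
  rw [CfsgLib.SmallSimple.sign_eq_one hcomm f x, hk, Multiset.sum_replicate, Multiset.card_replicate, smul_eq_mul] at hsign
  have hcard24 : Fintype.card (Sylow 23 G) = 24 := by rw [← Nat.card_eq_fintype_card, hn]
  have hcompl : (f x).supportᶜ.card ≤ 2 := by
    by_contra h
    have hmemc : ∀ Q, Q ∈ (f x).supportᶜ → x • Q = Q := fun Q hQ => by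
      rw [Finset.mem_compl, Equiv.Perm.notMem_support] at hQ
      exact hQ
    have hPm : P ∈ (f x).supportᶜ := by
      rw [Finset.mem_compl, Equiv.Perm.notMem_support]; exact hxP
    have h2 : 1 < ((f x).supportᶜ.erase P).card := by rw [Finset.card_erase_of_mem hPm]; omega
    obtain ⟨Q, hQ, R, hR, hne⟩ := Finset.one_lt_card.mp h2
    rw [Finset.mem_erase] at hQ hR
    exact hne (hfix Q R hQ.1 hR.1 (hmemc Q hQ.2) (hmemc R hR.2))
  have hP' : P ∉ (f x).support := by rw [Equiv.Perm.notMem_support]; exact hxP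
  have hlt' : (f x).support.card < 24 := hcard24 ▸ Finset.card_lt_univ_of_notMem hP'
  rw [Finset.card_compl, hcard24] at hcompl
  have hk11 : k + 1 = 11 := by omega
  rw [hk11] at hsign
  exact absurd hsign (by decide)

end Cfsg.Agent.S1014
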