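import Cfsg.Statements.S1015
import Cfsg.Agent.SmallSimple.Basic
import Cfsg.Agent.S0985

set_option autoImplicit false
open Cfsg

namespace Cfsg.Agent.S1015

/-- No finite simple group has order 1200 = 2^4 * 3 * 5^2. -/
theorem result {G : Type*} [Group G] [Finite G] [IsSimpleGroup G] : Nat.card G ≠ 1200 := by
  intro hG
  haveI : Fact (Nat.Prime 5) := ⟨by norm_num⟩
  obtain ⟨P⟩ : Nonempty (Sylow 5 G) := inferInstance
  have hP : ∀ P : Sylow 5 G, Nat.card (P : Subgroup G) = 5 ^ 2 := fun P =>
    CfsgLib.SmallSimple.card_sylow_eq P (m := 48) (by rw [hG]; rfl) (by norm_num)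
  have hlt : Nat.card (P : Subgroup G) < Nat.card G := by rw [hP, hG]; norm_num
  have h1 : 1 < Nat.card (P : Subgroup G) := by rw [hP]; norm_num
  have hn1 := CfsgLib.SmallSimple.card_sylow_ne_one P h1 hlt
  have hi : (P : Subgroup G).index = 48 := by
    have := (P : Subgroup G).card_mul_index
    rw [hP, hG] at this; omega
  have hd : Nat.card (Sylow 5 G) ∣ 48 := hi ▸ P.card_dvd_index
  have hle := Nat.le_of_dvd (by norm_num) hd
  have hmod := card_sylow_modEq_one 5 G
  rw [Nat.ModEq] at hmod
  have hn : Nat.card (Sylow 5 G) = 6 ∨ Nat.card (Sylow 5 G) = 16 := by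
    generalize Nat.card (Sylow 5 G) = n at hd hle hmod hn1
    interval_cases n <;> omega
  -- two Sylow subgroups meeting in a subgroup of index at most five
  obtain ⟨Q, R, hQR, hidx⟩ : ∃ Q R : Sylow 5 G, Q ≠ R ∧ ((R : Subgroup G).subgroupOf (Q : Subgroup G)).index ≤ 5 := by
    have h25 : ¬ Nat.card (Sylow 5 G) ≡ 1 [MOD 5 ^ 2] := by rw [Nat.ModEq]; rcases hn with h | h <;> omega
    simpa using Cfsg.Agent.S0985.result 5 2 h25
  have hcomm : ∀ S : Sylow 5 G, ∀ a ∈ (S : Subgroup G), ∀ b ∈ (S : Subgroup G), a * b = b * a := fun S a ha b hb =>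
    congrArg Subtype.val (IsPGroup.commutative_of_card_eq_prime_sq (p := 5) (hP S) ⟨a, ha⟩ ⟨b, hb⟩)
  set K := (Q : Subgroup G) ⊓ (R : Subgroup G) with hK
  have hKne : K ≠ ⊥ := by
    intro h
    have hsub : (R : Subgroup G).subgroupOf (Q : Subgroup G) = ⊥ := by
      rw [eq_bot_iff]
      intro y hy
      have : (y : G) ∈ K := ⟨y.2, hy⟩
      rw [h] at this
      exact Subtype.ext (Subgroup.mem_bot.mp this)
    rw [hsub, Subgroup.index_bot, hP] at hidx
    norm_num at hidx
  set N := Subgroup.normalizer (K : Set G) with hN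
  have hleN : ∀ S : Sylow 5 G, K ≤ S → (S : Subgroup G) ≤ N := by
    intro S hS s hs
    refine Subgroup.mem_normalizer_iff.mpr fun k => ?_
    constructor
    · intro hk
      rw [hcomm S s hs k (hS hk), mul_inv_cancel_right]
      exact hk
    · intro hk
      have h := hcomm S _ (hS hk) s hs
      rw [inv_mul_cancel_right] at h
      rwa [← mul_left_cancel h] at hk
  have hQN := hleN Q inf_le_left
  have hRN := hleN R inf_le_right
  have hNtop : N ≠ ⊤ := by
    intro h
    have hn : K.Normal := Subgroup.normalizer_eq_top_iff.mp h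
    rcases IsSimpleGroup.eq_bot_or_eq_top_of_normal K hn with h' | h'
    · exact hKne h'
    · have hle : (⊤ : Subgroup G) ≤ Q := h' ▸ inf_le_left
      have := Subgroup.card_le_of_le hle
      rw [Subgroup.card_top, hP, hG] at this
      norm_num at this
  -- the normaliser has at least six Sylow five-subgroups
  have h6 : 6 ≤ Nat.card (Sylow 5 N) := by
    have hmodN := card_sylow_modEq_one 5 N
    haveI : Nontrivial (Sylow 5 N) := ⟨⟨Q.subtype hQN, R.subtype hRN, fun h => hQR (Sylow.subtype_injective h)⟩⟩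
    have := Finite.one_lt_card (α := Sylow 5 N)
    rw [Nat.ModEq] at hmodN
    omega
  have hdiv : Nat.card (Sylow 5 N) ∣ ((Q.subtype hQN : Sylow 5 N) : Subgroup N).index := Sylow.card_dvd_index _
  have hmulN := ((Q.subtype hQN : Sylow 5 N) : Subgroup N).card_mul_index
  have hQc : Nat.card ((Q.subtype hQN : Sylow 5 N) : Subgroup N) = 25 := by
    rw [Sylow.coe_subtype, Nat.card_congr (Subgroup.subgroupOfEquivOfLe hQN).toEquiv, hP]; rfl
  rw [hQc] at hmulN
  have hNi := N.card_mul_index
  rw [hG] at hNi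
  have hidx48 : ((Q.subtype hQN : Sylow 5 N) : Subgroup N).index * N.index = 48 := by nlinarith
  have hpos : 6 ≤ ((Q.subtype hQN : Sylow 5 N) : Subgroup N).index :=
    h6.trans (Nat.le_of_dvd (Nat.pos_of_ne_zero fun h0 => by rw [h0, zero_mul] at hidx48; omega) hdiv)
  have h8 : N.index ≤ 8 := by nlinarith
  have hbig := CfsgLib.SmallSimple.card_dvd_factorial N hNtop
  rw [hG] at hbig
  have := hbig.trans (Nat.factorial_dvd_factorial h8)
  norm_num [Nat.factorial] at this

end Cfsg.Agent.S1015
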