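import Cfsg.Statements.S1017
import Cfsg.Agent.SmallSimple.SelfCentralSylow
-- import your own Cfsg.Agent.* helpers here

set_option autoImplicit false
open Cfsg
open scoped commutatorElement Pointwise

namespace Cfsg.Agent.S1017

/-- No finite simple group has order 2016 = 2^5 * 3^2 * 7. -/
theorem result {G : Type*} [Group G] [Finite G] [IsSimpleGroup G] : Nat.card G ≠ 2016 := by
    intro hn
    haveI : Fact (Nat.Prime 7) := ⟨by norm_num⟩
    have hG : ¬ IsCyclic G := fun h => by
      letI : CommGroup G := IsCyclic.commGroup
      have := IsSimpleGroup.prime_card (α := G)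
      rw [hn] at this
      norm_num at this
    obtain ⟨e, he, he1, m, hm, hme⟩ := CfsgLib.SelfCentralSylow.sylow_count hG (p := 2) (q := 3)
      (r := 7) (a := 5) (b := 2) Nat.prime_two Nat.prime_three (by norm_num) (by norm_num)
      (by norm_num) (by rw [hn]; norm_num)
    have h6 : e ≤ 6 := Nat.le_of_dvd (by norm_num) he
    interval_cases e <;> omega


end Cfsg.Agent.S1017
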