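import Cfsg.Statements.S1019

set_option autoImplicit false
open Cfsg

namespace Cfsg.Agent.S1019

/-- Let H be a subgroup of a finite group G and x an element of H. In the action of G on the left cosets of H, the number of cosets fixed by x, multiplied by the size of the conjugacy class of x, equals the index of H multiplied by the number of conjugates of x that lie in H. -/
theorem result {G : Type*} [Group G] [Finite G] (H : Subgroup G) (x : G) (hx : x ∈ H) : Nat.card (MulAction.fixedBy (G ⧸ H) x) * Nat.card {g : G // IsConj x g} = H.index * Nat.card {g : G // IsConj x g ∧ g ∈ H} := by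
  classical
  let T := {p : {g : G // IsConj x g} × (G ⧸ H) // (p.1 : G) • p.2 = p.2}
  have e1 : Nat.card T = Nat.card (Σ y : {g : G // IsConj x g}, MulAction.fixedBy (G ⧸ H) (y : G)) :=
    Nat.card_congr ⟨fun p => ⟨p.1.1, p.1.2, p.2⟩, fun p => ⟨(p.1, p.2.1), p.2.2⟩, fun p => rfl, fun p => rfl⟩
  have e2 : Nat.card T = Nat.card (Σ a : G ⧸ H, {g : G // IsConj x g ∧ g • a = a}) :=
    Nat.card_congr ⟨fun p => ⟨p.1.2, p.1.1.1, p.1.1.2, p.2⟩, fun p => ⟨(⟨p.2.1, p.2.2.1⟩, p.1), p.2.2.2⟩,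
      fun p => rfl, fun p => rfl⟩
  have f1 : ∀ y : {g : G // IsConj x g},
      Nat.card (MulAction.fixedBy (G ⧸ H) (y : G)) = Nat.card (MulAction.fixedBy (G ⧸ H) x) := by
    intro y
    obtain ⟨c, hc⟩ := isConj_iff.mp y.2
    refine (Nat.card_congr ((MulAction.toPerm c).subtypeEquiv fun a => ?_)).symm
    show x • a = a ↔ (y : G) • (c • a) = c • a
    rw [← hc, mul_smul, mul_smul, inv_smul_smul, smul_left_cancel_iff]
  have f2 : ∀ a : G ⧸ H, Nat.card {g : G // IsConj x g ∧ g • a = a} =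
      Nat.card {g : G // IsConj x g ∧ g ∈ H} := by
    intro a
    induction a using QuotientGroup.induction_on with
    | H c =>
      refine Nat.card_congr ((MulAut.conj c⁻¹).toEquiv.subtypeEquiv fun g => ?_)
      show IsConj x g ∧ g • (c : G ⧸ H) = c ↔ IsConj x (c⁻¹ * g * c⁻¹⁻¹) ∧ c⁻¹ * g * c⁻¹⁻¹ ∈ H
      have h1 : IsConj g (c⁻¹ * g * c⁻¹⁻¹) := isConj_iff.mpr ⟨c⁻¹, rfl⟩
      have h2 : g • (c : G ⧸ H) = c ↔ c⁻¹ * g * c⁻¹⁻¹ ∈ H := by
        rw [MulAction.Quotient.smul_coe, smul_eq_mul, eq_comm, QuotientGroup.eq, inv_inv, mul_assoc]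
      exact and_congr ⟨fun h => h.trans h1, fun h => h.trans h1.symm⟩ h2
  haveI := Fintype.ofFinite {g : G // IsConj x g}
  haveI := Fintype.ofFinite (G ⧸ H)
  rw [e2, Nat.card_sigma, Nat.card_sigma] at e1
  simp only [f1, f2, Finset.sum_const, Finset.card_univ, smul_eq_mul, ← Nat.card_eq_fintype_card] at e1
  rw [← Subgroup.index_eq_card, mul_comm (Nat.card {g : G // IsConj x g})] at e1
  exact e1.symm

end Cfsg.Agent.S1019
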