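import Cfsg.Statements.S1024
import Cfsg.Agent.Chev.GoodAll

set_option autoImplicit false
open Cfsg

namespace Cfsg.Agent.S1024

/-- `x_r(0) = 1`, and `x_r(t) = 1` forces `t = 0`: the map `t ↦ x_r(t)` is injective. -/
theorem result {F : Type*} [Field F] (D : Cfsg.Lie.ChevalleyDatum) (hD : D ∈ [Cfsg.Lie.chevG2, Cfsg.Lie.chevB2, Cfsg.Lie.chevD4, Cfsg.Lie.chevF4, Cfsg.Lie.chevE6, Cfsg.Lie.chevE7, Cfsg.Lie.chevE8]) (r : ℕ) (hr : r < D.nroots) (t : F) :
    D.x F r t = 1 ↔ t = 0 := by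
  obtain ⟨T, G⟩ := CfsgLib.Chev.exists_good hD
  constructor
  · intro h
    obtain ⟨j, hj⟩ := G.exists_cor_ne_zero (F := F) hr
    have hne := G.full.cert.negR_ne hr
    have hn := CfsgLib.Chev.Tab.Cert.negR_lt (D := D) hr
    have e := G.full.cert.agree_spec hr
    have h2 := congrFun (congrFun h (Sum.inl j)) (Sum.inr ⟨_, hn⟩)
    rw [Cfsg.Lie.ChevalleyDatum.x, dif_pos hr, Cfsg.Lie.ChevalleyDatum.xMat] at h2
    have en : D.negIdx.getD r 0 = CfsgLib.Chev.Tab.negR D r := e.2.1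
    have h3 : (⟨_, hn⟩ : Fin D.nroots) ≠ ⟨r, hr⟩ := fun he => hne (congrArg Fin.val he)
    simp only [Matrix.of_apply, en, if_true, if_neg h3] at h2
    rw [G.full.cert.coroot_eq j.isLt hr] at h2
    simpa [hj] using h2
  · rintro rfl
    rw [← G.full.coe_x', G.full.x_zero, Units.val_one]

end Cfsg.Agent.S1024
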