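import Cfsg.Statements.S1026
import Cfsg.Agent.Chev.GoodAll

set_option autoImplicit false
open Cfsg

namespace Cfsg.Agent.S1026

/-- Every element of `U` has a unique expression `∏_{r ∈ Φ⁺} x_r(t_r)`, the product over the positive roots in increasing index order (the coefficient family `t`, supported on the positive roots, exists and is unique); and conversely every such ordered product is the matrix of an element of `U`. -/
theorem result {F : Type*} [Field F] (D : Cfsg.Lie.ChevalleyDatum) (hD : D ∈ [Cfsg.Lie.chevG2, Cfsg.Lie.chevB2, Cfsg.Lie.chevD4, Cfsg.Lie.chevF4, Cfsg.Lie.chevE6, Cfsg.Lie.chevE7, Cfsg.Lie.chevE8]) :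
    (∀ g : GL D.Idx F, g ∈ D.posUnipotent F →
      ∃! t : ℕ → F, (∀ r, ¬ D.IsPosRoot r → t r = 0) ∧
        (g : Matrix D.Idx D.Idx F) = D.wordMat F (D.posRoots.map fun r => (r, t r))) ∧
    (∀ t : ℕ → F, ∃ g : GL D.Idx F, g ∈ D.posUnipotent F ∧
      (g : Matrix D.Idx D.Idx F) = D.wordMat F (D.posRoots.map fun r => (r, t r))) := by
  obtain ⟨T, G⟩ := CfsgLib.Chev.exists_good hD
  refine ⟨fun g hg => ?_, fun t => ⟨_, ?_, G.coe_segProd_pos t⟩⟩
  · rw [G.posUnipotent_eq] at hg
    obtain ⟨f, hf⟩ : g ∈ Set.range fun f => G.segProd {r | CfsgLib.Chev.Tab.IsPos D r} f 0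
        D.nroots := by
      rw [← G.US_eq_range G.closed_pos]; exact hg
    classical
    refine ⟨fun r => if D.IsPosRoot r then f r else 0, ⟨fun r hr => if_neg hr, ?_⟩, ?_⟩
    · rw [← G.coe_segProd_pos, ← hf]
      refine congrArg _ (G.segProd_congr _ _ _ fun r hr _ => ?_)
      exact (if_pos (G.isPosRoot_iff.mpr hr)).symm
    · rintro t ⟨ht0, ht⟩
      rw [← G.coe_segProd_pos, ← hf] at ht
      have h := G.segProd_injective G.closed_pos D.nroots 0 _ _ (zero_add _) (Units.ext ht)
      funext r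
      by_cases hr : D.IsPosRoot r
      · rw [if_pos hr, h r (G.isPosRoot_iff.mp hr) (Nat.zero_le _)]
      · rw [if_neg hr, ht0 r hr]
  · rw [G.posUnipotent_eq]
    exact G.US_mono (fun s hs => hs.1) (G.segProd_mem _ t D.nroots 0)

end Cfsg.Agent.S1026
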