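import Cfsg.Statements.S1034
import Cfsg.Agent.Chev.GoodAll
import Cfsg.Agent.Chev.Struct

set_option autoImplicit false
open Cfsg

namespace Cfsg.Agent.S1034

/-- Every element of `H` is a product `h_{p_1}(c_1) ⋯ h_{p_l}(c_l)` over the fundamental roots, with non-zero `c_i`. -/
theorem result {F : Type*} [Field F] (D : Cfsg.Lie.ChevalleyDatum) (hD : D ∈ [Cfsg.Lie.chevG2, Cfsg.Lie.chevB2, Cfsg.Lie.chevD4, Cfsg.Lie.chevF4, Cfsg.Lie.chevE6, Cfsg.Lie.chevE7, Cfsg.Lie.chevE8]) (g : GL D.Idx F) (hg : g ∈ D.diagonalSubgroup F) :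
    ∃ c : ℕ → F, (∀ i < D.rank, c i ≠ 0) ∧
      (g : Matrix D.Idx D.Idx F) = D.wordMat F ((List.range D.rank).flatMap fun i => D.hWord (D.simple i) (c i)) := by
  obtain ⟨T, G⟩ := CfsgLib.Chev.exists_good hD
  rw [G.full.diagonal_eq_range] at hg
  obtain ⟨c, rfl⟩ := hg
  refine ⟨fun i => if h : i < D.rank then (c ⟨i, h⟩ : F) else 1, fun i hi => by simp [hi], ?_⟩
  let hv : Fin D.rank → GL D.Idx F := fun i => G.full.hr (D.simple i) (c i : F)
  have hprod : T.hT F c = (List.ofFn hv).prod := by
    have e : c = (List.ofFn fun i => Pi.mulSingle i (c i)).prod := by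
      rw [List.prod_ofFn, Finset.univ_prod_mulSingle]
    conv_lhs => rw [e]
    rw [map_list_prod, List.map_ofFn]
    refine congrArg List.prod (congrArg List.ofFn (funext fun i => ?_))
    exact G.full.hT_single (c i)
  have hw : D.wordMat F ((List.range D.rank).flatMap fun i =>
      D.hWord (D.simple i) (if h : i < D.rank then (c ⟨i, h⟩ : F) else 1)) =
      (((List.range D.rank).map fun i =>
        D.hMat F (D.simple i) (if h : i < D.rank then (c ⟨i, h⟩ : F) else 1))).prod := by
    simp only [Cfsg.Lie.ChevalleyDatum.wordMat, Cfsg.Lie.ChevalleyDatum.hMat, List.map_flatMap]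
    induction List.range D.rank with
    | nil => simp
    | cons a L ih => simp [ih]
  rw [hw, hprod, ← Units.coeHom_apply, map_list_prod, List.ofFn_eq_map, ← List.map_coe_finRange_eq_range,
    List.map_map, List.map_map]
  refine congrArg List.prod (List.map_congr_left fun i _ => ?_)
  simp only [Function.comp_apply, Units.coeHom_apply, hv, G.full.coe_hr _ (G.full.simple_lt i.isLt),
    i.isLt, dif_pos, Fin.eta]

end Cfsg.Agent.S1034
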