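import Cfsg.Statements.S1035
import Cfsg.Agent.Chev.GoodAll
import Cfsg.Agent.Chev.OrdG2
import Cfsg.Agent.Chev.OrdF4
import Cfsg.Agent.Chev.OrdE8
import Cfsg.Agent.Chev.OrdE6
import Cfsg.Agent.Chev.OrdE7
import Cfsg.Agent.Chev.OrdB2
import Cfsg.Agent.Chev.OrdD4

set_option autoImplicit false
open Cfsg

namespace Cfsg.Agent.S1035

/-- `d · |H| = (q - 1)^rank` over a field with `q` elements, with `d = 1` (G₂, F₄, E₈), `gcd(3, q-1)` (E₆), `gcd(2, q-1)` (E₇, B₂), `gcd(2, q-1)²` (D₄). -/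
theorem result {F : Type*} [Field F] [Fintype F] {q : ℕ} (hq : Fintype.card F = q)
    (p : Cfsg.Lie.ChevalleyDatum × ℕ)
    (hp : p ∈ [(Cfsg.Lie.chevG2, 1), (Cfsg.Lie.chevF4, 1), (Cfsg.Lie.chevE8, 1), (Cfsg.Lie.chevE6, Nat.gcd 3 (q - 1)),
      (Cfsg.Lie.chevE7, Nat.gcd 2 (q - 1)), (Cfsg.Lie.chevB2, Nat.gcd 2 (q - 1)), (Cfsg.Lie.chevD4, Nat.gcd 2 (q - 1) ^ 2)]) :
    p.2 * Nat.card (p.1.diagonalSubgroup F) = (q - 1) ^ p.1.rank := by
  simp only [List.mem_cons, List.not_mem_nil, or_false] at hp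
  rcases hp with rfl | rfl | rfl | rfl | rfl | rfl | rfl
  · have hd := CfsgLib.Chev.good_G2.card_diagonal (F := F) CfsgLib.Chev.G2Data.smith_ok
    simp only [CfsgLib.Chev.G2Data.smith, List.map_cons, List.map_nil, List.prod_cons,
      List.prod_nil, Nat.gcd_one_right, one_mul, mul_one, hq] at hd
    simpa using hd
  · have hd := CfsgLib.Chev.good_F4.card_diagonal (F := F) CfsgLib.Chev.F4Data.smith_ok
    simp only [CfsgLib.Chev.F4Data.smith, List.map_cons, List.map_nil, List.prod_cons,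
      List.prod_nil, Nat.gcd_one_right, one_mul, mul_one, hq] at hd
    simpa using hd
  · have hd := CfsgLib.Chev.good_E8.card_diagonal (F := F) CfsgLib.Chev.E8Data.smith_ok
    simp only [CfsgLib.Chev.E8Data.smith, List.map_cons, List.map_nil, List.prod_cons,
      List.prod_nil, Nat.gcd_one_right, one_mul, mul_one, hq] at hd
    simpa using hd
  · have hd := CfsgLib.Chev.good_E6.card_diagonal (F := F) CfsgLib.Chev.E6Data.smith_ok
    simp only [CfsgLib.Chev.E6Data.smith, List.map_cons, List.map_nil, List.prod_cons,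
      List.prod_nil, Nat.gcd_one_right, one_mul, mul_one, hq, Nat.gcd_comm (q - 1)] at hd
    simpa using hd
  · have hd := CfsgLib.Chev.good_E7.card_diagonal (F := F) CfsgLib.Chev.E7Data.smith_ok
    simp only [CfsgLib.Chev.E7Data.smith, List.map_cons, List.map_nil, List.prod_cons,
      List.prod_nil, Nat.gcd_one_right, one_mul, mul_one, hq, Nat.gcd_comm (q - 1)] at hd
    simpa using hd
  · have hd := CfsgLib.Chev.good_B2.card_diagonal (F := F) CfsgLib.Chev.B2Data.smith_ok
    simp only [CfsgLib.Chev.B2Data.smith, List.map_cons, List.map_nil, List.prod_cons,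
      List.prod_nil, Nat.gcd_one_right, one_mul, mul_one, hq, Nat.gcd_comm (q - 1)] at hd
    simpa using hd
  · have hd := CfsgLib.Chev.good_D4.card_diagonal (F := F) CfsgLib.Chev.D4Data.smith_ok
    simp only [CfsgLib.Chev.D4Data.smith, List.map_cons, List.map_nil, List.prod_cons,
      List.prod_nil, Nat.gcd_one_right, one_mul, mul_one, hq, Nat.gcd_comm (q - 1)] at hd
    simpa [sq] using hd

end Cfsg.Agent.S1035
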