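import Cfsg.Statements.S1044
import Cfsg.Agent.Chev.GoodAll
import Cfsg.Agent.Chev.Struct

set_option autoImplicit false
open Cfsg

namespace Cfsg.Agent.S1044

/-- For a fundamental root `p` the set `B ∪ B n_p B` is (the carrier of) a subgroup of the general linear group. -/
theorem result {F : Type*} [Field F] (D : Cfsg.Lie.ChevalleyDatum) (hD : D ∈ [Cfsg.Lie.chevG2, Cfsg.Lie.chevB2, Cfsg.Lie.chevD4, Cfsg.Lie.chevF4, Cfsg.Lie.chevE6, Cfsg.Lie.chevE7, Cfsg.Lie.chevE8]) (i : ℕ) (hi : i < D.rank) (n : GL D.Idx F)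
    (hn : (n : Matrix D.Idx D.Idx F) = D.nMat F (D.simple i) 1) :
    ∃ P : Subgroup (GL D.Idx F), (P : Set (GL D.Idx F)) =
      (D.borelSubgroup F : Set (GL D.Idx F)) ∪ DoubleCoset.doubleCoset n (D.borelSubgroup F : Set (GL D.Idx F)) (D.borelSubgroup F) := by
  obtain ⟨T, G⟩ := CfsgLib.Chev.exists_good hD
  have hns : n = G.full.ns F i := Units.ext (by
    rw [hn]; exact (G.full.coe_nr _ (G.full.simple_lt hi) 1).symm)
  subst hns
  let P := G.bnPair F
  let s : D.group F := ⟨G.full.ns F i, G.ns_mem_group ⟨i, hi⟩⟩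
  have hs : s ∈ P.S := G.mem_simpleSet.mpr ⟨⟨i, hi⟩, rfl⟩
  refine ⟨(P.parabolic {s}).map (D.group F).subtype, ?_⟩
  ext g
  constructor
  · rintro ⟨x, hx, rfl⟩
    rcases (CfsgLib.BN.mem_parabolic_singleton P hs x).mp hx with h | h
    · exact Or.inl h
    · obtain ⟨b, hb, c, hc, e⟩ := (CfsgLib.BN.mem_cosetOf _).mp h
      exact Or.inr (DoubleCoset.mem_doubleCoset.mpr ⟨b, hb, c, hc, congrArg Subtype.val e⟩)
  · intro hg
    rcases hg with h | h
    · exact ⟨⟨g, G.borel_le_group h⟩, (CfsgLib.BN.mem_parabolic_singleton P hs _).mpr (Or.inl h),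
        rfl⟩
    · obtain ⟨b, hb, c, hc, rfl⟩ := DoubleCoset.mem_doubleCoset.mp h
      refine ⟨⟨b, G.borel_le_group hb⟩ * s * ⟨c, G.borel_le_group hc⟩,
        (CfsgLib.BN.mem_parabolic_singleton P hs _).mpr (Or.inr ?_), rfl⟩
      exact (CfsgLib.BN.mem_cosetOf _).mpr ⟨_, hb, _, hc, rfl⟩

end Cfsg.Agent.S1044
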