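import Cfsg.Statements.S1045
import Cfsg.Agent.Chev.GoodAll
import Cfsg.Agent.Chev.Struct

set_option autoImplicit false
open Cfsg

namespace Cfsg.Agent.S1045

/-- For a fundamental root `p`, the subgroup `U_p` generated by the `X_s`, `s` positive and `s ≠ p`, is normalised by `X_p` and `X_{-p}`, and `U = U_p ⊔ X_p`. -/
theorem result {F : Type*} [Field F] (D : Cfsg.Lie.ChevalleyDatum) (hD : D ∈ [Cfsg.Lie.chevG2, Cfsg.Lie.chevB2, Cfsg.Lie.chevD4, Cfsg.Lie.chevF4, Cfsg.Lie.chevE6, Cfsg.Lie.chevE7, Cfsg.Lie.chevE8]) (i : ℕ) (hi : i < D.rank) :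
    D.rootSubgroup F (D.simple i) ⊔ D.rootSubgroup F (D.neg (D.simple i)) ≤
        Subgroup.normalizer (Subgroup.closure {g : GL D.Idx F | ∃ (s : ℕ) (t : F), D.IsPosRoot s ∧ s ≠ D.simple i ∧
          (g : Matrix D.Idx D.Idx F) = D.x F s t} : Set (GL D.Idx F)) ∧
      Subgroup.closure {g : GL D.Idx F | ∃ (s : ℕ) (t : F), D.IsPosRoot s ∧ s ≠ D.simple i ∧
          (g : Matrix D.Idx D.Idx F) = D.x F s t} ⊔ D.rootSubgroup F (D.simple i) = D.posUnipotent F := by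
  obtain ⟨T, G⟩ := CfsgLib.Chev.exists_good hD
  have hclos : Subgroup.closure {g : GL D.Idx F | ∃ (s : ℕ) (t : F), D.IsPosRoot s ∧
      s ≠ D.simple i ∧ (g : Matrix D.Idx D.Idx F) = D.x F s t} =
      G.US F {s | CfsgLib.Chev.Tab.IsPos D s ∧ s ≠ D.simple i} := by
    unfold CfsgLib.Chev.Tab.Good.US
    congr 1
    ext g
    constructor
    · rintro ⟨s, t, h1, h2, h3⟩
      exact ⟨s, ⟨G.isPosRoot_iff.mp h1, h2⟩, t, G.full.eq_x.mp h3⟩
    · rintro ⟨s, ⟨h1, h2⟩, t, rfl⟩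
      exact ⟨s, t, G.isPosRoot_iff.mpr h1, h2, G.full.coe_x' s t⟩
  rw [hclos]
  have hp := G.full.simple_lt hi
  set Up := G.US F {s | CfsgLib.Chev.Tab.IsPos D s ∧ s ≠ D.simple i} with hUp
  have hx : ∀ t, G.full.x (D.simple i) t ∈ Subgroup.normalizer (Up : Set (GL D.Idx F)) := by
    intro t
    rw [Subgroup.mem_normalizer_iff]
    intro a
    refine ⟨G.x_simple_conj_Up ⟨i, hi⟩ t, fun h => ?_⟩
    have h2 := G.x_simple_conj_Up ⟨i, hi⟩ (-t) h
    rw [← G.full.x_inv, inv_inv] at h2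
    simpa [mul_assoc] using h2
  have hns : G.full.ns F i ∈ Subgroup.normalizer (Up : Set (GL D.Idx F)) := by
    rw [Subgroup.mem_normalizer_iff]
    intro a
    refine ⟨G.ns_conj_Up ⟨i, hi⟩, fun h => ?_⟩
    have h2 := G.ns_conj_Up ⟨i, hi⟩ h
    have h3 : G.full.ns F i * G.full.ns F i * a * (G.full.ns F i * G.full.ns F i)⁻¹ ∈ Up := by
      convert h2 using 1; group
    obtain ⟨d, hd⟩ := G.hr_simple_mem (F := F) ⟨i, hi⟩ (neg_ne_zero.mpr one_ne_zero)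
    rw [G.full.ns_sq hi, hd] at h3
    have hd' : T.hT F d ∈ D.diagonalSubgroup F := by
      rw [G.full.diagonal_eq_range]; exact ⟨d, rfl⟩
    exact (Subgroup.mem_normalizer_iff.mp (G.hT_normalizes _ (fun s hs => hs.1.1) hd') a).mpr h3
  constructor
  · refine sup_le ?_ ?_ <;> rw [Cfsg.Lie.ChevalleyDatum.rootSubgroup, Subgroup.closure_le] <;>
      rintro g ⟨t, hg⟩ <;> rw [G.full.eq_x] at hg <;> subst hg
    · exact hx t
    · obtain ⟨v, hv⟩ := G.x_negR_simple_eq ⟨i, hi⟩ t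
      rw [G.full.cert.neg_eq hp, hv]
      exact mul_mem (mul_mem hns (hx v)) (inv_mem hns)
  · refine le_antisymm (sup_le (G.Up_le_pos ⟨i, hi⟩) ?_) fun u hu => ?_
    · rw [Cfsg.Lie.ChevalleyDatum.rootSubgroup, Subgroup.closure_le]
      rintro g ⟨t, hg⟩
      rw [G.full.eq_x] at hg
      exact hg ▸ G.x_mem_pos (G.pos_simp ⟨i, hi⟩) t
    · obtain ⟨a, ha, t, rfl⟩ := G.pos_split_simple ⟨i, hi⟩ hu
      exact mul_mem (Subgroup.mem_sup_left ha)
        (Subgroup.mem_sup_right (Subgroup.subset_closure ⟨t, G.full.coe_x' _ t⟩))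

end Cfsg.Agent.S1045
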