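import Cfsg.Statements.S1046
import Cfsg.Agent.Chev.GoodAll
import Cfsg.Agent.Chev.Struct

set_option autoImplicit false
open Cfsg

namespace Cfsg.Agent.S1046

/-- Two elements of `H` conjugate in the Chevalley group are conjugate by an element of `N`. -/
theorem result {F : Type*} [Field F] (D : Cfsg.Lie.ChevalleyDatum) (hD : D ∈ [Cfsg.Lie.chevG2, Cfsg.Lie.chevB2, Cfsg.Lie.chevD4, Cfsg.Lie.chevF4, Cfsg.Lie.chevE6, Cfsg.Lie.chevE7, Cfsg.Lie.chevE8]) (h₁ h₂ g : GL D.Idx F) (h1 : h₁ ∈ D.diagonalSubgroup F) (h2 : h₂ ∈ D.diagonalSubgroup F)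
    (hg : g ∈ D.group F) (hc : g * h₁ * g⁻¹ = h₂) :
    ∃ n ∈ D.monomialSubgroup F, n * h₁ * n⁻¹ = h₂ := by
  obtain ⟨T, G⟩ := CfsgLib.Chev.exists_good hD
  obtain ⟨b, hb, n, hn, L, hL, u, hu, rfl⟩ := G.canonical_exists hg
  refine ⟨n, hn, ?_⟩
  rw [G.full.diagonal_eq_range] at h1 h2
  obtain ⟨c₁, rfl⟩ := h1
  obtain ⟨c₂, rfl⟩ := h2
  have hmH : n * T.hT F c₁ * n⁻¹ ∈ D.diagonalSubgroup F :=
    G.diagonal_normal.conj_mem ⟨_, G.hT_mem_monomial c₁⟩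
      (by rw [Subgroup.mem_subgroupOf, G.full.diagonal_eq_range]; exact ⟨c₁, rfl⟩) ⟨n, hn⟩
  obtain ⟨v, hv, c, hvc⟩ := G.mem_borel.mp hb
  have hu' : (T.hT F c₁)⁻¹ * u * T.hT F c₁ ∈
      G.US F (CfsgLib.Chev.Tab.flipSet (G.full.pw L)) := by
    have := G.hT_conj_US (CfsgLib.Chev.Tab.flipSet (G.full.pw L))
      (fun s ⟨h, _⟩ => h) c₁⁻¹ hu
    simpa using this
  have key := G.canonical_unique (mul_mem hb (Subgroup.mem_sup_right hmH))
    (mul_mem (G.borel_hT c₂) hb) hn hn hL hL hu' hu (by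
      rw [show T.hT F c₂ * b * n * u = T.hT F c₂ * (b * n * u) by group, ← hc]
      group)
  have e := (key.2 rfl).1
  obtain ⟨m, hm⟩ : ∃ m, T.hT F m = n * T.hT F c₁ * n⁻¹ := by
    rw [G.full.diagonal_eq_range] at hmH
    exact hmH
  rw [← hm, hvc, show T.hT F c₂ * (v * T.hT F c) =
    (T.hT F c₂ * v * (T.hT F c₂)⁻¹) * (T.hT F c₂ * T.hT F c) by group, mul_assoc,
    ← map_mul, ← map_mul] at e
  have hv' : T.hT F c₂ * v * (T.hT F c₂)⁻¹ ∈ D.posUnipotent F := by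
    rw [G.posUnipotent_eq] at hv ⊢
    exact G.hT_conj_US _ (fun s hs => hs.1) c₂ hv
  have hcm : T.hT F (c * m) = T.hT F (c₂ * c) := by
    have h : (T.hT F c₂ * v * (T.hT F c₂)⁻¹)⁻¹ * v ∈
        D.posUnipotent F ⊓ D.diagonalSubgroup F := by
      refine Subgroup.mem_inf.mpr ⟨mul_mem (inv_mem hv') hv, ?_⟩
      rw [G.full.diagonal_eq_range]
      refine ⟨(c₂ * c) * (c * m)⁻¹, ?_⟩
      rw [eq_inv_mul_iff_mul_eq, map_mul, map_inv, ← mul_assoc, ← e, mul_inv_cancel_right]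
    rw [G.pos_inf_diagonal, Subgroup.mem_bot, inv_mul_eq_one] at h
    rw [h] at e
    exact mul_left_cancel e
  rw [← hm]
  rw [mul_comm c m, map_mul, map_mul] at hcm
  exact mul_right_cancel hcm

end Cfsg.Agent.S1046
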