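import Cfsg.Statements.S1058
import Cfsg.Agent.S1060
import Cfsg.Agent.Chev.SteinbergPres
import Cfsg.Agent.Chev.SteinbergData
-- import your own Cfsg.Agent.* helpers here

set_option autoImplicit false
open Cfsg

namespace Cfsg.Agent.S1058

open Cfsg.Lie CfsgLib.Chev CfsgLib.Chev.Tab

/-- The involutions of `S₆` attached to the roots of `B₂`. -/
def P (r : ℕ) : Equiv.Perm (Fin 6) :=
  [Equiv.swap 0 2,
    Equiv.swap 0 2 * Equiv.swap 1 4 * Equiv.swap 3 5,
    Equiv.swap 0 2 * Equiv.swap 1 3 * Equiv.swap 4 5,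
    Equiv.swap 3 5,
    Equiv.swap 4 5,
    Equiv.swap 0 1 * Equiv.swap 2 4 * Equiv.swap 3 5,
    Equiv.swap 0 1 * Equiv.swap 2 3 * Equiv.swap 4 5,
    Equiv.swap 0 1].getD r 1

theorem P_sq : ∀ r < 8, P r * P r = 1 := by decide +kernel

theorem P_nsq : ∀ r < 8, P r * P (7 - r) * P r * (P r * P (7 - r) * P r) = 1 := by decide +kernel

theorem P_comm : ∀ r : Fin 8, ∀ s : Fin 8, s.val ≠ r.val → s.val ≠ 7 - r.val →
    P s * P r * P s * P r =
      ((B2Data.tab.commT r s).map fun e => if e.2.1 % 2 = 0 then 1 else P e.1).prod := by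
  decide +kernel

theorem comm_pos : ∀ r : Fin 8, ∀ s : Fin 8, (B2Data.tab.commT r s).all
    (fun e => decide (e.1 < 8 ∧ 0 < e.2.2.1 ∧ 0 < e.2.2.2)) = true := by
  decide +kernel

theorem swap_word : ∀ i : Fin 5, ∃ w : List ℕ, (∀ r ∈ w, r < 8) ∧
    (w.map P).prod = Equiv.swap i.castSucc i.succ := fun i =>
  ⟨[[7], [0, 7, 0], [2, 7, 2], [3, 4, 3], [4]].getD i.val [], by revert i; decide +kernel, by revert i; decide +kernel⟩

theorem swap_mem_of_adjacent {H : Subgroup (Equiv.Perm (Fin 6))}
    (h : ∀ i : Fin 5, Equiv.swap i.castSucc i.succ ∈ H) (x y : Fin 6) (_ : x ≠ y) :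
    Equiv.swap x y ∈ H := by
  have htop : H = ⊤ := by
    rw [eq_top_iff, ← Equiv.Perm.mclosure_swap_castSucc_succ 5 |> fun e => (Subgroup.closure_eq_top_of_mclosure_eq_top e)]
    rw [Subgroup.closure_le]
    rintro _ ⟨i, rfl⟩
    exact h i
  rw [htop]
  exact Subgroup.mem_top _

/-- B₂(2) ≅ S₆. -/
theorem result {F : Type*} [Field F] [Fintype F] (hF : Fintype.card F = 2) :
    Nonempty (↥(Cfsg.Lie.chevB2.group F) ≃* Equiv.Perm (Fin 6)) := by
  classical
  have hall : ∀ t : F, t = 0 ∨ t = 1 := by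
    intro t
    by_contra h
    push Not at h
    have : ({0, 1, t} : Finset F).card ≤ 2 := hF ▸ Finset.card_le_univ _
    rw [Finset.card_insert_of_notMem (by simp [h.1.symm]),
      Finset.card_insert_of_notMem (by simp [h.2.symm]), Finset.card_singleton] at this
    omega
  have h2 : (2 : F) = 0 := by
    have := FiniteField.cast_card_eq_zero F
    rw [hF] at this; exact_mod_cast this
  have hm1 : (-1 : F) = 1 := by linear_combination -h2
  have hcast : ∀ c : ℤ, (c : F) = if c % 2 = 0 then 0 else 1 := by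
    intro c
    conv_lhs => rw [← Int.emod_add_mul_ediv c 2]
    push_cast
    rw [h2, zero_mul, add_zero]
    rcases Int.emod_two_eq_zero_or_one c with h | h <;> simp [h]
  let f : Fin chevB2.nroots × F → Equiv.Perm (Fin 6) := fun p => if p.2 = 0 then 1 else P p.1
  have hf : ∀ (r : ℕ) (t : F), FreeGroup.lift f (chevB2.stX r t) =
      if r < 8 ∧ t ≠ 0 then P r else 1 := by
    intro r t
    by_cases hr : r < chevB2.nroots
    · have hr' : r < 8 := hr
      simp [ChevalleyDatum.stX, hr, hr', f]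
    · have hr' : ¬ r < 8 := hr
      simp [ChevalleyDatum.stX, hr, hr']
  have hword : ∀ w : List (ℕ × F), FreeGroup.lift f (chevB2.stWord w) =
      (w.map fun p => if p.1 < 8 ∧ p.2 ≠ 0 then P p.1 else 1).prod := by
    intro w
    rw [ChevalleyDatum.stWord, map_list_prod, List.map_map]
    exact congrArg List.prod (List.map_congr_left fun p _ => hf p.1 p.2)
  have hneg : ∀ r < chevB2.nroots, chevB2.neg r = 7 - r := fun r hr => by
    rw [good_B2.full.cert.neg_eq hr]; rfl
  have hrel : ∀ g ∈ chevB2.steinbergRels F, FreeGroup.lift f g = 1 := by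
    rintro g ((⟨r, t₁, t₂, hr, rfl⟩ | ⟨r, s, t, u, hr, hs, hne, hne', rfl⟩) | ⟨r, t₁, t₂, hr, h1, h2', rfl⟩)
    · have hr' : r < 8 := hr
      simp only [map_mul, map_inv, hf]
      rcases hall t₁ with rfl | rfl <;> rcases hall t₂ with rfl | rfl <;>
        simp [hr', P_sq r hr', show (1 : F) + 1 = 0 by linear_combination h2]
    · have hr' : r < 8 := hr
      have hs' : s < 8 := hs
      rw [hneg r hr] at hne'
      have hP : P s * P r * P s * P r = _ := P_comm ⟨r, hr'⟩ ⟨s, hs'⟩ hne hne'
      have hall' := comm_pos ⟨r, hr'⟩ ⟨s, hs'⟩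
      simp only [List.all_eq_true, decide_eq_true_eq] at hall'
      have hpos : ∀ e ∈ B2Data.tab.commT r s, 0 < e.2.2.1 ∧ 0 < e.2.2.2 := fun e he => (hall' e he).2
      have hcw : chevB2.commWord F r s t u = rhsWord (B2Data.tab.commT r s) t u :=
        good_B2.full.cert.commWord_eq hr hs t u
      simp only [map_mul, map_inv, hf, hword, hcw]
      rw [mul_inv_eq_one]
      have hzero : t = 0 ∨ u = 0 → ((rhsWord (B2Data.tab.commT r s) t u).map
          fun p => if p.1 < 8 ∧ p.2 ≠ 0 then P p.1 else 1).prod = 1 := by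
        intro h0
        refine List.prod_eq_one fun x hx => ?_
        simp only [rhsWord, List.map_map, List.mem_map] at hx
        obtain ⟨e, he, rfl⟩ := hx
        obtain ⟨hi, hj⟩ := hpos e he
        rcases h0 with rfl | rfl <;> simp [zero_pow hi.ne', zero_pow hj.ne']
      rcases hall t with rfl | rfl
      · rw [hzero (Or.inl rfl)]; by_cases hu : u = 0 <;> simp [hu, hs']
      rcases hall u with rfl | rfl
      · rw [hzero (Or.inr rfl)]; simp [hr']
      rw [if_pos ⟨hs', one_ne_zero⟩, if_pos ⟨hr', one_ne_zero⟩,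
        inv_eq_of_mul_eq_one_right (P_sq s hs'), inv_eq_of_mul_eq_one_right (P_sq r hr'), hP]
      have hmem : ∀ e ∈ B2Data.tab.commT r s, e.1 < 8 := fun e he => (hall' e he).1
      simp only [rhsWord, List.map_map]
      refine congrArg List.prod (List.map_congr_left fun e he => ?_)
      simp only [Function.comp_apply, hm1, one_pow, mul_one, hcast, ne_eq]
      by_cases hc : e.2.1 % 2 = 0 <;> simp [hc, hmem e he]
    · have hr' : r < 8 := hr
      obtain rfl : t₁ = 1 := (hall t₁).resolve_left h1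
      obtain rfl : t₂ = 1 := (hall t₂).resolve_left h2'
      have hn : 7 - r < 8 := by omega
      simp only [map_mul, map_inv, ChevalleyDatum.stH, hword, ChevalleyDatum.hWord,
        ChevalleyDatum.nWord, hneg r hr, mul_one, inv_one, hm1]
      simp [hr', hn, hm1, ← mul_assoc]
      simpa [mul_assoc] using P_nsq r hr'
  let φ : chevB2.SteinbergGroup F →* Equiv.Perm (Fin 6) := PresentedGroup.toGroup hrel
  have hW : B2Data.tab.HasWit := ⟨_, wits_B2⟩
  let S := good_B2.stData (good_B2.stθ F) (fun r t hr => good_B2.coe_stθ hr t)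
  have hker : S.θ.ker = ⊥ := by
    rw [eq_bot_iff]
    refine (S.ker_le_HB hW).trans ?_
    rw [Tab.Good.StData.HB, Subgroup.closure_le]
    rintro _ ⟨j, t, rfl⟩
    have ht : (t : F) = 1 := (hall t).resolve_left t.ne_zero
    show S.hb j (t : F) = 1
    rw [ht, Tab.Good.StData.hb, hm1, Tab.Good.StData.nb]
    have hsq : ∀ i < chevB2.nroots, S.xb i 1 * S.xb i 1 = 1 := fun i hi => by
      rw [S.add i hi, show (1 : F) + 1 = 0 by linear_combination h2]
      exact mul_eq_left.mp ((S.add i hi 0 0).trans (by rw [add_zero]))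
    have h7 : negR chevB2 (chevB2.simple j) < chevB2.nroots :=
      Tab.Cert.negR_lt (good_B2.full.simple_lt j.isLt)
    have a1 := inv_eq_of_mul_eq_one_right (hsq _ (good_B2.full.simple_lt j.isLt))
    have a2 := inv_eq_of_mul_eq_one_right (hsq _ h7)
    have e : -((1 : F)⁻¹) = 1 := by rw [inv_one, hm1]
    rw [e]
    rw [show S.xb (chevB2.simple j) 1 * S.xb (negR chevB2 (chevB2.simple j)) 1 * S.xb (chevB2.simple j) 1 *
      (S.xb (chevB2.simple j) 1 * S.xb (negR chevB2 (chevB2.simple j)) 1 * S.xb (chevB2.simple j) 1) =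
      S.xb (chevB2.simple j) 1 * S.xb (negR chevB2 (chevB2.simple j)) 1 * (S.xb (chevB2.simple j) 1 *
      S.xb (chevB2.simple j) 1) * S.xb (negR chevB2 (chevB2.simple j)) 1 * S.xb (chevB2.simple j) 1 by group,
      hsq _ (good_B2.full.simple_lt j.isLt), mul_one,
      mul_assoc (S.xb (chevB2.simple j) 1) (S.xb (negR chevB2 (chevB2.simple j)) 1), hsq _ h7, mul_one,
      hsq _ (good_B2.full.simple_lt j.isLt)]
  let θ : chevB2.SteinbergGroup F →* ↥(chevB2.group F) := good_B2.stθ F
  have hθ : Function.Bijective θ := by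
    constructor
    · rw [← MonoidHom.ker_eq_bot_iff]
      rw [show S.θ.ker = θ.ker from MonoidHom.ker_comp_of_injective _ _ (chevB2.group F).subtype_injective] at hker
      exact hker
    · rintro ⟨g, hg⟩
      rw [← S.θ_range] at hg
      obtain ⟨e, he⟩ := hg
      exact ⟨e, Subtype.ext he⟩
  have hcard : Nat.card ↥(chevB2.group F) = 720 := by
    have h := Cfsg.Agent.S1060.result (F := F) hF
    norm_num at h
    rw [Nat.card_eq_fintype_card]
    exact h
  have hsurj : Function.Surjective φ := by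
    rw [← MonoidHom.range_eq_top, eq_top_iff]
    have hmem : ∀ r < 8, P r ∈ φ.range := fun r hr => by
      refine ⟨chevB2.stGen F r 1, ?_⟩
      show FreeGroup.lift f (chevB2.stX r 1) = P r
      rw [hf, if_pos ⟨hr, one_ne_zero⟩]
    rw [← Equiv.Perm.closure_isSwap, Subgroup.closure_le]
    rintro _ ⟨x, y, hxy, rfl⟩
    have h01 : ∀ i : Fin 5, Equiv.swap i.castSucc i.succ ∈ φ.range := by
      intro i
      obtain ⟨w, hw, he⟩ := swap_word i
      rw [← he]
      refine Subgroup.list_prod_mem _ fun g hg => ?_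
      obtain ⟨r, hr, rfl⟩ := List.mem_map.mp hg
      exact hmem r (hw r hr)
    exact swap_mem_of_adjacent h01 x y hxy
  haveI : Finite (chevB2.SteinbergGroup F) := Finite.of_injective θ hθ.1
  have hbij : Function.Bijective φ := by
    rw [Nat.bijective_iff_surjective_and_card]
    exact ⟨hsurj, by rw [Nat.card_eq_of_bijective θ hθ, hcard, Nat.card_perm, Nat.card_fin]; rfl⟩
  exact ⟨(MulEquiv.ofBijective θ hθ).symm.trans (MulEquiv.ofBijective φ hbij)⟩

end Cfsg.Agent.S1058
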