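import Cfsg.Statements.S1074
import Cfsg.Agent.SplitBN.TitsSimple

set_option autoImplicit false
open Cfsg

namespace Cfsg.Agent.S1074

open CfsgLib.Chev CfsgLib.SplitBN in
theorem key : ∀ (e : ℕ), e = 2 ^ 0 →
    (commutator ↥(Cfsg.Lie.twistedF4 (ZMod 2) e)).index = 2 ∧
      IsSimpleGroup (commutator ↥(Cfsg.Lie.twistedF4 (ZMod 2) e)) ∧
      ¬ IsMulCommutative (commutator ↥(Cfsg.Lie.twistedF4 (ZMod 2) e)) ∧
      Nat.card (commutator ↥(Cfsg.Lie.twistedF4 (ZMod 2) e)) = 2 ^ 11 * 8775 := by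
  obtain ⟨C⟩ := F4Tw.exists_ctx (K := ZMod 2) (m := 0) (ZMod.card 2)
  rintro e rfl
  exact ⟨tits_index C, tits_isSimple C, tits_not_comm C, tits_card C⟩

/-- ²F₄(2)′ has index 2 in ²F₄(2), is simple, and has order `2¹¹ · 3³ · 5² · 13`. -/
theorem result : (commutator ↥(Cfsg.Lie.twistedF4 (ZMod 2) 1)).index = 2 ∧ IsSimpleGroup Cfsg.Lie.TitsGroup ∧ ¬ IsMulCommutative Cfsg.Lie.TitsGroup ∧
    Nat.card Cfsg.Lie.TitsGroup = 2 ^ 11 * 3 ^ 3 * 5 ^ 2 * 13 := by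
  obtain ⟨h1, h2, h3, h4⟩ := key 1 (pow_zero 2).symm
  exact ⟨h1, h2, h3, h4.trans (by norm_num)⟩

end Cfsg.Agent.S1074
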