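import Cfsg.Statements.S1078
import Cfsg.Agent.Chev.SteinbergTorus
import Cfsg.Agent.Chev.SteinbergData
-- import your own Cfsg.Agent.* helpers here

set_option autoImplicit false
open Cfsg

namespace Cfsg.Agent.S1078

/-- For G₂, F₄, E₈ the presented group has trivial centre (the universal and adjoint groups coincide). -/
theorem result {K : Type*} [Field K] (D : Cfsg.Lie.ChevalleyDatum) (hD : D ∈ [Cfsg.Lie.chevG2, Cfsg.Lie.chevF4, Cfsg.Lie.chevE8]) :
    Subgroup.center (D.SteinbergGroup K) = ⊥ := by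
  suffices h : ∀ (T : CfsgLib.Chev.Tab D) (G : T.Good), T.HasWit → ∀ M, T.chkUni M = true →
      Subgroup.center (D.SteinbergGroup K) = ⊥ by
    simp only [List.mem_cons, List.not_mem_nil, or_false] at hD
    rcases hD with rfl | rfl | rfl
    · exact h _ CfsgLib.Chev.good_G2 ⟨_, CfsgLib.Chev.wits_G2⟩ _ CfsgLib.Chev.uni_G2
    · exact h _ CfsgLib.Chev.good_F4 ⟨_, CfsgLib.Chev.wits_F4⟩ _ CfsgLib.Chev.uni_F4
    · exact h _ CfsgLib.Chev.good_E8 ⟨_, CfsgLib.Chev.wits_E8⟩ _ CfsgLib.Chev.uni_E8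
  intro T G hW M hM
  rw [← (G.stData (G.stθ K) (fun r t hr => G.coe_stθ hr t)).ker_eq_center hW]
  exact CfsgLib.Chev.Tab.Good.StData.ker_eq_bot _ hW (G.st_hb_mul _) (G.hT_injective hM)

end Cfsg.Agent.S1078
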