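import Cfsg.Statements.S1080
import Cfsg.Agent.Chev.GoodAll

set_option autoImplicit false
open Cfsg

namespace Cfsg.Agent.S1080

/-- Field automorphisms: for every field automorphism `f` there is a group automorphism sending each `x_r(t)` to `x_r(f t)`. -/
theorem result {F : Type*} [Field F] (D : Cfsg.Lie.ChevalleyDatum) (hD : D ∈ [Cfsg.Lie.chevG2, Cfsg.Lie.chevB2, Cfsg.Lie.chevD4, Cfsg.Lie.chevF4, Cfsg.Lie.chevE6, Cfsg.Lie.chevE7, Cfsg.Lie.chevE8]) (f : F ≃+* F) :
    ∃ α : ↥(D.group F) ≃* ↥(D.group F), ∀ (g : ↥(D.group F)) (r : ℕ) (t : F), r < D.nroots →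
      ((g : GL D.Idx F) : Matrix D.Idx D.Idx F) = D.x F r t → ((α g : GL D.Idx F) : Matrix D.Idx D.Idx F) = D.x F r (f t) := by
  obtain ⟨T, G⟩ := CfsgLib.Chev.exists_good hD
  let φ : GL D.Idx F →* GL D.Idx F := Units.map f.toRingHom.mapMatrix.toMonoidHom
  let ψ : GL D.Idx F →* GL D.Idx F := Units.map f.symm.toRingHom.mapMatrix.toMonoidHom
  have hφψ : ∀ g, φ (ψ g) = g := fun g => Units.ext (by ext a b; simp [φ, ψ])
  have hψφ : ∀ g, ψ (φ g) = g := fun g => Units.ext (by ext a b; simp [φ, ψ])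
  have hmap : ∀ (e : F ≃+* F) (r : ℕ) (t : F),
      e.toRingHom.mapMatrix (D.x F r t) = D.x F r (e t) := fun e r t => by
    by_cases hr : r < D.nroots
    · rw [G.full.cert.x_eq hr, G.full.cert.x_eq hr, CfsgLib.Chev.Tab.Cert.X_map]
      rfl
    · simp [Cfsg.Lie.ChevalleyDatum.x, hr]
  have hx : ∀ (e : F ≃+* F) (g : GL D.Idx F), g ∈ D.group F →
      Units.map e.toRingHom.mapMatrix.toMonoidHom g ∈ D.group F := fun e g hg => by
    induction hg using Subgroup.closure_induction with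
    | mem g hg =>
      obtain ⟨r, t, hg⟩ := hg
      refine Subgroup.subset_closure ⟨r, e t, ?_⟩
      have hxm : ∀ u, D.x F r.val u = D.xMat F r u := fun u => dif_pos r.isLt
      rw [← hxm, ← hmap e r.val t, hxm, ← hg]
      rfl
    | one => rw [map_one]; exact one_mem _
    | mul a b _ _ ha hb => rw [map_mul]; exact mul_mem ha hb
    | inv a _ ha => rw [map_inv]; exact inv_mem ha
  refine ⟨{ toFun := fun g => ⟨φ g, hx f _ g.2⟩
            invFun := fun g => ⟨ψ g, hx f.symm _ g.2⟩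
            left_inv := fun g => Subtype.ext (hψφ g)
            right_inv := fun g => Subtype.ext (hφψ g)
            map_mul' := fun a b => Subtype.ext (map_mul φ _ _) }, fun g r t _ hg => ?_⟩
  show f.toRingHom.mapMatrix ((g : GL D.Idx F) : Matrix D.Idx D.Idx F) = _
  rw [hg, hmap]

end Cfsg.Agent.S1080
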