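import Cfsg.Statements.S1081
import Cfsg.Agent.Chev.GraphAuto
-- import your own Cfsg.Agent.* helpers here

set_option autoImplicit false
open Cfsg

namespace Cfsg.Agent.S1081

/-- Graph automorphisms: for E₆ with ρ = (p₁ p₆)(p₃ p₅) and for D₄ with ρ the 3-cycle on the outer nodes there is a group automorphism sending `x_p(t) ↦ x_{ρ(p)}(t)` and `x_{-p}(t) ↦ x_{-ρ(p)}(t)` for every fundamental root `p`. -/
theorem result {F : Type*} [Field F] (p : Cfsg.Lie.ChevalleyDatum × List ℕ)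
    (hp : p ∈ [(Cfsg.Lie.chevE6, [5, 1, 4, 3, 2, 0]), (Cfsg.Lie.chevD4, [2, 1, 3, 0]), (Cfsg.Lie.chevD4, [3, 1, 0, 2])]) :
    ∃ α : ↥(p.1.group F) ≃* ↥(p.1.group F), ∀ (g : ↥(p.1.group F)) (i : ℕ) (t : F), i < p.1.rank →
      (((g : GL p.1.Idx F) : Matrix p.1.Idx p.1.Idx F) = p.1.x F (p.1.simple i) t →
        ((α g : GL p.1.Idx F) : Matrix p.1.Idx p.1.Idx F) = p.1.x F (p.1.simple (p.2.getD i 0)) t) ∧
      (((g : GL p.1.Idx F) : Matrix p.1.Idx p.1.Idx F) = p.1.x F (p.1.neg (p.1.simple i)) t →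
        ((α g : GL p.1.Idx F) : Matrix p.1.Idx p.1.Idx F) = p.1.x F (p.1.neg (p.1.simple (p.2.getD i 0))) t) := by
  simp only [List.mem_cons, List.not_mem_nil, or_false] at hp
  rcases hp with rfl | rfl | rfl
  · haveI := (CfsgLib.Chev.good_E6.isSimple (F := F) CfsgLib.Chev.conn_E6 CfsgLib.Chev.perf_E6
      (fun e => Bool.noConfusion e)).1
    obtain ⟨α, hα⟩ := CfsgLib.Chev.exists_graph_auto CfsgLib.Chev.good_E6
      ⟨_, CfsgLib.Chev.wits_E6⟩ (F := F) (p := 0) Nat.cast_zero (fun h => absurd h (lt_irrefl 0))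
      (fun h => absurd h (lt_irrefl 0)) CfsgLib.Chev.chkGraphE6 CfsgLib.Chev.graphSimple_E6
      (fun _ => CfsgLib.Chev.bijective_of_isSimple)
    refine ⟨α, fun g i t hi => ?_⟩
    have := hα g i t hi
    change i < 6 at hi
    interval_cases i <;> simpa using this
  · haveI := (CfsgLib.Chev.good_D4.isSimple (F := F) CfsgLib.Chev.conn_D4 CfsgLib.Chev.perf_D4
      (fun e => Bool.noConfusion e)).1
    obtain ⟨α, hα⟩ := CfsgLib.Chev.exists_graph_auto CfsgLib.Chev.good_D4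
      ⟨_, CfsgLib.Chev.wits_D4⟩ (F := F) (p := 0) Nat.cast_zero (fun h => absurd h (lt_irrefl 0))
      (fun h => absurd h (lt_irrefl 0)) CfsgLib.Chev.chkGraphD4a CfsgLib.Chev.graphSimple_D4a
      (fun _ => CfsgLib.Chev.bijective_of_isSimple)
    refine ⟨α, fun g i t hi => ?_⟩
    have := hα g i t hi
    change i < 4 at hi
    interval_cases i <;> simpa using this
  · haveI := (CfsgLib.Chev.good_D4.isSimple (F := F) CfsgLib.Chev.conn_D4 CfsgLib.Chev.perf_D4
      (fun e => Bool.noConfusion e)).1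
    obtain ⟨α, hα⟩ := CfsgLib.Chev.exists_graph_auto CfsgLib.Chev.good_D4
      ⟨_, CfsgLib.Chev.wits_D4⟩ (F := F) (p := 0) Nat.cast_zero (fun h => absurd h (lt_irrefl 0))
      (fun h => absurd h (lt_irrefl 0)) CfsgLib.Chev.chkGraphD4b CfsgLib.Chev.graphSimple_D4b
      (fun _ => CfsgLib.Chev.bijective_of_isSimple)
    refine ⟨α, fun g i t hi => ?_⟩
    have := hα g i t hi
    change i < 4 at hi
    interval_cases i <;> simpa using this

end Cfsg.Agent.S1081
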