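import Cfsg.Statements.S1084
import Cfsg.Agent.E6Cubic.Transport
import Cfsg.Agent.S1054
import Cfsg.Agent.S1077

set_option autoImplicit false
open Cfsg

namespace Cfsg.Agent.S1084

/-- E₆ via the 27-dimensional cubic form: for a finite field with at least three elements, (isometries of the cubic form) / centre ≅ the Chevalley group E₆(F). -/
theorem result {F : Type*} [Field F] [Fintype F] (hF : 3 ≤ Fintype.card F) : Nonempty (Cfsg.Lie.E6 F ≃* ↥(Cfsg.Lie.chevE6.group F)) := by
  classical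
  obtain ⟨θ, hsurj, hker, -⟩ := Cfsg.Agent.S1077.result (K := F) Cfsg.Lie.chevE6 (by simp)
  obtain ⟨hsimple, -⟩ := Cfsg.Agent.S1054.result (F := F) Cfsg.Lie.chevE6 (by simp)
  obtain ⟨ψ, hψ, hne⟩ := CfsgLib.E6Cubic.exists_onto (F := F) hF
  let f := (QuotientGroup.mk' (Subgroup.center ↥(Cfsg.Lie.E6univ F))).comp ψ
  have hf : Function.Surjective f := (QuotientGroup.mk'_surjective _).comp hψ
  have hle : θ.ker ≤ f.ker := by
    intro z hz
    rw [hker, Subgroup.mem_center_iff] at hz
    rw [MonoidHom.mem_ker]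
    refine (QuotientGroup.eq_one_iff _).2 (Subgroup.mem_center_iff.2 fun g => ?_)
    obtain ⟨a, rfl⟩ := hψ g
    rw [← map_mul, ← map_mul, hz a]
  have hne1 : f.ker ≠ ⊤ := by
    intro htop
    have h1 : f (Cfsg.Lie.chevE6.stGen F 0 1) = 1 := MonoidHom.mem_ker.1 (htop ▸ Subgroup.mem_top _)
    exact hne ((Subgroup.mem_center_iff.1 ((QuotientGroup.eq_one_iff _).1 h1) _).symm)
  have hkereq : θ.ker = f.ker := by
    have hn : (f.ker.map θ).Normal := Subgroup.Normal.map inferInstance θ hsurj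
    rcases hsimple.eq_bot_or_eq_top_of_normal _ hn with h | h
    · exact le_antisymm hle ((Subgroup.map_eq_bot_iff _).1 h)
    · exfalso
      refine hne1 (eq_top_iff.2 fun x _ => ?_)
      obtain ⟨y, hy, hyx⟩ : θ x ∈ f.ker.map θ := h ▸ Subgroup.mem_top _
      have hxy : y⁻¹ * x ∈ f.ker := hle (by rw [MonoidHom.mem_ker, map_mul, map_inv, hyx, inv_mul_cancel])
      simpa using mul_mem hy hxy
  exact ⟨(QuotientGroup.quotientKerEquivOfSurjective f hf).symm.trans
    ((QuotientGroup.quotientMulEquivOfEq hkereq.symm).trans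
      (QuotientGroup.quotientKerEquivOfSurjective θ hsurj))⟩

end Cfsg.Agent.S1084
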