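import Cfsg.Statements.S1095
import Cfsg.Agent.Chev.GoodAll

set_option autoImplicit false
open Cfsg

namespace Cfsg.Agent.S1095

/-- `n_p` (p = p_{i+1} fundamental) is the signed monomial matrix `h_{p_j} ↦ h_{p_j} - A_{p_j,p} h_p`, `e_s ↦ η_s e_{w_p(s)}`, with `η_s = ±1`, `η_p = η_{-p} = -1`, `η_s η_{w_p(s)} = (-1)^{A_{p,s}}`, `η_s η_{-s} = 1`. -/
theorem result {F : Type*} [Field F] (D : Cfsg.Lie.ChevalleyDatum) (hD : D ∈ [Cfsg.Lie.chevG2, Cfsg.Lie.chevB2, Cfsg.Lie.chevD4, Cfsg.Lie.chevF4, Cfsg.Lie.chevE6, Cfsg.Lie.chevE7, Cfsg.Lie.chevE8]) (i : ℕ) (hi : i < D.rank) :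
    ∃ η : ℕ → ℤ, (∀ s < D.nroots, η s = 1 ∨ η s = -1) ∧ η (D.simple i) = -1 ∧ η (D.neg (D.simple i)) = -1 ∧
      (∀ s < D.nroots, η s * η (D.reflectRoot i s) = (-1) ^ (D.cartan i s).natAbs ∧ η s * η (D.neg s) = 1) ∧
      D.nMat F (D.simple i) 1 = Matrix.of (fun (row col : D.Idx) =>
        Sum.elim
          (fun j' : Fin D.rank => Sum.elim
            (fun j : Fin D.rank => (if j' = j then (1 : F) else 0) - (if (j' : ℕ) = i then ((D.cartan j (D.simple i) : ℤ) : F) else 0))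
            (fun _ => (0 : F)) col)
          (fun s' : Fin D.nroots => Sum.elim
            (fun _ => (0 : F))
            (fun s : Fin D.nroots => if (s' : ℕ) = D.reflectRoot i s then ((η s : ℤ) : F) else 0) col)
          row) := by
  obtain ⟨T, G⟩ := CfsgLib.Chev.exists_good hD
  have hp := G.full.simple_lt hi
  refine ⟨fun s => T.sgn i s, fun s hs => (G.full.reflT_spec hi hs).2.2.2.2.2.2.1,
    (G.full.node_spec hi).2.2.2.1, ?_, fun s hs => ⟨?_, ?_⟩, ?_⟩
  · show T.sgn i _ = -1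
    rw [G.full.cert.neg_eq hp, G.full.sgn_neg_eq hi hp, (G.full.node_spec hi).2.2.2.1]
  · simp only [G.full.reflectRoot_eq hi hs, G.full.cert.cartan_eq hi hs]
    exact (G.full.reflT_spec hi hs).2.2.2.2.2.2.2.1
  · simp only [G.full.cert.neg_eq hs]
    exact (G.full.reflT_spec hi hs).2.2.2.2.2.2.2.2.1
  · rw [← G.full.coe_nr _ hp, show (1 : F) = ((1 : Fˣ) : F) from Units.val_one.symm,
      G.full.coe_nr_simple hi]
    ext row col
    rw [Matrix.of_apply]
    rcases col with j | s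
    · rw [G.full.NX_h hi]
      rcases row with j' | s'
      · simp [CfsgLib.Chev.code_inl, G.full.cert.cartan_eq j.isLt hp]
      · have : s'.val ≠ D.nroots + i := by omega
        simp [CfsgLib.Chev.code_inr, this]
    · rw [G.full.NX_root hi]
      rcases row with j' | s'
      · have := (G.full.reflT_spec hi s.isLt).1
        have h2 : D.nroots + j'.val ≠ T.reflT i s := by omega
        simp [CfsgLib.Chev.code_inl, h2]
      · simp [CfsgLib.Chev.code_inr, G.full.reflectRoot_eq hi s.isLt]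

end Cfsg.Agent.S1095
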