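import Cfsg.Statements.S1096
import Cfsg.Agent.Chev.GoodAll

set_option autoImplicit false
open Cfsg

namespace Cfsg.Agent.S1096

/-- `n_p h_{p_j}(t) n_p⁻¹ = h_{w_p(p_j)}(t)` for fundamental `p`, `p_j` and `t ≠ 0`, stated as `n_p h_{p_j}(t) = h_{w_p(p_j)}(t) n_p`. -/
theorem result {F : Type*} [Field F] (D : Cfsg.Lie.ChevalleyDatum) (hD : D ∈ [Cfsg.Lie.chevG2, Cfsg.Lie.chevB2, Cfsg.Lie.chevD4, Cfsg.Lie.chevF4, Cfsg.Lie.chevE6, Cfsg.Lie.chevE7, Cfsg.Lie.chevE8]) (i j : ℕ) (hi : i < D.rank) (hj : j < D.rank) (t : F) (ht : t ≠ 0) :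
    D.nMat F (D.simple i) 1 * D.hMat F (D.simple j) t = D.hMat F (D.reflectRoot i (D.simple j)) t * D.nMat F (D.simple i) 1 := by
  obtain ⟨T, G⟩ := CfsgLib.Chev.exists_good hD
  have hp := G.full.simple_lt hi
  have hs := G.full.simple_lt hj
  obtain ⟨hk, -, hneg, -, -, -, hs1, -⟩ := G.full.reflT_spec hi hs
  rw [G.full.reflectRoot_eq hi hs, ← G.full.coe_nr _ hp, ← G.full.coe_hr _ hs,
    ← G.full.coe_hr _ hk, ← Units.val_mul, ← Units.val_mul]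
  refine congrArg _ (mul_inv_eq_iff_eq_mul.mp (G.full.hr_of_conj (G.full.ns F i)
    (η := (T.sgn i (D.simple j) : F)) ?_ (G.full.ns_conj hi hs)
    (fun v => by rw [G.full.ns_conj hi (CfsgLib.Chev.Tab.Cert.negR_lt hs),
      G.full.sgn_neg_eq hi hs, hneg]) (fun u hu => ?_) ht))
  · rcases hs1 with h | h <;> rw [h] <;> simp
  · rw [G.full.hr_mul hs hu (neg_ne_zero.mpr one_ne_zero), mul_neg, mul_one]

end Cfsg.Agent.S1096
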