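import Cfsg.Statements.S1097
import Cfsg.Agent.Chev.SteinbergPres
import Cfsg.Agent.Chev.SteinbergData
-- import your own Cfsg.Agent.* helpers here

set_option autoImplicit false
open Cfsg

namespace Cfsg.Agent.S1097

/-- Any homomorphism from the presented group to the Chevalley group with `x̄_r(t) ↦ x_r(t)` has kernel contained in `H̄ = ⟨h̄_p(t) : p fundamental, t ≠ 0⟩`. -/
theorem result {K : Type*} [Field K] (D : Cfsg.Lie.ChevalleyDatum) (hD : D ∈ [Cfsg.Lie.chevG2, Cfsg.Lie.chevB2, Cfsg.Lie.chevD4, Cfsg.Lie.chevF4, Cfsg.Lie.chevE6, Cfsg.Lie.chevE7, Cfsg.Lie.chevE8]) (θ : D.SteinbergGroup K →* ↥(D.group K))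
    (hθ : ∀ (r : ℕ) (t : K), r < D.nroots → ((θ (D.stGen K r t) : GL D.Idx K) : Matrix D.Idx D.Idx K) = D.x K r t) :
    θ.ker ≤ Subgroup.closure {h | ∃ (i : ℕ) (t : K), i < D.rank ∧ t ≠ 0 ∧ h = PresentedGroup.mk (D.steinbergRels K) (D.stH (D.simple i) t)} := by
  obtain ⟨T, G, hW⟩ := CfsgLib.Chev.exists_good_wit hD
  intro g hg
  refine (Subgroup.closure_le _).mpr ?_
    ((G.stData θ hθ).ker_le_HB hW (congrArg Subtype.val hg))
  rintro _ ⟨j, t, rfl⟩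
  refine Subgroup.subset_closure ⟨j, t, j.isLt, t.ne_zero, ?_⟩
  simp [Cfsg.Lie.ChevalleyDatum.stH, Cfsg.Lie.ChevalleyDatum.stWord,
    Cfsg.Lie.ChevalleyDatum.hWord, Cfsg.Lie.ChevalleyDatum.nWord,
    CfsgLib.Chev.Tab.Good.StData.hb, CfsgLib.Chev.Tab.Good.StData.nb,
    G.full.cert.neg_eq (G.full.simple_lt j.isLt), mul_assoc]
  rfl

end Cfsg.Agent.S1097
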