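import Cfsg.Statements.S1098
import Cfsg.Agent.Chev.GraphAuto
-- import your own Cfsg.Agent.* helpers here

set_option autoImplicit false
open Cfsg

namespace Cfsg.Agent.S1098

/-- Graph automorphisms in characteristic 2 (K perfect): for B₂ (a short, b long) `x_a(t) ↦ x_b(t²)`, `x_b(t) ↦ x_a(t)`, and for F₄ (p₁, p₂ short, p₃, p₄ long) `x_{p₁}(t) ↦ x_{p₄}(t²)`, `x_{p₂}(t) ↦ x_{p₃}(t²)`, `x_{p₃}(t) ↦ x_{p₂}(t)`, `x_{p₄}(t) ↦ x_{p₁}(t)`, likewise on the negatives, extend to an automorphism of the group. -/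
theorem result {K : Type*} [Field K] [CharP K 2] (hperf : ∀ x : K, ∃ y : K, y ^ 2 = x)
    (p : Cfsg.Lie.ChevalleyDatum × List (ℕ × ℕ))
    (hp : p ∈ [(Cfsg.Lie.chevB2, [(1, 2), (0, 1)]), (Cfsg.Lie.chevF4, [(3, 2), (2, 2), (1, 1), (0, 1)])]) :
    ∃ α : ↥(p.1.group K) ≃* ↥(p.1.group K), ∀ (g : ↥(p.1.group K)) (i : ℕ) (t : K), i < p.1.rank →
      (((g : GL p.1.Idx K) : Matrix p.1.Idx p.1.Idx K) = p.1.x K (p.1.simple i) t →
        ((α g : GL p.1.Idx K) : Matrix p.1.Idx p.1.Idx K) = p.1.x K (p.1.simple (p.2.getD i (0, 1)).1) (t ^ (p.2.getD i (0, 1)).2)) ∧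
      (((g : GL p.1.Idx K) : Matrix p.1.Idx p.1.Idx K) = p.1.x K (p.1.neg (p.1.simple i)) t →
        ((α g : GL p.1.Idx K) : Matrix p.1.Idx p.1.Idx K) = p.1.x K (p.1.neg (p.1.simple (p.2.getD i (0, 1)).1)) (t ^ (p.2.getD i (0, 1)).2)) := by
  haveI : Fact (Nat.Prime 2) := ⟨Nat.prime_two⟩
  have h2 : ((2 : ℕ) : K) = 0 := CharP.cast_eq_zero K 2
  simp only [List.mem_cons, List.not_mem_nil, or_false] at hp
  rcases hp with rfl | rfl
  · refine CfsgLib.Chev.exists_graph_auto CfsgLib.Chev.good_B2 ⟨_, CfsgLib.Chev.wits_B2⟩ (p := 2)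
      h2 (fun _ t u => add_pow_char t u 2) (fun _ => hperf) CfsgLib.Chev.chkGraphB2
      CfsgLib.Chev.graphSimple_B2 fun α hα => ?_
    by_cases h : ∃ a : K, a ≠ 0 ∧ a ≠ 1
    · haveI := (CfsgLib.Chev.good_B2.isSimple CfsgLib.Chev.conn_B2 CfsgLib.Chev.perf_B2
        (fun _ => h)).1
      exact CfsgLib.Chev.bijective_of_isSimple hα
    · simp only [not_exists, not_and, not_not] at h
      classical
      haveI : Finite K := Finite.of_injective (fun a : K => decide (a = 0)) fun a b e => by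
        by_cases ha : a = 0
        · by_cases hb : b = 0
          · rw [ha, hb]
          · simp [ha, hb] at e
        · by_cases hb : b = 0
          · simp [ha, hb] at e
          · rw [h a ha, h b hb]
      exact ⟨Finite.injective_iff_surjective.mpr hα, hα⟩
  · haveI := (CfsgLib.Chev.good_F4.isSimple (F := K) CfsgLib.Chev.conn_F4 CfsgLib.Chev.perf_F4
      (fun e => Bool.noConfusion e)).1
    exact CfsgLib.Chev.exists_graph_auto CfsgLib.Chev.good_F4 ⟨_, CfsgLib.Chev.wits_F4⟩ (p := 2)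
      h2 (fun _ t u => add_pow_char t u 2) (fun _ => hperf) CfsgLib.Chev.chkGraphF4
      CfsgLib.Chev.graphSimple_F4 (fun _ => CfsgLib.Chev.bijective_of_isSimple)

end Cfsg.Agent.S1098
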