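import Cfsg.Statements.S1099
import Cfsg.Agent.Chev.GraphAuto
-- import your own Cfsg.Agent.* helpers here

set_option autoImplicit false
open Cfsg

namespace Cfsg.Agent.S1099

/-- Graph automorphism of G₂ in characteristic 3 (K perfect): `x_a(t) ↦ x_b(t³)`, `x_b(t) ↦ x_a(t)`, `x_{-a}(t) ↦ x_{-b}(t³)`, `x_{-b}(t) ↦ x_{-a}(t)` extend to an automorphism of the group. -/
theorem result {K : Type*} [Field K] [CharP K 3] (hperf : ∀ x : K, ∃ y : K, y ^ 3 = x) :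
    ∃ α : ↥(Cfsg.Lie.chevG2.group K) ≃* ↥(Cfsg.Lie.chevG2.group K), ∀ (g : ↥(Cfsg.Lie.chevG2.group K)) (t : K),
      (((g : GL Cfsg.Lie.chevG2.Idx K) : Matrix _ _ K) = Cfsg.Lie.chevG2.x K Cfsg.Lie.g2a t →
        ((α g : GL Cfsg.Lie.chevG2.Idx K) : Matrix _ _ K) = Cfsg.Lie.chevG2.x K Cfsg.Lie.g2b (t ^ 3)) ∧
      (((g : GL Cfsg.Lie.chevG2.Idx K) : Matrix _ _ K) = Cfsg.Lie.chevG2.x K Cfsg.Lie.g2b t →
        ((α g : GL Cfsg.Lie.chevG2.Idx K) : Matrix _ _ K) = Cfsg.Lie.chevG2.x K Cfsg.Lie.g2a t) ∧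
      (((g : GL Cfsg.Lie.chevG2.Idx K) : Matrix _ _ K) = Cfsg.Lie.chevG2.x K Cfsg.Lie.g2ma t →
        ((α g : GL Cfsg.Lie.chevG2.Idx K) : Matrix _ _ K) = Cfsg.Lie.chevG2.x K Cfsg.Lie.g2mb (t ^ 3)) ∧
      (((g : GL Cfsg.Lie.chevG2.Idx K) : Matrix _ _ K) = Cfsg.Lie.chevG2.x K Cfsg.Lie.g2mb t →
        ((α g : GL Cfsg.Lie.chevG2.Idx K) : Matrix _ _ K) = Cfsg.Lie.chevG2.x K Cfsg.Lie.g2ma t) := by
  haveI : Fact (Nat.Prime 3) := ⟨Nat.prime_three⟩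
  have h3 : ((3 : ℕ) : K) = 0 := CharP.cast_eq_zero K 3
  have hF : ∃ a : K, a ≠ 0 ∧ a ≠ 1 := ⟨-1, by simp, fun h => by
    have : ((2 : ℕ) : K) = 0 := by push_cast; linear_combination -h
    rw [CharP.cast_eq_zero_iff K 3] at this
    omega⟩
  haveI := (CfsgLib.Chev.good_G2.isSimple CfsgLib.Chev.conn_G2 CfsgLib.Chev.perf_G2
    (fun _ => hF)).1
  obtain ⟨α, hα⟩ := CfsgLib.Chev.exists_graph_auto CfsgLib.Chev.good_G2
    ⟨_, CfsgLib.Chev.wits_G2⟩ (p := 3) h3 (fun _ t u => add_pow_char t u 3) (fun _ => hperf)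
    CfsgLib.Chev.chkGraphG2 CfsgLib.Chev.graphSimple_G2
    (fun _ => CfsgLib.Chev.bijective_of_isSimple)
  have e0 : Cfsg.Lie.chevG2.simple 0 = Cfsg.Lie.g2a := by decide +kernel
  have e0' : Cfsg.Lie.chevG2.neg (Cfsg.Lie.chevG2.simple 0) = Cfsg.Lie.g2ma := by decide +kernel
  refine ⟨α, fun g t => ⟨(hα g 0 t (by decide)).1, ?_, (hα g 0 t (by decide)).2, ?_⟩⟩
  · intro hg
    have := (hα g 1 t (by decide)).1 hg
    simpa [e0] using this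
  · intro hg
    have := (hα g 1 t (by decide)).2 hg
    simpa [e0'] using this

end Cfsg.Agent.S1099
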