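import Cfsg.Statements.S1118
import Cfsg.Agent.Recog.RankOne
-- import your own Cfsg.Agent.* helpers here

set_option autoImplicit false
open Cfsg

namespace Cfsg.Agent.S1118

/-- In the rank-one set-up (`G` finite and doubly transitive on `Ω`, `t` an involution moving `a`, `Q` normal in `G_a` with `G_a = Q D`, `Q ⊓ D = 1` for the two-point stabiliser `D = G_a ⊓ G_{t • a}`, `|Q|` even, `|D|` odd), the normaliser of a subset of `Q` containing a non-identity element lies in `G_a`; consequently `N_G(Q) = N_G(G_a) = G_a`. -/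
theorem result {G Ω : Type*} [Group G] [Finite G] [MulAction G Ω] {a : Ω} {t : G} {Q : Subgroup G}
    (hS : Cfsg.IsRankOneSetup G Ω a t Q) :
    (∀ X : Set G, X ⊆ (Q : Set G) → (∃ x ∈ X, x ≠ 1) → Subgroup.normalizer X ≤ MulAction.stabilizer G a) ∧
      Subgroup.normalizer (Q : Set G) = MulAction.stabilizer G a ∧
      Subgroup.normalizer (MulAction.stabilizer G a : Set G) = MulAction.stabilizer G a := by
  have hQ : ∃ x ∈ (Q : Set G), x ≠ 1 := by
    obtain ⟨x, hx, hx1, -⟩ := CfsgLib.Recog.RankOne.exists_ne_one hS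
    exact ⟨x, hx, hx1⟩
  have h1 : ∀ X : Set G, X ⊆ (Q : Set G) → (∃ x ∈ X, x ≠ 1) →
      Subgroup.normalizer X ≤ MulAction.stabilizer G a := by
    rintro X hX ⟨x, hx, hx1⟩ g hg
    rw [Subgroup.mem_set_normalizer_iff] at hg
    refine CfsgLib.Recog.RankOne.fix_only_a hS (hX ((hg x).1 hx)) (fun h => hx1 (conj_eq_one_iff.1 h)) ?_
    rw [mul_smul, mul_smul, inv_smul_smul, CfsgLib.Recog.RankOne.fix_a hS (hX hx)]
  refine ⟨h1, le_antisymm (h1 _ subset_rfl hQ) fun g hg => ?_,
    le_antisymm (fun g hg => ?_) Subgroup.le_normalizer⟩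
  · rw [Subgroup.mem_normalizer_iff]
    refine fun n => ⟨hS.conj_mem g hg n, fun hn => ?_⟩
    simpa [mul_assoc] using CfsgLib.Recog.RankOne.conj_mem' hS (MulAction.mem_stabilizer_iff.1 hg) hn
  · obtain ⟨x, hx, hx1⟩ := hQ
    rw [Subgroup.mem_normalizer_iff] at hg
    have := (hg (g⁻¹ * x * g)).2 (by
      rw [show g * (g⁻¹ * x * g) * g⁻¹ = x by group]; exact hS.le hx)
    rw [MulAction.mem_stabilizer_iff, mul_smul, mul_smul, inv_smul_eq_iff] at this
    exact CfsgLib.Recog.RankOne.fix_only_a hS hx hx1 this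

end Cfsg.Agent.S1118
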