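import Cfsg.Statements.S1119
import Cfsg.Agent.Recog.RankOne
-- import your own Cfsg.Agent.* helpers here

set_option autoImplicit false
open Cfsg

namespace Cfsg.Agent.S1119

/-- In the rank-one set-up (`G` finite and doubly transitive on `Ω`, `t` an involution moving `a`, `Q` normal in `G_a` with `G_a = Q D`, `Q ⊓ D = 1` for the two-point stabiliser `D = G_a ⊓ G_{t • a}`, `|Q|` even, `|D|` odd): `Q` acts regularly on `Ω` minus `a`; hence `|Ω| = |Q| + 1`, `|G| = |Q| |D| (|Q| + 1)`, some Sylow 2-subgroup of `G` lies in `Q`, and each `g ∉ G_a` is uniquely `x t y` with `x ∈ G_a`, `y ∈ Q` (canonical form). -/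
theorem result {G Ω : Type*} [Group G] [Finite G] [MulAction G Ω] {a : Ω} {t : G} {Q : Subgroup G}
    (hS : Cfsg.IsRankOneSetup G Ω a t Q) :
    (∀ b c : Ω, b ≠ a → c ≠ a → ∃! x : Q, (x : G) • b = c) ∧
      Nat.card Ω = Nat.card Q + 1 ∧
      Nat.card G = Nat.card Q * Nat.card ↥(MulAction.stabilizer G a ⊓ MulAction.stabilizer G (t • a)) * (Nat.card Q + 1) ∧
      (∃ P : Sylow 2 G, (P : Subgroup G) ≤ Q) ∧
      ∀ g : G, g ∉ MulAction.stabilizer G a → ∃! p : G × G, p.1 ∈ MulAction.stabilizer G a ∧ p.2 ∈ Q ∧ g = p.1 * t * p.2 := by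
  refine ⟨fun b c hb hc => CfsgLib.Recog.RankOne.regular hS hb hc, CfsgLib.Recog.RankOne.card_points hS, CfsgLib.Recog.RankOne.card_group hS, ?_, fun g hg => CfsgLib.Recog.RankOne.bruhat hS hg⟩
  haveI : Fact (Nat.Prime 2) := ⟨Nat.prime_two⟩
  obtain ⟨P⟩ : Nonempty (Sylow 2 Q) := inferInstance
  refine ⟨(P.2.map Q.subtype).toSylow ?_, by
    rw [IsPGroup.toSylow_coe]; exact Subgroup.map_subtype_le _⟩
  intro h
  rw [Subgroup.index_map_subtype] at h
  rcases Nat.prime_two.dvd_mul.1 h with h | h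
  · exact P.not_dvd_index h
  · have hQc : Nat.card G = Nat.card Q * Q.index := (Subgroup.card_mul_index Q).symm
    rw [CfsgLib.Recog.RankOne.card_group hS, mul_assoc] at hQc
    rw [← mul_left_cancel₀ Nat.card_pos.ne' hQc] at h
    rcases Nat.prime_two.dvd_mul.1 h with h | h
    · exact hS.odd_card.not_two_dvd_nat h
    · have := even_iff_two_dvd.1 hS.even_card
      omega

end Cfsg.Agent.S1119
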