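import Cfsg.Statements.S1142
import Cfsg.Agent.Hecke.FeitHigman

set_option autoImplicit false
open Cfsg

namespace Cfsg.Agent.S1142

open CfsgLib.BN in
attribute [local instance] torus_normal in
/-- Feit–Higman: if a finite group has a (B,N)-pair of rank 2, its Weyl group `N/(B ⊓ N)` has order 4, 6, 8, 12 or 16. -/
theorem result {G : Type*} [Group G] [Finite G] (P : Cfsg.BNPair G)
    (h2 : P.rank = 2) :
    ((P.B ⊓ P.N).subgroupOf P.N).index ∈ ({4, 6, 8, 12, 16} : Set ℕ) := by
  haveI : Fintype G := Fintype.ofFinite G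
  haveI := CfsgLib.BN.torus_normal P
  haveI : Fintype (CfsgLib.BN.Weyl P) := Fintype.ofFinite _
  obtain ⟨s, t, hne, hS⟩ := Nat.card_eq_two_iff.1 h2
  have hS' : ∀ x : P.S, x = s ∨ x = t := fun x => by
    have : x ∈ ({s, t} : Set P.S) := hS ▸ Set.mem_univ x
    simpa using this
  have hcard : ((P.B ⊓ P.N).subgroupOf P.N).index = 2 * CfsgLib.Hecke.ord s t :=
    CfsgLib.Hecke.card_weyl hS'
  have h := CfsgLib.Hecke.ord_mem hne hS'
  simp only [Set.mem_insert_iff, Set.mem_singleton_iff] at h ⊢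
  omega

end Cfsg.Agent.S1142
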