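import Cfsg.Statements.S1147
import Cfsg.Agent.Suz.Order
import Cfsg.Agent.Recog.SuzukiTypeA
import Cfsg.Agent.Zass.AbelianKernel
-- import your own Cfsg.Agent.* helpers here

set_option autoImplicit false
open Cfsg
open scoped commutatorElement Pointwise

namespace Cfsg.Agent.S1147

/-- Let a finite simple Zassenhaus group `G` on `Ω` have a normal subgroup `U` of `G_a`, regular on `Ω` minus `a`, which is a non-abelian 2-group. Then `|Ω| = 2^(2n) + 1` with `n` odd, `n > 1`, a two-point stabiliser `G_a ⊓ G_b` is cyclic of order `2^n - 1`, and `U` is isomorphic to the type-A group over a field with `2^n` elements for some field automorphism `φ`. -/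
theorem result {G Ω : Type*} [Group G] [Finite G] [MulAction G Ω] [Finite Ω]
    (hZ : Cfsg.IsZassenhausGroup G Ω) [IsSimpleGroup G] {a b : Ω} (hab : a ≠ b)
    (U : Subgroup G) (hUle : U ≤ MulAction.stabilizer G a)
    (hUn : ∀ h ∈ MulAction.stabilizer G a, ∀ u ∈ U, h * u * h⁻¹ ∈ U)
    (hreg : ∀ c d : Ω, c ≠ a → d ≠ a → ∃! u : U, (u : G) • c = d)
    (hU2 : IsPGroup 2 U) (hUna : ∃ u ∈ U, ∃ v ∈ U, u * v ≠ v * u) :
    ∃ n : ℕ, Odd n ∧ 1 < n ∧ Nat.card Ω = 2 ^ (2 * n) + 1 ∧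
      IsCyclic ↥(MulAction.stabilizer G a ⊓ MulAction.stabilizer G b) ∧
      Nat.card ↥(MulAction.stabilizer G a ⊓ MulAction.stabilizer G b) = 2 ^ n - 1 ∧
      ∃ (F : Type) (_ : Field F) (_ : Fintype F) (φ : F ≃+* F), Fintype.card F = 2 ^ n ∧
        Nonempty (U ≃* Cfsg.suzukiTypeA F (φ : F →+* F)) := by
  classical
  haveI := Fintype.ofFinite Ω
  haveI := Fintype.ofFinite G
  have hUn' : (U.subgroupOf (MulAction.stabilizer G a)).Normal :=
    ⟨fun u hu g => hUn g g.2 u hu⟩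
  obtain ⟨hcard, hfix⟩ := CfsgLib.Zass.kernel_of_regular hUle hreg hab.symm
  have hna : ∃ u v : U, u * v ≠ v * u := by
    obtain ⟨u, hu, v, hv, huv⟩ := hUna
    exact ⟨⟨u, hu⟩, ⟨v, hv⟩, fun h => huv (congrArg Subtype.val h)⟩
  obtain ⟨g₀, α, e, C⟩ := CfsgLib.SuzTop.exists_cfg hZ hab hUle hcard hfix hUn' hreg hU2 hna
  obtain ⟨m, hm1, hm⟩ := C.exists_odd_pow
  obtain ⟨hh, -⟩ := C.index_eq_q
  obtain ⟨hcyc, -, -⟩ := CfsgLib.Char.zass_simple_pair hZ hab C.odd
  have hbot : CfsgLib.SuzTop.Inv α (⊥ : Subgroup U) := fun x hx => by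
    rw [Subgroup.mem_bot] at hx ⊢; rw [hx, map_one]
  have htrans : CfsgLib.Recog.SuzukiTwo.Trans α := by
    intro x y hx hx2 hy hy2
    obtain ⟨i, hi⟩ := C.frame.trans_quot (A := ⊥) (B := Subgroup.center U) hbot
      (CfsgLib.SuzTop.inv_of_characteristic _) bot_le
      (by rw [Subgroup.relIndex_bot_left, C.frame.card_center]) ((C.frame.center_iff x).2 hx2)
      (fun h => hx (Subgroup.mem_bot.1 h)) ((C.frame.center_iff y).2 hy2)
      (fun h => hy (Subgroup.mem_bot.1 h))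
    exact ⟨i, inv_mul_eq_one.1 (Subgroup.mem_bot.1 hi)⟩
  obtain ⟨F, i1, i2, φ, hF, -, -, hiso⟩ := CfsgLib.Recog.SuzukiTypeA.exists_typeA hU2 htrans hna
    (by rw [hh, C.frame.card_center])
  refine ⟨2 * m + 1, ⟨m, rfl⟩, by omega, ?_, hcyc, ?_, F, i1, i2, φ, ?_, hiso⟩
  · rw [Nat.card_eq_fintype_card, ← C.card, hh, hm, ← pow_mul]
    ring
  · rw [C.card_pair, ← hm, Nat.add_sub_cancel]
  · rw [hF, C.frame.card_center, hm]


end Cfsg.Agent.S1147
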