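import Cfsg.Statements.S1151
import Cfsg.Agent.Chev.TwistedG2Points
-- import your own Cfsg.Agent.* helpers here

set_option autoImplicit false
open Cfsg

namespace Cfsg.Agent.S1151

/-- In the small Ree group ²G₂(q), q = 3^(2m+1), realised as G¹ inside the Chevalley group G₂ over the field with q elements (θ the 3^m-th power map), with H¹ = G¹ ∩ H and U¹ = G¹ ∩ U the intersections with the ambient diagonal and positive unipotent subgroups: `H¹` has exactly `(q - 1)/2` elements of odd order, and each non-identity one centralises no non-identity element of `U¹`. -/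
theorem result {K : Type*} [Field K] [Fintype K] {m : ℕ} (hK : Fintype.card K = 3 ^ (2 * m + 1)) :
    2 * Nat.card {h : ↥(Cfsg.Lie.chevG2.diagonalSubgroup K ⊓ Cfsg.Lie.twistedG2 K (3 ^ m)) // Odd (orderOf h)} = 3 ^ (2 * m + 1) - 1 ∧
      ∀ h ∈ (Cfsg.Lie.chevG2.diagonalSubgroup K ⊓ Cfsg.Lie.twistedG2 K (3 ^ m)), h ≠ 1 → Odd (orderOf h) →
        (Cfsg.Lie.chevG2.posUnipotent K ⊓ Cfsg.Lie.twistedG2 K (3 ^ m)) ⊓ Subgroup.centralizer {h} = ⊥ := by
  obtain ⟨C⟩ := CfsgLib.Chev.G2Tw.exists_ctx hK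
  rw [C.inf_diag_eq, C.inf_pos_eq]
  constructor
  · classical
    obtain ⟨k, hk⟩ : ∃ k, 3 ^ (2 * m + 1) - 1 = 2 * k ∧ Odd k := by
      have h4 : 3 ^ (2 * m + 1) % 4 = 3 := by
        rw [pow_succ, pow_mul, Nat.mul_mod, Nat.pow_mod]; norm_num
      exact ⟨(3 ^ (2 * m + 1) - 1) / 2, by omega, Nat.odd_iff.2 (by omega)⟩
    have hodd : ∀ s : Kˣ, Odd (orderOf s) ↔ s ∈ (powMonoidHom 2 : Kˣ →* Kˣ).range := by
      intro s
      constructor
      · rintro ⟨j, hj⟩
        refine ⟨s ^ (j + 1), ?_⟩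
        show (s ^ (j + 1)) ^ 2 = s
        rw [← pow_mul, show (j + 1) * 2 = orderOf s + 1 by omega, pow_succ, pow_orderOf_eq_one,
          one_mul]
      · rintro ⟨r, rfl⟩
        refine hk.2.of_dvd_nat (orderOf_dvd_of_pow_eq_one ?_)
        show (r ^ 2) ^ k = 1
        rw [← pow_mul, ← hk.1, ← C.card_units, pow_card_eq_one']
    have hcard : Nat.card {h : ↥C.Z.H0 // Odd (orderOf h)} =
        Nat.card (powMonoidHom 2 : Kˣ →* Kˣ).range := by
      refine (Nat.card_congr (Equiv.ofBijective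
        (fun s : (powMonoidHom 2 : Kˣ →* Kˣ).range =>
          (⟨⟨C.h s.1, C.mem_H0.mpr ⟨_, rfl⟩⟩, ?_⟩ : {h : ↥C.Z.H0 // Odd (orderOf h)})) ⟨?_, ?_⟩)).symm
      · rw [← Subgroup.orderOf_coe, orderOf_injective C.h C.h_inj]
        exact (hodd _).2 s.2
      · intro s s' h
        exact Subtype.ext (C.h_inj (congrArg Subtype.val (congrArg Subtype.val h)))
      · rintro ⟨⟨g, hg⟩, ho⟩
        obtain ⟨s, rfl⟩ := C.mem_H0.mp hg
        rw [← Subgroup.orderOf_coe, orderOf_injective C.h C.h_inj] at ho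
        exact ⟨⟨s, (hodd s).1 ho⟩, rfl⟩
    rw [hcard, IsCyclic.card_powMonoidHom_range, C.card_units, Nat.gcd_eq_right ⟨k, hk.1⟩, hk.1]
    omega
  · intro h hh h1 hodd
    rw [eq_bot_iff]
    rintro u ⟨hu, hc⟩
    obtain ⟨s, rfl⟩ := C.mem_H0.mp hh
    obtain ⟨t, p, q, rfl⟩ := C.U1_form.mp hu
    rw [Subgroup.mem_bot]
    by_contra hne
    have hs := C.sq_eq_one_of_commute (s := s) (t := t) (u := p) (v := q)
      (fun ⟨e1, e2, e3⟩ => hne (by rw [e1, e2, e3, C.U_one]))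
      (by rw [← Subgroup.mem_centralizer_singleton_iff.1 hc, mul_inv_cancel_right])
    have h2 : C.h s ^ 2 = 1 := by rw [← map_pow, hs, map_one]
    rcases (Nat.dvd_prime Nat.prime_two).1 (orderOf_dvd_of_pow_eq_one h2) with e | e
    · exact h1 (orderOf_eq_one_iff.1 e)
    · rw [e] at hodd; exact absurd hodd (by decide)

end Cfsg.Agent.S1151
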