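import Cfsg.Statements.S1152
import Cfsg.Agent.Chev.ReeSylow
-- import your own Cfsg.Agent.* helpers here

set_option autoImplicit false
open Cfsg

namespace Cfsg.Agent.S1152

/-- In the small Ree group ²G₂(q), q = 3^(2m+1), realised as G¹ inside the Chevalley group G₂ over the field with q elements (θ the 3^m-th power map), with H¹ = G¹ ∩ H and U¹ = G¹ ∩ U the intersections with the ambient diagonal and positive unipotent subgroups: for an involution `a ∈ H¹`, the centraliser of `a` in `G¹` is isomorphic to `Z₂ × PSL₂(q)`; and the Sylow 2-subgroups of `G¹` are elementary abelian of order 8. -/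
theorem result {K : Type*} [Field K] [Fintype K] {m : ℕ} (hK : Fintype.card K = 3 ^ (2 * m + 1))
    (a : ↥(Cfsg.Lie.twistedG2 K (3 ^ m))) (haH : (a : GL Cfsg.Lie.chevG2.Idx K) ∈ Cfsg.Lie.chevG2.diagonalSubgroup K) (ha1 : a ≠ 1) (ha2 : a * a = 1) :
    Nonempty (↥(Subgroup.centralizer {a}) ≃* Multiplicative (ZMod 2) × Matrix.ProjectiveSpecialLinearGroup (Fin 2) K) ∧
      ∀ S : Sylow 2 ↥(Cfsg.Lie.twistedG2 K (3 ^ m)), Nat.card S = 8 ∧ ∀ x ∈ S, x * x = 1 := by
  obtain ⟨C⟩ := CfsgLib.Chev.G2Tw.exists_ctx hK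
  refine ⟨?_, fun S => C.sylow_two S⟩
  have hH : (a : GL Cfsg.Lie.chevG2.Idx K) ∈ C.Z.H0 := by
    rw [← C.inf_diag_eq]; exact Subgroup.mem_inf.mpr ⟨haH, a.2⟩
  obtain ⟨s, rfl⟩ := C.mem_H0_coe.mp hH
  have hs : s * s = 1 := C.tG_inj (by rw [map_mul, map_one]; exact ha2)
  have hs1 : s ≠ 1 := fun h => ha1 (by rw [h, map_one])
  have hs' : (s : K) = 1 ∨ (s : K) = -1 := sq_eq_one_iff.mp (by
    rw [pow_two, ← Units.val_mul, hs, Units.val_one])
  rcases hs' with h | h
  · exact absurd (Units.ext h) hs1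
  · obtain rfl : s = -1 := Units.ext h
    exact ⟨(MulEquiv.subgroupCongr C.Φc_range.symm).trans (MonoidHom.ofInjective C.Φc_inj).symm⟩

end Cfsg.Agent.S1152
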