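import Cfsg.Statements.S1154
import Cfsg.Agent.Chev.TwistedG2Points
-- import your own Cfsg.Agent.* helpers here

set_option autoImplicit false
open Cfsg

namespace Cfsg.Agent.S1154

/-- In the small Ree group ²G₂(q), q = 3^(2m+1) with m ≥ 1, realised as G¹ inside the Chevalley group G₂ over the field with q elements (θ the 3^m-th power map), with `U¹ = G¹ ∩ U` (U the positive unipotent subgroup of the ambient G₂): `U¹` has exactly `q² - 1` elements of order 3. -/
theorem result {K : Type*} [Field K] [Fintype K] {m : ℕ} (hm : 1 ≤ m) (hK : Fintype.card K = 3 ^ (2 * m + 1)) :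
    Nat.card {u : ↥(Cfsg.Lie.chevG2.posUnipotent K ⊓ Cfsg.Lie.twistedG2 K (3 ^ m)) // orderOf u = 3} = (3 ^ (2 * m + 1)) ^ 2 - 1 := by
  obtain ⟨C⟩ := CfsgLib.Chev.G2Tw.exists_ctx hK
  classical
  rw [C.inf_pos_eq]
  have e : Nat.card {u : ↥C.Z.U1 // orderOf u = 3} = Nat.card {p : K × K // p ≠ (0, 0)} := by
    haveI : Fact (Nat.Prime 3) := ⟨Nat.prime_three⟩
    refine (Nat.card_congr (Equiv.ofBijective (fun p : {p : K × K // p ≠ (0, 0)} =>
      (⟨⟨C.U 0 p.1.1 p.1.2, C.U1_form.mpr ⟨_, _, _, rfl⟩⟩, ?_⟩ : {u : ↥C.Z.U1 // orderOf u = 3}))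
      ⟨?_, ?_⟩)).symm
    · refine orderOf_eq_prime (Subtype.ext ((C.cube_eq_one_iff _ _ _).mpr rfl)) fun h => p.2 ?_
      obtain ⟨-, h2, h3⟩ := C.U_inj ((congrArg Subtype.val h).trans C.U_one.symm)
      exact Prod.ext h2 h3
    · intro p p' h
      obtain ⟨-, h2, h3⟩ := C.U_inj (congrArg Subtype.val (congrArg Subtype.val h))
      exact Subtype.ext (Prod.ext h2 h3)
    · rintro ⟨⟨g, hg⟩, ho⟩
      obtain ⟨t, p, q, rfl⟩ := C.U1_form.mp hg
      have h3 : C.U t p q ^ 3 = 1 := by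
        have := congrArg Subtype.val (pow_orderOf_eq_one (⟨C.U t p q, hg⟩ : C.Z.U1))
        rwa [ho] at this
      obtain rfl := (C.cube_eq_one_iff _ _ _).mp h3
      refine ⟨⟨(p, q), fun h => ?_⟩, rfl⟩
      rw [Prod.mk.injEq] at h
      obtain ⟨rfl, rfl⟩ := h
      rw [show (⟨C.U 0 0 0, hg⟩ : C.Z.U1) = 1 from Subtype.ext C.U_one, orderOf_one] at ho
      omega
  rw [e, Nat.card_eq_fintype_card, Fintype.card_subtype_compl, Fintype.card_prod, hK,
    Fintype.card_subtype_eq, sq]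

end Cfsg.Agent.S1154
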