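import Cfsg.Statements.S1156
import Cfsg.Agent.Chev.ReeClass
-- import your own Cfsg.Agent.* helpers here

set_option autoImplicit false
open Cfsg

namespace Cfsg.Agent.S1156

/-- In the small Ree group ²G₂(q), q = 3^(2m+1) with m ≥ 1, realised as G¹ inside the Chevalley group G₂ over the field with q elements (θ the 3^m-th power map): for every prime `p > 3` the Sylow `p`-subgroups of `G¹` are cyclic. -/
theorem result {K : Type*} [Field K] [Fintype K] {m : ℕ} (hm : 1 ≤ m) (hK : Fintype.card K = 3 ^ (2 * m + 1))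
    {p : ℕ} [Fact p.Prime] (hp : 3 < p) (P : Sylow p ↥(Cfsg.Lie.twistedG2 K (3 ^ m))) : IsCyclic (P : Subgroup ↥(Cfsg.Lie.twistedG2 K (3 ^ m))) := by
  obtain ⟨C⟩ := CfsgLib.Chev.G2Tw.exists_ctx hK
  have hp' : p.Prime := Fact.out
  by_cases hd : p ∣ Nat.card ↥(Cfsg.Lie.twistedG2 K (3 ^ m))
  · have key : ∀ A : Subgroup ↥(Cfsg.Lie.twistedG2 K (3 ^ m)), IsCyclic A → ¬ p ∣ A.index →
        IsCyclic (P : Subgroup ↥(Cfsg.Lie.twistedG2 K (3 ^ m))) := by
      intro A hA hi
      obtain ⟨x, hx⟩ := CfsgLib.Chev.ReeCount.exists_conj_mem A hi P.2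
      let f : (P : Subgroup ↥(Cfsg.Lie.twistedG2 K (3 ^ m))) →* A :=
        ((MulAut.conj x).toMonoidHom.comp (Subgroup.subtype _)).codRestrict A fun g => hx g g.2
      exact isCyclic_of_injective f fun a b e =>
        Subtype.ext ((MulAut.conj x).injective (congrArg Subtype.val e))
    rcases C.prime_dvd_card hp' hd with h | h | h | h
    · omega
    · exact key _ C.isCyclic_HG (C.index_HG hp' (by omega) h)
    · refine key _ C.isCyclic_AG (C.index_AG hp' ?_)
      obtain ⟨h8, -⟩ := C.arith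
      have hcop : Nat.Coprime p (2 ^ 2) := Nat.Coprime.pow_right 2
        ((Nat.coprime_primes hp' Nat.prime_two).mpr (by omega))
      refine hcop.dvd_of_dvd_mul_left ?_
      convert h using 1
      omega
    · obtain ⟨x, hx⟩ := exists_prime_orderOf_dvd_card' p hd
      refine key _ (C.torus_prime hp' h hx).1 (C.index_TT hp' h hx hp' ?_)
      exact hx ▸ Subgroup.orderOf_dvd_natCard _ (C.mem_TT_self x)
  · haveI : Subsingleton (P : Subgroup ↥(Cfsg.Lie.twistedG2 K (3 ^ m))) := by
      obtain ⟨k, hk⟩ := IsPGroup.iff_card.mp P.2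
      rcases Nat.eq_zero_or_pos k with rfl | hk0
      · rw [pow_zero] at hk
        exact (Nat.card_eq_one_iff_unique.mp hk).1
      · exact absurd ((dvd_pow_self p hk0.ne').trans
          (hk ▸ Subgroup.card_subgroup_dvd_card _)) hd
    infer_instance

end Cfsg.Agent.S1156
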