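import Cfsg.Statements.S1157
import Cfsg.Agent.Chev.ReeSylow
-- import your own Cfsg.Agent.* helpers here

set_option autoImplicit false
open Cfsg

namespace Cfsg.Agent.S1157

/-- In the small Ree group ²G₂(q), q = 3^(2m+1) with m ≥ 1, realised as G¹ inside the Chevalley group G₂ over the field with q elements (θ the 3^m-th power map): a Sylow 2-subgroup `S` of `G¹` satisfies `C(S) = S` and `|N(S)| = 168`. -/
theorem result {K : Type*} [Field K] [Fintype K] {m : ℕ} (hm : 1 ≤ m) (hK : Fintype.card K = 3 ^ (2 * m + 1))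
    (S : Sylow 2 ↥(Cfsg.Lie.twistedG2 K (3 ^ m))) :
    Subgroup.centralizer ((S : Subgroup ↥(Cfsg.Lie.twistedG2 K (3 ^ m))) : Set ↥(Cfsg.Lie.twistedG2 K (3 ^ m))) = S ∧
      Nat.card (Subgroup.normalizer ((S : Subgroup ↥(Cfsg.Lie.twistedG2 K (3 ^ m))) : Set ↥(Cfsg.Lie.twistedG2 K (3 ^ m)))) = 168 := by
  obtain ⟨C⟩ := CfsgLib.Chev.G2Tw.exists_ctx hK
  exact ⟨C.centralizer_sylow S, C.card_normalizer_sylow hm S⟩

end Cfsg.Agent.S1157
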