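import Cfsg.Statements.S1158
import Cfsg.Agent.Chev.ReeToral
-- import your own Cfsg.Agent.* helpers here

set_option autoImplicit false
open Cfsg

namespace Cfsg.Agent.S1158

/-- In the small Ree group ²G₂(q), q = 3^(2m+1) with m ≥ 1, realised as G¹ inside the Chevalley group G₂ over the field with q elements (θ the 3^m-th power map), with `r = 3^(m+1)` (so `r² = 3q`): for each `k ∈ {(q-1)/2, (q+1)/4, q - r + 1, q + r + 1}` there is a cyclic subgroup `A` of order `k` whose normaliser has order `2(q-1)`, `6(q+1)`, `6(q-r+1)`, `6(q+r+1)` respectively, and `N(A₀) = N(A)` for every non-trivial `A₀ ≤ A`. -/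
theorem result {K : Type*} [Field K] [Fintype K] {m : ℕ} (hm : 1 ≤ m) (hK : Fintype.card K = 3 ^ (2 * m + 1)) :
    ∀ kn ∈ ({((3 ^ (2 * m + 1) - 1) / 2, 2 * (3 ^ (2 * m + 1) - 1)), ((3 ^ (2 * m + 1) + 1) / 4, 6 * (3 ^ (2 * m + 1) + 1)),
        (3 ^ (2 * m + 1) - 3 ^ (m + 1) + 1, 6 * (3 ^ (2 * m + 1) - 3 ^ (m + 1) + 1)),
        (3 ^ (2 * m + 1) + 3 ^ (m + 1) + 1, 6 * (3 ^ (2 * m + 1) + 3 ^ (m + 1) + 1))} : Set (ℕ × ℕ)),
      ∃ A : Subgroup ↥(Cfsg.Lie.twistedG2 K (3 ^ m)), IsCyclic A ∧ Nat.card A = kn.1 ∧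
        Nat.card (Subgroup.normalizer (A : Set ↥(Cfsg.Lie.twistedG2 K (3 ^ m)))) = kn.2 ∧
        ∀ A₀ : Subgroup ↥(Cfsg.Lie.twistedG2 K (3 ^ m)), A₀ ≤ A → A₀ ≠ ⊥ →
          Subgroup.normalizer (A₀ : Set ↥(Cfsg.Lie.twistedG2 K (3 ^ m))) = Subgroup.normalizer (A : Set ↥(Cfsg.Lie.twistedG2 K (3 ^ m))) := by
  classical
  obtain ⟨C⟩ := CfsgLib.Chev.G2Tw.exists_ctx hK
  haveI := Fintype.ofFinite ↥(Cfsg.Lie.twistedG2 K (3 ^ m))
  obtain ⟨T₁, T₂, h₁, h₂, -, -⟩ := C.two_classes hm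
  have hge := CfsgLib.Chev.G2Tw.Ctx.qq_ge (m := m) hm
  intro kn hkn
  simp only [Set.mem_insert_iff, Set.mem_singleton_iff] at hkn
  rcases hkn with rfl | rfl | rfl | rfl
  · obtain ⟨A, hA, hAc, hcard⟩ := C.exists_half
    haveI := C.isCyclic_HG
    have hti := C.ti_half hA hcard
    have hN : Subgroup.normalizer (A : Set ↥(Cfsg.Lie.twistedG2 K (3 ^ m))) =
        Subgroup.normalizer (C.HG : Set ↥(Cfsg.Lie.twistedG2 K (3 ^ m))) := by
      refine le_antisymm (fun g hg => ?_) (CfsgLib.Chev.ReeCount.normalizer_le_of_cyclic hA)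
      obtain ⟨a, ha, ha1⟩ := A.bot_or_exists_ne_one.resolve_left fun e => by
        rw [e, Subgroup.card_bot] at hcard
        have h27 := hge
        unfold CfsgLib.Chev.G2Tw.Ctx.qq at hcard h27
        omega
      obtain ⟨s, rfl⟩ := hA ha
      refine C.conj_HG (fun e => ?_) (hA ((Subgroup.mem_normalizer_iff.mp hg _).mp ha))
      have h2 := C.two_lt_of_dvd_half (mt orderOf_eq_one_iff.mp ha1)
        (Or.inl (hcard ▸ Subgroup.orderOf_dvd_natCard _ ha))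
      rw [C.orderOf_tG] at h2
      have := Nat.le_of_dvd (by norm_num) (orderOf_dvd_of_pow_eq_one e)
      omega
    refine ⟨A, hAc, hcard, ?_, fun A₀ h0 h1 => ?_⟩
    · rw [hN]; exact C.card_normalizer_HG hm
    · haveI := hAc
      exact CfsgLib.Chev.ReeCount.normalizer_eq_of_ti hti h0 h1
  · haveI := C.isCyclic_AG
    exact ⟨C.AG, C.isCyclic_AG, C.card_AG, C.card_normalizer_AG hm, fun A₀ h0 h1 =>
      CfsgLib.Chev.ReeCount.normalizer_eq_of_ti (C.ti_AG hm) h0 h1⟩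
  · haveI := h₁.cyc
    exact ⟨T₁, h₁.cyc, h₁.card, h₁.normalizer, fun A₀ h0 h1 =>
      CfsgLib.Chev.ReeCount.normalizer_eq_of_ti h₁.ti h0 h1⟩
  · haveI := h₂.cyc
    exact ⟨T₂, h₂.cyc, h₂.card, h₂.normalizer, fun A₀ h0 h1 =>
      CfsgLib.Chev.ReeCount.normalizer_eq_of_ti h₂.ti h0 h1⟩

end Cfsg.Agent.S1158
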