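import Cfsg.Statements.S1159
import Cfsg.Agent.Chev.ReeToral
-- import your own Cfsg.Agent.* helpers here

set_option autoImplicit false
open Cfsg

namespace Cfsg.Agent.S1159

/-- In the small Ree group ²G₂(q), q = 3^(2m+1) with m ≥ 1, realised as G¹ inside the Chevalley group G₂ over the field with q elements (θ the 3^m-th power map), with `r = 3^(m+1)`: a natural number is the order of an element of `G¹` iff it divides one of `6`, `9`, `q - 1`, `(q + 1)/2`, `q - r + 1`, `q + r + 1`. -/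
theorem result {K : Type*} [Field K] [Fintype K] {m : ℕ} (hm : 1 ≤ m) (hK : Fintype.card K = 3 ^ (2 * m + 1)) (d : ℕ) :
    (∃ g : ↥(Cfsg.Lie.twistedG2 K (3 ^ m)), orderOf g = d) ↔
      (d ∣ 6 ∨ d ∣ 9 ∨ d ∣ 3 ^ (2 * m + 1) - 1 ∨ d ∣ (3 ^ (2 * m + 1) + 1) / 2 ∨
        d ∣ 3 ^ (2 * m + 1) - 3 ^ (m + 1) + 1 ∨ d ∣ 3 ^ (2 * m + 1) + 3 ^ (m + 1) + 1) := by
  classical
  obtain ⟨C⟩ := CfsgLib.Chev.G2Tw.exists_ctx hK
  haveI := Fintype.ofFinite ↥(Cfsg.Lie.twistedG2 K (3 ^ m))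
  obtain ⟨T₁, T₂, h₁, h₂, -, hor⟩ := C.two_classes hm
  constructor
  · rintro ⟨g, rfl⟩
    by_cases hg : g = 1
    · exact Or.inl (by rw [hg, orderOf_one]; exact one_dvd _)
    rcases C.order_cases hm hg with e | ⟨-, e | e | e⟩ | ⟨-, e, -⟩ | ⟨-, e, -⟩ | ⟨-, e, -⟩
    · exact Or.inl (by rw [e]; norm_num)
    · exact Or.inl (by rw [e]; norm_num)
    · exact Or.inl (by rw [e])
    · exact Or.inr (Or.inl (by rw [e]))
    · exact Or.inr (Or.inr (Or.inl e))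
    · exact Or.inr (Or.inr (Or.inr (Or.inl e)))
    · rcases hor g e with e | e
      · exact Or.inr (Or.inr (Or.inr (Or.inr (Or.inl e))))
      · exact Or.inr (Or.inr (Or.inr (Or.inr (Or.inr e))))
  · have key : ∀ n, 0 < n → (∃ g : ↥(Cfsg.Lie.twistedG2 K (3 ^ m)), orderOf g = n) → d ∣ n →
        ∃ g : ↥(Cfsg.Lie.twistedG2 K (3 ^ m)), orderOf g = d := by
      rintro n hn ⟨g, rfl⟩ hd
      refine ⟨g ^ (orderOf g / d), ?_⟩
      rw [orderOf_pow_of_dvd (Nat.div_pos (Nat.le_of_dvd hn hd) (Nat.pos_of_dvd_of_pos hd hn)).ne'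
        (Nat.div_dvd_of_dvd hd), Nat.div_div_self hd hn.ne']
    have cyc : ∀ (A : Subgroup ↥(Cfsg.Lie.twistedG2 K (3 ^ m))) (n : ℕ), IsCyclic A →
        Nat.card A = n → ∃ g : ↥(Cfsg.Lie.twistedG2 K (3 ^ m)), orderOf g = n := by
      intro A n hA hn
      obtain ⟨g, hg⟩ := hA.exists_ofOrder_eq_natCard
      exact ⟨g, by rw [Subgroup.orderOf_coe, hg, hn]⟩
    obtain ⟨h8, -, hge⟩ := C.arith
    rintro (hd | hd | hd | hd | hd | hd)
    · refine key 6 (by norm_num) ⟨_, (C.orderOf_bParam ((0, 1, 0), -1)).trans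
        ((C.bOrd_iff _).2.1.mpr ⟨rfl, ?_⟩)⟩ hd
      simp
    · exact key 9 (by norm_num) ⟨_, (C.orderOf_bParam ((1, 0, 0), 1)).trans
        ((C.bOrd_iff _).2.2.mpr ⟨rfl, one_ne_zero⟩)⟩ hd
    · exact key (CfsgLib.Chev.G2Tw.Ctx.qq m - 1) (by omega) (cyc _ _ C.isCyclic_HG C.card_HG) hd
    · refine key ((CfsgLib.Chev.G2Tw.Ctx.qq m + 1) / 2) (by omega) ?_ hd
      obtain ⟨⟨a, ha⟩, hao⟩ := C.isCyclic_AG.exists_ofOrder_eq_natCard
      rw [Subgroup.orderOf_mk, C.card_AG] at hao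
      have haG : orderOf C.aG = 2 := by
        haveI : Fact (Nat.Prime 2) := ⟨Nat.prime_two⟩
        exact orderOf_eq_prime ((pow_two _).trans C.aG_sq) C.aG_ne_one
      refine ⟨C.aG * a, ?_⟩
      rw [Commute.orderOf_mul_eq_mul_orderOf_of_coprime
        (C.WG_comm (C.mem_WG.mpr ⟨_, 1, one_mem _, C.Φc_a⟩) (C.AG_le_WG ha)), haG, hao]
      · omega
      · rw [haG, hao]
        exact Nat.prime_two.coprime_iff_not_dvd.mpr (by omega)
    · exact key _ (h₁.card ▸ Nat.card_pos) (cyc _ _ h₁.cyc h₁.card) hd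
    · exact key _ (h₂.card ▸ Nat.card_pos) (cyc _ _ h₂.cyc h₂.card) hd

end Cfsg.Agent.S1159
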