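import Cfsg.Statements.S1161
import Cfsg.Agent.Recog.OddTransitive.Main

set_option autoImplicit false
open Cfsg

namespace Cfsg.Agent.S1161

/-- Let `D` be a finite group of odd order acting faithfully by additive automorphisms on a finite elementary abelian `q`-group `E ≠ 0` (`q` prime), transitively on `E ∖ {0}`. Then the Fitting subgroup `F(D)` is cyclic, its non-identity elements fix only `0`, and `D/F(D)` is abelian (the derived subgroup lies in `F(D)`). -/
theorem result {D E : Type*} [Group D] [Finite D]
    [AddCommGroup E] [Finite E] [Nontrivial E] [DistribMulAction D E] [FaithfulSMul D E]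
    (hodd : Odd (Nat.card D)) {q : ℕ} (hq : q.Prime) (hE : ∀ e : E, q • e = 0)
    (htrans : ∀ a b : E, a ≠ 0 → b ≠ 0 → ∃ d : D, d • a = b) :
    IsCyclic ↥(Cfsg.fittingSubgroup D) ∧
      (∀ g ∈ Cfsg.fittingSubgroup D, g ≠ 1 → ∀ a : E, g • a = a → a = 0) ∧
      commutator D ≤ Cfsg.fittingSubgroup D := by
  have hq2 : q = 2 := by
    haveI : Fact q.Prime := ⟨hq⟩
    obtain ⟨e, he⟩ := exists_ne (0 : E)
    by_contra hne
    obtain ⟨d, hd⟩ := htrans e (-e) he (neg_ne_zero.2 he)
    obtain ⟨k, hk⟩ : ∃ k, orderOf d = 2 * k + 1 :=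
      (hodd.of_dvd_nat (orderOf_dvd_natCard d))
    have hpow : ∀ j : ℕ, d ^ (2 * j) • e = e := fun j => by
      induction j with
      | zero => simp
      | succ j ih => rw [mul_add, mul_one, pow_add, mul_smul, pow_two, mul_smul, hd, smul_neg, hd, neg_neg, ih]
    have h1 : e = -e := by
      have h := pow_orderOf_eq_one d
      rw [hk, pow_succ] at h
      have h' := congrArg (fun g : D => g • e) h
      simp only [mul_smul, hd, one_smul, smul_neg, hpow] at h'
      exact h'.symm
    have h2 : 2 • e = 0 := by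
      rw [two_nsmul]
      nth_rewrite 2 [h1]
      exact add_neg_cancel e
    refine he ((AddMonoid.addOrderOf_eq_one_iff (x := e)).1 (Nat.eq_one_of_dvd_coprimes
      ((Nat.coprime_primes Nat.prime_two hq).2 (Ne.symm hne))
      (addOrderOf_dvd_of_nsmul_eq_zero h2) (addOrderOf_dvd_of_nsmul_eq_zero (hE e))))
  subst hq2
  exact CfsgLib.OddTransitive.fitting_structure hodd hE htrans

end Cfsg.Agent.S1161
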