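import Cfsg.Statements.S1167
import Cfsg.Agent.Zass.LargeFpf
import Cfsg.Agent.Zass.AbelianKernel
import Cfsg.Agent.Zass.Basic
-- import your own Cfsg.Agent.* helpers here

set_option autoImplicit false
open Cfsg
open scoped commutatorElement Pointwise

namespace Cfsg.Agent.S1167

/-- Let `G` be a finite simple Zassenhaus group on `Ω`, `U` a normal subgroup of `G_a` regular on `Ω` minus `a` which is an abelian 2-group, and `v` an involution with `v • a ≠ a`. Then there is a unique `u₀ ∈ U`, `u₀ ≠ 1`, with `v u₀ v = u₀ v u₀`. -/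
theorem result {G Ω : Type*} [Group G] [Finite G] [MulAction G Ω] [Finite Ω]
    (hZ : Cfsg.IsZassenhausGroup G Ω) [IsSimpleGroup G] {a : Ω}
    (U : Subgroup G) (hUle : U ≤ MulAction.stabilizer G a)
    (hUn : ∀ h ∈ MulAction.stabilizer G a, ∀ u ∈ U, h * u * h⁻¹ ∈ U)
    (hreg : ∀ c d : Ω, c ≠ a → d ≠ a → ∃! u : U, (u : G) • c = d)
    (hU2 : IsPGroup 2 U) (hUab : ∀ u ∈ U, ∀ u' ∈ U, u * u' = u' * u)
    (v : G) (hv1 : v ≠ 1) (hv2 : v * v = 1) (hva : v • a ≠ a) :
    ∃! u₀ : G, u₀ ∈ U ∧ u₀ ≠ 1 ∧ v * u₀ * v = u₀ * v * u₀ := by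
    classical
    haveI := Fintype.ofFinite Ω
    have hb : v • a ≠ a := hva
    obtain ⟨b, hbdef⟩ : ∃ b, v • a = b := ⟨_, rfl⟩
    rw [hbdef] at hb
    have hab : a ≠ b := hb.symm
    have hvb : v • b = a := by rw [← hbdef, ← mul_smul, hv2, one_smul]
    have hUfix : ∀ u ∈ U, u • a = a := fun u hu => hUle hu
    obtain ⟨hcard, hfix⟩ := CfsgLib.Zass.kernel_of_regular hUle hreg hb
    haveI hcomm : IsMulCommutative U := ⟨⟨fun x y => Subtype.ext (hUab x x.2 y y.2)⟩⟩
    have hd := CfsgLib.Zass.large_of_abelian hZ hab U hUle hcard hfix hcomm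
    obtain ⟨-, p, f, hp, hpow, hΩ⟩ := CfsgLib.Zass.kernel_elementary hZ hab hd U hUle
      ⟨fun u hu h => hUn h h.2 u hu⟩ hreg
    -- the kernel is a non-trivial elementary abelian 2-group
    obtain ⟨u₁, hu₁, -⟩ := hreg b b hb hb
    have hne : Nontrivial U := by
      apply Finite.one_lt_card_iff_nontrivial.1
      have h1 := hp.one_lt
      rcases Nat.eq_zero_or_pos f with hf | hf
      · exfalso
        have hcard2 : Fintype.card Ω = 2 := by rw [hΩ, hf, pow_zero]
        obtain ⟨g, hg, hga, hgb⟩ := CfsgLib.Zass.fix_two hZ hab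
        haveI := hZ.1
        refine hg (FaithfulSMul.eq_of_smul_eq_smul fun x : Ω => ?_)
        rw [one_smul]
        by_contra hx
        have h3 : x ≠ a ∧ x ≠ b := ⟨fun e => hx (e.symm ▸ hga), fun e => hx (e.symm ▸ hgb)⟩
        have := Finset.card_le_univ ({x, a, b} : Finset Ω)
        rw [Finset.card_insert_of_notMem (by simp [h3.1, h3.2]), Finset.card_pair hab, hcard2] at this
        omega
      · have := Nat.one_lt_pow hf.ne' h1
        omega
    have hsq : ∀ u ∈ U, u * u = 1 := by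
      obtain ⟨w, hw⟩ := exists_ne (1 : U)
      obtain ⟨k, hk⟩ := hU2 w
      have h2 : orderOf w ∣ 2 ^ k := orderOf_dvd_of_pow_eq_one hk
      have hwp : orderOf w = p := by
        haveI := Fact.mk hp
        exact orderOf_eq_prime (Subtype.ext (hpow w w.2)) hw
      rw [hwp] at h2
      have hp2 : p = 2 := (Nat.prime_dvd_prime_iff_eq hp Nat.prime_two).1 (hp.dvd_of_dvd_pow h2)
      subst hp2
      intro u hu
      rw [← pow_two]; exact hpow u hu
    have hodd : Odd (Fintype.card Ω) := by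
      haveI : Fact (Nat.Prime 2) := ⟨Nat.prime_two⟩
      obtain ⟨k, hk⟩ := IsPGroup.iff_card.1 hU2
      have h1 : 1 < Nat.card U := Finite.one_lt_card
      have hk0 : k ≠ 0 := fun e => by rw [e, pow_zero] at hk; omega
      rw [← hcard, hk]
      exact (Nat.even_pow.2 ⟨even_two, hk0⟩).add_one
    -- an involution has at most one fixed point
    have huniq : ∀ c d : Ω, v • c = c → v • d = d → c = d := by
      intro c d hc hd'
      by_contra hcd
      obtain ⟨g, hgc, hgd⟩ := CfsgLib.Zass.two_trans hZ hcd hab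
      set w := g * v * g⁻¹ with hw
      have hwa : w • a = a := by rw [hw, mul_smul, mul_smul, ← hgc, inv_smul_smul, hc]
      have hwb : w • b = b := by rw [hw, mul_smul, mul_smul, ← hgd, inv_smul_smul, hd']
      have hww : w * w = 1 := by rw [hw, show g * v * g⁻¹ * (g * v * g⁻¹) = g * (v * v) * g⁻¹ by group, hv2]; group
      have hw1 : w ≠ 1 := fun e => hv1 (conj_eq_one_iff.1 e)
      -- `w` centralizes a non-identity element of `U`
      obtain ⟨u, hu, hu1, huw⟩ : ∃ u ∈ U, u ≠ 1 ∧ w * u = u * w := by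
        obtain ⟨x, hx⟩ := exists_ne (1 : U)
        set y : G := w * x * w⁻¹ with hy
        have hyU : y ∈ U := hUn w hwa x x.2
        have hwinv : w⁻¹ = w := inv_eq_of_mul_eq_one_right hww
        by_cases he : y = x
        · exact ⟨x, x.2, fun e => hx (Subtype.ext e), mul_inv_eq_iff_eq_mul.1 he⟩
        · refine ⟨(x : G) * y, U.mul_mem x.2 hyU, fun e => he ?_, ?_⟩
          · rw [eq_inv_of_mul_eq_one_right e]
            exact inv_eq_of_mul_eq_one_right (hsq x x.2)
          · have h1 : w * ((x : G) * y) * w⁻¹ = y * x := by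
              rw [hy, hwinv,
                show w * ((x : G) * (w * x * w)) * w = w * (x : G) * w * x * (w * w) by group,
                hww, mul_one]
            rw [hUab y hyU x x.2] at h1
            exact mul_inv_eq_iff_eq_mul.1 h1
      have hfixu : w • (u • b) = u • b := by rw [← mul_smul, huw, mul_smul, hwb]
      refine hw1 (hZ.2.2.1 w a b (u • b) hab ?_ ?_ hwa hwb hfixu)
      · exact fun e => hb (hfix u hu hu1 b e.symm)
      · exact fun e => hb (smul_left_cancel u (e.symm.trans (hUfix u hu).symm))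
    obtain ⟨c, hc⟩ : ∃ c : Ω, v • c = c := by
      by_contra hno
      push Not at hno
      let σ : Equiv.Perm Ω := MulAction.toPerm v
      have h2 : σ ^ 2 ^ 1 = 1 := Equiv.ext fun x => by
        rw [pow_one, pow_two]; show v • v • x = x; rw [← mul_smul, hv2, one_smul]
      haveI : Fact (Nat.Prime 2) := ⟨Nat.prime_two⟩
      obtain ⟨x, hx⟩ := Equiv.Perm.exists_fixed_point_of_prime (p := 2) (n := 1)
        (by rw [← even_iff_two_dvd]; exact Nat.not_even_iff_odd.2 hodd) h2
      exact hno x hx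
    have hca : c ≠ a := fun e => by subst e; exact hb (hbdef.symm.trans hc)
    have hcb : c ≠ b := fun e => by subst e; exact hab (hvb.symm.trans hc)
    obtain ⟨⟨u₀, hu₀⟩, hu₀b, huni⟩ := hreg b c hb hca
    change u₀ • b = c at hu₀b
    have hu₀c : u₀ • c = b := by rw [← hu₀b, ← mul_smul, hsq u₀ hu₀, one_smul]
    have hu₀1 : u₀ ≠ 1 := fun e => hcb (by rw [← hu₀b, e, one_smul])
    have hu₀a : u₀ • a = a := hUfix u₀ hu₀
    have heq : v * u₀ * v = u₀ * v * u₀ := by
      have key : (u₀ * v * u₀)⁻¹ * (v * u₀ * v) = 1 := by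
        refine hZ.2.2.1 _ a b c hab hcb.symm hca.symm ?_ ?_ ?_ <;>
          rw [mul_smul, inv_smul_eq_iff] <;> simp only [mul_smul]
        · rw [hbdef, hu₀b, hc, hu₀a, hbdef, hu₀b]
        · rw [hvb, hu₀a, hbdef, hu₀b, hc, hu₀c]
        · rw [hc, hu₀c, hvb, hu₀a]
      exact (inv_mul_eq_one.1 key).symm
    refine ⟨u₀, ⟨hu₀, hu₀1, heq⟩, ?_⟩
    rintro u ⟨hu, hu1, he⟩
    have h1 : v • (u • b) = u • b := by
      have := congrArg (fun g : G => g • a) he
      simpa only [mul_smul, hbdef, hUfix u hu] using this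
    have h2 : u • b = c := huniq _ _ h1 hc
    exact congrArg Subtype.val (huni ⟨u, hu⟩ h2)


end Cfsg.Agent.S1167
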