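import Cfsg.Statements.S1172
import Cfsg.Agent.CommClosed.Induction
import Cfsg.Agent.CommClosed.SylowNormal

set_option autoImplicit false
set_option linter.style.haveILetI false
open Cfsg

namespace Cfsg.Agent.S1172

open Subgroup
open scoped commutatorElement

/-- A dihedral 2-subgroup is generated by its involutions. -/
theorem le_closure_involutions {G : Type*} [Group G] (A : Subgroup G) {m : ℕ}
    (e : A ≃* DihedralGroup m) : A ≤ closure {x | x ∈ A ∧ orderOf x = 2} := by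
  intro x hx
  have hsr : ∀ i : ZMod m, ((e.symm (DihedralGroup.sr i) : A) : G) ∈
      closure {x | x ∈ A ∧ orderOf x = 2} := fun i => subset_closure ⟨(e.symm _).2, by
    rw [Subgroup.orderOf_coe, MulEquiv.orderOf_eq, DihedralGroup.orderOf_sr]⟩
  rcases h : e ⟨x, hx⟩ with i | i
  · have : (⟨x, hx⟩ : A) = e.symm (DihedralGroup.sr 0) * e.symm (DihedralGroup.sr i) := by
      rw [← map_mul, DihedralGroup.sr_mul_sr, sub_zero, ← h, MulEquiv.symm_apply_apply]
    rw [show x = ((e.symm (DihedralGroup.sr 0) : A) : G) * (e.symm (DihedralGroup.sr i) : A) from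
      congrArg Subtype.val this]
    exact mul_mem (hsr 0) (hsr i)
  · have : (⟨x, hx⟩ : A) = e.symm (DihedralGroup.sr i) := by rw [← h, MulEquiv.symm_apply_apply]
    rw [show x = ((e.symm (DihedralGroup.sr i) : A) : G) from congrArg Subtype.val this]
    exact hsr i

/-- The intersection of the normal closure of a factor with the Sylow group is that factor. -/
theorem closure_inf_eq {G : Type*} [Group G] [Finite G] (S : Sylow 2 G) (S₁ S₂ : Subgroup G)
    (h₁ : Cfsg.IsStronglyClosed S₁ (S : Subgroup G))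
    (hc : ∀ a ∈ S₁, ∀ b ∈ S₂, a * b = b * a) (hsup : S₁ ⊔ S₂ = (S : Subgroup G))
    (hcomm : ∀ x ∈ normalClosure (S₁ : Set G), ∀ y ∈ normalClosure (S₂ : Set G), x * y = y * x) :
    normalClosure (S₁ : Set G) ⊓ (S : Subgroup G) = S₁ := by
  haveI : Fact (Nat.Prime 2) := ⟨Nat.prime_two⟩
  set N := normalClosure (S₁ : Set G)
  have hS₁N : S₁ ≤ N := subset_normalClosure
  refine le_antisymm ?_ (le_inf hS₁N h₁.1)
  rintro t ⟨htN, htS⟩
  -- a decomposition of the elements of `N ⊓ S`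
  have dec : ∀ u ∈ (S : Subgroup G), u ∈ N →
      ∃ s ∈ S₁, ∃ z ∈ S₂, z ∈ N ∧ u = s * z := by
    intro u hu huN
    have hn : S₁ ≤ normalizer (S₂ : Set G) :=
      CfsgLib.CommClosed.le_normalizer_of_normalizedBy fun a ha x hx => by
        rwa [hc a ha x hx, mul_inv_cancel_right]
    rw [← hsup] at hu
    have hu' : u ∈ ((S₁ ⊔ S₂ : Subgroup G) : Set G) := hu
    rw [coe_mul_of_left_le_normalizer_right S₁ S₂ hn] at hu'
    obtain ⟨s, hs, z, hz, rfl⟩ := Set.mem_mul.1 hu'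
    exact ⟨s, hs, z, hz, by simpa using mul_mem (inv_mem (hS₁N hs)) huN, rfl⟩
  obtain ⟨P, hP⟩ := CfsgLib.CommClosed.sylow_trace N S
  have hmemP : ∀ x : N, x ∈ (P : Subgroup N) ↔ (x : G) ∈ (S : Subgroup G) := fun x => by
    rw [hP, mem_subgroupOf]
  -- conjugating in `N`
  have hconj : ∀ (g : G) (s : G), s ∈ S₁ →
      ∃ n ∈ N, n * (g * s * g⁻¹) * n⁻¹ ∈ S₁ := by
    intro g s hs
    have hx : g * s * g⁻¹ ∈ N := normalClosure_normal.conj_mem s (hS₁N hs) g
    have hp : IsPGroup 2 (zpowers (⟨g * s * g⁻¹, hx⟩ : N)) := by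
      obtain ⟨k, hk⟩ := S.isPGroup' ⟨s, h₁.1 hs⟩
      obtain ⟨j, -, hj⟩ := (Nat.dvd_prime_pow Nat.prime_two).1
        (orderOf_dvd_of_pow_eq_one (show s ^ 2 ^ k = 1 by simpa using congrArg Subtype.val hk))
      refine IsPGroup.of_card (n := j) ?_
      rw [Nat.card_zpowers, ← Subgroup.orderOf_coe, ← hj]
      exact CfsgLib.Invol.orderOf_conj_eq g s
    obtain ⟨R, hR⟩ := hp.exists_le_sylow
    obtain ⟨n, hn⟩ := MulAction.exists_smul_eq N R P
    have hmem : n * ⟨g * s * g⁻¹, hx⟩ * n⁻¹ ∈ (P : Subgroup N) := by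
      rw [← hn]; exact ⟨_, hR (mem_zpowers _), rfl⟩
    have hS : (n : G) * (g * s * g⁻¹) * (n : G)⁻¹ ∈ (S : Subgroup G) := (hmemP _).1 hmem
    refine ⟨n, n.2, ?_⟩
    have := h₁.2 s hs ((n : G) * g) (by
      rwa [show (n : G) * g * s * ((n : G) * g)⁻¹ = n * (g * s * g⁻¹) * (n : G)⁻¹ by group])
    rwa [show (n : G) * g * s * ((n : G) * g)⁻¹ = n * (g * s * g⁻¹) * (n : G)⁻¹ by group] at this
  -- `N = N' S₁`
  set D := commutator ↥N
  have hgen : ∀ x, ∀ hx : x ∈ N, (⟨x, hx⟩ : N) ∈ D ⊔ S₁.subgroupOf N := by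
    have hle : N ≤ (D ⊔ S₁.subgroupOf N).map N.subtype := by
      refine (closure_le _).2 ?_
      intro x hx
      obtain ⟨s, hs, hsx⟩ := Group.mem_conjugatesOfSet_iff.1 hx
      obtain ⟨g, rfl⟩ := isConj_iff.1 hsx
      obtain ⟨n, hn, hns⟩ := hconj g s hs
      have hxN : g * s * g⁻¹ ∈ N := normalClosure_normal.conj_mem s (hS₁N hs) g
      refine ⟨⟨g * s * g⁻¹, hxN⟩, ?_, rfl⟩
      set w : N := ⟨g * s * g⁻¹, hxN⟩
      set n' : N := ⟨n, hn⟩
      have h1 : w * n' * w⁻¹ * n'⁻¹ ∈ D := commutator_mem_commutator (mem_top w) (mem_top n')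
      have h2 : n' * w * n'⁻¹ ∈ S₁.subgroupOf N := mem_subgroupOf.2 hns
      rw [show w = (w * n' * w⁻¹ * n'⁻¹) * (n' * w * n'⁻¹) by group]
      exact mul_mem_sup h1 h2
    intro x hx
    obtain ⟨y, hy, hyx⟩ := hle hx
    have : y = (⟨x, hx⟩ : N) := Subtype.ext hyx
    exact this ▸ hy
  have hsub := hgen t htN
  obtain ⟨d, hd, s, hs, hds⟩ := mem_sup_of_normal_left.1 hsub
  rw [mem_subgroupOf] at hs
  have hdt : (d : G) * s = t := congrArg Subtype.val hds
  suffices hfoc : (d : G) ∈ S₁ by rw [← hdt]; exact mul_mem hfoc hs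
  have hdP : d ∈ (P : Subgroup N) := (hmemP d).2 (by
    have : (d : G) = t * (s : G)⁻¹ := by rw [← hdt, mul_inv_cancel_right]
    rw [this]
    exact mul_mem htS (inv_mem (h₁.1 hs)))
  have hf : d ∈ (P : Subgroup N).focalSubgroup := by
    rw [← Subgroup.commutator_inf_eq_focalSubgroup]
    exact ⟨hd, hdP⟩
  have hle : (P : Subgroup N).focalSubgroup ≤ S₁.subgroupOf N := by
    rw [focalSubgroup_def, closure_le]
    rintro _ ⟨hz, x, hxP, u, rfl⟩
    obtain ⟨a, ha, z, hz2, hzN, haz⟩ := dec x ((hmemP x).1 hxP) x.2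
    have hu : (u : G) * a * (u : G)⁻¹ * z = u * x * (u : G)⁻¹ := by
      have hzu := hcomm (u : G)⁻¹ (inv_mem u.2) z (subset_normalClosure hz2)
      rw [haz, show (u : G) * (a * z) * (u : G)⁻¹ = u * a * (z * (u : G)⁻¹) by group, ← hzu]
      group
    have hzS : z ∈ (S : Subgroup G) := by rw [← hsup]; exact mem_sup_right hz2
    have hxS : (u : G) * x * (u : G)⁻¹ ∈ (S : Subgroup G) := by
      have h3 := mul_mem (inv_mem ((hmemP _).1 hz)) ((hmemP x).1 hxP)
      simpa [commutatorElement_def, mul_assoc] using h3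
    have hua : (u : G) * a * (u : G)⁻¹ ∈ S₁ := by
      refine h₁.2 a ha u ?_
      have : (u : G) * a * (u : G)⁻¹ = u * x * (u : G)⁻¹ * z⁻¹ := by rw [← hu]; group
      rw [this]
      exact mul_mem hxS (inv_mem hzS)
    show ((⁅x, u⁆ : N) : G) ∈ S₁
    have : ((⁅x, u⁆ : N) : G) = a * ((u : G) * a * (u : G)⁻¹)⁻¹ := by
      rw [commutatorElement_def]
      push_cast
      rw [show (x : G) * u * (x : G)⁻¹ * (u : G)⁻¹ = x * ((u : G) * x * (u : G)⁻¹)⁻¹ by group, ← hu,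
        haz]
      group
    rw [this]
    exact mul_mem ha (inv_mem hua)
  exact mem_subgroupOf.1 (hle hf)

/-- Let G be a finite group with no nontrivial normal subgroup of odd order and no proper normal subgroup of odd index, whose Sylow 2-subgroup S is not commutative and is the internal direct product of two subgroups each isomorphic to a dihedral group of order at least 4 and each strongly closed in S with respect to G (product fusion). Then G is the internal direct product of two normal subgroups G₁, G₂, and S is the internal direct product of dihedral subgroups R₁ ≤ G₁ and R₂ ≤ G₂ of odd index in G₁ and G₂ respectively (so R_i is a Sylow 2-subgroup of G_i). -/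
theorem result {G : Type*} [Group G] [Finite G] (hO : Cfsg.oddCore G = ⊥) (hO' : ∀ N : Subgroup G, N.Normal → Odd N.index → N = ⊤) (S : Sylow 2 G) (hS : ¬ IsMulCommutative (S : Subgroup G)) (S₁ S₂ : Subgroup G) (hprod : Cfsg.IsInternalDirectProduct S₁ S₂ (S : Subgroup G)) (m₁ m₂ : ℕ) (hm₁ : 2 ≤ m₁) (hm₂ : 2 ≤ m₂) (e₁ : S₁ ≃* DihedralGroup m₁) (e₂ : S₂ ≃* DihedralGroup m₂) (hcl₁ : Cfsg.IsStronglyClosed S₁ (S : Subgroup G)) (hcl₂ : Cfsg.IsStronglyClosed S₂ (S : Subgroup G)) : ∃ G₁ G₂ : Subgroup G, G₁.Normal ∧ G₂.Normal ∧ Cfsg.IsInternalDirectProduct G₁ G₂ ⊤ ∧ ∃ R₁ R₂ : Subgroup G, Cfsg.IsInternalDirectProduct R₁ R₂ (S : Subgroup G) ∧ (∃ n₁, 2 ≤ n₁ ∧ Nonempty (R₁ ≃* DihedralGroup n₁)) ∧ (∃ n₂, 2 ≤ n₂ ∧ Nonempty (R₂ ≃* DihedralGroup n₂)) ∧ R₁ ≤ G₁ ∧ R₂ ≤ G₂ ∧ Odd (R₁.relIndex G₁) ∧ Odd (R₂.relIndex G₂) := by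
  haveI : Fact (Nat.Prime 2) := ⟨Nat.prime_two⟩
  obtain ⟨h1le, h2le, hc, hd, hsup⟩ := hprod
  have hcomm := CfsgLib.CommClosed.normalClosure_comm hO S hcl₁ hcl₂ hc hd
    (le_closure_involutions S₁ e₁) (le_closure_involutions S₂ e₂)
  set G₁ := normalClosure (S₁ : Set G) with hG₁
  set G₂ := normalClosure (S₂ : Set G) with hG₂
  have hi1 : G₁ ⊓ (S : Subgroup G) = S₁ := closure_inf_eq S S₁ S₂ hcl₁ hc hsup hcomm
  have hi2 : G₂ ⊓ (S : Subgroup G) = S₂ := closure_inf_eq S S₂ S₁ hcl₂ (fun a ha b hb => (hc b hb a ha).symm)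
    (by rw [sup_comm]; exact hsup) (fun x hx y hy => (hcomm y hy x hx).symm)
  have hn1 : G₁.Normal := normalClosure_normal
  have hn2 : G₂.Normal := normalClosure_normal
  have htop : G₁ ⊔ G₂ = ⊤ := by
    refine hO' _ inferInstance (Nat.odd_iff.2 ?_)
    have hle : (S : Subgroup G) ≤ G₁ ⊔ G₂ := by
      rw [← hsup]
      exact sup_le_sup subset_normalClosure subset_normalClosure
    exact Nat.two_dvd_ne_zero.1 fun h : 2 ∣ (G₁ ⊔ G₂).index =>
      S.not_dvd_index (h.trans (index_dvd_of_le hle))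
  have hinf : G₁ ⊓ G₂ = ⊥ := by
    have hcen : ∀ z ∈ G₁ ⊓ G₂, ∀ g : G, g * z = z * g := by
      intro z hz g
      have hg : g ∈ G₁ ⊔ G₂ := by rw [htop]; exact mem_top g
      have hle : G₁ ⊔ G₂ ≤ centralizer ({z} : Set G) := sup_le
        (fun x hx => mem_centralizer_singleton_iff.2 (hcomm x hx z hz.2))
        (fun x hx => mem_centralizer_singleton_iff.2 (hcomm z hz.1 x hx).symm)
      exact mem_centralizer_singleton_iff.1 (hle hg)
    have hn : (G₁ ⊓ G₂).Normal := normal_inf_normal G₁ G₂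
    obtain ⟨P, hP⟩ := CfsgLib.CommClosed.sylow_trace (G₁ ⊓ G₂) S
    have hSbot : (S : Subgroup G).subgroupOf (G₁ ⊓ G₂) = ⊥ := by
      rw [subgroupOf_eq_bot, disjoint_iff_inf_le]
      rintro x ⟨hxS, hx1, hx2⟩
      have h1 : x ∈ S₁ := hi1 ▸ ⟨hx1, hxS⟩
      have h2 : x ∈ S₂ := hi2 ▸ ⟨hx2, hxS⟩
      rw [← hd]; exact ⟨h1, h2⟩
    have hodd : (Nat.card ↥(G₁ ⊓ G₂)).Coprime 2 := by
      have h := P.not_dvd_index
      rw [hP, hSbot, index_bot] at h
      rw [Nat.coprime_two_right, Nat.odd_iff]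
      omega
    exact le_bot_iff.1 (hO ▸ CfsgLib.Solvable.le_pPrimeCore 2 hn hodd)
  have hrel : ∀ (K A : Subgroup G), K.Normal → K ⊓ (S : Subgroup G) = A →
      Odd (A.relIndex K) := by
    intro K A hK hA
    obtain ⟨P, hP⟩ := CfsgLib.CommClosed.sylow_trace K S
    have h := P.not_dvd_index
    rw [hP] at h
    rw [← hA, inf_comm, inf_relIndex_right]
    exact Nat.odd_iff.2 (by simp only [relIndex]; omega)
  exact ⟨G₁, G₂, hn1, hn2, ⟨le_top, le_top, hcomm, hinf, htop⟩, S₁, S₂, ⟨h1le, h2le, hc, hd, hsup⟩,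
    ⟨m₁, hm₁, ⟨e₁⟩⟩, ⟨m₂, hm₂, ⟨e₂⟩⟩, subset_normalClosure, subset_normalClosure,
    hrel G₁ S₁ hn1 hi1, hrel G₂ S₂ hn2 hi2⟩

end Cfsg.Agent.S1172
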