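import Mathlib.Tactic
import Cfsg.Statements.S1176
import Cfsg.Agent.Invol.Isolated
-- import your own Cfsg.Agent.* helpers here

set_option autoImplicit false
set_option linter.style.haveILetI false
open Cfsg
open scoped commutatorElement Pointwise

namespace Cfsg.Agent.S1176

/-- Let x₀ be an involution of the finite group G and D its conjugacy class. Assume (a) for each x ∈ D the subgroup W(x) generated by the members of D commuting with x is a 2-group of nilpotency class at most 2, and (b) the product of two distinct commuting members of D again lies in D. Then for all x, y ∈ D, if xy has even order greater than 2, its order is 4. -/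
theorem result {G : Type*} [Group G] [Finite G] (x₀ : G) (hx₀ : orderOf x₀ = 2) (ha : ∀ x : G, IsConj x₀ x → IsPGroup 2 ↥(Subgroup.closure {y : G | IsConj x₀ y ∧ Commute y x}) ∧ ⁅⁅Subgroup.closure {y : G | IsConj x₀ y ∧ Commute y x}, Subgroup.closure {y : G | IsConj x₀ y ∧ Commute y x}⁆, Subgroup.closure {y : G | IsConj x₀ y ∧ Commute y x}⁆ = ⊥) (hb : ∀ x y : G, IsConj x₀ x → IsConj x₀ y → x ≠ y → Commute x y → IsConj x₀ (x * y)) (x y : G) (hx : IsConj x₀ x) (hy : IsConj x₀ y) (heven : Even (orderOf (x * y))) (hgt : 2 < orderOf (x * y)) : orderOf (x * y) = 4 := by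
  have hord : ∀ x : G, IsConj x₀ x → orderOf x = 2 := by
    intro x hx
    obtain ⟨g, rfl⟩ := isConj_iff.mp hx
    rw [CfsgLib.Invol.orderOf_conj_eq, hx₀]
  have hx2 := hord x hx
  have hy2 := hord y hy
  obtain ⟨hw, hwx, hwy⟩ := CfsgLib.Invol.half_props hx2 hy2 heven
  set w := (x * y) ^ (orderOf (x * y) / 2) with hwdef
  have hxw : IsConj x₀ (x * w) := by
    rcases CfsgLib.Invol.mul_half_isConj hx2 hy2 heven with h | h
    · exact hx.trans h
    · exact hy.trans h
  have hwD : IsConj x₀ w := by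
    have h := hb x (x * w) hx hxw (fun h => CfsgLib.Invol.ne_one hw (mul_eq_left.mp h.symm))
      ((Commute.refl x).mul_right hwx.symm)
    rwa [← mul_assoc, CfsgLib.Invol.mul_self_eq_one hx2, one_mul] at h
  have hcl := (ha w hwD).2
  have hxW : x ∈ Subgroup.closure {y : G | IsConj x₀ y ∧ Commute y w} :=
    Subgroup.subset_closure ⟨hx, hwx.symm⟩
  have hyW : y ∈ Subgroup.closure {y : G | IsConj x₀ y ∧ Commute y w} :=
    Subgroup.subset_closure ⟨hy, hwy.symm⟩
  have h1 : ⁅⁅x, y⁆, x⁆ ∈ (⊥ : Subgroup G) := hcl ▸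
    Subgroup.commutator_mem_commutator (Subgroup.commutator_mem_commutator hxW hyW) hxW
  rw [Subgroup.mem_bot, commutatorElement_eq_one_iff_commute] at h1
  have hxy : ⁅x, y⁆ = (x * y) ^ 2 := by
    rw [commutatorElement_def, CfsgLib.Invol.inv_eq_self hx2, CfsgLib.Invol.inv_eq_self hy2, sq,
      mul_assoc (x * y)]
  rw [hxy] at h1
  have h4 : (x * y) ^ 4 = 1 := by
    have h2 : x * (x * y) ^ 2 * x⁻¹ = ((x * y) ^ 2)⁻¹ := by
      rw [← conj_pow, CfsgLib.Invol.conj_mul_inv hx2 hy2, inv_pow]
    have h3 := CfsgLib.Invol.pow_two_eq_one_of_inverts_of_commute h2 h1.symm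
    rwa [← pow_add] at h3
  have h5 := orderOf_dvd_of_pow_eq_one h4
  have h6 : orderOf (x * y) ≤ 4 := Nat.le_of_dvd (by norm_num) h5
  rcases (by omega : orderOf (x * y) = 3 ∨ orderOf (x * y) = 4) with h | h
  · rw [h] at h5
    norm_num at h5
  · exact h

end Cfsg.Agent.S1176
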