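import Mathlib.Tactic
import Cfsg.Statements.S1177
import Cfsg.Agent.Invol.Dihedral
-- import your own Cfsg.Agent.* helpers here

set_option autoImplicit false
set_option linter.style.haveILetI false
open Cfsg
open scoped commutatorElement Pointwise

namespace Cfsg.Agent.S1177

/-- Let A be a nontrivial elementary abelian 2-subgroup of a finite group G which is a T.I. set (each conjugate of A meets A trivially or equals A) and which does not commute elementwise with any conjugate of A other than A itself. Then for every a ∈ A, a ≠ 1, every conjugate of A contained in C_G(a) is equal to A (A is weakly closed in C_G(a)). -/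
theorem result {G : Type*} [Group G] [Finite G] (A : Subgroup G) (hA : Cfsg.IsElementaryAbelian 2 A) (hA1 : A ≠ ⊥) (hTI : ∀ g : G, A.map (MulAut.conj g).toMonoidHom ⊓ A = ⊥ ∨ A.map (MulAut.conj g).toMonoidHom = A) (hb : ∀ g : G, (∀ a ∈ A, ∀ b ∈ A.map (MulAut.conj g).toMonoidHom, a * b = b * a) → A.map (MulAut.conj g).toMonoidHom = A) (a : G) (ha : a ∈ A) (ha1 : a ≠ 1) (g : G) (hg : A.map (MulAut.conj g).toMonoidHom ≤ Subgroup.centralizer ({a} : Set G)) : A.map (MulAut.conj g).toMonoidHom = A := by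
  classical
  set B := A.map (MulAut.conj g).toMonoidHom with hB
  rcases hTI g with hAB | hAB
  swap
  · exact hAB
  by_contra hne
  apply hne
  apply hb g
  -- `B` normalizes `A`
  have hBA : ∀ b ∈ B, ∀ c ∈ A, b * c * b⁻¹ ∈ A := by
    intro b hbB c hc
    rcases hTI b with h | h
    · exfalso
      apply ha1
      have : a ∈ A.map (MulAut.conj b).toMonoidHom ⊓ A := by
        refine ⟨⟨a, ha, ?_⟩, ha⟩
        show b * a * b⁻¹ = a
        rw [Subgroup.mem_centralizer_singleton_iff.mp (hg hbB), mul_inv_cancel_right]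
      rw [h] at this
      exact this
    · rw [← h]
      exact ⟨c, hc, rfl⟩
  have hAc : ∀ u ∈ A, ∀ v ∈ A, u * v = v * u := fun u hu v hv =>
    congrArg Subtype.val (hA.1.is_comm.comm ⟨u, hu⟩ ⟨v, hv⟩)
  have hAi : ∀ u ∈ A, u⁻¹ = u := fun u hu =>
    inv_eq_of_mul_eq_one_right (by rw [← sq]; exact hA.2 u hu)
  have hBc : ∀ u ∈ B, ∀ v ∈ B, u * v = v * u := by
    rintro _ ⟨u, hu, rfl⟩ _ ⟨v, hv, rfl⟩
    rw [← map_mul, ← map_mul, hAc u hu v hv]
  have hBi : ∀ u ∈ B, u⁻¹ = u := by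
    rintro _ ⟨u, hu, rfl⟩
    rw [← map_inv, hAi u hu]
  -- an element of `A` centralizing a nontrivial element of `B` centralizes `B`
  have hcent : ∀ c ∈ A, ∀ b ∈ B, b ≠ 1 → c * b = b * c → ∀ d ∈ B, c * d = d * c := by
    intro c hc b hbB hb1 hcb d hd
    have hnorm : c * d * c⁻¹ ∈ B := by
      rcases hTI (g⁻¹ * c * g) with h | h
      · exfalso
        apply hb1
        obtain ⟨e, he, hbe⟩ := hbB
        have hbe' : g * e * g⁻¹ = b := hbe
        have : e ∈ A.map (MulAut.conj (g⁻¹ * c * g)).toMonoidHom ⊓ A := by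
          refine ⟨⟨e, he, ?_⟩, he⟩
          show g⁻¹ * c * g * e * (g⁻¹ * c * g)⁻¹ = e
          calc g⁻¹ * c * g * e * (g⁻¹ * c * g)⁻¹ = g⁻¹ * (c * (g * e * g⁻¹) * c⁻¹) * g := by group
            _ = e := by rw [hbe', hcb, mul_inv_cancel_right, ← hbe']; group
        rw [h] at this
        rw [Subgroup.mem_bot.mp this] at hbe'
        rw [← hbe']; simp
      · obtain ⟨e, he, hde⟩ := hd
        have hde' : g * e * g⁻¹ = d := hde
        refine ⟨g⁻¹ * c * g * e * (g⁻¹ * c * g)⁻¹, ?_, ?_⟩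
        · rw [SetLike.mem_coe, ← h]
          exact ⟨e, he, rfl⟩
        · show g * _ * g⁻¹ = c * d * c⁻¹
          rw [← hde']; group
    have h1 : c * d * c⁻¹ * d⁻¹ ∈ A ⊓ B := by
      refine Subgroup.mem_inf.mpr ⟨?_, mul_mem hnorm (inv_mem hd)⟩
      rw [mul_assoc c d, mul_assoc c]
      exact mul_mem hc (hBA d hd _ (inv_mem hc))
    rw [inf_comm, hAB, Subgroup.mem_bot, mul_inv_eq_one, mul_inv_eq_iff_eq_mul] at h1
    exact h1
  by_contra hcon
  push Not at hcon
  obtain ⟨c₀, hc₀, d₀, hd₀, hne₀⟩ := hcon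
  set F : Subgroup G := A ⊓ Subgroup.centralizer (B : Set G) with hF
  have hsq : ∀ b ∈ B, ∀ c ∈ A, b * (c * (b * c * b⁻¹)) * b⁻¹ = c * (b * c * b⁻¹) := by
    intro b hbB c hc
    have h2 : b * b = 1 := by
      conv_lhs => arg 1; rw [← hBi b hbB]
      exact inv_mul_cancel b
    calc b * (c * (b * c * b⁻¹)) * b⁻¹ = b * c * b⁻¹ * (b * b * c * (b * b)⁻¹) := by group
      _ = b * c * b⁻¹ * c := by rw [h2]; group
      _ = c * (b * c * b⁻¹) := hAc _ (hBA b hbB c hc) _ hc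
  have hmap : ∀ b : B, c₀ * ((b : G) * c₀ * (b : G)⁻¹) ∈ F := by
    intro b
    refine ⟨mul_mem hc₀ (hBA b b.2 c₀ hc₀), ?_⟩
    by_cases hb1 : (b : G) = 1
    · rw [hb1, one_mul, inv_one, mul_one, ← sq, hA.2 c₀ hc₀]
      exact one_mem _
    · refine Subgroup.mem_centralizer_iff.mpr fun d hd => ?_
      exact (hcent _ (mul_mem hc₀ (hBA b b.2 c₀ hc₀)) b b.2 hb1
        (mul_inv_eq_iff_eq_mul.mp (hsq b b.2 c₀ hc₀)).symm d hd).symm
  have hinj : Function.Injective (fun b : B => (⟨_, hmap b⟩ : F)) := by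
    intro b₁ b₂ h
    have h' : (b₁ : G) * c₀ * (b₁ : G)⁻¹ = (b₂ : G) * c₀ * (b₂ : G)⁻¹ :=
      mul_left_cancel (congrArg Subtype.val h)
    by_contra hne'
    have hb12 : ((b₂ : G)⁻¹ * b₁) ≠ 1 := fun h0 => hne' (Subtype.ext (inv_mul_eq_one.mp h0).symm)
    apply hne₀
    refine hcent c₀ hc₀ _ (mul_mem (inv_mem b₂.2) b₁.2) hb12 ?_ d₀ hd₀
    calc c₀ * ((b₂ : G)⁻¹ * b₁) = (b₂ : G)⁻¹ * ((b₂ : G) * c₀ * (b₂ : G)⁻¹) * b₁ := by group
      _ = (b₂ : G)⁻¹ * b₁ * c₀ := by rw [← h']; group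
  have h1 := Nat.card_le_card_of_injective _ hinj
  have h2 : Nat.card B = Nat.card A := Subgroup.card_map_of_injective (MulAut.conj g).injective
  have h3 : F = A := Subgroup.eq_of_le_of_card_ge inf_le_left (h2 ▸ h1)
  have h4 : c₀ ∈ F := h3 ▸ hc₀
  exact hne₀ (Subgroup.mem_centralizer_iff.mp h4.2 d₀ hd₀).symm

end Cfsg.Agent.S1177
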