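import Mathlib.Tactic
import Cfsg.Statements.S1178
-- import your own Cfsg.Agent.* helpers here

set_option autoImplicit false
set_option linter.style.haveILetI false
open Cfsg
open scoped commutatorElement Pointwise

namespace Cfsg.Agent.S1178

/-- Let A be a subgroup of a Sylow 2-subgroup S of the finite group G which is weakly closed in S. If a conjugate g A g⁻¹ commutes elementwise with A, then g A g⁻¹ = A. -/
theorem result {G : Type*} [Group G] [Finite G] (S : Sylow 2 G) (A : Subgroup G) (hW : Cfsg.IsWeaklyClosed A (S : Subgroup G)) (g : G) (hc : ∀ a ∈ A, ∀ b ∈ A.map (MulAut.conj g).toMonoidHom, a * b = b * a) : A.map (MulAut.conj g).toMonoidHom = A := by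
  haveI : Fact (Nat.Prime 2) := ⟨Nat.prime_two⟩
  have hAp : IsPGroup 2 A := S.isPGroup'.to_le hW.1
  have hle : A.map (MulAut.conj g).toMonoidHom ≤ Subgroup.normalizer (A : Set G) := by
    refine le_trans ?_ (Subgroup.centralizer_le_normalizer _)
    intro b hb
    exact Subgroup.mem_centralizer_iff.mpr fun a ha => hc a ha b hb
  obtain ⟨R, hR⟩ := (IsPGroup.to_sup_of_normal_right' (hAp.map (MulAut.conj g).toMonoidHom) hAp hle).exists_le_sylow
  obtain ⟨k, hk⟩ := MulAction.exists_smul_eq G R S
  have hmapS : ∀ X : Subgroup G, X ≤ R → X.map (MulAut.conj k).toMonoidHom ≤ (S : Subgroup G) := by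
    intro X hX
    rw [← hk]
    exact Subgroup.map_mono hX
  have h1 := hW.2 k (hmapS A (le_sup_right.trans hR))
  have h2 := hmapS _ (le_sup_left.trans hR)
  rw [Subgroup.map_map] at h2
  have he : ((MulAut.conj k).toMonoidHom.comp (MulAut.conj g).toMonoidHom) =
      (MulAut.conj (k * g)).toMonoidHom := by
    ext y
    simp [mul_assoc]
  rw [he] at h2
  have h3 := hW.2 (k * g) h2
  apply Subgroup.map_injective (f := (MulAut.conj k).toMonoidHom) (MulAut.conj k).injective
  rw [Subgroup.map_map, he, h1, h3]

end Cfsg.Agent.S1178
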