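import Cfsg.Statements.S1192
import Cfsg.Agent.Invol.QuasiDihedral
-- import your own Cfsg.Agent.* helpers here

set_option autoImplicit false
open Cfsg

namespace Cfsg.Agent.S1192

/-- A quasi-dihedral group S of order 2^(n+1) has exactly three maximal subgroups; one is cyclic, one is isomorphic to the generalized quaternion group of order 2^n and one to the dihedral group of order 2^n. -/
theorem result {S : Type*} [Group S] [Finite S] (hS : Cfsg.IsQuasiDihedral S) (n : ℕ) (hn : Nat.card S = 2 ^ (n + 1)) : ∃ M₁ M₂ M₃ : Subgroup S, IsCoatom M₁ ∧ IsCoatom M₂ ∧ IsCoatom M₃ ∧ M₁ ≠ M₂ ∧ M₁ ≠ M₃ ∧ M₂ ≠ M₃ ∧ (∀ M : Subgroup S, IsCoatom M → M = M₁ ∨ M = M₂ ∨ M = M₃) ∧ IsCyclic M₁ ∧ Nonempty (M₂ ≃* QuaternionGroup (2 ^ (n - 2))) ∧ Nonempty (M₃ ≃* DihedralGroup (2 ^ (n - 1))) := by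
  obtain ⟨D⟩ := CfsgLib.QD.exists_data hS
  have hk : n = D.k + 3 := by
    have h := hn.symm.trans D.card_eq
    rw [D.hq, show 16 * 2 ^ D.k = 2 ^ (D.k + 4) by ring] at h
    have := Nat.pow_right_injective le_rfl h
    omega
  subst hk
  obtain ⟨e₂⟩ := D.half_one_quaternion
  obtain ⟨e₃⟩ := D.half_zero_dihedral
  have h₂ : 2 * D.q = 2 ^ (D.k + 3 - 2) := by rw [D.hq, show D.k + 3 - 2 = D.k + 1 by omega, pow_succ']
  have h₃ : 4 * D.q = 2 ^ (D.k + 3 - 1) := by rw [D.hq, show D.k + 3 - 1 = D.k + 2 by omega, pow_add]; ring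
  refine ⟨Subgroup.zpowers D.x, D.half 1, D.half 0, CfsgLib.QD.Data.isCoatom_of_index_two D.index_rot,
    CfsgLib.QD.Data.isCoatom_of_index_two (D.index_half 1), CfsgLib.QD.Data.isCoatom_of_index_two (D.index_half 0),
    (D.half_ne_rot 1).symm, (D.half_ne_rot 0).symm, D.half_zero_ne_one.symm,
    fun M hM => D.coatom_cases hM, inferInstance, ?_, ?_⟩
  · rw [← h₂]; exact ⟨e₂⟩
  · rw [← h₃]; exact ⟨e₃⟩

end Cfsg.Agent.S1192
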