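import Cfsg.Statements.S1193
import Cfsg.Agent.Invol.QuasiDihedral
-- import your own Cfsg.Agent.* helpers here

set_option autoImplicit false
open Cfsg

namespace Cfsg.Agent.S1193

/-- Let S be quasi-dihedral of order 2^(n+1). Then S' = Φ(S) is cyclic of order 2^(n-1), the centre of S has order 2, and the subgroup generated by the involutions of S is dihedral of order 2^n. -/
theorem result {S : Type*} [Group S] [Finite S] (hS : Cfsg.IsQuasiDihedral S) (n : ℕ) (hn : Nat.card S = 2 ^ (n + 1)) : commutator S = frattini S ∧ IsCyclic (commutator S) ∧ Nat.card (commutator S) = 2 ^ (n - 1) ∧ Nat.card (Subgroup.center S) = 2 ∧ Nonempty (↥(Subgroup.closure {x : S | orderOf x = 2}) ≃* DihedralGroup (2 ^ (n - 1))) := by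
  obtain ⟨D⟩ := CfsgLib.QD.exists_data hS
  have hk : n = D.k + 3 := by
    have h := hn.symm.trans D.card_eq
    rw [D.hq, show 16 * 2 ^ D.k = 2 ^ (D.k + 4) by ring] at h
    have := Nat.pow_right_injective le_rfl h
    omega
  subst hk
  obtain ⟨e₃⟩ := D.half_zero_dihedral
  have h₃ : 4 * D.q = 2 ^ (D.k + 3 - 1) := by rw [D.hq, show D.k + 3 - 1 = D.k + 2 by omega, pow_add]; ring
  refine ⟨D.commutator_eq.1.trans D.commutator_eq.2.symm, ?_, ?_, D.card_center, ?_⟩
  · rw [D.commutator_eq.1]; infer_instance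
  · have := D.q_pos
    rw [D.commutator_eq.1, Nat.card_zpowers, D.orderOf_zpow_dvd 2 (4 * D.q) (by push_cast; ring) (by omega) (by norm_num), h₃]
  · rw [← h₃]
    exact ⟨(MulEquiv.subgroupCongr D.closure_invol).trans e₃⟩

end Cfsg.Agent.S1193
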