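import Cfsg.Statements.S1194
import Cfsg.Agent.Invol.QuasiDihedral
-- import your own Cfsg.Agent.* helpers here

set_option autoImplicit false
open Cfsg

namespace Cfsg.Agent.S1194

/-- In a quasi-dihedral 2-group S, every proper normal subgroup is either a maximal subgroup or a cyclic subgroup contained in the derived subgroup S'. -/
theorem result {S : Type*} [Group S] [Finite S] (hS : Cfsg.IsQuasiDihedral S) (N : Subgroup S) [N.Normal] (hN : N ≠ ⊤) : IsCoatom N ∨ (IsCyclic N ∧ N ≤ commutator S) := by
  obtain ⟨D⟩ := CfsgLib.QD.exists_data hS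
  refine (D.normal_cases hN).imp_right fun h => ⟨?_, h.trans D.commutator_eq.1.ge⟩
  exact isCyclic_of_injective (Subgroup.inclusion h) (Subgroup.inclusion_injective h)

end Cfsg.Agent.S1194
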