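import Cfsg.Statements.S1197
import Cfsg.Agent.Invol.Wreathed
-- import your own Cfsg.Agent.* helpers here

set_option autoImplicit false
open Cfsg

namespace Cfsg.Agent.S1197

/-- Let S be a wreathed 2-group of order 2^(2n+1). Then Z(S) is cyclic of order 2^n, the derived subgroup S' is cyclic of order 2^n, and S/Z(S) is isomorphic to the dihedral group of order 2^(n+1). -/
theorem result {S : Type*} [Group S] [Finite S] (hS : Cfsg.IsWreathed S) (n : ℕ) (hn : Nat.card S = 2 ^ (2 * n + 1)) : IsCyclic (Subgroup.center S) ∧ Nat.card (Subgroup.center S) = 2 ^ n ∧ IsCyclic (commutator S) ∧ Nat.card (commutator S) = 2 ^ n ∧ Nonempty (S ⧸ Subgroup.center S ≃* DihedralGroup (2 ^ n)) := by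
  obtain ⟨D⟩ := CfsgLib.Wreath.exists_data hS
  have hk : n = D.k + 2 := by
    have h := hn.symm.trans D.card_eq
    rw [D.hq, show 2 * (4 * 2 ^ D.k) ^ 2 = 2 ^ (2 * D.k + 5) by ring] at h
    have := Nat.pow_right_injective le_rfl h
    omega
  subst hk
  have hN : 4 * D.q = 2 ^ (D.k + 2) := by rw [D.hq]; ring
  refine ⟨?_, ?_, ?_, ?_, ?_⟩
  · rw [D.center_eq]; infer_instance
  · rw [D.card_center, hN]
  · rw [D.commutator_eq]; infer_instance
  · rw [D.card_commutator, hN]
  · rw [← hN]; exact D.quotient_dihedral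

end Cfsg.Agent.S1197
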