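import Cfsg.Statements.S1199
import Cfsg.Agent.Invol.Wreathed
-- import your own Cfsg.Agent.* helpers here

set_option autoImplicit false
open Cfsg

namespace Cfsg.Agent.S1199

/-- A wreathed 2-group S of order 2^(2n+1) has exactly one subgroup of order 2^(n+1) isomorphic to a generalized quaternion group, and that subgroup is normal in S. -/
theorem result {S : Type*} [Group S] [Finite S] (hS : Cfsg.IsWreathed S) (n : ℕ) (hn : Nat.card S = 2 ^ (2 * n + 1)) : (∃! Y : Subgroup S, Nat.card Y = 2 ^ (n + 1) ∧ Nonempty (Y ≃* QuaternionGroup (2 ^ (n - 1)))) ∧ ∀ Y : Subgroup S, Nat.card Y = 2 ^ (n + 1) → Nonempty (Y ≃* QuaternionGroup (2 ^ (n - 1))) → Y.Normal := by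
  obtain ⟨D⟩ := CfsgLib.Wreath.exists_data hS
  have hk : n = D.k + 2 := by
    have h := hn.symm.trans D.card_eq
    rw [D.hq, show 2 * (4 * 2 ^ D.k) ^ 2 = 2 ^ (2 * D.k + 5) by ring] at h
    have := Nat.pow_right_injective le_rfl h
    omega
  subst hk
  have hc : 2 ^ (D.k + 2 + 1) = 2 * (4 * D.q) := by rw [D.hq]; ring
  have hd : 2 ^ (D.k + 2 - 1) = 2 * D.q := by rw [D.hq, show D.k + 2 - 1 = D.k + 1 by omega]; ring
  rw [hc, hd]
  refine ⟨⟨D.quat, ⟨D.quat_iso.1, D.quat_iso.2⟩, fun Y hY => D.quat_unique hY.1 hY.2⟩, fun Y hY1 hY2 => ?_⟩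
  rw [D.quat_unique hY1 hY2]
  exact D.quat_normal

end Cfsg.Agent.S1199
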