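import Cfsg.Statements.S1200
import Cfsg.Agent.Invol.Wreathed
-- import your own Cfsg.Agent.* helpers here

set_option autoImplicit false
open Cfsg

namespace Cfsg.Agent.S1200

/-- Let S be a wreathed 2-group of order 2^(2n+1) and Ω the subgroup generated by its involutions. Then Ω has order 2^(n+2) and S/Ω is cyclic: some s ∈ S together with Ω generates S. -/
theorem result {S : Type*} [Group S] [Finite S] (hS : Cfsg.IsWreathed S) (n : ℕ) (hn : Nat.card S = 2 ^ (2 * n + 1)) : Nat.card (Subgroup.closure {x : S | orderOf x = 2}) = 2 ^ (n + 2) ∧ ∃ s : S, Subgroup.closure {x : S | orderOf x = 2} ⊔ Subgroup.zpowers s = ⊤ := by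
  obtain ⟨D⟩ := CfsgLib.Wreath.exists_data hS
  have hk : n = D.k + 2 := by
    have h := hn.symm.trans D.card_eq
    rw [D.hq, show 2 * (4 * 2 ^ D.k) ^ 2 = 2 ^ (2 * D.k + 5) by ring] at h
    have := Nat.pow_right_injective le_rfl h
    omega
  subst hk
  rw [D.closure_invol]
  refine ⟨?_, D.x, D.involSpan_sup⟩
  rw [D.card_involSpan, D.hq]; ring

end Cfsg.Agent.S1200
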