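import Cfsg.Statements.S1203
import Cfsg.Agent.Invol.AutomizerSix
import Cfsg.Agent.Invol.QuasiDihedral
-- import your own Cfsg.Agent.* helpers here

set_option autoImplicit false
open Cfsg

namespace Cfsg.Agent.S1203

/-- Let G be a finite group with quasi-dihedral Sylow 2-subgroup S, T a Klein four-subgroup of S and Q a quaternion subgroup of order 8 of S. Then |N_G(T) : C_G(T)| ∈ {2, 6} and |N_G(Q) : Q C_G(Q)| ∈ {2, 6}. -/
theorem result {G : Type*} [Group G] [Finite G] (S : Sylow 2 G) (hS : Cfsg.IsQuasiDihedral (S : Subgroup G)) (T : Subgroup G) (hT : IsKleinFour T) (hTS : T ≤ S) (Q : Subgroup G) (hQS : Q ≤ S) (eQ : Q ≃* QuaternionGroup 2) : ((Subgroup.centralizer (T : Set G)).relIndex (Subgroup.normalizer (T : Set G)) = 2 ∨ (Subgroup.centralizer (T : Set G)).relIndex (Subgroup.normalizer (T : Set G)) = 6) ∧ ((Q ⊔ Subgroup.centralizer (Q : Set G)).relIndex (Subgroup.normalizer (Q : Set G)) = 2 ∨ (Q ⊔ Subgroup.centralizer (Q : Set G)).relIndex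 (Subgroup.normalizer (Q : Set G)) = 6) := by
  haveI : Fact (Nat.Prime 2) := ⟨Nat.prime_two⟩
  obtain ⟨D⟩ := CfsgLib.QD.exists_data hS
  have pick : ∀ (A : Subgroup G), A ≤ (S : Subgroup G) →
      (A.subgroupOf (S : Subgroup G)).relIndex (Subgroup.normalizer ((A.subgroupOf (S : Subgroup G)) : Set (S : Subgroup G))) = 2 →
      ∃ n ∈ Subgroup.normalizer (A : Set G), n ∈ (S : Subgroup G) ∧ n ∉ A := by
    intro A hA h
    obtain ⟨n, hn, hnA⟩ := SetLike.not_le_iff_exists.1 (fun hle =>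
      absurd h (by rw [Subgroup.relIndex_eq_one.2 hle]; norm_num))
    refine ⟨n, ?_, n.2, fun h' => hnA (Subgroup.mem_subgroupOf.2 h')⟩
    refine Subgroup.mem_normalizer_iff_map_conj_eq.2 (Subgroup.eq_of_le_of_card_ge ?_ ?_)
    · rintro _ ⟨a, ha, rfl⟩
      exact Subgroup.mem_subgroupOf.1 ((Subgroup.mem_normalizer_iff.1 hn ⟨a, hA ha⟩).1 (Subgroup.mem_subgroupOf.2 ha))
    · exact (Subgroup.card_map_of_injective (f := (MulAut.conj (n : G)).toMonoidHom) (MulAut.conj (n : G)).injective).ge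
  have inS : ∀ (A : Subgroup G) (u : (S : Subgroup G)), (u : G) ∈ Subgroup.centralizer (A : Set G) →
      u ∈ Subgroup.centralizer ((A.subgroupOf (S : Subgroup G)) : Set (S : Subgroup G)) := fun A u hu =>
    Subgroup.mem_centralizer_iff.2 fun v hv => Subtype.ext (Subgroup.mem_centralizer_iff.1 hu v (Subgroup.mem_subgroupOf.1 hv))
  have pow2 : ∀ n ∈ (S : Subgroup G), ∃ k : ℕ, n ^ 2 ^ k = 1 := fun n hn => by
    obtain ⟨k, hk⟩ := S.2 ⟨n, hn⟩
    exact ⟨k, congrArg Subtype.val hk⟩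
  constructor
  · have hT' : IsKleinFour (T.subgroupOf (S : Subgroup G)) := by
      haveI := hT
      exact ⟨(Nat.card_congr (Subgroup.subgroupOfEquivOfLe hTS).toEquiv).trans hT.card_four,
        (Monoid.exponent_eq_of_mulEquiv (Subgroup.subgroupOfEquivOfLe hTS)).trans hT.exponent_two⟩
    obtain ⟨hC, hr⟩ := D.klein_centralizer hT'
    obtain ⟨n, hn, hnS, hnT⟩ := pick T hTS hr
    obtain ⟨k, hk⟩ := pow2 n hnS
    refine CfsgLib.AutomizerSix.six_cases (CfsgLib.AutomizerSix.klein_six hT)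
      (CfsgLib.AutomizerSix.two_dvd_relIndex (CfsgLib.AutomizerSix.centralizer_normal T) hn (fun hc => hnT ?_) hk)
    have h1 := inS T ⟨n, hnS⟩ hc
    rw [hC] at h1
    exact Subgroup.mem_subgroupOf.1 h1
  · have hQ' : Nonempty (Q.subgroupOf (S : Subgroup G) ≃* QuaternionGroup 2) := ⟨(Subgroup.subgroupOfEquivOfLe hQS).trans eQ⟩
    obtain ⟨hC, hr⟩ := D.quaternion_centralizer hQ'
    obtain ⟨n, hn, hnS, hnQ⟩ := pick Q hQS hr
    obtain ⟨k, hk⟩ := pow2 n hnS
    have hN : ((Q ⊔ Subgroup.centralizer (Q : Set G)).subgroupOf (Subgroup.normalizer (Q : Set G))).Normal := by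
      rw [Subgroup.subgroupOf_sup Subgroup.le_normalizer (Subgroup.centralizer_le_normalizer _)]
      haveI := CfsgLib.AutomizerSix.centralizer_normal Q
      haveI : (Q.subgroupOf (Subgroup.normalizer (Q : Set G))).Normal := Subgroup.normal_in_normalizer
      infer_instance
    refine CfsgLib.AutomizerSix.six_cases (CfsgLib.AutomizerSix.quaternion_six eQ)
      (CfsgLib.AutomizerSix.two_dvd_relIndex hN hn (fun hm => hnQ ?_) hk)
    haveI := CfsgLib.AutomizerSix.centralizer_normal Q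
    have hm' : (⟨n, hn⟩ : Subgroup.normalizer (Q : Set G)) ∈ Q.subgroupOf _ ⊔ (Subgroup.centralizer (Q : Set G)).subgroupOf _ := by
      rw [← Subgroup.subgroupOf_sup Subgroup.le_normalizer (Subgroup.centralizer_le_normalizer _)]
      exact Subgroup.mem_subgroupOf.2 hm
    obtain ⟨q, hq, c, hc, hqc⟩ := Subgroup.mem_sup_of_normal_right.1 hm'
    have hqn : (q : G) * c = n := congrArg Subtype.val hqc
    have hcS : (c : G) ∈ (S : Subgroup G) := by
      rw [show (c : G) = (q : G)⁻¹ * n by rw [← hqn]; group]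
      exact mul_mem (inv_mem (hQS (Subgroup.mem_subgroupOf.1 hq))) hnS
    have h1 := inS Q ⟨c, hcS⟩ (Subgroup.mem_subgroupOf.1 hc)
    rw [hC] at h1
    rw [← hqn]
    exact mul_mem (Subgroup.mem_subgroupOf.1 hq) (Subgroup.mem_subgroupOf.1 (Subgroup.map_subtype_le _ h1 :
      (⟨(c : G), hcS⟩ : (S : Subgroup G)) ∈ Q.subgroupOf (S : Subgroup G)))

end Cfsg.Agent.S1203
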