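import Cfsg.Statements.S1214
import Cfsg.Agent.Invol.FusionSimpleQuotient
-- import your own Cfsg.Agent.* helpers here

set_option autoImplicit false
open Cfsg

namespace Cfsg.Agent.S1214

/-- Let G be a finite group with quasi-dihedral or wreathed Sylow 2-subgroups and no subgroup of index 2. Then G/O(G), the quotient by the largest normal subgroup of odd order, has a normal subgroup of odd index which is a non-abelian simple group. -/
theorem result {G : Type*} [Group G] [Finite G] (S : Sylow 2 G) (hS : Cfsg.IsQuasiDihedral (S : Subgroup G) ∨ Cfsg.IsWreathed (S : Subgroup G)) (hG : ∀ H : Subgroup G, H.index ≠ 2) : ∃ L : Subgroup (G ⧸ Cfsg.oddCore G), L.Normal ∧ Odd L.index ∧ IsSimpleGroup L ∧ ¬ IsMulCommutative L := by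
  exact CfsgLib.FusionSimple.main S hS hG

end Cfsg.Agent.S1214
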