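import Cfsg.Statements.S1218
import Cfsg.Agent.Classical.SylowTwoGLTwo
-- import your own Cfsg.Agent.* helpers here

set_option autoImplicit false
open scoped MatrixGroups
open Cfsg

namespace Cfsg.Agent.S1218

/-- Let F be a finite field with q² elements, q odd, let GU be the subgroup of GL(2,F) preserving the Hermitian form u₁v₁^q + u₂v₂^q, and P a Sylow 2-subgroup of GU. If q ≡ 1 (mod 4) then P is quasi-dihedral; if q ≡ 3 (mod 4) then P is wreathed. -/
theorem result {F : Type*} [Field F] [Fintype F] (q : ℕ) (hF : Fintype.card F = q ^ 2) (hq : Odd q) (P : Sylow 2 ↥(Cfsg.preserving (Units.coeHom (Matrix (Fin 2) (Fin 2) F)) (Cfsg.hermForm 2 F q))) : (q % 4 = 1 → Cfsg.IsQuasiDihedral (P : Subgroup ↥(Cfsg.preserving (Units.coeHom (Matrix (Fin 2) (Fin 2) F)) (Cfsg.hermForm 2 F q)))) ∧ (q % 4 = 3 → Cfsg.IsWreathed (P : Subgroup ↥(Cfsg.preserving (Units.coeHom (Matrix (Fin 2) (Fin 2) F)) (Cfsg.hermForm 2 F q)))) := by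
  have hF' : Nat.card F = q ^ 2 := by rw [Nat.card_eq_fintype_card, hF]
  exact ⟨fun h => CfsgLib.Linear.TwoSylow.sylow_GU_two_quasiDihedral hF' h P, fun h => CfsgLib.Linear.TwoSylow.sylow_GU_two_wreathed hF' h P⟩

end Cfsg.Agent.S1218
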