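import Cfsg.Statements.S1231
import Cfsg.Agent.Invol.KCore
-- import your own Cfsg.Agent.* helpers here

set_option autoImplicit false
open Cfsg

namespace Cfsg.Agent.S1231

/-- Let H be a subgroup of the finite group G, p a prime, k ≥ 1, and P a Sylow p-subgroup of H whose p-rank is at least k. Then N_G(X) ≤ H for every subgroup X of P of p-rank at least k if and only if H ∩ gHg⁻¹ has p-rank less than k for every g ∉ H. -/
theorem result {G : Type*} [Group G] [Finite G] {p : ℕ} [Fact p.Prime] (k : ℕ) (hk : 1 ≤ k) (H : Subgroup G) (P : Sylow p ↥H) (hP : ¬ Cfsg.PRankLE p (k - 1) ↥(P : Subgroup ↥H)) : (∀ X : Subgroup G, X ≤ (P : Subgroup ↥H).map H.subtype → ¬ Cfsg.PRankLE p (k - 1) ↥X → Subgroup.normalizer (X : Set G) ≤ H) ↔ (∀ g : G, g ∉ H → Cfsg.PRankLE p (k - 1) ↥(H ⊓ H.map (MulAut.conj g).toMonoidHom)) := by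
  open CfsgLib Subgroup in
  have hP' : ¬ Cfsg.PRankLE p (k - 1) ↥((P : Subgroup ↥H).map H.subtype) := fun h => hP (KCore.rankLE_of_equiv
    ((P : Subgroup ↥H).equivMapOfInjective H.subtype H.subtype_injective).symm h)
  refine ⟨fun h g hg => KCore.rankLE_inf_conj (Functor.isSylowIn_map_subtype P) hP' h hg, ?_⟩
  intro h X hX hXr n hn
  by_contra hnH
  refine KCore.not_rankLE_of_le ?_ hXr (h n hnH)
  refine le_inf (hX.trans (map_subtype_le _)) ?_
  calc X = X.map (MulAut.conj n).toMonoidHom := (Functor.mem_normalizer_iff_cj.1 hn).symm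
    _ ≤ H.map (MulAut.conj n).toMonoidHom := map_mono (hX.trans (map_subtype_le _))

end Cfsg.Agent.S1231
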