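import Cfsg.Statements.S1236
import Cfsg.Agent.Invol.QuasiDihedral
-- import your own Cfsg.Agent.* helpers here

set_option autoImplicit false
open Cfsg

namespace Cfsg.Agent.S1236

/-- Let R be a finite group, t a central involution of R such that R ⧸ ⟨t⟩ is dihedral (of order ≥ 4) or quasi-dihedral, and A ≤ R an elementary abelian subgroup of order 8 containing t. Then C_R(A) = A. -/
theorem result {R : Type*} [Group R] [Finite R] (t : R) (ht : orderOf t = 2) (htz : t ∈ Subgroup.center R) [(Subgroup.zpowers t).Normal] (hq : (∃ m : ℕ, 2 ≤ m ∧ Nonempty (R ⧸ Subgroup.zpowers t ≃* DihedralGroup m)) ∨ Cfsg.IsQuasiDihedral (R ⧸ Subgroup.zpowers t)) (A : Subgroup R) (hA : Cfsg.IsElementaryAbelian 2 A) (hA8 : Nat.card A = 8) (htA : t ∈ A) : Subgroup.centralizer (A : Set R) = A := by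
  set π := QuotientGroup.mk' (Subgroup.zpowers t)
  set B := A.map π with hB
  have htA' : Subgroup.zpowers t ≤ A := Subgroup.zpowers_le.2 htA
  have hBc : Nat.card B = 4 := by
    have h1 := Subgroup.relIndex_mul_relIndex ⊥ (Subgroup.zpowers t) A bot_le htA'
    rw [Subgroup.relIndex_bot_left, Subgroup.relIndex_bot_left, Nat.card_zpowers, ht, hA8,
      show Subgroup.zpowers t = π.ker from (QuotientGroup.ker_mk' _).symm, Subgroup.relIndex_ker] at h1
    rw [hB]
    omega
  have hexp : ∀ g ∈ B, g * g = 1 := by
    rintro _ ⟨a, ha, rfl⟩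
    rw [← map_mul, ← sq, hA.2 a ha, map_one]
  have hBk : IsKleinFour B := by
    refine ⟨hBc, ?_⟩
    haveI : Nontrivial B := Finite.one_lt_card_iff_nontrivial.1 (by omega)
    exact (Monoid.exponent_eq_prime_iff Nat.prime_two).2 fun g hg =>
      orderOf_eq_prime (Subtype.ext (by rw [SubmonoidClass.coe_pow, sq]; exact hexp g g.2)) hg
  have hcen : Subgroup.centralizer (B : Set (R ⧸ Subgroup.zpowers t)) ≤ B := by
    rcases hq with ⟨m, hm, ⟨e⟩⟩ | hq
    · haveI : NeZero m := ⟨by omega⟩
      set E := B.map e.toMonoidHom with hE
      have hEc : Nat.card E = 4 := by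
        rw [hE, Subgroup.card_map_of_injective (f := e.toMonoidHom) e.injective, hBc]
      obtain ⟨i, hi⟩ : ∃ i, DihedralGroup.sr i ∈ E := by
        by_contra hcon
        push Not at hcon
        have hle : (E : Set (DihedralGroup m)) ⊆ DihedralGroup.r '' {j : ZMod m | j + j = 0} := by
          rintro g hg
          cases g with
          | sr j => exact absurd hg (hcon j)
          | r j =>
            obtain ⟨b, hb, hbe⟩ := hg
            refine ⟨j, ?_, rfl⟩
            have h1 : DihedralGroup.r j * DihedralGroup.r j = 1 := by
              rw [← hbe, ← map_mul, hexp b hb, map_one]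
            rw [DihedralGroup.r_mul_r, DihedralGroup.one_def] at h1
            exact DihedralGroup.r.inj h1
        have h2 : {j : ZMod m | j + j = 0}.ncard ≤ 2 := by
          classical
          rw [Set.ncard_eq_toFinset_card']
          refine le_trans (le_of_eq ?_) (IsAddCyclic.card_nsmul_eq_zero_le (α := ZMod m) (n := 2) two_pos)
          congr 1
          ext j
          simp [two_mul]
        have := (Set.ncard_le_ncard hle).trans ((Set.ncard_image_le (Set.toFinite _)).trans h2)
        rw [← Nat.card_coe_set_eq] at this
        change Nat.card E ≤ 2 at this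
        omega
      have hcomm : ∀ g ∈ E, g * DihedralGroup.sr i = DihedralGroup.sr i * g := by
        intro g hg
        haveI : IsKleinFour B := hBk
        haveI : IsMulCommutative B := IsKleinFour.isMulCommutative
        obtain ⟨b, hb, rfl⟩ := hg
        obtain ⟨c, hc, hce⟩ := hi
        rw [← hce, ← map_mul, ← map_mul]
        congr 1
        exact congrArg Subtype.val (IsMulCommutative.is_comm.comm (⟨b, hb⟩ : B) ⟨c, hc⟩)
      have hsmall : {g : DihedralGroup m | g * DihedralGroup.sr i = DihedralGroup.sr i * g}.ncard ≤ 4 := by
        have hsub : {g : DihedralGroup m | g * DihedralGroup.sr i = DihedralGroup.sr i * g} ⊆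
            DihedralGroup.r '' {j : ZMod m | j + j = 0} ∪ (fun j => DihedralGroup.sr (i + j)) '' {j : ZMod m | j + j = 0} := by
          intro g hg
          cases g with
          | r j =>
            simp only [Set.mem_ofPred_eq, DihedralGroup.r_mul_sr, DihedralGroup.sr_mul_r] at hg
            refine Or.inl ⟨j, ?_, rfl⟩
            have h1 := DihedralGroup.sr.inj hg
            show j + j = 0
            linear_combination -h1
          | sr j =>
            simp only [Set.mem_ofPred_eq, DihedralGroup.sr_mul_sr] at hg
            refine Or.inr ⟨j - i, ?_, by simp⟩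
            have h1 := DihedralGroup.r.inj hg
            show j - i + (j - i) = 0
            linear_combination -h1
        have h2 : {j : ZMod m | j + j = 0}.ncard ≤ 2 := by
          classical
          rw [Set.ncard_eq_toFinset_card']
          refine le_trans (le_of_eq ?_) (IsAddCyclic.card_nsmul_eq_zero_le (α := ZMod m) (n := 2) two_pos)
          congr 1
          ext j
          simp [two_mul]
        refine (Set.ncard_le_ncard hsub).trans ((Set.ncard_union_le _ _).trans ?_)
        have e1 := (Set.ncard_image_le (f := DihedralGroup.r) (Set.toFinite {j : ZMod m | j + j = 0})).trans h2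
        have e2 := (Set.ncard_image_le (f := fun j => DihedralGroup.sr (i + j)) (Set.toFinite {j : ZMod m | j + j = 0})).trans h2
        omega
      have heq : (E : Set (DihedralGroup m)) = {g | g * DihedralGroup.sr i = DihedralGroup.sr i * g} :=
        Set.eq_of_subset_of_ncard_le hcomm (by
          rw [← Nat.card_coe_set_eq (E : Set (DihedralGroup m)), show Nat.card (E : Set (DihedralGroup m)) = 4 from hEc]
          exact hsmall) (Set.toFinite _)
      intro g hg
      obtain ⟨c, hc, hce⟩ := hi
      have h1 : e g ∈ E := by
        rw [← SetLike.mem_coe, heq]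
        show e g * DihedralGroup.sr i = DihedralGroup.sr i * e g
        rw [← hce]
        show e g * e c = e c * e g
        rw [← map_mul, ← map_mul, Subgroup.mem_centralizer_iff.1 hg c hc]
      obtain ⟨b, hb, hbe⟩ := h1
      rwa [← e.injective hbe]
    · obtain ⟨D⟩ := CfsgLib.QD.exists_data hq
      exact le_of_eq (D.klein_centralizer hBk).1
  refine le_antisymm (fun g hg => ?_) (fun a ha => ?_)
  · have h1 : π g ∈ B := hcen (Subgroup.mem_centralizer_iff.2 (by
      rintro _ ⟨a, ha, rfl⟩
      rw [← map_mul, ← map_mul, Subgroup.mem_centralizer_iff.1 hg a ha]))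
    obtain ⟨a, ha, hag⟩ := h1
    have h2 : a⁻¹ * g ∈ A := htA' (QuotientGroup.eq.1 hag)
    have := mul_mem ha h2
    rwa [mul_inv_cancel_left] at this
  · haveI := hA.1
    exact Subgroup.mem_centralizer_iff.2 fun b hb =>
      congrArg Subtype.val (IsMulCommutative.is_comm.comm (⟨b, hb⟩ : A) ⟨a, ha⟩)

end Cfsg.Agent.S1236
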