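import Cfsg.Statements.S1238
import Cfsg.Agent.TwoRankTwo.GroupCase
import Mathlib.GroupTheory.SpecificGroups.KleinFour

set_option autoImplicit false
open Cfsg

namespace Cfsg.Agent.S1238

/-- Let G be a finite group of 2-rank 2 (a Klein four-subgroup but no elementary abelian subgroup of order 8) which is fusion simple: G has no subgroup of index 2 and no isolated involution. Let S be a Sylow 2-subgroup. Then S is dihedral, quasi-dihedral, wreathed, isomorphic to Z_{2^n} × Z_{2^n} for some n ≥ 2, or isomorphic to a Sylow 2-subgroup of PSU(3) over the field with 16 elements. -/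
theorem result {G : Type*} [Group G] [Finite G] (h2 : Cfsg.PRankLE 2 2 G) (h1 : ¬ Cfsg.PRankLE 2 1 G) (hidx : ∀ H : Subgroup G, H.index ≠ 2) (hiso : ∀ z : G, ¬ Cfsg.IsIsolatedInvolution z) (S : Sylow 2 G) {F : Type*} [Field F] [Fintype F] (hF : Fintype.card F = 16) (P : Sylow 2 (Cfsg.PSU 3 F 4)) : (∃ m : ℕ, 2 ≤ m ∧ Nonempty ((S : Subgroup G) ≃* DihedralGroup m)) ∨ Cfsg.IsQuasiDihedral (S : Subgroup G) ∨ Cfsg.IsWreathed (S : Subgroup G) ∨ (∃ n : ℕ, 2 ≤ n ∧ Nonempty ((S : Subgroup G) ≃* Multiplicative (ZMod (2 ^ n) × ZMod (2 ^ n)))) ∨ Nonempty ((S : Subgroup G) ≃* (P : Subgroup (Cfsg.PSU 3 F 4))) := by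
  haveI : Fact (Nat.Prime 2) := ⟨Nat.prime_two⟩
  have hr : ¬ Cfsg.PRankAtLeast 2 3 (S : Subgroup G) := by
    rintro ⟨A, hAc, hA2, hA⟩
    haveI := hAc
    have := h2 (A.map (S : Subgroup G).subtype) inferInstance (by
      rintro _ ⟨a, ha, rfl⟩
      rw [← map_pow, hA2 a ha, map_one])
    rw [Subgroup.card_map_of_injective (S : Subgroup G).subtype_injective] at this
    omega
  have hr2 : Cfsg.PRankAtLeast 2 2 (S : Subgroup G) := by
    rw [Cfsg.PRankLE] at h1
    push Not at h1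
    obtain ⟨A, hAc, hA2, hA⟩ := h1
    haveI := hAc
    have hA' : IsPGroup 2 A := fun a => ⟨1, Subtype.ext (by simpa using hA2 a a.2)⟩
    obtain ⟨Q, hQ⟩ := hA'.exists_le_sylow
    obtain ⟨g, hg⟩ := MulAction.exists_smul_eq G Q S
    let A' := A.map (MulAut.conj g).toMonoidHom
    have hA'S : A' ≤ (S : Subgroup G) := by
      rw [← hg]
      show A.map (MulAut.conj g).toMonoidHom ≤ (Q : Subgroup G).map (MulAut.conj g).toMonoidHom
      exact Subgroup.map_mono hQ
    refine ⟨A'.subgroupOf (S : Subgroup G), inferInstance, ?_, ?_⟩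
    · intro a ha
      obtain ⟨b, hb, hb'⟩ := ha
      apply Subtype.ext
      rw [SubmonoidClass.coe_pow, OneMemClass.coe_one, show ((a : (S : Subgroup G)) : G) = _ from hb'.symm,
        ← map_pow, hA2 b hb, map_one]
    · rw [Nat.card_congr (Subgroup.subgroupOfEquivOfLe hA'S).toEquiv,
        Subgroup.card_map_of_injective (MulAut.conj g).injective]
      obtain ⟨k, hk⟩ := IsPGroup.iff_card.1 hA'
      rw [hk] at hA ⊢
      exact Nat.pow_le_pow_right two_pos ((Nat.pow_lt_pow_iff_right one_lt_two).1 hA)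
  rcases CfsgLib.TwoRankTwo.shape S.isPGroup' hr2 hr (CfsgLib.TwoRankTwo.movedOfGroup S hiso) hF P with
    ⟨m, hm, h⟩ | h | h | ⟨n, hn, ⟨e⟩⟩ | h
  · exact Or.inl ⟨m, by omega, h⟩
  · exact Or.inr (Or.inl h)
  · exact Or.inr (Or.inr (Or.inl h))
  · rcases Nat.lt_or_ge n 2 with hn2 | hn2
    · obtain rfl : n = 1 := by omega
      haveI : IsKleinFour (DihedralGroup 2) := inferInstance
      haveI : IsKleinFour (Multiplicative (ZMod (2 ^ 1) × ZMod (2 ^ 1))) := by
        show IsKleinFour (Multiplicative (ZMod 2 × ZMod 2))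
        infer_instance
      exact Or.inl ⟨2, le_rfl, IsKleinFour.nonempty_mulEquiv.map fun f => e.trans f⟩
    · exact Or.inr (Or.inr (Or.inr (Or.inl ⟨n, hn2, ⟨e⟩⟩)))
  · exact Or.inr (Or.inr (Or.inr (Or.inr h)))

end Cfsg.Agent.S1238
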