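import Cfsg.Statements.S1239
import Cfsg.Agent.Invol.IsolatedCenter
-- import your own Cfsg.Agent.* helpers here

set_option autoImplicit false
open Cfsg

namespace Cfsg.Agent.S1239

/-- Let X be a finite group whose Sylow 2-subgroup S is quasi-dihedral or wreathed, and suppose some involution of S is isolated in X. Then the product of the largest normal odd-order subgroup O(X) with the centre of S is normal in X. -/
theorem result {X : Type*} [Group X] [Finite X] (S : Sylow 2 X) (hS : Cfsg.IsQuasiDihedral (S : Subgroup X) ∨ Cfsg.IsWreathed (S : Subgroup X)) (z : X) (hzS : z ∈ S) (hz : Cfsg.IsIsolatedInvolution z) : (Cfsg.oddCore X ⊔ (Subgroup.center (S : Subgroup X)).map (S : Subgroup X).subtype).Normal := by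
  haveI : Fact (Nat.Prime 2) := ⟨Nat.prime_two⟩
  set Z := (Subgroup.center (S : Subgroup X)).map (S : Subgroup X).subtype with hZdef
  have hcen : ∀ {u : X} (hu : u ∈ (S : Subgroup X)), (⟨u, hu⟩ : (S : Subgroup X)) ∈ Subgroup.center (S : Subgroup X) → u ∈ Z :=
    fun hu h => ⟨⟨_, hu⟩, h, rfl⟩
  have hzc : (⟨z, hzS⟩ : (S : Subgroup X)) ∈ Subgroup.center (S : Subgroup X) := Subgroup.mem_center_iff.2 fun s =>
    Subtype.ext (mul_inv_eq_iff_eq_mul.1 (CfsgLib.IsolatedCenter.isolated_center S hz hzS s.2))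
  have hzo : orderOf (⟨z, hzS⟩ : (S : Subgroup X)) = 2 := by rw [Subgroup.orderOf_mk]; exact hz.1
  have hcomm : ∀ w ∈ Z, ∀ g : X, g * w * g⁻¹ * w⁻¹ ∈ Cfsg.oddCore X := by
    rcases hS with hS | hS
    · obtain ⟨D⟩ := CfsgLib.QD.exists_data hS
      have halone : ∀ g : X, g * z * g⁻¹ ∈ (S : Subgroup X) → g * z * g⁻¹ = z := fun g hg => by
        refine hz.2 g ?_
        exact (mul_inv_eq_iff_eq_mul.1 (CfsgLib.IsolatedCenter.isolated_center S hz hzS hg)).symm
      rintro w ⟨u, hu, rfl⟩ g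
      obtain ⟨a, -, huniq⟩ := (Nat.card_eq_two_iff' (1 : Subgroup.center (S : Subgroup X))).1 D.card_center
      by_cases hu1 : u = 1
      · simp [hu1, one_mem]
      have huz : u = ⟨z, hzS⟩ := congrArg Subtype.val ((huniq ⟨u, hu⟩ (fun h => hu1 (congrArg Subtype.val h))).trans
        (huniq ⟨_, hzc⟩ (fun h => CfsgLib.Invol.ne_one hzo (congrArg Subtype.val h))).symm)
      rw [huz]
      refine CfsgLib.CentralWeak.comm_mem_oddCore 1 S z hzS (by rw [pow_one, sq]; exact CfsgLib.Invol.mul_self_eq_one hz.1) ?_ g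
      intro i a ha
      rcases Nat.even_or_odd i with ⟨l, rfl⟩ | ⟨l, rfl⟩
      · rw [← two_mul, pow_mul, sq, CfsgLib.Invol.mul_self_eq_one hz.1]; group
      · have e : z ^ (2 * l + 1) = z := by
          rw [pow_succ, pow_mul, sq, CfsgLib.Invol.mul_self_eq_one hz.1, one_pow, one_mul]
        rw [e] at ha ⊢
        exact halone a ha
    · obtain ⟨D⟩ := CfsgLib.Wreath.exists_data hS
      have hzz : (⟨z, hzS⟩ : (S : Subgroup X)) = D.e D.h D.h := D.center_invol hzc hzo
      have hzv : z = ((D.e D.h D.h : (S : Subgroup X)) : X) := congrArg Subtype.val hzz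
      have halone : ∀ (k : ℕ) (w : X), w ∈ Z → w ^ 2 ^ k = 1 → CfsgLib.CentralWeak.Alone (S : Subgroup X) w := by
        refine CfsgLib.IsolatedCenter.alone_center S hz hzS Z (Subgroup.map_subtype_le _) ?_ ?_ ?_
        · rintro w ⟨u, hu, rfl⟩ s hs
          have := congrArg Subtype.val (Subgroup.mem_center_iff.1 hu ⟨s, hs⟩)
          exact mul_inv_eq_iff_eq_mul.2 this
        · rintro v ⟨a, ha, rfl⟩ w ⟨b, hb, rfl⟩ h
          rcases D.center_sqrt ha hb (Subtype.ext h) with h1 | h1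
          · exact Or.inl (congrArg Subtype.val h1)
          · exact Or.inr (by rw [h1, hzv]; rfl)
        · rintro v hv w ⟨b, hb, rfl⟩ hvZ h
          obtain ⟨s, hs⟩ := D.sqrt_center_shift (v := ⟨v, hv⟩) (fun h1 => hvZ (hcen hv h1)) hb (Subtype.ext h)
          exact ⟨s, s.2, by rw [hzv]; exact congrArg Subtype.val hs⟩
      intro w hw g
      have hwS : w ∈ (S : Subgroup X) := Subgroup.map_subtype_le _ hw
      obtain ⟨k, hk⟩ := S.2 ⟨w, hwS⟩
      have hk' : w ^ 2 ^ k = 1 := congrArg Subtype.val hk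
      exact CfsgLib.CentralWeak.comm_mem_oddCore k S w hwS hk'
        (fun i => halone k _ (pow_mem hw i) (by rw [← pow_mul, mul_comm, pow_mul, hk', one_pow])) g
  refine ⟨fun n hn g => ?_⟩
  haveI : (Cfsg.oddCore X).Normal := inferInstance
  obtain ⟨o, ho, w, hw, rfl⟩ := Subgroup.mem_sup_of_normal_left.1 hn
  have e : g * (o * w) * g⁻¹ = (g * o * g⁻¹) * (g * w * g⁻¹ * w⁻¹) * w := by group
  rw [e]
  exact mul_mem (Subgroup.mem_sup_left (mul_mem (Subgroup.Normal.conj_mem inferInstance o ho g) (hcomm w hw g)))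
    (Subgroup.mem_sup_right hw)

end Cfsg.Agent.S1239
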