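import Mathlib.Tactic
import Cfsg.Statements.S1243
-- import your own Cfsg.Agent.* helpers here

set_option autoImplicit false
set_option linter.style.haveILetI false
open Cfsg
open scoped commutatorElement Pointwise

namespace Cfsg.Agent.S1243

/-- Let T be a Sylow p-subgroup of the finite group G and W ≤ T a subgroup weakly closed in T. If d and g d g⁻¹ both centralize W, then g d g⁻¹ = h d h⁻¹ for some h ∈ N_G(W). -/
theorem result {G : Type*} [Group G] [Finite G] {p : ℕ} [Fact p.Prime] (T : Sylow p G) (W : Subgroup G) (hW : Cfsg.IsWeaklyClosed W (T : Subgroup G)) (d g : G) (hd : d ∈ Subgroup.centralizer (W : Set G)) (hgd : g * d * g⁻¹ ∈ Subgroup.centralizer (W : Set G)) : ∃ h ∈ Subgroup.normalizer (W : Set G), h * d * h⁻¹ = g * d * g⁻¹ := by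
  set C := Subgroup.centralizer ({g * d * g⁻¹} : Set G) with hC
  have hWp : IsPGroup p W := T.isPGroup'.to_le hW.1
  have hWC : W ≤ C := fun w hw => by
    rw [Subgroup.mem_centralizer_singleton_iff]
    exact Subgroup.mem_centralizer_iff.mp hgd w hw
  have hWgC : W.map (MulAut.conj g).toMonoidHom ≤ C := by
    rintro _ ⟨w, hw, rfl⟩
    rw [Subgroup.mem_centralizer_singleton_iff]
    show g * w * g⁻¹ * (g * d * g⁻¹) = g * d * g⁻¹ * (g * w * g⁻¹)
    calc g * w * g⁻¹ * (g * d * g⁻¹) = g * (w * d) * g⁻¹ := by group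
      _ = g * d * g⁻¹ * (g * w * g⁻¹) := by rw [Subgroup.mem_centralizer_iff.mp hd w hw]; group
  obtain ⟨Q, hQ⟩ := (hWp.comap_subtype (K := C)).exists_le_sylow
  obtain ⟨Q', hQ'⟩ := ((hWp.map (MulAut.conj g).toMonoidHom).comap_subtype (K := C)).exists_le_sylow
  obtain ⟨c, hc⟩ := MulAction.exists_smul_eq C Q' Q
  obtain ⟨R, hR⟩ := (Q.isPGroup'.map C.subtype).exists_le_sylow
  obtain ⟨k, hk⟩ := MulAction.exists_smul_eq G R T
  have hQR : ∀ y : C, y ∈ (Q : Subgroup C) → k * (y : G) * k⁻¹ ∈ (T : Subgroup G) := by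
    intro y hy
    rw [← hk]
    exact ⟨(y : G), hR ⟨y, hy, rfl⟩, rfl⟩
  have h1 := hW.2 k (by
    rintro _ ⟨w, hw, rfl⟩
    exact hQR ⟨w, hWC hw⟩ (hQ hw))
  have h2 := hW.2 (k * (c : G) * g) (by
    rintro _ ⟨w, hw, rfl⟩
    have hmem : c * ⟨g * w * g⁻¹, hWgC ⟨w, hw, rfl⟩⟩ * c⁻¹ ∈ (Q : Subgroup C) := by
      rw [← hc]
      exact ⟨_, hQ' ⟨w, hw, rfl⟩, rfl⟩
    convert hQR _ hmem using 1
    show k * c * g * w * (k * c * g)⁻¹ = k * (c * (g * w * g⁻¹) * (c : G)⁻¹) * k⁻¹
    group)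
  refine ⟨(c : G) * g, ?_, ?_⟩
  · have h3 : W.map (MulAut.conj ((c : G) * g)).toMonoidHom = W := by
      apply Subgroup.map_injective (f := (MulAut.conj k).toMonoidHom) (MulAut.conj k).injective
      rw [Subgroup.map_map, h1]
      have he : ((MulAut.conj k).toMonoidHom.comp (MulAut.conj ((c : G) * g)).toMonoidHom) =
          (MulAut.conj (k * (c : G) * g)).toMonoidHom := by
        ext y
        simp [mul_assoc]
      rw [he, h2]
    rw [Subgroup.mem_normalizer_iff]
    intro w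
    constructor
    · intro hw
      exact h3.le ⟨w, hw, rfl⟩
    · intro hw
      rw [← h3] at hw
      obtain ⟨v, hv, hve⟩ := hw
      have hve' : (c : G) * g * v * ((c : G) * g)⁻¹ = (c : G) * g * w * ((c : G) * g)⁻¹ := hve
      exact (mul_left_cancel (mul_right_cancel hve')) ▸ hv
  · have hcc := Subgroup.mem_centralizer_singleton_iff.mp c.2
    calc (c : G) * g * d * ((c : G) * g)⁻¹ = (c : G) * (g * d * g⁻¹) * (c : G)⁻¹ := by group
      _ = g * d * g⁻¹ := by rw [hcc, mul_inv_cancel_right]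

end Cfsg.Agent.S1243
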