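import Cfsg.Statements.S1245
import Cfsg.Agent.InvCentPSL.NotThree
import Cfsg.Agent.Bender.StructureMain

set_option autoImplicit false
open Cfsg

namespace Cfsg.Agent.S1245

/-- Let G be a non-abelian finite simple group with commutative Sylow 2-subgroups, and t an involution whose centralizer is the internal direct product of ⟨t⟩ and a subgroup E which has a normal subgroup E₀ ≅ PSL(2,F), |F| odd, with C_E(E₀) = 1 (so PSL(2,q) ≤ E ≤ Aut PSL(2,q)). Then C_G(t) is a maximal subgroup of G. -/
theorem result {G : Type*} [Group G] [Finite G] [IsSimpleGroup G] (hna : ¬ IsMulCommutative G) (S : Sylow 2 G) (hS : IsMulCommutative (S : Subgroup G)) (t : G) (ht : orderOf t = 2) (E E₀ : Subgroup G) (hprod : Cfsg.IsInternalDirectProduct (Subgroup.zpowers t) E (Subgroup.centralizer ({t} : Set G))) (hE₀E : E₀ ≤ E) (hE₀n : (E₀.subgroupOf E).Normal) (hE₀ : ∃ (F : Type) (_ : Field F) (_ : Fintype F), Odd (Fintype.card F) ∧ Nonempty (E₀ ≃* Matrix.ProjectiveSpecialLinearGroup (Fin 2) F)) (hCE : E ⊓ Subgroup.centralizer (E₀ :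 Set G) = ⊥) : IsCoatom (Subgroup.centralizer ({t} : Set G)) := by
  haveI := Fact.mk Nat.prime_two
  obtain ⟨F, i1, i2, hodd, ⟨e⟩⟩ := hE₀
  let D : CfsgLib.InvCentPSL.Setting G F :=
    { t := t, E := E, E0 := E₀, ht := ht, prod := hprod, le := hE₀E, normal := hE₀n, iso := e,
      odd := hodd, faithful := hCE,
      abelian := fun P => by
        haveI := hS
        let f := Sylow.equiv S P
        exact ⟨⟨fun a b => f.symm.injective (by rw [map_mul, map_mul]; exact hS.is_comm.comm _ _)⟩⟩ }
  exact D.isCoatom fun M hM =>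
    CfsgLib.Bender.Consumers.three_of_simple CfsgLib.Bender.Consumers.structure_all hM

end Cfsg.Agent.S1245
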