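import Cfsg.Statements.S1246
import Cfsg.Agent.Comp.LocalLayer
-- import your own Cfsg.Agent.* helpers here

set_option autoImplicit false
open Cfsg

namespace Cfsg.Agent.S1246

/-- Let V ≤ U be p-subgroups of the finite group G. If the generalized Fitting subgroup of C_G(V) is a p-group, then so is that of C_G(U). -/
theorem result {G : Type*} [Group G] [Finite G] {p : ℕ} [Fact p.Prime] (U V : Subgroup G) (hVU : V ≤ U) (hU : IsPGroup p U) (hV : IsPGroup p ↥(Cfsg.generalizedFittingSubgroup ↥(Subgroup.centralizer (V : Set G)))) : IsPGroup p ↥(Cfsg.generalizedFittingSubgroup ↥(Subgroup.centralizer (U : Set G))) := by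
  open CfsgLib Subgroup in
  rw [LocalLayer.isPGroup_Fstar_iff] at hV ⊢
  suffices ∀ n (W : Subgroup G), V ≤ W → W ≤ U → Nat.card W = n → CharP.HasCharP p (centralizer (W : Set G)) from
    this _ U hVU le_rfl rfl
  intro n
  induction n using Nat.strongRecOn with | ind n ih => ?_
  intro W hVW hWU hn
  rcases eq_or_lt_of_le hVW with rfl | hlt
  · exact hV
  · -- a maximal subgroup of `W` above `V` is normal in `W`
    obtain ⟨M, hVM, hM, hmax⟩ := exists_maximal_ge_of_wellFoundedGT
      (fun M : Subgroup G => M < W) V hlt
    have hWM : W ≤ normalizer (M : Set G) := by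
      obtain ⟨x, hxW, hxM, hxN⟩ := CharP.exists_mem_normalizer_notMem (hU.to_le hWU) hM
      have h1 : M < M ⊔ zpowers x := lt_of_le_of_ne le_sup_left fun h => hxM (h ▸ mem_sup_right (mem_zpowers x))
      have h2 : M ⊔ zpowers x = W := by
        by_contra hne
        exact h1.not_ge (hmax (lt_of_le_of_ne (sup_le hM.le (zpowers_le.2 hxW)) hne) h1.le)
      rw [← h2]
      exact sup_le le_normalizer (zpowers_le.2 hxN)
    have hMc := ih _ (hn ▸ Solvable.card_lt_of_lt hM) M hVM (hM.le.trans hWU) rfl
    set N := normalizer (M : Set G)
    have hN : CharP.HasCharP p N := by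
      refine CharP.hasCharP_of_layer_eq_bot ?_ ?_
      · refine CharP.layer_eq_bot_of_forall fun K hK => ?_
        haveI : (M.subgroupOf N).Normal := (normal_subgroupOf_iff_le_normalizer le_normalizer).2 le_rfl
        haveI : Group.IsNilpotent (M.subgroupOf N) :=
          (((hU.to_le (hM.le.trans hWU))).comap_subtype (K := N)).isNilpotent
        have h1 := Comp.le_centralizer_of_commutator_eq_bot
          (Comp.component_commutator_normal_solvable (H := M.subgroupOf N) hK inferInstance)
        have h2 : K ≤ (centralizer (M : Set G)).subgroupOf N := fun x hx =>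
          mem_centralizer_iff.2 fun z hz =>
            congrArg Subtype.val (mem_centralizer_iff.1 (h1 hx) ⟨z, le_normalizer hz⟩ hz)
        have h3 := Comp.component_map_equiv (subgroupOfEquivOfLe (centralizer_le_normalizer (M : Set G)))
          (Comp.component_subgroupOf hK h2)
        have h4 := Comp.component_le_layer h3
        rw [hMc.layer_eq_bot, le_bot_iff, Subgroup.map_eq_bot_iff_of_injective _ (MulEquiv.injective _)] at h4
        exact Comp.component_ne_bot (Comp.component_subgroupOf hK h2) h4
      · set O := Cfsg.pPrimeCore p N
        have hOc : ∀ x ∈ O, (x : G) ∈ centralizer (M : Set G) := by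
          intro x hx
          refine mem_centralizer_iff.2 fun z hz => ?_
          haveI : (M.subgroupOf N).Normal := (normal_subgroupOf_iff_le_normalizer le_normalizer).2 le_rfl
          obtain ⟨k, hk⟩ := IsPGroup.iff_card.1 ((hU.to_le (hM.le.trans hWU)).comap_subtype (K := N))
          have hd : Disjoint O (M.subgroupOf N) := disjoint_iff.2 (inf_eq_bot_of_coprime (by
            rw [subgroupOf, hk]
            exact (Solvable.coprime_card_pPrimeCore (G := N) p).pow_right k))
          exact congrArg Subtype.val (commute_of_normal_of_disjoint O (M.subgroupOf N) inferInstance inferInstance hd x ⟨z, le_normalizer hz⟩ hx hz).eq.symm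
        refine (Subgroup.eq_bot_iff_forall _).2 fun x hx => ?_
        set C := centralizer (M : Set G)
        have hOC : O.map N.subtype ≤ C := by
          rintro _ ⟨z, hz, rfl⟩
          exact hOc z hz
        haveI : ((O.map N.subtype).subgroupOf C).Normal :=
          (normal_subgroupOf_iff_le_normalizer hOC).2
            ((centralizer_le_normalizer _).trans (Comp.normal_map_subtype_iff.1 inferInstance))
        have h5 : (O.map N.subtype).subgroupOf C ≤ Cfsg.pPrimeCore p C := by
          refine Solvable.le_pPrimeCore p inferInstance ?_
          rw [Nat.card_congr (subgroupOfEquivOfLe hOC).toEquiv,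
            card_map_of_injective N.subtype_injective]
          exact Solvable.coprime_card_pPrimeCore p
        rw [hMc.pPrimeCore_eq_bot] at h5
        have h6 := mem_bot.1 (h5 (show (⟨x, hOc x hx⟩ : C) ∈ _ from mem_map_of_mem N.subtype hx))
        exact Subtype.ext (show (x : G) = 1 from congrArg Subtype.val h6)
    set W' := W.subgroupOf N
    have hW' : CharP.HasCharP p (normalizer (W' : Set N)) :=
      LocalLayer.hasCharP_normalizer_of_hasCharP hN ((hU.to_le hWU).comap_subtype)
    set N' := normalizer (W' : Set N)
    have hcN : centralizer (W : Set G) ≤ N :=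
      (centralizer_le hM.le).trans (centralizer_le_normalizer _)
    have hle : (centralizer (W : Set G)).subgroupOf N ≤ N' := by
      intro x hx
      refine centralizer_le_normalizer _ (mem_centralizer_iff.2 fun z hz => Subtype.ext ?_)
      exact mem_centralizer_iff.1 hx z hz
    haveI : (((centralizer (W : Set G)).subgroupOf N).subgroupOf N').Normal := by
      refine (normal_subgroupOf_iff_le_normalizer hle).2 fun g hg => mem_normalizer_iff.2 fun x => ?_
      have hgN : (g : G) ∈ normalizer (W : Set G) := mem_normalizer_iff.2 fun z => by
        constructor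
        · intro hz
          exact (mem_normalizer_iff.1 hg ⟨z, hWM hz⟩).1 hz
        · intro hz
          have h := (mem_normalizer_iff.1 (inv_mem hg) ⟨(g : G) * z * (g : G)⁻¹, hWM hz⟩).1 hz
          simpa [W', mem_subgroupOf, mul_assoc] using h
      exact (mem_normalizer_iff.1 (CharP.normalizer_le_normalizer_centralizer' W hgN) (x : G))
    exact ((CharP.hasCharP_of_normal (N := ((centralizer (W : Set G)).subgroupOf N).subgroupOf N') hW').of_mulEquiv
      (subgroupOfEquivOfLe hle)).of_mulEquiv (subgroupOfEquivOfLe hcN)

end Cfsg.Agent.S1246
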