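import Cfsg.Statements.S1247
import Cfsg.Agent.Invol.MaximalBender

set_option autoImplicit false
open Cfsg Subgroup CfsgLib.MaxBender

namespace Cfsg.Agent.S1247

/-- Let G be a non-abelian finite simple group, A a maximal subgroup, F = F*(A) its generalized Fitting subgroup (viewed in G), and S ≤ F a subgroup subnormal in F with C_F(S) ≤ S. Let B be any subgroup of G containing S. Then (a) for every prime q not dividing |F(A)|, O_q(B) ∩ A = 1; and (b) for every prime p dividing |F(A)|, O_p(B) commutes elementwise with the subgroup of F generated by its elements of order prime to p. -/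
theorem result {G : Type*} [Group G] [Finite G] [IsSimpleGroup G] (hna : ¬ IsMulCommutative G) (A : Subgroup G) (hA : IsCoatom A) (S : Subgroup G) (hSF : S ≤ (Cfsg.generalizedFittingSubgroup ↥A).map A.subtype) (hSsn : (S.subgroupOf ((Cfsg.generalizedFittingSubgroup ↥A).map A.subtype)).IsSubnormal) (hSC : (Cfsg.generalizedFittingSubgroup ↥A).map A.subtype ⊓ Subgroup.centralizer (S : Set G) ≤ S) (B : Subgroup G) (hSB : S ≤ B) : (∀ q : ℕ, q.Prime → ¬ q ∣ Nat.card (Cfsg.fittingSubgroup ↥A) → (Cfsg.pCore q ↥B).map B.subtype ⊓ A = ⊥) ∧ (∀ p : ℕ, p.Prime → p ∣ Nat.card (Cfsg.fittingSubgroup ↥A) → ∀ x ∈ (Cfsg.pCore p ↥B).map B.subtype, ∀ y ∈ (Cfsg.pResidual p ↥(Cfsg.generalizedFittingSubgroup ↥A)).map ((Cfsg.generalizedFittingSubgroup ↥A).subtype) , x * (A.subtype y) = (A.subtype y) * x) := by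
  have hSA : S ≤ A := hSF.trans (map_subtype_le _)
  have hS : Large A S := by
    refine ⟨hSF, ?_, hSC⟩
    set F' := Cfsg.generalizedFittingSubgroup A
    let e : F' ≃* (F'.map A.subtype : Subgroup G) :=
      F'.equivMapOfInjective A.subtype A.subtype_injective
    have h1 := (hSsn.comap e.toMonoidHom).trans' (K := F') (Normal.isSubnormal inferInstance)
    convert h1 using 1
    ext a
    simp only [mem_subgroupOf, mem_map, mem_comap]
    constructor
    · intro ha
      obtain ⟨a', ha', hae⟩ := hSF ha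
      obtain rfl : a' = a := Subtype.ext hae
      exact ⟨⟨a', ha'⟩, ha, rfl⟩
    · rintro ⟨b, hb, rfl⟩
      exact hb
  have hnorm : ∀ r : ℕ, r.Prime → S ≤ normalizer (((Cfsg.pCore r B).map B.subtype : Subgroup G) : Set G) := by
    intro r hr
    haveI := Fact.mk hr
    exact hSB.trans (le_normalizer_map_normal _)
  refine ⟨fun q hq hqF => ?_, fun p hp hpF x hx y hy => ?_⟩
  · haveI := Fact.mk hq
    refine eq_bot_of_not_dvd hqF (((_root_.CfsgLib.Solvable.isPGroup_pCore q).map _).to_le inf_le_left) inf_le_right hS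
      fun s hs => inf_normalizer_le_normalizer_inf (mem_inf.2 ⟨hnorm q hq hs, le_normalizer (hSA hs)⟩)
  · haveI := Fact.mk hp
    exact mem_centralizer_iff.1 (away_le_centralizer hA hpF ((_root_.CfsgLib.Solvable.isPGroup_pCore p).map _) hS
      (hnorm p hp) (pResidual_le_away p (mem_map_of_mem A.subtype hy))) x hx

end Cfsg.Agent.S1247
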