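import Cfsg.Statements.S1248
import Cfsg.Agent.Invol.PSUThreeFourSylow

set_option autoImplicit false
open Cfsg

namespace Cfsg.Agent.S1248

/-- Let F be a field with 16 elements and S a Sylow 2-subgroup of PSU(3) over F (the unitary group U₃(4)). Then |S| = 64; the centre Z(S) is a Klein four-group and coincides with the subgroup generated by the involutions of S and with the derived subgroup; and every element of S ⧸ Z(S) squares to the identity, S ⧸ Z(S) having order 16. -/
theorem result {F : Type*} [Field F] [Fintype F] (hF : Fintype.card F = 16) (S : Sylow 2 (Cfsg.PSU 3 F 4)) : Nat.card S = 64 ∧ IsKleinFour (Subgroup.center (S : Subgroup (Cfsg.PSU 3 F 4))) ∧ Subgroup.center (S : Subgroup (Cfsg.PSU 3 F 4)) = Subgroup.closure {x : (S : Subgroup (Cfsg.PSU 3 F 4)) | orderOf x = 2} ∧ Subgroup.center (S : Subgroup (Cfsg.PSU 3 F 4)) = commutator (S : Subgroup (Cfsg.PSU 3 F 4)) ∧ Nat.card ((S : Subgroup (Cfsg.PSU 3 F 4)) ⧸ Subgroup.center (S : Subgroup (Cfsg.PSU 3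 F 4))) = 16 ∧ ∀ x : (S : Subgroup (Cfsg.PSU 3 F 4)) ⧸ Subgroup.center (S : Subgroup (Cfsg.PSU 3 F 4)), x ^ 2 = 1 := by
  classical
  obtain ⟨H, a, c, ha, hc, hinj, hcond, hsurj⟩ := CfsgLib.PSUThreeFour.exists_sub hF
  have hH := (CfsgLib.PSUThreeFour.structure_of_coord hF a c ha hc hinj hcond hsurj).1
  have hF' : Nat.card F = 4 ^ 2 := by rw [Nat.card_eq_fintype_card, hF]; norm_num
  have hz : Nat.card (Subgroup.center (Cfsg.SU 3 F 4)) = 1 :=
    CfsgLib.Unitary.card_center_SU hF' (n := 3) (by norm_num)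
  have hinjπ : Function.Injective (QuotientGroup.mk' (Subgroup.center (Cfsg.SU 3 F 4))) := by
    rw [← MonoidHom.ker_eq_bot_iff, QuotientGroup.ker_mk']
    exact Subgroup.card_eq_one.1 hz
  let K : Subgroup (Cfsg.PSU 3 F 4) := H.map (QuotientGroup.mk' (Subgroup.center (Cfsg.SU 3 F 4)))
  let eK : H ≃* K := H.equivMapOfInjective _ hinjπ
  have hK : Nat.card K = 64 := by rw [← Nat.card_congr eK.toEquiv, hH]
  have hG : Nat.card (Cfsg.PSU 3 F 4) = 62400 := by
    have h := CfsgLib.Unitary.card_PSU_mul hF' (n := 3) (by norm_num)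
    rw [CfsgLib.Unitary.card_GU hF' 3] at h
    norm_num [Finset.prod_range_succ, Nat.even_iff] at h
    rw [Nat.card_eq_fintype_card]
    omega
  haveI : Fact (Nat.Prime 2) := ⟨Nat.prime_two⟩
  haveI : Finite (Cfsg.PSU 3 F 4) := Nat.finite_of_card_ne_zero (by omega)
  have hf : (62400 : ℕ).factorization 2 = 6 := by
    rw [show (62400 : ℕ) = 2 ^ 6 * 975 by norm_num, Nat.factorization_mul (by norm_num) (by norm_num),
      Finsupp.add_apply, Nat.prime_two.factorization_pow, Finsupp.single_eq_same,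
      Nat.factorization_eq_zero_of_not_dvd (by norm_num)]
  let T : Sylow 2 (Cfsg.PSU 3 F 4) := Sylow.ofCard K (by rw [hK, hG, hf]; norm_num)
  obtain ⟨e⟩ : Nonempty (H ≃* (S : Subgroup (Cfsg.PSU 3 F 4))) :=
    ⟨eK.trans ((MulEquiv.subgroupCongr (Sylow.coe_ofCard K _).symm).trans (Sylow.equiv T S))⟩
  refine CfsgLib.PSUThreeFour.structure_of_coord hF (fun x => a (e.symm x)) (fun x => c (e.symm x))
    (fun x y => by rw [map_mul, ha]) (fun x y => by rw [map_mul, hc])
    (fun x y h1 h2 => e.symm.injective (hinj _ _ h1 h2)) (fun x => hcond _) fun u w h => ?_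
  obtain ⟨x, hx⟩ := hsurj u w h
  exact ⟨e x, by simpa using hx⟩

end Cfsg.Agent.S1248
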