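import Cfsg.Statements.S1255
import Cfsg.Agent.Invol.DihedralFusion
-- import your own Cfsg.Agent.* helpers here

set_option autoImplicit false
open Cfsg

namespace Cfsg.Agent.S1255

/-- Let X be a finite group whose Sylow 2-subgroup S is dihedral of order 2m ≥ 4. Then X has no subgroup of index 2 and no isolated involution if and only if either all involutions of X are conjugate, or for every Klein four-subgroup U ≤ S the index |N_X(U) : C_X(U)| equals 3 when |S| = 4 and equals 6 when |S| > 4. -/
theorem result {X : Type*} [Group X] [Finite X] (S : Sylow 2 X) (m : ℕ) (hm : 2 ≤ m) (eS : (S : Subgroup X) ≃* DihedralGroup m) : ((∀ H : Subgroup X, H.index ≠ 2) ∧ (∀ z : X, ¬ Cfsg.IsIsolatedInvolution z)) ↔ ((∀ a b : X, orderOf a = 2 → orderOf b = 2 → IsConj a b) ∨ (∀ U : Subgroup X, U ≤ S → IsKleinFour U → (Subgroup.centralizer (U : Set X)).relIndex (Subgroup.normalizer (U : Set X)) = (if Nat.card S = 4 then 3 else 6))) := by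
  haveI : Fact (Nat.Prime 2) := ⟨Nat.prime_two⟩
  obtain ⟨D⟩ := CfsgLib.DihFour.exists_data S.2 hm eS
  have hodd : Odd (S : Subgroup X).index :=
    Nat.not_even_iff_odd.1 fun he => S.not_dvd_index (even_iff_two_dvd.1 he)
  have hsyl : ∀ a : X, orderOf a = 2 → ∃ g : X, g * a * g⁻¹ ∈ (S : Subgroup X) := by
    intro a ha
    obtain ⟨Q, hQ⟩ := IsPGroup.exists_le_sylow
      (IsPGroup.of_card (n := 1) (by rw [Nat.card_zpowers, ha, pow_one]) : IsPGroup 2 (Subgroup.zpowers a))
    obtain ⟨x, hx⟩ := MulAction.exists_smul_eq X Q S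
    refine ⟨x, ?_⟩
    rw [← hx, Sylow.coe_subgroup_smul]
    exact ⟨a, hQ (Subgroup.mem_zpowers a), rfl⟩
  constructor
  · rintro ⟨hno, -⟩
    exact Or.inl fun a b ha hb =>
      (D.all_conj_of_no_index_two hodd hsyl hno ha).trans (D.all_conj_of_no_index_two hodd hsyl hno hb).symm
  · intro h
    have hall : ∀ a b : X, orderOf a = 2 → orderOf b = 2 → IsConj a b := by
      rcases h with h | h
      · exact h
      have h3 : ∀ U : Subgroup X, U ≤ S → IsKleinFour U →
          3 ∣ (Subgroup.centralizer (U : Set X)).relIndex (Subgroup.normalizer (U : Set X)) := fun U hU hK => by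
        rw [h U hU hK]; split_ifs <;> norm_num
      exact fun a b ha hb => (D.all_conj_of_three hsyl h3 ha).trans (D.all_conj_of_three hsyl h3 hb).symm
    exact ⟨D.no_index_two_of_all_conj hodd hall, D.not_isolated_of_all_conj hall⟩

end Cfsg.Agent.S1255
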