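import Cfsg.Statements.S1256
import Cfsg.Agent.Invol.DihedralFour
-- import your own Cfsg.Agent.* helpers here

set_option autoImplicit false
open Cfsg

namespace Cfsg.Agent.S1256

/-- Let X be a finite group whose Sylow 2-subgroup S is dihedral of order 2m ≥ 4. If |S| = 4, any two Klein four-subgroups of X are conjugate; if |S| > 4, there are Klein four-subgroups U₁, U₂ of X that are not conjugate, and every Klein four-subgroup of X is conjugate to U₁ or to U₂. -/
theorem result {X : Type*} [Group X] [Finite X] (S : Sylow 2 X) (m : ℕ) (hm : 2 ≤ m) (eS : (S : Subgroup X) ≃* DihedralGroup m) : (Nat.card S = 4 → ∀ U V : Subgroup X, IsKleinFour U → IsKleinFour V → (∃ x : X, U.map (MulAut.conj x).toMonoidHom = V)) ∧ (4 < Nat.card S → ∃ U₁ U₂ : Subgroup X, IsKleinFour U₁ ∧ IsKleinFour U₂ ∧ ¬ (∃ x : X, U₁.map (MulAut.conj x).toMonoidHom = U₂) ∧ ∀ V : Subgroup X, IsKleinFour V → (∃ x : X, V.map (MulAut.conj x).toMonoidHom = U₁) ∨ (∃ x : X, V.map (MulAut.conj x).toMonoidHom =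 U₂)) := by
  haveI : Fact (Nat.Prime 2) := ⟨Nat.prime_two⟩
  obtain ⟨D⟩ := CfsgLib.DihFour.exists_data S.2 hm eS
  have hodd : Odd (S : Subgroup X).index :=
    Nat.not_even_iff_odd.1 fun he => S.not_dvd_index (even_iff_two_dvd.1 he)
  have hsyl : ∀ V : Subgroup X, IsKleinFour V → ∃ x : X, V.map (MulAut.conj x).toMonoidHom ≤ (S : Subgroup X) := by
    intro V hV
    obtain ⟨Q, hQ⟩ := IsPGroup.exists_le_sylow (IsPGroup.of_card (n := 2) (by rw [hV.card_four]; norm_num) : IsPGroup 2 V)
    obtain ⟨x, hx⟩ := MulAction.exists_smul_eq X Q S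
    refine ⟨x, ?_⟩
    rw [← hx, Sylow.coe_subgroup_smul]
    rintro _ ⟨v, hv, rfl⟩
    exact ⟨v, hQ hv, rfl⟩
  have hklein : ∀ (V : Subgroup X) (x : X), IsKleinFour V → IsKleinFour (V.map (MulAut.conj x).toMonoidHom) := by
    intro V x hV
    haveI := hV
    refine CfsgLib.DihFour.isKleinFour_mk ?_ ?_
    · rw [Subgroup.card_map_of_injective (f := (MulAut.conj x).toMonoidHom) (MulAut.conj x).injective, hV.card_four]
    · rintro _ ⟨g, hg, rfl⟩
      show MulAut.conj x g * MulAut.conj x g = 1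
      rw [← map_mul, show g * g = 1 from congrArg Subtype.val (IsKleinFour.mul_self (⟨g, hg⟩ : V)), map_one]
  constructor
  · intro h4 U V hU hV
    obtain ⟨a, ha⟩ := hsyl U hU
    obtain ⟨b, hb⟩ := hsyl V hV
    have e1 := Subgroup.eq_of_le_of_card_ge ha (by rw [(hklein U a hU).card_four]; exact h4.le)
    have e2 := Subgroup.eq_of_le_of_card_ge hb (by rw [(hklein V b hV).card_four]; exact h4.le)
    refine ⟨b⁻¹ * a, ?_⟩
    apply Subgroup.map_injective (f := (MulAut.conj b).toMonoidHom) (MulAut.conj b).injective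
    rw [Subgroup.map_map, e2, ← e1]
    congr 1
    ext g
    simp [mul_assoc]
  · intro h4
    have hh : 2 ∣ D.h := by
      rcases Nat.eq_zero_or_pos D.k with h | h
      · rw [D.card_eq, D.hh, h] at h4; norm_num at h4
      · rw [D.hh]; exact dvd_pow_self 2 h.ne'
    refine ⟨D.four 0, D.four 1, D.four_klein 0, D.four_klein 1, D.four_not_conj hodd hh, fun V hV => ?_⟩
    obtain ⟨a, ha⟩ := hsyl V hV
    obtain ⟨i, hi, x, hx⟩ := D.klein_in_S ha (hklein V a hV)
    have h1 : V.map (MulAut.conj (x * a)).toMonoidHom = D.four i := by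
      rw [← hx, Subgroup.map_map]
      congr 1
      ext g
      simp [mul_assoc]
    rcases hi with rfl | rfl
    · exact Or.inl ⟨_, h1⟩
    · exact Or.inr ⟨_, h1⟩

end Cfsg.Agent.S1256
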