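import Cfsg.Statements.S1266
import Cfsg.Agent.Comp.LocalLayer
-- import your own Cfsg.Agent.* helpers here

set_option autoImplicit false
open Cfsg

namespace Cfsg.Agent.S1266

/-- Let P be a p-subgroup of the finite group G and N = N_G(P). Then the preimage in N of E(N / O_{p'}(N)) centralizes O_p(G). -/
theorem result {G : Type*} [Group G] [Finite G] (p : ℕ) [Fact p.Prime] (P : Subgroup G) (hP : IsPGroup p ↥P) : (((Cfsg.layer (↥(Subgroup.normalizer ((P : Subgroup G) : Set G)) ⧸ Cfsg.pPrimeCore p ↥(Subgroup.normalizer ((P : Subgroup G) : Set G)))).comap (QuotientGroup.mk' (Cfsg.pPrimeCore p ↥(Subgroup.normalizer ((P : Subgroup G) : Set G))))).map (Subgroup.normalizer ((P : Subgroup G) : Set G)).subtype) ≤ Subgroup.centralizer (Cfsg.pCore p G : Set G) := by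
  open CfsgLib Subgroup in
  set N := normalizer (P : Set G)
  set O := Cfsg.pPrimeCore p N
  set f := QuotientGroup.mk' O
  set E := Cfsg.layer (↥N ⧸ O)
  set L' := E.comap f
  have hOL : O ≤ L' := by
    intro x hx
    show f x ∈ E
    rw [show f x = 1 from (QuotientGroup.eq_one_iff x).2 hx]
    exact one_mem _
  refine LocalLayer.le_centralizer_pCore hP (O := O.map N.subtype) ?_ (map_mono hOL) ?_ ?_
  · rw [card_map_of_injective N.subtype_injective]
    exact Solvable.coprime_card_pPrimeCore p
  · rw [← map_commutator, ← Subgroup.map_sup]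
    refine map_mono ?_
    have hE : L'.map f = E := map_comap_eq_self_of_surjective (QuotientGroup.mk'_surjective O) E
    have h1 : (⁅L', L'⁆).map f = L'.map f := by
      rw [map_commutator, hE, Comp.layer_perfect]
    rw [← QuotientGroup.ker_mk' O, ← comap_map_eq, h1]
    exact le_comap_map f L'
  · intro R hR hRN hNR
    haveI : (R.subgroupOf N).Normal := (normal_subgroupOf_iff_le_normalizer hRN).2 hNR
    haveI : ((R.subgroupOf N).map f).Normal :=
      Subgroup.Normal.map inferInstance f (QuotientGroup.mk'_surjective O)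
    have hp' : IsPGroup p ↥((R.subgroupOf N).map f) := (hR.comap_subtype (K := N)).map f
    haveI : Group.IsNilpotent ↥((R.subgroupOf N).map f) := hp'.isNilpotent
    have h2 := Comp.le_centralizer_of_commutator_eq_bot
      (Comp.layer_commutator_normal_solvable (H := (R.subgroupOf N).map f) inferInstance)
    obtain ⟨k, hk⟩ := IsPGroup.iff_card.1 (hR.comap_subtype (K := N))
    have hd : O ⊓ R.subgroupOf N = ⊥ := inf_eq_bot_of_coprime (by
      rw [subgroupOf, hk]
      exact ((Solvable.coprime_card_pPrimeCore (G := N) p).pow_right k))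
    rintro _ ⟨x, (hx : x ∈ L'), rfl⟩
    refine mem_centralizer_iff.2 fun z (hz : z ∈ R) => ?_
    have hz' : (⟨z, hRN hz⟩ : N) ∈ R.subgroupOf N := hz
    have h3 : x * ⟨z, hRN hz⟩ * x⁻¹ * (⟨z, hRN hz⟩ : N)⁻¹ ∈ O ⊓ R.subgroupOf N := by
      refine ⟨?_, (R.subgroupOf N).mul_mem ((inferInstance : (R.subgroupOf N).Normal).conj_mem _ hz' x) ((R.subgroupOf N).inv_mem hz')⟩
      refine (QuotientGroup.eq_one_iff _).1 ?_
      show f _ = 1
      have h4 := mem_centralizer_iff.1 (h2 hx) (f ⟨z, hRN hz⟩) (mem_map_of_mem f hz')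
      simp only [map_mul, map_inv]
      rw [← h4]
      group
    rw [hd, mem_bot, mul_inv_eq_one, mul_inv_eq_iff_eq_mul] at h3
    exact (congrArg Subtype.val h3).symm

end Cfsg.Agent.S1266
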