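import Cfsg.Statements.S1267
import Cfsg.Agent.Comp.LocalLayer
-- import your own Cfsg.Agent.* helpers here

set_option autoImplicit false
open Cfsg

namespace Cfsg.Agent.S1267

/-- Let G be finite and P ≤ O_p(G). Then E(N_G(P)) = E(G). -/
theorem result {G : Type*} [Group G] [Finite G] (p : ℕ) [Fact p.Prime] (P : Subgroup G) (hP : P ≤ Cfsg.pCore p G) : (Cfsg.layer ↥(Subgroup.normalizer ((P : Subgroup G) : Set G))).map (Subgroup.normalizer ((P : Subgroup G) : Set G)).subtype = Cfsg.layer G := by
  open CfsgLib Subgroup in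
  set N := normalizer (P : Set G)
  have hPp : IsPGroup p P := (Solvable.isPGroup_pCore p).to_le hP
  have hO : ∀ L : Subgroup G, Cfsg.IsComponent L → L ≤ centralizer (Cfsg.pCore p G : Set G) := by
    intro L hL
    haveI : Group.IsNilpotent (Cfsg.pCore p G) := (Solvable.isPGroup_pCore p).isNilpotent
    exact Comp.le_centralizer_of_commutator_eq_bot
      (Comp.component_commutator_normal_solvable (H := Cfsg.pCore p G) hL inferInstance)
  apply le_antisymm
  · rw [map_le_iff_le_comap, Cfsg.layer, sSup_le_iff]
    intro K hK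
    rw [← map_le_iff_le_comap]
    have hKC : K.map N.subtype ≤ centralizer (Cfsg.pCore p G : Set G) :=
      (map_mono (Comp.component_le_layer hK)).trans (LocalLayer.map_layer_le_centralizer_pCore hPp)
    set C := centralizer (Cfsg.pCore p G : Set G) with hCdef
    have hCN : C ≤ N := (centralizer_le hP).trans (centralizer_le_normalizer _)
    haveI : C.Normal := by rw [hCdef]; infer_instance
    have h1 := Comp.component_subgroupOf hK (show K ≤ C.subgroupOf N from fun x hx => hKC ⟨x, hx, rfl⟩)
    have h2 := Comp.component_map_equiv (subgroupOfEquivOfLe hCN) h1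
    refine le_trans (le_of_eq ?_) (Comp.component_le_layer (Comp.component_map_subtype (Normal.isSubnormal inferInstance) h2))
    ext x
    constructor
    · rintro ⟨y, hy, rfl⟩
      exact ⟨⟨y, hKC ⟨y, hy, rfl⟩⟩, ⟨⟨y, hKC ⟨y, hy, rfl⟩⟩, hy, rfl⟩, rfl⟩
    · rintro ⟨_, ⟨y, hy, rfl⟩, rfl⟩
      exact ⟨(y : ↥N), hy, rfl⟩
  · refine sSup_le fun L hL => ?_
    have hLN : L ≤ N := (hO L hL).trans ((centralizer_le hP).trans (centralizer_le_normalizer _))
    rw [← map_subgroupOf_eq_of_le hLN]
    exact map_mono (Comp.component_le_layer (Comp.component_subgroupOf hL hLN))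

end Cfsg.Agent.S1267
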