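import Cfsg.Statements.S1270
import Cfsg.Agent.Kinf.LocalBalance
import Cfsg.Agent.LocalB.JExists

set_option autoImplicit false
open Cfsg Subgroup

namespace Cfsg.Agent.S1270

/-- Let G be finite with O_{p'}(G) = 1, x of order p, and L a component with ⁅L, ⟨x⟩⁆ ≠ L. Then ⁅L, O_{p'}(C_G(x))⁆ = 1. -/
theorem result {G : Type*} [Group G] [Finite G] (p : ℕ) [Fact p.Prime] (hO : Cfsg.pPrimeCore p G = ⊥) (x : G) (hx : orderOf x = p) (L : Subgroup G) (hL : Cfsg.IsComponent L) (hne : ⁅L, Subgroup.zpowers x⁆ ≠ L) : ⁅L, Cfsg.centralizerPPrimeCore p x⁆ = ⊥ := by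
  have hp := (Fact.out : p.Prime)
  have hx1 : x ^ p = 1 := hx ▸ pow_orderOf_eq_one x
  rw [Subgroup.commutator_eq_bot_iff_le_centralizer, Subgroup.le_centralizer_iff]
  have e : Cfsg.centralizerPPrimeCore p x =
      CfsgLib.LocalBalance.core p (centralizer ((zpowers x : Subgroup G) : Set G)) := by
    rw [CfsgLib.LocalBalance.centralizer_zpowers_eq]; rfl
  rw [e]
  by_cases hxL : x ∈ normalizer (L : Set G)
  swap
  · exact CfsgLib.LocalBalance.core_centralizer_le_centralizer_of_moved hO hx1 hL hxL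
  refine CfsgLib.LocalBalance.core_centralizer_le_centralizer hO
    (CfsgLib.LocalBalance.isPGroup_zpowers (k := 1) (by simpa using hx1)) hL ?_
  set C := ⁅L, zpowers x⁆
  have hCL : C ≤ L := commutator_le.2 fun l hl y hy => by
    rw [commutatorElement_def]
    rw [show l * y * l⁻¹ * y⁻¹ = l * (y * l⁻¹ * y⁻¹) by group]
    exact mul_mem hl ((mem_normalizer_iff.1 ((zpowers_le.2 hxL) hy) _).1 (inv_mem hl))
  have hCn : (C.subgroupOf L).Normal := (normal_subgroupOf_iff_le_normalizer hCL).2
    (fun g hg => CfsgLib.JComp.left_le_normalizer_commutator L _ hg)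
  rcases CfsgLib.Comp.quasisimple_normal hL.2 hCn with h | h
  · exact absurd (le_antisymm hCL (subgroupOf_eq_top.1 h)) hne
  · rw [Subgroup.le_centralizer_iff, zpowers_le]
    refine CfsgLib.LocalBalance.centralizes_of_commutator_central
      (CfsgLib.Comp.component_perfect hL) hxL fun k hk => ?_
    have h1 : x * k * x⁻¹ * k⁻¹ ∈ C := by
      rw [← commutatorElement_def]
      show _ ∈ ⁅L, zpowers x⁆
      rw [Subgroup.commutator_comm]
      exact commutator_mem_commutator (mem_zpowers x) hk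
    exact mem_centralizer_iff.2 fun g hg => congrArg Subtype.val
      (mem_center_iff.1 (h (show (⟨_, hCL h1⟩ : L) ∈ C.subgroupOf L from h1)) ⟨g, hg⟩)

end Cfsg.Agent.S1270
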