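import Cfsg.Statements.S1271
import Cfsg.Agent.Kinf.LocalBalance

set_option autoImplicit false
open Cfsg Subgroup CfsgLib CfsgLib.LocalBalance

namespace Cfsg.Agent.S1271

/-- Let G be finite with O_{p'}(G) = 1. Suppose that for every component L of G and every subgroup H ≥ L in which L is normal, the quotient H / C_H(L) is balanced for the prime p. Then G is balanced for p. -/
theorem result {G : Type*} [Group G] [Finite G] (p : ℕ) [Fact p.Prime] (hO : Cfsg.pPrimeCore p G = ⊥) (h : ∀ L : Subgroup G, Cfsg.IsComponent L → ∀ H : Subgroup G, L ≤ H → (L.subgroupOf H).Normal → ∀ [((Subgroup.centralizer (L : Set G)).subgroupOf H).Normal], Cfsg.IsBalancedFor p (↥H ⧸ (Subgroup.centralizer (L : Set G)).subgroupOf H)) : Cfsg.IsBalancedFor p G := by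
  intro x hxo y hy
  have hxp : x ^ p = 1 := hxo ▸ pow_orderOf_eq_one x
  set R := zpowers x with hRdef
  have hR : IsPGroup p R := isPGroup_zpowers (k := 1) (by simpa using hxp)
  replace hy : y ∈ core p (centralizer (R : Set G)) := by
    rw [hRdef, centralizer_zpowers_eq]; exact hy
  rw [hO, mem_bot]
  refine eq_one_of_centralizes hO ((coprime_core _).coprime_dvd_left (orderOf_dvd_natCard _ hy))
    (core_centralizer_le_U hR hy).2 fun K hK => ?_
  by_cases hxK : x ∈ normalizer (K : Set G)
  swap
  · exact core_centralizer_le_centralizer_of_moved hO hxp hK hxK hy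
  by_cases hfix : K ≤ centralizer (R : Set G)
  · exact core_centralizer_le_centralizer hO hR hK hfix hy
  have hyK : y ∈ normalizer (K : Set G) := core_centralizer_le_normalizer hO hR hK hy
  set T0 := centralizer (R : Set G) ⊓ normalizer (K : Set G)
  set M := T0 ⊔ K
  have hMN : M ≤ normalizer (K : Set G) := sup_le inf_le_right le_normalizer
  have hKM : K ≤ M := le_sup_right
  set C' := (centralizer (K : Set G)).subgroupOf M
  haveI hC' : C'.Normal := ⟨fun c hc g =>
    (mem_normalizer_iff.1 (normalizer_le_normalizer_centralizer _ (hMN g.2)) (c : G)).1 hc⟩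
  have hKn : (K.subgroupOf M).Normal :=
    ⟨fun c hc g => (mem_normalizer_iff.1 (hMN g.2) (c : G)).1 hc⟩
  have hbal := h K hK M hKM hKn
  set π := QuotientGroup.mk' C'
  have hxT : x ∈ M := mem_sup_left (mem_inf.2
    ⟨by rw [hRdef, centralizer_zpowers_eq]; exact mem_centralizer_singleton_iff.2 rfl, hxK⟩)
  have hyT : y ∈ M := mem_sup_left (mem_inf.2 ⟨core_le _ hy, hyK⟩)
  have hxne : π ⟨x, hxT⟩ ≠ 1 := fun e => hfix (Subgroup.le_centralizer_iff.1 (zpowers_le.2
    (show x ∈ centralizer (K : Set G) from (QuotientGroup.eq_one_iff (N := C') _).1 e)))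
  have hord : orderOf (π ⟨x, hxT⟩) = p := orderOf_eq_prime (by
    rw [← map_pow, show (⟨x, hxT⟩ : M) ^ p = 1 from Subtype.ext (by simpa using hxp), map_one]) hxne
  set V := (core p (U p R)).subgroupOf M
  have hmem : π ⟨y, hyT⟩ ∈ core p (centralizer ({π ⟨x, hxT⟩} : Set (↥M ⧸ C'))) := by
    refine le_core (N := V.map π) ?_ ?_ ?_ (mem_map_of_mem π
      (show (⟨y, hyT⟩ : M) ∈ V from core_centralizer_le_core_U hR hy))
    · rintro _ ⟨v, hv, rfl⟩
      refine mem_centralizer_singleton_iff.2 ?_
      rw [← map_mul, ← map_mul]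
      exact congrArg π (Subtype.ext (mem_centralizer_iff.1 (core_le _ hv).1 _ (mem_zpowers x)).symm)
    · intro q hq
      obtain ⟨m, rfl⟩ := QuotientGroup.mk'_surjective C' q
      have hm : (m : G) ∈ (↑(T0 ⊔ K) : Set G) := m.2
      rw [coe_mul_of_left_le_normalizer_right T0 K inf_le_right] at hm
      obtain ⟨u, hu, k, hk, huk⟩ := hm
      have hub : u * x = x * u := (mem_centralizer_iff.1 hu.1 _ (mem_zpowers x)).symm
      have hn : (m : G) ∈ normalizer (core p (U p R) : Set G) := by
        rw [← huk]
        refine mul_mem (mem_normalizer_core_U_of_commute fun r hr =>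
          mem_centralizer_iff.1 hu.1 r hr)
          (mem_normalizer_core_U fun r hr => inv_mul_conj_mem_of_mem_zpowers ?_ hr)
        refine component_inf_centralizer_le_pCore hO hK (mem_inf.2 ⟨?_, ?_⟩)
        · rw [show k * x * k⁻¹ * x⁻¹ = k * (x * k⁻¹ * x⁻¹) by group]
          exact mul_mem hk ((mem_normalizer_iff.1 hxK _).1 (inv_mem hk))
        · set u' : M := ⟨u, mem_sup_left hu⟩
          set k' : M := ⟨k, hKM hk⟩
          set b : M := ⟨x, hxT⟩
          have hmu : m = u' * k' := Subtype.ext huk.symm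
          have h1 : π u' * π b = π b * π u' := by
            rw [← map_mul, ← map_mul]; exact congrArg π (Subtype.ext hub)
          have h2 : π m * π b = π b * π m := mem_centralizer_singleton_iff.1 hq
          rw [hmu, map_mul] at h2
          have h3 : Commute (π k') (π b) := by
            have h4 := (show Commute (π u') (π b) from h1).inv_left.mul_left
              (show Commute (π u' * π k') (π b) from h2)
            rwa [inv_mul_cancel_left] at h4
          have h5 : π (k' * b * k'⁻¹ * b⁻¹) = 1 := by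
            rw [map_mul, map_mul, map_mul, map_inv, map_inv, h3.eq]; group
          exact (QuotientGroup.eq_one_iff (N := C') _).1 h5
      refine le_normalizer_map π (mem_map_of_mem π ?_)
      refine mem_normalizer_iff.2 fun v => ?_
      simpa [V, mem_subgroupOf] using mem_normalizer_iff.1 hn (v : G)
    · refine (coprime_core (U p R)).coprime_dvd_left ((card_map_dvd _ _).trans ?_)
      rw [← card_map_of_injective (K := (core p (U p R)).subgroupOf M) M.subtype_injective,
        subgroupOf_map_subtype]
      exact card_dvd_of_le inf_le_left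
  have hOy := hbal _ hord hmem
  set W' := K.subgroupOf M ⊓ (Cfsg.pPrimeCore p (↥M ⧸ C')).comap π with hW'
  haveI : W'.Normal := by
    haveI := hKn
    infer_instance
  set W := W'.map M.subtype
  have hWK : W ≤ K := by
    rintro _ ⟨w, hw, rfl⟩; exact hw.1
  rcases CfsgLib.Comp.quasisimple_normal hK.2 ((normal_subgroupOf_iff_le_normalizer hWK).2
    fun k hk => le_normalizer_map M.subtype (mem_map_of_mem M.subtype
      (show (⟨k, hKM hk⟩ : M) ∈ normalizer (W' : Set M) from le_normalizer_of_normal (mem_top _))))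
    with hw | hw
  · exfalso
    obtain ⟨e, heK, ⟨j, hj⟩, he⟩ := exists_pElement hO hK
    obtain ⟨e', he', hee⟩ := subgroupOf_eq_top.1 hw heK
    have hee' : (e' : G) = e := hee
    have h1 : π e' = 1 := eq_one_of_coprime (p := p) (Solvable.coprime_card_pPrimeCore p) he'.2
      (k := j) (by rw [← map_pow, show e' ^ p ^ j = 1 from Subtype.ext (by simpa [hee'] using hj),
        map_one])
    exact he (hee' ▸ (QuotientGroup.eq_one_iff (N := C') _).1 h1)
  · refine centralizes_of_commutator_central (CfsgLib.Comp.component_perfect hK) hyK fun k hk => ?_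
    set y' : M := ⟨y, hyT⟩
    set k' : M := ⟨k, hKM hk⟩
    have h1 : y * k * y⁻¹ * k⁻¹ ∈ K := mul_mem ((mem_normalizer_iff.1 hyK k).1 hk) (inv_mem hk)
    have h2 : y' * k' * y'⁻¹ * k'⁻¹ ∈ W' := by
      refine ⟨h1, ?_⟩
      show π (y' * k' * y'⁻¹ * k'⁻¹) ∈ Cfsg.pPrimeCore p (↥M ⧸ C')
      rw [map_mul, map_mul, map_mul, map_inv, map_inv,
        show π y' * π k' * (π y')⁻¹ * (π k')⁻¹ = π y' * (π k' * (π y')⁻¹ * (π k')⁻¹) by group]
      exact mul_mem hOy (Subgroup.Normal.conj_mem inferInstance _ (inv_mem hOy) _)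
    exact mem_centralizer_iff.2 fun g hg => congrArg Subtype.val
      (mem_center_iff.1 (hw (show (⟨_, h1⟩ : K) ∈ W.subgroupOf K from ⟨_, h2, rfl⟩)) ⟨g, hg⟩)

end Cfsg.Agent.S1271
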