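import Cfsg.Statements.S1277
import Cfsg.Agent.Comp.PComponent
-- import your own Cfsg.Agent.* helpers here

set_option autoImplicit false
open Cfsg

namespace Cfsg.Agent.S1277

/-- For a finite group X with core O(X): the image of E(X) in X / O(X) is all of E(X / O(X)) if and only if every 2-component of X is a component, i.e. L_{2'}(X) ≤ E(X). -/
theorem result {X : Type*} [Group X] [Finite X] : (Cfsg.layer X).map (QuotientGroup.mk' (Cfsg.oddCore X)) = Cfsg.layer (X ⧸ Cfsg.oddCore X) ↔ Cfsg.pLayer 2 X ≤ Cfsg.layer X := by
  open CfsgLib Subgroup in
  haveI : Fact (Nat.Prime 2) := ⟨Nat.prime_two⟩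
  set f := QuotientGroup.mk' (Cfsg.oddCore X) with hf
  haveI : (Cfsg.oddCore X).Normal := Solvable.pPrimeCore_normal 2
  have himg : ∀ L : Subgroup X, Cfsg.IsComponent L → L.map f = ⊥ ∨ Cfsg.IsComponent (L.map f) := by
    intro L hL
    rcases Comp.component_le_or_commutator_eq_bot hL ((inferInstance : (Cfsg.oddCore X).Normal).isSubnormal) with h | h
    · exact Or.inl ((Subgroup.map_eq_bot_iff _).2 (by rwa [hf, QuotientGroup.ker_mk']))
    · refine Or.inr ⟨hL.1.map (QuotientGroup.mk'_surjective _), ?_⟩
      have hc : (MonoidHom.subgroupMap f L).ker ≤ center L := by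
        intro x hx
        refine mem_center_iff.2 fun y => Subtype.ext ?_
        have hxO : (x : X) ∈ Cfsg.oddCore X :=
          (QuotientGroup.eq_one_iff _).1 (congrArg Subtype.val (MonoidHom.mem_ker.1 hx))
        exact (mem_centralizer_iff.1 (Comp.le_centralizer_of_commutator_eq_bot h y.2) x hxO).symm
      haveI := hL.2.1
      refine ⟨Group.IsPerfect.ofSurjective (MonoidHom.subgroupMap_surjective f L), ?_⟩
      set g := MonoidHom.subgroupMap f L
      have hcen : (center ↥(L.map f)).comap g = center L := by
        refine le_antisymm ?_ ?_
        · rcases Comp.quasisimple_normal hL.2 (inferInstance : ((center ↥(L.map f)).comap g).Normal) with hh | hh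
          · exfalso
            have hab : ∀ a b : L, g a * g b = g b * g a := fun a b =>
              (mem_center_iff.1 (show g a ∈ center _ from (hh ▸ mem_top a : a ∈ (center ↥(L.map f)).comap g)) (g b)).symm
            have : commutator L ≤ g.ker := by
              rw [_root_.commutator_def, commutator_le]
              intro a _ b _
              rw [MonoidHom.mem_ker, map_commutatorElement, commutatorElement_eq_one_iff_mul_comm]
              exact hab a b
            rw [Group.IsPerfect.commutator_eq_top] at this
            exact Comp.quasisimple_center_ne_top hL.2 (top_le_iff.1 (this.trans hc))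
          · exact hh
        · intro x hx
          refine mem_center_iff.2 fun y => ?_
          obtain ⟨z, rfl⟩ := MonoidHom.subgroupMap_surjective f L y
          show g z * g x = g x * g z
          rw [← map_mul, ← map_mul, mem_center_iff.1 hx z]
      have hk : center L = ((QuotientGroup.mk' (center ↥(L.map f))).comp g).ker := by
        rw [← MonoidHom.comap_ker, QuotientGroup.ker_mk', hcen]
      haveI := hL.2.2
      exact ((QuotientGroup.quotientKerEquivOfSurjective ((QuotientGroup.mk' (center ↥(L.map f))).comp g)
        ((QuotientGroup.mk'_surjective _).comp (MonoidHom.subgroupMap_surjective f L))).symm.trans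
        (QuotientGroup.quotientMulEquivOfEq hk.symm)).isSimpleGroup
  constructor
  · intro h
    refine PComp.pLayer_le 2 fun K hK => ?_
    have h1 : K.map f ≤ (Cfsg.layer X).map f := h ▸ Comp.component_le_layer hK.2.1
    by_contra hcon
    have h2 : ∀ L : Subgroup X, Cfsg.IsComponent L → L.map f ≤ centralizer ((K.map f : Subgroup _) : Set (X ⧸ Cfsg.oddCore X)) := by
      intro L hL
      rcases himg L hL with h3 | h3
      · rw [h3]; exact bot_le
      · rcases Comp.component_eq_or_commute h3 hK.2.1 with h4 | h4
        · exact absurd ((PComp.pComponent_le 2 hK hL.1 h4).trans (Comp.component_le_layer hL)) hcon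
        · exact Comp.le_centralizer_of_commutator_eq_bot h4
    have h5 : (Cfsg.layer X).map f ≤ centralizer ((K.map f : Subgroup _) : Set (X ⧸ Cfsg.oddCore X)) := by
      rw [map_le_iff_le_comap]
      exact Comp.layer_le fun L hL => map_le_iff_le_comap.1 (h2 L hL)
    exact Comp.component_not_comm hK.2.1 (commutator_eq_bot_iff_le_centralizer.2 (h1.trans h5))
  · intro h
    refine le_antisymm ?_ ((PComp.map_pLayer 2).ge.trans (map_mono h))
    rw [map_le_iff_le_comap]
    refine Comp.layer_le fun L hL => map_le_iff_le_comap.1 ?_
    rcases himg L hL with h3 | h3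
    · rw [h3]; exact bot_le
    · exact Comp.component_le_layer h3

end Cfsg.Agent.S1277
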