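import Cfsg.Statements.S1281
import Cfsg.Agent.Signalizer.Basic
-- import your own Cfsg.Agent.* helpers here

set_option autoImplicit false
open Cfsg

namespace Cfsg.Agent.S1281

/-- Let θ be a solvable A-signalizer functor on the finite group G (A a noncyclic elementary abelian p-subgroup) and N a normal subgroup of order prime to p. Then for all non-identity a, b ∈ A, the image of θ a in G / N meets the centralizer of the image of b inside the image of θ b. -/
theorem result {G : Type*} [Group G] [Finite G] (p : ℕ) [Fact p.Prime] (A : Subgroup G) (hA : Cfsg.IsElementaryAbelian p A) (hA2 : p ^ 2 ≤ Nat.card ↥A) (θ : G → Subgroup G) (hθ : Cfsg.IsSolvableSignalizerFunctor p A θ) (N : Subgroup G) [N.Normal] (hN : ¬ p ∣ Nat.card ↥N) (a b : G) (ha : a ∈ A) (ha1 : a ≠ 1) (hb : b ∈ A) (hb1 : b ≠ 1) : (θ a).map (QuotientGroup.mk' N) ⊓ Subgroup.centralizer {QuotientGroup.mk' N b} ≤ (θ b).map (QuotientGroup.mk' N) := by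
  open CfsgLib.Signalizer Subgroup in
  rintro _ ⟨⟨x, hx, rfl⟩, hxb⟩
  have hb' : zpowers b ≤ A := zpowers_le.2 hb
  have hAa := family_le_normalizer (theta_mem hθ ha ha1)
  have hcx : ∀ z ∈ zpowers b, x⁻¹ * (z * x * z⁻¹) ∈ θ a ⊓ N := by
    intro z hz
    refine ⟨(θ a).mul_mem ((θ a).inv_mem hx) ((mem_normalizer_iff.1 (hAa (hb' hz)) x).1 hx), ?_⟩
    obtain ⟨i, rfl⟩ := mem_zpowers_iff.1 hz
    refine (SetLike.ext_iff.1 (QuotientGroup.ker_mk' N) _).1 (MonoidHom.mem_ker.2 ?_)
    have h1 : Commute (QuotientGroup.mk' N x) (QuotientGroup.mk' N b) :=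
      mem_centralizer_singleton_iff.1 hxb
    rw [map_mul, map_mul, map_mul, map_inv, map_inv, map_zpow, ← (h1.zpow_right i).eq]
    group
  obtain ⟨c, hc, hc'⟩ := CfsgLib.CoprimeAct.exists_centralizing_mem_coset (A := zpowers b)
    (N := θ a ⊓ N) (hb'.trans hAa) (coprime_card_of_le hA hb' (hθ.1.2.1 a ha ha1)) inf_le_left
    (le_trans (le_inf (hb'.trans hAa) le_normalizer_of_normal) inf_normalizer_le_normalizer_inf)
    (CfsgLib.CoprimeAct.solvable_or inf_le_left (Or.inr (hθ.2 a ha ha1))) hx hcx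
  have hcb : c ∈ centralizer {b} := centralizer_le (by simp) hc.2
  refine ⟨c, hθ.1.2.2.2 a ha ha1 b hb hb1 ⟨hc.1, hcb⟩, ?_⟩
  exact (QuotientGroup.eq.2 hc'.2).symm

end Cfsg.Agent.S1281
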