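import Cfsg.Statements.S1284
import Cfsg.Agent.Signalizer.Transitivity
-- import your own Cfsg.Agent.* helpers here

set_option autoImplicit false
open Cfsg

namespace Cfsg.Agent.S1284

/-- Let θ be a solvable A-signalizer functor on the finite group G, A elementary abelian of rank at least 3, q a prime dividing some |θ a|, and Q maximal among the q-subgroups in the family of θ. Then (a) for every member H of the family, some c in the intersection of the θ a (a ∈ A non-identity) makes c Q c⁻¹ ∩ H a Sylow q-subgroup of H; and (b) for every nontrivial subgroup B ≤ A, C_Q(B) is a Sylow q-subgroup of the intersection of the θ b over the non-identity b ∈ B. -/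
theorem result {G : Type*} [Group G] [Finite G] (p : ℕ) [Fact p.Prime] (A : Subgroup G) (hA : Cfsg.IsElementaryAbelian p A) (hA3 : p ^ 3 ≤ Nat.card ↥A) (θ : G → Subgroup G) (hθ : Cfsg.IsSolvableSignalizerFunctor p A θ) (q : ℕ) [Fact q.Prime] (hq : ∃ a ∈ A, a ≠ 1 ∧ q ∣ Nat.card ↥(θ a)) (Q : Subgroup G) (hQW : Q ∈ Cfsg.signalizerFamily p A θ) (hQq : IsPGroup q ↥Q) (hQmax : ∀ R ∈ Cfsg.signalizerFamily p A θ, IsPGroup q ↥R → Q ≤ R → R = Q) : (∀ H : Subgroup G, H ∈ Cfsg.signalizerFamily p A θ → ∃ c ∈ Cfsg.signalizerInf A θ, ∃ S : Sylow q ↥H, (S : Subgroup ↥H).map H.subtype = Q.map (MulAut.conj c).toMonoidHom ⊓ H) ∧ (∀ B : Subgroup G, B ≤ A → B ≠ ⊥ → ∃ S : Sylow q ↥(Cfsg.signalizerInf B θ), (S : Subgroup ↥(Cfsg.signalizerInf B θ)).map (Cfsg.signalizerInf B θ).subtype = Q ⊓ Subgroup.centralizer (B : Set G)) := by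
  open CfsgLib.Signalizer Subgroup Pointwise in
  have hQ : IsMaxMember p A θ q Q := ⟨hQW, hQq, hQmax⟩
  refine ⟨fun H hH => sylow_of_maxMember hA hθ hA3 hQ hH, fun B hB hB1 => ?_⟩
  set H := Cfsg.signalizerInf B θ with hHdef
  have hH : H ∈ Cfsg.signalizerFamily p A θ := signalizerInf_mem hθ hB hB1
  obtain ⟨c, hc, S, hS⟩ := sylow_of_maxMember hA hθ hA3 hQ hH
  have hcH : c ∈ H := le_signalizerInf (fun b hb hb1 => signalizerInf_le (hB hb) hb1) hc
  refine ⟨(⟨c, hcH⟩⁻¹ : ↥H) • S, ?_⟩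
  have hQC : Q ⊓ H = Q ⊓ centralizer (B : Set G) :=
    le_antisymm (inf_le_inf_left Q (signalizerInf_le_centralizer hθ hB))
      (le_inf inf_le_left (inf_centralizer_le_signalizerInf hQW hB))
  rw [← hQC, Sylow.coe_subgroup_smul, CfsgLib.SZ.conj_smul_map, hS]
  ext x
  rw [CfsgLib.SZ.mem_conj_smul]
  simp only [Subgroup.coe_inv, inv_inv, mem_inf, mem_map, MulEquiv.coe_toMonoidHom,
    MulAut.conj_apply]
  constructor
  · rintro ⟨⟨y, hy, he⟩, h2⟩
    have : y = x := by
      have := congrArg (fun t => c⁻¹ * t * c) he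
      simpa [mul_assoc] using this
    subst this
    refine ⟨hy, ?_⟩
    have := mul_mem (mul_mem (inv_mem hcH) h2) hcH
    simpa [mul_assoc] using this
  · rintro ⟨h1, h2⟩
    refine ⟨⟨x, h1, ?_⟩, ?_⟩
    · simp [mul_assoc]
    · simpa [mul_assoc] using mul_mem (mul_mem hcH h2) (inv_mem hcH)

end Cfsg.Agent.S1284
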