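import Cfsg.Statements.S1285
import Cfsg.Agent.Signalizer.Transitivity
-- import your own Cfsg.Agent.* helpers here

set_option autoImplicit false
open Cfsg

namespace Cfsg.Agent.S1285

/-- Let θ be a solvable A-signalizer functor on the finite group G with A elementary abelian of rank at least 3, and suppose that for some prime q every θ a (a ∈ A non-identity) is a q-group. Then θ is complete. -/
theorem result {G : Type*} [Group G] [Finite G] (p : ℕ) [Fact p.Prime] (A : Subgroup G) (hA : Cfsg.IsElementaryAbelian p A) (hA3 : p ^ 3 ≤ Nat.card ↥A) (θ : G → Subgroup G) (hθ : Cfsg.IsSolvableSignalizerFunctor p A θ) (q : ℕ) [Fact q.Prime] (hq : ∀ a ∈ A, a ≠ 1 → IsPGroup q ↥(θ a)) : Cfsg.IsCompleteSignalizerFunctor p A θ := by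
  open CfsgLib.Signalizer Subgroup in
  have hA2 : p ^ 2 ≤ Nat.card A :=
    (Nat.pow_le_pow_right (Fact.out : p.Prime).pos (by norm_num)).trans hA3
  have hA1 : A ≠ ⊥ := by
    intro h
    rw [h, card_bot] at hA3
    have := one_lt_pow₀ (Fact.out : p.Prime).one_lt (show (3 : ℕ) ≠ 0 by norm_num)
    omega
  obtain ⟨Q, hθQ, hQ⟩ := exists_maxMember_ge (q := q) (signalizerInf_mem hθ le_rfl hA1) (by
    obtain ⟨⟨b, hb⟩, hne⟩ := ne_bot_iff_exists_ne_one.1 hA1
    exact (hq b hb fun h => hne (Subtype.ext h)).to_le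
      (signalizerInf_le (θ := θ) hb fun h => hne (Subtype.ext h)))
  refine ⟨hθ.1, Q, hQ.1.2.2.1, hQ.1.2.1, fun a ha ha1 => le_antisymm (hQ.1.2.2.2 a ha ha1)
    (le_inf ?_ (theta_le_centralizer hθ ha ha1))⟩
  obtain ⟨M, haM, hM⟩ := exists_maxMember_ge (q := q) (theta_mem hθ ha ha1) (hq a ha ha1)
  obtain ⟨c, hc, he⟩ := transitivity hA hθ hA3 hQ hM
  refine haM.trans (le_of_eq_of_le he.symm ?_)
  rintro _ ⟨x, hx, rfl⟩
  exact mul_mem (mul_mem (hθQ hc) hx) (inv_mem (hθQ hc))

end Cfsg.Agent.S1285
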