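import Cfsg.Statements.S1293
import Cfsg.Agent.Comp.ExtTwoLayer
import Cfsg.Agent.Comp.LocalLayer
import Cfsg.Agent.Signalizer.Local
-- import your own Cfsg.Agent.* helpers here

set_option autoImplicit false
open Cfsg

namespace Cfsg.Agent.S1293

/-- Let G be finite with L_{p'}(G) = 1, and H = N_G(P) for a nontrivial p-subgroup P. Then L_{p'}(H) = 1 and O_{p'}(H) ≤ O_{p'}(G). -/
theorem result {G : Type*} [Group G] [Finite G] (p : ℕ) [Fact p.Prime] (hL : Cfsg.pLayer p G = ⊥) (P : Subgroup G) (hP : IsPGroup p ↥P) (hP1 : P ≠ ⊥) : Cfsg.pLayer p ↥(Subgroup.normalizer (P : Set G)) = ⊥ ∧ (Cfsg.pPrimeCore p ↥(Subgroup.normalizer (P : Set G))).map (Subgroup.normalizer (P : Set G)).subtype ≤ Cfsg.pPrimeCore p G := by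
  open CfsgLib Subgroup in
  set f := QuotientGroup.mk' (Cfsg.pPrimeCore p G) with hf
  set F := Cfsg.pCore p (G ⧸ Cfsg.pPrimeCore p G) with hF
  set N := normalizer (P : Set G) with hNdef
  have hcG : centralizer (F : Set (G ⧸ Cfsg.pPrimeCore p G)) ≤ F :=
    CharP.hasCharP_of_layer_eq_bot ((PComp.pLayer_eq_bot_iff p).1 hL) (Fitting.pPrimeCore_quotient_eq_bot p)
  obtain ⟨j, hj⟩ := IsPGroup.iff_card.1 hP
  set O' := Cfsg.pPrimeCore p N with hO'
  haveI : (P.subgroupOf N).Normal := (normal_subgroupOf_iff_le_normalizer le_normalizer).2 le_rfl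
  have hd : Disjoint O' (P.subgroupOf N) := disjoint_iff.2 (inf_eq_bot_of_coprime (by
    rw [Nat.card_congr (subgroupOfEquivOfLe (le_normalizer : P ≤ N)).toEquiv, hj]
    exact (Solvable.coprime_card_pPrimeCore (G := N) p).pow_right j))
  have hOle : O'.map N.subtype ≤ Cfsg.pPrimeCore p G := by
    refine Signalizer.le_pPrimeCore_of_centralizes hcG hP ?_ ?_ ?_
    · rintro _ ⟨x, hx, rfl⟩
      refine mem_centralizer_iff.2 fun z hz => ?_
      exact congrArg Subtype.val (commute_of_normal_of_disjoint O' (P.subgroupOf N) inferInstance inferInstance hd x ⟨z, le_normalizer hz⟩ hx hz).eq.symm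
    · exact (centralizer_le_normalizer _).trans (Comp.normal_map_subtype_iff.1 inferInstance)
    · rw [card_map_of_injective N.subtype_injective]
      exact Solvable.coprime_card_pPrimeCore p
  refine ⟨(PComp.pLayer_eq_bot_iff p).2 ?_, hOle⟩
  set q := QuotientGroup.mk' O'
  set E := Cfsg.layer (↥N ⧸ O')
  set L' := E.comap q
  set φ := f.comp N.subtype with hφ
  have hOker : O' ≤ φ.ker := fun x hx => (QuotientGroup.eq_one_iff _).2 (hOle ⟨x, hx, rfl⟩)
  have hLperf : L' ≤ ⁅L', L'⁆ ⊔ O' := by
    have h1 : (⁅L', L'⁆).map q = L'.map q := by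
      rw [map_commutator, map_comap_eq_self_of_surjective (QuotientGroup.mk'_surjective O') E,
        Comp.layer_perfect]
    refine (le_comap_map q L').trans ?_
    rw [← h1, comap_map_eq, QuotientGroup.ker_mk']
  have hperf : L'.map φ ≤ ⁅L'.map φ, L'.map φ⁆ := by
    refine (map_mono hLperf).trans ?_
    rw [Subgroup.map_sup, (Subgroup.map_eq_bot_iff _).2 hOker, sup_bot_eq, map_commutator]
  have hcen : ∀ R : Subgroup N, R.Normal → IsPGroup p ↥(R.map q) → L'.map φ ≤ centralizer ((R.map φ : Subgroup _) : Set (G ⧸ Cfsg.pPrimeCore p G)) := by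
    intro R hR hRp
    haveI := hR
    haveI : (R.map q).Normal := Subgroup.Normal.map inferInstance q (QuotientGroup.mk'_surjective O')
    haveI : Group.IsNilpotent ↥(R.map q) := hRp.isNilpotent
    have h2 := Comp.le_centralizer_of_commutator_eq_bot
      (Comp.layer_commutator_normal_solvable (H := R.map q) inferInstance)
    rintro _ ⟨x, hx, rfl⟩
    refine mem_centralizer_iff.2 ?_
    rintro _ ⟨z, hz, rfl⟩
    rw [← map_mul, ← map_mul]
    have h3 : q (z * x) = q (x * z) := by
      rw [map_mul, map_mul]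
      exact mem_centralizer_iff.1 (h2 (show q x ∈ E from hx)) (q z) (mem_map_of_mem q hz)
    have h4 : (z * x)⁻¹ * (x * z) ∈ O' := QuotientGroup.eq.1 h3
    have h5 := hOker h4
    rw [MonoidHom.mem_ker, map_mul, map_inv, inv_mul_eq_one] at h5
    exact h5
  have key : L'.map φ ≤ centralizer (F : Set (G ⧸ Cfsg.pPrimeCore p G)) := by
    refine LocalLayer.le_centralizer_of_perfect_mod (O := ⊥) (p := p) (by simp) (by rwa [sup_bot_eq]) bot_le
      (hP.map f) (Solvable.isPGroup_pCore p) le_normalizer_of_normal le_normalizer_of_normal ?_ ?_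
    · have h := hcen (P.subgroupOf N) inferInstance ((hP.comap_subtype (K := N)).map q)
      refine h.trans (centralizer_le ?_)
      rintro _ ⟨y, hy, rfl⟩
      exact ⟨⟨y, le_normalizer hy⟩, hy, rfl⟩
    · set M := ((Cfsg.pPrimePCore p G).subgroupOf N)
      haveI : (Cfsg.pPrimePCore p G).Normal := by unfold Cfsg.pPrimePCore; infer_instance
      have hMp : IsPGroup p ↥(M.map q) := by
        rintro ⟨_, ⟨x, hx, rfl⟩⟩
        obtain ⟨k, hk⟩ := Solvable.isPGroup_pCore (G := G ⧸ Cfsg.pPrimeCore p G) p ⟨f (x : G), hx⟩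
        refine ⟨k, Subtype.ext ?_⟩
        show (q x) ^ p ^ k = 1
        rw [← map_pow]
        refine (QuotientGroup.eq_one_iff _).2 ?_
        have h1 : ((x ^ p ^ k : N) : G) ∈ Cfsg.pPrimeCore p G := by
          refine (QuotientGroup.eq_one_iff _).1 ?_
          show f ((x ^ p ^ k : N) : G) = 1
          rw [SubgroupClass.coe_pow, map_pow]
          exact congrArg Subtype.val hk
        have h2 : (Cfsg.pPrimeCore p G).subgroupOf N ≤ O' := by
          refine Solvable.le_pPrimeCore p inferInstance ?_
          rw [← card_map_of_injective N.subtype_injective, subgroupOf_map_subtype]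
          exact (Solvable.coprime_card_pPrimeCore p).coprime_dvd_left (card_dvd_of_le inf_le_left)
        exact h2 h1
      have h := hcen M inferInstance hMp
      refine h.trans (centralizer_le ?_)
      rintro z ⟨hzF, hzP⟩
      obtain ⟨g, rfl⟩ := QuotientGroup.mk'_surjective (Cfsg.pPrimeCore p G) z
      haveI := hP.isNilpotent
      obtain ⟨c, hc1, hc2⟩ := Coprime.exists_commute_mem_coset P (Cfsg.pPrimeCore p G)
        le_normalizer_of_normal (hj ▸ ((Solvable.coprime_card_pPrimeCore p).pow_right j).symm) g (fun y hy => by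
          refine (QuotientGroup.eq_one_iff _).1 ?_
          show f _ = 1
          have h1 := mem_centralizer_iff.1 hzP (f y) (mem_map_of_mem f hy)
          simp only [f, map_mul, map_inv] at h1 ⊢
          rw [h1]
          group)
      have hce : f c = f g := by
        have : f (g⁻¹ * c) = 1 := (QuotientGroup.eq_one_iff _).2 hc2
        rw [map_mul, map_inv, inv_mul_eq_one] at this
        exact this.symm
      refine ⟨⟨c, centralizer_le_normalizer _ (mem_centralizer_iff.2 hc1)⟩, ?_, hce⟩
      show f c ∈ F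
      rw [hce]; exact hzF
  have hsol : L'.map φ = ⊥ := by
    have h1 : IsPGroup p ↥(L'.map φ) := (Solvable.isPGroup_pCore p).to_le (key.trans hcG)
    by_contra hne
    haveI := (nontrivial_iff_ne_bot (L'.map φ)).2 hne
    haveI := h1.isNilpotent
    have h2 := Group.IsSolvable.commutator_lt_top_of_nontrivial (G := ↥(L'.map φ))
    refine h2.ne (map_injective (L'.map φ).subtype_injective ?_)
    rw [map_subtype_commutator, ← MonoidHom.range_eq_map, range_subtype]
    exact le_antisymm (commutator_le_self _) hperf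
  have hL'O : L' ≤ O' := by
    intro x hx
    have h1 : φ x = 1 := mem_bot.1 (hsol ▸ mem_map_of_mem φ hx)
    have h2 : (Cfsg.pPrimeCore p G).subgroupOf N ≤ O' := by
      refine Solvable.le_pPrimeCore p inferInstance ?_
      rw [← card_map_of_injective N.subtype_injective, subgroupOf_map_subtype]
      exact (Solvable.coprime_card_pPrimeCore p).coprime_dvd_left (card_dvd_of_le inf_le_left)
    exact h2 (show (x : G) ∈ Cfsg.pPrimeCore p G from (QuotientGroup.eq_one_iff _).1 h1)
  refine le_bot_iff.1 ((map_comap_eq_self_of_surjective (QuotientGroup.mk'_surjective O') E).ge.trans ?_)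
  rw [le_bot_iff, Subgroup.map_eq_bot_iff, QuotientGroup.ker_mk']
  exact hL'O

end Cfsg.Agent.S1293
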