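import Cfsg.Statements.S1294
import Cfsg.Agent.SFTCor.Equivariant
import Cfsg.Agent.S0217
-- import your own Cfsg.Agent.* helpers here

set_option autoImplicit false
open Cfsg
open scoped commutatorElement Pointwise

namespace Cfsg.Agent.S1294

/-- Let G be finite with O_{p'}(G) = 1 and p-rank at least 3, whose reduced rank-2 commuting graph for p is connected. Let θ assign to every element a of order p with m_p(C_G(a)) ≥ 3 a solvable subgroup θ a ≤ C_G(a) of order prime to p, so that θ (g a g⁻¹) = g (θ a) g⁻¹ for all g and θ a ∩ C_G(b) ≤ θ b for commuting such a, b. Then θ a = 1 for every such a. -/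
theorem result {G : Type*} [Group G] [Finite G] (p : ℕ) [Fact p.Prime] (hO : Cfsg.pPrimeCore p G = ⊥) (hrk : ¬ Cfsg.PRankLE p 2 G) (hconn : Cfsg.IsRankGraphConnected p 2 G) (θ : G → Subgroup G) (hC : ∀ a : G, (orderOf a = p ∧ ¬ Cfsg.PRankLE p 2 ↥(Subgroup.centralizer ({a} : Set G))) → θ a ≤ Subgroup.centralizer ({a} : Set G) ∧ ¬ p ∣ Nat.card ↥(θ a) ∧ Group.IsSolvable ↥(θ a)) (heq : ∀ a g : G, (orderOf a = p ∧ ¬ Cfsg.PRankLE p 2 ↥(Subgroup.centralizer ({a} : Set G))) → θ (g * a * g⁻¹) = (θ a).map (MulAut.conj g).toMonoidHom) (hbal : ∀ a b : G, (orderOf a = p ∧ ¬ Cfsg.PRankLE p 2 ↥(Subgroup.centralizer ({a} : Set G))) → (orderOf b = p ∧ ¬ Cfsg.PRankLE p 2 ↥(Subgroup.centralizer ({b} : Set G))) → a * b = b * a → θ a ⊓ Subgroup.centralizer {b} ≤ θ b) (a : G) (ha : (orderOf a = p ∧ ¬ Cfsg.PRankLE p 2 ↥(Subgroup.centralizer ({a} : Set G)))) : θ a = ⊥ := by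
    exact CfsgLib.SFTCor.theta_eq_bot hC heq hbal
      (fun A h1 h2 h3 th a b c d e => Cfsg.Agent.S0217.result A h1 h2 h3 th a b c d e) hO hconn ha


end Cfsg.Agent.S1294
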