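import Cfsg.Statements.S1297
import Cfsg.Agent.Invol.LocalBalanceCentral

set_option autoImplicit false
open Cfsg

namespace Cfsg.Agent.S1297

/-- Let G be finite. Suppose that for every involution x, writing C = C_G(x), every component K of C / O(C) has K / Z(K) locally balanced. Then G is balanced. -/
theorem result {G : Type*} [Group G] [Finite G] (h : ∀ x : G, orderOf x = 2 → ∀ K : Subgroup (↥(Subgroup.centralizer ({x} : Set G)) ⧸ Cfsg.oddCore ↥(Subgroup.centralizer ({x} : Set G))), Cfsg.IsComponent K → Cfsg.IsLocallyBalanced (↥K ⧸ Subgroup.center ↥K)) : Cfsg.IsBalanced G := by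
  have hk : Cfsg.IsKBalanced 2 1 G := CfsgLib.LocalBalance.isKBalanced_of_quotient_local le_rfl
    fun x hx K hK H hI A hA hAc => by
      obtain ⟨a, ha, ha1⟩ : ∃ a ∈ A, a ≠ 1 := CfsgLib.LocalBalance.exists_ne_one fun hbot => by
        rw [hbot, Subgroup.card_bot] at hAc; omega
      rw [eq_bot_iff]
      calc Cfsg.signalizerDelta 2 A ≤ Cfsg.centralizerPPrimeCore 2 a :=
            iInf_le (fun a : {a : ↥H // a ∈ A ∧ a ≠ 1} => Cfsg.centralizerPPrimeCore 2 (a : ↥H))
              ⟨a, ha, ha1⟩
        _ = ⊥ := h x hx K hK H hI a (orderOf_eq_prime (hA.2 a ha) ha1)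
  have key : ∀ x y : G, orderOf x = 2 → orderOf y = 2 → x * y = y * x →
      Cfsg.centralizerPPrimeCore 2 x ⊓ Subgroup.centralizer {y} ≤
        Cfsg.centralizerPPrimeCore 2 y ⊓ Subgroup.centralizer {x} := by
    intro x y hx hy hxy
    have hx2 : x ^ 2 = 1 := hx ▸ pow_orderOf_eq_one x
    have hmem : ∀ a ∈ Subgroup.zpowers x, a = 1 ∨ a = x := by
      intro a ha
      obtain ⟨n, rfl⟩ := (mem_powers_iff_mem_zpowers).2 ha
      show x ^ n = 1 ∨ x ^ n = x
      rw [← Nat.mod_add_div n 2, pow_add, pow_mul, hx2, one_pow, mul_one]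
      obtain ⟨i, hi⟩ : ∃ i, n % 2 = i := ⟨_, rfl⟩
      have : i < 2 := hi ▸ Nat.mod_lt _ two_pos
      rw [hi]
      interval_cases i
      · exact Or.inl (pow_zero x)
      · exact Or.inr (pow_one x)
    have hel : Cfsg.IsElementaryAbelian 2 (Subgroup.zpowers x) := ⟨inferInstance, fun a ha => by
      rcases hmem a ha with rfl | rfl
      · exact one_pow 2
      · exact hx2⟩
    refine le_inf ?_ (inf_le_left.trans (Subgroup.map_subtype_le _))
    refine le_trans (inf_le_inf_right _ ?_) (hk (Subgroup.zpowers x) hel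
      (by rw [Nat.card_zpowers, hx, pow_one]) y hy fun a ha => by
        rcases hmem a ha with rfl | rfl
        · simp
        · exact hxy)
    exact le_iInf fun ⟨a, ha, ha1⟩ => by
      rcases hmem a ha with rfl | rfl
      · exact absurd rfl ha1
      · exact le_rfl
  exact fun x y hx hy hxy => le_antisymm (key x y hx hy hxy) (key y x hy hx hxy.symm)

end Cfsg.Agent.S1297
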