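import Cfsg.Statements.S1299
import Cfsg.Agent.Invol.BalancedFunctor

set_option autoImplicit false
open Cfsg Subgroup CfsgLib

namespace Cfsg.Agent.S1299

/-- Let G be finite and k-balanced for the prime p (k ≥ 1), A an elementary abelian p-subgroup of order at least p^(k+2) such that O_{p'}(C_G(a)) is solvable for every non-identity a ∈ A. For a ∈ A put θ a = the subgroup generated by the Δ_G(D) ∩ C_G(a) over the subgroups D ≤ A of order p^k. Then θ is an A-signalizer functor. -/
theorem result {G : Type*} [Group G] [Finite G] (p k : ℕ) [Fact p.Prime] (hk : 1 ≤ k) (hbal : Cfsg.IsKBalanced p k G) (A : Subgroup G) (hA : Cfsg.IsElementaryAbelian p A) (hAk : p ^ (k + 2) ≤ Nat.card ↥A) (hsolv : ∀ a ∈ A, a ≠ 1 → Group.IsSolvable ↥(Cfsg.centralizerPPrimeCore p a)) : Cfsg.IsSignalizerFunctor p A (fun a => ⨆ D : {D : Subgroup G // D ≤ A ∧ Nat.card ↥D = p ^ k}, Cfsg.signalizerDelta p (D : Subgroup G) ⊓ Subgroup.centralizer {a}) := by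
  have hp := (Fact.out : p.Prime)
  have hmul : ∀ {U V : Subgroup G}, U ≤ V → U.relIndex V * Nat.card U = Nat.card V := fun {U V} hUV => by
    rw [← relIndex_bot_left, ← relIndex_bot_left, mul_comm]
    exact relIndex_mul_relIndex _ _ _ bot_le hUV
  have hne : ∀ {D : Subgroup G}, p ^ k ≤ Nat.card D → ∃ d ∈ D, d ≠ 1 := fun {D} hD =>
    LocalBalance.exists_ne_one fun h => by
      rw [h, Subgroup.card_bot] at hD
      exact absurd hD (not_le.2 (one_lt_pow₀ hp.one_lt (by omega)))
  -- `Δ` is monotone decreasing, centralizes, and is normalized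
  have hanti : ∀ {D E : Subgroup G}, D ≤ E → Cfsg.signalizerDelta p E ≤ Cfsg.signalizerDelta p D :=
    fun {D E} h => le_iInf fun d => iInf_le (fun e : {e : G // e ∈ E ∧ e ≠ 1} =>
      Cfsg.centralizerPPrimeCore p (e : G)) ⟨d.1, h d.2.1, d.2.2⟩
  have hcent : ∀ (D : Subgroup G), Cfsg.signalizerDelta p D ≤ centralizer (D : Set G) := fun D z hz => by
    refine mem_centralizer_iff.2 fun d hd => ?_
    rcases eq_or_ne d 1 with rfl | hd1
    · simp
    · exact (mem_centralizer_singleton_iff.1 (LocalBalance.core_le (centralizer ({d} : Set G))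
        (mem_iInf.1 hz ⟨d, hd, hd1⟩))).symm
  have hnormD : ∀ (D : Subgroup G) (c : G), c ∈ centralizer (D : Set G) →
      c ∈ normalizer (Cfsg.signalizerDelta p D : Set G) := fun D c hc => by
    refine mem_normalizer_iff_map_conj_eq.2
      (eq_of_le_of_card_ge ?_ (card_map_of_injective (MulAut.conj c).injective).ge)
    rintro _ ⟨z, hz, rfl⟩
    refine mem_iInf.2 fun d => ?_
    exact (mem_normalizer_iff.1 (LocalBalance.normalizer_le_normalizer_core _ (le_normalizer
      (mem_centralizer_singleton_iff.2 (mem_centralizer_iff.1 hc d.1 d.2.1).symm))) z).1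
        (mem_iInf.1 hz d)
  have hbalΔ : ∀ D E : Subgroup G, D ≤ A → E ≤ A → p ^ k ≤ Nat.card D →
      Cfsg.signalizerDelta p D ⊓ centralizer (E : Set G) ≤ Cfsg.signalizerDelta p E := by
    intro D E hDA hEA hDk z hz
    obtain ⟨D₀, hD₀, hD₀k⟩ := LocalBalance.exists_le_card_pow (Signalizer.of_le hA hDA) hDk
    refine mem_iInf.2 fun e => hbal D₀ (Signalizer.of_le hA (hD₀.trans hDA)) hD₀k e.1
      (orderOf_eq_prime (hA.2 e.1 (hEA e.2.1)) e.2.2)
      (fun d hd => Signalizer.commute hA (hDA (hD₀ hd)) (hEA e.2.1)) ⟨hanti hD₀ hz.1, ?_⟩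
    exact mem_centralizer_singleton_iff.2 (mem_centralizer_iff.1 hz.2 e.1 e.2.1).symm
  have hcore : ∀ a ∈ A, a ≠ 1 →
      (⨆ D : {D : Subgroup G // D ≤ A ∧ Nat.card ↥D = p ^ k},
        Cfsg.signalizerDelta p (D : Subgroup G) ⊓ centralizer {a}) ≤ Cfsg.centralizerPPrimeCore p a :=
    fun a ha ha1 => iSup_le fun D => hbal D.1 (Signalizer.of_le hA D.2.1) D.2.2 a
      (orderOf_eq_prime (hA.2 a ha) ha1) fun d hd => Signalizer.commute hA (D.2.1 hd) ha
  have hinv : ∀ a ∈ A, A ≤ normalizer ((⨆ D : {D : Subgroup G // D ≤ A ∧ Nat.card ↥D = p ^ k},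
      Cfsg.signalizerDelta p (D : Subgroup G) ⊓ centralizer {a} : Subgroup G) : Set G) := fun a ha c hc => by
    refine mem_normalizer_iff_map_conj_eq.2
      (eq_of_le_of_card_ge ?_ (card_map_of_injective (MulAut.conj c).injective).ge)
    rw [Subgroup.map_iSup]
    refine iSup_mono fun D => le_of_eq (mem_normalizer_iff_map_conj_eq.1
      (inf_normalizer_le_normalizer_inf (mem_inf.2 ⟨hnormD _ _ (Signalizer.le_centralizer_of_le hA D.2.1 hc),
        le_normalizer (Signalizer.le_centralizer_singleton hA ha hc)⟩)))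
  refine ⟨fun a _ _ => iSup_le fun D => inf_le_right, fun a ha ha1 hd => ?_,
    fun a ha _ b hb x hx => (mem_normalizer_iff.1 (hinv a ha hb) x).1 hx, fun a ha ha1 b hb hb1 => ?_⟩
  · exact hp.coprime_iff_not_dvd.1 ((LocalBalance.coprime_core (centralizer ({a} : Set G))).coprime_dvd_left
      (card_dvd_of_le (hcore a ha ha1))).symm hd
  show (⨆ D : {D : Subgroup G // D ≤ A ∧ Nat.card ↥D = p ^ k},
        Cfsg.signalizerDelta p (D : Subgroup G) ⊓ centralizer {a}) ⊓ centralizer {b} ≤ _
  set X := ⨆ D : {D : Subgroup G // D ≤ A ∧ Nat.card ↥D = p ^ k},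
        Cfsg.signalizerDelta p (D : Subgroup G) ⊓ centralizer {a}
  have hXA := hinv a ha
  have hXp : ¬ p ∣ Nat.card X := fun hd => hp.coprime_iff_not_dvd.1
    ((LocalBalance.coprime_core (centralizer ({a} : Set G))).coprime_dvd_left
      (card_dvd_of_le (hcore a ha ha1))).symm hd
  have S : BalancedFunctor.Setting p k A X (fun D => X ⊓ Cfsg.signalizerDelta p D) := by
    refine ⟨hA, hAk, hXp, ?_, hXA, fun D _ _ => inf_le_left, fun D _ _ => inf_le_right.trans (hcent D),
      fun D hDA _ c hc => inf_normalizer_le_normalizer_inf (mem_inf.2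
        ⟨hXA hc, hnormD D c (Signalizer.le_centralizer_of_le hA hDA hc)⟩),
      fun D _ _ c hc => inf_normalizer_le_normalizer_inf (mem_inf.2
        ⟨le_normalizer hc.1, hnormD D c hc.2⟩),
      fun D E hDA hEA hDk _ z hz => ⟨hz.1.1, hbalΔ D E hDA hEA hDk ⟨hz.1.2, hz.2⟩⟩, ?_⟩
    · haveI := hsolv a ha ha1
      exact Group.isSolvable_of_isSolvable_injective (f := inclusion (hcore a ha ha1))
        (inclusion_injective _)
    intro E hEA hE
    refine iSup_le fun D => ?_
    have hUX : Cfsg.signalizerDelta p (D : Subgroup G) ⊓ centralizer {a} ≤ X :=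
      le_iSup (fun D : {D : Subgroup G // D ≤ A ∧ Nat.card ↥D = p ^ k} =>
        Cfsg.signalizerDelta p (D : Subgroup G) ⊓ centralizer {a}) D
    refine Signalizer.le_of_forall_hyperplane (Signalizer.of_le hA hEA) (A := E) ?_
      (fun hd => hXp (hd.trans (card_dvd_of_le hUX))) fun B hBE hB => ?_
    · intro c hc
      exact inf_normalizer_le_normalizer_inf (mem_inf.2
        ⟨hnormD _ c (Signalizer.le_centralizer_of_le hA D.2.1 (hEA hc)),
          le_normalizer (Signalizer.le_centralizer_singleton hA ha (hEA hc))⟩)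
    · have hBk : p ^ k ≤ Nat.card B := by
        refine Nat.le_of_mul_le_mul_left ?_ hp.pos
        calc p * p ^ k = p ^ (k + 1) := by rw [← pow_succ']
          _ ≤ Nat.card E := hE
          _ = B.relIndex E * Nat.card B := (hmul hBE).symm
          _ ≤ p * Nat.card B := Nat.mul_le_mul_right _ hB
      refine le_trans ?_ (le_iSup (fun D' : {D' : Subgroup G // D' ≤ E ∧ p ^ k ≤ Nat.card ↥D'} =>
        X ⊓ Cfsg.signalizerDelta p (D' : Subgroup G)) ⟨B, hBE, hBk⟩)
      exact fun z hz => ⟨hUX hz.1,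
        hbalΔ D.1 B D.2.1 (hBE.trans hEA) D.2.2.ge ⟨hz.1.1, hz.2⟩⟩
  refine Signalizer.le_of_forall_hyperplane hA ?_
    (fun hd => hXp (hd.trans (card_dvd_of_le inf_le_left))) fun B hBA hB => ?_
  · intro c hc
    exact inf_normalizer_le_normalizer_inf (mem_inf.2
      ⟨hXA hc, le_normalizer (Signalizer.le_centralizer_singleton hA hb hc)⟩)
  set E := B ⊔ zpowers b
  have hEA : E ≤ A := sup_le hBA (zpowers_le.2 hb)
  have hE : p ^ (k + 1) ≤ Nat.card E := by
    refine le_trans ?_ (Subgroup.card_le_of_le (le_sup_left : B ≤ E))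
    refine Nat.le_of_mul_le_mul_left ?_ hp.pos
    calc p * p ^ (k + 1) = p ^ (k + 2) := by rw [← pow_succ']
      _ ≤ Nat.card A := hAk
      _ = B.relIndex A * Nat.card B := (hmul hBA).symm
      _ ≤ p * Nat.card B := Nat.mul_le_mul_right _ hB
  intro x hx
  have hxE : x ∈ centralizer (E : Set G) := by
    have h : E ≤ centralizer {x} := sup_le
      (fun u hu => mem_centralizer_singleton_iff.2 (mem_centralizer_iff.1 hx.2 u hu))
      (zpowers_le.2 (mem_centralizer_singleton_iff.2 (mem_centralizer_singleton_iff.1 hx.1.2).symm))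
    exact mem_centralizer_iff.2 fun u hu => mem_centralizer_singleton_iff.1 (h hu)
  have h1 := (BalancedFunctor.inf_centralizer_le S hEA hE ⟨hx.1.1, hxE⟩).2
  obtain ⟨D, hDE, hDk⟩ := LocalBalance.exists_le_card_pow (Signalizer.of_le hA hEA)
    ((Nat.pow_le_pow_right hp.pos (by omega)).trans hE : p ^ k ≤ Nat.card E)
  exact le_iSup (fun D : {D : Subgroup G // D ≤ A ∧ Nat.card ↥D = p ^ k} =>
    Cfsg.signalizerDelta p (D : Subgroup G) ⊓ centralizer {b}) ⟨D, hDE.trans hEA, hDk⟩
      ⟨hanti hDE h1, hx.1.2⟩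

end Cfsg.Agent.S1299
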