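import Mathlib.Tactic
import Cfsg.Statements.S1300
-- import your own Cfsg.Agent.* helpers here

set_option autoImplicit false
set_option linter.style.haveILetI false
open Cfsg
open scoped commutatorElement Pointwise

namespace Cfsg.Agent.S1300

/-- For a finite group G, balance in the sense of commuting involutions is the same as 1-balance for the prime 2. -/
theorem result {G : Type*} [Group G] [Finite G] : Cfsg.IsBalanced G ↔ Cfsg.IsKBalanced 2 1 G := by
  constructor
  · intro hb A hA hcard b hb2 hcomm
    haveI : Fact (Nat.Prime 2) := ⟨Nat.prime_two⟩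
    obtain ⟨x, hx⟩ := exists_prime_orderOf_dvd_card' (G := A) 2 (by rw [hcard, pow_one])
    have hx2 : orderOf (x : G) = 2 := by rwa [Subgroup.orderOf_coe]
    have h := hb (x : G) b hx2 hb2 (hcomm x x.2)
    have hx1 : (x : G) ≠ 1 := by
      intro h1
      rw [h1, orderOf_one] at hx2
      omega
    have h0 : signalizerDelta 2 A ≤ centralizerPPrimeCore 2 (x : G) :=
      iInf_le (fun a : {a : G // a ∈ A ∧ a ≠ 1} => centralizerPPrimeCore 2 (a : G)) ⟨(x : G), x.2, hx1⟩
    exact (inf_le_inf_right _ h0).trans (h.le.trans inf_le_left)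
  · intro hk x y hx hy hxy
    have key : ∀ a b : G, orderOf a = 2 → orderOf b = 2 → a * b = b * a →
        centralizerPPrimeCore 2 a ⊓ Subgroup.centralizer {b} ≤
          centralizerPPrimeCore 2 b ⊓ Subgroup.centralizer {a} := by
      intro a b ha hb hab
      refine le_inf ?_ (inf_le_left.trans ?_)
      · refine le_trans (inf_le_inf_right _ (le_iInf ?_)) (hk (Subgroup.zpowers a) ⟨inferInstance, ?_⟩ ?_ b hb ?_)
        · rintro ⟨c, hc, hc1⟩
          obtain ⟨k, rfl⟩ := Subgroup.mem_zpowers_iff.mp hc
          show centralizerPPrimeCore 2 a ≤ centralizerPPrimeCore 2 (a ^ k)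
          have haa : a ^ (2 : ℤ) = 1 := by
            rw [zpow_two, ← sq, ← ha, pow_orderOf_eq_one]
          rcases Int.even_or_odd k with ⟨j, rfl⟩ | ⟨j, rfl⟩
          · exfalso
            exact hc1 (by rw [← two_mul, zpow_mul, haa, one_zpow])
          · rw [zpow_add, zpow_mul, haa, one_zpow, one_mul, zpow_one]
        · intro c hc
          obtain ⟨k, rfl⟩ := Subgroup.mem_zpowers_iff.mp hc
          rw [← zpow_natCast, ← zpow_mul, mul_comm, zpow_mul, zpow_natCast, ← ha,
            pow_orderOf_eq_one, one_zpow]
        · rw [Nat.card_zpowers, ha, pow_one]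
        · intro c hc
          obtain ⟨k, rfl⟩ := Subgroup.mem_zpowers_iff.mp hc
          exact ((show Commute a b from hab).zpow_left k).eq
      · exact Subgroup.map_subtype_le _
    exact le_antisymm (key x y hx hy hxy) (key y x hy hx hxy.symm)

end Cfsg.Agent.S1300
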