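import Cfsg.Statements.S1303
import Cfsg.Agent.KnownB.SL23
-- import your own Cfsg.Agent.* helpers here

set_option autoImplicit false
open Cfsg

namespace Cfsg.Agent.S1303

theorem constrained_of_normal {G : Type*} [Group G] [Finite G] {Q : Subgroup G} [hQn : Q.Normal]
    (hQ2 : IsPGroup 2 Q) (hC : Subgroup.centralizer (Q : Set G) ≤ Q) : Cfsg.IsPConstrained 2 G := by
  intro P
  have hQL : Q ≤ Cfsg.pPrimePCore 2 G := Subgroup.map_le_iff_le_comap.1
    (le_sSup ⟨hQn.map _ (QuotientGroup.mk'_surjective _), hQ2.map _⟩)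
  haveI : (Q.subgroupOf (Cfsg.pPrimePCore 2 G)).Normal := hQn.subgroupOf _
  have hQP : Q.subgroupOf (Cfsg.pPrimePCore 2 G) ≤ (P : Subgroup (Cfsg.pPrimePCore 2 G)) := by
    have h1 : IsPGroup 2 (Q.subgroupOf (Cfsg.pPrimePCore 2 G) ⊔ (P : Subgroup (Cfsg.pPrimePCore 2 G)) : Subgroup _) :=
      hQ2.comap_subtype.to_sup_of_normal_left P.2
    exact le_sup_left.trans (P.3 h1 le_sup_right).le
  exact le_trans (Subgroup.centralizer_le fun h hh =>
    ⟨⟨h, hQL hh⟩, hQP (Subgroup.mem_subgroupOf.2 hh), rfl⟩) (hC.trans hQL)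

/-- The group X = SL(2, 3): it is 2-constrained, O_{2'}(X) = 1, its centre A = Z(X) contains every involution of X = C_X(A), and X has a subgroup of order 3 (normalized by A) not contained in O_{2'}(X). -/
theorem result : Cfsg.IsPConstrained 2 (Matrix.SpecialLinearGroup (Fin 2) (ZMod 3)) ∧ Cfsg.pPrimeCore 2 (Matrix.SpecialLinearGroup (Fin 2) (ZMod 3)) = ⊥ ∧ (∀ t : Matrix.SpecialLinearGroup (Fin 2) (ZMod 3), orderOf t = 2 → t ∈ Subgroup.center (Matrix.SpecialLinearGroup (Fin 2) (ZMod 3))) ∧ ∃ Q : Subgroup (Matrix.SpecialLinearGroup (Fin 2) (ZMod 3)), Nat.card ↥Q = 3 ∧ ¬ (Q ≤ Cfsg.pPrimeCore 2 (Matrix.SpecialLinearGroup (Fin 2) (ZMod 3))) := by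
  haveI : Fact (Nat.Prime 2) := ⟨Nat.prime_two⟩
  have hcore : Cfsg.pPrimeCore 2 (Matrix.SpecialLinearGroup (Fin 2) (ZMod 3)) = ⊥ := by
    refine le_bot_iff.1 (sSup_le ?_)
    rintro N ⟨hN, hcop⟩ x hx
    have hd : orderOf x ∣ 24 := CfsgLib.KnownB.card_SL23 ▸ orderOf_dvd_natCard x
    have hodd : Nat.Coprime (orderOf x) 8 :=
      (Nat.Coprime.coprime_dvd_left (N.orderOf_dvd_natCard hx) hcop).pow_right 3
    have hx3 : x ^ 3 = 1 := orderOf_dvd_iff_pow_eq_one.1 (hodd.dvd_of_dvd_mul_left (show orderOf x ∣ 8 * 3 by exact hd))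
    refine Subgroup.mem_bot.2 ?_
    by_contra hx1
    have hcard : Nat.card N ∣ 3 := by
      refine Nat.Coprime.dvd_of_dvd_mul_left (hcop.pow_right 3) ?_
      rw [show 2 ^ 3 * 3 = Nat.card CfsgLib.KnownB.SL23 from CfsgLib.KnownB.card_SL23.symm]
      exact N.card_subgroup_dvd_card
    have hle : Subgroup.zpowers x = N := Subgroup.eq_of_le_of_card_ge (Subgroup.zpowers_le.2 hx) (by
      rw [Nat.card_zpowers]
      exact (Nat.le_of_dvd (by norm_num) hcard).trans (Nat.le_of_dvd (orderOf_pos x)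
        (by rw [orderOf_eq_prime hx3 hx1])))
    have key : ∀ x : CfsgLib.KnownB.SL23, x ^ 3 = 1 →
        (∀ g, g * x * g⁻¹ = 1 ∨ g * x * g⁻¹ = x ∨ g * x * g⁻¹ = x ^ 2) → x = 1 := by decide +kernel
    refine hx1 (key x hx3 fun g => ?_)
    have hg : g * x * g⁻¹ ∈ Subgroup.zpowers x := hle ▸ hN.conj_mem x hx g
    obtain ⟨i, hi, hie⟩ := (IsOfFinOrder.mem_zpowers_iff_mem_range_orderOf (isOfFinOrder_of_finite x)).1 hg |> Finset.mem_image.1
    rw [orderOf_eq_prime hx3 hx1, Finset.mem_range] at hi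
    interval_cases i
    · exact Or.inl (by rw [← hie, pow_zero])
    · exact Or.inr (Or.inl (by rw [← hie, pow_one]))
    · exact Or.inr (Or.inr hie.symm)
  refine ⟨?_, hcore, ?_, ?_⟩
  · haveI hQn : CfsgLib.KnownB.Q8.Normal := ⟨fun n hn g => by
      rw [CfsgLib.KnownB.mem_Q8] at hn ⊢
      rw [conj_pow, hn, mul_one, mul_inv_cancel]⟩
    have key : ∀ g : CfsgLib.KnownB.SL23, (∀ h : CfsgLib.KnownB.SL23, h ^ 4 = 1 → h * g = g * h) → g ^ 4 = 1 := by
      decide +kernel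
    exact constrained_of_normal (IsPGroup.of_card (n := 3) (by rw [CfsgLib.KnownB.card_Q8]; norm_num))
      (fun g hg => CfsgLib.KnownB.mem_Q8.2 (key g fun h hh => Subgroup.mem_centralizer_iff.1 hg h (CfsgLib.KnownB.mem_Q8.2 hh)))
  · intro t ht
    have key : ∀ t g : CfsgLib.KnownB.SL23, t ^ 2 = 1 → g * t = t * g := by decide +kernel
    have ht2 : t ^ 2 = 1 := by
      have h := pow_orderOf_eq_one t
      rwa [ht] at h
    exact Subgroup.mem_center_iff.2 fun g => key t g ht2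
  · haveI : Fact (Nat.Prime 3) := ⟨Nat.prime_three⟩
    obtain ⟨x, hx⟩ := exists_prime_orderOf_dvd_card' (G := CfsgLib.KnownB.SL23) 3
      (by rw [CfsgLib.KnownB.card_SL23]; norm_num)
    refine ⟨Subgroup.zpowers x, by rw [Nat.card_zpowers, hx], fun h => ?_⟩
    rw [hcore, Subgroup.zpowers_le, Subgroup.mem_bot] at h
    rw [h, orderOf_one] at hx
    exact absurd hx (by norm_num)

end Cfsg.Agent.S1303
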