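import Cfsg.Statements.S1304
-- import your own Cfsg.Agent.* helpers here

set_option autoImplicit false
open Cfsg
open scoped commutatorElement

namespace Cfsg.Agent.S1304

/-- Let X be a perfect group and α an automorphism of X with α(x) x⁻¹ central for every x. Then α is the identity. -/
theorem result {X : Type*} [Group X] (hperf : commutator X = ⊤) (α : X ≃* X) (h : ∀ x : X, α x * x⁻¹ ∈ Subgroup.center X) : ∀ x : X, α x = x := by
  intro x
  have key : ∀ y : X, y ∈ (commutator X) → α y = y := by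
    intro y hy
    have hle : commutator X ≤ MonoidHom.eqLocus α.toMonoidHom (MonoidHom.id X) := by
      rw [commutator_def, Subgroup.commutator_le]
      intro a _ b _
      show α ⁅a, b⁆ = ⁅a, b⁆
      obtain ⟨z, hz, hza⟩ : ∃ z ∈ Subgroup.center X, α a = z * a := ⟨_, h a, by simp⟩
      obtain ⟨w, hw, hwb⟩ : ∃ w ∈ Subgroup.center X, α b = w * b := ⟨_, h b, by simp⟩
      have hz' := Subgroup.mem_center_iff.mp hz
      have hw' := Subgroup.mem_center_iff.mp hw
      simp only [commutatorElement_def, map_mul, map_inv, hza, hwb, mul_inv_rev]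
      calc z * a * (w * b) * (a⁻¹ * z⁻¹) * (b⁻¹ * w⁻¹)
          = z * (a * w) * (b * a⁻¹) * z⁻¹ * b⁻¹ * w⁻¹ := by simp only [mul_assoc]
        _ = z * w * (a * b * a⁻¹) * z⁻¹ * b⁻¹ * w⁻¹ := by rw [hw' a]; simp only [mul_assoc]
        _ = z * (w * (a * b * a⁻¹)) * z⁻¹ * b⁻¹ * w⁻¹ := by simp only [mul_assoc]
        _ = w * (a * b * a⁻¹ * b⁻¹) * w⁻¹ := by rw [← hz']; simp [mul_assoc]
        _ = a * b * a⁻¹ * b⁻¹ := by rw [← hw']; simp [mul_assoc]
    exact hle hy
  exact key x (hperf ▸ Subgroup.mem_top x)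

end Cfsg.Agent.S1304
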