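import Cfsg.Statements.S1305
import Cfsg.Agent.CompOrbit.Basic
import Cfsg.Agent.Balance2.Layer

set_option autoImplicit false
open Cfsg

namespace Cfsg.Agent.S1305

open Subgroup CfsgLib.LBalance CfsgLib.LocalBalance
open scoped commutatorElement

/-- In a group of component type with the B-property, the `2`-layer of an involution centralizer is
the layer. -/
theorem pLayer_le_layer {G : Type*} [Group G] [Finite G] [Fact (Nat.Prime 2)]
    (hO : Cfsg.oddCore G = ⊥) (hB : Cfsg.HasBProperty G) {b : G} (hb : orderOf b = 2) :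
    Cfsg.pLayer 2 ↥(centralizer ({b} : Set G)) ≤ Cfsg.layer ↥(centralizer ({b} : Set G)) := by
  set C := centralizer ({b} : Set G)
  have h0 : ⁅Cfsg.pLayer 2 ↥C, Cfsg.oddCore ↥C⁆ = ⊥ := by
    have := hB b hb
    rw [hO, le_bot_iff, map_eq_bot_iff_of_injective _ C.subtype_injective] at this
    exact this
  refine CfsgLib.PComp.pLayer_le 2 fun J hJ => CfsgLib.Comp.component_le_layer ⟨hJ.1, ?_⟩
  refine CfsgLib.BBalance.quasisimple_of_quasi (p := 2) (quasi_of_pComponent hJ) ?_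
  rw [eq_bot_iff, ← h0]
  refine commutator_mono (le_sSup hJ) ?_
  show (Cfsg.pPrimeCore 2 ↥J).map J.subtype ≤ _
  rw [CfsgLib.PComp.pPrimeCore_eq_inf 2 hJ.1]
  exact inf_le_left

/-- A quasisimple group of even order is `Quasi 2`. -/
theorem quasi_of_quasisimple {X : Type*} [Group X] [Finite X] [Fact (Nat.Prime 2)] {K : Subgroup X}
    (hK : Cfsg.IsQuasisimple ↥K) (heven : 2 ∣ Nat.card ↥K) : Quasi 2 K := by
  refine ⟨Subgroup.isPerfect_iff.mp hK.1, ?_, ?_⟩
  · refine CfsgLib.BBalance.quasisimple_of_surjective (QuotientGroup.mk' _)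
      (QuotientGroup.mk'_surjective _) hK ?_
    refine QuotientGroup.nontrivial_iff.2 fun h => ?_
    have := CfsgLib.Solvable.coprime_card_pPrimeCore (G := ↥K) 2
    rw [h, Subgroup.card_top] at this
    exact absurd (Nat.eq_one_of_dvd_coprimes this heven (dvd_refl 2)) (by norm_num)
  · set T : Subgroup ↥K := closure {x : ↥K | ∃ k, x ^ 2 ^ k = 1}
    have hTn : T.Normal := by
      refine ⟨fun n hn g => ?_⟩
      have h1 : T.map (MulAut.conj g).toMonoidHom ≤ T := by
        rw [MonoidHom.map_closure]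
        refine closure_mono ?_
        rintro _ ⟨x, ⟨k, hk⟩, rfl⟩
        exact ⟨k, by rw [← map_pow, hk, map_one]⟩
      exact h1 ⟨n, hn, rfl⟩
    rcases CfsgLib.Comp.quasisimple_normal hK hTn with h | h
    · intro x hx
      have hxT : (⟨x, hx⟩ : ↥K) ∈ T := h ▸ mem_top _
      have hle : T.map K.subtype ≤ CfsgLib.PComp.pGen 2 K := by
        rw [MonoidHom.map_closure]
        refine closure_mono ?_
        rintro _ ⟨y, ⟨k, hk⟩, rfl⟩
        exact ⟨y.2, k, by simpa using congrArg Subtype.val hk⟩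
      exact hle ⟨_, hxT, rfl⟩
    · exfalso
      obtain ⟨P⟩ : Nonempty (Sylow 2 ↥K) := inferInstance
      have hP : (P : Subgroup ↥K) ≤ center ↥K := fun x hx => h (subset_closure (by
        obtain ⟨k, hk⟩ := P.2 ⟨x, hx⟩
        exact ⟨k, by simpa using congrArg Subtype.val hk⟩))
      have hN : normalizer ((P : Subgroup ↥K) : Set ↥K) ≤ centralizer ((P : Subgroup ↥K) : Set ↥K) :=
        fun g _ => mem_centralizer_iff.2 fun x hx => ((mem_center_iff.1 (hP hx)) g).symm
      have hcompl := MonoidHom.ker_transferSylow_isComplement' P hN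
      have hker : (MonoidHom.transferSylow P hN).ker = ⊤ := by
        rw [eq_top_iff, ← hK.1.commutator_eq_top, _root_.commutator_def, commutator_le]
        intro x _ y _
        have hc : ∀ u v : ↥(P : Subgroup ↥K), u * v = v * u := fun u v =>
          Subtype.ext ((mem_center_iff.1 (hP v.2)) (u : ↥K))
        rw [MonoidHom.mem_ker, map_commutatorElement, commutatorElement_eq_one_iff_mul_comm, hc]
      rw [hker, isComplement'_top_left] at hcompl
      have hcard : ¬ 2 ∣ Nat.card ↥K := by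
        have := P.not_dvd_index
        rwa [hcompl, index_bot] at this
      exact hcard heven

/-- Let G be a finite group of component type with the B-property and no nontrivial normal subgroup of odd order. Let a be an involution and K a component of C_G(a) such that (a) |K| is maximal among the orders of components of centralizers of involutions of G, (b) subject to (a) the 2-rank of the centralizer of K in C_G(a) is as large as possible, and (c) K has 2-rank at least 2. If B is an elementary abelian 2-subgroup of that centralizer of the largest possible order, then K is a component of C_G(b) for every non-identity b ∈ B. -/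
theorem result {G : Type*} [Group G] [Finite G] (hO : Cfsg.oddCore G = ⊥) (hB : Cfsg.HasBProperty G) (hct : Cfsg.IsComponentType G) (a : G) (ha : orderOf a = 2) (K : Subgroup G) (hKa : K ≤ Subgroup.centralizer ({a} : Set G)) (hK : Cfsg.IsComponent (K.subgroupOf (Subgroup.centralizer ({a} : Set G)))) (hmax : ∀ y : G, orderOf y = 2 → ∀ K' : Subgroup G, K' ≤ Subgroup.centralizer ({y} : Set G) → Cfsg.IsComponent (K'.subgroupOf (Subgroup.centralizer ({y} : Set G))) → Nat.card ↥K' ≤ Nat.card ↥K ∧ (Nat.card ↥K' = Nat.card ↥K → ∀ k : ℕ, Cfsg.PRankLE 2 k ↥(Subgroup.centralizer ({a} : Set G) ⊓ Subgroup.centralizer (K : Set G)) → Cfsg.PRankLE 2 k ↥(Subgroup.centralizer ({y} : Set G) ⊓ Subgroup.centralizer (K' : Set G)))) (hrk : ¬ Cfsg.PRankLE 2 1 ↥K) (B : Subgroup G) (hBle : B ≤ Subgroup.centralizer ({a} : Set G) ⊓ Subgroup.centralizer (K : Set G)) (hBel : Cfsg.IsElementaryAbelian 2 B) (hBmax : ∀ B' : Subgroup G, B' ≤ Subgroup.centralizer ({a} : Set G) ⊓ Subgroup.centralizer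 (K : Set G) → Cfsg.IsElementaryAbelian 2 B' → Nat.card ↥B' ≤ Nat.card ↥B) (b : G) (hb : b ∈ B) (hb1 : b ≠ 1) : K ≤ Subgroup.centralizer ({b} : Set G) ∧ Cfsg.IsComponent (K.subgroupOf (Subgroup.centralizer ({b} : Set G))) := by
  classical
  haveI : Fact (Nat.Prime 2) := ⟨Nat.prime_two⟩
  set Ca := centralizer ({a} : Set G) with hCa
  set Cb := centralizer ({b} : Set G) with hCb
  have haa : a * a = 1 := by rw [← pow_two, ← ha, pow_orderOf_eq_one]
  have hba : b * a = a * b := mem_centralizer_singleton_iff.1 (hBle hb).1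
  have hbo : orderOf b = 2 := orderOf_eq_prime (hBel.2 b hb) hb1
  have haB : a ∈ Cb := mem_centralizer_singleton_iff.2 hba.symm
  have hKb : K ≤ Cb := fun k hk =>
    mem_centralizer_singleton_iff.2 (mem_centralizer_iff.1 (hBle hb).2 k hk)
  have hBb : B ≤ Cb := fun β hβ => mem_centralizer_singleton_iff.2
    (congrArg Subtype.val (hBel.1.is_comm.comm (⟨β, hβ⟩ : B) ⟨b, hb⟩))
  refine ⟨hKb, ?_⟩
  -- a four group in `K`
  obtain ⟨E2, hE2c, hE2e, hE2⟩ : ∃ A : Subgroup ↥K, IsMulCommutative A ∧ (∀ x ∈ A, x ^ 2 = 1) ∧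
      2 < Nat.card A := by
    by_contra hcon
    push Not at hcon
    exact hrk fun A h1 h2 => by simpa using hcon A h1 h2
  have heven : 2 ∣ Nat.card ↥K := by
    haveI : Nontrivial ↥E2 := Finite.one_lt_card_iff_nontrivial.1 (by omega)
    obtain ⟨x, hx⟩ := exists_ne (1 : ↥E2)
    have hxo : orderOf (x : ↥K) = 2 :=
      orderOf_eq_prime (hE2e x x.2) fun h => hx (Subtype.ext h)
    exact hxo ▸ orderOf_dvd_natCard (x : ↥K)
  -- work inside `C(b)`
  set a' : ↥Cb := ⟨a, haB⟩
  set K' := K.subgroupOf Cb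
  have haa' : a' * a' = 1 := Subtype.ext haa
  have hKqG : Cfsg.IsQuasisimple ↥K :=
    CfsgLib.Comp.isQuasisimple_of_equiv (subgroupOfEquivOfLe hKa) hK.2
  have hKq : Cfsg.IsQuasisimple ↥K' :=
    CfsgLib.Comp.isQuasisimple_of_equiv (subgroupOfEquivOfLe hKb).symm hKqG
  have hK'a : K' ≤ centralizer ({a'} : Set ↥Cb) := fun k hk => mem_centralizer_singleton_iff.2
    (Subtype.ext (mem_centralizer_singleton_iff.1 (hKa hk)))
  have hsub : (K'.subgroupOf (centralizer ({a'} : Set ↥Cb))).IsSubnormal := by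
    let φ : ↥(centralizer ({a'} : Set ↥Cb)) →* ↥Ca :=
      ((Cb.subtype).comp (centralizer ({a'} : Set ↥Cb)).subtype).codRestrict Ca fun x =>
        mem_centralizer_singleton_iff.2
          (congrArg Subtype.val (mem_centralizer_singleton_iff.1 x.2))
    exact hK.1.comap φ
  have hq : Quasi 2 K' := quasi_of_quasisimple hKq (by
    rwa [Nat.card_congr (subgroupOfEquivOfLe hKb).toEquiv])
  have hR : IsPGroup 2 ↥(zpowers a') := IsPGroup.of_card (n := 1) (by
    rw [Nat.card_zpowers, pow_one, ← ha, ← Subgroup.orderOf_coe])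
  have hcz : centralizer ((zpowers a' : Subgroup ↥Cb) : Set ↥Cb) = centralizer ({a'} : Set ↥Cb) := by
    rw [zpowers_eq_closure, centralizer_closure]
  have hKlay : K' ≤ Cfsg.layer ↥Cb :=
    (CfsgLib.Balance2.quasi_le_pLayer hR (hcz ▸ hK'a) (by rw [hcz]; exact hsub) hq).trans
      (pLayer_le_layer hO hB hbo)
  obtain ⟨L, hL, hcase⟩ := CfsgLib.CompOrbit.orbit haa' hKq hK'a hsub hKlay
  set L₁ := L.map Cb.subtype
  have hL1le : L₁ ≤ Cb := map_subtype_le L
  have hL1c : Cfsg.IsComponent (L₁.subgroupOf Cb) := by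
    rwa [subgroupOf, comap_map_eq_self_of_injective Cb.subtype_injective]
  have hL1card : Nat.card ↥L₁ = Nat.card ↥L := card_map_of_injective Cb.subtype_injective
  obtain ⟨hle, hmx⟩ := hmax b hbo L₁ hL1le hL1c
  rcases hcase with hKL | ⟨hmove, hdiag⟩
  · have hKL1 : K ≤ L₁ := fun k hk => ⟨⟨k, hKb hk⟩, hKL hk, rfl⟩
    show Cfsg.IsComponent (K.subgroupOf Cb)
    rw [eq_of_le_of_card_ge hKL1 hle]
    exact hL1c
  exfalso
  -- the diagonal case
  let f : ↥K → ↥L := fun k =>
    ⟨(hdiag ⟨k, hKb k.2⟩ k.2).choose, (hdiag ⟨k, hKb k.2⟩ k.2).choose_spec.1⟩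
  have hf : ∀ k : ↥K, (k : G) = ((f k : ↥Cb) : G) * (a * ((f k : ↥Cb) : G) * a) := fun k =>
    congrArg Subtype.val (hdiag ⟨k, hKb k.2⟩ k.2).choose_spec.2
  have hfinj : Function.Injective f := fun k₁ k₂ h => Subtype.ext (by rw [hf k₁, hf k₂, h])
  have hfbij : Function.Bijective f := (Nat.bijective_iff_injective_and_card f).2
    ⟨hfinj, le_antisymm (Nat.card_le_card_of_injective f hfinj) (hL1card ▸ hle)⟩
  have hKcard : Nat.card ↥L₁ = Nat.card ↥K := by rw [hL1card, Nat.card_congr (Equiv.ofBijective f hfbij)]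
  -- injectivity of `l ↦ l * a l a`
  have hψinj : ∀ l m : ↥L, ((l : ↥Cb) : G) * (a * ((l : ↥Cb) : G) * a) =
      ((m : ↥Cb) : G) * (a * ((m : ↥Cb) : G) * a) → l = m := by
    intro l m h
    obtain ⟨k₁, rfl⟩ := hfbij.2 l
    obtain ⟨k₂, rfl⟩ := hfbij.2 m
    rw [← hf, ← hf] at h
    rw [Subtype.ext h]
  have hψmem : ∀ l : ↥L, ((l : ↥Cb) : G) * (a * ((l : ↥Cb) : G) * a) ∈ K := by
    intro l
    obtain ⟨k, rfl⟩ := hfbij.2 l
    rw [← hf]
    exact k.2
  set L₂ := L₁.map (MulAut.conj a).toMonoidHom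
  have hainv : a⁻¹ = a := inv_eq_of_mul_eq_one_right haa
  have hL2mem : ∀ x, x ∈ L₂ ↔ a * x * a ∈ L₁ := by
    intro x
    constructor
    · rintro ⟨y, hy, rfl⟩
      show a * (a * y * a⁻¹) * a ∈ L₁
      have : a * (a * y * a⁻¹) * a = (a * a) * y := by group
      rwa [this, haa, one_mul]
    · intro h
      refine ⟨_, h, ?_⟩
      show a * (a * x * a) * a⁻¹ = x
      rw [show a * (a * x * a) * a⁻¹ = (a * a) * x by group, haa, one_mul]
  have h12 : ∀ x ∈ L₁, ∀ y ∈ L₂, x * y = y * x := by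
    rintro _ ⟨x, hx, rfl⟩ _ ⟨_, ⟨y, hy, rfl⟩, rfl⟩
    have h2 : Cfsg.IsComponent (L.map (MulAut.conj a').toMonoidHom) :=
      CfsgLib.Comp.component_conj a' hL
    have hc := (CfsgLib.Comp.component_eq_or_commute h2 hL).resolve_left hmove
    exact congrArg Subtype.val (mem_centralizer_iff.1
      (CfsgLib.Comp.le_centralizer_of_commutator_eq_bot hc ⟨y, hy, rfl⟩) x hx)
  -- `B` permutes the two components
  have hBa : ∀ β ∈ B, β * a = a * β := fun β hβ => mem_centralizer_singleton_iff.1 (hBle hβ).1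
  have hBK : ∀ β ∈ B, ∀ k ∈ K, k * β = β * k := fun β hβ k hk =>
    mem_centralizer_iff.1 (hBle hβ).2 k hk
  have hBperm : ∀ β ∈ B, L₁.map (MulAut.conj β).toMonoidHom = L₁ ∨
      L₁.map (MulAut.conj β).toMonoidHom = L₂ := by
    intro β hβ
    set β' : ↥Cb := ⟨β, hBb hβ⟩
    have hc : Cfsg.IsComponent (L.map (MulAut.conj β').toMonoidHom) :=
      CfsgLib.Comp.component_conj β' hL
    have hmapc : L₁.map (MulAut.conj β).toMonoidHom =
        (L.map (MulAut.conj β').toMonoidHom).map Cb.subtype := by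
      rw [Subgroup.map_map, Subgroup.map_map]; rfl
    have hmapa : L₂ = (L.map (MulAut.conj a').toMonoidHom).map Cb.subtype := by
      show (L.map Cb.subtype).map _ = _
      rw [Subgroup.map_map, Subgroup.map_map]; rfl
    rcases CfsgLib.Comp.component_eq_or_commute hc hL with h | h
    · exact Or.inl (by rw [hmapc, h])
    rcases CfsgLib.Comp.component_eq_or_commute hc (CfsgLib.Comp.component_conj a' hL) with h' | h'
    · exact Or.inr (by rw [hmapc, h', ← hmapa])
    exfalso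
    refine CfsgLib.Comp.component_not_comm hL ?_
    rw [commutator_eq_bot_iff_le_centralizer]
    intro m hm
    refine mem_centralizer_iff.2 fun l hl => Subtype.ext ?_
    -- `m` commutes with every element of `K`
    have hmk : ∀ k ∈ K, k * (m : G) = m * k := by
      intro k hk
      obtain ⟨u, hu, huk⟩ := hdiag ⟨k, hKb hk⟩ hk
      have e1 : ∀ x ∈ L.map (MulAut.conj β').toMonoidHom,
          x * (⟨k, hKb hk⟩ : ↥Cb) = ⟨k, hKb hk⟩ * x := by
        intro x hx
        rw [huk]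
        have c1 : Commute x u := (mem_centralizer_iff.1
          (CfsgLib.Comp.le_centralizer_of_commutator_eq_bot h hx) u hu).symm
        have c2 : Commute x (a' * u * a') := (mem_centralizer_iff.1
          (CfsgLib.Comp.le_centralizer_of_commutator_eq_bot h' hx) _
          ⟨u, hu, by show a' * u * a'⁻¹ = _; rw [inv_eq_of_mul_eq_one_right haa']⟩).symm
        exact c1.mul_right c2
      have e2 := congrArg Subtype.val (e1 _ ⟨m, hm, rfl⟩)
      change β * m * β⁻¹ * k = k * (β * m * β⁻¹) at e2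
      calc k * (m : G) = β⁻¹ * (k * (β * m * β⁻¹)) * β := by
            rw [show β⁻¹ * (k * (β * m * β⁻¹)) * β = β⁻¹ * (k * β) * m by group, hBK β hβ k hk]
            group
        _ = β⁻¹ * (β * m * β⁻¹ * k) * β := by rw [e2]
        _ = m * (β⁻¹ * (k * β)) := by group
        _ = m * k := by rw [hBK β hβ k hk]; group
    have e3 := hmk _ (hψmem ⟨l, hl⟩)
    have hmL1 : (m : G) ∈ L₁ := ⟨m, hm, rfl⟩
    have hv : a * (l : G) * a ∈ L₂ := by
      rw [hL2mem, show a * (a * (l : G) * a) * a = (a * a) * l * (a * a) by group, haa, one_mul,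
        mul_one]
      exact ⟨l, hl, rfl⟩
    have hmv : Commute (m : G) (a * (l : G) * a) := h12 _ hmL1 _ hv
    have e4 : Commute ((l : G) * (a * (l : G) * a) * (a * (l : G) * a)⁻¹) (m : G) :=
      Commute.mul_left e3 hmv.symm.inv_left
    rw [mul_inv_cancel_right] at e4
    exact e4
  set N₁ := normalizer (L₁ : Set G)
  have hN₁ : ∀ β : G, L₁.map (MulAut.conj β).toMonoidHom = L₁ → β ∈ N₁ := fun β h =>
    mem_normalizer_iff_map_conj_eq.2 h
  have hB2 : Nat.card ↥B ≤ 2 * Nat.card ↥(B ⊓ N₁) := by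
    by_cases hall : B ≤ N₁
    · rw [inf_eq_left.2 hall]; omega
    obtain ⟨β₀, hβ₀, hβ₀n⟩ := SetLike.not_le_iff_exists.1 hall
    have hsw : L₂.map (MulAut.conj β₀).toMonoidHom = L₁ := by
      have h1 : L₁.map (MulAut.conj β₀).toMonoidHom = L₂ :=
        (hBperm β₀ hβ₀).resolve_left fun h => hβ₀n (hN₁ _ h)
      rw [← h1, Subgroup.map_map]
      ext x
      have hsq : β₀ * β₀ = 1 := by rw [← pow_two]; exact hBel.2 β₀ hβ₀
      constructor
      · rintro ⟨y, hy, rfl⟩
        show β₀ * (β₀ * y * β₀⁻¹) * β₀⁻¹ ∈ L₁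
        rwa [show β₀ * (β₀ * y * β₀⁻¹) * β₀⁻¹ = (β₀ * β₀) * y * (β₀ * β₀)⁻¹ by group, hsq, one_mul,
          inv_one, mul_one]
      · intro hx
        refine ⟨x, hx, ?_⟩
        show β₀ * (β₀ * x * β₀⁻¹) * β₀⁻¹ = x
        rw [show β₀ * (β₀ * x * β₀⁻¹) * β₀⁻¹ = (β₀ * β₀) * x * (β₀ * β₀)⁻¹ by group, hsq, one_mul,
          inv_one, mul_one]
    let g : ↥B → ↥(B ⊓ N₁) × Bool := fun β =>
      if h : (β : G) ∈ N₁ then (⟨β, β.2, h⟩, true)
      else (⟨β₀ * β, mul_mem hβ₀ β.2, hN₁ _ (by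
        rw [show (MulAut.conj (β₀ * (β : G))).toMonoidHom = (MulAut.conj β₀).toMonoidHom.comp
          (MulAut.conj (β : G)).toMonoidHom by ext x; simp [mul_assoc], ← Subgroup.map_map,
          (hBperm β β.2).resolve_left fun h' => h (hN₁ _ h'), hsw])⟩, false)
    have hg : Function.Injective g := by
      intro x y hxy
      apply Subtype.ext
      have h1 := congrArg (fun z => ((z.1 : ↥(B ⊓ N₁)) : G)) hxy
      have h2 := congrArg Prod.snd hxy
      simp only [g] at h1 h2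
      split_ifs at h1 h2
      · exact h1
      · exact mul_left_cancel h1
    have := Nat.card_le_card_of_injective g hg
    rw [Nat.card_prod, Nat.card_eq_fintype_card (α := Bool), Fintype.card_bool] at this
    omega
  -- `B ∩ N(L)` centralizes both components
  have hB0c : ∀ β ∈ B ⊓ N₁, ∀ l : ↥L, β * ((l : ↥Cb) : G) = ((l : ↥Cb) : G) * β := by
    intro β hβ l
    have hmem : β * ((l : ↥Cb) : G) * β⁻¹ ∈ L₁ :=
      (mem_normalizer_iff.1 hβ.2 _).1 ⟨l, l.2, rfl⟩
    obtain ⟨m, hm, hme⟩ := hmem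
    have hmeq : (⟨m, hm⟩ : ↥L) = l := by
      refine hψinj _ _ ?_
      change (m : G) = β * ((l : ↥Cb) : G) * β⁻¹ at hme
      show (m : G) * (a * (m : G) * a) = _
      rw [hme]
      have h1 := hBa β hβ.1
      have h2 : β⁻¹ * a = a * β⁻¹ := (Commute.inv_left (show Commute β a from h1)).eq
      calc β * ((l : ↥Cb) : G) * β⁻¹ * (a * (β * ((l : ↥Cb) : G) * β⁻¹) * a)
          = β * ((l : ↥Cb) : G) * β⁻¹ * ((a * β) * ((l : ↥Cb) : G) * (β⁻¹ * a)) := by group
        _ = β * ((l : ↥Cb) : G) * β⁻¹ * ((β * a) * ((l : ↥Cb) : G) * (a * β⁻¹)) := by rw [h1, h2]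
        _ = β * (((l : ↥Cb) : G) * (a * ((l : ↥Cb) : G) * a)) * β⁻¹ := by group
        _ = _ := by rw [← hBK β hβ.1 _ (hψmem l), mul_inv_cancel_right]
    rw [← hmeq]
    change (m : G) = β * ((l : ↥Cb) : G) * β⁻¹ at hme
    rw [← hmeq] at hme
    show β * (m : G) = (m : G) * β
    calc β * (m : G) = (β * (m : G) * β⁻¹) * β := by group
      _ = (m : G) * β := by rw [← hme]
  -- the map `K → L₂`
  have hK2 : ∀ k : ↥K, a * ((f k : ↥Cb) : G) * a ∈ L₂ := fun k => by
    rw [hL2mem, show a * (a * ((f k : ↥Cb) : G) * a) * a = (a * a) * ((f k : ↥Cb) : G) * (a * a) by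
      group, haa, one_mul, mul_one]
    exact ⟨_, (f k).2, rfl⟩
  have hfmul : ∀ k₁ k₂ : ↥K, f (k₁ * k₂) = f k₁ * f k₂ := by
    intro k₁ k₂
    refine hψinj _ _ ?_
    rw [← hf, Subgroup.coe_mul, hf k₁, hf k₂]
    set u := ((f k₁ : ↥Cb) : G)
    set v := ((f k₂ : ↥Cb) : G)
    show u * (a * u * a) * (v * (a * v * a)) = u * v * (a * (u * v) * a)
    have hc : v * (a * u * a) = a * u * a * v := h12 v ⟨_, (f k₂).2, rfl⟩ _ (hK2 k₁)
    calc u * (a * u * a) * (v * (a * v * a)) = u * ((a * u * a) * v) * (a * v * a) := by group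
      _ = u * (v * (a * u * a)) * (a * v * a) := by rw [hc]
      _ = u * v * (a * u * (a * a) * v * a) := by group
      _ = _ := by rw [haa]; group
  let τ : ↥K →* G :=
    MonoidHom.mk' (fun k => a * ((f k : ↥Cb) : G) * a) fun k₁ k₂ => by
      rw [hfmul, Subgroup.coe_mul, Subgroup.coe_mul]
      calc a * (((f k₁ : ↥Cb) : G) * ((f k₂ : ↥Cb) : G)) * a
          = a * ((f k₁ : ↥Cb) : G) * (a * a) * ((f k₂ : ↥Cb) : G) * a := by rw [haa]; group
        _ = _ := by group
  have hτinj : Function.Injective τ := fun k₁ k₂ h => hfinj (Subtype.ext (Subtype.ext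
    (mul_left_cancel (mul_right_cancel (show a * ((f k₁ : ↥Cb) : G) * a = a * _ * a from h)))))
  -- commutation of `B ∩ N(L)` with the image
  have hB0τ : ∀ β ∈ B ⊓ N₁, ∀ k, Commute β (τ k) := fun β hβ k =>
    ((show Commute β a from hBa β hβ.1).mul_right (hB0c β hβ (f k))).mul_right (hBa β hβ.1)
  haveI := hE2c
  have hEe : ∀ e : ↥E2, τ e * τ e = 1 := fun e => by
    rw [← map_mul, ← pow_two, hE2e e e.2, map_one]
  let μ : ↥(B ⊓ N₁) × ↥E2 → G := fun x => x.1 * τ x.2
  have hμinj : Function.Injective μ := by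
    rintro ⟨⟨β₁, hβ₁⟩, e₁⟩ ⟨⟨β₂, hβ₂⟩, e₂⟩ h
    change β₁ * τ e₁ = β₂ * τ e₂ at h
    have h' : β₂⁻¹ * β₁ = τ (e₂ * e₁⁻¹ : ↥E2) := by
      rw [Subgroup.coe_mul, InvMemClass.coe_inv, map_mul, map_inv, eq_mul_inv_iff_mul_eq, mul_assoc,
        h, inv_mul_cancel_left]
    set e : ↥E2 := e₂ * e₁⁻¹
    set l : ↥L := f e
    set lv : G := ((l : ↥Cb) : G)
    have hβ : β₂⁻¹ * β₁ ∈ B ⊓ N₁ := mul_mem (inv_mem hβ₂) hβ₁
    -- the element is fixed by `a`, hence equals `l`
    have hfix : a * (β₂⁻¹ * β₁) * a = β₂⁻¹ * β₁ := by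
      rw [← hBa _ hβ.1, mul_assoc, haa, mul_one]
    have hlv : a * lv * a = lv := by
      have h3 : a * (a * lv * a) * a = a * lv * a := by
        have := hfix
        rwa [h'] at this
      rw [show a * (a * lv * a) * a = (a * a) * lv * (a * a) by group, haa, one_mul, mul_one] at h3
      exact h3.symm
    have hk : ((e : ↥K) : G) = τ e * τ e := by
      rw [hf (e : ↥K)]
      show lv * (a * lv * a) = (a * lv * a) * (a * lv * a)
      rw [hlv]
    rw [hEe] at hk
    have he : e = 1 := Subtype.ext (Subtype.ext hk)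
    rw [he] at h'
    have hb12 : β₂ = β₁ := inv_mul_eq_one.1 (by rw [h', OneMemClass.coe_one, map_one])
    have he12 : e₂ = e₁ := mul_inv_eq_one.1 he
    subst hb12 he12
    rfl
  -- the elementary abelian subgroup
  let A : Subgroup G :=
    { carrier := Set.range μ
      one_mem' := ⟨1, by simp [μ]⟩
      mul_mem' := by
        rintro _ _ ⟨⟨x, e⟩, rfl⟩ ⟨⟨y, f'⟩, rfl⟩
        refine ⟨(x * y, e * f'), ?_⟩
        show (x : G) * y * τ ((e : ↥K) * f') = x * τ e * (y * τ f')
        rw [map_mul, mul_assoc (x : G), ← mul_assoc (y : G), (hB0τ y y.2 e).eq]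
        group
      inv_mem' := by
        rintro _ ⟨⟨x, e⟩, rfl⟩
        refine ⟨(x⁻¹, e⁻¹), ?_⟩
        show (x : G)⁻¹ * τ ((e : ↥K)⁻¹) = (x * τ e)⁻¹
        rw [map_inv, mul_inv_rev, ((hB0τ x x.2 e).inv_left.inv_right).eq] }
  have hAc : A ≤ Cb ⊓ centralizer (L₁ : Set G) := by
    rintro _ ⟨⟨x, e⟩, rfl⟩
    refine mul_mem ⟨hBb x.2.1, mem_centralizer_iff.2 ?_⟩ ⟨?_, mem_centralizer_iff.2 fun y hy => h12 y hy _ (hK2 e)⟩
    · rintro _ ⟨y, hy, rfl⟩
      exact (hB0c x x.2 ⟨y, hy⟩).symm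
    · exact mul_mem (mul_mem haB (hL1le ⟨_, (f e).2, rfl⟩)) haB
  have hAsq : ∀ x ∈ A, x * x = 1 := by
    rintro _ ⟨⟨x, e⟩, rfl⟩
    show x * τ e * (x * τ e) = 1
    rw [mul_assoc (x : G), ← mul_assoc (τ e), ← (hB0τ x x.2 e).eq, mul_assoc (x : G) (τ e), hEe,
      mul_one, ← pow_two, hBel.2 x x.2.1]
  have hAcard : Nat.card ↥A = Nat.card ↥(B ⊓ N₁) * Nat.card ↥E2 := by
    rw [← Nat.card_prod]
    exact (Nat.card_congr (Equiv.ofInjective μ hμinj)).symm
  obtain ⟨j, hj⟩ := (show IsPGroup 2 ↥B from fun x => ⟨1, Subtype.ext (hBel.2 x x.2)⟩).exists_card_eq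
  -- the maximality of the rank
  have hrankK : Cfsg.PRankLE 2 j ↥(Ca ⊓ centralizer (K : Set G)) := by
    intro A' h1 h2
    have hA'le : A'.map (Ca ⊓ centralizer (K : Set G)).subtype ≤ Ca ⊓ centralizer (K : Set G) :=
      map_subtype_le _
    have hA'e : Cfsg.IsElementaryAbelian 2 (A'.map (Ca ⊓ centralizer (K : Set G)).subtype) := by
      refine ⟨⟨⟨?_⟩⟩, ?_⟩
      · rintro ⟨_, u, hu, rfl⟩ ⟨_, v, hv, rfl⟩
        exact Subtype.ext (congrArg (fun w : ↥(Ca ⊓ centralizer (K : Set G)) => (w : G))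
          (congrArg Subtype.val (h1.is_comm.comm (⟨u, hu⟩ : A') ⟨v, hv⟩)))
      · rintro _ ⟨u, hu, rfl⟩
        rw [← map_pow, h2 u hu, map_one]
    have := hBmax _ hA'le hA'e
    rwa [card_map_of_injective (Subgroup.subtype_injective _), hj] at this
  have hLrank := hmx hKcard j hrankK
  have hA' := hLrank (A.subgroupOf (Cb ⊓ centralizer (L₁ : Set G))) ⟨⟨fun x y => Subtype.ext (Subtype.ext ?_)⟩⟩
    (fun x hx => Subtype.ext (by rw [SubmonoidClass.coe_pow, pow_two]; exact hAsq _ (mem_subgroupOf.1 hx)))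
  swap
  · have hx := hAsq _ (mem_subgroupOf.1 x.2)
    have hy := hAsq _ (mem_subgroupOf.1 y.2)
    have hxy := hAsq _ (mul_mem (mem_subgroupOf.1 x.2) (mem_subgroupOf.1 y.2))
    show ((x : ↥(Cb ⊓ centralizer (L₁ : Set G))) : G) * y = y * x
    calc _ = (((x : ↥(Cb ⊓ centralizer (L₁ : Set G))) : G) * y)⁻¹ := (inv_eq_of_mul_eq_one_right hxy).symm
      _ = _ := by rw [mul_inv_rev, inv_eq_of_mul_eq_one_right hx, inv_eq_of_mul_eq_one_right hy]
  rw [Nat.card_congr (subgroupOfEquivOfLe hAc).toEquiv, hAcard] at hA'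
  have hj' : 1 ≤ 2 ^ j := Nat.one_le_two_pow
  rw [hj] at hB2
  nlinarith

end Cfsg.Agent.S1305
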