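import Cfsg.Statements.S1306
import Cfsg.Agent.Comp.Basic
import Cfsg.Agent.Solvable.Basics
-- import your own Cfsg.Agent.* helpers here

set_option autoImplicit false
open Cfsg

namespace Cfsg.Agent.S1306

/-- Let G be finite, x an involution and L ≤ C_G(x) a component of C_G(x). Suppose L is a component of C_G(y) for every involution y ∈ C_G(L), and ⁅L, g L g⁻¹⁆ ≠ 1 whenever g L g⁻¹ ≠ L. Then L is a standard subgroup of G. -/
theorem result {G : Type*} [Group G] [Finite G] (x : G) (hx : orderOf x = 2) (L : Subgroup G) (hLx : L ≤ Subgroup.centralizer ({x} : Set G)) (hL : Cfsg.IsComponent (L.subgroupOf (Subgroup.centralizer ({x} : Set G)))) (hne : ∀ y : G, orderOf y = 2 → y ∈ Subgroup.centralizer (L : Set G) → L ≤ Subgroup.centralizer ({y} : Set G) ∧ Cfsg.IsComponent (L.subgroupOf (Subgroup.centralizer ({y} : Set G)))) (hnc : ∀ g : G, L.map (MulAut.conj g).toMonoidHom ≠ L → ⁅L, L.map (MulAut.conj g).toMonoidHom⁆ ≠ ⊥) : Cfsg.IsStandardSubgroup L := by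
  open CfsgLib Subgroup in
  haveI : Fact (Nat.Prime 2) := ⟨Nat.prime_two⟩
  have hxC : x ∈ centralizer (L : Set G) :=
    mem_centralizer_iff.2 fun l hl => mem_centralizer_singleton_iff.1 (hLx hl)
  have hconj : ∀ g : G, ∀ y : G, orderOf y = 2 → y ∈ centralizer (L : Set G) →
      g⁻¹ * y * g ∈ centralizer (L : Set G) → L.map (MulAut.conj g).toMonoidHom = L := by
    intro g y hy hyL hyg
    by_contra hne'
    obtain ⟨h1, h2⟩ := hne y hy hyL
    obtain ⟨h3, h4⟩ := hne (g⁻¹ * y * g)
      (by rw [show g⁻¹ * y * g = (MulAut.conj g⁻¹) y by simp]; rw [MulEquiv.orderOf_eq]; exact hy) hyg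
    have hcen : (centralizer ({g⁻¹ * y * g} : Set G)).map (MulAut.conj g).toMonoidHom = centralizer ({y} : Set G) := by
      ext z
      constructor
      · rintro ⟨w, hw, rfl⟩
        refine mem_centralizer_singleton_iff.2 ?_
        have h5 := congrArg (MulAut.conj g) (mem_centralizer_singleton_iff.1 hw)
        rw [map_mul, map_mul] at h5
        simpa [mul_assoc] using h5
      · intro hz
        refine ⟨g⁻¹ * z * g, mem_centralizer_singleton_iff.2 ?_, by simp [mul_assoc]⟩
        have h5 := congrArg (MulAut.conj g⁻¹) (mem_centralizer_singleton_iff.1 hz)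
        rw [map_mul, map_mul] at h5
        simpa using h5
    have h6 : L.map (MulAut.conj g).toMonoidHom ≤ centralizer ({y} : Set G) := hcen ▸ map_mono h3
    set e := ((centralizer ({g⁻¹ * y * g} : Set G)).equivMapOfInjective (MulAut.conj g).toMonoidHom (MulAut.conj g).injective).trans (MulEquiv.subgroupCongr hcen)
    have h7 : Cfsg.IsComponent ((L.map (MulAut.conj g).toMonoidHom).subgroupOf (centralizer ({y} : Set G))) := by
      have h8 := Comp.component_map_equiv e h4
      convert h8 using 1
      ext w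
      constructor
      · rintro ⟨l, hl, hlw⟩
        exact ⟨⟨l, h3 hl⟩, hl, Subtype.ext hlw⟩
      · rintro ⟨l, hl, rfl⟩
        exact ⟨(l : G), hl, rfl⟩
    rcases Comp.component_eq_or_commute h2 h7 with h9 | h9
    · apply hne'
      have h10 := congrArg (Subgroup.map (centralizer ({y} : Set G)).subtype) h9
      rw [map_subgroupOf_eq_of_le h1, map_subgroupOf_eq_of_le h6] at h10
      exact h10.symm
    · refine hnc g hne' ?_
      have h10 := congrArg (Subgroup.map (centralizer ({y} : Set G)).subtype) h9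
      rwa [map_commutator, map_subgroupOf_eq_of_le h1, map_subgroupOf_eq_of_le h6, Subgroup.map_bot] at h10
  have hN : normalizer (centralizer (L : Set G) : Set G) ≤ normalizer (L : Set G) := by
    intro g hg
    rw [mem_normalizer_iff_map_conj_eq]
    refine hconj g x hx hxC ?_
    have h := (mem_normalizer_iff.1 (inv_mem hg) x).1 hxC
    simpa using h
  have hN2 : normalizer (L : Set G) ≤ normalizer (centralizer (L : Set G) : Set G) := by
    intro g hg
    have key : ∀ g ∈ normalizer (L : Set G), ∀ c ∈ centralizer (L : Set G), g * c * g⁻¹ ∈ centralizer (L : Set G) := by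
      intro g hg c hc
      refine mem_centralizer_iff.2 fun l hl => ?_
      have hl' : g⁻¹ * l * g ∈ L := by simpa using (mem_normalizer_iff.1 (inv_mem hg) l).1 hl
      have := mem_centralizer_iff.1 hc _ hl'
      calc l * (g * c * g⁻¹) = g * ((g⁻¹ * l * g) * c) * g⁻¹ := by group
        _ = g * (c * (g⁻¹ * l * g)) * g⁻¹ := by rw [this]
        _ = g * c * g⁻¹ * l := by group
    refine mem_normalizer_iff.2 fun c => ⟨key g hg c, fun hc => ?_⟩
    simpa [mul_assoc] using key g⁻¹ (inv_mem hg) _ hc
  refine ⟨Comp.isQuasisimple_of_equiv (subgroupOfEquivOfLe hLx) hL.2, ⟨?_, ?_⟩, hnc, le_antisymm hN2 hN⟩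
  · exact even_iff_two_dvd.2 (hx ▸ orderOf_dvd_natCard _ hxC)
  · intro g hg
    rw [← Nat.not_even_iff_odd, even_iff_two_dvd]
    intro h2d
    obtain ⟨⟨y, hy1, hy2⟩, hy⟩ := exists_prime_orderOf_dvd_card' 2 h2d
    obtain ⟨c, hc, hcy⟩ := hy2
    apply hg
    refine hN2 (mem_normalizer_iff_map_conj_eq.2 (hconj g y (by rw [← hy]; exact orderOf_coe ⟨y, _⟩) hy1 ?_))
    rw [← hcy]
    simpa [mul_assoc] using hc

end Cfsg.Agent.S1306
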