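import Cfsg.Statements.S1313
import Cfsg.Agent.Comp.Fitting
import Mathlib.GroupTheory.Perm.Basic
import Mathlib.Data.Fintype.Perm
-- import your own Cfsg.Agent.* helpers here

set_option autoImplicit false
open Cfsg

namespace Cfsg.Agent.S1313

/-- For a finite group H, |H| ≤ |F*(H)|!. -/
theorem result {H : Type*} [Group H] [Finite H] : Nat.card H ≤ Nat.factorial (Nat.card ↥(Cfsg.generalizedFittingSubgroup H)) := by
  open CfsgLib Subgroup in
  classical
  set F := Cfsg.generalizedFittingSubgroup H
  haveI : F.Normal := by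
    show (Cfsg.generalizedFittingSubgroup H).Normal
    rw [Cfsg.generalizedFittingSubgroup, Comp.fitting_eq_iSup_pCore]; infer_instance
  let act : H →* Equiv.Perm {x : F // x ≠ 1} :=
    MonoidHom.mk' (fun h => (MulAut.conjNormal (H := F) h).toEquiv.subtypeEquiv (fun x => by simp))
      (fun a b => Equiv.ext fun x => Subtype.ext (by simp))
  have hk : act.ker ≤ centralizer (F : Set H) := by
    intro h hh
    refine mem_centralizer_iff.2 fun z hz => ?_
    by_cases hz1 : z = 1
    · simp [hz1]
    · have := congrArg (fun σ : Equiv.Perm {x : F // x ≠ 1} => ((σ ⟨⟨z, hz⟩, fun e => hz1 (congrArg Subtype.val e)⟩ : {x : F // x ≠ 1}) : F).1) (MonoidHom.mem_ker.1 hh)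
      simp [act] at this
      exact (mul_inv_eq_iff_eq_mul.1 this).symm
  have h1 : Nat.card act.ker ≤ Nat.card F :=
    Subgroup.card_le_of_le (hk.trans Comp.centralizer_Fstar_le)
  have h2 : Nat.card act.range ≤ Nat.factorial (Nat.card F - 1) := by
    refine (Nat.le_of_dvd Nat.card_pos (Subgroup.card_subgroup_dvd_card _)).trans ?_
    haveI := Fintype.ofFinite F
    rw [Nat.card_perm, Nat.card_eq_fintype_card, Fintype.card_subtype_compl, Fintype.card_subtype_eq,
      Nat.card_eq_fintype_card]
  have h3 : Nat.card H = Nat.card act.range * Nat.card act.ker := by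
    rw [← index_ker, mul_comm, card_mul_index]
  calc Nat.card H = Nat.card act.range * Nat.card act.ker := h3
    _ ≤ Nat.factorial (Nat.card F - 1) * Nat.card F := Nat.mul_le_mul h2 h1
    _ = Nat.factorial (Nat.card F) := by
      have hpos : 0 < Nat.card F := Nat.card_pos
      obtain ⟨m, hm⟩ : ∃ m, Nat.card F = m + 1 := ⟨Nat.card F - 1, by omega⟩
      rw [hm, Nat.add_sub_cancel, Nat.factorial_succ, mul_comm]

end Cfsg.Agent.S1313
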