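import Cfsg.Statements.S1314
import Cfsg.Agent.Comp.Basic
-- import your own Cfsg.Agent.* helpers here

set_option autoImplicit false
open Cfsg

namespace Cfsg.Agent.S1314

/-- Let x be an involution of a group G and L a perfect subgroup with ⁅L, x L x⁻¹⁆ = 1. Then l ↦ l (x l x⁻¹) is a group homomorphism π from L to G whose kernel is central in L and whose image lies in C_G(x); and the commutator subgroup of C_{L ⊔ xLx⁻¹}(x) equals the image of π. -/
theorem result {G : Type*} [Group G] [Finite G] (x : G) (hx : orderOf x = 2) (L : Subgroup G) (hperf : ⁅L, L⁆ = L) (hcomm : ⁅L, L.map (MulAut.conj x).toMonoidHom⁆ = ⊥) : ∃ π : ↥L →* G, (∀ l : ↥L, π l = (l : G) * (x * (l : G) * x⁻¹)) ∧ π.ker ≤ Subgroup.center ↥L ∧ π.range ≤ Subgroup.centralizer ({x} : Set G) ∧ ⁅(L ⊔ L.map (MulAut.conj x).toMonoidHom) ⊓ Subgroup.centralizer ({x} : Set G), (L ⊔ L.map (MulAut.conj x).toMonoidHom) ⊓ Subgroup.centralizer ({x} : Set G)⁆ = π.range := by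
  open CfsgLib Subgroup commutatorElement in
  set L' := L.map (MulAut.conj x).toMonoidHom
  have hx2 : x * x = 1 := by rw [← pow_two, ← hx, pow_orderOf_eq_one]
  have hxi : x⁻¹ = x := inv_eq_of_mul_eq_one_right hx2
  set σ := (MulAut.conj x).toMonoidHom
  have hσσ : ∀ g, σ (σ g) = g := fun g => by
    show x * (x * g * x⁻¹) * x⁻¹ = g
    rw [hxi, show x * (x * g * x) * x = (x * x) * g * (x * x) by simp only [mul_assoc], hx2, one_mul, mul_one]
  have hc : ∀ a ∈ L, ∀ b ∈ L', a * b = b * a := fun a ha b hb =>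
    (mem_centralizer_iff.1 (Comp.le_centralizer_of_commutator_eq_bot hcomm ha) b hb).symm
  let π : L →* G := MonoidHom.mk' (fun l => (l : G) * σ l) (fun a b => by
    have := hc b b.2 (σ a) ⟨a, a.2, rfl⟩
    rw [Subgroup.coe_mul, map_mul]
    calc (a : G) * b * (σ a * σ b) = a * ((b : G) * σ a) * σ b := by group
      _ = a * (σ a * b) * σ b := by rw [this]
      _ = a * σ a * (b * σ b) := by group)
  have hcentral : ∀ c ∈ L, c ∈ L' → ∀ d ∈ L ⊔ L', c * d = d * c := by
    intro c hcL hcL' d hd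
    have hle : L ⊔ L' ≤ centralizer {c} := sup_le
      (fun a ha => mem_centralizer_singleton_iff.2 (hc a ha c hcL'))
      (fun b hb => mem_centralizer_singleton_iff.2 (hc c hcL b hb).symm)
    exact (mem_centralizer_singleton_iff.1 (hle hd)).symm
  have hrange : π.range ≤ centralizer ({x} : Set G) := by
    rintro _ ⟨l, rfl⟩
    refine mem_centralizer_singleton_iff.2 ?_
    have h1 : σ (π l) = π l := by
      show σ ((l : G) * σ l) = (l : G) * σ l
      rw [map_mul, hσσ]
      exact (hc l l.2 (σ l) ⟨l, l.2, rfl⟩).symm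
    exact (mul_inv_eq_iff_eq_mul.1 h1).symm
  refine ⟨π, fun l => rfl, ?_, hrange, le_antisymm ?_ ?_⟩
  · intro l hl
    have h1 : (l : G) = (σ l)⁻¹ := eq_inv_of_mul_eq_one_left (MonoidHom.mem_ker.1 hl)
    have h2 : (l : G) ∈ L' := h1 ▸ inv_mem ⟨l, l.2, rfl⟩
    exact mem_center_iff.2 fun y => Subtype.ext (hcentral l l.2 h2 y (mem_sup_left y.2)).symm
  · rw [commutator_le]
    -- each element is an element of the range times a central one
    have hdec : ∀ d ∈ (L ⊔ L') ⊓ centralizer ({x} : Set G), ∃ r ∈ π.range, ∃ c ∈ L, c ∈ L' ∧ d = r * c := by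
      intro d hd
      have hn : L ≤ normalizer (L' : Set G) :=
        le_trans (show L ≤ centralizer (L' : Set G) from fun a ha => mem_centralizer_iff.2 fun b hb => (hc a ha b hb).symm) (centralizer_le_normalizer _)
      have hd1 : d ∈ ((L ⊔ L' : Subgroup G) : Set G) := hd.1
      rw [coe_mul_of_left_le_normalizer_right _ _ hn] at hd1
      obtain ⟨l, hl, _, ⟨m, hm, rfl⟩, rfl⟩ := hd1
      have hfix : σ (l * σ m) = l * σ m := by
        show x * (l * σ m) * x⁻¹ = _
        rw [← mem_centralizer_singleton_iff.1 hd.2, mul_inv_cancel_right]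
      rw [map_mul, hσσ, ← hc m hm (σ l) ⟨l, hl, rfl⟩] at hfix
      refine ⟨π ⟨m, hm⟩, ⟨_, rfl⟩, m⁻¹ * l, mul_mem (inv_mem hm) hl, ?_, ?_⟩
      · have : m⁻¹ * l = σ l * (σ m)⁻¹ := by
          calc m⁻¹ * l = m⁻¹ * (l * σ m) * (σ m)⁻¹ := by group
            _ = m⁻¹ * (m * σ l) * (σ m)⁻¹ := by rw [hfix]
            _ = σ l * (σ m)⁻¹ := by group
        rw [this]
        exact mul_mem ⟨l, hl, rfl⟩ (inv_mem ⟨m, hm, rfl⟩)
      · show l * σ m = m * σ m * (m⁻¹ * l)
        rw [mul_assoc m, ← hc (m⁻¹ * l) (mul_mem (inv_mem hm) hl) (σ m) ⟨m, hm, rfl⟩]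
        group
    intro a ha b hb
    obtain ⟨r, hr, c, hcL, hcL', rfl⟩ := hdec a ha
    obtain ⟨s, hs, e, heL, heL', rfl⟩ := hdec b hb
    have hrl : ∀ r ∈ π.range, r ∈ L ⊔ L' := by
      rintro _ ⟨l, rfl⟩
      exact mul_mem (mem_sup_left l.2) (mem_sup_right ⟨l, l.2, rfl⟩)
    have h1 : Commute c s := hcentral c hcL hcL' s (hrl s hs)
    have h2 : Commute c e := hcentral c hcL hcL' e (mem_sup_left heL)
    have h3 : Commute e r := hcentral e heL heL' r (hrl r hr)
    have h4 : ⁅r * c, s * e⁆ = ⁅r, s⁆ := by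
      have hce : Commute c (s * e) := h1.mul_right h2
      rw [commutatorElement_mul_left_eq_conj_mul, commutatorElement_eq_one_iff_mul_comm.2 hce.eq, mul_one, mul_inv_cancel,
        one_mul, commutatorElement_def, commutatorElement_def]
      calc r * (s * e) * r⁻¹ * (s * e)⁻¹ = r * s * (e * r⁻¹) * e⁻¹ * s⁻¹ := by group
        _ = r * s * (r⁻¹ * e) * e⁻¹ * s⁻¹ := by rw [h3.inv_right.eq]
        _ = r * s * r⁻¹ * s⁻¹ := by group
    rw [h4, commutatorElement_def]
    exact mul_mem (mul_mem (mul_mem hr hs) (inv_mem hr)) (inv_mem hs)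
  · have hp : π.range = ⁅π.range, π.range⁆ := by
      have ht : π.range = (⊤ : Subgroup L).map π := MonoidHom.range_eq_map π
      rw [ht, ← map_commutator]
      congr 1
      apply map_injective L.subtype_injective
      rw [map_commutator, ← MonoidHom.range_eq_map, range_subtype, hperf]
    have hle : π.range ≤ (L ⊔ L') ⊓ centralizer ({x} : Set G) := by
      refine le_inf ?_ hrange
      rintro _ ⟨l, rfl⟩
      exact mul_mem (mem_sup_left l.2) (mem_sup_right ⟨l, l.2, rfl⟩)
    rw [hp]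
    exact commutator_mono hle hle

end Cfsg.Agent.S1314
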