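import Cfsg.Statements.S1315
import Cfsg.Agent.TwinComp.ExchangeG
import Cfsg.Agent.TwinComp.Models

set_option autoImplicit false
set_option linter.style.haveILetI false
open Cfsg

namespace Cfsg.Agent.S1315

open CfsgLib CfsgLib.TwinComp

/-- The image of a `2`-component in the quotient by the odd core. -/
theorem exists_img_equiv {G : Type*} [Group G] [Finite G] {J : Subgroup G} {z : G} (hJ : J ≤ Cz z)
    (hp : Cfsg.IsPComponent 2 (J.subgroupOf (Cz z))) :
    Nonempty (↥(img J z) ≃* ↥J ⧸ Cfsg.oddCore ↥J) := by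
  haveI : Fact (Nat.Prime 2) := ⟨Nat.prime_two⟩
  set K := J.subgroupOf (Cz z)
  have hker : (MonoidHom.subgroupMap (mk z) K).ker = Cfsg.pPrimeCore 2 K := by
    apply Subgroup.map_injective K.subtype_injective
    rw [PComp.pPrimeCore_eq_inf 2 hp.1]
    ext x
    constructor
    · rintro ⟨y, hy, rfl⟩
      exact ⟨(QuotientGroup.eq_one_iff _).1 (congrArg Subtype.val (MonoidHom.mem_ker.1 hy)), y.2⟩
    · rintro ⟨h1, h2⟩
      exact ⟨⟨x, h2⟩, MonoidHom.mem_ker.2 (Subtype.ext ((QuotientGroup.eq_one_iff _).2 h1)), rfl⟩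
  exact ⟨((QuotientGroup.quotientMulEquivOfEq hker.symm).trans
    (QuotientGroup.quotientKerEquivOfSurjective _ (MonoidHom.subgroupMap_surjective (mk z) K))).symm.trans
    (QuotientGroup.congr _ _ (Subgroup.subgroupOfEquivOfLe hJ) (map_oddCore _))⟩

/-- The properties of one side. -/
theorem side' {G : Type*} [Group G] [Finite G] {J : Subgroup G} {z : G}
    (hzJ : z ∈ J ∧ orderOf z = 2 ∧ ∀ t ∈ J, orderOf t = 2 → t = z) (hJ : J ≤ Cz z)
    (hp : Cfsg.IsPComponent 2 (J.subgroupOf (Cz z))) {S : Type*} [Group S]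
    (hc : Nat.card (Subgroup.center (↥J ⧸ Cfsg.oddCore ↥J)) = 2)
    (eS : (↥J ⧸ Cfsg.oddCore ↥J) ⧸ Subgroup.center (↥J ⧸ Cfsg.oddCore ↥J) ≃* S) (hfour : FourProp S)
    (haut : IsSimpleGroup S → Nat.card (MulAut S) < Nat.card S * Nat.card S) :
    Leg (img J z) (mk z (zel z)) ∧ Nat.card (img J z) = 2 * Nat.card S ∧
      4 * Nat.card (MulAut ↥(img J z)) < Nat.card (img J z) * Nat.card (img J z) := by
  obtain ⟨E⟩ := exists_img_equiv hJ hp
  obtain ⟨hz1, hz2, hz3⟩ := hzJ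
  have hzz : z * z = 1 := by rw [← pow_two, ← hz2, pow_orderOf_eq_one]
  have hmem : mk z (zel z) ∈ img J z := ⟨zel z, hz1, rfl⟩
  have htwo : IsTwoElem (zel z) := IsTwoElem.of_sq (Subtype.ext hzz)
  have hne : mk z (zel z) ≠ 1 := fun h => by
    have := eq_one_of_two_of_mem odd_card_core ((QuotientGroup.eq_one_iff _).1 h) htwo
    have h1 : z = 1 := congrArg Subtype.val this
    rw [h1, orderOf_one] at hz2
    omega
  have hinv : ∀ a ∈ img J z, a * a = 1 → a = 1 ∨ a = mk z (zel z) := by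
    rintro _ ⟨a, ha, rfl⟩ h
    obtain ⟨m, hm, ha2⟩ := exists_two_part a
    have he : mk z (a ^ m) = mk z a := by
      obtain ⟨j, rfl⟩ := hm
      rw [map_pow, pow_succ, pow_mul, pow_two, h, one_pow, one_mul]
    have hsq : a ^ m * a ^ m = 1 := by
      refine eq_one_of_two_of_mem odd_card_core ?_ (ha2.mul ha2 (Commute.refl _))
      exact (QuotientGroup.eq_one_iff _).1 (show mk z (a ^ m * a ^ m) = 1 by rw [map_mul, he, h])
    by_cases h1 : a ^ m = 1
    · exact Or.inl (by rw [← he, h1, map_one])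
    · refine Or.inr (he ▸ congrArg (mk z) (Subtype.ext (hz3 _ (pow_mem ha m) ?_)))
      refine orderOf_eq_prime ?_ (fun e => h1 (Subtype.ext e))
      rw [pow_two]
      exact congrArg Subtype.val hsq
  have hcen : ∀ x, Commute (mk z (zel z)) x := fun x => by
    obtain ⟨x, rfl⟩ := QuotientGroup.mk'_surjective _ x
    exact (show Commute (zel z) x from Subtype.ext (mem_Cz.1 x.2).eq.symm).map (mk z)
  let e : ↥(img J z) ≃* ↥J ⧸ Cfsg.oddCore ↥J := E
  let eA : ↥(img J z) ⧸ Subgroup.center ↥(img J z) ≃* S :=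
    (QuotientGroup.congr _ _ e (center_quot_equiv e)).trans eS
  have hc' : Nat.card (Subgroup.center ↥(img J z)) = 2 :=
    (Nat.card_congr (Subgroup.centerCongr e).toEquiv).trans hc
  have hleg := leg_of_cover hp.2.1 hmem hne (by rw [← map_mul, show zel z * zel z = 1 from Subtype.ext hzz, map_one])
    hcen hinv hc' eA hfour
  have h3 : Nat.card (img J z) = 2 * Nat.card S := by
    rw [Subgroup.card_eq_card_quotient_mul_card_subgroup (Subgroup.center ↥(img J z)), hc',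
      Nat.card_congr eA.toEquiv, mul_comm]
  refine ⟨hleg, h3, ?_⟩
  have h1 := card_aut_le hleg eA
  haveI : IsSimpleGroup (↥(img J z) ⧸ Subgroup.center ↥(img J z)) := hleg.comp.2.2
  have h2 := haut eA.symm.isSimpleGroup
  rw [h3]
  nlinarith

/-- Both sides of type `2A₇`. -/
theorem side_alt {G : Type*} [Group G] [Finite G] {J K : Subgroup G} {zJ zK : G}
    (hzJ : zJ ∈ J ∧ orderOf zJ = 2 ∧ ∀ t ∈ J, orderOf t = 2 → t = zJ) (hJ : J ≤ Cz zJ)
    (hpJ : Cfsg.IsPComponent 2 (J.subgroupOf (Cz zJ)))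
    (hzK : zK ∈ K ∧ orderOf zK = 2 ∧ ∀ t ∈ K, orderOf t = 2 → t = zK) (hK : K ≤ Cz zK)
    (hpK : Cfsg.IsPComponent 2 (K.subgroupOf (Cz zK)))
    (hcJ : Nat.card (Subgroup.center (↥J ⧸ Cfsg.oddCore ↥J)) = 2)
    (eJ : (↥J ⧸ Cfsg.oddCore ↥J) ⧸ Subgroup.center (↥J ⧸ Cfsg.oddCore ↥J) ≃* ↥(alternatingGroup (Fin 7)))
    (hcK : Nat.card (Subgroup.center (↥K ⧸ Cfsg.oddCore ↥K)) = 2)
    (eK : (↥K ⧸ Cfsg.oddCore ↥K) ⧸ Subgroup.center (↥K ⧸ Cfsg.oddCore ↥K) ≃* ↥(alternatingGroup (Fin 7))) :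
    Leg (img J zJ) (mk zJ (zel zJ)) ∧ Leg (img K zK) (mk zK (zel zK)) ∧
      Nat.card (img J zJ) = Nat.card (img K zK) ∧
      4 * Nat.card (MulAut ↥(img J zJ)) < Nat.card (img J zJ) * Nat.card (img J zJ) ∧
      4 * Nat.card (MulAut ↥(img K zK)) < Nat.card (img K zK) * Nat.card (img K zK) := by
  obtain ⟨a1, a2, a3⟩ := side' hzJ hJ hpJ hcJ eJ fourProp_alt_seven (fun _ => aut_alt_seven_lt)
  obtain ⟨b1, b2, b3⟩ := side' hzK hK hpK hcK eK fourProp_alt_seven (fun _ => aut_alt_seven_lt)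
  exact ⟨a1, b1, a2.trans b2.symm, a3, b3⟩

/-- Back from the image to the group. -/
theorem normalizer_back {G : Type*} [Group G] [Finite G] {J : Subgroup G} {z g : G} (hJ : J ≤ Cz z)
    (hp : Cfsg.IsPComponent 2 (J.subgroupOf (Cz z))) (hg : g ∈ Cz z)
    (h : mk z ⟨g, hg⟩ ∈ Subgroup.normalizer ((img J z : Subgroup _) : Set (↥(Cz z) ⧸ Cfsg.oddCore ↥(Cz z)))) :
    g ∈ Subgroup.normalizer (J : Set G) := by
  haveI : Fact (Nat.Prime 2) := ⟨Nat.prime_two⟩
  have h' : (⟨g, hg⟩ : ↥(Cz z)) ∈ Subgroup.normalizer ((J.subgroupOf (Cz z) : Subgroup _) : Set ↥(Cz z)) :=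
    PComp.normalizer_map_le 2 hp h
  refine Subgroup.mem_normalizer_fintype fun a ha => ?_
  exact (Subgroup.mem_normalizer_iff.1 h' ⟨a, hJ ha⟩).1 ha

end Cfsg.Agent.S1315

namespace Cfsg.Agent.S1315

/-- Let G be finite and J ≠ K subgroups, each containing exactly one involution, z(J) resp. z(K), each a 2-component of the centralizer of its involution, with J / O(J) and K / O(K) both isomorphic to SL(2, F) for one finite field F of odd order, or both non-split double covers of A7. Then (i) every 2-element of K of order at least 4 centralizing z(J) normalizes J; (ii) if z(J) normalizes K then z(K) normalizes J. -/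
theorem result {G : Type*} [Group G] [Finite G] (J K : Subgroup G) (hJK : J ≠ K) (zJ zK : G) (hzJ : zJ ∈ J ∧ orderOf zJ = 2 ∧ ∀ t ∈ J, orderOf t = 2 → t = zJ) (hzK : zK ∈ K ∧ orderOf zK = 2 ∧ ∀ t ∈ K, orderOf t = 2 → t = zK) (hJ : J ≤ Subgroup.centralizer ({zJ} : Set G) ∧ Cfsg.IsPComponent 2 (J.subgroupOf (Subgroup.centralizer ({zJ} : Set G)))) (hK : K ≤ Subgroup.centralizer ({zK} : Set G) ∧ Cfsg.IsPComponent 2 (K.subgroupOf (Subgroup.centralizer ({zK} : Set G)))) (htype : (∃ (F : Type) (_ : Field F) (_ : Fintype F), Odd (Fintype.card F) ∧ Nonempty (↥J ⧸ Cfsg.oddCore ↥J ≃* Matrix.SpecialLinearGroup (Fin 2) F) ∧ Nonempty (↥K ⧸ Cfsg.oddCore ↥K ≃* Matrix.SpecialLinearGroup (Fin 2) F)) ∨ (Cfsg.IsNonsplitDoubleCover (↥J ⧸ Cfsg.oddCore ↥J) ↥(alternatingGroup (Fin 7)) ∧ Cfsg.IsNonsplitDoubleCover (↥K ⧸ Cfsg.oddCore ↥K) ↥(alternatingGroup (Fin 7)))) : (∀ y ∈ K, IsPGroup 2 ↥(Subgroup.zpowers y) → 4 ≤ orderOf y → y * zJ = zJ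 * y → y ∈ Subgroup.normalizer (J : Set G)) ∧ (zJ ∈ Subgroup.normalizer (K : Set G) → zK ∈ Subgroup.normalizer (J : Set G)) := by
  classical
  haveI : Fact (Nat.Prime 2) := ⟨Nat.prime_two⟩
  obtain ⟨legJ, legK, hcard, hautJ, hautK⟩ :
      CfsgLib.TwinComp.Leg (CfsgLib.TwinComp.img J zJ) (CfsgLib.TwinComp.mk zJ (CfsgLib.TwinComp.zel zJ)) ∧
      CfsgLib.TwinComp.Leg (CfsgLib.TwinComp.img K zK) (CfsgLib.TwinComp.mk zK (CfsgLib.TwinComp.zel zK)) ∧
      Nat.card (CfsgLib.TwinComp.img J zJ) = Nat.card (CfsgLib.TwinComp.img K zK) ∧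
      4 * Nat.card (MulAut ↥(CfsgLib.TwinComp.img J zJ)) <
        Nat.card (CfsgLib.TwinComp.img J zJ) * Nat.card (CfsgLib.TwinComp.img J zJ) ∧
      4 * Nat.card (MulAut ↥(CfsgLib.TwinComp.img K zK)) <
        Nat.card (CfsgLib.TwinComp.img K zK) * Nat.card (CfsgLib.TwinComp.img K zK) := by
    rcases htype with ⟨F, _, _, hodd, ⟨eJ⟩, ⟨eK⟩⟩ | ⟨⟨hcJ, ⟨eJ⟩, -⟩, ⟨hcK, ⟨eK⟩, -⟩⟩
    · have hc : Nat.card (Subgroup.center (Matrix.SpecialLinearGroup (Fin 2) F)) = 2 := by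
        rw [CfsgLib.Linear.card_center_SL, Fintype.card_fin, Nat.card_eq_fintype_card (α := F)]
        obtain ⟨k, hk⟩ := hodd
        exact Nat.gcd_eq_left (by omega)
      have ha : IsSimpleGroup (CfsgLib.Linear.SmallSub.P2 F) →
          Nat.card (MulAut (CfsgLib.Linear.SmallSub.P2 F)) <
            Nat.card (CfsgLib.Linear.SmallSub.P2 F) * Nat.card (CfsgLib.Linear.SmallSub.P2 F) :=
        fun h => CfsgLib.TwinComp.aut_psl_lt F hodd (CfsgLib.TwinComp.card_ne_three F h hodd)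
      have h4 := CfsgLib.TwinComp.fourProp_psl F hodd
      obtain ⟨a1, a2, a3⟩ := side' (S := CfsgLib.Linear.SmallSub.P2 F) hzJ hJ.1 hJ.2
        ((Nat.card_congr (Subgroup.centerCongr eJ).toEquiv).trans hc)
        (QuotientGroup.congr _ _ eJ (CfsgLib.TwinComp.center_quot_equiv eJ)) h4 ha
      obtain ⟨b1, b2, b3⟩ := side' (S := CfsgLib.Linear.SmallSub.P2 F) hzK hK.1 hK.2
        ((Nat.card_congr (Subgroup.centerCongr eK).toEquiv).trans hc)
        (QuotientGroup.congr _ _ eK (CfsgLib.TwinComp.center_quot_equiv eK)) h4 ha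
      exact ⟨a1, b1, a2.trans b2.symm, a3, b3⟩
    · exact side_alt hzJ hJ.1 hJ.2 hzK hK.1 hK.2 hcJ eJ hcK eK
  have hz2 : zJ * zJ = 1 := by rw [← pow_two, ← hzJ.2.1, pow_orderOf_eq_one]
  have ht2 : zK * zK = 1 := by rw [← pow_two, ← hzK.2.1, pow_orderOf_eq_one]
  refine ⟨fun y hy hp2 h4 hyz => ?_, fun hN => ?_⟩
  · have hyz' : y ∈ CfsgLib.TwinComp.Cz zJ := CfsgLib.TwinComp.mem_Cz.2 hyz
    by_cases heq : zJ = zK
    · subst heq
      have hne : J.subgroupOf (CfsgLib.TwinComp.Cz zJ) ≠ K.subgroupOf (CfsgLib.TwinComp.Cz zJ) := fun h => by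
        apply hJK
        rw [← Subgroup.map_subgroupOf_eq_of_le hJ.1, ← Subgroup.map_subgroupOf_eq_of_le hK.1]
        exact congrArg (Subgroup.map (CfsgLib.TwinComp.Cz zJ).subtype) h
      have h' : (⟨y, hyz'⟩ : ↥(CfsgLib.TwinComp.Cz zJ)) ∈
          Subgroup.normalizer ((J.subgroupOf (CfsgLib.TwinComp.Cz zJ) : Subgroup _) : Set _) :=
        CfsgLib.PComp.pLayer_le_normalizer 2 hJ.2 (CfsgLib.PComp.pComponent_le_pLayer 2 hK.2 hy)
      refine Subgroup.mem_normalizer_fintype fun a ha => ?_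
      exact (Subgroup.mem_normalizer_iff.1 h' ⟨a, hJ.1 ha⟩).1 ha
    · have h2 : CfsgLib.TwinComp.IsTwoElem y := by
        obtain ⟨k, hk⟩ := hp2 ⟨y, Subgroup.mem_zpowers y⟩
        exact ⟨k, congrArg Subtype.val hk⟩
      have hsq : y * y ≠ 1 := fun e => by
        have := Nat.le_of_dvd (by omega) (orderOf_dvd_of_pow_eq_one ((pow_two y).trans e))
        omega
      obtain ⟨k, hk⟩ := h2
      obtain ⟨n, -, hn⟩ := (Nat.dvd_prime_pow Nat.prime_two).1 (orderOf_dvd_of_pow_eq_one hk)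
      have hn1 : 1 ≤ n := by
        rcases Nat.eq_zero_or_pos n with e | e
        · rw [e, pow_zero] at hn; omega
        · exact e
      have hpow : y ^ 2 ^ (n - 1) = zK := by
        refine hzK.2.2 _ (pow_mem hy _) (orderOf_eq_prime ?_ fun e => ?_)
        · rw [← pow_mul, ← pow_succ, Nat.sub_add_cancel hn1, ← hn, pow_orderOf_eq_one]
        · have h5 := Nat.le_of_dvd (by positivity) (orderOf_dvd_of_pow_eq_one e)
          rw [hn] at h5
          exact absurd h5 (not_le.2 (Nat.pow_lt_pow_right (by norm_num) (by omega)))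
      have hc : Commute zJ zK := hpow ▸ (Commute.symm hyz).pow_right _
      exact normalizer_back hJ.1 hJ.2 hyz' (CfsgLib.TwinComp.fixes_img legJ legK hz2 ht2 heq hc hcard hy
        (hK.1 hy) hyz' ⟨k, hk⟩ hsq)
  · by_cases heq : zJ = zK
    · rw [← heq]
      exact Subgroup.le_normalizer hzJ.1
    have hc : Commute zJ zK := by
      refine mul_inv_eq_iff_eq_mul.1 (hzK.2.2 _ ((Subgroup.mem_normalizer_iff.1 hN zK).1 hzK.1) ?_)
      rw [← hzK.2.1]
      exact MulEquiv.orderOf_eq (MulAut.conj zJ) zK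
    have hmemt : zJ ∈ CfsgLib.TwinComp.Cz zK := CfsgLib.TwinComp.mem_Cz.2 hc
    have h0 : (⟨zJ, hmemt⟩ : ↥(CfsgLib.TwinComp.Cz zK)) ∈
        Subgroup.normalizer ((K.subgroupOf (CfsgLib.TwinComp.Cz zK) : Subgroup _) : Set _) :=
      Subgroup.mem_normalizer_iff.2 fun a => Subgroup.mem_normalizer_iff.1 hN (a : G)
    exact normalizer_back hJ.1 hJ.2 (CfsgLib.TwinComp.mem_Cz.2 hc.symm)
      (CfsgLib.TwinComp.exchange legJ legK hz2 ht2 heq hc hcard hautJ hautK
        (Subgroup.le_normalizer_map (CfsgLib.TwinComp.mk zK) (Subgroup.mem_map_of_mem _ h0)))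

end Cfsg.Agent.S1315
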