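import Cfsg.Statements.S1318
import Cfsg.Agent.Comp.Layer
import Cfsg.Agent.Comp.Fitting
-- import your own Cfsg.Agent.* helpers here

set_option autoImplicit false
open Cfsg

namespace Cfsg.Agent.S1318

/-- Let X be finite and S ≤ F*(X) a subgroup subnormal in F*(X). Then F(S) = F(X) ∩ S (inside X) and S = F(S)E(S). -/
theorem result {X : Type*} [Group X] [Finite X] (S : Subgroup X) (hS : S ≤ Cfsg.generalizedFittingSubgroup X) (hsn : (S.subgroupOf (Cfsg.generalizedFittingSubgroup X)).IsSubnormal) : (Cfsg.fittingSubgroup ↥S).map S.subtype = Cfsg.fittingSubgroup X ⊓ S ∧ Cfsg.fittingSubgroup ↥S ⊔ Cfsg.layer ↥S = ⊤ := by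
  open CfsgLib Subgroup in
  set Y := Cfsg.generalizedFittingSubgroup X with hY
  haveI hYn : Y.Normal := by rw [hY, Cfsg.generalizedFittingSubgroup, Comp.fitting_eq_iSup_pCore]; infer_instance
  have hsn' : S.IsSubnormal := IsSubnormal.trans hS hsn (Normal.isSubnormal hYn)
  refine ⟨le_antisymm (le_inf (Comp.fitting_subgroupOf_le hsn') (map_subtype_le _)) ?_, ?_⟩
  · rw [← map_subgroupOf_eq_of_le (inf_le_right : Cfsg.fittingSubgroup X ⊓ S ≤ S)]
    refine map_mono (Comp.subnormal_nilpotent_le_fitting ?_ (Comp.isNilpotent_subgroupOf (Comp.isNilpotent_of_le inf_le_left Comp.fitting_isNilpotent)))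
    refine IsSubnormal.subgroupOf ?_
    exact IsSubnormal.inf (Normal.isSubnormal (by rw [Comp.fitting_eq_iSup_pCore]; infer_instance)) hsn'
  have hYY : Cfsg.generalizedFittingSubgroup Y = ⊤ := by
    apply map_injective Y.subtype_injective
    rw [← Comp.Fstar_inf_normal, ← MonoidHom.range_eq_map, range_subtype, inf_idem]
  suffices ∀ T : Subgroup Y, T.IsSubnormal → Cfsg.generalizedFittingSubgroup T = ⊤ by
    have h1 := this _ hsn
    rw [sup_comm]
    show Cfsg.generalizedFittingSubgroup ↥S = ⊤
    set e : S ≃* ↥(S.subgroupOf Y) := (subgroupOfEquivOfLe hS).symm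
    apply map_injective (f := e.toMonoidHom) e.injective
    rw [map_top_of_surjective _ e.surjective, ← h1, Cfsg.generalizedFittingSubgroup, Subgroup.map_sup,
      Comp.map_layer, Cfsg.generalizedFittingSubgroup]
    congr 1
    have key : ∀ {A B : Type _} [Group A] [Group B] [Finite A] [Finite B] (φ : A ≃* B),
        (Cfsg.fittingSubgroup A).map φ.toMonoidHom ≤ Cfsg.fittingSubgroup B := fun {A B} _ _ _ _ φ =>
      Comp.le_fitting (Subgroup.Normal.map (by rw [Comp.fitting_eq_iSup_pCore]; infer_instance) φ.toMonoidHom φ.surjective)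
        ((Group.isNilpotent_congr ((Cfsg.fittingSubgroup A).equivMapOfInjective φ.toMonoidHom φ.injective)).1 Comp.fitting_isNilpotent)
    refine le_antisymm (key e) ?_
    intro x hx
    exact ⟨e.symm x, key e.symm ⟨x, hx, rfl⟩, e.apply_symm_apply x⟩
  intro T hT
  induction hT with
  | top =>
    rw [eq_top_iff]
    intro x _
    have h2 := Comp.Fstar_inf_normal (G := Y) (⊤ : Subgroup Y)
    rw [hYY, top_inf_eq] at h2
    obtain ⟨y, hy, hyx⟩ := h2.le (mem_top (x : Y))
    rwa [← Subtype.ext hyx]
  | step A B hle hB hn ih =>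
    haveI := hn
    have h2 := Comp.Fstar_inf_normal (G := B) (A.subgroupOf B)
    rw [ih, top_inf_eq] at h2
    set e := subgroupOfEquivOfLe hle
    have h3 : Cfsg.generalizedFittingSubgroup ↥(A.subgroupOf B) = ⊤ := by
      apply map_injective (A.subgroupOf B).subtype_injective
      rw [← h2, ← MonoidHom.range_eq_map, range_subtype]
    have key : (Cfsg.generalizedFittingSubgroup ↥(A.subgroupOf B)).map e.toMonoidHom ≤ Cfsg.generalizedFittingSubgroup A := by
      rw [Cfsg.generalizedFittingSubgroup, Subgroup.map_sup, Comp.map_layer]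
      exact sup_le_sup_left (Comp.le_fitting (Subgroup.Normal.map (by rw [Comp.fitting_eq_iSup_pCore]; infer_instance) e.toMonoidHom e.surjective)
        ((Group.isNilpotent_congr ((Cfsg.fittingSubgroup ↥(A.subgroupOf B)).equivMapOfInjective e.toMonoidHom e.injective)).1 Comp.fitting_isNilpotent)) _
    rw [h3, map_top_of_surjective _ e.surjective] at key
    exact top_le_iff.1 key

end Cfsg.Agent.S1318
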