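import Cfsg.Statements.S1319
import Cfsg.Agent.Comp.Basic
-- import your own Cfsg.Agent.* helpers here

set_option autoImplicit false
open Cfsg

namespace Cfsg.Agent.S1319

/-- Let A be a subnormal subgroup of the finite group X with E(A) = A. Then A ≤ E(X) and A is normal in E(X). -/
theorem result {X : Type*} [Group X] [Finite X] (A : Subgroup X) (hsn : A.IsSubnormal) (hA : Cfsg.layer ↥A = ⊤) : A ≤ Cfsg.layer X ∧ (A.subgroupOf (Cfsg.layer X)).Normal := by
  open CfsgLib Subgroup in
  have hle : A ≤ Cfsg.layer X := by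
    calc A = (Cfsg.layer ↥A).map A.subtype := by rw [hA, ← MonoidHom.range_eq_map, range_subtype]
      _ ≤ Cfsg.layer X := Comp.layer_subgroupOf_le hsn
  refine ⟨hle, (normal_subgroupOf_iff_le_normalizer hle).2 ?_⟩
  intro g hg
  have key : ∀ g ∈ Cfsg.layer X, ∀ a ∈ A, g * a * g⁻¹ ∈ A := by
    intro g hg a ha
    have h : (⊤ : Subgroup A) ≤ (A.comap (MulAut.conj g).toMonoidHom).subgroupOf A := by
      rw [← hA]
      refine Comp.layer_le fun K hK x hx => ?_
      have hc := Comp.component_map_subtype hsn hK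
      have h1 := (mem_normalizer_iff.1 (Comp.layer_le_normalizer_component hc hg) (x : X)).1 ⟨x, hx, rfl⟩
      exact map_subtype_le K h1
    exact h (mem_top (⟨a, ha⟩ : A))
  refine mem_normalizer_iff.2 fun a => ⟨key g hg a, fun ha => ?_⟩
  simpa [mul_assoc] using key g⁻¹ (inv_mem hg) _ ha

end Cfsg.Agent.S1319
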