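import Cfsg.Statements.S1328
import Cfsg.Agent.Kinf.LocalBalance

set_option autoImplicit false
open Cfsg Subgroup CfsgLib

namespace Cfsg.Agent.S1328

/-- Let G be finite, H ≤ G with O(H) = 1, t an involution of G normalizing H, and Y a nontrivial subgroup of O(C_H(t)). Then some component E of H is normalized by t and by Y and centralized by neither t nor Y. -/
theorem result {G : Type*} [Group G] [Finite G] (H : Subgroup G) (hO : Cfsg.oddCore ↥H = ⊥) (t : G) (ht : orderOf t = 2) (htH : t ∈ Subgroup.normalizer (H : Set G)) (Y : Subgroup G) (hY1 : Y ≠ ⊥) (hY : Y ≤ (Cfsg.oddCore ↥(H ⊓ Subgroup.centralizer ({t} : Set G))).map (H ⊓ Subgroup.centralizer ({t} : Set G)).subtype) : ∃ E : Subgroup ↥H, Cfsg.IsComponent E ∧ (E.map H.subtype).map (MulAut.conj t).toMonoidHom = E.map H.subtype ∧ Y ≤ Subgroup.normalizer ((E.map H.subtype : Subgroup G) : Set G) ∧ ¬ (t ∈ Subgroup.centralizer ((E.map H.subtype : Subgroup G) : Set G)) ∧ ¬ (Y ≤ Subgroup.centralizer ((E.map H.subtype : Subgroup G) : Set G)) := by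
  have ht2 : t ^ 2 = 1 := ht ▸ pow_orderOf_eq_one t
  set X := H ⊔ zpowers t
  have hHX : H ≤ X := le_sup_left
  have htX : t ∈ X := mem_sup_right (mem_zpowers t)
  have hXN : X ≤ normalizer (H : Set G) := sup_le le_normalizer (zpowers_le.2 htH)
  set H' := H.subgroupOf X
  haveI hH'n : H'.Normal := (normal_subgroupOf_iff_le_normalizer hHX).2 hXN
  set V := H ⊓ centralizer ({t} : Set G)
  set t' : X := ⟨t, htX⟩
  have ht' : t' ^ 2 = 1 := Subtype.ext (by simpa [t'] using ht2)
  have hdec : ∀ c : X, ∃ h ∈ H, ∃ i : ℤ, (c : G) = h * t ^ i := fun c => by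
    have hc : (c : G) ∈ (↑(H ⊔ zpowers t) : Set G) := c.2
    rw [coe_mul_of_right_le_normalizer_left H (zpowers t) (zpowers_le.2 htH)] at hc
    obtain ⟨h, hh, u, hu, e⟩ := hc
    obtain ⟨i, rfl⟩ := mem_zpowers_iff.1 hu
    exact ⟨h, hh, i, e.symm⟩
  have hquot : ∀ c : X, c ^ 2 ∈ H' := fun c => by
    obtain ⟨h, hh, i, e⟩ := hdec c
    show ((c ^ 2 : X) : G) ∈ H
    rw [SubgroupClass.coe_pow, e, pow_two,
      show h * t ^ i * (h * t ^ i) = h * (t ^ i * h * (t ^ i)⁻¹) * (t ^ i * t ^ i) by group,
      ← zpow_add, show t ^ (i + i) = 1 by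
        rw [← two_mul, zpow_mul, show t ^ (2 : ℤ) = 1 by exact_mod_cast ht2, one_zpow], mul_one]
    exact mul_mem hh ((mem_normalizer_iff.1 (zpow_mem htH i) h).1 hh)
  have hOX : Cfsg.pPrimeCore 2 ↥X = ⊥ := by
    rw [eq_bot_iff_forall]
    intro n hn
    have hodd : (orderOf n).Coprime 2 :=
      (Solvable.coprime_card_pPrimeCore 2).coprime_dvd_left (orderOf_dvd_natCard _ hn)
    have h1 : n ^ 2 ∈ H' ⊓ Cfsg.pPrimeCore 2 ↥X := ⟨hquot n, pow_mem hn 2⟩
    have h2 : H' ⊓ Cfsg.pPrimeCore 2 ↥X = ⊥ := by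
      let e := (subgroupOfEquivOfLe hHX)
      have h3 : ((H' ⊓ Cfsg.pPrimeCore 2 ↥X).subgroupOf H') ≤ Cfsg.pPrimeCore 2 ↥H' :=
        Solvable.le_pPrimeCore 2 inferInstance ((Solvable.coprime_card_pPrimeCore (G := ↥X) 2).coprime_dvd_left
          (by rw [Nat.card_congr (subgroupOfEquivOfLe inf_le_left).toEquiv]
              exact card_dvd_of_le inf_le_right))
      have h4 : Cfsg.pPrimeCore 2 ↥H' = ⊥ := by
        rw [eq_bot_iff_forall]
        intro z hz
        refine e.injective (mem_bot.1 ?_ |>.trans (map_one e).symm)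
        rw [← hO]
        exact Solvable.le_pPrimeCore 2 (Subgroup.Normal.map inferInstance _ e.surjective)
          ((Solvable.coprime_card_pPrimeCore (G := ↥H') 2).coprime_dvd_left (card_map_dvd _ e.toMonoidHom))
          ⟨z, hz, rfl⟩
      rw [h4, le_bot_iff, subgroupOf_eq_bot] at h3
      exact h3.eq_bot_of_le inf_le_left
    rw [h2, mem_bot] at h1
    exact orderOf_eq_one_iff.1 (Nat.eq_one_of_dvd_coprimes hodd dvd_rfl (orderOf_dvd_of_pow_eq_one h1))
  have hR : IsPGroup 2 (zpowers t') := LocalBalance.isPGroup_zpowers (k := 1) (by simpa using ht')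
  have hYcore : ∀ y ∈ Y, ∃ y' : X, (y' : G) = y ∧
      y' ∈ LocalBalance.core 2 (centralizer ((zpowers t' : Subgroup X) : Set X)) := by
    intro y hy
    have hyO := hY hy
    have hyV : y ∈ V := LocalBalance.core_le V hyO
    refine ⟨⟨y, hHX hyV.1⟩, rfl, LocalBalance.le_core (N := (LocalBalance.core 2 V).subgroupOf X)
      ?_ ?_ ?_ hyO⟩
    · intro c hc
      rw [LocalBalance.centralizer_zpowers_eq, mem_centralizer_singleton_iff]
      exact Subtype.ext (mem_centralizer_singleton_iff.1 (LocalBalance.core_le V hc).2)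
    · intro c hc
      rw [LocalBalance.centralizer_zpowers_eq, mem_centralizer_singleton_iff] at hc
      have h1 : (c : G) ∈ normalizer (LocalBalance.core 2 V : Set G) :=
        LocalBalance.normalizer_le_normalizer_core V (inf_normalizer_le_normalizer_inf
          (mem_inf.2 ⟨hXN c.2,
            le_normalizer (mem_centralizer_singleton_iff.2 (congrArg Subtype.val hc))⟩))
      refine mem_normalizer_iff.2 fun v => ?_
      simpa [mem_subgroupOf] using mem_normalizer_iff.1 h1 (v : G)
    · refine (LocalBalance.coprime_core V).coprime_dvd_left ?_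
      rw [← card_map_of_injective X.subtype_injective, subgroupOf_map_subtype]
      exact card_dvd_of_le inf_le_left
  by_contra hcon
  apply hY1
  rw [eq_bot_iff_forall]
  intro y hy
  obtain ⟨y', hy', hyc⟩ := hYcore y hy
  have hy1 : y' = 1 := by
    refine LocalBalance.eq_one_of_centralizes hOX
      ((LocalBalance.coprime_core _).coprime_dvd_left (orderOf_dvd_natCard _ hyc))
      (LocalBalance.core_centralizer_le_U hR hyc).2 fun K hK => ?_
    by_cases htK : t' ∈ normalizer (K : Set X)
    swap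
    · exact LocalBalance.core_centralizer_le_centralizer_of_moved hOX ht' hK htK hyc
    by_cases hfix : K ≤ centralizer ((zpowers t' : Subgroup X) : Set X)
    · exact LocalBalance.core_centralizer_le_centralizer hOX hR hK hfix hyc
    have hKH : K ≤ H' := by
      rw [← Comp.component_perfect hK, commutator_le]
      intro a _ b _
      rw [← QuotientGroup.eq_one_iff, ← QuotientGroup.mk'_apply, map_commutatorElement,
        commutatorElement_eq_one_iff_mul_comm]
      have hsq : ∀ q : ↥X ⧸ H', q * q = 1 := fun q => by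
        obtain ⟨c, rfl⟩ := QuotientGroup.mk'_surjective H' q
        rw [← map_mul, ← pow_two]
        exact (QuotientGroup.eq_one_iff _).2 (hquot c)
      have hinv : ∀ q : ↥X ⧸ H', q⁻¹ = q := fun q => inv_eq_of_mul_eq_one_right (hsq q)
      calc (QuotientGroup.mk' H' a) * QuotientGroup.mk' H' b
          = ((QuotientGroup.mk' H' a) * QuotientGroup.mk' H' b)⁻¹ := (hinv _).symm
        _ = (QuotientGroup.mk' H' b) * QuotientGroup.mk' H' a := by rw [mul_inv_rev, hinv, hinv]
    set E := (K.subgroupOf H').map (subgroupOfEquivOfLe hHX).toMonoidHom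
    have hE : Cfsg.IsComponent E :=
      Comp.component_map_equiv _ (Comp.component_subgroupOf hK hKH)
    have hEK : E.map H.subtype = K.map X.subtype := by
      ext z
      constructor
      · rintro ⟨_, ⟨w, hw, rfl⟩, rfl⟩
        exact ⟨(w : X), hw, rfl⟩
      · rintro ⟨w, hw, rfl⟩
        exact ⟨_, ⟨⟨w, hKH hw⟩, hw, rfl⟩, rfl⟩
    have hnorm : ∀ c : X, c ∈ normalizer (K : Set X) →
        (c : G) ∈ normalizer ((E.map H.subtype : Subgroup G) : Set G) := fun c hc => by
      rw [hEK]
      exact le_normalizer_map X.subtype (mem_map_of_mem X.subtype hc)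
    have hcent : ∀ c : X, (c : G) ∈ centralizer ((E.map H.subtype : Subgroup G) : Set G) →
        c ∈ centralizer (K : Set X) := fun c hc => mem_centralizer_iff.2 fun k hk => Subtype.ext
      (mem_centralizer_iff.1 hc (k : G) (hEK ▸ mem_map_of_mem X.subtype hk))
    by_contra hyK
    refine hcon ⟨E, hE, mem_normalizer_iff_map_conj_eq.1 (hnorm t' htK), fun z hz => ?_,
      fun h => hfix ?_, fun h => hyK (hcent y' (by rw [hy']; exact h hy))⟩
    · obtain ⟨z', hz', hzc⟩ := hYcore z hz
      rw [← hz']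
      exact hnorm z' (LocalBalance.core_centralizer_le_normalizer hOX hR hK hzc)
    · rw [Subgroup.le_centralizer_iff, zpowers_le]
      exact hcent t' h
  rw [← hy', hy1, OneMemClass.coe_one]

end Cfsg.Agent.S1328
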