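import Cfsg.Statements.S1329
import Cfsg.Agent.Coprime.FourGroupFixed
import Cfsg.Agent.Coprime.Generation

set_option autoImplicit false
open Cfsg

namespace Cfsg.Agent.S1329

open Subgroup CfsgLib CfsgLib.Solvable CfsgLib.SZ Pointwise

theorem quotient_pair {B : Type*} [CommGroup B] [Finite B] (hB : IsPGroup 2 B) (Z : Subgroup B)
    (hnc : ¬ IsCyclic (B ⧸ Z)) :
    ∃ a b : B, a ∉ Z ∧ b ∉ Z ∧ a * b ∉ Z ∧ a * a ∈ Z ∧ b * b ∈ Z := by
  classical
  obtain ⟨q, E, hq, hcard, hpow⟩ := CfsgLib.Coprime.exists_elementary_sq hnc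
  obtain ⟨n, hn⟩ := IsPGroup.iff_card.1 hB
  have hq2 : q = 2 := by
    have h1 : q ∣ Nat.card B :=
      ((dvd_pow_self q two_ne_zero).trans (hcard ▸ Subgroup.card_subgroup_dvd_card E)).trans
        (Subgroup.card_quotient_dvd_card Z)
    rw [hn] at h1
    exact (Nat.prime_dvd_prime_iff_eq hq Nat.prime_two).1 (hq.dvd_of_dvd_pow h1)
  subst hq2
  haveI : Fintype E := Fintype.ofFinite E
  have h4 : Fintype.card E = 4 := by rw [← Nat.card_eq_fintype_card, hcard]; norm_num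
  obtain ⟨x, hx⟩ := Fintype.exists_ne_of_one_lt_card (show 1 < Fintype.card E by omega) (1 : E)
  obtain ⟨y, hy⟩ : ∃ y : E, y ∉ ({1, x} : Finset E) := by
    by_contra! h
    have h1 : Fintype.card E ≤ ({1, x} : Finset E).card := Finset.card_le_card fun z _ => h z
    have h2 := Finset.card_le_two (a := (1 : E)) (b := x)
    omega
  simp only [Finset.mem_insert, Finset.mem_singleton, not_or] at hy
  obtain ⟨a, ha⟩ := QuotientGroup.mk_surjective (x : B ⧸ Z)
  obtain ⟨b, hb⟩ := QuotientGroup.mk_surjective (y : B ⧸ Z)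
  refine ⟨a, b, ?_, ?_, ?_, ?_, ?_⟩
  · intro h
    rw [← QuotientGroup.eq_one_iff, ha] at h
    exact hx (Subtype.ext h)
  · intro h
    rw [← QuotientGroup.eq_one_iff, hb] at h
    exact hy.1 (Subtype.ext h)
  · intro h
    rw [← QuotientGroup.eq_one_iff, QuotientGroup.mk_mul, ha, hb] at h
    have hxx : (x : B ⧸ Z) * x = 1 := by rw [← sq]; exact hpow _ x.2
    exact hy.2 (Subtype.ext (mul_left_cancel (h.trans hxx.symm)))
  · rw [← QuotientGroup.eq_one_iff, QuotientGroup.mk_mul, ha, ← sq]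
    exact hpow _ x.2
  · rw [← QuotientGroup.eq_one_iff, QuotientGroup.mk_mul, hb, ← sq]
    exact hpow _ y.2

theorem le_of_step {G : Type*} [Group G] [Finite G] (A B Y₀ T : Subgroup G) (hA2 : IsPGroup 2 A)
    (hAc : IsMulCommutative A) (hB : B ≤ A)
    (hT : ∀ B₀ : Subgroup G, B₀ ≤ B → (∀ [(B₀.subgroupOf B).Normal], IsCyclic (B ⧸ B₀.subgroupOf B)) →
      Y₀ ⊓ centralizer (B : Set G) ⊓ ⁅Y₀ ⊓ centralizer (B₀ : Set G), A⁆ ≤ T) :
    ∀ n : ℕ, ∀ Y : Subgroup G, Nat.card B - Nat.card (B ⊓ centralizer (Y : Set G) : Subgroup G) = n →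
      Y ≤ Y₀ → Odd (Nat.card Y) → A ≤ normalizer (Y : Set G) → ⁅Y, A⁆ = Y →
      Y ⊓ centralizer (B : Set G) ≤ T := by
  intro n
  induction n using Nat.strong_induction_on with
  | _ n ih =>
  intro Y hn hY hodd hAY hYA
  set Z := B ⊓ centralizer (Y : Set G) with hZ
  haveI : IsMulCommutative A := hAc
  letI : CommGroup B := { (inferInstance : Group B) with
    mul_comm := fun x y => Subtype.ext (by
      simpa using congrArg Subtype.val (hAc.is_comm.comm ⟨(x : G), hB x.2⟩ ⟨(y : G), hB y.2⟩)) }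
  by_cases hcyc : IsCyclic (B ⧸ Z.subgroupOf B)
  · refine le_trans (le_inf (inf_le_inf_right _ hY) ?_) (hT Z inf_le_left (fun {_} => hcyc))
    refine inf_le_left.trans ?_
    conv_lhs => rw [← hYA]
    refine commutator_mono (le_inf hY fun y hy => mem_centralizer_iff.2 fun z hz => ?_) le_rfl
    exact (mem_centralizer_iff.1 (hz : z ∈ B ⊓ centralizer (Y : Set G)).2 y hy).symm
  obtain ⟨a, b, ha, hb, hab, ha2, hb2⟩ := quotient_pair
    (hA2.of_injective (inclusion hB) (inclusion_injective hB)) (Z.subgroupOf B) hcyc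
  have haA : (a : G) ∈ A := hB a.2
  have hbA : (b : G) ∈ A := hB b.2
  have hsq : ∀ c : B, c * c ∈ Z.subgroupOf B → ∀ y ∈ Y, (c : G) * c * y = y * (c * c) := by
    intro c hc y hy
    exact (mem_centralizer_iff.1 (mem_subgroupOf.1 hc).2 y hy).symm
  have hfour := FourFixed.four hodd hA2 hAc hAY hYA haA hbA (hsq a ha2) (hsq b hb2)
  set E := Y ⊓ centralizer ({(a : G)} : Set G) ⊓ centralizer ({(b : G)} : Set G) with hE
  have hBE : Y ⊓ centralizer (B : Set G) ≤ E := fun y hy => ⟨⟨hy.1,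
    mem_centralizer_singleton_iff.2 (mem_centralizer_iff.1 hy.2 a a.2).symm⟩,
    mem_centralizer_singleton_iff.2 (mem_centralizer_iff.1 hy.2 b b.2).symm⟩
  -- invariance
  have hnA : ∀ e ∈ A, A ≤ normalizer ((Y ⊓ centralizer ({e} : Set G) : Subgroup G) : Set G) :=
    fun e he => FourFixed.fix_normalized hAc hAY he
  have hKA : ∀ e ∈ A, A ≤ normalizer ((⁅Y ⊓ centralizer ({e} : Set G), A⁆ : Subgroup G) : Set G) :=
    fun e he => normalizer_commutator_ge_right _ _
  have hinf : ∀ {S U : Subgroup G}, A ≤ normalizer (S : Set G) → A ≤ normalizer (U : Set G) →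
      A ≤ normalizer ((S ⊓ U : Subgroup G) : Set G) := by
    intro S U hS hU g hg
    rw [← conj_smul_eq_iff_mem_normalizer, Subgroup.smul_inf,
      conj_smul_eq_iff_mem_normalizer.2 (hS hg), conj_smul_eq_iff_mem_normalizer.2 (hU hg)]
  have hEA : A ≤ normalizer (E : Set G) := by
    have he : E = (Y ⊓ centralizer ({(a : G)} : Set G)) ⊓ (Y ⊓ centralizer ({(b : G)} : Set G)) := by
      rw [hE]; ext z; simp [mem_inf]; tauto
    rw [he]
    exact hinf (hnA _ haA) (hnA _ hbA)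
  have hKY : ∀ e ∈ A, ⁅Y ⊓ centralizer ({e} : Set G), A⁆ ≤ Y ⊓ centralizer ({e} : Set G) :=
    fun e he => le_normalizer_iff_commutator_le_left.1 (hnA e he)
  -- one involution
  have hone : ∀ e : B, e ∉ Z.subgroupOf B →
      E ⊓ ⁅Y ⊓ centralizer ({(e : G)} : Set G), A⁆ ⊓ centralizer (B : Set G) ≤ T := by
    intro e he
    set K := ⁅Y ⊓ centralizer ({(e : G)} : Set G), A⁆ with hK
    have hKle := hKY _ (hB e.2)
    have hKodd : Odd (Nat.card K) :=
      Odd.of_dvd_nat hodd (card_dvd_of_le (hKle.trans inf_le_left))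
    have hcop : (Nat.card A).Coprime (Nat.card (Y ⊓ centralizer ({(e : G)} : Set G) : Subgroup G)) := by
      obtain ⟨m, hm⟩ := IsPGroup.iff_card.1 hA2
      rw [hm]
      exact (Nat.coprime_two_left.2 (Odd.of_dvd_nat hodd (card_dvd_of_le inf_le_left))).pow_left m
    have hKK : ⁅K, A⁆ = K := CoprimeAct.commutator_commutator (hnA _ (hB e.2)) hcop
      (Or.inl (Group.isSolvable_of_comm fun x y => hAc.is_comm.comm x y))
    have hlt : Nat.card Z < Nat.card (B ⊓ centralizer (K : Set G) : Subgroup G) := by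
      have hle : Z ≤ B ⊓ centralizer (K : Set G) :=
        inf_le_inf_left _ (centralizer_le (hKle.trans inf_le_left))
      have heK : (e : G) ∈ B ⊓ centralizer (K : Set G) := ⟨e.2, mem_centralizer_iff.2 fun k hk =>
        mem_centralizer_singleton_iff.1 (hKle hk).2⟩
      refine lt_of_le_of_ne (card_le_of_le hle) fun h => he ?_
      exact mem_subgroupOf.2 ((eq_of_le_of_card_ge hle h.ge).ge heK)
    have hle2 : Nat.card (B ⊓ centralizer (K : Set G) : Subgroup G) ≤ Nat.card B :=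
      card_le_of_le inf_le_left
    exact (inf_le_inf_right _ inf_le_right).trans (ih _ (by omega) K rfl
      ((hKle.trans inf_le_left).trans hY) hKodd (hKA _ (hB e.2)) hKK)
  -- fixed points of a product of normal invariant subgroups
  intro y hy
  have hcopE : (Nat.card B).Coprime (Nat.card E) := by
    obtain ⟨m, hm⟩ := IsPGroup.iff_card.1 (hA2.of_injective (inclusion hB) (inclusion_injective hB))
    rw [hm]
    exact (Nat.coprime_two_left.2
      (Odd.of_dvd_nat hodd (card_dvd_of_le (inf_le_left.trans inf_le_left)))).pow_left m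
  have hBs : Group.IsSolvable B := Group.isSolvable_of_comm fun x y => mul_comm x y
  set L₁ := E ⊓ ⁅Y ⊓ centralizer ({(a : G)} : Set G), A⁆ with hL₁
  set L₂ := E ⊓ ⁅Y ⊓ centralizer ({(b : G)} : Set G), A⁆ with hL₂
  set L₃ := E ⊓ ⁅Y ⊓ centralizer ({(a : G) * b} : Set G), A⁆ with hL₃
  have hprod : ∀ (P Q : Subgroup G), E ≤ normalizer (Q : Set G) → P ≤ E →
      ∀ k ∈ P ⊔ Q, ∃ x ∈ P, ∃ z ∈ Q, k = x * z := by
    intro P Q hQ hP k hk
    rw [← SetLike.mem_coe, coe_mul_of_left_le_normalizer_right _ _ (hP.trans hQ),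
      Set.mem_mul] at hk
    obtain ⟨x, hx, z, hz, rfl⟩ := hk
    exact ⟨x, hx, z, hz, rfl⟩
  have hEn : ∀ e : G, E ≤ Y ⊓ centralizer ({e} : Set G) → E ≤ normalizer
      ((E ⊓ ⁅Y ⊓ centralizer ({e} : Set G), A⁆ : Subgroup G) : Set G) := by
    intro e he g hg
    rw [← conj_smul_eq_iff_mem_normalizer, Subgroup.smul_inf,
      conj_smul_eq_iff_mem_normalizer.2 (le_normalizer hg),
      conj_smul_eq_iff_mem_normalizer.2 (normalizer_commutator_ge_left _ _ (he hg))]
  have hEab : E ≤ Y ⊓ centralizer ({(a : G) * b} : Set G) := fun z hz => ⟨hz.1.1,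
    mem_centralizer_singleton_iff.2 (by
      rw [← mul_assoc, mem_centralizer_singleton_iff.1 hz.1.2, mul_assoc,
        mem_centralizer_singleton_iff.1 hz.2, mul_assoc])⟩
  have h12E : E ≤ normalizer ((L₁ ⊔ L₂ : Subgroup G) : Set G) := fun g hg =>
    normalizer_inf_normalizer_le_normalizer_sup _ _
      ⟨hEn _ inf_le_left hg, hEn _ (le_inf (inf_le_left.trans inf_le_left) inf_le_right) hg⟩
  have hL₁A : A ≤ normalizer (L₁ : Set G) := hinf hEA (hKA _ haA)
  have hL₂A : A ≤ normalizer (L₂ : Set G) := hinf hEA (hKA _ hbA)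
  have hL₃A : A ≤ normalizer (L₃ : Set G) := hinf hEA (hKA _ (A.mul_mem haA hbA))
  have h12A : A ≤ normalizer ((L₁ ⊔ L₂ : Subgroup G) : Set G) := fun g hg =>
    normalizer_inf_normalizer_le_normalizer_sup _ _ ⟨hL₁A hg, hL₂A hg⟩
  have hEeq : L₁ ⊔ L₂ ⊔ L₃ = E :=
    le_antisymm (sup_le (sup_le inf_le_left inf_le_left) inf_le_left) hfour
  obtain ⟨u, hu, v, hv, rfl⟩ := CoprimeAct.fixed_factor (A := B) (K := E) (hB.trans hEA) hcopE
    (Or.inl hBs) (X := L₃) (Y := L₁ ⊔ L₂) inf_le_left (sup_le inf_le_left inf_le_left)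
    (hB.trans hL₃A) (hB.trans h12A)
    (fun k hk => hprod L₃ (L₁ ⊔ L₂) h12E inf_le_left k (by rwa [sup_comm, hEeq]))
    (show y ∈ E ⊓ centralizer (B : Set G) from ⟨hBE hy, hy.2⟩)
  have hcop12 : (Nat.card B).Coprime (Nat.card (L₁ ⊔ L₂ : Subgroup G)) :=
    hcopE.coprime_dvd_right (card_dvd_of_le (sup_le inf_le_left inf_le_left))
  obtain ⟨p, hp, q, hq, rfl⟩ := CoprimeAct.fixed_factor (A := B) (K := L₁ ⊔ L₂)
    (hB.trans h12A) hcop12 (Or.inl hBs) (X := L₁) (Y := L₂) le_sup_left le_sup_right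
    (hB.trans hL₁A) (hB.trans hL₂A)
    (fun k hk => hprod L₁ L₂ (hEn _ (le_inf (inf_le_left.trans inf_le_left) inf_le_right))
      inf_le_left k hk) hv
  exact T.mul_mem (hone (a * b) hab hu) (T.mul_mem (hone a ha hp) (hone b hb hq))

/-- Let A be an abelian 2-subgroup of the finite group G, B ≤ A, and Y a subgroup of odd order normalized by A with ⁅Y, A⁆ = Y. Then Y ∩ C_G(B) is generated by the subgroups Y ∩ C_G(B) ∩ ⁅Y ∩ C_G(B₀), A⁆, B₀ ranging over the subgroups of B with B / B₀ cyclic. -/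
theorem result {G : Type*} [Group G] [Finite G] (A B Y : Subgroup G) (hA2 : IsPGroup 2 ↥A) (hAc : IsMulCommutative ↥A) (hB : B ≤ A) (hYodd : Odd (Nat.card ↥Y)) (hAY : A ≤ Subgroup.normalizer (Y : Set G)) (hYA : ⁅Y, A⁆ = Y) : Y ⊓ Subgroup.centralizer (B : Set G) = ⨆ B₀ : {B₀ : Subgroup G // B₀ ≤ B ∧ ∀ [(B₀.subgroupOf B).Normal], IsCyclic (↥B ⧸ B₀.subgroupOf B)}, Y ⊓ Subgroup.centralizer (B : Set G) ⊓ ⁅Y ⊓ Subgroup.centralizer ((B₀ : Subgroup G) : Set G), A⁆ := by
  refine le_antisymm ?_ (iSup_le fun B₀ => inf_le_left)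
  refine le_of_step A B Y _ hA2 hAc hB (fun B₀ hB₀ hcyc => ?_) _ Y rfl le_rfl hYodd hAY hYA
  exact le_iSup (fun B₀ : {B₀ : Subgroup G // B₀ ≤ B ∧ ∀ [(B₀.subgroupOf B).Normal],
    IsCyclic (↥B ⧸ B₀.subgroupOf B)} => Y ⊓ Subgroup.centralizer (B : Set G) ⊓
      ⁅Y ⊓ Subgroup.centralizer ((B₀ : Subgroup G) : Set G), A⁆) ⟨B₀, hB₀, hcyc⟩

end Cfsg.Agent.S1329
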