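import Cfsg.Statements.S1331
import Cfsg.Agent.Signalizer.Basic
-- import your own Cfsg.Agent.* helpers here

set_option autoImplicit false
open Cfsg

namespace Cfsg.Agent.S1331

/-- Let θ be a solvable A-signalizer functor on the finite group G for the prime p, A elementary abelian of rank at least 3, X a member of the family of θ, and B ≤ A with |B| ≥ p². Then X is generated by the subgroups X ∩ ⋂_{d ∈ D, d ≠ 1} θ d, D ranging over the subgroups of index p in B. -/
theorem result {G : Type*} [Group G] [Finite G] (p : ℕ) [Fact p.Prime] (A : Subgroup G) (hA : Cfsg.IsElementaryAbelian p A) (hA3 : p ^ 3 ≤ Nat.card ↥A) (θ : G → Subgroup G) (hθ : Cfsg.IsSolvableSignalizerFunctor p A θ) (X : Subgroup G) (hX : X ∈ Cfsg.signalizerFamily p A θ) (B : Subgroup G) (hB : B ≤ A) (hB2 : p ^ 2 ≤ Nat.card ↥B) : X = ⨆ D : {D : Subgroup G // D ≤ B ∧ D.relIndex B = p}, X ⊓ Cfsg.signalizerInf (D : Subgroup G) θ := by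
  open CfsgLib.Signalizer Subgroup in
  refine le_antisymm ?_ (iSup_le fun _ => inf_le_left)
  refine le_of_forall_hyperplane (of_le hA hB) (hB.trans (family_le_normalizer hX)) hX.2.1 fun C hC hi => ?_
  have key : ∀ D : Subgroup G, D ≤ B → D.relIndex B = p → D ≤ C →
      X ⊓ centralizer (C : Set G) ≤ ⨆ D : {D : Subgroup G // D ≤ B ∧ D.relIndex B = p}, X ⊓ Cfsg.signalizerInf (D : Subgroup G) θ := by
    intro D hD hDi hDC
    refine le_trans ?_ (le_iSup (fun D : {D : Subgroup G // D ≤ B ∧ D.relIndex B = p} => X ⊓ Cfsg.signalizerInf (D : Subgroup G) θ) ⟨D, hD, hDi⟩)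
    exact le_inf inf_le_left ((inf_le_inf_left X (centralizer_le hDC)).trans
      (inf_centralizer_le_signalizerInf hX (hD.trans hB)))
  obtain ⟨k, hk⟩ := IsPGroup.iff_card.1 (isPGroup (of_le hA hB))
  by_cases h1 : C.relIndex B = 1
  · have hCB : B ≤ C := relIndex_eq_one.1 h1
    have hk1 : 1 ≤ k := by
      by_contra h
      have hk0 : k = 0 := by omega
      rw [hk, hk0, pow_zero] at hB2
      have := one_lt_pow₀ (Fact.out : p.Prime).one_lt (show (2 : ℕ) ≠ 0 by norm_num)
      omega
    obtain ⟨D, hD⟩ := Sylow.exists_subgroup_card_pow_prime (G := ↥B) p (n := k - 1)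
      (hk ▸ pow_dvd_pow p (Nat.sub_le k 1))
    refine key (D.map B.subtype) (map_subtype_le D) ?_ ((map_subtype_le D).trans hCB)
    have e : D.index * Nat.card D = Nat.card B := D.index_mul_card
    rw [relIndex, ← comap_subtype, comap_map_eq_self_of_injective B.subtype_injective]
    rw [hk, hD] at e
    refine Nat.eq_of_mul_eq_mul_right (pow_pos (Fact.out : p.Prime).pos (k - 1)) ?_
    rw [e, ← pow_succ', Nat.sub_add_cancel hk1]
  · refine key C hC ?_ le_rfl
    obtain ⟨j, -, hj'⟩ := (Nat.dvd_prime_pow Fact.out).1 (hk ▸ (index_dvd_card (C.subgroupOf B)) : C.relIndex B ∣ p ^ k)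
    rcases Nat.lt_or_ge j 1 with hj | hj
    · exfalso; apply h1; rw [hj', show j = 0 by omega, pow_zero]
    · refine le_antisymm hi ?_
      rw [hj']
      exact Nat.le_self_pow (by omega) p

end Cfsg.Agent.S1331
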