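import Cfsg.Statements.S1336
import Cfsg.Agent.Functor.Sylow
-- import your own Cfsg.Agent.* helpers here

set_option autoImplicit false
open Cfsg

namespace Cfsg.Agent.S1336

/-- Let G be finite and p prime. Then G has a proper subgroup H with p ∣ |H| and p ∤ |H ∩ gHg⁻¹| for every g ∉ H (a strongly p-embedded subgroup) if and only if G is not 1-connected for p. -/
theorem result {G : Type*} [Group G] [Finite G] (p : ℕ) [Fact p.Prime] : (∃ H : Subgroup G, H ≠ ⊤ ∧ p ∣ Nat.card ↥H ∧ ∀ g : G, g ∉ H → ¬ p ∣ Nat.card ↥(H ⊓ H.map (MulAut.conj g).toMonoidHom)) ↔ ¬ Cfsg.IsKConnected p 1 G := by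
  open CfsgLib Subgroup in
  classical
  have hp := (Fact.out : p.Prime)
  have hvz : ∀ x : G, orderOf x = p → Cfsg.IsElementaryAbelian p (zpowers x) ∧ p ^ 1 ≤ Nat.card (zpowers x) := by
    intro x hx
    refine ⟨⟨inferInstance, fun a ha => ?_⟩, by rw [pow_one, Nat.card_zpowers, hx]⟩
    obtain ⟨i, rfl⟩ := mem_zpowers_iff.1 ha
    rw [← zpow_natCast, zpow_comm, zpow_natCast, ← hx, pow_orderOf_eq_one, one_zpow]
  have hne : ∀ E : Subgroup G, p ^ 1 ≤ Nat.card E → Cfsg.IsElementaryAbelian p E → ∃ e ∈ E, orderOf e = p := by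
    intro E hE hEl
    obtain ⟨⟨e, he⟩, he1⟩ : ∃ e : E, e ≠ 1 := by
      haveI : Nontrivial E := Finite.one_lt_card_iff_nontrivial.1 (by
        rw [pow_one] at hE; exact lt_of_lt_of_le hp.one_lt hE)
      exact exists_ne 1
    exact ⟨e, he, orderOf_eq_prime (hEl.2 e he) (fun h => he1 (Subtype.ext h))⟩
  constructor
  · rintro ⟨H, hH, hpH, hse⟩ hcon
    obtain ⟨a, ha⟩ := exists_prime_orderOf_dvd_card' (G := ↥H) p hpH
    have ha' : orderOf (a : G) = p := by rwa [orderOf_coe]
    obtain ⟨g, hg⟩ : ∃ g : G, g ∉ H := by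
      by_contra h
      push Not at h
      exact hH (eq_top_iff.2 fun g _ => h g)
    have key : ∀ E E' : Subgroup G, Relation.ReflTransGen
      (fun A B : Subgroup G => Cfsg.IsElementaryAbelian p A ∧ p ^ 1 ≤ Nat.card ↥A ∧ Cfsg.IsElementaryAbelian p B ∧
        p ^ 1 ≤ Nat.card ↥B ∧ ∀ a ∈ A, ∀ b ∈ B, a * b = b * a) E E' → E ≤ H → E' ≤ H := by
      intro E E' h
      induction h with
      | refl => exact id
      | tail _ hs ih =>
        intro hE b hb
        obtain ⟨hA, hA1, -, -, hcomm⟩ := hs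
        obtain ⟨e, he, heo⟩ := hne _ hA1 hA
        by_contra hbH
        refine hse b hbH (heo ▸ orderOf_dvd_natCard _ ⟨ih hE he, ?_⟩)
        refine ⟨e, ih hE he, ?_⟩
        show b * e * b⁻¹ = e
        rw [← hcomm e he b hb, mul_inv_cancel_right]
    have h1 : orderOf (g * a * g⁻¹) = p := by
      rw [show g * a * g⁻¹ = (MulAut.conj g) (a : G) from rfl, MulEquiv.orderOf_eq]; exact ha'
    have h2 := key _ _ (hcon _ _ (hvz _ ha').1 (hvz _ ha').2 (hvz _ h1).1 (hvz _ h1).2)
      (zpowers_le.2 a.2) (mem_zpowers _)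
    exact hse g hg (h1 ▸ orderOf_dvd_natCard _ ⟨h2, ⟨a, a.2, rfl⟩⟩)
  · intro hcon
    set R := fun A B : Subgroup G => Cfsg.IsElementaryAbelian p A ∧ p ^ 1 ≤ Nat.card ↥A ∧ Cfsg.IsElementaryAbelian p B ∧
        p ^ 1 ≤ Nat.card ↥B ∧ ∀ a ∈ A, ∀ b ∈ B, a * b = b * a with hR
    have hsym : ∀ {A B}, Relation.ReflTransGen R A B → Relation.ReflTransGen R B A := by
      intro A B h
      induction h with
      | refl => exact Relation.ReflTransGen.refl
      | tail _ hs ih =>
        exact Relation.ReflTransGen.head ⟨hs.2.2.1, hs.2.2.2.1, hs.1, hs.2.1, fun a ha b hb => (hs.2.2.2.2 b hb a ha).symm⟩ ih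
    obtain ⟨E, E', hE, hE1, hE', hE'1, hn⟩ : ∃ E E', Cfsg.IsElementaryAbelian p E ∧ p ^ 1 ≤ Nat.card E ∧
        Cfsg.IsElementaryAbelian p E' ∧ p ^ 1 ≤ Nat.card E' ∧ ¬ Relation.ReflTransGen R E E' := by
      simpa [Cfsg.IsKConnected, hR] using hcon
    obtain ⟨P⟩ := (inferInstance : Nonempty (Sylow p G))
    have hpd : p ∣ Nat.card G := by
      obtain ⟨e, he, heo⟩ := hne E hE1 hE
      exact heo ▸ _root_.orderOf_dvd_natCard e
    haveI : Nontrivial (P : Subgroup G) := (nontrivial_iff_ne_bot _).2 (P.ne_bot_of_dvd_card hpd)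
    haveI := P.2.center_nontrivial
    obtain ⟨k, hk⟩ := IsPGroup.iff_card.1 (P.2.to_subgroup (center (P : Subgroup G)))
    obtain ⟨z, hz⟩ := exists_prime_orderOf_dvd_card' (G := ↥(center (P : Subgroup G))) p
      (hk ▸ dvd_pow_self p (fun h0 => by
        have := Finite.one_lt_card (α := ↥(center (P : Subgroup G)))
        rw [hk, h0, pow_zero] at this
        exact lt_irrefl _ this))
    have hz' : orderOf ((z : (P : Subgroup G)) : G) = p := by rw [orderOf_coe, orderOf_coe, hz]
    set Z := zpowers ((z : (P : Subgroup G)) : G)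
    have hZP : ∀ A : Subgroup G, Cfsg.IsElementaryAbelian p A → p ^ 1 ≤ Nat.card A → A ≤ P → Relation.ReflTransGen R Z A := by
      intro A hA hA1 hAP
      refine Relation.ReflTransGen.single ⟨(hvz _ hz').1, (hvz _ hz').2, hA, hA1, fun x hx y hy => ?_⟩
      obtain ⟨i, rfl⟩ := mem_zpowers_iff.1 hx
      refine (Commute.zpow_left ?_ i).eq
      exact (congrArg Subtype.val (mem_center_iff.1 z.2 ⟨y, hAP hy⟩)).symm
    have hmap : ∀ (g : G) (A : Subgroup G), Cfsg.IsElementaryAbelian p A → p ^ 1 ≤ Nat.card A →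
        Cfsg.IsElementaryAbelian p (A.map (MulAut.conj g).toMonoidHom) ∧ p ^ 1 ≤ Nat.card ↥(A.map (MulAut.conj g).toMonoidHom) := by
      intro g A hA hA1
      haveI := hA.1
      refine ⟨⟨inferInstance, ?_⟩, by rwa [card_map_of_injective (f := (MulAut.conj g).toMonoidHom) (MulAut.conj g).injective]⟩
      rintro _ ⟨x, hx, rfl⟩
      rw [← map_pow, hA.2 x hx, map_one]
    have hmapR : ∀ (g : G) {A B}, Relation.ReflTransGen R A B →
        Relation.ReflTransGen R (A.map (MulAut.conj g).toMonoidHom) (B.map (MulAut.conj g).toMonoidHom) := by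
      intro g A B h
      induction h with
      | refl => exact Relation.ReflTransGen.refl
      | tail _ hs ih =>
        refine Relation.ReflTransGen.tail ih ⟨(hmap g _ hs.1 hs.2.1).1, (hmap g _ hs.1 hs.2.1).2, (hmap g _ hs.2.2.1 hs.2.2.2.1).1, (hmap g _ hs.2.2.1 hs.2.2.2.1).2, ?_⟩
        rintro _ ⟨x, hx, rfl⟩ _ ⟨y, hy, rfl⟩
        rw [← map_mul, hs.2.2.2.2 x hx y hy, map_mul]
    have hone : ∀ A : Subgroup G, A.map (MulAut.conj (1 : G)).toMonoidHom = A := fun A => by ext; simp
    have hcomp : ∀ (g h : G) (A : Subgroup G), (A.map (MulAut.conj h).toMonoidHom).map (MulAut.conj g).toMonoidHom = A.map (MulAut.conj (g * h)).toMonoidHom := fun g h A => by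
      rw [Subgroup.map_map]; congr 1; ext; simp [mul_assoc]
    set H : Subgroup G :=
      { carrier := {g | Relation.ReflTransGen R Z (Z.map (MulAut.conj g).toMonoidHom)}
        one_mem' := by show Relation.ReflTransGen R Z _; rw [hone]
        mul_mem' := fun {g h} hg hh => by
          show Relation.ReflTransGen R Z _
          rw [← hcomp]; exact hg.trans (hmapR g hh)
        inv_mem' := fun {g} hg => by
          show Relation.ReflTransGen R Z _
          have h1 := hmapR g⁻¹ hg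
          rw [hcomp, inv_mul_cancel, hone] at h1
          exact hsym h1 } with hHdef
    have hPH : (P : Subgroup G) ≤ H := by
      intro g hg
      refine hZP _ (hmap g Z (hvz _ hz').1 (hvz _ hz').2).1 (hmap g Z (hvz _ hz').1 (hvz _ hz').2).2 ?_
      rintro _ ⟨x, hx, rfl⟩
      have hxP : x ∈ (P : Subgroup G) := (zpowers_le.2 (z : (P : Subgroup G)).2) hx
      exact mul_mem (mul_mem hg hxP) (inv_mem hg)
    refine ⟨H, ?_, (hz' ▸ orderOf_dvd_natCard _ (hPH (z : (P : Subgroup G)).2)), fun g hg hd => ?_⟩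
    · intro htop
      apply hn
      have hall : ∀ A : Subgroup G, Cfsg.IsElementaryAbelian p A → p ^ 1 ≤ Nat.card A → Relation.ReflTransGen R Z A := by
        intro A hA hA1
        obtain ⟨Q, hQ⟩ := (show IsPGroup p ↥A from fun a => ⟨1, Subtype.ext (by simpa using hA.2 a a.2)⟩).exists_le_sylow
        obtain ⟨g, hg⟩ := MulAction.exists_smul_eq G Q P
        have hAg : A.map (MulAut.conj g).toMonoidHom ≤ P := by
          rw [← hg]
          rintro _ ⟨x, hx, rfl⟩
          exact ⟨x, hQ hx, rfl⟩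
        have h1 := hmapR g⁻¹ (hZP _ (hmap g A hA hA1).1 (hmap g A hA hA1).2 hAg)
        rw [hcomp, inv_mul_cancel, hone] at h1
        exact (show g⁻¹ ∈ H from htop ▸ mem_top _).trans h1
      exact (hsym (hall E hE hE1)).trans (hall E' hE' hE'1)
    · obtain ⟨⟨x, hx1, hx2⟩, hxo⟩ := exists_prime_orderOf_dvd_card' p hd
      have hx : orderOf x = p := by rw [← hxo]; exact orderOf_coe ⟨x, _⟩
      have hxH : ∀ y : G, orderOf y = p → y ∈ H → Relation.ReflTransGen R Z (zpowers y) := by
        intro y hy hyH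
        obtain ⟨h, hh, hhy⟩ := (Functor.IsSylowIn.of_le (Functor.isSylowIn_top P) hPH le_top).exists_cj_le
          (fun a => ⟨1, Subtype.ext (by simpa using (hvz y hy).1.2 a a.2)⟩) (zpowers_le.2 hyH)
        have h1 := hmapR h⁻¹ (hZP _ (hmap h _ (hvz y hy).1 (hvz y hy).2).1 (hmap h _ (hvz y hy).1 (hvz y hy).2).2 hhy)
        rw [hcomp, inv_mul_cancel, hone] at h1
        exact (show h⁻¹ ∈ H from inv_mem hh).trans h1
      obtain ⟨y, hy, hxy⟩ := hx2
      have hyo : orderOf y = p := by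
        rw [← hx, ← hxy]; exact ((MulAut.conj g).orderOf_eq y).symm
      apply hg
      show Relation.ReflTransGen R Z _
      have h1 := hmapR g (hxH y hyo hy)
      have h2 : (zpowers y).map (MulAut.conj g).toMonoidHom = zpowers x := by
        rw [MonoidHom.map_zpowers]; exact congrArg zpowers hxy
      rw [h2] at h1
      exact (hxH x hx hx1).trans (hsym h1)

end Cfsg.Agent.S1336
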