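import Cfsg.Statements.S1338
import Cfsg.Agent.S1337
import Cfsg.Agent.Solvable.RankTwo

set_option autoImplicit false
open Cfsg

namespace Cfsg.Agent.S1338

/-- A finite 3-group of 3-rank at least 4 is 2-connected for the prime 3: its commuting graph on elementary abelian subgroups of order ≥ 9 is connected. -/
theorem result {P : Type*} [Group P] [Finite P] (hP : IsPGroup 3 P) (hrk : ¬ Cfsg.PRankLE 3 3 P) : Cfsg.IsKConnected 3 2 P := by
  classical
  haveI : Fact (Nat.Prime 3) := ⟨Nat.prime_three⟩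
  have hr2 : ¬ Cfsg.PRankLE 3 2 P := fun h => hrk fun A hA hA3 => (h A hA hA3).trans (by norm_num)
  obtain ⟨U, hUn, hUe, hU2, hU⟩ := Cfsg.Agent.S1337.result 3 hP hr2
  obtain ⟨A, hAn, hAe, hA4⟩ : ∃ A : Subgroup P, A.Normal ∧ Cfsg.IsElementaryAbelian 3 A ∧ Nat.card A = 3 ^ 4 := by
    have h := hrk
    simp only [Cfsg.PRankLE, not_forall, not_le] at h
    obtain ⟨B, hBc, hBe, hB⟩ := h
    obtain ⟨b, hb⟩ := IsPGroup.iff_card.1 (hP.to_subgroup B)
    have hb4 : 3 + 1 ≤ b := by
      rw [hb] at hB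
      exact (Nat.pow_lt_pow_iff_right (by norm_num)).1 hB
    obtain ⟨E, hE⟩ := Sylow.exists_subgroup_card_pow_prime 3 (G := B) (n := 4) (hb ▸ pow_dvd_pow 3 hb4)
    haveI := hBc
    refine CfsgLib.RankTwo.exists_normal_rank_four (by norm_num) _ le_rfl hP (E.map B.subtype)
      ⟨Subgroup.map_isMulCommutative E _, ?_⟩ (by rw [Subgroup.card_map_of_injective B.subtype_injective, hE])
    rintro _ ⟨x, -, rfl⟩
    exact hBe x x.2
  haveI := hAn
  haveI := hAe.1
  have key : ∀ X : Subgroup P, Cfsg.IsElementaryAbelian 3 X → 3 ^ 2 ≤ Nat.card X →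
      ¬ Cfsg.PRankLE 3 2 ↥(Subgroup.centralizer (X : Set P)) := by
    intro X hX hX2 hle
    haveI := hX.1
    set W := X ⊔ (A ⊓ Subgroup.centralizer (X : Set P)) with hW
    have hcomm : ∀ a ∈ (X : Set P) ∪ ((A ⊓ Subgroup.centralizer (X : Set P) : Subgroup P) : Set P),
        ∀ b ∈ (X : Set P) ∪ ((A ⊓ Subgroup.centralizer (X : Set P) : Subgroup P) : Set P), a * b = b * a := by
      intro a ha b hb
      rcases ha with ha | ha <;> rcases hb with hb | hb
      · exact congrArg Subtype.val (mul_comm' (⟨a, ha⟩ : X) ⟨b, hb⟩)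
      · exact Subgroup.mem_centralizer_iff.1 hb.2 a ha
      · exact (Subgroup.mem_centralizer_iff.1 ha.2 b hb).symm
      · exact congrArg Subtype.val (mul_comm' (⟨a, ha.1⟩ : A) ⟨b, hb.1⟩)
    have hWcl : W = Subgroup.closure ((X : Set P) ∪ ((A ⊓ Subgroup.centralizer (X : Set P) : Subgroup P) : Set P)) := by
      rw [Subgroup.closure_union, Subgroup.closure_eq, Subgroup.closure_eq]
    haveI : IsMulCommutative W := by rw [hWcl]; exact Subgroup.isMulCommutative_closure hcomm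
    have hWe : ∀ w ∈ W, w ^ 3 = 1 := by
      intro w hw
      rw [hWcl] at hw
      induction hw using Subgroup.closure_induction with
      | mem z hz => rcases hz with hz | hz; exacts [hX.2 z hz, hAe.2 z hz.1]
      | one => simp
      | mul u v hu' hv' hu hv =>
        have hc : u * v = v * u := congrArg Subtype.val
          (mul_comm' (⟨u, hWcl ▸ hu'⟩ : W) ⟨v, hWcl ▸ hv'⟩)
        rw [(show Commute u v from hc).mul_pow, hu, hv, one_mul]
      | inv u _ hu => rw [inv_pow, hu, inv_one]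
    have hWC : W ≤ Subgroup.centralizer (X : Set P) :=
      sup_le (Subgroup.le_centralizer_iff_isMulCommutative.2 hX.1) inf_le_right
    have hW9 : Nat.card W ≤ 3 ^ 2 := by
      have h := hle (W.subgroupOf (Subgroup.centralizer (X : Set P))) inferInstance
        (fun a ha => Subtype.ext (hWe _ ha))
      rwa [Nat.card_congr (Subgroup.subgroupOfEquivOfLe hWC).toEquiv] at h
    have hWX : W = X := (Subgroup.eq_of_le_of_card_ge le_sup_left (hW9.trans hX2)).symm
    by_cases hXA : X ≤ A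
    · have hAC : A ≤ Subgroup.centralizer (X : Set P) :=
        (Subgroup.le_centralizer_iff_isMulCommutative.2 hAe.1).trans (Subgroup.centralizer_le hXA)
      have h1 : A ≤ W := le_sup_of_le_right (le_inf le_rfl hAC)
      have := (Subgroup.card_le_of_le h1).trans hW9
      rw [hA4] at this
      norm_num at this
    obtain ⟨x, hxX, hxA⟩ := SetLike.not_le_iff_exists.1 hXA
    have hXgen : ∀ Y : Subgroup P, Y ≤ X → x ∈ Y → ∀ y ∈ Y, y ≠ 1 → y ∈ A → Y = X := by
      intro Y hY hxY y hyY hy1 hyA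
      refine Subgroup.eq_of_le_of_card_ge hY ?_
      obtain ⟨c, hc⟩ := IsPGroup.iff_card.1 (hP.to_subgroup Y)
      have hX9 : Nat.card X ≤ 3 ^ 2 := hWX ▸ hW9
      refine hX9.trans (hc ▸ Nat.pow_le_pow_right (by norm_num) ?_)
      by_contra hc2
      have hyo : orderOf y = 3 := orderOf_eq_prime (hAe.2 y hyA) hy1
      have hd : orderOf y ∣ Nat.card Y := Subgroup.orderOf_dvd_natCard Y hyY
      have hle : Nat.card Y ≤ 3 ^ 1 := hc ▸ Nat.pow_le_pow_right (by norm_num) (by omega)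
      have hz : Subgroup.zpowers y = Y := Subgroup.eq_of_le_of_card_ge (Subgroup.zpowers_le.2 hyY)
        (by rw [Nat.card_zpowers, hyo]; simpa using hle)
      exact hxA ((Subgroup.zpowers_le.2 hyA) (hz.symm ▸ hxY))
    let φ : A →* A :=
      { toFun := fun a => ⟨x * a * x⁻¹ * (a : P)⁻¹, mul_mem (hAn.conj_mem _ a.2 x) (inv_mem a.2)⟩
        map_one' := Subtype.ext (by simp)
        map_mul' := fun a b => Subtype.ext (by
          show x * (a * b : P) * x⁻¹ * (a * b : P)⁻¹ = (x * a * x⁻¹ * (a : P)⁻¹) * (x * b * x⁻¹ * (b : P)⁻¹)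
          have h : (a : P)⁻¹ * (x * b * x⁻¹) = (x * b * x⁻¹) * (a : P)⁻¹ := congrArg Subtype.val
            (mul_comm' (a⁻¹ : A) ⟨_, hAn.conj_mem _ b.2 x⟩)
          have h' : (a : P)⁻¹ * (b : P)⁻¹ = (b : P)⁻¹ * (a : P)⁻¹ := congrArg Subtype.val (mul_comm' (a⁻¹ : A) b⁻¹)
          calc x * (a * b : P) * x⁻¹ * (a * b : P)⁻¹
              = (x * a * x⁻¹) * (x * b * x⁻¹) * ((b : P)⁻¹ * (a : P)⁻¹) := by group
            _ = (x * a * x⁻¹) * ((x * b * x⁻¹) * (a : P)⁻¹) * (b : P)⁻¹ := by rw [← h']; simp only [mul_assoc]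
            _ = _ := by rw [← h]; simp only [mul_assoc]) }
    have hker : φ.ker.map A.subtype ≤ A ⊓ X := by
      rintro _ ⟨a, ha, rfl⟩
      refine ⟨a.2, ?_⟩
      have hxa : x * (a : P) = (a : P) * x := by
        have := congrArg Subtype.val (MonoidHom.mem_ker.1 ha)
        exact mul_inv_eq_iff_eq_mul.1 (mul_inv_eq_one.1 this)
      by_cases ha1 : (a : P) = 1
      · show (a : P) ∈ X; rw [ha1]; exact one_mem X
      -- an element of A commuting with x centralizes X
      have hz : ∃ y ∈ X, y ≠ 1 ∧ y ∈ A := by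
        by_contra hcon
        push Not at hcon
        have h0 : X ⊓ A = ⊥ := (Subgroup.eq_bot_iff_forall _).2 fun y hy => by_contra fun hy1 => hcon y hy.1 hy1 hy.2
        obtain ⟨v, hv1, hvA, hvx⟩ : ∃ v : P, v ≠ 1 ∧ v ∈ A ∧ ∀ y ∈ X, y * v = v * y := by
          haveI := hP.isNilpotent
          have hne : A ≠ ⊥ := fun e => by rw [e, Subgroup.card_bot] at hA4; norm_num at hA4
          obtain ⟨⟨v, hv⟩, hv1⟩ := (Subgroup.nontrivial_iff_ne_bot _).2 (CfsgLib.PGroupBasic.inf_center_ne_bot A hne) |>.exists_pair_ne |> fun ⟨u, w, huw⟩ =>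
            if hu : u = 1 then (⟨w, fun hw => huw (hu.trans hw.symm)⟩ : ∃ v, v ≠ (1 : ↥(A ⊓ Subgroup.center P))) else ⟨u, hu⟩
          exact ⟨v, fun e => hv1 (Subtype.ext e), hv.1, fun y _ => Subgroup.mem_center_iff.1 hv.2 y⟩
        exact hcon v (hWX ▸ (le_sup_right : _ ≤ W) ⟨hvA, Subgroup.mem_centralizer_iff.2 hvx⟩) hv1 hvA
      obtain ⟨y, hyX, hy1, hyA⟩ := hz
      set Y := X ⊓ Subgroup.centralizer ({(a : P)} : Set P)
      have hY : Y = X := hXgen Y inf_le_left ⟨hxX, Subgroup.mem_centralizer_singleton_iff.2 hxa⟩ y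
        ⟨hyX, Subgroup.mem_centralizer_singleton_iff.2 (congrArg Subtype.val (mul_comm' (⟨y, hyA⟩ : A) a))⟩ hy1 hyA
      refine hWX ▸ (le_sup_right : _ ≤ W) ⟨a.2, Subgroup.mem_centralizer_iff.2 fun g hg => ?_⟩
      have hg' : g ∈ Y := hY.symm ▸ hg
      exact Subgroup.mem_centralizer_singleton_iff.1 hg'.2
    have hker3 : Nat.card φ.ker ≤ 3 := by
      obtain ⟨c, hc⟩ := IsPGroup.iff_card.1 ((hP.to_subgroup A).to_subgroup φ.ker)
      rw [hc]
      refine (Nat.pow_le_pow_right (by norm_num) ?_).trans (pow_one 3).le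
      by_contra hc2
      have h1 : 3 ^ 2 ≤ Nat.card φ.ker := hc ▸ Nat.pow_le_pow_right (by norm_num) (by omega)
      rw [← Subgroup.card_map_of_injective (K := φ.ker) A.subtype_injective] at h1
      have h2 : Nat.card X ≤ Nat.card (A ⊓ X : Subgroup P) :=
        (hWX ▸ hW9).trans (h1.trans (Subgroup.card_le_of_le hker))
      exact hXA ((Subgroup.eq_of_le_of_card_ge inf_le_right h2).ge.trans inf_le_left)
    have hcube : ∀ a : A, φ (φ (φ a)) = 1 := by
      intro a
      refine Subtype.ext ?_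
      let ξ : A → A := fun b => ⟨x * b * x⁻¹, hAn.conj_mem _ b.2 x⟩
      letI : CommGroup A := { (inferInstance : Group A) with mul_comm := mul_comm' }
      have hφ : ∀ b, φ b = ξ b * b⁻¹ := fun b => rfl
      have hξm : ∀ b c, ξ (b * c) = ξ b * ξ c := fun b c => Subtype.ext (by
        show x * ((b : P) * c) * x⁻¹ = x * b * x⁻¹ * (x * c * x⁻¹); group)
      have hξi : ∀ b, ξ b⁻¹ = (ξ b)⁻¹ := fun b => Subtype.ext (by
        show x * (b : P)⁻¹ * x⁻¹ = (x * b * x⁻¹)⁻¹; group)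
      have h3 : ξ (ξ (ξ a)) = a := Subtype.ext (by
        show x * (x * (x * a * x⁻¹) * x⁻¹) * x⁻¹ = (a : P)
        calc _ = x ^ 3 * (a : P) * (x ^ 3)⁻¹ := by simp only [pow_succ, pow_zero, one_mul, mul_inv_rev, mul_assoc]
          _ = _ := by rw [hX.2 x hxX]; simp)
      have hexp : ∀ b : A, b ^ 3 = 1 := fun b => Subtype.ext (hAe.2 b b.2)
      have e : φ (φ (φ a)) = (ξ (ξ a) ^ 3)⁻¹ * ξ a ^ 3 := by
        simp only [hφ, hξm, hξi, h3]
        apply Additive.ofMul.injective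
        simp only [ofMul_mul, ofMul_inv, ofMul_pow]
        abel
      rw [e, hexp, hexp, inv_one, one_mul]
    -- bound |A|
    have hstep : ∀ K : Subgroup A, Nat.card (K.comap φ) ≤ Nat.card K * Nat.card φ.ker := by
      intro K
      have h := Subgroup.card_mul_index ((φ.ker).subgroupOf (K.comap φ))
      rw [← h, mul_comm (Nat.card K)]
      refine Nat.mul_le_mul ?_ ?_
      · exact le_of_eq (Nat.card_congr (Subgroup.subgroupOfEquivOfLe (fun a ha => by
          show φ a ∈ K; rw [MonoidHom.mem_ker.1 ha]; exact one_mem K)).toEquiv)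
      · have hk : (φ.ker).subgroupOf (K.comap φ) = (φ.subgroupComap K).ker := by
          ext a
          rw [Subgroup.mem_subgroupOf, MonoidHom.mem_ker, MonoidHom.mem_ker]
          exact ⟨fun h => Subtype.ext h, fun h => congrArg Subtype.val h⟩
        rw [hk, Subgroup.index_ker]
        exact Nat.card_le_card_of_injective _ Subtype.val_injective
    have htop : ((φ.ker).comap φ).comap φ = ⊤ := eq_top_iff.2 fun a _ => hcube a
    have := (hstep ((φ.ker).comap φ)).trans (Nat.mul_le_mul ((hstep φ.ker).trans (Nat.mul_le_mul hker3 hker3)) hker3)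
    rw [htop, Subgroup.card_top, hA4] at this
    norm_num at this
  intro E E' hE hE2 hE' hE'2
  have hsym : ∀ {A B : Subgroup P}, Relation.ReflTransGen (fun A B : Subgroup P => Cfsg.IsElementaryAbelian 3 A ∧
      3 ^ 2 ≤ Nat.card ↥A ∧ Cfsg.IsElementaryAbelian 3 B ∧ 3 ^ 2 ≤ Nat.card ↥B ∧ ∀ a ∈ A, ∀ b ∈ B, a * b = b * a) A B →
      Relation.ReflTransGen (fun A B : Subgroup P => Cfsg.IsElementaryAbelian 3 A ∧
      3 ^ 2 ≤ Nat.card ↥A ∧ Cfsg.IsElementaryAbelian 3 B ∧ 3 ^ 2 ≤ Nat.card ↥B ∧ ∀ a ∈ A, ∀ b ∈ B, a * b = b * a) B A := by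
    intro A B h
    induction h with
    | refl => exact Relation.ReflTransGen.refl
    | tail _ hs ih =>
      exact Relation.ReflTransGen.head ⟨hs.2.2.1, hs.2.2.2.1, hs.1, hs.2.1, fun a ha b hb => (hs.2.2.2.2 b hb a ha).symm⟩ ih
  exact ((hU E hE hE2).2 (key E hE hE2)).trans (hsym ((hU E' hE' hE'2).2 (key E' hE' hE'2)))

end Cfsg.Agent.S1338
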