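import Cfsg.Statements.S1339
import Cfsg.Agent.LocalB.FStar

set_option autoImplicit false
open Cfsg

namespace Cfsg.Agent.S1339

/-- Let F be a field with 2 elements, n ≥ 3, and t ∈ SL(n, F) a transvection (t = 1 + E_{ij}, i ≠ j). Then the generalized Fitting subgroup of C(t) is O_2(C(t)). -/
theorem result {F : Type*} [Field F] [Fintype F] [DecidableEq F] (hF : Fintype.card F = 2) (n : ℕ) (hn : 3 ≤ n) (i j : Fin n) (hij : i ≠ j) (t : Matrix.SpecialLinearGroup (Fin n) F) (ht : (t : Matrix (Fin n) (Fin n) F) = Matrix.transvection i j 1) : Cfsg.generalizedFittingSubgroup ↥(Subgroup.centralizer ({t} : Set (Matrix.SpecialLinearGroup (Fin n) F))) = Cfsg.pCore 2 ↥(Subgroup.centralizer ({t} : Set (Matrix.SpecialLinearGroup (Fin n) F))) := by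
  classical
  haveI : Fact (Nat.Prime 2) := ⟨Nat.prime_two⟩
  have h2 : (2 : F) = 0 := by
    have h := FiniteField.cast_card_eq_zero F
    rw [hF] at h
    exact_mod_cast h
  have h01 : ∀ x : F, x ≠ 0 → x = 1 := fun x hx => by
    have := FiniteField.pow_card_sub_one_eq_one x hx
    rwa [hF, pow_one] at this
  let C := Subgroup.centralizer ({t} : Set (Matrix.SpecialLinearGroup (Fin n) F))
  have hcomm : ∀ g : C, ((g.1 : Matrix (Fin n) (Fin n) F) * Matrix.single i j (1 : F)) =
      Matrix.single i j (1 : F) * (g.1 : Matrix (Fin n) (Fin n) F) := fun g => by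
    have h := congrArg (fun x : Matrix.SpecialLinearGroup (Fin n) F => (x : Matrix (Fin n) (Fin n) F))
      (Subgroup.mem_centralizer_singleton_iff.1 g.2)
    simp only [Matrix.SpecialLinearGroup.coe_mul, ht, Matrix.transvection, mul_add, add_mul,
      mul_one, one_mul, add_right_inj] at h
    exact h
  have hcol : ∀ g : C, ∀ a, (g.1 : Matrix (Fin n) (Fin n) F) a i = if a = i then (g.1 : Matrix (Fin n) (Fin n) F) j j else 0 := fun g a => by
    have h := congrFun (congrFun (hcomm g) a) j
    rw [Matrix.mul_single_apply_same, mul_one] at h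
    rw [h]
    by_cases ha : a = i
    · rw [if_pos ha, ha, Matrix.single_mul_apply_same, one_mul]
    · rw [if_neg ha, Matrix.single_mul_apply_of_ne _ _ _ _ _ ha]
  have hrow : ∀ g : C, ∀ b, b ≠ j → (g.1 : Matrix (Fin n) (Fin n) F) j b = 0 := fun g b hb => by
    have h := congrFun (congrFun (hcomm g) i) b
    rw [Matrix.mul_single_apply_of_ne _ _ _ _ _ hb, Matrix.single_mul_apply_same, one_mul] at h
    exact h.symm
  have hjj : ∀ g : C, (g.1 : Matrix (Fin n) (Fin n) F) j j = 1 := fun g => by
    refine h01 _ fun h0 => ?_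
    have h1 : (g.1 : Matrix (Fin n) (Fin n) F).det = 0 :=
      Matrix.det_eq_zero_of_row_eq_zero j fun b => by
        by_cases hb : b = j
        · rw [hb]; exact h0
        · exact hrow g b hb
    exact one_ne_zero (g.1.2.symm.trans h1)
  let φ : C →* Matrix {a : Fin n // a ≠ i ∧ a ≠ j} {a : Fin n // a ≠ i ∧ a ≠ j} F :=
    { toFun := fun g => Matrix.of fun a b => (g.1 : Matrix (Fin n) (Fin n) F) a.1 b.1
      map_one' := by
        ext a b
        simp [Matrix.one_apply, Subtype.ext_iff]
      map_mul' := fun g h => by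
        ext a b
        show ((g.1 * h.1 : Matrix.SpecialLinearGroup (Fin n) F) : Matrix (Fin n) (Fin n) F) a.1 b.1 = _
        rw [Matrix.SpecialLinearGroup.coe_mul, Matrix.mul_apply, Matrix.mul_apply]
        refine (Finset.sum_subset_zero_on_sdiff
          (s₁ := Finset.univ.filter fun c => c ≠ i ∧ c ≠ j) (Finset.filter_subset _ _)
          (fun c hc => ?_) (fun c _ => rfl)).symm.trans ?_
        · simp only [Finset.mem_sdiff, Finset.mem_univ, Finset.mem_filter, true_and, not_and,
            not_not] at hc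
          by_cases hci : c = i
          · rw [hci, hcol g a.1, if_neg a.2.1, zero_mul]
          · rw [hc hci, hrow h b.1 b.2.2, mul_zero]
        · exact Finset.sum_subtype _ (by simp) (fun c => (g.1 : Matrix (Fin n) (Fin n) F) a.1 c *
            (h.1 : Matrix (Fin n) (Fin n) F) c b.1) }
  have hker : ∀ g : C, g ∈ φ.ker ↔ ∀ a b, a ≠ i → b ≠ j →
      (g.1 : Matrix (Fin n) (Fin n) F) a b = if a = b then 1 else 0 := fun g => by
    rw [MonoidHom.mem_ker]
    constructor
    · intro h a b ha hb
      by_cases hbi : b = i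
      · rw [hbi, hcol g a, if_neg ha, if_neg ha]
      · by_cases haj : a = j
        · rw [haj, hrow g b hb, if_neg (Ne.symm hb)]
        · have := congrFun (congrFun h ⟨a, ha, haj⟩) ⟨b, hbi, hb⟩
          simpa [φ, Matrix.one_apply, Subtype.ext_iff] using this
    · intro h
      ext a b
      simpa [φ, Matrix.one_apply, Subtype.ext_iff] using h a.1 b.1 a.2.1 b.2.2
  have hQ : IsPGroup 2 φ.ker := fun g => ⟨2, by
    apply Subtype.ext
    apply Subtype.ext
    apply Subtype.ext
    have hz : ∀ a b, a ≠ i → b ≠ j → ((g.1.1 : Matrix (Fin n) (Fin n) F) - 1) a b = 0 :=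
      fun a b ha hb => by
        rw [Matrix.sub_apply, (hker g.1).1 g.2 a b ha hb, Matrix.one_apply, sub_self]
    set N := (g.1.1 : Matrix (Fin n) (Fin n) F) - 1 with hN
    have hj : ∀ b, N j b = 0 := fun b => by
      by_cases hb : b = j
      · rw [hb, hN, Matrix.sub_apply, hjj, Matrix.one_apply_eq, sub_self]
      · exact hz j b hij.symm hb
    have hi : ∀ a, N a i = 0 := fun a => by
      by_cases ha : a = i
      · rw [ha, hN, Matrix.sub_apply, hcol, if_pos rfl, hjj, Matrix.one_apply_eq, sub_self]
      · exact hz a i ha hij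
    have h2N : ∀ a b, a ≠ i ∨ b ≠ j → (N * N) a b = 0 := fun a b hab => by
      rw [Matrix.mul_apply]
      refine Finset.sum_eq_zero fun c _ => ?_
      by_cases hc : c = j
      · rw [hc, hj, mul_zero]
      by_cases hc' : c = i
      · rw [hc', hi, zero_mul]
      rcases hab with ha | hb
      · rw [hz a c ha hc, zero_mul]
      · rw [hz c b hc' hb, mul_zero]
    have h3 : N * N * N = 0 := by
      ext a b
      rw [Matrix.mul_apply]
      refine Finset.sum_eq_zero fun c _ => ?_
      by_cases hc : c = j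
      · rw [hc, hj, mul_zero]
      · rw [h2N a c (Or.inr hc), zero_mul]
    have hd : ∀ M : Matrix (Fin n) (Fin n) F, M + M = 0 := fun M => by
      ext a b
      show M a b + M a b = 0
      rw [← two_mul, h2, zero_mul]
    have hg : (g.1.1 : Matrix (Fin n) (Fin n) F) = 1 + N := by rw [hN]; abel
    show (((g.1.1 : Matrix.SpecialLinearGroup (Fin n) F) ^ (2 ^ 2) : _) : Matrix (Fin n) (Fin n) F) = 1
    rw [Matrix.SpecialLinearGroup.coe_pow, hg]
    calc (1 + N) ^ (2 ^ 2) = ((1 + N) * (1 + N)) * ((1 + N) * (1 + N)) := by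
          rw [show (2 : ℕ) ^ 2 = 2 * 2 from rfl, pow_mul, pow_two, pow_two]
      _ = (1 + N * N) * (1 + N * N) := by
          have e : (1 + N) * (1 + N) = 1 + N * N := by
            calc (1 + N) * (1 + N) = 1 + N * N + (N + N) := by noncomm_ring
              _ = 1 + N * N := by rw [hd, add_zero]
          rw [e]
      _ = 1 + N * N * N * N + (N * N + N * N) := by noncomm_ring
      _ = 1 := by rw [h3, zero_mul, hd, add_zero, add_zero]⟩
  have hle : φ.ker ≤ Cfsg.pCore 2 C := CfsgLib.Solvable.le_pCore 2 (MonoidHom.normal_ker φ) hQ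
  refine CfsgLib.LocalB.fstar_eq_pCore (fun x hx => hle ((hker x).2 fun a b ha hb => ?_))
  let T : Matrix.SpecialLinearGroup (Fin n) F := Matrix.SpecialLinearGroup.transvection hb (1 : F)
  have hT : (T : Matrix (Fin n) (Fin n) F) = Matrix.transvection b j 1 := rfl
  have hTC : T ∈ C := by
    rw [Subgroup.mem_centralizer_singleton_iff]
    apply Subtype.ext
    rw [Matrix.SpecialLinearGroup.coe_mul, Matrix.SpecialLinearGroup.coe_mul, hT, ht]
    simp only [Matrix.transvection, add_mul, mul_add, one_mul, mul_one]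
    rw [Matrix.single_mul_single_of_ne _ _ _ _ (Ne.symm hij),
      Matrix.single_mul_single_of_ne _ _ _ _ (Ne.symm hb)]
    abel
  have hTQ : (⟨T, hTC⟩ : C) ∈ φ.ker := (hker _).2 fun p q _ hq => by
    show (T : Matrix (Fin n) (Fin n) F) p q = _
    rw [hT, Matrix.transvection, Matrix.add_apply, Matrix.one_apply,
      Matrix.single_apply_of_ne _ _ _ _ _ (by simp [Ne.symm hq]), add_zero]
  have h := congrArg (fun y : C => (y.1 : Matrix (Fin n) (Fin n) F) a j)
    (Subgroup.mem_centralizer_iff.1 hx _ (hle hTQ))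
  simp only [Subgroup.coe_mul, Matrix.SpecialLinearGroup.coe_mul, hT, Matrix.transvection, add_mul,
    mul_add, one_mul, mul_one, Matrix.add_apply, add_right_inj, Matrix.mul_single_apply_same] at h
  rw [← h]
  by_cases hab : a = b
  · rw [if_pos hab, hab, Matrix.single_mul_apply_same, one_mul, hjj]
  · rw [if_neg hab, Matrix.single_mul_apply_of_ne _ _ _ _ _ hab]

end Cfsg.Agent.S1339
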