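import Cfsg.Statements.S1340
import Cfsg.Agent.Invol.GLStdInvolution
import Cfsg.Agent.Classical.Transvections
import Cfsg.Agent.Invol.IsolatedApps

set_option autoImplicit false
open Cfsg

namespace Cfsg.Agent.S1340

/-- Let F be a finite field of odd order and n ≥ 3 with (n, |F|) ≠ (3, 3). Then GL(n, F) has a non-central involution t such that C(t) / O(C(t)) has a component. -/
theorem result {F : Type*} [Field F] [Fintype F] [DecidableEq F] (hF : Odd (Fintype.card F)) (n : ℕ) (hn : 3 ≤ n) (h33 : ¬ (n = 3 ∧ Fintype.card F = 3)) : ∃ t : Matrix.GeneralLinearGroup (Fin n) F, orderOf t = 2 ∧ t ∉ Subgroup.center (Matrix.GeneralLinearGroup (Fin n) F) ∧ Cfsg.HasComponent (↥(Subgroup.centralizer ({t} : Set (Matrix.GeneralLinearGroup (Fin n) F))) ⧸ Cfsg.oddCore ↥(Subgroup.centralizer ({t} : Set (Matrix.GeneralLinearGroup (Fin n) F)))) := by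
  classical
  obtain ⟨m, rfl⟩ : ∃ m, n = m + 1 := ⟨n - 1, by omega⟩
  haveI : Nontrivial (Fin m) := Fin.nontrivial_iff_two_le.mpr (by omega)
  have hpar : ¬ ((2 : F) = 0) := by
    intro h
    have hc : ringChar F = 2 := CharP.ringChar_of_prime_eq_zero Nat.prime_two (by exact_mod_cast h)
    have := FiniteField.even_card_of_char_two hc
    rw [Nat.odd_iff] at hF; omega
  have hx : 3 ≤ Fintype.card (Fin m) ∨ ∃ x : F, x ≠ 0 ∧ x ^ 2 ≠ 1 := by
    rw [Fintype.card_fin]
    rcases Nat.lt_or_ge m 3 with h | h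
    · refine Or.inr ?_
      by_contra hall
      simp only [not_exists, not_and, not_not] at hall
      have hsub : (Finset.univ : Finset F) ⊆ {0, 1, -1} := fun x _ => by
        rcases eq_or_ne x 0 with h0 | h0
        · simp [h0]
        · rcases sq_eq_one_iff.1 (hall x h0) with h1 | h1 <;> simp [h1]
      have h1 := (Finset.card_le_card hsub).trans Finset.card_le_three
      rw [Finset.card_univ] at h1
      have h2 := Fintype.one_lt_card (α := F)
      have h3 : Fintype.card F = 3 := by rw [Nat.odd_iff] at hF; omega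
      exact h33 ⟨by omega, h3⟩
    · exact Or.inl h
  haveI hperf : Group.IsPerfect (Matrix.SpecialLinearGroup (Fin m) F) :=
    ⟨CfsgLib.Linear.commutator_SL_eq_top hx⟩
  have hQ : Cfsg.IsQuasisimple (Matrix.SpecialLinearGroup (Fin m) F) :=
    ⟨hperf, CfsgLib.Linear.isSimpleGroup_PSL hx⟩
  obtain ⟨t, ht2, htc, K, hKn, ⟨φ⟩⟩ := CfsgLib.GLStd.split (F := F) hpar m (by omega)
  obtain ⟨a, ha⟩ := CfsgLib.GLStd.exists_involution (F := F) hpar m (by omega)
  refine ⟨t, ht2, htc, K.map (QuotientGroup.mk' _), (hKn.map _ (QuotientGroup.mk'_surjective _)).isSubnormal, ?_⟩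
  let C := Subgroup.centralizer ({t} : Set (Matrix.GeneralLinearGroup (Fin (m + 1)) F))
  let f := (((QuotientGroup.mk' (Cfsg.oddCore C)).subgroupMap K).comp φ.toMonoidHom)
  have hf : Function.Surjective f :=
    (MonoidHom.subgroupMap_surjective _ _).comp φ.surjective
  refine CfsgLib.GLStd.isQuasisimple_image f hf ?_ hQ
  rcases CfsgLib.Comp.quasisimple_normal hQ (MonoidHom.normal_ker f) with h | h
  · exfalso
    have h1 : f a = 1 := MonoidHom.mem_ker.1 (h ▸ Subgroup.mem_top a)
    have h2 : ((φ a : K) : C) ∈ Cfsg.oddCore C :=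
      (QuotientGroup.eq_one_iff _).1 (congrArg Subtype.val h1)
    have h3 := CfsgLib.IsoApps.odd_of_mem_oddCore h2
    rw [Subgroup.orderOf_coe, MulEquiv.orderOf_eq, ha] at h3
    exact absurd h3 (by decide)
  · exact h

end Cfsg.Agent.S1340
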