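import Cfsg.Statements.S1343
import Cfsg.Agent.Comp.ExtTwoLayer
-- import your own Cfsg.Agent.* helpers here

set_option autoImplicit false
open Cfsg

namespace Cfsg.Agent.S1343

/-- Let X be finite. Then L*_{2'}(X) = L_{2'}(X) ⊔ F for some subgroup F of odd order normalized by a Sylow 2-subgroup of X. -/
theorem result {X : Type*} [Group X] [Finite X] : ∃ F : Subgroup X, Odd (Nat.card ↥F) ∧ (∃ S : Sylow 2 X, (S : Subgroup X) ≤ Subgroup.normalizer (F : Set X)) ∧ Cfsg.extendedTwoLayer X = Cfsg.pLayer 2 X ⊔ F := by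
  open CfsgLib ExtTwoLayer Subgroup in
  haveI : Fact (Nat.Prime 2) := ⟨Nat.prime_two⟩
  obtain ⟨T⟩ := (inferInstance : Nonempty (Sylow 2 ↥(base X)))
  haveI : (Cfsg.oddCore X).Normal := Solvable.pPrimeCore_normal 2
  haveI := base_normal (G := X)
  refine ⟨Cfsg.oddCore X ⊔ coreCent (sylowBase T), Nat.coprime_two_right.1 ?_, ?_, by
    rw [extendedTwoLayer_eq T, sup_assoc]⟩
  · rw [sup_comm]
    exact Nat.Coprime.coprime_dvd_left (Solvable.card_sup_dvd le_normalizer_of_normal)
      (Nat.Coprime.mul_left (coprime_card_coreCent _) (Solvable.coprime_card_pPrimeCore 2))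
  · obtain ⟨S, hS⟩ := (T.2.map (base X).subtype).exists_le_sylow
    have hST : sylowBase T = (S : Subgroup X) ⊓ base X := by
      refine le_antisymm (le_inf hS (map_subtype_le _)) ?_
      have h2 : (T : Subgroup ↥(base X)) ≤ (S : Subgroup X).subgroupOf (base X) :=
        fun x hx => hS ⟨x, hx, rfl⟩
      have h3 := T.3 (S.2.comap_subtype) h2
      rw [sylowBase, ← h3]
      exact (subgroupOf_map_subtype _ _).ge
    refine ⟨S, le_trans (le_inf le_normalizer_of_normal ?_) (normalizer_inf_normalizer_le_normalizer_sup _ _)⟩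
    refine le_trans ?_ (normalizer_le_normalizer_coreCent _)
    rw [hST]
    exact (le_inf le_normalizer le_normalizer_of_normal).trans inf_normalizer_le_normalizer_inf

end Cfsg.Agent.S1343
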