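import Cfsg.Statements.S1346
import Cfsg.Agent.Balance2.StarBalance
-- import your own Cfsg.Agent.* helpers here

set_option autoImplicit false
open Cfsg

namespace Cfsg.Agent.S1346

/-- Let G be a finite group all of whose 2-local subgroups have known non-abelian composition factors, and x, y commuting involutions. Then the extended 2-layer of L*_{2'}(C_G(x)) ∩ C_G(y) (as a group) is contained in L*_{2'}(C_G(y)). -/
theorem result {G : Type*} [Group G] [Finite G] (hK : ∀ T : Subgroup G, IsPGroup 2 ↥T → T ≠ ⊥ → Cfsg.IsCompositionKGroup ↥(Subgroup.normalizer (T : Set G))) (x y : G) (hx : orderOf x = 2) (hy : orderOf y = 2) (hxy : x * y = y * x) : (Cfsg.extendedTwoLayer ↥((Cfsg.extendedTwoLayer ↥(Subgroup.centralizer ({x} : Set G))).map (Subgroup.centralizer ({x} : Set G)).subtype ⊓ Subgroup.centralizer ({y} : Set G))).map ((Cfsg.extendedTwoLayer ↥(Subgroup.centralizer ({x} : Set G))).map (Subgroup.centralizer ({x} : Set G)).subtype ⊓ Subgroup.centralizer ({y} : Set G)).subtype ≤ (Cfsg.extendedTwoLayer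 ↥(Subgroup.centralizer ({y} : Set G))).map (Subgroup.centralizer ({y} : Set G)).subtype := by
  open CfsgLib Subgroup in
  haveI : Fact (Nat.Prime 2) := ⟨Nat.prime_two⟩
  set Cx := Subgroup.centralizer ({x} : Set G) with hCx
  set Cy := Subgroup.centralizer ({y} : Set G) with hCy
  set L := (Cfsg.extendedTwoLayer ↥Cx).map Cx.subtype with hL
  set ι : ↥(L ⊓ Cy) →* ↥Cy := Subgroup.inclusion inf_le_right with hι
  have hxy' : x ∈ Cy := mem_centralizer_singleton_iff.2 hxy
  have hx' : IsPGroup 2 ↥(zpowers (⟨x, hxy'⟩ : Cy)) := IsPGroup.of_card (n := 1) (by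
    rw [Nat.card_zpowers, Subgroup.orderOf_mk, hx, pow_one])
  have hC : ∀ a : Cy, a ∈ centralizer (zpowers (⟨x, hxy'⟩ : Cy) : Set Cy) ↔ (a : G) ∈ Cx := by
    intro a
    rw [LocalBalance.centralizer_zpowers_eq, mem_centralizer_singleton_iff,
      mem_centralizer_singleton_iff]
    exact ⟨fun h => congrArg Subtype.val h, fun h => Subtype.ext h⟩
  have hLn : Cx ≤ normalizer (L : Set G) := by
    have := ExtTwoLayer.extendedTwoLayer_normal (G := ↥Cx)
    exact Comp.normal_map_subtype_iff.1 this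
  have h := Balance2.extendedTwoLayer_map_le hx' ι (inclusion_injective inf_le_right)
    (by
      rintro _ ⟨a, rfl⟩
      exact (hC _).2 ((map_subtype_le _ : L ≤ Cx) a.2.1))
    (by
      intro a ha
      refine mem_normalizer_iff.2 fun b => ?_
      have hr : ∀ b : Cy, b ∈ ι.range ↔ (b : G) ∈ L := fun b => ⟨fun ⟨c, hc⟩ => hc ▸ c.2.1,
        fun hb => ⟨⟨b, hb, b.2⟩, Subtype.ext rfl⟩⟩
      rw [hr, hr]
      exact mem_normalizer_iff.1 (hLn ((hC a).1 ha)) (b : G))
  refine le_trans (le_of_eq ?_) (map_mono (f := Cy.subtype) h)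
  rw [Subgroup.map_map, hι, subtype_comp_inclusion]

end Cfsg.Agent.S1346
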