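import Cfsg.Statements.S1374
import Cfsg.Agent.OddLocal.KappaSupport
-- import your own Cfsg.Agent.* helpers here

set_option autoImplicit false
open Cfsg

namespace Cfsg.Agent.S1374

/-- Let G be a minimal simple group of odd order, M a maximal subgroup and x a non-identity element of M_σ. Then C_M(x) has order coprime to its index in C_G(x), and C_G(x) has a normal subgroup R complementing C_M(x) such that for every conjugate gMg⁻¹ containing x there is exactly one r ∈ R with rMr⁻¹ = gMg⁻¹. -/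
theorem result {G : Type*} [Group G] [Finite G] (hG : Cfsg.IsMinSimpleOddOrder G)
    (M : Subgroup G) (hM : IsCoatom M) (x : G) (hx : x ∈ Cfsg.sigmaCore M) (hx1 : x ≠ 1) :
    (Nat.card ↥(M ⊓ Subgroup.centralizer ({x} : Set G))).Coprime ((M ⊓ Subgroup.centralizer ({x} : Set G)).relIndex (Subgroup.centralizer ({x} : Set G))) ∧
      ∃ R : Subgroup G, Subgroup.centralizer ({x} : Set G) ≤ Subgroup.normalizer (R : Set G) ∧ Cfsg.IsComplIn (M ⊓ Subgroup.centralizer ({x} : Set G)) R (Subgroup.centralizer ({x} : Set G)) ∧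
        ∀ g : G, x ∈ M.map (MulAut.conj g).toMonoidHom → ∃! r : G, r ∈ R ∧ M.map (MulAut.conj r).toMonoidHom = M.map (MulAut.conj g).toMonoidHom := by
  set C := Subgroup.centralizer ({x} : Set G) with hC
  have hfix : M.map (MulAut.conj (1 : G)).toMonoidHom = M := by rw [map_one]; exact Subgroup.map_id M
  by_cases hxC : C ≤ M
  · have hA : M ⊓ C = C := inf_eq_right.2 hxC
    refine ⟨?_, ⊥, fun c _ => ?_, ⟨inf_le_right, bot_le, inf_bot_eq _, fun c hc => ⟨c, ⟨hxC hc, hc⟩, 1,
      Subgroup.mem_bot.2 rfl, (mul_one c).symm⟩⟩, fun g hg => ⟨1, ⟨Subgroup.mem_bot.2 rfl, ?_⟩,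
      fun r hr => Subgroup.mem_bot.1 hr.1⟩⟩
    · rw [hA, Subgroup.relIndex_self]
      exact Nat.coprime_one_right _
    · exact Subgroup.mem_normalizer_iff.2 fun h => by simp [Subgroup.mem_bot, mul_inv_eq_one]
    · rcases CfsgLib.OddLocal.Kap.conjugate_over hG hM hx hx1 hg with e | ⟨N, -, -, h, -⟩
      · rw [e, hfix]
      · exact absurd hxC h
  obtain ⟨N, hN, hCN, hu, -, hcompl, -, -, -, -, -, -⟩ := CfsgLib.OddLocal.Kap.exists_over hG hM hx hx1 hxC
  set K := Cfsg.sigmaCore N with hK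
  have hxMN : x ∈ M ⊓ N :=
    ⟨Subgroup.map_subtype_le _ hx, hCN (Subgroup.mem_centralizer_singleton_iff.2 rfl)⟩
  have hcomplC : Cfsg.IsComplIn (M ⊓ C) (K ⊓ C) C := ⟨inf_le_right, inf_le_right,
    le_bot_iff.1 ((le_inf (le_inf (inf_le_left.trans inf_le_left)
      (inf_le_left.trans (inf_le_right.trans hCN))) (inf_le_right.trans inf_le_left)).trans hcompl.2.2.1.le),
    fun c hc => CfsgLib.OddLocal.Kap.centralizer_split hcompl hxMN hc (hCN hc)⟩
  refine ⟨?_, K ⊓ C, ?_, hcomplC, fun g hg => ?_⟩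
  · have h1 : (M ⊓ C).relIndex C = Nat.card ↥(K ⊓ C) := by
      refine Nat.eq_of_mul_eq_mul_left (Nat.card_pos (α := ↥(M ⊓ C))) ?_
      rw [← CfsgLib.OddLocal.FittingHall.card_complIn hcomplC]
      exact CfsgLib.InvariantHall.relIndex_mul_card inf_le_right
    rw [h1]
    refine Nat.coprime_of_dvd fun r hr h2 h3 => ?_
    exact (CfsgLib.OddLocal.Compl.card_eq hG hN hcompl).2.2 r hr
      (h2.trans (Subgroup.card_dvd_of_le (le_inf inf_le_left (inf_le_right.trans hCN))))
      ((CfsgLib.OddLocal.Sig.sigma_core hG hN).1.2.1 r hr (h3.trans (Subgroup.card_dvd_of_le inf_le_left)))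
  · exact (le_inf (hCN.trans (CfsgLib.OddLocal.TH.le_normalizer_core N)) Subgroup.le_normalizer).trans
      Subgroup.inf_normalizer_le_normalizer_inf
  · rcases CfsgLib.OddLocal.Kap.conjugate_over hG hM hx hx1 hg with e | ⟨N', hN', hCN', -, r, hr, e⟩
    · refine ⟨1, ⟨one_mem _, by rw [e, hfix]⟩, fun r' ⟨hr', e'⟩ => ?_⟩
      exact CfsgLib.OddLocal.Kap.conjugate_injective hG hM hcompl hr'.1 (one_mem _) (by rw [e', e, hfix])
    · obtain rfl := hu N' hN' hCN'
      exact ⟨r, ⟨hr, e⟩, fun r' ⟨hr', e'⟩ =>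
        CfsgLib.OddLocal.Kap.conjugate_injective hG hM hcompl hr'.1 hr.1 (by rw [e', e])⟩

end Cfsg.Agent.S1374
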