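import Cfsg.Statements.S1376
import Cfsg.Agent.OddLocal.KappaFrobenius
-- import your own Cfsg.Agent.* helpers here

set_option autoImplicit false
open Cfsg

namespace Cfsg.Agent.S1376

/-- Let G be a minimal simple group of odd order, M a maximal subgroup, x ≠ 1 in M_σ with C_G(x) not contained in M, and N a maximal subgroup containing C_G(x) with κ(N) nonempty. Then κ(M) is empty, M has a cyclic Frobenius complement (M is a Frobenius group), and M_F is not a TI-subset of G. -/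
theorem result {G : Type*} [Group G] [Finite G] (hG : Cfsg.IsMinSimpleOddOrder G)
    (M : Subgroup G) (hM : IsCoatom M) (x : G) (hx : x ∈ Cfsg.sigmaCore M) (hx1 : x ≠ 1) (hxM : ¬ Subgroup.centralizer ({x} : Set G) ≤ M)
    (N : Subgroup G) (hN : IsCoatom N) (hxN : Subgroup.centralizer ({x} : Set G) ≤ N) (hkN : (Cfsg.kappa N).Nonempty) :
    Cfsg.kappa M = ∅ ∧ (∃ E : Subgroup ↥M, Cfsg.IsFrobeniusComplement E ∧ IsCyclic E) ∧ ¬ Cfsg.IsTISubset (Cfsg.fittingHallOf M : Set G) := by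
  obtain ⟨h1, -, h3, hnil⟩ := CfsgLib.OddLocal.Kap.supported_structure hG hM hx hx1 hxM hN hxN hkN
  refine ⟨h1, h3, fun hTI => ?_⟩
  rw [CfsgLib.OddLocal.Kap.fittingHallOf_eq hG hM hnil] at hTI
  obtain ⟨c, hc, hcM⟩ := SetLike.not_le_iff_exists.1 hxM
  have hσ1 := CfsgLib.OddLocal.Tau.sigmaCore_ne_bot hG hM (CfsgLib.OddLocal.Kap.one_lt_card_coatom hG hM)
  have hnorm : Subgroup.normalizer (Cfsg.sigmaCore M : Set G) = M :=
    CfsgLib.OddLocal.Uniq.coatom_normalizer_eq hG hM (Subgroup.map_subtype_le _)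
      (CfsgLib.OddLocal.TH.le_normalizer_core M) hσ1
  refine hx1 (hTI c (fun h => hcM (hnorm.le h)) x hx ?_)
  rw [Subgroup.mem_centralizer_singleton_iff.1 hc, mul_inv_cancel_right]
  exact hx

end Cfsg.Agent.S1376
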