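import Cfsg.Statements.S1386
-- import your own Cfsg.Agent.* helpers here

set_option autoImplicit false
open Cfsg

namespace Cfsg.Agent.S1386

/-- Let G be a finite group, W₁, W₂ subgroups forming a self-normalizing cyclic pair, S a subgroup with W₂ ≤ S and W₁ a complement to S' in S, and (W₁, U, W₂') type-P data for S. Then W₂' = W₂ (that is, C_{S'}(W₁) = W₂). -/
theorem result {G : Type*} [Group G] [Finite G] (W₁ W₂ S U W₂' : Subgroup G) (hW : Cfsg.IsSelfNormalizingCyclic W₁ W₂)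
    (hSW : Cfsg.IsComplIn ⁅S, S⁆ W₁ S) (hW₂S : W₂ ≤ S) (hP : Cfsg.IsTypePWith S W₁ U W₂') :
    W₂' = W₂ := by
  classical
  -- coprime orders in an internal cyclic direct product
  have cop : ∀ A B : Subgroup G, A ⊓ B = ⊥ → (∀ a ∈ A, ∀ b ∈ B, a * b = b * a) →
      IsCyclic ↥(A ⊔ B) → (Nat.card A).Coprime (Nat.card B) := by
    intro A B hAB hc hcyc
    let f : A × B →* G := A.subtype.noncommCoprod B.subtype (fun a b => hc a a.2 b b.2)
    have hf : Function.Injective f := by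
      rw [injective_iff_map_eq_one]
      rintro ⟨a, b⟩ h
      have h' : (a : G) * b = 1 := h
      have ha : (a : G) ∈ A ⊓ B := ⟨a.2, by rw [eq_inv_of_mul_eq_one_left h']; exact B.inv_mem b.2⟩
      rw [hAB, Subgroup.mem_bot] at ha
      rw [ha, one_mul] at h'
      exact Prod.ext (Subtype.ext ha) (Subtype.ext h')
    let g : A × B →* ↥(A ⊔ B) := f.codRestrict (A ⊔ B) fun x =>
      mul_mem (Subgroup.mem_sup_left x.1.2) (Subgroup.mem_sup_right x.2.2)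
    have hg : Function.Injective g := fun x y h => hf (congrArg Subtype.val h)
    have : IsCyclic (A × B) := isCyclic_of_injective g hg
    exact coprime_card_of_isCyclic_prod A B
  obtain ⟨hW1, hW2, hbot, hcomm, hcyc, hN⟩ := hW
  obtain ⟨-, hW2', hbot', hcomm', hcyc', -⟩ := hP.selfNormalizing
  obtain ⟨a₀, ha₀, ha₀1⟩ := W₁.bot_or_exists_ne_one.resolve_left hW1
  have hC : ⁅S, S⁆ ⊓ Subgroup.centralizer ({a₀} : Set G) = W₂' := hP.W₂_centralizer a₀ ha₀ ha₀1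
  have hle : W₂ ≤ W₂' := by
    intro w hw
    obtain ⟨s, hs, b, hb, rfl⟩ := hSW.2.2.2 w (hW₂S hw)
    have hW1ab : ∀ x ∈ W₁, ∀ y ∈ W₁, x * y = y * x := fun x hx y hy => by
      have := hP.W₁_cyclic
      let _ := IsCyclic.commGroup (α := W₁)
      exact congrArg Subtype.val (mul_comm (⟨x, hx⟩ : W₁) ⟨y, hy⟩)
    have hsa : s ∈ W₂' := by
      rw [← hC]
      refine ⟨hs, Subgroup.mem_centralizer_singleton_iff.2 ?_⟩
      have e1 : Commute a₀ (s * b) := hcomm a₀ ha₀ _ hw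
      have e2 : Commute a₀ b⁻¹ := hW1ab a₀ ha₀ _ (inv_mem hb)
      have e3 := e1.mul_right e2
      rw [mul_inv_cancel_right] at e3
      exact e3.symm.eq
    have hk : b ^ Nat.card W₂ = 1 := by
      have h0 : (s * b) ^ Nat.card W₂ = 1 :=
        congrArg Subtype.val (pow_card_eq_one' (x := (⟨_, hw⟩ : W₂)))
      rw [(show Commute s b from (hcomm' b hb s hsa).symm).mul_pow] at h0
      have hb' : b ^ Nat.card W₂ ∈ W₁ ⊓ W₂' :=
        ⟨pow_mem hb _, by rw [eq_inv_of_mul_eq_one_right h0]; exact W₂'.inv_mem (pow_mem hsa _)⟩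
      rwa [hbot', Subgroup.mem_bot] at hb'
    have hb1 : b ^ Nat.card W₁ = 1 := congrArg Subtype.val (pow_card_eq_one' (x := (⟨b, hb⟩ : W₁)))
    have hone : b = 1 := by
      rw [← pow_one b, ← (cop W₁ W₂ hbot hcomm hcyc).gcd_eq_one]
      exact pow_gcd_eq_one.2 ⟨hb1, hk⟩
    rw [hone, mul_one]; exact hsa
  refine le_antisymm ?_ hle
  intro w hw
  obtain ⟨b₀, hb₀, hb₀1⟩ := W₂.bot_or_exists_ne_one.resolve_left hW2
  let _ := hcyc'.commGroup
  have hab : ∀ x ∈ W₁ ⊔ W₂', ∀ y ∈ W₁ ⊔ W₂', x * y = y * x := fun x hx y hy =>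
    congrArg Subtype.val (mul_comm (⟨x, hx⟩ : ↥(W₁ ⊔ W₂')) ⟨y, hy⟩)
  have hX : ({a₀ * b₀} : Set G) ⊆ (↑(W₁ ⊔ W₂) : Set G) \ (↑W₁ ∪ ↑W₂) := by
    rintro x rfl
    refine ⟨mul_mem (Subgroup.mem_sup_left ha₀) (Subgroup.mem_sup_right hb₀), ?_⟩
    rintro (h | h)
    · have : b₀ ∈ W₁ ⊓ W₂ := ⟨by simpa using mul_mem (inv_mem ha₀) h, hb₀⟩
      rw [hbot] at this; exact hb₀1 this
    · have : a₀ ∈ W₁ ⊓ W₂ := ⟨ha₀, by simpa using mul_mem h (inv_mem hb₀)⟩
      rw [hbot] at this; exact ha₀1 this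
  have hx' : a₀ * b₀ ∈ W₁ ⊔ W₂' :=
    mul_mem (Subgroup.mem_sup_left ha₀) (Subgroup.mem_sup_right (hle hb₀))
  have hwN : w ∈ Subgroup.normalizer ({a₀ * b₀} : Set G) := by
    refine Subgroup.mem_set_normalizer_iff''.2 fun n => ?_
    have h := hab w (Subgroup.mem_sup_right hw) _ hx'
    simp only [Set.mem_singleton_iff]
    constructor
    · rintro rfl; rw [mul_assoc, ← h, inv_mul_cancel_left]
    · intro e
      have : w * (w⁻¹ * n * w) * w⁻¹ = w * (a₀ * b₀) * w⁻¹ := by rw [e]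
      rw [h, mul_inv_cancel_right] at this
      rw [← this]; group
  rw [hN _ hX (Set.singleton_nonempty _)] at hwN
  have hmem : ∀ t ∈ W₁ ⊔ W₂, ∃ a ∈ W₁, ∃ b ∈ W₂, t = a * b := by
    intro t ht
    let f : W₁ × W₂ →* G := W₁.subtype.noncommCoprod W₂.subtype (fun a b => hcomm a a.2 b b.2)
    have hle' : W₁ ⊔ W₂ ≤ f.range := sup_le (fun x hx => ⟨(⟨x, hx⟩, 1), mul_one x⟩)
      (fun x hx => ⟨(1, ⟨x, hx⟩), one_mul x⟩)
    obtain ⟨⟨⟨a, ha⟩, ⟨b, hb⟩⟩, he⟩ := hle' ht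
    exact ⟨a, ha, b, hb, he.symm⟩
  obtain ⟨a, ha, b, hb, rfl⟩ := hmem _ hwN
  have : a ∈ W₁ ⊓ W₂' := ⟨ha, by simpa using mul_mem hw (inv_mem (hle hb))⟩
  rw [hbot', Subgroup.mem_bot] at this
  rw [this, one_mul]; exact hb

end Cfsg.Agent.S1386
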