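import Cfsg.Statements.S1398
import Cfsg.Agent.OddLocal.UniquenessLemma
-- import your own Cfsg.Agent.* helpers here

set_option autoImplicit false
open Cfsg

namespace Cfsg.Agent.S1398

/-- Let G be a minimal simple group of odd order, M a maximal subgroup, p a prime, and B a noncyclic elementary abelian p-subgroup of M. If C_G(b) ≤ M for every non-identity b ∈ B, or if every subgroup of G of order coprime to p normalized by B is contained in M, then M is the only maximal subgroup of G containing B. -/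
theorem result {G : Type*} [Group G] [Finite G] (hG : Cfsg.IsMinSimpleOddOrder G)
    (M : Subgroup G) (hM : IsCoatom M) (p : ℕ) [Fact p.Prime] (B : Subgroup G) (hBM : B ≤ M)
    (hBe : Cfsg.IsElementaryAbelian p B) (hBnc : ¬ IsCyclic B)
    (h : (∀ b ∈ B, b ≠ 1 → Subgroup.centralizer ({b} : Set G) ≤ M) ∨
      ∀ Y ∈ Cfsg.invSubgroups ⊤ B (Cfsg.primesNotDvd p), Y ≤ M) :
    Cfsg.InUniqueMaximal B := by
  have hp : p.Prime := Fact.out
  have hBp : IsPGroup p B := CfsgLib.Signalizer.isPGroup hBe
  obtain ⟨k, hk⟩ := IsPGroup.iff_card.1 hBp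
  have hk2 : 2 ≤ k := by
    by_contra hlt
    rcases (show k = 0 ∨ k = 1 by omega) with rfl | rfl
    · exact hBnc (by rw [Subgroup.eq_bot_of_card_eq B (by simpa using hk)]; infer_instance)
    · exact hBnc (isCyclic_of_prime_card (p := p) (by simpa using hk))
  have hB1 : B ≠ ⊥ := fun h => hBnc (by rw [h]; infer_instance)
  refine CfsgLib.OddLocal.Uniq.unique_of_invariant hG hM hBM hBe hB1 fun Y hY hYc => ?_
  rcases h with h | h
  · exact CfsgLib.Signalizer.le_of_forall_centralizer hBe le_rfl
      (hk ▸ Nat.pow_le_pow_right hp.pos hk2) hY ((Nat.Prime.coprime_iff_not_dvd hp).1 hYc.symm)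
      fun b hb hb1 => inf_le_right.trans (h b hb hb1)
  · exact h Y ⟨le_top, fun q hq hqY => ⟨hq, fun hqp => hp.not_dvd_one
      (hYc ▸ Nat.dvd_gcd ((Nat.prime_dvd_prime_iff_eq hq hp).1 hqp ▸ hqY) dvd_rfl)⟩, hY⟩

end Cfsg.Agent.S1398
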