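import Cfsg.Statements.S1428
import Cfsg.Agent.OddLocal.TauOneFixed
-- import your own Cfsg.Agent.* helpers here

set_option autoImplicit false
open Cfsg

namespace Cfsg.Agent.S1428

/-- Let G be a minimal simple group of odd order, M a maximal subgroup, E a complement to M_σ in M, p ∈ τ₁(M), P ≤ E a subgroup of order p, and R a subgroup of prime order of E ∩ C_G(P). Then M_σ ∩ C_G(P) ≤ M_σ ∩ C_G(R). -/
theorem result {G : Type*} [Group G] [Finite G] (hG : Cfsg.IsMinSimpleOddOrder G)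
    (M : Subgroup G) (hM : IsCoatom M) (E : Subgroup G) (hE : Cfsg.IsComplIn E (Cfsg.sigmaCore M) M) (p : ℕ) (hp : p ∈ Cfsg.tau1 M) (P : Subgroup G) (hPE : P ≤ E) (hP : Nat.card P = p)
    (R : Subgroup G) (hRE : R ≤ E ⊓ Subgroup.centralizer (P : Set G)) (hR : (Nat.card R).Prime) :
    Cfsg.sigmaCore M ⊓ Subgroup.centralizer (P : Set G) ≤ Cfsg.sigmaCore M ⊓ Subgroup.centralizer (R : Set G) := by
  classical
  obtain ⟨hpp, hpσ, -, hpd, hr1⟩ := hp
  haveI := Fact.mk hpp
  haveI := Fact.mk hR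
  obtain ⟨a, ha⟩ := exists_prime_orderOf_dvd_card' (G := P) p (by rw [hP])
  obtain ⟨b, hb⟩ := exists_prime_orderOf_dvd_card' (G := R) (Nat.card R) dvd_rfl
  have hbRE := hRE b.2
  have hab : Commute (b : G) (a : G) := ((Subgroup.mem_centralizer_iff.1 hbRE.2) a a.2).symm
  refine le_inf inf_le_left ?_
  intro x hx
  have h1 : x ∈ Subgroup.centralizer ({(b : G)} : Set G) :=
    CfsgLib.OddLocal.Tau.tau_one_fixed hG hM hE hpσ hpd hr1 (by rw [Subgroup.orderOf_coe, ha]) (hPE a.2)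
      (show orderOf (b : G) = Nat.card R by rw [Subgroup.orderOf_coe, hb]) hbRE.1 hab
      ⟨hx.1, Subgroup.centralizer_le (Set.singleton_subset_iff.2 a.2) hx.2⟩
  have e : Subgroup.zpowers (b : G) = R := Subgroup.eq_of_le_of_card_ge (Subgroup.zpowers_le.2 b.2)
    (by rw [Nat.card_zpowers, Subgroup.orderOf_coe, hb])
  rw [← e]
  exact CfsgLib.OddLocal.FixedLine.le_centralizer_zpowers le_rfl h1

end Cfsg.Agent.S1428
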