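import Cfsg.Statements.S1441
import Cfsg.Agent.KGroup.CharP
-- import your own Cfsg.Agent.* helpers here

set_option autoImplicit false
open Cfsg

namespace Cfsg.Agent.S1441

/-- Let G be a finite group, H a solvable subgroup and A a subgroup normalizing H. Suppose there is a chain H = H₀ ≥ H₁ ≥ ⋯ ≥ H_n = 1 of subgroups normal in H and normalized by A such that A acts trivially on each factor H_{i-1}/H_i (that is, [H_{i-1}, A] ≤ H_i). Then every prime dividing the index of C_A(H) in A divides the order of H. -/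
theorem result {G : Type*} [Group G] [Finite G] (H A : Subgroup G) (hH : Group.IsSolvable H) (hA : (A ≤ Subgroup.normalizer (H : Set G)))
    (n : ℕ) (c : Fin (n + 1) → Subgroup G) (hc0 : c 0 = H) (hcn : c (Fin.last n) = ⊥) (hanti : Antitone c)
    (hcN : ∀ i, H ≤ Subgroup.normalizer ((c i : Subgroup G) : Set G)) (hcA : ∀ i, A ≤ Subgroup.normalizer ((c i : Subgroup G) : Set G))
    (htriv : ∀ i : Fin n, ⁅c i.castSucc, A⁆ ≤ c i.succ) :
    ∀ p : ℕ, p.Prime → p ∣ (A ⊓ Subgroup.centralizer (H : Set G)).relIndex A → p ∣ Nat.card H := by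
  intro p hp hdvd
  haveI := Fact.mk hp
  by_contra hpH
  -- a Sylow subgroup of `A` centralizes `H`
  obtain ⟨P⟩ := (inferInstance : Nonempty (Sylow p A))
  suffices hle : (P : Subgroup A) ≤ (A ⊓ Subgroup.centralizer (H : Set G)).subgroupOf A from
    P.not_dvd_index (hdvd.trans (Subgroup.index_dvd_of_le hle))
  intro a ha
  refine ⟨a.2, ?_⟩
  obtain ⟨k, hk⟩ := P.2 ⟨a, ha⟩
  have hk' : (a : G) ^ p ^ k = 1 := congrArg (fun w : (P : Subgroup A) => ((w : A) : G)) hk
  suffices key : ∀ d : ℕ, ∀ i : Fin (n + 1), (i : ℕ) + d = n → ∀ h ∈ c i, Commute (a : G) h by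
    exact Subgroup.mem_centralizer_iff.2 fun h hh =>
      (key n 0 (by simp) h (hc0.symm ▸ hh)).eq.symm
  intro d
  induction d with
  | zero =>
    intro i hi h hh
    have : i = Fin.last n := Fin.ext (by simpa using hi)
    rw [this, hcn, Subgroup.mem_bot] at hh
    rw [hh]
    exact Commute.one_right _
  | succ d ih =>
    intro i hi h hh
    let j : Fin n := ⟨i, by omega⟩
    have hij : i = j.castSucc := Fin.ext rfl
    have hij' : ((j.succ : Fin (n + 1)) : ℕ) + d = n := by simp [j]; omega
    have ht : (a : G) * h * (a : G)⁻¹ * h⁻¹ ∈ c j.succ := by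
      have h2 := htriv j (Subgroup.commutator_mem_commutator (hij ▸ hh : h ∈ c j.castSucc) a.2)
      have h3 := inv_mem h2
      rwa [commutatorElement_inv, commutatorElement_def] at h3
    set t := (a : G) * h * (a : G)⁻¹ * h⁻¹ with htdef
    have hat : Commute (a : G) t := ih j.succ hij' t ht
    have hpow : ∀ m : ℕ, (a : G) ^ m * h * ((a : G) ^ m)⁻¹ = t ^ m * h := by
      intro m
      induction m with
      | zero => simp
      | succ m ihm =>
        have h1 : (a : G) * h * (a : G)⁻¹ = t * h := by simp [htdef, mul_assoc]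
        calc (a : G) ^ (m + 1) * h * ((a : G) ^ (m + 1))⁻¹
            = (a : G) * ((a : G) ^ m * h * ((a : G) ^ m)⁻¹) * (a : G)⁻¹ := by rw [pow_succ']; group
          _ = ((a : G) * t ^ m * (a : G)⁻¹) * ((a : G) * h * (a : G)⁻¹) := by rw [ihm]; group
          _ = t ^ m * (t * h) := by rw [(hat.pow_right m).eq, mul_inv_cancel_right, h1]
          _ = t ^ (m + 1) * h := by rw [pow_succ]; exact (mul_assoc _ _ _).symm
    have h1 := hpow (p ^ k)
    rw [hk', one_mul, inv_one, mul_one, eq_comm, mul_eq_right] at h1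
    have hcH : t ∈ H := hc0 ▸ hanti (Fin.zero_le _) ht
    have ht1 : t = 1 := orderOf_eq_one_iff.1 (Nat.eq_one_of_dvd_coprimes
      (((Nat.Prime.coprime_iff_not_dvd hp).2 hpH).pow_left k) (orderOf_dvd_of_pow_eq_one h1)
      (H.orderOf_dvd_natCard hcH))
    rw [htdef, mul_inv_eq_one, mul_inv_eq_iff_eq_mul] at ht1
    exact ht1

end Cfsg.Agent.S1441
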