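import Cfsg.Statements.S1444
import Cfsg.Agent.OddLocal.PLengthZGroup
-- import your own Cfsg.Agent.* helpers here

set_option autoImplicit false
open Cfsg

namespace Cfsg.Agent.S1444

/-- Let G be a solvable group of odd order, H a normal subgroup of order coprime to its index, R a complement to H in G, and R₀ ≤ R a subgroup of prime order such that every Sylow subgroup of H ∩ C_G(R₀) is cyclic. Then for every prime p the commutator subgroup [H, R] satisfies [H,R] = O_{p',p,p'}([H,R]). -/
theorem result {G : Type*} [Group G] [Finite G] [Group.IsSolvable G] (hodd : Odd (Nat.card G)) (H R R₀ : Subgroup G) [H.Normal] (hHall : (Nat.card H).Coprime H.index)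
    (hR : Subgroup.IsComplement' H R) (hR₀ : R₀ ≤ R) (hR₀p : (Nat.card R₀).Prime) (hZ : IsZGroup ↥(H ⊓ Subgroup.centralizer (R₀ : Set G)))
    (p : ℕ) [Fact p.Prime] :
    Cfsg.PLengthLE p 1 ↥⁅H, R⁆ := by
  haveI := Fact.mk hR₀p
  obtain ⟨g, hg⟩ := (isCyclic_of_prime_card (α := R₀) rfl).exists_generator
  have hgo : orderOf (g : G) = Nat.card R₀ := by
    rw [Subgroup.orderOf_coe]; exact orderOf_eq_card_of_forall_mem_zpowers hg
  have hle : H ⊓ Subgroup.centralizer ({(g : G)} : Set G) ≤ H ⊓ Subgroup.centralizer (R₀ : Set G) := by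
    refine inf_le_inf_left _ ((CfsgLib.OddLocal.FixedLine.le_centralizer_zpowers le_rfl).trans (Subgroup.centralizer_le ?_))
    intro y hy
    obtain ⟨i, hi⟩ := Subgroup.mem_zpowers_iff.1 (hg ⟨y, hy⟩)
    exact Subgroup.mem_zpowers_iff.2 ⟨i, congrArg Subtype.val hi⟩
  haveI := hZ
  refine CfsgLib.OddLocal.PLenZ.pLengthLE_commutator hodd H R ?_ hR (hR₀ g.2) hgo
    (IsZGroup.of_injective (Subgroup.inclusion_injective hle))
  rwa [← hR.symm.index_eq_card]

end Cfsg.Agent.S1444
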