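import Cfsg.Statements.S1445
import Cfsg.Agent.OddLocal.PrimeActionFitting
-- import your own Cfsg.Agent.* helpers here

set_option autoImplicit false
open Cfsg
open scoped commutatorElement

namespace Cfsg.Agent.S1445

/-- Let G be a solvable group of odd order, K a normal subgroup and R a subgroup with G = KR and the orders of K and R coprime. Suppose K ∩ C_G(x) = K ∩ C_G(R) for every non-identity x ∈ R, and F(K) ∩ C_G(R) = 1. Then [K, R] is contained in the Fitting subgroup of K. -/
theorem result {G : Type*} [Group G] [Finite G] [Group.IsSolvable G] (hodd : Odd (Nat.card G)) (K R : Subgroup G) [K.Normal] (hKR : K ⊔ R = ⊤) (hcop : (Nat.card K).Coprime (Nat.card R))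
    (hprime : ∀ x ∈ R, x ≠ 1 → K ⊓ Subgroup.centralizer ({x} : Set G) = (K ⊓ Subgroup.centralizer (R : Set G)))
    (hF : Cfsg.fittingOf K ⊓ Subgroup.centralizer (R : Set G) = ⊥) :
    ⁅K, R⁆ ≤ Cfsg.fittingOf K := by
  by_cases hR1 : R = ⊥
  · rw [hR1, Subgroup.commutator_bot_right]; exact bot_le
  obtain ⟨r, hr, hrR⟩ := Nat.exists_prime_and_dvd (fun h : Nat.card R = 1 => hR1 (Subgroup.eq_bot_of_card_eq _ h))
  haveI := Fact.mk hr
  obtain ⟨g, hg⟩ := exists_prime_orderOf_dvd_card' (G := R) r hrR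
  set x : G := (g : G) with hx
  have hxo : orderOf x = r := by rw [hx, Subgroup.orderOf_coe, hg]
  have hx1 : x ≠ 1 := fun h => hr.one_lt.ne (by rw [← hxo, h, orderOf_one])
  have hKx := hprime x g.2 hx1
  set G₀ := K ⊔ Subgroup.zpowers x with hG₀
  set K₀ := K.subgroupOf G₀
  set x₀ : G₀ := ⟨x, Subgroup.mem_sup_right (Subgroup.mem_zpowers x)⟩
  let e : K₀ ≃* K := Subgroup.subgroupOfEquivOfLe (le_sup_left : K ≤ G₀)
  have hFmap : ∀ y : K₀, y ∈ Cfsg.fittingSubgroup K₀ → e y ∈ Cfsg.fittingSubgroup K := by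
    intro y hy
    haveI := CfsgLib.Solvable.isNilpotent_fittingSubgroup (G := K₀)
    exact CfsgLib.Solvable.le_fittingSubgroup (Subgroup.Normal.map inferInstance e.toMonoidHom e.surjective)
      (Group.nilpotent_of_mulEquiv ((Cfsg.fittingSubgroup K₀).equivMapOfInjective e.toMonoidHom e.injective))
      ⟨y, hy, rfl⟩
  have hfitle : ∀ y : G₀, y ∈ Cfsg.fittingOf K₀ → (y : G) ∈ Cfsg.fittingOf K := by
    rintro _ ⟨y, hy, rfl⟩
    exact ⟨e y, hFmap y hy, rfl⟩
  have h := CfsgLib.OddLocal.PrimeFit.commutator_le_fitting (hodd.of_dvd_nat G₀.card_subgroup_dvd_card)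
    (K := K₀) (x := x₀) (r := r) (by rw [← hxo]; exact (Subgroup.orderOf_coe x₀).symm) ?_ ?_ ?_
  · intro y hy
    have hxK : ⁅K, Subgroup.zpowers x⁆ ≤ Cfsg.fittingOf K := by
      intro z hz
      have e1 : ⁅K₀, Subgroup.zpowers x₀⁆.map G₀.subtype = ⁅K, Subgroup.zpowers x⁆ := by
        rw [Subgroup.map_commutator, Subgroup.map_subgroupOf_eq_of_le le_sup_left, MonoidHom.map_zpowers]
        rfl
      rw [← e1] at hz
      obtain ⟨w, hw, rfl⟩ := hz
      exact hfitle w (h hw)
    have hF : Cfsg.fittingOf K ≤ K := Subgroup.map_subtype_le _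
    have hxR : Subgroup.zpowers x ≤ R := Subgroup.zpowers_le.2 g.2
    have hxn : Subgroup.zpowers x ≤ Subgroup.normalizer (K : Set G) := by rw [Subgroup.normalizer_eq_top]; exact le_top
    have hxc : (Nat.card (Subgroup.zpowers x)).Coprime (Nat.card K) :=
      (hcop.coprime_dvd_right (Subgroup.card_dvd_of_le hxR)).symm
    have hRF : R ≤ Subgroup.normalizer (Cfsg.fittingOf K : Set G) := by
      refine le_trans ?_ (CfsgLib.OddLocal.UTool.normalizer_le_normalizer_map K _ ?_)
      · rw [Subgroup.normalizer_eq_top]; exact le_top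
      · haveI := CfsgLib.Solvable.isNilpotent_fittingSubgroup (G := K)
        exact Subgroup.characteristic_iff_map_le.2 fun φ => CfsgLib.Solvable.le_fittingSubgroup
          (Subgroup.Normal.map inferInstance _ φ.surjective)
          (Group.nilpotent_of_mulEquiv ((Cfsg.fittingSubgroup K).equivMapOfInjective φ.toMonoidHom φ.injective))
    have hKF : K ≤ Subgroup.normalizer (Cfsg.fittingOf K : Set G) :=
      Subgroup.le_normalizer.trans (CfsgLib.OddLocal.UTool.normalizer_le_normalizer_map K _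
        (by
          haveI := CfsgLib.Solvable.isNilpotent_fittingSubgroup (G := K)
          exact Subgroup.characteristic_iff_map_le.2 fun φ => CfsgLib.Solvable.le_fittingSubgroup
            (Subgroup.Normal.map inferInstance _ φ.surjective)
            (Group.nilpotent_of_mulEquiv ((Cfsg.fittingSubgroup K).equivMapOfInjective φ.toMonoidHom φ.injective))))
    revert y
    show ⁅K, R⁆ ≤ Cfsg.fittingOf K
    rw [Subgroup.commutator_le]
    intro k hk a ha
    obtain ⟨f, hf, c, hc, rfl⟩ := CfsgLib.CoprimeAct.exists_mul_of_mem hxn hxc (Or.inl inferInstance) hk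
    have hcR : c ∈ K ⊓ Subgroup.centralizer (R : Set G) :=
      hKx.le ⟨hc.1, CfsgLib.OddLocal.FixedLine.centralizer_zpowers_le x hc.2⟩
    have hca : ⁅c, a⁆ = 1 :=
      commutatorElement_eq_one_iff_mul_comm.2 (Subgroup.mem_centralizer_iff.1 hcR.2 a ha).symm
    rw [commutatorElement_mul_left_eq_conj_mul, hca, mul_one, mul_inv_cancel, one_mul, commutatorElement_def,
      mul_assoc, mul_assoc]
    refine mul_mem (hxK hf) ?_
    have := (Subgroup.mem_normalizer_iff.1 (hRF ha) _).1 (inv_mem (hxK hf))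
    simpa [mul_assoc] using this
  · rw [Nat.card_congr e.toEquiv, ← hxo, ← Nat.card_zpowers]
    exact hcop.coprime_dvd_right (Subgroup.card_dvd_of_le (Subgroup.zpowers_le.2 g.2))
  · refine Subgroup.map_injective G₀.subtype_injective ?_
    rw [Subgroup.map_sup, Subgroup.map_subgroupOf_eq_of_le le_sup_left, MonoidHom.map_zpowers,
      ← MonoidHom.range_eq_map, Subgroup.range_subtype]
    rfl
  · refine (Subgroup.eq_bot_iff_forall _).2 fun y hy => Subtype.ext ?_
    have hy' : (y : G) ∈ Cfsg.fittingOf K ⊓ Subgroup.centralizer (R : Set G) := by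
      refine ⟨hfitle y hy.1, (hKx.le ⟨Subgroup.map_subtype_le _ (hfitle y hy.1), ?_⟩).2⟩
      exact Subgroup.mem_centralizer_singleton_iff.2
        (congrArg Subtype.val (Subgroup.mem_centralizer_singleton_iff.1 hy.2))
    rw [hF, Subgroup.mem_bot] at hy'
    exact hy'

end Cfsg.Agent.S1445
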