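import Cfsg.Statements.S1449
import Cfsg.Agent.FGSA.RankTwoAut

set_option autoImplicit false
open Cfsg

namespace Cfsg.Agent.S1449

/-- Let G be a finite group, p an odd prime, R a p-subgroup with no elementary abelian subgroup of order p ^ 3, and A a solvable subgroup of odd order normalizing R with A ∩ C_G(R) = 1. Then the derived subgroup [A, A] is a p-group. -/
theorem result {G : Type*} [Group G] [Finite G] (p : ℕ) [Fact p.Prime] (hp : p ≠ 2) (R A : Subgroup G) (hR : IsPGroup p R) (hr : Cfsg.PRankLE p 2 R)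
    (hA : (A ≤ Subgroup.normalizer (R : Set G))) (hAs : Group.IsSolvable A) (hAodd : Odd (Nat.card A)) (hfaith : A ⊓ Subgroup.centralizer (R : Set G) = ⊥) :
    IsPGroup p ↥⁅A, A⁆ := by
  haveI := hAs
  let φ : A →* MulAut R := (Subgroup.normalizerMonoidHom R).comp (Subgroup.inclusion hA)
  have hφ : Function.Injective φ := by
    rw [injective_iff_map_eq_one]
    intro a ha
    have h1 : (⟨(a : G), hA a.2⟩ : Subgroup.normalizer (R : Set G)) ∈ (Subgroup.normalizerMonoidHom R).ker :=
      ha
    rw [Subgroup.normalizerMonoidHom_ker, Subgroup.mem_subgroupOf] at h1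
    have h2 : (a : G) ∈ A ⊓ Subgroup.centralizer (R : Set G) := ⟨a.2, h1⟩
    rw [hfaith] at h2
    exact Subtype.ext (Subgroup.mem_bot.1 h2)
  have h := CfsgLib.FGSA.RankTwoAut.derived_isPGroup hp hR (fun E hE => hr E hE.1 hE.2) hAodd φ hφ
  rw [← Subgroup.map_subtype_commutator]
  exact h.map _

end Cfsg.Agent.S1449
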