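import Cfsg.Statements.S1456
import Cfsg.Agent.FGSA.RankTwoSolvable
import Cfsg.Agent.FGSA.Narrow

set_option autoImplicit false
open Cfsg

namespace Cfsg.Agent.S1456

/-- Let G be a solvable group of odd order, p a prime, and E an elementary abelian p-subgroup of the Fitting subgroup F(G) such that F(G) ∩ C_G(E) has no elementary abelian subgroup of order q ^ 3 for any prime q. Then the derived subgroup of G is contained in F(G). -/
theorem result {G : Type*} [Group G] [Finite G] [Group.IsSolvable G] (hodd : Odd (Nat.card G)) (p : ℕ) [Fact p.Prime] (E : Subgroup G) (hE : E ≤ Cfsg.fittingSubgroup G) (hEe : Cfsg.IsElementaryAbelian p E)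
    (hr : Cfsg.RankLE 2 ↥(Cfsg.fittingSubgroup G ⊓ Subgroup.centralizer (E : Set G))) :
    commutator G ≤ Cfsg.fittingSubgroup G := by
  classical
  have hp : p.Prime := Fact.out
  haveI hFn : Group.IsNilpotent (Cfsg.fittingSubgroup G) := CfsgLib.Solvable.isNilpotent_fittingSubgroup
  have hact : CfsgLib.FGSA.RankTwoSolvable.CoreAct G := by
    intro r hr' x hx
    haveI := Fact.mk hr'
    set P := Cfsg.pCore r G with hPdef
    have hPp : IsPGroup r P := CfsgLib.Solvable.isPGroup_pCore r
    have hPF : P ≤ Cfsg.fittingSubgroup G := CfsgLib.Solvable.pCore_le_fittingSubgroup _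
    by_cases hrP : ∀ A : Subgroup P, Cfsg.IsElementaryAbelian r A → Nat.card A ≤ r ^ 2
    · exact CfsgLib.FGSA.RankTwoSolvable.exists_pow_centralizes hodd P hPp hrP hx
    have hEpow : ∀ e ∈ E, ∃ j, orderOf e = p ^ j := fun e he => by
      obtain ⟨j, -, hj⟩ := (Nat.dvd_prime_pow hp).1
        (by rw [pow_one]; exact orderOf_dvd_of_pow_eq_one (hEe.2 e he) : orderOf e ∣ p ^ 1)
      exact ⟨j, hj⟩
    have hsub : ∀ A : Subgroup P, Cfsg.IsElementaryAbelian r A →
        (∀ a ∈ A, ∀ e ∈ E, e * (a : G) = (a : G) * e) → Nat.card A ≤ r ^ 2 := by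
      intro A hA hAE
      have hle : A.map P.subtype ≤ Cfsg.fittingSubgroup G ⊓ Subgroup.centralizer (E : Set G) := by
        rintro _ ⟨a, ha, rfl⟩
        exact ⟨hPF a.2, Subgroup.mem_centralizer_iff.2 (hAE a ha)⟩
      haveI := hA.1
      refine le_trans (le_of_eq ?_) (hr r hr' ((A.map P.subtype).subgroupOf _) inferInstance ?_)
      · rw [Nat.card_congr (Subgroup.subgroupOfEquivOfLe hle).toEquiv,
          Subgroup.card_map_of_injective P.subtype_injective]
      · rintro ⟨v, hv⟩ hm
        obtain ⟨a, ha, e⟩ := hm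
        apply Subtype.ext
        show v ^ r = 1
        have e' : (a : G) = v := e
        rw [← e']
        exact congrArg Subtype.val (hA.2 a ha)
    obtain rfl : r = p := by
      by_contra hne
      refine hrP fun A hA => hsub A hA fun a _ e he => ?_
      obtain ⟨j, hj⟩ := hEpow e he
      obtain ⟨i, hi⟩ := IsPGroup.iff_orderOf.1 hPp a
      rw [← Subgroup.orderOf_coe] at hi
      exact congrArg Subtype.val (CfsgLib.FGSA.commute_of_coprime_orderOf
        (⟨e, hE he⟩ : Cfsg.fittingSubgroup G) ⟨a, hPF a.2⟩ (by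
          rw [← Subgroup.orderOf_coe, ← Subgroup.orderOf_coe]
          show (orderOf e).Coprime (orderOf (a : G))
          rw [hj, hi]
          exact Nat.Coprime.pow _ _ ((Nat.coprime_primes hp hr').2 (Ne.symm hne))) : _)
    have hEP : E ≤ P := fun e he => by
      obtain ⟨j, hj⟩ := hEpow e he
      exact CfsgLib.FGSA.RankTwoSolvable.mem_pCore_of_mem_fitting hr' hj (hE he)
    set E₀ := E.subgroupOf P with hE0
    have hE0e : Cfsg.IsElementaryAbelian r E₀ := by
      refine ⟨⟨⟨fun a b => Subtype.ext (Subtype.ext ?_)⟩⟩, fun a ha => Subtype.ext ?_⟩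
      · exact (congrArg Subtype.val (hEe.1.is_comm.comm (⟨_, a.2⟩ : E) ⟨_, b.2⟩) :)
      · exact hEe.2 _ ha
    obtain ⟨B, hEB, hBe, hBmax⟩ := Set.Finite.exists_le_maximal
      (s := {B : Subgroup P | Cfsg.IsElementaryAbelian r B}) (Set.toFinite _) (a := E₀) hE0e
    have hB2 : Nat.card B ≤ r ^ 2 := hsub B hBe fun a ha e he =>
      congrArg (fun z : B => ((z : P) : G)) (hBe.1.is_comm.comm (⟨⟨e, hEP he⟩, hEB he⟩ : B) ⟨a, ha⟩)
    have hB : Nat.card B = r ^ 2 := by
      obtain ⟨k, hk⟩ := IsPGroup.iff_card.1 (hPp.to_subgroup B)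
      rw [hk, Nat.pow_le_pow_iff_right hr'.one_lt] at hB2
      rw [hk]
      by_contra hne
      have hk1 : k ≤ 1 := by
        rcases (show k ≤ 1 ∨ k = 2 by omega) with h | h
        · exact h
        · exact absurd (by rw [h]) hne
      refine hrP fun A hA => hsub A hA ?_
      intro a _ e he
      have hnt : Nontrivial P := by
        by_contra hnt
        rw [not_nontrivial_iff_subsingleton] at hnt
        refine hrP fun A' _ => ?_
        rw [Nat.card_eq_one_iff_unique.2 ⟨inferInstance, inferInstance⟩]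
        exact Nat.one_le_pow _ _ hr'.pos
      haveI := hPp.center_nontrivial
      obtain ⟨j, hj⟩ := IsPGroup.iff_card.1 (hPp.to_subgroup (Subgroup.center P))
      have hj0 : j ≠ 0 := fun h0 => by
        have := Finite.one_lt_card (α := Subgroup.center P)
        rw [hj, h0, pow_zero] at this
        omega
      obtain ⟨z, hz⟩ := exists_prime_orderOf_dvd_card' (G := Subgroup.center P) r (hj ▸ dvd_pow_self r hj0)
      have hzp : (z : P) ^ r = 1 := by rw [← hz, ← Subgroup.orderOf_coe, pow_orderOf_eq_one]
      have hzc := Subgroup.mem_center_iff.1 z.2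
      have hzB : (z : P) ∈ B := by
        have hcomm : ∀ u ∈ (B : Set P) ∪ {(z : P)}, ∀ v ∈ (B : Set P) ∪ {(z : P)}, u * v = v * u := by
          intro u hu v hv
          rcases hu with hu | rfl <;> rcases hv with hv | rfl
          · exact congrArg Subtype.val (hBe.1.is_comm.comm ⟨u, hu⟩ ⟨v, hv⟩)
          · exact hzc u
          · exact (hzc v).symm
          · rfl
        haveI := Subgroup.isMulCommutative_closure hcomm
        refine hBmax (y := Subgroup.closure ((B : Set P) ∪ {(z : P)})) ⟨inferInstance, ?_⟩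
          (fun u hu => Subgroup.subset_closure (Or.inl hu)) (Subgroup.subset_closure (Or.inr rfl))
        intro u hu
        induction hu using Subgroup.closure_induction with
        | mem v hv =>
          rcases hv with hv | rfl
          · exact hBe.2 v hv
          · exact hzp
        | one => exact one_pow r
        | mul u v hu' hv' hu hv =>
          have h : u * v = v * u := congrArg Subtype.val (IsMulCommutative.is_comm.comm
            (⟨u, hu'⟩ : Subgroup.closure ((B : Set P) ∪ {(z : P)})) ⟨v, hv'⟩)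
          rw [(show Commute u v from h).mul_pow, hu, hv, one_mul]
        | inv u _ hu => rw [inv_pow, hu, inv_one]
      have hBz : Subgroup.zpowers (z : P) = B := Subgroup.eq_of_le_of_card_ge (Subgroup.zpowers_le.2 hzB) (by
        rw [Nat.card_zpowers, Subgroup.orderOf_coe, hz, hk]
        exact (Nat.pow_le_pow_right hr'.pos hk1).trans_eq (pow_one r))
      obtain ⟨m, hm⟩ := Subgroup.mem_zpowers_iff.1 (hBz.ge (hEB (show (⟨e, hEP he⟩ : P) ∈ E₀ from he)))
      have hec : (⟨e, hEP he⟩ : P) ∈ Subgroup.center P := by rw [← hm]; exact zpow_mem z.2 m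
      exact congrArg Subtype.val (Subgroup.mem_center_iff.1 hec a).symm
    have hr2 : r ≠ 2 := by
      obtain ⟨k, hk⟩ := IsPGroup.iff_card.1 hPp
      have h1 := B.card_subgroup_dvd_card
      rw [hB] at h1
      exact CfsgLib.FGSA.RankTwoSolvable.ne_two_of_dvd
        ((dvd_pow_self r two_ne_zero).trans (h1.trans (Subgroup.card_subgroup_dvd_card P))) hodd
    obtain ⟨hd, -⟩ := CfsgLib.FGSA.Narrow.aut_structure hr2 hPp (fun h => hrP fun A hA => h A hA.1 hA.2)
      B hBe hB (fun C hC hle => le_antisymm (hBmax hC hle) hle)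
    let φ : G →* MulAut P := MulAut.conjNormal
    have hmem : φ x ∈ commutator (MulAut P) := by
      have h := Subgroup.mem_map_of_mem φ hx
      rw [_root_.commutator_def, Subgroup.map_commutator] at h
      rw [_root_.commutator_def]
      exact Subgroup.commutator_mono le_top le_top h
    obtain ⟨k, hk⟩ := hd ⟨_, hmem⟩
    refine ⟨k, Subgroup.mem_centralizer_iff.2 fun v hv => ?_⟩
    have h1 : φ (x ^ r ^ k) = 1 := by rw [map_pow]; exact congrArg Subtype.val hk
    have h2 := (MulAut.conjNormal_apply (x ^ r ^ k) (⟨v, hv⟩ : P)).symm.trans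
      (congrArg Subtype.val (DFunLike.congr_fun h1 (⟨v, hv⟩ : P)))
    exact (mul_inv_eq_iff_eq_mul.1 h2).symm
  haveI := CfsgLib.FGSA.RankTwoSolvable.derived_nilpotent_of_act hact
  exact CfsgLib.Solvable.le_fittingSubgroup inferInstance inferInstance

end Cfsg.Agent.S1456
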