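import Cfsg.Statements.S1460
import Cfsg.Agent.OddLocal.CoprimeSupplement
-- import your own Cfsg.Agent.* helpers here

set_option autoImplicit false
open Cfsg

namespace Cfsg.Agent.S1460

/-- Let G be a finite solvable group, K a normal subgroup and U a subgroup with G = KU, and H ≤ U a subgroup whose order is coprime to that of K. Then H ∩ G' = H ∩ U'; N_G(H) is generated by K ∩ C_G(H) and U ∩ N_G(H); and if gHg⁻¹ ≤ U for some g ∈ G then g = u c with u ∈ U and c ∈ K ∩ C_G(H). -/
theorem result {G : Type*} [Group G] [Finite G] [Group.IsSolvable G] (K U H : Subgroup G) [K.Normal] (hKU : K ⊔ U = ⊤) (hH : H ≤ U) (hcop : (Nat.card H).Coprime (Nat.card K)) :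
    H ⊓ commutator G = H ⊓ ⁅U, U⁆ ∧
      Subgroup.normalizer (H : Set G) = (K ⊓ Subgroup.centralizer (H : Set G)) ⊔ (U ⊓ Subgroup.normalizer (H : Set G)) ∧
      ∀ g : G, H.map (MulAut.conj g).toMonoidHom ≤ U → ∃ u ∈ U, ∃ c ∈ K ⊓ Subgroup.centralizer (H : Set G), g = u * c := by
  have hUc : ⁅U, U⁆ ≤ commutator G := by
    rw [_root_.commutator_def]
    exact Subgroup.commutator_mono le_top le_top
  refine ⟨le_antisymm (le_inf inf_le_left (CfsgLib.OddLocal.Supp.inf_commutator_le hKU hH hcop))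
    (inf_le_inf_left _ hUc), ?_, fun g hg => CfsgLib.OddLocal.Supp.exists_mul_of_conj_le hKU hH hcop hg⟩
  refine le_antisymm (fun g hg => ?_) (sup_le (inf_le_right.trans (Subgroup.centralizer_le_normalizer _)) inf_le_right)
  obtain ⟨u, hu, c, hc, rfl⟩ := CfsgLib.OddLocal.Supp.exists_mul_of_conj_le hKU hH hcop (g := g)
    (fun x hx => hH ((SetLike.ext_iff.1 (Subgroup.mem_normalizer_iff_map_conj_eq.1 hg) x).1 hx))
  have hcN := Subgroup.centralizer_le_normalizer _ hc.2
  have huN : u ∈ Subgroup.normalizer (H : Set G) := by simpa using mul_mem hg (inv_mem hcN)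
  exact mul_mem (Subgroup.mem_sup_right ⟨hu, huN⟩) (Subgroup.mem_sup_left hc)

end Cfsg.Agent.S1460
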