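import Cfsg.Statements.S1463
import Cfsg.Agent.Dickson.Transfer
-- import your own Cfsg.Agent.* helpers here

set_option autoImplicit false
open scoped MatrixGroups
open Cfsg

namespace Cfsg.Agent.S1463

/-- Let F be a field of odd characteristic p and H a finite subgroup of odd order of GL(2, F) that leaves no 1-dimensional subspace of F² invariant. Then p does not divide the order of H. -/
theorem result {F : Type*} [Field F] (p : ℕ) [Fact p.Prime] [CharP F p] (hp : p ≠ 2)
    (H : Subgroup (GL (Fin 2) F)) [Finite H] (hodd : Odd (Nat.card H))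
    (hirr : ∀ v : Fin 2 → F, v ≠ 0 → ∃ g ∈ H, (g : Matrix (Fin 2) (Fin 2) F).mulVec v ∉ Submodule.span F {v}) :
    ¬ p ∣ Nat.card H := by
  classical
  intro hpH
  let K := AlgebraicClosure F
  let φ : F →+* K := algebraMap F K
  have : CharP K p := (φ.charP_iff φ.injective p).1 inferInstance
  let ι : GL (Fin 2) F →* CfsgLib.Dickson.PGL2 K :=
    (Matrix.ProjGenLinGroup.mk).comp (Matrix.GeneralLinearGroup.map φ)
  let H' := H.map ι
  have : Finite H' := Finite.of_surjective (fun h : H => (⟨ι h, h, h.2, rfl⟩ : H'))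
    (fun ⟨_, y, hy, rfl⟩ => ⟨⟨y, hy⟩, rfl⟩)
  have hodd' : Odd (Nat.card H') := by
    obtain ⟨k, hk⟩ := Subgroup.card_map_dvd H ι
    exact Nat.Odd.of_mul_left (hk ▸ hodd)
  have hp2 : ¬ 2 ∣ p := fun h => hp ((Nat.prime_dvd_prime_iff_eq Nat.prime_two Fact.out).1 h).symm
  have hpodd : ∀ f : ℕ, 2 ∣ p ^ f + 1 := fun f => by
    have : Odd (p ^ f) := (Nat.odd_iff.2 (by omega)).pow
    obtain ⟨k, hk⟩ := this
    exact ⟨k + 1, by omega⟩
  rcases CfsgLib.Dickson.classification p H' with ⟨x, hx⟩ | ⟨n, -, -, hn, -⟩ | ⟨-, hn, -⟩ | ⟨-, hn, -⟩ |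
    ⟨-, -, hn, -⟩ | ⟨f, hf, g, hg⟩
  rotate_left
  iterate 4
    · rw [hn] at hodd'; obtain ⟨k, hk⟩ := hodd'; omega
  · -- the subfield groups have even order
    have hdvd : 2 ∣ Nat.card H' := by
      have := CfsgLib.Dickson.finite_frobFix (K := K) p hf
      let _ := Fintype.ofFinite (CfsgLib.Dickson.frobFix (K := K) p f)
      have hsub : CfsgLib.Dickson.pslImage (CfsgLib.Dickson.frobFix (K := K) p f).subtype ≤
          CfsgLib.Dickson.conjH g H' := by
        rcases hg with hg | ⟨-, hg⟩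
        · rw [hg]; rintro _ ⟨y, rfl⟩; exact ⟨_, rfl⟩
        · rw [hg]
      have hd := Subgroup.card_dvd_of_le hsub
      rw [Subgroup.card_map_of_injective (MulAut.conj g).injective,
        ← Nat.card_congr (CfsgLib.Dickson.pslImageEquiv _).toEquiv] at hd
      refine Dvd.dvd.trans ?_ hd
      -- the image of `(0 1; -1 0)` has order two
      let S : Matrix.SpecialLinearGroup (Fin 2) (CfsgLib.Dickson.frobFix (K := K) p f) :=
        ⟨!![0, 1; -1, 0], by simp [Matrix.det_fin_two_of]⟩
      have h1 : (QuotientGroup.mk S : Matrix.ProjectiveSpecialLinearGroup (Fin 2) _) ≠ 1 := by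
        rw [Ne, CfsgLib.PSL2Spec.mk_eq_one_iff]
        rintro ⟨c, hc⟩
        simpa [S] using congrFun (congrFun hc 0) 1
      have h2 : (QuotientGroup.mk S : Matrix.ProjectiveSpecialLinearGroup (Fin 2) _) ^ 2 = 1 := by
        rw [pow_two, ← QuotientGroup.mk_mul, CfsgLib.PSL2Spec.mk_eq_one_iff]
        refine ⟨-1, ?_⟩
        ext i j
        rw [Matrix.SpecialLinearGroup.coe_mul]
        simp only [S]
        fin_cases i <;> fin_cases j <;> simp [Matrix.mul_apply, Fin.sum_univ_two]
      have : Fact (Nat.Prime 2) := ⟨Nat.prime_two⟩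
      have h3 := orderOf_dvd_natCard (QuotientGroup.mk S : CfsgLib.Dickson.PSL2 (CfsgLib.Dickson.frobFix (K := K) p f))
      rwa [orderOf_eq_prime h2 h1] at h3
    obtain ⟨k, hk⟩ := hdvd; obtain ⟨l, hl⟩ := hodd'; omega
  obtain ⟨u, hu⟩ := exists_prime_orderOf_dvd_card' p hpH
  -- a fixed vector of `u`
  obtain ⟨v, hv0, hv⟩ : ∃ v : Fin 2 → F, v ≠ 0 ∧ ((u : GL (Fin 2) F) : Matrix (Fin 2) (Fin 2) F).mulVec v = v := by
    have hnil : (((u : GL (Fin 2) F) : Matrix (Fin 2) (Fin 2) F) - 1) ^ p = 0 := by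
      rw [sub_pow_char_of_commute p (Commute.one_right _), one_pow, ← Units.val_pow_eq_pow_val,
        ← SubgroupClass.coe_pow, ← hu, pow_orderOf_eq_one]
      simp
    have hdet : (((u : GL (Fin 2) F) : Matrix (Fin 2) (Fin 2) F) - 1).det = 0 := by
      have := congrArg Matrix.det hnil
      rw [Matrix.det_pow, Matrix.det_zero] at this
      exact pow_eq_zero_iff (Fact.out : p.Prime).ne_zero |>.1 this
    obtain ⟨v, hv0, hv⟩ := Matrix.exists_mulVec_eq_zero_iff.2 hdet
    exact ⟨v, hv0, by rwa [Matrix.sub_mulVec, Matrix.one_mulVec, sub_eq_zero] at hv⟩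
  have hι1 : ι (u : GL (Fin 2) F) ≠ 1 := by
    intro h
    have h' : Matrix.GeneralLinearGroup.map φ (u : GL (Fin 2) F) ∈ Subgroup.center (GL (Fin 2) K) :=
      Matrix.ProjGenLinGroup.mk_eq_one.1 h
    rw [Matrix.GeneralLinearGroup.center_eq_range_scalar] at h'
    obtain ⟨c, hc⟩ := h'
    have hc' : c = 1 := by
      have e : c ^ p = 1 := by
        have := congrArg (· ^ p) hc
        simp only [← map_pow] at this
        rw [← SubgroupClass.coe_pow, ← hu, pow_orderOf_eq_one, Subgroup.coe_one, map_one] at this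
        exact Units.ext (by
          have := congrArg (fun M : GL (Fin 2) K => (M : Matrix (Fin 2) (Fin 2) K) 0 0) this
          simpa [Matrix.GeneralLinearGroup.coe_scalar, Matrix.diagonal_pow, hu] using this)
      apply Units.ext
      refine (frobenius K p).injective ?_
      rw [frobenius_def, frobenius_def, ← Units.val_pow_eq_pow_val, e, Units.val_one, one_pow]
    rw [hc', map_one] at hc
    have : (u : GL (Fin 2) F) = 1 := by
      ext i j
      have := congrArg (fun M : GL (Fin 2) K => (M : Matrix (Fin 2) (Fin 2) K) i j) hc.symm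
      apply φ.injective
      fin_cases i <;> fin_cases j <;> simpa using this
    have : orderOf u = 1 := orderOf_eq_one_iff.2 (Subtype.ext this)
    exact (Fact.out : p.Prime).one_lt.ne' (hu ▸ this)
  obtain ⟨z, hz⟩ := CfsgLib.Dickson.fix_singleton_of_pow p hι1 (k := 1) (by
    rw [pow_one, ← map_pow, ← SubgroupClass.coe_pow, ← hu, pow_orderOf_eq_one]; exact map_one ι)
  have hxz : x = z := by
    have : x ∈ CfsgLib.Dickson.fix (ι (u : GL (Fin 2) F)) := hx _ ⟨u, u.2, rfl⟩
    rw [hz] at this; exact this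
  -- the point of the fixed line
  by_cases h1 : v 1 = 0
  · have hv0' : v 0 ≠ 0 := fun h => hv0 (funext fun i => by fin_cases i <;> assumption)
    have hu10 : ((u : GL (Fin 2) F) : Matrix (Fin 2) (Fin 2) F) 1 0 = 0 := by
      have := congrFun hv 1
      simp [Matrix.mulVec, dotProduct, h1, Fin.sum_univ_two] at this
      exact this.resolve_right hv0'
    have hinf : (OnePoint.infty : OnePoint K) ∈ CfsgLib.Dickson.fix (ι (u : GL (Fin 2) F)) := by
      show ι (u : GL (Fin 2) F) • _ = _
      rw [MonoidHom.comp_apply, CfsgLib.Dickson.mk_smul_eq, OnePoint.smul_infty_eq_self_iff]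
      simp [hu10]
    rw [hz] at hinf
    obtain ⟨g, hg, hgv⟩ := hirr v hv0
    refine hgv (Submodule.mem_span_singleton.2 ⟨(g : Matrix (Fin 2) (Fin 2) F) 0 0, ?_⟩)
    have hg10 : (g : Matrix (Fin 2) (Fin 2) F) 1 0 = 0 := by
      have := hx _ ⟨g, hg, rfl⟩
      rw [hxz, ← (Set.mem_singleton_iff.1 hinf), MonoidHom.comp_apply, CfsgLib.Dickson.mk_smul_eq,
        OnePoint.smul_infty_eq_self_iff] at this
      simpa using this
    ext i
    fin_cases i <;> simp [Matrix.mulVec, dotProduct, h1, hg10, Fin.sum_univ_two]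
  · set t := v 0 / v 1 with ht
    have hv' : ∀ (g : GL (Fin 2) F) (i : Fin 2), (g : Matrix (Fin 2) (Fin 2) F).mulVec v i =
        ((g : Matrix (Fin 2) (Fin 2) F) i 0 * t + (g : Matrix (Fin 2) (Fin 2) F) i 1) * v 1 := by
      intro g i
      simp [Matrix.mulVec, dotProduct, ht, Fin.sum_univ_two]
      field_simp
    have hmem : ((φ t : K) : OnePoint K) ∈ CfsgLib.Dickson.fix (ι (u : GL (Fin 2) F)) := by
      show ι (u : GL (Fin 2) F) • _ = _
      have e0 := (hv' u 0).symm.trans (congrFun hv 0)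
      have e1 := (hv' u 1).symm.trans (congrFun hv 1)
      have d1 : ((u : GL (Fin 2) F) : Matrix (Fin 2) (Fin 2) F) 1 0 * t +
          ((u : GL (Fin 2) F) : Matrix (Fin 2) (Fin 2) F) 1 1 = 1 :=
        mul_right_cancel₀ h1 (e1.trans (one_mul _).symm)
      have d0 : ((u : GL (Fin 2) F) : Matrix (Fin 2) (Fin 2) F) 0 0 * t +
          ((u : GL (Fin 2) F) : Matrix (Fin 2) (Fin 2) F) 0 1 = t := by
        rw [ht, eq_div_iff h1]; exact e0
      rw [MonoidHom.comp_apply, CfsgLib.Dickson.mk_smul_eq, OnePoint.smul_some_eq_ite]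
      simp only [Matrix.GeneralLinearGroup.map_apply]
      rw [← map_mul, ← map_mul, ← map_add, ← map_add, d1, map_one, if_neg one_ne_zero, div_one, d0]
    rw [hz] at hmem
    obtain ⟨g, hg, hgv⟩ := hirr v hv0
    refine hgv (Submodule.mem_span_singleton.2
      ⟨(g : Matrix (Fin 2) (Fin 2) F) 1 0 * t + (g : Matrix (Fin 2) (Fin 2) F) 1 1, ?_⟩)
    have h := hx _ ⟨g, hg, rfl⟩
    rw [hxz, ← (Set.mem_singleton_iff.1 hmem), MonoidHom.comp_apply, CfsgLib.Dickson.mk_smul_eq,
      OnePoint.smul_some_eq_ite] at h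
    simp only [Matrix.GeneralLinearGroup.map_apply] at h
    rw [← map_mul, ← map_mul, ← map_add, ← map_add] at h
    split_ifs at h with hd
    · exact absurd h.symm (OnePoint.coe_ne_infty _)
    · have h' := OnePoint.coe_injective h
      rw [div_eq_iff hd, ← map_mul] at h'
      have h'' := φ.injective h'
      ext i
      fin_cases i
      · simp only [Fin.mk_zero, Fin.zero_eta, Pi.smul_apply, smul_eq_mul]
        rw [hv', h'', ht]; field_simp
      · simp only [Fin.mk_one, Pi.smul_apply, smul_eq_mul]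
        rw [hv']

end Cfsg.Agent.S1463
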