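import Cfsg.Statements.S1470
-- import your own Cfsg.Agent.* helpers here

set_option autoImplicit false
open Cfsg

namespace Cfsg.Agent.S1470

/-- Let p and q be odd primes with (p^q − 1)/(p − 1) coprime to p − 1, and let E be the set of elements a of the field with p ^ q elements whose norm to the prime field is 1 and for which 2 − a also has norm 1. If a⁻¹ ∈ E for every a ∈ E and E has at least two elements, then p ≤ q. -/
theorem result (p q : ℕ) [Fact p.Prime] [Fact q.Prime] (hp : p ≠ 2) (hq : q ≠ 2) (hA : Nat.Coprime ((p ^ q - 1) / (p - 1)) (p - 1))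
    (hinv : ∀ a ∈ {a : GaloisField p q | Algebra.norm (ZMod p) a = 1 ∧ Algebra.norm (ZMod p) (2 - a) = 1}, a⁻¹ ∈ {a : GaloisField p q | Algebra.norm (ZMod p) a = 1 ∧ Algebra.norm (ZMod p) (2 - a) = 1})
    (h2 : 2 ≤ Set.ncard {a : GaloisField p q | Algebra.norm (ZMod p) a = 1 ∧ Algebra.norm (ZMod p) (2 - a) = 1}) :
    p ≤ q := by
  classical
  set E := {a : GaloisField p q | Algebra.norm (ZMod p) a = 1 ∧ Algebra.norm (ZMod p) (2 - a) = 1} with hE
  have hne : ∀ x : GaloisField p q, Algebra.norm (ZMod p) x = 1 → x ≠ 0 := by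
    rintro x h rfl
    rw [Algebra.norm_zero] at h; exact zero_ne_one h
  have hsub : ∀ a ∈ E, 2 - a⁻¹ ∈ E := by
    intro a ha
    obtain ⟨h1, h2⟩ := hinv a ha
    exact ⟨h2, by rw [sub_sub_cancel]; exact h1⟩
  obtain ⟨a, ha, ha1⟩ := Set.exists_ne_of_one_lt_ncard (s := E) (by omega) 1
  set b : ℕ → GaloisField p q := fun k => (k : GaloisField p q) * (a - 1) + 1 with hb
  have key : ∀ k : ℕ, Algebra.norm (ZMod p) (b k) = 1 ∧ b (k + 1) / b k ∈ E := by
    intro k
    induction k with
    | zero =>
      refine ⟨by simp [hb], ?_⟩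
      have : b (0 + 1) / b 0 = a := by simp [hb]
      rw [this]; exact ha
    | succ k ih =>
      have h0 : b k ≠ 0 := hne _ ih.1
      have h1 : Algebra.norm (ZMod p) (b (k + 1)) = 1 := by
        have := congrArg₂ (· * ·) ih.2.1 ih.1
        simp only [← map_mul, div_mul_cancel₀ _ h0, mul_one] at this
        exact this
      refine ⟨h1, ?_⟩
      have h1' : b (k + 1) ≠ 0 := hne _ h1
      have h := hsub _ ih.2
      rw [inv_div] at h
      convert h using 1
      rw [eq_sub_iff_add_eq, ← add_div, div_eq_iff h1']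
      simp only [hb]
      push_cast
      ring
  let c : GaloisField p q := a - 1
  have hc : c ≠ 0 := sub_ne_zero.2 ha1
  let P : Polynomial (GaloisField p q) :=
    (∏ i ∈ Finset.range q, (Polynomial.C (c ^ p ^ i) * Polynomial.X + 1)) - 1
  have hq0 : q ≠ 0 := (Fact.out : q.Prime).ne_zero
  have hdeg : (∏ i ∈ Finset.range q, (Polynomial.C (c ^ p ^ i) * Polynomial.X + 1)).natDegree = q := by
    have hd : ∀ i ∈ Finset.range q, (Polynomial.C (c ^ p ^ i) * Polynomial.X + 1).natDegree = 1 := fun i _ => by
      rw [← Polynomial.C_1]; exact Polynomial.natDegree_linear (pow_ne_zero _ hc)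
    rw [Polynomial.natDegree_prod _ _ (fun i hi h => by
      have := hd i hi; rw [h, Polynomial.natDegree_zero] at this; omega), Finset.sum_congr rfl hd]
    simp
  have hPdeg : P.natDegree = q := by
    show (_ - (1 : Polynomial (GaloisField p q))).natDegree = q
    rw [← Polynomial.C_1, Polynomial.natDegree_sub_C]
    rw [Polynomial.C_1]; exact hdeg
  have hP0 : P ≠ 0 := fun h => hq0 (by rw [← hPdeg, h, Polynomial.natDegree_zero])
  have hroot : ∀ k : ℕ, P.IsRoot (k : GaloisField p q) := by
    intro k
    have h := congrArg (algebraMap (ZMod p) (GaloisField p q)) (key k).1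
    rw [FiniteField.algebraMap_norm_eq_prod_pow, map_one, Nat.card_zmod, GaloisField.finrank p hq0] at h
    have hev : P.eval (k : GaloisField p q) =
        (∏ i ∈ Finset.range q, (c ^ p ^ i * (k : GaloisField p q) + 1)) - 1 := by
      simp [P, Polynomial.eval_prod]
    rw [Polynomial.IsRoot.def, hev, sub_eq_zero]
    refine Eq.trans (Finset.prod_congr rfl fun i _ => ?_) h
    have e1 : (k : GaloisField p q) ^ p ^ i = k := by
      rw [← map_natCast (algebraMap (ZMod p) (GaloisField p q)), ← map_pow, ZMod.pow_card_pow]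
    rw [hb, add_pow_char_pow, mul_pow, one_pow, e1, mul_comm]
  have hsub' : (Finset.range p).image (fun k : ℕ => (k : GaloisField p q)) ⊆ P.roots.toFinset := by
    intro x hx
    obtain ⟨k, -, rfl⟩ := Finset.mem_image.1 hx
    rw [Multiset.mem_toFinset, Polynomial.mem_roots hP0]
    exact hroot k
  have hinj : Set.InjOn (fun k : ℕ => (k : GaloisField p q)) (Finset.range p) := fun x hx y hy h => by
    have := (CharP.natCast_eq_natCast (GaloisField p q) p).1 h
    exact this.eq_of_lt_of_lt (Finset.mem_range.1 hx) (Finset.mem_range.1 hy)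
  have h3 := Finset.card_le_card hsub'
  rw [Finset.card_image_of_injOn hinj, Finset.card_range] at h3
  exact h3.trans ((Multiset.toFinset_card_le _).trans ((Polynomial.card_roots' P).trans hPdeg.le))

end Cfsg.Agent.S1470
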