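import Cfsg.Statements.S1476
import Cfsg.Agent.OddLocal.CNSolvable
-- import your own Cfsg.Agent.* helpers here

set_option autoImplicit false
open Cfsg

namespace Cfsg.Agent.S1476

/-- Let G be a finite solvable group in which every non-identity element has nilpotent centralizer. Then either G is nilpotent; or G has a normal subgroup K with a Frobenius complement E (K E = G, K ∩ E = 1, E meets its conjugates by outside elements trivially) such that E is cyclic or E is generated by two elementwise-commuting subgroups, one cyclic of odd order and one isomorphic to a generalized quaternion group; or G is a three-step group with respect to some prime p. -/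
theorem result {G : Type*} [Group G] [Finite G] [Group.IsSolvable G] (hCN : Cfsg.IsCNGroup G) :
    Group.IsNilpotent G ∨
      (∃ K E : Subgroup G, K.Normal ∧ Subgroup.IsComplement' K E ∧ Cfsg.IsFrobeniusComplement E ∧
        (IsCyclic E ∨ ∃ C Q : Subgroup G, C ⊔ Q = E ∧ (∀ a ∈ C, ∀ b ∈ Q, a * b = b * a) ∧ IsCyclic C ∧ Odd (Nat.card C) ∧
          ∃ n : ℕ, Nonempty (↥Q ≃* QuaternionGroup (2 ^ n)))) ∨
      ∃ p : ℕ, p.Prime ∧ Cfsg.IsThreeStepGroup p G := by
  by_cases hnn : Group.IsNilpotent G
  · exact Or.inl hnn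
  right
  haveI : Nontrivial G := not_subsingleton_iff_nontrivial.1 fun hs => hnn inferInstance
  by_cases hno : ∀ (p : ℕ) [Fact p.Prime] (P : Sylow p G), (P : Subgroup G).Normal → (P : Subgroup G) = ⊥
  · exact Or.inr (CfsgLib.CN.Solvable.threeStep hCN hno)
  push Not at hno
  obtain ⟨p, hp, P, hPn, hP1⟩ := hno
  obtain ⟨-, -, E, hE, hF, -, hnt, φ, hφ⟩ := CfsgLib.CN.Solvable.frobenius hCN hnn P hP1 hPn
  refine Or.inl ⟨_, E, inferInstance, hE, hF, ?_⟩
  rcases CfsgLib.CN.Solvable.cyclic_or_prod (CfsgLib.CN.isCNGroup_subgroup hCN E) hφ with h | ⟨C, Q, hs, hc, hcy, ho, n, ⟨e⟩⟩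
  · exact Or.inl h
  · refine Or.inr ⟨C.map E.subtype, Q.map E.subtype, ?_, ?_, ?_, ?_, n,
      ⟨(Q.equivMapOfInjective E.subtype E.subtype_injective).symm.trans e⟩⟩
    · rw [← Subgroup.map_sup, hs, ← MonoidHom.range_eq_map, Subgroup.range_subtype]
    · rintro _ ⟨a, ha, rfl⟩ _ ⟨b, hb, rfl⟩
      exact congrArg Subtype.val (hc a ha b hb)
    · exact (C.equivMapOfInjective E.subtype E.subtype_injective).isCyclic.1 hcy
    · rwa [Subgroup.card_map_of_injective E.subtype_injective]

end Cfsg.Agent.S1476
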