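import Cfsg.Statements.S1478
import Cfsg.Agent.OddLocal.CNMinimal
-- import your own Cfsg.Agent.* helpers here

set_option autoImplicit false
open Cfsg

namespace Cfsg.Agent.S1478

/-- Let G be a minimal simple group of odd order in which every non-identity element has nilpotent centralizer. Then no subgroup of G is a three-step group with respect to any prime. -/
theorem result {G : Type*} [Group G] [Finite G] (hG : Cfsg.IsMinSimpleOddOrder G) (hCN : Cfsg.IsCNGroup G) :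
    ∀ (H : Subgroup G) (p : ℕ), ¬ Cfsg.IsThreeStepGroup p ↥H := by
  intro H p h3
  haveI := CfsgLib.CN.MinSimple.nontrivial hG
  haveI := hG.2.1
  obtain ⟨hR, A, hA1, -, -, hAcop, hRAn, htop, -, hfpf, hfrob⟩ := h3
  set R := Cfsg.pCore p H with hRdef
  have hRp : IsPGroup p R := CfsgLib.Solvable.isPGroup_pCore p
  have hRn : R.Normal := CfsgLib.Solvable.pCore_normal p
  have hHtop : H ≠ ⊤ := by
    rintro rfl
    haveI : IsSimpleGroup (⊤ : Subgroup G) :=
      IsSimpleGroup.isSimpleGroup_of_surjective (Subgroup.topEquiv (G := G)).symm.toMonoidHom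
        (MulEquiv.surjective _)
    exact htop (by rw [(IsSimpleGroup.eq_bot_or_eq_top_of_normal R hRn).resolve_left hR]; exact top_sup_eq _)
  haveI : Group.IsSolvable H := hG.2.2.2 H hHtop
  obtain ⟨N, hN, hN1, hNR, hNc, -, -⟩ := CfsgLib.Solvable.exists_normal_elementary_le hR inferInstance
  letI : CommGroup N := { (inferInstance : Group N) with mul_comm := fun a b => hNc.is_comm.comm a b }
  obtain ⟨L, hL, hNL⟩ := CfsgLib.CN.exists_maxNilp_ge
    (CfsgLib.CN.nilpotent_map (CommGroup.isNilpotent (G := N)) H.subtype)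
  obtain ⟨n, hn, hn1⟩ := (Subgroup.bot_or_exists_ne_one N).resolve_left hN1
  have hn1' : (n : G) ≠ 1 := fun e => hn1 (Subtype.ext e)
  have hHL : H ≤ Subgroup.normalizer (L : Set G) := by
    intro m hm
    rw [Subgroup.mem_normalizer_iff_map_conj_eq]
    refine CfsgLib.CN.eq_of_mem hG hCN (hL.conj m) hL ⟨(n : G), hNL ⟨n, hn, rfl⟩, rfl⟩
      (hNL ⟨⟨m, hm⟩ * n * ⟨m, hm⟩⁻¹, hN.conj_mem n hn _, rfl⟩) ?_
    simpa using hn1'
  -- `N(L)/L` is abelian
  obtain ⟨E, hE, -, hEfpf⟩ := CfsgLib.CN.exists_complement hG hCN hL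
  haveI hEc : IsCyclic E := CfsgLib.CN.isCyclic_of_inf_centralizer hG.1 hCN hL.ne_bot hE.2.1 hEfpf
  have hcomm : ∀ m ∈ Subgroup.normalizer (L : Set G), ∀ m' ∈ Subgroup.normalizer (L : Set G),
      m * m' * m⁻¹ * m'⁻¹ ∈ L := by
    intro m hm m' hm'
    set NL := Subgroup.normalizer (L : Set G)
    haveI : (L.subgroupOf NL).Normal := Subgroup.normal_in_normalizer
    let f := QuotientGroup.mk' (L.subgroupOf NL)
    have hf : ∀ (x : G) (hx : x ∈ NL), ∃ e, ∃ he : e ∈ E, f ⟨x, hx⟩ = f ⟨e, hE.2.1 he⟩ := by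
      intro x hx
      obtain ⟨l, hl, e, he, rfl⟩ := hE.2.2.2 x hx
      refine ⟨e, he, ?_⟩
      have h1 : f ⟨l, Subgroup.le_normalizer hl⟩ = 1 := (QuotientGroup.eq_one_iff _).2 hl
      have h2 : (⟨l * e, hx⟩ : NL) = ⟨l, Subgroup.le_normalizer hl⟩ * ⟨e, hE.2.1 he⟩ := rfl
      rw [h2, map_mul, h1, one_mul]
    obtain ⟨e, he, hfe⟩ := hf m hm
    obtain ⟨e', he', hfe'⟩ := hf m' hm'
    have hee : e * e' = e' * e := setLike_mul_comm he he'
    have h : f (⟨m, hm⟩ * ⟨m', hm'⟩ * ⟨m, hm⟩⁻¹ * ⟨m', hm'⟩⁻¹) = 1 := by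
      have h2 : (⟨e, hE.2.1 he⟩ : NL) * ⟨e', hE.2.1 he'⟩ = ⟨e', hE.2.1 he'⟩ * ⟨e, hE.2.1 he⟩ := Subtype.ext hee
      simp only [map_mul, map_inv]
      rw [hfe, hfe', ← map_mul f ⟨e, _⟩ ⟨e', _⟩, h2, map_mul]
      group
    have h' : (⟨m, hm⟩ * ⟨m', hm'⟩ * ⟨m, hm⟩⁻¹ * ⟨m', hm'⟩⁻¹ : NL) ∈ (QuotientGroup.mk' (L.subgroupOf NL)).ker :=
      MonoidHom.mem_ker.2 h
    rw [QuotientGroup.ker_mk'] at h'
    exact Subgroup.mem_subgroupOf.1 h'
  -- a normal subgroup centralized by `H ∩ L`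
  obtain ⟨x, -, hx⟩ := SetLike.exists_of_lt (lt_top_iff_ne_top.2 htop)
  obtain ⟨a, ha, ha1⟩ := (Subgroup.bot_or_exists_ne_one A).resolve_left hA1
  haveI := hRn
  haveI := hN
  haveI hL₀ : (L.subgroupOf H).Normal := by
    refine ⟨fun y hy g => ?_⟩
    exact (Subgroup.mem_normalizer_iff.1 (hHL g.2) (y : G)).1 hy
  set L₀ := L.subgroupOf H
  haveI : Group.IsNilpotent L₀ := by
    have h1 : Group.IsNilpotent (L₀.map H.subtype) :=
      CfsgLib.CN.nilpotent_of_le hL.1 (Subgroup.map_le_iff_le_comap.2 le_rfl)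
    exact Group.nilpotent_of_surjective
      (L₀.equivMapOfInjective H.subtype H.subtype_injective).symm.toMonoidHom (MulEquiv.surjective _)
  have hNL₀ : N ≤ L₀ := fun y hy => hNL ⟨y, hy, rfl⟩
  haveI : (N.subgroupOf L₀).Normal := Subgroup.Normal.subgroupOf hN L₀
  obtain ⟨w, hw, hw1⟩ := (Subgroup.bot_or_exists_ne_one _).resolve_left
    (CfsgLib.PGroupBasic.inf_center_ne_bot (N.subgroupOf L₀) (fun e => hN1 (by
      rw [← Subgroup.map_subgroupOf_eq_of_le hNL₀, e, Subgroup.map_bot])))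
  set X := N ⊓ Subgroup.centralizer (L₀ : Set H) with hXdef
  haveI : X.Normal := inferInstance
  have hwX : (w : H) ∈ X := ⟨hw.1, Subgroup.mem_centralizer_iff.2 fun l hl =>
    congrArg Subtype.val (Subgroup.mem_center_iff.1 hw.2 ⟨l, hl⟩)⟩
  set c := x * a * x⁻¹ * a⁻¹ with hc
  have hcL : c ∈ L₀ := hcomm _ (hHL x.2) _ (hHL a.2)
  have hcRA : c ∈ R ⊔ A := mul_mem (hRAn.conj_mem a (Subgroup.mem_sup_right ha) x)
    (inv_mem (Subgroup.mem_sup_right ha))
  obtain ⟨r, hr, u, hu, hru⟩ := Subgroup.mem_sup_of_normal_left.1 hcRA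
  suffices hu1 : u = 1 by
    refine hfrob x hx a ha ha1 ?_
    show c ∈ R
    rw [← hru, hu1, mul_one]
    exact hr
  let φ : H →* MulAut X := MulAut.conjNormal
  have hφc : φ c = 1 := MulEquiv.ext fun y => Subtype.ext (by
    show c * (y : H) * c⁻¹ = y
    rw [Subgroup.mem_centralizer_iff.1 y.2.2 c hcL, mul_inv_cancel_right])
  have hφu : φ u = (φ r)⁻¹ := eq_inv_of_mul_eq_one_right (by rw [← map_mul, hru, hφc])
  have hco : (orderOf r).Coprime (orderOf u) := by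
    obtain ⟨k, hk⟩ := hRp ⟨r, hr⟩
    exact ((hAcop.coprime_dvd_left (A.orderOf_dvd_natCard hu)).symm.pow_left k).coprime_dvd_left
      (orderOf_dvd_of_pow_eq_one (congrArg Subtype.val hk))
  have hφu1 : φ u = 1 := orderOf_eq_one_iff.1 (Nat.eq_one_of_dvd_coprimes hco
    (by rw [hφu, orderOf_inv]; exact orderOf_map_dvd φ r) (orderOf_map_dvd φ u))
  by_contra hu1
  have hfix : u * (w : H) * u⁻¹ = w :=
    congrArg (fun e : MulAut X => ((e ⟨w, hwX⟩ : X) : H)) hφu1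
  have : (w : H) ∈ R ⊓ Subgroup.centralizer ({u} : Set H) :=
    ⟨hNR hw.1, Subgroup.mem_centralizer_singleton_iff.2 (mul_inv_eq_iff_eq_mul.1 hfix).symm⟩
  rw [hfpf u hu hu1, Subgroup.mem_bot] at this
  exact hw1 (Subtype.ext this)

end Cfsg.Agent.S1478
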