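import Cfsg.Statements.S1483
import Cfsg.Agent.OddLocal.CNMinimal
-- import your own Cfsg.Agent.* helpers here

set_option autoImplicit false
open Cfsg

namespace Cfsg.Agent.S1483

/-- Let G be a minimal simple group of odd order in which every non-identity element has nilpotent centralizer. Then any two nilpotent subgroups each contained in no larger nilpotent subgroup are either conjugate or of coprime orders; and for primes p, q, r: if some elements x, y ≠ 1 of p-power and q-power order commute, and some elements y', z ≠ 1 of q-power and r-power order commute, then some elements of p-power and r-power order, both ≠ 1, commute. -/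
theorem result {G : Type*} [Group G] [Finite G] (hG : Cfsg.IsMinSimpleOddOrder G) (hCN : Cfsg.IsCNGroup G) :
    (∀ H₁ H₂ : Subgroup G, (Group.IsNilpotent ↥H₁ ∧ ∀ L : Subgroup G, Group.IsNilpotent L → H₁ ≤ L → L = H₁) → (Group.IsNilpotent ↥H₂ ∧ ∀ L : Subgroup G, Group.IsNilpotent L → H₂ ≤ L → L = H₂) → (∃ g : G, H₂ = H₁.map (MulAut.conj g).toMonoidHom) ∨ (Nat.card H₁).Coprime (Nat.card H₂)) ∧
      ∀ (p q r : ℕ), p.Prime → q.Prime → r.Prime → ∀ (x y y' z : G), x ≠ 1 → y ≠ 1 → y' ≠ 1 → z ≠ 1 →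
        IsPGroup p (Subgroup.zpowers x) → IsPGroup q (Subgroup.zpowers y) → IsPGroup q (Subgroup.zpowers y') → IsPGroup r (Subgroup.zpowers z) →
        x * y = y * x → y' * z = z * y' →
        ∃ x' z' : G, x' ≠ 1 ∧ z' ≠ 1 ∧ IsPGroup p (Subgroup.zpowers x') ∧ IsPGroup r (Subgroup.zpowers z') ∧ x' * z' = z' * x' := by
  have key : ∀ H₁ H₂ : Subgroup G, CfsgLib.CN.MaxNilp H₁ → CfsgLib.CN.MaxNilp H₂ → ∀ q : ℕ, q.Prime →
      q ∣ Nat.card H₁ → q ∣ Nat.card H₂ → ∃ g : G, H₂ = H₁.map (MulAut.conj g).toMonoidHom := by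
    intro H₁ H₂ h₁ h₂ q hq hq₁ hq₂
    haveI := Fact.mk hq
    obtain ⟨P₁, hP₁⟩ := CfsgLib.CN.exists_sylow_le hCN h₁ hq₁
    obtain ⟨P₂, hP₂⟩ := CfsgLib.CN.exists_sylow_le hCN h₂ hq₂
    obtain ⟨g, hg⟩ := MulAction.exists_smul_eq G P₁ P₂
    obtain ⟨x, hx, hx1⟩ := (Subgroup.bot_or_exists_ne_one _).resolve_left
      (P₂.ne_bot_of_dvd_card (hq₂.trans (Subgroup.card_subgroup_dvd_card H₂)))
    refine ⟨g, CfsgLib.CN.eq_of_mem hG hCN h₂ (h₁.conj g) (hP₂ hx) ?_ hx1⟩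
    rw [← hg, Sylow.coe_subgroup_smul] at hx
    exact Subgroup.map_mono hP₁ hx
  refine ⟨fun H₁ H₂ h₁ h₂ => ?_, ?_⟩
  · by_cases hc : (Nat.card H₁).Coprime (Nat.card H₂)
    · exact Or.inr hc
    · obtain ⟨q, hq, hq₁, hq₂⟩ := Nat.Prime.not_coprime_iff_dvd.1 hc
      exact Or.inl (key H₁ H₂ h₁ h₂ q hq hq₁ hq₂)
  intro p q r hp hq hr x y y' z hx1 hy1 hy'1 hz1 hxp hyq hy'q hzr hxy hyz
  by_cases hpr : p = r
  · subst hpr
    exact ⟨x, x, hx1, hx1, hxp, hxp, rfl⟩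
  have hab : ∀ a b : G, a * b = b * a → ∃ L : Subgroup G, CfsgLib.CN.MaxNilp L ∧ a ∈ L ∧ b ∈ L := by
    intro a b h
    have hcomm : ∀ u ∈ ({a, b} : Set G), ∀ v ∈ ({a, b} : Set G), u * v = v * u := by
      rintro u (rfl | rfl) v (rfl | rfl) <;> first | rfl | exact h | exact h.symm
    have hT := Subgroup.isMulCommutative_closure hcomm
    letI : CommGroup (Subgroup.closure ({a, b} : Set G)) :=
      { (inferInstance : Group (Subgroup.closure ({a, b} : Set G))) with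
        mul_comm := fun u v => hT.is_comm.comm u v }
    obtain ⟨L, hL, hle⟩ := CfsgLib.CN.exists_maxNilp_ge
      (CommGroup.isNilpotent (G := Subgroup.closure ({a, b} : Set G)))
    exact ⟨L, hL, hle (Subgroup.subset_closure (Or.inl rfl)), hle (Subgroup.subset_closure (Or.inr rfl))⟩
  obtain ⟨L₁, hL₁, hxL, hyL⟩ := hab x y hxy
  obtain ⟨L₂, hL₂, hy'L, hzL⟩ := hab y' z hyz
  haveI := Fact.mk hp; haveI := Fact.mk hq; haveI := Fact.mk hr
  have hdvd : ∀ {a : G} {L : Subgroup G}, IsPGroup q (Subgroup.zpowers a) → a ≠ 1 → a ∈ L → q ∣ Nat.card L := by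
    intro a L ha ha1 haL
    refine (ha.card_eq_or_dvd.resolve_left fun e => ha1 ?_).trans
      (Subgroup.card_dvd_of_le (Subgroup.zpowers_le.2 haL))
    exact Subgroup.zpowers_eq_bot.1 (Subgroup.eq_bot_of_card_eq _ e)
  obtain ⟨g, hg⟩ := key L₁ L₂ hL₁ hL₂ q hq (hdvd hyq hy1 hyL) (hdvd hy'q hy'1 hy'L)
  have hxg : g * x * g⁻¹ ∈ L₂ := hg ▸ ⟨x, hxL, rfl⟩
  obtain ⟨i, hi⟩ := IsPGroup.iff_card.1 hxp
  obtain ⟨j, hj⟩ := IsPGroup.iff_card.1 hzr
  rw [Nat.card_zpowers] at hi hj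
  have hord : orderOf (g * x * g⁻¹) = p ^ i := hi ▸ (MulAut.conj g).orderOf_eq x
  refine ⟨g * x * g⁻¹, z, by simpa using hx1, hz1, IsPGroup.of_card (n := i) (by rw [Nat.card_zpowers, hord]),
    hzr, ?_⟩
  refine (CfsgLib.CN.commute_in hL₂.1 hxg hzL ?_).eq
  rw [hord, hj]
  exact ((Nat.coprime_primes hp hr).2 hpr).pow i j

end Cfsg.Agent.S1483
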