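import Cfsg.Statements.S1484
import Cfsg.Agent.OddLocal.CNMinimal
-- import your own Cfsg.Agent.* helpers here

set_option autoImplicit false
open Cfsg

namespace Cfsg.Agent.S1484

/-- Let G be a minimal simple group of odd order in which every non-identity element has nilpotent centralizer, and M₁, …, M_k maximal subgroups, pairwise non-conjugate, such that every maximal subgroup is conjugate to some M_i. Let H_i be the largest normal nilpotent Hall subgroup of M_i. Then the orders of the H_i are pairwise coprime, their product is the order of G, and every element of G is conjugate to an element of some H_i. -/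
theorem result {G : Type*} [Group G] [Finite G] (hG : Cfsg.IsMinSimpleOddOrder G) (hCN : Cfsg.IsCNGroup G) (k : ℕ) (Mrep : Fin k → Subgroup G) (hmax : ∀ i, IsCoatom (Mrep i))
    (hnc : ∀ i j, i ≠ j → ∀ g : G, Mrep j ≠ (Mrep i).map (MulAut.conj g).toMonoidHom) (hall : ∀ M : Subgroup G, IsCoatom M → ∃ i, ∃ g : G, M = (Mrep i).map (MulAut.conj g).toMonoidHom) :
    (∀ i j, i ≠ j → (Nat.card (Cfsg.fittingHallOf (Mrep i))).Coprime (Nat.card (Cfsg.fittingHallOf (Mrep j)))) ∧
      ∏ i, Nat.card (Cfsg.fittingHallOf (Mrep i)) = Nat.card G ∧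
      ∀ x : G, ∃ i, ∃ g : G, g * x * g⁻¹ ∈ Cfsg.fittingHallOf (Mrep i) := by
  haveI := CfsgLib.CN.MinSimple.nontrivial hG
  choose L hL hM using fun i => CfsgLib.CN.exists_eq_normalizer hG hCN (hmax i)
  have hF : ∀ i, Cfsg.fittingHallOf (Mrep i) = L i := by
    intro i
    have hle : L i ≤ Mrep i := hM i ▸ Subgroup.le_normalizer
    haveI : ((L i).subgroupOf (Mrep i)).Normal :=
      (Subgroup.normal_subgroupOf_iff_le_normalizer hle).2 (hM i).le
    have hmem : L i ≤ Cfsg.fittingHallOf (Mrep i) := by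
      refine le_of_eq_of_le (Subgroup.map_subgroupOf_eq_of_le hle).symm (Subgroup.map_mono (le_sSup ⟨inferInstance, ?_, ?_⟩))
      · haveI := (hL i).1
        exact Group.nilpotent_of_surjective (Subgroup.subgroupOfEquivOfLe hle).symm.toMonoidHom (MulEquiv.surjective _)
      · rw [Nat.card_congr (Subgroup.subgroupOfEquivOfLe hle).toEquiv]
        exact (CfsgLib.CN.coprime_index hCN (hL i)).coprime_dvd_right (Subgroup.relIndex_dvd_index_of_le hle)
    refine (hL i).2 _ (CfsgLib.CN.nilpotent_map ?_ _) hmem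
    exact CfsgLib.CN.nilpotent_of_le CfsgLib.Solvable.isNilpotent_fittingSubgroup
      (sSup_le_sSup fun N hN => ⟨hN.1, hN.2.1⟩ : Cfsg.fittingHall (Mrep i) ≤ Cfsg.fittingSubgroup (Mrep i))
  have hcop : ∀ i j, i ≠ j → (Nat.card (L i)).Coprime (Nat.card (L j)) := by
    intro i j hij
    by_contra hc
    obtain ⟨q, hq, hq₁, hq₂⟩ := Nat.Prime.not_coprime_iff_dvd.1 hc
    haveI := Fact.mk hq
    obtain ⟨P₁, hP₁⟩ := CfsgLib.CN.exists_sylow_le hCN (hL i) hq₁
    obtain ⟨P₂, hP₂⟩ := CfsgLib.CN.exists_sylow_le hCN (hL j) hq₂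
    obtain ⟨g, hg⟩ := MulAction.exists_smul_eq G P₁ P₂
    obtain ⟨x, hx, hx1⟩ := (Subgroup.bot_or_exists_ne_one _).resolve_left
      (P₂.ne_bot_of_dvd_card (hq₂.trans (Subgroup.card_subgroup_dvd_card (L j))))
    have hxg : x ∈ (L i).map (MulAut.conj g).toMonoidHom := by
      have h := hx
      rw [← hg, Sylow.coe_subgroup_smul] at h
      exact Subgroup.map_mono hP₁ h
    refine hnc i j hij g ?_
    rw [hM i, hM j, CfsgLib.CN.eq_of_mem hG hCN (hL j) ((hL i).conj g) (hP₂ hx) hxg hx1]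
    exact (Subgroup.map_equiv_normalizer_eq _ _).symm
  have hcover : ∀ K : Subgroup G, Group.IsNilpotent K → ∃ i, ∃ g : G, K ≤ (L i).map (MulAut.conj g).toMonoidHom := by
    intro K hK
    obtain ⟨H, hH, hKH⟩ := CfsgLib.CN.exists_maxNilp_ge hK
    obtain ⟨i, g, hg⟩ := hall _ (CfsgLib.CN.isCoatom_normalizer hG hCN hH)
    refine ⟨i, g, le_of_le_of_eq hKH ?_⟩
    rw [hM i, Subgroup.map_equiv_normalizer_eq] at hg
    -- both subgroups are normal Hall in the same maximal subgroup, so they share an element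
    by_contra hne
    have hd : ∀ y, y ∈ H → y ∈ (L i).map (MulAut.conj g).toMonoidHom → y = 1 := fun y h1 h2 =>
      by_contra fun h => hne (CfsgLib.CN.eq_of_mem hG hCN hH ((hL i).conj g) h1 h2 h)
    obtain ⟨z, hz, hz1, -⟩ := CfsgLib.CN.exists_central hH.1 hH.ne_bot
    obtain ⟨y, hy, hy1, -⟩ := CfsgLib.CN.exists_central ((hL i).conj g).1 ((hL i).conj g).ne_bot
    have hzN : z ∈ Subgroup.normalizer (((L i).map (MulAut.conj g).toMonoidHom : Subgroup G) : Set G) :=
      hg ▸ Subgroup.le_normalizer hz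
    have hyN : y ∈ Subgroup.normalizer (H : Set G) := hg ▸ Subgroup.le_normalizer hy
    have hc : z * y * z⁻¹ * y⁻¹ = 1 := by
      refine hd _ ?_ (mul_mem ((Subgroup.mem_normalizer_iff.1 hzN y).1 hy) (inv_mem hy))
      rw [mul_assoc (z * y), mul_assoc z, ← mul_assoc y]
      exact mul_mem hz ((Subgroup.mem_normalizer_iff.1 hyN z⁻¹).1 (inv_mem hz))
    have hyH : y ∈ H := CfsgLib.CN.centLe hG hCN hH z hz hz1 (Subgroup.mem_centralizer_singleton_iff.2
      (mul_inv_eq_iff_eq_mul.1 (mul_inv_eq_one.1 hc)).symm)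
    exact hy1 (hd y hyH hy)
  refine ⟨fun i j hij => ?_, ?_, fun x => ?_⟩
  · rw [hF i, hF j]; exact hcop i j hij
  · simp only [hF]
    refine Nat.dvd_antisymm ?_ ?_
    · exact Finset.prod_dvd_of_isRelPrime (fun i _ j _ hij => Nat.coprime_iff_isRelPrime.1 (hcop i j hij))
        fun i _ => Subgroup.card_subgroup_dvd_card _
    · rw [Nat.dvd_iff_prime_pow_dvd_dvd]
      intro q k hq hk
      haveI := Fact.mk hq
      obtain ⟨T⟩ := (inferInstance : Nonempty (Sylow q G))
      obtain ⟨i, g, hle⟩ := hcover T T.2.isNilpotent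
      refine dvd_trans ?_ (Finset.dvd_prod_of_mem _ (Finset.mem_univ i))
      refine dvd_trans ?_ ((Subgroup.card_dvd_of_le hle).trans
        (by rw [Subgroup.card_map_of_injective (MulAut.conj g).injective]))
      rw [T.card_eq_multiplicity]
      exact Nat.pow_dvd_pow q (hq.pow_dvd_iff_le_factorization Nat.card_pos.ne' |>.1 hk)
  · obtain ⟨i, g, hle⟩ := hcover _ (CfsgLib.CN.nilpotent_zpowers x)
    refine ⟨i, g⁻¹, ?_⟩
    rw [hF i]
    simpa using CfsgLib.CN.mem_map_conj.1 (hle (Subgroup.mem_zpowers x))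

end Cfsg.Agent.S1484
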