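-- Proof of statement S1507.
import Cfsg.Statements.S1507
import Cfsg.Agent.Char.CyclicUnique

set_option autoImplicit false
open Cfsg

namespace Cfsg.Agent.S1507

open Classical in
/-- Let W₁, W₂ ≤ G form a self-normalising cyclic subgroup W = W₁ ⊔ W₂ of odd order with Nat.card W₁ < Nat.card W₂, and χ an orthonormal family of irreducible characters of G up to sign, indexed by the linear characters ω of W, with χ_1 = 1, χ_ω = ω on W outside W₁ ∪ W₂, and the induction identity for (1 − φ)(1 − ψ). Let θ be a class function of G vanishing on W outside W₁ ∪ W₂, and suppose fewer than 2 · Nat.card W₁ linear characters ω of W have ⟨θ, χ ω⟩ ≠ 0. Then one of: all ⟨θ, χ ω⟩ vanish; or there are ψ₀ and a with ⟨θ, χ ω⟩ = a when ω ψ₀⁻¹ is trivial on W₂ and 0 otherwise; or there are φ₀ and a with ⟨θ, χ ω⟩ = a when ω φ₀⁻¹ is trivial on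 W₁ and 0 otherwise. -/
theorem result {G : Type*} [Group G] [Fintype G] (W₁ W₂ : Subgroup G) (hW : Cfsg.IsSelfNormalizingCyclic W₁ W₂) (hodd : Odd (Nat.card ↥(W₁ ⊔ W₂))) (χ : (↥(W₁ ⊔ W₂) →* ℂˣ) → (G → ℂ)) (hχ : Cfsg.IsCyclicTIFamily W₁ W₂ χ) (hlt : Nat.card W₁ < Nat.card W₂) (θ : G → ℂ) (hθ : Cfsg.IsClassFunction G θ) (hθV : ∀ w : ↥(W₁ ⊔ W₂), (w : G) ∉ W₁ → (w : G) ∉ W₂ → θ w = 0) (hfew : Nat.card {ω : ↥(W₁ ⊔ W₂) →* ℂˣ // Cfsg.classInner θ (χ ω) ≠ 0} < 2 * Nat.card W₁) : (∀ ω, Cfsg.classInner θ (χ ω) = 0) ∨ (∃ (ψ₀ : ↥(W₁ ⊔ W₂) →* ℂˣ) (a : ℂ), ∀ ω, Cfsg.classInner θ (χ ω) = if (∀ w : ↥(W₁ ⊔ W₂), (w : G) ∈ W₂ → (ω * ψ₀⁻¹) w = 1) then a else 0) ∨ (∃ (φ₀ : ↥(W₁ ⊔ W₂) →* ℂˣ) (a : ℂ), ∀ ω, Cfsg.classInner θ (χ ω) = if (∀ w : ↥(W₁ ⊔ W₂), (w : G) ∈ W₁ → (ω * φ₀⁻¹) w = 1) then a else 0) := by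
  classical
  obtain ⟨hn1, hn2, hdisj, hcomm, hcyc, -⟩ := id hW
  have := Fintype.ofFinite ↥(W₁ ⊔ W₂)
  obtain ⟨p₁, p₂, hp⟩ := CfsgLib.Char.exists_split hdisj hcomm
  rw [CfsgLib.Char.card_sup_eq hdisj hcomm, Nat.odd_mul] at hodd
  obtain ⟨⟨k₁, hk₁⟩, k₂, hk₂⟩ := hodd
  rcases CfsgLib.Char.additive_few hW hp (fun ω => Cfsg.classInner θ (χ ω))
      (fun φ ψ hφ hψ => CfsgLib.Char.cyclicTI_additive hχ hθ hθV hφ hψ) hfew (by omega) (by omega)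
    with h | ⟨ψ₀, hψ₀, c, -, hc⟩ | ⟨φ₀, hφ₀, c, -, hc⟩
  · exact Or.inl h
  · refine Or.inr (Or.inl ⟨ψ₀, c, fun ω => (hc ω).trans ?_⟩)
    simp only [hp.trivial_right_iff hψ₀]
  · refine Or.inr (Or.inr ⟨φ₀, c, fun ω => (hc ω).trans ?_⟩)
    simp only [hp.trivial_left_iff hφ₀]

end Cfsg.Agent.S1507
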