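-- Proof of statement S1524.
import Cfsg.Statements.S1524
import Cfsg.Agent.Char.OddFrobeniusCoherence

set_option autoImplicit false
open Cfsg

namespace Cfsg.Agent.S1524

/-- Let G be a finite group and H ≤ L subgroups with L of odd order, H ≠ ⊥ nilpotent and normal in L with a nontrivial complement W₁ in L (H ⊓ W₁ = ⊥, H ⊔ W₁ = L) acting on H without non-identity fixed points (L is a Frobenius group with kernel H), and suppose the underlying set of H is a TI-subset of G whose normaliser is L. Let S be the set of functions on L induced from the non-principal irreducible characters of H. Then (S, L minus 1, induction to G) is coherent. -/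
theorem result {G : Type*} [Group G] [Fintype G] (H L W₁ : Subgroup G) [Fintype L] (hodd : Odd (Nat.card L)) (hHL : H ≤ L) (hW₁L : W₁ ≤ L) (hH1 : H ≠ ⊥) (hW1 : W₁ ≠ ⊥) (hnil : Group.IsNilpotent H) (hHn : ∀ x ∈ L, ∀ h ∈ H, x * h * x⁻¹ ∈ H) (hinf : H ⊓ W₁ = ⊥) (hsup : H ⊔ W₁ = L) (hfpf : ∀ w ∈ W₁, w ≠ 1 → ∀ h ∈ H, w * h = h * w → h = 1) (hTI : Cfsg.IsTISubset (H : Set G)) (hN : Subgroup.normalizer (H : Set G) = L) : Cfsg.IsCoherent (Cfsg.inducedIrrAbove (H.subgroupOf L) ⊥) {1}ᶜ (fun α : L → ℂ => Cfsg.indFun L α) := by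
  classical
    have hHL' : H < L := by
      refine lt_of_le_of_ne hHL fun h => hW1 ?_
      rw [← hinf]
      exact (inf_eq_right.2 (h ▸ hW₁L)).symm
    haveI : (H.subgroupOf L).Normal := ⟨fun a ha g => by
      rw [Subgroup.mem_subgroupOf] at ha ⊢
      simpa using hHn g g.2 _ ha⟩
    have hC := CfsgLib.Char.centralizer_le_of_fpf (K := H.subgroupOf L) (H := W₁.subgroupOf L)
      (by rw [← Subgroup.subgroupOf_sup hHL hW₁L, hsup, Subgroup.subgroupOf_self])
      (fun w hw hw1 h hh he => Subtype.ext (hfpf w hw (fun e => hw1 (Subtype.ext e)) h hh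
        (congrArg Subtype.val he)))
    refine CfsgLib.Char.coherent_odd_frobenius_TI hodd hHL' hH1 hnil hHn (fun a ha ha1 x hx => ?_) hTI hN
    have h1 := hC ⟨a, hHL ha⟩ ha (fun e => ha1 (congrArg Subtype.val e)) (x := ⟨x, hx.1⟩) ?_
    · exact h1
    · exact Subgroup.mem_centralizer_singleton_iff.2
        (Subtype.ext (Subgroup.mem_centralizer_singleton_iff.1 hx.2))

end Cfsg.Agent.S1524
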