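-- Proof of statement S1532.
import Cfsg.Statements.S1532
import Cfsg.Agent.Char.SibleyCoherence

set_option autoImplicit false
open Cfsg

namespace Cfsg.Agent.S1532

/-- Let G be a finite group, p an odd prime and P a Sylow p-subgroup that is non-abelian, whose underlying set is a TI-subset of G, with P properly contained in its set normaliser N and C_G(x) ≤ P for every non-identity x ∈ P. Let Z be a nontrivial subgroup of the centre of P normalised by N. Then the set of irreducible characters χ of N with χ z ≠ χ 1 for some z ∈ Z is coherent for the map induced by induction from N to G. -/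
theorem result {G : Type*} [Group G] [Fintype G] (p : ℕ) [Fact p.Prime] (hp : p ≠ 2) (P : Sylow p G) (hna : ¬ IsMulCommutative (P : Subgroup G)) (hTI : Cfsg.IsTISubset ((P : Subgroup G) : Set G)) (hlt : (P : Subgroup G) < Subgroup.normalizer ((P : Subgroup G) : Set G)) (hC : ∀ k ∈ (P : Subgroup G), k ≠ 1 → Subgroup.centralizer ({k} : Set G) ≤ (P : Subgroup G)) [Fintype ↥(Subgroup.normalizer ((P : Subgroup G) : Set G))] (Z : Subgroup G) (hZ1 : Z ≠ ⊥) (hZP : ∀ z ∈ Z, z ∈ (P : Subgroup G) ∧ ∀ y ∈ (P : Subgroup G), z * y = y * z) (hZn : ∀ x ∈ Subgroup.normalizer ((P : Subgroup G) : Set G), ∀ z ∈ Z, x * z * x⁻¹ ∈ Z) : Cfsg.IsCoherent {χ : ↥(Subgroup.normalizer ((P : Subgroup G) : Set G)) → ℂ | Cfsg.IsIrrCharacter ↥(Subgroup.normalizer ((P : Subgroup G) : Set G)) χ ∧ ∃ z : ↥(Subgroup.normalizer ((P : Subgroup G) : Set G)), (z : G) ∈ Z ∧ χ z ≠ χ 1} {1}ᶜ (fun α => Cfsg.indFun (Subgroup.normalizer ((P : Subgroup G) : Set G)) α) := by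
  classical
  have hP := P.2
  haveI := hP.isNilpotent
  have hP1 : (P : Subgroup G) ≠ ⊥ := fun h => hna (by rw [h]; infer_instance)
  set K := (P : Subgroup G).subgroupOf (Subgroup.normalizer ((P : Subgroup G) : Set G)) with hK
  haveI hKn : K.Normal := Subgroup.normal_in_normalizer
  have hnaK : ¬ IsMulCommutative K := fun h => hna ⟨⟨fun a b => by
    obtain ⟨a, rfl⟩ := (Subgroup.subgroupOfEquivOfLe hlt.le).surjective a
    obtain ⟨b, rfl⟩ := (Subgroup.subgroupOfEquivOfLe hlt.le).surjective b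
    rw [← map_mul, ← map_mul, h.is_comm.comm a b]⟩⟩
  have hCK : ∀ a ∈ K, a ≠ 1 → Subgroup.centralizer ({a} : Set (Subgroup.normalizer ((P : Subgroup G) : Set G))) ≤ K := fun a ha ha1 x hx =>
    hC a ha (fun h => ha1 (Subtype.ext h)) (Subgroup.mem_centralizer_singleton_iff.2
      (congrArg Subtype.val (Subgroup.mem_centralizer_singleton_iff.1 hx)))
  have hoddL : Odd (Nat.card (Subgroup.normalizer ((P : Subgroup G) : Set G))) := by
    rw [← K.card_mul_index, Nat.card_congr (Subgroup.subgroupOfEquivOfLe hlt.le).toEquiv]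
    obtain ⟨m, hm⟩ := IsPGroup.iff_card.1 hP
    rw [hm]
    exact (((Fact.out : p.Prime).odd_of_ne_two hp).pow).mul (CfsgLib.Char.frob_odd_index hCK hnaK)
  have h := CfsgLib.Char.coherent_odd_frobenius_TI hoddL hlt hP1 inferInstance
    (fun x hx h hh => (Subgroup.mem_normalizer_iff.1 hx h).1 hh)
    (fun a ha ha1 => inf_le_right.trans (hC a ha ha1)) hTI rfl
  rw [CfsgLib.Char.inducedIrrAbove_bot_eq hCK] at h
  obtain ⟨z, hz, hz1⟩ := (Subgroup.bot_or_exists_ne_one _).resolve_left hZ1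
  have hzN : z ∈ (Subgroup.normalizer ((P : Subgroup G) : Set G)) := Subgroup.le_normalizer (hZP z hz).1
  obtain ⟨χ, hχ, hne⟩ : ∃ χ, Cfsg.IsIrrCharacter (Subgroup.normalizer ((P : Subgroup G) : Set G)) χ ∧ χ ⟨z, hzN⟩ ≠ χ 1 := by
    by_contra hall
    push Not at hall
    exact hz1 (congrArg Subtype.val (isConj_one_left.1 ((CfsgLib.Char.isConj_iff_irr_eq (⟨z, hzN⟩ : (Subgroup.normalizer ((P : Subgroup G) : Set G))) 1).2 hall)))
  refine CfsgLib.Char.isCoherent_subset ?_ h ?_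
  · rintro φ ⟨hφ, w, hw, hwne⟩
    exact ⟨hφ, w, (hZP _ hw).1, hwne⟩
  · have hmem : χ ∈ Cfsg.inducedIrrAbove K ⊥ := by
      rw [CfsgLib.Char.inducedIrrAbove_bot_eq hCK]
      exact ⟨hχ, ⟨z, hzN⟩, (hZP z hz).1, hne⟩
    obtain ⟨θ, h1, h2, -, rfl⟩ := id hmem
    have h0 : Cfsg.classInner (Cfsg.conjFun (Cfsg.indFun K θ)) (Cfsg.indFun K θ) = 0 :=
      CfsgLib.Char.classInner_conj_indFun_eq_zero (G := ↥(Subgroup.normalizer ((P : Subgroup G) : Set G))) hoddL h1 h2
    have hne' : Cfsg.conjFun (Cfsg.indFun K θ) ≠ Cfsg.indFun K θ := fun e => by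
      rw [e, CfsgLib.Char.IsIrrCharacter.classInner_self hχ] at h0
      exact one_ne_zero h0
    have hmem' := CfsgLib.Char.conjFun_mem_inducedIrrAbove hmem
    rw [CfsgLib.Char.inducedIrrAbove_bot_eq hCK] at hmem'
    refine ⟨Cfsg.indFun K θ - Cfsg.conjFun (Cfsg.indFun K θ), CfsgLib.Char.mem_zspanOn_one.2
      ⟨Submodule.sub_mem _ (CfsgLib.Char.subset_zspan ⟨hχ, ⟨z, hzN⟩, hz, hne⟩)
        (CfsgLib.Char.subset_zspan ⟨hmem'.1, ⟨z, hzN⟩, hz, fun e => hne ?_⟩), ?_⟩, sub_ne_zero.2 hne'.symm⟩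
    · have := congrArg (starRingEnd ℂ) e
      simpa [Cfsg.conjFun] using this
    · obtain ⟨n, -, hn⟩ := CfsgLib.Char.IsIrrCharacter.exists_degree hχ
      rw [Pi.sub_apply, Cfsg.conjFun, hn, map_natCast, sub_self]

end Cfsg.Agent.S1532
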