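import Cfsg.Statements.S1550
import Cfsg.Agent.Golay.FamSextet
import Cfsg.Agent.Golay.StabTools

set_option autoImplicit false
open scoped Pointwise
open Cfsg

namespace Cfsg.Agent.S1550

/-- Every 4-element set of the 24 points is a tetrad of exactly one sextet, and the sextets number 1771. -/
theorem result : (∀ t : Finset Cfsg.GolayPt, t.card = 4 → ∃! S : Finset (Finset Cfsg.GolayPt), S ∈ Cfsg.sextets ∧ t ∈ S) ∧ Cfsg.sextets.ncard = 1771 := by
  open CfsgLib.Golay CfsgLib.Golay.Cert in
  refine ⟨fun t ht => ?_, ?_⟩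
  · have hU : ∀ S S', S ∈ sextets ∧ t ∈ S → S' ∈ sextets ∧ t ∈ S' → S = S' := fun S S' h h' => by
      rw [sextet_eq h.1 h.2, sextet_eq h'.1 h'.2]
    obtain ⟨S, hS⟩ : ∃ S, S ∈ sextets ∧ t ∈ S := by
      let e : Fin 4 ≃ t := (Fintype.equivFinOfCardEq (by simp [ht])).symm
      let x : ℕ → GolayPt := fun i => if h : i < 4 then (e ⟨i, h⟩ : GolayPt) else none
      obtain ⟨g, hg, hgx⟩ := exists_mem_map_base 4 (by norm_num) x fun i hi j hj h => by
        simp only [x, hi, hj, dif_pos] at h
        simpa using e.injective (Subtype.ext h)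
      obtain ⟨i, hi, hm⟩ : ∃ i < 1771, 8388615 ∈ sextCat.obj i := by decide +kernel
      have hcat : sextCat.Mem (toObj (sextCat.obj i)) := ⟨i, by rw [show sextCat.size = 1771 from rfl]; exact hi, rfl⟩
      refine ⟨(⟨g, hg⟩ : M24) • toObj (sextCat.obj i), smul_mem_sextets _ _ (sextets_cat.1 ▸ hcat), ?_⟩
      have h0 : pts 8388615 = {bp 0, bp 1, bp 2, bp 3} := by decide +kernel
      have hb : pts 8388615 ∈ toObj (sextCat.obj i) := mem_toObj.mpr ⟨_, hm, rfl⟩
      refine Finset.mem_smul_finset.mpr ⟨_, hb, ?_⟩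
      refine Finset.eq_of_subset_of_card_le ?_ (by rw [ht, Finset.card_smul_finset, card_pts]; decide +kernel)
      intro p hp
      obtain ⟨q, hq, rfl⟩ := Finset.mem_smul_finset.mp hp
      rw [h0] at hq
      simp only [Finset.mem_insert, Finset.mem_singleton] at hq
      have hx : ∀ j (hj : j < 4), g (bp j) ∈ t := fun j hj => by
        rw [hgx j hj]; simp [x, hj]
      rcases hq with rfl | rfl | rfl | rfl
      exacts [hx 0 (by norm_num), hx 1 (by norm_num), hx 2 (by norm_num), hx 3 (by norm_num)]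
    exact ⟨S, hS, fun S' h => hU S' S h hS⟩
  · rw [sextets_cat.1, ← sextCat_trans.ncard]
    congr 1
    ext X
    simp [sig]

end Cfsg.Agent.S1550
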