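import Cfsg.Statements.S1552
import Cfsg.Agent.Golay.MaximalTools
import Cfsg.Agent.Golay.SextTrioPos
import Cfsg.Agent.Golay.Orb.SextBase

set_option autoImplicit false
open scoped Pointwise
open Cfsg

namespace Cfsg.Agent.S1552

/-- A sextet stabiliser has four orbits on the 1771 sextets, of sizes 1, 90, 240, 1440; and the stabiliser is a maximal proper subgroup. -/
theorem result (S : Finset (Finset Cfsg.GolayPt)) (hS : S ∈ Cfsg.sextets) : ∃ X₁ ∈ Cfsg.sextets, ∃ X₂ ∈ Cfsg.sextets, ∃ X₃ ∈ Cfsg.sextets, (MulAction.orbit ↥(MulAction.stabilizer Cfsg.M24 S) X₁).ncard = 90 ∧ (MulAction.orbit ↥(MulAction.stabilizer Cfsg.M24 S) X₂).ncard = 240 ∧ (MulAction.orbit ↥(MulAction.stabilizer Cfsg.M24 S) X₃).ncard = 1440 ∧ Cfsg.sextets = {S} ∪ MulAction.orbit ↥(MulAction.stabilizer Cfsg.M24 S) X₁ ∪ MulAction.orbit ↥(MulAction.stabilizer Cfsg.M24 S) X₂ ∪ MulAction.orbit ↥(MulAction.stabilizer Cfsg.M24 S) X₃ ∧ IsCoatom (MulAction.stabilizer Cfsg.M24 S) := by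
  
  open CfsgLib.Golay.Cert in
    obtain ⟨k, hk⟩ := map_sextet hS
    have hL := ((Cat.layout bSext_sext_ok (L := [([600000030], 1), ([120024], 90), ([2001816], 240), ([41616], 1440)]) rfl :
      Layout sextCat [toObj sStd] _)).at sextets_cat.2 hk
    have hkS : k • toObj sStd = S := by simpa using hk
    have hv0 : sig [S] S = [600000030] := by
      rw [← hkS, sig_self]
      simp only [sig, List.map_cons, List.map_nil]
      rw [J_toObj (by decide +kernel) (by decide +kernel)]
      decide +kernel
    obtain ⟨X1, hX1, hc1, ho1⟩ := hL.orbit sextets_cat.2 (K := MulAction.stabilizer M24 S) (fun g => mem_stab_obj)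
      (v := [120024]) (n := 90) (by decide) (by decide)
    obtain ⟨X2, hX2, hc2, ho2⟩ := hL.orbit sextets_cat.2 (K := MulAction.stabilizer M24 S) (fun g => mem_stab_obj)
      (v := [2001816]) (n := 240) (by decide) (by decide)
    obtain ⟨X3, hX3, hc3, ho3⟩ := hL.orbit sextets_cat.2 (K := MulAction.stabilizer M24 S) (fun g => mem_stab_obj)
      (v := [41616]) (n := 1440) (by decide) (by decide)
    refine ⟨X1, sextets_cat.1.ge hX1, X2, sextets_cat.1.ge hX2, X3, sextets_cat.1.ge hX3, hc1, hc2, hc3, ?_, hL.isCoatom sextets_cat.2 sextCat_trans (sextets_cat.1.le hS) (by decide) (by norm_num) (by decide +kernel)⟩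
    ext Y
    simp only [Set.mem_union, Set.mem_singleton_iff, ho1, ho2, ho3, Set.mem_ofPred_eq]
    constructor
    · intro hY
      have hm := sextets_cat.1.le hY
      have h := hL.all Y hm
      simp only [List.map_cons, List.map_nil, List.mem_cons, List.not_mem_nil, or_false] at h
      rcases h with h0 | h
      · have := hL.eq_self (v := [600000030]) (by decide) (sextets_cat.1.le hS) hv0 hm h0
        tauto
      · tauto
    · intro h
      by_cases hYS : Y = S
      · exact hYS ▸ hS
      · exact sextets_cat.1.ge (by tauto)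


end Cfsg.Agent.S1552
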