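import Cfsg.Statements.S1553
import Cfsg.Agent.Golay.OctadStab

set_option autoImplicit false
open scoped Pointwise
open Cfsg

namespace Cfsg.Agent.S1553

/-- The stabiliser of an octad in the group of the length-24 code induces on the octad exactly its alternating group. -/
theorem result (o : Finset Cfsg.GolayPt) (ho : o ∈ Cfsg.octads) : {e : Equiv.Perm ↥o | ∃ g : Equiv.Perm Cfsg.GolayPt, g ∈ Cfsg.M24 ∧ ∃ h : (∀ x, g x ∈ o ↔ x ∈ o), g.subtypePerm h = e} = (alternatingGroup ↥o : Set (Equiv.Perm ↥o)) := by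
  
  open CfsgLib.Golay CfsgLib.Golay.Cert in
    ext e
    simp only [Set.mem_ofPred_eq, SetLike.mem_coe, ← range_res ho, MonoidHom.mem_range]
    constructor
    · rintro ⟨g, hg, h, rfl⟩
      refine ⟨⟨⟨g, hg⟩, ?_⟩, Equiv.ext fun x => Subtype.ext rfl⟩
      rw [MulAction.mem_stabilizer_iff, smul_finset_eq_image]
      refine Finset.eq_of_subset_of_card_le (fun y hy => ?_) (by rw [Finset.card_image_of_injective _ g.injective])
      obtain ⟨x, hx, rfl⟩ := Finset.mem_image.mp hy
      exact (h x).mpr hx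
    · rintro ⟨g, rfl⟩
      refine ⟨g.1.1, g.1.2, fun x => ?_, rfl⟩
      exact (show g.1.1 x ∈ o ↔ g.1 • x ∈ g.1 • o by rw [MulAction.mem_stabilizer_iff.mp g.2]; rfl).trans (smul_mem_iff' g.1)

end Cfsg.Agent.S1553
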