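import Cfsg.Statements.S1554
import Cfsg.Agent.Golay.OctadStab

set_option autoImplicit false
open scoped Pointwise
open Cfsg

namespace Cfsg.Agent.S1554

/-- An octad stabiliser is a split extension: the joint stabiliser of the octad and a point outside it is a complement to the pointwise stabiliser of the octad, and is isomorphic to the alternating group of degree 8. -/
theorem result (o : Finset Cfsg.GolayPt) (ho : o ∈ Cfsg.octads) (p : Cfsg.GolayPt) (hp : p ∉ o) : (Cfsg.M24 ⊓ fixingSubgroup (Equiv.Perm Cfsg.GolayPt) (o : Set Cfsg.GolayPt)) ⊓ (Cfsg.M24 ⊓ MulAction.stabilizer (Equiv.Perm Cfsg.GolayPt) o ⊓ MulAction.stabilizer (Equiv.Perm Cfsg.GolayPt) p) = ⊥ ∧ (Cfsg.M24 ⊓ fixingSubgroup (Equiv.Perm Cfsg.GolayPt) (o : Set Cfsg.GolayPt)) ⊔ (Cfsg.M24 ⊓ MulAction.stabilizer (Equiv.Perm Cfsg.GolayPt) o ⊓ MulAction.stabilizer (Equiv.Perm Cfsg.GolayPt) p) = (Cfsg.M24 ⊓ MulAction.stabilizer (Equiv.Perm Cfsg.GolayPt)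 o) ∧ Nonempty (↥(Cfsg.M24 ⊓ MulAction.stabilizer (Equiv.Perm Cfsg.GolayPt) o ⊓ MulAction.stabilizer (Equiv.Perm Cfsg.GolayPt) p) ≃* alternatingGroup (Fin 8)) := by
  
  open CfsgLib.Golay CfsgLib.Golay.Cert in
    refine ⟨?_, le_antisymm (sup_le ?_ inf_le_left) ?_, ?_⟩
    · refine (Subgroup.eq_bot_iff_forall _).mpr fun σ hσ => ?_
      have h := eq_one_of_fix ho hp (g := ⟨σ, hσ.1.1⟩) (mem_fix_iff.mp hσ.1.2) hσ.2.2
      exact congrArg (fun z : M24 => (z : Equiv.Perm GolayPt)) h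
    · exact fun σ hσ => ⟨hσ.1, mem_stab_of_fix (g := ⟨σ, hσ.1⟩) (mem_fix_iff.mp hσ.2)⟩
    · intro σ hσ
      have hgp : σ p ∉ o := fun h => hp ((smul_mem_iff' (⟨σ, hσ.1⟩ : M24)).mp (by
        rw [show (⟨σ, hσ.1⟩ : M24) • o = o from hσ.2]; exact h))
      obtain ⟨e, he, hep⟩ := exists_fix_map ho hp hgp
      have he' : e.1 ∈ M24 ⊓ fixingSubgroup (Equiv.Perm GolayPt) (o : Set GolayPt) := ⟨e.2, mem_fix_iff.mpr he⟩
      have hes : e.1 • o = o := MulAction.mem_stabilizer_iff.mp (mem_stab_of_fix he)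
      have h2 : e.1⁻¹ * σ ∈ M24 ⊓ MulAction.stabilizer (Equiv.Perm GolayPt) o ⊓ MulAction.stabilizer (Equiv.Perm GolayPt) p := by
        refine mem_inf_iff.mpr ⟨mul_mem (inv_mem e.2) hσ.1, ?_, ?_⟩
        · rw [mul_smul, show σ • o = o from hσ.2, inv_smul_eq_iff, hes]
        · rw [Equiv.Perm.mul_apply, ← hep, Equiv.Perm.inv_def, Equiv.symm_apply_apply]
      have := Subgroup.mul_mem_sup he' h2
      rwa [mul_inv_cancel_left] at this
    · let e : ↥o ≃ Fin 8 := Fintype.equivFinOfCardEq (by rw [Fintype.card_coe, octad_card ho])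
      exact ⟨(MulEquiv.ofBijective _ (resPt_bijective ho hp)).trans e.altCongrHom⟩

end Cfsg.Agent.S1554
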