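import Cfsg.Statements.S1555
import Cfsg.Agent.Golay.Dodecad
import Cfsg.Agent.Golay.Cats.OctData

set_option autoImplicit false
open scoped Pointwise
open Cfsg

namespace Cfsg.Agent.S1555

open CfsgLib.Golay

/-- The masks of the subsets of the base octad. -/
def octSubs : List ℕ :=
  ((List.range 24).filter fun i => baseOctad.testBit i).foldl (fun l i => l ++ l.map (· ||| 2 ^ i)) [0]

theorem octSubs_lt : ∀ m ∈ octSubs, m < 2 ^ 24 := by decide +kernel

/-- The words of the octads. -/
def octW : List ℕ := CfsgLib.Golay.Cert.octCat.data.flatten.map fun X => X.headD 0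

theorem octW_ok : octW.Nodup ∧ octW.length = 759 ∧ ∀ c ∈ octW, wt 24 c = 8 ∧ word (c % 4096) = c := by
  decide +kernel

theorem mem_octads_octW {o : Finset GolayPt} (ho : o ∈ Cfsg.octads) : ∃ c ∈ octW, pts c = o := by
  obtain ⟨h1, h2, h3⟩ := octW_ok
  have hlt : ∀ c ∈ octW, c < 2 ^ 24 := fun c hc => by
    rw [← (h3 c hc).2]; exact word_lt _ (Nat.mod_lt _ (by norm_num))
  have hsub : ((octW.map pts).toFinset : Set (Finset GolayPt)) ⊆ Cfsg.octads := by
    intro x hx
    obtain ⟨c, hc, rfl⟩ := List.mem_map.mp (List.mem_toFinset.mp hx)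
    exact (mem_octads_iff _).mpr ⟨c % 4096, Nat.mod_lt _ (by norm_num), by rw [(h3 c hc).2]; exact (h3 c hc).1,
      by rw [(h3 c hc).2]⟩
  have heq := Set.eq_of_subset_of_ncard_le hsub (by
    rw [Set.ncard_coe_finset, List.toFinset_card_of_nodup (h1.map_on fun a ha b hb => pts_inj (hlt a ha) (hlt b hb)),
      List.length_map, h2, octad_count]) (Set.toFinite _)
  rw [← heq] at ho
  exact List.mem_map.mp (List.mem_toFinset.mp ho)

theorem octSubs_counts : ∀ m ∈ octSubs,
    (wt 24 m = 2 → (octW.filter fun c => c &&& baseOctad == m).length = 16) ∧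
    (wt 24 m = 4 → (octW.filter fun c => c &&& baseOctad == m).length = 4) := by
  decide +kernel

/-- Bottom row of the Leech triangle: an octad is met in a prescribed pair of its points by exactly 16 octads and in a prescribed 4-subset by exactly 4 octads. -/
theorem result (o : Finset Cfsg.GolayPt) (ho : o ∈ Cfsg.octads) (s : Finset Cfsg.GolayPt) (hs : s ⊆ o) : (s.card = 2 → {o' : Finset Cfsg.GolayPt | o' ∈ Cfsg.octads ∧ o ∩ o' = s}.ncard = 16) ∧ (s.card = 4 → {o' : Finset Cfsg.GolayPt | o' ∈ Cfsg.octads ∧ o ∩ o' = s}.ncard = 4) := by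
  open CfsgLib.Golay in
  obtain ⟨g, hg, hgo⟩ := exists_map_baseOctad ho
  have hgo' : (⟨g, hg⟩ : M24) • pts baseOctad = o := (smul_finset_eq_image _ _).trans hgo
  set k : M24 := ⟨g, hg⟩
  have hsub : k⁻¹ • s ⊆ pts baseOctad := by
    rw [← inv_smul_smul k (pts baseOctad), hgo']
    exact Finset.smul_finset_subset_smul_finset hs
  have hall : ∀ u : Finset GolayPt, u ⊆ pts baseOctad → ∃ m ∈ octSubs, pts m = u := by
    intro u
    induction u using Finset.induction_on with
    | empty => exact fun _ => ⟨0, by decide +kernel, by ext; simp [pts]⟩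
    | insert p u hp ih =>
      intro h
      obtain ⟨m, hm, hmu⟩ := ih fun q hq => h (Finset.mem_insert_of_mem hq)
      have hbit : baseOctad.testBit (idx p) = true := by
        simpa [pts] using h (Finset.mem_insert_self p u)
      have hcl : ∀ m ∈ octSubs, ∀ i < 24, baseOctad.testBit i = true → m ||| 2 ^ i ∈ octSubs := by decide +kernel
      refine ⟨m ||| 2 ^ idx p, hcl m hm _ (idx_lt p) hbit, ?_⟩
      ext q
      rw [Finset.mem_insert, ← hmu]
      simp only [pts, Finset.mem_filter, Finset.mem_univ, true_and, Nat.testBit_or, Nat.testBit_two_pow,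
        Bool.or_eq_true, decide_eq_true_eq]
      exact ⟨fun h => h.elim Or.inr fun e => Or.inl (idx_injective e.symm), fun h => h.elim (fun e => Or.inr (e ▸ rfl)) Or.inl⟩
  obtain ⟨m, hm, hms⟩ := hall _ hsub
  have hcount : {o' : Finset GolayPt | o' ∈ octads ∧ o ∩ o' = s}.ncard =
      (octW.filter fun c => c &&& baseOctad == m).length := by
    obtain ⟨h1, h2, h3⟩ := octW_ok
    have hlt : ∀ c ∈ octW, c < 2 ^ 24 := fun c hc => by
      rw [← (h3 c hc).2]; exact word_lt _ (Nat.mod_lt _ (by norm_num))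
    rw [← List.toFinset_card_of_nodup (h1.filter _), ← Set.ncard_coe_finset]
    symm
    refine Set.ncard_congr (fun c _ => k • pts c) ?_ ?_ ?_
    · intro c hc
      obtain ⟨hc', hcm⟩ := List.mem_filter.mp (List.mem_toFinset.mp hc)
      refine ⟨smul_mem_octads k ((mem_octads_iff _).mpr ⟨c % 4096, Nat.mod_lt _ (by norm_num),
        by rw [(h3 c hc').2]; exact (h3 c hc').1, by rw [(h3 c hc').2]⟩), ?_⟩
      rw [← hgo', ← Finset.smul_finset_inter, Finset.inter_comm, mask_inter, beq_iff_eq.mp hcm, hms, smul_inv_smul]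
    · intro a b ha hb h
      exact pts_inj (hlt a (List.mem_filter.mp (List.mem_toFinset.mp ha)).1)
        (hlt b (List.mem_filter.mp (List.mem_toFinset.mp hb)).1) (MulAction.injective k h)
    · rintro u ⟨hu, hi⟩
      obtain ⟨c, hc, hce⟩ := mem_octads_octW (smul_mem_octads k⁻¹ hu)
      refine ⟨c, List.mem_toFinset.mpr (List.mem_filter.mpr ⟨hc, beq_iff_eq.mpr (pts_inj ?_ (octSubs_lt m hm) ?_)⟩),
        by rw [hce, smul_inv_smul]⟩
      · exact lt_of_le_of_lt Nat.and_le_left (hlt c hc)
      · rw [← mask_inter, hce, hms, ← hi, Finset.inter_comm, Finset.smul_finset_inter, ← hgo', inv_smul_smul]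
  have hcard : s.card = wt 24 m := by rw [← card_pts, hms, Finset.card_smul_finset]
  rw [hcount, hcard]
  exact octSubs_counts m hm

end Cfsg.Agent.S1555
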