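import Cfsg.Statements.S1557
import Cfsg.Agent.Golay.FamTrio

set_option autoImplicit false
open scoped Pointwise
open Cfsg

namespace Cfsg.Agent.S1557

/-- The complement of the union of two disjoint octads is an octad, and the code has exactly 3795 trios of pairwise disjoint octads. -/
theorem result : (∀ o o' : Finset Cfsg.GolayPt, o ∈ Cfsg.octads → o' ∈ Cfsg.octads → Disjoint o o' → (o ∪ o')ᶜ ∈ Cfsg.octads) ∧ Cfsg.trios.ncard = 3795 := by
  open CfsgLib.Golay CfsgLib.Golay.Cert in
  refine ⟨fun o o' ho ho' hd => ?_, ?_⟩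
  · have hsd : symmDiff o o' = o ∪ o' := hd.symmDiff_eq_sup
    have h1 : ∃ v ∈ golayCode, support₂ v = o ∪ o' := by
      obtain ⟨v, hv, hvs⟩ := supports_symmDiff ho.1 ho'.1
      exact ⟨v, hv, hvs.trans hsd⟩
    obtain ⟨v, hv, hvs⟩ := h1
    have hone : (1 : GolayPt → ZMod 2) ∈ golayCode := by
      rw [one_eq]; exact vec_genMasks_mem _ (by decide)
    refine ⟨⟨v + 1, golayCode.add_mem hv hone, ?_⟩, ?_⟩
    · rw [← hvs]
      ext p
      simp only [support₂, Finset.mem_compl, Finset.mem_filter, Finset.mem_univ, true_and, Pi.add_apply, Pi.one_apply]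
      generalize v p = a
      revert a; decide
    · rw [Finset.card_compl, Finset.card_union_of_disjoint hd, card_golayPt, octad_card ho, octad_card ho']
  · rw [trios_cat.1, ← trioCat_trans.ncard]
    congr 1
    ext X
    simp [sig]

end Cfsg.Agent.S1557
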