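import Cfsg.Statements.S1559
import Cfsg.Agent.Golay.MaximalTools
import Cfsg.Agent.Golay.SextTrioPos
import Cfsg.Agent.Golay.Orb.TrioBase

set_option autoImplicit false
open scoped Pointwise
open Cfsg

namespace Cfsg.Agent.S1559

/-- A trio stabiliser has five orbits on the 3795 trios, of sizes 1, 42, 56, 1008, 2688; and the stabiliser is a maximal proper subgroup. -/
theorem result (T : Finset (Finset Cfsg.GolayPt)) (hT : T ∈ Cfsg.trios) : ∃ X₁ ∈ Cfsg.trios, ∃ X₂ ∈ Cfsg.trios, ∃ X₃ ∈ Cfsg.trios, ∃ X₄ ∈ Cfsg.trios, (MulAction.orbit ↥(MulAction.stabilizer Cfsg.M24 T) X₁).ncard = 42 ∧ (MulAction.orbit ↥(MulAction.stabilizer Cfsg.M24 T) X₂).ncard = 56 ∧ (MulAction.orbit ↥(MulAction.stabilizer Cfsg.M24 T) X₃).ncard = 1008 ∧ (MulAction.orbit ↥(MulAction.stabilizer Cfsg.M24 T) X₄).ncard = 2688 ∧ Cfsg.trios = {T} ∪ MulAction.orbit ↥(MulAction.stabilizer Cfsg.M24 T) X₁ ∪ MulAction.orbit ↥(MulAction.stabilizer Cfsg.M24 T) X₂ ∪ MulAction.orbit ↥(MulAction.stabilizer Cfsg.M24 T) X₃ ∪ MulAction.orbit ↥(MulAction.stabilizer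 Cfsg.M24 T) X₄ ∧ IsCoatom (MulAction.stabilizer Cfsg.M24 T) := by
  
  open CfsgLib.Golay.Cert in
    obtain ⟨k, hk⟩ := map_trio hT
    have hL := ((Cat.layout bTrio_trio_ok (L := [([30000000000000006], 1), ([10000000400000004], 42), ([600000003], 56), ([400040001], 1008), ([300060000], 2688)]) rfl :
      Layout trioCat [toObj tStd] _)).at trios_cat.2 hk
    have hkS : k • toObj tStd = T := by simpa using hk
    have hv0 : sig [T] T = [30000000000000006] := by
      rw [← hkS, sig_self]
      simp only [sig, List.map_cons, List.map_nil]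
      rw [J_toObj (by decide +kernel) (by decide +kernel)]
      decide +kernel
    obtain ⟨X1, hX1, hc1, ho1⟩ := hL.orbit trios_cat.2 (K := MulAction.stabilizer M24 T) (fun g => mem_stab_obj)
      (v := [10000000400000004]) (n := 42) (by decide) (by decide)
    obtain ⟨X2, hX2, hc2, ho2⟩ := hL.orbit trios_cat.2 (K := MulAction.stabilizer M24 T) (fun g => mem_stab_obj)
      (v := [600000003]) (n := 56) (by decide) (by decide)
    obtain ⟨X3, hX3, hc3, ho3⟩ := hL.orbit trios_cat.2 (K := MulAction.stabilizer M24 T) (fun g => mem_stab_obj)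
      (v := [400040001]) (n := 1008) (by decide) (by decide)
    obtain ⟨X4, hX4, hc4, ho4⟩ := hL.orbit trios_cat.2 (K := MulAction.stabilizer M24 T) (fun g => mem_stab_obj)
      (v := [300060000]) (n := 2688) (by decide) (by decide)
    refine ⟨X1, trios_cat.1.ge hX1, X2, trios_cat.1.ge hX2, X3, trios_cat.1.ge hX3, X4, trios_cat.1.ge hX4, hc1, hc2, hc3, hc4, ?_, hL.isCoatom trios_cat.2 trioCat_trans (trios_cat.1.le hT) (by decide) (by norm_num) (by decide +kernel)⟩
    ext Y
    simp only [Set.mem_union, Set.mem_singleton_iff, ho1, ho2, ho3, ho4, Set.mem_ofPred_eq]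
    constructor
    · intro hY
      have hm := trios_cat.1.le hY
      have h := hL.all Y hm
      simp only [List.map_cons, List.map_nil, List.mem_cons, List.not_mem_nil, or_false] at h
      rcases h with h0 | h
      · have := hL.eq_self (v := [30000000000000006]) (by decide) (trios_cat.1.le hT) hv0 hm h0
        tauto
      · tauto
    · intro h
      by_cases hYS : Y = T
      · exact hYS ▸ hT
      · exact trios_cat.1.ge (by tauto)


end Cfsg.Agent.S1559
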