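import Cfsg.Statements.S1560
import Cfsg.Agent.Golay.DodecadPos

set_option autoImplicit false
open scoped Pointwise
open Cfsg

namespace Cfsg.Agent.S1560

/-- Intersection numbers of dodecads: a dodecad meets every other dodecad in 0, 4, 6 or 8 points, meeting 495 of them in 4 points, 1584 in 6 points and 495 in 8 points. -/
theorem result (d : Finset Cfsg.GolayPt) (hd : d ∈ Cfsg.dodecads) : (∀ d' ∈ Cfsg.dodecads, d' ≠ d → (d ∩ d').card = 0 ∨ (d ∩ d').card = 4 ∨ (d ∩ d').card = 6 ∨ (d ∩ d').card = 8) ∧ {d' : Finset Cfsg.GolayPt | d' ∈ Cfsg.dodecads ∧ (d ∩ d').card = 4}.ncard = 495 ∧ {d' : Finset Cfsg.GolayPt | d' ∈ Cfsg.dodecads ∧ (d ∩ d').card = 6}.ncard = 1584 ∧ {d' : Finset Cfsg.GolayPt | d' ∈ Cfsg.dodecads ∧ (d ∩ d').card = 8}.ncard = 495 := by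
  
  open CfsgLib.Golay CfsgLib.Golay.Cert in
    obtain ⟨k, hk⟩ := map_dodecad hd
    have hL := ((bDod_eq ▸ Cat.layout bDod_dod_ok (L := [([1], 1), ([100 ^ 12], 1), ([100 ^ 4], 495), ([100 ^ 8], 495), ([100 ^ 6], 1584)]) rfl :
      Layout dodCat _ _)).at dodecads_cat.2 hk
    refine ⟨fun d' hd' hne => ?_, ?_, ?_, ?_⟩
    · have h := hL.all_sets dodecads_cat.1 hd'
      simp only [List.map_cons, List.map_nil, List.mem_cons, List.not_mem_nil, or_false, sig_one_iff] at h
      have h1 : sig [one' d] (one' d') = [1] ↔ (d ∩ d').card = 0 := sig_one_iff (i := 0)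
      rw [h1] at h
      have h12 : (d ∩ d').card ≠ 12 := fun hc => by
        refine hne (Finset.eq_of_subset_of_card_le ?_ (by rw [dodecad_card hd', dodecad_card hd])).symm
        exact Finset.inter_eq_left.mp (Finset.eq_of_subset_of_card_le Finset.inter_subset_left (by rw [hc, dodecad_card hd]))
      omega
    ·
      refine (((bDod_eq ▸ Cat.count' bDod_dod_ok 2 (by decide) (v := [100 ^ 4]) (n := 495) (by decide +kernel) rfl :
        IsTrans dodCat _ _ _)).at dodecads_cat.2 hk).count_sets dodecads_cat.1 fun s => ?_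
      rw [Set.mem_ofPred_eq, sig_one_iff]

    ·
      refine (((bDod_eq ▸ Cat.count' bDod_dod_ok 4 (by decide) (v := [100 ^ 6]) (n := 1584) (by decide +kernel) rfl :
        IsTrans dodCat _ _ _)).at dodecads_cat.2 hk).count_sets dodecads_cat.1 fun s => ?_
      rw [Set.mem_ofPred_eq, sig_one_iff]

    ·
      refine (((bDod_eq ▸ Cat.count' bDod_dod_ok 3 (by decide) (v := [100 ^ 8]) (n := 495) (by decide +kernel) rfl :
        IsTrans dodCat _ _ _)).at dodecads_cat.2 hk).count_sets dodecads_cat.1 fun s => ?_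
      rw [Set.mem_ofPred_eq, sig_one_iff]



end Cfsg.Agent.S1560
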