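import Cfsg.Statements.S1562
import Cfsg.Agent.Golay.PointsPos

set_option autoImplicit false
open scoped Pointwise
open Cfsg

namespace Cfsg.Agent.S1562

/-- Orbits of a triad stabiliser on the triads disjoint from it: the 210 triads inside a common octad with it form one orbit and the remaining 1120 another. -/
theorem result (T : Finset Cfsg.GolayPt) (hT : T.card = 3) : {U : Finset Cfsg.GolayPt | U.card = 3 ∧ Disjoint T U ∧ (∃ o ∈ Cfsg.octads, T ∪ U ⊆ o)}.ncard = 210 ∧ {U : Finset Cfsg.GolayPt | U.card = 3 ∧ Disjoint T U ∧ ¬ (∃ o ∈ Cfsg.octads, T ∪ U ⊆ o)}.ncard = 1120 ∧ ∀ U U' : Finset Cfsg.GolayPt, U.card = 3 → U'.card = 3 → Disjoint T U → Disjoint T U' → ((∃ o ∈ Cfsg.octads, T ∪ U ⊆ o) ↔ (∃ o ∈ Cfsg.octads, T ∪ U' ⊆ o)) → ∃ g : Equiv.Perm Cfsg.GolayPt, g ∈ Cfsg.M24 ∧ g • T = T ∧ g • U = U' := by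
  
  open CfsgLib.Golay CfsgLib.Golay.Cert in
    obtain ⟨k, hk⟩ := map_triple hT
    have hL := ((bTriple_eq ▸ Cat.layout bTriple_triple_ok (L := [([1000000, 21000000], 1), ([10000, 5160000], 63), ([1, 1001208], 210), ([100, 1081200], 630), ([1, 30909], 1120)]) rfl :
      Layout tripleCat _ _)).at triples_cat.2 hk
    have hsig : ∀ U : Finset GolayPt, U.card = 3 → Disjoint T U →
        ((∃ o ∈ octads, T ∪ U ⊆ o) → sig [one' T, thru T] (one' U) = [1, 1001208]) ∧
        (¬ (∃ o ∈ octads, T ∪ U ⊆ o) → sig [one' T, thru T] (one' U) = [1, 30909]) := by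
      intro U hU hd
      have hall := hL.all_sets triples_cat.1 (show U ∈ {s : Finset GolayPt | s.card = 3} from hU)
      rw [exists_octad_iff_thru, exists_super_iff (A := thru T) (j := 2) hU (thru_card_lt (Or.inl hT))]
      simp only [sig, List.map_cons, List.map_nil, J_one'_one', Finset.disjoint_iff_inter_eq_empty.mp hd,
        Finset.card_empty, pow_zero, List.mem_cons, List.not_mem_nil, or_false, List.cons.injEq,
        and_true, true_and] at hall ⊢
      norm_num at hall ⊢
      constructor <;> intro h <;> omega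
    have hback : ∀ U : Finset GolayPt, U.card = 3 → (sig [one' T, thru T] (one' U) = [1, 1001208] ∨
        sig [one' T, thru T] (one' U) = [1, 30909]) → Disjoint T U := by
      intro U hU h
      have h0 : J (one' T) (one' U) = 1 := by
        rcases h with h | h <;>
          simp only [sig, List.map_cons, List.map_nil, List.cons.injEq] at h <;> exact h.1
      rw [J_one'_one'] at h0
      exact Finset.disjoint_iff_inter_eq_empty.mpr (Finset.card_eq_zero.mp (pow100_inj (b := 0) h0))
    refine ⟨?_, ?_, fun U U' hU hU' hd hd' hiff => ?_⟩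
    · refine (hL.each ([1, 1001208], 210) (by simp)).count_sets triples_cat.1 fun U => ?_
      simp only [Set.mem_ofPred_eq]
      refine ⟨fun h => ⟨h.1, (hsig U h.1 h.2.1).1 h.2.2⟩, fun h => ⟨h.1, hback U h.1 (Or.inl h.2), ?_⟩⟩
      by_contra hn
      rw [(hsig U h.1 (hback U h.1 (Or.inl h.2))).2 hn] at h
      simp at h
    · refine (hL.each ([1, 30909], 1120) (by simp)).count_sets triples_cat.1 fun U => ?_
      simp only [Set.mem_ofPred_eq]
      refine ⟨fun h => ⟨h.1, (hsig U h.1 h.2.1).2 h.2.2⟩, fun h => ⟨h.1, hback U h.1 (Or.inr h.2), fun hp => ?_⟩⟩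
      rw [(hsig U h.1 (hback U h.1 (Or.inr h.2))).1 hp] at h
      simp at h
    · have hT' : Trans tripleCat [one' T, thru T] :=
        ((bTriple_eq ▸ Cat.trans' bTriple_triple_ok : Trans tripleCat _)).at triples_cat.2 hk
      obtain ⟨g, hg, hgU⟩ := hT'.sets triples_cat.1 (s := U) (t := U') hU hU' (by
        by_cases h : ∃ o ∈ octads, T ∪ U ⊆ o
        · rw [(hsig U hU hd).1 h, (hsig U' hU' hd').1 (hiff.mp h)]
        · rw [(hsig U hU hd).2 h, (hsig U' hU' hd').2 (fun h' => h (hiff.mpr h'))])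
      exact ⟨g, g.2, fixes_one'.mp (hg _ (by simp)), hgU⟩

end Cfsg.Agent.S1562
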