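import Cfsg.Statements.S1563
import Cfsg.Agent.Golay.MaximalTools
import Cfsg.Agent.Golay.PointsPos

set_option autoImplicit false
open scoped Pointwise
open Cfsg

namespace Cfsg.Agent.S1563

/-- The stabiliser of a pair of points (setwise) is a maximal proper subgroup of the group of the length-24 code. -/
theorem result (s : Finset Cfsg.GolayPt) (hs : s.card = 2) : IsCoatom (MulAction.stabilizer Cfsg.M24 s) := by
  
  open CfsgLib.Golay CfsgLib.Golay.Cert in
    obtain ⟨k, hk⟩ := map_pair hs
    have hL := ((bPair_eq ▸ Cat.layout bPair_pair_ok (L := [([10000], 1), ([100], 44), ([1], 231)]) rfl : Layout pairCat _ _)).at pairs_cat.2 hk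
    have h := hL.isCoatom pairs_cat.2 pairCat_trans (pairs_cat.1.le ⟨_, hs, rfl⟩) (by decide) (by norm_num) (by decide +kernel)
    convert h using 1
    ext g
    simp [fixes_one']

end Cfsg.Agent.S1563
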