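import Cfsg.Statements.S1564
import Cfsg.Agent.Golay.MaximalTools
import Cfsg.Agent.Golay.PointsPos

set_option autoImplicit false
open scoped Pointwise
open Cfsg

namespace Cfsg.Agent.S1564

/-- The stabiliser of a set of three points (setwise) is a maximal proper subgroup of the group of the length-24 code. -/
theorem result (s : Finset Cfsg.GolayPt) (hs : s.card = 3) : IsCoatom (MulAction.stabilizer Cfsg.M24 s) := by
  
  open CfsgLib.Golay CfsgLib.Golay.Cert in
    obtain ⟨k, hk⟩ := map_triple hs
    have hL := ((bTriple_eq ▸ Cat.layout bTriple_triple_ok (L := [([1000000, 21000000], 1), ([10000, 5160000], 63), ([1, 1001208], 210), ([100, 1081200], 630), ([1, 30909], 1120)]) rfl :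
      Layout tripleCat _ _)).at triples_cat.2 hk
    have h := hL.isCoatom' triples_cat.2 tripleCat_trans (A := one' s) (triples_cat.1.le ⟨_, hs, rfl⟩) (fun g => by
      refine ⟨fun hg A hA => ?_, fun hg => hg _ (by simp)⟩
      simp only [List.mem_cons, List.not_mem_nil, or_false] at hA
      rcases hA with rfl | rfl
      · exact hg
      · rw [smul_thru, fixes_one'.mp hg]) (by decide) (by norm_num) (by decide +kernel)
    convert h using 1
    ext g
    simp [fixes_one']

end Cfsg.Agent.S1564
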