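import Cfsg.Statements.S1565
import Cfsg.Agent.Golay.MaximalTools
import Cfsg.Agent.Golay.OctadOrbits

set_option autoImplicit false
open scoped Pointwise
open Cfsg

namespace Cfsg.Agent.S1565

/-- The stabiliser of an octad is a maximal proper subgroup of the group of the length-24 code. -/
theorem result (o : Finset Cfsg.GolayPt) (ho : o ∈ Cfsg.octads) : IsCoatom (MulAction.stabilizer Cfsg.M24 o) := by
  
  open CfsgLib.Golay CfsgLib.Golay.Cert in
    obtain ⟨k, hk⟩ := map_one_octad ho
    have hL := ((bOct_eq ▸ Cat.layout bOct_oct_ok (L := [([100 ^ 8], 1), ([1], 30), ([100 ^ 4], 280), ([100 ^ 2], 448)]) rfl : Layout octCat _ _)).at octads_cat.2 hk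
    have h := hL.isCoatom octads_cat.2 octCat_trans (octads_cat.1.le ⟨_, ho, rfl⟩) (by decide) (by norm_num) (by decide +kernel)
    convert h using 1
    ext g
    simp [fixes_one']

end Cfsg.Agent.S1565
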