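import Cfsg.Statements.S1566
import Cfsg.Agent.Golay.MaximalTools
import Cfsg.Agent.Golay.DodecadPos

set_option autoImplicit false
open scoped Pointwise
open Cfsg

namespace Cfsg.Agent.S1566

/-- The setwise stabiliser of a dodecad together with its complement is a maximal proper subgroup of the group of the length-24 code. -/
theorem result (d : Finset Cfsg.GolayPt) (hd : d ∈ Cfsg.dodecads) : IsCoatom (MulAction.stabilizer Cfsg.M24 ({d, dᶜ} : Finset (Finset Cfsg.GolayPt))) := by
  
  open CfsgLib.Golay CfsgLib.Golay.Cert in
    obtain ⟨k, hk⟩ := map_dPair hd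
    exact (((bDPair_eq ▸ Cat.layout bDPair_dPair_ok
      (L := [([2000000000000000000000002], 1), ([20000000200000000], 495), ([4000000000000], 792)]) rfl :
      Layout dPairCat _ _)).at dPairs_cat.2 hk).isCoatom dPairs_cat.2 dPairCat_trans (dPairs_cat.1.le ⟨d, hd, rfl⟩)
      (by decide) (by norm_num) (by decide +kernel)

end Cfsg.Agent.S1566
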