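import Cfsg.Statements.S1571
import Cfsg.Agent.Leech.Cross

set_option autoImplicit false
open scoped Pointwise
open Cfsg

namespace Cfsg.Agent.S1571

/-- The stabiliser of the standard cross in the automorphism group of the lattice is the monomial group of the code: each of its elements acts as a signed permutation with permutation part in the code's group and sign set a codeword, and it has order 4096 · 244823040. -/
theorem result : (∀ g : ↥Cfsg.Co0, (∀ v : ↥Cfsg.leechLattice, (v : Cfsg.GolayPt → ℤ) ∈ Cfsg.stdCross → ((g • v : ↥Cfsg.leechLattice) : Cfsg.GolayPt → ℤ) ∈ Cfsg.stdCross) → ∃ f ∈ Cfsg.golayMonomialMaps, ∀ v : ↥Cfsg.leechLattice, ((g • v : ↥Cfsg.leechLattice) : Cfsg.GolayPt → ℤ) = f (v : Cfsg.GolayPt → ℤ)) ∧ Nat.card {g : ↥Cfsg.Co0 // (∀ v : ↥Cfsg.leechLattice, (v : Cfsg.GolayPt → ℤ) ∈ Cfsg.stdCross → ((g • v : ↥Cfsg.leechLattice) : Cfsg.GolayPt → ℤ) ∈ Cfsg.stdCross)} = 4096 * 244823040 := by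
  refine ⟨fun g hg => ?_, ?_⟩
  · obtain ⟨⟨w, σ⟩, rfl⟩ :=
      (CfsgLib.Leech.mem_monoGroup_iff g).mp ((CfsgLib.Leech.mem_monoGroup_iff_stdCross g).mpr hg)
    refine ⟨_, ⟨σ, σ.2, Cfsg.support₂ (w : Cfsg.GolayPt → ZMod 2), ⟨_, w.2, rfl⟩, rfl⟩,
      fun v => funext fun i => ?_⟩
    rw [CfsgLib.Leech.monoAut, mul_smul, CfsgLib.Leech.signAut_apply]
    simp only [CfsgLib.Leech.flipSign, Cfsg.signedPerm, Cfsg.support₂, Finset.mem_filter,
      Finset.mem_univ, true_and, CfsgLib.Leech.zmod2_ne_zero_iff, CfsgLib.Leech.permHom_apply]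
    rfl
  · rw [← CfsgLib.Leech.card_monoGroup]
    exact Nat.card_congr (Equiv.subtypeEquivRight fun g =>
      (CfsgLib.Leech.mem_monoGroup_iff_stdCross g).symm)

end Cfsg.Agent.S1571
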