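import Cfsg.Statements.S1575
import Cfsg.Agent.Leech.StabOrbits
-- import your own Cfsg.Agent.* helpers here

set_option autoImplicit false
open Cfsg

namespace Cfsg.Agent.S1575

/-- The stabiliser of a minimal vector is transitive on the minimal vectors of customary inner product −1 with it. -/
theorem result (v w w' : ↥Cfsg.leechLattice) (hv : Cfsg.sqNorm (v : Cfsg.GolayPt → ℤ) = 32) (hw : Cfsg.sqNorm (w : Cfsg.GolayPt → ℤ) = 32) (hw' : Cfsg.sqNorm (w' : Cfsg.GolayPt → ℤ) = 32) (hd : Cfsg.dotInt (v : Cfsg.GolayPt → ℤ) (w : Cfsg.GolayPt → ℤ) = -8) (hd' : Cfsg.dotInt (v : Cfsg.GolayPt → ℤ) (w' : Cfsg.GolayPt → ℤ) = -8) : ∃ g : ↥Cfsg.Co0, g • v = v ∧ g • w = w' := by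
  refine CfsgLib.Leech.exists_fix_of_min hv
    (P := fun b => Cfsg.sqNorm (b : Cfsg.GolayPt → ℤ) = 32 ∧
      Cfsg.dotInt (Cfsg.Spor.leechU : Cfsg.GolayPt → ℤ) (b : Cfsg.GolayPt → ℤ) = -8)
    (fun g hg => ⟨⟨by rw [CfsgLib.Leech.sqNorm_smul, hw], by rw [← hg, CfsgLib.Leech.dot_smul', hd]⟩,
      ⟨by rw [CfsgLib.Leech.sqNorm_smul, hw'], by rw [← hg, CfsgLib.Leech.dot_smul', hd']⟩⟩)
    (fun b b' hb hb' => CfsgLib.Leech.orbit_eight hb.1 hb'.1 hb.2 hb'.2)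

end Cfsg.Agent.S1575
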