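import Cfsg.Statements.S1576
import Cfsg.Agent.Leech.StabOrbits
-- import your own Cfsg.Agent.* helpers here

set_option autoImplicit false
open Cfsg

namespace Cfsg.Agent.S1576

/-- The stabiliser of a minimal vector is transitive on the pairs of opposite minimal vectors orthogonal to it. -/
theorem result (v w w' : ↥Cfsg.leechLattice) (hv : Cfsg.sqNorm (v : Cfsg.GolayPt → ℤ) = 32) (hw : Cfsg.sqNorm (w : Cfsg.GolayPt → ℤ) = 32) (hw' : Cfsg.sqNorm (w' : Cfsg.GolayPt → ℤ) = 32) (hd : Cfsg.dotInt (v : Cfsg.GolayPt → ℤ) (w : Cfsg.GolayPt → ℤ) = 0) (hd' : Cfsg.dotInt (v : Cfsg.GolayPt → ℤ) (w' : Cfsg.GolayPt → ℤ) = 0) : ∃ g : ↥Cfsg.Co0, g • v = v ∧ (g • w = w' ∨ g • w = -w') := by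
  obtain ⟨g, hg⟩ := CfsgLib.Leech.min_orbit hv
  have hn := (CfsgLib.Leech.sqNorm_smul g w).trans hw
  have hn' := (CfsgLib.Leech.sqNorm_smul g w').trans hw'
  have e := (CfsgLib.Leech.dot_smul' g v w).trans hd
  have e' := (CfsgLib.Leech.dot_smul' g v w').trans hd'
  rw [hg] at e e'
  rcases CfsgLib.Leech.orbit_zero hn hn' e e' with ⟨h, hU, hb⟩ | ⟨h, hU, hb⟩
  · exact ⟨g⁻¹ * h * g, by rw [mul_smul, mul_smul, hg, hU, ← hg, inv_smul_smul],
      Or.inl (by rw [mul_smul, mul_smul, hb, inv_smul_smul])⟩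
  · exact ⟨g⁻¹ * h * g, by rw [mul_smul, mul_smul, hg, hU, ← hg, inv_smul_smul],
      Or.inr (by rw [mul_smul, mul_smul, hb, CfsgLib.Leech.smul_neg', inv_smul_smul])⟩

end Cfsg.Agent.S1576
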