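import Cfsg.Statements.S1587
-- import your own Cfsg.Agent.* helpers here

set_option autoImplicit false
open Matrix
open Cfsg

namespace Cfsg.Agent.S1587

/-- First step of the characterisation of the rank-24 lattice: in an even lattice without roots, norm-8 vectors congruent modulo 2 are equal, opposite or orthogonal. -/
theorem result (B : Matrix (Fin 24) (Fin 24) ℤ) (hsymm : B.IsSymm) (hpos : ∀ x : Fin 24 → ℤ, x ≠ 0 → 0 < x ⬝ᵥ (B *ᵥ x)) (heven : ∀ x : Fin 24 → ℤ, (2 : ℤ) ∣ x ⬝ᵥ (B *ᵥ x)) (h2 : ∀ x : Fin 24 → ℤ, x ⬝ᵥ (B *ᵥ x) ≠ 2) (x y : Fin 24 → ℤ) (hx : x ⬝ᵥ (B *ᵥ x) = 8) (hy : y ⬝ᵥ (B *ᵥ y) = 8) (hc : ∀ i, (2 : ℤ) ∣ (x - y) i) : y = x ∨ y = -x ∨ x ⬝ᵥ (B *ᵥ y) = 0 := by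
  have hne8 : ∀ d : Fin 24 → ℤ, d ≠ 0 → 4 ≤ d ⬝ᵥ (B *ᵥ d) := by
    intro d hd
    have h1 := hpos d hd
    obtain ⟨k, hk⟩ := heven d
    have h3 := h2 d
    omega
  have hxy : y ⬝ᵥ (B *ᵥ x) = x ⬝ᵥ (B *ᵥ y) := by
    rw [Matrix.dotProduct_mulVec, ← Matrix.mulVec_transpose, hsymm.eq, dotProduct_comm]
  choose z hz using hc
  by_cases h0 : z = 0
  · left
    funext i
    have h := hz i
    have hzi : z i = 0 := congrFun h0 i
    simp only [Pi.sub_apply, hzi, mul_zero] at h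
    omega
  by_cases h1 : z - x = 0
  · right; left
    funext i
    have h := hz i
    have hzi : z i - x i = 0 := congrFun h1 i
    simp only [Pi.sub_apply, Pi.neg_apply] at h ⊢
    omega
  right; right
  have a := hne8 z h0
  have b := hne8 (z - x) h1
  have hzz : x - y = (2 : ℤ) • z := funext fun i => by simpa using hz i
  have e1 : (x - y) ⬝ᵥ (B *ᵥ (x - y)) = 4 * (z ⬝ᵥ (B *ᵥ z)) := by
    rw [hzz, Matrix.mulVec_smul, dotProduct_smul, smul_dotProduct, smul_eq_mul, smul_eq_mul]; ring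
  have e2 : (x + y) ⬝ᵥ (B *ᵥ (x + y)) = 4 * ((z - x) ⬝ᵥ (B *ᵥ (z - x))) := by
    have : x + y = (-2 : ℤ) • (z - x) := funext fun i => by
      have := hz i; simp at this ⊢; omega
    rw [this, Matrix.mulVec_smul, dotProduct_smul, smul_dotProduct, smul_eq_mul, smul_eq_mul]; ring
  simp only [Matrix.mulVec_sub, Matrix.mulVec_add, add_dotProduct, sub_dotProduct, dotProduct_add,
    dotProduct_sub, hx, hy, hxy] at e1 e2 a b
  omega

end Cfsg.Agent.S1587
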