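import Cfsg.Statements.S1590
import Cfsg.Agent.Golay.Ternary

set_option autoImplicit false
open Cfsg

namespace Cfsg.Agent.S1590

/-- The length-12 ternary code has 729 words with weight distribution 0^1 6^264 9^440 12^24. -/
theorem result : Nat.card ↥Cfsg.ternaryGolayCode = 729 ∧ (∀ x ∈ Cfsg.ternaryGolayCode, x ≠ 0 → (Cfsg.ternarySupport x).card = 6 ∨ (Cfsg.ternarySupport x).card = 9 ∨ (Cfsg.ternarySupport x).card = 12) ∧ {x : Cfsg.ArrayPt → ZMod 3 | x ∈ Cfsg.ternaryGolayCode ∧ (Cfsg.ternarySupport x).card = 6}.ncard = 264 ∧ {x : Cfsg.ArrayPt → ZMod 3 | x ∈ Cfsg.ternaryGolayCode ∧ (Cfsg.ternarySupport x).card = 9}.ncard = 440 ∧ {x : Cfsg.ArrayPt → ZMod 3 | x ∈ Cfsg.ternaryGolayCode ∧ (Cfsg.ternarySupport x).card = 12}.ncard = 24 := by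
  
  refine ⟨?_, ?_, ?_⟩
  · change Nat.card (ternaryGolayCode : Set (ArrayPt → ZMod 3)) = 729
    rw [CfsgLib.Tern.code_eq_range, Nat.card_range_of_injective CfsgLib.Tern.cw_injective, Nat.card_fin]
  · intro x hx hx0
    obtain ⟨k, rfl⟩ := (CfsgLib.Tern.mem_iff x).mp hx
    rcases CfsgLib.Tern.weights k with h | h
    · refine absurd ?_ hx0
      rw [show k = ⟨0, by norm_num⟩ from Fin.ext h]
      funext p
      revert p
      decide +kernel
    · exact h
  · simp only [CfsgLib.Tern.ncard_weight]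
    exact CfsgLib.Tern.counts

end Cfsg.Agent.S1590
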