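import Cfsg.Statements.S1595
import Cfsg.Agent.Steiner.Exact12

set_option autoImplicit false
open Cfsg

namespace Cfsg.Agent.S1595

/-- Leech triangle of S(5, 6, 12): blocks meet in 0, 2, 3 or 4 points, and a block is met exactly in a given 2-, 3- or 4-subset by 3, 2, 3 blocks respectively. -/
theorem result {α : Type*} [Fintype α] [DecidableEq α] (hα : Fintype.card α = 12) {B : Set (Finset α)} (hB : Cfsg.IsSteinerSystem 5 6 B) (b : Finset α) (hb : b ∈ B) : (∀ c ∈ B, c ≠ b → (b ∩ c).card = 0 ∨ (b ∩ c).card = 2 ∨ (b ∩ c).card = 3 ∨ (b ∩ c).card = 4) ∧ ∀ s ⊆ b, (s.card = 2 → {c : Finset α | c ∈ B ∧ b ∩ c = s}.ncard = 3) ∧ (s.card = 3 → {c : Finset α | c ∈ B ∧ b ∩ c = s}.ncard = 2) ∧ (s.card = 4 → {c : Finset α | c ∈ B ∧ b ∩ c = s}.ncard = 3) := by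
  
  have hb' := CfsgLib.Steiner.mem_blocks.mpr hb
  refine ⟨fun c hc hne => CfsgLib.Steiner.inter_cases_12 hB hα hb'
    (Finset.mem_erase.mpr ⟨hne, CfsgLib.Steiner.mem_blocks.mpr hc⟩), fun s hs => ?_⟩
  have key : s.card ≤ 4 → {c : Finset α | c ∈ B ∧ b ∩ c = s}.ncard = (CfsgLib.Steiner.exactly B b s).card := by
    intro h4
    rw [← Set.ncard_coe_finset]
    congr 1
    ext c
    simp only [CfsgLib.Steiner.exactly, Finset.coe_filter, Finset.mem_erase, CfsgLib.Steiner.mem_blocks, Set.mem_ofPred_eq]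
    refine ⟨fun h => ⟨⟨?_, h.1⟩, h.2⟩, fun h => ⟨h.1.2, h.2⟩⟩
    rintro rfl
    have hs' := h.2
    rw [Finset.inter_self] at hs'
    have := hB.1 c hb
    rw [← hs'] at h4
    omega
  exact ⟨fun h => (key (by omega)).trans (CfsgLib.Steiner.exactly_two hB hα hb' hs h),
    fun h => (key (by omega)).trans (CfsgLib.Steiner.exactly_three hB hα hb' hs h),
    fun h => (key (by omega)).trans (CfsgLib.Steiner.exactly_four hB hα hb' hs h)⟩

end Cfsg.Agent.S1595
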