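import Cfsg.Statements.S1604
import Cfsg.Agent.Golay.OctadOrbits

set_option autoImplicit false
open scoped Pointwise
open Cfsg

namespace Cfsg.Agent.S1604

/-- A hexad stabiliser in the two-point stabiliser has orbits of sizes 1, 16, 60 on the 77 hexads: the 16 hexads disjoint from it and the 60 meeting it in two points. -/
theorem result (p q : Cfsg.GolayPt) (hpq : p ≠ q) (o o' o'' : Finset Cfsg.GolayPt) (ho : o ∈ Cfsg.octads) (ho' : o' ∈ Cfsg.octads) (ho'' : o'' ∈ Cfsg.octads) (hp : p ∈ o ∧ p ∈ o' ∧ p ∈ o'') (hq : q ∈ o ∧ q ∈ o' ∧ q ∈ o'') (h : (o ∩ o').card = (o ∩ o'').card) : {x : Finset Cfsg.GolayPt | x ∈ Cfsg.octads ∧ p ∈ x ∧ q ∈ x ∧ (o ∩ x).card = 2}.ncard = 16 ∧ {x : Finset Cfsg.GolayPt | x ∈ Cfsg.octads ∧ p ∈ x ∧ q ∈ x ∧ (o ∩ x).card = 4}.ncard = 60 ∧ ∃ g : Equiv.Perm Cfsg.GolayPt, g ∈ Cfsg.M24 ∧ g p = p ∧ g q = q ∧ g • o = o ∧ g • o' = o'' := by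
  
  open CfsgLib.Golay.Cert in
    obtain ⟨k, hk⟩ := map_in_in ho hp.1 hq.1 hpq
    refine ⟨?_, ?_, ?_⟩
    · refine (((bOctInIn_eq ▸ Cat.count' bOctInIn_oct_ok 1 (by decide) (v := [100, 100, 100 ^ 2]) (n := 16) (by decide +kernel) rfl :
        IsTrans octCat _ _ _)).at octads_cat.2 hk).count_sets octads_cat.1 fun s => ?_
      rw [Set.mem_ofPred_eq, sig_two_iff]
      simp [and_assoc]
    · refine (((bOctInIn_eq ▸ Cat.count' bOctInIn_oct_ok 4 (by decide) (v := [100, 100, 100 ^ 4]) (n := 60) (by decide +kernel) rfl :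
        IsTrans octCat _ _ _)).at octads_cat.2 hk).count_sets octads_cat.1 fun s => ?_
      rw [Set.mem_ofPred_eq, sig_two_iff]
      simp [and_assoc]
    · obtain ⟨g, hg, hgo⟩ := (((bOctInIn_eq ▸ Cat.trans' bOctInIn_oct_ok : Trans octCat _)).at octads_cat.2 hk).sets
        octads_cat.1 ho' ho'' (by simp [sig, J_ptO_one', J_one'_one', h, hp.2.1, hp.2.2, hq.2.1, hq.2.2])
      exact ⟨g, g.2, fix_pt hg (by simp), fix_pt hg (by simp), fix_set hg (by simp), hgo⟩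


end Cfsg.Agent.S1604
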