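import Cfsg.Statements.S1605
import Cfsg.Agent.Golay.OctadOrbits

set_option autoImplicit false
open scoped Pointwise
open Cfsg

namespace Cfsg.Agent.S1605

/-- The two-point stabiliser acts on the 176 octads through the first point avoiding the second with rank 3 and subdegrees 1, 70, 105 (intersections 8, 2, 4). -/
theorem result (p q : Cfsg.GolayPt) (hpq : p ≠ q) : {x : Finset Cfsg.GolayPt | (x ∈ Cfsg.octads ∧ p ∈ x ∧ q ∉ x)}.ncard = 176 ∧ (∀ o o' : Finset Cfsg.GolayPt, (o ∈ Cfsg.octads ∧ p ∈ o ∧ q ∉ o) → (o' ∈ Cfsg.octads ∧ p ∈ o' ∧ q ∉ o') → ∃ g : Equiv.Perm Cfsg.GolayPt, g ∈ Cfsg.M24 ∧ g p = p ∧ g q = q ∧ g • o = o') ∧ ∀ o : Finset Cfsg.GolayPt, (o ∈ Cfsg.octads ∧ p ∈ o ∧ q ∉ o) → {x : Finset Cfsg.GolayPt | (x ∈ Cfsg.octads ∧ p ∈ x ∧ q ∉ x) ∧ (o ∩ x).card = 2}.ncard = 70 ∧ {x : Finset Cfsg.GolayPt | (x ∈ Cfsg.octads ∧ p ∈ x ∧ q ∉ x) ∧ (o ∩ x).card = 4}.ncard = 105 ∧ ∀ o'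 o'' : Finset Cfsg.GolayPt, (o' ∈ Cfsg.octads ∧ p ∈ o' ∧ q ∉ o') → (o'' ∈ Cfsg.octads ∧ p ∈ o'' ∧ q ∉ o'') → (o ∩ o').card = (o ∩ o'').card → ∃ g : Equiv.Perm Cfsg.GolayPt, g ∈ Cfsg.M24 ∧ g p = p ∧ g q = q ∧ g • o = o ∧ g • o' = o'' := by
  
  open CfsgLib.Golay.Cert in
    refine ⟨?_, fun o o' ho ho' => ?_, fun o ho => ⟨?_, ?_, fun o' o'' ho' ho'' h => ?_⟩⟩
    · obtain ⟨k, hk1, hk2⟩ := exists_map_two (p := CfsgLib.Golay.pt 23) (q := CfsgLib.Golay.pt 0) (by decide +kernel) hpq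
      refine (((bTwoPts_eq ▸ Cat.count' bTwoPts_oct_ok 2 (by decide) (v := [100, 1]) (n := 176) (by decide +kernel) rfl :
        IsTrans octCat _ _ _)).at octads_cat.2 (B' := [ptO p, ptO q]) (k := k) (by simp [smul_ptO, hk1, hk2])).count_sets octads_cat.1 fun s => ?_
      simp only [sig, List.map_cons, List.map_nil, J_ptO_one', List.cons.injEq, and_true, Set.mem_ofPred_eq]
      simp
    · obtain ⟨g, hg, hgo⟩ := (pair_trans hpq).sets octads_cat.1 ho.1 ho'.1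
        (by simp [sig, J_ptO_one', ho.2, ho'.2])
      exact ⟨g, g.2, fix_pt hg (by simp), fix_pt hg (by simp), hgo⟩
    · obtain ⟨k, hk⟩ := map_in_out ho.1 ho.2.1 ho.2.2
      refine (((bOctInOut_eq ▸ Cat.count' bOctInOut_oct_ok 6 (by decide) (v := [100, 1, 100 ^ 2]) (n := 70) (by decide +kernel) rfl :
        IsTrans octCat _ _ _)).at octads_cat.2 hk).count_sets octads_cat.1 fun s => ?_
      rw [Set.mem_ofPred_eq, sig_two_iff]
      simp [and_assoc]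
    · obtain ⟨k, hk⟩ := map_in_out ho.1 ho.2.1 ho.2.2
      refine (((bOctInOut_eq ▸ Cat.count' bOctInOut_oct_ok 8 (by decide) (v := [100, 1, 100 ^ 4]) (n := 105) (by decide +kernel) rfl :
        IsTrans octCat _ _ _)).at octads_cat.2 hk).count_sets octads_cat.1 fun s => ?_
      rw [Set.mem_ofPred_eq, sig_two_iff]
      simp [and_assoc]
    · obtain ⟨k, hk⟩ := map_in_out ho.1 ho.2.1 ho.2.2
      obtain ⟨g, hg, hgo⟩ := (((bOctInOut_eq ▸ Cat.trans' bOctInOut_oct_ok : Trans octCat _)).at octads_cat.2 hk).sets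
        octads_cat.1 ho'.1 ho''.1 (by simp [sig, J_ptO_one', J_one'_one', h, ho'.2, ho''.2])
      exact ⟨g, g.2, fix_pt hg (by simp), fix_pt hg (by simp), fix_set hg (by simp), hgo⟩

end Cfsg.Agent.S1605
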