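import Cfsg.Statements.S1606
import Cfsg.Agent.Golay.M22Index

set_option autoImplicit false
open scoped Pointwise
open Cfsg

namespace Cfsg.Agent.S1606

/-- The stabiliser of two points in the group of the length-24 code has no subgroups of index 56 or 210. -/
theorem result (p q : Cfsg.GolayPt) (hpq : p ≠ q) (H : Subgroup ↥(MulAction.stabilizer Cfsg.M24 p ⊓ MulAction.stabilizer Cfsg.M24 q)) : H.index ≠ 56 ∧ H.index ≠ 210 := by
  open CfsgLib.Golay CfsgLib.Golay.M22Idx in
    have hc : Nat.card ↥(H.map (MulAction.stabilizer Cfsg.M24 p ⊓ MulAction.stabilizer Cfsg.M24 q).subtype) * H.index = 443520 := by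
      rw [Subgroup.card_subtype, H.card_mul_index, card_stab_pair p q hpq]
    have hle := Subgroup.map_subtype_le H
    refine ⟨fun h => ?_, fun h => ?_⟩ <;> rw [h] at hc
    · exact no_7920 hpq hle (by omega)
    · exact no_2112 (hle.trans inf_le_left) (by omega)

end Cfsg.Agent.S1606
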