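import Cfsg.Statements.S1608
import Cfsg.Agent.Golay.OctadOrbits

set_option autoImplicit false
open scoped Pointwise
open Cfsg

namespace Cfsg.Agent.S1608

/-- The point stabiliser acts on the 506 octads avoiding the point with rank 4 and subdegrees 1, 15, 210, 280, the suborbits being given by intersection size with the fixed octad. -/
theorem result (x : Cfsg.GolayPt) (o : Finset Cfsg.GolayPt) (ho : o ∈ Cfsg.octads) (hx : x ∉ o) : {o' : Finset Cfsg.GolayPt | o' ∈ Cfsg.octads ∧ x ∉ o' ∧ (o ∩ o').card = 0}.ncard = 15 ∧ {o' : Finset Cfsg.GolayPt | o' ∈ Cfsg.octads ∧ x ∉ o' ∧ (o ∩ o').card = 4}.ncard = 210 ∧ {o' : Finset Cfsg.GolayPt | o' ∈ Cfsg.octads ∧ x ∉ o' ∧ (o ∩ o').card = 2}.ncard = 280 ∧ ∀ o' o'' : Finset Cfsg.GolayPt, o' ∈ Cfsg.octads → o'' ∈ Cfsg.octads → x ∉ o' → x ∉ o'' → (o ∩ o').card = (o ∩ o'').card → ∃ g : Equiv.Perm Cfsg.GolayPt, g ∈ Cfsg.M24 ∧ g x = x ∧ g • o = o ∧ g • o' = o'' := by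
  
  open CfsgLib.Golay.Cert in
    obtain ⟨k, hk⟩ := map_out ho hx
    refine ⟨?_, ?_, ?_, fun o' o'' ho' ho'' hx' hx'' h => ?_⟩
    · refine (((bOctOut_eq ▸ Cat.count' bOctOut_oct_ok 1 (by decide) (v := [1, 100 ^ 0]) (n := 15) (by decide +kernel) rfl :
        IsTrans octCat _ _ _)).at octads_cat.2 hk).count_sets octads_cat.1 fun s => ?_
      rw [Set.mem_ofPred_eq, sig_in_iff]
      simp [and_assoc]
    · refine (((bOctOut_eq ▸ Cat.count' bOctOut_oct_ok 5 (by decide) (v := [1, 100 ^ 4]) (n := 210) (by decide +kernel) rfl :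
        IsTrans octCat _ _ _)).at octads_cat.2 hk).count_sets octads_cat.1 fun s => ?_
      rw [Set.mem_ofPred_eq, sig_in_iff]
      simp [and_assoc]
    · refine (((bOctOut_eq ▸ Cat.count' bOctOut_oct_ok 6 (by decide) (v := [1, 100 ^ 2]) (n := 280) (by decide +kernel) rfl :
        IsTrans octCat _ _ _)).at octads_cat.2 hk).count_sets octads_cat.1 fun s => ?_
      rw [Set.mem_ofPred_eq, sig_in_iff]
      simp [and_assoc]
    · obtain ⟨g, hg, hgo⟩ := (((bOctOut_eq ▸ Cat.trans' bOctOut_oct_ok : Trans octCat _)).at octads_cat.2 hk).sets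
        octads_cat.1 ho' ho'' (by simp [sig, J_ptO_one', J_one'_one', h, hx', hx''])
      exact ⟨g, g.2, fix_pt hg (by simp), fix_set hg (by simp), hgo⟩


end Cfsg.Agent.S1608
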