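import Cfsg.Statements.S1609
import Cfsg.Agent.Golay.GivenIndex

set_option autoImplicit false
open scoped Pointwise
open Cfsg

namespace Cfsg.Agent.S1609

/-- Subgroups of index 253 in the Mathieu group of degree 23 are exactly the duad stabilisers and the heptad stabilisers. -/
theorem result (x : Cfsg.GolayPt) (H : Subgroup ↥(MulAction.stabilizer Cfsg.M24 x)) (hH : H.index = 253) : (∃ s : Finset Cfsg.GolayPt, s.card = 2 ∧ x ∉ s ∧ H = (MulAction.stabilizer Cfsg.M24 s).subgroupOf (MulAction.stabilizer Cfsg.M24 x)) ∨ ∃ o ∈ Cfsg.octads, x ∈ o ∧ H = (MulAction.stabilizer Cfsg.M24 o).subgroupOf (MulAction.stabilizer Cfsg.M24 x) := by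
  open CfsgLib.Golay CfsgLib.Golay.Cert in
    have hc : Nat.card ↥(H.map (MulAction.stabilizer Cfsg.M24 x).subtype) = 40320 := by
      rw [Subgroup.card_subtype]
      have h := H.card_mul_index
      rw [hH, card_stab_point] at h
      omega
    have hback : H = (H.map (MulAction.stabilizer Cfsg.M24 x).subtype).subgroupOf (MulAction.stabilizer Cfsg.M24 x) :=
      (Subgroup.comap_map_eq_self_of_injective Subtype.val_injective H).symm
    rcases point_index_253 (Subgroup.map_subtype_le H) hc with ⟨s, hs, hxs, he⟩ | ⟨o, ho, hxo, he⟩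
    · exact Or.inl ⟨s, hs, hxs, by rw [hback, he, Subgroup.inf_subgroupOf_right]⟩
    · exact Or.inr ⟨o, ho, hxo, by rw [hback, he, Subgroup.inf_subgroupOf_right]⟩

end Cfsg.Agent.S1609
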