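import Cfsg.Statements.S1610
import Cfsg.Agent.Golay.Hexacode

set_option autoImplicit false
open Cfsg

namespace Cfsg.Agent.S1610

/-- The hexacode has 64 words, minimum weight 4, and weight distribution 0^1 4^45 6^18. -/
theorem result (F : Type*) [Field F] [Fintype F] [DecidableEq F] (hF : Fintype.card F = 4) (ω : F) (hω : ω ^ 2 + ω + 1 = 0) : Nat.card ↥(Cfsg.hexacode F ω) = 64 ∧ (∀ x ∈ Cfsg.hexacode F ω, x ≠ 0 → (Finset.univ.filter fun i => x i ≠ 0).card = 4 ∨ (Finset.univ.filter fun i => x i ≠ 0).card = 6) ∧ {x : Fin 6 → F | x ∈ Cfsg.hexacode F ω ∧ (Finset.univ.filter fun i => x i ≠ 0).card = 4}.ncard = 45 ∧ {x : Fin 6 → F | x ∈ Cfsg.hexacode F ω ∧ (Finset.univ.filter fun i => x i ≠ 0).card = 6}.ncard = 18 := by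
  
  refine ⟨?_, ?_, ?_⟩
  · have h : (Cfsg.hexacode F ω : Set (Fin 6 → F)) = Set.range (CfsgLib.Hexa.hw ω) :=
      Set.ext (CfsgLib.Hexa.mem_iff hF hω)
    change Nat.card (Cfsg.hexacode F ω : Set (Fin 6 → F)) = 64
    rw [h, Nat.card_range_of_injective (CfsgLib.Hexa.hw_injective hF hω), Nat.card_eq_fintype_card]
    simp
  · intro x hx hx0
    obtain ⟨a, rfl⟩ := (CfsgLib.Hexa.mem_iff hF hω x).mp hx
    rw [CfsgLib.Hexa.support_hw hF hω]
    rcases CfsgLib.Hexa.weights a with h | h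
    · exact absurd (by subst h; funext i; fin_cases i <;> rfl) hx0
    · exact h
  · simp only [CfsgLib.Hexa.ncard_weight hF hω]
    exact CfsgLib.Hexa.counts

end Cfsg.Agent.S1610
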