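import Cfsg.Statements.S1612
import Cfsg.Agent.Spor3T.Simple

set_option autoImplicit false
open Cfsg

namespace Cfsg.Agent.S1612

/-- In a 3-transposition group (no solvable normal subgroup, perfect derived group), the normaliser of a commuting set of transpositions of maximum size contains a Sylow 2-subgroup and is doubly transitive on the set. -/
theorem result {G : Type*} [Group G] [Finite G] (hsol : ∀ N : Subgroup G, N.Normal → Group.IsSolvable ↥N → N = ⊥) (hperf : ⁅commutator G, commutator G⁆ = commutator G) {D : Set G} (hD : Cfsg.IsThreeTranspositionClass D) {E : Set G} (hE : E ⊆ D) (hc : ∀ a ∈ E, ∀ b ∈ E, Commute a b) (hmax : ∀ E' : Set G, E' ⊆ D → (∀ a ∈ E', ∀ b ∈ E', Commute a b) → E'.ncard ≤ E.ncard) : (∃ P : Sylow 2 G, (P : Subgroup G) ≤ Subgroup.normalizer E) ∧ ∀ a ∈ E, ∀ b ∈ E, ∀ c ∈ E, ∀ d ∈ E, a ≠ b → c ≠ d → ∃ g ∈ Subgroup.normalizer E, g * a * g⁻¹ = c ∧ g * b * g⁻¹ = d := by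
  
  haveI : Fact (Nat.Prime 2) := ⟨Nat.prime_two⟩
  -- a maximal commuting set is the trace of a Sylow subgroup
  have htrace : ∀ (F : Set G) (H : Subgroup G), F ⊆ D → (∀ a ∈ F, ∀ b ∈ F, Commute a b) → F.ncard = E.ncard → F ⊆ H →
      ∃ T : Sylow 2 H, {z : G | z ∈ D ∧ z ∈ (T : Subgroup H).map H.subtype} = F := by
    intro F H hF hFc hcard hFH
    have hc1 : ∀ u ∈ Subgroup.closure F, ∀ a ∈ F, Commute u a := by
      intro u hu a ha
      induction hu using Subgroup.closure_induction with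
      | mem z hz => exact hFc z hz a ha
      | one => exact Commute.one_left _
      | mul x y _ _ hx hy => exact hx.mul_left hy
      | inv x _ hx => exact hx.inv_left
    have hc2 : ∀ u ∈ Subgroup.closure F, ∀ v ∈ Subgroup.closure F, Commute u v := by
      intro u hu v hv
      induction hv using Subgroup.closure_induction with
      | mem z hz => exact hc1 u hu z hz
      | one => exact Commute.one_right _
      | mul x y _ _ hx hy => exact hx.mul_right hy
      | inv x _ hx => exact hx.inv_right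
    have hsq : ∀ u ∈ Subgroup.closure F, u ^ 2 = 1 := by
      intro u hu
      induction hu using Subgroup.closure_induction with
      | mem z hz => rw [pow_two, CfsgLib.ThreeT.sq hD.1 (hF hz)]
      | one => exact one_pow 2
      | mul x y hx hy hx' hy' => rw [(hc2 x hx y hy).mul_pow, hx', hy', one_mul]
      | inv x _ hx => rw [inv_pow, hx, inv_one]
    have hP : IsPGroup 2 ((Subgroup.closure F).subgroupOf H) := fun u => ⟨1, by
      refine Subtype.ext (Subtype.ext ?_)
      simpa using hsq _ (Subgroup.mem_subgroupOf.mp u.2)⟩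
    obtain ⟨T, hT⟩ := hP.exists_le_sylow
    refine ⟨T, (Set.eq_of_subset_of_ncard_le ?_ ?_ (Set.toFinite _)).symm⟩
    · exact fun z hz => ⟨hF hz, ⟨z, hFH hz⟩, hT (Subgroup.mem_subgroupOf.mpr (Subgroup.subset_closure hz)), rfl⟩
    · rw [hcard]
      refine hmax _ (fun z hz => hz.1) fun x hx y hy => ?_
      exact CfsgLib.ThreeT.commute_of_two_group hD.1 hx.1 hy.1 (T.2.map H.subtype) hx.2 hy.2
  have hnormalizer : ∀ g : G, (∀ z ∈ E, g * z * g⁻¹ ∈ E) → g ∈ Subgroup.normalizer E := by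
    intro g hg
    have himg : (fun z => g * z * g⁻¹) '' E = E := Set.eq_of_subset_of_ncard_le (fun _ ⟨z, hz, e⟩ => e ▸ hg z hz)
      (le_of_eq (Set.ncard_image_of_injective E fun a b h => mul_left_cancel (mul_right_cancel h)).symm) (Set.toFinite _)
    refine Subgroup.mem_set_normalizer_iff.mpr fun n => ⟨hg n, fun hn => ?_⟩
    obtain ⟨z, hz, e⟩ := himg.ge hn
    exact (mul_left_cancel (mul_right_cancel e)) ▸ hz
  constructor
  · obtain ⟨T, hT⟩ := htrace E ⊤ hE hc rfl fun z _ => Subgroup.mem_top z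
    obtain ⟨P, hP⟩ := (T.2.map (⊤ : Subgroup G).subtype).exists_le_sylow
    refine ⟨P, fun g hg => hnormalizer g fun z hz => ?_⟩
    have hPE : {w : G | w ∈ D ∧ w ∈ (P : Subgroup G)} = E := by
      refine (Set.eq_of_subset_of_ncard_le (fun w hw => ?_) ?_ (Set.toFinite _)).symm
      · exact ⟨hE hw, hP (hT.ge hw).2⟩
      · exact hmax _ (fun w hw => hw.1) fun x hx y hy =>
          CfsgLib.ThreeT.commute_of_two_group hD.1 hx.1 hy.1 P.2 hx.2 hy.2
    exact hPE.le ⟨CfsgLib.ThreeT.conj_mem hD (hE hz) g, mul_mem (mul_mem hg (hPE.ge hz).2) (inv_mem hg)⟩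
  · intro a ha b hb c hc' d hd hab hcd
    have hC := CfsgLib.ThreeT.comm_connected hD hsol hperf
    obtain ⟨g₁, hg₁⟩ := CfsgLib.ThreeT.exists_conj hD (hE ha) (hE hc')
    obtain ⟨k, hk, hkd⟩ := (CfsgLib.ThreeT.rank_three_of_connected hD hsol hC
      ⟨⟨a, hE ha⟩, ⟨b, hE hb⟩, fun e => hab (congrArg Subtype.val e)⟩ (hE hc')).2.2.1
      (g₁ * b * g₁⁻¹) (CfsgLib.ThreeT.conj_mem hD (hE hb) g₁) d (hE hd)
      (fun e => hab (mul_left_cancel (mul_right_cancel (e.trans hg₁.symm))).symm) (Ne.symm hcd)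
      (hg₁ ▸ (CfsgLib.ThreeT.commute_conj_iff g₁ a b).mpr (hc a ha b hb)) (hc c hc' d hd)
    have hkc : Commute k c := by
      have hcl : Subgroup.closure {z : G | z ∈ D ∧ z ≠ c ∧ Commute c z} ≤ Subgroup.centralizer ({c} : Set G) :=
        (Subgroup.closure_le _).mpr fun z hz => Subgroup.mem_centralizer_singleton_iff.mpr hz.2.2.symm.eq
      exact Subgroup.mem_centralizer_singleton_iff.mp (hcl hk)
    set g := k * g₁ with hg
    have hga : g * a * g⁻¹ = c := by
      calc k * g₁ * a * (k * g₁)⁻¹ = k * (g₁ * a * g₁⁻¹) * k⁻¹ := by group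
        _ = c := by rw [hg₁, hkc.eq, mul_inv_cancel_right]
    have hgb : g * b * g⁻¹ = d := by
      calc k * g₁ * b * (k * g₁)⁻¹ = k * (g₁ * b * g₁⁻¹) * k⁻¹ := by group
        _ = d := hkd
    set H := Subgroup.centralizer ({c, d} : Set G)
    have hEH : E ⊆ H := fun z hz w hw => by
      rcases hw with rfl | rfl
      · exact (hc _ hc' z hz).eq
      · exact (hc _ hd z hz).eq
    set F := (fun z => g * z * g⁻¹) '' E
    have hFH : F ⊆ H := by
      rintro _ ⟨z, hz, rfl⟩ w hw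
      rcases hw with rfl | rfl
      · exact (hga ▸ (CfsgLib.ThreeT.commute_conj_iff g a z).mpr (hc a ha z hz)).eq
      · exact (hgb ▸ (CfsgLib.ThreeT.commute_conj_iff g b z).mpr (hc b hb z hz)).eq
    obtain ⟨T, hT⟩ := htrace E H hE hc rfl hEH
    obtain ⟨T', hT'⟩ := htrace F H (fun _ ⟨z, hz, e⟩ => e ▸ CfsgLib.ThreeT.conj_mem hD (hE hz) g)
      (fun _ ⟨x, hx, ex⟩ _ ⟨y, hy, ey⟩ => ex ▸ ey ▸ (CfsgLib.ThreeT.commute_conj_iff g x y).mpr (hc x hx y hy))
      (Set.ncard_image_of_injective E fun x y h => mul_left_cancel (mul_right_cancel h)) hFH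
    obtain ⟨h, hh⟩ := MulAction.exists_smul_eq H T' T
    have hfix : ∀ w ∈ ({c, d} : Set G), (h : G) * w * (h : G)⁻¹ = w := fun w hw => by
      rw [← h.2 w hw, mul_inv_cancel_right]
    refine ⟨(h : G) * g, hnormalizer _ fun z hz => ?_, ?_, ?_⟩
    · have he : (h : G) * g * z * ((h : G) * g)⁻¹ = (h : G) * (g * z * g⁻¹) * (h : G)⁻¹ := by group
      rw [he]
      obtain ⟨hzD, u, hu, huz⟩ := hT'.ge (show g * z * g⁻¹ ∈ F from ⟨z, hz, rfl⟩)
      refine hT.le ⟨CfsgLib.ThreeT.conj_mem hD hzD h, h * u * h⁻¹, ?_, ?_⟩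
      · rw [← hh]
        exact ⟨u, hu, rfl⟩
      · rw [map_mul, map_mul, map_inv, huz]; rfl
    · calc (h : G) * g * a * ((h : G) * g)⁻¹ = (h : G) * (g * a * g⁻¹) * (h : G)⁻¹ := by group
        _ = c := by rw [hga]; exact hfix c (Or.inl rfl)
    · calc (h : G) * g * b * ((h : G) * g)⁻¹ = (h : G) * (g * b * g⁻¹) * (h : G)⁻¹ := by group
        _ = d := by rw [hgb]; exact hfix d (Or.inr rfl)

end Cfsg.Agent.S1612
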