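import Cfsg.Statements.S1614
import Cfsg.Agent.Spor3T.SolvableLocal
import Mathlib.FieldTheory.Finite.GaloisField

set_option autoImplicit false
open Cfsg

namespace Cfsg.Agent.S1614

/-- If the commuting transpositions of one transposition generate a solvable group, a Fischer 3-transposition group is S5, S6, PSU(4, 2) or PSU(5, 2). -/
theorem result {G : Type*} [Group G] [Finite G] (hsol : ∀ N : Subgroup G, N.Normal → Group.IsSolvable ↥N → N = ⊥) (hperf : ⁅commutator G, commutator G⁆ = commutator G) {D : Set G} (hD : Cfsg.IsThreeTranspositionClass D) (x : G) (hx : x ∈ D) (hs : Group.IsSolvable ↥(Subgroup.closure {y : G | y ∈ D ∧ y ≠ x ∧ Commute x y})) : Nonempty (G ≃* Equiv.Perm (Fin 5)) ∨ Nonempty (G ≃* Equiv.Perm (Fin 6)) ∨ ∃ (F : Type) (_ : Field F) (_ : Fintype F), Fintype.card F = 4 ∧ (Nonempty (G ≃* Cfsg.PSU 4 F 2) ∨ Nonempty (G ≃* Cfsg.PSU 5 F 2)) := by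
  classical
  by_cases ho : Cfsg.oddCore ↥(Subgroup.closure {y : G | y ∈ D ∧ y ≠ x ∧ Commute x y}) ≤
      Subgroup.center ↥(Subgroup.closure {y : G | y ∈ D ∧ y ≠ x ∧ Commute x y})
  swap
  · exact Or.inl (CfsgLib.ThreeT.sym_five_of_odd_core hD hsol hperf hx ho)
  by_cases h2 : Cfsg.pCore 2 ↥(Subgroup.closure {y : G | y ∈ D ∧ y ≠ x ∧ Commute x y}) ≤
      Subgroup.center ↥(Subgroup.closure {y : G | y ∈ D ∧ y ≠ x ∧ Commute x y})
  · exact (CfsgLib.ThreeT.SolvableLocal.false_of_central hD hsol hperf hx hs h2 ho).elim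
  have P := CfsgLib.ThreeT.Tv.pol_of hsol hperf hD hx h2
  by_cases hA : CfsgLib.ThreeT.Tv.NoTriangle P
  · exact Or.inr (Or.inl (CfsgLib.ThreeT.SolvableLocal.perm_six_of_noTriangle P hA hx hs))
  · haveI : Fact (Nat.Prime 2) := ⟨Nat.prime_two⟩
    letI : Fintype (GaloisField 2 2) := Fintype.ofFinite _
    have hK : Fintype.card (GaloisField 2 2) = 4 := by
      rw [← Nat.card_eq_fintype_card, GaloisField.card 2 2 (by norm_num)]; norm_num
    exact Or.inr (Or.inr ⟨GaloisField 2 2, inferInstance, inferInstance, hK,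
      CfsgLib.ThreeT.SolvableLocal.psu_of_triangle P hA hx hs _ hK⟩)

end Cfsg.Agent.S1614
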