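import Cfsg.Statements.S1625
import Cfsg.Agent.J3Local.Bridge
-- Template for statement S1625 (row 1625; see /opt/grader/pristine/manifest.json for weights).
-- Copy to Cfsg/Agent/S1625.lean and replace the sorry. The statement below is byte-identical to the frozen
-- statement Cfsg.CfsgFrozen.S1625 (Cfsg/Statements/S1625.lean; the theorem Cfsg.j3_order_and_center);
-- the grader kernel-checks Cfsg.Agent.S1625.result against that frozen type. Keep the theorem IN THIS FILE
-- (a `result` declared elsewhere and merely imported here is not credited); helpers may live anywhere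
-- under Cfsg/Agent/.
-- import your own Cfsg.Agent.* helpers here

set_option autoImplicit false
open scoped MatrixGroups
open Cfsg

namespace Cfsg.Agent.S1625

/-- The matrix group over the field with 4 elements generated by the 9×9 matrices of the definitions (ω a root of ω² + ω + 1) has order 150698880 and centre of order 3; its central quotient is simple of order 50232960 = 2^7·3^5·5·17·19. -/
theorem result (F : Type) [Field F] [Fintype F] (hF : Fintype.card F = 4) (ω : F) (hω : ω ^ 2 + ω + 1 = 0) : Nat.card ↥(Subgroup.center ↥(Cfsg.Spor.threeJ3 F ω)) = 3 ∧ Nat.card ↥(Cfsg.Spor.threeJ3 F ω) = 150698880 ∧ Nat.card (Cfsg.Spor.J3 F ω) = 50232960 ∧ IsSimpleGroup (Cfsg.Spor.J3 F ω) := by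
  have hF' : Nat.card F = 4 := by rw [Nat.card_eq_fintype_card, hF]
  obtain ⟨hc, hs, hj⟩ := CfsgLib.Coset.J3.triple_cover
  let e := CfsgLib.J3Local.coverEquiv hF' hω
  have he : (Subgroup.center CfsgLib.Coset.J3.H3).map (e : CfsgLib.Coset.J3.H3 →* Cfsg.Spor.threeJ3 F ω) =
      Subgroup.center (Cfsg.Spor.threeJ3 F ω) := CfsgLib.J3Local.map_center hF' hω
  let eq : CfsgLib.Coset.J3.H3 ⧸ Subgroup.center CfsgLib.Coset.J3.H3 ≃* Cfsg.Spor.J3 F ω :=
    QuotientGroup.congr _ _ e he
  have h1 : Nat.card ↥(Subgroup.center ↥(Cfsg.Spor.threeJ3 F ω)) = 3 := by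
    rw [← he, Subgroup.card_map_of_injective e.injective]
    exact hc
  have h2 : Nat.card (Cfsg.Spor.J3 F ω) = 50232960 := (Nat.card_congr eq.toEquiv).symm.trans hj
  refine ⟨h1, ?_, h2, eq.symm.isSimpleGroup_congr.mpr hs⟩
  rw [Subgroup.card_eq_card_quotient_mul_card_subgroup (Subgroup.center ↥(Cfsg.Spor.threeJ3 F ω)), h1]
  show Nat.card (Cfsg.Spor.J3 F ω) * 3 = _
  rw [h2]

end Cfsg.Agent.S1625
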