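import Cfsg.Statements.S1628
import Cfsg.Agent.RuLattice.Lattice
-- Template for statement S1628 (row 1628; see /opt/grader/pristine/manifest.json for weights).
-- Copy to Cfsg/Agent/S1628.lean and replace the sorry. The statement below is byte-identical to the frozen
-- statement Cfsg.CfsgFrozen.S1628 (Cfsg/Statements/S1628.lean; the theorem Cfsg.ru_lattice_even_rootless);
-- the grader kernel-checks Cfsg.Agent.S1628.result against that frozen type. Keep the theorem IN THIS FILE
-- (a `result` declared elsewhere and merely imported here is not credited); helpers may live anywhere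
-- under Cfsg/Agent/.
-- import your own Cfsg.Agent.* helpers here

set_option autoImplicit false
open Cfsg

namespace Cfsg.Agent.S1628

/-- The Conway–Wales lattice as stored is even with no vectors of true norm 2: stored norms are multiples of 8, never equal to 8, and the minimum over nonzero vectors is 16. -/
theorem result : (∀ x ∈ Cfsg.Spor.ruLattice, (8 : ℤ) ∣ Cfsg.Spor.ruNorm x) ∧ (∀ x ∈ Cfsg.Spor.ruLattice, Cfsg.Spor.ruNorm x ≠ 8) ∧ (∀ x ∈ Cfsg.Spor.ruLattice, x ≠ 0 → 16 ≤ Cfsg.Spor.ruNorm x) ∧ ∃ x ∈ Cfsg.Spor.ruLattice, Cfsg.Spor.ruNorm x = 16 := by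
  exact CfsgLib.RuLattice.main

end Cfsg.Agent.S1628
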