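import Cfsg.Statements.S1632
import Cfsg.Agent.Theta24.Modular

set_option autoImplicit false
open Matrix
open Cfsg
open UpperHalfPlane hiding I
open ModularForm Cfsg.Agent.Theta24

namespace Cfsg.Agent.S1632

private lemma e4 (m : ℕ) : (qExpansion 1 E₄).coeff m =
    if m = 0 then 1 else 240 * ((ArithmeticFunction.sigma 3 m : ℕ) : ℂ) := by
  norm_num [EisensteinSeries.E_qExpansion_coeff _ ⟨2, rfl⟩,
    show bernoulli 4 = -1 / 30 by decide +kernel]

private lemma e6 (m : ℕ) : (qExpansion 1 E₆).coeff m =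
    if m = 0 then 1 else -504 * ((ArithmeticFunction.sigma 5 m : ℕ) : ℂ) := by
  norm_num [EisensteinSeries.E_qExpansion_coeff _ ⟨3, rfl⟩,
    show bernoulli 6 = 1 / 42 by decide +kernel]

/-- An even unimodular lattice of rank 24 without roots has 196560, 16773120 and 398034000 vectors of norms 4, 6 and 8. -/
theorem result (B : Matrix (Fin 24) (Fin 24) ℤ) (hsymm : B.IsSymm) (hpos : ∀ x : Fin 24 → ℤ, x ≠ 0 → 0 < x ⬝ᵥ (B *ᵥ x)) (heven : ∀ x : Fin 24 → ℤ, (2 : ℤ) ∣ x ⬝ᵥ (B *ᵥ x)) (hdet : B.det = 1) (h2 : ∀ x : Fin 24 → ℤ, x ⬝ᵥ (B *ᵥ x) ≠ 2) : {x : Fin 24 → ℤ | x ⬝ᵥ (B *ᵥ x) = 4}.ncard = 196560 ∧ {x : Fin 24 → ℤ | x ⬝ᵥ (B *ᵥ x) = 6}.ncard = 16773120 ∧ {x : Fin 24 → ℤ | x ⬝ᵥ (B *ᵥ x) = 8}.ncard = 398034000 := by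
  have hB : EvenUnimodular B := ⟨hsymm, hpos, heven, hdet⟩
  have h1 : repCount B 1 = 0 := by
    simp [repCount, qZ, h2]
  have hc : ∀ m : ℕ, (repCount B m : ℂ) = ((7 / 12 : ℂ) • qExpansion 1 E₄ ^ 3
      + (5 / 12 : ℂ) • qExpansion 1 E₆ ^ 2).coeff m := fun m => by
    rw [← theta_qExpansion hB h1, thetaForm_coeff]
  have a2 : ArithmeticFunction.sigma 3 1 = 1 ∧ ArithmeticFunction.sigma 3 2 = 9 ∧
      ArithmeticFunction.sigma 3 3 = 28 ∧ ArithmeticFunction.sigma 3 4 = 73 := by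
    simp [ArithmeticFunction.sigma_apply, show Nat.divisors 1 = {1} by decide,
      show Nat.divisors 2 = {1, 2} by decide, show Nat.divisors 3 = {1, 3} by decide,
      show Nat.divisors 4 = {1, 2, 4} by decide]
  have b2 : ArithmeticFunction.sigma 5 1 = 1 ∧ ArithmeticFunction.sigma 5 2 = 33 ∧
      ArithmeticFunction.sigma 5 3 = 244 ∧ ArithmeticFunction.sigma 5 4 = 1057 := by
    simp [ArithmeticFunction.sigma_apply, show Nat.divisors 1 = {1} by decide,
      show Nat.divisors 2 = {1, 2} by decide, show Nat.divisors 3 = {1, 3} by decide,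
      show Nat.divisors 4 = {1, 2, 4} by decide]
  obtain ⟨s1, s2, s3, s4⟩ := a2
  obtain ⟨u1, u2, u3, u4⟩ := b2
  have hk : (repCount B 2 : ℂ) = 196560 ∧ (repCount B 3 : ℂ) = 16773120 ∧
      (repCount B 4 : ℂ) = 398034000 := by
    refine ⟨?_, ?_, ?_⟩ <;>
    · rw [hc]
      simp only [map_add, PowerSeries.coeff_smul, pow_succ, pow_zero, one_mul,
        PowerSeries.coeff_mul, Finset.Nat.sum_antidiagonal_eq_sum_range_succ_mk,
        Finset.sum_range_succ, Finset.sum_range_zero, zero_add, Nat.reduceSub, smul_eq_mul, e4, e6]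
      norm_num [s1, s2, s3, s4, u1, u2, u3, u4]
  obtain ⟨k2, k3, k4⟩ := hk
  have k2' : repCount B 2 = 196560 := by exact_mod_cast k2
  have k3' : repCount B 3 = 16773120 := by exact_mod_cast k3
  have k4' : repCount B 4 = 398034000 := by exact_mod_cast k4
  exact ⟨k2', k3', k4'⟩

end Cfsg.Agent.S1632
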