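import Cfsg.Statements.S1638
import Cfsg.Agent.Golay.PointsPos

set_option autoImplicit false
open scoped Pointwise
open Cfsg

namespace Cfsg.Agent.S1638

/-- Fix two points p ≠ q and a pair s of two further points. Among the pairs avoiding p, q and disjoint from s, exactly 30 lie in an octad together with p, q and s and exactly 160 do not; and any two pairs other than s that meet s in equally many points and agree on that octad property are carried to one another by an element of the group of the length-24 code fixing p, q and s. -/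
theorem result (p q : Cfsg.GolayPt) (hpq : p ≠ q) (s : Finset Cfsg.GolayPt) (hs : (s.card = 2 ∧ p ∉ s ∧ q ∉ s)) : {t : Finset Cfsg.GolayPt | (t.card = 2 ∧ p ∉ t ∧ q ∉ t) ∧ Disjoint s t ∧ (∃ o ∈ Cfsg.octads, p ∈ o ∧ q ∈ o ∧ s ∪ t ⊆ o)}.ncard = 30 ∧ {t : Finset Cfsg.GolayPt | (t.card = 2 ∧ p ∉ t ∧ q ∉ t) ∧ Disjoint s t ∧ ¬ (∃ o ∈ Cfsg.octads, p ∈ o ∧ q ∈ o ∧ s ∪ t ⊆ o)}.ncard = 160 ∧ ∀ t t' : Finset Cfsg.GolayPt, (t.card = 2 ∧ p ∉ t ∧ q ∉ t) → (t'.card = 2 ∧ p ∉ t' ∧ q ∉ t') → t ≠ s → t' ≠ s → (s ∩ t).card = (s ∩ t').card → ((∃ o ∈ Cfsg.octads, p ∈ o ∧ q ∈ o ∧ s ∪ t ⊆ o) ↔ (∃ o ∈ Cfsg.octads, p ∈ o ∧ q ∈ o ∧ s ∪ t' ⊆ o)) → ∃ g : Equiv.Perm Cfsg.GolayPt, g ∈ Cfsg.M24 ∧ g p = p ∧ g q = q ∧ g • s = s ∧ g • t = t' := by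
  
  open CfsgLib.Golay CfsgLib.Golay.Cert in
    obtain ⟨k, hk⟩ := map_pqs hpq hs.1 hs.2.1 hs.2.2
    have hL := ((bPQS_eq ▸ Cat.layout bPQS_pair_ok (L := [([1, 1, 10000, 50000], 1), ([100, 100, 1, 50000], 1),
      ([1, 100, 100, 50000], 2), ([100, 1, 100, 50000], 2), ([1, 100, 1, 10400], 20), ([100, 1, 1, 10400], 20),
      ([1, 1, 1, 10004], 30), ([1, 1, 100, 10400], 40), ([1, 1, 1, 203], 160)]) rfl : Layout pairCat _ _)).at pairs_cat.2 hk
    set B : List Obj := [ptO p, ptO q, one' s, thru ({p, q} ∪ s)] with hB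
    have h4 : (({p, q} : Finset GolayPt) ∪ s).card = 4 := by
      rw [Finset.card_union_of_disjoint, Finset.card_pair hpq, hs.1]
      simp [hs.2.1, hs.2.2]
    have hex : ∀ t : Finset GolayPt, (∃ o ∈ octads, p ∈ o ∧ q ∈ o ∧ s ∪ t ⊆ o) ↔
        ∃ o ∈ thru ({p, q} ∪ s), t ⊆ o := fun t => by
      simp [mem_thru, Finset.union_subset_iff, Finset.insert_subset_iff, and_assoc]
    have hthru : ∀ t : Finset GolayPt, t.card = 2 → ((∃ o ∈ octads, p ∈ o ∧ q ∈ o ∧ s ∪ t ⊆ o) ↔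
        10000 ≤ J (thru ({p, q} ∪ s)) (one' t)) := fun t ht => by
      rw [hex, exists_super_iff (j := 1) ht (thru_card_lt (Or.inr h4))]; norm_num
    have hsig : ∀ t : Finset GolayPt, t.card = 2 → p ∉ t → q ∉ t →
        sig B (one' t) = [1, 1, 100 ^ (s ∩ t).card, J (thru ({p, q} ∪ s)) (one' t)] := fun t _ hp hq => by
      simp [hB, sig, J_ptO_one', J_one'_one', hp, hq]
    have hback : ∀ (t : Finset GolayPt) (c j : ℕ), t.card = 2 → sig B (one' t) = [1, 1, 100 ^ c, j] →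
        (p ∉ t ∧ q ∉ t) ∧ (s ∩ t).card = c ∧ J (thru ({p, q} ∪ s)) (one' t) = j := fun t c j _ h => by
      simp only [hB, sig, List.map_cons, List.map_nil, J_ptO_one', J_one'_one', List.cons.injEq, and_true] at h
      refine ⟨⟨fun hc => ?_, fun hc => ?_⟩, pow100_inj h.2.2.1, h.2.2.2⟩
      · simp [hc] at h
      · simp [hc] at h
    have hkey : ∀ t : Finset GolayPt, t.card = 2 → p ∉ t → q ∉ t → Disjoint s t →
        ((∃ o ∈ octads, p ∈ o ∧ q ∈ o ∧ s ∪ t ⊆ o) → sig B (one' t) = [1, 1, 100 ^ 0, 10004]) ∧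
        (¬ (∃ o ∈ octads, p ∈ o ∧ q ∈ o ∧ s ∪ t ⊆ o) → sig B (one' t) = [1, 1, 100 ^ 0, 203]) := by
      intro t ht hp hq hd
      have hall := hL.all_sets pairs_cat.1 (show t ∈ {u : Finset GolayPt | u.card = 2} from ht)
      rw [hsig t ht hp hq, Finset.disjoint_iff_inter_eq_empty.mp hd, Finset.card_empty] at hall ⊢
      rw [hthru t ht]
      simp only [List.map_cons, List.map_nil, List.mem_cons, List.not_mem_nil, or_false, List.cons.injEq,
        and_true, true_and] at hall ⊢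
      norm_num at hall ⊢
      constructor <;> intro h <;> omega
    refine ⟨?_, ?_, fun t t' ht ht' hne hne' hc hiff => ?_⟩
    · refine (hL.each ([1, 1, 1, 10004], 30) (by simp)).count_sets pairs_cat.1 fun t => ?_
      simp only [Set.mem_ofPred_eq]
      refine ⟨fun h => ⟨h.1.1, (hkey t h.1.1 h.1.2.1 h.1.2.2 h.2.1).1 h.2.2⟩, fun h => ?_⟩
      obtain ⟨⟨hp, hq⟩, hc, hj⟩ := hback t 0 10004 h.1 h.2
      exact ⟨⟨h.1, hp, hq⟩, Finset.disjoint_iff_inter_eq_empty.mpr (Finset.card_eq_zero.mp hc),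
        (hthru t h.1).mpr (by omega)⟩
    · refine (hL.each ([1, 1, 1, 203], 160) (by simp)).count_sets pairs_cat.1 fun t => ?_
      simp only [Set.mem_ofPred_eq]
      refine ⟨fun h => ⟨h.1.1, (hkey t h.1.1 h.1.2.1 h.1.2.2 h.2.1).2 h.2.2⟩, fun h => ?_⟩
      obtain ⟨⟨hp, hq⟩, hc, hj⟩ := hback t 0 203 h.1 h.2
      exact ⟨⟨h.1, hp, hq⟩, Finset.disjoint_iff_inter_eq_empty.mpr (Finset.card_eq_zero.mp hc),
        fun hx => by have := (hthru t h.1).mp hx; omega⟩
    · have hT : Trans pairCat B := ((bPQS_eq ▸ Cat.trans' bPQS_pair_ok : Trans pairCat _)).at pairs_cat.2 hk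
      obtain ⟨g, hg, hgt⟩ := hT.sets pairs_cat.1 (s := t) (t := t') ht.1 ht'.1 (by
        have a := hL.all_sets pairs_cat.1 (show t ∈ {u : Finset GolayPt | u.card = 2} from ht.1)
        have a' := hL.all_sets pairs_cat.1 (show t' ∈ {u : Finset GolayPt | u.card = 2} from ht'.1)
        rw [hsig t ht.1 ht.2.1 ht.2.2] at a ⊢
        rw [hsig t' ht'.1 ht'.2.1 ht'.2.2, ← hc] at a' ⊢
        have h2 : (s ∩ t).card ≠ 2 := fun h => hne (by
          have h1 : s ∩ t = s := Finset.eq_of_subset_of_card_le Finset.inter_subset_left (by omega)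
          have h3 : s ∩ t = t := Finset.eq_of_subset_of_card_le Finset.inter_subset_right (by omega)
          exact h3.symm.trans h1)
        have h3 : (s ∩ t).card ≤ 2 := (Finset.card_le_card Finset.inter_subset_left).trans hs.1.le
        rw [hthru t ht.1, hthru t' ht'.1, iff_iff_and_or_not_and_not] at hiff
        simp only [List.map_cons, List.map_nil, List.mem_cons, List.not_mem_nil, or_false, List.cons.injEq,
          and_true, true_and] at a a' ⊢
        interval_cases hh : (s ∩ t).card <;> norm_num at a a' hiff ⊢ <;> omega)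
      exact ⟨g, g.2, fixes_ptO.mp (hg _ (by simp [hB])), fixes_ptO.mp (hg _ (by simp [hB])),
        fixes_one'.mp (hg _ (by simp [hB])), hgt⟩

end Cfsg.Agent.S1638
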