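import Cfsg.Statements.S1639
import Cfsg.Agent.Golay.DodecadPos

set_option autoImplicit false
open scoped Pointwise
open Cfsg

namespace Cfsg.Agent.S1639

/-- The point stabiliser acts on the 1288 dodecads through the point with rank 4 and subdegrees 1, 165, 330, 792, distinguished by intersection 4, 8, 6 with the fixed dodecad. -/
theorem result (x : Cfsg.GolayPt) (d : Finset Cfsg.GolayPt) (hd : d ∈ Cfsg.dodecads) (hx : x ∈ d) : {d' : Finset Cfsg.GolayPt | d' ∈ Cfsg.dodecads ∧ x ∈ d' ∧ (d ∩ d').card = 4}.ncard = 165 ∧ {d' : Finset Cfsg.GolayPt | d' ∈ Cfsg.dodecads ∧ x ∈ d' ∧ (d ∩ d').card = 8}.ncard = 330 ∧ {d' : Finset Cfsg.GolayPt | d' ∈ Cfsg.dodecads ∧ x ∈ d' ∧ (d ∩ d').card = 6}.ncard = 792 ∧ ∀ d' d'' : Finset Cfsg.GolayPt, d' ∈ Cfsg.dodecads → d'' ∈ Cfsg.dodecads → x ∈ d' → x ∈ d'' → (d ∩ d').card = (d ∩ d'').card → ∃ g : Equiv.Perm Cfsg.GolayPt, g ∈ Cfsg.M24 ∧ g x = x ∧ g • d = d ∧ g • d' = d'' := by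
  
  open CfsgLib.Golay CfsgLib.Golay.Cert in
    obtain ⟨k, hk⟩ := map_dodecad_pt hd hx
    refine ⟨?_, ?_, ?_, fun d' d'' hd' hd'' hx' hx'' h => ?_⟩
    ·
      refine (((bDodIn_eq ▸ Cat.count' bDodIn_dod_ok 3 (by decide) (v := [100, 100 ^ 4]) (n := 165) (by decide +kernel) rfl :
        IsTrans dodCat _ _ _)).at dodecads_cat.2 hk).count_sets dodecads_cat.1 fun s => ?_
      rw [Set.mem_ofPred_eq, sig_pt_one_iff]
      all_goals simp
    ·
      refine (((bDodIn_eq ▸ Cat.count' bDodIn_dod_ok 5 (by decide) (v := [100, 100 ^ 8]) (n := 330) (by decide +kernel) rfl :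
        IsTrans dodCat _ _ _)).at dodecads_cat.2 hk).count_sets dodecads_cat.1 fun s => ?_
      rw [Set.mem_ofPred_eq, sig_pt_one_iff]
      all_goals simp
    ·
      refine (((bDodIn_eq ▸ Cat.count' bDodIn_dod_ok 7 (by decide) (v := [100, 100 ^ 6]) (n := 792) (by decide +kernel) rfl :
        IsTrans dodCat _ _ _)).at dodecads_cat.2 hk).count_sets dodecads_cat.1 fun s => ?_
      rw [Set.mem_ofPred_eq, sig_pt_one_iff]
      all_goals simp
    · obtain ⟨g, hg, hgd⟩ := (((bDodIn_eq ▸ Cat.trans' bDodIn_dod_ok : Trans dodCat _)).at dodecads_cat.2 hk).sets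
        dodecads_cat.1 hd' hd'' (by simp [sig, J_ptO_one', J_one'_one', hx', hx'', h])
      exact ⟨g, g.2, fixes_ptO.mp (hg _ (by simp)), fixes_one'.mp (hg _ (by simp)), hgd⟩

end Cfsg.Agent.S1639
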