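import Cfsg.Statements.S1652
import Cfsg.Agent.J3U.Main
import Cfsg.Agent.J3U.SL16

set_option autoImplicit false
open Cfsg

namespace Cfsg.Agent.S1652

/-- A group of J₃ type contains SL(2,16):2: let a finite simple group have a single conjugacy class of involutions and an involution t whose centraliser C has a normal extraspecial subgroup Q of order 32 with no elementary abelian subgroup of order 8, whose centraliser in C lies in Q, with C / Q isomorphic to the alternating group of degree 5. Then some subgroup H has a normal subgroup of index 2 isomorphic to the special linear group of dimension 2 over a field with 16 elements. -/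
theorem result {G : Type*} [Group G] [Finite G] [IsSimpleGroup G] (t : G) (ht : orderOf t = 2) (Q : Subgroup (Subgroup.centralizer ({t} : Set G))) [Q.Normal] (hQ : Cfsg.IsExtraspecial 2 Q) (hcard : Nat.card Q = 32) (hminus : ∀ E : Subgroup Q, Cfsg.IsElementaryAbelian 2 E → Nat.card E ≤ 2 ^ 2) (h2c : Subgroup.centralizer (Q : Set (Subgroup.centralizer ({t} : Set G))) ≤ Q) (e : (Subgroup.centralizer ({t} : Set G)) ⧸ Q ≃* alternatingGroup (Fin 5)) (hone : ∀ x y : G, orderOf x = 2 → orderOf y = 2 → IsConj x y) : ∃ (H : Subgroup G) (N : Subgroup H) (K : Type) (_ : Field K) (_ : Fintype K), N.Normal ∧ N.index = 2 ∧ Fintype.card K = 16 ∧ Nonempty (N ≃* Matrix.SpecialLinearGroup (Fin 2) K) := by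
  obtain ⟨ι⟩ := CfsgLib.J3U.isoP hone t ht Q hcard hQ e
  obtain ⟨N, hn, hi, ⟨φ⟩⟩ := CfsgLib.J3U.SL16.exists_sl16
  let H := CfsgLib.Coset.J3.H
  let f : H ≃* H.map ι.toMonoidHom := H.equivMapOfInjective ι.toMonoidHom ι.injective
  refine ⟨H.map ι.toMonoidHom, N.map f.toMonoidHom, Cfsg.Agent.PrimeGraphU34.F16, inferInstance, inferInstance,
    hn.map _ f.surjective, ?_, Cfsg.Agent.PrimeGraphU34.F16.card_eq, ⟨?_⟩⟩
  · rw [← hi]; exact Subgroup.index_map_equiv N f
  · exact (N.equivMapOfInjective f.toMonoidHom f.injective).symm.trans φ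

end Cfsg.Agent.S1652
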