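import Cfsg.Statements.S1659
import Cfsg.Agent.HeldUniq.ExistsFrame
import Cfsg.Agent.HeldUniq.Fusion
import Cfsg.Agent.HeldUniq.ActKill
import Cfsg.Agent.HeldUniq.TrioCase
import Cfsg.Agent.HeldAmal.Cube

set_option autoImplicit false
open Cfsg

namespace Cfsg.Agent.S1659

open CfsgLib.HeldUniq

/-- Uniqueness of the Held group at the level of isomorphism: a finite simple group of order 4030387200 with exactly two conjugacy classes of involutions, having an involution t whose centraliser C has a normal subgroup Q, extraspecial of order 2 ^ 7 with an elementary abelian subgroup of order 16, whose centraliser in C lies in Q, and with C / Q isomorphic to SL(3, 2), is isomorphic to the presented Held group. -/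
theorem result {G : Type*} [Group G] [Finite G] [IsSimpleGroup G] (t : G) (ht : orderOf t = 2) (Q : Subgroup (Subgroup.centralizer ({t} : Set G))) [Q.Normal] (hQ : Cfsg.IsExtraspecial 2 Q) (hcard : Nat.card Q = 2 ^ 7) (hplus : ∃ E : Subgroup Q, Cfsg.IsElementaryAbelian 2 E ∧ Nat.card E = 2 ^ 4) (h2c : Subgroup.centralizer (Q : Set (Subgroup.centralizer ({t} : Set G))) ≤ Q) (e : (Subgroup.centralizer ({t} : Set G)) ⧸ Q ≃* Matrix.SpecialLinearGroup (Fin 3) (ZMod 2)) (hG : Nat.card G = 4030387200) (htwo : ∃ x y : G, orderOf x = 2 ∧ orderOf y = 2 ∧ ¬ IsConj x y ∧ ∀ z : G, orderOf z = 2 → IsConj z x ∨ IsConj z y) : Cfsg.Spor.IsoHe G := by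
  obtain ⟨F⟩ := exists_frame t ht Q hQ hcard h2c e hG
  obtain ⟨hx, hy⟩ := F.isConj_axes hG htwo
  obtain ⟨s, hs, hst⟩ := F.exists_step hG htwo (Mdl.mk 0 1 0 Mdl.mone Mdl.mone) (by simp)
  obtain ⟨r, hr, hrt⟩ := F.exists_step hG htwo (Mdl.mk 1 0 0 Mdl.mone Mdl.mone) (by simp)
  have done : ∀ (F : Frame t) (n : G), n * n = 1 → F.Swaps n →
      (∀ i < 3, n * F.ev (Mdl.dGens.getD i Mdl.one) * n =
        F.ev ((Mdl.actTable.getD 1 []).getD i Mdl.one)) → Cfsg.Spor.IsoHe G :=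
    fun F n hn hsw hact => CfsgLib.HeldAmal.iso_he_of_sq_act F n hn hsw.1 hsw.2 hact hG
  obtain ⟨k, hk, n₂, hn2, hw2, h2⟩ := F.exists_act hs hst
  rcases F.act_cases hG hk hn2 h2 with rfl | rfl
  · exact done F n₂ hn2 hw2 h2
  -- the same for the frame with the two elementary subgroups exchanged
  have hm : Mdl.mem Mdl.muConj = true := by decide +kernel
  have hmir : Mdl.mir Mdl.swX = Mdl.mk 1 0 0 Mdl.mone Mdl.mone := by decide +kernel
  set F' := F.mirror Mdl.muConj hm with hF'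
  have hX : F'.ev Mdl.swX =
      F.ev Mdl.muConj * F.ev (Mdl.mk 1 0 0 Mdl.mone Mdl.mone) * (F.ev Mdl.muConj)⁻¹ := by
    show F.ev Mdl.muConj * F.ev (Mdl.mir Mdl.swX) * (F.ev Mdl.muConj)⁻¹ = _
    rw [hmir]
  set c := F.ev Mdl.muConj with hc
  have hct : c * t * c⁻¹ = t := mul_inv_eq_iff_eq_mul.2 (F.mem_cent hm)
  have hs' : c * r * c⁻¹ * F'.ev Mdl.swX = F'.ev Mdl.swX * (c * r * c⁻¹) := by
    rw [hX]
    calc _ = c * (r * F.ev (Mdl.mk 1 0 0 Mdl.mone Mdl.mone)) * c⁻¹ := by group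
      _ = _ := by rw [hr]; group
  have hst' : c * r * c⁻¹ * t * (c * r * c⁻¹)⁻¹ = t * F'.ev Mdl.swX := by
    calc _ = c * (r * (c⁻¹ * t * c) * r⁻¹) * c⁻¹ := by group
      _ = c * (r * t * r⁻¹) * c⁻¹ := by
        rw [show c⁻¹ * t * c = c⁻¹ * (c * t * c⁻¹) * c by rw [hct]]; group
      _ = (c * t * c⁻¹) * (c * F.ev (Mdl.mk 1 0 0 Mdl.mone Mdl.mone) * c⁻¹) := by rw [hrt]; group
      _ = _ := by rw [hct, hX]
  obtain ⟨k, hk, n₁, hn1, hw1, h1⟩ := F'.exists_act hs' hst'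
  rcases F'.act_cases hG hk hn1 h1 with rfl | rfl
  · exact done F' n₁ hn1 hw1 h1
  · exact (F.false_of_two_trio hG hx hy hn2 h2 hn1 h1).elim

end Cfsg.Agent.S1659
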