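import Cfsg.Statements.S1682
import Cfsg.Agent.Coset.Sp44.InHe
import Cfsg.Agent.Coset.Sp44.Mat

set_option autoImplicit false
open Cfsg

namespace Cfsg.Agent.S1682

/-- In the presented Held group, the subgroup H generated by the images of a, c, d, e, f, (ab)^2 and (bcde)^7 has a normal subgroup of index 2 isomorphic to the 4-dimensional symplectic group over a field with four elements. -/
theorem result : ∃ (N : Subgroup (((Subgroup.closure ({Cfsg.Spor.He.a, Cfsg.Spor.He.c, Cfsg.Spor.He.d, Cfsg.Spor.He.e, Cfsg.Spor.He.f, (Cfsg.Spor.He.a * Cfsg.Spor.He.b) ^ 2, (Cfsg.Spor.He.b * Cfsg.Spor.He.c * Cfsg.Spor.He.d * Cfsg.Spor.He.e) ^ 7} : Set (FreeGroup Cfsg.Spor.He.Gen))).map (PresentedGroup.mk (Cfsg.Spor.coxRelators Cfsg.Spor.He.edges ∪ {r | r ∈ Cfsg.Spor.He.extra}))))) (K : Type) (_ : Field K) (_ : Fintype K), N.Normal ∧ N.index = 2 ∧ Fintype.card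 K = 4 ∧ Nonempty (N ≃* Matrix.symplecticGroup (Fin 2) K) := by
  have hs : (({Cfsg.Spor.He.a, Cfsg.Spor.He.c, Cfsg.Spor.He.d, Cfsg.Spor.He.e, Cfsg.Spor.He.f, (Cfsg.Spor.He.a * Cfsg.Spor.He.b) ^ 2, (Cfsg.Spor.He.b * Cfsg.Spor.He.c * Cfsg.Spor.He.d * Cfsg.Spor.He.e) ^ 7} : Set (FreeGroup Cfsg.Spor.He.Gen))) =
      {r | r ∈ [Cfsg.Spor.He.a, Cfsg.Spor.He.c, Cfsg.Spor.He.d, Cfsg.Spor.He.e, Cfsg.Spor.He.f, (Cfsg.Spor.He.a * Cfsg.Spor.He.b) ^ 2, (Cfsg.Spor.He.b * Cfsg.Spor.He.c * Cfsg.Spor.He.d * Cfsg.Spor.He.e) ^ 7]} := by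
    ext r; simp
  have hH : (Subgroup.closure ({Cfsg.Spor.He.a, Cfsg.Spor.He.c, Cfsg.Spor.He.d, Cfsg.Spor.He.e, Cfsg.Spor.He.f, (Cfsg.Spor.He.a * Cfsg.Spor.He.b) ^ 2, (Cfsg.Spor.He.b * Cfsg.Spor.He.c * Cfsg.Spor.He.d * Cfsg.Spor.He.e) ^ 7} : Set (FreeGroup Cfsg.Spor.He.Gen))).map (PresentedGroup.mk (Cfsg.Spor.coxRelators Cfsg.Spor.He.edges ∪ {r | r ∈ Cfsg.Spor.He.extra})) = CfsgLib.Coset.He.H := by
    rw [hs]
    refine (CfsgLib.Coset.He.pres.map_mk_closure CfsgLib.Coset.He.pres_ok _).trans ?_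
    exact congrArg (CfsgLib.Coset.genW _) (by decide +kernel)
  rw [hH]
  obtain ⟨e1⟩ := CfsgLib.Coset.Sp44.nonempty_equiv_N
  obtain ⟨e2⟩ := CfsgLib.Coset.Sp44.nonempty_equiv
  exact ⟨CfsgLib.Coset.Sp44.N.subgroupOf CfsgLib.Coset.He.H, CfsgLib.Coset.G24.F4, inferInstance,
    inferInstance, Subgroup.normal_of_index_eq_two CfsgLib.Coset.Sp44.index_two,
    CfsgLib.Coset.Sp44.index_two, CfsgLib.Coset.G24.F4.card_eq,
    ⟨(Subgroup.subgroupOfEquivOfLe CfsgLib.Coset.Sp44.N_le).trans (e1.symm.trans e2)⟩⟩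

end Cfsg.Agent.S1682
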