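import Cfsg.Statements.S1668
import Cfsg.Agent.SuzRankThree.Main

set_option autoImplicit false
open Cfsg

namespace Cfsg.Agent.S1668

open MulAction in
/-- Recognition of the sporadic Suzuki group as a rank 3 permutation group: a transitive permutation group on 1782 points in which the stabiliser of a point is isomorphic to the Chevalley group G₂(4) and has two further orbits, of sizes 416 and 1365, is isomorphic to the sporadic Suzuki group. -/
theorem result {Ω : Type*} [Fintype Ω] [DecidableEq Ω] (hΩ : Fintype.card Ω = 1782) (G : Subgroup (Equiv.Perm Ω)) [MulAction.IsPretransitive G Ω] (a : Ω) (K : Type) [Field K] [Fintype K] (hK : Fintype.card K = 4) (e : MulAction.stabilizer G a ≃* Cfsg.Lie.chevG2.group K) (b c : Ω) (hb : (MulAction.orbit (MulAction.stabilizer G a) b).ncard = 416) (hc : (MulAction.orbit (MulAction.stabilizer G a) c).ncard = 1365) : Cfsg.Spor.IsoSuz G := by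
  have horb : ∀ x : Ω, {y | CfsgLib.SuzRankThree.Rel G a x a y} = orbit (stabilizer G a) x := fun x => by
    ext y
    constructor
    · rintro ⟨g, hg, hga, rfl⟩
      exact ⟨⟨⟨g, hg⟩, hga⟩, rfl⟩
    · rintro ⟨⟨⟨g, hg⟩, hga⟩, rfl⟩
      exact ⟨g, hg, hga, rfl⟩
  obtain ⟨ψ⟩ := CfsgLib.SuzRankThree.M0_equiv K hK
  refine CfsgLib.SuzRankThree.isSuz (a := a) (b := b) (c := c) ⟨hΩ, fun x y => ?_, ?_, ?_, ⟨ψ.trans e.symm⟩⟩
  · obtain ⟨g, hg⟩ := exists_smul_eq G x y
    exact ⟨g, g.2, hg⟩
  · rw [horb, hb]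
  · rw [horb, hc]

end Cfsg.Agent.S1668
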