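import Cfsg.Statements.S1669
import Cfsg.Agent.RuRankThree.Main

set_option autoImplicit false
open Cfsg

namespace Cfsg.Agent.S1669

/-- Recognition of the Rudvalis group as a rank 3 permutation group: a transitive permutation group on 4060 points in which the stabiliser of a point is isomorphic to the Ree group ²F₄(2) and has two further orbits, of sizes 1755 and 2304, is isomorphic to the Rudvalis group. -/
theorem result {Ω : Type*} [Fintype Ω] [DecidableEq Ω] (hΩ : Fintype.card Ω = 4060) (G : Subgroup (Equiv.Perm Ω)) [MulAction.IsPretransitive G Ω] (a : Ω)  (e : MulAction.stabilizer G a ≃* Cfsg.Lie.twistedF4 (ZMod 2) 1) (b c : Ω) (hb : (MulAction.orbit (MulAction.stabilizer G a) b).ncard = 1755) (hc : (MulAction.orbit (MulAction.stabilizer G a) c).ncard = 2304) : Cfsg.Spor.IsoRu G := by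
  have horb : ∀ x : Ω, {y | CfsgLib.RuRankThree.Rel G a x a y} = MulAction.orbit (MulAction.stabilizer G a) x := fun x => by
    ext y
    constructor
    · rintro ⟨g, hg, hga, rfl⟩
      exact ⟨⟨⟨g, hg⟩, hga⟩, rfl⟩
    · rintro ⟨⟨⟨g, hg⟩, hga⟩, rfl⟩
      exact ⟨g, hg, hga, rfl⟩
  obtain ⟨ψ⟩ := CfsgLib.RuRankThree.M0_equiv
  refine CfsgLib.RuRankThree.isRu (a := a) (b := b) (c := c) ⟨hΩ, fun x y => ?_, ?_, ?_, ⟨ψ.trans e.symm⟩⟩
  · obtain ⟨g, hg⟩ := MulAction.exists_smul_eq G x y
    exact ⟨g, g.2, hg⟩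
  · rw [horb, hb]
  · rw [horb, hc]

end Cfsg.Agent.S1669
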