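import Cfsg.Statements.S1681
import Cfsg.Agent.Coset.Suz.KIndex

set_option autoImplicit false
open Cfsg

namespace Cfsg.Agent.S1681

/-- In the presented sporadic Suzuki group (generators a, …, g), the subgroup generated by the images of a, b, c, d, f, g has index 22880. -/
theorem result : (((Subgroup.closure ({Cfsg.Spor.Suz.a, Cfsg.Spor.Suz.b, Cfsg.Spor.Suz.c, Cfsg.Spor.Suz.d, Cfsg.Spor.Suz.f, Cfsg.Spor.Suz.g} : Set (FreeGroup Cfsg.Spor.Suz.Gen))).map (PresentedGroup.mk (Cfsg.Spor.coxRelators Cfsg.Spor.Suz.edges ∪ {r | r ∈ Cfsg.Spor.Suz.extra})))).index = 22880 := by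
  have hs : (({Cfsg.Spor.Suz.a, Cfsg.Spor.Suz.b, Cfsg.Spor.Suz.c, Cfsg.Spor.Suz.d, Cfsg.Spor.Suz.f, Cfsg.Spor.Suz.g} : Set (FreeGroup Cfsg.Spor.Suz.Gen))) =
      {r | r ∈ [Cfsg.Spor.Suz.a, Cfsg.Spor.Suz.b, Cfsg.Spor.Suz.c, Cfsg.Spor.Suz.d, Cfsg.Spor.Suz.f, Cfsg.Spor.Suz.g]} := by
    ext r; simp
  rw [hs]
  refine (congrArg Subgroup.index ?_).trans CfsgLib.Coset.Suz.index_K
  refine (CfsgLib.Coset.Suz.pres.map_mk_closure CfsgLib.Coset.Suz.pres_ok _).trans ?_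
  refine Eq.trans ?_ (CfsgLib.Coset.genW_singletons [0, 1, 2, 3, 5, 6])
  exact congrArg (CfsgLib.Coset.genW _) (by decide +kernel)

end Cfsg.Agent.S1681
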