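import Cfsg.Statements.S1691
-- import your own Cfsg.Agent.* helpers here

set_option autoImplicit false
open Cfsg

namespace Cfsg.Agent.S1691

/-- The commutator subgroup of the presented group Fi₂₄ has index 2 (the presented group is Fi₂₄′:2 with Fi₂₄′ its derived subgroup). -/
theorem result : (commutator Cfsg.Spor.Fi24).index = 2 := by
  classical
  set f : Spor.Fi24.Gen → Abelianization Spor.Fi24 :=
    fun x => Abelianization.of (PresentedGroup.of x) with hf
  have hcox : ∀ x ∈ Spor.coxNodes Spor.Fi24.edges, ∀ y ∈ Spor.coxNodes Spor.Fi24.edges,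
      (f x * f y) ^ Spor.coxLabel Spor.Fi24.edges x y = 1 := by
    intro x hx y hy
    have hmk : PresentedGroup.mk (Spor.coxRelators Spor.Fi24.edges ∪ {r | r ∈ Spor.Fi24.extra})
        ((FreeGroup.of x * FreeGroup.of y) ^ Spor.coxLabel Spor.Fi24.edges x y) = 1 :=
      PresentedGroup.one_of_mem (Set.mem_union_left _ ⟨x, hx, y, hy, rfl⟩)
    have := congrArg Abelianization.of hmk
    simpa [hf, PresentedGroup.of, map_pow] using this
  have hnode : ∀ x : Spor.Fi24.Gen, x ∈ Spor.coxNodes Spor.Fi24.edges := by
    intro x; cases x <;> decide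
  have hsq : ∀ x, f x * f x = 1 := by
    intro x
    have h := hcox x (hnode x) x (hnode x)
    simpa [Spor.coxLabel] using h
  have hadj : ∀ x y, Spor.coxLabel Spor.Fi24.edges x y = 3 → f x = f y := by
    intro x y h
    have h3 := hcox x (hnode x) y (hnode y)
    rw [h, mul_pow] at h3
    have hx : f x ^ 3 = f x := by rw [pow_succ, pow_two, hsq, one_mul]
    have hy : f y ^ 3 = f y := by rw [pow_succ, pow_two, hsq, one_mul]
    rw [hx, hy, mul_eq_one_iff_eq_inv] at h3
    rw [h3, inv_eq_of_mul_eq_one_right (hsq y)]
  have hall : ∀ x, f x = f .d := by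
    have hc : f .c = f .d := hadj _ _ (by decide)
    have hb : f .b = f .d := (hadj _ _ (by decide)).trans hc
    have ha : f .a = f .d := (hadj _ _ (by decide)).trans hb
    have hk : f .k = f .d := (hadj _ _ (by decide)).trans ha
    have hl : f .l = f .d := (hadj _ _ (by decide)).trans hk
    have he : f .e = f .d := hadj _ _ (by decide)
    have hff : f .f = f .d := (hadj _ _ (by decide)).trans he
    have hg : f .g = f .d := (hadj _ _ (by decide)).trans hff
    have hj : f .j = f .d := (hadj _ _ (by decide)).trans hg
    have hh : f .h = f .d := hadj _ _ (by decide)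
    have hi : f .i = f .d := (hadj _ _ (by decide)).trans hh
    intro x; cases x <;> first | rfl | assumption
  let φ : Multiplicative (ZMod 2) := Multiplicative.ofAdd 1
  have hrel : ∀ r ∈ Spor.coxRelators Spor.Fi24.edges ∪ {r | r ∈ Spor.Fi24.extra},
      FreeGroup.lift (fun _ => φ) r = 1 := by
    rintro r (⟨x, -, y, -, rfl⟩ | hr)
    · simp only [map_pow, map_mul, FreeGroup.lift_apply_of]
      have : φ * φ = 1 := by decide
      rw [this, one_pow]
    · simp only [Spor.Fi24.extra, Set.mem_ofPred_eq, List.mem_cons, List.not_mem_nil, or_false] at hr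
      rcases hr with rfl | rfl <;>
        simp only [map_pow, map_mul, map_inv, FreeGroup.lift_apply_of] <;> decide
  set ψ := Abelianization.lift (PresentedGroup.toGroup hrel) with hψ
  have hd : ψ (f .d) = φ := by simp [hψ, hf]
  have hgen : ∀ z : Abelianization Spor.Fi24, z = 1 ∨ z = f .d := by
    intro z
    induction z using QuotientGroup.induction_on with
    | _ w =>
      refine Subgroup.closure_induction (k := Set.range (PresentedGroup.of (rels := Spor.coxRelators Spor.Fi24.edges ∪ {r | r ∈ Spor.Fi24.extra})))
        (p := fun w _ => Abelianization.of w = 1 ∨ Abelianization.of w = f .d)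
        ?_ ?_ ?_ ?_ (x := w) ?_
      · rintro _ ⟨x, rfl⟩; exact Or.inr (hall x)
      · exact Or.inl (map_one _)
      · rintro u v - - (hu | hu) (hv | hv) <;> simp [map_mul, hu, hv, hsq]
      · rintro u - (hu | hu) <;> simp [map_inv, hu, inv_eq_of_mul_eq_one_right (hsq _)]
      · rw [PresentedGroup.closure_range_of]; trivial
  have hne : (1 : Abelianization Spor.Fi24) ≠ f .d := fun h => by
    have h2 := congrArg ψ h
    rw [hd, map_one] at h2
    revert h2; decide
  have huniv : ({1, f .d} : Set (Abelianization Spor.Fi24)) = Set.univ :=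
    Set.eq_univ_of_forall fun z => by simpa using hgen z
  rw [Subgroup.index_eq_card]
  change Nat.card (Abelianization Spor.Fi24) = 2
  rw [← Set.ncard_univ, ← huniv, Set.ncard_pair hne]

end Cfsg.Agent.S1691
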