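import Cfsg.Statements.S1693
import Cfsg.Agent.Coset.ON.Closure
import Cfsg.Agent.Coset.ON.Index

set_option autoImplicit false
open Cfsg

namespace Cfsg.Agent.S1693

/-- In the presented O'Nan group, the subgroup H generated by the images of a, …, f has a normal subgroup of index 2 isomorphic to PSL(3, 7). -/
theorem result : ∃ N : Subgroup (((Subgroup.closure ({Cfsg.Spor.ON.a, Cfsg.Spor.ON.b, Cfsg.Spor.ON.c, Cfsg.Spor.ON.d, Cfsg.Spor.ON.e, Cfsg.Spor.ON.f} : Set (FreeGroup Cfsg.Spor.ON.Gen))).map (PresentedGroup.mk (Cfsg.Spor.coxRelators Cfsg.Spor.ON.edges ∪ {r | r ∈ Cfsg.Spor.ON.extra})))), N.Normal ∧ N.index = 2 ∧ Nonempty (N ≃* Matrix.ProjectiveSpecialLinearGroup (Fin 3) (ZMod 7)) := by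
  rw [CfsgLib.Coset.ON.mk_six]
  obtain ⟨e⟩ := CfsgLib.Coset.ON.Six.nonempty_equiv
  let f : CfsgLib.Coset.ON.Six.P ≃* CfsgLib.Coset.ON.H := CfsgLib.Coset.ON.equivH
  have hidx : (CfsgLib.Coset.ON.Six.N.map (f : CfsgLib.Coset.ON.Six.P →* CfsgLib.Coset.ON.H)).index = 2 :=
    (Subgroup.index_map_equiv CfsgLib.Coset.ON.Six.N f).trans CfsgLib.Coset.ON.Six.index_N
  exact ⟨_, Subgroup.normal_of_index_eq_two hidx, hidx,
    ⟨(f.subgroupMap CfsgLib.Coset.ON.Six.N).symm.trans e⟩⟩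

end Cfsg.Agent.S1693
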