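import Cfsg.Statements.S1717
-- import your own Cfsg.Agent.* helpers here

set_option autoImplicit false
open Cfsg

namespace Cfsg.Agent.S1717

/-- Position of an index in the ordering 0, 2, 3, 4, 1. -/
def pos : Fin 5 → Fin 5 := ![0, 4, 1, 2, 3]

/-- Upper unitriangular for the ordering `pos`. -/
def IsUT (M : Matrix (Fin 5) (Fin 5) (ZMod 2)) : Prop :=
  (∀ i, M i i = 1) ∧ ∀ i j, pos j < pos i → M i j = 0

lemma pos_inj : Function.Injective pos := by decide

lemma isUT_one : IsUT 1 := by
  refine ⟨fun i => Matrix.one_apply_eq i, fun i j h => Matrix.one_apply_ne ?_⟩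
  exact fun e => absurd (e ▸ h) (lt_irrefl _)

lemma isUT_mul {M N : Matrix (Fin 5) (Fin 5) (ZMod 2)} (hM : IsUT M) (hN : IsUT N) : IsUT (M * N) := by
  constructor
  · intro i
    rw [Matrix.mul_apply, Finset.sum_eq_single i]
    · rw [hM.1, hN.1, one_mul]
    · intro k _ hk
      rcases lt_or_gt_of_ne (fun h => hk (pos_inj h)) with h | h
      · rw [hM.2 i k h, zero_mul]
      · rw [hN.2 k i h, mul_zero]
    · simp
  · intro i j hij
    rw [Matrix.mul_apply, Finset.sum_eq_zero]
    intro k _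
    rcases lt_or_ge (pos k) (pos i) with h | h
    · rw [hM.2 i k h, zero_mul]
    · rw [hN.2 k j (lt_of_lt_of_le hij h), mul_zero]

lemma isUT_pow {M : Matrix (Fin 5) (Fin 5) (ZMod 2)} (hM : IsUT M) (n : ℕ) : IsUT (M ^ n) := by
  induction n with
  | zero => rw [pow_zero]; exact isUT_one
  | succ n ih => rw [pow_succ]; exact isUT_mul ih hM

lemma isUT_pow_eight {M : Matrix (Fin 5) (Fin 5) (ZMod 2)} (hM : IsUT M) : M ^ 8 = 1 := by
  have h2 : ∀ a : Matrix (Fin 5) (Fin 5) (ZMod 2), a + a = 0 := fun a => by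
    ext i j; exact CharTwo.add_self_eq_zero _
  have hlow : ∀ k : ℕ, ∀ i j, (pos j : ℕ) < (pos i : ℕ) + k → ((M + 1) ^ k) i j = 0 := by
    intro k
    induction k with
    | zero =>
      intro i j hij
      rw [pow_zero, Matrix.one_apply_ne]
      intro h; subst h; simp at hij
    | succ k ih =>
      intro i j hij
      rw [pow_succ, Matrix.mul_apply, Finset.sum_eq_zero]
      intro l _
      by_cases hl : (pos l : ℕ) < (pos i : ℕ) + k
      · rw [ih i l hl, zero_mul]
      · by_cases hlj : l = j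
        · subst hlj
          rw [Matrix.add_apply, Matrix.one_apply_eq, hM.1, CharTwo.add_self_eq_zero, mul_zero]
        · have : pos j < pos l := by
            have hne : (pos j : ℕ) ≠ pos l := fun h => hlj (pos_inj (Fin.ext h)).symm
            exact Fin.lt_def.mpr (by omega)
          rw [Matrix.add_apply, Matrix.one_apply_ne hlj, hM.2 l j this, add_zero, mul_zero]
  have h8 : (M + 1) ^ 8 = 0 := by
    ext i j
    exact hlow 8 i j (by omega)
  have hsq : ∀ A : Matrix (Fin 5) (Fin 5) (ZMod 2), (A + 1) ^ 2 = A ^ 2 + 1 := fun A => by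
    have e : (A + 1) ^ 2 = A ^ 2 + (A + A) + 1 := by noncomm_ring
    rw [e, h2, add_zero]
  rw [show (8 : ℕ) = 2 * 2 * 2 from rfl, pow_mul, pow_mul, hsq, hsq, hsq, ← pow_mul, ← pow_mul] at h8
  have h9 := congrArg (· + (1 : Matrix (Fin 5) (Fin 5) (ZMod 2))) h8
  simpa [add_assoc, h2] using h9

lemma isUT_transvection {i j : Fin 5} (h : pos i < pos j) :
    IsUT (Matrix.transvection i j (1 : ZMod 2)) := by
  have hij : i ≠ j := fun e => absurd (e ▸ h) (lt_irrefl _)
  constructor
  · intro k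
    have : ¬ (i = k ∧ j = k) := fun e => hij (e.1.trans e.2.symm)
    simp [Matrix.transvection, Matrix.single_apply, this]
  · intro k l hkl
    have h1 : ¬ (i = k ∧ j = l) := fun e => absurd h (not_lt.mpr (e.1 ▸ e.2 ▸ hkl).le)
    have h2 : k ≠ l := fun e => absurd (e ▸ hkl) (lt_irrefl _)
    simp [Matrix.transvection, Matrix.single_apply, h1, Matrix.one_apply_ne h2]

/-- The transvection `1 + e_ij`. -/
def tv (i j : Fin 5) (h : pos i < pos j) : Matrix.SpecialLinearGroup (Fin 5) (ZMod 2) :=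
  ⟨Matrix.transvection i j 1,
    Matrix.det_transvection_of_ne i j (fun e => absurd (e ▸ h) (lt_irrefl _)) 1⟩

open Matrix in
lemma centre_of_centraliser (s : SpecialLinearGroup (Fin 5) (ZMod 2))
    (hs : (s : Matrix (Fin 5) (Fin 5) (ZMod 2)) = transvection 0 1 1)
    (g : SpecialLinearGroup (Fin 5) (ZMod 2))
    (hg : ∀ i j (h : pos i < pos j), Commute g (tv i j h)) : g = 1 ∨ g = s := by
  obtain ⟨a, ha⟩ : ∃ a, a = (g : Matrix (Fin 5) (Fin 5) (ZMod 2)) := ⟨_, rfl⟩
  have he : ∀ i j (_ : pos i < pos j) (k l : Fin 5),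
      (a * Matrix.single i j (1 : ZMod 2)) k l = (Matrix.single i j (1 : ZMod 2) * a) k l := by
    intro i j h k l
    have h0 : a * transvection i j (1 : ZMod 2) = transvection i j (1 : ZMod 2) * a := by
      rw [ha]; exact congrArg Subtype.val (hg i j h).eq
    simp only [transvection, mul_add, add_mul, mul_one, one_mul, add_right_inj] at h0
    rw [h0]
  have hoff : ∀ i j, pos i < pos j → ∀ k, (k ≠ i → a k i = 0) ∧ (k ≠ j → a j k = 0) ∧ a i i = a j j := by
    intro i j h k
    refine ⟨fun hk => ?_, fun hk => ?_, ?_⟩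
    · simpa [mul_apply, single_apply, hk, Ne.symm hk] using he i j h k j
    · simpa [mul_apply, single_apply, hk, Ne.symm hk] using (he i j h i k).symm
    · simpa [mul_apply, single_apply] using he i j h i j
  have z : ∀ k l : Fin 5, k ≠ l → ¬ (k = 0 ∧ l = 1) → a k l = 0 := by
    intro k l hkl hn
    by_cases hl : l = 1
    · have hk0 : k ≠ 0 := fun e => hn ⟨e, hl⟩
      have : pos 0 < pos k := (by decide : ∀ k : Fin 5, k ≠ 0 → pos 0 < pos k) k hk0
      exact (hoff 0 k this l).2.1 hkl.symm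
    · have : pos l < pos 1 := (by decide : ∀ l : Fin 5, l ≠ 1 → pos l < pos 1) l hl
      exact (hoff l 1 this k).1 hkl
  have d : ∀ k, a k k = a 1 1 := by
    intro k
    by_cases hk : k = 1
    · rw [hk]
    · have : pos k < pos 1 := by revert hk; revert k; decide
      exact (hoff k 1 this k).2.2
  have h11 : a 1 1 ≠ 0 := by
    intro h
    have hdet := g.2
    rw [← ha, det_eq_zero_of_row_eq_zero (A := a) (1 : Fin 5)] at hdet
    · exact zero_ne_one hdet
    · intro l
      by_cases hl : l = 1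
      · subst hl; exact h
      · exact z 1 l (Ne.symm hl) (by rintro ⟨h, -⟩; exact absurd h (by decide))
  have h1 : a 1 1 = 1 := by revert h11; generalize a 1 1 = x; revert x; decide
  have h01 : a 0 1 = 0 ∨ a 0 1 = 1 := by generalize a 0 1 = x; revert x; decide
  rcases h01 with h01 | h01
  · left
    apply Subtype.ext
    ext k l
    show (g : Matrix (Fin 5) (Fin 5) (ZMod 2)) k l = (1 : Matrix (Fin 5) (Fin 5) (ZMod 2)) k l
    rw [← ha]
    by_cases hkl : k = l
    · subst hkl; simp [d k, h1]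
    · by_cases hn : k = 0 ∧ l = 1
      · obtain ⟨rfl, rfl⟩ := hn; simp [h01]
      · simp [z k l hkl hn, one_apply_ne hkl]
  · right
    apply Subtype.ext
    ext k l
    show (g : Matrix (Fin 5) (Fin 5) (ZMod 2)) k l = (s : Matrix (Fin 5) (Fin 5) (ZMod 2)) k l
    rw [hs, ← ha]
    by_cases hkl : k = l
    · subst hkl
      have hh : ¬ ((0 : Fin 5) = k ∧ 1 = k) := fun e => by
        have := e.1.trans e.2.symm; exact absurd this (by decide)
      simp [d k, h1, transvection, single_apply, hh]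
    · by_cases hn : k = 0 ∧ l = 1
      · obtain ⟨rfl, rfl⟩ := hn; simp [h01, transvection, single_apply]
      · have hn' : ¬ ((0 : Fin 5) = k ∧ 1 = l) := fun e => hn ⟨e.1.symm, e.2.symm⟩
        simp [z k l hkl hn, transvection, single_apply, hn', one_apply_ne hkl]

open Matrix in
lemma tv_mem_centralizer (s : SpecialLinearGroup (Fin 5) (ZMod 2))
    (hs : (s : Matrix (Fin 5) (Fin 5) (ZMod 2)) = transvection 0 1 1)
    (i j : Fin 5) (h : pos i < pos j) : tv i j h ∈ Subgroup.centralizer {s} := by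
  rw [Subgroup.mem_centralizer_singleton_iff]
  have h1 : i ≠ 1 := fun e => by subst e; revert h; revert j; decide
  have h0 : j ≠ 0 := fun e => by subst e; revert h; revert i; decide
  apply Subtype.ext
  show transvection i j (1 : ZMod 2) * (s : Matrix (Fin 5) (Fin 5) (ZMod 2))
    = (s : Matrix (Fin 5) (Fin 5) (ZMod 2)) * transvection i j (1 : ZMod 2)
  simp [hs, transvection, mul_add, add_mul, single_mul_single_of_ne, h0, Ne.symm h1]
  abel

/-- The unitriangular subgroup of the centraliser of `s`. -/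
def utSub (s : Matrix.SpecialLinearGroup (Fin 5) (ZMod 2)) :
    Subgroup (Subgroup.centralizer ({s} : Set (Matrix.SpecialLinearGroup (Fin 5) (ZMod 2)))) where
  carrier := {g | IsUT ((g : Matrix.SpecialLinearGroup (Fin 5) (ZMod 2)) : Matrix (Fin 5) (Fin 5) (ZMod 2))}
  one_mem' := isUT_one
  mul_mem' := fun ha hb => isUT_mul ha hb
  inv_mem' := fun {a} ha => by
    have h8 : a ^ 8 = 1 := Subtype.ext (Subtype.ext (isUT_pow_eight ha))
    rw [inv_eq_of_mul_eq_one_right (show a * a ^ 7 = 1 by rw [← pow_succ']; exact h8)]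
    exact isUT_pow ha 7

lemma exists_sylow_small_centre (s : Matrix.SpecialLinearGroup (Fin 5) (ZMod 2))
    (hs : (s : Matrix (Fin 5) (Fin 5) (ZMod 2)) = Matrix.transvection 0 1 1) :
    ∃ S : Sylow 2 (Subgroup.centralizer ({s} : Set (Matrix.SpecialLinearGroup (Fin 5) (ZMod 2)))),
      ∀ g, (∀ u ∈ S, u * g = g * u) →
        g = 1 ∨ (g : Matrix.SpecialLinearGroup (Fin 5) (ZMod 2)) = s := by
  haveI : Fact (Nat.Prime 2) := ⟨Nat.prime_two⟩
  have hU : IsPGroup 2 (utSub s) := fun u =>
    ⟨3, Subtype.ext (Subtype.ext (Subtype.ext (isUT_pow_eight u.2)))⟩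
  obtain ⟨S, hUS⟩ := hU.exists_le_sylow
  refine ⟨S, fun g hg => ?_⟩
  rcases centre_of_centraliser s hs g (fun i j h => by
    have hmem : (⟨_, tv_mem_centralizer s hs i j h⟩ :
        Subgroup.centralizer ({s} : Set (Matrix.SpecialLinearGroup (Fin 5) (ZMod 2)))) ∈ utSub s :=
      isUT_transvection h
    exact (congrArg Subtype.val (hg _ (hUS hmem))).symm) with h | h
  · exact Or.inl (Subtype.ext h)
  · exact Or.inr h

lemma mul_sylow_centre_unique {C D : Type*} [Group C] [Group D] [Finite D] (e : C ≃* D)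
    (S : Sylow 2 D) (d : D) (hS : ∀ g, (∀ u ∈ S, u * g = g * u) → g = 1 ∨ g = d)
    (T : Sylow 2 C) (g h : C) (hg1 : g ≠ 1) (hh1 : h ≠ 1)
    (hg : ∀ u ∈ T, u * g = g * u) (hh : ∀ u ∈ T, u * h = h * u) : g = h := by
  haveI : Fact (Nat.Prime 2) := ⟨Nat.prime_two⟩
  haveI : Finite C := Finite.of_equiv D e.symm.toEquiv
  set T' : Sylow 2 D := T.mapSurjective (f := e.toMonoidHom) e.surjective
  obtain ⟨c, hc⟩ := MulAction.exists_smul_eq D S T'
  have key : ∀ g : C, g ≠ 1 → (∀ u ∈ T, u * g = g * u) → c⁻¹ * e g * c = d := by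
    intro g hg1 hg
    refine (hS _ fun u hu => ?_).resolve_left fun h2 => hg1 ?_
    · have hu' : c * u * c⁻¹ ∈ T' := by
        rw [← hc, Sylow.smul_def]
        exact ⟨u, hu, by simp⟩
      obtain ⟨x, hx, hxe⟩ := hu'
      have h2 : e x = c * u * c⁻¹ := hxe
      have h3 := congrArg e (hg x hx)
      rw [map_mul, map_mul, h2] at h3
      calc u * (c⁻¹ * e g * c) = c⁻¹ * (c * u * c⁻¹ * e g) * c := by group
        _ = c⁻¹ * (e g * (c * u * c⁻¹)) * c := by rw [h3]
        _ = (c⁻¹ * e g * c) * u := by group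
    · apply e.injective
      rw [map_one]
      calc e g = c * (c⁻¹ * e g * c) * c⁻¹ := by group
        _ = 1 := by rw [h2]; group
  apply e.injective
  have := (key g hg1 hg).trans (key h hh1 hh).symm
  simpa using this

lemma main {G : Type*} [Group G] [Finite G] (s : Matrix.SpecialLinearGroup (Fin 5) (ZMod 2))
    (hs : (s : Matrix (Fin 5) (Fin 5) (ZMod 2)) = Matrix.transvection 0 1 1) (z : G) (hz : orderOf z = 2)
    (C : Subgroup G) (hC : C = Subgroup.centralizer {z})
    (e : C ≃* Subgroup.centralizer ({s} : Set (Matrix.SpecialLinearGroup (Fin 5) (ZMod 2))))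
    (T : Sylow 2 C) : ¬ 2 ∣ ((T : Subgroup C).map C.subtype).index := by
  classical
  haveI : Fact (Nat.Prime 2) := ⟨Nat.prime_two⟩
  obtain ⟨S, hS⟩ := exists_sylow_small_centre s hs
  have hsD : s ∈ Subgroup.centralizer ({s} : Set (Matrix.SpecialLinearGroup (Fin 5) (ZMod 2))) := by
    rw [Subgroup.mem_centralizer_singleton_iff]
  have huniq := mul_sylow_centre_unique e S ⟨s, hsD⟩
    (fun g hg => (hS g hg).imp_right Subtype.ext) T
  have hzC : z ∈ C := by rw [hC, Subgroup.mem_centralizer_singleton_iff]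
  have hz1 : z ≠ 1 := by intro h; simp [h] at hz
  set zc : C := ⟨z, hzC⟩
  have hzcomm : ∀ u : C, u * zc = zc * u :=
    fun u => Subtype.ext (Subgroup.mem_centralizer_singleton_iff.mp (hC.le u.2))
  have hzT : zc ∈ (T : Subgroup C) := by
    have hN : (Subgroup.zpowers zc).Normal := ⟨fun x hx g => by
      obtain ⟨m, rfl⟩ := hx
      refine ⟨m, ?_⟩
      simp only []
      rw [((show Commute g zc from hzcomm g).zpow_right m).eq, mul_inv_cancel_right]⟩
    have hP : IsPGroup 2 (Subgroup.zpowers zc) := IsPGroup.of_card (n := 1) (by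
      rw [Nat.card_zpowers, Subgroup.orderOf_mk, hz, pow_one])
    have h1 := T.3 (IsPGroup.to_sup_of_normal_right T.isPGroup' hP) le_sup_left
    rw [← h1]
    exact Subgroup.mem_sup_right (Subgroup.mem_zpowers _)
  set R := (T : Subgroup C).map C.subtype
  obtain ⟨P, hRP⟩ := (T.isPGroup'.map C.subtype).exists_le_sylow
  suffices h : R = P by
    show ¬ 2 ∣ R.index
    rw [h]; exact P.not_dvd_index
  by_contra hne
  haveI : Group.IsNilpotent (P : Subgroup G) := P.isPGroup'.isNilpotent
  have hlt : R.subgroupOf P < ⊤ :=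
    lt_top_iff_ne_top.mpr fun h => hne (le_antisymm hRP (Subgroup.subgroupOf_eq_top.mp h))
  obtain ⟨n, hn, hnR⟩ := SetLike.exists_of_lt (Group.normalizerCondition_of_isNilpotent _ hlt)
  rw [Subgroup.mem_normalizer_iff] at hn
  set m : G := (n : G)
  have hw : ∀ y, y ∈ R → m * y * m⁻¹ ∈ R := by
    intro y hy
    have := (hn ⟨y, hRP hy⟩).mp hy
    simpa [Subgroup.mem_subgroupOf] using this
  have hw' : ∀ y, y ∈ R → m⁻¹ * y * m ∈ R := by
    intro y hy
    have hyP : m⁻¹ * y * m ∈ (P : Subgroup G) :=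
      P.1.mul_mem (P.1.mul_mem (P.1.inv_mem n.2) (hRP hy)) n.2
    refine (hn ⟨_, hyP⟩).mpr ?_
    simp [Subgroup.mem_subgroupOf, m, mul_assoc]
    exact hy
  obtain ⟨w, hwT, hwe⟩ := hw z ⟨zc, hzT, rfl⟩
  simp only [Subgroup.coe_subtype] at hwe
  have hwc : ∀ u ∈ T, u * w = w * u := by
    intro u hu
    obtain ⟨v, -, hve⟩ := hw' _ ⟨u, hu, rfl⟩
    simp only [Subgroup.coe_subtype] at hve
    have hvz : (v : G) * z = z * v := Subgroup.mem_centralizer_singleton_iff.mp (hC.le v.2)
    rw [hve] at hvz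
    apply Subtype.ext
    simp only [Subgroup.coe_mul, hwe]
    calc (u : G) * (m * z * m⁻¹) = m * (m⁻¹ * u * m * z) * m⁻¹ := by group
      _ = m * (z * (m⁻¹ * u * m)) * m⁻¹ := by rw [hvz]
      _ = m * z * m⁻¹ * u := by group
  have hw1 : w ≠ 1 := by
    intro h; rw [h, Subgroup.coe_one] at hwe
    apply hz1
    calc z = m⁻¹ * (m * z * m⁻¹) * m := by group
      _ = 1 := by rw [← hwe]; group
  have hwz := huniq w zc hw1 (fun h => hz1 (congrArg Subtype.val h)) hwc (fun u _ => hzcomm u)
  rw [hwz] at hwe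
  have hmC : m ∈ C := by
    rw [hC, Subgroup.mem_centralizer_singleton_iff]
    calc m * z = m * z * m⁻¹ * m := by group
      _ = z * m := by rw [← hwe]
  apply hnR
  rw [Subgroup.mem_subgroupOf]
  have h3 := T.3 (Q := (P : Subgroup G).subgroupOf C)
    (P.isPGroup'.comap_of_injective C.subtype C.subtype_injective) (fun x hx => hRP ⟨x, hx, rfl⟩)
  exact ⟨⟨m, hmC⟩, h3 ▸ (show (⟨m, hmC⟩ : C) ∈ (P : Subgroup G).subgroupOf C from n.2), rfl⟩


/-- Let G be a finite group with an involution z whose centraliser C is isomorphic to the centraliser of a transvection of SL(5, 2). Then a Sylow 2-subgroup of C, viewed in G, is a Sylow 2-subgroup of G (its index in G is odd). -/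
theorem result {G : Type*} [Group G] [Finite G] (s : Matrix.SpecialLinearGroup (Fin 5) (ZMod 2)) (hs : (s : Matrix (Fin 5) (Fin 5) (ZMod 2)) = Matrix.transvection 0 1 1) (z : G) (hz : orderOf z = 2) (e : (Subgroup.centralizer ({z} : Set G)) ≃* Subgroup.centralizer ({s} : Set (Matrix.SpecialLinearGroup (Fin 5) (ZMod 2)))) (T : Sylow 2 (Subgroup.centralizer ({z} : Set G))) : ¬ 2 ∣ ((T : Subgroup (Subgroup.centralizer ({z} : Set G))).map (Subgroup.subtype (Subgroup.centralizer ({z} : Set G)))).index := by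
  exact main s hs z hz _ rfl e T

end Cfsg.Agent.S1717
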