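import Cfsg.Statements.S1719
import Cfsg.Agent.SuzIso.Main

set_option autoImplicit false
open Cfsg

namespace Cfsg.Agent.S1719

/-- Uniqueness of the sporadic Suzuki group under the large-extraspecial hypothesis: let G be a finite group with an involution z whose centraliser C has generalised Fitting subgroup Q extraspecial of order 2 ^ 7, with C / Q isomorphic to Ω⁻(6, 2) (the commutator subgroup of the isometry group of the elliptic quadratic form x₁y₁ + x₂y₂ + z₁² + z₁z₂ + z₂² over the field with 2 elements), and suppose some conjugate of z different from z lies in Q. Then G is isomorphic to the presented sporadic Suzuki group. -/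
theorem result {G : Type*} [Group G] [Finite G] (z : G) (hz : orderOf z = 2) (Q : Subgroup (Subgroup.centralizer ({z} : Set G))) [Q.Normal] (hF : Cfsg.generalizedFittingSubgroup (Subgroup.centralizer ({z} : Set G)) = Q) (hQ : Cfsg.IsExtraspecial 2 Q) (hcard : Nat.card Q = 2 ^ 7) (e : (Subgroup.centralizer ({z} : Set G)) ⧸ Q ≃* Cfsg.Omega (ZMod 2) (Cfsg.quadFormMinus 2 (ZMod 2) 1 1)) (hnwc : ∃ g : G, (∃ hq : g * z * g⁻¹ ∈ Subgroup.centralizer ({z} : Set G), (⟨g * z * g⁻¹, hq⟩ : Subgroup.centralizer ({z} : Set G)) ∈ Q) ∧ g * z * g⁻¹ ≠ z) : Cfsg.Spor.IsoSuz G := by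
  classical
  obtain ⟨g₀, ⟨hq₀, hmem₀⟩, hne₀⟩ := hnwc
  obtain ⟨D, hD⟩ := CfsgLib.SuzInvol.exists_dat hz Q hF hQ hcard e
  have hg₀ : g₀ * z * g₀⁻¹ ∈ D.Q := by rw [hD]; exact ⟨⟨_, hq₀⟩, hmem₀, rfl⟩
  obtain ⟨Bb⟩ := CfsgLib.SuzInvol.exists_base D hg₀ hne₀
  obtain ⟨c, hc⟩ := D.act_surj (CfsgLib.SuzThree.oW CfsgLib.SuzThree.w0)
    ((CfsgLib.SuzThree.parity_mem CfsgLib.SuzThree.okL_small.1).2 (by decide))
  have h3 : (D.act c) ^ 3 = 1 := by
    rw [hc, pow_succ, pow_succ, pow_one, ← CfsgLib.SuzThree.oW_append, ← CfsgLib.SuzThree.oW_append,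
      ← CfsgLib.SuzThree.oW_nil]
    exact CfsgLib.SuzThree.oW_eq (by simp [CfsgLib.SuzThree.okL_small.1, CfsgLib.SuzThree.okL_append]) rfl
      (by decide +kernel)
  have hQ3 : ((c : G)) ^ 3 ∈ D.Q := by
    have := (D.act_eq_one (c ^ 3)).1 (by rw [map_pow, h3])
    simpa using this
  have h384 : ((c : G) ^ 3) ^ 128 = 1 := CfsgLib.SuzThree.pow_Q hQ3
  have T : CfsgLib.SuzThree.Three D ((c : G) ^ 256) := by
    refine ⟨pow_mem c.2 _, ?_, ?_, g₀, hg₀, hne₀⟩
    · rw [← pow_mul, show 256 * 3 = 3 * 128 * 2 by norm_num, pow_mul, pow_mul, h384, one_pow]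
    · rw [CfsgLib.SuzThree.actG_pow D c.2, CfsgLib.SuzThree.actG_eq D c.2, show 256 = 3 * 85 + 1 by norm_num,
        pow_succ, pow_mul, h3, one_pow, one_mul, hc]
  obtain ⟨t, hS⟩ := CfsgLib.SuzSeven.exists_seed T Bb
  obtain ⟨π, Ps⟩ := CfsgLib.SuzEleven.exists_pi T
  exact CfsgLib.SuzIso.iso_suz T hS Ps

end Cfsg.Agent.S1719
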