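import Cfsg.Statements.S1722
import Cfsg.Agent.HJT.Five

set_option autoImplicit false
open Cfsg

namespace Cfsg.Agent.S1722

/-- Sylow 5-structure of a group of Hall–Janko type (large-extraspecial hypothesis with Q of order 32, quotient Ω⁻(4, 2), z not weakly closed in Q, more than one class of involutions): a Sylow 5-subgroup P is its own centraliser, has order 25, its normaliser has order 300, and the subgroups of order 5 fall into exactly two conjugacy classes. -/
theorem result {G : Type*} [Group G] [Finite G] (z : G) (hz : orderOf z = 2) (Q : Subgroup (Subgroup.centralizer ({z} : Set G))) [Q.Normal] (hF : Cfsg.generalizedFittingSubgroup (Subgroup.centralizer ({z} : Set G)) = Q) (hQ : Cfsg.IsExtraspecial 2 Q) (hcard : Nat.card Q = 2 ^ 5) (e : (Subgroup.centralizer ({z} : Set G)) ⧸ Q ≃* Cfsg.Omega (ZMod 2) (Cfsg.quadFormMinus 1 (ZMod 2) 1 1)) (hnwc : ∃ g : G, (∃ hq : g * z * g⁻¹ ∈ Subgroup.centralizer ({z} : Set G), (⟨g * z * g⁻¹,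 hq⟩ : Subgroup.centralizer ({z} : Set G)) ∈ Q) ∧ g * z * g⁻¹ ≠ z) (hcl : ∃ x y : G, orderOf x = 2 ∧ orderOf y = 2 ∧ ¬ IsConj x y) (P : Sylow 5 G) : Subgroup.centralizer ((P : Subgroup G) : Set G) = P ∧ Nat.card P = 25 ∧ Nat.card (Subgroup.normalizer ((P : Subgroup G) : Set G)) = 300 ∧ ∃ X Y : Subgroup G, Nat.card X = 5 ∧ Nat.card Y = 5 ∧ (∀ g : G, X.map (MulAut.conj g).toMonoidHom ≠ Y) ∧ ∀ W : Subgroup G, Nat.card W = 5 → ∃ g : G, W.map (MulAut.conj g).toMonoidHom = X ∨ W.map (MulAut.conj g).toMonoidHom = Y := by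
  obtain ⟨Qg, a, π, L⟩ := CfsgLib.HJT.exists_loc z hz Q hF hQ hcard e hnwc hcl
  obtain ⟨hN, v₁, v₂, h₁, h₂, -, -, hd, hall⟩ := L.five_main P
  have hp : Nat.Prime 5 := by norm_num
  refine ⟨L.cent_sylow_five P, L.card_sylow_five P, hN, Subgroup.zpowers v₁, Subgroup.zpowers v₂,
    by rw [Nat.card_zpowers, h₁], by rw [Nat.card_zpowers, h₂], fun g h => ?_, fun W hW => ?_⟩
  · have hmem : g * v₁ * g⁻¹ ∈ Subgroup.zpowers v₂ := h ▸ ⟨v₁, Subgroup.mem_zpowers v₁, rfl⟩
    exact hd g v₁ (Subgroup.mem_zpowers v₁) (fun e => by rw [e, orderOf_one] at h₁; norm_num at h₁) hmem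
  · haveI : Fact (Nat.card W).Prime := ⟨hW ▸ hp⟩
    haveI : Nontrivial W := Finite.one_lt_card_iff_nontrivial.1 (by rw [hW]; norm_num)
    obtain ⟨b, hb⟩ := exists_ne (1 : W)
    have hb1 : (b : G) ≠ 1 := fun e => hb (Subtype.ext e)
    have hb5 : orderOf (b : G) = 5 := by
      rcases (Nat.dvd_prime hp).1 (hW ▸ Subgroup.orderOf_dvd_natCard W b.2) with e | e
      · exact absurd (orderOf_eq_one_iff.1 e) hb1
      · exact e
    obtain ⟨g, hg⟩ := hall b hb5
    have key : ∀ v : G, orderOf v = 5 → g * (b : G) * g⁻¹ ∈ Subgroup.zpowers v →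
        W.map (MulAut.conj g).toMonoidHom = Subgroup.zpowers v := by
      intro v hv hmem
      have hWb : Subgroup.zpowers (b : G) = W :=
        Subgroup.eq_of_le_of_card_ge (Subgroup.zpowers_le.2 b.2) (by rw [hW, Nat.card_zpowers, hb5])
      rw [← hWb, MonoidHom.map_zpowers]
      refine CfsgLib.HJT.zpowers_eq_of_mem hp hv hmem fun e => hb1 ?_
      exact mul_eq_left.1 (mul_inv_eq_one.1 e)
    exact ⟨g, hg.imp (key v₁ h₁) (key v₂ h₂)⟩

end Cfsg.Agent.S1722
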