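import Cfsg.Statements.S1723
import Cfsg.Agent.HJT.Three
import Cfsg.Agent.LocalB.QdSylow

set_option autoImplicit false
open Cfsg

namespace Cfsg.Agent.S1723

/-- Sylow 3-structure of a group of Hall–Janko type (large-extraspecial hypothesis with Q of order 32, quotient Ω⁻(4, 2), z not weakly closed in Q, more than one class of involutions): a Sylow 3-subgroup P is extraspecial of order 27, its normaliser has order 216, and the elements of order 3 form exactly two conjugacy classes. -/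
theorem result {G : Type*} [Group G] [Finite G] (z : G) (hz : orderOf z = 2) (Q : Subgroup (Subgroup.centralizer ({z} : Set G))) [Q.Normal] (hF : Cfsg.generalizedFittingSubgroup (Subgroup.centralizer ({z} : Set G)) = Q) (hQ : Cfsg.IsExtraspecial 2 Q) (hcard : Nat.card Q = 2 ^ 5) (e : (Subgroup.centralizer ({z} : Set G)) ⧸ Q ≃* Cfsg.Omega (ZMod 2) (Cfsg.quadFormMinus 1 (ZMod 2) 1 1)) (hnwc : ∃ g : G, (∃ hq : g * z * g⁻¹ ∈ Subgroup.centralizer ({z} : Set G), (⟨g * z * g⁻¹, hq⟩ : Subgroup.centralizer ({z} : Set G)) ∈ Q) ∧ g * z * g⁻¹ ≠ z) (hcl : ∃ x y : G, orderOf x = 2 ∧ orderOf y = 2 ∧ ¬ IsConj x y) (P : Sylow 3 G) : Cfsg.IsExtraspecial 3 (P : Subgroup G) ∧ Nat.card P = 27 ∧ Nat.card (Subgroup.normalizer ((P : Subgroup G) : Set G)) = 216 ∧ ∃ a b : G, orderOf a = 3 ∧ orderOf b = 3 ∧ ¬ IsConj a b ∧ ∀ c : G, orderOf c = 3 → IsConj c a ∨ IsConj c b := by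
  obtain ⟨Qg, a, π, L⟩ := CfsgLib.HJT.exists_loc z hz Q hF hQ hcard e hnwc hcl
  haveI : Fact (Nat.Prime 3) := ⟨Nat.prime_three⟩
  obtain ⟨t, W, M, x, y, D⟩ := L.exists_three_data
  obtain ⟨P₀, hxP, hyP, -, ⟨hexp, hnc⟩, hN, hconj, hinv, hne⟩ := L.three_main D
  obtain ⟨g, rfl⟩ := MulAction.exists_smul_eq G P₀ P
  refine ⟨?_, L.card_sylow_three _, ?_, x, y, D.x3, D.y3, hne, fun c hc => ?_⟩
  · let φ := Sylow.equiv P₀ (g • P₀)
    refine CfsgLib.LocalB.isExtraspecial_of_cube (fun b => ?_) (by rw [L.card_sylow_three]; norm_num) fun h => ?_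
    · obtain ⟨b₀, rfl⟩ := φ.surjective b
      rw [← map_pow, hexp, map_one]
    · exact hnc fun a b => φ.injective (by rw [map_mul, map_mul, h])
  · rw [← hN]
    have h := Subgroup.index_eq_card (Subgroup.normalizer ((g • P₀ : Sylow 3 G) : Set G))
    have e1 := (g • P₀).card_eq_index_normalizer
    have e2 := P₀.card_eq_index_normalizer
    have m1 := (Subgroup.normalizer ((g • P₀ : Sylow 3 G) : Set G)).card_mul_index
    have m2 := (Subgroup.normalizer (P₀ : Set G)).card_mul_index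
    rw [← e1] at m1
    rw [← e2] at m2
    exact Nat.eq_of_mul_eq_mul_right (Nat.card_pos (α := Sylow 3 G)) (m1.trans m2.symm)
  · obtain ⟨P', hP'⟩ := (IsPGroup.of_card (p := 3) (n := 1) (by rw [Nat.card_zpowers, hc, pow_one]) :
      IsPGroup 3 (Subgroup.zpowers c)).exists_le_sylow
    obtain ⟨h, hh⟩ := MulAction.exists_smul_eq G P' P₀
    have hmem : h * c * h⁻¹ ∈ (P₀ : Subgroup G) := hh ▸ ⟨c, hP' (Subgroup.mem_zpowers c), rfl⟩
    have hcc : IsConj c (h * c * h⁻¹) := isConj_iff.2 ⟨h, rfl⟩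
    by_cases hx : h * c * h⁻¹ ∈ Subgroup.zpowers x
    · rcases CfsgLib.HJT.pow_cases_three D.x3 hx with e | e | e
      · exfalso
        have hc1 : c = 1 := mul_eq_left.1 (mul_inv_eq_one.1 e)
        rw [hc1, orderOf_one] at hc
        norm_num at hc
      · exact Or.inl (e ▸ hcc)
      · refine Or.inl ((e ▸ hcc : IsConj c (x ^ 2)).trans ?_)
        have hx3 : x ^ 3 = 1 := orderOf_dvd_iff_pow_eq_one.1 D.x3.dvd
        rw [eq_inv_of_mul_eq_one_left (show x ^ 2 * x = 1 by rw [← pow_succ]; exact hx3)]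
        exact hinv.symm
    · exact Or.inr (hcc.trans (hconj _ hmem hx).symm)

end Cfsg.Agent.S1723
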