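import Cfsg.Statements.S1725
import Cfsg.Agent.SuzEleven.Main
import Cfsg.Agent.SuzThree.Main

set_option autoImplicit false
open Cfsg

namespace Cfsg.Agent.S1725

/-- A 3-local step in the uniqueness proof for the sporadic Suzuki group: let G satisfy the large-extraspecial hypothesis with Q of order 2 ^ 7, quotient Ω⁻(6, 2) and z not weakly closed in Q, and let X be a subgroup of order 3 of the centraliser C of z with the commutator subgroup of Q and X of order 8 and non-abelian (a quaternion group). Then for any Sylow 3-subgroup P of the normaliser of X in G, P is a Sylow 3-subgroup of G (its index in G is prime to 3), and P contains an elementary abelian subgroup A of order 3 ^ 5 with C_G(A) = A and N_G(A) / A isomorphic to the Mathieu group M₁₁. -/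
theorem result {G : Type*} [Group G] [Finite G] (z : G) (hz : orderOf z = 2) (Q : Subgroup (Subgroup.centralizer ({z} : Set G))) [Q.Normal] (hF : Cfsg.generalizedFittingSubgroup (Subgroup.centralizer ({z} : Set G)) = Q) (hQ : Cfsg.IsExtraspecial 2 Q) (hcard : Nat.card Q = 2 ^ 7) (e : (Subgroup.centralizer ({z} : Set G)) ⧸ Q ≃* Cfsg.Omega (ZMod 2) (Cfsg.quadFormMinus 2 (ZMod 2) 1 1)) (hnwc : ∃ g : G, (∃ hq : g * z * g⁻¹ ∈ Subgroup.centralizer ({z} : Set G), (⟨g * z * g⁻¹, hq⟩ : Subgroup.centralizer ({z} : Set G)) ∈ Q) ∧ g * z * g⁻¹ ≠ z) (X : Subgroup (Subgroup.centralizer ({z} : Set G))) (hX : Nat.card X = 3) (hQX : Nat.card ↥⁅Q, X⁆ = 8) (hQXna : ¬ IsMulCommutative ↥⁅Q, X⁆) (P : Sylow 3 ↥(Subgroup.normalizer ((X.map (Subgroup.subtype (Subgroup.centralizer ({z} : Set G))) : Subgroup G) : Set G))) : ¬ 3 ∣ (((P : Subgroup ↥(Subgroup.normalizer ((X.map (Subgroup.subtype (Subgroup.centralizer ({z} : Set G))) : Subgroup G) : Set G))).map (Subgroup.subtype (Subgroup.normalizer ((X.map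 (Subgroup.subtype (Subgroup.centralizer ({z} : Set G))) : Subgroup G) : Set G)))).index) ∧ ∃ A : Subgroup G, A ≤ (P : Subgroup ↥(Subgroup.normalizer ((X.map (Subgroup.subtype (Subgroup.centralizer ({z} : Set G))) : Subgroup G) : Set G))).map (Subgroup.subtype (Subgroup.normalizer ((X.map (Subgroup.subtype (Subgroup.centralizer ({z} : Set G))) : Subgroup G) : Set G))) ∧ Cfsg.IsElementaryAbelian 3 A ∧ Nat.card A = 3 ^ 5 ∧ Subgroup.centralizer (A : Set G) = A ∧ ∃ _ : (A.subgroupOf (Subgroup.normalizer (A : Set G))).Normal, Cfsg.Spor.IsoM11 (↥(Subgroup.normalizer (A : Set G)) ⧸ A.subgroupOf (Subgroup.normalizer (A : Set G))) := by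
  classical
  obtain ⟨g₀, ⟨hq₀, hmem₀⟩, hne₀⟩ := hnwc
  obtain ⟨D, hD⟩ := CfsgLib.SuzInvol.exists_dat hz Q hF hQ hcard e
  haveI : Fact (Nat.Prime 3) := ⟨Nat.prime_three⟩
  haveI : Finite X := inferInstance
  obtain ⟨yC, hyC⟩ : ∃ y : ↥X, y ≠ 1 := by
    by_contra h
    push Not at h
    haveI : Subsingleton X := ⟨fun a b => by rw [h a, h b]⟩
    rw [Nat.card_unique] at hX
    omega
  set y : G := ((yC : Subgroup.centralizer ({z} : Set G)) : G) with hy
  have hy1 : y ≠ 1 := fun h => hyC (Subtype.ext (Subtype.ext h))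
  have hyC' : y ∈ Subgroup.centralizer ({z} : Set G) := (yC : Subgroup.centralizer ({z} : Set G)).2
  have hord : orderOf yC = 3 := orderOf_eq_prime (by rw [← hX]; exact pow_card_eq_one') hyC
  have hy3 : y ^ 3 = 1 := by
    have h : yC ^ 3 = 1 := by rw [← hord]; exact pow_orderOf_eq_one yC
    exact congrArg (fun t : X => ((t : Subgroup.centralizer ({z} : Set G)) : G)) h
  have hYc : X.map (Subgroup.subtype (Subgroup.centralizer ({z} : Set G))) = Subgroup.zpowers y := by
    refine (Subgroup.eq_of_le_of_card_ge ?_ ?_).symm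
    · rw [Subgroup.zpowers_le]
      exact ⟨yC, yC.2, rfl⟩
    · rw [Subgroup.card_map_of_injective (Subgroup.centralizer ({z} : Set G)).subtype_injective, hX,
        Nat.card_zpowers, hy, Subgroup.orderOf_coe, Subgroup.orderOf_coe, hord]
  have hrange : Nat.card (Set.range fun m : CfsgLib.SuzInvol.M6 => (CfsgLib.SuzThree.actG D y).1 m + m) ≤ 8 := by
    set S := ⁅Q, X⁆.map (Subgroup.subtype (Subgroup.centralizer ({z} : Set G))) with hS
    have hSc : Nat.card S = 8 := by
      rw [hS, Subgroup.card_map_of_injective (Subgroup.centralizer ({z} : Set G)).subtype_injective, hQX]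
    have hpre : ∀ m : CfsgLib.SuzInvol.M6, ∃ t ∈ S, D.π t = (CfsgLib.SuzThree.actG D y).1 m + m := by
      intro m
      obtain ⟨q, hq, rfl⟩ := D.π_surj m
      have hq' := hq
      rw [hD] at hq'
      obtain ⟨qC, hqC, hqe⟩ := hq'
      refine ⟨y * q * y⁻¹ * q⁻¹, ?_, ?_⟩
      · refine ⟨(yC : Subgroup.centralizer ({z} : Set G)) * qC * (yC : Subgroup.centralizer ({z} : Set G))⁻¹ * qC⁻¹,
          ?_, by rw [← hqe]; rfl⟩
        rw [Subgroup.commutator_comm]
        exact Subgroup.commutator_mem_commutator yC.2 hqC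
      · rw [D.π_mul _ (CfsgLib.SuzThree.conj_mem_Q D hyC' hq) _ (inv_mem hq), CfsgLib.SuzInvol.π_inv D hq,
          CfsgLib.SuzThree.actG_π D hyC' hq]
    choose t ht hte using hpre
    let f : S → CfsgLib.SuzInvol.M6 := fun s => D.π s.1
    have hsub : (Set.range fun m : CfsgLib.SuzInvol.M6 => (CfsgLib.SuzThree.actG D y).1 m + m) ⊆ Set.range f := by
      rintro _ ⟨m, rfl⟩
      exact ⟨⟨t m, ht m⟩, hte m⟩
    calc Nat.card (Set.range fun m : CfsgLib.SuzInvol.M6 => (CfsgLib.SuzThree.actG D y).1 m + m)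
        ≤ Nat.card (Set.range f) := Nat.card_mono (Set.finite_range f) hsub
      _ ≤ Nat.card S := Finite.card_range_le f
      _ = 8 := hSc
  obtain ⟨D', -, T⟩ := CfsgLib.SuzThree.exists_three D hyC' hy3 hy1 hrange
    ⟨g₀, by rw [hD]; exact ⟨⟨_, hq₀⟩, hmem₀, rfl⟩, hne₀⟩
  haveI hnor : ((Subgroup.zpowers y).subgroupOf
      (Subgroup.centralizer ((Subgroup.zpowers y : Subgroup G) : Set G))).Normal := ⟨fun n hn g => by
    rw [Subgroup.mem_subgroupOf] at hn ⊢
    have hc := Subgroup.mem_centralizer_iff.1 g.2 _ hn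
    show (g : G) * n * (g : G)⁻¹ ∈ Subgroup.zpowers y
    rw [← hc, mul_inv_cancel_right]
    exact hn⟩
  have hrel : (CfsgLib.SuzEleven.cX y).relIndex (Subgroup.normalizer ((Subgroup.zpowers y : Subgroup G) : Set G)) = 2 :=
    (CfsgLib.SuzThree.main T _ rfl CfsgLib.J2.Perm.F9 CfsgLib.J2.Perm.F9.card).2.2
  obtain ⟨π₀, P₀⟩ := CfsgLib.SuzEleven.exists_pi T
  have hle : CfsgLib.SuzEleven.cX y ≤ Subgroup.normalizer ((X.map (Subgroup.subtype (Subgroup.centralizer ({z} : Set G))) : Subgroup G) : Set G) := by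
    rw [hYc]; exact Subgroup.centralizer_le_normalizer _
  have hrel' : (CfsgLib.SuzEleven.cX y).relIndex (Subgroup.normalizer ((X.map (Subgroup.subtype (Subgroup.centralizer ({z} : Set G))) : Subgroup G) : Set G)) = 2 := by
    rw [hYc]; exact hrel
  have hcardN : Nat.card (Subgroup.normalizer ((X.map (Subgroup.subtype (Subgroup.centralizer ({z} : Set G))) : Subgroup G) : Set G)) = 19595520 := by
    have h := Subgroup.card_mul_index ((CfsgLib.SuzEleven.cX y).subgroupOf (Subgroup.normalizer ((X.map (Subgroup.subtype (Subgroup.centralizer ({z} : Set G))) : Subgroup G) : Set G)))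
    rw [Nat.card_congr (Subgroup.subgroupOfEquivOfLe hle).toEquiv, P₀.card_cX,
      show ((CfsgLib.SuzEleven.cX y).subgroupOf (Subgroup.normalizer ((X.map (Subgroup.subtype (Subgroup.centralizer ({z} : Set G))) : Subgroup G) : Set G))).index = 2 from hrel'] at h
    omega
  set S := (P : Subgroup ↥(Subgroup.normalizer ((X.map (Subgroup.subtype (Subgroup.centralizer ({z} : Set G))) : Subgroup G) : Set G))).map
    (Subgroup.subtype (Subgroup.normalizer ((X.map (Subgroup.subtype (Subgroup.centralizer ({z} : Set G))) : Subgroup G) : Set G))) with hS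
  have hScard : Nat.card S = 2187 := by
    rw [hS, Subgroup.card_map_of_injective (Subgroup.normalizer ((X.map (Subgroup.subtype (Subgroup.centralizer ({z} : Set G))) : Subgroup G) : Set G)).subtype_injective,
      P.card_eq_multiplicity, hcardN, show (19595520 : ℕ) = 3 ^ 7 * 8960 by norm_num,
      Nat.factorization_mul (by norm_num) (by norm_num), Finsupp.add_apply,
      Nat.Prime.factorization_pow Nat.prime_three, Finsupp.single_eq_same,
      Nat.factorization_eq_zero_of_not_dvd (by norm_num : ¬ 3 ∣ 8960)]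
    norm_num
  have hSX : S ≤ CfsgLib.SuzEleven.cX y := by
    rintro _ ⟨g, hg, rfl⟩
    have h2 : (g * g : ↥(Subgroup.normalizer ((X.map (Subgroup.subtype (Subgroup.centralizer ({z} : Set G))) : Subgroup G) : Set G))) ∈
        (CfsgLib.SuzEleven.cX y).subgroupOf (Subgroup.normalizer ((X.map (Subgroup.subtype (Subgroup.centralizer ({z} : Set G))) : Subgroup G) : Set G)) :=
      Subgroup.mul_self_mem_of_index_two hrel' g
    have h3 : (g : G) ^ 2187 = 1 := by
      rw [← hScard]
      exact congrArg Subtype.val (pow_card_eq_one' (x := (⟨(g : G), ⟨g, hg, rfl⟩⟩ : S)))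
    have h4 : ((g : G) * (g : G)) ^ 1094 ∈ CfsgLib.SuzEleven.cX y := pow_mem (Subgroup.mem_subgroupOf.1 h2) _
    rw [← pow_two, ← pow_mul, show 2 * 1094 = 2187 + 1 from rfl, pow_succ, h3, one_mul] at h4
    exact h4
  obtain ⟨π, Pπ, hπS⟩ := CfsgLib.SuzEleven.exists_pi_sylow T hSX hScard
  refine ⟨by rw [← hπS]; exact Pπ.not_dvd_index, CfsgLib.SuzEleven.cA π,
    hπS ▸ CfsgLib.SuzEleven.cA_le_cS, Pπ.elementary, by rw [Pπ.card_cA]; norm_num, Pπ.centralizer_cA, ?_⟩
  haveI hAn : ((CfsgLib.SuzEleven.cA π).subgroupOf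
      (Subgroup.normalizer (CfsgLib.SuzEleven.cA π : Set G))).Normal := Subgroup.normal_in_normalizer
  exact ⟨hAn, Pπ.quotient_m11⟩

end Cfsg.Agent.S1725
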