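import Cfsg.Statements.S1754
import Cfsg.Agent.KGroup.TI

set_option autoImplicit false
open Cfsg

namespace Cfsg.Agent.S1754

/-- Let A be a standard subgroup of the finite group G (A quasisimple, C_G(A) tightly embedded of even order, A commuting elementwise with no other conjugate of itself, and N_G(A) = N_G(C_G(A))), and let t be an involution of G centralizing A. Then the centralizer of t lies in the normalizer of A; in particular A, viewed inside C_G(t), is a component of C_G(t). -/
theorem result {G : Type*} [Group G] [Finite G]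
    (A : Subgroup G) (hA : Cfsg.IsStandardSubgroup A) (t : G) (ht : orderOf t = 2) (htA : t ∈ Subgroup.centralizer (A : Set G)) :
    Subgroup.centralizer ({t} : Set G) ≤ Subgroup.normalizer (A : Set G) ∧
      Cfsg.IsComponent (A.subgroupOf (Subgroup.centralizer ({t} : Set G))) := by
  obtain ⟨hq, ⟨-, hti⟩, -, hN⟩ := hA
  have hnorm : Subgroup.centralizer ({t} : Set G) ≤ Subgroup.normalizer (A : Set G) := by
    rw [hN]
    intro g hg
    by_contra hgN
    refine Nat.not_even_iff_odd.2 (hti g hgN) ?_
    have htK : t ∈ (Subgroup.centralizer (A : Set G)).map (MulAut.conj g).toMonoidHom := by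
      rw [CfsgLib.TI.conj_map_mem]
      have : g⁻¹ * t * g = t := by
        rw [mul_assoc, ← Subgroup.mem_centralizer_singleton_iff.1 hg, inv_mul_cancel_left]
      rwa [this]
    refine even_iff_two_dvd.2 (ht ▸ Subgroup.orderOf_dvd_natCard _ ?_)
    exact Subgroup.mem_inf.2 ⟨htA, htK⟩
  have hle : A ≤ Subgroup.centralizer ({t} : Set G) := fun a ha =>
    Subgroup.mem_centralizer_singleton_iff.2 (Subgroup.mem_centralizer_iff.1 htA a ha)
  haveI : (A.subgroupOf (Subgroup.centralizer ({t} : Set G))).Normal :=
    Subgroup.normal_subgroupOf_of_le_normalizer hnorm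
  exact ⟨hnorm, Subgroup.Normal.isSubnormal inferInstance,
    CfsgLib.Comp.isQuasisimple_of_equiv (Subgroup.subgroupOfEquivOfLe hle).symm hq⟩

end Cfsg.Agent.S1754
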