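import Cfsg.Statements.S1755
import Cfsg.Agent.KGroup.TI
import Cfsg.Agent.KGroup.CharTwo
import Cfsg.Prelude.Def_ClassificationK

set_option autoImplicit false
open Cfsg

namespace Cfsg.Agent.S1755

theorem aux {G : Type*} [Group G] [Finite G] (z : G) (hz : orderOf z = 2) (C : Subgroup G)
    (hC : C = Subgroup.centralizer ({z} : Set G)) (F : Subgroup C)
    (hFs : F = Cfsg.generalizedFittingSubgroup C) (hQ : Cfsg.IsOfSymplecticType F)
    (B : Subgroup F) (hBc : B.Characteristic) (hBa : IsMulCommutative ↥B) (g : G) :
    ((B.map F.subtype).map C.subtype).map (MulAut.conj g).toMonoidHom =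
        (B.map F.subtype).map C.subtype ∨
      ((B.map F.subtype).map C.subtype).map (MulAut.conj g).toMonoidHom ⊓
        (B.map F.subtype).map C.subtype = ⊥ := by
  haveI : Fact (Nat.Prime 2) := ⟨Nat.prime_two⟩
  classical
  haveI := hBc
  haveI : F.Normal := hFs ▸ inferInstance
  haveI : (B.map F.subtype).Normal := inferInstance
  set Bc : Subgroup C := B.map F.subtype with hBcdef
  set BG : Subgroup G := Bc.map C.subtype with hBG
  have hzC : z ∈ C := by rw [hC]; exact Subgroup.mem_centralizer_singleton_iff.2 rfl
  set zC : C := ⟨z, hzC⟩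
  have hzcen : zC ∈ Subgroup.center C := Subgroup.mem_center_iff.2 fun c =>
    Subtype.ext (Subgroup.mem_centralizer_singleton_iff.1 (hC ▸ c.2))
  have hzord : orderOf zC = 2 := by rw [← Subgroup.orderOf_coe]; exact hz
  have hzF : zC ∈ F := by
    haveI hn : (Subgroup.zpowers zC).Normal := by
      constructor
      intro n hn c
      rw [Subgroup.mem_center_iff.1 (Subgroup.zpowers_le.2 hzcen hn) c, mul_inv_cancel_right]
      exact hn
    exact hFs ▸ CfsgLib.Comp.fitting_le_Fstar
      (CfsgLib.Comp.le_fitting hn (IsPGroup.isNilpotent (p := 2) (IsPGroup.of_card (n := 1) (by rw [Nat.card_zpowers, hzord, pow_one]))) (Subgroup.mem_zpowers zC))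
  set zF : F := ⟨zC, hzF⟩
  haveI hZ : IsCyclic ↥(Subgroup.center F) := hQ.2 _ inferInstance inferInstance
  have hzFc : zF ∈ Subgroup.center F := Subgroup.mem_center_iff.2 fun c =>
    Subtype.ext (Subgroup.mem_center_iff.1 hzcen c)
  -- every involution of `B` equals `z`
  haveI hBcyc : IsCyclic ↥B := hQ.2 B hBc hBa
  have key : ∀ x : G, x ∈ BG → orderOf x = 2 → x = z := by
    intro x hx hx2
    haveI : Fintype ↥B := Fintype.ofFinite _
    haveI : Fintype ↥(Subgroup.center F) := Fintype.ofFinite _
    obtain ⟨c, ⟨b, hb, rfl⟩, rfl⟩ := hx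
    have hb2 : orderOf b = 2 := by
      rw [← Subgroup.orderOf_coe b, ← Subgroup.orderOf_coe (b : C)]
      exact hx2
    -- the involution of the cyclic group `B` is central
    have hbc : b ∈ Subgroup.center F := by
      rw [Subgroup.mem_center_iff]
      intro c
      have hcb : c * b * c⁻¹ ∈ B := Subgroup.Normal.conj_mem inferInstance b hb c
      have h1 : (⟨c * b * c⁻¹, hcb⟩ : B) = ⟨b, hb⟩ := by
        by_contra hne
        have h2 := IsCyclic.card_pow_eq_one_le (α := B) (n := 2) two_pos
        have hsub : ({1, ⟨c * b * c⁻¹, hcb⟩, ⟨b, hb⟩} : Finset B) ⊆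
            (Finset.univ.filter fun a : B => a ^ 2 = 1) := by
          intro a ha
          simp only [Finset.mem_insert, Finset.mem_singleton] at ha
          refine Finset.mem_filter.2 ⟨Finset.mem_univ _, ?_⟩
          have hb' : b ^ 2 = 1 := by rw [← hb2]; exact pow_orderOf_eq_one b
          rcases ha with rfl | rfl | rfl
          · exact one_pow _
          · exact Subtype.ext (by simp [conj_pow, hb'])
          · exact Subtype.ext hb'
        have h3 := Finset.card_le_card hsub
        have hb1 : b ≠ 1 := fun h => by rw [h, orderOf_one] at hb2; omega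
        have hne1 : (1 : B) ≠ ⟨c * b * c⁻¹, hcb⟩ := fun h => by
          have := congrArg Subtype.val h
          simp only [Subgroup.coe_one] at this
          exact hb1 (conj_eq_one_iff.1 this.symm)
        have hne2 : (1 : B) ≠ ⟨b, hb⟩ := fun h => hb1 (congrArg Subtype.val h).symm
        rw [Finset.card_insert_of_notMem (by simp [hne1, hne2]),
          Finset.card_insert_of_notMem (by simp [hne]), Finset.card_singleton] at h3
        omega
      have h1' : c * b * c⁻¹ = b := congrArg Subtype.val h1
      calc c * b = c * b * c⁻¹ * c := by group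
        _ = b * c := by rw [h1']
    by_contra hne
    have hne' : (⟨b, hbc⟩ : Subgroup.center F) ≠ ⟨zF, hzFc⟩ := fun h => hne (by
      have := congrArg (fun w : Subgroup.center F => ((w : F) : C)) h
      exact congrArg Subtype.val this)
    have h2 := IsCyclic.card_pow_eq_one_le (α := Subgroup.center F) (n := 2) two_pos
    have hz1 : z ≠ 1 := fun h => by rw [h, orderOf_one] at hz; omega
    have hb1 : b ≠ 1 := fun h => by rw [h, orderOf_one] at hb2; omega
    have hsub : ({1, ⟨b, hbc⟩, ⟨zF, hzFc⟩} : Finset (Subgroup.center F)) ⊆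
        (Finset.univ.filter fun a : Subgroup.center F => a ^ 2 = 1) := by
      intro a ha
      simp only [Finset.mem_insert, Finset.mem_singleton] at ha
      refine Finset.mem_filter.2 ⟨Finset.mem_univ _, ?_⟩
      rcases ha with rfl | rfl | rfl
      · exact one_pow _
      · exact Subtype.ext (show b ^ 2 = 1 by rw [← hb2]; exact pow_orderOf_eq_one b)
      · exact Subtype.ext (Subtype.ext (show zC ^ 2 = 1 by rw [← hzord]; exact pow_orderOf_eq_one zC))
    have h3 := Finset.card_le_card hsub
    have hne1 : (1 : Subgroup.center F) ≠ ⟨b, hbc⟩ := fun h => hb1 (congrArg Subtype.val h).symm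
    have hne2 : (1 : Subgroup.center F) ≠ ⟨zF, hzFc⟩ := fun h =>
      hz1 (congrArg (fun w : Subgroup.center F => (((w : F) : C) : G)) h).symm
    rw [Finset.card_insert_of_notMem (by simp [hne1, hne2]),
      Finset.card_insert_of_notMem (by simp [hne']), Finset.card_singleton] at h3
    omega
  refine or_iff_not_imp_right.2 fun hint => CfsgLib.TI.map_conj_eq_of_mem_normalizer ?_
  have hBp : IsPGroup 2 BG := ((hQ.1.to_subgroup B).map _).map _
  obtain ⟨x, hx, hx2⟩ := CfsgLib.CharP.exists_orderOf_two (hBp.to_le inf_le_right) hint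
  obtain ⟨hx1, hxB⟩ := Subgroup.mem_inf.1 hx
  have hxz := key x hxB hx2
  rw [CfsgLib.TI.conj_map_mem, hxz] at hx1
  have h4 : g⁻¹ * z * g = z := key _ hx1 (by
    rw [show g⁻¹ * z * g = MulAut.conj g⁻¹ z by simp, MulEquiv.orderOf_eq, hz])
  have hgC : g ∈ C := hC ▸ Subgroup.mem_centralizer_singleton_iff.2 (by
    calc g * z = g * (g⁻¹ * z * g) := by rw [h4]
      _ = z * g := by group)
  exact CfsgLib.Comp.normal_map_subtype_iff.1 (inferInstance : Bc.Normal) hgC


/-- Let G be a finite group and let z be an involution of G such that Q, the generalized Fitting subgroup of the centralizer C of z, is a 2-group of symplectic type (every characteristic abelian subgroup of Q is cyclic). Let B be a characteristic abelian subgroup of Q, viewed as a subgroup of G. Then for every g in G, the conjugate of B by g either equals B or meets B trivially. -/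
theorem result {G : Type*} [Group G] [Finite G] (z : G) (hz : orderOf z = 2) (hQ : Cfsg.IsOfSymplecticType ↥(Cfsg.generalizedFittingSubgroup ↥(Subgroup.centralizer ({z} : Set G))))
    (B : Subgroup ↥(Cfsg.generalizedFittingSubgroup ↥(Subgroup.centralizer ({z} : Set G)))) (hBc : B.Characteristic) (hBa : IsMulCommutative ↥B) (g : G) :
    ((B.map (Cfsg.generalizedFittingSubgroup ↥(Subgroup.centralizer ({z} : Set G))).subtype).map (Subgroup.centralizer ({z} : Set G)).subtype).map (MulAut.conj g).toMonoidHom =
        (B.map (Cfsg.generalizedFittingSubgroup ↥(Subgroup.centralizer ({z} : Set G))).subtype).map (Subgroup.centralizer ({z} : Set G)).subtype ∨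
      ((B.map (Cfsg.generalizedFittingSubgroup ↥(Subgroup.centralizer ({z} : Set G))).subtype).map (Subgroup.centralizer ({z} : Set G)).subtype).map (MulAut.conj g).toMonoidHom ⊓
        (B.map (Cfsg.generalizedFittingSubgroup ↥(Subgroup.centralizer ({z} : Set G))).subtype).map (Subgroup.centralizer ({z} : Set G)).subtype = ⊥ :=
  aux z hz _ rfl _ rfl hQ B hBc hBa g

end Cfsg.Agent.S1755
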