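import Cfsg.Statements.S1756
import Cfsg.Agent.Spor3T.Extraspecial
import Mathlib.GroupTheory.IndexNormal

set_option autoImplicit false
open Cfsg

namespace Cfsg.Agent.S1756

/-- Let Q be an extraspecial 2-subgroup of the finite group G (special with centre of order 2) and t an involution of G normalizing Q such that the centralizer of t in Q has index at most 2 in Q. Then t lies in the product of Q with the centralizer of Q. -/
theorem result {G : Type*} [Group G] [Finite G] (Q : Subgroup G)
    (hQ : Cfsg.IsExtraspecial 2 ↥Q) (t : G) (ht : orderOf t = 2) (htN : t ∈ Subgroup.normalizer (Q : Set G))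
    (hi : (Subgroup.centralizer ({t} : Set G) ⊓ Q).relIndex Q ≤ 2) :
    t ∈ Q ⊔ Subgroup.centralizer (Q : Set G) := by
  obtain ⟨z, hz⟩ := CfsgLib.Extra2.exists_gen hQ
  have ht' : t * t = 1 := by rw [← sq, ← ht, pow_orderOf_eq_one]
  have hti : t⁻¹ = t := inv_eq_of_mul_eq_one_right ht'
  -- conjugation by `t`
  have htQ : ∀ x ∈ Q, t * x * t ∈ Q := fun x hx => by
    have := (Subgroup.mem_normalizer_iff.1 htN x).1 hx
    rwa [hti] at this
  have htz : t * z * t = z := by
    refine (hz.center_iff _ (htQ z hz.mem) fun y hy => ?_).resolve_left fun h => hz.ne_one ?_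
    · have h1 := (hz.comm_z _ (htQ y hy)).eq
      show t * z * t * y = y * (t * z * t)
      calc t * z * t * y = t * z * (t * y * t) * t := by
            simp only [mul_assoc, ht', mul_one]
        _ = t * ((t * y * t) * z) * t := by rw [mul_assoc t z, h1]
        _ = y * (t * z * t) := by
            simp only [← mul_assoc, ht', one_mul]
    · calc z = t * (t * z * t) * t := by simp [mul_assoc, ← mul_assoc t t, ht']
        _ = 1 := by rw [h, mul_one, ht']
  set M := Subgroup.centralizer ({t} : Set G) ⊓ Q with hM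
  have hfix : ∀ m ∈ M, t * m * t = m := fun m hm => by
    rw [← Subgroup.mem_centralizer_singleton_iff.1 hm.1, mul_assoc, ht', mul_one]
  have hmem : ∀ m ∈ Q, t * m * t = m → m ∈ M := fun m hm h => ⟨Subgroup.mem_centralizer_singleton_iff.2 (by
    calc m * t = t * m * t * t := by rw [h]
      _ = t * m := by rw [mul_assoc _ t t, ht', mul_one]), hm⟩
  have hzM : z ∈ M := hmem z hz.mem htz
  by_cases hQM : Q ≤ M
  · refine Subgroup.mem_sup_right (Subgroup.mem_centralizer_iff.2 fun x hx => ?_)
    exact Subgroup.mem_centralizer_singleton_iff.1 (hQM hx).1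
  obtain ⟨q, hqQ, hqM⟩ := SetLike.not_le_iff_exists.1 hQM
  have hidx : M.relIndex Q = 2 := by
    have h1 : M.relIndex Q ≠ 1 := fun h => hQM (Subgroup.relIndex_eq_one.1 h)
    have h0 : M.relIndex Q ≠ 0 := Subgroup.index_ne_zero_of_finite
    omega
  have htwo : ∀ x ∈ Q, x ∉ M → q⁻¹ * x ∈ M := fun x hx hxM => by
    have h := Subgroup.mul_mem_iff_of_index_two (H := M.subgroupOf Q) hidx
      (a := ⟨q⁻¹, inv_mem hqQ⟩) (b := ⟨x, hx⟩)
    simp only [Subgroup.mem_subgroupOf, Subgroup.coe_mul, inv_mem_iff] at h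
    exact h.2 ⟨fun h' => absurd h' hqM, fun h' => absurd h' hxM⟩
  set c := q⁻¹ * (t * q * t) with hc
  have hcQ : c ∈ Q := mul_mem (inv_mem hqQ) (htQ q hqQ)
  have hcM : ∀ m ∈ M, c * m = m * c := by
    intro m hm
    have hconj : q * m * q⁻¹ ∈ M := by
      rcases CfsgLib.Extra2.conj_eq hz hqQ hm.2 with e | e <;> rw [e]
      · exact hm
      · exact mul_mem hzM hm
    have h1 : (t * q * t) * m * (t * q * t)⁻¹ = q * m * q⁻¹ := by
      calc (t * q * t) * m * (t * q * t)⁻¹ = t * q * (t * m * t) * q⁻¹ * t := by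
            simp [hti, mul_assoc]
        _ = t * (q * m * q⁻¹) * t := by rw [hfix m hm]; group
        _ = q * m * q⁻¹ := hfix _ hconj
    calc c * m = q⁻¹ * ((t * q * t) * m * (t * q * t)⁻¹) * (t * q * t) := by rw [hc]; group
      _ = q⁻¹ * (q * m * q⁻¹) * (t * q * t) := by rw [h1]
      _ = m * c := by rw [hc]; group
  have hcentral : ∀ x ∈ Q, (∀ m ∈ M, x * m = m * x) → x * q = q * x → x = 1 ∨ x = z := by
    intro x hx hxm hxq
    refine hz.center_iff x hx fun y hy => ?_
    show x * y = y * x
    by_cases hyM : y ∈ M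
    · exact hxm y hyM
    · calc x * y = x * q * (q⁻¹ * y) := by group
        _ = q * (x * (q⁻¹ * y)) := by rw [hxq, mul_assoc]
        _ = q * ((q⁻¹ * y) * x) := by rw [hxm _ (htwo y hy hyM)]
        _ = y * x := by group
  have hc1 : c ≠ 1 := fun h => hqM (hmem q hqQ (inv_mul_eq_one.1 h).symm)
  by_cases hcz : c = z
  · -- conjugation by a suitable element of `C_Q(M)` undoes `t`
    have hR : ∃ r ∈ Q, (∀ m ∈ M, r * m = m * r) ∧ r * q ≠ q * r := by
      by_contra hno
      push Not at hno
      have hle : Q ⊓ Subgroup.centralizer (M : Set G) ≤ Subgroup.zpowers z := fun r hr =>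
        (CfsgLib.Extra2.mem_zpowers_iff hz.sq).2 (hcentral r hr.1
          (fun m hm => (Subgroup.mem_centralizer_iff.1 hr.2 m hm).symm)
          (hno r hr.1 fun m hm => (Subgroup.mem_centralizer_iff.1 hr.2 m hm).symm))
      have h1 := Subgroup.card_le_of_le hle
      rw [Nat.card_zpowers, CfsgLib.Extra2.orderOf_gen hz] at h1
      have h2 := CfsgLib.Extra2.card_mul_card_centralizer hz hzM inf_le_right
      have h3 : Nat.card M * 2 = Nat.card Q := by
        rw [← hidx]
        rw [← (M.subgroupOf Q).card_mul_index, Nat.card_congr (Subgroup.subgroupOfEquivOfLe inf_le_right).toEquiv]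
        rfl
      have h4 := Nat.mul_le_mul_left (Nat.card M) h1
      have h5 : 0 < Nat.card M := Nat.card_pos
      omega
    obtain ⟨r, hrQ, hrM, hrq⟩ := hR
    have hrq' : r * q * r⁻¹ = q * z := by
      rcases CfsgLib.Extra2.conj_eq hz hrQ hqQ with e | e
      · exact absurd (mul_inv_eq_iff_eq_mul.1 e) hrq
      · rw [e, (hz.comm_z q hqQ).eq]
    have htq : t * q * t = q * z := by rw [← hcz, hc]; group
    have hcen : t * r ∈ Subgroup.centralizer (Q : Set G) := by
      rw [Subgroup.mem_centralizer_iff]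
      have hq' : (t * r) * q * (t * r)⁻¹ = q := by
        calc (t * r) * q * (t * r)⁻¹ = t * (r * q * r⁻¹) * t := by simp [hti, mul_assoc]
          _ = (t * q * t) * (t * z * t) := by
              rw [hrq']; simp [mul_assoc, ← mul_assoc t t, ht']
          _ = q := by rw [htz, htq, mul_assoc, hz.sq, mul_one]
      have hm' : ∀ m ∈ M, (t * r) * m * (t * r)⁻¹ = m := fun m hm => by
        calc (t * r) * m * (t * r)⁻¹ = t * (r * m * r⁻¹) * t := by simp [hti, mul_assoc]
          _ = m := by rw [hrM m hm, mul_inv_cancel_right, hfix m hm]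
      intro x hx
      by_cases hxM : x ∈ M
      · exact ((mul_inv_eq_iff_eq_mul.1 (hm' x hxM))).symm
      · refine (mul_inv_eq_iff_eq_mul.1 (?_ : (t * r) * x * (t * r)⁻¹ = x)).symm
        calc (t * r) * x * (t * r)⁻¹
            = ((t * r) * q * (t * r)⁻¹) * ((t * r) * (q⁻¹ * x) * (t * r)⁻¹) := by group
          _ = x := by rw [hq', hm' _ (htwo x hx hxM)]; group
    have : (t * r) * r⁻¹ ∈ Q ⊔ Subgroup.centralizer (Q : Set G) :=
      mul_mem (Subgroup.mem_sup_right hcen) (Subgroup.mem_sup_left (inv_mem hrQ))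
    simpa using this
  exfalso
  have hcq : c * q ≠ q * c := fun h => (hcentral c hcQ hcM h).elim hc1 hcz
  -- `c` lies in `M`
  have hcinM : c ∈ M := by
    by_contra hcn
    have h := hcM _ (htwo c hcQ hcn)
    refine hcq ?_
    have h' : c * q⁻¹ = q⁻¹ * c := mul_right_cancel (b := c) (by rw [mul_assoc, h])
    calc c * q = q * (q⁻¹ * c) * q := by group
      _ = q * (c * q⁻¹) * q := by rw [h']
      _ = q * c := by group
  have hcinv : c * c = 1 := by
    have h : t * c * t = c⁻¹ := by
      rw [hc]
      calc t * (q⁻¹ * (t * q * t)) * t = t * q⁻¹ * t * q * (t * t) := by group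
        _ = (q⁻¹ * (t * q * t))⁻¹ := by rw [ht']; simp [hti, mul_assoc]
    rw [hfix c hcinM] at h
    calc c * c = c * c⁻¹ := by rw [← h]
      _ = 1 := mul_inv_cancel c
  have hqq : t * (q * q) * t = q * q := by
    rcases hz.square q hqQ with e | e <;> rw [e]
    · rw [mul_one, ht']
    · exact htz
  have hcq' : q⁻¹ * c * q = z * c := by
    rcases CfsgLib.Extra2.conj_eq hz (inv_mem hqQ) hcQ with e | e
    · rw [inv_inv] at e
      exact absurd (calc c * q = q * (q⁻¹ * c * q) := by group
          _ = q * c := by rw [e]) hcq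
    · rwa [inv_inv] at e
  have htq : t * q * t = q * c := by rw [hc]; group
  apply hz.ne_one
  have : q * q = q * q * (z * c * c) := by
    calc q * q = t * (q * q) * t := hqq.symm
      _ = (t * q * t) * (t * q * t) := by simp [mul_assoc, ← mul_assoc t t, ht']
      _ = q * c * (q * c) := by rw [htq]
      _ = q * q * (q⁻¹ * c * q) * c := by group
      _ = q * q * (z * c * c) := by rw [hcq']; group
  rw [mul_assoc z, hcinv, mul_one] at this
  exact mul_eq_left.1 this.symm

end Cfsg.Agent.S1756
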