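import Cfsg.Statements.S1774
import Cfsg.Agent.KGroup.SymplecticConj

set_option autoImplicit false
open Cfsg

namespace Cfsg.Agent.S1774

/-- Let G be a finite group and let z be an involution of G such that Q, the generalized Fitting subgroup of the centralizer C of z, is a 2-group of symplectic type (every characteristic abelian subgroup of Q is cyclic); suppose every element of Q has order dividing 4. Let g ∈ G with z' = g z g⁻¹ ≠ z and z' ∈ Q. Then z lies in the conjugate g Q g⁻¹, and the subgroup X generated by Q and g Q g⁻¹ induces every automorphism of the four-group generated by z and z': for any two distinct non-identity elements u, v of that four-group there is x ∈ X with x z x⁻¹ = u and x z' x⁻¹ = v. -/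
theorem result {G : Type*} [Group G] [Finite G] (z : G) (hz : orderOf z = 2) (hQ : Cfsg.IsOfSymplecticType ↥(Cfsg.generalizedFittingSubgroup ↥(Subgroup.centralizer ({z} : Set G))))
    (h4 : ∀ q ∈ (Cfsg.generalizedFittingSubgroup ↥(Subgroup.centralizer ({z} : Set G))).map (Subgroup.centralizer ({z} : Set G)).subtype, q ^ 4 = 1) (g : G) (hne : g * z * g⁻¹ ≠ z) (hin : g * z * g⁻¹ ∈ (Cfsg.generalizedFittingSubgroup ↥(Subgroup.centralizer ({z} : Set G))).map (Subgroup.centralizer ({z} : Set G)).subtype) :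
    z ∈ ((Cfsg.generalizedFittingSubgroup ↥(Subgroup.centralizer ({z} : Set G))).map (Subgroup.centralizer ({z} : Set G)).subtype).map (MulAut.conj g).toMonoidHom ∧
      ∀ u ∈ Subgroup.closure ({z, g * z * g⁻¹} : Set G), ∀ v ∈ Subgroup.closure ({z, g * z * g⁻¹} : Set G),
        u ≠ 1 → v ≠ 1 → u ≠ v →
          ∃ x ∈ (Cfsg.generalizedFittingSubgroup ↥(Subgroup.centralizer ({z} : Set G))).map (Subgroup.centralizer ({z} : Set G)).subtype ⊔ ((Cfsg.generalizedFittingSubgroup ↥(Subgroup.centralizer ({z} : Set G))).map (Subgroup.centralizer ({z} : Set G)).subtype).map (MulAut.conj g).toMonoidHom, x * z * x⁻¹ = u ∧ x * (g * z * g⁻¹) * x⁻¹ = v := by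
  set C := Subgroup.centralizer ({z} : Set G) with hC
  set F := Cfsg.generalizedFittingSubgroup ↥C with hF
  have hzC : z ∈ C := Subgroup.mem_centralizer_singleton_iff.2 rfl
  have hz1 : z ≠ 1 := fun e => by rw [e, orderOf_one] at hz; omega
  have hzz : z * z = 1 := by rw [← sq, ← hz, pow_orderOf_eq_one]
  have hzcen : ∀ c : C, c * ⟨z, hzC⟩ = ⟨z, hzC⟩ * c := fun c =>
    Subtype.ext (Subgroup.mem_centralizer_singleton_iff.1 c.2)
  have hzF : (⟨z, hzC⟩ : C) ∈ F := CfsgLib.Comp.centralizer_Fstar_le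
    (Subgroup.mem_centralizer_iff.2 fun c _ => hzcen c)
  have hZ : IsCyclic ↥(Subgroup.center F) := hQ.2 _ inferInstance inferInstance
  have h4' : ∀ x : F, x ^ 4 = 1 := fun x =>
    Subtype.ext (Subtype.ext (by simpa using h4 _ ⟨x, x.2, rfl⟩))
  have hcc := CfsgLib.Symp.comm_central hQ h4'
  have hcz : ∀ v : F, v ∈ Subgroup.center F → v * v = 1 → ((v : C) : G) = 1 ∨ ((v : C) : G) = z := by
    intro v hv hv2
    by_cases h1 : v = 1
    · exact Or.inl (by rw [h1]; rfl)
    refine Or.inr (congrArg (fun w : F => ((w : C) : G)) (CfsgLib.Symp.eq_of_sq_eq_one_subgroup hZ hv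
      (b := ⟨⟨z, hzC⟩, hzF⟩) (Subgroup.mem_center_iff.2 fun w => Subtype.ext (hzcen w)) hv2
      (Subtype.ext (Subtype.ext hzz)) h1 ?_))
    exact fun e => hz1 (congrArg (fun w : F => ((w : C) : G)) e)
  have hD : CfsgLib.Symp.Data z (F.map C.subtype) := by
    refine ⟨hz1, hzz, ⟨_, hzF, rfl⟩, ?_, ?_, ?_, ?_, ?_, ?_⟩
    · rintro _ ⟨x, -, rfl⟩
      exact Subgroup.mem_centralizer_singleton_iff.1 x.2
    · rintro c hc _ ⟨x, hx, rfl⟩
      exact ⟨⟨c, Subgroup.mem_centralizer_singleton_iff.2 hc⟩ * x * ⟨c, Subgroup.mem_centralizer_singleton_iff.2 hc⟩⁻¹,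
        (inferInstance : F.Normal).conj_mem x hx _, rfl⟩
    · rintro _ ⟨x, hx, rfl⟩ _ ⟨y, hy, rfl⟩
      obtain ⟨hc, hc2⟩ := hcc ⟨x, hx⟩ ⟨y, hy⟩
      exact hcz _ hc hc2
    · rintro _ ⟨x, hx, rfl⟩
      refine hcz (⟨x, hx⟩ * ⟨x, hx⟩) ?_ (by rw [← h4' ⟨x, hx⟩]; simp [pow_succ, mul_assoc])
      rw [Subgroup.mem_center_iff]
      intro y
      obtain ⟨hc, hc2⟩ := hcc ⟨x, hx⟩ y
      set a : F := ⟨x, hx⟩
      have hay : a * y * a⁻¹ = (a * y * a⁻¹ * y⁻¹) * y := by group
      symm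
      calc a * a * y = a * (a * y * a⁻¹) * a⁻¹ * (a * a) := by group
        _ = (a * (a * y * a⁻¹ * y⁻¹)) * y * a⁻¹ * (a * a) := by group
        _ = ((a * y * a⁻¹ * y⁻¹) * a) * y * a⁻¹ * (a * a) := by rw [Subgroup.mem_center_iff.1 hc a]
        _ = (a * y * a⁻¹ * y⁻¹) * (a * y * a⁻¹ * y⁻¹) * y * (a * a) := by group
        _ = y * (a * a) := by rw [hc2, one_mul]
    · rintro _ ⟨x, hx, rfl⟩ h2 hcomm
      refine hcz ⟨x, hx⟩ (Subgroup.mem_center_iff.2 fun y => ?_) (Subtype.ext (Subtype.ext h2))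
      exact Subtype.ext (Subtype.ext (hcomm _ ⟨y, y.2, rfl⟩).symm)
    · intro c hc hcomm
      refine ⟨⟨c, Subgroup.mem_centralizer_singleton_iff.2 hc⟩, CfsgLib.Comp.centralizer_Fstar_le
        (Subgroup.mem_centralizer_iff.2 fun y hy => Subtype.ext (hcomm _ ⟨y, hy, rfl⟩).symm), rfl⟩
  exact ⟨hD.mem_map_conj hne hin, fun u hu v hv hu1 hv1 huv => hD.exists_map hne hin hu hv hu1 hv1 huv⟩

end Cfsg.Agent.S1774
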