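import Cfsg.Statements.S1775
import Cfsg.Agent.KGroup.SectionLayer

set_option autoImplicit false
open Cfsg

namespace Cfsg.Agent.S1775

open CfsgLib Subgroup in
/-- Let G be a finite group whose generalized Fitting subgroup is a non-abelian simple group and in which every proper section (every quotient H/N of a proper subgroup H, or of G by a nontrivial normal subgroup) has the B-property. Let x, y be commuting involutions, let D be the intersection of the 2-layer of C_G(x) with C_G(y), and let J be a 2-component of D. Write Q for the quotient of C_G(y) by its largest normal odd-order subgroup. Then (i) the image of J in Q is a component of the centralizer in Q of the image of x; and (ii) for every J-invariant subgroup E of odd order of C_G(x) ∩ C_G(y), the commutator subgroup [J, E] lies in the largest normal odd-order subgroup of C_G(y). -/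
theorem result {G : Type*} [Group G] [Finite G]
    (hF : IsSimpleGroup ↥(Cfsg.generalizedFittingSubgroup G)) (hF' : ¬ IsMulCommutative ↥(Cfsg.generalizedFittingSubgroup G))
    (hsec : ∀ (H : Subgroup G) (N : Subgroup ↥H) [N.Normal], (H ≠ ⊤ ∨ N ≠ ⊥) → Cfsg.HasBProperty (↥H ⧸ N))
    (x y : G) (hx : orderOf x = 2) (hy : orderOf y = 2) (hxy : x * y = y * x)
    (J : Subgroup ↥((Cfsg.pLayer 2 ↥(Subgroup.centralizer ({x} : Set G))).map (Subgroup.centralizer ({x} : Set G)).subtype ⊓ Subgroup.centralizer ({y} : Set G)))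
    (hJ : Cfsg.IsPComponent 2 J) :
    Cfsg.IsComponent
        ((((J.map (Subgroup.subtype _)).subgroupOf (Subgroup.centralizer ({y} : Set G))).map (QuotientGroup.mk' (Cfsg.oddCore ↥(Subgroup.centralizer ({y} : Set G))))).subgroupOf
          (Subgroup.centralizer ({(QuotientGroup.mk' (Cfsg.oddCore ↥(Subgroup.centralizer ({y} : Set G))) ⟨x, Subgroup.mem_centralizer_singleton_iff.mpr hxy⟩ : ↥(Subgroup.centralizer ({y} : Set G)) ⧸ Cfsg.oddCore ↥(Subgroup.centralizer ({y} : Set G)))} : Set _))) ∧
      ∀ E : Subgroup G, E ≤ Subgroup.centralizer ({x} : Set G) ⊓ Subgroup.centralizer ({y} : Set G) → Odd (Nat.card ↥E) →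
        (∀ j ∈ J.map (Subgroup.subtype _), ∀ e ∈ E, j * e * j⁻¹ ∈ E) →
          ⁅J.map (Subgroup.subtype _), E⁆ ≤ (Cfsg.oddCore ↥(Subgroup.centralizer ({y} : Set G))).map (Subgroup.centralizer ({y} : Set G)).subtype := by
  haveI : Fact (Nat.Prime 2) := ⟨Nat.prime_two⟩
  have hne : centralizer ({y} : Set G) ≠ ⊤ := by
    intro htop
    have hy1 : y ≠ 1 := fun h => by simp [h] at hy
    set F := Cfsg.generalizedFittingSubgroup G
    have hyc : ∀ g : G, g * y = y * g := fun g =>
      mem_centralizer_singleton_iff.1 (htop.ge (mem_top g))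
    have hyF : y ∈ F := Comp.centralizer_Fstar_le (mem_centralizer_iff.2 fun g _ => hyc g)
    haveI := hF
    have hc : (⟨y, hyF⟩ : F) ∈ center F := mem_center_iff.2 fun g => Subtype.ext (hyc g)
    rcases (inferInstance : (center F).Normal).eq_bot_or_eq_top with h | h
    · rw [h, mem_bot] at hc
      exact hy1 (congrArg Subtype.val hc)
    · exact hF' ⟨⟨fun u v => ((mem_center_iff.1 (h.ge (mem_top v))) u)⟩⟩
  set a : (centralizer ({y} : Set G)) := ⟨x, mem_centralizer_singleton_iff.mpr hxy⟩ with ha
  have ha2 : a * a = 1 := Subtype.ext (by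
    have := pow_orderOf_eq_one x
    rw [hx, sq] at this
    exact this)
  have hao : orderOf a = 2 := by rw [← hx]; exact (orderOf_coe a).symm
  have hB := SectionLayer.bProperty_equiv (QuotientGroup.quotientBot (G := (centralizer ({y} : Set G)))).symm
    (hsec (centralizer ({y} : Set G)) ⊥ (Or.inl hne)) a hao
  have hLx : ∀ d : G, d ∈ (Cfsg.pLayer 2 (centralizer ({x} : Set G))).map (centralizer ({x} : Set G)).subtype → d ∈ (centralizer ({x} : Set G)) := fun d hd => map_subtype_le _ hd
  set ι : ↥((Cfsg.pLayer 2 (centralizer ({x} : Set G))).map (centralizer ({x} : Set G)).subtype ⊓ (centralizer ({y} : Set G))) →* centralizer ({a} : Set (centralizer ({y} : Set G))) :=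
    MonoidHom.codRestrict (Subgroup.inclusion (inf_le_right : ((Cfsg.pLayer 2 (centralizer ({x} : Set G))).map (centralizer ({x} : Set G)).subtype ⊓ (centralizer ({y} : Set G))) ≤ (centralizer ({y} : Set G)))) (centralizer ({a} : Set (centralizer ({y} : Set G))))
      (fun d => mem_centralizer_singleton_iff.2 (Subtype.ext
        (mem_centralizer_singleton_iff.1 (hLx (d : G) (mem_inf.1 d.2).1)))) with hι
  have hinj : Function.Injective ι := fun u v h =>
    Subgroup.inclusion_injective _ (congrArg Subtype.val h)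
  have hn : ι.range.Normal := by
    refine ⟨?_⟩
    rintro _ ⟨d, rfl⟩ w
    haveI := ExtTwoLayer.pLayer_normal (G := (centralizer ({x} : Set G))) 2
    have hw : (w : G) ∈ (centralizer ({x} : Set G)) := mem_centralizer_singleton_iff.2
      (congrArg Subtype.val (mem_centralizer_singleton_iff.1 w.2))
    obtain ⟨l, hl, hle⟩ := (mem_inf.1 d.2).1
    have h1 : (w : G) * d * (w : G)⁻¹ ∈ ((Cfsg.pLayer 2 (centralizer ({x} : Set G))).map (centralizer ({x} : Set G)).subtype ⊓ (centralizer ({y} : Set G))) := mem_inf.2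
      ⟨⟨⟨w, hw⟩ * l * ⟨w, hw⟩⁻¹, (inferInstance : (Cfsg.pLayer 2 (centralizer ({x} : Set G))).Normal).conj_mem l hl _,
        by simp [← hle]⟩,
      mul_mem (mul_mem w.1.2 (mem_inf.1 d.2).2) (inv_mem w.1.2)⟩
    exact ⟨⟨_, h1⟩, Subtype.ext (Subtype.ext rfl)⟩
  obtain ⟨h1, h2⟩ := SectionLayer.image_component ha2 _ rfl hB (SectionLayer.isPComponent_map hJ ι hinj hn)
  have hKe : (J.map ι).map (centralizer ({a} : Set (centralizer ({y} : Set G)))).subtype = (J.map ((Cfsg.pLayer 2 (centralizer ({x} : Set G))).map (centralizer ({x} : Set G)).subtype ⊓ (centralizer ({y} : Set G))).subtype).subgroupOf (centralizer ({y} : Set G)) := by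
    ext u
    constructor
    · rintro ⟨_, ⟨d, hd, rfl⟩, rfl⟩
      exact ⟨d, hd, rfl⟩
    · rintro ⟨d, hd, he⟩
      exact ⟨_, ⟨d, hd, rfl⟩, Subtype.ext he⟩
  refine ⟨by rw [← hKe]; exact h1, fun E hE hodd hinv => ?_⟩
  have hEy : E ≤ (centralizer ({y} : Set G)) := hE.trans inf_le_right
  have h := h2 (E.subgroupOf (centralizer ({y} : Set G)))
    (fun e he => mem_centralizer_singleton_iff.2 (Subtype.ext
      (mem_centralizer_singleton_iff.1 (mem_inf.1 (hE he)).1)))
    (by rwa [Nat.card_congr (subgroupOfEquivOfLe hEy).toEquiv])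
    (by
      rw [hKe]
      intro j hj
      refine mem_normalizer_iff.2 fun u => ⟨fun hu => hinv _ hj _ hu, fun hu => ?_⟩
      have := hinv _ ((inv_mem hj : j⁻¹ ∈ (J.map ((Cfsg.pLayer 2 (centralizer ({x} : Set G))).map (centralizer ({x} : Set G)).subtype ⊓ (centralizer ({y} : Set G))).subtype).subgroupOf (centralizer ({y} : Set G)))) _ hu
      simpa [mul_assoc, mem_subgroupOf] using this)
  rw [hKe] at h
  have h' := Subgroup.map_mono (f := (centralizer ({y} : Set G)).subtype) h
  rw [Subgroup.map_commutator, Subgroup.map_subgroupOf_eq_of_le hEy,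
    Subgroup.map_subgroupOf_eq_of_le ((Subgroup.map_subtype_le J).trans inf_le_right)] at h'
  exact h'


end Cfsg.Agent.S1775
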