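import Cfsg.Statements.S1783
import Cfsg.Agent.KGroup.TISquares

set_option autoImplicit false
open Cfsg

namespace Cfsg.Agent.S1783

/-- Let X be a finite group whose generalized Fitting subgroup equals its largest normal 2-subgroup Q, and let A be an abelian 2-subgroup of X such that every conjugate of A equals A or meets A trivially. Let B be the subgroup generated by the squares of the elements of A. Then B lies in Q, and if B is not an elementary abelian 2-group then the normal closure of B in X is commutative. -/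
theorem result {X : Type*} [Group X] [Finite X]
    (hX : Cfsg.generalizedFittingSubgroup X = Cfsg.pCore 2 X) (A : Subgroup X) (hA2 : IsPGroup 2 ↥A) (hAa : IsMulCommutative ↥A)
    (hti : ∀ h : X, A.map (MulAut.conj h).toMonoidHom = A ∨ A.map (MulAut.conj h).toMonoidHom ⊓ A = ⊥) :
    Subgroup.closure ((fun a : X => a ^ 2) '' (A : Set X)) ≤ Cfsg.pCore 2 X ∧
      (¬ Cfsg.IsElementaryAbelian 2 (Subgroup.closure ((fun a : X => a ^ 2) '' (A : Set X))) →
        IsMulCommutative ↥(Subgroup.normalClosure ((fun a : X => a ^ 2) '' (A : Set X)))) := by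
  have hcomm : ∀ a ∈ A, ∀ b ∈ A, a * b = b * a := fun a ha b hb =>
    congrArg Subtype.val (hAa.is_comm.comm (⟨a, ha⟩ : A) ⟨b, hb⟩)
  refine ⟨(Subgroup.closure_le _).2 ?_, fun hne => ?_⟩
  · rintro _ ⟨a, ha, rfl⟩
    exact CfsgLib.TISquares.squares_le_pCore hX hA2 hcomm hti ha
  set B := Subgroup.closure ((fun a : X => a ^ 2) '' (A : Set X)) with hB
  have hBA : B ≤ A := (Subgroup.closure_le _).2 (by
    rintro _ ⟨a, ha, rfl⟩
    exact pow_mem ha 2)
  have hex : ∃ c ∈ A, (c ^ 2) ^ 2 ≠ 1 := by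
    by_contra hno
    push_neg at hno
    refine hne ⟨⟨⟨fun a b => Subtype.ext (hcomm _ (hBA a.2) _ (hBA b.2))⟩⟩, fun b hb => ?_⟩
    induction hb using Subgroup.closure_induction with
    | mem u hu => obtain ⟨a, ha, rfl⟩ := hu; exact hno a ha
    | one => exact one_pow _
    | mul u v hu hv ihu ihv =>
      have : Commute u v := hcomm _ (hBA hu) _ (hBA hv)
      rw [this.mul_pow, ihu, ihv, one_mul]
    | inv u _ ihu => rw [inv_pow, ihu, inv_one]
  obtain ⟨c, hc, hc4⟩ := hex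
  rw [Subgroup.normalClosure]
  refine Subgroup.isMulCommutative_closure ?_
  intro u hu v hv
  obtain ⟨_, ⟨a, ha, rfl⟩, hu⟩ := Group.mem_conjugatesOfSet_iff.1 hu
  obtain ⟨_, ⟨b, hb, rfl⟩, hv⟩ := Group.mem_conjugatesOfSet_iff.1 hv
  obtain ⟨x, rfl⟩ := isConj_iff.1 hu
  obtain ⟨y, rfl⟩ := isConj_iff.1 hv
  have h := CfsgLib.TISquares.conj_squares_commute hX hA2 hcomm hti hc hc4 (y⁻¹ * x) ha hb
  calc x * a ^ 2 * x⁻¹ * (y * b ^ 2 * y⁻¹)
      = y * ((y⁻¹ * x) * a ^ 2 * (y⁻¹ * x)⁻¹ * b ^ 2) * y⁻¹ := by group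
    _ = y * (b ^ 2 * ((y⁻¹ * x) * a ^ 2 * (y⁻¹ * x)⁻¹)) * y⁻¹ := by rw [h]
    _ = y * b ^ 2 * y⁻¹ * (x * a ^ 2 * x⁻¹) := by group

end Cfsg.Agent.S1783
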