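import Cfsg.Statements.S1784
import Cfsg.Agent.Spor3T.Extraspecial
import Cfsg.Agent.Comp.Layer

set_option autoImplicit false
open Cfsg

namespace Cfsg.Agent.S1784

theorem extraspecial_of_mulEquiv {A B : Type*} [Group A] [Group B] (e : A ≃* B)
    (h : Cfsg.IsExtraspecial 2 A) : Cfsg.IsExtraspecial 2 B := by
  obtain ⟨⟨hp, hf, hc⟩, hcard⟩ := h
  have hZ : (Subgroup.center A).map e.toMonoidHom = Subgroup.center B := by
    ext b
    rw [Subgroup.mem_map, Subgroup.mem_center_iff]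
    constructor
    · rintro ⟨a, ha, rfl⟩ g
      obtain ⟨g, rfl⟩ := e.surjective g
      simp only [MulEquiv.coe_toMonoidHom, ← map_mul]
      rw [Subgroup.mem_center_iff.1 ha g]
    · intro hb
      refine ⟨e.symm b, Subgroup.mem_center_iff.2 fun g => ?_, by simp⟩
      apply e.injective
      simpa using hb (e g)
  have hC : (commutator A).map e.toMonoidHom = commutator B := by
    rw [commutator_def, Subgroup.map_commutator, Subgroup.map_top_of_surjective e.toMonoidHom e.surjective,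
      ← commutator_def]
  have hF : (frattini A).map e.toMonoidHom = frattini B := by
    refine le_antisymm (Subgroup.map_le_iff_le_comap.2
      (frattini_le_comap_frattini_of_surjective (φ := e.toMonoidHom) e.surjective)) fun b hb => ?_
    exact ⟨e.symm b, frattini_le_comap_frattini_of_surjective (φ := e.symm.toMonoidHom)
      e.symm.surjective hb, by simp⟩
  refine ⟨⟨hp.of_equiv e, by rw [← hF, hf, hZ], by rw [← hC, hc, hZ]⟩, ?_⟩
  rw [← hZ, Subgroup.card_map_of_injective (f := e.toMonoidHom) e.injective, hcard]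

/-- Let G be a finite group and let z be an involution of G such that Q, the generalized Fitting subgroup of the centralizer C of z, is a 2-group of symplectic type (every characteristic abelian subgroup of Q is cyclic); suppose Q is extraspecial, and view Q inside G. Let α be an involution of C that is not in Q, and let Q₀ be the subgroup of those q ∈ Q whose commutator with α lies in the subgroup generated by z. Then (a) the subgroup generated by the commutators α q α⁻¹ q⁻¹, q ∈ Q, equals the centre of Q₀; and (b) if Q₀ is not contained in the product of the centralizer of α in Q with the subgroup generated by z, then some element of Q conjugates α to α z. -/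
theorem result {G : Type*} [Group G] [Finite G] (z : G) (hz : orderOf z = 2) (hQ : Cfsg.IsOfSymplecticType ↥(Cfsg.generalizedFittingSubgroup ↥(Subgroup.centralizer ({z} : Set G)))) (hE : Cfsg.IsExtraspecial 2 ↥(Cfsg.generalizedFittingSubgroup ↥(Subgroup.centralizer ({z} : Set G))))
    (α : G) (hα : orderOf α = 2) (hαC : α ∈ Subgroup.centralizer ({z} : Set G)) (hαQ : α ∉ (Cfsg.generalizedFittingSubgroup ↥(Subgroup.centralizer ({z} : Set G))).map (Subgroup.centralizer ({z} : Set G)).subtype)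
    (Q₀ : Subgroup G) (hQ₀ : ∀ q : G, q ∈ Q₀ ↔ (q ∈ (Cfsg.generalizedFittingSubgroup ↥(Subgroup.centralizer ({z} : Set G))).map (Subgroup.centralizer ({z} : Set G)).subtype ∧ α * q * α⁻¹ * q⁻¹ ∈ Subgroup.zpowers z)) :
    Subgroup.closure ((fun q : G => α * q * α⁻¹ * q⁻¹) '' ((Cfsg.generalizedFittingSubgroup ↥(Subgroup.centralizer ({z} : Set G))).map (Subgroup.centralizer ({z} : Set G)).subtype : Set G)) = (Subgroup.center ↥Q₀).map Q₀.subtype ∧
      (¬ Q₀ ≤ ((Cfsg.generalizedFittingSubgroup ↥(Subgroup.centralizer ({z} : Set G))).map (Subgroup.centralizer ({z} : Set G)).subtype ⊓ Subgroup.centralizer ({α} : Set G)) ⊔ Subgroup.zpowers z →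
        ∃ q ∈ (Cfsg.generalizedFittingSubgroup ↥(Subgroup.centralizer ({z} : Set G))).map (Subgroup.centralizer ({z} : Set G)).subtype, q * α * q⁻¹ = α * z) := by
  set F := Cfsg.generalizedFittingSubgroup ↥(Subgroup.centralizer ({z} : Set G))
  set Q := F.map (Subgroup.centralizer ({z} : Set G)).subtype with hQdef
  let e := F.equivMapOfInjective (Subgroup.centralizer ({z} : Set G)).subtype
    (Subgroup.subtype_injective _)
  have hE' : Cfsg.IsExtraspecial 2 ↥Q := extraspecial_of_mulEquiv e hE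
  obtain ⟨w, hw⟩ := CfsgLib.Extra2.exists_gen hE'
  have hzC : z ∈ Subgroup.centralizer ({z} : Set G) := Subgroup.mem_centralizer_singleton_iff.2 rfl
  have hQC : Q ≤ Subgroup.centralizer ({z} : Set G) := Subgroup.map_subtype_le _
  have hzQ : z ∈ Q := by
    refine ⟨⟨z, hzC⟩, CfsgLib.Comp.centralizer_Fstar_le ?_, rfl⟩
    rw [Subgroup.mem_centralizer_iff]
    exact fun x _ => Subtype.ext (Subgroup.mem_centralizer_singleton_iff.1 x.2)
  have hzw : z = w := (hw.center_iff z hzQ fun y hy =>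
    (Subgroup.mem_centralizer_singleton_iff.1 (hQC hy)).symm).resolve_left
      fun h => by rw [h, orderOf_one] at hz; omega
  subst hzw
  have hz2 : z * z = 1 := hw.sq
  have hzi : z⁻¹ = z := inv_eq_of_mul_eq_one_right hz2
  have hα2 : α * α = 1 := by rw [← sq, ← hα, pow_orderOf_eq_one]
  have hαi : α⁻¹ = α := inv_eq_of_mul_eq_one_right hα2
  have hαz : α * z = z * α := Subgroup.mem_centralizer_singleton_iff.1 hαC
  have hαN : ∀ x ∈ Q, α * x * α⁻¹ ∈ Q := by
    rintro _ ⟨x, hx, rfl⟩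
    exact ⟨⟨α, hαC⟩ * x * ⟨α, hαC⟩⁻¹, Subgroup.Normal.conj_mem inferInstance x hx _, rfl⟩
  set f : G → G := fun q => α * q * α⁻¹ * q⁻¹ with hf
  have hfQ : ∀ x ∈ Q, f x ∈ Q := fun x hx => mul_mem (hαN x hx) (inv_mem hx)
  have hzc : ∀ u ∈ Subgroup.zpowers z, α * u * α⁻¹ = u := fun u hu => by
    rcases (CfsgLib.Extra2.mem_zpowers_iff hz2).1 hu with rfl | rfl
    · simp
    · rw [hαz, mul_inv_cancel_right]
  set D := Subgroup.closure (f '' (Q : Set G)) with hD
  have hDQ : D ≤ Q := (Subgroup.closure_le _).2 (by rintro _ ⟨x, hx, rfl⟩; exact hfQ x hx)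
  have hQ₀Q : Q₀ ≤ Q := fun x hx => ((hQ₀ x).1 hx).1
  -- commutators with elements of `Q` are fixed by `α`
  have hcomm : ∀ a ∈ Q, ∀ b ∈ Q, α * (a * b * a⁻¹ * b⁻¹) * α⁻¹ = a * b * a⁻¹ * b⁻¹ :=
    fun a ha b hb => hzc _ ((CfsgLib.Extra2.mem_zpowers_iff hz2).2 (hw.comm a ha b hb))
  have hQ₀c : ∀ q₀ ∈ Q₀, ∀ x ∈ Q, q₀ * f x = f x * q₀ := by
    intro q₀ hq₀ x hx
    obtain ⟨hq₀Q, hq₀z⟩ := (hQ₀ q₀).1 hq₀
    set u := α * q₀ * α⁻¹ * q₀⁻¹ with hu
    have huc : ∀ y ∈ Q, u * y = y * u := fun y hy => by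
      rcases (CfsgLib.Extra2.mem_zpowers_iff hz2).1 hq₀z with e | e <;> rw [e]
      · simp
      · exact (hw.comm_z y hy).eq.symm
    have hy := hαN x hx
    set y := α * x * α⁻¹ with hydef
    have key : q₀ * y * q₀⁻¹ * y⁻¹ = q₀ * x * q₀⁻¹ * x⁻¹ := by
      calc q₀ * y * q₀⁻¹ * y⁻¹ = (q₀ * y * q₀⁻¹) * u * u⁻¹ * y⁻¹ := by group
        _ = u * (q₀ * y * q₀⁻¹) * u⁻¹ * y⁻¹ := by
            rw [huc _ (mul_mem (mul_mem hq₀Q hy) (inv_mem hq₀Q))]
        _ = α * (q₀ * x * q₀⁻¹ * x⁻¹) * α⁻¹ := by rw [hu, hydef]; group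
        _ = _ := hcomm q₀ hq₀Q x hx
    have hxy : x⁻¹ * y ∈ Q := mul_mem (inv_mem hx) hy
    have h2 : q₀ * (x⁻¹ * y) = (x⁻¹ * y) * q₀ := by
      calc q₀ * (x⁻¹ * y) = (q₀ * x * q₀⁻¹)⁻¹ * (q₀ * y * q₀⁻¹) * q₀ := by group
        _ = x⁻¹ * ((q₀ * x * q₀⁻¹ * x⁻¹)⁻¹ * (q₀ * y * q₀⁻¹ * y⁻¹)) * y * q₀ := by group
        _ = (x⁻¹ * y) * q₀ := by rw [key]; group
    rcases CfsgLib.Extra2.conj_eq hw hx hxy with e | e
    · have : f x = x⁻¹ * y := by
        calc f x = x * (x⁻¹ * y) * x⁻¹ := by rw [hydef, hf]; group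
          _ = x⁻¹ * y := e
      rw [this, h2]
    · have : f x = z * (x⁻¹ * y) := by
        calc f x = x * (x⁻¹ * y) * x⁻¹ := by rw [hydef, hf]; group
          _ = _ := e
      rw [this, ← mul_assoc, (hw.comm_z q₀ hq₀Q).eq, mul_assoc, h2, ← mul_assoc, mul_assoc]
  have hCD : Q ⊓ Subgroup.centralizer (D : Set G) = Q₀ := by
    refine le_antisymm ?_ (le_inf hQ₀Q fun q₀ hq₀ => ?_)
    · rintro x ⟨hx, hxD⟩
      rw [hD, Subgroup.centralizer_closure] at hxD
      refine (hQ₀ x).2 ⟨hx, (CfsgLib.Extra2.mem_zpowers_iff hz2).2 (hw.center_iff _ (hfQ x hx) ?_)⟩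
      intro y hy
      have hu := hαN (α⁻¹ * y * α) (by rw [hαi]; simpa [hαi] using hαN y hy)
      set v := α⁻¹ * y * α with hv
      have hvQ : v ∈ Q := by rw [hv, hαi]; simpa [hαi] using hαN y hy
      have hfv : x * f v = f v * x := (Subgroup.mem_centralizer_iff.1 hxD _ ⟨v, hvQ, rfl⟩).symm
      have h1 : (α * x * α⁻¹) * y * (α * x * α⁻¹)⁻¹ * y⁻¹ = x * v * x⁻¹ * v⁻¹ := by
        rw [← hcomm x hx v hvQ, hv]; group
      have h2 : x * y * x⁻¹ * y⁻¹ = x * v * x⁻¹ * v⁻¹ := by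
        calc x * y * x⁻¹ * y⁻¹ = (x * f v) * v * x⁻¹ * y⁻¹ := by rw [hf, hv]; group
          _ = f v * (x * v * x⁻¹ * v⁻¹) * (v * y⁻¹) := by rw [hfv]; group
          _ = (x * v * x⁻¹ * v⁻¹) * f v * (v * y⁻¹) := by
              rcases hw.comm x hx v hvQ with e | e <;> rw [e]
              · simp
              · rw [(hw.comm_z (f v) (hfQ v hvQ)).eq]
          _ = x * v * x⁻¹ * v⁻¹ := by rw [hf, hv]; group
      show f x * y = y * f x
      have h3 : x * y * x⁻¹ = (α * x * α⁻¹) * y * (α * x * α⁻¹)⁻¹ :=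
        mul_right_cancel (b := y⁻¹) (h2.trans h1.symm)
      have h4 : (x⁻¹ * (α * x * α⁻¹)) * y = y * (x⁻¹ * (α * x * α⁻¹)) := by
        calc (x⁻¹ * (α * x * α⁻¹)) * y
            = x⁻¹ * ((α * x * α⁻¹) * y * (α * x * α⁻¹)⁻¹) * (α * x * α⁻¹) := by group
          _ = y * (x⁻¹ * (α * x * α⁻¹)) := by rw [← h3]; group
      have hxu : x⁻¹ * (α * x * α⁻¹) ∈ Q := mul_mem (inv_mem hx) (hαN x hx)
      rcases CfsgLib.Extra2.conj_eq hw hx hxu with e | e
      · have : f x = x⁻¹ * (α * x * α⁻¹) := by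
          rw [← e, hf]; group
        rw [this, h4]
      · have : f x = z * (x⁻¹ * (α * x * α⁻¹)) := by
          rw [← e, hf]; group
        rw [this, mul_assoc, h4, ← mul_assoc, ← (hw.comm_z y hy).eq, mul_assoc]
    · rw [hD, Subgroup.centralizer_closure, Subgroup.mem_centralizer_iff]
      rintro _ ⟨x, hx, rfl⟩
      exact (hQ₀c q₀ hq₀ x hx).symm
  have hzD : z ∈ D := by
    have hne : ∃ x ∈ Q, f x ≠ 1 := by
      by_contra hno
      push Not at hno
      refine hαQ ⟨⟨α, hαC⟩, CfsgLib.Comp.centralizer_Fstar_le ?_, rfl⟩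
      rw [Subgroup.mem_centralizer_iff]
      intro x hx
      apply Subtype.ext
      have := hno x ⟨x, hx, rfl⟩
      exact (mul_inv_eq_iff_eq_mul.1 (mul_inv_eq_one.1 this)).symm
    obtain ⟨x, hx, hx1⟩ := hne
    have hfx : f x ∈ D := Subgroup.subset_closure ⟨x, hx, rfl⟩
    by_cases hxz : f x = z
    · exact hxz ▸ hfx
    obtain ⟨y, hy, hy'⟩ := CfsgLib.Extra2.exists_conj_mul hw (hfQ x hx) hx1 hxz
    have h1 : y * f x * y⁻¹ ∈ D := by
      have : y * f x * y⁻¹ = (f y)⁻¹ * f (y * x) := by rw [hf]; group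
      rw [this]
      exact mul_mem (inv_mem (Subgroup.subset_closure ⟨y, hy, rfl⟩))
        (Subgroup.subset_closure ⟨y * x, mul_mem hy hx, rfl⟩)
    rw [hy'] at h1
    simpa using mul_mem (inv_mem hfx) h1
  have hDQ₀ : D ≤ Q₀ := by
    rw [hD, Subgroup.closure_le]
    rintro _ ⟨x, hx, rfl⟩
    refine (hQ₀ _).2 ⟨hfQ x hx, ?_⟩
    have : α * f x * α⁻¹ = (f x)⁻¹ := by
      rw [hf, hαi]
      calc α * (α * x * α * x⁻¹) * α = (α * α) * (x * α * x⁻¹ * α) := by group
        _ = (α * x * α * x⁻¹)⁻¹ := by rw [hα2]; simp [hαi, mul_assoc]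
    rw [this, CfsgLib.Extra2.mem_zpowers_iff hz2]
    rcases hw.square _ (hfQ x hx) with e | e
    · left; rw [← mul_inv_rev, e, inv_one]
    · right; rw [← mul_inv_rev, e, hzi]
  refine ⟨?_, fun hnot => ?_⟩
  · have h := CfsgLib.Extra2.centralizer_centralizer hw hzD hDQ
    rw [hCD] at h
    rw [CfsgLib.Comp.map_center_eq]
    refine le_antisymm (le_inf hDQ₀ ?_) ?_
    · exact h.symm.le.trans inf_le_right
    · exact (inf_le_inf_right _ hQ₀Q).trans h.le
  · obtain ⟨q, hq, hqn⟩ := SetLike.not_le_iff_exists.1 hnot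
    obtain ⟨hqQ, hqz⟩ := (hQ₀ q).1 hq
    refine ⟨q, hqQ, ?_⟩
    rcases (CfsgLib.Extra2.mem_zpowers_iff hz2).1 hqz with e | e
    · refine absurd (Subgroup.mem_sup_left (Subgroup.mem_inf.2 ⟨hqQ, Subgroup.mem_centralizer_singleton_iff.2 ?_⟩)) hqn
      exact (mul_inv_eq_iff_eq_mul.1 (mul_inv_eq_one.1 e)).symm
    · have h1 : α * q * α = z * q := by
        calc α * q * α = (α * q * α⁻¹ * q⁻¹) * q := by rw [hαi]; group
          _ = z * q := by rw [e]
      calc q * α * q⁻¹ = α * (α * q * α) * q⁻¹ := by simp [← mul_assoc, hα2]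
        _ = α * z := by rw [h1]; group

end Cfsg.Agent.S1784
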