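import Cfsg.Statements.S1785
import Cfsg.Agent.Signalizer.Basic

set_option autoImplicit false
open Cfsg

namespace Cfsg.Agent.S1785

open Subgroup
open scoped commutatorElement

variable {X : Type*} [Group X] [Finite X]

theorem comm_of_mem {W : Subgroup X} (hW : Cfsg.IsElementaryAbelian 2 W) {a b : X} (ha : a ∈ W)
    (hb : b ∈ W) : a * b = b * a := CfsgLib.Signalizer.commute hW ha hb

theorem inv_of_mem {W : Subgroup X} (hW : Cfsg.IsElementaryAbelian 2 W) {a : X} (ha : a ∈ W) :
    a⁻¹ = a := inv_eq_of_mul_eq_one_left (by rw [← sq]; exact hW.2 a ha)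

/-- Adjoining a commuting involution. -/
theorem adjoin {V : Subgroup X} (hV : Cfsg.IsElementaryAbelian 2 V) {x : X} (hx : x ^ 2 = 1)
    (hxV : x ∉ V) (hc : ∀ v ∈ V, x * v = v * x) :
    Cfsg.IsElementaryAbelian 2 (V ⊔ zpowers x : Subgroup X) ∧
      Nat.card ↥(V ⊔ zpowers x) = 2 * Nat.card V := by
  have : Fact (Nat.Prime 2) := ⟨Nat.prime_two⟩
  have hxo : orderOf x = 2 := orderOf_eq_prime hx fun h => hxV (h ▸ one_mem _)
  have hn : zpowers x ≤ normalizer (V : Set X) := by
    refine le_trans (zpowers_le.2 (mem_centralizer_iff.2 fun v hv => (hc v hv).symm)) ?_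
    exact centralizer_le_normalizer _
  have hdisj : zpowers x ⊓ V = ⊥ := by
    by_contra hne
    obtain ⟨⟨y, hy, hyV⟩, hy1⟩ := ne_bot_iff_exists_ne_one.1 hne
    have h1 : orderOf y = 2 := orderOf_eq_prime (hV.2 y hyV) fun h => hy1 (Subtype.ext h)
    have h2 : zpowers y = zpowers x := eq_of_le_of_card_ge (zpowers_le.2 hy)
      (by rw [Nat.card_zpowers, Nat.card_zpowers, hxo, h1])
    exact hxV (zpowers_le.2 hyV (h2 ▸ mem_zpowers x))
  refine ⟨?_, ?_⟩
  · have hmem : ∀ g ∈ V ⊔ zpowers x, ∃ v ∈ V, ∃ i : ℤ, g = v * x ^ i := by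
      intro g hg
      rw [← SetLike.mem_coe, coe_mul_of_right_le_normalizer_left _ _ hn, Set.mem_mul] at hg
      obtain ⟨v, hv, _, ⟨i, rfl⟩, rfl⟩ := hg
      exact ⟨v, hv, i, rfl⟩
    refine ⟨isMulCommutative_iff.mpr ?_, ?_⟩
    · rintro ⟨a, ha⟩ ⟨b, hb⟩
      obtain ⟨v, hv, i, rfl⟩ := hmem a ha
      obtain ⟨w, hw, j, rfl⟩ := hmem b hb
      apply Subtype.ext
      show v * x ^ i * (w * x ^ j) = w * x ^ j * (v * x ^ i)
      have c1 : Commute (x ^ i) w := (show Commute x w from hc w hw).zpow_left i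
      have c2 : Commute (x ^ j) v := (show Commute x v from hc v hv).zpow_left j
      have c3 : Commute v w := comm_of_mem hV hv hw
      exact (Commute.mul_left (c3.mul_right c2.symm) (c1.mul_right (Commute.zpow_zpow_self x i j))).eq
    · intro g hg
      obtain ⟨v, hv, i, rfl⟩ := hmem g hg
      have c : Commute v (x ^ i) := ((show Commute x v from hc v hv).symm).zpow_right i
      rw [c.mul_pow, hV.2 v hv, one_mul, ← zpow_natCast, zpow_comm, zpow_natCast, hx, one_zpow]
  · rw [sup_comm, CfsgLib.Solvable.card_sup_of_disjoint hn hdisj, Nat.card_zpowers, hxo]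

theorem exists_notMem {W U : Subgroup X} (h : Nat.card U < Nat.card W) : ∃ x ∈ W, x ∉ U := by
  by_contra hc
  push Not at hc
  exact absurd (card_le_of_le hc) (by omega)

theorem exists_card_eight {W V : Subgroup X} (hW : Cfsg.IsElementaryAbelian 2 W) (hVW : V ≤ W)
    (hV : Nat.card V = 4) (hW8 : 4 < Nat.card W) :
    ∃ D : Subgroup X, V ≤ D ∧ D ≤ W ∧ Cfsg.IsElementaryAbelian 2 D ∧ Nat.card D = 8 := by
  obtain ⟨x, hxW, hxV⟩ := exists_notMem (W := W) (U := V) (by omega)
  have hVe : Cfsg.IsElementaryAbelian 2 V := CfsgLib.Signalizer.of_le hW hVW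
  obtain ⟨h1, h2⟩ := adjoin hVe (hW.2 x hxW) hxV fun v hv => comm_of_mem hW hxW (hVW hv)
  exact ⟨_, le_sup_left, sup_le hVW (zpowers_le.2 hxW), h1, by omega⟩

/-- An element whose square is trivial fixes at least the square root of an elementary group. -/
theorem card_le_sq_fixed {U : Subgroup X} (hU : Cfsg.IsElementaryAbelian 2 U) {a : X}
    (ha : a ^ 2 = 1) (hn : ∀ x ∈ U, a * x * a⁻¹ ∈ U) :
    Nat.card U ≤ Nat.card ↥(U ⊓ centralizer {a}) * Nat.card ↥(U ⊓ centralizer {a}) := by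
  have hainv : a⁻¹ = a := inv_eq_of_mul_eq_one_left (by rw [← sq]; exact ha)
  let φ : U →* U := MonoidHom.mk' (fun x => ⟨x * (a * x * a⁻¹), mul_mem x.2 (hn x x.2)⟩)
    fun x y => Subtype.ext (by
      show (x : X) * y * (a * ((x : X) * y) * a⁻¹) = x * (a * x * a⁻¹) * (y * (a * y * a⁻¹))
      calc (x : X) * y * (a * ((x : X) * y) * a⁻¹)
          = x * (y * (a * x * a⁻¹)) * (a * y * a⁻¹) := by group
        _ = x * ((a * x * a⁻¹) * y) * (a * y * a⁻¹) := by
            rw [comm_of_mem hU y.2 (hn x x.2)]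
        _ = _ := by group)
  have hker : Nat.card φ.ker ≤ Nat.card ↥(U ⊓ centralizer {a}) := by
    rw [← card_map_of_injective U.subtype_injective]
    refine card_le_of_le ?_
    rintro _ ⟨x, hx, rfl⟩
    refine ⟨x.2, mem_centralizer_singleton_iff.2 ?_⟩
    have h := congrArg Subtype.val (show φ x = 1 from hx)
    have h' : a * x * a⁻¹ = (x : X) := by
      rw [eq_inv_of_mul_eq_one_right (show (x : X) * (a * x * a⁻¹) = 1 from h), inv_of_mem hU x.2]
    exact (mul_inv_eq_iff_eq_mul.1 h').symm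
  have hran : Nat.card φ.range ≤ Nat.card ↥(U ⊓ centralizer {a}) := by
    rw [← card_map_of_injective U.subtype_injective]
    refine card_le_of_le ?_
    rintro _ ⟨_, ⟨x, rfl⟩, rfl⟩
    refine ⟨(φ x).2, mem_centralizer_singleton_iff.2 ?_⟩
    show ((x : X) * (a * x * a⁻¹)) * a = a * ((x : X) * (a * x * a⁻¹))
    calc ((x : X) * (a * x * a⁻¹)) * a = (x * (a * x * a⁻¹)) * a := rfl
      _ = ((a * x * a⁻¹) * x) * a := by rw [comm_of_mem hU x.2 (hn x x.2)]
      _ = a * (x * (a⁻¹ * x * a)) := by group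
      _ = _ := by rw [hainv]
  calc Nat.card U = Nat.card φ.ker * Nat.card φ.range := by rw [← index_ker, card_mul_index]
    _ ≤ _ := Nat.mul_le_mul hker hran

/-- Let X be a finite 2-group having a normal elementary abelian subgroup of order at least 32. Then (a) for any two elementary abelian subgroups A, B of X of order 8 there is a chain A = A₁, A₂, …, Aₙ = B of elementary abelian subgroups of order 8 in which consecutive members commute elementwise; and (b) every elementary abelian subgroup of X of order 4 is contained in an elementary abelian subgroup of order 8. -/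
theorem result {X : Type*} [Group X] [Finite X]
    (hX : IsPGroup 2 X) (E : Subgroup X) [E.Normal] (hE : Cfsg.IsElementaryAbelian 2 E) (hE32 : 32 ≤ Nat.card ↥E) :
    (∀ A B : Subgroup X, Cfsg.IsElementaryAbelian 2 A → Nat.card ↥A = 8 → Cfsg.IsElementaryAbelian 2 B → Nat.card ↥B = 8 →
        Relation.ReflTransGen
          (fun C D : Subgroup X => Cfsg.IsElementaryAbelian 2 C ∧ Nat.card ↥C = 8 ∧ Cfsg.IsElementaryAbelian 2 D ∧ Nat.card ↥D = 8 ∧ ⁅C, D⁆ = ⊥)
          A B) ∧
      (∀ V : Subgroup X, Cfsg.IsElementaryAbelian 2 V → Nat.card ↥V = 4 →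
        ∃ A : Subgroup X, V ≤ A ∧ Cfsg.IsElementaryAbelian 2 A ∧ Nat.card ↥A = 8) := by
  haveI : Fact (Nat.Prime 2) := ⟨Nat.prime_two⟩
  have hinv : ∀ a x : X, x ∈ E → a * x * a⁻¹ ∈ E := fun a x hx => Normal.conj_mem ‹_› x hx a
  have sq : ∀ {k c : ℕ}, k * k < c → ∀ {d : ℕ}, c ≤ d * d → k < d := by
    intro k c h d hd
    by_contra hcon
    have := Nat.mul_le_mul (Nat.not_lt.1 hcon) (Nat.not_lt.1 hcon)
    omega
  -- fixed points in `E` of one, two, three commuting involutions
  have step : ∀ (U : Subgroup X), U ≤ E → ∀ a : X, a ^ 2 = 1 → (∀ x ∈ U, a * x * a⁻¹ ∈ U) →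
      Nat.card U ≤ Nat.card ↥(U ⊓ centralizer {a}) * Nat.card ↥(U ⊓ centralizer {a}) :=
    fun U hU a ha hn => card_le_sq_fixed (CfsgLib.Signalizer.of_le hE hU) ha hn
  have inv2 : ∀ (U : Subgroup X) (a b : X), a * b = b * a → (∀ x ∈ U, b * x * b⁻¹ ∈ U) →
      ∀ x ∈ U ⊓ centralizer {a}, b * x * b⁻¹ ∈ U ⊓ centralizer {a} := by
    intro U a b hab hb x hx
    refine ⟨hb x hx.1, mem_centralizer_singleton_iff.2 ?_⟩
    have hxa : x * a = a * x := mem_centralizer_singleton_iff.1 hx.2
    have hab' : a * b⁻¹ = b⁻¹ * a := ((show Commute a b from hab).inv_right).eq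
    calc b * x * b⁻¹ * a = b * (x * a) * b⁻¹ := by simp only [mul_assoc, hab']
      _ = b * (a * x) * b⁻¹ := by rw [hxa]
      _ = _ := by rw [← mul_assoc b, ← hab]; group
  have c1 : ∀ a : X, a ^ 2 = 1 → 5 < Nat.card ↥(E ⊓ centralizer {a}) := fun a ha =>
    sq (show 5 * 5 < 32 by norm_num) (hE32.trans (step E le_rfl a ha fun x hx => hinv a x hx))
  have c2 : ∀ a b : X, a ^ 2 = 1 → b ^ 2 = 1 → a * b = b * a →
      2 < Nat.card ↥(E ⊓ centralizer {a} ⊓ centralizer {b}) := by
    intro a b ha hb hab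
    have h1 := c1 a ha
    have h2 := step _ inf_le_left b hb (inv2 E a b hab fun x hx => hinv b x hx)
    exact sq (show 2 * 2 < 6 by norm_num) (by omega)
  have c3 : ∀ a b c : X, a ^ 2 = 1 → b ^ 2 = 1 → c ^ 2 = 1 → a * b = b * a → a * c = c * a →
      b * c = c * b → 1 < Nat.card ↥(E ⊓ centralizer {a} ⊓ centralizer {b} ⊓ centralizer {c}) := by
    intro a b c ha hb hc hab hac hbc
    have h1 := c2 a b ha hb hab
    have h2 := step _ (inf_le_left.trans inf_le_left) c hc
      (inv2 _ b c hbc (inv2 E a c hac fun x hx => hinv c x hx))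
    exact sq (show 1 * 1 < 3 by norm_num) (by omega)
  set R := fun C D : Subgroup X => Cfsg.IsElementaryAbelian 2 C ∧ Nat.card ↥C = 8 ∧
    Cfsg.IsElementaryAbelian 2 D ∧ Nat.card ↥D = 8 ∧ ⁅C, D⁆ = ⊥
  have hRof : ∀ {C D : Subgroup X}, Cfsg.IsElementaryAbelian 2 C → Nat.card C = 8 →
      Cfsg.IsElementaryAbelian 2 D → Nat.card D = 8 → (∀ c ∈ C, ∀ d ∈ D, c * d = d * c) → R C D := by
    intro C D h1 h2 h3 h4 h5
    refine ⟨h1, h2, h3, h4, eq_bot_iff.2 (commutator_le.2 fun c hc d hd => ?_)⟩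
    exact mem_bot.2 (commutatorElement_eq_one_iff_mul_comm.2 (h5 c hc d hd))
  have hsym : ∀ C D, R C D → R D C := fun C D h =>
    ⟨h.2.2.1, h.2.2.2.1, h.1, h.2.1, by rw [commutator_comm]; exact h.2.2.2.2⟩
  have hfour : ∀ {W : Subgroup X}, Cfsg.IsElementaryAbelian 2 W → ∀ z ∈ W, ∀ u ∈ W, z ≠ 1 →
      u ∉ zpowers z → Cfsg.IsElementaryAbelian 2 (zpowers z ⊔ zpowers u : Subgroup X) ∧
        Nat.card ↥(zpowers z ⊔ zpowers u) = 4 := by
    intro W hW z hz u hu hz1 huz
    obtain ⟨h1, h2⟩ := adjoin (CfsgLib.Signalizer.of_le hW (zpowers_le.2 hz)) (hW.2 u hu) huz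
      fun v hv => comm_of_mem hW hu (zpowers_le.2 hz hv)
    refine ⟨h1, ?_⟩
    rw [h2, CfsgLib.Signalizer.card_zpowers_eq hW hz hz1]
  constructor
  · -- connection to a subgroup of `E`
    have inE : ∀ A : Subgroup X, Cfsg.IsElementaryAbelian 2 A → Nat.card A = 8 →
        ∀ V : Subgroup X, V ≤ A → V ≤ E → Nat.card V = 4 →
        ∃ D : Subgroup X, D ≤ E ∧ Relation.ReflTransGen R A D ∧ Relation.ReflTransGen R D A := by
      intro A hA hA8 V hVA hVE hV
      obtain ⟨a, haA, haV⟩ := exists_notMem (W := A) (U := V) (by omega)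
      have hW : V ≤ E ⊓ centralizer {a} := le_inf hVE fun v hv =>
        mem_centralizer_singleton_iff.2 (comm_of_mem hA (hVA hv) haA)
      obtain ⟨D, hVD, hDW, hD, hD8⟩ := exists_card_eight
        (CfsgLib.Signalizer.of_le hE (inf_le_left : E ⊓ centralizer {a} ≤ E)) hW hV
        (by have := c1 a (hA.2 a haA); omega)
      have hAeq : V ⊔ zpowers a = A := by
        obtain ⟨-, h2⟩ := adjoin (CfsgLib.Signalizer.of_le hA hVA) (hA.2 a haA) haV
          fun v hv => comm_of_mem hA haA (hVA hv)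
        exact eq_of_le_of_card_ge (sup_le hVA (zpowers_le.2 haA)) (by omega)
      have hcom : A ≤ centralizer (D : Set X) := by
        rw [← hAeq]
        refine sup_le (fun v hv => mem_centralizer_iff.2 fun d hd =>
          comm_of_mem hE (hDW hd).1 (hVE hv)) (zpowers_le.2 (mem_centralizer_iff.2 fun d hd =>
          mem_centralizer_singleton_iff.1 (hDW hd).2))
      have hR : R A D := hRof hA hA8 hD hD8 fun c hc d hd =>
        (mem_centralizer_iff.1 (hcom hc) d hd).symm
      exact ⟨D, hDW.trans inf_le_left, .single hR, .single (hsym _ _ hR)⟩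
    have main : ∀ A : Subgroup X, Cfsg.IsElementaryAbelian 2 A → Nat.card A = 8 →
        ∀ z ∈ A, z ∈ E → z ≠ 1 →
        ∃ D : Subgroup X, D ≤ E ∧ Relation.ReflTransGen R A D ∧ Relation.ReflTransGen R D A := by
      intro A hA hA8 z hzA hzE hz1
      obtain ⟨u, huA, huz⟩ := exists_notMem (W := A) (U := zpowers z) (by
        rw [CfsgLib.Signalizer.card_zpowers_eq hA hzA hz1]; omega)
      obtain ⟨hV, hV4⟩ := hfour hA z hzA u huA hz1 huz
      by_cases huE : u ∈ E
      · exact inE A hA hA8 _ (sup_le (zpowers_le.2 hzA) (zpowers_le.2 huA))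
          (sup_le (zpowers_le.2 hzE) (zpowers_le.2 huE)) hV4
      obtain ⟨w, hwA, hwV⟩ := exists_notMem (W := A) (U := zpowers z ⊔ zpowers u) (by omega)
      have hAeq : zpowers z ⊔ zpowers u ⊔ zpowers w = A := by
        obtain ⟨-, h2⟩ := adjoin hV (hA.2 w hwA) hwV fun v hv => comm_of_mem hA hwA
          (sup_le (zpowers_le.2 hzA) (zpowers_le.2 huA) hv)
        exact eq_of_le_of_card_ge
          (sup_le (sup_le (zpowers_le.2 hzA) (zpowers_le.2 huA)) (zpowers_le.2 hwA)) (by omega)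
      obtain ⟨z', hz', hz'z⟩ := exists_notMem (W := E ⊓ centralizer {u} ⊓ centralizer {w})
        (U := zpowers z) (by
          rw [CfsgLib.Signalizer.card_zpowers_eq hA hzA hz1]
          exact c2 u w (hA.2 u huA) (hA.2 w hwA) (comm_of_mem hA huA hwA))
      obtain ⟨hVE, hVE4⟩ := hfour hE z hzE z' hz'.1.1 hz1 hz'z
      have hVle : zpowers z ⊔ zpowers z' ≤ E := sup_le (zpowers_le.2 hzE) (zpowers_le.2 hz'.1.1)
      have hVc : zpowers z ⊔ zpowers z' ≤ centralizer (A : Set X) := by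
        refine sup_le (zpowers_le.2 (mem_centralizer_iff.2 fun a ha => comm_of_mem hA ha hzA))
          (zpowers_le.2 (mem_centralizer_iff.2 ?_))
        have h : A ≤ centralizer {z'} := by
          rw [← hAeq]
          refine sup_le (sup_le ?_ ?_) ?_ <;> refine zpowers_le.2 (mem_centralizer_singleton_iff.2 ?_)
          · exact comm_of_mem hE hzE hz'.1.1
          · exact (mem_centralizer_singleton_iff.1 hz'.1.2).symm
          · exact (mem_centralizer_singleton_iff.1 hz'.2).symm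
        exact fun a ha => mem_centralizer_singleton_iff.1 (h ha)
      obtain ⟨hA', hA'8⟩ := adjoin hVE (hA.2 u huA) (fun h => huE (hVle h))
        fun v hv => mem_centralizer_iff.1 (hVc hv) u huA
      have hcom : A ≤ centralizer ((zpowers z ⊔ zpowers z' ⊔ zpowers u : Subgroup X) : Set X) :=
        le_centralizer_iff.1 (sup_le hVc
          (zpowers_le.2 (mem_centralizer_iff.2 fun a ha => comm_of_mem hA ha huA)))
      have hR : R A (zpowers z ⊔ zpowers z' ⊔ zpowers u) :=
        hRof hA hA8 hA' (by omega) fun c hc d hd => (mem_centralizer_iff.1 (hcom hc) d hd).symm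
      obtain ⟨D, hD, h1, h2⟩ := inE _ hA' (by omega) _ le_sup_left hVle hVE4
      exact ⟨D, hD, h1.head hR, h2.tail (hsym _ _ hR)⟩
    have all : ∀ A : Subgroup X, Cfsg.IsElementaryAbelian 2 A → Nat.card A = 8 →
        ∃ D : Subgroup X, D ≤ E ∧ Relation.ReflTransGen R A D ∧ Relation.ReflTransGen R D A := by
      intro A hA hA8
      by_cases hne : ∃ z ∈ A, z ∈ E ∧ z ≠ 1
      · obtain ⟨z, h1, h2, h3⟩ := hne
        exact main A hA hA8 z h1 h2 h3
      push Not at hne
      obtain ⟨u, huA, hu1⟩ := exists_notMem (W := A) (U := ⊥) (by rw [card_bot]; omega)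
      rw [mem_bot] at hu1
      obtain ⟨w, hwA, hwu⟩ := exists_notMem (W := A) (U := zpowers u) (by
        rw [CfsgLib.Signalizer.card_zpowers_eq hA huA hu1]; omega)
      obtain ⟨hV, hV4⟩ := hfour hA u huA w hwA hu1 hwu
      have hVA : zpowers u ⊔ zpowers w ≤ A := sup_le (zpowers_le.2 huA) (zpowers_le.2 hwA)
      obtain ⟨t, htA, htV⟩ := exists_notMem (W := A) (U := zpowers u ⊔ zpowers w) (by omega)
      have hAeq : zpowers u ⊔ zpowers w ⊔ zpowers t = A := by
        obtain ⟨-, h2⟩ := adjoin hV (hA.2 t htA) htV fun v hv => comm_of_mem hA htA (hVA hv)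
        exact eq_of_le_of_card_ge (sup_le hVA (zpowers_le.2 htA)) (by omega)
      obtain ⟨z, hz, hz1⟩ := exists_notMem
        (W := E ⊓ centralizer {u} ⊓ centralizer {w} ⊓ centralizer {t}) (U := ⊥) (by
          rw [card_bot]
          exact c3 u w t (hA.2 u huA) (hA.2 w hwA) (hA.2 t htA) (comm_of_mem hA huA hwA)
            (comm_of_mem hA huA htA) (comm_of_mem hA hwA htA))
      rw [mem_bot] at hz1
      have h : A ≤ centralizer {z} := by
        rw [← hAeq]
        refine sup_le (sup_le ?_ ?_) ?_ <;> refine zpowers_le.2 (mem_centralizer_singleton_iff.2 ?_)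
        · exact (mem_centralizer_singleton_iff.1 hz.1.1.2).symm
        · exact (mem_centralizer_singleton_iff.1 hz.1.2).symm
        · exact (mem_centralizer_singleton_iff.1 hz.2).symm
      have hzV : z ∉ zpowers u ⊔ zpowers w := fun hzV => hz1 (hne z (hVA hzV) hz.1.1.1)
      obtain ⟨hA', hA'8⟩ := adjoin hV (hE.2 z hz.1.1.1) hzV fun v hv =>
        (mem_centralizer_singleton_iff.1 (h (hVA hv))).symm
      have hR : R A (zpowers u ⊔ zpowers w ⊔ zpowers z) := by
        refine hRof hA hA8 hA' (by omega) fun c hc d hd => ?_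
        have hcom : zpowers u ⊔ zpowers w ⊔ zpowers z ≤ centralizer (A : Set X) :=
          sup_le (fun v hv => mem_centralizer_iff.2 fun a ha => comm_of_mem hA ha (hVA hv))
            (zpowers_le.2 (mem_centralizer_iff.2 fun a ha => mem_centralizer_singleton_iff.1 (h ha)))
        exact mem_centralizer_iff.1 (hcom hd) c hc
      obtain ⟨D, hD, h1, h2⟩ := main _ hA' (by omega) z (mem_sup_right (mem_zpowers z)) hz.1.1.1 hz1
      exact ⟨D, hD, h1.head hR, h2.tail (hsym _ _ hR)⟩
    intro A B hA hA8 hB hB8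
    obtain ⟨D, hD, h1, h1'⟩ := all A hA hA8
    obtain ⟨D', hD', h2, h2'⟩ := all B hB hB8
    have h8 : ∀ {C : Subgroup X}, Relation.ReflTransGen R A C →
        Cfsg.IsElementaryAbelian 2 C ∧ Nat.card C = 8 := by
      intro C hC
      rcases hC.cases_tail with h | ⟨C', -, h⟩
      · exact h ▸ ⟨hA, hA8⟩
      · exact ⟨h.2.2.1, h.2.2.2.1⟩
    have hD'8 : Cfsg.IsElementaryAbelian 2 D' ∧ Nat.card D' = 8 := by
      rcases h2.cases_tail with h | ⟨C', -, h⟩
      · exact h ▸ ⟨hB, hB8⟩
      · exact ⟨h.2.2.1, h.2.2.2.1⟩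
    exact (h1.tail (hRof (h8 h1).1 (h8 h1).2 hD'8.1 hD'8.2
      fun c hc d hd => comm_of_mem hE (hD hc) (hD' hd))).trans h2'
  · intro V hV hV4
    obtain ⟨u, huV, hu1⟩ := exists_notMem (W := V) (U := ⊥) (by rw [card_bot]; omega)
    rw [mem_bot] at hu1
    obtain ⟨w, hwV, hwu⟩ := exists_notMem (W := V) (U := zpowers u) (by
      rw [CfsgLib.Signalizer.card_zpowers_eq hV huV hu1]; omega)
    obtain ⟨-, hW4⟩ := hfour hV u huV w hwV hu1 hwu
    have hVeq : zpowers u ⊔ zpowers w = V :=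
      eq_of_le_of_card_ge (sup_le (zpowers_le.2 huV) (zpowers_le.2 hwV)) (by omega)
    set C := E ⊓ centralizer {u} ⊓ centralizer {w}
    have hC := c2 u w (hV.2 u huV) (hV.2 w hwV) (comm_of_mem hV huV hwV)
    by_cases hCV : C ≤ V
    · obtain ⟨k, hk⟩ := IsPGroup.iff_card.1
        (CfsgLib.Signalizer.isPGroup (CfsgLib.Signalizer.of_le hE
          (inf_le_left.trans inf_le_left : C ≤ E)))
      have h4 := card_le_of_le hCV
      have hk2 : 2 ≤ k := by
        by_contra hc
        have : (2 : ℕ) ^ k ≤ 2 ^ 1 := Nat.pow_le_pow_right (by norm_num) (by omega)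
        omega
      have : (2 : ℕ) ^ 2 ≤ 2 ^ k := Nat.pow_le_pow_right (by norm_num) hk2
      have hc4 : 4 ≤ Nat.card C := hk.symm ▸ this
      have hCeq : C = V := eq_of_le_of_card_ge hCV (by omega)
      have hVE : V ≤ E := hCeq ▸ inf_le_left.trans inf_le_left
      obtain ⟨D, h1, -, h3, h4⟩ := exists_card_eight hE hVE hV4 (by omega)
      exact ⟨D, h1, h3, h4⟩
    · obtain ⟨e, heC, heV⟩ := SetLike.not_le_iff_exists.1 hCV
      have hec : V ≤ centralizer {e} := by
        rw [← hVeq]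
        refine sup_le ?_ ?_ <;> refine zpowers_le.2 (mem_centralizer_singleton_iff.2 ?_)
        · exact (mem_centralizer_singleton_iff.1 heC.1.2).symm
        · exact (mem_centralizer_singleton_iff.1 heC.2).symm
      obtain ⟨hA, hA8⟩ := adjoin hV (hE.2 e heC.1.1) heV fun v hv =>
        (mem_centralizer_singleton_iff.1 (hec hv)).symm
      exact ⟨_, le_sup_left, hA, by omega⟩

end Cfsg.Agent.S1785
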