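import Cfsg.Statements.S1892
import Cfsg.Agent.PLocal.PConstrained
import Cfsg.Agent.Solvable.Basics

set_option autoImplicit false
open Cfsg
open scoped commutatorElement

namespace Cfsg.Agent.S1892

/-- Let S be a finite p-solvable group with no nontrivial normal subgroup of order prime to p, A a p-subgroup of S, and Q a nontrivial A-invariant subgroup of order prime to p with [A, Q] = Q. Then the commutator [O_p(S), A, Q] is nontrivial. -/
theorem result {S : Type*} [Group S] [Finite S] {p : ℕ} [Fact p.Prime]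
    (hS : Cfsg.IsPSolvable p S) (hred : Cfsg.pPrimeCore p S = ⊥)
    (A Q : Subgroup S) (hA : IsPGroup p A) (hQ : ¬ p ∣ Nat.card Q) (hQ1 : Q ≠ ⊥)
    (hinv : ∀ a ∈ A, ∀ x ∈ Q, a * x * a⁻¹ ∈ Q) (hAQ : ⁅A, Q⁆ = Q) :
    ⁅⁅Cfsg.pCore p S, A⁆, Q⁆ ≠ ⊥ := by
  intro htriv
  set P := Cfsg.pCore p S with hPdef
  haveI hPn : P.Normal := CfsgLib.Solvable.pCore_normal p
  have hP2 : IsPGroup p P := CfsgLib.Solvable.isPGroup_pCore p
  set M := ⁅P, A⁆
  have hMP : M ≤ P := Subgroup.commutator_le_left P A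
  have hMc : ∀ m ∈ M, ∀ x ∈ Q, m * x = x * m := fun m hm x hx => by
    have h : ⁅m, x⁆ ∈ ⁅M, Q⁆ := Subgroup.commutator_mem_commutator hm hx
    rw [htriv, Subgroup.mem_bot] at h
    exact commutatorElement_eq_one_iff_mul_comm.1 h
  have hAM : ∀ a ∈ A, ∀ m ∈ M, a * m * a⁻¹ ∈ M := by
    intro a ha m hm
    have hle : M ≤ M.comap (MulAut.conj a).toMonoidHom := Subgroup.commutator_le.2 fun u hu b hb => by
      show a * ⁅u, b⁆ * a⁻¹ ∈ M
      have e : a * ⁅u, b⁆ * a⁻¹ = ⁅a * u * a⁻¹, a * b * a⁻¹⁆ := by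
        simp only [commutatorElement_def]; group
      rw [e]
      exact Subgroup.commutator_mem_commutator (hPn.conj_mem u hu a) (mul_mem (mul_mem ha hb) (inv_mem ha))
    exact hle hm
  let T : Submonoid S :=
    { carrier := {g | (∀ u ∈ P, ⁅u, g⁆ ∈ M) ∧ ∀ m ∈ M, g * m * g⁻¹ ∈ M}
      one_mem' := ⟨fun u _ => by simp [commutatorElement_def], fun m hm => by simpa using hm⟩
      mul_mem' := fun {g h} hg hh => ⟨fun u hu => by
          have e : ⁅u, g * h⁆ = ⁅u, g⁆ * (g * ⁅u, h⁆ * g⁻¹) := by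
            simp only [commutatorElement_def]; group
          rw [e]; exact mul_mem (hg.1 u hu) (hg.2 _ (hh.1 u hu)),
        fun m hm => by
          rw [show g * h * m * (g * h)⁻¹ = g * (h * m * h⁻¹) * g⁻¹ by group]
          exact hg.2 _ (hh.2 m hm)⟩ }
  have hA' : ∀ a ∈ A, a ∈ T := fun a ha =>
    ⟨fun u hu => Subgroup.commutator_mem_commutator hu ha, hAM a ha⟩
  have hconj : ∀ a ∈ A, ∀ x ∈ Q, x * a * x⁻¹ ∈ T := fun a ha x hx => by
    refine ⟨fun u hu => ?_, fun m hm => ?_⟩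
    · have hu' : x⁻¹ * u * x ∈ P := by simpa using hPn.conj_mem u hu x⁻¹
      have h1 : ⁅x⁻¹ * u * x, a⁆ ∈ M := Subgroup.commutator_mem_commutator hu' ha
      have e : ⁅u, x * a * x⁻¹⁆ = x * ⁅x⁻¹ * u * x, a⁆ * x⁻¹ := by
        simp only [commutatorElement_def]; group
      rw [e, ← hMc _ h1 x hx, mul_inv_cancel_right]
      exact h1
    · have e1 : x⁻¹ * m * x = m := by rw [mul_assoc, hMc m hm x hx, inv_mul_cancel_left]
      have h1 := hAM a ha m hm
      rw [show x * a * x⁻¹ * m * (x * a * x⁻¹)⁻¹ = x * (a * (x⁻¹ * m * x) * a⁻¹) * x⁻¹ by group, e1,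
        ← hMc _ h1 x hx, mul_inv_cancel_right]
      exact h1
  -- the inverse of an element of T in a finite group
  have hinvT : ∀ g ∈ T, g⁻¹ ∈ T := fun g hg => by
    rw [inv_eq_of_mul_eq_one_right (b := g ^ (orderOf g - 1)) (by
      rw [← pow_succ', Nat.sub_add_cancel (orderOf_pos g), pow_orderOf_eq_one])]
    exact pow_mem hg _
  let T' : Subgroup S := { T with inv_mem' := fun {g} hg => hinvT g hg }
  have hQT : Q ≤ T' := by
    rw [← hAQ, Subgroup.commutator_le]
    intro a ha x hx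
    rw [commutatorElement_def, show a * x * a⁻¹ * x⁻¹ = a * (x * a⁻¹ * x⁻¹) by group]
    exact T.mul_mem (hA' a ha) (hconj a⁻¹ (inv_mem ha) x hx)
  have hQP : Q ≤ P := by
    refine le_trans (fun x hx => Subgroup.mem_centralizer_iff.2 fun u hu => ?_)
      (CfsgLib.PConstrained.selfCent_of_pSolvable hred
        (CfsgLib.PConstrained.isPSolvable_comap (Subgroup.subtype _) (Subgroup.subtype_injective _) hS))
    set m := ⁅u, x⁆ with hm
    have hmM : m ∈ M := (hQT hx).1 u hu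
    have hpow : ∀ k : ℕ, x ^ k * u * (x ^ k)⁻¹ = (m⁻¹) ^ k * u := by
      intro k
      induction k with
      | zero => simp
      | succ k ih =>
        have hc : x * (m⁻¹) ^ k * x⁻¹ = (m⁻¹) ^ k := by
          rw [← hMc _ (pow_mem (inv_mem hmM) k) x hx, mul_inv_cancel_right]
        calc x ^ (k + 1) * u * (x ^ (k + 1))⁻¹ = x * (x ^ k * u * (x ^ k)⁻¹) * x⁻¹ := by
              rw [pow_succ']; group
          _ = (x * (m⁻¹) ^ k * x⁻¹) * (x * u * x⁻¹) := by rw [ih]; group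
          _ = (m⁻¹) ^ (k + 1) * u := by
            rw [hc, pow_succ, show x * u * x⁻¹ = m⁻¹ * u by rw [hm, commutatorElement_def]; group,
              mul_assoc]
    have h1 := hpow (orderOf x)
    rw [pow_orderOf_eq_one, one_mul, inv_one, mul_one, inv_pow] at h1
    have hm1 : m ^ orderOf x = 1 := inv_eq_one.1 (mul_eq_right.1 h1.symm)
    have hd : orderOf m ∣ orderOf x := orderOf_dvd_of_pow_eq_one hm1
    obtain ⟨i, hi⟩ := IsPGroup.iff_orderOf.1 hP2 ⟨m, hMP hmM⟩
    rw [Subgroup.orderOf_mk] at hi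
    have hx' : (p ^ i).Coprime (orderOf x) := by
      refine Nat.Coprime.pow_left i ((Fact.out : p.Prime).coprime_iff_not_dvd.2 fun hh => hQ ?_)
      exact hh.trans ((Subgroup.orderOf_coe (⟨x, hx⟩ : Q)) ▸ orderOf_dvd_natCard _)
    have hone : m = 1 := orderOf_eq_one_iff.1 (hi ▸ hx'.eq_one_of_dvd (hi ▸ hd))
    exact commutatorElement_eq_one_iff_mul_comm.1 hone
  apply hQ1
  obtain ⟨k, hk⟩ := IsPGroup.iff_card.1 (hP2.to_le hQP)
  rcases Nat.eq_zero_or_pos k with rfl | hk0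
  · exact Subgroup.card_eq_one.1 (by simpa using hk)
  · exact absurd (hk ▸ dvd_pow_self p hk0.ne') hQ

end Cfsg.Agent.S1892
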