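import Cfsg.Statements.S1905
import Cfsg.Agent.Invol.StrongEmbedded
import Mathlib.GroupTheory.Nilpotent

set_option autoImplicit false
open Cfsg

namespace Cfsg.Agent.S1905

/-- Let M be a subgroup of even order of a finite group S such that M contains the centralizer in S of each of its involutions and the normal core of M in S has odd order. Then all involutions of S are conjugate. If moreover N_S(X) ≤ M for a Sylow 2-subgroup X of M and I is an involution in the centre of X, then all involutions of M are conjugate in M and M = M₀ C_M(I) for some subgroup M₀ of M of odd order. -/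
theorem result {S : Type*} [Group S] [Finite S] (M : Subgroup S) (hM : Even (Nat.card M))
    (hC : ∀ i ∈ M, orderOf i = 2 → Subgroup.centralizer ({i} : Set S) ≤ M) (hcore : Odd (Nat.card M.normalCore)) :
    (∀ x y : S, orderOf x = 2 → orderOf y = 2 → IsConj x y) ∧
      ∀ (X : Sylow 2 M) (I : M), I ∈ (Subgroup.center ↥(X : Subgroup ↥M)).map (X : Subgroup ↥M).subtype → orderOf I = 2 →
        Subgroup.normalizer (((X : Subgroup M).map M.subtype : Subgroup S) : Set S) ≤ M →
        (∀ x y : M, orderOf x = 2 → orderOf y = 2 → IsConj x y) ∧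
          ∃ M₀ : Subgroup M, Odd (Nat.card M₀) ∧
            ∀ m : M, ∃ a ∈ M₀, ∃ c ∈ Subgroup.centralizer ({I} : Set M), m = a * c := by
  classical
  open Subgroup CfsgLib in
  haveI : Fact (Nat.Prime 2) := ⟨Nat.prime_two⟩
  have hinv : ∀ H : Subgroup S, Even (Nat.card H) → ∃ i ∈ H, orderOf i = 2 := fun H hH => by
    obtain ⟨i, hi⟩ := exists_prime_orderOf_dvd_card' (G := H) 2 (even_iff_two_dvd.1 hH)
    exact ⟨i, i.2, by rwa [Subgroup.orderOf_coe]⟩
  have hout : ∃ j : S, orderOf j = 2 ∧ j ∉ M := by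
    obtain ⟨i, hi, hi2⟩ := hinv M hM
    by_contra hcon
    push Not at hcon
    have : i ∈ M.normalCore := fun g => hcon _ (by rw [CfsgLib.Invol.orderOf_conj_eq, hi2])
    exact Nat.not_even_iff_odd.2 hcore (even_iff_two_dvd.2 (hi2 ▸ M.normalCore.orderOf_dvd_natCard this))
  have hlink : ∀ i j : S, i ∈ M → orderOf i = 2 → j ∉ M → orderOf j = 2 → IsConj i j := by
    intro i j hi hi2 hjM hj2
    have hii := CfsgLib.Invol.mul_self_eq_one hi2
    have hjj := CfsgLib.Invol.mul_self_eq_one hj2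
    rcases Nat.even_or_odd (orderOf (i * j)) with ⟨m, hm⟩ | ⟨m, hm⟩
    · exfalso
      set r := i * j with hr
      have hw : orderOf (r ^ m) = 2 := by
        rw [orderOf_pow_of_dvd (by have := orderOf_pos r; omega) ⟨2, by omega⟩]
        have := orderOf_pos r
        rw [hm, show m + m = m * 2 by ring, Nat.mul_div_cancel_left _ (by omega)]
      have hinvr : i * r * i⁻¹ = r⁻¹ := by
        rw [hr, CfsgLib.Invol.inv_eq_self hi2, ← mul_assoc i i, hii, one_mul, mul_inv_rev,
          CfsgLib.Invol.inv_eq_self hi2, CfsgLib.Invol.inv_eq_self hj2]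
      have hci : i * r ^ m = r ^ m * i := by
        have h1 : i * r ^ m * i⁻¹ = r ^ m := by
          rw [← conj_pow, hinvr, inv_pow, CfsgLib.Invol.inv_eq_self hw]
        exact mul_inv_eq_iff_eq_mul.1 h1
      have hwM : r ^ m ∈ M := hC i hi hi2 (Subgroup.mem_centralizer_singleton_iff.2 hci.symm)
      refine hjM (hC _ hwM hw (Subgroup.mem_centralizer_singleton_iff.2 ?_))
      have hj : j = i * r := by rw [hr, ← mul_assoc, hii, one_mul]
      rw [hj]
      calc i * r * r ^ m = i * (r ^ m * r) := by rw [mul_assoc, ← pow_succ, ← pow_succ']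
        _ = r ^ m * (i * r) := by rw [← mul_assoc, hci, mul_assoc]
    · refine isConj_iff.2 ⟨(i * j) ^ m * i, ?_⟩
      set r := i * j with hr
      have hir : i * r * i⁻¹ = r⁻¹ := by
        rw [hr, CfsgLib.Invol.inv_eq_self hi2, ← mul_assoc i i, hii, one_mul, mul_inv_rev,
          CfsgLib.Invol.inv_eq_self hi2, CfsgLib.Invol.inv_eq_self hj2]
      have h2 : i * (r ^ m)⁻¹ = r ^ m * i := by
        rw [← inv_pow, ← hir, conj_pow, ← mul_assoc, ← mul_assoc, hii, one_mul,
          CfsgLib.Invol.inv_eq_self hi2]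
      have hone : r ^ m * r ^ m * r = 1 := by
        rw [← pow_add, ← pow_succ, show m + m + 1 = 2 * m + 1 by ring, ← hm, pow_orderOf_eq_one]
      calc r ^ m * i * i * (r ^ m * i)⁻¹ = r ^ m * (i * i) * i⁻¹ * (r ^ m)⁻¹ := by group
        _ = r ^ m * (i * (r ^ m)⁻¹) := by rw [hii, CfsgLib.Invol.inv_eq_self hi2, mul_one, mul_assoc]
        _ = r ^ m * r ^ m * i := by rw [h2, mul_assoc]
        _ = j := by
          rw [show r ^ m * r ^ m = r⁻¹ from eq_inv_of_mul_eq_one_left hone, hr, mul_inv_rev,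
            CfsgLib.Invol.inv_eq_self hi2, CfsgLib.Invol.inv_eq_self hj2, mul_assoc, hii, mul_one]
  obtain ⟨i0, hi0, hi02⟩ := hinv M hM
  obtain ⟨j0, hj02, hj0⟩ := hout
  have hto : ∀ x : S, orderOf x = 2 → IsConj x j0 := fun x hx => by
    by_cases hxM : x ∈ M
    · exact hlink x j0 hxM hx hj0 hj02
    · exact (hlink i0 x hi0 hi02 hxM hx).symm.trans (hlink i0 j0 hi0 hi02 hj0 hj02)
  refine ⟨fun x y hx hy => (hto x hx).trans (hto y hy).symm, fun X I hI hI2 hN => ?_⟩
  set X0 : Subgroup S := (X : Subgroup M).map M.subtype with hX0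
  -- a Sylow subgroup of `M` is one of `S`
  have hX0syl : ∀ R : Subgroup S, IsPGroup 2 R → X0 ≤ R → R = X0 := by
    intro R hR hle
    by_contra hne
    have hlt : X0.subgroupOf R < ⊤ := lt_top_iff_ne_top.2 fun h =>
      hne (le_antisymm (Subgroup.subgroupOf_eq_top.1 h) hle)
    haveI := IsPGroup.isNilpotent hR
    have hgr := Group.normalizerCondition_of_isNilpotent (G := R) (X0.subgroupOf R) hlt
    refine hgr.not_ge fun x hx => ?_
    have hxn : (x : S) ∈ Subgroup.normalizer (X0 : Set S) := by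
      rw [Subgroup.mem_normalizer_iff]
      intro y
      by_cases hy : y ∈ R
      · simpa [Subgroup.mem_subgroupOf] using Subgroup.mem_normalizer_iff.1 hx ⟨y, hy⟩
      · refine ⟨fun h => absurd (hle h) hy, fun h => ?_⟩
        exact absurd (by simpa [mul_assoc] using mul_mem (mul_mem (inv_mem x.2) (hle h)) x.2) hy
    have hxM : (x : S) ∈ M := hN hxn
    have hp : IsPGroup 2 (R.subgroupOf M) := hR.comap_of_injective M.subtype M.subtype_injective
    have heq : R.subgroupOf M = (X : Subgroup M) := X.3 hp (fun y hy => hle ⟨y, hy, rfl⟩)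
    exact ⟨⟨x, hxM⟩, heq.le x.2, rfl⟩
  obtain ⟨P, hP⟩ := (X.2.map M.subtype : IsPGroup 2 X0).exists_le_sylow
  have hPX : (P : Subgroup S) = X0 := hX0syl P P.2 hP
  have hPM : (P : Subgroup S) ≤ M := hPX ▸ Subgroup.map_subtype_le _
  -- strong embedding
  have hcen : ∀ g z : S, z ∈ (P : Subgroup S) → orderOf z = 2 → (∀ y ∈ P, y * z = z * y) →
      g * z * g⁻¹ ∈ M → g ∈ M := by
    intro g z hz hz2 hzc hgz
    have hle : ((g • P : Sylow 2 S) : Subgroup S) ≤ M := by
      rw [Sylow.coe_subgroup_smul]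
      rintro _ ⟨y, hy, rfl⟩
      refine hC _ hgz (by rw [CfsgLib.Invol.orderOf_conj_eq, hz2]) (Subgroup.mem_centralizer_singleton_iff.2 ?_)
      show g * y * g⁻¹ * (g * z * g⁻¹) = g * z * g⁻¹ * (g * y * g⁻¹)
      rw [conj_mul, conj_mul, hzc y hy]
    obtain ⟨m, hm⟩ := MulAction.exists_smul_eq M (P.subtype hPM) ((g • P).subtype hle)
    have h : ((m : S) • P : Sylow 2 S) = g • P := Sylow.subtype_injective (hP := by
        rw [Sylow.coe_subgroup_smul]
        rintro _ ⟨y, hy, rfl⟩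
        exact mul_mem (mul_mem m.2 (hPM hy)) (inv_mem m.2)) (hQ := hle) (by
      rw [← hm, Sylow.smul_subtype]
      rfl)
    have hgm : (m : S)⁻¹ * g ∈ Subgroup.normalizer ((P : Subgroup S) : Set S) := by
      exact Sylow.smul_eq_iff_mem_normalizer.1 (by rw [mul_smul, ← h, inv_smul_smul])
    rw [hPX] at hgm
    simpa using mul_mem m.2 (hN hgm)
  have hcenM : ∀ g z : S, z ∈ M → orderOf z = 2 → g * z * g⁻¹ ∈ M → g ∈ M := by
    intro g z hz hz2 hgz
    obtain ⟨R, hR⟩ := (IsPGroup.of_card (n := 1) (by rw [Nat.card_zpowers, hz2, pow_one]) :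
      IsPGroup 2 (Subgroup.zpowers z)).exists_le_sylow
    obtain ⟨h, rfl⟩ := MulAction.exists_smul_eq S P R
    have hzR := hR (Subgroup.mem_zpowers z)
    rw [Sylow.coe_subgroup_smul] at hzR
    obtain ⟨z0, hz0, hzz⟩ := hzR
    obtain ⟨I', hI', hIeq⟩ := hI
    have hIP : (I : S) ∈ (P : Subgroup S) := hPX ▸ ⟨I, hIeq ▸ I'.2, rfl⟩
    have hIc : ∀ y ∈ P, y * (I : S) = (I : S) * y := by
      intro y hy
      rw [← SetLike.mem_coe] at hy
      have hyX : y ∈ X0 := hPX ▸ hy
      obtain ⟨y', hy', rfl⟩ := hyX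
      rw [← hIeq]
      exact congrArg (fun w : X => ((w : M) : S)) (Subgroup.mem_center_iff.1 hI' ⟨y', hy'⟩)
    have hI2' : orderOf (I : S) = 2 := by rw [Subgroup.orderOf_coe, hI2]
    have hzI : h * (I : S) * h⁻¹ * z = z * (h * (I : S) * h⁻¹) := by
      rw [← hzz]
      show h * (I : S) * h⁻¹ * (h * z0 * h⁻¹) = h * z0 * h⁻¹ * (h * (I : S) * h⁻¹)
      rw [conj_mul, conj_mul, hIc z0 hz0]
    have hh : h ∈ M := hcen h (I : S) hIP hI2' hIc
      (hC z hz hz2 (Subgroup.mem_centralizer_singleton_iff.2 hzI))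
    have hgh : g * h ∈ M := hcen (g * h) (I : S) hIP hI2' hIc
      (hC _ hgz (by rw [CfsgLib.Invol.orderOf_conj_eq, hz2]) (Subgroup.mem_centralizer_singleton_iff.2 (by
        have := congrArg (fun w => g * w * g⁻¹) hzI
        simpa [mul_assoc] using this)))
    simpa using mul_mem hgh (inv_mem hh)
  have hSE : Cfsg.IsStronglyEmbedded M := by
    refine ⟨fun h => hj0 (h ▸ Subgroup.mem_top j0), hM, fun g hg => ?_⟩
    by_contra hev
    obtain ⟨s, hs, hs2⟩ := hinv _ (Nat.not_odd_iff_even.1 hev)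
    obtain ⟨w, hw, hws⟩ := hs.2
    have hws' : g * w * g⁻¹ = s := hws
    refine hg (hcenM g w hw ?_ (hws' ▸ hs.1))
    rw [← hs2, ← hws', CfsgLib.Invol.orderOf_conj_eq]
  have hconjM : ∀ x y : M, orderOf x = 2 → orderOf y = 2 →
      ∃ d ∈ M ⊓ M.map (MulAut.conj j0).toMonoidHom, d * (x : S) * d⁻¹ = y := fun x y hx hy =>
    CfsgLib.StrongEmbed.exists_conj_in_stabilizer hSE hj02 hj0 (by rw [Subgroup.orderOf_coe, hx]) x.2
      (by rw [Subgroup.orderOf_coe, hy]) y.2
  refine ⟨fun x y hx hy => ?_, (M ⊓ M.map (MulAut.conj j0).toMonoidHom).subgroupOf M, ?_, fun m => ?_⟩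
  · obtain ⟨d, hd, h⟩ := hconjM x y hx hy
    exact isConj_iff.2 ⟨⟨d, hd.1⟩, Subtype.ext h⟩
  · rw [Nat.card_congr (Subgroup.subgroupOfEquivOfLe (inf_le_left :
      M ⊓ M.map (MulAut.conj j0).toMonoidHom ≤ M)).toEquiv]
    exact hSE.2.2 j0 hj0
  · obtain ⟨d, hd, h⟩ := hconjM I (m * I * m⁻¹) hI2 (by rw [CfsgLib.Invol.orderOf_conj_eq, hI2])
    refine ⟨⟨d, hd.1⟩, hd, (⟨d, hd.1⟩ : M)⁻¹ * m, Subgroup.mem_centralizer_singleton_iff.2 ?_, by group⟩
    have h' : (⟨d, hd.1⟩ : M) * I * (⟨d, hd.1⟩ : M)⁻¹ = m * I * m⁻¹ := Subtype.ext h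
    calc (⟨d, hd.1⟩ : M)⁻¹ * m * I = (⟨d, hd.1⟩ : M)⁻¹ * (m * I * m⁻¹) * m := by group
      _ = I * ((⟨d, hd.1⟩ : M)⁻¹ * m) := by rw [← h']; group


end Cfsg.Agent.S1905
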