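import Cfsg.Statements.S1906
import Cfsg.Agent.Invol.CentralTransfer
import Mathlib.FieldTheory.Finite.Basic
import Mathlib.GroupTheory.GroupAction.ConjAct

set_option autoImplicit false
open Cfsg Subgroup
open scoped commutatorElement

namespace Cfsg.Agent.S1906

/-- Let G be a finite group with no subgroup of index 2 whose Sylow 2-subgroup X embeds in GL₃(F) for a finite field F of odd order. If X contains an elementary abelian subgroup of order 8, then X is abelian. -/
theorem result {G : Type*} [Group G] [Finite G] (hG : ∀ H : Subgroup G, H.index ≠ 2) (X : Sylow 2 G)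
    {F : Type*} [Field F] [Fintype F] (hF : Odd (Fintype.card F))
    (f : ↥(X : Subgroup G) →* GL (Fin 3) F) (hf : Function.Injective f)
    (E : Subgroup G) (hE : E ≤ (X : Subgroup G)) (hEa : Cfsg.IsElementaryAbelian 2 E) (hE8 : Nat.card E = 8) :
    IsMulCommutative (X : Subgroup G) := by
  classical
  haveI : Fact (Nat.Prime 2) := ⟨Nat.prime_two⟩
  have h2 : (2 : F) ≠ 0 := by
    intro h0
    have hp : ringChar F = 2 := CharP.ringChar_of_prime_eq_zero Nat.prime_two h0
    have := (FiniteField.even_card_iff_char_two (F := F)).1 hp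
    have := Nat.odd_iff.1 hF
    omega
  by_contra hXc
  have hnc : ¬ ∀ x y : (X : Subgroup G), x * y = y * x := fun h => hXc ⟨⟨h⟩⟩
  set E' := E.subgroupOf (X : Subgroup G) with hE'
  have hE'c : ∀ a ∈ E', ∀ b ∈ E', a * b = b * a := fun a ha b hb =>
    Subtype.ext (congrArg Subtype.val (hEa.1.is_comm.comm (⟨a, mem_subgroupOf.1 ha⟩ : E) ⟨b, mem_subgroupOf.1 hb⟩) : (a : G) * b = b * a)
  have hE'2 : ∀ a ∈ E', a ^ 2 = 1 := fun a ha => Subtype.ext (hEa.2 _ (mem_subgroupOf.1 ha))
  have hE'8 : Nat.card E' = 8 := (Nat.card_congr (subgroupOfEquivOfLe hE).toEquiv).trans hE8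
  obtain ⟨-, h8⟩ := CfsgLib.CentralTransfer.three_dim h2 f hf E' ⟨⟨fun a b => Subtype.ext (hE'c _ a.2 _ b.2)⟩⟩ hE'2
  obtain ⟨⟨e, heE, he⟩, hdiag⟩ := h8 hE'8
  -- central involutions lie in `E'`
  have hW : ∀ w : (X : Subgroup G), (∀ x, x * w = w * x) → w ^ 2 = 1 → w ∈ E' := by
    intro w hwc hw2
    let E'' : Subgroup (X : Subgroup G) :=
      { carrier := {y | ∃ a ∈ E', y = a ∨ y = a * w}
        one_mem' := ⟨1, one_mem _, Or.inl rfl⟩
        mul_mem' := by
          rintro y y' ⟨a, ha, h | h⟩ ⟨b, hb, h' | h'⟩ <;> rw [h, h']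
          · exact ⟨a * b, mul_mem ha hb, Or.inl rfl⟩
          · exact ⟨a * b, mul_mem ha hb, Or.inr (mul_assoc a b w).symm⟩
          · exact ⟨a * b, mul_mem ha hb, Or.inr (by rw [mul_assoc, ← hwc b, ← mul_assoc])⟩
          · exact ⟨a * b, mul_mem ha hb, Or.inl (by rw [mul_assoc, ← mul_assoc w, ← hwc b, mul_assoc b w w, ← sq, hw2, mul_one])⟩
        inv_mem' := by
          rintro y ⟨a, ha, h | h⟩ <;> rw [h]
          · exact ⟨a⁻¹, inv_mem ha, Or.inl rfl⟩
          · exact ⟨a⁻¹, inv_mem ha, Or.inr (by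
              rw [mul_inv_rev, inv_eq_of_mul_eq_one_right ((sq w).symm.trans hw2)]; exact (hwc a⁻¹).symm)⟩ }
    have hle : E' ≤ E'' := fun a ha => ⟨a, ha, Or.inl rfl⟩
    have hc2 : ∀ y ∈ E'', ∀ y' ∈ E'', y * y' = y' * y := by
      rintro y ⟨a, ha, h | h⟩ y' ⟨b, hb, h' | h'⟩ <;> rw [h, h']
      · exact hE'c a ha b hb
      · rw [← mul_assoc, hE'c a ha b hb, mul_assoc, hwc a, mul_assoc]
      · rw [mul_assoc, ← hwc b, ← mul_assoc, hE'c a ha b hb, mul_assoc]
      · rw [mul_assoc, ← mul_assoc w, ← hwc b, mul_assoc b, ← mul_assoc a, hE'c a ha b hb,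
          mul_assoc b w, ← mul_assoc w, ← hwc a]; group
    have hs2 : ∀ y ∈ E'', y ^ 2 = 1 := by
      rintro y ⟨a, ha, h | h⟩ <;> rw [h]
      · exact hE'2 a ha
      · rw [Commute.mul_pow (hwc a), hE'2 a ha, hw2, one_mul]
    have hle8 := (CfsgLib.CentralTransfer.three_dim h2 f hf E'' ⟨⟨fun a b => Subtype.ext (hc2 _ a.2 _ b.2)⟩⟩ hs2).1
    rw [eq_of_le_of_card_ge hle (hE'8.symm ▸ hle8)]
    exact ⟨1, one_mem _, Or.inr (one_mul w).symm⟩
  have hec : ∀ x, x * e = e * x := fun x => hf (Units.ext (by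
    rw [map_mul, map_mul, Units.val_mul, Units.val_mul, he, mul_neg, neg_mul, mul_one, one_mul]))
  have he2 : e ^ 2 = 1 := hE'2 e heE
  -- `e` is outside the derived subgroup
  let φ := Abelianization.of (G := (X : Subgroup G))
  have heD : φ e ≠ 1 := by
    intro h
    let δ : (X : Subgroup G) →* Fˣ := Matrix.GeneralLinearGroup.det.comp f
    have h1 : δ e = 1 := by
      rw [← Abelianization.lift_apply_of δ e]
      show Abelianization.lift δ (φ e) = 1
      rw [h, map_one]
    have h3 : ((δ e : Fˣ) : F) = (-1) ^ 3 := by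
      show (f e).1.det = _
      rw [he, Matrix.det_neg]
      simp
    rw [h1, Units.val_one] at h3
    exact h2 (by linear_combination h3)
  -- a central involution of the derived subgroup
  obtain ⟨z, hzc, hz2, hz1, hzD⟩ : ∃ z, (∀ x, x * z = z * x) ∧ z ^ 2 = 1 ∧ z ≠ 1 ∧ φ z = 1 := by
    haveI : (commutator (X : Subgroup G)).Normal := inferInstance
    have hne : commutator (X : Subgroup G) ≠ ⊥ := fun h => hnc fun x y => by
      have : ⁅x, y⁆ ∈ commutator (X : Subgroup G) := commutator_mem_commutator (mem_top x) (mem_top y)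
      rw [h, mem_bot] at this
      exact commutatorElement_eq_one_iff_mul_comm.1 this
    haveI := (nontrivial_iff_ne_bot (commutator (X : Subgroup G))).2 hne
    have hmeet := X.2
    obtain ⟨k, hk⟩ := IsPGroup.iff_card.1 (X.2.to_subgroup (commutator (X : Subgroup G)))
    have h2d : 2 ∣ Nat.card (commutator (X : Subgroup G)) := hk ▸ dvd_pow_self 2 fun h0 => by
      have := Finite.one_lt_card (α := commutator (X : Subgroup G))
      rw [hk, h0, pow_zero] at this
      omega
    obtain ⟨⟨z, hz⟩, hzfix, hz1⟩ := (X.2.of_equiv (ConjAct.toConjAct (G := (X : Subgroup G)))).exists_fixed_point_of_prime_dvd_card_of_fixed_point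
      (commutator (X : Subgroup G)) h2d (a := 1) (fun g => smul_one g)
    have hzc : ∀ x, x * z = z * x := fun x => by
      have : x * z * x⁻¹ = z := congrArg Subtype.val (hzfix (ConjAct.toConjAct x))
      exact eq_mul_inv_iff_mul_eq.1 this.symm |>.symm
    obtain ⟨j, hj⟩ := IsPGroup.iff_orderOf.1 X.2 z
    have hj0 : j ≠ 0 := fun h0 => hz1 (Subtype.ext (by
      rw [h0, pow_zero, orderOf_eq_one_iff] at hj; simp [hj]))
    refine ⟨z ^ 2 ^ (j - 1), fun x => ((show Commute x z from hzc x).pow_right _).eq, ?_, ?_, ?_⟩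
    · rw [← pow_mul, ← pow_succ, Nat.sub_add_cancel (Nat.one_le_iff_ne_zero.2 hj0), ← hj, pow_orderOf_eq_one]
    · intro h
      have := Nat.le_of_dvd (Nat.two_pow_pos _) (orderOf_dvd_of_pow_eq_one h)
      rw [hj] at this
      have := (Nat.pow_le_pow_iff_right (by norm_num : 1 < 2)).1 this
      omega
    · exact (QuotientGroup.eq_one_iff _).2 (pow_mem hz _)
  -- the central elements of order two form a four group
  have hcases : ∀ w, (∀ x, x * w = w * x) → w ^ 2 = 1 → w = 1 ∨ w = z ∨ w = e ∨ w = e * z := by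
    let W : Subgroup (X : Subgroup G) :=
      { carrier := {w | (∀ x, x * w = w * x) ∧ w ^ 2 = 1}
        one_mem' := ⟨fun x => by rw [mul_one, one_mul], one_pow 2⟩
        mul_mem' := fun {a b} ha hb => ⟨fun x => by rw [← mul_assoc, ha.1, mul_assoc, hb.1, mul_assoc],
          by rw [Commute.mul_pow (hb.1 a), ha.2, hb.2, one_mul]⟩
        inv_mem' := fun {a} ha => by rwa [inv_eq_of_mul_eq_one_right ((sq a).symm.trans ha.2)] }
    have hWle : W ≤ E' := fun w hw => hW w hw.1 hw.2
    have hW4 : Nat.card W ≤ 4 := by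
      obtain ⟨k, hk⟩ := card_dvd_of_le hWle
      rw [hE'8] at hk
      rcases k with _ | _ | k
      · omega
      · refine absurd (hdiag fun a ha x => ?_) hnc
        have hWE : W = E' := eq_of_le_of_card_ge hWle (by rw [hE'8]; omega)
        exact (hWE ▸ ha : a ∈ W).1 x
      · nlinarith
    intro w hwc hw2
    by_contra hcon
    simp only [not_or] at hcon
    obtain ⟨h1, hwz, hwe, hwez⟩ := hcon
    have hze : φ (e * z) = φ e := by rw [map_mul, hzD, mul_one]
    have he1 : e ≠ 1 := fun h => heD (by rw [h, map_one])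
    have hezne : e * z ≠ 1 := fun h => heD (by rw [← hze, h, map_one])
    have hez : e ≠ z := fun h => heD (h ▸ hzD)
    have hezz : e * z ≠ z := fun h => he1 (by simpa using h)
    have heze : e * z ≠ e := fun h => hz1 (by simpa using h)
    have hsub : ({1, z, e, e * z, w} : Finset (X : Subgroup G)).card ≤ 4 := by
      refine le_trans ?_ hW4
      rw [← Nat.card_eq_finsetCard]
      refine Nat.card_le_card_of_injective (fun y => (⟨y.1, ?_⟩ : W)) fun a b h => Subtype.ext (congrArg (fun y : W => y.1) h)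
      have hy := y.2
      simp only [Finset.mem_insert, Finset.mem_singleton] at hy
      rcases hy with h | h | h | h | h <;> rw [h]
      · exact one_mem W
      · exact ⟨hzc, hz2⟩
      · exact ⟨hec, he2⟩
      · exact mul_mem (show e ∈ W from ⟨hec, he2⟩) ⟨hzc, hz2⟩
      · exact ⟨hwc, hw2⟩
    rw [Finset.card_insert_of_notMem (by simp [Ne.symm hz1, Ne.symm he1, Ne.symm hezne, Ne.symm h1]),
      Finset.card_insert_of_notMem (by simp [Ne.symm hez, Ne.symm hezz, Ne.symm hwz]),
      Finset.card_insert_of_notMem (by simp [Ne.symm heze, Ne.symm hwe]),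
      Finset.card_insert_of_notMem (by simp [Ne.symm hwez]), Finset.card_singleton] at hsub
    omega
  have hV : MonoidHom.transfer φ (e : G) = φ e := by
    refine CfsgLib.CentralTransfer.transfer_central_involution φ e.2
      (congrArg Subtype.val he2) (fun x hx => congrArg Subtype.val (hec ⟨x, hx⟩)) fun n hn h => ?_
    set s : (X : Subgroup G) := ⟨n⁻¹ * e * n, h⟩ with hs
    have hsc : ∀ x, x * s = s * x := fun x => by
      have hx : n * x * n⁻¹ ∈ (X : Subgroup G) := ((mem_normalizer_iff.1 hn) x).1 x.2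
      have he' : (n * x * n⁻¹) * (e : G) = e * (n * x * n⁻¹) := congrArg Subtype.val (hec ⟨_, hx⟩)
      refine Subtype.ext ?_
      show (x : G) * (n⁻¹ * e * n) = n⁻¹ * e * n * x
      calc (x : G) * (n⁻¹ * e * n) = n⁻¹ * ((n * x * n⁻¹) * e) * n := by group
        _ = _ := by rw [he']; group
    have hs2 : s ^ 2 = 1 := Subtype.ext (by
      show (n⁻¹ * (e : G) * n) ^ 2 = 1
      rw [show n⁻¹ * (e : G) * n = n⁻¹ * e * (n⁻¹)⁻¹ by rw [inv_inv], conj_pow,
        show (e : G) ^ 2 = 1 from congrArg Subtype.val he2, mul_one, mul_inv_cancel])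
    show φ s = φ e
    rcases hcases s hsc hs2 with hh | hh | hh | hh
    · exfalso
      have : n⁻¹ * (e : G) * n = 1 := congrArg Subtype.val hh
      exact heD (by rw [show e = 1 from Subtype.ext (by rw [show (e : G) = n * (n⁻¹ * e * n) * n⁻¹ by group, this]; simp), map_one])
    · exfalso
      -- `z` and `e` are not conjugate under the normalizer
      let c : (X : Subgroup G) →* (X : Subgroup G) := MonoidHom.mk'
        (fun x => ⟨n * x * n⁻¹, ((mem_normalizer_iff.1 hn) x).1 x.2⟩)
        (fun x y => Subtype.ext (by show n * (x * y : G) * n⁻¹ = n * x * n⁻¹ * (n * y * n⁻¹); group))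
      have hcs : c s = e := Subtype.ext (by show n * (n⁻¹ * (e : G) * n) * n⁻¹ = e; group)
      refine heD ?_
      rw [← hcs, hh]
      show φ (c z) = 1
      rw [← Abelianization.map_of c z]
      show Abelianization.map c (φ z) = 1
      rw [hzD, map_one]
    · rw [hh]
    · rw [hh, map_mul, hzD, mul_one]
  -- the image has a subgroup of index two
  let V := MonoidHom.transfer φ
  haveI : Finite (Abelianization (X : Subgroup G)) := Finite.of_surjective φ (QuotientGroup.mk'_surjective _)
  have hR : IsPGroup 2 V.range := by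
    refine IsPGroup.to_subgroup ?_ _
    exact X.2.of_surjective φ (QuotientGroup.mk'_surjective _)
  obtain ⟨k, hk⟩ := IsPGroup.iff_card.1 hR
  have hk0 : k ≠ 0 := fun h0 => heD (by
    rw [h0, pow_zero, card_eq_one] at hk
    rw [← hV, ← mem_bot, ← hk]
    exact ⟨_, rfl⟩)
  obtain ⟨R, hRc⟩ := Sylow.exists_subgroup_card_pow_prime (G := V.range) 2 (n := k - 1)
    (hk ▸ pow_dvd_pow 2 (Nat.sub_le k 1))
  refine hG (R.comap V.rangeRestrict) ?_
  rw [index_comap_of_surjective _ V.rangeRestrict_surjective]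
  have := R.card_mul_index
  rw [hRc, hk] at this
  obtain ⟨j, rfl⟩ := Nat.exists_eq_succ_of_ne_zero hk0
  rw [Nat.succ_sub_one, pow_succ] at this
  exact Nat.eq_of_mul_eq_mul_left (Nat.two_pow_pos j) this

end Cfsg.Agent.S1906
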