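import Cfsg.Statements.S1910
import Cfsg.Agent.Kinf.TightPair

set_option autoImplicit false
open Cfsg

namespace Cfsg.Agent.S1910

/-- Let Q be a tightly embedded subgroup of a finite group G, g an element outside N_G(Q), T a nontrivial Sylow 2-subgroup of Q^g ∩ N_G(Q), and S a Sylow 2-subgroup of QT containing T. Then T ∩ Q = 1, and N_S(T) is the direct product of T and N_S(T) ∩ Q, with N_S(T) ∩ Q isomorphic to T. -/
theorem result {G : Type*} [Group G] [Finite G] (Q : Subgroup G) (hQ : Cfsg.IsTightlyEmbedded Q)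
    (g : G) (hg : g ∉ Subgroup.normalizer (Q : Set G))
    (T : Subgroup G) (hT1 : T ≠ ⊥) (hT : T ≤ Q.map (MulAut.conj g).toMonoidHom ⊓ Subgroup.normalizer (Q : Set G))
    (hTsyl : IsPGroup 2 T ∧ ¬ 2 ∣ T.relIndex (Q.map (MulAut.conj g).toMonoidHom ⊓ Subgroup.normalizer (Q : Set G)))
    (S : Subgroup G) (hTS : T ≤ S) (hS : S ≤ Q ⊔ T) (hSsyl : IsPGroup 2 S ∧ ¬ 2 ∣ S.relIndex (Q ⊔ T)) :
    T ⊓ Q = ⊥ ∧
      T ⊓ (S ⊓ Subgroup.normalizer (T : Set G) ⊓ Q) = ⊥ ∧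
      ⁅T, S ⊓ Subgroup.normalizer (T : Set G) ⊓ Q⁆ = ⊥ ∧
      T ⊔ (S ⊓ Subgroup.normalizer (T : Set G) ⊓ Q) = S ⊓ Subgroup.normalizer (T : Set G) ∧
      Nonempty (↥(S ⊓ Subgroup.normalizer (T : Set G) ⊓ Q) ≃* T) := by
  exact CfsgLib.TightPair.main Q hQ g hg T hT1 ⟨hT, hTsyl⟩ S hTS ⟨hS, hSsyl⟩


end Cfsg.Agent.S1910
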