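import Cfsg.Statements.S1914
import Cfsg.Agent.InvolFixFour.TypeOne
import Cfsg.Agent.Comp.Basic

set_option autoImplicit false
set_option linter.style.haveILetI false
open Cfsg

namespace Cfsg.Agent.S1914

open Subgroup CfsgLib.InvolFixFour

theorem odd_relIndex_inf {X : Type*} [Group X] [Finite X] (A S : Subgroup X) [A.Normal]
    (hS : Odd S.index) : Odd ((A ⊓ S).relIndex A) := by
  have h1 := relIndex_mul_relIndex ⊥ (A ⊓ S) A bot_le inf_le_left
  have h2 := relIndex_mul_relIndex ⊥ (A ⊓ S) S bot_le inf_le_right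
  have h3 := relIndex_mul_relIndex ⊥ A (A ⊔ S) bot_le le_sup_left
  have h4 := relIndex_mul_relIndex ⊥ S (A ⊔ S) bot_le le_sup_right
  simp only [relIndex_bot_left] at h1 h2 h3 h4
  rw [inf_relIndex_right] at h2
  rw [relIndex_sup_left] at h3
  have h5 : A.relIndex S * Nat.card (A ⊓ S : Subgroup X) * (A ⊓ S).relIndex A =
      A.relIndex S * Nat.card (A ⊓ S : Subgroup X) * S.relIndex (A ⊔ S) := by
    calc _ = (Nat.card (A ⊓ S : Subgroup X) * (A ⊓ S).relIndex A) * A.relIndex S := by ring
      _ = Nat.card (A ⊔ S : Subgroup X) := by rw [h1, h3]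
      _ = Nat.card S * S.relIndex (A ⊔ S) := h4.symm
      _ = _ := by rw [← h2]; ring
  rw [Nat.eq_of_mul_eq_mul_left (Nat.mul_pos (Nat.pos_of_ne_zero fun h => absurd h2
    (by rw [h, mul_zero]; exact Nat.card_pos.ne)) Nat.card_pos) h5]
  exact hS.of_dvd_nat (relIndex_dvd_index_of_le le_sup_right)

/-- The configuration inside the normaliser of `A`. -/
theorem exists_base {G : Type*} [Group G] [Finite G] (A : Subgroup G) (hA : Cfsg.layer ↥A = ⊤)
    (t : G) (ht : orderOf t = 2) (htA : t ∈ Subgroup.normalizer (A : Set G))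
    (hC : ∀ R : Sylow 2 ↥(A ⊓ Subgroup.centralizer ({t} : Set G)), IsCyclic R ∧ Nat.card R = 4) :
    ∃ (P : Subgroup (normalizer (A : Set G))) (x : normalizer (A : Set G)),
      Base (A.subgroupOf (normalizer (A : Set G))) ⟨t, htA⟩ P x := by
  haveI : Fact (Nat.Prime 2) := ⟨Nat.prime_two⟩
  set N := normalizer (A : Set G) with hN
  have hAN : A ≤ N := le_normalizer
  set A' := A.subgroupOf N with hA'
  haveI hA'n : A'.Normal := normal_in_normalizer
  set t' : N := ⟨t, htA⟩ with ht'
  have htt : t * t = 1 := by rw [← sq, ← ht]; exact pow_orderOf_eq_one t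
  have htt' : t' * t' = 1 := Subtype.ext htt
  set C := A ⊓ centralizer ({t} : Set G) with hC'
  have hlay : Cfsg.layer A' = ⊤ := by
    rw [← CfsgLib.Comp.map_layer (subgroupOfEquivOfLe hAN).symm, hA,
      map_top_of_surjective _ (subgroupOfEquivOfLe hAN).symm.surjective]
  have hcfg : Cfg A' t' := by
    refine ⟨hA'n, htt', ?_, fun M hM hs => ?_, fun Q hQ hQA hQt => ?_⟩
    · have h := CfsgLib.Comp.layer_perfect (G := A')
      rw [hlay] at h
      have h2 := map_subtype_commutator A'
      rw [commutator_def, h, ← MonoidHom.range_eq_map, range_subtype] at h2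
      exact h2.symm
    · haveI := hM
      have h := CfsgLib.Comp.layer_commutator_normal_solvable (H := M) hs
      rw [hlay, commutator_comm, commutator_eq_bot_iff_le_centralizer, coe_top,
        centralizer_univ] at h
      exact h
    · have hle : Q.map N.subtype ≤ C := by
        rintro _ ⟨q, hq, rfl⟩
        refine ⟨hQA hq, mem_centralizer_singleton_iff.2 ?_⟩
        have h := congrArg (fun w : N => (w : G) * t) (hQt q hq)
        simp only [cj, ht', coe_mul, mul_assoc, htt, mul_one] at h
        exact h.symm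
      obtain ⟨R, hR⟩ := ((hQ.map N.subtype).comap_subtype (K := C)).exists_le_sylow
      obtain ⟨hcyc, hcard⟩ := hC R
      let f : Q →* (R : Subgroup C) :=
        ((inclusion hle).comp (N.subtype.subgroupMap Q)).codRestrict _ fun q => hR ⟨q, q.2, rfl⟩
      have hf : Function.Injective f := fun a b hab => by
        have h1 := congrArg (fun r : (R : Subgroup C) => ((r : C) : G)) hab
        exact Subtype.ext (Subtype.ext h1)
      exact ⟨isCyclic_of_injective f hf,
        hcard ▸ (Nat.card_congr (MonoidHom.ofInjective hf).toEquiv) ▸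
          f.range.card_subgroup_dvd_card⟩
  obtain ⟨R⟩ : Nonempty (Sylow 2 C) := inferInstance
  obtain ⟨hcyc, hcard⟩ := hC R
  obtain ⟨γ, hγ⟩ := IsCyclic.exists_generator (α := (R : Subgroup C))
  set x : N := ⟨((γ : C) : G), hAN (γ : C).2.1⟩ with hx
  have hx4 : orderOf x = 4 := by
    rw [← hcard, ← orderOf_eq_card_of_forall_mem_zpowers hγ, hx]
    simp [Subgroup.orderOf_mk]
  have hxt : Commute t' x := Subtype.ext (mem_centralizer_singleton_iff.1 (γ : C).2.2).symm
  have hcjx : cj t' x = x := by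
    show t' * x * t' = x
    rw [hxt.eq, mul_assoc, htt', mul_one]
  have hT : IsPGroup 2 (zpowers t') :=
    IsPGroup.of_card (n := 1) (by rw [Nat.card_zpowers, pow_one,
      orderOf_eq_prime (by rw [sq, htt']) (fun h => by
        have h' : t = 1 := congrArg (fun w : N => (w : G)) h
        rw [h', orderOf_one] at ht
        omega)])
  have hX : IsPGroup 2 (zpowers x) :=
    IsPGroup.of_card (n := 2) (by rw [Nat.card_zpowers, hx4]; rfl)
  have hnorm : zpowers x ≤ normalizer (zpowers t' : Set N) :=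
    (zpowers_le.2 (mem_centralizer_iff.2 fun r hr => by
      obtain ⟨j, rfl⟩ := mem_zpowers_iff.1 hr
      exact (hxt.zpow_left j).eq)).trans (centralizer_le_normalizer _)
  obtain ⟨S, hS⟩ := (hX.to_sup_of_normal_right' hT hnorm).exists_le_sylow
  refine ⟨A' ⊓ S, x, hcfg, inf_le_left, S.isPGroup'.to_le inf_le_right,
    odd_relIndex_inf A' _ (Nat.not_even_iff_odd.1 fun h => S.not_dvd_index h.two_dvd),
    fun p hp => ?_, ⟨(γ : C).2.1, hS (mem_sup_left (mem_zpowers x))⟩, hcjx, hx4⟩
  have htS : t' ∈ (S : Subgroup N) := hS (mem_sup_right (mem_zpowers t'))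
  refine ⟨?_, mul_mem (mul_mem htS hp.2) htS⟩
  have := hA'n.conj_mem p hp.1 t'
  rwa [inv_eq_of_mul_eq_one_right htt'] at this

/-- Let A be a semisimple subgroup (a central product of quasisimple groups, A = E(A)) of a finite group and t an involution normalizing A such that the Sylow 2-subgroups of C_A(t) are cyclic of order 4. Then A has 2-rank exactly 1. -/
theorem result {G : Type*} [Group G] [Finite G] (A : Subgroup G) (hA : Cfsg.layer ↥A = ⊤)
    (t : G) (ht : orderOf t = 2) (htA : t ∈ Subgroup.normalizer (A : Set G))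
    (hC : ∀ R : Sylow 2 ↥(A ⊓ Subgroup.centralizer ({t} : Set G)), IsCyclic R ∧ Nat.card R = 4) :
    Cfsg.PRankLE 2 1 A ∧ ¬ Cfsg.PRankLE 2 0 A := by
  classical
  obtain ⟨P, x, B⟩ := exists_base A hA t ht htA hC
  have hAN : A ≤ normalizer (A : Set G) := le_normalizer
  refine ⟨fun E hEc hE2 => ?_, fun h0 => ?_⟩
  · by_contra hgt
    rw [not_le, pow_one] at hgt
    obtain ⟨a, ha, ha1⟩ : ∃ a ∈ E, a ≠ 1 := by
      by_contra h
      push Not at h
      rw [(eq_bot_iff_forall E).2 h, card_bot] at hgt
      omega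
    obtain ⟨b, hb, hb1, hab⟩ : ∃ b ∈ E, b ≠ 1 ∧ b ≠ a := by
      by_contra h
      push Not at h
      have hsub : (E : Set A) ⊆ {1, a} := fun b hb => by
        by_cases h1 : b = 1
        · exact Or.inl h1
        · exact Or.inr (h b hb h1)
      have h' := Set.ncard_le_ncard hsub (Set.toFinite _)
      rw [← Nat.card_coe_set_eq] at h'
      have h3 : ({1, a} : Set A).ncard ≤ 2 := (Set.ncard_insert_le _ _).trans (by simp)
      have h4 : Nat.card (E : Set A) = Nat.card E := rfl
      omega
    set a' : normalizer (A : Set G) := ⟨a, hAN a.2⟩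
    set b' : normalizer (A : Set G) := ⟨b, hAN b.2⟩
    have ha2 : a' * a' = 1 := Subtype.ext (congrArg Subtype.val ((sq a).symm.trans (hE2 a ha)) :)
    have hb2 : b' * b' = 1 := Subtype.ext (congrArg Subtype.val ((sq b).symm.trans (hE2 b hb)) :)
    have hco : Commute a' b' := Subtype.ext
      (congrArg (fun e : E => ((e : A) : G)) (hEc.is_comm.comm ⟨a, ha⟩ ⟨b, hb⟩) :)
    have hR : IsPGroup 2 (four a' b' ha2 hb2 hco) := fun ⟨r, hr⟩ => ⟨1, Subtype.ext (by
      show r ^ 2 ^ 1 = 1
      rw [pow_one, sq]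
      rcases hr with rfl | rfl | rfl | rfl
      exacts [one_mul 1, ha2, hb2, by rw [hco.symm.mul_mul_mul_comm, ha2, hb2, one_mul]])⟩
    obtain ⟨n, -, hn⟩ := B.into hR (by
      rintro r (rfl | rfl | rfl | rfl)
      exacts [one_mem _, a.2, b.2, mul_mem a.2 b.2])
    have hinv : ∀ c : normalizer (A : Set G), c * c = 1 → c ≠ 1 → n * c * n⁻¹ ∈ P → n * c * n⁻¹ = x * x := by
      intro c hc hc1 hcP
      by_contra hne
      exact B.false_of_invol hcP (by rw [conj_mul, hc, mul_one, mul_inv_cancel])
        (fun h => hc1 (conj_eq_one_iff.1 h)) hne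
    have h1 := hinv a' ha2 (fun h => ha1 (Subtype.ext (congrArg Subtype.val h :)))
      (hn a' (Or.inr (Or.inl rfl)))
    have h2 := hinv b' hb2 (fun h => hb1 (Subtype.ext (congrArg Subtype.val h :)))
      (hn b' (Or.inr (Or.inr (Or.inl rfl))))
    have h3 : b' = a' := mul_left_cancel (mul_right_cancel (h2.trans h1.symm))
    exact hab (Subtype.ext (congrArg Subtype.val h3 :))
  · set z : A := ⟨((x * x : normalizer (A : Set G)) : G), B.le B.z_mem⟩ with hz
    have hzz : z ^ 2 = 1 := Subtype.ext (by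
      show ((x * x : normalizer (A : Set G)) : G) ^ 2 = 1
      rw [← Subgroup.coe_pow, sq, B.zz, coe_one])
    have hz1 : z ≠ 1 := fun h => B.z_ne (Subtype.ext (congrArg Subtype.val h :))
    have h := h0 (zpowers z) inferInstance (by
      intro w hw
      obtain ⟨j, rfl⟩ := mem_zpowers_iff.1 hw
      rw [← zpow_natCast, zpow_comm, zpow_natCast, hzz, one_zpow])
    rw [Nat.card_zpowers, orderOf_eq_prime hzz hz1] at h
    simp at h

end Cfsg.Agent.S1914
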