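import Cfsg.Statements.S1915
import Cfsg.Agent.Comp.Basic
import Cfsg.Agent.Invol.FourRankOne

set_option autoImplicit false
open Cfsg

namespace Cfsg.Agent.S1915

open Subgroup

theorem odd_relIndex_inf {X : Type*} [Group X] [Finite X] (A S : Subgroup X) [A.Normal]
    (hS : Odd S.index) : Odd ((A ⊓ S).relIndex A) := by
  have h1 := relIndex_mul_relIndex ⊥ (A ⊓ S) A bot_le inf_le_left
  have h2 := relIndex_mul_relIndex ⊥ (A ⊓ S) S bot_le inf_le_right
  have h3 := relIndex_mul_relIndex ⊥ A (A ⊔ S) bot_le le_sup_left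
  have h4 := relIndex_mul_relIndex ⊥ S (A ⊔ S) bot_le le_sup_right
  simp only [relIndex_bot_left] at h1 h2 h3 h4
  rw [inf_relIndex_right] at h2
  rw [relIndex_sup_left] at h3
  have h5 : A.relIndex S * Nat.card (A ⊓ S : Subgroup X) * (A ⊓ S).relIndex A =
      A.relIndex S * Nat.card (A ⊓ S : Subgroup X) * S.relIndex (A ⊔ S) := by
    calc _ = (Nat.card (A ⊓ S : Subgroup X) * (A ⊓ S).relIndex A) * A.relIndex S := by ring
      _ = Nat.card (A ⊔ S : Subgroup X) := by rw [h1, h3]
      _ = Nat.card S * S.relIndex (A ⊔ S) := h4.symm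
      _ = _ := by rw [← h2]; ring
  rw [Nat.eq_of_mul_eq_mul_left (Nat.mul_pos (Nat.pos_of_ne_zero fun h => absurd h2 (by rw [h, mul_zero]; exact Nat.card_pos.ne)) Nat.card_pos) h5]
  exact hS.of_dvd_nat (relIndex_dvd_index_of_le le_sup_right)

theorem rankLE_one_elim {H : Type*} [Group H] [Finite H] (h : Cfsg.PRankLE 2 1 H) {x y : H}
    (hx : x * x = 1) (hy : y * y = 1) (hx1 : x ≠ 1) (hy1 : y ≠ 1) (hc : Commute x y) : x = y := by
  by_contra hne
  have hcomm : IsMulCommutative (closure ({x, y} : Set H)) := by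
    refine Subgroup.isMulCommutative_closure ?_
    rintro a (rfl | ha) b (rfl | hb)
    · rfl
    · rw [Set.mem_singleton_iff] at hb; subst hb; exact hc.eq
    · rw [Set.mem_singleton_iff] at ha; subst ha; exact hc.symm.eq
    · rw [Set.mem_singleton_iff] at ha hb; subst ha; subst hb; rfl
  have h2 : ∀ a ∈ closure ({x, y} : Set H), a ^ 2 = 1 := by
    intro a ha
    induction ha using closure_induction with
    | mem b hb =>
      rw [pow_two]
      rcases hb with rfl | hb
      · exact hx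
      · rw [Set.mem_singleton_iff] at hb; subst hb; exact hy
    | one => simp
    | mul b c hb hc' ihb ihc =>
      have hbc : Commute b c := congrArg Subtype.val (hcomm.is_comm.comm ⟨b, hb⟩ ⟨c, hc'⟩)
      rw [hbc.mul_pow, ihb, ihc, one_mul]
    | inv b _ ihb => rw [inv_pow, ihb, inv_one]
  have h3 := h _ hcomm h2
  have hsub : ({1, x, y} : Set H) ⊆ (closure ({x, y} : Set H) : Set H) := by
    rintro a (rfl | rfl | ha)
    · exact one_mem _
    · exact subset_closure (by simp)
    · rw [Set.mem_singleton_iff] at ha; subst ha; exact subset_closure (by simp)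
  have h4 := Set.ncard_le_ncard hsub (Set.toFinite _)
  rw [← Nat.card_coe_set_eq (closure ({x, y} : Set H) : Set H)] at h4
  have h5 : ({1, x, y} : Set H).ncard = 3 :=
    Set.ncard_eq_three.2 ⟨1, x, y, Ne.symm hx1, Ne.symm hy1, hne, rfl⟩
  have h6 : Nat.card (closure ({x, y} : Set H) : Set H) = Nat.card (closure ({x, y} : Set H)) := rfl
  omega

/-- Let A be a semisimple subgroup (A = E(A)) of a finite group and U a Klein four-group normalizing A. If the subgroup of A generated by the normalizers N_A(V) of the nontrivial subgroups V of U has 2-rank exactly 1, then A has 2-rank exactly 1. -/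
theorem result {G : Type*} [Group G] [Finite G] (A : Subgroup G) (hA : Cfsg.layer ↥A = ⊤)
    (U : Subgroup G) (hU : IsKleinFour U) (hUA : U ≤ Subgroup.normalizer (A : Set G))
    (hΓ : Cfsg.PRankLE 2 1 ↥(⨆ V : {V : Subgroup G // V ≤ U ∧ V ≠ ⊥}, A ⊓ Subgroup.normalizer ((V : Subgroup G) : Set G)) ∧
      ¬ Cfsg.PRankLE 2 0 ↥(⨆ V : {V : Subgroup G // V ≤ U ∧ V ≠ ⊥}, A ⊓ Subgroup.normalizer ((V : Subgroup G) : Set G))) :
    Cfsg.PRankLE 2 1 A ∧ ¬ Cfsg.PRankLE 2 0 A := by
  classical
  haveI := Fact.mk Nat.prime_two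
  obtain ⟨hΓ1, hΓ0⟩ := hΓ
  set Γ : Subgroup G := ⨆ V : {V : Subgroup G // V ≤ U ∧ V ≠ ⊥},
    A ⊓ Subgroup.normalizer ((V : Subgroup G) : Set G) with hΓdef
  have hΓA : Γ ≤ A := iSup_le fun V => inf_le_left
  set N : Subgroup G := normalizer (A : Set G) with hN
  have hAN : A ≤ N := le_normalizer
  haveI : (A.subgroupOf N).Normal := normal_in_normalizer
  have hAperf : ⁅A, A⁆ = A := by
    have h : commutator A = ⊤ := by
      have h' := CfsgLib.Comp.layer_perfect (G := A)
      rw [hA] at h'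
      exact h'
    have h2 := map_subtype_commutator A
    rw [h, ← MonoidHom.range_eq_map, range_subtype] at h2
    exact h2.symm
  have hperf : ⁅A.subgroupOf N, A.subgroupOf N⁆ = A.subgroupOf N := by
    apply Subgroup.map_injective N.subtype_injective
    rw [map_commutator, map_subgroupOf_eq_of_le hAN, hAperf]
  have hUsq : ∀ u ∈ U, u * u = 1 := fun u hu => by
    haveI := hU
    have h := IsKleinFour.mul_self (⟨u, hu⟩ : U)
    exact congrArg Subtype.val h
  have hU2 : ∀ u ∈ U.subgroupOf N, u * u = 1 := fun u hu => Subtype.ext (hUsq u.1 hu)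
  have hU4 : 4 ≤ Nat.card (U.subgroupOf N) := by
    rw [Nat.card_congr (subgroupOfEquivOfLe hUA).toEquiv]
    haveI := hU
    exact le_of_eq IsKleinFour.card_four.symm
  have hU2g : IsPGroup 2 (U.subgroupOf N) := fun u => ⟨1, by
    rw [pow_one, pow_two]; exact Subtype.ext (hU2 u u.2)⟩
  obtain ⟨S, hS⟩ := hU2g.exists_le_sylow
  have hSodd : Odd (S : Subgroup N).index :=
    Nat.not_even_iff_odd.1 fun h => S.not_dvd_index h.two_dvd
  have hF : ∀ x y : N, x ∈ A.subgroupOf N → y ∈ A.subgroupOf N → x * x = 1 → y * y = 1 →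
      x ≠ 1 → y ≠ 1 → (∃ u ∈ U.subgroupOf N, u ≠ 1 ∧ Commute x u) →
      (∃ u ∈ U.subgroupOf N, u ≠ 1 ∧ Commute y u) → Commute x y → x = y := by
    intro x y hxA hyA hx2 hy2 hx1 hy1 hxu hyu hxy
    have key : ∀ w : N, w ∈ A.subgroupOf N → (∃ u ∈ U.subgroupOf N, u ≠ 1 ∧ Commute w u) →
        (w : G) ∈ Γ := by
      rintro w hw ⟨u, hu, hu1, hwu⟩
      have hwu' : Commute (w : G) (u : G) := congrArg Subtype.val hwu.eq
      refine le_iSup (fun V : {V : Subgroup G // V ≤ U ∧ V ≠ ⊥} =>
        A ⊓ Subgroup.normalizer ((V : Subgroup G) : Set G))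
        ⟨zpowers (u : G), zpowers_le.2 hu, fun h => hu1 (Subtype.ext (zpowers_eq_bot.1 h))⟩
        ⟨hw, centralizer_le_normalizer _ (mem_centralizer_iff.2 ?_)⟩
      rintro _ ⟨i, rfl⟩
      exact (hwu'.zpow_right i).symm.eq
    have h := rankLE_one_elim hΓ1 (x := ⟨x, key x hxA hxu⟩) (y := ⟨y, key y hyA hyu⟩)
      (Subtype.ext (congrArg Subtype.val hx2 :)) (Subtype.ext (congrArg Subtype.val hy2 :))
      (fun h => hx1 (Subtype.ext (congrArg Subtype.val h :)))
      (fun h => hy1 (Subtype.ext (congrArg Subtype.val h :)))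
      (Subtype.ext (congrArg Subtype.val hxy.eq :))
    exact Subtype.ext (congrArg Subtype.val h :)
  refine ⟨?_, fun h0 => hΓ0 ?_⟩
  · intro E hEc hE2
    by_contra hgt
    rw [not_le, pow_one] at hgt
    obtain ⟨a, ha, ha1⟩ : ∃ a ∈ E, a ≠ 1 := by
      by_contra h
      push Not at h
      rw [(eq_bot_iff_forall E).2 h, card_bot] at hgt
      omega
    obtain ⟨b, hb, hb1, hab⟩ : ∃ b ∈ E, b ≠ 1 ∧ b ≠ a := by
      by_contra h
      push Not at h
      have hsub : (E : Set A) ⊆ {1, a} := fun b hb => by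
        by_cases h1 : b = 1
        · exact Or.inl h1
        · exact Or.inr (h b hb h1)
      have h' := Set.ncard_le_ncard hsub (Set.toFinite _)
      rw [← Nat.card_coe_set_eq] at h'
      have h3 : ({1, a} : Set A).ncard ≤ 2 := (Set.ncard_insert_le _ _).trans (by simp)
      have h4 : Nat.card (E : Set A) = Nat.card E := rfl
      omega
    have hco : Commute a b := congrArg Subtype.val (hEc.is_comm.comm ⟨a, ha⟩ ⟨b, hb⟩)
    have ha2 : a * a = 1 := by rw [← pow_two]; exact hE2 a ha
    have hb2 : b * b = 1 := by rw [← pow_two]; exact hE2 b hb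
    refine hab (Subtype.ext ?_)
    have := CfsgLib.FourRankOne.eq_of_commute (A.subgroupOf N) hperf (U.subgroupOf N) hU4 hU2
      (S : Subgroup N) S.2 hS (odd_relIndex_inf _ _ hSodd) hF
      (x₀ := ⟨b, hAN b.2⟩) (y₀ := ⟨a, hAN a.2⟩) b.2 a.2
      (Subtype.ext (congrArg Subtype.val hb2 :)) (Subtype.ext (congrArg Subtype.val ha2 :))
      (fun h => hb1 (Subtype.ext (congrArg Subtype.val h :)))
      (fun h => ha1 (Subtype.ext (congrArg Subtype.val h :)))
      (Subtype.ext (congrArg Subtype.val hco.symm.eq :))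
    exact congrArg (fun w : N => (w : G)) this
  · intro E hEc hE2
    haveI := hEc
    let j : Γ →* A := inclusion hΓA
    have hj : Function.Injective j := inclusion_injective hΓA
    have h := h0 (E.map j) inferInstance (by
      rintro _ ⟨e, he, rfl⟩
      rw [← map_pow, hE2 e he, map_one])
    rwa [card_map_of_injective hj] at h

end Cfsg.Agent.S1915
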