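import Cfsg.Statements.S1921
import Cfsg.Agent.Comp.Basic

set_option autoImplicit false
open Cfsg

namespace Cfsg.Agent.S1921

/-- Let a be an involution of a finite group H and L a component of H with a L a⁻¹ ≠ L; put M = ⟨L, aLa⁻¹⟩ and let J be the subgroup generated by the elements x · a x a⁻¹ with x ∈ L (the diagonal). Then every element of M outside J·Z(M) generates M together with J. -/
theorem result {H : Type*} [Group H] [Finite H] (a : H) (ha : orderOf a = 2) (L : Subgroup H) (hL : Cfsg.IsComponent L)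
    (hLa : L.map (MulAut.conj a).toMonoidHom ≠ L) (x : H) (hxM : x ∈ L ⊔ L.map (MulAut.conj a).toMonoidHom)
    (hxJ : x ∉ Subgroup.closure {y : H | ∃ l ∈ L, y = l * (a * l * a⁻¹)} ⊔
      ((L ⊔ L.map (MulAut.conj a).toMonoidHom) ⊓ Subgroup.centralizer ((L ⊔ L.map (MulAut.conj a).toMonoidHom : Subgroup H) : Set H))) :
    Subgroup.closure {y : H | ∃ l ∈ L, y = l * (a * l * a⁻¹)} ⊔ Subgroup.zpowers x = L ⊔ L.map (MulAut.conj a).toMonoidHom := by
  set L' := L.map (MulAut.conj a).toMonoidHom with hL'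
  set J := Subgroup.closure {y : H | ∃ l ∈ L, y = l * (a * l * a⁻¹)} with hJ
  set M := L ⊔ L'
  have hmem : ∀ l ∈ L, a * l * a⁻¹ ∈ L' := fun l hl => ⟨l, hl, rfl⟩
  have hcomm : L' ≤ Subgroup.centralizer (L : Set H) :=
    CfsgLib.Comp.le_centralizer_of_commutator_eq_bot
      ((CfsgLib.Comp.component_eq_or_commute (CfsgLib.Comp.component_conj a hL) hL).resolve_left hLa)
  have hcomm' : L ≤ Subgroup.centralizer (L' : Set H) := Subgroup.le_centralizer_iff.1 hcomm
  have hJM : J ≤ M := (Subgroup.closure_le _).2 (by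
    rintro _ ⟨l, hl, rfl⟩
    exact mul_mem (Subgroup.mem_sup_left hl) (Subgroup.mem_sup_right (hmem l hl)))
  obtain ⟨l1, hl1, l2, ⟨m, hm, rfl⟩, rfl⟩ : ∃ l1 ∈ L, ∃ l2 ∈ L', l1 * l2 = x := by
    have hx' : x ∈ ((L ⊔ L' : Subgroup H) : Set H) := hxM
    rw [Subgroup.coe_mul_of_left_le_normalizer_right L L'
      (hcomm'.trans (Subgroup.centralizer_le_normalizer _))] at hx'
    exact hx'
  have hdJ : m * (a * m * a⁻¹) ∈ J := Subgroup.subset_closure ⟨m, hm, rfl⟩
  set U := J ⊔ Subgroup.zpowers (l1 * (MulAut.conj a).toMonoidHom m)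
  have hxd : l1 * (MulAut.conj a).toMonoidHom m = l1 * m⁻¹ * (m * (a * m * a⁻¹)) := by
    show l1 * (a * m * a⁻¹) = _
    group
  set e := l1 * m⁻¹
  have heL : e ∈ L := mul_mem hl1 (inv_mem hm)
  have heU : e ∈ U := by
    have h1 : l1 * (MulAut.conj a).toMonoidHom m ∈ U :=
      Subgroup.mem_sup_right (Subgroup.mem_zpowers _)
    have h2 := mul_mem h1 (inv_mem (Subgroup.mem_sup_left hdJ : m * (a * m * a⁻¹) ∈ U))
    rwa [hxd, mul_inv_cancel_right] at h2
  have hnorm : ((U ⊓ L).subgroupOf L).Normal := by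
    refine ⟨fun u hu l => Subgroup.mem_subgroupOf.2 (Subgroup.mem_inf.2 ⟨?_, (l * u * l⁻¹).2⟩)⟩
    have hd : (l : H) * (a * l * a⁻¹) ∈ U := Subgroup.mem_sup_left (Subgroup.subset_closure ⟨l, l.2, rfl⟩)
    have h1 := mul_mem (mul_mem hd (Subgroup.mem_subgroupOf.1 hu).1) (inv_mem hd)
    have hc : (u : H) * (a * l * a⁻¹) = a * l * a⁻¹ * u :=
      Subgroup.mem_centralizer_iff.1 (hcomm (hmem l l.2)) u u.2
    rw [show (l : H) * (a * l * a⁻¹) * u * ((l : H) * (a * l * a⁻¹))⁻¹ =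
      l * (a * l * a⁻¹ * u * (a * l * a⁻¹)⁻¹) * (l : H)⁻¹ by group, ← hc, mul_inv_cancel_right] at h1
    exact h1
  have hUL : L ≤ U := by
    rcases CfsgLib.Comp.quasisimple_normal hL.2 hnorm with h | h
    · exact (Subgroup.subgroupOf_eq_top.1 h).trans inf_le_left
    · exfalso
      refine hxJ ?_
      rw [hxd]
      refine mul_mem (Subgroup.mem_sup_right (Subgroup.mem_inf.2 ⟨Subgroup.mem_sup_left heL, ?_⟩))
        (Subgroup.mem_sup_left hdJ)
      have hez : (⟨e, heL⟩ : L) ∈ Subgroup.center L := h (Subgroup.mem_subgroupOf.2 ⟨heU, heL⟩)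
      show e ∈ Subgroup.centralizer _
      refine Subgroup.le_centralizer_iff.1 (sup_le ?_ ?_) (Subgroup.mem_zpowers e)
      · exact fun l hl => Subgroup.mem_centralizer_iff.2 fun z hz => by
          obtain ⟨i, rfl⟩ := Subgroup.mem_zpowers_iff.1 hz
          exact (show Commute (e : H) l from
            congrArg Subtype.val (Subgroup.mem_center_iff.1 hez ⟨l, hl⟩).symm).zpow_left i
      · exact hcomm.trans (Subgroup.centralizer_le (Subgroup.zpowers_le.2 heL))
  refine le_antisymm (sup_le hJM (Subgroup.zpowers_le.2 hxM)) (sup_le hUL ?_)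
  rintro _ ⟨l, hl, rfl⟩
  have h1 : l * (a * l * a⁻¹) ∈ U := Subgroup.mem_sup_left (Subgroup.subset_closure ⟨l, hl, rfl⟩)
  have h2 := mul_mem (inv_mem (hUL hl)) h1
  rwa [inv_mul_cancel_left] at h2


end Cfsg.Agent.S1921
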