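import Cfsg.Statements.S1922
import Mathlib

set_option autoImplicit false
open Cfsg

namespace Cfsg.Agent.S1922

theorem cast_card_one {α : Type*} [DecidableEq α] (s : Finset α) (f : α → α) (a : α) (ha : a ∈ s)
    (hmem : ∀ x ∈ s, f x ∈ s) (hinv : ∀ x ∈ s, f (f x) = x) (hfix : ∀ x ∈ s, f x = x ↔ x = a) :
    (s.card : ZMod 2) = 1 := by
  have h0 : ∑ _x ∈ s.erase a, (1 : ZMod 2) = 0 := by
    refine Finset.sum_involution (fun x _ => f x) (fun _ _ => by decide) (fun x hx _ h => ?_) (fun x hx => ?_)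
      (fun x hx => hinv x (Finset.mem_of_mem_erase hx))
    · exact (Finset.ne_of_mem_erase hx) ((hfix x (Finset.mem_of_mem_erase hx)).1 h)
    · refine Finset.mem_erase.2 ⟨fun h => ?_, hmem x (Finset.mem_of_mem_erase hx)⟩
      have h1 := hinv x (Finset.mem_of_mem_erase hx)
      rw [h, (hfix a ha).2 rfl] at h1
      exact Finset.ne_of_mem_erase hx h1.symm
  have h1 := Finset.add_sum_erase s (fun _ => (1 : ZMod 2)) ha
  rw [h0, add_zero, Finset.sum_const, nsmul_one] at h1
  exact h1.symm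


/-- Let z be an involution of a finite group G and H a proper subgroup such that z lies in gHg⁻¹ exactly when g ∈ H. Then the following are equivalent: (1) for every conjugate t ≠ z of z commuting with z, the product zt lies in gHg⁻¹ exactly when g ∈ H; (2) z lies in the centre of some Sylow 2-subgroup of G, and for every conjugate t ≠ z of z commuting with z, the centralizer of zt is contained in H. -/
theorem result {G : Type*} [Group G] [Finite G] (z : G) (hz : orderOf z = 2) (H : Subgroup G) (hH : H ≠ ⊤)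
    (h0 : ∀ g : G, z ∈ H.map (MulAut.conj g).toMonoidHom ↔ g ∈ H) :
    (∀ t : G, IsConj z t → t ≠ z → t * z = z * t → ∀ g : G, z * t ∈ H.map (MulAut.conj g).toMonoidHom ↔ g ∈ H) ↔
      ((∃ P : Sylow 2 G, z ∈ (Subgroup.center ↥(P : Subgroup G)).map (P : Subgroup G).subtype) ∧
        ∀ t : G, IsConj z t → t ≠ z → t * z = z * t → Subgroup.centralizer ({z * t} : Set G) ≤ H) := by
  classical
  haveI : Fact (Nat.Prime 2) := ⟨Nat.prime_two⟩
  haveI : Fintype G := Fintype.ofFinite G
  have hmem : ∀ (i g : G), i ∈ H.map (MulAut.conj g).toMonoidHom ↔ g⁻¹ * i * g ∈ H := fun i g => by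
    rw [Subgroup.mem_map_equiv, MulAut.conj_symm_apply]
  have h0' : ∀ g : G, g⁻¹ * z * g ∈ H ↔ g ∈ H := fun g => (hmem z g).symm.trans (h0 g)
  have hzH : z ∈ H := by simpa using (h0' 1).2 H.one_mem
  have hCz : Subgroup.centralizer ({z} : Set G) ≤ H := fun c hc => by
    refine (h0' c).1 ?_
    rw [mul_assoc, ← Subgroup.mem_centralizer_singleton_iff.1 hc, inv_mul_cancel_left]
    exact hzH
  have hz2 : z * z = 1 := by rw [← pow_two, ← hz, pow_orderOf_eq_one]
  -- the action on cosets: `z` fixes only the trivial coset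
  have hidx : ¬ 2 ∣ H.index := by
    intro hdvd
    have h1 : Nat.card (G ⧸ H) ≡ Nat.card (MulAction.fixedPoints (Subgroup.zpowers z) (G ⧸ H)) [MOD 2] :=
      (IsPGroup.of_card (n := 1) (by rw [Nat.card_zpowers, hz, pow_one])).card_modEq_card_fixedPoints _
    have h2 : Nat.card (MulAction.fixedPoints (Subgroup.zpowers z) (G ⧸ H)) = 1 := by
      rw [Nat.card_eq_one_iff_unique]
      refine ⟨⟨?_⟩, ⟨⟨((1 : G) : G ⧸ H), fun u => ?_⟩⟩⟩
      · rintro ⟨a, ha⟩ ⟨b, hb⟩
        have key : ∀ c : G ⧸ H, c ∈ MulAction.fixedPoints (Subgroup.zpowers z) (G ⧸ H) → c = ((1 : G) : G ⧸ H) := by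
          intro c hc
          obtain ⟨g, rfl⟩ := QuotientGroup.mk_surjective c
          have h3 : ((z * g : G) : G ⧸ H) = g := hc ⟨z, Subgroup.mem_zpowers z⟩
          rw [eq_comm, QuotientGroup.eq, ← mul_assoc] at h3
          rw [QuotientGroup.eq, mul_one]
          exact H.inv_mem ((h0' g).1 h3)
        exact Subtype.ext ((key a ha).trans (key b hb).symm)
      · show (u : G) • ((1 : G) : G ⧸ H) = _
        rw [MulAction.Quotient.smul_coe, smul_eq_mul, mul_one, QuotientGroup.eq, mul_one]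
        exact H.inv_mem ((Subgroup.zpowers_le.2 hzH) u.2)
    rw [h2, ← Subgroup.index_eq_card, Nat.ModEq] at h1
    omega
  constructor
  · intro h1
    have hCzt : ∀ t : G, IsConj z t → t ≠ z → t * z = z * t →
        Subgroup.centralizer ({z * t} : Set G) ≤ H := fun t ht hne hcom c hc => by
      refine (h1 t ht hne hcom c).1 ?_
      rw [hmem, mul_assoc c⁻¹, ← Subgroup.mem_centralizer_singleton_iff.1 hc, inv_mul_cancel_left]
      have h2 := (h1 t ht hne hcom 1).2 H.one_mem
      rw [hmem] at h2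
      simpa using h2
    refine ⟨?_, hCzt⟩
    let fixes : G → G ⧸ H → Prop := fun x q => x • q = q
    have fixmk : ∀ x g : G, fixes x g ↔ g⁻¹ * x * g ∈ H := fun x g => by
      show ((x * g : G) : G ⧸ H) = g ↔ _
      rw [eq_comm, QuotientGroup.eq, ← mul_assoc]
    -- a conjugate of `z` fixes exactly one coset
    have huniq : ∀ s : G, IsConj z s → ∀ q q' : G ⧸ H, fixes s q → fixes s q' → q = q' := by
      intro s hs q q'
      obtain ⟨k, rfl⟩ := isConj_iff.1 hs
      obtain ⟨g, rfl⟩ := QuotientGroup.mk_surjective q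
      obtain ⟨g', rfl⟩ := QuotientGroup.mk_surjective q'
      rw [fixmk, fixmk]
      intro e1 e2
      have e1' : k⁻¹ * g ∈ H := (h0' _).1 (by convert e1 using 1; group)
      have e2' : k⁻¹ * g' ∈ H := (h0' _).1 (by convert e2 using 1; group)
      rw [QuotientGroup.eq]
      have := H.mul_mem (H.inv_mem e1') e2'
      rwa [show (k⁻¹ * g)⁻¹ * (k⁻¹ * g') = g⁻¹ * g' by group] at this
    -- and so does the product with a commuting conjugate
    have hprod : ∀ u v : G, IsConj z u → IsConj z v → u ≠ v → u * v = v * u → ∀ q : G ⧸ H,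
        fixes (u * v) q → fixes u q := by
      intro u v hu hv hne hcom q hq
      obtain ⟨k, rfl⟩ := isConj_iff.1 hu
      obtain ⟨g, rfl⟩ := QuotientGroup.mk_surjective q
      rw [fixmk] at hq ⊢
      set v' := k⁻¹ * v * k with hv'
      have hv'c : IsConj z v' := hv.trans (isConj_iff.2 ⟨k⁻¹, by rw [hv', inv_inv]⟩)
      have hv'z : v' ≠ z := fun e => hne (by rw [← e, hv']; group)
      have hv'com : v' * z = z * v' := by
        have h3 := congrArg (fun x => k⁻¹ * x * k) hcom
        simp only [hv']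
        calc k⁻¹ * v * k * z = k⁻¹ * (v * (k * z * k⁻¹)) * k := by group
          _ = k⁻¹ * (k * z * k⁻¹ * v) * k := h3.symm
          _ = z * (k⁻¹ * v * k) := by group
      have h4 := (h1 v' hv'c hv'z hv'com (k⁻¹ * g)).1 ((hmem _ _).2 (by
        convert hq using 1; rw [hv']; group))
      have h5 := (h0' _).2 h4
      convert h5 using 1
      group
    have hconjfix : ∀ (h x : G) (q : G ⧸ H), fixes x q → fixes (h * x * h⁻¹) (h • q) := fun h x q hx => by
      show (h * x * h⁻¹) • h • q = h • q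
      rw [mul_smul, mul_smul, inv_smul_smul, hx]
    -- a coset moved by `z`
    obtain ⟨b, hb⟩ : ∃ b, b ∉ H := by
      by_contra h; push Not at h; exact hH ((Subgroup.eq_top_iff' H).2 h)
    set β : G ⧸ H := (b : G ⧸ H)
    set γ : G ⧸ H := z • β with hγ
    have hβz : ¬ fixes z β := fun h => hb ((h0' b).1 ((fixmk z b).1 h))
    have hβγ : β ≠ γ := fun h => hβz h.symm
    have hγβ : z • γ = β := by rw [hγ, smul_smul, hz2, one_smul]
    set U : Finset G := Finset.univ.filter fun u => IsConj z u ∧ u • β = γ with hU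
    have hUmem : ∀ u, u ∈ U ↔ IsConj z u ∧ u • β = γ := fun u => by simp [hU]
    have hinv2 : ∀ u, IsConj z u → u * u = 1 := fun u hu => by
      obtain ⟨k, rfl⟩ := isConj_iff.1 hu
      rw [show k * z * k⁻¹ * (k * z * k⁻¹) = k * (z * z) * k⁻¹ by group, hz2, mul_one, mul_inv_cancel]
    have huγ : ∀ u ∈ U, u • γ = β := fun u hu => by
      rw [← ((hUmem u).1 hu).2, smul_smul, hinv2 u ((hUmem u).1 hu).1, one_smul]
    -- commuting elements of `U` are equal
    have hUcomm : ∀ u ∈ U, ∀ v ∈ U, u * v = v * u → u = v := by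
      intro u hu v hv hcom
      by_contra hne
      have h2 : fixes (u * v) β := by
        show (u * v) • β = β
        rw [mul_smul, ((hUmem v).1 hv).2, huγ u hu]
      have h3 := hprod u v ((hUmem u).1 hu).1 ((hUmem v).1 hv).1 hne hcom β h2
      exact hβγ (h3.symm.trans ((hUmem u).1 hu).2)
    have hUconj : ∀ u ∈ U, ∀ w ∈ U, w * u * w ∈ U := fun u hu w hw => by
      refine (hUmem _).2 ⟨((hUmem u).1 hu).1.trans (isConj_iff.2 ⟨w, ?_⟩), ?_⟩
      · rw [inv_eq_of_mul_eq_one_right (hinv2 w ((hUmem w).1 hw).1)]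
      · rw [mul_smul, mul_smul, ((hUmem w).1 hw).2, huγ u hu, ((hUmem w).1 hw).2]
    have hzU : z ∈ U := (hUmem z).2 ⟨IsConj.refl z, rfl⟩
    have hU1 : (U.card : ZMod 2) = 1 := by
      refine cast_card_one U (fun u => z * u * z) z hzU (fun u hu => hUconj u hu z hzU) (fun u _ => ?_)
        (fun u hu => ⟨fun h => hUcomm u hu z hzU ?_, ?_⟩)
      · rw [show z * (z * u * z) * z = (z * z) * u * (z * z) by group, hz2, one_mul, mul_one]
      · conv_lhs => rw [← h]
        rw [mul_assoc, hz2, mul_one]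
      · rintro rfl
        rw [hz2, one_mul]
    -- the conjugates of `z` fixing a given coset
    set F : G ⧸ H → Finset G := fun q => Finset.univ.filter fun x => IsConj z x ∧ fixes x q with hF
    have hFmem : ∀ q x, x ∈ F q ↔ IsConj z x ∧ fixes x q := fun q x => by simp [hF]
    obtain ⟨s, hs, hsβ⟩ : ∃ s, IsConj z s ∧ fixes s β := ⟨b * z * b⁻¹, isConj_iff.2 ⟨b, rfl⟩,
      (fixmk _ _).2 (by rw [show b⁻¹ * (b * z * b⁻¹) * b = z by group]; exact hzH)⟩
    have hmaps : ∀ u ∈ U, u * s * u ∈ F γ := fun u hu => by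
      refine (hFmem _ _).2 ⟨hs.trans (isConj_iff.2 ⟨u, ?_⟩), ?_⟩
      · rw [inv_eq_of_mul_eq_one_right (hinv2 u ((hUmem u).1 hu).1)]
      · have h2 := hconjfix u s β hsβ
        rwa [((hUmem u).1 hu).2, inv_eq_of_mul_eq_one_right (hinv2 u ((hUmem u).1 hu).1)] at h2
    have hfib : ∀ r ∈ F γ, ((U.filter fun u => u * s * u = r).card : ZMod 2) = 1 := by
      intro r hr
      obtain ⟨hrc, hrγ⟩ := (hFmem _ _).1 hr
      have hss := hinv2 s hs
      have hrr := hinv2 r hrc
      have hsinv : s⁻¹ = s := inv_eq_of_mul_eq_one_right hss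
      have hrinv : r⁻¹ = r := inv_eq_of_mul_eq_one_right hrr
      set c := s * r with hc
      have hinvert : s * c * s⁻¹ = c⁻¹ := by
        rw [hc, mul_inv_rev, hsinv, hrinv, ← mul_assoc s s, hss, one_mul]
      have hkey : ∀ m : ℕ, c ^ m * s = s * (c ^ m)⁻¹ := fun m => by
        rw [← inv_pow, ← hinvert, conj_pow, hsinv]
        simp only [← mul_assoc, hss, one_mul]
      have hr_eq : r = s * c := by rw [hc, ← mul_assoc, hss, one_mul]
      have hdbl : ∀ j : ℕ, c ^ j * s * (c ^ j)⁻¹ = c ^ (j + j) * s := fun j => by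
        rw [mul_assoc, ← hkey, ← mul_assoc, ← pow_add]
      -- the order of `c` is odd
      have hodd : Odd (orderOf c) := by
        rcases Nat.even_or_odd (orderOf c) with ⟨d, hd⟩ | h
        swap
        · exact h
        exfalso
        have hd0 : 0 < d := by have := orderOf_pos c; omega
        set i := c ^ d with hi
        have hii : i * i = 1 := by rw [hi, ← pow_add, ← hd, pow_orderOf_eq_one]
        have hi1 : i ≠ 1 := fun h => by
          have := Nat.le_of_dvd hd0 (orderOf_dvd_of_pow_eq_one h); omega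
        have hiinv : i⁻¹ = i := inv_eq_of_mul_eq_one_right hii
        have hcs : i * s = s * i := by rw [hi, hkey, ← hi, hiinv]
        have hci : c * i = i * c := by rw [hi, ← pow_succ, ← pow_succ']
        have hcr : i * r = r * i := by
          rw [hr_eq, ← mul_assoc, hcs, mul_assoc, ← hci, ← mul_assoc]
        have hr' : r = c⁻¹ * s := by rw [hc, mul_inv_rev, hsinv, hrinv, mul_assoc, hss, mul_one]
        have hX : IsConj z (i * s) ∧ IsConj z (i * r) := by
          rcases Nat.even_or_odd d with ⟨j, hj⟩ | ⟨j, hj⟩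
          · have e1 : c ^ j * s * (c ^ j)⁻¹ = i * s := by rw [hdbl, hi, hj]
            have e2 : c ^ j * r * (c ^ j)⁻¹ = i * r := by
              calc c ^ j * r * (c ^ j)⁻¹ = c⁻¹ * (c ^ j * s * (c ^ j)⁻¹) := by rw [hr']; group
                _ = c⁻¹ * (i * s) := by rw [e1]
                _ = i * r := by rw [hr', hi]; group
            exact ⟨hs.trans (isConj_iff.2 ⟨_, e1⟩), hrc.trans (isConj_iff.2 ⟨_, e2⟩)⟩
          · have e1 : c ^ (j + 1) * r * (c ^ (j + 1))⁻¹ = i * s := by
              rw [hr', hi, hj, ← mul_assoc (c ^ (j + 1)), show c ^ (j + 1) * c⁻¹ = c ^ j by rw [pow_succ, mul_inv_cancel_right],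
                mul_assoc, ← hkey, ← mul_assoc, ← pow_add, show j + (j + 1) = 2 * j + 1 by omega]
            have e2 : c ^ j * s * (c ^ j)⁻¹ = i * r := by
              rw [hdbl, hi, hj, hr', ← mul_assoc, pow_succ, mul_inv_cancel_right, two_mul]
            exact ⟨hrc.trans (isConj_iff.2 ⟨_, e1⟩), hs.trans (isConj_iff.2 ⟨_, e2⟩)⟩
        obtain ⟨hXs, hXr⟩ := hX
        have hne1 : s ≠ i * s := fun e => hi1 (mul_eq_right.1 e.symm)
        have hne2 : r ≠ i * r := fun e => hi1 (mul_eq_right.1 e.symm)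
        have e1 : s * (i * s) = i := by rw [← mul_assoc, ← hcs, mul_assoc, hss, mul_one]
        have e2 : r * (i * r) = i := by rw [← mul_assoc, ← hcr, mul_assoc, hrr, mul_one]
        have hcs' : s * (i * s) = i * s * s := by rw [e1, mul_assoc, hss, mul_one]
        have hcr' : r * (i * r) = i * r * r := by rw [e2, mul_assoc, hrr, mul_one]
        obtain ⟨q, hq⟩ : ∃ q : G ⧸ H, fixes i q := by
          refine ⟨β, ?_⟩
          have hiβ := hconjfix i s β hsβ
          rw [hcs, mul_inv_cancel_right] at hiβ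
          exact (huniq s hs _ _ hiβ hsβ)
        have h2 := hprod s (i * s) hs hXs hne1 hcs' q (by rw [e1]; exact hq)
        have h3 := hprod r (i * r) hrc hXr hne2 hcr' q (by rw [e2]; exact hq)
        exact hβγ ((huniq s hs _ _ hsβ h2).trans (huniq r hrc _ _ h3 hrγ))
      obtain ⟨d, hd⟩ := hodd
      -- the involution of the dihedral group exchanging `s` and `r`
      set u₀ := c ^ d * s with hu₀
      have he : c ^ ((d + 1) * d) * s * (c ^ ((d + 1) * d))⁻¹ = u₀ := by
        rw [hdbl, hu₀, show (d + 1) * d + (d + 1) * d = d + orderOf c * d by rw [hd]; ring,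
          pow_add, pow_mul, pow_orderOf_eq_one, one_pow, mul_one]
      have hu₀c : IsConj z u₀ := hs.trans (isConj_iff.2 ⟨_, he⟩)
      have hu₀u := hinv2 u₀ hu₀c
      have hu₀s : u₀ * s * u₀ = r := by
        rw [hu₀, mul_assoc (c ^ d) s s, hss, mul_one, ← mul_assoc, ← pow_add, hr_eq]
        have h4 : c ^ (d + d) = c⁻¹ := by
          rw [eq_inv_iff_mul_eq_one, ← pow_succ, show d + d + 1 = orderOf c by omega, pow_orderOf_eq_one]
        rw [h4, ← hinvert, hsinv, mul_assoc (s * c), hss, mul_one]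
      have hu₀U : u₀ ∈ U := by
        refine (hUmem _).2 ⟨hu₀c, ?_⟩
        have h5 := hconjfix u₀ s β hsβ
        rw [inv_eq_of_mul_eq_one_right hu₀u, hu₀s] at h5
        exact huniq r hrc _ _ h5 hrγ
      refine cast_card_one _ (fun u => u₀ * u * u₀) u₀ (Finset.mem_filter.2 ⟨hu₀U, hu₀s⟩) ?_ ?_ ?_
      · intro u hu
        obtain ⟨huU, hus⟩ := Finset.mem_filter.1 hu
        refine Finset.mem_filter.2 ⟨hUconj u huU u₀ hu₀U, ?_⟩
        have huu := hinv2 u ((hUmem u).1 huU).1
        calc u₀ * u * u₀ * s * (u₀ * u * u₀) = u₀ * u * (u₀ * s * u₀) * u * u₀ := by group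
          _ = u₀ * u * (u * s * u) * u * u₀ := by rw [hu₀s, hus]
          _ = u₀ * ((u * u) * s * (u * u)) * u₀ := by group
          _ = r := by rw [huu, one_mul, mul_one, hu₀s]
      · intro u _
        rw [show u₀ * (u₀ * u * u₀) * u₀ = (u₀ * u₀) * u * (u₀ * u₀) by group, hu₀u, one_mul, mul_one]
      · intro u hu
        refine ⟨fun h => hUcomm u (Finset.mem_filter.1 hu).1 u₀ hu₀U ?_, ?_⟩
        · conv_lhs => rw [← h]
          rw [mul_assoc, hu₀u, mul_one]
        · rintro rfl
          rw [hu₀u, one_mul]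
    have hFodd : ((F γ).card : ZMod 2) = 1 := by
      rw [← hU1, Finset.card_eq_sum_card_fiberwise hmaps, Nat.cast_sum, Finset.sum_congr rfl hfib,
        Finset.sum_const, nsmul_one]
    -- the class has odd size
    obtain ⟨g, hg⟩ := QuotientGroup.mk_surjective γ
    set Cz := Subgroup.centralizer ({z} : Set G) with hCzdef
    have hk : Nat.card (H ⧸ Cz.subgroupOf H) = (F γ).card := by
      rw [← Fintype.card_coe, ← Nat.card_eq_fintype_card]
      refine Nat.card_congr (Equiv.ofBijective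
        (fun q => ⟨g * (q.out : G) * z * (g * (q.out : G))⁻¹, (hFmem _ _).2 ⟨isConj_iff.2 ⟨_, rfl⟩, ?_⟩⟩) ⟨?_, ?_⟩)
      · rw [← hg, fixmk]
        rw [show g⁻¹ * (g * (q.out : G) * z * (g * (q.out : G))⁻¹) * g = (q.out : G) * z * (q.out : G)⁻¹ by group]
        exact H.mul_mem (H.mul_mem q.out.2 hzH) (H.inv_mem q.out.2)
      · intro q q' h
        have h' := congrArg Subtype.val h
        simp only at h'
        rw [← QuotientGroup.out_eq' q, ← QuotientGroup.out_eq' q', QuotientGroup.eq, Subgroup.mem_subgroupOf]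
        refine Subgroup.mem_centralizer_singleton_iff.2 ?_
        simp only [Subgroup.coe_mul, Subgroup.coe_inv]
        calc (q.out : G)⁻¹ * q'.out * z
            = (q.out : G)⁻¹ * g⁻¹ * (g * q'.out * z * (g * (q'.out : G))⁻¹) * g * q'.out := by group
          _ = (q.out : G)⁻¹ * g⁻¹ * (g * q.out * z * (g * (q.out : G))⁻¹) * g * q'.out := by rw [h']
          _ = z * ((q.out : G)⁻¹ * q'.out) := by group
      · rintro ⟨x, hx⟩
        obtain ⟨hxc, hxγ⟩ := (hFmem _ _).1 hx
        obtain ⟨k, rfl⟩ := isConj_iff.1 hxc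
        rw [← hg, fixmk] at hxγ
        have hkH : k⁻¹ * g ∈ H := (h0' _).1 (by convert hxγ using 1; group)
        have hgk : g⁻¹ * k ∈ H := by
          have := H.inv_mem hkH
          rwa [mul_inv_rev, inv_inv] at this
        refine ⟨((⟨g⁻¹ * k, hgk⟩ : H) : H ⧸ Cz.subgroupOf H), Subtype.ext ?_⟩
        obtain ⟨w, hw⟩ := QuotientGroup.mk_out_eq_mul (Cz.subgroupOf H) (⟨g⁻¹ * k, hgk⟩ : H)
        show g * ((QuotientGroup.mk (⟨g⁻¹ * k, hgk⟩ : H)).out : G) * z * _ = _
        rw [hw]
        have hwz : ((w : H) : G) * z = z * (w : H) :=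
          Subgroup.mem_centralizer_singleton_iff.1 (Subgroup.mem_subgroupOf.1 w.2)
        simp only [Subgroup.coe_mul]
        calc g * (g⁻¹ * k * ((w : H) : G)) * z * (g * (g⁻¹ * k * ((w : H) : G)))⁻¹
            = k * (((w : H) : G) * z) * ((w : H) : G)⁻¹ * k⁻¹ := by group
          _ = k * (z * ((w : H) : G)) * ((w : H) : G)⁻¹ * k⁻¹ := by rw [hwz]
          _ = k * z * k⁻¹ := by group
    have hCidx : ¬ 2 ∣ Cz.index := by
      rw [← Subgroup.relIndex_mul_index hCz, Nat.Prime.dvd_mul Nat.prime_two, not_or]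
      refine ⟨fun h => ?_, hidx⟩
      rw [Subgroup.relIndex, Subgroup.index_eq_card, hk] at h
      rw [(ZMod.natCast_eq_zero_iff_even).2 (even_iff_two_dvd.2 h)] at hFodd
      exact zero_ne_one hFodd
    obtain ⟨R⟩ : Nonempty (Sylow 2 Cz) := inferInstance
    have hzR : (⟨z, Subgroup.mem_centralizer_singleton_iff.2 rfl⟩ : Cz) ∈ (R : Subgroup Cz) := by
      have hp : IsPGroup 2 (Subgroup.zpowers (⟨z, Subgroup.mem_centralizer_singleton_iff.2 rfl⟩ : Cz)) :=
        IsPGroup.of_card (n := 1) (by rw [Nat.card_zpowers, Subgroup.orderOf_mk, hz, pow_one])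
      haveI : (Subgroup.zpowers (⟨z, Subgroup.mem_centralizer_singleton_iff.2 rfl⟩ : Cz)).Normal := by
        refine ⟨fun x hx y => ?_⟩
        obtain ⟨m, rfl⟩ := Subgroup.mem_zpowers_iff.1 hx
        have hyz : y * ⟨z, Subgroup.mem_centralizer_singleton_iff.2 rfl⟩ * y⁻¹ = (⟨z, Subgroup.mem_centralizer_singleton_iff.2 rfl⟩ : Cz) :=
          Subtype.ext (mul_inv_eq_iff_eq_mul.2 (Subgroup.mem_centralizer_singleton_iff.1 y.2))
        rw [← conj_zpow, hyz]
        exact hx
      exact hp.le_sylow_of_normal R (Subgroup.mem_zpowers _)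
    have hR' : ¬ 2 ∣ ((R : Subgroup Cz).map Cz.subtype).index := by
      rw [Subgroup.index_map_subtype, Nat.Prime.dvd_mul Nat.prime_two, not_or]
      exact ⟨R.not_dvd_index, hCidx⟩
    refine ⟨(R.2.map Cz.subtype).toSylow hR', ⟨z, ⟨_, hzR, rfl⟩⟩, ?_, rfl⟩
    rw [SetLike.mem_coe, Subgroup.mem_center_iff]
    rintro ⟨_, y, hy, rfl⟩
    exact Subtype.ext (Subgroup.mem_centralizer_singleton_iff.1 y.2)
  · rintro ⟨⟨P, ⟨z₁, hz₁⟩, hzP, hz₁eq⟩, h2⟩ t ht htz hcom g
    have hztH : z * t ∈ H := H.mul_mem hzH (hCz (Subgroup.mem_centralizer_singleton_iff.2 hcom))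
    rw [hmem]
    refine ⟨fun hg => ?_, fun hg => H.mul_mem (H.mul_mem (H.inv_mem hg) hztH) hg⟩
    -- a Sylow subgroup of `H` through the conjugate involution
    have ht2 : t * t = 1 := by
      obtain ⟨k, rfl⟩ := isConj_iff.1 ht
      rw [show k * z * k⁻¹ * (k * z * k⁻¹) = k * (z * z) * k⁻¹ by group, hz2, mul_one, mul_inv_cancel]
    set i' := g⁻¹ * (z * t) * g with hi'
    have hi2 : i' * i' = 1 := by
      rw [hi', show g⁻¹ * (z * t) * g * (g⁻¹ * (z * t) * g) = g⁻¹ * (z * (t * z) * t) * g by group, hcom,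
        ← mul_assoc z z t, hz2, one_mul, ht2, mul_one, inv_mul_cancel]
    have hp : IsPGroup 2 (Subgroup.zpowers (⟨i', hg⟩ : H)) := fun x => ⟨1, by
      obtain ⟨x, hx⟩ := x
      obtain ⟨m, rfl⟩ := Subgroup.mem_zpowers_iff.1 hx
      refine Subtype.ext ?_
      show ((⟨i', hg⟩ : H) ^ m) ^ 2 ^ 1 = 1
      rw [pow_one, ← zpow_natCast, ← zpow_mul, mul_comm, zpow_mul, zpow_natCast, pow_two,
        show (⟨i', hg⟩ : H) * ⟨i', hg⟩ = 1 from Subtype.ext hi2, one_zpow]⟩
    obtain ⟨R, hR⟩ := hp.exists_le_sylow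
    have hR' : ¬ 2 ∣ ((R : Subgroup H).map H.subtype).index := by
      rw [Subgroup.index_map_subtype, Nat.Prime.dvd_mul Nat.prime_two, not_or]
      exact ⟨R.not_dvd_index, hidx⟩
    obtain ⟨k, hk⟩ := MulAction.exists_smul_eq G P ((R.2.map H.subtype).toSylow hR')
    have hz₁c : ∀ y ∈ (P : Subgroup G), y * z = z * y := fun y hy => by
      have h3 := congrArg Subtype.val (Subgroup.mem_center_iff.1 hzP ⟨y, hy⟩)
      have h4 : z₁ = z := hz₁eq
      rw [← h4]
      exact h3
    have hsm : ∀ x, x ∈ (R : Subgroup H).map H.subtype ↔ k⁻¹ * x * k ∈ (P : Subgroup G) := fun x => by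
      have h3 : x ∈ ((k • P : Sylow 2 G) : Subgroup G) ↔ x ∈ (R : Subgroup H).map H.subtype := by rw [hk]; rfl
      rw [← h3, Sylow.coe_subgroup_smul, Subgroup.mem_pointwise_smul_iff_inv_smul_mem]
      simp [MulAut.smul_def]
    set z' := k * z * k⁻¹ with hz'
    have hz'H : z' ∈ H := by
      have h3 : z' ∈ (R : Subgroup H).map H.subtype := (hsm z').2 (by
        rw [hz', show k⁻¹ * (k * z * k⁻¹) * k = z by group]
        rw [← hz₁eq]
        exact ‹z₁ ∈ (P : Subgroup G)›)
      exact Subgroup.map_subtype_le _ h3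
    have hi'R : i' ∈ (R : Subgroup H).map H.subtype := ⟨_, hR (Subgroup.mem_zpowers _), rfl⟩
    have hcz : i' * z' = z' * i' := by
      have h3 := hz₁c _ ((hsm i').1 hi'R)
      rw [hz']
      calc i' * (k * z * k⁻¹) = k * ((k⁻¹ * i' * k) * z) * k⁻¹ := by group
        _ = k * (z * (k⁻¹ * i' * k)) * k⁻¹ := by rw [h3]
        _ = _ := by group
    -- its conjugate centralizes `z t`, hence lies in `H`
    have h5 : g * z' * g⁻¹ ∈ Subgroup.centralizer ({z * t} : Set G) := by
      refine Subgroup.mem_centralizer_singleton_iff.2 ?_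
      rw [show z * t = g * i' * g⁻¹ by rw [hi']; group]
      calc g * z' * g⁻¹ * (g * i' * g⁻¹) = g * (z' * i') * g⁻¹ := by group
        _ = g * (i' * z') * g⁻¹ := by rw [hcz]
        _ = _ := by group
    have h6 := h2 t ht htz hcom h5
    have hkH : k⁻¹ ∈ H := (h0' k⁻¹).1 (by rw [inv_inv]; exact hz'H)
    have hgk : (g * k)⁻¹ ∈ H := (h0' _).1 (by
      rw [inv_inv]
      convert h6 using 1
      rw [hz']; group)
    have h7 := H.mul_mem (H.inv_mem hgk) hkH
    rwa [inv_inv, mul_inv_cancel_right] at h7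

end Cfsg.Agent.S1922
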