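import Cfsg.Statements.S1930
import Cfsg.Agent.QuadEqui.CharP
import Cfsg.Agent.Comp.Basic
import Cfsg.Agent.Solvable.Fitting
import Cfsg.Agent.Functor.Relative

set_option autoImplicit false
open Cfsg Subgroup

namespace Cfsg.Agent.S1930

/-- Inside a finite group let G be a nontrivial subgroup and R an r-subgroup (r a prime) normalizing G, with the order of G prime to r. Let p > 3 be a prime with F*(G) = O_p(G), and let P be the intersection of all R-invariant Sylow p-subgroups of G. Then P has a nontrivial characteristic subgroup that is normalized by G. -/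
theorem result {X : Type*} [Group X] [Finite X] (G R : Subgroup X) (r : ℕ) [Fact r.Prime] (hR : IsPGroup r ↥R) (hcop : (Nat.card ↥G).Coprime r) (hnorm : R ≤ Subgroup.normalizer (G : Set X)) (hG : G ≠ ⊥) (p : ℕ) [Fact p.Prime] (hp : 3 < p) (hF : Cfsg.generalizedFittingSubgroup ↥G = Cfsg.pCore p ↥G) (P : Subgroup X) (hP : P = ⨅ S : {S : Sylow p ↥G // ∀ a ∈ R, ((S : Subgroup ↥G).map G.subtype).map (MulAut.conj a).toMonoidHom = (S : Subgroup ↥G).map G.subtype}, ((S : Sylow p ↥G) : Subgroup ↥G).map G.subtype) : ∃ C : Subgroup ↥P, C.Characteristic ∧ C ≠ ⊥ ∧ G ≤ Subgroup.normalizer ((C.map P.subtype : Subgroup X) : Set X) := by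
  classical
  have hp5 : 5 ≤ p := by
    by_contra h
    obtain rfl : p = 4 := by omega
    exact absurd (Fact.out : (4 : ℕ).Prime) (by norm_num)
  have hFc : centralizer (Cfsg.pCore p ↥G : Set ↥G) ≤ Cfsg.pCore p ↥G := hF ▸ CfsgLib.Comp.centralizer_Fstar_le
  have hTG1 : Cfsg.pCore p ↥G ≠ ⊥ := fun e => by
    rw [e] at hFc
    refine hG (eq_bot_iff.2 fun x hx => ?_)
    have := hFc (show (⟨x, hx⟩ : G) ∈ centralizer ((⊥ : Subgroup G) : Set G) from
      mem_centralizer_iff.2 fun y hy => by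
        rw [SetLike.mem_coe, mem_bot] at hy
        rw [hy, one_mul, mul_one])
    rw [mem_bot] at this ⊢
    exact congrArg Subtype.val this
  have hrp : r ≠ p := by
    rintro rfl
    obtain ⟨k, hk⟩ := IsPGroup.iff_card.1 (CfsgLib.Solvable.isPGroup_pCore (G := G) r)
    have hd := hk ▸ Subgroup.card_subgroup_dvd_card (Cfsg.pCore r ↥G)
    rcases k with _ | k
    · exact hTG1 (Subgroup.card_eq_one.1 (hk.trans (pow_zero r)))
    · exact (Fact.out : r.Prime).coprime_iff_not_dvd.1 hcop.symm ((dvd_pow_self r k.succ_ne_zero).trans hd)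
  have hcopRG : (Nat.card R).Coprime (Nat.card G) := by
    obtain ⟨k, hk⟩ := IsPGroup.iff_card.1 hR
    exact hk ▸ hcop.symm.pow_left k
  have hodd : Odd (Nat.card R) ∨ Odd (Nat.card G) := by
    rcases (Fact.out : r.Prime).eq_two_or_odd' with rfl | h
    · exact Or.inr hcop.odd_of_right
    · obtain ⟨k, hk⟩ := IsPGroup.iff_card.1 hR
      exact Or.inl (hk ▸ h.pow)
  have hsolv := CfsgLib.QuadFix.solvable_or_of_coprime hcopRG
  -- the meet
  have hinv : ∀ S : Sylow p G, R ≤ normalizer (((S : Subgroup G).map G.subtype : Subgroup X) : Set X) ↔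
      ∀ a ∈ R, ((S : Subgroup G).map G.subtype).map (MulAut.conj a).toMonoidHom = (S : Subgroup G).map G.subtype :=
    fun S => ⟨fun h a ha => CfsgLib.RankOne.conjBy_eq_self_iff.2 (h ha),
      fun h a ha => CfsgLib.RankOne.conjBy_eq_self_iff.1 (h a ha)⟩
  obtain ⟨S₀, hS₀⟩ := CfsgLib.CoprimeAct.exists_invariant_sylow hnorm hcopRG hsolv p
  have hmem : ∀ x, x ∈ P ↔ ∀ S : Sylow p G, R ≤ normalizer (((S : Subgroup G).map G.subtype : Subgroup X) : Set X) →
      x ∈ (S : Subgroup G).map G.subtype := fun x => by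
    rw [hP, mem_iInf]
    exact ⟨fun h S hS => h ⟨S, (hinv S).1 hS⟩, fun h S => h S.1 ((hinv S.1).2 S.2)⟩
  have hPG : P ≤ G := fun x hx => map_subtype_le _ ((hmem x).1 hx S₀ hS₀)
  have hPp : IsPGroup p P := (S₀.2.map G.subtype).to_le fun x hx => (hmem x).1 hx S₀ hS₀
  have hconj : ∀ g : X, (∀ S : Sylow p G, R ≤ normalizer (((S : Subgroup G).map G.subtype : Subgroup X) : Set X) →
      ∃ S' : Sylow p G, R ≤ normalizer (((S' : Subgroup G).map G.subtype : Subgroup X) : Set X) ∧
        ∀ y ∈ (S' : Subgroup G).map G.subtype, g * y * g⁻¹ ∈ (S : Subgroup G).map G.subtype) →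
      ∀ y ∈ P, g * y * g⁻¹ ∈ P := fun g h y hy => (hmem _).2 fun S hS => by
    obtain ⟨S', hS', hS''⟩ := h S hS
    exact hS'' y ((hmem y).1 hy S' hS')
  have hnormP : ∀ {Z : Subgroup X}, (∀ g ∈ Z, ∀ y ∈ P, g * y * g⁻¹ ∈ P) → Z ≤ normalizer (P : Set X) := by
    intro Z h g hg
    rw [mem_normalizer_iff]
    refine fun y => ⟨h g hg y, fun hy => ?_⟩
    have := h _ (inv_mem hg) _ hy
    simpa [mul_assoc] using this
  have hRP : R ≤ normalizer (P : Set X) := hnormP fun a ha => hconj a fun S hS =>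
    ⟨S, hS, fun y hy => (mem_normalizer_iff.1 (hS ha) y).1 hy⟩
  have hCP : G ⊓ centralizer (R : Set X) ≤ normalizer (P : Set X) := hnormP fun c hc => hconj c fun S hS => by
    obtain ⟨g, hg⟩ : ∃ g : G, g = ⟨c, hc.1⟩⁻¹ := ⟨_, rfl⟩
    have hkey : ∀ y, y ∈ ((g • S : Sylow p G) : Subgroup G).map G.subtype ↔
        c * y * c⁻¹ ∈ (S : Subgroup G).map G.subtype := by
      intro y
      constructor
      · rintro ⟨_, ⟨z, hz, rfl⟩, rfl⟩
        refine ⟨z, hz, ?_⟩
        subst hg
        simp [mul_assoc]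
      · rintro ⟨z, hz, he⟩
        refine ⟨g * z * g⁻¹, ⟨z, hz, rfl⟩, ?_⟩
        subst hg
        replace he : (z : X) = c * y * c⁻¹ := he
        simp [he, mul_assoc]
    refine ⟨g • S, fun a ha => ?_, fun y hy => (hkey y).1 hy⟩
    rw [mem_normalizer_iff]
    intro y
    rw [hkey, hkey, mem_normalizer_iff.1 (hS ha) (c * y * c⁻¹)]
    have hac : a * c = c * a := mem_centralizer_iff.1 hc.2 a ha
    have e : a * (c * y * c⁻¹) * a⁻¹ = c * (a * y * a⁻¹) * c⁻¹ := by
      calc a * (c * y * c⁻¹) * a⁻¹ = (a * c) * y * (a * c)⁻¹ := by group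
        _ = c * (a * y * a⁻¹) * c⁻¹ := by rw [hac]; group
    rw [e]
  -- the product with the operators
  obtain ⟨H, hH⟩ : ∃ H, H = G ⊔ R := ⟨_, rfl⟩
  have hGH : G ≤ H := hH ▸ le_sup_left
  have hRH : R ≤ H := hH ▸ le_sup_right
  haveI hGn : (G.subgroupOf H).Normal :=
    (normal_subgroupOf_iff_le_normalizer hGH).2 (hH ▸ sup_le le_normalizer hnorm)
  have hcard : ∀ {K : Subgroup X}, K ≤ H → Nat.card (K.subgroupOf H) = Nat.card K := fun h =>
    Nat.card_congr (subgroupOfEquivOfLe h).toEquiv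
  have hset : CfsgLib.QuadEqui.Setting p (G.subgroupOf H) (R.subgroupOf H) (P.subgroupOf H) := by
    refine ⟨by rwa [hcard hRH, hcard hGH], by rwa [hcard hRH, hcard hGH], fun x hx => hPG hx,
      hPp.comap_subtype, fun a ha => ?_, fun c hc => ?_⟩
    · rw [mem_normalizer_iff]
      exact fun y => mem_normalizer_iff.1 (hRP ha) (y : X)
    · rw [mem_normalizer_iff]
      refine fun y => mem_normalizer_iff.1 (hCP ⟨hc.1, mem_centralizer_iff.2 fun a ha => ?_⟩) (y : X)
      exact congrArg Subtype.val (mem_centralizer_iff.1 hc.2 ⟨a, hRH ha⟩ ha)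
  -- the p-core of the product
  have hTle : Cfsg.pCore p H ≤ G.subgroupOf H := by
    intro x hx
    obtain ⟨k, hk⟩ := CfsgLib.Solvable.isPGroup_pCore (G := H) p ⟨x, hx⟩
    replace hk : x ^ p ^ k = 1 := congrArg Subtype.val hk
    have hx' : x ∈ G.subgroupOf H ⊔ R.subgroupOf H := by
      rw [← subgroupOf_sup hGH hRH, ← hH, subgroupOf_self]; exact mem_top x
    rw [mem_sup_of_normal_left] at hx'
    obtain ⟨g, hg, s, hs, rfl⟩ := hx'
    obtain ⟨l, hl⟩ := hR ⟨s, hs⟩
    replace hl : s ^ r ^ l = 1 := Subtype.ext (by simpa using congrArg Subtype.val hl)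
    rw [← QuotientGroup.eq_one_iff]
    show QuotientGroup.mk' (G.subgroupOf H) (g * s) = 1
    have hg1 : QuotientGroup.mk' (G.subgroupOf H) g = 1 := (QuotientGroup.eq_one_iff g).2 hg
    have h1 : (QuotientGroup.mk' (G.subgroupOf H) s) ^ p ^ k = 1 := by
      have := congrArg (QuotientGroup.mk' (G.subgroupOf H)) hk
      rwa [map_pow, map_mul, hg1, one_mul, map_one] at this
    have h2 : (QuotientGroup.mk' (G.subgroupOf H) s) ^ r ^ l = 1 := by rw [← map_pow, hl, map_one]
    have h3 : (p ^ k).Coprime (r ^ l) :=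
      (((Nat.coprime_primes Fact.out Fact.out).2 hrp.symm).pow_left k).pow_right l
    rw [map_mul, hg1, one_mul, ← pow_one (QuotientGroup.mk' (G.subgroupOf H) s), ← h3.gcd_eq_one]
    exact pow_gcd_eq_one.2 ⟨h1, h2⟩
  obtain ⟨ι, hι⟩ : ∃ ι : G →* H, ι = Subgroup.inclusion hGH := ⟨_, rfl⟩
  have hrange : ι.range = G.subgroupOf H := hι ▸ inclusion_range hGH
  have hPle : Cfsg.pCore p H ≤ P.subgroupOf H := by
    intro x hx
    refine (hmem _).2 fun S _ => ?_
    obtain ⟨y, rfl⟩ := hrange.ge (hTle hx)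
    have : (Cfsg.pCore p H).comap ι ≤ (S : Subgroup G) :=
      (CfsgLib.Solvable.le_pCore p inferInstance ((CfsgLib.Solvable.isPGroup_pCore (G := H) p).comap_of_injective ι
        (hι ▸ inclusion_injective hGH))).trans (CfsgLib.Fitting.pCore_le_sylow S)
    exact ⟨y, this hx, by rw [hι]; rfl⟩
  have hTG : (Cfsg.pCore p ↥G).map ι ≤ Cfsg.pCore p H := by
    refine CfsgLib.Solvable.le_pCore p ?_ ((CfsgLib.Solvable.isPGroup_pCore (G := G) p).map ι)
    obtain ⟨e, he⟩ : ∃ e : G ≃* G.subgroupOf H, e = (subgroupOfEquivOfLe hGH).symm := ⟨_, rfl⟩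
    have hmap : (Cfsg.pCore p ↥G).map ι = ((Cfsg.pCore p ↥G).map e.toMonoidHom).map (G.subgroupOf H).subtype := by
      rw [Subgroup.map_map]
      congr 1
      subst hι he
      rfl
    haveI hch : ((Cfsg.pCore p ↥G).map e.toMonoidHom).Characteristic := by
      haveI hc : (Cfsg.pCore p ↥G).Characteristic := characteristic_iff_map_le.2 fun φ =>
        CfsgLib.Solvable.le_pCore p ((inferInstance : (Cfsg.pCore p ↥G).Normal).map _ φ.surjective)
          ((CfsgLib.Solvable.isPGroup_pCore (G := G) p).map _)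
      refine characteristic_iff_map_eq.2 fun φ => ?_
      rw [Subgroup.map_map]
      have := characteristic_iff_map_eq.1 hc ((e.trans φ).trans e.symm)
      conv_rhs => rw [← this, Subgroup.map_map]
      congr 1
      ext x
      simp
    rw [hmap]
    exact ConjAct.normal_of_characteristic_of_normal
  have hC : G.subgroupOf H ⊓ centralizer (Cfsg.pCore p H : Set H) ≤ Cfsg.pCore p H := by
    rintro x ⟨hxG, hxC⟩
    obtain ⟨y, rfl⟩ := hrange.ge hxG
    refine hTG (mem_map_of_mem ι (hFc (mem_centralizer_iff.2 fun z hz => ?_)))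
    apply (hι ▸ inclusion_injective hGH : Function.Injective ι)
    rw [map_mul, map_mul]
    exact mem_centralizer_iff.1 hxC _ (hTG (mem_map_of_mem ι hz))
  haveI hn := CfsgLib.QuadEqui.kInfLower_normal hp5 hset hPle hC
  have hW := (CfsgLib.Kinf.isCharPFunctor_kInf p).1
  have hPmap : (P.subgroupOf H).map H.subtype = P := map_subgroupOf_eq_of_le (hPG.trans hGH)
  refine ⟨Cfsg.kInfLower ↥P, CfsgLib.Functor.functor_characteristic hW.2 ↥P hPp, hW.1 _ hPp ?_, ?_⟩
  · rw [nontrivial_iff_ne_bot]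
    intro e
    refine hTG1 (le_bot_iff.1 fun z hz => ?_)
    have hz' := hPle (hTG (mem_map_of_mem ι hz))
    rw [mem_subgroupOf, e, mem_bot] at hz'
    rw [mem_bot]
    apply Subtype.ext
    rw [hι] at hz'
    exact hz'
  · have h := CfsgLib.Functor.induced_map hW.2 H.subtype (P.subgroupOf H) hset.pGroup
      fun x _ hx => H.subtype_injective (hx.trans H.subtype.map_one.symm)
    rw [hPmap] at h
    refine hGH.trans ?_
    show H ≤ normalizer ((Cfsg.inducedFunctor Cfsg.kInfLower P : Subgroup X) : Set X)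
    rw [h]
    exact CfsgLib.Functor.le_normalizer_map_of_normal _

end Cfsg.Agent.S1930
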