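import Cfsg.Statements.S1931
import Cfsg.Agent.QuadEqui.LocalConv

set_option autoImplicit false
open Cfsg

namespace Cfsg.Agent.S1931

/-- Inside a finite group let G be a subgroup and R a noncyclic abelian r-subgroup (r a prime) normalizing G, with the order of G prime to r, and let p > 3 be a prime. Suppose that for every nonidentity a ∈ R, R centralizes the subgroup O^p(F*(C_G(a))) generated by the p'-elements of the generalized Fitting subgroup of C_G(a). Then R centralizes O^p(F*(G)). -/
theorem result {X : Type*} [Group X] [Finite X] (G R : Subgroup X) (r : ℕ) [Fact r.Prime] (hR : IsPGroup r ↥R) (hcop : (Nat.card ↥G).Coprime r) (hnorm : R ≤ Subgroup.normalizer (G : Set X)) (hab : IsMulCommutative ↥R) (hnc : ¬ IsCyclic ↥R) (p : ℕ) [Fact p.Prime] (hp : 3 < p) (hloc : ∀ a ∈ R, a ≠ 1 → R ≤ Subgroup.centralizer ((((Cfsg.pResidual p ↥(Cfsg.generalizedFittingSubgroup ↥(G ⊓ Subgroup.centralizer ({a} : Set X)))).map (Cfsg.generalizedFittingSubgroup ↥(G ⊓ Subgroup.centralizer ({a} : Set X))).subtype).map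 (G ⊓ Subgroup.centralizer ({a} : Set X)).subtype : Subgroup X) : Set X)) : R ≤ Subgroup.centralizer ((((Cfsg.pResidual p ↥(Cfsg.generalizedFittingSubgroup ↥G)).map (Cfsg.generalizedFittingSubgroup ↥G).subtype).map G.subtype : Subgroup X) : Set X) := by
  have hp5 : 5 ≤ p := by
    by_contra h
    obtain rfl : p = 4 := by omega
    exact absurd (Fact.out : (4 : ℕ).Prime) (by norm_num)
  have hcopRG : (Nat.card R).Coprime (Nat.card G) := by
    obtain ⟨k, hk⟩ := IsPGroup.iff_card.1 hR
    exact hk ▸ hcop.symm.pow_left k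
  refine CfsgLib.QuadEqui.le_of_fixes (CfsgLib.QuadEqui.fixes_of_local hp5 hnorm hcopRG hab hnc fun a ha ha1 => ?_)
  exact CfsgLib.QuadEqui.fixes_of_le (CfsgLib.QuadEqui.le_normalizer_fixed hab ha hnorm)
    (hcopRG.coprime_dvd_right (Subgroup.card_dvd_of_le inf_le_left)) (hloc a ha ha1)

end Cfsg.Agent.S1931
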