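import Cfsg.Statements.S1941
import Cfsg.Agent.Comp.Basic
import Cfsg.Agent.Solvable.Fitting

set_option autoImplicit false
open Cfsg

namespace Cfsg.Agent.S1941

/-- Let G be a finite group with no nontrivial normal subgroup of order prime to p, T a Sylow p-subgroup of G and E(G) the layer of G (the subgroup generated by its components). An automorphism of G of p-power order that fixes T and E(G) elementwise is inner. -/
theorem result {G : Type*} [Group G] [Finite G] {p : ℕ} [Fact p.Prime] (hcore : Cfsg.pPrimeCore p G = ⊥)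
    (T : Sylow p G) (α : MulAut G) (hα : ∃ j : ℕ, orderOf α = p ^ j) (hfixT : ∀ x ∈ (T : Subgroup G), α x = x)
    (hfixE : ∀ x ∈ Cfsg.layer G, α x = x) : ∃ g : G, ∀ x : G, α x = g * x * g⁻¹ := by
  classical
  set F := Cfsg.generalizedFittingSubgroup G
  set C := Subgroup.centralizer (F : Set G)
  have hCT : C ≤ (T : Subgroup G) := by
    letI : CommGroup C :=
      { (inferInstance : Group C) with
        mul_comm := fun a b => Subtype.ext (Subgroup.mem_centralizer_iff.1 b.2 a
          (CfsgLib.Comp.centralizer_Fstar_le a.2)) }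
    refine (CfsgLib.Comp.le_fitting inferInstance (CommGroup.isNilpotent (G := C))).trans ?_
    rw [CfsgLib.Fitting.fittingSubgroup_eq_pCore hcore]
    exact CfsgLib.Fitting.pCore_le_sylow T
  have hfixF : ∀ f ∈ F, α f = f := by
    intro f hf
    have h1 : F ≤ α.toMonoidHom.eqLocus (MonoidHom.id G) := sup_le (fun x hx => hfixE x hx) (by
      rw [CfsgLib.Fitting.fittingSubgroup_eq_pCore hcore]
      exact fun x hx => hfixT x (CfsgLib.Fitting.pCore_le_sylow T hx))
    exact h1 hf
  have hε : ∀ x : G, x * α x⁻¹ ∈ C := fun x => Subgroup.mem_centralizer_iff.2 fun f hf => by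
    have hf' : x⁻¹ * f * x ∈ F := by
      simpa using (inferInstance : F.Normal).conj_mem f hf x⁻¹
    have h1 := hfixF _ hf'
    rw [map_mul, map_mul, hfixF f hf] at h1
    calc f * (x * α x⁻¹) = x * (x⁻¹ * f * x) * α x⁻¹ := by group
      _ = x * (α x⁻¹ * f * α x) * α x⁻¹ := by rw [h1]
      _ = x * α x⁻¹ * f := by rw [map_inv]; group
  letI : CommGroup C :=
    { (inferInstance : Group C) with
      mul_comm := fun a b => Subtype.ext (Subgroup.mem_centralizer_iff.1 b.2 a
        (CfsgLib.Comp.centralizer_Fstar_le a.2)) }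
  haveI : Fintype (G ⧸ (T : Subgroup G)) := Fintype.ofFinite _
  set m := Fintype.card (G ⧸ (T : Subgroup G))
  let e : G → C := fun x => ⟨x * α x⁻¹, hε x⟩
  have heq : ∀ (x : G), e ((QuotientGroup.mk x : G ⧸ (T : Subgroup G)).out) = e x := by
    intro x
    obtain ⟨t, ht⟩ := QuotientGroup.mk_out_eq_mul (T : Subgroup G) x
    refine Subtype.ext ?_
    show (QuotientGroup.mk x : G ⧸ (T : Subgroup G)).out * α ((QuotientGroup.mk x : G ⧸ (T : Subgroup G)).out)⁻¹ = x * α x⁻¹
    rw [ht, mul_inv_rev, map_mul, hfixT _ (inv_mem t.2)]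
    group
  set z : C := ∏ q : G ⧸ (T : Subgroup G), e q.out
  have hkey : ∀ y : G, (y : G) * z * y⁻¹ * ((y * α y⁻¹) ^ m) = (z : G) := by
    intro y
    let c : C →* C :=
      { toFun := fun a => ⟨y * a * y⁻¹, (inferInstance : C.Normal).conj_mem _ a.2 y⟩
        map_one' := Subtype.ext (by simp)
        map_mul' := fun a b => Subtype.ext (by simp [mul_assoc]) }
    have h1 : z = c z * e y ^ m := by
      calc z = ∏ q : G ⧸ (T : Subgroup G), e ((MulAction.toPerm y : Equiv.Perm (G ⧸ (T : Subgroup G))) q).out :=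
            (Equiv.prod_comp (MulAction.toPerm y : Equiv.Perm (G ⧸ (T : Subgroup G)))
              (fun q => e q.out)).symm
        _ = ∏ q : G ⧸ (T : Subgroup G), c (e q.out) * e y := by
            refine Finset.prod_congr rfl fun q _ => ?_
            obtain ⟨x, rfl⟩ := QuotientGroup.mk_surjective q
            rw [MulAction.toPerm_apply, MulAction.Quotient.smul_mk, heq, heq]
            refine Subtype.ext ?_
            simp only [c, e, MonoidHom.coe_mk, OneHom.coe_mk, smul_eq_mul, Subgroup.coe_mul,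
              mul_inv_rev, map_mul]
            group
        _ = c z * e y ^ m := by
            rw [Finset.prod_mul_distrib, Finset.prod_const, Finset.card_univ, map_prod]
    simpa [c, e] using (congrArg Subtype.val h1).symm
  have hm : ¬ p ∣ m := by
    rw [show m = Nat.card (G ⧸ (T : Subgroup G)) from Nat.card_eq_fintype_card.symm,
      ← Subgroup.index_eq_card]
    exact T.not_dvd_index
  obtain ⟨k, hk⟩ := IsPGroup.iff_card.1 (T.2.to_le hCT)
  have hmcop : m.Coprime (Nat.card C) :=
    hk ▸ (((Fact.out : p.Prime).coprime_iff_not_dvd.2 hm).symm).pow_right k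
  obtain ⟨r, -, hr⟩ := Nat.exists_mul_mod_eq_of_coprime (k := Nat.card C) (n := m) 1 hmcop Nat.card_pos.ne'
  refine ⟨((z : G) ^ r)⁻¹, fun x => ?_⟩
  set y := x⁻¹
  have hyC : y * α y⁻¹ ∈ C := hε y
  have h1 : (y * α y⁻¹) = (y * α y⁻¹) ^ (m * r) := by
    conv_lhs => rw [← pow_one (y * α y⁻¹)]
    exact pow_eq_pow_iff_modEq.2 (Nat.ModEq.of_dvd (Subgroup.orderOf_dvd_natCard C hyC) hr.symm)
  have h2 : (y * α y⁻¹) ^ m = y * (z : G)⁻¹ * y⁻¹ * (z : G) := by
    calc (y * α y⁻¹) ^ m = (y * (z : G) * y⁻¹)⁻¹ * (y * (z : G) * y⁻¹ * (y * α y⁻¹) ^ m) := by group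
      _ = (y * (z : G) * y⁻¹)⁻¹ * (z : G) := by rw [hkey y]
      _ = _ := by group
  have hcomm : Commute (y * (z : G)⁻¹ * y⁻¹) (z : G) := by
    refine (Subgroup.mem_centralizer_iff.1 z.2 _ ?_)
    exact CfsgLib.Comp.centralizer_Fstar_le ((inferInstance : C.Normal).conj_mem _ (inv_mem z.2) y)
  rw [pow_mul, h2, hcomm.mul_pow, conj_pow, inv_pow] at h1
  have h4 : α y⁻¹ = ((z : G) ^ r)⁻¹ * y⁻¹ * (z : G) ^ r := by
    calc α y⁻¹ = y⁻¹ * (y * α y⁻¹) := by group
      _ = y⁻¹ * (y * ((z : G) ^ r)⁻¹ * y⁻¹ * (z : G) ^ r) := by rw [← h1]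
      _ = _ := by group
  simpa [y] using h4


end Cfsg.Agent.S1941
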