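import Cfsg.Statements.S1945
import Cfsg.Agent.Kinf.CenterSplit

set_option autoImplicit false
open Cfsg

namespace Cfsg.Agent.S1945

/-- Let S be a Sylow p-subgroup of the finite group G, and assume that p is odd or that G is solvable. The elements of S each of which is its only G-conjugate in S form a subgroup W of Z(S); W is then a direct factor of Z(S): there is a subgroup K of Z(S) with W ∩ K = 1 and WK = Z(S). (For p = 2 and G not solvable this can fail.) -/
theorem result {G : Type*} [Group G] [Finite G] {p : ℕ} [Fact p.Prime] (S : Sylow p G) (h : p ≠ 2 ∨ Group.IsSolvable G) :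
    ∃ W K : Subgroup G, (∀ x : G, x ∈ W ↔ (x ∈ (S : Subgroup G) ∧ ∀ g : G, g * x * g⁻¹ ∈ (S : Subgroup G) → g * x * g⁻¹ = x)) ∧
      K ≤ ((S : Subgroup G) ⊓ Subgroup.centralizer ((S : Subgroup G) : Set G)) ∧ W ⊓ K = ⊥ ∧ W ⊔ K = ((S : Subgroup G) ⊓ Subgroup.centralizer ((S : Subgroup G) : Set G)) := by
  rcases h with hp | hs
  · set J := Cfsg.thompsonSubgroupAOf (S : Subgroup G) with hJ
    have hJS : J ≤ (S : Subgroup G) := Subgroup.map_subtype_le _
    have hSN : (S : Subgroup G) ≤ Subgroup.normalizer (J : Set G) := fun s hs =>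
      (CfsgLib.ZJ.jkind_abelian (p := p)).normalizer_le (S : Subgroup G) (Subgroup.le_normalizer hs)
    refine CfsgLib.CenterSplit.direct_factor_of_control S (Subgroup.normalizer (J : Set G))
      (J ⊓ Subgroup.centralizer (J : Set G)) hSN (inf_le_left.trans hJS)
      (fun a ha => Subgroup.centralizer_le (SetLike.coe_subset_coe.2 inf_le_left) ha.2) (fun n hn a ha => ?_)
      (fun z hz => Subgroup.mem_inf.2 ⟨CfsgLib.ZJ.center_mem_thompsonA hz.1 hz.2,
        Subgroup.centralizer_le (SetLike.coe_subset_coe.2 hJS) hz.2⟩)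
      fun x hx hfix g hg => CfsgLib.ZJ.weaklyClosed_of_central_normalizer S ⟨hx, hfix, Or.inl hp⟩ hg
    refine Subgroup.mem_inf.2 ⟨(Subgroup.mem_normalizer_iff.1 hn a).1 ha.1, Subgroup.mem_centralizer_iff.2 fun b hb => ?_⟩
    have h1 := Subgroup.mem_centralizer_iff.1 ha.2 (n⁻¹ * b * n)
      ((Subgroup.mem_normalizer_iff.1 hn _).2 (by simpa [mul_assoc] using hb))
    calc b * (n * a * n⁻¹) = n * (n⁻¹ * b * n * a) * n⁻¹ := by group
      _ = n * (a * (n⁻¹ * b * n)) * n⁻¹ := by rw [h1]
      _ = n * a * n⁻¹ * b := by group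
  · haveI := hs
    exact CfsgLib.PPCore.weakly_closed_direct_factor S (CfsgLib.CenterSplit.center_le_pPrimePCore S)

end Cfsg.Agent.S1945
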