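import Cfsg.Statements.S1949
import Cfsg.Agent.FGSB.OrderPFix
import Mathlib.Data.Nat.Factorization.Basic
-- import your own Cfsg.Agent.* helpers here

set_option autoImplicit false
open Cfsg

namespace Cfsg.Agent.S1949

open Subgroup
open scoped commutatorElement

/-- An automorphism of order prime to `p` moving an element by a fixed element fixes it. -/
private theorem fix_of_fixed_diff {P : Type*} [Group P] {p : ℕ} [Fact p.Prime] (hP : IsPGroup p P)
    {β : MulAut P} (hβ : (orderOf β).Coprime p) {x : P} (hd : β (x⁻¹ * β x) = x⁻¹ * β x) :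
    β x = x := by
  set d := x⁻¹ * β x with hd'
  have hit : ∀ n : ℕ, (β ^ n) x = x * d ^ n := by
    intro n
    induction n with
    | zero => simp
    | succ n ih =>
      rw [pow_succ', MulAut.mul_apply, ih, map_mul, map_pow, hd,
        show β x = x * d by rw [hd', mul_inv_cancel_left], mul_assoc, ← pow_succ']
  have h1 : d ^ orderOf β = 1 := by
    have := hit (orderOf β)
    rw [pow_orderOf_eq_one, MulAut.one_apply] at this
    exact mul_eq_left.1 this.symm
  obtain ⟨j, hj⟩ := IsPGroup.iff_orderOf.1 hP d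
  have h2 := orderOf_dvd_of_pow_eq_one h1
  rw [hj] at h2
  have h3 : d = 1 := orderOf_eq_one_iff.1 (by
    rw [hj]; exact ((hβ.symm).pow_left j).eq_one_of_dvd h2)
  exact (inv_mul_eq_one.1 h3).symm

/-- Let P be a finite p-group and G a group of automorphisms of P containing the inner automorphisms. Then there is a G-invariant subgroup D of P, contained in the subgroup generated by the elements x⁻¹α(x) with x in P and α in O^p(G), of exponent dividing p when p is odd and dividing 4 when p = 2, with [D, P] ≤ Z(D), such that every automorphism in G of order prime to p that fixes D elementwise is the identity; moreover every maximal abelian subgroup A of D is normal in P and every automorphism in G fixing A elementwise has p-power order. -/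
theorem result {P : Type*} [Group P] [Finite P] {p : ℕ} [Fact p.Prime] (hP : IsPGroup p P)
    (G : Subgroup (MulAut P)) (hG : Cfsg.Inn P ≤ G) :
    ∃ D : Subgroup P,
      (∀ α ∈ G, D.map α.toMonoidHom = D) ∧
      D ≤ Subgroup.closure {y : P | ∃ α ∈ Cfsg.pResidual p ↥G, ∃ x : P, y = x⁻¹ * (α : MulAut P) x} ∧
      (∀ d ∈ D, d ^ p = 1 ∨ (p = 2 ∧ d ^ 4 = 1)) ∧
      ⁅D, (⊤ : Subgroup P)⁆ ≤ D ⊓ Subgroup.centralizer (D : Set P) ∧
      (∀ α ∈ G, (orderOf α).Coprime p → (∀ d ∈ D, α d = d) → α = 1) ∧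
      ∀ A : Subgroup P, A ≤ D → IsMulCommutative ↥A →
        (∀ B : Subgroup P, A ≤ B → B ≤ D → IsMulCommutative ↥B → B = A) →
        A.Normal ∧ ∀ α ∈ G, (∀ a ∈ A, α a = a) → ∃ k : ℕ, orderOf α = p ^ k := by
  classical
  obtain ⟨H, hHc, hHp, hH3, hH4⟩ := CfsgLib.Kinf.exists_critical hP
  haveI := hHc
  have hinn : ∀ g : P, MulAut.conj g ∈ G := fun g => hG ⟨g, rfl⟩
  have hHinv : ∀ (α : MulAut P), ∀ x ∈ H, α x ∈ H := fun α x hx =>
    characteristic_iff_le_comap.1 hHc α hx
  set O := Cfsg.pResidual p G with hO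
  have hOn : ∀ γ : G, ∀ α ∈ O, γ * α * γ⁻¹ ∈ O := by
    intro γ
    suffices O ≤ O.comap (MulAut.conj γ).toMonoidHom from fun α hα => this hα
    rw [hO, Cfsg.pResidual, Subgroup.closure_le]
    intro α hα
    refine Subgroup.subset_closure ?_
    show Nat.Coprime (orderOf (MulAut.conj γ α)) p
    rw [MulEquiv.orderOf_eq]
    exact hα
  set S : Set P := {y : P | ∃ α ∈ O, ∃ x ∈ H, y = x⁻¹ * (α : MulAut P) x} with hS
  set C₁ := Subgroup.closure S with hC₁
  have hC₁H : C₁ ≤ H := (Subgroup.closure_le H).2 (by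
    rintro _ ⟨α, -, x, hx, rfl⟩
    exact H.mul_mem (H.inv_mem hx) (hHinv _ x hx))
  have hC₁inv : ∀ γ ∈ G, ∀ c ∈ C₁, γ c ∈ C₁ := by
    intro γ hγ
    suffices C₁ ≤ C₁.comap γ.toMonoidHom from fun c hc => this hc
    rw [hC₁, Subgroup.closure_le]
    rintro _ ⟨α, hα, x, hx, rfl⟩
    refine Subgroup.subset_closure ⟨_, hOn ⟨γ, hγ⟩ α hα, γ x, hHinv γ x hx, ?_⟩
    show γ (x⁻¹ * (α : MulAut P) x) = (γ x)⁻¹ * γ ((α : MulAut P) ((γ⁻¹ : MulAut P) (γ x)))
    rw [map_mul, map_inv, MulAut.inv_apply, MulEquiv.symm_apply_apply]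
  have hcommH : ∀ a ∈ H, ∀ b : P, ⁅a, b⁆ ∈ centralizer (H : Set P) := fun a ha b =>
    (hH3 (commutator_mem_commutator ha (mem_top b))).2
  have hcen : ∀ z ∈ centralizer (H : Set P), ∀ c : C₁, (c : P) = z → c ∈ center C₁ := by
    rintro z hz c rfl
    exact mem_center_iff.2 fun g => Subtype.ext (mem_centralizer_iff.1 hz g (hC₁H g.2))
  have hC₁c : commutator C₁ ≤ center C₁ := by
    rw [_root_.commutator_def, commutator_le]
    intro a _ b _
    exact hcen _ (hcommH a (hC₁H a.2) b) _ rfl
  have hC₁p : ∀ a : C₁, a ^ p ∈ center C₁ := fun a => hcen _ (hHp a (hC₁H a.2)) _ (by simp)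
  have hpow : ∀ a b : C₁, (a * b) ^ CfsgLib.OrderPFix.small p =
      a ^ CfsgLib.OrderPFix.small p * b ^ CfsgLib.OrderPFix.small p :=
    CfsgLib.OrderPFix.small_pow_mul hC₁c hC₁p
  let D : Subgroup P :=
    { carrier := {x | x ∈ C₁ ∧ x ^ CfsgLib.OrderPFix.small p = 1}
      one_mem' := ⟨C₁.one_mem, one_pow _⟩
      mul_mem' := fun {a b} ha hb => ⟨C₁.mul_mem ha.1 hb.1, by
        have := congrArg Subtype.val (hpow ⟨a, ha.1⟩ ⟨b, hb.1⟩)
        simp only [SubmonoidClass.coe_pow, Subgroup.coe_mul] at this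
        rw [this, ha.2, hb.2, one_mul]⟩
      inv_mem' := fun {a} ha => ⟨C₁.inv_mem ha.1, by rw [inv_pow, ha.2, inv_one]⟩ }
  have hDinv : ∀ γ ∈ G, ∀ d ∈ D, γ d ∈ D := fun γ hγ d hd =>
    ⟨hC₁inv γ hγ d hd.1, by rw [← map_pow, hd.2, map_one]⟩
  have hDH : ∀ d ∈ D, d ∈ H := fun d hd => hC₁H hd.1
  have hDc : ⁅D, (⊤ : Subgroup P)⁆ ≤ D ⊓ centralizer (D : Set P) := by
    rw [commutator_le]
    intro d hd g _
    refine ⟨?_, mem_centralizer_iff.2 fun e he =>
      mem_centralizer_iff.1 (hcommH d (hDH d hd) g) e (hDH e he)⟩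
    rw [commutatorElement_def, show d * g * d⁻¹ * g⁻¹ = d * (g * d⁻¹ * g⁻¹) by group]
    exact D.mul_mem hd (hDinv _ (hinn g) _ (D.inv_mem hd))
  -- elements of order prime to `p` fixing `D`
  have hfaith : ∀ α ∈ G, (orderOf α).Coprime p → (∀ d ∈ D, α d = d) → α = 1 := by
    intro β hβ hcop hfix
    have hC₁fix : ∀ c ∈ C₁, β c = c := by
      let φ : C₁ →* C₁ := ((β : MulAut P).toMonoidHom.comp C₁.subtype).codRestrict C₁
        fun c => hC₁inv β hβ c c.2
      have hit : ∀ (j : ℕ) (c : C₁), ((φ^[j] c : C₁) : P) = (β ^ j) c := by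
        intro j
        induction j with
        | zero => simp
        | succ j ih =>
          intro c
          rw [Function.iterate_succ_apply', pow_succ', MulAut.mul_apply, ← ih c]
          rfl
      have key := CfsgLib.OrderPFix.fix_of_class_two (hP.to_subgroup C₁) hC₁c hC₁p φ hcop
        (fun c => Subtype.ext (by rw [hit, pow_orderOf_eq_one, MulAut.one_apply]))
        (fun t ht => Subtype.ext (hfix t ⟨t.2, by
          obtain ⟨m, hm⟩ : orderOf (t : P) ∣ CfsgLib.OrderPFix.small p := by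
            rw [orderOf_coe]
            rcases ht with h | ⟨rfl, h⟩
            · rw [h]; exact CfsgLib.OrderPFix.dvd_small
            · rw [h, CfsgLib.OrderPFix.small, if_pos rfl]
          rw [hm, pow_mul, pow_orderOf_eq_one, one_pow]⟩))
      exact fun c hc => congrArg Subtype.val (key ⟨c, hc⟩)
    have hHfix : ∀ x ∈ H, β x = x := by
      intro x hx
      refine fix_of_fixed_diff hP hcop (hC₁fix _ ?_)
      refine Subgroup.subset_closure ⟨⟨β, hβ⟩, Subgroup.subset_closure ?_, x, hx, rfl⟩
      show Nat.Coprime (orderOf (⟨β, hβ⟩ : G)) p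
      rw [Subgroup.orderOf_mk]; exact hcop
    have h1 := CfsgLib.Kinf.aut_eq_one_of_critical (T := (⊤ : Subgroup P)) (A := H)
      (hP.to_subgroup ⊤) le_top (by rw [commutator_comm]; exact hH3) (by
        rw [top_inf_eq, inf_eq_right.2 hH4])
      ((topEquiv.trans β).trans topEquiv.symm) (by
        refine hcop.coprime_dvd_left (orderOf_dvd_of_pow_eq_one ?_)
        have hit : ∀ (j : ℕ) (x : (⊤ : Subgroup P)),
            (((((topEquiv.trans β).trans topEquiv.symm : MulAut (⊤ : Subgroup P))) ^ j) x : P) =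
              (β ^ j) x := by
          intro j
          induction j with
          | zero => simp
          | succ j ih =>
            intro x
            rw [pow_succ', pow_succ', MulAut.mul_apply, MulAut.mul_apply, ← ih x]
            rfl
        refine MulEquiv.ext fun x => Subtype.ext ?_
        rw [hit, pow_orderOf_eq_one]
        rfl)
      (fun a ha => Subtype.ext (hHfix a ha))
    refine MulEquiv.ext fun x => ?_
    exact congrArg Subtype.val (DFunLike.congr_fun h1 ⟨x, mem_top x⟩)
  refine ⟨D, fun α hα => ?_, fun d hd => ?_, fun d hd => ?_, hDc, hfaith,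
    fun A hAD hA hmax => ?_⟩
  · refine le_antisymm ?_ fun d hd => ?_
    · rintro _ ⟨d, hd, rfl⟩
      exact hDinv α hα d hd
    · refine ⟨(α⁻¹ : MulAut P) d, hDinv _ (G.inv_mem hα) d hd, ?_⟩
      exact α.apply_symm_apply d
  · have hle : C₁ ≤ Subgroup.closure {y : P | ∃ α ∈ Cfsg.pResidual p G, ∃ x : P,
        y = x⁻¹ * (α : MulAut P) x} :=
      Subgroup.closure_mono fun y ⟨α, hα, x, _, hy⟩ => ⟨α, hα, x, hy⟩
    exact hle hd.1
  · have hd2 := hd.2
    by_cases h2 : p = 2
    · rw [CfsgLib.OrderPFix.small, if_pos h2] at hd2; exact Or.inr ⟨h2, hd2⟩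
    · rw [CfsgLib.OrderPFix.small, if_neg h2] at hd2; exact Or.inl hd2
  -- maximal abelian subgroups
  have habs : ∀ e ∈ D, (∀ a ∈ A, a * e = e * a) → e ∈ A := by
    intro e he hc
    have hab : IsMulCommutative ↥(A ⊔ zpowers e) := by
      haveI := hA
      rw [Subgroup.zpowers_eq_closure, ← Subgroup.closure_eq A, ← Subgroup.closure_union]
      refine Subgroup.isMulCommutative_closure ?_
      intro a ha b hb
      rcases ha with ha | ha <;> rcases hb with hb | hb
      · exact congrArg Subtype.val (mul_comm' (⟨a, ha⟩ : A) ⟨b, hb⟩)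
      · rw [Set.mem_singleton_iff.1 hb]; exact hc a ha
      · rw [Set.mem_singleton_iff.1 ha]; exact (hc b hb).symm
      · rw [Set.mem_singleton_iff.1 ha, Set.mem_singleton_iff.1 hb]
    have := hmax _ le_sup_left (sup_le hAD (zpowers_le.2 he)) hab
    exact this ▸ mem_sup_right (mem_zpowers e)
  refine ⟨⟨fun a ha g => ?_⟩, fun α hα hfix => ?_⟩
  · have h1 := hDc (commutator_mem_commutator (hAD ha) (mem_top g))
    have h2 := habs _ (D.inv_mem h1.1) fun b hb =>
      mem_centralizer_iff.1 ((centralizer (D : Set P)).inv_mem h1.2) b (hAD hb)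
    have h3 := A.mul_mem h2 ha
    rwa [commutatorElement_inv, commutatorElement_def, inv_mul_cancel_right] at h3
  · obtain ⟨k, m, hm, hn⟩ := Nat.exists_eq_pow_mul_and_not_dvd (orderOf_pos α).ne' p
      (Fact.out : p.Prime).ne_one
    set β := α ^ p ^ k with hβ
    have hβo : (orderOf β).Coprime p := by
      rw [hβ, orderOf_pow_of_dvd (pow_ne_zero _ (Fact.out : p.Prime).ne_zero)
        (hn ▸ dvd_mul_right _ _), hn, Nat.mul_div_cancel_left _ (pow_pos (Fact.out : p.Prime).pos k)]
      exact ((Fact.out : p.Prime).coprime_iff_not_dvd.2 hm).symm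
    have hβA : ∀ a ∈ A, β a = a := by
      intro a ha
      have : ∀ j : ℕ, (α ^ j) a = a := fun j => by
        induction j with
        | zero => rfl
        | succ j ih => rw [pow_succ, MulAut.mul_apply, hfix a ha, ih]
      exact this _
    have hβG : β ∈ G := G.pow_mem hα _
    have hβD : ∀ d ∈ D, β d = d := by
      intro d hd
      refine fix_of_fixed_diff hP hβo (hβA _ (habs _ (D.mul_mem (D.inv_mem hd) (hDinv β hβG d hd))
        fun a ha => ?_))
      have hda : d * a * d⁻¹ ∈ A := by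
        have h1 := hDc (commutator_mem_commutator (hAD ha) (mem_top d))
        have h2 := habs _ (D.inv_mem h1.1) fun b hb =>
          mem_centralizer_iff.1 ((centralizer (D : Set P)).inv_mem h1.2) b (hAD hb)
        have h3 := A.mul_mem h2 ha
        rwa [commutatorElement_inv, commutatorElement_def, inv_mul_cancel_right] at h3
      have h4 := hβA _ hda
      rw [map_mul, map_mul, map_inv, hβA a ha] at h4
      calc a * (d⁻¹ * β d) = d⁻¹ * (d * a * d⁻¹) * β d := by group
        _ = d⁻¹ * (β d * a * (β d)⁻¹) * β d := by rw [h4]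
        _ = d⁻¹ * β d * a := by group
    obtain ⟨j, -, hj⟩ := (Nat.dvd_prime_pow (Fact.out : p.Prime)).1
      (orderOf_dvd_of_pow_eq_one (hfaith β hβG hβo hβD))
    exact ⟨j, hj⟩

end Cfsg.Agent.S1949
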