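import Cfsg.Statements.S1953
import Cfsg.Agent.LeastRadical.Main

set_option autoImplicit false
open Cfsg

namespace Cfsg.Agent.S1953

/-- Let p be an odd prime and P a Sylow p-subgroup of the finite group G, and suppose that for no p-subgroup Q of G does N_G(Q)/C_G(Q) have a section isomorphic to SL₂(p). Call a subgroup Q of P centric-radical when Z(Q) is a Sylow p-subgroup of C_G(Q) and the only normal subgroup X of N_G(Q) containing Q·C_G(Q) such that the index of Q·C_G(Q) in X is a power of p is Q·C_G(Q) itself (that is, N_G(Q)/Q·C_G(Q) has no nontrivial normal p-subgroup). Then there is a centric-radical subgroup Q of P contained in every centric-radical subgroup of P; it is normal in P, and N_G(Q) controls strong fusion in P: whenever a subgroup A of P has g A g⁻¹ ≤ P, the element g is a product h c with h in N_G(Q) and c centralizing A. -/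
theorem result {G : Type*} [Group G] [Finite G] {p : ℕ} [Fact p.Prime] (hp : p ≠ 2) (P : Sylow p G)
    (hfree : ∀ Q : Subgroup G, IsPGroup p ↥Q → ¬ ∃ (H K : Subgroup G) (_ : (K.subgroupOf H).Normal),
      Subgroup.centralizer (Q : Set G) ≤ K ∧ K ≤ H ∧ H ≤ Subgroup.normalizer (Q : Set G) ∧
      Nonempty ((↥H ⧸ K.subgroupOf H) ≃* Matrix.SpecialLinearGroup (Fin 2) (ZMod p)))
    (cr : Subgroup G → Prop)
    (hcr : ∀ Q : Subgroup G, cr Q ↔ (Q ≤ (P : Subgroup G) ∧
      (∃ R : Sylow p ↥(Subgroup.centralizer (Q : Set G)),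
        (R : Subgroup ↥(Subgroup.centralizer (Q : Set G))).map (Subgroup.centralizer (Q : Set G)).subtype = Q ⊓ Subgroup.centralizer (Q : Set G)) ∧
      ∀ X : Subgroup G, X ≤ Subgroup.normalizer (Q : Set G) →
        (∀ n ∈ Subgroup.normalizer (Q : Set G), X.map (MulAut.conj n).toMonoidHom = X) →
        Q ⊔ Subgroup.centralizer (Q : Set G) ≤ X → (∃ k : ℕ, (Q ⊔ Subgroup.centralizer (Q : Set G)).relIndex X = p ^ k) →
        X = Q ⊔ Subgroup.centralizer (Q : Set G))) :
    ∃ Q : Subgroup G, cr Q ∧ (∀ R : Subgroup G, cr R → Q ≤ R) ∧ (∀ x ∈ (P : Subgroup G), Q.map (MulAut.conj x).toMonoidHom = Q) ∧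
      ∀ A : Subgroup G, A ≤ (P : Subgroup G) → ∀ g : G, A.map (MulAut.conj g).toMonoidHom ≤ (P : Subgroup G) →
        ∃ h ∈ Subgroup.normalizer (Q : Set G), ∃ c ∈ Subgroup.centralizer (A : Set G), g = h * c := by
  have hf := CfsgLib.LeastRadical.not_involves_qd hfree
  obtain ⟨Q, hQP, hPQ, hctl, hcen, hmax⟩ := CfsgLib.LeastRadical.exists_max hp hf P
  refine ⟨Q, (hcr Q).2 ⟨hQP, ?_, fun X hX1 hX2 hX3 hX4 =>
    CfsgLib.LeastRadical.radical_of_max P Q hQP hPQ hctl hcen hmax X hX1 hX2 hX3 hX4⟩,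
    fun R hR => ?_, fun x hx => ?_, fun A hA g hg => ?_⟩
  · set C := Subgroup.centralizer (Q : Set G) with hC
    have hle : Q ⊓ C ≤ C := inf_le_right
    refine ⟨{ toSubgroup := (Q ⊓ C).subgroupOf C, isPGroup' := (P.2.to_le (inf_le_left.trans hQP)).comap_subtype, is_maximal' := ?_ }, ?_⟩
    · intro S hS hle'
      refine (Subgroup.eq_of_le_of_card_ge hle' ?_).symm
      rw [← Subgroup.card_map_of_injective (K := S) C.subtype_injective,
        Nat.card_congr (Subgroup.subgroupOfEquivOfLe hle).toEquiv]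
      obtain ⟨y, hy, hyS⟩ := CfsgLib.FusionLift.conj_into (K := Subgroup.normalizer (Q : Set G)) hPQ P.2
        (fun T hT _ hTp => Subgroup.card_le_of_le (P.3 hTp hT).le)
        (S := S.map C.subtype) ((Subgroup.map_subtype_le _).trans (Subgroup.centralizer_le_normalizer _)) (hS.map _)
      rw [← CfsgLib.FusionLift.card_cj y (S.map C.subtype)]
      refine Subgroup.card_le_of_le (CfsgLib.FusionLift.cj_le fun s hs => ?_)
      have h1 : y * s * y⁻¹ ∈ C := Subgroup.mem_centralizer_iff.2 fun q hq => by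
        have h2 := Subgroup.mem_centralizer_iff.1 (Subgroup.map_subtype_le _ hs) (y⁻¹ * q * y)
          (CfsgLib.FusionLift.conj_mem_of_le_normalizer' le_rfl hy hq)
        calc q * (y * s * y⁻¹) = y * (y⁻¹ * q * y * s) * y⁻¹ := by group
          _ = y * (s * (y⁻¹ * q * y)) * y⁻¹ := by rw [h2]
          _ = y * s * y⁻¹ * q := by group
      exact Subgroup.mem_inf.2 ⟨hcen (Subgroup.mem_inf.2 ⟨hyS s hs, h1⟩), h1⟩
    · exact Subgroup.map_subgroupOf_eq_of_le hle
  · obtain ⟨hRP, hRc, hRr⟩ := (hcr R).1 hR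
    exact CfsgLib.LeastRadical.le_centric_radical P Q hQP hPQ hctl R hRP hRc hRr
  · exact Subgroup.eq_of_le_of_card_ge (CfsgLib.FusionLift.cj_le fun a ha =>
      (Subgroup.mem_normalizer_iff.1 (hPQ hx) a).1 ha) (CfsgLib.FusionLift.card_cj x Q).ge
  · exact hctl A hA g fun a ha => hg ⟨a, ha, rfl⟩

end Cfsg.Agent.S1953
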