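import Cfsg.Statements.S1957
import Cfsg.Agent.KGroup.CharTwo
import Cfsg.Agent.Solvable.CoprimeAbelian

set_option autoImplicit false
open Cfsg Subgroup

open CfsgLib.CharP in
/-- In a subgroup `H` of characteristic 2 with central element `c`, an element centralizing a
`2`-subgroup containing `O_2(H)` modulo `⟨c⟩` lies in `O_2(H)`. -/
private theorem mem_opIn {G : Type*} [Group G] [Finite G] {H R : Subgroup G} (hH : HasCharP 2 H)
    (hTR : opIn 2 H ≤ R) {c : G} (hc2 : c * c = 1) (hcH : ∀ h ∈ H, h * c = c * h)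
    {x : G} (hxH : x ∈ H) (hx : ∀ r ∈ R, x * r * x⁻¹ = r ∨ x * r * x⁻¹ = r * c) :
    x ∈ opIn 2 H := by
  set T := opIn 2 H
  have hTH : T ≤ H := opIn_le H
  have hHT : H ≤ normalizer (T : Set G) := le_normalizer_opIn H
  let C1 : Subgroup G :=
    { carrier := {h | h ∈ H ∧ ∀ r ∈ T, h * r * h⁻¹ = r ∨ h * r * h⁻¹ = r * c}
      one_mem' := ⟨one_mem H, fun r _ => Or.inl (by group)⟩
      mul_mem' := by
        rintro a b ⟨ha, ha'⟩ ⟨hb, hb'⟩
        refine ⟨mul_mem ha hb, fun r hr => ?_⟩
        have e : a * b * r * (a * b)⁻¹ = a * (b * r * b⁻¹) * a⁻¹ := by group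
        have hac : a * c * a⁻¹ = c := by rw [hcH a ha, mul_inv_cancel_right]
        rw [e]
        rcases hb' r hr with h | h <;> rw [h]
        · exact ha' r hr
        · rw [show a * (r * c) * a⁻¹ = a * r * a⁻¹ * (a * c * a⁻¹) by group, hac]
          rcases ha' r hr with h' | h' <;> rw [h']
          · exact Or.inr rfl
          · left; rw [mul_assoc, hc2, mul_one]
      inv_mem' := by
        rintro a ⟨ha, ha'⟩
        refine ⟨inv_mem ha, fun r hr => ?_⟩
        have hmem : a⁻¹ * r * (a⁻¹)⁻¹ ∈ T := (mem_normalizer_iff.1 (hHT (inv_mem ha)) r).1 hr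
        have hac : a⁻¹ * c * a = c := by rw [mul_assoc, ← hcH a ha, inv_mul_cancel_left]
        rcases ha' _ hmem with h | h
        · left
          rw [show a * (a⁻¹ * r * (a⁻¹)⁻¹) * a⁻¹ = r by group] at h
          exact h.symm
        · right
          rw [show a * (a⁻¹ * r * (a⁻¹)⁻¹) * a⁻¹ = r by group] at h
          calc a⁻¹ * r * (a⁻¹)⁻¹ = a⁻¹ * r * (a⁻¹)⁻¹ * c * c := by rw [mul_assoc _ c c, hc2, mul_one]
            _ = r * c := by rw [← h] }
  have hC1p : IsPGroup 2 C1 := by
    rintro ⟨h, hh, hh'⟩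
    have hcc : h * c * h⁻¹ = c := by rw [hcH h hh, mul_inv_cancel_right]
    have hsq : h * h ∈ T := (hasCharP_subgroup_iff H).1 hH ⟨mul_mem hh hh, mem_centralizer_iff.2 fun r hr => by
      have e : (h * h) * r * (h * h)⁻¹ = r := by
        rw [show h * h * r * (h * h)⁻¹ = h * (h * r * h⁻¹) * h⁻¹ by group]
        rcases hh' r hr with e | e <;> rw [e]
        · exact e
        · rw [show h * (r * c) * h⁻¹ = h * r * h⁻¹ * (h * c * h⁻¹) by group, hcc, e, mul_assoc, hc2, mul_one]
      exact (mul_inv_eq_iff_eq_mul.1 e).symm⟩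
    obtain ⟨k, hk⟩ := isPGroup_opIn H ⟨h * h, hsq⟩
    refine ⟨k + 1, Subtype.ext ?_⟩
    have hk' : (h * h) ^ 2 ^ k = 1 := congrArg Subtype.val hk
    show h ^ 2 ^ (k + 1) = 1
    rw [pow_succ', pow_mul, sq, hk']
  have hC1H : H ≤ normalizer (C1 : Set G) := by
    intro g hg
    have key : ∀ g ∈ H, ∀ h ∈ C1, g * h * g⁻¹ ∈ C1 := by
      rintro g hg h ⟨hh, hh'⟩
      refine ⟨mul_mem (mul_mem hg hh) (inv_mem hg), fun r hr => ?_⟩
      have hmem : g⁻¹ * r * (g⁻¹)⁻¹ ∈ T := (mem_normalizer_iff.1 (hHT (inv_mem hg)) r).1 hr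
      have hgc : g * c * g⁻¹ = c := by rw [hcH g hg, mul_inv_cancel_right]
      have e : g * h * g⁻¹ * r * (g * h * g⁻¹)⁻¹ = g * (h * (g⁻¹ * r * (g⁻¹)⁻¹) * h⁻¹) * g⁻¹ := by group
      rw [e]
      rcases hh' _ hmem with h1 | h1 <;> rw [h1]
      · left; group
      · right
        rw [show g * (g⁻¹ * r * (g⁻¹)⁻¹ * c) * g⁻¹ = r * (g * c * g⁻¹) by group, hgc]
    refine mem_normalizer_iff.2 fun h => ⟨key g hg h, fun hh => ?_⟩
    have := key g⁻¹ (inv_mem hg) _ hh
    simpa [mul_assoc] using this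
  exact le_opIn (N := C1) (fun h hh => hh.1) hC1p hC1H ⟨hxH, fun r hr => hx r (hTR hr)⟩

open CfsgLib.CharP in
/-- An element of `O_2(H)` centralizes the odd order subgroups of `H` it normalizes. -/
private theorem comm_of_mem {G : Type*} [Group G] [Finite G] {H K : Subgroup G} {x k : G}
    (hK : Odd (Nat.card K)) (hxK : x ∈ normalizer (K : Set G)) (hx : x ∈ opIn 2 H)
    (hkH : k ∈ H) (hkK : k ∈ K) : k * x = x * k := by
  have h1 : x * k * x⁻¹ * k⁻¹ ∈ K := mul_mem ((mem_normalizer_iff.1 hxK k).1 hkK) (inv_mem hkK)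
  have h2 : x * k * x⁻¹ * k⁻¹ ∈ opIn 2 H := by
    rw [show x * k * x⁻¹ * k⁻¹ = x * (k * x⁻¹ * k⁻¹) by group]
    exact mul_mem hx ((mem_normalizer_iff.1 (le_normalizer_opIn H hkH) _).1 (inv_mem hx))
  have h3 := eq_one_of_mem_pgroup (isPGroup_opIn H) h2 (by
    refine Nat.Coprime.coprime_dvd_left (Subgroup.orderOf_dvd_natCard K h1) ?_
    exact Nat.coprime_two_right.2 hK)
  rw [mul_inv_eq_one, mul_inv_eq_iff_eq_mul] at h3
  exact h3.symm

namespace Cfsg.Agent.S1957

/-- Let `G` be a finite non-abelian simple group in which every local subgroup is solvable and which is of characteristic 2 type. Let `P` be a Sylow 2-subgroup of `G` and `U` a normal subgroup of `P` that is a four-group, with `U` central in `P` if the centre of `P` is not cyclic. Then `U` centralizes every subgroup of odd order of `G` that it normalizes. -/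
theorem result {G : Type*} [Group G] [Finite G]
    [IsSimpleGroup G] (hna : ¬ IsMulCommutative G) (hN : Cfsg.IsNGroup G) (h2 : Cfsg.IsCharacteristicTwoType G)
    (P : Sylow 2 G) (U : Subgroup G) (hUP : U ≤ (P : Subgroup G)) (hUn : (P : Subgroup G) ≤ Subgroup.normalizer (U : Set G))
    (hU4 : IsKleinFour ↥U)
    (hUZ : ¬ IsCyclic ↥((P : Subgroup G) ⊓ Subgroup.centralizer ((P : Subgroup G) : Set G)) →
      U ≤ Subgroup.centralizer ((P : Subgroup G) : Set G))
    (K : Subgroup G) (hK : Odd (Nat.card K)) (hUK : U ≤ Subgroup.normalizer (K : Set G)) :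
    U ≤ Subgroup.centralizer (K : Set G) := by
  classical
  haveI : Fact (Nat.Prime 2) := ⟨Nat.prime_two⟩
  haveI := hU4
  have hUsq : ∀ v ∈ U, v * v = 1 := fun v hv =>
    congrArg Subtype.val (IsKleinFour.mul_self (⟨v, hv⟩ : U))
  have hUord : ∀ v ∈ U, v ≠ 1 → orderOf v = 2 := fun v hv hv1 =>
    orderOf_eq_prime (by rw [sq]; exact hUsq v hv) hv1
  haveI hUc : IsMulCommutative U := ⟨⟨fun a b => mul_comm_of_exponent_two IsKleinFour.exponent_two a b⟩⟩
  have hUcomm : ∀ a ∈ U, ∀ b ∈ U, a * b = b * a := fun a ha b hb =>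
    congrArg Subtype.val (hUc.is_comm.comm (⟨a, ha⟩ : U) ⟨b, hb⟩)
  have hchar : ∀ v ∈ U, v ≠ 1 → CfsgLib.CharP.HasCharP 2 (centralizer ({v} : Set G)) := by
    intro v hv hv1
    rw [← CfsgLib.CharP.normalizer_zpowers_of_orderOf_two (hUord v hv hv1)]
    refine h2.2 _ (IsPGroup.of_card (n := 1) (by rw [Nat.card_zpowers, hUord v hv hv1, pow_one])) ?_
    rwa [Ne, zpowers_eq_bot]
  -- every element of `U` lies in `{1, v, y, v y}`
  have hfour : ∀ v ∈ U, ∀ y ∈ U, v ≠ 1 → y ≠ 1 → y ≠ v → ∀ w ∈ U, w = 1 ∨ w = v ∨ w = y ∨ w = v * y := by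
    intro v hv y hy hv1 hy1 hyv w hw
    by_contra hcon
    simp only [not_or] at hcon
    have hvy1 : v * y ≠ 1 := fun h => hyv (by
      rw [← inv_eq_of_mul_eq_one_right h, inv_eq_of_mul_eq_one_right (hUsq v hv)])
    have hvyv : v * y ≠ v := fun h => hy1 (by simpa using h)
    have hvyy : v * y ≠ y := fun h => hv1 (by simpa using h)
    have hsub : ({1, v, y, v * y, w} : Finset G).card ≤ 4 := by
      refine le_trans ?_ (IsKleinFour.card_four (G := U)).le
      rw [← Nat.card_eq_finsetCard]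
      refine Nat.card_le_card_of_injective (fun a => (⟨a.1, ?_⟩ : U)) fun a b h => Subtype.ext (congrArg (fun a : U => a.1) h)
      have ha := a.2
      simp only [Finset.mem_insert, Finset.mem_singleton] at ha
      rcases ha with h | h | h | h | h <;> rw [h]
      exacts [one_mem U, hv, hy, mul_mem hv hy, hw]
    obtain ⟨h1, h2', h3, h4⟩ := hcon
    rw [Finset.card_insert_of_notMem (by simp [Ne.symm hv1, Ne.symm hy1, Ne.symm hvy1, Ne.symm h1]),
      Finset.card_insert_of_notMem (by simp [Ne.symm hyv, Ne.symm hvyv, Ne.symm h2']),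
      Finset.card_insert_of_notMem (by simp [Ne.symm hvyy, Ne.symm h3]),
      Finset.card_insert_of_notMem (by simp [Ne.symm h4]), Finset.card_singleton] at hsub
    omega
  have hother : ∀ v ∈ U, ∃ y ∈ U, y ≠ 1 ∧ y ≠ v := by
    intro v hv
    by_contra hcon
    push Not at hcon
    have : Nat.card U ≤ ({1, v} : Finset G).card := by
      rw [← Nat.card_eq_finsetCard]
      refine Nat.card_le_card_of_injective (fun a => ⟨a.1, ?_⟩) fun a b h => Subtype.ext (congrArg (fun a : ({1, v} : Finset G) => a.1) h)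
      by_cases h : a.1 = 1
      · simp [h]
      · simp [hcon a.1 a.2 h]
    have h2' := this.trans (Finset.card_insert_le _ _)
    rw [(IsKleinFour.card_four (G := U)), Finset.card_singleton] at h2'
    omega
  have hmemC : ∀ v x : G, x ∈ centralizer ({v} : Set G) ↔ x * v = v * x := fun v x => mem_centralizer_singleton_iff
  -- the core of each involution centralizer supplies a second element of `U`
  have key : ∀ v ∈ U, v ≠ 1 → ∃ y ∈ U, y ≠ 1 ∧ y ≠ v ∧ y ∈ CfsgLib.CharP.opIn 2 (centralizer ({v} : Set G)) := by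
    by_cases hcen : U ≤ centralizer ((P : Subgroup G) : Set G)
    · intro v hv hv1
      obtain ⟨y, hy, hy1, hyv⟩ := hother v hv
      refine ⟨y, hy, hy1, hyv, mem_opIn (R := (P : Subgroup G)) (c := (1 : G)) (hchar v hv hv1) ?_ (one_mul 1)
        (fun h _ => by rw [mul_one, one_mul]) ((hmemC v y).2 (hUcomm y hy v hv)) fun r hr => Or.inl ?_⟩
      · refine CfsgLib.CharP.le_sylow_of_le_normalizer P (CfsgLib.CharP.isPGroup_opIn _)
          (le_trans (fun x hx => ?_) (CfsgLib.CharP.le_normalizer_opIn _))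
        exact (hmemC v x).2 (mem_centralizer_iff.1 (hcen hv) x hx)
      · rw [← mem_centralizer_iff.1 (hcen hy) r hr, mul_inv_cancel_right]
    -- now the centre of `P` is cyclic
    have hcyc : IsCyclic ↥((P : Subgroup G) ⊓ centralizer ((P : Subgroup G) : Set G)) :=
      Classical.byContradiction fun h => hcen (hUZ h)
    have huniq : ∀ a b : G, a ∈ (P : Subgroup G) ⊓ centralizer ((P : Subgroup G) : Set G) →
        b ∈ (P : Subgroup G) ⊓ centralizer ((P : Subgroup G) : Set G) →
        a * a = 1 → b * b = 1 → a ≠ 1 → b ≠ 1 → a = b := by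
      intro a b ha hb ha2 hb2 ha1 hb1
      by_contra hab
      letI := Fintype.ofFinite ↥((P : Subgroup G) ⊓ centralizer ((P : Subgroup G) : Set G))
      have h := IsCyclic.card_pow_eq_one_le (α := ↥((P : Subgroup G) ⊓ centralizer ((P : Subgroup G) : Set G))) (n := 2) two_pos
      have hsub : ({1, ⟨a, ha⟩, ⟨b, hb⟩} : Finset ↥((P : Subgroup G) ⊓ centralizer ((P : Subgroup G) : Set G))) ⊆
          Finset.univ.filter fun x => x ^ 2 = 1 := by
        intro x hx
        simp only [Finset.mem_insert, Finset.mem_singleton] at hx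
        refine Finset.mem_filter.2 ⟨Finset.mem_univ _, Subtype.ext ?_⟩
        rcases hx with rfl | rfl | rfl
        · simp
        · show a ^ 2 = 1; rw [sq, ha2]
        · show b ^ 2 = 1; rw [sq, hb2]
      have h3 := (Finset.card_le_card hsub).trans h
      have n1 : (⟨a, ha⟩ : ↥((P : Subgroup G) ⊓ centralizer ((P : Subgroup G) : Set G))) ≠ 1 := fun e => ha1 (congrArg Subtype.val e)
      have n2 : (⟨b, hb⟩ : ↥((P : Subgroup G) ⊓ centralizer ((P : Subgroup G) : Set G))) ≠ 1 := fun e => hb1 (congrArg Subtype.val e)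
      have n3 : (⟨a, ha⟩ : ↥((P : Subgroup G) ⊓ centralizer ((P : Subgroup G) : Set G))) ≠ ⟨b, hb⟩ := fun e => hab (congrArg Subtype.val e)
      rw [Finset.card_insert_of_notMem (by simp [Ne.symm n1, Ne.symm n2]),
        Finset.card_insert_of_notMem (by simp [n3]), Finset.card_singleton] at h3
      omega
    obtain ⟨z, hzU, hz1, hzP⟩ : ∃ z ∈ U, z ≠ 1 ∧ ∀ r ∈ (P : Subgroup G), r * z = z * r := by
      let α := {v : G // v ∈ U ∧ v ≠ 1}
      letI : MulAction (P : Subgroup G) α :=
        { smul := fun r v => ⟨(r : G) * v.1 * (r : G)⁻¹, (mem_normalizer_iff.1 (hUn r.2) v.1).1 v.2.1,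
            fun h => v.2.2 (conj_eq_one_iff.1 h)⟩
          one_smul := fun v => Subtype.ext (show (1 : G) * v.1 * (1 : G)⁻¹ = v.1 by group)
          mul_smul := fun r s v => Subtype.ext (show (r * s : G) * v.1 * ((r : G) * s)⁻¹ =
            r * (s * v.1 * (s : G)⁻¹) * (r : G)⁻¹ by group) }
      have hcard : Nat.card α = 3 := by
        have e : Nat.card α + 1 = Nat.card U := by
          rw [← Finite.card_option]
          refine Nat.card_congr
            { toFun := fun o => o.elim 1 fun v => ⟨v.1, v.2.1⟩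
              invFun := fun v => if h : v.1 = 1 then none else some ⟨v.1, v.2, h⟩
              left_inv := fun o => by
                rcases o with _ | ⟨v, hv, hv1⟩
                · simp
                · simp [hv1]
              right_inv := fun v => by
                by_cases h : v.1 = 1
                · simp [h]; exact (Subtype.ext h).symm
                · simp [h] }
        rw [(IsKleinFour.card_four (G := U))] at e
        omega
      obtain ⟨v, hv⟩ := P.2.nonempty_fixed_point_of_prime_not_dvd_card α (by rw [hcard]; decide)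
      exact ⟨v.1, v.2.1, v.2.2, fun r hr => mul_inv_eq_iff_eq_mul.1 (congrArg Subtype.val (hv ⟨r, hr⟩))⟩
    intro v hv hv1
    by_cases hvz : v = z
    · subst hvz
      obtain ⟨y, hy, hy1, hyv⟩ := hother v hv
      refine ⟨y, hy, hy1, hyv, mem_opIn (R := (P : Subgroup G)) (hchar v hv hv1) ?_ (hUsq v hv)
        (fun h hh => (hmemC v h).1 hh) ((hmemC v y).2 (hUcomm y hy v hv)) fun r hr => ?_⟩
      · exact CfsgLib.CharP.le_sylow_of_le_normalizer P (CfsgLib.CharP.isPGroup_opIn _)
          (le_trans (fun x hx => (hmemC v x).2 (hzP x hx)) (CfsgLib.CharP.le_normalizer_opIn _))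
      · have hw : r⁻¹ * y * r ∈ U := by
          simpa using (mem_normalizer_iff.1 (inv_mem (hUn hr)) y).1 hy
        have hyi : y⁻¹ = y := inv_eq_of_mul_eq_one_right (hUsq y hy)
        rcases hfour v hv y hy hv1 hy1 hyv _ hw with h | h | h | h
        · have h' : y = r * (r⁻¹ * y * r) * r⁻¹ := by group
          rw [h] at h'
          exact absurd (by simpa using h') hy1
        · refine absurd ?_ hyv
          have h' := congrArg (fun w => r * w * r⁻¹) h
          simp only [hzP r hr, mul_inv_cancel_right] at h'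
          rw [← h']; group
        · left
          rw [show y * r * y⁻¹ = r * (r⁻¹ * y * r) * y⁻¹ by group, h, mul_inv_cancel_right]
        · right
          rw [show y * r * y⁻¹ = r * (r⁻¹ * y * r) * y⁻¹ by group, h, ← mul_assoc, mul_inv_cancel_right]
    -- the remaining two involutions
    refine ⟨z, hzU, hz1, Ne.symm hvz, ?_⟩
    set H := centralizer ({v} : Set G) with hH
    set Q := (P : Subgroup G) ⊓ H with hQ
    have hvH : v ∈ H := (hmemC v v).2 rfl
    obtain ⟨S, hS⟩ := IsPGroup.exists_le_sylow (p := 2) (P := Q.subgroupOf H)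
      ((P.2.to_le inf_le_left : IsPGroup 2 Q).of_equiv (subgroupOfEquivOfLe inf_le_right).symm)
    set R := (S : Subgroup H).map H.subtype with hR
    have hRH : R ≤ H := map_subtype_le _
    have hQR : Q ≤ R := by
      exact (map_subgroupOf_eq_of_le (show Q ≤ H from inf_le_right)).symm.le.trans (map_mono hS)
    have hTR : CfsgLib.CharP.opIn 2 H ≤ R :=
      map_mono (sSup_le fun N hN => by
        haveI := hN.1
        exact hN.2.le_sylow_of_normal S)
    by_cases hRQ : R = Q
    · refine mem_opIn (R := R) (c := (1 : G)) (hchar v hv hv1) hTR (one_mul 1)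
        (fun h _ => by rw [mul_one, one_mul]) ((hmemC v z).2 (hUcomm z hzU v hv)) fun r hr => Or.inl ?_
      rw [← hzP r (hRQ ▸ hr : r ∈ Q).1, mul_inv_cancel_right]
    -- otherwise `R` is a Sylow subgroup of `G`
    have hPQ : Nat.card (P : Subgroup G) ≤ Nat.card Q * 2 := by
      have hmove : ∀ x ∈ (P : Subgroup G), x ∉ Q → x * v * x⁻¹ = v * z := by
        intro x hx hxQ
        have hw : x * v * x⁻¹ ∈ U := (mem_normalizer_iff.1 (hUn hx) v).1 hv
        rcases hfour v hv z hzU hv1 hz1 (Ne.symm hvz) _ hw with h | h | h | h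
        · exact absurd (conj_eq_one_iff.1 h) hv1
        · exact absurd ⟨hx, (hmemC v x).2 (mul_inv_eq_iff_eq_mul.1 h)⟩ hxQ
        · refine absurd ?_ hvz
          calc v = x⁻¹ * (x * v * x⁻¹) * x := by group
            _ = x⁻¹ * (z * x) := by rw [h, mul_assoc]
            _ = z := by rw [← hzP x hx, inv_mul_cancel_left]
        · exact h
      by_cases hall : ∀ x ∈ (P : Subgroup G), x ∈ Q
      · exact (Subgroup.card_le_of_le hall).trans (Nat.le_mul_of_pos_right _ two_pos)
      push Not at hall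
      obtain ⟨x₀, hx₀, hx₀Q⟩ := hall
      have hin : ∀ x : (P : Subgroup G), (x : G) ∉ Q → x₀⁻¹ * (x : G) ∈ Q := fun x hx => by
        refine ⟨Subgroup.mul_mem _ (Subgroup.inv_mem _ hx₀) x.2, (hmemC v _).2 ?_⟩
        have h1 := hmove x x.2 hx
        have h0 := hmove x₀ hx₀ hx₀Q
        calc x₀⁻¹ * x * v = x₀⁻¹ * (x * v * (x : G)⁻¹) * x := by group
          _ = x₀⁻¹ * (x₀ * v * x₀⁻¹) * x := by rw [h1, h0]
          _ = v * (x₀⁻¹ * x) := by group
      refine le_trans (b := Nat.card (Q × Bool)) ?_ (le_of_eq (by rw [Nat.card_prod]; simp))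
      refine Nat.card_le_card_of_injective (fun x : (P : Subgroup G) =>
        if h : (x : G) ∈ Q then ((⟨x, h⟩ : Q), true) else (⟨_, hin x h⟩, false)) fun a b h => Subtype.ext ?_
      dsimp only at h
      split_ifs at h with ha hb hb
      · exact congrArg (fun q : Q × Bool => (q.1 : G)) h
      · exact absurd (congrArg Prod.snd h) Bool.noConfusion
      · exact absurd (congrArg Prod.snd h) Bool.noConfusion
      · exact mul_left_cancel (congrArg (fun q : Q × Bool => (q.1 : G)) h)
    have hRp : IsPGroup 2 R := S.2.map _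
    obtain ⟨S1, hS1⟩ := hRp.exists_le_sylow
    obtain ⟨k, hk⟩ := card_dvd_of_le hQR
    have hk2 : 2 ≤ k := by
      rcases k with _ | _ | k
      · have := Nat.card_pos (α := R); omega
      · exact absurd (eq_of_le_of_card_ge hQR (by omega)).symm hRQ
      · omega
    have hS1c : Nat.card (S1 : Subgroup G) = Nat.card (P : Subgroup G) := Nat.card_congr (S1.equiv P).toEquiv
    have hle1 := Subgroup.card_le_of_le hS1
    have hRS : R = S1 := eq_of_le_of_card_ge hS1 (by rw [hS1c]; nlinarith)
    have hk2' : k = 2 := by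
      have : Nat.card Q * k ≤ Nat.card Q * 2 := by rw [← hk]; omega
      have := Nat.le_of_mul_le_mul_left this Nat.card_pos
      omega
    have hidx : (Q.subgroupOf R).index = 2 := by
      have h := (Q.subgroupOf R).card_mul_index
      rw [Nat.card_congr (subgroupOfEquivOfLe hQR).toEquiv, hk, hk2'] at h
      exact Nat.eq_of_mul_eq_mul_left Nat.card_pos h
    -- `v` is the only central involution of `R`
    have hv' : v ∈ Q := ⟨hUP hv, hvH⟩
    let e : (P : Subgroup G) ≃* R := (P.equiv S1).trans (MulEquiv.subgroupCongr hRS.symm)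
    have honly : ∀ w ∈ R, (∀ r ∈ R, r * w = w * r) → w * w = 1 → w = 1 ∨ w = v := by
      intro w hw hwc hw2
      refine or_iff_not_imp_left.2 fun hw1 => ?_
      have key : ∀ a (ha : a ∈ R), (∀ r ∈ R, r * a = a * r) → a * a = 1 → a ≠ 1 →
          ((e.symm ⟨a, ha⟩ : (P : Subgroup G)) : G) = z := by
        intro a ha hac ha2 ha1
        refine huniq _ z ⟨(e.symm _).2, mem_centralizer_iff.2 fun x hx => ?_⟩
          ⟨hUP hzU, mem_centralizer_iff.2 hzP⟩ ?_ (hUsq z hzU) ?_ hz1
        · have h : (⟨x, hx⟩ : (P : Subgroup G)) * e.symm ⟨a, ha⟩ = e.symm ⟨a, ha⟩ * ⟨x, hx⟩ := e.injective (by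
            rw [map_mul, map_mul, MulEquiv.apply_symm_apply]; exact Subtype.ext (hac _ (e ⟨x, hx⟩).2))
          exact congrArg Subtype.val h
        · rw [← Subgroup.coe_mul, ← map_mul, show (⟨a, ha⟩ : R) * ⟨a, ha⟩ = 1 from Subtype.ext ha2, map_one,
            Subgroup.coe_one]
        · intro h
          exact ha1 (congrArg Subtype.val ((map_eq_one_iff _ e.symm.injective).1
            (Subtype.ext h : e.symm ⟨a, ha⟩ = 1)))
      have h := (key w hw hwc hw2 hw1).trans
        (key v (hQR hv') (fun r hr => (hmemC v r).1 (hRH hr)) (hUsq v hv) hv1).symm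
      exact congrArg Subtype.val (e.symm.injective (Subtype.ext h))
    haveI := Subgroup.normal_of_index_eq_two hidx
    have hzQ : z ∈ Q := ⟨hUP hzU, (hmemC v z).2 (hUcomm z hzU v hv)⟩
    refine mem_opIn (R := R) (c := v) (hchar v hv hv1) hTR (hUsq v hv)
      (fun h hh => (hmemC v h).1 hh) hzQ.2 fun r hr => ?_
    by_cases hrQ : r ∈ Q
    · left; rw [← hzP r hrQ.1, mul_inv_cancel_right]
    have hconjQ : ∀ q ∈ Q, ∀ s ∈ R, s * q * s⁻¹ ∈ Q := fun q hq s hs =>
      mem_subgroupOf.1 ((inferInstance : (Q.subgroupOf R).Normal).conj_mem ⟨q, hQR hq⟩ hq ⟨s, hs⟩)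
    set z' := r * z * r⁻¹ with hz'
    have hz'Q : z' ∈ Q := hconjQ z hzQ r hr
    have hz'c : ∀ q ∈ Q, q * z' = z' * q := fun q hq => by
      have h := hconjQ q hq r⁻¹ (inv_mem hr)
      rw [inv_inv] at h
      calc q * z' = r * ((r⁻¹ * q * r) * z) * r⁻¹ := by rw [hz']; group
        _ = z' * q := by rw [hzP _ h.1, hz']; group
    have hr2 : r * r ∈ Q := mem_subgroupOf.1 (Subgroup.sq_mem_of_index_two hidx ⟨r, hr⟩ |> fun h => by simpa [sq] using h)
    set w := z * z' with hw
    have hzz' : z * z' = z' * z := hz'c z hzQ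
    have hrz' : r * z' * r⁻¹ = z := by
      have h := hzP _ hr2.1
      rw [hz', show r * (r * z * r⁻¹) * r⁻¹ = (r * r) * z * (r * r)⁻¹ by group, h, mul_inv_cancel_right]
    have hwr : r * w = w * r := by
      have : r * w * r⁻¹ = w := by
        rw [hw, show r * (z * z') * r⁻¹ = (r * z * r⁻¹) * (r * z' * r⁻¹) by group, hrz', hzz', ← hz']
      exact mul_inv_eq_iff_eq_mul.1 this
    have hwQ : ∀ q ∈ Q, q * w = w * q := fun q hq => by
      exact ((show Commute q z from hzP q hq.1).mul_right (show Commute q z' from hz'c q hq)).eq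
    have hwc : ∀ s ∈ R, s * w = w * s := by
      intro s hs
      by_cases hsQ : s ∈ Q
      · exact hwQ s hsQ
      · have h1 : r⁻¹ * s ∈ Q := by
          have h := (mul_mem_iff_of_index_two hidx (a := (⟨r, hr⟩ : R)⁻¹) (b := ⟨s, hs⟩)).2
            (by simp [mem_subgroupOf, hrQ, hsQ])
          exact mem_subgroupOf.1 h
        calc s * w = r * ((r⁻¹ * s) * w) := by group
          _ = r * w * (r⁻¹ * s) := by rw [hwQ _ h1]; group
          _ = w * s := by rw [hwr]; group
    have hz'2 : z' * z' = 1 := by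
      rw [hz', show r * z * r⁻¹ * (r * z * r⁻¹) = r * (z * z) * r⁻¹ by group, hUsq z hzU, mul_one, mul_inv_cancel]
    rcases honly w (mul_mem (hQR hzQ) (hQR hz'Q)) hwc
      (by rw [hw, mul_assoc, ← mul_assoc z' z z', ← hzz', mul_assoc z z' z', hz'2, mul_one, hUsq z hzU]) with h | h
    · left
      have : z' = z := by rw [← inv_eq_of_mul_eq_one_right h, inv_eq_of_mul_eq_one_right (hUsq z hzU)]
      rw [hz', mul_inv_eq_iff_eq_mul] at this
      rw [← this, mul_inv_cancel_right]
    · right
      have hzi : z⁻¹ = z := inv_eq_of_mul_eq_one_right (hUsq z hzU)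
      have hz'e : z' = z * v := by rw [← h, hw, ← mul_assoc, hUsq z hzU, one_mul]
      have e1 : r * z = z * v * r := by rw [← hz'e, hz', inv_mul_cancel_right]
      rw [mul_inv_eq_iff_eq_mul, mul_assoc r v z, ← hUcomm z hzU v hv, ← mul_assoc r z v, e1,
        mul_assoc (z * v) r v, (hmemC v r).1 (hRH hr), mul_assoc z v (v * r), ← mul_assoc v v r, hUsq v hv,
        one_mul]
  -- generation
  have hncyc : ¬ IsCyclic U := IsKleinFour.not_isCyclic
  have hcop : (Nat.card U).Coprime (Nat.card K) := by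
    rw [(IsKleinFour.card_four (G := U)), show (4 : ℕ) = 2 ^ 2 by norm_num]
    exact Nat.Coprime.pow_left 2 (Nat.coprime_two_left.2 hK)
  have hgen := CfsgLib.CoprimeAct.generated_by_centralizers hncyc hUK hcop
  refine le_centralizer_iff.1 (le_trans (le_of_eq hgen.symm) (iSup₂_le fun v hv => ?_))
  rintro k ⟨hkK, hkv⟩
  obtain ⟨y, hy, hy1, hyv, hyT⟩ := key v hv.1 hv.2
  have hkv' : k * v = v * k := (hmemC v k).1 hkv
  have hky : k * y = y * k := comm_of_mem hK (hUK hy) hyT hkv hkK
  refine mem_centralizer_iff.2 fun w hw => ?_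
  rcases hfour v hv.1 y hy hv.2 hy1 hyv w hw with h | h | h | h <;> rw [h]
  · rw [one_mul, mul_one]
  · exact hkv'.symm
  · exact hky.symm
  · rw [mul_assoc, ← hky, ← mul_assoc, ← hkv', mul_assoc]

end Cfsg.Agent.S1957
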