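import Cfsg.Statements.S1961
import Cfsg.Agent.Functor.Control

set_option autoImplicit false
open Cfsg

namespace Cfsg.Agent.S1961

/-- Local-to-global control of strong fusion through well-placed subgroups. Let p be a prime, G a finite group with Sylow p-subgroup S, and W a conjugacy functor for p on G. If W controls strong fusion in N_G(T) for every nonidentity subgroup T of S that is well placed in S with respect to W, then W controls strong fusion in G. -/
theorem result {G : Type*} [Group G] [Finite G] {p : ℕ} [Fact p.Prime] (S : Sylow p G) (W : Subgroup G → Subgroup G) (hW : Cfsg.IsConjugacyFunctor p W) (hloc : ∀ T : Subgroup G, T ≠ ⊥ → Cfsg.IsWellPlaced p W (S : Subgroup G) T → Cfsg.ControlsStrongFusionIn p W (Subgroup.normalizer ((T : Subgroup G) : Set G))) : Cfsg.ControlsStrongFusionIn p W ⊤ := by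
  open CfsgLib.Functor in
  refine (familyControls_singleton_iff W hW ⊤).1 (familyControls_of_controls (isSylowIn_top S)
    (controls_top_of_local S {W} (by simpa using hW)
      (fun T => Cfsg.IsWellPlaced p W (S : Subgroup G) T) (fun A hA => ?_) fun V hV hV1 hext hwp => ?_))
  · obtain ⟨g, h1, h2, h3⟩ := exists_wellPlaced hW S hA
    exact ⟨g, h1, h2, h3.2 0, h3⟩
  · exact (controls_iff_family (by simpa using hW) (IsExtremal.sylowIn S.2 hext)).1
      ((familyControls_singleton_iff W hW _).2 (hloc V hV1 hwp))


end Cfsg.Agent.S1961
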