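import Cfsg.Statements.S1962
import Cfsg.Agent.Functor.Transfer

set_option autoImplicit false
open Cfsg

namespace Cfsg.Agent.S1962

/-- Local-to-global control of transfer through well-placed subgroups. Let p be a prime, G a finite group with Sylow p-subgroup S, and W a conjugacy functor for p on G. If W controls transfer in N_G(T) for every nonidentity subgroup T of S that is well placed in S with respect to W, then W controls transfer in G: S ∩ G' = S ∩ (N_G(W(S)))'. -/
theorem result {G : Type*} [Group G] [Finite G] {p : ℕ} [Fact p.Prime] (S : Sylow p G) (W : Subgroup G → Subgroup G) (hW : Cfsg.IsConjugacyFunctor p W) (hloc : ∀ T : Subgroup G, T ≠ ⊥ → Cfsg.IsWellPlaced p W (S : Subgroup G) T → Cfsg.ControlsTransferIn p W (Subgroup.normalizer ((T : Subgroup G) : Set G))) : Cfsg.ControlsTransferIn p W ⊤ := by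
  open CfsgLib.Functor in
  have h𝓦 : ∀ W' ∈ ({W} : Set (Subgroup G → Subgroup G)), Cfsg.IsConjugacyFunctor p W' := by
    simpa using hW
  refine (transfer_singleton_iff W ⊤).1 ((familyTransfer_iff h𝓦 (isSylowIn_top S)).2
    (transfer_top_of_local S {W} h𝓦 (fun T => Cfsg.IsWellPlaced p W (S : Subgroup G) T)
      (fun A hA => ?_) fun V hV hV1 hext hwp => ?_))
  · obtain ⟨g, h1, h2, h3⟩ := exists_wellPlaced hW S hA
    exact ⟨g, h1, h2, h3.2 0, h3⟩
  · exact (familyTransfer_iff h𝓦 (IsExtremal.sylowIn S.2 hext)).1
      ((transfer_singleton_iff W _).2 (hloc V hV1 hwp))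


end Cfsg.Agent.S1962
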