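import Cfsg.Statements.S1966
import Cfsg.Prelude.Def_Solvable

set_option autoImplicit false
open Cfsg

namespace Cfsg.Agent.S1966

/-- Let p be a prime, G a finite group with Sylow p-subgroup S and 𝓕 a conjugation family for S in G. Then the members of 𝓕 containing O_p(G) still form a conjugation family for S in G. -/
theorem result {G : Type*} [Group G] [Finite G] {p : ℕ} [Fact p.Prime] (S : Sylow p G) (𝓕 : Set (Subgroup G)) (h : Cfsg.IsConjugationFamily 𝓕 (S : Subgroup G)) : Cfsg.IsConjugationFamily {T : Subgroup G | T ∈ 𝓕 ∧ Cfsg.pCore p G ≤ T} (S : Subgroup G) := by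
  obtain ⟨hsub, hfam⟩ := h
  refine ⟨fun T hT => hsub T hT.1, fun A g hne hA hgA => ?_⟩
  have hP : Cfsg.pCore p G ≤ (S : Subgroup G) := sSup_le fun N hN => by
    haveI := hN.1
    exact hN.2.le_sylow_of_normal S
  have hcore : (Cfsg.pCore p G).Normal := Subgroup.sSup_normal _ (fun _ h => h.1)
  obtain ⟨n, T, x, hprod, hT, hx, h0, hin⟩ := hfam (A ∪ (Cfsg.pCore p G : Set G)) g
    (hne.mono Set.subset_union_left) (Set.union_subset hA hP) (by
      rintro _ ⟨a, ha | ha, rfl⟩
      · exact hgA ⟨a, ha, rfl⟩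
      · exact hP (by simpa using hcore.conj_mem a ha g⁻¹))
  have hmem : ∀ i, T i ∈ 𝓕 ∧ Cfsg.pCore p G ≤ T i := by
    refine fun i => ⟨hT i, fun y hy => ?_⟩
    obtain ⟨i, hi⟩ := i
    cases i with
    | zero => exact h0 hi (Or.inr hy)
    | succ j =>
      refine hin ⟨j, by omega⟩ hi ⟨((List.ofFn x).take (j + 1)).prod * y *
        (((List.ofFn x).take (j + 1)).prod)⁻¹, Or.inr (hcore.conj_mem y hy _), ?_⟩
      simp [mul_assoc]
  exact ⟨n, T, x, hprod, hmem, hx, fun h => (Set.subset_union_left).trans (h0 h),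
    fun i h => (Set.image_mono Set.subset_union_left).trans (hin i h)⟩


end Cfsg.Agent.S1966
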