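import Cfsg.Statements.S1967
import Cfsg.Agent.Functor.Control

set_option autoImplicit false
open Cfsg

namespace Cfsg.Agent.S1967

/-- Let p be a prime, G a finite group with Sylow p-subgroup S and W a conjugacy functor for p on G. Then W controls strong fusion in G if and only if, whenever T ≤ S and g ∈ G satisfy gTg⁻¹ ≤ S, one can write g = n c with n ∈ N_G(W(S)) and c ∈ C_G(T). -/
theorem result {G : Type*} [Group G] [Finite G] {p : ℕ} [Fact p.Prime] (S : Sylow p G) (W : Subgroup G → Subgroup G) (hW : Cfsg.IsConjugacyFunctor p W) : Cfsg.ControlsStrongFusionIn p W ⊤ ↔ ∀ (T : Subgroup G) (g : G), T ≤ (S : Subgroup G) → T.map (MulAut.conj g).toMonoidHom ≤ (S : Subgroup G) → ∃ n ∈ Subgroup.normalizer ((W (S : Subgroup G) : Subgroup G) : Set G), ∃ c ∈ Subgroup.centralizer (T : Set G), g = n * c := by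
  open CfsgLib.Functor in
  constructor
  · intro h T g hT hgT
    have hc := (controls_iff_family (𝓦 := {W}) (by simpa using hW) (isSylowIn_top S)).1
      ((familyControls_singleton_iff W hW _).2 h) T g (Subgroup.mem_top g) hT hgT
    obtain ⟨w, hw, hag⟩ := hc
    have hmem : w ∈ Subgroup.normalizer ((W (S : Subgroup G) : Subgroup G) : Set G) := by
      clear hag
      induction hw with
      | nil => exact one_mem _
      | cons _ hx ih =>
        obtain ⟨-, -, -, ⟨W', rfl, rfl⟩, hxN⟩ := hx
        exact mul_mem hxN.2 ih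
    refine ⟨w, hmem, w⁻¹ * g, Subgroup.mem_centralizer_iff.2 fun a ha => ?_, by group⟩
    have h1 := hag a ha
    calc a * (w⁻¹ * g) = w⁻¹ * (w * a * w⁻¹) * g := by group
      _ = w⁻¹ * (g * a * g⁻¹) * g := by rw [h1]
      _ = w⁻¹ * g * a := by group
  · intro h
    refine ⟨S, le_top, S.2, by rw [Subgroup.relIndex_top_right]; exact S.not_dvd_index,
      fun A g _ hA hgA => ?_⟩
    obtain ⟨n, hn, c, hc, rfl⟩ := h (Subgroup.closure A) g ((Subgroup.closure_le _).2 hA)
      (by rw [MonoidHom.map_closure, Subgroup.closure_le]; exact hgA)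
    refine ⟨n, ⟨Subgroup.mem_top _, hn⟩, fun a ha => ?_⟩
    have := Subgroup.mem_centralizer_iff.1 hc a (Subgroup.subset_closure ha)
    calc n * a * n⁻¹ = n * (a * c) * c⁻¹ * n⁻¹ := by group
      _ = n * (c * a) * c⁻¹ * n⁻¹ := by rw [this]
      _ = n * c * a * (n * c)⁻¹ := by group


end Cfsg.Agent.S1967
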