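import Cfsg.Statements.S1981
import Cfsg.Agent.Kinf.Terms

set_option autoImplicit false
open Cfsg

namespace Cfsg.Agent.S1981

/-- Let P be a finite p-group generated by its abelian normal subgroups. Then both K-infinity subgroups of P equal P. -/
theorem result {P : Type*} [Group P] [Finite P] {p : ℕ} [Fact p.Prime] (hP : IsPGroup p P) (hgen : ⨆ A ∈ {A : Subgroup P | A.Normal ∧ IsMulCommutative ↥A}, A = ⊤) : Cfsg.kInfLower P = ⊤ ∧ Cfsg.kInfUpper P = ⊤ := by
  open CfsgLib.Kinf in
  have heven : ∀ n, Cfsg.kSeqEven P n = ⊤ := fun n => top_unique <| hgen ▸ iSup₂_le fun A hA => by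
    have := hA.1
    exact le_sSup (abelian_mem_lower hA.2 _)
  have hodd : ∀ n, Cfsg.kSeqOdd P n = ⊤ := by
    intro n
    cases n with
    | zero => rfl
    | succ n =>
      exact top_unique <| hgen ▸ iSup₂_le fun A hA => by
        have := hA.1
        exact le_sSup (abelian_mem_upper hA.2 _)
  exact ⟨top_unique ((heven 0).ge.trans (le_iSup (Cfsg.kSeqEven P) 0)),
    top_unique (le_iInf fun n => (hodd n).ge)⟩


end Cfsg.Agent.S1981
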