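import Cfsg.Statements.S1985
import Cfsg.Agent.Kinf.Consequences

set_option autoImplicit false
universe u
open Cfsg

namespace Cfsg.Agent.S1985

/-- Let p be an odd prime and G a finite group. Then the lower K-infinity subgroup controls weak closure of elements in G: the lower K-infinity subgroup of every p-subgroup P of G contains Z(P), and for some (equivalently, every) Sylow p-subgroup S of G, with K the lower K-infinity subgroup of S, every element of S commuting with all of N_G(K) is weakly closed in S with respect to G (every G-conjugate of it lying in S equals it). -/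
theorem result {G : Type u} [Group G] [Finite G] {p : ℕ} [Fact p.Prime] (hp : p ≠ 2) : Cfsg.ControlsWeakClosureOfElementsIn p (Cfsg.inducedFunctor (G := G) Cfsg.kInfLower) ⊤ := by
  open CfsgLib.Kinf CfsgLib.Functor Subgroup in
  have hW := isConjugacyFunctor_induced (G := G) (isCharPFunctor_kInf.{u} p).1
  obtain ⟨T, hT⟩ := exists_sylowIn (p := p) (⊤ : Subgroup G)
  refine ⟨fun P hP => center_le_inducedLower P hP, T, hT.1, hT.2.1, hT.2.2, ?_⟩
  rintro x ⟨hxT, hx⟩ h hh hhx
  have hnT : T ≤ (⊤ : Subgroup G) ⊓ Subgroup.normalizer
      ((Cfsg.inducedFunctor (G := G) Cfsg.kInfLower T : Subgroup G) : Set G) :=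
    le_inf le_top (le_normalizer.trans (normalizer_le_functor hW hT.2.1))
  have hfix : h ∈ Subgroup.centralizer ({x} : Set G) := by
    refine closed_of_global hW (fun P hP => center_le_inducedLower P hP) (Subgroup.zpowers x)
      (Subgroup.zpowers x) _ le_rfl (fun g hg => ?_) (fun he => ?_) (fun H' T' hT' hB hA hF hne hK => ?_)
      ⊤ T hT ?_ ?_ h hh ?_
    · rw [mem_normalizer_iff_cj, cj_zpowers, mem_centralizer_singleton_iff.1 hg, mul_inv_cancel_right]
    · rw [zpowers_eq_bot] at he
      subst he
      exact eq_top_iff.2 fun y _ => mem_centralizer_singleton_iff.2 (by simp)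
    · obtain ⟨g, h1, h2, h3⟩ := exists_quadratic_center hT' hne
      refine element_step hT' (hA (mem_zpowers x)) (hB (mem_zpowers x)).2 ⟨g, h1, h2, fun U V _ hU => ?_⟩ hK
      rw [iterCommutator_of_quadratic h3 hU (by have := (Fact.out : p.Prime).two_le; omega)]
      exact bot_le
    · exact zpowers_le.2 ⟨hxT, mem_centralizer_iff.2 fun t ht => mem_centralizer_iff.1 hx t (hnT ht)⟩
    · exact fun k hk => mem_centralizer_singleton_iff.2 (mem_centralizer_iff.1 hx k hk)
    · rw [cj_zpowers, zpowers_le]; exact hhx
  rw [mem_centralizer_singleton_iff.1 hfix, mul_inv_cancel_right]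


end Cfsg.Agent.S1985
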