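import Cfsg.Statements.S1992
import Cfsg.Agent.S1991
import Cfsg.Agent.Kinf.Consequences
import Cfsg.Agent.Char.Burnside

set_option autoImplicit false
open Cfsg

namespace Cfsg.Agent.S1992

/-- Let G be a finite group in which, for every prime q dividing the order of G, every Sylow q-subgroup is its own normalizer. Then the order of G is a power of a single prime (G is a q-group for some prime q; for G trivial any prime works). -/
theorem result {G : Type*} [Group G] [Finite G] (h : ∀ q : ℕ, q.Prime → q ∣ Nat.card G → ∀ Q : Sylow q G, Subgroup.normalizer ((Q : Subgroup G) : Set G) = Q) : ∃ q : ℕ, q.Prime ∧ IsPGroup q G := by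
  open CfsgLib.Kinf CfsgLib.Functor Subgroup in
  classical
  by_cases hne : Nat.card G = 1
  · exact ⟨2, Nat.prime_two, IsPGroup.of_card (n := 0) (by simpa using hne)⟩
  have key : ∀ q : ℕ, q.Prime → (∃ N : Subgroup G, N.Normal ∧ N.index = q) → IsPGroup q G := by
    rintro q hq ⟨N, hN, hidx⟩
    haveI := Fact.mk hq
    haveI := hN
    refine IsPGroup.of_card (n := (Nat.card G).primeFactorsList.length)
      (Nat.eq_prime_pow_of_unique_prime_dvd Nat.card_pos.ne' fun {r} hr hrG => ?_)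
    by_contra hrq
    haveI := Fact.mk hr
    obtain ⟨R⟩ := (inferInstance : Nonempty (Sylow r G))
    have hRN : (R : Subgroup G) ≤ N := by
      intro x hx
      obtain ⟨k, hk⟩ := IsPGroup.iff_orderOf.1 R.2 ⟨x, hx⟩
      rw [Subgroup.orderOf_mk] at hk
      refine (QuotientGroup.eq_one_iff x).1 (orderOf_eq_one_iff.1 ?_)
      have h1 : orderOf (QuotientGroup.mk' N x) ∣ r ^ k := hk ▸ orderOf_map_dvd _ x
      have h2 : orderOf (QuotientGroup.mk' N x) ∣ q :=
        hidx ▸ (index_eq_card N).symm ▸ orderOf_dvd_natCard _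
      exact Nat.eq_one_of_dvd_coprimes (Nat.Coprime.pow_left k ((Nat.coprime_primes hr hq).2 hrq)) h1 h2
    have htop : N = ⊤ := top_le_iff.1 fun x _ => by
      obtain ⟨c, hc, n, hn, rfl⟩ := (isSylowIn_top R).frattini (le_top : N ≤ ⊤)
        (by rw [normalizer_eq_top]) (mem_top x)
      rw [inf_eq_left.2 hRN, h r hr hrG R] at hn
      exact mul_mem hc (hRN hn.2)
    rw [htop, index_top] at hidx
    exact hq.one_lt.ne hidx
  by_cases hbig : ∃ q : ℕ, q.Prime ∧ q ∣ Nat.card G ∧ 5 ≤ q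
  · obtain ⟨q, hq, hqG, hq5⟩ := hbig
    haveI := Fact.mk hq
    obtain ⟨Q⟩ := (inferInstance : Nonempty (Sylow q G))
    refine ⟨q, hq, key q hq (Cfsg.Agent.S1991.result hq5 Q (Q.ne_bot_of_dvd_card hqG) fun g hg hco => ?_)⟩
    rw [h q hq hqG Q] at hg
    obtain ⟨k, hk⟩ := IsPGroup.iff_orderOf.1 Q.2 ⟨g, hg⟩
    rw [Subgroup.orderOf_mk] at hk
    rcases k with _ | k
    · rw [pow_zero, orderOf_eq_one_iff] at hk
      rw [hk]; exact one_mem _
    · exact absurd (hk ▸ dvd_pow_self q k.succ_ne_zero) (hq.coprime_iff_not_dvd.1 hco.symm)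
  push Not at hbig
  obtain ⟨a, m, hm, ham⟩ := Nat.exists_eq_pow_mul_and_not_dvd (Nat.card_pos (α := G)).ne' 2 (by norm_num)
  obtain ⟨b, l, hl, hbl⟩ := Nat.exists_eq_pow_mul_and_not_dvd
    (fun h0 : m = 0 => hm (h0 ▸ dvd_zero 2)) 3 (by norm_num)
  have hl1 : l = 1 := by
    by_contra hl1
    obtain ⟨r, hr, hrl⟩ := Nat.exists_prime_and_dvd hl1
    have hrG : r ∣ Nat.card G := by rw [ham, hbl]; exact (hrl.mul_left _).mul_left _
    have h5 := hbig r hr hrG
    have h2 : r ≠ 2 := fun e => hm (e ▸ hbl ▸ hrl.mul_left _)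
    have h3 : r ≠ 3 := fun e => hl (e ▸ hrl)
    have h4 : r ≠ 4 := fun e => by rw [e] at hr; norm_num at hr
    have := hr.two_le
    omega
  haveI : Group.IsSolvable G := CfsgLib.Char.isSolvable_of_card_eq 2 3 a b Nat.prime_two Nat.prime_three
    (by rw [ham, hbl, hl1, mul_one])
  haveI : Nontrivial G := Finite.one_lt_card_iff_nontrivial.1 (by
    have : 0 < Nat.card G := Nat.card_pos
    omega)
  have hlt := (Group.IsSolvable.commutator_lt_top_of_nontrivial G).ne
  obtain ⟨q, hq, hqd⟩ := Nat.exists_prime_and_dvd (fun h1 => hlt (index_eq_one.1 h1))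
  haveI := Fact.mk hq
  obtain ⟨Q⟩ := (inferInstance : Nonempty (Sylow q G))
  exact ⟨q, hq, key q hq (exists_index_p Q fun hle => Q.not_dvd_index (hqd.trans (index_dvd_of_le hle)))⟩


end Cfsg.Agent.S1992
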