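import Cfsg.Statements.S1997
import Cfsg.Agent.Kinf.TripleFactor

set_option autoImplicit false
universe u
open Cfsg

namespace Cfsg.Agent.S1997

/-- Let p be a prime, G a finite group with Sylow p-subgroup S, and W₁, W₂ two isomorphism-invariant p-group functors (W assigns to every group Q a subgroup W(Q), nontrivial whenever Q is a nontrivial finite p-group, and every isomorphism from a finite p-group Q onto a group R carries W(Q) onto W(R)). Suppose that G* = C_{G*}(Ω₁Z(S*)) N_{G*}(W₁(S*)) = C_{G*}(Ω₁Z(S*)) N_{G*}(W₂(S*)) = N_{G*}(W₁(S*)) N_{G*}(W₂(S*)) whenever G* = K/R is a section of G with C_{G*}(O_p(G*)) ≤ O_p(G*) and S* is a Sylow p-subgroup of G*, where Ω₁Z denotes the subgroup generated by the elements of order dividing p in the centre. Suppose also Ω₁Z(S) ≤ W₁(S) ∩ W₂(S), and let A be the normal closure of Ω₁Z(S) in N_G(W₁(S)). Then A is an elementary abelian subgroup of S, strongly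 closed in S with respect to G, and A controls strong fusion in G. -/
theorem result {G : Type u} [Group G] [Finite G] {p : ℕ} [Fact p.Prime] (S : Sylow p G) (W₁ W₂ : ∀ (Q : Type u) [Group Q], Subgroup Q) (hW₁ : Cfsg.IsCharPFunctor.{u} p W₁) (hW₂ : Cfsg.IsCharPFunctor.{u} p W₂) (hfac : ∀ (K R : Subgroup G) [hR : (R.subgroupOf K).Normal], Subgroup.centralizer ((Cfsg.pCore p (↥K ⧸ R.subgroupOf K) : Subgroup (↥K ⧸ R.subgroupOf K)) : Set (↥K ⧸ R.subgroupOf K)) ≤ Cfsg.pCore p (↥K ⧸ R.subgroupOf K) → ∀ T : Sylow p (↥K ⧸ R.subgroupOf K), (∀ x : (↥K ⧸ R.subgroupOf K), ∃ a ∈ Subgroup.centralizer ((Cfsg.omegaOne p ((T : Subgroup (↥K ⧸ R.subgroupOf K)) ⊓ Subgroup.centralizer (((T : Subgroup (↥K ⧸ R.subgroupOf K)) : Subgroup (↥K ⧸ R.subgroupOf K)) : Set (↥K ⧸ R.subgroupOf K))) : Subgroup (↥K ⧸ R.subgroupOf K)) : Set (↥K ⧸ R.subgroupOf K)), ∃ b ∈ Subgroup.normalizer ((Cfsg.inducedFunctor (G := (↥K ⧸ R.subgroupOf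 K)) W₁ (T : Subgroup (↥K ⧸ R.subgroupOf K)) : Subgroup (↥K ⧸ R.subgroupOf K)) : Set (↥K ⧸ R.subgroupOf K)), x = a * b) ∧ (∀ x : (↥K ⧸ R.subgroupOf K), ∃ a ∈ Subgroup.centralizer ((Cfsg.omegaOne p ((T : Subgroup (↥K ⧸ R.subgroupOf K)) ⊓ Subgroup.centralizer (((T : Subgroup (↥K ⧸ R.subgroupOf K)) : Subgroup (↥K ⧸ R.subgroupOf K)) : Set (↥K ⧸ R.subgroupOf K))) : Subgroup (↥K ⧸ R.subgroupOf K)) : Set (↥K ⧸ R.subgroupOf K)), ∃ b ∈ Subgroup.normalizer ((Cfsg.inducedFunctor (G := (↥K ⧸ R.subgroupOf K)) W₂ (T : Subgroup (↥K ⧸ R.subgroupOf K)) : Subgroup (↥K ⧸ R.subgroupOf K)) : Set (↥K ⧸ R.subgroupOf K)), x = a * b) ∧ (∀ x : (↥K ⧸ R.subgroupOf K), ∃ a ∈ Subgroup.normalizer ((Cfsg.inducedFunctor (G := (↥K ⧸ R.subgroupOf K)) W₁ (T : Subgroup (↥K ⧸ R.subgroupOf K)) : Subgroup (↥K ⧸ R.subgroupOf K)) : Set (↥K ⧸ R.subgroupOf K)), ∃ b ∈ Subgroup.normalizer ((Cfsg.inducedFunctor (G := (↥K ⧸ R.subgroupOf K))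 W₂ (T : Subgroup (↥K ⧸ R.subgroupOf K)) : Subgroup (↥K ⧸ R.subgroupOf K)) : Set (↥K ⧸ R.subgroupOf K)), x = a * b)) (hZ : Cfsg.omegaOne p ((S : Subgroup G) ⊓ Subgroup.centralizer (((S : Subgroup G) : Subgroup G) : Set G)) ≤ Cfsg.inducedFunctor (G := G) W₁ (S : Subgroup G) ⊓ Cfsg.inducedFunctor (G := G) W₂ (S : Subgroup G)) (N₁ : Subgroup G) (hN₁ : N₁ = Subgroup.normalizer ((Cfsg.inducedFunctor (G := G) W₁ (S : Subgroup G) : Subgroup G) : Set G)) (A : Subgroup G) (hA : A = (Subgroup.normalClosure (((Cfsg.omegaOne p ((S : Subgroup G) ⊓ Subgroup.centralizer (((S : Subgroup G) : Subgroup G) : Set G))).subgroupOf N₁ : Subgroup ↥N₁) : Set ↥N₁)).map N₁.subtype) : A ≤ (S : Subgroup G) ∧ Cfsg.IsElementaryAbelian p A ∧ Cfsg.IsStronglyClosed A (S : Subgroup G) ∧ Cfsg.ControlsStrongFusion p A := by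
  classical
  open CfsgLib.Functor CfsgLib.Kinf CfsgLib.TripleFactor Subgroup in
  have hf1 : CentFactor p G W₁ := fun K R _ hC T x => (hfac K R hC T).1 x
  have hf2 : CentFactor p G W₂ := fun K R _ hC T x => (hfac K R hC T).2.1 x
  set Z := Cfsg.omegaOne p ((S : Subgroup G) ⊓ Subgroup.centralizer (((S : Subgroup G) : Subgroup G) : Set G)) with hZdef
  set V1 := Cfsg.inducedFunctor (G := G) W₁ (S : Subgroup G) with hV1
  set V2 := Cfsg.inducedFunctor (G := G) W₂ (S : Subgroup G) with hV2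
  set N₂ := Subgroup.normalizer (V2 : Set G) with hN₂
  have hfun1 := isConjugacyFunctor_induced (G := G) hW₁
  have hfun2 := isConjugacyFunctor_induced (G := G) hW₂
  have hV1S : V1 ≤ S := functor_le hfun1 S.2
  have hSN1 : (S : Subgroup G) ≤ N₁ := hN₁ ▸ Subgroup.le_normalizer.trans (normalizer_le_functor hfun1 S.2)
  have hSN2 : (S : Subgroup G) ≤ N₂ := Subgroup.le_normalizer.trans (normalizer_le_functor hfun2 S.2)
  have hZS : Z ≤ (S : Subgroup G) := (CfsgLib.Thompson.omegaOne_le _).trans inf_le_left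
  have hZC : Z ≤ Subgroup.centralizer ((S : Subgroup G) : Set G) :=
    (CfsgLib.Thompson.omegaOne_le _).trans inf_le_right
  have hZel : Cfsg.IsElementaryAbelian p Z := CfsgLib.Thompson.elab_omegaOne fun x hx y hy =>
    (Subgroup.mem_centralizer_iff.1 hy.2 x hx.1)
  have hA1 : ∀ M : Subgroup G, Z ≤ M → N₁ ≤ Subgroup.normalizer (M : Set G) → A ≤ M := fun M h h' =>
    hA ▸ normalClosure_map_le h h'
  have hZA : Z ≤ A := fun z hz => hA ▸ ⟨⟨z, hSN1 (hZS hz)⟩,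
    Subgroup.subset_normalClosure (Subgroup.mem_subgroupOf.2 hz), rfl⟩
  have hnA : ∀ (N : Subgroup G) (X : Subgroup ↥N), X.Normal →
      N ≤ Subgroup.normalizer ((X.map N.subtype : Subgroup G) : Set G) := by
    intro N X hX n hn
    rw [CfsgLib.Functor.mem_normalizer_iff_cj]
    refine eq_of_le_of_card_le' ?_ (card_cj _ _).ge
    rw [cj_le_iff]
    rintro _ ⟨a, ha, rfl⟩
    exact ⟨_, hX.conj_mem a ha ⟨n, hn⟩, rfl⟩
  have hN1A : N₁ ≤ Subgroup.normalizer (A : Set G) := hA ▸ hnA _ _ Subgroup.normalClosure_normal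
  set A₂ := (Subgroup.normalClosure ((Z.subgroupOf N₂ : Subgroup ↥N₂) : Set ↥N₂)).map N₂.subtype with hA₂
  have hN2A : N₂ ≤ Subgroup.normalizer (A₂ : Set G) := hnA _ _ Subgroup.normalClosure_normal
  have hZA₂ : Z ≤ A₂ := fun z hz => ⟨⟨z, hSN2 (hZS hz)⟩,
    Subgroup.subset_normalClosure (Subgroup.mem_subgroupOf.2 hz), rfl⟩
  have hle : ∀ (N M : Subgroup G), (∀ x ∈ N, ∀ z ∈ Z, x * z * x⁻¹ ∈ M) →
      (Subgroup.normalClosure ((Z.subgroupOf N : Subgroup ↥N) : Set ↥N)).map N.subtype ≤ M := by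
    intro N M h
    rw [Subgroup.map_le_iff_le_comap, Subgroup.normalClosure, Subgroup.closure_le]
    intro w hw
    obtain ⟨a, ha, hc⟩ := Group.mem_conjugatesOfSet_iff.1 hw
    obtain ⟨g, hg⟩ := isConj_iff.1 hc
    show (w : G) ∈ M
    rw [← hg]
    exact h g g.2 a (Subgroup.mem_subgroupOf.1 ha)
  have h21 : A₂ ≤ A := hle N₂ A fun x hx z hz => by
    obtain ⟨n, hn, he⟩ := exists_conj S W₁ W₂ hW₁ hW₂ hf1 (hZS hz) (hZC hz) (hZel.2 z hz) (hZ hz).2 hx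
    rw [he]
    exact (Subgroup.mem_normalizer_iff.1 (hN1A (hN₁ ▸ hn)) z).1 (hZA hz)
  have h12 : A ≤ A₂ := hA ▸ hle N₁ A₂ fun x hx z hz => by
    obtain ⟨n, hn, he⟩ := exists_conj S W₂ W₁ hW₂ hW₁ hf2 (hZS hz) (hZC hz) (hZel.2 z hz) (hZ hz).1
      (hN₁ ▸ hx)
    rw [he]
    exact (Subgroup.mem_normalizer_iff.1 (hN2A hn) z).1 (hZA₂ hz)
  have hN2A' : N₂ ≤ Subgroup.normalizer (A : Set G) := le_antisymm h12 h21 ▸ hN2A
  -- `A` is central in `W₁(S)`, hence elementary abelian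
  have hAV : A ≤ V1 ⊓ Subgroup.centralizer (V1 : Set G) := by
    refine hA1 _ (le_inf (fun z hz => (hZ hz).1) ((hZC).trans (Subgroup.centralizer_le hV1S))) ?_
    rw [hN₁]
    intro n hn
    rw [mem_normalizer_iff_cj] at hn ⊢
    rw [cj_inf, cj_centralizer, hn]
  have hAS : A ≤ (S : Subgroup G) := hAV.trans (inf_le_left.trans hV1S)
  have hAel : Cfsg.IsElementaryAbelian p A := by
    have hle : A ≤ Cfsg.omegaOne p (V1 ⊓ Subgroup.centralizer (V1 : Set G)) := by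
      refine hA1 _ (fun z hz => CfsgLib.Thompson.mem_omegaOne
        (Subgroup.mem_inf.2 ⟨(hZ hz).1, Subgroup.centralizer_le hV1S (hZC hz)⟩) (hZel.2 z hz)) ?_
      rw [hN₁]
      intro n hn
      rw [mem_normalizer_iff_cj] at hn ⊢
      rw [show _ = _ from CfsgLib.Thompson.map_omegaOne _ (MulAut.conj n).injective _, cj_inf,
        cj_centralizer, hn]
    have hel := CfsgLib.Thompson.elab_omegaOne (p := p) (H := V1 ⊓ Subgroup.centralizer (V1 : Set G))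
      fun x hx y hy => (Subgroup.mem_centralizer_iff.1 hy.2 x hx.1)
    exact ⟨⟨⟨fun x y => Subtype.ext (CfsgLib.Thompson.elab_commute hel (hle x.2) (hle y.2))⟩⟩,
      fun a ha => hel.2 a (hle ha)⟩
  -- fusion
  have h𝓦 : ∀ V ∈ ({W₁, W₂} : Set (∀ (Q : Type u) [Group Q], Subgroup Q)), Cfsg.IsCharPFunctor.{u} p V := by
    rintro V (rfl | rfl)
    exacts [hW₁, hW₂]
  have hctl : Ctl p {W₁, W₂} G := ctl_top h𝓦 fun K' R' _ hC => by
    obtain ⟨T⟩ := (inferInstance : Nonempty (Sylow p (↥K' ⧸ R'.subgroupOf K')))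
    exact ctl_pair_of_factor W₁ W₂ hW₁ hW₂ T (hfac K' R' hC T).2.2
  have hcon := (controls_iff_family (family_conjugacy h𝓦) (isSylowIn_top S)).1 hctl
  have hfus : ∀ (B : Subgroup G) (g : G), B ≤ S → g ⋆ B ≤ S →
      ∃ x ∈ Subgroup.normalizer (A : Set G), ∀ b ∈ B, x * b * x⁻¹ = g * b * g⁻¹ := by
    intro B g hB hgB
    refine exists_mem_of_chain (S := (S : Subgroup G)) ((hcon B g (Subgroup.mem_top g) hB hgB).bind ?_)
    rintro D x ⟨hD, hxD, _, ⟨_, ⟨V, hV, rfl⟩, rfl⟩, hx⟩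
    refine Chain.of_mem (Set.mem_singleton _) ?_ hD hxD
    rcases hV with rfl | rfl
    exacts [hN1A (hN₁ ▸ hx.2), hN2A' hx.2]
  refine ⟨hAS, hAel, ⟨hAS, fun a ha g hg => ?_⟩, ⟨S, hAS, fun B hB => ⟨hB, fun g hg => ?_⟩⟩⟩
  · obtain ⟨x, hx, he⟩ := hfus (Subgroup.zpowers a) g (Subgroup.zpowers_le.2 (hAS ha)) (by
      rw [MonoidHom.map_zpowers, Subgroup.zpowers_le]; exact hg)
    rw [← he a (Subgroup.mem_zpowers a)]
    exact (Subgroup.mem_normalizer_iff.1 hx a).1 ha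
  · obtain ⟨x, hx, he⟩ := hfus (Subgroup.closure B) g ((Subgroup.closure_le _).2 hB) (by
      rw [MonoidHom.map_closure, Subgroup.closure_le]; exact hg)
    exact ⟨x, hx, fun b hb => (he b (Subgroup.subset_closure hb)).symm⟩

end Cfsg.Agent.S1997
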