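import Cfsg.Statements.S1999
import Cfsg.Agent.SThreeFree.Functors

set_option autoImplicit false
set_option linter.style.haveILetI false
open Cfsg

namespace Cfsg.Agent.S1999

/-- Let G be a finite group. The symmetric group of degree 4 is not involved in G if and only if, in every section K/R of G, the pair of conjugacy functors {Z, J_e} controls strong fusion (for the prime 2): here Z(P) is the centre and J_e(P) the subgroup generated by the elementary abelian subgroups of P of largest order, and control by the pair means that 2-fusion of tuples inside a Sylow 2-subgroup T of the section is generated, staying inside T, by conjugation inside N(Z(T)) and N(J_e(T)). -/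
theorem result {G : Type*} [Group G] [Finite G] : ¬ Cfsg.Involves (Equiv.Perm (Fin 4)) G ↔ ∀ (K R : Subgroup G) [hR : (R.subgroupOf K).Normal], Cfsg.FamilyControlsStrongFusionIn 2 ({fun P : Subgroup (↥K ⧸ R.subgroupOf K) => P ⊓ Subgroup.centralizer ((P : Subgroup (↥K ⧸ R.subgroupOf K)) : Set (↥K ⧸ R.subgroupOf K)), fun P : Subgroup (↥K ⧸ R.subgroupOf K) => Cfsg.thompsonSubgroupOf 2 P} : Set (Subgroup (↥K ⧸ R.subgroupOf K) → Subgroup (↥K ⧸ R.subgroupOf K))) ⊤ := by
  open CfsgLib.SThreeFree in
  haveI : Fact (Nat.Prime 2) := ⟨Nat.prime_two⟩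
  have heq : ∀ (K R : Subgroup G) [hR : (R.subgroupOf K).Normal],
      CfsgLib.Kinf.Ctl 2 {zFun, jFun} (↥K ⧸ R.subgroupOf K) ↔
      Cfsg.FamilyControlsStrongFusionIn 2 ({fun P : Subgroup (↥K ⧸ R.subgroupOf K) => P ⊓ Subgroup.centralizer ((P : Subgroup (↥K ⧸ R.subgroupOf K)) : Set (↥K ⧸ R.subgroupOf K)), fun P : Subgroup (↥K ⧸ R.subgroupOf K) => Cfsg.thompsonSubgroupOf 2 P} : Set (Subgroup (↥K ⧸ R.subgroupOf K) → Subgroup (↥K ⧸ R.subgroupOf K))) ⊤ := by
    intro K R _
    rw [CfsgLib.Kinf.Ctl, CfsgLib.Kinf.family, Set.image_pair]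
    rw [show (Cfsg.inducedFunctor zFun : Subgroup (↥K ⧸ R.subgroupOf K) → _) =
      fun P => P ⊓ Subgroup.centralizer (P : Set (↥K ⧸ R.subgroupOf K)) from funext induced_zFun]
    rfl
  constructor
  · intro hfree K R hR
    exact (heq K R).1 (ctl_pair fun h => hfree (CfsgLib.ZJ.involves_of_section K R h))
  · intro h hinv
    refine not_involves_of_ctl (G := G) (p := 2) (𝓦 := {zFun, jFun}) ?_
      (fun K R _ => (heq K R).2 (h K R)) (involves_qd_two_iff.2 hinv)
    rintro W (rfl | rfl)
    · exact isCharPFunctor_zFun 2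
    · exact isCharPFunctor_jFun

end Cfsg.Agent.S1999
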