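import Cfsg.Statements.S2000
import Cfsg.Agent.SThreeFree.Functors
import Cfsg.Agent.ZJ.QdFusion

set_option autoImplicit false
set_option linter.style.haveILetI false
universe u
open Cfsg

namespace Cfsg.Agent.S2000

/-- Let p be a prime and G a finite group. Then Qd(p) (the natural semidirect product of an elementary abelian group of order p² by SL₂(p)) is not involved in G if and only if there is a set 𝓦 of isomorphism-invariant p-group functors (each nontrivial on nontrivial finite p-groups and carried onto W(R) by every isomorphism from a finite p-group Q onto R, hence with characteristic values on finite p-groups) whose induced conjugacy functors control strong fusion in every section of G. -/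
theorem result {G : Type u} [Group G] [Finite G] {p : ℕ} [Fact p.Prime] : ¬ Cfsg.Involves ↥(Cfsg.qd p) G ↔ ∃ 𝓦 : Set (∀ (Q : Type u) [Group Q], Subgroup Q), (∀ W ∈ 𝓦, Cfsg.IsCharPFunctor.{u} p W) ∧ ∀ (K R : Subgroup G) [hR : (R.subgroupOf K).Normal], Cfsg.FamilyControlsStrongFusionIn p ((fun W => Cfsg.inducedFunctor (G := (↥K ⧸ R.subgroupOf K)) W) '' 𝓦) ⊤ := by
  open CfsgLib.SThreeFree in
  constructor
  · intro hfree
    by_cases hp : p = 2
    · subst hp
      refine ⟨{zFun, jFun}, ?_, fun K R _ => ctl_pair fun h =>
        hfree (involves_qd_two_iff.2 (CfsgLib.ZJ.involves_of_section K R h))⟩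
      rintro W (rfl | rfl)
      · exact isCharPFunctor_zFun 2
      · exact isCharPFunctor_jFun
    · have hK := CfsgLib.ZJ.zkind_centerThompsonA.{u} (p := p) hp
      let W : ∀ (Q : Type u) [Group Q], Subgroup Q :=
        fun Q _ => Cfsg.centerThompsonAOf (⊤ : Subgroup Q)
      have hW : Cfsg.IsCharPFunctor.{u} p W := by
        refine ⟨fun Q _ _ hQ hne => hK.ne_bot Q ⊤ (hQ.to_subgroup ⊤) top_ne_bot,
          fun Q R _ _ _ _ φ => ?_⟩
        haveI : Finite R := Finite.of_equiv Q φ.toEquiv
        have h := hK.map Q R φ.toMonoidHom ⊤ φ.injective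
        rw [Subgroup.map_top_of_surjective _ φ.surjective] at h
        exact h.symm
      refine ⟨{W}, fun V hV => by rw [Set.mem_singleton_iff] at hV; exact hV ▸ hW, fun K R _ => ?_⟩
      set X := ↥K ⧸ R.subgroupOf K
      obtain ⟨T⟩ := (inferInstance : Nonempty (Sylow p X))
      have hind : Cfsg.inducedFunctor (G := X) W (T : Subgroup X) =
          Cfsg.centerThompsonAOf (T : Subgroup X) := by
        have h := hK.map ↥(T : Subgroup X) X (T : Subgroup X).subtype ⊤
          (T : Subgroup X).subtype_injective
        rw [← MonoidHom.range_eq_map, Subgroup.range_subtype] at h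
        exact h.symm
      refine CfsgLib.Functor.familyControls_of_controls (CfsgLib.Functor.isSylowIn_top T)
        fun A g _ hA hgA => ?_
      obtain ⟨x, hx, hxe⟩ := CfsgLib.ZJ.control_of_free hp hK X
        (fun h => hfree (CfsgLib.ZJ.involves_of_section K R h)) T _
        (CfsgLib.ZJ.stronglyClosed_self T) A g hA hgA
      refine CfsgLib.Functor.Chain.congr (CfsgLib.Functor.Chain.of_mem
        ⟨_, ⟨W, rfl, rfl⟩, rfl⟩ ⟨Subgroup.mem_top x, show x ∈ Subgroup.normalizer ((Cfsg.inducedFunctor (G := X) W (T : Subgroup X) : Subgroup X) : Set X) by rw [hind]; exact hx⟩ hA ?_) hxe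
      rwa [CfsgLib.Functor.cj_eq_of_agree hxe]
  · rintro ⟨𝓦, h𝓦, h⟩
    exact not_involves_of_ctl h𝓦 h

end Cfsg.Agent.S2000
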