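import Cfsg.Statements.S2012
import Cfsg.Agent.Fusion.AlperinPElement

set_option autoImplicit false
open Cfsg
open scoped Pointwise

namespace Cfsg.Agent.S2012

/-- Alperin's fusion Theorem with the factors taken to be p-elements: let P be a Sylow p-subgroup of a finite group G, A a subset of P and g an element with g⁻¹Ag ⊆ P. Then g = x_1 ⋯ x_n where, for each i, Q_i is a Sylow p-subgroup with P ∩ Q_i a tame intersection (the normalizers in P and in Q_i of P ∩ Q_i are Sylow in N_G(P ∩ Q_i)), x_i normalizes P ∩ Q_i, x_i has p-power order unless Q_i = P, A ⊆ P ∩ Q_1, and (x_1 ⋯ x_i)⁻¹ A (x_1 ⋯ x_i) lies in P ∩ Q_{i+1} for i < n. -/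
theorem result {G : Type*} [Group G] [Finite G] {p : ℕ} [Fact p.Prime] (P : Sylow p G) (A : Set G) (g : G) (hA : A ⊆ (P : Set G)) (hAg : (fun a => g⁻¹ * a * g) '' A ⊆ (P : Set G)) : ∃ (n : ℕ) (Q : Fin n → Sylow p G) (x : Fin n → G), (List.ofFn x).prod = g ∧ (∀ i : Fin n, x i ∈ Subgroup.normalizer ((((P : Subgroup G) ⊓ (Q i : Subgroup G)) : Subgroup G) : Set G) ∧ ¬ p ∣ ((P : Subgroup G) ⊓ Subgroup.normalizer ((((P : Subgroup G) ⊓ (Q i : Subgroup G)) : Subgroup G) : Set G)).relIndex (Subgroup.normalizer ((((P : Subgroup G) ⊓ (Q i : Subgroup G)) : Subgroup G) : Set G)) ∧ ¬ p ∣ ((Q i : Subgroup G) ⊓ Subgroup.normalizer ((((P : Subgroup G) ⊓ (Q i : Subgroup G)) : Subgroup G) : Set G)).relIndex (Subgroup.normalizer ((((P : Subgroup G) ⊓ (Q i : Subgroup G)) : Subgroup G) : Set G)) ∧ ((Q i : Subgroup G) = (P : Subgroup G) ∨ ∃ k : ℕ, orderOf (x i) = p ^ k)) ∧ (∀ h : 0 < n, A ⊆ (((P : Subgroup G) ⊓ (Q ⟨0, h⟩ : Subgroup G) : Subgroup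 G) : Set G)) ∧ ∀ i : Fin n, ∀ h : i.val + 1 < n, (fun a => (((List.ofFn x).take (i.val + 1)).prod)⁻¹ * a * ((List.ofFn x).take (i.val + 1)).prod) '' A ⊆ (((P : Subgroup G) ⊓ (Q ⟨i.val + 1, h⟩ : Subgroup G) : Subgroup G) : Set G) := by
  have hsub : Subgroup.closure A ≤ (P : Subgroup G) := (Subgroup.closure_le _).2 hA
  have hsub' : MulAut.conj g⁻¹ • Subgroup.closure A ≤ (P : Subgroup G) := by
    rw [Subgroup.pointwise_smul_subset_iff, Subgroup.closure_le]
    intro a ha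
    rw [SetLike.mem_coe, Subgroup.mem_inv_pointwise_smul_iff]
    have : g⁻¹ * a * g ∈ (P : Subgroup G) := hAg ⟨a, ha, rfl⟩
    simpa using this
  obtain ⟨n, Q, x, hprod, hx, hchain⟩ :=
    (CfsgLib.Fusion.pConn_of_conn (CfsgLib.Fusion.alperin hsub hsub')).exists_fin
  refine ⟨n, Q, x, hprod, fun i => ⟨(hx i).1, (hx i).2.1.1, (hx i).2.1.2, (hx i).2.2⟩,
    fun h a ha => ?_, fun i h => ?_⟩
  · have := hchain ⟨0, h⟩
    simp only [List.take_zero, List.prod_nil, inv_one, map_one, one_smul] at this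
    exact this (Subgroup.subset_closure ha)
  · rintro _ ⟨a, ha, rfl⟩
    have := hchain ⟨i.val + 1, h⟩ (Subgroup.smul_mem_pointwise_smul a
      (MulAut.conj ((List.ofFn x).take (i.val + 1)).prod⁻¹) _ (Subgroup.subset_closure ha))
    convert this using 1
    simp [mul_assoc]
    exact Iff.rfl

end Cfsg.Agent.S2012
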