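import Cfsg.Statements.S2015
import Cfsg.Agent.Kinf.Consequences

set_option autoImplicit false
universe u
open Cfsg

namespace Cfsg.Agent.S2015

/-- For p ≥ 5, every finite p-group P has a characteristic subgroup K containing Z(P), depending only on P, whose normalizer controls transfer wherever P is a Sylow subgroup: for every finite group G and every embedding ι of P onto a Sylow p-subgroup of G, the intersection of ι(P) with the derived subgroup of G equals its intersection with the derived subgroup of N_G(ι(K)). -/
theorem result (p : ℕ) [Fact p.Prime] (hp : 5 ≤ p) (P : Type u) [Group P] [Finite P] (hP : IsPGroup p P) : ∃ K : Subgroup P, K.Characteristic ∧ Subgroup.center P ≤ K ∧ ∀ (G : Type u) [Group G] [Finite G] (ι : P →* G), Function.Injective ι → (∃ T : Sylow p G, (T : Subgroup G) = ι.range) → ι.range ⊓ commutator G = ι.range ⊓ (commutator ↥(Subgroup.normalizer ((K.map ι : Subgroup G) : Set G))).map (Subgroup.normalizer ((K.map ι : Subgroup G) : Set G)).subtype := by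
  open CfsgLib.Kinf CfsgLib.Functor Subgroup in
  have hW := (isCharPFunctor_kInf.{u} p).1
  refine ⟨Cfsg.kInfLower P, functor_characteristic hW.2 P hP,
    (Subgroup.center_le_centralizer _).trans (centralizer_kInfLower_le hP), fun G _ _ ι hι hT => ?_⟩
  obtain ⟨T, hT⟩ := hT
  have h := transfer_eq hW (transfer_kInf_group hp _ hW fun Γ _ _ S h => Or.inl h) T
  have hmap : Cfsg.inducedFunctor (G := G) Cfsg.kInfLower ι.range = (Cfsg.kInfLower P).map ι := by
    rw [MonoidHom.range_eq_map, induced_map hW.2 ι ⊤ (hP.to_subgroup ⊤)
      (fun x _ hx => hι (hx.trans ι.map_one.symm))]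
    unfold Cfsg.inducedFunctor
    congr 1
    exact hW.2 _ P (hP.to_subgroup ⊤) topEquiv
  rw [hT, hmap] at h
  rw [h, map_subtype_commutator]


end Cfsg.Agent.S2015
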