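import Cfsg.Statements.S2039
import Cfsg.Agent.Coset.J1.Matrix
import Cfsg.Agent.J1Local.Cover

set_option autoImplicit false
open Cfsg

namespace Cfsg.Agent.S2039

/-- The Schur multiplier of the Janko group J₁ (the group generated by two explicit 7 × 7 matrices over the integers modulo 11) is trivial; here the Schur multiplier is described through stem extensions, as in the definitions: surjective homomorphisms onto the group from a finite group, whose kernel is central in that finite group and contained in that finite group's commutator subgroup. -/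
theorem result : Cfsg.HasCyclicSchurMultiplier ↥Cfsg.Spor.J1 1 := by
  set e := CfsgLib.Coset.J1.equivSpor.symm with he
  have hfin : Finite Cfsg.Spor.J1 :=
    have := CfsgLib.J1Local.finite_P
    Finite.of_equiv _ CfsgLib.Coset.J1.equivSpor.toEquiv
  refine ⟨⟨Cfsg.Spor.J1, inferInstance, hfin, MonoidHom.id _, ⟨Function.surjective_id, ?_, ?_⟩, ?_⟩, ?_⟩
  · rw [MonoidHom.ker_id]; exact bot_le
  · rw [MonoidHom.ker_id]; exact bot_le
  · have h1 : Nat.card (MonoidHom.id Cfsg.Spor.J1).ker = 1 := by
      rw [MonoidHom.ker_id, Subgroup.card_bot]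
    have := (Nat.card_eq_one_iff_unique.mp h1).1
    exact ⟨⟨⟨fun _ => 1, fun _ => 1, fun _ => Subsingleton.elim _ _, fun _ => Subsingleton.elim _ _⟩,
      fun _ _ => Subsingleton.elim _ _⟩⟩
  · intro Γ _ _ σ hs
    have hk : (e.toMonoidHom.comp σ).ker = σ.ker := by
      ext g; simp
    have hs' : Cfsg.IsStemExtension (e.toMonoidHom.comp σ) :=
      ⟨e.surjective.comp hs.1, hk ▸ hs.2.1, hk ▸ hs.2.2⟩
    have h1 : Nat.card σ.ker = 1 := hk ▸ CfsgLib.J1Local.card_ker_eq hs'
    have := (Nat.card_eq_one_iff_unique.mp h1).1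
    exact ⟨1, fun y => ⟨1, Subsingleton.elim _ _⟩⟩

end Cfsg.Agent.S2039
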