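import Cfsg.Statements.S2040
import Cfsg.Agent.J2.Cover.Bound
import Cfsg.Agent.J2.Cover.Exists

set_option autoImplicit false
open Cfsg

namespace Cfsg.Agent.S2040

/-- The Schur multiplier of the Hall–Janko group J₂ (the icosian reflection group modulo its centre) is cyclic of order 2; here the Schur multiplier is described through stem extensions, as in the definitions: surjective homomorphisms onto the group from a finite group, whose kernel is central in that finite group and contained in that finite group's commutator subgroup. -/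
theorem result : Cfsg.HasCyclicSchurMultiplier Cfsg.Spor.J2 2 := by
  refine ⟨⟨Cfsg.Spor.twoJ2, inferInstance, ?_, QuotientGroup.mk' (Subgroup.center _), ⟨?_, ?_, ?_⟩, ?_⟩, ?_⟩
  · exact Nat.finite_of_card_ne_zero (by rw [CfsgLib.J2.card_twoJ2]; norm_num)
  · exact QuotientGroup.mk'_surjective _
  · rw [QuotientGroup.ker_mk']
  · rw [QuotientGroup.ker_mk']; exact CfsgLib.J2.center_le_commutator
  · have hc : Nat.card (QuotientGroup.mk' (Subgroup.center Cfsg.Spor.twoJ2)).ker = 2 := by
      rw [QuotientGroup.ker_mk', ← CfsgLib.J2.ker_eq_center, CfsgLib.J2.card_ker]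
    have : Fact (Nat.Prime 2) := ⟨Nat.prime_two⟩
    exact ⟨mulEquivOfPrimeCardEq (p := 2) hc (by simp)⟩
  · intro Γ _ _ σ hs
    have hk : (CfsgLib.J2.eJ.toMonoidHom.comp σ).ker = σ.ker := by
      ext g; simp
    have hs' : Cfsg.IsStemExtension (CfsgLib.J2.eJ.toMonoidHom.comp σ) :=
      ⟨CfsgLib.J2.eJ.surjective.comp hs.1, hk ▸ hs.2.1, hk ▸ hs.2.2⟩
    have h2 : Nat.card σ.ker ≤ 2 := hk ▸ CfsgLib.J2.Cover.card_ker_le hs'
    have h0 : 0 < Nat.card σ.ker := Nat.card_pos
    have : Fact (Nat.Prime 2) := ⟨Nat.prime_two⟩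
    rcases (show Nat.card σ.ker = 1 ∨ Nat.card σ.ker = 2 by omega) with h1 | h1
    · have := (Nat.card_eq_one_iff_unique.mp h1).1
      exact ⟨1, fun y => ⟨1, Subsingleton.elim _ _⟩⟩
    · exact ⟨(mulEquivOfPrimeCardEq (p := 2) (by simp) h1).toMonoidHom,
        (mulEquivOfPrimeCardEq (p := 2) (by simp) h1).surjective⟩

end Cfsg.Agent.S2040
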