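import Cfsg.Statements.S2044
import Cfsg.Agent.Co2Mult.Main

set_option autoImplicit false
open Cfsg

namespace Cfsg.Agent.S2044

/-- The Schur multiplier of the Conway group Co₂ (the stabiliser of a minimal vector of the rank-24 lattice) is trivial; here the Schur multiplier is described through stem extensions, as in the definitions: surjective homomorphisms onto the group from a finite group, whose kernel is central in that finite group and contained in that finite group's commutator subgroup. -/
theorem result : Cfsg.HasCyclicSchurMultiplier ↥Cfsg.Spor.Co2 1 := by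
  let e : Cfsg.Spor.Co2 ≃* MulAction.stabilizer Cfsg.Co0 Cfsg.Spor.leechU :=
    { toFun := fun g => ⟨⟨g.1, g.2.1⟩, g.2.2⟩
      invFun := fun g => ⟨g.1.1, g.1.2, g.2⟩
      left_inv := fun g => rfl
      right_inv := fun g => rfl
      map_mul' := fun g h => rfl }
  obtain ⟨g, hg⟩ := CfsgLib.Leech.min_transitive (v := Cfsg.Spor.leechU) (w := CfsgLib.OutConway.Two.U2)
    (by show Cfsg.sqNorm Cfsg.Spor.vecU = 32; decide +kernel)
    (by show Cfsg.sqNorm (CfsgLib.Leech.stdC none) = 32; decide +kernel)
  exact CfsgLib.CentralCert.hasSchur_of_equiv
    (e.trans (MulAction.stabilizerEquivStabilizer hg.symm)).symm CfsgLib.Co2Mult.multiplier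

end Cfsg.Agent.S2044
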