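import Cfsg.Statements.S2056
import Cfsg.Agent.Coset.HN.Simple
import Cfsg.Agent.Coset.HN.Cover
import Cfsg.Agent.HNMult.Main

set_option autoImplicit false
open Cfsg

namespace Cfsg.Agent.S2056

/-- The Schur multiplier of the Harada–Norton group (the finitely presented group of the definitions) is trivial; here the Schur multiplier is described through stem extensions, as in the definitions: surjective homomorphisms onto the group from a finite group, whose kernel is central in that finite group and contained in that finite group's commutator subgroup. -/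
theorem result : Cfsg.HasCyclicSchurMultiplier Cfsg.Spor.HN 1 := by
  haveI : Finite Cfsg.Spor.HN := Nat.finite_of_card_ne_zero (by
    rw [CfsgLib.Coset.HN.isHN.2]; norm_num)
  obtain ⟨K, hn, hi, hcov⟩ : ∃ K : Subgroup ↥CfsgLib.HNMult.three,
      K.Normal ∧ K.index = 2 ∧ Cfsg.IsNonsplitDoubleCover K Cfsg.Spor.HS := by
    rw [show CfsgLib.HNMult.three = CfsgLib.Coset.HN.HX from CfsgLib.Coset.HN.map_eq_HX]
    exact CfsgLib.Coset.HN.exists_cover_HX
  exact CfsgLib.HNMult.multiplier_of_facts K hn hi hcov

end Cfsg.Agent.S2056
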