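import Cfsg.Statements.S2065
import Cfsg.Agent.Coset.J1.Matrix
import Cfsg.Agent.J1Local.Out

set_option autoImplicit false
open Cfsg

namespace Cfsg.Agent.S2065

/-- The outer automorphism group of the Janko group J₁ (the group generated by two explicit 7 × 7 matrices over the integers modulo 11) is trivial: every automorphism is inner. -/
theorem result : Nat.card (Cfsg.Out ↥Cfsg.Spor.J1) = 1 := by
  set e := CfsgLib.Coset.J1.equivSpor with he
  have h : ∀ φ : MulAut Cfsg.Spor.J1, φ ∈ Cfsg.Inn Cfsg.Spor.J1 := by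
    intro φ
    obtain ⟨c, hc⟩ := CfsgLib.J1Local.inner ((e.trans φ).trans e.symm)
    refine ⟨e c, MulEquiv.ext fun y => ?_⟩
    have h1 : e.symm (φ (e (e.symm y))) = c * e.symm y * c⁻¹ := DFunLike.congr_fun hc (e.symm y)
    rw [e.apply_symm_apply] at h1
    have h2 := congrArg e h1
    rw [e.apply_symm_apply, map_mul, map_mul, e.apply_symm_apply, map_inv] at h2
    exact h2.symm
  have : Subsingleton (Cfsg.Out Cfsg.Spor.J1) :=
    QuotientGroup.subsingleton_iff.mpr (Subgroup.eq_top_iff' _ |>.mpr h)
  exact Nat.card_of_subsingleton 1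

end Cfsg.Agent.S2065
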