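import Cfsg.Statements.S2068
import Cfsg.Agent.Coset.J4.OutMain
import Cfsg.Agent.Coset.J4.OutEA
import Cfsg.Agent.Coset.J4.Instance

set_option autoImplicit false
open Cfsg

namespace Cfsg.Agent.S2068

/-- The outer automorphism group of the Janko group J₄ (the finitely presented group of the definitions) is trivial: every automorphism is inner. -/
theorem result : Nat.card (Cfsg.Out Cfsg.Spor.J4) = 1 := by
  have h : Inn Cfsg.Spor.J4 = ⊤ := eq_top_iff.mpr fun α _ =>
    CfsgLib.Coset.J4.OutJ.inner_of_rankBound CfsgLib.Coset.J4.Inst.u_ne_one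
      CfsgLib.Coset.J4.Inst.gens_closure (fun _ => CfsgLib.Coset.J4.OutEA.rank_bound) α
  refine Nat.card_eq_one_iff_unique.mpr ⟨⟨fun a b => ?_⟩, ⟨1⟩⟩
  obtain ⟨a, rfl⟩ := QuotientGroup.mk_surjective a
  obtain ⟨b, rfl⟩ := QuotientGroup.mk_surjective b
  exact QuotientGroup.eq.mpr (h ▸ Subgroup.mem_top _)

end Cfsg.Agent.S2068
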