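import Cfsg.Statements.S2070
import Cfsg.Agent.OutConway.Co2

set_option autoImplicit false
open Cfsg

namespace Cfsg.Agent.S2070

/-- The outer automorphism group of the Conway group Co₂ (the stabiliser of a minimal vector of the rank-24 lattice) is trivial: every automorphism is inner. -/
theorem result : Nat.card (Cfsg.Out ↥Cfsg.Spor.Co2) = 1 := by
  let e : Cfsg.Spor.Co2 ≃* MulAction.stabilizer Cfsg.Co0 Cfsg.Spor.leechU :=
    { toFun := fun g => ⟨⟨g.1, g.2.1⟩, g.2.2⟩
      invFun := fun g => ⟨g.1.1, g.1.2, g.2⟩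
      left_inv := fun g => rfl
      right_inv := fun g => rfl
      map_mul' := fun g h => rfl }
  obtain ⟨g, hg⟩ := CfsgLib.Leech.min_transitive (v := Cfsg.Spor.leechU) (w := CfsgLib.OutConway.Two.U2)
    (by show Cfsg.sqNorm Cfsg.Spor.vecU = 32; decide +kernel)
    (by show Cfsg.sqNorm (CfsgLib.Leech.stdC none) = 32; decide +kernel)
  rw [CfsgLib.OutConway.card_out_congr (e.trans (MulAction.stabilizerEquivStabilizer hg.symm))]
  exact CfsgLib.OutConway.Two.card_out

end Cfsg.Agent.S2070
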