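import Cfsg.Statements.S2087
import Cfsg.Agent.SLMult.PSL
import Cfsg.Agent.Classical.SmallPSL
import Mathlib.Algebra.Field.ULift

set_option autoImplicit false
open Cfsg

namespace Cfsg.Agent.S2087

universe u v

theorem congr_iso {Q Q' : Type u} [Group Q] [Group Q'] {A : Type v} [CommGroup A] (e : Q ≃* Q')
    (h : Cfsg.HasSchurMultiplier Q A) : Cfsg.HasSchurMultiplier Q' A := by
  have key : ∀ {R R' : Type u} [Group R] [Group R'] (i : R ≃* R') {Γ : Type u} [Group Γ] (σ : Γ →* R),
      (i.toMonoidHom.comp σ).ker = σ.ker := fun {_ _} _ _ i {_} _ σ => by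
    ext x
    simp only [MonoidHom.mem_ker, MonoidHom.comp_apply]
    exact i.map_eq_one_iff
  have stem : ∀ {R R' : Type u} [Group R] [Group R'] (i : R ≃* R') {Γ : Type u} [Group Γ] (σ : Γ →* R),
      Cfsg.IsStemExtension σ → Cfsg.IsStemExtension (i.toMonoidHom.comp σ) := fun {_ _} _ _ i {_} _ σ hσ =>
    ⟨i.surjective.comp hσ.1, (key i σ).le.trans hσ.2.1, (key i σ).le.trans hσ.2.2⟩
  obtain ⟨⟨Γ, _, _, σ, hσ, ⟨f⟩⟩, h2⟩ := h
  refine ⟨⟨Γ, inferInstance, inferInstance, e.toMonoidHom.comp σ, stem e σ hσ,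
    ⟨(MulEquiv.subgroupCongr (key e σ)).trans f⟩⟩, fun Δ _ _ τ hτ => ?_⟩
  obtain ⟨π, hπ⟩ := h2 Δ (e.symm.toMonoidHom.comp τ) (stem e.symm τ hτ)
  exact ⟨(MulEquiv.subgroupCongr (key e.symm τ)).toMonoidHom.comp π,
    (MulEquiv.subgroupCongr (key e.symm τ)).surjective.comp hπ⟩

/-- Exceptional Schur multiplier: over the field with 2 elements, PSL₃ has Schur multiplier cyclic of order 2 (here the Schur multiplier is described through stem extensions, as in the definitions). -/
theorem result {F : Type*} [Field F] [Fintype F] (hF : Fintype.card F = 2) : Cfsg.HasCyclicSchurMultiplier (Matrix.ProjectiveSpecialLinearGroup (Fin 3) F) 2 := by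
  classical
  haveI : Fact (Nat.Prime 7) := ⟨by norm_num⟩
  let K := ULift (ZMod 7)
  have hK : Fintype.card K = 7 := by simp [K]
  obtain ⟨e⟩ := CfsgLib.Linear.Small.nonempty_psl_two_seven (F := K) (K := F) hK hF
  refine congr_iso e ?_
  have h := CfsgLib.SLMult.hasCyclicSchurMultiplier_psl (F := K) (n := 2) (by norm_num)
    (fun _ => by rw [hK]; norm_num) (fun h => absurd h (by norm_num)) (fun h => absurd h (by norm_num))
  rw [hK] at h
  exact h

end Cfsg.Agent.S2087
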