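import Cfsg.Statements.S2096
import Cfsg.Agent.DMult.Multiplier

set_option autoImplicit false
open Cfsg

namespace Cfsg.Agent.S2096

/-- Schur multipliers of the even-dimensional orthogonal groups of plus type and odd rank: for odd l ≥ 5 and a field F with q elements, the Schur multiplier of PΩ⁺_2l(F) (for the form Σ xᵢyᵢ) is cyclic of order gcd(4, q^l − 1); here the Schur multiplier is described through stem extensions, as in the definitions. -/
theorem result {F : Type*} [Field F] [Fintype F] {q : ℕ} (hF : Fintype.card F = q) (l : ℕ) (hl : 5 ≤ l) (hodd : Odd l) : Cfsg.HasCyclicSchurMultiplier (Cfsg.POmega F (Cfsg.quadFormPlus l F)) (Nat.gcd 4 (q ^ l - 1)) := by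
  open CfsgLib.DMult in
  have h3 : 3 ≤ l := by omega
  have hq : Nat.card F = q := by rw [Nat.card_eq_fintype_card, hF]
  have hfor : ∀ g, IsCyclic (covP (F := F) h3).ker → Nat.card (covP (F := F) h3).ker = g →
      Nat.gcd 4 (q ^ l - 1) = g →
      Cfsg.HasCyclicSchurMultiplier (Cfsg.POmega F (Cfsg.quadFormPlus l F)) (Nat.gcd 4 (q ^ l - 1)) := by
    intro g hcy hcard hg
    have hne : NeZero g := ⟨by rw [← hcard]; exact Nat.card_pos.ne'⟩
    rw [hg]
    exact hasSchurMultiplier_pomega (by omega) (fun h => by omega)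
      (mulEquivOfCyclicCardEq (by rw [hcard, Nat.card_congr Multiplicative.toAdd, Nat.card_zmod]))
  by_cases h2 : (2 : F) = 0
  · have he : Even q := by
      rw [← hF, Nat.even_iff, ← FiniteField.even_card_iff_char_two]
      have : CharP F 2 := CharTwo.of_one_ne_zero_of_two_eq_zero one_ne_zero h2
      exact ringChar.eq F 2
    have hsub : Subsingleton (covP (F := F) h3).ker := by rw [covP_ker_two h3 h2]; infer_instance
    refine hfor 1 inferInstance (Nat.card_eq_one_iff_unique.2 ⟨hsub, ⟨1⟩⟩) ?_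
    have hpos : 1 ≤ q ^ l := Nat.one_le_pow _ _ (hF ▸ Fintype.card_pos)
    have hev : q ^ l % 2 = 0 := Nat.even_iff.1 (he.pow_of_ne_zero (by omega))
    have h2' : Nat.Coprime (2 ^ 2) (q ^ l - 1) :=
      (Nat.Prime.coprime_iff_not_dvd Nat.prime_two |>.2 (by omega)).pow_left 2
    exact h2'
  have hqodd : Odd q := by
    rw [← hF, Nat.odd_iff]
    refine FiniteField.odd_card_of_char_ne_two fun h => h2 ?_
    have := ringChar.Nat.cast_ringChar (R := F)
    rw [h] at this
    exact_mod_cast this
  have hpow : Odd (q ^ l) := hqodd.pow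
  rw [Nat.odd_iff] at hpow
  by_cases hsq : IsSquare (-1 : F)
  · obtain ⟨hcard, -, hcy⟩ := covP_ker_mem h3 h2 ((negIso_mem_iff_of_odd h3 hodd).2 hsq)
    refine hfor 4 (hcy hodd) hcard ?_
    have h4 := (isSquare_neg_one hq hodd hqodd).1 hsq
    exact Nat.gcd_eq_left (Nat.dvd_of_mod_eq_zero (by omega))
  · have hn : CfsgLib.Quad.negIso (CfsgLib.Quad.plusQ (F := F) l) ∉ Om F l :=
      fun h => hsq ((negIso_mem_iff_of_odd h3 hodd).1 h)
    have hk : Nat.card (covP (F := F) h3).ker = 2 := by
      rw [covP_ker_notMem h3 hn]; exact card_covOm_ker h3 h2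
    have : Fact (Nat.Prime 2) := ⟨Nat.prime_two⟩
    refine hfor 2 (isCyclic_of_prime_card hk) hk ?_
    have h4 : q ^ l % 4 = 3 := by
      have : q ^ l % 4 ≠ 1 := fun h => hsq ((isSquare_neg_one hq hodd hqodd).2 h)
      omega
    rw [Nat.gcd_rec, show (q ^ l - 1) % 4 = 2 by omega]
    rfl

end Cfsg.Agent.S2096
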