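import Cfsg.Statements.S2097
import Cfsg.Agent.DMult.Multiplier

set_option autoImplicit false
open Cfsg

namespace Cfsg.Agent.S2097

/-- Schur multipliers of the even-dimensional orthogonal groups of plus type and even rank: for even l ≥ 4 and a field F with q elements, (l, q) ≠ (4, 2), the Schur multiplier of PΩ⁺_2l(F) (for the form Σ xᵢyᵢ) is the product of two cyclic groups of order gcd(2, q^l − 1) (so trivial for q even and a four-group for q odd; here the Schur multiplier is described through stem extensions, as in the definitions). -/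
theorem result {F : Type*} [Field F] [Fintype F] {q : ℕ} (hF : Fintype.card F = q) (l : ℕ) (hl : 4 ≤ l) (heven : Even l) (hexc : ¬ (l = 4 ∧ q = 2)) : Cfsg.HasSchurMultiplier (Cfsg.POmega F (Cfsg.quadFormPlus l F)) (Multiplicative (ZMod (Nat.gcd 2 (q ^ l - 1)) × ZMod (Nat.gcd 2 (q ^ l - 1)))) := by
  open CfsgLib.DMult in
  have h3 : 3 ≤ l := by omega
  have hq : Nat.card F = q := by rw [Nat.card_eq_fintype_card, hF]
  have hexc' : ¬(l = 4 ∧ Nat.card F = 2) := fun h => hexc ⟨h.1, by rw [← hq, h.2]⟩
  by_cases h2 : (2 : F) = 0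
  · have he : Even q := by
      rw [← hF, Nat.even_iff, ← FiniteField.even_card_iff_char_two]
      have : CharP F 2 := CharTwo.of_one_ne_zero_of_two_eq_zero one_ne_zero h2
      exact ringChar.eq F 2
    have hpos : 1 ≤ q ^ l := Nat.one_le_pow _ _ (hF ▸ Fintype.card_pos)
    have hev : q ^ l % 2 = 0 := Nat.even_iff.1 (he.pow_of_ne_zero (by omega))
    have hg : Nat.gcd 2 (q ^ l - 1) = 1 :=
      (Nat.Prime.coprime_iff_not_dvd Nat.prime_two).2 (by omega)
    rw [hg]
    have hsub : Subsingleton (covP (F := F) h3).ker := by rw [covP_ker_two h3 h2]; infer_instance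
    exact hasSchurMultiplier_pomega hl hexc'
      ({ toEquiv := equivOfSubsingletonOfSubsingleton (fun _ => 1) (fun _ => 1)
         map_mul' := fun _ _ => Subsingleton.elim _ _ } :
        (covP (F := F) h3).ker ≃* Multiplicative (ZMod 1 × ZMod 1))
  have hqodd : Odd q := by
    rw [← hF, Nat.odd_iff]
    refine FiniteField.odd_card_of_char_ne_two fun h => h2 ?_
    have := ringChar.Nat.cast_ringChar (R := F)
    rw [h] at this
    exact_mod_cast this
  have hpow : q ^ l % 2 = 1 := Nat.odd_iff.1 hqodd.pow
  rw [Nat.gcd_eq_left (show 2 ∣ q ^ l - 1 by omega)]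
  obtain ⟨hcard, hinv, -⟩ := covP_ker_mem h3 h2 (negIso_mem_of_even h3 heven)
  have : IsKleinFour (covP (F := F) h3).ker :=
    { card_four := hcard
      exponent_two := by
        refine (Nat.prime_two.eq_one_or_self_of_dvd _ (Monoid.exponent_dvd_of_forall_pow_eq_one
          fun g => Subtype.ext ?_)).resolve_left fun h => ?_
        · rw [pow_two]; exact hinv heven g.1 g.2
        · have := Monoid.exp_eq_one_iff.1 h
          have := Nat.card_eq_one_iff_unique.2 ⟨this, ⟨(1 : (covP (F := F) h3).ker)⟩⟩
          omega }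
  obtain ⟨e⟩ := IsKleinFour.nonempty_mulEquiv (G₁ := (covP (F := F) h3).ker)
    (G₂ := Multiplicative (ZMod 2 × ZMod 2))
  exact hasSchurMultiplier_pomega hl hexc' e

end Cfsg.Agent.S2097
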