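import Cfsg.Statements.S2099
import Cfsg.Agent.DMult.MinusMult
import Cfsg.Agent.DMult.MinusThree
import Cfsg.Agent.DMult.MinusTwo

set_option autoImplicit false
open Cfsg

namespace Cfsg.Agent.S2099

/-- Schur multipliers of the even-dimensional orthogonal groups of minus type: for l ≥ 4 and a field F with q elements, the Schur multiplier of PΩ⁻_2l(F) (for the form Σ_{i<l−1} xᵢyᵢ + z₁² + a z₁z₂ + b z₂² with the binary part anisotropic) is cyclic of order gcd(4, q^l + 1); here the Schur multiplier is described through stem extensions, as in the definitions. -/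
theorem result {F : Type*} [Field F] [Fintype F] {q : ℕ} (hF : Fintype.card F = q) (l : ℕ) (hl : 4 ≤ l) (a b : F) (hab : ∀ z₁ z₂ : F, z₁ ^ 2 + a * z₁ * z₂ + b * z₂ ^ 2 = 0 → z₁ = 0 ∧ z₂ = 0) : Cfsg.HasCyclicSchurMultiplier (Cfsg.POmega F (Cfsg.quadFormMinus (l - 1) F a b)) (Nat.gcd 4 (q ^ l + 1)) := by
  obtain ⟨m, rfl⟩ : ∃ m, l = m + 1 := ⟨l - 1, by omega⟩
  rw [Nat.add_sub_cancel]
  have hm : 3 ≤ m := by omega
  have hq : Nat.card F = q := by rw [Nat.card_eq_fintype_card, hF]
  obtain ⟨p, n, hp, hn, hqp⟩ : ∃ p n : ℕ, p.Prime ∧ 0 < n ∧ q = p ^ n := by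
    obtain ⟨p, hchar⟩ := CharP.exists F
    haveI := hchar
    obtain ⟨n, hp, hn⟩ := FiniteField.card F p
    exact ⟨p, n, hp, n.pos, hF ▸ hn⟩
  by_cases h2 : (2 : F) = 0
  · haveI : CharP F 2 := CharTwo.of_one_ne_zero_of_two_eq_zero one_ne_zero h2
    have heven : Even q := by
      rw [Nat.even_iff, ← hF]
      exact FiniteField.even_card_iff_char_two.1 (ringChar.eq F 2)
    refine CfsgLib.DMult.hasSchurMultiplier_minus_two hm heven hab fun E _ _ π hker hrange hperf => ?_
    by_cases hexc : m = 3 ∧ Nat.card F = 2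
    · obtain ⟨rfl, hc⟩ := hexc
      exact CfsgLib.DMult.inj_minus_two_exc hc hab π hker hrange hperf
    · exact CfsgLib.DMult.inj_minus_two hm hexc hab π hker hrange hperf
  · have hodd : Odd q := by
      rcases Nat.even_or_odd q with he | ho
      · exfalso
        apply h2
        have hp2 : p = 2 := by
          rw [hqp, Nat.even_pow] at he
          exact (hp.eq_two_or_odd.resolve_right fun h => by
            have := Nat.even_iff.1 he.1; omega)
        have h := FiniteField.cast_card_eq_zero F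
        rw [hF, hqp, hp2, Nat.cast_pow, Nat.cast_ofNat] at h
        exact eq_zero_of_pow_eq_zero h
      · exact ho
    refine CfsgLib.DMult.hasSchurMultiplier_minus_odd hm hq hodd h2 hab
      fun E _ _ π hker hrange hperf => ?_
    by_cases h3 : m = 3 ∧ Nat.card F = 3
    · obtain ⟨rfl, hc⟩ := h3
      exact CfsgLib.DMult.ker_bound_minus_three hc hab π hker hrange hperf
    · refine CfsgLib.DMult.ker_bound_minus hm (fun hm3 => ?_) h2 hab π hker hrange hperf
      have h1 : 1 < Nat.card F := Finite.one_lt_card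
      have hne3 : Nat.card F ≠ 3 := fun h => h3 ⟨hm3, h⟩
      have : q % 2 = 1 := Nat.odd_iff.1 hodd
      omega

end Cfsg.Agent.S2099
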