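import Cfsg.Statements.S2103
import Cfsg.Agent.ChevMult.Finish
import Cfsg.Agent.ChevMult.TorF4
import Cfsg.Agent.ChevMult.SmallField
-- import your own Cfsg.Agent.* helpers here

set_option autoImplicit false
open Cfsg

namespace Cfsg.Agent.S2103

/-- Schur multipliers of the Chevalley groups of type F₄: over a finite field with more than 2 elements the Schur multiplier of F₄(q) is trivial (here the Schur multiplier is described through stem extensions, as in the definitions); q = 2 is exceptional. -/
theorem result {F : Type*} [Field F] [Fintype F] (hF : 3 ≤ Fintype.card F) : Cfsg.HasCyclicSchurMultiplier ↥(Cfsg.Lie.chevF4.group F) 1 := by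
  open CfsgLib.Chev CfsgLib.ChevMult in
  refine trivial_of_lift good_F4 (by simp) ⟨_, wits_F4⟩ uni_F4 fun Γ _ S => ?_
  open CfsgLib.ChevMult in
  by_cases h4 : 4 ≤ Fintype.card F
  · exact CentExt.exists_hom_tor (CentExt.torHyp S
      (fun n h1 (h2 : n ≤ 2) => exists_pow_ne_of_card h1 (by omega))
      (fun c hc => by simp [F4Tor.cfg] at hc; subst hc; simp)
      (fun h => Bool.noConfusion h) F4Tor.cfg_ok)
  · have h2F := two_ne_zero_of_card_three (F := F) (by omega)
    exact CentExt.exists_hom_tor (CentExt.torHyp S
      (fun n h1 (h2 : n ≤ 1) => exists_pow_ne_of_card h1 (by omega))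
      (fun c hc => by simp [F4Tor.cfg₁] at hc; rcases hc with rfl | rfl <;> simp [h2F])
      (fun h => Bool.noConfusion h) F4Tor.cfg₁_ok)

end Cfsg.Agent.S2103
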