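import Cfsg.Statements.S2105
import Cfsg.Agent.ChevMult.FinishCyclic
import Cfsg.Agent.ChevMult.OkE6
import Cfsg.Agent.ChevMult.CenterE6
-- import your own Cfsg.Agent.* helpers here

set_option autoImplicit false
open Cfsg

namespace Cfsg.Agent.S2105

/-- Schur multipliers of the (adjoint, simple) Chevalley groups of type E₆: over a field with q elements the Schur multiplier is cyclic of order gcd(3, q − 1) (here the Schur multiplier is described through stem extensions, as in the definitions). -/
theorem result {F : Type*} [Field F] [Fintype F] {q : ℕ} (hF : Fintype.card F = q) : Cfsg.HasCyclicSchurMultiplier ↥(Cfsg.Lie.chevE6.group F) (Nat.gcd 3 (q - 1)) := by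
  open CfsgLib.Chev CfsgLib.ChevMult in
  subst hF
  open CfsgLib.Chev CfsgLib.ChevMult in
  have hperf : commutator (Cfsg.Lie.chevE6.SteinbergCover F) = ⊤ :=
    commutator_steinbergCover _ (by simp) (fun h => absurd h (by simp [Cfsg.Lie.chevE6, Cfsg.Lie.chevB2, Cfsg.Lie.chevG2]))
  open CfsgLib.Chev CfsgLib.ChevMult in
  obtain ⟨e⟩ := scθ_ker_equiv (F := F) good_E6 good_E7 embE6 ⟨_, wits_E6⟩ (by simp) kerE6 kerE6_ok
  open CfsgLib.Chev CfsgLib.ChevMult in
  exact cyclic_of_lift good_E6 ⟨_, wits_E6⟩ hperf (by decide) e fun Γ _ S => S.exists_hom_pure E6Pure.ok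

end Cfsg.Agent.S2105
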