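import Cfsg.Statements.S2108
import Cfsg.Agent.TwMult.E6.Cover
import Cfsg.Agent.TwMult.E6.UPart

set_option autoImplicit false
open Cfsg

namespace Cfsg.Agent.S2108

/-- Schur multipliers of the twisted groups of type ²E₆: for a prime power q ≠ 2, with the group realised over the field with q² elements, the Schur multiplier of ²E₆(q) is cyclic of order gcd(3, q + 1) (here the Schur multiplier is described through stem extensions, as in the definitions); q = 2 is exceptional. -/
theorem result {K : Type*} [Field K] [Fintype K] {q : ℕ} (hq : IsPrimePow q) (hK : Fintype.card K = q ^ 2) (h2 : q ≠ 2) : Cfsg.HasCyclicSchurMultiplier ↥(Cfsg.Lie.twistedE6 K q) (Nat.gcd 3 (q + 1)) := by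
  obtain ⟨p, n, hp, hn, hqp⟩ := (isPrimePow_nat_iff q).1 hq
  have := Fact.mk hp
  have : CharP K p := charP_of_card_eq_prime_pow (f := n * 2)
    (by rw [hK, ← hqp, pow_mul])
  obtain ⟨C⟩ := CfsgLib.Chev.E6Tw.exists_ctx hq hK
  rw [← C.grp_eq]
  have hdvd : ∀ (Γ : Type _) [Group Γ] [Finite Γ] (σ : Γ →* C.Z.G1), Cfsg.IsStemExtension σ →
      Nat.card σ.ker ∣ Nat.gcd 3 (q + 1) := fun Γ _ _ σ hσ =>
    C.ker_card_dvd hn.ne' hqp.symm hσ (C.derived_inf_ker ⟨hσ.1, hσ.2.1⟩ h2)
  rcases (Nat.dvd_prime Nat.prime_three).1 (Nat.gcd_dvd_left 3 (q + 1)) with he | he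
  · rw [he]
    exact CfsgLib.StemExt.hasTrivialSchurMultiplier fun Γ _ _ σ hσ =>
      Subgroup.card_eq_one.1 (Nat.dvd_one.1 (he ▸ hdvd Γ σ hσ))
  · have := Fact.mk Nat.prime_three
    have h3 : p ≠ 3 := fun h => by
      subst h
      have h1 : 3 ∣ q + 1 := he ▸ Nat.gcd_dvd_right 3 (q + 1)
      have h0 : 3 ∣ q := hqp ▸ dvd_pow_self 3 hn.ne'
      exact Nat.not_succ_le_self _ (Nat.le_of_dvd one_pos ((Nat.dvd_add_right h0).1 h1) |>.trans (by norm_num))
    have := C.finite_cover.1
    have hstem := C.isStemExtension_coverHom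
    obtain ⟨z, hz⟩ := C.exists_ker_ne_one h3 (he ▸ Nat.gcd_dvd_right 3 (q + 1))
    have hcard : Nat.card C.coverHom.ker = 3 := by
      rcases (Nat.dvd_prime Nat.prime_three).1 (he ▸ hdvd _ C.coverHom hstem) with h | h
      · have := (Nat.card_eq_one_iff_unique.1 h).1
        exact absurd (Subsingleton.elim z 1) hz
      · exact h
    rw [he]
    refine CfsgLib.StemExt.hasCyclicSchurMultiplier C.coverHom hstem C.finite_cover.2.1 hcard
      fun Γ _ _ σ hσ => ⟨?_, he ▸ hdvd Γ σ hσ⟩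
    rcases (Nat.dvd_prime Nat.prime_three).1 (he ▸ hdvd Γ σ hσ) with h | h
    · have := (Nat.card_eq_one_iff_unique.1 h).1
      infer_instance
    · exact isCyclic_of_prime_card h

end Cfsg.Agent.S2108
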