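import Cfsg.Statements.S2110
import Cfsg.Agent.TwMult.D4Data
import Cfsg.Agent.TwMult.D4Derived

set_option autoImplicit false
open Cfsg

namespace Cfsg.Agent.S2110

/-- Schur multipliers of the triality-twisted groups ³D₄: for every prime power q, with the group realised over the field with q³ elements, the Schur multiplier of ³D₄(q) is trivial (here the Schur multiplier is described through stem extensions, as in the definitions). -/
theorem result {K : Type*} [Field K] [Fintype K] {q : ℕ} (hq : IsPrimePow q) (hK : Fintype.card K = q ^ 3) : Cfsg.HasCyclicSchurMultiplier ↥(Cfsg.Lie.twistedD4 K q) 1 := by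
  obtain ⟨p, n, hp, hn, hqp⟩ := (isPrimePow_nat_iff q).1 hq
  have := Fact.mk hp
  have : CharP K p := charP_of_card_eq_prime_pow (f := n * 3)
    (by rw [hK, ← hqp, pow_mul])
  obtain ⟨C⟩ := CfsgLib.Chev.D4Tw.exists_ctx hq hK
  rw [← C.grp_eq]
  refine CfsgLib.StemExt.hasTrivialSchurMultiplier fun Γ _ _ σ hσ => ?_
  exact C.ker_eq_bot_of_derived hn.ne' hqp.symm hσ
    (C.derived_inf_ker (p := p) (hqp ▸ dvd_pow_self p hn.ne') hσ.1 hσ.2.1)

end Cfsg.Agent.S2110
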