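import Cfsg.Statements.S2122
import Cfsg.Agent.ChevAut.OutCount
import Cfsg.Agent.Chev.OrdF4

set_option autoImplicit false
open Cfsg

namespace Cfsg.Agent.S2122

/-- Outer automorphisms of the Chevalley groups of type F₄: over a field with q = p^f (p prime) elements, the outer automorphism group of F₄(q) has order gcd(2, p) · f (field automorphisms, and in characteristic 2 also the exceptional graph automorphism). -/
theorem result {F : Type*} [Field F] [Fintype F] (p f : ℕ) [Fact p.Prime] [CharP F p] (hF : Fintype.card F = p ^ f) : Nat.card (Cfsg.Out ↥(Cfsg.Lie.chevF4.group F)) = Nat.gcd 2 p * f := by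
  classical
  have hD : Cfsg.Lie.chevF4 ∈ [Cfsg.Lie.chevG2, Cfsg.Lie.chevB2, Cfsg.Lie.chevD4, Cfsg.Lie.chevF4,
      Cfsg.Lie.chevE6, Cfsg.Lie.chevE7, Cfsg.Lie.chevE8] := by simp
  rw [CfsgLib.Chev.good_F4.card_out (by decide) hD CfsgLib.Chev.coef_F4,
    CfsgLib.Chev.good_F4.card_ker CfsgLib.Chev.F4Data.smith_ok,
    CfsgLib.Chev.card_ringEquiv hF]
  simp only [CfsgLib.Chev.F4Data.smith, List.map_cons, List.map_nil, List.prod_cons, List.prod_nil,
    Nat.gcd_one_right, one_mul, mul_one]
  rcases eq_or_ne p 2 with rfl | h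
  · rw [(CfsgLib.Chev.graphPerms_F4 F).1 (CharP.cast_eq_zero F 2), Nat.card_coe_set_eq,
      Set.ncard_pair (by decide +kernel)]
    rfl
  · have hco : Nat.gcd 2 p = 1 := (Nat.coprime_primes Nat.prime_two Fact.out).mpr h.symm
    rw [(CfsgLib.Chev.graphPerms_F4 F).2 ?_, Nat.card_coe_set_eq, Set.ncard_singleton, hco]
    intro h2
    exact h ((Nat.prime_dvd_prime_iff_eq Fact.out Nat.prime_two).mp
      ((CharP.cast_eq_zero_iff F p 2).mp h2))

end Cfsg.Agent.S2122
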