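import Cfsg.Statements.S2124
import Cfsg.Agent.ChevAut.OutCount
import Cfsg.Agent.Chev.OrdE7

set_option autoImplicit false
open Cfsg

namespace Cfsg.Agent.S2124

/-- Outer automorphisms of the (adjoint, simple) Chevalley groups of type E₇: over a field with q = p^f (p prime) elements, the outer automorphism group of E₇(q) has order gcd(2, q − 1) · f (diagonal and field automorphisms). -/
theorem result {F : Type*} [Field F] [Fintype F] (p f : ℕ) [Fact p.Prime] [CharP F p] (hF : Fintype.card F = p ^ f) : Nat.card (Cfsg.Out ↥(Cfsg.Lie.chevE7.group F)) = Nat.gcd 2 (p ^ f - 1) * f := by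
  classical
  have hD : Cfsg.Lie.chevE7 ∈ [Cfsg.Lie.chevG2, Cfsg.Lie.chevB2, Cfsg.Lie.chevD4, Cfsg.Lie.chevF4,
      Cfsg.Lie.chevE6, Cfsg.Lie.chevE7, Cfsg.Lie.chevE8] := by simp
  rw [CfsgLib.Chev.good_E7.card_out (by decide) hD CfsgLib.Chev.coef_E7,
    CfsgLib.Chev.good_E7.card_ker CfsgLib.Chev.E7Data.smith_ok,
    CfsgLib.Chev.card_ringEquiv hF]
  simp only [CfsgLib.Chev.E7Data.smith, List.map_cons, List.map_nil, List.prod_cons, List.prod_nil,
    Nat.gcd_one_right, one_mul, mul_one]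
  rw [CfsgLib.Chev.graphPerms_E7, Nat.card_coe_set_eq, Set.ncard_singleton, hF, Nat.gcd_comm,
    mul_one]

end Cfsg.Agent.S2124
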