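import Cfsg.Statements.S2125
import Cfsg.Agent.ChevAut.OutCount
import Cfsg.Agent.Chev.OrdE8

set_option autoImplicit false
open Cfsg

namespace Cfsg.Agent.S2125

/-- Outer automorphisms of the Chevalley groups of type E₈: over a field with p^f elements, p prime, the outer automorphism group of E₈(p^f) has order f (field automorphisms only). -/
theorem result {F : Type*} [Field F] [Fintype F] (p f : ℕ) [Fact p.Prime] [CharP F p] (hF : Fintype.card F = p ^ f) : Nat.card (Cfsg.Out ↥(Cfsg.Lie.chevE8.group F)) = f := by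
  classical
  have hD : Cfsg.Lie.chevE8 ∈ [Cfsg.Lie.chevG2, Cfsg.Lie.chevB2, Cfsg.Lie.chevD4, Cfsg.Lie.chevF4,
      Cfsg.Lie.chevE6, Cfsg.Lie.chevE7, Cfsg.Lie.chevE8] := by simp
  rw [CfsgLib.Chev.good_E8.card_out (by decide) hD CfsgLib.Chev.coef_E8,
    CfsgLib.Chev.good_E8.card_ker CfsgLib.Chev.E8Data.smith_ok,
    CfsgLib.Chev.card_ringEquiv hF]
  simp only [CfsgLib.Chev.E8Data.smith, List.map_cons, List.map_nil, List.prod_cons, List.prod_nil,
    Nat.gcd_one_right, one_mul, mul_one]
  rw [CfsgLib.Chev.graphPerms_E8, Nat.card_coe_set_eq, Set.ncard_singleton, one_mul]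

end Cfsg.Agent.S2125
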