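import Cfsg.Statements.S2134
import Cfsg.Agent.Coset.He.Inv2B

set_option autoImplicit false
open Cfsg

namespace Cfsg.Agent.S2134

open CfsgLib.Coset CfsgLib.Coset.He Matrix

/-- The vectors outside the invariant hyperplane. -/
def vec (v : Fin 16) : Fin 5 → ZMod 2 :=
  ![if v.val.testBit 0 then 1 else 0, 1, if v.val.testBit 1 then 1 else 0,
    if v.val.testBit 2 then 1 else 0, if v.val.testBit 3 then 1 else 0]

/-- The transvection, as a matrix. -/
def sMat : Matrix (Fin 5) (Fin 5) (ZMod 2) :=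
  Matrix.of fun i j => if i = j ∨ (i = 0 ∧ j = 1) then 1 else 0

theorem vec_injective : Function.Injective vec := by decide +kernel

theorem vec_of_one : ∀ x : Fin 5 → ZMod 2, x 1 = 1 → ∃ v, vec v = x := by decide +kernel

theorem vec_one : ∀ v, vec v 1 = 1 := by decide +kernel

theorem s_vec : ∀ v : Fin 16, sMat *ᵥ vec v = vec (Fin.ofNat 16 (v.val ^^^ 1)) := by decide +kernel

theorem ext_of_vec {A B : Matrix (Fin 5) (Fin 5) (ZMod 2)}
    (h : ∀ v, A *ᵥ vec v = B *ᵥ vec v) : A = B := by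
  have key : ∀ j : Fin 5, Pi.single j (1 : ZMod 2) = vec 0 ∨
      ∃ v, Pi.single j (1 : ZMod 2) = vec 0 + vec v := by decide +kernel
  refine Matrix.ext_of_mulVec_single fun j => ?_
  rcases key j with hj | ⟨v, hj⟩
  · rw [hj]; exact h 0
  · rw [hj, Matrix.mulVec_add, Matrix.mulVec_add, h, h]

/-- Permutations of the sixteen vectors induced by centralising matrices. -/
def H0 : Subgroup (Equiv.Perm (Fin 16)) where
  carrier := {p | ∃ A : Matrix.SpecialLinearGroup (Fin 5) (ZMod 2),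
    A.1 * sMat = sMat * A.1 ∧ ∀ v, A.1 *ᵥ vec v = vec (p v)}
  one_mem' := ⟨1, by simp, fun v => by simp⟩
  mul_mem' := by
    rintro p q ⟨A, hA, hAv⟩ ⟨B, hB, hBv⟩
    refine ⟨A * B, ?_, fun v => ?_⟩
    · rw [Matrix.SpecialLinearGroup.coe_mul, mul_assoc, hB, ← mul_assoc, hA, mul_assoc]
    · rw [Matrix.SpecialLinearGroup.coe_mul, ← Matrix.mulVec_mulVec, hBv, hAv,
        Equiv.Perm.mul_apply]
  inv_mem' := by
    rintro p ⟨A, hA, hAv⟩
    have hc : (A⁻¹).1 * A.1 = 1 := by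
      rw [← Matrix.SpecialLinearGroup.coe_mul, inv_mul_cancel, Matrix.SpecialLinearGroup.coe_one]
    have hc' : A.1 * (A⁻¹).1 = 1 := by
      rw [← Matrix.SpecialLinearGroup.coe_mul, mul_inv_cancel, Matrix.SpecialLinearGroup.coe_one]
    refine ⟨A⁻¹, ?_, fun v => ?_⟩
    · calc (A⁻¹).1 * sMat = (A⁻¹).1 * (sMat * A.1) * (A⁻¹).1 := by
            rw [← mul_assoc, mul_assoc _ A.1, hc', mul_one]
        _ = sMat * (A⁻¹).1 := by rw [← hA, ← mul_assoc, hc, one_mul]
    · have := hAv (p⁻¹ v)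
      rw [Equiv.Perm.coe_inv, Equiv.apply_symm_apply] at this
      rw [← this, Matrix.mulVec_mulVec, hc, Matrix.one_mulVec]
      rfl

/-- The matrices of the generators. -/
def gMat (k : Fin 4) : Matrix (Fin 5) (Fin 5) (ZMod 2) :=
  Matrix.of fun i j => (((Inv2B.mats.getD k []).getD i []).getD j 0 : ℕ)

theorem gMat_det : ∀ k, (gMat k).det = 1 := by decide +kernel

theorem gMat_comm : ∀ k, gMat k * sMat = sMat * gMat k := by decide +kernel

theorem gMat_vec : ∀ k v, gMat k *ᵥ vec v = vec (Inv2B.sigF k.val v) := by decide +kernel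

theorem act16_mem (c : Inv2B.Cz) : Inv2B.act16 c ∈ H0 := by
  have hc : c ∈ Subgroup.closure {x | x ∈ Inv2B.Lc} := Inv2B.card_Cz.2 ▸ Subgroup.mem_top c
  refine (Subgroup.closure_le (K := H0.comap Inv2B.act16)).mpr ?_ hc
  intro x hx
  obtain ⟨k, hk, rfl⟩ := List.getElem_of_mem hx
  refine ⟨⟨gMat ⟨k, hk⟩, gMat_det _⟩, gMat_comm _, fun v => ?_⟩
  rw [gMat_vec, ← Inv2B.act16_gen k hk v, fl, List.getD_eq_getElem _ _ hk]

theorem xor_spec {A : Matrix (Fin 5) (Fin 5) (ZMod 2)} {p : Equiv.Perm (Fin 16)}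
    (hA : A * sMat = sMat * A) (hv : ∀ v, A *ᵥ vec v = vec (p v)) (v : Fin 16) :
    p (Fin.ofNat 16 (v.val ^^^ 1)) = Fin.ofNat 16 ((p v).val ^^^ 1) := by
  refine vec_injective ?_
  rw [← s_vec, ← hv, ← s_vec, ← hv, Matrix.mulVec_mulVec, Matrix.mulVec_mulVec, hA]

theorem fix_seven {A : Matrix (Fin 5) (Fin 5) (ZMod 2)} {p : Equiv.Perm (Fin 16)}
    (hv : ∀ v, A *ᵥ vec v = vec (p v)) {a b c d : Fin 16} (h : vec a + vec b + vec c = vec d)
    (ha : p a = a) (hb : p b = b) (hc : p c = c) : p d = d := by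
  refine vec_injective ?_
  rw [← hv, ← h, Matrix.mulVec_add, Matrix.mulVec_add, hv, hv, hv, ha, hb, hc]

theorem perm_orbit_le {S : Subgroup (Equiv.Perm (Fin 16))} {β : Fin 16} (F : Finset (Fin 16))
    (hF : ∀ g ∈ S, ∀ x ∈ F, g x = x) (hβ : β ∉ F) :
    (orb (MonoidHom.id _) S β).ncard ≤ 16 - F.card := by
  have hsub : orb (MonoidHom.id _) S β ⊆ ((Fᶜ : Finset (Fin 16)) : Set (Fin 16)) := by
    rintro i ⟨g, hg, rfl⟩
    simp only [Finset.coe_compl, Set.mem_compl_iff, Finset.mem_coe, MonoidHom.id_apply]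
    intro h
    exact hβ (g.injective (hF g hg _ h) ▸ h)
  exact (Set.ncard_le_ncard hsub (Set.toFinite _)).trans
    (by rw [Set.ncard_coe_finset, Finset.card_compl, Fintype.card_fin])

theorem card_H0_le : Nat.card H0 ≤ 21504 := by
  let ι : Equiv.Perm (Fin 16) →* Equiv.Perm (Fin 16) := MonoidHom.id _
  let S1 := H0 ⊓ pstab ι 0
  let S2 := S1 ⊓ pstab ι 2
  let S3 := S2 ⊓ pstab ι 4
  let S4 := S3 ⊓ pstab ι 8
  have m1 : ∀ g ∈ S1, g 0 = 0 ∧ g 1 = 1 := by
    intro g hg
    obtain ⟨⟨A, hA, hv⟩, h0⟩ := hg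
    have h0' : g 0 = 0 := h0
    refine ⟨h0', ?_⟩
    have := xor_spec hA hv 0
    rw [h0'] at this
    exact this
  have m2 : ∀ g ∈ S2, ∀ x ∈ ({0, 1, 2, 3} : Finset (Fin 16)), g x = x := by
    intro g hg
    obtain ⟨h0, h1⟩ := m1 g hg.1
    have h2 : g 2 = 2 := hg.2
    obtain ⟨⟨A, -, hv⟩, -⟩ := hg.1
    have h3 : g 3 = 3 := fix_seven hv (a := 0) (b := 1) (c := 2) (by decide +kernel) h0 h1 h2
    intro x hx
    simp only [Finset.mem_insert, Finset.mem_singleton] at hx
    rcases hx with rfl | rfl | rfl | rfl <;> assumption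
  have m3 : ∀ g ∈ S3, ∀ x ∈ ({0, 1, 2, 3, 4, 5, 6, 7} : Finset (Fin 16)), g x = x := by
    intro g hg
    have h := m2 g hg.1
    have h0 := h 0 (by simp)
    have h1 := h 1 (by simp)
    have h2 := h 2 (by simp)
    have h3 := h 3 (by simp)
    have h4 : g 4 = 4 := hg.2
    obtain ⟨⟨A, -, hv⟩, -⟩ := hg.1.1
    have h5 : g 5 = 5 := fix_seven hv (a := 0) (b := 1) (c := 4) (by decide +kernel) h0 h1 h4
    have h6 : g 6 = 6 := fix_seven hv (a := 0) (b := 2) (c := 4) (by decide +kernel) h0 h2 h4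
    have h7 : g 7 = 7 := fix_seven hv (a := 0) (b := 3) (c := 4) (by decide +kernel) h0 h3 h4
    intro x hx
    simp only [Finset.mem_insert, Finset.mem_singleton] at hx
    rcases hx with rfl | rfl | rfl | rfl | rfl | rfl | rfl | rfl <;> assumption
  have m4 : S4 = ⊥ := by
    rw [eq_bot_iff]
    intro g hg
    have h := m3 g hg.1
    have h8 : g 8 = 8 := hg.2
    obtain ⟨⟨A, -, hv⟩, -⟩ := hg.1.1.1
    have h1 : A.1 = 1 := by
      have key : ∀ j : Fin 5, Pi.single j (1 : ZMod 2) = vec 0 ∨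
          ∃ v ∈ ([1, 2, 4, 8] : List (Fin 16)), Pi.single j (1 : ZMod 2) = vec 0 + vec v := by
        decide +kernel
      refine Matrix.ext_of_mulVec_single fun j => ?_
      rcases key j with hj | ⟨v, hmem, hj⟩
      · rw [hj, hv, h 0 (by simp), Matrix.one_mulVec]
      · have hfix : g v = v := by
          simp only [List.mem_cons, List.not_mem_nil, or_false] at hmem
          rcases hmem with rfl | rfl | rfl | rfl
          · exact h 1 (by simp)
          · exact h 2 (by simp)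
          · exact h 4 (by simp)
          · exact h8
        rw [hj, Matrix.mulVec_add, hv, hv, h 0 (by simp), hfix, Matrix.one_mulVec]
    rw [Subgroup.mem_bot]
    refine Equiv.ext fun v => vec_injective ?_
    rw [← hv, h1, Matrix.one_mulVec]
    rfl
  have e0 := card_orb_mul (ρ := ι) H0 0
  have e1 := card_orb_mul (ρ := ι) S1 2
  have e2 := card_orb_mul (ρ := ι) S2 4
  have e3 := card_orb_mul (ρ := ι) S3 8
  have o0 : (orb ι H0 0).ncard ≤ 16 :=
    (Set.ncard_le_ncard (Set.subset_univ _) (Set.toFinite _)).trans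
      (by rw [Set.ncard_univ, Nat.card_fin])
  have o1 : (orb ι S1 2).ncard ≤ 14 := perm_orbit_le {0, 1} (by
    intro g hg x hx
    simp only [Finset.mem_insert, Finset.mem_singleton] at hx
    rcases hx with rfl | rfl
    exacts [(m1 g hg).1, (m1 g hg).2]) (by decide)
  have o2 : (orb ι S2 4).ncard ≤ 12 := perm_orbit_le {0, 1, 2, 3} m2 (by decide)
  have o3 : (orb ι S3 8).ncard ≤ 8 := perm_orbit_le {0, 1, 2, 3, 4, 5, 6, 7} m3 (by decide)
  have e4 : Nat.card S4 = 1 := by rw [m4, Subgroup.card_bot]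
  rw [← e0, ← e1, ← e2, ← e3]
  calc (orb ι H0 0).ncard * ((orb ι S1 2).ncard * ((orb ι S2 4).ncard *
        ((orb ι S3 8).ncard * Nat.card S4))) ≤ 16 * (14 * (12 * (8 * 1))) := by
        rw [e4]; gcongr
    _ = 21504 := by norm_num

theorem sMat_eq {s : Matrix.SpecialLinearGroup (Fin 5) (ZMod 2)}
    (hs : (s : Matrix (Fin 5) (Fin 5) (ZMod 2)) = Matrix.transvection 0 1 1) : s.1 = sMat := by
  rw [hs]; decide +kernel

/-- A centralising matrix permutes the sixteen vectors. -/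
theorem exists_perm {A : Matrix.SpecialLinearGroup (Fin 5) (ZMod 2)}
    (hA : A.1 * sMat = sMat * A.1) : ∃ p ∈ H0, ∀ v, A.1 *ᵥ vec v = vec (p v) := by
  have hrow : ∀ j : Fin 5, j ≠ 1 → A.1 1 j = 0 := by
    intro j hj
    have h := congrFun (congrFun hA 0) j
    simp only [Matrix.mul_apply, Fin.sum_univ_five, sMat, Matrix.of_apply] at h
    fin_cases j <;> simp_all
  have h11 : A.1 1 1 = 1 := by
    rcases (show ∀ x : ZMod 2, x = 0 ∨ x = 1 by decide) (A.1 1 1) with h | h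
    · refine absurd (Matrix.det_eq_zero_of_row_eq_zero 1 fun j => ?_) (A.2.symm ▸ one_ne_zero)
      by_cases hj : j = 1
      · rw [hj, h]
      · exact hrow j hj
    · exact h
  have h1 : ∀ v, (A.1 *ᵥ vec v) 1 = 1 := by
    intro v
    simp only [Matrix.mulVec, dotProduct, Fin.sum_univ_five]
    rw [h11, hrow 0 (by decide), hrow 2 (by decide), hrow 3 (by decide), hrow 4 (by decide),
      vec_one]
    simp
  choose q hq using fun v => vec_of_one _ (h1 v)
  have hinj : Function.Injective q := by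
    intro a b hab
    refine vec_injective ?_
    have h := (hq a).symm.trans ((congrArg vec hab).trans (hq b))
    have := congrArg (fun x => (A⁻¹).1 *ᵥ x) h
    simpa [Matrix.mulVec_mulVec, Matrix.adjugate_mul, A.2] using this
  exact ⟨Equiv.ofBijective q hinj.bijective_of_finite, ⟨A, hA, fun v => (hq v).symm⟩,
    fun v => (hq v).symm⟩

theorem nonempty_equiv_H0 (s : Matrix.SpecialLinearGroup (Fin 5) (ZMod 2))
    (hs : (s : Matrix (Fin 5) (Fin 5) (ZMod 2)) = Matrix.transvection 0 1 1) :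
    Nonempty (H0 ≃* ↥(Subgroup.centralizer ({s} : Set (Matrix.SpecialLinearGroup (Fin 5) (ZMod 2))))) := by
  have hsm := sMat_eq hs
  have hmem : ∀ A : Matrix.SpecialLinearGroup (Fin 5) (ZMod 2),
      A ∈ Subgroup.centralizer {s} ↔ A.1 * sMat = sMat * A.1 := by
    intro A
    rw [Subgroup.mem_centralizer_singleton_iff, ← hsm, ← Matrix.SpecialLinearGroup.coe_mul,
      ← Matrix.SpecialLinearGroup.coe_mul]
    exact ⟨fun h => by rw [h], fun h => Subtype.ext h⟩
  choose φ hφs hφ using fun p : H0 => p.2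
  have huniq : ∀ (p : H0) (B : Matrix.SpecialLinearGroup (Fin 5) (ZMod 2)),
      (∀ v, B.1 *ᵥ vec v = vec (p.1 v)) → φ p = B :=
    fun p B hB => Subtype.ext (ext_of_vec fun v => (hφ p v).trans (hB v).symm)
  let θ : H0 →* ↥(Subgroup.centralizer ({s} : Set (Matrix.SpecialLinearGroup (Fin 5) (ZMod 2)))) :=
    MonoidHom.mk' (fun p => ⟨φ p, (hmem _).mpr (hφs p)⟩) fun p q => Subtype.ext (huniq _ _
      fun v => by
        show ((φ p).1 * (φ q).1) *ᵥ vec v = _
        rw [← Matrix.mulVec_mulVec, hφ, hφ]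
        rfl)
  refine ⟨MulEquiv.ofBijective θ ⟨fun p q h => ?_, fun A => ?_⟩⟩
  · have h' : φ p = φ q := congrArg Subtype.val h
    refine Subtype.ext (Equiv.ext fun v => vec_injective ?_)
    rw [← hφ, ← hφ, h']
  · obtain ⟨p, hp, hv⟩ := exists_perm ((hmem A.1).mp A.2)
    exact ⟨⟨p, hp⟩, Subtype.ext (huniq ⟨p, hp⟩ A.1 hv)⟩

theorem nonempty_equiv_Cz : Nonempty (Inv2B.Cz ≃* H0) := by
  have hinj : Function.Injective (Inv2B.act16.codRestrict H0 act16_mem) :=
    fun a b h => Inv2B.act16_injective (congrArg Subtype.val h)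
  have := Nat.card_le_card_of_injective _ hinj
  have hb : Function.Bijective (Inv2B.act16.codRestrict H0 act16_mem) :=
    (Nat.bijective_iff_injective_and_card _).mpr ⟨hinj, by
      have := Inv2B.card_Cz.1
      have := card_H0_le
      omega⟩
  exact ⟨MulEquiv.ofBijective _ hb⟩


/-- The Held group (presented on seven involutions, as in the definitions) has an involution whose centraliser is isomorphic to the centraliser of a transvection in SL(5, 2) (a group of shape 2^{1+6}:GL(3, 2)). -/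
theorem result (s : Matrix.SpecialLinearGroup (Fin 5) (ZMod 2)) (hs : (s : Matrix (Fin 5) (Fin 5) (ZMod 2)) = Matrix.transvection 0 1 1) : ∃ z : Cfsg.Spor.He, orderOf z = 2 ∧ Nonempty (↥(Subgroup.centralizer ({z} : Set Cfsg.Spor.He)) ≃* ↥(Subgroup.centralizer ({s} : Set (Matrix.SpecialLinearGroup (Fin 5) (ZMod 2))))) := by
  obtain ⟨e1⟩ := nonempty_equiv_Cz
  obtain ⟨e2⟩ := nonempty_equiv_H0 s hs
  exact ⟨Inv2B.Z, Inv2B.orderOf_Z, ⟨e1.trans e2⟩⟩

end Cfsg.Agent.S2134
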