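import Cfsg.Statements.S2140
import Cfsg.Agent.MinIdxPSL.Main

set_option autoImplicit false
open Cfsg

namespace Cfsg.Agent.S2140

/-- Minimal index of a proper subgroup of the linear groups: for n ≥ 3 and a field F with q elements, (n, q) ≠ (4, 2), every proper subgroup of PSL_n(F) has index at least (q^n − 1)/(q − 1), and some subgroup has exactly that index (the stabiliser of a point of the projective space). -/
theorem result {F : Type*} [Field F] [Fintype F] {q : ℕ} (hF : Fintype.card F = q) (n : ℕ) (hn : 3 ≤ n) (hexc : ¬ (n = 4 ∧ q = 2)) : (∀ H : Subgroup (Matrix.ProjectiveSpecialLinearGroup (Fin n) F), H ≠ ⊤ → (q ^ n - 1) / (q - 1) ≤ H.index) ∧ (∃ H : Subgroup (Matrix.ProjectiveSpecialLinearGroup (Fin n) F), H.index = (q ^ n - 1) / (q - 1)) := by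
  obtain ⟨m, rfl⟩ : ∃ m, n = m + 1 := ⟨n - 1, by omega⟩
  subst hF
  refine ⟨fun H hH => ?_, ?_⟩
  · rw [← Subgroup.index_comap_of_surjective H (QuotientGroup.mk'_surjective _)]
    refine CfsgLib.MinIdxPSL.points_le_index _ (fun h => hH ?_) (by omega)
      (fun h hq => hexc ⟨by omega, hq⟩)
    rw [← Subgroup.map_comap_eq_self_of_surjective (QuotientGroup.mk'_surjective _) H, h,
      Subgroup.map_top_of_surjective _ (QuotientGroup.mk'_surjective _)]
  · obtain ⟨P⟩ : Nonempty (Projectivization F (Fin (m + 1) → F)) :=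
      ⟨Projectivization.mk F (Pi.single 0 1) (fun h => by simpa using congrFun h 0)⟩
    refine ⟨(MulAction.stabilizer (Matrix.SpecialLinearGroup (Fin (m + 1)) F) P).map
      (QuotientGroup.mk' _), ?_⟩
    rw [Subgroup.index_map_eq _ (QuotientGroup.mk'_surjective _), CfsgLib.MinIdxPSL.index_point_stabilizer]
    rw [QuotientGroup.ker_mk', ← Projectivization.SL_mulAction_ker]
    intro g hg
    exact MulAction.mem_stabilizer_iff.2 (DFunLike.congr_fun (MonoidHom.mem_ker.1 hg) P)

end Cfsg.Agent.S2140
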