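import Cfsg.Statements.S2141
import Cfsg.Agent.MinIdxPSp.Conclude

set_option autoImplicit false
open Cfsg

namespace Cfsg.Agent.S2141

/-- Minimal index of a proper subgroup of the symplectic groups over fields with at least 3 elements: for m ≥ 2 and a field F with q ≥ 3 elements, (m, q) ≠ (2, 3), every proper subgroup of PSp_2m(F) has index at least (q^(2m) − 1)/(q − 1), and that index is attained. -/
theorem result {F : Type*} [Field F] [Fintype F] {q : ℕ} (hF : Fintype.card F = q) (m : ℕ) (hm : 2 ≤ m) (hq : 3 ≤ q) (hexc : ¬ (m = 2 ∧ q = 3)) : (∀ H : Subgroup (Cfsg.PSp m F), H ≠ ⊤ → (q ^ (2 * m) - 1) / (q - 1) ≤ H.index) ∧ (∃ H : Subgroup (Cfsg.PSp m F), H.index = (q ^ (2 * m) - 1) / (q - 1)) := by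
  subst hF
  have hcF : Fintype.card F = Nat.card F := (Nat.card_eq_fintype_card).symm
  rw [hcF] at hq hexc ⊢
  have hV : Nat.card (Fin m ⊕ Fin m → F) = Nat.card F ^ (2 * m) := by
    rw [Nat.card_fun, Nat.card_sum, Nat.card_fin, two_mul]
  have hsurj := QuotientGroup.mk'_surjective (Subgroup.center (Matrix.symplecticGroup (Fin m) F))
  refine ⟨fun H hH => ?_, ?_⟩
  · rw [← Subgroup.index_comap_of_surjective H hsurj]
    have hne : H.comap (QuotientGroup.mk' _) ≠ ⊤ := fun e => hH (by
      rw [← Subgroup.map_comap_eq_self_of_surjective hsurj H, e, Subgroup.map_top_of_surjective _ hsurj])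
    have h := CfsgLib.MinIdxPSp.index_bound hm hq hexc _ hne
    rw [hV] at h
    exact Nat.div_le_of_le_mul h
  · obtain ⟨K, hK, hidx⟩ := CfsgLib.MinIdxPSp.exists_index (F := F) hm
    refine ⟨K.map (QuotientGroup.mk' _), ?_⟩
    rw [Subgroup.index_map_eq K hsurj (by rw [QuotientGroup.ker_mk']; exact hK), hidx, hV]

end Cfsg.Agent.S2141
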