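import Cfsg.Statements.S2142
import Cfsg.Agent.MinIdxSp2.Main

set_option autoImplicit false
set_option linter.style.haveILetI false
open Cfsg

namespace Cfsg.Agent.S2142

/-- Minimal index of a proper subgroup of the symplectic groups over the field with 2 elements: for m ≥ 3, every proper subgroup of Sp_2m(2) has index at least 2^(m−1)(2^m − 1), and that index is attained. -/
theorem result {F : Type*} [Field F] [Fintype F] (hF : Fintype.card F = 2) (m : ℕ) (hm : 3 ≤ m) : (∀ H : Subgroup (Cfsg.PSp m F), H ≠ ⊤ → 2 ^ (m - 1) * (2 ^ m - 1) ≤ H.index) ∧ (∃ H : Subgroup (Cfsg.PSp m F), H.index = 2 ^ (m - 1) * (2 ^ m - 1)) := by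
  have hker : (QuotientGroup.mk' (Subgroup.center (Matrix.symplecticGroup (Fin m) F))).ker = ⊥ := by
    rw [QuotientGroup.ker_mk', CfsgLib.MinIdxSp2.center_eq_bot hF (by omega)]
  refine ⟨fun H hH => ?_, ?_⟩
  · have hsurj := QuotientGroup.mk'_surjective (Subgroup.center (Matrix.symplecticGroup (Fin m) F))
    rw [← Subgroup.index_comap_of_surjective H hsurj]
    have hne : H.comap (QuotientGroup.mk' _) ≠ ⊤ := fun e => hH (by
      rw [← Subgroup.map_comap_eq_self_of_surjective hsurj H, e, Subgroup.map_top_of_surjective _ hsurj])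
    rcases Nat.lt_or_ge m 4 with h4 | h4
    · obtain rfl : m = 3 := by omega
      haveI : CharP F 2 := CharTwo.of_one_ne_zero_of_two_eq_zero one_ne_zero (CfsgLib.MinIdxSp2.two_eq_zero hF)
      exact CfsgLib.MinIdxSp2.sp6_bound hF _ hne
    · exact CfsgLib.MinIdxSp2.bound_large hF h4 _ hne
  · obtain ⟨K, hK⟩ := CfsgLib.MinIdxSp2.exists_index (F := F) hF (m := m) (by omega)
    refine ⟨K.map (QuotientGroup.mk' _), ?_⟩
    rw [Subgroup.index_map_eq K (QuotientGroup.mk'_surjective _) (by rw [hker]; exact bot_le), hK]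

end Cfsg.Agent.S2142
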