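import Cfsg.Statements.S2143
import Cfsg.Agent.MinIdxOrth.Conclude
-- import your own Cfsg.Agent.* helpers here

set_option autoImplicit false
open Cfsg

namespace Cfsg.Agent.S2143

/-- Minimal index of a proper subgroup of the odd-dimensional orthogonal groups: for m ≥ 3 and a field F with q elements, q odd and q ≥ 5, every proper subgroup of PΩ_(2m+1)(F) (for the form x₀² + Σ xᵢyᵢ) has index at least (q^(2m) − 1)/(q − 1), and that index is attained. -/
theorem result {F : Type*} [Field F] [Fintype F] {q : ℕ} (hF : Fintype.card F = q) (hodd : Odd q) (h5 : 5 ≤ q) (m : ℕ) (hm : 3 ≤ m) : (∀ H : Subgroup (Cfsg.POmega F (Cfsg.quadFormOdd m F)), H ≠ ⊤ → (q ^ (2 * m) - 1) / (q - 1) ≤ H.index) ∧ (∃ H : Subgroup (Cfsg.POmega F (Cfsg.quadFormOdd m F)), H.index = (q ^ (2 * m) - 1) / (q - 1)) := by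
  classical
  obtain ⟨k, rfl⟩ : ∃ k, m = k + 1 := ⟨m - 1, by omega⟩
  subst hF
  have h2 : (2 : F) ≠ 0 := fun h => by
    have : CharP F 2 := CharTwo.of_one_ne_zero_of_two_eq_zero one_ne_zero h
    obtain ⟨n, -, hn⟩ := FiniteField.card F 2
    rw [hn] at hodd
    exact absurd hodd (Nat.not_odd_iff_even.2 (Nat.even_pow.2 ⟨even_two, n.pos.ne'⟩))
  have he := CfsgLib.Quad.oddSplit_apply (F := F) k
  have hdim : Module.finrank F (Unit ⊕ (Fin k ⊕ Fin k) → F) = 2 * k + 1 := by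
    rw [Module.finrank_fintype_fun_eq_card, Fintype.card_sum, Fintype.card_sum, Fintype.card_fin, Fintype.card_unit]
    omega
  have hnd := CfsgLib.Quad.oddQ_nondeg (F := F) h2 k
  have hn : 5 ≤ Module.finrank F (Unit ⊕ (Fin k ⊕ Fin k) → F) := by omega
  have hspt := CfsgLib.MinIdxOrth.card_spt_eq (CfsgLib.Quad.oddQ (F := F) (k + 1)) hn (CfsgLib.Quad.oddSplit (F := F) k) he
  have hz := CfsgLib.Quad.zeros_odd (F := F) Nat.card_eq_fintype_card (k + 1)
  set K := Nat.card (CfsgLib.Quad.SPt (CfsgLib.Quad.hypSum (CfsgLib.Quad.oddQ (F := F) k))) with hKdef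
  set q := Fintype.card F with hqdef
  have hK : (q ^ (2 * (k + 1)) - 1) / (q - 1) = K := by
    refine Nat.div_eq_of_eq_mul_left (by omega) ?_
    omega
  rw [hK, ← CfsgLib.Quad.oddQ_coe]
  exact ⟨fun H hH => CfsgLib.MinIdxOrth.bound_pOmega _ _ he
      (CfsgLib.MinIdxOrth.bound_spt hnd hn (fun _ => h2) (by omega)) H hH,
    CfsgLib.MinIdxOrth.exists_index_spt _ hnd hn _ he⟩

end Cfsg.Agent.S2143
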