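import Cfsg.Statements.S2144
import Cfsg.Agent.MinIdxOrth.Level
-- import your own Cfsg.Agent.* helpers here

set_option autoImplicit false
open Cfsg

namespace Cfsg.Agent.S2144

/-- Minimal index of a proper subgroup of the odd-dimensional orthogonal groups over the field with 3 elements: for m ≥ 3, every proper subgroup of PΩ_(2m+1)(3) (for the form x₀² + Σ xᵢyᵢ) has index at least 3^m(3^m − 1)/2, and that index is attained. -/
theorem result {F : Type*} [Field F] [Fintype F] (hF : Fintype.card F = 3) (m : ℕ) (hm : 3 ≤ m) : (∀ H : Subgroup (Cfsg.POmega F (Cfsg.quadFormOdd m F)), H ≠ ⊤ → 3 ^ m * (3 ^ m - 1) / 2 ≤ H.index) ∧ (∃ H : Subgroup (Cfsg.POmega F (Cfsg.quadFormOdd m F)), H.index = 3 ^ m * (3 ^ m - 1) / 2) := by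
  classical
  obtain ⟨n, rfl⟩ : ∃ n, m = n + 2 + 1 := ⟨m - 3, by omega⟩
  have h2 : (2 : F) ≠ 0 := fun h => by
    have h0 := Nat.cast_card_eq_zero F
    rw [hF] at h0
    exact one_ne_zero (show (1 : F) = 0 by push_cast at h0; linear_combination h0 - h)
  have he := CfsgLib.Quad.oddSplit_apply (F := F) (n + 2)
  have hdim : Module.finrank F (Unit ⊕ (Fin (n + 2) ⊕ Fin (n + 2)) → F) = 5 + n + n := by
    rw [Module.finrank_fintype_fun_eq_card, Fintype.card_sum, Fintype.card_sum, Fintype.card_fin, Fintype.card_unit]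
    omega
  set Q := CfsgLib.Quad.oddQ (F := F) (n + 2)
  have hnd := CfsgLib.Quad.oddQ_nondeg (F := F) h2 (n + 2)
  have hn : 5 ≤ Module.finrank F (Unit ⊕ (Fin (n + 2) ⊕ Fin (n + 2)) → F) := by omega
  have hspt := CfsgLib.MinIdxOrth.card_spt_eq (CfsgLib.Quad.oddQ (F := F) (n + 2 + 1)) hn
    (CfsgLib.Quad.oddSplit (F := F) (n + 2)) he
  have hz := CfsgLib.Quad.zeros_odd (F := F) Nat.card_eq_fintype_card (n + 2 + 1)
  have hne : (-1 : F) ≠ 0 := neg_ne_zero.2 one_ne_zero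
  have hlev : ∀ a : F, a ≠ 0 → 81 * (3 ^ n : ℤ) * 3 ^ n - 9 * 3 ^ n ≤ (CfsgLib.MinIdxOrth.nz Q a : ℤ) := by
    intro a ha
    obtain ⟨hm1, hp1⟩ := CfsgLib.MinIdxOrth.level_odd_three (F := F) hF (n + 2)
    rw [CfsgLib.MinIdxOrth.nz_eq_level ha]
    rcases CfsgLib.MinIdxOrth.three_levels hF ha with rfl | rfl
    · rw [hp1]
      simp only [pow_add]
      nlinarith [pow_pos (show (0 : ℤ) < 3 by norm_num) n]
    · rw [hm1]
      simp only [pow_add]
      linarith
  have hmin : (Nat.card {p // CfsgLib.Quad.hypSum Q p = (-1 : F)} : ℤ) =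
      729 * (3 ^ n : ℤ) * 3 ^ n - 27 * 3 ^ n := by
    rw [CfsgLib.MinDeg.Om.card_level_hypSum, (CfsgLib.MinIdxOrth.level_odd_three (F := F) hF (n + 2)).1, hF,
      Module.natCard_eq_pow_finrank (K := F), hdim, Nat.card_eq_fintype_card, hF]
    push_cast
    simp only [pow_add]
    ring
  set D := 3 ^ (n + 2 + 1) * (3 ^ (n + 2 + 1) - 1) / 2
  have hD : 2 * (D : ℤ) = 729 * (3 ^ n : ℤ) * 3 ^ n - 27 * 3 ^ n := by
    have he2 : 2 ∣ 3 ^ (n + 2 + 1) * (3 ^ (n + 2 + 1) - 1) :=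
      Dvd.dvd.mul_left (even_iff_two_dvd.1 (Nat.Odd.sub_odd (Odd.pow (by decide)) odd_one)) _
    rw [← Nat.cast_two, ← Nat.cast_mul, Nat.mul_div_cancel' he2, Nat.cast_mul, Nat.cast_sub (Nat.one_le_pow _ _ (by norm_num))]
    push_cast
    simp only [pow_add]
    ring
  have hP : (1 : ℤ) ≤ 3 ^ n := one_le_pow₀ (by norm_num)
  have hnum : CfsgLib.MinIdxOrth.Numeric Q D := by
    refine ⟨Or.inr hF, ?_, ?_, ?_, fun a ha => ?_, fun a ha => Or.inl ?_⟩
    · rw [hF] at hspt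
      rw [hz, hF, show 2 * (n + 2 + 1) = 6 + n + n from by omega] at hspt
      zify at hspt ⊢
      simp only [pow_add] at hspt
      push_cast at hspt
      linarith
    · rw [hF, hdim]
      zify
      simp only [pow_add]
      nlinarith
    · rcases Nat.eq_zero_or_pos n with rfl | hn0
      · left
        rw [hF, hdim]
        norm_num [D]
      · right; omega
    · rw [hF, hdim, show (3 - 1 : ℕ) = 2 from rfl]
      zify
      simp only [pow_add]
      rw [hD]
      linarith [hlev a ha]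
    · rw [hF, if_neg (by decide)]
      zify
      nlinarith [hlev a ha]
  obtain ⟨v₀, hv₀⟩ := CfsgLib.MinIdxOrth.exists_of_level_pos (Q := Q) (a := (-1 : F))
    (by zify; rw [hmin]; nlinarith)
  rw [← CfsgLib.Quad.oddQ_coe]
  refine ⟨fun H hH => CfsgLib.MinIdxOrth.bound_pOmega _ _ he
      (CfsgLib.MinIdxOrth.bound_of_numeric hnum hnd hn) H hH, ?_⟩
  obtain ⟨H, hH⟩ := CfsgLib.MinIdxOrth.exists_index_pair _ hnd hn hne hv₀ h2 _ he
  refine ⟨H, ?_⟩
  zify at hH ⊢
  linarith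

end Cfsg.Agent.S2144
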