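import Cfsg.Statements.S2145
import Cfsg.Agent.MinIdxOrth.Conclude
-- import your own Cfsg.Agent.* helpers here

set_option autoImplicit false
open Cfsg

namespace Cfsg.Agent.S2145

/-- Minimal index of a proper subgroup of the even-dimensional orthogonal groups of plus type: for m ≥ 4 and a field F with q ≥ 4 elements, every proper subgroup of PΩ⁺_2m(F) (for the form Σ xᵢyᵢ) has index at least (q^m − 1)(q^(m−1) + 1)/(q − 1), and that index is attained (the singular points). -/
theorem result {F : Type*} [Field F] [Fintype F] {q : ℕ} (hF : Fintype.card F = q) (hq : 4 ≤ q) (m : ℕ) (hm : 4 ≤ m) : (∀ H : Subgroup (Cfsg.POmega F (Cfsg.quadFormPlus m F)), H ≠ ⊤ → (q ^ m - 1) * (q ^ (m - 1) + 1) / (q - 1) ≤ H.index) ∧ (∃ H : Subgroup (Cfsg.POmega F (Cfsg.quadFormPlus m F)), H.index = (q ^ m - 1) * (q ^ (m - 1) + 1) / (q - 1)) := by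
  classical
  obtain ⟨k, rfl⟩ : ∃ k, m = k + 1 := ⟨m - 1, by omega⟩
  subst hF
  have he := CfsgLib.Quad.plusSplit_apply (F := F) k
  have hdim : Module.finrank F (Fin k ⊕ Fin k → F) = 2 * k := by
    rw [Module.finrank_fintype_fun_eq_card, Fintype.card_sum, Fintype.card_fin]; omega
  have hnd := CfsgLib.Quad.plusQ_nondeg (F := F) k
  have hn : 5 ≤ Module.finrank F (Fin k ⊕ Fin k → F) := by omega
  have hspt := CfsgLib.MinIdxOrth.card_spt_eq (CfsgLib.Quad.plusQ (F := F) (k + 1)) hn (CfsgLib.Quad.plusSplit (F := F) k) he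
  have hz := CfsgLib.Quad.zeros_plus (F := F) Nat.card_eq_fintype_card (k + 1)
  set K := Nat.card (CfsgLib.Quad.SPt (CfsgLib.Quad.hypSum (CfsgLib.Quad.plusQ (F := F) k))) with hKdef
  set q := Fintype.card F with hqdef
  have hK : (q ^ (k + 1) - 1) * (q ^ (k + 1 - 1) + 1) / (q - 1) = K := by
    refine Nat.div_eq_of_eq_mul_left (by omega) ?_
    rw [← hspt] at hz
    have h1 : 1 ≤ q := by omega
    have h2 : 1 ≤ q ^ (k + 1) := Nat.one_le_pow _ _ (by omega)
    rw [Nat.add_sub_cancel]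
    zify [h1, h2]
    push_cast [h1] at hz
    refine mul_left_cancel₀ (show (q : ℤ) ≠ 0 by exact_mod_cast (show q ≠ 0 by omega)) ?_
    linear_combination -hz
  rw [hK, ← CfsgLib.Quad.plusQ_coe]
  exact ⟨fun H hH => CfsgLib.MinIdxOrth.bound_pOmega _ _ he
      (CfsgLib.MinIdxOrth.bound_spt hnd hn (fun h => absurd h (by omega)) hq) H hH,
    CfsgLib.MinIdxOrth.exists_index_spt _ hnd hn _ he⟩

end Cfsg.Agent.S2145
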