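import Cfsg.Statements.S2147
import Cfsg.Agent.MinIdxOrth.Level
-- import your own Cfsg.Agent.* helpers here

set_option autoImplicit false
open Cfsg

namespace Cfsg.Agent.S2147

set_option maxHeartbeats 600000 in
/-- Minimal index of a proper subgroup of the even-dimensional orthogonal groups of minus type: for m ≥ 4 and a field F with q elements, every proper subgroup of PΩ⁻_2m(F) (for the form Σ_{i<m−1} xᵢyᵢ + z₁² + a z₁z₂ + b z₂² with anisotropic binary part) has index at least (q^m + 1)(q^(m−1) − 1)/(q − 1), and that index is attained. -/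
theorem result {F : Type*} [Field F] [Fintype F] {q : ℕ} (hF : Fintype.card F = q) (m : ℕ) (hm : 4 ≤ m) (a b : F) (hab : ∀ z₁ z₂ : F, z₁ ^ 2 + a * z₁ * z₂ + b * z₂ ^ 2 = 0 → z₁ = 0 ∧ z₂ = 0) : (∀ H : Subgroup (Cfsg.POmega F (Cfsg.quadFormMinus (m - 1) F a b)), H ≠ ⊤ → (q ^ m + 1) * (q ^ (m - 1) - 1) / (q - 1) ≤ H.index) ∧ (∃ H : Subgroup (Cfsg.POmega F (Cfsg.quadFormMinus (m - 1) F a b)), H.index = (q ^ m + 1) * (q ^ (m - 1) - 1) / (q - 1)) := by
  classical
  obtain ⟨n, rfl⟩ : ∃ n, m = n + 3 + 1 := ⟨m - 4, by omega⟩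
  subst hF
  have he := CfsgLib.Quad.minusSplit_apply (F := F) (n + 2) a b
  have hdim : Module.finrank F ((Fin (n + 2) ⊕ Fin (n + 2)) ⊕ Fin 2 → F) = 6 + n + n := by
    rw [Module.finrank_fintype_fun_eq_card, Fintype.card_sum, Fintype.card_sum, Fintype.card_fin, Fintype.card_fin]
    omega
  set Q := CfsgLib.Quad.minusQ (F := F) (n + 2) a b with hQdef
  have hnd := CfsgLib.Quad.minusQ_nondeg (F := F) hab (n + 2)
  have hn : 5 ≤ Module.finrank F ((Fin (n + 2) ⊕ Fin (n + 2)) ⊕ Fin 2 → F) := by omega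
  have hspt := CfsgLib.MinIdxOrth.card_spt_eq (CfsgLib.Quad.minusQ (F := F) (n + 2 + 1) a b) hn
    (CfsgLib.Quad.minusSplit (F := F) (n + 2)) fun v => he v
  have hz := CfsgLib.Quad.zeros_minus (F := F) Nat.card_eq_fintype_card hab (n + 2 + 1)
  have hgeo := CfsgLib.MinDeg.Om.geo_minus (F := F) hab (n + 2)
  set K := Nat.card (CfsgLib.Quad.SPt (CfsgLib.Quad.hypSum Q)) with hKdef
  set q := Fintype.card F with hqdef
  have hq2 : 2 ≤ q := Fintype.one_lt_card
  have hq0 : (q : ℤ) ≠ 0 := by exact_mod_cast (show q ≠ 0 by omega)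
  have hKq : (K : ℤ) * ((q : ℤ) - 1) = (q : ℤ) ^ (7 + n + n) - (q : ℤ) ^ (4 + n) + (q : ℤ) ^ (3 + n) - 1 := by
    rw [← hspt] at hz
    push_cast [show 1 ≤ q from by omega] at hz
    refine mul_left_cancel₀ hq0 ?_
    simp only [pow_add] at hz ⊢
    ring_nf at hz ⊢
    linarith
  have hK : (q ^ (n + 3 + 1) + 1) * (q ^ (n + 3 + 1 - 1) - 1) / (q - 1) = K := by
    refine Nat.div_eq_of_eq_mul_left (by omega) ?_
    zify [Nat.one_le_pow (n + 3 + 1 - 1) q (by omega), show 1 ≤ q from by omega]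
    rw [hKq, Nat.add_sub_cancel]
    simp only [pow_add]
    ring
  have hbound : CfsgLib.MinIdxOrth.Bound Q K := by
    rcases Nat.lt_or_ge q 4 with h4 | h4
    · have h23 : q = 2 ∨ q = 3 := by omega
      have hlev : ∀ c : F, c ≠ 0 → (CfsgLib.MinIdxOrth.nz Q c : ℤ) =
          (q : ℤ) ^ (5 + n + n) + (q : ℤ) ^ (2 + n) := by
        intro c hc
        rw [CfsgLib.MinIdxOrth.nz_eq_level hc, hgeo.level c hc, Nat.add_sub_cancel,
          show 2 * (n + 2 + 1) - 1 = 5 + n + n from by omega, show n + 2 = 2 + n from by omega]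
        ring
      have hP : (1 : ℤ) ≤ (q : ℤ) ^ n := one_le_pow₀ (by omega)
      refine CfsgLib.MinIdxOrth.bound_of_numeric (?_ : CfsgLib.MinIdxOrth.Numeric Q K) hnd hn
      refine ⟨h23.imp (fun h => ⟨h, by omega⟩) id, le_rfl, ?_, ?_, fun c hc => ?_, fun c hc => Or.inl ?_⟩
      · rw [hdim, ← hqdef]
        zify
        rcases h23 with h | h <;> rw [h] at hKq hP ⊢ <;> push_cast at hP <;> push_cast at hKq <;> simp only [pow_add] at hKq ⊢ <;>
          push_cast <;> nlinarith
      · rcases Nat.eq_zero_or_pos n with rfl | hn0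
        · left
          rw [hdim, ← hqdef]
          zify
          rcases h23 with h | h <;> rw [h] at hKq hP ⊢ <;> push_cast at hP <;> push_cast at hKq <;> norm_num at hKq ⊢ <;> linarith
        · right; omega
      · rw [hdim, ← hqdef]
        try rw [← hqdef]
        zify [show 1 ≤ q from by omega]
        rw [mul_comm ((q : ℤ) - 1) (K : ℤ), hKq, hlev c hc]
        simp only [pow_add]
        have h0 : (0 : ℤ) ≤ (q : ℤ) ^ 4 * (q : ℤ) ^ n := by positivity
        linarith
      · have hl := hlev c hc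
        rw [← hqdef]
        zify
        rcases h23 with h | h <;> rw [h] at hKq hl hP ⊢ <;> push_cast at hP <;> push_cast at hKq hl <;> simp only [pow_add] at hKq hl ⊢ <;>
          norm_num at hKq hl ⊢ <;> nlinarith
    · exact CfsgLib.MinIdxOrth.bound_spt hnd hn (fun h => absurd h (by omega)) h4
  rw [hK, Nat.add_sub_cancel, ← CfsgLib.Quad.minusQ_coe]
  exact ⟨fun H hH => CfsgLib.MinIdxOrth.bound_pOmega _ _ (fun v => he v) hbound H hH,
    CfsgLib.MinIdxOrth.exists_index_spt _ hnd hn _ fun v => he v⟩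

end Cfsg.Agent.S2147
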