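import Cfsg.Statements.S2149
import Cfsg.Agent.U35.Index
import Cfsg.Agent.U35.Model
import Cfsg.Agent.U35.Points
import Cfsg.Agent.SpecAbsorb.SUThree

set_option autoImplicit false
set_option linter.style.haveILetI false
open Cfsg

namespace Cfsg.Agent.S2149

/-- Minimal index of a proper subgroup of PSU₃(5), realised over the field with 25 elements: every proper subgroup has index at least 50, and that index is attained. -/
theorem result {F : Type*} [Field F] [Fintype F] (hF : Fintype.card F = 25) : (∀ H : Subgroup (Cfsg.PSU 3 F 5), H ≠ ⊤ → 50 ≤ H.index) ∧ (∃ H : Subgroup (Cfsg.PSU 3 F 5), H.index = 50) := by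
  classical
  have hF2 : Fintype.card F = 5 ^ 2 := by rw [hF]; norm_num
  have hF' : Nat.card F = 5 ^ 2 := by rw [Nat.card_eq_fintype_card, hF2]
  haveI : Fact (Nat.Prime 5) := ⟨by norm_num⟩
  haveI : Fact (Nat.Prime 7) := ⟨by norm_num⟩
  haveI : CharP F 5 := by
    obtain ⟨p, hc⟩ := CharP.exists F
    obtain ⟨k, hp, hk⟩ := FiniteField.card F p
    rw [hF] at hk
    have h5 : p = 5 := (Nat.prime_dvd_prime_iff_eq hp (by norm_num)).mp
      (hp.dvd_of_dvd_pow (n := 2) (by
        rw [show (5 : ℕ) ^ 2 = 25 by norm_num, hk]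
        exact dvd_pow_self p k.pos.ne'))
    exact h5 ▸ hc
  have hG := CfsgLib.U35.card_psu (F := F) hF'
  have hs : IsSimpleGroup (Cfsg.PSU 3 F 5) :=
    CfsgLib.Unitary.isSimpleGroup_PSU hF' (by norm_num) (by norm_num)
  obtain ⟨hTI, hn5⟩ := CfsgLib.U35.sylow_five (F := F) hF'
  have hA : ∀ H : Subgroup (Cfsg.PSU 3 F 5), H ≠ ⊤ → 50 ≤ H.index := by
    refine CfsgLib.U35.fifty_le_index hG hs hTI hn5 ?_
    intro g hg h hgh hh
    have hco : (orderOf g).Coprime (orderOf h) := by
      rw [hg]; rcases hh with e | e | e <;> rw [e] <;> norm_num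
    have hm := hgh.orderOf_mul_eq_mul_orderOf_of_coprime hco
    have hb := CfsgLib.SpecAbsorb.su3_bound (p := 5) (by norm_num) hF2 (g * h)
    rw [hm, hg] at hb
    rcases hh with e | e | e <;> rw [e] at hb <;> norm_num at hb
  refine ⟨hA, ?_⟩
  obtain ⟨r, hr⟩ : ∃ r : F, r ^ 2 = 2 := by
    have h2 : IsSquare (2 : F) := by
      rw [FiniteField.isSquare_iff (by rw [ringChar.eq F 5]; norm_num)
        (by rw [show (2 : F) = ((2 : ℕ) : F) by norm_num, Ne, CharP.cast_eq_zero_iff F 5]; norm_num),
        hF, show (2 : F) = ((2 : ℕ) : F) by norm_num, ← Nat.cast_pow, ← Nat.cast_one,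
        CharP.natCast_eq_natCast F 5]
      decide
    obtain ⟨r, hr⟩ := h2
    exact ⟨r, by rw [hr]; ring⟩
  obtain ⟨K, hK⟩ := CfsgLib.U35.exists_subgroup hr hF'
  set π := QuotientGroup.mk' (Subgroup.center (Cfsg.SU 3 F 5))
  refine ⟨K.map π, ?_⟩
  have hmul := Subgroup.card_mul_index (K.map π)
  rw [hG] at hmul
  have hle : Nat.card (K.map π) ≤ 7560 := by
    rw [← hK]
    exact Nat.le_of_dvd Nat.card_pos (K.card_map_dvd π)
  have hne : K.map π ≠ ⊤ := fun h => by
    rw [h, Subgroup.card_top, hG] at hle; omega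
  have h50 := hA _ hne
  have hlow : 2520 ≤ Nat.card (K.map π) := by
    have h1 : Nat.card (π.comp K.subtype).ker * Nat.card (π.comp K.subtype).range = 7560 := by
      rw [← hK, ← Subgroup.card_mul_index (π.comp K.subtype).ker, Subgroup.index_ker]
    have h2 : Nat.card (π.comp K.subtype).ker ≤ 3 := by
      have h3 : Nat.card (Subgroup.center (Cfsg.SU 3 F 5)) = 3 := by
        rw [CfsgLib.Unitary.card_center_SU hF' (by norm_num)]; rfl
      refine le_of_le_of_eq ?_ h3
      refine Nat.card_le_card_of_injective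
        (fun x => (⟨x.1.1, (QuotientGroup.eq_one_iff _).mp x.2⟩ : Subgroup.center (Cfsg.SU 3 F 5))) ?_
      intro a b hab
      have h := congrArg Subtype.val hab
      exact Subtype.ext (Subtype.ext h)
    have h4 : Nat.card (π.comp K.subtype).range = Nat.card (K.map π) := by
      rw [MonoidHom.range_comp, Subgroup.range_subtype]
    rw [h4] at h1
    nlinarith
  have hi : (K.map π).index ≤ 50 := by nlinarith
  omega

end Cfsg.Agent.S2149
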