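import Cfsg.Statements.S2150
import Cfsg.Agent.MinIdxPSU.FourThree
import Cfsg.Agent.MinIdxPSU.FourTwo
import Cfsg.Agent.MinIdxPSU.FourLines
import Cfsg.Agent.Classical.FortyPoints.Iso

set_option autoImplicit false
open Cfsg

namespace Cfsg.Agent.S2150

/-- Minimal index of a proper subgroup of the four-dimensional unitary groups: for a field F with q² elements, every proper subgroup of PSU₄(q) has index at least (q + 1)(q³ + 1), and that index is attained. -/
theorem result {F : Type*} [Field F] [Fintype F] (q : ℕ) (hF : Fintype.card F = q ^ 2) (hq : 2 ≤ q) : (∀ H : Subgroup (Cfsg.PSU 4 F q), H ≠ ⊤ → (q + 1) * (q ^ 3 + 1) ≤ H.index) ∧ (∃ H : Subgroup (Cfsg.PSU 4 F q), H.index = (q + 1) * (q ^ 3 + 1)) := by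
  have hF' : Nat.card F = q ^ 2 := by rw [Nat.card_eq_fintype_card, hF]
  refine ⟨fun H hH => ?_, CfsgLib.MinIdxPSU.exists_line_index hF'⟩
  rcases (show q = 2 ∨ q = 3 ∨ 4 ≤ q by omega) with rfl | rfl | h4
  · obtain ⟨e⟩ := CfsgLib.Linear.Forty.nonempty_iso (F := F) (K := ZMod 3) (by rw [hF]; norm_num) (ZMod.card 3)
    have h := CfsgLib.MinIdxPSU.SpThree.psp_bound (F := ZMod 3) (Nat.card_zmod 3) (H.map e.toMonoidHom)
      (fun h => hH (Subgroup.map_injective e.injective (h.trans (Subgroup.map_top_of_surjective e.toMonoidHom e.surjective).symm)))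
    rw [Subgroup.index_map_of_bijective (f := e.toMonoidHom) e.bijective] at h
    norm_num
    exact h
  · norm_num
    exact CfsgLib.MinIdxPSU.psu_four_three hF' H hH
  · exact CfsgLib.MinIdxPSU.psu_bound hF' (fun K hK => CfsgLib.MinIdxPSU.four_sharp hF' h4 K hK) hH

end Cfsg.Agent.S2150
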