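import Cfsg.Statements.S2151
import Cfsg.Agent.MinIdxU5.Main
-- import your own Cfsg.Agent.* helpers here

set_option autoImplicit false
open Cfsg

namespace Cfsg.Agent.S2151

/-- Minimal index of a proper subgroup of the unitary groups of odd dimension n ≥ 5: for a field F with q² elements, every proper subgroup of PSU_n(q) has index at least (q^n + 1)(q^(n−1) − 1)/(q² − 1), and that index is attained. -/
theorem result {F : Type*} [Field F] [Fintype F] (q : ℕ) (hF : Fintype.card F = q ^ 2) (hq : 2 ≤ q) (n : ℕ) (hn : 5 ≤ n) (hodd : Odd n) : (∀ H : Subgroup (Cfsg.PSU n F q), H ≠ ⊤ → (q ^ n + 1) * (q ^ (n - 1) - 1) / (q ^ 2 - 1) ≤ H.index) ∧ (∃ H : Subgroup (Cfsg.PSU n F q), H.index = (q ^ n + 1) * (q ^ (n - 1) - 1) / (q ^ 2 - 1)) := by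
  have hFc : Nat.card F = q ^ 2 := by rw [Nat.card_eq_fintype_card, hF]
  obtain ⟨k, rfl⟩ : ∃ k, n = k + 1 + 1 := ⟨n - 2, by omega⟩
  have hk : Odd k := by rcases hodd with ⟨r, hr⟩; exact ⟨r - 1, by omega⟩
  have hpos : 0 < q ^ 2 - 1 := CfsgLib.MinIdxU3.q_sq_sub_pos hFc
  rw [show (q ^ (k + 1 + 1) + 1) * (q ^ (k + 1 + 1 - 1) - 1) / (q ^ 2 - 1) =
      Nat.card (CfsgLib.Unitary.IsoPt (k + 1 + 1) F q) from
    Nat.div_eq_of_eq_mul_left hpos (CfsgLib.MinIdxPSU.odd_isoPt hFc hodd).symm]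
  exact ⟨fun H hH => CfsgLib.MinIdxPSU.psu_bound hFc
      (fun K hK => CfsgLib.MinIdxU5.odd_bound hFc (by omega) hk hK) hH,
    CfsgLib.MinIdxPSU.exists_psu_index hFc (by omega)⟩

end Cfsg.Agent.S2151
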