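import Cfsg.Statements.S2152
import Cfsg.Agent.MinIdxPSU.Conclude

set_option autoImplicit false
open Cfsg

namespace Cfsg.Agent.S2152

/-- Minimal index of a proper subgroup of the unitary groups of even dimension n ≥ 6: for a field F with q² elements, q ≥ 3, every proper subgroup of PSU_n(q) has index at least (q^n − 1)(q^(n−1) + 1)/(q² − 1), and that index is attained (the isotropic points). -/
theorem result {F : Type*} [Field F] [Fintype F] (q : ℕ) (hF : Fintype.card F = q ^ 2) (hq : 3 ≤ q) (n : ℕ) (hn : 6 ≤ n) (heven : Even n) : (∀ H : Subgroup (Cfsg.PSU n F q), H ≠ ⊤ → (q ^ n - 1) * (q ^ (n - 1) + 1) / (q ^ 2 - 1) ≤ H.index) ∧ (∃ H : Subgroup (Cfsg.PSU n F q), H.index = (q ^ n - 1) * (q ^ (n - 1) + 1) / (q ^ 2 - 1)) := by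
  have hF' : Nat.card F = q ^ 2 := by rw [Nat.card_eq_fintype_card, hF]
  obtain ⟨k, rfl⟩ : ∃ k, n = k + 1 + 1 := ⟨n - 2, by omega⟩
  have h2 : 0 < q ^ 2 - 1 := by
    have : 3 ^ 2 ≤ q ^ 2 := Nat.pow_le_pow_left hq 2
    omega
  have e : (q ^ (k + 1 + 1) - 1) * (q ^ (k + 1 + 1 - 1) + 1) / (q ^ 2 - 1) =
      Nat.card (CfsgLib.Unitary.IsoPt (k + 1 + 1) F q) := by
    rw [← CfsgLib.MinIdxPSU.even_isoPt hF' (by omega) heven, Nat.mul_div_cancel _ h2]
  rw [e]
  exact ⟨fun H hH => CfsgLib.MinIdxPSU.psu_bound hF'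
      (fun K hK => CfsgLib.MinIdxPSU.su_bound hF' (by omega) hq hK) hH,
    CfsgLib.MinIdxPSU.exists_psu_index hF' (by omega)⟩

end Cfsg.Agent.S2152
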