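import Cfsg.Statements.S2153
import Cfsg.Agent.MinIdxPSU.TwoEven
import Cfsg.Agent.MinIdxPSU.SixTwo

set_option autoImplicit false
open Cfsg

namespace Cfsg.Agent.S2153

/-- Minimal index of a proper subgroup of the unitary groups PSU_n(2) with n divisible by 6, realised over the field with 4 elements: every proper subgroup has index at least 2^(n−1)(2^n − 1)/3, and that index is attained. -/
theorem result {F : Type*} [Field F] [Fintype F] (hF : Fintype.card F = 4) (n : ℕ) (hn : 6 ∣ n) (hpos : 6 ≤ n) : (∀ H : Subgroup (Cfsg.PSU n F 2), H ≠ ⊤ → 2 ^ (n - 1) * (2 ^ n - 1) / 3 ≤ H.index) ∧ (∃ H : Subgroup (Cfsg.PSU n F 2), H.index = 2 ^ (n - 1) * (2 ^ n - 1) / 3) := by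
  have hF' : Nat.card F = 2 ^ 2 := by rw [Nat.card_eq_fintype_card, hF]; norm_num
  obtain ⟨m, rfl⟩ := hn
  have he : Even (6 * m) := ⟨3 * m, by ring⟩
  obtain ⟨H₀, hH₀⟩ := CfsgLib.MinIdxPSU.exists_aniso_index hF' (n := 6 * m) (by omega) ⟨2 * m, by ring⟩ he
  have hT : 2 ^ (6 * m - 1) * (2 ^ (6 * m) - 1) / 3 = H₀.index := by
    rw [← hH₀, Nat.mul_div_cancel_left _ (by norm_num)]
  rw [hT]
  refine ⟨fun H hH => ?_, H₀, rfl⟩
  rcases (show m = 1 ∨ 2 ≤ m by omega) with rfl | hm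
  · refine le_trans ?_ (CfsgLib.MinIdxPSU.psu_bound hF' (n := 6) (K := 672)
      (fun K hK => CfsgLib.MinIdxPSU.Six.six_bound hF' K hK) hH)
    norm_num at hH₀
    omega
  · obtain ⟨k, hk⟩ : ∃ k, 6 * m = k + 1 + 1 := ⟨6 * m - 2, by omega⟩
    have h12 : 12 ≤ 6 * m := by omega
    generalize 6 * m = n at *
    subst hk
    refine CfsgLib.MinIdxPSU.psu_bound hF' (n := k + 1 + 1) (fun K hK => CfsgLib.MinIdxPSU.two_large hF' ?_ ?_ ?_ hK) hH
    · omega
    · obtain ⟨a, ha⟩ := he; exact ⟨a - 1, by omega⟩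
    · rw [hH₀]; rfl

end Cfsg.Agent.S2153
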