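import Cfsg.Statements.S2155
import Cfsg.Agent.Chev.RadCent
import Cfsg.Agent.Comp.LocalLayer

set_option autoImplicit false
open Cfsg

namespace Cfsg.Agent.S2155

/-- In a Chevalley group of type G₂, B₂, D₄, F₄, E₆, E₇ or E₈ over a finite field of characteristic p (for types G₂ and B₂ the field is assumed to have at least 3 elements, so that the group is simple), the generalized Fitting subgroup of every proper standard parabolic subgroup P_J is a p-group (P_J is p-constrained with trivial largest normal subgroup of order prime to p). -/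
theorem result {F : Type*} [Field F] [Fintype F] (p : ℕ) [Fact p.Prime] [CharP F p] (D : Cfsg.Lie.ChevalleyDatum) (hD : D ∈ [Cfsg.Lie.chevG2, Cfsg.Lie.chevB2, Cfsg.Lie.chevD4, Cfsg.Lie.chevF4, Cfsg.Lie.chevE6, Cfsg.Lie.chevE7, Cfsg.Lie.chevE8]) (hq : (D = Cfsg.Lie.chevG2 ∨ D = Cfsg.Lie.chevB2) → 3 ≤ Fintype.card F) (J : Set ℕ) (hJ : ∃ i, i < D.rank ∧ i ∉ J) : IsPGroup p ↥(Cfsg.generalizedFittingSubgroup ↥(D.parabolicSubgroup F J)) := by
  open CfsgLib CfsgLib.Chev in
  obtain ⟨T, G, hk⟩ : ∃ T : Chev.Tab D, T.Good ∧ T.chkSpan = true := by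
    simp only [List.mem_cons, List.not_mem_nil, or_false] at hD
    rcases hD with rfl | rfl | rfl | rfl | rfl | rfl | rfl
    exacts [⟨_, good_G2, by decide +kernel⟩, ⟨_, good_B2, by decide +kernel⟩,
      ⟨_, good_D4, by decide +kernel⟩, ⟨_, good_F4, by decide +kernel⟩,
      ⟨_, good_E6, by decide +kernel⟩, ⟨_, good_E7, by decide +kernel⟩,
      ⟨_, good_E8, by decide +kernel⟩]
  set P := D.parabolicSubgroup F J
  have hPG : P ≤ D.group F := (G.normalizer_rad J).ge.trans inf_le_right
  have hU : IsPGroup p ((D.posUnipotent F).subgroupOf P) := (G.isPGroup_pos p).comap_subtype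
  have hQU : D.unipotentRadical F J ≤ D.posUnipotent F := by
    rw [G.rad_eq, G.posUnipotent_eq]
    exact G.US_mono fun s hs => hs.1
  have hQP : D.unipotentRadical F J ≤ P := hQU.trans ((CfsgLib.Chev.Tab.Good.pos_le_borel G).trans le_sup_left)
  have hQn : ((D.unipotentRadical F J).subgroupOf P).Normal :=
    (Subgroup.normal_subgroupOf_iff_le_normalizer hQP).mpr (G.rad_normal J)
  have hQ : (D.unipotentRadical F J).subgroupOf P ≤ Cfsg.pCore p P :=
    CfsgLib.Solvable.le_pCore p hQn (hU.to_le fun x hx => hQU hx)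
  refine CfsgLib.LocalLayer.isPGroup_Fstar_iff.mpr
    (CfsgLib.Solvable.le_pCore p inferInstance (hU.to_le fun x hx => ?_))
  refine G.cent_rad_le hJ hk (hPG x.2) (Subgroup.mem_centralizer_iff.mpr fun y hy => ?_)
  exact congrArg Subtype.val (Subgroup.mem_centralizer_iff.mp hx ⟨y, hQP hy⟩ (hQ hy))

end Cfsg.Agent.S2155
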