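import Cfsg.Statements.S2158
import Cfsg.Agent.S2157
import Cfsg.Agent.Chev.Levi

set_option autoImplicit false
open Cfsg

namespace Cfsg.Agent.S2158

/-- In a Chevalley group of type G₂, B₂, D₄, F₄, E₆, E₇ or E₈ over any field, an element of the group whose matrix is the diagonal matrix `ĥ(χ)` of a character `χ` of the root lattice already lies in the diagonal subgroup H (the non-trivial inclusion of the statement that the group meets the group of all such diagonal matrices in H). -/
theorem result {F : Type*} [Field F] (D : Cfsg.Lie.ChevalleyDatum) (hD : D ∈ [Cfsg.Lie.chevG2, Cfsg.Lie.chevB2, Cfsg.Lie.chevD4, Cfsg.Lie.chevF4, Cfsg.Lie.chevE6, Cfsg.Lie.chevE7, Cfsg.Lie.chevE8]) (χ : ℕ → Fˣ) (hχ : D.IsRootCharacter χ) (g : GL D.Idx F) (hg : g ∈ D.group F)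
    (hgχ : (g : Matrix D.Idx D.Idx F) = D.charDiag F χ) : g ∈ D.diagonalSubgroup F := by
  obtain ⟨T, G⟩ := CfsgLib.Chev.exists_good hD
  open CfsgLib.Chev in
  have hdd : ∀ ψ : ℕ → Fˣ, D.charDiag F ψ * D.charDiag F (fun r => (ψ r)⁻¹) = 1 := fun ψ => by
    rw [Cfsg.Lie.ChevalleyDatum.charDiag, Cfsg.Lie.ChevalleyDatum.charDiag, Matrix.diagonal_mul_diagonal,
      ← Matrix.diagonal_one]
    refine congrArg Matrix.diagonal (funext fun b => ?_)
    rcases b with j | s <;> simp
  have hinv : ((g⁻¹ : GL D.Idx F) : Matrix D.Idx D.Idx F) = D.charDiag F (fun r => (χ r)⁻¹) :=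
    Units.inv_eq_of_mul_eq_one_right (by rw [hgχ, hdd])
  have hconj : ∀ r, r < D.nroots → ∀ t : F,
      g * G.full.x r t * g⁻¹ = G.full.x r ((χ r : F) * t) := fun r hr t => by
    apply Units.ext
    rw [Units.val_mul, Units.val_mul, hgχ, hinv, G.full.coe_x', G.full.coe_x',
      S2157.result D hD χ hχ r hr t]
  -- `g` normalises the unipotent radical attached to `∅`, so lies in the Borel subgroup
  have hN : g ∈ Subgroup.normalizer (D.unipotentRadical F ∅ : Set (GL D.Idx F)) := by
    rw [Subgroup.mem_normalizer_iff]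
    intro x
    have key : ∀ (ψ : ℕ → F) (a : GL D.Idx F), (∀ r, r < D.nroots → ∀ t : F,
        a * G.full.x r t * a⁻¹ = G.full.x r (ψ r * t)) →
        ∀ y ∈ D.unipotentRadical F ∅, a * y * a⁻¹ ∈ D.unipotentRadical F ∅ := by
      intro ψ a ha y hy
      have hle : D.unipotentRadical F ∅ ≤
          (D.unipotentRadical F ∅).comap (MulAut.conj a).toMonoidHom := by
        refine (Subgroup.closure_le _).mpr ?_
        rintro z ⟨r, t, hr, hJ, hz⟩
        obtain rfl := G.full.eq_x.mp hz
        show a * G.full.x r t * a⁻¹ ∈ D.unipotentRadical F ∅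
        rw [ha r hr.1]
        exact Subgroup.subset_closure ⟨r, _, hr, hJ, G.full.coe_x' r _⟩
      exact hle hy
    refine ⟨key (fun r => (χ r : F)) g hconj x, fun hx => ?_⟩
    have h := key (fun r => ((χ r)⁻¹ : Fˣ)) g⁻¹ (fun r hr t => by
      conv_lhs => rw [show t = (χ r : F) * (((χ r)⁻¹ : Fˣ) * t) by simp]
      rw [← hconj r hr]
      group) _ hx
    simpa [mul_assoc] using h
  have hB : g ∈ D.borelSubgroup F := by
    have h := (G.normalizer_rad ∅).le (Subgroup.mem_inf.mpr ⟨hN, hg⟩)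
    refine (sup_le le_rfl ?_ : D.parabolicSubgroup F ∅ ≤ D.borelSubgroup F) h
    exact (Subgroup.closure_le _).mpr fun z ⟨j, hj, _⟩ => absurd hj (Set.notMem_empty j)
  obtain ⟨u, hu, c, rfl⟩ := G.mem_borel.mp hB
  suffices u = 1 by
    rw [this, one_mul, G.full.diagonal_eq_range]
    exact ⟨c, rfl⟩
  apply Units.ext
  rw [Units.val_one]
  ext a b
  rcases eq_or_ne a b with rfl | hab
  · exact G.grUni_pos hu a a le_rfl
  rw [Matrix.one_apply_ne hab]
  have h := congrFun (congrFun hgχ a) b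
  rw [G.mul_hT_apply, Cfsg.Lie.ChevalleyDatum.charDiag, Matrix.diagonal_apply_ne _ hab,
    mul_eq_zero] at h
  refine h.resolve_right ?_
  rw [T.coe_hT, Matrix.diagonal_apply_eq]
  rcases b with j | s <;> simp

end Cfsg.Agent.S2158
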