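import Cfsg.Statements.S2160
import Cfsg.Agent.Chev.GoodAll
import Cfsg.Agent.Chev.SimpleGen

set_option autoImplicit false
open Cfsg

namespace Cfsg.Agent.S2160

/-- In a Chevalley group of type G₂, B₂, D₄, F₄, E₆, E₇ or E₈ over a finite field, every field automorphism commutes with every graph automorphism. -/
theorem result {F : Type*} [Field F] [Finite F] (D : Cfsg.Lie.ChevalleyDatum) (hD : D ∈ [Cfsg.Lie.chevG2, Cfsg.Lie.chevB2, Cfsg.Lie.chevD4, Cfsg.Lie.chevF4, Cfsg.Lie.chevE6, Cfsg.Lie.chevE7, Cfsg.Lie.chevE8]) (f g : ↥(D.group F) ≃* ↥(D.group F))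
    (hf : D.IsFieldAut f) (hg : D.IsGraphAut g) (y : ↥(D.group F)) : f (g y) = g (f y) := by
  obtain ⟨T, G⟩ := CfsgLib.Chev.exists_good hD
  obtain ⟨σ, hσ⟩ := hf
  obtain ⟨π, -, hπ⟩ := hg
  have key : f.toMonoidHom.comp g.toMonoidHom = g.toMonoidHom.comp f.toMonoidHom := by
    refine G.hom_ext_simple fun z i t hz => Subtype.ext (Units.ext ?_)
    have hlt := fun j : Fin D.rank => G.full.simple_lt j.isLt
    show ((f (g z) : GL D.Idx F) : Matrix D.Idx D.Idx F) =
      ((g (f z) : GL D.Idx F) : Matrix D.Idx D.Idx F)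
    have hneg : ∀ j : Fin D.rank, D.neg (D.simple j) < D.nroots := fun j => by
      rw [G.full.cert.neg_eq (hlt j)]
      exact CfsgLib.Chev.Tab.Cert.negR_lt (D := D) (hlt j)
    rcases hz with hz | hz
    · rw [hσ _ _ _ (hlt _) ((hπ z i t).1 hz),
        (hπ (f z) i (σ t)).1 (hσ z _ t (hlt _) hz), map_pow]
    · rw [hσ _ _ _ (hneg _) ((hπ z i t).2 hz),
        (hπ (f z) i (σ t)).2 (hσ z _ t (hneg _) hz), map_pow]
  exact DFunLike.congr_fun key y

end Cfsg.Agent.S2160
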