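import Cfsg.Statements.S2162
import Cfsg.Agent.Involutions2.NormalForm

set_option autoImplicit false
open Cfsg

namespace Cfsg.Agent.S2162

/-- Conjugacy of involutions in the special linear group over a finite field of characteristic two, in dimension at least 3: two elements of order 2 of SL_n(F) are conjugate in SL_n(F) exactly when the matrices a − 1 and b − 1 have the same rank (the rank of a − 1 is the dimension of the commutator space [V, a]). -/
theorem result {F : Type*} [Field F] [Fintype F] [CharP F 2] {n : ℕ} (hn : 3 ≤ n) (a b : Matrix.SpecialLinearGroup (Fin n) F) (ha : orderOf a = 2) (hb : orderOf b = 2) :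
    IsConj a b ↔ ((a : Matrix (Fin n) (Fin n) F) - 1).rank = ((b : Matrix (Fin n) (Fin n) F) - 1).rank := by
  classical
  have hsq : ∀ x : Matrix.SpecialLinearGroup (Fin n) F, orderOf x = 2 →
      ((x : Matrix (Fin n) (Fin n) F) - 1) * ((x : Matrix (Fin n) (Fin n) F) - 1) = 0 ∧
        (x : Matrix (Fin n) (Fin n) F) - 1 ≠ 0 := by
    intro x hx
    have h := pow_orderOf_eq_one x
    rw [hx, pow_two] at h
    have h' : (x : Matrix (Fin n) (Fin n) F) * (x : Matrix (Fin n) (Fin n) F) = 1 := by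
      rw [← Matrix.SpecialLinearGroup.coe_mul, h, Matrix.SpecialLinearGroup.coe_one]
    refine ⟨?_, fun e => ?_⟩
    · have h2 : ∀ M : Matrix (Fin n) (Fin n) F, M + M = 0 := fun M => by
        ext i j; exact CharTwo.add_self_eq_zero _
      rw [sub_mul, mul_sub, h', one_mul, mul_one]
      calc (1 - (x : Matrix (Fin n) (Fin n) F)) - ((x : Matrix (Fin n) (Fin n) F) - 1)
          = (1 + 1) - ((x : Matrix (Fin n) (Fin n) F) + (x : Matrix (Fin n) (Fin n) F)) := by abel
        _ = 0 := by rw [h2, h2, sub_zero]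
    · have h1 : x = 1 := Subtype.ext (sub_eq_zero.1 e)
      rw [h1, orderOf_one] at hx
      omega
  refine ⟨fun h => ?_, fun h => ?_⟩
  · obtain ⟨c, hc⟩ := isConj_iff.1 h
    have hce : ((c : Matrix (Fin n) (Fin n) F) * ((a : Matrix (Fin n) (Fin n) F) - 1)) *
        ((c⁻¹ : Matrix.SpecialLinearGroup (Fin n) F) : Matrix (Fin n) (Fin n) F) =
        (b : Matrix (Fin n) (Fin n) F) - 1 := by
      rw [← hc, mul_sub, mul_one, sub_mul, ← Matrix.SpecialLinearGroup.coe_mul,
        ← Matrix.SpecialLinearGroup.coe_mul, ← Matrix.SpecialLinearGroup.coe_mul, mul_inv_cancel,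
        Matrix.SpecialLinearGroup.coe_one]
    rw [← hce, Matrix.rank_mul_eq_left_of_det_ne_zero _ _ (by rw [Matrix.SpecialLinearGroup.det_coe]; exact one_ne_zero),
      Matrix.rank_mul_eq_right_of_det_ne_zero _ _ (by rw [Matrix.SpecialLinearGroup.det_coe]; exact one_ne_zero)]
  · obtain ⟨P, hP⟩ := CfsgLib.Inv2.exists_sqZero_conj_det _ (hsq a ha).1 (hsq a ha).2
    obtain ⟨Q, hQ⟩ := CfsgLib.Inv2.exists_sqZero_conj_det _ (hsq b hb).1 (hsq b hb).2
    rw [← h] at hQ
    set N := CfsgLib.Inv2.sqZeroForm F n ((a : Matrix (Fin n) (Fin n) F) - 1).rank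
    refine isConj_iff.2 ⟨Q * P⁻¹, ?_⟩
    rw [mul_inv_eq_iff_eq_mul, mul_assoc]
    have key : a * P = P * (Q⁻¹ * b * Q) := by
      apply Subtype.ext
      have hQ' : ((Q⁻¹ : Matrix.SpecialLinearGroup (Fin n) F) : Matrix (Fin n) (Fin n) F) *
          (b : Matrix (Fin n) (Fin n) F) * (Q : Matrix (Fin n) (Fin n) F) = 1 + N := by
        rw [sub_mul, one_mul, sub_eq_iff_eq_add'] at hQ
        rw [mul_assoc, hQ, mul_add, ← Matrix.SpecialLinearGroup.coe_mul, inv_mul_cancel,
          Matrix.SpecialLinearGroup.coe_one, ← mul_assoc, ← Matrix.SpecialLinearGroup.coe_mul,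
          inv_mul_cancel, Matrix.SpecialLinearGroup.coe_one, one_mul]
      rw [Matrix.SpecialLinearGroup.coe_mul, Matrix.SpecialLinearGroup.coe_mul,
        Matrix.SpecialLinearGroup.coe_mul, Matrix.SpecialLinearGroup.coe_mul, hQ']
      rw [sub_mul, one_mul, sub_eq_iff_eq_add'] at hP
      rw [hP, mul_add, mul_one]
    calc Q * (P⁻¹ * a) = Q * (P⁻¹ * (a * P) * P⁻¹) := by group
      _ = b * (Q * P⁻¹) := by rw [key]; group

end Cfsg.Agent.S2162
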