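import Cfsg.Statements.S2163
import Cfsg.Agent.Involutions2.RankOne

set_option autoImplicit false
open Cfsg

namespace Cfsg.Agent.S2163

/-- Over a finite field of characteristic two and for n ≥ 3: for every ℓ with 1 ≤ ℓ and 2ℓ ≤ n, the matrix j_ℓ that is the identity plus the entries 1 in positions (n − ℓ + i, i) for i < ℓ (an identity block of size ℓ in the lower left corner) lies in SL_n(F), has order 2, and j_ℓ − 1 has rank ℓ. Together with the conjugacy criterion by rank, these matrices represent the conjugacy classes of involutions of SL_n(F). -/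
theorem result {F : Type*} [Field F] [Fintype F] [CharP F 2] {n : ℕ} (hn : 3 ≤ n) (ℓ : ℕ) (h1 : 1 ≤ ℓ) (h2 : 2 * ℓ ≤ n) :
    ∃ a : Matrix.SpecialLinearGroup (Fin n) F, (a : Matrix (Fin n) (Fin n) F) = 1 + Matrix.of (fun i j : Fin n => if j.val < ℓ ∧ i.val = j.val + (n - ℓ) then (1 : F) else 0) ∧ orderOf a = 2 ∧ ((a : Matrix (Fin n) (Fin n) F) - 1).rank = ℓ := by
  classical
  set N : Matrix (Fin n) (Fin n) F :=
    Matrix.of (fun i j : Fin n => if j.val < ℓ ∧ i.val = j.val + (n - ℓ) then (1 : F) else 0) with hN
  let r : Fin ℓ → Fin n := fun k => ⟨k.val + (n - ℓ), by omega⟩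
  let c : Fin ℓ → Fin n := fun k => ⟨k.val, by omega⟩
  have hsub : N.submatrix r c = 1 := by
    ext i j
    simp only [hN, Matrix.submatrix_apply, Matrix.of_apply, Matrix.one_apply, r, c, Fin.ext_iff]
    split_ifs <;> first | rfl | omega
  have hrank : N.rank = ℓ := by
    refine CfsgLib.Inv2.rank_eq_of_factor N (Matrix.of fun i k => if i = r k then 1 else 0)
      (Matrix.of fun k j => if j = c k then 1 else 0) ?_ r c hsub
    ext i j
    rw [Matrix.mul_apply]
    by_cases hj : j.val < ℓ
    · rw [Finset.sum_eq_single ⟨j.val, hj⟩]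
      · simp only [hN, Matrix.of_apply, r, c, Fin.ext_iff]
        split_ifs <;> first | omega | simp | (exfalso; simp at *; omega)
      · intro k _ hk
        have : j ≠ c k := fun e => hk (Fin.ext (by simp [c, Fin.ext_iff] at e; simpa using e.symm))
        simp [this]
      · intro hh; exact absurd (Finset.mem_univ _) hh
    · rw [Finset.sum_eq_zero]
      · simp [hN, hj]
      · intro k _
        have : j ≠ c k := fun e => hj (by rw [e]; exact k.2)
        simp [this]
  have hNN : N * N = 0 := by
    ext i j
    rw [Matrix.mul_apply, Matrix.zero_apply, Finset.sum_eq_zero]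
    intro k _
    simp only [hN, Matrix.of_apply]
    split_ifs <;> first | omega | simp | (exfalso; simp at *; omega)
  have hN0 : N ≠ 0 := fun e => by
    rw [e, Matrix.rank_zero] at hrank
    omega
  obtain ⟨a, ha, hao⟩ := CfsgLib.Inv2.exists_sl_of_sq_zero N hNN hN0
  exact ⟨a, ha, hao, by rw [ha, add_sub_cancel_left]; exact hrank⟩

end Cfsg.Agent.S2163
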