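import Cfsg.Statements.S2165
import Cfsg.Agent.Involutions2.RankOne

set_option autoImplicit false
open Cfsg

open scoped Matrix

namespace Cfsg.Agent.S2165

/-- In SU_n(q), q even, n ≥ 3 (matrices of determinant 1 over the field with q² elements preserving Σ u_i v_i^q): for every ℓ with 1 ≤ ℓ and 2ℓ ≤ n, the permutation matrix of the involution of {0, …, n−1} exchanging i and n − ℓ + i for each i < ℓ lies in SU_n(q), has order 2, and differs from the identity by a matrix of rank ℓ. So every rank between 1 and n/2 occurs for involutions of SU_n(q). -/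
theorem result {F : Type*} [Field F] [Fintype F] [CharP F 2] {n q : ℕ} (hF : Fintype.card F = q ^ 2) (hn : 3 ≤ n) (ℓ : ℕ) (h1 : 1 ≤ ℓ) (h2 : 2 * ℓ ≤ n) :
    ∃ a : ↥(Cfsg.SU n F q), (((a : Matrix.SpecialLinearGroup (Fin n) F) : Matrix (Fin n) (Fin n) F) = Matrix.of (fun i j : Fin n => if (j.val < ℓ ∧ i.val = j.val + (n - ℓ)) ∨ (i.val < ℓ ∧ j.val = i.val + (n - ℓ)) ∨ (i = j ∧ ℓ ≤ i.val ∧ i.val < n - ℓ) then (1 : F) else 0)) ∧ orderOf a = 2 ∧ ((((a : Matrix.SpecialLinearGroup (Fin n) F) : Matrix (Fin n) (Fin n) F)) - 1).rank = ℓ := by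
  classical
  set P : Matrix (Fin n) (Fin n) F := Matrix.of (fun i j : Fin n => if (j.val < ℓ ∧ i.val = j.val + (n - ℓ)) ∨ (i.val < ℓ ∧ j.val = i.val + (n - ℓ)) ∨ (i = j ∧ ℓ ≤ i.val ∧ i.val < n - ℓ) then (1 : F) else 0) with hP
  set N : Matrix (Fin n) (Fin n) F := P - 1 with hN
  let c : Fin ℓ → Fin n := fun k => ⟨k.val, by omega⟩
  let e : Fin n → Fin n := fun i => if h : i.val < ℓ then ⟨i.val + (n - ℓ), by omega⟩
    else if h' : n - ℓ ≤ i.val then ⟨i.val - (n - ℓ), by omega⟩ else i
  have he : ∀ i : Fin n, (e i).val = if i.val < ℓ then i.val + (n - ℓ) else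
      if n - ℓ ≤ i.val then i.val - (n - ℓ) else i.val := by
    intro i
    simp only [e]
    split_ifs <;> rfl
  have hee : ∀ i, e (e i) = i := by
    intro i
    have hi := i.2
    rw [Fin.ext_iff, he, he]
    split_ifs <;> omega
  have hPe : ∀ i j, P i j = if j = e i then 1 else 0 := by
    intro i j
    have hi := i.2
    have hj := j.2
    simp only [hP, Matrix.of_apply]
    refine if_congr ?_ rfl rfl
    rw [Fin.ext_iff, Fin.ext_iff, he]
    split_ifs <;> omega
  have hPv : ∀ (v : Fin n → F) i, (P *ᵥ v) i = v (e i) := by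
    intro v i
    simp [Matrix.mulVec, dotProduct, hPe]
  have hrank : N.rank = ℓ := by
    refine CfsgLib.Inv2.rank_eq_of_factor N
      (Matrix.of fun i k => if i.val = k.val ∨ i.val = k.val + (n - ℓ) then 1 else 0)
      (Matrix.of fun k j => if j.val = k.val ∨ j.val = k.val + (n - ℓ) then 1 else 0) ?_ c c ?_
    · ext i j
      rw [Matrix.mul_apply]
      simp only [hN, hP, Matrix.sub_apply, Matrix.of_apply, Matrix.one_apply, Fin.ext_iff]
      by_cases hi : i.val < ℓ ∨ n - ℓ ≤ i.val
      · obtain ⟨k, hk⟩ : ∃ k : Fin ℓ, i.val = k.val ∨ i.val = k.val + (n - ℓ) := by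
          rcases hi with hi | hi
          · exact ⟨⟨i.val, hi⟩, Or.inl rfl⟩
          · exact ⟨⟨i.val - (n - ℓ), by omega⟩, Or.inr (by simp; omega)⟩
        rw [Finset.sum_eq_single k]
        · split_ifs <;> first | omega | simp [CharTwo.sub_eq_add, CharTwo.add_self_eq_zero] | (exfalso; simp at *; omega)
        · intro k' _ hk'
          have : ¬ (i.val = k'.val ∨ i.val = k'.val + (n - ℓ)) := fun h => hk' (Fin.ext (by omega))
          simp [this]
        · intro hh; exact absurd (Finset.mem_univ _) hh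
      · rw [Finset.sum_eq_zero]
        · split_ifs <;> first | omega | simp | (exfalso; simp at *; omega)
        · intro k _
          have : ¬ (i.val = k.val ∨ i.val = k.val + (n - ℓ)) := by omega
          simp [this]
    · ext i j
      simp only [hN, hP, Matrix.sub_apply, Matrix.submatrix_apply, Matrix.of_apply, Matrix.one_apply, c, Fin.ext_iff]
      split_ifs <;> first | omega | simp [CharTwo.sub_eq_add, CharTwo.add_self_eq_zero] | (exfalso; simp at *; omega)
  have hPP : P * P = 1 := by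
    ext i j
    simp only [Matrix.mul_apply, hPe, Matrix.one_apply, ite_mul, one_mul, zero_mul,
      Finset.sum_ite_eq', Finset.mem_univ, if_true, hee]
    exact if_congr eq_comm rfl rfl
  have hN0 : N ≠ 0 := fun h => by
    rw [h, Matrix.rank_zero] at hrank
    omega
  have hNN : N * N = 0 := by
    have h2 : P + P = 0 := by ext i j; exact CharTwo.add_self_eq_zero _
    have h1 : (1 : Matrix (Fin n) (Fin n) F) + 1 = 0 := by ext i j; exact CharTwo.add_self_eq_zero _
    rw [hN, sub_mul, mul_sub, hPP, mul_one, one_mul]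
    calc 1 - P - (P - 1) = (1 + 1) - (P + P) := by abel
      _ = 0 := by rw [h1, h2, sub_zero]
  obtain ⟨a, ha, hao⟩ := CfsgLib.Inv2.exists_sl_of_sq_zero N hNN hN0
  rw [hN, add_sub_cancel] at ha
  have hmem : a ∈ Cfsg.SU n F q := by
    intro u v
    show Cfsg.hermForm n F q ((a : Matrix (Fin n) (Fin n) F) *ᵥ u) ((a : Matrix (Fin n) (Fin n) F) *ᵥ v) = _
    rw [ha]
    simp only [Cfsg.hermForm, hPv]
    exact Fintype.sum_equiv ⟨e, e, hee, hee⟩ _ _ fun i => rfl
  exact ⟨⟨a, hmem⟩, ha, by rw [Subgroup.orderOf_mk]; exact hao, by rw [ha]; exact hrank⟩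

end Cfsg.Agent.S2165
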