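import Cfsg.Statements.S2167
import Cfsg.Agent.Classical.SymplecticBasic
import Cfsg.Agent.Aschbacher.Forms

set_option autoImplicit false
open Cfsg

open scoped Matrix

namespace Cfsg.Agent.S2167

/-- For an involution t of the symplectic group Sp_{2m}(F), m ≥ 2, F a finite field of characteristic two (matrices A with A J Aᵀ = J acting on column vectors, alternating form f(u, v) = u ⬝ (J v)): the set V(t) of vectors v with f(v, t v) = 0 has either q^{2m} or q^{2m−1} elements, q the order of F (it is a subspace of codimension at most 1), and if it is the whole space then t − 1 has even rank. -/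
theorem result {F : Type*} [Field F] [Fintype F] [CharP F 2] {m : ℕ} (hm : 2 ≤ m) (a : ↥(Matrix.symplecticGroup (Fin m) F)) (ha : orderOf a = 2) :
    (Nat.card {v : Fin m ⊕ Fin m → F // Cfsg.sympForm m F v (Matrix.mulVec ((a : ↥(Matrix.symplecticGroup (Fin m) F)) : Matrix (Fin m ⊕ Fin m) (Fin m ⊕ Fin m) F) v) = 0} = Fintype.card F ^ (2 * m) ∨ Nat.card {v : Fin m ⊕ Fin m → F // Cfsg.sympForm m F v (Matrix.mulVec ((a : ↥(Matrix.symplecticGroup (Fin m) F)) : Matrix (Fin m ⊕ Fin m) (Fin m ⊕ Fin m) F) v) = 0} * Fintype.card F = Fintype.card F ^ (2 * m)) ∧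
    ((∀ v : Fin m ⊕ Fin m → F, Cfsg.sympForm m F v (Matrix.mulVec ((a : ↥(Matrix.symplecticGroup (Fin m) F)) : Matrix (Fin m ⊕ Fin m) (Fin m ⊕ Fin m) F) v) = 0) → Even (((a : ↥(Matrix.symplecticGroup (Fin m) F)) : Matrix (Fin m ⊕ Fin m) (Fin m ⊕ Fin m) F) - 1).rank) := by
  classical
  set A : Matrix (Fin m ⊕ Fin m) (Fin m ⊕ Fin m) F := ((a : ↥(Matrix.symplecticGroup (Fin m) F)) : Matrix (Fin m ⊕ Fin m) (Fin m ⊕ Fin m) F) with hA
  let f := Cfsg.sympForm m F
  have hfform : ∀ u v, f u v = CfsgLib.Symp.form u v := fun u v => rfl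
  have hsym : ∀ u v, f u v = f v u := fun u v => by
    rw [hfform, hfform, CfsgLib.Symp.form_swap, CharTwo.neg_eq]
  have hinvar : ∀ u v, f (A *ᵥ u) (A *ᵥ v) = f u v := by
    intro u v
    show (A *ᵥ u) ⬝ᵥ (Matrix.J (Fin m) F *ᵥ (A *ᵥ v)) = u ⬝ᵥ (Matrix.J (Fin m) F *ᵥ v)
    rw [← Matrix.vecMul_transpose A u, ← Matrix.dotProduct_mulVec, Matrix.mulVec_mulVec,
      Matrix.mulVec_mulVec, SymplecticGroup.mem_iff'.1 a.2]
  have hAA : A * A = 1 := by
    have h := pow_orderOf_eq_one a
    rw [ha, pow_two] at h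
    exact congrArg Subtype.val h
  have hswap : ∀ u v, f u (A *ᵥ v) = f v (A *ᵥ u) := fun u v => by
    rw [← hinvar u (A *ᵥ v), Matrix.mulVec_mulVec, hAA, Matrix.one_mulVec, hsym]
  let g : (Fin m ⊕ Fin m → F) →+ F := AddMonoidHom.mk' (fun v => f v (A *ᵥ v)) fun v w => by
    simp only [hfform, Matrix.mulVec_add, CfsgLib.Symp.form_add_left, CfsgLib.Symp.form_add_right]
    have := hswap v w
    simp only [hfform] at this
    rw [this]
    linear_combination CharTwo.add_self_eq_zero (CfsgLib.Symp.form w (A *ᵥ v))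
  have hg : ∀ (c : F) v, g (c • v) = c ^ 2 * g v := fun c v => by
    show f (c • v) (A *ᵥ (c • v)) = c ^ 2 * f v (A *ᵥ v)
    simp only [hfform, Matrix.mulVec_smul, CfsgLib.Symp.form_smul_left,
      CfsgLib.Symp.form_smul_right]
    ring
  have hcardV : Nat.card (Fin m ⊕ Fin m → F) = Fintype.card F ^ (2 * m) := by
    simp [Nat.card_eq_fintype_card, two_mul]
  refine ⟨?_, fun hall => ?_⟩
  · show Nat.card g.ker = _ ∨ Nat.card g.ker * _ = _
    have hlag := g.ker.card_eq_card_quotient_mul_card_addSubgroup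
    rw [Nat.card_congr (QuotientAddGroup.quotientKerEquivRange g).toEquiv, hcardV] at hlag
    by_cases h0 : ∀ v, g v = 0
    · left
      rw [hlag, show g.range = ⊥ from (AddSubgroup.eq_bot_iff_forall _).2 (by rintro _ ⟨v, rfl⟩; exact h0 v)]
      simp
    · right
      push Not at h0
      obtain ⟨v, hv⟩ := h0
      have hr : g.range = ⊤ := by
        refine (AddSubgroup.eq_top_iff' _).2 fun y => ?_
        obtain ⟨c, hc⟩ := (Finite.injective_iff_surjective.1 (CharTwo.sq_injective (R := F))) (y / g v)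
        refine ⟨c • v, ?_⟩
        rw [hg]
        rw [show c ^ 2 = y / g v from hc, div_mul_cancel₀ _ hv]
      rw [hlag, hr, Nat.card_congr (AddSubgroup.topEquiv (G := F)).toEquiv,
        Nat.card_eq_fintype_card (α := F), mul_comm]
  · set T : Matrix (Fin m ⊕ Fin m) (Fin m ⊕ Fin m) F := A - 1 with hT
    let B : (Fin m ⊕ Fin m → F) → (Fin m ⊕ Fin m → F) → F := fun v w => f v (T *ᵥ w)
    have hB : Cfsg.Geo.IsBilinearForm B := by
      constructor <;> intros <;>
        simp [B, hfform, Matrix.mulVec_add, Matrix.mulVec_smul, CfsgLib.Symp.form_add_left,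
          CfsgLib.Symp.form_add_right, CfsgLib.Symp.form_smul_left, CfsgLib.Symp.form_smul_right]
    have halt : ∀ v, B v v = 0 := fun v => by
      show f v (T *ᵥ v) = 0
      rw [hT, Matrix.sub_mulVec, Matrix.one_mulVec, hfform, CfsgLib.Symp.form_sub_right,
        ← hfform, ← hfform, show f v (A *ᵥ v) = 0 from hall v, hfform, CfsgLib.Symp.form_self, sub_zero]
    have hBsym : ∀ u v, B u v = B v u := fun u v => by
      have h := halt (u + v)
      rw [hB.add_left, hB.add_right, hB.add_right, halt, halt, zero_add, add_zero] at h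
      rwa [← CharTwo.sub_eq_add, sub_eq_zero] at h
    obtain ⟨W, hW⟩ := Submodule.exists_isCompl (LinearMap.ker T.mulVecLin)
    have hdim : Module.finrank F W = T.rank := by
      have h1 := Submodule.finrank_add_eq_of_isCompl hW
      have h2 := LinearMap.finrank_range_add_finrank_ker T.mulVecLin
      unfold Matrix.rank
      omega
    rw [← hdim]
    refine CfsgLib.Aschbacher.even_finrank_of_alternating hB halt W fun w hw hw0 => ?_
    have hTw : T *ᵥ w ≠ 0 := fun e => hw0 (Submodule.disjoint_def.1 hW.disjoint w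
      (LinearMap.mem_ker.2 (by simpa using e)) hw)
    obtain ⟨i, hi⟩ := Function.ne_iff.1 hTw
    obtain ⟨y, hy⟩ : ∃ y, f y (T *ᵥ w) ≠ 0 := by
      rcases i with i | i
      · exact ⟨Pi.single (Sum.inr i) 1, by rw [hfform, CfsgLib.Symp.form_single_inr, one_mul]; exact hi⟩
      · exact ⟨Pi.single (Sum.inl i) 1, by
          rw [hfform, CfsgLib.Symp.form_single_inl, one_mul, neg_ne_zero]; exact hi⟩
    obtain ⟨y2, y1, hy2, hy1, rfl⟩ := Submodule.codisjoint_iff_exists_add_eq.1 hW.codisjoint y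
    have h0 : B y2 w = 0 := by
      rw [hBsym]
      show f w (T *ᵥ y2) = 0
      rw [show T *ᵥ y2 = 0 by simpa using LinearMap.mem_ker.1 hy2, hfform]
      exact CfsgLib.Symp.form_zero_right w
    have h1 : B y1 w ≠ 0 := by
      intro e
      apply hy
      show B (y2 + y1) w = 0
      rw [hB.add_left, h0, e, add_zero]
    exact ⟨⟨y1, hy1, h1⟩, ⟨y1, hy1, by rwa [hBsym]⟩⟩

end Cfsg.Agent.S2167
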