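import Cfsg.Statements.S2166
import Cfsg.Agent.Dye.Symp
import Cfsg.Agent.S2167

set_option autoImplicit false
open Cfsg

namespace Cfsg.Agent.S2166

/-- Conjugacy of involutions in the symplectic group Sp_{2m}(F), F a finite field of characteristic two, m ≥ 2 (Sp taken as the matrices A with A J Aᵀ = J, acting on column vectors, with the alternating form f(u, v) = u ⬝ (J v)). For an involution t write V(t) for the set of vectors v with f(v, t v) = 0 (a subspace). Two involutions a, b are conjugate in Sp_{2m}(F) exactly when a − 1 and b − 1 have the same rank and, in case that rank is even, V(a) and V(b) have the same number of elements. -/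
theorem result {F : Type*} [Field F] [Fintype F] [CharP F 2] {m : ℕ} (hm : 2 ≤ m) (a b : ↥(Matrix.symplecticGroup (Fin m) F)) (ha : orderOf a = 2) (hb : orderOf b = 2) :
    IsConj a b ↔ ((((a : ↥(Matrix.symplecticGroup (Fin m) F)) : Matrix (Fin m ⊕ Fin m) (Fin m ⊕ Fin m) F) - 1).rank = (((b : ↥(Matrix.symplecticGroup (Fin m) F)) : Matrix (Fin m ⊕ Fin m) (Fin m ⊕ Fin m) F) - 1).rank ∧
      (Even (((a : ↥(Matrix.symplecticGroup (Fin m) F)) : Matrix (Fin m ⊕ Fin m) (Fin m ⊕ Fin m) F) - 1).rank → Nat.card {v : Fin m ⊕ Fin m → F // Cfsg.sympForm m F v (Matrix.mulVec ((a : ↥(Matrix.symplecticGroup (Fin m) F)) : Matrix (Fin m ⊕ Fin m) (Fin m ⊕ Fin m) F) v) = 0} = Nat.card {v : Fin m ⊕ Fin m → F // Cfsg.sympForm m F v (Matrix.mulVec ((b : ↥(Matrix.symplecticGroup (Fin m) F)) : Matrix (Fin m ⊕ Fin m) (Fin m ⊕ Fin m) F) v) = 0})) := by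
  classical
  have hinv := CfsgLib.Dye.isConj_sp_iff (CfsgLib.Dye.invol_of_order ha).1 (CfsgLib.Dye.invol_of_order hb).1
  rw [hinv, CfsgLib.Dye.invS, CfsgLib.Dye.invS, CfsgLib.Dye.invB_eq_iff, ← CfsgLib.Dye.rank_eq,
    ← CfsgLib.Dye.rank_eq]
  refine and_congr_right fun hr => ?_
  have key : ∀ c : ↥(Matrix.symplecticGroup (Fin m) F), CfsgLib.Dye.Alt CfsgLib.Dye.sB (CfsgLib.Dye.devL (CfsgLib.Dye.spHom c)) ↔
      ∀ v, Cfsg.sympForm m F v (Matrix.mulVec (c.1) v) = 0 := by
    intro c
    refine forall_congr' fun v => ?_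
    rw [CfsgLib.Dye.devL_apply, map_sub, show CfsgLib.Dye.sB v v = 0 from CfsgLib.Dye.sB_isAlt v, sub_zero]
    rfl
  have hall : ∀ c : ↥(Matrix.symplecticGroup (Fin m) F),
      (∀ v, Cfsg.sympForm m F v (Matrix.mulVec (c.1) v) = 0) ↔
        Nat.card {v : Fin m ⊕ Fin m → F // Cfsg.sympForm m F v (Matrix.mulVec (c.1) v) = 0} =
          Fintype.card F ^ (2 * m) := by
    intro c
    have hV : Nat.card (Fin m ⊕ Fin m → F) = Fintype.card F ^ (2 * m) := by
      rw [Nat.card_fun, Nat.card_eq_fintype_card (α := F)]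
      simp [two_mul]
    constructor
    · intro h
      rw [← hV]
      exact Nat.card_congr (Equiv.subtypeUnivEquiv h)
    · intro h v
      have hbij : Function.Bijective (Subtype.val :
          {v : Fin m ⊕ Fin m → F // Cfsg.sympForm m F v (Matrix.mulVec (c.1) v) = 0} → _) :=
        (Nat.bijective_iff_injective_and_card _).2 ⟨Subtype.val_injective, h.trans hV.symm⟩
      obtain ⟨w, rfl⟩ := hbij.2 v
      exact w.2
  rw [key, key]
  constructor
  · intro h he
    by_cases hf : ∀ v, Cfsg.sympForm m F v (Matrix.mulVec (a.1) v) = 0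
    · rw [(hall a).1 hf, (hall b).1 (h.1 hf)]
    · have hfb := mt h.2 hf
      rw [hall] at hf hfb
      have e1 := (Cfsg.Agent.S2167.result hm a ha).1.resolve_left hf
      have e2 := (Cfsg.Agent.S2167.result hm b hb).1.resolve_left hfb
      exact Nat.eq_of_mul_eq_mul_right Fintype.card_pos (e1.trans e2.symm)
  · intro h
    by_cases he : Even ((a.1 : Matrix (Fin m ⊕ Fin m) (Fin m ⊕ Fin m) F) - 1).rank
    · rw [hall, hall, h he]
    · exact ⟨fun hf => absurd ((Cfsg.Agent.S2167.result hm a ha).2 hf) he,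
        fun hf => absurd (hr ▸ (Cfsg.Agent.S2167.result hm b hb).2 hf) he⟩

end Cfsg.Agent.S2166
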