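import Cfsg.Statements.S2174
import Cfsg.Agent.Chev.InvolF4Rank
import Cfsg.Agent.Chev.InvolF4Check
import Cfsg.Agent.Chev.GoodAll
-- import your own Cfsg.Agent.* helpers here

set_option autoImplicit false
open Cfsg

namespace Cfsg.Agent.S2174

open CfsgLib.Chev CfsgLib.Chev.InvolReduce CfsgLib.Chev.F4Two

abbrev T4 := F4Data.tab

section

variable {F : Type*} [Field F] [CharP F 2]

theorem commute_x {r s : ℕ} (hr : r < Cfsg.Lie.chevF4.nroots) (hs : s < Cfsg.Lie.chevF4.nroots)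
    (hsr : s ≠ r) (hsn : s ≠ Tab.negR Cfsg.Lie.chevF4 r) (hc : T4.commT r s = []) (t u : F) :
    Commute (good_F4.full.x r t) (good_F4.full.x s u) := by
  have h := good_F4.full.x_comm hr hs hsr hsn t u
  rw [good_F4.full.cert.commWord_eq hr hs] at h
  simp only [rhsWord, hc, List.map_nil, List.prod_nil, mul_one] at h
  exact h.symm

theorem c_44_47 (t u : F) : Commute (good_F4.full.x 44 t) (good_F4.full.x 47 u) :=
  commute_x (by decide) (by decide) (by decide) (by decide +kernel) (by decide +kernel) t u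

theorem c_39_45 (t u : F) : Commute (good_F4.full.x 39 t) (good_F4.full.x 45 u) :=
  commute_x (by decide) (by decide) (by decide) (by decide +kernel) (by decide +kernel) t u

/-- The four representatives. -/
noncomputable def reps (F : Type*) [Field F] : List (GL Cfsg.Lie.chevF4.Idx F) :=
  repsF4.map (good_F4.xOne F)

theorem mem_iff (y : GL Cfsg.Lie.chevF4.Idx F) :
    ((y : GL Cfsg.Lie.chevF4.Idx F) : Matrix Cfsg.Lie.chevF4.Idx Cfsg.Lie.chevF4.Idx F) ∈
      [Cfsg.Lie.chevF4.x F 47 1, Cfsg.Lie.chevF4.x F 44 1,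
        Cfsg.Lie.chevF4.x F 47 1 * Cfsg.Lie.chevF4.x F 44 1,
        Cfsg.Lie.chevF4.x F 39 1 * Cfsg.Lie.chevF4.x F 45 1] ↔
    ∃ K ∈ repsF4, y = good_F4.xOne F K := by
  have e := congrArg Units.val (c_44_47 (F := F) 1 1).eq
  simp only [Units.val_mul, good_F4.full.coe_x'] at e
  simp only [repsF4, List.mem_cons, List.not_mem_nil, or_false, exists_eq_or_imp, exists_eq_left,
    Units.ext_iff, Tab.Good.xOne, List.map_cons, List.map_nil, List.prod_cons, List.prod_nil,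
    mul_one, Units.val_mul, good_F4.full.coe_x', e]

theorem sq_xOne {K : List ℕ} (hK : K ∈ repsF4) :
    good_F4.xOne F K * good_F4.xOne F K = 1 := by
  have h1 : ∀ r, good_F4.full.x r (1 : F) * good_F4.full.x r 1 = 1 := fun r => by
    rw [good_F4.full.x_add, CharTwo.add_self_eq_zero, good_F4.full.x_zero]
  simp only [repsF4, List.mem_cons, List.not_mem_nil, or_false] at hK
  rcases hK with rfl | rfl | rfl | rfl <;>
    simp only [Tab.Good.xOne, List.map_cons, List.map_nil, List.prod_cons, List.prod_nil, mul_one]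
  · exact h1 _
  · exact h1 _
  · rw [mul_assoc, ← mul_assoc (good_F4.full.x 47 1), ← (c_44_47 1 1).eq, mul_assoc, h1, mul_one,
      h1]
  · rw [mul_assoc, ← mul_assoc (good_F4.full.x 45 1), ← (c_39_45 1 1).eq, mul_assoc, h1, mul_one,
      h1]

/-- The two ranks of `y - 1`. -/
noncomputable def ranks (y : GL Cfsg.Lie.chevF4.Idx F) : ℕ × ℕ :=
  ((((y : Matrix Cfsg.Lie.chevF4.Idx Cfsg.Lie.chevF4.Idx F) - 1) *
      Tab.Good.incW Cfsg.Lie.chevF4 F wFull).rank,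
    (((y : Matrix Cfsg.Lie.chevF4.Idx Cfsg.Lie.chevF4.Idx F) - 1) *
      Tab.Good.incW Cfsg.Lie.chevF4 F wSub).rank)

theorem ranks_rep {K : List ℕ} (hK : K ∈ repsF4) :
    (K, ranks (good_F4.xOne F K)) ∈
      [([47], (16, 6)), ([44], (16, 10)), ([44, 47], (21, 10)), ([39, 45], (24, 12))] := by
  simp only [repsF4, List.mem_cons, List.not_mem_nil, or_false] at hK
  rcases hK with rfl | rfl | rfl | rfl <;>
    simp only [ranks, good_F4.rank_on rankFull0_ok, good_F4.rank_on rankSub0_ok,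
      good_F4.rank_on rankFull1_ok, good_F4.rank_on rankSub1_ok, good_F4.rank_on rankFull2_ok,
      good_F4.rank_on rankSub2_ok, good_F4.rank_on rankFull3_ok, good_F4.rank_on rankSub3_ok,
      List.length_cons, List.length_nil] <;> simp

theorem order_rep {K : List ℕ} (hK : K ∈ repsF4) : orderOf (good_F4.xOne F K) = 2 := by
  refine orderOf_eq_prime (by rw [pow_two, sq_xOne hK]) fun e => ?_
  have h := ranks_rep (F := F) hK
  have h0 : ranks (1 : GL Cfsg.Lie.chevF4.Idx F) = (0, 0) := by simp [ranks]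
  rw [e, h0] at h
  simp at h

theorem mem_rep {K : List ℕ} : good_F4.xOne F K ∈ Cfsg.Lie.chevF4.group F :=
  list_prod_mem fun z hz => by
    obtain ⟨r, -, rfl⟩ := List.mem_map.mp hz
    exact good_F4.x_mem_group r 1

theorem chi_single (s : ℕ) (i : Fin Cfsg.Lie.chevF4.rank) (u : Fˣ) :
    T4.chi (F := F) s (Pi.mulSingle i u) = u ^ T4.cart i s := by
  show ∏ j, (Pi.mulSingle i u : Fin Cfsg.Lie.chevF4.rank → Fˣ) j ^ T4.cart j s = _
  rw [Finset.prod_eq_single i (fun j _ hj => by simp [hj]) (by simp)]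
  simp

theorem cart_val :
    [T4.cart 3 47, T4.cart 0 44, T4.cart 3 44, T4.cart 0 47, T4.cart 1 39, T4.cart 2 39,
      T4.cart 1 45, T4.cart 2 45] = [1, 1, 0, 0, -1, 1, 2, -1] := by
  decide +kernel

theorem torus_rep (k : ℕ) (hk : k < repsF4.length) (f : ℕ → F)
    (hf : ∀ r ∈ repsF4.getD k [], f r ≠ 0) :
    ∃ y ∈ reps F, Cj good_F4 (el good_F4 (repsF4.getD k []) f) y := by
  obtain ⟨e347, e044, e344, e047, e139, e239, e145, e245⟩ :
      T4.cart 3 47 = 1 ∧ T4.cart 0 44 = 1 ∧ T4.cart 3 44 = 0 ∧ T4.cart 0 47 = 0 ∧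
      T4.cart 1 39 = -1 ∧ T4.cart 2 39 = 1 ∧ T4.cart 1 45 = 2 ∧ T4.cart 2 45 = -1 := by
    simpa using cart_val
  suffices h : ∃ c : Fin Cfsg.Lie.chevF4.rank → Fˣ,
      ∀ r ∈ repsF4.getD k [], (T4.chi (F := F) r c : F) * f r = 1 by
    obtain ⟨c, hc⟩ := h
    refine ⟨good_F4.xOne F (repsF4.getD k []), List.mem_map.mpr ⟨_, ?_, rfl⟩, T4.hT F c,
      good_F4.diagonal_le_group (by rw [good_F4.full.diagonal_eq_range]; exact ⟨c, rfl⟩), ?_⟩
    · rw [List.getD_eq_getElem _ _ hk]; exact List.getElem_mem _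
    have hlt : ∀ r ∈ repsF4.getD k [], r < Cfsg.Lie.chevF4.nroots := by
      intro r hr
      have : ∀ L ∈ repsF4, ∀ r ∈ L, r < Cfsg.Lie.chevF4.nroots := by decide
      exact this _ (by rw [List.getD_eq_getElem _ _ hk]; exact List.getElem_mem _) r hr
    generalize repsF4.getD k [] = L at hc hlt ⊢
    induction L with
    | nil => simp [el, Tab.Good.xOne]
    | cons r L ih =>
      simp only [el, Tab.Good.xOne, List.map_cons, List.prod_cons] at ih ⊢
      rw [← conj_mul, good_F4.full.hT_conj (hlt r (List.mem_cons_self ..)),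
        hc r (List.mem_cons_self ..), ih (fun z hz => hc z (List.mem_cons_of_mem _ hz))
          fun z hz => hlt z (List.mem_cons_of_mem _ hz)]
  have hk4 : k < 4 := hk
  interval_cases k <;>
    simp only [repsF4, List.getD_cons_zero, List.getD_cons_succ, List.forall_mem_cons,
      List.not_mem_nil, IsEmpty.forall_iff, forall_const, and_true] at hf ⊢
  · refine ⟨Pi.mulSingle (⟨3, by decide⟩ : Fin Cfsg.Lie.chevF4.rank) (Units.mk0 _ hf)⁻¹, ?_⟩
    simp [chi_single, e347, hf]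
  · refine ⟨Pi.mulSingle (⟨0, by decide⟩ : Fin Cfsg.Lie.chevF4.rank) (Units.mk0 _ hf)⁻¹, ?_⟩
    simp [chi_single, e044, hf]
  · refine ⟨Pi.mulSingle (⟨0, by decide⟩ : Fin Cfsg.Lie.chevF4.rank) (Units.mk0 _ hf.1)⁻¹ *
      Pi.mulSingle (⟨3, by decide⟩ : Fin Cfsg.Lie.chevF4.rank) (Units.mk0 _ hf.2)⁻¹, ?_⟩
    simp [map_mul, chi_single, e347, e044, e344, e047, hf.1, hf.2]
  · let a : Fˣ := (Units.mk0 _ hf.1)⁻¹
    let b : Fˣ := (Units.mk0 _ hf.2)⁻¹
    refine ⟨Pi.mulSingle (⟨1, by decide⟩ : Fin Cfsg.Lie.chevF4.rank) (a * b) * Pi.mulSingle (⟨2, by decide⟩ : Fin Cfsg.Lie.chevF4.rank) (a ^ 2 * b), ?_⟩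
    simp [map_mul, chi_single, e139, e239, e145, e245, a, b]
    constructor <;> field_simp [hf.1, hf.2]

theorem segProd_el (S : Set ℕ) (f : ℕ → F) (p : ℕ → Bool) : ∀ m k,
    (∀ r, k ≤ r → r < k + m → (r ∈ S ↔ p r = true)) →
      good_F4.segProd S f k m = el good_F4 ((List.range' k m).filter p) f
  | 0, _, _ => by simp [Tab.Good.segProd, el]
  | m + 1, k, h => by
    rw [Tab.Good.segProd, segProd_el S f p m (k + 1) fun r h1 h2 => h r (by omega) (by omega),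
      List.range'_succ, List.filter_cons]
    by_cases hk : p k = true
    · rw [if_pos ((h k le_rfl (by omega)).mpr hk), if_pos hk]
      simp [el]
    · rw [if_neg (mt (h k le_rfl (by omega)).mp hk), if_neg hk, one_mul]

theorem exists_rep [Fintype F] {g : GL Cfsg.Lie.chevF4.Idx F}
    (hg : g ∈ Cfsg.Lie.chevF4.group F) (h2 : orderOf g = 2) :
    ∃ K ∈ repsF4, ∃ h ∈ Cfsg.Lie.chevF4.group F, h * g * h⁻¹ = good_F4.xOne F K := by
  classical
  haveI : Fact (Nat.Prime 2) := ⟨Nat.prime_two⟩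
  obtain ⟨P, hP⟩ := good_F4.exists_sylow (F := F) 2
  have hp : IsPGroup 2 (Subgroup.zpowers (⟨g, hg⟩ : Cfsg.Lie.chevF4.group F)) :=
    IsPGroup.of_card (n := 1) (by rw [Nat.card_zpowers, Subgroup.orderOf_mk, h2, pow_one])
  obtain ⟨Q, hQ⟩ := hp.exists_le_sylow
  obtain ⟨c, hc⟩ := MulAction.exists_smul_eq (Cfsg.Lie.chevF4.group F) Q P
  have hmem : c * ⟨g, hg⟩ * c⁻¹ ∈ (P : Subgroup (Cfsg.Lie.chevF4.group F)) := by
    rw [← hc, Sylow.coe_subgroup_smul, Subgroup.mem_smul_pointwise_iff_exists]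
    exact ⟨_, hQ (Subgroup.mem_zpowers _), rfl⟩
  rw [hP, Subgroup.mem_subgroupOf, good_F4.posUnipotent_eq, ← SetLike.mem_coe,
    good_F4.US_eq_range good_F4.closed_pos] at hmem
  obtain ⟨f, hf⟩ := hmem
  simp only [Subgroup.coe_mul, Subgroup.coe_inv] at hf
  rw [segProd_el _ f (fun r => decide (24 ≤ r)) _ _ (fun r _ hr => by
    simp only [Set.mem_setOf_eq, Tab.IsPos, decide_eq_true_eq]
    have : Cfsg.Lie.chevF4.nroots = 48 := rfl
    omega)] at hf
  have hl : (List.range' 0 Cfsg.Lie.chevF4.nroots).filter (fun r => decide (24 ≤ r)) =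
      (nodesF4.getD 1368 ([], [], .one)).1 := by
    rw [nodesF4_root.2.1]; decide +kernel
  rw [hl] at hf
  obtain ⟨hlen, -, hN, hord⟩ := nodesF4_root
  have hok : ∀ idx < nodesF4.length, chkNode T4 repsF4 nodesF4 idx = true := nodesF4_ok
  have hsq : g * g = 1 := by rw [← pow_two, ← h2, pow_orderOf_eq_one]
  have hne : g ≠ 1 := fun e => by simp [e] at h2
  obtain ⟨h2', h1'⟩ := conj_props good_F4 (k := (c : GL Cfsg.Lie.chevF4.Idx F)) hsq hne
  rw [← hf] at h2' h1'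
  obtain ⟨y, hy, k, hk, e⟩ := covered good_F4 hord torus_rep hok 1368 (by omega) f
    (by rw [hN]; simp) h2' h1'
  obtain ⟨K, hK, rfl⟩ := List.mem_map.mp hy
  refine ⟨K, hK, k * c, mul_mem hk c.2, ?_⟩
  rw [← e, hf]
  group

end

/-- Conjugacy classes of involutions in the Chevalley group of type F₄ over a finite field F of characteristic two (the matrix group generated by the root elements x_r(t)). In this problem's root numbering for type F₄ (the Chevalley data module; fundamental roots p₁, p₂ short and p₃, p₄ long; roots indexed by their coefficient vectors in increasing order) let r = 47 be the highest root (2,4,3,2), s = 44 the highest short root (2,3,2,1), and α = 39 = (1,2,2,1), β = 45 = (2,4,2,1), an orthogonal short/long pair; consider the four elements x_r(1), x_s(1), x_r(1)x_s(1), x_α(1)x_β(1). Then: each invertible matrix equal to one of these four products lies in the group and has order 2; every element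 of order 2 of the group is conjugate in the group to one of them; and no two of them are conjugate in the group (so, the four matrices being distinct, the group has exactly four conjugacy classes of involutions). -/
theorem result {F : Type*} [Field F] [Fintype F] [CharP F 2] :
    (∀ y : GL Cfsg.Lie.chevF4.Idx F, ((y : GL Cfsg.Lie.chevF4.Idx F) : Matrix Cfsg.Lie.chevF4.Idx Cfsg.Lie.chevF4.Idx F) ∈ [Cfsg.Lie.chevF4.x F 47 1, Cfsg.Lie.chevF4.x F 44 1, Cfsg.Lie.chevF4.x F 47 1 * Cfsg.Lie.chevF4.x F 44 1, Cfsg.Lie.chevF4.x F 39 1 * Cfsg.Lie.chevF4.x F 45 1] → y ∈ Cfsg.Lie.chevF4.group F ∧ orderOf y = 2) ∧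
    (∀ g ∈ Cfsg.Lie.chevF4.group F, orderOf g = 2 → ∃ y ∈ Cfsg.Lie.chevF4.group F, ((y : GL Cfsg.Lie.chevF4.Idx F) : Matrix Cfsg.Lie.chevF4.Idx Cfsg.Lie.chevF4.Idx F) ∈ [Cfsg.Lie.chevF4.x F 47 1, Cfsg.Lie.chevF4.x F 44 1, Cfsg.Lie.chevF4.x F 47 1 * Cfsg.Lie.chevF4.x F 44 1, Cfsg.Lie.chevF4.x F 39 1 * Cfsg.Lie.chevF4.x F 45 1] ∧ ∃ h ∈ Cfsg.Lie.chevF4.group F, h * g * h⁻¹ = y) ∧
    (∀ y₁ ∈ Cfsg.Lie.chevF4.group F, ∀ y₂ ∈ Cfsg.Lie.chevF4.group F, ((y₁ : GL Cfsg.Lie.chevF4.Idx F) : Matrix Cfsg.Lie.chevF4.Idx Cfsg.Lie.chevF4.Idx F) ∈ [Cfsg.Lie.chevF4.x F 47 1, Cfsg.Lie.chevF4.x F 44 1, Cfsg.Lie.chevF4.x F 47 1 * Cfsg.Lie.chevF4.x F 44 1, Cfsg.Lie.chevF4.x F 39 1 * Cfsg.Lie.chevF4.x F 45 1] → ((y₂ : GL Cfsg.Lie.chevF4.Idx F) : Matrix Cfsg.Lie.chevF4.Idx Cfsg.Lie.chevF4.Idx F) ∈ [Cfsg.Lie.chevF4.x F 47 1, Cfsg.Lie.chevF4.x F 44 1, Cfsg.Lie.chevF4.x F 47 1 * Cfsg.Lie.chevF4.x F 44 1, Cfsg.Lie.chevF4.x F 39 1 * Cfsg.Lie.chevF4.x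 F 45 1] →
      (∃ h ∈ Cfsg.Lie.chevF4.group F, h * y₁ * h⁻¹ = y₂) → ((y₁ : GL Cfsg.Lie.chevF4.Idx F) : Matrix Cfsg.Lie.chevF4.Idx Cfsg.Lie.chevF4.Idx F) = ((y₂ : GL Cfsg.Lie.chevF4.Idx F) : Matrix Cfsg.Lie.chevF4.Idx Cfsg.Lie.chevF4.Idx F)) := by
  refine ⟨fun y hy => ?_, fun g hg h2 => ?_, fun y₁ _ y₂ _ h₁ h₂ hc => ?_⟩
  · obtain ⟨K, hK, rfl⟩ := (mem_iff y).mp hy
    exact ⟨mem_rep, order_rep hK⟩
  · obtain ⟨K, hK, c, hc, e⟩ := exists_rep hg h2
    exact ⟨good_F4.xOne F K, mem_rep, (mem_iff _).mpr ⟨K, hK, rfl⟩, c, hc, e⟩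
  · obtain ⟨K₁, hK₁, rfl⟩ := (mem_iff y₁).mp h₁
    obtain ⟨K₂, hK₂, rfl⟩ := (mem_iff y₂).mp h₂
    obtain ⟨c, hc, e⟩ := hc
    have hk : ranks (good_F4.xOne F K₂) = ranks (good_F4.xOne F K₁) :=
      Prod.ext (good_F4.rank_on_conj (by decide) wFull_stable hc e)
        (good_F4.rank_on_conj (by decide) wSub_stable hc e)
    have m₁ := ranks_rep (F := F) hK₁
    have m₂ := ranks_rep (F := F) hK₂
    rw [hk] at m₂
    generalize ranks (good_F4.xOne F K₁) = v at m₁ m₂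
    simp only [List.mem_cons, List.not_mem_nil, or_false, Prod.mk.injEq] at m₁ m₂
    rcases m₁ with ⟨rfl, rfl⟩ | ⟨rfl, rfl⟩ | ⟨rfl, rfl⟩ | ⟨rfl, rfl⟩ <;>
      rcases m₂ with ⟨h, h'⟩ | ⟨h, h'⟩ | ⟨h, h'⟩ | ⟨h, h'⟩ <;>
      first | exact absurd h' (by decide) | rw [h]

end Cfsg.Agent.S2174
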