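import Cfsg.Statements.S2175
import Cfsg.Agent.Chev.InvolTwoE6

set_option autoImplicit false
open Cfsg
open CfsgLib.Chev

namespace Cfsg.Agent.S2175

theorem sl : E6Data.tab.SL := ⟨good_E6, E6Data.InvolTwo.sl_ok⟩

section

variable {F : Type*} [Field F] [CharP F 2]

theorem mem_iff (y : GL Cfsg.Lie.chevE6.Idx F) :
    ((y : GL Cfsg.Lie.chevE6.Idx F) : Matrix Cfsg.Lie.chevE6.Idx Cfsg.Lie.chevE6.Idx F) ∈
      [Cfsg.Lie.chevE6.x F 71 1, Cfsg.Lie.chevE6.x F 68 1 * Cfsg.Lie.chevE6.x F 66 1,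
        Cfsg.Lie.chevE6.x F 55 1 * Cfsg.Lie.chevE6.x F 65 1 * Cfsg.Lie.chevE6.x F 67 1] ↔
    ∃ K ∈ E6Data.InvolTwo.reps, y = sl.xG F K := by
  simp only [E6Data.InvolTwo.reps, List.mem_cons, List.not_mem_nil, or_false, exists_eq_or_imp,
    exists_eq_left, Units.ext_iff, sl.coe_xG, List.map_cons, List.map_nil, List.prod_cons,
    List.prod_nil, mul_one, mul_assoc]

theorem rank_mem {K : List ℕ} (hK : K ∈ E6Data.InvolTwo.reps) :
    (∀ r ∈ K, Tab.IsPos Cfsg.Lie.chevE6 r) ∧ E6Data.tab.OrthL K ∧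
      ∃ k, k ≠ 0 ∧ (k, K) ∈ [(22, [71]), (32, [68, 66]), (38, [55, 65, 67])] ∧
      (((sl.xG F K : GL Cfsg.Lie.chevE6.Idx F) :
        Matrix Cfsg.Lie.chevE6.Idx Cfsg.Lie.chevE6.Idx F) - 1).rank = k := by
  simp only [E6Data.InvolTwo.reps, List.mem_cons, List.not_mem_nil, or_false] at hK
  rcases hK with rfl | rfl | rfl
  · exact ⟨by decide, List.pairwise_singleton _ _, 22, by omega, by simp,
      sl.rank_eq E6Data.InvolTwo.rank0⟩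
  · exact ⟨by decide, by unfold Tab.OrthL; decide +kernel, 32, by omega, by simp,
      sl.rank_eq E6Data.InvolTwo.rank1⟩
  · exact ⟨by decide, by unfold Tab.OrthL; decide +kernel, 38, by omega, by simp,
      sl.rank_eq E6Data.InvolTwo.rank2⟩

end

/-- Conjugacy classes of involutions in the Chevalley group of type E₆ over a finite field F of characteristic two (the matrix group generated by the root elements x_r(t)). In this problem's root numbering for type E₆ (the Chevalley data module; fundamental roots numbered so that p₁–p₃–p₄–p₅–p₆ is the long chain of the diagram and p₂ is joined to p₄; roots indexed by their coefficient vectors in increasing order) let r = 71 be the highest root (1,2,2,3,2,1), α = 68 = (1,1,2,2,1,1), β = 66 = (1,1,1,2,2,1), γ = 55 = (0,1,1,2,2,1), δ = 65 = (1,1,1,2,1,1), ε = 67 = (1,1,2,2,1,0) (α ⊥ β and γ, δ, ε pairwise orthogonal);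 consider x_r(1), x_α(1)x_β(1) and x_γ(1)x_δ(1)x_ε(1). Then: each invertible matrix equal to one of these three products lies in the group and has order 2; every element of order 2 of the group is conjugate in the group to one of them; and no two of them are conjugate in the group (so, the three matrices being distinct, the group has exactly three conjugacy classes of involutions). -/
theorem result {F : Type*} [Field F] [Fintype F] [CharP F 2] :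
    (∀ y : GL Cfsg.Lie.chevE6.Idx F, ((y : GL Cfsg.Lie.chevE6.Idx F) : Matrix Cfsg.Lie.chevE6.Idx Cfsg.Lie.chevE6.Idx F) ∈ [Cfsg.Lie.chevE6.x F 71 1, Cfsg.Lie.chevE6.x F 68 1 * Cfsg.Lie.chevE6.x F 66 1, Cfsg.Lie.chevE6.x F 55 1 * Cfsg.Lie.chevE6.x F 65 1 * Cfsg.Lie.chevE6.x F 67 1] → y ∈ Cfsg.Lie.chevE6.group F ∧ orderOf y = 2) ∧
    (∀ g ∈ Cfsg.Lie.chevE6.group F, orderOf g = 2 → ∃ y ∈ Cfsg.Lie.chevE6.group F, ((y : GL Cfsg.Lie.chevE6.Idx F) : Matrix Cfsg.Lie.chevE6.Idx Cfsg.Lie.chevE6.Idx F) ∈ [Cfsg.Lie.chevE6.x F 71 1, Cfsg.Lie.chevE6.x F 68 1 * Cfsg.Lie.chevE6.x F 66 1, Cfsg.Lie.chevE6.x F 55 1 * Cfsg.Lie.chevE6.x F 65 1 * Cfsg.Lie.chevE6.x F 67 1] ∧ ∃ h ∈ Cfsg.Lie.chevE6.group F, h * g * h⁻¹ = y) ∧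
    (∀ y₁ ∈ Cfsg.Lie.chevE6.group F, ∀ y₂ ∈ Cfsg.Lie.chevE6.group F, ((y₁ : GL Cfsg.Lie.chevE6.Idx F) : Matrix Cfsg.Lie.chevE6.Idx Cfsg.Lie.chevE6.Idx F) ∈ [Cfsg.Lie.chevE6.x F 71 1, Cfsg.Lie.chevE6.x F 68 1 * Cfsg.Lie.chevE6.x F 66 1, Cfsg.Lie.chevE6.x F 55 1 * Cfsg.Lie.chevE6.x F 65 1 * Cfsg.Lie.chevE6.x F 67 1] → ((y₂ : GL Cfsg.Lie.chevE6.Idx F) : Matrix Cfsg.Lie.chevE6.Idx Cfsg.Lie.chevE6.Idx F) ∈ [Cfsg.Lie.chevE6.x F 71 1, Cfsg.Lie.chevE6.x F 68 1 * Cfsg.Lie.chevE6.x F 66 1, Cfsg.Lie.chevE6.x F 55 1 * Cfsg.Lie.chevE6.x F 65 1 * Cfsg.Lie.chevE6.x F 67 1] →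
      (∃ h ∈ Cfsg.Lie.chevE6.group F, h * y₁ * h⁻¹ = y₂) → ((y₁ : GL Cfsg.Lie.chevE6.Idx F) : Matrix Cfsg.Lie.chevE6.Idx Cfsg.Lie.chevE6.Idx F) = ((y₂ : GL Cfsg.Lie.chevE6.Idx F) : Matrix Cfsg.Lie.chevE6.Idx Cfsg.Lie.chevE6.Idx F)) := by
  refine ⟨fun y hy => ?_, fun g hg h2 => ?_, fun y₁ _ y₂ _ h₁ h₂ hc => ?_⟩
  · obtain ⟨K, hK, rfl⟩ := (mem_iff y).mp hy
    obtain ⟨hp, ho, k, hk, -, hr⟩ := rank_mem (F := F) hK
    exact ⟨sl.xG_mem_group K, sl.orderOf_xG hp ho hk hr⟩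
  · obtain ⟨K, hK, c, hc, e⟩ := sl.invol_conj_rep E6Data.InvolTwo.levels_ok
      E6Data.InvolTwo.tree_ok E6Data.InvolTwo.paths_ok hg h2
    exact ⟨sl.xG F K, sl.xG_mem_group K, (mem_iff _).mpr ⟨K, hK, rfl⟩, c, hc, e⟩
  · obtain ⟨K₁, hK₁, rfl⟩ := (mem_iff y₁).mp h₁
    obtain ⟨K₂, hK₂, rfl⟩ := (mem_iff y₂).mp h₂
    obtain ⟨c, -, e⟩ := hc
    obtain ⟨-, -, k₁, -, m₁, r₁⟩ := rank_mem (F := F) hK₁
    obtain ⟨-, -, k₂, -, m₂, r₂⟩ := rank_mem (F := F) hK₂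
    have hk := Tab.SL.rank_sub_one_conj e
    rw [r₁, r₂] at hk
    subst hk
    simp only [List.mem_cons, List.not_mem_nil, or_false, Prod.mk.injEq] at m₁ m₂
    rcases m₁ with ⟨rfl, rfl⟩ | ⟨rfl, rfl⟩ | ⟨rfl, rfl⟩ <;>
      rcases m₂ with ⟨h, rfl⟩ | ⟨h, rfl⟩ | ⟨h, rfl⟩ <;> first | rfl | omega

end Cfsg.Agent.S2175
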