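import Cfsg.Statements.S2176
import Cfsg.Agent.Chev.InvolTwoE8

set_option autoImplicit false
open Cfsg
open CfsgLib.Chev

namespace Cfsg.Agent.S2176

theorem sl : E8Data.tab.SL := ⟨good_E8, E8Data.InvolTwo.sl_ok⟩

section

variable {F : Type*} [Field F] [CharP F 2]

theorem mem_iff (y : GL Cfsg.Lie.chevE8.Idx F) :
    ((y : GL Cfsg.Lie.chevE8.Idx F) : Matrix Cfsg.Lie.chevE8.Idx Cfsg.Lie.chevE8.Idx F) ∈
      [Cfsg.Lie.chevE8.x F 239 1, Cfsg.Lie.chevE8.x F 232 1 * Cfsg.Lie.chevE8.x F 233 1,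
        Cfsg.Lie.chevE8.x F 228 1 * Cfsg.Lie.chevE8.x F 222 1 * Cfsg.Lie.chevE8.x F 218 1,
        Cfsg.Lie.chevE8.x F 226 1 * Cfsg.Lie.chevE8.x F 220 1 * Cfsg.Lie.chevE8.x F 213 1 *
          Cfsg.Lie.chevE8.x F 216 1] ↔
    ∃ K ∈ E8Data.InvolTwo.reps, y = sl.xG F K := by
  simp only [E8Data.InvolTwo.reps, List.mem_cons, List.not_mem_nil, or_false, exists_eq_or_imp,
    exists_eq_left, Units.ext_iff, sl.coe_xG, List.map_cons, List.map_nil, List.prod_cons,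
    List.prod_nil, mul_one, mul_assoc]

theorem rank_mem {K : List ℕ} (hK : K ∈ E8Data.InvolTwo.reps) :
    (∀ r ∈ K, Tab.IsPos Cfsg.Lie.chevE8 r) ∧ E8Data.tab.OrthL K ∧
      ∃ k, k ≠ 0 ∧
      (k, K) ∈ [(58, [239]), (92, [232, 233]), (110, [228, 222, 218]), (120, [226, 220, 213, 216])] ∧
      (((sl.xG F K : GL Cfsg.Lie.chevE8.Idx F) :
        Matrix Cfsg.Lie.chevE8.Idx Cfsg.Lie.chevE8.Idx F) - 1).rank = k := by
  simp only [E8Data.InvolTwo.reps, List.mem_cons, List.not_mem_nil, or_false] at hK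
  rcases hK with rfl | rfl | rfl | rfl
  · exact ⟨by decide, List.pairwise_singleton _ _, 58, by omega, by simp,
      sl.rank_eq E8Data.InvolTwo.rank0⟩
  · exact ⟨by decide, by unfold Tab.OrthL; decide +kernel, 92, by omega, by simp,
      sl.rank_eq E8Data.InvolTwo.rank1⟩
  · exact ⟨by decide, by unfold Tab.OrthL; decide +kernel, 110, by omega, by simp,
      sl.rank_eq E8Data.InvolTwo.rank2⟩
  · exact ⟨by decide, by unfold Tab.OrthL; decide +kernel, 120, by omega, by simp,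
      sl.rank_eq E8Data.InvolTwo.rank3⟩

end

/-- Conjugacy classes of involutions in the Chevalley group of type E₈ over a finite field F of characteristic two (the matrix group generated by the root elements x_r(t)). In this problem's root numbering for type E₈ (the Chevalley data module; fundamental roots numbered so that p₁–p₃–p₄–p₅–p₆–p₇–p₈ is the long chain of the diagram and p₂ is joined to p₄; roots indexed by their coefficient vectors in increasing order) let r = 239 be the highest root (2,3,4,6,5,4,3,2), α = 232 = (2,2,4,5,4,3,2,1), β = 233 = (2,3,3,5,4,3,2,1), γ = 228 = (2,2,3,4,3,2,2,1), δ = 222 = (1,2,3,4,3,3,2,1), ε = 218 = (1,2,2,4,4,3,2,1), φ = 226 = (2,2,3,4,3,2,1,0), ψ = 220 = (1,2,3,4,3,2,1,1), θ = 213 = (1,2,2,3,3,3,2,1), ω = 216 = (1,2,2,4,3,2,2,1) (the roots within each of {α, β}, {γ, δ, ε}, {φ, ψ, θ, ω} pairwise orthogonal);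 consider x_r(1), x_α(1)x_β(1), x_γ(1)x_δ(1)x_ε(1) and x_φ(1)x_ψ(1)x_θ(1)x_ω(1). Then: each invertible matrix equal to one of these four products lies in the group and has order 2; every element of order 2 of the group is conjugate in the group to one of them; and no two of them are conjugate in the group (so, the four matrices being distinct, the group has exactly four conjugacy classes of involutions). -/
theorem result {F : Type*} [Field F] [Fintype F] [CharP F 2] :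
    (∀ y : GL Cfsg.Lie.chevE8.Idx F, ((y : GL Cfsg.Lie.chevE8.Idx F) : Matrix Cfsg.Lie.chevE8.Idx Cfsg.Lie.chevE8.Idx F) ∈ [Cfsg.Lie.chevE8.x F 239 1, Cfsg.Lie.chevE8.x F 232 1 * Cfsg.Lie.chevE8.x F 233 1, Cfsg.Lie.chevE8.x F 228 1 * Cfsg.Lie.chevE8.x F 222 1 * Cfsg.Lie.chevE8.x F 218 1, Cfsg.Lie.chevE8.x F 226 1 * Cfsg.Lie.chevE8.x F 220 1 * Cfsg.Lie.chevE8.x F 213 1 * Cfsg.Lie.chevE8.x F 216 1] → y ∈ Cfsg.Lie.chevE8.group F ∧ orderOf y = 2) ∧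
    (∀ g ∈ Cfsg.Lie.chevE8.group F, orderOf g = 2 → ∃ y ∈ Cfsg.Lie.chevE8.group F, ((y : GL Cfsg.Lie.chevE8.Idx F) : Matrix Cfsg.Lie.chevE8.Idx Cfsg.Lie.chevE8.Idx F) ∈ [Cfsg.Lie.chevE8.x F 239 1, Cfsg.Lie.chevE8.x F 232 1 * Cfsg.Lie.chevE8.x F 233 1, Cfsg.Lie.chevE8.x F 228 1 * Cfsg.Lie.chevE8.x F 222 1 * Cfsg.Lie.chevE8.x F 218 1, Cfsg.Lie.chevE8.x F 226 1 * Cfsg.Lie.chevE8.x F 220 1 * Cfsg.Lie.chevE8.x F 213 1 * Cfsg.Lie.chevE8.x F 216 1] ∧ ∃ h ∈ Cfsg.Lie.chevE8.group F, h * g * h⁻¹ = y) ∧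
    (∀ y₁ ∈ Cfsg.Lie.chevE8.group F, ∀ y₂ ∈ Cfsg.Lie.chevE8.group F, ((y₁ : GL Cfsg.Lie.chevE8.Idx F) : Matrix Cfsg.Lie.chevE8.Idx Cfsg.Lie.chevE8.Idx F) ∈ [Cfsg.Lie.chevE8.x F 239 1, Cfsg.Lie.chevE8.x F 232 1 * Cfsg.Lie.chevE8.x F 233 1, Cfsg.Lie.chevE8.x F 228 1 * Cfsg.Lie.chevE8.x F 222 1 * Cfsg.Lie.chevE8.x F 218 1, Cfsg.Lie.chevE8.x F 226 1 * Cfsg.Lie.chevE8.x F 220 1 * Cfsg.Lie.chevE8.x F 213 1 * Cfsg.Lie.chevE8.x F 216 1] → ((y₂ : GL Cfsg.Lie.chevE8.Idx F) : Matrix Cfsg.Lie.chevE8.Idx Cfsg.Lie.chevE8.Idx F) ∈ [Cfsg.Lie.chevE8.x F 239 1, Cfsg.Lie.chevE8.x F 232 1 * Cfsg.Lie.chevE8.x F 233 1, Cfsg.Lie.chevE8.x F 228 1 * Cfsg.Lie.chevE8.x F 222 1 * Cfsg.Lie.chevE8.x F 218 1, Cfsg.Lie.chevE8.x F 226 1 * Cfsg.Lie.chevE8.x F 220 1 * Cfsg.Lie.chevE8.x F 213 1 * Cfsg.Lie.chevE8.x F 216 1] →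
      (∃ h ∈ Cfsg.Lie.chevE8.group F, h * y₁ * h⁻¹ = y₂) → ((y₁ : GL Cfsg.Lie.chevE8.Idx F) : Matrix Cfsg.Lie.chevE8.Idx Cfsg.Lie.chevE8.Idx F) = ((y₂ : GL Cfsg.Lie.chevE8.Idx F) : Matrix Cfsg.Lie.chevE8.Idx Cfsg.Lie.chevE8.Idx F)) := by
  refine ⟨fun y hy => ?_, fun g hg h2 => ?_, fun y₁ _ y₂ _ h₁ h₂ hc => ?_⟩
  · obtain ⟨K, hK, rfl⟩ := (mem_iff y).mp hy
    obtain ⟨hp, ho, k, hk, -, hr⟩ := rank_mem (F := F) hK
    exact ⟨sl.xG_mem_group K, sl.orderOf_xG hp ho hk hr⟩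
  · obtain ⟨K, hK, c, hc, e⟩ := sl.invol_conj_rep_heis E8Data.InvolTwo.heis_ok
      E8Data.InvolTwo.levels_ok E8Data.InvolTwo.tree_ok E8Data.InvolTwo.paths_ok hg h2
    exact ⟨sl.xG F K, sl.xG_mem_group K, (mem_iff _).mpr ⟨K, hK, rfl⟩, c, hc, e⟩
  · obtain ⟨K₁, hK₁, rfl⟩ := (mem_iff y₁).mp h₁
    obtain ⟨K₂, hK₂, rfl⟩ := (mem_iff y₂).mp h₂
    obtain ⟨c, -, e⟩ := hc
    obtain ⟨-, -, k₁, -, m₁, r₁⟩ := rank_mem (F := F) hK₁
    obtain ⟨-, -, k₂, -, m₂, r₂⟩ := rank_mem (F := F) hK₂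
    have hk := Tab.SL.rank_sub_one_conj e
    rw [r₁, r₂] at hk
    subst hk
    simp only [List.mem_cons, List.not_mem_nil, or_false, Prod.mk.injEq] at m₁ m₂
    rcases m₁ with ⟨rfl, rfl⟩ | ⟨rfl, rfl⟩ | ⟨rfl, rfl⟩ | ⟨rfl, rfl⟩ <;>
      rcases m₂ with ⟨h, rfl⟩ | ⟨h, rfl⟩ | ⟨h, rfl⟩ | ⟨h, rfl⟩ <;> first | rfl | omega

end Cfsg.Agent.S2176
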