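import Cfsg.Statements.S2177
import Cfsg.Agent.Chev.G2TwoInvol

set_option autoImplicit false
open Cfsg

namespace Cfsg.Agent.S2177

/-- Conjugacy classes of involutions in the Chevalley group of type G₂ over a finite field F of characteristic two with at least four elements (the matrix group generated by the root elements x_r(t)). In this problem's root numbering for type G₂ (the Chevalley data module; p₁ = a short, p₂ = b long; roots indexed by coefficient vectors in increasing order) let 11 be the highest root 3a + 2b (long) and 9 the short root 2a + b; consider x_{3a+2b}(1) and x_{2a+b}(1). Then: each invertible matrix equal to one of these two products lies in the group and has order 2; every element of order 2 of the group is conjugate in the group to one of them; and no two of them are conjugate in the group (so, the two matrices being distinct, the group has exactly two conjugacy classes of involutions). -/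
theorem result {F : Type*} [Field F] [Fintype F] [CharP F 2] (hF : 4 ≤ Fintype.card F) :
    (∀ y : GL Cfsg.Lie.chevG2.Idx F, ((y : GL Cfsg.Lie.chevG2.Idx F) : Matrix Cfsg.Lie.chevG2.Idx Cfsg.Lie.chevG2.Idx F) ∈ [Cfsg.Lie.chevG2.x F 11 1, Cfsg.Lie.chevG2.x F 9 1] → y ∈ Cfsg.Lie.chevG2.group F ∧ orderOf y = 2) ∧
    (∀ g ∈ Cfsg.Lie.chevG2.group F, orderOf g = 2 → ∃ y ∈ Cfsg.Lie.chevG2.group F, ((y : GL Cfsg.Lie.chevG2.Idx F) : Matrix Cfsg.Lie.chevG2.Idx Cfsg.Lie.chevG2.Idx F) ∈ [Cfsg.Lie.chevG2.x F 11 1, Cfsg.Lie.chevG2.x F 9 1] ∧ ∃ h ∈ Cfsg.Lie.chevG2.group F, h * g * h⁻¹ = y) ∧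
    (∀ y₁ ∈ Cfsg.Lie.chevG2.group F, ∀ y₂ ∈ Cfsg.Lie.chevG2.group F, ((y₁ : GL Cfsg.Lie.chevG2.Idx F) : Matrix Cfsg.Lie.chevG2.Idx Cfsg.Lie.chevG2.Idx F) ∈ [Cfsg.Lie.chevG2.x F 11 1, Cfsg.Lie.chevG2.x F 9 1] → ((y₂ : GL Cfsg.Lie.chevG2.Idx F) : Matrix Cfsg.Lie.chevG2.Idx Cfsg.Lie.chevG2.Idx F) ∈ [Cfsg.Lie.chevG2.x F 11 1, Cfsg.Lie.chevG2.x F 9 1] →
      (∃ h ∈ Cfsg.Lie.chevG2.group F, h * y₁ * h⁻¹ = y₂) → ((y₁ : GL Cfsg.Lie.chevG2.Idx F) : Matrix Cfsg.Lie.chevG2.Idx Cfsg.Lie.chevG2.Idx F) = ((y₂ : GL Cfsg.Lie.chevG2.Idx F) : Matrix Cfsg.Lie.chevG2.Idx Cfsg.Lie.chevG2.Idx F)) := by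
  open CfsgLib.Chev in
  have H : ∀ y : GL Cfsg.Lie.chevG2.Idx F,
      ((y : GL Cfsg.Lie.chevG2.Idx F) : Matrix Cfsg.Lie.chevG2.Idx Cfsg.Lie.chevG2.Idx F) ∈
        [Cfsg.Lie.chevG2.x F 11 1, Cfsg.Lie.chevG2.x F 9 1] →
      y = good_G2.full.x 11 (1 : F) ∨ y = good_G2.full.x 9 (1 : F) := fun y hy => by
    simpa [good_G2.full.eq_x] using hy
  open CfsgLib.Chev in
  refine ⟨fun y hy => ?_, fun g hg hg2 => ?_, fun y₁ _ y₂ _ h1 h2 hh => ?_⟩
  · have hord : ∀ r < Cfsg.Lie.chevG2.nroots, orderOf (good_G2.full.x r (1 : F)) = 2 := fun r hr => by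
      refine orderOf_eq_prime ?_ fun h => one_ne_zero (good_G2.x_eq_one hr h)
      rw [pow_two, good_G2.full.x_add, CharTwo.add_self_eq_zero, good_G2.full.x_zero]
    rcases H y hy with rfl | rfl
    · exact ⟨good_G2.x_mem_group _ _, hord 11 (by decide)⟩
    · exact ⟨good_G2.x_mem_group _ _, hord 9 (by decide)⟩
  · obtain ⟨u, hu, hgu⟩ := G2Two.exists_conj_pos hg hg2
    have hne : g ≠ 1 := fun h => by rw [h, orderOf_one] at hg2; omega
    have hu1 : u ≠ 1 := fun h => by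
      obtain ⟨k, -, e⟩ := hgu
      rw [h, conj_eq_one_iff] at e
      exact hne e
    have hg1 : g * g = 1 := by
      have := pow_orderOf_eq_one g
      rwa [hg2, pow_two] at this
    rcases G2Two.classify hu hu1 (hgu.sq hg1) with h | h
    · exact ⟨good_G2.full.x 11 1, good_G2.x_mem_group _ _, by simp [good_G2.full.coe_x'], hgu.trans h⟩
    · exact ⟨good_G2.full.x 9 1, good_G2.x_mem_group _ _, by simp [good_G2.full.coe_x'], hgu.trans h⟩
  · obtain ⟨k, hk, e⟩ := hh
    rcases H y₁ h1 with rfl | rfl <;> rcases H y₂ h2 with rfl | rfl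
    · rfl
    · exact (G2Two.not_sim hk e).elim
    · exact (G2Two.not_sim (inv_mem hk) (by rw [← e]; group)).elim
    · rfl

end Cfsg.Agent.S2177
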