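import Cfsg.Statements.S2181
import Cfsg.Agent.Chev.InvolTwoE7

set_option autoImplicit false
open Cfsg
open CfsgLib.Chev

namespace Cfsg.Agent.S2181

theorem sl : E7Data.tab.SL := ⟨good_E7, E7Data.InvolTwo.sl_ok⟩

theorem rank_reps {F : Type*} [Field F] [CharP F 2] :
    ∀ i : Fin 5, (∀ r ∈ E7Data.InvolTwo.reps.getD i [], Tab.IsPos Cfsg.Lie.chevE7 r) ∧
      E7Data.tab.OrthL (E7Data.InvolTwo.reps.getD i []) ∧
      (((sl.xG F (E7Data.InvolTwo.reps.getD i []) : GL Cfsg.Lie.chevE7.Idx F) :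
        Matrix Cfsg.Lie.chevE7.Idx Cfsg.Lie.chevE7.Idx F) - 1).rank =
          [34, 52, 53, 62, 63].getD i 0 := by
  intro i
  fin_cases i
  · exact ⟨by decide, List.pairwise_singleton _ _, sl.rank_eq E7Data.InvolTwo.rank0⟩
  · exact ⟨by decide, by unfold Tab.OrthL; decide +kernel, sl.rank_eq E7Data.InvolTwo.rank1⟩
  · exact ⟨by decide, by unfold Tab.OrthL; decide +kernel, sl.rank_eq E7Data.InvolTwo.rank2⟩
  · exact ⟨by decide, by unfold Tab.OrthL; decide +kernel, sl.rank_eq E7Data.InvolTwo.rank3⟩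
  · exact ⟨by decide, by unfold Tab.OrthL; decide +kernel, sl.rank_eq E7Data.InvolTwo.rank4⟩

/-- The Chevalley group of type E₇ over a finite field of characteristic two (the matrix group generated by the root elements) has exactly five conjugacy classes of elements of order 2. -/
theorem result {F : Type*} [Field F] [Fintype F] [CharP F 2] :
    (ConjClasses.mk '' {g : ↥(Cfsg.Lie.chevE7.group F) | orderOf g = 2}).ncard = 5 := by
  classical
  let y : Fin 5 → ↥(Cfsg.Lie.chevE7.group F) := fun i =>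
    ⟨sl.xG F (E7Data.InvolTwo.reps.getD i []), sl.xG_mem_group _⟩
  have hinj : Function.Injective fun i => ConjClasses.mk (y i) := by
    intro i j h
    rw [ConjClasses.mk_eq_mk_iff_isConj, isConj_iff] at h
    obtain ⟨c, hc⟩ := h
    have hr := Tab.SL.rank_sub_one_conj (congrArg Subtype.val hc)
    simp only [y] at hr
    rw [(rank_reps j).2.2, (rank_reps i).2.2] at hr
    fin_cases i <;> fin_cases j <;> first | rfl | simp at hr
  have himg : ConjClasses.mk '' {g : ↥(Cfsg.Lie.chevE7.group F) | orderOf g = 2} =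
      Set.range fun i => ConjClasses.mk (y i) := by
    refine Set.Subset.antisymm ?_ ?_
    · rintro _ ⟨g, hg, rfl⟩
      obtain ⟨K, hK, c, hc, e⟩ := sl.invol_conj_rep E7Data.InvolTwo.levels_ok
        E7Data.InvolTwo.tree_ok E7Data.InvolTwo.paths_ok g.2 ((Subgroup.orderOf_coe g).trans hg)
      obtain ⟨i, hi, rfl⟩ := List.mem_iff_getElem.mp hK
      refine ⟨⟨i, hi⟩, (ConjClasses.mk_eq_mk_iff_isConj.mpr (isConj_iff.mpr ⟨⟨c, hc⟩, ?_⟩)).symm⟩
      refine Subtype.ext (e.trans ?_)
      simp only [y, List.getD_eq_getElem _ _ hi]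
    · rintro _ ⟨i, rfl⟩
      refine ⟨y i, ?_, rfl⟩
      show orderOf (y i) = 2
      rw [← Subgroup.orderOf_coe]
      obtain ⟨hp, ho, hr⟩ := rank_reps (F := F) i
      exact sl.orderOf_xG hp ho (by fin_cases i <;> simp) hr
  rw [himg, Set.ncard_range_of_injective hinj, Nat.card_fin]

end Cfsg.Agent.S2181
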