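import Cfsg.Statements.S2182
import Cfsg.Agent.Chev.InvolTwistE6Cert
import Cfsg.Agent.Chev.InvolTwistStart
import Cfsg.Agent.Chev.InvolTwoE6
import Cfsg.Agent.Chev.E6TwOut

set_option autoImplicit false
open Cfsg

namespace Cfsg.Agent.S2182

open CfsgLib.Chev CfsgLib.Chev.InvolTwist

theorem map_ok : ∀ r : Fin Cfsg.Lie.chevE6.nroots,
    patE6.p r.val = (Tab.mapAt graphMapE6 r.val).1 ∧
      (Tab.mapAt graphMapE6 r.val).2.2 = 1 ∧ ((Tab.mapAt graphMapE6 r.val).2.1 = 1 ∨
        (Tab.mapAt graphMapE6 r.val).2.1 = -1) := by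
  decide +kernel

theorem start_ok : chkStart E6Data.tab patE6 = true := by decide +kernel

theorem sl : E6Data.tab.SL := ⟨good_E6, E6Data.InvolTwo.sl_ok⟩

theorem rank_reps {K : Type*} [Field K] [CharP K 2] :
    ∀ i : Fin 3, (∀ r ∈ repsE6.getD i [], Tab.IsPos Cfsg.Lie.chevE6 r) ∧
      E6Data.tab.OrthL (repsE6.getD i []) ∧
      (((sl.xG K (repsE6.getD i []) : GL Cfsg.Lie.chevE6.Idx K) :
        Matrix Cfsg.Lie.chevE6.Idx Cfsg.Lie.chevE6.Idx K) - 1).rank = [22, 32, 38].getD i 0 := by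
  intro i
  fin_cases i
  · exact ⟨by decide, List.pairwise_singleton _ _, sl.rank_eq E6Data.InvolTwo.rank0⟩
  · exact ⟨by decide, by unfold Tab.OrthL; decide +kernel, sl.rank_eq E6Data.InvolTwo.rank1⟩
  · exact ⟨by decide, by unfold Tab.OrthL; decide +kernel, sl.rank_eq E6Data.InvolTwo.rank2⟩

theorem reps_stable : ∀ i : Fin 3, patE6.okS (patE6.sorted (repsE6.getD i [])) = true ∧
    red E6Data.tab patE6 (repsE6.getD i []) = some (patE6.sorted (repsE6.getD i [])) := by
  decide +kernel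

/-- The twisted group ²E₆(q), q even, realised inside the Chevalley group of type E₆ over the field K with q² elements, has exactly three conjugacy classes of elements of order 2. -/
theorem result {K : Type*} [Field K] [Fintype K] [CharP K 2] (q : ℕ) (hK : Fintype.card K = q ^ 2) :
    (ConjClasses.mk '' {g : ↥(Cfsg.Lie.twistedE6 K q) | orderOf g = 2}).ncard = 3 := by
  classical
  obtain ⟨n, -, hn⟩ := FiniteField.card K 2
  obtain ⟨m, -, hm⟩ := (Nat.dvd_prime_pow Nat.prime_two).mp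
    (show q ∣ 2 ^ (n : ℕ) from ⟨q, by rw [← hn, hK, pow_two]⟩)
  have hm0 : m ≠ 0 := by
    rintro rfl
    have := Fintype.one_lt_card (α := K)
    rw [hK, hm] at this
    simp at this
  have hq : IsPrimePow q := ⟨2, m, Nat.prime_two.prime, Nat.pos_of_ne_zero hm0, hm.symm⟩
  obtain ⟨C⟩ := E6Tw.exists_ctx hq hK
  have h20 : (2 : K) = 0 := CharP.cast_eq_zero K 2
  let W : Setup E6Data.tab good_E6 K patE6 :=
    { Φ := C.Φ
      q := q
      hpat := patE6_ok
      hπ := fun r => by rw [C.hπ, (map_ok r).1]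
      hρ := C.hρ
      hf := fun r t => by
        rw [C.hf, C.hφ, (map_ok r).2.1, pow_one]
        rcases (map_ok r).2.2 with h | h <;> simp [h, CharTwo.neg_self h20]
      hK := hK
      H := C.Z.G1
      hU := C.Z.U1_le
      hn := fun J hJ => C.A.n_mem (⟨J, hJ⟩ : Fin E6Tw.orbs.length)
      hH := C.Z.le_fix
      htor := fun c hc => C.A.torus_le (C.A.hT_mem_torus (C.A.mem_Cσ.mpr fun i => by
        rw [C.f_simp, hc i, Units.val_pow_eq_pow_val])) }
  rw [← C.grp_eq]
  show (ConjClasses.mk '' {g : ↥W.H | orderOf g = 2}).ncard = 3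
  have hmem : ∀ i : Fin 3, sl.xG K (repsE6.getD i []) ∈ W.H := fun i => by
    have e := W.red_sound (reps_stable i).2
    have := W.hU (W.el_S_fix (reps_stable i).1 (f := fun _ => 1) fun _ _ => (one_pow _).symm)
    rw [e] at this
    exact this
  let y : Fin 3 → ↥W.H := fun i => ⟨sl.xG K (repsE6.getD i []), hmem i⟩
  have hinj : Function.Injective fun i => ConjClasses.mk (y i) := by
    intro i j h
    rw [ConjClasses.mk_eq_mk_iff_isConj, isConj_iff] at h
    obtain ⟨c, hc⟩ := h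
    have hr := Tab.SL.rank_sub_one_conj (congrArg Subtype.val hc)
    simp only [y] at hr
    rw [(rank_reps j).2.2, (rank_reps i).2.2] at hr
    fin_cases i <;> fin_cases j <;> first | rfl | simp at hr
  have himg : ConjClasses.mk '' {g : ↥W.H | orderOf g = 2} =
      Set.range fun i => ConjClasses.mk (y i) := by
    refine Set.Subset.antisymm ?_ ?_
    · rintro _ ⟨g, hg, rfl⟩
      obtain ⟨S, hS⟩ : ∃ S : Sylow 2 W.H,
          (S : Subgroup W.H) ≤ (W.Φ.Fix ⊓ Cfsg.Lie.chevE6.posUnipotent K).subgroupOf W.H := by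
        haveI : Fact (Nat.Prime 2) := ⟨Nat.prime_two⟩
        obtain ⟨P, hP⟩ := C.exists_sylow 2 m hm
        exact ⟨P, hP.le⟩
      obtain ⟨c, f, hf, hcg⟩ := W.exists_conj start_ok hS (g := g) hg
      have hg2 : (g : GL Cfsg.Lie.chevE6.Idx K) * g = 1 := by
        rw [← Subgroup.coe_mul, ← pow_two, show g ^ 2 = 1 from hg ▸ pow_orderOf_eq_one g]
        rfl
      have hg1 : (g : GL Cfsg.Lie.chevE6.Idx K) ≠ 1 := fun e => by
        have : g = 1 := Subtype.ext e
        subst this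
        simp at hg
      obtain ⟨h2', h1'⟩ := InvolReduce.conj_props good_E6 (k := (c : GL Cfsg.Lie.chevE6.Idx K))
        hg2 hg1
      rw [show (c : GL Cfsg.Lie.chevE6.Idx K) * g * (c : GL Cfsg.Lie.chevE6.Idx K)⁻¹ =
        InvolReduce.el good_E6 patE6.ord f from hcg] at h2' h1'
      obtain ⟨hlen, hroot, hN⟩ := nodesE6_root
      have := W.covered (reps := repsE6)
        (R := repsE6.map fun K' => InvolReduce.el good_E6 K' fun _ => (1 : K))
        (fun k hk => List.mem_map.mpr ⟨_, by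
          rw [List.getD_eq_getElem _ _ hk]; exact List.getElem_mem _, rfl⟩)
        nodesE6_ok 916 (by omega) f hf
      rw [hroot, hN] at this
      obtain ⟨z, hz, d, hd, e⟩ := this (fun r hr => absurd hr List.not_mem_nil) h2' h1'
      obtain ⟨K', hK', rfl⟩ := List.mem_map.mp hz
      obtain ⟨i, hi, rfl⟩ := List.mem_iff_getElem.mp hK'
      refine ⟨⟨i, hi⟩, (ConjClasses.mk_eq_mk_iff_isConj.mpr
        (isConj_iff.mpr ⟨⟨d, hd⟩ * c, ?_⟩)).symm⟩
      refine Subtype.ext ?_
      show d * (c : GL Cfsg.Lie.chevE6.Idx K) * (g : GL Cfsg.Lie.chevE6.Idx K) *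
        (d * (c : GL Cfsg.Lie.chevE6.Idx K))⁻¹ = sl.xG K (repsE6.getD i [])
      rw [List.getD_eq_getElem _ _ hi, show d * (c : GL Cfsg.Lie.chevE6.Idx K) *
        (g : GL Cfsg.Lie.chevE6.Idx K) * (d * (c : GL Cfsg.Lie.chevE6.Idx K))⁻¹ =
          d * (c * g * (c : GL Cfsg.Lie.chevE6.Idx K)⁻¹) * d⁻¹ by group,
        show (c : GL Cfsg.Lie.chevE6.Idx K) * g * (c : GL Cfsg.Lie.chevE6.Idx K)⁻¹ =
          InvolReduce.el good_E6 patE6.ord f from hcg, e]
      rfl
    · rintro _ ⟨i, rfl⟩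
      refine ⟨y i, ?_, rfl⟩
      show orderOf (y i) = 2
      rw [← Subgroup.orderOf_coe]
      obtain ⟨hp, ho, hr⟩ := rank_reps (K := K) i
      exact sl.orderOf_xG hp ho (by fin_cases i <;> simp) hr
  rw [himg, Set.ncard_range_of_injective hinj, Nat.card_fin]

end Cfsg.Agent.S2182
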