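import Cfsg.Statements.S2186
import Cfsg.Agent.Chev.RootPairs

set_option autoImplicit false
open Cfsg

namespace Cfsg.Agent.S2186

open CfsgLib.Chev

theorem chk_G2 : G2Data.tab.chkPairs (Lie.chevG2.nroots - 1) (highOrbit Lie.chevG2) = true := by
  decide +kernel
theorem chk_D4 : D4Data.tab.chkPairs (Lie.chevD4.nroots - 1) (highOrbit Lie.chevD4) = true := by
  decide +kernel
theorem chk_E6 : E6Data.tab.chkPairs (Lie.chevE6.nroots - 1) (highOrbit Lie.chevE6) = true := by
  decide +kernel
theorem chk_E7 : E7Data.tab.chkPairs (Lie.chevE7.nroots - 1) (highOrbit Lie.chevE7) = true := by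
  decide +kernel
theorem chk_E8 : E8Data.tab.chkPairs (Lie.chevE8.nroots - 1) (highOrbit Lie.chevE8) = true := by
  decide +kernel

theorem aux {F : Type*} [Field F] [Finite F] (h2 : (2 : F) = 0) {D : Lie.ChevalleyDatum}
    {T : Tab D} (G : T.Good) (h : T.chkPairs (D.nroots - 1) (highOrbit D) = true)
    (hn : 2 ≤ D.nroots) {g : GL D.Idx F} (hg : g ∈ D.group F) :
    IsPGroup 2 ↥(D.rootSubgroup F (D.nroots - 1) ⊔ (D.rootSubgroup F (D.nroots - 1)).map (MulAut.conj g).toMonoidHom) ∨
    ∃ h ∈ D.group F, (D.rootSubgroup F (D.nroots - 1) ⊔ (D.rootSubgroup F (D.nroots - 1)).map (MulAut.conj g).toMonoidHom).map (MulAut.conj h).toMonoidHom = D.rootSubgroup F (D.nroots - 1) ⊔ D.rootSubgroup F 0 := by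
  have e : Tab.negR D (D.nroots - 1) = 0 := by simp [Tab.negR]
  have := G.pairs_dichotomy h2 (m := D.nroots - 1) ⟨by omega, by omega⟩ h hg
  rwa [e] at this

/-- Let G be the Chevalley group of type G₂ (over a field with at least four elements), D₄, E₆, E₇ or E₈ over a finite field F of characteristic two, and let X be the root subgroup of the highest root (the last root index) — a long root subgroup, of order |F|. For every g in G, the subgroup generated by X and its conjugate g X g⁻¹ is either a 2-group or is conjugate by an element of G to the subgroup generated by X and the root subgroup of the lowest root (index 0, the negative of the highest root), which is a copy of SL₂(F). -/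
theorem result {F : Type*} [Field F] [Fintype F] [CharP F 2] (D : Cfsg.Lie.ChevalleyDatum) (hD : D ∈ [Cfsg.Lie.chevG2, Cfsg.Lie.chevD4, Cfsg.Lie.chevE6, Cfsg.Lie.chevE7, Cfsg.Lie.chevE8]) (hF : D = Cfsg.Lie.chevG2 → 4 ≤ Fintype.card F) (g : GL D.Idx F) (hg : g ∈ D.group F) :
    IsPGroup 2 ↥(D.rootSubgroup F (D.nroots - 1) ⊔ (D.rootSubgroup F (D.nroots - 1)).map (MulAut.conj g).toMonoidHom) ∨
    ∃ h ∈ D.group F, (D.rootSubgroup F (D.nroots - 1) ⊔ (D.rootSubgroup F (D.nroots - 1)).map (MulAut.conj g).toMonoidHom).map (MulAut.conj h).toMonoidHom = D.rootSubgroup F (D.nroots - 1) ⊔ D.rootSubgroup F 0 := by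
  clear hF
  have h2 : (2 : F) = 0 := CharTwo.two_eq_zero
  simp only [List.mem_cons, List.not_mem_nil, or_false] at hD
  rcases hD with rfl | rfl | rfl | rfl | rfl
  · exact aux h2 good_G2 chk_G2 (by decide +kernel) hg
  · exact aux h2 good_D4 chk_D4 (by decide +kernel) hg
  · exact aux h2 good_E6 chk_E6 (by decide +kernel) hg
  · exact aux h2 good_E7 chk_E7 (by decide +kernel) hg
  · exact aux h2 good_E8 chk_E8 (by decide +kernel) hg

end Cfsg.Agent.S2186
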