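import Cfsg.Statements.S2197
import Cfsg.Agent.SplitBN.TitsNoTwoTrans

set_option autoImplicit false
open Cfsg

namespace Cfsg.Agent.S2197

open CfsgLib.Chev CfsgLib.SplitBN in
theorem key.{w} : ∀ (e : ℕ), e = 2 ^ 0 → ∀ (Ω : Type w) [Fintype Ω]
    [MulAction (commutator ↥(Cfsg.Lie.twistedF4 (ZMod 2) e)) Ω]
    [FaithfulSMul (commutator ↥(Cfsg.Lie.twistedF4 (ZMod 2) e)) Ω], 3 ≤ Fintype.card Ω →
      ¬ MulAction.IsMultiplyPretransitive (commutator ↥(Cfsg.Lie.twistedF4 (ZMod 2) e)) Ω 2 := by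
  obtain ⟨C⟩ := F4Tw.exists_ctx (K := ZMod 2) (m := 0) (ZMod.card 2)
  rintro e rfl Ω iF iM iS h3 h2
  exact @TitsPar.no_two_trans_of_ctx C Ω iF iM iS h3 h2

/-- The Tits group (the commutator subgroup of ²F₄(2)) has no faithful 2-transitive action on a finite set with more than two points. -/
theorem result {Ω : Type*} [Fintype Ω] [MulAction Cfsg.Lie.TitsGroup Ω] [FaithfulSMul Cfsg.Lie.TitsGroup Ω] (hΩ : 3 ≤ Fintype.card Ω) :
    ¬ MulAction.IsMultiplyPretransitive Cfsg.Lie.TitsGroup Ω 2 :=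
  key 1 (pow_zero 2).symm Ω hΩ

end Cfsg.Agent.S2197
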