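import Cfsg.Statements.S2205
import Cfsg.Agent.DeltaSq.Final

set_option autoImplicit false
open Cfsg
open scoped Pointwise

namespace Cfsg.Agent.S2205

/-- A finite group acting faithfully and 2-transitively on a set with p² + 1 points, p a prime, is doubly primitive — a point stabilizer acts primitively on the remaining p² points — unless p = 2 and the group is the Frobenius group of order 20. -/
theorem result {G Ω : Type*} [Group G] [Finite G] [Fintype Ω] [MulAction G Ω] [FaithfulSMul G Ω] (p : ℕ) (hp : p.Prime) (hΩ : Fintype.card Ω = p ^ 2 + 1) (h2 : MulAction.IsMultiplyPretransitive G Ω 2) (a : Ω) :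
    MulAction.IsPreprimitive ↥(MulAction.stabilizer G a) ↥(SubMulAction.ofStabilizer G a) ∨ (p = 2 ∧ Nat.card G = 20) := by
  classical
  haveI : Fact p.Prime := ⟨hp⟩
  have hcard : Nat.card Ω = p ^ 2 + 1 := by rw [Nat.card_eq_fintype_card, hΩ]
  have two : ∀ x y u v : Ω, x ≠ y → u ≠ v → ∃ g : G, g • x = u ∧ g • y = v :=
    fun x y u v hxy huv => (MulAction.is_two_pretransitive_iff.mp h2) hxy huv
  have H : CfsgLib.DeltaSq.Hyp G Ω p := ⟨hp, hcard, two⟩
  let X := ↥(SubMulAction.ofStabilizer G a)
  haveI htr : MulAction.IsPretransitive (MulAction.stabilizer G a) X := ⟨fun x y => by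
    obtain ⟨g, h1, h2'⟩ := two a x.1 a y.1 (Ne.symm x.2) (Ne.symm y.2)
    exact ⟨⟨g, h1⟩, Subtype.ext h2'⟩⟩
  have hXcard : Nat.card X = p ^ 2 := by
    show Nat.card ↥(SubMulAction.ofStabilizer G a) = _
    rw [SubMulAction.nat_card_ofStabilizer_eq, hcard]
    omega
  by_cases htriv : ∀ B : Set X, MulAction.IsBlock (MulAction.stabilizer G a) B →
      MulAction.IsTrivialBlock B
  · exact Or.inl { isTrivialBlock_of_isBlock := fun {B} hB => htriv B hB }
  right
  push Not at htriv
  obtain ⟨B0, hB0, hnt⟩ := htriv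
  simp only [MulAction.IsTrivialBlock, not_or] at hnt
  have hne : B0.Nonempty := Set.nonempty_iff_ne_empty.2 fun e => hnt.1 (by
    rw [e]; exact Set.subsingleton_empty)
  have hBp : B0.ncard = p := by
    obtain ⟨i, hi, hi'⟩ := (Nat.dvd_prime_pow hp).1 (hXcard ▸ hB0.ncard_dvd_card hne)
    rcases i with _ | _ | _ | i
    · exact absurd ((Set.ncard_le_one_iff_subsingleton).1 (by rw [hi', pow_zero])) hnt.1
    · rw [hi', pow_one]
    · exact absurd ((Set.eq_univ_iff_ncard B0).2 (by rw [hi', hXcard])) hnt.2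
    · omega
  let s : Set Ω := Subtype.val '' B0
  have hsc : s.ncard = p := by rw [Set.ncard_image_of_injective _ Subtype.val_injective, hBp]
  have hsa : a ∉ s := SubMulAction.notMem_val_image G B0
  have hblock : ∀ g : G, g • a = a → ∀ x ∈ s, g • x ∈ s → g • s = s := by
    rintro g hg _ ⟨x, hx, rfl⟩ ⟨y, hy, hy'⟩
    have hxy : (⟨g, hg⟩ : MulAction.stabilizer G a) • x = y := Subtype.ext hy'.symm
    have h := hB0.smul_eq_smul_or_disjoint (⟨g, hg⟩ : MulAction.stabilizer G a) 1
    rw [one_smul] at h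
    rcases h with h | h
    · have := congrArg (Set.image (Subtype.val : X → Ω)) h
      refine Eq.trans ?_ this
      rw [← Set.image_smul, ← Set.image_smul, Set.image_image, Set.image_image]
      rfl
    · exact absurd hy (Set.disjoint_left.1 h (by rw [← hxy]; exact Set.smul_mem_smul_set hx))
  have huniq : ∀ g g' : G, g • a = g' • a → ∀ x, x ∈ g • s → x ∈ g' • s → g • s = g' • s := by
    intro g g' e x hx hx'
    rw [Set.mem_smul_set_iff_inv_smul_mem] at hx hx'
    have h := hblock (g'⁻¹ * g) (by rw [mul_smul, e, inv_smul_smul]) _ hx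
      (by rw [mul_smul, smul_inv_smul]; exact hx')
    rw [mul_smul, inv_smul_eq_iff] at h
    exact h
  let blk : Ω → Ω → Set Ω := fun u v => {w | ∃ g : G, g • a = u ∧ v ∈ g • s ∧ w ∈ g • s}
  have hex : ∀ {u v : Ω}, u ≠ v → ∃ g : G, g • a = u ∧ v ∈ g • s := by
    intro u v huv
    obtain ⟨x, hx⟩ : s.Nonempty := hne.image _
    obtain ⟨g, h1, h2'⟩ := two a x u v (fun e => hsa (e ▸ hx)) huv
    exact ⟨g, h1, h2' ▸ Set.smul_mem_smul_set hx⟩
  have hblk : ∀ {u v : Ω} {g : G}, g • a = u → v ∈ g • s → blk u v = g • s := by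
    intro u v g hg hv
    ext w
    constructor
    · rintro ⟨g', hg', hv', hw⟩
      rwa [huniq g g' (hg.trans hg'.symm) v hv hv']
    · exact fun hw => ⟨g, hg, hv, hw⟩
  let S : CfsgLib.DeltaSq.Sys G Ω p :=
    { blk := blk
      mem := fun {u v} huv => by
        obtain ⟨g, h1, h2'⟩ := hex huv
        rw [hblk h1 h2']; exact h2'
      notMem := fun {u v} huv => by
        obtain ⟨g, h1, h2'⟩ := hex huv
        rw [hblk h1 h2', ← h1, Set.smul_mem_smul_set_iff]
        exact hsa
      eq_of_mem := fun {u v w} huv hw => by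
        obtain ⟨g, h1, h2'⟩ := hex huv
        rw [hblk h1 h2'] at hw ⊢
        exact hblk h1 hw
      card := fun {u v} huv => by
        obtain ⟨g, h1, h2'⟩ := hex huv
        rw [hblk h1 h2', Set.ncard_smul_set, hsc]
      smul := fun g u v => by
        ext w
        rw [Set.mem_smul_set_iff_inv_smul_mem]
        constructor
        · rintro ⟨h, e1, e2, e3⟩
          refine ⟨g * h, by rw [mul_smul, e1], by rw [mul_smul]; exact Set.smul_mem_smul_set e2, ?_⟩
          rw [mul_smul, Set.mem_smul_set_iff_inv_smul_mem]; exact e3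
        · rintro ⟨h, e1, e2, e3⟩
          refine ⟨g⁻¹ * h, by rw [mul_smul, e1, inv_smul_smul], ?_, ?_⟩
          · rw [mul_smul, ← Set.smul_mem_smul_set_iff (a := g), smul_inv_smul]; exact e2
          · rw [mul_smul, ← Set.smul_mem_smul_set_iff (a := g), smul_inv_smul, smul_inv_smul]
            exact e3 }
  obtain ⟨b, hb⟩ : ∃ b, a ≠ b := ⟨(hne.choose : X).1, Ne.symm (hne.choose : X).2⟩
  obtain ⟨C, hCa, hCb⟩ := CfsgLib.DeltaSq.exists_ctx H S hb
  by_cases hp2 : p = 2
  · subst hp2
    refine ⟨rfl, ?_⟩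
    haveI : MulAction.IsPretransitive G Ω := MulAction.isPretransitive_of_is_two_pretransitive
    have h := Subgroup.card_mul_index (MulAction.stabilizer G C.a)
    rw [MulAction.index_stabilizer_of_transitive, C.card_stab, C.card_Y_two, hcard] at h
    omega
  · exact (CfsgLib.DeltaSq.Ctx.false_odd C hp2).elim

end Cfsg.Agent.S2205
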