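import Cfsg.Statements.S2220
import Cfsg.Agent.NineOne.Main
import Cfsg.Agent.NineTwo.Recognition
import Cfsg.Agent.S3341

set_option autoImplicit false
open Cfsg

namespace Cfsg.Agent.S2220

/-- Let G be a non-abelian finite simple group of order 9·2ᵃ·qᵇ for a prime q other than 2 and 3, and suppose a Sylow 3-subgroup R of G is strongly self-centralizing: C_G(k) = R for every nonidentity k ∈ R. Then G is isomorphic to the alternating group of degree 6, to PSL(2,8) or to PSL(2,17). -/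
theorem result {G : Type*} [Group G] [Finite G] [IsSimpleGroup G] (hG : ¬ IsMulCommutative G)
    (q a b : ℕ) (hq : q.Prime) (hq2 : q ≠ 2) (hq3 : q ≠ 3) (hcard : Nat.card G = 9 * 2 ^ a * q ^ b)
    (R : Sylow 3 G) (hR : ∀ k ∈ (R : Subgroup G), k ≠ 1 → Subgroup.centralizer ({k} : Set G) = R) :
    Nonempty (G ≃* ↥(alternatingGroup (Fin 6))) ∨
      (∃ (F : Type) (_ : Field F) (_ : Fintype F), Fintype.card F = 8 ∧
        Nonempty (G ≃* Matrix.ProjectiveSpecialLinearGroup (Fin 2) F)) ∨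
      Nonempty (G ≃* Matrix.ProjectiveSpecialLinearGroup (Fin 2) (ZMod 17)) := by
  haveI : Fact (Nat.Prime 3) := ⟨Nat.prime_three⟩
  have h9 := CfsgLib.NineTwo.card_sylow hq hq3 hcard R
  have hcomm := CfsgLib.NineTwo.sylow_comm hq hq3 hcard R
  by_cases hcyc : ∃ r ∈ (R : Subgroup G), orderOf r = 9
  · obtain ⟨r, hr, hord⟩ := hcyc
    exact Or.inr (CfsgLib.NineTwo.psl_of_invFusion hG hq hq2 hq3 hcard R
      (CfsgLib.NineTwo.invFusion_of_act hG R h9 hcomm fun n hn =>
        CfsgLib.NineTwo.cyclic_act hq hq3 hcard R hcomm hr hord hn))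
  have hexp : ∀ k ∈ (R : Subgroup G), k ^ 3 = 1 := by
    intro k hk
    have hd : orderOf k ∣ 3 ^ 2 := by
      have h := Subgroup.orderOf_dvd_natCard _ hk
      rw [h9] at h
      exact h
    obtain ⟨i, hi, hi'⟩ := (Nat.dvd_prime_pow Nat.prime_three).1 hd
    refine orderOf_dvd_iff_pow_eq_one.1 ?_
    interval_cases i
    · rw [hi']; norm_num
    · rw [hi']; norm_num
    · exact absurd ⟨k, hk, by rw [hi']; norm_num⟩ hcyc
  by_cases hcl : ∃ c d : G, orderOf c = 3 ∧ orderOf d = 3 ∧ ∀ g : G, g * c * g⁻¹ ≠ d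
  · exact Or.inl (Cfsg.Agent.S3341.result R R rfl hcomm hexp h9 hcl hR)
  push Not at hcl
  refine (CfsgLib.NineOne.Hyp.false_of_one_class (q := q) (a := a) (b := b) (R := (R : Subgroup G))
    ⟨inferInstance, hG, hq, hq2, hq3, hcard,
      ⟨h9, hexp, fun c hc d hd => setLike_mul_comm (S := Subgroup G) hc hd, hR⟩, ?_⟩).elim
  intro s hs hs1 r hr hr1
  exact isConj_iff.2 (hcl s r (orderOf_eq_prime (hexp s hs) hs1) (orderOf_eq_prime (hexp r hr) hr1))

end Cfsg.Agent.S2220
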