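import Cfsg.Statements.S2221
import Cfsg.Agent.SylowAlt.Decompose

set_option autoImplicit false
open Cfsg
open Equiv CfsgLib.SylowAlt CfsgLib.SylowAltDec

namespace Cfsg.Agent.S2221

/-- A Sylow 2-subgroup of `A_4` or `A_5` splits. -/
theorem small (n : ℕ) (hn : n = 4 ∨ n = 5) (P : Sylow 2 (alternatingGroup (Fin n))) :
    ∃ S₁ S₂ : Subgroup (alternatingGroup (Fin n)), S₁ ≠ ⊥ ∧ S₂ ≠ ⊥ ∧
      Cfsg.IsInternalDirectProduct S₁ S₂ (P : Subgroup (alternatingGroup (Fin n))) := by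
  have hcard : Nat.card (alternatingGroup (Fin n)) = 12 ∨ Nat.card (alternatingGroup (Fin n)) = 60 := by
    haveI : Nontrivial (Fin n) := Fin.nontrivial_iff_two_le.mpr (by omega)
    rw [nat_card_alternatingGroup, Nat.card_fin]
    rcases hn with rfl | rfl
    · left; rfl
    · right; rfl
  have hsq : ∀ g : alternatingGroup (Fin n), g ^ 4 = 1 → g ^ 2 = 1 := by
    rcases hn with rfl | rfl
    · decide +kernel
    · decide +kernel
  obtain ⟨k, hk⟩ := P.2.exists_card_eq
  have hmul := (P : Subgroup (alternatingGroup (Fin n))).card_mul_index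
  have hodd := P.not_dvd_index
  rw [hk] at hmul
  have hk4 : k = 2 := by
    have hle : k < 3 := by
      by_contra hc
      obtain ⟨j, rfl⟩ : ∃ j, k = 3 + j := ⟨k - 3, by omega⟩
      rw [pow_add, mul_assoc] at hmul
      rcases hcard with h | h <;> rw [h] at hmul <;> omega
    interval_cases k <;> rcases hcard with h | h <;> rw [h] at hmul <;> simp at hmul <;> omega
  subst hk4
  have hexp : ∀ g ∈ (P : Subgroup (alternatingGroup (Fin n))), g * g = 1 := fun g hg => by
    rw [← pow_two]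
    apply hsq
    have h1 : (⟨g, hg⟩ : (P : Subgroup (alternatingGroup (Fin n)))) ^ 4 = 1 := by
      have h4 : Nat.card (P : Subgroup (alternatingGroup (Fin n))) = 4 := by rw [hk]; norm_num
      rw [← h4, pow_card_eq_one']
    exact congrArg Subtype.val h1
  haveI hnt : Nontrivial (P : Subgroup (alternatingGroup (Fin n))) :=
    Finite.one_lt_card_iff_nontrivial.mp (by rw [hk]; norm_num)
  obtain ⟨⟨a, haP⟩, ha1⟩ := exists_ne (1 : (P : Subgroup (alternatingGroup (Fin n))))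
  have ha : a ≠ 1 := fun e => ha1 (Subtype.ext e)
  have hoa : Nat.card (Subgroup.zpowers a) = 2 := by
    rw [Nat.card_zpowers]; exact orderOf_eq_prime (by rw [pow_two]; exact hexp a haP) ha
  have hle : Subgroup.zpowers a ≤ (P : Subgroup (alternatingGroup (Fin n))) :=
    Subgroup.zpowers_le.mpr haP
  obtain ⟨b, hbP, hb⟩ : ∃ b ∈ (P : Subgroup (alternatingGroup (Fin n))), b ∉ Subgroup.zpowers a := by
    by_contra hc
    simp only [not_exists, not_and, not_not] at hc
    have := Nat.card_congr (Equiv.setCongr (congrArg SetLike.coe (le_antisymm hle hc)))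
    rw [SetLike.coe_sort_coe, SetLike.coe_sort_coe, hoa, hk] at this
    norm_num at this
  have hb1 : b ≠ 1 := fun e => hb (e ▸ Subgroup.one_mem _)
  have hob : Nat.card (Subgroup.zpowers b) = 2 := by
    rw [Nat.card_zpowers]; exact orderOf_eq_prime (by rw [pow_two]; exact hexp b hbP) hb1
  have hleb : Subgroup.zpowers b ≤ (P : Subgroup (alternatingGroup (Fin n))) :=
    Subgroup.zpowers_le.mpr hbP
  have hinv : ∀ g ∈ (P : Subgroup (alternatingGroup (Fin n))), g⁻¹ = g := fun g hg =>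
    inv_eq_of_mul_eq_one_right (hexp g hg)
  refine ⟨Subgroup.zpowers a, Subgroup.zpowers b, by simpa using ha, by simpa using hb1, hle, hleb,
    ?_, ?_, ?_⟩
  · intro x hx y hy
    have h1 := hinv _ ((P : Subgroup (alternatingGroup (Fin n))).mul_mem (hle hx) (hleb hy))
    rw [mul_inv_rev, hinv x (hle hx), hinv y (hleb hy)] at h1
    exact h1.symm
  · rw [Subgroup.eq_bot_iff_forall]
    intro x hx
    by_contra hx1
    obtain ⟨hxa, hxb⟩ := Subgroup.mem_inf.mp hx
    apply hb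
    have e1 : Subgroup.zpowers x = Subgroup.zpowers b := by
      apply Subgroup.eq_of_le_of_card_ge (Subgroup.zpowers_le.mpr hxb)
      rw [hob, Nat.card_zpowers, orderOf_eq_prime (by rw [pow_two]; exact hexp x (hle hxa)) hx1]
    exact (Subgroup.zpowers_le.mpr hxa) (e1 ▸ Subgroup.mem_zpowers b)
  · apply Subgroup.eq_of_le_of_card_ge (sup_le hle hleb)
    rw [hk]
    set K := Subgroup.zpowers a ⊔ Subgroup.zpowers b
    have hd : Nat.card (Subgroup.zpowers a) ∣ Nat.card K := Subgroup.card_dvd_of_le le_sup_left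
    obtain ⟨c, hc⟩ := hd
    rw [hoa] at hc
    have hpos : 0 < Nat.card K := Nat.card_pos
    have hne : c ≠ 1 := by
      intro e
      subst e
      have e1 : Subgroup.zpowers a = K :=
        Subgroup.eq_of_le_of_card_ge le_sup_left (by rw [hoa, hc])
      exact hb (e1 ▸ (le_sup_right : _ ≤ K) (Subgroup.mem_zpowers b))
    norm_num
    omega

/-- Decompositions of the standard Sylow subgroup. -/
theorem standard (n : ℕ) (hn : 6 ≤ n) :
    (∃ S₁ S₂ : Subgroup (alternatingGroup (Fin n)), S₁ ≠ ⊥ ∧ S₂ ≠ ⊥ ∧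
        Cfsg.IsInternalDirectProduct S₁ S₂ (altTree n)) ↔
      ((n % 4 = 2 ∨ n % 4 = 3) ∧ ∀ r : ℕ, 4 * (n / 4) ≠ 2 ^ r) := by
  constructor
  · rintro ⟨S₁, S₂, h1, h2, hle1, hle2, hc, hdisj, hsup⟩
    set f := (alternatingGroup (Fin n)).subtype with hf
    have hfi : Function.Injective f := Subtype.val_injective
    have hd : Dec n (S₁.map f) (S₂.map f) := by
      refine ⟨?_, ?_, ?_, ?_, ?_, ?_, ?_⟩
      · rintro _ ⟨x, hx, rfl⟩; exact ⟨hle1 hx, x.2⟩
      · rintro _ ⟨x, hx, rfl⟩; exact ⟨hle2 hx, x.2⟩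
      · rintro _ ⟨x, hx, rfl⟩ _ ⟨y, hy, rfl⟩
        rw [← map_mul, ← map_mul, hc x hx y hy]
      · intro w hw
        have hmem : (⟨w, hw.2⟩ : alternatingGroup (Fin n)) ∈ S₁ ⊔ S₂ := hsup.symm ▸ hw.1
        obtain ⟨a, ha, b, hb, e⟩ := exists_mul_of_mem_sup hc hmem
        exact ⟨f a, ⟨a, ha, rfl⟩, f b, ⟨b, hb, rfl⟩, by rw [← map_mul, ← e]; rfl⟩
      · rintro _ ⟨x, hx, rfl⟩ ⟨y, hy, e⟩
        have e' := hfi e
        have hmem : x ∈ S₁ ⊓ S₂ := Subgroup.mem_inf.mpr ⟨hx, e' ▸ hy⟩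
        rw [hdisj, Subgroup.mem_bot] at hmem
        rw [hmem, map_one]
      · rw [ne_eq, Subgroup.map_eq_bot_iff_of_injective _ hfi]; exact h1
      · rw [ne_eq, Subgroup.map_eq_bot_iff_of_injective _ hfi]; exact h2
    by_contra hcon
    refine indecomposable hd hn ?_
    by_cases h01 : n % 4 ≤ 1
    · exact Or.inl h01
    · refine Or.inr ?_
      by_contra hr
      exact hcon ⟨by omega, fun r e => hr ⟨r, e⟩⟩
  · rintro ⟨h23, hpow⟩
    obtain ⟨T₁, T₂, hT⟩ := exists_dec hn h23 hpow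
    refine ⟨T₁.subgroupOf _, T₂.subgroupOf _, ?_, ?_, ?_, ?_, ?_, ?_, ?_⟩
    · intro e
      exact hT.ne₁ (Subgroup.eq_bot_iff_forall _ |>.mpr fun x hx => by
        have hm : (⟨x, (hT.le₁ hx).2⟩ : alternatingGroup (Fin n)) ∈ T₁.subgroupOf _ := hx
        rw [e, Subgroup.mem_bot] at hm
        exact congrArg Subtype.val hm)
    · intro e
      exact hT.ne₂ (Subgroup.eq_bot_iff_forall _ |>.mpr fun x hx => by
        have hm : (⟨x, (hT.le₂ hx).2⟩ : alternatingGroup (Fin n)) ∈ T₂.subgroupOf _ := hx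
        rw [e, Subgroup.mem_bot] at hm
        exact congrArg Subtype.val hm)
    · exact fun x hx => (hT.le₁ hx).1
    · exact fun x hx => (hT.le₂ hx).1
    · intro a ha b hb
      exact Subtype.ext (hT.comm _ ha _ hb)
    · rw [Subgroup.eq_bot_iff_forall]
      intro x hx
      exact Subtype.ext (hT.disj _ hx.1 hx.2)
    · refine le_antisymm (sup_le (fun x hx => (hT.le₁ hx).1) fun x hx => (hT.le₂ hx).1) ?_
      intro w hw
      obtain ⟨a, ha, b, hb, e⟩ := hT.ex w ⟨hw, w.2⟩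
      have e' : w = (⟨a, (hT.le₁ ha).2⟩ : alternatingGroup (Fin n)) * ⟨b, (hT.le₂ hb).2⟩ :=
        Subtype.ext e
      rw [e']
      exact Subgroup.mul_mem _ (Subgroup.mem_sup_left ha) (Subgroup.mem_sup_right hb)

theorem transfer_map {G : Type*} [Group G] (φ : G ≃* G) {A B S : Subgroup G} (hA : A ≠ ⊥)
    (hB : B ≠ ⊥) (h : Cfsg.IsInternalDirectProduct A B S) :
    ∃ A' B' : Subgroup G, A' ≠ ⊥ ∧ B' ≠ ⊥ ∧
      Cfsg.IsInternalDirectProduct A' B' (S.map φ.toMonoidHom) := by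
  have hi : Function.Injective φ.toMonoidHom := φ.injective
  obtain ⟨h1, h2, h3, h4, h5⟩ := h
  refine ⟨A.map φ.toMonoidHom, B.map φ.toMonoidHom, ?_, ?_, Subgroup.map_mono h1,
    Subgroup.map_mono h2, ?_, ?_, ?_⟩
  · rw [ne_eq, Subgroup.map_eq_bot_iff_of_injective _ hi]; exact hA
  · rw [ne_eq, Subgroup.map_eq_bot_iff_of_injective _ hi]; exact hB
  · rintro _ ⟨x, hx, rfl⟩ _ ⟨y, hy, rfl⟩
    rw [← map_mul, ← map_mul, h3 x hx y hy]
  · rw [← Subgroup.map_inf _ _ _ hi, h4, Subgroup.map_bot]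
  · rw [← Subgroup.map_sup, h5]


/-- Direct decomposability of the Sylow 2-subgroups of the alternating groups. Let n ≥ 4 and let P be a Sylow 2-subgroup of the alternating group of degree n. Then P is the internal direct product of two nontrivial subgroups if and only if n = 4, n = 5, or n ≡ 2, 3 (mod 4) with 4⌊n/4⌋ not a power of 2. In the remaining cases (n ≡ 0, 1 (mod 4) with n ≥ 8, or n ≡ 2, 3 (mod 4) with 4⌊n/4⌋ a power of 2) P is directly indecomposable. -/
theorem result (n : ℕ) (hn : 4 ≤ n)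
    (P : Sylow 2 (alternatingGroup (Fin n))) :
    (∃ S₁ S₂ : Subgroup (alternatingGroup (Fin n)), S₁ ≠ ⊥ ∧ S₂ ≠ ⊥ ∧
        Cfsg.IsInternalDirectProduct S₁ S₂ (P : Subgroup (alternatingGroup (Fin n)))) ↔
      (n = 4 ∨ n = 5 ∨ ((n % 4 = 2 ∨ n % 4 = 3) ∧ ∀ r : ℕ, 4 * (n / 4) ≠ 2 ^ r)) := by
  rcases (by omega : n = 4 ∨ n = 5 ∨ 6 ≤ n) with h | h | h
  · exact iff_of_true (small n (Or.inl h) P) (Or.inl h)
  · exact iff_of_true (small n (Or.inr h) P) (Or.inr (Or.inl h))
  have key := standard n h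
  obtain ⟨P₀, hP₀⟩ := exists_sylow_eq_altTree h
  obtain ⟨g, hg⟩ := MulAction.exists_smul_eq (alternatingGroup (Fin n)) P₀ P
  have hmap : (P : Subgroup (alternatingGroup (Fin n))) = (altTree n).map (MulAut.conj g).toMonoidHom := by
    rw [← hg, Sylow.coe_subgroup_smul, hP₀, Subgroup.pointwise_smul_def]
    rfl
  constructor
  · rintro ⟨A, B, hA, hB, hd⟩
    refine Or.inr (Or.inr (key.mp ?_))
    obtain ⟨A', B', a, b, c⟩ := transfer_map (MulAut.conj g).symm hA hB hd
    refine ⟨A', B', a, b, ?_⟩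
    rwa [hmap, Subgroup.map_map, show (MulAut.conj g).symm.toMonoidHom.comp
      (MulAut.conj g).toMonoidHom = MonoidHom.id _ by ext; simp, Subgroup.map_id] at c
  · intro hc
    obtain ⟨A, B, hA, hB, hd⟩ := key.mpr (hc.resolve_left (by omega) |>.resolve_left (by omega))
    obtain ⟨A', B', a, b, c⟩ := transfer_map (MulAut.conj g) hA hB hd
    exact ⟨A', B', a, b, hmap ▸ c⟩

end Cfsg.Agent.S2221
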