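import Cfsg.Statements.S2222
import Cfsg.Agent.SylowAlt.Normalizer

set_option autoImplicit false
open Cfsg

namespace Cfsg.Agent.S2222

theorem five_fixed_two : ∀ σ : Equiv.Perm (Fin 5), Equiv.Perm.sign σ = 1 → σ * σ = 1 →
    ∀ a b : Fin 5, σ a = a → σ b = b → a ≠ b → σ = 1 := by decide +kernel

theorem five_case (P : Sylow 2 (alternatingGroup (Fin 5))) (H : Subgroup (alternatingGroup (Fin 5)))
    (hP : (P : Subgroup (alternatingGroup (Fin 5))) ≤ H) :
    (P : Subgroup (alternatingGroup (Fin 5))) = H ∨
      Subgroup.normalizer ((P : Subgroup (alternatingGroup (Fin 5))) : Set (alternatingGroup (Fin 5))) ≤ H := by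
  classical
  have hA : Nat.card (alternatingGroup (Fin 5)) = 60 := by
    rw [nat_card_alternatingGroup]; simp [Nat.factorial]
  have hP4 : Nat.card (P : Subgroup (alternatingGroup (Fin 5))) = 4 := by
    rw [P.card_eq_multiplicity, hA]
    have : (60 : ℕ).factorization 2 = 2 := by
      rw [Nat.factorization_def _ Nat.prime_two]
      decide +kernel
    rw [this]; rfl
  have free : ∀ p ∈ (P : Subgroup (alternatingGroup (Fin 5))), ∀ a b : Fin 5,
      p • a = a → p • b = b → a ≠ b → p = 1 := by
    intro p hp a b ha hb hab
    by_contra hne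
    have hfix : ∀ (k : ℕ) (c : Fin 5), p • c = c → (p ^ k) • c = c := fun k c hc =>
      MulAction.mem_stabilizer_iff.mp ((MulAction.stabilizer _ c).pow_mem hc k)
    obtain ⟨j, hj⟩ := IsPGroup.iff_orderOf.mp P.2 ⟨p, hp⟩
    rw [Subgroup.orderOf_mk] at hj
    have hj0 : j ≠ 0 := fun e => hne (orderOf_eq_one_iff.mp (by simpa [e] using hj))
    set z := p ^ (2 ^ (j - 1))
    have hz : orderOf z = 2 := by
      rw [orderOf_pow_of_dvd (by positivity) (hj ▸ pow_dvd_pow 2 (Nat.sub_le j 1)), hj,
        Nat.pow_div (Nat.sub_le j 1) (by norm_num), show j - (j - 1) = 1 by omega, pow_one]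
    have hz1 : (z : Equiv.Perm (Fin 5)) = 1 :=
      five_fixed_two z (Equiv.Perm.mem_alternatingGroup.mp z.2)
        (by
          have := pow_orderOf_eq_one z
          rw [hz, pow_two] at this
          exact congrArg Subtype.val this)
        a b (hfix _ a ha) (hfix _ b hb) hab
    rw [Subtype.ext hz1 (a1 := z) (a2 := 1)] at hz
    simp at hz
  obtain ⟨a, ha⟩ : ∃ a : Fin 5, a ∈ MulAction.fixedPoints (P : Subgroup (alternatingGroup (Fin 5))) (Fin 5) := by
    exact P.2.nonempty_fixed_point_of_prime_not_dvd_card (Fin 5) (by simp)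
  have haP : ∀ p ∈ (P : Subgroup (alternatingGroup (Fin 5))), p • a = a := fun p hp => ha ⟨p, hp⟩
  set S := MulAction.stabilizer (alternatingGroup (Fin 5)) a
  have hN : Subgroup.normalizer ((P : Subgroup (alternatingGroup (Fin 5))) : Set (alternatingGroup (Fin 5))) ≤ S := by
    intro g hg
    by_contra hga
    have hne : g • a ≠ a := hga
    have hfix : ∀ p ∈ (P : Subgroup (alternatingGroup (Fin 5))), p = 1 := by
      intro p hp
      refine free p hp a (g • a) (haP p hp) ?_ (Ne.symm hne)
      have := haP _ ((Subgroup.mem_normalizer_iff''.mp hg p).mp hp)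
      rw [mul_smul, mul_smul] at this
      exact inv_smul_eq_iff.mp this
    rw [(Subgroup.eq_bot_iff_forall _).mpr hfix, Subgroup.card_bot] at hP4
    omega
  have hScard : Nat.card S = 12 := by
    have : MulAction.IsPretransitive (alternatingGroup (Fin 5)) (Fin 5) :=
      (alternatingGroup.isPreprimitive_of_three_le_card (Fin 5) (by simp)).toIsPretransitive
    have := Subgroup.card_mul_index S
    rw [MulAction.index_stabilizer_of_transitive _ a, hA, Nat.card_fin] at this
    omega
  have h4 : 4 ∣ Nat.card H := hP4 ▸ Subgroup.card_dvd_of_le hP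
  by_cases hHS : H ≤ S
  · have h12 := Subgroup.card_dvd_of_le hHS
    rw [hScard] at h12
    have hle := Nat.le_of_dvd (by norm_num) h12
    rcases Nat.lt_or_ge (Nat.card H) 5 with h | h
    · left
      exact Subgroup.eq_of_le_of_card_ge hP (by omega)
    · right
      have : Nat.card H = 12 := by
        rcases h4 with ⟨k, hk⟩
        have : k = 2 ∨ k = 3 := by omega
        rcases this with rfl | rfl
        · rw [hk] at h12; norm_num at h12
        · omega
      exact hN.trans (Subgroup.eq_of_le_of_card_ge hHS (by omega)).ge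
  · right
    obtain ⟨g, hg, hga⟩ := SetLike.not_le_iff_exists.mp hHS
    have hga' : g • a ≠ a := hga
    set b := g • a
    have horb : MulAction.orbit H a = Set.univ := by
      have hstab : MulAction.stabilizer (P : Subgroup (alternatingGroup (Fin 5))) b = ⊥ := by
        rw [Subgroup.eq_bot_iff_forall]
        intro p hp
        exact Subtype.ext (free p.1 p.2 a b (haP _ p.2) hp (Ne.symm hga'))
      have hc : Nat.card (MulAction.orbit (P : Subgroup (alternatingGroup (Fin 5))) b) = 4 := by
        rw [Nat.card_congr (MulAction.orbitEquivQuotientStabilizer _ b), ← Subgroup.index,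
          hstab, Subgroup.index_bot, hP4]
      have hsub : MulAction.orbit (P : Subgroup (alternatingGroup (Fin 5))) b ⊆ {a}ᶜ := by
        rintro _ ⟨p, rfl⟩ (e : p • b = a)
        apply hga'
        have h2 : p • a = a := haP p.1 p.2
        exact MulAction.injective p (e.trans h2.symm)
      have heq := Set.eq_of_subset_of_ncard_le hsub (by
        rw [Set.ncard_compl, Set.ncard_singleton, Nat.card_fin, ← Nat.card_coe_set_eq, hc])
      apply Set.eq_univ_of_forall
      intro c
      by_cases hc' : c = a
      · rw [hc']; exact MulAction.mem_orbit_self a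
      · have hcm : c ∈ MulAction.orbit (P : Subgroup (alternatingGroup (Fin 5))) b := heq ▸ hc'
        obtain ⟨p, rfl⟩ := hcm
        exact ⟨⟨p.1 * g, H.mul_mem (hP p.2) hg⟩, mul_smul p.1 g a⟩
    have h5 : 5 ∣ Nat.card H := by
      have := Subgroup.card_mul_index (MulAction.stabilizer H a)
      rw [MulAction.index_stabilizer, horb, Set.ncard_univ, Nat.card_fin] at this
      exact ⟨_, by rw [← this, Nat.mul_comm]⟩
    by_contra htop
    have hne : H ≠ ⊤ := fun e => htop (e ▸ le_top)
    have h20 : 20 ∣ Nat.card H := Nat.Coprime.mul_dvd_of_dvd_of_dvd (by norm_num : Nat.Coprime 4 5) h4 h5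
    have hidx := Subgroup.card_mul_index H
    rw [hA] at hidx
    have hi3 : H.index ≤ 3 := by
      have := Nat.le_of_dvd Nat.card_pos h20
      nlinarith
    let f := MulAction.toPermHom (alternatingGroup (Fin 5)) (alternatingGroup (Fin 5) ⧸ H)
    rcases IsSimpleGroup.eq_bot_or_eq_top_of_normal f.ker inferInstance with h | h
    · have hle := Nat.card_le_card_of_injective f (f.ker_eq_bot_iff.mp h)
      rw [hA, Nat.card_perm, ← Subgroup.index] at hle
      have := Nat.factorial_le hi3
      simp [Nat.factorial] at this
      omega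
    · apply hne
      rw [eq_top_iff]
      intro x _
      have hx : f x = 1 := f.mem_ker.mp (h ▸ Subgroup.mem_top x)
      have := congrArg (fun σ => σ (QuotientGroup.mk 1)) hx
      simp only [f, MulAction.toPermHom_apply, MulAction.toPerm_apply, MulAction.Quotient.smul_mk, Equiv.Perm.one_apply, smul_eq_mul, mul_one] at this
      simpa using QuotientGroup.eq.mp this

/-- In the alternating group of degree n ≥ 5 every subgroup H of odd index is pronormal: for every element g, the subgroups H and gHg⁻¹ are conjugate by an element of the subgroup they generate. -/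
theorem result (n : ℕ) (hn : 5 ≤ n)
    (H : Subgroup (alternatingGroup (Fin n))) (hH : Odd H.index) : Cfsg.IsPronormal H := by
  obtain ⟨P⟩ : Nonempty (Sylow 2 H) := inferInstance
  have hPH : IsPGroup 2 ((P : Subgroup H).map H.subtype) := P.2.map _
  obtain ⟨Q, hQ⟩ := hPH.exists_le_sylow
  have heq : (Q : Subgroup (alternatingGroup (Fin n))) ≤ H := by
    have hdvd : Nat.card (Q : Subgroup (alternatingGroup (Fin n))) ∣ Nat.card ((P : Subgroup H).map H.subtype) := by
      rw [Subgroup.card_map_of_injective H.subtype_injective]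
      obtain ⟨k, hk⟩ := Q.2.exists_card_eq
      rw [hk]
      apply Sylow.pow_dvd_card_of_pow_dvd_card P
      have h1 : 2 ^ k ∣ Nat.card H * H.index := by
        rw [Subgroup.card_mul_index, ← hk]; exact Subgroup.card_subgroup_dvd_card _
      exact (Nat.Coprime.pow_left k (Nat.coprime_two_left.mpr hH)).dvd_of_dvd_mul_right h1
    have := Subgroup.eq_of_le_of_card_ge hQ (Nat.le_of_dvd Nat.card_pos hdvd)
    rw [← this]
    exact Subgroup.map_subtype_le _
  intro g
  apply CfsgLib.SylowAlt.pronormal_of_sylow Q heq
  rcases Nat.lt_or_ge n 6 with h | h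
  · obtain rfl : n = 5 := by omega
    exact five_case Q H heq
  · exact Or.inr ((CfsgLib.SylowAlt.alternating_sylow_two_normalizer h Q).le.trans heq)

end Cfsg.Agent.S2222
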