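import Cfsg.Statements.S2225
import Cfsg.Agent.Pronormal.EvenLinear
import Cfsg.Agent.Pronormal.OddInstances
import Cfsg.Agent.Pronormal.PSLTwoCase
-- import your own Cfsg.Agent.* helpers here

set_option autoImplicit false
open Cfsg

namespace Cfsg.Agent.S2225

/-- Let F be a finite field and d = 2^w ≥ 2 a power of 2 such that PSL_d(F) is simple. Then every subgroup H of PSL_d(F) of odd index is pronormal: for every g, H and gHg⁻¹ are conjugate by an element of the subgroup they generate. -/
theorem result {F : Type*} [Field F] [Fintype F]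
    (w : ℕ) (hw : 1 ≤ w) (hs : IsSimpleGroup (Matrix.ProjectiveSpecialLinearGroup (Fin (2 ^ w)) F))
    (H : Subgroup (Matrix.ProjectiveSpecialLinearGroup (Fin (2 ^ w)) F)) (hH : Odd H.index) : Cfsg.IsPronormal H := by
  have : Fact (Nat.Prime 2) := ⟨Nat.prime_two⟩
  have h2 : ¬ 2 ∣ H.index := fun h => (Nat.not_even_iff_odd.mpr hH) (even_iff_two_dvd.mpr h)
  obtain ⟨p, hp⟩ := CharP.exists F
  obtain ⟨k, hpp, hk⟩ := FiniteField.card F p
  rcases hpp.eq_two_or_odd' with rfl | hodd
  · exact CfsgLib.Pronormal.isPronormal_of_invariant CfsgLib.Pronormal.psl_invariant_even h2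
  have hFodd : Odd (Fintype.card F) := hk ▸ hodd.pow
  rcases (show w = 1 ∨ 2 ≤ w by omega) with rfl | hw2
  · exact CfsgLib.Pronormal.isPronormal_psl_two hFodd hs h2
  · exact CfsgLib.Pronormal.isPronormal_of_invariant
      (CfsgLib.Pronormal.psl_invariant_odd (by rwa [Nat.card_eq_fintype_card]) hw2) h2

end Cfsg.Agent.S2225
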