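import Cfsg.Statements.S2226
import Cfsg.Agent.Pronormal.EvenUnitary
import Cfsg.Agent.Pronormal.OddInstances
-- import your own Cfsg.Agent.* helpers here

set_option autoImplicit false
open Cfsg

namespace Cfsg.Agent.S2226

/-- Let F be a finite field with q² elements and d = 2^w ≥ 4 a power of 2 such that the unitary group PSU_d(q) (realised over F) is simple. Then every subgroup H of PSU_d(q) of odd index is pronormal: for every g, H and gHg⁻¹ are conjugate by an element of the subgroup they generate. -/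
theorem result {F : Type*} [Field F] [Fintype F] (q : ℕ)
    (hF : Fintype.card F = q ^ 2) (w : ℕ) (hw : 2 ≤ w) (hs : IsSimpleGroup (Cfsg.PSU (2 ^ w) F q))
    (H : Subgroup (Cfsg.PSU (2 ^ w) F q)) (hH : Odd H.index) : Cfsg.IsPronormal H := by
  have : Fact (Nat.Prime 2) := ⟨Nat.prime_two⟩
  have hF' : Nat.card F = q ^ 2 := by rw [Nat.card_eq_fintype_card, hF]
  have h2 : ¬ 2 ∣ H.index := fun h => (Nat.not_even_iff_odd.mpr hH) (even_iff_two_dvd.mpr h)
  obtain ⟨p, k, hp, hpp, hq⟩ := CfsgLib.Forms.exists_charP_pow hF'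
  rcases hpp.eq_two_or_odd' with rfl | hodd
  · exact CfsgLib.Pronormal.isPronormal_of_invariant
      (CfsgLib.Pronormal.psu_invariant_even hF' (Nat.even_pow.mpr ⟨even_two, by omega⟩)) h2
  · exact CfsgLib.Pronormal.isPronormal_of_invariant
      (CfsgLib.Pronormal.psu_invariant_odd hF' (hq ▸ hodd.pow) hw) h2

end Cfsg.Agent.S2226
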