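import Cfsg.Statements.S2227
import Cfsg.Agent.Chev.E6TwFive.Main
-- import your own Cfsg.Agent.* helpers here

set_option autoImplicit false
open Cfsg

namespace Cfsg.Agent.S2227

/-- In the twisted group ²E₆(2) all elements of order 5 are conjugate, and the centralizer of an element of order 5 is isomorphic to the direct product of a cyclic group of order 5 with the alternating group of degree 8. -/
theorem result {K : Type*} [Field K] [Fintype K] (hK : Fintype.card K = 4) :
    (∀ x y : ↥(Cfsg.Lie.twistedE6 K 2), orderOf x = 5 → orderOf y = 5 → IsConj x y) ∧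
      ∀ x : ↥(Cfsg.Lie.twistedE6 K 2), orderOf x = 5 →
        Nonempty (↥(Subgroup.centralizer ({x} : Set ↥(Cfsg.Lie.twistedE6 K 2))) ≃* (Multiplicative (ZMod 5) × ↥(alternatingGroup (Fin 8)))) := by
  have : CharP K 2 := by
    obtain ⟨p, hp⟩ := CharP.exists K
    obtain ⟨n, hn, hn'⟩ := FiniteField.card K p
    have : p ∣ 2 ^ 2 := by rw [show 2 ^ 2 = p ^ (n : ℕ) from (hn'.symm.trans hK).symm]; exact dvd_pow_self p n.ne_zero
    have : p = 2 := (Nat.prime_dvd_prime_iff_eq hn Nat.prime_two).mp (hn.dvd_of_dvd_pow this)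
    exact this ▸ hp
  obtain ⟨C⟩ := CfsgLib.Chev.E6Tw.exists_ctx (K := K) (q := 2) Nat.prime_two.isPrimePow (by rw [hK]; rfl)
  rw [← C.grp_eq]
  exact CfsgLib.Chev.E6Five.order_five C

end Cfsg.Agent.S2227
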