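import Cfsg.Statements.S2231
import Cfsg.Agent.Dickson.Transfer
import Mathlib.GroupTheory.Sylow

set_option autoImplicit false
open Cfsg

namespace Cfsg.Agent.S2231

open OnePoint in
/-- The `p`-subgroups of `PSL₂` in the defining characteristic are abelian. -/
theorem psl_pGroup_comm {p : ℕ} [Fact p.Prime] {K : Type*} [Field K] [Fintype K] [CharP K p]
    (Q : Subgroup (Matrix.ProjectiveSpecialLinearGroup (Fin 2) K)) (hQ : IsPGroup p Q) :
    ∀ x ∈ Q, ∀ y ∈ Q, x * y = y * x := by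
  classical
  obtain ⟨w, hw⟩ := CfsgLib.Dickson.exists_fix_of_isPGroup p _
    (hQ.map (Matrix.ProjectiveSpecialLinearGroup.toPGL (n := Fin 2) (R := K)))
  obtain ⟨h, hh⟩ := CfsgLib.Dickson.exists_smul_eq_infty w
  let f := (MulAut.conj h).toMonoidHom.comp
    (Matrix.ProjectiveSpecialLinearGroup.toPGL (n := Fin 2) (R := K))
  have hf : Function.Injective f :=
    (MulAut.conj h).injective.comp Matrix.ProjectiveSpecialLinearGroup.toPGL_injective
  have key : ∀ x ∈ Q, ∃ a, f x = CfsgLib.Dickson.aff (1 : Kˣ) a := by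
    intro x hx
    obtain ⟨k, hk⟩ := hQ ⟨x, hx⟩
    refine CfsgLib.Dickson.pElement_eq_transl p ?_ (k := k) ?_
    · show (h * _ * h⁻¹) • _ = _
      rw [← hh, mul_smul, mul_smul, inv_smul_smul, hw _ ⟨x, hx, rfl⟩]
    · rw [← map_pow, show x ^ p ^ k = 1 from congrArg Subtype.val hk, map_one]
  intro x hx y hy
  obtain ⟨a, ha⟩ := key x hx
  obtain ⟨b, hb⟩ := key y hy
  apply hf
  rw [map_mul, map_mul, ha, hb, CfsgLib.Dickson.aff_mul, CfsgLib.Dickson.aff_mul]
  congr 1
  simp [add_comm]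

/-- `SL₃`. -/
abbrev SpecialLinearGroupThree (R : Type*) [CommRing R] := Matrix.SpecialLinearGroup (Fin 3) R

section Unitri

variable (p : ℕ) [Fact p.Prime]

/-- Upper unitriangular entries. -/
def IsUni (M : SpecialLinearGroupThree (ZMod p)) : Prop :=
  M.1 0 0 = 1 ∧ M.1 1 1 = 1 ∧ M.1 2 2 = 1 ∧ M.1 1 0 = 0 ∧ M.1 2 0 = 0 ∧ M.1 2 1 = 0

theorem uni_mul {M N : SpecialLinearGroupThree (ZMod p)} (hM : IsUni p M) (hN : IsUni p N) :
    IsUni p (M * N) := by
  obtain ⟨h1, h2, h3, h4, h5, h6⟩ := hM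
  obtain ⟨k1, k2, k3, k4, k5, k6⟩ := hN
  simp [IsUni, Matrix.mul_apply, Fin.sum_univ_three, *]

theorem uni_pow_eq_one (hp : 3 ≤ p ^ 2) {M : SpecialLinearGroupThree (ZMod p)} (hM : IsUni p M) :
    M ^ p ^ 2 = 1 := by
  obtain ⟨h1, h2, h3, h4, h5, h6⟩ := hM
  have h : (M.1 - 1) ^ 3 = 0 := by
    ext i j
    fin_cases i <;> fin_cases j <;>
      simp [pow_succ, Matrix.mul_apply, Fin.sum_univ_three, *]
  apply Subtype.ext
  rw [Matrix.SpecialLinearGroup.coe_pow, Matrix.SpecialLinearGroup.coe_one, ← sub_eq_zero]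
  have e := sub_pow_char_pow_of_commute p 2 (Commute.one_right M.1)
  rw [one_pow] at e
  rw [← e]
  exact pow_eq_zero_of_le hp h

variable {p}

/-- The upper unitriangular subgroup of `SL₃(p)`. -/
def unitri (p : ℕ) [Fact p.Prime] (hp : 3 ≤ p ^ 2) : Subgroup (SpecialLinearGroupThree (ZMod p)) where
  carrier := {M | IsUni p M}
  mul_mem' := uni_mul p
  one_mem' := by simp [IsUni]
  inv_mem' := by
    intro M hM
    have e : M⁻¹ = M ^ (p ^ 2 - 1) := inv_eq_of_mul_eq_one_right (by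
      rw [← pow_succ', Nat.sub_add_cancel (by omega), uni_pow_eq_one p hp hM])
    rw [Set.mem_setOf_eq, e]
    clear e
    induction p ^ 2 - 1 with
    | zero => simp [IsUni]
    | succ k ih => rw [pow_succ]; exact uni_mul p ih hM

theorem mem_unitri {hp : 3 ≤ p ^ 2} {M : SpecialLinearGroupThree (ZMod p)} :
    M ∈ unitri p hp ↔ IsUni p M := Iff.rfl

theorem isPGroup_unitri (p : ℕ) [Fact p.Prime] (hp : 3 ≤ p ^ 2) : IsPGroup p (unitri p hp) :=
  fun M => ⟨2, Subtype.ext (by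
    rw [SubgroupClass.coe_pow]
    exact uni_pow_eq_one p hp M.2)⟩

end Unitri


/-- Let p be an odd prime and K a finite field of characteristic p. Then Qd(p) (the natural semidirect product of an elementary abelian group of order p² by SL₂(p)) is not involved in the projective special linear group PSL₂(K). -/
theorem result {p : ℕ} [Fact p.Prime] (hp : p ≠ 2) {K : Type*} [Field K] [Fintype K] [CharP K p] : ¬ Cfsg.Involves ↥(Cfsg.qd p) (Matrix.ProjectiveSpecialLinearGroup (Fin 2) K) := by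
  classical
  rintro ⟨L, R, hR, ⟨e⟩⟩
  have hp3 : 3 ≤ p ^ 2 := by
    have := (Fact.out : p.Prime).two_le
    nlinarith
  let π : ↥L →* ↥(Cfsg.qd p) := e.toMonoidHom.comp (QuotientGroup.mk' (R.subgroupOf L))
  have hπ : Function.Surjective π := e.surjective.comp (QuotientGroup.mk'_surjective _)
  let U : Subgroup (SpecialLinearGroupThree (ZMod p)) := unitri p hp3
  have hU : IsPGroup p U := isPGroup_unitri p hp3
  have hQ : IsPGroup p (U.subgroupOf (Cfsg.qd p)) :=
    hU.comap_of_injective _ (Subgroup.subtype_injective _)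
  obtain ⟨T, hT⟩ := hQ.exists_le_sylow
  obtain ⟨P, hP⟩ := Sylow.mapSurjective_surjective hπ p T
  have hab : ∀ x y : ↥L, x ∈ (P : Subgroup ↥L) → y ∈ (P : Subgroup ↥L) → x * y = y * x := by
    intro x y hx hy
    apply Subtype.ext
    exact psl_pGroup_comm (p := p) ((P : Subgroup ↥L).map L.subtype) (P.2.map L.subtype)
      _ ⟨x, hx, rfl⟩ _ ⟨y, hy, rfl⟩
  let a : SpecialLinearGroupThree (ZMod p) := ⟨!![1, 1, 0; 0, 1, 0; 0, 0, 1], by simp [Matrix.det_fin_three]⟩
  let b : SpecialLinearGroupThree (ZMod p) := ⟨!![1, 0, 0; 0, 1, 1; 0, 0, 1], by simp [Matrix.det_fin_three]⟩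
  have haq : a ∈ Cfsg.qd p := Subgroup.subset_closure ⟨by simp [a], by simp [a], by simp [a]⟩
  have hbq : b ∈ Cfsg.qd p := Subgroup.subset_closure ⟨by simp [b], by simp [b], by simp [b]⟩
  have ha : (⟨a, haq⟩ : ↥(Cfsg.qd p)) ∈ (T : Subgroup ↥(Cfsg.qd p)) :=
    hT (by show a ∈ U; exact mem_unitri.2 (by simp [a, IsUni]))
  have hb : (⟨b, hbq⟩ : ↥(Cfsg.qd p)) ∈ (T : Subgroup ↥(Cfsg.qd p)) :=
    hT (by show b ∈ U; exact mem_unitri.2 (by simp [b, IsUni]))
  rw [← hP, Sylow.coe_mapSurjective] at ha hb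
  obtain ⟨x, hx, hxa⟩ := ha
  obtain ⟨y, hy, hyb⟩ := hb
  have h := congrArg π (hab x y hx hy)
  rw [map_mul, map_mul, hxa, hyb] at h
  have h1 : a * b = b * a := congrArg Subtype.val h
  have h2 : (a.1 * b.1) 0 2 = (b.1 * a.1) 0 2 :=
    congrArg (fun z : SpecialLinearGroupThree (ZMod p) => z.1 0 2) h1
  simp [a, b, Matrix.mul_apply, Fin.sum_univ_three] at h2

end Cfsg.Agent.S2231
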