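import Cfsg.Statements.S2239
import Cfsg.Agent.Suzuki.SubfieldConj
-- import your own Cfsg.Agent.* helpers here

set_option autoImplicit false
open Cfsg

namespace Cfsg.Agent.S2239

/-- Subfield subgroups of the Suzuki group: let q = 2^(2m+1) and s = 2^(2k+1) with m, k ≥ 1 and 2k+1 dividing 2m+1 (so q is a power of s), both groups realised as stabilisers in SL₄ of the Suzuki–Tits ovoid. Then Sz(q) has a subgroup isomorphic to Sz(s), and any two subgroups of Sz(q) isomorphic to Sz(s) are conjugate. -/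
theorem result {F : Type*} [Field F] [Fintype F] {m : ℕ} (hm : 1 ≤ m) (hF : Fintype.card F = 2 ^ (2 * m + 1)) {K : Type*} [Field K] [Fintype K] {k : ℕ} (hk : 1 ≤ k) (hK : Fintype.card K = 2 ^ (2 * k + 1)) (hdiv : 2 * k + 1 ∣ 2 * m + 1) :
    (∃ S : Subgroup ↥(Cfsg.Sz F m), Nonempty (↥S ≃* ↥(Cfsg.Sz K k))) ∧
    ∀ S₁ S₂ : Subgroup ↥(Cfsg.Sz F m), Nonempty (↥S₁ ≃* ↥(Cfsg.Sz K k)) → Nonempty (↥S₂ ≃* ↥(Cfsg.Sz K k)) →
      ∃ g : ↥(Cfsg.Sz F m), S₂ = S₁.map (MulAut.conj g).toMonoidHom := by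
  have h := CfsgLib.Suzuki.isSzField_of_card hm hF
  have hk' := CfsgLib.Suzuki.isSzField_of_card hk hK
  have hG := CfsgLib.Suzuki.galoisField_isSzField hk
  have := hG.finite
  let hfin : Fintype (GaloisField 2 (2 * k + 1)) := Fintype.ofFinite _
  obtain ⟨ψ⟩ := CfsgLib.Suzuki.exists_subfield_hom h hdiv
  let φ : K →+* F := ψ.comp (FiniteField.ringEquivOfCardEq (K := K) (K' := GaloisField 2 (2 * k + 1))
    (by rw [hK, ← Nat.card_eq_fintype_card, hG.card])).toRingHom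
  refine ⟨⟨_, ⟨(MonoidHom.ofInjective (CfsgLib.Suzuki.szMap_injective φ hk' hdiv h)).symm⟩⟩, ?_⟩
  rintro S₁ S₂ ⟨e₁⟩ ⟨e₂⟩
  obtain ⟨c₁, hc₁⟩ := CfsgLib.Suzuki.conj_to_standard h hk' hdiv φ e₁
  obtain ⟨c₂, hc₂⟩ := CfsgLib.Suzuki.conj_to_standard h hk' hdiv φ e₂
  refine ⟨c₂⁻¹ * c₁, ?_⟩
  show S₂ = CfsgLib.Suzuki.conjBy (c₂⁻¹ * c₁) S₁
  rw [← CfsgLib.Suzuki.conjBy_conjBy, hc₁, ← hc₂, CfsgLib.Suzuki.conjBy_conjBy, inv_mul_cancel,
    CfsgLib.Suzuki.conjBy_one]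

end Cfsg.Agent.S2239
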