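import Cfsg.Statements.S2240
import Cfsg.Agent.Suzuki.Fixity

set_option autoImplicit false
open Cfsg

namespace Cfsg.Agent.S2240

open CfsgLib.Suzuki

variable {F : Type*} [Field F] {m : ℕ}

local notation "G" => SzG F m

/-- An additive subgroup whose scalar translates are equal or meet trivially is a line over a
subfield. -/
theorem card_dvd_of_line [Finite F] (V : AddSubgroup F) {v : F} (hv : v ∈ V) (hv0 : v ≠ 0)
    (hline : ∀ l : F, l ≠ 0 → (∃ w ∈ V, w ≠ 0 ∧ l * w ∈ V) → ∀ w ∈ V, l * w ∈ V) :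
    ∃ r : ℕ, Nat.card F = Nat.card V ^ r := by
  let K : Subfield F :=
    { carrier := {l | ∀ w ∈ V, l * w ∈ V}
      one_mem' := fun w hw => by rwa [one_mul]
      mul_mem' := fun {a b} ha hb w hw => by rw [mul_assoc]; exact ha _ (hb w hw)
      zero_mem' := fun w _ => by rw [zero_mul]; exact V.zero_mem
      add_mem' := fun {a b} ha hb w hw => by rw [add_mul]; exact V.add_mem (ha w hw) (hb w hw)
      neg_mem' := fun {a} ha w hw => by rw [neg_mul]; exact V.neg_mem (ha w hw)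
      inv_mem' := fun a ha => by
        by_cases ha0 : a = 0
        · intro w _; rw [ha0, inv_zero, zero_mul]; exact V.zero_mem
        refine hline _ (inv_ne_zero ha0) ⟨a * v, ha v hv, mul_ne_zero ha0 hv0, ?_⟩
        rwa [inv_mul_cancel_left₀ ha0] }
  have hVK : Nat.card V = Nat.card K := by
    refine Nat.card_congr
      { toFun := fun w => ⟨w.1 / v, ?_⟩
        invFun := fun l => ⟨l.1 * v, l.2 v hv⟩
        left_inv := fun w => Subtype.ext (div_mul_cancel₀ _ hv0)
        right_inv := fun l => Subtype.ext (mul_div_cancel_right₀ _ hv0) }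
    show ∀ u ∈ V, w.1 / v * u ∈ V
    by_cases hw0 : w.1 = 0
    · intro u _; rw [hw0, zero_div, zero_mul]; exact V.zero_mem
    · exact hline _ (div_ne_zero hw0 hv0) ⟨v, hv, hv0, by rw [div_mul_cancel₀ _ hv0]; exact w.2⟩
  exact ⟨Module.finrank K F, by rw [hVK]; exact Module.natCard_eq_pow_finrank⟩

theorem exists_subfield_of_dvd (h : IsSzField F m) {n : ℕ} (hn : n ≠ 0)
    (hdiv : n ∣ 2 * m + 1) : ∃ K : Subfield F, Nat.card K = 2 ^ n := by
  have hnodd : Odd n := Odd.of_dvd_nat (odd_two_mul_add_one m) hdiv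
  obtain ⟨k, rfl⟩ := hnodd
  obtain ⟨φ⟩ := exists_subfield_hom (k := k) h hdiv
  refine ⟨φ.fieldRange, ?_⟩
  rw [← GaloisField.card 2 (2 * k + 1) hn]
  exact (Nat.card_congr (Equiv.ofInjective φ φ.injective)).symm

theorem ti_iff (h : IsSzField F m) (n : ℕ) (hn : 2 ≤ n) :
    (∃ E : Subgroup G, Cfsg.IsElementaryAbelian 2 E ∧ Nat.card E = 2 ^ n ∧
      ∀ x : G, E ⊓ E.map (MulAut.conj x).toMonoidHom ≠ ⊥ →
        x ∈ Subgroup.normalizer (E : Set G)) ↔ n ∣ 2 * m + 1 := by
  have := h.finite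
  constructor
  · rintro ⟨E, ⟨-, hE2⟩, hEc, hTI⟩
    obtain ⟨c, hc⟩ := exists_conj_le_unip h (IsPGroup.of_card hEc)
    let ι : F → G := fun b => c⁻¹ * uE h 0 b * c
    have hιadd : ∀ a b, ι (a + b) = ι a * ι b := by
      intro a b
      show c⁻¹ * uE h 0 (a + b) * c = _
      rw [show uE h 0 (a + b) = uE h 0 a * uE h 0 b by rw [uE_mul]; simp]
      simp only [ι]
      group
    have hι0 : ι 0 = 1 := by simp only [ι, uE_zero]; group
    have hιinj : Function.Injective ι := fun a b e =>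
      (uE_inj h (mul_left_cancel (mul_right_cancel e))).2
    let V : AddSubgroup F :=
      { carrier := {b | ι b ∈ E}
        zero_mem' := show ι 0 ∈ E by rw [hι0]; exact E.one_mem
        add_mem' := fun {a b} ha hb => show ι (a + b) ∈ E by rw [hιadd]; exact E.mul_mem ha hb
        neg_mem' := fun {a} ha => show ι (-a) ∈ E by
          have := h.charP
          rw [CharTwo.neg_eq]; exact ha }
    have hsurj : ∀ e ∈ E, ∃ b, ι b = e := by
      intro e he
      obtain ⟨a, b, hab⟩ := exists_uE h (hc e he)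
      have ha : a = 0 := by
        refine sq_eq_one_cases h (b := b) ?_
        rw [← hab, show c * e * c⁻¹ * (c * e * c⁻¹) = c * e ^ 2 * c⁻¹ by rw [pow_two]; group,
          hE2 e he]
        group
      refine ⟨b, ?_⟩
      show c⁻¹ * uE h 0 b * c = e
      rw [← ha, ← hab]; group
    have hVc : Nat.card V = 2 ^ n := by
      rw [← hEc]
      refine Nat.card_congr (Equiv.ofBijective (fun b : V => (⟨ι b, b.2⟩ : E)) ⟨?_, ?_⟩)
      · intro a b e; exact Subtype.ext (hιinj (congrArg Subtype.val e))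
      · rintro ⟨e, he⟩
        obtain ⟨b, hb⟩ := hsurj e he
        exact ⟨⟨b, show ι b ∈ E from hb ▸ he⟩, Subtype.ext hb⟩
    obtain ⟨v, hv, hv0⟩ : ∃ v ∈ V, v ≠ 0 := by
      by_contra hno
      simp only [not_exists, not_and, not_not] at hno
      have : V = ⊥ := (AddSubgroup.eq_bot_iff_forall _).2 hno
      rw [this, AddSubgroup.card_bot] at hVc
      have : 2 ^ 2 ≤ 2 ^ n := Nat.pow_le_pow_right (by norm_num) hn
      omega
    obtain ⟨r, hr⟩ := card_dvd_of_line V hv hv0 (by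
      rintro l hl ⟨w₀, hw₀, hw0, hlw₀⟩ w hw
      obtain ⟨t, ht⟩ := exists_lam_eq h hl
      set x := c⁻¹ * dE h t * c
      have hx : ∀ b, x * ι b * x⁻¹ = ι (l * b) := by
        intro b
        show c⁻¹ * dE h t * c * (c⁻¹ * uE h 0 b * c) * (c⁻¹ * dE h t * c)⁻¹ = c⁻¹ * uE h 0 (l * b) * c
        rw [show c⁻¹ * dE h t * c * (c⁻¹ * uE h 0 b * c) * (c⁻¹ * dE h t * c)⁻¹ =
          c⁻¹ * (dE h t * uE h 0 b * (dE h t)⁻¹) * c by group, dE_conj, mul_zero, ← ht]
        rfl
      have hne : E ⊓ E.map (MulAut.conj x).toMonoidHom ≠ ⊥ := by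
        intro e
        have h1 : ι (l * w₀) ∈ E ⊓ E.map (MulAut.conj x).toMonoidHom :=
          ⟨hlw₀, ι w₀, hw₀, hx w₀⟩
        rw [e, Subgroup.mem_bot, ← hι0] at h1
        exact mul_ne_zero hl hw0 (hιinj h1)
      have h2 := (Subgroup.mem_normalizer_iff.1 (hTI x hne) (ι w)).1 hw
      rwa [hx] at h2)
    rw [hVc, h.card, ← pow_mul] at hr
    exact ⟨r, Nat.pow_right_injective le_rfl hr⟩
  · intro hdiv
    obtain ⟨K, hK⟩ := exists_subfield_of_dvd h (by omega) hdiv
    let E : Subgroup G :=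
      { carrier := {g | ∃ b ∈ K, g = uE h 0 b}
        one_mem' := ⟨0, K.zero_mem, (uE_zero h).symm⟩
        mul_mem' := by
          rintro _ _ ⟨a, ha, rfl⟩ ⟨b, hb, rfl⟩
          exact ⟨a + b, K.add_mem ha hb, by rw [uE_mul]; simp⟩
        inv_mem' := by
          rintro _ ⟨a, ha, rfl⟩
          exact ⟨a, ha, by rw [uE_inv]; simp⟩ }
    refine ⟨E, ⟨⟨⟨?_⟩⟩, ?_⟩, ?_, ?_⟩
    · rintro ⟨_, a, ha, rfl⟩ ⟨_, b, hb, rfl⟩
      exact Subtype.ext (show uE h 0 a * uE h 0 b = uE h 0 b * uE h 0 a by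
        rw [uE_mul, uE_mul]; simp [add_comm])
    · rintro _ ⟨a, ha, rfl⟩
      rw [pow_two, uE_sq]
      simp [uE_zero]
    · rw [← hK]
      refine (Nat.card_congr (Equiv.ofBijective
        (fun b : K => (⟨uE h 0 b.1, b.1, b.2, rfl⟩ : E)) ⟨?_, ?_⟩)).symm
      · intro a b e
        exact Subtype.ext (uE_inj h (congrArg Subtype.val e)).2
      · rintro ⟨_, b, hb, rfl⟩
        exact ⟨⟨b, hb⟩, rfl⟩
    · intro x hne
      obtain ⟨g, hg, hg1⟩ : ∃ g ∈ E ⊓ E.map (MulAut.conj x).toMonoidHom, g ≠ 1 := by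
        by_contra hno
        simp only [not_exists, not_and, not_not] at hno
        exact hne ((Subgroup.eq_bot_iff_forall _).2 hno)
      obtain ⟨⟨b', hb', hgb'⟩, _, ⟨b, hb, rfl⟩, hgx⟩ := hg
      have hgx' : x * uE h 0 b * x⁻¹ = uE h 0 b' := hgx.trans hgb'
      have hb0 : b ≠ 0 := fun e => hg1 (by
        rw [hgb', ← hgx', e, uE_zero]; group)
      have hxB := mem_borel_of_conj_mem_unip h (uE_mem h 0 b)
        (fun e => hb0 ((uE_eq_one h).1 e).2) (by rw [hgx']; exact uE_mem h _ _)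
      obtain ⟨p, q, t, rfl⟩ := (mem_stab_inf h).1 hxB
      have hconj : ∀ w : F, uE h p q * dE h t * uE h 0 w * (uE h p q * dE h t)⁻¹ =
          uE h 0 (lam m t * w) := by
        intro w
        rw [show uE h p q * dE h t * uE h 0 w * (uE h p q * dE h t)⁻¹ =
          uE h p q * (dE h t * uE h 0 w * (dE h t)⁻¹) * (uE h p q)⁻¹ by group, dE_conj, uE_conj,
          mul_zero]
        simp [lam]
      rw [hconj] at hgx'
      have hl : lam m t ∈ K := by
        rw [show lam m t = b' / b by rw [← (uE_inj h hgx').2, mul_div_cancel_right₀ _ hb0]]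
        exact K.div_mem hb' hb
      refine Subgroup.mem_normalizer_iff.2 fun g => ⟨?_, ?_⟩
      · rintro ⟨w, hw, rfl⟩
        exact ⟨lam m t * w, K.mul_mem hl hw, hconj w⟩
      · rintro ⟨w, hw, hgw⟩
        refine ⟨(lam m t)⁻¹ * w, K.mul_mem (K.inv_mem hl) hw, ?_⟩
        have e := hconj ((lam m t)⁻¹ * w)
        rw [mul_inv_cancel_left₀ (lam_ne_zero t), ← hgw] at e
        exact (mul_left_cancel (mul_right_cancel e)).symm

/-- Elementary abelian TI-subgroups of the Suzuki group: let q = 2^(2m+1) with m ≥ 1, the group realised as the stabiliser in SL₄ of the Suzuki–Tits ovoid, and n ≥ 2. There is an elementary abelian 2-subgroup E of order 2^n that is a TI-subgroup (every conjugate of E meeting E nontrivially is E itself) if and only if n divides 2m + 1. -/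
theorem result {F : Type*} [Field F] [Fintype F] {m : ℕ} (hm : 1 ≤ m) (hF : Fintype.card F = 2 ^ (2 * m + 1)) (n : ℕ) (hn : 2 ≤ n) :
    (∃ E : Subgroup ↥(Cfsg.Sz F m), Cfsg.IsElementaryAbelian 2 E ∧ Nat.card ↥E = 2 ^ n ∧
      ∀ x : ↥(Cfsg.Sz F m), E ⊓ E.map (MulAut.conj x).toMonoidHom ≠ ⊥ → x ∈ Subgroup.normalizer (E : Set ↥(Cfsg.Sz F m))) ↔ n ∣ 2 * m + 1 :=
  ti_iff (isSzField_of_card hm hF) n hn

end Cfsg.Agent.S2240
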