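import Cfsg.Statements.S2241
import Cfsg.Agent.Suzuki.Sylow
-- import your own Cfsg.Agent.* helpers here

set_option autoImplicit false
open Cfsg

namespace Cfsg.Agent.S2241

/-- Real 2-elements of the Suzuki group: with q = 2^(2m+1), m ≥ 1, and the group realised as the stabiliser in SL₄ of the Suzuki–Tits ovoid, a non-identity element of a Sylow 2-subgroup is conjugate to its inverse if and only if it is an involution; in particular no element of order 4 is conjugate to its inverse. -/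
theorem result {F : Type*} [Field F] [Fintype F] {m : ℕ} (hm : 1 ≤ m) (hF : Fintype.card F = 2 ^ (2 * m + 1)) (P : Sylow 2 ↥(Cfsg.Sz F m)) (g : ↥(Cfsg.Sz F m)) (hg : g ∈ (P : Subgroup ↥(Cfsg.Sz F m))) (h1 : g ≠ 1) :
    IsConj g g⁻¹ ↔ orderOf g = 2 := by
  have h := CfsgLib.Suzuki.isSzField_of_card hm hF
  constructor
  · intro hr
    obtain ⟨c, hc⟩ := CfsgLib.Suzuki.sylow_eq_conj h P
    rw [hc] at hg
    obtain ⟨u, hu, rfl⟩ := hg
    obtain ⟨a, b, rfl⟩ := CfsgLib.Suzuki.exists_uE h hu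
    obtain ⟨x, hx⟩ := isConj_iff.1 hr
    by_cases ha : a = 0
    · subst ha
      refine orderOf_eq_prime ?_ h1
      rw [pow_two, ← map_mul, CfsgLib.Suzuki.uE_sq]
      simp [CfsgLib.Suzuki.uE_zero]
    · refine absurd ?_ (CfsgLib.Suzuki.not_real_of_ne_zero h (b := b) ha (c⁻¹ * x * c))
      simp only [MulEquiv.coe_toMonoidHom, MulAut.conj_apply] at hx
      calc c⁻¹ * x * c * CfsgLib.Suzuki.uE h a b * (c⁻¹ * x * c)⁻¹
          = c⁻¹ * (x * (c * CfsgLib.Suzuki.uE h a b * c⁻¹) * x⁻¹) * c := by group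
        _ = (CfsgLib.Suzuki.uE h a b)⁻¹ := by rw [hx]; group
  · intro ho
    have : g⁻¹ = g := by
      rw [inv_eq_iff_mul_eq_one, ← pow_two, ← ho, pow_orderOf_eq_one]
    rw [this]

end Cfsg.Agent.S2241
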