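import Cfsg.Statements.S2245
import Cfsg.Agent.SylowAlt.Overgroups

set_option autoImplicit false
open Cfsg

namespace Cfsg.Agent.S2245

open CfsgLib.SylowAlt

/-- Existence and uniqueness of a maximal overgroup only depends on the conjugacy class. -/
theorem transfer {G : Type*} [Group G] [Finite G] {p : ℕ} [Fact p.Prime] (R₀ R : Sylow p G)
    (h : ∃! M : Subgroup G, IsCoatom M ∧ (R₀ : Subgroup G) ≤ M) :
    ∃! M : Subgroup G, IsCoatom M ∧ (R : Subgroup G) ≤ M := by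
  obtain ⟨g, rfl⟩ := MulAction.exists_smul_eq G R₀ R
  obtain ⟨M, ⟨hM, hle⟩, huniq⟩ := h
  let e : Subgroup G ≃o Subgroup G := (MulAut.conj g).mapSubgroup
  have hR : ((g • R₀ : Sylow p G) : Subgroup G) = e (R₀ : Subgroup G) := by
    rw [Sylow.coe_subgroup_smul, Subgroup.pointwise_smul_def]
    rfl
  refine ⟨e M, ⟨(e.isCoatom_iff M).mpr hM, hR ▸ e.monotone hle⟩, fun N ⟨hN, hNle⟩ => ?_⟩
  rw [hR] at hNle
  have := huniq (e.symm N) ⟨(e.symm.isCoatom_iff N).mpr hN, e.le_symm_apply.mpr hNle⟩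
  rw [← this, e.apply_symm_apply]

theorem not_unique {G : Type*} [Group G] [Finite G] (R U V : Subgroup G) (hU : R ≤ U) (hV : R ≤ V)
    (hU' : U ≠ ⊤) (hV' : V ≠ ⊤) (h : ∀ M : Subgroup G, U ≤ M → V ≤ M → M = ⊤) :
    ¬ ∃! M : Subgroup G, IsCoatom M ∧ R ≤ M := by
  rintro ⟨M, -, huniq⟩
  obtain ⟨MU, hMU, hUM⟩ := (eq_top_or_exists_le_coatom U).resolve_left hU'
  obtain ⟨MV, hMV, hVM⟩ := (eq_top_or_exists_le_coatom V).resolve_left hV'
  have h1 := huniq MU ⟨hMU, hU.trans hUM⟩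
  have h2 := huniq MV ⟨hMV, hV.trans hVM⟩
  exact hMU.1 (h MU hUM (h1 ▸ h2 ▸ hVM))

theorem unique_of {G : Type*} [Group G] [Finite G] (R S : Subgroup G) (hRS : R ≤ S) (hS : S ≠ ⊤)
    (h : ∀ M : Subgroup G, R ≤ M → ¬ M ≤ S → M = ⊤) :
    ∃! M : Subgroup G, IsCoatom M ∧ R ≤ M := by
  have h' : ∀ M : Subgroup G, IsCoatom M → R ≤ M → M = S := fun M hM hR => by
    have hle : M ≤ S := by
      by_contra hc
      exact hM.1 (h M hR hc)
    exact hle.eq_of_not_lt fun hlt => hS (hM.2 _ hlt)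
  obtain ⟨M, hM, hSM⟩ := (eq_top_or_exists_le_coatom S).resolve_left hS
  exact ⟨M, ⟨hM, hRS.trans hSM⟩, fun N ⟨hN, hRN⟩ =>
    (h' N hN hRN).trans (h' M hM (hRS.trans hSM)).symm⟩

variable {n : ℕ}

/-- The fixed point of a 2-group containing the tree group. -/
theorem fixes_last {k : ℕ} (hk : 2 ≤ k) (hn : n = 2 ^ k + 1) {a : Fin n} (ha : a.val = 2 ^ k)
    (Q : Subgroup (Equiv.Perm (Fin n))) (hQ : IsPGroup 2 Q)
    (hT : ∀ σ ∈ tree n, Equiv.Perm.sign σ = 1 → σ ∈ Q) : ∀ σ ∈ Q, σ a = a := by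
  have heven : 2 ∣ 2 ^ k := dvd_pow_self 2 (by omega)
  have hpow : 4 ≤ 2 ^ k := by simpa using Nat.pow_le_pow_right (by norm_num : 0 < 2) hk
  obtain ⟨b, hb⟩ := hQ.nonempty_fixed_point_of_prime_not_dvd_card (Fin n) (by
    rw [Nat.card_fin, hn, Nat.dvd_add_right heven]; norm_num)
  have hba : b = a := by
    by_contra hne
    have hb2 : b.val < 2 ^ k := by
      have : b.val ≠ a.val := fun e => hne (Fin.ext e)
      omega
    let j : Fin (n / 2) := ⟨b.val / 2, by omega⟩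
    obtain ⟨i, hi⟩ : ∃ i : Fin (n / 2), i ≠ j := by
      by_cases h : j.val = 0
      · exact ⟨⟨1, by omega⟩, fun e => by have := congrArg Fin.val e; simp only at this; omega⟩
      · exact ⟨⟨0, by omega⟩, fun e => by have := congrArg Fin.val e; simp only at this; omega⟩
    have hm : pairSwap i * pairSwap j ∈ Q := hT _
      ((tree n).mul_mem (pairSwap_mem_tree _) (pairSwap_mem_tree _))
      (by rw [map_mul, sign_pairSwap, sign_pairSwap]; rfl)
    have he : (pairSwap i * pairSwap j) b = b := hb ⟨_, hm⟩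
    rw [Equiv.Perm.mul_apply, pairSwap_apply_of_ne] at he
    · exact pairSwap_apply_ne rfl he
    · rw [pairSwap_div]
      exact fun e => hi (Fin.ext e.symm)
  intro σ hσ
  exact hba ▸ hb ⟨σ, hσ⟩

theorem altTop_iff (M : Subgroup (alternatingGroup (Fin n))) :
    alternatingGroup (Fin n) ≤ M.map (alternatingGroup (Fin n)).subtype → M = ⊤ := by
  intro h
  rw [eq_top_iff]
  intro x _
  obtain ⟨y, hy, hyx⟩ := h x.2
  rwa [Subtype.ext hyx] at hy

theorem alt_case (hn : 5 ≤ n) (h6 : n ≠ 6) (R : Sylow 2 (alternatingGroup (Fin n))) :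
    (∃! M : Subgroup (alternatingGroup (Fin n)), IsCoatom M ∧ (R : Subgroup (alternatingGroup (Fin n))) ≤ M) ↔
      ∃ k : ℕ, 2 ≤ k ∧ n = 2 ^ k + 1 := by
  by_cases hk : ∃ k : ℕ, 2 ≤ k ∧ n = 2 ^ k + 1
  · refine iff_of_true ?_ hk
    obtain ⟨k, hk, hnk⟩ := hk
    obtain ⟨R₀, hR₀⟩ := (isPGroup_altTree n).exists_le_sylow
    refine transfer R₀ R ?_
    let a : Fin n := ⟨2 ^ k, by omega⟩
    have hmem : ∀ σ ∈ tree n, Equiv.Perm.sign σ = 1 →
        σ ∈ (R₀ : Subgroup (alternatingGroup (Fin n))).map (alternatingGroup (Fin n)).subtype :=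
      fun σ h1 h2 => ⟨⟨σ, Equiv.Perm.mem_alternatingGroup.mpr h2⟩, hR₀ h1, rfl⟩
    refine unique_of _ (MulAction.stabilizer (alternatingGroup (Fin n)) a) ?_ ?_ ?_
    · intro σ hσ
      exact fixes_last hk hnk (a := a) rfl _ (R₀.2.map _) hmem σ.1 ⟨σ, hσ, rfl⟩
    · intro h
      have h2 : 4 ≤ 2 ^ k := by simpa using Nat.pow_le_pow_right (by norm_num : 0 < 2) hk
      have hc : Equiv.swap a (⟨0, by omega⟩ : Fin n) * Equiv.swap ⟨1, by omega⟩ ⟨2, by omega⟩ ∈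
          alternatingGroup (Fin n) := by
        rw [Equiv.Perm.mem_alternatingGroup, map_mul, Equiv.Perm.sign_swap, Equiv.Perm.sign_swap] <;>
          simp [a, Fin.ext_iff] <;> omega
      have := MulAction.mem_stabilizer_iff.mp
        (h ▸ Subgroup.mem_top (⟨_, hc⟩ : alternatingGroup (Fin n)))
      rw [Subgroup.mk_smul, Equiv.Perm.smul_def, swap_mul_swap_left] at this <;>
        simp [a, Fin.ext_iff] at * <;> omega
    · intro M hM hns
      obtain ⟨g, hg, hga⟩ := SetLike.not_le_iff_exists.mp hns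
      apply altTop_iff
      refine alternating_le_of_moves_last hk hnk (g := g.1) (a := a) ?_ ⟨g, hg, rfl⟩ rfl hga
      intro σ h1 h2
      exact Subgroup.map_mono hM (hmem σ h1 h2)
  · refine iff_of_false (fun h => ?_) hk
    have h7 : 7 ≤ n := by
      by_contra
      exact hk ⟨2, le_rfl, by omega⟩
    obtain ⟨R₀, hR₀⟩ := exists_sylow_eq_altTree (n := n) (by omega)
    have hns : ∀ k : ℕ, n ≠ 2 ^ k + 1 := fun k e => hk ⟨k, by
      by_contra hlt
      have : 2 ^ k ≤ 2 ^ 1 := Nat.pow_le_pow_right (by norm_num) (by omega)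
      omega, e⟩
    obtain ⟨U, V, hTU, hTV, hU, hV, hUV⟩ := exists_two_overgroups h7 hns
    refine not_unique (R₀ : Subgroup (alternatingGroup (Fin n))) (U.subgroupOf _) (V.subgroupOf _)
      ?_ ?_ ?_ ?_ ?_ (transfer R R₀ h)
    · rw [hR₀]; exact fun σ hσ => hTU hσ
    · rw [hR₀]; exact fun σ hσ => hTV hσ
    · exact fun e => hU (Subgroup.subgroupOf_eq_top.mp e)
    · exact fun e => hV (Subgroup.subgroupOf_eq_top.mp e)
    · intro M h1 h2
      apply altTop_iff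
      exact hUV _ (fun σ hσ => ⟨⟨σ, hσ.2⟩, h1 hσ.1, rfl⟩) (fun σ hσ => ⟨⟨σ, hσ.2⟩, h2 hσ.1, rfl⟩)

theorem perm_top {M : Subgroup (Equiv.Perm (Fin n))} (h : alternatingGroup (Fin n) ≤ M)
    {τ : Equiv.Perm (Fin n)} (hτ : τ ∈ M) (hs : Equiv.Perm.sign τ = -1) : M = ⊤ := by
  rw [eq_top_iff]
  intro σ _
  rcases Int.units_eq_one_or (Equiv.Perm.sign σ) with h1 | h1
  · exact h (Equiv.Perm.mem_alternatingGroup.mpr h1)
  · have : σ = τ * (τ⁻¹ * σ) := by group
    rw [this]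
    refine M.mul_mem hτ (h (Equiv.Perm.mem_alternatingGroup.mpr ?_))
    rw [map_mul, map_inv, hs, h1]; rfl

theorem perm_case (hn : 5 ≤ n) (h6 : n ≠ 6) (R : Sylow 2 (Equiv.Perm (Fin n))) :
    (∃! M : Subgroup (Equiv.Perm (Fin n)), IsCoatom M ∧ (R : Subgroup (Equiv.Perm (Fin n))) ≤ M) ↔
      ∃ k : ℕ, 2 ≤ k ∧ n = 2 ^ k + 1 := by
  obtain ⟨R₀, hR₀⟩ := exists_sylow_eq_tree n
  let j : Fin (n / 2) := ⟨0, by omega⟩
  by_cases hk : ∃ k : ℕ, 2 ≤ k ∧ n = 2 ^ k + 1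
  · refine iff_of_true ?_ hk
    obtain ⟨k, hk, hnk⟩ := hk
    refine transfer R₀ R ?_
    let a : Fin n := ⟨2 ^ k, by omega⟩
    refine unique_of _ (MulAction.stabilizer (Equiv.Perm (Fin n)) a) ?_ ?_ ?_
    · rw [hR₀]
      exact fixes_last hk hnk (a := a) rfl _ (isPGroup_tree n) (fun σ h _ => h)
    · intro h
      have h2 : 4 ≤ 2 ^ k := by simpa using Nat.pow_le_pow_right (by norm_num : 0 < 2) hk
      have := MulAction.mem_stabilizer_iff.mp
        (h ▸ Subgroup.mem_top (Equiv.swap a (⟨0, by omega⟩ : Fin n)))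
      rw [Equiv.Perm.smul_def, Equiv.swap_apply_left] at this
      simp [a, Fin.ext_iff] at this; omega
    · intro M hM hns
      rw [hR₀] at hM
      obtain ⟨g, hg, hga⟩ := SetLike.not_le_iff_exists.mp hns
      exact perm_top (alternating_le_of_moves_last hk hnk (fun σ h _ => hM h) hg (a := a) rfl hga)
        (hM (pairSwap_mem_tree j)) (sign_pairSwap j)
  · refine iff_of_false (fun h => ?_) hk
    have h7 : 7 ≤ n := by
      by_contra
      exact hk ⟨2, le_rfl, by omega⟩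
    have hns : ∀ k : ℕ, n ≠ 2 ^ k + 1 := fun k e => hk ⟨k, by
      by_contra hlt
      have : 2 ^ k ≤ 2 ^ 1 := Nat.pow_le_pow_right (by norm_num) (by omega)
      omega, e⟩
    obtain ⟨U, V, hTU, hTV, hU, hV, hUV⟩ := exists_two_overgroups h7 hns
    refine not_unique (R₀ : Subgroup (Equiv.Perm (Fin n))) U V (hR₀ ▸ hTU) (hR₀ ▸ hTV)
      (fun e => hU (e ▸ le_top)) (fun e => hV (e ▸ le_top)) ?_ (transfer R R₀ h)
    intro M h1 h2
    exact perm_top (hUV M (inf_le_left.trans h1) (inf_le_left.trans h2))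
      (h1 (hTU (pairSwap_mem_tree j))) (sign_pairSwap j)

/-- For n ≥ 5 with n ≠ 6, a Sylow 2-subgroup of the alternating group A_n lies in exactly one maximal subgroup of A_n if and only if n = 2^k + 1 for some k ≥ 2; the same holds for the symmetric group S_n. -/
theorem result (n : ℕ) (hn : 5 ≤ n) (h6 : n ≠ 6) :
    ((∀ R : Sylow 2 ↥(alternatingGroup (Fin n)), (∃! M : Subgroup ↥(alternatingGroup (Fin n)), IsCoatom M ∧ (R : Subgroup ↥(alternatingGroup (Fin n))) ≤ M) ↔ ∃ k : ℕ, 2 ≤ k ∧ n = 2 ^ k + 1) ∧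
    (∀ R : Sylow 2 (Equiv.Perm (Fin n)), (∃! M : Subgroup (Equiv.Perm (Fin n)), IsCoatom M ∧ (R : Subgroup (Equiv.Perm (Fin n))) ≤ M) ↔ ∃ k : ℕ, 2 ≤ k ∧ n = 2 ^ k + 1)) := by
  exact ⟨alt_case hn h6, perm_case hn h6⟩

end Cfsg.Agent.S2245
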