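import Cfsg.Statements.S2247
import Cfsg.Agent.Suzuki.Sylow
-- import your own Cfsg.Agent.* helpers here

set_option autoImplicit false
open Cfsg

namespace Cfsg.Agent.S2247

/-- In the Suzuki group with q = 2^(2m+1), m ≥ 1 (realised as the stabiliser in SL₄ of the Suzuki–Tits ovoid), the normalizer of a Sylow 2-subgroup P is a maximal subgroup and is the only maximal subgroup containing P. -/
theorem result {F : Type*} [Field F] [Fintype F] {m : ℕ} (hm : 1 ≤ m) (hF : Fintype.card F = 2 ^ (2 * m + 1)) (P : Sylow 2 ↥(Cfsg.Sz F m)) :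
    IsCoatom (Subgroup.normalizer ((P : Subgroup ↥(Cfsg.Sz F m)) : Set ↥(Cfsg.Sz F m))) ∧
    ∀ M : Subgroup ↥(Cfsg.Sz F m), IsCoatom M → (P : Subgroup ↥(Cfsg.Sz F m)) ≤ M → M = Subgroup.normalizer ((P : Subgroup ↥(Cfsg.Sz F m)) : Set ↥(Cfsg.Sz F m)) := by
  have h := CfsgLib.Suzuki.isSzField_of_card hm hF
  obtain ⟨c, hc⟩ := CfsgLib.Suzuki.sylow_eq_conj h P
  rw [hc]
  set φ := (MulAut.conj c) with hφ
  have hN : Subgroup.normalizer
      (((CfsgLib.Suzuki.unip h).map φ.toMonoidHom : Subgroup (Cfsg.Sz F m)) : Set (Cfsg.Sz F m)) =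
      (CfsgLib.Suzuki.borel F m).map φ.toMonoidHom := by
    rw [← CfsgLib.Suzuki.normalizer_unip h]
    exact (Subgroup.map_equiv_normalizer_eq (CfsgLib.Suzuki.unip h) φ).symm
  rw [hN]
  have key : ∀ M : Subgroup (Cfsg.Sz F m), (CfsgLib.Suzuki.unip h).map φ.toMonoidHom ≤ M → M ≠ ⊤ →
      M ≤ (CfsgLib.Suzuki.borel F m).map φ.toMonoidHom := by
    intro M hM hne
    have h1 : CfsgLib.Suzuki.unip h ≤ M.comap φ.toMonoidHom := Subgroup.map_le_iff_le_comap.1 hM
    have h2 : M.comap φ.toMonoidHom ≠ ⊤ := fun e => hne (by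
      rw [← Subgroup.map_comap_eq_self_of_surjective (f := φ.toMonoidHom) φ.surjective M, e,
        Subgroup.map_top_of_surjective _ φ.surjective])
    have h3 := Subgroup.map_mono (f := φ.toMonoidHom) (CfsgLib.Suzuki.le_borel_of_unip_le h h1 h2)
    rwa [Subgroup.map_comap_eq_self_of_surjective (f := φ.toMonoidHom) φ.surjective] at h3
  have hBne : (CfsgLib.Suzuki.borel F m).map φ.toMonoidHom ≠ ⊤ := fun e =>
    CfsgLib.Suzuki.borel_ne_top h (by
      rw [← Subgroup.comap_map_eq_self_of_injective (f := φ.toMonoidHom) φ.injective (CfsgLib.Suzuki.borel F m), e,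
        Subgroup.comap_top])
  have hUB : (CfsgLib.Suzuki.unip h).map φ.toMonoidHom ≤
      (CfsgLib.Suzuki.borel F m).map φ.toMonoidHom :=
    Subgroup.map_mono (CfsgLib.Suzuki.unip_le_stab h)
  refine ⟨⟨hBne, fun K hK => ?_⟩, fun M hM hPM => ?_⟩
  · by_contra hne
    exact not_lt_of_ge (key K (hUB.trans hK.le) hne) hK
  · exact ((hM.le_iff_eq hBne).1 (key M hPM hM.1)).symm

end Cfsg.Agent.S2247
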