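import Cfsg.Statements.S2254
import Cfsg.Agent.NilpotentPerm.Extremal

set_option autoImplicit false
open Cfsg

namespace Cfsg.Agent.S2254

open CfsgLib.NilpotentPerm


/-- Let n ≡ 3 (mod 4). Then every nilpotent subgroup of the symmetric group on n letters has order at most 3 times the order of a Sylow 2-subgroup of the symmetric group on n − 3 letters; the bound is attained by a nilpotent subgroup isomorphic to the direct product of such a Sylow 2-subgroup with a cyclic group of order 3; and any two nilpotent subgroups attaining the bound are conjugate. -/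
theorem result  (n : ℕ) (hn : n % 4 = 3)
    (P : Sylow 2 (Equiv.Perm (Fin (n - 3)))) :
    (∀ N : Subgroup (Equiv.Perm (Fin n)), Group.IsNilpotent N → Nat.card N ≤ 3 * Nat.card P) ∧
    (∃ M : Subgroup (Equiv.Perm (Fin n)), Group.IsNilpotent M ∧ Nat.card M = 3 * Nat.card P ∧
      Nonempty (M ≃* (↥(P : Subgroup (Equiv.Perm (Fin (n - 3)))) × Multiplicative (ZMod 3)))) ∧
    (∀ N₁ N₂ : Subgroup (Equiv.Perm (Fin n)), Group.IsNilpotent N₁ → Group.IsNilpotent N₂ →
      Nat.card N₁ = 3 * Nat.card P → Nat.card N₂ = 3 * Nat.card P →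
      ∃ g : Equiv.Perm (Fin n), N₂ = N₁.map (MulAut.conj g).toMonoidHom) := by
  have hP := card_sylow_perm (n - 3) P
  refine ⟨fun N hN => ?_, ?_, ?_⟩
  · rw [hP, ← M_eq_of_mod hn]
    exact card_le n (Fin n) (Nat.card_fin n) N hN
  · let f : ↥(P : Subgroup (Equiv.Perm (Fin (n - 3)))) × Multiplicative (ZMod 3) →* Equiv.Perm (Fin n) :=
      (emb n (by omega)).comp ((P : Subgroup (Equiv.Perm (Fin (n - 3)))).subtype.prodMap (MonoidHom.id _))
    have hf : Function.Injective f := (emb_injective n (by omega)).comp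
      (Function.Injective.prodMap Subtype.val_injective Function.injective_id)
    haveI : Group.IsNilpotent ↥(P : Subgroup (Equiv.Perm (Fin (n - 3)))) := P.isPGroup'.isNilpotent
    refine ⟨f.range, Group.nilpotent_of_mulEquiv (MonoidHom.ofInjective hf), ?_,
      ⟨(MonoidHom.ofInjective hf).symm⟩⟩
    rw [← Nat.card_congr (MonoidHom.ofInjective hf).toEquiv, Nat.card_prod, mul_comm]
    congr 1
    simp
  · intro N₁ N₂ hN₁ hN₂ hc₁ hc₂
    rw [hP] at hc₁ hc₂
    obtain ⟨z₁, hz₁, -, hle₁, R₁, hR₁, hR₁2, hR₁c, he₁⟩ := exists_decomp N₁ hN₁ hc₁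
    obtain ⟨z₂, hz₂, -, hle₂, R₂, hR₂, hR₂2, hR₂c, he₂⟩ := exists_decomp N₂ hN₂ hc₂
    have hn' : Nat.card (Fin n) % 4 = 3 := by rwa [Nat.card_fin]
    have t₁ := isThreeCycle_of_large hn' z₁ hz₁ R₁ (hR₁.trans hle₁) hR₁2
      (Or.inl (by rwa [Nat.card_fin]))
    have t₂ := isThreeCycle_of_large hn' z₂ hz₂ R₂ (hR₂.trans hle₂) hR₂2
      (Or.inl (by rwa [Nat.card_fin]))
    have hconj : IsConj z₁ z₂ := by
      rw [Equiv.Perm.isConj_iff_cycleType_eq]; exact t₁.trans t₂.symm
    obtain ⟨g, hg⟩ := conj_of_bound hconj R₁ R₂ (hR₁.trans hle₁) (hR₂.trans hle₂) hR₁2 hR₂2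
      hR₁c hR₂c (fun R hR hR2 => by simpa using (card_two_cent_three_le z₂ t₂ R hR hR2).1)
    exact ⟨g, by rw [he₁, he₂]; exact hg⟩

end Cfsg.Agent.S2254
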