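import Cfsg.Statements.S2255
import Cfsg.Agent.NilpotentPerm.Extremal

set_option autoImplicit false
open Cfsg

namespace Cfsg.Agent.S2255

open CfsgLib.NilpotentPerm


/-- Let n be a natural number not congruent to 3 modulo 4, with n ∉ {5, 6, 9}. Then every nilpotent subgroup of the alternating group on n letters has order at most the order of a Sylow 2-subgroup of the alternating group (so the nilpotent subgroups of largest order are exactly the Sylow 2-subgroups). -/
theorem result  (n : ℕ) (hn : n % 4 ≠ 3)
    (h5 : n ≠ 5) (h6 : n ≠ 6) (h9 : n ≠ 9)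
    (N : Subgroup (alternatingGroup (Fin n))) (hN : Group.IsNilpotent N)
    (P : Sylow 2 (alternatingGroup (Fin n))) :
    Nat.card N ≤ Nat.card P := by
  have hsign : ∀ g ∈ N.map (alternatingGroup (Fin n)).subtype, Equiv.Perm.sign g = 1 := by
    rintro _ ⟨g, -, rfl⟩; exact g.2
  have hb := card_le_even n (Fin n) (Nat.card_fin n) (N.map (alternatingGroup (Fin n)).subtype)
    (isNilpotent_map _ _ hN) hsign
  rw [Subgroup.card_map_of_injective (alternatingGroup (Fin n)).subtype_injective] at hb
  refine hb.trans ?_
  rcases lt_or_ge n 4 with h | h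
  · have hp : 0 < Nat.card P := Nat.card_pos
    have hv := B_vals
    interval_cases n <;> omega
  · have h1 := card_sylow_alt n (by omega) P
    have h2 := two_mul_B h h5 h6 h9
    rw [M_eq_of_mod_ne hn] at h2
    omega

end Cfsg.Agent.S2255
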