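import Cfsg.Statements.S2256
import Cfsg.Agent.NilpotentPerm.Extremal

set_option autoImplicit false
open Cfsg

namespace Cfsg.Agent.S2256

open CfsgLib.NilpotentPerm


/-- Let n ≡ 3 (mod 4) with n ≥ 7. Then every nilpotent subgroup of the alternating group on n letters has order at most 3 times the order of a Sylow 2-subgroup of the alternating group on n − 3 letters; the bound is attained by a nilpotent subgroup isomorphic to the direct product of such a Sylow 2-subgroup with a cyclic group of order 3; and any two nilpotent subgroups of the alternating group attaining the bound are conjugate in it. -/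
theorem result  (n : ℕ) (hn : n % 4 = 3) (h7 : 7 ≤ n)
    (P : Sylow 2 (alternatingGroup (Fin (n - 3)))) :
    (∀ N : Subgroup (alternatingGroup (Fin n)), Group.IsNilpotent N → Nat.card N ≤ 3 * Nat.card P) ∧
    (∃ M : Subgroup (alternatingGroup (Fin n)), Group.IsNilpotent M ∧ Nat.card M = 3 * Nat.card P ∧
      Nonempty (M ≃* (↥(P : Subgroup (alternatingGroup (Fin (n - 3)))) × Multiplicative (ZMod 3)))) ∧
    (∀ N₁ N₂ : Subgroup (alternatingGroup (Fin n)), Group.IsNilpotent N₁ → Group.IsNilpotent N₂ →
      Nat.card N₁ = 3 * Nat.card P → Nat.card N₂ = 3 * Nat.card P →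
      ∃ g : alternatingGroup (Fin n), N₂ = N₁.map (MulAut.conj g).toMonoidHom) := by
  have hP := card_sylow_alt (n - 3) (by omega) P
  set A := alternatingGroup (Fin n) with hA
  refine ⟨fun N hN => ?_, ?_, ?_⟩
  · have hsign : ∀ g ∈ N.map A.subtype, Equiv.Perm.sign g = 1 := by
      rintro _ ⟨g, -, rfl⟩; exact g.2
    have hb := card_le_even n (Fin n) (Nat.card_fin n) (N.map A.subtype)
      (isNilpotent_map _ _ hN) hsign
    rw [Subgroup.card_map_of_injective A.subtype_injective] at hb
    have h2 := two_mul_B (n := n) (by omega) (by omega) (by omega) (by omega)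
    rw [M_eq_of_mod hn] at h2
    omega
  · let g : ↥(P : Subgroup (alternatingGroup (Fin (n - 3)))) × Multiplicative (ZMod 3) →* Equiv.Perm (Fin n) :=
      (emb n (by omega)).comp (((alternatingGroup (Fin (n - 3))).subtype.comp
        (P : Subgroup (alternatingGroup (Fin (n - 3)))).subtype).prodMap (MonoidHom.id _))
    let f : ↥(P : Subgroup (alternatingGroup (Fin (n - 3)))) × Multiplicative (ZMod 3) →* A :=
      g.codRestrict A (fun u => by
        show Equiv.Perm.sign _ = 1
        exact (sign_emb n (by omega) _).trans u.1.1.2)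
    have hf : Function.Injective f := by
      intro u v h
      have h' := emb_injective n (by omega) (congrArg Subtype.val h)
      exact Prod.ext (Subtype.ext (Subtype.ext (congrArg Prod.fst h' :))) (congrArg Prod.snd h' :)
    haveI : Group.IsNilpotent ↥(P : Subgroup (alternatingGroup (Fin (n - 3)))) :=
      P.isPGroup'.isNilpotent
    refine ⟨f.range, Group.nilpotent_of_mulEquiv (MonoidHom.ofInjective hf), ?_,
      ⟨(MonoidHom.ofInjective hf).symm⟩⟩
    rw [← Nat.card_congr (MonoidHom.ofInjective hf).toEquiv, Nat.card_prod, mul_comm]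
    congr 1
    simp
  · intro N₁ N₂ hN₁ hN₂ hc₁ hc₂
    have hPc := P.card_eq_multiplicity
    set j := (Nat.card (alternatingGroup (Fin (n - 3)))).factorization 2
    rw [hPc] at hc₁ hc₂
    obtain ⟨z₁, hz₁, -, hle₁, R₁, hR₁, hR₁2, hR₁c, he₁⟩ := exists_decomp N₁ hN₁ hc₁
    obtain ⟨z₂, hz₂, -, hle₂, R₂, hR₂, hR₂2, hR₂c, he₂⟩ := exists_decomp N₂ hN₂ hc₂
    have hn' : Nat.card (Fin n) % 4 = 3 := by rwa [Nat.card_fin]
    have hcent : ∀ (z : A) (R : Subgroup A), R ≤ Subgroup.centralizer {z} →
        R.map A.subtype ≤ Cx (z : Equiv.Perm (Fin n)) := by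
      rintro z R hR _ ⟨u, hu, rfl⟩
      rw [Subgroup.mem_centralizer_singleton_iff]
      exact congrArg Subtype.val (Subgroup.mem_centralizer_singleton_iff.mp (hR hu))
    have heven : ∀ R : Subgroup A, ∀ g ∈ R.map A.subtype, Equiv.Perm.sign g = 1 := by
      rintro R _ ⟨u, -, rfl⟩; exact u.2
    have three : ∀ (z : A) (R : Subgroup A), orderOf z = 3 → R ≤ Subgroup.centralizer {z} →
        IsPGroup 2 R → Nat.card R = 2 ^ j → (z : Equiv.Perm (Fin n)).IsThreeCycle := by
      intro z R hz hR hR2 hc
      refine isThreeCycle_of_large hn' _ ((Subgroup.orderOf_coe z).trans hz) _ (hcent z R hR)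
        (hR2.map _) (Or.inr ⟨heven R, ?_⟩)
      rw [Subgroup.card_map_of_injective A.subtype_injective, hc, ← hPc, Nat.card_fin]
      exact hP
    have t₁ := three z₁ R₁ hz₁ (hR₁.trans hle₁) hR₁2 hR₁c
    have t₂ := three z₂ R₂ hz₂ (hR₂.trans hle₂) hR₂2 hR₂c
    have hconj : IsConj z₁ z₂ :=
      alternatingGroup.isThreeCycle_isConj (by rw [Nat.card_fin]; omega) t₁ t₂
    obtain ⟨g, hg⟩ := conj_of_bound hconj R₁ R₂ (hR₁.trans hle₁) (hR₂.trans hle₂) hR₁2 hR₂2
      hR₁c hR₂c (fun R hR hR2 => by
        have h := (card_two_cent_three_le _ t₂ _ (hcent z₂ R hR) (hR2.map _)).2 (heven R)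
          (by rw [Nat.card_fin]; omega)
        rw [Subgroup.card_map_of_injective A.subtype_injective, Nat.card_fin, ← hP, hPc] at h
        omega)
    exact ⟨g, by rw [he₁, he₂]; exact hg⟩

end Cfsg.Agent.S2256
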