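import Cfsg.Statements.S2257
import Cfsg.Agent.Solubilizer.EvenCount

set_option autoImplicit false
open Cfsg

namespace Cfsg.Agent.S2257

/-- Let G = PSL_2(F) with F a field of order q = 2^p, p prime, and for x ∈ G call the solubilizer of x the set of y ∈ G such that x and y generate a solvable subgroup. Then the solubilizer of an involution has 3q(q − 1) elements; that of a non-identity element of order dividing q − 1 has 2q(q − 1) elements; and that of a non-identity element of order dividing q + 1 has 2(q + 1) elements. -/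
theorem result (p : ℕ) (hp : p.Prime) {F : Type*} [Field F] [Fintype F]
    (hF : Fintype.card F = 2 ^ p) (x : Matrix.ProjectiveSpecialLinearGroup (Fin 2) F) :
    (orderOf x = 2 → Nat.card {y : Matrix.ProjectiveSpecialLinearGroup (Fin 2) F // Group.IsSolvable ↥(Subgroup.closure ({x, y} : Set (Matrix.ProjectiveSpecialLinearGroup (Fin 2) F)))} = 3 * 2 ^ p * (2 ^ p - 1)) ∧
    (x ≠ 1 → orderOf x ∣ 2 ^ p - 1 → Nat.card {y : Matrix.ProjectiveSpecialLinearGroup (Fin 2) F // Group.IsSolvable ↥(Subgroup.closure ({x, y} : Set (Matrix.ProjectiveSpecialLinearGroup (Fin 2) F)))} = 2 * 2 ^ p * (2 ^ p - 1)) ∧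
    (x ≠ 1 → orderOf x ∣ 2 ^ p + 1 → Nat.card {y : Matrix.ProjectiveSpecialLinearGroup (Fin 2) F // Group.IsSolvable ↥(Subgroup.closure ({x, y} : Set (Matrix.ProjectiveSpecialLinearGroup (Fin 2) F)))} = 2 * (2 ^ p + 1)) := by
  have : CharP F 2 := by
    haveI : Fact (Nat.Prime 2) := ⟨Nat.prime_two⟩
    exact charP_of_card_eq_prime_pow hF
  have hpos : 2 ∣ 2 ^ p := dvd_pow_self 2 hp.ne_zero
  have h1 : 1 ≤ 2 ^ p := Nat.one_le_two_pow
  have hodd1 : ¬ 2 ∣ 2 ^ p - 1 := by omega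
  have hodd2 : ¬ 2 ∣ 2 ^ p + 1 := by omega
  have hcop : ∀ n : ℕ, n ∣ 2 ^ p - 1 → n ∣ 2 ^ p + 1 → n = 1 := by
    intro n ha hb
    have h2 : n ∣ 2 := by
      have := Nat.dvd_sub hb ha
      rwa [show 2 ^ p + 1 - (2 ^ p - 1) = 2 by omega] at this
    rcases (Nat.dvd_prime Nat.prime_two).1 h2 with h | h
    · exact h
    · exact absurd (h ▸ ha) hodd1
  rcases CfsgLib.Solubilizer.num_cases hp hF x with h | ⟨ho, hn⟩ | ⟨ho, h1', hn⟩ | ⟨ho, h1', hn⟩
  · refine ⟨fun h2 => ?_, fun h2 => absurd h h2, fun h2 => absurd h h2⟩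
    rw [h, orderOf_one] at h2
    omega
  · exact ⟨fun _ => hn, fun _ hd => absurd (by rwa [ho] at hd) hodd1, fun _ hd => absurd (by rwa [ho] at hd) hodd2⟩
  · exact ⟨fun h2 => absurd (by rwa [h2] at ho) hodd1, fun _ _ => hn, fun _ hd => absurd (hcop _ ho hd) h1'⟩
  · exact ⟨fun h2 => absurd (by rwa [h2] at ho) hodd2, fun _ hd => absurd (hcop _ hd ho) h1', fun _ _ => hn⟩

end Cfsg.Agent.S2257
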