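import Cfsg.Statements.S2258
import Cfsg.Agent.Solubilizer.ThreeMain

set_option autoImplicit false
open Cfsg

namespace Cfsg.Agent.S2258

/-- Let G = PSL_2(F) with F a field of order q = 3^p, p an odd prime, and for x ∈ G call the solubilizer of x the set of y ∈ G such that x and y generate a solvable subgroup. Then the solubilizer of an involution has q(q + 1) elements; that of an element of order 3 has q(q + 5)/2 elements; that of an element of order neither 1 nor 2 dividing q − 1 has q(q − 1) elements; and that of an element of order neither 1 nor 2 dividing q + 1 has q + 1 elements. -/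
theorem result (p : ℕ) (hp : p.Prime) (hodd : Odd p) {F : Type*} [Field F] [Fintype F]
    (hF : Fintype.card F = 3 ^ p) (x : Matrix.ProjectiveSpecialLinearGroup (Fin 2) F) :
    (orderOf x = 2 → Nat.card {y : Matrix.ProjectiveSpecialLinearGroup (Fin 2) F // Group.IsSolvable ↥(Subgroup.closure ({x, y} : Set (Matrix.ProjectiveSpecialLinearGroup (Fin 2) F)))} = 3 ^ p * (3 ^ p + 1)) ∧
    (orderOf x = 3 → 2 * Nat.card {y : Matrix.ProjectiveSpecialLinearGroup (Fin 2) F // Group.IsSolvable ↥(Subgroup.closure ({x, y} : Set (Matrix.ProjectiveSpecialLinearGroup (Fin 2) F)))} = 3 ^ p * (3 ^ p + 5)) ∧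
    (x ≠ 1 → orderOf x ≠ 2 → orderOf x ∣ 3 ^ p - 1 → Nat.card {y : Matrix.ProjectiveSpecialLinearGroup (Fin 2) F // Group.IsSolvable ↥(Subgroup.closure ({x, y} : Set (Matrix.ProjectiveSpecialLinearGroup (Fin 2) F)))} = 3 ^ p * (3 ^ p - 1)) ∧
    (x ≠ 1 → orderOf x ≠ 2 → orderOf x ∣ 3 ^ p + 1 → Nat.card {y : Matrix.ProjectiveSpecialLinearGroup (Fin 2) F // Group.IsSolvable ↥(Subgroup.closure ({x, y} : Set (Matrix.ProjectiveSpecialLinearGroup (Fin 2) F)))} = 3 ^ p + 1) := by
  have : CharP F 3 := by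
    haveI : Fact (Nat.Prime 3) := ⟨Nat.prime_three⟩
    exact charP_of_card_eq_prime_pow hF
  have h3 : 3 ∣ 3 ^ p := dvd_pow_self 3 hp.ne_zero
  have h1 : 1 ≤ 3 ^ p := Nat.one_le_pow _ _ (by norm_num)
  have hd1 : ¬ 3 ∣ 3 ^ p - 1 := by omega
  have hd2 : ¬ 3 ∣ 3 ^ p + 1 := by omega
  have hcop : ∀ n : ℕ, n ∣ 3 ^ p - 1 → n ∣ 3 ^ p + 1 → n = 1 ∨ n = 2 := by
    intro n ha hb
    have h2 : n ∣ 2 := by
      have := Nat.dvd_sub hb ha
      rwa [show 3 ^ p + 1 - (3 ^ p - 1) = 2 by omega] at this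
    exact (Nat.dvd_prime Nat.prime_two).1 h2
  rcases CfsgLib.Solubilizer.num_cases_three hp hodd hF x with h | ⟨ho, hn⟩ | ⟨ho, hn⟩ |
      ⟨ho, h1', h2', hn⟩ | ⟨ho, h1', h2', hn⟩
  · refine ⟨fun h2 => ?_, fun h2 => ?_, fun h2 => absurd h h2, fun h2 => absurd h h2⟩ <;>
      rw [h, orderOf_one] at h2 <;> omega
  · exact ⟨fun _ => hn, fun h => by omega, fun _ h => absurd ho h, fun _ h => absurd ho h⟩
  · exact ⟨fun h => by omega, fun _ => hn, fun _ _ hd => absurd (by rwa [ho] at hd) hd1,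
      fun _ _ hd => absurd (by rwa [ho] at hd) hd2⟩
  · exact ⟨fun h => absurd h h2', fun h => absurd (by rwa [h] at ho) hd1, fun _ _ _ => hn,
      fun _ _ hd => ((hcop _ ho hd).elim (fun e => absurd e h1') (fun e => absurd e h2'))⟩
  · exact ⟨fun h => absurd h h2', fun h => absurd (by rwa [h] at ho) hd2,
      fun _ _ hd => ((hcop _ hd ho).elim (fun e => absurd e h1') (fun e => absurd e h2')), fun _ _ _ => hn⟩

end Cfsg.Agent.S2258
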