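import Cfsg.Statements.S2259
import Cfsg.Agent.Suzuki.Solubilizer
import Cfsg.Agent.Suzuki.LieModel

set_option autoImplicit false
open Cfsg

namespace Cfsg.Agent.S2259

open CfsgLib.Suzuki

/-- Solubility of a two-generated subgroup is invariant under isomorphisms. -/
theorem isSolvable_closure_pair {G H : Type*} [Group G] [Group H] (e : G ≃* H) (x y : G) :
    Group.IsSolvable (Subgroup.closure ({x, y} : Set G)) ↔
      Group.IsSolvable (Subgroup.closure ({e x, e y} : Set H)) := by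
  have he : (Subgroup.closure ({x, y} : Set G)).map e.toMonoidHom =
      Subgroup.closure ({e x, e y} : Set H) := by
    rw [MonoidHom.map_closure, Set.image_pair]; rfl
  rw [← he]
  let f := (Subgroup.closure ({x, y} : Set G)).equivMapOfInjective e.toMonoidHom e.injective
  exact ⟨fun _ => Group.isSolvable_of_surjective (f := f.toMonoidHom) f.surjective,
    fun _ => Group.isSolvable_of_surjective (f := f.symm.toMonoidHom) f.symm.surjective⟩

/-- Let G be the Suzuki group Sz(q), q = 2^(2m+1) with 2m + 1 prime and m ≥ 1, realised inside Sp_4(F) for F the field of order q, write r = 2^(m+1) (so r² = 2q), and for x ∈ G call the solubilizer of x the set of y ∈ G such that x and y generate a solvable subgroup. Then the solubilizer of an involution has q²(4q − 3) elements; that of an element of order 4 has q²(q + 3) elements; that of a non-identity element of order dividing q − 1 has 2q²(q − 1) elements; that of a non-identity element of order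 dividing q + r + 1 has 4(q + r + 1) elements; and that of a non-identity element of order dividing q − r + 1 has 4(q − r + 1) elements. -/
theorem result {F : Type*} [Field F] [Fintype F] {m : ℕ} (hm : 1 ≤ m)
    (hp : (2 * m + 1).Prime) (hF : Fintype.card F = 2 ^ (2 * m + 1)) (x : ↥(Cfsg.Lie.Sz F (2 ^ (m + 1)))) :
    (orderOf x = 2 → Nat.card {y : ↥(Cfsg.Lie.Sz F (2 ^ (m + 1))) // Group.IsSolvable ↥(Subgroup.closure ({x, y} : Set (↥(Cfsg.Lie.Sz F (2 ^ (m + 1))))))} = (2 ^ (2 * m + 1)) ^ 2 * (4 * 2 ^ (2 * m + 1) - 3)) ∧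
    (orderOf x = 4 → Nat.card {y : ↥(Cfsg.Lie.Sz F (2 ^ (m + 1))) // Group.IsSolvable ↥(Subgroup.closure ({x, y} : Set (↥(Cfsg.Lie.Sz F (2 ^ (m + 1))))))} = (2 ^ (2 * m + 1)) ^ 2 * (2 ^ (2 * m + 1) + 3)) ∧
    (x ≠ 1 → orderOf x ∣ 2 ^ (2 * m + 1) - 1 →
      Nat.card {y : ↥(Cfsg.Lie.Sz F (2 ^ (m + 1))) // Group.IsSolvable ↥(Subgroup.closure ({x, y} : Set (↥(Cfsg.Lie.Sz F (2 ^ (m + 1))))))} = 2 * (2 ^ (2 * m + 1)) ^ 2 * (2 ^ (2 * m + 1) - 1)) ∧
    (x ≠ 1 → orderOf x ∣ 2 ^ (2 * m + 1) + 2 ^ (m + 1) + 1 → Nat.card {y : ↥(Cfsg.Lie.Sz F (2 ^ (m + 1))) // Group.IsSolvable ↥(Subgroup.closure ({x, y} : Set (↥(Cfsg.Lie.Sz F (2 ^ (m + 1))))))} = 4 * (2 ^ (2 * m + 1) + 2 ^ (m + 1) + 1)) ∧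
    (x ≠ 1 → orderOf x ∣ 2 ^ (2 * m + 1) - 2 ^ (m + 1) + 1 → Nat.card {y : ↥(Cfsg.Lie.Sz F (2 ^ (m + 1))) // Group.IsSolvable ↥(Subgroup.closure ({x, y} : Set (↥(Cfsg.Lie.Sz F (2 ^ (m + 1))))))} = 4 * (2 ^ (2 * m + 1) - 2 ^ (m + 1) + 1)) := by
  have h := isSzField_of_card hm hF
  let e := (lieEquiv h).symm
  have hq : Nat.card F = 2 ^ (2 * m + 1) := h.card
  have hcard : Nat.card {y : ↥(Cfsg.Lie.Sz F (2 ^ (m + 1))) // Group.IsSolvable ↥(Subgroup.closure
      ({x, y} : Set (↥(Cfsg.Lie.Sz F (2 ^ (m + 1))))))} = (solubilizer (e x)).ncard := by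
    rw [← Nat.card_coe_set_eq]
    exact Nat.card_congr (Equiv.subtypeEquiv e.toEquiv fun y => isSolvable_closure_pair e x y)
  have ho : orderOf (e x) = orderOf x := MulEquiv.orderOf_eq e x
  have h1 : x ≠ 1 → e x ≠ 1 := fun hx e0 => hx (by simpa using congrArg e.symm e0)
  obtain ⟨d12, d13, -⟩ := torusOrders_distinct h
  simp only [hcard]
  refine ⟨fun hx => ?_, fun hx => ?_, fun hx hd => ?_, fun hx hd => ?_, fun hx hd => ?_⟩
  · rw [solubilizer_involution h (ho.trans hx), hq]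
  · rw [solubilizer_order_four h (ho.trans hx), hq]
  · rw [solubilizer_split h (h1 hx) (ho ▸ hd), hq]
  · exact solubilizer_fpf h (Set.mem_insert_of_mem _ (Set.mem_insert _ _)) d12.symm (h1 hx)
      (ho ▸ hd)
  · exact solubilizer_fpf h (Set.mem_insert_of_mem _ (Set.mem_insert_of_mem _ rfl)) d13.symm
      (h1 hx) (ho ▸ hd)

end Cfsg.Agent.S2259
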