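import Cfsg.Statements.S2260
import Mathlib.Algebra.CharP.Lemmas
import Mathlib.LinearAlgebra.Matrix.Charpoly.Coeff

set_option autoImplicit false
open Cfsg

namespace Cfsg.Agent.S2260

/-- Let F be a finite field of prime characteristic p and u an invertible d × d matrix over F with u − 1 nilpotent (a unipotent element). Then the order of u is at most p^⌈log_p d⌉; and if moreover (u − 1)^(d−1) ≠ 0 (u is a single Jordan block) then the order of u is exactly p^⌈log_p d⌉. -/
theorem result {F : Type*} [Field F] [Finite F] (p : ℕ) [Fact p.Prime] [CharP F p] (d : ℕ)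
    (u : GL (Fin d) F) (hu : IsNilpotent ((u : Matrix (Fin d) (Fin d) F) - 1)) :
    orderOf u ≤ p ^ Nat.clog p d ∧
    (((u : Matrix (Fin d) (Fin d) F) - 1) ^ (d - 1) ≠ 0 → orderOf u = p ^ Nat.clog p d) := by
  classical
  rcases Nat.eq_zero_or_pos d with rfl | hd
  · have hu1 : u = 1 := Subsingleton.elim _ _
    subst hu1
    simp
  have : Nonempty (Fin d) := ⟨⟨0, hd⟩⟩
  have hp := (Fact.out : p.Prime)
  set M : Matrix (Fin d) (Fin d) F := (u : Matrix (Fin d) (Fin d) F) with hM
  have hnil : (M - 1) ^ d = 0 := by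
    have h1 := Matrix.isNilpotent_charpoly_sub_pow_of_isNilpotent hu
    rw [isNilpotent_iff_eq_zero, sub_eq_zero, Fintype.card_fin] at h1
    have h2 := Matrix.aeval_self_charpoly (M - 1)
    rw [h1] at h2
    simpa using h2
  have hpow : ∀ k : ℕ, M ^ p ^ k - 1 = (M - 1) ^ p ^ k := fun k => by
    rw [sub_pow_char_pow_of_commute _ _ (Commute.one_right M), one_pow]
  have hdvd : orderOf u ∣ p ^ Nat.clog p d := by
    refine orderOf_dvd_of_pow_eq_one (Units.ext ?_)
    rw [Units.val_pow_eq_pow_val, Units.val_one, ← sub_eq_zero, ← hM, hpow]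
    exact pow_eq_zero_of_le (Nat.le_pow_clog hp.one_lt d) hnil
  refine ⟨Nat.le_of_dvd (pow_pos hp.pos _) hdvd, fun hne => ?_⟩
  obtain ⟨j, hj, hjeq⟩ := (Nat.dvd_prime_pow hp).1 hdvd
  rcases hj.lt_or_eq with hlt | rfl
  · refine absurd ?_ hne
    have h3 : p ^ j < d := (Nat.lt_clog_iff_pow_lt hp.one_lt).1 hlt
    refine pow_eq_zero_of_le (by omega : p ^ j ≤ d - 1) ?_
    rw [← hpow, sub_eq_zero, hM, ← Units.val_pow_eq_pow_val, ← hjeq, pow_orderOf_eq_one, Units.val_one]
  · exact hjeq

end Cfsg.Agent.S2260
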