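import Cfsg.Statements.S2261
import Cfsg.Agent.Spectrum.MatrixOrder
import Mathlib.LinearAlgebra.Matrix.Charpoly.Coeff

set_option autoImplicit false
open Cfsg

namespace Cfsg.Agent.S2261

/-- Let F be a finite field with q elements and d ≥ 1. Then every element of PGL_d(F) = GL_d(F)/Z has order at most (q^d − 1)/(q − 1), and some element (the image of a Singer cycle) has exactly this order. -/
theorem result {F : Type*} [Field F] [Fintype F] (d : ℕ) (hd : 1 ≤ d) :
    (∀ g : (GL (Fin d) F ⧸ Subgroup.center (GL (Fin d) F)), (Fintype.card F - 1) * orderOf g ≤ Fintype.card F ^ d - 1) ∧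
    (∃ g : (GL (Fin d) F ⧸ Subgroup.center (GL (Fin d) F)), (Fintype.card F - 1) * orderOf g = Fintype.card F ^ d - 1) := by
  classical
  have : Nonempty (Fin d) := ⟨⟨0, hd⟩⟩
  have hub : ∀ g : (GL (Fin d) F ⧸ Subgroup.center (GL (Fin d) F)),
      (Fintype.card F - 1) * orderOf g ≤ Fintype.card F ^ d - 1 := by
    intro gb
    obtain ⟨g, rfl⟩ := QuotientGroup.mk'_surjective _ gb
    set M : Matrix (Fin d) (Fin d) F := (g : Matrix (Fin d) (Fin d) F) with hM
    let Ψ : (Fin d → F) →ₗ[F] Matrix (Fin d) (Fin d) F :=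
      Fintype.linearCombination F (fun j : Fin d => M ^ (j : ℕ))
    have hrep : ∀ i : ℕ, ∃ v, Ψ v = M ^ i := by
      intro i
      set r : Polynomial F := Polynomial.X ^ i %ₘ M.charpoly
      have hr : r.natDegree < d := by
        have h := Polynomial.natDegree_modByMonic_lt (Polynomial.X ^ i : Polynomial F)
          (Matrix.charpoly_monic M) (fun e => by
            have := congrArg Polynomial.natDegree e
            rw [Matrix.charpoly_natDegree_eq_dim, Fintype.card_fin, Polynomial.natDegree_one] at this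
            omega)
        rwa [Matrix.charpoly_natDegree_eq_dim, Fintype.card_fin] at h
      refine ⟨fun j => r.coeff j, ?_⟩
      have he : Polynomial.aeval M r = M ^ i := by
        rw [Polynomial.aeval_modByMonic_eq_self_of_root (Matrix.aeval_self_charpoly M)]
        simp
      rw [← he, Polynomial.aeval_eq_sum_range' hr, Fintype.linearCombination_apply,
        Fin.sum_univ_eq_sum_range (fun j => r.coeff j • M ^ j) d]
    choose v hv using hrep
    let Φ : Fin (orderOf (QuotientGroup.mk' (Subgroup.center (GL (Fin d) F)) g)) × Fˣ →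
        {w : Fin d → F // w ≠ 0} := fun x => ⟨(x.2 : F) • v x.1, fun e => by
      have h := congrArg Ψ e
      rw [map_smul, hv, map_zero, smul_eq_zero] at h
      rcases h with h | h
      · exact x.2.ne_zero h
      · exact (g ^ (x.1 : ℕ)).ne_zero (by rw [Units.val_pow_eq_pow_val]; exact h)⟩
    have hΦ : Function.Injective Φ := by
      rintro ⟨i, c⟩ ⟨i', c'⟩ e
      have h := congrArg (fun w : {w : Fin d → F // w ≠ 0} => Ψ w.1) e
      simp only [Φ, map_smul, hv] at h
      let z : GL (Fin d) F := Matrix.GeneralLinearGroup.scalar (Fin d) (c⁻¹ * c')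
      have hz : z ∈ Subgroup.center (GL (Fin d) F) := by
        rw [Matrix.GeneralLinearGroup.center_eq_range_scalar]
        exact ⟨_, rfl⟩
      have h1 : g ^ (i : ℕ) = z * g ^ (i' : ℕ) := by
        refine Units.ext ?_
        show ((g ^ (i : ℕ) : GL (Fin d) F) : Matrix (Fin d) (Fin d) F) = (Matrix.scalar (Fin d)) ((c⁻¹ * c' : Fˣ) : F) * ((g ^ (i' : ℕ) : GL (Fin d) F) : Matrix (Fin d) (Fin d) F)
        rw [Units.val_pow_eq_pow_val, Units.val_pow_eq_pow_val, ← hM, Matrix.scalar_apply, ← Matrix.smul_eq_diagonal_mul,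
          Units.val_mul, mul_smul, ← h, smul_smul, Units.inv_mul, one_smul]
      have h2 := congrArg (QuotientGroup.mk' (Subgroup.center (GL (Fin d) F))) h1
      rw [map_mul, map_pow, map_pow, show QuotientGroup.mk' (Subgroup.center (GL (Fin d) F)) z = 1 from
        (QuotientGroup.eq_one_iff _).2 hz, one_mul] at h2
      obtain rfl : i = i' := Fin.ext (pow_injOn_Iio_orderOf i.2 i'.2 h2)
      have h3 : ((c : F) - c') • M ^ (i : ℕ) = 0 := by rw [sub_smul, h, sub_self]
      rcases smul_eq_zero.1 h3 with h4 | h4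
      · rw [Units.ext (sub_eq_zero.1 h4)]
      · exact absurd (by rw [Units.val_pow_eq_pow_val]; exact h4) (g ^ (i : ℕ)).ne_zero
    have hle := Fintype.card_le_of_injective Φ hΦ
    rw [Fintype.card_prod, Fintype.card_fin, Fintype.card_units, Fintype.card_subtype_compl,
      Fintype.card_subtype_eq, Fintype.card_fun, Fintype.card_fin, mul_comm] at hle
    exact hle
  refine ⟨hub, ?_⟩
  obtain ⟨g, hg⟩ := CfsgLib.MatOrder.exists_gl_orderOf_singer F hd
  refine ⟨QuotientGroup.mk' _ g, le_antisymm (hub _) ?_⟩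
  set o := orderOf (QuotientGroup.mk' (Subgroup.center (GL (Fin d) F)) g) with ho
  have hz : g ^ o ∈ Subgroup.center (GL (Fin d) F) :=
    (QuotientGroup.eq_one_iff _).1 (by
      show QuotientGroup.mk' _ (g ^ o) = 1
      rw [map_pow, ho, pow_orderOf_eq_one])
  rw [Matrix.GeneralLinearGroup.center_eq_range_scalar] at hz
  obtain ⟨c, hc⟩ := hz
  have h1 : g ^ ((Fintype.card F - 1) * o) = 1 := by
    rw [mul_comm, pow_mul, ← hc, ← map_pow, ← Fintype.card_units, pow_card_eq_one, map_one]
  rw [← hg]
  have hq := Fintype.one_lt_card (α := F)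
  exact Nat.le_of_dvd (Nat.mul_pos (by omega) (orderOf_pos _)) (orderOf_dvd_of_pow_eq_one h1)

end Cfsg.Agent.S2261
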