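import Cfsg.Statements.S2263
import Cfsg.Agent.MaxOrder.UMain

set_option autoImplicit false
open Cfsg

namespace Cfsg.Agent.S2263

/-- Let q = p^f with p prime and f ≥ 1, F a field with q² elements, d ≥ 3 with (d, q) ≠ (3, 2), and PGU_d(q) the general unitary group of the standard Hermitian form modulo its centre. Then the largest order of an element of PGU_d(q) is: q^(d−1) − 1 if d is odd and f ≥ 2; (p^(d−2) + 1)p if d is odd and f = 1; q^(d−1) + 1 if d is even and q > 2; 4(2^(d−3) + 1) if d is even and q = 2. -/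
theorem result {F : Type*} [Field F] [Fintype F] (p f d : ℕ) (hp : p.Prime) (hf : 1 ≤ f) (q : ℕ) (hq : q = p ^ f)
    (hF : Fintype.card F = q ^ 2) (hd : 3 ≤ d) (h32 : ¬ (d = 3 ∧ q = 2)) :
    (Odd d → 2 ≤ f → (∀ g : (↥(Cfsg.GU d F q) ⧸ Subgroup.center ↥(Cfsg.GU d F q)), orderOf g ≤ q ^ (d - 1) - 1) ∧ ∃ g : (↥(Cfsg.GU d F q) ⧸ Subgroup.center ↥(Cfsg.GU d F q)), orderOf g = q ^ (d - 1) - 1) ∧
    (Odd d → f = 1 → (∀ g : (↥(Cfsg.GU d F q) ⧸ Subgroup.center ↥(Cfsg.GU d F q)), orderOf g ≤ (p ^ (d - 2) + 1) * p) ∧ ∃ g : (↥(Cfsg.GU d F q) ⧸ Subgroup.center ↥(Cfsg.GU d F q)), orderOf g = (p ^ (d - 2) + 1) * p) ∧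
    (Even d → 2 < q → (∀ g : (↥(Cfsg.GU d F q) ⧸ Subgroup.center ↥(Cfsg.GU d F q)), orderOf g ≤ q ^ (d - 1) + 1) ∧ ∃ g : (↥(Cfsg.GU d F q) ⧸ Subgroup.center ↥(Cfsg.GU d F q)), orderOf g = q ^ (d - 1) + 1) ∧
    (Even d → q = 2 → (∀ g : (↥(Cfsg.GU d F q) ⧸ Subgroup.center ↥(Cfsg.GU d F q)), orderOf g ≤ 4 * (2 ^ (d - 3) + 1)) ∧ ∃ g : (↥(Cfsg.GU d F q) ⧸ Subgroup.center ↥(Cfsg.GU d F q)), orderOf g = 4 * (2 ^ (d - 3) + 1)) := by
  haveI := Fact.mk hp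
  have hF' : Nat.card F = q ^ 2 := by rw [Nat.card_eq_fintype_card, hF]
  obtain ⟨p', k, hp', hpp, hk⟩ := CfsgLib.Forms.exists_charP_pow hF'
  have hpq : p ∣ q := hq ▸ dvd_pow_self p (by omega)
  obtain rfl : p = p' := by
    rw [hk] at hpq
    exact (Nat.prime_dvd_prime_iff_eq hp hpp).1 (hp.dvd_of_dvd_pow hpq)
  haveI := hp'
  have hq1 : 1 < q := CfsgLib.Forms.two_le_q hF'
  have hpq' : p ≤ q := Nat.le_of_dvd (by omega) hpq
  have hne : q ≠ p → 2 * p ≤ q := fun h => by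
    obtain ⟨t, rfl⟩ := hpq
    rcases Nat.lt_or_ge t 2 with ht | ht
    · interval_cases t <;> simp at h hq1
    · rw [mul_comm 2]; exact Nat.mul_le_mul_left _ ht
  have hle := CfsgLib.MaxOrderU.order_le (p := p) hF' hpq' hne hd h32
  obtain ⟨g, hg⟩ := CfsgLib.MaxOrderU.exists_order (p := p) hF' hpq hd
  have hf2 : 2 ≤ f → q ≠ p := fun h e => by
    have := Nat.pow_lt_pow_right hp.one_lt (show 1 < f by omega)
    rw [pow_one, ← hq, e] at this
    exact lt_irrefl _ this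
  refine ⟨fun ho h => ?_, fun ho h => ?_, fun he h => ?_, fun he h => ?_⟩
  · have e : CfsgLib.MaxOrderU.target p q d = q ^ (d - 1) - 1 := by
      rw [CfsgLib.MaxOrderU.target, if_pos ho, if_neg (hf2 h)]
    rw [e] at hg hle
    exact ⟨hle, g, hg⟩
  · have e : CfsgLib.MaxOrderU.target p q d = (p ^ (d - 2) + 1) * p := by
      rw [CfsgLib.MaxOrderU.target, if_pos ho, if_pos (by rw [hq, h, pow_one])]
    rw [e] at hg hle
    exact ⟨hle, g, hg⟩
  · have e : CfsgLib.MaxOrderU.target p q d = q ^ (d - 1) + 1 := by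
      rw [CfsgLib.MaxOrderU.target, if_neg (Nat.not_odd_iff_even.2 he), if_neg (by omega)]
    rw [e] at hg hle
    exact ⟨hle, g, hg⟩
  · have e : CfsgLib.MaxOrderU.target p q d = 4 * (2 ^ (d - 3) + 1) := by
      rw [CfsgLib.MaxOrderU.target, if_neg (Nat.not_odd_iff_even.2 he), if_pos h]
    rw [e] at hg hle
    exact ⟨hle, g, hg⟩

end Cfsg.Agent.S2263
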