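import Cfsg.Statements.S2268
import Mathlib.GroupTheory.Sylow

set_option autoImplicit false
open Cfsg

namespace Cfsg.Agent.S2268

/-- Let G be a finite group with an abelian Sylow p-subgroup P and let Q ≤ P. Then N_G(Q) = (N_G(Q) ∩ N_G(P))·C_G(Q), so that N_G(Q)/C_G(Q) is a homomorphic image of the subgroup (N_G(Q) ∩ N_G(P))/C_G(P) of N_G(P)/C_G(P); in particular the order of N_G(Q)/C_G(Q) divides the order of N_G(P)/C_G(P). -/
theorem result {G : Type*} [Group G] [Finite G] {p : ℕ} [Fact p.Prime]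
    (P : Sylow p G) (hP : IsMulCommutative (P : Subgroup G)) (Q : Subgroup G) (hQ : Q ≤ (P : Subgroup G)) :
    Subgroup.normalizer (Q : Set G) =
      (Subgroup.normalizer (Q : Set G) ⊓ Subgroup.normalizer ((P : Subgroup G) : Set G)) ⊔ Subgroup.centralizer (Q : Set G) ∧
    ((Subgroup.centralizer (Q : Set G)).subgroupOf (Subgroup.normalizer (Q : Set G))).index ∣ ((Subgroup.centralizer ((P : Subgroup G) : Set G)).subgroupOf (Subgroup.normalizer ((P : Subgroup G) : Set G))).index := by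
  classical
  set N := Subgroup.normalizer (Q : Set G) with hN
  set C := Subgroup.centralizer (Q : Set G) with hC
  set NP := Subgroup.normalizer ((P : Subgroup G) : Set G) with hNP
  set CP := Subgroup.centralizer ((P : Subgroup G) : Set G) with hCP
  have hCN : C ≤ N := (Subgroup.centralizer_le_normalizer _)
  have hPC : (P : Subgroup G) ≤ C := fun x hx => Subgroup.mem_centralizer_iff.2 fun y hy =>
    congrArg Subtype.val (hP.is_comm.comm (⟨y, hQ hy⟩ : (P : Subgroup G)) ⟨x, hx⟩)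
  have hnC : ∀ g ∈ N, ∀ x ∈ C, g * x * g⁻¹ ∈ C := fun g hg x hx => by
    rw [hC, Subgroup.mem_centralizer_iff] at hx ⊢
    intro y hy
    have hy' : g⁻¹ * y * g ∈ (Q : Set G) := (Subgroup.mem_normalizer_iff''.1 hg y).1 hy
    calc y * (g * x * g⁻¹) = g * ((g⁻¹ * y * g) * x) * g⁻¹ := by group
      _ = g * (x * (g⁻¹ * y * g)) * g⁻¹ := by rw [hx _ hy']
      _ = g * x * g⁻¹ * y := by group
  have hfrat : ∀ g ∈ N, ∃ c ∈ C, c * g ∈ N ⊓ NP := by
    intro g hg
    have hle : ((P : Subgroup G).map (MulAut.conj g).toMonoidHom) ≤ C := by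
      rintro _ ⟨x, hx, rfl⟩
      exact hnC g hg x (hPC hx)
    have hle' : ((g • P : Sylow p G) : Subgroup G) ≤ C := hle
    obtain ⟨c, hc⟩ := MulAction.exists_smul_eq C ((g • P).subtype hle') (P.subtype hPC)
    rw [Sylow.smul_subtype] at hc
    have hc' : (((c : G) * g) • P : Sylow p G) = P := by
      have := Sylow.subtype_injective hc
      rwa [mul_smul]
    exact ⟨c, c.2, N.mul_mem (hCN c.2) hg, Sylow.smul_eq_iff_mem_normalizer.1 hc'⟩
  have hMN : N ⊓ NP ≤ N := inf_le_left
  refine ⟨le_antisymm (fun g hg => ?_) (sup_le inf_le_left hCN), ?_⟩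
  · obtain ⟨c, hc, hm⟩ := hfrat g hg
    have := Subgroup.mul_mem_sup (inv_mem hc) hm
    rw [inv_mul_cancel_left] at this
    rwa [sup_comm]
  · have hnorm : (C.subgroupOf N).Normal :=
      ⟨fun x hx g => hnC g g.2 x hx⟩
    let f : ↥(N ⊓ NP) →* ↥N ⧸ C.subgroupOf N :=
      (QuotientGroup.mk' (C.subgroupOf N)).comp (Subgroup.inclusion hMN)
    have hf : Function.Surjective f := by
      intro y
      obtain ⟨⟨g, hg⟩, rfl⟩ := QuotientGroup.mk'_surjective _ y
      obtain ⟨c, hc, hm⟩ := hfrat g hg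
      refine ⟨⟨c * g, hm⟩, ?_⟩
      refine (QuotientGroup.eq).2 ?_
      rw [Subgroup.mem_subgroupOf]
      show (c * g)⁻¹ * g ∈ C
      have := hnC g⁻¹ (inv_mem hg) c⁻¹ (inv_mem hc)
      rw [inv_inv] at this
      rwa [mul_inv_rev]
    have hker : f.ker = C.subgroupOf (N ⊓ NP) := by
      ext x
      simp [f, MonoidHom.mem_ker, Subgroup.mem_subgroupOf]
    have hidx : (C.subgroupOf N).index = C.relIndex (N ⊓ NP) := by
      rw [Subgroup.relIndex, ← hker, Subgroup.index_ker, MonoidHom.range_eq_top.2 hf,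
        Subgroup.card_top]
      rfl
    have hCPC : CP ≤ C := Subgroup.centralizer_le hQ
    have hCPM : CP ≤ N ⊓ NP := le_inf (hCPC.trans hCN) (Subgroup.centralizer_le_normalizer _)
    rw [hidx]
    exact (Subgroup.relIndex_dvd_of_le_left _ hCPC).trans
      (Dvd.intro _ (Subgroup.relIndex_mul_relIndex CP (N ⊓ NP) NP hCPM inf_le_right))

end Cfsg.Agent.S2268
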