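import Cfsg.Statements.S5164
import Mathlib.GroupTheory.Perm.ViaEmbedding
import Mathlib.GroupTheory.IndexNormal
import Mathlib.GroupTheory.Sylow
import Mathlib.GroupTheory.SpecificGroups.Cyclic
-- import your own Cfsg.Agent.* helpers here

set_option autoImplicit false
open Cfsg

namespace Cfsg.Agent.S5164

open Equiv

/-- A `p`-group acting faithfully on fewer than `p ^ 2` points is abelian. -/
private theorem comm_of_lt {α : Type*} [Finite α] {p : ℕ} [Fact p.Prime] (hα : Nat.card α < p ^ 2)
    {H : Type*} [Group H] [Finite H] (hH : IsPGroup p H) (φ : H →* Perm α)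
    (hφ : Function.Injective φ) (a b : H) : a * b = b * a := by
  refine hφ (Equiv.ext fun x => ?_)
  letI : MulAction H α := MulAction.compHom α φ
  set St := MulAction.stabilizer H x with hSt
  obtain ⟨e, he⟩ := hH.index St
  have hle : p ^ e ≤ Nat.card α := by
    rw [← he, hSt, MulAction.index_stabilizer, ← Nat.card_univ]
    exact Set.ncard_le_ncard (Set.subset_univ _) (Set.toFinite _) |>.trans
      (by rw [Set.ncard_univ, Nat.card_univ])
  have he1 : e ≤ 1 := by
    have := (Nat.pow_lt_pow_iff_right (Fact.out : p.Prime).one_lt).1 (hle.trans_lt hα)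
    omega
  have hcomm : (a * b)⁻¹ * (b * a) ∈ St := by
    interval_cases e
    · rw [pow_zero, Subgroup.index_eq_one] at he
      rw [he]; exact Subgroup.mem_top _
    rw [pow_one] at he
    obtain ⟨k, hk⟩ := hH.exists_card_eq
    have hk0 : k ≠ 0 := by
      rintro rfl
      have := St.index_dvd_card
      rw [hk, pow_zero, he, Nat.dvd_one] at this
      exact (Fact.out : p.Prime).ne_one this
    haveI : St.Normal := Subgroup.normal_of_index_eq_minFac_card (by
      rw [he, hk, Nat.pow_minFac hk0, (Fact.out : p.Prime).minFac_eq])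
    haveI : IsCyclic (H ⧸ St) := isCyclic_of_prime_card (p := p) (by
      rw [← Subgroup.index_eq_card]; exact he)
    refine QuotientGroup.eq.1 ?_
    show ((a * b : H) : H ⧸ St) = ((b * a : H) : H ⧸ St)
    letI := IsCyclic.commGroup (α := H ⧸ St)
    rw [QuotientGroup.mk_mul, QuotientGroup.mk_mul, mul_comm]
  have h1 : φ ((a * b)⁻¹ * (b * a)) x = x := hcomm
  rw [map_mul, map_inv, Perm.mul_apply, Perm.inv_eq_iff_eq] at h1
  exact h1.symm

/-- The wreath product `Z_p ≀ Z_p` acting on `p ^ 2` points. -/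
private def wreath (p : ℕ) [NeZero p] : Subgroup (Perm (ZMod p × ZMod p)) where
  carrier := {σ | ∃ (i : ZMod p) (f : ZMod p → ZMod p), ∀ a b, σ (a, b) = (a + i, b + f a)}
  one_mem' := ⟨0, 0, fun a b => by simp⟩
  mul_mem' := by
    rintro σ τ ⟨i, f, hf⟩ ⟨j, g, hg⟩
    exact ⟨j + i, fun a => g a + f (a + j), fun a b => by
      rw [Perm.mul_apply, hg, hf, add_assoc, add_assoc]⟩
  inv_mem' := by
    rintro σ ⟨i, f, hf⟩
    refine ⟨-i, fun a => -f (a - i), fun a b => ?_⟩
    rw [Perm.inv_eq_iff_eq, hf]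
    simp [sub_eq_add_neg]

private theorem isPGroup_wreath (p : ℕ) [Fact p.Prime] : IsPGroup p (wreath p) := by
  let F : ZMod p × (ZMod p → ZMod p) → wreath p := fun d =>
    ⟨⟨fun x => (x.1 + d.1, x.2 + d.2 x.1), fun x => (x.1 - d.1, x.2 - d.2 (x.1 - d.1)),
      fun x => by simp, fun x => by simp⟩, d.1, d.2, fun a b => rfl⟩
  have hF : Function.Bijective F := by
    refine ⟨fun d d' h => ?_, ?_⟩
    · have h1 : ∀ a b, (a + d.1, b + d.2 a) = (a + d'.1, b + d'.2 a) := fun a b =>
        Equiv.congr_fun (congrArg Subtype.val h) (a, b)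
      exact Prod.ext (by simpa using (Prod.ext_iff.1 (h1 0 0)).1)
        (funext fun a => by simpa using (Prod.ext_iff.1 (h1 a 0)).2)
    · rintro ⟨σ, i, f, hf⟩
      exact ⟨(i, f), Subtype.ext (Equiv.ext fun x => (hf x.1 x.2).symm)⟩
  refine IsPGroup.of_card (n := p + 1) ?_
  rw [← Nat.card_eq_of_bijective F hF, Nat.card_prod, Nat.card_fun, Nat.card_zmod, pow_succ']

private theorem not_comm_wreath (p : ℕ) [Fact p.Prime] :
    ∃ a b : wreath p, a * b ≠ b * a := by
  refine ⟨⟨⟨fun x => (x.1 + 1, x.2), fun x => (x.1 - 1, x.2), fun x => by simp, fun x => by simp⟩,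
    1, 0, fun a b => by simp⟩, ⟨⟨fun x => (x.1, if x.1 = 0 then x.2 + 1 else x.2),
    fun x => (x.1, if x.1 = 0 then x.2 - 1 else x.2), fun x => ?_, fun x => ?_⟩,
    0, fun a => if a = 0 then 1 else 0, fun a b => ?_⟩, fun h => ?_⟩
  · by_cases h : x.1 = 0 <;> simp [h, Prod.ext_iff]
  · by_cases h : x.1 = 0 <;> simp [h, Prod.ext_iff]
  · by_cases h : a = 0 <;> simp [h]
  · have h1 := Equiv.congr_fun (congrArg Subtype.val h) ((0 : ZMod p), (0 : ZMod p))
    simp at h1

/-- For n ≥ 6 and a prime p, a nontrivial Sylow p-subgroup of the alternating group of degree n is abelian if and only if n < p². -/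
theorem result (n p : ℕ) (hn : 6 ≤ n) [Fact p.Prime] (S : Sylow p (alternatingGroup (Fin n))) (hS : (S : Subgroup (alternatingGroup (Fin n))) ≠ ⊥) : IsMulCommutative S ↔ n < p ^ 2 := by
  classical
  have hp : p.Prime := Fact.out
  constructor
  · intro hc
    by_contra hge
    rw [not_lt] at hge
    suffices hkey : ∃ Φ : wreath p →* Perm (Fin n), Function.Injective Φ ∧
        ∀ w, Perm.sign (Φ w) = 1 by
      obtain ⟨Φ, hΦ, hsign⟩ := hkey
      let Ψ : wreath p →* alternatingGroup (Fin n) :=
        Φ.codRestrict _ fun w => Perm.mem_alternatingGroup.2 (hsign w)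
      obtain ⟨T, hT⟩ := ((isPGroup_wreath p).of_surjective Ψ.rangeRestrict
        Ψ.rangeRestrict_surjective).exists_le_sylow
      obtain ⟨a, b, hab⟩ := not_comm_wreath p
      apply hab
      have e := S.equiv T
      have key := e.symm.injective (a₁ := (⟨Ψ a, hT ⟨a, rfl⟩⟩ : T) * ⟨Ψ b, hT ⟨b, rfl⟩⟩)
        (a₂ := (⟨Ψ b, hT ⟨b, rfl⟩⟩ : T) * ⟨Ψ a, hT ⟨a, rfl⟩⟩) (by
          rw [map_mul, map_mul]; exact hc.is_comm.comm _ _)
      refine hΦ ?_
      rw [map_mul, map_mul]
      exact congrArg Subtype.val (congrArg Subtype.val key)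
    rcases hp.eq_two_or_odd' with rfl | hodd
    · let τ : ℤˣ →* Perm Bool :=
        { toFun := fun u => if u = 1 then 1 else swap true false
          map_one' := if_pos rfl
          map_mul' := by decide }
      let Θ : wreath 2 →* Perm ((ZMod 2 × ZMod 2) ⊕ Bool) :=
        (Perm.sumCongrHom _ _).comp
          ((wreath 2).subtype.prod (τ.comp (Perm.sign.comp (wreath 2).subtype)))
      have hcard : Fintype.card ((ZMod 2 × ZMod 2) ⊕ Bool) ≤ Fintype.card (Fin n) := by
        simpa using hn
      obtain ⟨ι⟩ := Function.Embedding.nonempty_of_card_le hcard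
      refine ⟨(Perm.viaEmbeddingHom ι).comp Θ, ?_, fun w => ?_⟩
      · refine (Perm.viaEmbeddingHom_injective ι).comp fun u v h => ?_
        have := Perm.sumCongrHom_injective h
        exact Subtype.ext (Prod.ext_iff.1 this).1
      · rw [MonoidHom.comp_apply, Perm.viaEmbeddingHom_apply, Perm.viaEmbedding,
          Perm.sign_extendDomain]
        show Perm.sign (Perm.sumCongr (w : Perm (ZMod 2 × ZMod 2))
          (τ (Perm.sign (w : Perm (ZMod 2 × ZMod 2))))) = 1
        rw [Perm.sign_sumCongr]
        rcases Int.units_eq_one_or (Perm.sign (w : Perm (ZMod 2 × ZMod 2))) with h | h <;>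
          rw [h] <;> decide
    · have hcard : Fintype.card (ZMod p × ZMod p) ≤ Fintype.card (Fin n) := by
        simpa [sq] using hge
      obtain ⟨ι⟩ := Function.Embedding.nonempty_of_card_le hcard
      refine ⟨(Perm.viaEmbeddingHom ι).comp (wreath p).subtype,
        (Perm.viaEmbeddingHom_injective ι).comp Subtype.val_injective, fun w => ?_⟩
      obtain ⟨k, hk⟩ := isPGroup_wreath p w
      have h1 : Perm.sign ((Perm.viaEmbeddingHom ι).comp (wreath p).subtype w) ^ (p ^ k) = 1 := by
        rw [← map_pow, ← map_pow, hk, map_one, map_one]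
      rcases Int.units_eq_one_or
        (Perm.sign ((Perm.viaEmbeddingHom ι).comp (wreath p).subtype w)) with h | h
      · exact h
      · rw [h, (hodd.pow).neg_one_pow] at h1
        exact absurd h1 (by decide)
  · intro hlt
    exact ⟨⟨comm_of_lt (α := Fin n) (by simpa using hlt) S.isPGroup'
      ((alternatingGroup (Fin n)).subtype.comp (S : Subgroup (alternatingGroup (Fin n))).subtype)
      (Subtype.val_injective.comp Subtype.val_injective)⟩⟩

end Cfsg.Agent.S5164
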