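import Cfsg.Statements.S2269
import Cfsg.Agent.S5164
import Mathlib.GroupTheory.SpecificGroups.Alternating.Centralizer
import Mathlib.GroupTheory.SpecificGroups.KleinFour
-- import your own Cfsg.Agent.* helpers here

set_option autoImplicit false
open Cfsg

namespace Cfsg.Agent.S2269

open Equiv Equiv.Perm

/-- An element of the normaliser inverting an element of odd prime order gives an even index. -/
theorem two_dvd_index {G : Type*} [Group G] [Finite G] {p : ℕ} (hp : p.Prime) (hodd : p ≠ 2)
    (S : Subgroup G) {x g : G} (hx : x ∈ Subgroup.normalizer (S : Set G)) (hg : g ∈ S)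
    (hgp : orderOf g = p) (hinv : x⁻¹ * g * x = g⁻¹) :
    2 ∣ ((Subgroup.centralizer (S : Set G)).subgroupOf (Subgroup.normalizer (S : Set G))).index := by
  set N := Subgroup.normalizer (S : Set G)
  set C := (Subgroup.centralizer (S : Set G)).subgroupOf N
  have hC : C.Normal := by
    constructor
    intro a ha b
    rw [Subgroup.mem_subgroupOf, Subgroup.mem_centralizer_iff] at ha ⊢
    intro h hh
    have h1 : (b : G)⁻¹ * h * b ∈ S := (Subgroup.mem_normalizer_iff'.1 b.2 _).2 (by simpa [mul_assoc] using hh)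
    have h2 := ha _ h1
    simp only [Subgroup.coe_mul, InvMemClass.coe_inv]
    calc h * ((b : G) * a * (b : G)⁻¹) = b * (((b : G)⁻¹ * h * b) * a) * (b : G)⁻¹ := by group
      _ = b * (a * ((b : G)⁻¹ * h * b)) * (b : G)⁻¹ := by rw [h2]
      _ = _ := by group
  by_contra hne
  obtain ⟨k, hk⟩ : Odd C.index := Nat.not_even_iff_odd.1 fun e => hne (even_iff_two_dvd.1 e)
  have hmem := Subgroup.pow_index_mem C ⟨x, hx⟩
  rw [Subgroup.mem_subgroupOf, Subgroup.mem_centralizer_iff] at hmem
  have hfix : (x ^ C.index)⁻¹ * g * x ^ C.index = g := by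
    have := hmem g hg
    rw [mul_assoc, show g * x ^ C.index = x ^ C.index * g by simpa using this, inv_mul_cancel_left]
  have hpow : ∀ n : ℕ, (x ^ (2 * n))⁻¹ * g * x ^ (2 * n) = g := by
    intro n
    induction n with
    | zero => simp
    | succ n ih =>
      rw [show 2 * (n + 1) = 2 * n + 2 by omega, pow_add,
        show (x ^ (2 * n) * x ^ 2)⁻¹ * g * (x ^ (2 * n) * x ^ 2) =
          (x ^ 2)⁻¹ * ((x ^ (2 * n))⁻¹ * g * x ^ (2 * n)) * x ^ 2 by group, ih,
        show (x ^ 2)⁻¹ * g * x ^ 2 = x⁻¹ * (x⁻¹ * g * x) * x by rw [pow_two, mul_inv_rev]; simp only [mul_assoc], hinv,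
        show x⁻¹ * g⁻¹ * x = (x⁻¹ * g * x)⁻¹ by group, hinv, inv_inv]
  rw [hk, pow_add, pow_one,
    show (x ^ (2 * k) * x)⁻¹ * g * (x ^ (2 * k) * x) =
      x⁻¹ * ((x ^ (2 * k))⁻¹ * g * x ^ (2 * k)) * x by group, hpow, hinv, inv_eq_iff_mul_eq_one,
    ← pow_two] at hfix
  have := orderOf_dvd_of_pow_eq_one hfix
  rw [hgp, Nat.prime_dvd_prime_iff_eq hp Nat.prime_two] at this
  exact hodd this

/-- The case of odd primes. -/
theorem odd_case (n : ℕ) {p : ℕ} [hp : Fact p.Prime] (hp2 : p ≠ 2)
    (P : Sylow p (alternatingGroup (Fin n)))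
    (hP : IsMulCommutative (P : Subgroup (alternatingGroup (Fin n)))) :
    2 ∣ ((Subgroup.centralizer ((P : Subgroup (alternatingGroup (Fin n))) : Set (alternatingGroup (Fin n)))).subgroupOf
      (Subgroup.normalizer ((P : Subgroup (alternatingGroup (Fin n))) : Set (alternatingGroup (Fin n))))).index ∨
      IsCyclic (P : Subgroup (alternatingGroup (Fin n))) := by
  have hpp := hp.out
  by_cases hn : n ≤ p + 1
  · right
    obtain ⟨e, he⟩ := P.2.exists_card_eq
    refine isCyclic_of_card_dvd_prime (p := p) ?_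
    have h1 : p ^ e ∣ n.factorial := by
      have := Subgroup.card_dvd_of_injective
        ((alternatingGroup (Fin n)).subtype.comp (P : Subgroup (alternatingGroup (Fin n))).subtype)
        (Subtype.val_injective.comp Subtype.val_injective)
      rw [he, Nat.card_perm, Nat.card_eq_fintype_card, Fintype.card_fin] at this
      exact this
    rw [he]
    rcases Nat.lt_or_ge e 2 with h | h
    · interval_cases e <;> simp
    · exfalso
      have h2 := (padicValNat_dvd_iff_le (Nat.factorial_ne_zero n)).1
        ((pow_dvd_pow p h).trans h1)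
      have h3 : padicValNat p n.factorial = n / p := by
        have hlt : n < p ^ 2 := by nlinarith [hpp.two_le, hpp.eq_two_or_odd]
        have : Nat.log p n < 2 := Nat.log_lt_of_lt_pow' (by norm_num) hlt
        rw [padicValNat_factorial this, Finset.sum_Ico_succ_top (le_refl 1)]
        simp
      rw [h3] at h2
      have : 3 ≤ p := by have := hpp.two_le; omega
      have := (Nat.le_div_iff_mul_le hpp.pos).1 h2
      omega
  rcases eq_or_ne (P : Subgroup (alternatingGroup (Fin n))) ⊥ with hb | hb
  · right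
    rw [hb]
    exact isCyclic_of_subsingleton
  left
  obtain ⟨g, hg⟩ := exists_prime_orderOf_dvd_card' (G := (P : Subgroup (alternatingGroup (Fin n)))) p (by
    obtain ⟨e, he⟩ := P.2.exists_card_eq
    rw [he]
    refine dvd_pow_self p fun h => hb ?_
    rw [Subgroup.eq_bot_iff_card, he, h, pow_zero])
  set a : Perm (Fin n) := ((g.1 : alternatingGroup (Fin n)) : Perm (Fin n))
  have hord : orderOf g.1 = p := by rwa [Subgroup.orderOf_coe]
  have ha : orderOf a = p := by rwa [Subgroup.orderOf_coe]
  have htype := cycleType_of_pow_prime_eq_one (σ := a) (p := p) (ha ▸ pow_orderOf_eq_one a)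
  have hnot : ¬ Subgroup.centralizer {a} ≤ alternatingGroup (Fin n) := by
    rw [centralizer_le_alternating_iff]
    rintro ⟨-, hsum, hcount⟩
    have h1 := hcount p
    rw [htype, Multiset.count_replicate_self] at h1
    rw [htype, Multiset.sum_replicate, smul_eq_mul, Fintype.card_fin] at hsum
    nlinarith
  obtain ⟨τ, hτc, hτ⟩ := SetLike.not_le_iff_exists.1 hnot
  obtain ⟨σ, hσ⟩ := isConj_iff.1 (isConj_iff_cycleType_eq.2 (cycleType_inv a).symm)
  obtain ⟨y, hy, hysign⟩ : ∃ y : Perm (Fin n), y * a * y⁻¹ = a⁻¹ ∧ y ∈ alternatingGroup (Fin n) := by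
    by_cases h : σ ∈ alternatingGroup (Fin n)
    · exact ⟨σ, hσ, h⟩
    refine ⟨σ * τ, ?_, ?_⟩
    · have hc := Subgroup.mem_centralizer_singleton_iff.1 hτc
      calc σ * τ * a * (σ * τ)⁻¹ = σ * (τ * a) * τ⁻¹ * σ⁻¹ := by group
        _ = σ * a * σ⁻¹ := by rw [hc]; group
        _ = a⁻¹ := hσ
    · rw [Perm.mem_alternatingGroup] at h hτ ⊢
      rw [map_mul]
      rcases Int.units_eq_one_or (Perm.sign σ) with e | e
      · exact absurd e h
      rcases Int.units_eq_one_or (Perm.sign τ) with e' | e'
      · exact absurd e' hτ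
      rw [e, e']; rfl
  have hmem : (⟨y, hysign⟩ : alternatingGroup (Fin n))⁻¹⁻¹ * g.1 *
      (⟨y, hysign⟩ : alternatingGroup (Fin n))⁻¹ = (g.1)⁻¹ := by
    refine Subtype.ext ?_
    simpa using hy
  obtain ⟨m, hm, hm'⟩ := P.conj_eq_normalizer_conj_of_mem g.1 _ g.2 (hmem ▸ inv_mem g.2)
  exact two_dvd_index hpp hp2 _ hm g.2 hord (hm'.symm.trans hmem)

theorem order_four_free : ∀ x : alternatingGroup (Fin 5), x ^ 4 = 1 → x ^ 2 = 1 := by
  decide +kernel

theorem centralizer_small : ∀ y : alternatingGroup (Fin 5), y ^ 2 = 1 → y ≠ 1 →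
    ∀ x : alternatingGroup (Fin 5), x * y = y * x → x ^ 2 = 1 := by
  decide +kernel

/-- A four-group. -/
def four5 : Finset (alternatingGroup (Fin 5)) :=
  {1, ⟨c[(0 : Fin 5), 1] * c[(2 : Fin 5), 3], Perm.mem_alternatingGroup.2 (by decide +kernel)⟩,
    ⟨c[(0 : Fin 5), 2] * c[(1 : Fin 5), 3], Perm.mem_alternatingGroup.2 (by decide +kernel)⟩,
    ⟨c[(0 : Fin 5), 3] * c[(1 : Fin 5), 2], Perm.mem_alternatingGroup.2 (by decide +kernel)⟩}

theorem four5_mul : ∀ x ∈ four5, ∀ y ∈ four5, x * y ∈ four5 := by decide +kernel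

theorem four5_inv : ∀ x ∈ four5, x⁻¹ ∈ four5 := by decide +kernel

/-- The four-group as a subgroup. -/
def K5 : Subgroup (alternatingGroup (Fin 5)) where
  carrier := four5
  one_mem' := by decide +kernel
  mul_mem' := fun hx hy => four5_mul _ hx _ hy
  inv_mem' := fun hx => four5_inv _ hx

theorem K5_norm_card : (Finset.univ.filter fun x : alternatingGroup (Fin 5) =>
    ∀ y ∈ four5, x * y * x⁻¹ ∈ four5).card = 12 := by
  decide +kernel

theorem card_A5 : Nat.card (alternatingGroup (Fin 5)) = 60 := by
  rw [Nat.card_eq_fintype_card]; decide +kernel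

/-- The case `n = 5`, `p = 2`. -/
theorem five_case (P : Sylow 2 (alternatingGroup (Fin 5))) :
    ((Subgroup.centralizer ((P : Subgroup (alternatingGroup (Fin 5))) : Set (alternatingGroup (Fin 5)))).subgroupOf
      (Subgroup.normalizer ((P : Subgroup (alternatingGroup (Fin 5))) : Set (alternatingGroup (Fin 5))))).index = 3 ∧
      IsKleinFour (P : Subgroup (alternatingGroup (Fin 5))) := by
  have hP4 : Nat.card (P : Subgroup (alternatingGroup (Fin 5))) = 4 := by
    rw [P.card_eq_multiplicity, card_A5, show (Nat.factorization 60 2) = 2 by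
      rw [show (60 : ℕ) = 2 ^ 2 * 15 by norm_num,
        Nat.factorization_mul (by norm_num) (by norm_num), Finsupp.add_apply,
        Nat.prime_two.factorization_pow, Finsupp.single_eq_same,
        Nat.factorization_eq_zero_of_not_dvd (by norm_num)]]
    norm_num
  set S := (P : Subgroup (alternatingGroup (Fin 5)))
  have hsq : ∀ x ∈ S, x ^ 2 = 1 := fun x hx => order_four_free x (by
    have h := pow_card_eq_one' (x := (⟨x, hx⟩ : S))
    rw [hP4] at h
    simpa using congrArg Subtype.val h)
  obtain ⟨y, hy, hy1⟩ : ∃ y ∈ S, y ≠ 1 := (Subgroup.ne_bot_iff_exists_ne_one.1 (fun h => by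
    rw [h, Subgroup.card_bot] at hP4; omega)).elim fun y hy => ⟨y.1, y.2, fun e => hy (Subtype.ext e)⟩
  have hcomm : S ≤ Subgroup.centralizer (S : Set (alternatingGroup (Fin 5))) := fun a ha => by
    rw [Subgroup.mem_centralizer_iff]
    intro b hb
    have h1 := hsq _ (mul_mem hb ha)
    have h2 := hsq a ha
    have h3 := hsq b hb
    rw [pow_two] at h1 h2 h3
    calc b * a = (b * a)⁻¹ := (inv_eq_of_mul_eq_one_right h1).symm
      _ = a * b := by rw [mul_inv_rev, inv_eq_of_mul_eq_one_right h2, inv_eq_of_mul_eq_one_right h3]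
  have hCS : Subgroup.centralizer (S : Set (alternatingGroup (Fin 5))) = S := by
    refine le_antisymm (fun x hx => ?_) hcomm
    have hx2 : IsPGroup 2 (Subgroup.centralizer (S : Set (alternatingGroup (Fin 5)))) := fun z =>
      ⟨1, Subtype.ext (by
        simpa using centralizer_small y (hsq y hy) hy1 z.1
          (Subgroup.mem_centralizer_iff.1 z.2 y hy).symm)⟩
    rw [P.3 hx2 hcomm] at hx
    exact hx
  have hN : Nat.card (Subgroup.normalizer (S : Set (alternatingGroup (Fin 5)))) = 12 := by
    have hK : IsPGroup 2 K5 := fun z => ⟨1, Subtype.ext (by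
      have : ∀ x ∈ four5, x ^ 2 = 1 := by decide +kernel
      simpa using this z.1 z.2)⟩
    obtain ⟨Q, hQ⟩ := hK.exists_le_sylow
    have hQ4 : Nat.card (Q : Subgroup (alternatingGroup (Fin 5))) = 4 := by
      rw [← hP4]; exact (Nat.card_congr (Q.equiv P).toEquiv)
    have hK4 : Nat.card K5 = 4 := by
      show Nat.card (four5 : Finset (alternatingGroup (Fin 5))) = 4
      rw [Nat.card_eq_finsetCard]; decide +kernel
    have hQe : K5 = (Q : Subgroup (alternatingGroup (Fin 5))) :=
      Subgroup.eq_of_le_of_card_ge hQ (by rw [hQ4, hK4])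
    have hNQ : Nat.card (Subgroup.normalizer ((Q : Subgroup (alternatingGroup (Fin 5))) :
        Set (alternatingGroup (Fin 5)))) = 12 := by
      rw [← K5_norm_card, ← Nat.card_eq_finsetCard]
      refine Nat.card_congr (Equiv.subtypeEquivRight fun x => ?_)
      rw [Finset.mem_filter, and_iff_right (Finset.mem_univ x), ← hQe]
      constructor
      · intro hx z hz
        exact (Subgroup.mem_normalizer_iff.1 hx z).1 hz
      · intro h
        exact Subgroup.mem_normalizer_iff.2 (Subgroup.mem_normalizer_iff.1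
          (Subgroup.mem_normalizer_fintype (G := alternatingGroup (Fin 5)) (S := (K5 : Set _)) h))
    have h1 := P.card_eq_index_normalizer
    rw [Q.card_eq_index_normalizer] at h1
    have h2 := Subgroup.card_mul_index (Subgroup.normalizer ((Q : Subgroup (alternatingGroup (Fin 5))) :
        Set (alternatingGroup (Fin 5))))
    have h3 := Subgroup.card_mul_index (Subgroup.normalizer (S : Set (alternatingGroup (Fin 5))))
    replace h1 : (Subgroup.normalizer ((Q : Subgroup (alternatingGroup (Fin 5))) : Set (alternatingGroup (Fin 5)))).index =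
        (Subgroup.normalizer (S : Set (alternatingGroup (Fin 5)))).index := h1
    rw [hNQ, h1] at h2
    rw [card_A5] at h2 h3
    have : (Subgroup.normalizer (S : Set (alternatingGroup (Fin 5)))).index = 5 := by omega
    rw [this] at h3
    omega
  refine ⟨?_, ?_⟩
  · rw [hCS]
    have h := Subgroup.card_mul_index
      (S.subgroupOf (Subgroup.normalizer (S : Set (alternatingGroup (Fin 5)))))
    rw [Nat.card_congr (Subgroup.subgroupOfEquivOfLe Subgroup.le_normalizer).toEquiv, hP4, hN] at h
    omega
  · refine ⟨hP4, ?_⟩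
    have : Nontrivial S := (Subgroup.nontrivial_iff_exists_ne_one S).2 ⟨y, hy, hy1⟩
    exact (Monoid.exponent_eq_prime_iff Nat.prime_two).2 fun z hz =>
      orderOf_eq_prime (Subtype.ext (hsq z.1 z.2)) hz


/-- Let n ≥ 5 and let P be an abelian Sylow p-subgroup of the alternating group A_n. Then N(P)/C(P) (taken in A_n) has even order, or P is cyclic, except when n = 5 and p = 2, where P is a four-group and N(P)/C(P) has order 3. -/
theorem result (n : ℕ) (hn : 5 ≤ n) {p : ℕ} [Fact p.Prime]
    (P : Sylow p (alternatingGroup (Fin n))) (hP : IsMulCommutative (P : Subgroup (alternatingGroup (Fin n)))) :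
    (¬ (n = 5 ∧ p = 2) → 2 ∣ ((Subgroup.centralizer ((P : Subgroup (alternatingGroup (Fin n))) : Set (alternatingGroup (Fin n)))).subgroupOf (Subgroup.normalizer ((P : Subgroup (alternatingGroup (Fin n))) : Set (alternatingGroup (Fin n))))).index ∨ IsCyclic (P : Subgroup (alternatingGroup (Fin n)))) ∧
    ((n = 5 ∧ p = 2) → ((Subgroup.centralizer ((P : Subgroup (alternatingGroup (Fin n))) : Set (alternatingGroup (Fin n)))).subgroupOf (Subgroup.normalizer ((P : Subgroup (alternatingGroup (Fin n))) : Set (alternatingGroup (Fin n))))).index = 3 ∧ IsKleinFour (P : Subgroup (alternatingGroup (Fin n)))) := by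
  constructor
  · intro hne
    by_cases hp2 : p = 2
    · subst hp2
      exfalso
      have hn6 : 6 ≤ n := by omega
      have hbot : (P : Subgroup (alternatingGroup (Fin n))) ≠ ⊥ := by
        intro h
        have h4 : 2 ∣ Nat.card (alternatingGroup (Fin n)) := by
          haveI : Nontrivial (Fin n) := Fin.nontrivial_iff_two_le.2 (by omega)
          have h2 := two_mul_card_alternatingGroup (α := Fin n)
          rw [Fintype.card_perm, Fintype.card_fin] at h2
          have h3 : 4 ∣ n.factorial := Nat.dvd_factorial (by norm_num) (by omega)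
          rw [Nat.card_eq_fintype_card]
          omega
        have h5 := P.pow_dvd_card_of_pow_dvd_card (n := 1) (by simpa using h4)
        rw [h, Subgroup.card_bot] at h5
        simp at h5
      have := (Cfsg.Agent.S5164.result n 2 hn6 P hbot).1 hP
      omega
    · exact odd_case n hp2 P hP
  · rintro ⟨rfl, rfl⟩
    exact five_case P

end Cfsg.Agent.S2269
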