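import Cfsg.Statements.S2270
import Cfsg.Agent.KnownB.InvertAbelian

set_option autoImplicit false
open Cfsg

namespace Cfsg.Agent.S2270

/-- Let n ≥ 3, p an odd prime, and P an abelian Sylow p-subgroup of the symmetric group S_n (with p dividing n!, so that P ≠ 1). Then N(P)/C(P) has even order. -/
theorem result (n : ℕ) (hn : 3 ≤ n) {p : ℕ} [Fact p.Prime] (hp : p ≠ 2) (hpn : p ≤ n)
    (P : Sylow p (Equiv.Perm (Fin n))) (hP : IsMulCommutative (P : Subgroup (Equiv.Perm (Fin n)))) :
    2 ∣ ((Subgroup.centralizer ((P : Subgroup (Equiv.Perm (Fin n))) : Set (Equiv.Perm (Fin n)))).subgroupOf (Subgroup.normalizer ((P : Subgroup (Equiv.Perm (Fin n))) : Set (Equiv.Perm (Fin n))))).index := by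
  classical
  obtain ⟨x, hx2, hx⟩ := CfsgLib.KnownB.exists_inverting (P : Subgroup (Equiv.Perm (Fin n))) hP
  set S := (P : Subgroup (Equiv.Perm (Fin n))) with hS
  have hxi : x⁻¹ = x := inv_eq_of_mul_eq_one_right hx2
  have hnorm : x ∈ Subgroup.normalizer (S : Set (Equiv.Perm (Fin n))) := by
    rw [Subgroup.mem_normalizer_iff]
    intro y
    refine ⟨fun hy => by rw [hx y hy]; exact inv_mem hy, fun hy => ?_⟩
    have h := hx _ hy
    have e : x * (x * y * x⁻¹) * x⁻¹ = y := by
      rw [hxi, show x * (x * y * x) * x = (x * x) * y * (x * x) by group, hx2, one_mul, mul_one]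
    rw [e] at h
    rw [h]
    exact inv_mem hy
  set C := (Subgroup.centralizer (S : Set (Equiv.Perm (Fin n)))).subgroupOf
    (Subgroup.normalizer (S : Set (Equiv.Perm (Fin n))))
  have hxC : (⟨x, hnorm⟩ : Subgroup.normalizer (S : Set (Equiv.Perm (Fin n)))) ∉ C := by
    intro hmem
    rw [Subgroup.mem_subgroupOf, Subgroup.mem_centralizer_iff] at hmem
    have hSne : S ≠ ⊥ := by
      intro e
      have h1 : p ∣ Nat.card S := by
        refine P.dvd_card_of_dvd_card ?_
        rw [Nat.card_perm, Nat.card_eq_fintype_card, Fintype.card_fin]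
        exact (Fact.out : p.Prime).dvd_factorial.2 hpn
      rw [e, Subgroup.card_bot] at h1
      exact (Fact.out : p.Prime).not_dvd_one h1
    obtain ⟨⟨y, hy⟩, hy1⟩ := Subgroup.ne_bot_iff_exists_ne_one.1 hSne
    have h2 : x * y * x⁻¹ = y := by
      have h3 := hmem y hy
      simp only at h3
      rw [← h3, mul_inv_cancel_right]
    rw [hx y hy] at h2
    have h4 : orderOf y ∣ 2 := orderOf_dvd_of_pow_eq_one (by
      rw [pow_two]
      nth_rewrite 1 [← h2]
      exact inv_mul_cancel y)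
    obtain ⟨j, hj⟩ := (IsPGroup.iff_orderOf.1 P.isPGroup') ⟨y, hy⟩
    rw [Subgroup.orderOf_mk] at hj
    have hj0 : j = 0 := by
      by_contra hj0
      have h5 : p ∣ 2 := (dvd_pow_self p hj0).trans (hj ▸ h4)
      exact hp ((Nat.prime_dvd_prime_iff_eq Fact.out Nat.prime_two).1 h5)
    rw [hj0, pow_zero, orderOf_eq_one_iff] at hj
    exact hy1 (Subtype.ext hj)
  haveI : C.Normal := by
    refine ⟨fun a ha g => ?_⟩
    rw [Subgroup.mem_subgroupOf, Subgroup.mem_centralizer_iff] at ha ⊢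
    intro y hy
    have hg := (Subgroup.mem_normalizer_iff''.1 g.2 y).1 hy
    have h6 := ha _ hg
    simp only [Subgroup.coe_mul, Subgroup.coe_inv] at h6 ⊢
    calc y * ((g : Equiv.Perm (Fin n)) * a * (g : Equiv.Perm (Fin n))⁻¹)
        = g * (((g : Equiv.Perm (Fin n))⁻¹ * y * g) * a) * (g : Equiv.Perm (Fin n))⁻¹ := by group
      _ = _ := by rw [h6]; group
  have hord : orderOf (QuotientGroup.mk ⟨x, hnorm⟩ :
      (Subgroup.normalizer (S : Set (Equiv.Perm (Fin n)))) ⧸ C) = 2 := by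
    haveI : Fact (Nat.Prime 2) := ⟨Nat.prime_two⟩
    refine orderOf_eq_prime ?_ fun e => hxC ((QuotientGroup.eq_one_iff _).1 e)
    rw [← QuotientGroup.mk_pow, pow_two, show (⟨x, hnorm⟩ :
      Subgroup.normalizer (S : Set (Equiv.Perm (Fin n)))) * ⟨x, hnorm⟩ = 1 from Subtype.ext hx2]
    rfl
  show 2 ∣ C.index
  rw [Subgroup.index_eq_card, ← hord]
  exact orderOf_dvd_natCard _

end Cfsg.Agent.S2270
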