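import Cfsg.Statements.S2271

set_option autoImplicit false
open Cfsg

namespace Cfsg.Agent.S2271

open Equiv Finset

variable {n : ℕ}

/-- a permutation with prescribed values at distinct points -/
lemma exists_perm {k : ℕ} (u v : Fin k → Fin n) (hu : Function.Injective u)
    (hv : Function.Injective v) : ∃ g : Perm (Fin n), ∀ i, g (u i) = v i := by
  classical
  let e : {x // x ∈ Set.range u} ≃ {x // x ∈ Set.range v} :=
    (Equiv.ofInjective u hu).symm.trans (Equiv.ofInjective v hv)
  refine ⟨e.extendSubtype, fun i => ?_⟩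
  rw [Equiv.extendSubtype_apply_of_mem e (u i) ⟨i, rfl⟩]
  simp [e, Equiv.ofInjective_symm_apply]

lemma even_or_mul_swap (g : Perm (Fin n)) {x y : Fin n} (h : x ≠ y) :
    g ∈ alternatingGroup (Fin n) ∨ g * swap x y ∈ alternatingGroup (Fin n) := by
  simp only [Perm.mem_alternatingGroup, map_mul, Perm.sign_swap h]
  rcases Int.units_eq_one_or (Perm.sign g) with h' | h' <;> simp [h']

lemma even_or_swap_mul (g : Perm (Fin n)) {x y : Fin n} (h : x ≠ y) :
    g ∈ alternatingGroup (Fin n) ∨ swap x y * g ∈ alternatingGroup (Fin n) := by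
  simp only [Perm.mem_alternatingGroup, map_mul, Perm.sign_swap h]
  rcases Int.units_eq_one_or (Perm.sign g) with h' | h' <;> simp [h']

/-- two free points: an even permutation with prescribed values -/
lemma exists_even {k : ℕ} (hk : k + 2 ≤ n) (u v : Fin k → Fin n) (hu : Function.Injective u)
    (hv : Function.Injective v) :
    ∃ g ∈ alternatingGroup (Fin n), ∀ i, g (u i) = v i := by
  obtain ⟨g, hg⟩ := exists_perm u v hu hv
  have h2 : 1 < (univ \ univ.image u).card := by
    rw [card_sdiff, inter_univ, card_image_of_injective _ hu, card_univ, card_univ, Fintype.card_fin,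
      Fintype.card_fin]
    omega
  obtain ⟨x, hx, y, hy, hxy⟩ := one_lt_card.1 h2
  simp only [mem_sdiff, mem_univ, true_and, mem_image, not_exists] at hx hy
  rcases even_or_mul_swap g hxy with h | h
  · exact ⟨g, h, hg⟩
  · exact ⟨_, h, fun i => by rw [Perm.mul_apply, swap_apply_of_ne_of_ne (hx i) (hy i), hg]⟩

def agree (s b g : Perm (Fin n)) : ℕ := (univ.filter fun u => g (b u) = s (g u)).card

lemma agree_ge {s b g : Perm (Fin n)} {T : Finset (Fin n)} (h : ∀ u ∈ T, g (b u) = s (g u)) :
    T.card ≤ agree s b g :=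
  card_le_card fun u hu => mem_filter.2 ⟨mem_univ _, h u hu⟩

/-- the average of the agreement number -/
lemma average (hn : 4 ≤ n) (s b : Perm (Fin n)) (c : ℕ)
    (hc : ∀ g ∈ alternatingGroup (Fin n), agree s b g = c) :
    (c : ℤ) * n * (n - 1) = ((univ.filter fun p => s p = p).card : ℤ) *
      (univ.filter fun p => b p = p).card * (n - 1) +
      ((n : ℤ) - (univ.filter fun p => s p = p).card) * ((n : ℤ) - (univ.filter fun p => b p = p).card) := by
  classical
  set A : Finset (Perm (Fin n)) := univ.filter fun g => g ∈ alternatingGroup (Fin n) with hA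
  set K : Fin n → Fin n → Fin n → Fin n → ℕ := fun u v p q =>
    (A.filter fun g => g u = p ∧ g v = q).card with hK
  have hind : ∀ u v p q u' v' p' q', u ≠ v → p ≠ q → u' ≠ v' → p' ≠ q' → K u v p q = K u' v' p' q' := by
    intro u v p q u' v' p' q' h1 h2 h3 h4
    have inj : ∀ {x y : Fin n}, x ≠ y → Function.Injective ![x, y] := by
      intro x y h i j hij
      fin_cases i <;> fin_cases j <;> simp at hij ⊢ <;> first | exact h hij | exact h hij.symm
    obtain ⟨L, hL, hL'⟩ := exists_even (by omega) ![p, q] ![p', q'] (inj h2) (inj h4)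
    obtain ⟨R, hR, hR'⟩ := exists_even (by omega) ![u', v'] ![u, v] (inj h3) (inj h1)
    have a1 : L p = p' := hL' 0
    have a2 : L q = q' := hL' 1
    have b1 : R u' = u := hR' 0
    have b2 : R v' = v := hR' 1
    refine card_bij (fun g _ => L * g * R) (fun g hg => ?_) (fun g _ g' _ h => by simpa using h)
      (fun g hg => ⟨L⁻¹ * g * R⁻¹, ?_, by group⟩)
    · simp only [hA, mem_filter, mem_univ, true_and] at hg ⊢
      exact ⟨mul_mem (mul_mem hL hg.1) hR, by simp [b1, hg.2.1, a1], by simp [b2, hg.2.2, a2]⟩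
    · simp only [hA, mem_filter, mem_univ, true_and] at hg ⊢
      refine ⟨mul_mem (mul_mem (inv_mem hL) hg.1) (inv_mem hR), ?_, ?_⟩
      · rw [Perm.mul_apply, Perm.mul_apply, show R⁻¹ u = u' by rw [Perm.inv_eq_iff_eq, b1], hg.2.1,
          Perm.inv_eq_iff_eq, a1]
      · rw [Perm.mul_apply, Perm.mul_apply, show R⁻¹ v = v' by rw [Perm.inv_eq_iff_eq, b2], hg.2.2,
          Perm.inv_eq_iff_eq, a2]
  obtain ⟨x₀, y₀, hxy⟩ : ∃ x y : Fin n, x ≠ y := ⟨⟨0, by omega⟩, ⟨1, by omega⟩, by simp [Fin.ext_iff]⟩
  set k := K x₀ y₀ x₀ y₀ with hk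
  have hkpos : 0 < k := by
    refine card_pos.2 ⟨1, ?_⟩
    simp [hA, one_mem]
  have hone : ∀ u p : Fin n, (A.filter fun g => g u = p).card = (n - 1) * k := by
    intro u p
    obtain ⟨v, hv⟩ : ∃ v, u ≠ v := by
      rcases eq_or_ne u x₀ with h | h
      · exact ⟨y₀, h ▸ hxy⟩
      · exact ⟨x₀, h⟩
    rw [card_eq_sum_card_fiberwise (f := fun g : Perm (Fin n) => g v) (t := univ.erase p)]
    · rw [sum_congr rfl (g := fun _ => k) (fun q hq => ?_), sum_const, smul_eq_mul,
        card_erase_of_mem (mem_univ _), card_univ, Fintype.card_fin]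
      rw [filter_filter]
      exact hind _ _ _ _ _ _ _ _ hv (ne_of_mem_erase hq).symm hxy hxy
    · intro g hg
      simp only [coe_filter, Set.mem_setOf_eq] at hg
      simp only [coe_erase, coe_univ, Set.mem_diff, Set.mem_univ, true_and, Set.mem_singleton_iff]
      intro h
      exact hv (g.injective (hg.2.trans h.symm))
  have hcardA : A.card = n * ((n - 1) * k) := by
    rw [card_eq_sum_card_fiberwise (f := fun g : Perm (Fin n) => g x₀) (t := univ) (fun g _ => mem_univ _)]
    simp [hone]
  set fs := univ.filter fun p => s p = p with hfs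
  set fb := univ.filter fun p => b p = p with hfb
  have hfix : ∀ u, b u = u → (A.filter fun g => g (b u) = s (g u)).card = fs.card * ((n - 1) * k) := by
    intro u hu
    rw [card_eq_sum_card_fiberwise (f := fun g : Perm (Fin n) => g u) (t := fs)]
    · rw [sum_congr rfl (g := fun _ => (n - 1) * k) (fun p hp => ?_), sum_const, smul_eq_mul]
      rw [filter_filter, ← hone u p]
      congr 1
      refine filter_congr fun g _ => ⟨fun h => h.2, fun h => ⟨?_, h⟩⟩
      rw [hu, h, (mem_filter.1 hp).2]
    · intro g hg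
      simp only [coe_filter, Set.mem_setOf_eq] at hg
      simp [hfs, ← hg.2, hu]
  have hmov : ∀ u, b u ≠ u → (A.filter fun g => g (b u) = s (g u)).card = (univ \ fs).card * k := by
    intro u hu
    rw [card_eq_sum_card_fiberwise (f := fun g : Perm (Fin n) => g u) (t := univ \ fs)]
    · rw [sum_congr rfl (g := fun _ => k) (fun p hp => ?_), sum_const, smul_eq_mul]
      have hp' : p ≠ s p := fun h => (mem_sdiff.1 hp).2 (mem_filter.2 ⟨mem_univ _, h.symm⟩)
      rw [filter_filter, hk, ← hind _ _ _ _ _ _ _ _ (Ne.symm hu) hp' hxy hxy]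
      simp only [hK]
      congr 1
      refine filter_congr fun g _ => ⟨fun h => ⟨h.2, by rw [h.1, h.2]⟩, fun h => ⟨by rw [h.2, h.1], h.1⟩⟩
    · intro g hg
      simp only [coe_filter, Set.mem_setOf_eq] at hg
      simp only [hfs, coe_sdiff, coe_univ, coe_filter, Set.mem_diff, Set.mem_univ, true_and, mem_univ,
        Set.mem_setOf_eq]
      intro h
      exact hu (g.injective (hg.2.trans h))
  have hsum : (∑ g ∈ A, agree s b g) = A.card * c := by
    rw [sum_congr rfl (fun g hg => hc g (mem_filter.1 hg).2), sum_const, smul_eq_mul]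
  have hswap : (∑ g ∈ A, agree s b g) = ∑ u : Fin n, (A.filter fun g => g (b u) = s (g u)).card := by
    simp only [agree, card_filter]
    rw [sum_comm]
  rw [← sum_filter_add_sum_filter_not univ (fun u => b u = u),
    sum_congr rfl (fun u hu => hfix u (mem_filter.1 hu).2),
    sum_congr rfl (fun u hu => hmov u (mem_filter.1 hu).2), sum_const, sum_const, smul_eq_mul,
    smul_eq_mul, hsum, hcardA, ← hfb] at hswap
  have h1 : ((univ.filter fun u => ¬ b u = u).card : ℤ) = n - fb.card := by
    have := card_filter_add_card_filter_not (s := (univ : Finset (Fin n))) (fun u => b u = u)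
    rw [card_univ, Fintype.card_fin] at this
    rw [hfb]; omega
  have h2 : ((univ \ fs).card : ℤ) = n - fs.card := by
    have := card_sdiff_add_card_eq_card (subset_univ fs)
    rw [card_univ, Fintype.card_fin] at this
    omega
  have h3 : ((n - 1 : ℕ) : ℤ) = n - 1 := by omega
  have h := congrArg (fun t : ℕ => (t : ℤ)) hswap
  push_cast at h
  rw [h1, h2, h3] at h
  apply mul_right_cancel₀ (b := (k : ℤ)) (by exact_mod_cast hkpos.ne')
  linear_combination h

/-- fixed points and one arc can be matched -/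
lemma exists_common (hn : 5 ≤ n) {s b : Perm (Fin n)} (hs : s ≠ 1) (hb : b ≠ 1) {m : ℕ} (hm : 1 ≤ m)
    (hms : m ≤ (univ.filter fun p => s p = p).card) (hmb : m ≤ (univ.filter fun p => b p = p).card) :
    ∃ g ∈ alternatingGroup (Fin n), m + 1 ≤ agree s b g := by
  classical
  obtain ⟨Tb, hTb, hTbc⟩ := exists_subset_card_eq hmb
  obtain ⟨Ts, hTs, hTsc⟩ := exists_subset_card_eq hms
  obtain ⟨x, hx⟩ : ∃ x, b x ≠ x := by
    by_contra h; push Not at h; exact hb (Equiv.ext h)
  obtain ⟨y, hy⟩ : ∃ y, s y ≠ y := by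
    by_contra h; push Not at h; exact hs (Equiv.ext h)
  have hxT : ∀ t ∈ Tb, b t = t := fun t ht => (mem_filter.1 (hTb ht)).2
  have hyT : ∀ t ∈ Ts, s t = t := fun t ht => (mem_filter.1 (hTs ht)).2
  let eb := Tb.equivFinOfCardEq hTbc
  let es := Ts.equivFinOfCardEq hTsc
  let u : Fin (m + 2) → Fin n := Fin.cons x (Fin.cons (b x) fun i => (eb.symm i : Fin n))
  let v : Fin (m + 2) → Fin n := Fin.cons y (Fin.cons (s y) fun i => (es.symm i : Fin n))
  have hu : Function.Injective u := by
    simp only [u, Fin.cons_injective_iff]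
    refine ⟨?_, ?_, Subtype.val_injective.comp eb.symm.injective⟩
    · rintro ⟨i, hi⟩
      refine Fin.cases ?_ (fun j hj => ?_) i hi
      · simpa using hx
      · simp only [Fin.cons_succ] at hj
        exact hx (hj ▸ hxT _ (eb.symm j).2)
    · rintro ⟨j, hj⟩
      exact hx (b.injective (hj ▸ hxT _ (eb.symm j).2))
  have hv : Function.Injective v := by
    simp only [v, Fin.cons_injective_iff]
    refine ⟨?_, ?_, Subtype.val_injective.comp es.symm.injective⟩
    · rintro ⟨i, hi⟩
      refine Fin.cases ?_ (fun j hj => ?_) i hi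
      · simpa using hy
      · simp only [Fin.cons_succ] at hj
        exact hy (hj ▸ hyT _ (es.symm j).2)
    · rintro ⟨j, hj⟩
      exact hy (s.injective (hj ▸ hyT _ (es.symm j).2))
  obtain ⟨g, hgA, hgx, hgbx, hgT⟩ : ∃ g ∈ alternatingGroup (Fin n),
      g x = y ∧ g (b x) = s y ∧ ∀ t ∈ Tb, g t ∈ Ts := by
    obtain ⟨g, hg⟩ := exists_perm u v hu hv
    have g1 : g x = y := hg 0
    have g2 : g (b x) = s y := hg 1
    have g3 : ∀ t ∈ Tb, g t ∈ Ts := by
      intro t ht
      have : g t = (es.symm (eb ⟨t, ht⟩) : Fin n) := by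
        have := hg ((eb ⟨t, ht⟩).succ.succ)
        simpa [u, v] using this
      rw [this]; exact (es.symm _).2
    rcases Nat.lt_or_ge m 2 with h | h
    · obtain ⟨g', hA, hg'⟩ := exists_even (by omega) u v hu hv
      refine ⟨g', hA, hg' 0, hg' 1, fun t ht => ?_⟩
      have := hg' ((eb ⟨t, ht⟩).succ.succ)
      simp [u, v] at this
      rw [this]; exact (es.symm _).2
    · obtain ⟨t₁, ht₁, t₂, ht₂, h12⟩ := one_lt_card.1 (hTbc ▸ h)
      rcases even_or_mul_swap g h12 with h' | h'
      · exact ⟨g, h', g1, g2, g3⟩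
      · have ne : ∀ t ∈ Tb, x ≠ t ∧ b x ≠ t := fun t ht =>
          ⟨fun e => hx (e ▸ hxT t ht), fun e => hx (b.injective (e ▸ hxT t ht))⟩
        refine ⟨_, h', ?_, ?_, fun t ht => ?_⟩
        · rw [Perm.mul_apply, swap_apply_of_ne_of_ne (ne _ ht₁).1 (ne _ ht₂).1, g1]
        · rw [Perm.mul_apply, swap_apply_of_ne_of_ne (ne _ ht₁).2 (ne _ ht₂).2, g2]
        · rw [Perm.mul_apply, swap_apply_def]
          split_ifs
          exacts [g3 _ ht₂, g3 _ ht₁, g3 _ ht]
  refine ⟨g, hgA, ?_⟩
  have : (insert x Tb).card = m + 1 := by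
    rw [card_insert_of_notMem (fun h => hx (hxT x h)), hTbc]
  rw [← this]
  refine agree_ge fun t ht => ?_
  rcases mem_insert.1 ht with rfl | ht
  · rw [hgx, hgbx]
  · rw [hxT t ht, hyT _ (hgT t ht)]

/-- two arcs can be matched when both permutations move at least four points -/
lemma exists_two (hn : 5 ≤ n) {s b : Perm (Fin n)}
    (hs : 4 ≤ (univ.filter fun p => s p ≠ p).card) (hb : 4 ≤ (univ.filter fun p => b p ≠ p).card) :
    ∃ g ∈ alternatingGroup (Fin n), 2 ≤ agree s b g := by
  classical
  have arcs : ∀ c : Perm (Fin n), 4 ≤ (univ.filter fun p => c p ≠ p).card →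
      ∃ i k : Fin n, Function.Injective ![i, c i, k, c k] := by
    intro c hc
    obtain ⟨i, hi⟩ := card_pos.1 (by omega : 0 < (univ.filter fun p => c p ≠ p).card)
    have hi' : c i ≠ i := (mem_filter.1 hi).2
    have : 0 < ((univ.filter fun p => c p ≠ p) \ {i, c i, c⁻¹ i}).card := by
      have h1 := le_card_sdiff ({i, c i, c⁻¹ i} : Finset (Fin n)) (univ.filter fun p => c p ≠ p)
      have h3 : ({i, c i, c⁻¹ i} : Finset (Fin n)).card ≤ 3 := card_le_three
      omega
    obtain ⟨k, hk⟩ := card_pos.1 this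
    simp only [mem_sdiff, mem_filter, mem_univ, true_and, mem_insert, mem_singleton, not_or] at hk
    obtain ⟨hk1, hk2, hk3, hk4⟩ := hk
    have hk5 : c k ≠ i := fun h => hk4 (by rw [← h]; simp)
    have hk6 : c k ≠ c i := fun h => hk2 (c.injective h)
    refine ⟨i, k, fun a b' h => ?_⟩
    fin_cases a <;> fin_cases b' <;> simp at h ⊢ <;>
      first
        | exact hi' h | exact hi' h.symm | exact hk1 h | exact hk1 h.symm
        | exact hk2 h | exact hk2 h.symm | exact hk3 h | exact hk3 h.symm
        | exact hk5 h | exact hk5 h.symm | exact hk6 h | exact hk6 h.symm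
  by_cases hinv : (∀ u, b (b u) = u) ∨ (∀ u, s (s u) = u)
  · obtain ⟨i, k, hu⟩ := arcs b hb
    obtain ⟨p, r, hv⟩ := arcs s hs
    obtain ⟨g, hg⟩ := exists_perm _ _ hu hv
    have g0 : g i = p := hg 0
    have g1 : g (b i) = s p := hg 1
    have g2 : g k = r := hg 2
    have g3 : g (b k) = s r := hg 3
    have hkb : k ≠ b k := fun h => absurd (@hu 2 3 h) (by decide)
    have hrs : r ≠ s r := fun h => absurd (@hv 2 3 h) (by decide)
    have hi2 : i ≠ k := fun h => absurd (@hu 0 2 h) (by decide)
    have hi3 : i ≠ b k := fun h => absurd (@hu 0 3 h) (by decide)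
    have hj2 : b i ≠ k := fun h => absurd (@hu 1 2 h) (by decide)
    have hj3 : b i ≠ b k := fun h => absurd (@hu 1 3 h) (by decide)
    rcases hinv with h | h
    · rcases even_or_mul_swap g hkb with h' | h'
      · refine ⟨g, h', ?_⟩
        rw [← card_pair hi2]
        exact agree_ge fun t ht => by
          rcases mem_insert.1 ht with rfl | ht
          · rw [g0, g1]
          · rw [mem_singleton.1 ht, g2, g3]
      · refine ⟨_, h', ?_⟩
        rw [← card_pair hi3]
        exact agree_ge fun t ht => by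
          rcases mem_insert.1 ht with rfl | ht
          · simp only [Perm.mul_apply]
            rw [swap_apply_of_ne_of_ne hj2 hj3, swap_apply_of_ne_of_ne hi2 hi3, g0, g1]
          · rw [mem_singleton.1 ht]
            simp only [Perm.mul_apply]
            rw [h, swap_apply_left, swap_apply_right, g2, g3]
    · rcases even_or_swap_mul g hrs with h' | h'
      · refine ⟨g, h', ?_⟩
        rw [← card_pair hi2]
        exact agree_ge fun t ht => by
          rcases mem_insert.1 ht with rfl | ht
          · rw [g0, g1]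
          · rw [mem_singleton.1 ht, g2, g3]
      · refine ⟨_, h', ?_⟩
        rw [← card_pair hi2]
        have e02 : p ≠ r := fun h => absurd (@hv 0 2 h) (by decide)
        have e03 : p ≠ s r := fun h => absurd (@hv 0 3 h) (by decide)
        have e12 : s p ≠ r := fun h => absurd (@hv 1 2 h) (by decide)
        have e13 : s p ≠ s r := fun h => absurd (@hv 1 3 h) (by decide)
        exact agree_ge fun t ht => by
          rcases mem_insert.1 ht with rfl | ht
          · simp only [Perm.mul_apply]
            rw [g0, g1, swap_apply_of_ne_of_ne e02 e03, swap_apply_of_ne_of_ne e12 e13]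
          · rw [mem_singleton.1 ht]
            simp only [Perm.mul_apply]
            rw [g2, g3, swap_apply_left, swap_apply_right, h]
  · push Not at hinv
    obtain ⟨⟨u, hu⟩, p, hp⟩ := hinv
    have path : ∀ (c : Perm (Fin n)) (w : Fin n), c (c w) ≠ w →
        Function.Injective ![w, c w, c (c w)] := by
      intro c w h a b' hab
      have h1 : c w ≠ w := fun e => h (by rw [e, e])
      have h2 : c (c w) ≠ c w := fun e => h1 (c.injective e)
      fin_cases a <;> fin_cases b' <;> simp at hab ⊢ <;>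
        first
          | exact h1 hab | exact h1 hab.symm | exact h2 hab | exact h2 hab.symm
          | exact h hab | exact h hab.symm
    obtain ⟨g, hgA, hg⟩ := exists_even (by omega) _ _ (path b u hu) (path s p hp)
    have g0 : g u = p := hg 0
    have g1 : g (b u) = s p := hg 1
    have g2 : g (b (b u)) = s (s p) := hg 2
    refine ⟨g, hgA, ?_⟩
    rw [← card_pair (a := u) (b := b u) (fun e => hu (by rw [← e, ← e]))]
    exact agree_ge fun t ht => by
      rcases mem_insert.1 ht with rfl | ht
      · rw [g0, g1]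
      · rw [mem_singleton.1 ht, g1, g2]

end Cfsg.Agent.S2271

namespace Cfsg.Agent.S2271

/-- For n ≥ 5 and a, b ≠ 1 in S_n, the fixed-point count is not constant on a^{A_n} b^{A_n}; in particular a product of two non-trivial A_n-classes is never a single conjugacy class (the Arad–Herzog property for A_n). -/
theorem result (n : ℕ) (hn : 5 ≤ n) (a b : Equiv.Perm (Fin n)) (ha : a ≠ 1) (hb : b ≠ 1) :
    ∃ g₁ h₁ g₂ h₂ : Equiv.Perm (Fin n), g₁ ∈ alternatingGroup (Fin n) ∧ h₁ ∈ alternatingGroup (Fin n) ∧ g₂ ∈ alternatingGroup (Fin n) ∧ h₂ ∈ alternatingGroup (Fin n) ∧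
      Nat.card (Function.fixedPoints ⇑(g₁ * a * g₁⁻¹ * (h₁ * b * h₁⁻¹))) ≠
        Nat.card (Function.fixedPoints ⇑(g₂ * a * g₂⁻¹ * (h₂ * b * h₂⁻¹))) := by
  classical
  have hag : ∀ g : Equiv.Perm (Fin n),
      Nat.card (Function.fixedPoints ⇑(1 * a * 1⁻¹ * (g * b * g⁻¹))) = agree a⁻¹ b g := by
    intro g
    rw [agree, ← Fintype.card_subtype, ← Nat.card_eq_fintype_card]
    refine (Nat.card_congr (g.subtypeEquiv fun u => ?_)).symm
    simp [Function.fixedPoints, Function.IsFixedPt, Equiv.eq_symm_apply]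
  by_contra hcon
  push Not at hcon
  set c := agree a⁻¹ b 1 with hc
  have hconst : ∀ g ∈ alternatingGroup (Fin n), agree a⁻¹ b g = c := fun g hg => by
    rw [hc, ← hag g, ← hag 1]
    exact hcon 1 g 1 1 (one_mem _) hg (one_mem _) (one_mem _)
  have havg := average (by omega) a⁻¹ b c hconst
  have split : ∀ σ : Equiv.Perm (Fin n),
      (Finset.univ.filter fun p => σ p = p).card + (Finset.univ.filter fun p => σ p ≠ p).card = n := by
    intro σ
    have := Finset.card_filter_add_card_filter_not (s := (Finset.univ : Finset (Fin n))) (fun p => σ p = p)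
    simpa using this
  have two : ∀ σ : Equiv.Perm (Fin n), σ ≠ 1 → 2 ≤ (Finset.univ.filter fun p => σ p ≠ p).card := by
    intro σ hσ
    obtain ⟨x, hx⟩ : ∃ x, σ x ≠ x := by
      by_contra h; push Not at h; exact hσ (Equiv.ext h)
    exact Finset.one_lt_card.2 ⟨x, by simp [hx], σ x, by simp [hx], fun e => hx e.symm⟩
  have ha' : a⁻¹ ≠ 1 := by simpa using ha
  have hfs := two _ ha'
  have hfb := two _ hb
  have sa := split a⁻¹
  have sb := split b
  set fs := (Finset.univ.filter fun p => a⁻¹ p = p).card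
  set fb := (Finset.univ.filter fun p => b p = p).card
  have hlin : ((n : ℤ) - 1) * ((c : ℤ) - 1) = ((fs : ℤ) - 1) * ((fb : ℤ) - 1) := by
    apply mul_left_cancel₀ (a := (n : ℤ)) (by omega)
    linear_combination havg
  rcases Nat.eq_zero_or_pos (min fs fb) with h0 | hpos
  · have key : ∀ f : ℕ, f + 2 ≤ n → ((n : ℤ) - 1) * ((c : ℤ) - 1) = 1 - (f : ℤ) → f = 1 ∧ c = 1 := by
      intro f hf h
      rcases lt_trichotomy ((c : ℤ) - 1) 0 with h1 | h1 | h1
      · nlinarith [mul_le_mul_of_nonneg_left (show ((c : ℤ) - 1) ≤ -1 by omega) (show (0 : ℤ) ≤ (n : ℤ) - 1 by omega)]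
      · rw [h1, mul_zero] at h; omega
      · nlinarith [mul_le_mul_of_nonneg_left (show (1 : ℤ) ≤ (c : ℤ) - 1 by omega) (show (0 : ℤ) ≤ (n : ℤ) - 1 by omega)]
    have hone : c = 1 ∧ fs ≤ 1 ∧ fb ≤ 1 := by
      rcases (by omega : fs = 0 ∨ fb = 0) with h | h
      · have := key fb (by omega) (by rw [hlin, h]; push_cast; ring)
        omega
      · have := key fs (by omega) (by rw [hlin, h]; push_cast; ring)
        omega
    obtain ⟨g, hg, hg2⟩ := exists_two hn (s := a⁻¹) (b := b) (by omega) (by omega)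
    rw [hconst g hg] at hg2
    omega
  · obtain ⟨g, hg, hg'⟩ := exists_common hn ha' hb hpos (min_le_left fs fb) (min_le_right fs fb)
    rw [hconst g hg] at hg'
    rcases le_total fs fb with h | h
    · rw [min_eq_left h] at hg'
      have : (fs : ℤ) * ((n : ℤ) - 1) ≤ ((fs : ℤ) - 1) * ((fb : ℤ) - 1) := by
        rw [← hlin, mul_comm]; exact mul_le_mul_of_nonneg_left (by omega) (by omega)
      nlinarith [this, (by omega : (fb : ℤ) + 2 ≤ n), (by omega : (1 : ℤ) ≤ fs)]
    · rw [min_eq_right h] at hg'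
      have : (fb : ℤ) * ((n : ℤ) - 1) ≤ ((fs : ℤ) - 1) * ((fb : ℤ) - 1) := by
        rw [← hlin, mul_comm]; exact mul_le_mul_of_nonneg_left (by omega) (by omega)
      nlinarith [this, (by omega : (fs : ℤ) + 2 ≤ n), (by omega : (1 : ℤ) ≤ fb)]

end Cfsg.Agent.S2271
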