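import Cfsg.Statements.S2272
-- import your own Cfsg.Agent.* helpers here

set_option autoImplicit false
open Cfsg

namespace Cfsg.Agent.S2272

section Lin

variable {K : Type*} [Field K] {V : Type*} [AddCommGroup V] [Module K V]

theorem exists_dual_one {W : Submodule K V} {x : V} (hx : x ∉ W) :
    ∃ f : Module.Dual K V, f x = 1 ∧ ∀ y ∈ W, f y = 0 := by
  obtain ⟨f, h1, h2⟩ := Submodule.exists_dual_map_eq_bot_of_notMem hx inferInstance
  refine ⟨(f x)⁻¹ • f, by simp [h1], fun y hy => ?_⟩
  have h3 : f y ∈ W.map f := Submodule.mem_map_of_mem hy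
  rw [h2, Submodule.mem_bot] at h3
  simp [h3]

theorem linearIndependent_two {v w : V} (hv : v ≠ 0) (hw : w ∉ K ∙ v) : LinearIndependent K ![v, w] := by
  rw [LinearIndependent.pair_iff' hv]
  intro a ha
  exact hw (Submodule.mem_span_singleton.2 ⟨a, ha⟩)

theorem mem_span_two {v w x : V} : x ∈ Submodule.span K {v, w} ↔ ∃ a b : K, a • v + b • w = x :=
  Submodule.mem_span_pair

theorem left_mem_two (v w : V) : v ∈ Submodule.span K ({v, w} : Set V) :=
  Submodule.subset_span (Set.mem_insert _ _)

theorem right_mem_two (v w : V) : w ∈ Submodule.span K ({v, w} : Set V) :=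
  Submodule.subset_span (Set.mem_insert_of_mem _ (Set.mem_singleton _))

variable [FiniteDimensional K V]

theorem exists_basis_two {d : ℕ} (hd : 2 ≤ d) (hV : Module.finrank K V = d) {v w : V}
    (h : LinearIndependent K ![v, w]) :
    ∃ b : Module.Basis (Fin d) K V, b ⟨0, by omega⟩ = v ∧ b ⟨1, by omega⟩ = w := by
  have key : ∀ k : ℕ, ∀ hk : 2 ≤ k, k ≤ d →
      ∃ f : Fin k → V, LinearIndependent K f ∧ f ⟨0, by omega⟩ = v ∧ f ⟨1, by omega⟩ = w := by
    intro k hk
    induction k, hk using Nat.le_induction with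
    | base => exact fun _ => ⟨![v, w], h, rfl, rfl⟩
    | succ k hk ih =>
      intro hkd
      obtain ⟨f, hf, h0, h1⟩ := ih (by omega)
      obtain ⟨x, hx⟩ := exists_linearIndependent_snoc_of_lt_finrank hf (by omega)
      refine ⟨Fin.snoc f x, hx, ?_, ?_⟩
      · exact (Fin.snoc_castSucc (α := fun _ => V) x f ⟨0, by omega⟩).trans h0
      · exact (Fin.snoc_castSucc (α := fun _ => V) x f ⟨1, by omega⟩).trans h1
  obtain ⟨f, hf, h0, h1⟩ := key d hd le_rfl
  haveI : Nonempty (Fin d) := ⟨⟨0, by omega⟩⟩
  refine ⟨basisOfLinearIndependentOfCardEqFinrank hf (by rw [Fintype.card_fin, hV]), ?_, ?_⟩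
  · rw [coe_basisOfLinearIndependentOfCardEqFinrank, h0]
  · rw [coe_basisOfLinearIndependentOfCardEqFinrank, h1]

/-- A map of determinant one with two prescribed values. -/
theorem exists_det_one_map {d : ℕ} (hd : 3 ≤ d) (hV : Module.finrank K V = d) {v' w' v w : V}
    (h' : LinearIndependent K ![v', w']) (h : LinearIndependent K ![v, w]) :
    ∃ e : V ≃ₗ[K] V, LinearMap.det (e : V →ₗ[K] V) = 1 ∧ e v' = v ∧ e w' = w := by
  obtain ⟨b', hb'0, hb'1⟩ := exists_basis_two (by omega) hV h'
  obtain ⟨b, hb0, hb1⟩ := exists_basis_two (by omega) hV h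
  let δ : Kˣ := LinearEquiv.det (b'.equiv b (Equiv.refl _))
  let u : Fin d → Kˣ := fun i => if i = ⟨2, by omega⟩ then δ⁻¹ else 1
  let S : V ≃ₗ[K] V := b.equiv (b.unitsSMul u) (Equiv.refl _)
  have hS : LinearMap.det (S : V →ₗ[K] V) = ((δ⁻¹ : Kˣ) : K) := by
    rw [← LinearMap.det_toMatrix b]
    have hm : LinearMap.toMatrix b b (S : V →ₗ[K] V) = Matrix.diagonal fun i => ((u i : Kˣ) : K) := by
      ext i j
      rw [LinearMap.toMatrix_apply]
      have : S (b j) = (u j : K) • b j := by
        simp only [S, Module.Basis.equiv_apply, Equiv.refl_apply, Module.Basis.unitsSMul_apply]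
        rfl
      rw [LinearEquiv.coe_coe, this, map_smul, Finsupp.smul_apply, b.repr_self, Finsupp.single_apply,
        Matrix.diagonal_apply]
      by_cases hij : i = j
      · subst hij; simp
      · rw [if_neg hij, if_neg (Ne.symm hij), smul_zero]
    rw [hm, Matrix.det_diagonal, Finset.prod_eq_single (⟨2, by omega⟩ : Fin d)]
    · simp [u]
    · intro i _ hi; simp [u, hi]
    · intro hi; exact absurd (Finset.mem_univ _) hi
  refine ⟨(b'.equiv b (Equiv.refl _)).trans S, ?_, ?_, ?_⟩
  · rw [LinearEquiv.coe_trans, LinearMap.det_comp, hS, ← LinearEquiv.coe_det, ← Units.val_mul]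
    simp [δ]
  · rw [LinearEquiv.trans_apply, ← hb'0]
    simp only [S, Module.Basis.equiv_apply, Equiv.refl_apply, Module.Basis.unitsSMul_apply]
    rw [hb0]
    simp [u]
  · rw [LinearEquiv.trans_apply, ← hb'1]
    simp only [S, Module.Basis.equiv_apply, Equiv.refl_apply, Module.Basis.unitsSMul_apply]
    rw [hb1]
    simp [u]

/-- The trace is linear and nonconstant on a root subgroup. -/
theorem exists_two_traces (A B : Module.End K V) (v : V)
    (e : V ≃ₗ[K] V) (he : LinearMap.det (e : V →ₗ[K] V) = 1)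
    (hC : e (B (e.symm (A v))) - A (e (B (e.symm v))) ∉ Submodule.span K {v, A v}) :
    ∃ f₁ f₂ : V ≃ₗ[K] V, LinearMap.det (f₁ : V →ₗ[K] V) = 1 ∧ LinearMap.det (f₂ : V →ₗ[K] V) = 1 ∧
      LinearMap.trace K V (A * f₁.conj B) = 0 ∧ LinearMap.trace K V (A * f₂.conj B) ≠ 0 := by
  obtain ⟨ψ, hψC, hψ0⟩ := exists_dual_one hC
  have hψv : ψ v = 0 := hψ0 v (left_mem_two v (A v))
  have hψA : ψ (A v) = 0 := hψ0 (A v) (right_mem_two v (A v))
  let B' : Module.End K V := e.conj B
  let E : Module.End K V := ψ.smulRight v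
  have hsv : ∀ s : K, ψ (s • v) = 0 := fun s => by simp [hψv]
  let T : K → V ≃ₗ[K] V := fun s => e.trans (LinearEquiv.transvection (hsv s))
  have hT : ∀ s : K, (T s).conj B = (1 + s • E) * B' * (1 - s • E) := by
    intro s
    refine LinearMap.ext fun x => ?_
    show (T s) (B ((T s).symm x)) = _
    have hsymm : (T s).symm x = e.symm (x - (s * ψ x) • v) := by
      rw [LinearEquiv.symm_apply_eq]
      show _ = LinearEquiv.transvection (hsv s) (e (e.symm (x - (s * ψ x) • v)))
      rw [e.apply_symm_apply, LinearEquiv.transvection.apply, map_sub, map_smul, hψv, smul_zero, sub_zero,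
        smul_smul, mul_comm]
      abel
    rw [hsymm]
    show LinearEquiv.transvection (hsv s) (e (B (e.symm (x - (s * ψ x) • v)))) = _
    rw [LinearEquiv.transvection.apply]
    simp only [Module.End.mul_apply, LinearMap.add_apply, LinearMap.sub_apply, Module.End.one_apply,
      LinearMap.smul_apply, E, B', LinearEquiv.conj_apply, LinearMap.coe_comp, Function.comp_apply,
      LinearEquiv.coe_coe, LinearMap.smulRight_apply, smul_smul]
    first
      | rw [mul_comm (ψ (e _)) s]
      | rw [mul_comm s]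
  have hdet : ∀ s : K, LinearMap.det (T s : V →ₗ[K] V) = 1 := by
    intro s
    have h1 := LinearEquiv.transvection.det_eq_one (hsv s)
    have h2 : LinearMap.det (LinearEquiv.transvection (hsv s) : V →ₗ[K] V) = 1 := by
      rw [← LinearEquiv.coe_det, h1, Units.val_one]
    show LinearMap.det ((e.trans (LinearEquiv.transvection (hsv s))) : V →ₗ[K] V) = 1
    rw [LinearEquiv.coe_trans, LinearMap.det_comp, h2, he, one_mul]
  have hr : ∀ M : Module.End K V, LinearMap.trace K V (E * M) = ψ (M v) := by
    intro M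
    have h1 : E * M = (ψ.comp M).smulRight v := LinearMap.ext fun x => rfl
    rw [h1, LinearMap.trace_smulRight]
    rfl
  have htr : ∀ s : K, LinearMap.trace K V (A * (T s).conj B) = LinearMap.trace K V (A * B') + s := by
    intro s
    have hexp : A * ((1 + s • E) * B' * (1 - s • E)) =
        A * B' + s • (A * E * B' - A * B' * E) - (s * s) • (A * E * B' * E) := by
      simp only [mul_add, add_mul, mul_sub, sub_mul, mul_one, one_mul, smul_mul_assoc, mul_smul_comm,
        smul_smul, smul_sub, ← mul_assoc]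
      module
    have h1 : LinearMap.trace K V (A * E * B') = ψ (B' (A v)) := by
      rw [mul_assoc, LinearMap.trace_mul_comm, mul_assoc, hr]; rfl
    have h2 : LinearMap.trace K V (A * B' * E) = ψ (A (B' v)) := by
      rw [LinearMap.trace_mul_comm, hr]; rfl
    have h3 : LinearMap.trace K V (A * E * B' * E) = 0 := by
      rw [LinearMap.trace_mul_comm, hr]
      show ψ (A (E (B' v))) = 0
      rw [LinearMap.smulRight_apply, map_smul, map_smul, hψA, smul_zero]
    rw [hT, hexp, map_sub, map_add, map_smul, map_smul, map_sub, h1, h2, h3, ← map_sub]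
    show _ + s • ψ (e (B (e.symm (A v))) - A (e (B (e.symm v)))) - _ = _
    rw [hψC]
    simp
  exact ⟨T (0 - LinearMap.trace K V (A * B')), T (1 - LinearMap.trace K V (A * B')), hdet _, hdet _,
    by rw [htr]; ring, by rw [htr, add_sub_cancel]; exact one_ne_zero⟩

theorem not_scalar_iff {A : Module.End K V} (hA : ∀ c : K, A ≠ c • 1) :
    ∃ v : V, v ≠ 0 ∧ A v ∉ K ∙ v := by
  by_contra hcon
  push Not at hcon
  obtain ⟨c, hc⟩ := LinearMap.exists_eq_smul_id_of_forall_notLinearIndependent (f := A) fun v hli => by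
    have hv : v ≠ 0 := hli.ne_zero 0
    rw [LinearIndependent.pair_iff' hv] at hli
    obtain ⟨a, ha⟩ := Submodule.mem_span_singleton.1 (hcon v hv)
    exact hli a ha
  exact hA c hc

/-- The main linear algebra lemma. -/
theorem exists_conj_traces {d : ℕ} (hd : 3 ≤ d) (hV : Module.finrank K V = d) (A B : Module.End K V)
    (hA : ∀ c : K, A ≠ c • 1) (hB : ∀ c : K, B ≠ c • 1) :
    ∃ f₁ f₂ : V ≃ₗ[K] V, LinearMap.det (f₁ : V →ₗ[K] V) = 1 ∧ LinearMap.det (f₂ : V →ₗ[K] V) = 1 ∧
      LinearMap.trace K V (A * f₁.conj B) = 0 ∧ LinearMap.trace K V (A * f₂.conj B) ≠ 0 := by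
  obtain ⟨v', hv', hBv'⟩ := not_scalar_iff hB
  by_cases heig : ∃ v : V, v ≠ 0 ∧ A v ∈ K ∙ v
  · obtain ⟨v₀, hv₀, hv₀A⟩ := heig
    obtain ⟨l, hl⟩ := Submodule.mem_span_singleton.1 hv₀A
    let N : Module.End K V := A - l • 1
    have hNv₀ : N v₀ = 0 := by simp [N, hl]
    have hN0 : N ≠ 0 := fun h0 => hA l (sub_eq_zero.1 h0)
    obtain ⟨v, u, hv, hNv, hu⟩ : ∃ v u : V, v ≠ 0 ∧ N v = 0 ∧ N u ∉ K ∙ v := by
      by_cases hall : ∀ x, N x ∈ K ∙ v₀
      · have hker : ∃ v : V, N v = 0 ∧ v ∉ K ∙ v₀ := by
          by_contra hcon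
          push Not at hcon
          have h1 : LinearMap.ker N ≤ K ∙ v₀ := fun x hx => hcon x hx
          have h2 : LinearMap.range N ≤ K ∙ v₀ := by
            rintro _ ⟨x, rfl⟩; exact hall x
          have h3 := LinearMap.finrank_range_add_finrank_ker N
          have h4 := Submodule.finrank_mono h1
          have h5 := Submodule.finrank_mono h2
          rw [finrank_span_singleton hv₀] at h4 h5
          omega
        obtain ⟨v, hNv, hv⟩ := hker
        obtain ⟨u, hu⟩ : ∃ u, N u ≠ 0 := by
          by_contra hcon; push Not at hcon; exact hN0 (LinearMap.ext hcon)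
        refine ⟨v, u, fun h0 => hv (h0 ▸ zero_mem _), hNv, fun hmem => ?_⟩
        obtain ⟨a, ha⟩ := Submodule.mem_span_singleton.1 hmem
        by_cases ha0 : a = 0
        · exact hu (by rw [← ha, ha0, zero_smul])
        · apply hv
          rw [← inv_smul_smul₀ ha0 v, ha]
          exact Submodule.smul_mem _ _ (hall u)
      · push Not at hall
        obtain ⟨u, hu⟩ := hall
        exact ⟨v₀, u, hv₀, hNv₀, hu⟩
    have hAv : A v = l • v := by
      simpa [N, sub_eq_zero] using hNv
    have huv : u ∉ K ∙ v := by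
      intro hmem
      obtain ⟨a, rfl⟩ := Submodule.mem_span_singleton.1 hmem
      exact hu (by rw [map_smul, hNv, smul_zero]; exact zero_mem _)
    obtain ⟨e, he, he1, he2⟩ := exists_det_one_map hd hV (linearIndependent_two hv' hBv') (linearIndependent_two hv huv)
    refine exists_two_traces A B v e he ?_
    have hs : e.symm v = v' := by rw [← he1, e.symm_apply_apply]
    rw [hAv, map_smul, hs, map_smul, map_smul, he2]
    intro hmem
    apply hu
    have h2 : Submodule.span K ({v, l • v} : Set V) ≤ K ∙ v := by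
      rw [Submodule.span_le]
      rintro x (rfl | rfl)
      · exact Submodule.mem_span_singleton_self _
      · exact Submodule.smul_mem _ _ (Submodule.mem_span_singleton_self _)
    have h3 := neg_mem (h2 hmem)
    rw [neg_sub] at h3
    simpa [N] using h3
  push Not at heig
  -- no eigenvector for `A`
  obtain ⟨w', hw'⟩ : ∃ w' : V, w' ∉ Submodule.span K {v', B v'} := by
    by_contra hcon
    push Not at hcon
    classical
    have h1 : (⊤ : Submodule K V) ≤ Submodule.span K (({v', B v'} : Finset V) : Set V) := by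
      intro x _; simpa using hcon x
    have h2 := (Submodule.finrank_mono h1).trans (finrank_span_finset_le_card _)
    have h3 : ({v', B v'} : Finset V).card ≤ 2 := Finset.card_le_two
    rw [finrank_top, hV] at h2
    omega
  have hw'v : w' ∉ K ∙ v' := fun h => hw' (Submodule.span_mono (by simp) h)
  have hBw : B v' ∉ Submodule.span K {v', w'} := by
    intro hmem
    obtain ⟨a, b, hab⟩ := mem_span_two.1 hmem
    by_cases hb : b = 0
    · exact hBv' (Submodule.mem_span_singleton.2 ⟨a, by rw [← hab, hb, zero_smul, add_zero]⟩)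
    · refine hw' (mem_span_two.2 ⟨-(a / b), 1 / b, ?_⟩)
      rw [← hab, smul_add, smul_smul, smul_smul, ← add_assoc, ← add_smul, one_div, inv_mul_cancel₀ hb]
      rw [show -(a / b) + b⁻¹ * a = 0 by ring, zero_smul, zero_add, one_smul]
  by_cases hcub : ∃ v : V, v ≠ 0 ∧ A (A v) ∉ Submodule.span K {v, A v}
  · obtain ⟨v, hv, hAA⟩ := hcub
    have hAv : A v ∉ K ∙ v := heig v hv
    obtain ⟨e, he, he1, he2⟩ := exists_det_one_map hd hV (linearIndependent_two hv' hw'v) (linearIndependent_two hv hAv)
    have hs : e.symm v = v' := by rw [← he1, e.symm_apply_apply]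
    have hs2 : e.symm (A v) = w' := by rw [← he2, e.symm_apply_apply]
    have hu : e (B v') ∉ Submodule.span K {v, A v} := by
      intro hmem
      obtain ⟨a, b, hab⟩ := mem_span_two.1 hmem
      refine hBw (mem_span_two.2 ⟨a, b, e.injective ?_⟩)
      rw [map_add, map_smul, map_smul, he1, he2, hab]
    by_cases hgood : e (B (e.symm (A v))) - A (e (B (e.symm v))) ∈ Submodule.span K {v, A v}
    · obtain ⟨φ, hφu, hφ0⟩ := exists_dual_one hu
      have hφv : φ v = 0 := hφ0 v (left_mem_two v (A v))
      have hφA : φ (A v) = 0 := hφ0 (A v) (right_mem_two v (A v))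
      let e' := e.trans (LinearEquiv.transvection hφA)
      have he' : LinearMap.det (e' : V →ₗ[K] V) = 1 := by
        show LinearMap.det ((e.trans (LinearEquiv.transvection hφA)) : V →ₗ[K] V) = 1
        rw [LinearEquiv.coe_trans, LinearMap.det_comp, ← LinearEquiv.coe_det,
          LinearEquiv.transvection.det_eq_one, Units.val_one, he, one_mul]
      refine exists_two_traces A B v e' he' ?_
      have h1 : e'.symm v = v' := by
        rw [LinearEquiv.symm_apply_eq]
        show v = LinearEquiv.transvection hφA (e v')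
        rw [he1, LinearEquiv.transvection.apply, hφv, zero_smul, add_zero]
      have h2 : e'.symm (A v) = w' := by
        rw [LinearEquiv.symm_apply_eq]
        show A v = LinearEquiv.transvection hφA (e w')
        rw [he2, LinearEquiv.transvection.apply, hφA, zero_smul, add_zero]
      rw [hs, hs2] at hgood
      rw [h1, h2]
      show LinearEquiv.transvection hφA (e (B w')) - A (LinearEquiv.transvection hφA (e (B v'))) ∉ _
      rw [LinearEquiv.transvection.apply, LinearEquiv.transvection.apply, hφu, one_smul, map_add]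
      intro hmem
      apply hAA
      have := sub_mem (sub_mem hgood hmem) (Submodule.smul_mem _ (-(φ (e (B w')))) (right_mem_two v (A v)))
      convert this using 1
      module
    · exact exists_two_traces A B v e he hgood
  push Not at hcub
  -- `A` is quadratic without eigenvectors
  obtain ⟨v, hv, hAv⟩ := not_scalar_iff hA
  have hP : ∀ x : V, x ∈ Submodule.span K {v, A v} → A x ∈ Submodule.span K {v, A v} := by
    intro x hx
    obtain ⟨a, b, rfl⟩ := mem_span_two.1 hx
    rw [map_add, map_smul, map_smul]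
    exact add_mem (Submodule.smul_mem _ _ (right_mem_two v (A v))) (Submodule.smul_mem _ _ (hcub v hv))
  have hquot : ∀ u : V, u ∉ Submodule.span K {v, A v} → ∀ c : K, A u - c • u ∉ Submodule.span K {v, A v} := by
    intro u hu c hmem
    have hu0 : u ≠ 0 := fun h => hu (h ▸ zero_mem _)
    obtain ⟨b', a', hab⟩ := mem_span_two.1 (hcub u hu0)
    let y := A u - (a' - c) • u
    have hy : A y - c • y = (b' + c * (a' - c)) • u := by
      simp only [y, map_sub, map_smul, ← hab]
      module
    have hyP : A y - c • y ∈ Submodule.span K {v, A v} := by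
      have h1 := hP _ hmem
      have h2 := Submodule.smul_mem (Submodule.span K {v, A v}) (a' - c) hmem
      have h3 := sub_mem h1 h2
      convert h3 using 1
      simp only [y, map_sub, map_smul]
      module
    have hz : b' + c * (a' - c) = 0 := by
      by_contra hne
      rw [hy, Submodule.smul_mem_iff _ hne] at hyP
      exact hu hyP
    rw [hz, zero_smul, sub_eq_zero] at hy
    by_cases hy0 : y = 0
    · exact heig u hu0 (Submodule.mem_span_singleton.2 ⟨a' - c, (sub_eq_zero.1 hy0).symm⟩)
    · exact heig y hy0 (Submodule.mem_span_singleton.2 ⟨c, hy.symm⟩)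
  obtain ⟨e, he, he1, he2⟩ := exists_det_one_map hd hV (linearIndependent_two hv' hw'v) (linearIndependent_two hv hAv)
  have hs : e.symm v = v' := by rw [← he1, e.symm_apply_apply]
  have hs2 : e.symm (A v) = w' := by rw [← he2, e.symm_apply_apply]
  have hu : e (B v') ∉ Submodule.span K {v, A v} := by
    intro hmem
    obtain ⟨a, b, hab⟩ := mem_span_two.1 hmem
    refine hBw (mem_span_two.2 ⟨a, b, e.injective ?_⟩)
    rw [map_add, map_smul, map_smul, he1, he2, hab]
  by_cases hgood : e (B (e.symm (A v))) - A (e (B (e.symm v))) ∈ Submodule.span K {v, A v}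
  · rw [hs, hs2] at hgood
    let W := Submodule.span K {v, A v} ⊔ K ∙ e (B v')
    have hz : e (B w') ∉ W := by
      intro hmem
      obtain ⟨p, hp, q, hq, hpq⟩ := Submodule.mem_sup.1 hmem
      obtain ⟨c, rfl⟩ := Submodule.mem_span_singleton.1 hq
      rw [← hpq] at hgood
      apply hquot _ hu c
      have := neg_mem (sub_mem hgood hp)
      convert this using 1
      module
    obtain ⟨φ, hφz, hφ0⟩ := exists_dual_one hz
    have hφv : φ v = 0 := hφ0 v (Submodule.mem_sup_left (left_mem_two v (A v)))
    have hφA : φ (A v) = 0 := hφ0 (A v) (Submodule.mem_sup_left (right_mem_two v (A v)))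
    have hφu : φ (e (B v')) = 0 := hφ0 _ (Submodule.mem_sup_right (Submodule.mem_span_singleton_self _))
    let e' := e.trans (LinearEquiv.transvection hφu)
    have he' : LinearMap.det (e' : V →ₗ[K] V) = 1 := by
      show LinearMap.det ((e.trans (LinearEquiv.transvection hφu)) : V →ₗ[K] V) = 1
      rw [LinearEquiv.coe_trans, LinearMap.det_comp, ← LinearEquiv.coe_det,
        LinearEquiv.transvection.det_eq_one, Units.val_one, he, one_mul]
    refine exists_two_traces A B v e' he' ?_
    have h1 : e'.symm v = v' := by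
      rw [LinearEquiv.symm_apply_eq]
      show v = LinearEquiv.transvection hφu (e v')
      rw [he1, LinearEquiv.transvection.apply, hφv, zero_smul, add_zero]
    have h2 : e'.symm (A v) = w' := by
      rw [LinearEquiv.symm_apply_eq]
      show A v = LinearEquiv.transvection hφu (e w')
      rw [he2, LinearEquiv.transvection.apply, hφA, zero_smul, add_zero]
    rw [h1, h2]
    show LinearEquiv.transvection hφu (e (B w')) - A (LinearEquiv.transvection hφu (e (B v'))) ∉ _
    rw [LinearEquiv.transvection.apply, LinearEquiv.transvection.apply, hφz, hφu, one_smul, zero_smul, add_zero]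
    intro hmem
    apply hu
    have := sub_mem hmem hgood
    convert this using 1
    abel
  · exact exists_two_traces A B v e he hgood

end Lin

theorem toLin'_not_scalar {F : Type*} [Field F] {d : ℕ} {M : Matrix.SpecialLinearGroup (Fin d) F}
    (h : M ∉ Subgroup.center (Matrix.SpecialLinearGroup (Fin d) F)) (c : F) :
    Matrix.toLin' (M : Matrix (Fin d) (Fin d) F) ≠ c • 1 := by
  intro hc
  apply h
  have hM : (M : Matrix (Fin d) (Fin d) F) = Matrix.scalar (Fin d) c := by
    apply Matrix.toLin'.injective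
    rw [hc, Matrix.scalar_apply, ← Matrix.smul_one_eq_diagonal, map_smul, Matrix.toLin'_one]
    rfl
  refine Matrix.SpecialLinearGroup.mem_center_iff.2 ⟨c, ?_, hM.symm⟩
  have := M.det_coe
  rwa [hM, Matrix.scalar_apply, Matrix.det_diagonal, Finset.prod_const, Finset.card_univ] at this

/-- Let F be a finite field and d ≥ 3, and let a, b be non-identity elements of PSL_d(F). Then the product of the conjugacy classes of a and b is not a single conjugacy class: there are conjugates a′ of a and b′ of b such that a′b′ is not conjugate to ab. -/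
theorem result {F : Type*} [Field F] [Fintype F] (d : ℕ) (hd : 3 ≤ d)
    (a b : Matrix.ProjectiveSpecialLinearGroup (Fin d) F) (ha : a ≠ 1) (hb : b ≠ 1) :
    ∃ g h : Matrix.ProjectiveSpecialLinearGroup (Fin d) F, ¬ IsConj (a * b) (g * a * g⁻¹ * (h * b * h⁻¹)) := by
  by_contra hcon
  push Not at hcon
  obtain ⟨A, rfl⟩ := QuotientGroup.mk'_surjective _ a
  obtain ⟨B, rfl⟩ := QuotientGroup.mk'_surjective _ b
  have hA : A ∉ Subgroup.center (Matrix.SpecialLinearGroup (Fin d) F) :=
    fun h => ha ((QuotientGroup.eq_one_iff A).2 h)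
  have hB : B ∉ Subgroup.center (Matrix.SpecialLinearGroup (Fin d) F) :=
    fun h => hb ((QuotientGroup.eq_one_iff B).2 h)
  let TA : Module.End F (Fin d → F) := Matrix.toLin' (A : Matrix (Fin d) (Fin d) F)
  let TB : Module.End F (Fin d → F) := Matrix.toLin' (B : Matrix (Fin d) (Fin d) F)
  obtain ⟨f₁, f₂, hd₁, hd₂, h₁, h₂⟩ := exists_conj_traces hd (Module.finrank_fin_fun F) TA TB
    (toLin'_not_scalar hA) (toLin'_not_scalar hB)
  have key : ∀ f : (Fin d → F) ≃ₗ[F] (Fin d → F), LinearMap.det (f : (Fin d → F) →ₗ[F] (Fin d → F)) = 1 →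
      ∃ r : F, r ≠ 0 ∧ LinearMap.trace F (Fin d → F) (TA * f.conj TB) =
        r * ((A * B : Matrix.SpecialLinearGroup (Fin d) F) : Matrix (Fin d) (Fin d) F).trace := by
    intro f hf
    let M : Matrix.SpecialLinearGroup (Fin d) F :=
      ⟨LinearMap.toMatrix' (f : (Fin d → F) →ₗ[F] (Fin d → F)), by rw [LinearMap.det_toMatrix', hf]⟩
    obtain ⟨x, hx⟩ := isConj_iff.1 (hcon 1 (QuotientGroup.mk' _ M))
    obtain ⟨X, rfl⟩ := QuotientGroup.mk'_surjective _ x
    rw [one_mul, inv_one, mul_one, ← map_inv, ← map_inv, ← map_mul, ← map_mul, ← map_mul, ← map_mul, ← map_mul,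
      ← map_mul] at hx
    obtain ⟨r, hr, hrM⟩ := Matrix.SpecialLinearGroup.mem_center_iff.1 (QuotientGroup.eq.1 hx)
    refine ⟨r, fun h0 => ?_, ?_⟩
    · rw [h0, zero_pow (by rw [Fintype.card_fin]; omega)] at hr; exact zero_ne_one hr
    have hconj : Matrix.toLin' ((M * B * M⁻¹ : Matrix.SpecialLinearGroup (Fin d) F) : Matrix (Fin d) (Fin d) F) =
        f.conj TB := by
      have e1 : (M * B * M⁻¹) * M = M * B := inv_mul_cancel_right _ _
      generalize M * B * M⁻¹ = Y at e1 ⊢
      have e2 := congrArg (fun Y : Matrix.SpecialLinearGroup (Fin d) F => Matrix.toLin' (Y : Matrix (Fin d) (Fin d) F)) e1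
      simp only [Matrix.SpecialLinearGroup.coe_mul, Matrix.toLin'_mul] at e2
      rw [show Matrix.toLin' (M : Matrix (Fin d) (Fin d) F) = (f : (Fin d → F) →ₗ[F] (Fin d → F)) from
        Matrix.toLin'_toMatrix' _] at e2
      refine LinearMap.ext fun v => ?_
      have e4 := LinearMap.congr_fun e2 (f.symm v)
      simp only [LinearMap.comp_apply, LinearEquiv.coe_coe, LinearEquiv.apply_symm_apply] at e4
      exact e4
    have hY : A * (M * B * M⁻¹) = X * (A * B) * X⁻¹ * ((X * (A * B) * X⁻¹)⁻¹ * (A * (M * B * M⁻¹))) := by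
      group
    rw [← hconj]
    show LinearMap.trace F (Fin d → F) (Matrix.toLin' _ ∘ₗ Matrix.toLin' _) = _
    rw [← Matrix.toLin'_mul, Matrix.trace_toLin'_eq, ← Matrix.SpecialLinearGroup.coe_mul, hY,
      Matrix.SpecialLinearGroup.coe_mul, ← hrM, Matrix.scalar_apply, ← Matrix.smul_one_eq_diagonal,
      Matrix.mul_smul, mul_one, Matrix.trace_smul, smul_eq_mul]
    congr 1
    rw [Matrix.SpecialLinearGroup.coe_mul, Matrix.trace_mul_comm, ← Matrix.SpecialLinearGroup.coe_mul,
      inv_mul_cancel_left]
  obtain ⟨r₁, hr₁, e₁⟩ := key f₁ hd₁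
  obtain ⟨r₂, hr₂, e₂⟩ := key f₂ hd₂
  rw [h₁] at e₁
  rcases mul_eq_zero.1 e₁.symm with h | h
  · exact hr₁ h
  · exact h₂ (by rw [e₂, h, mul_zero])

end Cfsg.Agent.S2272
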