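import Cfsg.Statements.S2276
import Cfsg.Agent.AltPair.Main

set_option autoImplicit false
open Cfsg

namespace Cfsg.Agent.S2276

/-- Let n ≥ 5, p ≥ 3 a prime, and u, w non-identity elements of p-power order in the alternating group A_n. Then there is g ∈ A_n such that u·(g w g⁻¹) does not have p-power order and ⟨u, g w g⁻¹⟩ is not solvable. -/
theorem result (n : ℕ) (hn : 5 ≤ n) (p : ℕ) (hp : p.Prime) (hp3 : 3 ≤ p) (u w : alternatingGroup (Fin n)) (hu : u ≠ 1) (hw : w ≠ 1)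
    (hu' : ∃ k : ℕ, orderOf u = p ^ k) (hw' : ∃ k : ℕ, orderOf w = p ^ k) :
    ∃ g : alternatingGroup (Fin n), (¬ ∃ k : ℕ, orderOf (u * (g * w * g⁻¹)) = p ^ k) ∧
      ¬ Group.IsSolvable ↥(Subgroup.closure ({u, g * w * g⁻¹} : Set (alternatingGroup (Fin n)))) := by
  haveI := Fact.mk hp
  obtain ⟨k, hk⟩ := hu'
  obtain ⟨l, hl⟩ := hw'
  have hpow : ∀ (v : alternatingGroup (Fin n)) (k : ℕ), orderOf v = p ^ k →
      (v : Equiv.Perm (Fin n)) ^ p ^ k = 1 := fun v k h => by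
    rw [← Subgroup.coe_pow, ← h, pow_orderOf_eq_one, Subgroup.coe_one]
  obtain ⟨σ, hσ, hbad⟩ := CfsgLib.AltPair.goal (p := p) (by omega) (by simpa using hn)
    (u := (u : Equiv.Perm (Fin n))) (w := (w : Equiv.Perm (Fin n)))
    (fun h => hu (Subtype.ext h)) (fun h => hw (Subtype.ext h)) (hpow u k hk) (hpow w l hl)
  let g : alternatingGroup (Fin n) := ⟨σ⁻¹, Equiv.Perm.mem_alternatingGroup.2 (by rw [Equiv.Perm.sign_inv, hσ])⟩
  have hb : CfsgLib.AltPair.Bad p u (g * w * g⁻¹) := by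
    refine CfsgLib.AltPair.bad_map (alternatingGroup (Fin n)).subtype ?_
    simpa [g] using hbad
  refine ⟨g, fun ⟨m, hm⟩ => hb.1 ⟨m, ?_⟩, hb.2⟩
  rw [← hm, pow_orderOf_eq_one]

end Cfsg.Agent.S2276
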