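import Cfsg.Statements.S2277
import Cfsg.Agent.Coprime.Sylow
import Cfsg.Agent.Solvable.PGroupRank

set_option autoImplicit false
set_option linter.style.haveILetI false
open Cfsg

namespace Cfsg.Agent.S2277

open Subgroup
open scoped Pointwise
open scoped commutatorElement

universe u

section Irreducible

variable {V : Type u} [CommGroup V] {p : ℕ}

private def fixv (a : MulAut V) : Subgroup V :=
  a.toMonoidHom.eqLocus (MonoidHom.id V)

private theorem mem_fixv {a : MulAut V} {v : V} : v ∈ fixv a ↔ a v = v := Iff.rfl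

private def nm (p : ℕ) (a : MulAut V) (v : V) : V := ∏ k ∈ Finset.range p, (a ^ k) v

private theorem pow_apply_of_fixed {a : MulAut V} {v : V} (h : a v = v) (k : ℕ) : (a ^ k) v = v := by
  induction k with
  | zero => rfl
  | succ k ih => rw [pow_succ, MulAut.mul_apply, h, ih]

private theorem nm_mem_fixv {a : MulAut V} (ha : a ^ p = 1) (v : V) : nm p a v ∈ fixv a := by
  rw [mem_fixv, nm, map_prod]
  have h1 := Finset.prod_range_succ' (fun k => (a ^ k) v) p
  have h2 := Finset.prod_range_succ (fun k => (a ^ k) v) p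
  rw [h2, ha, pow_zero] at h1
  refine (Finset.prod_congr rfl fun k _ => ?_).trans (mul_right_cancel h1).symm
  rw [pow_succ', MulAut.mul_apply]

variable [hp : Fact p.Prime]

/-- The norms over the lines through two commuting elements of order `p` multiply to `p`. -/
private theorem prod_nm {e z : MulAut V} (hez : Commute e z) (hz : z ^ p = 1) (hz1 : z ≠ 1)
    (hzc : ∀ k, z ^ k ≠ 1 → fixv (z ^ k) = ⊥) (v : V) :
    ∏ i ∈ Finset.range p, nm p (e * z ^ i) v = v ^ p := by
  simp only [nm]
  rw [Finset.prod_comm, ← Nat.sub_add_cancel hp.out.pos, Finset.prod_range_succ']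
  have h0 : ∏ i ∈ Finset.range (p - 1 + 1), ((e * z ^ i) ^ 0) v = v ^ (p - 1 + 1) := by
    simp [Finset.prod_const]
  rw [h0]
  refine mul_eq_right.2 (Finset.prod_eq_one fun k hk => ?_)
  rw [Finset.mem_range] at hk
  rw [Nat.sub_add_cancel hp.out.pos]
  have hzk : z ^ (k + 1) ≠ 1 := fun h => by
    have := orderOf_dvd_of_pow_eq_one h
    rw [orderOf_eq_prime hz hz1] at this
    have := Nat.le_of_dvd (by omega) this
    omega
  have hone : nm p (z ^ (k + 1)) v = 1 := by
    rw [← mem_bot, ← hzc _ hzk]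
    exact nm_mem_fixv (by rw [← pow_mul, mul_comm, pow_mul, hz, one_pow]) v
  rw [← map_one (e ^ (k + 1) : MulAut V), ← hone, nm, map_prod]
  refine Finset.prod_congr rfl fun i _ => ?_
  rw [(hez.pow_right i).mul_pow, ← pow_mul, mul_comm i, pow_mul, MulAut.mul_apply]

variable [Finite V]

private theorem pow_eq_one (hcop : (Nat.card V).Coprime p) {v : V} (h : v ^ p = 1) : v = 1 := by
  have h1 := Nat.dvd_gcd (orderOf_dvd_natCard v) (orderOf_dvd_of_pow_eq_one h)
  rw [hcop] at h1
  exact orderOf_eq_one_iff.1 (Nat.eq_one_of_dvd_one h1)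

/-- A moving element has small fixed points. -/
private theorem card_fixv_pow_le (hcop : (Nat.card V).Coprime p) {c e z : MulAut V}
    (hz : z ^ p = 1) (hz1 : z ≠ 1) (he : e ^ p = 1) (hez : Commute e z) (hcz : Commute c z)
    (hce : c * e * c⁻¹ = e * z) (hzc : ∀ k, z ^ k ≠ 1 → fixv (z ^ k) = ⊥) :
    Nat.card (fixv c) ^ p ≤ Nat.card V := by
  classical
  have hconj : ∀ i : ℕ, c ^ i * e = e * z ^ i * c ^ i := by
    intro i
    induction i with
    | zero => simp
    | succ i ih =>
      calc c ^ (i + 1) * e = c * (c ^ i * e) := by rw [pow_succ', mul_assoc]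
        _ = (c * e * c⁻¹) * (c * z ^ i * c ^ i) := by rw [ih]; group
        _ = e * z * (z ^ i * c * c ^ i) := by rw [hce, (hcz.pow_right i).eq]
        _ = e * z ^ (i + 1) * c ^ (i + 1) := by
          rw [pow_succ' z, pow_succ' c]; simp only [mul_assoc]
  have hconjk : ∀ i k : ℕ, c ^ i * e ^ k = (e * z ^ i) ^ k * c ^ i := by
    intro i k
    induction k with
    | zero => simp
    | succ k ih => rw [pow_succ, ← mul_assoc, ih, mul_assoc, hconj, ← mul_assoc, ← pow_succ]
  have hfix : ∀ (i : ℕ) (w : V), e w = w → (e * z ^ i) ((c ^ i) w) = (c ^ i) w := by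
    intro i w hw
    rw [← MulAut.mul_apply, ← hconj, MulAut.mul_apply, hw]
  let f : fixv c →* fixv e :=
    { toFun := fun v => ⟨nm p e v, nm_mem_fixv he _⟩
      map_one' := Subtype.ext (show nm p e (1 : V) = 1 from Finset.prod_eq_one fun k _ => map_one _)
      map_mul' := fun v w => Subtype.ext (by
        show nm p e ((v : V) * w) = nm p e v * nm p e w
        simp [nm, Finset.prod_mul_distrib]) }
  have hf : Function.Injective f := by
    refine (injective_iff_map_eq_one f).2 fun v hv => Subtype.ext (pow_eq_one hcop ?_)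
    rw [← prod_nm hez hz hz1 hzc (v : V)]
    refine Finset.prod_eq_one fun i _ => ?_
    have hcv : ∀ j : ℕ, (c ^ j) (v : V) = v := pow_apply_of_fixed v.2
    have h1 : nm p (e * z ^ i) (v : V) = (c ^ i) (nm p e v) := by
      rw [nm, nm, map_prod]
      refine Finset.prod_congr rfl fun k _ => ?_
      rw [← MulAut.mul_apply, hconjk, MulAut.mul_apply, hcv]
    rw [h1, show nm p e (v : V) = 1 from congrArg Subtype.val hv, map_one]
  let Φ : (Fin p → fixv e) →* V :=
    { toFun := fun w => ∏ i : Fin p, (c ^ (i : ℕ)) (w i : V)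
      map_one' := Finset.prod_eq_one fun i _ => map_one _
      map_mul' := fun w w' => by simp [Finset.prod_mul_distrib] }
  have hΦ : Function.Injective Φ := by
    refine (injective_iff_map_eq_one Φ).2 fun w hw => funext fun j => Subtype.ext ?_
    have hN : ∀ x y : V, nm p (e * z ^ (j : ℕ)) (x * y) =
        nm p (e * z ^ (j : ℕ)) x * nm p (e * z ^ (j : ℕ)) y := fun x y => by
      simp [nm, Finset.prod_mul_distrib]
    let N : V →* V := MonoidHom.mk' (nm p (e * z ^ (j : ℕ))) hN
    have h1 := congrArg N hw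
    rw [map_one] at h1
    change N (∏ i : Fin p, (c ^ (i : ℕ)) (w i : V)) = 1 at h1
    rw [map_prod, Finset.prod_eq_single j] at h1
    · have h2 : N ((c ^ (j : ℕ)) (w j : V)) = ((c ^ (j : ℕ)) (w j : V)) ^ p := by
        show nm p _ _ = _
        rw [nm, Finset.prod_congr rfl fun k _ => pow_apply_of_fixed (hfix j _ (w j).2) k,
          Finset.prod_const, Finset.card_range]
      rw [h2] at h1
      have h3 := pow_eq_one hcop h1
      exact (map_eq_one_iff _ (c ^ (j : ℕ)).injective).1 h3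
    · intro i _ hij
      set m := z ^ (p - (i : ℕ) + j) with hm
      have hm1 : m ≠ 1 := fun h => by
        have := orderOf_dvd_of_pow_eq_one h
        rw [orderOf_eq_prime hz hz1] at this
        obtain ⟨t, ht⟩ := this
        have := i.2; have := j.2
        rcases t with _ | _ | t
        · omega
        · exact hij (Fin.ext (by omega))
        · have : p * (t + 1 + 1) ≥ p * 2 := Nat.mul_le_mul_left p (by omega)
          omega
      have hsplit : e * z ^ (j : ℕ) = m * (e * z ^ (i : ℕ)) := by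
        rw [hm, ← mul_assoc, ((hez.pow_right _).symm).eq, mul_assoc, ← pow_add,
          show p - (i : ℕ) + j + i = p + j by have := i.2; omega, pow_add, hz, one_mul]
      have hcm : Commute m (e * z ^ (i : ℕ)) :=
        (hez.pow_right _).symm.mul_right (Commute.pow_pow_self z _ _)
      show nm p _ _ = 1
      have h4 : nm p m ((c ^ (i : ℕ)) (w i : V)) = 1 := by
        rw [← mem_bot, ← hzc (p - (i : ℕ) + j) hm1]
        exact nm_mem_fixv (by rw [← pow_mul, mul_comm, pow_mul, hz, one_pow]) _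
      rw [← h4, nm, nm, hsplit]
      refine Finset.prod_congr rfl fun k _ => ?_
      rw [hcm.mul_pow, MulAut.mul_apply, pow_apply_of_fixed (hfix i _ (w i).2)]
    · exact fun h => absurd (Finset.mem_univ j) h
  calc Nat.card (fixv c) ^ p ≤ Nat.card (fixv e) ^ p :=
        Nat.pow_le_pow_left (Nat.card_le_card_of_injective f hf) p
    _ = Nat.card (Fin p → fixv e) := by
      rw [Nat.card_fun, Nat.card_eq_fintype_card (α := Fin p), Fintype.card_fin]
    _ ≤ Nat.card V := Nat.card_le_card_of_injective Φ hΦ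

/-- The irreducible case. -/
private theorem irred (hp3 : 3 ≤ p) (X : Subgroup (MulAut V)) (hX : IsPGroup p X)
    (hcop : (Nat.card V).Coprime p)
    (hirr : ∀ M : Subgroup V, (∀ a ∈ X, ∀ n ∈ M, a n ∈ M) → M = ⊥ ∨ M = ⊤)
    (C D : Set (MulAut V)) (hC : Subgroup.closure C = X) (hD : Subgroup.closure D = X)
    (hsplit : ∀ c ∈ C, ∀ d ∈ D, ∀ x : V, ∃ y z : V, d y = y ∧ c z = z ∧ y * z = x) :
    X = ⊥ := by
  classical
  by_contra hne
  haveI : Finite (MulAut V) := Finite.of_injective (fun e : MulAut V => (⇑e : V → V))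
    DFunLike.coe_injective
  have hfpf : ∀ a : MulAut V, (∀ g ∈ X, Commute g a) → a ≠ 1 → fixv a = ⊥ := by
    intro a hc ha
    refine (hirr (fixv a) fun g hg v hv => ?_).resolve_right fun h => ha (MulEquiv.ext fun v => ?_)
    · show a (g v) = g v
      rw [← MulAut.mul_apply, ← (hc g hg).eq, MulAut.mul_apply, mem_fixv.1 hv]
    · exact mem_fixv.1 (h ▸ mem_top v : v ∈ fixv a)
  have hV : ∃ v : V, v ≠ 1 := by
    by_contra! h
    exact hne ((eq_bot_iff_forall X).2 fun a _ => MulEquiv.ext fun v => by simp [h v])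
  have hmove : ∀ S : Set (MulAut V), Subgroup.closure S = X → ∀ e : MulAut V,
      (∃ g ∈ X, ¬ Commute g e) → ∃ c ∈ S, ¬ Commute c e := by
    rintro S hS e ⟨g, hg, hge⟩
    by_contra! h
    have : X ≤ centralizer {e} := by
      rw [← hS, Subgroup.closure_le]
      intro c hc
      exact mem_centralizer_singleton_iff.2 (h c hc).eq
    exact hge (mem_centralizer_singleton_iff.1 (this hg))
  have hnc : ¬ IsCyclic X := by
    intro hcyc
    letI := hcyc.commGroup
    have hfix : ∀ a ∈ X, a ≠ 1 → fixv a = ⊥ := fun a ha => hfpf a fun g hg =>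
      congrArg Subtype.val (mul_comm (⟨g, hg⟩ : X) ⟨a, ha⟩)
    have hex : ∀ S : Set (MulAut V), Subgroup.closure S = X → ∃ c ∈ S, c ≠ 1 := fun S hS => by
      by_contra! h
      exact hne (hS ▸ (closure_eq_bot_iff).2 fun c hc => h c hc)
    obtain ⟨c, hc, hc1⟩ := hex C hC
    obtain ⟨d, hd, hd1⟩ := hex D hD
    obtain ⟨v, hv⟩ := hV
    obtain ⟨y, z, hy, hz, hyz⟩ := hsplit c hc d hd v
    have hy1 : y = 1 := by
      rw [← mem_bot, ← hfix d (hD ▸ subset_closure hd) hd1]; exact hy
    have hz1 : z = 1 := by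
      rw [← mem_bot, ← hfix c (hC ▸ subset_closure hc) hc1]; exact hz
    exact hv (by rw [← hyz, hy1, hz1, one_mul])
  obtain ⟨E, hEn, ⟨hEc, hEe⟩, hEcard⟩ :=
    CfsgLib.PGroupRank.exists_normal_sq (by omega : p ≠ 2) hX hnc
  haveI := hX.isNilpotent
  haveI := hEn
  have hEbot : E ≠ ⊥ := fun h => by
    rw [h, card_bot] at hEcard
    exact absurd hEcard (Nat.one_lt_pow two_ne_zero hp.out.one_lt).ne
  obtain ⟨z0, hz0, hz01⟩ := (bot_or_exists_ne_one (E ⊓ center X)).resolve_left
    (CfsgLib.PGroupBasic.inf_center_ne_bot E hEbot)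
  haveI hZn : (zpowers z0).Normal := ⟨fun y hy g => by
    have : zpowers z0 ≤ center X := zpowers_le.2 hz0.2
    rw [mem_center_iff.1 (this hy) g, mul_inv_cancel_right]
    exact hy⟩
  have hz0p : z0 ^ p = 1 := hEe z0 hz0.1
  have hlt : zpowers z0 < E := lt_of_le_of_ne (zpowers_le.2 hz0.1) fun h => by
    rw [← h, Nat.card_zpowers, orderOf_eq_prime hz0p hz01] at hEcard
    exact absurd hEcard (by have := hp.out.one_lt; nlinarith)
  obtain ⟨e0, he0, he0z, hec⟩ := CfsgLib.PGroupBasic.exists_central_mod (zpowers z0) E hlt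
  set e : MulAut V := (e0 : MulAut V) with he_def
  have hep : e ^ p = 1 := by rw [he_def, ← coe_pow, hEe e0 he0, coe_one]
  have hcomE : ∀ a ∈ E, ∀ b ∈ E, Commute (a : MulAut V) b := fun a ha b hb =>
    congrArg Subtype.val (congrArg Subtype.val (hEc.is_comm.comm ⟨a, ha⟩ ⟨b, hb⟩) :
      a * b = b * a)
  have hzpow : ∀ w ∈ zpowers z0, ∀ k : ℕ, (w : MulAut V) ^ k ≠ 1 → fixv ((w : MulAut V) ^ k) = ⊥ :=
    fun w hw k hk => hfpf _ (fun g hg => by
      have : zpowers z0 ≤ center X := zpowers_le.2 hz0.2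
      have h1 := mem_center_iff.1 (this (pow_mem hw k)) ⟨g, hg⟩
      have h2 := congrArg Subtype.val h1
      show g * _ = _ * g
      simpa using h2) hk
  by_cases hcen : ∀ g ∈ X, Commute g e
  · -- a central subgroup of rank two
    obtain ⟨v, hv⟩ := hV
    refine hv (pow_eq_one hcop ?_)
    rw [← prod_nm (e := e) (z := (z0 : MulAut V)) (hcomE _ he0 _ hz0.1)
      (by rw [← coe_pow, hz0p, coe_one]) (fun h => hz01 (Subtype.ext h))
      (hzpow z0 (mem_zpowers z0)) v]
    refine Finset.prod_eq_one fun i _ => ?_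
    have hne1 : e * (z0 : MulAut V) ^ i ≠ 1 := fun h => he0z (by
      have : e0 = (z0 ^ i)⁻¹ := eq_inv_of_mul_eq_one_left (Subtype.ext (by simpa using h))
      rw [this]; exact inv_mem (pow_mem (mem_zpowers z0) i))
    rw [← mem_bot, ← hfpf _ (fun g hg => (hcen g hg).mul_right (by
      have h1 := congrArg Subtype.val (mem_center_iff.1 (pow_mem hz0.2 i) ⟨g, hg⟩)
      show g * _ = _ * g
      simpa using h1)) hne1]
    refine nm_mem_fixv ?_ v
    rw [((hcomE _ he0 _ hz0.1).pow_right i).mul_pow, hep, ← pow_mul, mul_comm, pow_mul,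
      ← coe_pow, hz0p, coe_one, one_pow, one_mul]
  push Not at hcen
  have hbound : ∀ c ∈ X, ¬ Commute c e → Nat.card (fixv c) ^ p ≤ Nat.card V := by
    intro c hc hce
    set w : X := (e0 * ⟨c, hc⟩ * e0⁻¹ * (⟨c, hc⟩ : X)⁻¹)⁻¹ with hw
    have hwz : w ∈ zpowers z0 := inv_mem (hec ⟨c, hc⟩)
    have hwp : w ^ p = 1 := by
      obtain ⟨i, hi⟩ := mem_zpowers_iff.1 hwz
      rw [← hi, ← zpow_natCast, ← zpow_mul, mul_comm, zpow_mul, zpow_natCast, hz0p, one_zpow]
    have hwc : ∀ g : X, Commute g w := fun g =>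
      mem_center_iff.1 ((zpowers_le.2 hz0.2 : zpowers z0 ≤ center X) hwz) g
    have hrel : (⟨c, hc⟩ : X) * e0 * (⟨c, hc⟩ : X)⁻¹ = e0 * w := by
      rw [(hwc e0).eq, hw]; group
    refine card_fixv_pow_le hcop (e := e) (z := (w : MulAut V)) ?_ ?_ hep ?_ ?_ ?_ (hzpow w hwz)
    · rw [← coe_pow, hwp, coe_one]
    · intro h
      have hw1 : w = 1 := Subtype.ext h
      rw [hw1, mul_one, mul_inv_eq_iff_eq_mul] at hrel
      exact hce (congrArg Subtype.val hrel)
    · exact congrArg Subtype.val (hwc e0).eq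
    · exact congrArg Subtype.val (hwc ⟨c, hc⟩).eq
    · exact congrArg Subtype.val hrel
  obtain ⟨c, hc, hce⟩ := hmove C hC e hcen
  obtain ⟨d, hd, hde⟩ := hmove D hD e hcen
  have h1 := hbound c (hC ▸ subset_closure hc) hce
  have h2 := hbound d (hD ▸ subset_closure hd) hde
  have h3 : Nat.card V ≤ Nat.card (fixv d) * Nat.card (fixv c) := by
    rw [← Nat.card_prod]
    refine Nat.card_le_card_of_surjective
      (fun yz : fixv d × fixv c => (yz.1 : V) * yz.2) fun x => ?_
    obtain ⟨y, z, hy, hz, hyz⟩ := hsplit c hc d hd x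
    exact ⟨(⟨y, hy⟩, ⟨z, hz⟩), hyz⟩
  have h4 : Nat.card V ^ p ≤ Nat.card V ^ 2 :=
    calc Nat.card V ^ p ≤ (Nat.card (fixv d) * Nat.card (fixv c)) ^ p := Nat.pow_le_pow_left h3 p
      _ = Nat.card (fixv d) ^ p * Nat.card (fixv c) ^ p := mul_pow _ _ _
      _ ≤ Nat.card V * Nat.card V := Nat.mul_le_mul h2 h1
      _ = Nat.card V ^ 2 := (sq _).symm
  obtain ⟨v, hv⟩ := hV
  have hV1 : 1 < Nat.card V := by
    have : Nontrivial V := ⟨⟨v, 1, hv⟩⟩
    exact Finite.one_lt_card
  have := (Nat.pow_le_pow_iff_right hV1).1 h4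
  omega

end Irreducible

section Reduction

variable {P : Type u} [Group P]

/-- The splitting condition. -/
private def Splits {V : Type u} [Group V] (φ : P →* MulAut V) (C D : Set P) : Prop :=
  ∀ c ∈ C, ∀ d ∈ D, ∀ x : V, ∃ y z : V, φ d y = y ∧ φ c z = z ∧ y * z = x

private def quotAct {V : Type u} [Group V] (φ : P →* MulAut V) (N : Subgroup V) [N.Normal]
    (h : ∀ a, N.map (φ a).toMonoidHom = N) : P →* MulAut (V ⧸ N) :=
  MonoidHom.mk' (fun a => QuotientGroup.congr N N (φ a) (h a)) fun a b => by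
    refine MulEquiv.ext fun q => ?_
    obtain ⟨x, rfl⟩ := QuotientGroup.mk_surjective q
    show ((φ (a * b) x : V) : V ⧸ N) = ((φ a (φ b x) : V) : V ⧸ N)
    rw [map_mul]; rfl

private theorem map_eq_of_le {V : Type u} [Group V] [Finite V] (φ : P →* MulAut V)
    (N : Subgroup V) (h : ∀ a, ∀ n ∈ N, φ a n ∈ N) (a : P) : N.map (φ a).toMonoidHom = N := by
  refine CfsgLib.Solvable.eq_of_le_of_card_le ?_ ?_
  · rintro _ ⟨n, hn, rfl⟩
    exact h a n hn
  · rw [Nat.card_congr (N.equivMapOfInjective (φ a).toMonoidHom (φ a).injective).toEquiv]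

private theorem splits_quot {V : Type u} [Group V] (φ : P →* MulAut V) (N : Subgroup V) [N.Normal]
    (h : ∀ a, N.map (φ a).toMonoidHom = N) {C D : Set P} (hs : Splits φ C D) :
    Splits (quotAct φ N h) C D := by
  intro c hc d hd q
  obtain ⟨x, rfl⟩ := QuotientGroup.mk_surjective q
  obtain ⟨y, z, hy, hz, rfl⟩ := hs c hc d hd x
  refine ⟨y, z, ?_, ?_, rfl⟩
  · show ((φ d y : V) : V ⧸ N) = y
    rw [hy]
  · show ((φ c z : V) : V ⧸ N) = z
    rw [hz]

variable [Finite P] {p : ℕ} [hp : Fact p.Prime]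

private theorem abelian_case (hp3 : 3 ≤ p) (hP : IsPGroup p P) (C D : Set P)
    (hC : Subgroup.closure C = ⊤) (hD : Subgroup.closure D = ⊤) :
    ∀ (n : ℕ) (V : Type u) [CommGroup V] [Finite V], Nat.card V ≤ n → (Nat.card V).Coprime p →
      ∀ φ : P →* MulAut V, Splits φ C D → φ = 1 := by
  intro n
  induction n with
  | zero => intro V _ _ h _ _ _; exact absurd h (Nat.pos_iff_ne_zero.1 Nat.card_pos ∘ Nat.le_zero.1)
  | succ n ih =>
    intro V _ _ hn hcop φ hs
    by_cases hirr : ∀ M : Subgroup V, (∀ a, ∀ v ∈ M, φ a v ∈ M) → M = ⊥ ∨ M = ⊤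
    · rw [← MonoidHom.range_eq_bot_iff]
      refine irred hp3 φ.range ?_ hcop (fun M hM => hirr M fun a => hM _ ⟨a, rfl⟩)
        (φ '' C) (φ '' D) ?_ ?_ ?_
      · exact hP.of_surjective φ.rangeRestrict φ.rangeRestrict_surjective
      · rw [← MonoidHom.map_closure, hC, ← MonoidHom.range_eq_map]
      · rw [← MonoidHom.map_closure, hD, ← MonoidHom.range_eq_map]
      · rintro _ ⟨c, hc, rfl⟩ _ ⟨d, hd, rfl⟩ x
        exact hs c hc d hd x
    push Not at hirr
    obtain ⟨M, hM, hM1, hM2⟩ := hirr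
    have hmap := map_eq_of_le φ M hM
    have hMlt : Nat.card M < Nat.card V := by
      rw [← card_top (G := V)]
      exact lt_of_not_ge fun hle => hM2 (CfsgLib.Solvable.eq_of_le_of_card_le le_top hle)
    have hMgt : 1 < Nat.card M := (one_lt_card_iff_ne_bot M).2 hM1
    have hq : quotAct φ M hmap = 1 := by
      refine ih (V ⧸ M) ?_ ?_ _ (splits_quot φ M hmap hs)
      · have h1 := M.card_eq_card_quotient_mul_card_subgroup
        have : 0 < Nat.card (V ⧸ M) := Nat.card_pos
        nlinarith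
      · exact hcop.coprime_dvd_left (card_quotient_dvd_card M)
    letI : MulDistribMulAction P V := MulDistribMulAction.compHom V φ
    have hcop' : (Nat.card P).Coprime (Nat.card V) := by
      obtain ⟨k, hk⟩ := hP.exists_card_eq
      rw [hk]; exact (hcop.symm.pow_left k)
    haveI := hP.isNilpotent
    haveI : Group.IsSolvable P := IsNilpotent.to_isSolvable
    have hin : ∀ (a : P) (g : V), g⁻¹ * a • g ∈ M := fun a g => by
      refine QuotientGroup.eq.1 ?_
      exact (DFunLike.congr_fun (DFunLike.congr_fun hq a) (g : V ⧸ M)).symm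
    set W := CfsgLib.Coprime.actCommutator V P with hW
    have hWM : W ≤ M := CfsgLib.Coprime.actCommutator_le_iff.2 hin
    have hWinv : ∀ a, ∀ v ∈ W, φ a v ∈ W := fun a v hv =>
      CfsgLib.Coprime.isInvariant_actCommutator a v hv
    let ψ : P →* MulAut W := MonoidHom.mk'
      (fun a => ((φ a).subgroupMap W).trans (MulEquiv.subgroupCongr (map_eq_of_le φ W hWinv a)))
      fun a b => MulEquiv.ext fun w => Subtype.ext (by
        show φ (a * b) (w : V) = φ a (φ b w)
        rw [map_mul]; rfl)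
    have hψ : ψ = 1 := by
      refine ih W ?_ (hcop.coprime_dvd_left (card_subgroup_dvd_card W)) ψ fun c hc d hd x => ?_
      · have := Nat.card_le_card_of_injective _ (Subgroup.inclusion_injective hWM)
        omega
      obtain ⟨y, z, hy, hz, hyz⟩ := hs c hc d hd (x : V)
      obtain ⟨y0, hy0, hy0'⟩ := CfsgLib.Coprime.exists_fixed_mul_actCommutator (A := P) hcop' y
      obtain ⟨z0, hz0, hz0'⟩ := CfsgLib.Coprime.exists_fixed_mul_actCommutator (A := P) hcop' z
      have h0 : y0 * z0 = 1 := by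
        refine CfsgLib.Coprime.eq_one_of_mem_actCommutator_of_fixed (A := P) hcop' ?_
          fun a => by rw [smul_mul', hy0, hz0]
        have : y0 * z0 = (x : V) * ((y0⁻¹ * y) * (z0⁻¹ * z))⁻¹ := by
          rw [← hyz]
          simp [mul_comm, mul_left_comm, mul_assoc]
        rw [this]
        exact W.mul_mem x.2 (W.inv_mem (W.mul_mem hy0' hz0'))
      refine ⟨⟨_, hy0'⟩, ⟨_, hz0'⟩, Subtype.ext ?_, Subtype.ext ?_, Subtype.ext ?_⟩
      · show φ d (y0⁻¹ * y) = y0⁻¹ * y
        rw [map_mul, map_inv, hy, show φ d y0 = y0 from hy0 d]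
      · show φ c (z0⁻¹ * z) = z0⁻¹ * z
        rw [map_mul, map_inv, hz, show φ c z0 = z0 from hz0 c]
      · show y0⁻¹ * y * (z0⁻¹ * z) = x
        rw [← hyz, mul_mul_mul_comm, ← mul_inv, h0, inv_one, one_mul]
    ext a v
    exact CfsgLib.Coprime.smul_eq_self_of_trivial_on_actCommutator hcop'
      (fun b w hw => show φ b w = w from
        congrArg Subtype.val (DFunLike.congr_fun (DFunLike.congr_fun hψ b) (⟨w, hw⟩ : W)))
      a v

end Reduction

/-- Let p ≥ 3 be prime and G a finite group with a Sylow p-subgroup P and a normal p-complement N (N normal, of order prime to p, with NP = G). Suppose P is generated by a subset C and also by a subset D, and that ⟨x c x⁻¹, d⟩ is a p-group for all x ∈ N, c ∈ C, d ∈ D. Then P centralizes N, so that G = N × P. -/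
theorem result {G : Type*} [Group G] [Finite G] (p : ℕ) [Fact p.Prime] (hp3 : 3 ≤ p) (P : Sylow p G)
    (N : Subgroup G) [N.Normal] (hN : (Nat.card N).Coprime p) (hNP : N ⊔ (P : Subgroup G) = ⊤)
    (C D : Set G) (hC : Subgroup.closure C = (P : Subgroup G)) (hD : Subgroup.closure D = (P : Subgroup G))
    (h : ∀ x ∈ N, ∀ c ∈ C, ∀ d ∈ D, IsPGroup p ↥(Subgroup.closure ({x * c * x⁻¹, d} : Set G))) :
    ⁅(P : Subgroup G), N⁆ = ⊥ := by
  classical
  let φN : (P : Subgroup G) →* MulAut N := MulAut.conjNormal.comp (P : Subgroup G).subtype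
  letI : MulDistribMulAction (P : Subgroup G) N := MulDistribMulAction.compHom N φN
  have hact : ∀ (a : (P : Subgroup G)) (n : N), ((a • n : N) : G) = (a : G) * n * (a : G)⁻¹ :=
    fun a n => MulAut.conjNormal_apply (a : G) n
  have hP : IsPGroup p (P : Subgroup G) := P.isPGroup'
  obtain ⟨k, hk⟩ := hP.exists_card_eq
  have hcop : (Nat.card (P : Subgroup G)).Coprime (Nat.card N) := by
    rw [hk]; exact hN.symm.pow_left k
  haveI := hP.isNilpotent
  haveI : Group.IsSolvable (P : Subgroup G) := IsNilpotent.to_isSolvable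
  suffices hfix : ∀ (a : (P : Subgroup G)) (n : N), a • n = n by
    rw [commutator_eq_bot_iff_le_centralizer]
    intro a ha
    refine mem_centralizer_iff.2 fun n hn => ?_
    have := congrArg Subtype.val (hfix ⟨a, ha⟩ ⟨n, hn⟩)
    rw [hact] at this
    exact (mul_inv_eq_iff_eq_mul.1 this).symm
  suffices htop : FixedPoints.subgroup (P : Subgroup G) N = ⊤ by
    intro a n
    exact (htop ▸ mem_top n : n ∈ FixedPoints.subgroup (P : Subgroup G) N) a
  refine CfsgLib.Solvable.eq_of_le_of_card_le le_top (Nat.le_of_dvd Nat.card_pos ?_)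
  rw [card_top]
  refine (Nat.dvd_iff_prime_pow_dvd_dvd _ _).2 fun q j hq hdvd => ?_
  haveI := Fact.mk hq
  obtain ⟨Q, hQ⟩ := CfsgLib.Coprime.exists_invariant_sylow (A := (P : Subgroup G)) hcop q
  suffices hQle : (Q : Subgroup N) ≤ FixedPoints.subgroup (P : Subgroup G) N by
    refine dvd_trans ?_ (card_dvd_of_le hQle)
    rw [Q.card_eq_multiplicity]
    exact Nat.pow_dvd_pow q ((hq.pow_dvd_iff_le_factorization Nat.card_pos.ne').1 hdvd)
  -- the action on the Sylow subgroup
  let φQ : (P : Subgroup G) →* MulAut (Q : Subgroup N) := MonoidHom.mk'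
    (fun a => ((φN a).subgroupMap (Q : Subgroup N)).trans
      (MulEquiv.subgroupCongr (map_eq_of_le φN (Q : Subgroup N) (fun b n hn => hQ b n hn) a)))
    fun a b => MulEquiv.ext fun w => Subtype.ext (by
      show φN (a * b) (w : N) = φN a (φN b w)
      rw [map_mul]; rfl)
  have hφQ : ∀ a x, ((φQ a x : (Q : Subgroup N)) : N) = a • (x : N) := fun a x => rfl
  let C' : Set (P : Subgroup G) := {c | (c : G) ∈ C}
  let D' : Set (P : Subgroup G) := {d | (d : G) ∈ D}
  have hgen : ∀ S : Set G, Subgroup.closure S = (P : Subgroup G) →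
      Subgroup.closure ({c | (c : G) ∈ S} : Set (P : Subgroup G)) = ⊤ := by
    intro S hS
    apply map_injective (P : Subgroup G).subtype_injective
    rw [MonoidHom.map_closure, ← MonoidHom.range_eq_map, range_subtype]
    conv_rhs => rw [← hS]
    congr 1
    ext s
    constructor
    · rintro ⟨c, hc, rfl⟩
      exact hc
    · exact fun hs => ⟨⟨s, hS.le (Subgroup.subset_closure hs)⟩, hs, rfl⟩
  have hsplit : Splits φQ C' D' := by
    intro c hc d hd x
    set H : Subgroup G := ((Q : Subgroup N).map N.subtype) ⊔ (P : Subgroup G) with hH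
    have hPH : (P : Subgroup G) ≤ H := le_sup_right
    have hxH : ((x : N) : G) ∈ H := mem_sup_left ⟨x, x.2, rfl⟩
    set K := Subgroup.closure ({((x : N) : G) * c * ((x : N) : G)⁻¹, (d : G)} : Set G) with hK
    have hKH : K ≤ H := by
      rw [hK, Subgroup.closure_le]
      rintro _ (rfl | rfl)
      · exact H.mul_mem (H.mul_mem hxH (hPH c.2)) (H.inv_mem hxH)
      · exact hPH d.2
    have hKp : IsPGroup p K := h _ (x : N).2 c hc d hd
    obtain ⟨R, hR⟩ := (hKp.comap_subtype (K := H)).exists_le_sylow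
    obtain ⟨g, hg⟩ := MulAction.exists_smul_eq H (P.subtype hPH) R
    obtain ⟨m, hm, a, ha, hma⟩ : ∃ m ∈ (Q : Subgroup N).map N.subtype,
        ∃ a ∈ (P : Subgroup G), m * a = (g : G) := by
      have hnorm : (P : Subgroup G) ≤ normalizer (((Q : Subgroup N).map N.subtype : Subgroup G) : Set G) := by
        refine fun b hb => mem_normalizer_fintype fun y => ?_
        rintro ⟨n, hn, rfl⟩
        exact ⟨(⟨b, hb⟩ : (P : Subgroup G)) • n, hQ _ _ hn, hact _ _⟩
      have h1 := g.2
      have h2 : ((g : H) : G) ∈ (((Q : Subgroup N).map N.subtype : Subgroup G) : Set G) *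
          ((P : Subgroup G) : Set G) :=
        (coe_mul_of_right_le_normalizer_left _ _ hnorm).le h1
      obtain ⟨m, hm, a, ha, e⟩ := Set.mem_mul.1 h2
      exact ⟨m, hm, a, ha, e⟩
    obtain ⟨y, hy, rfl⟩ := hm
    have hcon : ∀ u ∈ K, (y : G)⁻¹ * u * (y : G) ∈ (P : Subgroup G) := by
      intro u hu
      have h1 : (⟨u, hKH hu⟩ : H) ∈ (R : Subgroup H) := hR hu
      rw [← hg, Sylow.coe_subgroup_smul, mem_pointwise_smul_iff_inv_smul_mem] at h1
      have h2 : (g : G)⁻¹ * u * (g : G) ∈ (P : Subgroup G) := by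
        have h3 := h1
        rw [MulAut.smul_def, MulAut.conj_inv_apply] at h3
        exact h3
      rw [← hma] at h2
      have h4 := (P : Subgroup G).mul_mem ((P : Subgroup G).mul_mem ha h2)
        ((P : Subgroup G).inv_mem ha)
      simpa [mul_assoc] using h4
    have hdisj : ∀ w : G, w ∈ N → w ∈ (P : Subgroup G) → w = 1 := fun w hw hw' => by
      have := (Subgroup.disjoint_of_coprime_natCard hcop).eq_bot
      exact mem_bot.1 (this ▸ ⟨hw', hw⟩)
    have hcomm : ∀ (w : N) (b : (P : Subgroup G)), (w : G)⁻¹ * b * w ∈ (P : Subgroup G) →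
        b • w = w := by
      intro w b hb
      apply Subtype.ext
      rw [hact]
      have h1 : (b : G) * ((w : G)⁻¹ * b * w)⁻¹ = 1 := hdisj _ (by
        have : (b : G) * ((w : G)⁻¹ * b * w)⁻¹ =
            ((b : G) * (w : G)⁻¹ * (b : G)⁻¹) * w := by group
        rw [this]
        exact N.mul_mem (Normal.conj_mem inferInstance _ (N.inv_mem w.2) _) w.2)
        ((P : Subgroup G).mul_mem b.2 ((P : Subgroup G).inv_mem hb))
      have h2 : (w : G)⁻¹ * b * w = b := (mul_inv_eq_one.1 h1).symm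
      rw [mul_assoc, inv_mul_eq_iff_eq_mul] at h2
      rw [mul_inv_eq_iff_eq_mul]
      exact h2
    refine ⟨⟨y, hy⟩, ⟨y⁻¹ * (x : N), (Q : Subgroup N).mul_mem ((Q : Subgroup N).inv_mem hy) x.2⟩,
      Subtype.ext ?_, Subtype.ext ?_, Subtype.ext ?_⟩
    · rw [hφQ]
      exact hcomm y d (hcon _ (subset_closure (Or.inr rfl)))
    · rw [hφQ]
      show c • (y⁻¹ * (x : N)) = y⁻¹ * (x : N)
      have h1 : c • ((x : N)⁻¹ * y) = (x : N)⁻¹ * y := hcomm _ c (by
        have := hcon _ (subset_closure (Or.inl rfl))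
        simpa [mul_assoc] using this)
      have h2 := congrArg (·⁻¹) h1
      simpa [smul_inv'] using h2
    · exact mul_inv_cancel_left y (x : N)
  have hcopQ : (Nat.card (Q : Subgroup N)).Coprime p :=
    hN.coprime_dvd_left (card_subgroup_dvd_card _)
  letI : MulDistribMulAction (P : Subgroup G) (Q : Subgroup N) :=
    MulDistribMulAction.compHom _ φQ
  have hcopQ' : (Nat.card (P : Subgroup G)).Coprime (Nat.card (Q : Subgroup N)) :=
    hcop.coprime_dvd_right (card_subgroup_dvd_card _)
  haveI := Q.isPGroup'.isNilpotent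
  let F := frattini (Q : Subgroup N)
  have hFinv : ∀ a, ∀ n ∈ F, φQ a n ∈ F := fun a n hn =>
    CfsgLib.Coprime.IsInvariant.of_characteristic (A := (P : Subgroup G)) F a n hn
  have hmapF := map_eq_of_le φQ F hFinv
  letI : CommGroup ((Q : Subgroup N) ⧸ F) :=
    { (inferInstance : Group ((Q : Subgroup N) ⧸ F)) with
      mul_comm := fun u v => by
        obtain ⟨a, rfl⟩ := QuotientGroup.mk_surjective u
        obtain ⟨b, rfl⟩ := QuotientGroup.mk_surjective v
        rw [← QuotientGroup.mk_mul, ← QuotientGroup.mk_mul, QuotientGroup.eq]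
        refine (CfsgLib.PGroupBasic.commutator_pow_le_frattini Q.isPGroup').1 ?_
        have : (a * b)⁻¹ * (b * a) = ⁅b⁻¹, a⁻¹⁆ := by rw [commutatorElement_def]; group
        rw [this]
        exact commutator_mem_commutator (mem_top _) (mem_top _) }
  have hq1 := abelian_case hp3 hP C' D' (hgen C hC) (hgen D hD)
    (Nat.card ((Q : Subgroup N) ⧸ F)) _ le_rfl
    (hcopQ.coprime_dvd_left (card_quotient_dvd_card F)) _ (splits_quot φQ F hmapF hsplit)
  intro n hn a
  have := CfsgLib.Coprime.smul_eq_self_of_trivial_mod_frattini hcopQ'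
    (fun a g => QuotientGroup.eq.1
      (DFunLike.congr_fun (DFunLike.congr_fun hq1 a) (g : (Q : Subgroup N) ⧸ F)).symm)
    a ⟨n, hn⟩
  exact congrArg Subtype.val this

end Cfsg.Agent.S2277
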