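import Cfsg.Statements.S2288
import Cfsg.Agent.SLShort.Glue
import Cfsg.Agent.BPres.PSL

set_option autoImplicit false
open Cfsg

namespace Cfsg.Agent.S2288

open CfsgLib.BPres CfsgLib.SLShort

/-- For every finite field F and n ≥ 4: SL_n(F) has a presentation with 7 generators and at most 25 relations, and PSL_n(F) one with 7 generators and at most 26 relations; moreover SL_4(F) has one with 6 generators and at most 21 relations and SL_5(F) one with 6 generators and at most 22 relations. -/
theorem result {F : Type*} [Field F] [Fintype F] (n : ℕ) (hn : 4 ≤ n) :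
    (∃ rels : Finset (FreeGroup (Fin 7)), rels.card ≤ 25 ∧ Nonempty (PresentedGroup (↑rels : Set (FreeGroup (Fin 7))) ≃* Matrix.SpecialLinearGroup (Fin n) F)) ∧ (∃ rels : Finset (FreeGroup (Fin 7)), rels.card ≤ 26 ∧ Nonempty (PresentedGroup (↑rels : Set (FreeGroup (Fin 7))) ≃* Matrix.ProjectiveSpecialLinearGroup (Fin n) F)) ∧
    (∃ rels : Finset (FreeGroup (Fin 6)), rels.card ≤ 21 ∧ Nonempty (PresentedGroup (↑rels : Set (FreeGroup (Fin 6))) ≃* Matrix.SpecialLinearGroup (Fin 4) F)) ∧ (∃ rels : Finset (FreeGroup (Fin 6)), rels.card ≤ 22 ∧ Nonempty (PresentedGroup (↑rels : Set (FreeGroup (Fin 6))) ≃* Matrix.SpecialLinearGroup (Fin 5) F)) := by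
  haveI : NeZero n := ⟨by omega⟩
  haveI : IsCyclic (Subgroup.center (Matrix.SpecialLinearGroup (Fin n) F)) :=
    (Matrix.SpecialLinearGroup.center_equiv_rootsOfUnity (n := Fin n) (R := F)).isCyclic.2 inferInstance
  obtain ⟨z, hz⟩ := (Subgroup.isCyclic_iff_exists_zpowers_eq_top
    (Subgroup.center (Matrix.SpecialLinearGroup (Fin n) F))).1 inferInstance
  have h := (hasPresN_SL (F := F) hn).pad
  exact ⟨h.exists_finset, (h.quotient _ z hz.symm).exists_finset,
    (hasPresN_SL4 (F := F)).exists_finset, (hasPresN_SL5 (F := F)).exists_finset⟩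

end Cfsg.Agent.S2288
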