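import Cfsg.Statements.S2291
import Cfsg.Agent.SUShort.Main
import Cfsg.Agent.TwoGen.UnitCases
-- import your own Cfsg.Agent.* helpers here

set_option autoImplicit false
open Cfsg

namespace Cfsg.Agent.S2291

/-- Let F be a field with q² elements and n ≥ 3 with (n, q) ≠ (3, 2). Then the simple group PSU_n(q) (for the standard Hermitian form) has a presentation with 2 generators and at most 80 relations. -/
theorem result {F : Type*} [Field F] [Fintype F] (q n : ℕ) (hF : Fintype.card F = q ^ 2) (hn : 3 ≤ n) (h32 : ¬ (n = 3 ∧ q = 2)) :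
    ∃ rels : Finset (FreeGroup (Fin 2)), rels.card ≤ 80 ∧ Nonempty (PresentedGroup (↑rels : Set (FreeGroup (Fin 2))) ≃* Cfsg.PSU n F q) := by
  classical
  have hN : Nat.card F = q ^ 2 := by rw [Nat.card_eq_fintype_card, hF]
  have hq := CfsgLib.Forms.two_le_q hN
  obtain ⟨a, b, hab⟩ := CfsgLib.TwoGen.Unit.psu_two_gen (F := F) (q := q) hN hn (fun e1 e2 => h32 ⟨e1, e2⟩)
  obtain ⟨r, hr, hP⟩ : ∃ r ≤ 78, CfsgLib.BPres.HasPres (Cfsg.PSU n F q) r := by
    rcases (show n = 3 ∨ 4 ≤ n by omega) with rfl | h4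
    · have h3 : 3 ≤ q := by
        by_contra h
        exact h32 ⟨rfl, by omega⟩
      exact ⟨_, by split_ifs <;> omega, (CfsgLib.SU3Pres.hasPresN_PSU3 hN h3).hasPres⟩
    · exact ⟨40, by norm_num,
        (CfsgLib.SUShort.bounds_quotient hN (by omega) (CfsgLib.SUShort.bounds hN h4).1).hasPres⟩
  obtain ⟨rels, h1, h2⟩ := hP.two_generators hab
  exact ⟨rels, by omega, h2⟩

end Cfsg.Agent.S2291
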