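import Cfsg.Statements.S2292
import Cfsg.Agent.BPres.SpGen

set_option autoImplicit false
open Cfsg

namespace Cfsg.Agent.S2292

/-- Let F be a finite field with q elements and m ≥ 2 with (m, q) ≠ (2, 2). Then the simple group PSp_2m(F) has a presentation with 2 generators and at most 80 relations. -/
theorem result {F : Type*} [Field F] [Fintype F] (m : ℕ) (hm : 2 ≤ m) (h22 : ¬ (m = 2 ∧ Fintype.card F = 2)) :
    ∃ rels : Finset (FreeGroup (Fin 2)), rels.card ≤ 80 ∧ Nonempty (PresentedGroup (↑rels : Set (FreeGroup (Fin 2))) ≃* Cfsg.PSp m F) := by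
  obtain ⟨a, b, hab⟩ := CfsgLib.BPres.Sp.two_gen (F := F) m hm fun h => by
    have := Fintype.one_lt_card (α := F)
    have : Fintype.card F ≠ 2 := fun e => h22 ⟨h, e⟩
    omega
  have hab' := CfsgLib.BPres.closure_pair_image (QuotientGroup.mk' (Subgroup.center (Matrix.symplecticGroup (Fin m) F)))
    (QuotientGroup.mk'_surjective _) hab
  obtain ⟨z, hz⟩ := CfsgLib.BPres.center_sp_zpowers (F := F) m
  have hP : CfsgLib.BPres.HasPres (Cfsg.PSp m F) 78 := by
    rcases eq_or_lt_of_le hm with rfl | h3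
    · exact ((CfsgLib.BPres.hasPresN_Sp4 (F := F)).quotient _ z hz).hasPres.mono (by norm_num)
    rcases eq_or_lt_of_le (show 3 ≤ m by omega) with rfl | h4
    · exact ((CfsgLib.BPres.Sp.hasPresN_Sp_three (F := F)).quotient _ z hz).hasPres.mono (by norm_num)
    rcases eq_or_lt_of_le (show 4 ≤ m by omega) with rfl | h5
    · exact ((CfsgLib.BPres.Sp.hasPresN_Sp_large (F := F) le_rfl CfsgLib.BPres.hasPresN_alt_four).quotient _ z hz).hasPres.mono (by norm_num)
    rcases eq_or_lt_of_le (show 5 ≤ m by omega) with rfl | h6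
    · exact ((CfsgLib.BPres.Sp.hasPresN_Sp_large (F := F) (by norm_num)
        (CfsgLib.BPres.hasPresN_alt_five (α := Fin 5) (by simp))).quotient _ z hz).hasPres.mono (by norm_num)
    exact ((CfsgLib.BPres.Sp.hasPresN_Sp_large (F := F) (show 4 ≤ m by omega)
      (CfsgLib.BPres.hasPresN_alt (α := Fin m) (by simp; omega))).quotient _ z hz).hasPres.mono (by norm_num)
  obtain ⟨rels, h1, h2⟩ := hP.two_generators hab'
  exact ⟨rels, by omega, h2⟩

end Cfsg.Agent.S2292
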