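import Cfsg.Statements.S2296
import Cfsg.Agent.BPres.SpPresN

set_option autoImplicit false
open Cfsg

namespace Cfsg.Agent.S2296

/-- Let F be a finite field. Sp_2n(F) has a presentation with 10 generators and at most 58 relations for n ≥ 4, with 9 generators and at most 57 relations for n = 4 or 5, and with 8 generators and at most 52 relations for n = 3; in each case PSp_2n(F) has a presentation with the same number of generators and at most one more relation. -/
theorem result {F : Type*} [Field F] [Fintype F] (n : ℕ) :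
    (4 ≤ n → (∃ rels : Finset (FreeGroup (Fin 10)), rels.card ≤ 58 ∧ Nonempty (PresentedGroup (↑rels : Set (FreeGroup (Fin 10))) ≃* Matrix.symplecticGroup (Fin n) F)) ∧ (∃ rels : Finset (FreeGroup (Fin 10)), rels.card ≤ 59 ∧ Nonempty (PresentedGroup (↑rels : Set (FreeGroup (Fin 10))) ≃* Cfsg.PSp n F))) ∧
    ((n = 4 ∨ n = 5) → (∃ rels : Finset (FreeGroup (Fin 9)), rels.card ≤ 57 ∧ Nonempty (PresentedGroup (↑rels : Set (FreeGroup (Fin 9))) ≃* Matrix.symplecticGroup (Fin n) F)) ∧ (∃ rels : Finset (FreeGroup (Fin 9)), rels.card ≤ 58 ∧ Nonempty (PresentedGroup (↑rels : Set (FreeGroup (Fin 9))) ≃* Cfsg.PSp n F))) ∧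
    (n = 3 → (∃ rels : Finset (FreeGroup (Fin 8)), rels.card ≤ 52 ∧ Nonempty (PresentedGroup (↑rels : Set (FreeGroup (Fin 8))) ≃* Matrix.symplecticGroup (Fin n) F)) ∧ (∃ rels : Finset (FreeGroup (Fin 8)), rels.card ≤ 53 ∧ Nonempty (PresentedGroup (↑rels : Set (FreeGroup (Fin 8))) ≃* Cfsg.PSp n F))) := by
  obtain ⟨z, hz⟩ := CfsgLib.BPres.center_sp_zpowers (F := F) n
  have both : ∀ {k r : ℕ}, CfsgLib.BPres.HasPresN (Matrix.symplecticGroup (Fin n) F) k r →
      (∃ rels : Finset (FreeGroup (Fin k)), rels.card ≤ r ∧ Nonempty (PresentedGroup (↑rels : Set (FreeGroup (Fin k))) ≃* Matrix.symplecticGroup (Fin n) F)) ∧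
      (∃ rels : Finset (FreeGroup (Fin k)), rels.card ≤ r + 1 ∧ Nonempty (PresentedGroup (↑rels : Set (FreeGroup (Fin k))) ≃* Cfsg.PSp n F)) :=
    fun h => ⟨h.exists_finset, (h.quotient _ z hz).exists_finset⟩
  have small : n = 4 ∨ n = 5 → CfsgLib.BPres.HasPresN (Matrix.symplecticGroup (Fin n) F) 9 57 := by
    rintro (rfl | rfl)
    · exact (CfsgLib.BPres.Sp.hasPresN_Sp_large le_rfl CfsgLib.BPres.hasPresN_alt_four).pad.pad.mono (by norm_num)
    · exact (CfsgLib.BPres.Sp.hasPresN_Sp_large (by norm_num)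
        (CfsgLib.BPres.hasPresN_alt_five (α := Fin 5) (by simp))).pad.pad.mono (by norm_num)
  refine ⟨fun hn => both ?_, fun hn => both (small hn), fun hn => both ?_⟩
  · by_cases h6 : 6 ≤ n
    · exact (CfsgLib.BPres.Sp.hasPresN_Sp_large (F := F) hn
        (CfsgLib.BPres.hasPresN_alt (α := Fin n) (by simpa using h6))).pad.mono (by norm_num)
    · exact (small (by omega)).pad.mono (by norm_num)
  · subst hn
    exact CfsgLib.BPres.Sp.hasPresN_Sp_three.pad.pad.mono (by norm_num)

end Cfsg.Agent.S2296
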