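import Cfsg.Statements.S2298
import Cfsg.Agent.GL2C.Facts

set_option autoImplicit false
open Cfsg

namespace Cfsg.Agent.S2298

/-- Over a finite field F with q elements, every irreducible complex character of GL₂ has degree 1, q − 1, q or q + 1; and when q ≥ 3 (so that these four numbers are distinct) there are exactly q − 1 irreducible characters of degree 1, exactly q − 1 of degree q, exactly (q − 1)(q − 2)/2 of degree q + 1 and exactly q(q − 1)/2 of degree q − 1. -/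
theorem result {F : Type*} [Field F] [Fintype F] :
    (∀ χ : Matrix.GeneralLinearGroup (Fin 2) F → ℂ, Cfsg.IsIrrCharacter (Matrix.GeneralLinearGroup (Fin 2) F) χ →
      χ 1 = 1 ∨ χ 1 = (Fintype.card F : ℂ) - 1 ∨ χ 1 = (Fintype.card F : ℂ) ∨ χ 1 = (Fintype.card F : ℂ) + 1) ∧
    (3 ≤ Fintype.card F →
      Nat.card {χ : Cfsg.IrrCharacter (Matrix.GeneralLinearGroup (Fin 2) F) // (χ : Matrix.GeneralLinearGroup (Fin 2) F → ℂ) 1 = 1} = Fintype.card F - 1 ∧
      Nat.card {χ : Cfsg.IrrCharacter (Matrix.GeneralLinearGroup (Fin 2) F) // (χ : Matrix.GeneralLinearGroup (Fin 2) F → ℂ) 1 = (Fintype.card F : ℂ)} = Fintype.card F - 1 ∧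
      Nat.card {χ : Cfsg.IrrCharacter (Matrix.GeneralLinearGroup (Fin 2) F) // (χ : Matrix.GeneralLinearGroup (Fin 2) F → ℂ) 1 = (Fintype.card F : ℂ) + 1} = (Fintype.card F - 1) * (Fintype.card F - 2) / 2 ∧
      Nat.card {χ : Cfsg.IrrCharacter (Matrix.GeneralLinearGroup (Fin 2) F) // (χ : Matrix.GeneralLinearGroup (Fin 2) F → ℂ) 1 = (Fintype.card F : ℂ) - 1} = Fintype.card F * (Fintype.card F - 1) / 2) := by
  classical
  obtain ⟨c, hc⟩ := CfsgLib.GL2C.exists_noEig (F := F)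
  refine ⟨fun χ hχ => ?_, fun hq => ?_⟩
  · rcases CfsgLib.GL2C.irr_cases hc hχ with ⟨-, e⟩ | ⟨-, e⟩ | ⟨-, e⟩ | ⟨-, e⟩
    exacts [Or.inl e, Or.inr (Or.inr (Or.inl e)), Or.inr (Or.inr (Or.inr e)), Or.inr (Or.inl e)]
  have key := fun d => CfsgLib.GL2C.natCard_degree (F := F) (d := d) hq
  have fin : ∀ d k : ℕ, (2 * (Nat.card {χ : Cfsg.IrrCharacter (Matrix.GeneralLinearGroup (Fin 2) F) //
      (χ : Matrix.GeneralLinearGroup (Fin 2) F → ℂ) 1 = (d : ℂ)} : ℂ)) = 2 * (k : ℂ) →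
      Nat.card {χ : Cfsg.IrrCharacter (Matrix.GeneralLinearGroup (Fin 2) F) //
        (χ : Matrix.GeneralLinearGroup (Fin 2) F → ℂ) 1 = (d : ℂ)} = k := fun d k e =>
    Nat.cast_injective (mul_left_cancel₀ two_ne_zero e)
  have c1 : ((Fintype.card F : ℂ) + 1) = ((Fintype.card F + 1 : ℕ) : ℂ) := by push_cast; rfl
  have c2 : ((Fintype.card F : ℂ) - 1) = ((Fintype.card F - 1 : ℕ) : ℂ) := by
    rw [Nat.cast_sub (by omega), Nat.cast_one]
  have hev1 : 2 ∣ (Fintype.card F - 1) * (Fintype.card F - 2) := by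
    rcases Nat.even_or_odd (Fintype.card F) with ⟨m, hm⟩ | ⟨m, hm⟩
    · exact Dvd.dvd.mul_left ⟨m - 1, by omega⟩ _
    · exact Dvd.dvd.mul_right ⟨m, by omega⟩ _
  have hev2 : 2 ∣ Fintype.card F * (Fintype.card F - 1) := by
    rcases Nat.even_or_odd (Fintype.card F) with ⟨m, hm⟩ | ⟨m, hm⟩
    · exact Dvd.dvd.mul_right ⟨m, by omega⟩ _
    · exact Dvd.dvd.mul_left ⟨m, by omega⟩ _
  rw [c1, c2]
  refine ⟨?_, fin _ _ ?_, fin _ _ ?_, fin _ _ ?_⟩
  · simpa using fin 1 (Fintype.card F - 1) (by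
      rw [key, if_pos rfl, if_neg (by omega), if_neg (by omega), if_neg (by omega),
        Nat.cast_sub (by omega)]
      push_cast; ring)
  · rw [key, if_neg (by omega), if_pos rfl, if_neg (by omega), if_neg (by omega),
      Nat.cast_sub (by omega)]
    push_cast; ring
  · rw [key, if_neg (by omega), if_neg (by omega), if_pos rfl, if_neg (by omega),
      Nat.cast_div hev1 two_ne_zero, Nat.cast_mul, Nat.cast_sub (by omega), Nat.cast_sub (by omega)]
    push_cast; ring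
  · rw [key, if_neg (by omega), if_neg (by omega), if_neg (by omega), if_pos rfl,
      Nat.cast_div hev2 two_ne_zero, Nat.cast_mul, Nat.cast_sub (by omega)]
    push_cast; ring

end Cfsg.Agent.S2298
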