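import Cfsg.Statements.S2300
import Cfsg.Agent.SL2C.Bridge

set_option autoImplicit false
open Cfsg

namespace Cfsg.Agent.S2300

/-- Over a finite field F with q elements, q even, every irreducible complex character of SL₂ has degree 1, q − 1, q or q + 1; and when q ≥ 4 (so that these four numbers are distinct) there are exactly one irreducible character of degree 1, one of degree q, (q − 2)/2 of degree q + 1 and q/2 of degree q − 1. -/
theorem result {F : Type*} [Field F] [Fintype F] [CharP F 2] :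
    (∀ χ : Matrix.SpecialLinearGroup (Fin 2) F → ℂ, Cfsg.IsIrrCharacter (Matrix.SpecialLinearGroup (Fin 2) F) χ →
      χ 1 = 1 ∨ χ 1 = (Fintype.card F : ℂ) - 1 ∨ χ 1 = (Fintype.card F : ℂ) ∨ χ 1 = (Fintype.card F : ℂ) + 1) ∧
    (4 ≤ Fintype.card F →
      Nat.card {χ : Cfsg.IrrCharacter (Matrix.SpecialLinearGroup (Fin 2) F) // (χ : Matrix.SpecialLinearGroup (Fin 2) F → ℂ) 1 = 1} = 1 ∧
      Nat.card {χ : Cfsg.IrrCharacter (Matrix.SpecialLinearGroup (Fin 2) F) // (χ : Matrix.SpecialLinearGroup (Fin 2) F → ℂ) 1 = (Fintype.card F : ℂ)} = 1 ∧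
      Nat.card {χ : Cfsg.IrrCharacter (Matrix.SpecialLinearGroup (Fin 2) F) // (χ : Matrix.SpecialLinearGroup (Fin 2) F → ℂ) 1 = (Fintype.card F : ℂ) + 1} = (Fintype.card F - 2) / 2 ∧
      Nat.card {χ : Cfsg.IrrCharacter (Matrix.SpecialLinearGroup (Fin 2) F) // (χ : Matrix.SpecialLinearGroup (Fin 2) F → ℂ) 1 = (Fintype.card F : ℂ) - 1} = Fintype.card F / 2) := by
  classical
  obtain ⟨c, hc⟩ := CfsgLib.SL2C.exists_ell (F := F)
  have heven : Even (Fintype.card F) := by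
    rw [Nat.even_iff]
    exact FiniteField.even_card_iff_char_two.1 (ringChar.eq F 2)
  refine ⟨fun χ hχ => ?_, fun hq => ?_⟩
  · have hno : ¬ Odd (Fintype.card F) := Nat.not_odd_iff_even.2 heven
    rcases CfsgLib.SL2C.degree_cases hc hχ with
      ⟨-, e⟩ | ⟨-, e⟩ | ⟨-, e⟩ | ⟨-, e⟩ | ⟨⟨h, -⟩, -⟩ | ⟨⟨h, -⟩, -⟩
    exacts [Or.inl e, Or.inr (Or.inr (Or.inl e)), Or.inr (Or.inr (Or.inr e)),
      Or.inr (Or.inl e), absurd h hno, absurd h hno]
  set q : ℕ := Fintype.card F with hqdef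
  obtain ⟨m, hm⟩ := id heven
  have hA : ((CfsgLib.SL2C.AR F).card : ℂ) = 2 * m - 2 := by
    have h3 : (CfsgLib.SL2C.AR F).card + 2 = 2 * m := by
      rw [CfsgLib.SL2C.card_AR_even heven]; omega
    have h4 : ((CfsgLib.SL2C.AR F).card : ℂ) + 2 = 2 * m := by exact_mod_cast h3
    linear_combination h4
  have hB : ((CfsgLib.SL2C.AT c).card : ℂ) = 2 * m := by
    have h3 : (CfsgLib.SL2C.AT c).card = 2 * m := by
      rw [CfsgLib.SL2C.card_AT_even hc heven]; omega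
    exact_mod_cast h3
  have hqC : (q : ℂ) = 2 * m := by rw [hm]; push_cast; ring
  have key : ∀ d : ℕ, (2 * (Nat.card {χ : Cfsg.IrrCharacter (Matrix.SpecialLinearGroup (Fin 2) F) //
      (χ : Matrix.SpecialLinearGroup (Fin 2) F → ℂ) 1 = (d : ℂ)} : ℂ)) =
      2 * (if 1 = d then 1 else 0) + 2 * (if 2 * m = d then 1 else 0) +
      (2 * (m : ℂ) - 2) * (if 2 * m + 1 = d then 1 else 0) +
      2 * (m : ℂ) * (if 2 * m - 1 = d then 1 else 0) := by
    intro d
    rw [CfsgLib.SL2C.cast_natCard_irr_subtype (fun χ => χ 1 = (d : ℂ)),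
      CfsgLib.SL2C.sum_irr_even hc heven fun χ => if χ 1 = (d : ℂ) then 1 else 0]
    have e0 : ((fun _ => 1 : Matrix.SpecialLinearGroup (Fin 2) F → ℂ) 1) = ((1 : ℕ) : ℂ) := by simp
    have e1 : (CfsgLib.SL2C.St : CfsgLib.SL2C.SL F → ℂ) 1 = ((2 * m : ℕ) : ℂ) := by
      rw [CfsgLib.SL2C.St_apply_one hc, ← hqdef, hqC]; push_cast; ring
    have e2 : ∀ α, CfsgLib.SL2C.R α (1 : CfsgLib.SL2C.SL F) = ((2 * m + 1 : ℕ) : ℂ) := fun α => by
      rw [CfsgLib.SL2C.R_apply_one hc, ← hqdef, hqC]; push_cast; ring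
    have e3 : ∀ φ : CfsgLib.SL2C.tor c →* ℂˣ, CfsgLib.SL2C.Pi' φ 1 = ((2 * m - 1 : ℕ) : ℂ) := fun φ => by
      rw [CfsgLib.SL2C.Pi'_apply_one hc, ← hqdef, hqC, Nat.cast_sub (by omega)]; push_cast; ring
    simp only [e0, e1, e2, e3, Nat.cast_inj, Finset.sum_const, nsmul_eq_mul, hA, hB]
  have fin : ∀ d k : ℕ, (2 * (Nat.card {χ : Cfsg.IrrCharacter (Matrix.SpecialLinearGroup (Fin 2) F) //
      (χ : Matrix.SpecialLinearGroup (Fin 2) F → ℂ) 1 = (d : ℂ)} : ℂ)) = 2 * (k : ℂ) →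
      Nat.card {χ : Cfsg.IrrCharacter (Matrix.SpecialLinearGroup (Fin 2) F) //
        (χ : Matrix.SpecialLinearGroup (Fin 2) F → ℂ) 1 = (d : ℂ)} = k := fun d k e =>
    Nat.cast_injective (mul_left_cancel₀ two_ne_zero e)
  have c1 : ((q : ℂ) + 1) = ((2 * m + 1 : ℕ) : ℂ) := by rw [hqC]; push_cast; ring
  have c2 : ((q : ℂ) - 1) = ((2 * m - 1 : ℕ) : ℂ) := by
    rw [hqC, Nat.cast_sub (by omega)]; push_cast; ring
  rw [c1, c2, show (q - 2) / 2 = m - 1 by omega, show q / 2 = m by omega,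
    show q = 2 * m by omega]
  refine ⟨?_, fin (2 * m) 1 ?_, fin (2 * m + 1) (m - 1) ?_, fin (2 * m - 1) m ?_⟩
  · have h1 := fin 1 1 (by
      rw [key, if_pos rfl, if_neg (by omega), if_neg (by omega), if_neg (by omega)]
      push_cast; ring)
    simpa using h1
  · rw [key, if_neg (by omega), if_pos rfl, if_neg (by omega), if_neg (by omega)]
    push_cast; ring
  · rw [key, if_neg (by omega), if_neg (by omega), if_pos rfl, if_neg (by omega),
      Nat.cast_sub (by omega)]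
    push_cast; ring
  · rw [key, if_neg (by omega), if_neg (by omega), if_neg (by omega), if_pos rfl]
    push_cast; ring

end Cfsg.Agent.S2300
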