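import Cfsg.Statements.S2301
import Cfsg.Agent.SL2C.Unipotent

set_option autoImplicit false
open Cfsg

namespace Cfsg.Agent.S2301

/-- Over a finite field with q elements of odd characteristic p, the elements of order p of SL₂ (the non-identity unipotent elements) fall into exactly two conjugacy classes, each of size (q² − 1)/2; two upper unitriangular matrices with non-zero off-diagonal entries b and b′ are conjugate exactly when bb′ is a square. -/
theorem result {F : Type*} [Field F] [Fintype F] (p : ℕ) [Fact p.Prime] [CharP F p] (hp : p ≠ 2) :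
    Nat.card {C : ConjClasses (Matrix.SpecialLinearGroup (Fin 2) F) // ∃ g : Matrix.SpecialLinearGroup (Fin 2) F, orderOf g = p ∧ ConjClasses.mk g = C} = 2 ∧
    (∀ g : Matrix.SpecialLinearGroup (Fin 2) F, orderOf g = p → Nat.card (ConjClasses.mk g).carrier = (Fintype.card F ^ 2 - 1) / 2) ∧
    ∀ g h : Matrix.SpecialLinearGroup (Fin 2) F, (g : Matrix (Fin 2) (Fin 2) F) 0 0 = 1 → (g : Matrix (Fin 2) (Fin 2) F) 1 1 = 1 → (g : Matrix (Fin 2) (Fin 2) F) 1 0 = 0 → (g : Matrix (Fin 2) (Fin 2) F) 0 1 ≠ 0 →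
      (h : Matrix (Fin 2) (Fin 2) F) 0 0 = 1 → (h : Matrix (Fin 2) (Fin 2) F) 1 1 = 1 → (h : Matrix (Fin 2) (Fin 2) F) 1 0 = 0 → (h : Matrix (Fin 2) (Fin 2) F) 0 1 ≠ 0 →
      (IsConj g h ↔ IsSquare ((g : Matrix (Fin 2) (Fin 2) F) 0 1 * (h : Matrix (Fin 2) (Fin 2) F) 0 1)) := by
  classical
  have hodd : Odd (Fintype.card F) := by
    rw [Nat.odd_iff]
    exact FiniteField.odd_card_of_char_ne_two (by rw [ringChar.eq F p]; exact hp)
  obtain ⟨ν, hν0, hν⟩ := CfsgLib.SL2C.exists_nonsquare hodd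
  have hsq : ∀ {b b' : F}, b ≠ 0 → b' ≠ 0 →
      (IsConj (CfsgLib.SL2C.bor (1 : Fˣ) b) (CfsgLib.SL2C.bor 1 b') ↔ IsSquare (b * b')) :=
    fun hb hb' => CfsgLib.SL2C.isConj_bor_iff (one_mul 1) hb hb'
  refine ⟨?_, fun g hg => ?_, fun g h hg00 hg11 hg10 hg01 hh00 hh11 hh10 hh01 => ?_⟩
  · have hset : {C : ConjClasses (Matrix.SpecialLinearGroup (Fin 2) F) |
        ∃ g : Matrix.SpecialLinearGroup (Fin 2) F, orderOf g = p ∧ ConjClasses.mk g = C} =
        {ConjClasses.mk (CfsgLib.SL2C.bor 1 1), ConjClasses.mk (CfsgLib.SL2C.bor 1 ν)} := by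
      ext C
      simp only [Set.mem_setOf_eq, Set.mem_insert_iff, Set.mem_singleton_iff]
      constructor
      · rintro ⟨g, hg, rfl⟩
        obtain ⟨b, hb, hbg⟩ := CfsgLib.SL2C.exists_isConj_of_orderOf p hg
        by_cases hs : IsSquare b
        · exact Or.inl (ConjClasses.mk_eq_mk_iff_isConj.2
            (hbg.symm.trans ((hsq hb one_ne_zero).2 (by rwa [mul_one]))))
        · exact Or.inr (ConjClasses.mk_eq_mk_iff_isConj.2
            (hbg.symm.trans ((hsq hb hν0).2 (CfsgLib.SL2C.isSquare_mul_of_not hs hν))))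
      · rintro (rfl | rfl)
        exacts [⟨_, CfsgLib.SL2C.orderOf_bor_one p one_ne_zero, rfl⟩,
          ⟨_, CfsgLib.SL2C.orderOf_bor_one p hν0, rfl⟩]
    change Nat.card ↑{C : ConjClasses (Matrix.SpecialLinearGroup (Fin 2) F) |
        ∃ g : Matrix.SpecialLinearGroup (Fin 2) F, orderOf g = p ∧ ConjClasses.mk g = C} = 2
    rw [hset, Nat.card_coe_set_eq, Set.ncard_pair]
    intro e
    rw [ConjClasses.mk_eq_mk_iff_isConj, hsq one_ne_zero hν0, one_mul] at e
    exact hν e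
  · obtain ⟨b, hb, hbg⟩ := CfsgLib.SL2C.exists_isConj_of_orderOf p hg
    have h := CfsgLib.SL2C.natCard_carrier_bor (one_mul 1) hb hbg
    rw [CfsgLib.SL2C.card_sgn_odd hodd] at h
    omega
  · obtain ⟨e, -, hg, he⟩ := CfsgLib.SL2C.exists_eq_par (g := g) hg10 (hg00.trans hg11.symm) hg01
    obtain ⟨e', -, hh, he'⟩ := CfsgLib.SL2C.exists_eq_par (g := h) hh10 (hh00.trans hh11.symm) hh01
    obtain rfl : e = 1 := Units.ext (he.trans (hg00.trans Units.val_one.symm))
    obtain rfl : e' = 1 := Units.ext (he'.trans (hh00.trans Units.val_one.symm))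
    conv_lhs => rw [hg, hh]
    exact hsq hg01 hh01

end Cfsg.Agent.S2301
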