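import Cfsg.Statements.S2302
import Cfsg.Agent.SL2C.Unipotent

set_option autoImplicit false
open Cfsg

namespace Cfsg.Agent.S2302

/-- Over a finite field with q elements of characteristic 2, the involutions of SL₂ (the non-identity unipotent elements) form a single conjugacy class, of size q² − 1. -/
theorem result {F : Type*} [Field F] [Fintype F] [CharP F 2] (g h : Matrix.SpecialLinearGroup (Fin 2) F) (hg : orderOf g = 2) (hh : orderOf h = 2) :
    IsConj g h ∧ Nat.card (ConjClasses.mk g).carrier = Fintype.card F ^ 2 - 1 := by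
  classical
  obtain ⟨b, hb, hbg⟩ := CfsgLib.SL2C.exists_isConj_of_orderOf 2 hg
  obtain ⟨b', hb', hbh⟩ := CfsgLib.SL2C.exists_isConj_of_orderOf 2 hh
  refine ⟨hbg.symm.trans (((CfsgLib.SL2C.isConj_bor_iff (one_mul 1) hb hb').2
    (FiniteField.isSquare_of_char_two (ringChar.eq F 2) _)).trans hbh), ?_⟩
  have h := CfsgLib.SL2C.natCard_carrier_bor (one_mul 1) hb hbg
  rwa [CfsgLib.SL2C.sgn_eq_singleton, Finset.card_singleton, one_mul] at h

end Cfsg.Agent.S2302
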