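import Cfsg.Statements.S2307
import Cfsg.Agent.SL2C.Bridge

set_option autoImplicit false
open Cfsg

namespace Cfsg.Agent.S2307

/-- Over a finite field F with q elements, q odd, let α be the multiplicative character of F of order 2. The character of SL₂ induced from the linear character b ↦ α(b₁₁) of the upper triangular subgroup is the sum of two distinct irreducible characters, each of degree (q + 1)/2, which are conjugate under GL₂: some fixed element of GL₂ conjugates the one into the other. -/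
theorem result {F : Type*} [Field F] [Fintype F] [DecidableEq F] (hodd : Odd (Fintype.card F)) (α : MulChar F ℂ)
    (hα : α ^ 2 = 1) (hα1 : α ≠ 1) :
    ∃ χ₁ χ₂ : Matrix.SpecialLinearGroup (Fin 2) F → ℂ, Cfsg.IsIrrCharacter (Matrix.SpecialLinearGroup (Fin 2) F) χ₁ ∧ Cfsg.IsIrrCharacter (Matrix.SpecialLinearGroup (Fin 2) F) χ₂ ∧ χ₁ ≠ χ₂ ∧
      Cfsg.indFun ((Cfsg.upperTriangularGL 2 F).comap Matrix.SpecialLinearGroup.toGL) (fun b => α (((b : Matrix.SpecialLinearGroup (Fin 2) F) : Matrix (Fin 2) (Fin 2) F) 0 0)) = χ₁ + χ₂ ∧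
      χ₁ 1 = (((Fintype.card F + 1) / 2 : ℕ) : ℂ) ∧ χ₂ 1 = (((Fintype.card F + 1) / 2 : ℕ) : ℂ) ∧
      ∃ x : Matrix.GeneralLinearGroup (Fin 2) F, ∀ g h : Matrix.SpecialLinearGroup (Fin 2) F,
        Matrix.SpecialLinearGroup.toGL h = x * Matrix.SpecialLinearGroup.toGL g * x⁻¹ → χ₂ h = χ₁ g := by
  classical
  obtain ⟨c, hc⟩ := CfsgLib.SL2C.exists_ell (F := F)
  obtain ⟨η, θ, x₁, x₂, y₁, y₂, h⟩ := CfsgLib.SL2C.exists_halves hc hodd
  have hη : α.toUnitHom = η :=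
    (h.η_all _ ((CfsgLib.SL2C.toUnitHom_sq_eq_one α).1 hα)).resolve_left fun e => hα1
      (CfsgLib.SL2C.toUnitHom_inj.1 (e.trans CfsgLib.SL2C.toUnitHom_one.symm))
  refine ⟨x₁, x₂, h.x₁_irr, h.x₂_irr, h.x_ne, by rw [CfsgLib.SL2C.R_eq α, hη, h.R_eq],
    by rw [h.x₁_one, CfsgLib.SL2C.natCast_half_add hodd],
    by rw [h.x₂_one, CfsgLib.SL2C.natCast_half_add hodd], ?_⟩
  obtain ⟨ν, hν⟩ : ∃ ν : Fˣ, η ν = -1 := by
    by_contra hcon
    push Not at hcon
    exact h.η_ne (MonoidHom.ext fun u =>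
      (CfsgLib.SL2C.apply_sign h.η_sq u).resolve_right (hcon u))
  obtain ⟨E, E', -, -, v₁, v₂, -, -⟩ := h.exists_vals hodd hc
  have key : (fun g => x₂ (CfsgLib.SL2C.sigma ν g)) = x₁ := by
    refine CfsgLib.SL2C.Vals.eq_of hc
      ⟨fun g k => ?_, fun e he => ?_, fun a ha => ?_, fun e he b hb => ?_, fun y hy => ?_⟩ v₁
    · show x₂ (CfsgLib.SL2C.sigma ν (k * g * k⁻¹)) = x₂ (CfsgLib.SL2C.sigma ν g)
      rw [map_mul, map_mul, map_inv]
      exact v₂.cls _ _
    · show x₂ (CfsgLib.SL2C.sigma ν (CfsgLib.SL2C.bor e 0)) = _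
      rw [CfsgLib.SL2C.sigma_bor, mul_zero, v₂.cen e he]
    · show x₂ (CfsgLib.SL2C.sigma ν (CfsgLib.SL2C.bor a 0)) = _
      rw [CfsgLib.SL2C.sigma_bor, mul_zero]
      exact v₂.spl a ha
    · show x₂ (CfsgLib.SL2C.sigma ν (CfsgLib.SL2C.bor e b)) = _
      obtain ⟨u, rfl⟩ : ∃ u : Fˣ, (u : F) = b := ⟨Units.mk0 b hb, rfl⟩
      rw [CfsgLib.SL2C.sigma_bor, v₂.par e he _ (mul_ne_zero ν.ne_zero hb), ← Units.val_mul,
        CfsgLib.SL2C.qc_coe, CfsgLib.SL2C.qc_coe]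
      have hνu : CfsgLib.SL2C.ch η (ν * u) = -CfsgLib.SL2C.ch η u := by
        rw [CfsgLib.SL2C.ch, map_mul, hν, Units.val_mul]; simp
      rw [hνu]; ring
    · show x₂ (CfsgLib.SL2C.sigma ν y) = _
      obtain ⟨y', hy', -, he⟩ := CfsgLib.SL2C.apply_ell hc v₂.cls
        (CfsgLib.SL2C.sigma_ell ν (CfsgLib.SL2C.ell_of_mem_torReg hc hy))
      rw [he, v₂.tor y' hy']
  refine ⟨Matrix.GeneralLinearGroup.mkOfDetNeZero !![(ν : F), 0; 0, 1]
    (by simp [Matrix.det_fin_two_of]), fun g k hgk => ?_⟩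
  have hk : k = CfsgLib.SL2C.sigma ν g := by
    rw [eq_mul_inv_iff_mul_eq] at hgk
    have hm : CfsgLib.SL2C.mt k * !![(ν : F), 0; 0, 1] = !![(ν : F), 0; 0, 1] * CfsgLib.SL2C.mt g :=
      congrArg (fun z : Matrix.GeneralLinearGroup (Fin 2) F => (z : Matrix (Fin 2) (Fin 2) F)) hgk
    have h00 := congrFun (congrFun hm 0) 0
    have h01 := congrFun (congrFun hm 0) 1
    have h10 := congrFun (congrFun hm 1) 0
    have h11 := congrFun (congrFun hm 1) 1
    simp [Matrix.mul_apply, Fin.sum_univ_two] at h00 h01 h10 h11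
    apply CfsgLib.SL2C.mt_injective
    rw [CfsgLib.SL2C.mt_sigma]
    ext i j
    fin_cases i <;> fin_cases j <;> simp <;> (try field_simp)
    · exact mul_right_cancel₀ ν.ne_zero (by linear_combination h00)
    · linear_combination h01
    · linear_combination h10
    · linear_combination h11
  rw [hk]
  exact congrFun key g

end Cfsg.Agent.S2307
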