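import Cfsg.Statements.S2308
import Cfsg.Agent.GL2C.Facts

set_option autoImplicit false
open Cfsg

namespace Cfsg.Agent.S2308

/-- Values of the permutation character of GL₂ over a finite field F with q elements on the cosets of its upper triangular subgroup (equivalently, the number of lines of F² that an element maps to themselves): q + 1 at a scalar matrix, 2 at a diagonal matrix with two different diagonal entries, 0 at an element with no eigenvector in F², and 1 at an upper triangular matrix with equal diagonal entries and non-zero upper right entry. -/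
theorem result {F : Type*} [Field F] [Fintype F] (g : Matrix.GeneralLinearGroup (Fin 2) F) :
    ((∃ a : F, (g : Matrix (Fin 2) (Fin 2) F) = a • (1 : Matrix (Fin 2) (Fin 2) F)) → Cfsg.fixedPointCharacter (Cfsg.upperTriangularGL 2 F) g = Fintype.card F + 1) ∧
    ((g : Matrix (Fin 2) (Fin 2) F) 0 1 = 0 → (g : Matrix (Fin 2) (Fin 2) F) 1 0 = 0 → (g : Matrix (Fin 2) (Fin 2) F) 0 0 ≠ (g : Matrix (Fin 2) (Fin 2) F) 1 1 →
      Cfsg.fixedPointCharacter (Cfsg.upperTriangularGL 2 F) g = 2) ∧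
    ((∀ (c : F) (v : Fin 2 → F), v ≠ 0 → (g : Matrix (Fin 2) (Fin 2) F).mulVec v ≠ c • v) → Cfsg.fixedPointCharacter (Cfsg.upperTriangularGL 2 F) g = 0) ∧
    ((g : Matrix (Fin 2) (Fin 2) F) 1 0 = 0 → (g : Matrix (Fin 2) (Fin 2) F) 0 0 = (g : Matrix (Fin 2) (Fin 2) F) 1 1 → (g : Matrix (Fin 2) (Fin 2) F) 0 1 ≠ 0 →
      Cfsg.fixedPointCharacter (Cfsg.upperTriangularGL 2 F) g = 1) := by
  classical
  rw [CfsgLib.GL2C.fixedPointCharacter_eq]
  refine ⟨fun h => ?_, fun h01 h10 hne => ?_, fun h => CfsgLib.GL2C.R_apply_noEig _ _ h,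
    fun h10 heq hne => ?_⟩
  · obtain ⟨a, rfl⟩ := CfsgLib.GL2C.exists_sc_of_isScal h
    rw [CfsgLib.GL2C.R_apply_sc, CfsgLib.SL2C.ch_one, mul_one, mul_one]
  · obtain ⟨a, b, hab, rfl⟩ := CfsgLib.GL2C.exists_eq_diag h01 h10 hne
    rw [CfsgLib.GL2C.R_apply_split _ _ hab, CfsgLib.SL2C.ch_one, CfsgLib.SL2C.ch_one]
    norm_num
  · obtain ⟨a, x, hx, rfl⟩ := CfsgLib.GL2C.exists_eq_par h10 heq hne
    rw [CfsgLib.GL2C.R_apply_par _ _ a hx, CfsgLib.SL2C.ch_one, mul_one]

end Cfsg.Agent.S2308
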