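import Cfsg.Statements.S2309
import Cfsg.Agent.GL2C.Facts

set_option autoImplicit false
open Cfsg

namespace Cfsg.Agent.S2309

/-- Over a finite field F with q elements: every irreducible complex character of GL₂ of degree q − 1 vanishes at every diagonal matrix with two distinct entries, and every irreducible complex character of degree q + 1 vanishes at every element with no eigenvector in F². -/
theorem result {F : Type*} [Field F] [Fintype F] (χ : Matrix.GeneralLinearGroup (Fin 2) F → ℂ) (hχ : Cfsg.IsIrrCharacter (Matrix.GeneralLinearGroup (Fin 2) F) χ) (g : Matrix.GeneralLinearGroup (Fin 2) F) :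
    (χ 1 = (Fintype.card F : ℂ) - 1 → (g : Matrix (Fin 2) (Fin 2) F) 0 1 = 0 → (g : Matrix (Fin 2) (Fin 2) F) 1 0 = 0 → (g : Matrix (Fin 2) (Fin 2) F) 0 0 ≠ (g : Matrix (Fin 2) (Fin 2) F) 1 1 → χ g = 0) ∧
    (χ 1 = (Fintype.card F : ℂ) + 1 → (∀ (c : F) (v : Fin 2 → F), v ≠ 0 → (g : Matrix (Fin 2) (Fin 2) F).mulVec v ≠ c • v) → χ g = 0) := by
  classical
  obtain ⟨c, hc⟩ := CfsgLib.GL2C.exists_noEig (F := F)
  have hq : 2 ≤ Fintype.card F := Fintype.one_lt_card
  have hqC : (2 : ℝ) ≤ (Fintype.card F : ℝ) := by exact_mod_cast hq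
  refine ⟨fun hdeg h01 h10 hne => ?_, fun hdeg hg => ?_⟩
  · obtain ⟨a, b, hab, rfl⟩ := CfsgLib.GL2C.exists_eq_diag h01 h10 hne
    have hq3 : 3 ≤ Fintype.card F := by
      have h2 : 1 < Fintype.card Fˣ := Fintype.one_lt_card_iff.2 ⟨a, b, hab⟩
      rw [Fintype.card_units] at h2
      omega
    have hqC3 : (3 : ℝ) ≤ (Fintype.card F : ℝ) := by exact_mod_cast hq3
    rcases CfsgLib.GL2C.irr_cases hc hχ with ⟨-, e⟩ | ⟨-, e⟩ | ⟨-, e⟩ | ⟨⟨θ, -, rfl⟩, -⟩
    iterate 3
      have h := congrArg Complex.re (hdeg.symm.trans e)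
      simp at h <;> first | linarith | omega
    exact (CfsgLib.GL2C.Pi'_vals hc θ).spl a b hab
  · rcases CfsgLib.GL2C.irr_cases hc hχ with ⟨-, e⟩ | ⟨-, e⟩ | ⟨⟨α, β, -, rfl⟩, -⟩ | ⟨-, e⟩
    · have h := congrArg Complex.re (hdeg.symm.trans e)
      simp at h
    · have h := congrArg Complex.re (hdeg.symm.trans e)
      simp at h
    · exact CfsgLib.GL2C.R_apply_noEig _ _ hg
    · have h := congrArg Complex.re (hdeg.symm.trans e)
      simp at h <;> first | linarith | omega

end Cfsg.Agent.S2309
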