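import Cfsg.Statements.S2310
import Cfsg.Agent.GL2C.Facts

set_option autoImplicit false
open Cfsg

namespace Cfsg.Agent.S2310

/-- Over a finite field F with q ≥ 3 elements, let u be the upper unitriangular matrix of GL₂ with off-diagonal entry 1. An irreducible complex character χ of GL₂ takes at u the value 1 if χ has degree 1 or q + 1, the value −1 if χ has degree q − 1, and the value 0 if χ has degree q. -/
theorem result {F : Type*} [Field F] [Fintype F] (hq : 3 ≤ Fintype.card F) (χ : Matrix.GeneralLinearGroup (Fin 2) F → ℂ) (hχ : Cfsg.IsIrrCharacter (Matrix.GeneralLinearGroup (Fin 2) F) χ)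
    (u : Matrix.GeneralLinearGroup (Fin 2) F) (hu : (u : Matrix (Fin 2) (Fin 2) F) = !![1, 1; 0, 1]) :
    (χ 1 = 1 → χ u = 1) ∧ (χ 1 = (Fintype.card F : ℂ) + 1 → χ u = 1) ∧
    (χ 1 = (Fintype.card F : ℂ) - 1 → χ u = -1) ∧ (χ 1 = (Fintype.card F : ℂ) → χ u = 0) := by
  classical
  obtain ⟨c, hc⟩ := CfsgLib.GL2C.exists_noEig (F := F)
  have hqC : (3 : ℝ) ≤ (Fintype.card F : ℝ) := by exact_mod_cast hq
  have hu' : u = CfsgLib.GL2C.tri 1 1 1 := Units.ext (by rw [hu]; simp [CfsgLib.GL2C.tri, CfsgLib.GL2C.mk])
  subst hu'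
  rcases CfsgLib.GL2C.irr_cases hc hχ with ⟨⟨γ, rfl⟩, e⟩ | ⟨⟨γ, rfl⟩, e⟩ | ⟨⟨α, β, -, rfl⟩, e⟩ |
    ⟨⟨θ, -, rfl⟩, e⟩ <;> refine ⟨fun hd => ?_, fun hd => ?_, fun hd => ?_, fun hd => ?_⟩
  · rw [(CfsgLib.GL2C.det1_vals c γ).par 1, CfsgLib.GL2C.ch_apply_one, mul_one]
  · exfalso
    have h := congrArg Complex.re (hd.symm.trans e)
    simp at h <;> first | linarith | omega
  · exfalso
    have h := congrArg Complex.re (hd.symm.trans e)
    simp at h <;> first | linarith | omega
  · exfalso
    have h := congrArg Complex.re (hd.symm.trans e)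
    simp at h <;> first | linarith | omega
  · exfalso
    have h := congrArg Complex.re (hd.symm.trans e)
    simp at h <;> first | linarith | omega
  · exfalso
    have h := congrArg Complex.re (hd.symm.trans e)
    simp at h <;> first | linarith | omega
  · exfalso
    have h := congrArg Complex.re (hd.symm.trans e)
    simp at h <;> first | linarith | omega
  · rw [(CfsgLib.GL2C.St_vals hc γ).par 1]
    rfl
  · exfalso
    have h := congrArg Complex.re (hd.symm.trans e)
    simp at h <;> first | linarith | omega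
  · rw [(CfsgLib.GL2C.R_vals hc α β).par 1, CfsgLib.GL2C.ch_apply_one, CfsgLib.GL2C.ch_apply_one, mul_one]
  · exfalso
    have h := congrArg Complex.re (hd.symm.trans e)
    simp at h <;> first | linarith | omega
  · exfalso
    have h := congrArg Complex.re (hd.symm.trans e)
    simp at h <;> first | linarith | omega
  · exfalso
    have h := congrArg Complex.re (hd.symm.trans e)
    simp at h <;> first | linarith | omega
  · exfalso
    have h := congrArg Complex.re (hd.symm.trans e)
    simp at h <;> first | linarith | omega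
  · rw [(CfsgLib.GL2C.Pi'_vals hc θ).par 1, CfsgLib.GL2C.ch_apply_one]
  · exfalso
    have h := congrArg Complex.re (hd.symm.trans e)
    simp at h <;> first | linarith | omega

end Cfsg.Agent.S2310
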