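import Cfsg.Statements.S2315
import Cfsg.Agent.GLClass.Unipotent
import Cfsg.Agent.GLClass.NilCount

set_option autoImplicit false
open Cfsg

namespace Cfsg.Agent.S2315

/-- Steinberg's count of unipotent elements for the general linear group: over a finite field with q elements of characteristic p, the number of elements of GL_n of p-power order (the unipotent matrices) is q^(n(n−1)). -/
theorem result {F : Type*} [Field F] [Fintype F] (p : ℕ) [Fact p.Prime] [CharP F p] (n : ℕ) :
    Nat.card {g : Matrix.GeneralLinearGroup (Fin n) F // ∃ k : ℕ, orderOf g = p ^ k} = Fintype.card F ^ (n * (n - 1)) := by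
  rw [← Nat.card_eq_fintype_card, ← CfsgLib.GLClass.nilCount_eq]
  refine Nat.card_congr
    { toFun := fun g => ⟨(g.1 : Matrix (Fin n) (Fin n) F) - 1, n, (CfsgLib.GLClass.sub_one_pow_iff p g.1).1 g.2⟩
      invFun := fun N => ⟨(IsNilpotent.isUnit_one_add N.2).unit, (CfsgLib.GLClass.sub_one_pow_iff p _).2 ?_⟩
      left_inv := fun g => Subtype.ext (Units.ext (by simp))
      right_inv := fun N => Subtype.ext (by simp) }
  rw [IsUnit.unit_spec, add_sub_cancel_left]
  have h := Matrix.aeval_self_charpoly N.1
  rw [sub_eq_zero.1 (Matrix.isNilpotent_charpoly_sub_pow_of_isNilpotent N.2).eq_zero, Fintype.card_fin] at h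
  simpa using h

end Cfsg.Agent.S2315
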