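import Cfsg.Statements.S2318
import Cfsg.Agent.StDefZero.Chev
import Cfsg.Agent.StDefZero.Unit
import Cfsg.Agent.BlocksB.Star.Lift

set_option autoImplicit false
open Cfsg

namespace Cfsg.Agent.S2318

/-- In a Chevalley group of type G₂, B₂, D₄, F₄, E₆, E₇ or E₈ over a finite field of characteristic p (for types G₂ and B₂ the field is assumed to have at least 3 elements, so that the group is perfect), the Steinberg character is the only irreducible complex character whose degree is divisible by the full power of p dividing the group order (the only irreducible character of p-defect zero). -/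
theorem result {F : Type*} [Field F] [Fintype F] (p : ℕ) [Fact p.Prime] [CharP F p] (D : Cfsg.Lie.ChevalleyDatum) (hD : D ∈ [Cfsg.Lie.chevG2, Cfsg.Lie.chevB2, Cfsg.Lie.chevD4, Cfsg.Lie.chevF4, Cfsg.Lie.chevE6, Cfsg.Lie.chevE7, Cfsg.Lie.chevE8]) (hq : (D = Cfsg.Lie.chevG2 ∨ D = Cfsg.Lie.chevB2) → 3 ≤ Fintype.card F)
    (χ : ↥(D.group F) → ℂ) (hχ : Cfsg.IsIrrCharacter ↥(D.group F) χ)
    (hdeg : ∃ d : ℕ, χ 1 = (d : ℂ) ∧ p ^ (Nat.card ↥(D.group F)).factorization p ∣ d) :
    χ = D.steinbergCharacter F := by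
  classical
  obtain ⟨T, hT⟩ := CfsgLib.Chev.exists_good hD
  haveI : Fintype ↥(D.group F) := Fintype.ofFinite _
  haveI : Fintype (hT.bnPair F).S := Fintype.ofFinite _
  by_contra hne
  let χ' : Cfsg.IrrCharacter ↥(D.group F) := ⟨χ, hχ⟩
  let S : Cfsg.IrrCharacter ↥(D.group F) :=
    ⟨D.steinbergCharacter F, by rw [hT.steinberg_eq]; exact CfsgLib.StCh.isIrr_st hT.hasLongest⟩
  have hS : CfsgLib.DefectZero.HasFullDegree p S := by
    show p ^ _ ∣ Cfsg.charDegree (D.steinbergCharacter F)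
    rw [Cfsg.charDegree, hT.steinberg_eq, CfsgLib.StCh.st_one hT.hasLongest, hT.cellCard_univ]
    simp only [Complex.natCast_re, Nat.floor_natCast]
    rw [← hT.sylow_card p]
  have hχ' : CfsgLib.DefectZero.HasFullDegree p χ' := by
    obtain ⟨d, hd, hdvd⟩ := hdeg
    show p ^ _ ∣ Cfsg.charDegree χ
    rw [Cfsg.charDegree, hd]
    simpa using hdvd
  obtain ⟨M, hM⟩ := CfsgLib.Block.exists_isPModular (p := p) Fact.out
  haveI : M.IsPrime := CfsgLib.Block.isPrime_of_isPModular hM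
  haveI : CharP (CfsgLib.Block.Residue M) p := CfsgLib.Block.charP_residue hM
  obtain ⟨Fr, hFr⟩ := hT.exists_frame (F := F)
  haveI : Fintype Fr.U := Fintype.ofFinite _
  obtain ⟨P, hP⟩ := hT.exists_sylow (F := F) p
  have hU : IsPGroup p Fr.U := by rw [hFr, ← hP]; exact P.2
  obtain ⟨y, hy⟩ := CfsgLib.DefectZero.unit_eq_sum hM hχ'
  obtain ⟨y', hy'⟩ := CfsgLib.DefectZero.unit_eq_sum hM hS
  have hne' : S ≠ χ' := fun e => hne (congrArg Subtype.val e).symm
  refine Fr.unique hU hy hy' (CfsgLib.DefectZero.unit_comm χ') (CfsgLib.DefectZero.unit_comm S)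
    ?_ ?_ (CfsgLib.DefectZero.unit_ne_zero hM hχ') (CfsgLib.DefectZero.unit_ne_zero hM hS) ?_
  · rw [CfsgLib.DefectZero.unit_mul hM hχ' hχ', if_pos rfl]
  · rw [CfsgLib.DefectZero.unit_mul hM hS hS, if_pos rfl]
  · rw [CfsgLib.DefectZero.unit_mul hM hS hχ', if_neg hne']

end Cfsg.Agent.S2318
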