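import Cfsg.Statements.S2319
import Cfsg.Agent.Hecke.Group
import Cfsg.Agent.Hecke.Chev
import Cfsg.Agent.Chev.CoxeterData

set_option autoImplicit false
open Cfsg

namespace Cfsg.Agent.S2319

open CfsgLib.BN in
attribute [local instance] torus_normal in
theorem key {F : Type*} [Field F] [Fintype F] {D : Cfsg.Lie.ChevalleyDatum}
    {T : CfsgLib.Chev.Tab D} (G : T.Good) (M : CoxeterMatrix (Fin D.rank))
    (hM : ∀ i j : Fin D.rank, orderOf (G.full.refl i * G.full.refl j) = M i j) :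
    Nat.card {χ : Cfsg.IrrCharacter ↥(D.group F) //
      ∃ φ : ↥(D.group F) → ℂ, Cfsg.IsCharacter ↥(D.group F) φ ∧
        Cfsg.fixedPointCharacter ((D.borelSubgroup F).subgroupOf (D.group F)) =
          (χ : ↥(D.group F) → ℂ) + φ} = Nat.card (ConjClasses M.Group) := by
  haveI : Fintype ↥(D.group F) := Fintype.ofFinite _
  haveI : Fintype (Weyl (G.bnPair F)) := Fintype.ofFinite _
  obtain ⟨e⟩ := G.weyl_equiv (F := F) M hM
  have h := CfsgLib.Hecke.card_constituents (P := G.bnPair F) (q := Nat.card F) (fun s => by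
    obtain ⟨i, rfl⟩ := G.exists_index s
    exact G.card_cell_sref i) Nat.card_pos
  refine h.trans (Nat.card_congr (Quotient.congr e.toEquiv fun a b => ?_))
  show IsConj a b ↔ IsConj (e a) (e b)
  refine ⟨fun h => e.toMonoidHom.map_isConj h, fun h => ?_⟩
  simpa using e.symm.toMonoidHom.map_isConj h

/-- In a Chevalley group of type G₂, B₂, D₄, F₄, E₆, E₇ or E₈ over a finite field, the number of distinct irreducible constituents of the permutation character on the cosets of B = UH equals the number of conjugacy classes (equivalently, of irreducible characters) of the Weyl group, the Coxeter group of the type with nodes numbered as the fundamental roots. -/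
theorem result {F : Type*} [Field F] [Fintype F]
    (dw : Cfsg.Lie.ChevalleyDatum × (Σ n : ℕ, CoxeterMatrix (Fin n)))
    (hdw : dw ∈ [(Cfsg.Lie.chevG2, ⟨2, CoxeterMatrix.G₂⟩), (Cfsg.Lie.chevB2, ⟨2, CoxeterMatrix.B 2⟩), (Cfsg.Lie.chevD4, ⟨4, Cfsg.Lie.coxeterD4⟩), (Cfsg.Lie.chevF4, ⟨4, CoxeterMatrix.F₄⟩),
      (Cfsg.Lie.chevE6, ⟨6, CoxeterMatrix.E₆⟩), (Cfsg.Lie.chevE7, ⟨7, CoxeterMatrix.E₇⟩), (Cfsg.Lie.chevE8, ⟨8, CoxeterMatrix.E₈⟩)]) :
    Nat.card {χ : Cfsg.IrrCharacter ↥(dw.1.group F) //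
      ∃ φ : ↥(dw.1.group F) → ℂ, Cfsg.IsCharacter ↥(dw.1.group F) φ ∧
        Cfsg.fixedPointCharacter ((dw.1.borelSubgroup F).subgroupOf (dw.1.group F)) = (χ : ↥(dw.1.group F) → ℂ) + φ} =
      Nat.card (ConjClasses dw.2.2.Group) := by
  simp only [List.mem_cons, List.not_mem_nil, or_false] at hdw
  rcases hdw with rfl | rfl | rfl | rfl | rfl | rfl | rfl
  · exact key CfsgLib.Chev.good_G2 _ (CfsgLib.Chev.good_G2.orderOf_refl_mul CfsgLib.Chev.cox_G2)
  · exact key CfsgLib.Chev.good_B2 _ (CfsgLib.Chev.good_B2.orderOf_refl_mul CfsgLib.Chev.cox_B2)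
  · exact key CfsgLib.Chev.good_D4 _ (CfsgLib.Chev.good_D4.orderOf_refl_mul CfsgLib.Chev.cox_D4)
  · exact key CfsgLib.Chev.good_F4 _ (CfsgLib.Chev.good_F4.orderOf_refl_mul CfsgLib.Chev.cox_F4)
  · exact key CfsgLib.Chev.good_E6 _ (CfsgLib.Chev.good_E6.orderOf_refl_mul CfsgLib.Chev.cox_E6)
  · exact key CfsgLib.Chev.good_E7 _ (CfsgLib.Chev.good_E7.orderOf_refl_mul CfsgLib.Chev.cox_E7)
  · exact key CfsgLib.Chev.good_E8 _ (CfsgLib.Chev.good_E8.orderOf_refl_mul CfsgLib.Chev.cox_E8)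

end Cfsg.Agent.S2319
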