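import Cfsg.Statements.S2320
import Cfsg.Agent.GL2C.Facts

set_option autoImplicit false
open Cfsg

namespace Cfsg.Agent.S2320

/-- Over a finite field F with q elements, every irreducible complex character of GL₂ of degree q takes a value of absolute value 1 at every diagonal matrix with two different diagonal entries and at every element with no eigenvector in F². -/
theorem result {F : Type*} [Field F] [Fintype F] (χ : Matrix.GeneralLinearGroup (Fin 2) F → ℂ) (hχ : Cfsg.IsIrrCharacter (Matrix.GeneralLinearGroup (Fin 2) F) χ) (hdeg : χ 1 = (Fintype.card F : ℂ)) (g : Matrix.GeneralLinearGroup (Fin 2) F) :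
    ((g : Matrix (Fin 2) (Fin 2) F) 0 1 = 0 → (g : Matrix (Fin 2) (Fin 2) F) 1 0 = 0 → (g : Matrix (Fin 2) (Fin 2) F) 0 0 ≠ (g : Matrix (Fin 2) (Fin 2) F) 1 1 → ‖χ g‖ = 1) ∧
    ((∀ (c : F) (v : Fin 2 → F), v ≠ 0 → (g : Matrix (Fin 2) (Fin 2) F).mulVec v ≠ c • v) → ‖χ g‖ = 1) := by
  classical
  obtain ⟨c, hc⟩ := CfsgLib.GL2C.exists_noEig (F := F)
  have hq : (2 : ℝ) ≤ (Fintype.card F : ℝ) := by exact_mod_cast (Fintype.one_lt_card (α := F) : 2 ≤ Fintype.card F)
  have hqN : 2 ≤ Fintype.card F := Fintype.one_lt_card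
  have hn : ∀ (γ : Fˣ →* ℂˣ) (a : Fˣ), ‖(γ a : ℂ)‖ = 1 := fun γ a => by
    have hfin : IsOfFinOrder (γ a : ℂ) :=
      (MonoidHom.isOfFinOrder ((Units.coeHom ℂ).comp γ) (isOfFinOrder_of_finite a))
    obtain ⟨n, hn0, hn1⟩ := hfin.exists_pow_eq_one
    exact Complex.norm_eq_one_of_pow_eq_one hn1 hn0.ne'
  rcases CfsgLib.GL2C.irr_cases hc hχ with ⟨-, e⟩ | ⟨⟨γ, rfl⟩, -⟩ | ⟨-, e⟩ | ⟨-, e⟩
  iterate 1
    have h := congrArg Complex.re (hdeg.symm.trans e)
    simp at h <;> first | linarith | omega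
  · refine ⟨fun h01 h10 hne => ?_, fun hg => ?_⟩
    · obtain ⟨a, b, hab, rfl⟩ := CfsgLib.GL2C.exists_eq_diag h01 h10 hne
      rw [(CfsgLib.GL2C.St_vals hc γ).spl a b hab]
      simp [CfsgLib.SL2C.ch, hn]
    · obtain ⟨s, hs, e⟩ := CfsgLib.GL2C.exists_isConj_torReg hc (g := g) hg
      rw [← CfsgLib.Char.IsClassFunction.apply_eq_of_isConj (CfsgLib.GL2C.St_vals hc γ).cls e,
        (CfsgLib.GL2C.St_vals hc γ).tor s hs]
      simp [CfsgLib.SL2C.ch, hn]
  iterate 2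
    have h := congrArg Complex.re (hdeg.symm.trans e)
    simp at h <;> first | linarith | omega

end Cfsg.Agent.S2320
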