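import Cfsg.Statements.S2322
import Cfsg.Agent.SL2C.Bridge

set_option autoImplicit false
open Cfsg

namespace Cfsg.Agent.S2322

/-- Over a finite field F with q elements, q odd: every irreducible complex character of SL₂ of degree q − 1 or (q − 1)/2 vanishes at every diagonal matrix whose diagonal entry a has a² ≠ 1, and every irreducible complex character of degree q + 1 or (q + 1)/2 vanishes at every element with no eigenvector in F². -/
theorem result {F : Type*} [Field F] [Fintype F] (hodd : Odd (Fintype.card F)) (χ : Matrix.SpecialLinearGroup (Fin 2) F → ℂ) (hχ : Cfsg.IsIrrCharacter (Matrix.SpecialLinearGroup (Fin 2) F) χ) (g : Matrix.SpecialLinearGroup (Fin 2) F) :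
    ((χ 1 = (Fintype.card F : ℂ) - 1 ∨ χ 1 = (((Fintype.card F - 1) / 2 : ℕ) : ℂ)) →
      (g : Matrix (Fin 2) (Fin 2) F) 0 1 = 0 → (g : Matrix (Fin 2) (Fin 2) F) 1 0 = 0 → (g : Matrix (Fin 2) (Fin 2) F) 0 0 ^ 2 ≠ 1 → χ g = 0) ∧
    ((χ 1 = (Fintype.card F : ℂ) + 1 ∨ χ 1 = (((Fintype.card F + 1) / 2 : ℕ) : ℂ)) →
      (∀ (c : F) (v : Fin 2 → F), v ≠ 0 → (g : Matrix (Fin 2) (Fin 2) F).mulVec v ≠ c • v) → χ g = 0) := by
  classical
  obtain ⟨c, hc⟩ := CfsgLib.SL2C.exists_ell (F := F)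
  have hq3 := CfsgLib.SL2C.three_le_card hodd
  have hq : (3 : ℝ) ≤ Fintype.card F := by exact_mod_cast hq3
  rw [CfsgLib.SL2C.natCast_half_add hodd, CfsgLib.SL2C.natCast_half_sub hodd]
  refine ⟨fun hd h01 h10 ha => ?_, fun hd hg => ?_⟩
  · obtain ⟨a, ha', rfl, -, -⟩ := CfsgLib.SL2C.exists_eq_dg h01 h10 ha
    rcases CfsgLib.SL2C.degree_cases hc hχ with ⟨-, e⟩ | ⟨-, e⟩ | ⟨-, e⟩ |
      ⟨⟨φ, -, rfl⟩, -⟩ | ⟨-, e⟩ | ⟨⟨-, η, θ, x₁, x₂, y₁, y₂, h, h'⟩, -⟩
    case inr.inr.inr.inl => exact (CfsgLib.SL2C.Pi'_vals hc φ).spl a ha'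
    case inr.inr.inr.inr.inr =>
      rcases h' with rfl | rfl
      exacts [(h.apply_dg hc ha').2.2.1, (h.apply_dg hc ha').2.2.2]
    all_goals
      exfalso
      have ha2 : a * a ≠ 1 := CfsgLib.SL2C.mem_reg.1 ha'
      rw [e] at hd
      rcases hd with e' | e' <;>
      · have e'' := congrArg Complex.re e'
        simp at e''
        first
          | linarith
          | (have h3 : Fintype.card F = 3 := by
               have : (Fintype.card F : ℝ) = 3 := by linarith
               exact_mod_cast this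
             refine ha2 ?_
             rw [← pow_two, show 2 = Fintype.card Fˣ by rw [Fintype.card_units, h3], pow_card_eq_one])
  · obtain ⟨y, hy, -, he⟩ := CfsgLib.SL2C.apply_ell hc
      (CfsgLib.Char.IsIrrCharacter.isClassFunction hχ) hg
    rw [he]
    rcases CfsgLib.SL2C.degree_cases hc hχ with ⟨-, e⟩ | ⟨-, e⟩ | ⟨⟨α, -, rfl⟩, -⟩ |
      ⟨⟨φ, hφ, rfl⟩, e⟩ | ⟨⟨-, η, θ, x₁, x₂, y₁, y₂, h, h'⟩, -⟩ | ⟨-, e⟩
    case inr.inr.inl => exact (CfsgLib.SL2C.R_vals hc α).tor y hy
    case inr.inr.inr.inl =>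
      have h3 : Fintype.card F = 3 := by
        rw [e] at hd
        have : (Fintype.card F : ℝ) = 3 := by
          rcases hd with e' | e' <;>
          · have e'' := congrArg Complex.re e'
            simp at e''
            linarith
        exact_mod_cast this
      rw [(CfsgLib.SL2C.Pi'_vals hc φ).tor y hy,
        CfsgLib.SL2C.th_add_inv_eq_zero_of_three hc h3 hφ hy, neg_zero]
    case inr.inr.inr.inr.inl =>
      rcases h' with rfl | rfl
      exacts [(h.apply_tor hc hy).1, (h.apply_tor hc hy).2.1]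
    all_goals
      exfalso
      rw [e] at hd
      rcases hd with e' | e' <;>
      · have e'' := congrArg Complex.re e'
        simp at e'' <;> linarith

end Cfsg.Agent.S2322
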