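import Cfsg.Statements.S2324
import Cfsg.Agent.SL2C.Bridge

set_option autoImplicit false
open Cfsg

namespace Cfsg.Agent.S2324

/-- Over a finite field F with q elements, q odd and q ≥ 5, let u be the upper unitriangular matrix of SL₂ with off-diagonal entry 1 and let δ = (−1)^((q−1)/2). Every irreducible complex character χ of SL₂ of degree (q + 1)/2 satisfies (2χ(u) − 1)² = δq, and every irreducible complex character χ of degree (q − 1)/2 satisfies (2χ(u) + 1)² = δq; that is, χ(u) = (1 ± √(δq))/2 in the first case and χ(u) = (−1 ± √(δq))/2 in the second. Moreover two different irreducible characters of degree (q + 1)/2 take the two different values (their values at u add up to 1), and likewise for degree (q − 1)/2 (values adding up to −1). -/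
theorem result {F : Type*} [Field F] [Fintype F] (hodd : Odd (Fintype.card F)) (hq : 5 ≤ Fintype.card F)
    (u : Matrix.SpecialLinearGroup (Fin 2) F) (hu : (u : Matrix (Fin 2) (Fin 2) F) = !![1, 1; 0, 1]) :
    (∀ χ : Matrix.SpecialLinearGroup (Fin 2) F → ℂ, Cfsg.IsIrrCharacter (Matrix.SpecialLinearGroup (Fin 2) F) χ → χ 1 = (((Fintype.card F + 1) / 2 : ℕ) : ℂ) → (2 * χ u - 1) ^ 2 = (-1 : ℂ) ^ ((Fintype.card F - 1) / 2) * (Fintype.card F : ℂ)) ∧
    (∀ χ : Matrix.SpecialLinearGroup (Fin 2) F → ℂ, Cfsg.IsIrrCharacter (Matrix.SpecialLinearGroup (Fin 2) F) χ → χ 1 = (((Fintype.card F - 1) / 2 : ℕ) : ℂ) → (2 * χ u + 1) ^ 2 = (-1 : ℂ) ^ ((Fintype.card F - 1) / 2) * (Fintype.card F : ℂ)) ∧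
    (∀ χ₁ χ₂ : Matrix.SpecialLinearGroup (Fin 2) F → ℂ, Cfsg.IsIrrCharacter (Matrix.SpecialLinearGroup (Fin 2) F) χ₁ → Cfsg.IsIrrCharacter (Matrix.SpecialLinearGroup (Fin 2) F) χ₂ → χ₁ ≠ χ₂ →
      χ₁ 1 = (((Fintype.card F + 1) / 2 : ℕ) : ℂ) → χ₂ 1 = (((Fintype.card F + 1) / 2 : ℕ) : ℂ) → χ₁ u + χ₂ u = 1) ∧
    (∀ χ₁ χ₂ : Matrix.SpecialLinearGroup (Fin 2) F → ℂ, Cfsg.IsIrrCharacter (Matrix.SpecialLinearGroup (Fin 2) F) χ₁ → Cfsg.IsIrrCharacter (Matrix.SpecialLinearGroup (Fin 2) F) χ₂ → χ₁ ≠ χ₂ →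
      χ₁ 1 = (((Fintype.card F - 1) / 2 : ℕ) : ℂ) → χ₂ 1 = (((Fintype.card F - 1) / 2 : ℕ) : ℂ) → χ₁ u + χ₂ u = -1) := by
  classical
  obtain ⟨c, hc⟩ := CfsgLib.SL2C.exists_ell (F := F)
  obtain rfl := CfsgLib.SL2C.eq_bor_one_one hu
  have h1 : (1 : Fˣ) ∈ CfsgLib.SL2C.sgn F := CfsgLib.SL2C.mem_sgn.2 (one_mul 1)
  obtain ⟨η, θ, x₁, x₂, y₁, y₂, h⟩ := CfsgLib.SL2C.exists_halves hc hodd
  obtain ⟨E, E', hE, hE', v₁, v₂, w₁, w₂⟩ := h.exists_vals hodd hc
  rw [h.σ_eq] at hE hE'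
  have hqc : CfsgLib.SL2C.qc η (1 : F) = 1 := by
    rw [show (1 : F) = ((1 : Fˣ) : F) from rfl, CfsgLib.SL2C.qc_coe, CfsgLib.SL2C.ch, map_one,
      Units.val_one]
  have hx₁ : x₁ (CfsgLib.SL2C.bor 1 1) = (1 + E) / 2 := by
    rw [v₁.par 1 h1 1 one_ne_zero, hqc, CfsgLib.SL2C.ch, map_one, Units.val_one, one_mul]
  have hx₂ : x₂ (CfsgLib.SL2C.bor 1 1) = (1 - E) / 2 := by
    rw [v₂.par 1 h1 1 one_ne_zero, hqc, CfsgLib.SL2C.ch, map_one, Units.val_one, one_mul]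
  have hy₁ : y₁ (CfsgLib.SL2C.bor 1 1) = (-1 + E') / 2 := by
    rw [w₁.par 1 h1 1 one_ne_zero, hqc, CfsgLib.SL2C.ch, map_one, Units.val_one,
      CfsgLib.SL2C.tc_one, one_mul, one_mul, one_mul]
  have hy₂ : y₂ (CfsgLib.SL2C.bor 1 1) = (-1 - E') / 2 := by
    rw [w₂.par 1 h1 1 one_ne_zero, hqc, CfsgLib.SL2C.ch, map_one, Units.val_one,
      CfsgLib.SL2C.tc_one, one_mul, one_mul, one_mul]
  have hq5 : (5 : ℝ) ≤ Fintype.card F := by exact_mod_cast hq
  have hmem : ∀ χ, Cfsg.IsIrrCharacter _ χ → χ ∈ CfsgLib.SL2C.L0 c ∨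
      χ = x₁ ∨ χ = x₂ ∨ χ = y₁ ∨ χ = y₂ := fun χ hχ => by
    have hm := CfsgLib.Char.mem_irrFinset.2 hχ
    rw [h.irr_eq] at hm
    simp at hm
    tauto
  have hL : ∀ χ ∈ CfsgLib.SL2C.L0 c, χ 1 ≠ ((Fintype.card F : ℂ) + 1) / 2 ∧
      χ 1 ≠ ((Fintype.card F : ℂ) - 1) / 2 := by
    intro χ hχ
    simp only [CfsgLib.SL2C.L0, Finset.mem_union, Finset.mem_insert, Finset.mem_singleton,
      Finset.mem_image] at hχ
    rcases hχ with (rfl | rfl) | ⟨α, -, rfl⟩ | ⟨φ, -, rfl⟩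
    all_goals
      constructor <;>
      · intro e
        first
          | rw [CfsgLib.SL2C.St_apply_one hc] at e
          | rw [CfsgLib.SL2C.R_apply_one hc] at e
          | rw [CfsgLib.SL2C.Pi'_apply_one hc] at e
          | skip
        have e' := congrArg Complex.re e
        simp at e'
        linarith
  have hxy : ((Fintype.card F : ℂ) + 1) / 2 ≠ ((Fintype.card F : ℂ) - 1) / 2 := fun e => by
    have e' := congrArg Complex.re e
    simp at e'
    linarith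
  have hX : ∀ χ, Cfsg.IsIrrCharacter _ χ → χ 1 = (((Fintype.card F + 1) / 2 : ℕ) : ℂ) →
      χ = x₁ ∨ χ = x₂ := fun χ hχ hd => by
    rw [CfsgLib.SL2C.natCast_half_add hodd] at hd
    rcases hmem χ hχ with h' | h' | h' | h' | h'
    · exact absurd hd (hL χ h').1
    · exact Or.inl h'
    · exact Or.inr h'
    · exact absurd (hd.symm.trans (h' ▸ h.y₁_one)) hxy
    · exact absurd (hd.symm.trans (h' ▸ h.y₂_one)) hxy
  have hY : ∀ χ, Cfsg.IsIrrCharacter _ χ → χ 1 = (((Fintype.card F - 1) / 2 : ℕ) : ℂ) →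
      χ = y₁ ∨ χ = y₂ := fun χ hχ hd => by
    rw [CfsgLib.SL2C.natCast_half_sub hodd] at hd
    rcases hmem χ hχ with h' | h' | h' | h' | h'
    · exact absurd hd (hL χ h').2
    · exact absurd ((h' ▸ h.x₁_one).symm.trans hd) hxy
    · exact absurd ((h' ▸ h.x₂_one).symm.trans hd) hxy
    · exact Or.inl h'
    · exact Or.inr h'
  refine ⟨fun χ hχ hd => ?_, fun χ hχ hd => ?_, fun a b ha hb hne hda hdb => ?_,
    fun a b ha hb hne hda hdb => ?_⟩
  · rcases hX χ hχ hd with rfl | rfl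
    · rw [hx₁]; linear_combination hE
    · rw [hx₂]; linear_combination hE
  · rcases hY χ hχ hd with rfl | rfl
    · rw [hy₁]; linear_combination hE'
    · rw [hy₂]; linear_combination hE'
  · rcases hX a ha hda with rfl | rfl <;> rcases hX b hb hdb with rfl | rfl
    all_goals first | exact absurd rfl hne | (rw [hx₁, hx₂]; ring)
  · rcases hY a ha hda with rfl | rfl <;> rcases hY b hb hdb with rfl | rfl
    all_goals first | exact absurd rfl hne | (rw [hy₁, hy₂]; ring)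

end Cfsg.Agent.S2324
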