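import Cfsg.Statements.S2325
import Cfsg.Agent.SL2C.Bridge

set_option autoImplicit false
open Cfsg

namespace Cfsg.Agent.S2325

/-- Over a finite field with q elements, q odd, the special linear group SL₂ has exactly q + 4 conjugacy classes. -/
theorem result {F : Type*} [Field F] [Fintype F] (hodd : Odd (Fintype.card F)) :
    Nat.card (ConjClasses (Matrix.SpecialLinearGroup (Fin 2) F)) = Fintype.card F + 4 := by
  classical
  obtain ⟨c, hc⟩ := CfsgLib.SL2C.exists_ell (F := F)
  obtain ⟨η, θ, x₁, x₂, y₁, y₂, h⟩ := CfsgLib.SL2C.exists_halves hc hodd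
  rw [← CfsgLib.Char.card_irr_eq_card_conjClasses, CfsgLib.Char.card_irr]
  have hs := h.sum_irr hc fun _ => (1 : ℂ)
  simp only [Finset.sum_const, nsmul_eq_mul, mul_one] at hs
  have h1 : (CfsgLib.SL2C.AR F).card + 3 = Fintype.card F := by
    have := CfsgLib.SL2C.card_sq_one h.η_ne h.η_sq h.η_all
    have := CfsgLib.SL2C.card_dual_units (F := F)
    rw [CfsgLib.SL2C.AR]; omega
  have h2 : (CfsgLib.SL2C.AT c).card + 1 = Fintype.card F := by
    have := CfsgLib.SL2C.card_sq_one h.θ_ne h.θ_sq h.θ_all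
    have := CfsgLib.SL2C.card_dual_tor hc
    rw [CfsgLib.SL2C.AT]; omega
  have h1' : ((CfsgLib.SL2C.AR F).card : ℂ) + 3 = Fintype.card F := by exact_mod_cast h1
  have h2' : ((CfsgLib.SL2C.AT c).card : ℂ) + 1 = Fintype.card F := by exact_mod_cast h2
  refine Nat.cast_injective (R := ℂ) (mul_left_cancel₀ two_ne_zero ?_)
  push_cast
  linear_combination hs + h1' + h2'

end Cfsg.Agent.S2325
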