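import Cfsg.Statements.S2331
import Cfsg.Agent.SL2C.Bridge

set_option autoImplicit false
open Cfsg

namespace Cfsg.Agent.S2331

/-- Over a finite field with q elements, q even, the special linear group SL₂ has exactly q + 1 conjugacy classes. -/
theorem result {F : Type*} [Field F] [Fintype F] [CharP F 2] :
    Nat.card (ConjClasses (Matrix.SpecialLinearGroup (Fin 2) F)) = Fintype.card F + 1 := by
  classical
  obtain ⟨c, hc⟩ := CfsgLib.SL2C.exists_ell (F := F)
  have heven : Even (Fintype.card F) := by
    rw [Nat.even_iff]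
    exact FiniteField.even_card_iff_char_two.1 (ringChar.eq F 2)
  rw [← CfsgLib.Char.card_irr_eq_card_conjClasses, CfsgLib.Char.card_irr]
  have hs := CfsgLib.SL2C.sum_irr_even hc heven fun _ => (1 : ℂ)
  simp only [Finset.sum_const, nsmul_eq_mul, mul_one] at hs
  have h1 : ((CfsgLib.SL2C.AR F).card : ℂ) + 2 = Fintype.card F := by
    exact_mod_cast CfsgLib.SL2C.card_AR_even heven
  have h2 : ((CfsgLib.SL2C.AT c).card : ℂ) = Fintype.card F := by
    exact_mod_cast CfsgLib.SL2C.card_AT_even hc heven
  refine Nat.cast_injective (R := ℂ) (mul_left_cancel₀ two_ne_zero ?_)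
  push_cast
  linear_combination hs + h1 + h2

end Cfsg.Agent.S2331
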