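import Cfsg.Statements.S2337
import Cfsg.Agent.Suzuki.MinDegree
import Cfsg.Agent.Suzuki.LieModel

set_option autoImplicit false
open Cfsg

namespace Cfsg.Agent.S2337

/-- For the Suzuki group Sz(q), q = 2^(2m+1) with m ≥ 1 (realised inside Sp₄ over the field with q elements), every irreducible complex representation of degree at least 2 has degree at least 2^m·(q − 1). -/
theorem result {F : Type*} [Field F] [Fintype F] (m : ℕ) (hm : 1 ≤ m) (hF : Fintype.card F = 2 ^ (2 * m + 1)) :
    (∀ (k : ℕ) (ρ : Representation ℂ (Cfsg.Lie.Sz F (2 ^ (m + 1))) (Fin k → ℂ)), ρ.IsIrreducible → 2 ≤ k → 2 ^ m * (2 ^ (2 * m + 1) - 1) ≤ k) := by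
  intro k ρ hρ hk
  have h := CfsgLib.Suzuki.isSzField_of_card hm hF
  let e := CfsgLib.Suzuki.lieEquiv h
  have hnt : ∃ g, (ρ.comp e.toMonoidHom : Representation ℂ _ (Fin k → ℂ)) g ≠ 1 := by
    by_contra hno
    simp only [not_exists, not_not] at hno
    have hall : ∀ g, ρ g = 1 := fun g => by
      have h1 := hno (e.symm g)
      simpa using h1
    let w : Fin k → ℂ := Pi.single ⟨0, by omega⟩ 1
    let S : Subrepresentation ρ :=
      ⟨Submodule.span ℂ {w}, fun g v hv => by rw [hall g, Module.End.one_apply]; exact hv⟩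
    have hw : w ≠ 0 := fun e0 => one_ne_zero
      (by simpa [w] using congrFun e0 ⟨0, by omega⟩ : (1 : ℂ) = 0)
    have : IsSimpleOrder (Subrepresentation ρ) := hρ
    rcases IsSimpleOrder.eq_bot_or_eq_top S with e0 | e0
    · have h1 : Submodule.span ℂ {w} = (⊥ : Submodule ℂ _) := congrArg Subrepresentation.toSubmodule e0
      exact hw (Submodule.span_singleton_eq_bot.1 h1)
    · have h1 : Submodule.span ℂ {w} = (⊤ : Submodule ℂ _) := congrArg Subrepresentation.toSubmodule e0
      have h2 := finrank_span_singleton (K := ℂ) hw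
      rw [h1, finrank_top, Module.finrank_fin_fun] at h2
      omega
  have h3 := CfsgLib.Suzuki.two_pow_mul_le_finrank h _ hnt
  rwa [h.card, Module.finrank_fin_fun] at h3

end Cfsg.Agent.S2337
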