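import Cfsg.Statements.S2339
import Cfsg.Agent.E8MinDeg.Count
import Cfsg.Agent.S1054

set_option autoImplicit false
open Cfsg

namespace Cfsg.Agent.S2339

/-- For the Chevalley group of type E₈ over a finite field with q elements, every irreducible complex representation of degree at least 2 has degree at least q(q¹² + 1)(q¹⁰ + 1)(q⁶ + 1). -/
theorem result {F : Type*} [Field F] [Fintype F] (k : ℕ) (ρ : Representation ℂ (Cfsg.Lie.chevE8.group F) (Fin k → ℂ)) (hρ : ρ.IsIrreducible) (hk : 2 ≤ k) :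
    Fintype.card F * (Fintype.card F ^ 12 + 1) * (Fintype.card F ^ 10 + 1) * (Fintype.card F ^ 6 + 1) ≤ k := by
  have hdim : Module.finrank ℂ (Fin k → ℂ) = k := Module.finrank_fin_fun ℂ
  by_contra hc
  obtain ⟨ψ, hψ⟩ := CfsgLib.MinDeg.exists_primitive F
  haveI : IsSimpleGroup (Cfsg.Lie.chevE8.group F) :=
    (Cfsg.Agent.S1054.result Cfsg.Lie.chevE8 (by simp)).1
  have hne : ρ (CfsgLib.E8MinDeg.xg 239 (1 : F)) ≠ 1 := by
    intro h
    rcases (MonoidHom.normal_ker ρ).eq_bot_or_eq_top with e | e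
    · have hm : CfsgLib.E8MinDeg.xg 239 (1 : F) ∈ ρ.ker := h
      rw [e, Subgroup.mem_bot] at hm
      exact one_ne_zero (CfsgLib.Chev.good_E8.x_eq_one (show 239 < 240 by norm_num)
        (congrArg Subtype.val hm))
    · have := CfsgLib.MinDeg.rho_trivial_degree ρ hρ fun g =>
        MonoidHom.mem_ker.mp (e ▸ Subgroup.mem_top g : g ∈ ρ.ker)
      omega
  have H : CfsgLib.E8MinDeg.Small ρ ψ :=
    ⟨hψ, by rw [hdim]; exact not_le.1 hc, hne⟩
  exact H.false hρ (by rw [hdim]; exact hk)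

end Cfsg.Agent.S2339
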