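import Cfsg.Statements.S2340
import Cfsg.Agent.E6MinDeg.Count
import Cfsg.Agent.S1054

set_option autoImplicit false
open Cfsg

namespace Cfsg.Agent.S2340

/-- For the Chevalley group of type E₆ over a finite field with q elements (the group generated by the root elements), every irreducible complex representation of degree at least 2 has degree at least q(q⁶ + q³ + 1)(q⁴ + 1). -/
theorem result {F : Type*} [Field F] [Fintype F] :
    (∀ (k : ℕ) (ρ : Representation ℂ (Cfsg.Lie.chevE6.group F) (Fin k → ℂ)), ρ.IsIrreducible → 2 ≤ k → Fintype.card F * (Fintype.card F ^ 6 + Fintype.card F ^ 3 + 1) * (Fintype.card F ^ 4 + 1) ≤ k) := by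
  intro k ρ hirr hk
  have hdim : Module.finrank ℂ (Fin k → ℂ) = k := Module.finrank_fin_fun ℂ
  by_contra hc
  obtain ⟨ψ, hψ⟩ := CfsgLib.MinDeg.exists_primitive F
  haveI : IsSimpleGroup (Cfsg.Lie.chevE6.group F) :=
    (Cfsg.Agent.S1054.result Cfsg.Lie.chevE6 (by simp)).1
  have hne : ρ (CfsgLib.E6MinDeg.xg 56 (1 : F)) ≠ 1 := by
    intro h
    rcases (MonoidHom.normal_ker ρ).eq_bot_or_eq_top with e | e
    · have hm : CfsgLib.E6MinDeg.xg 56 (1 : F) ∈ ρ.ker := h
      rw [e, Subgroup.mem_bot] at hm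
      exact one_ne_zero (CfsgLib.Chev.good_E6.x_eq_one (show 56 < 72 by norm_num)
        (congrArg Subtype.val hm))
    · have := CfsgLib.MinDeg.rho_trivial_degree ρ hirr fun g =>
        MonoidHom.mem_ker.mp (e ▸ Subgroup.mem_top g : g ∈ ρ.ker)
      omega
  have H : CfsgLib.E6MinDeg.Small ρ ψ :=
    ⟨hψ, by rw [hdim]; exact not_le.1 hc, hne⟩
  exact H.false hirr (by rw [hdim]; exact hk)

end Cfsg.Agent.S2340
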