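import Cfsg.Statements.S2341
import Cfsg.Agent.E6TwMinDeg.Dvd

set_option autoImplicit false
open Cfsg

namespace Cfsg.Agent.S2341

/-- For the twisted group ²E₆(q), realised over the field with q² elements (q a prime power), every irreducible complex representation of degree at least 2 has degree at least q(q⁶ − q³ + 1)(q⁴ + 1). -/
theorem result {K : Type*} [Field K] [Fintype K] (q : ℕ) (hq : IsPrimePow q) (hK : Fintype.card K = q ^ 2) :
    (∀ (k : ℕ) (ρ : Representation ℂ (Cfsg.Lie.twistedE6 K q) (Fin k → ℂ)), ρ.IsIrreducible → 2 ≤ k → q * (q ^ 6 - q ^ 3 + 1) * (q ^ 4 + 1) ≤ k) := by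
  intro k ρ
  obtain ⟨C⟩ := CfsgLib.Chev.E6Tw.exists_ctx hq hK
  revert ρ
  rw [← C.grp_eq]
  intro ρ hirr hk
  have hdim : Module.finrank ℂ (Fin k → ℂ) = k := Module.finrank_fin_fun ℂ
  by_contra hc
  have hlt : Module.finrank ℂ (Fin k → ℂ) < CfsgLib.E6TwMinDeg.bnd q := by
    rw [hdim]; exact not_le.1 hc
  haveI : IsSimpleGroup C.Z.G1 := C.isSimple.1
  have hmove : ∃ t : K, ρ (CfsgLib.E6TwMinDeg.y C 71 t) ≠ 1 := by
    by_contra hno
    push Not at hno
    rcases (MonoidHom.normal_ker ρ).eq_bot_or_eq_top with e | e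
    · have hm : CfsgLib.E6TwMinDeg.y C 71 (CfsgLib.E6TwMinDeg.θ C) ∈ ρ.ker := hno _
      rw [e, Subgroup.mem_bot] at hm
      have h := congrArg Subtype.val hm
      rw [CfsgLib.E6TwMinDeg.coe_y C (show 71 < 72 by norm_num),
        CfsgLib.E6TwMinDeg.yA_long C (show CfsgLib.E6TwMinDeg.piN 71 = 71 by decide +kernel),
        CfsgLib.E6TwMinDeg.θ_spec C, CfsgLib.E6MinDeg.coe_xg] at h
      exact one_ne_zero (CfsgLib.Chev.good_E6.x_eq_one (show 71 < 72 by norm_num) h)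
    · have := CfsgLib.MinDeg.rho_trivial_degree ρ hirr fun g =>
        MonoidHom.mem_ker.mp (e ▸ Subgroup.mem_top g : g ∈ ρ.ker)
      omega
  have H : CfsgLib.E6TwMinDeg.Small C ρ := ⟨hlt, hmove⟩
  have hall := H.count_all
  haveI := hirr
  have hd := CfsgLib.Char.finrank_dvd_card ρ
  have hd' : k ∣ CfsgLib.E6TwMinDeg.ord q := by
    refine (hdim ▸ hd).trans ?_
    have := C.card_group
    simp only [CfsgLib.E6TwMinDeg.ord, ← mul_assoc]
    rw [← this]
    exact dvd_mul_left _ _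
  obtain ⟨n1, n2⟩ := CfsgLib.E6TwMinDeg.not_dvd hq
  rw [hdim] at hall hlt
  rcases (show k = CfsgLib.E6TwMinDeg.bnd q - 1 ∨ k = CfsgLib.E6TwMinDeg.bnd q - 2 by omega) with e | e
  · exact n1 (e ▸ hd')
  · exact n2 (e ▸ hd')

end Cfsg.Agent.S2341
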