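import Cfsg.Statements.S2344
import Cfsg.Agent.MinDeg.OmegaOddMain
import Cfsg.Agent.Quad.POmega

set_option autoImplicit false
open Cfsg

namespace Cfsg.Agent.S2344

/-- For a finite field F of odd order q > 3 and n ≥ 3, every irreducible complex representation of degree at least 2 of Ω_{2n+1}(F) (the commutator subgroup of the isometry group of the quadratic form x₀² + x₁y₁ + ⋯ + x_ny_n) has degree at least (q^{2n} − 1)/(q² − 1). -/
theorem result {F : Type*} [Field F] [Fintype F] (n : ℕ) (hn : 3 ≤ n) (hodd : Odd (Fintype.card F)) (h3 : 3 < Fintype.card F) :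
    (∀ (k : ℕ) (ρ : Representation ℂ (Cfsg.Omega F (Cfsg.quadFormOdd n F)) (Fin k → ℂ)), ρ.IsIrreducible → 2 ≤ k → (Fintype.card F ^ (2 * n) - 1) / (Fintype.card F ^ 2 - 1) ≤ k) := by
  classical
  have h2 : (2 : F) ≠ 0 := by
    intro h
    haveI : CharP F 2 := CharTwo.of_one_ne_zero_of_two_eq_zero one_ne_zero h
    have h1 := (FiniteField.even_card_iff_char_two (F := F)).1 (ringChar.eq F 2)
    rw [Nat.odd_iff] at hodd
    omega
  have hq : 5 ≤ Fintype.card F := by
    obtain ⟨r, hr⟩ := hodd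
    omega
  obtain ⟨m, rfl⟩ : ∃ m, n = m + 3 := ⟨n - 3, by omega⟩
  have hB := CfsgLib.MinDeg.OmOdd.bound_odd (F := F) h2 hq m
  rw [← CfsgLib.Quad.oddQ_coe]
  intro k ρ hρ hk
  let e := (CfsgLib.Quad.omegaEquiv (CfsgLib.Quad.oddQ (F := F) (m + 3))).symm
  have h := hB k (CfsgLib.MinDeg.Om.pull e.toMonoidHom ρ) (CfsgLib.MinDeg.Om.irreducible_comp _ e.surjective ρ hρ) hk
  have h1 : 1 ≤ Fintype.card F ^ (2 * (m + 3)) := Nat.one_le_pow _ _ Fintype.card_pos
  refine CfsgLib.MinDeg.Om.div_le_of_bound (q := Fintype.card F) (by omega)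
    (T := CfsgLib.MinDeg.OmOdd.geom (Fintype.card F : ℤ) (m + 3)) ?_ h
  rw [CfsgLib.MinDeg.OmOdd.geom_mul]
  push_cast [h1]
  ring

end Cfsg.Agent.S2344
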