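import Cfsg.Statements.S2345
import Cfsg.Agent.MinDeg.OmegaMain
import Cfsg.Agent.Quad.POmega

set_option autoImplicit false
open Cfsg

namespace Cfsg.Agent.S2345

/-- For a finite field F with q > 3 elements and n ≥ 4, every irreducible complex representation of degree at least 2 of Ω⁺_{2n}(F) (the commutator subgroup of the isometry group of the hyperbolic quadratic form x₁y₁ + ⋯ + x_ny_n) has degree at least (q^n − 1)(q^{n−1} + q)/(q² − 1). -/
theorem result {F : Type*} [Field F] [Fintype F] (n : ℕ) (hn : 4 ≤ n) (h3 : 3 < Fintype.card F) :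
    (∀ (k : ℕ) (ρ : Representation ℂ (Cfsg.Omega F (Cfsg.quadFormPlus n F)) (Fin k → ℂ)), ρ.IsIrreducible → 2 ≤ k → (Fintype.card F ^ n - 1) * (Fintype.card F ^ (n - 1) + Fintype.card F) / (Fintype.card F ^ 2 - 1) ≤ k) := by
  classical
  obtain ⟨m, rfl⟩ : ∃ m, n = m + 1 + 3 := ⟨n - 4, by omega⟩
  obtain ⟨T, hT, hB⟩ := CfsgLib.MinDeg.Om.bound_plus (F := F) h3 (m + 1)
  rw [← CfsgLib.Quad.plusQ_coe]
  intro k ρ hρ hk
  let e := (CfsgLib.Quad.omegaEquiv (CfsgLib.Quad.plusQ (F := F) (m + 1 + 3))).symm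
  have h := hB k (CfsgLib.MinDeg.Om.pull e.toMonoidHom ρ) (CfsgLib.MinDeg.Om.irreducible_comp _ e.surjective ρ hρ) hk
  have h1 : 1 ≤ Fintype.card F ^ (m + 1 + 3) := Nat.one_le_pow _ _ Fintype.card_pos
  refine CfsgLib.MinDeg.Om.div_le_of_bound (q := Fintype.card F) (by omega) (T := T) ?_ h
  rw [hT, CfsgLib.MinDeg.Om.num]
  push_cast [h1]
  ring

end Cfsg.Agent.S2345
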