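import Cfsg.Statements.S2346
import Cfsg.Agent.MinDeg.OmegaMain
import Cfsg.Agent.Quad.POmega

set_option autoImplicit false
open Cfsg

namespace Cfsg.Agent.S2346

/-- For a finite field F with q elements, n ≥ 4, and a, b ∈ F with z₁² + a z₁z₂ + b z₂² anisotropic, every irreducible complex representation of degree at least 2 of Ω⁻_{2n}(F) (the commutator subgroup of the isometry group of x₁y₁ + ⋯ + x_{n−1}y_{n−1} + z₁² + a z₁z₂ + b z₂²) has degree at least (q^n + 1)(q^{n−1} − q)/(q² − 1). -/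
theorem result {F : Type*} [Field F] [Fintype F] (n : ℕ) (hn : 4 ≤ n) (a b : F) (hab : ∀ z₁ z₂ : F, z₁ ^ 2 + a * z₁ * z₂ + b * z₂ ^ 2 = 0 → z₁ = 0 ∧ z₂ = 0) :
    (∀ (k : ℕ) (ρ : Representation ℂ (Cfsg.Omega F (Cfsg.quadFormMinus (n - 1) F a b)) (Fin k → ℂ)), ρ.IsIrreducible → 2 ≤ k → (Fintype.card F ^ n + 1) * (Fintype.card F ^ (n - 1) - Fintype.card F) / (Fintype.card F ^ 2 - 1) ≤ k) := by
  classical
  obtain ⟨m, rfl⟩ : ∃ m, n = m + 3 + 1 := ⟨n - 4, by omega⟩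
  obtain ⟨T, hT, hB⟩ := CfsgLib.MinDeg.Om.bound_minus hab m
  rw [show m + 3 + 1 - 1 = m + 3 from rfl, ← CfsgLib.Quad.minusQ_coe]
  intro k ρ hρ hk
  let e := (CfsgLib.Quad.omegaEquiv (CfsgLib.Quad.minusQ (F := F) (m + 3) a b)).symm
  have h := hB k (CfsgLib.MinDeg.Om.pull e.toMonoidHom ρ) (CfsgLib.MinDeg.Om.irreducible_comp _ e.surjective ρ hρ) hk
  have h1 : Fintype.card F ≤ Fintype.card F ^ (m + 3) := Nat.le_self_pow (by omega) _
  refine CfsgLib.MinDeg.Om.div_le_of_bound (q := Fintype.card F) Fintype.one_lt_card (T := T) ?_ h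
  rw [hT, CfsgLib.MinDeg.Om.num, show m + 4 - 1 = m + 3 from rfl]
  push_cast [h1]
  ring

end Cfsg.Agent.S2346
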