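import Cfsg.Statements.S2356
import Cfsg.Agent.Unitary.SUThreeInvol

set_option autoImplicit false
open Cfsg

namespace Cfsg.Agent.S2356

open CfsgLib.Unitary CfsgLib.Unitary.SUThree

theorem card_split {α : Type*} [Finite α] (P A : α → Prop) :
    Nat.card {x // P x} = Nat.card {x // P x ∧ A x} + Nat.card {x // P x ∧ ¬ A x} := by
  classical
  haveI := Fintype.ofFinite α
  simp only [Nat.card_eq_fintype_card, Fintype.card_subtype]
  rw [← Finset.card_filter_add_card_filter_not (s := Finset.univ.filter P) A, Finset.filter_filter,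
    Finset.filter_filter]


/-- Let q be odd, F the field with q² elements, S = SU_3(F) (determinant-one isometries of the standard Hermitian form) and t an involution of S. Then: exactly q(q−1) involutions other than t commute with t; exactly q(q−2)(q²−1) involutions do not commute with t but commute with some involution commuting with t; exactly (q+1)(q²−1) involutions x do not commute with t and admit no involution commuting with both t and x; and every involution can be reached from t in at most three steps, each step going to an involution that commutes with the previous one (the commuting involution graph is connected of diameter 3). -/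
theorem result {F : Type*} [Field F] [Fintype F] {q : ℕ} (hq : Odd q)
    (hF : Fintype.card F = q ^ 2) (t : ↥(Cfsg.SU 3 F q)) (ht : t ≠ 1) (ht2 : t * t = 1) :
    Nat.card {x : ↥(Cfsg.SU 3 F q) // x ≠ 1 ∧ x * x = 1 ∧ x ≠ t ∧ Commute t x} = q * (q - 1) ∧
    Nat.card {x : ↥(Cfsg.SU 3 F q) // x ≠ 1 ∧ x * x = 1 ∧ ¬ Commute t x ∧
        ∃ y : ↥(Cfsg.SU 3 F q), y ≠ 1 ∧ y * y = 1 ∧ Commute t y ∧ Commute y x} = q * (q - 2) * (q ^ 2 - 1) ∧
    Nat.card {x : ↥(Cfsg.SU 3 F q) // x ≠ 1 ∧ x * x = 1 ∧ ¬ Commute t x ∧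
        ∀ y : ↥(Cfsg.SU 3 F q), y ≠ 1 → y * y = 1 → ¬ (Commute t y ∧ Commute y x)} = (q + 1) * (q ^ 2 - 1) ∧
    ∀ x : ↥(Cfsg.SU 3 F q), x ≠ 1 → x * x = 1 →
      ∃ y z : ↥(Cfsg.SU 3 F q), y ≠ 1 ∧ y * y = 1 ∧ z ≠ 1 ∧ z * z = 1 ∧
        Commute t y ∧ Commute y z ∧ Commute z x := by
  have hF' : Nat.card F = q ^ 2 := by rw [Nat.card_eq_fintype_card, hF]
  refine ⟨?_, ?_⟩
  · obtain ⟨v, hv, rfl⟩ := eq_refl_of_invol hF' hq ht ht2
    obtain ⟨g, rfl⟩ := exists_su_e0 hF' hv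
    have he : Cfsg.hermForm 3 F q (Pi.single 0 1) (Pi.single 0 1) = 1 := by rw [herm_single_left]; simp
    rw [← conj_refl hF' g he, ← card_commuting hF' hq,
      ← card_at_e0 (g := g) (fun x => x ≠ g * refl hF' (Pi.single 0 1) * g⁻¹ ∧
        Commute (g * refl hF' (Pi.single 0 1) * g⁻¹) x)]
    simp only [Commute.conj_iff, ne_eq, mul_left_inj, mul_right_inj]
  have hfar : Nat.card {x : ↥(Cfsg.SU 3 F q) // x ≠ 1 ∧ x * x = 1 ∧ ¬ Commute t x ∧
      ∀ y : ↥(Cfsg.SU 3 F q), y ≠ 1 → y * y = 1 → ¬ (Commute t y ∧ Commute y x)} = (q + 1) * (q ^ 2 - 1) := by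
    obtain ⟨v, hv, rfl⟩ := eq_refl_of_invol hF' hq ht ht2
    obtain ⟨g, rfl⟩ := exists_su_e0 hF' hv
    have he : Cfsg.hermForm 3 F q (Pi.single 0 1) (Pi.single 0 1) = 1 := by rw [herm_single_left]; simp
    rw [← conj_refl hF' g he, ← card_far hF' hq,
      ← card_at_e0 (g := g) (fun x => ¬ Commute (g * refl hF' (Pi.single 0 1) * g⁻¹) x ∧
        ∀ y : ↥(Cfsg.SU 3 F q), y ≠ 1 → y * y = 1 →
          ¬ (Commute (g * refl hF' (Pi.single 0 1) * g⁻¹) y ∧ Commute y x))]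
    refine Nat.card_congr (Equiv.subtypeEquivRight fun x => and_congr_right fun _ => and_congr_right fun _ =>
      and_congr (not_congr (Commute.conj_iff g)) ⟨fun h y hy1 hy2 hy => ?_, fun h y hy1 hy2 hy => ?_⟩)
    · exact h (g * y * g⁻¹) (fun e => hy1 (conj_eq_one_iff.1 e))
        (by rw [show g * y * g⁻¹ * (g * y * g⁻¹) = g * (y * y) * g⁻¹ by group, hy2]; group)
        ⟨(Commute.conj_iff g).2 hy.1, (Commute.conj_iff g).2 hy.2⟩
    · have ey : y = g * (g⁻¹ * y * g) * g⁻¹ := by group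
      rw [ey] at hy
      exact h (g⁻¹ * y * g) (fun e => hy1 (by rw [ey, e]; group))
        (by rw [show g⁻¹ * y * g * (g⁻¹ * y * g) = g⁻¹ * (y * y) * g by group, hy2]; group)
        ⟨(Commute.conj_iff g).1 hy.1, (Commute.conj_iff g).1 hy.2⟩
  refine ⟨?_, hfar, fun x hx hx2 => path_three hF' hq ht ht2 hx hx2⟩
  have htot := card_invol hF' hq
  have hA : Nat.card {x : ↥(Cfsg.SU 3 F q) // x ≠ 1 ∧ x * x = 1 ∧ x ≠ t ∧ Commute t x} = q * (q - 1) := by
    obtain ⟨v, hv, rfl⟩ := eq_refl_of_invol hF' hq ht ht2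
    obtain ⟨g, rfl⟩ := exists_su_e0 hF' hv
    have he : Cfsg.hermForm 3 F q (Pi.single 0 1) (Pi.single 0 1) = 1 := by rw [herm_single_left]; simp
    rw [← conj_refl hF' g he, ← card_commuting hF' hq,
      ← card_at_e0 (g := g) (fun x => x ≠ g * refl hF' (Pi.single 0 1) * g⁻¹ ∧
        Commute (g * refl hF' (Pi.single 0 1) * g⁻¹) x)]
    simp only [Commute.conj_iff, ne_eq, mul_left_inj, mul_right_inj]
  rw [card_split _ (fun x => Commute t x), card_split _ (fun x => x = t)] at htot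
  rw [card_split (fun x : ↥(Cfsg.SU 3 F q) => (x ≠ 1 ∧ x * x = 1) ∧ ¬ Commute t x)
    (fun x => ∃ y : ↥(Cfsg.SU 3 F q), y ≠ 1 ∧ y * y = 1 ∧ Commute t y ∧ Commute y x)] at htot
  have h1 : Nat.card {x : ↥(Cfsg.SU 3 F q) // ((x ≠ 1 ∧ x * x = 1) ∧ Commute t x) ∧ x = t} = 1 :=
    Nat.card_eq_one_iff_exists.2 ⟨⟨t, ⟨⟨ht, ht2⟩, Commute.refl t⟩, rfl⟩, fun y => Subtype.ext y.2.2⟩
  have h2 : Nat.card {x : ↥(Cfsg.SU 3 F q) // ((x ≠ 1 ∧ x * x = 1) ∧ Commute t x) ∧ ¬ x = t} = q * (q - 1) := by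
    rw [← hA]; exact Nat.card_congr (Equiv.subtypeEquivRight fun x => by tauto)
  have h3 : Nat.card {x : ↥(Cfsg.SU 3 F q) // ((x ≠ 1 ∧ x * x = 1) ∧ ¬ Commute t x) ∧
      ¬ ∃ y : ↥(Cfsg.SU 3 F q), y ≠ 1 ∧ y * y = 1 ∧ Commute t y ∧ Commute y x} = (q + 1) * (q ^ 2 - 1) := by
    rw [← hfar]
    refine Nat.card_congr (Equiv.subtypeEquivRight fun x => ?_)
    push Not
    tauto
  have h4 : Nat.card {x : ↥(Cfsg.SU 3 F q) // ((x ≠ 1 ∧ x * x = 1) ∧ ¬ Commute t x) ∧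
      ∃ y : ↥(Cfsg.SU 3 F q), y ≠ 1 ∧ y * y = 1 ∧ Commute t y ∧ Commute y x} =
      Nat.card {x : ↥(Cfsg.SU 3 F q) // x ≠ 1 ∧ x * x = 1 ∧ ¬ Commute t x ∧
        ∃ y : ↥(Cfsg.SU 3 F q), y ≠ 1 ∧ y * y = 1 ∧ Commute t y ∧ Commute y x} :=
    Nat.card_congr (Equiv.subtypeEquivRight fun x => by simp only [and_assoc])
  rw [h1, h2, h3, h4] at htot
  have hq2 : 2 ≤ q := CfsgLib.Forms.two_le_q hF'
  have hle : q ≤ q ^ 2 := Nat.le_self_pow two_ne_zero q
  have e1 : 1 ≤ q := by omega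
  have e2 : 1 ≤ q ^ 2 := by omega
  have hz := congrArg (Nat.cast : ℕ → ℤ) htot
  push_cast [Nat.cast_sub e1, Nat.cast_sub e2, Nat.cast_sub hle] at hz
  zify [e2, hq2]
  linear_combination hz

end Cfsg.Agent.S2356
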