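import Cfsg.Statements.S2357
import Cfsg.Agent.Chev.ReeToral
-- import your own Cfsg.Agent.* helpers here

set_option autoImplicit false
open Cfsg

namespace Cfsg.Agent.S2357

/-- Let R be the small Ree group over the field with q = 3^(2m+1) ≥ 27 elements and write φ for Euler's totient function. Then R has exactly q²(q²−q+1) involutions, (q²−1)(q³+1) elements of order 3, and q²(q−1)(q³+1) elements of order 6 and as many of order 9; for i > 2 dividing q−1 it has φ(i)q³(q³+1)/2 elements of order i; for i > 1 dividing (q+1)/4 it has φ(i)q³(q−1)(q²−q+1)/6 elements of order i and φ(i)q³(q−1)(q²−q+1)/2 elements of order 2i; and for i > 1 dividing q − 3^(m+1) + 1 (respectively q + 3^(m+1) + 1) it has φ(i)q³(q²−1)(q + 3^(m+1) + 1)/6 (respectively φ(i)q³(q²−1)(q − 3^(m+1) + 1)/6) elements of order i. -/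
theorem result {K : Type*} [Field K] [Fintype K] {m : ℕ} (hm : 1 ≤ m)
    (hK : Fintype.card K = 3 ^ (2 * m + 1)) :
    Nat.card {g : ↥(Cfsg.Lie.twistedG2 K (3 ^ m)) // orderOf g = 2} = (3 ^ (2 * m + 1)) ^ 2 * ((3 ^ (2 * m + 1)) ^ 2 - 3 ^ (2 * m + 1) + 1) ∧
    Nat.card {g : ↥(Cfsg.Lie.twistedG2 K (3 ^ m)) // orderOf g = 3} = ((3 ^ (2 * m + 1)) ^ 2 - 1) * ((3 ^ (2 * m + 1)) ^ 3 + 1) ∧
    Nat.card {g : ↥(Cfsg.Lie.twistedG2 K (3 ^ m)) // orderOf g = 6} = (3 ^ (2 * m + 1)) ^ 2 * (3 ^ (2 * m + 1) - 1) * ((3 ^ (2 * m + 1)) ^ 3 + 1) ∧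
    Nat.card {g : ↥(Cfsg.Lie.twistedG2 K (3 ^ m)) // orderOf g = 9} = (3 ^ (2 * m + 1)) ^ 2 * (3 ^ (2 * m + 1) - 1) * ((3 ^ (2 * m + 1)) ^ 3 + 1) ∧
    (∀ i : ℕ, 2 < i → i ∣ 3 ^ (2 * m + 1) - 1 →
      2 * Nat.card {g : ↥(Cfsg.Lie.twistedG2 K (3 ^ m)) // orderOf g = i} = Nat.totient i * (3 ^ (2 * m + 1)) ^ 3 * ((3 ^ (2 * m + 1)) ^ 3 + 1)) ∧
    (∀ i : ℕ, 1 < i → i ∣ (3 ^ (2 * m + 1) + 1) / 4 →
      6 * Nat.card {g : ↥(Cfsg.Lie.twistedG2 K (3 ^ m)) // orderOf g = i} =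
          Nat.totient i * (3 ^ (2 * m + 1)) ^ 3 * (3 ^ (2 * m + 1) - 1) * ((3 ^ (2 * m + 1)) ^ 2 - 3 ^ (2 * m + 1) + 1) ∧
        2 * Nat.card {g : ↥(Cfsg.Lie.twistedG2 K (3 ^ m)) // orderOf g = 2 * i} =
          Nat.totient i * (3 ^ (2 * m + 1)) ^ 3 * (3 ^ (2 * m + 1) - 1) * ((3 ^ (2 * m + 1)) ^ 2 - 3 ^ (2 * m + 1) + 1)) ∧
    (∀ i : ℕ, 1 < i → i ∣ 3 ^ (2 * m + 1) - 3 ^ (m + 1) + 1 →
      6 * Nat.card {g : ↥(Cfsg.Lie.twistedG2 K (3 ^ m)) // orderOf g = i} =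
        Nat.totient i * (3 ^ (2 * m + 1)) ^ 3 * ((3 ^ (2 * m + 1)) ^ 2 - 1) * (3 ^ (2 * m + 1) + 3 ^ (m + 1) + 1)) ∧
    (∀ i : ℕ, 1 < i → i ∣ 3 ^ (2 * m + 1) + 3 ^ (m + 1) + 1 →
      6 * Nat.card {g : ↥(Cfsg.Lie.twistedG2 K (3 ^ m)) // orderOf g = i} =
        Nat.totient i * (3 ^ (2 * m + 1)) ^ 3 * ((3 ^ (2 * m + 1)) ^ 2 - 1) * (3 ^ (2 * m + 1) - 3 ^ (m + 1) + 1)) := by
  classical
  obtain ⟨C⟩ := CfsgLib.Chev.G2Tw.exists_ctx hK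
  haveI := Fintype.ofFinite ↥(Cfsg.Lie.twistedG2 K (3 ^ m))
  obtain ⟨T₁, T₂, h₁, h₂, hmul, -⟩ := C.two_classes hm
  obtain ⟨h8, -, hge⟩ := C.arith
  have hsq : CfsgLib.Chev.G2Tw.Ctx.qq m ^ 2 - 1 =
      (CfsgLib.Chev.G2Tw.Ctx.qq m - 1) * (CfsgLib.Chev.G2Tw.Ctx.qq m + 1) := by
    rw [mul_comm, ← Nat.sq_sub_sq, one_pow]
  refine ⟨C.card_involutions hm, ?_, ?_, ?_, fun i hi hd => ?_, fun i hi hd => ⟨?_, ?_⟩,
    fun i hi hd => ?_, fun i hi hd => ?_⟩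
  · rw [C.card_order_BG (dvd_refl 3), C.card_bOrd_three, ← C.cube_add_one, mul_comm]
  · rw [C.card_order_BG (show 3 ∣ 6 by norm_num), C.card_bOrd_six, ← C.cube_add_one]
    ring
  · rw [C.card_order_BG (show 3 ∣ 9 by norm_num), C.card_bOrd_nine, ← C.cube_add_one]
    ring
  · haveI := C.isCyclic_HG
    rw [C.card_split hm (fun n => n = i) (fun n hn => ⟨hn ▸ hi, hn ▸ hd⟩),
      CfsgLib.Chev.ReeCount.card_orderOf_cyclic C.HG (by rwa [C.card_HG]), ← C.cube_add_one]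
    ring
  · rw [C.card_nonsplit hm (fun n => n = i) (fun n hn => hn ▸
      ⟨C.two_lt_of_dvd_half (by omega) (Or.inr hd), hd.trans C.quarter_dvd⟩), C.card_WG_odd hd]
    ring
  · have h := C.card_nonsplit hm (fun n => n = 2 * i) (fun n hn => hn ▸ ⟨by omega, by
      rw [show (CfsgLib.Chev.G2Tw.Ctx.qq m + 1) / 2 =
        2 * ((CfsgLib.Chev.G2Tw.Ctx.qq m + 1) / 4) by omega]
      exact Nat.mul_dvd_mul_left 2 hd⟩)
    rw [C.card_WG_double hi hd] at h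
    linarith
  · rw [C.card_IsTor h₁ hmul hi hd, hsq]
    unfold CfsgLib.Chev.G2Tw.Ctx.MM
    ring
  · rw [C.card_IsTor h₂ ((mul_comm _ _).trans hmul) hi hd, hsq]
    unfold CfsgLib.Chev.G2Tw.Ctx.MM
    ring

end Cfsg.Agent.S2357
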