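import Cfsg.Statements.S2358
import Cfsg.Agent.Chev.ReeToral
-- import your own Cfsg.Agent.* helpers here

set_option autoImplicit false
open Cfsg

namespace Cfsg.Agent.S2358

/-- Let R be the small Ree group over the field with q = 3^(2m+1) ≥ 27 elements. If d divides one of (q−1)/2, (q+1)/4, q − 3^(m+1) + 1 or q + 3^(m+1) + 1, then any two cyclic subgroups of R of order d are conjugate in R. -/
theorem result {K : Type*} [Field K] [Fintype K] {m : ℕ} (hm : 1 ≤ m)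
    (hK : Fintype.card K = 3 ^ (2 * m + 1)) (d : ℕ)
    (hd : d ∣ (3 ^ (2 * m + 1) - 1) / 2 ∨ d ∣ (3 ^ (2 * m + 1) + 1) / 4 ∨ d ∣ 3 ^ (2 * m + 1) - 3 ^ (m + 1) + 1 ∨ d ∣ 3 ^ (2 * m + 1) + 3 ^ (m + 1) + 1)
    (A B : Subgroup ↥(Cfsg.Lie.twistedG2 K (3 ^ m))) (hA : IsCyclic A) (hB : IsCyclic B)
    (hAd : Nat.card A = d) (hBd : Nat.card B = d) :
    ∃ g : ↥(Cfsg.Lie.twistedG2 K (3 ^ m)), B = A.map (MulAut.conj g).toMonoidHom := by
  classical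
  obtain ⟨C⟩ := CfsgLib.Chev.G2Tw.exists_ctx hK
  haveI := Fintype.ofFinite ↥(Cfsg.Lie.twistedG2 K (3 ^ m))
  obtain ⟨T₁, T₂, h₁, h₂, -, -⟩ := C.two_classes hm
  obtain ⟨a, ha⟩ := hA.exists_ofOrder_eq_natCard
  obtain ⟨b, hb⟩ := hB.exists_ofOrder_eq_natCard
  rw [← Subgroup.orderOf_coe, hAd] at ha
  rw [← Subgroup.orderOf_coe, hBd] at hb
  have hA' : A = Subgroup.zpowers (a : ↥(Cfsg.Lie.twistedG2 K (3 ^ m))) :=
    (Subgroup.eq_of_le_of_card_ge (Subgroup.zpowers_le.mpr a.2)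
      (by rw [Nat.card_zpowers, ha, hAd])).symm
  have hB' : B = Subgroup.zpowers (b : ↥(Cfsg.Lie.twistedG2 K (3 ^ m))) :=
    (Subgroup.eq_of_le_of_card_ge (Subgroup.zpowers_le.mpr b.2)
      (by rw [Nat.card_zpowers, hb, hBd])).symm
  by_cases h1 : d = 1
  · subst h1
    refine ⟨1, ?_⟩
    rw [hA', hB', orderOf_eq_one_iff.mp ha, orderOf_eq_one_iff.mp hb]
    simp
  have hne : ∀ g : ↥(Cfsg.Lie.twistedG2 K (3 ^ m)), orderOf g = d → g ≠ 1 := fun g hg e =>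
    h1 (by rw [← hg, e, orderOf_one])
  rw [hA', hB']
  rcases hd with hd | hd | hd | hd
  · haveI := C.isCyclic_HG
    have hh := C.two_lt_of_dvd_half h1 (Or.inl hd)
    exact CfsgLib.Chev.ReeCount.exists_map_zpowers (ha.trans hb.symm)
      (C.conj_HG_of_dvd hm (ha ▸ hh) (ha ▸ hd.trans C.half_dvd))
      (C.conj_HG_of_dvd hm (hb ▸ hh) (hb ▸ hd.trans C.half_dvd))
  · haveI := C.isCyclic_AG
    exact CfsgLib.Chev.ReeCount.exists_map_zpowers (ha.trans hb.symm)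
      (C.conj_AG_of_dvd hm (hne _ ha) (ha ▸ hd)) (C.conj_AG_of_dvd hm (hne _ hb) (hb ▸ hd))
  · haveI := h₁.cyc
    exact CfsgLib.Chev.ReeCount.exists_map_zpowers (ha.trans hb.symm)
      (h₁.conj _ (hne _ ha) (ha ▸ hd)) (h₁.conj _ (hne _ hb) (hb ▸ hd))
  · haveI := h₂.cyc
    exact CfsgLib.Chev.ReeCount.exists_map_zpowers (ha.trans hb.symm)
      (h₂.conj _ (hne _ ha) (ha ▸ hd)) (h₂.conj _ (hne _ hb) (hb ▸ hd))

end Cfsg.Agent.S2358
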