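import Cfsg.Statements.S2359
import Cfsg.Agent.Chev.ReeToral
-- import your own Cfsg.Agent.* helpers here

set_option autoImplicit false
open Cfsg

namespace Cfsg.Agent.S2359

/-- Let R be the small Ree group over the field with q = 3^(2m+1) ≥ 27 elements. If H is a cyclic subgroup of R of order (q−1)/2, then the centralizer of H in R is cyclic of order q−1, and every non-trivial subgroup of H has the same centralizer as H. If H is a cyclic subgroup of order (q+1)/4, then the centralizer of H is abelian of order q+1 with no element of order 4 (so it is the direct product of H and a group of order 4 whose non-identity elements all have order 2), and every non-trivial subgroup of H has the same centralizer as H. -/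
theorem result {K : Type*} [Field K] [Fintype K] {m : ℕ} (hm : 1 ≤ m)
    (hK : Fintype.card K = 3 ^ (2 * m + 1)) (H : Subgroup ↥(Cfsg.Lie.twistedG2 K (3 ^ m))) (hH : IsCyclic H) :
    (Nat.card H = (3 ^ (2 * m + 1) - 1) / 2 →
      IsCyclic ↥(Subgroup.centralizer (H : Set ↥(Cfsg.Lie.twistedG2 K (3 ^ m)))) ∧
        Nat.card ↥(Subgroup.centralizer (H : Set ↥(Cfsg.Lie.twistedG2 K (3 ^ m)))) = 3 ^ (2 * m + 1) - 1 ∧
        ∀ A : Subgroup ↥(Cfsg.Lie.twistedG2 K (3 ^ m)), A ≤ H → A ≠ ⊥ →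
          Subgroup.centralizer (A : Set ↥(Cfsg.Lie.twistedG2 K (3 ^ m))) = Subgroup.centralizer (H : Set ↥(Cfsg.Lie.twistedG2 K (3 ^ m)))) ∧
    (Nat.card H = (3 ^ (2 * m + 1) + 1) / 4 →
      IsMulCommutative ↥(Subgroup.centralizer (H : Set ↥(Cfsg.Lie.twistedG2 K (3 ^ m)))) ∧
        Nat.card ↥(Subgroup.centralizer (H : Set ↥(Cfsg.Lie.twistedG2 K (3 ^ m)))) = 3 ^ (2 * m + 1) + 1 ∧
        (∀ x ∈ Subgroup.centralizer (H : Set ↥(Cfsg.Lie.twistedG2 K (3 ^ m))), orderOf x ≠ 4) ∧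
        ∀ A : Subgroup ↥(Cfsg.Lie.twistedG2 K (3 ^ m)), A ≤ H → A ≠ ⊥ →
          Subgroup.centralizer (A : Set ↥(Cfsg.Lie.twistedG2 K (3 ^ m))) = Subgroup.centralizer (H : Set ↥(Cfsg.Lie.twistedG2 K (3 ^ m)))) := by
  classical
  obtain ⟨C⟩ := CfsgLib.Chev.G2Tw.exists_ctx hK
  obtain ⟨h8, -, hge⟩ := C.arith
  have h27 := CfsgLib.Chev.G2Tw.Ctx.qq_ge (m := m) hm
  obtain ⟨⟨h, hh⟩, ho⟩ := hH.exists_ofOrder_eq_natCard
  rw [Subgroup.orderOf_mk] at ho
  constructor
  · intro hc
    have hord : orderOf h = (CfsgLib.Chev.G2Tw.Ctx.qq m - 1) / 2 := ho.trans hc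
    obtain ⟨x, hx⟩ := C.conj_HG_of_dvd hm (g := h) (by omega) (hord ▸ C.half_dvd)
    have hX : ∀ a ∈ H, a ≠ 1 →
        Subgroup.centralizer ({x * a * x⁻¹} : Set ↥(Cfsg.Lie.twistedG2 K (3 ^ m))) = C.HG := by
      intro a ha ha1
      have hmem : a ∈ Subgroup.zpowers h :=
        (Subgroup.eq_of_le_of_card_ge (Subgroup.zpowers_le.mpr hh)
          (by rw [Nat.card_zpowers, ho])).symm ▸ ha
      obtain ⟨k, rfl⟩ := Subgroup.mem_zpowers_iff.mp hmem
      have h2 := C.two_lt_of_dvd_half (mt orderOf_eq_one_iff.mp ha1)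
        (Or.inl (hc ▸ Subgroup.orderOf_dvd_natCard _ ha))
      obtain ⟨s, hs⟩ : x * h ^ k * x⁻¹ ∈ C.HG := by
        rw [← conj_zpow]; exact zpow_mem hx k
      rw [← hs]
      refine C.centralizer_tG fun e => ?_
      rw [← C.orderOf_conj x, ← hs, C.orderOf_tG] at h2
      have := Nat.le_of_dvd (by norm_num) (orderOf_dvd_of_pow_eq_one e)
      omega
    have hH1 : H ≠ ⊥ := fun e => by
      rw [e, Subgroup.card_bot] at hc
      change 1 = (CfsgLib.Chev.G2Tw.Ctx.qq m - 1) / 2 at hc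
      omega
    have eH := CfsgLib.Chev.ReeCount.centralizer_of_conj le_rfl hH1 hX
    refine ⟨?_, ?_, fun A hA hA1 => by
      rw [CfsgLib.Chev.ReeCount.centralizer_of_conj hA hA1 hX, eH]⟩
    · rw [eH]
      haveI := C.isCyclic_HG
      exact isCyclic_of_surjective _ (MonoidHom.subgroupMap_surjective _ C.HG)
    · rw [eH, Subgroup.card_map_of_injective (MulAut.conj _).injective]
      exact C.card_HG
  · intro hc
    have hord : orderOf h = (CfsgLib.Chev.G2Tw.Ctx.qq m + 1) / 4 := ho.trans hc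
    have hne : h ≠ 1 := fun e => by rw [e, orderOf_one] at hord; omega
    obtain ⟨x, hx⟩ := C.conj_AG_of_dvd hm hne (dvd_of_eq hord)
    have hX : ∀ a ∈ H, a ≠ 1 →
        Subgroup.centralizer ({x * a * x⁻¹} : Set ↥(Cfsg.Lie.twistedG2 K (3 ^ m))) = C.WG := by
      intro a ha ha1
      have hmem : a ∈ Subgroup.zpowers h :=
        (Subgroup.eq_of_le_of_card_ge (Subgroup.zpowers_le.mpr hh)
          (by rw [Nat.card_zpowers, ho])).symm ▸ ha
      obtain ⟨k, rfl⟩ := Subgroup.mem_zpowers_iff.mp hmem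
      refine C.centralizer_AG hm ?_ (fun e => ha1 (conj_eq_one_iff.mp e))
      rw [← conj_zpow]
      exact zpow_mem hx k
    have hH1 : H ≠ ⊥ := fun e => by
      rw [e, Subgroup.card_bot] at hc
      change 1 = (CfsgLib.Chev.G2Tw.Ctx.qq m + 1) / 4 at hc
      omega
    have eH := CfsgLib.Chev.ReeCount.centralizer_of_conj le_rfl hH1 hX
    refine ⟨?_, ?_, fun y _ => C.no_orderOf_four y, fun A hA hA1 => by
      rw [CfsgLib.Chev.ReeCount.centralizer_of_conj hA hA1 hX, eH]⟩
    · rw [eH]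
      refine ⟨⟨?_⟩⟩
      rintro ⟨_, u, hu, rfl⟩ ⟨_, v, hv, rfl⟩
      exact Subtype.ext (by
        simp only [Subgroup.coe_mul]
        rw [← map_mul, ← map_mul, C.WG_comm hu hv])
    · rw [eH, Subgroup.card_map_of_injective (MulAut.conj _).injective]
      exact C.card_WG

end Cfsg.Agent.S2359
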