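import Cfsg.Statements.S2360
import Cfsg.Agent.Unitary.SUThreeInvol

set_option autoImplicit false
open Cfsg

namespace Cfsg.Agent.S2360

/-- Let q be odd, F the field with q² elements and S = SU_3(F) (determinant-one isometries of the standard Hermitian form). Then all involutions of S are conjugate; there are exactly q²(q²−q+1) of them; the centralizer of an involution has order q(q+1)(q²−1), the order of the full unitary group of degree 2; and for two distinct commuting involutions t and x there is exactly one further involution commuting with both. -/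
theorem result {F : Type*} [Field F] [Fintype F] {q : ℕ} (hq : Odd q)
    (hF : Fintype.card F = q ^ 2) (t : ↥(Cfsg.SU 3 F q)) (ht : t ≠ 1) (ht2 : t * t = 1) :
    (∀ x : ↥(Cfsg.SU 3 F q), x ≠ 1 → x * x = 1 → ∃ g : ↥(Cfsg.SU 3 F q), g * t * g⁻¹ = x) ∧
    Nat.card {x : ↥(Cfsg.SU 3 F q) // x ≠ 1 ∧ x * x = 1} = q ^ 2 * (q ^ 2 - q + 1) ∧
    Nat.card ↥(Subgroup.centralizer ({t} : Set ↥(Cfsg.SU 3 F q))) = q * (q + 1) * (q ^ 2 - 1) ∧
    ∀ x : ↥(Cfsg.SU 3 F q), x ≠ 1 → x * x = 1 → x ≠ t → Commute t x →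
      Nat.card {y : ↥(Cfsg.SU 3 F q) // y ≠ 1 ∧ y * y = 1 ∧ y ≠ t ∧ y ≠ x ∧ Commute t y ∧ Commute x y} = 1 := by
  have hF' : Nat.card F = q ^ 2 := by rw [Nat.card_eq_fintype_card, hF]
  refine ⟨fun x hx hx2 => CfsgLib.Unitary.SUThree.exists_conj hF' hq ht ht2 hx hx2,
    CfsgLib.Unitary.SUThree.card_invol hF' hq, CfsgLib.Unitary.SUThree.card_centralizer hF' hq ht ht2, ?_⟩
  intro x hx hx2 hxt hcomm
  obtain ⟨v, hv, rfl⟩ := CfsgLib.Unitary.SUThree.eq_refl_of_invol hF' hq ht ht2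
  obtain ⟨w, hw, rfl⟩ := CfsgLib.Unitary.SUThree.eq_refl_of_invol hF' hq hx hx2
  have hwv : Cfsg.hermForm 3 F q w v = 0 :=
    ((CfsgLib.Unitary.SUThree.commute_iff hF' hq hv hw).1 hcomm).resolve_right hxt
  have hq0 := CfsgLib.Unitary.SUThree.q_ne_zero hF'
  obtain ⟨y, hy, hyv, hyw⟩ := CfsgLib.Unitary.SUThree.exists_perp hF' hv hw (by
    rw [hwv, zero_pow (by omega)]; exact zero_ne_one)
  have hyw' : Cfsg.hermForm 3 F q w y = 0 := by
    rw [CfsgLib.Unitary.herm_swap hF' y w, hyw, zero_pow hq0]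
  have hc1 := (CfsgLib.Unitary.SUThree.commute_iff hF' hq hv hy).2 (Or.inl hyv)
  have hc2 := (CfsgLib.Unitary.SUThree.commute_iff hF' hq hy hw).2 (Or.inl hyw')
  have hne : ∀ z u : Fin 3 → F, Cfsg.hermForm 3 F q u u = 1 → Cfsg.hermForm 3 F q z z = 1 →
      Cfsg.hermForm 3 F q z u = 0 →
      CfsgLib.Unitary.SUThree.refl hF' z ≠ CfsgLib.Unitary.SUThree.refl hF' u := by
    intro z u hu hz h0 e
    obtain ⟨a, ha, rfl⟩ := (CfsgLib.Unitary.SUThree.refl_eq_iff hF' hq hu hz).1 e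
    rw [CfsgLib.Unitary.herm_smul_left, hu, mul_one] at h0
    simp [h0] at ha
  rw [Nat.card_eq_one_iff_exists]
  refine ⟨⟨_, CfsgLib.Unitary.SUThree.refl_ne_one hF' hq hy, CfsgLib.Unitary.SUThree.refl_sq hF' hy,
    hne y v hv hy hyv, hne y w hw hy hyw, hc1, hc2.symm⟩, ?_⟩
  rintro ⟨z', hz1, hz2, hzt, hzx, hzc, hzc'⟩
  obtain ⟨z, hz, rfl⟩ := CfsgLib.Unitary.SUThree.eq_refl_of_invol hF' hq hz1 hz2
  have h1 := ((CfsgLib.Unitary.SUThree.commute_iff hF' hq hv hz).1 hzc).resolve_right hzt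
  have h2 := ((CfsgLib.Unitary.SUThree.commute_iff hF' hq hw hz).1 hzc').resolve_right hzx
  exact Subtype.ext (CfsgLib.Unitary.SUThree.perp_unique hF' hv hw hwv ⟨hy, hyv, hyw⟩ ⟨hz, h1, h2⟩)

end Cfsg.Agent.S2360
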