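import Cfsg.Statements.S2362
import Cfsg.Agent.OrderBC.NoElement
import Cfsg.Agent.OrderBC.SympElement
import Cfsg.Agent.Quad.POmega

set_option autoImplicit false
open Cfsg

namespace Cfsg.Agent.S2362

/-- Let F be a finite field of odd order and n ≥ 3. The simple orthogonal group PΩ(2n+1, F) (type B_n) and the projective symplectic group PSp(2n, F) (type C_n), which have the same order, do not have the same set of element orders. -/
theorem result {F : Type*} [Field F] [Fintype F] (hodd : Odd (Fintype.card F)) (n : ℕ) (hn : 3 ≤ n) :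
    Set.range (orderOf : Cfsg.POmega F (Cfsg.quadFormOdd n F) → ℕ) ≠ Set.range (orderOf : Cfsg.PSp n F → ℕ) := by
  obtain ⟨p, hp⟩ := CharP.exists F
  haveI := Fact.mk (CharP.char_is_prime F p)
  obtain ⟨k, rfl⟩ : ∃ k, n = k + 1 := ⟨n - 1, by omega⟩
  have hp2 : p ≠ 2 := by
    rintro rfl
    obtain ⟨e, -, he⟩ := FiniteField.card F 2
    rw [he] at hodd
    exact Nat.not_even_iff_odd.2 hodd ((Nat.even_pow' e.ne_zero).2 even_two)
  have h2 : (2 : F) ≠ 0 := fun h => hp2 ((Nat.prime_dvd_prime_iff_eq Fact.out Nat.prime_two).1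
    ((CharP.cast_eq_zero_iff F p 2).1 (by exact_mod_cast h)))
  intro heq
  obtain ⟨x, hx⟩ := CfsgLib.OrderBC.exists_orderOf_psp F (p := p) (k := k) hp2 (by omega)
  have hmem : orderOf x ∈ Set.range (orderOf : Cfsg.POmega F (Cfsg.quadFormOdd (k + 1) F) → ℕ) :=
    heq ▸ ⟨x, rfl⟩
  rw [← CfsgLib.Quad.oddQ_coe] at hmem
  obtain ⟨y, hy⟩ := hmem
  rw [hx] at hy
  have hQ := CfsgLib.Quad.oddQ_nondeg (F := F) h2 (k + 1)
  have hd : Module.finrank F (Unit ⊕ (Fin (k + 1) ⊕ Fin (k + 1)) → F) = 2 * k + 3 := by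
    simp; omega
  have hc := CfsgLib.Quad.card_center_omega_one hQ (by omega) (Or.inr
    (CfsgLib.Quad.negIso_notMem_of_odd h2 ⟨k + 1, by omega⟩))
  obtain ⟨g, hg⟩ := QuotientGroup.mk_surjective (CfsgLib.Quad.pOmegaEquiv (CfsgLib.Quad.oddQ (k + 1)) y)
  have hinj : Function.Injective (QuotientGroup.mk' (Subgroup.center
      ↥(commutator (CfsgLib.Quad.oGroup (CfsgLib.Quad.oddQ (F := F) (k + 1)))))) := by
    rw [← MonoidHom.ker_eq_bot_iff, QuotientGroup.ker_mk', ← Subgroup.card_eq_one]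
    exact hc
  refine CfsgLib.OrderBC.orderOf_ne hQ (p := p) (k := k) hp2 (by omega) hd g.1 g.2 ?_
  rw [Subgroup.orderOf_coe, ← orderOf_injective _ hinj g, QuotientGroup.mk'_apply, hg,
    MulEquiv.orderOf_eq, hy]

end Cfsg.Agent.S2362
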