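import Cfsg.Statements.S2363
import Cfsg.Agent.LieBound.Families

set_option autoImplicit false
open Cfsg

namespace Cfsg.Agent.S2363

/-- Let G be a finite simple group of Lie type in characteristic p and let p^k be the exact power of p dividing the order of G. Then the order of G is less than p^(3k); and unless G is isomorphic to PSL(2, F) for the field F with p^k elements, the cube of the order of G is less than p^(8k) (that is, the order is below p^(8k/3)). -/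
theorem result {G : Type*} [Group G] [Finite G] (p : ℕ) (hp : p.Prime) (hG : Cfsg.IsLieTypeChar p G) :
    Nat.card G < p ^ (3 * (Nat.card G).factorization p) ∧
      ((¬ ∃ (F : Type) (_ : Field F) (_ : Fintype F), Fintype.card F = p ^ (Nat.card G).factorization p ∧
          Nonempty (G ≃* Matrix.ProjectiveSpecialLinearGroup (Fin 2) F)) →
        Nat.card G ^ 3 < p ^ (8 * (Nat.card G).factorization p)) := by
  have key : ∀ {c : ℕ}, Nat.card G = c → CfsgLib.LieBound.OK p c →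
      Nat.card G < p ^ (3 * (Nat.card G).factorization p) ∧
        Nat.card G ^ 3 < p ^ (8 * (Nat.card G).factorization p) := fun e h => e ▸ h
  suffices h : (∃ (F : Type) (_ : Field F) (_ : Fintype F), CharP F p ∧
      Nonempty (G ≃* Matrix.ProjectiveSpecialLinearGroup (Fin 2) F)) ∨
      (Nat.card G < p ^ (3 * (Nat.card G).factorization p) ∧
        Nat.card G ^ 3 < p ^ (8 * (Nat.card G).factorization p)) by
    rcases h with ⟨F, _, _, hchar, ⟨e⟩⟩ | h
    · haveI := hchar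
      have h2 := CfsgLib.LieBound.psl_two (F := F) hp
      rw [← Nat.card_congr e.toEquiv] at h2
      exact ⟨h2.1, fun hne => absurd ⟨F, inferInstance, inferInstance, h2.2, ⟨e⟩⟩ hne⟩
    · exact ⟨h.1, fun _ => h.2⟩
  rcases hG with h | h | h | h | h | h | h | h | ⟨rfl, h⟩ | ⟨rfl, h⟩ | ⟨rfl, h⟩
  · obtain ⟨F, _, _, hc, n, hn, -, ⟨e⟩⟩ := h
    haveI := hc
    rcases hn.eq_or_lt with h2 | h2
    · subst h2
      exact Or.inl ⟨F, inferInstance, inferInstance, hc, ⟨e⟩⟩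
    · exact Or.inr (key (Nat.card_congr e.toEquiv) (CfsgLib.LieBound.ok_psl hp h2))
  · obtain ⟨F, _, _, hc, m, hm, -, ⟨e⟩⟩ := h
    exact Or.inr (key (Nat.card_congr e.toEquiv) (CfsgLib.LieBound.ok_psp hp hm))
  · obtain ⟨F, _, _, hc, n, q, hF, hn, -, ⟨e⟩⟩ := h
    exact Or.inr (key (Nat.card_congr e.toEquiv) (CfsgLib.LieBound.ok_psu hp hF hn))
  · obtain ⟨F, _, _, hc, m, hm, hodd, ⟨e⟩⟩ := h
    exact Or.inr (key (Nat.card_congr e.toEquiv) (CfsgLib.LieBound.ok_pOmega_odd hp hm hodd))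
  · obtain ⟨F, _, _, hc, m, hm, ⟨e⟩⟩ := h
    exact Or.inr (key (Nat.card_congr e.toEquiv) (CfsgLib.LieBound.ok_pOmega_plus hp hm))
  · obtain ⟨F, _, _, hc, m, a, b, hm, hab, ⟨e⟩⟩ := h
    exact Or.inr (key (Nat.card_congr e.toEquiv) (CfsgLib.LieBound.ok_pOmega_minus hp hm hab))
  · obtain ⟨F, _, _, hc, ⟨-, ⟨e⟩⟩ | h⟩ := h
    · exact Or.inr (key (Nat.card_congr e.toEquiv) (CfsgLib.LieBound.ok_G2 hp))
    · rcases h with ⟨⟨e⟩⟩ | ⟨⟨e⟩⟩ | ⟨⟨e⟩⟩ | ⟨⟨e⟩⟩
      · exact Or.inr (key (Nat.card_congr e.toEquiv) (CfsgLib.LieBound.ok_F4 hp))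
      · exact Or.inr (key (Nat.card_congr e.toEquiv) (CfsgLib.LieBound.ok_E6 hp))
      · exact Or.inr (key (Nat.card_congr e.toEquiv) (CfsgLib.LieBound.ok_E7 hp))
      · exact Or.inr (key (Nat.card_congr e.toEquiv) (CfsgLib.LieBound.ok_E8 hp))
  · obtain ⟨K, _, _, hc, q, hq, ⟨hK, ⟨e⟩⟩ | ⟨hK, ⟨e⟩⟩⟩ := h
    · exact Or.inr (key (Nat.card_congr e.toEquiv) (CfsgLib.LieBound.ok_2E6 hp hq hK))
    · exact Or.inr (key (Nat.card_congr e.toEquiv) (CfsgLib.LieBound.ok_3D4 hp hq hK))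
  · obtain ⟨K, _, _, m, hm, hK, ⟨e⟩⟩ := h
    exact Or.inr (key (Nat.card_congr e.toEquiv) (CfsgLib.LieBound.ok_sz hm hK))
  · obtain ⟨K, _, _, m, hm, hK, ⟨e⟩⟩ := h
    exact Or.inr (key (Nat.card_congr e.toEquiv) (CfsgLib.LieBound.ok_2F4 hK))
  · obtain ⟨K, _, _, m, hm, hK, ⟨e⟩⟩ := h
    exact Or.inr (key (Nat.card_congr e.toEquiv) (CfsgLib.LieBound.ok_2G2 hK))

end Cfsg.Agent.S2363
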