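import Cfsg.Statements.S2364
import Cfsg.Agent.LinCentPrime.Basic

set_option autoImplicit false
open Cfsg

namespace Cfsg.Agent.S2364

/-- Let F be a finite field of characteristic p, n ≥ 4, and let a, b be commuting elements of PSL(n, F) with a of order p. Then every prime divisor of the order of b divides the order of SL(n − 2, F). -/
theorem result {F : Type*} [Field F] [Fintype F] (p : ℕ) [Fact p.Prime] [CharP F p] (n : ℕ) (hn : 4 ≤ n)
    (a b : Matrix.ProjectiveSpecialLinearGroup (Fin n) F) (ha : orderOf a = p) (hab : Commute a b) :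
    (orderOf b).primeFactors ⊆ (Nat.card (Matrix.SpecialLinearGroup (Fin (n - 2)) F)).primeFactors := by
  classical
  intro r hr
  rw [Nat.mem_primeFactors] at hr ⊢
  obtain ⟨hrp', hrb, -⟩ := hr
  refine ⟨hrp', ?_, Nat.card_pos.ne'⟩
  by_contra hno
  obtain ⟨hrq, hgl⟩ := CfsgLib.LinCentPrime.not_dvd_card_gl (F := F) (m := n - 2) hrp' (by omega) hno
  have hrp : r ≠ p := by
    rintro rfl
    obtain ⟨k, -, hk⟩ := FiniteField.card F r
    exact hrq (hk ▸ dvd_pow_self r k.pos.ne')
  haveI : Nonempty (Fin n) := ⟨⟨0, by omega⟩⟩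
  obtain ⟨A0, rfl⟩ := QuotientGroup.mk_surjective a
  obtain ⟨B0, rfl⟩ := QuotientGroup.mk_surjective b
  have hAp : A0 ^ p ∈ Subgroup.center (Matrix.SpecialLinearGroup (Fin n) F) := by
    rw [← QuotientGroup.eq_one_iff, QuotientGroup.mk_pow, ← ha, pow_orderOf_eq_one]
  obtain ⟨lam, hlam, hA0p⟩ := Matrix.SpecialLinearGroup.mem_center_iff.1 hAp
  obtain ⟨μ, hμ⟩ := (Finite.injective_iff_surjective.1 (frobenius_inj F p)) lam
  rw [frobenius_def] at hμ
  have hlam0 : lam ≠ 0 := by
    rintro rfl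
    rw [zero_pow Fintype.card_ne_zero] at hlam
    exact zero_ne_one hlam
  have hμ0 : μ ≠ 0 := fun h => hlam0 (by rw [← hμ, h, zero_pow (Fact.out : p.Prime).ne_zero])
  set A : Matrix (Fin n) (Fin n) F := μ⁻¹ • (A0 : Matrix (Fin n) (Fin n) F) with hA
  have hA1 : A ^ p = 1 := by
    rw [hA, smul_pow, ← Matrix.SpecialLinearGroup.coe_pow, ← hA0p, Matrix.scalar_apply, ← hμ,
      ← Matrix.smul_one_eq_diagonal, smul_smul, ← mul_pow, inv_mul_cancel₀ hμ0, one_pow, one_smul]
  obtain ⟨z, hz, hAB⟩ : ∃ z ∈ Subgroup.center (Matrix.SpecialLinearGroup (Fin n) F), A0 * B0 = z * (B0 * A0) := by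
    refine ⟨A0 * B0 * (B0 * A0)⁻¹, ?_, by group⟩
    rw [← QuotientGroup.eq_one_iff, QuotientGroup.mk_mul, QuotientGroup.mk_inv, QuotientGroup.mk_mul,
      QuotientGroup.mk_mul, hab.eq, mul_inv_cancel]
  obtain ⟨c, hc, hzc⟩ := Matrix.SpecialLinearGroup.mem_center_iff.1 hz
  set B : Matrix (Fin n) (Fin n) F := (B0 : Matrix (Fin n) (Fin n) F) with hB
  have hAB' : A * B = c • (B * A) := by
    have h := congrArg (fun g : Matrix.SpecialLinearGroup (Fin n) F => (g : Matrix (Fin n) (Fin n) F)) hAB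
    simp only [Matrix.SpecialLinearGroup.coe_mul, ← hzc, Matrix.scalar_apply, ← Matrix.smul_one_eq_diagonal,
      smul_mul_assoc, one_mul] at h
    rw [hA, hB, smul_mul_assoc, h, mul_smul_comm, smul_comm]
  have hiter : ∀ j, A ^ j * B = c ^ j • (B * A ^ j) := by
    intro j
    induction j with
    | zero => simp
    | succ j ih =>
      rw [pow_succ A, mul_assoc, hAB', mul_smul_comm, ← mul_assoc, ih, smul_mul_assoc, smul_smul, mul_assoc,
        ← pow_succ' c]
  have hc1 : c = 1 := by
    have h := hiter p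
    rw [hA1, one_mul, mul_one] at h
    have hdet : B ≠ 0 := fun h0 => by
      have := B0.2
      rw [← hB, h0, Matrix.det_zero] at this
      exact zero_ne_one this
    have hcp : c ^ p = 1 := by
      by_contra hne
      refine hdet ?_
      have h2 : (c ^ p - 1) • B = 0 := by rw [sub_smul, one_smul, ← h, sub_self]
      exact (smul_eq_zero.1 h2).resolve_left (sub_ne_zero.2 hne)
    exact frobenius_inj F p (by rw [frobenius_def, frobenius_def, hcp, one_pow])
  rw [hc1, one_smul] at hAB'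
  obtain ⟨t, ht⟩ := hrb.trans (orderOf_map_dvd (QuotientGroup.mk' _) B0)
  have ht0 : 0 < t := Nat.pos_of_ne_zero fun h0 => (orderOf_pos B0).ne' (by rw [ht, h0, mul_zero])
  have hR1 : (B ^ t) ^ r = 1 := by
    rw [← pow_mul, mul_comm, ← ht, hB, ← Matrix.SpecialLinearGroup.coe_pow, pow_orderOf_eq_one,
      Matrix.SpecialLinearGroup.coe_one]
  have hR2 : B ^ t ≠ 1 := by
    intro h
    have h2 : B0 ^ t = 1 := by
      apply Subtype.ext
      rw [Matrix.SpecialLinearGroup.coe_pow, ← hB, h]
      rfl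
    exact pow_ne_one_of_lt_orderOf ht0.ne' (by rw [ht]; exact lt_mul_left ht0 hrp'.one_lt) h2
  let e := Matrix.toLinAlgEquiv' (R := F) (n := Fin n)
  refine hR2 (e.injective ((CfsgLib.LinCentPrime.eq_one_of_commute (p := p) hrp' hrp hgl ?_ (by omega)
    (e (B ^ t)) (e (A - 1)) ?_ ?_ ?_ ?_).trans (map_one e).symm))
  · rw [Module.finrank_fintype_fun_eq_card, Fintype.card_fin]; omega
  · rw [← map_pow, hR1, map_one]
  · intro h
    have h1 : A = 1 := sub_eq_zero.1 (e.injective (h.trans (map_zero e).symm))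
    have h2 : A0 ∈ Subgroup.center (Matrix.SpecialLinearGroup (Fin n) F) := by
      refine Matrix.SpecialLinearGroup.mem_center_iff.2 ⟨μ, ?_, ?_⟩
      · have := A0.2
        rw [show (A0 : Matrix (Fin n) (Fin n) F) = μ • (1 : Matrix (Fin n) (Fin n) F) by
          rw [← h1, hA, smul_smul, mul_inv_cancel₀ hμ0, one_smul], Matrix.det_smul, Matrix.det_one, mul_one] at this
        exact this
      · rw [Matrix.scalar_apply, ← Matrix.smul_one_eq_diagonal, ← h1, hA, smul_smul, mul_inv_cancel₀ hμ0, one_smul]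
    rw [(QuotientGroup.eq_one_iff _).2 h2, orderOf_one] at ha
    exact (Fact.out : p.Prime).ne_one ha.symm
  · exact ⟨p, by rw [← map_pow, sub_pow_char_of_commute p (Commute.one_right A), hA1, one_pow, sub_self, map_zero]⟩
  · exact ((Commute.pow_right (show Commute A B from hAB') t).symm.sub_right (Commute.one_right _)).map e

end Cfsg.Agent.S2364
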