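import Cfsg.Statements.S2365
import Cfsg.Agent.UnitCentPrime.Basic

set_option autoImplicit false
open Cfsg

namespace Cfsg.Agent.S2365

/-- Let q be a power of the prime p, F the field with q² elements, m ≥ 4, and let a, b be commuting elements of PSU(m, q) with a of order p. Then every prime divisor of the order of b divides the order of SU(m − 2, q). -/
theorem result {F : Type*} [Field F] [Fintype F] (p : ℕ) [Fact p.Prime] [CharP F p] (m q : ℕ) (hm : 4 ≤ m) (hF : Fintype.card F = q ^ 2)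
    (a b : Cfsg.PSU m F q) (ha : orderOf a = p) (hab : Commute a b) :
    (orderOf b).primeFactors ⊆ (Nat.card ↥(Cfsg.SU (m - 2) F q)).primeFactors := by
  classical
  intro r hr
  rw [Nat.mem_primeFactors] at hr ⊢
  obtain ⟨hrp', hrb, -⟩ := hr
  refine ⟨hrp', ?_, Nat.card_pos.ne'⟩
  by_contra hno
  have hK : Nat.card F = q ^ 2 := by rw [Nat.card_eq_fintype_card, hF]
  have hq : 2 ≤ q := CfsgLib.Forms.two_le_q hK
  obtain ⟨hu, hq1, he⟩ := CfsgLib.UnitCentPrime.not_dvd_card_SU hK hrp' (by omega) hno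
  have hpq : p ∣ q := by
    obtain ⟨k, -, hk⟩ := FiniteField.card F p
    rw [hF] at hk
    exact (Fact.out : p.Prime).dvd_of_dvd_pow (hk ▸ dvd_pow_self p k.pos.ne' : p ∣ q ^ 2)
  have hrp : r ≠ p := by
    rintro rfl
    exact hu ((ZMod.natCast_eq_zero_iff _ _).2 hpq)
  have hp1 : ¬ p ∣ q + 1 := fun h =>
    (Fact.out : p.Prime).ne_one (Nat.dvd_one.1 ((Nat.dvd_add_right hpq).1 h))
  have hz : ∀ z ∈ Subgroup.center (Cfsg.SU m F q), z ^ (q + 1) = 1 := by
    intro z hz
    obtain ⟨k, hk⟩ : Nat.card (Subgroup.center (Cfsg.SU m F q)) ∣ q + 1 := by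
      rw [CfsgLib.Unitary.card_center_SU hK (by omega)]; exact Nat.gcd_dvd_right _ _
    rw [hk, pow_mul]
    have := congrArg Subtype.val (pow_card_eq_one' (x := (⟨z, hz⟩ : Subgroup.center (Cfsg.SU m F q))))
    simp only [Subgroup.coe_pow, Subgroup.coe_one] at this
    rw [this, one_pow]
  obtain ⟨t, ht⟩ := hrb
  have ht0 : 0 < t := Nat.pos_of_ne_zero fun h0 => (orderOf_pos b).ne' (by rw [ht, h0, mul_zero])
  have hb1 : orderOf (b ^ t) = r := by
    rw [orderOf_pow' _ ht0.ne', ht, Nat.gcd_mul_left_left, Nat.mul_div_cancel _ ht0]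
  obtain ⟨A0, hA0⟩ := QuotientGroup.mk_surjective a
  obtain ⟨B0, hB0⟩ := QuotientGroup.mk_surjective (b ^ t)
  set A := A0 ^ (q + 1) with hA
  set B := B0 ^ (q + 1) with hB
  have hAp : A ^ p = 1 := by
    rw [hA, ← pow_mul, mul_comm, pow_mul]
    refine hz _ ?_
    rw [← QuotientGroup.eq_one_iff, QuotientGroup.mk_pow, hA0, ← ha, pow_orderOf_eq_one]
  have hBr : B ^ r = 1 := by
    rw [hB, ← pow_mul, mul_comm, pow_mul]
    refine hz _ ?_
    rw [← QuotientGroup.eq_one_iff, QuotientGroup.mk_pow, hB0, ← hb1, pow_orderOf_eq_one]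
  have hAne : A ≠ 1 := by
    intro h
    have h1 := congrArg (QuotientGroup.mk' (Subgroup.center (Cfsg.SU m F q))) h
    rw [hA, map_pow, map_one, QuotientGroup.mk'_apply, hA0, ← orderOf_dvd_iff_pow_eq_one, ha] at h1
    exact hp1 h1
  have hBne : B ≠ 1 := by
    intro h
    have h1 := congrArg (QuotientGroup.mk' (Subgroup.center (Cfsg.SU m F q))) h
    rw [hB, map_pow, map_one, QuotientGroup.mk'_apply, hB0, ← orderOf_dvd_iff_pow_eq_one, hb1] at h1
    exact hq1 h1
  set z := A * B * A⁻¹ * B⁻¹ with hzdef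
  have hzc : z ∈ Subgroup.center (Cfsg.SU m F q) := by
    rw [← QuotientGroup.eq_one_iff, hzdef, hA, hB]
    simp only [QuotientGroup.mk_mul, QuotientGroup.mk_inv, QuotientGroup.mk_pow, hA0, hB0]
    rw [((hab.pow_right t).pow_pow (q + 1) (q + 1)).eq]
    group
  have hconj : A * B * A⁻¹ = z * B := by rw [hzdef]; group
  have hzr : z ^ r = 1 := by
    have h1 := congrArg (· ^ r) hconj
    simp only [conj_pow, hBr, mul_one, mul_inv_cancel] at h1
    rw [Commute.mul_pow ((Subgroup.mem_center_iff.1 hzc B).symm : Commute z B), hBr, mul_one] at h1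
    exact h1.symm
  have hz1 : z = 1 := by
    have h1 := Nat.dvd_gcd (orderOf_dvd_of_pow_eq_one hzr) (orderOf_dvd_of_pow_eq_one (hz z hzc))
    rw [(hrp'.coprime_iff_not_dvd.2 hq1).gcd_eq_one, Nat.dvd_one, orderOf_eq_one_iff] at h1
    exact h1
  have hAB : A * B = B * A := by
    rw [hz1, one_mul, mul_inv_eq_iff_eq_mul] at hconj
    exact hconj
  refine hAne (Subtype.ext (Subtype.ext ?_))
  refine CfsgLib.UnitCentPrime.eq_one_of_commute_unitary (p := p) hK hrp' hrp (by omega) hu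
    (fun i h1 h2 => he i h1 (by omega)) (Matrix.SpecialLinearGroup.toGL B.1) B.2 ?_ ?_ _ ?_ ?_
  · rw [← map_pow, ← Subgroup.coe_pow, hBr, Subgroup.coe_one, map_one]
  · intro h
    exact hBne (Subtype.ext (Subtype.ext (congrArg Units.val h)))
  · rw [← Matrix.SpecialLinearGroup.coe_pow, ← Subgroup.coe_pow, hAp]; rfl
  · exact congrArg (fun g : Cfsg.SU m F q => ((g.1 : Matrix.SpecialLinearGroup (Fin m) F) : Matrix (Fin m) (Fin m) F)) hAB

end Cfsg.Agent.S2365
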