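import Cfsg.Statements.S2370
import Cfsg.Agent.Chev.F4TwoExponent
-- import your own Cfsg.Agent.* helpers here

set_option autoImplicit false
open Cfsg

namespace Cfsg.Agent.S2370

/-- Let q = 2^(2m+1) with m ≥ 1. Every element of 2-power order of the large Ree group ²F₄(q) has order at most 32. -/
theorem result {K : Type*} [Field K] [Fintype K] (m : ℕ) (hm : 1 ≤ m) (hK : Fintype.card K = 2 ^ (2 * m + 1))
    (x : ↥(Cfsg.Lie.twistedF4 K (2 ^ m))) (hx : ∃ j : ℕ, orderOf x = 2 ^ j) : orderOf x ≤ 32 := by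
  obtain ⟨C⟩ := CfsgLib.Chev.F4Tw.exists_ctx hK
  haveI : CharP K 2 := (CharP.charP_iff_prime_eq_zero Nat.prime_two).mpr C.hp
  classical
  generalize hq : 2 ^ (2 * m + 1) = q at *
  have hev : Even q := hq ▸ (Nat.even_pow.2 ⟨even_two, by omega⟩)
  have h1 : 1 ≤ q := hq ▸ Nat.one_le_two_pow
  have ho : Odd ((q - 1) * (q ^ 3 + 1) * (q ^ 4 - 1) * (q ^ 6 + 1)) := by
    refine ((Odd.mul ?_ ?_).mul ?_).mul ?_
    · exact Nat.Even.sub_odd h1 hev odd_one
    · exact (hev.pow_of_ne_zero (by norm_num)).add_one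
    · exact Nat.Even.sub_odd (Nat.one_le_pow _ _ h1) (hev.pow_of_ne_zero (by norm_num)) odd_one
    · exact (hev.pow_of_ne_zero (by norm_num)).add_one
  refine Nat.le_of_dvd (by norm_num) (orderOf_dvd_of_pow_eq_one
    (CfsgLib.Chev.F4Exp.pow_eq_one_of_sylow (Cfsg.Lie.chevF4.posUnipotent K) (Cfsg.Lie.twistedF4 K (2 ^ m))
      (k := (2 * m + 1) * 12) ?_ ?_ ho (fun g hg => CfsgLib.Chev.F4Exp.pos_pow_thirty_two hg) x hx))
  · have e : Cfsg.Lie.chevF4.posUnipotent K ⊓ Cfsg.Lie.twistedF4 K (2 ^ m) = C.Z.U1 := by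
      rw [inf_comm]; exact C.Z.inf_pos
    rw [e, C.card_U1, ← pow_mul]
  · have hc : C.Z.G1 = Cfsg.Lie.twistedF4 K (2 ^ m) := C.G1_eq
    rw [← hc, C.card_group, pow_mul, hq]
    ring

end Cfsg.Agent.S2370
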