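import Cfsg.Statements.S2589
import Cfsg.Agent.Classical.SemisimpleSymp
-- import your own Cfsg.Agent.* helpers here

set_option autoImplicit false
open Cfsg

namespace Cfsg.Agent.S2589

/-- Two semisimple elements of the finite symplectic group Sp_2m(F) (elements of order prime to the characteristic) are conjugate in Sp_2m(F) if and only if they are conjugate in GL_2m(F). -/
theorem result {F : Type*} [Field F] [Fintype F] {p : ℕ} [Fact p.Prime] [CharP F p] {m : ℕ} (A B : Matrix.symplecticGroup (Fin m) F) (hA : (orderOf A).Coprime p) : IsConj A B ↔ IsConj (A : Matrix (Fin m ⊕ Fin m) (Fin m ⊕ Fin m) F) (B : Matrix (Fin m ⊕ Fin m) (Fin m ⊕ Fin m) F) := by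
  constructor
  · intro h
    exact MonoidHom.map_isConj (Matrix.symplecticGroup (Fin m) F).subtype h
  · rintro ⟨c, hc⟩
    have hG : Matrix.J (Fin m) F * (-Matrix.J (Fin m) F) = 1 := by
      rw [mul_neg, Matrix.J_squared, neg_neg]
    have hε : (Matrix.J (Fin m) F).transpose = (-1 : F) • Matrix.J (Fin m) F := by
      rw [Matrix.J_transpose, neg_one_smul]
    have halt : ∀ x : Fin m ⊕ Fin m → F, dotProduct x (Matrix.mulVec (Matrix.J (Fin m) F) x) = 0 := fun x => by
      simp [Matrix.J, Matrix.mulVec, dotProduct, Fintype.sum_sum_type, Matrix.fromBlocks, Matrix.one_apply, mul_comm]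
    have hadj : ∀ M : Matrix.symplecticGroup (Fin m) F,
        CfsgLib.SemiConj.adjG (Matrix.J (Fin m) F) (-Matrix.J (Fin m) F)
          (M : Matrix (Fin m ⊕ Fin m) (Fin m ⊕ Fin m) F) * (M : Matrix (Fin m ⊕ Fin m) (Fin m ⊕ Fin m) F) = 1 := by
      intro M
      rw [CfsgLib.SemiConj.adjG, mul_assoc, mul_assoc, ← mul_assoc (Matrix.transpose _) (Matrix.J (Fin m) F),
        SymplecticGroup.mem_iff'.1 M.2]
      exact mul_eq_one_comm.1 hG
    have hN : ((orderOf A : ℕ) : F) ≠ 0 := by
      rw [ne_eq, CharP.cast_eq_zero_iff F p]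
      exact fun h => (Fact.out : p.Prime).not_dvd_one (hA ▸ Nat.dvd_gcd h dvd_rfl)
    obtain ⟨Y, hY, hYA⟩ := CfsgLib.SemiConj.exists_symp_conj hG hε halt hN
      (A := (A : Matrix (Fin m ⊕ Fin m) (Fin m ⊕ Fin m) F)) (B := (B : Matrix (Fin m ⊕ Fin m) (Fin m ⊕ Fin m) F))
      (by rw [← orderOf_submonoid]; exact pow_orderOf_eq_one _)
      (hadj A) (hadj B) (Units.isUnit c) hc
    have hYm : Y ∈ Matrix.symplecticGroup (Fin m) F := by
      rw [SymplecticGroup.mem_iff']
      have h := congrArg (Matrix.J (Fin m) F * ·) hY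
      simp only [CfsgLib.SemiConj.adjG, ← mul_assoc, mul_one, hG, one_mul] at h
      exact h
    exact ⟨toUnits ⟨Y, hYm⟩, Subtype.ext hYA⟩

end Cfsg.Agent.S2589
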