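import Cfsg.Statements.S2385
import Cfsg.Agent.Geo.SpSemiClasses
import Cfsg.Agent.S2589

set_option autoImplicit false
open Cfsg

namespace Cfsg.Agent.S2385

/-- In the symplectic group `Sp_{2n}(q)`, `q` a power of the prime `p`, the number of conjugacy classes of elements of order prime to `p` is `q^n`. -/
theorem result {F : Type*} [Field F] [Fintype F] {q : ℕ} (hq : Fintype.card F = q) (p : ℕ) [Fact p.Prime] [CharP F p] (n : ℕ) :
    Nat.card {c : ConjClasses ↥(Matrix.symplecticGroup (Fin n) F) //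
      ∃ g : ↥(Matrix.symplecticGroup (Fin n) F), ConjClasses.mk g = c ∧ (orderOf g).Coprime p} = q ^ n := by
  classical
  rw [← hq, ← CfsgLib.Geo.SpSemiClasses.card_polys (K := F) n]
  let e : Fin n ⊕ Fin n ≃ Fin (n + n) := finSumFinEquiv
  let R := Matrix.reindexAlgEquiv F F e
  let ι₀ : ↥(Matrix.symplecticGroup (Fin n) F) →* GL (Fin n ⊕ Fin n) F :=
    (Matrix.symplecticGroup (Fin n) F).subtype.toHomUnits
  let ι : ↥(Matrix.symplecticGroup (Fin n) F) →* GL (Fin (n + n)) F :=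
    (Units.map R.toRingEquiv.toMonoidHom).comp ι₀
  have hι : Function.Injective ι := fun x y h => Subtype.ext (R.injective (congrArg Units.val h))
  have hιc : ∀ h, (ι h).val.charpoly = (h : Matrix (Fin n ⊕ Fin n) (Fin n ⊕ Fin n) F).charpoly := fun h =>
    Matrix.charpoly_reindex e _
  have hdual : ∀ h : ↥(Matrix.symplecticGroup (Fin n) F),
      CfsgLib.Geo.USemi.dual (RingHom.id F) (h : Matrix (Fin n ⊕ Fin n) (Fin n ⊕ Fin n) F).charpoly =
        (h : Matrix (Fin n ⊕ Fin n) (Fin n ⊕ Fin n) F).charpoly := by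
    intro h
    rw [show (h : Matrix (Fin n ⊕ Fin n) (Fin n ⊕ Fin n) F) = (ι₀ h).val from rfl,
      ← CfsgLib.Geo.USemi.charpoly_star']
    have hJ : Matrix.J (Fin n) F * (-Matrix.J (Fin n) F) = 1 := by rw [mul_neg, Matrix.J_squared, neg_neg]
    let Ju : GL (Fin n ⊕ Fin n) F := ⟨Matrix.J (Fin n) F, -Matrix.J (Fin n) F, hJ, mul_eq_one_comm.1 hJ⟩
    have e' : (CfsgLib.Geo.USemi.star' (RingHom.id F) (ι₀ h)).val = Ju.val * (ι₀ h).val * (Ju⁻¹).val := by
      show ((ι₀ h)⁻¹).val.transpose = Matrix.J (Fin n) F * (ι₀ h).val * (-Matrix.J (Fin n) F)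
      have h1 : (ι₀ h).val.transpose * Matrix.J (Fin n) F * (ι₀ h).val = Matrix.J (Fin n) F :=
        SymplecticGroup.mem_iff'.1 h.2
      have h2 : ((ι₀ h)⁻¹).val.transpose * (ι₀ h).val.transpose = 1 := by
        rw [← Matrix.transpose_mul, Units.mul_inv, Matrix.transpose_one]
      calc ((ι₀ h)⁻¹).val.transpose = ((ι₀ h)⁻¹).val.transpose * (Matrix.J (Fin n) F * (-Matrix.J (Fin n) F)) := by
            rw [hJ, mul_one]
        _ = _ := by
            conv_lhs => rw [← mul_assoc, ← congrArg (((ι₀ h)⁻¹).val.transpose * ·) h1]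
            simp only [← mul_assoc, h2, one_mul]
    rw [e', Matrix.coe_units_inv, Matrix.charpoly_units_conj]
  let P : ↥(Matrix.symplecticGroup (Fin n) F) → {f : Polynomial F // f.Monic ∧ f.natDegree = n + n ∧
      f.coeff 0 = 1 ∧ CfsgLib.Geo.USemi.dual (RingHom.id F) f = f} := fun h =>
    ⟨(h : Matrix (Fin n ⊕ Fin n) (Fin n ⊕ Fin n) F).charpoly, Matrix.charpoly_monic _,
      by rw [Matrix.charpoly_natDegree_eq_dim, Fintype.card_sum, Fintype.card_fin],
      by
        have h' := Matrix.det_eq_sign_charpoly_coeff (h : Matrix (Fin n ⊕ Fin n) (Fin n ⊕ Fin n) F)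
        rw [SymplecticGroup.det_eq_one h.2, Fintype.card_sum, Fintype.card_fin, ← two_mul, pow_mul, neg_one_sq,
          one_pow, one_mul] at h'
        exact h'.symm,
      hdual h⟩
  have hP : ∀ {x y : ↥(Matrix.symplecticGroup (Fin n) F)}, IsConj x y → P x = P y := fun {x y} h =>
    Subtype.ext (by
      have := CfsgLib.GLClass.charpoly_eq_of_isConj (MonoidHom.map_isConj ι h)
      rwa [hιc, hιc] at this)
  refine Nat.card_eq_of_bijective (fun c => P c.2.choose) ⟨fun c d h => ?_, fun f => ?_⟩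
  · apply Subtype.ext
    rw [← c.2.choose_spec.1, ← d.2.choose_spec.1, ConjClasses.mk_eq_mk_iff_isConj]
    refine (Cfsg.Agent.S2589.result (p := p) _ _ c.2.choose_spec.2).2 ?_
    have hg : ∀ z, (orderOf z).Coprime p → (orderOf (ι z)).Coprime p := fun z hz => by
      rwa [orderOf_injective ι hι z]
    have h1 := MonoidHom.map_isConj (R.symm.toRingEquiv.toMonoidHom.comp (Units.coeHom _))
      (CfsgLib.GLClass.isConj_of_charpoly_eq p (hg _ c.2.choose_spec.2) (hg _ d.2.choose_spec.2)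
        (by rw [hιc, hιc]; exact congrArg Subtype.val h))
    have e1 : ∀ z, R.symm ((ι z).val) = (z : Matrix (Fin n ⊕ Fin n) (Fin n ⊕ Fin n) F) := fun z =>
      R.symm_apply_apply _
    rw [← e1 c.2.choose, ← e1 d.2.choose]
    exact h1
  · obtain ⟨M, hMo, hMc⟩ := CfsgLib.Geo.SpSemi.exists_mem_symplectic p f.2.2.1
      (CfsgLib.Geo.SpSemiClasses.realised_of_dual p _ f.1 rfl f.2.1 f.2.2.2.1 f.2.2.2.2 ⟨n, f.2.2.1⟩)
    refine ⟨⟨ConjClasses.mk M, M, rfl, hMo⟩, ?_⟩
    have hspec := (⟨ConjClasses.mk M, M, rfl, hMo⟩ : {c : ConjClasses ↥(Matrix.symplecticGroup (Fin n) F) //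
      ∃ g, ConjClasses.mk g = c ∧ (orderOf g).Coprime p}).2.choose_spec.1
    exact (hP (ConjClasses.mk_eq_mk_iff_isConj.1 hspec)).trans (Subtype.ext hMc)

end Cfsg.Agent.S2385
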