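import Cfsg.Statements.S2386
import Cfsg.Agent.Geo.USemisimple
import Cfsg.Agent.GLClass.SL

set_option autoImplicit false
open Cfsg

namespace Cfsg.Agent.S2386

/-- In the special unitary group `SU_n(q)` (matrices of determinant one over the field with `q²` elements preserving the standard Hermitian form), `q` a power of the prime `p`, the number of conjugacy classes of elements of order prime to `p` is `q^(n-1)`. -/
theorem result {F : Type*} [Field F] [Fintype F] {q : ℕ} (hF : Fintype.card F = q ^ 2) (p : ℕ) [Fact p.Prime] [CharP F p] (n : ℕ) (hn : 1 ≤ n) :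
    Nat.card {c : ConjClasses ↥(Cfsg.SU n F q) // ∃ g : ↥(Cfsg.SU n F q), ConjClasses.mk g = c ∧ (orderOf g).Coprime p} = q ^ (n - 1) := by
  have hK : Nat.card F = q ^ 2 := by rw [Nat.card_eq_fintype_card, hF]
  obtain ⟨m, rfl⟩ : ∃ m, n = m + 1 := ⟨n - 1, by omega⟩
  rw [Nat.add_sub_cancel, ← CfsgLib.Geo.USemi.card_dual_polys hK (m := m)]
  let toGU : ∀ g : Cfsg.SU (m + 1) F q, Cfsg.GU (m + 1) F q := fun g =>
    ⟨Matrix.SpecialLinearGroup.toGL g.1, g.2⟩
  have hsign : ∀ M : Matrix (Fin (m + 1)) (Fin (m + 1)) F,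
      M.det = 1 ↔ M.charpoly.coeff 0 = (-1 : F) ^ (m + 1) := fun M => by
    rw [Matrix.det_eq_sign_charpoly_coeff, Fintype.card_fin]
    rcases neg_one_pow_eq_or F (m + 1) with e | e <;> rw [e]
    · simp
    · constructor <;> intro h <;> linear_combination -h
  let P : Cfsg.SU (m + 1) F q → {f : Polynomial F // f.Monic ∧ f.natDegree = m + 1 ∧
      f.coeff 0 = (-1 : F) ^ (m + 1) ∧ CfsgLib.Geo.USemi.dual (CfsgLib.Forms.frobQ hK) f = f} := fun g =>
    ⟨g.1.1.charpoly, Matrix.charpoly_monic _, by rw [Matrix.charpoly_natDegree_eq_dim, Fintype.card_fin],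
      (hsign _).1 g.1.2, CfsgLib.Geo.USemi.dual_charpoly_eq hK (g := (toGU g).1) (toGU g).2⟩
  have hP : ∀ {g k : Cfsg.SU (m + 1) F q}, IsConj g k → P g = P k := fun {g k} h =>
    Subtype.ext (CfsgLib.GLClass.charpoly_eq_of_isConj_sl (MonoidHom.map_isConj (Cfsg.SU (m + 1) F q).subtype h))
  refine Nat.card_eq_of_bijective (fun c => P c.2.choose) ⟨fun c d h => ?_, fun f => ?_⟩
  · apply Subtype.ext
    rw [← c.2.choose_spec.1, ← d.2.choose_spec.1, ConjClasses.mk_eq_mk_iff_isConj]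
    exact CfsgLib.Geo.USemi.isConj_SU p hK _ _ c.2.choose_spec.2 d.2.choose_spec.2 (congrArg Subtype.val h)
  · obtain ⟨g, hg, hgo, hgf⟩ := CfsgLib.Geo.USemi.exists_GU_charpoly p hK f.2.1 f.2.2.1
      (by rw [f.2.2.2.1]; exact pow_ne_zero _ (neg_ne_zero.2 one_ne_zero)) f.2.2.2.2
    let s : Cfsg.SU (m + 1) F q := ⟨⟨g.1, (hsign _).2 (by rw [hgf]; exact f.2.2.2.1)⟩, hg⟩
    have hs : (orderOf s).Coprime p := by
      rw [← Subgroup.orderOf_coe, ← CfsgLib.GLClass.orderOf_toGL,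
        show Matrix.SpecialLinearGroup.toGL (s : Matrix.SpecialLinearGroup (Fin (m + 1)) F) = g from Units.ext rfl]
      exact hgo
    refine ⟨⟨ConjClasses.mk s, s, rfl, hs⟩, ?_⟩
    have hspec := (⟨ConjClasses.mk s, s, rfl, hs⟩ : {c : ConjClasses (Cfsg.SU (m + 1) F q) //
      ∃ g, ConjClasses.mk g = c ∧ (orderOf g).Coprime p}).2.choose_spec.1
    exact (hP (ConjClasses.mk_eq_mk_iff_isConj.1 hspec)).trans (Subtype.ext hgf)

end Cfsg.Agent.S2386
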