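import Cfsg.Statements.S2389
import Cfsg.Agent.GLClass.Classes
import Cfsg.Agent.S2589

set_option autoImplicit false
open Cfsg

namespace Cfsg.Agent.S2389

/-- In the symplectic group `Sp_{2n}(q)`, `q` a power of the prime `p`, two elements of order prime to `p` with the same characteristic polynomial are conjugate in `Sp_{2n}(q)`. -/
theorem result {F : Type*} [Field F] [Fintype F] (p : ℕ) [Fact p.Prime] [CharP F p] (n : ℕ)
    (g h : ↥(Matrix.symplecticGroup (Fin n) F)) (hg : (orderOf g).Coprime p) (hh : (orderOf h).Coprime p)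
    (hc : (g : Matrix (Fin n ⊕ Fin n) (Fin n ⊕ Fin n) F).charpoly = (h : Matrix (Fin n ⊕ Fin n) (Fin n ⊕ Fin n) F).charpoly) :
    IsConj g h := by
  let σ := Matrix.reindexAlgEquiv F F (finSumFinEquiv (m := n) (n := n))
  let f : ↥(Matrix.symplecticGroup (Fin n) F) →* GL (Fin (n + n)) F :=
    (Units.map (σ.toRingEquiv.toRingHom.toMonoidHom)).comp (Matrix.symplecticGroup (Fin n) F).subtype.toHomUnits
  have hf : Function.Injective f := fun a b e => Subtype.ext (σ.injective (congrArg Units.val e))
  have hcp : ∀ a, (f a : Matrix (Fin (n + n)) (Fin (n + n)) F).charpoly =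
      (a : Matrix (Fin n ⊕ Fin n) (Fin n ⊕ Fin n) F).charpoly := fun a => Matrix.charpoly_reindex _ _
  have h1 := CfsgLib.GLClass.isConj_of_charpoly_eq p (g := f g) (h := f h)
    (by rwa [orderOf_injective f hf]) (by rwa [orderOf_injective f hf]) (by rw [hcp, hcp, hc])
  refine (Cfsg.Agent.S2589.result g h hg).2 ?_
  have h2 := MonoidHom.map_isConj (σ.symm.toRingEquiv.toRingHom.toMonoidHom.comp (Units.coeHom _)) h1
  simp only [MonoidHom.coe_comp, Function.comp_apply, Units.coeHom_apply] at h2
  convert h2 using 1 <;> exact (σ.symm_apply_apply _).symm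

end Cfsg.Agent.S2389
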