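import Cfsg.Statements.S2394
import Cfsg.Agent.S0245
import Cfsg.Agent.S2904
import Mathlib.LinearAlgebra.Matrix.GeneralLinearGroup.Card

set_option autoImplicit false
open scoped MatrixGroups
open Cfsg

namespace Cfsg.Agent.S2394

theorem two_by_two {F : Type*} [Field F] :
    ¬ ∀ a b : ↥(Matrix.symplecticGroup (Fin 1) F), a * b = b * a := by
  intro h
  let A : Matrix (Fin 1 ⊕ Fin 1) (Fin 1 ⊕ Fin 1) F := Matrix.fromBlocks 1 1 0 1
  let B : Matrix (Fin 1 ⊕ Fin 1) (Fin 1 ⊕ Fin 1) F := Matrix.fromBlocks 1 0 1 1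
  have hA : A ∈ Matrix.symplecticGroup (Fin 1) F := by
    rw [SymplecticGroup.mem_iff]
    simp [A, Matrix.J, Matrix.fromBlocks_transpose, Matrix.fromBlocks_multiply]
  have hB : B ∈ Matrix.symplecticGroup (Fin 1) F := by
    rw [SymplecticGroup.mem_iff]
    simp [B, Matrix.J, Matrix.fromBlocks_transpose, Matrix.fromBlocks_multiply]
  have e : A * B = B * A := congrArg Subtype.val (h ⟨A, hA⟩ ⟨B, hB⟩)
  have e' := congrFun (congrFun e (Sum.inl 0)) (Sum.inl 0)
  simp [A, B, Matrix.fromBlocks_multiply] at e'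

/-- The smallest degree of a faithful representation of the symplectic group `Sp_{2n}(q)` over its own field `F_q` is `2n`: every injective homomorphism from `Sp_{2n}(F)` to `GL_d(F)`, `F` the field with `q` elements, has `d ≥ 2n`. -/
theorem result {F : Type*} [Field F] [Fintype F] (n : ℕ) {d : ℕ}
    (ρ : ↥(Matrix.symplecticGroup (Fin n) F) →* GL (Fin d) F) (hρ : Function.Injective ρ) : 2 * n ≤ d := by
  classical
  by_contra hd
  push Not at hd
  obtain ⟨q, hq⟩ : ∃ q, Fintype.card F = q := ⟨_, rfl⟩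
  have hq2 : 1 < q := hq ▸ Fintype.one_lt_card
  by_cases hn1 : n = 1
  · subst hn1
    refine two_by_two fun a b => hρ ?_
    rw [map_mul, map_mul]
    refine Units.ext ?_
    show (ρ a).1 * (ρ b).1 = (ρ b).1 * (ρ a).1
    ext i j
    interval_cases d
    · exact i.elim0
    · simp [Matrix.mul_apply, Fin.eq_zero i, Fin.eq_zero j, mul_comm]
  have hdvd := Subgroup.card_dvd_of_injective ρ hρ
  rw [Cfsg.Agent.S0245.result hq n, Matrix.card_GL_field, hq] at hdvd
  by_cases hex : q = 2 ∧ n = 3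
  · obtain ⟨rfl, rfl⟩ := hex
    interval_cases d <;> norm_num [Finset.prod_range_succ, Fin.prod_univ_succ] at hdvd
  obtain ⟨r, hr, hr1, hr2⟩ := Cfsg.Agent.S2904.result q (2 * n) hq2 (by omega)
    (fun h => hex ⟨h.1, by omega⟩) (fun h => hn1 (by omega))
  have hsp : r ∣ q ^ (n ^ 2) * ∏ i ∈ Finset.range n, (q ^ (2 * (i + 1)) - 1) := by
    refine dvd_mul_of_dvd_right (dvd_trans hr1 ?_) _
    have := Finset.dvd_prod_of_mem (fun i => q ^ (2 * (i + 1)) - 1)
      (Finset.mem_range.2 (show n - 1 < n by omega))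
    rwa [show 2 * (n - 1 + 1) = 2 * n by omega] at this
  obtain ⟨i, -, hi⟩ := (hr.prime.dvd_finsetProd_iff _).1 (hsp.trans hdvd)
  have hrq : ¬ r ∣ q := fun h => hr.not_dvd_one (by
    have h' : r ∣ q ^ (2 * n) := dvd_pow h (by omega)
    have h3 : 1 ≤ q ^ (2 * n) := Nat.one_le_pow _ _ (by omega)
    have := Nat.dvd_sub h' hr1
    rwa [show q ^ (2 * n) - (q ^ (2 * n) - 1) = 1 by omega] at this)
  have he : q ^ d - q ^ (i : ℕ) = q ^ (i : ℕ) * (q ^ (d - i) - 1) := by
    rw [Nat.mul_sub, mul_one, ← pow_add, Nat.add_sub_cancel' i.isLt.le]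
  rw [he] at hi
  rcases hr.dvd_mul.1 hi with h | h
  · exact hrq (hr.dvd_of_dvd_pow h)
  · exact hr2 (d - i) (by have := i.isLt; omega) (by omega) h

end Cfsg.Agent.S2394
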