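import Cfsg.Statements.S2398
import Cfsg.Agent.ChevMult.Universal
-- import your own Cfsg.Agent.* helpers here

set_option autoImplicit false
open Cfsg

namespace Cfsg.Agent.S2398

/-- Universality of the group Δ presented by Steinberg's generators with relators (R1), (R2), over a field with more than four elements (types G₂, B₂, D₄, F₄, E₆, E₇, E₈): for every central extension `π₁ : E → G₁` (surjective, central kernel) and every homomorphism `σ : Δ → G₁` there is exactly one homomorphism `τ : Δ → E` with `π₁ ∘ τ = σ`. In particular every central extension of Δ splits; together with the fact that Δ maps onto the Chevalley group with central kernel, this makes Δ the universal central extension of the Chevalley group. -/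
theorem result {K : Type*} [Field K] (hK5 : ∃ s : Finset K, 4 < s.card) (D : Cfsg.Lie.ChevalleyDatum) (hD : D ∈ [Cfsg.Lie.chevG2, Cfsg.Lie.chevB2, Cfsg.Lie.chevD4, Cfsg.Lie.chevF4, Cfsg.Lie.chevE6, Cfsg.Lie.chevE7, Cfsg.Lie.chevE8])
    {G₁ E : Type*} [Group G₁] [Group E] (π₁ : E →* G₁) (hπ : Function.Surjective π₁) (hc : π₁.ker ≤ Subgroup.center E)
    (σ : D.SteinbergCover K →* G₁) : ∃! τ : D.SteinbergCover K →* E, π₁.comp τ = σ := by
  open CfsgLib.Chev CfsgLib.ChevMult in
  have hK : D ∈ [Cfsg.Lie.chevB2, Cfsg.Lie.chevG2] → ∃ x : K, x ≠ 0 ∧ x ≠ 1 := fun _ => by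
    classical
    obtain ⟨s, hs⟩ := hK5
    obtain ⟨x, hx, hx'⟩ := Finset.exists_mem_notMem_of_card_lt_card
      (s := {0, 1}) (t := s) ((Finset.card_le_two).trans_lt (by omega))
    exact ⟨x, fun e => hx' (by simp [e]), fun e => hx' (by simp [e])⟩
  have hperf := CfsgLib.Chev.commutator_steinbergCover D hD hK
  have hm : ∀ n, 1 ≤ n → n ≤ 3 → ∃ a : Kˣ, a ^ n ≠ 1 := fun n => CfsgLib.ChevMult.exists_pow_ne hK5
  simp only [List.mem_cons, List.not_mem_nil, or_false] at hD
  rcases hD with rfl | rfl | rfl | rfl | rfl | rfl | rfl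
  all_goals open CfsgLib.Chev CfsgLib.ChevMult in first
    | exact lift_unique good_G2 ⟨_, wits_G2⟩ hperf
        (fun Γ S => CentExt.exists_hom_tor (CentExt.torHyp S
          (fun n h1 h2 => hm n h1 h2) (fun c hc => by simp [G2Tor.cfg] at hc; subst hc; simp)
          (fun _ => hK5) G2Tor.cfg_ok)) π₁ hπ hc σ
    | exact lift_unique good_B2 ⟨_, wits_B2⟩ hperf
        (fun Γ S => CentExt.exists_hom_tor (CentExt.torHyp S
          (fun n h1 (h2 : n ≤ 2) => hm n h1 (by omega))
          (fun c hc => by simp [B2Tor.cfg] at hc; subst hc; simp)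
          (fun _ => hK5) B2Tor.cfg_ok)) π₁ hπ hc σ
    | exact lift_unique good_D4 ⟨_, wits_D4⟩ hperf
        (fun Γ S => CentExt.exists_hom_tor (CentExt.torHyp S
          (fun n h1 (h2 : n ≤ 2) => hm n h1 (by omega))
          (fun c hc => by simp [D4Tor.cfg] at hc; subst hc; simp)
          (fun h => Bool.noConfusion h) D4Tor.cfg_ok)) π₁ hπ hc σ
    | exact lift_unique good_F4 ⟨_, wits_F4⟩ hperf
        (fun Γ S => CentExt.exists_hom_tor (CentExt.torHyp S
          (fun n h1 (h2 : n ≤ 2) => hm n h1 (by omega))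
          (fun c hc => by simp [F4Tor.cfg] at hc; subst hc; simp)
          (fun h => Bool.noConfusion h) F4Tor.cfg_ok)) π₁ hπ hc σ
    | exact lift_unique good_E6 ⟨_, wits_E6⟩ hperf
        (fun Γ S => S.exists_hom_pure E6Pure.ok) π₁ hπ hc σ
    | exact lift_unique good_E7 ⟨_, wits_E7⟩ hperf
        (fun Γ S => S.exists_hom_pure E7Pure.ok) π₁ hπ hc σ
    | exact lift_unique good_E8 ⟨_, wits_E8⟩ hperf
        (fun Γ S => S.exists_hom_pure E8Pure.ok) π₁ hπ hc σ

end Cfsg.Agent.S2398
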