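import Cfsg.Statements.S2399
import Cfsg.Agent.ChevMult.ProjRep
import Cfsg.Agent.ChevMult.Coprime
-- import your own Cfsg.Agent.* helpers here

set_option autoImplicit false
open scoped MatrixGroups
open Cfsg

namespace Cfsg.Agent.S2399

/-- Projective representations in the natural characteristic lift: for each of the types G₂, B₂, D₄, F₄, E₆, E₇, E₈ over any field `K` (for types B₂ and G₂ the field must have more than two elements — the cases where the Chevalley group is not simple are set aside), every homomorphism from the Chevalley group to `PGL_n(L) = GL_n(L)/Z`, `L` a field of the same characteristic as `K`, lifts uniquely to a homomorphism from the group Δ presented by (R1), (R2) to `GL_n(L)`, compatibly with the projection Δ → Chevalley group sending x̄_r(t) to x_r(t). -/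
theorem result {K : Type*} [Field K] (D : Cfsg.Lie.ChevalleyDatum) (hD : D ∈ [Cfsg.Lie.chevG2, Cfsg.Lie.chevB2, Cfsg.Lie.chevD4, Cfsg.Lie.chevF4, Cfsg.Lie.chevE6, Cfsg.Lie.chevE7, Cfsg.Lie.chevE8]) (hK : D ∈ [Cfsg.Lie.chevB2, Cfsg.Lie.chevG2] → ∃ x : K, x ≠ 0 ∧ x ≠ 1)
    (θ : D.SteinbergCover K →* ↥(D.group K))
    (hθ : ∀ (r : ℕ) (t : K), r < D.nroots → ((θ (D.scGen K r t) : GL D.Idx K) : Matrix D.Idx D.Idx K) = D.x K r t)
    {L : Type*} [Field L] (hL : ringChar L = ringChar K) {n : ℕ}
    (φ : ↥(D.group K) →* GL (Fin n) L ⧸ Subgroup.center (GL (Fin n) L)) :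
    ∃! ψ : D.SteinbergCover K →* GL (Fin n) L, (QuotientGroup.mk' (Subgroup.center (GL (Fin n) L))).comp ψ = φ.comp θ := by
  open CfsgLib.Chev CfsgLib.ChevMult in
  have hperf := commutator_steinbergCover D hD hK
  open CfsgLib.Chev CfsgLib.ChevMult in
  by_cases h5 : ∃ s : Finset K, 4 < s.card
  · have hm : ∀ n, 1 ≤ n → n ≤ 3 → ∃ a : Kˣ, a ^ n ≠ 1 := fun n => exists_pow_ne h5
    simp only [List.mem_cons, List.not_mem_nil, or_false] at hD
    rcases hD with rfl | rfl | rfl | rfl | rfl | rfl | rfl
    · exact projective_lift good_G2 hperf θ hθ hL φ fun Γ S _ _ =>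
        CentExt.exists_hom_tor (CentExt.torHyp S
          (fun n h1 h2 => hm n h1 h2) (fun c hc => by simp [G2Tor.cfg] at hc; subst hc; simp)
          (fun _ => h5) G2Tor.cfg_ok)
    · exact projective_lift good_B2 hperf θ hθ hL φ fun Γ S _ _ =>
        CentExt.exists_hom_tor (CentExt.torHyp S
          (fun n h1 (h2 : n ≤ 2) => hm n h1 (by omega))
          (fun c hc => by simp [B2Tor.cfg] at hc; subst hc; simp)
          (fun _ => h5) B2Tor.cfg_ok)
    · exact projective_lift good_D4 hperf θ hθ hL φ fun Γ S _ _ =>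
        CentExt.exists_hom_tor (CentExt.torHyp S
          (fun n h1 (h2 : n ≤ 2) => hm n h1 (by omega))
          (fun c hc => by simp [D4Tor.cfg] at hc; subst hc; simp)
          (fun h => Bool.noConfusion h) D4Tor.cfg_ok)
    · exact projective_lift good_F4 hperf θ hθ hL φ fun Γ S _ _ =>
        CentExt.exists_hom_tor (CentExt.torHyp S
          (fun n h1 (h2 : n ≤ 2) => hm n h1 (by omega))
          (fun c hc => by simp [F4Tor.cfg] at hc; subst hc; simp)
          (fun h => Bool.noConfusion h) F4Tor.cfg_ok)
    · exact projective_lift good_E6 hperf θ hθ hL φ fun Γ S _ _ => S.exists_hom_pure E6Pure.ok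
    · exact projective_lift good_E7 hperf θ hθ hL φ fun Γ S _ _ => S.exists_hom_pure E7Pure.ok
    · exact projective_lift good_E8 hperf θ hθ hL φ fun Γ S _ _ => S.exists_hom_pure E8Pure.ok
  · have hfin : Finite K := by
      by_contra hinf
      have : Infinite K := not_finite_iff_infinite.1 hinf
      obtain ⟨s, hs⟩ := Infinite.exists_subset_card_eq K 5
      exact h5 ⟨s, by omega⟩
    obtain ⟨p, hKp⟩ := CharP.exists K
    have hp : p.Prime := (CharP.char_is_prime_or_zero K p).resolve_right (by
      rintro rfl
      have := CharP.charP_to_charZero K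
      exact not_finite K)
    haveI : Fact p.Prime := ⟨hp⟩
    simp only [List.mem_cons, List.not_mem_nil, or_false] at hD
    rcases hD with rfl | rfl | rfl | rfl | rfl | rfl | rfl
    · exact projective_lift good_G2 hperf θ hθ hL φ fun Γ S hf ht =>
        have := hf hfin; S.exists_hom_coprime posWords_G2 (ht p hp hKp)
    · exact projective_lift good_B2 hperf θ hθ hL φ fun Γ S hf ht =>
        have := hf hfin; S.exists_hom_coprime posWords_B2 (ht p hp hKp)
    · exact projective_lift good_D4 hperf θ hθ hL φ fun Γ S hf ht =>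
        have := hf hfin; S.exists_hom_coprime posWords_D4 (ht p hp hKp)
    · exact projective_lift good_F4 hperf θ hθ hL φ fun Γ S hf ht =>
        have := hf hfin; S.exists_hom_coprime posWords_F4 (ht p hp hKp)
    · exact projective_lift good_E6 hperf θ hθ hL φ fun Γ S _ _ => S.exists_hom_pure E6Pure.ok
    · exact projective_lift good_E7 hperf θ hθ hL φ fun Γ S _ _ => S.exists_hom_pure E7Pure.ok
    · exact projective_lift good_E8 hperf θ hθ hL φ fun Γ S _ _ => S.exists_hom_pure E8Pure.ok

end Cfsg.Agent.S2399
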