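import Cfsg.Statements.S2400
import Cfsg.Agent.ChevMult.SmallCerts
import Cfsg.Agent.ChevMult.SmallField
import Cfsg.Agent.ChevMult.OkE6
import Cfsg.Agent.ChevMult.OkE7
-- import your own Cfsg.Agent.* helpers here

set_option autoImplicit false
open Cfsg

namespace Cfsg.Agent.S2400

/-- Over a finite field `K`, the group presented by Steinberg's relators (R1)–(R3) (the universal Chevalley group) of type E₆ or E₇, or of type B₂ or D₄ with `K` of more than two elements, has trivial Schur multiplier: every finite stem extension of it is an isomorphism (Schur multiplier described through stem extensions as in the definitions). Types G₂, F₄ and E₈ are not covered here. -/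
theorem result {K : Type*} [Field K] [Fintype K] (e : Cfsg.Lie.ChevalleyDatum × ℕ)
    (he : e ∈ [(Cfsg.Lie.chevE6, 0), (Cfsg.Lie.chevE7, 0), (Cfsg.Lie.chevB2, 2), (Cfsg.Lie.chevD4, 2)]) (hK : Fintype.card K ≠ e.2) :
    Cfsg.HasCyclicSchurMultiplier (e.1.SteinbergGroup K) 1 := by
  open CfsgLib.Chev CfsgLib.ChevMult in
  simp only [List.mem_cons, List.not_mem_nil, or_false] at he
  open CfsgLib.Chev CfsgLib.ChevMult in
  rcases he with rfl | rfl | rfl | rfl
  · exact st_trivial_of_lift' good_E6 (by simp) ⟨_, wits_E6⟩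
      (commutator_steinbergCover _ (by simp) (fun h => absurd h (by simp [Cfsg.Lie.chevE6, Cfsg.Lie.chevE7, Cfsg.Lie.chevD4, Cfsg.Lie.chevB2, Cfsg.Lie.chevG2])))
      fun Γ _ S => S.exists_hom_pure E6Pure.ok
  · exact st_trivial_of_lift' good_E7 (by simp) ⟨_, wits_E7⟩
      (commutator_steinbergCover _ (by simp) (fun h => absurd h (by simp [Cfsg.Lie.chevE6, Cfsg.Lie.chevE7, Cfsg.Lie.chevD4, Cfsg.Lie.chevB2, Cfsg.Lie.chevG2])))
      fun Γ _ S => S.exists_hom_pure E7Pure.ok
  · replace hK : Fintype.card K ≠ 2 := hK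
    have h3 : 3 ≤ Fintype.card K := by have := Fintype.one_lt_card (α := K); omega
    refine st_trivial_of_lift' good_B2 (by simp) ⟨_, wits_B2⟩
      (commutator_steinbergCover _ (by simp) fun _ => by
        classical
        obtain ⟨x, hx⟩ := Finset.exists_mem_notMem_of_card_lt_card (s := ({0, 1} : Finset K))
          (t := Finset.univ) ((Finset.card_le_two).trans_lt (by rw [Finset.card_univ]; omega))
        exact ⟨x, fun e => hx.2 (by simp [e]), fun e => hx.2 (by simp [e])⟩)
      fun Γ _ S => ?_
    by_cases h4 : 4 ≤ Fintype.card K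
    · have hm : ∀ n, 1 ≤ n → n ≤ B2Tor.cfg.m → ∃ a : Kˣ, a ^ n ≠ 1 :=
        fun n h1 (h2 : n ≤ 2) => exists_pow_ne_of_card h1 (by omega)
      have hU : ∀ c ∈ B2Tor.cfg.U, (c : K) ≠ 0 := fun c hc => by
        simp [B2Tor.cfg] at hc; subst hc; simp
      by_cases h5 : 4 < Fintype.card K
      · exact CentExt.exists_hom_tor (CentExt.torHyp S hm hU (fun _ => ⟨Finset.univ, h5⟩)
          B2Tor.cfg_ok)
      · refine CentExt.exists_hom_tor (CentExt.torHyp' S hm hU ?_ B2Tor.cfg_ok)
        intro _ r hr hv t u g h hg hh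
        have hs := (allBelow_iff _ _).1 b2Self_ok r hr
        rw [Bool.or_eq_true, Bool.not_eq_true', List.any_eq_false] at hs
        rcases hs with hs | hs
        · obtain ⟨v, hvm, hv⟩ := hv
          exact absurd (by rw [hv]; exact Nat.beq_refl 1) (hs v hvm)
        · exact S.commute_self hr (S.com_of_chk hm hU B2Tor.cfg_ok) hs hg hh
    · have hq : Fintype.card K = 3 := by omega
      exact CentExt.exists_hom_three S (natCast_surj_of_card_three hq)
        (three_eq_zero_of_card_three hq) (two_ne_zero_of_card_three hq) b2Three_ok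
  · replace hK : Fintype.card K ≠ 2 := hK
    have h3 : 3 ≤ Fintype.card K := by have := Fintype.one_lt_card (α := K); omega
    refine st_trivial_of_lift' good_D4 (by simp) ⟨_, wits_D4⟩
      (commutator_steinbergCover _ (by simp) (fun h => absurd h (by simp [Cfsg.Lie.chevE6, Cfsg.Lie.chevE7, Cfsg.Lie.chevD4, Cfsg.Lie.chevB2, Cfsg.Lie.chevG2])))
      fun Γ _ S => ?_
    by_cases h4 : 4 ≤ Fintype.card K
    · exact CentExt.exists_hom_tor (CentExt.torHyp S
        (fun n h1 (h2 : n ≤ 2) => exists_pow_ne_of_card h1 (by omega))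
        (fun c hc => by simp [D4Tor.cfg] at hc; subst hc; simp)
        (fun h => Bool.noConfusion h) D4Tor.cfg_ok)
    · have hq : Fintype.card K = 3 := by omega
      exact CentExt.exists_hom_three S (natCast_surj_of_card_three hq)
        (three_eq_zero_of_card_three hq) (two_ne_zero_of_card_three hq) d4Three_ok

end Cfsg.Agent.S2400
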