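import Cfsg.Statements.S2401
import Cfsg.Agent.StPres.RankN

set_option autoImplicit false
open Cfsg

namespace Cfsg.Agent.S2401

/-- The Steinberg presentation of `SL_n` over a finite field for `n ≥ 3`: the group generated by symbols `x_ij(t)` (`i ≠ j`, `t` in the field) subject to `x_ij(t) x_ij(u) = x_ij(t + u)` and, for `i ≠ l`, `x_ij(t) x_kl(u) x_ij(t)⁻¹ x_kl(u)⁻¹ = x_il(tu)` if `j = k` and `= 1` if `j ≠ k`, is isomorphic to `SL_n` by an isomorphism sending `x_ij(t)` to the elementary matrix `1 + t E_ij`. -/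
theorem result {K : Type*} [Field K] [Finite K] (n : ℕ) (hn : 3 ≤ n) :
    ∃ e : PresentedGroup
        ({g : FreeGroup ({ij : Fin n × Fin n // ij.1 ≠ ij.2} × K) | ∃ (a : {ij : Fin n × Fin n // ij.1 ≠ ij.2}) (t u : K),
            g = FreeGroup.of (a, t) * FreeGroup.of (a, u) * (FreeGroup.of (a, t + u))⁻¹} ∪
          {g | ∃ (a b : {ij : Fin n × Fin n // ij.1 ≠ ij.2}) (t u : K), a.1.1 ≠ b.1.2 ∧ a.1.2 ≠ b.1.1 ∧
            g = FreeGroup.of (a, t) * FreeGroup.of (b, u) * (FreeGroup.of (a, t))⁻¹ * (FreeGroup.of (b, u))⁻¹} ∪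
          {g | ∃ (a b : {ij : Fin n × Fin n // ij.1 ≠ ij.2}) (h : a.1.1 ≠ b.1.2) (t u : K), a.1.2 = b.1.1 ∧
            g = FreeGroup.of (a, t) * FreeGroup.of (b, u) * (FreeGroup.of (a, t))⁻¹ * (FreeGroup.of (b, u))⁻¹ *
              (FreeGroup.of (⟨(a.1.1, b.1.2), h⟩, t * u))⁻¹}) ≃* Matrix.SpecialLinearGroup (Fin n) K,
      ∀ (a : {ij : Fin n × Fin n // ij.1 ≠ ij.2}) (t : K), ((e (PresentedGroup.of (a, t)) : Matrix (Fin n) (Fin n) K)) = Matrix.transvection a.1.1 a.1.2 t := by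
  classical
  obtain ⟨m, rfl⟩ : ∃ m, n = m + 3 := ⟨n - 3, by omega⟩
  set rels := ({g : FreeGroup ({ij : Fin (m + 3) × Fin (m + 3) // ij.1 ≠ ij.2} × K) | ∃ (a : {ij : Fin (m + 3) × Fin (m + 3) // ij.1 ≠ ij.2}) (t u : K),
            g = FreeGroup.of (a, t) * FreeGroup.of (a, u) * (FreeGroup.of (a, t + u))⁻¹} ∪
          {g | ∃ (a b : {ij : Fin (m + 3) × Fin (m + 3) // ij.1 ≠ ij.2}) (t u : K), a.1.1 ≠ b.1.2 ∧ a.1.2 ≠ b.1.1 ∧
            g = FreeGroup.of (a, t) * FreeGroup.of (b, u) * (FreeGroup.of (a, t))⁻¹ * (FreeGroup.of (b, u))⁻¹} ∪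
          {g | ∃ (a b : {ij : Fin (m + 3) × Fin (m + 3) // ij.1 ≠ ij.2}) (h : a.1.1 ≠ b.1.2) (t u : K), a.1.2 = b.1.1 ∧
            g = FreeGroup.of (a, t) * FreeGroup.of (b, u) * (FreeGroup.of (a, t))⁻¹ * (FreeGroup.of (b, u))⁻¹ *
              (FreeGroup.of (⟨(a.1.1, b.1.2), h⟩, t * u))⁻¹}) with hrels
  let f : {ij : Fin (m + 3) × Fin (m + 3) // ij.1 ≠ ij.2} × K → Matrix.SpecialLinearGroup (Fin (m + 3)) K :=
    fun p => Matrix.SpecialLinearGroup.transvection p.1.2 p.2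
  have hf : ∀ g ∈ rels, FreeGroup.lift f g = 1 := by
    rintro g ((⟨a, t, u, rfl⟩ | ⟨a, b, t, u, h1, h2, rfl⟩) | ⟨⟨⟨i, j⟩, hij⟩, ⟨⟨k, l⟩, hkl⟩, h, t, u, e, rfl⟩)
    · simp only [map_mul, map_inv, FreeGroup.lift_apply_of, f]
      rw [← Matrix.SpecialLinearGroup.transvection_add, mul_inv_cancel]
    · simp only [map_mul, map_inv, FreeGroup.lift_apply_of, f]
      exact CfsgLib.StPres.transv_far _ _ h1 h2 t u
    · simp only at e
      subst e
      simp only [map_mul, map_inv, FreeGroup.lift_apply_of, f]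
      rw [CfsgLib.StPres.transv_near hij hkl h t u, mul_inv_cancel]
  let xg : Fin (m + 3) → Fin (m + 3) → K → PresentedGroup rels := fun i j t =>
    if h : i ≠ j then PresentedGroup.of (⟨(i, j), h⟩, t) else 1
  have hx : ∀ (i j : Fin (m + 3)) (h : i ≠ j) (t : K),
      xg i j t = PresentedGroup.mk rels (FreeGroup.of (⟨(i, j), h⟩, t)) := fun i j h t => dif_pos h
  let R : CfsgLib.StPres.StN K (m + 3) (PresentedGroup rels) :=
    { x := xg
      add := fun i j h t u => by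
        rw [hx i j h, hx i j h, hx i j h, ← map_mul]
        exact PresentedGroup.mk_eq_mk_of_mul_inv_mem (Or.inl (Or.inl ⟨⟨(i, j), h⟩, t, u, rfl⟩))
      far := fun i j k l h1 h2 h3 h4 t u => by
        rw [hx i j h1, hx k l h2, ← map_inv, ← map_inv, ← map_mul, ← map_mul, ← map_mul]
        exact PresentedGroup.one_of_mem (Or.inl (Or.inr ⟨⟨(i, j), h1⟩, ⟨(k, l), h2⟩, t, u, h3, h4, rfl⟩))
      near := fun i j l h1 h2 h3 t u => by
        rw [hx i j h1, hx j l h2, hx i l h3, ← map_inv, ← map_inv, ← map_mul, ← map_mul, ← map_mul]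
        exact PresentedGroup.mk_eq_mk_of_mul_inv_mem (Or.inr ⟨⟨(i, j), h1⟩, ⟨(j, l), h2⟩, h3, t, u, rfl, rfl⟩)
      gen := by
        rw [eq_top_iff, ← PresentedGroup.closure_range_of]
        refine Subgroup.closure_mono ?_
        rintro _ ⟨⟨⟨⟨i, j⟩, h⟩, t⟩, rfl⟩
        exact ⟨i, j, h, t, (hx i j h t).symm⟩
      π := PresentedGroup.toGroup hf
      π_x := fun i j h t => by
        rw [hx i j h]
        exact congrArg Subtype.val (PresentedGroup.toGroup.of hf (x := (⟨(i, j), h⟩, t))) }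
  refine ⟨MulEquiv.ofBijective R.π (CfsgLib.StPres.StN.π_bijective R), fun a t => ?_⟩
  exact congrArg Subtype.val (PresentedGroup.toGroup.of hf (x := (a, t)))

end Cfsg.Agent.S2401
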