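import Cfsg.Statements.S2405
import Cfsg.Agent.Chev.TwoGeneratedData

set_option autoImplicit false
open Cfsg

namespace Cfsg.Agent.S2405

/-- Each Chevalley group of type G₂, B₂, D₄, F₄, E₆, E₇ or E₈ over a finite field is generated by two of its elements (types B₂ and G₂ over the field with two elements, where the group is not simple, excepted). -/
theorem result {F : Type*} [Field F] [Finite F] (D : Cfsg.Lie.ChevalleyDatum) (hD : D ∈ [Cfsg.Lie.chevG2, Cfsg.Lie.chevB2, Cfsg.Lie.chevD4, Cfsg.Lie.chevF4, Cfsg.Lie.chevE6, Cfsg.Lie.chevE7, Cfsg.Lie.chevE8])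
    (hF : D ∈ [Cfsg.Lie.chevB2, Cfsg.Lie.chevG2] → ∃ x : F, x ≠ 0 ∧ x ≠ 1) :
    ∃ a b : ↥(D.group F), Subgroup.closure ({a, b} : Set ↥(D.group F)) = ⊤ := by
  letI := Fintype.ofFinite F
  have h3 : (∃ x : F, x ≠ 0 ∧ x ≠ 1) → 3 ≤ Fintype.card F := by
    rintro ⟨x, hx0, hx1⟩
    classical
    calc 3 = ({0, 1, x} : Finset F).card := by
          simp [Finset.card_insert_of_notMem, Ne.symm hx0, Ne.symm hx1]
      _ ≤ _ := Finset.card_le_univ _
  have h2 : ¬ 3 ≤ Fintype.card F → Fintype.card F = 2 := fun h => by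
    have := Fintype.one_lt_card (α := F); omega
  simp only [List.mem_cons, List.not_mem_nil, or_false] at hD hF
  rcases hD with rfl | rfl | rfl | rfl | rfl | rfl | rfl
  · exact CfsgLib.Chev.TwoGenData.twoGenG2 (h3 (hF (Or.inr rfl)))
  · exact CfsgLib.Chev.TwoGenData.twoGenB2 (h3 (hF (Or.inl rfl)))
  · by_cases h : 3 ≤ Fintype.card F
    · exact CfsgLib.Chev.TwoGenData.twoGenD4 h
    · exact CfsgLib.Chev.TwoGenData.twoGenD4Two (h2 h)
  · by_cases h : 3 ≤ Fintype.card F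
    · exact CfsgLib.Chev.TwoGenData.twoGenF4 h
    · exact CfsgLib.Chev.TwoGenData.twoGenF4Two (h2 h)
  · exact CfsgLib.Chev.TwoGenData.twoGenE6
  · exact CfsgLib.Chev.TwoGenData.twoGenE7
  · exact CfsgLib.Chev.TwoGenData.twoGenE8

end Cfsg.Agent.S2405
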