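import Cfsg.Statements.S2416
import Cfsg.Agent.ChevGen.Monomial
-- import your own Cfsg.Agent.* helpers here

set_option autoImplicit false
open scoped MatrixGroups
open Cfsg

namespace Cfsg.Agent.S2416

/-- A Chevalley group of type G₂, B₂, D₄, F₄, E₆, E₇ or E₈ over a finite field lies in (indeed equals) the subgroup generated by its monomial subgroup `N` and a single fundamental root subgroup `X_p`, where `p` is a short fundamental root if there are two root lengths (any fundamental root otherwise), provided the characteristic is not 2 for types B₂, F₄ and not 3 for type G₂ (and the field has more than two elements for B₂, G₂). -/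
theorem result {K : Type*} [Field K] [Finite K] (D : Cfsg.Lie.ChevalleyDatum) (hD : D ∈ [Cfsg.Lie.chevG2, Cfsg.Lie.chevB2, Cfsg.Lie.chevD4, Cfsg.Lie.chevF4, Cfsg.Lie.chevE6, Cfsg.Lie.chevE7, Cfsg.Lie.chevE8])
    (hK : D ∈ [Cfsg.Lie.chevB2, Cfsg.Lie.chevG2] → ∃ x : K, x ≠ 0 ∧ x ≠ 1)
    (h2 : D ∈ [Cfsg.Lie.chevB2, Cfsg.Lie.chevF4] → ringChar K ≠ 2) (h3 : D = Cfsg.Lie.chevG2 → ringChar K ≠ 3)
    (i : ℕ) (hi : i < D.rank) (hshort : D.isLong (D.simple i) = false) :
    D.group K ≤ D.monomialSubgroup K ⊔ D.rootSubgroup K (D.simple i) := by
  open CfsgLib.Chev CfsgLib.ChevGen in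
  simp only [List.mem_cons, List.not_mem_nil, or_false] at hD
  open CfsgLib.Chev CfsgLib.ChevGen in
  rcases hD with rfl | rfl | rfl | rfl | rfl | rfl | rfl
  · exact group_le_short good_G2 (fun c hc e => by
      obtain rfl : c = 3 := by simpa using hc
      exact h3 rfl (by
        haveI := ringChar.charP K
        have := (ringChar.spec K 3).1 e
        exact ((Nat.prime_dvd_prime_iff_eq (CharP.char_is_prime K (ringChar K)) Nat.prime_three).1
          this))) genG2_short hi hshort
  · exact group_le_short good_B2 (fun c hc e => by
      obtain rfl : c = 2 := by simpa using hc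
      exact h2 (by simp) (by
        haveI := ringChar.charP K
        exact ((Nat.prime_dvd_prime_iff_eq (CharP.char_is_prime K (ringChar K)) Nat.prime_two).1
          ((ringChar.spec K 2).1 e)))) genB2_short hi hshort
  · exact group_le_short good_D4 (by simp) genD4_short hi hshort
  · exact group_le_short good_F4 (fun c hc e => by
      obtain rfl : c = 2 := by simpa using hc
      exact h2 (by simp) (by
        haveI := ringChar.charP K
        exact ((Nat.prime_dvd_prime_iff_eq (CharP.char_is_prime K (ringChar K)) Nat.prime_two).1
          ((ringChar.spec K 2).1 e)))) genF4_short hi hshort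
  · exact group_le_short good_E6 (by simp) genE6_short hi hshort
  · exact group_le_short good_E7 (by simp) genE7_short hi hshort
  · exact group_le_short good_E8 (by simp) genE8_short hi hshort

end Cfsg.Agent.S2416
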