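import Cfsg.Statements.S2419
import Mathlib.GroupTheory.Coxeter.Basic
-- import your own Cfsg.Agent.* helpers here

set_option autoImplicit false
open Cfsg

namespace Cfsg.Agent.S2419

section

variable {n : ℕ} (M : CoxeterMatrix (Fin n))

private theorem sq (i : Fin n) : M.simple i * M.simple i = 1 :=
  M.toCoxeterSystem.simple_mul_simple_self i

private theorem comm_of {i j : Fin n} (h : M i j = 2) :
    Commute (M.simple i) (M.simple j) := by
  have h1 : (M.simple i * M.simple j) ^ M i j = 1 := M.toCoxeterSystem.simple_mul_simple_pow i j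
  rw [h, pow_two, mul_eq_one_iff_eq_inv, mul_inv_rev, inv_eq_of_mul_eq_one_right (sq M i),
    inv_eq_of_mul_eq_one_right (sq M j)] at h1
  exact h1

private theorem braid {i j : Fin n} (h : M i j = 3) :
    M.simple i * M.simple j * M.simple i = M.simple j * M.simple i * M.simple j := by
  have h1 : (M.simple i * M.simple j) ^ M i j = 1 := M.toCoxeterSystem.simple_mul_simple_pow i j
  rw [h, pow_succ, pow_two] at h1
  have hi := inv_eq_of_mul_eq_one_right (sq M i)
  have hj := inv_eq_of_mul_eq_one_right (sq M j)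
  calc M.simple i * M.simple j * M.simple i
      = (M.simple i * M.simple j * (M.simple i * M.simple j) * (M.simple i * M.simple j)) *
          ((M.simple j)⁻¹ * (M.simple i)⁻¹ * (M.simple j)⁻¹) := by group
    _ = _ := by rw [h1, one_mul, hi, hj]

/-- The Coxeter element moves a simple reflection to the next one along a chain. -/
private theorem step {a b : Fin n} (L R : M.Group) (h : M a b = 3)
    (hR : Commute R (M.simple a)) (hL : Commute L (M.simple b)) :
    (L * M.simple a * M.simple b * R) * M.simple a * (L * M.simple a * M.simple b * R)⁻¹ =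
      M.simple b := by
  have hi := inv_eq_of_mul_eq_one_right (sq M a)
  have hj := inv_eq_of_mul_eq_one_right (sq M b)
  calc (L * M.simple a * M.simple b * R) * M.simple a * (L * M.simple a * M.simple b * R)⁻¹
      = L * M.simple a * M.simple b * (R * M.simple a) * R⁻¹ *
          ((M.simple b)⁻¹ * (M.simple a)⁻¹) * L⁻¹ := by group
    _ = L * (M.simple a * M.simple b * M.simple a) * (M.simple b * M.simple a) * L⁻¹ := by
        rw [hR.eq, hi, hj]; group
    _ = L * M.simple b * L⁻¹ := by
        rw [braid M h]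
        simp only [← mul_assoc]
        rw [mul_assoc _ (M.simple b) (M.simple b), sq, mul_one,
          mul_assoc _ (M.simple a) (M.simple a), sq, mul_one]
    _ = M.simple b := by rw [hL.eq, mul_inv_cancel_right]

/-- A subgroup containing all simple reflections is everything. -/
private theorem eq_top {S : Subgroup M.Group} (h : ∀ i, M.simple i ∈ S) : S = ⊤ :=
  top_le_iff.1 (M.toCoxeterSystem.subgroup_closure_range_simple ▸
    (Subgroup.closure_le S).2 (by rintro _ ⟨i, rfl⟩; exact h i))

/-- Separating the first three reflections in type `E`. -/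
private theorem head_mem {a b c d : Fin n} {S : Subgroup M.Group}
    (hab : M a b = 2) (hcb : M c b = 2) (hac : M a c = 3) (had : M a d = 2) (hcd : M c d = 3)
    (hy : M.simple a * M.simple b * M.simple c ∈ S) (hd : M.simple d ∈ S) :
    M.simple a ∈ S ∧ M.simple b ∈ S ∧ M.simple c ∈ S := by
  have hi := inv_eq_of_mul_eq_one_right (sq M a)
  have hk := inv_eq_of_mul_eq_one_right (sq M c)
  have h1 : (M.simple a * M.simple c) ^ 3 = 1 := by
    have := M.toCoxeterSystem.simple_mul_simple_pow a c
    rwa [hac] at this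
  have hbc : M.simple a * M.simple b * M.simple c = (M.simple a * M.simple c) * M.simple b := by
    rw [mul_assoc, mul_assoc, (comm_of M hcb).eq]
  have hb : M.simple b ∈ S := by
    have := S.pow_mem hy 3
    have hcm : Commute (M.simple a * M.simple c) (M.simple b) :=
      (comm_of M hab).mul_left (comm_of M hcb)
    rw [hbc, hcm.mul_pow, h1, one_mul, pow_succ, pow_two, sq M b, one_mul] at this
    exact this
  have hy0 : M.simple a * M.simple c ∈ S := by
    have := S.mul_mem hy hb
    rwa [hbc, mul_assoc, sq M b, mul_one] at this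
  have hu : M.simple d * M.simple c * M.simple d ∈ S := by
    have h2 := S.mul_mem (S.mul_mem (S.inv_mem hy0) hd) hy0
    rw [mul_inv_rev, hi, hk] at h2
    have e : M.simple c * M.simple a * M.simple d * (M.simple a * M.simple c) =
        M.simple c * M.simple d * M.simple c := by
      rw [mul_assoc (M.simple c) (M.simple a), (comm_of M had).eq]
      simp only [← mul_assoc]
      rw [mul_assoc _ (M.simple a) (M.simple a), sq, mul_one]
    rwa [e, braid M hcd] at h2
  have hc : M.simple c ∈ S := by
    have h2 := S.mul_mem (S.mul_mem hd hu) hd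
    simp only [← mul_assoc] at h2
    rwa [sq, one_mul, mul_assoc _ (M.simple d) (M.simple d), sq, mul_one] at h2
  refine ⟨?_, hb, hc⟩
  have := S.mul_mem hy0 hc
  rwa [mul_assoc, sq, mul_one] at this

end

/-- The Coxeter groups of types B₂, G₂, E₆, E₇, E₈ are generated by the Coxeter element `s₁ s₂ ⋯ s_l` together with one suitable reflection (a conjugate of a simple reflection); for types D₄ and F₄ the Coxeter element together with two suitable reflections suffices. -/
theorem result (c : (Σ n : ℕ, CoxeterMatrix (Fin n)) × ℕ)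
    (hc : c ∈ [(⟨2, CoxeterMatrix.B 2⟩, 1), (⟨2, CoxeterMatrix.G₂⟩, 1), (⟨4, Cfsg.Lie.coxeterD4⟩, 2), (⟨4, CoxeterMatrix.F₄⟩, 2),
      (⟨6, CoxeterMatrix.E₆⟩, 1), (⟨7, CoxeterMatrix.E₇⟩, 1), (⟨8, CoxeterMatrix.E₈⟩, 1)]) :
    ∃ T : Finset c.1.2.Group, T.card = c.2 ∧ (∀ t ∈ T, ∃ (g : c.1.2.Group) (i : Fin c.1.1), t = g * c.1.2.simple i * g⁻¹) ∧
      Subgroup.closure (({((List.finRange c.1.1).map c.1.2.simple).prod} : Set c.1.2.Group) ∪ ↑T) = ⊤ := by
  simp only [List.mem_cons, List.not_mem_nil, or_false] at hc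
  rcases hc with rfl | rfl | rfl | rfl | rfl | rfl | rfl
  · refine ⟨{(CoxeterMatrix.B 2).simple 0}, rfl, fun t ht => ⟨1, 0, by simpa using ht⟩, eq_top _ ?_⟩
    set M := CoxeterMatrix.B 2 with hM
    set S := Subgroup.closure (({((List.finRange 2).map M.simple).prod} : Set M.Group) ∪
      ↑({M.simple 0} : Finset M.Group)) with hS
    have hT : M.simple 0 ∈ S := Subgroup.subset_closure (Or.inr (Finset.mem_singleton_self _))
    have h := S.mul_mem hT (Subgroup.subset_closure (Or.inl rfl))
    intro i
    fin_cases i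
    · exact hT
    · simpa [List.finRange_succ, ← mul_assoc, sq] using h
  · refine ⟨{(CoxeterMatrix.G₂).simple 0}, rfl, fun t ht => ⟨1, 0, by simpa using ht⟩, eq_top _ ?_⟩
    set M := CoxeterMatrix.G₂ with hM
    set S := Subgroup.closure (({((List.finRange 2).map M.simple).prod} : Set M.Group) ∪
      ↑({M.simple 0} : Finset M.Group)) with hS
    have hT : M.simple 0 ∈ S := Subgroup.subset_closure (Or.inr (Finset.mem_singleton_self _))
    have h := S.mul_mem hT (Subgroup.subset_closure (Or.inl rfl))
    intro i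
    fin_cases i
    · exact hT
    · simpa [List.finRange_succ, ← mul_assoc, sq] using h
  · classical
    have hne : (Cfsg.Lie.coxeterD4).simple 0 ≠ (Cfsg.Lie.coxeterD4).simple 2 := fun h => by
      have hlift : CoxeterMatrix.IsLiftable (Cfsg.Lie.coxeterD4)
          (![Equiv.swap 0 1, Equiv.swap 1 2, Equiv.swap 2 3, Equiv.swap 2 3] : Fin 4 → Equiv.Perm (Fin 4)) := by
        intro i j
        fin_cases i <;> fin_cases j <;> decide
      have h2 := congrArg ((Cfsg.Lie.coxeterD4).toCoxeterSystem.lift ⟨_, hlift⟩) h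
      rw [← CoxeterMatrix.toCoxeterSystem_simple, CoxeterSystem.lift_apply_simple,
        CoxeterSystem.lift_apply_simple] at h2
      revert h2
      decide
    refine ⟨{(Cfsg.Lie.coxeterD4).simple 0, (Cfsg.Lie.coxeterD4).simple 2}, Finset.card_pair hne, fun t ht => ?_,
      eq_top _ ?_⟩
    · rcases Finset.mem_insert.1 ht with rfl | ht
      · exact ⟨1, 0, by simp⟩
      · exact ⟨1, 2, by simpa using ht⟩
    set M := Cfsg.Lie.coxeterD4 with hM
    set S := Subgroup.closure (({((List.finRange 4).map M.simple).prod} : Set M.Group) ∪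
      ↑({M.simple 0, M.simple 2} : Finset M.Group)) with hS
    have hT : M.simple 0 ∈ S := Subgroup.subset_closure (Or.inr (Finset.mem_insert_self _ _))
    have hT' : M.simple 2 ∈ S := Subgroup.subset_closure
      (Or.inr (Finset.mem_insert_of_mem (Finset.mem_singleton_self _)))
    have hc : M.simple 0 * M.simple 1 * M.simple 2 * M.simple 3 ∈ S := by
      have h := Subgroup.subset_closure (k := (({((List.finRange 4).map M.simple).prod} :
        Set M.Group) ∪ ↑({M.simple 0, M.simple 2} : Finset M.Group))) (Or.inl rfl)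
      simpa [List.finRange_succ, ← mul_assoc, hS] using h
    have h1 : M.simple 1 ∈ S := by
      have e := step M 1 (M.simple 2 * M.simple 3) (show M 0 1 = 3 by rw [hM]; rfl)
        (((comm_of M (show M 2 0 = 2 by rw [hM]; rfl)).mul_left (comm_of M (show M 3 0 = 2 by rw [hM]; rfl)))) (Commute.one_left _)
      rw [← e]
      refine S.mul_mem (S.mul_mem ?_ hT) (S.inv_mem ?_) <;>
        simpa [mul_assoc] using hc
    have h2 := hT'
    have h3 : M.simple 3 ∈ S := by
      have := S.mul_mem (S.inv_mem (S.mul_mem (S.mul_mem hT h1) h2)) hc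
      simpa [mul_assoc] using this
    intro i
    fin_cases i
    exacts [hT, h1, h2, h3]
  · classical
    have hne : (CoxeterMatrix.F₄).simple 0 ≠ (CoxeterMatrix.F₄).simple 3 := fun h => by
      have hlift : CoxeterMatrix.IsLiftable (CoxeterMatrix.F₄)
          (![Equiv.swap 0 1, Equiv.swap 1 2, 1, 1] : Fin 4 → Equiv.Perm (Fin 4)) := by
        intro i j
        fin_cases i <;> fin_cases j <;> decide
      have h2 := congrArg ((CoxeterMatrix.F₄).toCoxeterSystem.lift ⟨_, hlift⟩) h
      rw [← CoxeterMatrix.toCoxeterSystem_simple, CoxeterSystem.lift_apply_simple,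
        CoxeterSystem.lift_apply_simple] at h2
      revert h2
      decide
    refine ⟨{(CoxeterMatrix.F₄).simple 0, (CoxeterMatrix.F₄).simple 3}, Finset.card_pair hne, fun t ht => ?_,
      eq_top _ ?_⟩
    · rcases Finset.mem_insert.1 ht with rfl | ht
      · exact ⟨1, 0, by simp⟩
      · exact ⟨1, 3, by simpa using ht⟩
    set M := CoxeterMatrix.F₄ with hM
    set S := Subgroup.closure (({((List.finRange 4).map M.simple).prod} : Set M.Group) ∪
      ↑({M.simple 0, M.simple 3} : Finset M.Group)) with hS
    have hT : M.simple 0 ∈ S := Subgroup.subset_closure (Or.inr (Finset.mem_insert_self _ _))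
    have hT' : M.simple 3 ∈ S := Subgroup.subset_closure
      (Or.inr (Finset.mem_insert_of_mem (Finset.mem_singleton_self _)))
    have hc : M.simple 0 * M.simple 1 * M.simple 2 * M.simple 3 ∈ S := by
      have h := Subgroup.subset_closure (k := (({((List.finRange 4).map M.simple).prod} :
        Set M.Group) ∪ ↑({M.simple 0, M.simple 3} : Finset M.Group))) (Or.inl rfl)
      simpa [List.finRange_succ, ← mul_assoc, hS] using h
    have h1 : M.simple 1 ∈ S := by
      have e := step M 1 (M.simple 2 * M.simple 3) (show M 0 1 = 3 by rw [hM]; rfl)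
        (((comm_of M (show M 2 0 = 2 by rw [hM]; rfl)).mul_left (comm_of M (show M 3 0 = 2 by rw [hM]; rfl)))) (Commute.one_left _)
      rw [← e]
      refine S.mul_mem (S.mul_mem ?_ hT) (S.inv_mem ?_) <;>
        simpa [mul_assoc] using hc
    have h3 := hT'
    have h2 : M.simple 2 ∈ S := by
      have := S.mul_mem (S.mul_mem (S.inv_mem (S.mul_mem hT h1)) hc) (S.inv_mem h3)
      simpa [mul_assoc] using this
    intro i
    fin_cases i
    exacts [hT, h1, h2, h3]
  · refine ⟨{(CoxeterMatrix.E₆).simple 3}, rfl, fun t ht => ⟨1, 3, by simpa using ht⟩, eq_top _ ?_⟩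
    set M := CoxeterMatrix.E₆ with hM
    set S := Subgroup.closure (({((List.finRange 6).map M.simple).prod} : Set M.Group) ∪
      ↑({M.simple 3} : Finset M.Group)) with hS
    have hT : M.simple 3 ∈ S := Subgroup.subset_closure (Or.inr (Finset.mem_singleton_self _))
    have hc : M.simple 0 * M.simple 1 * M.simple 2 * M.simple 3 * M.simple 4 * M.simple 5 ∈ S := by
      have h := Subgroup.subset_closure (k := (({((List.finRange 6).map M.simple).prod} :
        Set M.Group) ∪ ↑({M.simple 3} : Finset M.Group))) (Or.inl rfl)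
      simpa [List.finRange_succ, ← mul_assoc, hS] using h
    have h4 : M.simple 4 ∈ S := by
      have e := step M (M.simple 0 * M.simple 1 * M.simple 2) (M.simple 5) (show M 3 4 = 3 by rw [hM]; rfl)
        ((comm_of M (show M 5 3 = 2 by rw [hM]; rfl)))
        ((((comm_of M (show M 0 4 = 2 by rw [hM]; rfl)).mul_left (comm_of M (show M 1 4 = 2 by rw [hM]; rfl))).mul_left (comm_of M (show M 2 4 = 2 by rw [hM]; rfl))))
      rw [← e]
      refine S.mul_mem (S.mul_mem ?_ hT) (S.inv_mem ?_) <;>
        simpa [mul_assoc] using hc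
    have h5 : M.simple 5 ∈ S := by
      have e := step M (M.simple 0 * M.simple 1 * M.simple 2 * M.simple 3) (1) (show M 4 5 = 3 by rw [hM]; rfl)
        (Commute.one_left _)
        (((((comm_of M (show M 0 5 = 2 by rw [hM]; rfl)).mul_left (comm_of M (show M 1 5 = 2 by rw [hM]; rfl))).mul_left (comm_of M (show M 2 5 = 2 by rw [hM]; rfl))).mul_left (comm_of M (show M 3 5 = 2 by rw [hM]; rfl))))
      rw [← e]
      refine S.mul_mem (S.mul_mem ?_ h4) (S.inv_mem ?_) <;>
        simpa [mul_assoc] using hc
    obtain ⟨m0, m1, m2⟩ := head_mem M (a := 0) (b := 1) (c := 2) (d := 3) (S := S) (by rw [hM]; rfl)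
      (by rw [hM]; rfl) (by rw [hM]; rfl) (by rw [hM]; rfl) (by rw [hM]; rfl) (by
        have := S.mul_mem (S.mul_mem (S.mul_mem (hc) (S.inv_mem h5)) (S.inv_mem h4)) (S.inv_mem hT)
        simpa [mul_assoc] using this) hT
    intro i
    fin_cases i
    exacts [m0, m1, m2, hT, h4, h5]
  · refine ⟨{(CoxeterMatrix.E₇).simple 3}, rfl, fun t ht => ⟨1, 3, by simpa using ht⟩, eq_top _ ?_⟩
    set M := CoxeterMatrix.E₇ with hM
    set S := Subgroup.closure (({((List.finRange 7).map M.simple).prod} : Set M.Group) ∪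
      ↑({M.simple 3} : Finset M.Group)) with hS
    have hT : M.simple 3 ∈ S := Subgroup.subset_closure (Or.inr (Finset.mem_singleton_self _))
    have hc : M.simple 0 * M.simple 1 * M.simple 2 * M.simple 3 * M.simple 4 * M.simple 5 * M.simple 6 ∈ S := by
      have h := Subgroup.subset_closure (k := (({((List.finRange 7).map M.simple).prod} :
        Set M.Group) ∪ ↑({M.simple 3} : Finset M.Group))) (Or.inl rfl)
      simpa [List.finRange_succ, ← mul_assoc, hS] using h
    have h4 : M.simple 4 ∈ S := by
      have e := step M (M.simple 0 * M.simple 1 * M.simple 2) (M.simple 5 * M.simple 6) (show M 3 4 = 3 by rw [hM]; rfl)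
        (((comm_of M (show M 5 3 = 2 by rw [hM]; rfl)).mul_left (comm_of M (show M 6 3 = 2 by rw [hM]; rfl))))
        ((((comm_of M (show M 0 4 = 2 by rw [hM]; rfl)).mul_left (comm_of M (show M 1 4 = 2 by rw [hM]; rfl))).mul_left (comm_of M (show M 2 4 = 2 by rw [hM]; rfl))))
      rw [← e]
      refine S.mul_mem (S.mul_mem ?_ hT) (S.inv_mem ?_) <;>
        simpa [mul_assoc] using hc
    have h5 : M.simple 5 ∈ S := by
      have e := step M (M.simple 0 * M.simple 1 * M.simple 2 * M.simple 3) (M.simple 6) (show M 4 5 = 3 by rw [hM]; rfl)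
        ((comm_of M (show M 6 4 = 2 by rw [hM]; rfl)))
        (((((comm_of M (show M 0 5 = 2 by rw [hM]; rfl)).mul_left (comm_of M (show M 1 5 = 2 by rw [hM]; rfl))).mul_left (comm_of M (show M 2 5 = 2 by rw [hM]; rfl))).mul_left (comm_of M (show M 3 5 = 2 by rw [hM]; rfl))))
      rw [← e]
      refine S.mul_mem (S.mul_mem ?_ h4) (S.inv_mem ?_) <;>
        simpa [mul_assoc] using hc
    have h6 : M.simple 6 ∈ S := by
      have e := step M (M.simple 0 * M.simple 1 * M.simple 2 * M.simple 3 * M.simple 4) (1) (show M 5 6 = 3 by rw [hM]; rfl)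
        (Commute.one_left _)
        ((((((comm_of M (show M 0 6 = 2 by rw [hM]; rfl)).mul_left (comm_of M (show M 1 6 = 2 by rw [hM]; rfl))).mul_left (comm_of M (show M 2 6 = 2 by rw [hM]; rfl))).mul_left (comm_of M (show M 3 6 = 2 by rw [hM]; rfl))).mul_left (comm_of M (show M 4 6 = 2 by rw [hM]; rfl))))
      rw [← e]
      refine S.mul_mem (S.mul_mem ?_ h5) (S.inv_mem ?_) <;>
        simpa [mul_assoc] using hc
    obtain ⟨m0, m1, m2⟩ := head_mem M (a := 0) (b := 1) (c := 2) (d := 3) (S := S) (by rw [hM]; rfl)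
      (by rw [hM]; rfl) (by rw [hM]; rfl) (by rw [hM]; rfl) (by rw [hM]; rfl) (by
        have := S.mul_mem (S.mul_mem (S.mul_mem (S.mul_mem (hc) (S.inv_mem h6)) (S.inv_mem h5)) (S.inv_mem h4)) (S.inv_mem hT)
        simpa [mul_assoc] using this) hT
    intro i
    fin_cases i
    exacts [m0, m1, m2, hT, h4, h5, h6]
  · refine ⟨{(CoxeterMatrix.E₈).simple 3}, rfl, fun t ht => ⟨1, 3, by simpa using ht⟩, eq_top _ ?_⟩
    set M := CoxeterMatrix.E₈ with hM
    set S := Subgroup.closure (({((List.finRange 8).map M.simple).prod} : Set M.Group) ∪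
      ↑({M.simple 3} : Finset M.Group)) with hS
    have hT : M.simple 3 ∈ S := Subgroup.subset_closure (Or.inr (Finset.mem_singleton_self _))
    have hc : M.simple 0 * M.simple 1 * M.simple 2 * M.simple 3 * M.simple 4 * M.simple 5 * M.simple 6 * M.simple 7 ∈ S := by
      have h := Subgroup.subset_closure (k := (({((List.finRange 8).map M.simple).prod} :
        Set M.Group) ∪ ↑({M.simple 3} : Finset M.Group))) (Or.inl rfl)
      simpa [List.finRange_succ, ← mul_assoc, hS] using h
    have h4 : M.simple 4 ∈ S := by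
      have e := step M (M.simple 0 * M.simple 1 * M.simple 2) (M.simple 5 * M.simple 6 * M.simple 7) (show M 3 4 = 3 by rw [hM]; rfl)
        ((((comm_of M (show M 5 3 = 2 by rw [hM]; rfl)).mul_left (comm_of M (show M 6 3 = 2 by rw [hM]; rfl))).mul_left (comm_of M (show M 7 3 = 2 by rw [hM]; rfl))))
        ((((comm_of M (show M 0 4 = 2 by rw [hM]; rfl)).mul_left (comm_of M (show M 1 4 = 2 by rw [hM]; rfl))).mul_left (comm_of M (show M 2 4 = 2 by rw [hM]; rfl))))
      rw [← e]
      refine S.mul_mem (S.mul_mem ?_ hT) (S.inv_mem ?_) <;>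
        simpa [mul_assoc] using hc
    have h5 : M.simple 5 ∈ S := by
      have e := step M (M.simple 0 * M.simple 1 * M.simple 2 * M.simple 3) (M.simple 6 * M.simple 7) (show M 4 5 = 3 by rw [hM]; rfl)
        (((comm_of M (show M 6 4 = 2 by rw [hM]; rfl)).mul_left (comm_of M (show M 7 4 = 2 by rw [hM]; rfl))))
        (((((comm_of M (show M 0 5 = 2 by rw [hM]; rfl)).mul_left (comm_of M (show M 1 5 = 2 by rw [hM]; rfl))).mul_left (comm_of M (show M 2 5 = 2 by rw [hM]; rfl))).mul_left (comm_of M (show M 3 5 = 2 by rw [hM]; rfl))))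
      rw [← e]
      refine S.mul_mem (S.mul_mem ?_ h4) (S.inv_mem ?_) <;>
        simpa [mul_assoc] using hc
    have h6 : M.simple 6 ∈ S := by
      have e := step M (M.simple 0 * M.simple 1 * M.simple 2 * M.simple 3 * M.simple 4) (M.simple 7) (show M 5 6 = 3 by rw [hM]; rfl)
        ((comm_of M (show M 7 5 = 2 by rw [hM]; rfl)))
        ((((((comm_of M (show M 0 6 = 2 by rw [hM]; rfl)).mul_left (comm_of M (show M 1 6 = 2 by rw [hM]; rfl))).mul_left (comm_of M (show M 2 6 = 2 by rw [hM]; rfl))).mul_left (comm_of M (show M 3 6 = 2 by rw [hM]; rfl))).mul_left (comm_of M (show M 4 6 = 2 by rw [hM]; rfl))))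
      rw [← e]
      refine S.mul_mem (S.mul_mem ?_ h5) (S.inv_mem ?_) <;>
        simpa [mul_assoc] using hc
    have h7 : M.simple 7 ∈ S := by
      have e := step M (M.simple 0 * M.simple 1 * M.simple 2 * M.simple 3 * M.simple 4 * M.simple 5) (1) (show M 6 7 = 3 by rw [hM]; rfl)
        (Commute.one_left _)
        (((((((comm_of M (show M 0 7 = 2 by rw [hM]; rfl)).mul_left (comm_of M (show M 1 7 = 2 by rw [hM]; rfl))).mul_left (comm_of M (show M 2 7 = 2 by rw [hM]; rfl))).mul_left (comm_of M (show M 3 7 = 2 by rw [hM]; rfl))).mul_left (comm_of M (show M 4 7 = 2 by rw [hM]; rfl))).mul_left (comm_of M (show M 5 7 = 2 by rw [hM]; rfl))))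
      rw [← e]
      refine S.mul_mem (S.mul_mem ?_ h6) (S.inv_mem ?_) <;>
        simpa [mul_assoc] using hc
    obtain ⟨m0, m1, m2⟩ := head_mem M (a := 0) (b := 1) (c := 2) (d := 3) (S := S) (by rw [hM]; rfl)
      (by rw [hM]; rfl) (by rw [hM]; rfl) (by rw [hM]; rfl) (by rw [hM]; rfl) (by
        have := S.mul_mem (S.mul_mem (S.mul_mem (S.mul_mem (S.mul_mem (hc) (S.inv_mem h7)) (S.inv_mem h6)) (S.inv_mem h5)) (S.inv_mem h4)) (S.inv_mem hT)
        simpa [mul_assoc] using this) hT
    intro i
    fin_cases i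
    exacts [m0, m1, m2, hT, h4, h5, h6, h7]

end Cfsg.Agent.S2419
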