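import Cfsg.Statements.S2426
import Cfsg.Agent.StPres.Rank1

set_option autoImplicit false
open Cfsg

namespace Cfsg.Agent.S2426

open CfsgLib.StPres Matrix in
theorem rel_add {K : Type*} [Field K] (b : Bool) (t u : K) :
    (if b then up t else low t) * (if b then up u else low u) =
      (if b then up (t + u) else low (t + u) : SpecialLinearGroup (Fin 2) K) := by
  cases b
  · refine Subtype.ext ?_
    show (low t).1 * (low u).1 = (low (t + u)).1
    simp [low, Matrix.mul_fin_two, add_comm]
  · refine Subtype.ext ?_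
    show (up t).1 * (up u).1 = (up (t + u)).1
    simp [up, Matrix.mul_fin_two, add_comm]

open CfsgLib.StPres Matrix in
theorem rel_conj {K : Type*} [Field K] (b : Bool) (t u : K) (ht : t ≠ 0) :
    (if b then up t else low t) * (if !b then up (-t⁻¹) else low (-t⁻¹)) * (if b then up t else low t) *
        (if b then up u else low u) =
      (if !b then up (-(t⁻¹ ^ 2 * u)) else low (-(t⁻¹ ^ 2 * u)) : SpecialLinearGroup (Fin 2) K) *
        ((if b then up t else low t) * (if !b then up (-t⁻¹) else low (-t⁻¹)) * (if b then up t else low t)) := by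
  cases b
  · refine Subtype.ext ?_
    show (low t).1 * (up (-t⁻¹)).1 * (low t).1 * (low u).1 =
      (up (-(t⁻¹ ^ 2 * u))).1 * ((low t).1 * (up (-t⁻¹)).1 * (low t).1)
    ext i j
    fin_cases i <;> fin_cases j <;> simp [up, low, Matrix.mul_apply, Fin.sum_univ_two] <;>
      field_simp <;> simp
  · refine Subtype.ext ?_
    show (up t).1 * (low (-t⁻¹)).1 * (up t).1 * (up u).1 =
      (low (-(t⁻¹ ^ 2 * u))).1 * ((up t).1 * (low (-t⁻¹)).1 * (up t).1)
    ext i j
    fin_cases i <;> fin_cases j <;> simp [up, low, Matrix.mul_apply, Fin.sum_univ_two] <;>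
      field_simp <;> simp

/-- The rank-one Steinberg presentation of `SL₂` over a finite field `K`: generators `x(t)`, `y(t)` (`t ∈ K`; the two opposite root subgroups) subject to additivity `x(t)x(u) = x(t+u)`, `y(t)y(u) = y(t+u)` and, with `w(t) = x(t) y(−t⁻¹) x(t)` and `w'(t) = y(t) x(−t⁻¹) y(t)` for `t ≠ 0`, the relations `w(t) x(u) w(t)⁻¹ = y(−t⁻² u)` and `w'(t) y(u) w'(t)⁻¹ = x(−t⁻² u)`, present `SL₂(K)`, with `x(t) ↦ (1 t; 0 1)` and `y(t) ↦ (1 0; t 1)`. -/
theorem result {K : Type*} [Field K] [Finite K] :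
    ∃ e : PresentedGroup
        ({g : FreeGroup (Bool × K) | ∃ (b : Bool) (t u : K), g = FreeGroup.of (b, t) * FreeGroup.of (b, u) * (FreeGroup.of (b, t + u))⁻¹} ∪
          {g | ∃ (b : Bool) (t u : K), t ≠ 0 ∧
            g = (FreeGroup.of (b, t) * FreeGroup.of (!b, -t⁻¹) * FreeGroup.of (b, t)) * FreeGroup.of (b, u) *
                  (FreeGroup.of (b, t) * FreeGroup.of (!b, -t⁻¹) * FreeGroup.of (b, t))⁻¹ * (FreeGroup.of (!b, -(t⁻¹ ^ 2 * u)))⁻¹})
        ≃* Matrix.SpecialLinearGroup (Fin 2) K,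
      (∀ t : K, ((e (PresentedGroup.of (true, t)) : Matrix (Fin 2) (Fin 2) K)) = !![1, t; 0, 1]) ∧
      (∀ t : K, ((e (PresentedGroup.of (false, t)) : Matrix (Fin 2) (Fin 2) K)) = !![1, 0; t, 1]) := by
  classical
  set rels := ({g : FreeGroup (Bool × K) | ∃ (b : Bool) (t u : K), g = FreeGroup.of (b, t) * FreeGroup.of (b, u) * (FreeGroup.of (b, t + u))⁻¹} ∪
          {g | ∃ (b : Bool) (t u : K), t ≠ 0 ∧
            g = (FreeGroup.of (b, t) * FreeGroup.of (!b, -t⁻¹) * FreeGroup.of (b, t)) * FreeGroup.of (b, u) *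
                  (FreeGroup.of (b, t) * FreeGroup.of (!b, -t⁻¹) * FreeGroup.of (b, t))⁻¹ * (FreeGroup.of (!b, -(t⁻¹ ^ 2 * u)))⁻¹})
    with hrels
  let f : Bool × K → Matrix.SpecialLinearGroup (Fin 2) K :=
    fun p => if p.1 then CfsgLib.StPres.up p.2 else CfsgLib.StPres.low p.2
  have hf : ∀ g ∈ rels, FreeGroup.lift f g = 1 := by
    rintro g (⟨b, t, u, rfl⟩ | ⟨b, t, u, ht, rfl⟩)
    · simp only [map_mul, map_inv, FreeGroup.lift_apply_of, f]
      rw [rel_add, mul_inv_cancel]
    · simp only [map_mul, map_inv, FreeGroup.lift_apply_of, f]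
      rw [rel_conj b t u ht, mul_inv_cancel_right, mul_inv_cancel]
  let R : CfsgLib.StPres.Rk1 K (PresentedGroup rels) :=
    { X := fun t => PresentedGroup.of (true, t)
      Y := fun t => PresentedGroup.of (false, t)
      X_add := fun t u => by
        simp only [PresentedGroup.of, ← map_mul]
        exact PresentedGroup.mk_eq_mk_of_mul_inv_mem (Or.inl ⟨true, t, u, rfl⟩)
      Y_add := fun t u => by
        simp only [PresentedGroup.of, ← map_mul]
        exact PresentedGroup.mk_eq_mk_of_mul_inv_mem (Or.inl ⟨false, t, u, rfl⟩)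
      conjX := fun t u ht => by
        simp only [PresentedGroup.of, ← map_mul, ← map_inv]
        exact PresentedGroup.mk_eq_mk_of_mul_inv_mem (Or.inr ⟨true, t, u, ht, rfl⟩)
      gen := by
        rw [eq_top_iff, ← PresentedGroup.closure_range_of]
        refine Subgroup.closure_mono ?_
        rintro _ ⟨⟨b, t⟩, rfl⟩
        cases b
        · exact Or.inr ⟨t, rfl⟩
        · exact Or.inl ⟨t, rfl⟩
      π := PresentedGroup.toGroup hf
      π_X := fun t => PresentedGroup.toGroup.of hf
      π_Y := fun t => PresentedGroup.toGroup.of hf }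
  refine ⟨MulEquiv.ofBijective R.π R.π_bijective, fun t => ?_, fun t => ?_⟩
  · exact congrArg Subtype.val (R.π_X t)
  · exact congrArg Subtype.val (R.π_Y t)

end Cfsg.Agent.S2426
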