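import Cfsg.Statements.S2428
import Cfsg.Agent.SL2C.SylowTwo

set_option autoImplicit false
open Cfsg

namespace Cfsg.Agent.S2428

/-- Let F be a finite field with q elements, q odd, and let d be a diagonal element of SL₂ over F whose diagonal entry a has a² ≠ 1 (such d exist exactly when q > 3). Then the centraliser of d is precisely the diagonal subgroup T; the normaliser of T has order 2(q − 1) and exactly (q + 5)/2 conjugacy classes; and every element of that normaliser outside T has square equal to −1. -/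
theorem result {F : Type*} [Field F] [Fintype F] (hodd : Odd (Fintype.card F))
    (d : Matrix.SpecialLinearGroup (Fin 2) F) (hd01 : (d : Matrix (Fin 2) (Fin 2) F) 0 1 = 0) (hd10 : (d : Matrix (Fin 2) (Fin 2) F) 1 0 = 0) (hda : (d : Matrix (Fin 2) (Fin 2) F) 0 0 ^ 2 ≠ 1) :
    (∀ g : Matrix.SpecialLinearGroup (Fin 2) F, g ∈ Subgroup.centralizer ({d} : Set (Matrix.SpecialLinearGroup (Fin 2) F)) ↔ ((g : Matrix (Fin 2) (Fin 2) F) 0 1 = 0 ∧ (g : Matrix (Fin 2) (Fin 2) F) 1 0 = 0)) ∧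
    Nat.card (Subgroup.normalizer ((Subgroup.centralizer ({d} : Set (Matrix.SpecialLinearGroup (Fin 2) F))) : Set (Matrix.SpecialLinearGroup (Fin 2) F))) = 2 * (Fintype.card F - 1) ∧
    Nat.card (ConjClasses (Subgroup.normalizer ((Subgroup.centralizer ({d} : Set (Matrix.SpecialLinearGroup (Fin 2) F))) : Set (Matrix.SpecialLinearGroup (Fin 2) F)))) = (Fintype.card F + 5) / 2 ∧
    ∀ g : Matrix.SpecialLinearGroup (Fin 2) F, g ∈ Subgroup.normalizer ((Subgroup.centralizer ({d} : Set (Matrix.SpecialLinearGroup (Fin 2) F))) : Set (Matrix.SpecialLinearGroup (Fin 2) F)) →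
      g ∉ Subgroup.centralizer ({d} : Set (Matrix.SpecialLinearGroup (Fin 2) F)) → ((g * g) : Matrix (Fin 2) (Fin 2) F) = -1 := by
  classical
  obtain ⟨a, ha, rfl, -, -⟩ := CfsgLib.SL2C.exists_eq_dg hd01 hd10 hda
  have hq : 5 ≤ Fintype.card F := by
    obtain ⟨m, hm⟩ := id hodd
    have h3 := CfsgLib.SL2C.three_le_card hodd
    by_contra hlt
    refine CfsgLib.SL2C.mem_reg.1 ha ?_
    rw [← pow_two, show 2 = Fintype.card Fˣ by rw [Fintype.card_units]; omega, pow_card_eq_one]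
  have hT := CfsgLib.SL2C.isTorus_split hodd hq
  have hC : Subgroup.centralizer ({CfsgLib.SL2C.dg a} : Set (Matrix.SpecialLinearGroup (Fin 2) F)) =
      CfsgLib.SL2C.splitTorus F := by
    ext g
    rw [CfsgLib.SL2C.mem_centralizer_dg (CfsgLib.SL2C.mem_reg.1 ha)]
    exact ⟨fun ⟨b, h⟩ => ⟨b, h.symm⟩, fun ⟨b, h⟩ => ⟨b, h.symm⟩⟩
  rw [hC]
  refine ⟨fun g => CfsgLib.SL2C.mem_splitTorus, ?_, ?_, fun g hg hgT => ?_⟩
  · rw [hT.card_normalizer hodd, CfsgLib.SL2C.card_splitTorus]
  · have h := hT.two_mul_classes hodd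
    rw [CfsgLib.SL2C.card_splitTorus] at h
    refine Nat.eq_of_mul_eq_mul_left two_pos (h.trans ?_)
    obtain ⟨m, hm⟩ := id hodd
    omega
  · have h := congrArg CfsgLib.SL2C.mt (hT.sq_eq_negOne hodd hg hgT)
    rw [CfsgLib.SL2C.mt_negOne] at h
    simpa [CfsgLib.SL2C.mt] using h

end Cfsg.Agent.S2428
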