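import Cfsg.Statements.S2429
import Cfsg.Agent.SL2C.SylowTwo

set_option autoImplicit false
open Cfsg

namespace Cfsg.Agent.S2429

/-- Let F be a finite field with q elements, q odd. Then SL₂ over F contains a cyclic subgroup T′ of order q + 1 (a non-split torus) with the following properties: T′ is its own centraliser, and indeed the centraliser of each element of T′ other than 1 and −1 is exactly T′; every element of SL₂ having no eigenvector in F² is conjugate to an element of T′; the normaliser of T′ has order 2(q + 1) and exactly (q + 7)/2 conjugacy classes; and every element of that normaliser outside T′ has square −1. -/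
theorem result {F : Type*} [Field F] [Fintype F] (hodd : Odd (Fintype.card F)) :
    ∃ T' : Subgroup (Matrix.SpecialLinearGroup (Fin 2) F), IsCyclic T' ∧ Nat.card T' = Fintype.card F + 1 ∧
      Subgroup.centralizer ((T' : Set (Matrix.SpecialLinearGroup (Fin 2) F))) = T' ∧
      (∀ g : Matrix.SpecialLinearGroup (Fin 2) F, g ∈ T' → (g : Matrix (Fin 2) (Fin 2) F) ≠ 1 → (g : Matrix (Fin 2) (Fin 2) F) ≠ -1 → Subgroup.centralizer ({g} : Set (Matrix.SpecialLinearGroup (Fin 2) F)) = T') ∧
      (∀ g : Matrix.SpecialLinearGroup (Fin 2) F, (∀ (c : F) (v : Fin 2 → F), v ≠ 0 → (g : Matrix (Fin 2) (Fin 2) F).mulVec v ≠ c • v) → ∃ h : Matrix.SpecialLinearGroup (Fin 2) F, h * g * h⁻¹ ∈ T') ∧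
      Nat.card (Subgroup.normalizer (T' : Set (Matrix.SpecialLinearGroup (Fin 2) F))) = 2 * (Fintype.card F + 1) ∧
      Nat.card (ConjClasses (Subgroup.normalizer (T' : Set (Matrix.SpecialLinearGroup (Fin 2) F)))) = (Fintype.card F + 7) / 2 ∧
      ∀ g : Matrix.SpecialLinearGroup (Fin 2) F, g ∈ Subgroup.normalizer (T' : Set (Matrix.SpecialLinearGroup (Fin 2) F)) → g ∉ T' → ((g * g) : Matrix (Fin 2) (Fin 2) F) = -1 := by
  classical
  obtain ⟨c, hc⟩ := CfsgLib.SL2C.exists_ell (F := F)
  have hT := CfsgLib.SL2C.isTorus_tor hc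
  refine ⟨CfsgLib.SL2C.tor c, CfsgLib.SL2C.isCyclic_tor hc, CfsgLib.SL2C.card_tor hc,
    hT.centralizer_eq, fun g hg h1 h2 => hT.cent g hg fun hz => ?_, fun g hg => ?_, ?_, ?_,
    fun g hg hgT => ?_⟩
  · rcases CfsgLib.SL2C.center_cases hz with rfl | rfl
    · exact h1 (by simp)
    · exact h2 (by simpa [CfsgLib.SL2C.mt] using CfsgLib.SL2C.mt_negOne (F := F))
  · obtain ⟨s, hs, hsg⟩ := hc.exists_isConj_torReg hg
    obtain ⟨x, hx⟩ := isConj_iff.1 hsg.symm
    exact ⟨x, by rw [hx]; exact (CfsgLib.SL2C.mem_torReg.1 hs).1⟩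
  · rw [hT.card_normalizer hodd, CfsgLib.SL2C.card_tor hc]
  · have h := hT.two_mul_classes hodd
    rw [CfsgLib.SL2C.card_tor hc] at h
    refine Nat.eq_of_mul_eq_mul_left two_pos (h.trans ?_)
    obtain ⟨m, hm⟩ := id hodd
    omega
  · have h := congrArg CfsgLib.SL2C.mt (hT.sq_eq_negOne hodd hg hgT)
    rw [CfsgLib.SL2C.mt_negOne] at h
    simpa [CfsgLib.SL2C.mt] using h

end Cfsg.Agent.S2429
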