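import Cfsg.Statements.S2430
import Cfsg.Agent.SL2C.SylowTwo

set_option autoImplicit false
open Cfsg

namespace Cfsg.Agent.S2430

/-- Let F be a finite field with q elements, q odd, ℓ an odd prime, and P a Sylow ℓ-subgroup of SL₂ over F. If ℓ divides q − 1, the centraliser of P is cyclic of order q − 1 (a split torus) and the normaliser of P has order 2(q − 1); if ℓ divides q + 1, the centraliser of P is cyclic of order q + 1 (a non-split torus) and the normaliser of P has order 2(q + 1). -/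
theorem result {F : Type*} [Field F] [Fintype F] (hodd : Odd (Fintype.card F)) (ℓ : ℕ) [Fact ℓ.Prime] (hℓ : ℓ ≠ 2)
    (P : Sylow ℓ (Matrix.SpecialLinearGroup (Fin 2) F)) :
    (ℓ ∣ Fintype.card F - 1 →
      Nat.card (Subgroup.centralizer ((P : Subgroup (Matrix.SpecialLinearGroup (Fin 2) F)) : Set (Matrix.SpecialLinearGroup (Fin 2) F))) = Fintype.card F - 1 ∧
      IsCyclic (Subgroup.centralizer ((P : Subgroup (Matrix.SpecialLinearGroup (Fin 2) F)) : Set (Matrix.SpecialLinearGroup (Fin 2) F))) ∧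
      Nat.card (Subgroup.normalizer ((P : Subgroup (Matrix.SpecialLinearGroup (Fin 2) F)) : Set (Matrix.SpecialLinearGroup (Fin 2) F))) = 2 * (Fintype.card F - 1)) ∧
    (ℓ ∣ Fintype.card F + 1 →
      Nat.card (Subgroup.centralizer ((P : Subgroup (Matrix.SpecialLinearGroup (Fin 2) F)) : Set (Matrix.SpecialLinearGroup (Fin 2) F))) = Fintype.card F + 1 ∧
      IsCyclic (Subgroup.centralizer ((P : Subgroup (Matrix.SpecialLinearGroup (Fin 2) F)) : Set (Matrix.SpecialLinearGroup (Fin 2) F))) ∧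
      Nat.card (Subgroup.normalizer ((P : Subgroup (Matrix.SpecialLinearGroup (Fin 2) F)) : Set (Matrix.SpecialLinearGroup (Fin 2) F))) = 2 * (Fintype.card F + 1)) := by
  classical
  have hℓp : ℓ.Prime := Fact.out
  have hq3 := CfsgLib.SL2C.three_le_card hodd
  have hone : ∀ {n : ℕ}, ℓ ∣ n → ℓ ∣ n + 1 → False := fun h1 h2 =>
    hℓp.ne_one (Nat.dvd_one.1 ((Nat.dvd_add_right h1).1 h2))
  have htwo : ℓ ∣ Fintype.card F - 1 → ℓ ∣ Fintype.card F + 1 → False := fun h1 h2 => by
    rw [show Fintype.card F + 1 = (Fintype.card F - 1) + 2 by omega] at h2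
    exact hℓ ((Nat.prime_dvd_prime_iff_eq hℓp Nat.prime_two).1 ((Nat.dvd_add_right h1).1 h2))
  refine ⟨fun hdvd => ?_, fun hdvd => ?_⟩
  · have hq : 5 ≤ Fintype.card F := by
      obtain ⟨m, hm⟩ := id hodd
      have := Nat.le_of_dvd (by omega) hdvd
      have := hℓp.two_le
      omega
    have hidx : ¬ ℓ ∣ (CfsgLib.SL2C.splitTorus F).index := by
      rw [CfsgLib.SL2C.index_eq_of_card (T := CfsgLib.SL2C.splitTorus F)
        (k := Fintype.card F * (Fintype.card F + 1))
        (by rw [CfsgLib.SL2C.card_splitTorus, CfsgLib.SL2C.natCard_SL_factor]; ring)]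
      intro h
      rcases hℓp.dvd_mul.1 h with h | h
      · exact hone hdvd (by rwa [Nat.sub_add_cancel (by omega)])
      · exact htwo hdvd h
    obtain ⟨T', hT', hcard, hcent, hnorm, -⟩ := CfsgLib.SL2C.sylow_odd hℓ
      (CfsgLib.SL2C.isTorus_split hodd hq) (by rwa [CfsgLib.SL2C.card_splitTorus]) hidx P
    rw [CfsgLib.SL2C.card_splitTorus] at hcard
    rw [hcent, hnorm, hT'.card_normalizer hodd, hcard]
    exact ⟨rfl, hT'.cyc, rfl⟩
  · obtain ⟨c, hc⟩ := CfsgLib.SL2C.exists_ell (F := F)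
    have hidx : ¬ ℓ ∣ (CfsgLib.SL2C.tor c).index := by
      rw [CfsgLib.SL2C.index_eq_of_card (T := CfsgLib.SL2C.tor c)
        (k := Fintype.card F * (Fintype.card F - 1))
        (by rw [CfsgLib.SL2C.card_tor hc, CfsgLib.SL2C.natCard_SL_factor]; ring)]
      intro h
      rcases hℓp.dvd_mul.1 h with h | h
      · exact hone h hdvd
      · exact htwo h hdvd
    obtain ⟨T', hT', hcard, hcent, hnorm, -⟩ := CfsgLib.SL2C.sylow_odd hℓ
      (CfsgLib.SL2C.isTorus_tor hc) (by rwa [CfsgLib.SL2C.card_tor hc]) hidx P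
    rw [CfsgLib.SL2C.card_tor hc] at hcard
    rw [hcent, hnorm, hT'.card_normalizer hodd, hcard]
    exact ⟨rfl, hT'.cyc, rfl⟩

end Cfsg.Agent.S2430
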