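import Cfsg.Statements.S2431
import Cfsg.Agent.SL2C.SylowTwo

set_option autoImplicit false
open Cfsg

namespace Cfsg.Agent.S2431

/-- Let F be a finite field with q elements, q odd, and S a Sylow 2-subgroup of SL₂ over F. The centraliser of S is the centre of SL₂ (of order 2); S is its own normaliser when q ≡ ±1 mod 8, and has index 3 in its normaliser when q ≡ ±3 mod 8. -/
theorem result {F : Type*} [Field F] [Fintype F] (hodd : Odd (Fintype.card F)) (S : Sylow 2 (Matrix.SpecialLinearGroup (Fin 2) F)) :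
    Subgroup.centralizer ((S : Subgroup (Matrix.SpecialLinearGroup (Fin 2) F)) : Set (Matrix.SpecialLinearGroup (Fin 2) F)) = Subgroup.center (Matrix.SpecialLinearGroup (Fin 2) F) ∧
    ((Fintype.card F % 8 = 1 ∨ Fintype.card F % 8 = 7) →
      Subgroup.normalizer ((S : Subgroup (Matrix.SpecialLinearGroup (Fin 2) F)) : Set (Matrix.SpecialLinearGroup (Fin 2) F)) = (S : Subgroup (Matrix.SpecialLinearGroup (Fin 2) F))) ∧
    ((Fintype.card F % 8 = 3 ∨ Fintype.card F % 8 = 5) →
      Nat.card (Subgroup.normalizer ((S : Subgroup (Matrix.SpecialLinearGroup (Fin 2) F)) : Set (Matrix.SpecialLinearGroup (Fin 2) F))) = 3 * Nat.card S) := by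
  classical
  obtain ⟨T, y, w, h⟩ := CfsgLib.SL2C.exists_twoShape hodd S
  have hp := h.isPGroup (S' := S) rfl
  refine ⟨h.centralizer_eq hodd, fun h8 => h.self_normalizing hp hodd (h.eight.2 h8),
    fun h3 => h.card_normalizer_four hp hodd ?_⟩
  obtain ⟨k, hk⟩ := hp.exists_card_eq
  rw [h.card] at hk
  have h4 := h.four
  have hn8 : ¬ 8 ∣ orderOf y := fun e => by
    rcases h.eight.1 e with e' | e' <;> omega
  have hdvd : orderOf y ∣ 2 ^ k := ⟨2, by omega⟩
  obtain ⟨j, -, hj⟩ := (Nat.dvd_prime_pow Nat.prime_two).1 hdvd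
  rw [hj] at h4 hn8 ⊢
  have h2j : 2 ≤ j := by
    by_contra hlt
    have : j = 0 ∨ j = 1 := by omega
    rcases this with rfl | rfl <;> norm_num at h4
  have hj3 : j < 3 := by
    by_contra hge
    exact hn8 (show 2 ^ 3 ∣ 2 ^ j from pow_dvd_pow 2 (by omega))
  rw [show j = 2 by omega]
  norm_num

end Cfsg.Agent.S2431
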