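import Cfsg.Statements.S2434
import Cfsg.Agent.SL2C.Bridge

set_option autoImplicit false
open Cfsg

namespace Cfsg.Agent.S2434

/-- Let F be a finite field with q elements, q odd, and C a cyclic subgroup of order q + 1 of SL₂ over F (a non-split torus; it contains the centre). For every homomorphism θ from C to the non-zero complex numbers with θ² ≠ 1 there is an irreducible complex character χ of degree q − 1 such that χ(c) = −θ(c) − θ(c)⁻¹ for every non-central c in C, χ(zg) = θ(z)χ(g) for central z in C, χ vanishes at diagonal elements with entry a, a² ≠ 1, and χ takes the value −1 at every upper unitriangular element other than 1. Conversely every irreducible character of degree q − 1 has, for some such θ, the values −θ(c) − θ(c)⁻¹ at the non-central elements c of C (for q ≥ 5 these are exactly the cuspidal characters of degree q − 1). -/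
theorem result {F : Type*} [Field F] [Fintype F] (hodd : Odd (Fintype.card F))
    (C : Subgroup (Matrix.SpecialLinearGroup (Fin 2) F)) (hC : IsCyclic C) (hcard : Nat.card C = Fintype.card F + 1) :
    (∀ θ : C →* ℂˣ, (∃ c : C, θ c ^ 2 ≠ 1) →
      ∃ χ : Matrix.SpecialLinearGroup (Fin 2) F → ℂ, Cfsg.IsIrrCharacter (Matrix.SpecialLinearGroup (Fin 2) F) χ ∧ χ 1 = (Fintype.card F : ℂ) - 1 ∧
        (∀ c : C, (c : Matrix.SpecialLinearGroup (Fin 2) F) ∉ Subgroup.center (Matrix.SpecialLinearGroup (Fin 2) F) → χ c = -((θ c).val + (θ c)⁻¹.val)) ∧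
        (∀ c : C, (c : Matrix.SpecialLinearGroup (Fin 2) F) ∈ Subgroup.center (Matrix.SpecialLinearGroup (Fin 2) F) → ∀ g : Matrix.SpecialLinearGroup (Fin 2) F, χ ((c : Matrix.SpecialLinearGroup (Fin 2) F) * g) = (θ c).val * χ g) ∧
        (∀ g : Matrix.SpecialLinearGroup (Fin 2) F, (g : Matrix (Fin 2) (Fin 2) F) 0 1 = 0 → (g : Matrix (Fin 2) (Fin 2) F) 1 0 = 0 → (g : Matrix (Fin 2) (Fin 2) F) 0 0 ^ 2 ≠ 1 → χ g = 0) ∧
        (∀ g : Matrix.SpecialLinearGroup (Fin 2) F, (g : Matrix (Fin 2) (Fin 2) F) 1 0 = 0 → (g : Matrix (Fin 2) (Fin 2) F) 0 0 = 1 → (g : Matrix (Fin 2) (Fin 2) F) 1 1 = 1 → (g : Matrix (Fin 2) (Fin 2) F) 0 1 ≠ 0 → χ g = -1)) ∧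
    (∀ χ : Matrix.SpecialLinearGroup (Fin 2) F → ℂ, Cfsg.IsIrrCharacter (Matrix.SpecialLinearGroup (Fin 2) F) χ → χ 1 = (Fintype.card F : ℂ) - 1 →
      ∃ θ : C →* ℂˣ, (∃ c : C, θ c ^ 2 ≠ 1) ∧
        ∀ c : C, (c : Matrix.SpecialLinearGroup (Fin 2) F) ∉ Subgroup.center (Matrix.SpecialLinearGroup (Fin 2) F) → χ c = -((θ c).val + (θ c)⁻¹.val)) := by
  classical
  obtain ⟨c, hc, rfl⟩ := CfsgLib.SL2C.exists_tor_of_cyclic C hC hcard
  refine ⟨fun φ hφ => ?_, fun χ hχ hd => ?_⟩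
  · have hsq : φ * φ ≠ 1 := fun e => by
      obtain ⟨y, hy⟩ := hφ
      exact hy (by rw [pow_two, ← MonoidHom.mul_apply, e, MonoidHom.one_apply])
    have hirr := CfsgLib.SL2C.isIrr_Pi' hc hsq
    have v := CfsgLib.SL2C.Pi'_vals hc φ
    refine ⟨CfsgLib.SL2C.Pi' φ, hirr, CfsgLib.SL2C.Pi'_apply_one hc φ, fun y hy => ?_,
      fun y hy g => ?_, fun g h01 h10 ha => ?_, fun g h10 h00 h11 hb => ?_⟩
    · rw [v.tor _ (CfsgLib.SL2C.mem_torReg.2 ⟨y.2, hy⟩), CfsgLib.SL2C.th_coe,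
        CfsgLib.SL2C.th_coe, MonoidHom.inv_apply]
    · refine CfsgLib.SL2C.apply_center_mul hirr hy ?_ g
      obtain ⟨e, he, hye⟩ := CfsgLib.SL2C.exists_eq_bor_of_mem_center hy
      rw [hye, v.cen e (CfsgLib.SL2C.mem_sgn.2 he), CfsgLib.SL2C.Pi'_apply_one hc,
        CfsgLib.SL2C.tc, ← hye, CfsgLib.SL2C.th_coe]
      ring
    · obtain ⟨a, ha', rfl, -, -⟩ := CfsgLib.SL2C.exists_eq_dg h01 h10 ha
      exact v.spl a ha'
    · obtain ⟨e, he, hg, e0⟩ := CfsgLib.SL2C.exists_eq_par h10 (h00.trans h11.symm) hb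
      have he1 : e = 1 := Units.ext (e0.trans (h00.trans Units.val_one.symm))
      rw [hg, v.par e he _ hb, he1, CfsgLib.SL2C.tc_one]
  · obtain ⟨φ, hφ, hval⟩ : ∃ φ ∈ CfsgLib.SL2C.AT c, ∀ y ∈ CfsgLib.SL2C.torReg c,
        χ y = -(CfsgLib.SL2C.th φ y + CfsgLib.SL2C.th φ⁻¹ y) := by
      rcases Nat.lt_or_ge (Fintype.card F) 4 with hlt | hge
      · have h3 : Fintype.card F = 3 := by
          have := CfsgLib.SL2C.three_le_card hodd
          omega
        obtain ⟨φ, hφ⟩ : (CfsgLib.SL2C.AT c).Nonempty := by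
          obtain ⟨η, θ, x₁, x₂, y₁, y₂, h⟩ := CfsgLib.SL2C.exists_halves hc hodd
          rw [← Finset.card_pos, CfsgLib.SL2C.AT]
          have h1 := CfsgLib.SL2C.card_sq_one h.θ_ne h.θ_sq h.θ_all
          have h2 := CfsgLib.SL2C.card_dual_tor hc
          omega
        refine ⟨φ, hφ, fun y hy => ?_⟩
        rw [CfsgLib.SL2C.th_add_inv_eq_zero_of_three hc h3 hφ hy, neg_zero]
        rcases CfsgLib.SL2C.degree_cases hc hχ with ⟨-, e⟩ | ⟨-, e⟩ | ⟨⟨α, -, rfl⟩, -⟩ |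
          ⟨⟨ψ, hψ, rfl⟩, -⟩ | ⟨⟨-, η, θ, x₁, x₂, y₁, y₂, h, h'⟩, -⟩ | ⟨-, e⟩
        case inr.inr.inl => exact (CfsgLib.SL2C.R_vals hc α).tor y hy
        case inr.inr.inr.inl =>
          rw [(CfsgLib.SL2C.Pi'_vals hc ψ).tor y hy,
            CfsgLib.SL2C.th_add_inv_eq_zero_of_three hc h3 hψ hy, neg_zero]
        case inr.inr.inr.inr.inl =>
          rcases h' with rfl | rfl
          exacts [(h.apply_tor hc hy).1, (h.apply_tor hc hy).2.1]
        all_goals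
          exfalso
          rw [hd, h3] at e
          norm_num at e
      · obtain ⟨φ, hφ, rfl⟩ := CfsgLib.SL2C.exists_Pi'_of_degree hc hge hχ hd
        exact ⟨φ, hφ, fun y hy => (CfsgLib.SL2C.Pi'_vals hc φ).tor y hy⟩
    refine ⟨φ, ?_, fun y hy => ?_⟩
    · by_contra hcon
      push Not at hcon
      exact CfsgLib.SL2C.mem_AT.1 hφ (MonoidHom.ext fun y => by
        rw [MonoidHom.mul_apply, ← pow_two, hcon, MonoidHom.one_apply])
    · rw [hval _ (CfsgLib.SL2C.mem_torReg.2 ⟨y.2, hy⟩), CfsgLib.SL2C.th_coe, CfsgLib.SL2C.th_coe,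
        MonoidHom.inv_apply]

end Cfsg.Agent.S2434
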