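import Cfsg.Statements.S2435
import Cfsg.Agent.SL2C.Bridge

set_option autoImplicit false
open Cfsg

namespace Cfsg.Agent.S2435

/-- Let F be a finite field with q elements, q odd and q ≥ 5, and χ an irreducible complex character of SL₂ over F. If χ has degree (q + 1)/2, then at a diagonal element with entry a, a² ≠ 1, χ takes the value 1 when a is a square in F and −1 otherwise. If χ has degree (q − 1)/2, then at an element g with no eigenvector in F² (so g has order dividing q + 1), χ takes the value −1 when g raised to the power (q + 1)/2 is the identity and the value 1 otherwise. -/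
theorem result {F : Type*} [Field F] [Fintype F] (hodd : Odd (Fintype.card F)) (hq : 5 ≤ Fintype.card F)
    (χ : Matrix.SpecialLinearGroup (Fin 2) F → ℂ) (hχ : Cfsg.IsIrrCharacter (Matrix.SpecialLinearGroup (Fin 2) F) χ) (g : Matrix.SpecialLinearGroup (Fin 2) F) :
    (χ 1 = (((Fintype.card F + 1) / 2 : ℕ) : ℂ) → (g : Matrix (Fin 2) (Fin 2) F) 0 1 = 0 → (g : Matrix (Fin 2) (Fin 2) F) 1 0 = 0 → (g : Matrix (Fin 2) (Fin 2) F) 0 0 ^ 2 ≠ 1 →
      (IsSquare ((g : Matrix (Fin 2) (Fin 2) F) 0 0) → χ g = 1) ∧ (¬ IsSquare ((g : Matrix (Fin 2) (Fin 2) F) 0 0) → χ g = -1)) ∧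
    (χ 1 = (((Fintype.card F - 1) / 2 : ℕ) : ℂ) → (∀ (c : F) (v : Fin 2 → F), v ≠ 0 → (g : Matrix (Fin 2) (Fin 2) F).mulVec v ≠ c • v) →
      (((g ^ ((Fintype.card F + 1) / 2)) : Matrix (Fin 2) (Fin 2) F) = 1 → χ g = -1) ∧ (((g ^ ((Fintype.card F + 1) / 2)) : Matrix (Fin 2) (Fin 2) F) ≠ 1 → χ g = 1)) := by
  classical
  obtain ⟨c, hc⟩ := CfsgLib.SL2C.exists_ell (F := F)
  rw [CfsgLib.SL2C.natCast_half_add hodd, CfsgLib.SL2C.natCast_half_sub hodd]
  refine ⟨fun hd h01 h10 ha => ?_, fun hd hg => ?_⟩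
  · obtain ⟨a, ha', rfl, e0, -⟩ := CfsgLib.SL2C.exists_eq_dg h01 h10 ha
    obtain ⟨η, θ, x₁, x₂, y₁, y₂, h, h'⟩ := CfsgLib.SL2C.exists_x_of_degree hc hq hχ hd
    have hv : χ (CfsgLib.SL2C.dg a) = CfsgLib.SL2C.ch η a := by
      rcases h' with rfl | rfl
      exacts [(h.apply_dg hc ha').1, (h.apply_dg hc ha').2.1]
    have hsq : IsSquare a ↔ IsSquare (a : F) := by
      refine ⟨fun ⟨t, ht⟩ => ⟨t, by rw [ht, Units.val_mul]⟩, fun ⟨t, ht⟩ => ?_⟩
      have ht0 : t ≠ 0 := by rintro rfl; simp at ht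
      exact ⟨Units.mk0 t ht0, Units.ext (by simpa using ht)⟩
    simp only [CfsgLib.SL2C.mt] at e0
    rw [hv, ← e0]
    refine ⟨fun hs => ?_, fun hs => ?_⟩
    · rw [CfsgLib.SL2C.ch, (CfsgLib.SL2C.isSquare_of_eta hodd h a).2 (hsq.2 hs), Units.val_one]
    · rw [CfsgLib.SL2C.ch, (CfsgLib.SL2C.apply_sign h.η_sq a).resolve_left fun e =>
        hs (hsq.1 ((CfsgLib.SL2C.isSquare_of_eta hodd h a).1 e)), Units.val_neg, Units.val_one]
  · obtain ⟨η, θ, x₁, x₂, y₁, y₂, h, h'⟩ := CfsgLib.SL2C.exists_y_of_degree hc hq hχ hd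
    obtain ⟨y, hy, hyg, he⟩ := CfsgLib.SL2C.apply_ell hc
      (CfsgLib.Char.IsIrrCharacter.isClassFunction hχ) hg
    have hyt : y ∈ CfsgLib.SL2C.tor c := (CfsgLib.SL2C.mem_torReg.1 hy).1
    have hv : χ y = -(θ ⟨y, hyt⟩ : ℂ) := by
      rw [← CfsgLib.SL2C.th_coe θ ⟨y, hyt⟩]
      rcases h' with rfl | rfl
      exacts [(h.apply_tor hc hy).2.2.1, (h.apply_tor hc hy).2.2.2]
    have hiff : g ^ ((Fintype.card F + 1) / 2) = 1 ↔
        (⟨y, hyt⟩ : CfsgLib.SL2C.tor c) ^ ((Fintype.card F + 1) / 2) = 1 := by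
      obtain ⟨z, rfl⟩ := isConj_iff.1 hyg
      rw [conj_pow, Subtype.ext_iff, SubgroupClass.coe_pow, OneMemClass.coe_one]
      constructor
      · intro e
        calc y ^ ((Fintype.card F + 1) / 2)
            = z⁻¹ * (z * y ^ ((Fintype.card F + 1) / 2) * z⁻¹) * z := by group
          _ = 1 := by rw [e]; group
      · intro e
        rw [e]; group
    rw [he, hv]
    refine ⟨fun e => ?_, fun e => ?_⟩
    · rw [(h.θ_iff ⟨y, hyt⟩).1.2 (hiff.1 (Subtype.ext (by simpa using e))), Units.val_one]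
    · rw [(h.θ_iff ⟨y, hyt⟩).2 (fun e' => e (by
        have := congrArg Subtype.val (hiff.2 e')
        simpa using this)), Units.val_neg, Units.val_one, neg_neg]

end Cfsg.Agent.S2435
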