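import Cfsg.Statements.S2437
import Cfsg.Agent.SL2C.Unipotent

set_option autoImplicit false
open Cfsg

namespace Cfsg.Agent.S2437

/-- Over a finite field F with q elements, q odd, the upper triangular subgroup of SL₂ (a Borel subgroup, of order q(q − 1)) has exactly q + 3 conjugacy classes. -/
theorem result {F : Type*} [Field F] [Fintype F] (hodd : Odd (Fintype.card F)) :
    Nat.card (ConjClasses ((Cfsg.upperTriangularGL 2 F).comap Matrix.SpecialLinearGroup.toGL)) = Fintype.card F + 3 := by
  classical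
  obtain ⟨ν, hν0, hν⟩ := CfsgLib.SL2C.exists_nonsquare hodd
  let BB := CfsgLib.SL2C.B F
  let el : Fˣ → F → BB := fun a b => ⟨CfsgLib.SL2C.bor a b, CfsgLib.SL2C.bor_mem_B a b⟩
  let rep : Fˣ ⊕ (CfsgLib.SL2C.sgn F × Bool) → BB := fun x =>
    match x with
    | Sum.inl a => el a 0
    | Sum.inr (e, t) => el e.1 (if t then 1 else ν)
  have hinv : ∀ {x y : BB}, IsConj x y → CfsgLib.SL2C.bHom x = CfsgLib.SL2C.bHom y := fun h =>
    isConj_iff_eq.1 (MonoidHom.map_isConj CfsgLib.SL2C.bHom h)
  have hel : ∀ a b, CfsgLib.SL2C.bHom (el a b) = a := fun a b => CfsgLib.SL2C.bHom_bor a b _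
  have hSL : ∀ {x y : BB}, IsConj x y → IsConj (x : CfsgLib.SL2C.SL F) y := fun h =>
    MonoidHom.map_isConj BB.subtype h
  have hbij : Function.Bijective fun x => ConjClasses.mk (rep x) := by
    constructor
    · intro x y hxy
      have hc := ConjClasses.mk_eq_mk_iff_isConj.1 hxy
      have ha := hinv hc
      have hs := hSL hc
      rcases x with a | ⟨e, t⟩ <;> rcases y with a' | ⟨e', t'⟩ <;> simp only [rep, hel] at ha hs
      · rw [ha]
      · exfalso
        subst ha
        have h1 := CfsgLib.SL2C.mem_center_of_isConj (CfsgLib.SL2C.bor_mem_center_iff.2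
          ⟨CfsgLib.SL2C.mem_sgn.1 e'.2, rfl⟩) hs
        have h2 := (CfsgLib.SL2C.bor_mem_center_iff.1 h1).2
        cases t' <;> simp [hν0] at h2
      · exfalso
        subst ha
        have h1 := CfsgLib.SL2C.mem_center_of_isConj (CfsgLib.SL2C.bor_mem_center_iff.2
          ⟨CfsgLib.SL2C.mem_sgn.1 e.2, rfl⟩) hs.symm
        have h2 := (CfsgLib.SL2C.bor_mem_center_iff.1 h1).2
        cases t <;> simp [hν0] at h2
      · obtain rfl : e = e' := Subtype.ext ha
        cases t <;> cases t' <;> simp only [Bool.false_eq_true, if_false, if_true] at hs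
        · rfl
        · rw [CfsgLib.SL2C.isConj_bor_iff (CfsgLib.SL2C.mem_sgn.1 e.2) hν0 one_ne_zero,
            mul_one] at hs
          exact absurd hs hν
        · rw [CfsgLib.SL2C.isConj_bor_iff (CfsgLib.SL2C.mem_sgn.1 e.2) one_ne_zero hν0,
            one_mul] at hs
          exact absurd hs hν
        · rfl
    · intro C
      obtain ⟨⟨g, hg⟩, rfl⟩ := ConjClasses.mk_surjective C
      obtain ⟨a, b, rfl⟩ := CfsgLib.SL2C.exists_bor_of_apply (CfsgLib.SL2C.mem_B.1 hg)
      by_cases hb : b = 0
      · subst hb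
        exact ⟨Sum.inl a, rfl⟩
      by_cases ha : a * a = 1
      · have hconj : ∀ {b' : F}, b' ≠ 0 → IsSquare (b' * b) →
            IsConj (el a b') (el a b) := by
          intro b' hb' hsq
          obtain ⟨s, hs⟩ := hsq
          have hs0 : s ≠ 0 := fun e0 => mul_ne_zero hb' hb (by rw [hs, e0, mul_zero])
          refine isConj_iff.2 ⟨el (Units.mk0 (s / b') (div_ne_zero hs0 hb')) 0, ?_⟩
          rw [mul_inv_eq_iff_eq_mul]
          apply Subtype.ext
          change CfsgLib.SL2C.bor _ 0 * CfsgLib.SL2C.bor a b' =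
            CfsgLib.SL2C.bor a b * CfsgLib.SL2C.bor _ 0
          rw [CfsgLib.SL2C.bor_mul, CfsgLib.SL2C.bor_mul, mul_comm a]
          congr 1
          simp
          field_simp
          linear_combination -hs
        refine ⟨Sum.inr (⟨a, CfsgLib.SL2C.mem_sgn.2 ha⟩, decide (IsSquare b)), ?_⟩
        apply ConjClasses.mk_eq_mk_iff_isConj.2
        by_cases hs : IsSquare b
        · simp only [rep, hs, decide_true, if_true]
          exact hconj one_ne_zero (by rwa [one_mul])
        · simp only [rep, hs, decide_false, Bool.false_eq_true, if_false]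
          exact hconj hν0 (CfsgLib.SL2C.isSquare_mul_of_not hν hs)
      · refine ⟨Sum.inl a, ConjClasses.mk_eq_mk_iff_isConj.2 ?_⟩
        have hne : ((a⁻¹ : Fˣ) : F) - (a : F) ≠ 0 := fun e =>
          ha (inv_eq_iff_mul_eq_one.1 (Units.ext (sub_eq_zero.1 e)))
        refine isConj_iff.2 ⟨el 1 (b / (((a⁻¹ : Fˣ) : F) - (a : F))), ?_⟩
        rw [mul_inv_eq_iff_eq_mul]
        apply Subtype.ext
        change CfsgLib.SL2C.bor 1 _ * CfsgLib.SL2C.bor a 0 =
          CfsgLib.SL2C.bor a b * CfsgLib.SL2C.bor 1 _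
        rw [CfsgLib.SL2C.bor_mul, CfsgLib.SL2C.bor_mul, one_mul, mul_one]
        congr 1
        simp only [inv_one, Units.val_one, mul_one, one_mul, mul_zero, zero_add]
        field_simp
        ring
  have h := Nat.card_eq_of_bijective _ hbij
  rw [Nat.card_sum, Nat.card_prod, Nat.card_eq_fintype_card, Nat.card_eq_finsetCard,
    CfsgLib.SL2C.card_sgn_odd hodd, Fintype.card_units, Nat.card_eq_fintype_card,
    Fintype.card_bool] at h
  have := CfsgLib.SL2C.two_le_card (F := F)
  refine h.symm.trans ?_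
  omega

end Cfsg.Agent.S2437
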