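import Cfsg.Statements.S2436
import Cfsg.Agent.SL2C.McKay
import Cfsg.Agent.S2437

set_option autoImplicit false
open Cfsg

namespace Cfsg.Agent.S2436

/-- Let F be a finite field with q elements, q odd, ℓ any prime and S a Sylow ℓ-subgroup of SL₂ over F with normaliser N. Then SL₂ and N have the same number of irreducible complex characters of degree not divisible by ℓ (the McKay equality holds for SL₂ over F at every prime). -/
theorem result {F : Type*} [Field F] [Fintype F] (hodd : Odd (Fintype.card F)) (ℓ : ℕ) [Fact ℓ.Prime] (S : Sylow ℓ (Matrix.SpecialLinearGroup (Fin 2) F)) :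
    Nat.card {χ : Cfsg.IrrCharacter (Matrix.SpecialLinearGroup (Fin 2) F) // ¬ ℓ ∣ Cfsg.charDegree (χ : Matrix.SpecialLinearGroup (Fin 2) F → ℂ)} =
      Nat.card {ψ : Cfsg.IrrCharacter (Subgroup.normalizer ((S : Subgroup (Matrix.SpecialLinearGroup (Fin 2) F)) : Set (Matrix.SpecialLinearGroup (Fin 2) F))) //
        ¬ ℓ ∣ Cfsg.charDegree (ψ : Subgroup.normalizer ((S : Subgroup (Matrix.SpecialLinearGroup (Fin 2) F)) : Set (Matrix.SpecialLinearGroup (Fin 2) F)) → ℂ)} := by
  classical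
  change CfsgLib.SL2C.countP ℓ (CfsgLib.SL2C.SL F) = CfsgLib.SL2C.countP ℓ
    (Subgroup.normalizer ((S : Subgroup (CfsgLib.SL2C.SL F)) : Set (CfsgLib.SL2C.SL F)))
  set q := Fintype.card F with hqdef
  have hℓp : ℓ.Prime := Fact.out
  have hq3 := CfsgLib.SL2C.three_le_card hodd
  obtain ⟨m, hm⟩ := id hodd
  have hG := CfsgLib.SL2C.countP_SL hodd ℓ
  rw [← hqdef] at hG
  have h1 : ¬ ℓ ∣ 1 := fun h => hℓp.ne_one (Nat.dvd_one.1 h)
  have hnext : ∀ {n : ℕ}, ℓ ∣ n → ¬ ℓ ∣ n + 1 := fun ha hb =>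
    h1 ((Nat.dvd_add_right ha).1 hb)
  have hfacm : (q - 1) / 2 ∣ q - 1 := ⟨2, by omega⟩
  have hfacp : (q + 1) / 2 ∣ q + 1 := ⟨2, by omega⟩
  rw [if_neg h1] at hG
  by_cases hq : ℓ ∣ q
  · -- the defining characteristic
    have hm1 : ¬ ℓ ∣ q - 1 := fun h => hnext h (by rwa [Nat.sub_add_cancel (by omega)])
    have hp1 : ¬ ℓ ∣ q + 1 := hnext hq
    rw [if_pos hq, if_neg hp1, if_neg hm1, if_neg fun h => hp1 (h.trans hfacp),
      if_neg fun h => hm1 (h.trans hfacm)] at hG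
    have hidx : ¬ ℓ ∣ (CfsgLib.SL2C.unip F).index := by
      rw [CfsgLib.SL2C.index_eq_of_card (T := CfsgLib.SL2C.unip F) (k := (q - 1) * (q + 1))
        (by rw [CfsgLib.SL2C.card_unip, CfsgLib.SL2C.natCard_SL_factor])]
      intro h
      rcases hℓp.dvd_mul.1 h with h | h <;> contradiction
    obtain ⟨g, hg⟩ := CfsgLib.SL2C.sylow_exists_conj_le S _ hidx
    have hpow : ∃ n, q = ℓ ^ n := by
      obtain ⟨p, hp⟩ := CharP.exists F
      obtain ⟨n, hpp, hn⟩ := FiniteField.card F p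
      rw [← hqdef] at hn
      rw [hn] at hq
      exact ⟨n, by rw [hn, (Nat.prime_dvd_prime_iff_eq hℓp hpp).1 (hℓp.dvd_of_dvd_pow hq)]⟩
    have hP : IsPGroup ℓ ((CfsgLib.SL2C.unip F).map (MulAut.conj g).toMonoidHom) := by
      refine IsPGroup.map ?_ _
      obtain ⟨n, hn⟩ := hpow
      exact IsPGroup.of_card (n := n) (by rw [CfsgLib.SL2C.card_unip, ← hqdef, hn])
    have hS : (S : Subgroup (CfsgLib.SL2C.SL F)) =
        (CfsgLib.SL2C.unip F).map (MulAut.conj g).toMonoidHom := (S.is_maximal' hP hg).symm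
    have hN : Subgroup.normalizer ((S : Subgroup (CfsgLib.SL2C.SL F)) : Set (CfsgLib.SL2C.SL F)) =
        (CfsgLib.SL2C.B F).map (MulAut.conj g).toMonoidHom := by
      rw [hS, ← CfsgLib.SL2C.normalizer_unip]
      exact (Subgroup.map_equiv_normalizer_eq _ (MulAut.conj g)).symm
    rw [hN, ← CfsgLib.SL2C.countP_congr ℓ
      ((CfsgLib.SL2C.B F).equivMapOfInjective _ (MulAut.conj g).injective)]
    have hle : CfsgLib.SL2C.unip F ≤ CfsgLib.SL2C.B F := by
      rw [← CfsgLib.SL2C.normalizer_unip]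
      exact Subgroup.le_normalizer
    haveI : ((CfsgLib.SL2C.unip F).subgroupOf (CfsgLib.SL2C.B F)).Normal := by
      rw [← CfsgLib.SL2C.normalizer_unip]
      exact Subgroup.normal_in_normalizer
    have hk : ((CfsgLib.SL2C.unip F).subgroupOf (CfsgLib.SL2C.B F)).index = q - 1 := by
      have h := ((CfsgLib.SL2C.unip F).subgroupOf (CfsgLib.SL2C.B F)).card_mul_index
      rw [Nat.card_congr (Subgroup.subgroupOfEquivOfLe hle).toEquiv, CfsgLib.SL2C.card_unip,
        CfsgLib.SL2C.card_B, mul_comm (Fintype.card F - 1)] at h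
      exact Nat.eq_of_mul_eq_mul_left Fintype.card_pos h
    rw [CfsgLib.SL2C.countP_eq_classes fun χ hχ hdvd => hm1 (hk ▸ hdvd.trans
      (CfsgLib.SL2C.charDegree_dvd_index hχ ((CfsgLib.SL2C.unip F).subgroupOf (CfsgLib.SL2C.B F))
        fun a ha b hb => Subtype.ext (CfsgLib.SL2C.unip_comm ha hb)))]
    rw [Cfsg.Agent.S2437.result hodd]
    omega
  by_cases h2 : ℓ = 2
  · subst h2
    have hev : 2 ∣ q + 1 := ⟨m + 1, by omega⟩
    have hev' : 2 ∣ q - 1 := ⟨m, by omega⟩
    rw [if_neg hq, if_pos hev, if_pos hev'] at hG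
    obtain ⟨T, y, w, h⟩ := CfsgLib.SL2C.exists_twoShape hodd S
    have hp := h.isPGroup (S' := S) rfl
    have hN : CfsgLib.SL2C.countP 2
        (Subgroup.normalizer ((S : Subgroup (CfsgLib.SL2C.SL F)) : Set (CfsgLib.SL2C.SL F))) = 4 := by
      by_cases h8 : 8 ∣ orderOf y
      · rw [h.self_normalizing hp hodd h8, CfsgLib.SL2C.countP_two_of_pGroup hp,
          h.index_commutator hodd]
      · have h4 : orderOf y = 4 := by
          obtain ⟨k, hk⟩ := hp.exists_card_eq
          rw [h.card] at hk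
          have hd : orderOf y ∣ 2 ^ k := ⟨2, by omega⟩
          obtain ⟨j, -, hj⟩ := (Nat.dvd_prime_pow Nat.prime_two).1 hd
          have h4' := h.four
          rw [hj] at h4' h8 ⊢
          match j, h4', h8 with
          | 0, h, _ => norm_num at h
          | 1, h, _ => norm_num at h
          | 2, _, _ => norm_num
          | (k + 3), _, h => exact absurd ⟨2 ^ k, by ring⟩ h
        refine CfsgLib.SL2C.countP_two_of_card_24 ?_ (h.index_commutator_normalizer hp hodd h4)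
        rw [h.card_normalizer_four hp hodd h4, h.card, h4]
    rw [hN]
    rcases Nat.even_or_odd m with ⟨j, hj⟩ | ⟨j, hj⟩
    · rw [if_neg (show ¬ 2 ∣ (q + 1) / 2 by omega),
        if_pos (show 2 ∣ (q - 1) / 2 by omega)] at hG
      omega
    · rw [if_pos (show 2 ∣ (q + 1) / 2 by omega),
        if_neg (show ¬ 2 ∣ (q - 1) / 2 by omega)] at hG
      omega
  have hco : Nat.Coprime ℓ 2 := (Nat.coprime_primes hℓp Nat.prime_two).2 h2
  have hhalf : ∀ {n : ℕ}, ℓ ∣ n → 2 ∣ n → ℓ ∣ n / 2 := fun ha hb =>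
    hco.dvd_of_dvd_mul_left (by rwa [Nat.mul_div_cancel' hb])
  have hNcount : ∀ T' : Subgroup (CfsgLib.SL2C.SL F), CfsgLib.SL2C.IsTorus T' →
      2 * CfsgLib.SL2C.countP ℓ (Subgroup.normalizer (T' : Set (CfsgLib.SL2C.SL F))) =
        Nat.card T' + 6 := by
    intro T' hT'
    haveI : (T'.subgroupOf (Subgroup.normalizer (T' : Set (CfsgLib.SL2C.SL F)))).Normal :=
      Subgroup.normal_in_normalizer
    rw [CfsgLib.SL2C.countP_eq_classes fun χ hχ hdvd => h2 ?_]
    · exact hT'.two_mul_classes hodd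
    · have h := hdvd.trans (CfsgLib.SL2C.charDegree_dvd_index hχ
        (T'.subgroupOf (Subgroup.normalizer (T' : Set (CfsgLib.SL2C.SL F))))
        fun a ha b hb => Subtype.ext (hT'.comm ha hb))
      rw [hT'.index_eq_two hodd] at h
      exact (Nat.prime_dvd_prime_iff_eq hℓp Nat.prime_two).1 h
  by_cases hm1 : ℓ ∣ q - 1
  · have hp1 : ¬ ℓ ∣ q + 1 := fun h => h2 ((Nat.prime_dvd_prime_iff_eq hℓp Nat.prime_two).1
      ((Nat.dvd_add_right hm1).1 (by rwa [show q - 1 + 2 = q + 1 by omega])))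
    rw [if_neg hq, if_neg hp1, if_pos hm1, if_neg fun h => hp1 (h.trans hfacp),
      if_pos (hhalf hm1 ⟨m, by omega⟩)] at hG
    have hq5 : 5 ≤ q := by
      have := Nat.le_of_dvd (by omega) hm1
      have := hℓp.two_le
      omega
    have hidx : ¬ ℓ ∣ (CfsgLib.SL2C.splitTorus F).index := by
      rw [CfsgLib.SL2C.index_eq_of_card (T := CfsgLib.SL2C.splitTorus F) (k := q * (q + 1))
        (by rw [CfsgLib.SL2C.card_splitTorus, CfsgLib.SL2C.natCard_SL_factor]; ring)]
      intro h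
      rcases hℓp.dvd_mul.1 h with h | h <;> contradiction
    obtain ⟨T', hT', hcard, -, hnorm, -⟩ := CfsgLib.SL2C.sylow_odd h2
      (CfsgLib.SL2C.isTorus_split hodd hq5) (by rwa [CfsgLib.SL2C.card_splitTorus]) hidx S
    rw [CfsgLib.SL2C.card_splitTorus, ← hqdef] at hcard
    have hN := hNcount T' hT'
    rw [hcard] at hN
    rw [hnorm]
    omega
  by_cases hp1 : ℓ ∣ q + 1
  · rw [if_neg hq, if_pos hp1, if_neg hm1, if_pos (hhalf hp1 ⟨m + 1, by omega⟩),
      if_neg fun h => hm1 (h.trans hfacm)] at hG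
    obtain ⟨c, hc⟩ := CfsgLib.SL2C.exists_ell (F := F)
    have hidx : ¬ ℓ ∣ (CfsgLib.SL2C.tor c).index := by
      rw [CfsgLib.SL2C.index_eq_of_card (T := CfsgLib.SL2C.tor c) (k := q * (q - 1))
        (by rw [CfsgLib.SL2C.card_tor hc, CfsgLib.SL2C.natCard_SL_factor]; ring)]
      intro h
      rcases hℓp.dvd_mul.1 h with h | h <;> contradiction
    obtain ⟨T', hT', hcard, -, hnorm, -⟩ := CfsgLib.SL2C.sylow_odd h2
      (CfsgLib.SL2C.isTorus_tor hc) (by rwa [CfsgLib.SL2C.card_tor hc]) hidx S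
    rw [CfsgLib.SL2C.card_tor hc, ← hqdef] at hcard
    have hN := hNcount T' hT'
    rw [hcard] at hN
    rw [hnorm]
    omega
  -- `ℓ` does not divide the order
  have hbot : (S : Subgroup (CfsgLib.SL2C.SL F)) = ⊥ := by
    rw [Subgroup.eq_bot_iff_card]
    obtain ⟨k, hk⟩ := S.isPGroup'.exists_card_eq
    have hd := Subgroup.card_subgroup_dvd_card (S : Subgroup (CfsgLib.SL2C.SL F))
    rw [hk, CfsgLib.SL2C.natCard_SL_factor, ← hqdef] at hd
    rw [hk]
    rcases k with _ | k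
    · simp
    · exfalso
      rcases hℓp.dvd_mul.1 ((dvd_pow_self ℓ k.succ_ne_zero).trans hd) with h | h
      · exact hq h
      · rcases hℓp.dvd_mul.1 h with h | h <;> contradiction
  have hN : Subgroup.normalizer ((S : Subgroup (CfsgLib.SL2C.SL F)) : Set (CfsgLib.SL2C.SL F)) = ⊤ := by
    rw [hbot, eq_top_iff]
    intro g _
    rw [Subgroup.mem_normalizer_iff]
    simp
  rw [hN]
  exact (CfsgLib.SL2C.countP_congr ℓ Subgroup.topEquiv).symm

end Cfsg.Agent.S2436
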