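import Cfsg.Statements.S2438
import Cfsg.Agent.SL2C.Bridge

set_option autoImplicit false
open Cfsg

namespace Cfsg.Agent.S2438

/-- Let F be a finite field with q elements, q odd, q ≥ 5, U the upper unitriangular subgroup of SL₂ over F, and χ an irreducible complex character. The sum of the values of χ over U equals 2q, q, 0, q, 0 according as the degree of χ is q + 1, q, q − 1, (q + 1)/2, (q − 1)/2; so among these five degrees the sum vanishes exactly for the degrees q − 1 and (q − 1)/2, i.e. the irreducible characters of those two degrees are the ones whose restriction to U does not contain the trivial character (the cuspidal characters), while those of degree q + 1, q and (q + 1)/2 are not cuspidal. -/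
theorem result {F : Type*} [Field F] [Fintype F] [DecidableEq F] (hodd : Odd (Fintype.card F)) (hq : 5 ≤ Fintype.card F)
    (χ : Matrix.SpecialLinearGroup (Fin 2) F → ℂ) (hχ : Cfsg.IsIrrCharacter (Matrix.SpecialLinearGroup (Fin 2) F) χ) :
    (χ 1 = (Fintype.card F : ℂ) + 1 →
      (∑ g : Matrix.SpecialLinearGroup (Fin 2) F, if (g : Matrix (Fin 2) (Fin 2) F) 1 0 = 0 ∧ (g : Matrix (Fin 2) (Fin 2) F) 0 0 = 1 ∧ (g : Matrix (Fin 2) (Fin 2) F) 1 1 = 1 then χ g else 0) = 2 * (Fintype.card F : ℂ)) ∧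
    (χ 1 = (Fintype.card F : ℂ) →
      (∑ g : Matrix.SpecialLinearGroup (Fin 2) F, if (g : Matrix (Fin 2) (Fin 2) F) 1 0 = 0 ∧ (g : Matrix (Fin 2) (Fin 2) F) 0 0 = 1 ∧ (g : Matrix (Fin 2) (Fin 2) F) 1 1 = 1 then χ g else 0) = (Fintype.card F : ℂ)) ∧
    (χ 1 = (Fintype.card F : ℂ) - 1 →
      (∑ g : Matrix.SpecialLinearGroup (Fin 2) F, if (g : Matrix (Fin 2) (Fin 2) F) 1 0 = 0 ∧ (g : Matrix (Fin 2) (Fin 2) F) 0 0 = 1 ∧ (g : Matrix (Fin 2) (Fin 2) F) 1 1 = 1 then χ g else 0) = 0) ∧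
    (χ 1 = (((Fintype.card F + 1) / 2 : ℕ) : ℂ) →
      (∑ g : Matrix.SpecialLinearGroup (Fin 2) F, if (g : Matrix (Fin 2) (Fin 2) F) 1 0 = 0 ∧ (g : Matrix (Fin 2) (Fin 2) F) 0 0 = 1 ∧ (g : Matrix (Fin 2) (Fin 2) F) 1 1 = 1 then χ g else 0) = (Fintype.card F : ℂ)) ∧
    (χ 1 = (((Fintype.card F - 1) / 2 : ℕ) : ℂ) →
      (∑ g : Matrix.SpecialLinearGroup (Fin 2) F, if (g : Matrix (Fin 2) (Fin 2) F) 1 0 = 0 ∧ (g : Matrix (Fin 2) (Fin 2) F) 0 0 = 1 ∧ (g : Matrix (Fin 2) (Fin 2) F) 1 1 = 1 then χ g else 0) = 0) := by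
  classical
  obtain ⟨c, hc⟩ := CfsgLib.SL2C.exists_ell (F := F)
  have h1 : (1 : Fˣ) ∈ CfsgLib.SL2C.sgn F := CfsgLib.SL2C.mem_sgn.2 (one_mul 1)
  have hset : (Finset.univ.filter fun g : CfsgLib.SL2C.SL F => CfsgLib.SL2C.mt g 1 0 = 0 ∧
      CfsgLib.SL2C.mt g 0 0 = 1 ∧ CfsgLib.SL2C.mt g 1 1 = 1) =
      Finset.univ.image fun b : F => CfsgLib.SL2C.bor 1 b := by
    ext g
    simp only [Finset.mem_filter, Finset.mem_univ, true_and, Finset.mem_image]
    constructor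
    · rintro ⟨h10, h00, -⟩
      obtain ⟨a, b, rfl⟩ := CfsgLib.SL2C.exists_bor_of_apply h10
      exact ⟨b, by congr 1; exact Units.ext (by simpa [CfsgLib.SL2C.mt_bor] using h00.symm)⟩
    · rintro ⟨b, rfl⟩
      simp [CfsgLib.SL2C.mt_bor]
  have hsum : (∑ g : Matrix.SpecialLinearGroup (Fin 2) F,
      if (g : Matrix (Fin 2) (Fin 2) F) 1 0 = 0 ∧ (g : Matrix (Fin 2) (Fin 2) F) 0 0 = 1 ∧
        (g : Matrix (Fin 2) (Fin 2) F) 1 1 = 1 then χ g else 0) =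
      χ 1 + ∑ u : Fˣ, χ (CfsgLib.SL2C.bor 1 (u : F)) := by
    have h2 : ∀ g : CfsgLib.SL2C.SL F,
        g ∈ (Finset.univ.filter fun g : CfsgLib.SL2C.SL F => CfsgLib.SL2C.mt g 1 0 = 0 ∧
          CfsgLib.SL2C.mt g 0 0 = 1 ∧ CfsgLib.SL2C.mt g 1 1 = 1) ↔
        ((g : Matrix (Fin 2) (Fin 2) F) 1 0 = 0 ∧ (g : Matrix (Fin 2) (Fin 2) F) 0 0 = 1 ∧
          (g : Matrix (Fin 2) (Fin 2) F) 1 1 = 1) := fun g => by simp
    rw [← Finset.sum_filter]
    refine Eq.trans (Finset.sum_bij' (fun g _ => g) (fun g _ => g) ?_ ?_ (fun _ _ => rfl)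
      (fun _ _ => rfl) (fun _ _ => rfl) (t := Finset.univ.filter fun g : CfsgLib.SL2C.SL F =>
        CfsgLib.SL2C.mt g 1 0 = 0 ∧ CfsgLib.SL2C.mt g 0 0 = 1 ∧ CfsgLib.SL2C.mt g 1 1 = 1)) ?_
    · intro g hg; exact (h2 g).2 (Finset.mem_filter.1 hg).2
    · intro g hg; exact Finset.mem_filter.2 ⟨Finset.mem_univ _, (h2 g).1 hg⟩
    rw [hset, Finset.sum_image fun a _ b _ e => (CfsgLib.SL2C.bor_inj e).2,
      ← Finset.add_sum_erase _ _ (Finset.mem_univ (0 : F)), CfsgLib.SL2C.bor_one_zero,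
      ← Finset.filter_ne']
    congr 1
    convert CfsgLib.SL2C.sum_ne_zero_eq_sum_units (fun b => χ (CfsgLib.SL2C.bor 1 b)) using 2
    all_goals first | (ext x; simp) | exact Subsingleton.elim _ _
  rw [hsum]
  have hU : (Fintype.card Fˣ : ℂ) = (Fintype.card F : ℂ) - 1 := by
    rw [Fintype.card_units, Nat.cast_sub Fintype.card_pos, Nat.cast_one]
  rw [CfsgLib.SL2C.natCast_half_add hodd, CfsgLib.SL2C.natCast_half_sub hodd]
  refine ⟨fun hd => ?_, fun hd => ?_, fun hd => ?_, fun hd => ?_, fun hd => ?_⟩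
  · obtain ⟨α, -, rfl⟩ := CfsgLib.SL2C.exists_R_of_degree hc hχ hd
    rw [hd, Finset.sum_congr rfl fun (u : Fˣ) _ =>
      (CfsgLib.SL2C.R_vals hc α).par 1 h1 (u : F) u.ne_zero]
    simp [CfsgLib.SL2C.ch, hU]
    ring
  · obtain rfl := CfsgLib.SL2C.eq_St_of_degree hc hχ hd
    rw [hd, Finset.sum_congr rfl fun (u : Fˣ) _ =>
      (CfsgLib.SL2C.St_vals hc).par 1 h1 (u : F) u.ne_zero]
    simp
  · obtain ⟨φ, -, rfl⟩ := CfsgLib.SL2C.exists_Pi'_of_degree hc (by omega) hχ hd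
    rw [hd, Finset.sum_congr rfl fun (u : Fˣ) _ =>
      (CfsgLib.SL2C.Pi'_vals hc φ).par 1 h1 (u : F) u.ne_zero]
    simp [CfsgLib.SL2C.tc_one, hU]
  · obtain ⟨η, θ, x₁, x₂, y₁, y₂, h, h'⟩ := CfsgLib.SL2C.exists_x_of_degree hc hq hχ hd
    obtain ⟨E, E', -, -, v₁, v₂, w₁, w₂⟩ := h.exists_vals hodd hc
    have hη0 : ∑ u : Fˣ, CfsgLib.SL2C.ch η u = 0 := by
      rw [CfsgLib.SL2C.sum_char, if_neg h.η_ne]
    rw [hd]
    rcases h' with rfl | rfl
    · rw [Finset.sum_congr rfl fun (u : Fˣ) _ => v₁.par 1 h1 (u : F) u.ne_zero]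
      simp only [CfsgLib.SL2C.qc_coe, map_one, Units.val_one, ← Finset.sum_div, Finset.sum_add_distrib, ← Finset.sum_mul,
        hη0, Finset.sum_const, Finset.card_univ, nsmul_eq_mul, hU, CfsgLib.SL2C.ch, map_one, Units.val_one]
      ring
    · rw [Finset.sum_congr rfl fun (u : Fˣ) _ => v₂.par 1 h1 (u : F) u.ne_zero]
      simp only [CfsgLib.SL2C.qc_coe, map_one, Units.val_one, ← Finset.sum_div, Finset.sum_sub_distrib, ← Finset.sum_mul,
        hη0, Finset.sum_const, Finset.card_univ, nsmul_eq_mul, hU, CfsgLib.SL2C.ch, map_one, Units.val_one]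
      ring
  · obtain ⟨η, θ, x₁, x₂, y₁, y₂, h, h'⟩ := CfsgLib.SL2C.exists_y_of_degree hc hq hχ hd
    obtain ⟨E, E', -, -, v₁, v₂, w₁, w₂⟩ := h.exists_vals hodd hc
    have hη0 : ∑ u : Fˣ, CfsgLib.SL2C.ch η u = 0 := by
      rw [CfsgLib.SL2C.sum_char, if_neg h.η_ne]
    rw [hd]
    rcases h' with rfl | rfl
    · rw [Finset.sum_congr rfl fun (u : Fˣ) _ => w₁.par 1 h1 (u : F) u.ne_zero]
      simp only [CfsgLib.SL2C.qc_coe, map_one, Units.val_one, ← Finset.sum_div, Finset.sum_add_distrib, ← Finset.sum_mul,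
        ← Finset.mul_sum, hη0, Finset.sum_const, Finset.card_univ, nsmul_eq_mul, hU,
        CfsgLib.SL2C.tc_one]
      ring
    · rw [Finset.sum_congr rfl fun (u : Fˣ) _ => w₂.par 1 h1 (u : F) u.ne_zero]
      simp only [CfsgLib.SL2C.qc_coe, map_one, Units.val_one, ← Finset.sum_div, Finset.sum_sub_distrib, ← Finset.sum_mul,
        ← Finset.mul_sum, hη0, Finset.sum_const, Finset.card_univ, nsmul_eq_mul, hU,
        CfsgLib.SL2C.tc_one]
      ring

end Cfsg.Agent.S2438
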