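import Cfsg.Statements.S2439
import Cfsg.Agent.SL2Blocks.Basic

set_option autoImplicit false
open Cfsg

namespace Cfsg.Agent.S2439

/-- Let F be a finite field with q elements of odd characteristic p, and M a maximal ideal of the algebraic integers containing p. Then SL₂ over F has exactly three p-blocks relative to M: the irreducible character of degree q (the Steinberg character) alone; the other irreducible characters taking the same value at −1 as at 1 (the principal block); and the irreducible characters χ with χ(−1) = −χ(1). Every Sylow p-subgroup is a defect group of each of the last two blocks. -/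
theorem result {F : Type*} [Field F] [Fintype F] (p : ℕ) [Fact p.Prime] [CharP F p] (hp : p ≠ 2)
    (M : Ideal Cfsg.AlgInt) (hM : Cfsg.IsPModular p M) :
    (∀ B : Set (Cfsg.IrrCharacter (Matrix.SpecialLinearGroup (Fin 2) F)), Cfsg.IsPBlock M B ↔
      (B = {χ : Cfsg.IrrCharacter (Matrix.SpecialLinearGroup (Fin 2) F) | (χ : Matrix.SpecialLinearGroup (Fin 2) F → ℂ) 1 = (Fintype.card F : ℂ)} ∨
       B = {χ : Cfsg.IrrCharacter (Matrix.SpecialLinearGroup (Fin 2) F) | (χ : Matrix.SpecialLinearGroup (Fin 2) F → ℂ) (-1) = (χ : Matrix.SpecialLinearGroup (Fin 2) F → ℂ) 1 ∧ (χ : Matrix.SpecialLinearGroup (Fin 2) F → ℂ) 1 ≠ (Fintype.card F : ℂ)} ∨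
       B = {χ : Cfsg.IrrCharacter (Matrix.SpecialLinearGroup (Fin 2) F) | (χ : Matrix.SpecialLinearGroup (Fin 2) F → ℂ) (-1) = -(χ : Matrix.SpecialLinearGroup (Fin 2) F → ℂ) 1})) ∧
    Nat.card {B : Set (Cfsg.IrrCharacter (Matrix.SpecialLinearGroup (Fin 2) F)) // Cfsg.IsPBlock M B} = 3 ∧
    ∀ P : Sylow p (Matrix.SpecialLinearGroup (Fin 2) F),
      Cfsg.IsDefectGroup p M {χ : Cfsg.IrrCharacter (Matrix.SpecialLinearGroup (Fin 2) F) | (χ : Matrix.SpecialLinearGroup (Fin 2) F → ℂ) (-1) = (χ : Matrix.SpecialLinearGroup (Fin 2) F → ℂ) 1 ∧ (χ : Matrix.SpecialLinearGroup (Fin 2) F → ℂ) 1 ≠ (Fintype.card F : ℂ)} (P : Subgroup (Matrix.SpecialLinearGroup (Fin 2) F)) ∧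
      Cfsg.IsDefectGroup p M {χ : Cfsg.IrrCharacter (Matrix.SpecialLinearGroup (Fin 2) F) | (χ : Matrix.SpecialLinearGroup (Fin 2) F → ℂ) (-1) = -(χ : Matrix.SpecialLinearGroup (Fin 2) F → ℂ) 1} (P : Subgroup (Matrix.SpecialLinearGroup (Fin 2) F)) := by
  classical
  open CfsgLib.SL2Blocks CfsgLib.SL2C CfsgLib.Block CfsgLib.Block.Chr in
  · haveI := hM.2.1.isPrime
    have hodd : Odd (Fintype.card F) := by
      obtain ⟨n, hp', hn⟩ := FiniteField.card F p
      rw [hn]
      exact (hp'.odd_of_ne_two hp).pow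
    have h2q : 2 ≤ Fintype.card F := two_le_card
    set A : Set (Cfsg.IrrCharacter (Matrix.SpecialLinearGroup (Fin 2) F)) :=
      {χ | (χ : Matrix.SpecialLinearGroup (Fin 2) F → ℂ) 1 = (Fintype.card F : ℂ)} with hAdef
    set P : Set (Cfsg.IrrCharacter (Matrix.SpecialLinearGroup (Fin 2) F)) :=
      {χ | (χ : Matrix.SpecialLinearGroup (Fin 2) F → ℂ) (-1) = (χ : Matrix.SpecialLinearGroup (Fin 2) F → ℂ) 1 ∧
        (χ : Matrix.SpecialLinearGroup (Fin 2) F → ℂ) 1 ≠ (Fintype.card F : ℂ)} with hPdef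
    set N : Set (Cfsg.IrrCharacter (Matrix.SpecialLinearGroup (Fin 2) F)) :=
      {χ | (χ : Matrix.SpecialLinearGroup (Fin 2) F → ℂ) (-1) = -(χ : Matrix.SpecialLinearGroup (Fin 2) F → ℂ) 1} with hNdef
    obtain ⟨c, hc⟩ := exists_ell (F := F)
    let triv : Cfsg.IrrCharacter (Matrix.SpecialLinearGroup (Fin 2) F) :=
      ⟨fun _ => 1, CfsgLib.Char.isIrrCharacter_one⟩
    let st : Cfsg.IrrCharacter (Matrix.SpecialLinearGroup (Fin 2) F) := ⟨St, isIrr_St⟩
    have hst1 : (st : Matrix.SpecialLinearGroup (Fin 2) F → ℂ) 1 = (Fintype.card F : ℂ) :=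
      St_apply_one hc
    obtain ⟨χ₀, hχ₀⟩ := exists_odd_char (F := F) hodd
    -- membership in `P` and `N`
    have htriv : triv ∈ P := ⟨rfl, fun h => by
      have h' : (1 : ℂ) = (Fintype.card F : ℂ) := h
      have : (1 : ℕ) = Fintype.card F := by exact_mod_cast h'
      omega⟩
    have hstsame : ∀ χ ∈ A, χ = st := fun χ h =>
      Subtype.ext (eq_St_of_degree hc χ.2 h)
    have hblockA : blockOf M (st : Matrix.SpecialLinearGroup (Fin 2) F → ℂ) = A := by
      rw [blockOf_eq_singleton_of_degree hM st]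
      · ext χ
        exact ⟨fun h => h ▸ hst1, hstsame χ⟩
      · have : Cfsg.charDegree (st : Matrix.SpecialLinearGroup (Fin 2) F → ℂ) = Fintype.card F := by
          have h := (irr_one st).1
          rw [hst1] at h
          exact_mod_cast h.symm
        rw [this]
        exact factorization_card p
    have hnotA : ∀ χ, χ ∉ A → st ∉ blockOf M (χ : Matrix.SpecialLinearGroup (Fin 2) F → ℂ) := by
      intro χ hχ h
      have : χ ∈ blockOf M (st : Matrix.SpecialLinearGroup (Fin 2) F → ℂ) := sameBlock_symm h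
      rw [hblockA] at this
      exact hχ this
    have hstsign : (st : Matrix.SpecialLinearGroup (Fin 2) F → ℂ) (-1) =
        (st : Matrix.SpecialLinearGroup (Fin 2) F → ℂ) 1 := by
      obtain ⟨e, he, hx⟩ := exists_eq_bor_of_mem_center (neg_one_mem_center (F := F))
      rw [hst1]
      show St (-1 : SL F) = _
      rw [hx]
      exact (St_vals hc).cen e (mem_sgn.2 he)
    have hNne : ∀ χ ∈ N, (χ : Matrix.SpecialLinearGroup (Fin 2) F → ℂ) 1 ≠ (Fintype.card F : ℂ) := by
      intro χ hχ h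
      have e := hstsame χ h
      subst e
      have h' : -(st : Matrix.SpecialLinearGroup (Fin 2) F → ℂ) 1 = (st : Matrix.SpecialLinearGroup (Fin 2) F → ℂ) 1 :=
        hχ.symm.trans hstsign
      exact irr_one_ne_zero st (by linear_combination (-1/2 : ℂ) * h')
    have hblockP : ∀ χ ∈ P, blockOf M (χ : Matrix.SpecialLinearGroup (Fin 2) F → ℂ) = P := by
      intro χ hχ
      ext ψ
      refine ⟨fun h => ?_, fun h => ?_⟩
      · have hA' : (ψ : Matrix.SpecialLinearGroup (Fin 2) F → ℂ) 1 ≠ (Fintype.card F : ℂ) :=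
          fun e => hnotA χ hχ.2 (hstsame ψ e ▸ h)
        refine ⟨(apply_neg_one ψ).resolve_right fun hn => ?_, hA'⟩
        exact not_sameBlock_of_sign p hp hM χ ψ hχ.1 hn h
      · exact sameBlock_of_sign p hp hM χ ψ hχ.2 h.2 1 (by rw [hχ.1, one_mul]) (by rw [h.1, one_mul])
    have hblockN : ∀ χ ∈ N, blockOf M (χ : Matrix.SpecialLinearGroup (Fin 2) F → ℂ) = N := by
      intro χ hχ
      ext ψ
      refine ⟨fun h => ?_, fun h => ?_⟩
      · exact (apply_neg_one ψ).resolve_left fun hp' =>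
          not_sameBlock_of_sign p hp hM ψ χ hp' hχ (sameBlock_symm h)
      · exact sameBlock_of_sign p hp hM χ ψ (hNne χ hχ) (hNne ψ h) (-1)
          (by rw [show _ = _ from hχ, neg_one_mul]) (by rw [show _ = _ from h, neg_one_mul])
    have hiff : ∀ B, Cfsg.IsPBlock M B ↔ (B = A ∨ B = P ∨ B = N) := by
      intro B
      constructor
      · rintro ⟨χ, rfl⟩
        by_cases hA : χ ∈ A
        · exact Or.inl (by rw [hstsame χ hA]; exact hblockA)
        rcases apply_neg_one χ with h | h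
        · exact Or.inr (Or.inl (hblockP χ ⟨h, hA⟩))
        · exact Or.inr (Or.inr (hblockN χ h))
      · rintro (rfl | rfl | rfl)
        · exact ⟨st, hblockA.symm⟩
        · exact ⟨triv, (hblockP triv htriv).symm⟩
        · exact ⟨χ₀, (hblockN χ₀ hχ₀).symm⟩
    have hAP : A ≠ P := fun h => htriv.2 (h ▸ htriv : triv ∈ A)
    have hPN : P ≠ N := fun h => by
      have h' : triv ∈ N := h ▸ htriv
      simp only [hNdef, Set.mem_ofPred_eq, triv] at h'
      norm_num at h'
    have hAN : A ≠ N := fun h => hNne χ₀ hχ₀ (h ▸ hχ₀ : χ₀ ∈ A)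
    refine ⟨hiff, ?_, fun S => ⟨?_, ?_⟩⟩
    · calc Nat.card {B // Cfsg.IsPBlock M B} = ({A, P, N} : Set _).ncard := by
            rw [← Nat.card_coe_set_eq]
            refine Nat.card_congr (Equiv.subtypeEquivRight fun B => ?_)
            rw [hiff]
            simp
        _ = 3 := Set.ncard_eq_three.2 ⟨A, P, N, hAP, hAN, hPN, rfl⟩
    · exact isDefectGroup_sylow hM ((hiff P).2 (Or.inr (Or.inl rfl)))
        (blockDefect_of_degree htriv (degree_coprime p hp triv htriv.2)) S
    · exact isDefectGroup_sylow hM ((hiff N).2 (Or.inr (Or.inr rfl)))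
        (blockDefect_of_degree (show χ₀ ∈ N from hχ₀) (degree_coprime p hp χ₀ (hNne χ₀ hχ₀))) S

end Cfsg.Agent.S2439
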