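import Cfsg.Statements.S2444
import Cfsg.Agent.OreSL.Large
import Cfsg.Agent.OreSL.Scalar
import Cfsg.Agent.OreSL.Small

set_option autoImplicit false
open Cfsg

namespace Cfsg.Agent.S2444

/-- In the special linear group SL(n,F) over a finite field F, with n ≥ 2 and (n, |F|) not (2,2) or (2,3), every element is a commutator a·b·a⁻¹·b⁻¹ of two elements of SL(n,F). -/
theorem result {F : Type*} [Field F] [Fintype F] (n : ℕ) (hn : 2 ≤ n) (hex : n = 2 → 4 ≤ Fintype.card F) :
    ∀ g : Matrix.SpecialLinearGroup (Fin n) F, ∃ a b : Matrix.SpecialLinearGroup (Fin n) F, g = a * b * a⁻¹ * b⁻¹ := by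
  classical
  intro g
  refine CfsgLib.OreSL.IsComm.exists_sl ?_
  by_cases hc : ∃ c : F, (g : Matrix (Fin n) (Fin n) F) = c • 1
  · obtain ⟨c, hc⟩ := hc
    have hdet : c ^ n = 1 := by
      have h := g.2
      rw [hc, Matrix.det_smul, Matrix.det_one, mul_one, Fintype.card_fin] at h
      exact h
    rw [hc]
    exact CfsgLib.OreSL.isComm_scalar (by omega) hdet
  push Not at hc
  rcases Nat.lt_or_ge (Fintype.card F) 4 with h | h
  · have h1 : 1 < Fintype.card F := Fintype.one_lt_card
    exact CfsgLib.OreSL.isComm_small (by omega) (by by_contra hh; have := hex (by omega); omega) _ g.2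
  · exact CfsgLib.OreSL.isComm_large (by rw [Cardinal.mk_fintype]; exact_mod_cast h) hn _ hc g.2

end Cfsg.Agent.S2444
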