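import Cfsg.Statements.S2445
import Cfsg.Agent.OreSp.Main
import Mathlib.LinearAlgebra.SymplecticGroup

set_option autoImplicit false
open Cfsg

namespace Cfsg.Agent.S2445

open Matrix CfsgLib.OreSp

/-- In the symplectic group Sp(2m,F) over a finite field F (m ≥ 1), other than Sp(2,2), Sp(2,3) and Sp(4,2), every element is a commutator a·b·a⁻¹·b⁻¹ of two elements of Sp(2m,F). -/
theorem result {F : Type*} [Field F] [Fintype F] (m : ℕ) (hm : 1 ≤ m) (h1 : m = 1 → 4 ≤ Fintype.card F)
    (h2 : m = 2 → 3 ≤ Fintype.card F) : ∀ g : Matrix.symplecticGroup (Fin m) F, ∃ a b : Matrix.symplecticGroup (Fin m) F, g = a * b * a⁻¹ * b⁻¹ := by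
  intro g
  classical
  let J' : Matrix (Fin m ⊕ Fin m) (Fin m ⊕ Fin m) F := Matrix.J (Fin m) F
  have hgI : ∀ u v, ((g : Matrix _ _ F) *ᵥ u) ⬝ᵥ (J' *ᵥ ((g : Matrix _ _ F) *ᵥ v)) = u ⬝ᵥ (J' *ᵥ v) := by
    intro u v
    rw [form_mulVec, SymplecticGroup.mem_iff'.mp g.2]
  have hinv : Function.Injective (Matrix.mulVecLin (g : Matrix (Fin m ⊕ Fin m) (Fin m ⊕ Fin m) F)) :=
    Matrix.mulVec_injective_iff_isUnit.mpr
      (Matrix.isUnit_iff_isUnit_det _ |>.mpr (SymplecticGroup.symplectic_det g.2))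
  let X : Space F :=
    { V := (Fin m ⊕ Fin m) → F
      B := Matrix.toLinearMap₂' F J'
      alt := fun u => by
        rw [Matrix.toLinearMap₂'_apply']
        simp [J', Matrix.J, Matrix.mulVec, dotProduct, Matrix.one_apply, mul_comm]
      nd := fun u hu => by
        refine dotProduct_eq_zero u fun v => ?_
        obtain ⟨z, hz⟩ : ∃ z, J' *ᵥ z = v := by
          refine Matrix.mulVec_surjective_iff_isUnit.mpr ?_ v
          exact (Matrix.isUnit_iff_isUnit_det _).mpr (Matrix.isUnit_det_J (Fin m) F)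
        rw [← hz, ← Matrix.toLinearMap₂'_apply']
        exact hu z
      g := LinearEquiv.ofBijective (Matrix.mulVecLin (g : Matrix (Fin m ⊕ Fin m) (Fin m ⊕ Fin m) F))
        ⟨hinv, LinearMap.injective_iff_surjective.mp hinv⟩
      isom := fun u v => by
        simp only [LinearEquiv.ofBijective_apply, Matrix.mulVecLin_apply, Matrix.toLinearMap₂'_apply']
        exact hgI u v }
  have hB : ∀ u v, X.B u v = u ⬝ᵥ (J' *ᵥ v) := fun u v => Matrix.toLinearMap₂'_apply' ..
  obtain ⟨x, y, hx, hy, hxy⟩ := comm_space X m (by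
    show Module.finrank F ((Fin m ⊕ Fin m) → F) = 2 * m
    rw [Module.finrank_fintype_fun_eq_card, Fintype.card_sum, Fintype.card_fin, two_mul]) hm h1 h2
  have hmem : ∀ T : X.V ≃ₗ[F] X.V, IsIsom X T →
      LinearMap.toMatrix' T.toLinearMap ∈ Matrix.symplecticGroup (Fin m) F := by
    intro T hT
    rw [SymplecticGroup.mem_iff']
    apply Matrix.ext_of_mulVec_single
    intro j
    refine dotProduct_eq _ _ fun u => ?_
    rw [dotProduct_comm, dotProduct_comm _ u, ← form_mulVec, LinearMap.toMatrix'_mulVec,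
      LinearMap.toMatrix'_mulVec, ← hB]
    exact (hT _ _).trans (hB _ _)
  let a : Matrix.symplecticGroup (Fin m) F := ⟨_, hmem x hx⟩
  let b : Matrix.symplecticGroup (Fin m) F := ⟨_, hmem y hy⟩
  refine ⟨a, b, ?_⟩
  have h : g * (b * a) = a * b := by
    apply Subtype.ext
    apply Matrix.ext_of_mulVec_single
    intro j
    show ((g : Matrix _ _ F) * (LinearMap.toMatrix' y.toLinearMap * LinearMap.toMatrix' x.toLinearMap)) *ᵥ _ =
      (LinearMap.toMatrix' x.toLinearMap * LinearMap.toMatrix' y.toLinearMap) *ᵥ _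
    rw [← Matrix.mulVec_mulVec, ← Matrix.mulVec_mulVec, ← Matrix.mulVec_mulVec,
      LinearMap.toMatrix'_mulVec, LinearMap.toMatrix'_mulVec, LinearMap.toMatrix'_mulVec,
      LinearMap.toMatrix'_mulVec]
    exact hxy _
  rw [← h]
  group

end Cfsg.Agent.S2445
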