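import Cfsg.Statements.S2456
import Cfsg.Agent.SL2C.ClassProducts

set_option autoImplicit false
open Cfsg

namespace Cfsg.Agent.S2456

/-- A strong covering result in the direction of Thompson's conjecture (non-identity elements) for PSL(2,q), q even: let F be a finite field of characteristic 2 with q ≥ 4 elements and let x ∈ PSL(2,F) have order greater than 2 and not dividing q + 1. Then every non-identity element of PSL(2,F) is a product of two conjugates of x. -/
theorem result {F : Type*} [Field F] [Fintype F] [CharP F 2] (h4 : 4 ≤ Fintype.card F)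
    (x : Matrix.ProjectiveSpecialLinearGroup (Fin 2) F) (hx2 : 2 < orderOf x) (hxq : ¬ orderOf x ∣ Fintype.card F + 1) : ∀ g : Matrix.ProjectiveSpecialLinearGroup (Fin 2) F, g ≠ 1 → ∃ u v : Matrix.ProjectiveSpecialLinearGroup (Fin 2) F, g = (u * x * u⁻¹) * (v * x * v⁻¹) := by
  classical
  intro g hg
  obtain ⟨X, rfl⟩ := CfsgLib.SL2C.pm_surjective x
  haveI : Fact (Nat.Prime 2) := ⟨Nat.prime_two⟩
  obtain ⟨h4, h0⟩ : (CfsgLib.SL2C.mt X).trace ^ 2 ≠ 4 ∧ (CfsgLib.SL2C.mt X).trace ≠ 0 := by
    refine CfsgLib.SL2C.trace_conditions 2 hx2 fun hdvd => ?_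
    -- even order forces order two
    have hX : X ∉ Subgroup.center _ := fun h => by
      rw [CfsgLib.SL2C.pm_eq_one_iff.2 h, orderOf_one] at hx2
      omega
    obtain ⟨r, hr⟩ := CfsgLib.SL2C.split_root_of_not_dvd hxq
    rcases CfsgLib.SL2C.cases4 X with hc | ⟨a, ha, hXa⟩ | ⟨e, b, he, hb, hXb⟩ | hE
    · exact hX hc
    · obtain ⟨y, rfl⟩ := isConj_iff.1 hXa
      have h1 : orderOf (CfsgLib.SL2C.pm (y * CfsgLib.SL2C.dg a * y⁻¹)) ∣ Fintype.card F - 1 := by
        refine (orderOf_map_dvd _ _).trans ?_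
        rw [show orderOf (y * CfsgLib.SL2C.dg a * y⁻¹) = orderOf (CfsgLib.SL2C.dg a) from
          orderOf_injective (MulAut.conj y).toMonoidHom (MulEquiv.injective _) _]
        refine (orderOf_map_dvd _ _).trans ?_
        rw [← Fintype.card_units]
        exact orderOf_dvd_card
      have h2 : 2 ∣ Fintype.card F - 1 := hdvd.trans h1
      have h3 : Even (Fintype.card F) := by
        rw [Nat.even_iff]
        exact FiniteField.even_card_iff_char_two.1 (ringChar.eq F 2)
      obtain ⟨m, hm⟩ := h3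
      omega
    · obtain ⟨y, rfl⟩ := isConj_iff.1 hXb
      have he1 : e ∈ ({1} : Finset Fˣ) :=
        CfsgLib.SL2C.sgn_eq_singleton (F := F) ▸ CfsgLib.SL2C.mem_sgn.2 he
      rw [Finset.mem_singleton] at he1
      subst he1
      have h1 : orderOf (CfsgLib.SL2C.pm (y * CfsgLib.SL2C.bor 1 b * y⁻¹)) ∣ 2 := by
        refine (orderOf_map_dvd _ _).trans ?_
        rw [show orderOf (y * CfsgLib.SL2C.bor 1 b * y⁻¹) = orderOf (CfsgLib.SL2C.bor 1 b) from
          orderOf_injective (MulAut.conj y).toMonoidHom (MulEquiv.injective _) _,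
          CfsgLib.SL2C.orderOf_bor_one 2 hb]
      have := Nat.le_of_dvd two_pos h1
      omega
    · refine hE.det_smul_add_smul_ne_zero (a := -r) (b := 1) (Or.inr one_ne_zero) ?_
      rw [CfsgLib.SL2C.det_smul_add_smul, CfsgLib.SL2C.det_mt]
      linear_combination hr
  exact CfsgLib.SL2C.exists_prod_of_class h4 h0
    (Or.inr (CfsgLib.SL2C.split_root_of_not_dvd hxq)) hg

end Cfsg.Agent.S2456
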