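import Cfsg.Statements.S2458
import Cfsg.Agent.ReeSquare.Family

set_option autoImplicit false
open Cfsg

namespace Cfsg.Agent.S2458

/-- A strong covering result in the direction of Thompson's conjecture (non-identity elements) for the small Ree groups: let q = 3^(2m+1) ≥ 27, K the field with q elements and ²G₂(q) the Ree group over K. For every element x of ²G₂(q) of order greater than 2 and not divisible by 3, every non-identity element of ²G₂(q) is a product of two conjugates of x. -/
theorem result {K : Type*} [Field K] [Fintype K] (m : ℕ) (hm : 1 ≤ m) (hK : Fintype.card K = 3 ^ (2 * m + 1))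
    (x : Cfsg.Lie.twistedG2 K (3 ^ m)) (hx2 : 2 < orderOf x) (hx3 : ¬ 3 ∣ orderOf x) : ∀ g : Cfsg.Lie.twistedG2 K (3 ^ m), g ≠ 1 → ∃ u v : Cfsg.Lie.twistedG2 K (3 ^ m), g = (u * x * u⁻¹) * (v * x * v⁻¹) := by
  classical
  obtain ⟨C⟩ := CfsgLib.Chev.G2Tw.exists_ctx (K := K) (m := m) hK
  letI : Fintype (CfsgLib.Chev.G2Tw.RG K m) := Fintype.ofFinite _
  obtain ⟨D⟩ := CfsgLib.ReeSquare.exists_tori C hm
  intro g hg
  show CfsgLib.ReeSquare.Cover x g
  by_cases h2 : orderOf g = 2
  · obtain ⟨y, hy⟩ := isConj_iff.1 (C.isConj_aG hm (g := g)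
      (by rw [← pow_two]; exact orderOf_dvd_iff_pow_eq_one.1 (dvd_of_eq h2)) hg).symm
    refine CfsgLib.ReeSquare.Cover.of_conj y ?_
    rw [hy]
    have hreal := (CfsgLib.ReeSquare.hasInverter C hm D.h₁ D.h₂ D.hor hx2 hx3).real
    rcases CfsgLib.ReeSquare.card_centralizer_semisimple C hm D.h₁ D.h₂ D.hor hx2 hx3 with
      h | ⟨z, hz, -⟩
    · exact CfsgLib.ReeSquare.cover_involution_small C hm D hreal h
    · refine CfsgLib.ReeSquare.Cover.of_conj_left z
        (CfsgLib.ReeSquare.cover_involution_large C hm D ?_ hz fun e => ?_)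
      · exact (CfsgLib.ReeSquare.hasInverter C hm D.h₁ D.h₂ D.hor
          (by rwa [C.orderOf_conj]) (by rwa [C.orderOf_conj])).real
      · rw [conj_eq_one_iff] at e
        rw [e, orderOf_one] at hx2
        omega
  by_cases h3 : orderOf g = 3
  · exact CfsgLib.ReeSquare.cover_three C hm D hx2 hx3 h3
  · exact CfsgLib.ReeSquare.cover_generic C hm D hx2 hx3 hg h2 h3

end Cfsg.Agent.S2458
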