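import Cfsg.Statements.S2459
import Cfsg.Agent.Classical.ThompsonPSLThree
-- import your own Cfsg.Agent.* helpers here

set_option autoImplicit false
open Cfsg

namespace Cfsg.Agent.S2459

/-- A form of Thompson's conjecture for PSL(3,q), q > 2 (covering the non-identity elements), with a semisimple class: for F a finite field of characteristic p with more than 2 elements there is an element x of PSL(3,F) of order prime to p such that every non-identity element of PSL(3,F) is a product of two conjugates of x. -/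
theorem result {F : Type*} [Field F] [Fintype F] (p : ℕ) [Fact p.Prime] [CharP F p] (h3 : 3 ≤ Fintype.card F) :
    ∃ x : Matrix.ProjectiveSpecialLinearGroup (Fin 3) F, ¬ p ∣ orderOf x ∧ ∀ g : Matrix.ProjectiveSpecialLinearGroup (Fin 3) F, g ≠ 1 → ∃ u v : Matrix.ProjectiveSpecialLinearGroup (Fin 3) F, g = (u * x * u⁻¹) * (v * x * v⁻¹) := by
  obtain ⟨x, ⟨n, hpn, hxn⟩, hx⟩ := CfsgLib.ThompsonThree.exists_covers (F := F) p h3
  let π : Matrix.SpecialLinearGroup (Fin 3) F →* Matrix.ProjectiveSpecialLinearGroup (Fin 3) F :=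
    QuotientGroup.mk' _
  refine ⟨π x, fun h => hpn (h.trans (orderOf_dvd_of_pow_eq_one (by rw [← map_pow, hxn, map_one]))), ?_⟩
  intro g hg
  obtain ⟨g, rfl⟩ := QuotientGroup.mk'_surjective _ g
  obtain ⟨u, v, huv⟩ := hx g (fun c hc => hg ((QuotientGroup.eq_one_iff g).2 (by
    refine Matrix.SpecialLinearGroup.mem_center_iff.2 ⟨c, ?_, ?_⟩
    · have h := g.2
      rw [hc] at h
      simpa [Matrix.det_smul] using h
    · rw [hc, Matrix.scalar_apply]
      ext i j
      simp [Matrix.diagonal, Matrix.one_apply])))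
  exact ⟨π u, π v, by rw [← map_inv, ← map_inv, ← map_mul, ← map_mul, ← map_mul, ← map_mul, ← map_mul, ← huv]⟩

end Cfsg.Agent.S2459
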