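import Cfsg.Statements.S2460
import Cfsg.Agent.OreSp.PSpCover

set_option autoImplicit false
open Cfsg

namespace Cfsg.Agent.S2460

/-- A form of Thompson's conjecture for the simple groups PSp(4,q), q ≥ 3 (covering the non-identity elements), with a semisimple class: for F a finite field of characteristic p with at least 3 elements there is an element x of PSp(4,F) of order prime to p such that every non-identity element of PSp(4,F) is a product of two conjugates of x. -/
theorem result {F : Type*} [Field F] [Fintype F] (p : ℕ) [Fact p.Prime] [CharP F p] (h3 : 3 ≤ Fintype.card F) :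
    ∃ x : Cfsg.PSp 2 F, ¬ p ∣ orderOf x ∧ ∀ g : Cfsg.PSp 2 F, g ≠ 1 → ∃ u v : Cfsg.PSp 2 F, g = (u * x * u⁻¹) * (v * x * v⁻¹) := by
  obtain ⟨x, hx, hcov⟩ := CfsgLib.OreSp.exists_cover_sp4 p h3
  let π := QuotientGroup.mk' (Subgroup.center (Matrix.symplecticGroup (Fin 2) F))
  refine ⟨π x, fun h => hx (h.trans (orderOf_map_dvd π x)), fun g _ => ?_⟩
  obtain ⟨g₀, rfl⟩ := QuotientGroup.mk'_surjective _ g
  obtain ⟨y, z, hy, hz, ζ, hζ, hyz⟩ := hcov g₀
  obtain ⟨u, hu⟩ := isConj_iff.mp hy
  obtain ⟨v, hv⟩ := isConj_iff.mp hz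
  refine ⟨π u, π v, ?_⟩
  calc π g₀ = π (ζ * g₀) := by
        rw [map_mul, show π ζ = 1 from (QuotientGroup.eq_one_iff ζ).mpr hζ, one_mul]
    _ = _ := by rw [hyz, ← hu, ← hv, map_mul, map_mul, map_mul, map_mul, map_mul, map_inv, map_inv]

end Cfsg.Agent.S2460
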