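import Cfsg.Statements.S2461
import Cfsg.Agent.OreG2.Large
import Cfsg.Agent.OreG2.Four

set_option autoImplicit false
set_option linter.style.haveILetI false
open Cfsg

namespace Cfsg.Agent.S2461

/-- A form of Thompson's conjecture for the simple Chevalley groups G₂(q), q ≥ 3 (covering the non-identity elements), with a semisimple class: for F a finite field of characteristic p with at least 3 elements there is an element x of the Chevalley group of type G₂ over F of order prime to p such that every non-identity element of that group is a product of two conjugates of x. -/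
theorem result {F : Type*} [Field F] [Fintype F] (p : ℕ) [Fact p.Prime] [CharP F p] (h3 : 3 ≤ Fintype.card F) :
    ∃ x : Cfsg.Lie.chevG2.group F, ¬ p ∣ orderOf x ∧ ∀ g : Cfsg.Lie.chevG2.group F, g ≠ 1 → ∃ u v : Cfsg.Lie.chevG2.group F, g = (u * x * u⁻¹) * (v * x * v⁻¹) := by
  classical
  have hq : ∀ {x : GL Cfsg.Lie.chevG2.Idx F} {k : ℕ}, x ∈ Cfsg.Lie.chevG2.group F → x ^ k = 1 →
      ¬ p ∣ k → (∀ g ∈ Cfsg.Lie.chevG2.group F, g ≠ 1 → CfsgLib.OreG2.Cover x g) → _ :=
    fun hx hk hpk h => CfsgLib.OreG2.result_of_cover hx hk hpk h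
  have hdvd : ∀ n : ℕ, p ∣ n ↔ (n : F) = 0 := fun n => (CharP.cast_eq_zero_iff F p n).symm
  have hcast : ((Fintype.card F : ℕ) : F) = 0 := FiniteField.cast_card_eq_zero F
  rcases (show Fintype.card F = 3 ∨ Fintype.card F = 4 ∨ Fintype.card F = 5 ∨
      Fintype.card F = 6 ∨ 7 ≤ Fintype.card F by omega) with h | h | h | h | h
  · obtain ⟨x, hx, hk, hc⟩ := CfsgLib.OreG2.three h
    refine hq hx hk ?_ hc
    rw [hdvd]
    rw [h] at hcast
    intro h8
    push_cast at h8 hcast
    exact one_ne_zero (α := F) (by linear_combination (3 : F) * hcast - h8)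
  · have h2 : (2 : F) = 0 := by
      rw [h] at hcast
      push_cast at hcast
      exact mul_self_eq_zero.mp (by linear_combination hcast)
    haveI : CharP F 2 := CharTwo.of_one_ne_zero_of_two_eq_zero one_ne_zero h2
    obtain ⟨x, hx, hk, hc⟩ := CfsgLib.OreG2.four h
    refine hq hx hk ?_ hc
    rw [hdvd]
    intro h15
    push_cast at h15
    exact one_ne_zero (α := F) (by linear_combination h15 - (7 : F) * h2)
  · obtain ⟨x, hx, hk, hc⟩ := CfsgLib.OreG2.five h
    refine hq hx hk ?_ hc
    rw [hdvd]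
    rw [h] at hcast
    intro h24
    push_cast at h24 hcast
    exact one_ne_zero (α := F) (by linear_combination (5 : F) * hcast - h24)
  · exfalso
    obtain ⟨n, hp', e⟩ := FiniteField.card F p
    rw [h] at e
    have h2 : (2 : ℕ) ∣ p ^ (n : ℕ) := ⟨3, by rw [← e]⟩
    have h3' : (3 : ℕ) ∣ p ^ (n : ℕ) := ⟨2, by rw [← e]⟩
    have a := Nat.prime_dvd_prime_iff_eq Nat.prime_two hp' |>.mp (Nat.prime_two.dvd_of_dvd_pow h2)
    have b := Nat.prime_dvd_prime_iff_eq Nat.prime_three hp' |>.mp
      (Nat.prime_three.dvd_of_dvd_pow h3')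
    omega
  · obtain ⟨x, hx, hk, hc⟩ := CfsgLib.OreG2.large h
    refine hq hx hk ?_ hc
    rw [hdvd, Nat.cast_sub (by omega), hcast, zero_sub, Nat.cast_one, neg_eq_zero]
    exact one_ne_zero

end Cfsg.Agent.S2461
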