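import Cfsg.Statements.S2462
import Cfsg.Agent.OreD4.Large
import Cfsg.Agent.OreD4.Three
import Cfsg.Agent.OreD4.TwoMain

set_option autoImplicit false
set_option linter.style.haveILetI false
open Cfsg

namespace Cfsg.Agent.S2462

/-- A form of Thompson's conjecture for the triality groups ³D₄(q) (covering the non-identity elements) with a semisimple class: for q a power of the prime p and K the field with q³ elements there is an element x of ³D₄(q) (realised over K) of order prime to p such that every non-identity element of ³D₄(q) is a product of two conjugates of x. -/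
theorem result {K : Type*} [Field K] [Fintype K] (p : ℕ) [Fact p.Prime] [CharP K p] (q : ℕ) (hq : IsPrimePow q) (hK : Fintype.card K = q ^ 3) :
    ∃ x : Cfsg.Lie.twistedD4 K q, ¬ p ∣ orderOf x ∧ ∀ g : Cfsg.Lie.twistedD4 K q, g ≠ 1 → ∃ u v : Cfsg.Lie.twistedD4 K q, g = (u * x * u⁻¹) * (v * x * v⁻¹) := by
  classical
  obtain ⟨C⟩ := CfsgLib.Chev.D4Tw.exists_ctx hq hK
  have hdvd : ∀ n : ℕ, p ∣ n ↔ (n : K) = 0 := fun n => (CharP.cast_eq_zero_iff K p n).symm
  have hcast : (q : K) = 0 := by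
    have h : ((Fintype.card K : ℕ) : K) = 0 := FiniteField.cast_card_eq_zero K
    rw [hK] at h
    push_cast at h
    exact eq_zero_of_pow_eq_zero h
  have conc : ∀ {x : GL Cfsg.Lie.chevD4.Idx K} {k : ℕ}, x ∈ C.Z.G1 → x ^ k = 1 → ¬ p ∣ k →
      (∀ g ∈ C.Z.G1, g ≠ 1 → CfsgLib.OreD4.Cover C x g) →
      ∃ x : Cfsg.Lie.twistedD4 K q, ¬ p ∣ orderOf x ∧ ∀ g : Cfsg.Lie.twistedD4 K q, g ≠ 1 →
        ∃ u v : Cfsg.Lie.twistedD4 K q, g = (u * x * u⁻¹) * (v * x * v⁻¹) := by
    intro x k hx hk hpk hc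
    rw [← C.grp_eq]
    refine ⟨⟨x, hx⟩, fun hd => hpk (hd.trans (orderOf_dvd_of_pow_eq_one (Subtype.ext hk))),
      fun g hg => ?_⟩
    obtain ⟨u, hu, v, hv, e⟩ := hc g g.2 fun e => hg (Subtype.ext e)
    exact ⟨⟨u, hu⟩, ⟨v, hv⟩, Subtype.ext e⟩
  rcases (show q = 2 ∨ q = 3 ∨ 4 ≤ q by have := hq.one_lt; omega) with rfl | rfl | h
  · obtain ⟨x, hx, hk, hc⟩ := CfsgLib.OreD4.two C
    refine conc hx hk ?_ hc
    rw [hdvd]
    intro h21
    push_cast at h21 hcast
    exact one_ne_zero (α := K) (by linear_combination h21 - (10 : K) * hcast)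
  · obtain ⟨x, hx, hk, hc⟩ := CfsgLib.OreD4.three C
    refine conc hx hk ?_ hc
    rw [hdvd]
    intro h8
    push_cast at h8 hcast
    exact one_ne_zero (α := K) (by linear_combination (3 : K) * hcast - h8)
  · obtain ⟨x, hx, hk, hc⟩ := CfsgLib.OreD4.large C h
    refine conc hx hk ?_ hc
    rw [hdvd, Nat.cast_sub (Nat.one_le_pow _ _ (by omega)), Nat.cast_pow, hcast,
      zero_pow three_ne_zero, zero_sub, Nat.cast_one, neg_eq_zero]
    exact one_ne_zero

end Cfsg.Agent.S2462
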