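import Cfsg.Statements.S2463
import Cfsg.Agent.ReeSq.Main
import Cfsg.Agent.TitsSquare.Main

set_option autoImplicit false
set_option maxRecDepth 100000
open Cfsg

namespace Cfsg.Agent.S2463

theorem of_equiv {G M : Type*} [Group G] [Group M] (H : Subgroup G) (e : M ≃* H)
    (h : ∃ x : H, Odd (orderOf x) ∧ ∀ g : H, g ≠ 1 →
      ∃ u v : H, g = (u * x * u⁻¹) * (v * x * v⁻¹)) :
    ∃ x : M, Odd (orderOf x) ∧ ∀ g : M, g ≠ 1 → ∃ u v : M, g = (u * x * u⁻¹) * (v * x * v⁻¹) :=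
  let ⟨_, ho, hcov⟩ := h
  CfsgLib.TitsSquare.transfer e.symm ho hcov

theorem of_subgroup {G M : Type*} [Group G] [Group M] (H : Subgroup G) (e : M ≃* H)
    (h : ∃ x ∈ H, Odd (orderOf x) ∧ ∀ g ∈ H, g ≠ 1 →
      ∃ u ∈ H, ∃ v ∈ H, g = u * x * u⁻¹ * (v * x * v⁻¹)) :
    ∃ x : M, Odd (orderOf x) ∧ ∀ g : M, g ≠ 1 → ∃ u v : M, g = (u * x * u⁻¹) * (v * x * v⁻¹) := by
  obtain ⟨x, hx, ho, hcov⟩ := h
  refine CfsgLib.TitsSquare.transfer e.symm (x := ⟨x, hx⟩) (by rwa [← Subgroup.orderOf_coe])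
    fun g hg => ?_
  obtain ⟨u, hu, v, hv, h⟩ := hcov g.1 g.2 fun h1 => hg (Subtype.ext h1)
  exact ⟨⟨u, hu⟩, ⟨v, hv⟩, Subtype.ext h⟩

/-- A form of Thompson's conjecture for the simple groups of type ²F₄ (covering the non-identity elements) with a semisimple class: if M is a large Ree group ²F₄(2^(2m+1)) with m ≥ 1, or the Tits group, then there is an element x of M of odd order such that every non-identity element of M is a product of two conjugates of x. -/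
theorem result {M : Type*} [Group M] [Finite M] (hM : Cfsg.Lie.Iso2F4 M ∨ Cfsg.Lie.IsoTits M) :
    ∃ x : M, Odd (orderOf x) ∧ ∀ g : M, g ≠ 1 → ∃ u v : M, g = (u * x * u⁻¹) * (v * x * v⁻¹) := by
  rcases hM with ⟨K, _, _, m, hm, hK, ⟨e⟩⟩ | ⟨⟨e⟩⟩
  · obtain ⟨C⟩ := CfsgLib.Chev.F4Tw.exists_ctx hK
    have h := CfsgLib.ReeSq.exists_class C hm
    rw [C.G1_eq] at h
    exact of_subgroup C.grp e h
  · exact of_equiv _ e CfsgLib.TitsSquare.exists_class_tits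

end Cfsg.Agent.S2463
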