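import Cfsg.Statements.S2468
import Cfsg.Agent.Spectrum.GLPairs

set_option autoImplicit false
open Cfsg

namespace Cfsg.Agent.S2468

/-- Adjacency of two odd primes in the prime graph of PSL(n,q): let F be a finite field of characteristic p with q elements, n ≥ 2 with PSL(n,F) simple, and let r ≠ s be odd primes different from p dividing the order of PSL(n,F). Let k and l be the multiplicative orders of q modulo r and modulo s, and suppose 2 ≤ k ≤ l. Then PSL(n,F) has NO element of order r·s if and only if k + l > n and k does not divide l. -/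
theorem result {F : Type*} [Field F] [Fintype F] (p : ℕ) [Fact p.Prime] [CharP F p] (n : ℕ) (hn : 2 ≤ n) (hsmall : n = 2 → 4 ≤ Fintype.card F)
    (r s : ℕ) (hr : r.Prime) (hs : s.Prime) (hr2 : r ≠ 2) (hs2 : s ≠ 2) (hrp : r ≠ p) (hsp : s ≠ p) (hrs : r ≠ s)
    (hrG : r ∣ Nat.card (Matrix.ProjectiveSpecialLinearGroup (Fin n) F)) (hsG : s ∣ Nat.card (Matrix.ProjectiveSpecialLinearGroup (Fin n) F))
    (k l : ℕ) (hk : k = orderOf ((Fintype.card F : ℕ) : ZMod r)) (hl : l = orderOf ((Fintype.card F : ℕ) : ZMod s))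
    (h2k : 2 ≤ k) (hkl : k ≤ l) :
    (r * s ∉ Set.range (orderOf : Matrix.ProjectiveSpecialLinearGroup (Fin n) F → ℕ)) ↔ (n < k + l ∧ ¬ k ∣ l) := by
  have hr' : Fact r.Prime := ⟨hr⟩
  have hs' : Fact s.Prime := ⟨hs⟩
  set q := Fintype.card F with hq
  have hq2 : 2 ≤ q := Fintype.one_lt_card
  have h2l : 2 ≤ l := h2k.trans hkl
  have hcr : r.Coprime (q - 1) := (Nat.Prime.coprime_iff_not_dvd hr).2 fun h => by
    have := Nat.dvd_one.1 (hk ▸ (CfsgLib.SylowLarge.dvd_pow_sub_one_iff (r := r) (q := q) (by omega) 1).1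
      (by rwa [pow_one]))
    omega
  have hcs : s.Coprime (q - 1) := (Nat.Prime.coprime_iff_not_dvd hs).2 fun h => by
    have := Nat.dvd_one.1 (hl ▸ (CfsgLib.SylowLarge.dvd_pow_sub_one_iff (r := s) (q := q) (by omega) 1).1
      (by rwa [pow_one]))
    omega
  have hcop : r.Coprime s := (Nat.coprime_primes hr hs).2 hrs
  rw [CfsgLib.GLPairs.psl_iff (hcr.mul_left hcs) (Nat.mul_pos hr.pos hs.pos)]
  have hln : l ≤ n := by
    obtain ⟨x, hx⟩ := exists_prime_orderOf_dvd_card' s hsG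
    obtain ⟨g, hg⟩ := (CfsgLib.GLPairs.psl_iff (n := n) hcs hs.pos).1 ⟨x, hx⟩
    rw [hl]
    exact CfsgLib.GLPairs.le_of_orderOf_eq p hs hsp hg
  constructor
  · intro hno
    refine ⟨not_le.1 fun hle => hno ?_, fun hdvd => hno ?_⟩
    · obtain ⟨x, hx⟩ := CfsgLib.GLPairs.exists_gl_of_dvd (F := F) (i := k) (m := r) (by omega)
        ((CfsgLib.SylowLarge.dvd_pow_sub_one_iff (r := r) (q := q) (by omega) k).2 (hk ▸ dvd_rfl))
      obtain ⟨y, hy⟩ := CfsgLib.GLPairs.exists_gl_of_dvd (F := F) (i := l) (m := s) (by omega)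
        ((CfsgLib.SylowLarge.dvd_pow_sub_one_iff (r := s) (q := q) (by omega) l).2 (hl ▸ dvd_rfl))
      obtain ⟨g, hg⟩ := CfsgLib.GLPairs.exists_gl_sum hle x y
      exact ⟨g, by rw [hg, hx, hy, hcop.lcm_eq_mul]⟩
    · obtain ⟨x, hx⟩ := CfsgLib.GLPairs.exists_gl_of_dvd (F := F) (i := l) (m := r * s) (by omega)
        (hcop.mul_dvd_of_dvd_of_dvd
          ((CfsgLib.SylowLarge.dvd_pow_sub_one_iff (r := r) (q := q) (by omega) l).2 (hk ▸ hdvd))
          ((CfsgLib.SylowLarge.dvd_pow_sub_one_iff (r := s) (q := q) (by omega) l).2 (hl ▸ dvd_rfl)))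
      obtain ⟨g, hg⟩ := CfsgLib.MatOrder.exists_orderOf_gl_of_le hln x
      exact ⟨g, hg.trans hx⟩
  · rintro ⟨hn', hnd⟩ ⟨g, hg⟩
    rcases CfsgLib.GLPairs.rs_necessary p hr hs hrp hsp hrs hg with h | h
    · rw [← hk, ← hl] at h; omega
    · rw [← hk, ← hl] at h
      obtain ⟨c, hc⟩ := Nat.dvd_lcm_right k l
      rcases c with _ | _ | c
      · rw [Nat.mul_zero] at hc
        exact Nat.lcm_ne_zero (by omega) (by omega) hc
      · rw [Nat.zero_add, Nat.mul_one] at hc
        exact hnd (hc ▸ Nat.dvd_lcm_left k l)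
      · rw [hc] at h
        nlinarith

end Cfsg.Agent.S2468
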