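import Cfsg.Statements.S2470
import Cfsg.Agent.Spectrum.PSLCharPrime
import Cfsg.Agent.PrimeGraph.PSL2Spectrum

set_option autoImplicit false
open Cfsg

namespace Cfsg.Agent.S2470

/-- Adjacency of an odd prime and the characteristic in the prime graph of PSL(n,q): let F be a finite field of characteristic p with q elements, n ≥ 2 with PSL(n,F) simple, and let r ≠ p be an odd prime dividing the order of PSL(n,F), with k the multiplicative order of q modulo r. Then PSL(n,F) has NO element of order r·p if and only if either k > n − 2, or n = 3, r = 3 and 3 divides q − 1 exactly once. -/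
theorem result {F : Type*} [Field F] [Fintype F] (p : ℕ) [Fact p.Prime] [CharP F p] (n : ℕ) (hn : 2 ≤ n) (hsmall : n = 2 → 4 ≤ Fintype.card F)
    (r : ℕ) (hr : r.Prime) (hr2 : r ≠ 2) (hrp : r ≠ p) (hrG : r ∣ Nat.card (Matrix.ProjectiveSpecialLinearGroup (Fin n) F))
    (k : ℕ) (hk : k = orderOf ((Fintype.card F : ℕ) : ZMod r)) :
    (r * p ∉ Set.range (orderOf : Matrix.ProjectiveSpecialLinearGroup (Fin n) F → ℕ)) ↔
      (n - 2 < k ∨ (n = 3 ∧ r = 3 ∧ 3 ∣ Fintype.card F - 1 ∧ ¬ 9 ∣ Fintype.card F - 1)) := by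
  have hr' : Fact r.Prime := ⟨hr⟩
  have hp : p.Prime := Fact.out
  set q := Fintype.card F with hq
  have hq2 : 2 ≤ q := Fintype.one_lt_card
  obtain ⟨f, -, hqf⟩ := FiniteField.card F p
  have hpq : p ∣ q := by rw [hq, hqf]; exact dvd_pow_self p f.ne_zero
  have hrq : ¬ r ∣ q := fun h => hrp ((Nat.prime_dvd_prime_iff_eq hr hp).1 (by
    rw [hq, hqf] at h; exact hr.dvd_of_dvd_pow h))
  have hk0 : 0 < k := hk ▸ CfsgLib.SylowLarge.orderOf_cast_pos hrq
  have hkiff : r ∣ q - 1 ↔ k = 1 := by
    rw [← pow_one q, CfsgLib.SylowLarge.dvd_pow_sub_one_iff (by omega), ← hk, Nat.dvd_one]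
  by_cases hk1 : k = 1
  · have hrq1 : r ∣ q - 1 := hkiff.2 hk1
    rcases Nat.lt_or_ge n 3 with hn3 | hn3
    · obtain rfl : n = 2 := by omega
      refine ⟨fun _ => Or.inl (by omega), fun _ h => ?_⟩
      rw [CfsgLib.PSL2Spec.spectrum p, Set.mem_setOf_eq] at h
      have hnp : ∀ m, (m = q - 1 ∨ m = q + 1) → ¬ p ∣ m / Nat.gcd 2 (q - 1) := by
        intro m hm h'
        have hgm : Nat.gcd 2 (q - 1) ∣ m := by
          rcases hm with rfl | rfl
          · exact Nat.gcd_dvd_right _ _
          · rw [show q + 1 = (q - 1) + 2 by omega]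
            exact dvd_add (Nat.gcd_dvd_right _ _) (Nat.gcd_dvd_left _ _)
        have hpm : p ∣ m := h'.trans (Nat.div_dvd_of_dvd hgm)
        refine hp.one_lt.ne' (Nat.dvd_one.1 ?_)
        rcases hm with rfl | rfl
        · have := Nat.dvd_sub hpq hpm
          rwa [show q - (q - 1) = 1 by omega] at this
        · exact (Nat.dvd_add_right hpq).1 hpm
      rcases h with h | h | h
      · have := Nat.le_of_dvd hp.pos h
        nlinarith [hr.two_le, hp.two_le]
      · exact hnp _ (Or.inl rfl) ((dvd_mul_left p r).trans h)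
      · exact hnp _ (Or.inr rfl) ((dvd_mul_left p r).trans h)
    · constructor
      · intro hno
        refine Or.inr ?_
        by_contra hexc
        refine hno (CfsgLib.GLPairs.exists_rp_of_dvd p hr hrp hrq1 hn3 ?_)
        rintro ⟨h1, h2, h3⟩
        exact hexc ⟨h1, h2, h2 ▸ hrq1, h3⟩
      · rintro (h | ⟨h1, h2, h3, h4⟩)
        · omega
        · subst h1
          rw [h2]
          exact CfsgLib.GLPairs.not_three_p p h3 h4 (fun e => hrp (h2.trans e.symm))
  · have hcr : r.Coprime (q - 1) := (Nat.Prime.coprime_iff_not_dvd hr).2 fun h => hk1 (hkiff.1 h)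
    have hcp : p.Coprime (q - 1) := (Nat.Prime.coprime_iff_not_dvd hp).2 fun h => by
      have h' := Nat.dvd_sub hpq h
      rw [show q - (q - 1) = 1 by omega] at h'
      exact hp.one_lt.ne' (Nat.dvd_one.1 h')
    rw [CfsgLib.GLPairs.psl_iff (hcr.mul_left hcp) (Nat.mul_pos hr.pos hp.pos)]
    constructor
    · intro hno
      refine Or.inl ?_
      by_contra hle
      obtain ⟨x, hx⟩ := CfsgLib.GLPairs.exists_gl_of_dvd (F := F) (i := k) (m := r) hk0
        ((CfsgLib.SylowLarge.dvd_pow_sub_one_iff (r := r) (q := q) (by omega) k).2 (hk ▸ dvd_rfl))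
      obtain ⟨g, hg⟩ := CfsgLib.GLPairs.exists_gl_sum (n := n) (b := 2) (by omega) x
        (Matrix.SpecialLinearGroup.toGL (CfsgLib.MatOrder.regUnipotent (R := F) 2))
      refine hno ⟨g, ?_⟩
      rw [hg, hx, orderOf_injective _ Matrix.SpecialLinearGroup.toGL_injective,
        CfsgLib.MatOrder.orderOf_regUnipotent (R := F) (p := p) (n := 2) (K := 1) (by omega)
          (by rw [pow_one]; exact hp.two_le) (by simp), pow_one, ((Nat.coprime_primes hr hp).2 hrp).lcm_eq_mul]
    · rintro (h | ⟨-, h2, h3, -⟩) ⟨g, hg⟩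
      · rcases CfsgLib.GLPairs.rp_necessary p hr hrp hg with h' | h' <;> rw [← hk] at h' <;> omega
      · exact hk1 (hkiff.1 (h2 ▸ h3))

end Cfsg.Agent.S2470
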