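import Cfsg.Statements.S2471
import Cfsg.Agent.PrimeGraph.PSL2Spectrum
import Cfsg.Agent.SL2C.Unipotent

set_option autoImplicit false
open Cfsg

namespace Cfsg.Agent.S2471

/-- In PSL(2,q) with q odd, the characteristic p is isolated from 2 in the prime graph: for F a finite field of odd characteristic p with at least 5 elements, PSL(2,F) has no element of order 2p. -/
theorem result {F : Type*} [Field F] [Fintype F] (p : ℕ) [Fact p.Prime] [CharP F p] (hp : p ≠ 2) (h5 : 5 ≤ Fintype.card F) (g : Matrix.ProjectiveSpecialLinearGroup (Fin 2) F) :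
    orderOf g ≠ 2 * p := by
  intro h
  have hd := CfsgLib.PSL2Spec.orderOf_dvd p g
  rw [h] at hd
  have hp2 : 2 ≤ p := (Fact.out : p.Prime).two_le
  have hpq : p ∣ Fintype.card F := CfsgLib.SL2C.card_dvd_char p
  have hnot : ∀ m, m ∣ Fintype.card F - 1 ∨ m ∣ Fintype.card F + 1 → ¬ 2 * p ∣ m := by
    intro m hm h2
    have hpm : p ∣ m := (dvd_mul_left p 2).trans h2
    rcases hm with hm | hm
    · have h1 := Nat.dvd_sub hpq (hpm.trans hm)
      rw [show Fintype.card F - (Fintype.card F - 1) = 1 by omega] at h1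
      exact (Fact.out : p.Prime).not_dvd_one h1
    · have h1 := Nat.dvd_sub (hpm.trans hm) hpq
      rw [show Fintype.card F + 1 - Fintype.card F = 1 by omega] at h1
      exact (Fact.out : p.Prime).not_dvd_one h1
  rcases hd with hd | hd | hd
  · have := Nat.le_of_dvd (by omega) hd
    omega
  · exact hnot _ (Or.inl (Nat.div_dvd_of_dvd (CfsgLib.PSL2Spec.gcd_dvd F).1)) hd
  · exact hnot _ (Or.inr (Nat.div_dvd_of_dvd (CfsgLib.PSL2Spec.gcd_dvd F).2)) hd

end Cfsg.Agent.S2471
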