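import Cfsg.Statements.S2472
import Cfsg.Agent.SpecSpEight.PSpGraph

set_option autoImplicit false
open Cfsg

namespace Cfsg.Agent.S2472

/-- Adjacency of a prime and the characteristic in the prime graph of PSp(2n,q): let F be a finite field of characteristic p with q elements, n ≥ 2 with PSp(2n,F) simple, and let r ≠ p be an odd prime dividing the order of PSp(2n,F), with k the multiplicative order of q modulo r and η(k) = k for odd k, k/2 for even k. Then PSp(2n,F) has NO element of order r·p if and only if η(k) > n − 1. -/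
theorem result {F : Type*} [Field F] [Fintype F] (p : ℕ) [Fact p.Prime] [CharP F p] (n : ℕ) (hn : 2 ≤ n) (hsmall : n = 2 → 3 ≤ Fintype.card F)
    (r : ℕ) (hr : r.Prime) (hr2 : r ≠ 2) (hrp : r ≠ p) (hrG : r ∣ Nat.card (Cfsg.PSp n F))
    (k ηk : ℕ) (hk : k = orderOf ((Fintype.card F : ℕ) : ZMod r)) (hηk : (Odd k ∧ ηk = k) ∨ (Even k ∧ 2 * ηk = k)) :
    (r * p ∉ Set.range (orderOf : Cfsg.PSp n F → ℕ)) ↔ n - 1 < ηk := by
  subst hk
  rw [CfsgLib.SpecSpEight.psp_adjacent_char_iff (p := p) (show 1 ≤ n by omega) hr hr2 hrp hηk, not_le]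

end Cfsg.Agent.S2472
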