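import Cfsg.Statements.S2474
import Cfsg.Agent.PrimeGraphBC.Even
-- import your own Cfsg.Agent.* helpers here

set_option autoImplicit false
open Cfsg

namespace Cfsg.Agent.S2474

/-- For q odd and n ≥ 3 the simple groups PΩ(2n+1,q) and PSp(2n,q) (which have the same order but different sets of element orders) have the same prime graph: for all distinct primes r, s, one of them has an element of order r·s if and only if the other does. -/
theorem result {F : Type*} [Field F] [Fintype F] (hodd : Odd (Fintype.card F)) (n : ℕ) (hn : 3 ≤ n) (r s : ℕ) (hr : r.Prime) (hs : s.Prime) (hrs : r ≠ s) :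
    (r * s ∈ Set.range (orderOf : Cfsg.POmega F (Cfsg.quadFormOdd n F) → ℕ)) ↔ (r * s ∈ Set.range (orderOf : Cfsg.PSp n F → ℕ)) := by
  haveI : Fact (ringChar F).Prime := ⟨CharP.char_is_prime F (ringChar F)⟩
  have h2 : (2 : F) ≠ 0 := by
    intro e
    haveI : CharP F 2 := CharTwo.of_one_ne_zero_of_two_eq_zero one_ne_zero e
    have h0 := FiniteField.even_card_of_char_two (F := F) (ringChar.eq F 2)
    rcases hodd with ⟨w, hw⟩
    omega
  have hp2 : ringChar F ≠ 2 := fun e => h2 (by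
    have := ringChar.Nat.cast_ringChar (R := F)
    rw [e] at this
    exact_mod_cast this)
  rw [CfsgLib.PrimeGraphBC.mem_range_pomega h2 (by omega)]
  have two : ∀ s : ℕ, s.Prime → s ≠ 2 →
      ((∃ g ∈ commutator (CfsgLib.Quad.oGroup (CfsgLib.Quad.oddQ (F := F) n)), orderOf g = 2 * s) ↔
        2 * s ∈ Set.range (orderOf : Cfsg.PSp n F → ℕ)) := fun s hs hs2 => by
    by_cases hsp : s = ringChar F
    · subst hsp
      exact iff_of_true (CfsgLib.PrimeGraphBC.pomega_two_p h2 hp2 hn)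
        (CfsgLib.PrimeGraphBC.psp_two_p h2 hp2 (by omega))
    · exact ⟨fun ⟨g, hg, ho⟩ => CfsgLib.PrimeGraphBC.psp_of_pomega_two h2 (by omega) hs hs2 hsp g hg ho,
        fun ⟨y, hy⟩ => CfsgLib.PrimeGraphBC.pomega_of_psp_two h2 (by omega) hs hs2 hsp y hy⟩
  have odd : ∀ r s : ℕ, r.Prime → s.Prime → r ≠ s → Odd (r * s) → r ≠ ringChar F →
      ((∃ g ∈ commutator (CfsgLib.Quad.oGroup (CfsgLib.Quad.oddQ (F := F) n)), orderOf g = r * s) ↔
        r * s ∈ Set.range (orderOf : Cfsg.PSp n F → ℕ)) := fun r s hr hs hrs ho hrp =>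
    ⟨fun ⟨g, _, hgo⟩ => CfsgLib.PrimeGraphBC.psp_of_pomega_odd h2 hr hs hrs ho hrp g hgo,
      fun ⟨y, hy⟩ => CfsgLib.PrimeGraphBC.pomega_of_psp_odd h2 (by omega) hr hs hrs ho hrp y hy⟩
  rcases eq_or_ne r 2 with rfl | hr2
  · exact two s hs hrs.symm
  rcases eq_or_ne s 2 with rfl | hs2
  · rw [mul_comm]; exact two r hr hr2
  have ho : Odd (r * s) := (hr.odd_of_ne_two hr2).mul (hs.odd_of_ne_two hs2)
  rcases eq_or_ne r (ringChar F) with hrp | hrp
  · rw [mul_comm r s]
    exact odd s r hs hr hrs.symm (mul_comm r s ▸ ho) (fun e => hrs (hrp.trans e.symm))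
  · exact odd r s hr hs hrs ho hrp

end Cfsg.Agent.S2474
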