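import Cfsg.Statements.S2479
import Cfsg.Agent.GLClass.SLNumeric

set_option autoImplicit false
open Cfsg

namespace Cfsg.Agent.S2479

/-- The number of conjugacy classes of SL(n,q): for F a finite field with q elements, the number k of conjugacy classes of SL(n,F) satisfies q^(n−1) < k and k ≤ (5/2)·q^(n−1) for n ≥ 2, and k ≤ q^(n−1) + 3q^(n−2) for n ≥ 3. -/
theorem result {F : Type*} [Field F] [Fintype F] (n : ℕ) (hn : 2 ≤ n) :
    Fintype.card F ^ (n - 1) < Nat.card (ConjClasses (Matrix.SpecialLinearGroup (Fin n) F)) ∧ 2 * Nat.card (ConjClasses (Matrix.SpecialLinearGroup (Fin n) F)) ≤ 5 * Fintype.card F ^ (n - 1) ∧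
      (3 ≤ n → Nat.card (ConjClasses (Matrix.SpecialLinearGroup (Fin n) F)) ≤ Fintype.card F ^ (n - 1) + 3 * Fintype.card F ^ (n - 2)) := by
  refine ⟨CfsgLib.GLClass.lt_card_classes_SL hn, ?_, fun h3 => CfsgLib.GLClass.card_classes_SL_le_numeric h3⟩
  classical
  have hq2 : 2 ≤ Fintype.card F := Fintype.one_lt_card
  rcases Nat.lt_or_ge n 3 with h | h
  · obtain rfl : n = 2 := by omega
    rcases Nat.lt_or_ge (Fintype.card F) 3 with hq | hq
    · obtain ⟨A, W, hk, hA, hW⟩ := CfsgLib.GLClass.card_classes_SL_general (F := F) 1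
      have hc : Fintype.card F = 2 := by omega
      rw [hc] at hA hW ⊢
      replace hk : Nat.card (ConjClasses (Matrix.SpecialLinearGroup (Fin 2) F)) ≤ A + W := hk
      simp only [show (1 : ℕ) + 1 = 2 from rfl, show (2 : ℕ) - 1 = 1 from rfl] at hA hW ⊢
      omega
    · have := CfsgLib.GLClass.card_classes_SL_two (F := F)
      simp only [show (2 : ℕ) - 1 = 1 from rfl, pow_one]
      omega
  · have h3 := CfsgLib.GLClass.card_classes_SL_le_numeric (F := F) h
    obtain ⟨i, rfl⟩ : ∃ i, n = i + 2 := ⟨n - 2, by omega⟩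
    rw [Nat.add_sub_cancel] at h3
    rw [show i + 2 - 1 = i + 1 by omega, pow_succ] at h3 ⊢
    have := Nat.mul_le_mul_left (Fintype.card F ^ i) hq2
    omega

end Cfsg.Agent.S2479
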