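import Cfsg.Statements.S2480
import Cfsg.Agent.GLClass.SLNumeric
import Cfsg.Agent.GLClass.PSLClasses

set_option autoImplicit false
open Cfsg

namespace Cfsg.Agent.S2480

/-- The number of conjugacy classes of PSL(n,q): for F a finite field with q elements, n ≥ 2 and d = gcd(n, q − 1), the number k of conjugacy classes of PSL(n,F) satisfies q^(n−1) ≤ d·k ≤ q^(n−1) + 5q^(n−2). -/
theorem result {F : Type*} [Field F] [Fintype F] (n : ℕ) (hn : 2 ≤ n) :
    Fintype.card F ^ (n - 1) ≤ Nat.gcd n (Fintype.card F - 1) * Nat.card (ConjClasses (Matrix.ProjectiveSpecialLinearGroup (Fin n) F)) ∧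
      Nat.gcd n (Fintype.card F - 1) * Nat.card (ConjClasses (Matrix.ProjectiveSpecialLinearGroup (Fin n) F)) ≤ Fintype.card F ^ (n - 1) + 5 * Fintype.card F ^ (n - 2) := by
  classical
  haveI : Nonempty (Fin n) := ⟨⟨0, by omega⟩⟩
  haveI : Fintype (Subgroup.center (Matrix.SpecialLinearGroup (Fin n) F)) := Fintype.ofFinite _
  set Z := Subgroup.center (Matrix.SpecialLinearGroup (Fin n) F) with hZdef
  obtain ⟨ω, hinj, hpow, hfix⟩ := CfsgLib.GLClass.fixed_le (F := F) (show 0 < n by omega)
  have hd : Nat.gcd n (Fintype.card F - 1) = Nat.card Z := by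
    rw [hZdef, CfsgLib.Linear.card_center_SL, Fintype.card_fin, Nat.card_eq_fintype_card (α := F)]
  have hq2 : 2 ≤ Fintype.card F := Fintype.one_lt_card
  rw [hd]
  refine ⟨(CfsgLib.GLClass.lt_card_classes_SL hn).le.trans CfsgLib.GLClass.card_classes_SL_le_PSL, ?_⟩
  let B : Z → ℕ := fun z => Nat.card {c : ConjClasses (Matrix.SpecialLinearGroup (Fin n) F) //
    letI := CfsgLib.GLClass.classShift (F := F) (n := n); z • c = c}
  set q := Fintype.card F with hq
  set k := Nat.card (ConjClasses (Matrix.SpecialLinearGroup (Fin n) F)) with hk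
  have hmain : Nat.card Z * Nat.card (ConjClasses (Matrix.ProjectiveSpecialLinearGroup (Fin n) F)) ≤
      k + ∑ z ∈ Finset.univ.erase (1 : Z), B z := by
    rw [mul_comm]
    refine (CfsgLib.GLClass.card_PSL_mul_le (F := F) (n := n)).trans ?_
    rw [finsum_eq_sum_of_fintype, ← Finset.add_sum_erase _ _ (Finset.mem_univ (1 : Z))]
    exact Nat.add_le_add_right (Nat.card_le_card_of_injective Subtype.val Subtype.val_injective) _
  refine hmain.trans ?_
  have hcardd : (Finset.univ.erase (1 : Z)).card = Nat.card Z - 1 := by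
    rw [Finset.card_erase_of_mem (Finset.mem_univ _), Finset.card_univ, Nat.card_eq_fintype_card]
  have hdn : Nat.card Z ≤ n := hd ▸ Nat.le_of_dvd (by omega) (Nat.gcd_dvd_left _ _)
  have hdq : Nat.card Z ≤ q - 1 := hd ▸ Nat.le_of_dvd (by omega) (Nat.gcd_dvd_right _ _)
  have hd4 : Nat.card Z ∣ n := hd ▸ Nat.gcd_dvd_left _ _
  have hB : ∀ z ∈ Finset.univ.erase (1 : Z), 2 ≤ orderOf (ω z) ∧ orderOf (ω z) ∣ n ∧
      B z ≤ n / orderOf (ω z) * q ^ (n / orderOf (ω z)) ∧ (orderOf (ω z) = n → B z ≤ 1) := by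
    intro z hz
    have h1 : orderOf (ω z) ≠ 1 := fun h =>
      Finset.ne_of_mem_erase hz (hinj ((orderOf_eq_one_iff.1 h).trans (map_one ω).symm))
    have h0 := orderOf_pos (ω z)
    obtain ⟨h2, h3⟩ := CfsgLib.GLClass.card_fixClasses_le (F := F) (n := n) (ω z) rfl (by omega)
    exact ⟨by omega, orderOf_dvd_of_pow_eq_one (hpow z), (hfix z).trans h2, fun h => (hfix z).trans (h3 h)⟩
  have hmono : ∀ a b : ℕ, a ≤ b → a * q ^ a ≤ b * q ^ b := fun a b hab =>
    Nat.mul_le_mul hab (Nat.pow_le_pow_right (by omega) hab)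
  have hsum : ∀ c : ℕ, (∀ z ∈ Finset.univ.erase (1 : Z), B z ≤ c) →
      ∑ z ∈ Finset.univ.erase (1 : Z), B z ≤ (Nat.card Z - 1) * c := by
    intro c hc
    refine (Finset.sum_le_card_nsmul _ _ c hc).trans ?_
    rw [hcardd, smul_eq_mul]
  have hprime : n.Prime → ∑ z ∈ Finset.univ.erase (1 : Z), B z ≤ Nat.card Z - 1 := by
    intro hp
    refine (hsum 1 fun z hz => ?_).trans_eq (mul_one _)
    obtain ⟨h1, h2, -, h4⟩ := hB z hz
    exact h4 (((Nat.dvd_prime hp).1 h2).resolve_left (by omega))
  have hsplit : ∀ c c' : ℕ, (∀ z ∈ Finset.univ.erase (1 : Z), (orderOf (ω z) = 2 → B z ≤ c) ∧ (orderOf (ω z) ≠ 2 → B z ≤ c')) →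
      ∑ z ∈ Finset.univ.erase (1 : Z), B z ≤ c + (Nat.card Z - 1) * c' := by
    intro c c' hc
    rw [← Finset.sum_filter_add_sum_filter_not _ (fun z : Z => orderOf (ω z) = 2)]
    refine Nat.add_le_add ?_ ?_
    · refine (Finset.sum_le_card_nsmul _ _ c fun z hz => ?_).trans ?_
      · exact (hc z (Finset.mem_filter.1 hz).1).1 (Finset.mem_filter.1 hz).2
      · rw [smul_eq_mul]
        refine mul_le_of_le_one_left (Nat.zero_le _) ?_
        refine Finset.card_le_one.2 fun a ha b hb => hinj ?_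
        have key : ∀ u : Fˣ, orderOf u = 2 → (u : F) = -1 := fun u hu => by
          have h := pow_orderOf_eq_one u
          rw [hu, pow_two, Units.ext_iff, Units.val_mul, Units.val_one] at h
          refine (mul_self_eq_one_iff.1 h).resolve_left fun h1 => ?_
          rw [Units.val_eq_one.1 h1, orderOf_one] at hu
          omega
        exact Units.ext ((key _ (Finset.mem_filter.1 ha).2).trans (key _ (Finset.mem_filter.1 hb).2).symm)
    · refine (Finset.sum_le_card_nsmul _ _ c' fun z hz => ?_).trans ?_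
      · exact (hc z (Finset.mem_filter.1 hz).1).2 (Finset.mem_filter.1 hz).2
      · rw [smul_eq_mul, ← hcardd]
        exact Nat.mul_le_mul_right _ (Finset.card_filter_le _ _)
  rcases Nat.lt_or_ge n 3 with h3 | h3
  · obtain rfl : n = 2 := by omega
    have h1 := hprime Nat.prime_two
    have h2 := CfsgLib.GLClass.card_classes_SL_two (F := F)
    rw [← hk, ← hq] at h2
    simp only [show (2 : ℕ) - 1 = 1 from rfl, show (2 : ℕ) - 2 = 0 from rfl, pow_one, pow_zero]
    omega
  have hnum := CfsgLib.GLClass.card_classes_SL_le_numeric (F := F) h3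
  rw [← hk, ← hq] at hnum
  suffices hs : ∑ z ∈ Finset.univ.erase (1 : Z), B z ≤ 2 * q ^ (n - 2) ∨
      k + ∑ z ∈ Finset.univ.erase (1 : Z), B z ≤ q ^ (n - 1) + 5 * q ^ (n - 2) by omega
  by_cases hq3 : q < 3
  · left
    refine (hsum 0 fun z hz => ?_).trans (by simp)
    have hone : (Finset.univ.erase (1 : Z)).card = 0 := by omega
    rw [Finset.card_eq_zero] at hone
    simp [hone] at hz
  rcases Nat.lt_or_ge n 7 with h7 | h7
  · interval_cases n
    · right
      have h1 := hprime Nat.prime_three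
      have h2 := CfsgLib.GLClass.card_classes_SL_three (F := F)
      rw [← hk, ← hq] at h2
      simp only [show (3 : ℕ) - 1 = 2 from rfl, show (3 : ℕ) - 2 = 1 from rfl, pow_one]
      have h9 : min 3 (q - 1) * min 3 (q - 1) ≤ 9 := Nat.mul_le_mul (min_le_left _ _) (min_le_left _ _)
      omega
    · by_cases hd2 : Nat.card Z ≤ 2
      · left
        refine (hsum (2 * q ^ 2) fun z hz => ?_).trans ?_
        · obtain ⟨h1, h2, h4, -⟩ := hB z hz
          exact h4.trans (hmono _ 2 ((Nat.div_le_div_left h1 (by omega)).trans_eq rfl))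
        · calc (Nat.card Z - 1) * (2 * q ^ 2) ≤ 1 * (2 * q ^ 2) := Nat.mul_le_mul_right _ (by omega)
            _ = 2 * q ^ (4 - 2) := one_mul _
      · right
        have hq5 : 5 ≤ q := by
          rcases (Nat.le_of_dvd (by norm_num) hd4).eq_or_lt with h | h
          · omega
          · exfalso
            have : Nat.card Z = 3 := by omega
            rw [this] at hd4
            omega
        have h1 := hsplit (2 * q ^ 2) 1 fun z hz => by
          obtain ⟨g1, g2, g3, g4⟩ := hB z hz
          refine ⟨fun he => ?_, fun he => g4 ?_⟩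
          · rw [he] at g3
            exact g3.trans_eq rfl
          · have := Nat.le_of_dvd (by norm_num) g2
            interval_cases (orderOf (ω z))
            · omega
            · omega
            · rfl
        have h2 := CfsgLib.GLClass.card_classes_SL_four (F := F)
        rw [← hk, ← hq] at h2
        have h16 : min 4 (q - 1) * min 4 (q - 1) ≤ 16 := Nat.mul_le_mul (min_le_left _ _) (min_le_left _ _)
        obtain ⟨r, hr⟩ : ∃ r, q = r + 5 := ⟨q - 5, by omega⟩
        rw [hr] at h1 h2 h16 ⊢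
        simp only [show (4 : ℕ) - 1 = 3 from rfl, show (4 : ℕ) - 2 = 2 from rfl, show r + 5 - 1 = r + 4 by omega] at h2 h16 ⊢
        have hd3 : Nat.card Z - 1 ≤ 3 := by omega
        nlinarith [h1, h2, h16, hd3]
    · left
      refine (hprime (by norm_num)).trans ?_
      have : 1 ≤ q ^ 3 := Nat.one_le_pow _ _ (by omega)
      simp only [show (5 : ℕ) - 2 = 3 from rfl]
      have : 8 ≤ q ^ 3 := le_trans (by norm_num) (Nat.pow_le_pow_left hq2 3)
      omega
    · left
      refine (hsplit (3 * q ^ 3) (2 * q ^ 2) fun z hz => ?_).trans ?_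
      · obtain ⟨g1, g2, g3, -⟩ := hB z hz
        refine ⟨fun he => ?_, fun he => ?_⟩
        · rw [he] at g3
          exact g3.trans_eq rfl
        · exact g3.trans (hmono _ 2 ((Nat.div_le_div_left (show 3 ≤ orderOf (ω z) by omega) (by omega)).trans_eq rfl))
      · obtain ⟨r, hr⟩ : ∃ r, q = r + 3 := ⟨q - 3, by omega⟩
        simp only [show (6 : ℕ) - 2 = 4 from rfl]
        have hd' : Nat.card Z - 1 ≤ r + 1 := by omega
        rw [hr]
        nlinarith [Nat.mul_le_mul_right (2 * (r + 3) ^ 2) hd', Nat.zero_le (r ^ 2), Nat.zero_le (r ^ 3), Nat.zero_le (r ^ 4)]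
  · left
    refine (hsum (n / 2 * q ^ (n / 2)) fun z hz => ?_).trans ?_
    · obtain ⟨g1, -, g3, -⟩ := hB z hz
      exact g3.trans (hmono _ _ (Nat.div_le_div_left g1 (by omega)))
    · have h1 : n / 2 ≤ 2 * 3 ^ (n - 3 - n / 2) := by
        by_cases h8 : n < 9
        · interval_cases n <;> norm_num
        · have := CfsgLib.GLClass.succ_le_three_pow (n - 3 - n / 2) (by omega)
          omega
      have h2 : 3 ^ (n - 3 - n / 2) ≤ q ^ (n - 3 - n / 2) := Nat.pow_le_pow_left (by omega) _
      calc (Nat.card Z - 1) * (n / 2 * q ^ (n / 2)) ≤ q * (2 * q ^ (n - 3 - n / 2) * q ^ (n / 2)) :=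
            Nat.mul_le_mul (by omega) (Nat.mul_le_mul_right _ (h1.trans (Nat.mul_le_mul_left _ h2)))
        _ = 2 * q ^ (1 + (n - 3 - n / 2) + n / 2) := by ring
        _ = 2 * q ^ (n - 2) := by congr 2; omega

end Cfsg.Agent.S2480
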