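import Cfsg.Statements.S2487
import Cfsg.Agent.SylowMeet.Orth

set_option autoImplicit false
open scoped Pointwise
open Cfsg

namespace Cfsg.Agent.S2487

/-- Let m ≥ 4 and let G be the full isometry group of the hyperbolic quadratic form x₁y₁ + ⋯ + x_m y_m on the 2m-dimensional space over the field with 2 elements (the orthogonal group O⁺(2m,2), which contains Ω⁺(2m,2) with index 2). Then any two Sylow 2-subgroups of G have a non-trivial intersection: for a Sylow 2-subgroup H and every x ∈ G, H ∩ H^x ≠ 1. -/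
theorem result {F : Type*} [Field F] [Fintype F] (hF : Fintype.card F = 2) {m : ℕ} (hm : 4 ≤ m)
    (H : Sylow 2 (Cfsg.isometryGroup F (Cfsg.quadFormPlus m F)))
    (x : Cfsg.isometryGroup F (Cfsg.quadFormPlus m F)) :
    (H : Subgroup (Cfsg.isometryGroup F (Cfsg.quadFormPlus m F))) ⊓ MulAut.conj x • (H : Subgroup _) ≠ ⊥ := by
  obtain ⟨k, rfl⟩ : ∃ k, m = k + 1 := ⟨m - 1, by omega⟩
  haveI : CharP F 2 := charP_of_card_eq_prime (R := F) hF
  have h2 : (2 : F) = 0 := CharTwo.two_eq_zero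
  have hM : CfsgLib.SylowMeet.Meet (Cfsg.isometryGroup F (Cfsg.quadFormPlus (k + 1) F)) := by
    have e := CfsgLib.Quad.isoGroupEquiv (CfsgLib.Quad.plusQ (F := F) (k + 1))
    rw [CfsgLib.Quad.plusQ_coe] at e
    exact CfsgLib.SylowMeet.Meet.congr e.symm
      (CfsgLib.SylowMeet.meet_plus h2 (by rw [Nat.card_eq_fintype_card, hF]) k)
  obtain ⟨g, hg1, hg, hg'⟩ := hM H (x • H)
  intro h
  refine hg1 ?_
  have : g ∈ (H : Subgroup _) ⊓ MulAut.conj x • (H : Subgroup _) := ⟨hg, hg'⟩
  rw [h] at this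
  exact this

end Cfsg.Agent.S2487
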