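import Cfsg.Statements.S2490
import Cfsg.Agent.GK7920.Simple

set_option autoImplicit false
open Cfsg

namespace Cfsg.Agent.S2490

/-- Let G be a finite group of order 7920 = 2⁴·3²·5·11 (the order of the smallest Mathieu group) and suppose its prime graph (vertices the prime divisors of the order, distinct p, q joined when there is an element of order pq) is disconnected: the prime divisors split into two non-empty parts with no element of order pq for p in one part and q in the other. Then G is simple. -/
theorem result {G : Type*} [Group G] [Finite G] (hord : Nat.card G = 7920)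
    (hdisc : (∃ A : Set ℕ, (∃ a ∈ A, a.Prime ∧ a ∣ Nat.card G) ∧ (∃ b ∉ A, b.Prime ∧ b ∣ Nat.card G) ∧
      ∀ a ∈ A, ∀ b ∉ A, a.Prime → b.Prime → a ∣ Nat.card G → b ∣ Nat.card G → ¬ ∃ g : G, orderOf g = a * b)) :
    IsSimpleGroup G := by
  obtain ⟨A, ⟨a, haA, ha, had⟩, ⟨b, hbA, hb, hbd⟩, hA⟩ := hdisc
  refine GK7920.isSimpleGroup hord (A := A) ?_ ha had haA hb hbd hbA
  intro g h hg hh hc
  by_contra hne
  have hne' : orderOf g ≠ orderOf h := fun e => hne (by rw [e])
  have hmul : orderOf (g * h) = orderOf g * orderOf h :=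
    hc.orderOf_mul_eq_mul_orderOf_of_coprime ((Nat.coprime_primes hg hh).2 hne')
  by_cases hgA : orderOf g ∈ A
  · exact hA _ hgA _ (fun e => hne ⟨fun _ => e, fun _ => hgA⟩) hg hh (orderOf_dvd_natCard g)
      (orderOf_dvd_natCard h) ⟨_, hmul⟩
  · exact hA _ (by_contra fun e => hne ⟨fun x => absurd x hgA, fun x => absurd x e⟩) _ hgA hh hg
      (orderOf_dvd_natCard h) (orderOf_dvd_natCard g) ⟨_, hmul.trans (mul_comm _ _)⟩

end Cfsg.Agent.S2490
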