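import Cfsg.Statements.S2493
import Cfsg.Agent.AltOre.Lifts

set_option autoImplicit false
open Cfsg

namespace Cfsg.Agent.S2493

/-- Let n ≥ 5 and let G be a finite perfect group whose centre has order 2 with G/Z(G) isomorphic to the alternating group of degree n (the double cover of the alternating group). Then every element of G is a commutator. -/
theorem result {G : Type*} [Group G] [Finite G] (hperf : commutator G = ⊤) {n : ℕ} (hn : 5 ≤ n)
    (hZ : Nat.card (Subgroup.center G) = 2) (e : G ⧸ Subgroup.center G ≃* alternatingGroup (Fin n))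
    (g : G) :
    ∃ a b : G, a * b * a⁻¹ * b⁻¹ = g := by
  classical
  let φ : G →* alternatingGroup (Fin n) := e.toMonoidHom.comp (QuotientGroup.mk' (Subgroup.center G))
  obtain ⟨⟨z, hz⟩, hz1⟩ : ∃ z : Subgroup.center G, z ≠ 1 := by
    haveI : Nontrivial (Subgroup.center G) := Finite.one_lt_card_iff_nontrivial.1 (by omega)
    exact exists_ne 1
  have hz1' : z ≠ 1 := fun h => hz1 (Subtype.ext h)
  refine CfsgLib.AltOre.Cover.exists_commutator (n := n)
    { pr := (alternatingGroup (Fin n)).subtype.comp φ
      sgn := fun g => (φ g).2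
      surj := fun σ hσ => ?_
      ker := fun g => ?_
      z := z
      hz := hz
      hz1 := hz1'
      two := fun g hg => ?_ } hperf hn g
  · obtain ⟨g, hg⟩ := (e.surjective.comp (QuotientGroup.mk'_surjective (Subgroup.center G))) ⟨σ, hσ⟩
    exact ⟨g, congrArg Subtype.val hg⟩
  · simp [φ]
  · obtain ⟨a, b, -, hab⟩ := Nat.card_eq_two_iff.1 hZ
    have hm : ∀ u : Subgroup.center G, u = a ∨ u = b := fun u => by
      have : u ∈ ({a, b} : Set (Subgroup.center G)) := by rw [hab]; trivial
      simpa using this
    by_contra hc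
    push Not at hc
    rcases hm ⟨g, hg⟩ with e1 | e1 <;> rcases hm ⟨z, hz⟩ with e2 | e2 <;> rcases hm 1 with e3 | e3 <;>
      first
      | exact hc.1 (congrArg Subtype.val (e1.trans e3.symm))
      | exact hc.2 (congrArg Subtype.val (e1.trans e2.symm))
      | exact hz1 (e2.trans e3.symm)

end Cfsg.Agent.S2493
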