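import Cfsg.Statements.S2500
import Cfsg.Agent.Cover5.Linear
import Cfsg.Agent.Cover5.UnitaryThree
import Cfsg.Agent.Cover5.SymplecticEven
import Cfsg.Agent.Cover5.SympSix
import Cfsg.Agent.Cover5.GTwoCover

set_option autoImplicit false
open Cfsg

namespace Cfsg.Agent.S2500

open CfsgLib.Cover5

theorem charP_two {F : Type} [Field F] [Fintype F] (h : ¬ Odd (Fintype.card F)) : CharP F 2 := by
  obtain ⟨p, hp⟩ := CharP.exists F
  haveI := hp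
  obtain ⟨n, hpp, hn⟩ := FiniteField.card F p
  rcases hpp.eq_two_or_odd' with rfl | ho
  · exact hp
  · exact absurd (hn ▸ ho.pow) h

theorem charP_of_card {F : Type} [Field F] [Fintype F] {p a : ℕ} (hp : p.Prime)
    (h : Fintype.card F = p ^ a) : CharP F p := by
  haveI := Fact.mk hp
  exact charP_of_card_eq_prime_pow h

/-- The infinite families of simple groups with normal covering number 2. For a finite field F: each of PSL_2(F) (|F| ≥ 4), PSL_3(F), PSL_4(F), PSU_4 over F (|F| = q²), PSU_3 over F when |F| = q² with q a power of 3, PSp_{2m}(F) for |F| even, m ≥ 2 and (m, |F|) ≠ (2, 2), PSp_6(F) for |F| a power of 3, and G_2(F) (automorphisms of the split octonions) for |F| = 2^a ≥ 4 is the union of the conjugates of two proper subgroups: there are proper subgroups H, K such that every element is conjugate into H or into K. -/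
theorem result {F : Type} [Field F] [Fintype F] :
    (4 ≤ Fintype.card F → (∃ H K : Subgroup (Matrix.ProjectiveSpecialLinearGroup (Fin 2) F), H ≠ ⊤ ∧ K ≠ ⊤ ∧ ∀ g : (Matrix.ProjectiveSpecialLinearGroup (Fin 2) F), ∃ x : (Matrix.ProjectiveSpecialLinearGroup (Fin 2) F), x * g * x⁻¹ ∈ H ∨ x * g * x⁻¹ ∈ K)) ∧
    (∃ H K : Subgroup (Matrix.ProjectiveSpecialLinearGroup (Fin 3) F), H ≠ ⊤ ∧ K ≠ ⊤ ∧ ∀ g : (Matrix.ProjectiveSpecialLinearGroup (Fin 3) F), ∃ x : (Matrix.ProjectiveSpecialLinearGroup (Fin 3) F), x * g * x⁻¹ ∈ H ∨ x * g * x⁻¹ ∈ K) ∧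
    (∃ H K : Subgroup (Matrix.ProjectiveSpecialLinearGroup (Fin 4) F), H ≠ ⊤ ∧ K ≠ ⊤ ∧ ∀ g : (Matrix.ProjectiveSpecialLinearGroup (Fin 4) F), ∃ x : (Matrix.ProjectiveSpecialLinearGroup (Fin 4) F), x * g * x⁻¹ ∈ H ∨ x * g * x⁻¹ ∈ K) ∧
    (∀ q : ℕ, Fintype.card F = q ^ 2 → (∃ H K : Subgroup (Cfsg.PSU 4 F q), H ≠ ⊤ ∧ K ≠ ⊤ ∧ ∀ g : (Cfsg.PSU 4 F q), ∃ x : (Cfsg.PSU 4 F q), x * g * x⁻¹ ∈ H ∨ x * g * x⁻¹ ∈ K)) ∧
    (∀ q a : ℕ, Fintype.card F = q ^ 2 → 1 ≤ a → q = 3 ^ a → (∃ H K : Subgroup (Cfsg.PSU 3 F q), H ≠ ⊤ ∧ K ≠ ⊤ ∧ ∀ g : (Cfsg.PSU 3 F q), ∃ x : (Cfsg.PSU 3 F q), x * g * x⁻¹ ∈ H ∨ x * g * x⁻¹ ∈ K)) ∧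
    (∀ m : ℕ, 2 ≤ m → ¬ Odd (Fintype.card F) → ¬ (m = 2 ∧ Fintype.card F = 2) → (∃ H K : Subgroup (Cfsg.PSp m F), H ≠ ⊤ ∧ K ≠ ⊤ ∧ ∀ g : (Cfsg.PSp m F), ∃ x : (Cfsg.PSp m F), x * g * x⁻¹ ∈ H ∨ x * g * x⁻¹ ∈ K)) ∧
    (∀ a : ℕ, 1 ≤ a → Fintype.card F = 3 ^ a → (∃ H K : Subgroup (Cfsg.PSp 3 F), H ≠ ⊤ ∧ K ≠ ⊤ ∧ ∀ g : (Cfsg.PSp 3 F), ∃ x : (Cfsg.PSp 3 F), x * g * x⁻¹ ∈ H ∨ x * g * x⁻¹ ∈ K)) ∧
    (∀ a : ℕ, 2 ≤ a → Fintype.card F = 2 ^ a → (∃ H K : Subgroup (Cfsg.Lie.G2 F), H ≠ ⊤ ∧ K ≠ ⊤ ∧ ∀ g : (Cfsg.Lie.G2 F), ∃ x : (Cfsg.Lie.G2 F), x * g * x⁻¹ ∈ H ∨ x * g * x⁻¹ ∈ K)) := by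
  refine ⟨fun _ => ?_, ?_, ?_, fun q hq => ?_, fun q a hq _ hqa => ?_, fun m hm ho _ => ?_,
    fun a _ hc => ?_, fun a _ hc => ?_⟩
  · exact psl_two_cover (le_refl 2) 2 (le_refl 2) dvd_rfl
      (fun k hk h0 h1 h2 => by interval_cases k <;> simp_all)
  · exact psl_two_cover (by norm_num) 3 (by norm_num) dvd_rfl
      (fun k hk h0 h1 h2 => by interval_cases k <;> simp_all)
  · exact psl_two_cover (by norm_num) 2 (le_refl 2) (by norm_num)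
      (fun k hk h0 h1 h2 => by interval_cases k <;> simp_all)
  · exact psu_four_cover (by rw [Nat.card_eq_fintype_card, hq])
  · haveI := charP_of_card Nat.prime_three (show Fintype.card F = 3 ^ (a * 2) by
      rw [hq, hqa, pow_mul])
    exact psu_three_cover (by rw [Nat.card_eq_fintype_card, hq])
  · haveI := charP_two ho
    exact psp_even_cover hm
  · haveI := charP_of_card Nat.prime_three hc
    exact SympSix.psp_six_cover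
  · haveI := charP_of_card Nat.prime_two hc
    exact GTwo.g2_even_cover

end Cfsg.Agent.S2500
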