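import Cfsg.Statements.S2503
import Cfsg.Agent.SL2C.ClassProducts

set_option autoImplicit false
open Cfsg

namespace Cfsg.Agent.S2503

/-- Let F be a finite field with q = 2^t ≥ 4 elements and L = PSL(2,F). Then L has a cyclic subgroup A of order q + 1 and an elementary abelian 2-subgroup B of order q such that L = ABA: every element of L is a product a·b·a' with a, a' ∈ A and b ∈ B. -/
theorem result {F : Type*} [Field F] [Fintype F]
    (h2 : 2 ∣ Fintype.card F) (h4 : 4 ≤ Fintype.card F) :
    ∃ A B : Subgroup (Matrix.ProjectiveSpecialLinearGroup (Fin 2) F),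
      IsCyclic A ∧ Nat.card A = Fintype.card F + 1 ∧ IsMulCommutative B ∧ (∀ b ∈ B, b * b = 1) ∧
        Nat.card B = Fintype.card F ∧
        ∀ g : Matrix.ProjectiveSpecialLinearGroup (Fin 2) F, ∃ a ∈ A, ∃ b ∈ B, ∃ c ∈ A, g = a * b * c := by
  haveI : CharP F 2 := by
    have hm : Fintype.card F % 2 = 0 := Nat.mod_eq_zero_of_dvd h2
    have hr : ringChar F = 2 := FiniteField.even_card_iff_char_two.2 hm
    exact hr ▸ ringChar.charP F
  exact CfsgLib.SL2C.exists_ABA

end Cfsg.Agent.S2503
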