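import Cfsg.Statements.S2504
import Cfsg.Agent.AbelAlt.Bound
import Cfsg.Agent.AbelAlt.Exists

set_option autoImplicit false
open Cfsg

namespace Cfsg.Agent.S2504

/-- The largest order of an abelian subgroup of the alternating group of degree n is 3^k when n = 3k, 4·3^(k−1) when n = 3k + 1, and 16·3^(k−2) when n = 3k + 2, for every k ≥ 2 (so for all degrees n ≥ 6). -/
theorem result (k : ℕ) (hk : 2 ≤ k) :
    IsGreatest {c : ℕ | ∃ A : Subgroup (alternatingGroup (Fin (3 * k))), IsMulCommutative A ∧ Nat.card A = c} (3 ^ k) ∧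
    IsGreatest {c : ℕ | ∃ A : Subgroup (alternatingGroup (Fin (3 * k + 1))), IsMulCommutative A ∧ Nat.card A = c}
      (4 * 3 ^ (k - 1)) ∧
    IsGreatest {c : ℕ | ∃ A : Subgroup (alternatingGroup (Fin (3 * k + 2))), IsMulCommutative A ∧ Nat.card A = c}
      (16 * 3 ^ (k - 2)) := by
  obtain ⟨j, rfl⟩ : ∃ j, k = j + 2 := ⟨k - 2, by omega⟩
  have up : ∀ {n : ℕ} (A : Subgroup (alternatingGroup (Fin n))), IsMulCommutative A →
      ∃ B : Subgroup (Equiv.Perm (Fin n)), IsMulCommutative B ∧ (∀ b ∈ B, Equiv.Perm.sign b = 1) ∧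
        Nat.card B = Nat.card A := by
    intro n A hA
    refine ⟨A.map (alternatingGroup (Fin n)).subtype, ⟨⟨?_⟩⟩, ?_,
      Subgroup.card_map_of_injective (alternatingGroup (Fin n)).subtype_injective⟩
    · rintro ⟨_, x, hx, rfl⟩ ⟨_, y, hy, rfl⟩
      apply Subtype.ext
      exact congrArg (fun z : A => ((z : alternatingGroup (Fin n)) : Equiv.Perm (Fin n)))
        (hA.is_comm.comm ⟨x, hx⟩ ⟨y, hy⟩)
    · rintro _ ⟨x, -, rfl⟩
      exact Equiv.Perm.mem_alternatingGroup.1 x.2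
  refine ⟨⟨AbelAlt.hasAb_mul_three _, ?_⟩, ⟨?_, ?_⟩, ⟨?_, ?_⟩⟩
  · rintro c ⟨A, hA, rfl⟩
    obtain ⟨B, hB, -, hc⟩ := up A hA
    have := AbelAlt.card_le_cBound _ _ B hB (Fintype.card_fin _)
    rw [hc] at this
    have e : AbelAlt.cBound (3 * (j + 2)) = 3 * 3 ^ (j + 2) := by simp [AbelAlt.cBound]
    rw [e] at this
    omega
  · have := (AbelAlt.hasAb_mul_three (j + 1)).add AbelAlt.hasAb_four
    rw [show 3 * (j + 2) + 1 = 3 * (j + 1) + 4 by ring, show j + 2 - 1 = j + 1 by omega, mul_comm 4]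
    exact this
  · rintro c ⟨A, hA, rfl⟩
    obtain ⟨B, hB, -, hc⟩ := up A hA
    have := AbelAlt.card_le_cBound _ _ B hB (Fintype.card_fin _)
    rw [hc] at this
    have e : AbelAlt.cBound (3 * (j + 2) + 1) = 4 * 3 ^ (j + 2) := by
      unfold AbelAlt.cBound
      rw [if_neg (by omega), if_pos (by omega)]
      congr 2
      omega
    rw [e, pow_succ] at this
    rw [show j + 2 - 1 = j + 1 by omega]
    omega
  · have := (AbelAlt.hasAb_mul_three j).add (AbelAlt.hasAb_four.add AbelAlt.hasAb_four)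
    rw [show 3 * (j + 2) + 2 = 3 * j + (4 + 4) by ring, show j + 2 - 2 = j by omega, mul_comm 16]
    exact this
  · rintro c ⟨A, hA, rfl⟩
    obtain ⟨B, hB, hs, hc⟩ := up A hA
    have := AbelAlt.card_le_alt (j + 2) _ B hB hs (Fintype.card_fin _)
    rw [hc, pow_succ, pow_succ] at this
    rw [show j + 2 - 2 = j by omega]
    omega

end Cfsg.Agent.S2504
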