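import Cfsg.Statements.S2505
import Cfsg.Agent.AbelianPerm.Bound

set_option autoImplicit false
open Cfsg

namespace Cfsg.Agent.S2505

/-- The largest order of an abelian subgroup of the symmetric group of degree n is 3^k when n = 3k, 4·3^(k−1) when n = 3k + 1, and 2·3^k when n = 3k + 2, for every k ≥ 1. -/
theorem result (k : ℕ) (hk : 1 ≤ k) :
    IsGreatest {c : ℕ | ∃ A : Subgroup (Equiv.Perm (Fin (3 * k))), IsMulCommutative A ∧ Nat.card A = c} (3 ^ k) ∧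
    IsGreatest {c : ℕ | ∃ A : Subgroup (Equiv.Perm (Fin (3 * k + 1))), IsMulCommutative A ∧ Nat.card A = c}
      (4 * 3 ^ (k - 1)) ∧
    IsGreatest {c : ℕ | ∃ A : Subgroup (Equiv.Perm (Fin (3 * k + 2))), IsMulCommutative A ∧ Nat.card A = c}
      (2 * 3 ^ k) := by
  classical
  obtain ⟨j, rfl⟩ : ∃ j, k = j + 1 := ⟨k - 1, by omega⟩
  obtain ⟨h0, h2, -⟩ := CfsgLib.AbelianPerm.best_formula (j + 1)
  obtain ⟨-, -, h1⟩ := CfsgLib.AbelianPerm.best_formula j
  refine ⟨⟨?_, ?_⟩, ⟨?_, ?_⟩, ⟨?_, ?_⟩⟩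
  · obtain ⟨A, hA, hc⟩ := CfsgLib.AbelianPerm.exists_abelian (fun _ : Fin (j + 1) => 3) (fun _ => by norm_num)
      (α := Fin (3 * (j + 1))) (by simp [mul_comm])
    exact ⟨A, hA, hc.trans (by simp)⟩
  · rintro c ⟨A, hA, rfl⟩
    exact (CfsgLib.AbelianPerm.card_le_best A hA).trans (by rw [Nat.card_fin, h0])
  · obtain ⟨A, hA, hc⟩ := CfsgLib.AbelianPerm.exists_abelian (Fin.cons 4 fun _ : Fin j => 3)
      (Fin.cases (by norm_num) fun _ => by simp) (α := Fin (3 * (j + 1) + 1))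
      (by simp [Fin.sum_univ_succ]; ring)
    exact ⟨A, hA, hc.trans (by simp [Fin.prod_univ_succ])⟩
  · rintro c ⟨A, hA, rfl⟩
    exact (CfsgLib.AbelianPerm.card_le_best A hA).trans (by rw [Nat.card_fin, h1, Nat.add_sub_cancel])
  · obtain ⟨A, hA, hc⟩ := CfsgLib.AbelianPerm.exists_abelian (Fin.cons 2 fun _ : Fin (j + 1) => 3)
      (Fin.cases (by norm_num) fun _ => by simp) (α := Fin (3 * (j + 1) + 2))
      (by simp [Fin.sum_univ_succ]; ring)
    exact ⟨A, hA, hc.trans (by simp [Fin.prod_univ_succ])⟩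
  · rintro c ⟨A, hA, rfl⟩
    exact (CfsgLib.AbelianPerm.card_le_best A hA).trans (by rw [Nat.card_fin, h2])

end Cfsg.Agent.S2505
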