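import Cfsg.Statements.S2506
import Cfsg.Agent.AbelianPerm.Alt

set_option autoImplicit false
open scoped Pointwise
open Cfsg

namespace Cfsg.Agent.S2506

/-- In the alternating group of any degree, any two abelian subgroups of the largest possible order (among abelian subgroups) are conjugate. -/
theorem result (n : ℕ)
    (A B : Subgroup (alternatingGroup (Fin n))) (hA : IsMulCommutative A) (hB : IsMulCommutative B)
    (hAmax : ∀ C : Subgroup (alternatingGroup (Fin n)), IsMulCommutative C → Nat.card C ≤ Nat.card A)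
    (hBmax : ∀ C : Subgroup (alternatingGroup (Fin n)), IsMulCommutative C → Nat.card C ≤ Nat.card B) :
    ∃ g : alternatingGroup (Fin n), B = MulAut.conj g • A := by
  classical
  rcases Nat.lt_or_ge n 3 with hn | hn
  · haveI : Subsingleton (alternatingGroup (Fin n)) := by
      interval_cases n <;> exact (Nat.card_eq_one_iff_unique.1 (by rw [Nat.card_eq_fintype_card]; decide)).1
    exact ⟨1, SetLike.ext fun x => by rw [Subsingleton.elim x 1]; simp [one_mem]⟩
  by_cases h5 : n = 5
  · subst h5
    haveI : Fact (Nat.Prime 5) := ⟨by norm_num⟩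
    have h60 : Nat.card (alternatingGroup (Fin 5)) = 60 := by
      rw [nat_card_alternatingGroup, Nat.card_fin]; rfl
    have hno6 : ∀ g : alternatingGroup (Fin 5), g ^ 2 = 1 ∨ g ^ 3 = 1 ∨ g ^ 5 = 1 := by decide +kernel
    have hsize : ∀ C : Subgroup (alternatingGroup (Fin 5)), IsMulCommutative C →
        (∀ D : Subgroup (alternatingGroup (Fin 5)), IsMulCommutative D → Nat.card D ≤ Nat.card C) →
        Nat.card C = 5 := by
      intro C hC hmax
      have hup : Nat.card C ≤ 6 := by
        have h := CfsgLib.AbelianPerm.card_le_best (C.map (alternatingGroup (Fin 5)).subtype)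
          (Subgroup.map_isMulCommutative _ _)
        rw [Subgroup.card_map_of_injective Subtype.val_injective, Nat.card_fin] at h
        exact h
      obtain ⟨g, hg⟩ := exists_prime_orderOf_dvd_card' 5 (G := alternatingGroup (Fin 5)) (by rw [h60]; norm_num)
      have hlo : 5 ≤ Nat.card C := by
        have h := hmax (Subgroup.zpowers g) inferInstance
        rwa [Nat.card_zpowers, hg] at h
      by_contra hne
      have h6 : Nat.card C = 6 := by omega
      haveI : Fact (Nat.Prime 2) := ⟨Nat.prime_two⟩
      haveI : Fact (Nat.Prime 3) := ⟨Nat.prime_three⟩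
      obtain ⟨a, ha⟩ := exists_prime_orderOf_dvd_card' 2 (G := C) (by rw [h6]; norm_num)
      obtain ⟨b, hb⟩ := exists_prime_orderOf_dvd_card' 3 (G := C) (by rw [h6]; norm_num)
      have hab : orderOf (a * b) = 6 := by
        rw [(show Commute a b from mul_comm' a b).orderOf_mul_eq_mul_orderOf_of_coprime (by rw [ha, hb]; norm_num), ha, hb]
      rw [← Subgroup.orderOf_coe] at hab
      rcases hno6 ((a * b : C) : alternatingGroup (Fin 5)) with h | h | h <;>
        · have := orderOf_dvd_of_pow_eq_one h
          rw [hab] at this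
          norm_num at this
    have hfac : (Nat.card (alternatingGroup (Fin 5))).factorization 5 = 1 := by
      rw [h60, show 60 = 5 * 12 by norm_num, Nat.factorization_mul (by norm_num) (by norm_num)]
      simp [Nat.Prime.factorization_self (by norm_num : Nat.Prime 5),
        Nat.factorization_eq_zero_of_not_dvd (show ¬ 5 ∣ 12 by norm_num)]
    let PA : Sylow 5 (alternatingGroup (Fin 5)) := Sylow.ofCard A (by rw [hsize A hA hAmax, hfac, pow_one])
    let PB : Sylow 5 (alternatingGroup (Fin 5)) := Sylow.ofCard B (by rw [hsize B hB hBmax, hfac, pow_one])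
    obtain ⟨g, hg⟩ := MulAction.exists_smul_eq (alternatingGroup (Fin 5)) PA PB
    exact ⟨g, (congrArg (fun P : Sylow 5 (alternatingGroup (Fin 5)) => (P : Subgroup (alternatingGroup (Fin 5)))) hg).symm⟩
  obtain ⟨j, k, hj, hjk⟩ : ∃ j k : ℕ, j ≤ 2 ∧ n = 4 * j + 3 * k := by
    rcases (show n % 3 = 0 ∨ n % 3 = 1 ∨ n % 3 = 2 by omega) with h | h | h
    · exact ⟨0, n / 3, by omega, by omega⟩
    · exact ⟨1, n / 3 - 1, by omega, by omega⟩
    · exact ⟨2, n / 3 - 2, le_rfl, by omega⟩
  obtain ⟨g, hg⟩ := CfsgLib.AbelianPerm.alt_conj A B hA hB hj hjk (by omega) hAmax hBmax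
  exact ⟨g, hg⟩

end Cfsg.Agent.S2506
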