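import Cfsg.Statements.S2509
import Cfsg.Agent.PronormalPSp.Factor

set_option autoImplicit false
open Cfsg

namespace Cfsg.Agent.S2509

/-- Let G be a finite direct product of groups PSp_{2m_i}(F_i) (the symplectic group on a 2m_i-dimensional space modulo its centre), where each m_i is a power of 2 (m_i = 1, giving PSL₂, is allowed), each F_i is a finite field of odd order, and each factor PSp_{2m_i}(F_i) is a simple group. Then every subgroup H of G of odd index is pronormal in G: for every g ∈ G the subgroups H and gHg⁻¹ are conjugate by an element of the subgroup they generate. -/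
theorem result {t : ℕ}
    (m : Fin t → ℕ) (F : Fin t → Type*) [∀ i, Field (F i)] [∀ i, Fintype (F i)]
    (hm : ∀ i, ∃ k : ℕ, m i = 2 ^ k) (hodd : ∀ i, Odd (Fintype.card (F i)))
    (hs : ∀ i, IsSimpleGroup (Cfsg.PSp (m i) (F i)))
    (H : Subgroup (Π i, Cfsg.PSp (m i) (F i))) (hH : Odd H.index) : Cfsg.IsPronormal H := by
  have : ∀ i, Finite (Cfsg.PSp (m i) (F i)) := fun i => inferInstance
  refine CfsgLib.PronormalPSp.isPronormal_pi (fun i => ?_) hH
  obtain ⟨k, hk⟩ := hm i
  obtain ⟨D⟩ := CfsgLib.SpFour.exists_qdata (hodd i)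
  have hd : CfsgLib.PronormalPSp.Dich (Matrix.symplecticGroup (Fin (m i)) (F i)) := by
    rw [hk]
    exact CfsgLib.PronormalPSp.dich_sp (hodd i) D
  refine CfsgLib.PronormalPSp.dich_of_surjective (QuotientGroup.mk' _) (QuotientGroup.mk'_surjective _) ?_ hd
  rw [QuotientGroup.ker_mk']
  rintro ⟨g, hg⟩
  refine ⟨1, Subtype.ext (Subtype.ext ?_)⟩
  rcases CfsgLib.Symp.mem_center_iff.1 hg with h | h <;>
    simp [pow_two, h]

end Cfsg.Agent.S2509
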