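import Cfsg.Statements.S2510
import Cfsg.Agent.Spectrum.PSL

set_option autoImplicit false
open Cfsg

namespace Cfsg.Agent.S2510

/-- Let F be a finite field with q = p^a elements, n ≥ 2 (with q ≥ 4 when n = 2), L = PSL(n, F), and let r be a prime dividing q − 1 and not dividing n. Then for every m the direct product L × L × L × (ℤ/r)^m has the same set of element orders as L × L × L; and if n − 1 ≠ p^j for every j ≥ 0 (so never when n = 2, since 1 = p^0), then already L × L × (ℤ/r)^m has the same set of element orders as L × L. -/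
theorem result {F : Type*} [Field F] [Fintype F] (p a n r m : ℕ) (hp : p.Prime) (ha : 1 ≤ a) (hF : Fintype.card F = p ^ a)
    (hn : 2 ≤ n) (hn2 : n = 2 → 4 ≤ Fintype.card F) (hr : r.Prime) (hrq : r ∣ Fintype.card F - 1) (hrn : ¬ r ∣ n) :
    Set.range (orderOf : Matrix.ProjectiveSpecialLinearGroup (Fin n) F × Matrix.ProjectiveSpecialLinearGroup (Fin n) F × Matrix.ProjectiveSpecialLinearGroup (Fin n) F × Multiplicative (Fin m → ZMod r) → ℕ) =
      Set.range (orderOf : Matrix.ProjectiveSpecialLinearGroup (Fin n) F × Matrix.ProjectiveSpecialLinearGroup (Fin n) F × Matrix.ProjectiveSpecialLinearGroup (Fin n) F → ℕ) ∧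
    ((¬ ∃ j : ℕ, n - 1 = p ^ j) →
      Set.range (orderOf : Matrix.ProjectiveSpecialLinearGroup (Fin n) F × Matrix.ProjectiveSpecialLinearGroup (Fin n) F × Multiplicative (Fin m → ZMod r) → ℕ) =
        Set.range (orderOf : Matrix.ProjectiveSpecialLinearGroup (Fin n) F × Matrix.ProjectiveSpecialLinearGroup (Fin n) F → ℕ)) := by
  classical
  have := Fact.mk hp
  have := Fact.mk hr
  have : CharP F p := (CharP.charP_iff_prime_eq_zero hp).mpr (by
    have h := Nat.cast_card_eq_zero F
    rw [hF, Nat.cast_pow] at h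
    exact eq_zero_of_pow_eq_zero h)
  set L := Matrix.ProjectiveSpecialLinearGroup (Fin n) F
  set K := Nat.clog p n
  have hK : n ≤ p ^ K := Nat.le_pow_clog hp.one_lt n
  have hK' : p ^ (K - 1) < n := Nat.pow_pred_clog_lt_self hp.one_lt (by omega)
  set N := CfsgLib.SpectrumPSL.singerExp (Fintype.card F) n
  have hD : ∀ a : L, (∃ b : L, orderOf b = Nat.lcm (orderOf a) r) ∨ orderOf a ∣ N * p ^ K :=
    fun a => CfsgLib.SpectrumPSL.orderOf_dichotomy hr hrq hrn (by omega) hK a
  obtain ⟨g, hg⟩ : ∃ g : L, orderOf g = N := CfsgLib.SpectrumPSL.exists_orderOf_singerExp (by omega)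
  obtain ⟨u, hu⟩ : ∃ u : L, orderOf u = p ^ K := ⟨_, CfsgLib.SpectrumPSL.orderOf_mk_of_ppow
    (CfsgLib.MatOrder.orderOf_regUnipotent (R := F) (n := n) (by omega) hK (Or.inr hK'))⟩
  -- the idempotent on the last coordinate
  let E : Matrix (Fin n) (Fin n) F := Matrix.single ⟨n - 1, by omega⟩ ⟨n - 1, by omega⟩ 1
  have hE : E * E = E := by simp [E]
  have hE0 : E ≠ 0 := fun h => by
    have := congrFun (congrFun h ⟨n - 1, by omega⟩) ⟨n - 1, by omega⟩
    simp [E] at this
  have hE1 : E ≠ 1 := fun h => by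
    have := congrFun (congrFun h ⟨0, by omega⟩) ⟨0, by omega⟩
    have hne : ¬ n - 1 = 0 := by omega
    simp [E, Matrix.single, Fin.ext_iff, hne] at this
  obtain ⟨W, hW, hWc⟩ := CfsgLib.SpectrumPSL.exists_order_r_of_idempotent hr hrq hrn hE hE0 hE1
  set w : L := QuotientGroup.mk W
  have hz : ∀ z : Multiplicative (Fin m → ZMod r), orderOf z = 1 ∨ orderOf z = r := fun z =>
    hr.eq_one_or_self_of_dvd _ (orderOf_dvd_of_pow_eq_one (Multiplicative.toAdd.injective
      (funext fun i => by simp [toAdd_pow])))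
  have hdiv : ∀ {G : Type _} [Group G] [Finite G] (x : G) (k : ℕ), k ∣ orderOf x → ∃ y : G, orderOf y = k :=
    fun x k hk => CfsgLib.Spectrum.exists_orderOf_eq_of_dvd (orderOf_pos x) hk
  have lcomm : ∀ a b c : ℕ, Nat.lcm a (Nat.lcm b c) = Nat.lcm b (Nat.lcm a c) := fun a b c => by
    rw [← Nat.lcm_assoc, Nat.lcm_comm a b, Nat.lcm_assoc]
  constructor
  · ext k
    constructor
    · rintro ⟨⟨a, b, c, z⟩, rfl⟩
      simp only [Prod.orderOf_mk]
      rcases hz z with h | h <;> rw [h]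
      · exact ⟨(a, b, c), by simp [Prod.orderOf_mk, Nat.lcm_one_right]⟩
      rcases hD a with ⟨a', ha'⟩ | h1
      · exact ⟨(a', b, c), by simp only [Prod.orderOf_mk, ha', Nat.lcm_comm, lcomm, Nat.lcm_assoc]⟩
      rcases hD b with ⟨b', hb'⟩ | h2
      · exact ⟨(a, b', c), by simp only [Prod.orderOf_mk, hb', Nat.lcm_comm, lcomm, Nat.lcm_assoc]⟩
      rcases hD c with ⟨c', hc'⟩ | h3
      · exact ⟨(a, b, c'), by simp only [Prod.orderOf_mk, hc', Nat.lcm_comm, lcomm, Nat.lcm_assoc]⟩
      apply hdiv (g, u, w)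
      simp only [Prod.orderOf_mk, hg, hu, hW]
      have hcop : ∀ o, o ∣ N * p ^ K → o ∣ Nat.lcm N (p ^ K) := by
        intro o ho
        refine ho.trans ?_
        rw [Nat.Coprime.lcm_eq_mul]
        exact CfsgLib.SpectrumPSL.coprime_singerExp hp ha hF (by omega) K
      have hle : Nat.lcm N (p ^ K) ∣ Nat.lcm N (Nat.lcm (p ^ K) r) :=
        Nat.lcm_dvd (Nat.dvd_lcm_left _ _) ((Nat.dvd_lcm_left _ _).trans (Nat.dvd_lcm_right _ _))
      exact Nat.lcm_dvd ((hcop _ h1).trans hle) (Nat.lcm_dvd ((hcop _ h2).trans hle)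
        (Nat.lcm_dvd ((hcop _ h3).trans hle) ((Nat.dvd_lcm_right _ _).trans (Nat.dvd_lcm_right _ _))))
    · rintro ⟨⟨a, b, c⟩, rfl⟩
      exact ⟨(a, b, c, 1), by simp [Prod.orderOf_mk]⟩
  · intro hnp
    -- a `p`-element of order `p ^ K` commuting with an element of order `r`
    have hK1 : p ^ (K - 1) < n - 1 := by
      by_contra h
      exact hnp ⟨K - 1, by omega⟩
    obtain ⟨v, hv⟩ : ∃ v : L, orderOf v = p ^ K * r := by
      let U : Matrix.SpecialLinearGroup (Fin n) F :=
        ⟨CfsgLib.MatOrder.blockHom (Nat.sub_le n 1)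
          ((CfsgLib.MatOrder.regUnipotent (R := F) (n - 1)) : Matrix (Fin (n - 1)) (Fin (n - 1)) F),
          by rw [CfsgLib.MatOrder.det_blockHom]; exact (CfsgLib.MatOrder.regUnipotent (R := F) (n - 1)).2⟩
      have hUo : orderOf U = p ^ K := by
        rw [← CfsgLib.MatOrder.orderOf_regUnipotent (R := F) (n := n - 1) (by omega) (by omega) (Or.inr hK1)]
        let φ : Matrix.SpecialLinearGroup (Fin (n - 1)) F →* Matrix.SpecialLinearGroup (Fin n) F :=
          { toFun := fun X => ⟨CfsgLib.MatOrder.blockHom (Nat.sub_le n 1) (X : Matrix (Fin (n - 1)) (Fin (n - 1)) F),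
              by rw [CfsgLib.MatOrder.det_blockHom]; exact X.2⟩
            map_one' := Subtype.ext (map_one (CfsgLib.MatOrder.blockHom (R := F) (Nat.sub_le n 1)))
            map_mul' := fun X Y => Subtype.ext (map_mul (CfsgLib.MatOrder.blockHom (R := F) (Nat.sub_le n 1))
              (X : Matrix (Fin (n - 1)) (Fin (n - 1)) F) (Y : Matrix (Fin (n - 1)) (Fin (n - 1)) F)) }
        exact orderOf_injective φ (fun X Y h => Subtype.ext
          (CfsgLib.MatOrder.blockHom_injective (Nat.sub_le n 1) (congrArg Subtype.val h)))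
          (CfsgLib.MatOrder.regUnipotent (R := F) (n - 1))
      have hUE : Commute (U : Matrix (Fin n) (Fin n) F) E := CfsgLib.SpectrumPSL.commute_blockHom_last _ _
      have hcU : Commute U W := Subtype.ext (hWc _ hUE)
      have hc' : Commute (QuotientGroup.mk U : L) w :=
        hcU.map (QuotientGroup.mk' (Subgroup.center (Matrix.SpecialLinearGroup (Fin n) F)))
      refine ⟨QuotientGroup.mk U * w, ?_⟩
      have ho := CfsgLib.SpectrumPSL.orderOf_mk_of_ppow hUo
      rw [hc'.orderOf_mul_eq_mul_orderOf_of_coprime, ho, hW]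
      rw [ho, hW]
      refine Nat.Coprime.pow_left _ ((Nat.coprime_primes hp hr).mpr ?_)
      rintro rfl
      have h1 : p ∣ Fintype.card F := hF ▸ dvd_pow_self p (by omega)
      have h2 := Nat.dvd_sub h1 hrq
      rw [Nat.sub_sub_self Fintype.card_pos] at h2
      exact hp.not_dvd_one h2
    ext k
    constructor
    · rintro ⟨⟨a, b, z⟩, rfl⟩
      simp only [Prod.orderOf_mk]
      rcases hz z with h | h <;> rw [h]
      · exact ⟨(a, b), by simp [Prod.orderOf_mk, Nat.lcm_one_right]⟩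
      rcases hD a with ⟨a', ha'⟩ | h1
      · exact ⟨(a', b), by simp only [Prod.orderOf_mk, ha', Nat.lcm_comm, lcomm, Nat.lcm_assoc]⟩
      rcases hD b with ⟨b', hb'⟩ | h2
      · exact ⟨(a, b'), by simp only [Prod.orderOf_mk, hb', Nat.lcm_comm, lcomm, Nat.lcm_assoc]⟩
      apply hdiv (g, v)
      simp only [Prod.orderOf_mk, hg, hv]
      have hcop : ∀ o, o ∣ N * p ^ K → o ∣ Nat.lcm N (p ^ K * r) := by
        intro o ho
        refine ho.trans ?_
        rw [← (CfsgLib.SpectrumPSL.coprime_singerExp hp ha hF (by omega) K).lcm_eq_mul]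
        exact Nat.lcm_dvd (Nat.dvd_lcm_left _ _) ((dvd_mul_right _ r).trans (Nat.dvd_lcm_right _ _))
      exact Nat.lcm_dvd (hcop _ h1) (Nat.lcm_dvd (hcop _ h2) ((dvd_mul_left r _).trans (Nat.dvd_lcm_right _ _)))
    · rintro ⟨⟨a, b⟩, rfl⟩
      exact ⟨(a, b, 1), by simp [Prod.orderOf_mk]⟩

end Cfsg.Agent.S2510
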