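import Cfsg.Statements.S2511
import Cfsg.Agent.SpecAbsorb.SU

set_option autoImplicit false
set_option maxHeartbeats 400000
open Cfsg

namespace Cfsg.Agent.S2511

/-- Let F be a finite field with q² elements, q = p^a, n ≥ 3 with (n, q) ≠ (3, 2), L = PSU(n, q) realised over F, and let r be a prime dividing q + 1 and not dividing n. Then for every m the direct product L × L × L × (ℤ/r)^m has the same set of element orders as L × L × L; and if n − 1 is not a power of p, then already L × L × (ℤ/r)^m has the same set of element orders as L × L. -/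
theorem result {F : Type*} [Field F] [Fintype F] (p a n q r m : ℕ) (hp : p.Prime) (ha : 1 ≤ a) (hq : q = p ^ a) (hF : Fintype.card F = q ^ 2)
    (hn : 3 ≤ n) (hn3 : ¬ (n = 3 ∧ q = 2)) (hr : r.Prime) (hrq : r ∣ q + 1) (hrn : ¬ r ∣ n) :
    Set.range (orderOf : Cfsg.PSU n F q × Cfsg.PSU n F q × Cfsg.PSU n F q × Multiplicative (Fin m → ZMod r) → ℕ) = Set.range (orderOf : Cfsg.PSU n F q × Cfsg.PSU n F q × Cfsg.PSU n F q → ℕ) ∧
    ((¬ ∃ j : ℕ, n - 1 = p ^ j) →
      Set.range (orderOf : Cfsg.PSU n F q × Cfsg.PSU n F q × Multiplicative (Fin m → ZMod r) → ℕ) = Set.range (orderOf : Cfsg.PSU n F q × Cfsg.PSU n F q → ℕ)) := by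
  classical
  have := Fact.mk hp
  have := Fact.mk hr
  have hF' : Nat.card F = q ^ 2 := by rw [Nat.card_eq_fintype_card, hF]
  have : CharP F p := (CharP.charP_iff_prime_eq_zero hp).mpr (by
    have h := Nat.cast_card_eq_zero F
    rw [hF, hq, Nat.cast_pow, Nat.cast_pow] at h
    exact eq_zero_of_pow_eq_zero (eq_zero_of_pow_eq_zero h))
  have hpq : p ∣ q := hq ▸ dvd_pow_self p (by omega)
  set K := Nat.clog p n
  have hK : n ≤ p ^ K := Nat.le_pow_clog hp.one_lt n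
  have hK' : p ^ (K - 1) < n := Nat.pow_pred_clog_lt_self hp.one_lt (by omega)
  set T := CfsgLib.SpecAbsorb.psuTor q n
  obtain ⟨G, hG⟩ := CfsgLib.SpecAbsorb.exists_su_singer hF' hn
  set g : Cfsg.PSU n F q := QuotientGroup.mk G
  have key : ∀ i : ℕ, g ^ i = 1 ↔ T ∣ i := fun i => by
    rw [← QuotientGroup.mk_pow, QuotientGroup.eq_one_iff, CfsgLib.Unitary.mem_center_SU_iff hF' (by omega)]
    exact hG i
  have hg : orderOf g = T :=
    Nat.dvd_antisymm (orderOf_dvd_of_pow_eq_one ((key T).2 dvd_rfl)) ((key _).1 (pow_orderOf_eq_one g))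
  have hcop : Nat.Coprime T (p ^ K) := by
    refine Nat.Coprime.pow_right _ ?_
    rw [Nat.coprime_comm, hp.coprime_iff_not_dvd]
    exact fun h => CfsgLib.SpecAbsorb.suTor_not_dvd hF' hp hpq (n := n) (by omega)
      (h.trans (Nat.div_dvd_of_dvd (Nat.gcd_dvd_left _ _)))
  have hD := fun x h => CfsgLib.SpecAbsorb.su_dichotomy (F := F) hF' (p := p) hr hrq hrn (n := n) (by omega) hK x h
  refine ⟨CfsgLib.SpecAbsorb.absorb_three (T := fun o => o ∣ T * p ^ K) m hD fun o₁ o₂ o₃ t₁ t₂ t₃ => ?_,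
    fun hnp => CfsgLib.SpecAbsorb.absorb_two (T := fun o => o ∣ T * p ^ K) m hD fun o₁ o₂ t₁ t₂ => ?_⟩
  · -- a unipotent element and an element of order `r`
    obtain ⟨U, hU⟩ := CfsgLib.SpecAbsorb.exists_su_unip (F := F) hF' (p := p) (k := n) (by omega) hK hK'
    set u : Cfsg.PSU n F q := QuotientGroup.mk U
    have hu : orderOf u = p ^ K := CfsgLib.SpecAbsorb.orderOf_mk_of_ppow_SU hF' (by omega) hU
    obtain ⟨w, hw⟩ : ∃ w : Cfsg.PSU n F q, r ∣ orderOf w := by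
      have hK1 : n - 1 ≤ p ^ Nat.clog p (n - 1) := Nat.le_pow_clog hp.one_lt _
      have hK2 : p ^ (Nat.clog p (n - 1) - 1) < n - 1 := Nat.pow_pred_clog_lt_self hp.one_lt (by omega)
      obtain ⟨k, rfl⟩ : ∃ k, n = k + 1 := ⟨n - 1, by omega⟩
      obtain ⟨v, hv⟩ := CfsgLib.SpecAbsorb.exists_su_mixed (F := F) hF' (p := p) (k := k) hr hrq (by omega) hrn hpq
        hK1 hK2
      exact ⟨v, hv ▸ dvd_mul_left r _⟩
    refine ⟨g, u, w, ?_⟩
    have hle : T * p ^ K ∣ Nat.lcm (orderOf g) (Nat.lcm (orderOf u) (orderOf w)) := by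
      rw [← hcop.lcm_eq_mul, hg, hu]
      exact Nat.lcm_dvd (Nat.dvd_lcm_left _ _) ((Nat.dvd_lcm_left _ _).trans (Nat.dvd_lcm_right _ _))
    exact ⟨t₁.trans hle, t₂.trans hle, t₃.trans hle,
      hw.trans ((Nat.dvd_lcm_right _ _).trans (Nat.dvd_lcm_right _ _))⟩
  · have hK1 : p ^ (K - 1) < n - 1 := by
      by_contra h
      exact hnp ⟨K - 1, by omega⟩
    obtain ⟨k, rfl⟩ : ∃ k, n = k + 1 := ⟨n - 1, by omega⟩
    obtain ⟨v, hv⟩ := CfsgLib.SpecAbsorb.exists_su_mixed (F := F) hF' (p := p) (K := K) (k := k) hr hrq (by omega)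
      hrn hpq (by omega) hK1
    refine ⟨g, v, ?_⟩
    have hle : T * p ^ K ∣ Nat.lcm (orderOf g) (orderOf v) := by
      rw [← hcop.lcm_eq_mul, hg, hv]
      exact Nat.lcm_dvd (Nat.dvd_lcm_left _ _) ((dvd_mul_right _ r).trans (Nat.dvd_lcm_right _ _))
    exact ⟨t₁.trans hle, t₂.trans hle, hv ▸ (dvd_mul_left r _).trans (Nat.dvd_lcm_right _ _)⟩

end Cfsg.Agent.S2511
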