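import Cfsg.Statements.S2512
import Cfsg.Agent.SpecAbsorb.Sp

set_option autoImplicit false
set_option maxHeartbeats 400000
open Cfsg

namespace Cfsg.Agent.S2512

/-- Let F be a finite field of odd order q = p^a, n ≥ 2 (with q ≥ 3 automatic), and L = PSp(2n, F). Then for every m the direct product L × L × L × (ℤ/2)^m has the same set of element orders as L × L × L; and if 2n − 1 is not a power of p, then already L × L × (ℤ/2)^m has the same set of element orders as L × L. -/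
theorem result {F : Type*} [Field F] [Fintype F] (p a n m : ℕ) (hp : p.Prime) (ha : 1 ≤ a) (hF : Fintype.card F = p ^ a) (hodd : Odd (Fintype.card F))
    (hn : 2 ≤ n) :
    Set.range (orderOf : Cfsg.PSp n F × Cfsg.PSp n F × Cfsg.PSp n F × Multiplicative (Fin m → ZMod 2) → ℕ) = Set.range (orderOf : Cfsg.PSp n F × Cfsg.PSp n F × Cfsg.PSp n F → ℕ) ∧
    ((¬ ∃ j : ℕ, 2 * n - 1 = p ^ j) →
      Set.range (orderOf : Cfsg.PSp n F × Cfsg.PSp n F × Multiplicative (Fin m → ZMod 2) → ℕ) = Set.range (orderOf : Cfsg.PSp n F × Cfsg.PSp n F → ℕ)) := by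
  classical
  have := Fact.mk hp
  have : CharP F p := (CharP.charP_iff_prime_eq_zero hp).mpr (by
    have h := Nat.cast_card_eq_zero F
    rw [hF, Nat.cast_pow] at h
    exact eq_zero_of_pow_eq_zero h)
  have hp2 : p ≠ 2 := by
    rintro rfl
    rw [hF] at hodd
    exact Nat.not_even_iff_odd.2 hodd ((Nat.even_pow' (by omega)).2 even_two)
  have h2 : (1 : F) ≠ -1 := fun h => hp2 ((Nat.prime_dvd_prime_iff_eq hp Nat.prime_two).1
    ((CharP.cast_eq_zero_iff F p 2).1 (by push_cast; linear_combination h)))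
  set q := Fintype.card F
  set K := Nat.clog p (2 * n)
  have hK : 2 * n ≤ p ^ K := Nat.le_pow_clog hp.one_lt _
  have hK' : p ^ (K - 1) < 2 * n := Nat.pow_pred_clog_lt_self hp.one_lt (by omega)
  have hoddK : Odd (p ^ K) := (hp.odd_of_ne_two hp2).pow
  -- the two Singer elements and a unipotent element
  obtain ⟨zp, hzp⟩ := CfsgLib.SpecAbsorb.exists_sp_plus (F := F) (m := n) (by omega)
  obtain ⟨zm, hzm⟩ := CfsgLib.OrderBC.exists_singer_symp F (fun h => h2 (by linear_combination h)) (k := n) (by omega)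
  obtain ⟨u, hu⟩ := CfsgLib.SpecAbsorb.exists_sp_unip (F := F) (k := n) (by omega) hK hK'
  set x : Cfsg.PSp n F := QuotientGroup.mk zp
  set y : Cfsg.PSp n F := QuotientGroup.mk zm
  set w : Cfsg.PSp n F := QuotientGroup.mk u
  have hx := CfsgLib.SpecAbsorb.dvd_two_mul_orderOf_mk zp
  have hy := CfsgLib.SpecAbsorb.dvd_two_mul_orderOf_mk zm
  have hw : p ^ K ∣ orderOf w := CfsgLib.SpecAbsorb.odd_dvd_of_dvd_two_mul hoddK
    (hu ▸ CfsgLib.SpecAbsorb.dvd_two_mul_orderOf_mk u)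
  rw [hzp] at hx
  rw [hzm] at hy
  have hev : 2 ∣ Nat.lcm (orderOf x) (orderOf y) := by
    obtain ⟨v, hv⟩ : Odd (q ^ n) := hodd.pow
    obtain ⟨c, hc⟩ := Nat.even_or_odd' v
    rcases hc with rfl | rfl
    · refine (dvd_trans ?_ (Nat.dvd_lcm_left _ _))
      rw [← Nat.mul_dvd_mul_iff_left two_pos]
      exact (show 2 * 2 ∣ q ^ n - 1 from ⟨c, by omega⟩).trans hx
    · refine (dvd_trans ?_ (Nat.dvd_lcm_right _ _))
      rw [← Nat.mul_dvd_mul_iff_left two_pos]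
      exact (show 2 * 2 ∣ q ^ n + 1 from ⟨c + 1, by omega⟩).trans hy
  have hT : ∀ o, CfsgLib.SpecAbsorb.SpT q p n K o → ∀ L, orderOf x ∣ L → orderOf y ∣ L → p ^ K ∣ L → o ∣ L := by
    rintro o ⟨ho, h | h | h⟩ L h1 h2' h3
    · exact (CfsgLib.SpecAbsorb.odd_dvd_of_dvd_two_mul ho (h.trans hx)).trans h1
    · exact (CfsgLib.SpecAbsorb.odd_dvd_of_dvd_two_mul ho (h.trans hy)).trans h2'
    · exact h.trans h3
  have hD := fun x' h => CfsgLib.SpecAbsorb.dichotomy (F := F) (p := p) h2 hp2 (n := n) (by omega) hK x' h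
  refine ⟨CfsgLib.SpecAbsorb.absorb_three m hD fun o₁ o₂ o₃ t₁ t₂ t₃ => ⟨x, y, w, ?_⟩, fun hnp =>
    CfsgLib.SpecAbsorb.absorb_two m hD fun o₁ o₂ t₁ t₂ => ?_⟩
  · have h1 := Nat.dvd_lcm_left (orderOf x) (Nat.lcm (orderOf y) (orderOf w))
    have h2' := (Nat.dvd_lcm_left (orderOf y) (orderOf w)).trans (Nat.dvd_lcm_right (orderOf x) _)
    have h3 := hw.trans ((Nat.dvd_lcm_right (orderOf y) (orderOf w)).trans (Nat.dvd_lcm_right (orderOf x) _))
    exact ⟨hT _ t₁ _ h1 h2' h3, hT _ t₂ _ h1 h2' h3, hT _ t₃ _ h1 h2' h3, hev.trans (Nat.lcm_dvd h1 h2')⟩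
  -- a unipotent element centralising an involution
  have hK1 : p ^ (K - 1) < 2 * (n - 1) := by
    have h1 : p ^ (K - 1) ≠ 2 * n - 1 := fun e => hnp ⟨K - 1, e.symm⟩
    obtain ⟨c, hc⟩ : Odd (p ^ (K - 1)) := (hp.odd_of_ne_two hp2).pow
    omega
  obtain ⟨v, hv⟩ : ∃ v : Cfsg.PSp n F, 2 * p ^ K ∣ orderOf v := by
    obtain ⟨u', hu'⟩ := CfsgLib.SpecAbsorb.exists_sp_unip (F := F) (k := n - 1) (by omega) (by omega) hK1
    obtain ⟨v, hv⟩ := CfsgLib.SpecAbsorb.exists_pair (n := n) h2 (m := n - 1) (k := 1) (by omega) le_rfl (by omega)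
      u' 1 (hu' ▸ hoddK) (by rw [orderOf_one]; exact odd_one)
    rw [hu', orderOf_one, Nat.lcm_one_right] at hv
    exact ⟨v, hv⟩
  obtain ⟨-, h1 | h1 | h1⟩ := id t₁ <;> obtain ⟨-, h2' | h2' | h2'⟩ := id t₂
  all_goals first
    | exact ⟨x, y,
        (CfsgLib.SpecAbsorb.odd_dvd_of_dvd_two_mul t₁.1 (h1.trans hx)).trans (Nat.dvd_lcm_left _ _),
        (CfsgLib.SpecAbsorb.odd_dvd_of_dvd_two_mul t₂.1 (h2'.trans hx)).trans (Nat.dvd_lcm_left _ _), hev⟩
    | exact ⟨x, y,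
        (CfsgLib.SpecAbsorb.odd_dvd_of_dvd_two_mul t₁.1 (h1.trans hx)).trans (Nat.dvd_lcm_left _ _),
        (CfsgLib.SpecAbsorb.odd_dvd_of_dvd_two_mul t₂.1 (h2'.trans hy)).trans (Nat.dvd_lcm_right _ _), hev⟩
    | exact ⟨x, y,
        (CfsgLib.SpecAbsorb.odd_dvd_of_dvd_two_mul t₁.1 (h1.trans hy)).trans (Nat.dvd_lcm_right _ _),
        (CfsgLib.SpecAbsorb.odd_dvd_of_dvd_two_mul t₂.1 (h2'.trans hx)).trans (Nat.dvd_lcm_left _ _), hev⟩
    | exact ⟨x, y,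
        (CfsgLib.SpecAbsorb.odd_dvd_of_dvd_two_mul t₁.1 (h1.trans hy)).trans (Nat.dvd_lcm_right _ _),
        (CfsgLib.SpecAbsorb.odd_dvd_of_dvd_two_mul t₂.1 (h2'.trans hy)).trans (Nat.dvd_lcm_right _ _), hev⟩
    | exact ⟨x, v,
        (CfsgLib.SpecAbsorb.odd_dvd_of_dvd_two_mul t₁.1 (h1.trans hx)).trans (Nat.dvd_lcm_left _ _),
        (h2'.trans ((dvd_mul_left _ 2).trans hv)).trans (Nat.dvd_lcm_right _ _),
        ((dvd_mul_right 2 _).trans hv).trans (Nat.dvd_lcm_right _ _)⟩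
    | exact ⟨y, v,
        (CfsgLib.SpecAbsorb.odd_dvd_of_dvd_two_mul t₁.1 (h1.trans hy)).trans (Nat.dvd_lcm_left _ _),
        (h2'.trans ((dvd_mul_left _ 2).trans hv)).trans (Nat.dvd_lcm_right _ _),
        ((dvd_mul_right 2 _).trans hv).trans (Nat.dvd_lcm_right _ _)⟩
    | exact ⟨v, x,
        (h1.trans ((dvd_mul_left _ 2).trans hv)).trans (Nat.dvd_lcm_left _ _),
        (CfsgLib.SpecAbsorb.odd_dvd_of_dvd_two_mul t₂.1 (h2'.trans hx)).trans (Nat.dvd_lcm_right _ _),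
        ((dvd_mul_right 2 _).trans hv).trans (Nat.dvd_lcm_left _ _)⟩
    | exact ⟨v, y,
        (h1.trans ((dvd_mul_left _ 2).trans hv)).trans (Nat.dvd_lcm_left _ _),
        (CfsgLib.SpecAbsorb.odd_dvd_of_dvd_two_mul t₂.1 (h2'.trans hy)).trans (Nat.dvd_lcm_right _ _),
        ((dvd_mul_right 2 _).trans hv).trans (Nat.dvd_lcm_left _ _)⟩
    | exact ⟨v, v,
        (h1.trans ((dvd_mul_left _ 2).trans hv)).trans (Nat.dvd_lcm_left _ _),
        (h2'.trans ((dvd_mul_left _ 2).trans hv)).trans (Nat.dvd_lcm_left _ _),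
        ((dvd_mul_right 2 _).trans hv).trans (Nat.dvd_lcm_left _ _)⟩

end Cfsg.Agent.S2512
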