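import Cfsg.Statements.S2513
import Cfsg.Agent.Spectrum.MatrixOrder

set_option autoImplicit false
open Cfsg

namespace Cfsg.Agent.S2513

open CfsgLib.MatOrder in
/-- In `GL_n(2)^k`, `k` large enough, the element orders are the divisors of the common exponent. -/
theorem range_orderOf_pi_gl_two {F : Type*} [Field F] [Fintype F] (hF : Fintype.card F = 2) {n k : ℕ}
    (hn : 2 ≤ n) (hk : (n + 3) / 2 ≤ k) :
    Set.range (orderOf : (Fin k → GL (Fin n) F) → ℕ) =
      {d | d ∣ semiExp 2 n * 2 ^ Nat.clog 2 n} := by
  classical
  have h2 : Fact (Nat.Prime 2) := ⟨Nat.prime_two⟩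
  have : CharP F 2 := (CharP.charP_iff_prime_eq_zero Nat.prime_two).mpr
    (by have h := Nat.cast_card_eq_zero F; rwa [hF] at h)
  ext d
  constructor
  · rintro ⟨x, rfl⟩
    refine orderOf_dvd_of_pow_eq_one (funext fun j => ?_)
    have h := gl_pow_exp_eq_one (p := 2) (Nat.le_pow_clog (by norm_num) n) (x j)
    rw [hF] at h
    exact h
  · intro hd
    -- orders realised slot by slot
    let e : ℕ → ℕ := fun j => if j < n - n / 2 then 2 ^ (n - j) - 1 else
      if j = n - n / 2 then 2 ^ Nat.clog 2 n else 1
    have hw : ∀ j : Fin k, ∃ g : GL (Fin n) F, orderOf g = e j := by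
      intro j
      simp only [e]
      split_ifs with h1 h1'
      · obtain ⟨g, hg⟩ := exists_gl_orderOf_singer F (i := n - (j : ℕ)) (by omega)
        obtain ⟨x, hx⟩ := exists_orderOf_gl_of_le (R := F) (n := n) (i := n - (j : ℕ)) (by omega) g
        exact ⟨x, by rw [hx, hg, hF]⟩
      · refine ⟨Matrix.SpecialLinearGroup.toGL (regUnipotent n), ?_⟩
        rw [orderOf_injective _ Matrix.SpecialLinearGroup.toGL_injective]
        exact orderOf_regUnipotent (by omega) (Nat.le_pow_clog (by norm_num) n)
          (Or.inr (Nat.pow_pred_clog_lt_self (by norm_num) (by omega)))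
      · exact ⟨1, orderOf_one⟩
    choose g hg using hw
    obtain ⟨x, hx⟩ := CfsgLib.Spectrum.exists_pi_orderOf (fun j : Fin k => e j) g
      (fun j => (hg j).symm.dvd)
    suffices hsuf : semiExp 2 n * 2 ^ Nat.clog 2 n ∣ orderOf x from
      CfsgLib.Spectrum.exists_orderOf_eq_of_dvd (orderOf_pos x) (hd.trans hsuf)
    rw [hx]
    have hslot : ∀ j : ℕ, j < k → e j ∣ Finset.univ.lcm (fun j : Fin k => e j) := fun j hj =>
      Finset.dvd_lcm (f := fun j : Fin k => e j) (Finset.mem_univ ⟨j, hj⟩)
    refine Nat.Coprime.mul_dvd_of_dvd_of_dvd ?_ ?_ ?_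
    · refine Nat.Coprime.pow_right _ ?_
      rw [Nat.coprime_two_right]
      have hodd : ∀ s : Finset ℕ, (∀ i ∈ s, 1 ≤ i) → Odd (s.lcm fun i => 2 ^ i - 1) := by
        intro s
        induction s using Finset.induction_on with
        | empty => simp
        | insert a s has ih =>
          intro hs
          rw [Finset.lcm_insert]
          refine Odd.of_dvd_nat (Odd.mul ?_ (ih fun i hi => hs i (Finset.mem_insert_of_mem hi)))
            (Nat.lcm_dvd_mul _ _)
          exact Nat.Even.sub_odd (Nat.one_le_pow _ _ (by norm_num))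
            (Nat.even_pow.mpr ⟨even_two, by have := hs a (Finset.mem_insert_self a s); omega⟩) odd_one
      exact hodd _ fun i hi => (Finset.mem_Icc.mp hi).1
    · refine Finset.lcm_dvd fun i hi => ?_
      rw [Finset.mem_Icc] at hi
      have key : ∀ d i : ℕ, n - i ≤ d → 1 ≤ i → i ≤ n →
          2 ^ i - 1 ∣ Finset.univ.lcm (fun j : Fin k => e j) := by
        intro d
        induction d with
        | zero =>
          intro i hd hi1 hi2
          have h := hslot (n - i) (by omega)
          simp only [e, if_pos (show n - i < n - n / 2 by omega),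
            show n - (n - i) = i by omega] at h
          exact h
        | succ d ih =>
          intro i hd hi1 hi2
          by_cases hbig : n / 2 < i
          · have h := hslot (n - i) (by omega)
            simp only [e, if_pos (show n - i < n - n / 2 by omega),
              show n - (n - i) = i by omega] at h
            exact h
          · exact (Nat.pow_sub_one_dvd_pow_sub_one 2 (dvd_mul_left i 2)).trans
              (ih (2 * i) (by omega) (by omega) (by omega))
      exact key n i (by omega) hi.1 hi.2
    · have h := hslot (n - n / 2) (by omega)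
      simpa [e] using h

/-- Let F be the field with two elements, n ≥ 2, L = PSL(n, F) and k₀ = ⌊(n + 3)/2⌋. Then for every k ≥ k₀ the direct product of k copies of L has the same set of element orders as the direct product of k₀ copies of L. -/
theorem result {F : Type*} [Field F] [Fintype F] (hF : Fintype.card F = 2) (n k : ℕ) (hn : 2 ≤ n) (hk : (n + 3) / 2 ≤ k) :
    Set.range (orderOf : (Fin k → Matrix.ProjectiveSpecialLinearGroup (Fin n) F) → ℕ) = Set.range (orderOf : (Fin ((n + 3) / 2) → Matrix.ProjectiveSpecialLinearGroup (Fin n) F) → ℕ) := by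
  classical
  have huniq : ∀ u : Fˣ, u = 1 := by
    have : Subsingleton Fˣ := by
      rw [← Fintype.card_le_one_iff_subsingleton, Fintype.card_units, hF]
    exact fun u => Subsingleton.elim u 1
  have hbij : Function.Bijective (Matrix.SpecialLinearGroup.toGL :
      Matrix.SpecialLinearGroup (Fin n) F →* GL (Fin n) F) := by
    refine ⟨Matrix.SpecialLinearGroup.toGL_injective, fun g => ⟨⟨g, ?_⟩, Units.ext rfl⟩⟩
    exact congrArg Units.val (huniq (Matrix.GeneralLinearGroup.det g))
  have hc : Subgroup.center (Matrix.SpecialLinearGroup (Fin n) F) = ⊥ := by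
    rw [eq_bot_iff]
    intro g hg
    rw [← Matrix.SpecialLinearGroup.toGL_mem_center_iff, Matrix.GeneralLinearGroup.center_eq_range_scalar] at hg
    obtain ⟨u, hu⟩ := hg
    rw [huniq u, map_one] at hu
    exact Subgroup.mem_bot.mpr (hbij.1 (hu.symm.trans (map_one _).symm))
  let e : Matrix.ProjectiveSpecialLinearGroup (Fin n) F ≃* GL (Fin n) F :=
    (QuotientGroup.quotientMulEquivOfEq hc).trans
      (QuotientGroup.quotientBot.trans (MulEquiv.ofBijective _ hbij))
  have h : ∀ j : ℕ, (n + 3) / 2 ≤ j →
      Set.range (orderOf : (Fin j → Matrix.ProjectiveSpecialLinearGroup (Fin n) F) → ℕ) =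
        {d | d ∣ CfsgLib.MatOrder.semiExp 2 n * 2 ^ Nat.clog 2 n} := fun j hj =>
    (CfsgLib.Spectrum.range_orderOf_congr (MulEquiv.piCongrRight fun _ : Fin j => e)).trans
      (range_orderOf_pi_gl_two hF hn hj)
  rw [h k hk, h _ le_rfl]

end Cfsg.Agent.S2513
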