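import Cfsg.Statements.S2514
import Cfsg.Agent.Spectrum.Basic

set_option autoImplicit false
open Cfsg

namespace Cfsg.Agent.S2514

/-- For a finite group X write μ(X) for the set of element orders of X that are maximal under divisibility. Let G and H be finite groups and k ≥ 1 such that μ(H) ⊆ μ(G) and μ(G) has fewer than k elements outside μ(H). Then the direct product of k copies of G has the same set of element orders as the direct product of k − 1 copies of G with H. -/
theorem result {G H : Type*} [Group G] [Finite G] [Group H] [Finite H] (k : ℕ) (hk : 1 ≤ k)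
    (hsub : {n : ℕ | n ∈ Set.range (orderOf : H → ℕ) ∧ ∀ m ∈ Set.range (orderOf : H → ℕ), n ∣ m → m = n} ⊆ {n : ℕ | n ∈ Set.range (orderOf : G → ℕ) ∧ ∀ m ∈ Set.range (orderOf : G → ℕ), n ∣ m → m = n})
    (hfew : ({n : ℕ | n ∈ Set.range (orderOf : G → ℕ) ∧ ∀ m ∈ Set.range (orderOf : G → ℕ), n ∣ m → m = n} \ {n : ℕ | n ∈ Set.range (orderOf : H → ℕ) ∧ ∀ m ∈ Set.range (orderOf : H → ℕ), n ∣ m → m = n}).ncard < k) :
    Set.range (orderOf : (Fin k → G) → ℕ) = Set.range (orderOf : (Fin (k - 1) → G) × H → ℕ) := by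
  obtain ⟨k, rfl⟩ : ∃ j, k = j + 1 := ⟨k - 1, by omega⟩
  rw [Nat.add_sub_cancel]
  ext n
  constructor
  · rintro ⟨x, rfl⟩
    classical
    choose m hm hdm using fun i => CfsgLib.Spectrum.exists_maximal_order (x i)
    -- it is enough to replace one coordinate by an element of `H`
    suffices h : ∃ (j : Fin (k + 1)) (y : Fin (k + 1) → G) (z : H),
        Finset.univ.lcm (fun i => orderOf (x i)) =
          Nat.lcm (orderOf (fun i => y (j.succAbove i))) (orderOf z) by
      obtain ⟨j, y, z, h⟩ := h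
      exact ⟨(fun i => y (j.succAbove i), z), by rw [Prod.orderOf_mk, ← h, Pi.orderOf]⟩
    have split : ∀ (j : Fin (k + 1)) (d : Fin (k + 1) → ℕ),
        Finset.univ.lcm d = Nat.lcm (Finset.univ.lcm fun i => d (j.succAbove i)) (d j) := by
      intro j d
      rw [Fin.univ_succAbove k j, Finset.cons_eq_insert, Finset.lcm_insert, Finset.map_eq_image, Finset.lcm_image]
      exact Nat.lcm_comm _ _
    by_cases hH : ∃ j, m j ∈ {n : ℕ | n ∈ Set.range (orderOf : H → ℕ) ∧
        ∀ m ∈ Set.range (orderOf : H → ℕ), n ∣ m → m = n}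
    · obtain ⟨j, ⟨z', hz'⟩, -⟩ := hH
      obtain ⟨z, hz⟩ := CfsgLib.Spectrum.exists_orderOf_eq_of_dvd (orderOf_pos z') (hz' ▸ hdm j)
      exact ⟨j, x, z, by rw [split j, Pi.orderOf, hz]⟩
    · push Not at hH
      obtain ⟨i, j, hij, hm_eq⟩ : ∃ i j, i ≠ j ∧ m i = m j := by
        by_contra hinj
        push Not at hinj
        have hfin : {n : ℕ | n ∈ Set.range (orderOf : G → ℕ) ∧
            ∀ m ∈ Set.range (orderOf : G → ℕ), n ∣ m → m = n}.Finite :=
          (Set.finite_range _).subset fun _ h => h.1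
        have h1 := Set.ncard_le_ncard_of_injOn m (s := Set.univ)
          (t := {n : ℕ | n ∈ Set.range (orderOf : G → ℕ) ∧ ∀ m ∈ Set.range (orderOf : G → ℕ), n ∣ m → m = n} \ {n : ℕ | n ∈ Set.range (orderOf : H → ℕ) ∧ ∀ m ∈ Set.range (orderOf : H → ℕ), n ∣ m → m = n})
          (fun i _ => ⟨hm i, hH i⟩) (fun a _ b _ hab => by
            by_contra h; exact hinj a b h hab) (hfin.sdiff)
        rw [Set.ncard_univ, Nat.card_eq_fintype_card, Fintype.card_fin] at h1
        omega
      obtain ⟨g, hg⟩ := (hm i).1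
      obtain ⟨w, hw⟩ := CfsgLib.Spectrum.exists_orderOf_eq_of_dvd (orderOf_pos g)
        (show Nat.lcm (orderOf (x i)) (orderOf (x j)) ∣ orderOf g from
          hg ▸ Nat.lcm_dvd (hdm i) (hm_eq ▸ hdm j))
      refine ⟨j, Function.update x i w, 1, ?_⟩
      rw [orderOf_one, Nat.lcm_one_right, Pi.orderOf]
      apply Nat.dvd_antisymm
      · refine Finset.lcm_dvd fun l _ => ?_
        obtain ⟨i', hi'⟩ := Fin.exists_succAbove_eq hij
        have hwd : orderOf w ∣
            Finset.univ.lcm fun a => orderOf (Function.update x i w (j.succAbove a)) := by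
          refine dvd_trans ?_ (Finset.dvd_lcm (Finset.mem_univ i'))
          simp [hi']
        by_cases hlj : l = j
        · subst hlj
          exact dvd_trans (hw ▸ Nat.dvd_lcm_right _ _) hwd
        by_cases hli : l = i
        · subst hli
          exact dvd_trans (hw ▸ Nat.dvd_lcm_left _ _) hwd
        obtain ⟨l', hl'⟩ := Fin.exists_succAbove_eq hlj
        refine dvd_trans ?_ (Finset.dvd_lcm (Finset.mem_univ l'))
        simp [hl', hli]
      · refine Finset.lcm_dvd fun a _ => ?_
        by_cases ha : j.succAbove a = i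
        · rw [ha, Function.update_self, hw]
          exact Nat.lcm_dvd (Finset.dvd_lcm (Finset.mem_univ i)) (Finset.dvd_lcm (Finset.mem_univ j))
        · rw [Function.update_of_ne ha]
          exact Finset.dvd_lcm (Finset.mem_univ (j.succAbove a))
  · rintro ⟨⟨x, z⟩, rfl⟩
    obtain ⟨m, hm, hdm⟩ := CfsgLib.Spectrum.exists_maximal_order z
    obtain ⟨g, hg⟩ := (hsub hm).1
    obtain ⟨y, hy⟩ := CfsgLib.Spectrum.exists_orderOf_eq_of_dvd (orderOf_pos g) (hg ▸ hdm)
    refine ⟨Fin.cons y x, ?_⟩
    rw [Prod.orderOf_mk, Pi.orderOf, Pi.orderOf, Fin.univ_succ, Finset.cons_eq_insert, Finset.lcm_insert, Finset.map_eq_image,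
      Finset.lcm_image, Fin.cons_zero, hy]
    exact Nat.lcm_comm _ _

end Cfsg.Agent.S2514
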