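import Cfsg.Statements.S2515
import Cfsg.Agent.GLElem.TwistedTensor
import Mathlib

set_option autoImplicit false
open Cfsg

namespace Cfsg.Agent.S2515

/-- Let q = 3^α with α ≥ 3 odd. There is a finite group H having a non-trivial normal 3-subgroup and whose element orders maximal under divisibility are exactly 6, 9, q − 1 and (q + 1)/2. -/
theorem result (α : ℕ) (hα : 3 ≤ α) (hodd : Odd α) :
    ∃ (H : Type) (_ : Group H) (_ : Fintype H), (∃ P : Subgroup H, P.Normal ∧ P ≠ ⊥ ∧ IsPGroup 3 ↥P) ∧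
      {n : ℕ | n ∈ Set.range (orderOf : H → ℕ) ∧ ∀ m ∈ Set.range (orderOf : H → ℕ), n ∣ m → m = n} = ({6, 9, 3 ^ α - 1, (3 ^ α + 1) / 2} : Set ℕ) := by
  classical
  open CfsgLib.TwistedTensor in
  haveI : Fact (Nat.Prime 3) := ⟨Nat.prime_three⟩
  let F := GaloisField 3 α
  haveI : Fintype F := Fintype.ofFinite F
  have hcard : Fintype.card F = 3 ^ α := by
    rw [← Nat.card_eq_fintype_card]; exact GaloisField.card 3 α (by omega)
  obtain ⟨Q, hQ⟩ : ∃ Q, Q = 3 ^ α := ⟨_, rfl⟩
  have hQ27 : 27 ≤ Q := by rw [hQ]; exact (Nat.pow_le_pow_right (by norm_num) hα : 3 ^ 3 ≤ 3 ^ α)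
  have hQ8 : Q % 8 = 3 := by
    obtain ⟨j, rfl⟩ := hodd
    rw [hQ, pow_succ, pow_mul, Nat.mul_mod, Nat.pow_mod]; norm_num
  have hQ3 : Q % 3 = 0 := by
    rw [hQ]; exact Nat.mod_eq_zero_of_dvd (dvd_pow_self 3 (by omega)) |> id
  have hneg : ∀ x : F, x ^ 2 ≠ -1 := fun x h => by
    have : IsSquare (-1 : F) := ⟨x, by rw [← h, pow_two]⟩
    rw [FiniteField.isSquare_neg_one_iff, hcard, ← hQ] at this
    omega
  let PS := Matrix.ProjectiveSpecialLinearGroup (Fin 2) F
  let H := Multiplicative (Matrix (Fin 2) (Fin 2) F) ⋊[act] (PS × ℤˣ)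
  haveI : Finite H := Finite.of_equiv _ SemidirectProduct.equivProd.symm
  refine ⟨H, inferInstance, Fintype.ofFinite H, ⟨(SemidirectProduct.inl : _ →* H).range, ?_, ?_, ?_⟩, ?_⟩
  · rw [SemidirectProduct.range_inl_eq_ker_rightHom]; exact MonoidHom.normal_ker _
  · intro h
    have h1 : (SemidirectProduct.inl (Multiplicative.ofAdd (1 : Matrix (Fin 2) (Fin 2) F)) : H) = 1 :=
      Subgroup.mem_bot.mp (h ▸ ⟨_, rfl⟩)
    have h2 := SemidirectProduct.inl_injective (h1.trans (map_one SemidirectProduct.inl).symm)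
    exact one_ne_zero (α := Matrix (Fin 2) (Fin 2) F) (congrArg Multiplicative.toAdd h2)
  · rintro ⟨_, X, rfl⟩
    refine ⟨1, Subtype.ext ?_⟩
    show (SemidirectProduct.inl X : H) ^ 3 ^ 1 = 1
    have h3 : (3 : F) = 0 := by exact_mod_cast CharP.cast_eq_zero F 3
    have e : X ^ (3 ^ 1) = 1 := by
      apply Multiplicative.toAdd.injective
      rw [toAdd_pow, toAdd_one]
      ext i j
      simp [h3]
    rw [← map_pow, e, map_one]
  -- orders in `PSL₂ × 2`
  have hKdvd : ∀ k : PS × ℤˣ, orderOf k ∣ 6 ∨ orderOf k ∣ Q - 1 ∨ orderOf k ∣ (Q + 1) / 2 := by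
    intro k
    have hu : orderOf k.2 ∣ 2 := orderOf_dvd_of_pow_eq_one (by rw [pow_two, Int.units_mul_self])
    have hg := CfsgLib.PSL2Spec.orderOf_dvd (F := F) 3 k.1
    rw [hcard, ← hQ, Nat.gcd_eq_left (show 2 ∣ Q - 1 by omega)] at hg
    rw [Prod.orderOf]
    rcases hg with h | h | h
    · exact Or.inl (Nat.lcm_dvd (h.trans (by norm_num)) (hu.trans (by norm_num)))
    · refine Or.inr (Or.inl (Nat.lcm_dvd (h.trans ?_) (hu.trans (by omega))))
      exact Nat.div_dvd_of_dvd (by omega)
    · exact Or.inr (Or.inr (Nat.lcm_dvd h (hu.trans (by omega))))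
  have hfix : ∀ (k : PS × ℤˣ) (w : Multiplicative (Matrix (Fin 2) (Fin 2) F)), act k w = w → w ≠ 1 →
      k ^ 2 = 1 ∨ k ^ 3 = 1 := by
    rintro ⟨gb, u⟩ w hw hw1
    obtain ⟨g, rfl⟩ := QuotientGroup.mk_surjective gb
    have hw' : conjMap g.1 ((u : ℤ) • w.toAdd) = w.toAdd :=
      congrArg Multiplicative.toAdd ((act_apply g u w.toAdd).symm.trans hw)
    have hX : w.toAdd ≠ 0 := fun e => hw1 (Multiplicative.toAdd.injective e)
    have hCH := cayley_hamilton g.1 g.2
    rcases trace_of_fixed hneg g u hX hw' with ht | ⟨rfl, ht⟩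
    · left
      refine Prod.ext ?_ (by rw [Prod.pow_snd, pow_two, Int.units_mul_self, Prod.snd_one])
      rw [Prod.pow_fst, Prod.fst_one, ← QuotientGroup.mk_pow, CfsgLib.PSL2Spec.mk_eq_one_iff]
      exact ⟨-1, by rw [Matrix.SpecialLinearGroup.coe_pow, pow_two, hCH, ht]; simp⟩
    · right
      refine Prod.ext ?_ (by rw [Prod.pow_snd, one_pow, Prod.snd_one])
      rw [Prod.pow_fst, Prod.fst_one, ← QuotientGroup.mk_pow, CfsgLib.PSL2Spec.mk_eq_one_iff]
      refine ⟨-g.1.trace, ?_⟩
      rw [Matrix.SpecialLinearGroup.coe_pow, pow_succ, pow_two, hCH, Matrix.sub_mul, Matrix.smul_mul,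
        hCH, Matrix.one_mul, smul_sub, smul_smul, ← pow_two, ht, one_smul, sub_right_comm, sub_self,
        zero_sub, neg_smul]
  have hdvd : ∀ x : H, orderOf x ∣ 6 ∨ orderOf x ∣ 9 ∨ orderOf x ∣ Q - 1 ∨ orderOf x ∣ (Q + 1) / 2 := by
    intro x
    set n := orderOf x.right with hn
    have hr : (x ^ n).right = 1 := by
      rw [show (x ^ n).right = SemidirectProduct.rightHom (x ^ n) from rfl, map_pow]
      exact pow_orderOf_eq_one _
    by_cases hw : (x ^ n).left = 1
    · have h1 : x ^ n = 1 := SemidirectProduct.ext hw hr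
      have hd := orderOf_dvd_of_pow_eq_one h1
      rcases hKdvd x.right with h | h | h
      · exact Or.inl (hd.trans h)
      · exact Or.inr (Or.inr (Or.inl (hd.trans h)))
      · exact Or.inr (Or.inr (Or.inr (hd.trans h)))
    · have hc : x * x ^ n = x ^ n * x := (Commute.refl x).pow_right n
      have hl := congrArg SemidirectProduct.left hc
      rw [SemidirectProduct.mul_left, SemidirectProduct.mul_left, hr, map_one, MulAut.one_apply,
        mul_comm (x ^ n).left] at hl
      have h3n : x ^ (n * 3) = 1 := by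
        have e : x ^ n = SemidirectProduct.inl (x ^ n).left :=
          SemidirectProduct.ext (by simp) (by simp [hr])
        have h3 : (3 : F) = 0 := by exact_mod_cast CharP.cast_eq_zero F 3
        rw [pow_mul, e, ← map_pow]
        have : (x ^ n).left ^ 3 = 1 := by
          apply Multiplicative.toAdd.injective
          rw [toAdd_pow, toAdd_one]
          ext i j
          simp [h3]
        rw [this, map_one]
      have hd := orderOf_dvd_of_pow_eq_one h3n
      rcases hfix _ _ (mul_left_cancel hl) hw with h | h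
      · exact Or.inl (hd.trans (Nat.mul_dvd_mul_right (orderOf_dvd_of_pow_eq_one h) 3))
      · exact Or.inr (Or.inl (hd.trans (Nat.mul_dvd_mul_right (orderOf_dvd_of_pow_eq_one h) 3)))
  have hK : ∀ k : PS × ℤˣ, orderOf k ∈ Set.range (orderOf : H → ℕ) := fun k =>
    ⟨SemidirectProduct.inr k, orderOf_injective _ SemidirectProduct.inr_injective k⟩
  have hm1 : orderOf (-1 : ℤˣ) = 2 := orderOf_eq_prime (by decide) (by decide)
  have h6 : 6 ∈ Set.range (orderOf : H → ℕ) := by
    obtain ⟨g, hg⟩ := CfsgLib.PSL2Spec.exists_orderOf_p (F := F) 3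
    have h := hK (g, -1)
    rw [Prod.orderOf, hg, hm1] at h
    exact h
  have hq1 : Q - 1 ∈ Set.range (orderOf : H → ℕ) := by
    obtain ⟨g, hg⟩ := CfsgLib.PSL2Spec.exists_orderOf_minus (F := F)
    rw [hcard, ← hQ, Nat.gcd_eq_left (show 2 ∣ Q - 1 by omega)] at hg
    have h := hK (g, -1)
    rw [Prod.orderOf, hg, hm1, Nat.Coprime.lcm_eq_mul
      ((Nat.coprime_two_right.mpr (Nat.odd_iff.mpr (by omega)))), Nat.div_mul_cancel (by omega)] at h
    exact h
  have hq2 : (Q + 1) / 2 ∈ Set.range (orderOf : H → ℕ) := by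
    obtain ⟨g, hg⟩ := CfsgLib.PSL2Spec.exists_orderOf_plus (F := F) 3
    rw [hcard, ← hQ, Nat.gcd_eq_left (show 2 ∣ Q - 1 by omega)] at hg
    have h := hK (g, 1)
    rw [Prod.orderOf, hg, orderOf_one, Nat.lcm_one_right] at h
    exact h
  have h9 : 9 ∈ Set.range (orderOf : H → ℕ) := by
    let g : Matrix.SpecialLinearGroup (Fin 2) F := ⟨!![1, 1; 0, 1], by simp [Matrix.det_fin_two_of]⟩
    let X : Matrix (Fin 2) (Fin 2) F := !![0, 0; 0, 1]
    let k : PS × ℤˣ := (QuotientGroup.mk g, 1)
    have h3 : (3 : F) = 0 := by exact_mod_cast CharP.cast_eq_zero F 3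
    have hk3 : k ^ 3 = 1 := by
      refine Prod.ext ?_ (one_pow 3)
      show (QuotientGroup.mk g : PS) ^ 3 = 1
      rw [← QuotientGroup.mk_pow, CfsgLib.PSL2Spec.mk_eq_one_iff]
      refine ⟨1, ?_⟩
      rw [Matrix.SpecialLinearGroup.coe_pow]
      ext i j
      fin_cases i <;> fin_cases j <;>
        simp [g, pow_succ, Matrix.mul_apply, Fin.sum_univ_two]
      linear_combination h3
    let x : H := ⟨Multiplicative.ofAdd X, k⟩
    have hx3r : (x ^ 3).right = 1 := by
      rw [show (x ^ 3).right = SemidirectProduct.rightHom (x ^ 3) from rfl, map_pow]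
      exact hk3
    have hx9 : x ^ 9 = 1 := by
      have e : x ^ 3 = SemidirectProduct.inl (x ^ 3).left :=
        SemidirectProduct.ext (by simp) (by simp [hx3r])
      rw [show 9 = 3 * 3 from rfl, pow_mul, e, ← map_pow]
      have : (x ^ 3).left ^ 3 = 1 := by
        apply Multiplicative.toAdd.injective
        rw [toAdd_pow, toAdd_one]
        ext i j
        simp [h3]
      rw [this, map_one]
    have hne : x ^ 3 ≠ 1 := by
      intro h
      have hl := congrArg (fun y : H => (Multiplicative.toAdd y.left) 0 0) h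
      have ek : act k (Multiplicative.ofAdd X) = Multiplicative.ofAdd (conjMap g.1 X) := by
        rw [show k = (QuotientGroup.mk g, 1) from rfl, act_apply]; simp
      have ekk : act (k * k) (Multiplicative.ofAdd X) =
          Multiplicative.ofAdd (conjMap g.1 (conjMap g.1 X)) := by
        rw [map_mul, MulAut.mul_apply, ek, show k = (QuotientGroup.mk g, 1) from rfl, act_apply]
        simp
      have e3 : (x ^ 3).left = Multiplicative.ofAdd X * act k (Multiplicative.ofAdd X) *
          act (k * k) (Multiplicative.ofAdd X) := by rw [pow_succ, pow_two]; rfl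
      replace hl : (Multiplicative.toAdd (Multiplicative.ofAdd X * act k (Multiplicative.ofAdd X) *
          act (k * k) (Multiplicative.ofAdd X))) 0 0 = 0 := by
        rw [← e3, h]; rfl
      rw [ek, ekk, toAdd_mul, toAdd_mul, toAdd_ofAdd, toAdd_ofAdd, toAdd_ofAdd] at hl
      have hcm : ∀ Y : Matrix (Fin 2) (Fin 2) F, conjMap g.1 Y =
          !![Y 0 0 + Y 0 1 + Y 1 0 + Y 1 1, Y 0 1 + Y 1 1; Y 1 0 + Y 1 1, Y 1 1] := fun Y => by
        ext i j
        fin_cases i <;> fin_cases j <;>
          simp [g, conjMap, sig_apply, Matrix.mul_apply, Fin.sum_univ_two, Matrix.transpose_apply,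
            Matrix.map_apply, Matrix.vecMul, dotProduct, add_assoc, add_left_comm, add_comm]
      rw [hcm, hcm] at hl
      simp [X] at hl
      apply (one_ne_zero : (1 : F) ≠ 0)
      linear_combination -hl + 2 * h3
    refine ⟨x, orderOf_eq_prime_pow (p := 3) (n := 1) (by simpa using hne) (by simpa using hx9)⟩
  -- the maximal orders
  ext n
  simp only [Set.mem_setOf_eq, Set.mem_insert_iff, Set.mem_singleton_iff, ← hQ]
  constructor
  · rintro ⟨⟨x, rfl⟩, hmax⟩
    rcases hdvd x with h | h | h | h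
    · exact Or.inl (hmax _ h6 h).symm
    · exact Or.inr (Or.inl (hmax _ h9 h).symm)
    · exact Or.inr (Or.inr (Or.inl (hmax _ hq1 h).symm))
    · exact Or.inr (Or.inr (Or.inr (hmax _ hq2 h).symm))
  · intro hnS
    have hmem : n ∈ Set.range (orderOf : H → ℕ) := by
      rcases hnS with rfl | rfl | rfl | rfl
      exacts [h6, h9, hq1, hq2]
    refine ⟨hmem, fun m hm hnm => ?_⟩
    obtain ⟨x, rfl⟩ := hm
    refine Nat.dvd_antisymm ?_ hnm
    have h3Q : ¬ 3 ∣ Q - 1 ∧ ¬ 3 ∣ (Q + 1) / 2 := ⟨by omega, by omega⟩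
    have hsmall : ∀ a b : ℕ, a ∣ b → 0 < b → a ≤ b := fun a b h hb => Nat.le_of_dvd hb h
    have hnot : ¬ (Q + 1) / 2 ∣ Q - 1 := by
      intro h
      have h2 : (Q + 1) / 2 ∣ 2 := by
        have := Nat.dvd_sub (dvd_mul_left ((Q + 1) / 2) 2) h
        rwa [show 2 * ((Q + 1) / 2) - (Q - 1) = 2 by omega] at this
      have := hsmall _ _ h2 (by norm_num)
      omega
    rcases hdvd x with h | h | h | h
    all_goals
      have hn := hnm.trans h
      rcases hnS with rfl | rfl | rfl | rfl
    all_goals first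
      | exact h
      | (norm_num at hn; done)
      | exact absurd ((show 3 ∣ 6 by norm_num).trans hn) h3Q.1
      | exact absurd ((show 3 ∣ 6 by norm_num).trans hn) h3Q.2
      | exact absurd ((show 3 ∣ 9 by norm_num).trans hn) h3Q.1
      | exact absurd ((show 3 ∣ 9 by norm_num).trans hn) h3Q.2
      | exact absurd hn hnot
      | (have := hsmall _ _ hn (by omega); omega)

end Cfsg.Agent.S2515
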