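import Cfsg.Statements.S2516


set_option autoImplicit false
open Cfsg

namespace Cfsg.Agent.S2516

/-- Let F be a field of characteristic p > 0, V a non-zero finite-dimensional F-vector space, G a finite group and ρ a representation of G on V; form the semidirect product V ⋊ G. For g ∈ G of order k, the coset Vg contains an element of order pk if and only if the minimal polynomial of ρ(g) does not divide 1 + X + ⋯ + X^(k−1). -/
theorem result {F : Type*} [Field F] (p : ℕ) [Fact p.Prime] [CharP F p] {V : Type*} [AddCommGroup V] [Module F V] [FiniteDimensional F V] [Nontrivial V]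
    {G : Type*} [Group G] [Finite G] (ρ : Representation F G V) (g : G) :
    (∃ x : Multiplicative V ⋊[(MulAutMultiplicative V).symm.toMonoidHom.comp
        ((DistribMulAction.toAddAut ((V →ₗ[F] V)ˣ) V).comp ρ.asGroupHom)] G,
        x.right = g ∧ orderOf x = p * orderOf g) ↔
      ¬ (minpoly F (ρ g) ∣ ∑ i ∈ Finset.range (orderOf g), (Polynomial.X : Polynomial F) ^ i) := by
  set φ := (MulAutMultiplicative V).symm.toMonoidHom.comp
        ((DistribMulAction.toAddAut ((V →ₗ[F] V)ˣ) V).comp ρ.asGroupHom) with hφ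
  have hp : p.Prime := Fact.out
  have hg : 0 < orderOf g := orderOf_pos g
  set S : V →ₗ[F] V := ∑ i ∈ Finset.range (orderOf g), (ρ g) ^ i with hS
  have hdvd : minpoly F (ρ g) ∣ ∑ i ∈ Finset.range (orderOf g), (Polynomial.X : Polynomial F) ^ i ↔ S = 0 := by
    rw [minpoly.dvd_iff]
    simp [hS, map_sum]
  rw [hdvd]
  have hpow : ∀ (v : V) (j : ℕ), (SemidirectProduct.mk (Multiplicative.ofAdd v) g : Multiplicative V ⋊[φ] G) ^ j
      = ⟨Multiplicative.ofAdd ((∑ i ∈ Finset.range j, (ρ g) ^ i) v), g ^ j⟩ := by
    intro v j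
    induction j with
    | zero => exact SemidirectProduct.ext (by simp) (by simp)
    | succ j ih =>
      rw [pow_succ, ih]
      refine SemidirectProduct.ext ?_ (by rw [SemidirectProduct.mul_right]; exact (pow_succ g j).symm)
      rw [SemidirectProduct.mul_left]
      show Multiplicative.ofAdd ((∑ i ∈ Finset.range j, (ρ g) ^ i) v) * φ (g ^ j) (Multiplicative.ofAdd v) = _
      have : φ (g ^ j) (Multiplicative.ofAdd v) = Multiplicative.ofAdd ((ρ g ^ j) v) := by
        rw [← map_pow ρ g j]; rfl
      rw [this, Finset.sum_range_succ, LinearMap.add_apply]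
      rfl
  have hchar : ∀ v : V, p • v = 0 := fun v => by
    rw [← Nat.cast_smul_eq_nsmul F, CharP.cast_eq_zero, zero_smul]
  constructor
  · rintro ⟨⟨v, g'⟩, rfl, hx⟩ hS0
    obtain ⟨v, rfl⟩ := Multiplicative.ofAdd.surjective v
    have h1 := hpow v (orderOf g')
    rw [← hS, hS0, pow_orderOf_eq_one] at h1
    have h2 : orderOf (SemidirectProduct.mk (Multiplicative.ofAdd v) g' : Multiplicative V ⋊[φ] G) ∣ orderOf g' :=
      orderOf_dvd_of_pow_eq_one (by rw [h1]; exact SemidirectProduct.ext (by simp) (by simp))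
    rw [hx] at h2
    have := Nat.le_of_dvd hg h2
    have := hp.two_le
    nlinarith
  · intro hS0
    obtain ⟨v, hv⟩ : ∃ v, S v ≠ 0 := by
      by_contra h
      push Not at h
      exact hS0 (LinearMap.ext h)
    refine ⟨⟨Multiplicative.ofAdd v, g⟩, rfl, ?_⟩
    set x : Multiplicative V ⋊[φ] G := ⟨Multiplicative.ofAdd v, g⟩ with hxdef
    have hxk : x ^ orderOf g = SemidirectProduct.inl (Multiplicative.ofAdd (S v)) := by
      rw [hxdef, hpow, pow_orderOf_eq_one]
      rfl
    have hord : orderOf (x ^ orderOf g) = p := by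
      rw [hxk, orderOf_injective _ SemidirectProduct.inl_injective]
      exact orderOf_eq_prime (by rw [← ofAdd_nsmul, hchar]; rfl)
        (fun h => hv (by simpa using congrArg Multiplicative.toAdd h))
    have hdx : orderOf g ∣ orderOf x := orderOf_map_dvd (SemidirectProduct.rightHom : Multiplicative V ⋊[φ] G →* G) x
    rw [orderOf_pow_of_dvd hg.ne' hdx] at hord
    rw [← hord, Nat.div_mul_cancel hdx]

end Cfsg.Agent.S2516
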