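import Cfsg.Statements.S2518
import Cfsg.Agent.Chev.EllipticData
import Cfsg.Agent.Chev.InvolStatements
import Cfsg.Agent.PrimeGraph.PSL2Spectrum

set_option autoImplicit false
open Cfsg
open scoped Pointwise

namespace Cfsg.Agent.S2518

theorem not_prime_dvd {r s p : ℕ} (hp : p.Prime) (hr : r.Prime) (hs : s.Prime) : ¬ r * s ∣ p := by
  intro h
  rcases hp.eq_one_or_self_of_dvd _ h with e | e
  · exact hr.one_lt.ne' (Nat.eq_one_of_mul_eq_one_right e)
  · exact Nat.not_prime_mul hr.one_lt.ne' hs.one_lt.ne' (e ▸ hp)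

/-- A self-centralising cyclic subgroup of prime order equal to the `r`-part isolates `r`. -/
theorem isolated {G : Type*} [Group G] [Finite G] {r s : ℕ} [Fact r.Prime] (hs : s.Prime)
    (hrs : r ≠ s) (h1 : (Nat.card G).factorization r = 1) (H : Subgroup G) (hH : Nat.card H = r)
    (hc : Subgroup.centralizer (H : Set G) = H) : ¬ ∃ x : G, orderOf x = r * s := by
  rintro ⟨x, hx⟩
  have hr : r.Prime := Fact.out
  have hy : orderOf (x ^ s) = r := by
    rw [orderOf_pow_of_dvd hs.ne_zero (hx ▸ dvd_mul_left s r), hx, Nat.mul_div_cancel _ hs.pos]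
  let P : Sylow r G := Sylow.ofCard H (by rw [h1, pow_one, hH])
  let Q : Sylow r G := Sylow.ofCard (Subgroup.zpowers (x ^ s))
    (by rw [h1, pow_one, Nat.card_zpowers, hy])
  obtain ⟨k, hk⟩ := MulAction.exists_smul_eq G P Q
  have hQ : (MulAut.conj k • H : Subgroup G) = Subgroup.zpowers (x ^ s) :=
    congrArg (fun S : Sylow r G => (S : Subgroup G)) hk
  have hmem : k⁻¹ * x * k ∈ Subgroup.centralizer (H : Set G) := by
    refine Subgroup.mem_centralizer_iff.mpr fun h hh => ?_
    have : MulAut.conj k h ∈ Subgroup.zpowers (x ^ s) := hQ ▸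
      Subgroup.smul_mem_pointwise_smul h (MulAut.conj k) H hh
    obtain ⟨n, hn⟩ := this
    have hcom : Commute x (MulAut.conj k h) := by
      rw [← hn]; exact ((Commute.refl x).pow_right s).zpow_right n
    have e := hcom.eq
    rw [MulAut.conj_apply] at e
    calc h * (k⁻¹ * x * k) = k⁻¹ * (k * h * k⁻¹ * x) * k := by group
      _ = k⁻¹ * (x * (k * h * k⁻¹)) * k := by rw [e]
      _ = k⁻¹ * x * k * h := by group
  rw [hc] at hmem
  have h2 : orderOf (k⁻¹ * x * k) ∣ r := hH ▸ Subgroup.orderOf_dvd_natCard _ hmem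
  have h3 : orderOf (k⁻¹ * x * k) = orderOf x := by
    have := MulEquiv.orderOf_eq (MulAut.conj k⁻¹) x
    simpa using this
  rw [h3, hx] at h2
  exact hs.one_lt.ne' (Nat.eq_one_of_dvd_one (Nat.dvd_of_mul_dvd_mul_left hr.pos (by simpa using h2)))


/-- Let F₃ be the field with 3 elements and F₁₃ the field with 13 elements. The Chevalley group G₂(F₃) and PSL(2, F₁₃) have the same prime graph: the same prime divisors of their orders, and for distinct primes r, s an element of order rs in one iff in the other. -/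
theorem result {F : Type*} [Field F] [Fintype F] (hF : Fintype.card F = 3) {E : Type*} [Field E] [Fintype E] (hE : Fintype.card E = 13) :
    ((∀ r : ℕ, r.Prime → (r ∣ Nat.card ↥(Cfsg.Lie.chevG2.group F) ↔ r ∣ Nat.card (Matrix.ProjectiveSpecialLinearGroup (Fin 2) E))) ∧
      (∀ r s : ℕ, r.Prime → s.Prime → r ≠ s → ((∃ x : ↥(Cfsg.Lie.chevG2.group F), orderOf x = r * s) ↔ (∃ y : (Matrix.ProjectiveSpecialLinearGroup (Fin 2) E), orderOf y = r * s)))) := by
  open CfsgLib.Chev CfsgLib.Chev.InvolData in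
  have hcG := Cfsg.Agent.S1059.result (F := F) hF
  have hcn : Nat.card ↥(Cfsg.Lie.chevG2.group F) = 4245696 := by rw [hcG]; norm_num
  have : Fact (Nat.Prime 7) := ⟨by norm_num⟩
  have : Fact (Nat.Prime 13) := ⟨by norm_num⟩
  obtain ⟨n, hp, hn⟩ := FiniteField.card E (ringChar E)
  have hp13 : ringChar E = 13 := by
    rw [hE] at hn
    exact (Nat.prime_dvd_prime_iff_eq hp (by norm_num)).mp (hn ▸ dvd_pow_self _ n.ne_zero)
  have : CharP E 13 := hp13 ▸ ringChar.charP E
  have hspec := CfsgLib.PSL2Spec.spectrum (F := E) 13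
  rw [hE, show Nat.gcd 2 (13 - 1) = 2 from rfl, show (13 - 1) / 2 = 6 from rfl,
    show (13 + 1) / 2 = 7 from rfl] at hspec
  have hmem : ∀ m : ℕ, (∃ y : Matrix.ProjectiveSpecialLinearGroup (Fin 2) E, orderOf y = m) ↔
      (m ∣ 13 ∨ m ∣ 6 ∨ m ∣ 7) := fun m => by
    change m ∈ Set.range (orderOf : Matrix.ProjectiveSpecialLinearGroup (Fin 2) E → ℕ) ↔ _
    rw [hspec]; rfl
  have hdiv : ∀ r : ℕ, r.Prime → r ∣ Nat.card ↥(Cfsg.Lie.chevG2.group F) →
      r = 2 ∨ r = 3 ∨ r = 7 ∨ r = 13 := fun r hr h => by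
    rw [hcn, show 4245696 = 2 ^ 6 * 3 ^ 6 * 7 * 13 by norm_num] at h
    rcases hr.dvd_mul.mp h with h | h
    · rcases hr.dvd_mul.mp h with h | h
      · rcases hr.dvd_mul.mp h with h | h
        · exact Or.inl ((Nat.prime_dvd_prime_iff_eq hr Nat.prime_two).mp (hr.dvd_of_dvd_pow h))
        · exact Or.inr (Or.inl
            ((Nat.prime_dvd_prime_iff_eq hr Nat.prime_three).mp (hr.dvd_of_dvd_pow h)))
      · exact Or.inr (Or.inr (Or.inl ((Nat.prime_dvd_prime_iff_eq hr (by norm_num)).mp h)))
    · exact Or.inr (Or.inr (Or.inr ((Nat.prime_dvd_prime_iff_eq hr (by norm_num)).mp h)))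
  refine ⟨fun r hr => ?_, fun r s hr hs hrs => ?_⟩
  · rw [CfsgLib.PSL2Spec.prime_dvd_card_iff (Matrix.ProjectiveSpecialLinearGroup (Fin 2) E) hr]
    constructor
    · intro h
      refine (hmem r).mpr ?_
      rcases hdiv r hr h with rfl | rfl | rfl | rfl <;> norm_num
    · rintro h
      rw [hcn]
      rcases (hmem r).mp h with h | h | h <;> exact h.trans (by norm_num)
  have h7 : ∀ t : ℕ, t.Prime → 7 ≠ t →
      ¬ ∃ x : ↥(Cfsg.Lie.chevG2.group F), orderOf x = 7 * t := by
    intro t ht h7t
    have ev : (Polynomial.cyclotomic 6 ℤ).eval (3 : ℤ) = 7 := by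
      rw [Polynomial.cyclotomic_six]; norm_num
    open CfsgLib.Chev in
    obtain ⟨H, -, h2, h3⟩ := EllipticData.elliptic_of (F := F) good_G2 InvolData.scG2 (d := 6)
      (n := 7) hF (by norm_num) (by decide +kernel) (by exact_mod_cast ev) (by norm_num)
      (fun l hl hd h => by
        have := Nat.le_of_dvd (by norm_num) h
        have := hl.two_le
        have : l ≤ 2 := by nlinarith
        interval_cases l; norm_num at h)
      G2Data.levels_ok (fun r hr h hd => by
        rw [show (G2Data.levels.map fun l => l.2.2.length).prod = 2 ^ 2 * 3 by decide +kernel] at hd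
        have : r ≤ 3 := by
          rcases hr.dvd_mul.mp hd with h | h
          · exact le_trans (Nat.le_of_dvd (by norm_num) (hr.dvd_of_dvd_pow h)) (by norm_num)
          · exact Nat.le_of_dvd (by norm_num) h
        have := hr.two_le
        interval_cases r <;> revert h <;> decide)
      (by rw [hcn]; norm_num)
    refine isolated ht h7t ?_ H h2 h3
    rw [hcn, show 4245696 = 7 * 606528 by norm_num, Nat.factorization_mul (by norm_num) (by norm_num),
      Finsupp.add_apply, Nat.Prime.factorization_self (by norm_num),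
      Nat.factorization_eq_zero_of_not_dvd (by norm_num)]
  have h13 : ∀ t : ℕ, t.Prime → 13 ≠ t →
      ¬ ∃ x : ↥(Cfsg.Lie.chevG2.group F), orderOf x = 13 * t := by
    intro t ht h13t
    obtain ⟨H, -, h2, h3⟩ := CfsgLib.Chev.EllipticData.g2 (F := F) 3 hF le_rfl
    refine isolated ht h13t ?_ H (h2.trans (by norm_num)) h3
    rw [hcn, show 4245696 = 13 * 326592 by norm_num, Nat.factorization_mul (by norm_num) (by norm_num),
      Finsupp.add_apply, Nat.Prime.factorization_self (by norm_num),
      Nat.factorization_eq_zero_of_not_dvd (by norm_num)]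
  -- an element of order six
  open CfsgLib.Chev CfsgLib.Chev.InvolData in
  have h6 : ∃ x : ↥(Cfsg.Lie.chevG2.group F), orderOf x = 6 := by
    have hodd : Odd (Fintype.card F) := by rw [hF]; decide
    have h2 := two_ne_zero_of_odd hodd
    set t := good_G2.bitInv F 1
    have hot : orderOf t = 2 := good_G2.orderOf_bitInv h2 scG2 (by decide) (by decide)
    have hcard := good_G2.card_bitInv (F := F) h2 scG2 cmaskG2 fastG2 countG2 numG2
    simp only [List.map_cons, List.map_nil, List.prod_cons, List.prod_nil, hF] at hcard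
    haveI : Fact (Nat.Prime 3) := ⟨Nat.prime_three⟩
    obtain ⟨y, hy⟩ := exists_prime_orderOf_dvd_card' (G := Subgroup.centralizer ({t} : Set _)) 3
      (by rw [hcard]; norm_num)
    refine ⟨t * y, ?_⟩
    have hc : Commute t (y : ↥(Cfsg.Lie.chevG2.group F)) :=
      Subgroup.mem_centralizer_iff.mp y.2 t rfl
    rw [hc.orderOf_mul_eq_mul_orderOf_of_coprime (by rw [hot, Subgroup.orderOf_coe, hy]; decide),
      hot, Subgroup.orderOf_coe, hy]
  constructor
  · rintro ⟨x, hx⟩
    refine (hmem _).mpr ?_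
    have hr' := hdiv r hr ((dvd_mul_right r s).trans (hx ▸ orderOf_dvd_natCard x))
    have hs' := hdiv s hs ((dvd_mul_left s r).trans (hx ▸ orderOf_dvd_natCard x))
    rcases hr' with rfl | rfl | rfl | rfl
    case inr.inr.inl => exact absurd ⟨x, hx⟩ (h7 s hs hrs)
    case inr.inr.inr => exact absurd ⟨x, hx⟩ (h13 s hs hrs)
    all_goals
      rcases hs' with rfl | rfl | rfl | rfl
      case inr.inr.inl => exact absurd ⟨x, hx.trans (mul_comm _ _)⟩ (h7 _ hr hrs.symm)
      case inr.inr.inr => exact absurd ⟨x, hx.trans (mul_comm _ _)⟩ (h13 _ hr hrs.symm)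
      all_goals first | exact absurd rfl hrs | norm_num
  · intro h
    obtain ⟨x, hx⟩ := h6
    have h6' : r * s = 6 := by
      rcases (hmem _).mp h with h | h | h
      · exact absurd h (not_prime_dvd (by norm_num) hr hs)
      · have hr6 := (dvd_mul_right r s).trans h
        have hs6 := (dvd_mul_left s r).trans h
        have := Nat.le_of_dvd (by norm_num) hr6
        have := Nat.le_of_dvd (by norm_num) hs6
        interval_cases r <;> interval_cases s <;> first | omega | (exfalso; revert hr hs hr6 hs6; norm_num)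
      · exact absurd h (not_prime_dvd (by norm_num) hr hs)
    exact ⟨x, hx.trans h6'.symm⟩

end Cfsg.Agent.S2518
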