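import Cfsg.Statements.S2519
import Cfsg.Agent.Chev.G2Spec.Lists

set_option autoImplicit false
set_option linter.style.haveILetI false
open Cfsg

namespace Cfsg.Agent.S2519

/-- Let F be a finite field of odd order q = p^a ≥ 5. The element orders of the Chevalley group G₂(F) that are maximal under divisibility are exactly p(q + 1), p(q − 1), q² − 1, q² + q + 1, q² − q + 1, together with p² when p is 3 or 5. -/
theorem result {F : Type*} [Field F] [Fintype F] (p a : ℕ) (hp : p.Prime) (hp2 : p ≠ 2) (ha : 1 ≤ a) (hF : Fintype.card F = p ^ a) (hq5 : 5 ≤ Fintype.card F) :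
    {n : ℕ | n ∈ Set.range (orderOf : ↥(Cfsg.Lie.chevG2.group F) → ℕ) ∧ ∀ m ∈ Set.range (orderOf : ↥(Cfsg.Lie.chevG2.group F) → ℕ), n ∣ m → m = n} =
      ({p * (p ^ a + 1), p * (p ^ a - 1), p ^ (2 * a) - 1, p ^ (2 * a) + p ^ a + 1, p ^ (2 * a) - p ^ a + 1} : Set ℕ) ∪
        (if p = 3 ∨ p = 5 then ({p ^ 2} : Set ℕ) else ∅) := by
  classical
  haveI := Fact.mk hp
  haveI : CharP F p := charP_of_card_eq_prime_pow hF
  have hinj := CfsgLib.Chev.G2Spec.rho_injective_of_card (K := F) (by omega)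
  have hq : 5 ≤ p ^ a := hF ▸ hq5
  have hpa : p ∣ p ^ a := dvd_pow_self p (by omega)
  rw [show p ^ (2 * a) = p ^ a * p ^ a by rw [← pow_add, two_mul]]
  refine CfsgLib.Chev.G2Spec.max_eq_of_cover ?_ ?_
    (CfsgLib.Chev.G2Spec.antichain hp hp2 hpa hq (hp.odd_of_ne_two hp2).pow)
  · rintro n ⟨g, rfl⟩
    have key : ∀ e, 7 ≤ p ^ e → _ := fun e he =>
      CfsgLib.Chev.G2Spec.order_dvd (p := p) (a := a) (e := e) ha hF (by omega) he g
    have hbig : ∀ {x : ℕ}, x ∈ ({p * (p ^ a + 1), p * (p ^ a - 1), p ^ a * p ^ a - 1,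
        p ^ a * p ^ a + p ^ a + 1, p ^ a * p ^ a - p ^ a + 1} : Set ℕ) → orderOf g ∣ x →
        ∃ x ∈ ({p * (p ^ a + 1), p * (p ^ a - 1), p ^ a * p ^ a - 1,
          p ^ a * p ^ a + p ^ a + 1, p ^ a * p ^ a - p ^ a + 1} : Set ℕ) ∪
            (if p = 3 ∨ p = 5 then ({p ^ 2} : Set ℕ) else ∅), orderOf g ∣ x :=
      fun hx hd => ⟨_, Set.mem_union_left _ hx, hd⟩
    have hp3 : 3 ≤ p := by have := hp.two_le; omega
    by_cases h35 : p = 3 ∨ p = 5
    · have he : 7 ≤ p ^ 2 := by rcases h35 with rfl | rfl <;> norm_num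
      rcases key 2 he with h | h | h | h | h | h | ⟨h, -⟩
      rotate_left 5
      · exact ⟨_, Set.mem_union_right _ (by rw [if_pos h35]; rfl), h⟩
      · exact absurd h hp2
      all_goals
        rw [show p ^ (2 * a) = p ^ a * p ^ a by rw [← pow_add, two_mul]] at *
        exact hbig (by simp) h
    · have he : 7 ≤ p ^ 1 := by
        rw [pow_one]
        by_contra hlt
        interval_cases p <;> simp_all (config := { decide := true })
      rcases key 1 he with h | h | h | h | h | h | ⟨h, -⟩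
      rotate_left 5
      · refine hbig (x := p * (p ^ a + 1)) (by simp) (h.trans ?_)
        rw [pow_one]
        exact dvd_mul_right p _
      · exact absurd h hp2
      all_goals
        rw [show p ^ (2 * a) = p ^ a * p ^ a by rw [← pow_add, two_mul]] at *
        exact hbig (by simp) h
  · rintro x (hx | hx)
    · simp only [Set.mem_insert_iff, Set.mem_singleton_iff] at hx
      rcases hx with rfl | rfl | rfl | rfl | rfl
      · exact CfsgLib.Chev.G2Spec.mem_q_add p ha hF
      · exact CfsgLib.Chev.G2Spec.mem_q_sub p ha hF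
      · exact CfsgLib.Chev.G2Spec.mem_q_sq p hF
      · rw [← sq]
        exact CfsgLib.Chev.G2Spec.mem_phi_three hF (by omega)
      · exact CfsgLib.Chev.G2Spec.mem_phi_six hF (by omega)
    · split_ifs at hx with h35
      · obtain rfl := Set.mem_singleton_iff.mp hx
        rcases h35 with rfl | rfl
        · exact CfsgLib.Chev.G2Spec.mem_sq (e := 1) hinj _ CfsgLib.Chev.G2Spec.chk9.1
            CfsgLib.Chev.G2Spec.chk9.2
        · exact CfsgLib.Chev.G2Spec.mem_sq (e := 1) hinj _ CfsgLib.Chev.G2Spec.chk25.1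
            CfsgLib.Chev.G2Spec.chk25.2
      · simp at hx

end Cfsg.Agent.S2519
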