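import Cfsg.Statements.S2520
import Cfsg.Agent.Chev.G2Spec.Lists

set_option autoImplicit false
set_option linter.style.haveILetI false
open Cfsg

namespace Cfsg.Agent.S2520

/-- Let F be a finite field with q = 2^a ≥ 4 elements and G₂(F) the Chevalley group of type G₂ over it. Every element order of G₂(F) maximal under divisibility lies in the set {8, 12, 2(q + 1), 2(q − 1), q² − 1, q² + q + 1, q² − q + 1}, and every member of that set is an element order of G₂(F). -/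
theorem result {F : Type*} [Field F] [Fintype F] (a : ℕ) (ha : 2 ≤ a) (hF : Fintype.card F = 2 ^ a) :
    {n : ℕ | n ∈ Set.range (orderOf : ↥(Cfsg.Lie.chevG2.group F) → ℕ) ∧ ∀ m ∈ Set.range (orderOf : ↥(Cfsg.Lie.chevG2.group F) → ℕ), n ∣ m → m = n} ⊆ ({8, 12, 2 * (2 ^ a + 1), 2 * (2 ^ a - 1), 2 ^ (2 * a) - 1, 2 ^ (2 * a) + 2 ^ a + 1, 2 ^ (2 * a) - 2 ^ a + 1} : Set ℕ) ∧
    ({8, 12, 2 * (2 ^ a + 1), 2 * (2 ^ a - 1), 2 ^ (2 * a) - 1, 2 ^ (2 * a) + 2 ^ a + 1, 2 ^ (2 * a) - 2 ^ a + 1} : Set ℕ) ⊆ Set.range (orderOf : ↥(Cfsg.Lie.chevG2.group F) → ℕ) := by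
  classical
  haveI := Fact.mk Nat.prime_two
  haveI : CharP F 2 := charP_of_card_eq_prime_pow hF
  have hq : 4 ≤ 2 ^ a := le_trans (by norm_num) (Nat.pow_le_pow_right (by norm_num) ha)
  have h3 : 3 ≤ Fintype.card F := by omega
  have hinj := CfsgLib.Chev.G2Spec.rho_injective_of_card (K := F) h3
  rw [show 2 ^ (2 * a) = 2 ^ a * 2 ^ a by rw [← pow_add, two_mul]]
  refine (fun hL => ⟨CfsgLib.Chev.G2Spec.max_subset_of_cover ?_ hL, hL⟩) ?_
  rotate_left
  · rintro n ⟨g, rfl⟩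
    have key := CfsgLib.Chev.G2Spec.order_dvd (p := 2) (a := a) (e := 3) (by omega) hF h3
      (by norm_num) g
    rw [show 2 ^ (2 * a) = 2 ^ a * 2 ^ a by rw [← pow_add, two_mul]] at key
    rcases key with h | h | h | h | h | h | ⟨-, h⟩ <;> exact ⟨_, by simp, h⟩
  · intro x hx
    simp only [Set.mem_insert_iff, Set.mem_singleton_iff] at hx
    rcases hx with rfl | rfl | rfl | rfl | rfl | rfl | rfl
    · exact CfsgLib.Chev.G2Spec.mem_sq (p := 2) (e := 2) hinj _ CfsgLib.Chev.G2Spec.chk8.1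
        CfsgLib.Chev.G2Spec.chk8.2
    · exact CfsgLib.Chev.G2Spec.mem_twelve hinj
    · exact CfsgLib.Chev.G2Spec.mem_q_add 2 (by omega) hF
    · exact CfsgLib.Chev.G2Spec.mem_q_sub 2 (by omega) hF
    · exact CfsgLib.Chev.G2Spec.mem_q_sq 2 hF
    · rw [← sq]
      exact CfsgLib.Chev.G2Spec.mem_phi_three hF (by omega)
    · exact CfsgLib.Chev.G2Spec.mem_phi_six hF hq

end Cfsg.Agent.S2520
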