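import Cfsg.Statements.S2521


set_option autoImplicit false
open Cfsg

namespace Cfsg.Agent.S2521

/-- Let B be a finite group that is the semidirect product of a nilpotent normal subgroup U by an abelian subgroup T (U ∩ T = 1, UT = B), and let t ∈ T have centralizer exactly T. Then every element of the coset tU is conjugate to t in B: for each u ∈ U there is b ∈ B with b t b⁻¹ = t u. -/
theorem result {B : Type*} [Group B] [Finite B] (U T : Subgroup B) [U.Normal] (hU : Group.IsNilpotent ↥U) (hT : IsMulCommutative ↥T)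
    (hcompl : Subgroup.IsComplement' U T) (t : B) (ht : t ∈ T) (hreg : Subgroup.centralizer ({t} : Set B) = T) (u : B) (hu : u ∈ U) :
    ∃ b : B, b * t * b⁻¹ = t * u := by
  let f : U → U := fun b => ⟨t⁻¹ * ((b : B) * t * (b : B)⁻¹),
    by
      have := U.mul_mem (‹U.Normal›.conj_mem b b.2 t⁻¹) (U.inv_mem b.2)
      simpa [mul_assoc] using this⟩
  have hf : Function.Injective f := by
    intro x y hxy
    have h : (x : B) * t * (x : B)⁻¹ = y * t * (y : B)⁻¹ := mul_left_cancel (congrArg Subtype.val hxy)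
    have hc : (y : B)⁻¹ * x ∈ Subgroup.centralizer ({t} : Set B) := by
      rw [Subgroup.mem_centralizer_singleton_iff]
      calc (y : B)⁻¹ * x * t = (y : B)⁻¹ * ((x : B) * t * (x : B)⁻¹) * x := by group
        _ = (y : B)⁻¹ * (y * t * (y : B)⁻¹) * x := by rw [h]
        _ = t * ((y : B)⁻¹ * x) := by group
    rw [hreg] at hc
    have := (Subgroup.isComplement'_def.mp hcompl)
    have h1 : (y : B)⁻¹ * x = 1 :=
      Subgroup.disjoint_def.mp hcompl.disjoint (U.mul_mem (U.inv_mem y.2) x.2) hc
    exact Subtype.ext (inv_mul_eq_one.mp h1).symm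
  obtain ⟨b, hb⟩ := (Finite.injective_iff_surjective.mp hf) ⟨u, hu⟩
  refine ⟨b, ?_⟩
  have h2 : t⁻¹ * ((b : B) * t * (b : B)⁻¹) = u := congrArg Subtype.val hb
  rw [← h2]
  group

end Cfsg.Agent.S2521
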