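import Cfsg.Statements.S2523
import Cfsg.Agent.ClassSquare.PSL
import Cfsg.Agent.ClassSquare.SympMain
import Cfsg.Agent.ClassSquare.PlusMain
import Cfsg.Agent.ClassSquare.OddMain
import Cfsg.Agent.ClassSquare.ExcG2
import Cfsg.Agent.ClassSquare.ExcF4
import Cfsg.Agent.ClassSquare.ExcE6
import Cfsg.Agent.ClassSquare.ExcE7
import Cfsg.Agent.ClassSquare.ExcE8

set_option autoImplicit false
open Cfsg

namespace Cfsg.Agent.S2523

theorem transfer {G H : Type*} [Group G] [Group H] (e : G ≃* H)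
    (h : ∃ c : H, ∀ g : H, ∃ x y, g = (x * c * x⁻¹) * (y * c * y⁻¹)) :
    ∃ c : G, ∀ g : G, ∃ x y : G, g = (x * c * x⁻¹) * (y * c * y⁻¹) := by
  obtain ⟨c, hc⟩ := h
  refine ⟨e.symm c, fun g => ?_⟩
  obtain ⟨x, y, hxy⟩ := hc (e g)
  exact ⟨e.symm x, e.symm y, e.injective (by simpa using hxy)⟩

/-- Let F be a finite field with at least 9 elements and let G be one of PSL(n, F) (n ≥ 2), PSp(2m, F) (m ≥ 2), PΩ(2m+1, F) (m ≥ 3, here q odd), PΩ⁺(2m, F) (m ≥ 4), or the Chevalley group of type G₂, F₄, E₆, E₇ or E₈ over F. Then G is the square of one of its conjugacy classes (Thompson's conjecture on products of conjugacy classes, not his conjecture on class sizes): there is a conjugacy class C of G with C·C = G, i.e. every element of G is a product of two elements of C. -/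
theorem result {F : Type*} [Field F] [Fintype F] (hF : 9 ≤ Fintype.card F) {G : Type*} [Group G] [Finite G]
    (hG : (∃ n : ℕ, 2 ≤ n ∧ Nonempty (G ≃* Matrix.ProjectiveSpecialLinearGroup (Fin n) F)) ∨
      (∃ m : ℕ, 2 ≤ m ∧ Nonempty (G ≃* Cfsg.PSp m F)) ∨
      (∃ m : ℕ, 3 ≤ m ∧ Odd (Fintype.card F) ∧ Nonempty (G ≃* Cfsg.POmega F (Cfsg.quadFormOdd m F))) ∨
      (∃ m : ℕ, 4 ≤ m ∧ Nonempty (G ≃* Cfsg.POmega F (Cfsg.quadFormPlus m F))) ∨
      Nonempty (G ≃* ↥(Cfsg.Lie.chevG2.group F)) ∨ Nonempty (G ≃* ↥(Cfsg.Lie.chevF4.group F)) ∨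
      Nonempty (G ≃* ↥(Cfsg.Lie.chevE6.group F)) ∨ Nonempty (G ≃* ↥(Cfsg.Lie.chevE7.group F)) ∨ Nonempty (G ≃* ↥(Cfsg.Lie.chevE8.group F))) :
    ∃ c : G, ∀ g : G, ∃ x y : G, g = (x * c * x⁻¹) * (y * c * y⁻¹) := by
  rcases hG with ⟨n, hn, ⟨e⟩⟩ | ⟨m, hm, ⟨e⟩⟩ | ⟨m, hm, hodd, ⟨e⟩⟩ | ⟨m, hm, ⟨e⟩⟩ |
    ⟨⟨e⟩⟩ | ⟨⟨e⟩⟩ | ⟨⟨e⟩⟩ | ⟨⟨e⟩⟩ | ⟨⟨e⟩⟩
  · exact transfer e (CfsgLib.ClassSquare.psl_class_square (by omega) hn)
  · exact transfer e (CfsgLib.ClassSquare.psp_class_square hF hm)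
  · exact transfer e (CfsgLib.ClassSquare.Odd.pomega_odd_class_square hF hm hodd)
  · exact transfer e (CfsgLib.ClassSquare.Plus.pomega_plus_class_square hF hm)
  · exact transfer e (CfsgLib.ClassSquare.Exc.G2Chain.class_square hF)
  · exact transfer e (CfsgLib.ClassSquare.Exc.F4Chain.class_square hF)
  · exact transfer e (CfsgLib.ClassSquare.Exc.E6Chain.class_square hF)
  · exact transfer e (CfsgLib.ClassSquare.Exc.E7Chain.class_square hF)
  · exact transfer e (CfsgLib.ClassSquare.Exc.E8Chain.class_square hF)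

end Cfsg.Agent.S2523
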