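import Cfsg.Statements.S2524
import Cfsg.Agent.MinDeg.SympLowMain

set_option autoImplicit false
open Cfsg

namespace Cfsg.Agent.S2524

/-- Let F be a finite field of odd order q and G = Sp(2n, F) with n ≥ 2. Then G has exactly four irreducible complex characters of degree (q^n + 1)/2 or (q^n − 1)/2 (two of each), and every other non-principal irreducible character has degree at least (q^n − 1)(q^n − q)/(2(q + 1)). -/
theorem result {F : Type*} [Field F] [Fintype F] (hodd : Odd (Fintype.card F)) (n : ℕ) (hn : 2 ≤ n) :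
    Nat.card {χ : Cfsg.IrrCharacter ↥(Matrix.symplecticGroup (Fin n) F) // (χ : ↥(Matrix.symplecticGroup (Fin n) F) → ℂ) 1 = (((Fintype.card F) ^ n + 1 : ℕ) : ℂ) / 2} = 2 ∧
    Nat.card {χ : Cfsg.IrrCharacter ↥(Matrix.symplecticGroup (Fin n) F) // (χ : ↥(Matrix.symplecticGroup (Fin n) F) → ℂ) 1 = (((Fintype.card F) ^ n - 1 : ℕ) : ℂ) / 2} = 2 ∧
    ∀ χ : Cfsg.IrrCharacter ↥(Matrix.symplecticGroup (Fin n) F),
      (χ : ↥(Matrix.symplecticGroup (Fin n) F) → ℂ) 1 ≠ 1 →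
      (χ : ↥(Matrix.symplecticGroup (Fin n) F) → ℂ) 1 ≠ (((Fintype.card F) ^ n + 1 : ℕ) : ℂ) / 2 →
      (χ : ↥(Matrix.symplecticGroup (Fin n) F) → ℂ) 1 ≠ (((Fintype.card F) ^ n - 1 : ℕ) : ℂ) / 2 →
      (((Fintype.card F) ^ n - 1 : ℕ) : ℝ) * (((Fintype.card F) ^ n - Fintype.card F : ℕ) : ℝ) / (2 * ((Fintype.card F : ℕ) + 1 : ℝ)) ≤ ‖(χ : ↥(Matrix.symplecticGroup (Fin n) F) → ℂ) 1‖ := by
  classical
  obtain ⟨W, hinj, hplus, hminus, hall⟩ := CfsgLib.MinDeg.SpLow.symp_low_degrees (F := F) hn hodd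
  set q := Fintype.card F with hq
  have hq3 : 3 ≤ q := by
    have := Fintype.one_lt_card (α := F)
    obtain ⟨r, hr⟩ := hodd
    omega
  have hNq : q * q ≤ q ^ n := by
    rw [← pow_two]; exact Nat.pow_le_pow_right (by omega) hn
  have hN9 : 9 ≤ q ^ n := le_trans (Nat.mul_le_mul hq3 hq3) hNq
  have hqN : q ≤ q ^ n := le_trans (Nat.le_mul_self q) hNq
  have small : ∀ d : ℕ, 2 * d ≤ q ^ n + 1 → ¬((q ^ n - 1) * (q ^ n - q) ≤ 2 * (q + 1) * d) := by
    intro d hd h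
    have h1 : 2 * (q + 1) * d ≤ (q + 1) * (q ^ n + 1) := by
      rw [mul_comm 2 (q + 1), mul_assoc]; exact Nat.mul_le_mul_left _ hd
    obtain ⟨a, ha⟩ := Nat.exists_eq_add_of_le hqN
    have h2 := h.trans h1
    rw [ha, Nat.add_sub_cancel_left] at h2
    have e : q + a - 1 = q - 1 + a := by omega
    rw [e] at h2
    have h3 : q * q ≤ q + a := ha ▸ hNq
    have h4 : q + 1 + 3 ≤ q - 1 + a := by
      have := Nat.mul_le_mul_right q hq3
      omega
    have h5 : (q + 1 + 3) * a ≤ (q + 1) * (q + a + 1) := le_trans (Nat.mul_le_mul_right a h4) h2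
    nlinarith
  have cP : ((q ^ n + 1 : ℕ) : ℂ) / 2 ≠ 1 := by
    intro h
    have : ((q ^ n + 1 : ℕ) : ℂ) = ((2 : ℕ) : ℂ) := by
      rw [(div_eq_iff (two_ne_zero' ℂ)).1 h]; norm_num
    have := Nat.cast_injective this
    omega
  have cM : ((q ^ n - 1 : ℕ) : ℂ) / 2 ≠ 1 := by
    intro h
    have : ((q ^ n - 1 : ℕ) : ℂ) = ((2 : ℕ) : ℂ) := by
      rw [(div_eq_iff (two_ne_zero' ℂ)).1 h]; norm_num
    have := Nat.cast_injective this
    omega
  have hW : ∀ k, (W k true).1 1 = ((q ^ n + 1 : ℕ) : ℂ) / 2 ∧ (W k false).1 1 = ((q ^ n - 1 : ℕ) : ℂ) / 2 := by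
    intro k
    constructor
    · rw [eq_div_iff (two_ne_zero' ℂ), mul_comm, hplus k]; push_cast; ring
    · rw [eq_div_iff (two_ne_zero' ℂ), mul_comm, hminus k, Nat.cast_sub (by omega)]; push_cast; ring
  have hne : ((q ^ n + 1 : ℕ) : ℂ) / 2 ≠ ((q ^ n - 1 : ℕ) : ℂ) / 2 := by
    intro h
    rw [div_left_inj' (two_ne_zero' ℂ)] at h
    have := Nat.cast_injective h
    omega
  have count : ∀ (l : Bool) (D : ℂ), (∀ k, (W k l).1 1 = D) → (∀ k, (W k (!l)).1 1 ≠ D) → D ≠ 1 →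
      (∀ d : ℕ, (d : ℂ) = D → 2 * d ≤ q ^ n + 1) →
      Nat.card {χ : Cfsg.IrrCharacter ↥(Matrix.symplecticGroup (Fin n) F) // χ.1 1 = D} = 2 := by
    intro l D hl hl' hD hd
    refine (Nat.card_congr (Equiv.ofBijective (fun k : Bool => (⟨W k l, hl k⟩ :
      {χ : Cfsg.IrrCharacter ↥(Matrix.symplecticGroup (Fin n) F) // χ.1 1 = D})) ⟨?_, ?_⟩)).symm.trans ?_
    · intro k k' e
      exact congrArg Prod.fst (@hinj (k, l) (k', l) (congrArg Subtype.val e))
    · rintro ⟨χ, hχ⟩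
      rcases hall χ with h | ⟨k, l', rfl⟩ | ⟨d, h, hb⟩
      · exact absurd (hχ.symm.trans h) hD
      · refine ⟨k, Subtype.ext ?_⟩
        rcases Bool.eq_or_eq_not l' l with rfl | e
        · rfl
        · exact absurd (e ▸ hχ) (hl' k)
      · exact absurd hb (small d (hd d (h.symm.trans hχ)))
    · simp
  refine ⟨count true _ (fun k => (hW k).1) (fun k => ?_) cP (fun d hd => ?_),
    count false _ (fun k => (hW k).2) (fun k => ?_) cM (fun d hd => ?_), fun χ h1 hp hm => ?_⟩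
  · show (W k false).1 1 ≠ _
    rw [(hW k).2]; exact hne.symm
  · rw [eq_div_iff (two_ne_zero' ℂ)] at hd
    have h' : ((d * 2 : ℕ) : ℂ) = ((q ^ n + 1 : ℕ) : ℂ) := by rw [Nat.cast_mul]; exact_mod_cast hd
    have := Nat.cast_injective h'
    omega
  · show (W k true).1 1 ≠ _
    rw [(hW k).1]; exact hne
  · rw [eq_div_iff (two_ne_zero' ℂ)] at hd
    have h' : ((d * 2 : ℕ) : ℂ) = ((q ^ n - 1 : ℕ) : ℂ) := by rw [Nat.cast_mul]; exact_mod_cast hd
    have := Nat.cast_injective h'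
    omega
  · rcases hall χ with h | ⟨k, l, rfl⟩ | ⟨d, h, hb⟩
    · exact absurd h h1
    · cases l
      · exact absurd (hW k).2 hm
      · exact absurd (hW k).1 hp
    · rw [h, Complex.norm_natCast, div_le_iff₀ (by positivity), mul_comm (d : ℝ)]
      exact_mod_cast hb

end Cfsg.Agent.S2524
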