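import Cfsg.Statements.S2525
import Cfsg.Agent.Chev.F4Graph.Negative
import Cfsg.Agent.Chev.F4Graph.Positive
import Cfsg.Agent.S1062

set_option autoImplicit false
set_option linter.style.haveILetI false
open Cfsg

namespace Cfsg.Agent.S2525

open CfsgLib.Chev.F4Graph

theorem cast_ne {q n a : ℕ} [Fact a.Prime] (hq : q = 2 ^ n) (ha : a ≠ 2) : (q : ZMod a) ≠ 0 := by
  intro h
  have := (CharP.cast_eq_zero_iff (ZMod a) a q).mp h
  rw [hq] at this
  exact ha ((Nat.prime_dvd_prime_iff_eq Fact.out Nat.prime_two).mp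
    ((Fact.out : a.Prime).dvd_of_dvd_pow this))

variable {F : Type*} [Field F] [Fintype F]

theorem degree_mem {n a : ℕ} [Fact a.Prime] (hq : Fintype.card F = 2 ^ n) (ha : a ≠ 2)
    (hd : a ∣ Nat.card ↥(Cfsg.Lie.chevF4.group F)) :
    orderOf ((Fintype.card F : ℕ) : ZMod a) ∈ ({1, 2, 3, 4, 6, 8, 12} : Finset ℕ) := by
  have ha' : a.Prime := Fact.out
  rw [Cfsg.Agent.S1062.result rfl] at hd
  set q := Fintype.card F with hqdef
  have h1 : 1 ≤ q := Fintype.card_pos
  have key : ∀ d, a ∣ q ^ d - 1 → orderOf (q : ZMod a) ∣ d := fun d h => by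
    refine orderOf_dvd_of_pow_eq_one ?_
    have := (CharP.cast_eq_zero_iff (ZMod a) a _).mpr h
    rw [Nat.cast_sub (Nat.one_le_pow _ _ h1), Nat.cast_pow, Nat.cast_one, sub_eq_zero] at this
    exact this
  have small : ∀ {d : ℕ}, d ∈ ({2, 6, 8, 12} : Finset ℕ) → ∀ e, e ∣ d →
      e ∈ ({1, 2, 3, 4, 6, 8, 12} : Finset ℕ) := by
    intro d hd e he
    suffices ∀ x ∈ Nat.divisors d, x ∈ ({1, 2, 3, 4, 6, 8, 12} : Finset ℕ) by
      exact this e (Nat.mem_divisors.mpr ⟨he, by fin_cases hd <;> norm_num⟩)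
    fin_cases hd <;> decide
  rcases ha'.dvd_mul.mp hd with hd | hd
  · rcases ha'.dvd_mul.mp hd with hd | hd
    · rcases ha'.dvd_mul.mp hd with hd | hd
      · rcases ha'.dvd_mul.mp hd with hd | hd
        · exact absurd ((CharP.cast_eq_zero_iff (ZMod a) a q).mpr (ha'.dvd_of_dvd_pow hd))
            (cast_ne hq ha)
        · exact small (by decide) _ (key 2 hd)
      · exact small (by decide) _ (key 6 hd)
    · exact small (by decide) _ (key 8 hd)
  · exact small (by decide) _ (key 12 hd)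

/-- Where a prime of small degree divides. -/
theorem dvd_small {a : ℕ} [Fact a.Prime] (_ha : a ≠ 2) :
    (orderOf ((Fintype.card F : ℕ) : ZMod a) = 1 → a ∣ Fintype.card F - 1) ∧
    (orderOf ((Fintype.card F : ℕ) : ZMod a) = 2 → a ∣ Fintype.card F + 1) ∧
    (orderOf ((Fintype.card F : ℕ) : ZMod a) = 3 → a ∣ Fintype.card F ^ 3 - 1) ∧
    (orderOf ((Fintype.card F : ℕ) : ZMod a) = 4 → a ∣ Fintype.card F ^ 2 + 1) ∧
    (orderOf ((Fintype.card F : ℕ) : ZMod a) = 6 → a ∣ Fintype.card F ^ 3 + 1) := by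
  set q := Fintype.card F with hqdef
  have h1 : 1 ≤ q := Fintype.card_pos
  set x : ZMod a := (q : ZMod a)
  have hp := pow_orderOf_eq_one x
  have half : ∀ m, orderOf x = m * 2 → 0 < m → x ^ m = -1 := fun m h hm => by
    rw [h, pow_mul] at hp
    exact (sq_eq_one_iff.mp hp).resolve_left (pow_ne_one_of_lt_orderOf hm.ne' (by omega))
  have plus : ∀ m, x ^ m = -1 → a ∣ q ^ m + 1 := fun m h => by
    rw [← CharP.cast_eq_zero_iff (ZMod a) a, Nat.cast_add, Nat.cast_pow, Nat.cast_one]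
    show x ^ m + 1 = 0
    rw [h, neg_add_cancel]
  have minus : ∀ m, x ^ m = 1 → a ∣ q ^ m - 1 := fun m h => by
    rw [← CharP.cast_eq_zero_iff (ZMod a) a, Nat.cast_sub (Nat.one_le_pow _ _ h1), Nat.cast_pow,
      Nat.cast_one]
    show x ^ m - 1 = 0
    rw [h, sub_self]
  refine ⟨fun h => ?_, fun h => ?_, fun h => ?_, fun h => ?_, fun h => ?_⟩
  · have := minus 1 (by rw [← h]; exact hp)
    rwa [pow_one] at this
  · have := plus 1 (half 1 h one_pos)
    rwa [pow_one] at this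
  · exact minus 3 (by rw [← h]; exact hp)
  · exact plus 2 (half 2 h two_pos)
  · exact plus 3 (half 3 h three_pos)

theorem dvd_C3 {a : ℕ} [Fact a.Prime] (ha : a ≠ 2)
    (he : orderOf ((Fintype.card F : ℕ) : ZMod a) ∈ ({1, 2, 3, 4, 6} : Finset ℕ)) :
    a ∣ Fintype.card F ^ 3 - 1 ∨ a ∣ Fintype.card F ^ 3 + 1 ∨ a ∣ Fintype.card F ^ 2 + 1 := by
  obtain ⟨d1, d2, d3, d4, d6⟩ := dvd_small (F := F) ha
  simp only [Finset.mem_insert, Finset.mem_singleton] at he
  rcases he with he | he | he | he | he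
  · exact Or.inl ((d1 he).trans (Nat.sub_one_dvd_pow_sub_one _ 3))
  · refine Or.inr (Or.inl ((d2 he).trans ?_))
    simpa using (show Odd 3 by decide).nat_add_dvd_pow_add_pow (Fintype.card F) 1
  · exact Or.inl (d3 he)
  · exact Or.inr (Or.inr (d4 he))
  · exact Or.inr (Or.inl (d6 he))

/-- The prime graph. -/
theorem adjacent [CharP F 2] {n r s : ℕ} [Fact r.Prime] [Fact s.Prime]
    (hq : Fintype.card F = 2 ^ n) (hn : 1 ≤ n) (hrs : r ≠ s) (hs2 : s ≠ 2)
    (hr : r = 2 → orderOf ((Fintype.card F : ℕ) : ZMod s) ∉ ({8, 12} : Finset ℕ))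
    (hodd : r ≠ 2 → orderOf ((Fintype.card F : ℕ) : ZMod r) ≤ orderOf ((Fintype.card F : ℕ) : ZMod s) ∧
      (orderOf ((Fintype.card F : ℕ) : ZMod r) < orderOf ((Fintype.card F : ℕ) : ZMod s) →
        orderOf ((Fintype.card F : ℕ) : ZMod r) ≤ 2 ∧
          orderOf ((Fintype.card F : ℕ) : ZMod s) ∉ ({8, 12} : Finset ℕ)))
    (hrG : r ∣ Nat.card ↥(Cfsg.Lie.chevF4.group F)) (hsG : s ∣ Nat.card ↥(Cfsg.Lie.chevF4.group F)) :
    ∃ x : ↥(Cfsg.Lie.chevF4.group F), orderOf x = r * s := by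
  have hco : Nat.Coprime r s := (Nat.coprime_primes Fact.out Fact.out).mpr hrs
  have hes := degree_mem hq hs2 hsG
  by_cases hr2 : r = 2
  · subst hr2
    refine exists_double hco (dvd_C3 hs2 ?_)
    have := hr rfl
    simp only [Finset.mem_insert, Finset.mem_singleton] at hes this ⊢
    omega
  obtain ⟨hle, hlt⟩ := hodd hr2
  have her := degree_mem hq hr2 hrG
  obtain ⟨d1, d2, d3, d4, d6⟩ := dvd_small (F := F) hr2
  obtain ⟨s1, s2, s3, s4, s6⟩ := dvd_small (F := F) hs2
  by_cases h2 : orderOf ((Fintype.card F : ℕ) : ZMod r) ≤ 2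
  · refine exists_product hco ?_ (dvd_C3 hs2 ?_)
    · simp only [Finset.mem_insert, Finset.mem_singleton] at her
      rcases her with h | h | h | h | h | h | h
      · exact Or.inl (d1 h)
      · exact Or.inr (d2 h)
      all_goals omega
    · rcases Nat.lt_or_ge (orderOf ((Fintype.card F : ℕ) : ZMod r))
        (orderOf ((Fintype.card F : ℕ) : ZMod s)) with h | h
      · have := (hlt h).2
        simp only [Finset.mem_insert, Finset.mem_singleton] at hes this ⊢
        omega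
      · simp only [Finset.mem_insert, Finset.mem_singleton] at hes ⊢
        omega
  · have heq : orderOf ((Fintype.card F : ℕ) : ZMod r) = orderOf ((Fintype.card F : ℕ) : ZMod s) :=
      le_antisymm hle (not_lt.mp fun h => h2 (hlt h).1)
    have hdd : ∀ {N : ℕ}, r ∣ N → s ∣ N → (N = Fintype.card F ^ 3 - 1 ∨
        N = Fintype.card F ^ 3 + 1 ∨ N = Fintype.card F ^ 2 + 1) →
        ∃ x : ↥(Cfsg.Lie.chevF4.group F), orderOf x = r * s := fun {N} a b h => by
      obtain ⟨y, -, -, -, -, hy, -⟩ := exists_in_C3 (F := F) (N := r * s) (by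
        rcases h with rfl | rfl | rfl
        · exact Or.inl (hco.mul_dvd_of_dvd_of_dvd a b)
        · exact Or.inr (Or.inl (hco.mul_dvd_of_dvd_of_dvd a b))
        · exact Or.inr (Or.inr (hco.mul_dvd_of_dvd_of_dvd a b)))
      exact ⟨y, hy⟩
    have heven : Even (Fintype.card F) := by
      rw [hq]; exact (Nat.even_pow' (by omega)).mpr even_two
    simp only [Finset.mem_insert, Finset.mem_singleton] at her
    rcases her with h | h | h | h | h | h | h
    · omega
    · omega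
    · exact hdd (d3 h) (s3 (heq ▸ h)) (Or.inl rfl)
    · exact hdd (d4 h) (s4 (heq ▸ h)) (Or.inr (Or.inr rfl))
    · exact hdd (d6 h) (s6 (heq ▸ h)) (Or.inr (Or.inl rfl))
    · exact exists_elliptic_pair (Or.inl rfl) heven hrs h (heq ▸ h) hrG
    · exact exists_elliptic_pair (Or.inr rfl) heven hrs h (heq ▸ h) hrG

/-- The non-adjacent pairs. -/
theorem nonadjacent {n r s : ℕ} [Fact r.Prime] [Fact s.Prime]
    (hq : Fintype.card F = 2 ^ n) (hn : 1 ≤ n)
    (h : (r = 2 ∧ orderOf ((Fintype.card F : ℕ) : ZMod s) ∈ ({8, 12} : Finset ℕ)) ∨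
      (orderOf ((Fintype.card F : ℕ) : ZMod r) < orderOf ((Fintype.card F : ℕ) : ZMod s) ∧
        (orderOf ((Fintype.card F : ℕ) : ZMod s) ∈ ({8, 12} : Finset ℕ) ∨
          (orderOf ((Fintype.card F : ℕ) : ZMod s) = 6 ∧
            orderOf ((Fintype.card F : ℕ) : ZMod r) ∈ ({3, 4} : Finset ℕ)) ∨
          (orderOf ((Fintype.card F : ℕ) : ZMod s) = 4 ∧
            orderOf ((Fintype.card F : ℕ) : ZMod r) = 3)))) :
    ¬ ∃ x : ↥(Cfsg.Lie.chevF4.group F), orderOf x = r * s := by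
  rintro ⟨x, hx⟩
  have hr : r.Prime := Fact.out
  have hs : s.Prime := Fact.out
  have ha : orderOf (x ^ s) = r := by
    rw [orderOf_pow_of_dvd hs.ne_zero (by rw [hx]; exact dvd_mul_left _ _), hx,
      Nat.mul_div_cancel _ hs.pos]
  have hb : orderOf (x ^ r) = s := by
    rw [orderOf_pow_of_dvd hr.ne_zero (by rw [hx]; exact dvd_mul_right _ _), hx,
      Nat.mul_div_cancel_left _ hr.pos]
  have hc : Commute (x ^ s) (x ^ r) := (Commute.refl x).pow_pow _ _
  have heven : Even (Fintype.card F) := by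
    rw [hq]; exact (Nat.even_pow' (by omega)).mpr even_two
  simp only [Finset.mem_insert, Finset.mem_singleton] at h
  rcases h with ⟨h2, hl⟩ | ⟨hlt, hl | ⟨h6, hk⟩ | ⟨h4, hk⟩⟩
  · exact (isolated hl heven rfl ha hb hc).2 h2
  · exact absurd (isolated hl heven rfl ha hb hc).1 hlt.ne
  · exact no_commute (by simp only [Finset.mem_insert, Finset.mem_singleton]; tauto)
      (by simp [h6]) (by omega) ha hb hc
  · exact no_commute (by simp [hk]) (by simp [h4]) (by omega) ha hb hc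

/-- Let F be a finite field with q = 2^n elements and G = F₄(F). For an odd prime r let e(r, q) be the multiplicative order of q modulo r. Two distinct primes r, s dividing the order of G are non-adjacent in the prime graph of G (no element of order rs) if and only if, up to swapping r and s, either r = 2 and e(s, q) ∈ {8, 12}, or r, s are both odd with k = e(r, q) < l = e(s, q) and one of: l ∈ {8, 12}; l = 6 and k ∈ {3, 4}; l = 4 and k = 3. -/
theorem result {F : Type*} [Field F] [Fintype F] (n : ℕ) (hn : 1 ≤ n) (hF : Fintype.card F = 2 ^ n)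
    (r s : ℕ) (hr : r.Prime) (hs : s.Prime) (hrs : r ≠ s) (hrG : r ∣ Nat.card ↥(Cfsg.Lie.chevF4.group F)) (hsG : s ∣ Nat.card ↥(Cfsg.Lie.chevF4.group F)) :
    (¬ ∃ x : ↥(Cfsg.Lie.chevF4.group F), orderOf x = r * s) ↔
      ((r = 2 ∧ orderOf ((Fintype.card F : ℕ) : ZMod s) ∈ ({8, 12} : Finset ℕ)) ∨ (s = 2 ∧ orderOf ((Fintype.card F : ℕ) : ZMod r) ∈ ({8, 12} : Finset ℕ)) ∨
       (r ≠ 2 ∧ s ≠ 2 ∧
         ((orderOf ((Fintype.card F : ℕ) : ZMod r) < orderOf ((Fintype.card F : ℕ) : ZMod s) ∧ (orderOf ((Fintype.card F : ℕ) : ZMod s) ∈ ({8, 12} : Finset ℕ) ∨ (orderOf ((Fintype.card F : ℕ) : ZMod s) = 6 ∧ orderOf ((Fintype.card F : ℕ) : ZMod r) ∈ ({3, 4} : Finset ℕ)) ∨ (orderOf ((Fintype.card F : ℕ) : ZMod s) = 4 ∧ orderOf ((Fintype.card F : ℕ) : ZMod r) = 3))) ∨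
          (orderOf ((Fintype.card F : ℕ) : ZMod s) < orderOf ((Fintype.card F : ℕ) : ZMod r) ∧ (orderOf ((Fintype.card F : ℕ) : ZMod r) ∈ ({8, 12} : Finset ℕ) ∨ (orderOf ((Fintype.card F : ℕ) : ZMod r) = 6 ∧ orderOf ((Fintype.card F : ℕ) : ZMod s) ∈ ({3, 4} : Finset ℕ)) ∨ (orderOf ((Fintype.card F : ℕ) : ZMod r) = 4 ∧ orderOf ((Fintype.card F : ℕ) : ZMod s) = 3)))))) := by
  haveI : Fact r.Prime := ⟨hr⟩
  haveI : Fact s.Prime := ⟨hs⟩
  haveI : Fact (Nat.Prime 2) := ⟨Nat.prime_two⟩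
  haveI : CharP F 2 := charP_of_card_eq_prime_pow hF
  constructor
  · intro h
    by_contra hcon
    simp only [Finset.mem_insert, Finset.mem_singleton, not_or, not_and] at hcon
    obtain ⟨c1, c2, c3⟩ := hcon
    apply h
    by_cases hs2 : s = 2
    · have hr2 : r ≠ 2 := fun e => hrs (e.trans hs2.symm)
      obtain ⟨x, hx⟩ := adjacent (r := s) (s := r) hF hn (Ne.symm hrs) hr2
        (fun e => by simpa using c2 e) (fun e => absurd hs2 e) hsG hrG
      exact ⟨x, by rw [hx, mul_comm]⟩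
    by_cases hr2 : r = 2
    · exact adjacent hF hn hrs hs2 (fun e => by simpa using c1 e) (fun e => absurd hr2 e) hrG hsG
    obtain ⟨c4, c5⟩ := c3 hr2 hs2
    have hmr := degree_mem hF hr2 hrG
    have hms := degree_mem hF hs2 hsG
    simp only [Finset.mem_insert, Finset.mem_singleton] at hmr hms
    rcases le_total (orderOf ((Fintype.card F : ℕ) : ZMod r))
      (orderOf ((Fintype.card F : ℕ) : ZMod s)) with hle | hle
    · refine adjacent hF hn hrs hs2 (fun e => absurd e hr2) (fun _ => ⟨hle, fun hlt => ?_⟩) hrG hsG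
      have := c4 hlt
      simp only [Finset.mem_insert, Finset.mem_singleton]
      omega
    · have hgap : orderOf ((Fintype.card F : ℕ) : ZMod s) < orderOf ((Fintype.card F : ℕ) : ZMod r) →
          orderOf ((Fintype.card F : ℕ) : ZMod s) ≤ 2 ∧
            orderOf ((Fintype.card F : ℕ) : ZMod r) ∉ ({8, 12} : Finset ℕ) := fun hlt => by
        have := c5 hlt
        simp only [Finset.mem_insert, Finset.mem_singleton]
        omega
      obtain ⟨x, hx⟩ := adjacent (r := s) (s := r) hF hn (Ne.symm hrs) hr2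
        (fun e => absurd e hs2) (fun _ => ⟨hle, hgap⟩) hsG hrG
      exact ⟨x, by rw [hx, mul_comm]⟩
  · rintro (h | h | ⟨-, -, h | h⟩) hx
    · exact nonadjacent hF hn (Or.inl h) hx
    · exact nonadjacent (r := s) (s := r) hF hn (Or.inl h) (by rwa [mul_comm])
    · exact nonadjacent hF hn (Or.inr h) hx
    · exact nonadjacent (r := s) (s := r) hF hn (Or.inr h) (by rwa [mul_comm])

end Cfsg.Agent.S2525
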