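import Cfsg.Statements.S2531
import Mathlib
-- import your own Cfsg.Agent.* helpers here

set_option autoImplicit false
open Cfsg

namespace Cfsg.Agent.S2531


section

open scoped Classical

variable {F : Type*} [Field F] [Finite F] {n : ℕ}

private lemma mk_mem_iff (U : Submodule F (Fin n → F)) (v : Fin n → F) (hv : v ≠ 0) :
    (Projectivization.mk F v hv).rep ∈ U ↔ v ∈ U := by
  obtain ⟨a, ha⟩ := Projectivization.exists_smul_eq_mk_rep F v hv
  rw [← ha]
  exact Submodule.smul_mem_iff' U a

private lemma points_cast (U : Submodule F (Fin n → F)) (hU : U ≠ ⊥) :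
    ((Nat.card {x : Projectivization F (Fin n → F) // x.rep ∈ U} : ℕ) : ZMod (Nat.card F)) = 1 := by
  have hinj : Function.Injective U.subtype := Subtype.val_injective
  let g : Projectivization F U → {x : Projectivization F (Fin n → F) // x.rep ∈ U} := fun x =>
    ⟨Projectivization.map U.subtype hinj x, by
      induction x using Projectivization.ind with
      | h v hv =>
        rw [Projectivization.map_mk]
        exact (mk_mem_iff U _ _).2 v.2⟩
  have hg : Function.Bijective g := by
    refine ⟨fun x y h => ?_, fun x => ?_⟩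
    · exact Projectivization.map_injective U.subtype hinj (congrArg Subtype.val h)
    · refine ⟨Projectivization.mk F (⟨x.1.rep, x.2⟩ : U) ?_, Subtype.ext ?_⟩
      · intro h
        exact x.1.rep_nonzero (congrArg Subtype.val h)
      · simp only [g, Projectivization.map_mk]
        exact x.1.mk_rep
  rw [← Nat.card_eq_of_bijective g hg]
  have h1 := Projectivization.card' F U
  have hq : 1 ≤ Nat.card F := Nat.card_pos
  have hd : Module.finrank F U ≠ 0 := fun h => hU (Submodule.finrank_eq_zero.1 h)
  rw [Module.natCard_eq_pow_finrank (K := F)] at h1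
  have h2 := congrArg (fun k : ℕ => (k : ZMod (Nat.card F))) h1
  simp only [Nat.cast_pow, ZMod.natCast_self, zero_pow hd, Nat.cast_add, Nat.cast_mul,
    Nat.cast_sub hq, Nat.cast_one, zero_sub, mul_neg, mul_one] at h2
  linear_combination h2

end

/-- Let `F` be a finite field and `n ≥ 3`. No set of permutations of the points of the projective space of `Fⁿ`, each induced by an invertible semilinear transformation of `Fⁿ` (so a subset of the full projective semilinear group), is sharply 2-transitive on the points: it is impossible that for all pairs of distinct points `(a, b)` and `(c, d)` exactly one member of the set sends `a` to `c` and `b` to `d`. -/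
theorem result {F : Type*} [Field F] [Finite F]
    (n : ℕ) (hn : 3 ≤ n) (S : Set (Equiv.Perm (Projectivization F (Fin n → F))))
    (hS : ∀ s ∈ S, ∃ (σ : F ≃+* F) (f : (Fin n → F) →ₛₗ[(σ : F →+* F)] (Fin n → F)) (hf : Function.Injective f),
      ∀ x, s x = Projectivization.map f hf x) :
    ¬ (∀ a b c d : Projectivization F (Fin n → F), a ≠ b → c ≠ d →
        ∃! s, s ∈ S ∧ s a = c ∧ s b = d) := by
  classical
  intro h
  have hq : 1 < Nat.card F := Finite.one_lt_card
  haveI : Fact (1 < Nat.card F) := ⟨hq⟩
  haveI : Fintype F := Fintype.ofFinite F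
  haveI : Fintype (Projectivization F (Fin n → F)) := Fintype.ofFinite _
  let i0 : Fin n := ⟨0, by omega⟩
  let W : Submodule F (Fin n → F) := LinearMap.ker (LinearMap.proj i0 : (Fin n → F) →ₗ[F] F)
  have hWmem : ∀ v, v ∈ W ↔ v i0 = 0 := fun v => Iff.rfl
  have hsurj : Function.Surjective (LinearMap.proj i0 : (Fin n → F) →ₗ[F] F) :=
    fun c => ⟨fun _ => c, rfl⟩
  have hWrank : Module.finrank F W + 1 = n := by
    have := LinearMap.finrank_range_add_finrank_ker (LinearMap.proj i0 : (Fin n → F) →ₗ[F] F)
    rw [LinearMap.range_eq_top.2 hsurj, finrank_top, Module.finrank_self, Module.finrank_fin_fun]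
      at this
    change 1 + Module.finrank F W = n at this
    omega
  have hWne : W ≠ ⊥ := by
    intro hb
    rw [hb, finrank_bot] at hWrank
    omega
  have hne : (Pi.single i0 1 : Fin n → F) ≠ 0 := by simp
  let a := Projectivization.mk F (Pi.single i0 1 : Fin n → F) hne
  have ha : a.rep ∉ W := by
    rw [mk_mem_iff, hWmem]
    simp
  let H := Finset.univ.filter fun x : Projectivization F (Fin n → F) => x.rep ∈ W
  have hHmem : ∀ x, x ∈ H ↔ x.rep ∈ W := fun x => by simp [H]
  have hHne : ∀ x ∈ H, x ≠ a := fun x hx hxa => ha (hxa ▸ (hHmem x).1 hx)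
  have hHcast : (H.card : ZMod (Nat.card F)) = 1 := by
    rw [← points_cast W hWne, Nat.subtype_card H hHmem]
  let T := Finset.univ.filter fun s : Equiv.Perm (Projectivization F (Fin n → F)) => s ∈ S ∧ s a = a
  have hT : ∀ y, y ≠ a → ∀ P : Finset (Projectivization F (Fin n → F)), (∀ z ∈ P, z ≠ a) →
      (T.filter fun s => s y ∈ P).card = P.card := by
    intro y hy P hP
    refine Finset.card_bij (fun s _ => s y) (fun s hs => (Finset.mem_filter.1 hs).2) ?_ ?_
    · intro s hs t ht hst
      simp only [T, Finset.mem_filter, Finset.mem_univ, true_and] at hs ht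
      exact (h a y a (s y) hy.symm (hP _ hs.2).symm).unique ⟨hs.1.1, hs.1.2, rfl⟩
        ⟨ht.1.1, ht.1.2, hst.symm⟩
    · intro z hz
      obtain ⟨s, ⟨hs, hsa, hsy⟩, -⟩ := h a y a z hy.symm (hP z hz).symm
      exact ⟨s, by simp [T, hs, hsa, hsy, hz], hsy⟩
  obtain ⟨y0, hy0⟩ : ∃ y, y ∈ H := by
    obtain ⟨v, hv, hv0⟩ := Submodule.exists_mem_ne_zero_of_ne_bot hWne
    exact ⟨Projectivization.mk F v hv0, (hHmem _).2 ((mk_mem_iff W v hv0).2 hv)⟩
  have hTcast : (T.card : ZMod (Nat.card F)) = 0 := by
    have h1 := hT y0 (hHne y0 hy0) (Finset.univ.erase a) fun z hz => (Finset.mem_erase.1 hz).1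
    rw [Finset.filter_true_of_mem] at h1
    · rw [h1, Finset.card_erase_of_mem (Finset.mem_univ a), Nat.cast_sub (by
        exact Finset.card_pos.2 ⟨a, Finset.mem_univ a⟩)]
      have htop : (⊤ : Submodule F (Fin n → F)) ≠ ⊥ := fun ht => hWne (le_bot_iff.1 (ht ▸ le_top))
      rw [Finset.card_univ, ← Nat.card_eq_fintype_card,
        ← Nat.card_congr (Equiv.subtypeUnivEquiv (p := fun x : Projectivization F (Fin n → F) =>
          x.rep ∈ (⊤ : Submodule F (Fin n → F))) fun _ => Submodule.mem_top),
        points_cast ⊤ htop, Nat.cast_one, sub_self]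
    · intro s hs
      simp only [T, Finset.mem_filter, Finset.mem_univ, true_and] at hs
      refine Finset.mem_erase.2 ⟨fun he => hHne y0 hy0 (s.injective (he.trans hs.2.symm)),
        Finset.mem_univ _⟩
  have hterm : ∀ s ∈ T, ((H.filter fun y => s y ∈ H).card : ZMod (Nat.card F)) = 1 := by
    intro s hs
    simp only [T, Finset.mem_filter, Finset.mem_univ, true_and] at hs
    obtain ⟨σ, f, hf, hsf⟩ := hS s hs.1
    let U : Submodule F (Fin n → F) := W ⊓ W.comap f
    have hU : U ≠ ⊥ := by
      intro hb
      have hinj : Function.Injective fun p : W × W => f p.1 - (p.2 : Fin n → F) := by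
        rintro ⟨u, v⟩ ⟨u', v'⟩ he
        have he' : f ((u : Fin n → F) - u') = (v : Fin n → F) - v' := by
          rw [map_sub]
          exact sub_eq_sub_iff_sub_eq_sub.1 he
        have hm : (u : Fin n → F) - u' ∈ U := by
          refine ⟨W.sub_mem u.2 u'.2, ?_⟩
          change f ((u : Fin n → F) - u') ∈ W
          rw [he']
          exact W.sub_mem v.2 v'.2
        rw [hb, Submodule.mem_bot] at hm
        have hu : u = u' := Subtype.ext (sub_eq_zero.1 hm)
        rw [hm, map_zero, eq_comm, sub_eq_zero] at he'
        exact Prod.ext hu (Subtype.ext he')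
      have hle := Nat.card_le_card_of_injective _ hinj
      rw [Nat.card_prod, Module.natCard_eq_pow_finrank (K := F) (V := W),
        Module.natCard_eq_pow_finrank (K := F) (V := Fin n → F), Module.finrank_fin_fun,
        ← pow_add, pow_le_pow_iff_right₀ hq] at hle
      omega
    have hset : (H.filter fun y => s y ∈ H) =
        Finset.univ.filter fun y : Projectivization F (Fin n → F) => y.rep ∈ U := by
      ext y
      simp only [Finset.mem_filter, Finset.mem_univ, true_and, hHmem, U, Submodule.mem_inf,
        Submodule.mem_comap]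
      refine and_congr Iff.rfl ?_
      rw [hsf y]
      conv_lhs => rw [← Projectivization.mk_rep y, Projectivization.map_mk]
      exact mk_mem_iff W _ _
    rw [hset, ← points_cast U hU,
      Nat.subtype_card (Finset.univ.filter fun y : Projectivization F (Fin n → F) => y.rep ∈ U)
        fun x => by simp]
  have hdc : ∑ s ∈ T, (H.filter fun y => s y ∈ H).card = H.card * H.card := by
    simp only [Finset.card_filter]
    rw [Finset.sum_comm, ← smul_eq_mul, ← Finset.sum_const]
    refine Finset.sum_congr rfl fun y hy => ?_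
    rw [← Finset.card_filter]
    exact hT y (hHne y hy) H hHne
  have hc := congrArg (fun k : ℕ => (k : ZMod (Nat.card F))) hdc
  simp only [Nat.cast_sum, Nat.cast_mul, hHcast, Finset.sum_congr rfl hterm, Finset.sum_const,
    nsmul_eq_mul, hTcast, mul_one] at hc
  exact zero_ne_one hc

end Cfsg.Agent.S2531
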