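import Cfsg.Statements.S2532
import Mathlib

set_option autoImplicit false
open Cfsg

namespace Cfsg.Agent.S2532

/-- There is a function `f` of two natural-number arguments such that, whenever `m ≥ f(n, r)`, every subgroup of order `n` of the alternating group of degree `m` centralizes some subgroup of that alternating group isomorphic to the alternating group of degree `r`. -/
theorem result :
    ∃ f : ℕ → ℕ → ℕ, ∀ (m r : ℕ) (H : Subgroup ↥(alternatingGroup (Fin m))), f (Nat.card H) r ≤ m →
      ∃ K : Subgroup ↥(alternatingGroup (Fin m)), Nonempty (↥K ≃* ↥(alternatingGroup (Fin r))) ∧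
        K ≤ Subgroup.centralizer (H : Set ↥(alternatingGroup (Fin m))) := by
  classical
  refine ⟨fun n r => n * (2 ^ n * r) + 1, fun m r H hm => ?_⟩
  obtain ⟨n, hn⟩ : ∃ n, Nat.card H = n := ⟨_, rfl⟩
  simp only [hn] at hm
  let S : Quotient (MulAction.orbitRel H (Fin m)) → Subgroup H :=
    fun o => MulAction.stabilizer H o.out
  haveI : Fintype (Quotient (MulAction.orbitRel H (Fin m))) := Fintype.ofFinite _
  haveI : Fintype H := Fintype.ofFinite _
  have horb : m ≤ Fintype.card (Quotient (MulAction.orbitRel H (Fin m))) * n := by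
    have hs : Function.Surjective
        (fun p : Quotient (MulAction.orbitRel H (Fin m)) × H => p.2 • p.1.out) := fun y => by
      obtain ⟨h, hh⟩ := MulAction.orbitRel_apply.mp
        (Quotient.mk_out (s := MulAction.orbitRel H (Fin m)) y)
      exact ⟨⟨⟦y⟧, h⁻¹⟩, inv_smul_eq_iff.mpr hh.symm⟩
    have := Fintype.card_le_of_surjective _ hs
    rwa [Fintype.card_fin, Fintype.card_prod, ← Nat.card_eq_fintype_card (α := H), hn] at this
  have hsub : Fintype.card (Subgroup H) ≤ 2 ^ n := by
    rw [← hn, Nat.card_eq_fintype_card, ← Fintype.card_set]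
    exact Fintype.card_le_of_injective (fun T : Subgroup H => (T : Set H)) SetLike.coe_injective
  obtain ⟨T, hT⟩ := Fintype.exists_lt_card_fiber_of_mul_lt_card S (n := r) (by
    by_contra hc
    push Not at hc
    have h1 := horb.trans (Nat.mul_le_mul_right n (hc.trans (Nat.mul_le_mul_right r hsub)))
    rw [mul_comm _ n] at h1
    omega)
  obtain ⟨ι⟩ : Nonempty (Fin r ↪ {o // S o = T}) :=
    Function.Embedding.nonempty_of_card_le (by
      rw [Fintype.card_fin, Fintype.card_subtype]; exact hT.le)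
  let x : Fin r → Fin m := fun i => (ι i).1.out
  have hx : ∀ i j (h k : H), h • x i = k • x j → i = j := by
    intro i j h k e
    refine ι.injective (Subtype.ext ?_)
    rw [← Quotient.out_eq (ι i).1, ← Quotient.out_eq (ι j).1]
    exact Quotient.sound ⟨h⁻¹ * k, by
      show (h⁻¹ * k) • x j = x i
      rw [mul_smul, ← e, inv_smul_smul]⟩
  have hst : ∀ i j (h : H), h • x i = x i → h • x j = x j := by
    intro i j h e
    have hi : h ∈ S (ι i).1 := e
    rw [(ι i).2, ← (ι j).2] at hi
    exact hi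
  let e : Equiv.Perm (Fin r) → Fin m → Fin m := fun σ y =>
    if hy : ∃ i, ∃ h : H, h • x i = y then hy.choose_spec.choose • x (σ hy.choose) else y
  have e1 : ∀ σ i (h : H), e σ (h • x i) = h • x (σ i) := by
    intro σ i h
    have hy : ∃ j, ∃ k : H, k • x j = h • x i := ⟨i, h, rfl⟩
    simp only [e, dif_pos hy]
    have hk := hy.choose_spec.choose_spec
    have hj : hy.choose = i := hx _ _ _ _ hk
    have hh : (h⁻¹ * hy.choose_spec.choose) • x i = x i := by
      rw [mul_smul, inv_smul_eq_iff]; exact (congrArg _ (congrArg x hj.symm)).trans hk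
    have := hst i (σ i) _ hh
    rw [mul_smul, inv_smul_eq_iff] at this
    exact (congrArg _ (congrArg x (congrArg σ hj))).trans this
  have e2 : ∀ σ y, (¬ ∃ i, ∃ h : H, h • x i = y) → e σ y = y := fun σ y hy => by
    simp only [e, dif_neg hy]
  have emul : ∀ σ τ y, e (σ * τ) y = e σ (e τ y) := by
    intro σ τ y
    by_cases hy : ∃ i, ∃ h : H, h • x i = y
    · obtain ⟨i, h, rfl⟩ := hy
      rw [e1, e1, e1]; rfl
    · rw [e2 τ y hy, e2 _ y hy, e2 _ y hy]
  have eone : ∀ y, e 1 y = y := by
    intro y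
    by_cases hy : ∃ i, ∃ h : H, h • x i = y
    · obtain ⟨i, h, rfl⟩ := hy
      rw [e1]; rfl
    · exact e2 _ y hy
  let φ : Equiv.Perm (Fin r) →* Equiv.Perm (Fin m) :=
    { toFun := fun σ => ⟨e σ, e σ⁻¹, fun y => by rw [← emul, inv_mul_cancel, eone],
        fun y => by rw [← emul, mul_inv_cancel, eone]⟩
      map_one' := Equiv.ext eone
      map_mul' := fun σ τ => Equiv.ext (emul σ τ) }
  have hsign : ∀ σ : alternatingGroup (Fin r), φ σ ∈ alternatingGroup (Fin m) := by
    rintro ⟨σ, hσ⟩
    rw [← Equiv.Perm.closure_three_cycles_eq_alternating] at hσ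
    have hle : Subgroup.closure {σ : Equiv.Perm (Fin r) | Equiv.Perm.IsThreeCycle σ} ≤
        (alternatingGroup (Fin m)).comap φ := by
      rw [Subgroup.closure_le]
      intro τ hτ
      rw [SetLike.mem_coe, Subgroup.mem_comap, Equiv.Perm.mem_alternatingGroup]
      have h3 : τ ^ 3 = 1 := by rw [← hτ.orderOf]; exact pow_orderOf_eq_one τ
      have h4 : Equiv.Perm.sign (φ τ) ^ 3 = 1 := by rw [← map_pow, ← map_pow, h3, map_one, map_one]
      rcases Int.units_eq_one_or (Equiv.Perm.sign (φ τ)) with h | h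
      · exact h
      · rw [h] at h4; exact absurd h4 (by decide)
    exact hle hσ
  let ψ : alternatingGroup (Fin r) →* alternatingGroup (Fin m) :=
    (φ.comp (alternatingGroup (Fin r)).subtype).codRestrict _ hsign
  have hinj : Function.Injective ψ := by
    intro σ τ hst'
    refine Subtype.ext (Equiv.ext fun i => ?_)
    have h1 := congrFun (congrArg (fun p : alternatingGroup (Fin m) => ⇑(p : Equiv.Perm (Fin m))) hst') (x i)
    have h2 : e σ ((1 : H) • x i) = e τ ((1 : H) • x i) := by rw [one_smul]; exact h1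
    rw [e1, e1] at h2
    exact hx _ _ _ _ h2
  refine ⟨ψ.range, ⟨(MonoidHom.ofInjective hinj).symm⟩, ?_⟩
  rintro _ ⟨σ, rfl⟩
  rw [Subgroup.mem_centralizer_iff]
  intro h hh
  refine Subtype.ext (Equiv.ext fun y => ?_)
  show (⟨h, hh⟩ : H) • e σ y = e σ ((⟨h, hh⟩ : H) • y)
  by_cases hy : ∃ i, ∃ k : H, k • x i = y
  · obtain ⟨i, k, rfl⟩ := hy
    rw [e1, smul_smul, smul_smul, e1]
  · rw [e2 _ y hy, e2]
    rintro ⟨i, k, hk⟩
    exact hy ⟨i, (⟨h, hh⟩ : H)⁻¹ * k, by rw [mul_smul, hk, inv_smul_smul]⟩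

end Cfsg.Agent.S2532
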