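import Cfsg.Statements.S2533
import Cfsg.Agent.GLElem.KroneckerBrick
import Mathlib

set_option autoImplicit false
open Cfsg

namespace Cfsg.Agent.S2533

/-- For every odd prime `p` there is a finite group `H` of order `2p³` which, for infinitely many `n`, embeds in the projective special linear group `PSL(n, p)` as a subgroup with trivial centralizer. -/
theorem result
    (p : ℕ) [Fact p.Prime] (hp : p ≠ 2) :
    ∃ (H : Type) (_ : Group H) (_ : Finite H), Nat.card H = 2 * p ^ 3 ∧
      ∀ N : ℕ, ∃ n, N ≤ n ∧ ∃ φ : H →* Matrix.ProjectiveSpecialLinearGroup (Fin n) (ZMod p),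
        Function.Injective φ ∧ Subgroup.centralizer (φ.range : Set (Matrix.ProjectiveSpecialLinearGroup (Fin n) (ZMod p))) = ⊥ := by
  classical
  open CfsgLib.KBrick in
  have hp2 : (2 : ZMod p) ≠ 0 := by
    intro h
    have h2 : ((2 : ℕ) : ZMod p) = 0 := by exact_mod_cast h
    rw [ZMod.natCast_eq_zero_iff] at h2
    exact hp ((Nat.prime_dvd_prime_iff_eq (Fact.out : p.Prime) Nat.prime_two).mp h2)
  let c : ℤˣ →* ZMod p := (Int.castRingHom (ZMod p) : ℤ →* ZMod p).comp (Units.coeHom ℤ)
  have hc2 : ∀ u, c u * c u = 1 := fun u => by rw [← map_mul, Int.units_mul_self, map_one]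
  let act : ℤˣ →* MulAut (Multiplicative (Fin 3 → ZMod p)) :=
    { toFun := fun u =>
        { toFun := fun x => Multiplicative.ofAdd (c u • x.toAdd)
          invFun := fun x => Multiplicative.ofAdd (c u • x.toAdd)
          left_inv := fun x => by simp [smul_smul, hc2]
          right_inv := fun x => by simp [smul_smul, hc2]
          map_mul' := fun x y => by simp [smul_add] }
      map_one' := MulEquiv.ext fun x => by simp
      map_mul' := fun u w => MulEquiv.ext fun x => by simp [smul_smul] }
  let H := Multiplicative (Fin 3 → ZMod p) ⋊[act] ℤˣ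
  haveI : Finite H := Finite.of_equiv _ SemidirectProduct.equivProd.symm
  refine ⟨H, inferInstance, inferInstance, ?_, fun N => ?_⟩
  · rw [Nat.card_congr SemidirectProduct.equivProd, Nat.card_prod]
    simp [Nat.card_eq_fintype_card, mul_comm]
  let k := N + 1
  let d := 2 * k
  have hd : 2 ≤ d := by omega
  refine ⟨2 * d + 1, by omega, ?_⟩
  let f2 : ℤˣ →* Matrix.SpecialLinearGroup (Fin (2 * d + 1)) (ZMod p) :=
    { toFun := fun u => ⟨dia d (c u), by
        rw [det_dia, pow_mul, pow_two, hc2, one_pow]⟩
      map_one' := Subtype.ext (show dia d (c 1) = 1 by simp [dia])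
      map_mul' := fun u w => Subtype.ext (show dia d (c (u * w)) = dia d (c u) * dia d (c w) by
        rw [dia, dia, dia, Matrix.diagonal_mul_diagonal, map_mul]
        congr 1; funext i; split_ifs <;> simp) }
  let f1 : Multiplicative (Fin 3 → ZMod p) →* Matrix.SpecialLinearGroup (Fin (2 * d + 1)) (ZMod p) :=
    { toFun := fun x => uni d x.toAdd
      map_one' := uni_zero
      map_mul' := fun x y => (uni_mul _ _).symm }
  let Φ : H →* Matrix.SpecialLinearGroup (Fin (2 * d + 1)) (ZMod p) :=
    SemidirectProduct.lift f1 f2 fun u => by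
      refine MonoidHom.ext fun x => ?_
      show f1 (act u x) = f2 u * f1 x * (f2 u)⁻¹
      rw [eq_mul_inv_iff_mul_eq]
      exact Subtype.ext (dia_conj (hc2 u) x.toAdd).symm
  let Z := Subgroup.center (Matrix.SpecialLinearGroup (Fin (2 * d + 1)) (ZMod p))
  refine ⟨(QuotientGroup.mk' Z).comp Φ, ?_, ?_⟩
  · rw [injective_iff_map_eq_one]
    rintro ⟨x, u⟩ hxu
    obtain ⟨r, -, hr⟩ := Matrix.SpecialLinearGroup.mem_center_iff.mp
      ((QuotientGroup.eq_one_iff _).mp hxu)
    have hr' : Matrix.scalar (Fin (2 * d + 1)) r = (1 + nil d x.toAdd) * dia d (c u) := hr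
    have entry : ∀ i j : Fin (2 * d + 1),
        (if i = j then r else 0) = ((if i = j then 1 else 0) + nil d x.toAdd i j) *
          (if (j : ℕ) < d then c u else 1) := fun i j => by
      have := congrFun (congrFun hr' i) j
      rwa [dia, Matrix.mul_diagonal, Matrix.scalar_apply, Matrix.diagonal_apply, Matrix.add_apply,
        Matrix.one_apply] at this
    have hr1 : r = 1 := by
      simpa [nil] using entry ⟨2 * d, by omega⟩ ⟨2 * d, by omega⟩ |>.trans
        (by rw [if_neg (show ¬ 2 * d < d by omega), mul_one]; simp [nil])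
    have hcu : c u = 1 := by
      have := entry ⟨0, by omega⟩ ⟨0, by omega⟩
      simp [nil, hr1, show 0 < d by omega, show d ≠ 0 by omega] at this
      exact this.symm
    have hnil : nil d x.toAdd = 0 := Matrix.ext fun i j => by
      have := entry i j
      rw [hr1, hcu, ite_self, mul_one] at this
      simpa using this
    have hu : u = 1 := by
      rcases Int.units_eq_one_or u with h | h
      · exact h
      · exfalso
        apply hp2
        rw [h] at hcu
        simp [c] at hcu
        linear_combination -hcu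
    exact SemidirectProduct.ext (by simpa using eq_zero_of_nil hd hnil) hu
  · rw [eq_bot_iff]
    intro z hz
    obtain ⟨g, rfl⟩ := QuotientGroup.mk_surjective z
    rw [Subgroup.mem_centralizer_iff] at hz
    have hrel : ∀ h : H, ∃ r : ZMod p,
        (g : Matrix (Fin (2 * d + 1)) (Fin (2 * d + 1)) (ZMod p)) * Φ h = r • ((Φ h).1 * g.1) := by
      intro h
      have e := hz _ ⟨h, rfl⟩
      rw [MonoidHom.comp_apply, QuotientGroup.mk'_apply, ← QuotientGroup.mk_mul,
        ← QuotientGroup.mk_mul, QuotientGroup.eq] at e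
      obtain ⟨r, -, hr⟩ := Matrix.SpecialLinearGroup.mem_center_iff.mp e
      refine ⟨r, ?_⟩
      have hgΦ : g * Φ h = Φ h * g * ((Φ h * g)⁻¹ * (g * Φ h)) := by group
      have := congrArg Subtype.val hgΦ
      simp only [Matrix.SpecialLinearGroup.coe_mul] at this hr
      rw [this, ← hr]
      ext i j
      simp [mul_comm]
    set A : Matrix (Fin (2 * d + 1)) (Fin (2 * d + 1)) (ZMod p) := g.1 with hA
    have hAi : IsUnit A.det := by rw [hA, g.2]; exact isUnit_one
    have hD : A * dia d (-1) = dia d (-1) * A := by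
      obtain ⟨r, hr⟩ := hrel (SemidirectProduct.inr (-1))
      have hc : c (-1) = -1 := by simp [c]
      have hΦ : Φ (SemidirectProduct.inr (-1)) = f2 (-1) := SemidirectProduct.lift_inr _ _ _ _
      rw [hΦ] at hr
      have e : A * dia d (-1) = r • (dia d (-1) * A) := hc ▸ hr
      have ht := congrArg Matrix.trace (congrArg (A⁻¹ * ·) e)
      simp only [Matrix.mul_smul, Matrix.trace_smul, ← Matrix.mul_assoc,
        Matrix.nonsing_inv_mul A hAi, Matrix.one_mul] at ht
      rw [Matrix.trace_mul_comm, ← Matrix.mul_assoc, Matrix.mul_nonsing_inv A hAi, Matrix.one_mul,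
        trace_dia, mul_neg_one, neg_add_cancel_left, smul_eq_mul, mul_one] at ht
      rw [e, ← ht, one_smul]
    have hN : ∀ v, A * nil d v = nil d v * A := by
      intro v
      obtain ⟨r, hr⟩ := hrel (SemidirectProduct.inl (Multiplicative.ofAdd v))
      have hΦ : Φ (SemidirectProduct.inl (Multiplicative.ofAdd v)) = uni d v :=
        SemidirectProduct.lift_inl _ _ _ _
      rw [hΦ] at hr
      have e : A * (1 + nil d v) = r • ((1 + nil d v) * A) := hr
      have e1 : A * nil d v * A⁻¹ = (r - 1) • 1 + r • nil d v := by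
        have := congrArg (· * A⁻¹) e
        simp only [Matrix.mul_add, Matrix.add_mul, Matrix.mul_one, Matrix.one_mul, smul_mul_assoc,
          Matrix.mul_assoc, Matrix.mul_nonsing_inv A hAi] at this
        rw [Matrix.mul_assoc, eq_sub_of_add_eq' this]
        module
      have e2 : (A * nil d v * A⁻¹) * (A * nil d v * A⁻¹) = 0 := by
        calc _ = A * (nil d v * (A⁻¹ * A) * nil d v) * A⁻¹ := by simp only [Matrix.mul_assoc]
          _ = 0 := by
            rw [Matrix.nonsing_inv_mul A hAi, Matrix.mul_one, nil_mul_nil, Matrix.mul_zero,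
              Matrix.zero_mul]
      rw [e1] at e2
      simp only [Matrix.add_mul, Matrix.mul_add, smul_mul_assoc, mul_smul_comm, Matrix.one_mul,
        Matrix.mul_one, nil_mul_nil, smul_zero] at e2
      have h00 := congrFun (congrFun e2 ⟨0, by omega⟩) ⟨0, by omega⟩
      simp [nil, show d ≠ 0 by omega] at h00
      rw [sub_eq_zero] at h00
      rw [h00, one_smul, Matrix.mul_add, Matrix.add_mul, Matrix.mul_one, Matrix.one_mul] at e
      exact add_left_cancel e
    obtain ⟨r, hr⟩ := eq_scalar (by omega) A (u := -1) (fun h => hp2 (by linear_combination -h)) hD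
      (hN _) (hN _)
    rw [Subgroup.mem_bot, QuotientGroup.eq_one_iff, Matrix.SpecialLinearGroup.mem_center_iff]
    refine ⟨r, ?_, hr.symm⟩
    have := congrArg Matrix.det hr
    rw [hA, g.2] at this
    simpa [Matrix.scalar_apply] using this.symm

end Cfsg.Agent.S2533
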