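import Cfsg.Statements.S2534
import Cfsg.Agent.SymHall.Counter
-- import your own Cfsg.Agent.* helpers here

set_option autoImplicit false
open Cfsg

namespace Cfsg.Agent.S2534

/-- For `n ≥ 5` and a set of primes `π`, the alternating group of degree `n` satisfies the full Sylow analogue for `π` (its maximal `π`-subgroups are pairwise conjugate; for a finite group this says Hall `π`-subgroups exist, are all conjugate, and contain every `π`-subgroup up to conjugacy) if and only if either at most one prime of `π` divides its order or every prime dividing its order lies in `π`. -/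
theorem result (n : ℕ) (hn : 5 ≤ n) (π : Set ℕ) :
    Cfsg.IsDPiGroup π ↥(alternatingGroup (Fin n)) ↔
      ((∀ r s : ℕ, r.Prime → s.Prime → r ∈ π → s ∈ π → r ∣ Nat.card ↥(alternatingGroup (Fin n)) → s ∣ Nat.card ↥(alternatingGroup (Fin n)) → r = s) ∨
        ∀ r : ℕ, r.Prime → r ∣ Nat.card ↥(alternatingGroup (Fin n)) → r ∈ π) := by
  classical
  set A := alternatingGroup (Fin n) with hA
  have hfin : Fintype.card (Fin n) = n := Fintype.card_fin n
  have hdiv : ∀ r : ℕ, r.Prime → (r ∣ Nat.card A ↔ r ≤ n) := fun r hr => by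
    refine ⟨fun h => hfin ▸ CfsgLib.SymHall.le_card_of_dvd_factorial hr (h.trans (Subgroup.card_subgroup_dvd_card A)),
      fun h => CfsgLib.SymHall.prime_dvd_card_alt hfin (by omega) hr h⟩
  have above : ∀ L : Subgroup A, Cfsg.IsPiSubgroup π L → ∃ M, L ≤ M ∧ Maximal (Cfsg.IsPiSubgroup π) M :=
    fun L hL => Finite.exists_le_maximal hL
  have conjle : ∀ (L : Subgroup A) (g : A), Nat.card (L.map (MulAut.conj g).toMonoidHom) = Nat.card L :=
    fun L g => Subgroup.card_map_of_injective (MulAut.conj g).injective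
  constructor
  · intro hD
    by_contra hnot
    push Not at hnot
    obtain ⟨⟨r, s, hr, hs, hrπ, hsπ, hrd, hsd, hrs⟩, o, ho, hod, hoπ⟩ := hnot
    have htwo : CfsgLib.SymHall.Two π (Fintype.card (Fin n)) :=
      ⟨r, s, hr, hs, hrs, hrπ, hsπ, hfin.symm ▸ (hdiv r hr).1 hrd, hfin.symm ▸ (hdiv s hs).1 hsd⟩
    have hall : ¬ CfsgLib.SymHall.All π (Fintype.card (Fin n)) := fun h =>
      hoπ (h o ho (hfin.symm ▸ (hdiv o ho).1 hod))
    have hallHall : ∀ M : Subgroup A, Maximal (Cfsg.IsPiSubgroup π) M → Cfsg.IsPiHall π M := by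
      intro M hM
      refine ⟨hM.1, fun p hp hpπ hd => ?_⟩
      haveI := Fact.mk hp
      obtain ⟨P⟩ : Nonempty (Sylow p A) := inferInstance
      have hPπ : Cfsg.IsPiSubgroup π (P : Subgroup A) := fun q hq hqd => by
        obtain ⟨k, hk⟩ := IsPGroup.iff_card.1 P.2
        rw [hk] at hqd
        rwa [(Nat.prime_dvd_prime_iff_eq hq hp).1 (hq.dvd_of_dvd_pow hqd)]
      obtain ⟨M', hPM, hM'⟩ := above _ hPπ
      obtain ⟨g, hg⟩ := hD M M' hM hM'
      have h1 : M'.index = M.index := by
        have := M'.card_mul_index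
        rw [hg, conjle, ← M.card_mul_index, ← hg] at this
        exact Nat.eq_of_mul_eq_mul_left Nat.card_pos this
      exact P.not_dvd_index (hd.trans (h1 ▸ Subgroup.index_dvd_of_le hPM))
    obtain ⟨M, -, hM⟩ := above ⊥ (fun p hp hd => absurd (Subgroup.card_bot (G := A) ▸ hd) hp.not_dvd_one)
    obtain ⟨f₀, -, hc₀⟩ := CfsgLib.SymHall.classify (CfsgLib.SymHall.hyp_alt_iff.2 (hallHall M hM)) htwo hall
    obtain ⟨K, hKA, hKπ, hK⟩ : ∃ K : Subgroup (Equiv.Perm (Fin n)), K ≤ A ∧ Cfsg.IsPiSubgroup π K ∧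
        ∀ f : Fin n → Bool, CfsgLib.SymHall.Case π n (Nat.card {x // f x = true}) →
          ¬ K ≤ CfsgLib.SymHall.blk f := by
      rw [hfin] at hc₀
      rcases hc₀ with ⟨-, hp, hL⟩ | ⟨-, e, hT⟩ | ⟨-, e, hT⟩
      · exact CfsgLib.SymHall.counter_prime hp hn hL
      · subst e; exact CfsgLib.SymHall.counter_seven hT
      · subst e; exact CfsgLib.SymHall.counter_eight hT
    have hK' : Cfsg.IsPiSubgroup π (K.subgroupOf A) := fun p hp hd =>
      hKπ p hp (hd.trans (dvd_of_eq (Nat.card_congr (Subgroup.subgroupOfEquivOfLe hKA).toEquiv)))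
    obtain ⟨M', hKM, hM'⟩ := above _ hK'
    obtain ⟨f, hf, hc⟩ := CfsgLib.SymHall.classify (CfsgLib.SymHall.hyp_alt_iff.2 (hallHall M' hM')) htwo hall
    rw [hfin] at hc
    refine hK f hc (le_trans ?_ hf)
    intro x hx
    exact ⟨⟨x, hKA hx⟩, hKM (Subgroup.mem_subgroupOf.2 hx), rfl⟩
  · intro h H K hH hK
    rcases h with h | h
    · by_cases h0 : ∃ q : ℕ, q.Prime ∧ q ∈ π ∧ q ∣ Nat.card A
      · obtain ⟨q, hq, hqπ, hqd⟩ := h0
        haveI := Fact.mk hq
        have key : ∀ L : Subgroup A, Maximal (Cfsg.IsPiSubgroup π) L → ∃ P : Sylow q A, L = P := by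
          intro L hL
          have hLp : IsPGroup q L := by
            rw [IsPGroup.iff_card]
            exact ⟨_, Nat.eq_prime_pow_of_unique_prime_dvd Nat.card_pos.ne' fun {p} hp hd =>
              h p q hp hq (hL.1 p hp hd) hqπ (hd.trans (Subgroup.card_subgroup_dvd_card L)) hqd⟩
          obtain ⟨P, hP⟩ := hLp.exists_le_sylow
          refine ⟨P, le_antisymm hP (hL.2 (fun p hp hd => ?_) hP)⟩
          obtain ⟨k, hk⟩ := IsPGroup.iff_card.1 P.2
          rw [hk] at hd
          rwa [(Nat.prime_dvd_prime_iff_eq hp hq).1 (hp.dvd_of_dvd_pow hd)]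
        obtain ⟨P, rfl⟩ := key H hH
        obtain ⟨Q, rfl⟩ := key K hK
        obtain ⟨g, hg⟩ := MulAction.exists_smul_eq A P Q
        exact ⟨g, by rw [← hg, Sylow.coe_subgroup_smul]; rfl⟩
      · push Not at h0
        have key : ∀ L : Subgroup A, Cfsg.IsPiSubgroup π L → L = ⊥ := by
          intro L hL
          rw [Subgroup.eq_bot_iff_card]
          by_contra hne
          obtain ⟨p, hp, hd⟩ := Nat.exists_prime_and_dvd hne
          exact h0 p hp (hL p hp hd) (hd.trans (Subgroup.card_subgroup_dvd_card L))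
        exact ⟨1, by rw [key H hH.1, key K hK.1, Subgroup.map_bot]⟩
    · have key : ∀ L : Subgroup A, Maximal (Cfsg.IsPiSubgroup π) L → L = ⊤ := fun L hL =>
        top_le_iff.1 (hL.2 (fun p hp hd => h p hp (hd.trans (dvd_of_eq Subgroup.card_top))) le_top)
      exact ⟨1, by rw [key H hH, key K hK, ← MonoidHom.range_eq_map]; exact (MonoidHom.range_eq_top.2 (MulAut.conj (1 : A)).surjective).symm⟩

end Cfsg.Agent.S2534
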