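import Cfsg.Statements.S2535
import Cfsg.Agent.SymHall.Conseq
-- import your own Cfsg.Agent.* helpers here

set_option autoImplicit false
open Cfsg

namespace Cfsg.Agent.S2535

/-- For every `n` and every set of primes `π`, the following are equivalent for the symmetric group `S` of degree `n` and its alternating subgroup `A`: `S` has a Hall `π`-subgroup; `S` has a Hall `π`-subgroup and all of them are conjugate; `A` has a Hall `π`-subgroup; `A` has a Hall `π`-subgroup and all of them are conjugate. -/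
theorem result (n : ℕ) (π : Set ℕ) :
    (Cfsg.IsEPiGroup π (Equiv.Perm (Fin n)) ↔ Cfsg.IsCPiGroup π (Equiv.Perm (Fin n))) ∧
    (Cfsg.IsEPiGroup π (Equiv.Perm (Fin n)) ↔ Cfsg.IsEPiGroup π ↥(alternatingGroup (Fin n))) ∧
    (Cfsg.IsEPiGroup π ↥(alternatingGroup (Fin n)) ↔ Cfsg.IsCPiGroup π ↥(alternatingGroup (Fin n))) := by
  have hCS : Cfsg.IsEPiGroup π (Equiv.Perm (Fin n)) → Cfsg.IsCPiGroup π (Equiv.Perm (Fin n)) := fun hE =>
    ⟨hE, fun H K hH hK => by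
      obtain ⟨g, -, hg⟩ := (CfsgLib.SymHall.hyp_top_iff.2 hH).conj (CfsgLib.SymHall.hyp_top_iff.2 hK)
      exact ⟨g, hg⟩⟩
  have hCA : Cfsg.IsEPiGroup π ↥(alternatingGroup (Fin n)) → Cfsg.IsCPiGroup π ↥(alternatingGroup (Fin n)) :=
    fun hE => ⟨hE, fun H K hH hK => by
      obtain ⟨g, hgA, hg⟩ := (CfsgLib.SymHall.hyp_alt_iff.2 hH).conj (CfsgLib.SymHall.hyp_alt_iff.2 hK)
      refine ⟨⟨g, hgA⟩, Subgroup.map_injective (alternatingGroup (Fin n)).subtype_injective ?_⟩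
      rw [hg, Subgroup.map_map, Subgroup.map_map]
      rfl⟩
  refine ⟨⟨hCS, fun h => h.1⟩, ⟨fun ⟨H, hH⟩ => ?_, fun ⟨M, hM⟩ => ?_⟩, ⟨hCA, fun h => h.1⟩⟩
  · refine ⟨H.subgroupOf (alternatingGroup (Fin n)), CfsgLib.SymHall.hyp_alt_iff.1 ?_⟩
    rw [Subgroup.subgroupOf_map_subtype]
    exact (CfsgLib.SymHall.hyp_top_iff.2 hH).inter
  · obtain ⟨M₀, h, -⟩ := (CfsgLib.SymHall.hyp_alt_iff.2 hM).extend
    exact ⟨M₀, CfsgLib.SymHall.hyp_top_iff.1 h⟩

end Cfsg.Agent.S2535
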