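import Cfsg.Statements.S2536
import Cfsg.Agent.SymHall.Conseq
-- import your own Cfsg.Agent.* helpers here

set_option autoImplicit false
open Cfsg

namespace Cfsg.Agent.S2536

/-- Let `π` be a set of primes and `n` a natural number such that at least two primes of `π` divide `n!` but not every prime dividing `n!` lies in `π`. Then the symmetric group of degree `n` has a Hall `π`-subgroup if and only if either `n` is prime and the primes of `π` dividing `n!` are exactly the primes smaller than `n` (a point stabilizer is then such a subgroup), or `n ∈ {7, 8}` and the primes of `π` dividing `n!` are exactly 2 and 3. -/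
theorem result (n : ℕ) (π : Set ℕ)
    (h2 : ∃ r s : ℕ, r.Prime ∧ s.Prime ∧ r ≠ s ∧ r ∈ π ∧ s ∈ π ∧ r ≤ n ∧ s ≤ n)
    (hns : ∃ r : ℕ, r.Prime ∧ r ≤ n ∧ r ∉ π) :
    Cfsg.IsEPiGroup π (Equiv.Perm (Fin n)) ↔
      ((n.Prime ∧ ∀ r : ℕ, r.Prime → r ≤ n → (r ∈ π ↔ r < n)) ∨
       ((n = 7 ∨ n = 8) ∧ ∀ r : ℕ, r.Prime → r ≤ n → (r ∈ π ↔ (r = 2 ∨ r = 3)))) := by
  have hn : Fintype.card (Fin n) = n := Fintype.card_fin n
  have h3 : 3 ≤ n := CfsgLib.SymHall.three_le_of_two h2
  constructor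
  · rintro ⟨H, hH⟩
    have hall : ¬ CfsgLib.SymHall.All π (Fintype.card (Fin n)) := by
      rw [hn]; obtain ⟨r, hr, hrn, hrπ⟩ := hns; exact fun h => hrπ (h r hr hrn)
    exact CfsgLib.SymHall.good_of_shape hn
      (CfsgLib.SymHall.classify (CfsgLib.SymHall.hyp_top_iff.2 hH) (hn.symm ▸ h2) hall)
  · intro h
    have key : ∀ f : Fin n → Bool, CfsgLib.SymHall.Case π n (Nat.card {x // f x = true}) →
        Cfsg.IsEPiGroup π (Equiv.Perm (Fin n)) := fun f hc =>
      ⟨CfsgLib.SymHall.blk f, CfsgLib.SymHall.hyp_top_iff.1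
        (CfsgLib.SymHall.hyp_blk (hn.symm ▸ hc) (hn.symm ▸ h3)).1⟩
    rcases h with h | ⟨e | e, hT⟩
    · refine key (fun x => decide (x = ⟨0, by omega⟩)) (Or.inl ⟨?_, h⟩)
      simp
    · subst e
      exact key (fun x => decide (x.val < 4)) (Or.inr (Or.inl
        ⟨by rw [Nat.card_eq_fintype_card]; rfl, rfl, hT⟩))
    · subst e
      exact key (fun x => decide (x.val < 4)) (Or.inr (Or.inr
        ⟨by rw [Nat.card_eq_fintype_card]; rfl, rfl, hT⟩))

end Cfsg.Agent.S2536
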