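import Cfsg.Statements.S2537
import Cfsg.Agent.PSLTwoHall.Basic

set_option autoImplicit false
open Cfsg

namespace Cfsg.Agent.S2537

/-- Let `F` be a finite field with `q` elements of characteristic `p ≥ 5`, and `ε = 1` if `q ≡ 1 (mod 4)`, `ε = -1` otherwise. Then `PSL(2, F)` has a Hall `{2, 3}`-subgroup if and only if `3` divides `q − ε`, or the `{2,3}`-part of `q² − 1` is 24, or the `{2,3}`-part of `q² − 1` is 48 (the `{2,3}`-part of `m` being the largest divisor of `m` with no prime factor other than 2 and 3). -/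
theorem result {F : Type*} [Field F] [Fintype F] {p : ℕ} [Fact p.Prime] [CharP F p]
    (hp : 5 ≤ p) (q : ℕ) (hq : Fintype.card F = q) :
    (∃ H : Subgroup (Matrix.ProjectiveSpecialLinearGroup (Fin 2) F), Cfsg.IsPiHall ({2, 3} : Set ℕ) H) ↔
      (3 ∣ q - 1 ∧ q % 4 = 1) ∨ (3 ∣ q + 1 ∧ q % 4 = 3) ∨
        2 ^ (q ^ 2 - 1).factorization 2 * 3 ^ (q ^ 2 - 1).factorization 3 = 24 ∨
        2 ^ (q ^ 2 - 1).factorization 2 * 3 ^ (q ^ 2 - 1).factorization 3 = 48 := by
  classical
  subst hq
  rw [← Nat.card_eq_fintype_card]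
  obtain ⟨hodd, h5, h3q, s, t, hst, hs4, ht4, hsq, hG⟩ := CfsgLib.PSLTwoHall.split (F := F) p hp
  set q := Nat.card F
  set G := Matrix.ProjectiveSpecialLinearGroup (Fin 2) F
  have hs0 : s ≠ 0 := by rcases hst with ⟨_, h, _⟩ | ⟨_, h, _⟩ <;> omega
  have ht0 : t ≠ 0 := by omega
  have hq2 : q.factorization 2 = 0 := Nat.factorization_eq_zero_of_not_dvd (by obtain ⟨j, hj⟩ := hodd; omega)
  have hq3 : q.factorization 3 = 0 := Nat.factorization_eq_zero_of_not_dvd h3q
  have ht2 := CfsgLib.PSLTwoHall.factorization_two_of_mod_four ht4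
  have hG : 2 * Nat.card G = q * (s * t) := hG
  have hfac := congrArg Nat.factorization hG
  rw [Nat.factorization_mul two_ne_zero Nat.card_pos.ne', Nat.factorization_mul (by omega) (mul_ne_zero hs0 ht0),
    Nat.factorization_mul hs0 ht0, Nat.prime_two.factorization] at hfac
  have g2 : (Nat.card G).factorization 2 = s.factorization 2 := by
    have := congrArg (fun f : ℕ →₀ ℕ => f 2) hfac
    simp [hq2, ht2, -Nat.card_eq_fintype_card] at this
    omega
  have g3 : (Nat.card G).factorization 3 = s.factorization 3 + t.factorization 3 := by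
    have := congrArg (fun f : ℕ →₀ ℕ => f 3) hfac
    simpa [hq3, -Nat.card_eq_fintype_card] using this
  have hs2 : 2 ≤ s.factorization 2 := (Nat.prime_two.pow_dvd_iff_le_factorization hs0).1 hs4
  have h3st : 1 ≤ s.factorization 3 + t.factorization 3 := by
    have h : 3 ∣ s ∨ 3 ∣ t := by
      rcases (show q % 3 = 1 ∨ q % 3 = 2 by omega) with hm | hm <;>
        rcases hst with ⟨_, h, h'⟩ | ⟨_, h, h'⟩ <;> omega
    rcases h with h | h
    · have := (Nat.prime_three.dvd_iff_one_le_factorization hs0).1 h; omega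
    · have := (Nat.prime_three.dvd_iff_one_le_factorization ht0).1 h; omega
  have hpart : 2 ^ (q ^ 2 - 1).factorization 2 * 3 ^ (q ^ 2 - 1).factorization 3 =
      2 * (2 ^ s.factorization 2 * 3 ^ (s.factorization 3 + t.factorization 3)) := by
    rw [hsq, Nat.factorization_mul hs0 ht0, Finsupp.add_apply, Finsupp.add_apply, ht2, pow_succ]
    ring
  rw [hpart]
  set N := 2 ^ s.factorization 2 * 3 ^ (s.factorization 3 + t.factorization 3) with hN
  have hN0 : N ≠ 0 := by positivity
  have hNfac : N.factorization 2 = s.factorization 2 ∧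
      N.factorization 3 = s.factorization 3 + t.factorization 3 := by
    rw [hN, Nat.factorization_mul (by positivity) (by positivity), Nat.prime_two.factorization_pow,
      Nat.prime_three.factorization_pow]
    simp
  have hNpr : ∀ r : ℕ, r.Prime → r ∣ N → r = 2 ∨ r = 3 := by
    intro r hr hd
    rcases hr.dvd_mul.1 hd with h | h
    · exact Or.inl ((Nat.prime_dvd_prime_iff_eq hr Nat.prime_two).1 (hr.dvd_of_dvd_pow h))
    · exact Or.inr ((Nat.prime_dvd_prime_iff_eq hr Nat.prime_three).1 (hr.dvd_of_dvd_pow h))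
  have hhall : ∀ H : Subgroup G, Cfsg.IsPiHall ({2, 3} : Set ℕ) H ↔ Nat.card H = N := by
    intro H
    have hci := congrArg Nat.factorization H.card_mul_index
    rw [Nat.factorization_mul Nat.card_pos.ne' Subgroup.index_ne_zero_of_finite] at hci
    constructor
    · rintro ⟨ha, hb⟩
      refine CfsgLib.PSLTwoHall.eq_of_factorization Nat.card_pos.ne' hN0
        (fun r hr hd => by simpa using ha r hr hd) hNpr ?_ ?_
      · have := congrArg (fun f : ℕ →₀ ℕ => f 2) hci
        simp [Nat.factorization_eq_zero_of_not_dvd (hb 2 Nat.prime_two (by simp)), -Nat.card_eq_fintype_card] at this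
        omega
      · have := congrArg (fun f : ℕ →₀ ℕ => f 3) hci
        simp [Nat.factorization_eq_zero_of_not_dvd (hb 3 Nat.prime_three (by simp)), -Nat.card_eq_fintype_card] at this
        omega
    · intro hH
      refine ⟨fun r hr hd => by simpa using hNpr r hr (hH ▸ hd), fun r hr hr' hd => ?_⟩
      have h1 := (hr.dvd_iff_one_le_factorization Subgroup.index_ne_zero_of_finite).1 hd
      rw [hH] at hci
      rcases (by simpa using hr' : r = 2 ∨ r = 3) with rfl | rfl
      · have := congrArg (fun f : ℕ →₀ ℕ => f 2) hci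
        simp [-Nat.card_eq_fintype_card] at this
        omega
      · have := congrArg (fun f : ℕ →₀ ℕ => f 3) hci
        simp [-Nat.card_eq_fintype_card] at this
        omega
  have hiff : ((3 ∣ q - 1 ∧ q % 4 = 1) ∨ (3 ∣ q + 1 ∧ q % 4 = 3)) ↔ t.factorization 3 = 0 := by
    rw [Nat.factorization_eq_zero_iff]
    rcases hst with ⟨hm, h, h'⟩ | ⟨hm, h, h'⟩ <;>
    · simp only [Nat.prime_three, not_true_eq_false, ht0, or_false, false_or]
      rcases (show q % 3 = 1 ∨ q % 3 = 2 by omega) with hm3 | hm3 <;> omega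
  rw [← or_assoc, hiff]
  have hd := CfsgLib.Linear.PSLTwo.gcd_eq_two hodd
  have hsplit : (s / 2 = (q - 1) / Nat.gcd 2 (q - 1) ∧ t / 2 = (q + 1) / Nat.gcd 2 (q - 1)) ∨
      (t / 2 = (q - 1) / Nat.gcd 2 (q - 1) ∧ s / 2 = (q + 1) / Nat.gcd 2 (q - 1)) := by
    rw [hd]
    rcases hst with ⟨_, h, h'⟩ | ⟨_, h, h'⟩
    · exact Or.inl ⟨by rw [h], by rw [h']⟩
    · exact Or.inr ⟨by rw [h'], by rw [h]⟩
  have hsh : (s / 2).factorization 2 + 1 = s.factorization 2 ∧ (s / 2).factorization 3 = s.factorization 3 := by
    have e : s = 2 * (s / 2) := by omega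
    have := congrArg Nat.factorization e
    rw [Nat.factorization_mul two_ne_zero (by omega), Nat.prime_two.factorization] at this
    have a := congrArg (fun f : ℕ →₀ ℕ => f 2) this
    have b := congrArg (fun f : ℕ →₀ ℕ => f 3) this
    simp at a b
    exact ⟨by omega, b.symm⟩
  constructor
  · rintro ⟨H, hH⟩
    rw [hhall] at hH
    have h4H : 4 ∣ Nat.card H := hH ▸ Dvd.dvd.mul_right (Nat.pow_dvd_pow 2 hs2) _
    have hpH : ¬ p ∣ Nat.card H := fun h => by
      rcases hNpr p Fact.out (hH ▸ h) with h' | h' <;> omega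
    rcases CfsgLib.Dickson.psl_classification p H with ⟨P, hp', -⟩ | ⟨-, -, hc⟩ | ⟨n, hn, -, hc, hcard, -⟩ |
      ⟨-, hcard, -⟩ | ⟨-, hcard, -⟩ | ⟨-, -, hcard, -⟩ | ⟨f, m, hf, hm, hqf, hc⟩
    · exact absurd hp' hpH
    · exfalso
      rw [hd] at hc
      have h2 : Nat.card H ∣ s / 2 ∨ Nat.card H ∣ t / 2 := by
        rw [hd] at hsplit
        rcases hsplit with ⟨a, b⟩ | ⟨a, b⟩ <;> rcases hc with hc | hc <;> rw [a, b] <;>
          first | exact Or.inl hc | exact Or.inr hc
      rcases h2 with h2 | h2
      · have := ((Nat.factorization_le_iff_dvd Nat.card_pos.ne' (by omega)).2 h2) 2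
        rw [hH, hNfac.1] at this
        omega
      · have := h4H.trans h2
        omega
    · have h2 : n ∣ s / 2 ∨ n ∣ t / 2 := by
        rcases hsplit with ⟨a, b⟩ | ⟨a, b⟩ <;> rcases hc with hc | hc <;> rw [a, b] <;>
          first | exact Or.inl hc | exact Or.inr hc
      rcases h2 with h2 | h2
      · left
        have := ((Nat.factorization_le_iff_dvd (by omega) (by omega)).2 h2) 3
        have e := congrArg (fun k : ℕ => k.factorization 3) (hH.symm.trans hcard)
        simp only [hNfac.2, Nat.factorization_mul two_ne_zero (show n ≠ 0 by omega), Nat.prime_two.factorization,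
          Finsupp.add_apply] at e
        simp at e
        omega
      · exfalso
        have h2n : 2 ∣ n := by
          have := hcard ▸ h4H
          omega
        have := h2n.trans h2
        omega
    · exact Or.inr (Or.inl (by rw [← hH, hcard]))
    · exact Or.inr (Or.inr (by rw [← hH, hcard]))
    · exfalso
      rcases hNpr 5 Nat.prime_five (hH ▸ hcard ▸ (by norm_num)) with h | h <;> omega
    · exfalso
      refine hpH ?_
      rcases hc with ⟨⟨e⟩⟩ | ⟨-, ⟨e⟩⟩
      · rw [Nat.card_congr e.toEquiv, CfsgLib.Linear.PSLTwo.card_pgl]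
        refine Dvd.dvd.mul_right ?_ _
        rw [CfsgLib.Linear.PSLTwo.card_gf p f hf]
        exact dvd_pow_self p (by omega)
      · rw [Nat.card_congr e.toEquiv]
        exact CfsgLib.Linear.PSLTwo.dvd_card p
  · intro h
    suffices ∃ H : Subgroup G, Nat.card H = N by
      obtain ⟨H, hH⟩ := this
      exact ⟨H, (hhall H).2 hH⟩
    rcases h with h | h | h
    · obtain ⟨g, hg⟩ : ∃ g : G, orderOf g = s / 2 := by
        have hmin := CfsgLib.PSL2Spec.exists_orderOf_minus (F := F)
        have hplus := CfsgLib.PSL2Spec.exists_orderOf_plus (F := F) p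
        simp only [← Nat.card_eq_fintype_card] at hmin hplus
        rcases hsplit with ⟨a, -⟩ | ⟨-, a⟩ <;> rw [a]
        · exact hmin
        · exact hplus
      have hnd : N / 2 ∣ s / 2 := by
        have hN2 : N / 2 ≠ 0 := by
          have : 4 ∣ N := Dvd.dvd.mul_right (Nat.pow_dvd_pow 2 hs2) _
          omega
        refine (Nat.factorization_le_iff_dvd hN2 (by omega)).1 fun r => ?_
        have e : N = 2 * (N / 2) := by
          have : 4 ∣ N := Dvd.dvd.mul_right (Nat.pow_dvd_pow 2 hs2) _
          omega
        by_cases hr : r = 2 ∨ r = 3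
        · have e' := congrArg (fun k : ℕ => k.factorization r) e
          simp only [Nat.factorization_mul two_ne_zero hN2, Nat.prime_two.factorization, Finsupp.add_apply] at e'
          rcases hr with rfl | rfl <;> simp at e' <;> omega
        · by_cases hrp : r.Prime
          · rw [Nat.factorization_eq_zero_of_not_dvd fun hd => hr (hNpr r hrp (hd.trans ⟨2, by omega⟩))]
            exact Nat.zero_le _
          · rw [Nat.factorization_eq_zero_of_not_prime _ hrp]
            exact Nat.zero_le _
      obtain ⟨c, hc⟩ := hnd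
      set n := N / 2 with hn
      have hn2 : 2 ≤ n := by
        have : 4 ∣ N := Dvd.dvd.mul_right (Nat.pow_dvd_pow 2 hs2) _
        omega
      have hgn : orderOf (g ^ c) = n := by
        rw [orderOf_pow, hg, hc, Nat.gcd_mul_left_left,
          Nat.mul_div_cancel _ (Nat.pos_of_ne_zero fun h0 => by rw [h0, mul_zero] at hc; omega)]
      have hnp : ¬ orderOf g ∣ p := by
        rw [hg]
        intro hdp
        rcases (Nat.dvd_prime Fact.out).1 hdp with h' | h'
        · omega
        · obtain ⟨m, hpr, hm⟩ := FiniteField.card F p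
          rw [← Nat.card_eq_fintype_card] at hm
          have hps : p ∣ s := ⟨2, by omega⟩
          have hpq : p ∣ q := by rw [show q = _ from hm]; exact dvd_pow_self p m.pos.ne'
          rcases hst with ⟨_, e, _⟩ | ⟨_, e, _⟩
          · have := Nat.dvd_sub hpq (e ▸ hps)
            rw [show q - (q - 1) = 1 by omega] at this
            exact hpr.not_dvd_one this
          · have := Nat.dvd_sub (e ▸ hps) hpq
            rw [show q + 1 - q = 1 by omega] at this
            exact hpr.not_dvd_one this
      obtain ⟨w, hw, hwg⟩ := CfsgLib.Linear.PSLTwo.exists_involution p g hnp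
      have hinv : w * g ^ c * w⁻¹ = (g ^ c)⁻¹ := by rw [← conj_pow, hwg, inv_pow]
      have hwnot : w ∉ Subgroup.zpowers (g ^ c) := by
        intro hmem
        have hcomm : w * g = g * w :=
          (Subgroup.zpowers_le.2 (Subgroup.pow_mem _ (Subgroup.mem_zpowers g) c) hmem).elim fun i hi => by
            rw [← hi]; exact ((Commute.refl g).zpow_left i).eq
        have h2 : g ^ 2 = 1 := by
          rw [pow_two, mul_eq_one_iff_eq_inv, ← hwg, hcomm, mul_inv_cancel_right]
        have h3 := orderOf_le_of_pow_eq_one two_pos h2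
        have hs4' : n = 2 := by
          have h1 : n ∣ orderOf g := ⟨c, hg.trans hc⟩
          have := Nat.le_of_dvd (orderOf_pos g) h1
          omega
        -- here s = 4 and N = 4
        have : s.factorization 2 = 2 ∧ N = 4 := by
          refine ⟨?_, by omega⟩
          have hs' : s = 4 := by omega
          rw [hs', show (4 : ℕ) = 2 ^ 2 from rfl, Nat.prime_two.factorization_pow]
          simp
        have h3' := hNfac.2
        rw [this.2] at h3'
        rw [show (4 : ℕ) = 2 ^ 2 from rfl, Nat.prime_two.factorization_pow] at h3'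
        simp at h3'
        omega
      obtain ⟨D, -, -, hD, -⟩ := CfsgLib.Linear.PSLTwo.exists_dihedral (g ^ c) w hw hinv hwnot
      refine ⟨D, ?_⟩
      rw [hD, hgn]
      have : 4 ∣ N := Dvd.dvd.mul_right (Nat.pow_dvd_pow 2 hs2) _
      omega
    · obtain ⟨H, ⟨e⟩⟩ := CfsgLib.Linear.SmallSub.exists_altFour (F := F) (fun h2 => by
        exfalso
        have := CharP.cast_eq_zero_iff F p 2
        have hp2 : p ∣ 2 := this.1 (by exact_mod_cast h2)
        have := Nat.le_of_dvd two_pos hp2
        omega)
      refine ⟨H, ?_⟩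
      rw [Nat.card_congr e.toEquiv, nat_card_alternatingGroup]
      simp [Nat.factorial]
      omega
    · have h16 : 16 ∣ q ^ 2 - 1 := by
        have h24 : N = 24 := by omega
        have : s.factorization 2 = 3 := by
          rw [← hNfac.1, h24, show (24 : ℕ) = 2 ^ 3 * 3 from rfl,
            Nat.factorization_mul (by norm_num) (by norm_num), Nat.prime_two.factorization_pow, Nat.prime_three.factorization]
          simp
        rw [show (16 : ℕ) = 2 ^ 4 from rfl, hsq,
          Nat.prime_two.pow_dvd_iff_le_factorization (mul_ne_zero hs0 ht0), Nat.factorization_mul hs0 ht0, Finsupp.add_apply]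
        omega
      have hq8 : q % 8 ≠ 3 ∧ q % 8 ≠ 5 := by
        obtain ⟨c, hc⟩ := h16
        have e : q ^ 2 % 16 = 1 := by
          have : 1 ≤ q ^ 2 := Nat.one_le_pow _ _ (by omega)
          omega
        rw [Nat.pow_mod] at e
        constructor <;> intro h8 <;>
          · rcases (show q % 16 = 3 ∨ q % 16 = 11 ∨ q % 16 = 5 ∨ q % 16 = 13 by omega) with h' | h' | h' | h' <;>
              rw [h'] at e <;> norm_num at e
      obtain ⟨x, hx⟩ : IsSquare (2 : F) := FiniteField.isSquare_two_iff.2 (by rwa [← Nat.card_eq_fintype_card])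
      obtain ⟨H, ⟨e⟩⟩ := CfsgLib.Linear.SmallSub.exists_symFour (F := F) (s := x) (fun h2 => by
        have hp2 : p ∣ 2 := (CharP.cast_eq_zero_iff F p 2).1 (by exact_mod_cast h2)
        have := Nat.le_of_dvd two_pos hp2
        omega) (by rw [hx, pow_two])
      refine ⟨H, ?_⟩
      rw [Nat.card_congr e.toEquiv, Nat.card_perm, Nat.card_fin]
      simp [Nat.factorial]
      omega

end Cfsg.Agent.S2537
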