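import Cfsg.Statements.S2540
import Cfsg.Agent.Classical.Transvections
import Cfsg.Agent.Classical.LinearOrder
import Mathlib.Data.Matrix.Basis

set_option autoImplicit false
open Cfsg
open scoped commutatorElement

namespace Cfsg.Agent.S2540

/-- Let F be a finite field and n ≥ 1, excluding the case n = 2 with #F ≤ 3. A subgroup of GL_n(F) that is normalized by every element of SL_n(F) either consists of scalar matrices or contains SL_n(F). -/
theorem result {F : Type*} [Field F] [Fintype F] (n : ℕ) (hn : 1 ≤ n) (hex : ¬ (n = 2 ∧ Fintype.card F ≤ 3)) (G : Subgroup (Matrix.GeneralLinearGroup (Fin n) F)) (hG : ∀ s : Matrix.SpecialLinearGroup (Fin n) F, ∀ g ∈ G, (Matrix.SpecialLinearGroup.toGL s) * g * (Matrix.SpecialLinearGroup.toGL s)⁻¹ ∈ G) : (∀ g ∈ G, ∃ c : F, (g : Matrix (Fin n) (Fin n) F) = c • (1 : Matrix (Fin n) (Fin n) F)) ∨ (Matrix.SpecialLinearGroup.toGL : Matrix.SpecialLinearGroup (Fin n) F →* _).range ≤ G := by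
  classical
  rcases Nat.lt_or_ge n 2 with hn2 | hn2
  · obtain rfl : n = 1 := by omega
    exact Or.inl fun g _ => ⟨(g : Matrix (Fin 1) (Fin 1) F) 0 0, by
      ext i j; rw [Subsingleton.elim i 0, Subsingleton.elim j 0]; simp⟩
  haveI : Nontrivial (Fin n) := Fin.nontrivial_iff_two_le.mpr hn2
  have hcond : 3 ≤ Fintype.card (Fin n) ∨ ∃ x : F, x ≠ 0 ∧ x ^ 2 ≠ 1 := by
    rw [Fintype.card_fin]
    by_cases h3 : 3 ≤ n
    · exact Or.inl h3
    right
    by_contra hc
    push Not at hc
    refine hex ⟨by omega, ?_⟩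
    have hsub : (Finset.univ : Finset F) ⊆ {0, 1, -1} := fun x _ => by
      rcases eq_or_ne x 0 with h | h
      · simp [h]
      · rcases sq_eq_one_iff.mp (hc x h) with h' | h' <;> simp [h']
    exact (Finset.card_le_card hsub).trans Finset.card_le_three
  set SL := Matrix.SpecialLinearGroup (Fin n) F
  let ι : SL →* GL (Fin n) F := Matrix.SpecialLinearGroup.toGL
  let H : Subgroup SL := G.comap ι
  have hHn : H.Normal := ⟨fun h hh s => by
    show ι (s * h * s⁻¹) ∈ G
    rw [map_mul, map_mul, map_inv]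
    exact hG s _ hh⟩
  haveI := CfsgLib.Linear.isSimpleGroup_PSL (F := F) hcond
  have hperf : commutator SL = ⊤ := CfsgLib.Linear.commutator_SL_eq_top hcond
  rcases (hHn.map (QuotientGroup.mk' (Subgroup.center SL)) (QuotientGroup.mk'_surjective _)).eq_bot_or_eq_top with h | h
  · left
    rw [Subgroup.map_eq_bot_iff, QuotientGroup.ker_mk'] at h
    intro g hg
    have hmem : ∀ s : SL, ∀ x : GL (Fin n) F, ι s * g * (ι s)⁻¹ * g⁻¹ * x = x * (ι s * g * (ι s)⁻¹ * g⁻¹) := by
      intro s x
      have h1 : ι s * g * (ι s)⁻¹ * g⁻¹ ∈ ι.range := by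
        show _ ∈ (Matrix.SpecialLinearGroup.toGL (R := F) (n := Fin n)).range
        rw [CfsgLib.Linear.toGL_range, MonoidHom.mem_ker, map_mul, map_mul, map_mul, map_inv, map_inv]
        rw [mul_comm (Matrix.GeneralLinearGroup.det (ι s)), mul_assoc (Matrix.GeneralLinearGroup.det g), mul_inv_cancel, mul_one, mul_inv_cancel]
      obtain ⟨z, hz⟩ := h1
      have hzH : z ∈ H := by
        show ι z ∈ G
        rw [hz]
        exact G.mul_mem (hG s g hg) (G.inv_mem hg)
      obtain ⟨r, -, hr⟩ := Matrix.SpecialLinearGroup.mem_center_iff.mp (h hzH)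
      rw [← hz]
      refine Units.ext ?_
      show (z : Matrix (Fin n) (Fin n) F) * x = x * (z : Matrix (Fin n) (Fin n) F)
      rw [← hr]
      exact (Matrix.scalar_commute _ (Commute.all _) _).eq
    let c : SL →* GL (Fin n) F :=
      { toFun := fun s => ι s * g * (ι s)⁻¹ * g⁻¹
        map_one' := by simp
        map_mul' := fun s t => by
          rw [hmem s (ι t * g * (ι t)⁻¹ * g⁻¹)]
          calc ι (s * t) * g * (ι (s * t))⁻¹ * g⁻¹
              = ι s * (ι t * g * (ι t)⁻¹ * g⁻¹) * (g * (ι s)⁻¹ * g⁻¹) := by rw [map_mul]; group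
            _ = (ι t * g * (ι t)⁻¹ * g⁻¹) * ι s * (g * (ι s)⁻¹ * g⁻¹) := by rw [hmem t (ι s)]
            _ = _ := by group }
    have hc : ∀ s, c s = 1 := fun s => by
      have hle : commutator SL ≤ c.ker := by
        rw [commutator_def, Subgroup.commutator_le]
        intro a _ b _
        rw [MonoidHom.mem_ker, map_commutatorElement]
        exact commutatorElement_eq_one_iff_mul_comm.mpr (hmem a (c b))
      exact hle (hperf ▸ Subgroup.mem_top s)
    have hcomm : ∀ s : SL, Commute (s : Matrix (Fin n) (Fin n) F) (g : Matrix (Fin n) (Fin n) F) := fun s => by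
      have h2 : ι s * g * (ι s)⁻¹ * g⁻¹ = 1 := hc s
      rw [mul_inv_eq_one, mul_inv_eq_iff_eq_mul] at h2
      exact congrArg Units.val h2
    obtain ⟨r, hr⟩ := Matrix.mem_range_scalar_of_commute_single (M := (g : Matrix (Fin n) (Fin n) F)) fun i j hij => by
      have h1 := (hcomm (Matrix.SpecialLinearGroup.transvection hij 1)).sub_left (Commute.one_left _)
      change Commute (Matrix.transvection i j (1 : F) - 1) _ at h1
      rwa [Matrix.transvection, add_sub_cancel_left] at h1
    exact ⟨r, by rw [← hr]; exact (Matrix.smul_one_eq_diagonal r).symm⟩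
  · right
    rintro _ ⟨s, rfl⟩
    show s ∈ H
    have hle : commutator SL ≤ H := by
      rw [commutator_def, Subgroup.commutator_le]
      intro a _ b _
      have hdec : ∀ a : SL, ∃ x ∈ H, x⁻¹ * a ∈ Subgroup.center SL := fun a => by
        obtain ⟨x, hx, hxe⟩ := (h.symm ▸ Subgroup.mem_top _ : (QuotientGroup.mk' (Subgroup.center SL) a) ∈ Subgroup.map (QuotientGroup.mk' (Subgroup.center SL)) H)
        exact ⟨x, hx, QuotientGroup.eq.mp hxe⟩
      obtain ⟨x, hx, hxa⟩ := hdec a
      obtain ⟨y, hy, hyb⟩ := hdec b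
      have e1 : ⁅a, b⁆ = ⁅x, b⁆ := by
        obtain ⟨z, rfl⟩ : ∃ z, a = x * z := ⟨x⁻¹ * a, (mul_inv_cancel_left x a).symm⟩
        rw [inv_mul_cancel_left] at hxa
        simp only [commutatorElement_def, mul_inv_rev]
        calc x * z * b * (z⁻¹ * x⁻¹) * b⁻¹ = x * (z * b) * z⁻¹ * x⁻¹ * b⁻¹ := by group
          _ = x * (b * z) * z⁻¹ * x⁻¹ * b⁻¹ := by rw [Subgroup.mem_center_iff.mp hxa b]
          _ = x * b * x⁻¹ * b⁻¹ := by rw [← mul_assoc x b z, mul_inv_cancel_right]
      rw [e1, commutatorElement_def, mul_assoc x b, mul_assoc x]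
      exact H.mul_mem hx (hHn.conj_mem _ (H.inv_mem hx) b)
    exact hle (hperf ▸ Subgroup.mem_top s)

end Cfsg.Agent.S2540
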