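import Cfsg.Statements.S2541


set_option autoImplicit false
open Cfsg

namespace Cfsg.Agent.S2541

/-- Let F be a field with 9 elements. The symmetric group S_6 is not isomorphic to PGL_2(F) (although both have index-2 subgroups isomorphic to A_6). -/
theorem result {F : Type*} [Field F] [Fintype F] (hF : Fintype.card F = 9) : ¬ Nonempty (Equiv.Perm (Fin 6) ≃* Matrix.ProjGenLinGroup (Fin 2) F) := by
  rintro ⟨e⟩
  obtain ⟨μ, hμ⟩ := IsCyclic.exists_ofOrder_eq_natCard (α := Fˣ)
  rw [Nat.card_units, Nat.card_eq_fintype_card, hF] at hμ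
  let d : Fˣ →* GL (Fin 2) F :=
    { toFun := fun u => ⟨Matrix.diagonal ![(u : F), 1], Matrix.diagonal ![((u⁻¹ : Fˣ) : F), 1],
        by rw [Matrix.diagonal_mul_diagonal, ← Matrix.diagonal_one]; congr 1; funext i; fin_cases i <;> simp,
        by rw [Matrix.diagonal_mul_diagonal, ← Matrix.diagonal_one]; congr 1; funext i; fin_cases i <;> simp⟩
      map_one' := by ext i j; fin_cases i <;> fin_cases j <;> simp
      map_mul' := fun u v => by ext i j; fin_cases i <;> fin_cases j <;> simp }
  have hinj : Function.Injective ((Matrix.ProjGenLinGroup.mk).comp d) := by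
    rw [injective_iff_map_eq_one]
    intro u hu
    rw [MonoidHom.comp_apply, Matrix.ProjGenLinGroup.mk_eq_one,
      Matrix.GeneralLinearGroup.mem_center_iff_val_mem_range_scalar] at hu
    obtain ⟨a, ha⟩ := hu
    have h0 := congrFun (congrFun ha 0) 0
    have h1 := congrFun (congrFun ha 1) 1
    simp [d] at h0 h1
    exact Units.ext (by rw [← h0, h1]; rfl)
  have hσ := (MulEquiv.orderOf_eq e.symm _).trans ((orderOf_injective _ hinj μ).trans hμ)
  set σ := e.symm ((Matrix.ProjGenLinGroup.mk).comp d μ) with hσdef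
  have h4 : σ.cycleType.lcm ∣ 4 := by
    refine Multiset.lcm_dvd.mpr fun c hc => ?_
    have h8 : c ∣ 8 := (show 9 - 1 = 8 from rfl) ▸ hσ ▸ Equiv.Perm.dvd_of_mem_cycleType hc
    have hle : c ≤ 6 := by
      calc c ≤ σ.cycleType.sum := Multiset.le_sum_of_mem hc
        _ = σ.support.card := σ.sum_cycleType
        _ ≤ 6 := by simpa using Finset.card_le_univ σ.support
    interval_cases c <;> first | omega | decide
  rw [σ.lcm_cycleType, hσ] at h4
  norm_num at h4

end Cfsg.Agent.S2541
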