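import Cfsg.Statements.S2551
import Cfsg.Agent.Classical.AltSevenFourTwo
import Cfsg.Agent.S0256

set_option autoImplicit false
open Cfsg

namespace Cfsg.Agent.S2551

/-- Let F be the field with 2 elements. GL_4(F) (≅ A_8) has a subgroup isomorphic to the alternating group A_7, and every such subgroup acts 2-transitively on the 15 non-zero vectors of F⁴: any ordered pair of distinct non-zero vectors is carried to any other by some element of the subgroup. -/
theorem result {F : Type*} [Field F] [Fintype F] (hF : Fintype.card F = 2) : (∃ H : Subgroup (Matrix.GeneralLinearGroup (Fin 4) F), Nonempty (H ≃* alternatingGroup (Fin 7))) ∧ ∀ H : Subgroup (Matrix.GeneralLinearGroup (Fin 4) F), Nonempty (H ≃* alternatingGroup (Fin 7)) → ∀ v w v' w' : Fin 4 → F, v ≠ 0 → w ≠ 0 → v ≠ w → v' ≠ 0 → w' ≠ 0 → v' ≠ w' → ∃ g ∈ H, (g : Matrix (Fin 4) (Fin 4) F).mulVec v = v' ∧ (g : Matrix (Fin 4) (Fin 4) F).mulVec w = w' := by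
  have hcard7 : Nat.card (alternatingGroup (Fin 7)) = 2520 := by
    rw [nat_card_alternatingGroup, Nat.card_fin]; decide
  refine ⟨?_, fun H hH v w v' w' hv hw hvw hv' hw' hvw' => ?_⟩
  · obtain ⟨e8⟩ := Cfsg.Agent.S0256.result (F := ZMod 2) (ZMod.card 2)
    obtain ⟨eg⟩ := CfsgLib.RadFree.gl_equiv_psl 4
    let e0 : ZMod 2 ≃+* F := ZMod.ringEquivOfPrime F Nat.prime_two hF
    let eM : GL (Fin 4) (ZMod 2) ≃* GL (Fin 4) F := Units.mapEquiv e0.mapMatrix.toMulEquiv
    let E : alternatingGroup (Fin 8) ≃* GL (Fin 4) F := (eg.trans e8).symm.trans eM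
    let S : Subgroup (alternatingGroup (Fin 8)) := MulAction.stabilizer (alternatingGroup (Fin 8)) (Fin.last 7)
    have hemb : ∃ f : alternatingGroup (Fin 7) →* alternatingGroup (Fin 8), Function.Injective f := by
      refine ⟨((Equiv.Perm.extendDomainHom (finSuccAboveEquiv (Fin.last 7))).comp
        (alternatingGroup (Fin 7)).subtype).codRestrict _ fun x => ?_, ?_⟩
      · rw [Equiv.Perm.mem_alternatingGroup]
        show Equiv.Perm.sign (Equiv.Perm.extendDomain x.1 (finSuccAboveEquiv (Fin.last 7))) = 1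
        rw [Equiv.Perm.sign_extendDomain]
        exact Equiv.Perm.mem_alternatingGroup.1 x.2
      · intro x y h
        exact Subtype.ext ((Equiv.Perm.extendDomainHom_injective _) (congrArg Subtype.val h))
    obtain ⟨f, hf⟩ := hemb
    exact ⟨(E.toMonoidHom.comp f).range, ⟨(MonoidHom.ofInjective (E.injective.comp hf)).symm⟩⟩
  · obtain ⟨e⟩ := hH
    obtain ⟨g, hg, h1, h2⟩ := CfsgLib.AltSevenFourTwo.pairs_transitive hF H
      ((Nat.card_congr e.toEquiv).trans hcard7) hv hw hvw hv' hw' hvw'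
    exact ⟨g, hg, h1, h2⟩

end Cfsg.Agent.S2551
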