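import Cfsg.Statements.S2552
import Cfsg.Agent.GLElem.Matrices
import Mathlib.LinearAlgebra.Matrix.SpecialLinearGroup

set_option autoImplicit false
open Cfsg

namespace Cfsg.Agent.S2552

/-- Let F be a finite field and n ≥ 1. For every k, the special linear group SL_n(F) acts transitively on the set of k-dimensional subspaces of F^n: any two subspaces of the same dimension are carried onto each other by some matrix of determinant 1. -/
theorem result {F : Type*} [Field F] [Fintype F] (n : ℕ) (hn : 1 ≤ n) (U₁ U₂ : Submodule F (Fin n → F)) (h : Module.finrank F U₁ = Module.finrank F U₂) : ∃ g : Matrix.SpecialLinearGroup (Fin n) F, U₁.map ((Matrix.SpecialLinearGroup.toLin' g : (Fin n → F) ≃ₗ[F] (Fin n → F)) : (Fin n → F) →ₗ[F] (Fin n → F)) = U₂ := by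
  by_cases hU : U₁ = ⊥
  · subst hU
    have h2 : U₂ = ⊥ := Submodule.finrank_eq_zero.mp (by rw [← h, finrank_bot])
    exact ⟨1, by rw [h2, Submodule.map_bot]⟩
  obtain ⟨w, hw, hw0⟩ := U₁.exists_mem_ne_zero_of_ne_bot hU
  obtain ⟨C₁, hC₁⟩ := U₁.exists_isCompl
  obtain ⟨C₂, hC₂⟩ := U₂.exists_isCompl
  have hC : Module.finrank F C₁ = Module.finrank F C₂ := by
    have := Submodule.finrank_add_eq_of_isCompl hC₁
    have := Submodule.finrank_add_eq_of_isCompl hC₂
    omega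
  let e : (Fin n → F) ≃ₗ[F] (Fin n → F) := (Submodule.prodEquivOfIsCompl U₁ C₁ hC₁).symm.trans
    (((LinearEquiv.ofFinrankEq U₁ U₂ h).prodCongr (LinearEquiv.ofFinrankEq C₁ C₂ hC)).trans
      (Submodule.prodEquivOfIsCompl U₂ C₂ hC₂))
  have heU : ∀ x ∈ U₁, e x ∈ U₂ := fun x hx => by
    have hx' : (Submodule.prodEquivOfIsCompl U₁ C₁ hC₁).symm x = (⟨x, hx⟩, 0) :=
      Submodule.prodEquivOfIsCompl_symm_apply_left U₁ C₁ hC₁ ⟨x, hx⟩
    simp [e, hx']
  obtain ⟨S, hS, hSx⟩ := CfsgLib.GLElem.exists_dilation hw0 (LinearMap.det e.toLinearMap)⁻¹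
  have he0 : LinearMap.det e.toLinearMap ≠ 0 := (LinearEquiv.isUnit_det' e).ne_zero
  let L : (Fin n → F) →ₗ[F] (Fin n → F) := e.toLinearMap ∘ₗ S
  have hL : (LinearMap.toMatrix' L).det = 1 := by
    rw [LinearMap.det_toMatrix', LinearMap.det_comp, hS, mul_inv_cancel₀ he0]
  refine ⟨⟨LinearMap.toMatrix' L, hL⟩, ?_⟩
  have hle : U₁.map ((Matrix.SpecialLinearGroup.toLin' (⟨LinearMap.toMatrix' L, hL⟩ : Matrix.SpecialLinearGroup (Fin n) F) : (Fin n → F) ≃ₗ[F] (Fin n → F)) : (Fin n → F) →ₗ[F] (Fin n → F)) ≤ U₂ := by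
    rintro _ ⟨x, hx, rfl⟩
    show Matrix.toLin' (LinearMap.toMatrix' L) x ∈ U₂
    rw [Matrix.toLin'_toMatrix']
    refine heU _ ?_
    obtain ⟨t, ht⟩ := hSx x
    rw [ht]
    exact U₁.add_mem hx (U₁.smul_mem t hw)
  exact Submodule.eq_of_le_of_finrank_eq hle ((LinearEquiv.finrank_map_eq _ _).trans h)

end Cfsg.Agent.S2552
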