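import Cfsg.Statements.S2558
import Cfsg.Agent.Geo.FormClasses.OrthLower

set_option autoImplicit false
open Cfsg

namespace Cfsg.Agent.S2558

/-- The number of conjugacy classes of the full orthogonal groups O⁺(2n,q) and O⁻(2n,q), q odd, 2n ≥ 4: for F a finite field of odd order q and n ≥ 2, the number k of conjugacy classes of the isometry group of the hyperbolic quadratic form Σ xᵢyᵢ on F^{2n}, and likewise of the elliptic form Σ xᵢyᵢ + (z₁² + a z₁z₂ + b z₂²) with anisotropic binary part, satisfies q^n/2 ≤ k ≤ 9.5·q^n. -/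
theorem result {F : Type*} [Field F] [Fintype F] (hodd : Odd (Fintype.card F)) (n : ℕ) (hn : 2 ≤ n) (a b : F) (hab : ∀ z₁ z₂ : F, z₁ ^ 2 + a * z₁ * z₂ + b * z₂ ^ 2 = 0 → z₁ = 0 ∧ z₂ = 0) :
    (Fintype.card F ^ n ≤ 2 * Nat.card (ConjClasses ↥(Cfsg.isometryGroup F (Cfsg.quadFormPlus n F))) ∧
      2 * Nat.card (ConjClasses ↥(Cfsg.isometryGroup F (Cfsg.quadFormPlus n F))) ≤ 19 * Fintype.card F ^ n) ∧
    (Fintype.card F ^ n ≤ 2 * Nat.card (ConjClasses ↥(Cfsg.isometryGroup F (Cfsg.quadFormMinus (n - 1) F a b))) ∧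
      2 * Nat.card (ConjClasses ↥(Cfsg.isometryGroup F (Cfsg.quadFormMinus (n - 1) F a b))) ≤ 19 * Fintype.card F ^ n) := by
  classical
  have h2 : (2 : F) ≠ 0 := by
    intro h
    haveI : CharP F (ringChar F) := ringChar.charP F
    have h' : ringChar F ∣ 2 := (CharP.cast_eq_zero_iff F (ringChar F) 2).1 (by exact_mod_cast h)
    have hp := CharP.char_is_prime F (ringChar F)
    obtain ⟨m, -, hm⟩ := FiniteField.card F (ringChar F)
    rw [(Nat.prime_dvd_prime_iff_eq hp Nat.prime_two).1 h'] at hm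
    rw [hm, Nat.odd_pow_iff m.ne_zero] at hodd
    exact absurd hodd (by decide)
  have hq : 3 ≤ Fintype.card F := by
    have h1 : 1 < Fintype.card F := Fintype.one_lt_card
    obtain ⟨m, hm⟩ := hodd
    omega
  obtain ⟨m, rfl⟩ : ∃ m, n = m + 1 := ⟨n - 1, by omega⟩
  rw [Nat.add_sub_cancel, ← CfsgLib.Quad.plusQ_coe, ← CfsgLib.Quad.minusQ_coe]
  have hP : (QuadraticMap.polarBilin (CfsgLib.Quad.plusQ (F := F) (m + 1))).Nondegenerate :=
    CfsgLib.Quad.plusQ_nondeg (m + 1)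
  have hM : (QuadraticMap.polarBilin (CfsgLib.Quad.minusQ (F := F) m a b)).Nondegenerate :=
    CfsgLib.Quad.minusQ_nondeg hab m
  exact ⟨⟨CfsgLib.Geo.FormClasses.card_classes_ge h2 hn _ hP (by simp) (Or.inl rfl)
        (CfsgLib.Geo.OCounts.etype_plus _),
      CfsgLib.Geo.FormClasses.two_mul_card_classes_le _ h2 hq hP (by omega) (by simp)⟩,
    CfsgLib.Geo.FormClasses.card_classes_ge h2 hn _ hM (by simp; omega) (Or.inr rfl)
        (CfsgLib.Geo.OCounts.etype_minus hab m),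
      CfsgLib.Geo.FormClasses.two_mul_card_classes_le _ h2 hq hM (by omega) (by simp; omega)⟩

end Cfsg.Agent.S2558
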