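import Cfsg.Statements.S2559
import Cfsg.Agent.SpEven.OClasses
import Cfsg.Agent.SpEven.OLower

set_option autoImplicit false
open Cfsg

namespace Cfsg.Agent.S2559

/-- The number of conjugacy classes of the full orthogonal groups O⁺(2n,q) and O⁻(2n,q), q even, 2n ≥ 4: for F a finite field of even order q and n ≥ 2, the number k of conjugacy classes of the isometry group of the hyperbolic quadratic form Σ xᵢyᵢ on F^{2n}, and likewise of the elliptic form Σ xᵢyᵢ + (z₁² + a z₁z₂ + b z₂²) with anisotropic binary part, satisfies q^n/2 ≤ k ≤ 15·q^n. -/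
theorem result {F : Type*} [Field F] [Fintype F] (heven : Even (Fintype.card F)) (n : ℕ) (hn : 2 ≤ n) (a b : F) (hab : ∀ z₁ z₂ : F, z₁ ^ 2 + a * z₁ * z₂ + b * z₂ ^ 2 = 0 → z₁ = 0 ∧ z₂ = 0) :
    (Fintype.card F ^ n ≤ 2 * Nat.card (ConjClasses ↥(Cfsg.isometryGroup F (Cfsg.quadFormPlus n F))) ∧
      Nat.card (ConjClasses ↥(Cfsg.isometryGroup F (Cfsg.quadFormPlus n F))) ≤ 15 * Fintype.card F ^ n) ∧
    (Fintype.card F ^ n ≤ 2 * Nat.card (ConjClasses ↥(Cfsg.isometryGroup F (Cfsg.quadFormMinus (n - 1) F a b))) ∧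
      Nat.card (ConjClasses ↥(Cfsg.isometryGroup F (Cfsg.quadFormMinus (n - 1) F a b))) ≤ 15 * Fintype.card F ^ n) := by
  classical
  obtain ⟨p, hp⟩ := CharP.exists F
  haveI := hp
  haveI : Fact p.Prime := ⟨CharP.char_is_prime F p⟩
  obtain ⟨m, -, hm⟩ := FiniteField.card F p
  obtain rfl : p = 2 :=
    ((Nat.prime_dvd_prime_iff_eq Nat.prime_two (Fact.out : p.Prime)).1
      (Nat.prime_two.dvd_of_dvd_pow (hm ▸ even_iff_two_dvd.1 heven))).symm
  obtain ⟨k, rfl⟩ : ∃ k, n = k + 1 := ⟨n - 1, by omega⟩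
  have hplus : Fintype.card (Fin (k + 1) ⊕ Fin (k + 1)) = (k + 1) + (k + 1) := by simp
  have hminus : Fintype.card ((Fin k ⊕ Fin k) ⊕ Fin 2) = (k + 1) + (k + 1) := by simp; omega
  rw [Nat.add_sub_cancel, ← CfsgLib.Quad.plusQ_coe, ← CfsgLib.Quad.minusQ_coe]
  exact ⟨⟨CfsgLib.SpEven.card_oclasses_ge hn _ (CfsgLib.Quad.plusQ_nondeg _) hplus (Or.inl rfl)
        (CfsgLib.Geo.OCounts.etype_plus _),
      CfsgLib.SpEven.card_oclasses_le (CfsgLib.Quad.plusQ_nondeg _) hplus⟩,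
    CfsgLib.SpEven.card_oclasses_ge hn _ (CfsgLib.Quad.minusQ_nondeg hab _) hminus (Or.inr rfl)
        (CfsgLib.Geo.OCounts.etype_minus hab _),
      CfsgLib.SpEven.card_oclasses_le (CfsgLib.Quad.minusQ_nondeg hab _) hminus⟩

end Cfsg.Agent.S2559
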