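import Cfsg.Statements.S2560
import Cfsg.Agent.Geo.FormClasses.OmegaOdd

set_option autoImplicit false
open Cfsg

namespace Cfsg.Agent.S2560

/-- The number of conjugacy classes of Ω(2n+1,q), q odd, n ≥ 2: for F a finite field of odd order q, the number k of conjugacy classes of the commutator subgroup of the isometry group of the quadratic form x₀² + Σ xᵢyᵢ on F^{2n+1} satisfies q^n/2 ≤ k ≤ 7.3·q^n. -/
theorem result {F : Type*} [Field F] [Fintype F] (hodd : Odd (Fintype.card F)) (n : ℕ) (hn : 2 ≤ n) :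
    Fintype.card F ^ n ≤ 2 * Nat.card (ConjClasses ↥(Cfsg.Omega F (Cfsg.quadFormOdd n F))) ∧
      10 * Nat.card (ConjClasses ↥(Cfsg.Omega F (Cfsg.quadFormOdd n F))) ≤ 73 * Fintype.card F ^ n := by
  classical
  have h2 : (2 : F) ≠ 0 := by
    intro h
    haveI : CharP F (ringChar F) := ringChar.charP F
    have h' : ringChar F ∣ 2 := (CharP.cast_eq_zero_iff F (ringChar F) 2).1 (by exact_mod_cast h)
    have hp := CharP.char_is_prime F (ringChar F)
    obtain ⟨m, -, hm⟩ := FiniteField.card F (ringChar F)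
    rw [(Nat.prime_dvd_prime_iff_eq hp Nat.prime_two).1 h'] at hm
    rw [hm, Nat.odd_pow_iff m.ne_zero] at hodd
    exact absurd hodd (by decide)
  have hq : 3 ≤ Fintype.card F := by
    have h1 : 1 < Fintype.card F := Fintype.one_lt_card
    obtain ⟨m, hm⟩ := hodd
    omega
  unfold Cfsg.Omega
  rw [← CfsgLib.Quad.oddQ_coe]
  set Q := CfsgLib.Quad.oddQ (F := F) n with hQdef
  have hQ : (QuadraticMap.polarBilin Q).Nondegenerate := CfsgLib.Quad.oddQ_nondeg h2 n
  have hcard : Fintype.card (Unit ⊕ (Fin n ⊕ Fin n)) = 2 * n + 1 := by simp; omega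
  have hV : 2 ≤ Module.finrank F (Unit ⊕ (Fin n ⊕ Fin n) → F) := by
    rw [Module.finrank_fintype_fun_eq_card, hcard]; omega
  obtain ⟨θ, hθ⟩ := CfsgLib.Quad.exists_spinor hQ h2 hV
  obtain ⟨g1, hg1⟩ := CfsgLib.Geo.FormClasses.exists_theta_neg hQ h2 hV hθ
  haveI := CfsgLib.Geo.FormClasses.finite_oGroup (Q := Q)
  rw [CfsgLib.Geo.FormClasses.card_commutator_classes hQ h2 hcard hV hθ]
  have hsplit := CfsgLib.Geo.FormClasses.split_formula (θ.comp (CfsgLib.Quad.detSign hQ h2).ker.subtype) (g1 := g1) hg1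
  have hT := (CfsgLib.Geo.FormClasses.card_tot_le (F := F) h2 (2 * n) False).2.trans
    (Finset.sum_le_sum fun d _ => Finset.prod_le_prod' fun i _ => (CfsgLib.Geo.FormClasses.card_loc_le h2 _ _).1)
  have hI := ((CfsgLib.Geo.FormClasses.card_noOdd_le (F := F) h2 (2 * n)).2.trans
    (Finset.sum_le_sum fun d _ => Finset.prod_le_prod' fun i _ => CfsgLib.Geo.FormClasses.card_locE_le h2 _ _)).trans
    (CfsgLib.Geo.FormClasses.inn_le hq hn)
  have hA := CfsgLib.Geo.FormClasses.all_odd_le hq n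
  have hso := CfsgLib.Geo.FormClasses.four_mul_card_so_le hQ h2 hcard
  have hin := CfsgLib.Geo.FormClasses.four_mul_card_inner_le hQ h2 hcard hθ
  have hge := CfsgLib.Geo.FormClasses.card_so_ge hQ h2 hcard fun {N} M hM hN => by
    obtain ⟨c, φ, hc, -, hφ⟩ := CfsgLib.QuadStd.classify_odd (m := n) (CfsgLib.Geo.OSemi.qf_nondeg hM)
      (by rw [Module.finrank_fin_fun, hN])
    let w : Unit ⊕ (Fin n ⊕ Fin n) → F := Sum.elim (fun _ => 1) (Sum.elim (fun _ => c) fun _ => 1)
    have hw : ∀ i, w i ≠ 0 := by rintro (i | i | i) <;> simp [w, hc]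
    let ψ : (Unit ⊕ (Fin n ⊕ Fin n) → F) ≃ₗ[F] (Unit ⊕ (Fin n ⊕ Fin n) → F) :=
      LinearEquiv.piCongrRight fun i => LinearEquiv.smulOfUnit (Units.mk0 (w i) (hw i))
    refine ⟨c, ψ.trans φ.symm, hc, fun v => ?_⟩
    rw [hφ, LinearEquiv.trans_apply, LinearEquiv.apply_symm_apply, hQdef, CfsgLib.Quad.oddQ_coe]
    simp [ψ, w, Cfsg.quadFormOdd, Cfsg.quadFormPlus, LinearEquiv.smulOfUnit, Units.smul_def, mul_add,
      Finset.mul_sum, mul_assoc]
  omega

end Cfsg.Agent.S2560
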