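import Cfsg.Statements.S2561
import Cfsg.Agent.QuadStd.Two

set_option autoImplicit false
open Cfsg CfsgLib.QuadStd CfsgLib.Quad

namespace Cfsg.Agent.S2561

/-- Fix the non-singular alternating form on the 2m-dimensional space over the field of two elements obtained by polarizing the plus-type form Σ xᵢyᵢ (m ≥ 1). The functions q on the space with q(u + v) = q(u) + q(v) + f(u, v) (the quadratic forms polarizing to f) number 2^(2m); each is equivalent under an invertible linear map either to the plus-type form or to the minus-type form Σ xᵢyᵢ + (z₁² + z₁z₂ + z₂²); and those of plus type number 2^(2m−1) + 2^(m−1), those of minus type 2^(2m−1) − 2^(m−1). -/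
theorem result (m : ℕ) (hm : 1 ≤ m) :
    Nat.card {q : (Fin m ⊕ Fin m → ZMod 2) → ZMod 2 // (∀ u v : (Fin m ⊕ Fin m → ZMod 2), q (u + v) = q u + q v + (Cfsg.quadFormPlus m (ZMod 2) (u + v) - Cfsg.quadFormPlus m (ZMod 2) u - Cfsg.quadFormPlus m (ZMod 2) v))} = 2 ^ (2 * m) ∧
    (∀ q : (Fin m ⊕ Fin m → ZMod 2) → ZMod 2, (∀ u v : (Fin m ⊕ Fin m → ZMod 2), q (u + v) = q u + q v + (Cfsg.quadFormPlus m (ZMod 2) (u + v) - Cfsg.quadFormPlus m (ZMod 2) u - Cfsg.quadFormPlus m (ZMod 2) v)) →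
      (∃ g : (Fin m ⊕ Fin m → ZMod 2) ≃ₗ[ZMod 2] (Fin m ⊕ Fin m → ZMod 2), ∀ v, q v = Cfsg.quadFormPlus m (ZMod 2) (g v)) ∨
      (∃ g : (Fin m ⊕ Fin m → ZMod 2) ≃ₗ[ZMod 2] ((Fin (m - 1) ⊕ Fin (m - 1)) ⊕ Fin 2 → ZMod 2), ∀ v, q v = Cfsg.quadFormMinus (m - 1) (ZMod 2) 1 1 (g v))) ∧
    Nat.card {q : (Fin m ⊕ Fin m → ZMod 2) → ZMod 2 // (∀ u v : (Fin m ⊕ Fin m → ZMod 2), q (u + v) = q u + q v + (Cfsg.quadFormPlus m (ZMod 2) (u + v) - Cfsg.quadFormPlus m (ZMod 2) u - Cfsg.quadFormPlus m (ZMod 2) v)) ∧ ∃ g : (Fin m ⊕ Fin m → ZMod 2) ≃ₗ[ZMod 2] (Fin m ⊕ Fin m → ZMod 2), ∀ v, q v = Cfsg.quadFormPlus m (ZMod 2) (g v)} = 2 ^ (2 * m - 1) + 2 ^ (m - 1) ∧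
    Nat.card {q : (Fin m ⊕ Fin m → ZMod 2) → ZMod 2 // (∀ u v : (Fin m ⊕ Fin m → ZMod 2), q (u + v) = q u + q v + (Cfsg.quadFormPlus m (ZMod 2) (u + v) - Cfsg.quadFormPlus m (ZMod 2) u - Cfsg.quadFormPlus m (ZMod 2) v)) ∧ ∃ g : (Fin m ⊕ Fin m → ZMod 2) ≃ₗ[ZMod 2] ((Fin (m - 1) ⊕ Fin (m - 1)) ⊕ Fin 2 → ZMod 2), ∀ v, q v = Cfsg.quadFormMinus (m - 1) (ZMod 2) 1 1 (g v)} = 2 ^ (2 * m - 1) - 2 ^ (m - 1) := by
  classical
  let P := Cfsg.quadFormPlus m (ZMod 2)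
  let e : (Fin m ⊕ Fin m → ZMod 2) ≃ {q : (Fin m ⊕ Fin m → ZMod 2) → ZMod 2 // Two.Polarizes m q} :=
    Equiv.ofBijective (fun w => ⟨Two.qw w, Two.polarizes_qw w⟩)
      ⟨fun a b h => Two.qw_injective (congrArg Subtype.val h), fun q => by
        obtain ⟨w, hw⟩ := Two.exists_w q.2
        exact ⟨w, Subtype.ext (funext fun v => (hw v).symm)⟩⟩
  have hcount : ∀ (p : ((Fin m ⊕ Fin m → ZMod 2) → ZMod 2) → Prop) (r : (Fin m ⊕ Fin m → ZMod 2) → Prop),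
      (∀ w, p (Two.qw w) ↔ r w) →
      Nat.card {q : (Fin m ⊕ Fin m → ZMod 2) → ZMod 2 // Two.Polarizes m q ∧ p q} = Nat.card {w // r w} := fun p r h =>
    Nat.card_congr ((Equiv.subtypeSubtypeEquivSubtypeInter _ p).symm.trans
      ((Equiv.subtypeEquiv e fun w => (h w).symm).symm))
  refine ⟨?_, fun q hq => ?_, ?_, ?_⟩
  · exact (Nat.card_congr e).symm.trans Two.card_space
  · obtain ⟨w, hw⟩ := Two.exists_w hq
    simp only [hw]
    exact Two.isometric_cases hm w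
  · exact (hcount _ (fun w => P w = 0) fun w => Two.plus_iff hm w).trans (Two.card_plus hm)
  · refine (hcount _ (fun w => ¬ P w = 0) fun w => Two.minus_iff hm w).trans ?_
    have h1 : Nat.card {w // P w = 0} + Nat.card {w // ¬ P w = 0} = 2 ^ (2 * m) := by
      rw [← Nat.card_sum, Nat.card_congr (Equiv.sumCompl _), Two.card_space]
    rw [Two.card_plus hm] at h1
    have hp : 2 ^ (2 * m) = 2 * 2 ^ (2 * m - 1) := by rw [← pow_succ']; congr 1; omega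
    omega

end Cfsg.Agent.S2561
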