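import Cfsg.Statements.S2562
import Cfsg.Agent.QuadStd.Two

set_option autoImplicit false
open Cfsg CfsgLib.QuadStd CfsgLib.Quad

namespace Cfsg.Agent.S2562

/-- Witt indices over the field of two elements, m ≥ 1: for the plus-type form Σ xᵢyᵢ in dimension 2m some m-dimensional subspace is totally singular and no totally singular subspace has larger dimension; for the minus-type form Σ xᵢyᵢ + (z₁² + z₁z₂ + z₂²) in dimension 2m the maximal dimension of a totally singular subspace is m − 1. -/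
theorem result (m : ℕ) (hm : 1 ≤ m) :
    (∃ U : Submodule (ZMod 2) (Fin m ⊕ Fin m → ZMod 2), (∀ u ∈ U, Cfsg.quadFormPlus m (ZMod 2) u = 0) ∧ Module.finrank (ZMod 2) ↥U = m) ∧
    (∀ U : Submodule (ZMod 2) (Fin m ⊕ Fin m → ZMod 2), (∀ u ∈ U, Cfsg.quadFormPlus m (ZMod 2) u = 0) → Module.finrank (ZMod 2) ↥U ≤ m) ∧
    (∃ U : Submodule (ZMod 2) ((Fin (m - 1) ⊕ Fin (m - 1)) ⊕ Fin 2 → ZMod 2), (∀ u ∈ U, Cfsg.quadFormMinus (m - 1) (ZMod 2) 1 1 u = 0) ∧ Module.finrank (ZMod 2) ↥U = m - 1) ∧
    (∀ U : Submodule (ZMod 2) ((Fin (m - 1) ⊕ Fin (m - 1)) ⊕ Fin 2 → ZMod 2), (∀ u ∈ U, Cfsg.quadFormMinus (m - 1) (ZMod 2) 1 1 u = 0) → Module.finrank (ZMod 2) ↥U ≤ m - 1) := by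
  classical
  have hmn := Two.one_aniso
  have hbound : ∀ {V : Type} [AddCommGroup V] [Module (ZMod 2) V] [FiniteDimensional (ZMod 2) V]
      (Q : QuadraticForm (ZMod 2) V), (QuadraticMap.polarBilin Q).Nondegenerate →
      ∀ U : Submodule (ZMod 2) V, (∀ u ∈ U, Q u = 0) → 2 * Module.finrank (ZMod 2) U ≤ Module.finrank (ZMod 2) V := by
    intro V _ _ _ Q hQ U hU
    have h := finrank_perpS hQ U
    have hle : U ≤ perpS Q U := fun x hx y hy => by
      show QuadraticMap.polar Q y x = 0
      simp [QuadraticMap.polar, hU _ (U.add_mem hy hx), hU x hx, hU y hy]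
    have := Submodule.finrank_mono hle
    omega
  let L : (Fin m → ZMod 2) →ₗ[ZMod 2] (Fin m ⊕ Fin m → ZMod 2) :=
    { toFun := fun x => Sum.elim x 0
      map_add' := fun x y => funext fun i => by rcases i with i | i <;> simp
      map_smul' := fun c x => funext fun i => by rcases i with i | i <;> simp }
  let L' : (Fin (m - 1) → ZMod 2) →ₗ[ZMod 2] ((Fin (m - 1) ⊕ Fin (m - 1)) ⊕ Fin 2 → ZMod 2) :=
    { toFun := fun x => Sum.elim (Sum.elim x 0) 0
      map_add' := fun x y => funext fun i => by rcases i with (i | i) | i <;> simp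
      map_smul' := fun c x => funext fun i => by rcases i with (i | i) | i <;> simp }
  have hL : Function.Injective L := fun x y h => funext fun i => congrFun h (Sum.inl i)
  have hL' : Function.Injective L' := fun x y h => funext fun i => congrFun h (Sum.inl (Sum.inl i))
  refine ⟨⟨LinearMap.range L, ?_, ?_⟩, fun U hU => ?_, ⟨LinearMap.range L', ?_, ?_⟩, fun U hU => ?_⟩
  · rintro _ ⟨x, rfl⟩; simp [Cfsg.quadFormPlus, L]
  · rw [LinearMap.finrank_range_of_inj hL, Module.finrank_fin_fun]
  · have := hbound _ (plusQ_nondeg m) U (fun u hu => by rw [plusQ_coe]; exact hU u hu)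
    simp at this; omega
  · rintro _ ⟨x, rfl⟩; simp [Cfsg.quadFormMinus, L']
  · rw [LinearMap.finrank_range_of_inj hL', Module.finrank_fin_fun]
  · have hnd := minusQ_nondeg hmn (m - 1)
    by_contra hlt
    push Not at hlt
    obtain ⟨v, hv⟩ : ∃ v : Fin (m - 1) → U, LinearIndependent (ZMod 2) v :=
      ⟨(Module.finBasis (ZMod 2) U) ∘ Fin.castLE (by omega),
        (Module.finBasis (ZMod 2) U).linearIndependent.comp _ (Fin.castLE_injective _)⟩
    have hU' : ∀ u ∈ U, minusQ (m - 1) 1 1 u = 0 := fun u hu => by rw [minusQ_coe]; exact hU u hu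
    have hL0 : ∀ x, minusQ (m - 1) 1 1 (L' x) = 0 := fun x => by
      rw [minusQ_coe]; simp [Cfsg.quadFormMinus, L']
    have hiso : ∀ a b : Fin (m - 1), QuadraticMap.polar (minusQ (m - 1) 1 1) (v a : _ → ZMod 2) (v b) =
        QuadraticMap.polar (minusQ (m - 1) 1 1) (L' (Pi.single a 1)) (L' (Pi.single b 1)) := fun a b => by
      simp only [QuadraticMap.polar, ← Submodule.coe_add, ← map_add, hU' _ (SetLike.coe_mem _), hL0]
    obtain ⟨g, hg, hgv⟩ := CfsgLib.Forms.quad_exists_map_family hnd (fun i => (v i : _ → ZMod 2))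
      (fun i => L' (Pi.single i 1)) (hv.map' U.subtype U.ker_subtype)
      ((Pi.linearIndependent_single_one (Fin (m - 1)) (ZMod 2)).map' L' (LinearMap.ker_eq_bot.mpr hL'))
      (fun i => by rw [hU' _ (v i).2, hL0]) hiso
    have hsub : U.map g.toLinearMap ≤ LinearMap.range L' := by
      rintro _ ⟨u, hu, rfl⟩
      set z := g u with hz
      have hy : ∀ i, z (Sum.inl (Sum.inr i)) = 0 := fun i => by
        have h : QuadraticMap.polar (minusQ (m - 1) 1 1) (v i : _ → ZMod 2) u = 0 := by
          simp [QuadraticMap.polar, hU' _ (U.add_mem (v i).2 hu), hU' _ hu, hU' _ (v i).2]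
        have h2 : QuadraticMap.polar (minusQ (m - 1) 1 1) (g (v i)) z = 0 := by
          simp only [hz, QuadraticMap.polar, ← map_add, hg]
          exact h
        rw [hgv, minusQ_coe, minus_polar] at h2
        simpa [L', Pi.single_apply] using h2
      have hq0 : Cfsg.quadFormMinus (m - 1) (ZMod 2) 1 1 z = 0 := by
        rw [← minusQ_coe, hg]; exact hU' u hu
      simp only [Cfsg.quadFormMinus, hy, mul_zero, Finset.sum_const_zero, zero_add] at hq0
      obtain ⟨z0, z1⟩ := hmn _ _ hq0
      refine ⟨fun i => z (Sum.inl (Sum.inl i)), funext fun i => ?_⟩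
      show Sum.elim (Sum.elim (fun j : Fin (m - 1) => z (Sum.inl (Sum.inl j))) (0 : Fin (m - 1) → ZMod 2)) (0 : Fin 2 → ZMod 2) i = z i
      rcases i with (i | i) | i
      · rfl
      · exact (hy i).symm
      · fin_cases i
        · exact z0.symm
        · exact z1.symm
    have h1 := Submodule.finrank_mono hsub
    rw [LinearMap.finrank_range_of_inj hL', Module.finrank_fin_fun, LinearEquiv.finrank_map_eq] at h1
    omega

end Cfsg.Agent.S2562
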