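import Cfsg.Statements.S2563
import Cfsg.Agent.Quad.HeartType

set_option autoImplicit false
open Cfsg

namespace Cfsg.Agent.S2563

/-- For k ≥ 1 the symmetric group of degree 4k + 4 embeds in a full orthogonal group in dimension 4k + 2 over the field of two elements: in the isometry group of the plus-type form Σ xᵢyᵢ when k is odd, and in that of the minus-type form Σ xᵢyᵢ + (z₁² + z₁z₂ + z₂²) when k is even (through its action on even partitions of a (4k+4)-set, with the form 'half the size of a part, modulo 2'). -/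
theorem result (k : ℕ) (hk : 1 ≤ k) :
    (Odd k → ∃ φ : Equiv.Perm (Fin (4 * k + 4)) →* ↥(Cfsg.isometryGroup (ZMod 2) (Cfsg.quadFormPlus (2 * k + 1) (ZMod 2))), Function.Injective φ) ∧
    (Even k → ∃ φ : Equiv.Perm (Fin (4 * k + 4)) →* ↥(Cfsg.isometryGroup (ZMod 2) (Cfsg.quadFormMinus (2 * k) (ZMod 2) 1 1)), Function.Injective φ) := by
  obtain ⟨w, hw, harf⟩ := CfsgLib.Quad.Heart.heartQ_arf k
  refine ⟨fun hodd => ?_, fun heven => ?_⟩
  · obtain ⟨g, hg⟩ := (CfsgLib.QuadStd.Two.plus_iff (by omega) w).2 (by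
      rw [harf, ZMod.natCast_eq_zero_iff_even]; exact hodd.add_one)
    exact CfsgLib.Quad.Heart.exists_heart_hom hk g fun v => by rw [hw, hg]
  · obtain ⟨g, hg⟩ := (CfsgLib.QuadStd.Two.minus_iff (m := 2 * k + 1) (by omega) w).2 (by
      rw [harf, ZMod.natCast_eq_zero_iff_even]; exact Nat.not_even_iff_odd.2 heven.add_one)
    exact CfsgLib.Quad.Heart.exists_heart_hom hk g fun v => by rw [hw, hg]; rfl

end Cfsg.Agent.S2563
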