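import Cfsg.Statements.S2565
import Cfsg.Agent.Quad.HeartCases

set_option autoImplicit false
open Cfsg

namespace Cfsg.Agent.S2565

/-- The commutator subgroup of the full orthogonal group of the plus-type form Σ xᵢyᵢ in dimension 6 over the field of two elements (the group Ω⁺₆(2), of index 2) is isomorphic to the alternating group of degree 8. -/
theorem result :
    (Cfsg.Omega (ZMod 2) (Cfsg.quadFormPlus 3 (ZMod 2))).index = 2 ∧
    Nonempty (↥(Cfsg.Omega (ZMod 2) (Cfsg.quadFormPlus 3 (ZMod 2))) ≃* alternatingGroup (Fin 8)) := by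
  obtain ⟨e⟩ := CfsgLib.Quad.Heart.nonempty_plus_six (F := ZMod 2) (ZMod.card 2)
  have hmap : (commutator (Cfsg.isometryGroup (ZMod 2) (Cfsg.quadFormPlus 3 (ZMod 2)))).map e.toMonoidHom =
      alternatingGroup (Fin 8) := by
    rw [← alternatingGroup.commutator_perm_eq (α := Fin 8) (by simp), commutator_def,
      commutator_def, Subgroup.map_commutator,
      Subgroup.map_top_of_surjective e.toMonoidHom e.surjective]
  refine ⟨?_, ⟨(e.subgroupMap _).trans (MulEquiv.subgroupCongr hmap)⟩⟩
  have h := Subgroup.index_map_equiv (H := commutator (Cfsg.isometryGroup (ZMod 2) (Cfsg.quadFormPlus 3 (ZMod 2)))) e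
  rw [show Cfsg.Omega (ZMod 2) (Cfsg.quadFormPlus 3 (ZMod 2)) = commutator _ from rfl, ← h]
  exact (congrArg Subgroup.index hmap).trans alternatingGroup.index_eq_two

end Cfsg.Agent.S2565
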