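import Cfsg.Statements.S2567


set_option autoImplicit false
open Cfsg

namespace Cfsg.Agent.S2567

/-- Lifting elements of prime order from PGL to GL: let F be a finite field with q elements, r a prime not dividing q − 1, and x an element of order r in GL_n(F) modulo its centre (the scalar matrices). Then x has exactly one preimage in GL_n(F) of order r. -/
theorem result {F : Type*} [Field F] [Fintype F] {q n r : ℕ} (hF : Fintype.card F = q) (hr : r.Prime) (hdiv : ¬ r ∣ q - 1) (x : GL (Fin n) F ⧸ Subgroup.center (GL (Fin n) F)) (hx : orderOf x = r) : ∃! g : GL (Fin n) F, (QuotientGroup.mk g : GL (Fin n) F ⧸ Subgroup.center (GL (Fin n) F)) = x ∧ orderOf g = r := by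
  have hZpow : ∀ z ∈ Subgroup.center (GL (Fin n) F), z ^ (q - 1) = 1 := by
    intro z hz
    rw [Matrix.GeneralLinearGroup.center_eq_range_scalar] at hz
    obtain ⟨u, rfl⟩ := hz
    rw [← map_pow]
    have : u ^ (q - 1) = 1 := by
      rw [← hF]; exact Units.ext (by simpa using FiniteField.pow_card_sub_one_eq_one (u : F) u.ne_zero)
    rw [this, map_one]
  have hcop : (Nat.card (Subgroup.center (GL (Fin n) F))).Coprime r := by
    rw [Nat.coprime_comm, hr.coprime_iff_not_dvd]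
    intro hd
    have := Fact.mk hr
    obtain ⟨z, hz⟩ := exists_prime_orderOf_dvd_card' r hd
    exact hdiv (hz ▸ orderOf_dvd_of_pow_eq_one (Subtype.ext (hZpow z z.2)))
  obtain ⟨g₀, rfl⟩ := QuotientGroup.mk_surjective x
  have hc : g₀ ^ r ∈ Subgroup.center (GL (Fin n) F) := by
    rw [← QuotientGroup.eq_one_iff, QuotientGroup.mk_pow, ← hx, pow_orderOf_eq_one]
  obtain ⟨w, hw⟩ := (powCoprime hcop).surjective ⟨g₀ ^ r, hc⟩⁻¹
  have hw' : (w : GL (Fin n) F) ^ r = (g₀ ^ r)⁻¹ := congrArg Subtype.val hw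
  have hcomm : Commute g₀ (w : GL (Fin n) F) := (Subgroup.mem_center_iff.mp w.2 g₀)
  have hmk : (QuotientGroup.mk (g₀ * w) : GL (Fin n) F ⧸ Subgroup.center (GL (Fin n) F)) = QuotientGroup.mk g₀ :=
    QuotientGroup.mk_mul_of_mem g₀ w.2
  have hordeq : orderOf (g₀ * (w : GL (Fin n) F)) = r := by
    have h1 : (g₀ * (w : GL (Fin n) F)) ^ r = 1 := by rw [hcomm.mul_pow, hw', mul_inv_cancel]
    refine Nat.dvd_antisymm (orderOf_dvd_of_pow_eq_one h1) ?_
    have := orderOf_map_dvd (QuotientGroup.mk' (Subgroup.center (GL (Fin n) F))) (g₀ * (w : GL (Fin n) F))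
    rwa [QuotientGroup.mk'_apply, hmk, hx] at this
  refine ⟨g₀ * w, ⟨hmk, hordeq⟩, fun g hg => ?_⟩
  obtain ⟨hg1, hg2⟩ := hg
  have hz : (g₀ * (w : GL (Fin n) F))⁻¹ * g ∈ Subgroup.center (GL (Fin n) F) :=
    QuotientGroup.eq.mp (hmk.trans hg1.symm)
  have hzr : ((g₀ * (w : GL (Fin n) F))⁻¹ * g) ^ r = 1 := by
    have h3 : Commute (g₀ * (w : GL (Fin n) F)) ((g₀ * (w : GL (Fin n) F))⁻¹ * g) :=
      Subgroup.mem_center_iff.mp hz _
    have h4 := h3.mul_pow r
    rw [mul_inv_cancel_left, ← hordeq, pow_orderOf_eq_one, one_mul] at h4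
    rw [← hordeq, ← h4, hordeq, ← hg2, pow_orderOf_eq_one]
  have h5 : powCoprime hcop ⟨_, hz⟩ = powCoprime hcop 1 :=
    Subtype.ext (by simpa [powCoprime_apply] using hzr)
  have h6 : (g₀ * (w : GL (Fin n) F))⁻¹ * g = 1 := congrArg Subtype.val ((powCoprime hcop).injective h5)
  rw [inv_mul_eq_one] at h6
  exact h6.symm

end Cfsg.Agent.S2567
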