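import Cfsg.Statements.S2568
import Cfsg.Agent.GLClass.PrimeOrder

set_option autoImplicit false
open Cfsg

namespace Cfsg.Agent.S2568

/-- Number of conjugacy classes of elements of a given prime order r, coprime to the characteristic, in GL_n(q): if i is the multiplicative order of q modulo r and t = (r − 1)/i, the classes correspond to the non-zero t-tuples of natural numbers (a_1, …, a_t) with i(a_1 + ⋯ + a_t) ≤ n (a_j is the multiplicity of the j-th Frobenius orbit of nontrivial r-th roots of unity among the eigenvalues), so there are exactly C(⌊n/i⌋ + t, t) − 1 of them. -/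
theorem result {F : Type*} [Field F] [Fintype F] {p q : ℕ} [Fact p.Prime] [CharP F p] (hF : Fintype.card F = q) (n r i t : ℕ) (hr : r.Prime) (hrp : r ≠ p) (hi : i = orderOf (q : ZMod r)) (ht : t * i = r - 1) : Nat.card {C : ConjClasses (GL (Fin n) F) // ∃ g : GL (Fin n) F, ConjClasses.mk g = C ∧ orderOf g = r} = Nat.choose (n / i + t) t - 1 := by
  classical
  haveI : Fact r.Prime := ⟨hr⟩
  have hrp' : r.Coprime p := (Nat.coprime_primes hr Fact.out).2 hrp
  have key := CfsgLib.GLClass.card_classes_pow_eq_one (n := n) (F := F) p hrp' (i := i) (t := t)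
    (by rw [hF]; exact hi) ht
  rw [← key]
  letI : Fintype (ConjClasses (GL (Fin n) F)) := Fintype.ofFinite _
  let S : Finset (ConjClasses (GL (Fin n) F)) :=
    Finset.univ.filter fun C => ∃ g : GL (Fin n) F, ConjClasses.mk g = C ∧ g ^ r = 1
  have h1 : ConjClasses.mk (1 : GL (Fin n) F) ∈ S :=
    Finset.mem_filter.2 ⟨Finset.mem_univ _, 1, rfl, one_pow r⟩
  rw [Nat.card_eq_fintype_card, Nat.card_eq_fintype_card, Fintype.card_subtype, Fintype.card_subtype]
  show _ = S.card - 1
  rw [← Finset.card_erase_of_mem h1]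
  congr 1
  ext C
  simp only [Finset.mem_erase, Finset.mem_filter, Finset.mem_univ, true_and, S, orderOf_eq_prime_iff]
  constructor
  · rintro ⟨g, rfl, hg, hne⟩
    refine ⟨fun h => hne ?_, g, rfl, hg⟩
    rw [ConjClasses.mk_eq_mk_iff_isConj, isConj_one_left] at h
    exact h
  · rintro ⟨hne, g, rfl, hg⟩
    exact ⟨g, rfl, hg, fun h => hne (by rw [h])⟩

end Cfsg.Agent.S2568
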