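import Cfsg.Statements.S2569
import Cfsg.Agent.GLElem.Matrices

set_option autoImplicit false
open Cfsg

namespace Cfsg.Agent.S2569

/-- In GL_n over a finite field of characteristic p, the conjugacy class of a semisimple element (an element of order prime to p) under the special linear group is its whole GL-conjugacy class: for every such x and every invertible g there is h of determinant one with h x h⁻¹ = g x g⁻¹. -/
theorem result {F : Type*} [Field F] [Fintype F] {p : ℕ} [Fact p.Prime] [CharP F p] {n : ℕ} (x g : GL (Fin n) F) (hx : (orderOf x).Coprime p) : ∃ h : GL (Fin n) F, (h : Matrix (Fin n) (Fin n) F).det = 1 ∧ h * x * h⁻¹ = g * x * g⁻¹ := by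
  open CfsgLib.GLElem in
  rcases Nat.eq_zero_or_pos n with rfl | hn
  · exact ⟨g, by simp, rfl⟩
  · haveI : NeZero n := ⟨by omega⟩
    have hr : ((orderOf x : ℕ) : F) ≠ 0 := by
      intro h
      exact (Fact.out : p.Prime).one_lt.ne' (Nat.eq_one_of_dvd_coprimes hx ((CharP.cast_eq_zero_iff F p _).mp h) dvd_rfl)
    have hT : endOf x ^ orderOf x = 1 := by rw [← endOf_pow, pow_orderOf_eq_one, endOf_one]
    obtain ⟨S, hS, hdet⟩ := exists_det_commute hT hr ((g : Matrix (Fin n) (Fin n) F).det)⁻¹
    have hg0 : (g : Matrix (Fin n) (Fin n) F).det ≠ 0 :=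
      ((Matrix.isUnit_iff_isUnit_det _).mp (Units.isUnit g)).ne_zero
    obtain ⟨z, hz⟩ := exists_glOf (S := S) (by rw [hdet]; exact inv_ne_zero hg0)
    have hzx : z * x = x * z := endOf_injective (by rw [endOf_mul, endOf_mul, hz]; exact hS.eq)
    refine ⟨g * z, ?_, ?_⟩
    · rw [Units.val_mul, Matrix.det_mul, ← det_endOf z, hz, hdet, mul_inv_cancel₀ hg0]
    · calc g * z * x * (g * z)⁻¹ = g * (z * x) * z⁻¹ * g⁻¹ := by group
        _ = g * (x * z) * z⁻¹ * g⁻¹ := by rw [hzx]
        _ = g * x * g⁻¹ := by group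

end Cfsg.Agent.S2569
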