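import Cfsg.Statements.S2570
import Cfsg.Agent.GLClass.Unipotent

set_option autoImplicit false
open Cfsg

namespace Cfsg.Agent.S2570

/-- Number of conjugacy classes of elements of order p in GL_n over a finite field of characteristic p: they correspond to the Jordan types, that is, to the partitions of n with all parts at most p other than the partition into ones, so there are (number of partitions of n with parts ≤ p) − 1 of them. -/
theorem result {F : Type*} [Field F] [Fintype F] {p : ℕ} [Fact p.Prime] [CharP F p] (n : ℕ) : Nat.card {C : ConjClasses (GL (Fin n) F) // ∃ g : GL (Fin n) F, ConjClasses.mk g = C ∧ orderOf g = p} = (Finset.univ.filter (fun μ : Nat.Partition n => ∀ a ∈ μ.parts, a ≤ p)).card - 1 := by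
  classical
  have hp : p.Prime := Fact.out
  have key : ∀ {g h : GL (Fin n) F} (hg : ((g : Matrix (Fin n) (Fin n) F) - 1) ^ n = 0)
      (hh : ((h : Matrix (Fin n) (Fin n) F) - 1) ^ n = 0),
      CfsgLib.GLClass.partOf hg = CfsgLib.GLClass.partOf hh → IsConj g h :=
    fun {g h} hg hh he => CfsgLib.GLClass.isConj_of_elemDiv_eq
      (by rw [CfsgLib.GLClass.elemDiv_eq_partOf hg, CfsgLib.GLClass.elemDiv_eq_partOf hh, he])
  have hpow : ∀ {A : Matrix (Fin n) (Fin n) F} (hA : (A - 1) ^ n = 0) (k : ℕ),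
      (A - 1) ^ k = 0 ↔ ∀ a ∈ (CfsgLib.GLClass.partOf hA).parts, a ≤ k := by
    intro A hA k
    open Polynomial in
    constructor
    · intro hk a ha
      change a ∈ (CfsgLib.GLClass.elemDiv A).map Prod.snd at ha
      obtain ⟨x, hx, rfl⟩ := Multiset.mem_map.1 ha
      have h1 : aeval A ((X - C (1 : F)) ^ k) = 0 := by simpa using hk
      have h2 := CfsgLib.GLClass.pow_dvd_of_aeval h1 hx
      rw [CfsgLib.GLClass.elemDiv_unipotent hA hx] at h2
      have h3 := natDegree_le_of_dvd h2 (pow_ne_zero k (X_sub_C_ne_zero (1 : F)))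
      simpa only [natDegree_pow, natDegree_X_sub_C, mul_one] using h3
    · intro hk
      obtain ⟨N, q, e, hd, hqe, ⟨ψ⟩⟩ := CfsgLib.GLClass.exists_data_eq A
      have hq : ∀ i, q i = X - C 1 ∧ e i ≤ k := fun i => by
        have hi : (q i, e i) ∈ CfsgLib.GLClass.elemDiv A := by
          rw [hd]; exact Multiset.mem_map_of_mem _ (Finset.mem_univ i)
        exact ⟨CfsgLib.GLClass.elemDiv_unipotent hA (x := (q i, e i)) hi,
          hk _ (show e i ∈ (CfsgLib.GLClass.elemDiv A).map Prod.snd from Multiset.mem_map.2 ⟨(q i, e i), hi, rfl⟩)⟩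
      have h1 : ∀ x : CfsgLib.GLClass.Model q e, ((X - C (1 : F)) ^ k) • x = 0 := fun x => funext fun i => by
        obtain ⟨y, hy⟩ := Submodule.Quotient.mk_surjective _ (x i)
        rw [Pi.smul_apply, Pi.zero_apply, ← hy, ← Submodule.Quotient.mk_smul, Submodule.Quotient.mk_eq_zero]
        refine Ideal.mem_span_singleton.2 ?_
        rw [(hq i).1, smul_eq_mul]
        exact (pow_dvd_pow _ (hq i).2).trans (dvd_mul_right _ _)
      have h0 : aeval A ((X - C (1 : F)) ^ k) = (A - 1) ^ k := by simp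
      rw [← h0]
      apply Matrix.toLin'.injective
      rw [map_zero, ← CfsgLib.GLClass.aeval_toLin']
      refine LinearMap.ext fun v => ?_
      have h2 : ((X - C (1 : F)) ^ k) • Module.AEval'.of (Matrix.toLin' A) v = 0 :=
        ψ.injective (by rw [map_smul, h1, map_zero])
      rw [← Module.AEval.of_aeval_smul, LinearEquiv.map_eq_zero_iff] at h2
      exact h2
  choose g hg hgl using fun lam : Nat.Partition n => CfsgLib.GLClass.exists_unipotent (F := F) lam
  have hord : ∀ h : GL (Fin n) F, orderOf h = p ↔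
      ∃ hh : ((h : Matrix (Fin n) (Fin n) F) - 1) ^ n = 0,
        (∀ a ∈ (CfsgLib.GLClass.partOf hh).parts, a ≤ p) ∧
          ¬ ∀ a ∈ (CfsgLib.GLClass.partOf hh).parts, a ≤ 1 := by
    intro h
    have hsub : ((h : Matrix (Fin n) (Fin n) F) - 1) ^ p = ((h ^ p : GL (Fin n) F) : Matrix (Fin n) (Fin n) F) - 1 := by
      rcases Nat.eq_zero_or_pos n with rfl | hn
      · exact Subsingleton.elim _ _
      haveI : Nonempty (Fin n) := ⟨⟨0, hn⟩⟩
      rw [sub_pow_char_of_commute p (Commute.one_right _), one_pow, Units.val_pow_eq_pow_val]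
    rw [orderOf_eq_prime_iff]
    constructor
    · rintro ⟨h1, h2⟩
      have hh := (CfsgLib.GLClass.sub_one_pow_iff p h).1 ⟨1, by
        rw [pow_one, orderOf_eq_prime_iff]; exact ⟨h1, h2⟩⟩
      refine ⟨hh, (hpow hh p).1 (by rw [hsub, h1, Units.val_one, sub_self]), fun h3 => h2 ?_⟩
      have h4 := (hpow hh 1).2 h3
      rw [pow_one, sub_eq_zero] at h4
      exact Units.ext h4
    · rintro ⟨hh, h1, h2⟩
      refine ⟨Units.ext ?_, fun h3 => h2 ((hpow hh 1).1 (by rw [pow_one, h3, Units.val_one, sub_self]))⟩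
      have h4 := (hpow hh p).2 h1
      rw [hsub, sub_eq_zero] at h4
      exact h4
  let Φ : Nat.Partition n → {C : ConjClasses (GL (Fin n) F) //
      ∃ g : GL (Fin n) F, (∃ k : ℕ, orderOf g = p ^ k) ∧ ConjClasses.mk g = C} :=
    fun lam => ⟨ConjClasses.mk (g lam), g lam, (CfsgLib.GLClass.sub_one_pow_iff p _).2 (hg lam), rfl⟩
  have hsurj : Function.Surjective Φ := by
    rintro ⟨C, h, hh, hC⟩
    have hh' := (CfsgLib.GLClass.sub_one_pow_iff p h).1 hh
    refine ⟨CfsgLib.GLClass.partOf hh', Subtype.ext ?_⟩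
    exact (ConjClasses.mk_eq_mk_iff_isConj.2 (key (hg _) hh' (hgl _))).trans hC
  have hΦ : Function.Bijective Φ :=
    hsurj.bijective_of_nat_card_le (CfsgLib.GLClass.card_unipotent_classes p).ge
  let S : Finset (Nat.Partition n) := Finset.univ.filter (fun μ : Nat.Partition n => ∀ a ∈ μ.parts, a ≤ p)
  let one : Nat.Partition n := ⟨Multiset.replicate n 1, fun hi => by
    rw [Multiset.eq_of_mem_replicate hi]; exact one_pos, by simp⟩
  have hone : ∀ μ : Nat.Partition n, (∀ a ∈ μ.parts, a ≤ 1) → μ = one := by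
    intro μ hμ
    apply Nat.Partition.ext
    have h1 : μ.parts = Multiset.replicate (Multiset.card μ.parts) 1 :=
      Multiset.eq_replicate_card.2 fun a ha => le_antisymm (hμ a ha) (μ.parts_pos ha)
    have h2 : Multiset.card μ.parts = n := by
      have := μ.parts_sum
      rw [h1, Multiset.sum_replicate, smul_eq_mul, mul_one] at this
      exact this
    show μ.parts = Multiset.replicate n 1
    rw [h1, h2]
  have honeS : one ∈ S := by
    refine Finset.mem_filter.2 ⟨Finset.mem_univ _, fun a ha => ?_⟩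
    rw [Multiset.eq_of_mem_replicate ha]; exact hp.one_lt.le
  show _ = S.card - 1
  rw [← Finset.card_erase_of_mem honeS, ← Fintype.card_coe, ← Nat.card_eq_fintype_card]
  refine (Nat.card_eq_of_bijective (fun μ : S.erase one => (⟨ConjClasses.mk (g μ.1), g μ.1, rfl, ?_⟩ :
    {C : ConjClasses (GL (Fin n) F) // ∃ g : GL (Fin n) F, ConjClasses.mk g = C ∧ orderOf g = p})) ⟨?_, ?_⟩).symm
  · obtain ⟨h1, h2⟩ := Finset.mem_erase.1 μ.2
    refine (hord _).2 ⟨hg _, ?_⟩
    rw [hgl]
    exact ⟨(Finset.mem_filter.1 h2).2, fun h3 => h1 (hone _ h3)⟩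
  · intro a b hab
    exact Subtype.ext (hΦ.1 (Subtype.ext (congrArg Subtype.val hab :)))
  · rintro ⟨C, h, hC, ho⟩
    obtain ⟨hh, h1, h2⟩ := (hord h).1 ho
    refine ⟨⟨CfsgLib.GLClass.partOf hh, Finset.mem_erase.2 ⟨fun he => h2 ?_,
      Finset.mem_filter.2 ⟨Finset.mem_univ _, h1⟩⟩⟩, Subtype.ext ?_⟩
    · rw [he]
      intro a ha
      rw [Multiset.eq_of_mem_replicate ha]
    · exact (ConjClasses.mk_eq_mk_iff_isConj.2 (key (hg _) hh (hgl _))).trans hC

end Cfsg.Agent.S2570
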