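import Cfsg.Statements.S2571
import Cfsg.Agent.GLElem.RegularCentralizer

set_option autoImplicit false
open Cfsg

namespace Cfsg.Agent.S2571

/-- Centraliser of a regular unipotent element in GL_n(q): if u is an invertible n × n matrix over the field with q elements, n ≥ 1, with (u − 1)^n = 0 and rank(u − 1) = n − 1 (a single unipotent Jordan block), then its centraliser in GL_n(q) has order (q − 1) q^(n−1). -/
theorem result {F : Type*} [Field F] [Fintype F] {q n : ℕ} (hF : Fintype.card F = q) (hn : 1 ≤ n) (u : GL (Fin n) F) (hnil : ((u : Matrix (Fin n) (Fin n) F) - 1) ^ n = 0) (hreg : ((u : Matrix (Fin n) (Fin n) F) - 1).rank = n - 1) : Nat.card ↥(Subgroup.centralizer ({u} : Set (GL (Fin n) F))) = (q - 1) * q ^ (n - 1) := by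
  classical
  obtain ⟨m, rfl⟩ : ∃ m, n = m + 1 := ⟨n - 1, by omega⟩
  set M : Matrix (Fin (m + 1)) (Fin (m + 1)) F := (u : Matrix (Fin (m + 1)) (Fin (m + 1)) F) - 1 with hM
  let N : Module.End F (Fin (m + 1) → F) := Matrix.toLinAlgEquiv' M
  have hN : IsNilpotent N := ⟨m + 1, by rw [← map_pow, hnil, map_zero]⟩
  have h1 : Module.finrank F (LinearMap.ker N) ≤ 1 := by
    have h := N.finrank_range_add_finrank_ker
    rw [Module.finrank_fin_fun] at h
    have hr : Module.finrank F (LinearMap.range N) = m + 1 - 1 := hreg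
    omega
  have hcard := CfsgLib.GLElem.card_commutant_regular (Module.finrank_fin_fun F) hN h1
  rw [Nat.card_eq_fintype_card (α := F), hF] at hcard
  let f : ↥(Subgroup.centralizer ({u} : Set (GL (Fin (m + 1)) F))) →
      {g : Module.End F (Fin (m + 1) → F) // Commute g N ∧ Function.Injective g} := fun g =>
    ⟨Matrix.toLinAlgEquiv' ((g : GL (Fin (m + 1)) F) : Matrix (Fin (m + 1)) (Fin (m + 1)) F), by
      refine ⟨?_, fun x y h => Matrix.mulVec_injective_iff_isUnit.mpr (Units.isUnit (g : GL (Fin (m + 1)) F)) h⟩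
      refine Commute.map ?_ (Matrix.toLinAlgEquiv' (R := F) (n := Fin (m + 1)))
      refine Commute.sub_right ?_ (Commute.one_right _)
      exact congrArg Units.val (Subgroup.mem_centralizer_singleton_iff.mp g.2)⟩
  have hf : Function.Bijective f := by
    refine ⟨fun a b h => Subtype.ext (Units.ext ((Matrix.toLinAlgEquiv' (R := F) (n := Fin (m + 1))).injective (congrArg Subtype.val h))), ?_⟩
    rintro ⟨g, hg, hi⟩
    have hu : IsUnit (Matrix.toLinAlgEquiv'.symm g) := by
      rw [← Matrix.mulVec_injective_iff_isUnit]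
      intro x y h
      apply hi
      rw [← (Matrix.toLinAlgEquiv' (R := F) (n := Fin (m + 1))).apply_symm_apply g]
      exact h
    refine ⟨⟨hu.unit, ?_⟩, Subtype.ext ((Matrix.toLinAlgEquiv' (R := F) (n := Fin (m + 1))).apply_symm_apply g)⟩
    rw [Subgroup.mem_centralizer_singleton_iff]
    refine Units.ext ?_
    have h := hg.map (Matrix.toLinAlgEquiv' (R := F) (n := Fin (m + 1))).symm
    rw [AlgEquiv.symm_apply_apply] at h
    have h' := h.add_right (Commute.one_right _)
    rw [hM, sub_add_cancel] at h'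
    rw [Units.val_mul, Units.val_mul, IsUnit.unit_spec]
    exact h'.eq
  rw [Nat.card_congr (Equiv.ofBijective f hf), hcard, Nat.add_sub_cancel, pow_succ', Nat.sub_one_mul]

end Cfsg.Agent.S2571
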