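import Cfsg.Statements.S2573
import Cfsg.Agent.GLElem.Regular
import Mathlib.LinearAlgebra.Matrix.Rank
import Mathlib.LinearAlgebra.Matrix.ToLin

set_option autoImplicit false
open Cfsg

namespace Cfsg.Agent.S2573

/-- The invariant subspaces of a regular unipotent matrix form a chain: over a finite field, if u is an n × n matrix with (u − 1)^n = 0 and rank(u − 1) = n − 1, then every subspace W of F^n with u W ⊆ W is the kernel of (u − 1)^(dim W); so u has at most one invariant subspace of each dimension. -/
theorem result {F : Type*} [Field F] [Finite F] {n : ℕ} (u : Matrix (Fin n) (Fin n) F) (hnil : (u - 1) ^ n = 0) (hreg : (u - 1).rank = n - 1) (W : Submodule F (Fin n → F)) (hW : ∀ v ∈ W, u.mulVec v ∈ W) : W = LinearMap.ker (Matrix.mulVecLin ((u - 1) ^ Module.finrank F W)) := by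
  set N : Module.End F (Fin n → F) := Matrix.toLinAlgEquiv' (u - 1) with hN
  have hNv : ∀ v, N v = (u - 1).mulVec v := fun v => Matrix.toLin'_apply _ _
  have hnil' : IsNilpotent N := ⟨n, by rw [hN, ← map_pow, hnil, map_zero]⟩
  have h1 : Module.finrank F (LinearMap.ker N) ≤ 1 := by
    have h := (Matrix.mulVecLin (u - 1)).finrank_range_add_finrank_ker
    rw [Module.finrank_fin_fun] at h
    have hr : Module.finrank F (LinearMap.range (Matrix.mulVecLin (u - 1))) = n - 1 := hreg
    have : LinearMap.ker N = LinearMap.ker (Matrix.mulVecLin (u - 1)) := by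
      ext v; rw [LinearMap.mem_ker, LinearMap.mem_ker, hNv]; rfl
    rw [this]; omega
  have h := CfsgLib.GLElem.eq_ker_pow hnil' h1 (W := W) fun w hw => by
    rw [hNv, Matrix.sub_mulVec, Matrix.one_mulVec]
    exact W.sub_mem (hW w hw) hw
  conv_lhs => rw [h]
  rw [hN, ← map_pow]
  ext v
  rw [LinearMap.mem_ker, LinearMap.mem_ker, Matrix.toLinAlgEquiv'_apply]
  rfl

end Cfsg.Agent.S2573
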