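import Cfsg.Statements.S2574
import Cfsg.Agent.GLElem.Regular
import Cfsg.Agent.Classical.SymplecticBasic
import Mathlib.LinearAlgebra.Matrix.Rank
import Mathlib.LinearAlgebra.BilinearForm.Orthogonal
import Mathlib.LinearAlgebra.Matrix.BilinearForm

set_option autoImplicit false
open Cfsg

namespace Cfsg.Agent.S2574

/-- A regular unipotent element of the symplectic group has totally isotropic small invariant subspaces: over a finite field, if u ∈ Sp_2m(F) satisfies (u − 1)^(2m) = 0 and rank(u − 1) = 2m − 1, and W is a u-invariant subspace with 2 dim W ≤ 2m, then the alternating form vanishes identically on W. -/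
theorem result {F : Type*} [Field F] [Finite F] {m : ℕ} (u : Matrix.symplecticGroup (Fin m) F) (hnil : ((u : Matrix (Fin m ⊕ Fin m) (Fin m ⊕ Fin m) F) - 1) ^ (2 * m) = 0) (hreg : ((u : Matrix (Fin m ⊕ Fin m) (Fin m ⊕ Fin m) F) - 1).rank = 2 * m - 1) (W : Submodule F (Fin m ⊕ Fin m → F)) (hW : ∀ v ∈ W, (u : Matrix (Fin m ⊕ Fin m) (Fin m ⊕ Fin m) F).mulVec v ∈ W) (hdim : 2 * Module.finrank F W ≤ 2 * m) : ∀ v ∈ W, ∀ w ∈ W, Cfsg.sympForm m F v w = 0 := by
  set M : Matrix (Fin m ⊕ Fin m) (Fin m ⊕ Fin m) F := (u : Matrix (Fin m ⊕ Fin m) (Fin m ⊕ Fin m) F) with hM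
  set N : Module.End F (Fin m ⊕ Fin m → F) := Matrix.toLinAlgEquiv' (M - 1) with hN
  have hNv : ∀ v, N v = (M - 1).mulVec v := fun v => Matrix.toLin'_apply _ _
  have hnil' : IsNilpotent N := ⟨2 * m, by rw [hN, ← map_pow, hnil, map_zero]⟩
  have hdimV : Module.finrank F (Fin m ⊕ Fin m → F) = 2 * m := by
    rw [Module.finrank_fintype_fun_eq_card, Fintype.card_sum, Fintype.card_fin, two_mul]
  have h1 : Module.finrank F (LinearMap.ker N) ≤ 1 := by
    have h := (Matrix.mulVecLin (M - 1)).finrank_range_add_finrank_ker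
    rw [hdimV] at h
    have hr : Module.finrank F (LinearMap.range (Matrix.mulVecLin (M - 1))) = 2 * m - 1 := hreg
    have : LinearMap.ker N = LinearMap.ker (Matrix.mulVecLin (M - 1)) := by
      ext v; rw [LinearMap.mem_ker, LinearMap.mem_ker, hNv]; rfl
    rw [this]; omega
  let B : LinearMap.BilinForm F (Fin m ⊕ Fin m → F) := Matrix.toBilin' (Matrix.J (Fin m) F)
  have hB : ∀ x y, B x y = Cfsg.sympForm m F x y := fun x y => Matrix.toBilin'_apply' _ x y
  have hBn : B.Nondegenerate := by
    refine LinearMap.BilinForm.nondegenerate_toBilin'_of_det_ne_zero' _ ?_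
    intro h
    have := Matrix.isUnit_det_J (Fin m) F
    rw [h, isUnit_zero_iff] at this
    exact zero_ne_one this
  have hpres : ∀ x y, Cfsg.sympForm m F (M.mulVec x) (M.mulVec y) = Cfsg.sympForm m F x y := fun x y => by
    have h := SymplecticGroup.mem_iff'.mp u.2
    rw [Cfsg.sympForm, Cfsg.sympForm, ← Matrix.vecMul_transpose _ x, ← Matrix.dotProduct_mulVec,
      Matrix.mulVec_mulVec, Matrix.mulVec_mulVec, h]
  have hP : ∀ y ∈ B.orthogonal W, N y ∈ B.orthogonal W := fun y hy x hx => by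
    haveI : Finite W := Module.finite_of_finite F
    have hinj : Function.Injective M.mulVec := by
      refine Matrix.mulVec_injective_iff_isUnit.mpr ?_
      rw [Matrix.isUnit_iff_isUnit_det]
      exact SymplecticGroup.symplectic_det u.2
    obtain ⟨⟨x', hx'⟩, he⟩ := Finite.surjective_of_injective (f := fun w : W => (⟨M.mulVec w, hW w w.2⟩ : W))
      (fun a b h => Subtype.ext (hinj (congrArg Subtype.val h))) ⟨x, hx⟩
    have hxe : M.mulVec x' = x := congrArg Subtype.val he
    have e1 : B x (M.mulVec y) = 0 := by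
      rw [← hxe, hB, hpres, ← hB]; exact hy x' hx'
    show B x (N y) = 0
    rw [hNv, Matrix.sub_mulVec, Matrix.one_mulVec, map_sub, e1, hy x hx, sub_zero]
  have hWN : ∀ w ∈ W, N w ∈ W := fun w hw => by
    rw [hNv, Matrix.sub_mulVec, Matrix.one_mulVec]
    exact W.sub_mem (hW w hw) hw
  have e1 := CfsgLib.GLElem.eq_ker_pow hnil' h1 hWN
  have e2 := CfsgLib.GLElem.eq_ker_pow hnil' h1 hP
  have hle : W ≤ B.orthogonal W := by
    rw [e2]
    nth_rw 1 [e1]
    have hd : Module.finrank F W ≤ Module.finrank F (B.orthogonal W) := by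
      rw [LinearMap.BilinForm.finrank_orthogonal hBn, hdimV]; omega
    obtain ⟨k, hk⟩ := Nat.exists_eq_add_of_le' hd
    intro w hw
    rw [hk, pow_add, LinearMap.mem_ker, Module.End.mul_apply, LinearMap.mem_ker.mp hw, map_zero]
  intro v hv w hw
  rw [← hB]
  exact hle hw v hv

end Cfsg.Agent.S2574
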