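import Cfsg.Statements.S2575
import Cfsg.Agent.GLElem.PowRange
import Mathlib.LinearAlgebra.Matrix.Determinant.Basic

set_option autoImplicit false
open Cfsg

namespace Cfsg.Agent.S2575

/-- Which diagonal involutions of PGL_n(q) lie in PSL_n(q), q odd: for the diagonal matrix t with i entries −1 and n − i entries 1, some non-zero scalar multiple of t has determinant one if and only if i is even or the 2-part of q − 1 exceeds the 2-part of n (that is, −1 is an n-th power in the field exactly in the latter case). -/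
theorem result {F : Type*} [Field F] [Fintype F] {q : ℕ} (hF : Fintype.card F = q) (hq : Odd q) {n : ℕ} (hn : 1 ≤ n) (i : ℕ) (hi : i ≤ n) : (∃ c : F, c ≠ 0 ∧ (c • Matrix.diagonal (fun j : Fin n => if (j : ℕ) < i then (-1 : F) else 1)).det = 1) ↔ (Even i ∨ padicValNat 2 n < padicValNat 2 (q - 1)) := by
  classical
  obtain ⟨k, hk⟩ := hq
  have hq3 : 3 ≤ q := by
    have := Fintype.one_lt_card (α := F)
    omega
  have hne : (-1 : F) ≠ 1 := Ring.neg_one_ne_one_of_char_ne_two (by
    intro hc
    have := FiniteField.even_card_of_char_two hc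
    omega)
  have hdet : ∀ c : F, (c • Matrix.diagonal (fun j : Fin n => if (j : ℕ) < i then (-1 : F) else 1)).det = c ^ n * (-1) ^ i := by
    intro c
    rw [Matrix.det_smul, Fintype.card_fin, Matrix.det_diagonal, Finset.prod_ite, Finset.prod_const, Finset.prod_const_one, mul_one]
    congr 2
    rw [Fin.card_filter_val_lt, min_eq_right hi]
  simp only [hdet]
  rcases Nat.even_or_odd i with hi2 | hi2
  · exact iff_of_true ⟨1, one_ne_zero, by rw [hi2.neg_one_pow]; simp⟩ (Or.inl hi2)
  · rw [or_iff_right (Nat.not_even_iff_odd.mpr hi2)]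
    simp only [hi2.neg_one_pow, mul_neg, mul_one, neg_eq_iff_eq_neg]
    rw [CfsgLib.GLElem.exists_pow_eq_iff hF (neg_ne_zero.mpr one_ne_zero), neg_one_pow_eq_one_iff_even hne]
    set g := Nat.gcd (q - 1) n
    have hg : g ∣ q - 1 := Nat.gcd_dvd_left _ _
    have hd : (q - 1) / g ≠ 0 := (Nat.div_pos (Nat.le_of_dvd (by omega) hg) (Nat.gcd_pos_of_pos_left _ (by omega))).ne'
    haveI : Fact (Nat.Prime 2) := ⟨Nat.prime_two⟩
    rw [even_iff_two_dvd, dvd_iff_padicValNat_ne_zero hd, padicValNat.div_of_dvd hg,
      CfsgLib.GLElem.padicVal_gcd (by omega) (by omega)]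
    omega

end Cfsg.Agent.S2575
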