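import Cfsg.Statements.S2576
import Cfsg.Agent.GLElem.PowRange
import Mathlib.LinearAlgebra.Matrix.Determinant.Basic
import Mathlib.Data.Matrix.Block

set_option autoImplicit false
open Cfsg

namespace Cfsg.Agent.S2576

/-- Which involutions of PGL_2m(q) coming from a scalar of the quadratic extension field lie in PSL_2m(q), q odd: let μ generate the Sylow 2-subgroup of the multiplicative group of the field with q elements (μ has order the 2-part of q − 1) and let t be the block-diagonal matrix with m diagonal blocks [[0, 1], [μ, 0]] (so t² is the scalar μ and t is an involution modulo scalars). Then some non-zero scalar multiple of t has determinant one if and only if q ≡ 3 (mod 4) or the 2-part of q − 1 is less than the 2-part of 2m. -/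
theorem result {F : Type*} [Field F] [Fintype F] {q : ℕ} (hF : Fintype.card F = q) (hq : Odd q) {m : ℕ} (hm : 1 ≤ m) (μ : F) (hμ : orderOf μ = 2 ^ padicValNat 2 (q - 1)) : (∃ c : F, c ≠ 0 ∧ (c • Matrix.blockDiagonal (fun _ : Fin m => !![(0 : F), 1; μ, 0])).det = 1) ↔ (q % 4 = 3 ∨ padicValNat 2 (q - 1) < padicValNat 2 (2 * m)) := by
  classical
  haveI : Fact (Nat.Prime 2) := ⟨Nat.prime_two⟩
  obtain ⟨k, hk⟩ := hq
  have hq3 : 3 ≤ q := by
    have := Fintype.one_lt_card (α := F)
    omega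
  set v := padicValNat 2 (q - 1) with hv
  have hv1 : 1 ≤ v := one_le_padicValNat_of_dvd (by omega) (by omega)
  have hμ0 : μ ≠ 0 := by
    rintro rfl
    rw [orderOf_eq_zero_iff'.mpr] at hμ
    · exact (Nat.two_pow_pos v).ne hμ
    · intro j hj; simp [zero_pow hj.ne']
  have h4 : q % 4 = 3 ↔ v = 1 := by
    constructor
    · intro h
      have h1 : ¬ 2 ^ 2 ∣ q - 1 := by omega
      rw [padicValNat_dvd_iff_le (by omega), ← hv] at h1
      omega
    · intro h
      have h1 : ¬ 2 ^ 2 ∣ q - 1 := by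
        rw [padicValNat_dvd_iff_le (by omega), ← hv]; omega
      omega
  have hdet : ∀ c : F, (c • Matrix.blockDiagonal (fun _ : Fin m => !![(0 : F), 1; μ, 0])).det = c ^ (2 * m) * (-μ) ^ m := by
    intro c
    rw [Matrix.det_smul, Matrix.det_blockDiagonal, Fintype.card_prod, Fintype.card_fin, Fintype.card_fin]
    simp [Matrix.det_fin_two_of]
  simp only [hdet, h4]
  have hex : (∃ c : F, c ≠ 0 ∧ c ^ (2 * m) * (-μ) ^ m = 1) ↔ ∃ c : F, c ≠ 0 ∧ c ^ (2 * m) = (-μ) ^ m := by
    constructor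
    · rintro ⟨c, hc, h⟩
      exact ⟨c⁻¹, inv_ne_zero hc, by rw [inv_pow]; exact inv_eq_of_mul_eq_one_right h⟩
    · rintro ⟨c, hc, h⟩
      exact ⟨c⁻¹, inv_ne_zero hc, by rw [← h, inv_pow, inv_mul_cancel₀ (pow_ne_zero _ hc)]⟩
  rw [hex, CfsgLib.GLElem.exists_pow_eq_iff hF (pow_ne_zero _ (neg_ne_zero.mpr hμ0)), ← pow_mul]
  by_cases hv2 : v = 1
  · rw [hv2, pow_one] at hμ
    have h1 : μ = -1 := by
      have h := pow_orderOf_eq_one μ
      rw [hμ, sq_eq_one_iff] at h
      rcases h with h | h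
      · rw [h, orderOf_one] at hμ; omega
      · exact h
    exact iff_of_true (by rw [h1, neg_neg, one_pow]) (Or.inl hv2)
  have hord : orderOf (-μ) = 2 ^ v := by
    obtain ⟨j, hj⟩ : ∃ j, v = j + 1 := ⟨v - 1, by omega⟩
    rw [hj]
    have he : Even (2 ^ j) := even_two.pow_of_ne_zero (by omega)
    refine orderOf_eq_prime_pow ?_ ?_
    · rw [he.neg_pow]
      exact pow_ne_one_of_lt_orderOf (Nat.two_pow_pos j).ne' (by rw [hμ, hj]; exact Nat.pow_lt_pow_right (by omega) (by omega))
    · rw [(even_two.pow_of_ne_zero (Nat.succ_ne_zero j)).neg_pow, show 2 ^ (j + 1) = orderOf μ by rw [hμ, hj], pow_orderOf_eq_one]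
  rw [← orderOf_dvd_iff_pow_eq_one, hord, or_iff_right hv2]
  set g := Nat.gcd (q - 1) (2 * m)
  have hg : g ∣ q - 1 := Nat.gcd_dvd_left _ _
  have hd : (q - 1) / g ≠ 0 := (Nat.div_pos (Nat.le_of_dvd (by omega) hg) (Nat.gcd_pos_of_pos_left _ (by omega))).ne'
  rw [padicValNat_dvd_iff_le (Nat.mul_ne_zero (by omega) hd), padicValNat.mul (by omega) hd, padicValNat.div_of_dvd hg,
    CfsgLib.GLElem.padicVal_gcd (by omega) (by omega), padicValNat.mul two_ne_zero (by omega), padicValNat.self (by omega)]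
  omega

end Cfsg.Agent.S2576
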