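import Cfsg.Statements.S2578
import Cfsg.Agent.GLElem.RegularCentralizer
import Cfsg.Agent.Classical.LinearOrder
import Mathlib.LinearAlgebra.Matrix.SpecialLinearGroup

set_option autoImplicit false
open Cfsg

namespace Cfsg.Agent.S2578

/-- Regular unipotent classes of SL_n(q): for n ≥ 2 over the field with q elements, the matrices u of determinant one with (u − 1)^n = 0 and rank(u − 1) = n − 1 form a single GL_n(q)-class which splits into exactly gcd(n, q − 1) conjugacy classes of SL_n(q). -/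
theorem result {F : Type*} [Field F] [Fintype F] {q : ℕ} (hF : Fintype.card F = q) {n : ℕ} (hn : 2 ≤ n) : Nat.card {C : ConjClasses (Matrix.SpecialLinearGroup (Fin n) F) // ∃ u : Matrix.SpecialLinearGroup (Fin n) F, ConjClasses.mk u = C ∧ ((u : Matrix (Fin n) (Fin n) F) - 1) ^ n = 0 ∧ ((u : Matrix (Fin n) (Fin n) F) - 1).rank = n - 1} = Nat.gcd n (q - 1) := by
  classical
  open CfsgLib.GLElem in
  obtain ⟨m, rfl⟩ : ∃ m, n = m + 1 := ⟨n - 1, by omega⟩
  -- the shift
  let J : Matrix (Fin (m + 1)) (Fin (m + 1)) F := fun i j => if (i : ℕ) = j + 1 then 1 else 0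
  have hJpow : ∀ k (i j : Fin (m + 1)), (i : ℕ) < j + k → (J ^ k) i j = 0 := by
    intro k
    induction k with
    | zero => intro i j h; rw [pow_zero, Matrix.one_apply_ne]; intro e; subst e; omega
    | succ k ih =>
      intro i j h
      rw [pow_succ, Matrix.mul_apply]
      refine Finset.sum_eq_zero fun l _ => ?_
      by_cases hl : (l : ℕ) = j + 1
      · rw [ih i l (by omega), zero_mul]
      · simp only [J]; rw [if_neg hl, mul_zero]
  have hJnil : J ^ (m + 1) = 0 := Matrix.ext fun i j => hJpow _ i j (by omega)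
  have hJrank : J.rank = m := by
    have h := (Matrix.mulVecLin J).finrank_range_add_finrank_ker
    rw [Module.finrank_fin_fun] at h
    have h1 : Module.finrank F (LinearMap.ker (Matrix.mulVecLin J)) ≤ 1 := by
      refine (LinearMap.finrank_le_finrank_of_injective (f := (LinearMap.proj (Fin.last m)).domRestrict _) ?_).trans_eq (Module.finrank_self F)
      rintro ⟨x, hx⟩ ⟨y, hy⟩ e
      rw [LinearMap.mem_ker, Matrix.mulVecLin_apply] at hx hy
      change x (Fin.last m) = y (Fin.last m) at e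
      refine Subtype.ext (funext fun i => ?_)
      by_cases hi : i = Fin.last m
      · subst hi; exact e
      · have hlt : (i : ℕ) < m := Fin.val_lt_last hi
        have hz : ∀ z : Fin (m + 1) → F, J.mulVec z = 0 → z i = 0 := fun z hz => by
          have := congrFun hz ⟨i + 1, by omega⟩
          rw [Matrix.mulVec, dotProduct, Finset.sum_eq_single i (fun b _ hb => by
            have hb' := Fin.val_ne_of_ne hb
            simp only [J]; rw [if_neg (by simp; omega), zero_mul]) (by simp)] at this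
          simpa [J] using this
        show x i = y i
        rw [hz x hx, hz y hy]
    have h2 : 0 < Module.finrank F (LinearMap.ker (Matrix.mulVecLin J)) := by
      refine Nat.pos_of_ne_zero fun e => ?_
      have hb := LinearMap.ker_eq_bot.mp (Submodule.finrank_eq_zero.mp e)
      have := hb (a₁ := Pi.single (Fin.last m) 1) (a₂ := 0) (by
        rw [map_zero, Matrix.mulVecLin_apply, Matrix.mulVec_single_one]
        funext i
        have := i.2
        show (if (i : ℕ) = (Fin.last m : Fin (m + 1)).val + 1 then (1 : F) else 0) = 0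
        rw [if_neg (by simp only [Fin.val_last]; omega)])
      simpa using congrFun this (Fin.last m)
    have hr : Matrix.rank J = Module.finrank F (LinearMap.range (Matrix.mulVecLin J)) := rfl
    omega
  -- the class map
  let u₀ : GL (Fin (m + 1)) F := (IsNilpotent.isUnit_one_add (⟨m + 1, hJnil⟩ : IsNilpotent J)).unit
  have hu₀ : (u₀ : Matrix (Fin (m + 1)) (Fin (m + 1)) F) = 1 + J := IsUnit.unit_spec _
  let reg : Matrix (Fin (m + 1)) (Fin (m + 1)) F → Prop := fun A => (A - 1) ^ (m + 1) = 0 ∧ (A - 1).rank = m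
  have hnil1 : ∀ (A : Matrix (Fin (m + 1)) (Fin (m + 1)) F), reg A →
      IsNilpotent (Matrix.toLinAlgEquiv' (A - 1)) ∧ Module.finrank F (LinearMap.ker (Matrix.toLinAlgEquiv' (A - 1))) ≤ 1 := by
    rintro A ⟨h1, h2⟩
    refine ⟨⟨m + 1, by rw [← map_pow, h1, map_zero]⟩, ?_⟩
    have h := (Matrix.toLinAlgEquiv' (A - 1)).finrank_range_add_finrank_ker
    rw [Module.finrank_fin_fun] at h
    have hr : Module.finrank F (LinearMap.range (Matrix.toLinAlgEquiv' (A - 1))) = m := h2
    omega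
  have hu₀reg : reg u₀ := ⟨by rw [hu₀, add_sub_cancel_left, hJnil], by rw [hu₀, add_sub_cancel_left, hJrank]⟩
  obtain ⟨hN₀, hK₀⟩ := hnil1 _ hu₀reg
  have hdetu : ∀ (A : GL (Fin (m + 1)) F), IsNilpotent ((A : Matrix (Fin (m + 1)) (Fin (m + 1)) F) - 1) →
      (A : Matrix (Fin (m + 1)) (Fin (m + 1)) F).det = 1 := by
    intro A hA
    set N : Module.End F (Fin (m + 1) → F) := -(Matrix.toLinAlgEquiv' ((A : Matrix (Fin (m + 1)) (Fin (m + 1)) F) - 1)) with hN
    have hN' : IsNilpotent N := (hA.map (Matrix.toLinAlgEquiv' (R := F) (n := Fin (m + 1)))).neg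
    have he := LinearMap.eval_charpoly N (1 : F)
    rw [IsNilpotent.charpoly_eq_X_pow_finrank hN', Polynomial.eval_pow, Polynomial.eval_X, one_pow, map_one, hN,
      sub_neg_eq_add, map_sub, map_one, add_sub_cancel] at he
    rw [he]
    exact (LinearMap.det_toLin' _).symm
  have hconjreg : ∀ g : GL (Fin (m + 1)) F, reg ↑(g * u₀ * g⁻¹) := fun g => by
    have e : ((g * u₀ * g⁻¹ : GL (Fin (m + 1)) F) : Matrix (Fin (m + 1)) (Fin (m + 1)) F) - 1 =
        (g : Matrix (Fin (m + 1)) (Fin (m + 1)) F) * J * ((g⁻¹ : GL (Fin (m + 1)) F) : Matrix (Fin (m + 1)) (Fin (m + 1)) F) := by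
      rw [Units.val_mul, Units.val_mul, hu₀, mul_add, add_mul, mul_one, Units.mul_inv, add_sub_cancel_left]
    have hg : IsUnit ((g : Matrix (Fin (m + 1)) (Fin (m + 1)) F)).det := (Matrix.isUnit_iff_isUnit_det _).mp (Units.isUnit g)
    have hg' : IsUnit (((g⁻¹ : GL (Fin (m + 1)) F) : Matrix (Fin (m + 1)) (Fin (m + 1)) F)).det := (Matrix.isUnit_iff_isUnit_det _).mp (Units.isUnit g⁻¹)
    refine ⟨?_, ?_⟩
    · rw [e]
      have : ∀ k, ((g : Matrix (Fin (m + 1)) (Fin (m + 1)) F) * J * ((g⁻¹ : GL (Fin (m + 1)) F) : Matrix (Fin (m + 1)) (Fin (m + 1)) F)) ^ k =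
          (g : Matrix (Fin (m + 1)) (Fin (m + 1)) F) * J ^ k * ((g⁻¹ : GL (Fin (m + 1)) F) : Matrix (Fin (m + 1)) (Fin (m + 1)) F) := fun k => by
        exact Units.conj_pow g J k
      rw [this, hJnil, mul_zero, zero_mul]
    · rw [e, Matrix.rank_mul_eq_left_of_isUnit_det _ _ hg', Matrix.rank_mul_eq_right_of_isUnit_det _ _ hg, hJrank]
  let toC : GL (Fin (m + 1)) F → {C : ConjClasses (Matrix.SpecialLinearGroup (Fin (m + 1)) F) // ∃ u : Matrix.SpecialLinearGroup (Fin (m + 1)) F, ConjClasses.mk u = C ∧ ((u : Matrix (Fin (m + 1)) (Fin (m + 1)) F) - 1) ^ (m + 1) = 0 ∧ ((u : Matrix (Fin (m + 1)) (Fin (m + 1)) F) - 1).rank = m + 1 - 1} := fun g =>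
    ⟨ConjClasses.mk ⟨↑(g * u₀ * g⁻¹), hdetu _ ⟨m + 1, (hconjreg g).1⟩⟩, ⟨↑(g * u₀ * g⁻¹), hdetu _ ⟨m + 1, (hconjreg g).1⟩⟩, rfl, (hconjreg g).1, by rw [Nat.add_sub_cancel]; exact (hconjreg g).2⟩
  have hsurj : Function.Surjective toC := by
    rintro ⟨C, u, rfl, h1, h2⟩
    obtain ⟨hN, hK⟩ := hnil1 (u : Matrix (Fin (m + 1)) (Fin (m + 1)) F) ⟨h1, by rwa [Nat.add_sub_cancel] at h2⟩
    obtain ⟨e, he⟩ := CfsgLib.GLElem.exists_conj_regular (Module.finrank_fin_fun F) hN₀ hK₀ hN hK
    obtain ⟨g, hg⟩ := CfsgLib.GLElem.exists_glOf (S := e.toLinearMap) (LinearEquiv.isUnit_det' e).ne_zero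
    refine ⟨g, Subtype.ext (congrArg ConjClasses.mk (Subtype.ext ?_))⟩
    show ((g * u₀ * g⁻¹ : GL (Fin (m + 1)) F) : Matrix (Fin (m + 1)) (Fin (m + 1)) F) = u
    have hgu : (g : Matrix (Fin (m + 1)) (Fin (m + 1)) F) * u₀ = (u : Matrix (Fin (m + 1)) (Fin (m + 1)) F) * g := by
      have key : (g : Matrix (Fin (m + 1)) (Fin (m + 1)) F) * ((u₀ : Matrix (Fin (m + 1)) (Fin (m + 1)) F) - 1) =
          ((u : Matrix (Fin (m + 1)) (Fin (m + 1)) F) - 1) * g := by
        refine (Matrix.toLinAlgEquiv' (R := F) (n := Fin (m + 1))).injective (LinearMap.ext fun x => ?_)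
        rw [map_mul, map_mul, Module.End.mul_apply, Module.End.mul_apply]
        have hgx : ∀ y, Matrix.toLinAlgEquiv' (g : Matrix (Fin (m + 1)) (Fin (m + 1)) F) y = e y := fun y => LinearMap.congr_fun hg y
        rw [hgx, hgx, he]
      rw [mul_sub, sub_mul, mul_one, one_mul] at key
      exact sub_left_inj.mp key
    rw [Units.val_mul, Units.val_mul, hgu, mul_assoc, Units.mul_inv, mul_one]
  -- fibres
  let δ : GL (Fin (m + 1)) F →* Fˣ := Matrix.GeneralLinearGroup.det
  let P := (powMonoidHom (m + 1) : Fˣ →* Fˣ).range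
  have hδs : Function.Surjective δ := fun a => by
    refine ⟨Matrix.GeneralLinearGroup.mkOfDetNeZero (Matrix.diagonal (Function.update (fun _ => (1 : F)) 0 (a : F))) (by
      rw [Matrix.det_diagonal, Finset.prod_update_of_mem (Finset.mem_univ _)]; simp), Units.ext ?_⟩
    show (Matrix.diagonal (Function.update (fun _ => (1 : F)) 0 (a : F))).det = a
    rw [Matrix.det_diagonal, Finset.prod_update_of_mem (Finset.mem_univ _)]
    simp
  have hfib : ∀ g g', toC g = toC g' ↔ (δ g)⁻¹ * δ g' ∈ P := by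
    intro g g'
    constructor
    · intro h
      obtain ⟨s, hs⟩ := isConj_iff.mp (ConjClasses.mk_eq_mk_iff_isConj.mp (congrArg Subtype.val h))
      set S := Matrix.SpecialLinearGroup.toGL s
      have hs' : S * (g * u₀ * g⁻¹) * S⁻¹ = g' * u₀ * g'⁻¹ := Units.ext (congrArg Subtype.val hs)
      have hz : (g'⁻¹ * S * g) * u₀ = u₀ * (g'⁻¹ * S * g) := by
        calc g'⁻¹ * S * g * u₀ = g'⁻¹ * (S * (g * u₀ * g⁻¹) * S⁻¹) * S * g := by group
          _ = g'⁻¹ * (g' * u₀ * g'⁻¹) * S * g := by rw [hs']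
          _ = u₀ * (g'⁻¹ * S * g) := by group
      set z := g'⁻¹ * S * g with hzdef
      have hcomm : Commute (Matrix.toLinAlgEquiv' (z : Matrix (Fin (m + 1)) (Fin (m + 1)) F))
          (Matrix.toLinAlgEquiv' ((u₀ : Matrix (Fin (m + 1)) (Fin (m + 1)) F) - 1)) :=
        Commute.map (Commute.sub_right (congrArg Units.val hz) (Commute.one_right _)) _
      obtain ⟨c, hc⟩ := CfsgLib.GLElem.det_commute_regular (Module.finrank_fin_fun F) hN₀ hK₀ hcomm
      have hdz : ((δ z : Fˣ) : F) = c ^ (m + 1) := by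
        rw [← hc]; exact (LinearMap.det_toLin' _).symm
      have hc0 : c ≠ 0 := fun e => (δ z).ne_zero (by rw [hdz, e, zero_pow (by omega)])
      have hS : δ S = 1 := Units.ext s.2
      have hz2 : δ z = (δ g')⁻¹ * δ g := by rw [hzdef, map_mul, map_mul, map_inv, hS, mul_one]
      refine ⟨(Units.mk0 c hc0)⁻¹, ?_⟩
      rw [powMonoidHom_apply, inv_pow, show (Units.mk0 c hc0) ^ (m + 1) = δ z from Units.ext hdz.symm, hz2, mul_inv_rev, inv_inv]
    · rintro ⟨c, hc⟩
      rw [powMonoidHom_apply] at hc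
      let Z : GL (Fin (m + 1)) F := Units.map (Matrix.scalar (Fin (m + 1))).toMonoidHom c⁻¹
      have hZ : ∀ x : GL (Fin (m + 1)) F, x * Z = Z * x := fun x => Units.ext ((Matrix.scalar_commute _ (Commute.all _) _).symm.eq)
      have hdZ : δ Z = c⁻¹ ^ (m + 1) := Units.ext (by
        show (Matrix.scalar (Fin (m + 1)) ((c⁻¹ : Fˣ) : F)).det = _
        simp [Matrix.det_diagonal])
      have hd : δ (g' * Z * g⁻¹) = 1 := by
        rw [map_mul, map_mul, map_inv, hdZ, inv_pow, hc, mul_inv_rev, inv_inv, ← mul_assoc, mul_inv_cancel, one_mul, mul_inv_cancel]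
      obtain ⟨s, hs⟩ : g' * Z * g⁻¹ ∈ (Matrix.SpecialLinearGroup.toGL (R := F) (n := Fin (m + 1))).range := by
        rw [CfsgLib.Linear.toGL_range]; exact hd
      refine Subtype.ext (ConjClasses.mk_eq_mk_iff_isConj.mpr (isConj_iff.mpr ⟨s, ?_⟩))
      have key : g' * Z * g⁻¹ * (g * u₀ * g⁻¹) * (g' * Z * g⁻¹)⁻¹ = g' * u₀ * g'⁻¹ := by
        calc g' * Z * g⁻¹ * (g * u₀ * g⁻¹) * (g' * Z * g⁻¹)⁻¹ = g' * (Z * u₀) * Z⁻¹ * g'⁻¹ := by group
          _ = g' * (u₀ * Z) * Z⁻¹ * g'⁻¹ := by rw [hZ]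
          _ = g' * u₀ * g'⁻¹ := by group
      rw [← hs] at key
      exact Subtype.ext (congrArg Units.val key)
  let sec := Function.surjInv hδs
  have hsec : ∀ a, δ (sec a) = a := Function.surjInv_eq hδs
  let q : Fˣ ⧸ P → {C : ConjClasses (Matrix.SpecialLinearGroup (Fin (m + 1)) F) // ∃ u : Matrix.SpecialLinearGroup (Fin (m + 1)) F, ConjClasses.mk u = C ∧ ((u : Matrix (Fin (m + 1)) (Fin (m + 1)) F) - 1) ^ (m + 1) = 0 ∧ ((u : Matrix (Fin (m + 1)) (Fin (m + 1)) F) - 1).rank = m + 1 - 1} :=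
    Quotient.lift (fun a => toC (sec a)) fun a b hab => (hfib _ _).mpr (by
      rw [hsec, hsec]; exact QuotientGroup.leftRel_apply.mp hab)
  have hq : Function.Bijective q := by
    refine ⟨fun x y => ?_, fun C => ?_⟩
    · induction x using Quotient.inductionOn with | h a =>
      induction y using Quotient.inductionOn with | h b =>
      intro h
      refine QuotientGroup.eq.mpr ?_
      have := (hfib _ _).mp h
      rwa [hsec, hsec] at this
    · obtain ⟨g, rfl⟩ := hsurj C
      exact ⟨QuotientGroup.mk (δ g), (hfib _ _).mpr (by rw [hsec, inv_mul_cancel]; exact P.one_mem)⟩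
  rw [← Nat.card_congr (Equiv.ofBijective q hq), ← Subgroup.index_eq_card, IsCyclic.index_powMonoidHom_range,
    Nat.card_units, Nat.card_eq_fintype_card, hF, Nat.gcd_comm]

end Cfsg.Agent.S2578
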