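import Cfsg.Statements.S2579
import Cfsg.Agent.Classical.GLnBasic
import Cfsg.Prelude.Def_ClassicalGeometry

set_option autoImplicit false
open Cfsg

namespace Cfsg.Agent.S2579

/-- In SL_n(F) with n ≥ 3, over a finite field F, any two transvections (matrices t with t − 1 of rank one and square zero) are conjugate by an element of SL_n(F). -/
theorem result {F : Type*} [Field F] [Finite F] {n : ℕ} (hn : 3 ≤ n) (s t : Matrix.SpecialLinearGroup (Fin n) F) (hs : Cfsg.IsTransvection (s : Matrix (Fin n) (Fin n) F)) (ht : Cfsg.IsTransvection (t : Matrix (Fin n) (Fin n) F)) : IsConj s t := by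
  classical
  obtain ⟨k, rfl⟩ : ∃ k, n = k + 2 := ⟨n - 2, by omega⟩
  obtain ⟨g, v, hv0, hv⟩ := CfsgLib.Linear.GLn.transvection_conj k s hs.1 hs.2
  obtain ⟨g', v', hv0', hv'⟩ := CfsgLib.Linear.GLn.transvection_conj k t ht.1 ht.2
  have hne : ∀ (s : Matrix.SpecialLinearGroup (Fin (k + 2)) F) (g : Matrix.SpecialLinearGroup (Fin (k + 2)) F) (v : Fin (k + 2) → F),
      Cfsg.IsTransvection (s : Matrix (Fin (k + 2)) (Fin (k + 2)) F) →
      ((g⁻¹ * s * g : Matrix.SpecialLinearGroup (Fin (k + 2)) F) : Matrix (Fin (k + 2)) (Fin (k + 2)) F) =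
        1 + Matrix.vecMulVec v (Pi.single 0 1) → v ≠ 0 := by
    intro s g v hs hv e
    rw [e, Matrix.zero_vecMulVec, add_zero, ← Matrix.SpecialLinearGroup.coe_one] at hv
    have h1 : g⁻¹ * s * g = 1 := Subtype.ext hv
    have : s = 1 := by
      have := congrArg (fun z => g * z * g⁻¹) h1
      simpa [mul_assoc] using this
    have h0 := hs.1
    rw [this, Matrix.SpecialLinearGroup.coe_one, sub_self, Matrix.rank_zero] at h0
    exact zero_ne_one h0
  have hkey : ∀ a b : Fin (k + 2) → F, a 0 = 0 → b 0 = 0 → LinearIndependent F ![a, b] →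
      ∃ h : Matrix.SpecialLinearGroup (Fin (k + 2)) F,
        (h : Matrix (Fin (k + 2)) (Fin (k + 2)) F) * (1 + Matrix.vecMulVec a (Pi.single 0 1)) =
          (1 + Matrix.vecMulVec b (Pi.single 0 1)) * (h : Matrix (Fin (k + 2)) (Fin (k + 2)) F) := by
    intro a b ha hb hab
    let c : Module.Basis _ F (Submodule.span F (Set.range ![a, b])) := Module.Basis.span hab
    obtain ⟨ψ, hψ⟩ := LinearMap.exists_extend (c.constr F (fun _ => (1 : F)))
    have hψi : ∀ i, ψ (![a, b] i) = 1 := fun i => by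
      have h1 := LinearMap.congr_fun hψ (c i)
      rw [LinearMap.comp_apply, Module.Basis.constr_basis, Submodule.subtype_apply] at h1
      simpa [c, Module.Basis.span_apply] using h1
    have hd : ψ (b - a) = 0 := by
      rw [map_sub, show ψ b = 1 from hψi 1, show ψ a = 1 from hψi 0, sub_self]
    let T := LinearMap.transvection ψ (b - a)
    have hdet : (LinearMap.toMatrix' T).det = 1 := by
      rw [LinearMap.det_toMatrix', LinearMap.transvection.det, hd, add_zero]
    refine ⟨⟨LinearMap.toMatrix' T, hdet⟩, ?_⟩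
    have hTa : T a = b := by
      rw [LinearMap.transvection.apply, show ψ a = 1 from hψi 0, one_smul, add_sub_cancel]
    have hT0 : ∀ x, T x 0 = x 0 := fun x => by
      rw [LinearMap.transvection.apply, Pi.add_apply, Pi.smul_apply, Pi.sub_apply, ha, hb, sub_self, smul_zero, add_zero]
    show LinearMap.toMatrix' T * _ = _ * LinearMap.toMatrix' T
    refine Matrix.toLin'.injective (LinearMap.ext fun x => ?_)
    simp only [Matrix.toLin'_apply, ← Matrix.mulVec_mulVec, Matrix.add_mulVec, Matrix.one_mulVec,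
      LinearMap.toMatrix'_mulVec, Matrix.vecMulVec_mulVec, single_dotProduct, one_mul, map_add, hT0]
    congr 1
    simp only [op_smul_eq_smul, map_smul, hTa]
  have hstd : ∀ a b : Fin (k + 2) → F, a 0 = 0 → b 0 = 0 → a ≠ 0 → b ≠ 0 →
      ∃ h : Matrix.SpecialLinearGroup (Fin (k + 2)) F,
        (h : Matrix (Fin (k + 2)) (Fin (k + 2)) F) * (1 + Matrix.vecMulVec a (Pi.single 0 1)) =
          (1 + Matrix.vecMulVec b (Pi.single 0 1)) * (h : Matrix (Fin (k + 2)) (Fin (k + 2)) F) := by
    intro a b ha hb ha0 hb0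
    by_cases hab : LinearIndependent F ![a, b]
    · exact hkey a b ha hb hab
    rw [LinearIndependent.pair_iff' ha0] at hab
    push Not at hab
    obtain ⟨r, rfl⟩ := hab
    have hr : r ≠ 0 := by rintro rfl; simp at hb0
    obtain ⟨c, hc0, hc⟩ : ∃ c : Fin (k + 2) → F, c 0 = 0 ∧ LinearIndependent F ![a, c] := by
      have hlt : Submodule.span F {a} < LinearMap.ker (LinearMap.proj (R := F) (φ := fun _ : Fin (k + 2) => F) 0) := by
        refine lt_of_le_of_ne ((Submodule.span_singleton_le_iff_mem _ _).mpr ha) fun e => ?_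
        have h1 := (LinearMap.proj (R := F) (φ := fun _ : Fin (k + 2) => F) 0).finrank_range_add_finrank_ker
        rw [← e, finrank_span_singleton ha0, Module.finrank_fin_fun] at h1
        have := Submodule.finrank_le (LinearMap.range (LinearMap.proj (R := F) (φ := fun _ : Fin (k + 2) => F) 0))
        rw [Module.finrank_self] at this
        omega
      obtain ⟨c, hc, hcs⟩ := SetLike.exists_of_lt hlt
      refine ⟨c, hc, (LinearIndependent.pair_iff' ha0).mpr fun t ht => hcs (Submodule.mem_span_singleton.mpr ⟨t, ht⟩)⟩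
    obtain ⟨h1, e1⟩ := hkey a c ha hc0 hc
    obtain ⟨h2, e2⟩ := hkey c (r • a) hc0 hb (by
      rw [LinearIndependent.pair_iff]
      intro s t hst
      have h := (LinearIndependent.pair_iff.mp hc) (t * r) s (by rw [mul_smul, add_comm (t • r • a)]; exact hst)
      exact ⟨h.2, (mul_eq_zero.mp h.1).resolve_right hr⟩)
    refine ⟨h2 * h1, ?_⟩
    rw [Matrix.SpecialLinearGroup.coe_mul, Matrix.mul_assoc, e1, ← Matrix.mul_assoc, e2, Matrix.mul_assoc]
  obtain ⟨h, hh⟩ := hstd v v' hv0 hv0' (hne s g v hs hv) (hne t g' v' ht hv')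
  have e : h * (g⁻¹ * s * g) = (g'⁻¹ * t * g') * h := Subtype.ext (by
    rw [Matrix.SpecialLinearGroup.coe_mul, hv, hh]
    conv_rhs => rw [Matrix.SpecialLinearGroup.coe_mul, hv'])
  refine isConj_iff.mpr ⟨g' * h * g⁻¹, ?_⟩
  calc g' * h * g⁻¹ * s * (g' * h * g⁻¹)⁻¹ = g' * (h * (g⁻¹ * s * g)) * h⁻¹ * g'⁻¹ := by group
    _ = g' * ((g'⁻¹ * t * g') * h) * h⁻¹ * g'⁻¹ := by rw [e]
    _ = t := by group

end Cfsg.Agent.S2579
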