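import Cfsg.Statements.S2590
import Cfsg.Agent.Classical.SemisimpleOrth
-- import your own Cfsg.Agent.* helpers here

set_option autoImplicit false
open Cfsg

namespace Cfsg.Agent.S2590

/-- Two semisimple elements of odd order of a finite orthogonal group (isometry group of a quadratic form on F^n with non-degenerate polar form, F finite of characteristic p; the elements have odd order prime to p) are conjugate in the orthogonal group if and only if they are conjugate in GL_n(F). -/
theorem result {F : Type*} [Field F] [Fintype F] {p : ℕ} [Fact p.Prime] [CharP F p] {n : ℕ} (Q : QuadraticForm F (Fin n → F)) (hQ : (QuadraticMap.polarBilin Q).Nondegenerate) (A B : ↥(Cfsg.isometryGroup F ⇑Q)) (hodd : Odd (orderOf A)) (hA : (orderOf A).Coprime p) : IsConj A B ↔ IsConj ((A : Matrix.GeneralLinearGroup (Fin n) F) : Matrix (Fin n) (Fin n) F) ((B : Matrix.GeneralLinearGroup (Fin n) F) : Matrix (Fin n) (Fin n) F) := by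
  constructor
  · intro h
    exact MonoidHom.map_isConj ((Units.coeHom (Matrix (Fin n) (Fin n) F)).comp (Cfsg.isometryGroup F ⇑Q).subtype) h
  · rintro ⟨c, hc⟩
    have hN : ((orderOf A : ℕ) : F) ≠ 0 := by
      rw [ne_eq, CharP.cast_eq_zero_iff F p]
      exact fun h => (Fact.out : p.Prime).not_dvd_one (hA ▸ Nat.dvd_gcd h dvd_rfl)
    have hAN : ((A : Matrix.GeneralLinearGroup (Fin n) F) : Matrix (Fin n) (Fin n) F) ^ orderOf A = 1 := by
      rw [← Subgroup.orderOf_coe, ← orderOf_units]; exact pow_orderOf_eq_one _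
    obtain ⟨g, hg, hgA⟩ := CfsgLib.SemiConj.exists_orth_conj Q hQ hN hodd hAN
      (fun v => A.2 v 0) (fun v => B.2 v 0) (Units.isUnit c) hc
    let y : Matrix.GeneralLinearGroup (Fin n) F :=
      Matrix.GeneralLinearGroup.toLin.symm ((LinearMap.GeneralLinearGroup.generalLinearEquiv F _).symm g)
    have hy : ∀ u, Matrix.mulVec (y : Matrix (Fin n) (Fin n) F) u = g u := fun u => by
      change Matrix.mulVec (LinearMap.toMatrix' g.toLinearMap) u = g u
      rw [LinearMap.toMatrix'_mulVec]; rfl
    have hym : y ∈ Cfsg.isometryGroup F ⇑Q := fun u _ => by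
      show Q (Matrix.mulVec (y : Matrix (Fin n) (Fin n) F) u) = Q u
      rw [hy, hg]
    refine ⟨toUnits ⟨y, hym⟩, Subtype.ext (Units.ext ?_)⟩
    refine Matrix.toLin'.injective (LinearMap.ext fun v => ?_)
    show Matrix.mulVec ((y : Matrix (Fin n) (Fin n) F) * ((A : Matrix.GeneralLinearGroup (Fin n) F) : Matrix (Fin n) (Fin n) F)) v =
      Matrix.mulVec (((B : Matrix.GeneralLinearGroup (Fin n) F) : Matrix (Fin n) (Fin n) F) * (y : Matrix (Fin n) (Fin n) F)) v
    rw [← Matrix.mulVec_mulVec, ← Matrix.mulVec_mulVec, hy, hy, hgA]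
    rfl

end Cfsg.Agent.S2590
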