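import Cfsg.Statements.S2591
import Cfsg.Agent.Geo.SpRegClasses

set_option autoImplicit false
open Cfsg

namespace Cfsg.Agent.S2591

/-- Over a finite field of odd order and for m ≥ 1, the regular unipotent elements of Sp_2m(F) (u − 1 nilpotent of rank 2m − 1, a single Jordan block) form exactly two conjugacy classes of Sp_2m(F) (one class under the similarity group, which splits in two). -/
theorem result {F : Type*} [Field F] [Fintype F] {q : ℕ} (hF : Fintype.card F = q) (hq : Odd q) {m : ℕ} (hm : 1 ≤ m) : Nat.card {C : ConjClasses ↥(Matrix.symplecticGroup (Fin m) F) // ∃ u : Matrix.symplecticGroup (Fin m) F, ConjClasses.mk u = C ∧ ((u : Matrix (Fin m ⊕ Fin m) (Fin m ⊕ Fin m) F) - 1) ^ (2 * m) = 0 ∧ ((u : Matrix (Fin m ⊕ Fin m) (Fin m ⊕ Fin m) F) - 1).rank = 2 * m - 1} = 2 := by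
  have h2 : (2 : F) ≠ 0 := by
    intro h
    have hc : ringChar F = 2 := by
      have hd : ringChar F ∣ 2 := ringChar.dvd (by exact_mod_cast h)
      exact (Nat.dvd_prime Nat.prime_two).mp hd |>.resolve_left CharP.ringChar_ne_one
    obtain ⟨n, -, hn⟩ := FiniteField.card F (ringChar F)
    rw [hc, hF] at hn
    exact (Nat.not_even_iff_odd.mpr hq) (hn ▸ Nat.even_pow.mpr ⟨even_two, n.pos.ne'⟩)
  exact CfsgLib.Geo.SpRegUnip.card_classes h2 hm

end Cfsg.Agent.S2591
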