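import Cfsg.Statements.S2592
import Cfsg.Agent.Geo.SpRegUnip

set_option autoImplicit false
open Cfsg

namespace Cfsg.Agent.S2592

/-- Over a finite field with q elements, q odd, the centraliser in Sp_2m(F) (m ≥ 1) of a regular unipotent element (u − 1 nilpotent of rank 2m − 1) has order 2 q^m. -/
theorem result {F : Type*} [Field F] [Fintype F] {q : ℕ} (hF : Fintype.card F = q) (hq : Odd q) {m : ℕ} (hm : 1 ≤ m) (u : Matrix.symplecticGroup (Fin m) F) (hnil : ((u : Matrix (Fin m ⊕ Fin m) (Fin m ⊕ Fin m) F) - 1) ^ (2 * m) = 0) (hreg : ((u : Matrix (Fin m ⊕ Fin m) (Fin m ⊕ Fin m) F) - 1).rank = 2 * m - 1) : Nat.card ↥(Subgroup.centralizer ({u} : Set ↥(Matrix.symplecticGroup (Fin m) F))) = 2 * q ^ m := by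
  have h2 : (2 : F) ≠ 0 := by
    intro h
    haveI := ringChar.charP F
    have hc : ringChar F = 2 := by
      have hd : ringChar F ∣ 2 := ringChar.dvd (by exact_mod_cast h)
      exact (Nat.dvd_prime Nat.prime_two).mp hd |>.resolve_left CharP.ringChar_ne_one
    obtain ⟨n, -, hn⟩ := FiniteField.card F (ringChar F)
    rw [hc, hF] at hn
    exact (Nat.not_even_iff_odd.mpr hq) (hn ▸ Nat.even_pow.mpr ⟨even_two, n.pos.ne'⟩)
  rw [CfsgLib.Geo.SpRegUnip.card_centralizer h2 hm ⟨hnil, hreg⟩, Nat.card_eq_fintype_card, hF]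

end Cfsg.Agent.S2592
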