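import Cfsg.Statements.S2594
import Cfsg.Agent.Classical.RankOne
import Cfsg.Agent.Classical.SymplecticBlocks
-- import your own Cfsg.Agent.* helpers here

set_option autoImplicit false
open Cfsg

namespace Cfsg.Agent.S2594

/-- Over a finite field with q elements, q even, an element t of Sp_2m(F) with rank(t − 1) = 1 (a symplectic transvection) has centraliser in Sp_2m(F) of order q^(2m−1) · |Sp_(2m−2)(q)| = q^(2m−1) · q^((m−1)²) · Π_(i=1)^(m−1) (q^(2i) − 1). -/
theorem result {F : Type*} [Field F] [Fintype F] [CharP F 2] {q : ℕ} (hF : Fintype.card F = q) {m : ℕ} (hm : 1 ≤ m) (t : Matrix.symplecticGroup (Fin m) F) (ht : ((t : Matrix (Fin m ⊕ Fin m) (Fin m ⊕ Fin m) F) - 1).rank = 1) : Nat.card ↥(Subgroup.centralizer ({t} : Set ↥(Matrix.symplecticGroup (Fin m) F))) = q ^ (2 * m - 1) * (q ^ ((m - 1) ^ 2) * ∏ i : Fin (m - 1), (q ^ (2 * ((i : ℕ) + 1)) - 1)) := by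
  classical
  obtain ⟨v, lam, hv, ⟨x₀, hx₀⟩, hlam⟩ := CfsgLib.Linear.RankOne.exists_vec ht
  obtain ⟨y, hy⟩ := CfsgLib.Symp.exists_form_eq_one hv
  set c : F := -lam y with hc
  have htv : t = CfsgLib.Symp.tv v c := by
    refine CfsgLib.Symp.symp_ext fun x => ?_
    have h : CfsgLib.Symp.form (t • x) (t • y) = CfsgLib.Symp.form x y := CfsgLib.Symp.form_smul_smul t x y
    have e : ∀ z : Fin m ⊕ Fin m → F, t • z = z + lam z • v := hlam
    rw [e, e] at h
    simp only [CfsgLib.Symp.form_add_left, CfsgLib.Symp.form_add_right, CfsgLib.Symp.form_smul_left,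
      CfsgLib.Symp.form_smul_right, CfsgLib.Symp.form_self, hy, mul_one, mul_zero, add_zero] at h
    rw [e, CfsgLib.Symp.tv_smul]
    congr 2
    rw [hc]
    linear_combination h
  have hc0 : c ≠ 0 := fun e => by
    rw [e, CfsgLib.Symp.tv_zero] at htv
    have h := hlam x₀
    rw [htv, OneMemClass.coe_one, Matrix.one_mulVec, eq_comm, add_eq_left, smul_eq_zero] at h
    exact h.elim hx₀ hv
  have hkey : ∀ w z : Fin m ⊕ Fin m → F, CfsgLib.Symp.tv w c = CfsgLib.Symp.tv v c →
      CfsgLib.Symp.form z w • w = CfsgLib.Symp.form z v • v := fun w z h => by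
    have h1 := congrArg (fun g : Matrix.symplecticGroup (Fin m) F => g • z) h
    simp only [CfsgLib.Symp.tv_smul, add_right_inj, ← smul_smul] at h1
    exact (smul_right_injective _ hc0) h1
  have hcen : Subgroup.centralizer ({t} : Set ↥(Matrix.symplecticGroup (Fin m) F)) =
      MulAction.stabilizer (Matrix.symplecticGroup (Fin m) F) v := by
    ext g
    rw [Subgroup.mem_centralizer_singleton_iff, MulAction.mem_stabilizer_iff, htv]
    constructor
    · intro h
      have h1 : CfsgLib.Symp.tv (g • v) c = CfsgLib.Symp.tv v c := by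
        rw [← CfsgLib.Symp.tv_conj]
        first
        | rw [h, mul_inv_cancel_right]
        | rw [← h, mul_inv_cancel_right]
      have h2 := hkey _ y h1
      rw [CfsgLib.Symp.form_swap y v, hy] at h2
      obtain ⟨a, ha⟩ : ∃ a : F, g • v = a • v := by
        have hne : CfsgLib.Symp.form y (g • v) ≠ 0 := fun e => by
          rw [e, zero_smul, neg_smul, one_smul, eq_comm, neg_eq_zero] at h2
          exact hv h2
        exact ⟨(CfsgLib.Symp.form y (g • v))⁻¹ * -1, by rw [← smul_smul, ← h2, inv_smul_smul₀ hne]⟩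
      rw [ha, CfsgLib.Symp.form_smul_right, CfsgLib.Symp.form_swap y v, hy, smul_smul] at h2
      have h3 := smul_left_injective F hv h2
      have h4 : (a - 1) * (a - 1) = 0 := by
        try simp only at h3
        linear_combination (-1 : F) * h3 + (1 - a) * CharTwo.two_eq_zero (R := F)
      rw [ha, sub_eq_zero.1 (mul_self_eq_zero.1 h4), one_smul]
    · intro h
      have h1 := CfsgLib.Symp.tv_conj g v c
      rw [h] at h1
      have h5 := mul_inv_eq_iff_eq_mul.1 h1
      first
      | exact h5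
      | exact h5.symm
  have hcardV : Nat.card {x : Fin m ⊕ Fin m → F // x ≠ 0} = q ^ (2 * m) - 1 := by
    rw [Nat.card_eq_fintype_card, Fintype.card_subtype_compl, Fintype.card_subtype_eq, Fintype.card_fun,
      Fintype.card_sum, Fintype.card_fin, hF, two_mul]
  have horb : MulAction.orbit (Matrix.symplecticGroup (Fin m) F) v = {x | x ≠ 0} := by
    ext x
    refine ⟨?_, fun hx => ?_⟩
    · rintro ⟨g, rfl⟩ h0
      exact hv (by rw [← inv_smul_smul g v, show g • v = 0 from h0, smul_zero])
    · obtain ⟨g, hg⟩ := CfsgLib.Symp.exists_smul_eq_of_ne_zero hv hx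
      exact ⟨g, hg⟩
  have hindex := MulAction.index_stabilizer (Matrix.symplecticGroup (Fin m) F) v
  rw [horb, ← Nat.card_coe_set_eq] at hindex
  have hmul := (MulAction.stabilizer (Matrix.symplecticGroup (Fin m) F) v).card_mul_index
  rw [hindex, show Nat.card ↥({x | x ≠ 0} : Set (Fin m ⊕ Fin m → F)) = q ^ (2 * m) - 1 from hcardV,
    CfsgLib.Symp.card_Sp, Nat.card_eq_fintype_card (α := F), hF] at hmul
  obtain ⟨k, rfl⟩ : ∃ k, m = k + 1 := ⟨m - 1, by omega⟩
  rw [Finset.prod_range_succ] at hmul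
  have hq : 2 ≤ q := hF ▸ Fintype.one_lt_card
  have hpos : 0 < q ^ (2 * (k + 1)) - 1 := Nat.sub_pos_of_lt (Nat.one_lt_pow (by omega) (by omega))
  rw [hcen]
  refine Nat.eq_of_mul_eq_mul_right hpos (hmul.trans ?_)
  rw [Nat.add_sub_cancel, Fin.prod_univ_eq_prod_range (fun i => q ^ (2 * (i + 1)) - 1) k,
    show 2 * (k + 1) - 1 = 2 * k + 1 by omega, show (k + 1) ^ 2 = (2 * k + 1) + k ^ 2 by ring, pow_add]
  ring

end Cfsg.Agent.S2594
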