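import Cfsg.Statements.S2597
import Cfsg.Agent.Dye.OmegaCount
import Cfsg.Agent.ParityRank.Split

set_option autoImplicit false
open Cfsg

namespace Cfsg.Agent.S2597

/-- Number of conjugacy classes of involutions in Ω⁺_2m(F) (the commutator subgroup of the orthogonal group of Σ x_i y_i) over a finite field F of characteristic two, m ≥ 1, excluding the case m = 2 over the field of two elements: the involutions of Ω are those with s = rank(t − 1) even, giving two O-classes for each even s with 2 ≤ s ≤ m, each of which is a single Ω-class except that for m even the class with s = m and v ↦ f(v, tv) identically zero splits in two; in all 2⌊m/2⌋ + 1 classes if m is even and 2⌊m/2⌋ if m is odd. -/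
theorem result {F : Type*} [Field F] [Fintype F] [CharP F 2] {m : ℕ} (hm : 1 ≤ m) (h : Fintype.card F ≠ 2 ∨ m ≠ 2) : Nat.card {C : ConjClasses ↥(Cfsg.Omega F (Cfsg.quadFormPlus m F)) // ∃ g : ↥(Cfsg.Omega F (Cfsg.quadFormPlus m F)), ConjClasses.mk g = C ∧ orderOf g = 2} = 2 * (m / 2) + (if Even m then 1 else 0) := by
  obtain ⟨a1, a2, a3⟩ := CfsgLib.Dye.plusU_spec (F := F) m
  obtain ⟨b1, b2, b3⟩ := CfsgLib.Dye.plusW_spec (F := F) m
  have hgen : (∃ t : F, t ≠ 0 ∧ t ≠ 1) ∨ Module.finrank F (Fin m ⊕ Fin m → F) ≠ 4 := by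
    rcases h with h | h
    · left
      by_contra hc
      push Not at hc
      refine h ?_
      classical
      have hu : (Finset.univ : Finset F) = {0, 1} := by
        ext x
        simpa using (em (x = 0)).imp id (hc x)
      rw [← Finset.card_univ, hu, Finset.card_pair zero_ne_one]
    · right
      simp; omega
  rw [CfsgLib.Dye.card_omega (CfsgLib.Quad.plusQ m) (CfsgLib.Quad.plusQ_coe m)
    (CfsgLib.Quad.plusQ_nondeg m) (CfsgLib.Quad.reflGroup_eq_top (CfsgLib.Quad.plusQ_nondeg m) hgen)
    (by simp; omega) (Or.inl le_rfl) (Nat.sub_le m 1) _ a1 a2 a3 _ b1 b2 b3]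
  rw [two_mul]
  congr 1
  exact if_congr ⟨fun h => h.2.1, fun h => ⟨hm, h, le_rfl⟩⟩ rfl rfl

end Cfsg.Agent.S2597
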