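import Cfsg.Statements.S2598
import Cfsg.Agent.Dye.OmegaCount
import Cfsg.Agent.ParityRank.Split

set_option autoImplicit false
open Cfsg

namespace Cfsg.Agent.S2598

/-- Number of conjugacy classes of involutions in Ω⁻_2m(F) (the commutator subgroup of the orthogonal group of an elliptic quadratic form, Σ_(i<m−1) x_i y_i plus an anisotropic binary form) over a finite field F of characteristic two, m ≥ 1: the involutions of Ω are those with s = rank(t − 1) even, one O-class for each even s with 2 ≤ s ≤ m on which v ↦ f(v, tv) is not identically zero and one for each even s with 2 ≤ s < m on which it is zero (f the polar form; in characteristic 2, f(v, tv) = Q(v + tv)), none of which splits in Ω; in all ⌊m/2⌋ + ⌊(m − 1)/2⌋. -/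
theorem result {F : Type*} [Field F] [Fintype F] [CharP F 2] {m : ℕ} (hm : 1 ≤ m) (a b : F) (hab : ∀ z₁ z₂ : F, z₁ ^ 2 + a * z₁ * z₂ + b * z₂ ^ 2 = 0 → z₁ = 0 ∧ z₂ = 0) : Nat.card {C : ConjClasses ↥(Cfsg.Omega F (Cfsg.quadFormMinus (m - 1) F a b)) // ∃ g : ↥(Cfsg.Omega F (Cfsg.quadFormMinus (m - 1) F a b)), ConjClasses.mk g = C ∧ orderOf g = 2} = m / 2 + (m - 1) / 2 := by
  obtain ⟨k, rfl⟩ : ∃ k, m = k + 1 := ⟨m - 1, by omega⟩
  obtain ⟨a1, a2, a3⟩ := CfsgLib.Dye.minusU_spec (F := F) k a b
  obtain ⟨b1, b2, b3⟩ := CfsgLib.Dye.minusW_spec (F := F) k a b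
  have hQ := CfsgLib.Quad.minusQ_nondeg hab k
  have hgen : CfsgLib.Quad.reflGroup (CfsgLib.Quad.minusQ k a b) = ⊤ := by
    by_cases hg : (∃ t : F, t ≠ 0 ∧ t ≠ 1) ∨ Module.finrank F ((Fin k ⊕ Fin k) ⊕ Fin 2 → F) ≠ 4
    · exact CfsgLib.Quad.reflGroup_eq_top hQ hg
    · obtain ⟨hg1, hg2⟩ := not_or.1 hg
      have hk : k = 1 := by
        rw [not_not, Module.finrank_fintype_fun_eq_card] at hg2
        simp at hg2
        omega
      subst hk
      have h2 : ∀ c : F, c = 0 ∨ c = 1 := fun c => by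
        by_contra hc
        exact hg1 ⟨c, (not_or.1 hc).1, (not_or.1 hc).2⟩
      refine CfsgLib.Dye.reflGroup_of_witt_one hQ (e := CfsgLib.Dye.minusW 1 0) (b2 0)
        (b3.ne_zero 0) ?_ h2
      intro x y hx hy hxy hx0
      have hsing : ∀ w ∈ Submodule.span F ({x, y} : Set _), CfsgLib.Quad.minusQ 1 a b w = 0 := by
        intro w hw
        obtain ⟨s, t, rfl⟩ := Submodule.mem_span_pair.1 hw
        rw [CfsgLib.Forms.quad_add, CfsgLib.Forms.quad_smul, CfsgLib.Forms.quad_smul, hx, hy,
          QuadraticMap.polar_smul_left, QuadraticMap.polar_smul_right, hxy]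
        simp
      have h1 := CfsgLib.ParityRank.minus_no_half hab _ hsing
      by_contra hc
      push Not at hc
      have hli : LinearIndependent F ![x, y] := (LinearIndependent.pair_iff' hx0).2 fun s hs => hc s hs.symm
      have h2' := finrank_span_eq_card hli
      rw [Matrix.range_cons, Matrix.range_cons, Matrix.range_empty, Set.union_empty,
        Set.singleton_union, Fintype.card_fin] at h2'
      omega
  rw [show k + 1 - 1 = k from rfl]
  rw [CfsgLib.Dye.card_omega (CfsgLib.Quad.minusQ k a b) (CfsgLib.Quad.minusQ_coe k a b) hQ hgen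
    (by simp; omega) (Or.inr fun W hW => CfsgLib.ParityRank.minus_no_half hab W hW) le_rfl
    _ a1 a2 a3 _ b1 b2 b3]
  rw [if_neg fun h => by omega, add_zero]
  simp

end Cfsg.Agent.S2598
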