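import Cfsg.Statements.S2599
import Cfsg.Agent.Quad.Hyp
import Cfsg.Agent.Forms.Quadratic
import Mathlib.Algebra.CharP.Two

set_option autoImplicit false
open Cfsg

namespace Cfsg.Agent.S2599

/-- An irreducible invariant subspace of a semisimple isometry is non-degenerate or totally singular: let Q be a quadratic form on F^n (F finite of characteristic p) with non-degenerate polar form f, x an isometry of Q of order prime to p, and U a non-zero x-invariant subspace containing no x-invariant subspace other than 0 and U. Then U meets its f-orthogonal trivially, or Q vanishes on U, or p = 2, U is a line spanned by a non-singular vector and x fixes U pointwise. -/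
theorem result {F : Type*} [Field F] [Fintype F] {p : ℕ} [Fact p.Prime] [CharP F p] {n : ℕ} (Q : QuadraticForm F (Fin n → F)) (hQ : (QuadraticMap.polarBilin Q).Nondegenerate) (x : ↥(Cfsg.isometryGroup F ⇑Q)) (hx : (orderOf x).Coprime p) (U : Submodule F (Fin n → F)) (hU0 : U ≠ ⊥) (hUx : ∀ u ∈ U, ((x : Matrix.GeneralLinearGroup (Fin n) F) : Matrix (Fin n) (Fin n) F).mulVec u ∈ U) (hirr : ∀ W : Submodule F (Fin n → F), W ≤ U → (∀ w ∈ W, ((x : Matrix.GeneralLinearGroup (Fin n) F) : Matrix (Fin n) (Fin n) F).mulVec w ∈ W) → W = ⊥ ∨ W = U) : U ⊓ LinearMap.BilinForm.orthogonal (QuadraticMap.polarBilin Q) U = ⊥ ∨ (∀ u ∈ U, Q u = 0) ∨ (p = 2 ∧ Module.finrank F U = 1 ∧ (∃ u ∈ U, Q u ≠ 0) ∧ ∀ u ∈ U, ((x : Matrix.GeneralLinearGroup (Fin n) F) : Matrix (Fin n) (Fin n) F).mulVec u = u) := by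
  classical
  haveI : Finite (Fin n → F) := Pi.finite
  set M := ((x : Matrix.GeneralLinearGroup (Fin n) F) : Matrix (Fin n) (Fin n) F) with hM
  have hQx : ∀ v, Q (M.mulVec v) = Q v := fun v => x.2 v 0
  have hpx : ∀ u v, QuadraticMap.polar Q (M.mulVec u) (M.mulVec v) = QuadraticMap.polar Q u v := fun u v => by
    simp [QuadraticMap.polar, ← Matrix.mulVec_add, hQx]
  let T : U →ₗ[F] U := (M.mulVecLin.restrict hUx)
  have hTinj : Function.Injective M.mulVec := Matrix.mulVec_injective_iff_isUnit.mpr (Units.isUnit (x : Matrix.GeneralLinearGroup (Fin n) F))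
  have hTs : Function.Surjective T := Finite.surjective_of_injective fun a b h => Subtype.ext (hTinj (congrArg Subtype.val h))
  set W := U ⊓ LinearMap.BilinForm.orthogonal (QuadraticMap.polarBilin Q) U with hW
  have hWx : ∀ w ∈ W, M.mulVec w ∈ W := by
    rintro w ⟨hw1, hw2⟩
    refine ⟨hUx w hw1, fun u hu => ?_⟩
    obtain ⟨u', hu'⟩ := hTs ⟨u, hu⟩
    have e : M.mulVec (u' : Fin n → F) = u := congrArg Subtype.val hu'
    show QuadraticMap.polar Q u (M.mulVec w) = 0
    rw [← e, hpx]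
    exact hw2 _ u'.2
  rcases hirr W inf_le_left hWx with h | h
  · exact Or.inl h
  have hpol : ∀ u ∈ U, ∀ v ∈ U, QuadraticMap.polar Q u v = 0 := fun u hu v hv => (h.ge hv).2 u hu
  by_cases hz : ∀ u ∈ U, Q u = 0
  · exact Or.inr (Or.inl hz)
  push Not at hz
  obtain ⟨u, hu, hQu⟩ := hz
  right; right
  have h2 : (2 : F) = 0 := by
    have := hpol u hu u hu
    rw [QuadraticMap.polar_self, nsmul_eq_mul, Nat.cast_ofNat] at this
    exact (mul_eq_zero.mp this).resolve_right hQu
  have hp : p = 2 := ((Nat.prime_dvd_prime_iff_eq (Fact.out) Nat.prime_two).mp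
    ((CharP.cast_eq_zero_iff F p 2).mp (by exact_mod_cast h2)))
  subst hp
  let Z : Submodule F (Fin n → F) :=
    { carrier := {v | v ∈ U ∧ Q v = 0}
      add_mem' := fun {a b} ha hb => ⟨U.add_mem ha.1 hb.1, by
        rw [CfsgLib.Forms.quad_add, ha.2, hb.2, hpol a ha.1 b hb.1, add_zero, add_zero]⟩
      zero_mem' := ⟨U.zero_mem, QuadraticMap.map_zero Q⟩
      smul_mem' := fun c a ha => ⟨U.smul_mem c ha.1, by rw [CfsgLib.Forms.quad_smul, ha.2, mul_zero]⟩ }
  have hZ : Z = ⊥ := (hirr Z (fun v hv => hv.1) fun v hv => ⟨hUx v hv.1, by rw [hQx]; exact hv.2⟩).resolve_right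
    fun e => hQu (e.ge hu).2
  have hinj : ∀ a ∈ U, ∀ b ∈ U, Q a = Q b → a = b := fun a ha b hb e => by
    have : a - b ∈ Z := ⟨U.sub_mem ha hb, by
      rw [sub_eq_add_neg, CfsgLib.Forms.quad_add, QuadraticMap.map_neg, hpol a ha _ (U.neg_mem hb), e,
        CharTwo.add_self_eq_zero, zero_add]⟩
    rwa [hZ, Submodule.mem_bot, sub_eq_zero] at this
  refine ⟨rfl, ?_, ⟨u, hu, hQu⟩, fun v hv => hinj _ (hUx v hv) v hv (hQx v)⟩
  refine le_antisymm ?_ (Nat.one_le_iff_ne_zero.mpr fun e => hU0 (Submodule.finrank_eq_zero.mp e))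
  have hc : Nat.card U ≤ Nat.card F := Nat.card_le_card_of_injective (fun v : U => Q (v : Fin n → F))
    fun a b e => Subtype.ext (hinj _ a.2 _ b.2 e)
  rw [Module.natCard_eq_pow_finrank (K := F)] at hc
  by_contra hlt
  have h1 : 1 < Nat.card F := Finite.one_lt_card
  have := Nat.pow_lt_pow_right h1 (show 1 < Module.finrank F U by omega)
  rw [pow_one] at this
  omega

end Cfsg.Agent.S2599
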