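import Cfsg.Statements.S2600
import Cfsg.Agent.AutPSp.Classes

set_option autoImplicit false
open Cfsg

namespace Cfsg.Agent.S2600

/-- Outer automorphism group of PSp_4(q) for q = 2^f even: it is cyclic of order 2f, generated by the class of the exceptional (graph-field) automorphism whose square is the Frobenius field automorphism. -/
theorem result {F : Type*} [Field F] [Fintype F] {f : ℕ} (hf : 1 ≤ f) (hF : Fintype.card F = 2 ^ f) : IsCyclic (Cfsg.Out (Cfsg.PSp 2 F)) ∧ Nat.card (Cfsg.Out (Cfsg.PSp 2 F)) = 2 * f := by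
  classical
  haveI : Fact (Nat.Prime 2) := ⟨Nat.prime_two⟩
  have hzero : ((Fintype.card F : ℕ) : F) = 0 := FiniteField.cast_card_eq_zero F
  haveI : CharP F 2 := CharTwo.of_one_ne_zero_of_two_eq_zero one_ne_zero (by
    rw [hF, Nat.cast_pow, pow_eq_zero_iff (by omega)] at hzero
    exact_mod_cast hzero)
  obtain ⟨e⟩ := CfsgLib.AutPSL.nonempty_ringAut_equiv hf hF
  have he : Nat.card (RingAut F) = f := by
    rw [Nat.card_congr e.toEquiv, Nat.card_congr Multiplicative.toAdd, Nat.card_zmod]
  exact CfsgLib.AutPSp.out_cyclic he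

end Cfsg.Agent.S2600
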