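import Cfsg.Statements.S2610
import Cfsg.Agent.Quad.OmegaMem
import Cfsg.Agent.Quad.NegOne
-- import your own Cfsg.Agent.* helpers here

set_option autoImplicit false
open Cfsg

namespace Cfsg.Agent.S2610

/-- For a quadratic form Q on F^n with non-degenerate polar form, F finite of odd order and n ≥ 2 even, the isometry −1 lies in Ω (the commutator subgroup of the orthogonal group) if and only if the discriminant of Q (the determinant of the Gram matrix of its polar form) is a square. -/
theorem result {F : Type*} [Field F] [Fintype F] (h2 : (2 : F) ≠ 0) {n : ℕ} (hn : 2 ≤ n) (he : Even n) (Q : QuadraticForm F (Fin n → F)) (hQ : (QuadraticMap.polarBilin Q).Nondegenerate) : (∃ g : ↥(Cfsg.isometryGroup F ⇑Q), g ∈ Cfsg.Omega F ⇑Q ∧ ((g : Matrix.GeneralLinearGroup (Fin n) F) : Matrix (Fin n) (Fin n) F) = -1) ↔ IsSquare (Matrix.of (fun i j : Fin n => QuadraticMap.polar ⇑Q (Pi.single i 1) (Pi.single j 1))).det := by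
  classical
  let _ : Invertible (2 : F) := invertibleOfNonzero h2
  have hsymm : LinearMap.IsSymm (QuadraticMap.polarBilin Q) := ⟨fun x y => by
    simp only [QuadraticMap.polarBilin_apply_apply, RingHom.id_apply]
    exact QuadraticMap.polar_comm _ _ _⟩
  obtain ⟨b, hb⟩ := LinearMap.BilinForm.exists_orthogonal_basis hsymm
  let e : Module.Basis (Fin n) F (Fin n → F) := b.reindex (finCongr (Module.finrank_fin_fun F))
  have horth : ∀ i j, i ≠ j → QuadraticMap.polar Q (e i) (e j) = 0 := fun i j hij => by
    have hne : (finCongr (Module.finrank_fin_fun F)).symm i ≠ (finCongr (Module.finrank_fin_fun F)).symm j :=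
      fun h => hij ((finCongr (Module.finrank_fin_fun F)).symm.injective h)
    simpa [e] using hb hne
  set G := Matrix.of (fun i j : Fin n => QuadraticMap.polar ⇑Q (Pi.single i 1) (Pi.single j 1)) with hG
  have hG' : G = LinearMap.BilinForm.toMatrix (Pi.basisFun F (Fin n)) (QuadraticMap.polarBilin Q) := by
    ext i j
    simp [hG]
  have hdiag : LinearMap.BilinForm.toMatrix e (QuadraticMap.polarBilin Q) = Matrix.diagonal fun i => 2 * Q (e i) := by
    ext i j
    rcases eq_or_ne i j with rfl | hij
    · simp [QuadraticMap.polar_self, nsmul_eq_mul]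
    · simp [hij, horth i j hij]
  have hne : ∀ i, Q (e i) ≠ 0 := fun i h0 => by
    refine e.ne_zero i (hQ.1 _ fun y => ?_)
    rw [← e.sum_repr y, map_sum]
    refine Finset.sum_eq_zero fun j _ => ?_
    rw [map_smul, QuadraticMap.polarBilin_apply_apply]
    rcases eq_or_ne i j with rfl | hij
    · rw [QuadraticMap.polar_self, h0, nsmul_zero, smul_zero]
    · rw [horth i j hij, smul_zero]
  set P := e.toMatrix (Pi.basisFun F (Fin n)) with hP
  have hPd : P.det ≠ 0 := by
    intro h0
    have h1 := congrArg Matrix.det (e.toMatrix_mul_toMatrix_flip (Pi.basisFun F (Fin n)))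
    rw [Matrix.det_mul, ← hP, h0, zero_mul, Matrix.det_one] at h1
    exact zero_ne_one h1
  have hdet : G.det = (P.det * P.det) * ((2 : F) ^ n * ∏ i, Q (e i)) := by
    rw [hG', ← LinearMap.BilinForm.toMatrix_mul_basis_toMatrix (b := e) (c := Pi.basisFun F (Fin n)), hdiag,
      Matrix.det_mul, Matrix.det_mul, Matrix.det_transpose, Matrix.det_diagonal, Finset.prod_mul_distrib,
      Finset.prod_const, Finset.card_univ, Fintype.card_fin, hP]
    ring
  rw [CfsgLib.Quad.exists_omega_iff Q (-1) (CfsgLib.Quad.negIso Q) (fun x => by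
      rw [Matrix.neg_mulVec, Matrix.one_mulVec]; rfl),
    CfsgLib.Quad.negIso_mem_commutator_iff hQ h2 e (by simp) (by simpa) (by simpa) hne horth, hdet]
  obtain ⟨k, rfl⟩ := he
  rw [pow_add]
  constructor
  · exact fun h => (IsSquare.mul_self _).mul ((IsSquare.mul_self _).mul h)
  · intro h
    have h1 := h.mul (IsSquare.mul_self (P.det * (2 : F) ^ k)⁻¹)
    rwa [show P.det * P.det * ((2 : F) ^ k * 2 ^ k * ∏ i, Q (e i)) *
        ((P.det * 2 ^ k)⁻¹ * (P.det * 2 ^ k)⁻¹) = ∏ i, Q (e i) by field_simp] at h1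

end Cfsg.Agent.S2610
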