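import Cfsg.Statements.S2612
import Cfsg.Agent.Quad.PlusLevi
-- import your own Cfsg.Agent.* helpers here

set_option autoImplicit false
open Cfsg

namespace Cfsg.Agent.S2612

/-- For the hyperbolic quadratic form Σ x_i y_i on F^(2m) (F finite, m ≥ 1, excluding m = 2 over the field of two elements), Ω⁺_2m(F) (the commutator subgroup of the orthogonal group) contains an element interchanging the two complementary maximal totally singular subspaces {y = 0} and {x = 0} if and only if m is even (dimension divisible by 4). -/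
theorem result {F : Type*} [Field F] [Fintype F] {m : ℕ} (hm : 1 ≤ m) (h : Fintype.card F ≠ 2 ∨ m ≠ 2) : (∃ g : ↥(Cfsg.isometryGroup F (Cfsg.quadFormPlus m F)), g ∈ Cfsg.Omega F (Cfsg.quadFormPlus m F) ∧ (∀ v : Fin m ⊕ Fin m → F, (∀ i, v (Sum.inr i) = 0) → ∀ i, (((g : Matrix.GeneralLinearGroup (Fin m ⊕ Fin m) F) : Matrix (Fin m ⊕ Fin m) (Fin m ⊕ Fin m) F).mulVec v) (Sum.inl i) = 0) ∧ (∀ v : Fin m ⊕ Fin m → F, (∀ i, v (Sum.inl i) = 0) → ∀ i, (((g : Matrix.GeneralLinearGroup (Fin m ⊕ Fin m) F) : Matrix (Fin m ⊕ Fin m) (Fin m ⊕ Fin m) F).mulVec v) (Sum.inr i) = 0)) ↔ Even m := by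
  classical
  have h' : Nat.card F ≠ 2 ∨ m ≠ 2 := by rwa [Nat.card_eq_fintype_card]
  have hgen := CfsgLib.Quad.hgen_plus (F := F) (m := m) h'
  have hQ := CfsgLib.Quad.plusQ_nondeg (F := F) m
  have hn : Even (Module.finrank F (Fin m ⊕ Fin m → F)) := by
    rw [Module.finrank_fintype_fun_eq_card, Fintype.card_sum, Fintype.card_fin]
    exact ⟨m, rfl⟩
  obtain ⟨ws, hws, hlen, hprod, hswap⟩ := CfsgLib.Quad.exists_swap_plus (F := F) m
  rw [← CfsgLib.Quad.plusQ_coe]
  constructor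
  · rintro ⟨g, hg, h1, h2⟩
    rw [CfsgLib.Quad.mem_omega_iff] at hg
    set g' := CfsgLib.Quad.isoGroupEquiv _ g with hg'
    obtain ⟨vs, hvs, hvs'⟩ := CfsgLib.Quad.exists_reflProd hQ hgen g'
    rw [hvs', CfsgLib.Quad.reflProd_mem_commutator_iff hQ hgen hvs] at hg
    obtain ⟨A, hA⟩ := CfsgLib.Quad.exists_eq_levi (CfsgLib.Quad.reflProd _ ws * g')
      (fun v hv i => by
        show (CfsgLib.Quad.reflProd _ ws).1 (g'.1 v) (Sum.inr i) = 0
        rw [hswap]
        exact h1 v hv i)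
      (fun v hv i => by
        show (CfsgLib.Quad.reflProd _ ws).1 (g'.1 v) (Sum.inl i) = 0
        rw [hswap]
        exact h2 v hv i)
    rw [hvs', ← CfsgLib.Quad.reflProd_append] at hA
    have h3 := CfsgLib.Quad.even_reflProd hQ (List.forall_mem_append.2 ⟨hws, hvs⟩)
    rw [hA, List.length_append, hlen] at h3
    have h4 := CfsgLib.Quad.even_fixSp_levi A
    rw [Nat.even_iff] at h3 h4 hn ⊢
    have h5 := Nat.even_iff.1 hg.1
    omega
  · intro he
    refine ⟨(CfsgLib.Quad.isoGroupEquiv _).symm (CfsgLib.Quad.reflProd _ ws), ?_, ?_, ?_⟩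
    · rw [CfsgLib.Quad.mem_omega_iff, MulEquiv.apply_symm_apply,
        CfsgLib.Quad.reflProd_mem_commutator_iff hQ hgen hws, hlen, hprod, he.neg_one_pow]
      exact ⟨he, IsSquare.one⟩
    · intro v hv i
      rw [← CfsgLib.Quad.isoGroupEquiv_apply, MulEquiv.apply_symm_apply, hswap]
      exact hv i
    · intro v hv i
      rw [← CfsgLib.Quad.isoGroupEquiv_apply, MulEquiv.apply_symm_apply, hswap]
      exact hv i

end Cfsg.Agent.S2612
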