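import Cfsg.Statements.S2614
import Cfsg.Agent.Quad.HypPairs
import Cfsg.Agent.Quad.NegOne
-- import your own Cfsg.Agent.* helpers here

set_option autoImplicit false
open Cfsg

namespace Cfsg.Agent.S2614

/-- For the form x_0² + Σ x_j y_j on F^(2m+1), F finite with q elements, q odd, and 1 ≤ i ≤ m: the involution of determinant one negating the first i hyperbolic pairs (and fixing x_0 and the other pairs) lies in Ω_(2m+1)(q) (commutator subgroup of the orthogonal group) if and only if q^i ≡ 1 (mod 4); its (−1)-eigenspace is a hyperbolic 2i-space. -/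
theorem result {F : Type*} [Field F] [Fintype F] {q : ℕ} (hF : Fintype.card F = q) (hq : Odd q) {m : ℕ} (i : ℕ) (hi : 1 ≤ i) (him : i ≤ m) : (∃ g : ↥(Cfsg.isometryGroup F (Cfsg.quadFormOdd m F)), g ∈ Cfsg.Omega F (Cfsg.quadFormOdd m F) ∧ ((g : Matrix.GeneralLinearGroup (Unit ⊕ (Fin m ⊕ Fin m)) F) : Matrix (Unit ⊕ (Fin m ⊕ Fin m)) (Unit ⊕ (Fin m ⊕ Fin m)) F) = Matrix.diagonal (fun k : Unit ⊕ (Fin m ⊕ Fin m) => if (Sum.elim (fun _ : Unit => i) (Sum.elim (fun j : Fin m => (j : ℕ)) (fun j : Fin m => (j : ℕ))) k) < i then (-1 : F) else 1)) ↔ q ^ i % 4 = 1 := by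
  classical
  have h2 : (2 : F) ≠ 0 := by
    intro h
    have : CharP F 2 := CharTwo.of_one_ne_zero_of_two_eq_zero one_ne_zero h
    have h' := FiniteField.even_card_of_char_two (ringChar.eq F 2)
    rw [hF] at h'
    rw [Nat.odd_iff] at hq
    omega
  have hfam := (CfsgLib.Quad.isHypFamily_odd (F := F) m).comp (Fin.castLE_injective him)
  rw [← CfsgLib.Quad.oddQ_coe, CfsgLib.Quad.neg_pairs_iff h2 (CfsgLib.Quad.oddQ_nondeg h2 m) hfam ?_, Fintype.card_fin,
    CfsgLib.Quad.isSquare_neg_one_pow_iff (by rw [Nat.card_eq_fintype_card, hF]) hq]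
  intro x k
  have hpol : ∀ j : Fin m, QuadraticMap.polar (CfsgLib.Quad.oddQ (F := F) m) x (Pi.single (Sum.inr (Sum.inr j)) 1) = x (Sum.inr (Sum.inl j)) ∧
      QuadraticMap.polar (CfsgLib.Quad.oddQ (F := F) m) x (Pi.single (Sum.inr (Sum.inl j)) 1) = x (Sum.inr (Sum.inr j)) := fun j => by
    constructor <;>
      simp [QuadraticMap.polar, CfsgLib.Quad.oddQ_coe, Cfsg.quadFormOdd, Pi.single_apply, add_mul, mul_add, Finset.sum_add_distrib] <;> ring
  simp only [Function.comp_apply, fun j => (hpol j).1, fun j => (hpol j).2]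
  rcases k with u | j | j
  · rw [Finset.sum_eq_zero] <;> simp
  · by_cases hj : (j : ℕ) < i
    · rw [Finset.sum_eq_single (⟨j, hj⟩ : Fin i)]
      · simp [hj]; ring
      · intro b _ hb
        have : (b : ℕ) ≠ j := fun e => hb (Fin.ext e)
        simp [Fin.ext_iff, Ne.symm this]
      · simp
    · rw [Finset.sum_eq_zero]
      · simp [hj]
      · intro b _
        have : (b : ℕ) ≠ j := fun e => hj (e ▸ b.2)
        simp [Fin.ext_iff, Ne.symm this]
  · by_cases hj : (j : ℕ) < i
    · rw [Finset.sum_eq_single (⟨j, hj⟩ : Fin i)]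
      · simp [hj]; ring
      · intro b _ hb
        have : (b : ℕ) ≠ j := fun e => hb (Fin.ext e)
        simp [Fin.ext_iff, Ne.symm this]
      · simp
    · rw [Finset.sum_eq_zero]
      · simp [hj]
      · intro b _
        have : (b : ℕ) ≠ j := fun e => hj (e ▸ b.2)
        simp [Fin.ext_iff, Ne.symm this]

end Cfsg.Agent.S2614
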