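import Cfsg.Statements.S2617
import Cfsg.Agent.QuadStd.Std

set_option autoImplicit false
open Cfsg CfsgLib.QuadStd CfsgLib.Quad

namespace Cfsg.Agent.S2617

/-- The two standard quadratic forms of even dimension 2m over a finite field are not isometric: there is no linear isomorphism carrying the elliptic form Σ_(i<m−1) x_i y_i + z₁² + z₁z₂ + ζ z₂² (t² + t + ζ without roots) to the hyperbolic form Σ_(i<m) x_i y_i (they have different Witt index). -/
theorem result {F : Type*} [Field F] [Finite F] {m : ℕ} (hm : 1 ≤ m) (ζ : F) (hζ : ∀ t : F, t ^ 2 + t + ζ ≠ 0) (g : (Fin m ⊕ Fin m → F) ≃ₗ[F] ((Fin (m - 1) ⊕ Fin (m - 1)) ⊕ Fin 2 → F)) : ¬ (∀ v : Fin m ⊕ Fin m → F, Cfsg.quadFormMinus (m - 1) F 1 ζ (g v) = Cfsg.quadFormPlus m F v) := by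
  intro h
  set q := Nat.card F with hq
  have hq2 : 1 < q := Finite.one_lt_card
  have h1 := zeros_plus (F := F) hq.symm m
  have h2 := zeros_minus (F := F) hq.symm (plane_aniso hζ) (m - 1)
  have e : Nat.card {v // plusQ (F := F) m v = 0} = Nat.card {v // minusQ (m - 1) 1 ζ v = 0} :=
    Nat.card_congr (Equiv.subtypeEquiv g.toEquiv fun v => by
      rw [plusQ_coe, minusQ_coe]; show _ ↔ Cfsg.quadFormMinus (m - 1) F 1 ζ (g v) = 0; rw [h v])
  rw [e, h2] at h1
  obtain ⟨k, rfl⟩ : ∃ k, m = k + 1 := ⟨m - 1, by omega⟩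
  simp only [Nat.add_sub_cancel] at h1
  rw [show 2 * (k + 1) = 2 * k + 2 by ring, show k + 1 + 1 = k + 2 by ring] at h1
  have : (q : ℤ) ^ (k + 2) = (q : ℤ) ^ (k + 1) := by linarith
  exact absurd (Nat.pow_right_injective hq2 (by exact_mod_cast this)) (by omega)

end Cfsg.Agent.S2617
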