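import Cfsg.Statements.S2619
import Cfsg.Agent.QuadStd.Split
import Mathlib.LinearAlgebra.Matrix.SesquilinearForm
import Mathlib.LinearAlgebra.Matrix.BilinearForm

set_option autoImplicit false
open Cfsg

namespace Cfsg.Agent.S2619

/-- Over a finite field of characteristic two, given an alternating bilinear form B on a finite-dimensional space, a basis (v_i) and scalars (λ_i), there is exactly one quadratic form whose polar form is B and whose value at each v_i is λ_i. -/
theorem result {F V ι : Type*} [Field F] [Finite F] [CharP F 2] [AddCommGroup V] [Module F V] [Fintype ι] (b : Module.Basis ι F V) (B : LinearMap.BilinForm F V) (hB : B.IsAlt) (c : ι → F) : ∃! Q : QuadraticForm F V, QuadraticMap.polarBilin Q = B ∧ ∀ i, Q (b i) = c i := by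
  classical
  let e := Fintype.equivFin ι
  let M : Matrix ι ι F := fun i j => if e i < e j then B (b i) (b j) else if i = j then c i else 0
  let C : LinearMap.BilinForm F V := Matrix.toBilin b M
  have hC : ∀ i j, C (b i) (b j) = M i j := fun i j => by
    rw [← LinearMap.BilinForm.toMatrix_apply b C]
    simp [C, Finsupp.single_apply]
  have hval : ∀ i, (LinearMap.BilinMap.toQuadraticMap C) (b i) = c i := fun i => by
    rw [LinearMap.BilinMap.toQuadraticMap_apply, hC]
    simp [M]
  have hpol : QuadraticMap.polarBilin (LinearMap.BilinMap.toQuadraticMap C) = B := by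
    refine b.ext fun i => b.ext fun j => ?_
    rw [QuadraticMap.polarBilin_apply_apply, LinearMap.BilinMap.polar_toQuadraticMap, hC, hC]
    rcases lt_trichotomy (e i) (e j) with h | h | h
    · have : i ≠ j := fun he => h.ne (congrArg e he)
      simp [M, h, h.asymm, this.symm]
    · obtain rfl := e.injective h
      rw [hB]
      simp [M, CharTwo.add_self_eq_zero]
    · have : i ≠ j := fun he => h.ne (congrArg e he).symm
      simp only [M, h, h.asymm, this, if_true, if_false, zero_add]
      rw [← LinearMap.BilinForm.IsAlt.neg_eq hB (b j) (b i)]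
      exact (CharTwo.neg_eq _).symm
  refine ⟨LinearMap.BilinMap.toQuadraticMap C, ⟨hpol, hval⟩, ?_⟩
  rintro Q' ⟨hp', hv'⟩
  refine QuadraticMap.ext fun v => ?_
  have hv : v ∈ Submodule.span F (Set.range b) := b.mem_span v
  induction hv using Submodule.span_induction with
  | mem x hx => obtain ⟨i, rfl⟩ := hx; rw [hv', hval]
  | zero => rw [QuadraticMap.map_zero, QuadraticMap.map_zero]
  | add x y _ _ hx hy =>
    rw [CfsgLib.Forms.quad_add, CfsgLib.Forms.quad_add, hx, hy, ← QuadraticMap.polarBilin_apply_apply,
      ← QuadraticMap.polarBilin_apply_apply, hp', hpol]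
  | smul a x _ hx => rw [CfsgLib.Forms.quad_smul, CfsgLib.Forms.quad_smul, hx]

end Cfsg.Agent.S2619
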