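import Cfsg.Statements.S2621
import Cfsg.Agent.QuadStd.DiscStd

set_option autoImplicit false
open Cfsg CfsgLib.QuadStd CfsgLib.Quad

namespace Cfsg.Agent.S2621

/-- Discriminant of an elliptic quadratic form Σ_(i<m−1) x_i y_i + z₁² + a z₁z₂ + c z₂² (binary part anisotropic) in dimension 2m over a field with q elements, q odd, m ≥ 1: the determinant of the Gram matrix of its polar form in any basis is a square if and only if m(q − 1)/2 is odd (equivalently q^m ≡ 3 (mod 4)). -/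
theorem result {F : Type*} [Field F] [Fintype F] {q : ℕ} (hF : Fintype.card F = q) (hq : Odd q) {m : ℕ} (hm : 1 ≤ m) (a c : F) (hac : ∀ z₁ z₂ : F, z₁ ^ 2 + a * z₁ * z₂ + c * z₂ ^ 2 = 0 → z₁ = 0 ∧ z₂ = 0) {ι : Type*} [Fintype ι] [DecidableEq ι] (b : Module.Basis ι F ((Fin (m - 1) ⊕ Fin (m - 1)) ⊕ Fin 2 → F)) : IsSquare (Matrix.of (fun i j : ι => QuadraticMap.polar (Cfsg.quadFormMinus (m - 1) F a c) (b i) (b j))).det ↔ ¬ Even (m * (q - 1) / 2) := by
  classical
  have h2 : (2 : F) ≠ 0 := by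
    intro h
    haveI : CharP F 2 := CharTwo.of_one_ne_zero_of_two_eq_zero one_ne_zero h
    obtain ⟨n, -, hn⟩ := FiniteField.card F 2
    rw [← hF, hn] at hq
    exact Nat.not_odd_iff_even.mpr (even_two.pow_of_ne_zero n.ne_zero) hq
  have h := isSquare_det_iff (minusQ (m - 1) a c) b (Pi.basisFun F _)
  rw [gram_minus] at h
  simp only [gram, minusQ_coe] at h
  rw [h, ← isSquare_neg_one_pow_iff hF hq]
  have hd : ¬ IsSquare (a ^ 2 - 4 * c) := by
    rintro ⟨r, hr⟩
    exact one_ne_zero (α := F) (hac ((-a + r) / 2) 1 (by field_simp; linear_combination -hr)).2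
  rw [show (-1 : F) ^ (m - 1) * (4 * c - a ^ 2) = (-1) ^ (m - 1 + 1) * (a ^ 2 - 4 * c) by ring,
    Nat.sub_add_cancel hm]
  exact isSquare_mul_nonsquare_iff h2 (pow_ne_zero _ (neg_ne_zero.mpr one_ne_zero)) hd

end Cfsg.Agent.S2621
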