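import Cfsg.Statements.S2624
import Cfsg.Agent.QuadStd.Disc

set_option autoImplicit false
open Cfsg CfsgLib.QuadStd CfsgLib.Quad

namespace Cfsg.Agent.S2624

/-- For a quadratic form Q on F^n with non-degenerate polar form, F finite and n ≥ 2 even, every non-zero scalar c is the multiplier of some similarity: there is an invertible linear map g with Q(g v) = c·Q(v) for all v. -/
theorem result {F : Type*} [Field F] [Fintype F] {n : ℕ} (hn : 2 ≤ n) (he : Even n) (Q : QuadraticForm F (Fin n → F)) (hQ : (QuadraticMap.polarBilin Q).Nondegenerate) (c : F) (hc : c ≠ 0) : ∃ g : (Fin n → F) ≃ₗ[F] (Fin n → F), ∀ v, Q (g v) = c * Q v := by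
  classical
  by_cases h2 : (2 : F) = 0
  · haveI : CharP F 2 := CharTwo.of_one_ne_zero_of_two_eq_zero one_ne_zero h2
    obtain ⟨d, hd⟩ : IsSquare c := FiniteField.isSquare_of_char_two (ringChar.eq F 2) _
    have hd0 : d ≠ 0 := by rintro rfl; exact hc (by simpa using hd)
    exact ⟨LinearEquiv.smulOfUnit (Units.mk0 d hd0), fun v => by
      show Q ((Units.mk0 d hd0 : Fˣ) • v) = c * Q v
      rw [Units.smul_def, Units.val_mk0, CfsgLib.Forms.quad_smul, hd]⟩
  · have hQ' : (QuadraticMap.polarBilin (c • Q)).Nondegenerate := by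
      have hp : ∀ x y, QuadraticMap.polarBilin (c • Q) x y = c * QuadraticMap.polarBilin Q x y := by
        intro x y; simp [QuadraticMap.polar]; ring
      exact ⟨fun x hx => hQ.1 x fun y => by simpa [hc, hp] using hx y,
        fun y hy => hQ.2 y fun x => by simpa [hc, hp] using hy x⟩
    obtain ⟨g, hg⟩ := isometric_of_disc h2 hQ' hQ (Pi.basisFun F (Fin n)) (Pi.basisFun F (Fin n)) (by
      have : gram (c • Q) (Pi.basisFun F (Fin n)) = c • gram Q (Pi.basisFun F (Fin n)) := by
        ext i j
        simp [gram, QuadraticMap.polar]; ring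
      rw [this, Matrix.det_smul, Fintype.card_fin]
      obtain ⟨k, rfl⟩ := he
      exact ⟨c ^ k * (gram Q (Pi.basisFun F (Fin (k + k)))).det, by rw [pow_add]; ring⟩)
    exact ⟨g, fun v => by rw [hg]; rfl⟩

end Cfsg.Agent.S2624
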