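import Cfsg.Statements.S2626
import Mathlib.LinearAlgebra.Matrix.GeneralLinearGroup.Defs
import Mathlib.Data.Matrix.Block

set_option autoImplicit false
open Cfsg

namespace Cfsg.Agent.S2626

/-- Ω of an orthogonal direct sum contains the product of the Ω's: for quadratic forms Q₁ on F^k and Q₂ on F^l with non-degenerate polar forms (F finite) and Q = Q₁ ⊕ Q₂ on F^(k+l), if g₁ lies in Ω(Q₁) and g₂ in Ω(Q₂) (commutator subgroups of the orthogonal groups) then the block-diagonal isometry diag(g₁, g₂) lies in Ω(Q). -/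
theorem result {F : Type*} [Field F] [Fintype F] {k l : ℕ} (Q₁ : QuadraticForm F (Fin k → F)) (Q₂ : QuadraticForm F (Fin l → F)) (h₁ : (QuadraticMap.polarBilin Q₁).Nondegenerate) (h₂ : (QuadraticMap.polarBilin Q₂).Nondegenerate) (g₁ : ↥(Cfsg.isometryGroup F ⇑Q₁)) (g₂ : ↥(Cfsg.isometryGroup F ⇑Q₂)) (hg₁ : g₁ ∈ Cfsg.Omega F ⇑Q₁) (hg₂ : g₂ ∈ Cfsg.Omega F ⇑Q₂) : ∃ g : ↥(Cfsg.isometryGroup F (fun v : Fin k ⊕ Fin l → F => Q₁ (v ∘ Sum.inl) + Q₂ (v ∘ Sum.inr))), g ∈ Cfsg.Omega F (fun v : Fin k ⊕ Fin l → F => Q₁ (v ∘ Sum.inl) + Q₂ (v ∘ Sum.inr)) ∧ ((g : Matrix.GeneralLinearGroup (Fin k ⊕ Fin l) F) : Matrix (Fin k ⊕ Fin l) (Fin k ⊕ Fin l) F) = Matrix.fromBlocks ((g₁ : Matrix.GeneralLinearGroup (Fin k) F) : Matrix (Fin k) (Fin k) F) 0 0 ((g₂ : Matrix.GeneralLinearGroup (Fin l) F) : Matrix (Fin l) (Fin l) F) := by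
  classical
  let ι₀ : Matrix.GeneralLinearGroup (Fin k) F × Matrix.GeneralLinearGroup (Fin l) F →*
      Matrix.GeneralLinearGroup (Fin k ⊕ Fin l) F := MonoidHom.toHomUnits
    { toFun := fun g => Matrix.fromBlocks (g.1 : Matrix (Fin k) (Fin k) F) 0 0 (g.2 : Matrix (Fin l) (Fin l) F)
      map_one' := by simp [Matrix.fromBlocks_one]
      map_mul' := fun g h => by simp [Matrix.fromBlocks_multiply] }
  let φ : ↥(Cfsg.isometryGroup F ⇑Q₁) × ↥(Cfsg.isometryGroup F ⇑Q₂) →*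
      ↥(Cfsg.isometryGroup F (fun v : Fin k ⊕ Fin l → F => Q₁ (v ∘ Sum.inl) + Q₂ (v ∘ Sum.inr))) :=
    (ι₀.comp (Subgroup.subtype _ |>.prodMap (Subgroup.subtype _))).codRestrict _ fun g => by
      intro u w
      show Q₁ ((Matrix.fromBlocks (g.1.1 : Matrix (Fin k) (Fin k) F) 0 0 (g.2.1 : Matrix (Fin l) (Fin l) F)).mulVec u ∘ Sum.inl) +
        Q₂ ((Matrix.fromBlocks (g.1.1 : Matrix (Fin k) (Fin k) F) 0 0 (g.2.1 : Matrix (Fin l) (Fin l) F)).mulVec u ∘ Sum.inr) =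
          Q₁ (u ∘ Sum.inl) + Q₂ (u ∘ Sum.inr)
      rw [Matrix.fromBlocks_mulVec]
      simp only [Sum.elim_comp_inl, Sum.elim_comp_inr, Matrix.zero_mulVec, add_zero, zero_add]
      have e1 : Q₁ ((g.1.1 : Matrix (Fin k) (Fin k) F).mulVec (u ∘ Sum.inl)) = Q₁ (u ∘ Sum.inl) := g.1.2 _ 0
      have e2 : Q₂ ((g.2.1 : Matrix (Fin l) (Fin l) F).mulVec (u ∘ Sum.inr)) = Q₂ (u ∘ Sum.inr) := g.2.2 _ 0
      rw [e1, e2]
  have hmap : ∀ {A : Type _} [Group A] (f : A →* _) (a : A), a ∈ commutator A →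
      f a ∈ Cfsg.Omega F (fun v : Fin k ⊕ Fin l → F => Q₁ (v ∘ Sum.inl) + Q₂ (v ∘ Sum.inr)) := by
    intro A _ f a ha
    have := Subgroup.mem_map_of_mem f ha
    rw [commutator_def, Subgroup.map_commutator] at this
    exact Subgroup.commutator_mono le_top le_top this
  refine ⟨φ (g₁, g₂), ?_, rfl⟩
  rw [show (g₁, g₂) = MonoidHom.inl _ _ g₁ * MonoidHom.inr _ _ g₂ by simp, map_mul]
  exact mul_mem (hmap (φ.comp (MonoidHom.inl _ _)) g₁ hg₁) (hmap (φ.comp (MonoidHom.inr _ _)) g₂ hg₂)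

end Cfsg.Agent.S2626
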