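import Cfsg.Statements.S2627
import Cfsg.Agent.Quad.OmegaSum
-- import your own Cfsg.Agent.* helpers here

set_option autoImplicit false
open Cfsg

namespace Cfsg.Agent.S2627

/-- For an orthogonal direct sum Q = Q₁ ⊕ Q₂ of quadratic forms with non-degenerate polar forms over a finite field, an isometry g₁ of Q₁ extended by the identity on the second summand lies in Ω(Q) (the commutator subgroup of the orthogonal group of Q) if and only if g₁ lies in Ω(Q₁). (Excluded: the field of two elements when the first summand or the whole space has dimension 4, where the commutator subgroup of O⁺₄(2) is smaller than the group usually called Ω.) -/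
theorem result {F : Type*} [Field F] [Fintype F] {k l : ℕ} (h : Fintype.card F ≠ 2 ∨ (k ≠ 4 ∧ k + l ≠ 4)) (Q₁ : QuadraticForm F (Fin k → F)) (Q₂ : QuadraticForm F (Fin l → F)) (h₁ : (QuadraticMap.polarBilin Q₁).Nondegenerate) (h₂ : (QuadraticMap.polarBilin Q₂).Nondegenerate) (g₁ : ↥(Cfsg.isometryGroup F ⇑Q₁)) : (∃ g : ↥(Cfsg.isometryGroup F (fun v : Fin k ⊕ Fin l → F => Q₁ (v ∘ Sum.inl) + Q₂ (v ∘ Sum.inr))), g ∈ Cfsg.Omega F (fun v : Fin k ⊕ Fin l → F => Q₁ (v ∘ Sum.inl) + Q₂ (v ∘ Sum.inr)) ∧ ((g : Matrix.GeneralLinearGroup (Fin k ⊕ Fin l) F) : Matrix (Fin k ⊕ Fin l) (Fin k ⊕ Fin l) F) = Matrix.fromBlocks ((g₁ : Matrix.GeneralLinearGroup (Fin k) F) : Matrix (Fin k) (Fin k) F) 0 0 1) ↔ g₁ ∈ Cfsg.Omega F ⇑Q₁ := by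
  classical
  rw [← CfsgLib.Quad.sumQ_coe]
  have hgen₁ := CfsgLib.Quad.hgen_of_card (F := F) (n := k) (h.imp_right And.left)
  have hgen : (∃ t : F, t ≠ 0 ∧ t ≠ 1) ∨ Module.finrank F (Fin k ⊕ Fin l → F) ≠ 4 := by
    rcases CfsgLib.Quad.hgen_of_card (F := F) (n := k + l) (h.imp_right And.right) with h' | h'
    · exact Or.inl h'
    · exact Or.inr (by simpa using h')
  rw [CfsgLib.Quad.exists_omega_iff _ _ (CfsgLib.Quad.extendLeft Q₁ Q₂ (CfsgLib.Quad.isoGroupEquiv Q₁ g₁)) (fun x => ?_),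
    CfsgLib.Quad.extendLeft_mem_iff Q₁ Q₂ h₁ h₂ hgen₁ hgen, CfsgLib.Quad.mem_omega_iff]
  rw [Matrix.fromBlocks_mulVec, CfsgLib.Quad.extendLeft_apply, CfsgLib.Quad.isoGroupEquiv_apply]
  simp

end Cfsg.Agent.S2627
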