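import Cfsg.Statements.S2629
import Cfsg.Agent.Quad.ClassAction
-- import your own Cfsg.Agent.* helpers here

set_option autoImplicit false
open Cfsg

namespace Cfsg.Agent.S2629

/-- For the hyperbolic form Σ x_i y_i on F^(2m) over a finite field of odd order (m ≥ 1), an isometry g preserves the class of the maximal totally singular subspace U₀ = {y = 0} (that is, m − dim(U₀ ∩ gU₀) is even) if and only if det g = 1: the stabiliser of each of the two classes of maximal totally singular subspaces is SO. -/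
theorem result {F : Type*} [Field F] [Fintype F] (h2 : (2 : F) ≠ 0) {m : ℕ} (hm : 1 ≤ m) (g : ↥(Cfsg.isometryGroup F (Cfsg.quadFormPlus m F))) : Even (m - Module.finrank F ↥(LinearMap.ker (LinearMap.funLeft F F (Sum.inr : Fin m → Fin m ⊕ Fin m)) ⊓ (LinearMap.ker (LinearMap.funLeft F F (Sum.inr : Fin m → Fin m ⊕ Fin m))).map (Matrix.mulVecLin ((g : Matrix.GeneralLinearGroup (Fin m ⊕ Fin m) F) : Matrix (Fin m ⊕ Fin m) (Fin m ⊕ Fin m) F)))) ↔ ((g : Matrix.GeneralLinearGroup (Fin m ⊕ Fin m) F) : Matrix (Fin m ⊕ Fin m) (Fin m ⊕ Fin m) F).det = 1 := by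
  classical
  have hQ := CfsgLib.Quad.plusQ_nondeg (F := F) m
  have hV := CfsgLib.Linear.MaxSing.finrank_space F m
  have hU₀ : LinearMap.ker (LinearMap.funLeft F F (Sum.inr : Fin m → Fin m ⊕ Fin m)) =
      LinearMap.range (CfsgLib.Linear.MaxSing.inlEmb F m) := by
    ext v
    constructor
    · intro h
      exact ⟨v ∘ Sum.inl, funext fun k => by
        rcases k with k | k
        · rfl
        · exact (congrFun (LinearMap.mem_ker.1 h) k).symm⟩
    · rintro ⟨w, rfl⟩
      exact LinearMap.mem_ker.2 rfl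
  have hmax := CfsgLib.Linear.MaxSing.isMax_inl F m
  rw [← hU₀] at hmax
  revert g
  rw [← CfsgLib.Quad.plusQ_coe]
  intro g
  rw [CfsgLib.Quad.map_mulVecLin_eq]
  have hgen : (∃ t : F, t ≠ 0 ∧ t ≠ 1) ∨ Module.finrank F (Fin m ⊕ Fin m → F) ≠ 4 :=
    Or.inl ⟨-1, neg_ne_zero.mpr one_ne_zero, fun e => h2 (by linear_combination -e)⟩
  obtain ⟨vs, hvs, hvs'⟩ := CfsgLib.Quad.exists_reflProd hQ hgen (CfsgLib.Quad.isoGroupEquiv _ g)
  rw [hvs', CfsgLib.Quad.even_codim_iff hQ hV hmax hvs, ← CfsgLib.Quad.det_isoGroupEquiv, hvs',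
    CfsgLib.Quad.detO_reflProd hvs]
  refine ⟨fun he => he.neg_one_pow, fun e => Nat.not_odd_iff_even.1 fun ho => ?_⟩
  rw [ho.neg_one_pow] at e
  exact h2 (by linear_combination -e)

end Cfsg.Agent.S2629
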