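import Cfsg.Statements.S2630
import Cfsg.Agent.Quad.ClassAction
-- import your own Cfsg.Agent.* helpers here

set_option autoImplicit false
open Cfsg

namespace Cfsg.Agent.S2630

/-- For the hyperbolic form Σ x_i y_i on F^(2m) over a finite field of characteristic two (m ≥ 1, excluding m = 2 over the field of two elements), an isometry g preserves the class of the maximal totally singular subspace U₀ = {y = 0} (m − dim(U₀ ∩ gU₀) even) if and only if g lies in Ω (the commutator subgroup of the orthogonal group): the stabiliser of each class is Ω. -/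
theorem result {F : Type*} [Field F] [Fintype F] [CharP F 2] {m : ℕ} (hm : 1 ≤ m) (h : Fintype.card F ≠ 2 ∨ m ≠ 2) (g : ↥(Cfsg.isometryGroup F (Cfsg.quadFormPlus m F))) : Even (m - Module.finrank F ↥(LinearMap.ker (LinearMap.funLeft F F (Sum.inr : Fin m → Fin m ⊕ Fin m)) ⊓ (LinearMap.ker (LinearMap.funLeft F F (Sum.inr : Fin m → Fin m ⊕ Fin m))).map (Matrix.mulVecLin ((g : Matrix.GeneralLinearGroup (Fin m ⊕ Fin m) F) : Matrix (Fin m ⊕ Fin m) (Fin m ⊕ Fin m) F)))) ↔ g ∈ Cfsg.Omega F (Cfsg.quadFormPlus m F) := by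
  classical
  have hQ := CfsgLib.Quad.plusQ_nondeg (F := F) m
  have hV := CfsgLib.Linear.MaxSing.finrank_space F m
  have hU₀ : LinearMap.ker (LinearMap.funLeft F F (Sum.inr : Fin m → Fin m ⊕ Fin m)) =
      LinearMap.range (CfsgLib.Linear.MaxSing.inlEmb F m) := by
    ext v
    constructor
    · intro h
      exact ⟨v ∘ Sum.inl, funext fun k => by
        rcases k with k | k
        · rfl
        · exact (congrFun (LinearMap.mem_ker.1 h) k).symm⟩
    · rintro ⟨w, rfl⟩
      exact LinearMap.mem_ker.2 rfl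
  have hmax := CfsgLib.Linear.MaxSing.isMax_inl F m
  rw [← hU₀] at hmax
  revert g
  rw [← CfsgLib.Quad.plusQ_coe]
  intro g
  rw [CfsgLib.Quad.map_mulVecLin_eq]
  have hgen : (∃ t : F, t ≠ 0 ∧ t ≠ 1) ∨ Module.finrank F (Fin m ⊕ Fin m → F) ≠ 4 := by
    rcases CfsgLib.Quad.hgen_of_card (F := F) (n := 2 * m) (h.imp_right fun hk => by omega) with h' | h'
    · exact Or.inl h'
    · exact Or.inr (by rw [hV]; simpa using h')
  obtain ⟨vs, hvs, hvs'⟩ := CfsgLib.Quad.exists_reflProd hQ hgen (CfsgLib.Quad.isoGroupEquiv _ g)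
  rw [hvs', CfsgLib.Quad.even_codim_iff hQ hV hmax hvs, CfsgLib.Quad.mem_omega_iff, hvs',
    CfsgLib.Quad.reflProd_mem_commutator_iff hQ hgen hvs]
  exact ⟨fun he => ⟨he, CfsgLib.Quad.isSquare_char_two _⟩, And.left⟩

end Cfsg.Agent.S2630
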