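import Cfsg.Statements.S2631
import Cfsg.Agent.Quad.ClassAction
-- import your own Cfsg.Agent.* helpers here

set_option autoImplicit false
open Cfsg

namespace Cfsg.Agent.S2631

/-- For the hyperbolic form Σ x_i y_i on F^(2m) over a finite field (m ≥ 1, excluding m = 2 over the field of two elements), Ω (the commutator subgroup of the orthogonal group) acts transitively on each of the two classes of maximal totally singular subspaces: if U and W are m-dimensional totally singular subspaces with m − dim(U ∩ W) even, some element of Ω carries U to W. -/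
theorem result {F : Type*} [Field F] [Fintype F] {m : ℕ} (hm : 1 ≤ m) (h : Fintype.card F ≠ 2 ∨ m ≠ 2) (U W : Submodule F (Fin m ⊕ Fin m → F)) (hU : Module.finrank F U = m) (hW : Module.finrank F W = m) (hU0 : ∀ u ∈ U, Cfsg.quadFormPlus m F u = 0) (hW0 : ∀ w ∈ W, Cfsg.quadFormPlus m F w = 0) (he : Even (m - Module.finrank F ↥(U ⊓ W))) : ∃ g : ↥(Cfsg.isometryGroup F (Cfsg.quadFormPlus m F)), g ∈ Cfsg.Omega F (Cfsg.quadFormPlus m F) ∧ U.map (Matrix.mulVecLin ((g : Matrix.GeneralLinearGroup (Fin m ⊕ Fin m) F) : Matrix (Fin m ⊕ Fin m) (Fin m ⊕ Fin m) F)) = W := by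
  classical
  have hQ := CfsgLib.Quad.plusQ_nondeg (F := F) m
  have hV := CfsgLib.Linear.MaxSing.finrank_space F m
  simp only [← CfsgLib.Quad.plusQ_coe] at hU0 hW0
  rw [← CfsgLib.Quad.plusQ_coe]
  have hgen : (∃ t : F, t ≠ 0 ∧ t ≠ 1) ∨ Module.finrank F (Fin m ⊕ Fin m → F) ≠ 4 := by
    rcases CfsgLib.Quad.hgen_of_card (F := F) (n := 2 * m) (h.imp_right fun hk => by omega) with h' | h'
    · exact Or.inl h'
    · exact Or.inr (by rw [hV]; simpa using h')
  exact CfsgLib.Quad.exists_omega_map _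
    (CfsgLib.Quad.exists_map_class hQ hgen hm hV ⟨hU, hU0⟩ ⟨hW, hW0⟩ he)

end Cfsg.Agent.S2631
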