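import Cfsg.Statements.S2635
import Cfsg.Agent.Quad.OmegaMem
-- import your own Cfsg.Agent.* helpers here

set_option autoImplicit false
open Cfsg

namespace Cfsg.Agent.S2635

/-- Over a finite field of characteristic two, for a quadratic form Q on F^n with non-degenerate polar form, n ≥ 2, other than dimension 4 over the field of two elements, Ω (the commutator subgroup of the orthogonal group) is exactly the subgroup generated by the products of two reflections (orthogonal transvections) x ↦ x − Q(v)⁻¹ f(x, v) v, Q(v) ≠ 0: the products of an even number of reflections. -/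
theorem result {F : Type*} [Field F] [Fintype F] [CharP F 2] {n : ℕ} (hn : 2 ≤ n) (h : Fintype.card F ≠ 2 ∨ n ≠ 4) (Q : QuadraticForm F (Fin n → F)) (hQ : (QuadraticMap.polarBilin Q).Nondegenerate) : Cfsg.Omega F ⇑Q = Subgroup.closure {g : ↥(Cfsg.isometryGroup F ⇑Q) | ∃ u v : Fin n → F, Q u ≠ 0 ∧ Q v ≠ 0 ∧ ((g : Matrix.GeneralLinearGroup (Fin n) F) : Matrix (Fin n) (Fin n) F) = Cfsg.reflectionMatrix ⇑Q u * Cfsg.reflectionMatrix ⇑Q v} := by
  classical
  have hgen := CfsgLib.Quad.hgen_of_card (F := F) h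
  refine le_antisymm ?_ ((Subgroup.closure_le _).2 ?_)
  · intro g hg
    rw [CfsgLib.Quad.mem_omega_iff] at hg
    obtain ⟨vs, hvs, hvs'⟩ := CfsgLib.Quad.exists_reflProd hQ hgen (CfsgLib.Quad.isoGroupEquiv Q g)
    rw [hvs', CfsgLib.Quad.reflProd_mem_commutator_iff hQ hgen hvs] at hg
    rw [← (CfsgLib.Quad.isoGroupEquiv Q).symm_apply_apply g, hvs']
    obtain ⟨k, hk⟩ := hg.1
    clear hg hvs'
    induction k generalizing vs with
    | zero =>
      rw [List.length_eq_zero_iff.1 (show vs.length = 0 by omega), CfsgLib.Quad.reflProd_nil, map_one]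
      exact one_mem _
    | succ k ih =>
      rcases vs with _ | ⟨u, _ | ⟨v, vs⟩⟩
      · simp at hk
      · simp only [List.length_cons, List.length_nil] at hk; omega
      · obtain ⟨hu, hv, hvs''⟩ := (List.forall_mem_cons.1 hvs).imp_right List.forall_mem_cons.1
        rw [CfsgLib.Quad.reflProd_cons, CfsgLib.Quad.reflProd_cons, ← mul_assoc, map_mul]
        refine mul_mem (Subgroup.subset_closure ⟨u, v, hu, hv, ?_⟩)
          (ih vs hvs'' (by simp only [List.length_cons] at hk; omega))
        refine Matrix.ext_iff_smul.mpr fun x => ?_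
        rw [Matrix.smul_eq_mulVec, Matrix.smul_eq_mulVec, ← CfsgLib.Quad.isoGroupEquiv_apply,
          MulEquiv.apply_symm_apply, ← Matrix.mulVec_mulVec, CfsgLib.Quad.reflectionMatrix_mulVec,
          CfsgLib.Quad.reflectionMatrix_mulVec]
        rfl
  · rintro g ⟨u, v, hu, hv, e⟩
    have hvs : ∀ w ∈ [u, v], Q w ≠ 0 := by simp [hu, hv]
    rw [SetLike.mem_coe, CfsgLib.Quad.mem_omega_iff,
      (CfsgLib.Quad.isoGroupEquiv_eq_iff Q g (CfsgLib.Quad.reflProd Q [u, v])).2 (fun x => by
        rw [e, ← CfsgLib.Quad.reflProd_apply]; simp),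
      CfsgLib.Quad.reflProd_mem_commutator_iff hQ hgen hvs]
    exact ⟨even_two, CfsgLib.Quad.isSquare_char_two _⟩

end Cfsg.Agent.S2635
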