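import Cfsg.Statements.S2639
import Cfsg.Agent.GLElem.RestrictScalars
import Cfsg.Agent.Unitary.Basic

set_option autoImplicit false
open Cfsg

namespace Cfsg.Agent.S2639

/-- The unitary group embeds in the symplectic group of twice the dimension over the subfield: for a field K with q² elements and a field F with q elements (isomorphic to the subfield of K of order q), there is an injective homomorphism GU_m(q) → Sp_2m(F). -/
theorem result {K F : Type*} [Field K] [Fintype K] [Field F] [Fintype F] {q : ℕ} (hK : Fintype.card K = q ^ 2) (hF : Fintype.card F = q) (m : ℕ) : ∃ φ : ↥(Cfsg.GU m K q) →* ↥(Matrix.symplecticGroup (Fin m) F), Function.Injective φ := by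
  have hK' : Nat.card K = q ^ 2 := by rw [Nat.card_eq_fintype_card, hK]
  have hF' : Nat.card F = q := by rw [Nat.card_eq_fintype_card, hF]
  obtain ⟨ι, hι⟩ := CfsgLib.Unitary.exists_subfield_hom hK' hF'
  obtain ⟨c, hc0, hc⟩ := CfsgLib.RestrictScalars.exists_skew hK'
  have hswap : ∀ u v, hermForm m K q v u = hermForm m K q u v ^ q := fun u v => by
    have := (CfsgLib.Unitary.uForm hK' m).swap u v
    simpa [CfsgLib.Unitary.uForm, CfsgLib.Forms.frobQ_apply] using this
  have hq : q ≠ 0 := by have := CfsgLib.Forms.two_le_q hK'; omega
  refine CfsgLib.RestrictScalars.embed_of_trace hK' hF' ι hι m (Fintype.card_fin m)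
    ((Units.coeHom _).comp (GU m K q).subtype)
    (Units.val_injective.comp Subtype.coe_injective) (fun u v => c * hermForm m K q u v)
    (fun u u' v => by simp [CfsgLib.Unitary.herm_add_left, mul_add])
    (fun u v v' => by
      simp [hermForm, CfsgLib.Forms.add_pow_q hK', mul_add, Finset.sum_add_distrib])
    (fun a u v => by simp [CfsgLib.Unitary.herm_smul_left]; ring)
    (fun a u v => by simp [hermForm, mul_pow, hι, Finset.mul_sum, mul_left_comm])
    (fun t u v => by simp [CfsgLib.Unitary.herm_smul_left]; ring)
    (fun u => by rw [mul_pow, hc, ← hswap]; ring)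
    (fun u hu => ?_)
    (fun g u v => congrArg (c * ·) (g.2 u v))
  funext i
  have := (mul_eq_zero.mp (hu (Pi.single i 1))).resolve_left hc0
  rw [CfsgLib.Unitary.herm_single_left] at this
  exact eq_zero_of_pow_eq_zero this

end Cfsg.Agent.S2639
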