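import Cfsg.Statements.S2640
import Cfsg.Agent.Geo.ExtEmbed
import Cfsg.Agent.QuadStd.Split

set_option autoImplicit false
open Cfsg

namespace Cfsg.Agent.S2640

/-- For m even, the unitary group GU_m(q) (over the field with q² elements) embeds in the orthogonal group O⁺_2m(q) of the hyperbolic form Σ x_i y_i over the field with q elements (there is an injective homomorphism). -/
theorem result {K F : Type*} [Field K] [Fintype K] [Field F] [Fintype F] {q : ℕ} (hK : Fintype.card K = q ^ 2) (hF : Fintype.card F = q) (m : ℕ) (hm : Even m) : ∃ φ : ↥(Cfsg.GU m K q) →* ↥(Cfsg.isometryGroup F (Cfsg.quadFormPlus m F)), Function.Injective φ := by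
  have hK' : Nat.card K = q ^ 2 := by rw [Nat.card_eq_fintype_card, hK]
  have hF' : Nat.card F = q := by rw [Nat.card_eq_fintype_card, hF]
  obtain ⟨ι, hι⟩ := CfsgLib.Unitary.exists_subfield_hom hK' hF'
  obtain ⟨k, rfl⟩ := hm
  obtain ⟨ζ, hζ⟩ : ∃ ζ : F, ∀ t : F, t ^ 2 + t + ζ ≠ 0 := by
    by_contra hc
    push Not at hc
    have hsurj : Function.Surjective fun t : F => -(t ^ 2 + t) := fun z => by
      obtain ⟨t, ht⟩ := hc z
      exact ⟨t, by linear_combination -ht⟩
    have h := (Finite.injective_iff_surjective.mpr hsurj) (show -((0 : F) ^ 2 + 0) = -((-1 : F) ^ 2 + -1) by ring)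
    simp at h
  exact CfsgLib.Geo.ExtEmbed.embed_plus hK' hF' hι (a := 1) (b := ζ)
    (fun z₁ z₂ h => CfsgLib.QuadStd.plane_aniso hζ z₁ z₂ h) k

end Cfsg.Agent.S2640
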