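import Cfsg.Statements.S2642
import Cfsg.Agent.S2570
import Cfsg.Agent.Geo.GUUnipotent

set_option autoImplicit false
open Cfsg

namespace Cfsg.Agent.S2642

/-- Number of conjugacy classes of elements of order p in the general unitary group GU_n(q), q a power of p: every unipotent Jordan type occurs and the classes correspond to the partitions of n with all parts at most p other than the all-ones partition, exactly as in GL_n; so there are (number of partitions of n with parts ≤ p) − 1 classes. -/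
theorem result {K : Type*} [Field K] [Fintype K] {p q n : ℕ} [Fact p.Prime] [CharP K p] (hK : Fintype.card K = q ^ 2) : Nat.card {C : ConjClasses ↥(Cfsg.GU n K q) // ∃ g : ↥(Cfsg.GU n K q), ConjClasses.mk g = C ∧ orderOf g = p} = (Finset.univ.filter (fun μ : Nat.Partition n => ∀ a ∈ μ.parts, a ≤ p)).card - 1 := by
  classical
  have hK' : Nat.card K = q ^ 2 := by rw [Nat.card_eq_fintype_card, hK]
  rw [← Cfsg.Agent.S2570.result (F := K) (p := p) n]
  let f : {C : ConjClasses ↥(Cfsg.GU n K q) // ∃ g : ↥(Cfsg.GU n K q), ConjClasses.mk g = C ∧ orderOf g = p} →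
      {C : ConjClasses (GL (Fin n) K) // ∃ g : GL (Fin n) K, ConjClasses.mk g = C ∧ orderOf g = p} :=
    fun C => ⟨ConjClasses.map (Cfsg.GU n K q).subtype C.1, by
      obtain ⟨g, hg, ho⟩ := C.2
      exact ⟨(g : GL (Fin n) K), by rw [← hg]; rfl, by rw [Subgroup.orderOf_coe, ho]⟩⟩
  refine Nat.card_eq_of_bijective f ⟨?_, ?_⟩
  · rintro ⟨_, g, rfl, hg⟩ ⟨_, h, rfl, hh⟩ he
    have he' : ConjClasses.mk (g : GL (Fin n) K) = ConjClasses.mk (h : GL (Fin n) K) :=
      congrArg Subtype.val he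
    exact Subtype.ext (ConjClasses.mk_eq_mk_iff_isConj.2
      ((CfsgLib.Unitary.isConj_iff_GL hK' g h).2 (ConjClasses.mk_eq_mk_iff_isConj.1 he')))
  · rintro ⟨_, A, rfl, hA⟩
    obtain ⟨B, hB⟩ := CfsgLib.Geo.GUUnipotent.exists_GU_conj hK' A
      ((CfsgLib.GLClass.sub_one_pow_iff p A).1 ⟨1, by rw [pow_one, hA]⟩)
    obtain ⟨c, hc⟩ := isConj_iff.1 hB
    refine ⟨⟨ConjClasses.mk B, B, rfl, ?_⟩, Subtype.ext (ConjClasses.mk_eq_mk_iff_isConj.2 hB.symm)⟩
    rw [← Subgroup.orderOf_coe, ← hc, ← hA]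
    exact orderOf_injective (MulAut.conj c).toMonoidHom (MulAut.conj c).injective A

end Cfsg.Agent.S2642
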