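import Cfsg.Statements.S2645
import Cfsg.Agent.Geo.SpSemisimple
import Cfsg.Agent.S2589

set_option autoImplicit false
open Cfsg

namespace Cfsg.Agent.S2645

theorem _root_.CfsgLib.GLClass.charpoly_eq_of_isConj_gen {K : Type*} [Field K] {ν : Type*} [Fintype ν] [DecidableEq ν]
    {g h : GL ν K} (hc : IsConj g h) :
    (g : Matrix ν ν K).charpoly = (h : Matrix ν ν K).charpoly := by
  obtain ⟨x, hx⟩ := isConj_iff.1 hc
  rw [← hx, Units.val_mul, Units.val_mul, Matrix.coe_units_inv, Matrix.charpoly_units_conj]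

/-- Number of conjugacy classes of elements of odd prime order r, r different from the characteristic, in the symplectic group Sp_2m(q): let i be the multiplicative order of q modulo r and t = (r − 1)/i. If i is odd the eigenvalue orbits pair off (Λ ≠ Λ⁻¹) and the classes correspond to the non-zero (t/2)-tuples (a_j) with 2i Σ a_j ≤ 2m, giving C(⌊m/i⌋ + t/2, t/2) − 1 classes; if i is even (Λ = Λ⁻¹) they correspond to the non-zero t-tuples with i Σ a_j ≤ 2m, giving C(⌊2m/i⌋ + t, t) − 1 classes. -/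
theorem result {F : Type*} [Field F] [Fintype F] {p q : ℕ} [Fact p.Prime] [CharP F p] (hF : Fintype.card F = q) (m r i t : ℕ) (hr : r.Prime) (hr2 : r ≠ 2) (hrp : r ≠ p) (hi : i = orderOf (q : ZMod r)) (ht : t * i = r - 1) : Nat.card {C : ConjClasses ↥(Matrix.symplecticGroup (Fin m) F) // ∃ g : Matrix.symplecticGroup (Fin m) F, ConjClasses.mk g = C ∧ orderOf g = r} = if Odd i then Nat.choose (m / i + t / 2) (t / 2) - 1 else Nat.choose (2 * m / i + t) t - 1 := by
  classical
  haveI := Fact.mk hr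
  have hrp' : r.Coprime p := (Nat.coprime_primes hr Fact.out).2 hrp
  have hQ : ((Fintype.card F : ℕ) : ZMod r) = (q : ZMod r) := by rw [hF]
  have hr3 : 2 < r := lt_of_le_of_ne hr.two_le (Ne.symm hr2)
  haveI : Fact (2 < r) := ⟨hr3⟩
  have hi' : i = orderOf ((Fintype.card F : ℕ) : ZMod r) := by rw [hQ, hi]
  have hi0 : 0 < i := hi' ▸ CfsgLib.Geo.PrimeSD.orderOf_pos' p r hrp'
  have hcrit : (∃ j : ℕ, ((Fintype.card F : ℕ) : ZMod r) ^ j = -((p ^ 0 : ℕ) : ZMod r)) ↔ ¬ Odd i := by
    rw [hQ, pow_zero, Nat.cast_one]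
    constructor
    · rintro ⟨j, hj⟩ ho
      have h1 : (q : ZMod r) ^ (j * 2) = 1 := by rw [pow_mul, hj, neg_one_sq]
      have h2 : i ∣ j := (ho.coprime_two_right).dvd_of_dvd_mul_right (hi ▸ orderOf_dvd_of_pow_eq_one h1)
      rw [hi, orderOf_dvd_iff_pow_eq_one, hj] at h2
      exact ZMod.neg_one_ne_one h2
    · intro he
      obtain ⟨h, hh⟩ := Nat.not_odd_iff_even.1 he
      refine ⟨h, (mul_self_eq_one_iff.1 (?_ : (q : ZMod r) ^ h * (q : ZMod r) ^ h = 1)).resolve_left fun e => ?_⟩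
      · rw [← pow_add, ← hh, hi, pow_orderOf_eq_one]
      · have := orderOf_dvd_of_pow_eq_one e
        rw [← hi, hh] at this
        have := Nat.le_of_dvd (by omega) this
        omega
  have hev : ∀ P ∈ CfsgLib.GLClass.rootFactors F r,
      CfsgLib.Geo.USemi.dual (RingHom.id F) P = P → Even P.natDegree := fun P hP hd => by
    rw [(CfsgLib.GLClass.rootFactors_spec (F := F) p hrp').1 P hP, ← hi']
    exact Nat.not_odd_iff_even.1 (hcrit.1
      ((CfsgLib.Geo.PrimeSD.dual_rootFactor p r hrp' (RingHom.id F) (k := 0) (fun a => by simp) hP).2.1 hd))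
  let e : Fin m ⊕ Fin m ≃ Fin (m + m) := finSumFinEquiv
  let R := Matrix.reindexAlgEquiv F F e
  let ι₀ : ↥(Matrix.symplecticGroup (Fin m) F) →* GL (Fin m ⊕ Fin m) F :=
    (Matrix.symplecticGroup (Fin m) F).subtype.toHomUnits
  let ι : ↥(Matrix.symplecticGroup (Fin m) F) →* GL (Fin (m + m)) F :=
    (Units.map R.toRingEquiv.toMonoidHom).comp ι₀
  have hιval : ∀ h, (ι h).val = Matrix.reindex e e (h : Matrix (Fin m ⊕ Fin m) (Fin m ⊕ Fin m) F) := fun h => rfl
  have hι : Function.Injective ι := fun x y h => Subtype.ext (R.injective (congrArg Units.val h))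
  have hιo : ∀ h, orderOf (ι h) = orderOf h := fun h => orderOf_injective ι hι h
  have hdual : ∀ h, CfsgLib.Geo.USemi.dual (RingHom.id F) (ι h).val.charpoly = (ι h).val.charpoly := by
    intro h
    rw [hιval, Matrix.charpoly_reindex,
      show (h : Matrix (Fin m ⊕ Fin m) (Fin m ⊕ Fin m) F) = (ι₀ h).val from rfl,
      ← CfsgLib.Geo.USemi.charpoly_star']
    have hJ : Matrix.J (Fin m) F * (-Matrix.J (Fin m) F) = 1 := by rw [mul_neg, Matrix.J_squared, neg_neg]
    let Ju : GL (Fin m ⊕ Fin m) F := ⟨Matrix.J (Fin m) F, -Matrix.J (Fin m) F, hJ, mul_eq_one_comm.1 hJ⟩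
    have e' : CfsgLib.Geo.USemi.star' (RingHom.id F) (ι₀ h) = Ju * ι₀ h * Ju⁻¹ := by
      refine Units.ext ?_
      show ((ι₀ h)⁻¹).val.transpose = Matrix.J (Fin m) F * (ι₀ h).val * (-Matrix.J (Fin m) F)
      have h1 : (ι₀ h).val.transpose * Matrix.J (Fin m) F * (ι₀ h).val = Matrix.J (Fin m) F :=
        SymplecticGroup.mem_iff'.1 h.2
      have h2 : ((ι₀ h)⁻¹).val.transpose * (ι₀ h).val.transpose = 1 := by
        rw [← Matrix.transpose_mul, Units.mul_inv, Matrix.transpose_one]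
      calc ((ι₀ h)⁻¹).val.transpose = ((ι₀ h)⁻¹).val.transpose * (Matrix.J (Fin m) F * (-Matrix.J (Fin m) F)) := by
            rw [hJ, mul_one]
        _ = _ := by
            conv_lhs => rw [← mul_assoc, ← congrArg (((ι₀ h)⁻¹).val.transpose * ·) h1]
            simp only [← mul_assoc, h2, one_mul]
    exact CfsgLib.GLClass.charpoly_eq_of_isConj_gen (isConj_iff.2 ⟨Ju, e'.symm⟩) |>.symm
  have hconj : ∀ x y, (orderOf (ι x)).Coprime p → IsConj (ι x) (ι y) → IsConj x y := fun x y hx h => by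
    refine (Cfsg.Agent.S2589.result (p := p) x y (by rwa [← hιo])).2 ?_
    have h1 := MonoidHom.map_isConj (R.symm.toRingEquiv.toMonoidHom.comp (Units.coeHom _)) h
    have e1 : ∀ z, R.symm ((ι z).val) = (z : Matrix (Fin m ⊕ Fin m) (Fin m ⊕ Fin m) F) := fun z =>
      R.symm_apply_apply _
    show IsConj _ _
    rw [← e1 x, ← e1 y]
    exact h1
  rw [CfsgLib.Geo.PrimeSD.card_classes p r hrp' (RingHom.id F) (fun a => rfl) (k := 0) (fun a => by simp)
    ι hι hdual hconj hi' (fun w hw hd => by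
      obtain ⟨hmo, hdeg, h0⟩ := CfsgLib.Geo.PrimeSD.wpoly_props p r hrp' (N := m + m) hi' w hw
      have hreal := CfsgLib.Geo.SpSemi.realised_of_factors p r hrp' hr2 hev _ _ hdeg hmo h0 hd ⟨m, rfl⟩
        (fun P hPm hP hdvd => by
          obtain ⟨Q', h1, h2⟩ := UniqueFactorizationMonoid.exists_mem_normalizedFactors_of_dvd hmo.ne_zero hP hdvd
          rw [Polynomial.eq_of_monic_of_associated hPm (CfsgLib.GLClass.monic_of_mem_nf h1) h2]
          rw [CfsgLib.Geo.PrimeSD.nf_wpoly] at h1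
          rcases Multiset.mem_add.1 h1 with h | h
          · exact Or.inl (Multiset.eq_of_mem_replicate h)
          · obtain ⟨P', -, hP'⟩ := Multiset.mem_sum.1 h
            exact Or.inr (Multiset.eq_of_mem_replicate hP' ▸ P'.2))
      obtain ⟨M, hMo, hMc⟩ := CfsgLib.Geo.SpSemi.exists_mem_symplectic p hdeg hreal
      exact ⟨M, by rwa [hιo], by rw [hιval, Matrix.charpoly_reindex, hMc]⟩)]
  have hcard : (r - 1) / i = t := by rw [← ht, Nat.mul_div_cancel _ hi0]
  simp only [hcrit, hcard, ite_not]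
  rw [show m + m = 2 * m by ring, Nat.mul_div_mul_left m i two_pos]
  split_ifs <;> rfl

end Cfsg.Agent.S2645
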