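import Cfsg.Statements.S2647
import Cfsg.Agent.Quad.SevenTransport

set_option autoImplicit false
open Cfsg

namespace Cfsg.Agent.S2647

/-- Let q be an odd prime power with q ≡ ±3 (mod 8), F a field with q elements and S a Sylow 2-subgroup of the commutator subgroup Ω₇(q) of the orthogonal group of the form x₀² + x₁y₁ + x₂y₂ + x₃y₃ over F. Then every automorphism of S induced by N(S) is inner, S has no strongly closed subgroup other than 1 and S with respect to this group, and the 2-fusion system of Ω₇(q) on S is simple. -/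
theorem result {F : Type*} [Field F] [Fintype F] [DecidableEq F] (q : ℕ) (hF : Fintype.card F = q) (hq : q % 8 = 3 ∨ q % 8 = 5) (S : Sylow 2 ↥(Cfsg.Omega F (Cfsg.quadFormOdd 3 F))) : (Cfsg.groupFusionSystem (S : Subgroup ↥(Cfsg.Omega F (Cfsg.quadFormOdd 3 F)))).autGroup (S : Subgroup ↥(Cfsg.Omega F (Cfsg.quadFormOdd 3 F))) = Cfsg.Inn ↥(S : Subgroup ↥(Cfsg.Omega F (Cfsg.quadFormOdd 3 F))) ∧ (∀ T : Subgroup ↥(Cfsg.Omega F (Cfsg.quadFormOdd 3 F)), (Cfsg.groupFusionSystem (S : Subgroup ↥(Cfsg.Omega F (Cfsg.quadFormOdd 3 F)))).StronglyClosed T → T = ⊥ ∨ T = (S : Subgroup ↥(Cfsg.Omega F (Cfsg.quadFormOdd 3 F)))) ∧ (Cfsg.groupFusionSystem (S : Subgroup ↥(Cfsg.Omega F (Cfsg.quadFormOdd 3 F)))).IsSimple 2 := by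
  exact CfsgLib.Quad.Seven.omega_seven_fusion q hF hq S

end Cfsg.Agent.S2647
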