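import Cfsg.Statements.S2649
import Cfsg.Agent.ExtCert.CodeOK

set_option autoImplicit false
open Cfsg

namespace Cfsg.Agent.S2649

/-- Extensions of the Mathieu group M₂₃ by its code module split. Let E be a finite group with a normal subgroup N, an isomorphism φ from E/N onto M₂₃ = `Spor.M23` (the stabiliser of the extra point `none` in M₂₄ acting on the 24 points `GolayPt`), and an injective additive homomorphism ψ from N onto the set of words of the binary Golay code `golayCode` that vanish at `none` (an 11-dimensional space over the field with two elements), such that conjugation by g ∈ E on N corresponds under ψ to the coordinate permutation w ↦ w ∘ σ⁻¹, σ the permutation φ(gN). Then N has a complement in E: some subgroup H meets N trivially and generates E together with N. (Equivalently, the second cohomology group of M₂₃ with coefficients in this module vanishes.) -/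
theorem result
    {E : Type*} [Group E] [Finite E] (N : Subgroup E) [hN : N.Normal]
    (φ : E ⧸ N ≃* ↥Cfsg.Spor.M23)
    (ψ : Additive ↥N →+ (Cfsg.GolayPt → ZMod 2)) (hinj : Function.Injective ψ)
    (hrange : ∀ w : Cfsg.GolayPt → ZMod 2, w ∈ Set.range ψ ↔ (w ∈ Cfsg.golayCode ∧ w none = 0))
    (hψ : ∀ (g : E) (n : ↥N),
      ψ (Additive.ofMul ⟨g * n * g⁻¹, hN.conj_mem n n.2 g⟩)
        = ψ (Additive.ofMul n) ∘ ⇑(((φ (QuotientGroup.mk g) : ↥Cfsg.Spor.M23) : Equiv.Perm Cfsg.GolayPt)⁻¹)) :
    ∃ H : Subgroup E, H ⊓ N = ⊥ ∧ H ⊔ N = ⊤ := by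
  open CfsgLib.ExtCert in
  haveI := hN
  refine code_splits N φ ψ hinj hrange hψ CodeData.bas_ok CodeData.data CodeData.gen_ok CodeData.rels_ok
    CodeData.k_ok CodeData.fus_ok CodeData.idents_ok CodeData.nf_ok (fun d hd => ?_) ?_
  · rw [CodeData.nf_length] at hd
    rw [show d = 79695 by omega]
    decide
  · rw [show Spor.M23 = (MulAction.stabilizer M24 (none : GolayPt)).map M24.subtype from ?_,
      Subgroup.card_map_of_injective M24.subtype_injective, CfsgLib.Golay.card_stab_point]
    ext g
    exact ⟨fun ⟨h, h0⟩ => ⟨⟨g, h⟩, h0, rfl⟩, fun ⟨⟨g', h⟩, h0, e⟩ => e ▸ ⟨h, h0⟩⟩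

end Cfsg.Agent.S2649
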