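import Cfsg.Statements.S2653
import Cfsg.Agent.AltSection.Reduce

set_option autoImplicit false
open scoped MatrixGroups
open Cfsg

namespace Cfsg.Agent.S2653

/-- Alternating sections of finite linear groups. Let `F` be a finite field of characteristic `p` and `n` a natural number, and suppose some subgroup `H` of GL_n(F) has a normal subgroup `K` with `H ⧸ K` isomorphic to the alternating group of degree `r ≥ 9`. Then `n ≥ r - 2` when `p` divides `r`, and `n ≥ r - 1` otherwise (the smallest degree of a nontrivial projective representation of that alternating group in characteristic `p`). The same bound follows for every classical group with natural module of dimension `n` over `F`, since each is a section of a subgroup of GL_n(F). -/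
theorem result {F : Type*} [Field F] [Fintype F] (p : ℕ) [Fact p.Prime] [CharP F p]
    (n : ℕ) (r : ℕ) (H : Subgroup (GL (Fin n) F)) (K : Subgroup ↥H) [K.Normal]
    (h : Nonempty (↥H ⧸ K ≃* ↥(alternatingGroup (Fin r)))) (hr : 9 ≤ r) :
    r - 1 - (if p ∣ r then 1 else 0) ≤ n := by
  classical
  obtain ⟨e⟩ := h
  letI : Algebra (ZMod p) F := ZMod.algebra F p
  haveI : Algebra.IsAlgebraic (ZMod p) F := Algebra.IsAlgebraic.of_finite (ZMod p) F
  let ι : F →+* AlgebraicClosure (ZMod p) :=
    (IsAlgClosed.lift (M := AlgebraicClosure (ZMod p)) (R := ZMod p) (S := F)).toRingHom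
  let φ : GL (Fin n) F →* GL (Fin n) (AlgebraicClosure (ZMod p)) :=
    Matrix.GeneralLinearGroup.map ι
  have hφ : Function.Injective φ := fun x y hxy => Units.ext
    (Matrix.map_injective ι.injective (congrArg Units.val hxy))
  let eH : H ≃* H.map φ := H.equivMapOfInjective φ hφ
  let π : H.map φ →* alternatingGroup (Fin r) :=
    e.toMonoidHom.comp ((QuotientGroup.mk' K).comp eH.symm.toMonoidHom)
  let ρ : H.map φ →* Module.End (AlgebraicClosure (ZMod p)) (Fin n → AlgebraicClosure (ZMod p)) :=
    (Matrix.toLinAlgEquiv' (R := AlgebraicClosure (ZMod p))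
        (n := Fin n)).toAlgHom.toRingHom.toMonoidHom.comp
      ((Units.coeHom _).comp (H.map φ).subtype)
  have hπ : Function.Surjective π :=
    e.surjective.comp ((QuotientGroup.mk'_surjective K).comp eH.symm.surjective)
  have hker : ρ.ker ≤ π.ker := by
    intro x hx
    have h1 : (((x : GL (Fin n) (AlgebraicClosure (ZMod p)))) :
        Matrix (Fin n) (Fin n) (AlgebraicClosure (ZMod p))) = 1 :=
      (Matrix.toLinAlgEquiv' (R := AlgebraicClosure (ZMod p)) (n := Fin n)).injective
        ((MonoidHom.mem_ker.1 hx).trans (map_one _).symm)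
    have h2 : x = 1 := Subtype.ext (Units.ext h1)
    rw [MonoidHom.mem_ker, h2, map_one]
  haveI : Finite (H.map φ) := Finite.of_equiv H eH.toEquiv
  exact CfsgLib.AltSection.good r hr n p (AlgebraicClosure (ZMod p)) (H.map φ) π _ ρ hπ hker
    (Module.finrank_fin_fun _)

end Cfsg.Agent.S2653
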