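import Cfsg.Statements.S2660
import Cfsg.Agent.Chev.D4TwSections

set_option autoImplicit false
open scoped MatrixGroups
open Cfsg

namespace Cfsg.Agent.S2660

/-- Alternating sections of the triality-twisted groups ³D₄. Let `q = p^a` be a prime power and `K` a field with `q³` elements, and let `G` be the twisted group ³D₄(q) realised over `K`. If some subgroup of `G` has a quotient isomorphic to the alternating group of degree `r`, then `r` is at most 6, or 7 in characteristic 5. (Only an upper bound is asserted.) -/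
theorem result {K : Type*} [Field K] [Fintype K] (p a : ℕ) [Fact p.Prime] [CharP K p]
    (ha : 1 ≤ a) (hK : Fintype.card K = (p ^ a) ^ 3) (r : ℕ) (H : Subgroup ↥(Cfsg.Lie.twistedD4 K (p ^ a))) (N : Subgroup ↥H) [N.Normal]
    (h : Nonempty (↥H ⧸ N ≃* ↥(alternatingGroup (Fin r)))) :
    r ≤ 6 + (if p = 5 then 1 else 0) := by
  obtain ⟨e⟩ := h
  let π : ↥H →* ↥(alternatingGroup (Fin r)) := e.toMonoidHom.comp (QuotientGroup.mk' N)
  have hπ : Function.Surjective π := e.surjective.comp (QuotientGroup.mk'_surjective N)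
  have hpp : IsPrimePow (p ^ a) := (Fact.out : p.Prime).isPrimePow.pow (by omega)
  by_cases hp : p = 5
  · rw [if_pos hp]
    obtain ⟨C⟩ := CfsgLib.Chev.D4Tw.exists_ctx hpp hK
    revert H
    rw [← C.grp_eq]
    intro H N _ _ π hπ
    exact C.alt_eight ⟨a, by simp [hp]⟩ hπ
  · rw [if_neg hp, add_zero]
    haveI := Fact.mk (show Nat.Prime 5 by norm_num)
    obtain ⟨L, hLf, hLt, f, hL⟩ := CfsgLib.Chev.Tab.Good.exists_field_ext (F := K) 4
    obtain ⟨H', π', hπ'⟩ := CfsgLib.Chev.D4Tw.Ctx.exists_section_four f hK hπ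
    obtain ⟨C⟩ := CfsgLib.Chev.D4Tw.exists_ctx (K := L) (q := (p ^ a) ^ 4) (hpp.pow (by norm_num))
      (by rw [hL, hK]; ring)
    revert H'
    rw [← C.grp_eq]
    intro H' π' hπ'
    refine C.alt_seven (CfsgLib.Chev.pow_cast_one (ℓ := 5) fun hd => hp ?_) hπ'
    exact ((Nat.prime_dvd_prime_iff_eq (by norm_num) Fact.out).mp
      (Nat.Prime.dvd_of_dvd_pow (by norm_num) hd)).symm

end Cfsg.Agent.S2660
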