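import Cfsg.Statements.S2665
import Cfsg.Agent.GLElem.Lang

set_option autoImplicit false
open scoped MatrixGroups
open Cfsg

namespace Cfsg.Agent.S2665

/-- The Lang–Steinberg Theorem for the general linear group. Let `K` be an algebraically closed field of prime characteristic `p`, let `q = p^f` with `f ≥ 1`, and let `σ` be the endomorphism of GL_n(K) raising every matrix entry to the `q`-th power. Then every element `g` of GL_n(K) can be written `g = x · σ(x)⁻¹` for some `x` in GL_n(K): the map `x ↦ x σ(x)⁻¹` is surjective. -/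
theorem result {K : Type*} [Field K] [IsAlgClosed K] (p : ℕ) [Fact p.Prime] [CharP K p]
    (f : ℕ) (hf : 1 ≤ f) (n : ℕ) (g : GL (Fin n) K) :
    ∃ x : GL (Fin n) K, g = x * (Matrix.GeneralLinearGroup.map (iterateFrobenius K p f) x)⁻¹ := by
  set σ := iterateFrobenius K p f with hσdef
  have hp := (Fact.out : p.Prime)
  have hσ : ∀ x, σ x = x ^ (p ^ f) := iterateFrobenius_def p f
  have hq : 1 < p ^ f := Nat.one_lt_pow (by omega) hp.one_lt
  let φ : (Fin n → K) →ₛₗ[σ] (Fin n → K) :=
    { toFun := fun v => (g : Matrix (Fin n) (Fin n) K).mulVec fun i => σ (v i)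
      map_add' := fun u v => by
        rw [← Matrix.mulVec_add]; congr 1; funext i; simp
      map_smul' := fun c v => by
        rw [← Matrix.mulVec_smul]; congr 1; funext i; simp }
  have hφ : Function.Injective φ := by
    intro u v h
    have h1 := (Matrix.mulVec_injective_iff_isUnit.mpr (Units.isUnit g)) h
    exact funext fun i => σ.injective (congrFun h1 i)
  have htop := CfsgLib.Lang.span_fixed hσ hq n (Fin n → K) φ hφ (by simp)
  obtain ⟨b, hbs, hsp, hli⟩ := exists_linearIndependent K {w | φ w = w}
  rw [htop] at hsp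
  let B : Module.Basis b K (Fin n → K) := Module.Basis.mk hli (by simpa using hsp.ge)
  haveI : Fintype b := FiniteDimensional.fintypeBasisIndex B
  have hcard : Fintype.card b = n := by
    rw [← Module.finrank_eq_card_basis B]; simp
  let ε := (Fintype.equivFinOfCardEq hcard).symm
  let P : Matrix (Fin n) (Fin n) K := Matrix.of fun i j => (ε j : Fin n → K) i
  have hP : IsUnit P :=
    Matrix.linearIndependent_cols_iff_isUnit.mp (hli.comp ε ε.injective)
  obtain ⟨x, hx⟩ := hP
  refine ⟨x, eq_mul_inv_of_mul_eq (Units.ext ?_)⟩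
  show (g : Matrix (Fin n) (Fin n) K) * (x : Matrix (Fin n) (Fin n) K).map σ = (x : Matrix (Fin n) (Fin n) K)
  rw [hx]
  ext i j
  exact congrFun (hbs (ε j).2) i

end Cfsg.Agent.S2665
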