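import Cfsg.Statements.S2669

set_option autoImplicit false
open Cfsg

namespace Cfsg.Agent.S2669

/-- Shintani descent preserves numbers of fixed points on coset spaces (abstract form). Let `σ` be an automorphism of a group `X` and `e ≥ 1`; write `G` for the fixed points of `σᵉ` and `H` for the fixed points of `σ`, and assume `G` is finite. Let `Y` be a `σ`-stable subgroup of `X` on which the maps `a ↦ a σ(a)⁻¹` and `a ↦ a σᵉ(a)⁻¹` are surjective (as for a closed connected `σ`-stable subgroup of an algebraic group). Let `g ∈ G`, let `a ∈ X` satisfy `g = a σ(a)⁻¹` and put `x = σᵉ(a)⁻¹ a` (the Shintani image, an element of `H`). The element `g σ` of the semidirect product acts on the cosets of `Y ∩ G` in `G` by `k (Y ∩ G) ↦ g σ(k) (Y ∩ G)`, fixing that coset exactly when `k⁻¹ g σ(k) ∈ Y`; and `x` fixes the coset `h (Y ∩ H)` of `H` exactly when `h⁻¹ x h ∈ Y`. Then the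 two numbers of fixed cosets agree; in cross-multiplied form, `#{k ∈ G : k⁻¹ g σ(k) ∈ Y} · |Y ∩ H| = #{h ∈ H : h⁻¹ x h ∈ Y} · |Y ∩ G|`. -/
theorem result {X : Type*} [Group X] (σ : MulAut X) (e : ℕ) (he : 1 ≤ e)
    [Finite ↥((MulEquiv.toMonoidHom (σ ^ e)).eqLocus (MonoidHom.id X))]
    (Y : Subgroup X) (hY : ∀ y : X, y ∈ Y ↔ σ y ∈ Y)
    (hYL : ∀ y ∈ Y, ∃ a ∈ Y, y = a * (σ a)⁻¹) (hYLe : ∀ y ∈ Y, ∃ a ∈ Y, y = a * ((σ ^ e) a)⁻¹)
    (g : X) (hg : g ∈ (MulEquiv.toMonoidHom (σ ^ e)).eqLocus (MonoidHom.id X)) (a : X) (ha : g = a * (σ a)⁻¹) :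
    Nat.card {k : ↥((MulEquiv.toMonoidHom (σ ^ e)).eqLocus (MonoidHom.id X)) // (k : X)⁻¹ * g * σ k ∈ Y} *
        Nat.card ↥(Y ⊓ (MulEquiv.toMonoidHom σ).eqLocus (MonoidHom.id X)) =
      Nat.card {h : ↥((MulEquiv.toMonoidHom σ).eqLocus (MonoidHom.id X)) // (h : X)⁻¹ * (((σ ^ e) a)⁻¹ * a) * h ∈ Y} *
        Nat.card ↥(Y ⊓ (MulEquiv.toMonoidHom (σ ^ e)).eqLocus (MonoidHom.id X)) := by
  classical
  set G := (MulEquiv.toMonoidHom (σ ^ e)).eqLocus (MonoidHom.id X)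
  set H := (MulEquiv.toMonoidHom σ).eqLocus (MonoidHom.id X)
  set τ : MulAut X := σ ^ e with hτ
  have hG : ∀ x, x ∈ G ↔ τ x = x := fun x => Iff.rfl
  have hH : ∀ x, x ∈ H ↔ σ x = x := fun x => Iff.rfl
  have hYe : ∀ b ∈ Y, τ b ∈ Y := by
    have : ∀ k : ℕ, ∀ b ∈ Y, (σ ^ k) b ∈ Y := by
      intro k
      induction k with
      | zero => intro b hb; simpa using hb
      | succ k ih => intro b hb; rw [pow_succ', MulAut.mul_apply]; exact (hY _).mp (ih b hb)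
    exact this e
  set x := (τ a)⁻¹ * a with hx
  have hHG : ∀ h : X, σ h = h → τ h = h := fun h hh => by
    have : ∀ k : ℕ, (σ ^ k) h = h := by
      intro k
      induction k with
      | zero => simp
      | succ k ih => rw [pow_succ', MulAut.mul_apply, ih, hh]
    exact this e
  let S := {p : X × X // σ p.1 = p.1 ∧ p.2 ∈ Y ∧ p.1⁻¹ * x * p.1 = (τ p.2)⁻¹ * p.2}
  have hK : ∀ p : S, τ (a * p.1.1 * p.1.2⁻¹) = a * p.1.1 * p.1.2⁻¹ := fun p => by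
    obtain ⟨⟨h, b⟩, hh, hb, hc⟩ := p
    show τ (a * h * b⁻¹) = a * h * b⁻¹
    rw [map_mul, map_mul, map_inv, hHG h hh]
    calc τ a * h * (τ b)⁻¹ = τ a * h * ((τ b)⁻¹ * b) * b⁻¹ := by group
      _ = τ a * h * (h⁻¹ * ((τ a)⁻¹ * a) * h) * b⁻¹ := by rw [← hc]
      _ = a * h * b⁻¹ := by group
  have hKY : ∀ p : S, (a * p.1.1 * p.1.2⁻¹)⁻¹ * g * σ (a * p.1.1 * p.1.2⁻¹) ∈ Y := fun p => by
    obtain ⟨⟨h, b⟩, hh, hb, hc⟩ := p
    show (a * h * b⁻¹)⁻¹ * g * σ (a * h * b⁻¹) ∈ Y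
    rw [map_mul, map_mul, map_inv, hh, ha, show (a * h * b⁻¹)⁻¹ * (a * (σ a)⁻¹) * (σ a * h * (σ b)⁻¹) = b * (σ b)⁻¹ by group]
    exact Y.mul_mem hb (Y.inv_mem ((hY b).mp hb))
  -- first fibration
  have key1 : ∀ k : {k : ↥G // (k : X)⁻¹ * g * σ k ∈ Y}, ∃ p : S, a * p.1.1 * p.1.2⁻¹ = (k.1 : X) := by
    rintro ⟨⟨k, hk⟩, hkY⟩
    obtain ⟨b, hb, hbe⟩ := hYL _ hkY
    change k⁻¹ * g * σ k = b * (σ b)⁻¹ at hbe
    rw [ha] at hbe
    have hh : σ (a⁻¹ * k * b) = a⁻¹ * k * b := by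
      rw [map_mul, map_mul, map_inv]
      calc (σ a)⁻¹ * σ k * σ b = a⁻¹ * k * (k⁻¹ * (a * (σ a)⁻¹) * σ k) * σ b := by group
        _ = a⁻¹ * k * (b * (σ b)⁻¹) * σ b := by rw [hbe]
        _ = a⁻¹ * k * b := by group
    have hc : (a⁻¹ * k * b)⁻¹ * x * (a⁻¹ * k * b) = (τ b)⁻¹ * b := by
      have h1 := hHG _ hh
      rw [map_mul, map_mul, map_inv, (hG k).mp hk] at h1
      calc (a⁻¹ * k * b)⁻¹ * x * (a⁻¹ * k * b) = ((τ a)⁻¹ * k * τ b)⁻¹ * x * (a⁻¹ * k * b) := by rw [h1]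
        _ = (τ b)⁻¹ * b := by rw [hx]; group
    exact ⟨⟨(a⁻¹ * k * b, b), hh, hb, hc⟩, by show a * (a⁻¹ * k * b) * b⁻¹ = k; group⟩
  choose f hf using key1
  have e1 : {k : ↥G // (k : X)⁻¹ * g * σ k ∈ Y} × ↥(Y ⊓ H) ≃ S :=
    { toFun := fun q => ⟨((f q.1).1.1 * q.2, (f q.1).1.2 * q.2), by
          rw [map_mul, (f q.1).2.1, (hH _).mp q.2.2.2], Y.mul_mem (f q.1).2.2.1 q.2.2.1, by
          have hc := (f q.1).2.2.2
          rw [map_mul, hHG _ ((hH _).mp q.2.2.2)]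
          calc ((f q.1).1.1 * (q.2 : X))⁻¹ * x * ((f q.1).1.1 * q.2) = (q.2 : X)⁻¹ * ((f q.1).1.1⁻¹ * x * (f q.1).1.1) * q.2 := by group
            _ = (q.2 : X)⁻¹ * ((τ (f q.1).1.2)⁻¹ * (f q.1).1.2) * q.2 := by rw [hc]
            _ = _ := by group⟩
      invFun := fun p =>
        (⟨⟨a * p.1.1 * p.1.2⁻¹, hK p⟩, hKY p⟩,
          ⟨(f ⟨⟨a * p.1.1 * p.1.2⁻¹, hK p⟩, hKY p⟩).1.1⁻¹ * p.1.1, by
            have h1 := hf ⟨⟨a * p.1.1 * p.1.2⁻¹, hK p⟩, hKY p⟩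
            change a * _ * _⁻¹ = a * p.1.1 * p.1.2⁻¹ at h1
            generalize f ⟨⟨a * p.1.1 * p.1.2⁻¹, hK p⟩, hKY p⟩ = r at h1 ⊢
            refine ⟨?_, ?_⟩
            · have : r.1.1⁻¹ * p.1.1 = r.1.2⁻¹ * p.1.2 := by
                rw [mul_assoc a, mul_assoc a, mul_left_cancel_iff, mul_inv_eq_iff_eq_mul] at h1
                rw [h1]; group
              show r.1.1⁻¹ * p.1.1 ∈ Y
              rw [this]; exact Y.mul_mem (Y.inv_mem r.2.2.1) p.2.2.1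
            · show σ (r.1.1⁻¹ * p.1.1) = r.1.1⁻¹ * p.1.1
              rw [map_mul, map_inv, r.2.1, p.2.1]⟩)
      left_inv := fun q => by
        have hk : a * ((f q.1).1.1 * (q.2 : X)) * ((f q.1).1.2 * (q.2 : X))⁻¹ = (q.1.1 : X) := by
          rw [← hf q.1]; group
        have hq : ∀ (k : {k : ↥G // (k : X)⁻¹ * g * σ k ∈ Y}), k = q.1 →
            (f k).1.1⁻¹ * ((f q.1).1.1 * (q.2 : X)) = q.2 := by
          rintro k rfl; group
        exact Prod.ext (Subtype.ext (Subtype.ext hk)) (Subtype.ext (hq _ (Subtype.ext (Subtype.ext hk))))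
      right_inv := fun p => by
        have h1 := hf ⟨⟨a * p.1.1 * p.1.2⁻¹, hK p⟩, hKY p⟩
        change a * _ * _⁻¹ = a * p.1.1 * p.1.2⁻¹ at h1
        refine Subtype.ext (Prod.ext ?_ ?_)
        · show _ * (_⁻¹ * p.1.1) = p.1.1
          group
        · show _ * (_⁻¹ * p.1.1) = p.1.2
          generalize f ⟨⟨a * p.1.1 * p.1.2⁻¹, hK p⟩, hKY p⟩ = r at h1 ⊢
          rw [mul_assoc a, mul_assoc a, mul_left_cancel_iff, mul_inv_eq_iff_eq_mul] at h1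
          rw [h1]; group }
  -- second fibration
  have key2 : ∀ h : {h : ↥H // (h : X)⁻¹ * x * h ∈ Y}, ∃ b ∈ Y, (h.1 : X)⁻¹ * x * h.1 = (τ b)⁻¹ * b := by
    rintro ⟨⟨h, hh⟩, hhY⟩
    obtain ⟨b, hb, hbe⟩ := hYLe _ (Y.inv_mem hhY)
    refine ⟨b⁻¹, Y.inv_mem hb, ?_⟩
    show h⁻¹ * x * h = _
    rw [← inv_inv (h⁻¹ * x * h), hbe, map_inv, inv_inv, mul_inv_rev, inv_inv]
  choose f2 hf2 hf2' using key2
  have e2 : {h : ↥H // (h : X)⁻¹ * x * h ∈ Y} × ↥(Y ⊓ G) ≃ S :=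
    { toFun := fun q => ⟨((q.1.1 : X), (q.2 : X) * f2 q.1), (hH _).mp q.1.1.2, Y.mul_mem q.2.2.1 (hf2 q.1), by
          rw [map_mul, (hG _).mp q.2.2.2, hf2' q.1]; group⟩
      invFun := fun p =>
        (⟨⟨p.1.1, p.2.1⟩, by
            show p.1.1⁻¹ * x * p.1.1 ∈ Y
            rw [p.2.2.2]; exact Y.mul_mem (Y.inv_mem (hYe _ p.2.2.1)) p.2.2.1⟩,
          ⟨p.1.2 * (f2 ⟨⟨p.1.1, p.2.1⟩, by
            show p.1.1⁻¹ * x * p.1.1 ∈ Y
            rw [p.2.2.2]; exact Y.mul_mem (Y.inv_mem (hYe _ p.2.2.1)) p.2.2.1⟩)⁻¹, by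
            refine ⟨Y.mul_mem p.2.2.1 (Y.inv_mem (hf2 _)), ?_⟩
            show τ (p.1.2 * _⁻¹) = p.1.2 * _⁻¹
            have h1 := hf2' ⟨⟨p.1.1, p.2.1⟩, by
              show p.1.1⁻¹ * x * p.1.1 ∈ Y
              rw [p.2.2.2]; exact Y.mul_mem (Y.inv_mem (hYe _ p.2.2.1)) p.2.2.1⟩
            change p.1.1⁻¹ * x * p.1.1 = _ at h1
            generalize f2 _ = b0 at h1 ⊢
            rw [p.2.2.2] at h1
            rw [map_mul, map_inv, ← inv_mul_eq_one, mul_inv_rev, inv_inv]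
            calc τ b0 * (τ p.1.2)⁻¹ * (p.1.2 * b0⁻¹) = τ b0 * ((τ p.1.2)⁻¹ * p.1.2) * b0⁻¹ := by group
              _ = τ b0 * ((τ b0)⁻¹ * b0) * b0⁻¹ := by rw [h1]
              _ = 1 := by group⟩)
      left_inv := fun q => Prod.ext (Subtype.ext (Subtype.ext rfl)) (Subtype.ext (by
        show (q.2 : X) * f2 q.1 * (f2 q.1)⁻¹ = q.2
        group))
      right_inv := fun p => Subtype.ext (Prod.ext rfl (by
        show p.1.2 * _⁻¹ * _ = p.1.2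
        group)) }
  rw [← Nat.card_prod, ← Nat.card_prod]
  exact Nat.card_congr (e1.trans e2.symm)

end Cfsg.Agent.S2669
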