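import Cfsg.Statements.S2670
import Cfsg.Agent.Geo.ProjPrimeClasses

set_option autoImplicit false
open Cfsg

namespace Cfsg.Agent.S2670

/-- Number of conjugacy classes of elements of prime order r in PGL_n(q) = GL_n(q)/scalars when r divides q − 1 (n ≥ 2): the classes of elements with a diagonalisable lift correspond to the orbits of the cyclic rotation on the r-tuples of eigenvalue multiplicities (a_0, …, a_(r−1)) summing to n with every a_j < n, and when r divides n there are r − 1 further classes (lifts acting irreducibly on blocks of size r); in all (C(n+r−1, r−1) − r − [r ∣ n])/r + r·[r ∣ n] classes. -/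
theorem result {F : Type*} [Field F] [Fintype F] {q : ℕ} (hF : Fintype.card F = q) {n r : ℕ} (hn : 2 ≤ n) (hr : r.Prime) (hrq : r ∣ q - 1) : Nat.card {C : ConjClasses (GL (Fin n) F ⧸ Subgroup.center (GL (Fin n) F)) // ∃ g : GL (Fin n) F ⧸ Subgroup.center (GL (Fin n) F), ConjClasses.mk g = C ∧ orderOf g = r} = (Nat.choose (n + r - 1) (r - 1) - r - (if r ∣ n then 1 else 0)) / r + r * (if r ∣ n then 1 else 0) := by
  obtain ⟨p, hchar⟩ := CharP.exists F
  haveI := Fact.mk (CharP.char_is_prime F p)
  have hcard : Nat.card Fˣ = q - 1 := by rw [Nat.card_units, Nat.card_eq_fintype_card, hF]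
  have hrp : r.Coprime p := by
    refine (Nat.coprime_primes hr Fact.out).2 fun h => ?_
    subst h
    obtain ⟨k, -, hk⟩ := FiniteField.card F r
    have h1 : r ∣ q := hF ▸ hk ▸ dvd_pow_self r k.ne_zero
    have h2 : 1 ≤ q := hF ▸ Fintype.card_pos
    have h3 := Nat.dvd_sub h1 hrq
    rw [show q - (q - 1) = 1 by omega] at h3
    exact hr.not_dvd_one h3
  refine CfsgLib.Geo.ProjPrimeClasses.card_classes p hn hr hrp (MonoidHom.id (GL (Fin n) F))
    Function.injective_id ⊤ (fun h => ?_) (fun a _ => ⟨_, rfl⟩) (fun v _ => ⟨_, rfl⟩) (fun x y h => h)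
    (fun a _ => Subgroup.mem_top a) ?_ (fun _ _ b _ => Subgroup.mem_top b) (fun c _ _ t _ => ⟨t, IsConj.refl t⟩)
  · rw [CfsgLib.Geo.PGLInvol.center_eq]
    simp [MonoidHom.mem_range, eq_comm]
  · rw [Subgroup.card_top, hcard]; exact hrq

end Cfsg.Agent.S2670
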