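import Cfsg.Statements.S2671
import Cfsg.Agent.Geo.PrimeSelfDual

set_option autoImplicit false
open Cfsg

namespace Cfsg.Agent.S2671

/-- Number of conjugacy classes of elements of odd prime order r in the general unitary group GU_n(q), for r not dividing q(q + 1): let i be the multiplicative order of q modulo r, b = i if i is odd and b = i/2 if i is even, and s = (r − 1)/b. If i ≢ 2 (mod 4) the eigenvalue orbits pair off into dual pairs of totally isotropic blocks and there are C(⌊n/(2b)⌋ + s/2, s/2) − 1 classes; if i ≡ 2 (mod 4) each orbit gives a non-degenerate block of dimension i/2 and there are C(⌊2n/i⌋ + s, s) − 1 classes. -/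
theorem result {K : Type*} [Field K] [Fintype K] {p q n r i b s : ℕ} [Fact p.Prime] [CharP K p] (hK : Fintype.card K = q ^ 2) (hr : r.Prime) (hr2 : r ≠ 2) (hrp : r ≠ p) (hi : i = orderOf (q : ZMod r)) (hi2 : i ≠ 2) (hb : b = if Odd i then i else i / 2) (hs : s * b = r - 1) : Nat.card {C : ConjClasses ↥(Cfsg.GU n K q) // ∃ g : ↥(Cfsg.GU n K q), ConjClasses.mk g = C ∧ orderOf g = r} = if i % 4 = 2 then Nat.choose (2 * n / i + s) s - 1 else Nat.choose (n / (2 * b) + s / 2) (s / 2) - 1 := by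
  classical
  have hK' : Nat.card K = q ^ 2 := by rw [Nat.card_eq_fintype_card, hK]
  haveI := Fact.mk hr
  obtain ⟨j, hpp, hj⟩ := FiniteField.card K p
  obtain ⟨k, -, hk⟩ := (Nat.dvd_prime_pow hpp).1 (hj ▸ hK ▸ dvd_pow_self q two_ne_zero : q ∣ p ^ (j : ℕ))
  have hrp' : r.Coprime p := (Nat.coprime_primes hr hpp).2 hrp
  have hQ : ((Fintype.card K : ℕ) : ZMod r) = (q : ZMod r) ^ 2 := by rw [hK, Nat.cast_pow]
  have hr3 : 2 < r := lt_of_le_of_ne hr.two_le (Ne.symm hr2)
  haveI : Fact (2 < r) := ⟨hr3⟩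
  have hb' : b = orderOf ((Fintype.card K : ℕ) : ZMod r) := by
    rw [hQ, orderOf_pow' _ two_ne_zero, ← hi, hb]
    split_ifs with ho
    · rw [ho.coprime_two_right.gcd_eq_one, Nat.div_one]
    · rw [Nat.gcd_eq_right (Nat.not_odd_iff_even.1 ho).two_dvd]
  have hb0 : 0 < b := hb' ▸ CfsgLib.Geo.PrimeSD.orderOf_pos' p r hrp'
  have hi0 : 0 < i := by rw [hb] at hb0; split_ifs at hb0 <;> omega
  have hcrit : (∃ j : ℕ, ((Fintype.card K : ℕ) : ZMod r) ^ j = -((p ^ k : ℕ) : ZMod r)) ↔ i % 4 = 2 := by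
    rw [← hk, hQ]
    constructor
    · rintro ⟨j, hj⟩
      have hw : (q : ZMod r) ^ (2 * j + i - 1) = -1 := by
        have h1 : (q : ZMod r) ^ (2 * j + i - 1) * (q : ZMod r) = -(q : ZMod r) := by
          rw [← pow_succ, Nat.sub_add_cancel (by omega), pow_add, hi, pow_orderOf_eq_one, mul_one, pow_mul, hj]
        have hq0 : (q : ZMod r) ≠ 0 := fun h0 => by
          have h2 := pow_orderOf_eq_one (q : ZMod r)
          rw [← hi, h0, zero_pow hi0.ne'] at h2
          exact zero_ne_one h2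
        exact mul_right_cancel₀ hq0 (by rw [h1, neg_one_mul])
      have h2 : i ∣ 2 * (2 * j + i - 1) := by
        rw [hi]; exact orderOf_dvd_of_pow_eq_one (by rw [← hi, mul_comm, pow_mul, hw, neg_one_sq])
      have h3 : ¬ i ∣ 2 * j + i - 1 := fun hd => by
        rw [hi] at hd
        have h4 := orderOf_dvd_iff_pow_eq_one.1 hd
        rw [← hi, hw] at h4
        exact ZMod.neg_one_ne_one h4
      rcases Nat.even_or_odd i with ⟨h, rfl⟩ | ho
      · obtain ⟨c, hc⟩ : h ∣ 2 * j + (h + h) - 1 := by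
          rw [← two_mul h] at h2 ⊢
          exact Nat.dvd_of_mul_dvd_mul_left two_pos h2
        rcases Nat.even_or_odd h with ⟨h', rfl⟩ | ⟨h', rfl⟩
        · exfalso
          have : 2 ∣ 2 * j + (h' + h' + (h' + h')) - 1 := hc ▸ dvd_mul_of_dvd_left ⟨h', by ring⟩ c
          omega
        · omega
      · exact absurd ((ho.coprime_two_right).dvd_of_dvd_mul_left h2) h3
    · intro h4
      obtain ⟨h, hh⟩ : ∃ h, i = 2 * (2 * h + 1) := ⟨i / 4, by omega⟩
      refine ⟨h + 1, ?_⟩
      have hs : ((q : ZMod r) ^ (2 * h + 1)) * ((q : ZMod r) ^ (2 * h + 1)) = 1 := by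
        rw [← pow_add, ← two_mul, ← hh, hi, pow_orderOf_eq_one]
      rcases mul_self_eq_one_iff.1 hs with e | e
      · exfalso
        have := orderOf_dvd_of_pow_eq_one e
        rw [← hi, hh] at this
        have := Nat.le_of_dvd (by omega) this
        omega
      · rw [← pow_mul, show 2 * (h + 1) = 2 * h + 1 + 1 by ring, pow_succ, e, neg_one_mul]
  have hcard : (r - 1) / b = s := by rw [← hs, Nat.mul_div_cancel _ hb0]
  rw [CfsgLib.Geo.PrimeSD.card_classes p r hrp' (CfsgLib.Forms.frobQ hK') (CfsgLib.Forms.frobQ_invol hK')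
    (k := k) (fun a => by rw [CfsgLib.Forms.frobQ_apply, hk]) (Cfsg.GU n K q).subtype Subtype.val_injective
    (fun h => CfsgLib.Geo.USemi.dual_charpoly_eq hK' h.2)
    (fun x y _ h => (CfsgLib.Unitary.isConj_iff_GL hK' x y).2 h) hb'
    (fun m hm hd => by
      obtain ⟨hmo, hdeg, h0⟩ := CfsgLib.Geo.PrimeSD.wpoly_props p r hrp' (N := n) hb' m hm
      obtain ⟨g, hg, hgo, hgc⟩ := CfsgLib.Geo.USemi.exists_GU_charpoly p hK' hmo hdeg h0 hd
      exact ⟨⟨g, hg⟩, hgo, hgc⟩)]
  simp only [hcrit, hcard]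
  split_ifs with h4
  · obtain ⟨h, hh⟩ : ∃ h, i = 2 * h := ⟨i / 2, by omega⟩
    have hbh : b = h := by
      rw [hb, if_neg (by rw [Nat.not_odd_iff_even]; exact ⟨h, by omega⟩)]; omega
    rw [hbh, hh, Nat.mul_div_mul_left n h two_pos]
  · rfl

end Cfsg.Agent.S2671
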