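import Cfsg.Statements.S2672
import Cfsg.Agent.Geo.ProjPrimeClasses
import Cfsg.Agent.Unitary.ConjugacyGL

set_option autoImplicit false
open Cfsg

namespace Cfsg.Agent.S2672

/-- Number of conjugacy classes of elements of odd prime order r in PGU_n(q) = GU_n(q)/scalars (n ≥ 3) when r divides q + 1: as in the linear case with q − 1 replaced by q + 1, the classes correspond to the rotation orbits on r-tuples of eigenvalue multiplicities summing to n with every entry < n, plus r − 1 further classes when r divides n; in all (C(n+r−1, r−1) − r − [r ∣ n])/r + r·[r ∣ n]. -/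
theorem result {K : Type*} [Field K] [Fintype K] {q n r : ℕ} (hK : Fintype.card K = q ^ 2) (hn : 3 ≤ n) (hr : r.Prime) (hr2 : r ≠ 2) (hrq : r ∣ q + 1) : Nat.card {C : ConjClasses (↥(Cfsg.GU n K q) ⧸ Subgroup.center ↥(Cfsg.GU n K q)) // ∃ g : ↥(Cfsg.GU n K q) ⧸ Subgroup.center ↥(Cfsg.GU n K q), ConjClasses.mk g = C ∧ orderOf g = r} = (Nat.choose (n + r - 1) (r - 1) - r - (if r ∣ n then 1 else 0)) / r + r * (if r ∣ n then 1 else 0) := by
  obtain ⟨p, hchar⟩ := CharP.exists K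
  haveI := Fact.mk (CharP.char_is_prime K p)
  have hK' : Nat.card K = q ^ 2 := by rw [Nat.card_eq_fintype_card, hK]
  have hq := CfsgLib.Forms.two_le_q hK'
  have hcard : Nat.card Kˣ = (q - 1) * (q + 1) := by
    rw [Nat.card_units, hK', mul_comm, ← Nat.sq_sub_sq]
  have hq1 : q + 1 ∣ Nat.card Kˣ := hcard ▸ dvd_mul_left _ _
  have hrp : r.Coprime p := by
    refine (Nat.coprime_primes hr Fact.out).2 fun h => ?_
    subst h
    obtain ⟨k, -, hk⟩ := FiniteField.card K r
    have h1 : r ∣ q ^ 2 := hK ▸ hk ▸ dvd_pow_self r k.ne_zero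
    have h3 := (Nat.dvd_add_iff_right (hr.dvd_of_dvd_pow h1)).2 hrq
    exact hr.not_dvd_one h3
  let U : Subgroup Kˣ := (powMonoidHom (q + 1) : Kˣ →* Kˣ).ker
  have hmemU : ∀ {a : Kˣ}, a ∈ U ↔ a ^ (q + 1) = 1 := Iff.rfl
  have hUcard : Nat.card U = q + 1 := by
    rw [IsCyclic.card_powMonoidHom_ker]
    exact Nat.gcd_eq_right hq1
  have hf : ∀ x : K, CfsgLib.Forms.frobQ hK' x = x ^ q := fun x => CfsgLib.Forms.frobQ_apply hK' x
  have hscalmem : ∀ {a : Kˣ}, CfsgLib.Geo.FieldTwist.scal n a ∈ Cfsg.GU n K q ↔ a ∈ U := by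
    intro a
    rw [CfsgLib.Unitary.mem_GU_iff_adj hK', CfsgLib.Geo.FieldTwist.scal_val, CfsgLib.Unitary.adj_smul,
      CfsgLib.Unitary.adj_one, smul_mul_smul_comm, one_mul, hf, ← pow_succ, hmemU]
    refine ⟨fun h => Units.ext ?_, fun h => ?_⟩
    · have := congrFun (congrFun h ⟨0, by omega⟩) ⟨0, by omega⟩
      simpa using this
    · rw [← Units.val_pow_eq_pow_val, h, Units.val_one, one_smul]
  refine CfsgLib.Geo.ProjPrimeClasses.card_classes p (by omega) hr hrp (Cfsg.GU n K q).subtype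
    Subtype.val_injective U (fun h => ⟨fun hc => ?_, ?_⟩) (fun a ha => ⟨⟨_, hscalmem.2 ha⟩, rfl⟩)
    (fun v hv => ?_) (fun x y h => (CfsgLib.Unitary.isConj_iff_GL hK' x y).2 h)
    (fun a ha => hmemU.2 ?_) (hUcard ▸ hrq) (fun c hc b hb => ?_) (fun c hc hns t ht => ?_)
  · obtain ⟨a, ha⟩ := CfsgLib.Unitary.center_GU_scalar hK' (by omega) hc
    have ha0 : a ≠ 0 := fun h0 => by
      have : Nonempty (Fin n) := ⟨⟨0, by omega⟩⟩
      have hu := (h : GL (Fin n) K).isUnit
      rw [ha, h0, zero_smul] at hu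
      exact not_isUnit_zero hu
    have e : (h : GL (Fin n) K) = CfsgLib.Geo.FieldTwist.scal n (Units.mk0 a ha0) :=
      Units.ext (by rw [ha, CfsgLib.Geo.FieldTwist.scal_val]; rfl)
    exact ⟨_, hscalmem.1 (e ▸ h.2), e⟩
  · rintro ⟨a, -, ha⟩
    rw [Subgroup.mem_center_iff]
    intro g
    apply Subtype.ext
    show (g : GL (Fin n) K) * h = (h : GL (Fin n) K) * g
    rw [show (h : GL (Fin n) K) = CfsgLib.Geo.FieldTwist.scal n a from ha]
    exact (CfsgLib.Geo.ProjPrimeClasses.scal_comm a _).eq.symm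
  · refine ⟨⟨CfsgLib.Geo.ProjPrimeClasses.dg v, (CfsgLib.Unitary.mem_GU_iff_adj hK').2 ?_⟩, rfl⟩
    show CfsgLib.Unitary.adj _ (Matrix.diagonal fun i => (v i : K)) * Matrix.diagonal (fun i => (v i : K)) = 1
    rw [CfsgLib.Unitary.adj, Matrix.diagonal_map (map_zero _), Matrix.diagonal_transpose,
      Matrix.diagonal_mul_diagonal, ← Matrix.diagonal_one]
    congr 1
    funext i
    rw [hf, ← pow_succ, ← Units.val_pow_eq_pow_val, hmemU.1 (hv i), Units.val_one]
  · obtain ⟨k, hk⟩ := hrq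
    rw [hk, pow_mul, ha, one_pow]
  · rw [hmemU]
    refine orderOf_eq_one_iff.1 (Nat.dvd_one.1 ?_)
    have h1 : (b ^ (q + 1)) ^ r = 1 := by rw [← pow_mul, mul_comm, pow_mul, hb, hmemU.1 hc]
    have h2 : (b ^ (q + 1)) ^ (q - 1) = 1 := by
      rw [← pow_mul, mul_comm, ← hcard, pow_card_eq_one']
    have hcop : Nat.Coprime r (q - 1) := by
      refine hr.coprime_iff_not_dvd.2 fun hd => hr2 ((Nat.prime_dvd_prime_iff_eq hr Nat.prime_two).1 ?_)
      have h3 := Nat.dvd_sub hrq hd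
      rwa [show q + 1 - (q - 1) = 2 by omega] at h3
    exact (Nat.dvd_gcd (orderOf_dvd_of_pow_eq_one h1) (orderOf_dvd_of_pow_eq_one h2)).trans hcop.gcd_eq_one.dvd
  · have htr : (t : Matrix (Fin n) (Fin n) K) ^ r = (c : K) • 1 := by
      rw [← Units.val_pow_eq_pow_val, ht, CfsgLib.Geo.FieldTwist.scal_val]
    have hadj : ∀ (M : Matrix (Fin n) (Fin n) K) (k : ℕ),
        CfsgLib.Unitary.adj (CfsgLib.Forms.frobQ hK') (M ^ k) =
          CfsgLib.Unitary.adj (CfsgLib.Forms.frobQ hK') M ^ k := by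
      intro M k
      induction k with
      | zero => simp [CfsgLib.Unitary.adj_one]
      | succ k ih => rw [pow_succ, CfsgLib.Unitary.adj_mul, ih, pow_succ']
    let S := CfsgLib.Unitary.adj (CfsgLib.Forms.frobQ hK') (t : Matrix (Fin n) (Fin n) K)
    let T := CfsgLib.Unitary.adj (CfsgLib.Forms.frobQ hK') ((t⁻¹).val)
    have hST : S * T = 1 := by
      rw [← CfsgLib.Unitary.adj_mul, ← Units.val_mul, inv_mul_cancel, Units.val_one, CfsgLib.Unitary.adj_one]
    let u : GL (Fin n) K := ⟨T, S, mul_eq_one_comm.1 hST, hST⟩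
    have hS : S ^ r = ((c⁻¹ : Kˣ) : K) • 1 := by
      rw [← hadj, htr, CfsgLib.Unitary.adj_smul, CfsgLib.Unitary.adj_one, hf]
      congr 1
      refine eq_comm.1 (Units.val_inv_eq_inv_val c ▸ ?_)
      refine inv_eq_of_mul_eq_one_left ?_
      rw [← pow_succ, ← Units.val_pow_eq_pow_val, hmemU.1 hc, Units.val_one]
    have hT : T ^ r = (c : K) • 1 := by
      have h1 : S ^ r * T ^ r = 1 := by
        rw [← (show Commute S T from hST.trans (mul_eq_one_comm.1 hST).symm).mul_pow, hST, one_pow]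
      rw [hS, smul_mul_assoc, one_mul] at h1
      have := congrArg (fun M => (c : K) • M) h1
      simpa [smul_smul] using this
    obtain ⟨B, hB⟩ := (CfsgLib.Unitary.exists_GU_conj_iff hK' t).2 (by
      rw [Matrix.inv_eq_right_inv hST]
      exact MonoidHom.map_isConj (Units.coeHom _)
        (CfsgLib.Geo.ProjPrimeClasses.isConj_nonsplit hr hns htr (h := u) hT))
    exact ⟨B, hB⟩

end Cfsg.Agent.S2672
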