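import Cfsg.Statements.S2674
import Cfsg.Agent.Geo.OPrimeClasses

set_option autoImplicit false
open Cfsg

namespace Cfsg.Agent.S2674

/-- Number of conjugacy classes of elements of odd prime order r ≠ p in the orthogonal group O⁺_2m(q) of Σ x_j y_j (m ≥ 1): with i the multiplicative order of q mod r and t = (r − 1)/i — if i is odd, C(⌊m/i⌋ + t/2, t/2) − 1; if i is even, C(⌊2m/i⌋ + t, t) − 1 minus, when i divides 2m with odd quotient, the C(2m/i + t − 1, t − 1) tuples using the whole space (an odd number of elliptic i-blocks fills an elliptic, not a hyperbolic, space). -/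
theorem result {F : Type*} [Field F] [Fintype F] {p q : ℕ} [Fact p.Prime] [CharP F p] (hF : Fintype.card F = q) (m r i t : ℕ) (hm : 1 ≤ m) (hr : r.Prime) (hr2 : r ≠ 2) (hrp : r ≠ p) (hi : i = orderOf (q : ZMod r)) (ht : t * i = r - 1) : Nat.card {C : ConjClasses ↥(Cfsg.isometryGroup F (Cfsg.quadFormPlus m F)) // ∃ g : ↥(Cfsg.isometryGroup F (Cfsg.quadFormPlus m F)), ConjClasses.mk g = C ∧ orderOf g = r} = if Odd i then Nat.choose (m / i + t / 2) (t / 2) - 1 else Nat.choose (2 * m / i + t) t - 1 - (if i ∣ 2 * m ∧ Odd (2 * m / i) then Nat.choose (2 * m / i + t - 1) (t - 1) else 0) := by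
  haveI := Fact.mk hr
  have hrp' : r.Coprime p := (Nat.coprime_primes hr Fact.out).2 hrp
  have hi' : CfsgLib.Geo.OPrimeClasses.ordq F r = i := by
    rw [hi]; show orderOf ((Fintype.card F : ℕ) : ZMod r) = _; rw [hF]
  have h := CfsgLib.Geo.OPrimeClasses.card_even (K := F) p hrp' hr2 (CfsgLib.Quad.plusQ (F := F) m)
    (CfsgLib.Quad.plusQ_nondeg m) hm (by simp; ring) (Or.inl rfl) (CfsgLib.Geo.OCounts.etype_plus m)
    (t := t) (by rw [hi']; exact ht)
  rw [CfsgLib.Quad.plusQ_coe, hi'] at h
  refine h.trans ?_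
  by_cases ho : Odd i
  · rw [if_pos ho, if_pos ho, if_neg (fun h' => by exact absurd h'.2 (by norm_num)), Nat.sub_zero]
  · rw [if_neg ho, if_neg ho]
    congr 1
    refine if_congr (and_congr_right fun _ => ?_) rfl rfl
    rcases Nat.even_or_odd (2 * m / i) with he | he
    · simp [he.neg_one_pow, Nat.not_odd_iff_even.2 he]
    · simp [he.neg_one_pow, he]

end Cfsg.Agent.S2674
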