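import Cfsg.Statements.S2676
import Cfsg.Agent.Geo.SpUnipClasses

set_option autoImplicit false
open Classical
open Cfsg

namespace Cfsg.Agent.S2676

/-- Number of conjugacy classes of elements of order p in Sp_2m(q), q a power of the odd prime p: the classes correspond to the signed partitions of 2m — partitions with all parts at most p in which every odd part has even multiplicity, each even part size that occurs carrying a sign — other than the all-ones partition; so the count is the sum over such partitions of 2^(number of distinct even parts), minus one. -/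
theorem result {F : Type*} [Field F] [Fintype F] {p : ℕ} [Fact p.Prime] [CharP F p] (hp : p ≠ 2) (m : ℕ) : Nat.card {C : ConjClasses ↥(Matrix.symplecticGroup (Fin m) F) // ∃ g : Matrix.symplecticGroup (Fin m) F, ConjClasses.mk g = C ∧ orderOf g = p} = (∑ μ ∈ Finset.univ.filter (fun μ : Nat.Partition (2 * m) => (∀ a ∈ μ.parts, a ≤ p) ∧ ∀ j : ℕ, Odd j → Even (μ.parts.count j)), 2 ^ ((μ.parts.toFinset.filter (fun j : ℕ => Even j)).card)) - 1 := by
  classical
  haveI : CharP F p := inferInstance
  have h2 : (2 : F) ≠ 0 := Ring.two_ne_zero (by rwa [ringChar.eq F p])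
  obtain ⟨ν, hν⟩ := FiniteField.exists_nonsquare (F := F) (by rwa [ringChar.eq F p])
  obtain ⟨e⟩ := CfsgLib.Geo.SpUnipClasses.exists_classes_equiv (F := F) (m := m) h2 hν p
  set S := Finset.univ.filter (fun μ : Nat.Partition (2 * m) => (∀ a ∈ μ.parts, a ≤ p) ∧
    ∀ j : ℕ, Odd j → Even (μ.parts.count j)) with hS
  have hle : ∀ (μ : Nat.Partition (2 * m)), ∀ a ∈ μ.parts, a < 2 * m + 1 := fun μ a ha => by
    have := Multiset.le_sum_of_mem ha
    rw [μ.parts_sum] at this
    omega
  let cnt : Nat.Partition (2 * m) → Fin (2 * m + 1) → ℕ := fun μ j => μ.parts.count (j : ℕ)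
  let Sg : S → Type := fun μ =>
    {s : Fin (2 * m + 1) → Bool // ∀ j, s j = true → Even (j : ℕ) ∧ 0 < cnt μ.1 j}
  have hsum : ∀ μ : Nat.Partition (2 * m), ∑ j, cnt μ j * (j : ℕ) = 2 * m := by
    intro μ
    rw [Fin.sum_univ_eq_sum_range (fun i => μ.parts.count i * i)]
    conv_rhs => rw [← μ.parts_sum, Finset.sum_multiset_count_of_subset μ.parts (Finset.range (2 * m + 1))
      (fun a ha => Finset.mem_range.2 (hle μ a (Multiset.mem_toFinset.1 ha)))]
    simp
  let Φ : (Σ μ : S, Sg μ) → {d : (Fin (2 * m + 1) → ℕ) × (Fin (2 * m + 1) → Bool) //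
      CfsgLib.Geo.SpUnipClasses.Good m d.1 d.2 ∧ ∀ j, 0 < d.1 j → (j : ℕ) ≤ p} := fun x =>
    ⟨(cnt x.1.1, x.2.1),
      ⟨Multiset.count_eq_zero.2 fun h => absurd (x.1.1.parts_pos h) (lt_irrefl 0),
        fun j => (Finset.mem_filter.1 x.1.2).2.2 (j : ℕ), x.2.2, hsum _⟩,
      fun j hj => (Finset.mem_filter.1 x.1.2).2.1 _ (Multiset.count_pos.1 hj)⟩
  have hΦ : Function.Bijective Φ := by
    refine ⟨?_, ?_⟩
    · rintro ⟨⟨μ, hμ⟩, ⟨s, hs⟩⟩ ⟨⟨μ', hμ'⟩, ⟨s', hs'⟩⟩ h
      have h1 : cnt μ = cnt μ' := congrArg (fun z => z.1.1) h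
      have h2' : s = s' := congrArg (fun z => z.1.2) h
      obtain rfl : μ = μ' := Nat.Partition.ext (Multiset.ext.2 fun a => by
        rcases Nat.lt_or_ge a (2 * m + 1) with ha | ha
        · exact congrFun h1 ⟨a, ha⟩
        · rw [Multiset.count_eq_zero.2 fun hm => by have := hle μ a hm; omega,
            Multiset.count_eq_zero.2 fun hm => by have := hle μ' a hm; omega])
      subst h2'
      rfl
    · rintro ⟨⟨c, s⟩, hg, hb⟩
      have hcount : ∀ a : ℕ, (∑ j : Fin (2 * m + 1), Multiset.replicate (c j) (j : ℕ)).count a =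
          if h : a < 2 * m + 1 then c ⟨a, h⟩ else 0 := by
        intro a
        rw [Multiset.count_sum']
        simp only [Multiset.count_replicate]
        split_ifs with h
        · rw [Finset.sum_eq_single (⟨a, h⟩ : Fin (2 * m + 1)) (fun j _ hj => if_neg
            fun e => hj (Fin.ext e)) (fun h' => absurd (Finset.mem_univ _) h'), if_pos rfl]
        · exact Finset.sum_eq_zero fun j _ => if_neg fun e => h (by have := j.isLt; omega)
      let μ : Nat.Partition (2 * m) :=
        { parts := ∑ j : Fin (2 * m + 1), Multiset.replicate (c j) (j : ℕ)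
          parts_pos := fun {a} ha => by
            rw [← Multiset.count_pos, hcount] at ha
            rcases Nat.eq_zero_or_pos a with rfl | h
            · rw [dif_pos (Nat.succ_pos _)] at ha
              exact absurd ha (by rw [show (⟨0, Nat.succ_pos _⟩ : Fin (2 * m + 1)) = 0 from rfl, show c 0 = 0 from hg.zero]; omega)
            · exact h
          parts_sum := by
            rw [Multiset.sum_sum]
            refine Eq.trans (Finset.sum_congr rfl fun j _ => ?_) hg.sum
            rw [Multiset.sum_replicate, smul_eq_mul] }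
      have hμ : cnt μ = c := funext fun j => by
        show μ.parts.count (j : ℕ) = c j
        exact (hcount _).trans (dif_pos j.isLt)
      have hμS : μ ∈ S := by
        refine Finset.mem_filter.2 ⟨Finset.mem_univ _, fun a ha => ?_, fun a ha => ?_⟩
        · rw [← Multiset.count_pos, hcount] at ha
          split_ifs at ha with h
          · exact hb ⟨a, h⟩ ha
          · omega
        · rw [hcount]
          split_ifs with h
          · exact hg.odd ⟨a, h⟩ ha
          · exact Even.zero
      exact ⟨⟨⟨μ, hμS⟩, ⟨s, by rw [hμ]; exact hg.sign⟩⟩, Subtype.ext (Prod.ext hμ rfl)⟩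
  have hSg : ∀ μ : S, Nat.card (Sg μ) = 2 ^ ((μ.1.parts.toFinset.filter (fun j : ℕ => Even j)).card) := by
    intro μ
    let J := {j : Fin (2 * m + 1) // Even (j : ℕ) ∧ 0 < cnt μ.1 j}
    let E : Sg μ ≃ (J → Bool) :=
      { toFun := fun s j => s.1 j.1
        invFun := fun f => ⟨fun j => if h : Even (j : ℕ) ∧ 0 < cnt μ.1 j then f ⟨j, h⟩ else false,
          fun j hj => by
            by_contra h
            change (if h : Even (j : ℕ) ∧ 0 < cnt μ.1 j then f ⟨j, h⟩ else false) = true at hj
            rw [dif_neg h] at hj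
            exact Bool.false_ne_true hj⟩
        left_inv := fun s => Subtype.ext (funext fun j => by
          show (if h : Even (j : ℕ) ∧ 0 < cnt μ.1 j then s.1 j else false) = s.1 j
          split_ifs with h
          · rfl
          · cases hs : s.1 j with
            | true => exact absurd (s.2 j hs) h
            | false => rfl)
        right_inv := fun f => funext fun j => by
          show (if h : Even ((j.1 : Fin (2 * m + 1)) : ℕ) ∧ 0 < cnt μ.1 j.1 then f ⟨j.1, h⟩ else false) = f j
          rw [dif_pos j.2] }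
    rw [Nat.card_congr E, Nat.card_fun, Nat.card_eq_fintype_card (α := Bool), Fintype.card_bool]
    congr 1
    rw [Nat.card_eq_fintype_card, Fintype.card_subtype, ← Finset.card_map Fin.valEmbedding]
    congr 1
    ext a
    simp only [Finset.mem_map, Finset.mem_filter, Finset.mem_univ, true_and, Fin.valEmbedding_apply,
      Multiset.mem_toFinset, cnt, Multiset.count_pos]
    constructor
    · rintro ⟨j, ⟨h1, h2'⟩, rfl⟩; exact ⟨h2', h1⟩
    · rintro ⟨h1, h2'⟩; exact ⟨⟨a, hle _ a h1⟩, ⟨h2', h1⟩, rfl⟩
  have hcard : Nat.card {C : ConjClasses ↥(Matrix.symplecticGroup (Fin m) F) //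
      ∃ g : Matrix.symplecticGroup (Fin m) F, ConjClasses.mk g = C ∧ g ^ p = 1} =
      ∑ μ ∈ S, 2 ^ ((μ.parts.toFinset.filter (fun j : ℕ => Even j)).card) := by
    rw [← Nat.card_congr e, ← Nat.card_congr (Equiv.ofBijective Φ hΦ), Nat.card_sigma,
      Finset.sum_congr rfl fun μ _ => hSg μ]
    exact Finset.sum_coe_sort S (fun μ => 2 ^ ((μ.parts.toFinset.filter (fun j : ℕ => Even j)).card))
  rw [← hcard]
  let T : Set (ConjClasses ↥(Matrix.symplecticGroup (Fin m) F)) :=
    {C | ∃ g : Matrix.symplecticGroup (Fin m) F, ConjClasses.mk g = C ∧ g ^ p = 1}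
  have hone : ConjClasses.mk (1 : Matrix.symplecticGroup (Fin m) F) ∈ T := ⟨1, rfl, one_pow p⟩
  have hset : {C : ConjClasses ↥(Matrix.symplecticGroup (Fin m) F) |
      ∃ g : Matrix.symplecticGroup (Fin m) F, ConjClasses.mk g = C ∧ orderOf g = p} =
      T \ {ConjClasses.mk 1} := by
    ext C
    constructor
    · rintro ⟨g, rfl, hg⟩
      refine ⟨⟨g, rfl, by rw [← hg]; exact pow_orderOf_eq_one g⟩, fun h => ?_⟩
      rw [Set.mem_singleton_iff, ConjClasses.mk_eq_mk_iff_isConj, isConj_one_left] at h
      rw [h, orderOf_one] at hg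
      exact (Fact.out : p.Prime).ne_one hg.symm
    · rintro ⟨⟨g, rfl, hg⟩, hne⟩
      exact ⟨g, rfl, orderOf_eq_prime hg fun h => hne (by rw [h]; rfl)⟩
  show Nat.card ↥{C : ConjClasses ↥(Matrix.symplecticGroup (Fin m) F) |
      ∃ g : Matrix.symplecticGroup (Fin m) F, ConjClasses.mk g = C ∧ orderOf g = p} = Nat.card ↥T - 1
  rw [hset, Nat.card_coe_set_eq, Nat.card_coe_set_eq, Set.ncard_diff_singleton_of_mem hone]

end Cfsg.Agent.S2676
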