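import Cfsg.Statements.S2677
import Cfsg.Agent.Geo.FieldTwist

set_option autoImplicit false
open Cfsg

namespace Cfsg.Agent.S2677

/-- Centraliser of a field automorphism of odd prime order in PGU_n(q): let q = q₀^r with r an odd prime, K the field with q² elements and σ a field automorphism of K of order r (fixed field of order q₀²). The elements g of GU_n(q) whose entrywise image under σ is a scalar multiple of g — those whose coset modulo the q + 1 unitary scalars is fixed by σ — number (q + 1)/(q₀ + 1) · |GU_n(q₀)|; equivalently the centraliser in PGU_n(q) of the induced automorphism has the order of PGU_n(q₀). -/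
theorem result {K : Type*} [Field K] [Fintype K] {q₀ q r n : ℕ} (hr : r.Prime) (hr2 : r ≠ 2) (hn : 1 ≤ n) (hq : q = q₀ ^ r) (hK : Fintype.card K = q ^ 2) (σ : K ≃+* K) (hσ : orderOf σ = r) : (Nat.card {g : ↥(Cfsg.GU n K q) // ∃ c : K, c ≠ 0 ∧ ((g : GL (Fin n) K) : Matrix (Fin n) (Fin n) K).map σ = c • ((g : GL (Fin n) K) : Matrix (Fin n) (Fin n) K)} : ℤ) = ((q + 1) / (q₀ + 1) : ℕ) * ((q₀ : ℤ) ^ (n * (n - 1) / 2) * ∏ i : Fin n, ((q₀ : ℤ) ^ ((i : ℕ) + 1) - (-1) ^ ((i : ℕ) + 1))) := by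
  classical
  have hK' : Nat.card K = q ^ 2 := by rw [Nat.card_eq_fintype_card, hK]
  have hr' : Odd r := hr.odd_of_ne_two hr2
  rw [CfsgLib.Geo.FieldTwist.card_GU_twist σ hr' hn hq hK' hσ]
  have h0 : Nat.card (CfsgLib.Geo.FieldTwist.fix σ) = q₀ ^ 2 :=
    CfsgLib.Geo.FieldTwist.card_fix σ hr.ne_zero hσ
      (by rw [hK', hq, ← pow_mul, ← pow_mul, mul_comm])
  have h2 : 2 ≤ q₀ := CfsgLib.Forms.two_le_q h0
  rw [CfsgLib.Unitary.card_GU h0, Nat.cast_mul]
  congr 1
  rw [← Finset.prod_range (fun i : ℕ => (q₀ : ℤ) ^ (i + 1) - (-1) ^ (i + 1))]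
  push_cast
  refine congrArg _ (Finset.prod_congr rfl fun i _ => ?_)
  split_ifs with he
  · rw [(Even.add_one he).neg_one_pow]; ring
  · have h1 : 1 ≤ q₀ ^ (i + 1) := Nat.one_le_pow _ _ (by omega)
    rw [(Nat.not_even_iff_odd.mp he).add_one.neg_one_pow, Nat.cast_sub h1]; push_cast; ring

end Cfsg.Agent.S2677
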