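import Cfsg.Statements.S2678
import Cfsg.Agent.GLElem.RestrictScalars

set_option autoImplicit false
open Cfsg

namespace Cfsg.Agent.S2678

/-- Field-extension embedding of symplectic groups: for a field K with q² elements and a field F with q elements there is an injective homomorphism Sp_2a(K) → Sp_4a(F). -/
theorem result {K F : Type*} [Field K] [Fintype K] [Field F] [Fintype F] {q : ℕ} (hK : Fintype.card K = q ^ 2) (hF : Fintype.card F = q) (a : ℕ) : ∃ φ : ↥(Matrix.symplecticGroup (Fin a) K) →* ↥(Matrix.symplecticGroup (Fin (2 * a)) F), Function.Injective φ := by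
  have hK' : Nat.card K = q ^ 2 := by rw [Nat.card_eq_fintype_card, hK]
  have hF' : Nat.card F = q := by rw [Nat.card_eq_fintype_card, hF]
  obtain ⟨ι, hι⟩ := CfsgLib.Unitary.exists_subfield_hom hK' hF'
  have hq : q ≠ 0 := by have := CfsgLib.Forms.two_le_q hK'; omega
  exact CfsgLib.RestrictScalars.embed_of_trace hK' hF' ι hι (n := Fin a ⊕ Fin a) (2 * a)
    (by simp; omega) (Matrix.symplecticGroup (Fin a) K).subtype Subtype.coe_injective
    CfsgLib.Symp.form
    CfsgLib.Symp.form_add_left CfsgLib.Symp.form_add_right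
    (fun b u v => CfsgLib.Symp.form_smul_left _ u v)
    (fun b u v => CfsgLib.Symp.form_smul_right _ u v)
    CfsgLib.Symp.form_smul_left
    (fun u => by simp [CfsgLib.Symp.form_self, hq])
    (fun u hu => CfsgLib.Symp.eq_zero_of_form_eq_zero hu)
    (fun g u v => CfsgLib.Symp.mem_iff_form.mp g.2 u v)

end Cfsg.Agent.S2678
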