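import Cfsg.Statements.S2680
import Cfsg.Agent.Dye.CentCount

set_option autoImplicit false
open Cfsg

namespace Cfsg.Agent.S2680

/-- Centraliser order of an involution t of Sp_2m(q), q even, with s = rank(t − 1) odd (type b_s): |C(t)| = q^(2ms − (3s² − s)/2) · |Sp_(s−1)(q)| · |Sp_(2m−2s)(q)|, where |Sp_2k(q)| = q^(k²) Π_(i=1)^k (q^(2i) − 1). -/
theorem result {F : Type*} [Field F] [Fintype F] [CharP F 2] {q : ℕ} (hF : Fintype.card F = q) {m s : ℕ} (t : Matrix.symplecticGroup (Fin m) F) (ht : t ^ 2 = 1) (hs : ((t : Matrix (Fin m ⊕ Fin m) (Fin m ⊕ Fin m) F) - 1).rank = s) (hodd : Odd s) : Nat.card ↥(Subgroup.centralizer ({t} : Set ↥(Matrix.symplecticGroup (Fin m) F))) = q ^ (2 * m * s - (3 * s ^ 2 - s) / 2) * ((q : ℕ) ^ (((s - 1) / 2) ^ 2) * ∏ i : Fin ((s - 1) / 2), (q ^ (2 * ((i : ℕ) + 1)) - 1)) * ((q : ℕ) ^ ((m - s) ^ 2) * ∏ i : Fin (m - s), (q ^ (2 * ((i : ℕ) + 1)) - 1)) := by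
  have ht' : t * t = 1 := by rw [← ht, _root_.sq]
  have hN := CfsgLib.Dye.isDev_sp ht'
  rw [CfsgLib.Dye.rank_eq] at hs
  have hna : ¬ CfsgLib.Dye.Alt CfsgLib.Dye.sB (CfsgLib.Dye.devL (CfsgLib.Dye.spHom t)) := fun h => by
    have := CfsgLib.Dye.even_of_alt CfsgLib.Dye.sB_nondeg hN h
    rw [hs] at this
    exact Nat.not_even_iff_odd.2 hodd this
  obtain ⟨s', d, P, hs', -, rfl, hP, hC⟩ := CfsgLib.Dye.card_cent_nonalt t ht' hna
  rw [hs] at hs'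
  subst hs'
  obtain ⟨r, rfl⟩ := hodd
  have hq : Nat.card F = q := by rw [Nat.card_eq_fintype_card, hF]
  rw [(CfsgLib.Dye.card_orthMat (F := F) r).1, CfsgLib.Dye.card_Sp_fin, hq,
    ← Fin.prod_univ_eq_prod_range] at hC
  rw [show (2 * r + 1 - 1) / 2 = r by omega,
    show 2 * r + 1 + d - (2 * r + 1) = d by omega]
  have hqpos : 0 < q := by rw [← hq]; exact Nat.card_pos
  refine Nat.eq_of_mul_eq_mul_right (pow_pos hqpos P) (hC.trans ?_)
  have hP' : P = 2 * r * r + r := by nlinarith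
  have h3 : (3 * (2 * r + 1) ^ 2 - (2 * r + 1)) / 2 = 6 * r * r + 5 * r + 1 := by
    rw [show 3 * (2 * r + 1) ^ 2 = 2 * (6 * r * r + 5 * r + 1) + (2 * r + 1) by ring,
      Nat.add_sub_cancel, Nat.mul_div_cancel_left _ two_pos]
  have h4 : 2 * (2 * r + 1 + d) * (2 * r + 1) - (6 * r * r + 5 * r + 1) =
      2 * r * r + 3 * r + 1 + 2 * d * (2 * r + 1) := by
    rw [Nat.sub_eq_iff_eq_add (by nlinarith)]; ring
  rw [h3, h4, hP', show 2 * (2 * r + 1 + d) - (2 * r + 1) = 2 * r + 1 + 2 * d by omega]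
  ring

end Cfsg.Agent.S2680
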