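import Cfsg.Statements.S2681
import Cfsg.Agent.Dye.CentCount

set_option autoImplicit false
open Cfsg

namespace Cfsg.Agent.S2681

/-- Centraliser order of an involution t of Sp_2m(q), q even, with s = rank(t − 1) even and f(v, tv) = 0 for every v, f the symplectic form (type a_s): |C(t)| = q^(2ms − (3s² − s)/2) · |Sp_s(q)| · |Sp_(2m−2s)(q)|. -/
theorem result {F : Type*} [Field F] [Fintype F] [CharP F 2] {q : ℕ} (hF : Fintype.card F = q) {m s : ℕ} (t : Matrix.symplecticGroup (Fin m) F) (ht : t ^ 2 = 1) (ht1 : t ≠ 1) (hs : ((t : Matrix (Fin m ⊕ Fin m) (Fin m ⊕ Fin m) F) - 1).rank = s) (heven : Even s) (halt : ∀ v : Fin m ⊕ Fin m → F, Cfsg.sympForm m F v ((t : Matrix (Fin m ⊕ Fin m) (Fin m ⊕ Fin m) F).mulVec v) = 0) : Nat.card ↥(Subgroup.centralizer ({t} : Set ↥(Matrix.symplecticGroup (Fin m) F))) = q ^ (2 * m * s - (3 * s ^ 2 - s) / 2) * ((q : ℕ) ^ ((s / 2) ^ 2) * ∏ i : Fin (s / 2), (q ^ (2 * ((i :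 ℕ) + 1)) - 1)) * ((q : ℕ) ^ ((m - s) ^ 2) * ∏ i : Fin (m - s), (q ^ (2 * ((i : ℕ) + 1)) - 1)) := by
  have ht' : t * t = 1 := by rw [← ht, _root_.sq]
  rw [CfsgLib.Dye.rank_eq] at hs
  obtain ⟨r, d, P, hr, rfl, hP, hC⟩ := CfsgLib.Dye.card_cent_alt t ht'
    ((CfsgLib.Dye.sp_alt_iff t).2 halt)
  rw [hs] at hr
  subst hr
  have hq : Nat.card F = q := by rw [Nat.card_eq_fintype_card, hF]
  rw [CfsgLib.Dye.card_Sp_fin, CfsgLib.Dye.card_Sp_fin, hq] at hC
  rw [show 2 * r / 2 = r by omega, show 2 * r + d - 2 * r = d by omega]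
  have hqpos : 0 < q := by rw [← hq]; exact Nat.card_pos
  refine Nat.eq_of_mul_eq_mul_right (pow_pos hqpos P) (hC.trans ?_)
  have hP' : P + r = 2 * r * r := by nlinarith
  have h3 : (3 * (2 * r) ^ 2 - 2 * r) / 2 = 6 * r * r - r := by
    rw [show 3 * (2 * r) ^ 2 - 2 * r = 2 * (6 * r * r - r) by rw [Nat.mul_sub]; ring_nf,
      Nat.mul_div_cancel_left _ two_pos]
  have h4 : 2 * (2 * r + d) * (2 * r) - (6 * r * r - r) = 2 * r * r + r + 4 * d * r := by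
    have : r ≤ 6 * r * r := by nlinarith
    rw [Nat.sub_eq_iff_eq_add (by nlinarith [Nat.sub_le (6 * r * r) r])]
    zify [this]; ring
  rw [h3, h4, show 2 * (2 * r + d) - 2 * r = 2 * r + 2 * d by omega,
    show 2 * r * (2 * r + 2 * d) = P + (2 * r * r + r + 4 * d * r) by nlinarith, pow_add]
  ring

end Cfsg.Agent.S2681
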