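import Cfsg.Statements.S2682
import Cfsg.Agent.Dye.CentCount

set_option autoImplicit false
open Cfsg

namespace Cfsg.Agent.S2682

/-- Centraliser order of an involution t of Sp_2m(q), q even, with s = rank(t − 1) even and f(v, tv) ≠ 0 for some v, f the symplectic form (type c_s): |C(t)| = q^(2ms − (3s² − 3s)/2 − 1) · |Sp_(s−2)(q)| · |Sp_(2m−2s)(q)|. -/
theorem result {F : Type*} [Field F] [Fintype F] [CharP F 2] {q : ℕ} (hF : Fintype.card F = q) {m s : ℕ} (t : Matrix.symplecticGroup (Fin m) F) (ht : t ^ 2 = 1) (hs : ((t : Matrix (Fin m ⊕ Fin m) (Fin m ⊕ Fin m) F) - 1).rank = s) (heven : Even s) (hna : ∃ v : Fin m ⊕ Fin m → F, Cfsg.sympForm m F v ((t : Matrix (Fin m ⊕ Fin m) (Fin m ⊕ Fin m) F).mulVec v) ≠ 0) : Nat.card ↥(Subgroup.centralizer ({t} : Set ↥(Matrix.symplecticGroup (Fin m) F))) = q ^ (2 * m * s - (3 * s ^ 2 - 3 * s) / 2 - 1) * ((q : ℕ) ^ (((s - 2) / 2) ^ 2)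 * ∏ i : Fin ((s - 2) / 2), (q ^ (2 * ((i : ℕ) + 1)) - 1)) * ((q : ℕ) ^ ((m - s) ^ 2) * ∏ i : Fin (m - s), (q ^ (2 * ((i : ℕ) + 1)) - 1)) := by
  have ht' : t * t = 1 := by rw [← ht, _root_.sq]
  rw [CfsgLib.Dye.rank_eq] at hs
  have hna' : ¬ CfsgLib.Dye.Alt CfsgLib.Dye.sB (CfsgLib.Dye.devL (CfsgLib.Dye.spHom t)) := fun h => by
    obtain ⟨v, hv⟩ := hna
    exact hv ((CfsgLib.Dye.sp_alt_iff t).1 h v)
  obtain ⟨s', d, P, hs', hs1, rfl, hP, hC⟩ := CfsgLib.Dye.card_cent_nonalt t ht' hna'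
  rw [hs] at hs'
  subst hs'
  obtain ⟨r, rfl⟩ : ∃ r, s' = 2 * r + 2 := by
    obtain ⟨k, rfl⟩ := heven
    exact ⟨k - 1, by omega⟩
  have hq : Nat.card F = q := by rw [Nat.card_eq_fintype_card, hF]
  rw [(CfsgLib.Dye.card_orthMat (F := F) r).2, CfsgLib.Dye.card_Sp_fin, hq,
    ← Fin.prod_univ_eq_prod_range] at hC
  rw [show (2 * r + 2 - 2) / 2 = r by omega, show 2 * r + 2 + d - (2 * r + 2) = d by omega]
  have hqpos : 0 < q := by rw [← hq]; exact Nat.card_pos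
  refine Nat.eq_of_mul_eq_mul_right (pow_pos hqpos P) (hC.trans ?_)
  have hP' : P = 2 * r * r + 3 * r + 1 := by nlinarith
  have h3 : (3 * (2 * r + 2) ^ 2 - 3 * (2 * r + 2)) / 2 = 6 * r * r + 9 * r + 3 := by
    rw [show 3 * (2 * r + 2) ^ 2 = 2 * (6 * r * r + 9 * r + 3) + 3 * (2 * r + 2) by ring,
      Nat.add_sub_cancel, Nat.mul_div_cancel_left _ two_pos]
  have h4 : 2 * (2 * r + 2 + d) * (2 * r + 2) - (6 * r * r + 9 * r + 3) - 1 =
      2 * r * r + 7 * r + 4 + 4 * d * (r + 1) := by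
    rw [Nat.sub_sub, Nat.sub_eq_iff_eq_add (by nlinarith)]; ring
  rw [h3, h4, hP', show 2 * (2 * r + 2 + d) - (2 * r + 2) = 2 * r + 2 + 2 * d by omega]
  ring

end Cfsg.Agent.S2682
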