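import Cfsg.Statements.S2683
import Cfsg.Agent.Dye.OmegaCent

set_option autoImplicit false
open Cfsg

namespace Cfsg.Agent.S2683

/-- For the hyperbolic form Σ x_j y_j on F^(2m) over a finite field with q elements, q even (excluding m = 2 over the field of two elements), and an involution x of the orthogonal group with s = rank(x − 1) odd (type b_s; such x lie outside Ω): the elements of Ω (the commutator subgroup of the orthogonal group) commuting with x number q^(2m(s−1) − (3s² − 3s)/2) · |Sp_(s−1)(q)| · |Sp_(2m−2s)(q)|, where |Sp_2k(q)| = q^(k²) Π_(i=1)^k (q^(2i) − 1). -/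
theorem result {F : Type*} [Field F] [Fintype F] [CharP F 2] {q : ℕ} (hF : Fintype.card F = q) {m s : ℕ} (h : Fintype.card F ≠ 2 ∨ m ≠ 2) (x : ↥(Cfsg.isometryGroup F (Cfsg.quadFormPlus m F))) (hx : x ^ 2 = 1) (hs : (((x : Matrix.GeneralLinearGroup (Fin m ⊕ Fin m) F) : Matrix (Fin m ⊕ Fin m) (Fin m ⊕ Fin m) F) - 1).rank = s) (hodd : Odd s) : Nat.card {g : ↥(Cfsg.Omega F (Cfsg.quadFormPlus m F)) // (g : ↥(Cfsg.isometryGroup F (Cfsg.quadFormPlus m F))) * x = x * (g : ↥(Cfsg.isometryGroup F (Cfsg.quadFormPlus m F)))} = q ^ (2 * m * (s - 1) - (3 * s ^ 2 - 3 * s) / 2) * ((q : ℕ) ^ (((s - 1) / 2) ^ 2) * ∏ i : Fin ((s - 1) / 2), (q ^ (2 * ((i : ℕ) + 1)) - 1)) * ((q : ℕ) ^ ((m - s) ^ 2) * ∏ i : Fin (m - s), (q ^ (2 * ((i : ℕ) + 1)) - 1)) := by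
  have hq : Nat.card F = q := by rw [Nat.card_eq_fintype_card, hF]
  have h' : Nat.card F ≠ 2 ∨ m ≠ 2 := by rw [Nat.card_eq_fintype_card]; exact h
  revert x
  rw [← CfsgLib.Quad.plusQ_coe]
  intro x hx hs
  have hx' : x * x = 1 := by rw [← hx, _root_.sq]
  rw [CfsgLib.Dye.rank_plus] at hs
  set t := CfsgLib.Quad.isoGroupEquiv (CfsgLib.Quad.plusQ (F := F) m) x
  have hd := CfsgLib.Dye.isODev_oGroup (g := t) (by rw [← map_mul, hx', map_one])
  have hna : ¬ CfsgLib.Dye.Alt (QuadraticMap.polarBilin (CfsgLib.Quad.plusQ (F := F) m)) (CfsgLib.Dye.devL t.1) := fun h => by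
    have := CfsgLib.Dye.even_of_alt (CfsgLib.Quad.plusQ_nondeg m) hd.toIsDev h
    rw [hs] at this
    exact Nat.not_even_iff_odd.2 hodd this
  obtain ⟨t', ht', htt, hmain⟩ := CfsgLib.Dye.omega_cent_nonalt h' x hx' hna
  obtain ⟨s', d, P, hs', -, rfl, hP, hC⟩ := CfsgLib.Dye.card_cent_nonalt t' ht' (by
    rw [CfsgLib.Dye.sB_eq_polar, htt]; exact hna)
  rw [htt, hs] at hs'
  subst hs'
  rw [hs] at hmain
  rw [hmain] at hC
  obtain ⟨r, rfl⟩ := hodd
  rw [(CfsgLib.Dye.card_orthMat (F := F) r).1, CfsgLib.Dye.card_Sp_fin, hq,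
    ← Fin.prod_univ_eq_prod_range] at hC
  rw [show (2 * r + 1 - 1) / 2 = r by omega, show 2 * r + 1 + d - (2 * r + 1) = d by omega]
  have hP' : P = 2 * r * r + r := by nlinarith
  have h3 : (3 * (2 * r + 1) ^ 2 - 3 * (2 * r + 1)) / 2 = 6 * r * r + 3 * r := by
    rw [show 3 * (2 * r + 1) ^ 2 = 2 * (6 * r * r + 3 * r) + 3 * (2 * r + 1) by ring,
      Nat.add_sub_cancel, Nat.mul_div_cancel_left _ two_pos]
  have h4 : 2 * (2 * r + 1 + d) * (2 * r + 1 - 1) - (6 * r * r + 3 * r) = 2 * r * r + r + 4 * d * r := by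
    rw [Nat.add_sub_cancel, Nat.sub_eq_iff_eq_add (by nlinarith)]; ring
  have h5 : 2 * (2 * r + 1 + d) - (2 * r + 1) = 2 * r + 1 + 2 * d := by omega
  rw [h3, h4]
  rw [h5, hP'] at hC
  have hqpos : 0 < q := by rw [← hq]; exact Nat.card_pos
  refine Nat.eq_of_mul_eq_mul_right (Nat.mul_pos (pow_pos hqpos (2 * r + 1 + 2 * d)) (pow_pos hqpos (2 * r * r + r))) ?_
  rw [← mul_assoc, mul_comm _ (q ^ (2 * r + 1 + 2 * d)), hC]
  ring

end Cfsg.Agent.S2683
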