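import Cfsg.Statements.S2684
import Cfsg.Agent.Dye.OmegaCent

set_option autoImplicit false
open Cfsg

namespace Cfsg.Agent.S2684

/-- For the hyperbolic form Q = Σ x_j y_j on F^(2m) over a finite field with q elements, q even (excluding m = 2 over the field of two elements), and an involution x ≠ 1 of the orthogonal group with s = rank(x − 1) even and Q vanishing on the image of x − 1 (equivalently f(v, xv) = 0 for all v, where f(u, w) = Q(u + w) − Q(u) − Q(w) is the bilinear form of Q; type a_s, which lies in Ω): its centraliser in Ω (the commutator subgroup of the orthogonal group) has order q^(2ms − (3s² + s)/2) · |Sp_s(q)| · |Ω⁺_(2m−2s)(q)|, where |Ω⁺_2k(q)| = q^(k(k−1)) (q^k − 1) Π_(i=1)^(k−1) (q^(2i) − 1) for k ≥ 1 and the last factor is 1 when s = m. -/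
theorem result {F : Type*} [Field F] [Fintype F] [CharP F 2] {q : ℕ} (hF : Fintype.card F = q) {m s : ℕ} (h : Fintype.card F ≠ 2 ∨ m ≠ 2) (x : ↥(Cfsg.isometryGroup F (Cfsg.quadFormPlus m F))) (hx : x ^ 2 = 1) (hx1 : x ≠ 1) (hs : (((x : Matrix.GeneralLinearGroup (Fin m ⊕ Fin m) F) : Matrix (Fin m ⊕ Fin m) (Fin m ⊕ Fin m) F) - 1).rank = s) (heven : Even s) (halt : ∀ v : Fin m ⊕ Fin m → F, Cfsg.quadFormPlus m F ((((x : Matrix.GeneralLinearGroup (Fin m ⊕ Fin m) F) : Matrix (Fin m ⊕ Fin m) (Fin m ⊕ Fin m) F) - 1).mulVec v) = 0) : Nat.card {g : ↥(Cfsg.Omega F (Cfsg.quadFormPlus m F)) // (g : ↥(Cfsg.isometryGroup F (Cfsg.quadFormPlus m F))) * x = x * (g : ↥(Cfsg.isometryGroup F (Cfsg.quadFormPlus m F)))} = q ^ (2 * m * s - (3 * s ^ 2 + s) / 2) * ((q : ℕ) ^ ((s / 2) ^ 2) * ∏ i : Fin (s / 2), (q ^ (2 * ((i : ℕ) + 1)) - 1)) * (if s = m then 1 else q ^ ((m - s) * (m - s - 1)) * (q ^ (m - s) - 1) * ∏ i : Fin (m - s - 1),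 (q ^ (2 * ((i : ℕ) + 1)) - 1)) := by
  have hq : Nat.card F = q := by rw [Nat.card_eq_fintype_card, hF]
  have h' : Nat.card F ≠ 2 ∨ m ≠ 2 := by rw [Nat.card_eq_fintype_card]; exact h
  revert x
  rw [← CfsgLib.Quad.plusQ_coe]
  intro x hx hx1 hs halt
  have hx' : x * x = 1 := by rw [← hx, _root_.sq]
  rw [CfsgLib.Dye.rank_plus] at hs
  set t := CfsgLib.Quad.isoGroupEquiv (CfsgLib.Quad.plusQ (F := F) m) x
  have ha : CfsgLib.Dye.Alt (QuadraticMap.polarBilin (CfsgLib.Quad.plusQ (F := F) m)) (CfsgLib.Dye.devL t.1) :=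
    (CfsgLib.Dye.alt_iff_iso x hx').2 halt
  obtain ⟨t', ht', htt, hmain⟩ := CfsgLib.Dye.omega_cent_alt h' x hx' hx1 ha
  have hmain := hmain s hs.symm
  obtain ⟨r, d, P, hr, rfl, hP, hC⟩ := CfsgLib.Dye.card_cent_alt t' ht' (by
    rw [CfsgLib.Dye.sB_eq_polar, htt]; exact ha)
  rw [htt, hs] at hr
  subst hr
  rw [hmain, CfsgLib.Dye.card_Sp_fin, CfsgLib.Dye.card_Sp_fin, hq] at hC
  rw [show 2 * r / 2 = r by omega]
  have hP' : P + r = 2 * r * r := by nlinarith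
  have hqpos : 0 < q := by rw [← hq]; exact Nat.card_pos
  have h3 : (3 * (2 * r) ^ 2 + 2 * r) / 2 = 6 * r * r + r := by
    rw [show 3 * (2 * r) ^ 2 + 2 * r = 2 * (6 * r * r + r) by ring, Nat.mul_div_cancel_left _ two_pos]
  have h4 : 2 * (2 * r + d) * (2 * r) - (6 * r * r + r) = P + 4 * d * r := by
    rw [Nat.sub_eq_iff_eq_add (by nlinarith)]; nlinarith
  rw [h3, h4]
  generalize Nat.card {g : ↥(Cfsg.Omega F (⇑(CfsgLib.Quad.plusQ (2 * r + d)))) //
    (g : ↥(Cfsg.isometryGroup F (⇑(CfsgLib.Quad.plusQ (2 * r + d))))) * x = x * g} = C at hC ⊢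
  generalize ∏ i : Fin r, (q ^ (2 * ((i : ℕ) + 1)) - 1) = A at hC ⊢
  clear hmain
  rcases d with _ | j
  · rw [if_pos (add_zero _).symm] at hC ⊢
    simp only [add_zero] at hC ⊢
    rw [mul_one]
    refine Nat.eq_of_mul_eq_mul_right (Nat.mul_pos (pow_pos hqpos (2 * r)) (pow_pos hqpos P)) ?_
    rw [← mul_assoc, mul_comm _ (q ^ (2 * r)), hC, Finset.univ_eq_empty, Finset.prod_empty,
      show 2 * (2 * r) - 2 * r = 2 * r by omega]
    rw [mul_assoc (q ^ _), mul_comm (q ^ (2 * r))]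
    rw [show 2 * r * (2 * r) = P + P + 2 * r by nlinarith]
    ring
  · rw [if_neg (by omega), show 2 * r + (j + 1) - 2 * r = j + 1 by omega] at hC ⊢
    rw [Fin.prod_univ_castSucc] at hC
    simp only [Fin.val_castSucc, Fin.val_last] at hC
    rw [show j + 1 - 1 = j from rfl]
    have hsq : q ^ (2 * (j + 1)) - 1 = (q ^ (j + 1) + 1) * (q ^ (j + 1) - 1) := by
      rw [← Nat.sq_sub_sq, one_pow, ← pow_mul, mul_comm]
    generalize ∏ i : Fin j, (q ^ (2 * ((i : ℕ) + 1)) - 1) = B at hC ⊢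
    rw [hsq, show 2 * (2 * r + (j + 1)) - 2 * r = 2 * r + 2 * (j + 1) by omega] at hC
    have e5 : 2 * r * (2 * r + 2 * (j + 1)) = P + P + 2 * r + 4 * (j + 1) * r := by
      rw [show 2 * r * (2 * r + 2 * (j + 1)) = 2 * (2 * r * r) + 4 * (j + 1) * r by ring, ← hP']; ring
    simp only [e5] at hC
    have hM : 0 < q ^ (2 * r) * (q ^ (j + 1) * (q ^ (j + 1) + 1)) * q ^ P :=
      Nat.mul_pos (Nat.mul_pos (pow_pos hqpos _) (Nat.mul_pos (pow_pos hqpos _) (Nat.add_pos_right _ Nat.one_pos)))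
        (pow_pos hqpos _)
    refine Nat.eq_of_mul_eq_mul_right hM ?_
    refine Eq.trans ?_ (hC.trans ?_)
    · ring
    · simp only [pow_add, pow_mul]
      generalize q ^ (j + 1) - 1 = E
      ring

end Cfsg.Agent.S2684
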