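import Cfsg.Statements.S2686
import Cfsg.Agent.LocalBal.PSLTwist

set_option autoImplicit false
open Cfsg

namespace Cfsg.Agent.S2686

open CfsgLib.AutPSL CfsgLib.LocalBal

/-- A criterion for the failure of local balance in almost simple groups with linear socle. Let F be a finite field of characteristic r and K = PSL_n(F) (n ≥ 2) simple. Let A be a group of automorphisms of K containing all inner automorphisms (an almost simple group with socle K), and β ∈ A an automorphism of prime order p ≠ r that is not inner-diagonal (not induced by conjugation by an invertible matrix). Then the largest normal subgroup of C_A(β) of order prime to p is nontrivial if and only if β is the composite of an inner-diagonal automorphism with the automorphism induced by a field automorphism applied entrywise (β is of field type) and p does not divide the number of fixed points of β on K. -/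
theorem result
    (F : Type*) [Field F] [Fintype F] (r : ℕ) [Fact r.Prime] [CharP F r] (n : ℕ) (hn : 2 ≤ n)
    (hK : IsSimpleGroup (Matrix.ProjectiveSpecialLinearGroup (Fin n) F))
    (𝒢 : Subgroup (MulAut (Matrix.ProjectiveSpecialLinearGroup (Fin n) F))) (hinn : ∀ k : Matrix.ProjectiveSpecialLinearGroup (Fin n) F, MulAut.conj k ∈ 𝒢)
    (p : ℕ) [Fact p.Prime] (hpr : p ≠ r) (β : MulAut (Matrix.ProjectiveSpecialLinearGroup (Fin n) F)) (hβ : β ∈ 𝒢) (hord : orderOf β = p)
    (hnot : ¬ Cfsg.IsInnerDiagonalAutPSL β) :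
    Cfsg.pPrimeCore p ↥(𝒢 ⊓ Subgroup.centralizer {β}) ≠ ⊥ ↔
      ((∃ γ φ : MulAut (Matrix.ProjectiveSpecialLinearGroup (Fin n) F), Cfsg.IsInnerDiagonalAutPSL γ ∧ Cfsg.IsFieldAutPSL φ ∧ β = φ.trans γ) ∧
        Nat.Coprime p (Nat.card ↥(MonoidHom.eqLocus β.toMonoidHom (MonoidHom.id (Matrix.ProjectiveSpecialLinearGroup (Fin n) F))))) := by
  have hpp : p.Prime := Fact.out
  have hpF : (p : F) ≠ 0 := fun h => hpr
    ((Nat.prime_dvd_prime_iff_eq (Fact.out : r.Prime) hpp).mp ((CharP.cast_eq_zero_iff F r p).mp h)).symm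
  by_cases hsemi : ∃ (g : GL (Fin n) F) (σ : RingAut F), β = semiAut g σ
  · obtain ⟨g, σ, rfl⟩ := hsemi
    have hσ : σ ≠ 1 := fun e => hnot (isInnerDiagonal_iff.mpr ⟨g, by rw [e]; rfl⟩)
    have hfield : ∃ γ φ : MulAut (Matrix.ProjectiveSpecialLinearGroup (Fin n) F),
        Cfsg.IsInnerDiagonalAutPSL γ ∧ Cfsg.IsFieldAutPSL φ ∧ semiAut g σ = φ.trans γ :=
      ⟨_, _, isInnerDiagonal_iff.mpr ⟨g, rfl⟩, isFieldAutPSL_iff.mpr ⟨σ, rfl⟩,
        semiAut_eq_inndiag_mul g σ⟩
    rw [and_iff_right hfield]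
    exact semiAut_criterion hn hpF 𝒢 hinn g σ hσ hord
  have hn3 : 3 ≤ n := by
    by_contra h
    obtain rfl : n = 2 := by omega
    exact hsemi (exists_semi_two β)
  obtain ⟨g, σ, rfl | rfl⟩ := exists_semi_or_semi_invTrans hn β
  · exact absurd ⟨g, σ, rfl⟩ hsemi
  have hp2 : p = 2 := by
    refine hpp.eq_two_or_odd'.resolve_right fun ⟨j, hj⟩ => hsemi ?_
    have h1 : semiAut g σ * invTrans = ((semiAut g σ * invTrans) ^ 2) ^ (j + 1) := by
      rw [← pow_mul, show 2 * (j + 1) = p + 1 by omega, pow_succ, ← hord, pow_orderOf_eq_one, one_mul]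
    rw [pow_two, semiAut_graph_mul, semiAut_pow] at h1
    exact ⟨_, _, h1⟩
  subst hp2
  refine iff_of_false (fun h => h (twisted_core (by simpa using hpF) hn3 𝒢 hinn g σ hord)) ?_
  rintro ⟨⟨γ, φ, hγ, hφ, he⟩, -⟩
  obtain ⟨a, rfl⟩ := isInnerDiagonal_iff.mp hγ
  obtain ⟨τ, rfl⟩ := isFieldAutPSL_iff.mp hφ
  exact semiAut_ne_semiAut_mul_invTrans hn3 a g τ σ ((semiAut_eq_inndiag_mul a τ).trans he.symm)

end Cfsg.Agent.S2686
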