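import Cfsg.Statements.S2687
import Cfsg.Agent.LocalBal.PSUField
import Cfsg.Agent.LocalBal.PSUMain

set_option autoImplicit false
open Cfsg

namespace Cfsg.Agent.S2687

open CfsgLib.AutPSU CfsgLib.LocalBal

/-- A criterion for the failure of local balance in almost simple groups with unitary socle. Let F be a finite field of characteristic r with q² elements and K = PSU_n(q) (n ≥ 3, the central quotient of the determinant-one isometries of the standard Hermitian form) simple. Let A be a group of automorphisms of K containing all inner automorphisms, and β ∈ A an automorphism of prime order p ≠ r that is not inner-diagonal (not induced by conjugation by a matrix of the general unitary group). Then the largest normal subgroup of C_A(β) of order prime to p is nontrivial if and only if β is the composite of an inner-diagonal automorphism with the automorphism induced by a field automorphism of F applied entrywise and p does not divide the number of fixed points of β on K. -/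
theorem result
    (F : Type*) [Field F] [Fintype F] (r : ℕ) [Fact r.Prime] [CharP F r] (q : ℕ) (hF : Fintype.card F = q ^ 2)
    (n : ℕ) (hn : 3 ≤ n) (hK : IsSimpleGroup (Cfsg.PSU n F q))
    (𝒢 : Subgroup (MulAut (Cfsg.PSU n F q))) (hinn : ∀ k : Cfsg.PSU n F q, MulAut.conj k ∈ 𝒢)
    (p : ℕ) [Fact p.Prime] (hpr : p ≠ r) (β : MulAut (Cfsg.PSU n F q)) (hβ : β ∈ 𝒢) (hord : orderOf β = p)
    (hnot : ¬ Cfsg.IsInnerDiagonalAutPSU β) :
    Cfsg.pPrimeCore p ↥(𝒢 ⊓ Subgroup.centralizer {β}) ≠ ⊥ ↔
      ((∃ γ φ : MulAut (Cfsg.PSU n F q), Cfsg.IsInnerDiagonalAutPSU γ ∧ (∃ σ : F ≃+* F, Cfsg.IsFieldAutPSUOf σ φ) ∧ β = φ.trans γ) ∧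
        Nat.Coprime p (Nat.card ↥(MonoidHom.eqLocus β.toMonoidHom (MonoidHom.id (Cfsg.PSU n F q))))) := by
  have hpp : p.Prime := Fact.out
  have hF' : Nat.card F = q ^ 2 := by rwa [Nat.card_eq_fintype_card]
  have h32 : ¬ (n = 3 ∧ q = 2) := by
    rintro ⟨rfl, rfl⟩
    obtain ⟨N, hN, hN9, -, -, h72, -⟩ := CfsgLib.Unitary.psu32_structure (F := F) hF'
    rcases hN.eq_bot_or_eq_top with h | h
    · rw [h, Subgroup.card_bot] at hN9; omega
    · rw [h, Subgroup.card_top, h72] at hN9; omega
  obtain ⟨g, σ, rfl⟩ := exists_semi hF' hn h32 β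
  have hσ : σ ≠ 1 := fun e => hnot (isInnerDiagonal_iff.mpr ⟨g, by rw [e]⟩)
  have hfield : ∃ γ φ : MulAut (Cfsg.PSU n F q), Cfsg.IsInnerDiagonalAutPSU γ ∧
      (∃ τ : F ≃+* F, Cfsg.IsFieldAutPSUOf τ φ) ∧ suAut g σ = φ.trans γ :=
    ⟨_, _, isInnerDiagonal_iff.mpr ⟨g, rfl⟩, ⟨σ, isFieldOf_iff.mpr rfl⟩, suAut_eq_inndiag_mul g σ⟩
  rw [and_iff_right hfield]
  rcases hpp.eq_two_or_odd' with rfl | hodd
  · have h2 : (2 : F) ≠ 0 := fun h => hpr
      ((Nat.prime_dvd_prime_iff_eq (Fact.out : r.Prime) hpp).mp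
        ((CharP.cast_eq_zero_iff F r 2).mp (by rw [Nat.cast_ofNat]; exact h))).symm
    obtain ⟨hcore, hev⟩ := psu_graph_case hF' hn h32 h2 𝒢 hinn g σ hσ hord
    exact iff_of_false (fun h => h hcore) hev
  · exact psu_field_criterion hF' hn h32 (fun e => by rw [e] at hodd; exact absurd hodd (by decide)) 𝒢 hinn g σ hσ hord

end Cfsg.Agent.S2687
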