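import Cfsg.Statements.S2700
import Cfsg.Agent.GraphInv.PSL

set_option autoImplicit false
open Cfsg

namespace Cfsg.Agent.S2700

/-- Let T = PSL_n(F) over a finite field of odd order with n = 2m ≥ 4 even, and G = Inndiag(T) the image of PGL_n(F). The involutory graph automorphisms of T fall into exactly three G-classes, with representatives γ₁, γ₂, γ₃ whose centralizers in G are isomorphic respectively to the projective conformal symplectic group PGSp_n(F), the projective conformal orthogonal group of the plus-type form Σ xᵢ yᵢ, and that of a minus-type form Σ xᵢ yᵢ + z₁² + a z₁ z₂ + b z₂² (anisotropic binary part) in dimension n. -/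
theorem result {F : Type*} [Field F] [Fintype F] (hodd : Odd (Fintype.card F)) {n m : ℕ} (hm : 2 ≤ m) (hnm : n = 2 * m) :
    ∃ (γ₁ γ₂ γ₃ : MulAut (Matrix.ProjectiveSpecialLinearGroup (Fin n) F)) (a b : F), (∀ z₁ z₂ : F, z₁ ^ 2 + a * z₁ * z₂ + b * z₂ ^ 2 = 0 → z₁ = 0 ∧ z₂ = 0) ∧ Cfsg.IsGraphAutClassPSL γ₁ ∧ orderOf γ₁ = 2 ∧ Cfsg.IsGraphAutClassPSL γ₂ ∧ orderOf γ₂ = 2 ∧ Cfsg.IsGraphAutClassPSL γ₃ ∧ orderOf γ₃ = 2 ∧ ¬ Cfsg.IsConjUnder (Cfsg.inndiagPSL n F) γ₁ γ₂ ∧ ¬ Cfsg.IsConjUnder (Cfsg.inndiagPSL n F) γ₁ γ₃ ∧ ¬ Cfsg.IsConjUnder (Cfsg.inndiagPSL n F) γ₂ γ₃ ∧ (∀ γ : MulAut (Matrix.ProjectiveSpecialLinearGroup (Fin n) F), Cfsg.IsGraphAutClassPSL γ → orderOf γ = 2 → Cfsg.IsConjUnder (Cfsg.inndiagPSL n F) γ₁ γ ∨ Cfsg.IsConjUnder (Cfsg.inndiagPSL n F) γ₂ γ ∨ Cfsg.IsConjUnder (Cfsg.inndiagPSL n F) γ₃ γ) ∧ Nonempty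 (↥(Cfsg.inndiagPSL n F ⊓ Subgroup.centralizer {γ₁}) ≃* Cfsg.PGSp m F) ∧ Nonempty (↥(Cfsg.inndiagPSL n F ⊓ Subgroup.centralizer {γ₂}) ≃* Cfsg.PGO F (Cfsg.quadFormPlus m F)) ∧ Nonempty (↥(Cfsg.inndiagPSL n F ⊓ Subgroup.centralizer {γ₃}) ≃* Cfsg.PGO F (Cfsg.quadFormMinus (m - 1) F a b)) := by
  have hn : 3 ≤ n := by omega
  have h2 : (2 : F) ≠ 0 := CfsgLib.GraphInv.two_ne_zero_of_odd hodd
  obtain ⟨a, b, hab⟩ := CfsgLib.GraphInv.exists_aniso (F := F) h2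
  obtain ⟨k, rfl⟩ := Nat.exists_eq_add_of_le' (show 1 ≤ m by omega)
  obtain ⟨S₁, S₂, S₃, h₁, h₂, h₃, k₁, k₂, k₃, s₂, s₃⟩ := CfsgLib.GraphInv.even_reps (F := F) h2 hnm hab
  obtain ⟨T₁, rfl, g₁, o₁⟩ := CfsgLib.GraphInv.exists_graphAut hn h₁
  obtain ⟨T₂, rfl, g₂, o₂⟩ := CfsgLib.GraphInv.exists_graphAut hn h₂
  obtain ⟨T₃, rfl, g₃, o₃⟩ := CfsgLib.GraphInv.exists_graphAut hn h₃
  obtain ⟨c₁⟩ := CfsgLib.GraphInv.nonempty_centralizer_equiv hn T₁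
  obtain ⟨c₂⟩ := CfsgLib.GraphInv.nonempty_centralizer_equiv hn T₂
  obtain ⟨c₃⟩ := CfsgLib.GraphInv.nonempty_centralizer_equiv hn T₃
  obtain ⟨⟨i₁⟩, -, -⟩ := CfsgLib.GraphInv.skew_data h2 hnm h₁.1 k₁
  obtain ⟨⟨i₂⟩, -⟩ := CfsgLib.GraphInv.plus_data h2 hnm h₂.1 k₂ s₂
  obtain ⟨⟨i₃⟩, -⟩ := CfsgLib.GraphInv.minus_data h2 hnm h₃.1 k₃ s₃ hab
  have hnc := fun S T h => CfsgLib.GraphInv.not_cong (F := F) h2 hnm (by omega) (S := S) (T := T) h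
  refine ⟨_, _, _, a, b, hab, g₁, o₁, g₂, o₂, g₃, o₃, fun h => ?_, fun h => ?_, fun h => ?_,
    fun γ hγ hγ2 => ?_, ⟨c₁.trans i₁⟩, ⟨c₂.trans i₂⟩, ⟨c₃.trans i₃⟩⟩
  · exact (hnc _ _ ((CfsgLib.GraphInv.isConjUnder_iff hn T₁ T₂).mp h)).1 k₁ h₁.1 k₂
  · exact (hnc _ _ ((CfsgLib.GraphInv.isConjUnder_iff hn T₁ T₃).mp h)).1 k₁ h₁.1 k₃
  · exact s₃ ((hnc _ _ ((CfsgLib.GraphInv.isConjUnder_iff hn T₂ T₃).mp h)).2 h₂.1 s₂)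
  obtain ⟨S, hS, rfl⟩ := CfsgLib.GraphInv.exists_symSkew hγ hγ2
  rcases CfsgLib.GraphInv.even_cover h2 hnm hab h₁ k₁ h₂ k₂ s₂ h₃ k₃ s₃ hS with h | h | h
  · exact Or.inl ((CfsgLib.GraphInv.isConjUnder_iff hn T₁ S).mpr h)
  · exact Or.inr (Or.inl ((CfsgLib.GraphInv.isConjUnder_iff hn T₂ S).mpr h))
  · exact Or.inr (Or.inr ((CfsgLib.GraphInv.isConjUnder_iff hn T₃ S).mpr h))

end Cfsg.Agent.S2700
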