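import Cfsg.Statements.S2702
import Cfsg.Agent.GraphInv.Count

set_option autoImplicit false
open Cfsg

namespace Cfsg.Agent.S2702

/-- Let T = PSL_n(F) over the field with q = p^f elements, n ≥ 3, G = Inndiag(T) the image of PGL_n(F), and γ an involutory graph automorphism of T. The G-class of γ is the union of exactly c T-classes, where: if n is even and q is odd, c = gcd(n/2, q − 1) when C_G(γ) is isomorphic to the projective conformal symplectic group PGSp_n(F) (symplectic type) and c = gcd(n, q − 1)/2 otherwise; and c = gcd(n, q − 1) when n is odd or q is even. -/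
theorem result {F : Type*} [Field F] [Fintype F] {p f : ℕ} [Fact p.Prime] (hF : Fintype.card F = p ^ f) (hf : 1 ≤ f) {n : ℕ} (hn : 3 ≤ n) (γ : MulAut (Matrix.ProjectiveSpecialLinearGroup (Fin n) F)) (hγ : Cfsg.IsGraphAutClassPSL γ) (hγ2 : orderOf γ = 2) :
    ((Even n ∧ Odd p ∧ Nonempty (↥(Cfsg.inndiagPSL n F ⊓ Subgroup.centralizer {γ}) ≃* Cfsg.PGSp (n / 2) F)) → Cfsg.splitClassCount (Cfsg.inndiagPSL n F) (Cfsg.Inn (Matrix.ProjectiveSpecialLinearGroup (Fin n) F)) γ = Nat.gcd (n / 2) (p ^ f - 1)) ∧ ((Even n ∧ Odd p ∧ ¬ Nonempty (↥(Cfsg.inndiagPSL n F ⊓ Subgroup.centralizer {γ}) ≃* Cfsg.PGSp (n / 2) F)) → Cfsg.splitClassCount (Cfsg.inndiagPSL n F) (Cfsg.Inn (Matrix.ProjectiveSpecialLinearGroup (Fin n) F)) γ = Nat.gcd n (p ^ f - 1) / 2) ∧ (¬ (Even n ∧ Odd p) → Cfsg.splitClassCount (Cfsg.inndiagPSL n F) (Cfsg.Inn (Matrix.ProjectiveSpecialLinearGroup (Fin n) F)) γ = Nat.gcd n (p ^ f - 1)) := by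
  obtain ⟨S, hS, rfl⟩ := CfsgLib.GraphInv.exists_symSkew hγ hγ2
  have hc : Nat.card Fˣ = p ^ f - 1 := by rw [Nat.card_units, Nat.card_eq_fintype_card, hF]
  have h2of : Odd p → (2 : F) ≠ 0 := fun hp =>
    CfsgLib.GraphInv.two_ne_zero_of_odd (by rw [hF]; exact hp.pow)
  obtain ⟨e⟩ := CfsgLib.GraphInv.nonempty_centralizer_equiv hn S
  refine ⟨?_, ?_, ?_⟩
  · rintro ⟨⟨m, hm⟩, hp, ⟨i⟩⟩
    have hnm : n = 2 * m := by omega
    have hm2 : n / 2 = m := by omega
    subst hm2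
    rcases hS.2 with h | h
    · exact ((CfsgLib.GraphInv.sym_not_PGSp (h2of hp) hnm (by omega) hS.1 h).false (e.symm.trans i)).elim
    · rw [CfsgLib.GraphInv.count_skew (h2of hp) hnm hn S h, hc]
  · rintro ⟨⟨m, hm⟩, hp, hi⟩
    have hnm : n = 2 * m := by omega
    have hm2 : n / 2 = m := by omega
    subst hm2
    rcases hS.2 with h | h
    · rw [CfsgLib.GraphInv.count_sym (h2of hp) hnm hn S h, hc]
    · obtain ⟨⟨i⟩, -, -⟩ := CfsgLib.GraphInv.skew_data (h2of hp) hnm hS.1 h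
      exact (hi ⟨e.trans i⟩).elim
  · intro h
    rw [CfsgLib.GraphInv.count_other hn S hS ?_, hc]
    by_cases hev : Even n
    · have hp2 : p = 2 := (Fact.out : p.Prime).eq_two_or_odd'.resolve_right fun hp => h ⟨hev, hp⟩
      exact Or.inr (CfsgLib.GraphInv.charP_two_of_card hF hp2 hf)
    · exact Or.inl (Nat.not_even_iff_odd.mp hev)

end Cfsg.Agent.S2702
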