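import Cfsg.Statements.S2707
import Cfsg.Agent.GraphInv.PSU

set_option autoImplicit false
open Cfsg

namespace Cfsg.Agent.S2707

/-- Let T = PSU_n(q) with n = 2m ≥ 4 even and q odd, realised over the field F with q² elements, and G = Inndiag(T) the image of PGU_n(q). The involutory graph automorphisms of T fall into exactly three G-classes, with representatives whose centralizers in G are isomorphic respectively to the projective conformal symplectic group PGSp_n(F₀), the projective conformal orthogonal group of the plus-type form Σ xᵢ yᵢ, and that of a minus-type form Σ xᵢ yᵢ + z₁² + a z₁ z₂ + b z₂² (anisotropic binary part) in dimension n, all over a field F₀ with q elements. -/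
theorem result {F : Type*} [Field F] [Fintype F] {q : ℕ} (hodd : Odd q) (hF : Fintype.card F = q ^ 2) {n m : ℕ} (hm : 2 ≤ m) (hnm : n = 2 * m) (F₀ : Type*) [Field F₀] [Fintype F₀] (hF₀ : Fintype.card F₀ = q) :
    ∃ (γ₁ γ₂ γ₃ : MulAut (Cfsg.PSU n F q)) (a b : F₀), (∀ z₁ z₂ : F₀, z₁ ^ 2 + a * z₁ * z₂ + b * z₂ ^ 2 = 0 → z₁ = 0 ∧ z₂ = 0) ∧ Cfsg.IsGraphAutClassPSU γ₁ ∧ orderOf γ₁ = 2 ∧ Cfsg.IsGraphAutClassPSU γ₂ ∧ orderOf γ₂ = 2 ∧ Cfsg.IsGraphAutClassPSU γ₃ ∧ orderOf γ₃ = 2 ∧ ¬ Cfsg.IsConjUnder (Cfsg.inndiagPSU n F q) γ₁ γ₂ ∧ ¬ Cfsg.IsConjUnder (Cfsg.inndiagPSU n F q) γ₁ γ₃ ∧ ¬ Cfsg.IsConjUnder (Cfsg.inndiagPSU n F q) γ₂ γ₃ ∧ (∀ γ : MulAut (Cfsg.PSU n F q), Cfsg.IsGraphAutClassPSU γ → orderOf γ = 2 → Cfsg.IsConjUnder (Cfsg.inndiagPSU n F q) γ₁ γ ∨ Cfsg.IsConjUnder (Cfsg.inndiagPSU n F q) γ₂ γ ∨ Cfsg.IsConjUnder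 (Cfsg.inndiagPSU n F q) γ₃ γ) ∧ Nonempty (↥(Cfsg.inndiagPSU n F q ⊓ Subgroup.centralizer {γ₁}) ≃* Cfsg.PGSp m F₀) ∧ Nonempty (↥(Cfsg.inndiagPSU n F q ⊓ Subgroup.centralizer {γ₂}) ≃* Cfsg.PGO F₀ (Cfsg.quadFormPlus m F₀)) ∧ Nonempty (↥(Cfsg.inndiagPSU n F q ⊓ Subgroup.centralizer {γ₃}) ≃* Cfsg.PGO F₀ (Cfsg.quadFormMinus (m - 1) F₀ a b)) := by
  have hn : 3 ≤ n := by omega
  rw [← Nat.card_eq_fintype_card] at hF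
  obtain ⟨σ, hσ⟩ := CfsgLib.GraphInv.exists_frob hF
  obtain ⟨j, hj⟩ := CfsgLib.GraphInv.exists_quadExt hF hσ hF₀
  have : NeZero n := ⟨by omega⟩
  have h2 : (2 : F₀) ≠ 0 := CfsgLib.GraphInv.two_ne_zero_of_odd (hF₀ ▸ hodd)
  obtain ⟨a, b, hab⟩ := CfsgLib.GraphInv.exists_aniso (F := F₀) h2
  obtain ⟨k, rfl⟩ := Nat.exists_eq_add_of_le' (show 1 ≤ m by omega)
  obtain ⟨S₁, S₂, S₃, h₁, h₂, h₃, k₁, k₂, k₃, s₂, s₃⟩ := CfsgLib.GraphInv.even_reps (F := F₀) h2 hnm hab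
  obtain ⟨T₁, d₁, g₁, o₁⟩ := CfsgLib.GraphInv.exists_uGraph hF hσ hj hn h₁
  obtain ⟨T₂, d₂, g₂, o₂⟩ := CfsgLib.GraphInv.exists_uGraph hF hσ hj hn h₂
  obtain ⟨T₃, d₃, g₃, o₃⟩ := CfsgLib.GraphInv.exists_uGraph hF hσ hj hn h₃
  obtain ⟨c₁⟩ := CfsgLib.GraphInv.nonempty_centralizerU_equiv hF hσ hj hn d₁
  obtain ⟨c₂⟩ := CfsgLib.GraphInv.nonempty_centralizerU_equiv hF hσ hj hn d₂
  obtain ⟨c₃⟩ := CfsgLib.GraphInv.nonempty_centralizerU_equiv hF hσ hj hn d₃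
  obtain ⟨⟨i₁⟩, -, -⟩ := CfsgLib.GraphInv.skew_data h2 hnm h₁.1 k₁
  obtain ⟨⟨i₂⟩, -⟩ := CfsgLib.GraphInv.plus_data h2 hnm h₂.1 k₂ s₂
  obtain ⟨⟨i₃⟩, -⟩ := CfsgLib.GraphInv.minus_data h2 hnm h₃.1 k₃ s₃ hab
  have hnc := fun S T h => CfsgLib.GraphInv.not_cong (F := F₀) h2 hnm (by omega) (S := S) (T := T) h
  refine ⟨_, _, _, a, b, hab, g₁, o₁, g₂, o₂, g₃, o₃, fun h => ?_, fun h => ?_, fun h => ?_,
    fun γ hγ hγ2 => ?_, ⟨c₁.trans i₁⟩, ⟨c₂.trans i₂⟩, ⟨c₃.trans i₃⟩⟩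
  · exact (hnc _ _ ((CfsgLib.GraphInv.isConjU_iff_cong hF hσ hj hn d₁ d₂).mp h)).1 k₁ h₁.1 k₂
  · exact (hnc _ _ ((CfsgLib.GraphInv.isConjU_iff_cong hF hσ hj hn d₁ d₃).mp h)).1 k₁ h₁.1 k₃
  · exact s₃ ((hnc _ _ ((CfsgLib.GraphInv.isConjU_iff_cong hF hσ hj hn d₂ d₃).mp h)).2 h₂.1 s₂)
  obtain ⟨S, hS, rfl⟩ := CfsgLib.GraphInv.exists_symSkewU hF hσ hγ hγ2
  obtain ⟨A, hA, hA'⟩ := CfsgLib.GraphInv.exists_udesc hF hσ hj hS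
  rcases CfsgLib.GraphInv.even_cover h2 hnm hab h₁ k₁ h₂ k₂ s₂ h₃ k₃ s₃ hA' with h | h | h
  · exact Or.inl ((CfsgLib.GraphInv.isConjU_iff_cong hF hσ hj hn d₁ hA).mpr h)
  · exact Or.inr (Or.inl ((CfsgLib.GraphInv.isConjU_iff_cong hF hσ hj hn d₂ hA).mpr h))
  · exact Or.inr (Or.inr ((CfsgLib.GraphInv.isConjU_iff_cong hF hσ hj hn d₃ hA).mpr h))

end Cfsg.Agent.S2707
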