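import Cfsg.Statements.S2709
import Cfsg.Agent.GraphInv.UCount

set_option autoImplicit false
open Cfsg

namespace Cfsg.Agent.S2709

/-- Let T = PSU_n(q) be simple (n ≥ 3, (n,q) ≠ (3,2), q = p^f), realised over the field F with q² elements, G = Inndiag(T) the image of PGU_n(q), and γ an involutory graph automorphism of T. The G-class of γ is the union of exactly c T-classes, where: if n is even and q is odd, c = gcd(n/2, q + 1) when C_G(γ) is isomorphic to PGSp_n(F₀) for a field F₀ with q elements (symplectic type) and c = gcd(n, q + 1)/2 otherwise; and c = gcd(n, q + 1) when n is odd or q is even. -/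
theorem result {F : Type*} [Field F] [Fintype F] {p f q : ℕ} [Fact p.Prime] (hq : q = p ^ f) (hf : 1 ≤ f) (hF : Fintype.card F = q ^ 2) {n : ℕ} (hn : 3 ≤ n) (hs : ¬ (n = 3 ∧ q = 2)) (F₀ : Type*) [Field F₀] [Fintype F₀] (hF₀ : Fintype.card F₀ = q) (γ : MulAut (Cfsg.PSU n F q)) (hγ : Cfsg.IsGraphAutClassPSU γ) (hγ2 : orderOf γ = 2) :
    ((Even n ∧ Odd q ∧ Nonempty (↥(Cfsg.inndiagPSU n F q ⊓ Subgroup.centralizer {γ}) ≃* Cfsg.PGSp (n / 2) F₀)) → Cfsg.splitClassCount (Cfsg.inndiagPSU n F q) (Cfsg.Inn (Cfsg.PSU n F q)) γ = Nat.gcd (n / 2) (q + 1)) ∧ ((Even n ∧ Odd q ∧ ¬ Nonempty (↥(Cfsg.inndiagPSU n F q ⊓ Subgroup.centralizer {γ}) ≃* Cfsg.PGSp (n / 2) F₀)) → Cfsg.splitClassCount (Cfsg.inndiagPSU n F q) (Cfsg.Inn (Cfsg.PSU n F q)) γ = Nat.gcd n (q + 1) / 2) ∧ (¬ (Even n ∧ Odd q) → Cfsg.splitClassCount (Cfsg.inndiagPSU n F q) (Cfsg.Inn (Cfsg.PSU n F q)) γ = Nat.gcd n (q + 1)) := by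
  have hn : 3 ≤ n := by omega
  rw [← Nat.card_eq_fintype_card] at hF
  obtain ⟨σ, hσ⟩ := CfsgLib.GraphInv.exists_frob hF
  obtain ⟨j, hj⟩ := CfsgLib.GraphInv.exists_quadExt hF hσ hF₀
  have : NeZero n := ⟨by omega⟩
  obtain ⟨S, hS, rfl⟩ := CfsgLib.GraphInv.exists_symSkewU hF hσ hγ hγ2
  obtain ⟨A, hA, hA'⟩ := CfsgLib.GraphInv.exists_udesc hF hσ hj hS
  have h2of : Odd q → (2 : F₀) ≠ 0 := fun hp =>
    CfsgLib.GraphInv.two_ne_zero_of_odd (hF₀ ▸ hp)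
  obtain ⟨e⟩ := CfsgLib.GraphInv.nonempty_centralizerU_equiv hF hσ hj hn hA
  refine ⟨?_, ?_, ?_⟩
  · rintro ⟨⟨m, hm⟩, hp, ⟨i⟩⟩
    have hnm : n = 2 * m := by omega
    have hm2 : n / 2 = m := by omega
    subst hm2
    rcases hA'.2 with h | h
    · exact ((CfsgLib.GraphInv.sym_not_PGSp (h2of hp) hnm (by omega) hA'.1 h).false (e.symm.trans i)).elim
    · exact CfsgLib.GraphInv.countU_skew hF hσ hj (h2of hp) hnm hn hA hA'.1 h
  · rintro ⟨⟨m, hm⟩, hp, hi⟩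
    have hnm : n = 2 * m := by omega
    have hm2 : n / 2 = m := by omega
    subst hm2
    rcases hA'.2 with h | h
    · exact CfsgLib.GraphInv.countU_sym hF hσ hj (h2of hp) hp hnm hn hA hA'.1 h
    · obtain ⟨⟨i⟩, -, -⟩ := CfsgLib.GraphInv.skew_data (h2of hp) hnm hA'.1 h
      exact (hi ⟨e.trans i⟩).elim
  · intro h
    refine CfsgLib.GraphInv.countU_other hF hσ hj hn hA hA'.1 ?_
    by_cases hev : Even n
    · have hp2 : p = 2 := (Fact.out : p.Prime).eq_two_or_odd'.resolve_right fun hp => h ⟨hev, hq ▸ hp.pow⟩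
      exact Or.inr (CfsgLib.GraphInv.charP_two_of_card (hF₀.trans hq) hp2 hf)
    · exact Or.inl (Nat.not_even_iff_odd.mp hev)

end Cfsg.Agent.S2709
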