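import Cfsg.Statements.S2710
import Cfsg.Agent.GraphInv.PSU

set_option autoImplicit false
open Cfsg

namespace Cfsg.Agent.S2710

/-- Let T = PSU_n(q) with n ≥ 4 divisible by 4 (n = 2m) and q odd, realised over the field F with q² elements, G = Inndiag(T) the image of PGU_n(q), and φ the standard field automorphism of T attached to the q-th power map of F (it induces inverse-transpose on the unitary matrices and is a graph automorphism). Its centralizer in G is isomorphic to the projective conformal orthogonal group of the plus-type form Σ xᵢ yᵢ in dimension n over a field F₀ with q elements. (Dimensions n ≡ 2 (mod 4) are not covered.) -/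
theorem result {F : Type*} [Field F] [Fintype F] {q : ℕ} (hodd : Odd q) (hF : Fintype.card F = q ^ 2) {n m : ℕ} (hm : 2 ≤ m) (hnm : n = 2 * m) (h4 : 4 ∣ n) (F₀ : Type*) [Field F₀] [Fintype F₀] (hF₀ : Fintype.card F₀ = q) (σ : F ≃+* F) (hσ : ∀ a : F, σ a = a ^ q) (φ : MulAut (Cfsg.PSU n F q)) (hφ : Cfsg.IsFieldAutPSUOf σ φ) :
    Nonempty (↥(Cfsg.inndiagPSU n F q ⊓ Subgroup.centralizer {φ}) ≃* Cfsg.PGO F₀ (Cfsg.quadFormPlus m F₀)) := by
  have hn : 3 ≤ n := by omega
  rw [← Nat.card_eq_fintype_card] at hF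
  obtain ⟨j, hj⟩ := CfsgLib.GraphInv.exists_quadExt (σ := σ) hF hσ hF₀
  have : NeZero n := ⟨by omega⟩
  have h2 : (2 : F₀) ≠ 0 := CfsgLib.GraphInv.two_ne_zero_of_odd (hF₀ ▸ hodd)
  have hφ' : φ = CfsgLib.GraphInv.uGraph σ (1 : ↥(Cfsg.GU n F q)) := by
    rw [CfsgLib.GraphInv.uGraph, inv_one]
    exact CfsgLib.AutPSU.isFieldOf_iff.mp hφ
  subst hφ'
  have hA : CfsgLib.GraphInv.UDesc σ j (1 : ↥(Cfsg.GU n F q)) (1 : Matrix (Fin n) (Fin n) F₀) := by
    refine ⟨1, ⟨1, ?_⟩, 1, ?_⟩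
    · simp [CfsgLib.GraphInv.upMat]
    · simp
  obtain ⟨e⟩ := CfsgLib.GraphInv.nonempty_centralizerU_equiv hF hσ hj hn hA
  have : NeZero m := ⟨by omega⟩
  obtain ⟨⟨i⟩, -⟩ := CfsgLib.GraphInv.plus_data h2 hnm (S := (1 : Matrix (Fin n) (Fin n) F₀)) (by simp)
    (by simp) (by
      rw [Matrix.det_one, one_mul, Even.neg_one_pow (by obtain ⟨i, hi⟩ := h4; exact ⟨i, by omega⟩)]
      exact IsSquare.one)
  exact ⟨e.trans i⟩

end Cfsg.Agent.S2710
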