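import Cfsg.Statements.S2723
import Cfsg.Agent.AutPOm.PlusOut

set_option autoImplicit false
open Cfsg

namespace Cfsg.Agent.S2723

/-- Let T = PΩ⁺_{2m}(F) with m ≥ 4 and |F| = q odd. The image of the special orthogonal group in Aut(T) contains the inner automorphism group T with index 1 (they coincide) when m is odd and q ≡ 3 (mod 4), and with index 2 otherwise (the index is 2 exactly when the discriminant of the form is a square). -/
theorem result {F : Type*} [Field F] [Fintype F] (hodd : Odd (Fintype.card F)) {m : ℕ} (hm : 4 ≤ m) :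
    ((Odd m ∧ Fintype.card F % 4 = 3) → (Cfsg.Inn (Cfsg.POmega F (Cfsg.quadFormPlus m F))).relIndex (Cfsg.psoAut F (Cfsg.quadFormPlus m F)) = 1) ∧ (¬ (Odd m ∧ Fintype.card F % 4 = 3) → (Cfsg.Inn (Cfsg.POmega F (Cfsg.quadFormPlus m F))).relIndex (Cfsg.psoAut F (Cfsg.quadFormPlus m F)) = 2) := by
  have h2 : (2 : F) ≠ 0 := CfsgLib.AutPOm.two_ne_zero_of_odd_card hodd
  rw [← CfsgLib.Quad.plusQ_coe, ← Nat.card_eq_fintype_card]
  have hz := CfsgLib.AutPOm.negIso_plus_iff (F := F) hm h2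
  refine ⟨fun h => ?_, fun h => CfsgLib.AutPOm.relIndex_inn_psoAut_two (CfsgLib.AutPOm.big_plus hm) h2 (hz.mpr h)⟩
  rw [(CfsgLib.AutPOm.plusSign F (by omega : 3 ≤ m)).psoAut_eq_inn (CfsgLib.AutPOm.big_plus hm) h2
    (fun h' => hz.mp h' h), Subgroup.relIndex_self]

end Cfsg.Agent.S2723
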