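import Cfsg.Statements.S2730
import Cfsg.Agent.LocalBal.PSp

set_option autoImplicit false
open Cfsg

namespace Cfsg.Agent.S2730

/-- A criterion for the failure of local balance in almost simple groups whose socle is a projective symplectic group PSp_{2m}(F) (m ≥ 2, (2m, |F|) ≠ (4, 2)). Let F be a finite field of characteristic r and K the (simple) group in question; let A be a group of automorphisms of K containing all inner automorphisms, and x ∈ A an automorphism of prime order p ≠ r that is not inner-diagonal (not induced by a conformal symplectic matrix). Then the largest normal subgroup of C_A(x) of order prime to p is nontrivial if and only if x is a field automorphism of K (conjugate under Aut(K) to a non-identity standard field automorphism) and p does not divide the number of fixed points of x on K. -/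
theorem result {F : Type*} [Field F] [Fintype F] {r : ℕ} [Fact r.Prime] [CharP F r] {m : ℕ} (hm : 2 ≤ m) (hs : m = 2 → 3 ≤ Fintype.card F) (hK : IsSimpleGroup (Cfsg.PSp m F)) (A : Subgroup (MulAut (Cfsg.PSp m F))) (hinn : ∀ k : Cfsg.PSp m F, MulAut.conj k ∈ A) {p : ℕ} [Fact p.Prime] (hpr : p ≠ r) (x : MulAut (Cfsg.PSp m F)) (hxA : x ∈ A) (hord : orderOf x = p) (hnot : ¬ Cfsg.IsInnerDiagonalAutPSp x) :
    Cfsg.pPrimeCore p ↥(A ⊓ Subgroup.centralizer {x}) ≠ ⊥ ↔ (Cfsg.IsFieldAutClassPSp x ∧ Nat.Coprime p (Nat.card ↥(MonoidHom.eqLocus x.toMonoidHom (MonoidHom.id (Cfsg.PSp m F))))) := by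
  have : NeZero m := ⟨by omega⟩
  have hpp : p.Prime := Fact.out
  have hsemi : ∃ (g : ↥(Cfsg.GSp m F)) (σ : RingAut F), x = CfsgLib.AutPSp.spAut g σ := by
    by_cases h2 : (2 : F) ≠ 0 ∨ 3 ≤ m
    · exact CfsgLib.AutPSp.exists_semi hm h2 x
    push Not at h2
    obtain rfl : m = 2 := by omega
    have : CharP F 2 := CharTwo.of_one_ne_zero_of_two_eq_zero one_ne_zero h2.1
    have hr : r = 2 := CharP.eq F (‹CharP F r› : CharP F r) this
    obtain ⟨g, σ, h | h⟩ := CfsgLib.AutPSp.exists_semi_or_tau x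
    · exact ⟨g, σ, h⟩
    obtain ⟨k, hk⟩ := hpp.eq_two_or_odd'.resolve_left fun e => hpr (e.trans hr.symm)
    have hx1 : x = (x ^ 2) ^ (k + 1) := by
      rw [← pow_mul, show 2 * (k + 1) = p + 1 by omega, pow_succ, ← hord, pow_orderOf_eq_one, one_mul]
    have hx2 : x ^ 2 ∈ CfsgLib.AutPSp.semiGroup 2 F :=
      Subgroup.sq_mem_of_index_two CfsgLib.AutPSp.index_semiGroup_two x
    obtain ⟨g', σ', hx2⟩ := hx2
    rw [hx2, CfsgLib.AutPSp.spAut_pow] at hx1
    exact ⟨_, _, hx1⟩
  obtain ⟨g, σ, rfl⟩ := hsemi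
  have hσ1 : σ ≠ 1 := fun e => hnot (by
    subst e
    exact ⟨_, g.2, (CfsgLib.AutPSp.isInducedBySemilinear_iff g.2).mpr rfl⟩)
  have hσp : σ ^ p = 1 := by
    have h1 := pow_orderOf_eq_one (CfsgLib.AutPSp.spAut g σ)
    rw [hord, CfsgLib.AutPSp.spAut_pow] at h1
    exact (CfsgLib.AutPSp.spAut_eq_one h1).1
  have hσo : orderOf σ = p := orderOf_eq_prime hσp hσ1
  obtain ⟨k, hk⟩ := CfsgLib.AutPSp.exists_conj_of_orderOf hpp hσo hord
  have hclass : Cfsg.IsFieldAutClassPSp (CfsgLib.AutPSp.spAut g σ) := by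
    refine ⟨(CfsgLib.AutPSp.spAut k 1)⁻¹, σ, hσ1, CfsgLib.AutPSp.isStdField_iff.mpr ?_⟩
    rw [hk]
    group
  rw [and_iff_right hclass]
  refine CfsgLib.LocalBal.criterion_conj CfsgLib.AutPSp.conj_injective A hinn (CfsgLib.AutPSp.spAut k 1)
    (CfsgLib.LocalBal.phiSp σ) _ hk hord (CfsgLib.LocalBal.subSp σ) (CfsgLib.LocalBal.subSp_le σ)
    (CfsgLib.LocalBal.fix_ne_bot σ) (CfsgLib.LocalBal.subSp_normal σ) ?_ ?_
  · intro hd N hN hc
    refine CfsgLib.LocalBal.subSp_normal_bot σ hm hpp (fun h2 h0 => ?_) hd N hN hc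
    have : CharP F 2 := CharTwo.of_one_ne_zero_of_two_eq_zero one_ne_zero h0
    exact hpr (h2.trans (CharP.eq F this (‹CharP F r› : CharP F r)))
  · exact fun y _ hy => CfsgLib.LocalBal.mem_zpowers_of_fix_subSp σ hm y hy

end Cfsg.Agent.S2730
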