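import Cfsg.Statements.S2738
import Cfsg.Agent.Classical.Transvections
import Cfsg.Agent.Classical.LinearOrder

set_option autoImplicit false
open Cfsg
open scoped commutatorElement

namespace Cfsg.Agent.S2738

/-- The special linear group SL(3, 4) has centre of order 3 and does not split over it: no subgroup is a complement to the centre (so SL(3, 4) is a non-split central extension of PSL(3, 4) by a group of order 3). -/
theorem result (F : Type*) [Field F] [Fintype F] (hF : Fintype.card F = 4) : Nat.card ↥(Subgroup.center (Matrix.SpecialLinearGroup (Fin 3) F)) = 3 ∧ ¬ ∃ K : Subgroup (Matrix.SpecialLinearGroup (Fin 3) F), Subgroup.IsComplement' (Subgroup.center (Matrix.SpecialLinearGroup (Fin 3) F)) K := by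
  classical
  have hc : Nat.card ↥(Subgroup.center (Matrix.SpecialLinearGroup (Fin 3) F)) = 3 := by
    rw [CfsgLib.Linear.card_center_SL, Fintype.card_fin, Nat.card_eq_fintype_card, hF]
    decide
  refine ⟨hc, ?_⟩
  rintro ⟨K, hK⟩
  set G := Matrix.SpecialLinearGroup (Fin 3) F
  have hperf : commutator G = ⊤ := CfsgLib.Linear.commutator_SL_eq_top (Or.inl (by simp))
  have hle : commutator G ≤ K := by
    rw [commutator_eq_closure, Subgroup.closure_le]
    rintro _ ⟨g, h, rfl⟩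
    obtain ⟨⟨z, k⟩, rfl, -⟩ := hK.existsUnique g
    obtain ⟨⟨z', k'⟩, rfl, -⟩ := hK.existsUnique h
    have hz : ∀ y : G, y * (z : G) = (z : G) * y := Subgroup.mem_center_iff.mp z.2
    have hz' : ∀ y : G, y * (z' : G) = (z' : G) * y := Subgroup.mem_center_iff.mp z'.2
    have e : ⁅(z : G) * k, (z' : G) * k'⁆ = ⁅(k : G), (k' : G)⁆ := by
      simp only [commutatorElement_def, mul_inv_rev]
      have hzi : ∀ y : G, y * (z : G)⁻¹ = (z : G)⁻¹ * y := Subgroup.mem_center_iff.mp (inv_mem z.2)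
      have hzi' : ∀ y : G, y * (z' : G)⁻¹ = (z' : G)⁻¹ * y := Subgroup.mem_center_iff.mp (inv_mem z'.2)
      calc (z : G) * k * ((z' : G) * k') * ((k : G)⁻¹ * (z : G)⁻¹) * ((k' : G)⁻¹ * (z' : G)⁻¹)
          = (z : G) * ((k : G) * (z' : G)) * k' * ((k : G)⁻¹ * (z : G)⁻¹) * ((k' : G)⁻¹ * (z' : G)⁻¹) := by group
        _ = (z : G) * ((z' : G) * k) * k' * ((z : G)⁻¹ * (k : G)⁻¹) * ((z' : G)⁻¹ * (k' : G)⁻¹) := by rw [hz' k, hzi (k : G)⁻¹, hzi' (k' : G)⁻¹]
        _ = (z : G) * ((z' : G) * ((k : G) * k' * (z : G)⁻¹) * (k : G)⁻¹ * (z' : G)⁻¹) * (k' : G)⁻¹ := by group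
        _ = (z : G) * ((z' : G) * ((z : G)⁻¹ * ((k : G) * k')) * (k : G)⁻¹ * (z' : G)⁻¹) * (k' : G)⁻¹ := by rw [hzi ((k : G) * k')]
        _ = (z : G) * (((z' : G) * (z : G)⁻¹ * ((k : G) * k' * (k : G)⁻¹)) * (z' : G)⁻¹) * (k' : G)⁻¹ := by group
        _ = (z : G) * ((z' : G)⁻¹ * ((z' : G) * (z : G)⁻¹ * ((k : G) * k' * (k : G)⁻¹))) * (k' : G)⁻¹ := by rw [hzi']
        _ = (k : G) * k' * (k : G)⁻¹ * (k' : G)⁻¹ := by group
    rw [e]
    simp only [commutatorElement_def]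
    exact K.mul_mem (K.mul_mem (K.mul_mem k.2 k'.2) (K.inv_mem k.2)) (K.inv_mem k'.2)
  have hKtop : K = ⊤ := top_le_iff.mp (hperf ▸ hle)
  have := hK.card_mul
  rw [hKtop, hc, Subgroup.card_top] at this
  have hpos : 0 < Nat.card (Matrix.SpecialLinearGroup (Fin 3) F) := Nat.card_pos
  change 3 * Nat.card (Matrix.SpecialLinearGroup (Fin 3) F) = Nat.card (Matrix.SpecialLinearGroup (Fin 3) F) at this
  omega

end Cfsg.Agent.S2738
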