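import Cfsg.Statements.S2752
import Cfsg.Agent.SThreeFree.K.Dual

set_option autoImplicit false
universe u
open Cfsg

namespace Cfsg.Agent.S2752

/-- Let M be an elementary abelian 2-subgroup of a finite group L and G a subgroup of L acting faithfully on M by conjugation (G normalizes M and meets C(M) trivially). Assume O₂(G) = 1, the symmetric group of degree 3 is not involved in G, and every non-abelian composition factor of G is a Suzuki group Sz(2^(2n+1)) or a group PSL₂(3^(2n+1)). Then every elementary abelian 2-subgroup A of G satisfies |M / C_M(A)| ≥ |A|² and |[M, A]| ≥ |A|². -/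
theorem result {L : Type u} [Group L] [Finite L] (M G : Subgroup L) (hM : Cfsg.IsElementaryAbelian 2 M) (hGM : G ≤ Subgroup.normalizer (M : Set L)) (hf : G ⊓ Subgroup.centralizer (M : Set L) = ⊥) (ha : Cfsg.pCore 2 ↥G = ⊥) (hb : ¬ Cfsg.Involves (Equiv.Perm (Fin 3)) ↥G) (hc : Cfsg.IsCompositionKGroupWith Cfsg.IsSuzukiOrPSL2OddPowerThree ↥G) (A : Subgroup L) (hA : A ≤ G) (hAe : Cfsg.IsElementaryAbelian 2 A) : Nat.card A ^ 2 * Nat.card ↥(M ⊓ Subgroup.centralizer (A : Set L)) ≤ Nat.card M ∧ Nat.card A ^ 2 ≤ Nat.card ↥⁅M, A⁆ := by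
  have h3 : ¬ CfsgLib.ZJ.Inverts 3 G := fun h => hb (CfsgLib.ZJ.involves_perm_three_iff.2 h)
  have hfr : G.subtype.range ⊓ Subgroup.centralizer (M : Set L) = ⊥ := by rwa [G.range_subtype]
  have hn : G.subtype.range ≤ Subgroup.normalizer (M : Set L) := by rwa [G.range_subtype]
  have hA' : Cfsg.IsElementaryAbelian 2 (A.subgroupOf G) :=
    ⟨⟨⟨fun a b => Subtype.ext (Subtype.ext (CfsgLib.Thompson.elab_commute hAe a.2 b.2))⟩⟩,
      fun a ha => Subtype.ext (hAe.2 _ ha)⟩
  have hmap : (A.subgroupOf G).map G.subtype = A := by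
    rw [Subgroup.subgroupOf_map_subtype, inf_eq_left.2 hA]
  have hcard : Nat.card (A.subgroupOf G) = Nat.card A :=
    Nat.card_congr (Subgroup.subgroupOfEquivOfLe hA).toEquiv
  have h1 := CfsgLib.SThreeFree.K.k_bound G.subtype G.subtype_injective M hM hn hfr ha h3 hc _ hA'
  have h2 := CfsgLib.SThreeFree.K.k_bound_commutator G.subtype G.subtype_injective M hM hn hfr ha h3
    hc _ hA'
  rw [hmap, hcard] at h1 h2
  refine ⟨?_, h2⟩
  refine (Nat.mul_le_mul_right _ h1).trans (le_of_eq ?_)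
  rw [mul_comm, CfsgLib.SThreeFree.K.idx, ← Subgroup.relIndex_bot_left (M ⊓ _),
    Subgroup.relIndex_mul_relIndex ⊥ _ M bot_le inf_le_left, Subgroup.relIndex_bot_left]

end Cfsg.Agent.S2752
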