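import Cfsg.Statements.S2756
import Cfsg.Agent.ZJ.TwoClosed

set_option autoImplicit false
open Cfsg

namespace Cfsg.Agent.S2756

/-- For a finite group G the following are equivalent: (a) G has a normal Sylow 2-subgroup; (b) for every odd prime q dividing the order of G and every Sylow q-subgroup T, the normalizer of Z(J(T)) has a normal Sylow 2-subgroup; (c) for every odd prime q and every Sylow q-subgroup T, no nonidentity element of T is inverted by an element of the normalizer of Z(J(T)). Here J(T) is the Thompson subgroup generated by the abelian subgroups of T of largest order. Stated as the two equivalences (a) ⇔ (b) and (a) ⇔ (c). -/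
theorem result {G : Type*} [Group G] [Finite G] : ((∀ P : Sylow 2 G, (P : Subgroup G).Normal) ↔ ∀ (q : ℕ) [Fact q.Prime], q ≠ 2 → q ∣ Nat.card G → ∀ T : Sylow q G, ∀ P : Sylow 2 ↥(Subgroup.normalizer (Cfsg.centerThompsonAOf (T : Subgroup G) : Set G)), (P : Subgroup ↥(Subgroup.normalizer (Cfsg.centerThompsonAOf (T : Subgroup G) : Set G))).Normal) ∧ ((∀ P : Sylow 2 G, (P : Subgroup G).Normal) ↔ ∀ (q : ℕ) [Fact q.Prime], q ≠ 2 → ∀ T : Sylow q G, ∀ x ∈ (T : Subgroup G), x ≠ 1 → ∀ g ∈ Subgroup.normalizer (Cfsg.centerThompsonAOf (T : Subgroup G) : Set G), g * x * g⁻¹ ≠ x⁻¹) := by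
  have h2 : Fact (Nat.Prime 2) := ⟨Nat.prime_two⟩
  have hsub : (∀ P : Sylow 2 G, (P : Subgroup G).Normal) →
      ∀ (M : Subgroup G) (P : Sylow 2 M), (P : Subgroup M).Normal := by
    intro h M P
    obtain ⟨Q⟩ := (inferInstance : Nonempty (Sylow 2 G))
    have := h Q
    have e := P.3 (Q.2.comap_subtype (K := M)) (by
      obtain ⟨R, hR⟩ := (P.2.map M.subtype).exists_le_sylow
      obtain ⟨g, hg⟩ := MulAction.exists_smul_eq G Q R
      have hRQ : R = Q := by rw [← hg]; exact Sylow.smul_eq_of_normal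
      exact fun x hx => hRQ ▸ hR (Subgroup.mem_map_of_mem _ hx))
    rw [← e]
    infer_instance
  have hT : ∀ (q : ℕ) [Fact q.Prime] (T : Sylow q G), q ≠ 2 → (T : Subgroup G) ≤
      Subgroup.normalizer (Cfsg.centerThompsonAOf (T : Subgroup G) : Set G) := fun q _ T hq =>
    Subgroup.le_normalizer.trans ((CfsgLib.ZJ.zkind_centerThompsonA hq).normalizer_le _)
  -- absence of inversions in the normalizers gives the normal Sylow 2-subgroup
  have main : (∀ (q : ℕ) [Fact q.Prime], q ≠ 2 → q ∣ Nat.card G → ∀ T : Sylow q G,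
      ¬ CfsgLib.ZJ.Inverts q
        ↥(Subgroup.normalizer (Cfsg.centerThompsonAOf (T : Subgroup G) : Set G))) →
      ∀ P : Sylow 2 G, (P : Subgroup G).Normal := by
    intro h P
    refine CfsgLib.ZJ.two_closed_of_not_inverts (fun q hq hq2 hd => ?_) P
    have := Fact.mk hq
    exact CfsgLib.ZJ.not_inverts_of_normalizer hq2 G default (h q hq2 hd default)
  refine ⟨⟨fun h q _ _ _ T P => hsub h _ P, fun h => main fun q _ hq hd T =>
    CfsgLib.ZJ.not_inverts_of_two_closed (h q hq hd T) hq⟩, ⟨fun h q _ hq T x hx hx1 g hg he => ?_,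
    fun h => main fun q _ hq _ T hi => ?_⟩⟩
  · obtain ⟨k, hk⟩ := T.2 ⟨x, hx⟩
    exact CfsgLib.ZJ.not_inverts_of_two_closed (hsub h _) hq (CfsgLib.ZJ.inverts_subgroup_iff.mpr
      ⟨g, hg, x, hT q T hq hx, hx1, ⟨k, by simpa using congrArg Subtype.val hk⟩, he⟩)
  · obtain ⟨g, hg, x, hx, hx1, he⟩ := CfsgLib.ZJ.exists_inverted_mem T (hT q T hq) hi
    exact h q hq T x hx hx1 g hg he

end Cfsg.Agent.S2756
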