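import Cfsg.Statements.S2758
import Cfsg.Agent.ZJ.DihedralSection


set_option autoImplicit false
open Cfsg

namespace Cfsg.Agent.S2758

/-- For an odd prime p and a finite group G the following are equivalent: the dihedral group of order 2p is involved in G; some element of 2-power order normalizes but does not centralize some p-subgroup of G; some element of 2-power order inverts some nonidentity element of p-power order. -/
theorem result {G : Type*} [Group G] [Finite G] {p : ℕ} [Fact p.Prime] (hp : p ≠ 2) : (Cfsg.Involves (DihedralGroup p) G ↔ ∃ (x : G) (P : Subgroup G), (∃ k : ℕ, orderOf x = 2 ^ k) ∧ IsPGroup p ↥P ∧ x ∈ Subgroup.normalizer (P : Set G) ∧ x ∉ Subgroup.centralizer (P : Set G)) ∧ (Cfsg.Involves (DihedralGroup p) G ↔ ∃ x y : G, (∃ k : ℕ, orderOf x = 2 ^ k) ∧ (∃ k : ℕ, orderOf y = p ^ k) ∧ y ≠ 1 ∧ x * y * x⁻¹ = y⁻¹) := by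
  classical
  have hC : Cfsg.Involves (DihedralGroup p) G ↔ ∃ x y : G, (∃ k : ℕ, orderOf x = 2 ^ k) ∧
      (∃ k : ℕ, orderOf y = p ^ k) ∧ y ≠ 1 ∧ x * y * x⁻¹ = y⁻¹ := by
    rw [CfsgLib.ZJ.involves_dihedral_iff hp]
    refine ⟨fun h => h.exists_two_element, ?_⟩
    rintro ⟨x, y, -, ⟨k, hk⟩, hy, hxy⟩
    exact ⟨x, y, hy, ⟨k, hk ▸ pow_orderOf_eq_one y⟩, hxy⟩
  refine ⟨?_, hC⟩
  rw [hC]
  constructor
  · rintro ⟨x, y, hx, ⟨k, hk⟩, hy, hxy⟩
    refine ⟨x, Subgroup.zpowers y, hx, IsPGroup.of_card (n := k) (by rw [Nat.card_zpowers, hk]),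
      ?_, fun hc => hy ?_⟩
    · rw [Subgroup.mem_normalizer_iff_map_conj_eq, MonoidHom.map_zpowers]
      show Subgroup.zpowers ((MulAut.conj x) y) = _
      rw [MulAut.conj_apply, hxy, Subgroup.zpowers_inv]
    · refine CfsgLib.ZJ.eq_one_of_eq_inv hp (hk ▸ pow_orderOf_eq_one y : y ^ p ^ k = 1) ?_
      rw [← hxy, ← Subgroup.mem_centralizer_iff.mp hc y (Subgroup.mem_zpowers y),
        mul_inv_cancel_right]
  · rintro ⟨x, P, ⟨k, hk⟩, hP, hxP, hxC⟩
    have hodd : ∀ m : ℕ, Odd m → x ^ m ∉ Subgroup.centralizer (P : Set G) := by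
      intro m hm hmem
      obtain ⟨i, hi⟩ := exists_pow_eq_self_of_coprime (x := x) (n := m)
        (hk ▸ (Nat.coprime_two_right.mpr hm).pow_right k)
      exact hxC (hi ▸ pow_mem hmem i)
    obtain ⟨j, hj, y, hy, hy1, ⟨l, hl⟩, hjy⟩ :=
      CfsgLib.ZJ.exists_inverts_of_normalizes hP hxP hodd
    obtain ⟨a, -, ha⟩ := (Nat.dvd_prime_pow Nat.prime_two).mp
      (hk ▸ orderOf_dvd_of_mem_zpowers hj)
    obtain ⟨b, -, hb⟩ := (Nat.dvd_prime_pow Fact.out).mp (orderOf_dvd_of_pow_eq_one hl)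
    exact ⟨j, y, ⟨a, ha⟩, ⟨b, hb⟩, hy1, hjy⟩

end Cfsg.Agent.S2758
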