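import Cfsg.Statements.S2760
import Cfsg.Agent.Solvable.Fitting
import Cfsg.Agent.Transfer.PResidual


set_option autoImplicit false
open Cfsg

namespace Cfsg.Agent.S2760

/-- Let G be a finite group with C_G(O₂(G)) ≤ O₂(G) and H a subgroup of G such that H is normal in G, or the subgroup O²(H) generated by the elements of H of odd order is normal in G. Then C_H(O₂(H)) ≤ O₂(H). -/
theorem result {G : Type*} [Group G] [Finite G] (hchar : Subgroup.centralizer (Cfsg.pCore 2 G : Set G) ≤ Cfsg.pCore 2 G) (H : Subgroup G) (hH : H.Normal ∨ ((Cfsg.pResidual 2 ↥H).map H.subtype).Normal) : Subgroup.centralizer (Cfsg.pCore 2 ↥H : Set ↥H) ≤ Cfsg.pCore 2 ↥H := by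
  classical
  haveI : Fact (Nat.Prime 2) := ⟨Nat.prime_two⟩
  have key : ∀ K : Subgroup G, K.Normal → ∀ c ∈ K, (∀ u ∈ Cfsg.pCore 2 G, u ∈ K → c * u = u * c) →
      Odd (orderOf c) → c = 1 := by
    intro K hK c hc hcu hodd
    have hcen : c ∈ Subgroup.centralizer (Cfsg.pCore 2 G : Set G) := by
      rw [Subgroup.mem_centralizer_iff]
      intro u hu
      set d := c * u * c⁻¹ * u⁻¹ with hd
      have hdK : d ∈ K := by
        rw [hd, show c * u * c⁻¹ * u⁻¹ = c * (u * c⁻¹ * u⁻¹) by group]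
        exact mul_mem hc (hK.conj_mem _ (inv_mem hc) u)
      haveI := CfsgLib.Solvable.pCore_normal 2 (G := G)
      have hdO : d ∈ Cfsg.pCore 2 G :=
        mul_mem (Subgroup.Normal.conj_mem inferInstance u hu c) (inv_mem hu)
      have hcd : c * d * c⁻¹ = d := mul_inv_eq_iff_eq_mul.mpr (hcu d hdO hdK)
      have hn : ∀ n : ℕ, c ^ n * u * (c ^ n)⁻¹ = d ^ n * u := by
        intro n
        induction n with
        | zero => simp
        | succ n ih =>
          calc c ^ (n + 1) * u * (c ^ (n + 1))⁻¹ = c * (c ^ n * u * (c ^ n)⁻¹) * c⁻¹ := by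
                rw [pow_succ']; group
            _ = (c * d ^ n * c⁻¹) * (c * u * c⁻¹) := by rw [ih]; group
            _ = (c * d * c⁻¹) ^ n * (c * u * c⁻¹) := by rw [conj_pow]
            _ = d ^ n * (d * u) := by rw [hcd]; congr 1; rw [hd]; group
            _ = _ := by rw [pow_succ]; exact (mul_assoc _ _ _).symm
      have h1 := hn (orderOf c)
      rw [pow_orderOf_eq_one, one_mul, inv_one, mul_one, right_eq_mul] at h1
      obtain ⟨k, hk⟩ := CfsgLib.Solvable.isPGroup_pCore 2 (⟨d, hdO⟩ : Cfsg.pCore 2 G)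
      have hk' : d ^ 2 ^ k = 1 := by simpa using congrArg Subtype.val hk
      have hd1 : d = 1 := orderOf_eq_one_iff.mp (Nat.eq_one_of_dvd_coprimes
        ((Nat.coprime_two_right.mpr hodd).pow_right k) (orderOf_dvd_of_pow_eq_one h1)
        (orderOf_dvd_of_pow_eq_one hk'))
      rw [hd, mul_inv_eq_one, mul_inv_eq_iff_eq_mul] at hd1
      exact hd1.symm
    obtain ⟨k, hk⟩ := CfsgLib.Solvable.isPGroup_pCore 2 (⟨c, hchar hcen⟩ : Cfsg.pCore 2 G)
    exact orderOf_eq_one_iff.mp (Nat.eq_one_of_dvd_coprimes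
      ((Nat.coprime_two_right.mpr hodd).pow_right k) dvd_rfl
      (orderOf_dvd_of_pow_eq_one (by simpa using congrArg Subtype.val hk)))
  set O := Cfsg.pCore 2 ↥H with hO
  haveI hOn : O.Normal := CfsgLib.Solvable.pCore_normal 2
  have hinter : ∀ K : Subgroup G, K.Normal → ∀ u ∈ Cfsg.pCore 2 G, ∀ _hu : u ∈ K, K ≤ H →
      ∀ huH : u ∈ H, (⟨u, huH⟩ : H) ∈ O := by
    intro K hK u hu huK hKH huH
    haveI := CfsgLib.Solvable.pCore_normal 2 (G := G)
    haveI : ((Cfsg.pCore 2 G ⊓ K).subgroupOf H).Normal :=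
      Subgroup.Normal.subgroupOf (Subgroup.normal_inf_normal _ _) H
    exact CfsgLib.Solvable.le_pCore 2 (N := (Cfsg.pCore 2 G ⊓ K).subgroupOf H) inferInstance
      (((CfsgLib.Solvable.isPGroup_pCore 2).to_le inf_le_left).comap_subtype) ⟨hu, huK⟩
  have hodd1 : ∀ c ∈ Subgroup.centralizer (O : Set H), Odd (orderOf c) → c = 1 := by
    intro c hc hodd
    obtain ⟨K, hK, hKH, hcK⟩ : ∃ K : Subgroup G, K.Normal ∧ K ≤ H ∧ (c : G) ∈ K := by
      rcases hH with h | h
      · exact ⟨H, h, le_rfl, c.2⟩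
      · refine ⟨_, h, Subgroup.map_subtype_le _, Subgroup.mem_map_of_mem _ ?_⟩
        exact CfsgLib.PResidual.mem_pResidual 2 (Nat.coprime_two_right.mpr hodd)
    refine Subtype.ext (key K hK c hcK ?_ (by rwa [Subgroup.orderOf_coe]))
    intro u hu huK
    exact (congrArg Subtype.val (Subgroup.mem_centralizer_iff.mp hc _
      (hinter K hK u hu huK hKH (hKH huK)))).symm
  refine CfsgLib.Solvable.le_pCore 2 (inferInstance) ?_
  intro c
  obtain ⟨m, hm⟩ : ∃ m, m = (orderOf c).factorization 2 := ⟨_, rfl⟩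
  refine ⟨m, Subtype.ext (hodd1 _ (pow_mem c.2 _) ?_)⟩
  have h : orderOf (((c : H)) ^ 2 ^ m) = orderOf (c : H) / 2 ^ m := orderOf_pow_of_dvd
    (pow_ne_zero _ two_ne_zero) (by rw [hm, ← Subgroup.orderOf_coe c]; exact Nat.ordProj_dvd _ 2)
  rw [Subgroup.coe_pow, h, hm, ← Subgroup.orderOf_coe c]
  exact (Nat.coprime_two_left).mp
    (Nat.coprime_ordCompl Nat.prime_two (orderOf_pos (c : H)).ne')

end Cfsg.Agent.S2760
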