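import Cfsg.Statements.S2762
import Cfsg.Agent.CharP.QdOver


set_option autoImplicit false
open Cfsg

namespace Cfsg.Agent.S2762

/-- Structure of Qd over a finite field F of characteristic p (the affine subgroup of SL₃(F)): its largest normal p-subgroup is the group of translations (matrices with upper-left block the identity), the block-diagonal matrices form a complement isomorphic to SL₂(F), and the translation subgroup is a natural SL₂(F)-module for that complement. -/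
theorem result {F : Type*} [Field F] [Fintype F] {p : ℕ} [Fact p.Prime] [CharP F p] : (∀ M : ↥(Cfsg.qdOver F), M ∈ Cfsg.pCore p ↥(Cfsg.qdOver F) ↔ ((M : Matrix.SpecialLinearGroup (Fin 3) F) : Matrix (Fin 3) (Fin 3) F) 0 0 = 1 ∧ ((M : Matrix.SpecialLinearGroup (Fin 3) F) : Matrix (Fin 3) (Fin 3) F) 0 1 = 0 ∧ ((M : Matrix.SpecialLinearGroup (Fin 3) F) : Matrix (Fin 3) (Fin 3) F) 1 0 = 0 ∧ ((M : Matrix.SpecialLinearGroup (Fin 3) F) : Matrix (Fin 3) (Fin 3) F) 1 1 = 1) ∧ ∃ K : Subgroup ↥(Cfsg.qdOver F), (∀ M : ↥(Cfsg.qdOver F), M ∈ K ↔ ((M : Matrix.SpecialLinearGroup (Fin 3) F) : Matrix (Fin 3) (Fin 3) F) 0 2 = 0 ∧ ((M : Matrix.SpecialLinearGroup (Fin 3) F) : Matrix (Fin 3) (Fin 3) F) 1 2 = 0) ∧ K ⊓ Cfsg.pCore p ↥(Cfsg.qdOver F) = ⊥ ∧ K ⊔ Cfsg.pCore p ↥(Cfsg.qdOver F) = ⊤ ∧ Nonempty (↥K ≃* Matrix.SpecialLinearGroup (Fin 2) F) ∧ Cfsg.IsNaturalSL2Module F (Cfsg.pCore p ↥(Cfsg.qdOver F)) K := by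
  open CfsgLib.QdF in
  have hentry : ∀ M : Cfsg.qdOver F, ∀ i j : Fin 2,
      (M : Matrix.SpecialLinearGroup (Fin 3) F) i.castSucc j.castSucc = CfsgLib.QdF.lp M i j ∧
      (M : Matrix.SpecialLinearGroup (Fin 3) F) i.castSucc 2 = CfsgLib.QdF.tr M i := by
    intro M i j
    rw [CfsgLib.QdF.eq_mat M]
    fin_cases i <;> fin_cases j <;> simp [CfsgLib.QdF.mat]
  rw [CfsgLib.QdF.pCore_eq (p := p)]
  refine ⟨fun M => ?_, CfsgLib.QdF.emb.range, fun M => ?_, ?_, ?_, ?_, CfsgLib.QdF.isNatural⟩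
  · have h00 := (hentry M 0 0).1
    have h01 := (hentry M 0 1).1
    have h10 := (hentry M 1 0).1
    have h11 := (hentry M 1 1).1
    simp only [Fin.castSucc_zero, Fin.castSucc_one] at h00 h01 h10 h11
    rw [h00, h01, h10, h11]
    constructor
    · intro hM
      rw [CfsgLib.QdF.lp_of_mem hM]
      simp
    · rintro ⟨k1, k2, k3, k4⟩
      show CfsgLib.QdF.lp M = 1
      apply Matrix.SpecialLinearGroup.ext
      intro i j
      fin_cases i <;> fin_cases j <;> simp [k1, k2, k3, k4]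
  · have h02 := (hentry M 0 0).2
    have h12 := (hentry M 1 0).2
    simp only [Fin.castSucc_zero, Fin.castSucc_one] at h02 h12
    rw [h02, h12]
    constructor
    · rintro ⟨A, rfl⟩
      rw [CfsgLib.QdF.tr_emb]
      simp
    · rintro ⟨k1, k2⟩
      refine ⟨CfsgLib.QdF.lp M, CfsgLib.QdF.ext_parts (CfsgLib.QdF.lin_emb _) ?_⟩
      rw [CfsgLib.QdF.tr_emb]
      funext i
      fin_cases i <;> simp [k1, k2]
  · rw [eq_bot_iff]
    rintro _ ⟨⟨A, rfl⟩, hA⟩
    have : A = 1 := (CfsgLib.QdF.lin_emb A).symm.trans hA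
    rw [Subgroup.mem_bot, this, map_one]
  · refine eq_top_iff.mpr fun x _ => ?_
    have hk : (CfsgLib.QdF.emb (CfsgLib.QdF.lin x))⁻¹ * x ∈ CfsgLib.QdF.lin.ker := by
      rw [MonoidHom.mem_ker, map_mul, map_inv, CfsgLib.QdF.lin_emb, inv_mul_cancel]
    have h := Subgroup.mul_mem_sup (S := CfsgLib.QdF.emb.range) (⟨_, rfl⟩ : CfsgLib.QdF.emb (CfsgLib.QdF.lin x) ∈ CfsgLib.QdF.emb.range) hk
    rwa [mul_inv_cancel_left] at h
  · exact ⟨(MonoidHom.ofInjective (f := CfsgLib.QdF.emb) fun A B h => by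
      rw [← CfsgLib.QdF.lin_emb A, h, CfsgLib.QdF.lin_emb]).symm⟩

end Cfsg.Agent.S2762
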