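import Cfsg.Statements.S2764
import Cfsg.Agent.PushL2.RankOne

set_option autoImplicit false
set_option linter.style.haveILetI false
open Cfsg

namespace Cfsg.Agent.S2764

/-- Pushing up for a rank-one quotient: let G be a finite group and p a prime with C_G(O_p(G)) ≤ O_p(G), suppose G/K ≅ PSL₂(p^n) for some normal subgroup K and some n ≥ 1, that a Sylow p-subgroup S of G lies in exactly one maximal subgroup of G, and that no nontrivial characteristic subgroup of S is normal in G. Then G/O_p(G) ≅ SL₂(p^n), and every noncentral chief factor U/W of G inside O_p(G) is a natural SL₂-module over the field with p^n elements for the action of G/W. -/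
theorem result {G : Type*} [Group G] [Finite G] {p : ℕ} [Fact p.Prime] (S : Sylow p G) (hE₁ : Subgroup.centralizer (Cfsg.pCore p G : Set G) ≤ Cfsg.pCore p G) (hE₂ : ∃! M : Subgroup G, IsCoatom M ∧ (S : Subgroup G) ≤ M) (K : Subgroup G) [K.Normal] (F : Type) [Field F] [Fintype F] (n : ℕ) (hn : 1 ≤ n) (hF : Fintype.card F = p ^ n) (hE₃ : Nonempty (G ⧸ K ≃* Matrix.ProjectiveSpecialLinearGroup (Fin 2) F)) (hd : ∀ T : Subgroup ↥(S : Subgroup G), T ≠ ⊥ → T.Characteristic → ¬ (T.map (S : Subgroup G).subtype).Normal) : Nonempty (G ⧸ Cfsg.pCore p G ≃* Matrix.SpecialLinearGroup (Fin 2) F) ∧ ∀ (U W : Subgroup G) [W.Normal], U ≤ Cfsg.pCore p G → Cfsg.IsChiefFactor U W → ¬ ⁅U, (⊤ : Subgroup G)⁆ ≤ W → Cfsg.IsNaturalSL2Module F (U.map (QuotientGroup.mk' W)) (⊤ : Subgroup (G ⧸ W)) := by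
  classical
  haveI : Finite F := inferInstance
  have hF' : Nat.card F = p ^ n := Nat.card_eq_fintype_card.trans hF
  obtain ⟨e⟩ := hE₃
  obtain ⟨M, N, hcase⟩ := CfsgLib.PushL2.rankOne S hE₁ hE₂ K F n hn hF' e hd
  haveI := CfsgLib.PushL2.omega_normal (p := p) (G := G)
  obtain ⟨φ⟩ := N.linesV.natural N.ctx N.core F rfl
  have hker : φ.ρ.ker = Cfsg.pCore p G := by
    rw [φ.ker]
    rcases hcase with h | h
    · exact h.ker
    · exact h.ker
  haveI : (Cfsg.pCore p G).Normal := CfsgLib.Solvable.pCore_normal p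
  refine ⟨⟨(QuotientGroup.quotientMulEquivOfEq hker.symm).trans
    (QuotientGroup.quotientKerEquivOfSurjective φ.ρ φ.surj)⟩, fun U W _ hUQ hUW hn' => ?_⟩
  have hW0 : W ≤ Cfsg.pCore p G := hUW.1.le.trans hUQ
  have hz0 : U ⊓ CfsgLib.PushL2.z0 p G ≤ W :=
    CfsgLib.PushL2.triv_step N.core hUW hUQ hn'
      (CfsgLib.PushL2.triv_of_center fun z hz => Subgroup.mem_center_iff.2
        (CfsgLib.PushL2.z0_central hz)) (inf_le_right.trans bot_le)
  have htop : ¬ U ⊓ Cfsg.pCore p G ≤ W := fun h =>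
    not_le_of_gt hUW.1 ((le_inf le_rfl hUQ).trans h)
  by_cases hV : U ⊓ CfsgLib.PushL2.omega p G ≤ W
  · rcases hcase with h | h
    · exact absurd (CfsgLib.PushL2.triv_step N.core hUW hUQ hn' h.top hV) htop
    · obtain ⟨C1, C0, L, -, ht, -⟩ := h.series
      haveI := L.normalW
      obtain ⟨φ₂⟩ := L.natural N.ctx N.core F rfl
      exact CfsgLib.PushL2.natural_step hUW L N.ctx φ₂ (hW0.trans L.core_le_kerOf)
        (CfsgLib.PushL2.triv_step N.core hUW hUQ hn' ht hV) htop
  · exact CfsgLib.PushL2.natural_step hUW N.linesV N.ctx φ (hW0.trans N.linesV.core_le_kerOf)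
      hz0 hV

end Cfsg.Agent.S2764
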