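import Cfsg.Statements.S2765
import Cfsg.Agent.PushL2.RankOne

set_option autoImplicit false
set_option linter.style.haveILetI false
open Cfsg

namespace Cfsg.Agent.S2765

/-- In the same pushing-up situation (G finite, C_G(O_p(G)) ≤ O_p(G), G/K ≅ PSL₂(p^n) with n ≥ 1, a Sylow p-subgroup S in exactly one maximal subgroup, no nontrivial characteristic subgroup of S normal in G), one of the following holds: (I) S has nilpotency class 2, exponent 4 if p = 2 and exponent p otherwise, and G has exactly one noncentral chief factor inside O_p(G); or (II) p = 3, S has class 3 and exponent 9, and G has exactly two noncentral chief factors inside O_p(G). 'Exactly one' is phrased as: some noncentral chief factor U/W inside O_p(G) with G acting hypercentrally on W and on O_p(G)/U; 'exactly two' analogously with a chain. -/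
theorem result {G : Type*} [Group G] [Finite G] {p : ℕ} [Fact p.Prime] (S : Sylow p G) (hE₁ : Subgroup.centralizer (Cfsg.pCore p G : Set G) ≤ Cfsg.pCore p G) (hE₂ : ∃! M : Subgroup G, IsCoatom M ∧ (S : Subgroup G) ≤ M) (K : Subgroup G) [K.Normal] (F : Type) [Field F] [Fintype F] (n : ℕ) (hn : 1 ≤ n) (hF : Fintype.card F = p ^ n) (hE₃ : Nonempty (G ⧸ K ≃* Matrix.ProjectiveSpecialLinearGroup (Fin 2) F)) (hd : ∀ T : Subgroup ↥(S : Subgroup G), T ≠ ⊥ → T.Characteristic → ¬ (T.map (S : Subgroup G).subtype).Normal) : ((S : Subgroup G).lowerCentralSeries 2 = ⊥ ∧ (S : Subgroup G).lowerCentralSeries 1 ≠ ⊥ ∧ (p = 2 → Monoid.exponent ↥(S : Subgroup G) = 4) ∧ (p ≠ 2 → Monoid.exponent ↥(S : Subgroup G) = p) ∧ (∃ U W : Subgroup G, W ≤ U ∧ U ≤ (Cfsg.pCore p G) ∧ Cfsg.IsChiefFactor U W ∧ ¬ ⁅U, (⊤ : Subgroup G)⁆ ≤ W ∧ (∃ k : ℕ, Cfsg.iterCommutator W ⊤ k = ⊥) ∧ (∃ k : ℕ, Cfsg.iterCommutator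 (Cfsg.pCore p G) ⊤ k ≤ U))) ∨ (p = 3 ∧ (S : Subgroup G).lowerCentralSeries 3 = ⊥ ∧ (S : Subgroup G).lowerCentralSeries 2 ≠ ⊥ ∧ Monoid.exponent ↥(S : Subgroup G) = 9 ∧ (∃ U₁ W₁ U₂ W₂ : Subgroup G, W₁ ≤ U₁ ∧ U₁ ≤ W₂ ∧ W₂ ≤ U₂ ∧ U₂ ≤ (Cfsg.pCore p G) ∧ Cfsg.IsChiefFactor U₁ W₁ ∧ Cfsg.IsChiefFactor U₂ W₂ ∧ ¬ ⁅U₁, (⊤ : Subgroup G)⁆ ≤ W₁ ∧ ¬ ⁅U₂, (⊤ : Subgroup G)⁆ ≤ W₂ ∧ (∃ k : ℕ, Cfsg.iterCommutator W₁ ⊤ k = ⊥) ∧ (∃ k : ℕ, Cfsg.iterCommutator W₂ ⊤ k ≤ U₁) ∧ (∃ k : ℕ, Cfsg.iterCommutator (Cfsg.pCore p G) ⊤ k ≤ U₂))) := by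
  classical
  have hF' : Nat.card F = p ^ n := Nat.card_eq_fintype_card.trans hF
  obtain ⟨e⟩ := hE₃
  obtain ⟨M, N, hcase⟩ := CfsgLib.PushL2.rankOne S hE₁ hE₂ K F n hn hF' e hd
  haveI := CfsgLib.PushL2.omega_normal (p := p) (G := G)
  have hVQ : CfsgLib.PushL2.omega p G ≤ Cfsg.pCore p G := CfsgLib.PushL2.omega_le
  have hchief := N.linesV.isChiefFactor N.ctx
  have hnc := N.linesV.not_central N.ctx N.core
  have hZ : ∃ k : ℕ, Cfsg.iterCommutator (CfsgLib.PushL2.z0 p G) ⊤ k = ⊥ :=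
    ⟨1, Subgroup.commutator_eq_bot_iff_le_centralizer.2 fun z hz =>
      Subgroup.mem_centralizer_iff.2 fun g _ => CfsgLib.PushL2.z0_central hz g⟩
  rcases hcase with h | h
  · exact Or.inl ⟨h.lcs_two, h.lcs_one, h.exp_two, h.exp_odd, _, _, hchief.1.le, hVQ, hchief, hnc,
      hZ, 2, h.iter⟩
  · obtain ⟨C1, C0, L, hV0, -, hit⟩ := h.series
    have h2 := L.isChiefFactor N.ctx
    exact Or.inr ⟨h.three, h.lcs_three, h.lcs_two, h.exp, _, _, _, _, hchief.1.le, hV0, h2.1.le,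
      le_rfl, hchief, h2, hnc, L.not_central N.ctx N.core, hZ, ⟨3, hit⟩, 0, le_rfl⟩

end Cfsg.Agent.S2765
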