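import Cfsg.Statements.S2787
import Cfsg.Agent.ZJ.PStable
import Cfsg.Agent.ZJ.QdSection
import Cfsg.Agent.ZJ.SL2Facts
import Cfsg.Agent.Classical.SylowTwoSL
import Cfsg.Agent.Chev.ReeSylow

set_option autoImplicit false
set_option linter.style.haveILetI false
set_option maxHeartbeats 800000
open Cfsg CfsgLib.ZJ

namespace Cfsg.Agent.S2787

/-- Elements of a `2`-subgroup with nontrivial squares commute. -/
def SquareCommute (Q : Type*) [Group Q] : Prop :=
  ∀ R : Subgroup Q, IsPGroup 2 R → ∀ y ∈ R, ∀ z ∈ R, y * y ≠ 1 → z * z ≠ 1 → y * z = z * y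

theorem squareCommute_congr {Q Q' : Type*} [Group Q] [Group Q'] (e : Q ≃* Q')
    (h : SquareCommute Q') : SquareCommute Q := fun R hR y hy z hz hy2 hz2 => by
  apply e.injective
  rw [map_mul, map_mul]
  exact h (R.map e.toMonoidHom) (hR.map _) _ ⟨y, hy, rfl⟩ _ ⟨z, hz, rfl⟩
    (fun h1 => hy2 (e.injective (by rw [map_mul, map_one]; exact h1)))
    (fun h1 => hz2 (e.injective (by rw [map_mul, map_one]; exact h1)))

theorem squareCommute_psl {F : Type*} [Field F] [Fintype F] (hodd : Odd (Fintype.card F)) :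
    SquareCommute (Matrix.ProjectiveSpecialLinearGroup (Fin 2) F) := by
  intro R hR y hy z hz hy2 hz2
  obtain ⟨y, rfl⟩ := QuotientGroup.mk_surjective y
  obtain ⟨z, rfl⟩ := QuotientGroup.mk_surjective z
  have hker : IsPGroup 2 (QuotientGroup.mk' (Subgroup.center (CfsgLib.SL2C.SL F))).ker := by
    intro x
    refine ⟨1, Subtype.ext ?_⟩
    have hx : (x : CfsgLib.SL2C.SL F) ∈ Subgroup.center (CfsgLib.SL2C.SL F) := by
      have := x.2
      simpa [MonoidHom.mem_ker, QuotientGroup.eq_one_iff] using this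
    show ((x : CfsgLib.SL2C.SL F)) ^ 2 ^ 1 = 1
    rcases CfsgLib.SL2C.center_cases hx with h | h
    · rw [h, one_pow]
    · rw [h, pow_one, pow_two, CfsgLib.SL2C.negOne, ← map_mul, neg_mul_neg, one_mul, map_one]
  obtain ⟨S, hS⟩ := (hR.comap_of_ker_isPGroup _ hker).exists_le_sylow
  obtain ⟨k, hk, ⟨e⟩⟩ := CfsgLib.Linear.SylowTwoSL.exists_quaternion hodd S
  have key : ∀ x : (S : Subgroup (CfsgLib.SL2C.SL F)),
      ((x : CfsgLib.SL2C.SL F) : Matrix.ProjectiveSpecialLinearGroup (Fin 2) F) *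
        ((x : CfsgLib.SL2C.SL F) : Matrix.ProjectiveSpecialLinearGroup (Fin 2) F) ≠ 1 →
      ∃ i, e x = QuaternionGroup.a i := by
    intro x hx
    rcases hex : e x with i | i
    · exact ⟨i, rfl⟩
    · exfalso
      haveI : NeZero (2 ^ k) := ⟨pow_ne_zero _ two_ne_zero⟩
      have h4 : orderOf (x : CfsgLib.SL2C.SL F) = 4 := by
        rw [Subgroup.orderOf_coe, ← MulEquiv.orderOf_eq e, hex, QuaternionGroup.orderOf_xa]
      apply hx
      rw [← QuotientGroup.mk_mul, QuotientGroup.eq_one_iff]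
      have h2 : (x : CfsgLib.SL2C.SL F) * x * ((x : CfsgLib.SL2C.SL F) * x) = 1 := by
        have := pow_orderOf_eq_one (x : CfsgLib.SL2C.SL F)
        rw [h4] at this
        simpa [pow_succ, mul_assoc] using this
      exact CfsgLib.SL2C.mem_center_of_mul_self hodd h2
  obtain ⟨i, hi⟩ := key ⟨y, hS hy⟩ hy2
  obtain ⟨j, hj⟩ := key ⟨z, hS hz⟩ hz2
  have h : e (⟨y, hS hy⟩ * ⟨z, hS hz⟩) = e (⟨z, hS hz⟩ * ⟨y, hS hy⟩) := by
    rw [map_mul, map_mul, hi, hj, QuaternionGroup.a_mul_a, QuaternionGroup.a_mul_a, add_comm]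
  rw [← QuotientGroup.mk_mul, ← QuotientGroup.mk_mul]
  exact congrArg _ (congrArg Subtype.val (e.injective h))

theorem squareCommute_ree {Q : Type*} [Group Q] [Finite Q] (h : Cfsg.Lie.IsoRee Q) :
    SquareCommute Q := by
  obtain ⟨K, _, _, m, hm, hK, ⟨e⟩⟩ := h
  obtain ⟨C⟩ := CfsgLib.Chev.G2Tw.exists_ctx hK
  refine squareCommute_congr e fun R hR y hy z _ hy2 _ => absurd ?_ hy2
  obtain ⟨S, hS⟩ := hR.exists_le_sylow
  exact (C.sylow_two S).2 y (hS hy)

/-- A group with a subgroup mapping onto `SL₂(p)` does not have commuting squares. -/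
theorem not_squareCommute {Q : Type*} [Group Q] [Finite Q] {p : ℕ} [Fact p.Prime] (hp : p ≠ 2)
    (K : Subgroup Q) (f : K →* SL2 (ZMod p)) (hf : Function.Surjective f) : ¬ SquareCommute Q := by
  intro hQ
  obtain ⟨T, hT, u, hu, w, hw, huw⟩ := exists_two_group_noncomm hp
  obtain ⟨R, hR⟩ := hT.exists_le_sylow
  obtain ⟨P⟩ := (inferInstance : Nonempty (Sylow 2 K))
  obtain ⟨g, hg⟩ := MulAction.exists_smul_eq (SL2 (ZMod p)) (P.mapSurjective hf) R
  obtain ⟨c, rfl⟩ := hf g
  have hodd : Odd (Fintype.card (ZMod p)) := by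
    rw [ZMod.card]; exact (Fact.out : p.Prime).odd_of_ne_two hp
  have hsq : ∀ x x' : SL2 (ZMod p), x * x = 1 → x * x' = x' * x := fun x x' hx =>
    ((Subgroup.mem_center_iff.1 (CfsgLib.SL2C.mem_center_of_mul_self hodd
      (g := x) (by rw [hx]))) x').symm
  have hmem : ∀ x ∈ (R : Subgroup (SL2 (ZMod p))), ∃ y ∈ (P : Subgroup K).map (MulAut.conj c).toMonoidHom,
      f y = x := by
    intro x hx
    rw [← hg, Sylow.coe_subgroup_smul] at hx
    obtain ⟨v, hv, rfl⟩ := hx
    obtain ⟨y, hy, rfl⟩ := hv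
    exact ⟨_, ⟨y, hy, rfl⟩, by simp⟩
  obtain ⟨y, hy, hyu⟩ := hmem u (hR hu)
  obtain ⟨z, hz, hzw⟩ := hmem w (hR hw)
  apply huw
  rw [← hyu, ← hzw, ← map_mul, ← map_mul]
  refine congrArg f (Subtype.ext (hQ _ ((P.2.map (MulAut.conj c).toMonoidHom).map K.subtype)
    _ ⟨y, hy, rfl⟩ _ ⟨z, hz, rfl⟩ ?_ ?_))
  · intro h
    exact huw (hsq u w (by rw [← hyu, ← map_mul, show y * y = 1 from Subtype.ext h, map_one]))
  · intro h
    exact huw (hsq w u (by rw [← hzw, ← map_mul, show z * z = 1 from Subtype.ext h, map_one])).symm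

/-- Let p be a prime and let H act by conjugation on the elementary abelian p-subgroup V of a finite group, irreducibly (no H-invariant subgroups of V other than 1 and V) and nontrivially, and suppose H/C_H(V) is isomorphic to PSL₂(F) for a field F with p^n elements, p^n odd, or p = 3 and H/C_H(V) is isomorphic to a Ree group ²G₂(3^(2m+1)), m ≥ 1. Then no subgroup A of H acting nontrivially on V acts quadratically: [V, A, A] = 1 forces [V, A] = 1. -/
theorem result {G : Type*} [Group G] [Finite G] {p : ℕ} [Fact p.Prime] (V H : Subgroup G) (hV : Cfsg.IsElementaryAbelian p V) (hHV : H ≤ Subgroup.normalizer (V : Set G)) (hirr : ∀ U : Subgroup G, U ≤ V → H ≤ Subgroup.normalizer (U : Set G) → U = ⊥ ∨ U = V) (hnt : ¬ H ≤ Subgroup.centralizer (V : Set G)) [hn : ((Subgroup.centralizer (V : Set G)).subgroupOf H).Normal] (hq : (∃ (F : Type) (_ : Field F) (_ : Fintype F) (n : ℕ), Fintype.card F = p ^ n ∧ Odd (Fintype.card F) ∧ Nonempty (↥H ⧸ (Subgroup.centralizer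 (V : Set G)).subgroupOf H ≃* Matrix.ProjectiveSpecialLinearGroup (Fin 2) F)) ∨ (p = 3 ∧ Cfsg.Lie.IsoRee (↥H ⧸ (Subgroup.centralizer (V : Set G)).subgroupOf H))) (A : Subgroup G) (hA : A ≤ H) (hquad : ⁅⁅V, A⁆, A⁆ = ⊥) : ⁅V, A⁆ = ⊥ := by
  classical
  have hp : p ≠ 2 := by
    rcases hq with ⟨F, _, _, n, hF, hodd, -⟩ | ⟨rfl, -⟩
    · rintro rfl
      rcases Nat.eq_zero_or_pos n with rfl | hn'
      · rw [pow_zero] at hF
        exact absurd hF Fintype.one_lt_card.ne'
      · rw [hF, Nat.odd_pow_iff (by omega)] at hodd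
        exact absurd hodd (by decide)
    · norm_num
  have hsc : SquareCommute (↥H ⧸ (Subgroup.centralizer (V : Set G)).subgroupOf H) := by
    rcases hq with ⟨F, _, _, n, -, hodd, ⟨e⟩⟩ | ⟨-, h⟩
    · exact squareCommute_congr e (squareCommute_psl hodd)
    · exact squareCommute_ree h
  rw [Subgroup.commutator_comm, Subgroup.commutator_eq_bot_iff_le_centralizer]
  intro a ha
  by_contra hna
  set C := (Subgroup.centralizer (V : Set G)).subgroupOf H with hC
  have : Finite (ElabMod V hV) := inferInstanceAs (Finite (Additive V))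
  set ρ : ↥H →* Module.End (ZMod p) (ElabMod V hV) :=
    (conjEnd hV).comp (Subgroup.inclusion hHV) with hρ
  have hker : ∀ x : ↥H, ρ x = 1 ↔ x ∈ C := fun x =>
    (conjEnd_eq_one_iff hV _).trans Subgroup.mem_subgroupOf.symm
  set ρq : ↥H ⧸ C →* Module.End (ZMod p) (ElabMod V hV) :=
    QuotientGroup.lift C ρ (fun x hx => MonoidHom.mem_ker.2 ((hker x).2 hx)) with hρq
  set n : ↥H ⧸ C := ((⟨a, hA ha⟩ : ↥H) : ↥H ⧸ C) with hn'
  have hsq : (ρq n - 1) * (ρq n - 1) = 0 :=
    conjEnd_quadratic hV ⟨a, hHV (hA ha)⟩ (le_bot_iff.1 (le_trans (Subgroup.commutator_mono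
      (Subgroup.commutator_mono le_rfl (Subgroup.zpowers_le.2 ha)) (Subgroup.zpowers_le.2 ha))
      hquad.le))
  have hnP : ¬ PCoreMod p ρq.ker n := by
    rintro ⟨D, hD, hnD, hDp⟩
    -- the fixed points of a normal subgroup acting as a p-group form an invariant subgroup
    let E : Subgroup ↥H := D.comap (QuotientGroup.mk' C)
    let U : Subgroup G := V ⊓ Subgroup.centralizer ((E.map H.subtype : Subgroup G) : Set G)
    have hHU : H ≤ Subgroup.normalizer (U : Set G) := by
      intro h hh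
      refine Subgroup.mem_normalizer_fintype fun v hv =>
        ⟨(Subgroup.mem_normalizer_iff.1 (hHV hh) v).1 hv.1, ?_⟩
      refine Subgroup.mem_centralizer_iff.2 ?_
      rintro _ ⟨x, hx, rfl⟩
      have hx' : (⟨h, hh⟩ : ↥H)⁻¹ * x * ⟨h, hh⟩ ∈ E := by
        have := (inferInstance : E.Normal).conj_mem x hx (⟨h, hh⟩ : ↥H)⁻¹
        rwa [inv_inv] at this
      have := Subgroup.mem_centralizer_iff.1 hv.2 _ ⟨_, hx', rfl⟩
      simp only [Subgroup.coe_subtype, Subgroup.coe_mul, InvMemClass.coe_inv] at this ⊢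
      calc (x : G) * (h * v * h⁻¹) = h * (h⁻¹ * x * h * v) * h⁻¹ := by group
        _ = h * (v * (h⁻¹ * x * h)) * h⁻¹ := by rw [this]
        _ = h * v * h⁻¹ * x := by group
    rcases hirr U inf_le_left hHU with h | h
    · -- a p-group has a nontrivial fixed point
      let φ : ↥E →* MulAut V := (conjHom V).comp ((Subgroup.inclusion hHV).comp E.subtype)
      have hP : IsPGroup p φ.range := by
        rintro ⟨_, x, rfl⟩
        obtain ⟨k, hk⟩ := hDp _ x.2
        refine ⟨k, Subtype.ext ?_⟩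
        show (φ x) ^ p ^ k = 1
        rw [← map_pow]
        refine MulEquiv.ext fun v => Subtype.ext ?_
        have hk' : ρ ((x : ↥H) ^ p ^ k) = 1 := hk
        have := (hker _).1 hk'
        have h1 := Subgroup.mem_centralizer_iff.1 (Subgroup.mem_subgroupOf.1 this) v v.2
        show (((x ^ p ^ k : ↥E) : ↥H) : G) * v * (((x ^ p ^ k : ↥E) : ↥H) : G)⁻¹ = v
        rw [SubgroupClass.coe_pow, ← h1, mul_inv_cancel_right]
      have hVne : V ≠ ⊥ := by
        rintro rfl
        exact hnt fun x _ => Subgroup.mem_centralizer_iff.2 fun v hv => by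
          rw [Subgroup.mem_bot.1 hv, one_mul, mul_one]
      have hdvd : p ∣ Nat.card V := by
        obtain ⟨b, hb⟩ := IsPGroup.iff_card.1 (show IsPGroup p V from fun v => ⟨1, by
          rw [pow_one]; exact Subtype.ext (hV.2 v v.2)⟩)
        rw [hb]
        refine dvd_pow_self p fun hb0 => hVne (Subgroup.eq_bot_of_card_eq _ ?_)
        rw [hb, hb0, pow_zero]
      obtain ⟨v, hv, hv1⟩ := hP.exists_fixed_point_of_prime_dvd_card_of_fixed_point V hdvd
        (a := 1) (fun g => map_one (g : MulAut V))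
      refine hv1.symm (Subtype.ext (Subgroup.mem_bot.1 (h ▸ (⟨v.2, ?_⟩ : (v : G) ∈ U))))
      refine Subgroup.mem_centralizer_iff.2 ?_
      rintro _ ⟨x, hx, rfl⟩
      have := congrArg Subtype.val (hv ⟨φ ⟨x, hx⟩, ⟨_, rfl⟩⟩)
      exact mul_inv_eq_iff_eq_mul.1 this
    · refine hna ?_
      have hEC : (a : G) ∈ (E.map H.subtype : Subgroup G) := ⟨⟨a, hA ha⟩, hnD, rfl⟩
      refine Subgroup.mem_centralizer_iff.2 fun v hv => ?_
      exact (Subgroup.mem_centralizer_iff.1 ((h.ge hv).2) a hEC).symm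
  obtain ⟨g, v, w, hvw⟩ := exists_plane_of_not_pcoreMod hp ρq n hsq hnP
  set n' := g * n * g⁻¹
  set K := Subgroup.closure ({n, n'} : Set (↥H ⧸ C))
  let σ : K →* Module.End (ZMod p) (ElabMod V hV) := ρq.comp K.subtype
  let b : K := ⟨n, Subgroup.subset_closure (by simp)⟩
  let b' : K := ⟨n', Subgroup.subset_closure (by simp)⟩
  have hpa : PlaneMat σ v w b (upper 1) := by
    have e : σ b = ρq n := rfl
    simp [PlaneMat, e, hvw.fv, hvw.fw, add_comm]
  have hpa' : PlaneMat σ v w b' (lower (-1)) := by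
    have e : σ b' = ρq n' := rfl
    simp [PlaneMat, e, hvw.fv', hvw.fw', sub_eq_add_neg]
  have hgen : Subgroup.closure ({b, b'} : Set K) = ⊤ := by
    apply Subgroup.map_injective K.subtype_injective
    rw [MonoidHom.map_closure, Set.image_pair, ← MonoidHom.range_eq_map, Subgroup.range_subtype]
    rfl
  obtain ⟨φ0, hφ0⟩ := exists_plane_hom σ v w hvw.ind {b, b'} (by
    rintro x (rfl | rfl)
    exacts [⟨_, hpa⟩, ⟨_, hpa'⟩])
  let φ : K →* SL2 (ZMod p) :=
    φ0.comp ((MulEquiv.subgroupCongr hgen.symm).toMonoidHom.comp Subgroup.topEquiv.symm.toMonoidHom)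
  have hφ : ∀ x : K, PlaneMat σ v w x (φ x) := fun x => hφ0 ⟨x, by rw [hgen]; trivial⟩
  refine not_squareCommute hp K φ ?_ hsc
  rw [← MonoidHom.range_eq_top]
  apply sl2_zmod_generated
  · exact ⟨b, planeMat_unique σ v w hvw.ind (hφ b) hpa⟩
  · refine ⟨b'⁻¹, ?_⟩
    rw [map_inv, planeMat_unique σ v w hvw.ind (hφ b') hpa']
    exact inv_eq_of_mul_eq_one_right (by rw [lower_mul, neg_add_cancel, lower_zero])

end Cfsg.Agent.S2787
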