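import Cfsg.Statements.S2788
import Cfsg.Agent.SL2Displacement.Sub

set_option autoImplicit false
open Cfsg

namespace Cfsg.Agent.S2788

/-- Let H act faithfully by conjugation on the elementary abelian p-subgroup V of a finite group with H ≅ SL₂(F), F a field with p^n elements, S a Sylow p-subgroup of H, and A ≤ S a subgroup of order at least 3 acting quadratically on V ([V, A, A] = 1). Then |V/C_V(a)| ≥ p^n for every nonidentity a ∈ A. -/
theorem result {G : Type*} [Group G] [Finite G] {p : ℕ} [Fact p.Prime] (V H : Subgroup G) (hV : Cfsg.IsElementaryAbelian p V) (hHV : H ≤ Subgroup.normalizer (V : Set G)) (hf : H ⊓ Subgroup.centralizer (V : Set G) = ⊥) {F : Type*} [Field F] [Fintype F] (n : ℕ) (hF : Fintype.card F = p ^ n) (hiso : Nonempty (↥H ≃* Matrix.SpecialLinearGroup (Fin 2) F)) (S : Sylow p ↥H) (T : Subgroup G) (hT : T = ((S : Subgroup ↥H).map H.subtype)) (A : Subgroup G) (hA : A ≤ T) (hA3 : 3 ≤ Nat.card A) (hquad : ⁅⁅V, A⁆, A⁆ = ⊥) : ∀ a ∈ A,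 a ≠ 1 → p ^ n ≤ ((V ⊓ Subgroup.centralizer ({a} : Set G))).relIndex V := by
  classical
  intro a ha ha1
  obtain ⟨e⟩ := hiso
  have haT : a ∈ T := hA ha
  rw [hT] at haT
  obtain ⟨x, hx, rfl⟩ := haT
  obtain ⟨k, hk⟩ := S.2 ⟨x, hx⟩
  refine CfsgLib.SL2Displacement.le_relIndex V H hV hHV hf n hF e x.2 ?_ ha1
  have hd : orderOf x ∣ Nat.card ↥(S : Subgroup ↥H) := by
    rw [← Subgroup.orderOf_mk x hx]; exact orderOf_dvd_natCard _
  have hS : Nat.card ↥(S : Subgroup ↥H) ∣ p ^ n := by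
    have h1 := CfsgLib.Linear.card_SL_mul (F := F) rfl 2 (by norm_num)
    simp only [Fin.prod_univ_two, Fin.val_zero, Fin.val_one, pow_zero, pow_one] at h1
    obtain ⟨m, hm⟩ := (IsPGroup.iff_card (p := p)).1 S.2
    rw [hm]
    refine Nat.pow_dvd_pow p ?_
    rw [hF] at h1
    have hp : p.Prime := Fact.out
    have hn : 1 ≤ n := by
      by_contra h0
      rw [show n = 0 by omega, pow_zero] at hF
      have := Fintype.one_lt_card (α := F)
      omega
    have hd2 : p ^ m ∣ (p ^ n - 1) * Nat.card (Matrix.SpecialLinearGroup (Fin 2) F) := by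
      rw [← Nat.card_congr e.toEquiv, ← hm]
      exact dvd_mul_of_dvd_right (Subgroup.card_subgroup_dvd_card _) _
    rw [h1, show (p ^ n) ^ 2 - p ^ n = p ^ n * (p ^ n - 1) by rw [Nat.mul_sub, mul_one, pow_two],
      mul_left_comm] at hd2
    have hc : ∀ t : ℕ, 1 ≤ t → Nat.Coprime (p ^ m) (p ^ t - 1) := fun t ht => by
      refine Nat.Coprime.pow_left m (hp.coprime_iff_not_dvd.2 fun hd => ?_)
      have h1 : p ∣ p ^ t := dvd_pow_self p (by omega)
      have := Nat.dvd_sub h1 hd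
      rw [Nat.sub_sub_self (Nat.one_le_pow _ _ hp.pos)] at this
      exact hp.ne_one (Nat.dvd_one.1 this)
    rw [← pow_mul] at hd2
    have h4 : p ^ m ∣ p ^ n :=
      (hc n hn).dvd_of_dvd_mul_right ((hc (n * 2) (by omega)).dvd_of_dvd_mul_right (by
        rw [mul_assoc, mul_comm (p ^ n - 1) (p ^ (n * 2) - 1)]; exact hd2))
    exact (Nat.pow_dvd_pow_iff_le_right hp.one_lt).1 h4
  have := orderOf_dvd_iff_pow_eq_one.1 (hd.trans hS)
  exact congrArg Subtype.val this

end Cfsg.Agent.S2788
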