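import Cfsg.Statements.S2796
import Cfsg.Agent.SThreeFree.K.ZJFunctor
import Cfsg.Agent.S1997

set_option autoImplicit false
universe u
open Cfsg

namespace Cfsg.Agent.S2796

/-- Let G be a finite group in which the symmetric group of degree 4 is not involved, such that for every section K/R of G with C(O₂(K/R)) ≤ O₂(K/R) every non-abelian composition factor of K/R is a Suzuki group Sz(2^(2n+1)) or PSL₂ over a field with 3^(2n+1) elements. Let S be a Sylow 2-subgroup, J_e(S) the subgroup generated by its elementary abelian subgroups of largest order, and A the normal closure of Ω₁(Z(S)) in N_G(J_e(S)). Then A is an elementary abelian subgroup of S, strongly closed in S with respect to G, and A controls strong fusion in G. -/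
theorem result {G : Type u} [Group G] [Finite G] (hfree : ¬ Cfsg.Involves (Equiv.Perm (Fin 4)) G) (hsec : ∀ (K R : Subgroup G) [hR : (R.subgroupOf K).Normal], Subgroup.centralizer (Cfsg.pCore 2 (K ⧸ R.subgroupOf K) : Set (K ⧸ R.subgroupOf K)) ≤ Cfsg.pCore 2 (K ⧸ R.subgroupOf K) → Cfsg.IsCompositionKGroupWith Cfsg.IsSuzukiOrPSL2OddPowerThree (K ⧸ R.subgroupOf K)) (S : Sylow 2 G) (N : Subgroup G) (hN : N = Subgroup.normalizer (Cfsg.thompsonSubgroupOf 2 (S : Subgroup G) : Set G)) (A : Subgroup G) (hA : A = (Subgroup.normalClosure (((Cfsg.omegaOne 2 ((S : Subgroup G) ⊓ Subgroup.centralizer ((S : Subgroup G) : Set G))).subgroupOf N : Subgroup ↥N) : Set ↥N)).map N.subtype) : A ≤ S ∧ Cfsg.IsElementaryAbelian 2 A ∧ Cfsg.IsStronglyClosed A (S : Subgroup G) ∧ Cfsg.ControlsStrongFusion 2 A := by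
  open CfsgLib.SThreeFree in
  open CfsgLib.SThreeFree.K in
  haveI : Fact (Nat.Prime 2) := ⟨Nat.prime_two⟩
  refine Cfsg.Agent.S1997.result S jFun.{u} zjFun.{u} isCharPFunctor_jFun isCharPFunctor_zjFun ?_
    (le_inf (omega_center_le_thompson (S : Subgroup G))
      ((induced_zjFun (S : Subgroup G)).symm ▸ omega_center_le_zjIn (S : Subgroup G))) N hN A hA
  intro K R hR hchar T
  have hK := kAll_of_compK _ rfl (hsec K R hchar)
  have hfree' : ¬ Cfsg.Involves (Equiv.Perm (Fin 4)) (↥K ⧸ R.subgroupOf K) :=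
    fun h => hfree (CfsgLib.ZJ.involves_of_section K R h)
  rw [induced_zjFun]
  refine ⟨fun x => ?_, fun x => ?_, fun x => ?_⟩
  · obtain ⟨c, hc, n, hn, he⟩ := center_thompson_factor hchar hfree' T x
    exact ⟨c, Subgroup.centralizer_le (CfsgLib.Thompson.omegaOne_le _) hc, n, hn, he⟩
  · obtain ⟨c, hc, n, hn, he⟩ := center_jhat_factor hchar hfree' hK T x
    refine ⟨c, Subgroup.centralizer_le (CfsgLib.Thompson.omegaOne_le _) hc, n, ?_, he⟩
    have hJn : (jHatIn (T : Subgroup (↥K ⧸ R.subgroupOf K))).map (MulAut.conj n).toMonoidHom =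
        jHatIn (T : Subgroup (↥K ⧸ R.subgroupOf K)) := by
      ext y
      constructor
      · rintro ⟨w, hw, rfl⟩
        exact (Subgroup.mem_normalizer_iff.1 hn w).1 hw
      · intro hy
        exact ⟨n⁻¹ * y * n, (Subgroup.mem_normalizer_iff''.1 hn y).1 hy, by simp [mul_assoc]⟩
    refine Subgroup.mem_normalizer_fintype fun y hy => ?_
    have h : (zjIn (T : Subgroup (↥K ⧸ R.subgroupOf K))).map (MulAut.conj n).toMonoidHom =
        zjIn (T : Subgroup (↥K ⧸ R.subgroupOf K)) := by
      rw [zjIn, CfsgLib.Thompson.map_omegaOne _ (MulAut.conj n).injective,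
        ← map_inf_centralizer _ (MulAut.conj n).injective, hJn]
    rw [← h]
    exact ⟨y, hy, by simp⟩
  · obtain ⟨c, hc, n, hn, he⟩ := jhat_center_thompson_factor hchar hfree' hK T x⁻¹
    exact ⟨n⁻¹, inv_mem hn, c⁻¹, inv_mem (Subgroup.centralizer_le_normalizer _ hc), by
      rw [← mul_inv_rev, ← he, inv_inv]⟩

end Cfsg.Agent.S2796
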