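import Cfsg.Statements.S2805
import Cfsg.Agent.CharP.KielerSubnormal

set_option autoImplicit false
open Cfsg

namespace Cfsg.Agent.S2805

/-- Kieler's Lemma: let H be a finite group of characteristic p (C_H(O_p(H)) ≤ O_p(H)), T a Sylow p-subgroup of H and L a subnormal subgroup of H. Then C_L(Ω₁(Z(T))) = C_L(Ω₁(Z(T ∩ L))), Ω₁(Z(·)) denoting the elements of order dividing p in the centre. -/
theorem result {H : Type*} [Group H] [Finite H] {p : ℕ} [Fact p.Prime] (hH : Subgroup.centralizer (Cfsg.pCore p H : Set H) ≤ Cfsg.pCore p H) (T : Sylow p H) (L : Subgroup H) (hL : L.IsSubnormal) : L ⊓ Subgroup.centralizer ((Cfsg.omegaOne p ((T : Subgroup H) ⊓ Subgroup.centralizer ((T : Subgroup H) : Set H))) : Set H) = L ⊓ Subgroup.centralizer ((Cfsg.omegaOne p (((T : Subgroup H) ⊓ L) ⊓ Subgroup.centralizer ((((T : Subgroup H) ⊓ L) : Subgroup H) : Set H))) : Set H) := by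
  exact CfsgLib.Kieler.kieler hH T hL

end Cfsg.Agent.S2805
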