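import Cfsg.Statements.S2809
import Cfsg.Agent.CharP.Stabilizer


set_option autoImplicit false
open Cfsg

namespace Cfsg.Agent.S2809

/-- Let H be a finite group, p a prime, R a p-subgroup of H with C_H(R) ≤ R, and L a subgroup of N_H(R) acting nilpotently on R (some iterated commutator [R, L, …, L] is trivial). Then L is a p-group. -/
theorem result {H : Type*} [Group H] [Finite H] {p : ℕ} [Fact p.Prime] (R : Subgroup H) (hR : IsPGroup p ↥R) (hC : Subgroup.centralizer (R : Set H) ≤ R) (L : Subgroup H) (hL : L ≤ Subgroup.normalizer (R : Set H)) (hnil : ∃ n : ℕ, Cfsg.iterCommutator R L n = ⊥) : IsPGroup p ↥L := by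
  classical
  obtain ⟨n, hn⟩ := hnil
  refine CfsgLib.CharP.isPGroup_of_no_pPrime L fun l hl hlc => ?_
  have hiter : ∀ i, Cfsg.iterCommutator R (Subgroup.zpowers l) i ≤ Cfsg.iterCommutator R L i := by
    intro i
    induction i with
    | zero => exact le_rfl
    | succ i ih => exact Subgroup.commutator_mono ih (Subgroup.zpowers_le.mpr hl)
  have hcen := CfsgLib.CharP.centralize_of_series hR hlc (hL hl)
    (fun i => Cfsg.iterCommutator R (Subgroup.zpowers l) i) n rfl
    (le_bot_iff.mp (hn ▸ hiter n)) (fun i _ => le_rfl)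
  obtain ⟨k, hk⟩ := hR ⟨l, hC hcen⟩
  exact orderOf_eq_one_iff.mp (Nat.eq_one_of_dvd_coprimes (hlc.pow_right k) dvd_rfl
    (orderOf_dvd_of_pow_eq_one (by simpa using congrArg Subtype.val hk)))

end Cfsg.Agent.S2809
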