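import Cfsg.Statements.S2810
import Cfsg.Agent.CharP.Stabilizer


set_option autoImplicit false
open Cfsg

namespace Cfsg.Agent.S2810

/-- Let H be a finite group of characteristic p and L a subgroup of H centralizing every factor of some H-invariant chain 1 = A₀ ≤ A₁ ≤ … ≤ Aₙ = O_p(H) of normal subgroups (that is, [A_{i+1}, L] ≤ Aᵢ for each i). Then L ≤ O_p(H). -/
theorem result {H : Type*} [Group H] [Finite H] {p : ℕ} [Fact p.Prime] (hchar : Subgroup.centralizer (Cfsg.pCore p H : Set H) ≤ Cfsg.pCore p H) (L : Subgroup H) (n : ℕ) (A : Fin (n + 1) → Subgroup H) (h0 : A 0 = ⊥) (hn : A (Fin.last n) = Cfsg.pCore p H) (hmono : Monotone A) (hnorm : ∀ i, (A i).Normal) (hcent : ∀ i : Fin n, ⁅A i.succ, L⁆ ≤ A i.castSucc) : L ≤ Cfsg.pCore p H := by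
  exact CfsgLib.CharP.le_pCore_of_series hchar L n A h0 hn hnorm hcent

end Cfsg.Agent.S2810
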