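import Cfsg.Statements.S2812
import Cfsg.Agent.CharP.FStarAction


set_option autoImplicit false
open Cfsg

namespace Cfsg.Agent.S2812

/-- Let H be a subgroup of the finite group G with O_p(H) = 1, Y a p-subgroup of G normalizing H, and L a subgroup of the generalized Fitting subgroup F*(H) that is subnormal in H and normalized by Y. Then L = [L, Y]·C_L(Y) and [L, Y] = [L, Y, Y]. -/
theorem result {G : Type*} [Group G] [Finite G] {p : ℕ} [Fact p.Prime] (H : Subgroup G) (hO : Cfsg.pCore p ↥H = ⊥) (Y : Subgroup G) (hY : IsPGroup p ↥Y) (hYH : Y ≤ Subgroup.normalizer (H : Set G)) (L : Subgroup G) (hLF : L ≤ (Cfsg.generalizedFittingSubgroup ↥H).map H.subtype) (hLsn : (L.subgroupOf H).IsSubnormal) (hYL : Y ≤ Subgroup.normalizer (L : Set G)) : ⁅L, Y⁆ ⊔ (L ⊓ Subgroup.centralizer (Y : Set G)) = L ∧ ⁅L, Y⁆ = ⁅⁅L, Y⁆, Y⁆ := by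

  classical
  have hLH : L ≤ H := hLF.trans (Subgroup.map_subtype_le _)
  have hle : L.subgroupOf H ≤ Cfsg.generalizedFittingSubgroup H := by
    intro x hx
    obtain ⟨z, hz, hzx⟩ := hLF (Subgroup.mem_subgroupOf.mp hx)
    rwa [Subtype.ext hzx] at hz
  have e : ↥(L.subgroupOf H) ≃* ↥L := Subgroup.subgroupOfEquivOfLe hLH
  refine CfsgLib.FStarAct.act hY hYL ?_ ?_
  · have h := CfsgLib.Comp.map_Fstar_le e
    rw [CfsgLib.FStarAct.Fstar_eq_top_of_le hLsn hle,
      Subgroup.map_top_of_surjective _ e.surjective] at h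
    exact top_le_iff.mp h
  · intro hdvd
    apply CfsgLib.FStarAct.fitting_prime_to_subnormal hO hLsn
    refine hdvd.trans ?_
    have h := Subgroup.card_dvd_of_le (CfsgLib.Comp.map_fitting_le e.symm)
    rwa [Subgroup.card_map_of_injective e.symm.injective] at h


end Cfsg.Agent.S2812
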