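import Cfsg.Statements.S2816
import Cfsg.Agent.CharP.FStarAction


set_option autoImplicit false
open Cfsg

namespace Cfsg.Agent.S2816

/-- Let H be a finite group and p a prime with O_p(H) = 1, and Y a p-subgroup of H. Then for every subnormal subgroup K of H containing Y, [F*(H), Y] = [F*(K), Y] = [F*(K), Y, Y]; and if Y₀ ≤ Y with [F*(H), Y, Y₀] = 1 then Y₀ = 1 (in particular [F*(H), Y] = 1 forces Y = 1). -/
theorem result {H : Type*} [Group H] [Finite H] {p : ℕ} [Fact p.Prime] (hO : Cfsg.pCore p H = ⊥) (Y : Subgroup H) (hY : IsPGroup p ↥Y) : (∀ K : Subgroup H, K.IsSubnormal → Y ≤ K → ⁅Cfsg.generalizedFittingSubgroup H, Y⁆ = ⁅(Cfsg.generalizedFittingSubgroup ↥K).map K.subtype, Y⁆ ∧ ⁅(Cfsg.generalizedFittingSubgroup ↥K).map K.subtype, Y⁆ = ⁅⁅(Cfsg.generalizedFittingSubgroup ↥K).map K.subtype, Y⁆, Y⁆) ∧ (∀ Y₀ : Subgroup H, Y₀ ≤ Y → ⁅⁅Cfsg.generalizedFittingSubgroup H, Y⁆, Y₀⁆ = ⊥ → Y₀ = ⊥) := by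

  classical
  have hFsn : (Cfsg.generalizedFittingSubgroup H).IsSubnormal :=
    Subgroup.Normal.isSubnormal inferInstance
  have hnT : Y ≤ Subgroup.normalizer ((Cfsg.generalizedFittingSubgroup H : Subgroup H) : Set H) := by
    rw [Subgroup.normalizer_eq_top]; exact le_top
  obtain ⟨hsup, hid⟩ := CfsgLib.FStarAct.act_subnormal hO hY hnT hFsn le_rfl
  constructor
  · intro K hK hYK
    have hKF := CfsgLib.FStarAct.Fstar_inf_subnormal hK
    have hsn : (Cfsg.generalizedFittingSubgroup H ⊓ K).IsSubnormal := hFsn.inf hK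
    have hleK : ⁅Cfsg.generalizedFittingSubgroup H, Y⁆ ≤ K :=
      CfsgLib.FStarAct.le_of_commutator_eq hK hYK hid.le
    have hle : ⁅Cfsg.generalizedFittingSubgroup H, Y⁆ ≤
        Cfsg.generalizedFittingSubgroup H ⊓ K :=
      le_inf (Subgroup.le_normalizer_iff_commutator_le_left.1 hnT) hleK
    have hn2 : Y ≤ Subgroup.normalizer
        ((Cfsg.generalizedFittingSubgroup H ⊓ K : Subgroup H) : Set H) := by
      refine hYK.trans ?_
      rw [hKF]
      exact le_trans Subgroup.le_normalizer (CfsgLib.FStarAct.normalizer_le_map_char K _)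
    obtain ⟨-, hid2⟩ := CfsgLib.FStarAct.act_subnormal hO hY hn2 hsn inf_le_left
    rw [← hKF]
    refine ⟨le_antisymm ?_ (Subgroup.commutator_mono inf_le_left le_rfl), hid2⟩
    rw [hid]
    exact Subgroup.commutator_mono hle le_rfl
  · intro Y₀ hY0 hbot
    have h1 : Y₀ ≤ Subgroup.centralizer (Cfsg.generalizedFittingSubgroup H : Set H) := by
      rw [← Subgroup.le_centralizer_iff, ← hsup, sup_le_iff]
      refine ⟨Subgroup.commutator_eq_bot_iff_le_centralizer.mp hbot, ?_⟩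
      exact inf_le_right.trans (Subgroup.centralizer_le hY0)
    exact CfsgLib.FStarAct.pGroup_centralizing_Fstar hO (hY.to_le hY0) h1


end Cfsg.Agent.S2816
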