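import Cfsg.Statements.S2817
import Cfsg.Agent.CharP.FStarCentralizer


set_option autoImplicit false
open Cfsg

namespace Cfsg.Agent.S2817

/-- Let H be a finite group and p a prime with O_p(H) = 1, Q a p-subgroup of H, L = [F*(H), Q], and F the largest normal subgroup of F*(H) centralized by Q (a normal subgroup of F*(H) centralized by Q and containing every such). Then F = C_{F*(H)}(LQ); L = [L, Q]; L ∩ F ≤ Φ(L); every p-subgroup B of N_H(Q) with [L, B] ≤ F satisfies [L, B] = 1; and C_H(FL) has order prime to p. -/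
theorem result {H : Type*} [Group H] [Finite H] {p : ℕ} [Fact p.Prime] (hO : Cfsg.pCore p H = ⊥) (Q : Subgroup H) (hQ : IsPGroup p ↥Q) (L : Subgroup H) (hL : L = ⁅Cfsg.generalizedFittingSubgroup H, Q⁆) (F : Subgroup H) (hF : F ≤ Cfsg.generalizedFittingSubgroup H ∧ Cfsg.generalizedFittingSubgroup H ≤ Subgroup.normalizer (F : Set H) ∧ Q ≤ Subgroup.centralizer (F : Set H) ∧ ∀ N : Subgroup H, N ≤ Cfsg.generalizedFittingSubgroup H → Cfsg.generalizedFittingSubgroup H ≤ Subgroup.normalizer (N : Set H) → Q ≤ Subgroup.centralizer (N : Set H) → N ≤ F) : F = Cfsg.generalizedFittingSubgroup H ⊓ Subgroup.centralizer ((L ⊔ Q : Subgroup H) : Set H) ∧ ⁅L, Q⁆ = L ∧ L ⊓ F ≤ (frattini ↥L).map L.subtype ∧ (∀ B : Subgroup H, IsPGroup p ↥B → B ≤ Subgroup.normalizer (Q : Set H) → ⁅L, B⁆ ≤ F → ⁅L, B⁆ = ⊥) ∧ (Nat.card ↥(Subgroup.centralizer ((F ⊔ L : Subgroup H) : Set H))).Coprime p := by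

  obtain ⟨hFle, hFn, hQF, hmax⟩ := hF
  exact CfsgLib.FStarAct.main hO hQ hL hFle hFn hQF hmax


end Cfsg.Agent.S2817
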