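import Cfsg.Statements.S2818
import Cfsg.Agent.CharP.Stabilizer


set_option autoImplicit false
open Cfsg

namespace Cfsg.Agent.S2818

/-- Let P be a finite p-subgroup of a group G and H a subgroup of N_G(P) with [P, H] ≤ Ω₁(Z(P)) (the elements of order dividing p in the centre of P). Then H centralizes the Frattini subgroup of P. -/
theorem result {G : Type*} [Group G] [Finite G] {p : ℕ} [Fact p.Prime] (P : Subgroup G) (hP : IsPGroup p ↥P) (H : Subgroup G) (hH : H ≤ Subgroup.normalizer (P : Set G)) (h : ⁅P, H⁆ ≤ Cfsg.omegaOne p (P ⊓ Subgroup.centralizer (P : Set G))) : ⁅(frattini ↥P).map P.subtype, H⁆ = ⊥ := by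
  classical
  open Subgroup in
  open scoped commutatorElement in
  set Z := Cfsg.omegaOne p (P ⊓ centralizer (P : Set G)) with hZ
  have hZle : Z ≤ P ⊓ centralizer (P : Set G) := by
    rw [hZ, Cfsg.omegaOne, closure_le]
    exact fun x hx => hx.1
  have hZcomm : ∀ z ∈ Z, ∀ x ∈ P, x * z = z * x := fun z hz x hx =>
    mem_centralizer_iff.mp (hZle hz).2 x hx
  have hZpow : ∀ z ∈ Z, z ^ p = 1 := by
    intro z hz
    induction hz using Subgroup.closure_induction with
    | mem x hx => exact hx.2
    | one => exact one_pow _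
    | mul u v hu hv ihu ihv =>
      rw [(show Commute u v from hZcomm v hv u (hZle hu).1).mul_pow, ihu, ihv, one_mul]
    | inv u hu ihu => rw [inv_pow, ihu, inv_one]
  rw [Subgroup.commutator_eq_bot_iff_le_centralizer]
  rintro _ ⟨x, hx, rfl⟩
  rw [Subgroup.mem_centralizer_iff]
  intro g hg
  have hmem : ∀ a : P, ⁅(a : G), g⁆ ∈ Z := fun a => h (Subgroup.commutator_mem_commutator a.2 hg)
  let φ : P →* Z := MonoidHom.mk' (fun a => ⟨⁅(a : G), g⁆, hmem a⟩) (fun a b => Subtype.ext (by
    have hc := hZcomm _ (hmem b) a a.2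
    have hc' := hZcomm _ (hmem a) _ (hZle (hmem b)).1
    show ⁅((a : G) * b), g⁆ = ⁅(a : G), g⁆ * ⁅(b : G), g⁆
    rw [← hc']
    rw [commutatorElement_def] at hc ⊢
    rw [commutatorElement_def (a : G), commutatorElement_def (b : G)]
    calc (a : G) * b * g * ((a : G) * b)⁻¹ * g⁻¹
        = ((a : G) * ((b : G) * g * (b : G)⁻¹ * g⁻¹) * (a : G)⁻¹) * ((a : G) * g * (a : G)⁻¹ * g⁻¹) := by
          group
      _ = _ := by rw [hc, mul_inv_cancel_right]))
  haveI := CfsgLib.PGroupBasic.commutator_pow_le_frattini hP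
  have hker : frattini P ≤ φ.ker := by
    refine CfsgLib.PGroupBasic.frattini_le_of_elementary (p := p) φ.ker ?_ ?_
    · rw [_root_.commutator_def, Subgroup.commutator_le]
      intro a _ b _
      rw [MonoidHom.mem_ker, map_commutatorElement]
      exact commutatorElement_eq_one_iff_mul_comm.2 (Subtype.ext
        (hZcomm _ (φ b).2 _ (hZle (φ a).2).1))
    · intro a
      rw [MonoidHom.mem_ker, map_pow]
      exact Subtype.ext (by simpa using hZpow _ (φ a).2)
  exact (commutatorElement_eq_one_iff_mul_comm.1 (congrArg Subtype.val (hker hx))).symm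

end Cfsg.Agent.S2818
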