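import Cfsg.Statements.S2819
import Cfsg.Agent.CharP.FrattiniAction

set_option autoImplicit false
open Cfsg

namespace Cfsg.Agent.S2819

/-- Let P be a finite p-subgroup of a group G, H a subgroup of N_G(P), and Y a subgroup of H centralizing the derived subgroup P' such that [P, Y] is elementary abelian. Then O^p(⟨Y^H⟩), the subgroup of the normal closure of Y in H generated by its elements of order prime to p, centralizes the Frattini subgroup of P. -/
theorem result {G : Type*} [Group G] [Finite G] {p : ℕ} [Fact p.Prime] (P : Subgroup G) (hP : IsPGroup p ↥P) (H : Subgroup G) (hH : H ≤ Subgroup.normalizer (P : Set G)) (Y : Subgroup G) (hYH : Y ≤ H) (hYc : Y ≤ Subgroup.centralizer ((⁅P, P⁆ : Subgroup G) : Set G)) (hel : Cfsg.IsElementaryAbelian p ⁅P, Y⁆) (NY : Subgroup G) (hNY : NY = (Subgroup.normalClosure ((Y.subgroupOf H : Subgroup ↥H) : Set ↥H)).map H.subtype) : (Cfsg.pResidual p ↥NY).map NY.subtype ≤ Subgroup.centralizer (((frattini ↥P).map P.subtype : Subgroup G) : Set G) := by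
  subst hNY
  exact CfsgLib.CharP.pResidual_centralizes_frattini P hP H hH Y hYH hYc hel

end Cfsg.Agent.S2819
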