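import Cfsg.Statements.S2821
import Cfsg.Agent.CharP.LargestPReducedOf

set_option autoImplicit false
open Cfsg

namespace Cfsg.Agent.S2821

/-- Let H be a finite group, p a prime, T a Sylow p-subgroup and L a subgroup of characteristic p containing T; let Y_L be the largest p-reduced normal subgroup of L (the join of the normal elementary abelian p-subgroups V of L with O_p(L/C_L(V)) = 1). Then T₀ := C_T(Y_L) is a Sylow p-subgroup of C_H(Y_L); moreover O_p(L) ≤ T₀ ≤ C_L(Y_L) and Ω₁(Z(T)) ≤ Z_L ≤ Y_L ≤ Ω₁(Z(O_p(L))), where Z_L is generated by the Ω₁(Z(S)) over the Sylow p-subgroups S of L. -/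
theorem result {H : Type*} [Group H] [Finite H] {p : ℕ} [Fact p.Prime] (T : Sylow p H) (L : Subgroup H) (hTL : (T : Subgroup H) ≤ L) (hL : Subgroup.centralizer (Cfsg.pCore p ↥L : Set ↥L) ≤ Cfsg.pCore p ↥L) (T₀ : Subgroup H) (hT₀ : T₀ = (T : Subgroup H) ⊓ Subgroup.centralizer (((Cfsg.largestPReducedOf p L) : Subgroup H) : Set H)) : (∃ P : Sylow p ↥(Subgroup.centralizer (((Cfsg.largestPReducedOf p L) : Subgroup H) : Set H)), (P : Subgroup ↥(Subgroup.centralizer (((Cfsg.largestPReducedOf p L) : Subgroup H) : Set H))) = T₀.subgroupOf (Subgroup.centralizer (((Cfsg.largestPReducedOf p L) : Subgroup H) : Set H))) ∧ (Cfsg.pCoreOf p L) ≤ T₀ ∧ T₀ ≤ L ⊓ Subgroup.centralizer (((Cfsg.largestPReducedOf p L) : Subgroup H) : Set H) ∧ (Cfsg.omegaOne p ((T : Subgroup H) ⊓ Subgroup.centralizer (((T : Subgroup H) : Subgroup H) : Set H))) ≤ Cfsg.sylowCenterClosure p L ∧ Cfsg.sylowCenterClosure p L ≤ (Cfsg.largestPReducedOf p L) ∧ (Cfsg.largestPReducedOf p L) ≤ (Cfsg.omegaOne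 p ((Cfsg.pCoreOf p L) ⊓ Subgroup.centralizer (((Cfsg.pCoreOf p L) : Subgroup H) : Set H))) := by
  have hTN : (T : Subgroup H) ≤ Subgroup.normalizer (Subgroup.centralizer (((Cfsg.largestPReducedOf p L) : Subgroup H) : Set H) : Set H) := by
    refine hTL.trans ((CfsgLib.CharP.le_normalizer_largestPReducedOf (p := p) L).trans fun g hg => ?_)
    have key : ∀ g ∈ Subgroup.normalizer ((Cfsg.largestPReducedOf p L : Subgroup H) : Set H), ∀ c ∈ Subgroup.centralizer (((Cfsg.largestPReducedOf p L) : Subgroup H) : Set H), g * c * g⁻¹ ∈ Subgroup.centralizer (((Cfsg.largestPReducedOf p L) : Subgroup H) : Set H) := by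
      intro g hg c hc
      refine Subgroup.mem_centralizer_iff.2 fun y hy => ?_
      have h1 : g⁻¹ * y * g ∈ Cfsg.largestPReducedOf p L := by simpa using (Subgroup.mem_normalizer_iff.1 (inv_mem hg) y).1 hy
      calc y * (g * c * g⁻¹) = g * ((g⁻¹ * y * g) * c) * g⁻¹ := by simp [mul_assoc]
        _ = g * c * g⁻¹ * y := by rw [Subgroup.mem_centralizer_iff.1 hc _ h1]; simp [mul_assoc]
    refine Subgroup.mem_normalizer_iff.2 fun c => ⟨key g hg c, fun hc => ?_⟩
    simpa [mul_assoc] using key g⁻¹ (inv_mem hg) _ hc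
  subst hT₀
  refine ⟨CfsgLib.CharP.exists_sylow_inf T _ hTN, le_inf (CfsgLib.CharP.pCoreOf_le_sylow T hTL) (CfsgLib.CharP.pCoreOf_le_centralizer L), inf_le_inf_right _ hTL, ?_, ?_, ?_⟩
  · refine le_trans (le_of_eq ?_) (le_iSup _ (T.subtype hTL))
    rw [Sylow.coe_subtype, Subgroup.map_subgroupOf_eq_of_le hTL]
  · rw [← CfsgLib.CharP.map_zGen]
    exact Subgroup.map_mono (CfsgLib.CharP.le_largestPReduced (CfsgLib.CharP.zGen_isPReduced hL))
  · have h := Subgroup.map_mono (f := L.subtype) (CfsgLib.CharP.IsPReducedNormal.le_omega (CfsgLib.CharP.largestPReduced_spec (L := L) (p := p)).1)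
    rw [CfsgLib.Thompson.map_omegaOne _ L.subtype_injective, CfsgLib.CharP.map_inf_centralizer] at h
    exact h

end Cfsg.Agent.S2821
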