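import Cfsg.Statements.S2823
import Cfsg.Agent.CharP.ResidualCommutator

set_option autoImplicit false
open Cfsg

namespace Cfsg.Agent.S2823

/-- Let H be a finite group, p a prime, T a Sylow p-subgroup and L a subgroup of characteristic p containing T; let Z_L be the subgroup generated by the Ω₁(Z(S)) over the Sylow p-subgroups S of L and O^p(L) the subgroup generated by the elements of L of order prime to p. Then Z_L = Ω₁(Z(L))·[Z_L, O^p(L)] and [Z_L, L] = [Z_L, O^p(L)]. -/
theorem result {H : Type*} [Group H] [Finite H] {p : ℕ} [Fact p.Prime] (T : Sylow p H) (L : Subgroup H) (hTL : (T : Subgroup H) ≤ L) (hL : Subgroup.centralizer (Cfsg.pCore p ↥L : Set ↥L) ≤ Cfsg.pCore p ↥L) : Cfsg.sylowCenterClosure p L = (Cfsg.omegaOne p (L ⊓ Subgroup.centralizer ((L : Subgroup H) : Set H))) ⊔ ⁅Cfsg.sylowCenterClosure p L, (Cfsg.pResidual p ↥L).map L.subtype⁆ ∧ ⁅Cfsg.sylowCenterClosure p L, L⁆ = ⁅Cfsg.sylowCenterClosure p L, (Cfsg.pResidual p ↥L).map L.subtype⁆ := by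
  obtain ⟨h1, h2⟩ := CfsgLib.CharP.zGen_structure (G := L) hL
  have e1 : sylowCenterClosure p L = (CfsgLib.PLocalCore.zGen p L).map L.subtype :=
    (CfsgLib.CharP.map_zGen L).symm
  have e2 : omegaOne p (L ⊓ Subgroup.centralizer ((L : Subgroup H) : Set H)) =
      (omegaOne p (Subgroup.center L)).map L.subtype := by
    rw [CfsgLib.Thompson.map_omegaOne _ L.subtype_injective]
    congr 1
    ext x
    constructor
    · rintro ⟨hx, hc⟩
      exact ⟨⟨x, hx⟩, Subgroup.mem_center_iff.2 fun y =>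
        Subtype.ext (Subgroup.mem_centralizer_iff.1 hc y y.2), rfl⟩
    · rintro ⟨y, hy, rfl⟩
      exact ⟨y.2, Subgroup.mem_centralizer_iff.2 fun v hv =>
        congrArg Subtype.val (Subgroup.mem_center_iff.1 hy ⟨v, hv⟩)⟩
  refine ⟨?_, ?_⟩
  · rw [e1, e2, ← Subgroup.map_commutator, ← Subgroup.map_sup, ← h1]
  · have e3 : L = (⊤ : Subgroup L).map L.subtype := by rw [← MonoidHom.range_eq_map, L.range_subtype]
    rw [e1, ← Subgroup.map_commutator, ← h2, Subgroup.map_commutator, ← e3]

end Cfsg.Agent.S2823
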