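import Cfsg.Statements.S2825
import Cfsg.Agent.CharP.PReducedSubnormal

set_option autoImplicit false
open Cfsg

namespace Cfsg.Agent.S2825

/-- Let L be a subnormal subgroup of the finite group H, p a prime, Y_H and Y_L the largest p-reduced normal subgroups. Then Y_H ∩ L = Y_H ∩ Y_L and this subgroup is a p-reduced normal subgroup of L; C_L(Y_L) = C_L(Y_H) = C_L(Y_H ∩ L); and if O^p(H) ≤ L, then [Y_L, L] = 1 if and only if [Y_H, H] = 1. -/
theorem result {H : Type*} [Group H] [Finite H] {p : ℕ} [Fact p.Prime] (L : Subgroup H) (hL : L.IsSubnormal) : Cfsg.largestPReduced p H ⊓ L = Cfsg.largestPReduced p H ⊓ (Cfsg.largestPReducedOf p L) ∧ Cfsg.IsPReducedNormal p ((Cfsg.largestPReduced p H ⊓ L).subgroupOf L) ∧ L ⊓ Subgroup.centralizer ((Cfsg.largestPReducedOf p L : Subgroup H) : Set H) = L ⊓ Subgroup.centralizer (Cfsg.largestPReduced p H : Set H) ∧ L ⊓ Subgroup.centralizer (Cfsg.largestPReduced p H : Set H) = L ⊓ Subgroup.centralizer ((Cfsg.largestPReduced p H ⊓ L : Subgroup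 H) : Set H) ∧ (Cfsg.pResidual p H ≤ L → (⁅(Cfsg.largestPReducedOf p L), L⁆ = ⊥ ↔ ⁅Cfsg.largestPReduced p H, (⊤ : Subgroup H)⁆ = ⊥)) := by
  have hspec := CfsgLib.CharP.largestPReduced_spec (L := H) (p := p)
  obtain ⟨hr, hle⟩ := CfsgLib.CharP.inf_pReduced hspec.1 hL
  have h1 : largestPReduced p H ⊓ L ≤ largestPReducedOf p L := fun x hx =>
    ⟨⟨x, hx.2⟩, CfsgLib.CharP.le_largestPReduced hr (Subgroup.mem_subgroupOf.2 hx), rfl⟩
  have h2 : largestPReducedOf p L ≤ L := Subgroup.map_subtype_le _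
  have hcl := CfsgLib.CharP.centralizer_largest_le (p := p) hL
  refine ⟨le_antisymm (le_inf inf_le_left h1) (inf_le_inf_left _ h2), hr, le_antisymm ?_
    (le_inf inf_le_left hcl), le_antisymm ?_ (le_inf inf_le_left hle), fun hres => ?_⟩
  · exact le_inf inf_le_left
      ((inf_le_inf_left L (Subgroup.centralizer_le h1)).trans hle)
  · exact inf_le_inf_left L (Subgroup.centralizer_le inf_le_left)
  rw [Subgroup.commutator_eq_bot_iff_le_centralizer, Subgroup.commutator_eq_bot_iff_le_centralizer]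
  constructor
  · intro hY
    haveI := hspec.1.1
    have hLc : L ≤ Subgroup.centralizer (largestPReduced p H : Set H) := fun x hx =>
      hle ⟨hx, Subgroup.centralizer_le h1 (Subgroup.le_centralizer_iff.1 hY hx)⟩
    refine Subgroup.le_centralizer_iff.1 ?_
    refine CfsgLib.CharP.le_centralizer_of_pPrime hspec.1
      Subgroup.IsSubnormal.top fun x _ hx => hLc (hres (Subgroup.subset_closure hx))
  · intro hY
    exact Subgroup.le_centralizer_iff.1 fun x hx =>
      hcl ⟨hx, Subgroup.le_centralizer_iff.1 hY (Subgroup.mem_top x)⟩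

end Cfsg.Agent.S2825
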