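import Cfsg.Statements.S2826
import Cfsg.Agent.CharP.ResidualCommutator

set_option autoImplicit false
open Cfsg

namespace Cfsg.Agent.S2826

/-- Let H be a finite group of characteristic p, T a Sylow p-subgroup, and V a normal elementary abelian p-subgroup of H containing Ω₁(Z(T)). Then C_H(Ω₁(Z(T))) = C_H([V, O^p(H)] ∩ Ω₁(Z(T))), O^p(H) being generated by the elements of order prime to p. -/
theorem result {H : Type*} [Group H] [Finite H] {p : ℕ} [Fact p.Prime] (hH : Subgroup.centralizer (Cfsg.pCore p H : Set H) ≤ Cfsg.pCore p H) (T : Sylow p H) (V : Subgroup H) [V.Normal] (hV : Cfsg.IsElementaryAbelian p V) (hZV : (Cfsg.omegaOne p ((T : Subgroup H) ⊓ Subgroup.centralizer (((T : Subgroup H) : Subgroup H) : Set H))) ≤ V) : Subgroup.centralizer ((Cfsg.omegaOne p ((T : Subgroup H) ⊓ Subgroup.centralizer (((T : Subgroup H) : Subgroup H) : Set H))) : Set H) = Subgroup.centralizer (((⁅V, Cfsg.pResidual p H⁆ ⊓ (Cfsg.omegaOne p ((T : Subgroup H) ⊓ Subgroup.centralizer (((T : Subgroup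 H) : Subgroup H) : Set H)))) : Subgroup H) : Set H) := by
  refine le_antisymm (Subgroup.centralizer_le inf_le_right) fun g hg => ?_
  refine Subgroup.mem_centralizer_iff.2 fun z hz => ?_
  obtain ⟨z1, z2, z3⟩ := CfsgLib.Kieler.omegaZ_props hz
  obtain ⟨m, c, w, hm, hcV, hcc, hw, hzm, hwP⟩ := CfsgLib.CharP.exists_central_mul hV (P := T)
    (hZV hz) fun s hs => Subgroup.mem_centralizer_iff.1 z2 s hs
  have hVT : V ≤ (T : Subgroup H) := by
    have hVp : IsPGroup p V := fun v => ⟨1, Subtype.ext (by simpa using hV.2 v v.2)⟩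
    exact (CfsgLib.Solvable.le_pCore p ‹V.Normal› hVp).trans (CfsgLib.Fitting.pCore_le_sylow T)
  have hwV : w ∈ V := Subgroup.commutator_le_left _ _ hw
  have hwg : w ∈ Subgroup.centralizer ({g} : Set H) :=
    Subgroup.mem_centralizer_singleton_iff.2 (Subgroup.mem_centralizer_iff.1 hg w
      ⟨hw, CfsgLib.Kieler.mem_omegaZ (hVT hwV)
        (Subgroup.mem_centralizer_iff.2 hwP) (hV.2 w hwV)⟩)
  have hzg : z ∈ Subgroup.centralizer ({g} : Set H) := by
    refine CfsgLib.Kieler.mem_of_pow_mem hm z3 ?_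
    rw [hzm]
    exact mul_mem (inv_mem hwg) (Subgroup.mem_centralizer_singleton_iff.2
      (Subgroup.mem_center_iff.1 hcc g).symm)
  exact Subgroup.mem_centralizer_singleton_iff.1 hzg

end Cfsg.Agent.S2826
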