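import Cfsg.Statements.S2830
import Cfsg.Agent.CharP.PIrreducible


set_option autoImplicit false
open Cfsg

namespace Cfsg.Agent.S2830

/-- Let H act by conjugation on the elementary abelian p-subgroup V of a finite group G (H ≤ N(V)), with H p-irreducible and O^p(H) not centralizing V. Then C_H(V) is p-closed and C_T(V) ≤ O_p(H) for every p-subgroup T of H. If in addition O_p(H) centralizes V, then C_T(V) = T ∩ O_p(H) for every p-subgroup T of H, and V is p-reduced for H: O_p(H/C_H(V)) = 1. -/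
theorem result {G : Type*} [Group G] [Finite G] {p : ℕ} [Fact p.Prime] (V H : Subgroup G) (hV : Cfsg.IsElementaryAbelian p V) (hHV : H ≤ Subgroup.normalizer (V : Set G)) (hH : Cfsg.IsPIrreducible p ↥H) (hnc : ¬ (Cfsg.pResidual p ↥H).map H.subtype ≤ Subgroup.centralizer (V : Set G)) [hn : ((Subgroup.centralizer (V : Set G)).subgroupOf H).Normal] : Cfsg.IsPClosed p ↥(H ⊓ Subgroup.centralizer (V : Set G)) ∧ (∀ T : Subgroup G, T ≤ H → IsPGroup p ↥T → T ⊓ Subgroup.centralizer (V : Set G) ≤ Cfsg.pCoreOf p H) ∧ (Cfsg.pCoreOf p H ≤ Subgroup.centralizer (V : Set G) → (∀ T : Subgroup G, T ≤ H → IsPGroup p ↥T → T ⊓ Subgroup.centralizer (V : Set G) = T ⊓ Cfsg.pCoreOf p H) ∧ Cfsg.pCore p (↥H ⧸ (Subgroup.centralizer (V : Set G)).subgroupOf H) = ⊥) := by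
  classical
  open CfsgLib.CharP in
  set C := (Subgroup.centralizer (V : Set G)).subgroupOf H with hC
  have hnc' : ¬ Cfsg.pResidual p ↥H ≤ C := fun h => hnc fun x hx => by
    obtain ⟨y, hy, rfl⟩ := hx
    exact h hy
  have hCcl : Cfsg.IsPClosed p ↥C := by
    by_contra h
    exact hnc' (hH.2 C hn h)
  have hmem := (CfsgLib.CharP.isPClosed_normal_iff C).mp hCcl
  have hT : ∀ T : Subgroup G, T ≤ H → IsPGroup p ↥T →
      T ⊓ Subgroup.centralizer (V : Set G) ≤ Cfsg.pCoreOf p H := by
    intro T hTH hTp x hx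
    obtain ⟨k, hk⟩ := CfsgLib.CharP.exists_pow_eq_one_of_mem hTp hx.1
    exact ⟨⟨x, hTH hx.1⟩, hmem ⟨x, hTH hx.1⟩ hx.2 k (Subtype.ext (by simpa using hk)), rfl⟩
  refine ⟨?_, hT, fun hle => ⟨fun T hTH hTp => ?_, ?_⟩⟩
  · refine CfsgLib.CharP.isPClosed_iff.mpr fun x k hk => ?_
    let e : ↥C →* ↥(H ⊓ Subgroup.centralizer (V : Set G)) :=
      (H.subtype.comp C.subtype).codRestrict _ fun c => ⟨c.1.2, c.2⟩
    have he : Function.Surjective e := fun y => ⟨⟨⟨y, y.2.1⟩, y.2.2⟩, rfl⟩
    obtain ⟨y, rfl⟩ := he x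
    have hinj : Function.Injective e := fun a b h => Subtype.ext (Subtype.ext (congrArg (fun z : ↥(H ⊓ Subgroup.centralizer (V : Set G)) => (z : G)) h))
    have hy : y ^ p ^ k = 1 := hinj (by rw [map_pow, hk, map_one])
    haveI := CfsgLib.Solvable.pCore_normal p (G := ↥C)
    exact CfsgLib.Solvable.le_pCore p (Subgroup.Normal.map inferInstance e he)
      ((CfsgLib.Solvable.isPGroup_pCore p).map e)
      (Subgroup.mem_map_of_mem e (CfsgLib.CharP.isPClosed_iff.mp hCcl y k hy))
  · exact le_antisymm (le_inf inf_le_left (hT T hTH hTp))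
      (le_inf inf_le_left (inf_le_right.trans hle))
  · haveI := CfsgLib.Solvable.pCore_normal p (G := ↥H ⧸ C)
    set f := QuotientGroup.mk' C
    set K := (Cfsg.pCore p (↥H ⧸ C)).comap f with hK
    haveI : K.Normal := Subgroup.Normal.comap inferInstance f
    have hKp : ∀ x ∈ K, ∃ k, f x ^ p ^ k = 1 := fun x hx =>
      CfsgLib.CharP.exists_pow_eq_one_of_mem (CfsgLib.Solvable.isPGroup_pCore p) hx
    have hKcl : Cfsg.IsPClosed p ↥K := by
      by_contra h
      refine hnc' fun x hx => ?_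
      induction hx using Subgroup.closure_induction with
      | mem x hx =>
        obtain ⟨k, hk⟩ := hKp x (hH.2 K inferInstance h (CfsgLib.PResidual.mem_pResidual p hx))
        exact (QuotientGroup.eq_one_iff x).mp (CfsgLib.CharP.eq_one_of_coprime_of_pow
          (hx.coprime_dvd_left (orderOf_map_dvd f x)) hk)
      | one => exact one_mem _
      | mul a b _ _ ha hb => exact mul_mem ha hb
      | inv a _ ha => exact inv_mem ha
    rw [eq_bot_iff]
    intro q hq
    obtain ⟨x, rfl⟩ := QuotientGroup.mk'_surjective C q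
    obtain ⟨k, hk⟩ := hKp x hq
    rw [Subgroup.mem_bot]
    set e := (orderOf x).factorization p
    have hm : (orderOf x / p ^ e).Coprime p := (Nat.coprime_ordCompl Fact.out (orderOf_pos x).ne').symm
    have hxm : x ^ (orderOf x / p ^ e) ∈ C := by
      have h := (CfsgLib.CharP.isPClosed_normal_iff K).mp hKcl _ (K.pow_mem hq (orderOf x / p ^ e)) e
        (by rw [← pow_mul, Nat.div_mul_cancel (Nat.ordProj_dvd _ p), pow_orderOf_eq_one])
      exact hle (Subgroup.mem_map_of_mem H.subtype h)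
    have h1 : f x ^ (orderOf x / p ^ e) = 1 := by
      rw [← map_pow]
      exact (QuotientGroup.eq_one_iff _).mpr hxm
    exact orderOf_eq_one_iff.mp (Nat.eq_one_of_dvd_coprimes (hm.pow_right k)
      (orderOf_dvd_of_pow_eq_one h1) (orderOf_dvd_of_pow_eq_one hk))

end Cfsg.Agent.S2830
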