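import Cfsg.Statements.S2833
import Mathlib.Tactic.Group


set_option autoImplicit false
open Cfsg

namespace Cfsg.Agent.S2833

open Subgroup
open scoped commutatorElement

theorem comm_le_left {G : Type*} [Group G] {V X : Subgroup G} (h : X ≤ normalizer (V : Set G)) :
    ⁅V, X⁆ ≤ V := by
  rw [commutator_le]
  intro v hv x hx
  have := (mem_normalizer_iff.1 (h hx) v⁻¹).1 (inv_mem hv)
  rw [commutatorElement_def, mul_assoc v x, mul_assoc v]
  exact mul_mem hv this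

theorem conj_comm_mem {G : Type*} [Group G] {V X : Subgroup G} {v : G} (hv : v ∈ V) :
    v ∈ normalizer ((⁅V, X⁆ : Subgroup G) : Set G) := by
  have key : ∀ v ∈ V, ∀ u ∈ ⁅V, X⁆, v * u * v⁻¹ ∈ ⁅V, X⁆ := by
    intro v hv u hu
    have hle : (⁅V, X⁆).map (MulAut.conj v).toMonoidHom ≤ ⁅V, X⁆ := by
      rw [Subgroup.map_le_iff_le_comap, commutator_le]
      intro w hw x hx
      show v * ⁅w, x⁆ * v⁻¹ ∈ ⁅V, X⁆
      have h1 : v * ⁅w, x⁆ * v⁻¹ = ⁅v * w, x⁆ * ⁅v, x⁆⁻¹ := by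
        simp only [commutatorElement_def]; group
      rw [h1]
      exact mul_mem (commutator_mem_commutator (mul_mem hv hw) hx)
        (inv_mem (commutator_mem_commutator hv hx))
    exact hle (mem_map_of_mem _ hu)
  rw [mem_normalizer_iff]
  refine fun u => ⟨key v hv u, fun hu => ?_⟩
  simpa [mul_assoc] using key v⁻¹ (inv_mem hv) _ hu

theorem map_conj_comm {G : Type*} [Group G] {V X : Subgroup G} {g : G}
    (hg : g ∈ normalizer (V : Set G)) :
    (⁅V, X⁆).map (MulAut.conj g).toMonoidHom = ⁅V, X.map (MulAut.conj g).toMonoidHom⁆ := by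
  rw [map_commutator]
  congr 1
  ext v
  rw [mem_map_equiv, MulAut.conj_symm_apply]
  simpa using (mem_normalizer_iff.1 (inv_mem hg) v).symm


/-- Let V be a subgroup of a finite group G normalized by the subgroup L, let X ≤ L and g ∈ L with [V, X, X] = 1 and L generated by X and gXg⁻¹. Put W = [V, L]. Then W = [V, X]·[V, gXg⁻¹], C_W(X) = [V, X], and C_W(L) = [V, X] ∩ [V, gXg⁻¹]. -/
theorem result {G : Type*} [Group G] [Finite G] (V L : Subgroup G) (hLV : L ≤ Subgroup.normalizer (V : Set G)) (X : Subgroup G) (hX : X ≤ L) (g : G) (hg : g ∈ L) (hq : ⁅⁅V, X⁆, X⁆ = ⊥) (hgen : X ⊔ X.map (MulAut.conj g).toMonoidHom = L) (W : Subgroup G) (hW : W = ⁅V, L⁆) : ⁅V, X⁆ ⊔ ⁅V, X.map (MulAut.conj g).toMonoidHom⁆ = W ∧ W ⊓ Subgroup.centralizer (X : Set G) = ⁅V, X⁆ ∧ W ⊓ Subgroup.centralizer (L : Set G) = ⁅V, X⁆ ⊓ ⁅V, X.map (MulAut.conj g).toMonoidHom⁆ := by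
  subst hW
  set Y := X.map (MulAut.conj g).toMonoidHom with hY
  have hYL : Y ≤ L := hgen ▸ le_sup_right
  have hgV := hLV hg
  have hXV : ⁅V, X⁆ ≤ V := comm_le_left (hX.trans hLV)
  have hYV : ⁅V, Y⁆ ≤ V := comm_le_left (hYL.trans hLV)
  have hqY : ⁅⁅V, Y⁆, Y⁆ = ⊥ := by
    rw [hY, ← map_conj_comm hgV, ← Subgroup.map_commutator, hq, Subgroup.map_bot]
  have hle : ⁅V, X⁆ ⊔ ⁅V, Y⁆ ≤ ⁅V, L⁆ :=
    sup_le (Subgroup.commutator_mono le_rfl hX) (Subgroup.commutator_mono le_rfl hYL)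
  -- first claim
  have h1 : ⁅V, X⁆ ⊔ ⁅V, Y⁆ = ⁅V, L⁆ := by
    refine le_antisymm hle ?_
    set U := ⁅V, X⁆ ⊔ ⁅V, Y⁆
    have hUV : U ≤ V := sup_le hXV hYV
    have hnorm : ∀ Z : Subgroup G, ⁅V, Z⁆ ≤ U → ∀ x ∈ Z, ∀ u ∈ U, x * u * x⁻¹ ∈ U := by
      intro Z hZ x hx u hu
      have := inv_mem (hZ (commutator_mem_commutator (hUV hu) hx))
      have h2 : x * u * x⁻¹ = ⁅u, x⁆⁻¹ * u := by simp only [commutatorElement_def]; group
      rw [h2]
      exact mul_mem this hu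
    have hnX : X ⊔ Y ≤ normalizer (U : Set G) := by
      refine sup_le (fun x hx => ?_) (fun x hx => ?_) <;> rw [mem_normalizer_iff]
      · refine fun u => ⟨hnorm X le_sup_left x hx u, fun hu => ?_⟩
        simpa [mul_assoc] using hnorm X le_sup_left x⁻¹ (inv_mem hx) _ hu
      · refine fun u => ⟨hnorm Y le_sup_right x hx u, fun hu => ?_⟩
        simpa [mul_assoc] using hnorm Y le_sup_right x⁻¹ (inv_mem hx) _ hu
    let S : Subgroup G :=
      { carrier := {l | l ∈ normalizer (U : Set G) ∧ ∀ v ∈ V, ⁅v, l⁆ ∈ U}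
        one_mem' := ⟨one_mem _, fun v _ => by simp [one_mem]⟩
        mul_mem' := fun {a b} ha hb => ⟨mul_mem ha.1 hb.1, fun v hv => by
          have h2 : ⁅v, a * b⁆ = ⁅v, a⁆ * (a * ⁅v, b⁆ * a⁻¹) := by
            simp only [commutatorElement_def]; group
          rw [h2]
          exact mul_mem (ha.2 v hv) ((mem_normalizer_iff.1 ha.1 _).1 (hb.2 v hv))⟩
        inv_mem' := fun {a} ha => ⟨inv_mem ha.1, fun v hv => by
          have h2 : ⁅v, a⁻¹⁆ = a⁻¹ * ⁅v, a⁆⁻¹ * a⁻¹⁻¹ := by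
            simp only [commutatorElement_def]; group
          rw [h2]
          exact (mem_normalizer_iff.1 (inv_mem ha.1) _).1 (inv_mem (ha.2 v hv))⟩ }
    have hS : L ≤ S := by
      rw [← hgen]
      refine sup_le (fun x hx => ⟨hnX (mem_sup_left hx), fun v hv => ?_⟩)
        (fun x hx => ⟨hnX (mem_sup_right hx), fun v hv => ?_⟩)
      · exact mem_sup_left (commutator_mem_commutator hv hx)
      · exact mem_sup_right (commutator_mem_commutator hv hx)
    rw [commutator_le]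
    exact fun v hv l hl => (hS hl).2 v hv
  have hcX : ⁅V, X⁆ ≤ centralizer (X : Set G) := commutator_eq_bot_iff_le_centralizer.1 hq
  have hcY : ⁅V, Y⁆ ≤ centralizer (Y : Set G) := commutator_eq_bot_iff_le_centralizer.1 hqY
  have hcL : ∀ w : G, w ∈ centralizer (X : Set G) → w ∈ centralizer (Y : Set G) →
      w ∈ centralizer (L : Set G) := by
    intro w hw1 hw2
    rw [← hgen]
    refine mem_centralizer_iff.2 fun l hl => ?_
    refine (mem_centralizer_singleton_iff.1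
      ((sup_le (fun x hx => ?_) (fun x hx => ?_) : X ⊔ Y ≤ centralizer ({w} : Set G)) hl))
    · exact mem_centralizer_singleton_iff.2 (mem_centralizer_iff.1 hw1 x hx)
    · exact mem_centralizer_singleton_iff.2 (mem_centralizer_iff.1 hw2 x hx)
  have hmove : ∀ c ∈ ⁅V, X⁆, g * c * g⁻¹ ∈ ⁅V, Y⁆ := fun c hc => by
    rw [hY, ← map_conj_comm hgV]; exact mem_map_of_mem (MulAut.conj g).toMonoidHom hc
  have hback : ∀ b ∈ ⁅V, Y⁆, b ∈ centralizer (L : Set G) → b ∈ ⁅V, X⁆ := by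
    intro b hb hbL
    rw [hY, ← map_conj_comm hgV] at hb
    obtain ⟨c, hc, hcb⟩ := hb
    have hcb' : g * c * g⁻¹ = b := hcb
    have h2 : g * b = b * g := mem_centralizer_iff.1 hbL g hg
    have : c = b := by
      calc c = g⁻¹ * (g * c * g⁻¹) * g := by group
        _ = g⁻¹ * (b * g) := by rw [hcb', mul_assoc]
        _ = b := by rw [← h2, inv_mul_cancel_left]
    exact this ▸ hc
  have h2 : ⁅V, L⁆ ⊓ centralizer (X : Set G) = ⁅V, X⁆ := by
    refine le_antisymm ?_ (le_inf (h1 ▸ le_sup_left) hcX)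
    rintro w ⟨hw, hwX⟩
    have hn : ⁅V, X⁆ ≤ normalizer ((⁅V, Y⁆ : Subgroup G) : Set G) := fun a ha => conj_comm_mem (hXV ha)
    replace hw : w ∈ ((⁅V, X⁆ ⊔ ⁅V, Y⁆ : Subgroup G) : Set G) := h1.symm ▸ hw
    rw [coe_mul_of_left_le_normalizer_right _ _ hn] at hw
    obtain ⟨a, ha, b, hb, rfl⟩ := hw
    have hbX : b ∈ centralizer (X : Set G) := by
      have := mul_mem (inv_mem (hcX ha)) hwX
      rwa [inv_mul_cancel_left] at this
    exact mul_mem ha (hback b hb (hcL b hbX (hcY hb)))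
  refine ⟨h1, h2, le_antisymm ?_ ?_⟩
  · rintro w ⟨hw, hwL⟩
    have hwX : w ∈ ⁅V, X⁆ := h2 ▸ ⟨hw, centralizer_le (SetLike.coe_subset_coe.2 hX) hwL⟩
    refine ⟨hwX, ?_⟩
    have := hmove w hwX
    rwa [mem_centralizer_iff.1 hwL g hg, mul_inv_cancel_right] at this
  · exact fun w hw => ⟨hle (mem_sup_left hw.1), hcL w (hcX hw.1) (hcY hw.2)⟩

end Cfsg.Agent.S2833
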