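import Cfsg.Statements.S2836
import Cfsg.Agent.CharP.YMinimal

set_option autoImplicit false
open Cfsg

namespace Cfsg.Agent.S2836

/-- Let L be a finite group, L₀ a maximal subgroup, T a Sylow p-subgroup of L₀, Y ≤ T, and suppose L is Y-minimal. Let D be the intersection of the conjugates of L₀ (the core of L₀). Then D contains O_p(L) and D/O_p(L) is the Frattini subgroup of L/O_p(L), so D is p-closed; and every normal subgroup N of L contained in L₀ is p-closed with N/O_p(N) a nilpotent group of order prime to p. -/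
theorem result {L : Type*} [Group L] [Finite L] {p : ℕ} [Fact p.Prime] (L₀ : Subgroup L) (hL₀ : IsCoatom L₀) (T : Sylow p ↥L₀) (Y : Subgroup L) (hYT : Y ≤ (T : Subgroup ↥L₀).map L₀.subtype) (hmin : Cfsg.IsMinimalOver Y) : (Cfsg.pCore p L ≤ L₀.normalCore ∧ (L₀.normalCore).map (QuotientGroup.mk' (Cfsg.pCore p L)) = frattini (L ⧸ Cfsg.pCore p L) ∧ Cfsg.IsPClosed p ↥(L₀.normalCore)) ∧ ∀ (N : Subgroup L) [N.Normal], N ≤ L₀ → Cfsg.IsPClosed p ↥N ∧ Group.IsNilpotent (↥N ⧸ Cfsg.pCore p ↥N) ∧ (Nat.card (↥N ⧸ Cfsg.pCore p ↥N)).Coprime p := by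
  have hP : CfsgLib.YMinimal.IsSylowIn p ((T : Subgroup L₀).map L₀.subtype) L₀ := by
    refine ⟨Subgroup.map_subtype_le _, T.isPGroup'.map _, ?_⟩
    rw [Subgroup.relIndex, Subgroup.subgroupOf,
      Subgroup.comap_map_eq_self_of_injective L₀.subtype_injective]
    exact T.not_dvd_index
  have hY : Y ≤ L₀ := hYT.trans hP.1
  haveI := CfsgLib.Solvable.pCore_normal p (G := L)
  refine ⟨⟨?_, CfsgLib.YMinimal.normalCore_frattini hL₀ hmin hP hYT,
    (CfsgLib.YMinimal.normal_quotient hL₀ hmin hP hYT L₀.normalCore L₀.normalCore_le).1⟩,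
    fun N _ hN => CfsgLib.YMinimal.normal_quotient hL₀ hmin hP hYT N hN⟩
  exact Subgroup.normal_le_normalCore.2
    (CfsgLib.YMinimal.pCore_le hL₀ hY hmin (hP.2.1.to_le hYT))

end Cfsg.Agent.S2836
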