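import Cfsg.Statements.S2837
import Cfsg.Agent.CharP.YMinimal

set_option autoImplicit false
open Cfsg

namespace Cfsg.Agent.S2837

/-- Let L be a finite group of characteristic p, L₀ a maximal subgroup, Y an elementary abelian p-subgroup of L₀ with L Y-minimal and O_p(L) ≤ N_L(Y). Put A = the normal closure of O_p(L) ∩ Y in L. Then for every g ∈ L outside L₀: Φ(A) = A' = [A ∩ Y, A] = [A ∩ Y, A ∩ gYg⁻¹] ≤ C_Y(L), and Y ∩ gYg⁻¹ = (A ∩ Y) ∩ (A ∩ gYg⁻¹) = C_Y(L) = C_A(L). -/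
theorem result {L : Type*} [Group L] [Finite L] {p : ℕ} [Fact p.Prime] (hchar : Subgroup.centralizer (Cfsg.pCore p L : Set L) ≤ Cfsg.pCore p L) (L₀ : Subgroup L) (hL₀ : IsCoatom L₀) (Y : Subgroup L) (hYL₀ : Y ≤ L₀) (hYel : Cfsg.IsElementaryAbelian p Y) (hmin : Cfsg.IsMinimalOver Y) (hOY : Cfsg.pCore p L ≤ Subgroup.normalizer (Y : Set L)) (A : Subgroup L) (hA : A = Subgroup.normalClosure (((Cfsg.pCore p L ⊓ Y : Subgroup L)) : Set L)) (g : L) (hg : g ∉ L₀) : (frattini ↥A).map A.subtype = ⁅A, A⁆ ∧ ⁅A, A⁆ = ⁅A ⊓ Y, A⁆ ∧ ⁅A ⊓ Y, A⁆ = ⁅A ⊓ Y, A ⊓ Y.map (MulAut.conj g).toMonoidHom⁆ ∧ ⁅A ⊓ Y, A⁆ ≤ Y ⊓ Subgroup.center L ∧ Y ⊓ Y.map (MulAut.conj g).toMonoidHom = Y ⊓ Subgroup.center L ∧ (A ⊓ Y) ⊓ (A ⊓ Y.map (MulAut.conj g).toMonoidHom) = Y ⊓ Subgroup.center L ∧ A ⊓ Subgroup.center L = Y ⊓ Subgroup.center L := by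
  exact CfsgLib.YMinimal.closure_facts hL₀ hYL₀ hYel hmin hOY A hA hg

end Cfsg.Agent.S2837
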