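import Cfsg.Statements.S2846
import Cfsg.Agent.CharP.FrakM


set_option autoImplicit false
open Cfsg

namespace Cfsg.Agent.S2846

/-- Let Q be a nontrivial large p-subgroup of the finite group H, S a Sylow p-subgroup containing Q, and L a subgroup containing S with O_p(L) ≠ 1 and C_H(O_p(L)) ≤ O_p(L). Then there are a subgroup M containing S having the basic property (M ∈ 𝔐_H, writing Y_X for the largest p-reduced normal subgroup of X and 𝓛_H for the set of subgroups X with O_p(X) ≠ 1 and C_H(O_p(X)) ≤ O_p(X): M ∈ 𝓛_H, M·C_H(Y_M) is the only maximal member of 𝓛_H containing M and its largest p-reduced normal subgroup is again Y_M, C_M(Y_M) is p-closed, and the image of C_M(Y_M) in M/O_p(M) lies in the Frattini subgroup of M/O_p(M)) and a subgroup L* with S ≤ L* ≤ M, O_p(L*) ≠ 1, C_H(O_p(L*)) ≤ O_p(L*), such that L·C_H(Y_L) = L*·C_H(Y_L), the weak closures of Q in L and in L* agree and lie in that of M, and Y_L = Y_{L*} ≤ Y_M. If moreover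 Q is not normal in L, then Q is normal in neither L* nor M. -/
theorem result {H : Type*} [Group H] [Finite H] {p : ℕ} [Fact p.Prime] (Q : Subgroup H) (hQp : IsPGroup p ↥Q) (hQ1 : Q ≠ ⊥) (hLg : Cfsg.IsLarge Q) (S : Sylow p H) (hQS : Q ≤ (S : Subgroup H)) (L : Subgroup H) (hSL : (S : Subgroup H) ≤ L) (hL : L ∈ Cfsg.charPSubgroups p H) : ∃ M Ls : Subgroup H, (S : Subgroup H) ≤ M ∧ Cfsg.IsInFrakM p M ∧ (S : Subgroup H) ≤ Ls ∧ Ls ≤ M ∧ Ls ∈ Cfsg.charPSubgroups p H ∧ L ⊔ Subgroup.centralizer (((Cfsg.largestPReducedOf p L) : Subgroup H) : Set H) = Ls ⊔ Subgroup.centralizer (((Cfsg.largestPReducedOf p L) : Subgroup H) : Set H) ∧ Cfsg.weakClosure Q L = Cfsg.weakClosure Q Ls ∧ Cfsg.weakClosure Q Ls ≤ Cfsg.weakClosure Q M ∧ (Cfsg.largestPReducedOf p L) = (Cfsg.largestPReducedOf p Ls) ∧ (Cfsg.largestPReducedOf p Ls) ≤ (Cfsg.largestPReducedOf p M) ∧ (¬ L ≤ Subgroup.normalizer ((Q : Subgroup H) : Set H) → ¬ Ls ≤ Subgroup.normalizer ((Q : Subgroup H)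 : Set H) ∧ ¬ M ≤ Subgroup.normalizer ((Q : Subgroup H) : Set H)) := by
  open CfsgLib.FrakM CfsgLib.CharP in
  obtain ⟨M, Ls, h1, h2, h3, h4, h5, h6, h7, h8⟩ :=
    exists_frakM S (localCharP_of_large S hLg hQS) hSL hL
  have hY := largestPReducedOf_ne_bot S hSL hL
  have hYS := largestPReducedOf_le_sylow S (L := L) (p := p) hSL
  have hw : Cfsg.weakClosure Q L = Cfsg.weakClosure Q Ls := by
    rw [← weakClosure_sup_centralizer S hLg hQS hSL (le_normalizer_largestPReducedOf L) hYS hY, h8]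
    refine weakClosure_sup_centralizer S hLg hQS h3 ?_ hYS hY
    rw [h6]
    exact le_normalizer_largestPReducedOf Ls
  refine ⟨M, Ls, h1, h2, h3, h4, h5, h8, hw, weakClosure_mono Q h4, h6, h6 ▸ h7, fun hnot => ?_⟩
  have hLs : ¬ Ls ≤ Subgroup.normalizer ((Q : Subgroup H) : Set H) := by
    intro hle
    refine hnot fun l hl => ?_
    have hwc := large_weaklyClosed S hLg hQS
    have hQle : Cfsg.weakClosure Q Ls ≤ Q := iSup_le fun g => by
      obtain ⟨x, hx, he⟩ := exists_conj_of_le S hwc h3 g.2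
      rw [← he]
      rintro _ ⟨q, hq, rfl⟩
      exact (Subgroup.mem_normalizer_iff.1 (hle hx) q).1 hq
    have key : ∀ l ∈ L, ∀ q ∈ Q, l * q * l⁻¹ ∈ Q := by
      intro l hl q hq
      refine hQle (hw ▸ ?_)
      refine le_iSup (fun g : {g : H // Q.map (MulAut.conj g).toMonoidHom ≤ L} =>
        Q.map (MulAut.conj (g : H)).toMonoidHom) ⟨l, ?_⟩ ⟨q, hq, rfl⟩
      rintro _ ⟨q', hq', rfl⟩
      exact mul_mem (mul_mem hl (hSL (hQS hq'))) (inv_mem hl)
    exact Subgroup.mem_normalizer_iff.2 fun q => ⟨key l hl q, fun hq => by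
      simpa [mul_assoc] using key l⁻¹ (inv_mem hl) _ hq⟩
  exact ⟨hLs, fun h => hLs (h4.trans h)⟩


end Cfsg.Agent.S2846
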