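import Cfsg.Statements.S2848
import Cfsg.Agent.CharP.FrakM


set_option autoImplicit false
open Cfsg

namespace Cfsg.Agent.S2848

/-- Standing hypotheses: G a finite group, S a Sylow p-subgroup, Q a nontrivial large p-subgroup of G contained in S (C_G(Q) ≤ Q and N_G(U) ≤ N_G(Q) for all nontrivial U ≤ C_G(Q)), and M a subgroup containing S with the basic property (M ∈ 𝔐_G(S)); Y_M denotes the largest p-reduced normal subgroup of M and M† = M·C_G(Y_M). Then O_p(M) is a weakly closed subgroup of M† (for p): it is the only M†-conjugate of itself inside some Sylow p-subgroup of M† containing it. -/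
theorem result {G : Type*} [Group G] [Finite G] {p : ℕ} [Fact p.Prime] (S : Sylow p G) (Q : Subgroup G) (hQp : IsPGroup p ↥Q) (hQ1 : Q ≠ ⊥) (hQS : Q ≤ (S : Subgroup G)) (hQ : Cfsg.IsLarge Q) (M : Subgroup G) (hSM : (S : Subgroup G) ≤ M) (hM : Cfsg.IsInFrakM p M) : Cfsg.IsWeaklyClosedSubgroup p (((Cfsg.pCoreOf p M)).subgroupOf (M ⊔ Subgroup.centralizer (((Cfsg.largestPReducedOf p M) : Subgroup G) : Set G))) := by
  open CfsgLib.FrakM CfsgLib.CharP Subgroup in
  set Y := Cfsg.largestPReducedOf p M with hY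
  set C := centralizer (Y : Set G) with hC
  set O := Cfsg.pCoreOf p M with hO
  have hST : (S : Subgroup G) ≤ M ⊔ C := hSM.trans le_sup_left
  have hOS : O ≤ (S : Subgroup G) := pCoreOf_le_sylow S hSM
  -- `O_p(M)` is the Sylow subgroup of `C(Y)` inside `S`
  have hSC : (S : Subgroup G) ⊓ C ≤ O := by
    obtain ⟨-, -, -, -, hcl, -⟩ := hM
    set D := M ⊓ C with hD
    have hDn : M ≤ normalizer (D : Set G) := fun m hm => mem_normalizer_iff.2 fun x => by
      rw [hD, Subgroup.mem_inf, Subgroup.mem_inf]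
      exact and_congr (conj_mem_iff hm).symm (mem_normalizer_iff.1
        (normalizer_le_normalizer_centralizer Y (le_normalizer_largestPReducedOf M hm)) x)
    obtain ⟨P⟩ := (inferInstance : Nonempty (Sylow p D))
    haveI : (P : Subgroup D).Normal := hcl P
    have hPO : Cfsg.pCoreOf p D ≤ O := le_pCoreOf ((CfsgLib.LocalB.opIn_le D).trans inf_le_left)
      (isPGroup_pCoreOf D) (hDn.trans (normalizer_le_normalizer_pCoreOf D))
    intro x hx
    have hxD : x ∈ D := ⟨hSM hx.1, hx.2⟩
    have hp' : IsPGroup p (((S : Subgroup G) ⊓ C).subgroupOf D) :=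
      (S.2.to_le inf_le_left).of_equiv (subgroupOfEquivOfLe (le_inf (inf_le_left.trans hSM) inf_le_right)).symm
    obtain ⟨P', hP'⟩ := hp'.exists_le_sylow
    haveI := Sylow.unique_of_normal P (hcl P)
    have hPle : (P : Subgroup D) ≤ Cfsg.pCore p D := CfsgLib.Solvable.le_pCore p (hcl P) P.2
    exact hPO ⟨⟨x, hxD⟩, hPle (Subsingleton.elim P P' ▸ hP' (mem_subgroupOf.2 hx)), rfl⟩
  have hOC : O ≤ C := pCoreOf_le_centralizer M
  have hMN : M ⊔ C ≤ normalizer (C : Set G) := sup_le
    ((le_normalizer_largestPReducedOf M).trans (normalizer_le_normalizer_centralizer Y)) le_normalizer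
  refine ⟨S.subtype hST, fun x hx => hOS hx, fun g hg => ?_⟩
  refine eq_of_le_of_card_ge ?_ (le_of_eq (card_map_of_injective (MulAut.conj g).injective).symm)
  rintro _ ⟨x, hx, rfl⟩
  exact hSC ⟨hg ⟨x, hx, rfl⟩, (mem_normalizer_iff.1 (hMN g.2) _).1 (hOC hx)⟩


end Cfsg.Agent.S2848
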