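import Cfsg.Statements.S2849
import Cfsg.Agent.CharP.FrakM


set_option autoImplicit false
open Cfsg

namespace Cfsg.Agent.S2849

/-- Standing hypotheses: G a finite group, S a Sylow p-subgroup, Q a nontrivial large p-subgroup of G contained in S (C_G(Q) ≤ Q and N_G(U) ≤ N_G(Q) for all nontrivial U ≤ C_G(Q)), and M a subgroup containing S with the basic property (M ∈ 𝔐_G(S)); Y_M denotes the largest p-reduced normal subgroup of M and M† = M·C_G(Y_M). Suppose Y_M is asymmetric in G. Then for every subgroup R with Y_M ≤ R ≤ M†, the normal closure of Y_M in N_G(R) is elementary abelian. -/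
theorem result {G : Type*} [Group G] [Finite G] {p : ℕ} [Fact p.Prime] (S : Sylow p G) (Q : Subgroup G) (hQp : IsPGroup p ↥Q) (hQ1 : Q ≠ ⊥) (hQS : Q ≤ (S : Subgroup G)) (hQ : Cfsg.IsLarge Q) (M : Subgroup G) (hSM : (S : Subgroup G) ≤ M) (hM : Cfsg.IsInFrakM p M) (hasym : ¬ Cfsg.IsSymmetricIn (Cfsg.largestPReducedOf p M)) (R : Subgroup G) (hYR : (Cfsg.largestPReducedOf p M) ≤ R) (hRM : R ≤ (M ⊔ Subgroup.centralizer (((Cfsg.largestPReducedOf p M) : Subgroup G) : Set G))) : Cfsg.IsElementaryAbelian p ((Subgroup.normalClosure ((((Cfsg.largestPReducedOf p M)).subgroupOf (Subgroup.normalizer ((R : Subgroup G) : Set G)) : Subgroup ↥(Subgroup.normalizer ((R : Subgroup G) : Set G))) : Set ↥(Subgroup.normalizer ((R : Subgroup G) : Set G)))).map (Subgroup.normalizer ((R : Subgroup G) : Set G)).subtype) := by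
  open CfsgLib.FrakM CfsgLib.CharP Subgroup in
  set Y := Cfsg.largestPReducedOf p M with hY
  set N := normalizer ((R : Subgroup G) : Set G) with hN
  have hYn : R ≤ normalizer (Y : Set G) :=
    hRM.trans (sup_le (le_normalizer_largestPReducedOf M) (CfsgLib.FrakM.centralizer_le_normalizer Y))
  have hYN : Y ≤ N := hYR.trans le_normalizer
  have hpow : ∀ y ∈ Y, y ^ p = 1 := by
    rintro _ ⟨a, ha, rfl⟩
    exact congrArg Subtype.val ((largestPReduced_spec (L := M) (p := p)).1.2.1.2 a ha)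
  -- any two conjugates of `Y` under `N(R)` commute
  have key : ∀ n ∈ N, ∀ a ∈ Y, ∀ b ∈ Y, a * (n * b * n⁻¹) = n * b * n⁻¹ * a := by
    intro n hn
    set Yn := Y.map (MulAut.conj n).toMonoidHom with hYn'
    have hYnR : Yn ≤ R := by
      rintro _ ⟨b, hb, rfl⟩
      exact (mem_normalizer_iff.1 hn b).1 (hYR hb)
    have hRYn : R ≤ normalizer (Yn : Set G) := by
      intro r hr
      have hr' : n⁻¹ * r * n ∈ R := by
        simpa using (mem_normalizer_iff.1 (inv_mem hn) r).1 hr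
      refine mem_normalizer_iff.2 fun x => ⟨?_, ?_⟩
      · rintro ⟨b, hb, rfl⟩
        exact ⟨_, (mem_normalizer_iff.1 (hYn hr') b).1 hb, by simp [mul_assoc]⟩
      · rintro ⟨b, hb, hbe⟩
        refine ⟨(n⁻¹ * r * n)⁻¹ * b * (n⁻¹ * r * n), ?_, ?_⟩
        · have := (mem_normalizer_iff.1 (inv_mem (hYn hr')) b).1 hb
          rwa [inv_inv] at this
        · have he : n * b * n⁻¹ = r * x * r⁻¹ := hbe
          show n * ((n⁻¹ * r * n)⁻¹ * b * (n⁻¹ * r * n)) * n⁻¹ = x
          calc _ = r⁻¹ * (n * b * n⁻¹) * r := by simp [mul_assoc]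
            _ = x := by rw [he]; simp [mul_assoc]
    have hbot : ⁅Y, Yn⁆ = ⊥ := by
      by_contra hne
      refine hasym ⟨n, hne, le_inf ?_ ?_⟩
      · exact le_normalizer_iff_commutator_le_left.1 (hYnR.trans hYn)
      · rw [commutator_comm]
        exact le_normalizer_iff_commutator_le_left.1 (hYR.trans hRYn)
    intro a ha b hb
    exact commutatorElement_eq_one_iff_mul_comm.1
      (mem_bot.1 (hbot ▸ commutator_mem_commutator ha (show n * b * n⁻¹ ∈ Yn from ⟨b, hb, rfl⟩)))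
  set W := (normalClosure ((Y.subgroupOf N : Subgroup N) : Set N)) with hW
  have hcomm : IsMulCommutative W := by
    rw [hW, normalClosure]
    refine Subgroup.isMulCommutative_closure ?_
    intro x hx y hy
    obtain ⟨a, ha, hax⟩ := Group.mem_conjugatesOfSet_iff.1 hx
    obtain ⟨b, hb, hby⟩ := Group.mem_conjugatesOfSet_iff.1 hy
    obtain ⟨m, rfl⟩ := isConj_iff.1 hax
    obtain ⟨n, rfl⟩ := isConj_iff.1 hby
    refine Subtype.ext ?_
    have h := key ((m : G)⁻¹ * n) (mul_mem (inv_mem m.2) n.2) _ ha _ hb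
    show (m : G) * a * (m : G)⁻¹ * ((n : G) * b * (n : G)⁻¹) =
      (n : G) * b * (n : G)⁻¹ * ((m : G) * a * (m : G)⁻¹)
    calc (m : G) * a * (m : G)⁻¹ * ((n : G) * b * (n : G)⁻¹)
        = (m : G) * ((a : G) * ((m : G)⁻¹ * n * b * ((m : G)⁻¹ * n)⁻¹)) * (m : G)⁻¹ := by
          simp [mul_assoc]
      _ = (m : G) * ((m : G)⁻¹ * n * b * ((m : G)⁻¹ * n)⁻¹ * (a : G)) * (m : G)⁻¹ :=
          congrArg (fun t => (m : G) * t * (m : G)⁻¹) h
      _ = _ := by simp [mul_assoc]
  have hexp : ∀ w ∈ W, w ^ p = 1 := by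
    intro w hw
    induction hw using closure_induction with
    | mem x hx =>
      obtain ⟨a, ha, hax⟩ := Group.mem_conjugatesOfSet_iff.1 hx
      obtain ⟨m, rfl⟩ := isConj_iff.1 hax
      rw [conj_pow, show a ^ p = 1 from Subtype.ext (hpow _ ha), mul_one, mul_inv_cancel]
    | one => exact one_pow _
    | mul a b ha hb hpa hpb =>
      rw [(show Commute a b from setLike_mul_comm (s := W) ha hb).mul_pow, hpa, hpb, one_mul]
    | inv a _ hpa => rw [inv_pow, hpa, inv_one]
  refine ⟨⟨⟨?_⟩⟩, ?_⟩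
  · rintro ⟨_, a, ha, rfl⟩ ⟨_, b, hb, rfl⟩
    exact Subtype.ext (congrArg (fun z : N => (z : G)) (setLike_mul_comm (s := W) ha hb))
  · rintro _ ⟨a, ha, rfl⟩
    exact congrArg Subtype.val (hexp a ha)


end Cfsg.Agent.S2849
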