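import Cfsg.Statements.S2854
import Cfsg.Agent.CharP.FrakH


set_option autoImplicit false
open Cfsg

namespace Cfsg.Agent.S2854

/-- Standing hypotheses: G a finite group, S a Sylow p-subgroup, Q a nontrivial large p-subgroup of G contained in S, M a subgroup containing S with the basic property (M ∈ 𝔐_G(S)); Y_M the largest p-reduced normal subgroup of M and M† = M·C_G(Y_M). Suppose Y_M is asymmetric in G, H ∈ ℌ_G(O_p(M)), and H ≤ N_G(gQg⁻¹) for some g ∈ G. Then gQg⁻¹ ≤ O_p(H·gQg⁻¹) ≤ N_G(O_p(M)) ≤ N_G(Y_M) = M†; H is normal in H·gQg⁻¹ with O^p(H) = O^p(H·gQg⁻¹); and H·gQg⁻¹ is p-irreducible. -/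
theorem result {G : Type*} [Group G] [Finite G] {p : ℕ} [Fact p.Prime] (S : Sylow p G) (Q : Subgroup G) (hQp : IsPGroup p ↥Q) (hQ1 : Q ≠ ⊥) (hQS : Q ≤ (S : Subgroup G)) (hQ : Cfsg.IsLarge Q) (M : Subgroup G) (hSM : (S : Subgroup G) ≤ M) (hM : Cfsg.IsInFrakM p M) (hasym : ¬ Cfsg.IsSymmetricIn (Cfsg.largestPReducedOf p M)) (H : Subgroup G) (hH : Cfsg.IsInFrakH p M H) (g : G) (hHQ : H ≤ Subgroup.normalizer ((((Q : Subgroup G).map (MulAut.conj (g : G)).toMonoidHom) : Subgroup G) : Set G)) : ((Q : Subgroup G).map (MulAut.conj (g : G)).toMonoidHom) ≤ Cfsg.pCoreOf p (H ⊔ ((Q : Subgroup G).map (MulAut.conj (g : G)).toMonoidHom)) ∧ Cfsg.pCoreOf p (H ⊔ ((Q : Subgroup G).map (MulAut.conj (g : G)).toMonoidHom)) ≤ Subgroup.normalizer (((Cfsg.pCoreOf p M) : Subgroup G) : Set G) ∧ Subgroup.normalizer (((Cfsg.pCoreOf p M) : Subgroup G) : Set G) ≤ Subgroup.normalizer (((Cfsg.largestPReducedOf p M) : Subgroup G)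 : Set G) ∧ Subgroup.normalizer (((Cfsg.largestPReducedOf p M) : Subgroup G) : Set G) = (M ⊔ Subgroup.centralizer (((Cfsg.largestPReducedOf p M) : Subgroup G) : Set G)) ∧ (H.subgroupOf (H ⊔ ((Q : Subgroup G).map (MulAut.conj (g : G)).toMonoidHom))).Normal ∧ (Cfsg.pResidual p ↥H).map H.subtype = (Cfsg.pResidual p ↥(H ⊔ ((Q : Subgroup G).map (MulAut.conj (g : G)).toMonoidHom))).map (H ⊔ ((Q : Subgroup G).map (MulAut.conj (g : G)).toMonoidHom)).subtype ∧ Cfsg.IsPIrreducible p ↥(H ⊔ ((Q : Subgroup G).map (MulAut.conj (g : G)).toMonoidHom)) := by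
  open CfsgLib.FrakM in
  have h : Ctx S M := ⟨localCharP_of_large S hQ hQS, hSM, hM⟩
  obtain ⟨h1, h2, h3, h4, h5⟩ := h.frakH_extend hasym hH (hQp.map _) hHQ
  exact ⟨h1, h2, h.normalizer_core_le.trans h.dagger_le_normalizer, h.normalizer_y, h3, h4, h5⟩


end Cfsg.Agent.S2854
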