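import Cfsg.Statements.S2855
import Cfsg.Agent.CharP.IrreducibleFamily


set_option autoImplicit false
open Cfsg

namespace Cfsg.Agent.S2855

/-- Let H be a finite group, p a prime, and 𝒦 a nonempty set of subgroups of H permuted transitively by conjugation, with R the subgroup generated by the members of 𝒦. Suppose O^p(H) ≤ R, each E ∈ 𝒦 has E·O_p(H) normal in R·O_p(H), and each E ∈ 𝒦 is p-minimal (generated by the conjugates of a Sylow p-subgroup T_E of E, with T_E in exactly one maximal subgroup of E). Then H is p-minimal in the same sense. If instead each E ∈ 𝒦 is strongly p-irreducible, then H is p-irreducible and, for E, K ∈ 𝒦, either O^p(E·O_p(H)) = O^p(K·O_p(H)) or [E, K] ≤ O_p(H). -/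
theorem result {H : Type*} [Group H] [Finite H] {p : ℕ} [Fact p.Prime] (𝒦 : Set (Subgroup H)) (hne : 𝒦.Nonempty) (hinv : ∀ h : H, ∀ E ∈ 𝒦, E.map (MulAut.conj h).toMonoidHom ∈ 𝒦) (htr : ∀ E ∈ 𝒦, ∀ K ∈ 𝒦, ∃ h : H, K = E.map (MulAut.conj h).toMonoidHom) (hres : Cfsg.pResidual p H ≤ sSup 𝒦) (hnorm : ∀ E ∈ 𝒦, sSup 𝒦 ⊔ Cfsg.pCore p H ≤ Subgroup.normalizer ((E ⊔ Cfsg.pCore p H : Subgroup H) : Set H)) : ((∀ E ∈ 𝒦, ∀ T : Sylow p ↥E, Cfsg.IsMinimalOver (T : Subgroup ↥E)) → ∀ T : Sylow p H, Cfsg.IsMinimalOver (T : Subgroup H)) ∧ ((∀ E ∈ 𝒦, Cfsg.IsStronglyPIrreducible p ↥E) → Cfsg.IsPIrreducible p H ∧ ∀ E ∈ 𝒦, ∀ K ∈ 𝒦, (Cfsg.pResidual p ↥(E ⊔ Cfsg.pCore p H)).map (E ⊔ Cfsg.pCore p H).subtype = (Cfsg.pResidual p ↥(K ⊔ Cfsg.pCore p H)).map (K ⊔ Cfsg.pCore p H).subtype ∨ ⁅E, K⁆ ≤ Cfsg.pCore p H) := by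

  classical
  haveI hOn := CfsgLib.Solvable.pCore_normal p (G := H)
  set O := Cfsg.pCore p H with hOdef
  have hOmap : ∀ h : H, O.map (MulAut.conj h).toMonoidHom = O := fun h => by
    have hh : h ∈ Subgroup.normalizer (O : Set H) := by
      rw [Subgroup.normalizer_eq_top]; exact Subgroup.mem_top h
    exact Subgroup.mem_normalizer_iff_map_conj_eq.1 hh
  constructor
  · intro hmin T
    have hOT : O ≤ (T : Subgroup H) := by
      obtain ⟨P, hP⟩ := (CfsgLib.Solvable.isPGroup_pCore p (G := H)).exists_le_sylow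
      obtain ⟨g, rfl⟩ := MulAction.exists_smul_eq H P T
      intro x hx
      rw [Sylow.coe_subgroup_smul]
      exact ⟨g⁻¹ * x * g, hP (by simpa using hOn.conj_mem x hx g⁻¹), by simp [mul_assoc]⟩
    have hsup : sSup ((fun E => E ⊔ O) '' 𝒦) = sSup 𝒦 ⊔ O := by
      refine le_antisymm (sSup_le ?_) (sup_le (sSup_le fun E hE => ?_) ?_)
      · rintro _ ⟨E, hE, rfl⟩
        exact sup_le_sup_right (le_sSup hE) O
      · exact le_sup_left.trans (le_sSup ⟨E, hE, rfl⟩)
      · obtain ⟨E, hE⟩ := hne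
        exact le_sup_right.trans (le_sSup ⟨E, hE, rfl⟩)
    have hF : CfsgLib.IrrFam.Fam p ((fun E => E ⊔ O) '' 𝒦) := by
      refine ⟨hne.image _, ?_, ?_, hres.trans (hsup ▸ le_sup_left), ?_⟩
      · rintro h _ ⟨E, hE, rfl⟩
        refine ⟨_, hinv h E hE, ?_⟩
        rw [Subgroup.map_sup, hOmap]
      · rintro _ ⟨E, hE, rfl⟩ _ ⟨K, hK, rfl⟩
        obtain ⟨h, rfl⟩ := htr E hE K hK
        exact ⟨h, by rw [Subgroup.map_sup, hOmap]⟩
      · rintro _ ⟨E, hE, rfl⟩
        exact hsup ▸ hnorm E hE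
    have hdata : ∀ E ∈ 𝒦, ∃ S : Sylow p ↥E,
        (S : Subgroup ↥E).map E.subtype = (T : Subgroup H) ⊓ E ∧
        E ⊓ O ≤ (T : Subgroup H) ⊓ E := by
      intro E hE
      have hsn := hF.subnormal (Set.mem_image_of_mem (fun E => E ⊔ O) hE)
      have hcop := CfsgLib.ExtTwoLayer.coprime_relIndex_inf_of_subnormal hsn T
      have hEO : E ⊓ O ≤ (T : Subgroup H) ⊓ E := le_inf (inf_le_right.trans hOT) inf_le_left
      have hnO : ∀ U : Subgroup H, U ≤ Subgroup.normalizer (O : Set H) := fun U => by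
        rw [Subgroup.normalizer_eq_top]; exact le_top
      have e1 := CfsgLib.Solvable.card_sup_mul_card_inf (hnO E)
      have e2 := CfsgLib.Solvable.card_sup_mul_card_inf (hnO ((T : Subgroup H) ⊓ E))
      have hinf : (T : Subgroup H) ⊓ E ⊓ O = E ⊓ O :=
        le_antisymm (inf_le_inf_right _ inf_le_right) (le_inf hEO inf_le_right)
      have hded : (T : Subgroup H) ⊓ (E ⊔ O) = (T : Subgroup H) ⊓ E ⊔ O := by
        refine le_antisymm ?_ (le_inf (sup_le inf_le_left hOT) (sup_le_sup_right inf_le_right O))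
        rintro x ⟨hxT, hxE⟩
        obtain ⟨e, he, o, ho, rfl⟩ := Subgroup.mem_sup_of_normal_right.1 hxE
        exact mul_mem (Subgroup.mem_sup_left
          ⟨((T : Subgroup H).mul_mem_cancel_right (hOT ho)).1 hxT, he⟩) (Subgroup.mem_sup_right ho)
      rw [hinf, ← hded] at e2
      have e3 : ∀ U : Subgroup H, (T : Subgroup H).relIndex U * Nat.card ↥((T : Subgroup H) ⊓ U) =
          Nat.card U := fun U => by
        rw [← Subgroup.inf_relIndex_right, ← Subgroup.relIndex_bot_left,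
          ← Subgroup.relIndex_bot_left, mul_comm]
        exact Subgroup.relIndex_mul_relIndex _ _ _ bot_le inf_le_right
      have heq : (T : Subgroup H).relIndex (E ⊔ O) = (T : Subgroup H).relIndex E := by
        have h1 : (T : Subgroup H).relIndex (E ⊔ O) *
            (Nat.card ↥((T : Subgroup H) ⊓ E) * Nat.card O) =
            (T : Subgroup H).relIndex E * (Nat.card ↥((T : Subgroup H) ⊓ E) * Nat.card O) := by
          rw [← e2, ← mul_assoc, e3, e1, e2, ← mul_assoc, e3]
        exact Nat.eq_of_mul_eq_mul_right (mul_pos Nat.card_pos Nat.card_pos) h1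
      rw [heq] at hcop
      have hdvd : ¬ p ∣ ((T : Subgroup H).subgroupOf E).index :=
        (Fact.out : p.Prime).coprime_iff_not_dvd.1 hcop.symm
      exact ⟨(T.2.comap_subtype).toSylow hdvd, Subgroup.subgroupOf_map_subtype _ _, hEO⟩
    refine hF.minimal T ?_ ?_
    · rintro _ ⟨E, hE, rfl⟩ N hTN hNP hn
      obtain ⟨S, hS, hEO⟩ := hdata E hE
      refine sup_le ?_ ((le_inf hOT le_sup_right).trans hTN)
      have hnE : (N.subgroupOf E).Normal :=
        ⟨fun x hx g => (Subgroup.mem_normalizer_iff.1 (hn (Subgroup.mem_sup_left g.2)) _).1 hx⟩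
      haveI := hnE
      have h1 : (S : Subgroup ↥E) ≤ N.subgroupOf E := by
        rw [Subgroup.subgroupOf, ← Subgroup.map_le_iff_le_comap, hS]
        exact (inf_le_inf_left _ le_sup_left).trans hTN
      have h2 : (⊤ : Subgroup ↥E) ≤ N.subgroupOf E :=
        (hmin E hE S).1.ge.trans (Subgroup.normalClosure_le_normal h1)
      exact Subgroup.subgroupOf_eq_top.1 (top_le_iff.1 h2)
    · rintro _ ⟨E, hE, rfl⟩
      obtain ⟨S, hS, hEO⟩ := hdata E hE
      obtain ⟨-, M₀, ⟨hM₀, hSM₀⟩, huniq⟩ := hmin E hE S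
      set M₁ := M₀.map E.subtype with hM₁
      have hTM : (T : Subgroup H) ⊓ E ≤ M₁ := hS ▸ Subgroup.map_mono hSM₀
      refine ⟨M₁ ⊔ O, sup_le_sup_right (Subgroup.map_subtype_le _) O, fun h => hM₀.1 ?_, ?_, ?_⟩
      · refine top_le_iff.1 fun x _ => ?_
        obtain ⟨m, hm, o, ho, hmo⟩ := Subgroup.mem_sup_of_normal_right.1
          (h (Subgroup.mem_sup_left x.2))
        obtain ⟨y, hy, rfl⟩ := hm
        have hoM : o ∈ M₁ := hTM (hEO ⟨(E.mul_mem_cancel_left y.2).1 (hmo ▸ x.2), ho⟩)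
        obtain ⟨z, hz, hzo⟩ := hoM
        have : x = y * z := Subtype.ext (by rw [← hmo, ← hzo]; rfl)
        exact this ▸ mul_mem hy hz
      · rintro x ⟨hxT, hxE⟩
        obtain ⟨e, he, o, ho, rfl⟩ := Subgroup.mem_sup_of_normal_right.1 hxE
        exact mul_mem (Subgroup.mem_sup_left (hTM
          ⟨((T : Subgroup H).mul_mem_cancel_right (hOT ho)).1 hxT, he⟩)) (Subgroup.mem_sup_right ho)
      · intro Y hTY hYP hPY
        have hOY : O ≤ Y := (le_inf hOT le_sup_right).trans hTY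
        intro y hy
        obtain ⟨e, he, o, ho, rfl⟩ := Subgroup.mem_sup_of_normal_right.1 (hYP hy)
        have heY : e ∈ Y := (Y.mul_mem_cancel_right (hOY ho)).1 hy
        refine mul_mem (Subgroup.mem_sup_left ?_) (Subgroup.mem_sup_right ho)
        have h1 : Y.subgroupOf E ≠ ⊤ := fun h =>
          hPY (sup_le (Subgroup.subgroupOf_eq_top.1 h) hOY)
        obtain ⟨M', hM', hYM'⟩ := (eq_top_or_exists_le_coatom _).resolve_left h1
        have hSM' : (S : Subgroup ↥E) ≤ M' := by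
          refine le_trans ?_ hYM'
          rw [Subgroup.subgroupOf, ← Subgroup.map_le_iff_le_comap, hS]
          exact (inf_le_inf_left _ le_sup_left).trans hTY
        rw [huniq M' ⟨hM', hSM'⟩] at hYM'
        exact ⟨⟨e, he⟩, hYM' heY, rfl⟩
  · intro hs
    set f := QuotientGroup.mk' O with hf
    have hsurj := QuotientGroup.mk'_surjective O
    have hkp : IsPGroup p f.ker := (CfsgLib.Solvable.isPGroup_pCore p (G := H)).to_le
      (QuotientGroup.ker_mk' O).le
    have hOp : Cfsg.pCore p (H ⧸ O) = ⊥ := by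
      rw [← Subgroup.map_comap_eq_self_of_surjective hsurj (Cfsg.pCore p (H ⧸ O)),
        CfsgLib.CharP.pCore_comap f hsurj hkp, Subgroup.map_eq_bot_iff]
      exact (QuotientGroup.ker_mk' O).ge
    have hEmap : ∀ E : Subgroup H, (E ⊔ O).map f = E.map f := fun E => by
      rw [Subgroup.map_sup, (Subgroup.map_eq_bot_iff O).2 (QuotientGroup.ker_mk' O).ge, sup_bot_eq]
    have hconj : ∀ (h : H) (E : Subgroup H), (E.map (MulAut.conj h).toMonoidHom).map f =
        (E.map f).map (MulAut.conj (f h)).toMonoidHom := fun h E => by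
      rw [Subgroup.map_map, Subgroup.map_map]
      exact congrArg (fun φ => E.map φ) (MonoidHom.ext fun y => by simp)
    have hsup : sSup ((fun E => E.map f) '' 𝒦) = (sSup 𝒦).map f := by
      rw [sSup_image, sSup_eq_iSup, Subgroup.map_iSup]
      simp only [Subgroup.map_iSup]
    have hF : CfsgLib.IrrFam.Fam p ((fun E => E.map f) '' 𝒦) := by
      refine ⟨hne.image _, ?_, ?_, ?_, ?_⟩
      · rintro h' _ ⟨E, hE, rfl⟩
        obtain ⟨h, rfl⟩ := hsurj h'
        exact ⟨_, hinv h E hE, hconj h E⟩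
      · rintro _ ⟨E, hE, rfl⟩ _ ⟨K, hK, rfl⟩
        obtain ⟨h, rfl⟩ := htr E hE K hK
        exact ⟨f h, hconj h E⟩
      · rw [hsup, ← CfsgLib.CharP.pResidual_map f hsurj hkp]
        exact Subgroup.map_mono hres
      · rintro _ ⟨E, hE, rfl⟩
        have := (Subgroup.map_mono (f := f) (hnorm E hE)).trans (Subgroup.le_normalizer_map f)
        rw [hEmap, hEmap] at this
        rwa [hsup]
    have hsbar : ∀ P : Subgroup (H ⧸ O), P ∈ (fun E => E.map f) '' 𝒦 → Cfsg.IsStronglyPIrreducible p ↥P := by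
      rintro _ ⟨E, hE, rfl⟩
      refine (CfsgLib.CharP.isStronglyPIrreducible_iff_of_surjective (f.subgroupMap E)
        (f.subgroupMap_surjective E) ?_).1 (hs E hE)
      intro x
      obtain ⟨k, hk⟩ := hkp ⟨(x : ↥E), by
        have := congrArg Subtype.val x.2
        simpa using this⟩
      exact ⟨k, Subtype.ext (Subtype.ext (by simpa using congrArg Subtype.val hk))⟩
    refine ⟨(CfsgLib.CharP.isPIrreducible_iff_of_surjective f hsurj hkp).2
      (hF.irreducible hOp hsbar), fun E hE K hK => ?_⟩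
    obtain ⟨T⟩ := (inferInstance : Nonempty (Sylow p (H ⧸ O)))
    rcases hF.dichotomy hOp T hsbar (Set.mem_image_of_mem _ hE) (Set.mem_image_of_mem _ hK) with h | h
    · left
      have key : ∀ A B : Subgroup H,
          (Cfsg.pResidual p ↥(A.map f)).map (A.map f).subtype =
            (Cfsg.pResidual p ↥(B.map f)).map (B.map f).subtype →
          (Cfsg.pResidual p ↥(A ⊔ O)).map (A ⊔ O).subtype ≤
            (Cfsg.pResidual p ↥(B ⊔ O)).map (B ⊔ O).subtype := by
        intro A B hAB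
        refine CfsgLib.IrrFam.pResidual_map_le fun x hx hc => CfsgLib.IrrFam.mem_pResidual_map ?_ hc
        have hfx : f x ∈ (Cfsg.pResidual p ↥(A.map f)).map (A.map f).subtype :=
          CfsgLib.IrrFam.mem_pResidual_map (hEmap A ▸ Subgroup.mem_map_of_mem f hx)
            (hc.coprime_dvd_left (orderOf_map_dvd f x))
        rw [hAB] at hfx
        obtain ⟨b, hb, hbx⟩ := Subgroup.map_subtype_le _ hfx
        have : b⁻¹ * x ∈ O := by
          rw [← QuotientGroup.ker_mk' O, MonoidHom.mem_ker, map_mul, map_inv, ← hf, hbx, inv_mul_cancel]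
        simpa using mul_mem (Subgroup.mem_sup_left hb) (Subgroup.mem_sup_right (S := B) this)
      exact le_antisymm (key E K h) (key K E h.symm)
    · right
      rw [← Subgroup.map_commutator, Subgroup.map_eq_bot_iff, QuotientGroup.ker_mk'] at h
      exact h


end Cfsg.Agent.S2855
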