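import Cfsg.Statements.S2859
import Cfsg.Agent.CharP.WeakFactor

set_option autoImplicit false
open Cfsg

namespace Cfsg.Agent.S2859

/-- Let Q be a nontrivial p-subgroup of the finite group H that is a weakly closed subgroup, H° the weak closure of Q in H (generated by the conjugates of Q) and H_∘ = O^p(H°). Suppose H₁, H₂ are normal subgroups of H° with H° = H₁H₂ and [H₁, H₂] ≤ N_H(Q), and put Kᵢ = O^p of the weak closure of Q in HᵢQ. Then for i = 1, 2: Kᵢ = [Kᵢ, Q] = [Kᵢ, Hᵢ] ≤ Hᵢ′ and Kᵢ is normal in H°; H_∘ = K₁K₂; and [K₁, K₂] ≤ O_p(H°). -/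
theorem result {G : Type*} [Group G] [Finite G] {p : ℕ} [Fact p.Prime] (Q : Subgroup G) (hQp : IsPGroup p ↥Q) (hQ1 : Q ≠ ⊥) (hwc : Cfsg.IsWeaklyClosedSubgroup p Q) (Hc : Subgroup G) (hHc : Hc = Cfsg.weakClosure Q ⊤) (H₁ H₂ : Subgroup G) (hn₁ : H₁ ≤ Hc ∧ Hc ≤ Subgroup.normalizer ((H₁ : Subgroup G) : Set G)) (hn₂ : H₂ ≤ Hc ∧ Hc ≤ Subgroup.normalizer ((H₂ : Subgroup G) : Set G)) (hprod : H₁ ⊔ H₂ = Hc) (hcomm : ⁅H₁, H₂⁆ ≤ Subgroup.normalizer ((Q : Subgroup G) : Set G)) (K₁ K₂ : Subgroup G) (hK₁ : K₁ = ((Cfsg.pResidual p ↥(Cfsg.weakClosure Q (H₁ ⊔ Q))).map ((Cfsg.weakClosure Q (H₁ ⊔ Q))).subtype)) (hK₂ : K₂ = ((Cfsg.pResidual p ↥(Cfsg.weakClosure Q (H₂ ⊔ Q))).map ((Cfsg.weakClosure Q (H₂ ⊔ Q))).subtype)) : (⁅K₁, Q⁆ = K₁ ∧ ⁅K₁, H₁⁆ = K₁ ∧ K₁ ≤ ⁅H₁, H₁⁆ ∧ Hc ≤ Subgroup.normalizer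 ((K₁ : Subgroup G) : Set G)) ∧ (⁅K₂, Q⁆ = K₂ ∧ ⁅K₂, H₂⁆ = K₂ ∧ K₂ ≤ ⁅H₂, H₂⁆ ∧ Hc ≤ Subgroup.normalizer ((K₂ : Subgroup G) : Set G)) ∧ K₁ ⊔ K₂ = ((Cfsg.pResidual p ↥Hc).map (Hc).subtype) ∧ ⁅K₁, K₂⁆ ≤ (Cfsg.pCoreOf p Hc) := by
  exact CfsgLib.WeakFactor.main hwc hQp hHc hn₁ hn₂ hprod hcomm hK₁ hK₂

end Cfsg.Agent.S2859
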