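import Cfsg.Statements.S2872
import Cfsg.Agent.CharP.InvolutionTransfer

set_option autoImplicit false
open Cfsg

namespace Cfsg.Agent.S2872

/-- Let S be a Sylow 2-subgroup of the finite group G. Then G has a proper normal subgroup of 2-power index (O²(G) ≠ G), or Ω₁(Z(S)) is contained in the Frattini subgroup of S, or N_G(S) acts nontrivially on Ω₁(Z(S)) by conjugation. -/
theorem result {G : Type*} [Group G] [Finite G] (S : Sylow 2 G) : Cfsg.pResidual 2 G ≠ ⊤ ∨ Cfsg.omegaOne 2 ((S : Subgroup G) ⊓ Subgroup.centralizer ((S : Subgroup G) : Set G)) ≤ (frattini ↥(S : Subgroup G)).map (S : Subgroup G).subtype ∨ ∃ g ∈ Subgroup.normalizer ((S : Subgroup G) : Set G), ∃ z ∈ Cfsg.omegaOne 2 ((S : Subgroup G) ⊓ Subgroup.centralizer ((S : Subgroup G) : Set G)), g * z * g⁻¹ ≠ z := by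
  exact CfsgLib.InvolutionTransfer.omega_le_frattini_or S

end Cfsg.Agent.S2872
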