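import Cfsg.Statements.S2873
import Cfsg.Agent.CharP.DihedralTop

set_option autoImplicit false
open Cfsg

namespace Cfsg.Agent.S2873

/-- Let G be a finite group and r an odd prime such that G ⧸ O₂(G) is dihedral of order 2r, and let R be a Sylow r-subgroup of G with C_{O₂(G)}(R) = 1. Then N_G(R) is dihedral of order 2r; for any involution a of N_G(R), every involution of G outside O₂(G) is conjugate to a; and |C_{O₂(G)}(a)|² = |O₂(G)|. -/
theorem result {G : Type*} [Group G] [Finite G] {r : ℕ} [Fact r.Prime] (hr : r ≠ 2) [hN : (Cfsg.pCore 2 G).Normal] (hquot : Nonempty (G ⧸ Cfsg.pCore 2 G ≃* DihedralGroup r)) (R : Sylow r G) (hC : Cfsg.pCore 2 G ⊓ Subgroup.centralizer ((R : Subgroup G) : Set G) = ⊥) : Nonempty (↥(Subgroup.normalizer ((R : Subgroup G) : Set G)) ≃* DihedralGroup r) ∧ ∀ a : G, a ∈ Subgroup.normalizer ((R : Subgroup G) : Set G) → orderOf a = 2 → (∀ b : G, orderOf b = 2 → b ∉ Cfsg.pCore 2 G → ∃ g : G, g * a * g⁻¹ = b) ∧ Nat.card ↥(Cfsg.pCore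 2 G ⊓ Subgroup.centralizer ({a} : Set G)) ^ 2 = Nat.card ↥(Cfsg.pCore 2 G) := by
  exact CfsgLib.DihedralTop.conjugate_and_card hr hquot R hC

end Cfsg.Agent.S2873
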