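import Cfsg.Statements.S2907
import Mathlib.GroupTheory.Commutator.Basic
import Mathlib.GroupTheory.Abelianization.Defs

set_option autoImplicit false
open Cfsg

open scoped commutatorElement

namespace Cfsg.Agent.S2907

/-- Let X be a finite semi-extraspecial p-group and x an element of X outside the centre. Then the index of C_X(x) in X equals the order of Z(X), and the commutators [x, y], y ∈ X, form exactly the centre Z(X). -/
theorem result {X : Type*} [Group X] [Finite X] {p : ℕ} [Fact p.Prime] (hX : Cfsg.IsSemiExtraspecial p X) (x : X) (hx : x ∉ Subgroup.center X) : (Subgroup.centralizer ({x} : Set X)).index = Nat.card ↥(Subgroup.center X) ∧ {z : X | ∃ y : X, z = x * y * x⁻¹ * y⁻¹} = (Subgroup.center X : Set X) := by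
  obtain ⟨⟨-, -, hcomm⟩, hY⟩ := hX
  have hcen : ∀ a b : X, ⁅a, b⁆ ∈ Subgroup.center X := fun a b =>
    hcomm ▸ Subgroup.commutator_mem_commutator (Subgroup.mem_top a) (Subgroup.mem_top b)
  let φ : X →* Subgroup.center X :=
    MonoidHom.mk' (fun y => ⟨⁅x, y⁆, hcen x y⟩) fun a b => Subtype.ext (by
      show ⁅x, a * b⁆ = ⁅x, a⁆ * ⁅x, b⁆
      rw [commutatorElement_mul_right_eq_mul_conj, mul_assoc ⁅x, a⁆ a, mul_assoc ⁅x, a⁆,
        show a * ⁅x, b⁆ * a⁻¹ = ⁅x, b⁆ by
          rw [Subgroup.mem_center_iff.1 (hcen x b) a, mul_inv_cancel_right]])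
  have hker : φ.ker = Subgroup.centralizer ({x} : Set X) := by
    ext y
    rw [MonoidHom.mem_ker, Subgroup.mem_centralizer_singleton_iff, Subtype.ext_iff]
    exact commutatorElement_eq_one_iff_mul_comm.trans eq_comm
  have htop : φ.range = ⊤ := by
    by_contra h
    obtain ⟨M, hM, hle⟩ := (eq_top_or_exists_le_coatom φ.range).resolve_left h
    set Y : Subgroup X := M.map (Subgroup.center X).subtype with hYdef
    have hYz : Y ≤ Subgroup.center X := Subgroup.map_subtype_le _
    have hYM : Y.subgroupOf (Subgroup.center X) = M :=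
      Subgroup.comap_map_eq_self_of_injective Subtype.val_injective M
    obtain ⟨hn, ⟨-, -, hcQ⟩, -⟩ := hY Y hYz (hYM.symm ▸ hM)
    haveI := hn
    have hxc : QuotientGroup.mk' Y x ∈ Subgroup.center (X ⧸ Y) := by
      refine Subgroup.mem_center_iff.2 fun q => ?_
      obtain ⟨y, rfl⟩ := QuotientGroup.mk'_surjective Y q
      refine (commutatorElement_eq_one_iff_mul_comm.1 ?_).symm
      rw [← map_commutatorElement]
      exact (QuotientGroup.eq_one_iff _).2 ⟨φ y, hle ⟨y, rfl⟩, rfl⟩
    rw [← hcQ, commutator_def, ← Subgroup.map_top_of_surjective _ (QuotientGroup.mk'_surjective Y),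
      ← Subgroup.map_commutator, ← commutator_def, hcomm] at hxc
    obtain ⟨c, hc, hcx⟩ := hxc
    have h1 : c⁻¹ * x ∈ Y := QuotientGroup.eq.1 hcx
    exact hx (by simpa using mul_mem hc (hYz h1))
  refine ⟨?_, ?_⟩
  · rw [← hker, Subgroup.index_ker, htop]
    exact Nat.card_congr Subgroup.topEquiv.toEquiv
  · ext z
    refine ⟨?_, fun hz => ?_⟩
    · rintro ⟨y, rfl⟩
      exact commutatorElement_def x y ▸ hcen x y
    · obtain ⟨y, hy⟩ : (⟨z, hz⟩ : Subgroup.center X) ∈ φ.range := htop ▸ Subgroup.mem_top _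
      exact ⟨y, (congrArg Subtype.val hy).symm.trans (commutatorElement_def x y)⟩

end Cfsg.Agent.S2907
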