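import Cfsg.Statements.S2910
import Cfsg.Agent.CharP.CoprimeActions

set_option autoImplicit false
open Cfsg

namespace Cfsg.Agent.S2910

/-- Let p be an odd prime dividing the order of the finite group G and P a Sylow p-subgroup of G. If Ω₁(P) (generated by the elements of order dividing p) is contained in the centre of G, then G has a normal p-complement. In particular, if G is quasisimple then Ω₁(P) is not central in G. -/
theorem result {G : Type*} [Group G] [Finite G] {p : ℕ} [Fact p.Prime] (hp : p ≠ 2) (hdiv : p ∣ Nat.card G) (P : Sylow p G) (hZ : Cfsg.omegaOne p (P : Subgroup G) ≤ Subgroup.center G) : Cfsg.HasNormalPComplement p G ∧ ¬ Cfsg.IsQuasisimple G := by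
  have h := CfsgLib.CoprimeActions.hasNormalPComplement_of_omega_central hp P hZ
  refine ⟨h, fun hq => ?_⟩
  obtain ⟨Q, N, hN, hc⟩ := h
  haveI := hq.1
  haveI : Group.IsPerfect (G ⧸ N) :=
    Group.IsPerfect.ofSurjective (QuotientGroup.mk'_surjective N)
  have hcard : Nat.card (G ⧸ N) = Nat.card (Q : Subgroup G) := by
    rw [← Subgroup.index_eq_card, hc.symm.index_eq_card]
  have hp' : IsPGroup p (G ⧸ N) := by
    obtain ⟨k, hk⟩ := IsPGroup.iff_card.1 Q.2
    exact IsPGroup.of_card (hcard.trans hk)
  haveI : Nontrivial (G ⧸ N) := by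
    rw [← Finite.one_lt_card_iff_nontrivial, hcard]
    have h1 : p ∣ Nat.card (Q : Subgroup G) := Q.dvd_card_of_dvd_card hdiv
    exact lt_of_lt_of_le (Fact.out : p.Prime).one_lt (Nat.le_of_dvd Nat.card_pos h1)
  haveI := hp'.isNilpotent
  exact (Group.IsPerfect.not_isNilpotent (G := G ⧸ N)) inferInstance

end Cfsg.Agent.S2910
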