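import Cfsg.Statements.S2916
import Cfsg.Agent.GLTwoThree.Order
import Cfsg.Agent.GLTwoThree.L33.Simple
import Cfsg.Agent.GLTwoThree.L33.Uniq
import Cfsg.Agent.GLTwoThree.L33.Target
import Cfsg.Agent.Golay.M11Fusion
import Cfsg.Agent.SmallSimple.M11Uniq.Main

set_option autoImplicit false
open Cfsg

namespace Cfsg.Agent.S2916

/-- Let G be a finite group with O²(G) = G (no proper normal subgroup of 2-power index), and let t be an involution of G whose centralizer C_G(t) is isomorphic to GL₂(3). Then G is isomorphic to PSL₃(3) or to the Mathieu group M₁₁. -/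
theorem result {G : Type*} [Group G] [Finite G] (hO : Cfsg.pResidual 2 G = ⊤) (t : G) (ht : orderOf t = 2) (hC : Nonempty (↥(Subgroup.centralizer ({t} : Set G)) ≃* GL (Fin 2) (ZMod 3))) : (∃ (F : Type) (_ : Field F) (_ : Fintype F), Fintype.card F = 3 ∧ Nonempty (G ≃* Matrix.ProjectiveSpecialLinearGroup (Fin 3) F)) ∨ Cfsg.Spor.IsoM11 G := by
  classical
  haveI := Fintype.ofFinite G
  obtain ⟨e⟩ := hC
  let φ : Subgroup.centralizer ({t} : Set G) ≃* CfsgLib.GLTwoThree.Mat :=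
    e.trans CfsgLib.GLTwoThree.equivGL.symm
  haveI := CfsgLib.GLTwoThree.isSimple_of_residual φ ht hO
  rcases CfsgLib.GLTwoThree.card_eq φ ht with hG | hG
  · left
    refine ⟨ZMod 3, @ZMod.instField 3 ⟨Nat.prime_three⟩, inferInstance, ZMod.card 3, ?_⟩
    haveI : Fact (Nat.Prime 3) := ⟨Nat.prime_three⟩
    haveI := CfsgLib.CommGraph.L33.isSimple_M
    obtain ⟨ψ⟩ := CfsgLib.GLTwoThree.Target.nonempty_centralizer_equiv
    obtain ⟨e1⟩ := CfsgLib.GLTwoThree.nonempty_equiv_stdGroup φ ht hG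
    obtain ⟨e2⟩ := CfsgLib.GLTwoThree.nonempty_equiv_stdGroup ψ
      CfsgLib.GLTwoThree.Target.orderOf_t0 CfsgLib.CommGraph.L33.card_M
    exact ⟨(e1.trans e2.symm).trans CfsgLib.CommGraph.L33.pslEquiv.symm⟩
  · right
    haveI := CfsgLib.Golay.isSimple_M11
    exact CfsgLib.M11Uniq.nonempty_equiv (H := Cfsg.Spor.M11) CfsgLib.Golay.card_M11 hG

end Cfsg.Agent.S2916
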