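import Cfsg.Statements.S2918
import Cfsg.Agent.A8Rec.Main

set_option autoImplicit false
open Cfsg

namespace Cfsg.Agent.S2918

/-- Let G be a finite group with O²(G) = G and O₂(G) = O(G) = 1 whose Sylow 2-subgroups are isomorphic to those of the alternating group of degree 8, and suppose that the centralizer in G of every involution in the centre of a Sylow 2-subgroup is solvable. Then G is isomorphic to A₈, A₉ or PSp₄(3). -/
theorem result {G : Type*} [Group G] [Finite G] (hO2 : Cfsg.pResidual 2 G = ⊤) (hcore2 : Cfsg.pCore 2 G = ⊥) (hodd : Cfsg.oddCore G = ⊥) (S : Sylow 2 G) (hS : ∀ P : Sylow 2 ↥(alternatingGroup (Fin 8)), Nonempty (↥(S : Subgroup G) ≃* ↥(P : Subgroup ↥(alternatingGroup (Fin 8))))) (hsol : ∀ z : G, z ∈ (S : Subgroup G) → (∀ s ∈ (S : Subgroup G), s * z = z * s) → orderOf z = 2 → IsSolvable ↥(Subgroup.centralizer ({z} : Set G))) : Nonempty (G ≃* ↥(alternatingGroup (Fin 8))) ∨ Nonempty (G ≃* ↥(alternatingGroup (Fin 9))) ∨ (∃ (F : Type) (_ : Field F) (_ : Fintype F), Fintype.card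 F = 3 ∧ Nonempty (G ≃* Cfsg.PSp 2 F)) := by
  haveI : Fact (Nat.Prime 2) := ⟨Nat.prime_two⟩
  obtain ⟨P⟩ : Nonempty (Sylow 2 ↥(alternatingGroup (Fin 8))) := inferInstance
  obtain ⟨e₁⟩ := hS P
  obtain ⟨e₀⟩ := CfsgLib.A8Three.nonempty_sylow P
  let el : CfsgLib.A8Three.T →* G := (S : Subgroup G).subtype.comp (e₀.trans e₁.symm).toMonoidHom
  have hinj : Function.Injective el := Subtype.val_injective.comp (e₀.trans e₁.symm).injective
  have hrange : el.range = (S : Subgroup G) := by
    rw [show el = (S : Subgroup G).subtype.comp (e₀.trans e₁.symm).toMonoidHom from rfl, MonoidHom.range_comp,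
      MonoidHom.range_eq_top.2 (MulEquiv.surjective _), ← MonoidHom.range_eq_map, Subgroup.range_subtype]
  have hz2 : orderOf (el CfsgLib.A8Three.zz) = 2 := by
    refine orderOf_eq_prime ?_ fun h => absurd (hinj (h.trans (map_one el).symm)) (by decide)
    rw [pow_two, ← map_mul, CfsgLib.A8Three.zz_sq, map_one]
  have D : CfsgLib.A8Rec.Rec S el :=
    { inj := hinj
      range := hrange
      res := CfsgLib.A8Rec.index_ne_two hO2
      core2 := hcore2
      odd := hodd
      sol := hsol _ (hrange ▸ ⟨_, rfl⟩) (fun s hs => by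
        rw [← hrange] at hs
        obtain ⟨x, rfl⟩ := hs
        rw [← map_mul, ← map_mul, CfsgLib.A8Three.zz_comm x]) hz2 }
  obtain ⟨el', D', hN⟩ := D.normalise
  exact D'.classify hN

end Cfsg.Agent.S2918
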