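import Cfsg.Statements.S2922
import Cfsg.Agent.LocalB.CharP
import Cfsg.Agent.LocalB.FStar

set_option autoImplicit false
set_option linter.unusedVariables false
open Cfsg CfsgLib.LocalB

namespace Cfsg.Agent.S2922

/-- Let p be a prime, X a finite group, B a p-subgroup of X and C a normal subgroup of B. If N_X(C) has characteristic p (its generalized Fitting subgroup is O_p(N_X(C))), then N_X(B) and C_X(B) have characteristic p. -/
theorem result {X : Type*} [Group X] [Finite X] {p : ℕ} [Fact p.Prime] (B C : Subgroup X) (hB : IsPGroup p ↥B) (hCB : C ≤ B) (hCn : (C.subgroupOf B).Normal) (hC : Cfsg.generalizedFittingSubgroup ↥(Subgroup.normalizer (C : Set X)) = Cfsg.pCore p ↥(Subgroup.normalizer (C : Set X))) : Cfsg.generalizedFittingSubgroup ↥(Subgroup.normalizer (B : Set X)) = Cfsg.pCore p ↥(Subgroup.normalizer (B : Set X)) ∧ Cfsg.generalizedFittingSubgroup ↥(Subgroup.centralizer (B : Set X)) = Cfsg.pCore p ↥(Subgroup.centralizer (B : Set X)) := by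
  have hC' := centralizer_le_of_fstar hC
  set R := opIn p (Subgroup.normalizer (C : Set X)) with hR
  have hRp : IsPGroup p R := isPGroup_opIn _
  have hBN : B ≤ Subgroup.normalizer (C : Set X) :=
    (Subgroup.normal_subgroupOf_iff_le_normalizer hCB).mp hCn
  have hBR : B ≤ Subgroup.normalizer (R : Set X) := hBN.trans (le_normalizer_opIn _)
  have hKN : Subgroup.centralizer (B : Set X) ≤ Subgroup.normalizer (C : Set X) :=
    (Subgroup.centralizer_le hCB).trans (Subgroup.centralizer_le_normalizer _)
  have hRK : R ⊓ Subgroup.centralizer (B : Set X) ≤ opIn p (Subgroup.centralizer (B : Set X)) :=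
    inf_comm R (Subgroup.centralizer (B : Set X)) ▸ opIn_inf_le hKN
  -- a p'-element centralizing `B` and `C_R(B)` is trivial
  have key : ∀ w : X, (orderOf w).Coprime p → w ∈ Subgroup.centralizer (B : Set X) →
      (∀ d ∈ opIn p (Subgroup.centralizer (B : Set X)), Commute w d) → w = 1 := by
    intro w hw hwB hd
    refine eq_one_of_charP hC' (hKN hwB) hw ?_
    exact commute_of_pxq hB hRp hBR hw (le_normalizer_opIn _ (hKN hwB))
      (fun π hπ => Subgroup.mem_centralizer_iff.mp hwB π hπ)
      fun r hr hrc => hd r (hRK ⟨hr, Subgroup.mem_centralizer_iff.mpr hrc⟩)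
  refine ⟨fstar_eq_pCore (charP_of_forall fun w hw hcop h => ?_),
    fstar_eq_pCore (charP_of_forall fun w hw hcop h => key w hcop hw h)⟩
  have hBop : B ≤ opIn p (Subgroup.normalizer (B : Set X)) := le_opIn Subgroup.le_normalizer hB le_rfl
  refine key w hcop (Subgroup.mem_centralizer_iff.mpr fun b hb => (h b (hBop hb)).eq.symm)
    fun d hd => h d ?_
  refine le_opIn ((opIn_le _).trans (Subgroup.centralizer_le_normalizer _)) (isPGroup_opIn _) ?_ hd
  intro n hn
  refine mem_normalizer_of_conj_le ?_
  rintro _ ⟨y, hy, rfl⟩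
  have hK := normalizer_le_normalizer_centralizer B hn
  exact ⟨(Subgroup.centralizer (B : Set X)).normalizerMonoidHom ⟨n, hK⟩ y,
    map_pCore_mem p _ hy, rfl⟩

end Cfsg.Agent.S2922
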