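import Cfsg.Statements.S2923
import Cfsg.Agent.LocalB.CharP

set_option autoImplicit false
set_option linter.unusedVariables false
open Cfsg CfsgLib.LocalB

namespace Cfsg.Agent.S2923

/-- Let p be a prime and X a finite group of characteristic p, that is C_X(O_p(X)) ≤ O_p(X). Then every subnormal subgroup of X has characteristic p. -/
theorem result {X : Type*} [Group X] [Finite X] {p : ℕ} [Fact p.Prime] (hX : Subgroup.centralizer (Cfsg.pCore p X : Set X) ≤ Cfsg.pCore p X) (Y : Subgroup X) (hY : Y.IsSubnormal) : Subgroup.centralizer (Cfsg.pCore p ↥Y : Set ↥Y) ≤ Cfsg.pCore p ↥Y := by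
  have key : ∀ Z : Subgroup X, Z.IsSubnormal → ∀ w ∈ Z, (orderOf w).Coprime p →
      (∀ d ∈ Z ⊓ Cfsg.pCore p X, Commute w d) → w = 1 := by
    intro Z hZ
    induction hZ with
    | top => exact fun w _ hw h => eq_one_of_charP_top hX hw fun d hd => h d ⟨Subgroup.mem_top d, hd⟩
    | step H K hle _ hn ih =>
      intro w hwH hw h
      refine ih w (hle hwH) hw fun u hu => ?_
      have hc : w * u * w⁻¹ * u⁻¹ ∈ H ⊓ Cfsg.pCore p X := by
        refine ⟨?_, Subgroup.mul_mem _ ((CfsgLib.Solvable.pCore_normal (G := X) p).conj_mem _ hu.2 w)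
          (inv_mem hu.2)⟩
        have h1 : u * w⁻¹ * u⁻¹ ∈ H := hn.conj_mem ⟨w⁻¹, hle (inv_mem hwH)⟩ (inv_mem hwH) ⟨u, hu.1⟩
        simpa [mul_assoc] using H.mul_mem hwH h1
      exact commute_of_stab (CfsgLib.Solvable.isPGroup_pCore p) hw hc.2 (h _ hc)
  refine charP_of_forall fun w hw hcop h => key Y hY w hw hcop fun d hd => h d ?_
  exact le_opIn inf_le_left ((CfsgLib.Solvable.isPGroup_pCore p).to_le inf_le_right)
    (fun y hy => mem_normalizer_of_conj_le fun x hx =>
      ⟨Y.mul_mem (Y.mul_mem hy hx.1) (inv_mem hy), (CfsgLib.Solvable.pCore_normal (G := X) p).conj_mem _ hx.2 y⟩) hd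

end Cfsg.Agent.S2923
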