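import Cfsg.Statements.S2924
import Cfsg.Agent.LocalB.OddSignalizer

set_option autoImplicit false
set_option linter.unusedVariables false
open Cfsg CfsgLib.LocalB

namespace Cfsg.Agent.S2924

/-- Let X be a finite group and Y an elementary abelian 2-subgroup of X of order at least 8 such that C_X(x) has no components (E(C_X(x)) = 1) for every nontrivial x ∈ Y, and F*(C_X(z)) = O₂(C_X(z)) for some nontrivial z ∈ Y. Then the subgroup generated by the cores O(C_X(y)), y ∈ Y nontrivial, has odd order and is normalized by N_X(Y). -/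
theorem result {X : Type*} [Group X] [Finite X] (Y : Subgroup X) (hY : Cfsg.IsElementaryAbelian 2 Y) (h8 : 8 ≤ Nat.card ↥Y) (hE : ∀ x ∈ Y, x ≠ 1 → Cfsg.layer ↥(Subgroup.centralizer ({x} : Set X)) = ⊥) (hz : ∃ z ∈ Y, z ≠ 1 ∧ Cfsg.generalizedFittingSubgroup ↥(Subgroup.centralizer ({z} : Set X)) = Cfsg.pCore 2 ↥(Subgroup.centralizer ({z} : Set X))) : Odd (Nat.card ↥(⨆ y : {y : X // y ∈ Y ∧ y ≠ 1}, (Cfsg.oddCore ↥(Subgroup.centralizer ({(y : X)} : Set X))).map (Subgroup.centralizer ({(y : X)} : Set X)).subtype)) ∧ Subgroup.normalizer (Y : Set X) ≤ Subgroup.normalizer ((⨆ y : {y : X // y ∈ Y ∧ y ≠ 1}, (Cfsg.oddCore ↥(Subgroup.centralizer ({(y : X)} : Set X))).map (Subgroup.centralizer ({(y : X)} : Set X)).subtype : Subgroup X) : Set X) := by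
  obtain ⟨z, hzY, hz1, hzF⟩ := hz
  have hsq : ∀ y ∈ Y, y * y = 1 := fun y hy => by rw [← sq]; exact hY.2 y hy
  have hyi : ∀ y ∈ Y, y⁻¹ = y := fun y hy => inv_eq_of_mul_eq_one_right (hsq y hy)
  have hcomm : ∀ a ∈ Y, ∀ b ∈ Y, a * b = b * a := fun a ha b hb =>
    congrArg Subtype.val (hY.1.is_comm.comm ⟨a, ha⟩ ⟨b, hb⟩)
  set C : X → Subgroup X := fun y => Subgroup.centralizer ({y} : Set X) with hCdef
  set θ : X → Subgroup X := fun y => (Cfsg.oddCore ↥(C y)).map (C y).subtype with hθ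
  have hmem : ∀ {a b : X}, a ∈ C b ↔ a * b = b * a := Subgroup.mem_centralizer_singleton_iff
  have hθodd : ∀ y, Odd (Nat.card (θ y)) := fun y => by
    rw [hθ, ← Nat.card_congr ((Cfsg.oddCore ↥(C y)).equivMapOfInjective _
      (Subgroup.subtype_injective _)).toEquiv]
    exact odd_card_oddCore
  have hθC : ∀ y, θ y ≤ C y := fun y => Subgroup.map_subtype_le _
  have hθn : ∀ y, ∀ u ∈ C y, ∀ w ∈ θ y, u * w * u⁻¹ ∈ θ y := by
    rintro y u hu _ ⟨v, hv, rfl⟩
    exact ⟨⟨u, hu⟩ * v * ⟨u, hu⟩⁻¹, (inferInstance : (Cfsg.oddCore ↥(C y)).Normal).conj_mem v hv _, rfl⟩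
  have hθle : ∀ y, ∀ A : Subgroup X, A ≤ C y → Odd (Nat.card A) →
      (∀ u ∈ C y, ∀ w ∈ A, u * w * u⁻¹ ∈ A) → A ≤ θ y := by
    intro y A hA hodd hn w hw
    refine ⟨⟨w, hA hw⟩, ?_, rfl⟩
    refine CfsgLib.Solvable.le_pPrimeCore 2 (N := A.subgroupOf (C y)) ⟨fun v hv u => hn u u.2 v hv⟩ ?_ hw
    rw [Nat.card_congr (Subgroup.subgroupOfEquivOfLe hA).toEquiv]
    exact Nat.coprime_two_right.mpr hodd
  -- `C(z)` has characteristic 2
  have hzc := centralizer_le_of_fstar hzF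
  set R := opIn 2 (C z) with hR
  have hRn : ∀ {u}, u ∈ C z → u ∈ Subgroup.normalizer (R : Set X) := fun hu => le_normalizer_opIn _ hu
  have hzpow : ∀ y ∈ Y, IsPGroup 2 (Subgroup.zpowers y) := fun y hy =>
    (hY.2 y hy |> fun h => (show IsPGroup 2 Y from fun v => ⟨1, Subtype.ext (by simpa using hY.2 v v.2)⟩)).to_le
      (Subgroup.zpowers_le.mpr hy)
  have hyC : ∀ y ∈ Y, y ∈ C z := fun y hy => hmem.mpr (hcomm y hy z hzY)
  have hcpow : ∀ {y w : X}, Commute y w → ∀ π ∈ Subgroup.zpowers y, Commute π w := by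
    intro y w h π hπ
    obtain ⟨k, rfl⟩ := Subgroup.mem_zpowers_iff.mp hπ
    exact h.zpow_left k
  -- no odd core element of `C(a)` is fixed by `z`
  have hfree : ∀ a ∈ Y, a ≠ 1 → ∀ w ∈ θ a, z * w = w * z → w = 1 := by
    intro a ha ha1 w hw hwz
    have hcop : (orderOf w).Coprime 2 :=
      Nat.coprime_two_right.mpr ((hθodd a).of_dvd_nat ((θ a).orderOf_dvd_natCard hw))
    have hwC : w ∈ C z := hmem.mpr hwz.symm
    refine eq_one_of_charP hzc hwC hcop ?_
    refine commute_of_pxq (hzpow a ha) (isPGroup_opIn _)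
      (fun π hπ => hRn ((Subgroup.zpowers_le.mpr (hyC a ha)) hπ)) hcop (hRn hwC)
      (hcpow (show Commute a w from (hmem.mp (hθC a hw)).symm)) ?_
    intro r hr hra
    have hrC : r ∈ C a := hmem.mpr (hra a (Subgroup.mem_zpowers a)).symm
    have h1 : w * r * w⁻¹ * r⁻¹ ∈ R :=
      Subgroup.mul_mem _ ((Subgroup.mem_normalizer_iff.mp (hRn hwC) r).mp hr) (inv_mem hr)
    have h2 : w * r * w⁻¹ * r⁻¹ ∈ θ a := by
      have := (θ a).mul_mem hw (hθn a r hrC w⁻¹ (inv_mem hw))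
      simpa [mul_assoc] using this
    have := eq_one_of_odd_pgroup_two (hθodd a) (isPGroup_opIn _) h2 h1
    exact mul_inv_eq_iff_eq_mul.mp (mul_inv_eq_one.mp this)
  -- `z` inverts every signalizer
  have hinv : ∀ a ∈ Y, a ≠ 1 → ∀ w ∈ θ a, z * w * z⁻¹ = w⁻¹ := fun a ha ha1 =>
    inverted_of_fpf (hθodd a) (hsq z hzY) (fun w hw => hθn a z (hmem.mpr (hcomm z hzY a ha)) w hw)
      (hfree a ha ha1)
  have habel : ∀ a ∈ Y, a ≠ 1 → ∀ v ∈ θ a, ∀ w ∈ θ a, Commute v w := by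
    intro a ha ha1 v hv w hw
    have h := hinv a ha ha1 (w * v) (mul_mem hw hv)
    rw [show z * (w * v) * z⁻¹ = (z * w * z⁻¹) * (z * v * z⁻¹) by simp [mul_assoc],
      hinv a ha ha1 w hw, hinv a ha ha1 v hv, ← mul_inv_rev, inv_inj] at h
    exact h
  -- balance
  have hbal : ∀ a ∈ Y, a ≠ 1 → ∀ b ∈ Y, b ≠ 1 → θ a ⊓ C b ≤ θ b := by
    intro a ha ha1 b hb hb1 w hw
    have hzb : z ∈ C b := hmem.mpr (hcomm z hzY b hb)
    have hab : a ∈ C b := hmem.mpr (hcomm a ha b hb)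
    have key := le_oddCore_of_balanced (H := ↥(C b)) (hE b hb hb1) (z := ⟨z, hzb⟩) (a := ⟨a, hab⟩)
      (Subtype.ext (hsq z hzY)) (Subtype.ext (hsq a ha))
      (fun o ho => Subtype.ext (hinv b hb hb1 o ⟨o, ho, rfl⟩))
      (fun o ho h => Subtype.ext (hfree b hb hb1 o ⟨o, ho, rfl⟩ (congrArg Subtype.val h)))
      ?_ (A := (θ a).subgroupOf (C b)) ?_ ?_ ?_ (show (⟨w, hw.2⟩ : ↥(C b)) ∈ _ from hw.1)
    · exact ⟨_, key, rfl⟩
    · -- the centralizer of `z` in `C(b)`
      set D : Subgroup ↥(C b) := Subgroup.centralizer ({⟨z, hzb⟩} : Set ↥(C b)) with hD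
      refine charP_of_forall fun v hv hcop h => ?_
      have hvz : (v : X) ∈ C z :=
        hmem.mpr (congrArg Subtype.val (Subgroup.mem_centralizer_singleton_iff.mp hv))
      have hvb : Commute b (v : X) := (hmem.mp v.2).symm
      have hcop' : (orderOf (v : X)).Coprime 2 := by rwa [Subgroup.orderOf_coe]
      refine Subtype.ext (eq_one_of_charP hzc hvz hcop' ?_)
      refine commute_of_pxq (hzpow b hb) (isPGroup_opIn _)
        (fun π hπ => hRn ((Subgroup.zpowers_le.mpr (hyC b hb)) hπ)) hcop' (hRn hvz) (hcpow hvb) ?_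
      intro r hr hrb
      have hrb' : r ∈ C b := hmem.mpr (hrb b (Subgroup.mem_zpowers b)).symm
      have hrz : r ∈ C z := opIn_le _ hr
      have hle : R.subgroupOf (C b) ≤ opIn 2 D := by
        refine le_opIn ?_ (IsPGroup.comap_of_injective (isPGroup_opIn _) (C b).subtype
          (Subgroup.subtype_injective _)) ?_
        · intro x hx
          exact Subgroup.mem_centralizer_singleton_iff.mpr (Subtype.ext (hmem.mp (opIn_le _ hx)))
        · intro d hd
          refine mem_normalizer_of_conj_le fun x hx => ?_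
          exact (Subgroup.mem_normalizer_iff.mp (hRn (hmem.mpr (congrArg Subtype.val
            (Subgroup.mem_centralizer_singleton_iff.mp hd)))) (x : X)).mp hx
      exact congrArg Subtype.val (h ⟨r, hrb'⟩ (hle hr))
    · exact (hθodd a).of_dvd_nat
        ((Subgroup.card_dvd_of_injective ((C b).subtype.domRestrict ((θ a).subgroupOf (C b)) |>.codRestrict (θ a) (fun x => x.2))
          (fun x y h => Subtype.ext (Subtype.ext (congrArg Subtype.val h :)))))
    · exact fun v hv => Subtype.ext (hmem.mp (hθC a hv))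
    · exact fun u hu v hv => hθn a (u : X) (hmem.mpr (congrArg Subtype.val hu).symm) (v : X) hv
  -- elements on which `Y` acts by signs
  set E : Set X := {g | (∃ a ∈ Y, a ≠ 1 ∧ g ∈ θ a) ∧ ∀ y ∈ Y, y * g * y⁻¹ = g ∨ y * g * y⁻¹ = g⁻¹}
    with hEdef
  have hdec : ∀ a ∈ Y, a ≠ 1 → ∀ g ∈ θ a, g ∈ Subgroup.closure E := by
    intro a ha ha1
    classical
    suffices h : ∀ s : Finset X, (∀ y ∈ s, y ∈ Y) → ∀ g ∈ θ a, g ∈ Subgroup.closure
        {g | g ∈ θ a ∧ ∀ y ∈ s, y * g * y⁻¹ = g ∨ y * g * y⁻¹ = g⁻¹} by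
      intro g hg
      have := h (Set.toFinite (Y : Set X)).toFinset (fun y hy => by simpa using hy) g hg
      refine Subgroup.closure_mono ?_ this
      rintro x ⟨hx, hx'⟩
      exact ⟨⟨a, ha, ha1, hx⟩, fun y hy => hx' y (by simpa using hy)⟩
    intro s
    induction s using Finset.induction_on with
    | empty => exact fun _ g hg => Subgroup.subset_closure ⟨hg, by simp⟩
    | insert y t _ ih =>
      intro hs g hg
      have hyY := hs y (Finset.mem_insert_self y t)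
      have hya : y ∈ C a := hmem.mpr (hcomm y hyY a ha)
      refine (Subgroup.closure_le _).mpr ?_ (ih (fun x hx => hs x (Finset.mem_insert_of_mem hx)) g hg)
      rintro g ⟨hg, hgs⟩
      set g' := y * g * y⁻¹ with hg'
      have hg'θ : g' ∈ θ a := hθn a y hya g hg
      have hcg : Commute g g' := habel a ha ha1 g hg g' hg'θ
      have hyg' : y * g' * y⁻¹ = g := by
        rw [hg', show y * (y * g * y⁻¹) * y⁻¹ = (y * y) * g * (y * y)⁻¹ by simp [mul_assoc],
          hsq y hyY, one_mul, inv_one, mul_one]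
      have hsign : ∀ x ∈ t, (x * g * x⁻¹ = g ∧ x * g' * x⁻¹ = g') ∨
          (x * g * x⁻¹ = g⁻¹ ∧ x * g' * x⁻¹ = g'⁻¹) := by
        intro x hx
        have hxy := hcomm x (hs x (Finset.mem_insert_of_mem hx)) y hyY
        have e : x * g' * x⁻¹ = y * (x * g * x⁻¹) * y⁻¹ := by
          calc x * g' * x⁻¹ = (x * y) * g * (x * y)⁻¹ := by simp [hg', mul_assoc]
            _ = _ := by rw [hxy]; simp [mul_assoc]
        rcases hgs x hx with h | h
        · exact Or.inl ⟨h, by rw [e, h]⟩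
        · exact Or.inr ⟨h, by rw [e, h, ← conj_inv]⟩
      have e2 : ∀ (x u v : X), x * (u * v) * x⁻¹ = (x * u * x⁻¹) * (x * v * x⁻¹) := fun x u v => by
        simp [mul_assoc]
      have h1 : g * g' ∈ {g | g ∈ θ a ∧ ∀ x ∈ insert y t, x * g * x⁻¹ = g ∨ x * g * x⁻¹ = g⁻¹} := by
        refine ⟨mul_mem hg hg'θ, Finset.forall_mem_insert _ _ _ |>.mpr ⟨Or.inl ?_, fun x hx => ?_⟩⟩
        · rw [e2, ← hg', hyg', hcg.eq]
        · rcases hsign x hx with ⟨u, v⟩ | ⟨u, v⟩
          · left; rw [e2, u, v]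
          · right; rw [e2, u, v]; exact ((mul_inv_rev g g').trans hcg.inv_inv.eq.symm).symm
      have h2 : g * g'⁻¹ ∈ {g | g ∈ θ a ∧ ∀ x ∈ insert y t, x * g * x⁻¹ = g ∨ x * g * x⁻¹ = g⁻¹} := by
        refine ⟨mul_mem hg (inv_mem hg'θ), Finset.forall_mem_insert _ _ _ |>.mpr ⟨Or.inr ?_, fun x hx => ?_⟩⟩
        · rw [e2, ← hg', ← conj_inv, hyg', mul_inv_rev, inv_inv]
        · rcases hsign x hx with ⟨u, v⟩ | ⟨u, v⟩
          · left; rw [e2, u, ← conj_inv, v]
          · right; rw [e2, u, ← conj_inv, v]; exact ((mul_inv_rev g g'⁻¹).trans hcg.inv_inv.inv_right.eq.symm).symm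
      obtain ⟨k, hk⟩ := (hθodd a).of_dvd_nat ((θ a).orderOf_dvd_natCard hg)
      have hgg : g ^ 2 = (g * g') * (g * g'⁻¹) := by
        rw [sq, mul_assoc, ← mul_assoc g' g, ← hcg.eq, mul_assoc g g', mul_inv_cancel, mul_one]
      have hpow : g = (g ^ 2) ^ (k + 1) := by
        rw [← pow_mul, show 2 * (k + 1) = orderOf g + 1 by omega, pow_succ, pow_orderOf_eq_one, one_mul]
      rw [hpow, hgg]
      exact pow_mem (mul_mem (Subgroup.subset_closure h1) (Subgroup.subset_closure h2)) _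
  have hEcomm : ∀ g ∈ E, ∀ h ∈ E, g * h = h * g := by
    rintro g ⟨⟨a, ha, ha1, hga⟩, hg⟩ h ⟨⟨b, hb, hb1, hhb⟩, hh⟩
    classical
    let cls : Y → Bool × Bool := fun y =>
      (decide ((y : X) * g * (y : X)⁻¹ = g), decide ((y : X) * h * (y : X)⁻¹ = h))
    have : Fintype Y := Fintype.ofFinite Y
    obtain ⟨y, y', hne, heq⟩ := Fintype.exists_ne_map_eq_of_card_lt cls (by
      have := Nat.card_eq_fintype_card (α := Y); simp; omega)
    simp only [cls, Prod.mk.injEq, decide_eq_decide] at heq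
    set c : X := (y : X) * y' with hc
    have hcY : c ∈ Y := mul_mem y.2 y'.2
    have hc1 : c ≠ 1 := fun h1 => hne (Subtype.ext (by rw [← hyi _ y'.2]; exact eq_inv_of_mul_eq_one_left h1))
    have key : ∀ u : X, ((y : X) * u * (y : X)⁻¹ = u ∨ (y : X) * u * (y : X)⁻¹ = u⁻¹) →
        ((y' : X) * u * (y' : X)⁻¹ = u ∨ (y' : X) * u * (y' : X)⁻¹ = u⁻¹) →
        ((y : X) * u * (y : X)⁻¹ = u ↔ (y' : X) * u * (y' : X)⁻¹ = u) → u ∈ C c := by
      intro u h1 h2 hiff
      refine hmem.mpr (mul_inv_eq_iff_eq_mul.mp ?_).symm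
      rw [hc, show (y : X) * y' * u * ((y : X) * y')⁻¹
        = (y : X) * ((y' : X) * u * (y' : X)⁻¹) * (y : X)⁻¹ by simp [mul_assoc]]
      by_cases hu : (y : X) * u * (y : X)⁻¹ = u
      · rw [hiff.mp hu, hu]
      · rw [h2.resolve_left (fun h => hu (hiff.mpr h)), ← conj_inv, h1.resolve_left hu, inv_inv]
    have hgc : g ∈ θ c := hbal a ha ha1 c hcY hc1 ⟨hga, key g (hg _ y.2) (hg _ y'.2) heq.1⟩
    have hhc : h ∈ θ c := hbal b hb hb1 c hcY hc1 ⟨hhb, key h (hh _ y.2) (hh _ y'.2) heq.2⟩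
    exact habel c hcY hc1 g hgc h hhc
  have hW : (⨆ y : {y : X // y ∈ Y ∧ y ≠ 1}, θ y) = Subgroup.closure E := by
    refine le_antisymm (iSup_le fun y g hg => hdec y y.2.1 y.2.2 g hg) ((Subgroup.closure_le _).mpr ?_)
    rintro g ⟨⟨a, ha, ha1, hg⟩, -⟩
    exact le_iSup (fun y : {y : X // y ∈ Y ∧ y ≠ 1} => θ y) ⟨a, ha, ha1⟩ hg
  constructor
  · show Odd (Nat.card ↥(⨆ y : {y : X // y ∈ Y ∧ y ≠ 1}, θ y))
    rw [hW]
    have : IsMulCommutative (Subgroup.closure E) := Subgroup.isMulCommutative_closure hEcomm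
    refine Nat.odd_iff.mpr (Nat.two_dvd_ne_zero.mp fun hdvd => ?_)
    obtain ⟨x, hx, hox⟩ := exists_pgroup_of_dvd (p := 2) hdvd
    have : ∀ u ∈ Subgroup.closure E, Odd (orderOf u) := by
      intro u hu
      induction hu using Subgroup.closure_induction with
      | mem u hu =>
        obtain ⟨⟨a, ha, ha1, hua⟩, -⟩ := hu
        exact (hθodd a).of_dvd_nat ((θ a).orderOf_dvd_natCard hua)
      | one => simp
      | inv u _ ih => simpa using ih
      | mul u v hu hv ih1 ih2 =>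
        exact (ih1.mul ih2).of_dvd_nat
          (Commute.orderOf_mul_dvd_mul_orderOf (congrArg Subtype.val
            (IsMulCommutative.is_comm.comm (⟨u, hu⟩ : Subgroup.closure E) ⟨v, hv⟩)))
    have := this x hx
    rw [hox] at this
    exact absurd this (by decide)
  · intro n hn
    refine mem_normalizer_of_conj_le fun x hx => ?_
    suffices hle : (⨆ y : {y : X // y ∈ Y ∧ y ≠ 1}, θ y).map (MulAut.conj n).toMonoidHom ≤
        ⨆ y : {y : X // y ∈ Y ∧ y ≠ 1}, θ y from hle ⟨x, hx, rfl⟩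
    rw [Subgroup.map_iSup]
    refine iSup_le fun y => ?_
    have hy' : n * y * n⁻¹ ∈ Y := (Subgroup.mem_normalizer_iff.mp hn y).mp y.2.1
    have hy1 : n * y * n⁻¹ ≠ 1 := fun h => y.2.2 (by simpa [mul_inv_eq_one] using h)
    refine le_trans (hθle _ _ ?_ ?_ ?_)
      (le_iSup (fun y : {y : X // y ∈ Y ∧ y ≠ 1} => θ y) ⟨_, hy', hy1⟩)
    · rintro _ ⟨w, hw, rfl⟩
      exact hmem.mpr ((show Commute w (y : X) from hmem.mp (hθC _ hw)).map (MulAut.conj n).toMonoidHom).eq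
    · rw [card_map_conj]; exact hθodd _
    · intro u hu w hw
      rw [mem_map_conj] at hw ⊢
      have hu' : n⁻¹ * u * n ∈ C (y : X) := by
        refine hmem.mpr ?_
        have := ((show Commute u (n * y * n⁻¹) from hmem.mp hu).map (MulAut.conj n⁻¹).toMonoidHom).eq
        simpa [mul_assoc] using this
      have := hθn _ _ hu' _ hw
      simpa [mul_assoc] using this

end Cfsg.Agent.S2924
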