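import Cfsg.Statements.S2925
import Cfsg.Agent.Comp.Basic
import Cfsg.Agent.CharP.KielerSubnormal

set_option autoImplicit false
set_option linter.unusedVariables false
open Cfsg

namespace Cfsg.Agent.S2925

/-- Let K be a component of the finite group X and T a Sylow 2-subgroup of X. If some abelian normal subgroup Y of T does not normalize K, then K ⧸ Z(K) has abelian Sylow 2-subgroups. -/
theorem result {X : Type*} [Group X] [Finite X] (K : Subgroup X) (hK : Cfsg.IsComponent K) (T : Sylow 2 X) (Y : Subgroup X) (hYT : Y ≤ (T : Subgroup X)) (hYn : (Y.subgroupOf (T : Subgroup X)).Normal) (hYab : IsMulCommutative ↥Y) (hnot : ¬ Y ≤ Subgroup.normalizer (K : Set X)) (P : Sylow 2 (↥K ⧸ Subgroup.center ↥K)) : IsMulCommutative ↥(P : Subgroup (↥K ⧸ Subgroup.center ↥K)) := by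
  classical
  obtain ⟨y, hy, hyK⟩ := SetLike.not_le_iff_exists.1 hnot
  set K' := K.map (MulAut.conj y).toMonoidHom with hK'def
  have hK' : Cfsg.IsComponent K' := CfsgLib.Comp.component_conj y hK
  have hne : K ≠ K' := fun h => hyK (Subgroup.mem_normalizer_iff.2 fun k => by
    constructor
    · intro hk
      rw [h]
      exact ⟨k, hk, rfl⟩
    · intro hk
      rw [h] at hk
      obtain ⟨k', hk', he⟩ := hk
      simp only [MulEquiv.coe_toMonoidHom, MulAut.conj_apply] at he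
      rwa [show k' = k by simpa using he] at hk')
  have hcomm := (CfsgLib.Comp.component_eq_or_commute hK hK').resolve_left hne
  have hc : ∀ a ∈ K, ∀ b ∈ K', a * b = b * a := fun a ha b hb =>
    commutatorElement_eq_one_iff_mul_comm.1 (Subgroup.mem_bot.1 (hcomm ▸ Subgroup.commutator_mem_commutator ha hb))
  -- commutators of the Sylow subgroup `T ∩ K` are central in `K`
  have key : ∀ s ∈ (T : Subgroup X) ⊓ K, ∀ t ∈ (T : Subgroup X) ⊓ K, ∀ k ∈ K,
      k * (t⁻¹ * s⁻¹ * t * s) = (t⁻¹ * s⁻¹ * t * s) * k := by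
    intro s hs t ht k hk
    have hu : ∀ s ∈ (T : Subgroup X) ⊓ K, y * s * y⁻¹ * s⁻¹ ∈ Y := by
      intro s hs
      have h1 : s * y⁻¹ * s⁻¹ ∈ Y :=
        Subgroup.mem_normalizer_iff.1 ((Subgroup.normal_subgroupOf_iff_le_normalizer hYT).1 hYn hs.1) y⁻¹ |>.1
          (Y.inv_mem hy)
      have h2 := Y.mul_mem hy h1
      rwa [← mul_assoc, ← mul_assoc] at h2
    have hs' : y * s * y⁻¹ ∈ K' := ⟨s, hs.2, rfl⟩
    have ht' : y * t * y⁻¹ ∈ K' := ⟨t, ht.2, rfl⟩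
    have h3 := congrArg Subtype.val (hYab.is_comm.comm ⟨_, hu s hs⟩ ⟨_, hu t ht⟩)
    simp only [Subgroup.coe_mul] at h3
    set s' := y * s * y⁻¹
    set t' := y * t * y⁻¹
    have c1 : s⁻¹ * t' = t' * s⁻¹ := hc _ (K.inv_mem hs.2) _ ht'
    have c2 : t⁻¹ * s' = s' * t⁻¹ := hc _ (K.inv_mem ht.2) _ hs'
    have h4 : s' * t' * (s⁻¹ * t⁻¹) = t' * s' * (t⁻¹ * s⁻¹) := by
      calc s' * t' * (s⁻¹ * t⁻¹) = s' * (t' * s⁻¹) * t⁻¹ := by group
        _ = s' * (s⁻¹ * t') * t⁻¹ := by rw [c1]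
        _ = s' * s⁻¹ * (t' * t⁻¹) := by group
        _ = t' * t⁻¹ * (s' * s⁻¹) := h3
        _ = t' * (t⁻¹ * s') * s⁻¹ := by group
        _ = t' * (s' * t⁻¹) * s⁻¹ := by rw [c2]
        _ = t' * s' * (t⁻¹ * s⁻¹) := by group
    have h5 : t⁻¹ * s⁻¹ * t * s = (t' * s')⁻¹ * (s' * t') := by
      calc t⁻¹ * s⁻¹ * t * s = (t' * s')⁻¹ * (t' * s' * (t⁻¹ * s⁻¹)) * (t * s) := by group
        _ = (t' * s')⁻¹ * (s' * t' * (s⁻¹ * t⁻¹)) * (t * s) := by rw [h4]
        _ = _ := by group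
    rw [h5]
    exact hc k hk _ (K'.mul_mem (K'.inv_mem (K'.mul_mem ht' hs')) (K'.mul_mem hs' ht'))
  obtain ⟨Q, hQ⟩ := CfsgLib.Kieler.exists_sylow_subnormal T hK.1
  set π := QuotientGroup.mk' (Subgroup.center ↥K)
  obtain ⟨g, hg⟩ := MulAction.exists_smul_eq (↥K ⧸ Subgroup.center ↥K) (Q.mapSurjective (QuotientGroup.mk'_surjective (Subgroup.center ↥K))) P
  have hcom : ∀ a ∈ (Q : Subgroup ↥K).map π, ∀ b ∈ (Q : Subgroup ↥K).map π, a * b = b * a := by
    rintro _ ⟨s, hs, rfl⟩ _ ⟨t, ht, rfl⟩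
    rw [← commutatorElement_eq_one_iff_mul_comm, ← map_commutatorElement, ← MonoidHom.mem_ker,
      QuotientGroup.ker_mk', Subgroup.mem_center_iff]
    intro k
    apply Subtype.ext
    have hs2 : (s : X) ∈ (T : Subgroup X) ⊓ K := hQ ▸ ⟨s, hs, rfl⟩
    have ht2 : (t : X) ∈ (T : Subgroup X) ⊓ K := hQ ▸ ⟨t, ht, rfl⟩
    have := key _ (inv_mem ht2) _ (inv_mem hs2) (k : X) k.2
    simpa [commutatorElement_def] using this
  refine ⟨⟨fun a b => ?_⟩⟩
  apply Subtype.ext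
  have hP : (P : Subgroup (↥K ⧸ Subgroup.center ↥K)) = ((Q : Subgroup ↥K).map π).map (MulAut.conj g).toMonoidHom := by
    rw [← hg]; rfl
  obtain ⟨a', ha', ea⟩ := (hP ▸ a.2 : (a : ↥K ⧸ Subgroup.center ↥K) ∈ ((Q : Subgroup ↥K).map π).map (MulAut.conj g).toMonoidHom)
  obtain ⟨b', hb', eb⟩ := (hP ▸ b.2 : (b : ↥K ⧸ Subgroup.center ↥K) ∈ ((Q : Subgroup ↥K).map π).map (MulAut.conj g).toMonoidHom)
  rw [Subgroup.coe_mul, Subgroup.coe_mul, ← ea, ← eb, ← map_mul, ← map_mul, hcom a' ha' b' hb']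

end Cfsg.Agent.S2925
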