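import Cfsg.Statements.S2928
import Cfsg.Agent.AltOvergroupTwo.Block
-- import your own Cfsg.Agent.* helpers here

set_option autoImplicit false
open Cfsg

namespace Cfsg.Agent.S2928

/-- Let n ≥ 8 and let H be a subgroup of the symmetric group of degree n whose generalized Fitting subgroup F*(H) is quasisimple. If H contains a Sylow 2-subgroup of the alternating group of degree n, then F*(H) is isomorphic to an alternating group of degree m for some m ∈ {n − 3, n − 2, n − 1, n}. -/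
theorem result (n : ℕ) (hn : 8 ≤ n) (H : Subgroup (Equiv.Perm (Fin n))) (hF : Cfsg.IsQuasisimple ↥(Cfsg.generalizedFittingSubgroup ↥H)) (hS : ∃ P : Sylow 2 ↥(alternatingGroup (Fin n)), ((P : Subgroup ↥(alternatingGroup (Fin n))).map (alternatingGroup (Fin n)).subtype) ≤ H) : ∃ m : ℕ, (m = n - 3 ∨ m = n - 2 ∨ m = n - 1 ∨ m = n) ∧ Nonempty (↥(Cfsg.generalizedFittingSubgroup ↥H) ≃* ↥(alternatingGroup (Fin m))) := by
  obtain ⟨P, hP⟩ := hS

  let Q := (AltOvergroupTwo.quadGroup n).subgroupOf (alternatingGroup (Fin n))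
  have hQp : IsPGroup 2 Q := fun x => ⟨2, Subtype.ext (Subtype.ext (AltOvergroupTwo.quadGroup_pow_four x.2))⟩
  obtain ⟨P', hP'⟩ := hQp.exists_le_sylow
  obtain ⟨g, hg⟩ := MulAction.exists_smul_eq (alternatingGroup (Fin n)) P' P
  have hin : ∀ d : Equiv.Perm (Fin n), d ∈ AltOvergroupTwo.quadGroup n → AltOvergroupTwo.IsD d →
      (g : Equiv.Perm (Fin n)) * d * (g : Equiv.Perm (Fin n))⁻¹ ∈ H := by
    intro d hd hD
    have hdA : d ∈ alternatingGroup (Fin n) := by
      obtain ⟨a, b, c, e, h1, -, -, -, -, h6, rfl⟩ := hD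
      rw [Equiv.Perm.mem_alternatingGroup, map_mul, Equiv.Perm.sign_swap h1, Equiv.Perm.sign_swap h6]
      rfl
    have h2 : g * ⟨d, hdA⟩ * g⁻¹ ∈ (P : Subgroup (alternatingGroup (Fin n))) := by
      rw [← hg, Sylow.coe_subgroup_smul]
      exact Subgroup.smul_mem_pointwise_smul _ (MulAut.conj g) _ (hP' hd)
    exact hP (Subgroup.mem_map.2 ⟨g * ⟨d, hdA⟩ * g⁻¹, h2, by simp⟩)
  set E := Cfsg.generalizedFittingSubgroup ↥H with hE
  haveI hEn : E.Normal := Subgroup.sup_normal _ _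
  have hcent : Subgroup.centralizer (E : Set ↥H) ≤ E := CfsgLib.Comp.centralizer_Fstar_le (G := ↥H)
  let c := MulAut.conj ((g : Equiv.Perm (Fin n))⁻¹)
  let e : ↥H ≃* ↥(H.map c.toMonoidHom) := c.subgroupMap H
  haveI : (E.map e.toMonoidHom).Normal := hEn.map _ e.surjective
  have hF' : Cfsg.IsQuasisimple ↥(E.map e.toMonoidHom) :=
    CfsgLib.Comp.isQuasisimple_of_equiv (E.equivMapOfInjective e.toMonoidHom e.injective) hF
  have hcent' : Subgroup.centralizer (E.map e.toMonoidHom : Set ↥(H.map c.toMonoidHom)) ≤ E.map e.toMonoidHom := by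
    intro y hy
    refine ⟨e.symm y, hcent (Subgroup.mem_centralizer_iff.2 fun u hu => e.injective ?_), e.apply_symm_apply y⟩
    rw [map_mul, map_mul, e.apply_symm_apply]
    exact Subgroup.mem_centralizer_iff.1 hy _ ⟨u, hu, rfl⟩
  have hmem : ∀ d : Equiv.Perm (Fin n), d ∈ AltOvergroupTwo.quadGroup n → AltOvergroupTwo.IsD d →
      d ∈ H.map c.toMonoidHom := fun d hd hD => ⟨_, hin d hd hD, by simp [c, MulAut.conj_apply, mul_assoc]⟩
  obtain ⟨m, h1, h2, ⟨φ⟩⟩ := AltOvergroupTwo.alternating_card_ge hn _ (E.map e.toMonoidHom) hF' hcent'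
    (fun i j hi hj hij => hmem _ (AltOvergroupTwo.cPair_mem_quadGroup hi hj hij)
      (AltOvergroupTwo.cPair_isD (by omega) (by omega) hij))
    (fun i hi => hmem _ (AltOvergroupTwo.qQuad_mem_quadGroup hi) (AltOvergroupTwo.qQuad_isD (by omega)))
  exact ⟨m, by omega, ⟨(E.equivMapOfInjective e.toMonoidHom e.injective).trans φ⟩⟩

end Cfsg.Agent.S2928
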