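import Cfsg.Statements.S2930
import Cfsg.Agent.ThreeMinAlt.Overgroups
import Cfsg.Agent.AutAlt.OddPart
import Cfsg.Agent.Comp.Basic

set_option autoImplicit false
open Cfsg

namespace Cfsg.Agent.S2930

open Equiv

/-- Let X be a finite 3-minimal group (a Sylow 3-subgroup is not normal and lies in a unique maximal subgroup) whose generalized Fitting subgroup is isomorphic to an alternating group of degree n ≥ 5. Then X = F*(X), and n = 6, n = 9, or n = 3ᵃ + 1 for some a ≥ 2. -/
theorem result {X : Type*} [Group X] [Finite X] (hX : Cfsg.IsPMinimal 3 X) (n : ℕ) (hn : 5 ≤ n) (hF : Nonempty (↥(Cfsg.generalizedFittingSubgroup X) ≃* ↥(alternatingGroup (Fin n)))) : Cfsg.generalizedFittingSubgroup X = ⊤ ∧ (n = 6 ∨ n = 9 ∨ ∃ a : ℕ, 2 ≤ a ∧ n = 3 ^ a + 1) := by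
  haveI : Fact (Nat.Prime 3) := ⟨by norm_num⟩
  obtain ⟨e⟩ := hF
  set E := Cfsg.generalizedFittingSubgroup X
  have hCE : Subgroup.centralizer (E : Set X) ≤ E := CfsgLib.Comp.centralizer_Fstar_le
  haveI hEn : E.Normal := CfsgLib.Comp.Fstar_normal
  set A := alternatingGroup (Fin n)
  let ψ : X →* MulAut A := (MulAut.congr e).toMonoidHom.comp MulAut.conjNormal
  have hψ : ∀ x a, ψ x a = e (MulAut.conjNormal x (e.symm a)) := fun x a => rfl
  have hψE : ∀ s : E, ψ (s : X) = MulAut.conjNormal ((e s : A) : Perm (Fin n)) := by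
    intro s
    refine MulEquiv.ext fun a => ?_
    have h1 : MulAut.conjNormal (s : X) (e.symm a) = s * e.symm a * s⁻¹ :=
      Subtype.ext (by simp [MulAut.conjNormal_apply])
    rw [hψ, h1]
    apply Subtype.ext
    simp [MulAut.conjNormal_apply]
  have hinj : Function.Injective ψ := by
    rw [injective_iff_map_eq_one]
    intro x hx
    have hfix : ∀ s : E, MulAut.conjNormal x s = s := by
      intro s
      have := congrArg (fun φ : MulAut A => e.symm (φ (e s))) hx
      simpa [hψ] using this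
    have hxE : x ∈ E := hCE (Subgroup.mem_centralizer_iff.2 fun s hs => by
      have := congrArg Subtype.val (hfix ⟨s, hs⟩)
      rw [MulAut.conjNormal_apply] at this
      exact (mul_inv_eq_iff_eq_mul.1 this).symm)
    have h1 := hψE ⟨x, hxE⟩
    simp only [hx] at h1
    have h2 : ((e ⟨x, hxE⟩ : A) : Perm (Fin n)) = 1 :=
      CfsgLib.AutAlt.conjNormal_injective hn (h1.symm.trans (map_one _).symm)
    have h3 : (⟨x, hxE⟩ : E) = 1 := e.injective ((Subtype.ext h2).trans (map_one e).symm)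
    exact congrArg Subtype.val h3
  have hodd : ∀ x : X, Odd (orderOf x) → x ∈ E := by
    intro x hx
    obtain ⟨σ, hσ⟩ := CfsgLib.AutAlt.mem_range_of_odd_order hn hx
      (show ψ x ^ orderOf x = 1 by rw [← map_pow, pow_orderOf_eq_one, map_one])
    have h1 : σ ^ orderOf x = 1 := CfsgLib.AutAlt.conjNormal_injective hn (by
      rw [map_pow, hσ, ← map_pow, pow_orderOf_eq_one, map_one, map_one])
    have h2 : σ ∈ A := Equiv.Perm.mem_alternatingGroup.2 (ThreeMinAlt.sign_eq_one_of_odd hx h1)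
    have h3 : x = (e.symm ⟨σ, h2⟩ : E) := hinj (by rw [hψE, MulEquiv.apply_symm_apply, hσ])
    rw [h3]
    exact SetLike.coe_mem _
  have htop : E = ⊤ := by
    by_contra hne
    obtain ⟨S⟩ : Nonempty (Sylow 3 X) := inferInstance
    have hSE : (S : Subgroup X) ≤ E := by
      intro x hx
      obtain ⟨k, hk⟩ := S.2 ⟨x, hx⟩
      have h1 : x ^ (3 ^ k) = 1 := by simpa using congrArg Subtype.val hk
      exact hodd x (Odd.of_dvd_nat ((by decide : Odd 3).pow) (orderOf_dvd_of_pow_eq_one h1))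
    obtain ⟨hSn, M, -, huniq⟩ := hX S
    obtain ⟨M1, hM1, hEM1⟩ := (eq_top_or_exists_le_coatom E).resolve_left hne
    obtain ⟨M2, hM2, hNM2⟩ := (eq_top_or_exists_le_coatom
      (Subgroup.normalizer ((S : Subgroup X) : Set X))).resolve_left
        (fun h => hSn (Subgroup.normalizer_eq_top_iff.1 h))
    have h12 : M1 = M2 := (huniq M1 ⟨hM1, hSE.trans hEM1⟩).trans
      (huniq M2 ⟨hM2, Subgroup.le_normalizer.trans hNM2⟩).symm
    have hmap : (S.subtype hSE : Subgroup E).map E.subtype = (S : Subgroup X) := by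
      simp [Subgroup.subgroupOf_map_subtype, hSE]
    have hF := Sylow.normalizer_sup_eq_top (S.subtype hSE)
    rw [hmap] at hF
    exact hM2.1 (eq_top_iff.2 (hF.ge.trans (sup_le hNM2 (h12 ▸ hEM1))))
  refine ⟨htop, ?_⟩
  by_contra hbad
  push Not at hbad
  obtain ⟨h6, h9, hp⟩ := hbad
  obtain ⟨P, H1, H2, hP1, hP2, hH1, hH2, hgen⟩ := ThreeMinAlt.exists_overgroups hn h6 h9 hp
  let φ : X ≃* A := (Subgroup.topEquiv.symm.trans (MulEquiv.subgroupCongr htop.symm)).trans e
  let S : Sylow 3 X := P.comapOfInjective φ.toMonoidHom φ.injective (fun a _ => φ.surjective a)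
  obtain ⟨-, M, hM, huniq⟩ := hX S
  have hcomap : ∀ H : Subgroup A, H ≠ ⊤ → (P : Subgroup A) ≤ H → H.comap φ.toMonoidHom ≤ M := by
    intro H hH hPH
    obtain ⟨M', hM', hle⟩ := (eq_top_or_exists_le_coatom (H.comap φ.toMonoidHom)).resolve_left (fun h => hH (by
      rw [eq_top_iff]
      intro a _
      obtain ⟨x, rfl⟩ := φ.surjective a
      exact (h ▸ Subgroup.mem_top x : x ∈ H.comap φ.toMonoidHom)))
    have hS : (S : Subgroup X) ≤ M' := (show (S : Subgroup X) ≤ H.comap φ.toMonoidHom from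
      Subgroup.comap_mono hPH).trans hle
    rwa [huniq M' ⟨hM', hS⟩] at hle
  apply hM.1.1
  rw [eq_top_iff]
  refine le_trans ?_ (sup_le (hcomap H1 hH1 hP1) (hcomap H2 hH2 hP2))
  rw [Subgroup.comap_sup_eq φ.toMonoidHom H1 H2 φ.surjective, hgen, Subgroup.comap_top]

end Cfsg.Agent.S2930
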