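import Cfsg.Statements.S2931
import Cfsg.Agent.LocalB.SylowEightIso
import Cfsg.Agent.Classical.SymplecticBlocks
import Cfsg.Agent.S0288
import Mathlib.GroupTheory.Sylow
import Mathlib.GroupTheory.SpecificGroups.Alternating
-- import your own Cfsg.Agent.* helpers here

set_option autoImplicit false
open Cfsg

namespace Cfsg.Agent.S2931

open CfsgLib.SylowEight Matrix

theorem nonempty_sylow_equiv {H A B : Type*} [Group H] [Group A] [Group B] [Finite A] [Finite B]
    (f : H →* A) (g : H →* B) (hker : f.ker = g.ker) (k r s : ℕ)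
    (hf : Nat.card f.range = 2 ^ k) (hr : ¬ 2 ∣ r) (hs : ¬ 2 ∣ s)
    (hA : Nat.card A = 2 ^ k * r) (hB : Nat.card B = 2 ^ k * s) (P : Sylow 2 A) (Q : Sylow 2 B) :
    Nonempty (↥(P : Subgroup A) ≃* ↥(Q : Subgroup B)) := by
  let e : f.range ≃* g.range := (QuotientGroup.quotientKerEquivRange f).symm.trans
    ((QuotientGroup.quotientMulEquivOfEq hker).trans (QuotientGroup.quotientKerEquivRange g))
  have hg : Nat.card g.range = 2 ^ k := by rw [← Nat.card_congr e.toEquiv, hf]
  have hfac : ∀ r : ℕ, ¬ 2 ∣ r → (2 ^ k * r).factorization 2 = k := fun r hr => by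
    have hr0 : r ≠ 0 := by
      rintro rfl
      exact hr (dvd_zero 2)
    rw [Nat.factorization_mul (by positivity) hr0, Finsupp.add_apply,
      Nat.Prime.factorization_pow Nat.prime_two, Finsupp.single_eq_same,
      Nat.factorization_eq_zero_of_not_dvd hr, add_zero]
  let P₀ : Sylow 2 A := Sylow.ofCard f.range (by rw [hf, hA, hfac r hr])
  let Q₀ : Sylow 2 B := Sylow.ofCard g.range (by rw [hg, hB, hfac s hs])
  exact ⟨((P.equiv P₀).trans e).trans (Q₀.equiv Q)⟩

theorem alt_gens_form : ∀ j < altData.gens.length,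
    (toMon 4 3 (altData.gen j)).2.submatrix idxFour idxFour * Matrix.J (Fin 2) (ZMod 3) *
      ((toMon 4 3 (altData.gen j)).2.submatrix idxFour idxFour)ᵀ = Matrix.J (Fin 2) (ZMod 3) := by
  decide +kernel

theorem alt_sign : ∀ i : Fin 128,
    Equiv.Perm.sign (alt_good.permHom (alt_good.point i)) = 1 := by
  decide +kernel

theorem alt_kernel_card : Fintype.card {i : Fin 128 // isId (altData.elt i).1 = true} = 2 := by
  decide +kernel

theorem sym_gens_form : ∀ j < symData.gens.length, ∀ v : (Fin 2 ⊕ Fin 2) ⊕ Fin 2 → ZMod 2,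
    Cfsg.quadFormMinus 2 (ZMod 2) 1 1 ((toMon 6 2 (symData.gen j)).2.submatrix idxSix idxSix *ᵥ v) =
      Cfsg.quadFormMinus 2 (ZMod 2) 1 1 v := by
  decide +kernel

/-- The Sylow 2-subgroups of the alternating group of degree 8 and of PSp₄(3) are isomorphic, and so are the Sylow 2-subgroups of the symmetric group of degree 8 and of the full isometry group of a non-degenerate quadratic form of minus type in dimension 6 over the field with 2 elements. -/
theorem result (F : Type) [Field F] [Fintype F] (hF : Fintype.card F = 3) (K : Type) [Field K] [Fintype K] (hK : Fintype.card K = 2) (a b : K) (hab : ∀ z₁ z₂ : K, z₁ ^ 2 + a * z₁ * z₂ + b * z₂ ^ 2 = 0 → z₁ = 0 ∧ z₂ = 0) (P : Sylow 2 ↥(alternatingGroup (Fin 8))) (Q : Sylow 2 (Cfsg.PSp 2 F)) (P' : Sylow 2 (Equiv.Perm (Fin 8))) (Q' : Sylow 2 ↥(Cfsg.isometryGroup K (Cfsg.quadFormMinus 2 K a b))) : Nonempty (↥(P : Subgroup ↥(alternatingGroup (Fin 8))) ≃* ↥(Q : Subgroup (Cfsg.PSp 2 F))) ∧ Nonempty (↥(P' : Subgroup (Equiv.Perm (Fin 8))) ≃* ↥(Q' : Subgroup ↥(Cfsg.isometryGroup K (Cfsg.quadFormMinus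 2 K a b)))) := by
  classical
  have h2 : Fact (Nat.Prime 2) := ⟨Nat.prime_two⟩
  haveI : Fact (Nat.Prime 3) := ⟨Nat.prime_three⟩
  constructor
  · -- the table over the field with three elements
    haveI : CharP F 3 := charP_of_card_eq_prime hF
    let e : ZMod 3 →+* F := ZMod.castHom dvd_rfl F
    have he : Function.Injective e := e.injective
    let R : Mon 4 3 → Matrix (Fin 2 ⊕ Fin 2) (Fin 2 ⊕ Fin 2) (ZMod 3) := fun m =>
      m.2.submatrix idxFour idxFour
    have hR1 : R 1 = 1 := Matrix.submatrix_one_equiv idxFour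
    have hRm : ∀ a b, R (a * b) = R a * R b := fun a b =>
      (Matrix.submatrix_mul_equiv a.2 b.2 idxFour idxFour idxFour).symm
    have hgen := alt_gens_form
    have hJ : ∀ u : alt_good.group,
        R ((u : (Mon 4 3)ˣ) : Mon 4 3) * Matrix.J (Fin 2) (ZMod 3) *
          (R ((u : (Mon 4 3)ˣ) : Mon 4 3))ᵀ = Matrix.J (Fin 2) (ZMod 3) := fun u => by
      refine alt_good.induction (fun m => R m * Matrix.J (Fin 2) (ZMod 3) * (R m)ᵀ =
        Matrix.J (Fin 2) (ZMod 3)) ?_ ?_ hgen u
      · rw [hR1, one_mul, Matrix.transpose_one, mul_one]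
      · intro a b ha hb
        rw [hRm, Matrix.transpose_mul]
        calc R a * R b * Matrix.J (Fin 2) (ZMod 3) * ((R b)ᵀ * (R a)ᵀ)
            = R a * (R b * Matrix.J (Fin 2) (ZMod 3) * (R b)ᵀ) * (R a)ᵀ := by
              simp only [mul_assoc]
          _ = _ := by rw [hb, ha]
    have hmap : (Matrix.J (Fin 2) (ZMod 3)).map e = Matrix.J (Fin 2) F := by
      ext (i | i) (j | j) <;> simp [Matrix.J, Matrix.one_apply, apply_ite e]
    let toMat : alt_good.group →* Matrix (Fin 2 ⊕ Fin 2) (Fin 2 ⊕ Fin 2) F :=
      { toFun := fun u => e.mapMatrix (R ((u : (Mon 4 3)ˣ) : Mon 4 3))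
        map_one' := by
          show e.mapMatrix (R 1) = 1
          rw [hR1, map_one]
        map_mul' := fun u v => by
          show e.mapMatrix (R (_ * _)) = _
          rw [hRm, map_mul] }
    have hmem : ∀ u, toMat u ∈ Matrix.symplecticGroup (Fin 2) F := by
      intro u
      rw [SymplecticGroup.mem_iff]
      have h := congrArg (e.mapMatrix) (hJ u)
      simp only [map_mul, RingHom.mapMatrix_apply, hmap] at h
      simp only [toMat, MonoidHom.coe_mk, OneHom.coe_mk, RingHom.mapMatrix_apply, ← Matrix.transpose_map]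
      exact h
    let g : alt_good.group →* Cfsg.PSp 2 F :=
      (QuotientGroup.mk' (Subgroup.center (Matrix.symplecticGroup (Fin 2) F))).comp
        (toMat.codRestrict (Matrix.symplecticGroup (Fin 2) F) hmem)
    have hsign := alt_sign
    have hev : ∀ u, alt_good.permHom u ∈ alternatingGroup (Fin 8) := by
      intro u
      obtain ⟨i, rfl⟩ := alt_good.point_surjective u
      exact Equiv.Perm.mem_alternatingGroup.2 (hsign i)
    let f : alt_good.group →* ↥(alternatingGroup (Fin 8)) := alt_good.permHom.codRestrict _ hev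
    have hker : f.ker = g.ker := by
      ext u
      obtain ⟨i, rfl⟩ := alt_good.point_surjective u
      rw [MonoidHom.mem_ker, MonoidHom.mem_ker]
      have hl : f (alt_good.point i) = 1 ↔ isId (altData.elt i).1 = true := by
        rw [← toF_eq_one, Subtype.ext_iff, Equiv.ext_iff]
        constructor
        · exact fun h => funext h
        · exact fun h x => congrFun h x
      have hr : g (alt_good.point i) = 1 ↔
          (isScalar 4 3 1 (altData.elt i).2 || isScalar 4 3 2 (altData.elt i).2) = true := by
        rw [Bool.or_eq_true, ← toM_eq_scalar (by omega), ← toM_eq_scalar (by omega)]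
        simp only [g, MonoidHom.comp_apply, QuotientGroup.mk'_apply, QuotientGroup.eq_one_iff,
          CfsgLib.Symp.mem_center_iff, MonoidHom.codRestrict_apply]
        show e.mapMatrix (R (toMon 4 3 (altData.elt i))) = 1 ∨
          e.mapMatrix (R (toMon 4 3 (altData.elt i))) = -1 ↔ _
        rw [← map_one e.mapMatrix, ← map_neg e.mapMatrix]
        simp only [RingHom.mapMatrix_apply]
        rw [(Matrix.map_injective he).eq_iff,
          (Matrix.map_injective he).eq_iff]
        have h1 : ((1 : ℕ) : ZMod 3) = 1 := rfl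
        have h2 : ((2 : ℕ) : ZMod 3) = -1 := rfl
        rw [h1, h2, Matrix.diagonal_one, ← Matrix.diagonal_neg, Matrix.diagonal_one]
        have hinj : Function.Injective fun A : Matrix (Fin 4) (Fin 4) (ZMod 3) =>
            A.submatrix idxFour idxFour := (Matrix.reindex idxFour.symm idxFour.symm).injective
        constructor
        · rintro (h | h)
          · exact Or.inl (hinj (h.trans hR1.symm))
          · exact Or.inr (hinj (h.trans (by
              show (-1 : Matrix (Fin 2 ⊕ Fin 2) (Fin 2 ⊕ Fin 2) (ZMod 3)) = -((1 : Matrix _ _ (ZMod 3)).submatrix idxFour idxFour)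
              rw [Matrix.submatrix_one_equiv])))
        · rintro (h | h)
          · exact Or.inl (by show (toM 4 3 _).submatrix idxFour idxFour = 1; rw [h, Matrix.submatrix_one_equiv])
          · exact Or.inr (by
              show (toM 4 3 _).submatrix idxFour idxFour = -1
              rw [h]
              show -((1 : Matrix _ _ (ZMod 3)).submatrix idxFour idxFour) = _
              rw [Matrix.submatrix_one_equiv])
      rw [hl, hr, alt_ker i i.2]
    have hcard : Nat.card f.range = 2 ^ 6 := by
      have hN := alt_good.card_group (injective_of_keys alt_keys)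
      have h1 := f.ker.card_mul_index
      rw [Subgroup.index_ker, hN] at h1
      have h2 : Nat.card f.ker = 2 := by
        have hb : Function.Bijective fun i : {i : Fin 128 // isId (altData.elt i).1 = true} =>
            (⟨alt_good.point i.1, by
              rw [MonoidHom.mem_ker]
              exact Subtype.ext (Equiv.ext fun x => congrFun (toF_eq_one.2 i.2) x)⟩ : f.ker) := by
          constructor
          · intro i j h
            exact Subtype.ext (injective_of_keys alt_keys
              (congrArg (fun u : f.ker => (((u : alt_good.group) : (Mon 4 3)ˣ) : Mon 4 3)) h))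
          · rintro ⟨u, hu⟩
            obtain ⟨i, rfl⟩ := alt_good.point_surjective u
            refine ⟨⟨i, toF_eq_one.1 ?_⟩, rfl⟩
            funext x
            exact congrFun (congrArg DFunLike.coe (congrArg Subtype.val (MonoidHom.mem_ker.1 hu))) x
        rw [← Nat.card_eq_of_bijective _ hb, Nat.card_eq_fintype_card]
        exact alt_kernel_card
      rw [h2] at h1
      omega
    refine nonempty_sylow_equiv f g hker 6 315 405 hcard (by omega) (by omega) ?_ ?_ P Q
    · rw [nat_card_alternatingGroup, Nat.card_fin]; decide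
    · have hK : Nat.card F = 3 := Nat.card_eq_fintype_card.trans hF
      have h1 := CfsgLib.Symp.card_Sp (F := F) 2
      rw [Subgroup.card_eq_card_quotient_mul_card_subgroup (Subgroup.center (Matrix.symplecticGroup (Fin 2) F)),
        CfsgLib.Symp.card_center, hK, Finset.prod_range_succ, Finset.prod_range_one] at h1
      norm_num [-Nat.card_eq_fintype_card] at h1
      unfold Cfsg.PSp
      omega
  · -- the table over the field with two elements
    obtain ⟨ha, hb⟩ : a = 1 ∧ b = 1 := by
      have two : ∀ x : K, x = 0 ∨ x = 1 := by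
        intro x
        by_contra hx
        push Not at hx
        have h3 : ({0, 1, x} : Finset K).card = 3 := by
          rw [Finset.card_insert_of_notMem (by simp [hx.1.symm]),
            Finset.card_insert_of_notMem (by simp [hx.2.symm]), Finset.card_singleton]
        have := Finset.card_le_univ ({0, 1, x} : Finset K)
        omega
      have hb : b = 1 := (two b).resolve_left fun h =>
        one_ne_zero (hab 0 1 (by rw [h]; ring)).2
      refine ⟨(two a).resolve_left fun h => one_ne_zero (hab 1 1 ?_).1, hb⟩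
      rw [h, hb]
      have h2 : ((Fintype.card K : ℕ) : K) = 0 := Nat.cast_card_eq_zero K
      rw [hK] at h2
      push_cast at h2
      linear_combination h2
    subst ha hb
    haveI : CharP K 2 := charP_of_card_eq_prime hK
    let e : ZMod 2 →+* K := ZMod.castHom dvd_rfl K
    have he : Function.Bijective e := (Fintype.bijective_iff_injective_and_card _).2
      ⟨e.injective, by rw [ZMod.card, hK]⟩
    let R : Mon 6 2 → Matrix ((Fin 2 ⊕ Fin 2) ⊕ Fin 2) ((Fin 2 ⊕ Fin 2) ⊕ Fin 2) (ZMod 2) := fun m =>
      m.2.submatrix idxSix idxSix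
    have hR1 : R 1 = 1 := Matrix.submatrix_one_equiv idxSix
    have hRm : ∀ a b, R (a * b) = R a * R b := fun a b =>
      (Matrix.submatrix_mul_equiv a.2 b.2 idxSix idxSix idxSix).symm
    have hQ : ∀ u : sym_good.group, ∀ v,
        Cfsg.quadFormMinus 2 (ZMod 2) 1 1 (R ((u : (Mon 6 2)ˣ) : Mon 6 2) *ᵥ v) =
          Cfsg.quadFormMinus 2 (ZMod 2) 1 1 v := fun u => by
      refine sym_good.induction (fun m => ∀ v, Cfsg.quadFormMinus 2 (ZMod 2) 1 1 (R m *ᵥ v) =
        Cfsg.quadFormMinus 2 (ZMod 2) 1 1 v) ?_ ?_ sym_gens_form u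
      · intro v; rw [hR1, Matrix.one_mulVec]
      · intro a b ha hb v
        rw [hRm, ← Matrix.mulVec_mulVec, ha, hb]
    let toMat : sym_good.group →* Matrix ((Fin 2 ⊕ Fin 2) ⊕ Fin 2) ((Fin 2 ⊕ Fin 2) ⊕ Fin 2) K :=
      { toFun := fun u => e.mapMatrix (R ((u : (Mon 6 2)ˣ) : Mon 6 2))
        map_one' := by
          show e.mapMatrix (R 1) = 1
          rw [hR1, map_one]
        map_mul' := fun u v => by
          show e.mapMatrix (R (_ * _)) = _
          rw [hRm, map_mul] }
    have hmem : ∀ u, toMat.toHomUnits u ∈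
        Cfsg.isometryGroup K (Cfsg.quadFormMinus 2 K (1 : K) 1) := by
      intro u x _
      obtain ⟨w, rfl⟩ : ∃ w, x = e ∘ w := ⟨fun i => (RingEquiv.ofBijective e he).symm (x i), by
        funext i; exact ((RingEquiv.ofBijective e he).apply_symm_apply _).symm⟩
      have hQe : ∀ w, Cfsg.quadFormMinus 2 K (1 : K) 1 (e ∘ w) =
          e (Cfsg.quadFormMinus 2 (ZMod 2) 1 1 w) := fun w => by
        simp only [Cfsg.quadFormMinus, Function.comp_apply, map_add, map_sum, map_mul, map_pow, map_one]
      show Cfsg.quadFormMinus 2 K (1 : K) 1 (e.mapMatrix (R _) *ᵥ (e ∘ w)) = _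
      beta_reduce
      rw [hQe w, ← hQ u w, ← hQe]
      congr 1
      funext i
      exact (RingHom.map_mulVec e _ w i).symm
    let g : sym_good.group →* ↥(Cfsg.isometryGroup K (Cfsg.quadFormMinus 2 K (1 : K) 1)) :=
      toMat.toHomUnits.codRestrict _ hmem
    have hf0 : ∀ i : Fin 128, sym_good.permHom (sym_good.point i) = 1 → i.1 = 0 := fun i h =>
      (sym_ker i i.2).1 (toF_eq_one.1 (funext fun x => congrFun (congrArg DFunLike.coe h) x))
    have hker : sym_good.permHom.ker = g.ker := by
      ext u
      obtain ⟨i, rfl⟩ := sym_good.point_surjective u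
      rw [MonoidHom.mem_ker, MonoidHom.mem_ker]
      have h0 : ∀ hi : i.1 = 0, sym_good.point i = 1 := fun hi => Subtype.ext (Units.ext (by
        show symData.val 6 2 i = 1
        rw [hi, sym_good.one]))
      constructor
      · intro h; rw [h0 (hf0 i h), map_one]
      · intro h
        rw [h0 ((sym_ker i i.2).2 ((toM_eq_scalar (by omega)).1 ?_)), map_one]
        rw [Nat.cast_one, Matrix.diagonal_one]
        have h1 : e.mapMatrix (R (toMon 6 2 (symData.elt i))) = 1 :=
          congrArg (fun v : ↥(Cfsg.isometryGroup K (Cfsg.quadFormMinus 2 K (1 : K) 1)) =>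
            ((v : Matrix.GeneralLinearGroup ((Fin 2 ⊕ Fin 2) ⊕ Fin 2) K) :
              Matrix ((Fin 2 ⊕ Fin 2) ⊕ Fin 2) ((Fin 2 ⊕ Fin 2) ⊕ Fin 2) K)) h
        rw [← map_one e.mapMatrix] at h1
        have h2 := Matrix.map_injective he.1 h1
        exact (Matrix.reindex idxSix.symm idxSix.symm).injective (h2.trans hR1.symm)
    have hcard : Nat.card sym_good.permHom.range = 2 ^ 7 := by
      have hinj : Function.Injective sym_good.permHom := by
        rw [← MonoidHom.ker_eq_bot_iff, Subgroup.eq_bot_iff_forall]
        intro u hu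
        obtain ⟨i, rfl⟩ := sym_good.point_surjective u
        refine Subtype.ext (Units.ext ?_)
        show symData.val 6 2 i = 1
        rw [hf0 i hu, sym_good.one]
      rw [← Nat.card_congr (MonoidHom.ofInjective hinj).toEquiv,
        sym_good.card_group (injective_of_keys sym_keys)]
      rfl
    refine nonempty_sylow_equiv sym_good.permHom g hker 7 315 405 hcard (by omega) (by omega) ?_ ?_ P' Q'
    · rw [Nat.card_perm, Nat.card_fin]; decide
    · have h1 := Cfsg.Agent.S0288.result hK 3 (by omega) (1 : K) 1 hab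
      rw [h1]
      simp [Finset.prod_range_succ]

end Cfsg.Agent.S2931
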