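import Cfsg.Statements.S2933
import Cfsg.Agent.LocalB.FpfThreeTwoStd
import Cfsg.Agent.LocalB.SixtyFourModels
-- import your own Cfsg.Agent.* helpers here

set_option autoImplicit false
open Cfsg

namespace Cfsg.Agent.S2933

/-- Let T be a 2-subgroup of a finite group G, V ≤ Z(T) a four-group, and t, ρ ∈ N_G(V) ∩ N_G(T) elements of order 2 and 3 with t commuting with ρ and with V. If [V, ρ] = V and C_T(t) = V, then T is elementary abelian of order 16, or homocyclic of rank 2 (ℤ/2ⁿ × ℤ/2ⁿ for some n ≥ 1), or isomorphic to a Sylow 2-subgroup of PSL₃(4) or of PSU₃(4). -/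
theorem result {G : Type*} [Group G] [Finite G] (T V : Subgroup G) (hT : IsPGroup 2 ↥T) (hVT : V ≤ T ⊓ Subgroup.centralizer (T : Set G)) (hV : Nat.card ↥V = 4 ∧ ∀ v ∈ V, v ^ 2 = 1) (t ρ : G) (ht : orderOf t = 2) (hρ : orderOf ρ = 3) (htn : t ∈ Subgroup.normalizer (V : Set G) ⊓ Subgroup.normalizer (T : Set G)) (hρn : ρ ∈ Subgroup.normalizer (V : Set G) ⊓ Subgroup.normalizer (T : Set G)) (htρ : t * ρ = ρ * t) (htV : t ∈ Subgroup.centralizer (V : Set G)) (hVρ : ⁅V, Subgroup.zpowers ρ⁆ = V) (hCt : T ⊓ Subgroup.centralizer ({t} : Set G) = V) : (Nat.card ↥T = 16 ∧ ∀ x ∈ T, x ^ 2 = 1) ∨ (∃ n : ℕ, 1 ≤ n ∧ Nonempty (↥T ≃* Multiplicative (ZMod (2 ^ n)) × Multiplicative (ZMod (2 ^ n)))) ∨ (∃ (F : Type) (_ : Field F) (_ : Fintype F), Fintype.card F = 4 ∧ ∀ P : Sylow 2 (Matrix.ProjectiveSpecialLinearGroup (Fin 3) F), Nonempty (↥T ≃* ↥(P : Subgroup (Matrix.ProjectiveSpecialLinearGroup (Fin 3) F)))) ∨ (∃ (F : Type) (_ : Field F) (_ :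 Fintype F), Fintype.card F = 16 ∧ ∀ P : Sylow 2 (Cfsg.PSU 3 F 4), Nonempty (↥T ≃* ↥(P : Subgroup (Cfsg.PSU 3 F 4)))) := by
  classical
  haveI : Fact (Nat.Prime 2) := ⟨Nat.prime_two⟩
  have hρT := hρn.2
  have htT := htn.2
  let r : ↥T ≃* ↥T := T.normalizerMonoidHom ⟨ρ, hρT⟩
  let s : ↥T ≃* ↥T := T.normalizerMonoidHom ⟨t, htT⟩
  have hr : ∀ x : ↥T, (r x : G) = ρ * x * ρ⁻¹ := fun x => rfl
  have hs : ∀ x : ↥T, (s x : G) = t * x * t⁻¹ := fun x => rfl
  have hρ3 : ρ ^ 3 = 1 := hρ ▸ pow_orderOf_eq_one ρ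
  have ht2 : t ^ 2 = 1 := ht ▸ pow_orderOf_eq_one t
  have r3 : ∀ x, r (r (r x)) = x := fun x => Subtype.ext (by
    simp only [hr]
    calc ρ * (ρ * (ρ * (x : G) * ρ⁻¹) * ρ⁻¹) * ρ⁻¹ = ρ ^ 3 * (x : G) * (ρ ^ 3)⁻¹ := by simp only [pow_succ, pow_zero, one_mul, mul_inv_rev, mul_assoc]
      _ = x := by rw [hρ3]; simp)
  have s2 : ∀ x, s (s x) = x := fun x => Subtype.ext (by
    simp only [hs]
    calc t * (t * (x : G) * t⁻¹) * t⁻¹ = t ^ 2 * (x : G) * (t ^ 2)⁻¹ := by simp only [pow_succ, pow_zero, one_mul, mul_inv_rev, mul_assoc]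
      _ = x := by rw [ht2]; simp)
  have hcomm : ∀ x, r (s x) = s (r x) := fun x => Subtype.ext (by
    simp only [hr, hs]
    calc ρ * (t * (x : G) * t⁻¹) * ρ⁻¹ = (ρ * t) * (x : G) * (ρ * t)⁻¹ := by group
      _ = (t * ρ) * (x : G) * (t * ρ)⁻¹ := by rw [htρ]
      _ = _ := by group)
  have hfixV : ∀ x : ↥T, s x = x ↔ (x : G) ∈ V := by
    intro x
    rw [← Subtype.coe_inj, hs, mul_inv_eq_iff_eq_mul]
    constructor
    · intro h
      rw [← hCt]
      exact Subgroup.mem_inf.2 ⟨x.2, Subgroup.mem_centralizer_singleton_iff.2 h.symm⟩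
    · intro h
      rw [← hCt] at h
      exact (Subgroup.mem_centralizer_singleton_iff.1 h.2).symm
  have hVT' : V ≤ T := fun v hv => (hVT hv).1
  have hfix4 : Nat.card (CfsgLib.FpfThreeTwo.fix s) = 4 := by
    rw [← hV.1]
    exact Nat.card_congr
      { toFun := fun x => ⟨((x : ↥T) : G), (hfixV _).1 x.2⟩
        invFun := fun v => ⟨⟨(v : G), hVT' v.2⟩, (hfixV _).2 v.2⟩
        left_inv := fun x => rfl
        right_inv := fun v => rfl }
  -- `ρ` fixes no nontrivial element of `V`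
  have hVfpf : ∀ v ∈ V, ρ * v * ρ⁻¹ = v → v = 1 := by
    intro v hv hfix
    by_contra hv1
    have hall : ∀ x ∈ V, ρ * x * ρ⁻¹ = x := by
      intro x hx
      by_contra hne
      have hx1 : x ≠ 1 := fun h => hne (by rw [h]; simp)
      have hxv : x ≠ v := fun h => hne (by rw [h]; exact hfix)
      have hρx : ρ * x * ρ⁻¹ ∈ V := (Subgroup.mem_normalizer_iff.1 hρn.1 x).1 hx
      have hvx : v * x ≠ 1 := fun h => hxv (by
        rw [eq_inv_of_mul_eq_one_right h, inv_eq_of_mul_eq_one_right (by rw [← pow_two]; exact hV.2 v hv)])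
      letI : Fintype ↥V := Fintype.ofFinite _
      let S : Finset ↥V := {1, ⟨v, hv⟩, ⟨x, hx⟩, ⟨v * x, V.mul_mem hv hx⟩}
      have hS : S = Finset.univ := by
        refine Finset.eq_univ_of_card _ ?_
        rw [← Nat.card_eq_fintype_card, hV.1]
        rw [Finset.card_insert_of_notMem, Finset.card_insert_of_notMem, Finset.card_pair]
        · simp [Subtype.ext_iff, hv1]
        · simp [Subtype.ext_iff, hxv.symm, hx1]
        · simp [Subtype.ext_iff, hv1, hx1, hvx, Ne.symm hv1, Ne.symm hx1, Ne.symm hvx]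
      have hmem : (⟨ρ * x * ρ⁻¹, hρx⟩ : ↥V) ∈ S := hS ▸ Finset.mem_univ _
      simp only [S, Finset.mem_insert, Finset.mem_singleton, Subtype.ext_iff] at hmem
      rcases hmem with h | h | h | h
      · exact hx1 (conj_eq_one_iff.1 h)
      · exact hxv (mul_left_cancel (mul_right_cancel (h.trans hfix.symm)))
      · exact hne h
      · have h3 : ρ ^ 3 * x * (ρ ^ 3)⁻¹ = v * (v * (v * x)) := by
          calc ρ ^ 3 * x * (ρ ^ 3)⁻¹ = ρ * (ρ * (ρ * x * ρ⁻¹) * ρ⁻¹) * ρ⁻¹ := by simp only [pow_succ, pow_zero, one_mul, mul_inv_rev, mul_assoc]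
            _ = ρ * (ρ * (v * x) * ρ⁻¹) * ρ⁻¹ := by rw [h]
            _ = ρ * (ρ * v * ρ⁻¹ * (ρ * x * ρ⁻¹)) * ρ⁻¹ := by group
            _ = ρ * (v * (v * x)) * ρ⁻¹ := by rw [hfix, h]
            _ = (ρ * v * ρ⁻¹) * ((ρ * v * ρ⁻¹) * (ρ * x * ρ⁻¹)) := by group
            _ = _ := by rw [hfix, h]
        rw [hρ3, one_mul, inv_one, mul_one, ← mul_assoc v v, ← pow_two, hV.2 v hv, one_mul] at h3
        exact hv1 (right_eq_mul.1 h3)
    have hbot : ⁅V, Subgroup.zpowers ρ⁆ = ⊥ := by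
      rw [Subgroup.commutator_eq_bot_iff_le_centralizer]
      intro x hx
      rw [Subgroup.mem_centralizer_iff]
      intro y hy
      obtain ⟨k, rfl⟩ := Subgroup.mem_zpowers_iff.1 hy
      have h : Commute ρ x := mul_inv_eq_iff_eq_mul.1 (hall x hx)
      exact (h.zpow_left k).eq
    rw [hbot] at hVρ
    rw [← hVρ, Subgroup.mem_bot] at hv
    exact hv1 hv
  haveI : Finite ↥T := inferInstance
  have rfpf : ∀ x, r x = x → x = 1 := by
    intro x hx
    by_contra hx1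
    let W : Subgroup ↥T := CfsgLib.FpfThreeTwo.fix r
    haveI : Nontrivial W := ⟨⟨⟨x, hx⟩, 1, fun h => hx1 (congrArg Subtype.val h)⟩⟩
    obtain ⟨v, hv1, hv⟩ := CfsgLib.FpfThreeTwo.exists_fixed_involutive (hT.to_subgroup W)
      (fun w : W => (⟨s w, by
        show r (s w) = s w
        rw [hcomm, show r (w : ↥T) = w from w.2]⟩ : W))
      (fun a b => Subtype.ext (map_mul s (a : ↥T) b)) (fun a => Subtype.ext (s2 _))
    have hvV := (hfixV _).1 (congrArg Subtype.val hv)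
    have h := hVfpf _ hvV (by rw [← hr]; exact congrArg Subtype.val (v.2 : r (v : ↥T) = v))
    exact hv1 (Subtype.ext (Subtype.ext h))
  have C : CfsgLib.FpfThreeTwo.Cfg r s := ⟨inferInstance, hT, r3, rfpf, s2, hcomm, hfix4⟩
  rcases CfsgLib.FpfThreeTwo.Cfg.cases _ C rfl with hab | hN
  · rcases C.abelian_cases hab with ⟨h16, hsq⟩ | ⟨n, hn, hiso, -⟩
    · refine Or.inl ⟨h16, fun x hx => ?_⟩
      rw [pow_two]
      exact congrArg Subtype.val (hsq ⟨x, hx⟩)
    · exact Or.inr (Or.inl ⟨n, hn, hiso⟩)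
  · obtain ⟨iso, R, htop, hR⟩ := hN.exists_rel C
    cases iso
    · refine Or.inr (Or.inr (Or.inr ?_))
      let F := GaloisField 2 4
      letI : Fintype F := Fintype.ofFinite F
      have hF : Fintype.card F = 16 := by
        rw [← Nat.card_eq_fintype_card, GaloisField.card 2 4 (by norm_num)]; rfl
      refine ⟨F, inferInstance, inferInstance, hF, fun P => ?_⟩
      obtain ⟨Q, hQ⟩ := CfsgLib.SixtyFour.exists_rel_psu hF
      exact R.sylow_equiv Q hR hQ htop (m := 975) (by norm_num) (CfsgLib.SixtyFour.card_psu_three_four hF) P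
    · refine Or.inr (Or.inr (Or.inl ?_))
      let F := GaloisField 2 2
      letI : Fintype F := Fintype.ofFinite F
      have hF : Fintype.card F = 4 := by
        rw [← Nat.card_eq_fintype_card, GaloisField.card 2 2 (by norm_num)]; rfl
      refine ⟨F, inferInstance, inferInstance, hF, fun P => ?_⟩
      obtain ⟨Q, hQ⟩ := CfsgLib.SixtyFour.exists_rel_psl hF
      exact R.sylow_equiv Q hR hQ htop (m := 315) (by norm_num) (CfsgLib.SixtyFour.card_psl_three_four hF) P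

end Cfsg.Agent.S2933
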