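import Cfsg.Statements.S2939
import Cfsg.Agent.LocalB.SylowControl

set_option autoImplicit false
set_option linter.unusedVariables false
open Cfsg CfsgLib.LocalB.SylowControl

namespace Cfsg.Agent.S2939

/-- Let p be a prime dividing the order of the finite group G and 𝓕 a family of subgroups of G closed under conjugation, with conjugates taken as X^g = g⁻¹Xg. Then 𝓕 controls Sylow p-intersections in G (any two distinct Sylow p-subgroups S and T with S ∩ T ≠ 1 are joined by a chain S = S₀, S₁, …, Sₙ = T of Sylow p-subgroups where, for each i, some member Xᵢ of 𝓕 meets both S_{i-1} and Sᵢ in Sylow p-subgroups of Xᵢ, satisfies S ∩ T ≤ Sᵢ ∩ Xᵢ, and contains an element xᵢ with Sᵢ^{xᵢ} = S_{i-1}) if and only if 𝓕 strongly controls p-fusion in G (whenever A is a subset of a Sylow p-subgroup S, A contains an element other than 1, and A^g ⊆ S, the element g factorises as g = y₁⋯yₙy with y ∈ N_G(S) and each yᵢ in a member Yᵢ of 𝓕 that meets S in a Sylow p-subgroup of Yᵢ, with A^{y₁⋯yᵢ} ⊆ S ∩ Yᵢ for each i). -/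
theorem result {G : Type*} [Group G] [Finite G] {p : ℕ} [Fact p.Prime] (hdiv : p ∣ Nat.card G) (𝓕 : Set (Subgroup G)) (h𝓕 : Cfsg.IsNormalSet 𝓕) : Cfsg.ControlsSylowIntersections p 𝓕 ↔ Cfsg.FamilyStronglyControlsFusion p 𝓕 := by
  constructor
  · intro hctrl S A g hAS hA1 hgA
    set T : Sylow p G := g • S with hT
    set D := (S : Subgroup G) ⊓ (T : Subgroup G) with hD
    have hAD : A ⊆ (D : Set G) := fun a ha =>
      ⟨hAS ha, mem_smul_sylow.2 (hgA ⟨a, ha, rfl⟩)⟩
    have hDne : D ≠ ⊥ := by
      obtain ⟨a, ha, ha1⟩ := hA1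
      intro e
      exact ha1 (Subgroup.mem_bot.1 (e ▸ hAD ha))
    have hchain := link_of_controls hctrl (inf_le_left : D ≤ S) (inf_le_right : D ≤ T) hDne
    have key : ∀ U, Relation.ReflTransGen (Link p 𝓕 D) S U →
        ∃ (n : ℕ) (Y : Fin n → Subgroup G) (y : Fin n → G),
          (∀ i : Fin n, Y i ∈ Cfsg.sylowMembers p 𝓕 (S : Subgroup G) ∧ y i ∈ Y i) ∧
          (U : Sylow p G) = (List.ofFn y).prod • S ∧
          ∀ i : Fin n, conjRight (((List.ofFn y).take (i.val + 1)).prod) A ⊆ (S : Set G) ∩ (Y i : Set G) := by
      intro U hU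
      induction hU with
      | refl => exact ⟨0, Fin.elim0, Fin.elim0, fun i => i.elim0, by simp, fun i => i.elim0⟩
      | @tail U V _ hl ih =>
        obtain ⟨n, Y, y, hY, hUS, htake⟩ := ih
        obtain ⟨X, hXU, hXV, ⟨x, hx, hxe⟩, hDU, hDV, hDX⟩ := hl
        set z := (List.ofFn y).prod with hz
        have hVU : V = x • U := by
          rw [← inv_smul_eq_iff]
          exact Sylow.ext hxe
        refine ⟨n + 1, Fin.snoc Y (Cfsg.subgroupConjRight z X), Fin.snoc y (z⁻¹ * x * z), ?_, ?_, ?_⟩
        · intro i
          refine Fin.lastCases ?_ (fun j => ?_) i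
          · simp only [Fin.snoc_last]
            refine ⟨?_, mem_conjRight.2 (by simpa [mul_assoc] using hx)⟩
            have := sylowMembers_conj h𝓕 hXU z
            rwa [hUS, inv_smul_smul] at this
          · simp only [Fin.snoc_castSucc]; exact hY j
        · rw [List.ofFn_succ', List.concat_eq_append, List.prod_append, List.prod_singleton]
          simp only [Fin.snoc_last, Fin.snoc_castSucc]
          rw [← hz, hVU, hUS, smul_smul, show z * (z⁻¹ * x * z) = x * z by group]
        · intro i
          have hof : List.ofFn (Fin.snoc y (z⁻¹ * x * z)) = List.ofFn y ++ [z⁻¹ * x * z] := by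
            rw [List.ofFn_succ', List.concat_eq_append]
            simp only [Fin.snoc_last, Fin.snoc_castSucc]
          refine Fin.lastCases ?_ (fun j => ?_) i
          · rw [hof, List.take_of_length_le (by simp), List.prod_append, List.prod_singleton, ← hz,
              show z * (z⁻¹ * x * z) = x * z by group]
            simp only [Fin.snoc_last]
            rintro _ ⟨a, ha, rfl⟩
            have hav := hDV (hAD ha)
            rw [hVU, hUS, smul_smul] at hav
            refine ⟨mem_smul_sylow.1 hav, mem_conjRight.2 ?_⟩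
            have := mul_mem (mul_mem (X.inv_mem hx) (hDX (hAD ha))) hx
            simpa [mul_assoc] using this
          · rw [hof, List.take_append_of_le_length (by simp)]
            simp only [Fin.snoc_castSucc, Fin.val_castSucc]
            exact htake j
    obtain ⟨n, Y, y, hY, hTS, htake⟩ := key T hchain
    refine ⟨n, Y, y, (List.ofFn y).prod⁻¹ * g, ?_, hY, by rw [mul_inv_cancel_left], htake⟩
    refine Sylow.smul_eq_iff_mem_normalizer.1 ?_
    rw [mul_smul, ← hT, hTS, inv_smul_smul]
  · intro hfus
    refine controls_of fun S T hne hbot => ?_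
    set D := (S : Subgroup G) ⊓ (T : Subgroup G) with hD
    obtain ⟨g, hg⟩ := MulAction.exists_smul_eq G S T
    have hgD : conjRight g (D : Set G) ⊆ (S : Set G) := by
      rintro _ ⟨a, ha, rfl⟩
      have := ha.2
      rw [← hg] at this
      exact mem_smul_sylow.1 this
    obtain ⟨a, ha, ha1⟩ : ∃ a ∈ D, a ≠ 1 := by
      obtain ⟨⟨a, ha⟩, hne⟩ := Subgroup.ne_bot_iff_exists_ne_one.1 hbot
      exact ⟨a, ha, fun e => hne (Subtype.ext e)⟩
    obtain ⟨n, Y, y, y₀, hy₀, hY, hgy, htake⟩ :=
      hfus S (D : Set G) g (fun u hu => hu.1) ⟨a, ha, ha1⟩ hgD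
    set L := List.ofFn y with hL
    have hDle : ∀ i : ℕ, i ≤ n → D ≤ ((L.take i).prod • S : Sylow p G).toSubgroup := by
      intro i hi u hu
      rcases i with _ | j
      · simp only [List.take_zero, List.prod_nil, one_smul]; exact hu.1
      · exact mem_smul_sylow.2 (htake ⟨j, hi⟩ ⟨u, hu, rfl⟩).1
    have hchain : ∀ i : ℕ, i ≤ n →
        Relation.ReflTransGen (Link p 𝓕 D) S ((L.take i).prod • S) := by
      intro i
      induction i with
      | zero => intro _; simp only [List.take_zero, List.prod_nil, one_smul]; exact .refl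
      | succ j ih =>
        intro hj
        refine (ih (by omega)).tail ?_
        have hlen : j < L.length := by simp [L]; omega
        set z := (L.take j).prod with hz
        obtain ⟨hYj, hyj⟩ := hY ⟨j, hj⟩
        set yj := y ⟨j, hj⟩
        have hzs : (L.take (j + 1)).prod = z * yj := by
          rw [List.take_succ_eq_append_getElem hlen, List.prod_append, List.prod_singleton, ← hz]
          simp [L, yj]
        have hXeq : Cfsg.subgroupConjRight (z * yj)⁻¹ (Y ⟨j, hj⟩) =
            Cfsg.subgroupConjRight z⁻¹ (Y ⟨j, hj⟩) := by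
          ext u
          rw [mem_conjRight, mem_conjRight]
          constructor
          · intro h
            have := mul_mem (mul_mem hyj h) (inv_mem hyj)
            simpa [mul_assoc] using this
          · intro h
            have := mul_mem (mul_mem (inv_mem hyj) h) hyj
            simpa [mul_assoc] using this
        refine ⟨Cfsg.subgroupConjRight z⁻¹ (Y ⟨j, hj⟩), ?_, ?_, ⟨z * yj * z⁻¹, ?_, ?_⟩, hDle j (by omega),
          hDle (j + 1) hj, ?_⟩
        · have := sylowMembers_conj h𝓕 hYj z⁻¹
          rwa [inv_inv] at this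
        · have := sylowMembers_conj h𝓕 hYj (z * yj)⁻¹
          rwa [inv_inv, hXeq, ← hzs] at this
        · rw [mem_conjRight]; simpa [mul_assoc] using hyj
        · rw [conjRight_sylow, smul_smul, hzs,
            show (z * yj * z⁻¹)⁻¹ * (z * yj) = z by group]
        · intro u hu
          rw [← hXeq, mem_conjRight]
          have := (htake ⟨j, hj⟩ ⟨u, hu, rfl⟩).2
          rw [← hzs]
          simpa [L] using this
    have hfin := hchain n le_rfl
    rw [List.take_of_length_le (by simp [L])] at hfin
    convert hfin using 1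
    rw [← hg, hgy]
    exact (mul_smul _ _ _).trans (congrArg _ (Sylow.smul_eq_iff_mem_normalizer.2 hy₀))

end Cfsg.Agent.S2939
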