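import Cfsg.Statements.S2940

set_option autoImplicit false
open Cfsg

namespace Cfsg.Agent.S2940

/-- Let S be a Sylow p-subgroup of the finite group G and G₁, G₂ subgroups containing S with G = G₁G₂. Then for every g ∈ G there is a Sylow p-subgroup U of G with S ∩ S^g ≤ U ≤ G₁ ∩ G₂^g (conjugates taken as X^g = g⁻¹Xg). -/
theorem result {G : Type*} [Group G] [Finite G] {p : ℕ} [Fact p.Prime] (S : Sylow p G) (G₁ G₂ : Subgroup G) (h1 : (S : Subgroup G) ≤ G₁) (h2 : (S : Subgroup G) ≤ G₂) (hfact : ∀ g : G, ∃ g₁ ∈ G₁, ∃ g₂ ∈ G₂, g = g₁ * g₂) (g : G) : ∃ U : Sylow p G, (S : Subgroup G) ⊓ Cfsg.subgroupConjRight g (S : Subgroup G) ≤ (U : Subgroup G) ∧ (U : Subgroup G) ≤ G₁ ⊓ Cfsg.subgroupConjRight g G₂ := by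
  obtain ⟨a, ha, b, hb, hab⟩ := hfact g⁻¹
  have hg : g = b⁻¹ * a⁻¹ := by
    apply inv_injective; rw [hab, mul_inv_rev, inv_inv, inv_inv]
  set W : Subgroup G := G₁ ⊓ Cfsg.subgroupConjRight g G₂ with hW
  have hD : (S : Subgroup G) ⊓ Cfsg.subgroupConjRight g (S : Subgroup G) ≤ W :=
    inf_le_inf h1 (Subgroup.map_mono h2)
  -- a Sylow subgroup of `G` inside `W`
  set R : Subgroup G := (S : Subgroup G).map (MulAut.conj a).toMonoidHom with hR
  have hRW : R ≤ W := by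
    rintro _ ⟨s, hs, rfl⟩
    refine ⟨G₁.mul_mem (G₁.mul_mem ha (h1 hs)) (G₁.inv_mem ha), ?_⟩
    refine ⟨b⁻¹ * s * b, G₂.mul_mem (G₂.mul_mem (G₂.inv_mem hb) (h2 hs)) hb, ?_⟩
    show g⁻¹ * (b⁻¹ * s * b) * g⁻¹⁻¹ = a * s * a⁻¹
    rw [hab]; simp [mul_assoc]
  have hRcard : Nat.card R = Nat.card (S : Subgroup G) :=
    (Nat.card_congr ((S : Subgroup G).equivMapOfInjective _ (MulAut.conj a).injective).toEquiv).symm
  have hDp : IsPGroup p (((S : Subgroup G) ⊓ Cfsg.subgroupConjRight g (S : Subgroup G)).subgroupOf W) :=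
    IsPGroup.comap_subtype (S.isPGroup'.to_le inf_le_left)
  obtain ⟨U, hU⟩ := hDp.exists_le_sylow
  have hle : Nat.card (S : Subgroup G) ≤ Nat.card (U : Subgroup W) := by
    have hp : p.Prime := Fact.out
    have hRp : IsPGroup p (R.subgroupOf W) := IsPGroup.comap_subtype (S.isPGroup'.map _)
    obtain ⟨V, hV⟩ := hRp.exists_le_sylow
    rw [← hRcard, ← Nat.card_congr (Subgroup.subgroupOfEquivOfLe hRW).toEquiv,
      Sylow.card_eq_multiplicity U, ← Sylow.card_eq_multiplicity V]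
    exact Subgroup.card_le_of_le hV
  obtain ⟨U', hU'⟩ := (U.isPGroup'.map W.subtype).exists_le_sylow
  have heq : (U : Subgroup W).map W.subtype = (U' : Subgroup G) := by
    refine Subgroup.eq_of_le_of_card_ge hU' ?_
    rw [← Nat.card_congr ((U : Subgroup W).equivMapOfInjective _ W.subtype_injective).toEquiv,
      Sylow.card_eq_multiplicity U', ← Sylow.card_eq_multiplicity S]
    exact hle
  refine ⟨U', ?_, heq ▸ Subgroup.map_subtype_le _⟩
  rw [← heq]
  intro x hx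
  exact ⟨⟨x, hD hx⟩, hU hx, rfl⟩

end Cfsg.Agent.S2940
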