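import Cfsg.Statements.S2941

set_option autoImplicit false
open Cfsg

namespace Cfsg.Agent.S2941

/-- Let G be a finite group of characteristic 2 type in which every 2-local subgroup is solvable and the centralizer of Ω₁(Z(S)) lies in N_G(S) for every Sylow 2-subgroup S, and let T be a nontrivial 2-subgroup and K a J(T)-component (J the Thompson subgroup generated by the elementary abelian 2-subgroups of largest order). If a subgroup Q is normalized by ⟨K, J(T)⟩ and normalizes J(T), then Q normalizes K. -/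
theorem result {G : Type*} [Group G] [Finite G] (hL : Cfsg.IsCharacteristicTwoType G) (hN : ∀ N : Subgroup G, Cfsg.IsTwoLocal N → Group.IsSolvable ↥N)
    (hZ : ∀ S : Sylow 2 G, Subgroup.centralizer (Cfsg.omegaCenterOf (S : Subgroup G) : Set G) ≤ Subgroup.normalizer ((S : Subgroup G) : Set G)) (T : Subgroup G) (hT : IsPGroup 2 ↥T) (hT1 : T ≠ ⊥) (K : Subgroup G) (hK : Cfsg.IsJComponent T K)
    (Q : Subgroup G) (hQ1 : K ⊔ Cfsg.thompsonSubgroupOf 2 T ≤ Subgroup.normalizer (Q : Set G)) (hQ2 : Q ≤ Subgroup.normalizer (Cfsg.thompsonSubgroupOf 2 T : Set G)) :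
    Q ≤ Subgroup.normalizer (K : Set G) := by
  set J := Cfsg.thompsonSubgroupOf 2 T with hJ
  obtain ⟨hodd, hKJ, -⟩ := hK
  change ⁅K, J⁆ = K at hKJ
  change Subgroup.closure _ = K at hodd
  -- `J` normalizes `K`
  have hJK : J ≤ Subgroup.normalizer (K : Set G) :=
    Subgroup.le_normalizer_iff_commutator_le_left.mpr hKJ.le
  set X : Subgroup G := K ⊔ J with hX
  have hXconj : ∀ q ∈ Q, ∀ x ∈ X, q * x * q⁻¹ ∈ X := by
    intro q hq x hx
    have hJX : J ≤ X := le_sup_right
    have key : ∀ j ∈ J, ∀ y ∈ X, q * (y * j * y⁻¹) * q⁻¹ ∈ X := by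
      intro j hj y hy
      have hyn : y ∈ Subgroup.normalizer (Q : Set G) := hQ1 hy
      have hq' : y⁻¹ * q * y ∈ Q := by
        have := (Subgroup.mem_normalizer_iff.mp (inv_mem hyn) q).mp hq
        simpa using this
      have hj' : (y⁻¹ * q * y) * j * (y⁻¹ * q * y)⁻¹ ∈ J :=
        (Subgroup.mem_normalizer_iff.mp (hQ2 hq') j).mp hj
      have := X.mul_mem (X.mul_mem hy (hJX hj')) (X.inv_mem hy)
      simpa [mul_assoc] using this
    have hJq : ∀ j ∈ J, q * j * q⁻¹ ∈ X := fun j hj => by simpa using key j hj 1 (one_mem _)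
    have hle : X ≤ X.comap (MulAut.conj q).toMonoidHom := by
      refine sup_le ?_ (fun j hj => by simpa using hJq j hj)
      rw [← hKJ, Subgroup.commutator_le]
      intro k hk j hj
      have h1 := key j hj k ((le_sup_left : K ≤ X) hk)
      have h2 := hJq j⁻¹ (inv_mem hj)
      have := X.mul_mem h1 h2
      simpa [commutatorElement_def, mul_assoc] using this
    exact hle hx
  -- elements of odd order of `X` lie in `K`
  have hoddX : ∀ x ∈ X, Odd (orderOf x) → x ∈ K := by
    intro x hx ho
    let N := Subgroup.normalizer (K : Set G)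
    have hxN : x ∈ N := (sup_le Subgroup.le_normalizer hJK : X ≤ N) hx
    have hn : (K.subgroupOf N).Normal := Subgroup.normal_in_normalizer
    let π : N →* N ⧸ K.subgroupOf N := QuotientGroup.mk' _
    have hJp : IsPGroup 2 (J.subgroupOf N) :=
      IsPGroup.comap_subtype (IsPGroup.to_le hT (Subgroup.map_subtype_le _)) 
    have himg : π ⟨x, hxN⟩ ∈ (J.subgroupOf N).map π := by
      have : (X.subgroupOf N).map π = (J.subgroupOf N).map π := by
        rw [hX, Subgroup.subgroupOf_sup Subgroup.le_normalizer hJK, Subgroup.map_sup,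
          QuotientGroup.map_mk'_self, bot_sup_eq]
      rw [← this]; exact ⟨⟨x, hxN⟩, hx, rfl⟩
    obtain ⟨k, hk⟩ := IsPGroup.iff_orderOf.mp (hJp.map π) ⟨_, himg⟩
    rw [Subgroup.orderOf_mk] at hk
    have hdvd : orderOf (π ⟨x, hxN⟩) ∣ orderOf x := by
      refine (orderOf_map_dvd π ⟨x, hxN⟩).trans ?_
      rw [Subgroup.orderOf_mk]
    rw [hk] at hdvd
    have : k = 0 := by
      by_contra h0
      exact (Nat.not_even_iff_odd.mpr ho) (even_iff_two_dvd.mpr ((dvd_pow_self 2 h0).trans hdvd))
    subst this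
    rw [pow_zero, orderOf_eq_one_iff] at hk
    exact Subgroup.mem_subgroupOf.mp ((QuotientGroup.eq_one_iff _).mp hk)
  intro q hq
  have key : ∀ q ∈ Q, ∀ k ∈ K, q * k * q⁻¹ ∈ K := by
    intro q hq
    have : K ≤ K.comap (MulAut.conj q).toMonoidHom := by
      conv_lhs => rw [← hodd]
      rw [Subgroup.closure_le]
      rintro k ⟨hk, ho⟩
      refine hoddX _ (hXconj q hq k ((le_sup_left : K ≤ X) hk)) ?_
      have : orderOf ((MulAut.conj q).toMonoidHom k) = orderOf k :=
        orderOf_injective (MulAut.conj q).toMonoidHom (MulAut.conj q).injective k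
      show Odd (orderOf ((MulAut.conj q).toMonoidHom k))
      rwa [this]
    exact fun k hk => this hk
  rw [Subgroup.mem_normalizer_iff]
  exact fun k => ⟨key q hq k, fun h => by simpa [mul_assoc] using key q⁻¹ (inv_mem hq) _ h⟩

end Cfsg.Agent.S2941
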