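import Cfsg.Statements.S2955
import Cfsg.Agent.LocalB.SylowControl

set_option autoImplicit false
set_option linter.unusedVariables false
open Cfsg CfsgLib.LocalB.SylowControl

namespace Cfsg.Agent.S2955

/-- Let p be a prime dividing the order of the finite group G and 𝓕 a conjugation-closed family of subgroups that controls Sylow p-intersections in G. Suppose the Sylow p-subgroups of G are chain-connected: any two of them are joined by a chain of Sylow p-subgroups, consecutive ones distinct with nontrivial intersection, all containing the intersection of the two ends (equivalently, the graph on the Sylow p-subgroups whose edges are the distinct pairs meeting nontrivially is connected). Then for every Sylow p-subgroup S, G is generated by N_G(S) together with the members of 𝓕 that meet S in a Sylow p-subgroup of themselves. -/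
theorem result {G : Type*} [Group G] [Finite G] (p : ℕ) [Fact p.Prime] (hdiv : p ∣ Nat.card G)
    (𝓕 : Set (Subgroup G)) (h𝓕 : Cfsg.IsNormalSet 𝓕) (hc : Cfsg.ControlsSylowIntersections p 𝓕)
    (hconn : Cfsg.IsSylowChainConnected p G) (S : Sylow p G) :
    (⨆ X ∈ Cfsg.sylowMembers p 𝓕 (S : Subgroup G), X) ⊔ Subgroup.normalizer ((S : Subgroup G) : Set G) = ⊤ := by
  set H := (⨆ X ∈ Cfsg.sylowMembers p 𝓕 (S : Subgroup G), X) ⊔ Subgroup.normalizer ((S : Subgroup G) : Set G) with hH
  have hmem : ∀ X ∈ Cfsg.sylowMembers p 𝓕 (S : Subgroup G), X ≤ H := fun X hX =>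
    (le_biSup (fun X => X) hX).trans le_sup_left
  have hstep : ∀ (D : Subgroup G) (U V : Sylow p G), Relation.ReflTransGen (Link p 𝓕 D) U V →
      (∃ h ∈ H, h • S = U) → ∃ h ∈ H, h • S = V := by
    intro D U V hUV hU
    induction hUV with
    | refl => exact hU
    | @tail b c _ hl ih =>
      obtain ⟨h, hh, rfl⟩ := ih
      obtain ⟨X, hXb, -, ⟨x, hx, hxe⟩, -, -, -⟩ := hl
      have hc : c = x • h • S := by
        rw [← inv_smul_eq_iff]
        exact Sylow.ext hxe
      have hX : Cfsg.subgroupConjRight h X ≤ H := by
        have := sylowMembers_conj h𝓕 hXb h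
        rw [inv_smul_smul] at this
        exact hmem _ this
      refine ⟨x * h, ?_, by rw [hc, mul_smul]⟩
      have h1 : h⁻¹ * x * h ∈ H := hX (mem_conjRight.2 (by simpa [mul_assoc] using hx))
      have := mul_mem hh h1
      simpa [mul_assoc] using this
  rw [eq_top_iff]
  intro g _
  obtain ⟨n, c, h0, hlast, -, hadj⟩ := hconn S (g • S)
  have hall : ∀ i, ∃ h ∈ H, h • S = c i := by
    intro i
    induction i using Fin.induction with
    | zero => exact ⟨1, one_mem H, by rw [one_smul, h0]⟩
    | succ j ih =>
      exact hstep _ _ _ (link_of_controls hc inf_le_left inf_le_right (hadj j).2) ih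
  obtain ⟨h, hh, he⟩ := hall (Fin.last n)
  rw [hlast] at he
  have h1 : h⁻¹ * g ∈ H := by
    refine (le_sup_right : _ ≤ H) (Sylow.smul_eq_iff_mem_normalizer.1 ?_)
    rw [mul_smul, ← he, inv_smul_smul]
  have := mul_mem hh h1
  rwa [mul_inv_cancel_left] at this

end Cfsg.Agent.S2955
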