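import Cfsg.Statements.S2956
import Cfsg.Agent.LocalB.SylowControl

set_option autoImplicit false
set_option linter.unusedVariables false
open Cfsg CfsgLib.LocalB CfsgLib.LocalB.SylowControl
open scoped Pointwise

namespace Cfsg.Agent.S2956

/-- Let p be a prime dividing the order of the finite group G, and f an assignment to every p-subgroup P of a set f(P) of subgroups of P, each normalized by N_G(P), compatible with conjugation, such that for P ≠ 1 the members of f(P) are nontrivial. Let 𝓕 be the family of the normalizers N_G(F) of the members F of f(S) over the Sylow p-subgroups S of G, and 𝓕' the family of the maximal p-local subgroups M of G that are singular for f (the corresponding family of normalizers inside M does not control Sylow p-intersections in M). Then 𝓕 ∪ 𝓕' controls Sylow p-intersections in G. -/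
theorem result {G : Type*} [Group G] [Finite G] (p : ℕ) [Fact p.Prime] (hdiv : p ∣ Nat.card G)
    (f : Subgroup G → Set (Subgroup G)) (hf : Cfsg.IsNormalizerFunctor p f)
    (hf1 : ∀ P : Subgroup G, IsPGroup p ↥P → P ≠ ⊥ → ∀ F ∈ f P, F ≠ ⊥)
    (𝓕 𝓕' : Set (Subgroup G)) (h𝓕 : 𝓕 = Cfsg.functorFamily p f ⊤)
    (h𝓕' : 𝓕' = {M | Cfsg.IsMaximalPLocal p M ∧ ¬ Cfsg.IsFunctorRegular p f M}) :
    Cfsg.ControlsSylowIntersections p (𝓕 ∪ 𝓕') := by
  have hpr : p.Prime := Fact.out
  refine controls_of ?_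
  suffices main : ∀ (n : ℕ) (D : Subgroup G), Nat.card G - Nat.card D = n → D ≠ ⊥ →
      ∀ S T : Sylow p G, D ≤ (S : Subgroup G) → D ≤ (T : Subgroup G) →
        Relation.ReflTransGen (Link p (𝓕 ∪ 𝓕') D) S T from
    fun S T _ hbot => main _ _ rfl hbot S T inf_le_left inf_le_right
  intro n
  induction n using Nat.strong_induction_on with | _ n ih => ?_
  intro D hn hD
  subst hn
  have hsub : Cfsg.functorFamily p f ⊤ ⊆ 𝓕 ∪ 𝓕' := h𝓕 ▸ Set.subset_union_left
  -- two Sylow subgroups with a common subgroup larger than `D`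
  have hup : ∀ (E : Subgroup G), D ≤ E → Nat.card D < Nat.card E → ∀ A B : Sylow p G,
      E ≤ (A : Subgroup G) → E ≤ (B : Subgroup G) → Relation.ReflTransGen (Link p (𝓕 ∪ 𝓕') D) A B := by
    intro E hDE hlt A B hA hB
    have hE : Nat.card E ≤ Nat.card G := Subgroup.card_le_card_group E
    refine sim_mono (ih _ ?_ E rfl (fun e => ?_) A B hA hB) hDE
    · omega
    · rw [e, Subgroup.card_bot] at hlt
      have : 0 < Nat.card D := Nat.card_pos
      omega
  have hcardeq : ∀ {L : Subgroup G} (A B : Sylow p L),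
      Nat.card ((A : Subgroup L).map L.subtype) = Nat.card ((B : Subgroup L).map L.subtype) :=
    fun A B => card_sylow_map A B
  have claim : ∀ (k : ℕ) (L : Subgroup G), Cfsg.IsPLocal p L → ∀ A B : Sylow p L,
      Nat.card G - Nat.card ((A : Subgroup L).map L.subtype) = k →
      D ≤ (A : Subgroup L).map L.subtype → D ≤ (B : Subgroup L).map L.subtype →
      Nat.card D < Nat.card ((A : Subgroup L).map L.subtype) → ∀ A' B' : Sylow p G,
      (A : Subgroup L).map L.subtype ≤ (A' : Subgroup G) → (B : Subgroup L).map L.subtype ≤ (B' : Subgroup G) →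
      Relation.ReflTransGen (Link p (𝓕 ∪ 𝓕') D) A' B' := by
    intro k
    induction k using Nat.strong_induction_on with | _ k ihk => ?_
    intro L hL A B hk hDA hDB hlt A' B' hA' hB'
    -- a maximal `p`-local subgroup containing `L`
    obtain ⟨M, hM⟩ := (Set.toFinite {N : Subgroup G | Cfsg.IsPLocal p N ∧ L ≤ N}).exists_maximal
      ⟨L, hL, le_rfl⟩
    obtain ⟨⟨hMloc, hLM⟩, hMmax⟩ := hM
    have hmax : Cfsg.IsMaximalPLocal p M :=
      ⟨hMloc, fun N hN hMN => le_antisymm (hMmax ⟨hN, hLM.trans hMN⟩ hMN) hMN⟩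
    have hext : ∀ C : Sylow p L, ∃ C₁ : Sylow p M, (C : Subgroup L).map L.subtype ≤
        (C₁ : Subgroup M).map M.subtype := by
      intro C
      obtain ⟨C₁, hC₁⟩ := ((C.isPGroup'.map L.subtype).comap_subtype (K := M)).exists_le_sylow
      refine ⟨C₁, fun u hu => ⟨⟨u, hLM (Subgroup.map_subtype_le _ hu)⟩, hC₁ hu, rfl⟩⟩
    obtain ⟨A₁, hA₁⟩ := hext A
    obtain ⟨B₁, hB₁⟩ := hext B
    obtain ⟨A₁', hA₁'⟩ := exists_sylow_of_map A₁
    obtain ⟨B₁', hB₁'⟩ := exists_sylow_of_map B₁
    have hltB : Nat.card D < Nat.card ((B : Subgroup L).map L.subtype) := hcardeq A B ▸ hlt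
    have hlt₁ : Nat.card D < Nat.card ((A₁ : Subgroup M).map M.subtype) :=
      lt_of_lt_of_le hlt (Subgroup.card_le_of_le hA₁)
    refine ((hup _ hDA hlt A' A₁' hA' (hA₁.trans hA₁')).trans ?_).trans
      (hup _ hDB hltB B₁' B' (hB₁.trans hB₁') hB')
    by_cases hreg : Cfsg.IsFunctorRegular p f M
    · suffices h : ∀ b : Sylow p M, Relation.ReflTransGen (fun a b : Sylow p M =>
          Step p f M D ((a : Subgroup M).map M.subtype) ((b : Subgroup M).map M.subtype)) A₁ b →
          D ≤ (b : Subgroup M).map M.subtype ∧ ∀ b' : Sylow p G, (b : Subgroup M).map M.subtype ≤ (b' : Subgroup G) →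
            Relation.ReflTransGen (Link p (𝓕 ∪ 𝓕') D) A₁' b' from
        (h B₁ (steps_of_regular hf hreg hD (hDA.trans hA₁) (hDB.trans hB₁))).2 B₁' hB₁'
      intro b hb
      induction hb with
      | refl => exact ⟨hDA.trans hA₁, fun b' hb' => hup _ (hDA.trans hA₁) hlt₁ _ _ hA₁' hb'⟩
      | @tail a b _ hl ih' =>
        obtain ⟨P, F, hF, hDa, hDb, haF, hbF, hx⟩ := hl
        refine ⟨hDb, fun b' hb' => ?_⟩
        obtain ⟨a', ha'⟩ := exists_sylow_of_map a
        refine (ih'.2 a' ha').trans ?_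
        obtain ⟨U, hU⟩ := exists_sylow_of_map P
        by_cases hfull : (U : Subgroup G) ≤ M
        · have hfullC : ∀ (c : Sylow p M) (c' : Sylow p G), (c : Subgroup M).map M.subtype ≤ (c' : Subgroup G) →
              (c' : Subgroup G) = (c : Subgroup M).map M.subtype := by
            intro c c' hcc
            obtain ⟨c'', hc''⟩ := exists_lift hfull c
            refine (Subgroup.eq_of_le_of_card_ge hcc (le_of_eq ?_)).symm
            rw [← hc'', Sylow.card_eq_multiplicity, Sylow.card_eq_multiplicity]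
          refine Relation.ReflTransGen.single (link_of_step hfull hsub ?_)
          rw [hfullC a a' ha', hfullC b b' hb']
          exact ⟨P, F, hF, hDa, hDb, haF, hbF, hx⟩
        · set Pm := (P : Subgroup M).map M.subtype with hPm
          have hPp : IsPGroup p Pm := P.isPGroup'.map _
          have hlta : Nat.card D < Nat.card ((a : Subgroup M).map M.subtype) := hcardeq A₁ a ▸ hlt₁
          have hPD : Nat.card D < Nat.card Pm := hcardeq A₁ P ▸ hlt₁
          have hFne : F ≠ ⊥ := hf1 _ hPp (fun e => by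
            rw [e, Subgroup.card_bot] at hPD
            have : 0 < Nat.card D := Nat.card_pos
            omega) F hF
          have hL' : Cfsg.IsPLocal p (Subgroup.normalizer (F : Set G)) :=
            ⟨F, hPp.to_le ((hf _ hPp).1 F hF).1, hFne, rfl⟩
          set L' := Subgroup.normalizer (F : Set G) with hL'def
          obtain ⟨u, huU, hun, hunP⟩ := exists_mem_normalizer_not_mem U.isPGroup' hU
            (fun e => hfull (e ▸ Subgroup.map_subtype_le _))
          have hext' : ∀ c : Sylow p M, (c : Subgroup M).map M.subtype ≤ L' → ∃ C : Sylow p L',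
              (c : Subgroup M).map M.subtype ≤ (C : Subgroup L').map L'.subtype := by
            intro c hc
            obtain ⟨C, hC⟩ := ((c.isPGroup'.map M.subtype).comap_subtype (K := L')).exists_le_sylow
            exact ⟨C, fun v hv => ⟨⟨v, hc hv⟩, hC hv, rfl⟩⟩
          obtain ⟨A₂, hA₂⟩ := hext' a haF
          obtain ⟨B₂, hB₂⟩ := hext' b hbF
          obtain ⟨A₂', hA₂'⟩ := exists_sylow_of_map A₂
          obtain ⟨B₂', hB₂'⟩ := exists_sylow_of_map B₂
          have hbig : Nat.card Pm < Nat.card ((A₂ : Subgroup L').map L'.subtype) := by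
            have hle : Pm ⊔ Subgroup.zpowers u ≤ L' := (sup_le Subgroup.le_normalizer (Subgroup.zpowers_le.2 hun)).trans
              ((hf _ hPp).1 F hF).2
            have hQp : IsPGroup p (Pm ⊔ Subgroup.zpowers u : Subgroup G) :=
              U.isPGroup'.to_le (sup_le hU (Subgroup.zpowers_le.2 huU))
            obtain ⟨Q, hQ⟩ := (hQp.comap_subtype (K := L')).exists_le_sylow
            rw [hcardeq A₂ Q]
            refine lt_of_lt_of_le (CfsgLib.Solvable.card_lt_of_lt (lt_of_le_of_ne le_sup_left fun e => hunP ?_))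
              (Subgroup.card_le_of_le (K := (Q : Subgroup L').map L'.subtype) fun v hv => ⟨⟨v, hle hv⟩, hQ hv, rfl⟩)
            exact e.symm.le ((le_sup_right : Subgroup.zpowers u ≤ Pm ⊔ _) (Subgroup.mem_zpowers u))
          refine ((hup _ hDa hlta a' A₂' ha' (hA₂.trans hA₂')).trans
            (ihk _ ?_ L' hL' A₂ B₂ rfl (hDa.trans hA₂) (hDb.trans hB₂)
              (hPD.trans hbig) A₂' B₂' hA₂' hB₂')).trans
            (hup _ hDb (hcardeq A₁ b ▸ hlt₁) B₂' b' (hB₂.trans hB₂') hb')
          have h1 := Subgroup.card_le_of_le hA₁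
          have h2 : Nat.card Pm = Nat.card ((A₁ : Subgroup M).map M.subtype) := hcardeq P A₁
          have h3 : Nat.card ((A₂ : Subgroup L').map L'.subtype) ≤ Nat.card G := Subgroup.card_le_card_group _
          omega
    · -- `M` is singular
      have hM' : M ∈ 𝓕 ∪ 𝓕' := Or.inr (h𝓕' ▸ ⟨hmax, hreg⟩)
      obtain ⟨m, hm⟩ := MulAction.exists_smul_eq M B₁ A₁
      set C : Sylow p G := (m : G) • B₁'
      have hC : (A₁ : Subgroup M).map M.subtype ≤ (C : Subgroup G) := by
        rw [← hm]
        rintro _ ⟨_, ⟨v, hv, rfl⟩, rfl⟩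
        exact mem_smul_sylow.2 (by simpa [mul_assoc] using hB₁' ⟨v, hv, rfl⟩)
      have hmem : ∀ (c : Sylow p M) (c' : Sylow p G), (c : Subgroup M).map M.subtype ≤ (c' : Subgroup G) →
          M ∈ Cfsg.sylowMembers p (𝓕 ∪ 𝓕') (c' : Subgroup G) := by
        intro c c' hcc
        rw [mem_sylowMembers_iff c'.isPGroup']
        refine ⟨hM', fun hd => c.not_dvd_index ?_⟩
        have h1 := hd.trans (Subgroup.relIndex_dvd_of_le_left M (le_inf hcc (Subgroup.map_subtype_le _)))
        rwa [Subgroup.relIndex, Subgroup.subgroupOf,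
          Subgroup.comap_map_eq_self_of_injective M.subtype_injective] at h1
      refine (hup _ (hDA.trans hA₁) hlt₁ A₁' C hA₁' hC).tail ?_
      refine ⟨M, hmem A₁ C hC, hmem B₁ B₁' hB₁', ⟨(m : G)⁻¹, inv_mem m.2, ?_⟩,
        (hDA.trans hA₁).trans hC, (hDB.trans hB₁).trans hB₁', hDA.trans ((Subgroup.map_subtype_le _).trans hLM)⟩
      rw [conjRight_sylow, inv_inv]
  intro S T hDS hDT
  by_cases hST : S = T
  · subst hST; exact .refl
  set L := Subgroup.normalizer (D : Set G) with hL
  have hDp : IsPGroup p D := S.isPGroup'.to_le hDS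
  have hgrow : ∀ U : Sylow p G, D ≤ (U : Subgroup G) → D ≠ (U : Subgroup G) →
      Nat.card D < Nat.card ((U : Subgroup G) ⊓ L : Subgroup G) := by
    intro U hU hne
    exact CfsgLib.Solvable.card_lt_of_lt (CfsgLib.Fusion.lt_inf_normalizer U.isPGroup' (lt_of_le_of_ne hU hne))
  have hDneS : D ≠ (S : Subgroup G) := fun e => hST (Sylow.ext (Subgroup.eq_of_le_of_card_ge (e ▸ hDT)
    (le_of_eq (by rw [Sylow.card_eq_multiplicity, Sylow.card_eq_multiplicity]))))
  have hDneT : D ≠ (T : Subgroup G) := fun e => hST (Sylow.ext (Subgroup.eq_of_le_of_card_ge (e ▸ hDS)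
    (le_of_eq (by rw [Sylow.card_eq_multiplicity, Sylow.card_eq_multiplicity]))).symm)
  have hext : ∀ U : Sylow p G, ∃ A : Sylow p L, (U : Subgroup G) ⊓ L ≤ (A : Subgroup L).map L.subtype := by
    intro U
    obtain ⟨A, hA⟩ := ((U.isPGroup'.to_le (inf_le_left : (U : Subgroup G) ⊓ L ≤ U)).comap_subtype
      (K := L)).exists_le_sylow
    exact ⟨A, fun v hv => ⟨⟨v, hv.2⟩, hA hv, rfl⟩⟩
  obtain ⟨A, hA⟩ := hext S
  obtain ⟨B, hB⟩ := hext T
  obtain ⟨A', hA'⟩ := exists_sylow_of_map A
  obtain ⟨B', hB'⟩ := exists_sylow_of_map B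
  have hDS' : D ≤ (S : Subgroup G) ⊓ L := le_inf hDS Subgroup.le_normalizer
  have hDT' : D ≤ (T : Subgroup G) ⊓ L := le_inf hDT Subgroup.le_normalizer
  refine ((hup _ hDS' (hgrow S hDS hDneS) S A' inf_le_left (hA.trans hA')).trans
    (claim _ L ⟨D, hDp, hD, rfl⟩ A B rfl (hDS'.trans hA) (hDT'.trans hB)
      (lt_of_lt_of_le (hgrow S hDS hDneS) (Subgroup.card_le_of_le hA)) A' B' hA' hB')).trans
    (hup _ hDT' (hgrow T hDT hDneT) B' T (hB.trans hB') inf_le_left)

end Cfsg.Agent.S2956
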