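import Cfsg.Statements.S2957
import Cfsg.Agent.LocalB.SylowControl

set_option autoImplicit false
set_option linter.unusedVariables false
open Cfsg CfsgLib.LocalB CfsgLib.LocalB.SylowControl
open scoped Pointwise

namespace Cfsg.Agent.S2957

/-- Let p be a prime dividing the order of the finite group G, f an equivariant assignment of a set of subgroups f(P) of P to every p-subgroup P, each normalized by N_G(P), and S a Sylow p-subgroup. If G = G₁G₂ for subgroups G₁, G₂ both containing S and both regular for f (in each Gᵢ, the family of normalizers in Gᵢ of the members of f(P), P a Sylow p-subgroup of Gᵢ, controls Sylow p-intersections), then G itself is regular for f. -/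
theorem result {G : Type*} [Group G] [Finite G] (p : ℕ) [Fact p.Prime] (hdiv : p ∣ Nat.card G)
    (f : Subgroup G → Set (Subgroup G)) (hf : Cfsg.IsNormalizerFunctor p f) (S : Sylow p G)
    (G₁ G₂ : Subgroup G) (h₁ : (S : Subgroup G) ≤ G₁) (h₂ : (S : Subgroup G) ≤ G₂)
    (hprod : ∀ g : G, ∃ g₁ ∈ G₁, ∃ g₂ ∈ G₂, g = g₁ * g₂)
    (hr₁ : Cfsg.IsFunctorRegular p f G₁) (hr₂ : Cfsg.IsFunctorRegular p f G₂) :
    Cfsg.IsFunctorRegular p f ⊤ := by
  have hpr : p.Prime := Fact.out
  set 𝓕 := Cfsg.functorFamily p f (⊤ : Subgroup G) with h𝓕def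
  have h𝓕 : Cfsg.IsNormalSet 𝓕 := isNormalSet_functorFamily hf
  have hbase : ∀ (U : Sylow p G) (D : Subgroup G), D ≤ (S : Subgroup G) → D ≤ (U : Subgroup G) → D ≠ ⊥ →
      Relation.ReflTransGen (Link p 𝓕 D) S U := by
    intro U D hDS hDU hD
    obtain ⟨g, rfl⟩ := MulAction.exists_smul_eq G S U
    obtain ⟨a₁, ha₁, a₂, ha₂, hga⟩ := hprod g⁻¹
    have hg : g = a₂⁻¹ * a₁⁻¹ := by rw [← mul_inv_rev, ← hga, inv_inv]
    set D' := Cfsg.subgroupConjRight a₂⁻¹ D with hD'
    have hD'U : D' ≤ ((a₁⁻¹ • S : Sylow p G) : Subgroup G) := by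
      intro u hu
      have h1 := hDU (mem_conjRight.1 hu)
      rw [hg, mem_smul_sylow] at h1
      exact mem_smul_sylow.2 (by simpa [mul_assoc] using h1)
    have hD'1 : D' ≤ G₁ := fun u hu => by
      have := mul_mem (mul_mem (inv_mem ha₁) (h₁ (mem_smul_sylow.1 (hD'U hu)))) ha₁
      simpa [mul_assoc] using this
    have hD'2 : D' ≤ G₂ := fun u hu => by
      have := mul_mem (mul_mem ha₂ (h₂ (hDS (mem_conjRight.1 hu)))) (inv_mem ha₂)
      simpa [mul_assoc] using this
    have hD'p : IsPGroup p D' := (S.isPGroup'.to_le hDS).map _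
    obtain ⟨m, hm, hle⟩ := CfsgLib.Fusion.exists_conj_le_of_sylow_relIndex (le_inf h₁ h₂) S.isPGroup'
      (fun hd => S.not_dvd_index (hd.trans (Subgroup.relIndex_dvd_index_of_le (le_inf h₁ h₂))))
      hD'p (le_inf hD'1 hD'2)
    have hD'm : D' ≤ ((m⁻¹ • S : Sylow p G) : Subgroup G) := by
      intro u hu
      refine mem_smul_sylow.2 (hle ?_)
      rw [CfsgLib.SZ.mem_conj_smul]
      simpa [mul_assoc] using hu
    have hM : ∀ (G' : Subgroup G) (h : G), h ∈ G' → (S : Subgroup G) ≤ G' →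
        ((h • S : Sylow p G) : Subgroup G) ≤ G' := fun G' h hh hS u hu => by
      have := mul_mem (mul_mem hh (hS (mem_smul_sylow.1 hu))) (inv_mem hh)
      simpa [mul_assoc] using this
    have hD'ne : D' ≠ ⊥ := fun e => hD ((Subgroup.map_eq_bot_iff_of_injective _
      (MulAut.conj (a₂⁻¹)⁻¹).injective).1 e)
    have hc1 : Relation.ReflTransGen (Link p 𝓕 D') (m⁻¹ • S) (a₁⁻¹ • S) :=
      sim_of_regular hf hr₁ subset_rfl (hM G₁ _ (inv_mem hm.1) h₁) (hM G₁ _ (inv_mem ha₁) h₁)
        hD'm hD'U hD'ne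
    have hc1' := sim_conj h𝓕 hc1 a₂
    have hDD : Cfsg.subgroupConjRight a₂ D' = D := by
      ext u
      rw [mem_conjRight, hD', mem_conjRight]
      simp [mul_assoc]
    rw [hDD, smul_smul, smul_smul, ← hg] at hc1'
    have hc2 : Relation.ReflTransGen (Link p 𝓕 D) S ((a₂⁻¹ * m⁻¹) • S) := by
      refine sim_of_regular hf hr₂ subset_rfl h₂
        (hM G₂ _ (mul_mem (inv_mem ha₂) (inv_mem hm.2)) h₂) hDS ?_ hD
      intro u hu
      rw [← hDD, mem_conjRight] at hu
      have := hD'm hu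
      rw [mem_smul_sylow] at this ⊢
      simpa [mul_assoc] using this
    exact hc2.trans hc1'
  have hsim : ∀ A B : Sylow p G, (A : Subgroup G) ⊓ (B : Subgroup G) ≠ ⊥ →
      Relation.ReflTransGen (Link p 𝓕 ((A : Subgroup G) ⊓ (B : Subgroup G))) A B := by
    intro A B hAB
    obtain ⟨g, rfl⟩ := MulAction.exists_smul_eq G S A
    set D := ((g • S : Sylow p G) : Subgroup G) ⊓ (B : Subgroup G) with hD
    set D' := Cfsg.subgroupConjRight g D
    have h := sim_conj h𝓕 (hbase (g⁻¹ • B) D'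
      (fun u hu => by
        have := mem_smul_sylow.1 (mem_conjRight.1 hu).1
        simpa [mul_assoc] using this)
      (fun u hu => mem_smul_sylow.2 (by rw [inv_inv]; exact (mem_conjRight.1 hu).2))
      (fun e => hAB ((Subgroup.map_eq_bot_iff_of_injective _ (MulAut.conj g⁻¹).injective).1 e))) g⁻¹
    have hDD : Cfsg.subgroupConjRight g⁻¹ D' = D := by
      ext u
      rw [mem_conjRight, mem_conjRight]
      simp [mul_assoc]
    rwa [hDD, inv_inv, smul_inv_smul] at h
  -- transfer the relation into the subgroup `⊤`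
  refine controls_of fun S' T' hne hbot => ?_
  let e : ∀ C : Sylow p (⊤ : Subgroup G), ∃ C' : Sylow p G, (C' : Subgroup G) =
      (C : Subgroup (⊤ : Subgroup G)).map (⊤ : Subgroup G).subtype := fun C => exists_lift (S := S) le_top C
  obtain ⟨A, hA⟩ := e S'
  obtain ⟨B, hB⟩ := e T'
  have hmap : (A : Subgroup G) ⊓ (B : Subgroup G) =
      ((S' : Subgroup (⊤ : Subgroup G)) ⊓ T').map (⊤ : Subgroup G).subtype := by
    rw [hA, hB, Subgroup.map_inf _ _ _ (⊤ : Subgroup G).subtype_injective]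
  have h := hsim A B (by
    rw [hmap, Ne, Subgroup.map_eq_bot_iff_of_injective _ (⊤ : Subgroup G).subtype_injective]
    exact hbot)
  have key : ∀ C : Sylow p G, Relation.ReflTransGen (Link p 𝓕 ((A : Subgroup G) ⊓ (B : Subgroup G))) A C →
      Relation.ReflTransGen (Link p ((fun X : Subgroup G => X.subgroupOf ⊤) '' 𝓕)
        ((S' : Subgroup (⊤ : Subgroup G)) ⊓ T')) S' (C.subtype le_top) := by
    intro C hC
    induction hC with
    | refl =>
      have : S' = A.subtype le_top := Sylow.ext (by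
        show _ = (A : Subgroup G).subgroupOf ⊤
        rw [hA, Subgroup.subgroupOf, Subgroup.comap_map_eq_self_of_injective (⊤ : Subgroup G).subtype_injective])
      rw [← this]
    | @tail b c _ hl ih =>
      refine ih.tail ?_
      obtain ⟨X, hXb, hXc, ⟨x, hx, hxe⟩, h1, h2, h3⟩ := hl
      have hmem : ∀ C : Sylow p G, X ∈ Cfsg.sylowMembers p 𝓕 (C : Subgroup G) →
          X.subgroupOf ⊤ ∈ Cfsg.sylowMembers p ((fun X : Subgroup G => X.subgroupOf ⊤) '' 𝓕)
            ((C.subtype le_top : Sylow p (⊤ : Subgroup G)) : Subgroup (⊤ : Subgroup G)) := by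
        intro C hC
        rw [mem_sylowMembers_iff C.isPGroup'] at hC
        rw [mem_sylowMembers_iff (C.subtype le_top).isPGroup']
        refine ⟨⟨X, hC.1, rfl⟩, fun hd => hC.2 ?_⟩
        have e1 := Subgroup.relIndex_map_map_of_injective
          ((C : Subgroup G).subgroupOf ⊤ ⊓ X.subgroupOf ⊤) (X.subgroupOf ⊤)
          (⊤ : Subgroup G).subtype_injective
        rw [Subgroup.map_inf _ _ _ (⊤ : Subgroup G).subtype_injective,
          Subgroup.map_subgroupOf_eq_of_le le_top, Subgroup.map_subgroupOf_eq_of_le le_top] at e1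
        rw [e1]; exact hd
      have hlow : ∀ C : Subgroup G, (A : Subgroup G) ⊓ (B : Subgroup G) ≤ C →
          (S' : Subgroup (⊤ : Subgroup G)) ⊓ T' ≤ C.subgroupOf ⊤ := fun C hC u hu =>
        hC (hmap.ge ⟨u, hu, rfl⟩)
      refine ⟨X.subgroupOf ⊤, hmem b hXb, hmem c hXc, ⟨⟨x, trivial⟩, hx, ?_⟩, hlow _ h1, hlow _ h2,
        hlow _ h3⟩
      ext u
      rw [mem_conjRight]
      show ((⟨x, trivial⟩ * u * ⟨x, trivial⟩⁻¹ : (⊤ : Subgroup G)) : G) ∈ (c : Subgroup G) ↔ (u : G) ∈ (b : Subgroup G)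
      rw [← hxe, mem_conjRight]
      rfl
  have hfin := key B h
  have hT : B.subtype le_top = T' := Sylow.ext (by
    show (B : Subgroup G).subgroupOf ⊤ = _
    rw [hB, Subgroup.subgroupOf, Subgroup.comap_map_eq_self_of_injective (⊤ : Subgroup G).subtype_injective])
  rwa [hT] at hfin

end Cfsg.Agent.S2957
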