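import Cfsg.Statements.S2958

set_option autoImplicit false
open Cfsg

namespace Cfsg.Agent.S2958

/-- Let X, A, B be subgroups of a group G such that G is generated by the conjugates of X and every conjugate of X is contained in A or in B. Then A = G or B = G. -/
theorem result {G : Type*} [Group G] (X A B : Subgroup G) (hgen : (⨆ g : G, X.map (MulAut.conj g).toMonoidHom) = ⊤) (hcover : ∀ g : G, X.map (MulAut.conj g).toMonoidHom ≤ A ∨ X.map (MulAut.conj g).toMonoidHom ≤ B) : A = ⊤ ∨ B = ⊤ := by
  by_contra hcon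
  push Not at hcon
  obtain ⟨hA, hB⟩ := hcon
  set Y : G → Subgroup G := fun g => X.map (MulAut.conj g).toMonoidHom with hY
  have hconj : ∀ g h : G, (Y g).map (MulAut.conj h).toMonoidHom = Y (h * g) := by
    intro g h
    simp only [hY, Subgroup.map_map]
    congr 1
    ext x; simp [mul_assoc]
  set N : Subgroup G := ⨆ g : {g : G // ¬ Y g ≤ A}, Y g with hN
  have hNB : N ≤ B := iSup_le fun g => (hcover g).resolve_left g.2
  have hnorm : ∀ g : G, Y g ≤ Subgroup.normalizer (N : Set G) := by
    intro g x hx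
    by_cases hg : Y g ≤ A
    · rw [Subgroup.mem_normalizer_iff]
      have key : ∀ y ∈ A, ∀ z ∈ N, y * z * y⁻¹ ∈ N := by
        intro y hy z hz
        have : (N.map (MulAut.conj y).toMonoidHom) ≤ N := by
          rw [hN, Subgroup.map_iSup]
          refine iSup_le fun k => ?_
          rw [hconj]
          refine le_iSup (fun k : {g : G // ¬ Y g ≤ A} => Y k) ⟨y * k, fun hle => k.2 ?_⟩
          intro z hz
          have : y * z * y⁻¹ ∈ A := hle (by rw [← hconj]; exact ⟨z, hz, rfl⟩)
          have := A.mul_mem (A.mul_mem (A.inv_mem hy) this) hy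
          simpa [mul_assoc] using this
        exact this ⟨z, hz, rfl⟩
      intro z
      constructor
      · exact key x (hg hx) z
      · intro hz
        have := key x⁻¹ (A.inv_mem (hg hx)) _ hz
        simpa [mul_assoc] using this
    · exact Subgroup.le_normalizer (le_iSup (fun k : {g : G // ¬ Y g ≤ A} => Y k) ⟨g, hg⟩ hx)
  have hNn : N.Normal := by
    rw [← Subgroup.normalizer_eq_top_iff, eq_top_iff, ← hgen]
    exact iSup_le hnorm
  obtain ⟨g₀, hg₀⟩ : ∃ g, ¬ Y g ≤ A := by
    by_contra h
    push Not at h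
    exact hA (eq_top_iff.2 (hgen ▸ iSup_le h))
  apply hB
  rw [eq_top_iff, ← hgen]
  refine iSup_le fun g => ?_
  intro x hx
  apply hNB
  obtain ⟨z, hz, rfl⟩ := hx
  have h0 : g₀ * z * g₀⁻¹ ∈ N := le_iSup (fun k : {g : G // ¬ Y g ≤ A} => Y k) ⟨g₀, hg₀⟩ ⟨z, hz, rfl⟩
  have := hNn.conj_mem _ h0 (g * g₀⁻¹)
  simpa [mul_assoc] using this

end Cfsg.Agent.S2958
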