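import Cfsg.Statements.S2959
import Cfsg.Agent.LocalB.CharP

set_option autoImplicit false
set_option linter.unusedVariables false
open Cfsg CfsgLib.LocalB

namespace Cfsg.Agent.S2959

/-- Let G be a finite group of characteristic p, that is C_G(O_p(G)) ≤ O_p(G), with p prime, and let L be a subgroup of G normalized by O_p(G). Then L has characteristic p: C_L(O_p(L)) ≤ O_p(L). -/
theorem result {G : Type*} [Group G] [Finite G] {p : ℕ} [Fact p.Prime] (hG : Subgroup.centralizer (Cfsg.pCore p G : Set G) ≤ Cfsg.pCore p G) (L : Subgroup G) (hL : Cfsg.pCore p G ≤ Subgroup.normalizer (L : Set G)) : Subgroup.centralizer (Cfsg.pCore p ↥L : Set ↥L) ≤ Cfsg.pCore p ↥L := by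
  have hn : (Cfsg.pCore p G).Normal := CfsgLib.Solvable.pCore_normal p
  refine charP_of_forall fun w hw hcop h => eq_one_of_charP_top hG hcop fun u hu => ?_
  have hc : w * u * w⁻¹ * u⁻¹ ∈ L ⊓ Cfsg.pCore p G := by
    refine ⟨?_, Subgroup.mul_mem _ (hn.conj_mem _ hu w) (inv_mem hu)⟩
    have h1 : u * w⁻¹ * u⁻¹ ∈ L := (Subgroup.mem_normalizer_iff.mp (hL hu) _).mp (inv_mem hw)
    simpa [mul_assoc] using L.mul_mem hw h1
  refine commute_of_stab (CfsgLib.Solvable.isPGroup_pCore p) hcop hc.2 (h _ ?_)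
  exact le_opIn inf_le_left ((CfsgLib.Solvable.isPGroup_pCore p).to_le inf_le_right)
    (fun y hy => mem_normalizer_of_conj_le fun x hx =>
      ⟨L.mul_mem (L.mul_mem hy hx.1) (inv_mem hy), hn.conj_mem _ hx.2 y⟩) hc

end Cfsg.Agent.S2959
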