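import Cfsg.Statements.S2961
import Cfsg.Agent.LocalB.CharP

set_option autoImplicit false
set_option linter.unusedVariables false
open Cfsg CfsgLib.LocalB

namespace Cfsg.Agent.S2961

/-- Let G be a finite group of characteristic p (C_G(O_p(G)) ≤ O_p(G)), p prime, T a Sylow p-subgroup of G and Q a normal subgroup of T with C_T(Q) ≤ Q. Then every subgroup L of G containing Q has characteristic p: C_L(O_p(L)) ≤ O_p(L). -/
theorem result {G : Type*} [Group G] [Finite G] {p : ℕ} [Fact p.Prime] (hG : Subgroup.centralizer (Cfsg.pCore p G : Set G) ≤ Cfsg.pCore p G) (T : Sylow p G) (Q : Subgroup G) (hQT : Q ≤ (T : Subgroup G)) (hQn : (T : Subgroup G) ≤ Subgroup.normalizer (Q : Set G)) (hC : (T : Subgroup G) ⊓ Subgroup.centralizer (Q : Set G) ≤ Q) (L : Subgroup G) (hQL : Q ≤ L) : Subgroup.centralizer (Cfsg.pCore p ↥L : Set ↥L) ≤ Cfsg.pCore p ↥L := by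
  have hn : (Cfsg.pCore p G).Normal := CfsgLib.Solvable.pCore_normal p
  have hQp : IsPGroup p Q := T.isPGroup'.to_le hQT
  set R := Cfsg.pCore p G with hR
  have hRp : IsPGroup p R := CfsgLib.Solvable.isPGroup_pCore p
  set D : Subgroup G := L ⊓ R with hD
  have hLD : ∀ l ∈ L, ∀ d ∈ D, l * d * l⁻¹ ∈ D := fun l hl d hd =>
    ⟨L.mul_mem (L.mul_mem hl hd.1) (inv_mem hl), hn.conj_mem _ hd.2 l⟩
  have hDle : D ≤ opIn p L :=
    le_opIn inf_le_left (hRp.to_le inf_le_right) fun l hl => mem_normalizer_of_conj_le (hLD l hl)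
  -- the elements of `L` stabilizing `R ≥ D`
  let E : Subgroup G :=
    { carrier := {l | l ∈ L ∧ ∀ u ∈ R, l * u * l⁻¹ * u⁻¹ ∈ D}
      one_mem' := ⟨L.one_mem, fun u _ => by simp⟩
      mul_mem' := by
        rintro a b ⟨ha, ha'⟩ ⟨hb, hb'⟩
        refine ⟨L.mul_mem ha hb, fun u hu => ?_⟩
        have := D.mul_mem (ha' _ (hn.conj_mem _ hu b)) (hb' u hu)
        simpa [mul_assoc] using this
      inv_mem' := by
        rintro a ⟨ha, ha'⟩
        refine ⟨L.inv_mem ha, fun u hu => ?_⟩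
        have := D.inv_mem (ha' _ (hn.conj_mem _ hu a⁻¹))
        simpa [mul_assoc] using this }
  have hEL : ∀ l ∈ L, ∀ e ∈ E, l * e * l⁻¹ ∈ E := by
    rintro l hl e ⟨he, he'⟩
    refine ⟨L.mul_mem (L.mul_mem hl he) (inv_mem hl), fun u hu => ?_⟩
    have := hLD l hl _ (he' _ (hn.conj_mem _ hu l⁻¹))
    simpa [mul_assoc] using this
  have hQE : ∀ q ∈ Q, q ∈ E := fun q hq => ⟨hQL hq, fun u hu => by
    refine ⟨?_, Subgroup.mul_mem _ (hn.conj_mem _ hu q) (inv_mem hu)⟩
    · have h1 : u * q⁻¹ * u⁻¹ ∈ Q := by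
        have huT : u ∈ (T : Subgroup G) := by
          have hle : R ≤ (T : Subgroup G) := by
            obtain ⟨P, hP⟩ := hRp.exists_le_sylow
            obtain ⟨g, hg⟩ := MulAction.exists_smul_eq G P T
            intro r hr
            rw [← hg]
            exact ⟨g⁻¹ * r * g⁻¹⁻¹, hP (hn.conj_mem _ hr g⁻¹), by simp [mul_assoc]⟩
          exact hle hu
        exact (Subgroup.mem_normalizer_iff.mp (hQn huT) _).mp (inv_mem hq)
      simpa [mul_assoc] using L.mul_mem (hQL hq) (hQL h1)⟩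
  refine charP_of_forall fun w hw hcop h => ?_
  have hcw : ∀ d ∈ D, Commute w d := fun d hd => h d (hDle hd)
  -- the p'-elements of `C_E(D)` are trivial
  let F : Subgroup G := E ⊓ Subgroup.centralizer (D : Set G)
  have hFp : IsPGroup p F := isPGroup_of_forall fun x hx hxc => eq_one_of_charP_top hG hxc fun u hu =>
    commute_of_stab hRp hxc ((hx.1.2 u hu).2)
      (Subgroup.mem_centralizer_iff.mp hx.2 _ (hx.1.2 u hu)).symm
  have hFle : F ≤ opIn p L := le_opIn (fun x hx => hx.1.1) hFp fun l hl => by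
    refine mem_normalizer_of_conj_le fun x hx => ⟨hEL l hl x hx.1, ?_⟩
    refine Subgroup.mem_centralizer_iff.mpr fun d hd => ?_
    have h1 : Commute x (l⁻¹ * d * l⁻¹⁻¹) :=
      (Subgroup.mem_centralizer_iff.mp hx.2 _ (hLD l⁻¹ (inv_mem hl) d hd)).symm
    have h2 := h1.map (MulAut.conj l).toMonoidHom
    simp [mul_assoc] at h2
    exact (show Commute (l * x * l⁻¹) d from by simpa [mul_assoc] using h2).eq.symm
  have hQc : ∀ q ∈ Q, Commute w q := by
    intro q hq
    have hc : w * q * w⁻¹ * q⁻¹ ∈ F := by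
      refine ⟨E.mul_mem (hEL w hw q (hQE q hq)) (inv_mem (hQE q hq)), ?_⟩
      refine Subgroup.mem_centralizer_iff.mpr fun d hd => ?_
      have e0 : q⁻¹ * d * q⁻¹⁻¹ ∈ D := hLD q⁻¹ (inv_mem (hQL hq)) d hd
      rw [inv_inv] at e0
      have e1 : Commute w (q⁻¹ * d * q) := hcw _ e0
      have h1 : w * q * w⁻¹ * q⁻¹ * d * (w * q * w⁻¹ * q⁻¹)⁻¹ = d := by
        calc w * q * w⁻¹ * q⁻¹ * d * (w * q * w⁻¹ * q⁻¹)⁻¹
            = w * (q * (w⁻¹ * (q⁻¹ * d * q) * w) * q⁻¹) * w⁻¹ := by simp [mul_assoc]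
          _ = w * (q * (q⁻¹ * d * q) * q⁻¹) * w⁻¹ := by rw [e1.inv_left.eq, inv_mul_cancel_right]
          _ = d := by
            rw [show q * (q⁻¹ * d * q) * q⁻¹ = d by simp [mul_assoc], (hcw d hd).eq, mul_inv_cancel_right]
      exact (mul_inv_eq_iff_eq_mul.mp h1).symm
    exact commute_of_stab hFp hcop hc (h _ (hFle hc))
  have := centralizer_le_of_sylow hG T Q hQT hQn hC
    (Subgroup.mem_centralizer_iff.mpr fun q hq => (hQc q hq).eq.symm)
  exact eq_one_of_orderOf_coprime hQp this hcop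

end Cfsg.Agent.S2961
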