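import Cfsg.Statements.S2963

set_option autoImplicit false
open scoped Pointwise
set_option linter.unusedVariables false
open Cfsg

namespace Cfsg.Agent.S2963

/-- Let n be odd. If the symmetric group of degree n is a minimal parabolic group for the prime 2, that is, a Sylow 2-subgroup is not normal and lies in exactly one maximal subgroup, then n = 2^m + 1 for some natural number m. -/
theorem result (n : ℕ) (hn : Odd n) (h : Cfsg.IsPMinimal 2 (Equiv.Perm (Fin n))) : ∃ m : ℕ, n = 2 ^ m + 1 := by
  classical
  haveI : Fact (Nat.Prime 2) := ⟨Nat.prime_two⟩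
  obtain ⟨S⟩ := (inferInstance : Nonempty (Sylow 2 (Equiv.Perm (Fin n))))
  obtain ⟨hSn, M, ⟨hMc, hSM⟩, hMu⟩ := h S
  -- every proper overgroup of `S` lies in `M`
  have hle : ∀ K : Subgroup (Equiv.Perm (Fin n)), (S : Subgroup _) ≤ K → K ≠ ⊤ → K ≤ M := by
    intro K hSK hK
    rcases eq_top_or_exists_le_coatom K with h1 | ⟨N, hN, hKN⟩
    · exact absurd h1 hK
    · exact hMu N ⟨hN, hSK.trans hKN⟩ ▸ hKN
  have hn1 : n ≠ 1 := by
    rintro rfl
    exact hSn ⟨fun a ha g => by rw [Subsingleton.elim (g * a * g⁻¹) a]; exact ha⟩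
  obtain ⟨x, hx⟩ := S.isPGroup'.nonempty_fixed_point_of_prime_not_dvd_card (Fin n)
    (by rw [Nat.card_fin]; exact fun h2 => (Nat.not_even_iff_odd.2 hn) (even_iff_two_dvd.2 h2))
  have hxS : ∀ g ∈ (S : Subgroup (Equiv.Perm (Fin n))), g x = x := fun g hg => hx ⟨g, hg⟩
  -- swaps avoiding `x` lie in `M`
  have hswap : ∀ a b : Fin n, a ≠ x → b ≠ x → Equiv.swap a b ∈ M := by
    intro a b ha hb
    refine hle (MulAction.stabilizer (Equiv.Perm (Fin n)) x)
      (fun g hg => MulAction.mem_stabilizer_iff.2 (hxS g hg)) ?_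
      (MulAction.mem_stabilizer_iff.2 (Equiv.swap_apply_of_ne_of_ne ha.symm hb.symm))
    intro htop
    obtain ⟨c, hc⟩ : ∃ c : Fin n, c ≠ x := by
      haveI : Nontrivial (Fin n) := Fin.nontrivial_iff_two_le.2 (by have := hn.pos; omega)
      exact exists_ne x
    have h1 : Equiv.swap x c ∈ MulAction.stabilizer (Equiv.Perm (Fin n)) x := htop ▸ Subgroup.mem_top _
    rw [MulAction.mem_stabilizer_iff, Equiv.Perm.smul_def, Equiv.swap_apply_left] at h1
    exact hc h1
  obtain ⟨y, hy⟩ : ∃ y : Fin n, y ≠ x := by
    haveI : Nontrivial (Fin n) := Fin.nontrivial_iff_two_le.2 (by have := hn.pos; omega)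
    exact exists_ne x
  have hB : MulAction.orbit S y = {x}ᶜ := by
    apply Set.Subset.antisymm
    · rintro _ ⟨g, rfl⟩ hgx
      have : (g : Equiv.Perm (Fin n)) y = x := hgx
      exact hy ((g : Equiv.Perm (Fin n)).injective (by rw [this, hxS g g.2]))
    intro z hzx
    by_contra hz
    have hxB : x ∉ MulAction.orbit S y := by
      rintro ⟨g, hg⟩
      exact hy ((g : Equiv.Perm (Fin n)).injective ((show (g : Equiv.Perm (Fin n)) y = x from hg).trans
        (hxS g g.2).symm))
    have hyB : y ∈ MulAction.orbit S y := MulAction.mem_orbit_self y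
    have hSB : (S : Subgroup _) ≤ MulAction.stabilizer (Equiv.Perm (Fin n)) (MulAction.orbit S y) := by
      intro g hg
      rw [MulAction.mem_stabilizer_set]
      intro b
      show (⟨g, hg⟩ : (S : Subgroup _)) • b ∈ MulAction.orbit S y ↔ _
      rw [← MulAction.orbit_eq_iff, MulAction.orbit_smul, MulAction.orbit_eq_iff]
    have hsx : Equiv.swap x z ∈ M := by
      refine hle _ hSB ?_ ?_
      · intro htop
        have h1 : Equiv.swap y z ∈ MulAction.stabilizer (Equiv.Perm (Fin n)) (MulAction.orbit S y) :=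
          htop ▸ Subgroup.mem_top _
        have h2 := (MulAction.mem_stabilizer_set.1 h1 y).2 hyB
        rw [Equiv.Perm.smul_def, Equiv.swap_apply_left] at h2
        exact hz h2
      · rw [MulAction.mem_stabilizer_set]
        intro b
        rw [Equiv.Perm.smul_def]
        rcases eq_or_ne b x with rfl | hbx
        · rw [Equiv.swap_apply_left]; exact ⟨fun h2 => absurd h2 hz, fun h2 => absurd h2 hxB⟩
        rcases eq_or_ne b z with rfl | hbz
        · rw [Equiv.swap_apply_right]; exact ⟨fun h2 => absurd h2 hxB, fun h2 => absurd h2 hz⟩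
        rw [Equiv.swap_apply_of_ne_of_ne hbx hbz]
    have hall : ∀ a b : Fin n, Equiv.swap a b ∈ M := by
      have key : ∀ a : Fin n, a ≠ x → Equiv.swap x a ∈ M := by
        intro a ha
        rcases eq_or_ne a z with rfl | haz
        · exact hsx
        have h3 : Equiv.swap x a = Equiv.swap z a * Equiv.swap x z * Equiv.swap z a := by
          have h4 := Equiv.swap_apply_apply (Equiv.swap z a) x z
          rw [Equiv.swap_apply_of_ne_of_ne (Ne.symm hzx) ha.symm, Equiv.swap_apply_left, Equiv.swap_inv] at h4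
          exact h4
        rw [h3]
        exact M.mul_mem (M.mul_mem (hswap z a hzx ha) hsx) (hswap z a hzx ha)
      intro a b
      rcases eq_or_ne a x with rfl | ha
      · rcases eq_or_ne b a with rfl | hb
        · rw [Equiv.swap_self]; exact M.one_mem
        · exact key b hb
      rcases eq_or_ne b x with rfl | hb
      · rw [Equiv.swap_comm]; exact key a ha
      exact hswap a b ha hb
    apply hMc.1
    rw [eq_top_iff]
    intro g _
    induction g using Equiv.Perm.swap_induction_on with
    | one => exact M.one_mem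
    | swap_mul f a b _ ih => exact M.mul_mem (hall a b) (ih trivial)
  obtain ⟨k, hk⟩ := S.isPGroup'.card_orbit y
  refine ⟨k, ?_⟩
  rw [hB, Nat.card_coe_set_eq, Set.ncard_compl, Set.ncard_singleton, Nat.card_fin] at hk
  have := hn.pos
  omega

end Cfsg.Agent.S2963
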