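import Cfsg.Statements.S2968
import Cfsg.Agent.LocalB.Isolated

set_option autoImplicit false
set_option linter.unusedVariables false
open Cfsg CfsgLib.LocalB

namespace Cfsg.Agent.S2968

/-- Let G be a finite group, p a prime, P a Sylow p-subgroup of G and x ∈ P an element of p-power order which is isolated in G (the only conjugate of x commuting with x is x itself). Then x lies in the centre of P, and the subgroup generated by x is both strongly closed and weakly closed in P with respect to G. -/
theorem result {G : Type*} [Group G] [Finite G] {p : ℕ} [Fact p.Prime] (P : Sylow p G) (x : G) (hxP : x ∈ (P : Subgroup G)) (hx : ∃ k : ℕ, orderOf x = p ^ k) (hiso : Cfsg.IsIsolated x) : x ∈ (P : Subgroup G) ⊓ Subgroup.centralizer ((P : Subgroup G) : Set G) ∧ Cfsg.IsStronglyClosed (Subgroup.zpowers x) (P : Subgroup G) ∧ Cfsg.IsWeaklyClosed (Subgroup.zpowers x) (P : Subgroup G) := by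
  have hc : ∀ u ∈ (P : Subgroup G), u * x = x * u := isolated_central hiso P.isPGroup' hxP
  have hzp : Subgroup.zpowers x ≤ (P : Subgroup G) := Subgroup.zpowers_le.mpr hxP
  have key : ∀ y ∈ Subgroup.zpowers x, ∀ g : G, g * y * g⁻¹ ∈ (P : Subgroup G) → g * y * g⁻¹ = y := by
    intro y hy g hg
    obtain ⟨m, rfl⟩ := Subgroup.mem_zpowers_iff.mp hy
    exact isolated_conj_pow hiso hx m g (hc _ hg)
  refine ⟨⟨hxP, Subgroup.mem_centralizer_iff.mpr fun u hu => hc u hu⟩,
    ⟨hzp, fun y hy g hg => (key y hy g hg).symm ▸ hy⟩, hzp, fun g hg => ?_⟩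
  have h1 : g * x * g⁻¹ = x :=
    key x (Subgroup.mem_zpowers x) g (hg ⟨x, Subgroup.mem_zpowers x, rfl⟩)
  rw [MonoidHom.map_zpowers]
  show Subgroup.zpowers (g * x * g⁻¹) = Subgroup.zpowers x
  rw [h1]

end Cfsg.Agent.S2968
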