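import Cfsg.Statements.S2970
import Cfsg.Agent.LocalB.Isolated
import Mathlib.GroupTheory.Transfer
import Mathlib.NumberTheory.Basic
import Mathlib.GroupTheory.SpecificGroups.Cyclic

set_option autoImplicit false
set_option linter.unusedVariables false
open Cfsg CfsgLib.LocalB

namespace Cfsg.Agent.S2970

/-- Let G be a finite group, p a prime and x ∈ G an element of p-power order which is isolated in G. Then the image of x in any quotient G ⧸ N is isolated in G ⧸ N; and if x ≠ 1 and the Sylow p-subgroups of G are cyclic, then G has a normal p-complement. -/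
theorem result {G : Type*} [Group G] [Finite G] {p : ℕ} [Fact p.Prime] (x : G) (hx : ∃ k : ℕ, orderOf x = p ^ k) (hiso : Cfsg.IsIsolated x) : (∀ (N : Subgroup G) [N.Normal], Cfsg.IsIsolated (QuotientGroup.mk x : G ⧸ N)) ∧ (x ≠ 1 → (∀ P : Sylow p G, IsCyclic ↥(P : Subgroup G)) → Cfsg.HasNormalPComplement p G) := by
  refine ⟨fun N hN g' hc => ?_, fun hx1 hcyc => ?_⟩
  · induction g' using QuotientGroup.induction_on with
    | H g =>
    have hN' := hN
    let π : G →* G ⧸ N := QuotientGroup.mk' N
    set xb : G ⧸ N := π x with hxb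
    set yb : G ⧸ N := π g * xb * (π g)⁻¹ with hyb
    change Commute xb yb at hc
    change yb = xb
    let W : Subgroup G :=
      (Subgroup.centralizer ({xb} : Set (G ⧸ N)) ⊓ Subgroup.centralizer ({yb} : Set (G ⧸ N))).comap π
    have hxW : x ∈ W :=
      ⟨Subgroup.mem_centralizer_singleton_iff.mpr rfl, Subgroup.mem_centralizer_singleton_iff.mpr hc.eq⟩
    have hyW : g * x * g⁻¹ ∈ W := by
      have : π (g * x * g⁻¹) = yb := by simp [hyb, hxb]
      refine ⟨Subgroup.mem_centralizer_singleton_iff.mpr ?_, Subgroup.mem_centralizer_singleton_iff.mpr ?_⟩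
      · rw [this]; exact hc.eq.symm
      · rw [this]
    obtain ⟨n, hn, hnx⟩ := isolated_conj_mem hiso hx hxW hyW
    have h1 : π n * yb = yb * π n := Subgroup.mem_centralizer_singleton_iff.mp hn.2
    have h2 : π n * yb * (π n)⁻¹ = xb := by
      rw [hxb]; conv_rhs => rw [← hnx]
      simp [hyb, hxb, mul_assoc]
    rw [← h2, h1, mul_inv_cancel_right]
  · obtain ⟨k, hk⟩ := hx
    obtain ⟨P, hP⟩ := (isPGroup_zpowers (p := p) ⟨k, hk⟩).exists_le_sylow
    have hxP : x ∈ (P : Subgroup G) := hP (Subgroup.mem_zpowers x)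
    obtain ⟨a, ha⟩ := (hcyc P).exists_generator
    have hagen : ∀ u ∈ (P : Subgroup G), ∃ i : ℤ, (a : G) ^ i = u := fun u hu => by
      obtain ⟨i, hi⟩ := Subgroup.mem_zpowers_iff.mp (ha ⟨u, hu⟩)
      exact ⟨i, by simpa using congrArg Subtype.val hi⟩
    have hPle : Subgroup.normalizer ((P : Subgroup G) : Set G) ≤
        Subgroup.centralizer ((P : Subgroup G) : Set G) := by
      intro g hg
      obtain ⟨e, he⟩ := P.isPGroup'.exists_card_eq
      have hga : g * a * g⁻¹ ∈ (P : Subgroup G) := (Subgroup.mem_normalizer_iff.mp hg a).mp a.2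
      obtain ⟨m, hm⟩ := hagen _ hga
      obtain ⟨r, hr⟩ := hagen x hxP
      have hgx : g * x * g⁻¹ = x :=
        hiso g (isolated_central hiso P.isPGroup' hxP _
          ((Subgroup.mem_normalizer_iff.mp hg x).mp hxP)).symm
      -- `m ≡ 1 (mod p)`
      have hm1 : (p : ℤ) ∣ m - 1 := by
        have h1 : x ^ (m - 1) = 1 := by
          have : x ^ m = x := by
            conv_rhs => rw [← hgx]
            rw [← hr, ← zpow_mul, mul_comm, zpow_mul, hm, conj_zpow]
          rw [zpow_sub, this, zpow_one, mul_inv_cancel]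
        rcases Nat.eq_zero_or_pos k with rfl | hk0
        · exact absurd (orderOf_eq_one_iff.mp (by simpa using hk)) hx1
        · refine dvd_trans ?_ (orderOf_dvd_iff_zpow_eq_one.mpr h1)
          rw [hk]; exact_mod_cast dvd_pow_self p hk0.ne'
      have hiter : ∀ j : ℕ, g ^ j * a * (g ^ j)⁻¹ = (a : G) ^ (m ^ j) := by
        intro j
        induction j with
        | zero => simp
        | succ j ih =>
          rw [pow_succ', mul_inv_rev, show g * g ^ j * (a : G) * ((g ^ j)⁻¹ * g⁻¹) = g * (g ^ j * a * (g ^ j)⁻¹) * g⁻¹ by simp [mul_assoc], ih, ← conj_zpow,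
            ← hm, ← zpow_mul, ← pow_succ']
      have hpe : g ^ (p ^ e) ∈ Subgroup.centralizer ((P : Subgroup G) : Set G) := by
        have h1 : g ^ (p ^ e) * a * (g ^ (p ^ e))⁻¹ = (a : G) := by
          rw [hiter]
          have hd : (orderOf (a : G) : ℤ) ∣ m ^ (p ^ e) - 1 := by
            have h2 : (p : ℤ) ^ (e + 1) ∣ m ^ (p ^ e) - 1 ^ (p ^ e) := dvd_sub_pow_of_dvd_sub hm1 e
            rw [one_pow] at h2
            refine dvd_trans ?_ h2
            have : orderOf (a : G) ∣ p ^ (e + 1) :=
              ((P : Subgroup G).orderOf_dvd_natCard a.2).trans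
                (he.symm ▸ pow_dvd_pow p (Nat.le_succ e))
            exact_mod_cast this
          have := orderOf_dvd_iff_zpow_eq_one.mp hd
          rw [zpow_sub, zpow_one, mul_inv_eq_one] at this
          exact this
        refine Subgroup.mem_centralizer_iff.mpr fun u hu => ?_
        obtain ⟨i, rfl⟩ := hagen u hu
        exact ((show Commute (g ^ (p ^ e)) (a : G) from mul_inv_eq_iff_eq_mul.mp h1).zpow_right i).eq.symm
      -- a power of `g` prime to `p` lies in `P`
      set NP := Subgroup.normalizer ((P : Subgroup G) : Set G) with hNP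
      have hle : (P : Subgroup G) ≤ NP := Subgroup.le_normalizer
      have : ((P : Subgroup G).subgroupOf NP).Normal := Subgroup.normal_in_normalizer
      set d := ((P : Subgroup G).subgroupOf NP).index with hd
      have hcop : d.Coprime (p ^ e) := by
        have h1 : ¬ p ∣ (P.subtype hle : Subgroup NP).index := Sylow.not_dvd_index _
        exact Nat.Coprime.pow_right _ ((Fact.out : p.Prime).coprime_iff_not_dvd.mpr h1).symm
      have hgd : g ^ d ∈ Subgroup.centralizer ((P : Subgroup G) : Set G) := by
        have h1 : g ^ d ∈ (P : Subgroup G) :=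
          Subgroup.pow_index_mem ((P : Subgroup G).subgroupOf NP) (⟨g, hg⟩ : NP)
        refine Subgroup.mem_centralizer_iff.mpr fun u hu => ?_
        obtain ⟨i, hi⟩ := hagen u hu
        obtain ⟨j, hj⟩ := hagen _ h1
        rw [← hi, ← hj, ← zpow_add, ← zpow_add, add_comm]
      have := Subgroup.mul_mem _ (Subgroup.zpow_mem _ hgd (Nat.gcdA d (p ^ e)))
        (Subgroup.zpow_mem _ hpe (Nat.gcdB d (p ^ e)))
      rw [← zpow_natCast g d, ← zpow_natCast g (p ^ e), ← zpow_mul, ← zpow_mul, ← zpow_add,
        ← Nat.gcd_eq_gcd_ab, hcop.gcd_eq_one, Nat.cast_one, zpow_one] at this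
      exact this
    exact ⟨P, (MonoidHom.transferSylow P hPle).ker, inferInstance,
      MonoidHom.ker_transferSylow_isComplement' P hPle⟩

end Cfsg.Agent.S2970
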