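import Cfsg.Statements.S2971
import Cfsg.Agent.S2970
import Cfsg.Agent.LocalB.Embedded
import Cfsg.Agent.InvChar.UniqueInvolution
import Cfsg.Agent.Solvable.Basics

set_option autoImplicit false
set_option linter.unusedVariables false
open Cfsg

namespace Cfsg.Agent.S2971

/-- Let G be a finite group and p an odd prime such that G has p-rank at most 1 (no elementary abelian subgroup of order p²). If x ∈ G is an isolated element of order p, then x is central modulo the largest normal subgroup of G of order prime to p. -/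
theorem result {G : Type*} [Group G] [Finite G] {p : ℕ} [Fact p.Prime] (hp : p ≠ 2) (hrk : Cfsg.PRankLE p 1 G) (x : G) (hx : orderOf x = p) (hiso : Cfsg.IsIsolated x) : Cfsg.InZStar p x := by
  have hpr : p.Prime := Fact.out
  have hcyc : ∀ P : Sylow p G, IsCyclic ↥(P : Subgroup G) := by
    intro P
    suffices hu : ∀ a b : ↥(P : Subgroup G), orderOf a = p → orderOf b = p → b ∈ Subgroup.zpowers a by
      rcases CfsgLib.UniqueInvol.cyclic_or_quaternion P.isPGroup' hu with h | h
      · exact h
      · exact absurd h.1 hp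
    intro a b ha hb
    haveI : Nontrivial ↥(P : Subgroup G) :=
      ⟨a, 1, fun e => hpr.one_lt.ne (by rw [← ha, e, orderOf_one])⟩
    have := P.isPGroup'.center_nontrivial
    obtain ⟨z, hz⟩ := exists_prime_orderOf_dvd_card' (G := Subgroup.center ↥(P : Subgroup G)) p
      (CfsgLib.LocalB.dvd_card_of_ne_bot (P.isPGroup'.to_subgroup _)
        ((Subgroup.nontrivial_iff_ne_bot _).1 this))
    set w : G := ((z : ↥(P : Subgroup G)) : G) with hw
    have hwp : orderOf w = p := by rw [hw, Subgroup.orderOf_coe, Subgroup.orderOf_coe]; exact hz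
    have key : ∀ c : ↥(P : Subgroup G), orderOf c = p → (c : G) ∈ Subgroup.zpowers w := by
      intro c hc
      have hcw : Commute w (c : G) := by
        have := Subgroup.mem_center_iff.1 z.2 c
        exact (congrArg Subtype.val this).symm
      have hcp : orderOf (c : G) = p := by rw [Subgroup.orderOf_coe]; exact hc
      let A : Subgroup G :=
        { carrier := {u | ∃ i j : ℤ, u = w ^ i * (c : G) ^ j}
          one_mem' := ⟨0, 0, by simp⟩
          mul_mem' := by
            rintro _ _ ⟨i, j, rfl⟩ ⟨k, l, rfl⟩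
            exact ⟨i + k, j + l, by rw [zpow_add, zpow_add, (hcw.zpow_zpow k j).symm.mul_mul_mul_comm]⟩
          inv_mem' := by
            rintro _ ⟨i, j, rfl⟩
            exact ⟨-i, -j, by rw [mul_inv_rev, ← zpow_neg, ← zpow_neg, ((hcw.zpow_zpow (-i) (-j))).eq]⟩ }
      have hA : IsMulCommutative A := by
        refine ⟨⟨fun u v => Subtype.ext ?_⟩⟩
        obtain ⟨i, j, hu⟩ := u.2
        obtain ⟨k, l, hv⟩ := v.2
        show (u : G) * v = v * u
        rw [hu, hv]
        exact ((((Commute.refl w).zpow_zpow i k).mul_right (hcw.zpow_zpow i l)).mul_left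
          ((hcw.symm.zpow_zpow j k).mul_right ((Commute.refl (c : G)).zpow_zpow j l))).eq
      have hexp : ∀ u ∈ A, u ^ p = 1 := by
        rintro u ⟨i, j, rfl⟩
        rw [(hcw.zpow_zpow i j).mul_pow, ← zpow_natCast, ← zpow_natCast ((c : G) ^ j), zpow_comm,
          zpow_comm (c : G) j, zpow_natCast, zpow_natCast, orderOf_dvd_iff_pow_eq_one.1 hwp.dvd,
          orderOf_dvd_iff_pow_eq_one.1 hcp.dvd, one_zpow, one_zpow, one_mul]
      have hle : Subgroup.zpowers w ≤ A := Subgroup.zpowers_le.2 ⟨1, 0, by simp⟩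
      have : Subgroup.zpowers w = A := Subgroup.eq_of_le_of_card_ge hle (by
        have := hrk A hA hexp
        rw [pow_one] at this
        rwa [Nat.card_zpowers, hwp])
      rw [this]; exact ⟨0, 1, by simp⟩
    have h1 : Subgroup.zpowers (a : G) = Subgroup.zpowers w := by
      refine Subgroup.eq_of_le_of_card_ge (Subgroup.zpowers_le.2 (key a ha)) ?_
      rw [Nat.card_zpowers, Nat.card_zpowers, hwp, Subgroup.orderOf_coe, ha]
    obtain ⟨i, hi⟩ := Subgroup.mem_zpowers_iff.1 (h1.symm ▸ key b hb : (b : G) ∈ Subgroup.zpowers (a : G))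
    exact ⟨i, Subtype.ext (by simpa using hi)⟩
  have hx' : ∃ k : ℕ, orderOf x = p ^ k := ⟨1, by rw [pow_one, hx]⟩
  obtain ⟨hquot, hnc⟩ := Cfsg.Agent.S2970.result x hx' hiso
  obtain ⟨P, N, hN, hcompl⟩ := hnc (fun e => hpr.one_lt.ne (by rw [← hx, e, orderOf_one])) hcyc
  have hNp : (Nat.card N).Coprime p := by
    rw [← hcompl.index_eq_card]
    exact (hpr.coprime_iff_not_dvd.2 P.not_dvd_index).symm
  have := hcyc P
  have hcycQ : IsCyclic (G ⧸ N) := by
    refine isCyclic_of_surjective ((QuotientGroup.mk' N).comp (P : Subgroup G).subtype) ?_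
    intro y
    obtain ⟨g, rfl⟩ := QuotientGroup.mk'_surjective N y
    obtain ⟨⟨n, q⟩, hnq⟩ := hcompl.2 g
    refine ⟨q, ?_⟩
    rw [← hnq]
    simp [(QuotientGroup.eq_one_iff (n : G)).2 n.2]
  intro g
  apply CfsgLib.Solvable.le_pPrimeCore (p := p) hN hNp
  rw [← QuotientGroup.eq_one_iff]
  letI := IsCyclic.commGroup (α := G ⧸ N)
  have h := hquot N (QuotientGroup.mk g : G ⧸ N) (Commute.all _ _)
  simp only [QuotientGroup.mk_mul, QuotientGroup.mk_inv]
  rw [h, mul_inv_cancel]

end Cfsg.Agent.S2971
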