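import Cfsg.Statements.S2972
import Cfsg.Agent.LocalB.ZpStarMin

set_option autoImplicit false
set_option linter.unusedVariables false
open Cfsg CfsgLib.LocalB

namespace Cfsg.Agent.S2972

/-- Let G be a finite group, p a prime and x ∈ G an isolated element of order p (the only conjugate of x commuting with x is x) which is not central modulo the largest normal subgroup of order prime to p, while x is central modulo the largest normal subgroup of order prime to p in every proper subgroup containing x, and the image of x is so in every quotient of G by a nontrivial normal subgroup (a minimal counterexample to the Z*_p statement). Then the derived subgroup G' is a non-abelian simple group and G = G'⟨x⟩. -/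
theorem result {G : Type*} [Group G] [Finite G] {p : ℕ} [Fact p.Prime] (x : G) (hx : orderOf x = p) (hiso : Cfsg.IsIsolated x) (hnz : ¬ Cfsg.InZStar p x) (hmin : ∀ (H : Subgroup G) (hxH : x ∈ H), H ≠ ⊤ → Cfsg.InZStar p (⟨x, hxH⟩ : ↥H)) (hquot : ∀ (N : Subgroup G) [N.Normal], N ≠ ⊥ → Cfsg.InZStar p (QuotientGroup.mk x : G ⧸ N)) : IsSimpleGroup ↥(commutator G) ∧ ¬ IsMulCommutative ↥(commutator G) ∧ commutator G ⊔ Subgroup.zpowers x = ⊤ := by
  exact zp_derived_simple hx hiso hnz hmin hquot
end Cfsg.Agent.S2972
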