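import Cfsg.Statements.S2981
import Cfsg.Agent.PMinFF.Generate
import Cfsg.Agent.PMinFF.QBridge
import Cfsg.Agent.PLocal.Thompson
import Cfsg.Agent.CharP.LargestPReduced
-- import your own Cfsg.Agent.* helpers here

set_option autoImplicit false
open Cfsg CfsgLib CfsgLib.PMinFF Subgroup

namespace Cfsg.Agent.S2981

/-- The local C**(G,T)-Theorem for minimal parabolic groups. Let G be a finite p-minimal group (a Sylow p-subgroup T is not normal and lies in exactly one maximal subgroup) of characteristic p (C_G(O_p(G)) ≤ O_p(G)), and suppose G ≠ C**(G,T), the subgroup generated by C_G(Ω₁(Z(T))) and N_G(J(T)) (J(T) generated by the elementary abelian p-subgroups of T of largest order). Put V = Ω₁(Z(O_p(G))) and C = C_G(V). Then there are subgroups E₁, …, E_r of G containing C such that: J(G)TC = G and the E_i C/C form an internal direct product equal to J(G)C/C; any two of the E_i are conjugate by an element of T; V = C_V(⟨E_i⟩)·∏[V, E_i] with [V, E_i,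 E_j] = 1 for i ≠ j; for some n ≥ 1, each E_i/C is isomorphic to SL₂(pⁿ), or p = 2 and to the symmetric group of degree 2ⁿ + 1; and E_i acts on [V, E_i]/C_{[V,E_i]}(E_i) as the natural two-dimensional SL₂(pⁿ)-module, respectively as the symmetric group of degree 2ⁿ+1 on its even-weight permutation module. -/
theorem result {G : Type*} [Group G] [Finite G] {p : ℕ} [Fact p.Prime] (hmin : Cfsg.IsPMinimal p G) (hG : Subgroup.centralizer (Cfsg.pCore p G : Set G) ≤ Cfsg.pCore p G) (T : Sylow p G) (hne : Cfsg.cStarStarOf p (T : Subgroup G) ≠ ⊤) : ∃ (r : ℕ) (E : Fin r → Subgroup G), (∀ i, Subgroup.centralizer (Cfsg.omegaOneCenter p (Cfsg.pCore p G) : Set G) ≤ E i) ∧ Cfsg.thompsonSubgroup p G ⊔ (T : Subgroup G) ⊔ Subgroup.centralizer (Cfsg.omegaOneCenter p (Cfsg.pCore p G) : Set G) = ⊤ ∧ (⨆ i, E i) = Cfsg.thompsonSubgroup p G ⊔ Subgroup.centralizer (Cfsg.omegaOneCenter p (Cfsg.pCore p G) : Set G) ∧ (∀ i j, i ≠ j → ⁅E i, E j⁆ ≤ Subgroup.centralizer (Cfsg.omegaOneCenter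 p (Cfsg.pCore p G) : Set G)) ∧ (∀ i, E i ⊓ (⨆ j ∈ {j | j ≠ i}, E j) ≤ Subgroup.centralizer (Cfsg.omegaOneCenter p (Cfsg.pCore p G) : Set G)) ∧ (∀ i j, ∃ t ∈ (T : Subgroup G), (E i).map (MulAut.conj t).toMonoidHom = E j) ∧ (Cfsg.omegaOneCenter p (Cfsg.pCore p G) ⊓ Subgroup.centralizer ((⨆ i, E i : Subgroup G) : Set G)) ⊔ (⨆ i, ⁅Cfsg.omegaOneCenter p (Cfsg.pCore p G), E i⁆) = Cfsg.omegaOneCenter p (Cfsg.pCore p G) ∧ (∀ i j, i ≠ j → ⁅⁅Cfsg.omegaOneCenter p (Cfsg.pCore p G), E i⁆, E j⁆ = ⊥) ∧ ∀ i, ∃ n : ℕ, 1 ≤ n ∧ ((∃ (F : Type) (_ : Field F) (_ : Fintype F), Fintype.card F = p ^ n ∧ (∃ _ : ((Subgroup.centralizer (Cfsg.omegaOneCenter p (Cfsg.pCore p G) : Set G)).subgroupOf (E i)).Normal, Nonempty (↥(E i) ⧸ (Subgroup.centralizer (Cfsg.omegaOneCenter p (Cfsg.pCore p G) : Set G)).subgroupOf (E i) ≃* Matrix.SpecialLinearGroup (Fin 2) F)) ∧ Cfsg.ActsAsSL2OnSection F ⊤ (E i) ⁅Cfsg.omegaOneCenter p (Cfsg.pCore p G), E i⁆ (⁅Cfsg.omegaOneCenter p (Cfsg.pCore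 p G), E i⁆ ⊓ Subgroup.centralizer ((E i : Subgroup G) : Set G))) ∨ (p = 2 ∧ (∃ _ : ((Subgroup.centralizer (Cfsg.omegaOneCenter p (Cfsg.pCore p G) : Set G)).subgroupOf (E i)).Normal, Nonempty (↥(E i) ⧸ (Subgroup.centralizer (Cfsg.omegaOneCenter p (Cfsg.pCore p G) : Set G)).subgroupOf (E i) ≃* Equiv.Perm (Fin (2 ^ n + 1)))) ∧ Cfsg.ActsAsOddPermModuleOnSection (2 ^ n + 1) ⊤ (E i) ⁅Cfsg.omegaOneCenter p (Cfsg.pCore p G), E i⁆ (⁅Cfsg.omegaOneCenter p (Cfsg.pCore p G), E i⁆ ⊓ Subgroup.centralizer ((E i : Subgroup G) : Set G)))) := by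
  classical
  have hjoin : ∀ x ∈ Cfsg.pCore p G ⊓ Subgroup.centralizer (Cfsg.pCore p G : Set G),
      ∀ y ∈ Cfsg.pCore p G ⊓ Subgroup.centralizer (Cfsg.pCore p G : Set G), x * y = y * x :=
    fun x hx y hy => Subgroup.mem_centralizer_iff.1 hy.2 x hx.1
  set Q := Cfsg.pCore p G with hQ
  set V := Cfsg.omegaOneCenter p Q with hVdef
  haveI hQn : Q.Normal := CfsgLib.Solvable.pCore_normal p
  haveI hVn : V.Normal := by
    haveI : (Q ⊓ Subgroup.centralizer (Q : Set G)).Normal := Subgroup.normal_inf_normal _ _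
    refine ⟨fun x hx g => ?_⟩
    have h1 := Subgroup.mem_map_of_mem (MulAut.conj g).toMonoidHom hx
    rw [hVdef, Cfsg.omegaOneCenter, CfsgLib.Thompson.map_omegaOne _ (MulAut.conj g).injective] at h1
    refine CfsgLib.Thompson.omegaOne_mono ?_ h1
    rintro _ ⟨z, hz, rfl⟩
    exact Subgroup.Normal.conj_mem inferInstance z hz g
  have hVel : Cfsg.IsElementaryAbelian p V := CfsgLib.Thompson.elab_omegaOne hjoin
  have hQT : Q ≤ (T : Subgroup G) := CfsgLib.Fitting.pCore_le_sylow T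
  have hVle : V ≤ Q ⊓ Subgroup.centralizer (Q : Set G) := CfsgLib.Thompson.omegaOne_le _
  set C := Subgroup.centralizer (V : Set G) with hC
  have hQC : Q ≤ C := fun q hq => Subgroup.mem_centralizer_iff.2 fun v hv =>
    (Subgroup.mem_centralizer_iff.1 (hVle hv).2 q hq).symm
  have hVC : V ≤ C := (hVle.trans inf_le_left).trans hQC
  -- the fixed part lies in the maximal subgroup
  obtain ⟨hTn, M, ⟨hM, hTM⟩, -⟩ := hmin T
  have hover := CfsgLib.PMin.over_of_isPMinimal hmin T hM hTM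
  set Z := Cfsg.omegaOneCenter p (T : Subgroup G) with hZ
  set J := Cfsg.thompsonSubgroupOf p (T : Subgroup G) with hJdef
  have hZT : Z ≤ (T : Subgroup G) ⊓ Subgroup.centralizer ((T : Subgroup G) : Set G) :=
    CfsgLib.Thompson.omegaOne_le _
  have hTZ : (T : Subgroup G) ≤ Subgroup.centralizer (Z : Set G) := fun t ht =>
    Subgroup.mem_centralizer_iff.2 fun z hz =>
      (Subgroup.mem_centralizer_iff.1 (hZT hz).2 t ht).symm
  have hCss : Subgroup.centralizer (Z : Set G) ⊔ Subgroup.normalizer (J : Set G) ≤ M :=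
    (hover.2.2 _ (hTZ.trans le_sup_left)).resolve_left hne
  have hZV : Z ≤ V := CfsgLib.Thompson.omegaOne_mono fun z hz =>
    have h1 : z ∈ Subgroup.centralizer (Q : Set G) := Subgroup.centralizer_le hQT hz.2
    ⟨hG h1, h1⟩
  have hCM : C ≤ M := (Subgroup.centralizer_le hZV).trans (le_sup_left.trans hCss)
  have hnorm : ∀ D : Subgroup G, D.Normal → D ≤ M → (T : Subgroup G) ⊓ D ≤ Q := by
    intro D hD hDM
    haveI := hD
    refine CfsgLib.Solvable.le_pCore p ?_ (T.isPGroup'.to_le inf_le_left)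
    rw [← Subgroup.normalizer_eq_top_iff]
    refine (hover.2.2 _ (CfsgLib.CharP.sylow_le_normalizer_inf T D
      Subgroup.le_normalizer_of_normal)).resolve_right fun h => hover.2.1 (top_le_iff.1 ?_)
    rw [← CfsgLib.CharP.normalizer_inf_sup T D]
    exact sup_le h hDM
  -- the quotient
  set π := QuotientGroup.mk' C with hπ
  have hπs : Function.Surjective π := QuotientGroup.mk'_surjective C
  obtain ⟨W, iW, iWf, iA, e, hadd, hsmul⟩ := exists_quot_module V hVel.1
  have he : IsQuotModule V π e := ⟨hadd, hsmul, hπs, QuotientGroup.ker_mk' _⟩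
  let T' : Sylow p (G ⧸ C) := T.mapSurjective hπs
  have hT' : (T' : Subgroup (G ⧸ C)) = (T : Subgroup G).map π := rfl
  have hcomapM : (M.map π).comap π = M := by
    rw [Subgroup.comap_map_eq, QuotientGroup.ker_mk', sup_eq_left.2 hCM]
  have hover' : CfsgLib.PMin.Over (T' : Subgroup (G ⧸ C)) (M.map π) := by
    refine ⟨Subgroup.map_mono hTM, fun h => hover.2.1 ?_, fun Y hY => ?_⟩
    · rw [← hcomapM, h, Subgroup.comap_top]
    · rcases hover.2.2 (Y.comap π) (Subgroup.map_le_iff_le_comap.1 hY) with h | h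
      · left; rw [← Subgroup.map_comap_eq_self_of_surjective hπs Y, h,
          Subgroup.map_top_of_surjective π hπs]
      · right; rw [← Subgroup.map_comap_eq_self_of_surjective hπs Y]; exact Subgroup.map_mono h
  have H : Hyp W p T' (M.map π) :=
    { exp := he.elem_exp hVel.2
      faithful := he.faithful
      hover := hover'
      core := by
        set N := Cfsg.pCore p (G ⧸ C) with hN
        haveI : N.Normal := CfsgLib.Solvable.pCore_normal p
        set D := N.comap π with hD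
        haveI hDn : D.Normal := Subgroup.Normal.comap inferInstance π
        have hNT : N ≤ (T : Subgroup G).map π := CfsgLib.Fitting.pCore_le_sylow T'
        have hDle : D ≤ (T : Subgroup G) ⊔ C := by
          rw [← QuotientGroup.ker_mk' C, ← Subgroup.comap_map_eq]
          exact Subgroup.comap_mono hNT
        have h1 : (T : Subgroup G) ⊓ D ≤ C :=
          (hnorm D hDn (hDle.trans (sup_le hTM hCM))).trans hQC
        rw [eq_bot_iff]
        intro x hx
        obtain ⟨g, hg⟩ := hπs x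
        have hgD : g ∈ D := Subgroup.mem_comap.2 (by rwa [hg])
        obtain ⟨t, ht, c, hc, rfl⟩ := Subgroup.mem_sup_of_normal_right.1 (hDle hgD)
        have hcD : c ∈ D := Subgroup.mem_comap.2 (by
          rw [show π c = 1 from (QuotientGroup.eq_one_iff c).2 hc]; exact one_mem N)
        have htD : t ∈ D := (D.mul_mem_cancel_right hcD).1 hgD
        rw [Subgroup.mem_bot, ← hg]
        exact (QuotientGroup.eq_one_iff _).2 (mul_mem (h1 ⟨ht, htD⟩) hc)
      nt := fun h => hTn (by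
        rw [hT', Subgroup.map_eq_bot_iff, QuotientGroup.ker_mk'] at h
        have h1 := hnorm C inferInstance hCM
        rw [inf_eq_left.2 h] at h1
        rw [le_antisymm h1 hQT]
        exact hQn)
      cent := fun g hg => by
        obtain ⟨a, rfl⟩ := hπs g
        refine Subgroup.mem_map_of_mem π (hCss (Subgroup.mem_sup_left
          (Subgroup.mem_centralizer_iff.2 fun z hz => ?_)))
        obtain ⟨x, rfl⟩ := he.exists_of_mem (hZV hz)
        refine (he.smul_eq_iff.1 (hg x ?_)).symm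
        rintro - ⟨t, ht, rfl⟩
        exact he.smul_eq_iff.2 (Subgroup.mem_centralizer_iff.1 (hTZ ht) _ hz).symm }
  -- an offender
  have hJ : J = sSup (CfsgLib.Thompson.maxIn p (T : Subgroup G)) :=
    CfsgLib.Thompson.thompsonSubgroupOf_eq _
  obtain ⟨A, hA, hAC⟩ : ∃ A ∈ CfsgLib.Thompson.maxIn p (T : Subgroup G), ¬ A ≤ C := by
    by_contra hcon
    push Not at hcon
    have hR : ∀ A ∈ CfsgLib.Thompson.maxIn p (T : Subgroup G), A ≤ (T : Subgroup G) ⊓ C :=
      fun A hA => le_inf hA.1 (hcon A hA)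
    have hRQ : (T : Subgroup G) ⊓ C ≤ Q := hnorm C inferInstance hCM
    have hn : Subgroup.normalizer (J : Set G) = ⊤ := by
      rw [eq_top_iff]
      intro g _
      refine mem_normalizer_of_le ?_
      rw [hJ, cj_le_iff, sSup_le_iff]
      intro A hA
      rw [← cj_le_iff]
      refine le_sSup ⟨?_, CfsgLib.Thompson.elab_map _ hA.2.1, fun B hB hB' => ?_⟩
      · rintro - ⟨a, ha, rfl⟩
        exact hQT (hQn.conj_mem a (hRQ (hR A hA ha)) g)
      · rw [card_cj]; exact hA.2.2 B hB hB'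
    exact hne (top_le_iff.1 (hn.ge.trans le_sup_right))
  have hVT : V ≤ (T : Subgroup G) := (hVle.trans inf_le_left).trans hQT
  have hoff : ∀ A ∈ CfsgLib.Thompson.maxIn p (T : Subgroup G), ¬ A ≤ C →
      Elem p (A.map π) ∧ A.map π ≠ ⊥ ∧ Nat.card W ≤ meas W (A.map π) := by
    rintro A ⟨hAT, hAel, hAmax⟩ hAC
    refine he.offender (fun a ha b hb => CfsgLib.Thompson.elab_commute hAel ha hb) hAel.2 hAC ?_
    have hc : A ⊓ C ≤ Subgroup.centralizer (V : Set G) := inf_le_right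
    have hel := CfsgLib.Thompson.elab_sup (CfsgLib.Thompson.elab_mono hAel inf_le_left) hVel hc
    have h1 := hAmax _ (sup_le (inf_le_left.trans hAT) hVT) hel
    have h2 := CfsgLib.Solvable.card_sup_mul_card_inf (A := A ⊓ C) (K := V)
      Subgroup.le_normalizer_of_normal
    rw [inf_assoc, inf_eq_right.2 hVC] at h2
    rw [mul_comm (Nat.card V), ← h2]
    exact Nat.mul_le_mul_right _ h1
  obtain ⟨hel, hAne, hm⟩ := hoff A hA hAC
  obtain ⟨B, hBA, hB, -⟩ := exists_mem_le H.exp H.faithful hel hAne hm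
  obtain ⟨𝓔, hb⟩ := H.exists_blocks hB
  haveI := hb.normal
  set N := sSup 𝓔 with hNdef
  -- the image of the Thompson subgroup
  have hJG : (Cfsg.thompsonSubgroup p G).map π = N := by
    have hAmax : A ∈ Cfsg.maxElementaryAbelianSubgroups p G := by
      refine ⟨hA.2.1, fun D hD => ?_⟩
      obtain ⟨R, hR⟩ := (CfsgLib.Thompson.elab_isPGroup hD).exists_le_sylow
      obtain ⟨g, hg⟩ := MulAction.exists_smul_eq G R T
      rw [← card_cj g D]
      exact hA.2.2 _ (hg ▸ (smul_coe g R).symm ▸ cj_mono g hR) (CfsgLib.Thompson.elab_map _ hD)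
    refine le_antisymm ?_ ?_
    · rw [Subgroup.map_le_iff_le_comap]
      refine sSup_le fun D hD => ?_
      obtain ⟨R, hR⟩ := (CfsgLib.Thompson.elab_isPGroup hD.1).exists_le_sylow
      obtain ⟨g, hg⟩ := MulAction.exists_smul_eq G R T
      have hgD : cj g D ∈ CfsgLib.Thompson.maxIn p (T : Subgroup G) :=
        ⟨hg ▸ (smul_coe g R).symm ▸ cj_mono g hR, CfsgLib.Thompson.elab_map _ hD.1,
          fun K _ hK => by rw [card_cj]; exact hD.2 K hK⟩
      have hle : (cj g D).map π ≤ N := by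
        by_cases hDC : cj g D ≤ C
        · refine (Subgroup.map_mono hDC).trans ?_
          rw [hπ, QuotientGroup.map_mk'_self]
          exact bot_le
        · obtain ⟨e1, -, e3⟩ := hoff _ hgD hDC
          exact H.offender_le hb e1 (Subgroup.map_mono hgD.1) e3
      intro d hd
      have h1 : π (g * d * g⁻¹) ∈ N := hle (Subgroup.mem_map_of_mem π (conj_mem_cj hd))
      have h2 := hb.normal.conj_mem _ h1 (π g⁻¹)
      simpa [mul_assoc] using h2
    · haveI : ((Cfsg.thompsonSubgroup p G).map π).Normal := Subgroup.Normal.map inferInstance π hπs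
      exact H.le_normal hb hB (hBA.trans (Subgroup.map_mono (CfsgLib.Thompson.le_thompsonSubgroup hAmax)))
  obtain ⟨r, ⟨f⟩⟩ := Finite.exists_equiv_fin 𝓔
  let E : Fin r → Subgroup G := fun i => (f.symm i : Subgroup (G ⧸ C)).comap π
  have hmapE : ∀ i, (E i).map π = (f.symm i : Subgroup (G ⧸ C)) := fun i =>
    Subgroup.map_comap_eq_self_of_surjective hπs _
  have hCE : ∀ i, C ≤ E i := fun i c hc => Subgroup.mem_comap.2 (by
    rw [show π c = 1 from (QuotientGroup.eq_one_iff c).2 hc]; exact one_mem _)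
  have hinj : ∀ i j, i ≠ j → (f.symm i : Subgroup (G ⧸ C)) ≠ f.symm j := fun i j h h' =>
    h (f.symm.injective (Subtype.ext h'))
  have hr : 0 < r := by
    obtain ⟨E₀, hE₀⟩ := hb.nonempty
    exact (f ⟨E₀, hE₀⟩).pos
  have hsup : (⨆ i, E i) = N.comap π := by
    have h1 : (⨆ i, E i).map π = N := by
      rw [Subgroup.map_iSup]
      simp only [hmapE]
      refine le_antisymm (iSup_le fun i => le_sSup (f.symm i).2) (sSup_le fun E₀ hE₀ => ?_)
      refine le_iSup_of_le (f ⟨E₀, hE₀⟩) ?_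
      rw [Equiv.symm_apply_apply]
    rw [← h1, Subgroup.comap_map_eq_self]
    rw [hπ, QuotientGroup.ker_mk']
    exact (hCE ⟨0, hr⟩).trans (le_iSup E _)
  have hJC : N.comap π = Cfsg.thompsonSubgroup p G ⊔ C := by
    rw [← hJG, Subgroup.comap_map_eq, hπ, QuotientGroup.ker_mk']
  refine ⟨r, E, hCE, ?_, hsup.trans hJC, fun i j hij => ?_, fun i => ?_, fun i j => ?_, ?_,
    fun i j hij => ?_, fun i => ?_⟩
  · rw [← Subgroup.comap_top π, ← hb.top, hT', show sSup 𝓔 = _ from hJG.symm, ← Subgroup.map_sup, Subgroup.comap_map_eq,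
      hπ, QuotientGroup.ker_mk']
  · refine le_of_le_of_eq ?_ (QuotientGroup.ker_mk' C)
    rw [← hπ, ← Subgroup.map_eq_bot_iff, Subgroup.map_commutator, hmapE, hmapE,
      Subgroup.commutator_eq_bot_iff_le_centralizer]
    exact fun x hx => Subgroup.mem_centralizer_iff.2 fun y hy =>
      (hb.comm _ (f.symm i).2 _ (f.symm j).2 (hinj i j hij) x hx y hy).symm
  · have h1 : (E i ⊓ (⨆ j ∈ {j | j ≠ i}, E j)).map π ≤ ⊥ := by
      refine (Subgroup.map_inf_le _ _ π).trans ?_
      rw [hmapE, ← hb.inf_others H.faithful (f.symm i).2]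
      refine inf_le_inf_left _ ?_
      simp only [Subgroup.map_iSup, hmapE]
      exact iSup₂_le fun j hj => le_sSup ⟨(f.symm j).2, hinj j i hj⟩
    rw [le_bot_iff, Subgroup.map_eq_bot_iff, hπ, QuotientGroup.ker_mk'] at h1
    exact h1
  · obtain ⟨t', ⟨t, ht, rfl⟩, htE⟩ := hb.trans _ (f.symm i).2 _ (f.symm j).2
    refine ⟨t, ht, ?_⟩
    ext x
    show x ∈ cj t (E i) ↔ x ∈ E j
    rw [mem_cj, Subgroup.mem_comap, Subgroup.mem_comap, ← htE, mem_cj, map_mul, map_mul, map_inv]
  · refine le_antisymm (sup_le inf_le_left (iSup_le fun i => ?_)) fun v hv => ?_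
    · rw [← he.img_com]
      rintro - ⟨x, -, rfl⟩
      exact (e x).2
    · obtain ⟨x, rfl⟩ := he.exists_of_mem hv
      have h1 : (OffGen.fix W N ⊔ ⨆ E₀ ∈ 𝓔, OffGen.com W E₀) ≤
          OffGen.fix W N ⊔ ⨆ i, OffGen.com W (f.symm i : Subgroup (G ⧸ C)) :=
        sup_le_sup_left (iSup₂_le fun E₀ hE₀ => le_iSup_of_le (f ⟨E₀, hE₀⟩) (by
          rw [Equiv.symm_apply_apply])) _
      obtain ⟨a, ha, c, hc, rfl⟩ := AddSubgroup.mem_sup.1 (h1 (hb.decomp x))
      rw [he.add, Subgroup.coe_mul, hsup, ← he.img_fix]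
      refine Subgroup.mul_mem_sup (he.mem_img.2 ha) ?_
      clear hv
      induction hc using AddSubgroup.iSup_induction' with
      | hp i y hy => exact Subgroup.mem_iSup_of_mem i (he.img_com _ ▸ he.mem_img.2 hy)
      | h1 => rw [he.val_zero]; exact one_mem _
      | hadd y z _ _ hy hz => rw [he.add, Subgroup.coe_mul]; exact mul_mem hy hz
  · rw [Subgroup.commutator_eq_bot_iff_le_centralizer, ← he.img_com]
    rintro - ⟨x, hx, rfl⟩
    have h1 : (e x : G) ∈ he.img (OffGen.fix W (f.symm j : Subgroup (G ⧸ C))) :=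
      he.mem_img.2 (hb.sep _ (f.symm i).2 _ (f.symm j).2 (hinj i j hij) hx)
    rw [he.img_fix] at h1
    exact h1.2
  · rcases hb.nat _ (f.symm i).2 with ⟨F, iF, iFt, n, hn, hcard, ρ, ψ, hs, hk, heq⟩ |
      ⟨⟨hp2, n, hn, ρ, ψ, hz, hs, hk, heq⟩, -, -⟩
    · exact ⟨n, hn, Or.inl ⟨F, iF, iFt, hcard, he.exists_quot_iso _ ρ,
        he.actsAsSL2 ρ ψ hs hk heq⟩⟩
    · exact ⟨n, hn, Or.inr ⟨hp2, he.exists_quot_iso _ ρ, he.actsAsPerm ρ ψ hz hs hk heq⟩⟩

end Cfsg.Agent.S2981
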