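import Cfsg.Statements.S2998
import Cfsg.Agent.Transfer.Alperin

set_option autoImplicit false
set_option linter.unusedVariables false
open Cfsg
open scoped Pointwise

namespace Cfsg.Agent.S2998

theorem relIndex_sup {G : Type*} [Group G] [Finite G] (H N : Subgroup G) [N.Normal] :
    H.relIndex (H ⊔ N) = H.relIndex N := by
  have h1 := Subgroup.relIndex_mul_relIndex ⊥ H (H ⊔ N) bot_le le_sup_left
  have h2 := Subgroup.relIndex_mul_relIndex ⊥ N (H ⊔ N) bot_le le_sup_right
  have h3 := Subgroup.relIndex_mul_relIndex ⊥ (H ⊓ N) H bot_le inf_le_left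
  have h4 := Subgroup.relIndex_mul_relIndex ⊥ (H ⊓ N) N bot_le inf_le_right
  rw [Subgroup.inf_relIndex_left] at h3
  rw [Subgroup.inf_relIndex_right] at h4
  rw [Subgroup.relIndex_sup_right] at h2
  simp only [Subgroup.relIndex_bot_left] at h1 h2 h3 h4
  refine Nat.eq_of_mul_eq_mul_left (n := Nat.card H) Nat.card_pos ?_
  rw [h1, ← h2, ← h3, ← h4]
  ring

/-- Let G be a finite group, p a prime, P a Sylow p-subgroup of G and x ∈ P an element such that N_G(R) ≤ C_G(x) for every nontrivial subgroup R of P. Then P ≤ C_G(x); every G-conjugate of x lying in P equals x (so g ∈ C_G(x) whenever g x g⁻¹ ∈ P); and for every normal subgroup N of G, the image of x in G ⧸ N has the same property with respect to the image of P: the normalizer of every nontrivial subgroup of the image of P centralizes the image of x. -/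
theorem result {G : Type*} [Group G] [Finite G] {p : ℕ} [Fact p.Prime] (P : Sylow p G) (x : G) (hxP : x ∈ (P : Subgroup G)) (hlc : ∀ R : Subgroup G, R ≤ (P : Subgroup G) → R ≠ ⊥ → Subgroup.normalizer (R : Set G) ≤ Subgroup.centralizer ({x} : Set G)) : (P : Subgroup G) ≤ Subgroup.centralizer ({x} : Set G) ∧ (∀ g : G, g * x * g⁻¹ ∈ (P : Subgroup G) → g * x * g⁻¹ = x) ∧ ∀ (N : Subgroup G) [N.Normal], ∀ R : Subgroup (G ⧸ N), R ≤ (P : Subgroup G).map (QuotientGroup.mk' N) → R ≠ ⊥ → Subgroup.normalizer (R : Set (G ⧸ N)) ≤ Subgroup.centralizer ({(QuotientGroup.mk x : G ⧸ N)} : Set (G ⧸ N)) := by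
  have hstep : ∀ (A : Subgroup G) (g : G), CfsgLib.Fusion.Conn P A g → x ∈ A →
      g ∈ Subgroup.centralizer ({x} : Set G) := by
    intro A g h
    induction h with
    | one A => exact fun _ => one_mem _
    | step A Q y g _ hA hy _ ih =>
      intro hx
      by_cases hx1 : x = 1
      · subst hx1; simp [Subgroup.mem_centralizer_singleton_iff]
      have hyC : y ∈ Subgroup.centralizer ({x} : Set G) :=
        hlc _ inf_le_left (fun e => hx1 (Subgroup.mem_bot.1 (e ▸ hA hx))) hy
      refine mul_mem hyC (ih (CfsgLib.SZ.mem_conj_smul.2 ?_))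
      have := Subgroup.mem_centralizer_singleton_iff.1 hyC
      rw [inv_inv, this, mul_inv_cancel_right]
      exact hx
  refine ⟨?_, fun g hg => ?_, ?_⟩
  · by_cases hP : (P : Subgroup G) = ⊥
    · rw [hP]; exact bot_le
    · exact Subgroup.le_normalizer.trans (hlc _ le_rfl hP)
  · have h := hstep _ g⁻¹ (CfsgLib.Fusion.alperin (P := P) (A := Subgroup.zpowers x)
      (Subgroup.zpowers_le.2 hxP) (by
        rw [CfsgLib.SZ.conj_smul_eq_map, MonoidHom.map_zpowers, Subgroup.zpowers_le]
        simpa using hg)) (Subgroup.mem_zpowers x)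
    have h2 := Subgroup.mem_centralizer_singleton_iff.1 (inv_mem h)
    rw [inv_inv] at h2
    rw [h2, mul_inv_cancel_right]
  · intro N hN R hR hRne y hy
    set π := QuotientGroup.mk' N
    set M := R.comap π with hM
    set T := (P : Subgroup G) ⊓ M with hT
    have hTM : T.map π = R := by
      refine le_antisymm (Subgroup.map_le_iff_le_comap.2 inf_le_right) fun r hr => ?_
      obtain ⟨t, ht, rfl⟩ := hR hr
      exact ⟨t, ⟨ht, hr⟩, rfl⟩
    have hTne : T ≠ ⊥ := fun e => hRne (by rw [← hTM, e, Subgroup.map_bot])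
    have hMsup : M = N ⊔ T := by
      rw [hM, ← hTM, Subgroup.comap_map_eq, QuotientGroup.ker_mk', sup_comm]
    have hidx : ¬ p ∣ T.relIndex M := by
      have e1 : T.relIndex M = T.relIndex N := by rw [hMsup, sup_comm, relIndex_sup]
      have e2 : T.relIndex N = (P : Subgroup G).relIndex N := by
        rw [← Subgroup.inf_relIndex_right T N, hT, inf_assoc,
          inf_eq_right.2 (show N ≤ M from hMsup ▸ le_sup_left), Subgroup.inf_relIndex_right]
      rw [e1, e2, ← relIndex_sup]
      exact fun hd => P.not_dvd_index (hd.trans (Subgroup.relIndex_dvd_index_of_le le_sup_left))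
    obtain ⟨y₀, rfl⟩ := QuotientGroup.mk'_surjective N y
    have hyM : MulAut.conj y₀ • M = M := by
      ext m
      have h := Subgroup.mem_normalizer_iff.1 hy (π (y₀⁻¹ * m * y₀))
      rw [CfsgLib.SZ.mem_conj_smul, hM, Subgroup.mem_comap, Subgroup.mem_comap, h]
      simp [π, mul_assoc]
    have hyT : MulAut.conj y₀ • T ≤ M :=
      (Subgroup.pointwise_smul_le_pointwise_smul_iff.2 inf_le_right).trans hyM.le
    obtain ⟨m, hm, hle⟩ := CfsgLib.Fusion.exists_conj_le_of_sylow_relIndex (inf_le_right : T ≤ M)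
      (P.2.to_le inf_le_left) hidx ((P.2.to_le inf_le_left).map _) hyT
    have hmy : m * y₀ ∈ Subgroup.centralizer ({x} : Set G) := by
      refine hlc T inf_le_left hTne (CfsgLib.SZ.conj_smul_eq_iff_mem_normalizer.1 ?_)
      rw [CfsgLib.SZ.conj_smul_mul]
      exact CfsgLib.Solvable.eq_of_le_of_card_le hle
        (by rw [CfsgLib.SZ.card_conj_smul, CfsgLib.SZ.card_conj_smul])
    have hPC : (P : Subgroup G) ≤ Subgroup.centralizer ({x} : Set G) :=
      Subgroup.le_normalizer.trans (hlc _ le_rfl (fun e => hTne (le_bot_iff.1 (inf_le_left.trans e.le))))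
    have hmπ : π m ∈ Subgroup.centralizer ({π x} : Set (G ⧸ N)) := by
      obtain ⟨r, hr, hre⟩ : π m ∈ T.map π := hTM ▸ hm
      rw [← hre, Subgroup.mem_centralizer_singleton_iff, ← map_mul, ← map_mul,
        Subgroup.mem_centralizer_singleton_iff.1 (hPC hr.1)]
    have hmyπ : π (m * y₀) ∈ Subgroup.centralizer ({π x} : Set (G ⧸ N)) := by
      rw [Subgroup.mem_centralizer_singleton_iff, ← map_mul, ← map_mul,
        Subgroup.mem_centralizer_singleton_iff.1 hmy]
    have := mul_mem (inv_mem hmπ) hmyπ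
    rw [map_mul, inv_mul_cancel_left] at this
    exact this

end Cfsg.Agent.S2998
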