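import Cfsg.Statements.S2999
import Cfsg.Agent.LocalB.OffenderGeneration
import Cfsg.Agent.PLocal.Offender

set_option autoImplicit false
set_option maxHeartbeats 800000
open Cfsg
open scoped commutatorElement

namespace Cfsg.Agent.S2999

/-- Let p be a prime and let P and V be subgroups of a finite group with V elementary abelian, P normalizing V and acting faithfully on it (P ∩ C(V) = 1). Suppose P is p-minimal (a Sylow p-subgroup T of P is not normal and lies in a unique maximal subgroup M of P) and A ≤ T is an elementary abelian subgroup such that: |V/C_V(A)| ≤ |A| while |A₀|·|C_V(A₀)| < |A|·|C_V(A)| for every nontrivial proper subgroup A₀ of A; [C_V(T), P] ≠ 1; and P = ⟨A, xAx⁻¹⟩ for every x ∈ P outside M. Then, with q = |A|, there is a field F with q elements such that P ≅ SL₂(F), C_V(A) = [V, A]·C_V(P), and P acts on V/C_V(P) as SL₂(F) on its natural two-dimensional module. -/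
theorem result {G : Type*} [Group G] [Finite G] {p : ℕ} [Fact p.Prime] (V P : Subgroup G) (hV : Cfsg.IsElementaryAbelian p V) (hPV : P ≤ Subgroup.normalizer (V : Set G)) (hfaith : P ⊓ Subgroup.centralizer (V : Set G) = ⊥) (hmin : Cfsg.IsPMinimal p ↥P) (T : Sylow p ↥P) (M : Subgroup ↥P) (hM : IsCoatom M) (hTM : (T : Subgroup ↥P) ≤ M) (A : Subgroup G) (hAT : A ≤ ((T : Subgroup ↥P).map P.subtype)) (hAel : Cfsg.IsElementaryAbelian p A) (hi : Nat.card ↥V ≤ Nat.card ↥A * Nat.card ↥(V ⊓ Subgroup.centralizer ((A : Subgroup G) : Set G)) ∧ ∀ A₀ : Subgroup G, A₀ ≤ A → A₀ ≠ ⊥ → A₀ ≠ A → Nat.card ↥A₀ * Nat.card ↥(V ⊓ Subgroup.centralizer ((A₀ : Subgroup G) : Set G)) < Nat.card ↥A * Nat.card ↥(V ⊓ Subgroup.centralizer ((A : Subgroup G) : Set G))) (hii : ⁅(V ⊓ Subgroup.centralizer ((((T : Subgroup ↥P).map P.subtype) : Subgroup G) : Set G)), P⁆ ≠ ⊥) (hiii : ∀ x : ↥P, x ∉ M → A ⊔ A.map (MulAut.conj (x : G)).toMonoidHom = P) : ∃ (F : Type) (_ : Field F) (_ : Fintype F), Fintype.card F = Nat.card ↥A ∧ Nonempty (↥P ≃* Matrix.SpecialLinearGroup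 (Fin 2) F) ∧ (V ⊓ Subgroup.centralizer ((A : Subgroup G) : Set G)) = ⁅V, A⁆ ⊔ (V ⊓ Subgroup.centralizer ((P : Subgroup G) : Set G)) ∧ Cfsg.ActsAsSL2OnSection F ⊤ P V (V ⊓ Subgroup.centralizer ((P : Subgroup G) : Set G)) := by
  classical
  have hA0T : A ≤ (T : Subgroup ↥P).map P.subtype := hAT
  have hAP : A ≤ P := hA0T.trans (Subgroup.map_subtype_le _)
  have hAV : A ≤ Subgroup.normalizer (V : Set G) := hAP.trans hPV
  letI : CommGroup ↥V :=
    { (inferInstance : Group ↥V) with
      mul_comm := fun a b => hV.1.is_comm.comm a b }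
  let cj : ↥P → ↥V → ↥V := fun g v =>
    ⟨(g : G) * v * (g : G)⁻¹, CfsgLib.Offender.conj_mem_of_mem_normalizer (hPV g.2) v.2⟩
  letI act : DistribMulAction ↥P (Additive ↥V) :=
    { smul := fun g v => Additive.ofMul (cj g (Additive.toMul v))
      one_smul := fun v => by
        apply Additive.toMul.injective; apply Subtype.ext
        show ((1 : ↥P) : G) * _ * _ = _
        simp
      mul_smul := fun g h v => by
        apply Additive.toMul.injective; apply Subtype.ext
        show ((g * h : ↥P) : G) * _ * _ = _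
        simp [cj, mul_assoc]
        show _ = (g : G) * ((h : G) * _ * _) * _
        simp [mul_assoc]
      smul_zero := fun g => by
        apply Additive.toMul.injective; apply Subtype.ext
        show (g : G) * ((1 : ↥V) : G) * _ = _
        simp
      smul_add := fun g u v => by
        apply Additive.toMul.injective; apply Subtype.ext
        show (g : G) * (((Additive.toMul u : ↥V) * Additive.toMul v : ↥V) : G) * _ = _
        show _ = ((g : G) * ((Additive.toMul u : ↥V) : G) * (g : G)⁻¹) *
          ((g : G) * ((Additive.toMul v : ↥V) : G) * (g : G)⁻¹)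
        rw [Subgroup.coe_mul]
        group }
  let val : Additive ↥V → G := fun v => ((Additive.toMul v : ↥V) : G)
  have hval : Function.Injective val := fun u v h => Additive.toMul.injective (Subtype.ext h)
  have hsmul : ∀ (g : ↥P) v, val (g • v) = (g : G) * val v * (g : G)⁻¹ := fun _ _ => rfl
  have hfixed : ∀ (g : ↥P) v, g • v = v ↔ (g : G) * val v = val v * (g : G) := fun g v => by
    rw [← hval.eq_iff, hsmul, mul_inv_eq_iff_eq_mul]
  have hmemfix : ∀ (B : Subgroup ↥P) v, v ∈ CfsgLib.OffGen.fix (Additive ↥V) B ↔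
      val v ∈ V ⊓ Subgroup.centralizer ((B.map P.subtype : Subgroup G) : Set G) := by
    intro B v
    rw [CfsgLib.OffGen.mem_fix]
    constructor
    · intro h
      refine ⟨(Additive.toMul v).2, Subgroup.mem_centralizer_iff.2 ?_⟩
      rintro - ⟨b, hb, rfl⟩
      exact (hfixed b v).1 (h b hb)
    · intro h b hb
      exact (hfixed b v).2 (Subgroup.mem_centralizer_iff.1 h.2 _ ⟨b, hb, rfl⟩)
  have hcard : ∀ B : Subgroup ↥P, Nat.card (CfsgLib.OffGen.fix (Additive ↥V) B) =
      Nat.card ↥(V ⊓ Subgroup.centralizer ((B.map P.subtype : Subgroup G) : Set G)) := fun B =>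
    Nat.card_congr
      { toFun := fun v => ⟨val v.1, (hmemfix B v.1).1 v.2⟩
        invFun := fun x => ⟨Additive.ofMul ⟨x.1, x.2.1⟩, (hmemfix B _).2 x.2⟩
        left_inv := fun v => rfl
        right_inv := fun x => rfl }
  set A' : Subgroup ↥P := A.subgroupOf P with hA'
  have hA'map : A'.map P.subtype = A := by
    rw [hA', Subgroup.subgroupOf_map_subtype, inf_eq_left.2 hAP]
  have hMtop : M ≠ ⊤ := hM.1
  have hgen : ∀ x : ↥P, x ∉ M → A' ⊔ A'.map (MulAut.conj x).toMonoidHom = ⊤ := by
    intro x hx
    refine Subgroup.map_injective P.subtype_injective ?_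
    rw [Subgroup.map_sup, hA'map, Subgroup.map_map, ← MonoidHom.range_eq_map, Subgroup.range_subtype]
    have e : (P.subtype.comp (MulAut.conj x).toMonoidHom) =
        ((MulAut.conj (x : G)).toMonoidHom).comp P.subtype := by ext; simp
    rw [e, ← Subgroup.map_map, hA'map]
    exact hiii x hx
  have hne : ⁅V, A⁆ ≠ ⊥ := by
    intro h
    have hA : A = ⊥ := by
      rw [eq_bot_iff, ← hfaith]
      refine le_inf hAP ?_
      rw [← Subgroup.commutator_eq_bot_iff_le_centralizer, Subgroup.commutator_comm]
      exact h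
    obtain ⟨x, hx⟩ : ∃ x, x ∉ M := by
      by_contra hall
      push_neg at hall
      exact hMtop (top_le_iff.1 fun g _ => hall g)
    have hP := hiii x hx
    rw [hA, Subgroup.map_bot, bot_sup_eq] at hP
    have hx1 : (x : G) = 1 :=
      Subgroup.mem_bot.1 (hP.ge x.2)
    exact hx (by rw [show x = 1 from Subtype.ext hx1]; exact M.one_mem)
  have hbest : Cfsg.IsBestOffenderOn p V A := by
    refine ⟨fun B hB => ?_, ?_, fun a ha => by rw [hAel.2 a ha]; exact one_mem _⟩
    · by_cases h1 : B = ⊥
      · subst h1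
        rw [Subgroup.card_bot, one_mul]
        exact (Subgroup.card_le_of_le inf_le_left).trans hi.1
      by_cases h2 : B = A
      · subst h2; exact le_rfl
      exact (hi.2 B hB h1 h2).le
    · refine Subgroup.commutator_le.2 fun a ha b hb => ?_
      rw [commutatorElement_eq_one_iff_mul_comm.2 (congrArg Subtype.val
        (hAel.1.is_comm.comm (⟨a, ha⟩ : ↥A) ⟨b, hb⟩))]
      exact one_mem _
  have hq : ⁅⁅V, A⁆, A⁆ = ⊥ := by
    obtain ⟨-, -, h3⟩ := CfsgLib.Offender.bestOffender_replacement hV hAV hbest (U := V) le_rfl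
    have h1 := (CfsgLib.Offender.replacement hV hAV hbest.2.1 hbest.1 (U := V) le_rfl).1
    set A₀ := A ⊓ Subgroup.centralizer ((⁅V, A⁆ : Subgroup G) : Set G) with hA₀
    have hA₀ne : A₀ ≠ ⊥ := fun h => h3 hne (by
      rw [h, Subgroup.commutator_bot_right])
    have hA₀A : A₀ = A := by
      by_contra h
      exact (hi.2 A₀ inf_le_left hA₀ne h).ne h1
    rw [Subgroup.commutator_eq_bot_iff_le_centralizer, Subgroup.le_centralizer_iff]
    exact inf_eq_left.1 hA₀A
  have hWV : ⁅V, A⁆ ≤ V := CfsgLib.Offender.commutator_le_of_normalizer hAV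
  have hcomm : ∀ a ∈ A', ∀ w : Additive ↥V, val (a • w - w) ∈ ⁅V, A⁆ := by
    intro a ha w
    have hmem : (a : G) * val w * (a : G)⁻¹ * (val w)⁻¹ ∈ ⁅V, A⁆ := by
      rw [Subgroup.commutator_comm, show (a : G) * val w * (a : G)⁻¹ * (val w)⁻¹ =
        ⁅(a : G), val w⁆ from rfl]
      exact Subgroup.commutator_mem_commutator ha (Additive.toMul w).2
    have e : val (a • w - w) = (a : G) * val w * (a : G)⁻¹ * (val w)⁻¹ := by
      rw [sub_eq_add_neg]; rfl
    rwa [e]
  obtain ⟨F, iF, iFt, hcF, ρ, ψ, hψs, hψk, hψe, hfix⟩ :=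
    CfsgLib.OffGen.Offender.exists_natural (V := Additive ↥V) (p := p) (T := T) (M := M) (A := A')
      { exp := fun w => by
          apply Additive.toMul.injective
          apply Subtype.ext
          rw [toMul_nsmul, Subgroup.coe_pow, hV.2 _ (Additive.toMul w).2]
          rfl
        faithful := fun g hg => by
          have : (g : G) ∈ P ⊓ Subgroup.centralizer (V : Set G) :=
            ⟨g.2, Subgroup.mem_centralizer_iff.2 fun v hv =>
              ((hfixed g (Additive.ofMul ⟨v, hv⟩)).1 (hg _)).symm⟩
          rw [hfaith, Subgroup.mem_bot] at this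
          exact Subtype.ext this
        hover := CfsgLib.PMin.over_of_isPMinimal hmin T hM hTM
        le := fun a ha => by
          obtain ⟨t, ht, hta⟩ := hA0T (show (a : G) ∈ A from ha)
          rwa [← show t = a from Subtype.ext hta]
        gen := hgen
        quad := fun a ha b hb w => by
          rw [hfixed]
          exact Subgroup.mem_centralizer_iff.1
            (Subgroup.commutator_eq_bot_iff_le_centralizer.1 hq (hcomm a ha w)) b hb
        bound := by
          rw [hcard A', hA'map, Nat.card_congr Additive.toMul,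
            Nat.card_congr (Subgroup.subgroupOfEquivOfLe hAP).toEquiv]
          exact hi.1
        strict := fun B hB hB1 hB2 => by
          have hBA : B.map P.subtype ≤ A := hA'map ▸ Subgroup.map_mono hB
          have h1 : B.map P.subtype ≠ ⊥ := fun h =>
            hB1 ((Subgroup.map_eq_bot_iff_of_injective _ P.subtype_injective).1 h)
          have h2 : B.map P.subtype ≠ A := fun h =>
            hB2 (Subgroup.map_injective P.subtype_injective (h.trans hA'map.symm))
          rw [hcard B, hcard A', hA'map,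
            Nat.card_congr (Subgroup.subgroupOfEquivOfLe hAP).toEquiv,
            ← Subgroup.card_map_of_injective (K := B) P.subtype_injective]
          exact hi.2 _ hBA h1 h2
        moved := by
          by_contra hall
          push_neg at hall
          refine hii (Subgroup.commutator_eq_bot_iff_le_centralizer.2 fun v hv => ?_)
          refine Subgroup.mem_centralizer_iff.2 fun g hg => ?_
          exact (hfixed ⟨g, hg⟩ (Additive.ofMul ⟨v, hv.1⟩)).1
            (hall _ ((hmemfix (T : Subgroup ↥P) (Additive.ofMul ⟨v, hv.1⟩)).2 hv) ⟨g, hg⟩) }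
  have hPmap : (⊤ : Subgroup ↥P).map P.subtype = P := by
    rw [← MonoidHom.range_eq_map, Subgroup.range_subtype]
  refine ⟨F, iF, iFt, hcF.trans (Nat.card_congr (Subgroup.subgroupOfEquivOfLe hAP).toEquiv), ⟨ρ⟩,
    ?_, hPV, inf_le_left, ?_⟩
  · refine le_antisymm (fun v hv => ?_) (sup_le (le_inf hWV ?_) ?_)
    · have hv' := hfix ((hmemfix A' (Additive.ofMul ⟨v, hv.1⟩)).2 (by rwa [hA'map]))
      obtain ⟨c, hc, z, hz, hcz⟩ := AddSubgroup.mem_sup.1 hv'
      have e : v = val c * val z := by
        have := congrArg val hcz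
        exact this.symm
      rw [e]
      refine Subgroup.mul_mem_sup ?_ (by simpa [hPmap] using (hmemfix ⊤ z).1 hz)
      clear hcz e
      induction hc using AddSubgroup.closure_induction with
      | mem y hy =>
        obtain ⟨a, ha, w, rfl⟩ := hy
        exact hcomm a ha w
      | zero => exact one_mem _
      | add y w _ _ hy hw => exact mul_mem hy hw
      | neg y _ hy => exact inv_mem hy
    · exact Subgroup.commutator_eq_bot_iff_le_centralizer.1 hq
    · exact inf_le_inf_left _ (Subgroup.centralizer_le hAP)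
  · let ψ' : ↥V →* Multiplicative (Fin 2 → F) :=
      { toFun := fun v => Multiplicative.ofAdd (ψ (Additive.ofMul v))
        map_one' := by simp
        map_mul' := fun u v => by simp }
    refine ⟨ρ.toMonoidHom, ψ', MonoidHom.range_eq_top.2 ρ.surjective, fun y => ?_, fun u => ?_,
      fun g u => ⟨cj g u, rfl, hψe g (Additive.ofMul u)⟩⟩
    · obtain ⟨w, hw⟩ := hψs (Multiplicative.toAdd y)
      exact ⟨Additive.toMul w, congrArg Multiplicative.ofAdd hw⟩
    · have h1 : ψ' u = 1 ↔ ψ (Additive.ofMul u) = 0 := ofAdd_eq_one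
      rw [h1, hψk, hmemfix, hPmap]
      rfl

end Cfsg.Agent.S2999
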