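import Cfsg.Statements.S3000
import Cfsg.Agent.PMinFF.Bridge

set_option autoImplicit false
open Cfsg CfsgLib CfsgLib.PMinFF

namespace Cfsg.Agent.S3000

/-- Let p be a prime and let P and V be subgroups of a finite group with V elementary abelian, P normalizing V and acting faithfully on it (P ∩ C(V) = 1). Suppose P is p-minimal (a Sylow p-subgroup T of P is not normal and lies in a unique maximal subgroup M of P), O_p(P) = 1, C_P(C_V(T)) ≤ M, and P has a best offender on V: a subgroup A not centralizing V, with A/C_A(V) elementary abelian, such that |B|·|C_V(B)| ≤ |A|·|C_V(A)| for every subgroup B of A. Then there are subgroups E₁, …, E_r of P (r ≥ 1), pairwise commuting and forming with T a product P = (E₁ × ⋯ × E_r)T (internal direct product of the E_i), any two of which are conjugate by an element of T, such that V = C_V(E₁⋯E_r)·∏[V, E_i] with [V, E_i, E_j] = 1 for i ≠ j, and for each i there is n ≥ 1 with either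 E_i ≅ SL₂(pⁿ) acting on [V, E_i]/C_{[V,E_i]}(E_i) as on its natural two-dimensional module, or p = 2 and E_i isomorphic to the symmetric group of degree 2ⁿ + 1 acting on [V, E_i]/C_{[V,E_i]}(E_i) as on its even-weight permutation module. -/
theorem result {G : Type*} [Group G] [Finite G] {p : ℕ} [Fact p.Prime] (V P : Subgroup G) (hV : Cfsg.IsElementaryAbelian p V) (hPV : P ≤ Subgroup.normalizer (V : Set G)) (hfaith : P ⊓ Subgroup.centralizer (V : Set G) = ⊥) (hmin : Cfsg.IsPMinimal p ↥P) (T : Sylow p ↥P) (M : Subgroup ↥P) (hM : IsCoatom M) (hTM : (T : Subgroup ↥P) ≤ M) (hOp : Cfsg.pCore p ↥P = ⊥) (hoff : ∃ A : Subgroup G, A ≤ P ∧ ¬ A ≤ Subgroup.centralizer (V : Set G) ∧ Cfsg.IsBestOffenderOn p V A) (hCT : P ⊓ Subgroup.centralizer ((V ⊓ Subgroup.centralizer ((((T : Subgroup ↥P).map P.subtype) : Subgroup G) : Set G)) : Set G) ≤ M.map P.subtype) : ∃ (r : ℕ) (E : Fin r → Subgroup G), 1 ≤ r ∧ (∀ i, E i ≤ P) ∧ (∀ i j, i ≠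 j → ⁅E i, E j⁆ = ⊥) ∧ (∀ i, E i ⊓ (⨆ j ∈ {j | j ≠ i}, E j) = ⊥) ∧ (⨆ i, E i) ⊔ ((T : Subgroup ↥P).map P.subtype) = P ∧ (∀ i j, ∃ t ∈ ((T : Subgroup ↥P).map P.subtype), (E i).map (MulAut.conj t).toMonoidHom = E j) ∧ (V ⊓ Subgroup.centralizer (((⨆ i, E i) : Subgroup G) : Set G)) ⊔ (⨆ i, ⁅V, E i⁆) = V ∧ (∀ i j, i ≠ j → ⁅⁅V, E i⁆, E j⁆ = ⊥) ∧ ∀ i, ∃ n : ℕ, 1 ≤ n ∧ ((∃ (F : Type) (_ : Field F) (_ : Fintype F), Fintype.card F = p ^ n ∧ Nonempty (↥(E i) ≃* Matrix.SpecialLinearGroup (Fin 2) F) ∧ Cfsg.ActsAsSL2OnSection F ⊤ (E i) ⁅V, E i⁆ (⁅V, E i⁆ ⊓ Subgroup.centralizer ((E i : Subgroup G) : Set G))) ∨ (p = 2 ∧ Nonempty (↥(E i) ≃* Equiv.Perm (Fin (2 ^ n + 1))) ∧ Cfsg.ActsAsOddPermModuleOnSection (2 ^ n + 1) ⊤ (E i) ⁅V, E i⁆ (⁅V, E i⁆ ⊓ Subgroup.centralizer ((E i : Subgroup G) : Set G)))) := by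
  classical
  obtain ⟨W, iW, iWf, iA, e, hadd, hsmul⟩ := exists_conj_module V P hV.1 hPV
  have he : IsConjModule (P := P) V e := ⟨hadd, hsmul⟩
  have H : Hyp W p T M :=
    { exp := he.elem_exp hV.2
      faithful := he.faithful hfaith
      hover := CfsgLib.PMin.over_of_isPMinimal hmin T hM hTM
      core := hOp
      nt := fun h => (hmin T).1 (h ▸ inferInstance)
      cent := fun g hg => by
        have h1 : (g : G) ∈ M.map P.subtype := hCT ⟨g.2, Subgroup.mem_centralizer_iff.2 fun v hv => by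
          obtain ⟨x, hx, rfl⟩ : v ∈ he.img (OffGen.fix W (T : Subgroup ↥P)) :=
            (he.img_fix _).symm ▸ hv
          exact (he.smul_eq_iff.1 (hg x hx)).symm⟩
        obtain ⟨m, hm, hmg⟩ := h1
        exact (Subtype.ext hmg : m = g) ▸ hm }
  obtain ⟨A, hAP, hAne, hAbest⟩ := hoff
  obtain ⟨hel, hne, hm⟩ := he.offender hfaith hAP hAne hAbest
  obtain ⟨A₀, -, hA₀, -⟩ := exists_mem_le H.exp H.faithful hel hne hm
  obtain ⟨𝓔, hb⟩ := H.exists_blocks hA₀
  obtain ⟨r, ⟨f⟩⟩ := Finite.exists_equiv_fin 𝓔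
  have hsub : (⨆ i, ((f.symm i : Subgroup ↥P)).map P.subtype) = (sSup 𝓔).map P.subtype := by
    rw [← Subgroup.map_iSup]
    congr 1
    refine le_antisymm (iSup_le fun i => le_sSup (f.symm i).2) (sSup_le fun E hE => ?_)
    refine le_iSup_of_le (f ⟨E, hE⟩) ?_
    rw [Equiv.symm_apply_apply]
  have hinj : ∀ i j, i ≠ j → (f.symm i : Subgroup ↥P) ≠ f.symm j := fun i j h h' =>
    h (f.symm.injective (Subtype.ext h'))
  refine ⟨r, fun i => (f.symm i : Subgroup ↥P).map P.subtype, ?_, fun i => Subgroup.map_subtype_le _,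
    fun i j hij => ?_, fun i => ?_, ?_, fun i j => ?_, ?_, fun i j hij => ?_, fun i => ?_⟩
  · obtain ⟨E, hE⟩ := hb.nonempty
    exact (f ⟨E, hE⟩).pos
  · rw [← Subgroup.map_commutator, Subgroup.map_eq_bot_iff_of_injective _ P.subtype_injective,
      Subgroup.commutator_eq_bot_iff_le_centralizer]
    exact fun x hx => Subgroup.mem_centralizer_iff.2 fun y hy =>
      (hb.comm _ (f.symm i).2 _ (f.symm j).2 (hinj i j hij) x hx y hy).symm
  · rw [eq_bot_iff]
    have h1 : (⨆ j ∈ {j | j ≠ i}, (f.symm j : Subgroup ↥P).map P.subtype) ≤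
        (sSup (𝓔 \ {(f.symm i : Subgroup ↥P)})).map P.subtype :=
      iSup₂_le fun j hj => Subgroup.map_mono (le_sSup ⟨(f.symm j).2, hinj j i hj⟩)
    refine (inf_le_inf_left _ h1).trans ?_
    rw [← Subgroup.map_inf _ _ _ P.subtype_injective, hb.inf_others H.faithful (f.symm i).2,
      Subgroup.map_bot]
  · rw [hsub, ← Subgroup.map_sup, hb.top, ← MonoidHom.range_eq_map, Subgroup.range_subtype]
  · obtain ⟨t, ht, htE⟩ := hb.trans _ (f.symm i).2 _ (f.symm j).2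
    refine ⟨t, ⟨t, ht, rfl⟩, ?_⟩
    simp only
    rw [← htE, PMinFF.cj, Subgroup.map_map, Subgroup.map_map]
    congr 1
  · refine le_antisymm (sup_le inf_le_left (iSup_le fun i => ?_)) fun v hv => ?_
    · rw [← he.img_com]
      rintro - ⟨x, -, rfl⟩
      exact (e x).2
    · obtain ⟨x, rfl⟩ := he.exists_of_mem hv
      have h1 : (OffGen.fix W (sSup 𝓔) ⊔ ⨆ E ∈ 𝓔, OffGen.com W E) ≤
          OffGen.fix W (sSup 𝓔) ⊔ ⨆ i, OffGen.com W (f.symm i : Subgroup ↥P) :=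
        sup_le_sup_left (iSup₂_le fun E hE => le_iSup_of_le (f ⟨E, hE⟩) (by
          rw [Equiv.symm_apply_apply])) _
      obtain ⟨a, ha, c, hc, rfl⟩ := AddSubgroup.mem_sup.1 (h1 (hb.decomp x))
      rw [he.add, Subgroup.coe_mul, hsub, ← he.img_fix]
      refine Subgroup.mul_mem_sup (he.mem_img.2 ha) ?_
      clear hv
      induction hc using AddSubgroup.iSup_induction' with
      | hp i y hy => exact Subgroup.mem_iSup_of_mem i (he.img_com _ ▸ he.mem_img.2 hy)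
      | h1 => rw [he.val_zero]; exact one_mem _
      | hadd y z _ _ hy hz => rw [he.add, Subgroup.coe_mul]; exact mul_mem hy hz
  · rw [Subgroup.commutator_eq_bot_iff_le_centralizer, ← he.img_com]
    rintro - ⟨x, hx, rfl⟩
    have h1 : (e x : G) ∈ he.img (OffGen.fix W (f.symm j : Subgroup ↥P)) :=
      he.mem_img.2 (hb.sep _ (f.symm i).2 _ (f.symm j).2 (hinj i j hij) hx)
    rw [he.img_fix] at h1
    exact h1.2
  · rcases hb.nat _ (f.symm i).2 with ⟨F, iF, iFt, n, hn, hcard, ρ, ψ, hs, hk, heq⟩ |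
      ⟨⟨rfl, n, hn, ρ, ψ, hz, hs, hk, heq⟩, -, -⟩
    · exact ⟨n, hn, Or.inl ⟨F, iF, iFt, hcard,
        ⟨(Subgroup.equivMapOfInjective _ P.subtype P.subtype_injective).symm.trans ρ⟩,
        he.actsAsSL2 hPV ρ ψ hs hk heq⟩⟩
    · exact ⟨n, hn, Or.inr ⟨rfl, ⟨(Subgroup.equivMapOfInjective _ P.subtype
        P.subtype_injective).symm.trans ρ⟩, he.actsAsPerm hPV ρ ψ hz hs hk heq⟩⟩

end Cfsg.Agent.S3000
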