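import Cfsg.Statements.S3003
import Cfsg.Agent.Signalizer.Basic

set_option autoImplicit false
set_option linter.unusedVariables false
open Cfsg

namespace Cfsg.Agent.S3003

/-- Let G be a finite group, p a prime and Q a large p-subgroup of G: C_G(Q) ≤ Q and N_G(U) ≤ N_G(Q) for every nontrivial subgroup U of C_G(Q). Let Q ≤ G₁ ≤ G, let R be a subgroup of order prime to p normalized by G₁, and let U ≤ G₁ be a p-subgroup. If U contains a nontrivial element which is G₁-conjugate to an element of Z(Q), then C_R(U) = 1. In particular, if U is elementary abelian of order at least p² and every maximal subgroup of U contains a nontrivial element G₁-conjugate into Z(Q), then R = 1. -/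
theorem result {G : Type*} [Group G] [Finite G] {p : ℕ} [Fact p.Prime] (Q : Subgroup G) (hQp : IsPGroup p ↥Q) (hlarge : Cfsg.IsLarge Q) (G₁ : Subgroup G) (hQG : Q ≤ G₁) (R : Subgroup G) (hR : (Nat.card ↥R).Coprime p) (hGR : G₁ ≤ Subgroup.normalizer (R : Set G)) (U : Subgroup G) (hUG : U ≤ G₁) (hUp : IsPGroup p ↥U) : ((∃ x ∈ U, x ≠ 1 ∧ ∃ g ∈ G₁, g * x * g⁻¹ ∈ Q ⊓ Subgroup.centralizer (Q : Set G)) → R ⊓ Subgroup.centralizer (U : Set G) = ⊥) ∧ (Cfsg.IsElementaryAbelian p U → p ^ 2 ≤ Nat.card ↥U → (∀ U₀ : Subgroup G, U₀ ≤ U → IsCoatom (U₀.subgroupOf U) → ∃ x ∈ U₀, x ≠ 1 ∧ ∃ g ∈ G₁, g * x * g⁻¹ ∈ Q ⊓ Subgroup.centralizer (Q : Set G)) → R = ⊥) := by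
  have hfix : ∀ z ∈ Q ⊓ Subgroup.centralizer (Q : Set G), z ≠ 1 →
      R ⊓ Subgroup.centralizer ({z} : Set G) = ⊥ := by
    intro z hz hz1
    rw [eq_bot_iff]
    rintro r ⟨hrR, hrz⟩
    have hU1 : Subgroup.zpowers z ≠ ⊥ := by simpa using hz1
    have hrN : r ∈ Subgroup.normalizer (Q : Set G) :=
      hlarge.2 _ (Subgroup.zpowers_le.2 hz.2) hU1
        (Subgroup.centralizer_le_normalizer _ (by rw [Subgroup.zpowers_eq_closure, Subgroup.centralizer_closure]; exact hrz))
    have hcopRQ : R ⊓ Q = ⊥ := by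
      obtain ⟨k, hk⟩ := IsPGroup.iff_card.1 hQp
      exact Subgroup.inf_eq_bot_of_coprime (hk ▸ hR.pow_right k)
    have hrC : r ∈ Subgroup.centralizer (Q : Set G) := by
      refine Subgroup.mem_centralizer_iff.2 fun q hq => ?_
      have h1 : q * r * q⁻¹ * r⁻¹ ∈ R :=
        mul_mem ((Subgroup.mem_normalizer_iff.1 (hGR (hQG hq)) r).1 hrR) (inv_mem hrR)
      have h2 : q * r * q⁻¹ * r⁻¹ ∈ Q := by
        have := mul_mem hq ((Subgroup.mem_normalizer_iff.1 hrN q⁻¹).1 (inv_mem hq))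
        simpa [mul_assoc] using this
      have h3 : q * r * q⁻¹ * r⁻¹ = 1 := Subgroup.mem_bot.1 (hcopRQ ▸ ⟨h1, h2⟩)
      calc q * r = (q * r * q⁻¹ * r⁻¹) * (r * q) := by group
        _ = r * q := by rw [h3, one_mul]
    exact hcopRQ ▸ ⟨hrR, hlarge.1 hrC⟩
  have hmain : ∀ W : Subgroup G, W ≤ G₁ →
      (∃ x ∈ W, x ≠ 1 ∧ ∃ g ∈ G₁, g * x * g⁻¹ ∈ Q ⊓ Subgroup.centralizer (Q : Set G)) →
      R ⊓ Subgroup.centralizer (W : Set G) = ⊥ := by
    rintro W hW ⟨x, hxW, hx1, g, hg, hgx⟩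
    rw [eq_bot_iff]
    rintro r ⟨hrR, hrW⟩
    have h1 : g * r * g⁻¹ ∈ R ⊓ Subgroup.centralizer ({g * x * g⁻¹} : Set G) := by
      refine ⟨(Subgroup.mem_normalizer_iff.1 (hGR hg) r).1 hrR,
        Subgroup.mem_centralizer_singleton_iff.2 ?_⟩
      have h2 := Subgroup.mem_centralizer_iff.1 hrW x hxW
      calc g * r * g⁻¹ * (g * x * g⁻¹) = g * (r * x) * g⁻¹ := by group
        _ = g * (x * r) * g⁻¹ := by rw [h2]
        _ = g * x * g⁻¹ * (g * r * g⁻¹) := by group
    rw [hfix _ hgx (fun e => hx1 (conj_eq_one_iff.1 e)), Subgroup.mem_bot, conj_eq_one_iff] at h1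
    simp [h1]
  refine ⟨hmain U hUG, fun hel hcard hall => ?_⟩
  have hpr : p.Prime := Fact.out
  have hndvd : ¬ p ∣ Nat.card R := fun hd =>
    (Nat.Prime.not_coprime_iff_dvd.2 ⟨p, hpr, hd, dvd_rfl⟩) hR
  rw [eq_bot_iff]
  refine CfsgLib.Signalizer.le_of_forall_hyperplane hel (hUG.trans hGR) hndvd fun B hB hBi => ?_
  obtain ⟨x, hxU, hx⟩ : ∃ x ∈ B, x ≠ 1 ∧ ∃ g ∈ G₁, g * x * g⁻¹ ∈ Q ⊓ Subgroup.centralizer (Q : Set G) := by
    by_cases hco : IsCoatom (B.subgroupOf U)
    · exact hall B hB hco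
    · have htop : B.subgroupOf U = ⊤ := by
        by_contra hne
        have hdvd : B.relIndex U ∣ Nat.card U := Subgroup.relIndex_dvd_card B U
        obtain ⟨k, hk⟩ := IsPGroup.iff_card.1 hUp
        obtain ⟨j, -, hj⟩ := (Nat.dvd_prime_pow hpr).1 (hk ▸ hdvd)
        have hj1 : j = 1 := by
          rcases j with _ | _ | j
          · exact absurd (Subgroup.index_eq_one.1 (by rw [← Subgroup.relIndex]; simpa using hj)) hne
          · rfl
          · have : p ^ 2 ≤ p ^ (j + 1 + 1) := Nat.pow_le_pow_right hpr.pos (by omega)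
            rw [hj] at hBi
            have := lt_self_pow₀ hpr.one_lt one_lt_two
            omega
        refine hco ⟨hne, fun L hL => ?_⟩
        have h1 := Subgroup.relIndex_mul_index hL.le
        rw [show (B.subgroupOf U).index = p by rw [← Subgroup.relIndex, hj, hj1, pow_one]] at h1
        rcases (Nat.dvd_prime hpr).1 (Dvd.intro_left _ h1) with h2 | h2
        · exact Subgroup.index_eq_one.1 h2
        · rw [h2] at h1
          have h3 : (B.subgroupOf U).relIndex L = 1 := by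
            have := hpr.pos
            nlinarith
          exact absurd (Subgroup.relIndex_eq_one.1 h3) hL.not_ge
      have hUB : U ≤ B := Subgroup.subgroupOf_eq_top.1 htop
      have hlt : ⊥ < U := by
        rw [bot_lt_iff_ne_bot]; rintro rfl
        rw [Subgroup.card_bot] at hcard
        have := Nat.one_lt_pow (n := 2) (by norm_num) hpr.one_lt
        omega
      obtain ⟨U₀, hU₀, -⟩ := (eq_top_or_exists_le_coatom (⊥ : Subgroup U)).resolve_left
        (fun e => by
          have := congrArg (Subgroup.map U.subtype) e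
          rw [Subgroup.map_bot, ← MonoidHom.range_eq_map, Subgroup.range_subtype] at this
          exact hlt.ne this)
      have e : (U₀.map U.subtype).subgroupOf U = U₀ := by
        simp [Subgroup.subgroupOf, Subgroup.comap_map_eq_self_of_injective U.subtype_injective]
      obtain ⟨x, hx, hx2⟩ := hall (U₀.map U.subtype) (Subgroup.map_subtype_le U₀) (e.symm ▸ hU₀)
      exact ⟨x, hUB (Subgroup.map_subtype_le U₀ hx), hx2⟩
  exact (hmain B (hB.trans hUG) ⟨x, hxU, hx⟩).le

end Cfsg.Agent.S3003
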