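import Cfsg.Statements.S3006
import Cfsg.Agent.LocalB.ChermakDelgado

set_option autoImplicit false
set_option linter.unusedVariables false
open scoped Pointwise
open Cfsg
open Pointwise

namespace Cfsg.Agent.S3006

/-- Let P be a finite p-group, Q a centrally large subgroup of P (|Q|·|Z(Q)| maximal among subgroups of P) and A an abelian subgroup of P of largest order. Then QA = AQ is a centrally large subgroup of P, C_{QA}(Q ∩ A) = Z(Q)·A, and the subgroup generated by all centrally large subgroups of P contains C_P(Z(J(P))), where J(P) is generated by the abelian subgroups of largest order. -/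
theorem result {p : ℕ} [Fact p.Prime] (P : Type*) [Group P] [Finite P] (hP : IsPGroup p P) (Q A : Subgroup P) (hQ : Cfsg.IsCentrallyLarge Q) (hA : A ∈ Cfsg.maxAbelianSubgroups P) : ((Q ⊔ A : Subgroup P) : Set P) = (Q : Set P) * (A : Set P) ∧ Cfsg.IsCentrallyLarge (Q ⊔ A) ∧ (Q ⊔ A) ⊓ Subgroup.centralizer ((Q ⊓ A : Subgroup P) : Set P) = (Q ⊓ Subgroup.centralizer (Q : Set P)) ⊔ A ∧ (((Q ⊓ Subgroup.centralizer (Q : Set P)) ⊔ A : Subgroup P) : Set P) = ((Q ⊓ Subgroup.centralizer (Q : Set P)) : Set P) * (A : Set P) ∧ Subgroup.centralizer ((Cfsg.thompsonSubgroupA P ⊓ Subgroup.centralizer (Cfsg.thompsonSubgroupA P : Set P) : Subgroup P) : Set P) ≤ Cfsg.centrallyLargeJoin P := by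
  have hQ' := CfsgLib.LocalB.CD.isCentrallyLarge_iff.1 hQ
  obtain ⟨hset, hcl, hB⟩ := CfsgLib.LocalB.CD.cl_sup_abelian hQ' hA
  have hz : Q ⊓ Subgroup.centralizer (Q : Set P) = Subgroup.centralizer (Q : Set P) :=
    inf_eq_right.2 hQ'.2
  rw [hz]
  have hAC := CfsgLib.LocalB.CD.C_eq_self hA
  have key : ∀ x ∈ (Q ⊔ A) ⊓ Subgroup.centralizer ((Q ⊓ A : Subgroup P) : Set P),
      x ∈ (Subgroup.centralizer (Q : Set P) : Set P) * (A : Set P) := by
    rintro x ⟨hx, hxc⟩
    have hx' : x ∈ (Q : Set P) * (A : Set P) := hset ▸ hx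
    obtain ⟨q, hq, a, ha, rfl⟩ := hx'
    have haC : a ∈ Subgroup.centralizer ((Q ⊓ A : Subgroup P) : Set P) :=
      Subgroup.centralizer_le (inf_le_right : Q ⊓ A ≤ A) (hAC.ge ha)
    have hqC := (Subgroup.mul_mem_cancel_right _ haC).1 hxc
    have hqB : q ∈ (Q ⊓ A) ⊔ Subgroup.centralizer (Q : Set P) := by
      refine (CfsgLib.LocalB.CD.C_eq_self hB).le ?_
      show q ∈ CfsgLib.LocalB.CD.C ((Q ⊓ A) ⊔ CfsgLib.LocalB.CD.C Q)
      rw [CfsgLib.LocalB.CD.C_sup]
      exact ⟨hqC, CfsgLib.LocalB.CD.le_CC Q hq⟩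
    rw [sup_comm, ← SetLike.mem_coe, Subgroup.coe_mul_of_left_le_normalizer_right _ _ ?_] at hqB
    · obtain ⟨z, hz', w, hw, rfl⟩ := hqB
      exact ⟨z, hz', w * a, mul_mem hw.2 ha, by simp [mul_assoc]⟩
    · intro z hz'
      refine Subgroup.centralizer_le_normalizer _ (Subgroup.mem_centralizer_iff.2 fun w hw => ?_)
      exact Subgroup.mem_centralizer_iff.1 hz' w hw.1
  have hle : Subgroup.centralizer (Q : Set P) ⊔ A ≤
      (Q ⊔ A) ⊓ Subgroup.centralizer ((Q ⊓ A : Subgroup P) : Set P) :=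
    sup_le (le_inf (hQ'.2.trans le_sup_left) (Subgroup.centralizer_le inf_le_left))
      (le_inf le_sup_right (hAC.ge.trans (Subgroup.centralizer_le inf_le_right)))
  refine ⟨hset, CfsgLib.LocalB.CD.isCentrallyLarge_iff.2 hcl, ?_, ?_, ?_⟩
  · refine le_antisymm (fun x hx => ?_) hle
    obtain ⟨z, hz', a, ha, rfl⟩ := key x hx
    exact Subgroup.mul_mem_sup hz' ha
  · rw [show (Q : Set P) ⊓ (Subgroup.centralizer (Q : Set P) : Set P) =
      (Subgroup.centralizer (Q : Set P) : Set P) from inf_eq_right.2 hQ'.2]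
    exact Set.Subset.antisymm (fun x hx => key x (hle hx)) (CfsgLib.LocalB.CD.mul_subset_sup _ _)
  · refine CfsgLib.LocalB.CD.C_thompson_le CfsgLib.LocalB.CD.cl_join ?_
    refine sSup_le fun B hB' => ?_
    exact le_sup_right.trans (le_sSup (show Q ⊔ B ∈ {R : Subgroup P | Cfsg.IsCentrallyLarge R} from
      CfsgLib.LocalB.CD.isCentrallyLarge_iff.2 (CfsgLib.LocalB.CD.cl_sup_abelian hQ' hB').2.1))

end Cfsg.Agent.S3006
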