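import Cfsg.Statements.S3008
import Cfsg.Agent.LocalB.CentrallyLargeNormal
-- import your own Cfsg.Agent.* helpers here

set_option autoImplicit false
open Cfsg

namespace Cfsg.Agent.S3008

/-- Let P be a finite p-group, with J(P) generated by its abelian subgroups of largest order and J̃(P) = C_P(Z(J(P))); call R ≤ P centrally large if |R|·|Z(R)| is as large as possible, and let P_MCL be generated by the minimal centrally large subgroups. Then: for every centrally large Q, Q·J(P) ⊇ J̃(P); some minimal centrally large subgroup of P is normalized by both J(P) and P_MCL; if P = J(P) and d(P)² = |P|·|Z(P)|, where d(P) is the largest order of an abelian subgroup, then every minimal centrally large subgroup of P is abelian; and if every minimal centrally large subgroup is abelian then J̃(P) = J(P). -/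
theorem result {p : ℕ} [Fact p.Prime] (P : Type*) [Group P] [Finite P] (hP : IsPGroup p P) : (∀ Q : Subgroup P, Cfsg.IsCentrallyLarge Q → Subgroup.centralizer ((Cfsg.thompsonSubgroupA P ⊓ Subgroup.centralizer (Cfsg.thompsonSubgroupA P : Set P) : Subgroup P) : Set P) ≤ Q ⊔ Cfsg.thompsonSubgroupA P) ∧ (∃ Q : Subgroup P, Cfsg.IsMinimalCentrallyLarge Q ∧ Cfsg.thompsonSubgroupA P ≤ Subgroup.normalizer (Q : Set P) ∧ Cfsg.minimalCentrallyLargeJoin P ≤ Subgroup.normalizer (Q : Set P)) ∧ (Cfsg.thompsonSubgroupA P = ⊤ → (∀ A ∈ Cfsg.maxAbelianSubgroups P, Nat.card ↥A ^ 2 = Nat.card P * Nat.card ↥(Subgroup.center P)) → ∀ Q : Subgroup P, Cfsg.IsMinimalCentrallyLarge Q → IsMulCommutative ↥Q) ∧ ((∀ Q : Subgroup P, Cfsg.IsMinimalCentrallyLarge Q → IsMulCommutative ↥Q) → Subgroup.centralizer ((Cfsg.thompsonSubgroupA P ⊓ Subgroup.centralizer (Cfsg.thompsonSubgroupA P : Set P) : Subgroup P) : Set P) = Cfsg.thompsonSubgroupA P) := by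
  open CfsgLib.LocalB.CD Subgroup in
  have : Group.IsNilpotent P := hP.isNilpotent
  obtain ⟨A₀, hA₀, hA₀max⟩ := Set.Finite.exists_maximalFor (fun A : Subgroup P => Nat.card A)
    {A : Subgroup P | IsMulCommutative A} (Set.toFinite _)
    ⟨⊥, show IsMulCommutative (⊥ : Subgroup P) from inferInstance⟩
  have hA₀m : A₀ ∈ Cfsg.maxAbelianSubgroups P :=
    ⟨hA₀, fun B hB => (le_total (Nat.card B) (Nat.card A₀)).elim id (fun h => hA₀max hB h)⟩
  have hQJ : ∀ Q : Subgroup P, Cfsg.IsCentrallyLarge Q → CL (Q ⊔ Cfsg.thompsonSubgroupA P) := by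
    intro Q hQ
    have hQc := isCentrallyLarge_iff.1 hQ
    have h1 : Q ⊔ Cfsg.thompsonSubgroupA P = sSup ((fun A => Q ⊔ A) '' Cfsg.maxAbelianSubgroups P) := by
      refine le_antisymm (sup_le ?_ (sSup_le fun A hA => le_sup_right.trans (le_sSup ⟨A, hA, rfl⟩))) (sSup_le ?_)
      · exact le_sup_left.trans (le_sSup ⟨A₀, hA₀m, rfl⟩)
      · rintro _ ⟨A, hA, rfl⟩
        exact sup_le_sup_left (le_sSup hA) _
    rw [h1]
    refine cl_sSup _ ⟨_, A₀, hA₀m, rfl⟩ ?_
    rintro _ ⟨A, hA, rfl⟩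
    exact (cl_sup_abelian hQc hA).2.1
  obtain ⟨H, hH⟩ := exists_cl (G := P)
  obtain ⟨Q₀, -, hQ₀⟩ := exists_minimal_le hH
  refine ⟨fun Q hQ => C_thompson_le (hQJ Q hQ) le_sup_right, ?_, ?_, ?_⟩
  · obtain ⟨Q, hQ, hQn⟩ := exists_minimal_invariant (G := P)
    exact ⟨Q, hQ, hQn, (minimalJoin_le_sup hQ).trans (sup_le le_normalizer hQn)⟩
  · intro hJ hd Q hQ
    have htop : CL (⊤ : Subgroup P) := by
      have h := hQJ Q₀ hQ₀.1
      rwa [hJ, sup_top_eq] at h
    have hAc : CL A₀ := by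
      refine ⟨htop.1.congr ?_, (C_eq_self hA₀m).le⟩
      unfold m
      rw [C_eq_self hA₀m, ← sq, hd A₀ hA₀m, card_top, show C (⊤ : Subgroup P) = center P by
        rw [C, coe_top, centralizer_univ]]
    obtain ⟨Y, hYA, hY⟩ := exists_minimal_le hAc
    have hYc : IsMulCommutative Y :=
      comm_of_le_C ((hYA.trans (le_C_of_comm hA₀m.1)).trans (C_antitone hYA))
    exact ((minimal_iff_maxAbelian hY hYc Q).1 hQ).1
  · intro hab
    have e : Cfsg.thompsonSubgroupA P = Cfsg.minimalCentrallyLargeJoin P := by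
      unfold Cfsg.thompsonSubgroupA Cfsg.minimalCentrallyLargeJoin
      congr 1
      ext X
      exact (minimal_iff_maxAbelian hQ₀ (hab Q₀ hQ₀) X).symm
    rw [e]
    have hM := cl_minimal_join (G := P)
    show C (Cfsg.minimalCentrallyLargeJoin P ⊓ C (Cfsg.minimalCentrallyLargeJoin P)) = _
    rw [inf_eq_right.2 hM.2, hM.1.centralizer.2]

end Cfsg.Agent.S3008
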