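import Cfsg.Statements.S3009
import Cfsg.Agent.LocalB.SL2Natural
import Cfsg.Agent.SL2C.Basic
import Cfsg.Agent.PLocal.Offender
import Cfsg.Agent.LocalB.Embedded
-- import your own Cfsg.Agent.* helpers here

set_option autoImplicit false
open Cfsg
open scoped commutatorElement

namespace Cfsg.Agent.S3009

theorem upper_index {F : Type} [Field F] [Fintype F] {p n : ℕ} [Fact p.Prime]
    (hF : Fintype.card F = p ^ n) :
    IsPGroup p (Cfsg.upperUnipotentSL2 F) ∧ ¬ p ∣ (Cfsg.upperUnipotentSL2 F).index := by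
  have hn : n ≠ 0 := by
    rintro rfl
    rw [pow_zero] at hF
    exact (Fintype.one_lt_card (α := F)).ne' hF
  have hc : Nat.card (Cfsg.upperUnipotentSL2 F) = Fintype.card F := by
    rw [← Nat.card_eq_fintype_card]
    refine (Nat.card_eq_of_bijective
      (fun x : F => (⟨CfsgLib.SL2Pair.up x, CfsgLib.SL2Pair.mem_upper.2 ⟨x, rfl⟩⟩ :
        Cfsg.upperUnipotentSL2 F)) ⟨?_, ?_⟩).symm
    · intro x y e
      have := congrArg (fun g : Matrix.SpecialLinearGroup (Fin 2) F =>
        (g : Matrix (Fin 2) (Fin 2) F) 0 1) (congrArg Subtype.val e)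
      simpa [CfsgLib.SL2Pair.up_coe] using this
    · rintro ⟨g, hg⟩
      obtain ⟨c, rfl⟩ := CfsgLib.SL2Pair.mem_upper.1 hg
      exact ⟨c, rfl⟩
  refine ⟨IsPGroup.of_card (hc.trans hF), fun h => ?_⟩
  have hm := (Cfsg.upperUnipotentSL2 F).card_mul_index
  rw [hc, CfsgLib.SL2C.card_SL2_mul] at hm
  rw [Nat.eq_of_mul_eq_mul_left Fintype.card_pos hm, hF, ← pow_mul] at h
  obtain ⟨c, hc'⟩ := h
  have h2 : p ∣ p ^ (n * 2) := dvd_pow_self p (by omega)
  have h1 : p ∣ 1 := by
    have hge : 1 ≤ p ^ (n * 2) := Nat.one_le_pow _ _ (Fact.out : p.Prime).pos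
    have h3 := Nat.dvd_sub h2 (⟨c, hc'⟩ : p ∣ p ^ (n * 2) - 1)
    rwa [Nat.sub_sub_self hge] at h3
  exact (Fact.out : p.Prime).not_dvd_one h1

/-- Let p be a prime and let G and V be subgroups of a finite group with V elementary abelian and normalized by G, and G isomorphic to SL₂(F) for a finite field F with pⁿ elements. Suppose G acts irreducibly and nontrivially on V by conjugation (no G-invariant subgroups of V other than 1 and V, and [V, G] ≠ 1), and let S be a Sylow p-subgroup of G and V₀ = C_V(S). If [V, S, S] = 1 or |V| ≤ |V₀|², then G acts on V as SL₂(F) on its natural two-dimensional module; in particular |V| = |F|². -/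
theorem result {X : Type*} [Group X] [Finite X] {p : ℕ} [Fact p.Prime] (G V : Subgroup X) (hV : Cfsg.IsElementaryAbelian p V) (hGV : G ≤ Subgroup.normalizer (V : Set X)) (F : Type) [Field F] [Fintype F] (n : ℕ) (hF : Fintype.card F = p ^ n) (hG : Nonempty (↥G ≃* Matrix.SpecialLinearGroup (Fin 2) F)) (hirr : ∀ U : Subgroup X, U ≤ V → G ≤ Subgroup.normalizer (U : Set X) → U = ⊥ ∨ U = V) (hnt : ⁅V, G⁆ ≠ ⊥) (S : Sylow p ↥G) (hyp : ⁅⁅V, (S : Subgroup ↥G).map G.subtype⁆, (S : Subgroup ↥G).map G.subtype⁆ = ⊥ ∨ Nat.card ↥V ≤ Nat.card ↥(V ⊓ Subgroup.centralizer (((S : Subgroup ↥G).map G.subtype : Subgroup X) : Set X)) ^ 2) : Cfsg.ActsAsSL2OnSection F ⊤ G V ⊥ := by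
  classical
  obtain ⟨e₀⟩ := hG
  obtain ⟨hU, hidx⟩ := upper_index hF
  -- move `S` to the upper unitriangular group
  obtain ⟨g, hg⟩ := MulAction.exists_smul_eq (Matrix.SpecialLinearGroup (Fin 2) F)
    (S.comapOfInjective e₀.symm.toMonoidHom e₀.symm.injective (fun x _ => ⟨e₀ x, by simp⟩))
    (hU.toSylow hidx)
  let e : ↥G ≃* Matrix.SpecialLinearGroup (Fin 2) F := e₀.trans (MulAut.conj g)
  have hS : ∀ x : ↥G, x ∈ (S : Subgroup ↥G) ↔ e x ∈ Cfsg.upperUnipotentSL2 F := by
    intro x
    have h := congrArg (fun T : Sylow p _ => e x ∈ (T : Subgroup (Matrix.SpecialLinearGroup (Fin 2) F))) hg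
    simp only [eq_iff_iff] at h
    rw [show Cfsg.upperUnipotentSL2 F = (hU.toSylow hidx : Subgroup _) from rfl, ← h,
      Sylow.coe_subgroup_smul]
    show x ∈ (S : Subgroup ↥G) ↔ (MulAut.conj g) • (e₀ x) ∈ _
    rw [Subgroup.smul_mem_pointwise_smul_iff]
    simp
  have hVc : ∀ a ∈ V, ∀ b ∈ V, a * b = b * a := fun a ha b hb =>
    congrArg Subtype.val (hV.1.is_comm.comm (⟨a, ha⟩ : ↥V) ⟨b, hb⟩)
  letI : CommGroup ↥V :=
    { (inferInstance : Group ↥V) with
      mul_comm := fun a b => Subtype.ext (hVc a a.2 b b.2) }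
  have hconj : ∀ (x : ↥G) (v : X), v ∈ V → (x : X) * v * (x : X)⁻¹ ∈ V := fun x v hv =>
    ((Subgroup.mem_normalizer_iff.1 (hGV x.2)) v).1 hv
  letI : DistribMulAction (Matrix.SpecialLinearGroup (Fin 2) F) (Additive ↥V) :=
    { smul := fun s v => Additive.ofMul
        ⟨(e.symm s : X) * (v.toMul : X) * (e.symm s : X)⁻¹, hconj _ _ v.toMul.2⟩
      one_smul := fun v => by
        apply Additive.toMul.injective; apply Subtype.ext
        show (e.symm 1 : X) * (v.toMul : X) * (e.symm 1 : X)⁻¹ = (v.toMul : X)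
        simp
      mul_smul := fun s t v => by
        apply Additive.toMul.injective; apply Subtype.ext
        show (e.symm (s * t) : X) * (v.toMul : X) * (e.symm (s * t) : X)⁻¹ =
          (e.symm s : X) * ((e.symm t : X) * (v.toMul : X) * (e.symm t : X)⁻¹) * (e.symm s : X)⁻¹
        simp [mul_assoc]
      smul_zero := fun s => by
        apply Additive.toMul.injective; apply Subtype.ext
        show (e.symm s : X) * (1 : X) * (e.symm s : X)⁻¹ = 1
        simp
      smul_add := fun s v w => by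
        apply Additive.toMul.injective; apply Subtype.ext
        show (e.symm s : X) * ((v.toMul : X) * (w.toMul : X)) * (e.symm s : X)⁻¹ =
          ((e.symm s : X) * (v.toMul : X) * (e.symm s : X)⁻¹) *
            ((e.symm s : X) * (w.toMul : X) * (e.symm s : X)⁻¹)
        group }
  have hsmul : ∀ (s : Matrix.SpecialLinearGroup (Fin 2) F) (v : Additive ↥V),
      (((s • v).toMul : ↥V) : X) = (e.symm s : X) * (v.toMul : X) * (e.symm s : X)⁻¹ := fun _ _ => rfl
  -- the standing hypotheses
  have hp : p.Prime := Fact.out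
  have hn : n ≠ 0 := by
    rintro rfl
    rw [pow_zero] at hF
    exact (Fintype.one_lt_card (α := F)).ne' hF
  have H : CfsgLib.SL2Nat.Hyp F (Additive ↥V) p := by
    refine ⟨hp, ?_, fun v => ?_, fun U hUi => ?_, ?_⟩
    · have h := FiniteField.cast_card_eq_zero F
      rw [hF, Nat.cast_pow] at h
      exact eq_zero_of_pow_eq_zero h
    · apply Additive.toMul.injective; apply Subtype.ext
      rw [toMul_nsmul, toMul_zero, SubmonoidClass.coe_pow, OneMemClass.coe_one]
      exact hV.2 _ v.toMul.2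
    · let U' : Subgroup X := ((AddSubgroup.toSubgroup' U).map V.subtype)
      have hU' : ∀ x : X, x ∈ U' ↔ ∃ v : Additive ↥V, v ∈ U ∧ (v.toMul : X) = x := by
        intro x
        constructor
        · rintro ⟨y, hy, rfl⟩; exact ⟨Additive.ofMul y, hy, rfl⟩
        · rintro ⟨v, hv, rfl⟩; exact ⟨v.toMul, hv, rfl⟩
      have hnorm : G ≤ Subgroup.normalizer (U' : Set X) := by
        intro x hx
        refine CfsgLib.LocalB.mem_normalizer_of_conj_le fun y hy => ?_
        obtain ⟨v, hv, rfl⟩ := (hU' y).1 hy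
        refine (hU' _).2 ⟨e ⟨x, hx⟩ • v, hUi _ v hv, ?_⟩
        rw [hsmul, MulEquiv.symm_apply_apply]
      rcases hirr U' (Subgroup.map_subtype_le _) hnorm with h | h
      · left
        refine le_bot_iff.1 fun v hv => ?_
        have h1 : (v.toMul : X) ∈ U' := (hU' _).2 ⟨v, hv, rfl⟩
        rw [h, Subgroup.mem_bot] at h1
        rw [AddSubgroup.mem_bot]
        exact Additive.toMul.injective (Subtype.ext h1)
      · right
        refine top_le_iff.1 fun v _ => ?_
        have h1 : (v.toMul : X) ∈ U' := h.ge v.toMul.2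
        obtain ⟨w, hw, hwv⟩ := (hU' _).1 h1
        rwa [← Additive.toMul.injective (Subtype.ext hwv)]
    · by_contra hno
      push Not at hno
      refine hnt (le_bot_iff.1 (Subgroup.commutator_le.2 fun v hv x hx => ?_))
      have h := congrArg (fun w : Additive ↥V => (w.toMul : X))
        (hno (e ⟨x, hx⟩) (Additive.ofMul ⟨v, hv⟩))
      simp only [hsmul, MulEquiv.symm_apply_apply, toMul_ofMul] at h
      rw [Subgroup.mem_bot, commutatorElement_eq_one_iff_mul_comm]
      exact (mul_inv_eq_iff_eq_mul.1 h).symm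
  set S' : Subgroup X := (S : Subgroup ↥G).map G.subtype
  have hup : ∀ a : F, (e.symm (CfsgLib.SL2Pair.up a) : X) ∈ S' := fun a =>
    Subgroup.mem_map.2 ⟨_, (hS _).2 (by
      rw [MulEquiv.apply_symm_apply]; exact CfsgLib.SL2Pair.mem_upper.2 ⟨a, rfl⟩), rfl⟩
  have hup' : ∀ s ∈ S', ∃ a : F, (e.symm (CfsgLib.SL2Pair.up a) : X) = s := by
    rintro _ ⟨x, hx, rfl⟩
    obtain ⟨a, ha⟩ := CfsgLib.SL2Pair.mem_upper.1 ((hS x).1 hx)
    exact ⟨a, by rw [← ha, MulEquiv.symm_apply_apply]; rfl⟩
  have hfix : ∀ v : Additive ↥V, v ∈ CfsgLib.SL2Nat.fixUp F (Additive ↥V) ↔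
      (v.toMul : X) ∈ Subgroup.centralizer (S' : Set X) := by
    intro v
    constructor
    · intro hv
      refine Subgroup.mem_centralizer_iff.2 fun s hs => ?_
      obtain ⟨a, rfl⟩ := hup' s hs
      have h := congrArg (fun w : Additive ↥V => (w.toMul : X)) (hv a)
      simp only [hsmul] at h
      exact mul_inv_eq_iff_eq_mul.1 h
    · intro hv a
      apply Additive.toMul.injective; apply Subtype.ext
      rw [hsmul, Subgroup.mem_centralizer_iff.1 hv _ (hup a), mul_inv_cancel_right]
  have hquad : CfsgLib.SL2Nat.comUp F (Additive ↥V) ≤ CfsgLib.SL2Nat.fixUp F (Additive ↥V) := by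
    rcases hyp with hyp | hyp
    · refine (AddSubgroup.closure_le _).2 ?_
      rintro _ ⟨a, v, rfl⟩
      rw [SetLike.mem_coe, hfix, Subgroup.mem_centralizer_iff]
      intro s hs
      have h1 : ⁅(v.toMul : X), (e.symm (CfsgLib.SL2Pair.up a) : X)⁆ ∈ ⁅V, S'⁆ :=
        Subgroup.commutator_mem_commutator v.toMul.2 (hup a)
      have h2 := (Subgroup.commutator_eq_bot_iff_le_centralizer.1 hyp) (inv_mem h1)
      rw [toMul_sub, Subgroup.coe_div, hsmul, div_eq_mul_inv]
      rw [commutatorElement_inv, commutatorElement_def, Subgroup.mem_centralizer_iff] at h2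
      exact h2 s hs
    · refine H.comUp_le ?_ ?_
      · refine le_trans (le_of_eq_of_le ?_ hyp) (Nat.pow_le_pow_left (le_of_eq ?_) 2)
        · exact Nat.card_congr Additive.toMul
        · exact Nat.card_congr
            { toFun := fun x => ⟨Additive.ofMul ⟨x, (Subgroup.mem_inf.1 x.2).1⟩,
                (hfix _).2 (Subgroup.mem_inf.1 x.2).2⟩
              invFun := fun v => ⟨(v.1.toMul : X),
                Subgroup.mem_inf.2 ⟨v.1.toMul.2, (hfix _).1 v.2⟩⟩
              left_inv := fun x => rfl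
              right_inv := fun v => rfl }
      · intro htop
        let A : Subgroup X := ((Cfsg.lowerUnipotentSL2 F).map e.symm.toMonoidHom).map G.subtype
        have hAG : A ≤ G := Subgroup.map_subtype_le _
        have hbot : V = ⊥ := by
          refine CfsgLib.Offender.eq_bot_of_le_commutator (p := p) (hAG.trans hGV)
            (fun v => ⟨1, Subtype.ext (by rw [pow_one]; exact hV.2 _ v.2)⟩) ?_ ?_
          · rintro _ ⟨_, ⟨l, hl, rfl⟩, rfl⟩
            obtain ⟨c, rfl⟩ := CfsgLib.SL2Pair.mem_lower.1 hl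
            have hlp : ∀ k : ℕ, (CfsgLib.SL2Pair.low c : Matrix.SpecialLinearGroup (Fin 2) F) ^ k =
                CfsgLib.SL2Pair.low ((k : F) * c) := by
              intro k
              induction k with
              | zero => rw [pow_zero, Nat.cast_zero, zero_mul, CfsgLib.SL2Pair.low_zero]
              | succ k ih => rw [pow_succ, ih, CfsgLib.SL2Pair.low_mul, Nat.cast_succ, add_mul, one_mul]
            simp only [MulEquiv.coe_toMonoidHom, Subgroup.coe_subtype, ← SubmonoidClass.coe_pow]
            rw [← map_pow, hlp, H.charp, zero_mul, CfsgLib.SL2Pair.low_zero, map_one]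
            exact one_mem _
          · intro v hv
            have hle : ∀ w ∈ CfsgLib.SL2Nat.comLow F (Additive ↥V), (w.toMul : X) ∈ ⁅V, A⁆ := by
              intro w hw
              induction hw using AddSubgroup.closure_induction with
              | mem y hy =>
                obtain ⟨b, u, rfl⟩ := hy
                rw [toMul_sub, Subgroup.coe_div, hsmul, Subgroup.commutator_comm, div_eq_mul_inv]
                rw [← commutatorElement_def]
                exact Subgroup.commutator_mem_commutator (Subgroup.mem_map.2 ⟨_,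
                  Subgroup.mem_map.2 ⟨_, CfsgLib.SL2Pair.mem_lower.2 ⟨b, rfl⟩, rfl⟩, rfl⟩) u.toMul.2
              | zero => exact one_mem _
              | add y z _ _ hy hz => exact mul_mem hy hz
              | neg y _ hy => exact inv_mem hy
            exact hle (Additive.ofMul ⟨v, hv⟩) (htop.ge (AddSubgroup.mem_top _))
        exact hnt (by rw [hbot, Subgroup.commutator_bot_left])
  obtain ⟨Φ, hΦ⟩ := H.exists_natural hquad
  refine ⟨hGV, bot_le, e.toMonoidHom,
    MonoidHom.mk' (fun u => Multiplicative.ofAdd (Φ.symm (Additive.ofMul u)))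
      (fun u v => by rw [ofMul_mul, map_add, ofAdd_add]), ?_, ?_, ?_, ?_⟩
  · exact MonoidHom.range_eq_top.2 e.surjective
  · intro x
    exact ⟨(Φ x.toAdd).toMul, by simp⟩
  · intro u
    simp [ofMul_eq_zero]
  · intro x u
    refine ⟨(e x • Additive.ofMul u : Additive ↥V).toMul, ?_, ?_⟩
    · rw [hsmul, MulEquiv.symm_apply_apply]; rfl
    · simp only [MonoidHom.mk'_apply, toAdd_ofAdd, ofMul_toMul, MulEquiv.coe_toMonoidHom]
      apply Φ.injective
      rw [hΦ, AddEquiv.apply_symm_apply, AddEquiv.apply_symm_apply]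

end Cfsg.Agent.S3009
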