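import Cfsg.Statements.S3013

set_option autoImplicit false
set_option linter.unusedVariables false
open Cfsg

namespace Cfsg.Agent.S3013

/-- Let G be a finite group and V a nontrivial elementary abelian 2-subgroup of G satisfying the Sidki pair condition. Let v ∈ V and let x be an element of odd order inverted by v, and put C = C_G(v) ∩ C_G(x), the centralizer of the dihedral subgroup generated by v and x. Then C ∩ V is nontrivial and satisfies the Sidki pair condition inside C: every odd-order element of C inverted by an element of C ∩ V commutes with a nontrivial element of C ∩ V. -/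
theorem result {G : Type*} [Group G] [Finite G] (V : Subgroup G) (hV : Cfsg.IsElementaryAbelian 2 V) (hV1 : V ≠ ⊥) (hS : Cfsg.IsSidkiPair V) (v x : G) (hv : v ∈ V) (hx : Odd (orderOf x)) (hinv : v * x * v⁻¹ = x⁻¹) (C : Subgroup G) (hC : C = Subgroup.centralizer ({v} : Set G) ⊓ Subgroup.centralizer ({x} : Set G)) : C ⊓ V ≠ ⊥ ∧ Cfsg.IsSidkiPair ((C ⊓ V).subgroupOf C) := by
  subst hC
  refine ⟨fun h0 => ?_, fun h u hu hoh hinv2 => ?_⟩
  · obtain ⟨w, hw, hw1, hwx⟩ := hS x v hv hx hinv
    have : w ∈ (Subgroup.centralizer ({v} : Set G) ⊓ Subgroup.centralizer ({x} : Set G)) ⊓ V :=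
      ⟨⟨Subgroup.mem_centralizer_singleton_iff.mpr ((congrArg Subtype.val (hV.1.is_comm.comm ⟨w, hw⟩ ⟨v, hv⟩))),
        Subgroup.mem_centralizer_singleton_iff.mpr hwx⟩, hw⟩
    rw [h0, Subgroup.mem_bot] at this
    exact hw1 this
  · have huV : (u : G) ∈ V := hu.2
    have hhv : Commute (h : G) v := Subgroup.mem_centralizer_singleton_iff.mp h.2.1
    have hhx : Commute (h : G) x := Subgroup.mem_centralizer_singleton_iff.mp h.2.2
    have hinv' : (u : G) * h * (u : G)⁻¹ = (h : G)⁻¹ := congrArg Subtype.val hinv2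
    have hux : Commute (u : G) x := Subgroup.mem_centralizer_singleton_iff.mp u.2.2
    have hoh' : Odd (orderOf (h : G)) := by rwa [Subgroup.orderOf_coe]
    have hvu : Commute v (u : G) := congrArg Subtype.val (hV.1.is_comm.comm ⟨v, hv⟩ ⟨u, huV⟩)
    have e2 : (v * u : G) * x * (v * u : G)⁻¹ = x⁻¹ := by
      rw [← hinv, mul_inv_rev]
      simp only [mul_assoc]
      rw [← mul_assoc (u : G) x, hux.eq, mul_assoc, mul_inv_cancel_left]
    have e1 : (v * u : G) * h * (v * u : G)⁻¹ = (h : G)⁻¹ := by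
      calc (v * u : G) * h * (v * u : G)⁻¹ = v * ((u : G) * h * (u : G)⁻¹) * v⁻¹ := by simp [mul_assoc]
        _ = (h : G)⁻¹ := by rw [hinv', hhv.symm.inv_right.eq, mul_inv_cancel_right]
    have hoo : Odd (orderOf ((h : G) * x)) :=
      (hoh'.mul hx).of_dvd_nat hhx.orderOf_mul_dvd_mul_orderOf
    obtain ⟨w, hw, hw1, hwc⟩ := hS ((h : G) * x) (v * u) (V.mul_mem hv huV) hoo (by
      have : (v * u : G) * ((h : G) * x) * (v * u : G)⁻¹
          = ((v * u : G) * h * (v * u : G)⁻¹) * ((v * u : G) * x * (v * u : G)⁻¹) := by simp [mul_assoc]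
      rw [this, e1, e2, mul_inv_rev, hhx.inv_inv.eq])
    have hwv : Commute w v := congrArg Subtype.val (hV.1.is_comm.comm ⟨w, hw⟩ ⟨v, hv⟩)
    have hc1 : Commute w ((h : G) * x) := hwc
    have hc2 : Commute w ((h : G) * x⁻¹) := by
      have h1 := hc1.map (MulAut.conj v).toMonoidHom
      have e3 : v * w * v⁻¹ = w := by rw [hwv.symm.eq, mul_inv_cancel_right]
      have e4 : v * ((h : G) * x) * v⁻¹ = (h : G) * x⁻¹ := by
        rw [← hinv, ← mul_assoc v, hhv.symm.eq]; simp [mul_assoc]
      simpa [e3, e4] using h1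
    have hch2 : Commute w ((h : G) ^ 2) := by
      have : ((h : G) * x) * ((h : G) * x⁻¹) = (h : G) ^ 2 := by
        rw [sq, hhx.eq, mul_assoc, ← mul_assoc (h : G) h, ← sq]
        rw [(hhx.pow_left 2).inv_right.eq, mul_inv_cancel_left]
      rw [← this]; exact hc1.mul_right hc2
    obtain ⟨j, hj⟩ := exists_pow_eq_self_of_coprime
      (Nat.coprime_two_left.mpr hoh' : (2 : ℕ).Coprime (orderOf (h : G)))
    have hwh : Commute w (h : G) := by rw [← hj]; exact hch2.pow_right j
    have hwx : Commute w x := by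
      have := (hwh.inv_right).mul_right hc1
      simpa using this
    have hwC : w ∈ Subgroup.centralizer ({v} : Set G) ⊓ Subgroup.centralizer ({x} : Set G) :=
      ⟨Subgroup.mem_centralizer_singleton_iff.mpr hwv.eq,
        Subgroup.mem_centralizer_singleton_iff.mpr hwx.eq⟩
    exact ⟨⟨w, hwC⟩, ⟨hwC, hw⟩, fun h => hw1 (congrArg Subtype.val h), Subtype.ext hwh.eq⟩

end Cfsg.Agent.S3013
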