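import Cfsg.Statements.S3014
import Cfsg.Agent.LocalB.Embedded
import Mathlib.GroupTheory.Transfer
import Mathlib.GroupTheory.SpecificGroups.Cyclic

set_option autoImplicit false
set_option linter.unusedVariables false
open Cfsg

namespace Cfsg.Agent.S3014

/-- Let G be a finite group and H ≤ M ≤ G subgroups such that for every g ∈ G the subgroup generated by H and g H g⁻¹ meets M exactly in H. If H is a maximal subgroup of M and M is a maximal subgroup of G, then the normal closure of H in G meets M exactly in H. -/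
theorem result {G : Type*} [Group G] [Finite G] (H M : Subgroup G) (hHM : H ≤ M) (hcl : ∀ g : G, (H ⊔ H.map (MulAut.conj g).toMonoidHom) ⊓ M = H) (hmaxH : IsCoatom (H.subgroupOf M)) (hmaxM : IsCoatom M) : Subgroup.normalClosure (H : Set G) ⊓ M = H := by
  classical
  have hconjmem : ∀ (g x : G), x ∈ H.map (MulAut.conj g).toMonoidHom ↔ g⁻¹ * x * g ∈ H :=
    fun g x => CfsgLib.LocalB.mem_map_conj
  have hnorm : M ≤ Subgroup.normalizer (H : Set G) := by
    intro g hg
    refine CfsgLib.LocalB.mem_normalizer_of_conj_le fun x hx => ?_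
    rw [← hcl g]
    exact ⟨(le_sup_right : H.map (MulAut.conj g).toMonoidHom ≤ _) ⟨x, hx, rfl⟩,
      mul_mem (mul_mem hg (hHM hx)) (M.inv_mem hg)⟩
  haveI hHn : (H.subgroupOf M).Normal := (Subgroup.normal_subgroupOf_iff_le_normalizer hHM).2 hnorm
  have hgen : ∀ y ∈ M, y ∉ H → M ≤ H ⊔ Subgroup.zpowers y := by
    intro y hy hyH
    have h := hmaxH.2 (H.subgroupOf M ⊔ Subgroup.zpowers ⟨y, hy⟩)
      (lt_of_le_of_ne le_sup_left fun e => hyH (e.symm.le
        ((le_sup_right : Subgroup.zpowers (⟨y, hy⟩ : M) ≤ _) (Subgroup.mem_zpowers _))))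
    have h' := congrArg (Subgroup.map M.subtype) h
    rw [Subgroup.map_sup, Subgroup.map_subgroupOf_eq_of_le hHM, MonoidHom.map_zpowers,
      ← MonoidHom.range_eq_map, Subgroup.range_subtype] at h'
    exact h'.ge
  have hHne : H ≠ M := fun e => hmaxH.1 (by rw [e, Subgroup.subgroupOf_self])
  have hle : H ≤ Subgroup.normalClosure (H : Set G) ⊓ M := le_inf Subgroup.subset_normalClosure hHM
  refine le_antisymm ?_ hle
  by_contra hcon
  obtain ⟨m, ⟨hmN, hmM⟩, hmH⟩ := SetLike.not_le_iff_exists.1 hcon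
  set N := Subgroup.normalClosure (H : Set G) with hN
  haveI : N.Normal := Subgroup.normalClosure_normal
  have hMN : M ≤ N := (hgen m hmM hmH).trans (sup_le Subgroup.subset_normalClosure (Subgroup.zpowers_le.2 hmN))
  -- no proper normal subgroup contains all conjugates of `H`
  have hnotnormal : ∀ X : Subgroup G, X.Normal → H ≤ X → X ⊓ M ≠ H := by
    intro X hX hHX e
    haveI := hX
    exact hmH (e.le ⟨Subgroup.normalClosure_le_normal hHX hmN, hmM⟩)
  have hNtop : N = ⊤ := by
    rcases eq_or_lt_of_le hMN with e | e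
    · exfalso
      apply hcon
      intro x hx
      have hall : N ≤ H := by
        rw [hN, Subgroup.normalClosure, Subgroup.closure_le]
        intro y hy
        obtain ⟨h, hh, hhy⟩ := Group.mem_conjugatesOfSet_iff.1 hy
        obtain ⟨g, rfl⟩ := isConj_iff.1 hhy
        rw [SetLike.mem_coe, ← hcl g]
        refine ⟨(le_sup_right : H.map (MulAut.conj g).toMonoidHom ≤ _) ⟨h, hh, rfl⟩, ?_⟩
        rw [e]
        exact ‹N.Normal›.conj_mem h (Subgroup.subset_normalClosure hh) g
      exact hall hx.1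
    · exact hmaxM.2 N e
  -- distinct conjugates of `M` meet `M` in `H`
  have key : ∀ g y : G, y ∈ M → g⁻¹ * y * g ∈ M → g ∉ M → y ∈ H := by
    intro g y hy hgy hg
    by_contra hyH
    set H' := H.map (MulAut.conj g).toMonoidHom with hH'
    set K := H ⊔ H' with hK
    have hKM : K ⊓ M = H := hcl g
    have hyH' : g⁻¹ * y * g ∉ H := fun h => hyH (hKM.le ⟨(le_sup_right : H' ≤ K) ((hconjmem g y).2 h), hy⟩)
    have hyJ : y ∈ Subgroup.normalizer (K : Set G) := by
      refine CfsgLib.LocalB.mem_normalizer_of_map_conj_eq ?_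
      rw [hK, Subgroup.map_sup, CfsgLib.LocalB.map_conj_eq_of_mem_normalizer (hnorm hy)]
      congr 1
      refine CfsgLib.LocalB.map_conj_eq_of_mem_normalizer ?_
      have h1 := (Subgroup.le_normalizer_map (MulAut.conj g).toMonoidHom) ⟨_, hnorm hgy, rfl⟩
      have e : (MulAut.conj g).toMonoidHom (g⁻¹ * y * g) = y := by simp [mul_assoc]
      rw [e] at h1
      exact h1
    have hMJ : M ≤ Subgroup.normalizer (K : Set G) :=
      (hgen y hy hyH).trans (sup_le (le_sup_left.trans Subgroup.le_normalizer) (Subgroup.zpowers_le.2 hyJ))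
    have hgMJ : M.map (MulAut.conj g).toMonoidHom ≤ Subgroup.normalizer (K : Set G) := by
      refine (Subgroup.map_mono (hgen _ hgy hyH')).trans ?_
      rw [Subgroup.map_sup, MonoidHom.map_zpowers]
      refine sup_le (le_sup_right.trans Subgroup.le_normalizer) (Subgroup.zpowers_le.2 ?_)
      simpa [mul_assoc] using hyJ
    rcases eq_or_lt_of_le hMJ with e | e
    · -- `g` normalises `M`
      have hgN : g ∈ Subgroup.normalizer (M : Set G) := CfsgLib.LocalB.mem_normalizer_of_map_conj_eq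
        (Subgroup.eq_of_le_of_card_ge (hgMJ.trans e.ge) (CfsgLib.LocalB.card_map_conj M g).ge)
      rcases eq_or_lt_of_le (Subgroup.le_normalizer (H := M)) with e' | e'
      · exact hg (e'.ge hgN)
      · have hMnorm : M.Normal := Subgroup.normalizer_eq_top_iff.1 (hmaxM.2 _ e')
        haveI := hMnorm
        have : N ≤ M := Subgroup.normalClosure_le_normal hHM
        rw [hNtop] at this
        exact hmaxM.1 (top_le_iff.1 this)
    · exact hnotnormal K (Subgroup.normalizer_eq_top_iff.1 (hmaxM.2 _ e)) le_sup_left hKM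
  -- transfer into `M ⧸ H`
  obtain ⟨x, hx, hxH⟩ : ∃ x ∈ M, x ∉ H := ⟨m, hmM, hmH⟩
  set π := QuotientGroup.mk' (H.subgroupOf M) with hπ
  have hπ1 : ∀ (u : G) (hu : u ∈ M), π ⟨u, hu⟩ = 1 ↔ u ∈ H := fun u hu => QuotientGroup.eq_one_iff _
  have hcycQ : IsCyclic (M ⧸ H.subgroupOf M) := by
    refine ⟨⟨π ⟨x, hx⟩, fun z => ?_⟩⟩
    obtain ⟨⟨u, hu⟩, rfl⟩ := QuotientGroup.mk'_surjective _ z
    have h1 := hgen x hx hxH hu
    rw [← SetLike.mem_coe, Subgroup.coe_mul_of_right_le_normalizer_left _ _ (Subgroup.zpowers_le.2 (hnorm hx))] at h1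
    obtain ⟨h, hh, w, ⟨i, rfl⟩, rfl⟩ := h1
    refine ⟨i, ?_⟩
    have e : (⟨h * x ^ i, hu⟩ : M) = ⟨h, hHM hh⟩ * ⟨x, hx⟩ ^ i := Subtype.ext (by simp)
    show (π ⟨x, hx⟩) ^ i = π ⟨h * x ^ i, hu⟩
    rw [e, map_mul, map_zpow, (hπ1 h (hHM hh)).2 hh, one_mul]
  letI : CommGroup (M ⧸ H.subgroupOf M) := IsCyclic.commGroup
  set V : G →* M ⧸ H.subgroupOf M := MonoidHom.transfer π with hV
  haveI : Fintype (Quotient (MulAction.orbitRel (Subgroup.zpowers x) (G ⧸ M))) := Fintype.ofFinite _
  have hV0 : ∀ u, V u = 1 := by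
    intro u
    have hker : N ≤ V.ker := by
      haveI := V.normal_ker
      refine Subgroup.normalClosure_le_normal fun h hh => ?_
      haveI : Fintype (Quotient (MulAction.orbitRel (Subgroup.zpowers h) (G ⧸ M))) := Fintype.ofFinite _
      rw [SetLike.mem_coe, MonoidHom.mem_ker, hV, MonoidHom.transfer_eq_prod_quotient_orbitRel_zpowers_quot]
      refine Finset.prod_eq_one fun q _ => (hπ1 _ _).2 ?_
      set k := Function.minimalPeriod (h • ·) q.out
      set g := q.out.out
      rw [← hcl g⁻¹]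
      refine ⟨(le_sup_right : H.map (MulAut.conj g⁻¹).toMonoidHom ≤ _)
        ⟨h ^ k, H.pow_mem hh k, by simp⟩, QuotientGroup.out_conj_pow_minimalPeriod_mem M h q.out⟩
    exact MonoidHom.mem_ker.1 (hker (hNtop ▸ Subgroup.mem_top u))
  have hq0 := hV0 x
  rw [hV, MonoidHom.transfer_eq_prod_quotient_orbitRel_zpowers_quot] at hq0
  set q0 : Quotient (MulAction.orbitRel (Subgroup.zpowers x) (G ⧸ M)) := Quotient.mk'' ((1 : G) : G ⧸ M) with hq0def
  have hfix : ∀ q : Quotient (MulAction.orbitRel (Subgroup.zpowers x) (G ⧸ M)), q = q0 →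
      q.out = ((1 : G) : G ⧸ M) := by
    intro q hq
    have h1 : MulAction.orbitRel (Subgroup.zpowers x) (G ⧸ M) q.out ((1 : G) : G ⧸ M) := by
      apply Quotient.exact
      rw [Quotient.out_eq, hq]
    obtain ⟨⟨z, hz⟩, hze⟩ := MulAction.orbitRel_apply.1 h1
    rw [← hze]
    show ((z * 1 : G) : G ⧸ M) = _
    rw [mul_one, QuotientGroup.eq, mul_one, inv_mem_iff]
    exact Subgroup.zpowers_le.2 hx hz
  rw [Finset.prod_eq_single q0] at hq0
  · set g := q0.out.out with hg
    have hgM : g ∈ M := by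
      have h1 : (g : G ⧸ M) = ((1 : G) : G ⧸ M) := by
        rw [hg, QuotientGroup.out_eq', hfix q0 rfl]
      rw [QuotientGroup.eq, mul_one, inv_mem_iff] at h1
      exact h1
    have hk1 : Function.minimalPeriod (x • ·) q0.out = 1 := by
      rw [Function.minimalPeriod_eq_one_iff_isFixedPt]
      show x • q0.out = q0.out
      rw [hfix q0 rfl]
      show ((x * 1 : G) : G ⧸ M) = _
      rw [mul_one, QuotientGroup.eq, mul_one, inv_mem_iff]
      exact hx
    have h2 := (hπ1 _ _).1 hq0
    rw [hk1, pow_one] at h2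
    apply hxH
    have h3 := (Subgroup.mem_normalizer_iff.1 (hnorm hgM) _).1 h2
    rw [← hg] at h3
    simpa [mul_assoc] using h3
  · intro q _ hq
    rw [hπ1]
    set k := Function.minimalPeriod (x • ·) q.out
    set g := q.out.out with hg
    have hgk := QuotientGroup.out_conj_pow_minimalPeriod_mem M x q.out
    have hgM : g ∉ M := by
      intro hgM
      apply hq
      rw [← Quotient.out_eq' q, hq0def]
      congr 1
      rw [← QuotientGroup.out_eq' q.out, QuotientGroup.eq, mul_one, inv_mem_iff]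
      exact hgM
    have hyH := key g (x ^ k) (pow_mem hx k) hgk hgM
    rw [← hcl g⁻¹]
    exact ⟨(le_sup_right : H.map (MulAut.conj g⁻¹).toMonoidHom ≤ _) ⟨x ^ k, hyH, by simp⟩, hgk⟩
  · intro h; exact absurd (Finset.mem_univ q0) h

end Cfsg.Agent.S3014
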