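import Cfsg.Statements.S3015
import Cfsg.Agent.S3014
import Cfsg.Agent.LocalB.CharP

set_option autoImplicit false
set_option linter.unusedVariables false
open Cfsg

namespace Cfsg.Agent.S3015

/-- Let G be a finite non-abelian simple group, M a maximal subgroup of G and H a normal subgroup of M of prime index in M. Then G is generated by H together with one of its conjugates. -/
theorem result {G : Type*} [Group G] [Finite G] [IsSimpleGroup G] (hG : ¬ IsMulCommutative G) (M H : Subgroup G) (hmaxM : IsCoatom M) (hHM : H ≤ M) (hHn : (H.subgroupOf M).Normal) (hidx : (H.relIndex M).Prime) : ∃ g : G, H ⊔ H.map (MulAut.conj g).toMonoidHom = ⊤ := by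
  classical
  by_contra hno
  push Not at hno
  set r := H.relIndex M with hr
  haveI := Fact.mk hidx
  have hnorm : M ≤ Subgroup.normalizer (H : Set G) := (Subgroup.normal_subgroupOf_iff_le_normalizer hHM).1 hHn
  have hHne : H ≠ M := fun e => hidx.one_lt.ne' (by rw [hr, e, Subgroup.relIndex_self])
  have hMne : M ≠ ⊥ := fun e => hHne (le_antisymm hHM (e ▸ bot_le))
  have hMn : ¬ M.Normal := fun h => by
    rcases h.eq_bot_or_eq_top with e | e
    · exact hMne e
    · exact hmaxM.1 e
  have hNM : Subgroup.normalizer (M : Set G) = M := by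
    rcases eq_or_lt_of_le (Subgroup.le_normalizer (H := M)) with e | e
    · exact e.symm
    · exact absurd (Subgroup.normalizer_eq_top_iff.1 (hmaxM.2 _ e)) hMn
  have hmaxH : ∀ L : Subgroup G, L.relIndex M = r → IsCoatom (L.subgroupOf M) := by
    intro L hL
    refine ⟨fun e => hidx.one_lt.ne' (by rw [← hL, Subgroup.relIndex, e, Subgroup.index_top]), fun B hB => ?_⟩
    have h1 := Subgroup.relIndex_mul_index hB.le
    rw [← Subgroup.relIndex, hL] at h1
    rcases (Nat.dvd_prime hidx).1 (Dvd.intro_left _ h1) with h2 | h2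
    · exact Subgroup.index_eq_one.1 h2
    · rw [h2] at h1
      have h3 : (L.subgroupOf M).relIndex B = 1 := by
        have := hidx.pos
        nlinarith
      exact absurd (Subgroup.relIndex_eq_one.1 h3) hB.not_ge
  by_cases hH1 : H = ⊥
  · -- `M` would be a self-normalising subgroup of prime order
    have hMr : Nat.card M = r := by rw [hr, hH1, Subgroup.relIndex_bot_left]
    obtain ⟨P, hP⟩ := (IsPGroup.of_card (n := 1) (by rw [pow_one, hMr]) : IsPGroup r M).exists_le_sylow
    have hPM : (P : Subgroup G) = M := by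
      by_contra hne
      obtain ⟨u, hu, hun, huM⟩ := CfsgLib.LocalB.exists_mem_normalizer_not_mem P.isPGroup' hP (Ne.symm hne)
      exact huM (hNM.le hun)
    haveI := isCyclic_of_prime_card hMr
    have hPle : Subgroup.normalizer ((P : Subgroup G) : Set G) ≤ Subgroup.centralizer ((P : Subgroup G) : Set G) := by
      intro u hu
      rw [hPM] at hu ⊢
      refine Subgroup.mem_centralizer_iff.2 fun v hv => ?_
      letI := IsCyclic.commGroup (α := M)
      exact congrArg Subtype.val (mul_comm (⟨v, hv⟩ : M) ⟨u, hNM.le hu⟩)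
    have hc := MonoidHom.ker_transferSylow_isComplement' P hPle
    rcases (MonoidHom.transferSylow P hPle).normal_ker.eq_bot_or_eq_top with e | e
    · refine hmaxM.1 ?_
      rw [← hPM]
      have h1 := hc.symm.sup_eq_top
      rwa [e, sup_bot_eq] at h1
    · refine hMne ?_
      rw [← hPM]
      have h1 := hc.symm.disjoint.eq_bot
      rwa [e, inf_top_eq] at h1
  -- a conjugate of `H` inside `M` equals `H`
  have hin : ∀ g : G, H.map (MulAut.conj g).toMonoidHom ≤ M → H.map (MulAut.conj g).toMonoidHom = H := by
    intro g hg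
    by_contra hne
    set K := H.map (MulAut.conj g).toMonoidHom with hK
    have hgM : g ∉ M := fun h => hne (CfsgLib.LocalB.map_conj_eq_of_mem_normalizer (hnorm h))
    have hKidx : K.relIndex M = r := by
      have h1 := Subgroup.relIndex_mul_relIndex ⊥ K M bot_le hg
      have h2 := Subgroup.relIndex_mul_relIndex ⊥ H M bot_le hHM
      rw [Subgroup.relIndex_bot_left, Subgroup.relIndex_bot_left] at h1 h2
      rw [hK, CfsgLib.LocalB.card_map_conj, ← hK, ← h2] at h1
      exact Nat.eq_of_mul_eq_mul_left Nat.card_pos h1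
    -- the subgroup generated by the `r'`-elements of `M`
    set R := Subgroup.closure {u : G | u ∈ M ∧ (orderOf u).Coprime r} with hR
    have hRH : R ≤ H := by
      rw [hR, Subgroup.closure_le]
      rintro u ⟨hu, hcop⟩
      have h1 : u ^ r ∈ H := by
        have := Subgroup.pow_index_mem (H.subgroupOf M) (⟨u, hu⟩ : M)
        rw [← Subgroup.relIndex, ← hr] at this
        exact this
      obtain ⟨j, hj⟩ := exists_pow_eq_self_of_coprime hcop.symm
      rw [SetLike.mem_coe, ← hj]
      exact pow_mem h1 j
    have hMR : M ≤ Subgroup.normalizer (R : Set G) := by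
      intro v hv
      refine CfsgLib.LocalB.mem_normalizer_of_conj_le fun u hu => ?_
      have h2 : R ≤ R.comap (MulAut.conj v).toMonoidHom := by
        conv_lhs => rw [hR]
        rw [Subgroup.closure_le]
        rintro w ⟨hw, hcop⟩
        refine Subgroup.subset_closure ⟨mul_mem (mul_mem hv hw) (inv_mem hv), ?_⟩
        rwa [orderOf_injective (MulAut.conj v).toMonoidHom (MulAut.conj v).injective w]
      exact h2 hu
    have hgR : g ∈ Subgroup.normalizer (R : Set G) := by
      refine CfsgLib.LocalB.mem_normalizer_of_conj_le fun u hu => ?_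
      have h2 : R ≤ R.comap (MulAut.conj g).toMonoidHom := by
        conv_lhs => rw [hR]
        rw [Subgroup.closure_le]
        rintro w ⟨hw, hcop⟩
        refine Subgroup.subset_closure ⟨hg ⟨w, hRH (Subgroup.subset_closure ⟨hw, hcop⟩), rfl⟩, ?_⟩
        rwa [orderOf_injective (MulAut.conj g).toMonoidHom (MulAut.conj g).injective w]
      exact h2 hu
    have hRtop : Subgroup.normalizer (R : Set G) = ⊤ := by
      refine hmaxM.2 _ (lt_of_le_of_ne hMR fun e => hgM (e.ge hgR))
    rcases (Subgroup.normalizer_eq_top_iff.1 hRtop).eq_bot_or_eq_top with e | e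
    · -- `M` is an `r`-group
      have hMp : IsPGroup r M := CfsgLib.LocalB.isPGroup_of_forall fun u hu hcop => by
        have : u ∈ R := Subgroup.subset_closure ⟨hu, hcop⟩
        rwa [e, Subgroup.mem_bot] at this
      obtain ⟨u, huM, hun, huK⟩ := CfsgLib.LocalB.exists_mem_normalizer_not_mem hMp hg
        (fun e' => hidx.one_lt.ne' (by rw [← hKidx, e', Subgroup.relIndex_self]))
      have htop := (hmaxH K hKidx).2 ((Subgroup.normalizer (K : Set G)).subgroupOf M)
        (lt_of_le_of_ne (Subgroup.comap_mono Subgroup.le_normalizer) fun e' =>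
          huK ((Subgroup.mem_subgroupOf (H := K) (K := M) (h := ⟨u, huM⟩)).1
            (e'.ge (Subgroup.mem_subgroupOf.2 hun))))
      have hMK : M ≤ Subgroup.normalizer (K : Set G) := Subgroup.subgroupOf_eq_top.1 htop
      have hgMK : M.map (MulAut.conj g).toMonoidHom ≤ Subgroup.normalizer (K : Set G) :=
        (Subgroup.map_mono hnorm).trans (Subgroup.le_normalizer_map _)
      have hKtop : Subgroup.normalizer (K : Set G) = ⊤ := hmaxM.2 _ (lt_of_le_of_ne hMK fun e' => hgM (by
        rw [← e'] at hgMK
        exact hNM.le (CfsgLib.LocalB.mem_normalizer_of_map_conj_eq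
          (Subgroup.eq_of_le_of_card_ge hgMK (CfsgLib.LocalB.card_map_conj M g).ge))))
      rcases (Subgroup.normalizer_eq_top_iff.1 hKtop).eq_bot_or_eq_top with e' | e'
      · exact hH1 ((Subgroup.map_eq_bot_iff_of_injective _ (MulAut.conj g).injective).1 e')
      · exact hmaxM.1 (top_le_iff.1 (e' ▸ hg))
    · exact hmaxM.1 (top_le_iff.1 (e ▸ hRH.trans hHM))
  have hcl : ∀ g : G, (H ⊔ H.map (MulAut.conj g).toMonoidHom) ⊓ M = H := by
    intro g
    refine le_antisymm ?_ (le_inf le_sup_left hHM)
    by_contra hcon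
    obtain ⟨u, ⟨huK, huM⟩, huH⟩ := SetLike.not_le_iff_exists.1 hcon
    have h1 : M ≤ H ⊔ H.map (MulAut.conj g).toMonoidHom := by
      have htop := (hmaxH H rfl).2 ((H ⊔ H.map (MulAut.conj g).toMonoidHom).subgroupOf M)
        (lt_of_le_of_ne (Subgroup.comap_mono le_sup_left) fun e =>
          huH ((Subgroup.mem_subgroupOf (H := H) (K := M) (h := ⟨u, huM⟩)).1
            (e.ge (Subgroup.mem_subgroupOf.2 huK))))
      exact Subgroup.subgroupOf_eq_top.1 htop
    rcases eq_or_lt_of_le h1 with e | e
    · have h2 := hin g (le_sup_right.trans e.ge)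
      rw [h2, sup_idem] at e
      exact hHne e.symm
    · exact hno g (hmaxM.2 _ e)
  have h := Cfsg.Agent.S3014.result H M hHM hcl (hmaxH H rfl) hmaxM
  rcases (Subgroup.normalClosure_normal (s := (H : Set G))).eq_bot_or_eq_top with e | e
  · exact hH1 (le_bot_iff.1 (e ▸ Subgroup.subset_normalClosure))
  · rw [e, top_inf_eq] at h
    exact hHne h.symm

end Cfsg.Agent.S3015
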