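import Cfsg.Statements.S3022
import Cfsg.Agent.PushUpB.OddAut
import Cfsg.Agent.LocalB.CTControl

set_option autoImplicit false
open Cfsg

namespace Cfsg.Agent.S3022

/-- Let G be a finite group all of whose non-abelian simple sections are known simple groups, such that a Sylow 2-subgroup of G lies in exactly one maximal subgroup of G and C_G(O₂(G)) ≤ O₂(G). Let S be a Sylow 2-subgroup of G and A a group of automorphisms of S of odd order. Then some nontrivial A-invariant subgroup of S is normal in G. -/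
theorem result {G : Type*} [Group G] [Finite G] (hK : Cfsg.IsKGroup G) (hirr : ∀ S : Sylow 2 G, ∃! M : Subgroup G, IsCoatom M ∧ (S : Subgroup G) ≤ M) (hchar : Subgroup.centralizer (Cfsg.pCore 2 G : Set G) ≤ Cfsg.pCore 2 G) (S : Sylow 2 G) (A : Subgroup (MulAut ↥(S : Subgroup G))) (hA : Odd (Nat.card A)) : ∃ U : Subgroup G, U ≠ ⊥ ∧ U.Normal ∧ U ≤ (S : Subgroup G) ∧ ∀ a ∈ A, ∀ x : ↥(S : Subgroup G), (x : G) ∈ U → ((a x : ↥(S : Subgroup G)) : G) ∈ U := by
  by_cases hne : (S : Subgroup G) = ⊥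
  · have h0 : Cfsg.pCore 2 G = ⊥ := le_bot_iff.1 (hne ▸ CfsgLib.Fitting.pCore_le_sylow S)
    obtain ⟨M, ⟨hM, -⟩, -⟩ := hirr S
    refine absurd (eq_top_iff.2 fun g _ => ?_) hM.1
    have h1 : g ∈ Cfsg.pCore 2 G := hchar (by
      rw [h0]
      exact Subgroup.mem_centralizer_iff.2 fun x hx => by
        rw [Subgroup.mem_bot.1 hx, one_mul, mul_one])
    rw [h0, Subgroup.mem_bot] at h1
    exact h1 ▸ one_mem M
  have hinv : ∀ C : Subgroup G, (C.subgroupOf (S : Subgroup G)).Characteristic →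
      ∀ a ∈ A, ∀ x : ↥(S : Subgroup G), (x : G) ∈ C → ((a x : ↥(S : Subgroup G)) : G) ∈ C :=
    fun C hC a _ x hx => Subgroup.mem_comap.1
      ((Subgroup.characteristic_iff_comap_eq.1 hC a).ge (Subgroup.mem_subgroupOf.2 hx))
  by_cases hn : (S : Subgroup G).Normal
  · exact ⟨_, hne, hn, le_rfl, hinv _ (by rw [Subgroup.subgroupOf_self]; infer_instance)⟩
  by_cases hz : (Cfsg.omegaOneCenter 2 (S : Subgroup G)).Normal
  · exact ⟨_, CfsgLib.CTheorem.omegaOneCenter_ne_bot S.2 hne, hz,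
      fun x hx => (CfsgLib.PushUpB.mem_omegaOneCenter hx).1,
      hinv _ (CfsgLib.CTheorem.omegaOneCenter_char _)⟩
  by_cases hc : ∃ C : Subgroup G, C ≤ Cfsg.baumannSubgroupOf 2 (S : Subgroup G) ∧ C ≠ ⊥ ∧
      (C.subgroupOf (Cfsg.baumannSubgroupOf 2 (S : Subgroup G))).Characteristic ∧ C.Normal
  · obtain ⟨C, hCB, hC1, hCc, hCn⟩ := hc
    exact ⟨C, hC1, hCn, hCB.trans inf_le_left,
      hinv _ (CfsgLib.CTheorem.characteristic_of_baumann hCB hCc)⟩
  obtain ⟨M, P, iP, iPf, π, W, iW, iWf, iA, e, T', 𝓔, D⟩ :=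
    CfsgLib.PushUpB.exists_pu (CfsgLib.Isolated.isPMinimal_of_one S hn (hirr S)) hchar S
      (fun C h1 h2 h3 h4 => hc ⟨C, h1, h2, h3, h4⟩) hz
  exact D.exists_invariant A hA

end Cfsg.Agent.S3022
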