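import Cfsg.Statements.S3023
import Cfsg.Agent.KGroup.CharP
import Cfsg.Agent.LocalB.CharP
import Cfsg.Agent.S0542
import Cfsg.Agent.Solvable.PGroupBasic

set_option autoImplicit false
set_option linter.unusedVariables false
open Cfsg Subgroup

namespace Cfsg.Agent.S3023

/-- Let p be a prime, G a finite group of parabolic characteristic p (every p-local subgroup containing a Sylow p-subgroup of G has characteristic p), S a Sylow p-subgroup of G and G₁ a subnormal subgroup of G. If the centre of S ∩ G₁ is nontrivial and contained in the centre of S, then G₁ has parabolic characteristic p. -/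
theorem result {G : Type*} [Group G] [Finite G] {p : ℕ} [Fact p.Prime] (hG : Cfsg.IsOfParabolicCharacteristic p G) (S : Sylow p G) (G₁ : Subgroup G) (hsn : G₁.IsSubnormal) (hne : ((S : Subgroup G) ⊓ G₁) ⊓ Subgroup.centralizer (((S : Subgroup G) ⊓ G₁ : Subgroup G) : Set G) ≠ ⊥) (hle : ((S : Subgroup G) ⊓ G₁) ⊓ Subgroup.centralizer (((S : Subgroup G) ⊓ G₁ : Subgroup G) : Set G) ≤ (S : Subgroup G) ⊓ Subgroup.centralizer ((S : Subgroup G) : Set G)) : Cfsg.IsOfParabolicCharacteristic p ↥G₁ := by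
  intro R hR hR1 hpar
  obtain ⟨T, hT⟩ := hpar
  obtain ⟨Q₀, hQ₀⟩ := Cfsg.Agent.S0542.result p G₁ hsn S
  obtain ⟨g, hg⟩ := MulAction.exists_smul_eq G₁ Q₀ T
  set S' : Sylow p G := (g : G) • S with hS'
  have hT' : (T : Subgroup G₁).map G₁.subtype = (S' : Subgroup G) ⊓ G₁ := by
    rw [← hg]
    ext u
    constructor
    · rintro ⟨_, ⟨v, hv, rfl⟩, rfl⟩
      refine ⟨⟨v, ?_, rfl⟩, SetLike.coe_mem _⟩
      rw [hQ₀] at hv
      exact hv
    · rintro ⟨⟨v, hv, rfl⟩, hu⟩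
      have hvG : v ∈ G₁ := by
        have := mul_mem (mul_mem (G₁.inv_mem g.2) hu) g.2
        simpa [mul_assoc] using this
      exact ⟨_, ⟨⟨v, hvG⟩, by rw [hQ₀]; exact hv, rfl⟩, rfl⟩
  set R₁ : Subgroup G := R.map G₁.subtype with hR₁
  have hR₁p : IsPGroup p R₁ := hR.map _
  have hR₁G : R₁ ≤ G₁ := map_subtype_le _
  set P : Subgroup G := (S' : Subgroup G) ⊓ G₁ with hP
  have hPn : P ≤ normalizer (R₁ : Set G) := by
    rw [← hT']
    exact (map_mono hT).trans (le_normalizer_map _)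
  have hRS : R₁ ≤ P := by
    rw [← hT']
    exact map_mono (CfsgLib.CharP.le_sylow_of_le_normalizer T hR hT)
  have hR₁1 : R₁ ≠ ⊥ := fun e => hR1 ((map_eq_bot_iff_of_injective R G₁.subtype_injective).1 e)
  -- a central subgroup of `R₁`
  set Z0 : Subgroup G := R₁ ⊓ centralizer (P : Set G) with hZ0
  have hZ01 : Z0 ≠ ⊥ := by
    haveI : Group.IsNilpotent P := (S'.isPGroup'.to_le inf_le_left).isNilpotent
    haveI : (R₁.subgroupOf P).Normal := (normal_subgroupOf_iff_le_normalizer hRS).2 hPn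
    intro e
    refine CfsgLib.PGroupBasic.inf_center_ne_bot (R₁.subgroupOf P)
      (fun h => hR₁1 (by rw [← map_subgroupOf_eq_of_le hRS, h, Subgroup.map_bot])) ?_
    rw [eq_bot_iff]
    rintro u ⟨hu, huc⟩
    refine Subtype.ext ((mem_bot).1 (e ▸ ⟨hu, mem_centralizer_iff.2 fun v hv => ?_⟩))
    exact congrArg Subtype.val (mem_center_iff.1 huc ⟨v, hv⟩)
  have hZ0S : (S' : Subgroup G) ≤ centralizer (Z0 : Set G) := by
    intro s hs
    refine mem_centralizer_iff.2 fun z hz => ?_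
    obtain ⟨s₀, hs₀, rfl⟩ := hs
    have hz0 : (g : G)⁻¹ * z * g ∈ (S : Subgroup G) ⊓ G₁ := by
      have hzP := hRS hz.1
      obtain ⟨v, hv, hve⟩ := hzP.1
      refine ⟨?_, mul_mem (mul_mem (G₁.inv_mem g.2) (hR₁G hz.1)) g.2⟩
      rw [← hve]; simpa [mul_assoc] using hv
    have hz1 := hle ⟨hz0, mem_centralizer_iff.2 fun v hv => by
      have hv' : (g : G) * v * (g : G)⁻¹ ∈ P :=
        ⟨⟨v, hv.1, rfl⟩, mul_mem (mul_mem g.2 hv.2) (G₁.inv_mem g.2)⟩
      have h1 := mem_centralizer_iff.1 hz.2 _ hv'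
      calc v * ((g : G)⁻¹ * z * g) = (g : G)⁻¹ * ((g : G) * v * (g : G)⁻¹ * z) * g := by group
        _ = (g : G)⁻¹ * (z * ((g : G) * v * (g : G)⁻¹)) * g := by rw [h1]
        _ = (g : G)⁻¹ * z * g * v := by group⟩
    have h2 := mem_centralizer_iff.1 hz1.2 s₀ hs₀
    show z * ((g : G) * s₀ * (g : G)⁻¹) = (g : G) * s₀ * (g : G)⁻¹ * z
    calc z * ((g : G) * s₀ * (g : G)⁻¹) = (g : G) * ((g : G)⁻¹ * z * g * s₀) * (g : G)⁻¹ := by group
      _ = (g : G) * (s₀ * ((g : G)⁻¹ * z * g)) * (g : G)⁻¹ := by rw [h2]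
      _ = (g : G) * s₀ * (g : G)⁻¹ * z := by group
  set M := normalizer (Z0 : Set G) with hM
  have hMc : CfsgLib.CharP.HasCharP p M :=
    hG Z0 (hR₁p.to_le inf_le_left) hZ01 ⟨S', hZ0S.trans (centralizer_le_normalizer _)⟩
  set M1 := G₁ ⊓ M with hM1
  have hM1c : CfsgLib.CharP.HasCharP p M1 := by
    have h1 := CfsgLib.CharP.hasCharP_of_isSubnormal (hsn.subgroupOf (K := M)) hMc
    refine h1.of_mulEquiv ?_
    rw [← inf_subgroupOf_right G₁ M]
    exact subgroupOfEquivOfLe inf_le_right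
  set N1 : Subgroup G := (normalizer (R : Set G₁)).map G₁.subtype with hN1
  have hN1G : N1 ≤ G₁ := map_subtype_le _
  have hN1R : N1 ≤ normalizer (R₁ : Set G) := le_normalizer_map _
  have hN1' : G₁ ⊓ normalizer (R₁ : Set G) ≤ N1 := by
    intro u hu
    refine ⟨⟨u, hu.1⟩, mem_normalizer_iff.2 fun r => ?_, rfl⟩
    have h1 := mem_normalizer_iff.1 hu.2 (r : G)
    constructor
    · intro hr
      obtain ⟨v, hv, hve⟩ := h1.1 ⟨r, hr, rfl⟩
      have e : v = (⟨u, hu.1⟩ : G₁) * r * ⟨u, hu.1⟩⁻¹ := Subtype.ext hve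
      exact e ▸ hv
    · intro hr
      obtain ⟨v, hv, hve⟩ := h1.2 ⟨_, hr, rfl⟩
      have e : v = r := Subtype.ext hve
      exact e ▸ hv
  suffices h : CfsgLib.CharP.HasCharP p N1 by
    exact h.of_mulEquiv ((normalizer (R : Set G₁)).equivMapOfInjective _ G₁.subtype_injective).symm
  refine CfsgLib.CharP.hasCharP_subgroup_of_forall fun w hw hwN hwc => ?_
  set Q := CfsgLib.CharP.opIn p N1 with hQ
  have hR₁N : R₁ ≤ N1 := map_mono le_normalizer
  have hR₁Q : R₁ ≤ Q := CfsgLib.CharP.le_opIn hR₁N hR₁p hN1R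
  set C1 := N1 ⊓ centralizer (Q : Set G) with hC1
  have hC1n : N1 ≤ normalizer (C1 : Set G) :=
    (le_inf le_normalizer ((CfsgLib.CharP.le_normalizer_opIn N1).trans
      (CfsgLib.LocalB.normalizer_le_normalizer_centralizer Q))).trans inf_normalizer_le_normalizer_inf
  have hC1R : C1 ≤ centralizer (R₁ : Set G) := inf_le_right.trans (centralizer_le hR₁Q)
  have hC1M : C1 ≤ M1 := le_inf (inf_le_left.trans hN1G)
    ((hC1R.trans (centralizer_le inf_le_left)).trans (centralizer_le_normalizer _))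
  set O := CfsgLib.CharP.opIn p M1 with hO
  have hR₁O : R₁ ≤ normalizer (O : Set G) := by
    refine le_trans (le_inf hR₁G ?_) (CfsgLib.CharP.le_normalizer_opIn M1)
    refine le_trans ?_ (centralizer_le_normalizer _)
    intro r hr
    exact mem_centralizer_iff.2 fun z hz => (mem_centralizer_iff.1 hz.2 r (hRS hr)).symm
  refine hM1c.eq_one_subgroup hw (hC1M ⟨hwN, hwc⟩) (mem_centralizer_iff.2 fun r hr => ?_)
  have hOp : IsPGroup p O := CfsgLib.CharP.isPGroup_opIn M1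
  have hwO : w ∈ normalizer (O : Set G) := CfsgLib.CharP.le_normalizer_opIn M1 (hC1M ⟨hwN, hwc⟩)
  have hwR : ∀ π ∈ R₁, Commute π w := fun π hπ => mem_centralizer_iff.1 (hC1R ⟨hwN, hwc⟩) π hπ
  refine (CfsgLib.LocalB.commute_of_pxq hR₁p hOp hR₁O hw hwO hwR (fun r hr hrc => ?_) r hr).eq.symm
  have hrN : r ∈ N1 := hN1' ⟨(CfsgLib.CharP.opIn_le M1 hr).1,
    centralizer_le_normalizer _ (mem_centralizer_iff.2 hrc)⟩
  have hc1 : w * r * w⁻¹ * r⁻¹ ∈ C1 ⊓ O := by
    refine ⟨?_, mul_mem ((mem_normalizer_iff.1 hwO r).1 hr) (O.inv_mem hr)⟩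
    have := C1.mul_mem (⟨hwN, hwc⟩ : w ∈ C1)
      ((mem_normalizer_iff.1 (hC1n hrN) w⁻¹).1 (C1.inv_mem ⟨hwN, hwc⟩))
    simpa [mul_assoc] using this
  refine CfsgLib.LocalB.commute_of_stab hOp hw hc1.2 ?_
  have hsub : C1 ⊓ O ≤ Q :=
    (CfsgLib.CharP.le_opIn inf_le_left (hOp.to_le inf_le_right)
      ((le_inf le_normalizer (hC1M.trans (CfsgLib.CharP.le_normalizer_opIn M1))).trans
        inf_normalizer_le_normalizer_inf)).trans
      (CfsgLib.CharP.opIn_mono inf_le_left hC1n)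
  exact (mem_centralizer_iff.1 hwc _ (hsub hc1)).symm

end Cfsg.Agent.S3023
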