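import Cfsg.Statements.S3027
import Cfsg.Agent.Solvable.CoprimeAct

set_option autoImplicit false
set_option linter.unusedVariables false
open Cfsg
open scoped Pointwise

namespace Cfsg.Agent.S3027

/-- Let G be a finite group and D a normal subgroup of G such that G/D is perfect (that is, G = G′D). Then among the subnormal subgroups B of G with BD = G there is a least one, and it is normal in G. -/
theorem result {G : Type*} [Group G] [Finite G] (D : Subgroup G) [D.Normal] (hperf : ⁅(⊤ : Subgroup G), (⊤ : Subgroup G)⁆ ⊔ D = ⊤) :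
    ∃ B : Subgroup G, B.Normal ∧ B ⊔ D = ⊤ ∧ ∀ B' : Subgroup G, B'.IsSubnormal → B' ⊔ D = ⊤ → B ≤ B' := by
  set π := QuotientGroup.mk' D
  have hsup : ∀ X : Subgroup G, X ⊔ D = ⊤ ↔ X.map π = ⊤ := by
    intro X
    constructor
    · intro h
      have := congrArg (Subgroup.map π) h
      rwa [Subgroup.map_sup, QuotientGroup.map_mk'_self, sup_bot_eq,
        Subgroup.map_top_of_surjective π (QuotientGroup.mk'_surjective D)] at this
    · intro h
      have := congrArg (Subgroup.comap π) h
      rwa [Subgroup.comap_map_eq, QuotientGroup.ker_mk', Subgroup.comap_top] at this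
  have hperf' : ⁅(⊤ : Subgroup (G ⧸ D)), (⊤ : Subgroup (G ⧸ D))⁆ = ⊤ := by
    have := (hsup _).1 hperf
    rwa [Subgroup.map_commutator, Subgroup.map_top_of_surjective π (QuotientGroup.mk'_surjective D)]
      at this
  have hinf : ∀ C X Y : Subgroup G, X ≤ C → Y ≤ C → C ≤ Subgroup.normalizer (X : Set G) →
      C ≤ Subgroup.normalizer (Y : Set G) → X.map π = ⊤ → Y.map π = ⊤ → (X ⊓ Y).map π = ⊤ := by
    intro C X Y hX hY hnX hnY h1 h2
    have hle : ⁅X, Y⁆ ≤ X ⊓ Y := by
      refine Subgroup.commutator_le.2 fun x hx y hy => ?_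
      rw [commutatorElement_def]
      refine ⟨?_, mul_mem ((Subgroup.mem_normalizer_iff.1 (hnY (hX hx)) y).1 hy) (Y.inv_mem hy)⟩
      have := mul_mem hx ((Subgroup.mem_normalizer_iff.1 (hnX (hY hy)) x⁻¹).1 (X.inv_mem hx))
      simpa [mul_assoc] using this
    refine top_le_iff.1 (le_trans ?_ (Subgroup.map_mono hle))
    rw [Subgroup.map_commutator, h1, h2, hperf']
  have hsub : ∀ H : Subgroup G, H.IsSubnormal → H.map π = ⊤ →
      ∃ C : Subgroup G, C.Normal ∧ C ≤ H ∧ C.map π = ⊤ := by
    intro H hH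
    induction hH with
    | top => exact fun h => ⟨⊤, inferInstance, le_rfl, h⟩
    | step H K hle _ hn ih =>
      intro hH
      obtain ⟨C, hC, hCK, hCπ⟩ := ih (top_le_iff.1 (hH ▸ Subgroup.map_mono hle))
      have hnH : K ≤ Subgroup.normalizer (H : Set G) :=
        (Subgroup.normal_subgroupOf_iff_le_normalizer hle).1 hn
      have hnC : ∀ L : Subgroup G, L ≤ Subgroup.normalizer (C : Set G) := fun L => by
        rw [Subgroup.normalizer_eq_top]; exact le_top
      set K' := H ⊓ C
      have hK'π : K'.map π = ⊤ := hinf K H C hle hCK hnH (hnC K) hH hCπ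
      have hgood : ∀ g : G, MulAut.conj g • K' ≤ C ∧
          C ≤ Subgroup.normalizer ((MulAut.conj g • K' : Subgroup G) : Set G) ∧
          (MulAut.conj g • K').map π = ⊤ := by
        intro g
        have hgC : MulAut.conj g • C = C :=
          CfsgLib.SZ.conj_smul_eq_iff_mem_normalizer.2 (hnC ⊤ trivial)
        refine ⟨(Subgroup.pointwise_smul_le_pointwise_smul_iff.2 inf_le_right).trans hgC.le, ?_, ?_⟩
        · intro c hc
          apply CfsgLib.SZ.conj_smul_eq_iff_mem_normalizer.1
          have hc' : g⁻¹ * c * g ∈ C := by simpa using hC.conj_mem c hc g⁻¹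
          have hcK : MulAut.conj (g⁻¹ * c * g) • K' = K' := by
            apply CfsgLib.SZ.conj_smul_eq_iff_mem_normalizer.2
            exact Subgroup.inf_normalizer_le_normalizer_inf ⟨hnH (hCK hc'), hnC ⊤ trivial⟩
          conv_rhs => rw [← hcK]
          rw [← CfsgLib.SZ.conj_smul_mul, ← CfsgLib.SZ.conj_smul_mul, show c * g = g * (g⁻¹ * c * g) by group]
        · rw [CfsgLib.SZ.conj_smul_eq_map, Subgroup.map_map,
            show π.comp (MulAut.conj g).toMonoidHom = (MulAut.conj (π g)).toMonoidHom.comp π from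
              MonoidHom.ext fun x => by simp [π],
            ← Subgroup.map_map, hK'π,
            Subgroup.map_top_of_surjective _ (MulAut.conj (π g)).surjective]
      classical
      haveI := Fintype.ofFinite G
      set W := (Finset.univ : Finset G).inf' Finset.univ_nonempty (fun g => MulAut.conj g • K')
      have hW : W ≤ C ∧ C ≤ Subgroup.normalizer (W : Set G) ∧ W.map π = ⊤ := by
        refine Finset.inf'_induction (p := fun X : Subgroup G =>
          X ≤ C ∧ C ≤ Subgroup.normalizer (X : Set G) ∧ X.map π = ⊤) _ _ ?_ fun g _ => hgood g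
        rintro X ⟨hX, hnX, hXπ⟩ Y ⟨hY, hnY, hYπ⟩
        exact ⟨inf_le_left.trans hX, (le_inf hnX hnY).trans
          Subgroup.inf_normalizer_le_normalizer_inf, hinf C X Y hX hY hnX hnY hXπ hYπ⟩
      refine ⟨K'.normalCore, inferInstance, (Subgroup.normalCore_le K').trans inf_le_left,
        top_le_iff.1 (hW.2.2 ▸ Subgroup.map_mono ?_)⟩
      intro a ha b
      have h := (Finset.inf'_le (fun g => MulAut.conj g • K') (Finset.mem_univ b⁻¹) : W ≤ _) ha
      rw [CfsgLib.SZ.mem_conj_smul, inv_inv] at h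
      exact h
  classical
  haveI : Fintype (Subgroup G) := Fintype.ofFinite _
  let S : Finset (Subgroup G) := Finset.univ.filter fun X => X.Normal ∧ X.map π = ⊤
  have hS : S.Nonempty :=
    ⟨⊤, by simp [S, Subgroup.map_top_of_surjective π (QuotientGroup.mk'_surjective D),
      (inferInstance : (⊤ : Subgroup G).Normal)]⟩
  have hB : (S.inf' hS id).Normal ∧ (S.inf' hS id).map π = ⊤ := by
    refine Finset.inf'_induction (p := fun X : Subgroup G => X.Normal ∧ X.map π = ⊤) _ _ ?_
      fun X hX => (Finset.mem_filter.1 hX).2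
    rintro X ⟨hX, hXπ⟩ Y ⟨hY, hYπ⟩
    haveI := hX; haveI := hY
    exact ⟨inferInstance, hinf ⊤ X Y le_top le_top (by rw [Subgroup.normalizer_eq_top])
      (by rw [Subgroup.normalizer_eq_top]) hXπ hYπ⟩
  refine ⟨_, hB.1, (hsup _).2 hB.2, fun B' hB' hB'π => ?_⟩
  obtain ⟨C, hC, hCB, hCπ⟩ := hsub B' hB' ((hsup _).1 hB'π)
  exact (Finset.inf'_le id (Finset.mem_filter.2 ⟨Finset.mem_univ C, hC, hCπ⟩)).trans hCB

end Cfsg.Agent.S3027
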