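import Cfsg.Statements.S3031
import Cfsg.Agent.LocalB.HSubgroup

set_option autoImplicit false
set_option linter.unusedVariables false
open Cfsg
open Pointwise

namespace Cfsg.Agent.S3031

/-- Let G be a finite group, p the smallest prime dividing |G| and P a Sylow p-subgroup. Suppose that P is cyclic, or that P has a subgroup D with 1 < |D| < |P| such that every subgroup E of P of order |D|, and also every subgroup E of P of order 4 when |D| = 2, satisfies g E g⁻¹ ∩ N_G(E) ≤ E for all g ∈ G (E is strongly closed in its normalizer with respect to G). Then G has a normal p-complement. -/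
theorem result {G : Type*} [Group G] [Finite G] {p : ℕ} [Fact p.Prime] (hdiv : p ∣ Nat.card G)
    (hmin : ∀ q : ℕ, q.Prime → q ∣ Nat.card G → p ≤ q) (P : Sylow p G)
    (h : IsCyclic ↥(P : Subgroup G) ∨ ∃ D : Subgroup G, D ≤ (P : Subgroup G) ∧ 1 < Nat.card D ∧ Nat.card D < Nat.card (P : Subgroup G) ∧
      ∀ E : Subgroup G, E ≤ (P : Subgroup G) → (Nat.card E = Nat.card D ∨ (Nat.card D = 2 ∧ Nat.card E = 4)) →
        ∀ g : G, E.map (MulAut.conj g).toMonoidHom ⊓ Subgroup.normalizer (E : Set G) ≤ E) :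
    Cfsg.HasNormalPComplement p G := by
  rcases h with hc | ⟨D, hDP, h1, h2, hH⟩
  · exact CfsgLib.LocalB.HSub.hasNormalPComplement_of_cyclic hmin P hc
  obtain ⟨j, hj⟩ := IsPGroup.iff_card.1 (P.2.to_le hDP)
  have hj0 : 0 < j := by
    rcases Nat.eq_zero_or_pos j with rfl | h
    · rw [hj, pow_zero] at h1
      exact absurd h1 (lt_irrefl 1)
    · exact h
  refine CfsgLib.LocalB.HSub.hasNormalPComplement (d := Nat.card D) hmin P ⟨j, hj0, hj⟩ h2 ?_
  intro E hE hEo
  obtain ⟨Q, hQ⟩ := hE.exists_le_sylow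
  obtain ⟨c, hc⟩ := MulAction.exists_smul_eq G Q P
  set E' := E.map (MulAut.conj c).toMonoidHom
  have hE' : E' ≤ (P : Subgroup G) := by
    rw [← hc, Sylow.coe_subgroup_smul]
    rintro _ ⟨e, he, rfl⟩
    exact Subgroup.smul_mem_pointwise_smul e (MulAut.conj c) (Q : Subgroup G) (hQ he)
  have hcard : Nat.card E' = Nat.card E :=
    Subgroup.card_map_of_injective (f := (MulAut.conj c).toMonoidHom) (MulAut.conj c).injective
  have hgood : CfsgLib.LocalB.HSub.IsH E' := hH E' hE' (by rw [hcard]; exact hEo)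
  have := hgood.map_conj c⁻¹
  convert this
  ext y
  simp [E', Subgroup.mem_map, mul_assoc]

end Cfsg.Agent.S3031
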