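import Cfsg.Statements.S3033
import Cfsg.Agent.LocalB.PairSupersolvable

set_option autoImplicit false
set_option linter.unusedVariables false
open Cfsg

namespace Cfsg.Agent.S3033

/-- Let G be a finite group such that for every pair of distinct primes p and q, every p-element x and every q-element g of G, the order of the subgroup generated by x and g x g⁻¹ is not divisible by q². Then G is supersolvable. -/
theorem result {G : Type*} [Group G] [Finite G]
    (h : ∀ (p q : ℕ), p.Prime → q.Prime → p ≠ q → ∀ (x g : G), (∃ a : ℕ, orderOf x = p ^ a) → (∃ b : ℕ, orderOf g = q ^ b) →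
      ¬ q ^ 2 ∣ Nat.card ↥(Subgroup.zpowers x ⊔ Subgroup.zpowers (g * x * g⁻¹))) :
    Cfsg.IsSupersolvable G := by
  exact CfsgLib.PairSupersolvable.supersolvable_of_hyp _ G rfl h

end Cfsg.Agent.S3033
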