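import Cfsg.Statements.S3037
import Cfsg.Agent.LocalB.ChermakDelgado

set_option autoImplicit false
set_option linter.unusedVariables false
open Cfsg
open Pointwise

namespace Cfsg.Agent.S3037

/-- Let V and G be subgroups of a finite group with V an elementary abelian p-group (p prime) on which G acts faithfully and irreducibly by conjugation: G normalizes V, G ∩ C(V) = 1, and the only subgroups of V normalized by G are 1 and V. If for some nontrivial subgroup A of G and some real α > 0 one has |V| ≤ |A|^α · |C_V(A)|, then |V| ≤ |G|^α. -/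
theorem result {X : Type*} [Group X] [Finite X] {p : ℕ} [Fact p.Prime] (V G : Subgroup X) (hV : Cfsg.IsElementaryAbelian p V)
    (hGV : G ≤ Subgroup.normalizer (V : Set X)) (hfaith : G ⊓ Subgroup.centralizer (V : Set X) = ⊥)
    (hirr : ∀ W : Subgroup X, W ≤ V → G ≤ Subgroup.normalizer (W : Set X) → W = ⊥ ∨ W = V)
    (A : Subgroup X) (hA : A ≤ G) (hA1 : A ≠ ⊥) (α : ℝ) (hα : 0 < α)
    (hbig : (Nat.card V : ℝ) ≤ (Nat.card A : ℝ) ^ α * (Nat.card ↥(V ⊓ Subgroup.centralizer (A : Set X)) : ℝ)) :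
    (Nat.card V : ℝ) ≤ (Nat.card G : ℝ) ^ α := by
  classical
  obtain ⟨hVc, hVp⟩ := hV
  let W : Subgroup X → Subgroup X := fun B => V ⊓ Subgroup.centralizer (B : Set X)
  let f : Subgroup X → ℝ := fun B => (Nat.card B : ℝ) ^ α * (Nat.card (W B) : ℝ)
  have hpos : ∀ B, 0 < f B := fun B =>
    mul_pos (Real.rpow_pos_of_pos (Nat.cast_pos.2 Nat.card_pos) _) (Nat.cast_pos.2 Nat.card_pos)
  obtain ⟨M0, hM0G, hM0⟩ := Set.exists_max_image {B : Subgroup X | B ≤ G} f (Set.toFinite _) ⟨⊥, (bot_le : ⊥ ≤ G)⟩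
  -- the maximisers are closed under joins
  have hclosed : ∀ B B' : Subgroup X, B ≤ G → B' ≤ G → f M0 ≤ f B → f M0 ≤ f B' → f M0 ≤ f (B ⊔ B') := by
    intro B B' hB hB' hf hf'
    have e1 := CfsgLib.LocalB.CD.ncard_mul B B'
    have e2 := CfsgLib.LocalB.CD.ncard_mul (W B) (W B')
    have hWs : W (B ⊔ B') = W B ⊓ W B' := by
      show V ⊓ CfsgLib.LocalB.CD.C (B ⊔ B') = _
      rw [CfsgLib.LocalB.CD.C_sup]
      exact inf_inf_distrib_left _ _ _
    have hWi : W B ⊔ W B' ≤ W (B ⊓ B') :=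
      sup_le (inf_le_inf_left _ (Subgroup.centralizer_le inf_le_left))
        (inf_le_inf_left _ (Subgroup.centralizer_le inf_le_right))
    have ha : ((B : Set X) * (B' : Set X)).ncard ≤ Nat.card (B ⊔ B' : Subgroup X) :=
      CfsgLib.LocalB.CD.ncard_mul_le B B'
    have hb : ((W B : Set X) * (W B' : Set X)).ncard ≤ Nat.card (W (B ⊓ B')) :=
      (CfsgLib.LocalB.CD.ncard_mul_le _ _).trans (Subgroup.card_le_of_le hWi)
    rw [← hWs] at e2
    have h1 : ((Nat.card B : ℝ) ^ α) * ((Nat.card B' : ℝ) ^ α) ≤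
        ((Nat.card (B ⊔ B' : Subgroup X) : ℝ) ^ α) * ((Nat.card (B ⊓ B' : Subgroup X) : ℝ) ^ α) := by
      rw [← Real.mul_rpow (Nat.cast_nonneg _) (Nat.cast_nonneg _),
        ← Real.mul_rpow (Nat.cast_nonneg _) (Nat.cast_nonneg _), ← Nat.cast_mul, ← Nat.cast_mul, ← e1]
      refine Real.rpow_le_rpow (Nat.cast_nonneg _) (Nat.cast_le.2 ?_) hα.le
      exact Nat.mul_le_mul_right _ ha
    have h2 : (Nat.card (W B) : ℝ) * (Nat.card (W B') : ℝ) ≤
        (Nat.card (W (B ⊔ B')) : ℝ) * (Nat.card (W (B ⊓ B')) : ℝ) := by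
      rw [← Nat.cast_mul, ← Nat.cast_mul, ← e2, mul_comm (Nat.card (W (B ⊔ B')))]
      exact Nat.cast_le.2 (Nat.mul_le_mul_right _ hb)
    have h3 : f B * f B' ≤ f (B ⊔ B') * f (B ⊓ B') := by
      simp only [f]
      have h4 := mul_le_mul h1 h2 (mul_nonneg (Nat.cast_nonneg _) (Nat.cast_nonneg _))
        (mul_nonneg (Real.rpow_nonneg (Nat.cast_nonneg _) _) (Real.rpow_nonneg (Nat.cast_nonneg _) _))
      linarith [h4]
    have h5 : f (B ⊓ B') ≤ f M0 := hM0 _ (inf_le_left.trans hB : B ⊓ B' ≤ G)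
    by_contra hlt
    rw [not_le] at hlt
    nlinarith [hpos (B ⊔ B'), hpos (B ⊓ B'), hpos M0]
  obtain ⟨M, ⟨hMG, hMf⟩, hMmax⟩ := Set.Finite.exists_maximal
    (s := {B : Subgroup X | B ≤ G ∧ f M0 ≤ f B}) (Set.toFinite _) ⟨M0, hM0G, le_rfl⟩
  have hconj : ∀ g ∈ G, ∀ B : Subgroup X, W (B.map (MulAut.conj g).toMonoidHom) = (W B).map (MulAut.conj g).toMonoidHom := by
    intro g hg B
    ext v
    rw [Subgroup.mem_map_equiv, MulAut.conj_symm_apply]
    simp only [W, Subgroup.mem_inf, Subgroup.mem_centralizer_iff]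
    refine and_congr ?_ ⟨fun h y hy => ?_, ?_⟩
    · have := Subgroup.mem_normalizer_iff.1 (inv_mem (hGV hg)) v
      simpa using this
    · have h3 := h _ ⟨y, hy, rfl⟩
      simp only [MulEquiv.coe_toMonoidHom, MulAut.conj_apply] at h3
      have h4 : g⁻¹ * (g * y * g⁻¹ * v) * g = g⁻¹ * (v * (g * y * g⁻¹)) * g := by rw [h3]
      simpa [mul_assoc] using h4
    · rintro h _ ⟨y, hy, rfl⟩
      have h3 := h y hy
      have h4 : g * (y * (g⁻¹ * v * g)) * g⁻¹ = g * ((g⁻¹ * v * g) * y) * g⁻¹ := by rw [h3]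
      simpa [mul_assoc] using h4
  have hcard : ∀ (g : X) (B : Subgroup X), Nat.card (B.map (MulAut.conj g).toMonoidHom) = Nat.card B :=
    fun g B => Subgroup.card_map_of_injective (f := (MulAut.conj g).toMonoidHom) (MulAut.conj g).injective
  have hnorm : G ≤ Subgroup.normalizer (M : Set X) := by
    intro g hg
    refine Subgroup.mem_normalizer_iff_map_conj_eq.2 ?_
    have hMg : M.map (MulAut.conj g).toMonoidHom ≤ G := by
      rintro _ ⟨y, hy, rfl⟩
      exact mul_mem (mul_mem hg (hMG hy)) (inv_mem hg)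
    have hfe : f M0 ≤ f (M.map (MulAut.conj g).toMonoidHom) := by
      simp only [f, hconj g hg, hcard]
      exact hMf
    exact Subgroup.eq_of_le_of_card_ge
      (le_sup_right.trans (hMmax (y := M ⊔ M.map (MulAut.conj g).toMonoidHom)
        ⟨sup_le hMG hMg, hclosed M _ hMG hMg hMf hfe⟩ le_sup_left)) (hcard g M).ge
  have hWn : G ≤ Subgroup.normalizer (W M : Set X) := by
    intro g hg
    refine Subgroup.mem_normalizer_iff_map_conj_eq.2 ?_
    exact (hconj g hg M).symm.trans (congrArg W (Subgroup.mem_normalizer_iff_map_conj_eq.1 (hnorm hg)))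
  have hAf : (Nat.card V : ℝ) ≤ f M0 := hbig.trans (hM0 A hA)
  have hM1 : M ≠ ⊥ := by
    intro e
    have hfV : f M = (Nat.card V : ℝ) := by
      simp only [f, W, e, Subgroup.card_bot, Nat.cast_one, Real.one_rpow, one_mul]
      have hWb : V ⊓ Subgroup.centralizer ((⊥ : Subgroup X) : Set X) = V := inf_eq_left.2 (fun v _ =>
        Subgroup.mem_centralizer_iff.2 fun y hy => by simp [Subgroup.mem_bot.1 hy])
      rw [hWb]
    have := hMmax (y := A) ⟨hA, le_trans (hMf.trans_eq hfV) hbig⟩ (e ▸ bot_le)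
    exact hA1 (le_bot_iff.1 (e ▸ this))
  have hW : W M = ⊥ := by
    refine (hirr (W M) inf_le_left hWn).resolve_right fun e => hM1 ?_
    rw [eq_bot_iff, ← hfaith]
    refine le_inf hMG ?_
    rw [← Subgroup.le_centralizer_iff]
    exact e.ge.trans inf_le_right
  have : f M = (Nat.card M : ℝ) ^ α := by simp [f, hW]
  calc (Nat.card V : ℝ) ≤ f M0 := hAf
    _ ≤ f M := hMf
    _ = (Nat.card M : ℝ) ^ α := this
    _ ≤ (Nat.card G : ℝ) ^ α :=
      Real.rpow_le_rpow (Nat.cast_nonneg _) (Nat.cast_le.2 (Subgroup.card_le_of_le hMG)) hα.le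

end Cfsg.Agent.S3037
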