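import Cfsg.Statements.S3038
import Cfsg.Agent.IsolRankTwo.Main

set_option autoImplicit false
open Cfsg

namespace Cfsg.Agent.S3038

/-- Let G be a finite group and p an odd prime with O_{p'}(G) = 1. Suppose that G has p-rank at most 2 and that some element x of order p is isolated in G and not central. Then F*(G) is a non-abelian simple group, and for every Sylow p-subgroup P of F*(G), either no conjugate of x lies in P and P is cyclic, or some conjugate of x lies in P and either P is extraspecial of order p³ and exponent p, or p = 3 and P has order 3^{2k+1} for some k ≥ 2 and is of maximal class (nilpotency class 2k). Since O_{p'}(G) = 1, such an x is not central modulo O_{p'}(G): the hypotheses describe a counterexample to the Z*_p statement in p-rank at most 2, and the conclusion records the structure it would have. -/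
theorem result {G : Type*} [Group G] [Finite G] {p : ℕ} [Fact p.Prime] (hp : p ≠ 2) (hcore : Cfsg.pPrimeCore p G = ⊥)
    (hrank : Cfsg.PRankLE p 2 G) (x : G) (hx : orderOf x = p) (hiso : Cfsg.IsIsolated x) (hnc : x ∉ Subgroup.center G) :
    IsSimpleGroup ↥(Cfsg.generalizedFittingSubgroup G) ∧ ¬ IsMulCommutative ↥(Cfsg.generalizedFittingSubgroup G) ∧
    ∀ P : Sylow p ↥(Cfsg.generalizedFittingSubgroup G),
      ((∀ g : G, g * x * g⁻¹ ∉ ((P : Subgroup ↥(Cfsg.generalizedFittingSubgroup G)).map (Cfsg.generalizedFittingSubgroup G).subtype)) ∧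
          IsCyclic ↥(P : Subgroup ↥(Cfsg.generalizedFittingSubgroup G))) ∨
      ((∃ g : G, g * x * g⁻¹ ∈ ((P : Subgroup ↥(Cfsg.generalizedFittingSubgroup G)).map (Cfsg.generalizedFittingSubgroup G).subtype)) ∧
        ((Cfsg.IsExtraspecial p ↥(P : Subgroup ↥(Cfsg.generalizedFittingSubgroup G)) ∧
            Nat.card (P : Subgroup ↥(Cfsg.generalizedFittingSubgroup G)) = p ^ 3 ∧
            ∀ y ∈ (P : Subgroup ↥(Cfsg.generalizedFittingSubgroup G)), y ^ p = 1) ∨
         (p = 3 ∧ ∃ k : ℕ, 2 ≤ k ∧ Nat.card (P : Subgroup ↥(Cfsg.generalizedFittingSubgroup G)) = 3 ^ (2 * k + 1) ∧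
            ∃ _ : Group.IsNilpotent ↥(P : Subgroup ↥(Cfsg.generalizedFittingSubgroup G)),
              Group.nilpotencyClass ↥(P : Subgroup ↥(Cfsg.generalizedFittingSubgroup G)) = 2 * k))) := by
  obtain ⟨hsimp, hnab⟩ := Cfsg.Agent.S3049.result hp hcore hrank x hx hiso hnc
  set K := Cfsg.generalizedFittingSubgroup G with hK
  refine ⟨hsimp, hnab, fun P => ?_⟩
  haveI := hsimp
  set P₁ := (P : Subgroup ↥K).map K.subtype with hP₁
  by_cases hex : ∃ g : G, g * x * g⁻¹ ∈ P₁
  · right
    obtain ⟨g, hg⟩ := hex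
    refine ⟨⟨g, hg⟩, ?_⟩
    obtain ⟨t, htP, htx⟩ := hg
    have hisoG : Cfsg.IsIsolated (g * x * g⁻¹) := Cfsg.Agent.S3049.isolated_conj hiso g
    have hisoK : Cfsg.IsIsolated t := fun h hh => Subtype.ext (by
      have h1 := hisoG (h : G) (by rw [← htx]; exact hh.map K.subtype)
      rw [← htx] at h1
      exact h1)
    have hto : orderOf t = p := by
      rw [← orderOf_injective K.subtype K.subtype_injective t, htx, ← hx]
      exact orderOf_injective (MulAut.conj g).toMonoidHom (MulAut.conj g).injective x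
    have hperf : _root_.commutator ↥K = ⊤ :=
      (Subgroup.Normal.eq_bot_or_eq_top (inferInstanceAs (_root_.commutator ↥K).Normal)).resolve_left
        fun h => hnab ⟨⟨fun a b => commutatorElement_eq_one_iff_mul_comm.1 (Subgroup.mem_bot.1 (h ▸
          Subgroup.commutator_mem_commutator (Subgroup.mem_top a) (Subgroup.mem_top b)))⟩⟩
    exact CfsgLib.IsolRankTwo.sylow_structure hp hperf (CfsgLib.IsolRankTwo.rankLE_subgroup hrank K)
      P hisoK hto htP
  · left
    push Not at hex
    refine ⟨hex, ?_⟩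
    by_contra hnc'
    obtain ⟨U, -, hU, hU2⟩ := CfsgLib.FGSA.RankTwoOdd.exists_data hp P.isPGroup' hnc'
    obtain ⟨S, hS⟩ := (P.isPGroup'.map K.subtype).exists_le_sylow
    obtain ⟨R, hR⟩ := (CfsgLib.LocalB.isPGroup_zpowers (p := p)
      (⟨1, hx.trans (pow_one p).symm⟩ : ∃ k, orderOf x = p ^ k)).exists_le_sylow
    obtain ⟨g, hg⟩ := MulAction.exists_smul_eq G R S
    have hyS : g * x * g⁻¹ ∈ (S : Subgroup G) := hg ▸ ⟨x, hR (Subgroup.mem_zpowers x), rfl⟩
    have hyiso : Cfsg.IsIsolated (g * x * g⁻¹) := Cfsg.Agent.S3049.isolated_conj hiso g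
    have hyp : (g * x * g⁻¹) ^ p = 1 := by
      rw [conj_pow, ← hx, pow_orderOf_eq_one, mul_one, mul_inv_cancel]
    haveI := hU.1
    have hUnb : U ≠ ⊥ := fun h => by
      rw [h, Subgroup.card_bot] at hU2
      exact absurd hU2 (Nat.one_lt_pow (by norm_num) (Fact.out : p.Prime).one_lt).ne
    obtain ⟨a, haU, ha⟩ := SetLike.exists_of_lt (bot_lt_iff_ne_bot.2 hUnb)
    obtain ⟨b, hbU, hb⟩ : ∃ b ∈ U, b ∉ Subgroup.zpowers a := SetLike.not_le_iff_exists.1 fun h => by
      have h1 := Subgroup.card_le_of_le h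
      rw [hU2, Nat.card_zpowers] at h1
      have h2 := orderOf_le_of_pow_eq_one (Fact.out : p.Prime).pos (hU.2 a haU)
      nlinarith [(Fact.out : p.Prime).two_le]
    set f : ↥(P : Subgroup ↥K) →* G := K.subtype.comp (P : Subgroup ↥K).subtype with hf
    have hfi : Function.Injective f := K.subtype_injective.comp (P : Subgroup ↥K).subtype_injective
    have hfP : ∀ u, f u ∈ P₁ := fun u => Subgroup.mem_map_of_mem _ u.2
    have hcy : ∀ u, Commute (f u) (g * x * g⁻¹) := fun u =>
      CfsgLib.LocalB.isolated_central hyiso S.isPGroup' hyS _ (hS (hfP u))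
    have h1 := Cfsg.Agent.S3049.rank_two hrank (a := f a) (b := f b) (by rw [← map_pow, hU.2 a haU, map_one])
      (by rw [← map_pow, hU.2 b hbU, map_one]) hyp
      ((show Commute a b from congrArg Subtype.val
        ((inferInstance : IsMulCommutative U).is_comm.comm ⟨a, haU⟩ ⟨b, hbU⟩)).map f)
      (hcy a) (hcy b) (fun e => ha (Subgroup.mem_bot.2 <| hfi (e.trans (map_one f).symm)))
      (fun e => by
        obtain ⟨i, hi⟩ := Subgroup.mem_zpowers_iff.1 e
        exact hb (Subgroup.mem_zpowers_iff.2 ⟨i, hfi (by rw [map_zpow]; exact hi)⟩))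
    exact hex g ((sup_le (Subgroup.zpowers_le.2 (hfP a)) (Subgroup.zpowers_le.2 (hfP b))) h1)

end Cfsg.Agent.S3038
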