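import Cfsg.Statements.S3040
import Cfsg.Agent.OddFixed.Main
import Cfsg.Agent.GoldschmidtFree.Main

set_option autoImplicit false
open Cfsg

namespace Cfsg.Agent.S3040

theorem perm_three_exists : ∀ s : Equiv.Perm (Fin 3), s * s * s = 1 → s ≠ 1 →
    ∃ t : Equiv.Perm (Fin 3), t * t = 1 ∧ t * s * t = s * s := by
  decide

theorem perm_three_cases : ∀ s t : Equiv.Perm (Fin 3), s * s * s = 1 → s ≠ 1 → t * t = 1 →
    t * s * t = s * s → ∀ x : Equiv.Perm (Fin 3),
      x = 1 ∨ x = s ∨ x = s * s ∨ x = t ∨ x = s * t ∨ x = s * s * t := by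
  decide

theorem perm_three (s : Equiv.Perm (Fin 3)) (h : s * s * s = 1) (h1 : s ≠ 1) :
    ∃ t : Equiv.Perm (Fin 3), t * t = 1 ∧ t * s * t = s * s ∧
      ∀ x : Equiv.Perm (Fin 3), x = 1 ∨ x = s ∨ x = s * s ∨ x = t ∨ x = s * t ∨ x = s * s * t :=
  let ⟨t, ht, hts⟩ := perm_three_exists s h h1
  ⟨t, ht, hts, perm_three_cases s t h h1 ht hts⟩

/-- An element of order three of such a group of automorphisms fixes no involution. -/
theorem hyp_three {G : Type*} [Group G] [Finite G] (h3 : ¬ 3 ∣ Nat.card G) (Sig : Subgroup (MulAut G))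
    (hS3 : Nonempty (↥Sig ≃* Equiv.Perm (Fin 3))) (hfpf : ∀ g : G, (∀ σ ∈ Sig, σ g = g) → g = 1)
    (σ : MulAut G) (hσ : σ ∈ Sig) (hord : orderOf σ = 3) : CfsgLib.OddFixed.Hyp σ 3 := by
  have hpow : σ ^ 3 = 1 := hord ▸ pow_orderOf_eq_one σ
  refine ⟨Nat.prime_three, hpow, h3, fun g hg hg2 => ?_⟩
  obtain ⟨e⟩ := hS3
  have hσ3 : (⟨σ, hσ⟩ : Sig) * ⟨σ, hσ⟩ * ⟨σ, hσ⟩ = 1 := Subtype.ext (by
    show σ * σ * σ = 1
    rw [← pow_two, ← pow_succ, hpow])
  obtain ⟨t, ht2, htst, hall⟩ := perm_three (e ⟨σ, hσ⟩) (by rw [← map_mul, ← map_mul, hσ3, map_one])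
    (fun h => by
      have h1 : (⟨σ, hσ⟩ : Sig) = 1 := e.injective (h.trans (map_one e).symm)
      have h2 : σ = 1 := congrArg Subtype.val h1
      rw [h2, orderOf_one] at hord
      exact absurd hord (by norm_num))
  obtain ⟨τ, rfl⟩ := e.surjective t
  rw [← map_mul, ← map_one e] at ht2
  rw [← map_mul, ← map_mul, ← map_mul] at htst
  have hτ2 : ∀ y : G, (τ : MulAut G) ((τ : MulAut G) y) = y := fun y =>
    DFunLike.congr_fun (congrArg Subtype.val (e.injective ht2)) y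
  have hτσ : ∀ y : G, (τ : MulAut G) (σ ((τ : MulAut G) y)) = σ (σ y) := fun y =>
    DFunLike.congr_fun (congrArg Subtype.val (e.injective htst)) y
  have hboth : ∀ y : G, σ y = y → (τ : MulAut G) y = y → y = 1 := by
    intro y hy hy'
    refine hfpf y fun ρ hρ => ?_
    have hcase := hall (e ⟨ρ, hρ⟩)
    simp only [← map_mul, ← map_one e, e.injective.eq_iff] at hcase
    rcases hcase with h | h | h | h | h | h <;>
      (have h' : ρ = _ := congrArg Subtype.val h; simp [h', hy, hy'])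
  have hstab : ∀ y : G, σ y = y → σ ((τ : MulAut G) y) = (τ : MulAut G) y := fun y hy => by
    apply (τ : MulAut G).injective
    rw [hτσ, hy, hy, hτ2]
  let C := CfsgLib.OddFixed.fixSub σ
  let f : C → C := fun y => ⟨(y : G)⁻¹ * (τ : MulAut G) y,
    C.mul_mem (C.inv_mem y.2) (hstab y y.2)⟩
  have hinj : Function.Injective f := by
    intro y z hyz
    have h : (y : G)⁻¹ * (τ : MulAut G) y = (z : G)⁻¹ * (τ : MulAut G) z := congrArg Subtype.val hyz
    refine Subtype.ext (mul_inv_eq_one.1 (hboth _ (C.mul_mem y.2 (C.inv_mem z.2)) ?_))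
    rw [map_mul, map_inv]
    calc (τ : MulAut G) y * ((τ : MulAut G) z)⁻¹
        = (y : G) * ((y : G)⁻¹ * (τ : MulAut G) y) * ((τ : MulAut G) z)⁻¹ := by group
      _ = (y : G) * (z : G)⁻¹ := by rw [h]; group
  obtain ⟨y, hy⟩ := (Finite.injective_iff_surjective.1 hinj) ⟨g, hg⟩
  have hy' : (y : G)⁻¹ * (τ : MulAut G) y = g := congrArg Subtype.val hy
  refine hboth g hg ?_
  rw [← hy', map_mul, map_inv, hτ2]
  have hginv : g⁻¹ = g := inv_eq_of_mul_eq_one_right (by rw [← pow_two]; exact hg2)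
  calc ((τ : MulAut G) y)⁻¹ * y = ((y : G)⁻¹ * (τ : MulAut G) y)⁻¹ := by group
    _ = (y : G)⁻¹ * (τ : MulAut G) y := by rw [hy', hginv]

/-- Let G be a finite group of even order coprime to 3, and let Σ be a group of automorphisms of G isomorphic to the symmetric group of degree 3 that is fixed-point-free (only the identity of G is fixed by every element of Σ). Then G is solvable, O_{2′,2}(G) (the preimage in G of O₂(G/O(G))) has odd index in G, and G = O_{2′,2}(G) C_G(σ) for every element σ of Σ of order 3; that is, O₂(G/O(G)) is a Sylow 2-subgroup of G/O(G) and G/O(G) = O₂(G/O(G)) C_{G/O(G)}(σ). -/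
theorem result {G : Type*} [Group G] [Finite G] (heven : 2 ∣ Nat.card G) (h3 : ¬ 3 ∣ Nat.card G)
    (Sig : Subgroup (MulAut G)) (hS3 : Nonempty (↥Sig ≃* Equiv.Perm (Fin 3))) (hfpf : ∀ g : G, (∀ σ ∈ Sig, σ g = g) → g = 1) :
    Group.IsSolvable G ∧ ¬ 2 ∣ (Cfsg.pPrimePCore 2 G).index ∧ ∀ σ ∈ Sig, orderOf σ = 3 →
      Cfsg.pPrimePCore 2 G ⊔ Subgroup.closure {g : G | σ g = g} = ⊤ := by
  obtain ⟨e⟩ := hS3
  have hfree := CfsgLib.GoldFree.not_involves_four_of_not_dvd h3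
  haveI : Fact (Nat.Prime 3) := ⟨Nat.prime_three⟩
  obtain ⟨x, hx⟩ := exists_prime_orderOf_dvd_card' 3 (G := Sig) (by
    rw [Nat.card_congr e.toEquiv, Nat.card_perm, Nat.card_fin]; decide)
  have hsol : Group.IsSolvable G :=
    (hyp_three h3 Sig ⟨e⟩ hfpf x x.2 (by rw [Subgroup.orderOf_coe, hx])).solvable hfree
  haveI := hsol
  refine ⟨hsol, (hyp_three h3 Sig ⟨e⟩ hfpf x x.2
    (by rw [Subgroup.orderOf_coe, hx])).solvable_structure.1, fun σ hσ hord => eq_top_iff.2 fun g _ => ?_⟩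
  obtain ⟨c, hc, hgc⟩ := (hyp_three h3 Sig ⟨e⟩ hfpf σ hσ hord).solvable_structure.2 g
  have hn : (Cfsg.pPrimePCore 2 G).Normal := Subgroup.Normal.comap inferInstance _
  rw [show g = c * (g⁻¹ * c)⁻¹ by group]
  exact Subgroup.mul_mem _ (Subgroup.mem_sup_right (Subgroup.subset_closure hc))
    (Subgroup.mem_sup_left (Subgroup.inv_mem _ hgc))

end Cfsg.Agent.S3040
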