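import Cfsg.Statements.S3043
import Cfsg.Agent.TIMany.Double
import Cfsg.Agent.TIMany.Normal
import Cfsg.Agent.TIMany.Linear
-- import your own Cfsg.Agent.* helpers here

set_option autoImplicit false
open Cfsg

namespace Cfsg.Agent.S3043

/-- Let M be a nontrivial subgroup of a finite group G meeting each of its other conjugates trivially, with N_G(M) = M · C_{N_G(M)}(z) for some involution z ∈ N_G(M), and with C_G(x) of odd order for every nontrivial x ∈ M. Then one of the following holds: M is normal in G; the number of involutions of G is at most |G : M|; G is isomorphic to PGL₂(F) or to PSL₂(F) for a finite field F with |F| = |M|, M is an elementary abelian p-group for the characteristic p of F, and |F| ≡ 1 (mod 4) in the PSL₂ case; G is isomorphic to PSL₂(F) with |F| = 2^e, e > 1, and M is cyclic of order 2^e + 1; or for some d ≥ 1, G has an elementary abelian normal subgroup of order 2^{2d} complemented by N_G(M), and N_G(M) is dihedral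 of order 2(2^d + 1). -/
theorem result {G : Type*} [Group G] [Finite G] (M : Subgroup G) (hM1 : M ≠ ⊥)
    (hTI : ∀ g : G, M ⊓ M.map (MulAut.conj g).toMonoidHom ≠ ⊥ → M.map (MulAut.conj g).toMonoidHom = M)
    (z : G) (hz : orderOf z = 2) (hzN : z ∈ Subgroup.normalizer (M : Set G))
    (hfac : M ⊔ (Subgroup.normalizer (M : Set G) ⊓ Subgroup.centralizer ({z} : Set G)) = Subgroup.normalizer (M : Set G))
    (hodd : ∀ x ∈ M, x ≠ 1 → Odd (Nat.card ↥(Subgroup.centralizer ({x} : Set G)))) :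
    M.Normal ∨
    Nat.card {g : G // orderOf g = 2} ≤ M.index ∨
    (∃ (F : Type) (_ : Field F) (_ : Fintype F) (p : ℕ) (_ : Fact p.Prime) (_ : CharP F p), Fintype.card F = Nat.card M ∧ Cfsg.IsElementaryAbelian p M ∧
        (Nonempty (G ≃* (GL (Fin 2) F ⧸ Subgroup.center (GL (Fin 2) F))) ∨
         (Fintype.card F % 4 = 1 ∧ Nonempty (G ≃* Matrix.ProjectiveSpecialLinearGroup (Fin 2) F)))) ∨
    (∃ (F : Type) (_ : Field F) (_ : Fintype F) (e : ℕ), 1 < e ∧ Fintype.card F = 2 ^ e ∧ IsCyclic ↥M ∧ Nat.card M = 2 ^ e + 1 ∧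
        Nonempty (G ≃* Matrix.ProjectiveSpecialLinearGroup (Fin 2) F)) ∨
    (∃ (d : ℕ) (E : Subgroup G), 1 ≤ d ∧ E.Normal ∧ Cfsg.IsElementaryAbelian 2 E ∧ Nat.card E = 2 ^ (2 * d) ∧
        E ⊓ Subgroup.normalizer (M : Set G) = ⊥ ∧ E ⊔ Subgroup.normalizer (M : Set G) = ⊤ ∧
        Nonempty (↥(Subgroup.normalizer (M : Set G)) ≃* DihedralGroup (2 ^ d + 1))) := by
  classical
  by_cases hMn : M.Normal
  · exact Or.inl hMn
  by_cases hI : Nat.card {g : G // orderOf g = 2} ≤ M.index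
  · exact Or.inr (Or.inl hI)
  push Not at hI
  have h : CfsgLib.TIMany.Hyp M z := by
    refine ⟨hM1, fun g x hx hx1 hgx => ?_, (CfsgLib.TIMany.sq_of_orderOf hz).1,
      (CfsgLib.TIMany.sq_of_orderOf hz).2, hzN, hfac, fun x hx hx1 t ht1 ht2 htx => ?_⟩
    · have hne : M ⊓ M.map (MulAut.conj g).toMonoidHom ≠ ⊥ := by
        intro hb
        have h1 : g * x * g⁻¹ ∈ M ⊓ M.map (MulAut.conj g).toMonoidHom :=
          Subgroup.mem_inf.2 ⟨hgx, Subgroup.mem_map.2 ⟨x, hx, rfl⟩⟩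
        rw [hb, Subgroup.mem_bot, conj_eq_one_iff] at h1
        exact hx1 h1
      have he := hTI g hne
      rw [Subgroup.mem_normalizer_iff]
      intro y
      conv_rhs => rw [← he, Subgroup.mem_map_equiv, MulAut.conj_symm_apply]
      simp [mul_assoc]
    · refine Nat.not_even_iff_odd.2 (hodd x hx hx1) (even_iff_two_dvd.2 ?_)
      have h1 := orderOf_dvd_natCard
        (⟨t, Subgroup.mem_centralizer_singleton_iff.2 htx⟩ : Subgroup.centralizer ({x} : Set G))
      rwa [← Subgroup.orderOf_coe, CfsgLib.TIMany.orderOf_eq_two ht1 ht2] at h1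
  obtain ⟨g, hg⟩ : ∃ g : G, g ∉ Subgroup.normalizer (M : Set G) := by
    by_contra hcon
    push Not at hcon
    exact hMn ⟨fun x hx g => CfsgLib.TIMany.conj_mem (hcon g) hx⟩
  obtain ⟨-, -, t, ht, -⟩ := h.key hI hg
  obtain ⟨-, -, s, hs, -⟩ := h.exists_kSet hI ht
  by_cases hB : ∀ a ∈ CfsgLib.TIMany.kSet M z, ∀ b ∈ CfsgLib.TIMany.kSet M z,
      a * b ∈ CfsgLib.TIMany.comp M z
  · rcases (CfsgLib.TIMany.Dbl.main ⟨h, hI, hs, hB⟩) with h1 | h1
    · exact Or.inr (Or.inr (Or.inl h1))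
    · exact Or.inr (Or.inr (Or.inr (Or.inr h1)))
  push Not at hB
  obtain ⟨a, ha, b, hb, hab⟩ := hB
  have hc : a * b * z = z * (a * b) := by
    rw [mul_assoc, hb.2, ← mul_assoc, ha.2, mul_assoc]
  have hN : a * b ∉ Subgroup.normalizer (M : Set G) := fun hm =>
    hab (CfsgLib.TIMany.mem_comp.2 ⟨hm, hc⟩)
  have e : CfsgLib.TIMany.Elem M z := ⟨h, hI, a, ha, b, hb, h.mem_kSet_of_comm hI hN hc⟩
  obtain ⟨n, hn, hq, hk, ⟨hm, hj⟩ | ⟨hm, hj⟩⟩ := e.cases
  · exact Or.inr (Or.inr (Or.inr (Or.inr (e.normal_case hn hk hm hj))))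
  · exact Or.inr (Or.inr (Or.inr (Or.inl (CfsgLib.TIMany.Lin.main ⟨e, hn, hq, hk, hm, hj⟩))))

end Cfsg.Agent.S3043
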