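import Cfsg.Statements.S3044
import Cfsg.Agent.LocalB.IsolatedPMinLift

set_option autoImplicit false
set_option linter.unusedVariables false
open Cfsg

namespace Cfsg.Agent.S3044

/-- Let G be a finite group, p a prime, S a Sylow p-subgroup of G and P a p-minimal subgroup of G containing S (S is not normal in P and lies in exactly one maximal subgroup of P). Let L be the subgroup generated by N_G(S) and all p-minimal subgroups of G containing S other than P, and suppose P is isolated: O_p(L) is not contained in O_p(P). Put Y for the normal closure of O^p(P) in G. Then G = YL; P is again isolated in the subgroup YS (the subgroup L₀ generated by N_{YS}(S) and the p-minimal subgroups of YS containing S other than P has O_p(L₀) not contained in O_p(P)); and either Y = O^p(P), or p divides |Y/O_p(Y)|, Y/O_p(Y) is generated by its components (a central product of quasisimple groups), and S permutes these components transitively by conjugation. -/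
theorem result {G : Type*} [Group G] [Finite G] {p : ℕ} [Fact p.Prime] (S : Sylow p G) (P : Subgroup G) (hSP : (S : Subgroup G) ≤ P) (hPmin : Cfsg.IsPMinimal p ↥P)
    (L Y : Subgroup G)
    (hL : L = Subgroup.normalizer ((S : Subgroup G) : Set G) ⊔ ⨆ P' : {P' : Subgroup G // (S : Subgroup G) ≤ P' ∧ Cfsg.IsPMinimal p ↥P' ∧ P' ≠ P}, (P' : Subgroup G))
    (hiso : ¬ (Cfsg.pCore p ↥L).map L.subtype ≤ (Cfsg.pCore p ↥P).map P.subtype)
    (hY : Y = Subgroup.normalClosure (((Cfsg.pResidual p ↥P).map P.subtype : Subgroup G) : Set G)) :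
    Y ⊔ L = ⊤ ∧
    ¬ (Cfsg.pCore p ↥((Subgroup.normalizer ((S : Subgroup G) : Set G) ⊓ (Y ⊔ (S : Subgroup G))) ⊔
          ⨆ P' : {P' : Subgroup G // (S : Subgroup G) ≤ P' ∧ P' ≤ Y ⊔ (S : Subgroup G) ∧ Cfsg.IsPMinimal p ↥P' ∧ P' ≠ P}, (P' : Subgroup G))).map
        (Subgroup.subtype _) ≤ (Cfsg.pCore p ↥P).map P.subtype ∧
    ((Cfsg.pResidual p ↥P).map P.subtype = Y ∨
     ∃ _ : (Cfsg.pCore p ↥Y).Normal,
       p ∣ Nat.card (↥Y ⧸ Cfsg.pCore p ↥Y) ∧ Cfsg.layer (↥Y ⧸ Cfsg.pCore p ↥Y) = ⊤ ∧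
       ∀ K₁ K₂ : Subgroup (↥Y ⧸ Cfsg.pCore p ↥Y), Cfsg.IsComponent K₁ → Cfsg.IsComponent K₂ →
         ∃ s ∈ (S : Subgroup G), ((K₂.comap (QuotientGroup.mk' (Cfsg.pCore p ↥Y))).map Y.subtype) = (((K₁.comap (QuotientGroup.mk' (Cfsg.pCore p ↥Y))).map Y.subtype)).map (MulAut.conj s).toMonoidHom) := by
  have D : CfsgLib.Isolated.Data S P L Y := ⟨hSP, hPmin, hL, hiso, hY⟩
  haveI hn := CfsgLib.Solvable.pCore_normal p (G := G)
  have Ds := D.setting
  refine ⟨D.Y_sup_L, fun hcon => hiso ?_, ?_⟩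
  · -- `P` is isolated in `Y S`
    set L₀ := (Subgroup.normalizer ((S : Subgroup G) : Set G) ⊓ (Y ⊔ (S : Subgroup G))) ⊔
          ⨆ P' : {P' : Subgroup G // (S : Subgroup G) ≤ P' ∧ P' ≤ Y ⊔ (S : Subgroup G) ∧ Cfsg.IsPMinimal p ↥P' ∧ P' ≠ P}, (P' : Subgroup G)
    have hL₀ : L₀ ≤ L := by
      refine sup_le (inf_le_left.trans ?_) (iSup_le ?_)
      · rw [hL]; exact le_sup_left
      · rintro ⟨P', h1, -, h3, h4⟩
        rw [hL]
        exact le_trans (le_iSup (fun P'' : {P' : Subgroup G // (S : Subgroup G) ≤ P' ∧ Cfsg.IsPMinimal p ↥P' ∧ P' ≠ P} =>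
          (P'' : Subgroup G)) ⟨P', h1, h3, h4⟩) le_sup_right
    have hS₀ : (S : Subgroup G) ≤ L₀ := le_trans (le_inf Subgroup.le_normalizer le_sup_right) le_sup_left
    refine le_trans ?_ hcon
    have hQ : (Cfsg.pCore p ↥L).map L.subtype ≤ L₀ := D.Q_le_S.trans hS₀
    rw [← Subgroup.map_subgroupOf_eq_of_le hQ]
    refine Subgroup.map_mono (CfsgLib.Solvable.le_pCore p ?_ ?_)
    · exact (Subgroup.normal_subgroupOf_iff_le_normalizer hQ).2 (hL₀.trans D.L_le_normalizer)
    · exact (S.2.to_le D.Q_le_S).comap_of_injective L₀.subtype L₀.subtype_injective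
  haveI : Y.Normal := hY ▸ Subgroup.normalClosure_normal
  set Yb := Y.map (QuotientGroup.mk' (Cfsg.pCore p G))
  by_cases hperf : ⁅Yb, Yb⁆ = Yb
  swap
  · exact Or.inl (D.eq_of_map_eq (CfsgLib.Isolated.small_case Ds hperf))
  right
  haveI := CfsgLib.Solvable.pCore_normal p (G := ↥Y)
  refine ⟨inferInstance, ?_⟩
  obtain ⟨e, he⟩ := CfsgLib.Isolated.exists_quotientEquiv (p := p) Y
  refine ⟨?_, ?_, ?_⟩
  · rw [Nat.card_congr e.toEquiv]
    by_contra hd
    obtain ⟨t, ht, -, hT⟩ := CfsgLib.Isolated.exists_pGroup Ds hd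
    haveI := Fact.mk ht
    haveI : Group.IsNilpotent ↥Yb := hT.isNilpotent
    haveI : Group.IsSolvable ↥Yb := IsNilpotent.to_isSolvable
    by_cases hbot : Yb = ⊥
    · exact CfsgLib.Isolated.Y_not_le Ds (hbot.trans_le bot_le)
    · haveI := (Subgroup.nontrivial_iff_ne_bot Yb).2 hbot
      refine absurd ?_ (Group.IsSolvable.commutator_lt_top_of_nontrivial (↥Yb)).ne
      apply Subgroup.map_injective Yb.subtype_injective
      rwa [Subgroup.map_subtype_commutator, ← MonoidHom.range_eq_map, Subgroup.range_subtype]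
  · apply Subgroup.map_injective (f := e.toMonoidHom) e.injective
    rw [CfsgLib.Comp.map_layer e, Subgroup.map_top_of_surjective e.toMonoidHom e.surjective]
    exact CfsgLib.Isolated.layer_eq_top Ds hperf
  intro K₁ K₂ hK₁ hK₂
  have hsub : Yb.IsSubnormal := (CfsgLib.Isolated.normal_Y Ds).isSubnormal
  obtain ⟨sb, hsb, heq⟩ := CfsgLib.Isolated.transitive Ds hperf
    (CfsgLib.Comp.component_map_subtype hsub (CfsgLib.Comp.component_map_equiv e hK₁)) (Subgroup.map_subtype_le _)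
    (CfsgLib.Comp.component_map_subtype hsub (CfsgLib.Comp.component_map_equiv e hK₂)) (Subgroup.map_subtype_le _)
  obtain ⟨s, hs, rfl⟩ := hsb
  refine ⟨s, hs, ?_⟩
  have key : ∀ (K : Subgroup (↥Y ⧸ Cfsg.pCore p ↥Y)) (x : G),
      x ∈ (K.comap (QuotientGroup.mk' (Cfsg.pCore p ↥Y))).map Y.subtype ↔
        x ∈ Y ∧ QuotientGroup.mk' (Cfsg.pCore p G) x ∈ (K.map e.toMonoidHom).map Yb.subtype := by
    intro K x
    constructor
    · rintro ⟨y, hy, rfl⟩
      exact ⟨y.2, e (QuotientGroup.mk y), ⟨_, hy, rfl⟩, he y⟩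
    · rintro ⟨hx, z, ⟨w, hw, rfl⟩, hz⟩
      refine ⟨⟨x, hx⟩, ?_, rfl⟩
      have h1 : e (QuotientGroup.mk ⟨x, hx⟩) = e w := Subtype.ext ((he ⟨x, hx⟩).trans hz.symm)
      show (QuotientGroup.mk ⟨x, hx⟩ : ↥Y ⧸ Cfsg.pCore p ↥Y) ∈ K
      rw [e.injective h1]
      exact hw
  ext x
  rw [key K₂ x, heq, Subgroup.mem_map_equiv, Subgroup.mem_map_equiv, key K₁]
  simp only [MulAut.conj_symm_apply, map_mul, map_inv]
  refine and_congr_left fun _ => ?_
  constructor
  · intro h
    simpa using (inferInstance : Y.Normal).conj_mem x h s⁻¹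
  · intro h
    simpa [mul_assoc] using (inferInstance : Y.Normal).conj_mem _ h s

end Cfsg.Agent.S3044
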