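import Cfsg.Statements.S3045
import Cfsg.Agent.LocalB.IsolatedPMinLift

set_option autoImplicit false
set_option linter.unusedVariables false
open Cfsg

namespace Cfsg.Agent.S3045

/-- Let G be a finite group, p a prime, S a Sylow p-subgroup of G and P a p-minimal subgroup of G containing S. Let L be the subgroup generated by N_G(S) and all p-minimal subgroups of G containing S other than P, and suppose O_p(L) is not contained in O_p(P). Put Y for the normal closure of O^p(P) in G. Then O^p(P) is contained in the preimage in G of F*(G/O_p(G)); and if Y is solvable, then Y = O^p(P) and Y/O_p(Y) is a t-group of nilpotency class at most 2 for some prime t ≠ p. -/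
theorem result {G : Type*} [Group G] [Finite G] {p : ℕ} [Fact p.Prime] (S : Sylow p G) (P : Subgroup G) (hSP : (S : Subgroup G) ≤ P) (hPmin : Cfsg.IsPMinimal p ↥P)
    (L Y : Subgroup G)
    (hL : L = Subgroup.normalizer ((S : Subgroup G) : Set G) ⊔ ⨆ P' : {P' : Subgroup G // (S : Subgroup G) ≤ P' ∧ Cfsg.IsPMinimal p ↥P' ∧ P' ≠ P}, (P' : Subgroup G))
    (hiso : ¬ (Cfsg.pCore p ↥L).map L.subtype ≤ (Cfsg.pCore p ↥P).map P.subtype)
    (hY : Y = Subgroup.normalClosure (((Cfsg.pResidual p ↥P).map P.subtype : Subgroup G) : Set G)) [hn : (Cfsg.pCore p G).Normal] :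
    (Cfsg.pResidual p ↥P).map P.subtype ≤ (Cfsg.generalizedFittingSubgroup (G ⧸ Cfsg.pCore p G)).comap (QuotientGroup.mk' (Cfsg.pCore p G)) ∧
    (Group.IsSolvable ↥Y → (Cfsg.pResidual p ↥P).map P.subtype = Y ∧
       ∃ _ : (Cfsg.pCore p ↥Y).Normal, ∃ t : ℕ, t.Prime ∧ t ≠ p ∧ IsPGroup t (↥Y ⧸ Cfsg.pCore p ↥Y) ∧
         ∃ _ : Group.IsNilpotent (↥Y ⧸ Cfsg.pCore p ↥Y), Group.nilpotencyClass (↥Y ⧸ Cfsg.pCore p ↥Y) ≤ 2) := by
  have D : CfsgLib.Isolated.Data S P L Y := ⟨hSP, hPmin, hL, hiso, hY⟩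
  have Ds := D.setting
  refine ⟨Subgroup.map_le_iff_le_comap.1 (CfsgLib.Isolated.A_le_Fstar Ds), fun hsol => ?_⟩
  haveI : Y.Normal := hY ▸ Subgroup.normalClosure_normal
  haveI := CfsgLib.Solvable.pCore_normal p (G := ↥Y)
  set Yb := Y.map (QuotientGroup.mk' (Cfsg.pCore p G))
  have hne : ⁅Yb, Yb⁆ ≠ Yb := by
    intro hperf
    haveI : Group.IsSolvable ↥Yb :=
      Group.isSolvable_of_surjective ((QuotientGroup.mk' (Cfsg.pCore p G)).subgroupMap_surjective Y)
    by_cases hbot : Yb = ⊥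
    · exact CfsgLib.Isolated.Y_not_le Ds (hbot.trans_le bot_le)
    · haveI := (Subgroup.nontrivial_iff_ne_bot Yb).2 hbot
      refine absurd ?_ (Group.IsSolvable.commutator_lt_top_of_nontrivial (↥Yb)).ne
      apply Subgroup.map_injective Yb.subtype_injective
      rwa [Subgroup.map_subtype_commutator, ← MonoidHom.range_eq_map, Subgroup.range_subtype]
  refine ⟨D.eq_of_map_eq (CfsgLib.Isolated.small_case Ds hne), inferInstance, ?_⟩
  obtain ⟨e, -⟩ := CfsgLib.Isolated.exists_quotientEquiv (p := p) Y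
  obtain ⟨t, ht, htp, hT⟩ := CfsgLib.Isolated.exists_pGroup Ds (CfsgLib.Isolated.not_dvd_of_derived_ne Ds hne)
  haveI := Fact.mk ht
  haveI : Group.IsNilpotent ↥Yb := hT.isNilpotent
  have hq : IsPGroup t (↥Y ⧸ Cfsg.pCore p ↥Y) := hT.of_equiv e.symm
  refine ⟨t, ht, htp, hq, hq.isNilpotent, ?_⟩
  haveI := hq.isNilpotent
  refine (Group.nilpotencyClass_le_of_surjective e.symm.toMonoidHom e.symm.surjective).trans ?_
  rw [← Subgroup.lowerCentralSeries_eq_bot_iff_nilpotencyClass_le]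
  apply Subgroup.map_injective Yb.subtype_injective
  rw [Subgroup.top_subtype_lowerCentralSeries, Subgroup.map_bot]
  exact CfsgLib.Isolated.derived_central Ds hne

end Cfsg.Agent.S3045
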