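import Cfsg.Statements.S3047
import Cfsg.Agent.RankOneTorus.SUThree
import Cfsg.Agent.LocalB.IsolatedPMinLift
-- import your own Cfsg.Agent.* helpers here

set_option autoImplicit false
set_option linter.style.haveILetI false
open Cfsg CfsgLib.RankOneTorus

namespace Cfsg.Agent.S3047

/-- Let p ≥ 5 be a prime, G a finite group all of whose composition factors are known simple groups, S a Sylow p-subgroup and P a p-minimal subgroup of G containing S such that O^p(P/O_p(P)) is isomorphic to SL₂(pᵃ), PSL₂(pᵃ), SU₃(pᵃ) or PSU₃(pᵃ) for some a ≥ 1. Let L be the subgroup generated by N_G(S) and the p-minimal subgroups of G containing S other than P. Then either O^p(P) is normal in G, or every p-element of the centre of L lies in O_p(P). -/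
theorem result {G : Type*} [Group G] [Finite G] {p : ℕ} [Fact p.Prime] (hp : 5 ≤ p) (hK : Cfsg.IsCompositionKGroup G)
    (S : Sylow p G) (P : Subgroup G) (hSP : (S : Subgroup G) ≤ P) (hPmin : Cfsg.IsPMinimal p ↥P) [hn : (Cfsg.pCore p ↥P).Normal]
    (hrk1 : ∃ (F : Type) (_ : Field F) (_ : Fintype F) (a : ℕ), 1 ≤ a ∧
      ((Fintype.card F = p ^ a ∧ (Nonempty (↥(Cfsg.pResidual p (↥P ⧸ Cfsg.pCore p ↥P)) ≃* Matrix.SpecialLinearGroup (Fin 2) F) ∨
                                  Nonempty (↥(Cfsg.pResidual p (↥P ⧸ Cfsg.pCore p ↥P)) ≃* Matrix.ProjectiveSpecialLinearGroup (Fin 2) F))) ∨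
       (Fintype.card F = p ^ (2 * a) ∧ (Nonempty (↥(Cfsg.pResidual p (↥P ⧸ Cfsg.pCore p ↥P)) ≃* ↥(Cfsg.SU 3 F (p ^ a))) ∨
                                        Nonempty (↥(Cfsg.pResidual p (↥P ⧸ Cfsg.pCore p ↥P)) ≃* Cfsg.PSU 3 F (p ^ a))))))
    (L : Subgroup G)
    (hL : L = Subgroup.normalizer ((S : Subgroup G) : Set G) ⊔ ⨆ P' : {P' : Subgroup G // (S : Subgroup G) ≤ P' ∧ Cfsg.IsPMinimal p ↥P' ∧ P' ≠ P}, (P' : Subgroup G)) :
    ((Cfsg.pResidual p ↥P).map P.subtype).Normal ∨
    ∀ z ∈ L ⊓ Subgroup.centralizer (L : Set G), (∃ k : ℕ, orderOf z = p ^ k) → z ∈ (Cfsg.pCore p ↥P).map P.subtype := by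
  refine Or.inr fun z hz hzk => ?_
  subst hL
  obtain ⟨k, hk⟩ := hzk
  have hcomm : ∀ g ∈ Subgroup.normalizer ((S : Subgroup G) : Set G), z * g = g * z := fun g hg =>
    (Subgroup.mem_centralizer_iff.1 hz.2 g (Subgroup.mem_sup_left hg)).symm
  have hzS : z ∈ (S : Subgroup G) := by
    refine mem_sylow_of_normalizer S (Subgroup.mem_normalizer_iff.2 fun s => ?_) ⟨k, hk ▸ pow_orderOf_eq_one z⟩
    constructor
    · intro hs
      rw [hcomm s (Subgroup.le_normalizer hs), mul_inv_cancel_right]; exact hs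
    · intro hs
      have := hcomm _ (Subgroup.le_normalizer hs)
      have e : z * (z * s * z⁻¹) = z * (z * s) * z⁻¹ := by group
      rw [e, mul_inv_eq_iff_eq_mul] at this
      have e2 : z * s * z⁻¹ * z * z = z * s * z := by group
      rw [e2] at this
      have e3 : z * (z * s) = z * s * z := this
      rw [mul_assoc z s z, mul_left_cancel_iff] at e3
      rwa [e3, mul_inv_cancel_right] at hs
  set O := Cfsg.pCore p ↥P
  set π := QuotientGroup.mk' O
  set SP : Sylow p ↥P := S.subtype hSP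
  have hSPmem : ∀ x : ↥P, x ∈ (SP : Subgroup ↥P) ↔ (x : G) ∈ (S : Subgroup G) := fun x => Iff.rfl
  set Sb : Sylow p (↥P ⧸ O) := SP.mapSurjective (f := π) (QuotientGroup.mk'_surjective _)
  have hOS : O ≤ (SP : Subgroup ↥P) := by
    obtain ⟨R, hR⟩ := (CfsgLib.Solvable.isPGroup_pCore (G := ↥P) p).exists_le_sylow
    obtain ⟨g, hg⟩ := MulAction.exists_smul_eq ↥P R SP
    intro x hx
    rw [← hg]
    exact ⟨g⁻¹ * x * g⁻¹⁻¹, hR (hn.conj_mem x hx g⁻¹), by simp [mul_assoc]⟩
  have hπS : ∀ x : ↥P, π x ∈ (Sb : Subgroup (↥P ⧸ O)) → x ∈ (SP : Subgroup ↥P) := by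
    intro x hx
    obtain ⟨y, hy, hxy⟩ := hx
    have h1 : y⁻¹ * x ∈ O := QuotientGroup.eq.1 hxy
    simpa using mul_mem hy (hOS h1)
  have hzP : π ⟨z, hSP hzS⟩ = 1 := by
    refine eq_one_of_commute_normalizer (p := p) (Cfsg.pResidual p (↥P ⧸ O))
      CfsgLib.PResidual.exists_index_pResidual CfsgLib.Isolated.pCore_quotient_eq_bot ?_ Sb
      ⟨⟨z, hSP hzS⟩, hzS, rfl⟩ ?_
    · obtain ⟨F, iF, iFt, a, ha, hF⟩ := hrk1
      have hcard : ∃ j, Fintype.card F = p ^ j ∧ j ≠ 0 := by
        rcases hF with ⟨h1, -⟩ | ⟨h1, -⟩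
        · exact ⟨a, h1, by omega⟩
        · exact ⟨2 * a, h1, by omega⟩
      haveI : CharP F p := by
        obtain ⟨j, hj, hj0⟩ := hcard
        have h0 : ((p : F)) ^ j = 0 := by
          have := FiniteField.cast_card_eq_zero F
          rwa [hj, Nat.cast_pow] at this
        exact (CharP.charP_iff_prime_eq_zero Fact.out).2 (eq_zero_of_pow_eq_zero h0)
      rcases hF with ⟨-, ⟨⟨e⟩⟩ | ⟨⟨e⟩⟩⟩ | ⟨hc, he⟩
      · exact (hasPattern_sl_two hp F).of_mulEquiv e.symm
      · refine ((hasPattern_sl_two (p := p) hp F).quotient (Subgroup.center _) le_rfl ?_).of_mulEquiv e.symm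
        classical
        rw [Nat.card_congr (Matrix.SpecialLinearGroup.center_equiv_rootsOfUnity (n := Fin 2) (R := F)).toEquiv]
        intro hd
        have h1 := Nat.le_of_dvd Nat.card_pos hd
        have h2 := card_rootsOfUnity F 2
        simp only [Fintype.card_fin, Nat.max_eq_left (show 1 ≤ 2 by norm_num)] at h1
        omega
      · have hF' : Nat.card F = (p ^ a) ^ 2 := by rw [Nat.card_eq_fintype_card, hc, mul_comm, pow_mul]
        have hp3 := hasPattern_su_three hF' (p := p) hp ha rfl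
        rcases he with ⟨⟨e⟩⟩ | ⟨⟨e⟩⟩
        · exact hp3.of_mulEquiv e.symm
        · refine (hp3.quotient (Subgroup.center _) le_rfl ?_).of_mulEquiv e.symm
          rw [CfsgLib.Unitary.card_center_SU hF' (n := 3) (by norm_num)]
          intro hd
          have := Nat.le_of_dvd (by norm_num) (hd.trans (Nat.gcd_dvd_left _ _))
          omega
    · intro g hg
      obtain ⟨x, rfl⟩ := QuotientGroup.mk'_surjective O g
      have hxN : (x : G) ∈ Subgroup.normalizer ((S : Subgroup G) : Set G) := by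
        rw [Subgroup.mem_normalizer_iff]
        intro s
        constructor
        · intro hs
          exact (hSPmem (x * ⟨s, hSP hs⟩ * x⁻¹)).1 (hπS _ (by
            rw [map_mul, map_mul, map_inv]
            exact (Subgroup.mem_normalizer_iff.1 hg _).1 ⟨⟨s, hSP hs⟩, hs, rfl⟩))
        · intro hs
          have h0 : s ∈ P := by
            simpa [mul_assoc] using P.mul_mem (P.mul_mem (P.inv_mem x.2) (hSP hs)) x.2
          exact (hSPmem ⟨s, h0⟩).1 (hπS _ ((Subgroup.mem_normalizer_iff.1 hg _).2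
            ⟨x * ⟨s, h0⟩ * x⁻¹, hs, by simp [π]⟩))
      show π _ * π x = π x * π _
      rw [← map_mul, ← map_mul]
      exact congrArg π (Subtype.ext (hcomm _ hxN))
  exact ⟨⟨z, hSP hzS⟩, (QuotientGroup.eq_one_iff _).1 hzP, rfl⟩

end Cfsg.Agent.S3047
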