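import Cfsg.Statements.S3050
import Cfsg.Agent.LocalB.HigmanGroup

set_option autoImplicit false
open Cfsg

namespace Cfsg.Agent.S3050

/-- Let G be a finite group with a normal 2-subgroup Q such that G/Q is isomorphic to SL(2, 2ⁿ) with n ≥ 2, and suppose some element of G of order 3 fixes no nonidentity element of Q under conjugation. Then Q is elementary abelian and is the direct product of normal subgroups of G on each of which G acts as SL(2, 2ⁿ) acts on its natural two-dimensional module (a Galois twist of the natural action allowed). -/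
theorem result {G : Type*} [Group G] [Finite G]
    (Q : Subgroup G) [Q.Normal] (hQ : IsPGroup 2 ↥Q) (n : ℕ) (hn : 2 ≤ n)
    (K : Type*) [Field K] [Fintype K] (hK : Fintype.card K = 2 ^ n)
    (e : G ⧸ Q ≃* Matrix.SpecialLinearGroup (Fin 2) K)
    (x : G) (hx : orderOf x = 3) (hfpf : ∀ q ∈ Q, x * q * x⁻¹ = q → q = 1) :
    Cfsg.IsElementaryAbelian 2 Q ∧
      ∃ (k : ℕ) (V : Fin k → Subgroup G), (∀ i, V i ≤ Q ∧ (V i).Normal ∧
        Cfsg.ActsAsSL2OnSection K ⊤ ⊤ (V i) ⊥) ∧ iSupIndep V ∧ ⨆ i, V i = Q := by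
  haveI : Fact (Nat.Prime 2) := ⟨Nat.prime_two⟩
  haveI : CharP K 2 := by
    obtain ⟨p, hp⟩ := CharP.exists K
    haveI := hp
    obtain ⟨m, hm, hc⟩ := FiniteField.card K p
    haveI : Fact p.Prime := ⟨hm⟩
    have h2 : p ∣ 2 := hm.dvd_of_dvd_pow (hK ▸ hc ▸ dvd_pow_self p m.ne_zero)
    have : p = 2 := (Nat.prime_dvd_prime_iff_eq hm Nat.prime_two).1 h2
    exact this ▸ hp
  classical
  obtain ⟨a, ha⟩ : ∃ a : K, a ∉ ({0, 1} : Finset K) := by
    by_contra hall
    push_neg at hall
    have h1 : (Finset.univ : Finset K).card ≤ ({0, 1} : Finset K).card :=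
      Finset.card_le_card fun a _ => hall a
    have h4 : 4 ≤ 2 ^ n := le_trans (by norm_num) (Nat.pow_le_pow_right two_pos hn)
    have h2 : ({0, 1} : Finset K).card ≤ 2 := Finset.card_le_two
    rw [Finset.card_univ, hK] at h1
    omega
  simp only [Finset.mem_insert, Finset.mem_singleton, not_or] at ha
  have hx3 : x ^ 3 = 1 := hx ▸ pow_orderOf_eq_one x
  have hxQ : x ∉ Q := by
    intro hxQ
    obtain ⟨k, hk⟩ := hQ ⟨x, hxQ⟩
    have h : orderOf x ∣ 2 ^ k := orderOf_dvd_of_pow_eq_one (congrArg Subtype.val hk)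
    rw [hx] at h
    have h3 := (Nat.prime_dvd_prime_iff_eq (by norm_num) Nat.prime_two).1
      (Nat.Prime.dvd_of_dvd_pow (by norm_num : Nat.Prime 3) h)
    omega
  exact CfsgLib.Higman.natural_decomposition hQ e ha.1 ha.2 hx3 hxQ hfpf

end Cfsg.Agent.S3050
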