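import Cfsg.Statements.S3053
import Cfsg.Agent.Transfer.Alperin
import Cfsg.Agent.LocalB.HSubgroup
import Cfsg.Agent.LocalB.Embedded
import Cfsg.Agent.Solvable.PGroupBasic

set_option autoImplicit false
set_option linter.unusedVariables false
open Cfsg CfsgLib.LocalB
open scoped Pointwise commutatorElement

namespace Cfsg.Agent.S3053

set_option maxHeartbeats 1000000 in
/-- Let p be an odd prime and G a finite group with a Sylow p-subgroup P that is extraspecial of order p³ and exponent p². Then the centre of P is strongly closed in P with respect to G: a G-conjugate of an element of Z(P) that lies in P already lies in Z(P). In particular a nontrivial central element of P is conjugate in G to no noncentral element of P. -/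
theorem result {G : Type*} [Group G] [Finite G]
    {p : ℕ} [Fact p.Prime] (hp : p ≠ 2) (P : Sylow p G) (hE : Cfsg.IsExtraspecial p ↥P)
    (hcard : Nat.card P = p ^ 3) (hexp : Monoid.exponent ↥P = p ^ 2) :
    Cfsg.IsStronglyClosed ((Subgroup.center ↥P).map (P : Subgroup G).subtype) (P : Subgroup G) := by
  have hpr : p.Prime := Fact.out
  obtain ⟨⟨hPp, hfrat, hcomm'⟩, hZcard⟩ := hE
  replace hPp : IsPGroup p ↥(P : Subgroup G) := hPp
  replace hfrat : frattini ↥(P : Subgroup G) = Subgroup.center ↥(P : Subgroup G) := hfrat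
  replace hcomm' : commutator ↥(P : Subgroup G) = Subgroup.center ↥(P : Subgroup G) := hcomm'
  replace hZcard : Nat.card (Subgroup.center ↥(P : Subgroup G)) = p := hZcard
  replace hexp : Monoid.exponent ↥(P : Subgroup G) = p ^ 2 := hexp
  set Zc := (Subgroup.center ↥(P : Subgroup G)).map (P : Subgroup G).subtype with hZc
  have hZmem : ∀ z : G, z ∈ Zc ↔ z ∈ (P : Subgroup G) ∧ ∀ u ∈ (P : Subgroup G), u * z = z * u := by
    intro z
    constructor
    · rintro ⟨z', hz', rfl⟩
      exact ⟨z'.2, fun u hu => congrArg Subtype.val (Subgroup.mem_center_iff.1 hz' ⟨u, hu⟩)⟩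
    · rintro ⟨hz, h⟩
      exact ⟨⟨z, hz⟩, Subgroup.mem_center_iff.2 fun u => Subtype.ext (h u u.2), rfl⟩
  have hZP : Zc ≤ (P : Subgroup G) := Subgroup.map_subtype_le _
  have hZc_card : Nat.card Zc = p := by
    rw [hZc, Subgroup.card_map_of_injective (P : Subgroup G).subtype_injective, hZcard]
  have hgen : ∀ z ∈ Zc, z ≠ 1 → Subgroup.zpowers z = Zc := by
    intro z hz hz1
    refine Subgroup.eq_of_le_of_card_ge (Subgroup.zpowers_le.2 hz) ?_
    rw [hZc_card, Nat.card_zpowers]
    have h1 : orderOf z ∣ p := by rw [← hZc_card]; exact Subgroup.orderOf_dvd_natCard Zc hz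
    rcases (Nat.dvd_prime hpr).1 h1 with h2 | h2
    · exact absurd (orderOf_eq_one_iff.1 h2) hz1
    · omega
  have hcomm : ∀ a ∈ (P : Subgroup G), ∀ b ∈ (P : Subgroup G), a * b * a⁻¹ * b⁻¹ ∈ Zc := by
    intro a ha b hb
    refine ⟨⁅(⟨a, ha⟩ : ↥(P : Subgroup G)), (⟨b, hb⟩ : ↥(P : Subgroup G))⁆, ?_, by simp [commutatorElement_def]⟩
    rw [← hcomm', _root_.commutator_def]
    exact Subgroup.commutator_mem_commutator (Subgroup.mem_top _) (Subgroup.mem_top _)
  have hpow : ∀ a ∈ (P : Subgroup G), a ^ p ∈ Zc := fun a ha =>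
    ⟨(⟨a, ha⟩ : ↥(P : Subgroup G)) ^ p, hfrat ▸ (CfsgLib.PGroupBasic.commutator_pow_le_frattini (p := p) hPp).2 _, by simp⟩
  -- the key step
  have key : ∀ R : Subgroup G, R ≤ (P : Subgroup G) → ∀ n ∈ Subgroup.normalizer (R : Set G),
      ∀ x ∈ Zc, x ≠ 1 → x ∈ R → n * x * n⁻¹ ∈ Zc := by
    intro R hRP n hn x hx hx1 hxR
    by_contra hwZ
    set w := n * x * n⁻¹ with hw
    have hwR : w ∈ R := (Subgroup.mem_normalizer_iff.1 hn x).1 hxR
    have hRexp : ∀ r ∈ R, r ^ p = 1 := by
      intro r hr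
      by_contra hrp
      apply hwZ
      have h1 : x ∈ Subgroup.zpowers (r ^ p) := by rw [hgen _ (hpow r (hRP hr)) hrp]; exact hx
      obtain ⟨i, hi⟩ := Subgroup.mem_zpowers_iff.1 h1
      rw [hw, ← hi, ← conj_zpow, ← conj_pow]
      exact Subgroup.zpow_mem _ (hpow _ (hRP ((Subgroup.mem_normalizer_iff.1 hn r).1 hr))) i
    have hxc : ∀ u ∈ (P : Subgroup G), u * x = x * u := ((hZmem x).1 hx).2
    have hcxw : Commute x w := (hxc w (hRP hwR)).symm
    obtain ⟨a, haP, hap⟩ : ∃ a ∈ (P : Subgroup G), a ^ p ≠ 1 := by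
      by_contra hno
      push Not at hno
      have h1 : Monoid.exponent ↥(P : Subgroup G) ∣ p :=
        Monoid.exponent_dvd_of_forall_pow_eq_one fun u => Subtype.ext (by simpa using hno u u.2)
      rw [hexp] at h1
      have := Nat.le_of_dvd hpr.pos h1
      have := lt_self_pow₀ hpr.one_lt one_lt_two
      omega
    have haR : a ∉ R := fun h => hap (hRexp a h)
    let E : Subgroup G :=
      { carrier := {z | ∃ i j : ℤ, z = x ^ i * w ^ j}
        one_mem' := ⟨0, 0, by simp⟩
        mul_mem' := by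
          rintro _ _ ⟨i, j, rfl⟩ ⟨k, l, rfl⟩
          exact ⟨i + k, j + l, by rw [zpow_add, zpow_add, (hcxw.zpow_zpow k j).symm.mul_mul_mul_comm]⟩
        inv_mem' := by
          rintro _ ⟨i, j, rfl⟩
          exact ⟨-i, -j, by rw [mul_inv_rev, ← zpow_neg, ← zpow_neg, ((hcxw.zpow_zpow (-i) (-j))).eq]⟩ }
    have hER : E ≤ R := by
      rintro _ ⟨i, j, rfl⟩
      exact mul_mem (Subgroup.zpow_mem _ hxR i) (Subgroup.zpow_mem _ hwR j)
    have hwE : w ∈ E := ⟨0, 1, by simp⟩
    have hxE : x ∈ E := ⟨1, 0, by simp⟩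
    obtain ⟨eR, heR2, heR⟩ : ∃ k, k ≤ 3 ∧ Nat.card R = p ^ k :=
      (Nat.dvd_prime_pow hpr).1 (hcard ▸ Subgroup.card_dvd_of_le hRP)
    obtain ⟨eE, heE2, heE⟩ : ∃ k, k ≤ 3 ∧ Nat.card E = p ^ k :=
      (Nat.dvd_prime_pow hpr).1 (hcard ▸ Subgroup.card_dvd_of_le (hER.trans hRP))
    have hmono : ∀ {A B : Subgroup G} {i j : ℕ}, A < B → Nat.card A = p ^ i → Nat.card B = p ^ j →
        i < j := by
      intro A B i j hAB hA hB
      have := CfsgLib.Solvable.card_lt_of_lt hAB
      rw [hA, hB] at this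
      exact (Nat.pow_lt_pow_iff_right hpr.one_lt).1 this
    have hE2 : 1 < eE := by
      refine hmono (A := Zc) (B := E) ?_ (by rw [hZc_card, pow_one]) heE
      refine lt_of_le_of_ne ?_ (fun e => hwZ (e ▸ hwE))
      rw [← hgen x hx hx1]
      exact Subgroup.zpowers_le.2 hxE
    have hR3 : eR < 3 := hmono (lt_of_le_of_ne hRP (fun e => haR (e ▸ haP))) heR hcard
    have hERcard : eE ≤ eR := by
      rcases eq_or_lt_of_le hER with h | h
      · rw [h, heR] at heE
        exact (Nat.pow_right_injective hpr.two_le heE).ge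
      · exact (hmono h heE heR).le
    have hE : R = E := (Subgroup.eq_of_le_of_card_ge hER (by
      rw [heR, heE]; exact le_of_eq (congrArg (p ^ ·) (by omega)))).symm
    have hR2 : eR = 2 := by omega
    -- any element of `P` outside `R` generates `P` with `R`
    have hgenP : ∀ b ∈ (P : Subgroup G), b ∉ R → R ⊔ Subgroup.zpowers b = P := by
      intro b hb hbR
      have hle : R ⊔ Subgroup.zpowers b ≤ (P : Subgroup G) := sup_le hRP (Subgroup.zpowers_le.2 hb)
      refine Subgroup.eq_of_le_of_card_ge hle ?_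
      obtain ⟨k, hk2, hk⟩ := (Nat.dvd_prime_pow hpr).1 (hcard ▸ Subgroup.card_dvd_of_le hle)
      have h3 : eR < k := hmono (lt_of_le_of_ne le_sup_left fun e => hbR (e.symm.le
        ((le_sup_right : Subgroup.zpowers b ≤ R ⊔ _) (Subgroup.mem_zpowers b)))) heR hk
      rw [hk, hcard]
      exact le_of_eq (congrArg (p ^ ·) (by omega))
    -- an element of `P` commuting with `w` lies in `R`
    have hnc : ∀ b ∈ (P : Subgroup G), b ∉ R → ∀ y ∈ R, b * y = y * b → y ∈ Zc := by
      intro b hb hbR y hy hby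
      refine (hZmem y).2 ⟨hRP hy, fun u hu => ?_⟩
      have hle : R ⊔ Subgroup.zpowers b ≤ Subgroup.centralizer ({y} : Set G) := by
        refine sup_le (fun r hr => Subgroup.mem_centralizer_singleton_iff.2 ?_)
          (Subgroup.zpowers_le.2 (Subgroup.mem_centralizer_singleton_iff.2 hby))
        obtain ⟨i, j, rfl⟩ := hE.le hr
        obtain ⟨k, l, rfl⟩ := hE.le hy
        exact ((((Commute.refl x).zpow_zpow i k).mul_right (hcxw.zpow_zpow i l)).mul_left
          ((hcxw.symm.zpow_zpow j k).mul_right ((Commute.refl w).zpow_zpow j l))).eq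
      rw [hgenP b hb hbR] at hle
      exact Subgroup.mem_centralizer_singleton_iff.1 (hle hu)
    have hwp : w ^ p = 1 := hRexp w hwR
    have hax : a * x * a⁻¹ = x := by rw [hxc a haP, mul_inv_cancel_right]
    obtain ⟨c, hc, hc1, haw⟩ : ∃ c ∈ Zc, c ≠ 1 ∧ a * w * a⁻¹ = w * c := by
      refine ⟨w⁻¹ * (a * w * a⁻¹), ?_, fun e => hwZ (hnc a haP haR w hwR ?_), by rw [mul_inv_cancel_left]⟩
      · have h1 := hcomm a haP w (hRP hwR)
        have h2 := ((hZmem _).1 h1).2 w (hRP hwR)
        rwa [show w⁻¹ * (a * w * a⁻¹) = w⁻¹ * (a * w * a⁻¹ * w⁻¹ * w) by group, ← h2,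
          inv_mul_cancel_left]
      · have h3 : a * w * a⁻¹ = w := (inv_mul_eq_one.1 e).symm
        exact mul_inv_eq_iff_eq_mul.1 h3
    have hpowconj : ∀ (g y z : G), g * z * g⁻¹ = z → g * y * g⁻¹ = y * z → ∀ k : ℕ,
        g ^ k * z * (g ^ k)⁻¹ = z ∧ g ^ k * y * (g ^ k)⁻¹ = y * z ^ k := by
      intro g y z hz hy k
      induction k with
      | zero => simp
      | succ k ih =>
        obtain ⟨i1, i2⟩ := ih
        refine ⟨?_, ?_⟩
        · calc g ^ (k + 1) * z * (g ^ (k + 1))⁻¹ = g * (g ^ k * z * (g ^ k)⁻¹) * g⁻¹ := by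
                rw [pow_succ']; group
            _ = z := by rw [i1, hz]
        · calc g ^ (k + 1) * y * (g ^ (k + 1))⁻¹ = g * (g ^ k * y * (g ^ k)⁻¹) * g⁻¹ := by
                rw [pow_succ']; group
            _ = (g * y * g⁻¹) * (g * z * g⁻¹) ^ k := by rw [i2, conj_pow]; group
            _ = y * z ^ (k + 1) := by rw [hy, hz, pow_succ', mul_assoc]
    have hRa : ∀ b ∈ (P : Subgroup G), b ∈ Subgroup.normalizer (R : Set G) := by
      intro b hb
      refine mem_normalizer_of_conj_le fun r hr => ?_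
      have h1 : b * r * b⁻¹ * r⁻¹ ∈ R := by
        have := hcomm b hb r (hRP hr)
        rw [← hgen x hx hx1] at this
        exact Subgroup.zpowers_le.2 hxR this
      simpa using mul_mem h1 hr
    -- `u` : w ↦ w x
    obtain ⟨k, hk⟩ : ∃ k : ℕ, c ^ k = x := by
      refine Submonoid.mem_powers_iff _ _ |>.1 (mem_powers_iff_mem_zpowers.2 ?_)
      rw [hgen c hc hc1]; exact hx
    set u := a ^ k
    have hcx : a * c * a⁻¹ = c := by rw [((hZmem c).1 hc).2 a haP, mul_inv_cancel_right]
    have hux : u * x * u⁻¹ = x := by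
      rw [← hk, ← conj_pow, (hpowconj a w c hcx haw k).1]
    have huw : u * w * u⁻¹ = w * x := by rw [← hk]; exact (hpowconj a w c hcx haw k).2
    -- `v` : x ↦ x w⁻¹
    set a' := n * a * n⁻¹ with ha'
    set y := n⁻¹ * x * n with hy
    have hyR : y ∈ R := by
      have := (Subgroup.mem_normalizer_iff.1 (inv_mem hn) x).1 hxR
      simpa using this
    have hnxy : n * y * n⁻¹ = x := by rw [hy]; group
    have hyZ : y ∉ Zc := by
      intro hyZ
      apply hwZ
      by_cases hy1 : y = 1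
      · rw [hy1] at hnxy; exact absurd (by simpa using hnxy.symm) hx1
      rw [← hgen y hyZ hy1] at hx
      obtain ⟨i, hi⟩ := Subgroup.mem_zpowers_iff.1 hx
      rw [hw, ← hi, ← conj_zpow, hnxy]
      exact Subgroup.zpow_mem _ (by rw [hgen y hyZ hy1] at hx; exact hx) i
    obtain ⟨d, hd, hd1, hay⟩ : ∃ d, d ∈ Subgroup.zpowers w ∧ d ≠ 1 ∧ a' * x * a'⁻¹ = x * d := by
      refine ⟨n * (y⁻¹ * (a * y * a⁻¹)) * n⁻¹, ?_, ?_, ?_⟩
      · have h1 := hcomm a haP y (hRP hyR)
        have h2 := ((hZmem _).1 h1).2 y (hRP hyR)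
        have h3 : y⁻¹ * (a * y * a⁻¹) = a * y * a⁻¹ * y⁻¹ := by
          rw [show y⁻¹ * (a * y * a⁻¹) = y⁻¹ * (a * y * a⁻¹ * y⁻¹ * y) by group, ← h2,
            inv_mul_cancel_left]
        rw [← hgen x hx hx1] at h1
        obtain ⟨i, hi⟩ := Subgroup.mem_zpowers_iff.1 h1
        exact ⟨i, by show w ^ i = _; rw [h3, ← hi, hw, conj_zpow]⟩
      · intro e
        rw [conj_eq_one_iff] at e
        exact hyZ (hnc a haP haR y hyR (mul_inv_eq_iff_eq_mul.1 (inv_mul_eq_one.1 e).symm))
      · rw [ha', ← hnxy]; group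
    have haw' : a' * w * a'⁻¹ = w := by
      conv_rhs => rw [hw, ← hax]
      rw [ha', hw]; group
    obtain ⟨l, hl⟩ : ∃ l : ℕ, d ^ l = w⁻¹ := by
      refine Submonoid.mem_powers_iff _ _ |>.1 (mem_powers_iff_mem_zpowers.2 ?_)
      have hw1 : w ≠ 1 := fun e => hwZ (e ▸ one_mem Zc)
      have he : Subgroup.zpowers d = Subgroup.zpowers w := by
        refine Subgroup.eq_of_le_of_card_ge (Subgroup.zpowers_le.2 hd) ?_
        rw [Nat.card_zpowers, Nat.card_zpowers, orderOf_eq_prime hwp hw1]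
        have h1 : orderOf d ∣ p := by
          have h := Subgroup.orderOf_dvd_natCard _ hd
          rwa [Nat.card_zpowers, orderOf_eq_prime hwp hw1] at h
        rcases (Nat.dvd_prime hpr).1 h1 with h | h
        · exact absurd (orderOf_eq_one_iff.1 h) hd1
        · omega
      rw [he]; exact inv_mem (Subgroup.mem_zpowers w)
    set v := a' ^ l
    have had : a' * d * a'⁻¹ = d := by
      obtain ⟨i, hi⟩ := Subgroup.mem_zpowers_iff.1 hd
      rw [← hi, ← conj_zpow, haw']
    have hvx : v * x * v⁻¹ = x * w⁻¹ := by rw [← hl]; exact (hpowconj a' x d had hay l).2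
    have hvw : v * w * v⁻¹ = w := by
      have h := (hpowconj a' x d had hay l).1
      have : (v * w * v⁻¹)⁻¹ = w⁻¹ := by
        rw [show (v * w * v⁻¹)⁻¹ = v * w⁻¹ * v⁻¹ by group, ← hl, ← conj_pow, h]
      exact inv_inj.1 this
    -- `q` = u v u and its square
    set q := u * v * u
    have hqx : q * x * q⁻¹ = w⁻¹ := by
      calc q * x * q⁻¹ = u * (v * (u * x * u⁻¹) * v⁻¹) * u⁻¹ := by simp only [q]; group
        _ = u * (x * w⁻¹) * u⁻¹ := by rw [hux, hvx]
        _ = (u * x * u⁻¹) * (u * w * u⁻¹)⁻¹ := by group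
        _ = w⁻¹ := by rw [hux, huw, mul_inv_rev, mul_inv_cancel_left]
    have hqw : q * w * q⁻¹ = x := by
      calc q * w * q⁻¹ = u * (v * (u * w * u⁻¹) * v⁻¹) * u⁻¹ := by simp only [q]; group
        _ = u * ((v * w * v⁻¹) * (v * x * v⁻¹)) * u⁻¹ := by rw [huw]; group
        _ = u * ((w * x) * w⁻¹) * u⁻¹ := by rw [hvw, hvx, mul_assoc w x]
        _ = u * x * u⁻¹ := by rw [← hcxw.eq, mul_inv_cancel_right]
        _ = x := hux
    set t := q * q
    have htx : t * x * t⁻¹ = x⁻¹ := by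
      calc t * x * t⁻¹ = (q * w * q⁻¹)⁻¹ := by
            rw [show (q * w * q⁻¹)⁻¹ = q * w⁻¹ * q⁻¹ by group, ← hqx]; simp only [t]; group
        _ = x⁻¹ := by rw [hqw]
    have htw : t * w * t⁻¹ = w⁻¹ := by
      calc t * w * t⁻¹ = q * x * q⁻¹ := by rw [← hqw]; simp only [t]; group
        _ = w⁻¹ := hqx
    have ha'N : a' ∈ Subgroup.normalizer (R : Set G) := mul_mem (mul_mem hn (hRa a haP)) (inv_mem hn)
    have hqN : q ∈ Subgroup.normalizer (R : Set G) :=
      mul_mem (mul_mem (pow_mem (hRa a haP) k) (pow_mem ha'N l)) (pow_mem (hRa a haP) k)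
    have htN : t ∈ Subgroup.normalizer (R : Set G) := mul_mem hqN hqN
    have htinv : ∀ r ∈ R, t * r * t⁻¹ = r⁻¹ := by
      intro r hr
      obtain ⟨i, j, rfl⟩ := hE.le hr
      rw [← conj_mul, ← conj_zpow, ← conj_zpow, htx, htw, inv_zpow, inv_zpow, mul_inv_rev,
        ((hcxw.zpow_zpow i j).inv_inv).eq]
    -- Frattini argument in `P C`
    set C := Subgroup.normalizer (R : Set G) ⊓ Subgroup.centralizer (R : Set G)
    have hNC : Subgroup.normalizer (R : Set G) ≤ Subgroup.normalizer (C : Set G) := by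
      intro g hg
      refine mem_normalizer_of_conj_le fun z hz => ⟨mul_mem (mul_mem hg hz.1) (Subgroup.inv_mem _ hg), ?_⟩
      refine Subgroup.mem_centralizer_iff.2 fun r hr => ?_
      have h1 := Subgroup.mem_centralizer_iff.1 hz.2 _
        ((Subgroup.mem_normalizer_iff.1 (Subgroup.inv_mem _ hg) r).1 hr)
      rw [inv_inv] at h1
      calc r * (g * z * g⁻¹) = g * (g⁻¹ * r * g * z) * g⁻¹ := by group
        _ = g * (z * (g⁻¹ * r * g)) * g⁻¹ := by rw [h1]
        _ = g * z * g⁻¹ * r := by group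
    have hPN : (P : Subgroup G) ≤ Subgroup.normalizer (C : Set G) := fun b hb => hNC (hRa b hb)
    have htP : (P : Subgroup G).map (MulAut.conj t).toMonoidHom ≤ (P : Subgroup G) ⊔ C := by
      conv_lhs => rw [← hgenP a haP haR]
      rw [Subgroup.map_sup, MonoidHom.map_zpowers, sup_le_iff, Subgroup.zpowers_le]
      refine ⟨?_, ?_⟩
      · rw [map_conj_eq_of_mem_normalizer htN]; exact hRP.trans le_sup_left
      · show t * a * t⁻¹ ∈ _
        rw [show t * a * t⁻¹ = a * (a⁻¹ * (t * a * t⁻¹)) by group]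
        refine Subgroup.mul_mem_sup haP ⟨mul_mem (Subgroup.inv_mem _ (hRa a haP))
          (mul_mem (mul_mem htN (hRa a haP)) (Subgroup.inv_mem _ htN)), ?_⟩
        refine Subgroup.mem_centralizer_iff.2 fun r hr => ?_
        have hconj : t * a * t⁻¹ * r * (t * a * t⁻¹)⁻¹ = a * r * a⁻¹ := by
          have h1 := htinv r hr
          have h2 : a * r * a⁻¹ ∈ R := (Subgroup.mem_normalizer_iff.1 (hRa a haP) r).1 hr
          have h3 := htinv _ (R.inv_mem h2)
          have h4 := htinv _ (R.inv_mem hr)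
          rw [inv_inv] at h3 h4
          have h5 : t⁻¹ * r * t = r⁻¹ := by
            conv_lhs => rw [← h4]
            group
          calc t * a * t⁻¹ * r * (t * a * t⁻¹)⁻¹ = t * (a * (t⁻¹ * r * t) * a⁻¹) * t⁻¹ := by group
            _ = t * (a * r * a⁻¹)⁻¹ * t⁻¹ := by rw [h5]; group
            _ = a * r * a⁻¹ := h3
        set e := t * a * t⁻¹
        calc r * (a⁻¹ * e) = a⁻¹ * (a * r * a⁻¹) * e := by group
          _ = a⁻¹ * (e * r * e⁻¹) * e := by rw [hconj]
          _ = a⁻¹ * e * r := by group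
    obtain ⟨m, hm, hle⟩ := CfsgLib.Fusion.exists_conj_le_of_sylow_relIndex
      (le_sup_left : (P : Subgroup G) ≤ (P : Subgroup G) ⊔ C) P.2
      (fun hd => P.not_dvd_index (hd.trans (Subgroup.relIndex_dvd_index_of_le le_sup_left)))
      (P.2.map _) htP
    rw [← SetLike.mem_coe, Subgroup.coe_mul_of_left_le_normalizer_right _ _ hPN] at hm
    obtain ⟨b, hb, c', hc', rfl⟩ := hm
    rw [CfsgLib.SZ.conj_smul_eq_map, map_conj_map_conj] at hle
    set s := c' * t
    have hs : ∀ r ∈ (P : Subgroup G), s * r * s⁻¹ ∈ (P : Subgroup G) := by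
      intro r hr
      have h1 := hle ⟨r, hr, rfl⟩
      have h2 := mul_mem (mul_mem (inv_mem hb) h1) hb
      have h3 : b⁻¹ * ((MulAut.conj (b * c' * t)).toMonoidHom r) * b = s * r * s⁻¹ := by
        simp [s, mul_assoc]
      rwa [h3] at h2
    have hsinv : ∀ r ∈ R, s * r * s⁻¹ = r⁻¹ := by
      intro r hr
      have h1 : c' * r⁻¹ * c'⁻¹ = r⁻¹ := by
        rw [← Subgroup.mem_centralizer_iff.1 hc'.2 r⁻¹ (R.inv_mem hr), mul_inv_cancel_right]
      conv_rhs => rw [← h1, ← htinv r hr]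
      simp [s, mul_assoc]
    -- the final contradiction
    set b' := s * a * s⁻¹ with hb'
    set e := a⁻¹ * b' with he'
    have heP : e ∈ (P : Subgroup G) := mul_mem (inv_mem haP) (hs a haP)
    have hecw : e * w = w * e := by
      have h1 : b' * w * b'⁻¹ = w * c := by
        have hcR : c ∈ R := Subgroup.zpowers_le.2 hxR (by rw [hgen x hx hx1]; exact hc)
        calc b' * w * b'⁻¹ = s * (a * (s⁻¹ * w * s) * a⁻¹) * s⁻¹ := by rw [hb']; group
          _ = s * (a * w⁻¹ * a⁻¹) * s⁻¹ := by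
              have h4 := hsinv _ (R.inv_mem hwR)
              rw [inv_inv] at h4
              conv_lhs => rw [← h4]
              group
          _ = (s * (w * c) * s⁻¹)⁻¹ := by rw [← haw]; group
          _ = w * c := by rw [hsinv _ (mul_mem hwR hcR), inv_inv]
      calc e * w = a⁻¹ * (b' * w * b'⁻¹) * b' := by rw [he']; group
        _ = a⁻¹ * (a * w * a⁻¹) * b' := by rw [h1, haw]
        _ = w * e := by rw [he']; group
    have heR' : e ∈ R := by
      by_contra h
      exact hwZ (hnc e heP h w hwR hecw)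
    have hep : e ^ p = 1 := hRexp e heR'
    have hc2 := hcomm e⁻¹ ((P : Subgroup G).inv_mem heP) a⁻¹ ((P : Subgroup G).inv_mem haP)
    have hbp : b' ^ p = a ^ p := by
      rw [show b' = a * e by rw [he', mul_inv_cancel_left],
        CfsgLib.LocalB.HSub.mul_pow_of_central (p := p) (a := a) (b := e) (N := p)
          ⟨(((hZmem _).1 (commutatorElement_def e⁻¹ a⁻¹ ▸ hc2)).2 a haP).symm,
           (((hZmem _).1 (commutatorElement_def e⁻¹ a⁻¹ ▸ hc2)).2 e heP).symm, by rw [hep]; simp⟩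
          ⟨dvd_rfl, hpr.dvd_choose_self two_ne_zero (lt_of_le_of_ne hpr.two_le (Ne.symm hp))⟩,
        hep, mul_one]
    have hapR : a ^ p ∈ R := by
      have := hpow a haP
      rw [← hgen x hx hx1] at this
      exact Subgroup.zpowers_le.2 hxR this
    have h2 : a ^ p = (a ^ p)⁻¹ := by
      conv_lhs => rw [← hbp, hb', conj_pow, hsinv _ hapR]
    have h3 : (a ^ p) ^ 2 = 1 := by rw [sq]; nth_rw 2 [h2]; exact mul_inv_cancel _
    have h4 : orderOf (a ^ p) ∣ 2 := orderOf_dvd_of_pow_eq_one h3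
    have h5 : orderOf (a ^ p) = p := orderOf_eq_prime (hRexp _ hapR) hap
    rw [h5] at h4
    exact hp ((Nat.prime_dvd_prime_iff_eq hpr Nat.prime_two).1 h4)
  refine ⟨hZP, fun x hx g hg => ?_⟩
  by_cases hx1 : x = 1
  · subst hx1; simp
  have hchain : ∀ (A : Subgroup G) (h : G), CfsgLib.Fusion.Conn P A h → ∀ z ∈ Zc, z ≠ 1 → z ∈ A →
      h⁻¹ * z * h ∈ Zc := by
    intro A h hh
    induction hh with
    | one A => intro z hz _ _; simpa using hz
    | step A Q y h _ hA hy _ ih =>
      intro z hz hz1 hzA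
      have h1 : y⁻¹ * z * y ∈ Zc := by
        simpa using key _ inf_le_left y⁻¹ (inv_mem hy) z hz hz1 (hA hzA)
      have h2 := ih _ h1 (fun e => hz1 (by
        have := congrArg (fun t => y * t * y⁻¹) e
        simpa [mul_assoc] using this))
        (CfsgLib.SZ.mem_conj_smul.2 (by simpa [mul_assoc] using hzA))
      simpa [mul_assoc] using h2
  have hconn := CfsgLib.Fusion.alperin (P := P) (A := Subgroup.zpowers x) (g := g⁻¹)
    (Subgroup.zpowers_le.2 (hZP hx)) (by
      rw [CfsgLib.SZ.conj_smul_eq_map, MonoidHom.map_zpowers, Subgroup.zpowers_le]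
      simpa using hg)
  have hfin := hchain _ _ hconn x hx hx1 (Subgroup.mem_zpowers x)
  rw [inv_inv] at hfin
  exact hfin

end Cfsg.Agent.S3053
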