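import Cfsg.Statements.S3054
import Cfsg.Agent.LocalB.ExtraPoints

set_option autoImplicit false
set_option linter.unusedVariables false
open Cfsg

namespace Cfsg.Agent.S3054

/-- Let p be an odd prime and G a finite group with a Sylow p-subgroup P that is extraspecial of order p³ and exponent p. Suppose P contains three distinct subgroups A of order p² (each is elementary abelian of rank 2) such that every automorphism of A of order p is induced by conjugation by an element of G; equivalently the automorphism group induced on A by its normalizer contains the special linear group of A. Then p ≤ 13. -/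
theorem result {G : Type*} [Group G] [Finite G]
    {p : ℕ} [Fact p.Prime] (hp : p ≠ 2) (P : Sylow p G) (hE : Cfsg.IsExtraspecial p ↥P)
    (hcard : Nat.card P = p ^ 3) (hexp : Monoid.exponent ↥P = p)
    (A : Fin 3 → Subgroup G) (hA : Function.Injective A) (hAP : ∀ i, A i ≤ (P : Subgroup G))
    (hAcard : ∀ i, Nat.card ↥(A i) = p ^ 2)
    (hSL : ∀ i, ∀ φ : MulAut ↥(A i), orderOf φ = p → ∃ g : G, ∀ a : ↥(A i), (φ a : G) = g * (a : G) * g⁻¹) :
    p ≤ 13 := by
  classical
  open CfsgLib.LocalB.ExtraAut CfsgLib.Dickson in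
  obtain ⟨F⟩ := exists_frame P hE hcard hexp
  by_contra hp13
  have hpp : p.Prime := Fact.out
  have h17 : 17 ≤ p := by
    by_contra h
    interval_cases p <;> norm_num at hpp
  choose hz a ha ha0 hsurj hmem using fun i => CfsgLib.LocalB.ExtraAut.exists_gen P F (hAP i) (hAcard i)
  have hpt : ∀ i, ∃ h ∈ (CfsgLib.LocalB.ExtraAut.rho P F).range, 6 ≤ orderOf h ∧
      h • CfsgLib.LocalB.ExtraAut.pt (F.c (a i)) = CfsgLib.LocalB.ExtraAut.pt (F.c (a i)) := by
    intro i
    obtain ⟨g, hg1, hg2⟩ := CfsgLib.LocalB.ExtraAut.exists_move P F (hAP i) (hz i) (ha i) (ha0 i) (hsurj i) (hSL i)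
    obtain ⟨h, hh, hdvd, hfix⟩ := CfsgLib.LocalB.ExtraAut.exists_point P F (hAP i (ha i)) (ha0 i) one_ne_zero hg1 hg2
    obtain ⟨n, rfl⟩ := hh
    exact ⟨_, ⟨n, rfl⟩, CfsgLib.LocalB.ExtraAut.order_ge_six (orderOf_pos_iff.2
      ((CfsgLib.LocalB.ExtraAut.rho P F).isOfFinOrder (isOfFinOrder_of_finite n))) hdvd (Or.inl h17), hfix⟩
  haveI : Finite (CfsgLib.LocalB.ExtraAut.rho P F).range :=
    Finite.of_surjective _ (CfsgLib.LocalB.ExtraAut.rho P F).rangeRestrict_surjective
  refine CfsgLib.LocalB.PGLPoints.two_points p _ (CfsgLib.LocalB.ExtraAut.not_dvd_card_range P F)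
    (fun i => CfsgLib.LocalB.ExtraAut.pt (F.c (a i))) (fun i j hij => hA ?_) hpt
  have hd := CfsgLib.LocalB.ExtraAut.pt_inj (ha0 i) hij
  refine (Subgroup.eq_of_le_of_card_ge (fun x hx => ?_) (by rw [hAcard, hAcard])).symm
  obtain ⟨v, rfl⟩ := hsurj j x hx
  exact CfsgLib.LocalB.ExtraAut.E_mem P F (hz i) (hmem i _ (hAP j (ha j)) hd) v

end Cfsg.Agent.S3054
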