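import Cfsg.Statements.S3055
import Cfsg.Agent.LocalB.ExtraPoints

set_option autoImplicit false
set_option linter.unusedVariables false
open Cfsg

namespace Cfsg.Agent.S3055

/-- Let p be an odd prime and G a finite group with a Sylow p-subgroup P that is extraspecial of order p³ and exponent p. If all nonidentity elements of P are conjugate in G, then p ≤ 7. -/
theorem result {G : Type*} [Group G] [Finite G]
    {p : ℕ} [Fact p.Prime] (hp : p ≠ 2) (P : Sylow p G) (hE : Cfsg.IsExtraspecial p ↥P)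
    (hcard : Nat.card P = p ^ 3) (hexp : Monoid.exponent ↥P = p)
    (hconj : ∀ x y : ↥P, x ≠ 1 → y ≠ 1 → ∃ g : G, g * (x : G) * g⁻¹ = (y : G)) :
    p ≤ 7 := by
  classical
  obtain ⟨F⟩ := CfsgLib.LocalB.ExtraAut.exists_frame P hE hcard hexp
  by_contra hp7
  have hpp : p.Prime := Fact.out
  have hcases : 17 ≤ p ∨ p = 11 ∨ p = 13 := by
    by_contra h
    push Not at h
    obtain ⟨h1, h2, h3⟩ := h
    interval_cases p <;> first | omega | (norm_num at hpp)
  haveI : Finite (CfsgLib.LocalB.ExtraAut.rho P F).range :=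
    Finite.of_surjective _ (CfsgLib.LocalB.ExtraAut.rho P F).rangeRestrict_surjective
  have hpt : ∀ v : Fin 2 → ZMod p, v ≠ 0 → ∃ h ∈ (CfsgLib.LocalB.ExtraAut.rho P F).range,
      0 < orderOf h ∧ p - 1 ∣ 3 * orderOf h ∧
      h • CfsgLib.LocalB.ExtraAut.pt v = CfsgLib.LocalB.ExtraAut.pt v := by
    intro v hv
    obtain ⟨a, ha, rfl⟩ := F.exists_c v
    obtain ⟨g, k, hk, hg1, hg2⟩ := CfsgLib.LocalB.ExtraAut.exists_move_of_conj P F hconj ha hv
    obtain ⟨h, hh, hdvd, hfix⟩ := CfsgLib.LocalB.ExtraAut.exists_point P F ha hv hk hg1 hg2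
    obtain ⟨n, rfl⟩ := hh
    exact ⟨_, ⟨n, rfl⟩, orderOf_pos_iff.2
      ((CfsgLib.LocalB.ExtraAut.rho P F).isOfFinOrder (isOfFinOrder_of_finite n)), hdvd, hfix⟩
  rcases eq_or_ne p 13 with h13 | h13
  swap
  · let v : Fin 3 → Fin 2 → ZMod p := ![![1, 0], ![0, 1], ![1, 1]]
    have hv : ∀ i, v i ≠ 0 := by
      intro i h
      have h0 := congrFun h 0
      have h1 := congrFun h 1
      fin_cases i <;> simp [v] at h0 h1
    refine CfsgLib.LocalB.PGLPoints.two_points p _ (CfsgLib.LocalB.ExtraAut.not_dvd_card_range P F)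
      (fun i => CfsgLib.LocalB.ExtraAut.pt (v i)) (fun i j hij => ?_) fun i => ?_
    · have hd := CfsgLib.LocalB.ExtraAut.pt_inj (hv i) hij
      fin_cases i <;> fin_cases j <;> simp [v, CfsgLib.LocalB.ExtraAut.det2] at hd ⊢
    · obtain ⟨h, hh, hpos, hdvd, hfix⟩ := hpt _ (hv i)
      refine ⟨h, hh, CfsgLib.LocalB.ExtraAut.order_ge_six hpos hdvd ?_, hfix⟩
      rcases hcases with h | h | h <;> omega
  let v : Option (ZMod p) → Fin 2 → ZMod p := fun o => o.elim ![1, 0] fun i => ![i, 1]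
  have hv : ∀ o, v o ≠ 0 := by
    intro o h
    have h0 := congrFun h 0
    have h1 := congrFun h 1
    cases o <;> simp [v] at h0 h1
  have hinj : Function.Injective fun o => CfsgLib.LocalB.ExtraAut.pt (v o) := by
    intro o o' he
    have hd := CfsgLib.LocalB.ExtraAut.pt_inj (hv o) he
    cases o <;> cases o' <;> simp [v, CfsgLib.LocalB.ExtraAut.det2, sub_eq_zero] at hd ⊢
    exact hd
  have h12 := CfsgLib.LocalB.PGLPoints.twelve_points p _ (CfsgLib.LocalB.ExtraAut.not_dvd_card_range P F)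
    ((Finset.univ : Finset (Option (ZMod p))).image fun o => CfsgLib.LocalB.ExtraAut.pt (v o)) ?_
  · rw [Finset.card_image_of_injective _ hinj, Finset.card_univ, Fintype.card_option, ZMod.card] at h12
    omega
  intro z hz
  obtain ⟨o, -, rfl⟩ := Finset.mem_image.1 hz
  obtain ⟨h, hh, hpos, hdvd, hfix⟩ := hpt _ (hv o)
  obtain ⟨c, hc⟩ : 4 ∣ orderOf h := (Nat.Coprime.dvd_mul_left (by norm_num : Nat.Coprime 4 3)).1
    ((show 4 ∣ p - 1 from ⟨3, by omega⟩).trans hdvd)
  refine ⟨h ^ c, Subgroup.pow_mem _ hh c, ?_, ?_⟩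
  · rw [orderOf_pow_of_dvd (by rintro rfl; omega) ⟨4, by rw [hc, mul_comm]⟩, hc,
      Nat.mul_div_cancel _ (by omega)]
  · exact MulAction.mem_stabilizer_iff.1 (pow_mem (MulAction.mem_stabilizer_iff.2 hfix) c)

end Cfsg.Agent.S3055
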