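import Cfsg.Statements.S3056
import Cfsg.Agent.LocalB.Embedded

set_option autoImplicit false
set_option linter.unusedVariables false
open Cfsg CfsgLib.LocalB

namespace Cfsg.Agent.S3056

/-- Let G be a finite group and p a prime. Join two Sylow p-subgroups when they are distinct and meet nontrivially. This graph on the Sylow p-subgroups is disconnected (the Sylow p-subgroups are not chain-connected through nontrivial intersections) if and only if G has a strongly p-embedded subgroup in the classical sense: a proper subgroup H of order divisible by p such that H ∩ gHg⁻¹ has order prime to p for every g outside H. -/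
theorem result {G : Type*} [Group G] [Finite G]
    (p : ℕ) [Fact p.Prime] :
    ¬ Cfsg.IsSylowChainConnected p G ↔
      ∃ H : Subgroup G, H ≠ ⊤ ∧ p ∣ Nat.card H ∧
        ∀ g : G, g ∉ H → ¬ p ∣ Nat.card ↥(H ⊓ H.map (MulAut.conj g).toMonoidHom) := by
  constructor
  · intro hdis
    classical
    let R : Sylow p G → Sylow p G → Prop := fun S T => (S : Subgroup G) ⊓ (T : Subgroup G) ≠ ⊥
    have hconn : ¬ ∀ S T : Sylow p G, Relation.ReflTransGen R S T := by
      intro hall
      apply hdis
      intro S T
      by_cases hST : S = T
      · subst hST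
        exact ⟨0, fun _ => S, rfl, rfl, fun i => inf_le_left, fun i => i.elim0⟩
      by_cases hi : (S : Subgroup G) ⊓ (T : Subgroup G) = ⊥
      · suffices ∃ (n : ℕ) (c : Fin (n + 1) → Sylow p G), c 0 = S ∧ c (Fin.last n) = T ∧
            ∀ i : Fin n, c i.castSucc ≠ c i.succ ∧
              (c i.castSucc : Subgroup G) ⊓ (c i.succ : Subgroup G) ≠ ⊥ by
          obtain ⟨n, c, h0, h1, h2⟩ := this
          exact ⟨n, c, h0, h1, fun i => by rw [hi]; exact bot_le, h2⟩
        refine Relation.ReflTransGen.head_induction_on (motive := fun S _ =>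
          ∃ (n : ℕ) (c : Fin (n + 1) → Sylow p G), c 0 = S ∧ c (Fin.last n) = T ∧
            ∀ i : Fin n, c i.castSucc ≠ c i.succ ∧
              (c i.castSucc : Subgroup G) ⊓ (c i.succ : Subgroup G) ≠ ⊥)
          (hall S T) ⟨0, fun _ => T, rfl, rfl, fun i => i.elim0⟩ ?_
        intro A B hAB _ ih
        obtain ⟨n, c, h0, h1, h2⟩ := ih
        by_cases hAB' : A = B
        · subst hAB'; exact ⟨n, c, h0, h1, h2⟩
        refine ⟨n + 1, Fin.cons A c, Fin.cons_zero _ _, ?_, ?_⟩
        · rw [← Fin.succ_last, Fin.cons_succ]; exact h1
        intro i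
        induction i using Fin.cases with
        | zero => rw [Fin.castSucc_zero, Fin.cons_zero, Fin.cons_succ, h0]; exact ⟨hAB', hAB⟩
        | succ j => rw [← Fin.succ_castSucc, Fin.cons_succ, Fin.cons_succ]; exact h2 j
      · refine ⟨1, ![S, T], rfl, rfl, fun i => ?_, fun i => ?_⟩
        · fin_cases i
          · exact inf_le_left
          · exact inf_le_right
        · fin_cases i
          exact ⟨hST, hi⟩
    push Not at hconn
    obtain ⟨S, T, hST⟩ := hconn
    have hRsymm : ∀ A B, Relation.ReflTransGen R A B → Relation.ReflTransGen R B A := by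
      intro A B h
      induction h with
      | refl => exact .refl
      | tail _ hbc ih => exact .head (by simpa [R, inf_comm] using hbc) ih
    have hstep : ∀ (A : Sylow p G) (B : Sylow p G) (g : G),
        Relation.ReflTransGen R A B → Relation.ReflTransGen R (g • A) (g • B) := by
      intro A B g h
      induction h with
      | refl => exact .refl
      | @tail b c _ hbc ih =>
        refine ih.tail fun h0 => hbc ?_
        have hinj : Function.Injective (MulAut.conj g).toMonoidHom := (MulAut.conj g).injective
        have : ((b : Subgroup G) ⊓ (c : Subgroup G)).map (MulAut.conj g).toMonoidHom = ⊥ := by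
          rw [eq_bot_iff, ← h0]
          exact Subgroup.map_inf_le _ _ _
        exact (Subgroup.map_eq_bot_iff_of_injective _ hinj).mp this
    let H : Subgroup G :=
      { carrier := {g | Relation.ReflTransGen R (g • S) S}
        one_mem' := by simpa using Relation.ReflTransGen.refl
        mul_mem' := by
          intro a b ha hb
          show Relation.ReflTransGen R ((a * b) • S) S
          rw [mul_smul]; exact (hstep _ _ a hb).trans ha
        inv_mem' := by
          intro a ha
          have := hstep _ _ a⁻¹ ha
          rw [inv_smul_smul] at this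
          exact hRsymm _ _ this }
    have hSH : (S : Subgroup G) ≤ H := by
      intro s hs
      show Relation.ReflTransGen R (s • S) S
      rw [Sylow.smul_eq_iff_mem_normalizer.mpr (Subgroup.le_normalizer hs)]
    refine ⟨H, ?_, ?_, ?_⟩
    · intro htop
      obtain ⟨g, rfl⟩ := MulAction.exists_smul_eq G S T
      have : g ∈ H := htop ▸ Subgroup.mem_top g
      exact hST (hRsymm _ _ this)
    · refine dvd_trans (dvd_card_of_ne_bot S.isPGroup' ?_) (Subgroup.card_dvd_of_le hSH)
      intro h0
      apply hST
      have : S = T := by
        refine Sylow.ext (h0.trans (Subgroup.eq_bot_of_card_eq _ ?_).symm)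
        rw [Sylow.card_eq_multiplicity T, ← Sylow.card_eq_multiplicity S]
        rw [h0, Subgroup.card_bot]
      rw [this]
    · intro g hg hdvd
      obtain ⟨x, ⟨hxH, hxg⟩, hox⟩ := exists_pgroup_of_dvd hdvd
      replace hxg : g⁻¹ * x * g ∈ H := mem_map_conj.mp hxg
      have key : ∀ y ∈ H, orderOf y = p → ∀ U : Sylow p G, y ∈ (U : Subgroup G) →
          Relation.ReflTransGen R U S := by
        intro y hy hoy U hyU
        have hyne : y ≠ 1 := fun h => by
          rw [h, orderOf_one] at hoy; exact (Fact.out : p.Prime).one_lt.ne hoy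
        have hp1 : IsPGroup p ((Subgroup.zpowers y).subgroupOf H) :=
          IsPGroup.comap_subtype (isPGroup_zpowers ⟨1, by rw [hoy, pow_one]⟩)
        obtain ⟨V, hV⟩ := hp1.exists_le_sylow
        obtain ⟨h, hh⟩ := MulAction.exists_smul_eq H (S.subtype hSH) V
        have hyV : y ∈ ((h : G) • S : Sylow p G).toSubgroup := by
          have h1 : (⟨y, hy⟩ : H) ∈ (V : Subgroup H) := hV (Subgroup.mem_zpowers y)
          rw [← hh, Sylow.smul_subtype] at h1
          exact h1
        refine (Relation.ReflTransGen.single ?_).trans h.2
        intro h0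
        have : y ∈ (U : Subgroup G) ⊓ ((h : G) • S : Sylow p G).toSubgroup := ⟨hyU, hyV⟩
        exact hyne (by rwa [h0, Subgroup.mem_bot] at this)
      apply hg
      obtain ⟨U, hU⟩ := (isPGroup_zpowers (p := p) ⟨1, by rw [hox, pow_one]⟩ :
        IsPGroup p (Subgroup.zpowers x)).exists_le_sylow
      have hxU := hU (Subgroup.mem_zpowers x)
      have e1 := key x hxH hox U hxU
      have hy' : g⁻¹ * x * g ∈ ((g⁻¹ • U : Sylow p G) : Subgroup G) :=
        ⟨x, hxU, by simp [mul_assoc]⟩
      have e2 := hstep _ _ g (key _ hxg (by
        rw [← hox]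
        have := orderOf_injective (MulAut.conj g⁻¹).toMonoidHom (MulAut.conj g⁻¹).injective x
        simpa using this) _ hy')
      rw [smul_inv_smul] at e2
      exact (hRsymm _ _ e2).trans e1
  · rintro ⟨H, hHtop, hpH, hse⟩ hconn
    have hH : MeetsPrime p H := hse
    obtain ⟨S, hS⟩ := hH.exists_sylow_le hpH
    apply hHtop
    rw [eq_top_iff]
    intro g _
    refine hH.mem_of_sylow_le hpH hS ?_
    obtain ⟨n, c, h0, h1, -, h2⟩ := hconn S (g • S)
    have : ∀ i, (c i : Subgroup G) ≤ H := by
      intro i
      induction i using Fin.induction with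
      | zero => rw [h0]; exact hS
      | succ j ih =>
        refine hH.pgroup_le (c j.succ).isPGroup' fun hbot => (h2 j).2 ?_
        rw [eq_bot_iff, ← hbot]
        exact le_inf inf_le_right (inf_le_left.trans ih)
    have := this (Fin.last n)
    rw [h1] at this
    exact this

end Cfsg.Agent.S3056
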