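import Cfsg.Statements.S3057
import Cfsg.Agent.S3056
import Cfsg.Agent.ZJ.ControlCore
import Cfsg.Agent.Signalizer.Basic
import Cfsg.Agent.InvChar.UniqueInvolution
import Cfsg.Agent.PLocal.PConstrained
import Cfsg.Agent.Solvable.Fitting

set_option autoImplicit false
set_option linter.unusedVariables false
open Cfsg CfsgLib.LocalB

namespace Cfsg.Agent.S3057

/-- Let p be a prime and G a finite p-solvable group of order divisible by p, with Sylow p-subgroup P. Then the Sylow p-subgroups of G fail to be chain-connected through nontrivial intersections (equivalently, G has a strongly p-embedded subgroup) if and only if O_p(G) = 1 and P is cyclic or, for p = 2, generalized quaternion. -/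
theorem result {G : Type*} [Group G] [Finite G]
    (p : ℕ) [Fact p.Prime] (hdiv : p ∣ Nat.card G) (hsol : Cfsg.IsPSolvable p G) (P : Sylow p G) :
    ¬ Cfsg.IsSylowChainConnected p G ↔
      Cfsg.pCore p G = ⊥ ∧ (IsCyclic ↥P ∨ (p = 2 ∧ ∃ n : ℕ, Nonempty (↥P ≃* QuaternionGroup (2 ^ n)))) := by
  have hpr : p.Prime := Fact.out
  classical
  constructor
  · intro hdis
    obtain ⟨H, hHtop, hpH, hse⟩ := (Cfsg.Agent.S3056.result p).1 hdis
    have hH : MeetsPrime p H := hse
    obtain ⟨S, hS⟩ := hH.exists_sylow_le hpH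
    have hnorm : ∀ N : Subgroup G, N.Normal → N ≤ H → IsPGroup p N → N = ⊥ := by
      intro N hN hNH hNp
      by_contra hne
      apply hHtop
      rw [eq_top_iff, ← (Subgroup.normalizer_eq_top (H := N))]
      exact hH.normalizer_le hNH hNp hne
    have hO : Cfsg.pCore p G = ⊥ := by
      refine hnorm _ inferInstance ?_ (CfsgLib.Solvable.isPGroup_pCore p)
      exact (CfsgLib.ZJ.pCore_le_sylow S).trans hS
    refine ⟨hO, ?_⟩
    suffices hu : ∀ a b : ↥(P : Subgroup G), orderOf a = p → orderOf b = p → b ∈ Subgroup.zpowers a by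
      rcases CfsgLib.UniqueInvol.cyclic_or_quaternion P.isPGroup' hu with h | ⟨h2, n, -, hn⟩
      · exact Or.inl h
      · exact Or.inr ⟨h2, n, hn⟩
    by_contra hu
    push Not at hu
    obtain ⟨a, b, ha, hb, hab⟩ := hu
    obtain ⟨g, hg⟩ := MulAction.exists_smul_eq G P S
    haveI : Nontrivial ↥(P : Subgroup G) :=
      ⟨a, 1, fun e => hpr.one_lt.ne (by rw [← ha, e, orderOf_one])⟩
    obtain ⟨z, hz⟩ := exists_prime_orderOf_dvd_card' (G := Subgroup.center ↥(P : Subgroup G)) p
      (dvd_card_of_ne_bot (P.isPGroup'.to_subgroup _)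
        ((Subgroup.nontrivial_iff_ne_bot _).1 P.isPGroup'.center_nontrivial))
    obtain ⟨c, hc, hcz⟩ : ∃ c : ↥(P : Subgroup G), orderOf c = p ∧
        c ∉ Subgroup.zpowers (z : ↥(P : Subgroup G)) := by
      by_contra hno
      push Not at hno
      apply hab
      have h1 := hno a ha
      have h2 := hno b hb
      have he : Subgroup.zpowers a = Subgroup.zpowers (z : ↥(P : Subgroup G)) := by
        refine Subgroup.eq_of_le_of_card_ge (Subgroup.zpowers_le.2 h1) ?_
        rw [Nat.card_zpowers, Nat.card_zpowers, ha, Subgroup.orderOf_coe, hz]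
      rw [he]; exact h2
    set φ := (MulAut.conj g).toMonoidHom.comp (P : Subgroup G).subtype with hφ
    have hφinj : Function.Injective φ :=
      (MulAut.conj g).injective.comp (P : Subgroup G).subtype_injective
    have hφS : ∀ u, φ u ∈ (S : Subgroup G) := fun u => hg ▸ ⟨u, u.2, rfl⟩
    have hzp : orderOf (φ z) = p := by rw [orderOf_injective φ hφinj, Subgroup.orderOf_coe, hz]
    have hcp : orderOf (φ c) = p := by rw [orderOf_injective φ hφinj, hc]
    have hcomm : Commute (φ z) (φ c) :=
      (show Commute (z : ↥(P : Subgroup G)) c from (Subgroup.mem_center_iff.1 z.2 c).symm).map φ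
    set x := φ c with hx
    set y := φ z with hy
    let A : Subgroup G :=
      { carrier := {u | ∃ i j : ℤ, u = y ^ i * x ^ j}
        one_mem' := ⟨0, 0, by simp⟩
        mul_mem' := by
          rintro _ _ ⟨i, j, rfl⟩ ⟨k, l, rfl⟩
          exact ⟨i + k, j + l, by rw [zpow_add, zpow_add, (hcomm.zpow_zpow k j).symm.mul_mul_mul_comm]⟩
        inv_mem' := by
          rintro _ ⟨i, j, rfl⟩
          exact ⟨-i, -j, by rw [mul_inv_rev, ← zpow_neg, ← zpow_neg, ((hcomm.zpow_zpow (-i) (-j))).eq]⟩ }
    have hel : Cfsg.IsElementaryAbelian p A := by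
      refine ⟨⟨⟨fun u v => Subtype.ext ?_⟩⟩, ?_⟩
      · obtain ⟨i, j, hu⟩ := u.2
        obtain ⟨k, l, hv⟩ := v.2
        show (u : G) * v = v * u
        rw [hu, hv]
        exact ((((Commute.refl y).zpow_zpow i k).mul_right (hcomm.zpow_zpow i l)).mul_left
          ((hcomm.symm.zpow_zpow j k).mul_right ((Commute.refl x).zpow_zpow j l))).eq
      · rintro u ⟨i, j, rfl⟩
        rw [(hcomm.zpow_zpow i j).mul_pow, ← zpow_natCast, ← zpow_natCast (x ^ j), zpow_comm,
          zpow_comm x j, zpow_natCast, zpow_natCast, orderOf_dvd_iff_pow_eq_one.1 hzp.dvd,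
          orderOf_dvd_iff_pow_eq_one.1 hcp.dvd, one_zpow, one_zpow, one_mul]
    have hcard : p ^ 2 ≤ Nat.card A := by
      have hxy : x ∉ Subgroup.zpowers y := by
        rintro ⟨i, hi⟩
        exact hcz ⟨i, hφinj (by rw [map_zpow]; exact hi)⟩
      have := CfsgLib.Signalizer.card_sup_zpowers hel (B := Subgroup.zpowers y)
        (Subgroup.zpowers_le.2 ⟨1, 0, by simp⟩) (a := x) ⟨0, 1, by simp⟩ hxy
      rw [Nat.card_zpowers, hzp] at this
      rw [sq, ← this]
      exact Subgroup.card_le_of_le
        (sup_le (Subgroup.zpowers_le.2 ⟨0, 1, by simp⟩) (Subgroup.zpowers_le.2 ⟨1, 0, by simp⟩))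
    have hAS : A ≤ (S : Subgroup G) := by
      rintro _ ⟨i, j, rfl⟩
      exact mul_mem (Subgroup.zpow_mem _ (hφS _) i) (Subgroup.zpow_mem _ (hφS _) j)
    set K := Cfsg.pPrimeCore p G with hK
    have hKc : (Nat.card K).Coprime p := CfsgLib.Solvable.coprime_card_pPrimeCore p
    have hKH : K ≤ H := by
      refine CfsgLib.Signalizer.le_of_forall_centralizer hel le_rfl hcard
        (by rw [Subgroup.normalizer_eq_top]; exact le_top)
        (fun hd => hpr.coprime_iff_not_dvd.1 hKc.symm hd) fun e he he1 => ?_
      refine inf_le_right.trans (le_trans ?_ (hH.normalizer_le (Subgroup.zpowers_le.2 (hS (hAS he)))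
        (S.isPGroup'.to_le (Subgroup.zpowers_le.2 (hAS he))) (by simpa using he1)))
      rw [← Subgroup.centralizer_closure, ← Subgroup.zpowers_eq_closure]
      exact Subgroup.centralizer_le_normalizer _
    have hKtop : K ≠ ⊤ := fun e => by
      rw [e, Subgroup.card_top] at hKc
      exact hpr.coprime_iff_not_dvd.1 hKc.symm hdiv
    haveI : Nontrivial (G ⧸ K) := QuotientGroup.nontrivial_iff.2 hKtop
    rcases CfsgLib.PConstrained.exists_core_ne_bot
      (CfsgLib.PConstrained.isPSolvable_map _ (QuotientGroup.mk'_surjective K) hsol) with hne | hne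
    · apply hne
      set R := (Cfsg.pCore p (G ⧸ K)).comap (QuotientGroup.mk' K) with hR
      haveI : R.Normal := (inferInstance : (Cfsg.pCore p (G ⧸ K)).Normal).comap _
      obtain ⟨Q⟩ : Nonempty (Sylow p R) := inferInstance
      have hfr := Sylow.normalizer_sup_eq_top Q
      have hQp : IsPGroup p ((Q : Subgroup R).map R.subtype) := Q.isPGroup'.map _
      have hQK : R = ((Q : Subgroup R).map R.subtype) ⊔ K := by
        have hKR : K ≤ R := by
          intro u hu
          rw [hR, Subgroup.mem_comap, QuotientGroup.mk'_apply, (QuotientGroup.eq_one_iff u).2 hu]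
          exact one_mem _
        refine le_antisymm ?_ (sup_le (Subgroup.map_subtype_le _) hKR)
        rw [← Subgroup.subgroupOf_eq_top, ← Subgroup.index_eq_one]
        refine Nat.eq_one_of_dvd_coprimes (a := (Q : Subgroup R).index) (b := (K.subgroupOf R).index) ?_
          (Subgroup.index_dvd_of_le fun u hu => (le_sup_left : _ ≤ _ ⊔ K) ⟨u, hu, rfl⟩)
          (Subgroup.index_dvd_of_le fun u hu => (le_sup_right : K ≤ ((Q : Subgroup R).map R.subtype) ⊔ K) hu)
        obtain ⟨k, hk⟩ : ∃ k, (K.subgroupOf R).index = p ^ k := by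
          have e : (K.subgroupOf R).index = Nat.card (Cfsg.pCore p (G ⧸ K)) := by
            have := Subgroup.relIndex_comap (⊥ : Subgroup (G ⧸ K)) (QuotientGroup.mk' K) R
            rw [MonoidHom.comap_bot, QuotientGroup.ker_mk', hR,
              Subgroup.map_comap_eq_self_of_surjective (QuotientGroup.mk'_surjective K),
              Subgroup.relIndex_bot_left] at this
            exact this
          rw [e]; exact (CfsgLib.Solvable.isPGroup_pCore p).exists_card_eq
        rw [hk]
        exact ((hpr.coprime_iff_not_dvd.2 Q.not_dvd_index).symm).pow_right k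
      -- conjugate `Q` into `S`
      obtain ⟨U, hU⟩ := hQp.exists_le_sylow
      obtain ⟨m, hm⟩ := MulAction.exists_smul_eq G U S
      set Q' := ((Q : Subgroup R).map R.subtype).map (MulAut.conj m).toMonoidHom
      have hQ'S : Q' ≤ (S : Subgroup G) := hm ▸ Subgroup.map_mono hU
      have hQ'R : R = Q' ⊔ K := by
        have h1 : R.map (MulAut.conj m).toMonoidHom = R :=
          map_conj_eq_of_mem_normalizer (by rw [Subgroup.normalizer_eq_top]; trivial)
        have h2 : K.map (MulAut.conj m).toMonoidHom = K :=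
          map_conj_eq_of_mem_normalizer (by rw [Subgroup.normalizer_eq_top]; trivial)
        rw [← h1]
        nth_rw 1 [hQK]
        rw [Subgroup.map_sup, h2]
      have hQ'ne : Q' ≠ ⊥ := by
        intro e
        apply hne
        rw [← Subgroup.map_comap_eq_self_of_surjective (QuotientGroup.mk'_surjective K) (Cfsg.pCore p (G ⧸ K)),
          ← hR, hQ'R, e, bot_sup_eq, QuotientGroup.map_mk'_self]
      exfalso
      apply hHtop
      rw [eq_top_iff]
      have hN := hH.normalizer_le (hQ'S.trans hS) (hQp.map _) hQ'ne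
      have hRH : R ≤ H := hQ'R.le.trans (sup_le (hQ'S.trans hS) hKH)
      intro u _
      obtain ⟨v, hv, r, hr, rfl⟩ : ∃ v ∈ Subgroup.normalizer (Q' : Set G), ∃ r ∈ R, v * r = u := by
        have htop : Subgroup.normalizer (Q' : Set G) ⊔ R = ⊤ := by
          have h0 := congrArg (Subgroup.map (MulAut.conj m).toMonoidHom) hfr
          rw [Subgroup.map_sup, Subgroup.map_top_of_surjective _ (MulAut.conj m).surjective,
            map_conj_eq_of_mem_normalizer (H := R) (by rw [Subgroup.normalizer_eq_top]; trivial)] at h0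
          rw [← h0]
          congr 1
          exact (Subgroup.map_equiv_normalizer_eq _ (MulAut.conj m)).symm
        have hu : u ∈ Subgroup.normalizer (Q' : Set G) ⊔ R := htop ▸ trivial
        rw [← SetLike.mem_coe, Subgroup.mul_normal] at hu
        exact hu
      exact mul_mem (hN hv) (hRH hr)
    · exact hne (CfsgLib.Fitting.pPrimeCore_quotient_eq_bot p)
  · rintro ⟨hO, hP⟩
    refine (Cfsg.Agent.S3056.result p).2 ?_
    have hu : ∀ a b : ↥(P : Subgroup G), orderOf a = p → orderOf b = p → b ∈ Subgroup.zpowers a := by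
      intro a b ha hb
      rcases hP with hcyc | ⟨h2, n, ⟨e⟩⟩
      · haveI : IsCyclic ↥(P : Subgroup G) := hcyc
        letI := IsCyclic.commGroup (α := ↥(P : Subgroup G))
        haveI := Fintype.ofFinite ↥(P : Subgroup G)
        set W := (powMonoidHom p : ↥(P : Subgroup G) →* ↥(P : Subgroup G)).ker
        have hW : Nat.card W ≤ p := by
          rw [Nat.card_eq_fintype_card, Fintype.card_subtype]
          refine le_trans (le_of_eq ?_) (IsCyclic.card_pow_eq_one_le (α := ↥(P : Subgroup G)) hpr.pos)
          congr 1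
          ext u
          simp [W, MonoidHom.mem_ker]
        have he : Subgroup.zpowers a = W := by
          refine Subgroup.eq_of_le_of_card_ge (Subgroup.zpowers_le.2 ?_) (by rw [Nat.card_zpowers, ha]; exact hW)
          exact MonoidHom.mem_ker.2 (orderOf_dvd_iff_pow_eq_one.1 ha.dvd)
        rw [he]
        exact MonoidHom.mem_ker.2 (orderOf_dvd_iff_pow_eq_one.1 hb.dvd)
      · subst h2
        have huniq : ∀ x : QuaternionGroup (2 ^ n), orderOf x = 2 →
            x = QuaternionGroup.a ((2 ^ n : ℕ) : ZMod (2 * 2 ^ n)) := by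
          haveI : NeZero (2 ^ n) := ⟨by positivity⟩
          intro x hx
          rcases x with i | i
          · have h2 := pow_orderOf_eq_one (QuaternionGroup.a i)
            rw [hx, pow_two, QuaternionGroup.a_mul_a, QuaternionGroup.one_def,
              QuaternionGroup.a.injEq, ← two_mul] at h2
            obtain ⟨k, hk, rfl⟩ : ∃ k : ℕ, k < 2 * 2 ^ n ∧ (k : ZMod (2 * 2 ^ n)) = i :=
              ⟨i.val, ZMod.val_lt i, ZMod.natCast_zmod_val i⟩
            rw [show (2 : ZMod (2 * 2 ^ n)) * (k : ZMod (2 * 2 ^ n)) = ((2 * k : ℕ) : ZMod (2 * 2 ^ n)) by push_cast; ring,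
              CharP.cast_eq_zero_iff (ZMod (2 * 2 ^ n)) (2 * 2 ^ n)] at h2
            obtain ⟨c, hc⟩ := Nat.dvd_of_mul_dvd_mul_left (by norm_num) h2
            have hc2 : c < 2 := Nat.lt_of_mul_lt_mul_left (a := 2 ^ n) (by rw [← hc]; omega)
            rcases (by omega : c = 0 ∨ c = 1) with rfl | rfl
            · exfalso
              rw [mul_zero] at hc
              subst hc
              simp [QuaternionGroup.a_zero] at hx
            · rw [hc, mul_one]
          · rw [QuaternionGroup.orderOf_xa] at hx
            omega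
        have : e b = e a := by
          rw [huniq (e b) (by rw [MulEquiv.orderOf_eq]; exact hb),
            huniq (e a) (by rw [MulEquiv.orderOf_eq]; exact ha)]
        rw [e.injective this]
        exact Subgroup.mem_zpowers a
    -- transfer uniqueness to every `p`-subgroup
    have huG : ∀ U : Subgroup G, IsPGroup p U → ∀ a ∈ U, ∀ b ∈ U, orderOf a = p → orderOf b = p →
        Subgroup.zpowers b = Subgroup.zpowers a := by
      intro U hU a ha b hb hoa hob
      obtain ⟨T, hT⟩ := hU.exists_le_sylow
      obtain ⟨g, hg⟩ := MulAction.exists_smul_eq G T P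
      set ψ := (MulAut.conj g).toMonoidHom
      have hψ : ∀ u ∈ U, ψ u ∈ (P : Subgroup G) := fun u h => hg ▸ ⟨u, hT h, rfl⟩
      have hinj : Function.Injective ψ := (MulAut.conj g).injective
      obtain ⟨i, hi⟩ := hu ⟨ψ a, hψ a ha⟩ ⟨ψ b, hψ b hb⟩
        (by rw [Subgroup.orderOf_mk, orderOf_injective ψ hinj, hoa])
        (by rw [Subgroup.orderOf_mk, orderOf_injective ψ hinj, hob])
      have hba : a ^ i = b := hinj (by
        have := congrArg Subtype.val hi
        simpa [map_zpow] using this)
      refine Subgroup.eq_of_le_of_card_ge (Subgroup.zpowers_le.2 ⟨i, hba⟩) ?_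
      rw [Nat.card_zpowers, Nat.card_zpowers, hoa, hob]
    obtain ⟨z, hzP, hzp⟩ := exists_pgroup_of_dvd (H := (P : Subgroup G)) (p := p) (by
      rw [P.card_eq_multiplicity]
      exact dvd_pow_self p (hpr.factorization_pos_of_dvd Nat.card_pos.ne' hdiv).ne')
    set Z := Subgroup.zpowers z
    set H := Subgroup.normalizer (Z : Set G) with hH
    have hzZ : z ∈ H := Subgroup.le_normalizer (Subgroup.mem_zpowers z)
    refine ⟨H, ?_, ?_, fun g hg hd => ?_⟩
    · intro e
      have hn : Z.Normal := Subgroup.normalizer_eq_top_iff.1 e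
      have h1 := CfsgLib.Solvable.le_pCore p hn (isPGroup_zpowers ⟨1, by rw [hzp, pow_one]⟩)
      rw [hO, le_bot_iff, Subgroup.zpowers_eq_bot] at h1
      rw [h1, orderOf_one] at hzp
      exact hpr.one_lt.ne hzp
    · rw [← hzp]; exact Subgroup.orderOf_dvd_natCard H hzZ
    · obtain ⟨y, ⟨hyH, hyg⟩, hyp⟩ := exists_pgroup_of_dvd hd
      have hkey : ∀ w ∈ H, orderOf w = p → Subgroup.zpowers w = Z := by
        intro w hw hwp
        have hle : Subgroup.zpowers w ≤ Subgroup.normalizer (Z : Set G) := Subgroup.zpowers_le.2 hw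
        refine huG (Subgroup.zpowers w ⊔ Z) ?_ z ((le_sup_right : Z ≤ _) (Subgroup.mem_zpowers z)) w
          ((le_sup_left : Subgroup.zpowers w ≤ _) (Subgroup.mem_zpowers w)) hzp hwp
        exact (isPGroup_zpowers ⟨1, by rw [hwp, pow_one]⟩).to_sup_of_normal_right'
          (isPGroup_zpowers ⟨1, by rw [hzp, pow_one]⟩) hle
      have h1 := hkey y hyH hyp
      have hy' : g⁻¹ * y * g ∈ H := mem_map_conj.1 hyg
      have h2 := hkey _ hy' (by
        rw [← hyp]
        have := orderOf_injective (MulAut.conj g⁻¹).toMonoidHom (MulAut.conj g⁻¹).injective y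
        simpa using this)
      apply hg
      refine mem_normalizer_of_map_conj_eq ?_
      conv_lhs => rw [← h2]
      rw [MonoidHom.map_zpowers, ← h1]
      congr 1
      simp [mul_assoc]

end Cfsg.Agent.S3057
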