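import Cfsg.Statements.S3058
import Cfsg.Agent.S3056
import Cfsg.Agent.Signalizer.Basic

set_option autoImplicit false
set_option linter.unusedVariables false
open Cfsg CfsgLib.LocalB

namespace Cfsg.Agent.S3058

/-- Let p be a prime and G a finite group whose Sylow p-subgroups are not chain-connected through nontrivial intersections (so G has a strongly p-embedded subgroup). If N and M are normal subgroups of G whose orders are both divisible by p, then the order of N ∩ M is divisible by p. Consequently, among the normal subgroups of G whose order is divisible by p there is a smallest one (the intersection of all of them). -/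
theorem result {G : Type*} [Group G] [Finite G]
    (p : ℕ) [Fact p.Prime] (hG : ¬ Cfsg.IsSylowChainConnected p G)
    (N M : Subgroup G) [N.Normal] [M.Normal] (hN : p ∣ Nat.card N) (hM : p ∣ Nat.card M) :
    p ∣ Nat.card ↥(N ⊓ M) := by
  have hpr : p.Prime := Fact.out
  by_contra hD
  obtain ⟨H, hHtop, hpH, hse⟩ := (Cfsg.Agent.S3056.result p).1 hG
  have hH : MeetsPrime p H := hse
  obtain ⟨P, hPH⟩ := hH.exists_sylow_le hpH
  have hpick : ∀ L : Subgroup G, L.Normal → p ∣ Nat.card L →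
      ∃ x ∈ (P : Subgroup G), x ∈ L ∧ orderOf x = p := by
    intro L hL hd
    obtain ⟨x, hx, hox⟩ := exists_pgroup_of_dvd hd
    obtain ⟨U, hU⟩ := (isPGroup_zpowers (p := p) ⟨1, by rw [hox, pow_one]⟩ :
      IsPGroup p (Subgroup.zpowers x)).exists_le_sylow
    obtain ⟨g, hg⟩ := MulAction.exists_smul_eq G U P
    refine ⟨g * x * g⁻¹, ?_, hL.conj_mem x hx g, ?_⟩
    · rw [← hg]
      exact ⟨x, hU (Subgroup.mem_zpowers x), rfl⟩
    · rw [← hox]
      exact orderOf_injective (MulAut.conj g).toMonoidHom (MulAut.conj g).injective x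
  obtain ⟨x, hxP, hxN, hox⟩ := hpick N ‹_› hN
  obtain ⟨y, hyP, hyM, hoy⟩ := hpick M ‹_› hM
  have hcomm : Commute x y := by
    have h1 : x * y * x⁻¹ * y⁻¹ ∈ N ⊓ M := by
      refine ⟨?_, mul_mem (‹M.Normal›.conj_mem y hyM x) (M.inv_mem hyM)⟩
      have := mul_mem hxN (‹N.Normal›.conj_mem x⁻¹ (N.inv_mem hxN) y)
      simpa [mul_assoc] using this
    have h2 : x * y * x⁻¹ * y⁻¹ = 1 := by
      by_contra hne
      apply hD
      refine dvd_trans (dvd_card_of_ne_bot (Q := (P : Subgroup G) ⊓ (N ⊓ M))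
        (P.isPGroup'.to_le inf_le_left) ?_) (Subgroup.card_dvd_of_le inf_le_right)
      refine (Subgroup.ne_bot_iff_exists_ne_one).2 ⟨⟨_, ⟨?_, h1⟩⟩, fun e => hne (congrArg Subtype.val e)⟩
      exact mul_mem (mul_mem (mul_mem hxP hyP) ((P : Subgroup G).inv_mem hxP)) ((P : Subgroup G).inv_mem hyP)
    show x * y = y * x
    rw [← mul_inv_eq_one]; simpa [mul_assoc] using h2
  let A : Subgroup G :=
    { carrier := {z | ∃ i j : ℤ, z = x ^ i * y ^ j}
      one_mem' := ⟨0, 0, by simp⟩
      mul_mem' := by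
        rintro _ _ ⟨i, j, rfl⟩ ⟨k, l, rfl⟩
        exact ⟨i + k, j + l, by rw [zpow_add, zpow_add, (hcomm.zpow_zpow k j).symm.mul_mul_mul_comm]⟩
      inv_mem' := by
        rintro _ ⟨i, j, rfl⟩
        exact ⟨-i, -j, by rw [mul_inv_rev, ← zpow_neg, ← zpow_neg, ((hcomm.zpow_zpow (-i) (-j))).eq]⟩ }
  have hxA : x ∈ A := ⟨1, 0, by simp⟩
  have hyA : y ∈ A := ⟨0, 1, by simp⟩
  have hel : Cfsg.IsElementaryAbelian p A := by
    refine ⟨⟨⟨fun a b => Subtype.ext ?_⟩⟩, fun a ha => ?_⟩
    · obtain ⟨i, j, ha⟩ := a.2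
      obtain ⟨k, l, hb⟩ := b.2
      show (a : G) * b = b * a
      rw [ha, hb]
      exact ((((Commute.refl x).zpow_zpow i k).mul_right (hcomm.zpow_zpow i l)).mul_left
        ((hcomm.symm.zpow_zpow j k).mul_right ((Commute.refl y).zpow_zpow j l))).eq
    · obtain ⟨i, j, rfl⟩ := ha
      have hxp : x ^ p = 1 := hox ▸ pow_orderOf_eq_one x
      have hyp : y ^ p = 1 := hoy ▸ pow_orderOf_eq_one y
      have e1 : (x ^ i) ^ p = 1 := by
        rw [← zpow_natCast, ← zpow_mul, mul_comm, zpow_mul, zpow_natCast, hxp, one_zpow]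
      have e2 : (y ^ j) ^ p = 1 := by
        rw [← zpow_natCast, ← zpow_mul, mul_comm, zpow_mul, zpow_natCast, hyp, one_zpow]
      rw [(hcomm.zpow_zpow i j).mul_pow, e1, e2, one_mul]
  have hx1 : x ≠ 1 := fun e => by rw [e, orderOf_one] at hox; exact hpr.one_lt.ne hox
  have hxy : x ∉ Subgroup.zpowers y := by
    intro hmem
    apply hD
    rw [← hox]
    exact Subgroup.orderOf_dvd_natCard _ ⟨hxN, Subgroup.zpowers_le.2 hyM hmem⟩
  have hcard : p ^ 2 ≤ Nat.card A := by
    have := CfsgLib.Signalizer.card_sup_zpowers hel (Subgroup.zpowers_le.2 hyA) hxA hxy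
    rw [Nat.card_zpowers, hoy] at this
    rw [sq, ← this]
    exact Subgroup.card_le_of_le (sup_le (Subgroup.zpowers_le.2 hxA) (Subgroup.zpowers_le.2 hyA))
  have hAP : A ≤ (P : Subgroup G) := by
    rintro _ ⟨i, j, rfl⟩
    exact mul_mem (Subgroup.zpow_mem _ hxP i) (Subgroup.zpow_mem _ hyP j)
  have hDH : N ⊓ M ≤ H := by
    refine CfsgLib.Signalizer.le_of_forall_centralizer hel le_rfl hcard
      (by rw [Subgroup.normalizer_eq_top]; exact le_top) hD fun a ha ha1 => ?_
    refine inf_le_right.trans (le_trans ?_ (hH.normalizer_le (Subgroup.zpowers_le.2 (hPH (hAP ha)))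
      (P.isPGroup'.to_le (Subgroup.zpowers_le.2 (hAP ha))) (by simpa using ha1)))
    rw [← Subgroup.centralizer_closure, ← Subgroup.zpowers_eq_closure]
    exact Subgroup.centralizer_le_normalizer _
  have hNH : N ≤ H := by
    intro n hn
    refine hH.mem_of (hPH hyP) hoy ?_
    have h1 : y⁻¹ * (n⁻¹ * y * n) ∈ N ⊓ M := by
      refine ⟨?_, mul_mem (M.inv_mem hyM) (by simpa using ‹M.Normal›.conj_mem y hyM n⁻¹)⟩
      have := mul_mem (‹N.Normal›.conj_mem n⁻¹ (N.inv_mem hn) y⁻¹) hn
      simpa [mul_assoc] using this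
    have := mul_mem (hPH hyP) (hDH h1)
    rwa [mul_inv_cancel_left] at this
  apply hHtop
  rw [eq_top_iff]
  intro g _
  exact hH.mem_of (hPH hxP) hox (hNH (by simpa using ‹N.Normal›.conj_mem x hxN g⁻¹))

end Cfsg.Agent.S3058
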