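import Cfsg.Statements.S3059
import Cfsg.Agent.LocalB.Embedded

set_option autoImplicit false
set_option linter.unusedVariables false
open Cfsg CfsgLib.LocalB

namespace Cfsg.Agent.S3059

/-- Let p be a prime and H a strongly p-embedded subgroup of the finite group G in the classical sense: H is proper, p divides the order of H, and H ∩ gHg⁻¹ has order prime to p for every g outside H. Then for every normal subgroup N of G of order divisible by p, G = H · O^p(N), where O^p(N) is the subgroup generated by the elements of N of order prime to p. -/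
theorem result {G : Type*} [Group G] [Finite G]
    (p : ℕ) [Fact p.Prime] (H : Subgroup G) (hH : H ≠ ⊤) (hpH : p ∣ Nat.card H)
    (hse : ∀ g : G, g ∉ H → ¬ p ∣ Nat.card ↥(H ⊓ H.map (MulAut.conj g).toMonoidHom))
    (N : Subgroup G) [N.Normal] (hN : p ∣ Nat.card N) :
    H ⊔ Subgroup.closure {g : G | g ∈ N ∧ (orderOf g).Coprime p} = ⊤ := by
  have hH' : MeetsPrime p H := hse
  obtain ⟨S, hS⟩ := hH'.exists_sylow_le hpH
  set K := Subgroup.closure {g : G | g ∈ N ∧ (orderOf g).Coprime p} with hK
  -- a Sylow subgroup of `N` below `S`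
  obtain ⟨Q₀⟩ : Nonempty (Sylow p N) := inferInstance
  obtain ⟨U, hU⟩ := (Q₀.isPGroup'.map N.subtype).exists_le_sylow
  obtain ⟨g, hg⟩ := MulAction.exists_smul_eq G U S
  have : ∃ Q : Sylow p N, (Q : Subgroup N).map N.subtype ≤ (S : Subgroup G) := by
    obtain ⟨Q, hQ⟩ := (IsPGroup.comap_subtype (K := N) S.isPGroup').exists_le_sylow
    refine ⟨Q, ?_⟩
    set W : Subgroup G := ((Q₀ : Subgroup N).map N.subtype).map (MulAut.conj g).toMonoidHom
    have hWS : W ≤ (S : Subgroup G) := by
      rw [← hg]; exact Subgroup.map_mono hU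
    have hWN : W ≤ N := by
      rintro _ ⟨x, ⟨y, hy, rfl⟩, rfl⟩; exact ‹N.Normal›.conj_mem _ y.2 g
    have hWQ : W.subgroupOf N ≤ (Q : Subgroup N) := le_trans (fun x hx => hWS hx) hQ
    have heq : W.subgroupOf N = (Q : Subgroup N) := by
      refine Subgroup.eq_of_le_of_card_ge hWQ ?_
      rw [Nat.card_congr (Subgroup.subgroupOfEquivOfLe hWN).toEquiv, card_map_conj,
        ← Nat.card_congr ((Q₀ : Subgroup N).equivMapOfInjective _ N.subtype_injective).toEquiv,
        Sylow.card_eq_multiplicity Q, Sylow.card_eq_multiplicity Q₀]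
    rw [← heq, Subgroup.subgroupOf_map_subtype]
    exact inf_le_left.trans hWS
  obtain ⟨Q, hQ⟩ := this
  have hQne : (Q : Subgroup N).map N.subtype ≠ ⊥ := by
    intro h
    have h1 : Nat.card (Q : Subgroup N) = 1 := by
      rw [(Subgroup.map_eq_bot_iff_of_injective _ N.subtype_injective).mp h, Subgroup.card_bot]
    rw [Sylow.card_eq_multiplicity Q] at h1
    have := (Fact.out : p.Prime).factorization_pos_of_dvd Nat.card_pos.ne' hN
    rcases (Nat.pow_eq_one.mp h1) with h | h
    · exact (Fact.out : p.Prime).one_lt.ne' h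
    · omega
  have hNn : Subgroup.normalizer (((Q : Subgroup N).map N.subtype : Subgroup G) : Set G) ≤ H :=
    hH'.normalizer_le (hQ.trans hS) (Q.isPGroup'.map _) hQne
  have hfr := Sylow.normalizer_sup_eq_top Q
  -- `N` is generated by `K` and the Sylow subgroup
  have hNle : N ≤ H ⊔ K := by
    have hM : (K ⊔ (Q : Subgroup N).map N.subtype).subgroupOf N = ⊤ := by
      rw [← Subgroup.index_eq_one]
      set M := (K ⊔ (Q : Subgroup N).map N.subtype).subgroupOf N
      refine Nat.eq_one_iff_not_exists_prime_dvd.mpr fun q hq hdvd => ?_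
      have := Fact.mk hq
      by_cases hqp : q = p
      · subst hqp
        have hle : (Q : Subgroup N) ≤ M := fun x hx =>
          (le_sup_right : _ ≤ K ⊔ (Q : Subgroup N).map N.subtype) ⟨x, hx, rfl⟩
        exact Q.not_dvd_index (hdvd.trans (Subgroup.index_dvd_of_le hle))
      · obtain ⟨R⟩ : Nonempty (Sylow q N) := inferInstance
        have hle : (R : Subgroup N) ≤ M := by
          intro x hx
          refine (le_sup_left : K ≤ K ⊔ (Q : Subgroup N).map N.subtype) (Subgroup.subset_closure ⟨x.2, ?_⟩)
          obtain ⟨k, hk⟩ := IsPGroup.iff_orderOf.mp R.isPGroup' ⟨x, hx⟩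
          rw [Subgroup.orderOf_mk] at hk
          rw [show N.subtype x = (x : G) from rfl, Subgroup.orderOf_coe, hk]
          exact Nat.Coprime.pow_left _ ((Nat.coprime_primes hq Fact.out).mpr hqp)
        exact R.not_dvd_index (hdvd.trans (Subgroup.index_dvd_of_le hle))
    refine (Subgroup.subgroupOf_eq_top.mp hM).trans (sup_le le_sup_right ?_)
    exact (hQ.trans hS).trans le_sup_left
  rw [eq_top_iff, ← hfr]
  exact sup_le (hNn.trans le_sup_left) hNle

end Cfsg.Agent.S3059
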