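import Cfsg.Statements.S3060
import Cfsg.Agent.LocalB.DStar
import Cfsg.Agent.LocalB.ChermakDelgado
import Cfsg.Agent.KGroup.CharP
import Cfsg.Agent.S0542

set_option autoImplicit false
set_option linter.unusedVariables false
open Cfsg CfsgLib.LocalB CfsgLib.LocalB.DStar
open scoped commutatorElement

namespace Cfsg.Agent.S3060

/-- The D*-Theorem. For a finite p-group S let D*(S) be the subgroup generated by the abelian subgroups A of S such that every x ∈ S with ⟨A, x⟩ of nilpotency class at most two centralizes A. Let p be an odd prime and H a finite p-stable group with Sylow p-subgroup S. Here H is p-stable in the following sense: the largest normal p-subgroup O_p(H) contains its centralizer in H, and for every normal p-subgroup P of H, every element acting quadratically on P has image in O_p(H/C_H(P)). Then D*(S) is a normal subgroup of H. -/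
theorem result {G : Type*} [Group G] [Finite G] {p : ℕ} [Fact p.Prime] (hp : p ≠ 2)
    (hc : Subgroup.centralizer (Cfsg.pCore p G : Set G) ≤ Cfsg.pCore p G)
    (hst : ∀ (P : Subgroup G) [P.Normal], IsPGroup p P → Cfsg.IsPStableOn p P) (S : Sylow p G) :
    (Cfsg.dStarOf (S : Subgroup G)).Normal := by
  set Q := Cfsg.pCore p G with hQ
  obtain ⟨hD, hDn, hDmax⟩ := dStarOf_spec (P := (S : Subgroup G)) S.isPGroup'
  set D := Cfsg.dStarOf (S : Subgroup G)
  have hQp : IsPGroup p Q := CfsgLib.Solvable.isPGroup_pCore p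
  have hQn : Q.Normal := CfsgLib.Solvable.pCore_normal p
  haveI := hQn
  have hQS : Q ≤ (S : Subgroup G) := CfsgLib.CharP.le_sylow_of_le_normalizer S hQp
    (by rw [Subgroup.normalizer_eq_top]; exact le_top)
  have hDQ : D ≤ Q := by
    intro a ha
    have h1 : ⁅⁅Q, Subgroup.zpowers a⁆, Subgroup.zpowers a⁆ = ⊥ := by
      have hQD : ⁅Q, Subgroup.zpowers a⁆ ≤ D := by
        refine Subgroup.commutator_le.2 fun u hu v hv => ?_
        have hvD : v ∈ D := Subgroup.zpowers_le.2 ha hv
        exact mul_mem ((Subgroup.mem_normalizer_iff.1 (hDn (hQS hu)) v).1 hvD) (D.inv_mem hvD)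
      rw [eq_bot_iff]
      refine (Subgroup.commutator_mono hQD (Subgroup.zpowers_le.2 ha)).trans ?_
      refine Subgroup.commutator_le.2 fun u hu v hv => ?_
      rw [Subgroup.mem_bot, commutatorElement_eq_one_iff_mul_comm]
      exact comm hD.2.1 hu hv
    have h2 := hst Q hQp a h1
    set π := QuotientGroup.mk' (Subgroup.centralizer (Q : Set G))
    have h3 : (Cfsg.pCore p (G ⧸ Subgroup.centralizer (Q : Set G))).comap π ≤ Q := by
      refine CfsgLib.Solvable.le_pCore p ((CfsgLib.Solvable.pCore_normal p).comap π) ?_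
      refine (CfsgLib.Solvable.isPGroup_pCore p).comap_of_ker_isPGroup π ?_
      rw [QuotientGroup.ker_mk']
      exact hQp.to_le hc
    exact h3 (show a ∈ Subgroup.comap π _ from h2)
  obtain ⟨hE, -, hEmax⟩ := dStarOf_spec (P := Q) hQp
  set E := Cfsg.dStarOf Q
  set W := Subgroup.normalClosure (D : Set G) with hW
  haveI : W.Normal := Subgroup.normalClosure_normal
  have hWE : W ≤ E := by
    have hEn : E.Normal := by
      refine ⟨fun e he g => hEmax (E.map (MulAut.conj g).toMonoidHom) ?_ ⟨e, he, rfl⟩⟩
      have h := hE.conj g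
      rwa [map_conj_eq_of_mem_normalizer (H := Q) (by rw [Subgroup.normalizer_eq_top]; trivial)] at h
    haveI := hEn
    exact Subgroup.normalClosure_le_normal (hEmax D (hD.mono hDQ hQS))
  have hWQ : W ≤ Q := hWE.trans hE.1
  have hWc : IsMulCommutative W := ⟨⟨fun a b => Subtype.ext (comm hE.2.1 (hWE a.2) (hWE b.2))⟩⟩
  have hWp : IsPGroup p W := hQp.to_le hWQ
  have hWfam : Fam (S : Subgroup G) W := by
    refine ⟨hWQ.trans hQS, hWc, fun x hxS hcl => ?_⟩
    have hquad : ⁅⁅W, Subgroup.zpowers x⁆, Subgroup.zpowers x⁆ = ⊥ := by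
      rw [eq_bot_iff]
      exact (Subgroup.commutator_mono (Subgroup.commutator_mono le_sup_left le_sup_right) le_sup_right).trans hcl.le
    have hx := hst W hWp x hquad
    set π := QuotientGroup.mk' (Subgroup.centralizer (W : Set G))
    set K := (Cfsg.pCore p (G ⧸ Subgroup.centralizer (W : Set G))).comap π with hK
    haveI : K.Normal := (CfsgLib.Solvable.pCore_normal p).comap π
    have hxK : x ∈ K := hx
    obtain ⟨Q₁, hQ₁⟩ := Cfsg.Agent.S0542.result p K (Subgroup.Normal.isSubnormal ‹_›) S
    have hQ₁' : (Q₁ : Subgroup K).map K.subtype = (S : Subgroup G) ⊓ K := by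
      rw [hQ₁, Subgroup.subgroupOf_map_subtype]
    have hfr := Sylow.normalizer_sup_eq_top Q₁
    rw [hQ₁'] at hfr
    set T := (S : Subgroup G) ⊓ K with hT
    have hCK : Subgroup.centralizer (W : Set G) ≤ K := fun c hc' => by
      rw [hK, Subgroup.mem_comap, QuotientGroup.mk'_apply, (QuotientGroup.eq_one_iff c).2 hc']
      exact one_mem _
    have hKgen : K ≤ T ⊔ Subgroup.centralizer (W : Set G) := by
      rw [← Subgroup.subgroupOf_eq_top, ← Subgroup.index_eq_one]
      refine Nat.eq_one_of_dvd_coprimes (a := (Q₁ : Subgroup K).index)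
        (b := ((Subgroup.centralizer (W : Set G)).subgroupOf K).index) ?_
        (Subgroup.index_dvd_of_le fun u hu => (le_sup_left : T ≤ _) (hQ₁'.le ⟨u, hu, rfl⟩))
        (Subgroup.index_dvd_of_le fun u hu => (le_sup_right : _ ≤ T ⊔ Subgroup.centralizer (W : Set G)) hu)
      have e : ((Subgroup.centralizer (W : Set G)).subgroupOf K).index =
          Nat.card (Cfsg.pCore p (G ⧸ Subgroup.centralizer (W : Set G))) := by
        have := Subgroup.relIndex_comap (⊥ : Subgroup (G ⧸ Subgroup.centralizer (W : Set G))) π K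
        rw [MonoidHom.comap_bot, QuotientGroup.ker_mk', hK,
          Subgroup.map_comap_eq_self_of_surjective (QuotientGroup.mk'_surjective _),
          Subgroup.relIndex_bot_left] at this
        exact this
      obtain ⟨k, hk⟩ := (CfsgLib.Solvable.isPGroup_pCore (G := G ⧸ Subgroup.centralizer (W : Set G)) p).exists_card_eq
      rw [e, hk]
      exact ((Fact.out : p.Prime).coprime_iff_not_dvd.2 Q₁.not_dvd_index).symm.pow_right k
    have hWx : W ≤ Subgroup.centralizer ({x} : Set G) := by
      rw [hW, Subgroup.normalClosure, Subgroup.closure_le]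
      intro y hy
      obtain ⟨d, hd, g, rfl⟩ : ∃ d ∈ D, ∃ g : G, g * d * g⁻¹ = y := by
        obtain ⟨d, hd, hdy⟩ := Group.mem_conjugatesOfSet_iff.1 hy
        exact ⟨d, hd, isConj_iff.1 hdy⟩
      have hg : g ∈ Subgroup.normalizer (T : Set G) ⊔ K := hfr ▸ Subgroup.mem_top g
      rw [← SetLike.mem_coe, Subgroup.mul_normal] at hg
      obtain ⟨n, hn, k, hk, rfl⟩ := hg
      have hkd : k * d * k⁻¹ ∈ D := by
        have h1 := hKgen hk
        rw [← SetLike.mem_coe, Subgroup.mul_normal] at h1
        obtain ⟨s, hs, c, hc', rfl⟩ := h1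
        have h2 : c * d * c⁻¹ = d := by
          rw [← Subgroup.mem_centralizer_iff.1 hc' d (Subgroup.subset_normalClosure hd), mul_inv_cancel_right]
        have := (Subgroup.mem_normalizer_iff.1 (hDn hs.1) d).1 hd
        rw [← h2] at this
        simpa [mul_assoc] using this
      have hDW : D ≤ W := Subgroup.subset_normalClosure
      have hDT : Fam T D := hD.mono (le_inf hD.1 (hDW.trans ((CfsgLib.LocalB.CD.le_C_of_comm hWc).trans hCK))) inf_le_left
      have h3 := hDT.conj n
      rw [map_conj_eq_of_mem_normalizer hn] at h3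
      rw [SetLike.mem_coe, Subgroup.mem_centralizer_singleton_iff]
      refine h3.2.2 x ⟨hxS, hxK⟩ (hcl.mono (sup_le_sup_right ?_ _)) _
        ⟨k * d * k⁻¹, hkd, by simp [mul_assoc]⟩
      rintro _ ⟨u, hu, rfl⟩
      exact ‹W.Normal›.conj_mem u (hDW hu) n
    exact fun a ha => Subgroup.mem_centralizer_singleton_iff.1 (hWx ha)
  have : D = W := le_antisymm Subgroup.subset_normalClosure (hDmax W hWfam)
  rw [this]
  infer_instance

end Cfsg.Agent.S3060
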