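import Cfsg.Statements.S3062
import Cfsg.Agent.LocalB.DStar
import Cfsg.Agent.LocalB.ChermakDelgado

set_option autoImplicit false
set_option linter.unusedVariables false
open Cfsg CfsgLib.LocalB CfsgLib.LocalB.DStar
open scoped commutatorElement

namespace Cfsg.Agent.S3062

/-- Let S be a finite p-group, J(S) the subgroup generated by the abelian subgroups of S of largest order and Z(J(S)) its centre. Then Z(S) ≤ D*(S) ≤ Z(J(S)), and every maximal normal abelian subgroup of S contains D*(S). -/
theorem result {S : Type*} [Group S] [Finite S] {p : ℕ} [Fact p.Prime]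
    (hS : IsPGroup p S) :
    Subgroup.center S ≤ Cfsg.dStar S ∧
    Cfsg.dStar S ≤ Cfsg.thompsonSubgroupA S ⊓ Subgroup.centralizer (Cfsg.thompsonSubgroupA S : Set S) ∧
    ∀ A : Subgroup S, A.Normal → IsMulCommutative A →
      (∀ B : Subgroup S, B.Normal → IsMulCommutative B → A ≤ B → B = A) → Cfsg.dStar S ≤ A := by
  obtain ⟨hD, hDn, hDmax⟩ := dStar_spec hS
  haveI := hDn
  refine ⟨hDmax _ ⟨le_top, ⟨⟨fun a b => Subtype.ext (Subgroup.mem_center_iff.1 b.2 a)⟩⟩,
    fun x _ _ a ha => (Subgroup.mem_center_iff.1 ha x).symm⟩, ?_, ?_⟩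
  · set D := Cfsg.dStar S
    have hDc : ∀ A ∈ Cfsg.maxAbelianSubgroups S, D ≤ A ∧ ∀ a ∈ A, ∀ d ∈ D, d * a = a * d := by
      have key : ∀ A ∈ Cfsg.maxAbelianSubgroups S, D ≤ Subgroup.normalizer (A : Set S) →
          D ≤ A ∧ ∀ a ∈ A, ∀ d ∈ D, d * a = a * d := by
        intro A hA hn
        have h := hD.comm_of_normalize hA.1 le_top hn (by rw [Subgroup.normalizer_eq_top]; exact le_top)
        refine ⟨?_, fun a ha d hd => h d hd a ha⟩
        have hC := CfsgLib.LocalB.CD.C_eq_self hA
        intro d hd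
        rw [← hC]
        exact Subgroup.mem_centralizer_iff.2 fun a ha => (h d hd a ha).symm
      intro A
      induction hk : Nat.card S - Nat.card (A ⊓ D : Subgroup S) using Nat.strong_induction_on generalizing A with
      | _ k ih =>
        intro hA
        by_cases hn : D ≤ Subgroup.normalizer (A : Set S)
        · exact key A hA hn
        exfalso
        obtain ⟨b, R, hb, hbA⟩ := CfsgLib.ZJ.exists_replacement hS hA.1
          (le_of_eq_of_le (Subgroup.commutator_eq_bot_iff_le_centralizer.2 (CfsgLib.LocalB.CD.le_C_of_comm hD.2.1)) bot_le)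
          (by rw [Subgroup.normalizer_eq_top]; exact le_top) hn
        have hA' : CfsgLib.ZJ.repl A b ∈ Cfsg.maxAbelianSubgroups S :=
          ⟨R.isMulCommutative_repl (Or.inr hD.2.1), fun B hB => (R.card_repl (Or.inr hD.2.1)) ▸ hA.2 B hB⟩
        have h1 := CfsgLib.Solvable.card_lt_of_lt (R.inf_lt hbA)
        have h2 : Nat.card (CfsgLib.ZJ.repl A b ⊓ D : Subgroup S) ≤ Nat.card S := Subgroup.card_le_card_group _
        have h3 := (ih _ (by omega) (CfsgLib.ZJ.repl A b) rfl hA').1
        exact hn (h3.trans R.repl_le_normalizer)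
    refine le_inf ?_ ?_
    · obtain ⟨A, hA⟩ : ∃ A, A ∈ Cfsg.maxAbelianSubgroups S := by
        obtain ⟨A, hA⟩ := (Set.toFinite {A : Subgroup S | IsMulCommutative A}).exists_maximalFor
          (fun A : Subgroup S => Nat.card A) _ ⟨(⊥ : Subgroup S), ⟨⟨fun a b => Subsingleton.elim _ _⟩⟩⟩
        refine ⟨A, hA.1, fun B hB => ?_⟩
        by_contra hlt
        exact absurd (hA.2 hB (not_le.1 hlt).le) hlt
      exact (hDc A hA).1.trans (le_sSup hA)
    · rw [Subgroup.le_centralizer_iff]
      exact sSup_le fun A hA a ha => Subgroup.mem_centralizer_iff.2 fun d hd => (hDc A hA).2 a ha d hd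
  · intro A hAn hAc hAmax
    haveI := hAn
    have h := hD.comm_of_normalize hAc le_top (by rw [Subgroup.normalizer_eq_top]; exact le_top)
      (by rw [Subgroup.normalizer_eq_top]; exact le_top)
    have hc : IsMulCommutative ↥(A ⊔ Cfsg.dStar S : Subgroup S) := by
      refine CfsgLib.LocalB.CD.comm_of_le_C ?_
      rw [CfsgLib.LocalB.CD.C_sup]
      refine le_inf (sup_le (CfsgLib.LocalB.CD.le_C_of_comm hAc) ?_) (sup_le ?_ (CfsgLib.LocalB.CD.le_C_of_comm hD.2.1))
      · exact fun d hd => Subgroup.mem_centralizer_iff.2 fun a ha => (h d hd a ha).symm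
      · exact fun a ha => Subgroup.mem_centralizer_iff.2 fun d hd => h d hd a ha
    exact le_sup_right.trans (hAmax _ inferInstance hc le_sup_left).le

end Cfsg.Agent.S3062
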