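import Cfsg.Statements.S3063
import Cfsg.Agent.LocalB.DStar
import Cfsg.Agent.LocalB.ChermakDelgado

set_option autoImplicit false
set_option linter.unusedVariables false
open Cfsg CfsgLib.LocalB CfsgLib.LocalB.DStar
open scoped commutatorElement

namespace Cfsg.Agent.S3063

/-- A weak replacement Theorem for metabelian p-groups: let S be a finite p-group whose derived subgroup is abelian and A an abelian subgroup of S of largest possible order. Then the normal closure of A in S contains an abelian subgroup B of the same order as A that is normal in S. -/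
theorem result {S : Type*} [Group S] [Finite S] {p : ℕ} [Fact p.Prime]
    (hS : IsPGroup p S) (hmeta : IsMulCommutative ↥(commutator S))
    (A : Subgroup S) (hA : A ∈ Cfsg.maxAbelianSubgroups S) :
    ∃ B ∈ Cfsg.maxAbelianSubgroups S, B.Normal ∧ B ≤ Subgroup.normalClosure (A : Set S) := by
  set H := Subgroup.normalClosure (A : Set S) with hH
  haveI : H.Normal := Subgroup.normalClosure_normal
  set B := H ⊓ commutator S with hB
  haveI : B.Normal := inferInstance
  have hBc : IsMulCommutative B := ⟨⟨fun a b => Subtype.ext (comm hmeta a.2.2 b.2.2)⟩⟩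
  have hBder : ⁅B, B⁆ = ⊥ := Subgroup.commutator_eq_bot_iff_le_centralizer.2 (CfsgLib.LocalB.CD.le_C_of_comm hBc)
  obtain ⟨A', hA'⟩ := (Set.toFinite {X : Subgroup S | X ∈ Cfsg.maxAbelianSubgroups S ∧ X ≤ H}).exists_maximalFor
    (fun X => Nat.card (X ⊓ B : Subgroup S)) _ ⟨A, hA, Subgroup.subset_normalClosure⟩
  obtain ⟨⟨hA'm, hA'H⟩, hA'max⟩ := hA'
  refine ⟨A', hA'm, ?_, hA'H⟩
  have hmax : ∀ X ∈ Cfsg.maxAbelianSubgroups S, X ≤ H → A' ⊓ B < X ⊓ B → False := by
    intro X hX hXH hlt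
    have h1 := CfsgLib.Solvable.card_lt_of_lt hlt
    exact absurd (hA'max ⟨hX, hXH⟩ h1.le) (not_le.2 h1)
  have hBN : B ≤ Subgroup.normalizer (A' : Set S) := by
    by_contra hn
    obtain ⟨b, R, hb, hbA⟩ := CfsgLib.ZJ.exists_replacement hS hA'm.1 (hBder.le.trans bot_le)
      (by rw [Subgroup.normalizer_eq_top]; exact le_top) hn
    refine hmax (CfsgLib.ZJ.repl A' b)
      ⟨R.isMulCommutative_repl (Or.inr hBc), fun X hX => (R.card_repl (Or.inr hBc)) ▸ hA'm.2 X hX⟩ ?_ (R.inf_lt hbA)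
    refine (CfsgLib.ZJ.repl_le_sup A' b).trans (sup_le hA'H ?_)
    rintro _ ⟨a, ha, rfl⟩
    exact ‹H.Normal›.conj_mem a (hA'H ha) b⁻¹
  rw [← Subgroup.normalizer_eq_top_iff, eq_top_iff]
  intro x _
  refine mem_normalizer_of_map_conj_eq ?_
  by_contra hne
  set A1 := A'.map (MulAut.conj x).toMonoidHom with hA1
  have hA1c : IsMulCommutative A1 := by
    refine ⟨⟨?_⟩⟩
    rintro ⟨_, a, ha, rfl⟩ ⟨_, b, hb, rfl⟩
    exact Subtype.ext (by
      show (MulAut.conj x).toMonoidHom a * (MulAut.conj x).toMonoidHom b =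
        (MulAut.conj x).toMonoidHom b * (MulAut.conj x).toMonoidHom a
      rw [← map_mul, ← map_mul, comm hA'm.1 ha hb])
  have hA1card : Nat.card A1 = Nat.card A' := card_map_conj A' x
  have hA1H : A1 ≤ H := by rintro _ ⟨a, ha, rfl⟩; exact ‹H.Normal›.conj_mem a (hA'H ha) x
  have hcomm : ∀ a ∈ A', a⁻¹ * (x * a * x⁻¹) ∈ B := by
    intro a ha
    refine ⟨mul_mem (H.inv_mem (hA'H ha)) (‹H.Normal›.conj_mem a (hA'H ha) x), ?_⟩
    have := Subgroup.commutator_mem_commutator (Subgroup.mem_top (a⁻¹ : S)) (Subgroup.mem_top x)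
    simpa [_root_.commutator_def, commutatorElement_def, mul_assoc] using this
  have hA1N : A1 ≤ Subgroup.normalizer (A' : Set S) := by
    rintro _ ⟨a, ha, rfl⟩
    have := mul_mem (Subgroup.le_normalizer ha) (hBN (hcomm a ha))
    simpa using this
  have hA'N1 : A' ≤ Subgroup.normalizer (A1 : Set S) := by
    intro a ha
    have hB1 : B ≤ Subgroup.normalizer (A1 : Set S) := by
      have hBx : B.map (MulAut.conj x).toMonoidHom = B :=
        map_conj_eq_of_mem_normalizer (by rw [Subgroup.normalizer_eq_top]; trivial)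
      rw [← hBx]
      exact (Subgroup.map_mono hBN).trans (Subgroup.le_normalizer_map _)
    have h1 : x * a * x⁻¹ ∈ Subgroup.normalizer (A1 : Set S) := Subgroup.le_normalizer ⟨a, ha, rfl⟩
    have := mul_mem h1 (inv_mem (hB1 (hcomm a ha)))
    simpa [mul_assoc] using this
  set H2 := A' ⊔ A1 with hH2
  set Z := A' ⊓ A1 with hZ
  have hH2N : H2 ≤ Subgroup.normalizer (A' : Set S) := sup_le Subgroup.le_normalizer hA1N
  set K := (H2 ⊓ B) ⊔ Z with hK
  have hKH2 : K ≤ H2 := sup_le inf_le_left (inf_le_left.trans le_sup_left)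
  have hZC : H2 ≤ Subgroup.centralizer (Z : Set S) := sup_le
    (fun a ha => Subgroup.mem_centralizer_iff.2 fun z hz => comm hA'm.1 hz.1 ha)
    (fun a ha => Subgroup.mem_centralizer_iff.2 fun z hz => comm hA1c hz.2 ha)
  have hKc : IsMulCommutative K := by
    refine CfsgLib.LocalB.CD.comm_of_le_C ?_
    rw [hK, CfsgLib.LocalB.CD.C_sup]
    refine le_inf (sup_le ?_ ?_) (hKH2.trans hZC)
    · exact fun b hb => Subgroup.mem_centralizer_iff.2 fun c hc => comm hBc hc.2 hb.2
    · exact fun z hz => Subgroup.mem_centralizer_iff.2 fun c hc =>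
        (Subgroup.mem_centralizer_iff.1 (hZC hc.1) z hz).symm
  have hA1K : A1 ≤ A' ⊔ (H2 ⊓ B) := by
    rintro _ ⟨a, ha, rfl⟩
    show x * a * x⁻¹ ∈ _
    rw [show x * a * x⁻¹ = a * (a⁻¹ * (x * a * x⁻¹)) by group]
    refine Subgroup.mul_mem_sup ha ⟨mul_mem ?_ ?_, hcomm a ha⟩
    · exact (le_sup_left : A' ≤ H2) (A'.inv_mem ha)
    · exact (le_sup_right : A1 ≤ H2) ⟨a, ha, rfl⟩
  have hsup : A' ⊔ K = H2 :=
    le_antisymm (sup_le le_sup_left hKH2) (sup_le le_sup_left (hA1K.trans (sup_le_sup_left le_sup_left _)))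
  have hinf : A' ⊓ K = Z := by
    refine le_antisymm (fun u hu => ⟨hu.1, ?_⟩) (le_inf inf_le_left le_sup_right)
    have h1 : H2 ≤ Subgroup.centralizer ({u} : Set S) := hsup ▸ sup_le
      (fun a ha => Subgroup.mem_centralizer_singleton_iff.2 (comm hA'm.1 ha hu.1))
      (fun a ha => Subgroup.mem_centralizer_singleton_iff.2 (comm hKc ha hu.2))
    rw [← CfsgLib.LocalB.CD.C_eq_self (A := A1) ⟨hA1c, fun X hX => hA1card ▸ hA'm.2 X hX⟩]
    exact Subgroup.mem_centralizer_iff.2 fun a ha =>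
      Subgroup.mem_centralizer_singleton_iff.1 (h1 ((le_sup_right : A1 ≤ H2) ha))
  have c1 := CfsgLib.Solvable.card_sup_mul_card_inf (A := K) (K := A') (hKH2.trans hH2N)
  have c2 := CfsgLib.Solvable.card_sup_mul_card_inf (A := A1) (K := A') hA1N
  rw [sup_comm, hsup, inf_comm, hinf] at c1
  rw [sup_comm, ← hH2, inf_comm, ← hZ, c1] at c2
  have hKcard : Nat.card K = Nat.card A' := by
    rw [← hA1card]
    exact Nat.eq_of_mul_eq_mul_right Nat.card_pos c2
  refine hmax K ⟨hKc, fun X hX => hKcard ▸ hA'm.2 X hX⟩ (hKH2.trans (sup_le hA'H hA1H)) ?_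
  refine lt_of_le_of_ne (le_inf ?_ inf_le_right) fun e => hne ?_
  · exact fun u hu => (le_sup_left : H2 ⊓ B ≤ K) ⟨(le_sup_left : A' ≤ H2) hu.1, hu.2⟩
  · have h2 : H2 ⊓ B ≤ A' := fun u hu => (e.symm.le ⟨(le_sup_left : H2 ⊓ B ≤ K) hu, hu.2⟩).1
    exact Subgroup.eq_of_le_of_card_ge (hA1K.trans (sup_le le_rfl h2)) hA1card.ge

end Cfsg.Agent.S3063
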