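import Cfsg.Statements.S3067
import Cfsg.Agent.FixCent.Isolated
import Cfsg.Agent.ZStar.Final

set_option autoImplicit false
open Cfsg

namespace Cfsg.Agent.S3067

/-- Let G be a finite non-abelian simple group, τ an involution of G, and α a nontrivial automorphism of G whose order is coprime to the order of G. Then α moves some element of the centralizer of τ: α does not fix C_G(τ) elementwise. -/
theorem result {G : Type*} [Group G] [Finite G] [IsSimpleGroup G]
    (hG : ¬ IsMulCommutative G) (τ : G) (hτ : orderOf τ = 2) (α : MulAut G) (hα : α ≠ 1)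
    (hcop : (orderOf α).Coprime (Nat.card G)) :
    ∃ c ∈ Subgroup.centralizer ({τ} : Set G), α c ≠ c := by
  classical
  by_contra hcon
  push_neg at hcon
  obtain ⟨r, hr, hrd⟩ := Nat.exists_prime_and_dvd (mt orderOf_eq_one_iff.1 hα)
  haveI : Fact r.Prime := ⟨hr⟩
  have hord : orderOf (α ^ (orderOf α / r)) = r :=
    orderOf_pow_orderOf_div (orderOf_pos α).ne' hrd
  set β := α ^ (orderOf α / r) with hβ
  have hpow : ∀ (i : ℕ) (x : G), α x = x → (α ^ i) x = x := by
    intro i x hx
    induction i with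
    | zero => rfl
    | succ i ih => rw [pow_succ, MulAut.mul_apply, hx, ih]
  have hC : Subgroup.centralizer ({τ} : Set G) ≤ CfsgLib.FixCent.fx β := fun c hc =>
    hpow _ c (hcon c hc)
  have hcore : ∀ d ∈ CfsgLib.FixCent.fx β,
      (∀ g : G, g * d * g⁻¹ ∈ CfsgLib.FixCent.fx β) → d = 1 := by
    intro d _ hall
    by_contra hd
    have hle : Subgroup.normalClosure ({d} : Set G) ≤ CfsgLib.FixCent.fx β := by
      rw [Subgroup.normalClosure, Subgroup.closure_le]
      intro x hx
      obtain ⟨a, ha, hax⟩ := Group.mem_conjugatesOfSet_iff.1 hx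
      rw [Set.mem_singleton_iff] at ha
      subst ha
      obtain ⟨g, rfl⟩ := isConj_iff.1 hax
      exact hall g
    rcases (Subgroup.normalClosure_normal (s := ({d} : Set G))).eq_bot_or_eq_top with h | h
    · exact hd (Subgroup.mem_bot.1 (h ▸ Subgroup.subset_normalClosure rfl))
    · have hβ1 : β = 1 := MulEquiv.ext fun x => hle (h ▸ Subgroup.mem_top x)
      rw [hβ1, orderOf_one] at hord
      exact hr.one_lt.ne hord
  have hiso : Cfsg.IsIsolatedInvolution τ := ⟨hτ, fun g hg =>
    CfsgLib.FixCent.eq_of_isConj_mem hord (hcop.coprime_dvd_left hrd) hC hτ hcore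
      (isConj_iff.2 ⟨g, rfl⟩)
      (hC (Subgroup.mem_centralizer_singleton_iff.2 hg.symm.eq))⟩
  obtain ⟨N, hN, hodd, hmem⟩ := CfsgLib.ZStar.zstar hiso
  have heven : 2 ∣ Nat.card G := hτ ▸ orderOf_dvd_natCard τ
  rcases hN.eq_bot_or_eq_top with rfl | rfl
  · have hcent : τ ∈ Subgroup.center G := Subgroup.mem_center_iff.2 fun g => by
      have h := Subgroup.mem_bot.1 (hmem g)
      rw [mul_inv_eq_one, mul_inv_eq_iff_eq_mul] at h
      exact h.symm
    rcases (inferInstance : (Subgroup.center G).Normal).eq_bot_or_eq_top with h | h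
    · rw [h, Subgroup.mem_bot] at hcent
      rw [hcent, orderOf_one] at hτ
      omega
    · refine hG ⟨⟨fun a b => ?_⟩⟩
      exact (Subgroup.mem_center_iff.1 (h ▸ Subgroup.mem_top b) a)
  · rw [Subgroup.card_top] at hodd
    exact Nat.not_even_iff_odd.2 hodd (even_iff_two_dvd.2 heven)

end Cfsg.Agent.S3067
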