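import Cfsg.Statements.S3068
import Cfsg.Agent.Kinf.JDegree.Controls
import Cfsg.Agent.Transfer.Tate
import Cfsg.Agent.Solvable.NormalizerComplement

set_option autoImplicit false
open Cfsg

namespace Cfsg.Agent.S3068

/-- Let p ≥ 7 be a prime, S a Sylow p-subgroup of the finite group G, J(S) the subgroup generated by the abelian subgroups of S of largest order and M = N_G(J(S)). Then G/O^p(G) ≅ M/O^p(M): the largest p-factor group of G is that of M (here O^p(X) is the subgroup generated by the elements of X of order prime to p). -/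
theorem result {G : Type*} [Group G] [Finite G] {p : ℕ} [Fact p.Prime]
    (hp : 7 ≤ p) (S : Sylow p G)
    [hn : (Cfsg.pResidual p G).Normal]
    [hm : (Cfsg.pResidual p ↥(Subgroup.normalizer (Cfsg.thompsonSubgroupAOf (S : Subgroup G) : Set G))).Normal] :
    Nonempty (G ⧸ Cfsg.pResidual p G ≃*
      ↥(Subgroup.normalizer (Cfsg.thompsonSubgroupAOf (S : Subgroup G) : Set G)) ⧸
        Cfsg.pResidual p ↥(Subgroup.normalizer (Cfsg.thompsonSubgroupAOf (S : Subgroup G) : Set G))) := by
  classical
  set J := Cfsg.thompsonSubgroupAOf (S : Subgroup G) with hJ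
  set N := Subgroup.normalizer (J : Set G) with hN
  set K := Cfsg.pResidual p G
  have hW := CfsgLib.JDegree.isCharPFunctor_thompsonA p
  have htr := CfsgLib.Kinf.transfer_eq hW (CfsgLib.JDegree.transfer_thompsonA hp) S
  have hSN : (S : Subgroup G) ≤ N := by
    have h1 := CfsgLib.Functor.normalizer_le_functor
      (CfsgLib.Kinf.family_conjugacy (G := G) (p := p)
        (𝓦 := {fun Q [Group Q] => Cfsg.thompsonSubgroupA Q})
        (fun V hV => by rw [Set.mem_singleton_iff] at hV; exact hV ▸ hW) _ ⟨_, rfl, rfl⟩) S.2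
    exact Subgroup.le_normalizer.trans h1
  have htate : (S : Subgroup G) ⊓ K ≤ (Cfsg.pResidual p N).map N.subtype := by
    refine CfsgLib.Tate.inf_pResidual_le S N hSN ?_
    exact (le_inf inf_le_left (CfsgLib.NormalizerComplement.inf_pResidual_le_commutator S)).trans
      (htr.le.trans inf_le_right)
  let f : N →* G ⧸ K := (QuotientGroup.mk' K).comp N.subtype
  have hf : Function.Surjective f := fun y => by
    obtain ⟨⟨s, hs⟩, hy⟩ := (CfsgLib.Tate.map_sylow_eq_top S).ge (Subgroup.mem_top y)
    exact ⟨⟨s, hSN hs⟩, hy⟩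
  have hker : Cfsg.pResidual p N = f.ker := by
    ext x
    constructor
    · intro hx
      exact (QuotientGroup.eq_one_iff _).2
        (CfsgLib.PResidual.map_pResidual_le N.subtype (Subgroup.mem_map_of_mem N.subtype hx))
    · intro hx
      have hxK : (x : G) ∈ K := (QuotientGroup.eq_one_iff _).1 hx
      obtain ⟨s, hs⟩ := (CfsgLib.Tate.map_sylow_eq_top (S.subtype hSN)).ge
        (Subgroup.mem_top (QuotientGroup.mk' (Cfsg.pResidual p N) x))
      obtain ⟨⟨s, hsN⟩, hsS⟩ := s
      have hr : (⟨s, hsN⟩ : N)⁻¹ * x ∈ Cfsg.pResidual p N := QuotientGroup.eq.1 hs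
      have h1 : s⁻¹ * (x : G) ∈ (Cfsg.pResidual p N).map N.subtype := ⟨_, hr, rfl⟩
      have h2 : s ∈ K := by
        have := mul_mem hxK (inv_mem (CfsgLib.PResidual.map_pResidual_le N.subtype h1))
        simpa using this
      have h3 := mul_mem (htate ⟨hsS, h2⟩) h1
      rw [Subgroup.subtype_apply, mul_inv_cancel_left] at h3
      obtain ⟨y, hy, hyx⟩ := h3
      exact (Subtype.ext hyx : y = x) ▸ hy
  exact ⟨((QuotientGroup.quotientMulEquivOfEq hker).trans
    (QuotientGroup.quotientKerEquivOfSurjective f hf)).symm⟩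

end Cfsg.Agent.S3068
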