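import Cfsg.Statements.S3069
import Cfsg.Agent.Kinf.Consequences

set_option autoImplicit false
set_option linter.unusedVariables false
open Cfsg

namespace Cfsg.Agent.S3069

/-- Let p ≥ 7 be a prime and S a nontrivial Sylow p-subgroup of the finite group G. If N_G(S)/C_G(S) is a p-group (every element of N_G(S) of order prime to p centralizes S), then O^p(G) < G, i.e. G has a nontrivial p-factor group. -/
theorem result {G : Type*} [Group G] [Finite G] {p : ℕ} [Fact p.Prime]
    (hp : 7 ≤ p) (S : Sylow p G) (hS : (S : Subgroup G) ≠ ⊥)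
    (hN : ∀ g ∈ Subgroup.normalizer ((S : Subgroup G) : Set G), (orderOf g).Coprime p →
      g ∈ Subgroup.centralizer ((S : Subgroup G) : Set G)) :
    Cfsg.pResidual p G ≠ ⊤ := by
  open CfsgLib.Kinf in
  obtain ⟨N, hN', hidx⟩ := exists_index_p S (not_le_commutator (isCharPFunctor_kInf p).1 (fun K R _ =>
    transfer_kInf (by omega) _ (isCharPFunctor_kInf p).1 (fun Γ _ _ S h => Or.inl h) K R) _ G le_rfl
    (isSectionOf_self G) S hS hN)
  intro htop
  haveI := hN'
  have hle : Cfsg.pResidual p G ≤ N := by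
    rw [Cfsg.pResidual, Subgroup.closure_le]
    intro g hg
    rw [SetLike.mem_coe, ← QuotientGroup.eq_one_iff, ← QuotientGroup.mk'_apply, ← orderOf_eq_one_iff]
    have h1 : orderOf (QuotientGroup.mk' N g) ∣ p := hidx ▸ N.index_eq_card ▸ orderOf_dvd_natCard _
    exact Nat.eq_one_of_dvd_coprimes hg (orderOf_map_dvd _ g) h1
  rw [htop, top_le_iff] at hle
  rw [hle, Subgroup.index_top] at hidx
  exact (Fact.out : p.Prime).ne_one hidx.symm

end Cfsg.Agent.S3069
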