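import Cfsg.Statements.S3073
import Cfsg.Agent.S1988

set_option autoImplicit false
set_option linter.unusedVariables false
universe u
open Cfsg

namespace Cfsg.Agent.S3073

/-- For an odd prime p, every finite p-group S has a characteristic subgroup K with C_S(K) ≤ K such that, whenever S is (isomorphic to) a Sylow p-subgroup of a finite group G, G has a normal p-complement if and only if N_G(K)/C_G(K) is a p-group, i.e. every element of N_G(K) of order prime to p centralizes K (K transported into G along the isomorphism). -/
theorem result (p : ℕ) [Fact p.Prime] (hp : p ≠ 2)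
    (S : Type u) [Group S] [Finite S] (hS : IsPGroup p S) :
    ∃ K : Subgroup S, K.Characteristic ∧ Subgroup.centralizer (K : Set S) ≤ K ∧
      ∀ (G : Type u) [Group G] [Finite G] (P : Sylow p G) (e : ↥(P : Subgroup G) ≃* S),
        Cfsg.HasNormalPComplement p G ↔
          ∀ g ∈ Subgroup.normalizer (((K.comap (e : ↥(P : Subgroup G) →* S)).map (P : Subgroup G).subtype : Subgroup G) : Set G),
            (orderOf g).Coprime p →
              g ∈ Subgroup.centralizer (((K.comap (e : ↥(P : Subgroup G) →* S)).map (P : Subgroup G).subtype : Subgroup G) : Set G) := by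
  open CfsgLib.Kinf CfsgLib.Functor Subgroup in
  have hW := (isCharPFunctor_kInf.{u} p).1
  refine ⟨Cfsg.kInfLower S, functor_characteristic hW.2 S hS, centralizer_kInfLower_le hS, fun G _ _ P e => ?_⟩
  have hcomap : (Cfsg.kInfLower S).comap (e : ↥(P : Subgroup G) →* S) = Cfsg.kInfLower ↥(P : Subgroup G) := by
    exact (congrArg (Subgroup.comap (e : ↥(P : Subgroup G) →* S)) (hW.2 _ S P.2 e).symm).trans
      (comap_map_eq_self_of_injective e.injective _)
  rw [hcomap, show (Cfsg.kInfLower ↥(P : Subgroup G)).map (P : Subgroup G).subtype =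
    Cfsg.inducedFunctor (G := G) Cfsg.kInfLower (P : Subgroup G) from rfl]
  set K := Cfsg.inducedFunctor (G := G) Cfsg.kInfLower (P : Subgroup G) with hK
  refine ⟨fun h g hg hco => ?_, fun h => Cfsg.Agent.S1988.result hp P (Or.inr h)⟩
  rw [CfsgLib.PResidual.hasNormalPComplement_iff] at h
  set L := Cfsg.pResidual p G with hL
  have hgL : g ∈ L := subset_closure hco
  have hKp : IsPGroup p K := P.2.to_le (map_subtype_le _)
  refine mem_centralizer_iff.2 fun k hk => (commutatorElement_eq_one_iff_mul_comm.1 ?_).symm
  refine mem_bot.1 (CfsgLib.ZJ.isPGroup_inf_coprime hKp h ▸ ⟨?_, ?_⟩)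
  · rw [commutatorElement_def]
    exact K.mul_mem ((mem_normalizer_iff.1 hg k).1 hk) (K.inv_mem hk)
  · rw [commutatorElement_def, mul_assoc, mul_assoc]
    refine L.mul_mem hgL ?_
    rw [← mul_assoc]
    exact (inferInstance : L.Normal).conj_mem _ (L.inv_mem hgL) k

end Cfsg.Agent.S3073
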