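import Cfsg.Statements.S3074
import Cfsg.Agent.LocalB.QdSylow

set_option autoImplicit false
set_option linter.unusedVariables false
open Cfsg

namespace Cfsg.Agent.S3074

/-- Let p be an odd prime. A Sylow p-subgroup of Qd(p), the split extension of an elementary abelian group of order p² by SL₂(p) acting naturally, is extraspecial of order p³ and exponent p. -/
theorem result (p : ℕ) [Fact p.Prime] (hp : p ≠ 2) (P : Sylow p ↥(Cfsg.qd p)) :
    Cfsg.IsExtraspecial p ↥P ∧ Nat.card P = p ^ 3 ∧ Monoid.exponent ↥P = p := by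
  obtain ⟨U, hUP, hU, hne, hexp⟩ := CfsgLib.LocalB.exists_unipotent p hp
  have hcardP := CfsgLib.LocalB.card_sylow_qd p hp P
  obtain ⟨T, hT⟩ := hUP.exists_le_sylow
  have hTU : (T : Subgroup ↥(Cfsg.qd p)) = U :=
    (Subgroup.eq_of_le_of_card_ge hT (by rw [CfsgLib.LocalB.card_sylow_qd p hp T, hU])).symm
  obtain ⟨g, hg⟩ := MulAction.exists_smul_eq (↥(Cfsg.qd p)) T P
  have e : ↥U ≃* ↥(P : Subgroup ↥(Cfsg.qd p)) :=
    (MulEquiv.subgroupCongr hTU.symm).trans ((T.equiv P))
  have hexpP : ∀ x : ↥(P : Subgroup ↥(Cfsg.qd p)), x ^ p = 1 := fun x => by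
    apply e.symm.injective
    rw [map_pow, map_one]
    exact hexp _
  refine ⟨CfsgLib.LocalB.isExtraspecial_of_cube hexpP hcardP fun hc => hne ?_, hcardP, ?_⟩
  · intro a b
    apply e.injective
    rw [map_mul, map_mul]
    exact hc _ _
  · exact CfsgLib.LocalB.exponent_eq_prime hexpP (lt_of_lt_of_eq (one_lt_pow₀ (Fact.out : p.Prime).one_lt three_ne_zero) hcardP.symm)

end Cfsg.Agent.S3074
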