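import Cfsg.Statements.S3075
import Mathlib.LinearAlgebra.Matrix.SpecialLinearGroup
import Mathlib.FieldTheory.Finite.Basic

set_option autoImplicit false
set_option linter.unusedVariables false
open Cfsg

namespace Cfsg.Agent.S3075

/-- Let p be an odd prime and N a finite group with a normal elementary abelian subgroup A of order p² that is its own centralizer in N, such that N/A is isomorphic to SL₂(p) (over any field F with p elements). Then N splits over A: some subgroup U of N satisfies A ∩ U = 1 and AU = N. -/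
theorem result {N : Type*} [Group N] [Finite N] {p : ℕ} [Fact p.Prime] (hp : p ≠ 2)
    (A : Subgroup N) [A.Normal] (hAcomm : IsMulCommutative A) (hAcard : Nat.card A = p ^ 2) (hAexp : Monoid.exponent ↥A = p)
    (hAself : Subgroup.centralizer (A : Set N) = A)
    {F : Type*} [Field F] [Fintype F] (hF : Fintype.card F = p) (e : N ⧸ A ≃* Matrix.SpecialLinearGroup (Fin 2) F) :
    ∃ U : Subgroup N, A ⊓ U = ⊥ ∧ A ⊔ U = ⊤ := by
  have hpr : p.Prime := Fact.out
  classical
  set π := QuotientGroup.mk' A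
  have hAc : ∀ a ∈ A, ∀ b ∈ A, a * b = b * a := fun a ha b hb =>
    congrArg Subtype.val (hAcomm.1.comm ⟨a, ha⟩ ⟨b, hb⟩)
  have hAp : ∀ a ∈ A, a ^ p = 1 := fun a ha => by
    have := Monoid.pow_exponent_eq_one (⟨a, ha⟩ : A)
    rw [hAexp] at this
    simpa using congrArg Subtype.val this
  have hF2 : (2 : F) ≠ 0 := by
    intro h
    have h1 : CharP F p := by
      obtain ⟨q, hq⟩ := CharP.exists F
      have := hq
      obtain ⟨n, hn, hc⟩ := FiniteField.card F q
      rw [hF] at hc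
      rcases (Nat.prime_dvd_prime_iff_eq hn hpr).1 (hc ▸ dvd_pow_self q n.pos.ne') with rfl
      exact hq
    have h2 : ((2 : ℕ) : F) = 0 := by simpa using h
    rw [CharP.cast_eq_zero_iff F p] at h2
    exact hp ((Nat.prime_dvd_prime_iff_eq hpr Nat.prime_two).1 h2)
  -- the central involution of the quotient
  have hneg : (-1 : Matrix.SpecialLinearGroup (Fin 2) F) ≠ 1 := by
    intro h
    have h' := congrArg (fun M : Matrix.SpecialLinearGroup (Fin 2) F => (M : Matrix (Fin 2) (Fin 2) F) 0 0) h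
    have h'' : (-1 : F) = 1 := by simpa using h'
    exact hF2 (by linear_combination -h'')
  obtain ⟨t₀, ht₀⟩ := QuotientGroup.mk'_surjective A (e.symm (-1))
  obtain ⟨k, m, hm2, hkm⟩ := Nat.exists_eq_pow_mul_and_not_dvd (orderOf_pos t₀).ne' 2 (by norm_num)
  set t := t₀ ^ m
  have hπt : π t = e.symm (-1) := by
    rw [map_pow, ht₀, ← map_pow]
    exact congrArg e.symm ((Nat.odd_iff.2 (Nat.two_dvd_ne_zero.1 hm2)).neg_one_pow)
  have htA : t ∉ A := by
    intro h
    have h1 : π t = 1 := (QuotientGroup.eq_one_iff t).2 h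
    rw [hπt, MulEquiv.map_eq_one_iff] at h1
    exact hneg h1
  have htc : ∀ n : N, n * t * n⁻¹ * t⁻¹ ∈ A := by
    intro n
    rw [← QuotientGroup.eq_one_iff]
    show π (n * t * n⁻¹ * t⁻¹) = 1
    apply e.injective
    simp only [map_mul, map_inv, hπt, map_one, MulEquiv.apply_symm_apply]
    rw [mul_neg_one, neg_mul, mul_inv_cancel, mul_inv_cancel]
  have ht2 : t * t = 1 := by
    have h1 : t * t ∈ A := by
      rw [← QuotientGroup.eq_one_iff]
      show π (t * t) = 1
      rw [map_mul, hπt, ← map_mul, neg_one_mul, neg_neg, map_one]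
    have h2 : (t * t) ^ (2 ^ k) = 1 := by
      rw [← sq, ← pow_mul, ← pow_mul, show m * (2 * 2 ^ k) = orderOf t₀ * 2 by rw [hkm]; ring,
        pow_mul, pow_orderOf_eq_one, one_pow]
    have hcop : (2 ^ k).Coprime p := Nat.Coprime.pow_left _ ((Nat.coprime_primes Nat.prime_two hpr).2 (Ne.symm hp))
    have := pow_gcd_eq_one.2 ⟨h2, hAp _ h1⟩
    rwa [hcop.gcd_eq_one, pow_one] at this
  have htinv : t⁻¹ = t := inv_eq_of_mul_eq_one_right ht2
  -- eigenspaces
  let Lp : Subgroup N := A ⊓ Subgroup.centralizer ({t} : Set N)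
  let Lm : Subgroup N :=
    { carrier := {a | a ∈ A ∧ t * a * t = a⁻¹}
      one_mem' := ⟨one_mem A, by simp [ht2]⟩
      mul_mem' := by
        rintro a b ⟨ha, ha'⟩ ⟨hb, hb'⟩
        refine ⟨mul_mem ha hb, ?_⟩
        calc t * (a * b) * t = (t * a * t) * (t * b * t) := by
              rw [show (t * a * t) * (t * b * t) = t * a * (t * t) * b * t by group, ht2]; group
          _ = (a * b)⁻¹ := by rw [ha', hb', ← mul_inv_rev, hAc b hb a ha]
      inv_mem' := by
        rintro a ⟨ha, ha'⟩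
        refine ⟨inv_mem ha, ?_⟩
        calc t * a⁻¹ * t = (t⁻¹ * a * t⁻¹)⁻¹ := by group
          _ = a⁻¹⁻¹ := by rw [htinv, ha'] }
  have hmemP : ∀ {a}, a ∈ Lp ↔ a ∈ A ∧ t * a * t = a := by
    intro a
    rw [Subgroup.mem_inf, Subgroup.mem_centralizer_singleton_iff]
    refine and_congr_right fun _ => ⟨fun h => by rw [← h, mul_assoc, ht2, mul_one], fun h => ?_⟩
    calc a * t = t * a * t * t := by rw [h]
      _ = t * a := by rw [mul_assoc, ht2, mul_one]
  obtain ⟨r, hr⟩ : ∃ r : ℕ, p + 1 = 2 * r := by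
    obtain ⟨j, hj⟩ := hpr.odd_of_ne_two hp
    exact ⟨j + 1, by omega⟩
  have hroot : ∀ a ∈ A, (a * a) ^ r = a := by
    intro a ha
    rw [← sq, ← pow_mul, ← hr, pow_succ, hAp a ha, one_mul]
  have hsplit : ∀ a ∈ A, ∃ u ∈ Lp, ∃ v ∈ Lm, a = u * v := by
    intro a ha
    have hb : t * a * t ∈ A := by
      have := (inferInstance : A.Normal).conj_mem a ha t
      rwa [htinv] at this
    have htt : ∀ b : N, t * (t * b * t) * t = b := fun b => by
      rw [show t * (t * b * t) * t = (t * t) * b * (t * t) by group, ht2]; group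
    have hd : ∀ b c : N, t * (b * c) * t = (t * b * t) * (t * c * t) := fun b c => by
      rw [show (t * b * t) * (t * c * t) = t * b * (t * t) * c * t by group, ht2]; group
    refine ⟨(a * (t * a * t)) ^ r, pow_mem (hmemP.2 ⟨mul_mem ha hb, ?_⟩) r,
      (a * (t * a * t)⁻¹) ^ r, pow_mem (show _ ∈ Lm from ⟨mul_mem ha (inv_mem hb), ?_⟩) r, ?_⟩
    · rw [hd, htt, hAc _ hb _ ha]
    · rw [hd, show t * (t * a * t)⁻¹ * t = (t⁻¹ * (t * a * t) * t⁻¹)⁻¹ by group, htinv, htt,
        mul_inv_rev, inv_inv]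
    · have hcomm : Commute (a * (t * a * t)) (a * (t * a * t)⁻¹) :=
        hAc _ (mul_mem ha hb) _ (mul_mem ha (inv_mem hb))
      rw [← hcomm.mul_pow, hAc _ (mul_mem ha hb) _ (mul_mem ha (inv_mem hb)),
        show a * (t * a * t)⁻¹ * (a * (t * a * t)) = a * ((t * a * t)⁻¹ * a * (t * a * t)) by group,
        mul_assoc _ a, hAc a ha _ hb, inv_mul_cancel_left, hroot a ha]
  have hdisj : Lp ⊓ Lm = ⊥ := by
    rw [Subgroup.eq_bot_iff_forall]
    rintro a ⟨ha, ha'⟩
    have h1 : a * a = 1 := by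
      nth_rw 1 [← (hmemP.1 ha).2]
      rw [ha'.2, inv_mul_cancel]
    rw [← hroot a (hmemP.1 ha).1, h1, one_pow]
  have hmemP' : ∀ {a}, a ∈ Lp ↔ a ∈ A ∧ a ∈ Subgroup.centralizer ({t} : Set N) := Iff.rfl
  have hnormP : ∀ n : N, ∀ a ∈ Lp, n * a * n⁻¹ ∈ Lp := by
    intro n a ha
    refine hmemP'.2 ⟨(inferInstance : A.Normal).conj_mem a ha.1 n, ?_⟩
    -- `n⁻¹ t n` differs from `t` by an element of `A`
    set b := n⁻¹ * t * n⁻¹⁻¹ * t⁻¹ with hb
    have hbA : b ∈ A := htc n⁻¹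
    rw [Subgroup.mem_centralizer_singleton_iff]
    have h1 : a * t = t * a := Subgroup.mem_centralizer_singleton_iff.1 ha.2
    clear_value b
    have h2 : a * (b * t) = (b * t) * a := by
      rw [← mul_assoc, hAc a ha.1 b hbA, mul_assoc, h1, mul_assoc]
    calc n * a * n⁻¹ * t = n * (a * (b * t)) * n⁻¹ := by rw [hb]; group
      _ = n * (b * t * a) * n⁻¹ := by rw [h2]
      _ = t * (n * a * n⁻¹) := by rw [hb]; group
  have hnormM : ∀ n : N, ∀ a ∈ Lm, n * a * n⁻¹ ∈ Lm := by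
    intro n a ha
    refine ⟨(inferInstance : A.Normal).conj_mem a ha.1 n, ?_⟩
    set b := n⁻¹ * t * n⁻¹⁻¹ * t⁻¹ with hb
    have hbA : b ∈ A := htc n⁻¹
    have hta : t * a * t = a⁻¹ := ha.2
    have h2 : (b * t) * a * (b * t)⁻¹ = a⁻¹ := by
      calc (b * t) * a * (b * t)⁻¹ = b * (t * a * t⁻¹) * b⁻¹ := by group
        _ = b * a⁻¹ * b⁻¹ := by rw [htinv, hta]
        _ = a⁻¹ := by rw [hAc b hbA _ (inv_mem ha.1), mul_inv_cancel_right]
    calc t * (n * a * n⁻¹) * t = n * ((b * t) * a * (b * t)⁻¹) * n⁻¹ := by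
          nth_rw 2 [← htinv]; rw [hb]; group
      _ = (n * a * n⁻¹)⁻¹ := by rw [h2]; group
  have hcase : Lp = ⊥ := by
    by_contra hP
    have hM : Lm ≠ ⊥ := by
      intro hM
      apply htA
      rw [← hAself, Subgroup.mem_centralizer_iff]
      intro a ha
      obtain ⟨u, hu, v, hv, rfl⟩ := hsplit a ha
      rw [hM, Subgroup.mem_bot] at hv
      rw [hv, mul_one]
      exact Subgroup.mem_centralizer_singleton_iff.1 hu.2
    have hcard : ∀ L L' : Subgroup N, L ≤ A → L' ≤ A → L ⊓ L' = ⊥ → L ≠ ⊥ → L' ≠ ⊥ → Nat.card L = p := by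
      intro L L' hL hL' hd hne hne'
      obtain ⟨i, hi2, hi⟩ := (Nat.dvd_prime_pow hpr).1 (hAcard ▸ Subgroup.card_dvd_of_le hL)
      have hi0 : i ≠ 0 := fun h => hne (Subgroup.eq_bot_of_card_eq L (by simp [hi, h]))
      have hi1 : i ≠ 2 := by
        intro h
        apply hne'
        have : L = A := Subgroup.eq_of_le_of_card_ge hL (by rw [hi, h, hAcard])
        rw [← hd, this, inf_eq_right.2 hL']
      rw [hi, show i = 1 by omega, pow_one]
    have hcP := hcard Lp Lm inf_le_left (fun a ha => ha.1) hdisj hP hM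
    have hcM := hcard Lm Lp (fun a ha => ha.1) inf_le_left (by rw [inf_comm]; exact hdisj) hM hP
    -- commutators act trivially on a normal subgroup of prime order
    have htriv : ∀ L : Subgroup N, Nat.card L = p → (∀ n : N, ∀ a ∈ L, n * a * n⁻¹ ∈ L) →
        ∀ n m : N, ∀ a ∈ L, (n * m) * a * (n * m)⁻¹ = (m * n) * a * (m * n)⁻¹ := by
      intro L hL hn n m a ha
      by_cases ha1 : a = 1
      · subst ha1; simp
      have hgen : Subgroup.zpowers a = L := by
        refine Subgroup.eq_of_le_of_card_ge (Subgroup.zpowers_le.2 ha) ?_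
        rw [hL, Nat.card_zpowers]
        have h1 : orderOf a ∣ p := hL ▸ Subgroup.orderOf_dvd_natCard L ha
        rcases (Nat.dvd_prime hpr).1 h1 with h2 | h2
        · exact absurd (orderOf_eq_one_iff.1 h2) ha1
        · omega
      obtain ⟨i, hi⟩ := Subgroup.mem_zpowers_iff.1 (show n * a * n⁻¹ ∈ Subgroup.zpowers a from hgen ▸ hn n a ha)
      obtain ⟨j, hj⟩ := Subgroup.mem_zpowers_iff.1 (show m * a * m⁻¹ ∈ Subgroup.zpowers a from hgen ▸ hn m a ha)
      calc (n * m) * a * (n * m)⁻¹ = n * (m * a * m⁻¹) * n⁻¹ := by group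
        _ = a ^ (i * j) := by rw [← hj, ← conj_zpow, ← hi, ← zpow_mul]
        _ = m * (n * a * n⁻¹) * m⁻¹ := by rw [← hi, ← conj_zpow, ← hj, ← zpow_mul, mul_comm]
        _ = (m * n) * a * (m * n)⁻¹ := by group
    have habel : ∀ n m : N, π n * π m = π m * π n := by
      intro n m
      rw [← map_mul, ← map_mul]
      refine (QuotientGroup.eq).2 ?_
      rw [← hAself, Subgroup.mem_centralizer_iff]
      intro a ha
      obtain ⟨u, hu, v, hv, rfl⟩ := hsplit a ha
      have h1 : (n * m) * (u * v) * (n * m)⁻¹ = (m * n) * (u * v) * (m * n)⁻¹ := by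
        rw [← conj_mul, ← conj_mul, htriv Lp hcP hnormP n m u hu, htriv Lm hcM hnormM n m v hv]
      calc u * v * ((n * m)⁻¹ * (m * n))
          = (n * m)⁻¹ * ((n * m) * (u * v) * (n * m)⁻¹) * (m * n) := by group
        _ = (n * m)⁻¹ * ((m * n) * (u * v) * (m * n)⁻¹) * (m * n) := by rw [h1]
        _ = (n * m)⁻¹ * (m * n) * (u * v) := by group
    let U₁ : Matrix.SpecialLinearGroup (Fin 2) F := ⟨!![1, 1; 0, 1], by simp [Matrix.det_fin_two]⟩
    let U₂ : Matrix.SpecialLinearGroup (Fin 2) F := ⟨!![1, 0; 1, 1], by simp [Matrix.det_fin_two]⟩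
    obtain ⟨n₁, hn₁⟩ := QuotientGroup.mk'_surjective A (e.symm U₁)
    obtain ⟨n₂, hn₂⟩ := QuotientGroup.mk'_surjective A (e.symm U₂)
    have h := congrArg e (habel n₁ n₂)
    rw [hn₁, hn₂, map_mul, map_mul, MulEquiv.apply_symm_apply, MulEquiv.apply_symm_apply] at h
    have h' := congrArg (fun M : Matrix.SpecialLinearGroup (Fin 2) F => (M : Matrix (Fin 2) (Fin 2) F) 0 0) h
    simp only [Matrix.SpecialLinearGroup.coe_mul] at h'
    simp [U₁, U₂, Matrix.mul_apply, Fin.sum_univ_two] at h'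
  refine ⟨Subgroup.centralizer ({t} : Set N), hcase, ?_⟩
  rw [eq_top_iff]
  intro n _
  have ha : n * t * n⁻¹ * t⁻¹ ∈ A := htc n
  set a := n * t * n⁻¹ * t⁻¹ with hadef
  have hinv : ∀ b ∈ A, t * b * t = b⁻¹ := by
    intro b hb
    obtain ⟨u, hu, v, hv, rfl⟩ := hsplit b hb
    rw [hcase, Subgroup.mem_bot] at hu
    rw [hu, one_mul]; exact hv.2
  have har : (a ^ r) * t * (a ^ r)⁻¹ = n * t * n⁻¹ := by
    have h1 : t * (a ^ r)⁻¹ = a ^ r * t := by
      conv_lhs => rw [← hinv _ (pow_mem ha r)]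
      rw [← mul_assoc, ← mul_assoc, ht2, one_mul]
    rw [mul_assoc, h1, ← mul_assoc, ← (Commute.refl a).mul_pow, hroot a ha, hadef]
    group
  rw [show n = a ^ r * ((a ^ r)⁻¹ * n) by group]
  refine Subgroup.mul_mem_sup (pow_mem ha r) (Subgroup.mem_centralizer_singleton_iff.2 ?_)
  calc (a ^ r)⁻¹ * n * t = (a ^ r)⁻¹ * (n * t * n⁻¹) * n := by group
    _ = (a ^ r)⁻¹ * (a ^ r * t * (a ^ r)⁻¹) * n := by rw [har]
    _ = t * ((a ^ r)⁻¹ * n) := by group

end Cfsg.Agent.S3075
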