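import Cfsg.Statements.S3076
import Cfsg.Agent.S0542
import Cfsg.Agent.Transfer.Alperin
import Cfsg.Agent.PLocal.PConstrained
import Cfsg.Agent.Comp.ExtTwoLayer

set_option autoImplicit false
set_option linter.unusedVariables false
open Cfsg

namespace Cfsg.Agent.S3076

/-- Let P be a Sylow p-subgroup of the finite group G and H ≤ P a subgroup with N_P(H) a Sylow p-subgroup of N_G(H). Let N be the preimage in N_G(H) of O_p(N_G(H)/C_G(H)). Then H is a Sylow p-subgroup of N if and only if C_P(H) ≤ H and O_{p',p}(N_G(H)) = H·C_G(H). -/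
theorem result {G : Type*} [Group G] [Finite G] {p : ℕ} [Fact p.Prime]
    (P : Sylow p G) (H : Subgroup G) (hHP : H ≤ (P : Subgroup G))
    (hSyl : ¬ p ∣ ((P : Subgroup G) ⊓ Subgroup.normalizer (H : Set G)).relIndex (Subgroup.normalizer (H : Set G)))
    [hC : ((Subgroup.centralizer (H : Set G)).subgroupOf (Subgroup.normalizer (H : Set G))).Normal] :
    (H ≤ ((Cfsg.pCore p (↥(Subgroup.normalizer (H : Set G)) ⧸
              (Subgroup.centralizer (H : Set G)).subgroupOf (Subgroup.normalizer (H : Set G)))).comap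
            (QuotientGroup.mk' _)).map (Subgroup.normalizer (H : Set G)).subtype ∧
      ¬ p ∣ H.relIndex (((Cfsg.pCore p (↥(Subgroup.normalizer (H : Set G)) ⧸
              (Subgroup.centralizer (H : Set G)).subgroupOf (Subgroup.normalizer (H : Set G)))).comap
            (QuotientGroup.mk' _)).map (Subgroup.normalizer (H : Set G)).subtype)) ↔
    ((P : Subgroup G) ⊓ Subgroup.centralizer (H : Set G) ≤ H ∧
      (Cfsg.pPrimePCore p ↥(Subgroup.normalizer (H : Set G))).map (Subgroup.normalizer (H : Set G)).subtype =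
        H ⊔ Subgroup.centralizer (H : Set G)) := by
  have hpr : p.Prime := Fact.out
  set A := Subgroup.normalizer (H : Set G) with hA
  set H0 := H.subgroupOf A with hH0
  set C0 := (Subgroup.centralizer (H : Set G)).subgroupOf A with hC0
  have hHA : H ≤ A := Subgroup.le_normalizer
  have hCA : Subgroup.centralizer (H : Set G) ≤ A := Subgroup.centralizer_le_normalizer _
  have hH0map : H0.map A.subtype = H := Subgroup.map_subgroupOf_eq_of_le hHA
  have hC0map : C0.map A.subtype = Subgroup.centralizer (H : Set G) := Subgroup.map_subgroupOf_eq_of_le hCA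
  haveI hH0n : H0.Normal := Subgroup.normal_in_normalizer
  have hH0p : IsPGroup p H0 := (P.isPGroup'.to_le hHP).comap_subtype
  set π := QuotientGroup.mk' C0 with hπ
  set N0 := (Cfsg.pCore p (A ⧸ C0)).comap π with hN0
  have hH0N : H0 ≤ N0 := Subgroup.map_le_iff_le_comap.1 (CfsgLib.Solvable.le_pCore p
    (hH0n.map π (QuotientGroup.mk'_surjective C0)) (hH0p.map π))
  have hHN : H ≤ N0.map A.subtype := hH0map ▸ Subgroup.map_mono hH0N
  have hC0N : C0 ≤ N0 := fun c hc => by
    rw [hN0, Subgroup.mem_comap, hπ, QuotientGroup.mk'_apply, (QuotientGroup.eq_one_iff c).2 hc]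
    exact one_mem _
  obtain ⟨kN, hkN⟩ : ∃ k, C0.relIndex N0 = p ^ k := by
    have := Subgroup.relIndex_comap (⊥ : Subgroup (A ⧸ C0)) π N0
    rw [MonoidHom.comap_bot, hπ, QuotientGroup.ker_mk', hN0,
      Subgroup.map_comap_eq_self_of_surjective (QuotientGroup.mk'_surjective _),
      Subgroup.relIndex_bot_left] at this
    rw [hN0, this]
    exact (CfsgLib.Solvable.isPGroup_pCore p).exists_card_eq
  let Q : Sylow p A := (IsPGroup.comap_subtype (K := A) (P.isPGroup'.to_le (inf_le_left :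
    (P : Subgroup G) ⊓ A ≤ P))).toSylow hSyl
  have hQ : ∀ u : A, u ∈ (Q : Subgroup A) ↔ (u : G) ∈ (P : Subgroup G) :=
    fun u => ⟨fun h => h.1, fun h => ⟨h, u.2⟩⟩
  have hH0Q : H0 ≤ (Q : Subgroup A) := fun u hu => (hQ u).2 (hHP hu)
  set O1 := Cfsg.pPrimeCore p A with hO1
  haveI : O1.Normal := CfsgLib.Solvable.pPrimeCore_normal p
  have hO1c : (Nat.card O1).Coprime p := CfsgLib.Solvable.coprime_card_pPrimeCore p
  have hO1C : O1 ≤ C0 := by
    obtain ⟨k, hk⟩ := hH0p.exists_card_eq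
    have hd : O1 ⊓ H0 = ⊥ := Subgroup.inf_eq_bot_of_coprime (hk ▸ hO1c.pow_right k)
    intro u hu
    rw [hC0, Subgroup.mem_subgroupOf, Subgroup.mem_centralizer_iff]
    intro h hh
    exact congrArg Subtype.val (Subgroup.commute_of_normal_of_disjoint O1 H0 inferInstance hH0n
      (disjoint_iff.2 hd) u ⟨h, hHA hh⟩ hu hh).eq.symm
  set PP := Cfsg.pPrimePCore p A with hPP
  set π1 := QuotientGroup.mk' O1 with hπ1
  have hPPdef : PP = (Cfsg.pCore p (A ⧸ O1)).comap π1 := rfl
  haveI : PP.Normal := (CfsgLib.Solvable.pCore_normal p).comap π1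
  obtain ⟨kP, hkP⟩ : ∃ k, O1.relIndex PP = p ^ k := by
    have := Subgroup.relIndex_comap (⊥ : Subgroup (A ⧸ O1)) π1 PP
    rw [MonoidHom.comap_bot, hπ1, QuotientGroup.ker_mk', hPPdef,
      Subgroup.map_comap_eq_self_of_surjective (QuotientGroup.mk'_surjective _),
      Subgroup.relIndex_bot_left] at this
    rw [hPPdef, this]
    exact (CfsgLib.Solvable.isPGroup_pCore p).exists_card_eq
  have hle_PP : ∀ R : Subgroup A, R.Normal → (∃ k, O1.relIndex R = p ^ k) → R ≤ PP := by
    intro R hR hk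
    rw [hPPdef, ← Subgroup.map_le_iff_le_comap]
    refine CfsgLib.Solvable.le_pCore p (hR.map π1 (QuotientGroup.mk'_surjective O1)) ?_
    obtain ⟨k, hk⟩ := hk
    refine IsPGroup.of_card (n := k) ?_
    have := Subgroup.relIndex_comap (⊥ : Subgroup (A ⧸ O1)) π1 R
    rw [MonoidHom.comap_bot, hπ1, QuotientGroup.ker_mk', Subgroup.relIndex_bot_left] at this
    rw [hπ1, ← this, hk]
  have hO1PP : O1 ≤ PP := fun u hu => by
    rw [hPPdef, Subgroup.mem_comap, hπ1, QuotientGroup.mk'_apply, (QuotientGroup.eq_one_iff u).2 hu]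
    exact one_mem _
  have hH0PP : H0 ≤ PP := Subgroup.map_le_iff_le_comap.1 (CfsgLib.Solvable.le_pCore p
    (hH0n.map π1 (QuotientGroup.mk'_surjective O1)) (hH0p.map π1))
  have hrel : H.relIndex (N0.map A.subtype) = H0.relIndex N0 := by
    conv_lhs => rw [← hH0map]
    exact Subgroup.relIndex_map_map_of_injective H0 N0 A.subtype_injective
  constructor
  · rintro ⟨-, hsyl⟩
    replace hsyl : ¬ p ∣ H0.relIndex N0 := hrel ▸ hsyl
    have hgen : N0 ≤ H0 ⊔ C0 := by
      rw [← Subgroup.subgroupOf_eq_top, ← Subgroup.index_eq_one]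
      refine Nat.eq_one_of_dvd_coprimes (a := (H0.subgroupOf N0).index) (b := (C0.subgroupOf N0).index) ?_
        (Subgroup.index_dvd_of_le (Subgroup.comap_mono le_sup_left))
        (Subgroup.index_dvd_of_le (Subgroup.comap_mono le_sup_right))
      rw [← Subgroup.relIndex, ← Subgroup.relIndex, hkN]
      exact ((hpr.coprime_iff_not_dvd.2 hsyl).symm).pow_right kN
    have hQC : (Q : Subgroup A) ⊓ C0 ≤ H0 := by
      have := CfsgLib.Fusion.eq_of_le_of_relIndex (Q.isPGroup'.to_le (inf_le_left : (Q : Subgroup A) ⊓ N0 ≤ Q))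
        (le_inf hH0Q hH0N) inf_le_right hsyl
      exact (inf_le_inf_left _ hC0N).trans this.ge
    refine ⟨fun u hu => hQC (x := ⟨u, hCA hu.2⟩) ⟨(hQ _).2 hu.1, hu.2⟩, ?_⟩
    -- the centralizer lies in `O_{p',p}`
    obtain ⟨T, hT⟩ := Cfsg.Agent.S0542.result p C0 (Subgroup.Normal.isSubnormal hC) Q
    have hTc : Subgroup.normalizer ((T : Subgroup C0) : Set C0) ≤ Subgroup.centralizer ((T : Subgroup C0) : Set C0) := by
      intro c _
      refine Subgroup.mem_centralizer_iff.2 fun t ht => ?_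
      rw [SetLike.mem_coe, hT] at ht
      have htH : ((t : A) : G) ∈ H := hQC ⟨ht, t.2⟩
      exact Subtype.ext (Subtype.ext (Subgroup.mem_centralizer_iff.1 c.2 _ htH))
    have hcompl := MonoidHom.ker_transferSylow_isComplement' T hTc
    set K := (MonoidHom.transferSylow T hTc).ker with hK
    have hKc : (Nat.card K).Coprime p := by
      rw [← hcompl.index_eq_card]
      exact (hpr.coprime_iff_not_dvd.2 T.not_dvd_index).symm
    have hKO : K.map C0.subtype ≤ O1 := by
      refine (Subgroup.map_mono (CfsgLib.Solvable.le_pPrimeCore p inferInstance hKc)).trans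
        (CfsgLib.Solvable.le_pPrimeCore p (CfsgLib.PConstrained.normal_map_pPrimeCore hC) ?_)
      rw [Subgroup.card_map_of_injective C0.subtype_injective]
      exact CfsgLib.Solvable.coprime_card_pPrimeCore p
    have hC0PP : C0 ≤ PP := by
      intro c hc
      obtain ⟨⟨k, t⟩, hkt⟩ := hcompl.2 ⟨c, hc⟩
      have e : ((k : C0) : A) * ((t : C0) : A) = c := congrArg Subtype.val hkt
      rw [← e]
      refine mul_mem (hO1PP (hKO ⟨k, k.2, rfl⟩)) (hH0PP (hQC ⟨?_, SetLike.coe_mem _⟩))
      exact hT.le t.2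
    have hPPN : PP ≤ N0 := by
      rw [hN0, ← Subgroup.map_le_iff_le_comap]
      refine CfsgLib.Solvable.le_pCore p ((inferInstance : PP.Normal).map π (QuotientGroup.mk'_surjective C0)) ?_
      have h1 := Subgroup.relIndex_comap (⊥ : Subgroup (A ⧸ C0)) π PP
      rw [MonoidHom.comap_bot, hπ, QuotientGroup.ker_mk', Subgroup.relIndex_bot_left] at h1
      obtain ⟨j, -, hj⟩ := (Nat.dvd_prime_pow hpr).1 (hkP ▸ Subgroup.relIndex_dvd_of_le_left PP hO1C)
      exact IsPGroup.of_card (n := j) (by rw [hπ, ← h1, hj])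
    have hfin := congrArg (Subgroup.map A.subtype) (le_antisymm (hPPN.trans hgen) (sup_le hH0PP hC0PP))
    rw [Subgroup.map_sup, hH0map, hC0map] at hfin
    exact hfin
  · rintro ⟨hPC, heq⟩
    refine ⟨hHN, ?_⟩
    show ¬ p ∣ H.relIndex (N0.map A.subtype)
    rw [hrel]
    have hPPeq : PP = H0 ⊔ C0 := by
      apply Subgroup.map_injective A.subtype_injective
      rw [Subgroup.map_sup, hH0map, hC0map]
      exact heq
    have hC0PP : C0 ≤ PP := hPPeq ▸ le_sup_right
    have hNeq : N0 = H0 ⊔ C0 := by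
      refine le_antisymm ?_ (sup_le hH0N hC0N)
      rw [← hPPeq]
      refine hle_PP N0 ((CfsgLib.Solvable.pCore_normal p).comap π) ?_
      have hPPN : PP ≤ N0 := hPPeq ▸ sup_le hH0N hC0N
      obtain ⟨j, -, hj⟩ := (Nat.dvd_prime_pow hpr).1 (hkN ▸ Subgroup.relIndex_dvd_of_le_left N0 hC0PP)
      exact ⟨kP + j, by rw [← Subgroup.relIndex_mul_relIndex O1 PP N0 hO1PP hPPN, hkP, hj, pow_add]⟩
    rw [hNeq, sup_comm, Subgroup.relIndex_sup_right]
    have hinf : H0 ⊓ C0 = (Q : Subgroup A) ⊓ C0 :=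
      le_antisymm (inf_le_inf_right _ hH0Q) fun u hu => ⟨hPC ⟨(hQ u).1 hu.1, hu.2⟩, hu.2⟩
    rw [← Subgroup.inf_relIndex_right, hinf, Subgroup.inf_relIndex_right]
    exact hpr.coprime_iff_not_dvd.1
      (CfsgLib.ExtTwoLayer.coprime_relIndex_inf_of_subnormal (Subgroup.Normal.isSubnormal hC) Q).symm

end Cfsg.Agent.S3076
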