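import Cfsg.Statements.S3082
import Cfsg.Agent.LocalB.ClosedComplement

set_option autoImplicit false
set_option linter.unusedVariables false
open Cfsg

namespace Cfsg.Agent.S3082

/-- The Glauberman–Thompson normal p-complement criterion for strongly closed subgroups, p odd. Let G be a finite group, P a Sylow p-subgroup and D a subgroup of P strongly closed in P with respect to G. If N_G(Z(J(D))) has a normal p-complement (J(D) generated by the abelian subgroups of D of largest order), or N_G(Ω₁(Z(J_e(D)))) has one (J_e(D) generated by the elementary abelian subgroups of largest order), then G has a normal p-complement. -/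
theorem result {G : Type*} [Group G] [Finite G] {p : ℕ} [Fact p.Prime] (hp : p ≠ 2) (P : Sylow p G) (D : Subgroup G) (hD : Cfsg.IsStronglyClosed D (P : Subgroup G)) (h : Cfsg.HasNormalPComplement p ↥(Subgroup.normalizer ((Cfsg.centerThompsonAOf D) : Set G)) ∨ Cfsg.HasNormalPComplement p ↥(Subgroup.normalizer ((Cfsg.omegaOne p (Cfsg.centerThompsonOf p D)) : Set G))) : Cfsg.HasNormalPComplement p G := by
  have htop : ∀ W : Subgroup G, W = ⊥ → Cfsg.HasNormalPComplement p ↥(Subgroup.normalizer (W : Set G)) →
      Cfsg.HasNormalPComplement p G := by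
    intro W hW hN
    subst hW
    rw [Subgroup.normalizer_eq_top (H := (⊥ : Subgroup G))] at hN
    exact CfsgLib.ZJ.hnpc_of_surjective (Subgroup.topEquiv : (⊤ : Subgroup G) ≃* G).toMonoidHom
      (MulEquiv.surjective _) hN
  by_cases hD1 : D = ⊥
  · subst hD1
    rcases h with h | h
    · exact htop _ (le_bot_iff.1 ((CfsgLib.ZJ.zkind_centerThompsonA hp).le G ⊥)) h
    · exact htop _ (le_bot_iff.1 ((CfsgLib.ZJ.zkind_omega hp).le G ⊥)) h
  rcases h with h | h
  · exact CfsgLib.ClosedComplement.hasNormalPComplement hp (CfsgLib.ZJ.zkind_centerThompsonA hp) G P D hD hD1 h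
  · exact CfsgLib.ClosedComplement.hasNormalPComplement hp (CfsgLib.ZJ.zkind_omega hp) G P D hD hD1 h

end Cfsg.Agent.S3082
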