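import Cfsg.Statements.S3087

set_option autoImplicit false
open Cfsg

namespace Cfsg.Agent.S3087

/-- Let p be a prime, G a finite group acting linearly on a finite vector space V over the field with p elements, W a G-invariant subspace, and A a subgroup of G with |A|·|C_V(A)| ≥ |B|·|C_V(B)| for every subgroup B of A. Then |A|·|C_W(A)| ≥ |B|·|C_W(B)| for every subgroup B of A that contains C_A(W); that is, the image of A in the group induced on W satisfies the same maximality condition. -/
theorem result {G V : Type*} [Group G] [Finite G] [AddCommGroup V] [Finite V] (p : ℕ) [Fact p.Prime] [Module (ZMod p) V]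
    (ρ : Representation (ZMod p) G V) (W : Submodule (ZMod p) V) (hW : ∀ g : G, ∀ w ∈ W, ρ g w ∈ W)
    (A : Subgroup G)
    (hP : ∀ B : Subgroup G, B ≤ A →
      Nat.card ↥B * Nat.card {v : V // ∀ b ∈ B, ρ b v = v} ≤ Nat.card ↥A * Nat.card {v : V // ∀ a ∈ A, ρ a v = v})
    (B : Subgroup G) (hBA : B ≤ A) (hCB : ∀ a ∈ A, (∀ w ∈ W, ρ a w = w) → a ∈ B) :
    Nat.card ↥B * Nat.card {w : W // ∀ b ∈ B, ρ b w = w} ≤ Nat.card ↥A * Nat.card {w : W // ∀ a ∈ A, ρ a w = w} := by
  classical
  let fx : Subgroup G → AddSubgroup V := fun S =>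
    { carrier := {v | ∀ b ∈ S, ρ b v = v}
      zero_mem' := by intro b _; simp
      add_mem' := by intro x y hx hy b hb; simp [hx b hb, hy b hb]
      neg_mem' := by intro x hx b hb; simp [hx b hb] }
  let fw : Subgroup G → AddSubgroup V := fun S => fx S ⊓ W.toAddSubgroup
  have hVA : Nat.card {v : V // ∀ a ∈ A, ρ a v = v} = Nat.card (fx A) := rfl
  have hVB : Nat.card {v : V // ∀ a ∈ B, ρ a v = v} = Nat.card (fx B) := rfl
  have hW' : ∀ S : Subgroup G, Nat.card {w : W // ∀ a ∈ S, ρ a w = w} = Nat.card (fw S) := by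
    intro S
    exact Nat.card_congr
      ⟨fun w => ⟨(w.1 : V), w.2, w.1.2⟩, fun v => ⟨⟨v.1, v.2.2⟩, v.2.1⟩, fun w => rfl, fun v => rfl⟩
  let f : fx A × fw B →+ fx B :=
    { toFun := fun q => ⟨(q.1 : V) + q.2, (fx B).add_mem (fun b hb => q.1.2 b (hBA hb)) q.2.2.1⟩
      map_zero' := by ext; simp
      map_add' := by intro x y; ext; simp only [Prod.fst_add, Prod.snd_add, AddSubgroup.coe_add]; abel }
  have hker : Nat.card f.ker ≤ Nat.card (fw A) := by
    refine Nat.card_le_card_of_injective
      (fun q => ⟨(q.1.1 : V), q.1.1.2, ?_⟩) ?_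
    · have h := congrArg Subtype.val q.2
      have : (q.1.1 : V) = -(q.1.2 : V) := by
        rw [eq_neg_iff_add_eq_zero]; exact h
      rw [this]; exact W.toAddSubgroup.neg_mem q.1.2.2.2
    · intro a b hab
      have h1 : (a.1.1 : V) = b.1.1 := congrArg (fun z : fw A => (z : V)) hab
      have ha : (a.1.1 : V) + a.1.2 = 0 := congrArg Subtype.val a.2
      have hb : (b.1.1 : V) + b.1.2 = 0 := congrArg Subtype.val b.2
      have h2 : (a.1.2 : V) = b.1.2 := by
        rw [h1] at ha; exact add_left_cancel (ha.trans hb.symm)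
      exact Subtype.ext (Prod.ext (Subtype.ext h1) (Subtype.ext h2))
  have hcard : Nat.card (fx A) * Nat.card (fw B) ≤ Nat.card (fw A) * Nat.card (fx B) := by
    rw [← Nat.card_prod, ← f.ker.card_mul_index, AddSubgroup.index_ker]
    exact Nat.mul_le_mul hker (Nat.card_le_card_of_injective _ Subtype.val_injective)
  have h := hP B hBA
  rw [hVA, hVB] at h
  rw [hW', hW']
  have hpos : 0 < Nat.card (fx A) := Nat.card_pos
  refine Nat.le_of_mul_le_mul_left ?_ hpos
  calc Nat.card (fx A) * (Nat.card B * Nat.card (fw B))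
      = Nat.card B * (Nat.card (fx A) * Nat.card (fw B)) := by ring
    _ ≤ Nat.card B * (Nat.card (fw A) * Nat.card (fx B)) := Nat.mul_le_mul_left _ hcard
    _ = (Nat.card B * Nat.card (fx B)) * Nat.card (fw A) := by ring
    _ ≤ (Nat.card A * Nat.card (fx A)) * Nat.card (fw A) := Nat.mul_le_mul_right _ h
    _ = Nat.card (fx A) * (Nat.card A * Nat.card (fw A)) := by ring

end Cfsg.Agent.S3087
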