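import Cfsg.Statements.S3103
import Cfsg.Agent.S0256
import Cfsg.Agent.RadFree.Linear
import Cfsg.Agent.PLocal.PStableQuot
import Cfsg.Agent.Fusion.MetacyclicAut
import Cfsg.Agent.Solvable.Basics

set_option autoImplicit false
open Cfsg

namespace Cfsg.Agent.S3103

/-- automorphisms of an elementary abelian group of order at most `16` embed in `GL₄(2)` -/
lemma exists_gl_four {V : Type*} [Group V] [Finite V] (hc : ∀ a b : V, a * b = b * a)
    (h2 : ∀ a : V, a ^ 2 = 1) (hcard : Nat.card V ≤ 2 ^ 4) :
    ∃ f : MulAut V →* GL (Fin 4) (ZMod 2), Function.Injective f := by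
  classical
  letI : CommGroup V := { (inferInstance : Group V) with mul_comm := hc }
  letI : Module (ZMod 2) (Additive V) := AddCommGroup.zmodModule (fun a => by
    apply Additive.toMul.injective
    exact h2 a.toMul)
  set d := Module.finrank (ZMod 2) (Additive V)
  have hd : d ≤ 4 := by
    have h := Module.natCard_eq_pow_finrank (K := ZMod 2) (V := Additive V)
    rw [Nat.card_zmod] at h
    have h' : 2 ^ d ≤ 2 ^ 4 := by rw [← h]; exact hcard
    exact (Nat.pow_le_pow_iff_right (by norm_num)).mp h'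
  let e : (Additive V × (Fin (4 - d) → ZMod 2)) ≃ₗ[ZMod 2] (Fin 4 → ZMod 2) :=
    LinearEquiv.ofFinrankEq _ _ (by simp [Module.finrank_prod]; omega)
  let a : MulAut V →* ((Fin 4 → ZMod 2) →ₗ[ZMod 2] (Fin 4 → ZMod 2)) :=
    { toFun := fun α => e.toLinearMap ∘ₗ
        (((MonoidHom.toAdditive α.toMonoidHom).toZModLinearMap 2).prodMap LinearMap.id) ∘ₗ e.symm.toLinearMap
      map_one' := by
        ext v i
        simp
      map_mul' := fun α β => by
        ext v i
        simp [Module.End.mul_apply] }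
  have ha : Function.Injective a := by
    intro α β h
    ext v
    have h1 := congrArg (fun L => L (e (Additive.ofMul v, 0))) h
    simp [a] at h1
    exact h1
  refine ⟨(Units.mapEquiv (LinearMap.toMatrixAlgEquiv' (R := ZMod 2) (n := Fin 4)).toMulEquiv).toMonoidHom.comp
    a.toHomUnits, ?_⟩
  intro α β h
  apply ha
  have h' := (Units.mapEquiv _).injective h
  exact congrArg Units.val h'

end Cfsg.Agent.S3103

namespace Cfsg.Agent.S3103

/-- Let X be a finite 2-constrained group with no nontrivial normal subgroup of odd order such that O₂(X) has sectional 2-rank at most 4. Then X/O₂(X) is isomorphic to a subgroup of the alternating group of degree 8. -/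
theorem result {X : Type*} [Group X] [Finite X] (hc : Cfsg.IsPConstrained 2 X) (hO : Cfsg.oddCore X = ⊥)
    (h4 : Cfsg.SectionalPRankLE 2 4 ↥(Cfsg.pCore 2 X)) :
    ∃ f : X ⧸ Cfsg.pCore 2 X →* ↥(alternatingGroup (Fin 8)), Function.Injective f := by
  classical
  haveI : Fact (Nat.Prime 2) := ⟨Nat.prime_two⟩
  set Q := Cfsg.pCore 2 X with hQdef
  haveI : Q.Normal := CfsgLib.Solvable.pCore_normal 2
  have hQ : IsPGroup 2 Q := CfsgLib.Solvable.isPGroup_pCore 2
  have hCQ : Subgroup.centralizer (Q : Set X) ≤ Q := by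
    have h := CfsgLib.PStableQuot.pPrimePCore_eq_pCore (p := 2) hO
    obtain ⟨P⟩ : Nonempty (Sylow 2 ↥(Cfsg.pPrimePCore 2 X)) := inferInstance
    have hP := hc P
    have hp : IsPGroup 2 ↥(Cfsg.pPrimePCore 2 X) := h ▸ hQ
    have htop : (P : Subgroup ↥(Cfsg.pPrimePCore 2 X)) = ⊤ :=
      (P.is_maximal' (hp.to_subgroup ⊤) le_top).symm
    rw [htop, ← MonoidHom.range_eq_map, Subgroup.range_subtype, h] at hP
    exact hP
  let π := QuotientGroup.mk' (frattini Q)
  obtain ⟨hcomF, hsqF⟩ := CfsgLib.PGroupBasic.commutator_pow_le_frattini (p := 2) hQ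
  have habel : ∀ a b : Q ⧸ frattini Q, a * b = b * a := by
    intro a b
    obtain ⟨a, rfl⟩ := QuotientGroup.mk'_surjective _ a
    obtain ⟨b, rfl⟩ := QuotientGroup.mk'_surjective _ b
    rw [← commutatorElement_eq_one_iff_mul_comm, ← map_commutatorElement]
    exact (QuotientGroup.eq_one_iff _).2 (hcomF (Subgroup.commutator_mem_commutator (Subgroup.mem_top a) (Subgroup.mem_top b)))
  have hsq : ∀ a : Q ⧸ frattini Q, a ^ 2 = 1 := by
    intro a
    obtain ⟨a, rfl⟩ := QuotientGroup.mk'_surjective _ a
    rw [← map_pow]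
    exact (QuotientGroup.eq_one_iff _).2 (hsqF a)
  have hVcard : Nat.card (Q ⧸ frattini Q) ≤ 2 ^ 4 := by
    let e := Subgroup.topEquiv (G := Q)
    have hn : ((frattini Q).comap e.toMonoidHom).Normal := inferInstance
    have hr := h4 ⊤ ((frattini Q).comap e.toMonoidHom)
    let f := QuotientGroup.congr ((frattini Q).comap e.toMonoidHom) (frattini Q) e
      (Subgroup.map_comap_eq_self_of_surjective e.surjective _)
    have := hr ⊤ ⟨⟨fun a b => Subtype.ext (f.injective (by
        show f (_ * _) = f (_ * _)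
        rw [map_mul, map_mul]; exact habel _ _))⟩⟩
      (fun a _ => f.injective (by rw [map_pow, map_one]; exact hsq _))
    rwa [Subgroup.card_top, Nat.card_congr f.toEquiv] at this
  have hmap : ∀ g : X, (frattini Q).map (MulAut.conjNormal g : MulAut Q).toMonoidHom = frattini Q :=
    fun g => Subgroup.characteristic_iff_map_eq.1 frattini_characteristic _
  let θ : X →* MulAut (Q ⧸ frattini Q) :=
    MonoidHom.mk' (fun g => QuotientGroup.congr _ _ (MulAut.conjNormal g) (hmap g)) (fun g h => by
      ext q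
      obtain ⟨q, rfl⟩ := QuotientGroup.mk'_surjective _ q
      show π (MulAut.conjNormal (g * h) q) = π (MulAut.conjNormal g (MulAut.conjNormal h q))
      rw [map_mul]; rfl)
  have hker : θ.ker = Q := by
    apply le_antisymm
    · apply CfsgLib.Solvable.le_pCore 2 inferInstance
      intro k
      have hk : (MulAut.conjNormal (k : X) : MulAut Q) ∈ CfsgLib.MetacyclicAut.frattiniKernel Q := by
        intro q
        have h1 : π (MulAut.conjNormal (k : X) q) = π q :=
          DFunLike.congr_fun (MonoidHom.mem_ker.1 k.2) (π q)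
        apply (QuotientGroup.eq_one_iff _).1
        show π _ = 1
        rw [map_mul, map_inv, h1, mul_inv_cancel]
      obtain ⟨i, hi⟩ := CfsgLib.MetacyclicAut.isPGroup_frattiniKernel (p := 2) hQ ⟨_, hk⟩
      have hmem : (k : X) ^ 2 ^ i ∈ Q := by
        apply hCQ
        rw [Subgroup.mem_centralizer_iff]
        intro q hq
        have h2 := DFunLike.congr_fun (congrArg Subtype.val hi) ⟨q, hq⟩
        simp only [SubgroupClass.coe_pow, OneMemClass.coe_one, MulAut.one_apply, ← map_pow] at h2
        have h3 := congrArg Subtype.val h2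
        rw [MulAut.conjNormal_apply] at h3
        exact (mul_inv_eq_iff_eq_mul.mp h3).symm
      obtain ⟨j, hj⟩ := hQ ⟨_, hmem⟩
      refine ⟨i + j, Subtype.ext ?_⟩
      rw [SubgroupClass.coe_pow, pow_add, pow_mul]
      exact congrArg Subtype.val hj
    · intro x hx
      rw [MonoidHom.mem_ker]
      ext q
      obtain ⟨q, rfl⟩ := QuotientGroup.mk'_surjective _ q
      show π (MulAut.conjNormal x q) = π q
      have hxe : MulAut.conjNormal x q = (⟨x, hx⟩ : Q) * q * (⟨x, hx⟩ : Q)⁻¹ := Subtype.ext (by simp)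
      rw [hxe, map_mul, map_mul, habel, ← mul_assoc, map_inv, inv_mul_cancel, one_mul]
  obtain ⟨ι, hι⟩ := exists_gl_four habel hsq hVcard
  obtain ⟨eg⟩ := CfsgLib.RadFree.gl_equiv_psl 4
  obtain ⟨e8⟩ := Cfsg.Agent.S0256.result (F := ZMod 2) (ZMod.card 2)
  let F : X ⧸ Q →* ↥(alternatingGroup (Fin 8)) :=
    ((eg.trans e8).toMonoidHom.comp ι).comp (QuotientGroup.lift Q θ hker.ge)
  refine ⟨F, ((eg.trans e8).injective.comp hι).comp ?_⟩
  rw [← MonoidHom.ker_eq_bot_iff, QuotientGroup.ker_lift, hker, QuotientGroup.map_mk'_self]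

end Cfsg.Agent.S3103
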