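import Cfsg.Statements.S3104
import Cfsg.Agent.S3103
import Cfsg.Agent.RadFree.Eight
import Cfsg.Agent.OneClass.Basic
import Cfsg.Agent.SectRankFour.Radical
import Cfsg.Agent.SectRankFour.Module

namespace CfsgLib.SectRankFour

open Equiv

/-- `S₆` inside `A₈`. -/
theorem exists_six_to_eight : ∃ f : Perm (Fin 6) →* ↥(alternatingGroup (Fin 8)), Function.Injective f := by
  classical
  have hb : Function.Bijective (Perm.sign : Perm (Fin 2) →* ℤˣ) := by
    unfold Function.Bijective Function.Injective Function.Surjective; decide +kernel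
  let s : Perm (Fin 6) →* Perm (Fin 2) :=
    (MulEquiv.ofBijective (Perm.sign : Perm (Fin 2) →* ℤˣ) hb).symm.toMonoidHom.comp Perm.sign
  let g : Perm (Fin 6) →* Perm (Fin 8) :=
    (finSumFinEquiv (m := 6) (n := 2)).permCongrHom.toMonoidHom.comp
      ((Perm.sumCongrHom (Fin 6) (Fin 2)).comp (MonoidHom.prod (MonoidHom.id _) s))
  refine ⟨g.codRestrict _ fun σ => ?_, ?_⟩
  · rw [Perm.mem_alternatingGroup]
    show Perm.sign ((finSumFinEquiv (m := 6) (n := 2)).permCongr (Equiv.sumCongr σ (s σ))) = 1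
    rw [Perm.sign_permCongr, Perm.sign_sumCongr]
    have : Perm.sign (s σ) = Perm.sign σ :=
      (MulEquiv.ofBijective (Perm.sign : Perm (Fin 2) →* ℤˣ) hb).apply_symm_apply _
    rw [this, ← sq, Int.units_sq]
  · intro σ τ h
    have h1 := congrArg Subtype.val h
    have h2 := (Equiv.permCongrHom _).injective h1
    have h3 := Perm.sumCongrHom_injective h2
    exact congrArg Prod.fst h3

theorem six_to_seven : ∃ f : Perm (Fin 6) →* Perm (Fin 7), Function.Injective f :=
  ⟨Perm.extendDomainHom (finSuccAboveEquiv (Fin.last 6)), Perm.extendDomainHom_injective _⟩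

end CfsgLib.SectRankFour

set_option autoImplicit false
open Cfsg

namespace Cfsg.Agent.S3104

/-- Let X be a finite nonsolvable 2-constrained group with no nontrivial normal subgroup of odd order such that O₂(X) has sectional 2-rank at most 4, and write Q for X/O₂(X). Then Q is isomorphic to the projective special linear group of dimension 3 over the field with 2 elements, to an alternating group of degree n with 5 ≤ n ≤ 8, to a symmetric group of degree n with 5 ≤ n ≤ 7, or else O₃(Q) has order 3 and Q/O₃(Q) is isomorphic to the alternating or the symmetric group of degree 5 (so Q is the direct product of a group of order 3 with the alternating group of degree 5, or an extension of that direct product by a group of order 2). If moreover X itself has sectional 2-rank at most 4, then Q is not isomorphic to the symmetric group of degree 6 or 7 nor to the alternating group of degree 8. -/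
theorem result {X : Type*} [Group X] [Finite X] (hns : ¬ Group.IsSolvable X) (hc : Cfsg.IsPConstrained 2 X) (hO : Cfsg.oddCore X = ⊥)
    (h4 : Cfsg.SectionalPRankLE 2 4 ↥(Cfsg.pCore 2 X)) :
    ((∃ (F : Type) (_ : Field F) (_ : Fintype F), Fintype.card F = 2 ∧
          Nonempty (X ⧸ Cfsg.pCore 2 X ≃* Matrix.ProjectiveSpecialLinearGroup (Fin 3) F)) ∨
        (∃ n : ℕ, 5 ≤ n ∧ n ≤ 8 ∧ Nonempty (X ⧸ Cfsg.pCore 2 X ≃* ↥(alternatingGroup (Fin n)))) ∨
        (∃ n : ℕ, 5 ≤ n ∧ n ≤ 7 ∧ Nonempty (X ⧸ Cfsg.pCore 2 X ≃* Equiv.Perm (Fin n))) ∨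
        (Nat.card ↥(Cfsg.pCore 3 (X ⧸ Cfsg.pCore 2 X)) = 3 ∧
          (Nonempty ((X ⧸ Cfsg.pCore 2 X) ⧸ Cfsg.pCore 3 (X ⧸ Cfsg.pCore 2 X) ≃* ↥(alternatingGroup (Fin 5))) ∨
            Nonempty ((X ⧸ Cfsg.pCore 2 X) ⧸ Cfsg.pCore 3 (X ⧸ Cfsg.pCore 2 X) ≃* Equiv.Perm (Fin 5))))) ∧
      (Cfsg.SectionalPRankLE 2 4 X →
        ¬ (Nonempty (X ⧸ Cfsg.pCore 2 X ≃* Equiv.Perm (Fin 6)) ∨ Nonempty (X ⧸ Cfsg.pCore 2 X ≃* Equiv.Perm (Fin 7)) ∨
            Nonempty (X ⧸ Cfsg.pCore 2 X ≃* ↥(alternatingGroup (Fin 8))))) := by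
  classical
  haveI : Fact (Nat.Prime 2) := ⟨Nat.prime_two⟩
  haveI : Fact (Nat.Prime 3) := ⟨Nat.prime_three⟩
  haveI : (Cfsg.pCore 2 X).Normal := CfsgLib.Solvable.pCore_normal 2
  refine ⟨?_, fun hX hor => ?_⟩
  · set Q := X ⧸ Cfsg.pCore 2 X
    obtain ⟨F, hF⟩ := Cfsg.Agent.S3103.result hc hO h4
    let f : Q →* Equiv.Perm (Fin 8) := (alternatingGroup (Fin 8)).subtype.comp F
    have hf : Function.Injective f := (alternatingGroup (Fin 8)).subtype_injective.comp hF
    have heven : ∀ x, Equiv.Perm.sign (f x) = 1 := fun x => Equiv.Perm.mem_alternatingGroup.1 (F x).2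
    have h2 : Cfsg.pCore 2 Q = ⊥ := CfsgLib.OneClass.pCore_quotient_pCore 2
    haveI : Group.IsSolvable ↥(Cfsg.pCore 2 X) :=
      haveI := (CfsgLib.Solvable.isPGroup_pCore (G := X) 2).isNilpotent
      inferInstance
    have hnsQ : ¬ Group.IsSolvable Q := fun h => hns (Group.isSolvable_of_ker_le_range (Cfsg.pCore 2 X).subtype
      (QuotientGroup.mk' (Cfsg.pCore 2 X)) (by rw [QuotientGroup.ker_mk', Subgroup.range_subtype]))
    by_cases hodd : Cfsg.pPrimeCore 2 Q = ⊥
    · -- no solvable normal subgroup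
      have hNS := CfsgLib.RadFree.ns_of_cores hodd h2
      have hne : f.range ≠ ⊥ := fun h => hnsQ (by
        haveI : Subsingleton Q := ⟨fun a b => hf ((Subgroup.mem_bot.1 (h ▸ MonoidHom.mem_range.2 ⟨a, rfl⟩)).trans
          (Subgroup.mem_bot.1 (h ▸ MonoidHom.mem_range.2 ⟨b, rfl⟩)).symm)⟩
        infer_instance)
      have heI : f.range ≤ alternatingGroup (Fin 8) := by rintro - ⟨x, rfl⟩; exact (F x).2
      haveI : Nontrivial f.range := (Subgroup.nontrivial_iff_ne_bot _).2 hne
      let eI : Q ≃* f.range := MonoidHom.ofInjective hf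
      have h1344 : Nat.card f.range ≠ 1344 := by
        intro h
        obtain ⟨b⟩ := CfsgLib.RadFree.gl_equiv_psl 4
        obtain ⟨a⟩ := Cfsg.Agent.S0256.result (F := ZMod 2) (ZMod.card 2)
        let φ : Q →* GL (Fin 4) (ZMod 2) := (b.trans a).symm.toMonoidHom.comp F
        have hφ : Function.Injective φ := (b.trans a).symm.injective.comp hF
        exact CfsgLib.RadFree.false_of_card_1344 φ.range (hNS.of_mulEquiv (MonoidHom.ofInjective hφ))
          ((Nat.card_congr ((MonoidHom.ofInjective hφ).symm.trans eI).toEquiv).trans h)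
      have hL := (CfsgLib.RadFree.listed_of_even_eight f.range heI (hNS.of_mulEquiv eI) h1344).of_mulEquiv eI
      rcases hL with ⟨n, h5, h8, e⟩ | e | e | e
      · exact Or.inr (Or.inl ⟨n, h5, h8, e⟩)
      · exact Or.inr (Or.inr (Or.inl ⟨5, le_rfl, by norm_num, e⟩))
      · exact Or.inr (Or.inr (Or.inl ⟨6, by norm_num, by norm_num, e⟩))
      · obtain ⟨b⟩ := CfsgLib.RadFree.gl_equiv_psl 3
        obtain ⟨e⟩ := e
        exact Or.inl ⟨ZMod 2, inferInstance, inferInstance, ZMod.card 2, ⟨e.trans b⟩⟩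
    · -- a normal subgroup of order three
      refine Or.inr (Or.inr (Or.inr ?_))
      have hN : (Cfsg.pPrimeCore 2 Q).Normal := CfsgLib.Solvable.pPrimeCore_normal 2
      have hsol : Group.IsSolvable ↥(Cfsg.pPrimeCore 2 Q) := by
        refine CfsgLib.RadFree.isSolvable_of_test 315 (by unfold CfsgLib.RadFree.OrdTest; decide +kernel)
          (by norm_num) _ ?_
        have h1 : Nat.card ↥(Cfsg.pPrimeCore 2 Q) ∣ 2 ^ 6 * 315 := by
          refine ((Subgroup.card_subgroup_dvd_card _).trans (Subgroup.card_dvd_of_injective F hF)).trans ?_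
          rw [nat_card_alternatingGroup, Nat.card_fin]; decide
        exact ((CfsgLib.Solvable.coprime_card_pPrimeCore 2).pow_right 6).dvd_of_dvd_mul_left h1
      haveI := hN
      obtain ⟨M, hM, hM1, hMN, -, -, p, hp, -, hpg⟩ := CfsgLib.Solvable.exists_normal_elementary_le hodd hsol
      haveI := hM
      have hp2 : p ≠ 2 := by
        rintro rfl
        exact hM1 (le_bot_iff.1 (h2 ▸ CfsgLib.Solvable.le_pCore 2 hM hpg))
      obtain ⟨hM3, rfl, -⟩ := CfsgLib.SectRankFour.radical_main f hf heven hnsQ hp hp2 M hpg hM1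
      haveI : (Cfsg.pCore 3 Q).Normal := CfsgLib.Solvable.pCore_normal 3
      have hO3 : Cfsg.pCore 3 Q ≠ ⊥ := fun h => hM1 (le_bot_iff.1 (h ▸ CfsgLib.Solvable.le_pCore 3 hM hpg))
      obtain ⟨h3, -, g, hg⟩ := CfsgLib.SectRankFour.radical_main f hf heven hnsQ Nat.prime_three (by norm_num)
        (Cfsg.pCore 3 Q) (CfsgLib.Solvable.isPGroup_pCore 3) hO3
      refine ⟨h3, ?_⟩
      let e : Q ⧸ Cfsg.pCore 3 Q ≃* g.range :=
        (QuotientGroup.quotientMulEquivOfEq hg.symm).trans (QuotientGroup.quotientKerEquivRange g)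
      have hnsI : ¬ Group.IsSolvable g.range := fun h => hnsQ (by
        haveI : Group.IsSolvable ↥(Cfsg.pCore 3 Q) :=
          haveI := (CfsgLib.Solvable.isPGroup_pCore (G := Q) 3).isNilpotent
          inferInstance
        haveI : Group.IsSolvable (Q ⧸ Cfsg.pCore 3 Q) :=
          Group.isSolvable_of_isSolvable_injective (f := e.toMonoidHom) e.injective
        exact Group.isSolvable_of_ker_le_range (Cfsg.pCore 3 Q).subtype
          (QuotientGroup.mk' (Cfsg.pCore 3 Q)) (by rw [QuotientGroup.ker_mk', Subgroup.range_subtype]))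
      have hd : Nat.card g.range ∣ 120 := by
        have h := Subgroup.card_subgroup_dvd_card g.range
        rwa [Nat.card_perm, Nat.card_fin] at h
      have key : ∀ d ∈ List.range 121, d ∣ 120 → d ∣ 30 ∨ d ∣ 2 ^ 3 * 3 ^ 1 ∨ d ∣ 2 ^ 3 * 5 ^ 1 ∨ d = 60 ∨ d = 120 := by
        decide +kernel
      rcases key _ (List.mem_range.2 (Nat.lt_succ_of_le (Nat.le_of_dvd (by norm_num) hd))) hd with
        h | h | h | h | h
      · exact absurd (CfsgLib.RadFree.isSolvable_of_test 30
          (by unfold CfsgLib.RadFree.OrdTest; decide +kernel) (by norm_num) _ h) hnsI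
      · exact absurd (CfsgLib.RadFree.isSolvable_of_dvd_two 2 3 3 1 Nat.prime_two Nat.prime_three h) hnsI
      · exact absurd (CfsgLib.RadFree.isSolvable_of_dvd_two 2 5 3 1 Nat.prime_two (by norm_num) h) hnsI
      · have hidx : g.range.index = 2 := by
          have hci := g.range.card_mul_index
          rw [h, Nat.card_perm, Nat.card_fin, show Nat.factorial 5 = 120 from rfl] at hci
          omega
        exact Or.inl ⟨e.trans (MulEquiv.subgroupCongr (Equiv.Perm.eq_alternatingGroup_of_index_eq_two hidx))⟩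
      · have htop : g.range = ⊤ := Subgroup.eq_top_of_card_eq _ (by
          rw [h, Nat.card_perm, Nat.card_fin]; rfl)
        exact Or.inr ⟨e.trans ((MulEquiv.subgroupCongr htop).trans Subgroup.topEquiv)⟩
  · rcases hor with ⟨⟨e⟩⟩ | ⟨⟨e⟩⟩ | ⟨⟨e⟩⟩
    · exact CfsgLib.SectRankFour.false_of_six_quotient hc hO h4 hX e.symm.toMonoidHom e.symm.injective
    · obtain ⟨j, hj⟩ := CfsgLib.SectRankFour.six_to_seven
      exact CfsgLib.SectRankFour.false_of_six_quotient hc hO h4 hX (e.symm.toMonoidHom.comp j) (e.symm.injective.comp hj)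
    · obtain ⟨j, hj⟩ := CfsgLib.SectRankFour.exists_six_to_eight
      exact CfsgLib.SectRankFour.false_of_six_quotient hc hO h4 hX (e.symm.toMonoidHom.comp j) (e.symm.injective.comp hj)

end Cfsg.Agent.S3104
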