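import Cfsg.Statements.S3105
import Cfsg.Agent.SectRankFour.L32.Main

set_option autoImplicit false
set_option linter.style.haveILetI false
open Cfsg

namespace Cfsg.Agent.S3105

/-- Let X be a finite nonsolvable 2-constrained group with no nontrivial normal subgroup of odd order and of sectional 2-rank at most 4, and suppose X/O₂(X) is isomorphic to the projective special linear group of dimension 3 over the field with 2 elements. Then O₂(X) is elementary abelian of order 8 or 16, or is isomorphic to the direct product of a cyclic group of order 4 and an elementary abelian group of order 8. -/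
theorem result {X : Type*} [Group X] [Finite X] (hns : ¬ Group.IsSolvable X) (hc : Cfsg.IsPConstrained 2 X) (hO : Cfsg.oddCore X = ⊥)
    (h4 : Cfsg.SectionalPRankLE 2 4 X) {F : Type*} [Field F] [Fintype F] (hF : Fintype.card F = 2)
    (hQ : Nonempty (X ⧸ Cfsg.pCore 2 X ≃* Matrix.ProjectiveSpecialLinearGroup (Fin 3) F)) :
    (Cfsg.IsElementaryAbelian 2 (Cfsg.pCore 2 X) ∧ (Nat.card ↥(Cfsg.pCore 2 X) = 8 ∨ Nat.card ↥(Cfsg.pCore 2 X) = 16)) ∨
      Nonempty (↥(Cfsg.pCore 2 X) ≃* Multiplicative (ZMod 4) × (Fin 3 → Multiplicative (ZMod 2))) := by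
  classical
  haveI : (Cfsg.pCore 2 X).Normal := CfsgLib.Solvable.pCore_normal 2
  haveI : IsSimpleGroup (Matrix.ProjectiveSpecialLinearGroup (Fin 3) F) :=
    CfsgLib.Linear.isSimpleGroup_PSL (Or.inl (by simp))
  have hcard : Nat.card (Matrix.ProjectiveSpecialLinearGroup (Fin 3) F) = 168 := by
    have h := Cfsg.Agent.S0243.result hF 3 (by norm_num)
    norm_num [Fin.prod_univ_three] at h
    rw [Fintype.card_eq_nat_card] at h
    exact h
  obtain ⟨e⟩ := hQ
  rcases CfsgLib.L32.good_of_setting (CfsgLib.L32.setting_pCore hc hO h4 e hcard) with ⟨hel, hcc⟩ | ⟨hcomm, hc32, hP⟩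
  · refine Or.inl ⟨?_, hcc⟩
    have hinv : ∀ x ∈ Cfsg.pCore 2 X, x⁻¹ = x := fun x hx => inv_eq_of_mul_eq_one_right (hel x hx)
    refine ⟨⟨⟨fun a b => Subtype.ext ?_⟩⟩, fun x hx => by rw [pow_two]; exact hel x hx⟩
    have h := hinv _ (mul_mem a.2 b.2)
    rw [mul_inv_rev, hinv _ a.2, hinv _ b.2] at h
    exact h.symm
  · exact Or.inr (CfsgLib.L32.nonempty_iso inferInstance hcomm hc32 hP)

end Cfsg.Agent.S3105
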