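import Cfsg.Statements.S3106
import Cfsg.Agent.SectRankFour.AltFiveRadical
import Cfsg.Agent.SectRankFour.Extraspecial

set_option autoImplicit false
open Cfsg

namespace Cfsg.Agent.S3106

/-- Let X be a finite nonsolvable 2-constrained group with no nontrivial normal subgroup of odd order and of sectional 2-rank at most 4, and suppose X/O₂(X) contains a subgroup isomorphic to the alternating group of degree 5. Then O₂(X) is elementary abelian of order 16, or O₂(X) is a central product of a quaternion group of order 8 and a dihedral group of order 8 (it has order 32 and is generated by two elementwise-commuting subgroups, one quaternion of order 8 and one dihedral of order 8, meeting in the centre). -/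
theorem result {X : Type*} [Group X] [Finite X] (hns : ¬ Group.IsSolvable X) (hc : Cfsg.IsPConstrained 2 X) (hO : Cfsg.oddCore X = ⊥)
    (h4 : Cfsg.SectionalPRankLE 2 4 X)
    (hQ : ∃ A : Subgroup (X ⧸ Cfsg.pCore 2 X), Nonempty (↥A ≃* ↥(alternatingGroup (Fin 5)))) :
    (Cfsg.IsElementaryAbelian 2 (Cfsg.pCore 2 X) ∧ Nat.card ↥(Cfsg.pCore 2 X) = 16) ∨
      (Nat.card ↥(Cfsg.pCore 2 X) = 32 ∧ ∃ A B : Subgroup ↥(Cfsg.pCore 2 X),
        Nonempty (↥A ≃* QuaternionGroup 2) ∧ Nonempty (↥B ≃* DihedralGroup 4) ∧ (∀ a ∈ A, ∀ b ∈ B, a * b = b * a) ∧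
          A ⊔ B = ⊤ ∧ A ⊓ B = Subgroup.center ↥(Cfsg.pCore 2 X)) := by
  classical
  haveI : (Cfsg.pCore 2 X).Normal := CfsgLib.Solvable.pCore_normal 2
  obtain ⟨A, ⟨e⟩⟩ := hQ
  let f : CfsgLib.SectRankFour.A5 →* X ⧸ Cfsg.pCore 2 X := A.subtype.comp e.symm.toMonoidHom
  have hf : Function.Injective f := A.subtype_injective.comp e.symm.injective
  obtain ⟨D⟩ := CfsgLib.SectRankFour.exists_mod hc hO h4 f hf
  rcases CfsgLib.SectRankFour.radical_layers h4 hf D with ⟨hΦ, hcard⟩ | ⟨hΦ, hcard, hcen, h5⟩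
  · refine Or.inl ⟨⟨⟨⟨fun a b => ?_⟩⟩, fun a ha => ?_⟩, hcard⟩
    · refine D.p.ker_eq_bot_iff.1 (D.ker.trans hΦ) ?_
      rw [map_mul, map_mul, mul_comm]
    · refine congrArg Subtype.val (D.p.ker_eq_bot_iff.1 (D.ker.trans hΦ) (a₁ := (⟨a, ha⟩ : ↥(Cfsg.pCore 2 X)) ^ 2) (a₂ := 1) ?_)
      rw [map_pow, map_one, pow_two, D.two]
  · have hk : D.p.ker = Subgroup.center ↥(Cfsg.pCore 2 X) := D.ker.trans hcen.symm
    have hV : Nat.card D.V = 16 := by
      have h := D.p.ker.card_mul_index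
      rw [Subgroup.index_ker, MonoidHom.range_eq_top.2 D.surj, Subgroup.card_top, D.ker, hΦ, hcard] at h
      omega
    obtain ⟨A', B', hA, hB, hAB, hsup, hinf⟩ := CfsgLib.SectRankFour.quaternion_dihedral D.p D.surj hk D.two hV
      (by rw [hcen, hΦ]) h5
    exact Or.inr ⟨hcard, A', B', hA, hB, hAB, hsup, hinf⟩

end Cfsg.Agent.S3106
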