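import Cfsg.Statements.S3110
import Cfsg.Agent.OddCores.Constrained
-- import your own Cfsg.Agent.* helpers here

set_option autoImplicit false
open Cfsg

namespace Cfsg.Agent.S3110

/-- Let G be a finite group in which every 2-local subgroup is 2-constrained and some Sylow 2-subgroup has a self-centralizing abelian normal subgroup of 2-rank at least 3, and let S be any Sylow 2-subgroup of G. Then there is a subgroup W of G of odd order such that, for every subgroup B of S of 2-rank at least 2, W is generated by the largest normal odd-order subgroups O(C_G(b)) of the centralizers of the non-identity elements b of B, and W is normalized by the normalizer of every such B. -/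
theorem result {G : Type*} [Group G] [Finite G]
    (h2c : ∀ T : Subgroup G, IsPGroup 2 T → T ≠ ⊥ → Cfsg.IsPConstrained 2 ↥(Subgroup.normalizer (T : Set G)))
    (S : Sylow 2 G) (A : Subgroup ↥(S : Subgroup G)) (hAn : A.Normal) (hAab : IsMulCommutative ↥A)
    (hAC : Subgroup.centralizer (A : Set ↥(S : Subgroup G)) = A) (hA3 : ¬ Cfsg.PRankLE 2 2 ↥A) (S' : Sylow 2 G) :
    ∃ W : Subgroup G, Odd (Nat.card ↥W) ∧
      ∀ B : Subgroup G, B ≤ (S' : Subgroup G) → ¬ Cfsg.PRankLE 2 1 ↥B →
        W = (⨆ b : {b : G // b ∈ B ∧ b ≠ 1}, Cfsg.centralizerPPrimeCore 2 (b : G)) ∧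
        Subgroup.normalizer (B : Set G) ≤ Subgroup.normalizer (W : Set G) := by
  open CfsgLib.OddCores CfsgLib.SFTCor Subgroup in
  obtain ⟨E, hES, hSE, hE, hE8⟩ :=
    exists_normal_elementary_sylow S' (exists_normal_elementary hAn hAab hA3)
  have hc := centralizersConstrained_of_locals h2c
  have hθ := isFunctor_core hc
  refine ⟨gen (fun a => Cfsg.centralizerPPrimeCore 2 a) E, (hθ.complete hE hE8).1,
    fun B hBS hB => ?_⟩
  have hBeq : gen (fun a => Cfsg.centralizerPPrimeCore 2 a) E =
      ⨆ b : {b : G // b ∈ B ∧ b ≠ 1}, Cfsg.centralizerPPrimeCore 2 (b : G) := by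
    refine le_antisymm ?_ (iSup_le fun b => ?_)
    · obtain ⟨U, hUB, hU, hU4⟩ := exists_elementary hB
      rw [← hθ.gen_eq_normal S'.isPGroup' hES hSE hE hE8 hU (hUB.trans hBS) (by simpa using hU4)]
      exact gen_mono _ hUB
    · have hb : IsPGroup 2 (Subgroup.zpowers (b : G)) :=
        S'.isPGroup'.to_le (Subgroup.zpowers_le.2 (hBS b.2.1))
      obtain ⟨k, hk⟩ := IsPGroup.iff_card.1 hb
      rw [Nat.card_zpowers] at hk
      have hk0 : k ≠ 0 := fun h => b.2.2 (orderOf_eq_one_iff.1 (by rw [hk, h, pow_zero]))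
      have hi : orderOf ((b : G) ^ 2 ^ (k - 1)) = 2 := by
        rw [orderOf_pow' _ (by positivity), hk]
        obtain ⟨j, rfl⟩ : ∃ j, k = j + 1 := ⟨k - 1, by omega⟩
        simp [pow_succ]
      exact (core_le_core hb (Subgroup.npow_mem_zpowers _ _) (hc _ hi)).trans
        (hθ.theta_le_normal S'.isPGroup' hES hSE hE hE8 (pow_mem (hBS b.2.1) _) hi)
  refine ⟨hBeq, ?_⟩
  rw [hBeq]
  exact CfsgLib.OddCores.IsFunctor.map_gen hθ (fun b _ _ g => centralizerPPrimeCore_conj b g)

end Cfsg.Agent.S3110
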