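import Cfsg.Statements.S3125
import Cfsg.Agent.S1991
import Cfsg.Agent.Char.Burnside

set_option autoImplicit false
open Cfsg

namespace Cfsg.Agent.S3125

/-- Let G be a finite group such that, for every prime p dividing the order of G, every Sylow p-subgroup of G is its own normalizer. Then G is not a non-abelian simple group. -/
theorem result {G : Type*} [Group G] [Finite G]
    (h : ∀ p : ℕ, p.Prime → p ∣ Nat.card G → ∀ P : Sylow p G, Subgroup.normalizer ((P : Subgroup G) : Set G) = P) :
    ¬ (IsSimpleGroup G ∧ ¬ IsMulCommutative G) := by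
  rintro ⟨hs, hna⟩
  classical
  haveI := hs
  obtain ⟨p, hp, hpd, hp5⟩ : ∃ p : ℕ, p.Prime ∧ p ∣ Nat.card G ∧ 5 ≤ p := by
    by_contra hcon
    push Not at hcon
    have hn0 : Nat.card G ≠ 0 := Nat.card_pos.ne'
    have h23 : ∀ q ∈ (Nat.card G).primeFactors, q = 2 ∨ q = 3 := by
      intro q hq
      rw [Nat.mem_primeFactors] at hq
      have h5 := hcon q hq.1 hq.2.1
      have := hq.1.two_le
      rcases (by omega : q = 2 ∨ q = 3 ∨ q = 4) with h' | h' | h'
      · exact Or.inl h'
      · exact Or.inr h'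
      · exact absurd (h' ▸ hq.1) (by decide)
    have hcard : Nat.card G =
        2 ^ (Nat.card G).factorization 2 * 3 ^ (Nat.card G).factorization 3 := by
      conv_lhs => rw [← Nat.prod_factorization_pow_eq_self hn0]
      rw [Finsupp.prod_of_support_subset (s := ({2, 3} : Finset ℕ)) _
        (fun q hq => by simpa using h23 q hq) _ (fun q _ => pow_zero q), Finset.prod_pair (by norm_num)]
    haveI := CfsgLib.Char.isSolvable_of_card_eq 2 3 _ _ Nat.prime_two Nat.prime_three hcard
    exact hna ⟨⟨IsSimpleGroup.comm_iff_isSolvable.mpr inferInstance⟩⟩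
  haveI := Fact.mk hp
  obtain ⟨S⟩ : Nonempty (Sylow p G) := inferInstance
  have hS : (S : Subgroup G) ≠ ⊥ := S.ne_bot_of_dvd_card hpd
  obtain ⟨N, hN, hNp⟩ := Cfsg.Agent.S1991.result hp5 S hS fun g hg hcop => by
    rw [h p hp hpd S] at hg
    obtain ⟨k, hk⟩ := IsPGroup.iff_orderOf.mp S.isPGroup' ⟨g, hg⟩
    rw [Subgroup.orderOf_mk] at hk
    have h1 : orderOf g = 1 := by
      rcases Nat.eq_zero_or_pos k with rfl | hk0
      · simpa using hk
      · rw [hk] at hcop
        exact absurd ((Nat.coprime_pow_left_iff hk0 _ _).mp hcop)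
          (by rw [Nat.coprime_self]; exact hp.ne_one)
    rw [orderOf_eq_one_iff.mp h1]
    exact one_mem _
  rcases hN.eq_bot_or_eq_top with rfl | rfl
  · rw [Subgroup.index_bot] at hNp
    haveI := isCyclic_of_prime_card hNp
    exact hna inferInstance
  · rw [Subgroup.index_top] at hNp
    exact hp.ne_one hNp.symm

end Cfsg.Agent.S3125
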