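import Cfsg.Statements.S3147
import Cfsg.Agent.CentSixSeven.Instances

set_option autoImplicit false
open Cfsg

namespace Cfsg.Agent.S3147

/-- Let G be a finite group of even order with an involution t whose centralizer is isomorphic to the direct product of a group of order 2 and the symmetric group of degree 7. Then G has a subgroup of index 2. -/
theorem result {G : Type*} [Group G] [Finite G] (hG : Even (Nat.card G)) (t : G) (ht : orderOf t = 2)
    (hC : Nonempty (↥(Subgroup.centralizer ({t} : Set G)) ≃* Multiplicative (ZMod 2) × Equiv.Perm (Fin 7))) :
    ∃ H : Subgroup G, H.index = 2 := by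
  obtain ⟨e⟩ := hC
  exact CfsgLib.CentSixSeven.index_two_seven (fun h => by simp [h] at ht) e

end Cfsg.Agent.S3147
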