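import Cfsg.Statements.S3155
import Mathlib
-- import your own Cfsg.Agent.* helpers here

set_option autoImplicit false
open Cfsg

namespace Cfsg.Agent.S3155

/-- Let B be the direct product of three cyclic groups of order 4. Then the automorphism of B inverting every element is not the square of any automorphism of B. -/
theorem result {B : Type*} [CommGroup B] [Finite B] (hB : Nonempty (B ≃* Multiplicative (ZMod 4 × ZMod 4 × ZMod 4)))
    (τ : B ≃* B) : τ.trans τ ≠ MulEquiv.inv B := by

  obtain ⟨e⟩ := hB
  intro hτ
  let V := ZMod 4 × ZMod 4 × ZMod 4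
  let σ : V →+ V :=
    { toFun := fun v => Multiplicative.toAdd (e (τ (e.symm (Multiplicative.ofAdd v))))
      map_zero' := by simp
      map_add' := fun a b => by simp }
  have hσ : ∀ v, σ (σ v) = -v := by
    intro v
    have h := DFunLike.congr_fun hτ (e.symm (Multiplicative.ofAdd v))
    simp only [MulEquiv.trans_apply, MulEquiv.inv_apply] at h
    simp [σ, h]
  let L : V →ₗ[ZMod 4] V := σ.toZModLinearMap 4
  have hL : L.comp L = (-1 : ZMod 4) • LinearMap.id := by
    apply LinearMap.ext
    intro v
    simp [L, hσ]
  have hd := congrArg LinearMap.det hL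
  rw [LinearMap.det_comp, LinearMap.det_smul, LinearMap.det_id] at hd
  haveI : Fact ((1 : ℕ) < 4) := ⟨by omega⟩
  have hr : Module.finrank (ZMod 4) V = 3 := by rw [Module.finrank_prod, Module.finrank_prod, Module.finrank_self]
  rw [hr] at hd
  revert hd
  generalize LinearMap.det L = a
  revert a
  decide

end Cfsg.Agent.S3155
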