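import Cfsg.Statements.S3158
import Cfsg.Agent.InvChar.UniqueInvolution
-- import your own Cfsg.Agent.* helpers here

set_option autoImplicit false
open Cfsg

namespace Cfsg.Agent.S3158

/-- Let U be a group of order q² with q = 2^n ≥ 2, and y an automorphism of U of order q − 1 all of whose nontrivial powers fix only the identity. Let V be a proper normal y-invariant subgroup of U such that V and U/V are elementary abelian 2-groups and there is an isomorphism from V to U/V commuting with the actions of y. Then U is abelian. -/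
theorem result {U : Type*} [Group U] [Finite U] (n : ℕ) (hn : 1 ≤ n) (hU : Nat.card U = (2 ^ n) ^ 2)
    (y : MulAut U) (hy : orderOf y = 2 ^ n - 1) (hfp : ∀ k : ℕ, y ^ k ≠ 1 → ∀ u : U, (y ^ k) u = u → u = 1)
    (V : Subgroup U) [V.Normal] (hV : V ≠ ⊤) (hyV : ∀ v ∈ V, y v ∈ V)
    (hVe : ∀ v ∈ V, v ^ 2 = 1) (hQe : ∀ u : U, u ^ 2 ∈ V) (hQc : ∀ u w : U, u * w * u⁻¹ * w⁻¹ ∈ V)
    (φ : ↥V ≃* U ⧸ V) (hφ : ∀ (v : ↥V) (u : U), (QuotientGroup.mk u : U ⧸ V) = φ v → φ ⟨y v, hyV v v.2⟩ = QuotientGroup.mk (y u)) :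
    IsMulCommutative U := by
  haveI : Fact (Nat.Prime 2) := ⟨Nat.prime_two⟩
  classical
  have hq : 2 ≤ 2 ^ n := by
    calc 2 = 2 ^ 1 := rfl
      _ ≤ 2 ^ n := Nat.pow_le_pow_right two_pos hn
  have hU2 : IsPGroup 2 U := IsPGroup.of_card (n := n * 2) (by rw [hU, ← pow_mul])
  have hVcard : Nat.card V = 2 ^ n := by
    have h1 := Subgroup.card_eq_card_quotient_mul_card_subgroup V
    rw [← Nat.card_congr φ.toEquiv, hU, sq] at h1
    exact (Nat.mul_self_inj.mp h1).symm
  -- powers of `y` on `V`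
  have hpowV : ∀ i : ℕ, ∀ v ∈ V, (y ^ i) v ∈ V := by
    intro i
    induction i with
    | zero => intro v hv; simpa using hv
    | succ i ih => intro v hv; rw [pow_succ', MulAut.mul_apply]; exact hyV _ (ih v hv)
  have hVne : V ≠ ⊥ := fun h => by
    rw [h, Subgroup.card_bot] at hVcard
    omega
  obtain ⟨v0, hv0, hv01, hv0c⟩ := CfsgLib.UniqueInvol.exists_central hU2 V hVne
  -- transitivity on the nontrivial elements
  have horbit : ∀ v ∈ V, v ≠ 1 → ∃ i : ℕ, (y ^ i) v0 = v := by
    let g : Fin (2 ^ n - 1) → {v : ↥V // v ≠ 1} := fun i =>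
      ⟨⟨(y ^ (i : ℕ)) v0, hpowV _ v0 hv0⟩, fun h => hv01 (by
        have := congrArg Subtype.val h
        rw [Subgroup.coe_one] at this
        exact (y ^ (i : ℕ)).map_eq_one_iff.mp this)⟩
    have hinj : Function.Injective g := by
      intro i j hij
      have h1 : (y ^ (i : ℕ)) v0 = (y ^ (j : ℕ)) v0 :=
        congrArg (fun w => ((w : ↥V) : U)) (congrArg Subtype.val hij)
      have hle : ∀ a b : ℕ, a ≤ b → b < 2 ^ n - 1 → (y ^ a) v0 = (y ^ b) v0 → a = b := by
        intro a b hab hb h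
        have h2 : (y ^ (b - a)) v0 = v0 := (y ^ a).injective (by
          rw [← MulAut.mul_apply, ← pow_add, Nat.add_sub_cancel' hab, h])
        by_contra hne
        have hy1 : y ^ (b - a) ≠ 1 := fun hp => by
          have := Nat.le_of_dvd (by omega) (orderOf_dvd_of_pow_eq_one hp)
          omega
        exact hv01 (hfp _ hy1 v0 h2)
      apply Fin.ext
      rcases le_total (i : ℕ) (j : ℕ) with h | h
      · exact hle _ _ h j.2 h1
      · exact (hle _ _ h i.2 h1.symm).symm
    have hcard : Nat.card {v : ↥V // v ≠ 1} ≤ Nat.card (Fin (2 ^ n - 1)) := by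
      haveI := Fintype.ofFinite ↥V
      rw [Nat.card_eq_fintype_card, Fintype.card_subtype_compl, Fintype.card_subtype_eq,
        ← Nat.card_eq_fintype_card, hVcard, Nat.card_fin]
    intro v hv hv1
    obtain ⟨i, hi⟩ := (hinj.bijective_of_nat_card_le hcard).2 ⟨⟨v, hv⟩, fun h => hv1 (congrArg Subtype.val h)⟩
    exact ⟨i, congrArg (fun w => ((w : ↥V) : U)) (congrArg Subtype.val hi)⟩
  have hVc : ∀ v ∈ V, v ∈ Subgroup.center U := by
    intro v hv
    by_cases hv1 : v = 1
    · rw [hv1]; exact one_mem _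
    · obtain ⟨i, rfl⟩ := horbit v hv hv1
      rw [Subgroup.mem_center_iff]
      intro g
      obtain ⟨g, rfl⟩ := (y ^ i).surjective g
      rw [← map_mul, ← map_mul, Subgroup.mem_center_iff.mp hv0c g]
  -- representatives
  obtain ⟨u0, hu0⟩ := QuotientGroup.mk'_surjective V (φ ⟨v0, hv0⟩)
  have hrep : ∀ i : ℕ, (QuotientGroup.mk ((y ^ i) u0) : U ⧸ V) = φ ⟨(y ^ i) v0, hpowV i v0 hv0⟩ := by
    intro i
    induction i with
    | zero => simpa using hu0
    | succ i ih =>
      have := hφ ⟨(y ^ i) v0, hpowV i v0 hv0⟩ ((y ^ i) u0) ih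
      simp only [pow_succ', MulAut.mul_apply]
      exact this.symm
  have hsq : ∀ (u : U) (v : U) (hv : v ∈ V), u * v * (u * v) = u * u := by
    intro u v hv
    have hc : u * v = v * u := Subgroup.mem_center_iff.mp (hVc v hv) u
    calc u * v * (u * v) = u * (v * u) * v := by group
      _ = u * u * (v * v) := by rw [← hc]; group
      _ = u * u := by rw [← sq v, hVe v hv, mul_one]
  have hclass : ∀ (u : U) (v : ↥V), (QuotientGroup.mk u : U ⧸ V) = φ v →
      (v = 1 ∧ u * u = 1) ∨ ∃ i : ℕ, (v : U) = (y ^ i) v0 ∧ u * u = (y ^ i) (u0 * u0) := by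
    intro u v h
    by_cases hv : v = 1
    · rw [hv, map_one] at h
      exact Or.inl ⟨hv, by rw [← sq]; exact hVe u ((QuotientGroup.eq_one_iff u).mp h)⟩
    · obtain ⟨i, hi⟩ := horbit v v.2 (fun h1 => hv (Subtype.ext h1))
      refine Or.inr ⟨i, hi.symm, ?_⟩
      have h2 : (QuotientGroup.mk ((y ^ i) u0) : U ⧸ V) = QuotientGroup.mk u := by
        rw [hrep i, h]; congr 1; exact Subtype.ext hi
      have hd : ((y ^ i) u0)⁻¹ * u ∈ V := QuotientGroup.eq.mp h2
      rw [map_mul, ← hsq ((y ^ i) u0) _ hd, mul_inv_cancel_left]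
  refine ⟨⟨fun a b => ?_⟩⟩
  suffices h : a * b * (a * b) = a * a * (b * b) by
    have h1 : a * (b * a) * b = a * (a * b) * b := by
      calc a * (b * a) * b = a * b * (a * b) := by group
        _ = a * a * (b * b) := h
        _ = _ := by group
    exact (mul_left_cancel (mul_right_cancel h1)).symm
  by_cases hzero : u0 * u0 = 1
  · have hall : ∀ u : U, u * u = 1 := fun u => by
      obtain ⟨v, hv⟩ := φ.surjective (QuotientGroup.mk u)
      rcases hclass u v hv.symm with ⟨-, h⟩ | ⟨i, -, h⟩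
      · exact h
      · rw [h, hzero, map_one]
    rw [hall, hall, hall, mul_one]
  obtain ⟨k, hk⟩ := horbit (u0 * u0) (by rw [← sq]; exact hQe u0) hzero
  have hlin : ∀ (u : U) (v : ↥V), (QuotientGroup.mk u : U ⧸ V) = φ v → u * u = (y ^ k) v := by
    intro u v h
    rcases hclass u v h with ⟨hv, hu⟩ | ⟨i, hv, hu⟩
    · rw [hu, hv, Subgroup.coe_one, map_one]
    · rw [hu, ← hk, hv, ← MulAut.mul_apply, ← MulAut.mul_apply, ← pow_add, ← pow_add, add_comm]
  obtain ⟨va, hva⟩ := φ.surjective (QuotientGroup.mk a)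
  obtain ⟨vb, hvb⟩ := φ.surjective (QuotientGroup.mk b)
  rw [hlin a va hva.symm, hlin b vb hvb.symm,
    hlin (a * b) (va * vb) (by rw [map_mul, hva, hvb, QuotientGroup.mk_mul]), Subgroup.coe_mul, map_mul]

end Cfsg.Agent.S3158
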