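import Cfsg.Statements.S3162
import Cfsg.Statements.S3162
import Cfsg.Agent.SUThreeSylowAut.Existence

set_option autoImplicit false
open Cfsg

namespace Cfsg.Agent.S3162

/-- Let S be a Sylow 2-subgroup of the special unitary group of dimension 3 with parameter q = 2^n (n ≥ 2; realised over the field with q² elements). Then the largest normal 2-subgroup of the automorphism group of S is elementary abelian of order 2^(2n²), and the automorphism group has order 2^(2n²) · 2n(q² − 1). -/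
theorem result {S : Type*} [Group S] [Finite S] (n : ℕ) (hn : 2 ≤ n) {F : Type*} [Field F] [Fintype F] (hF : Fintype.card F = 4 ^ n)
    (P : Sylow 2 ↥(Cfsg.SU 3 F (2 ^ n))) (hS : Nonempty (S ≃* ↥(P : Subgroup ↥(Cfsg.SU 3 F (2 ^ n))))) :
    Cfsg.IsElementaryAbelian 2 (Cfsg.pCore 2 (MulAut S)) ∧ Nat.card ↥(Cfsg.pCore 2 (MulAut S)) = 2 ^ (2 * n ^ 2) ∧
      Nat.card (MulAut S) = 2 ^ (2 * n ^ 2) * (2 * n * ((2 ^ n) ^ 2 - 1)) := by
  have hcard : Nat.card F = (2 ^ n) ^ 2 := by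
    rw [Nat.card_eq_fintype_card, hF, ← pow_mul, show (4 : ℕ) = 2 ^ 2 from rfl, ← pow_mul, mul_comm]
  have h2 : Fintype.card F = 2 ^ (n * 2) := by rw [← Nat.card_eq_fintype_card, hcard, ← pow_mul]
  have : CharP F 2 := by
    obtain ⟨r, hr⟩ := CharP.exists F
    haveI := hr
    obtain ⟨⟨k, hk⟩, hrp, hc⟩ := FiniteField.card F r
    rw [h2, PNat.mk_coe] at hc
    have hr2 : r = 2 := by
      have hd : r ∣ 2 ^ (n * 2) := hc ▸ dvd_pow_self r hk.ne'
      exact (Nat.prime_dvd_prime_iff_eq hrp Nat.prime_two).1 (hrp.dvd_of_dvd_pow hd)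
    exact hr2 ▸ hr
  obtain ⟨e⟩ := hS
  obtain ⟨M⟩ := CfsgLib.SUThreeSylowAut.nonempty_model hcard (n := n) (by omega) rfl P
  exact CfsgLib.SUThreeSylowAut.main hcard (by omega) rfl (M.pull e)

end Cfsg.Agent.S3162
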