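import Cfsg.Statements.S3163
import Mathlib
-- import your own Cfsg.Agent.* helpers here

set_option autoImplicit false
open Cfsg

namespace Cfsg.Agent.S3163

/-- Let S be a non-abelian finite 2-group which is the product S = AB of two elementary abelian subgroups A and B, and suppose that the centralizer in S of every element of A outside B is exactly A. Then the centralizer of every element of B outside A is exactly B; A and B are maximal elementary abelian subgroups of S and the only ones; the centre of S is A ∩ B; and every element of S outside A ∪ B has centralizer of order at most min(|A|, |B|). -/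
theorem result {S : Type*} [Group S] [Finite S] (hS : IsPGroup 2 S) (hna : ¬ IsMulCommutative S) (A B : Subgroup S)
    (hA : Cfsg.IsElementaryAbelian 2 A) (hB : Cfsg.IsElementaryAbelian 2 B) (hAB : ∀ s : S, ∃ a ∈ A, ∃ b ∈ B, s = a * b)
    (hC : ∀ a ∈ A, a ∉ B → Subgroup.centralizer ({a} : Set S) = A) :
    (∀ b ∈ B, b ∉ A → Subgroup.centralizer ({b} : Set S) = B) ∧
      (∀ E : Subgroup S, Cfsg.IsElementaryAbelian 2 E → (∀ E' : Subgroup S, Cfsg.IsElementaryAbelian 2 E' → E ≤ E' → E' = E) → E = A ∨ E = B) ∧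
      (∀ E' : Subgroup S, Cfsg.IsElementaryAbelian 2 E' → A ≤ E' → E' = A) ∧ (∀ E' : Subgroup S, Cfsg.IsElementaryAbelian 2 E' → B ≤ E' → E' = B) ∧
      Subgroup.center S = A ⊓ B ∧
      (∀ x : S, x ∉ A → x ∉ B → Nat.card ↥(Subgroup.centralizer ({x} : Set S)) ≤ min (Nat.card ↥A) (Nat.card ↥B)) := by

  have hAc : ∀ a ∈ A, ∀ b ∈ A, a * b = b * a := fun a ha b hb =>
    congrArg Subtype.val (hA.1.is_comm.comm (⟨a, ha⟩ : A) ⟨b, hb⟩)
  have hBc : ∀ a ∈ B, ∀ b ∈ B, a * b = b * a := fun a ha b hb =>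
    congrArg Subtype.val (hB.1.is_comm.comm (⟨a, ha⟩ : B) ⟨b, hb⟩)
  have hCB : ∀ b ∈ B, b ∉ A → Subgroup.centralizer ({b} : Set S) = B := by
    intro b hb hbA
    ext s
    rw [Subgroup.mem_centralizer_singleton_iff]
    refine ⟨fun hs => ?_, fun hs => hBc s hs b hb⟩
    obtain ⟨a, ha, c, hc, rfl⟩ := hAB s
    have h1 : a * b = b * a := by
      have : c * b = b * c := hBc c hc b hb
      rw [mul_assoc, this, ← mul_assoc, ← mul_assoc] at hs
      exact mul_right_cancel hs
    have haB : a ∈ B := by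
      by_contra haB
      exact hbA ((hC a ha haB).le (Subgroup.mem_centralizer_singleton_iff.mpr h1.symm))
    exact B.mul_mem haB hc
  have hnAB : ∃ a ∈ A, a ∉ B := by
    by_contra h; push Not at h
    apply hna
    refine ⟨⟨fun s t => ?_⟩⟩
    obtain ⟨a, ha, b, hb, rfl⟩ := hAB s
    obtain ⟨a', ha', b', hb', rfl⟩ := hAB t
    exact hBc _ (B.mul_mem (h a ha) hb) _ (B.mul_mem (h a' ha') hb')
  obtain ⟨a₀, ha₀, ha₀B⟩ := hnAB
  have hnBA : ∃ b ∈ B, b ∉ A := by
    by_contra h; push Not at h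
    apply hna
    refine ⟨⟨fun s t => ?_⟩⟩
    obtain ⟨a, ha, b, hb, rfl⟩ := hAB s
    obtain ⟨a', ha', b', hb', rfl⟩ := hAB t
    exact hAc _ (A.mul_mem ha (h b hb)) _ (A.mul_mem ha' (h b' hb'))
  obtain ⟨b₀, hb₀, hb₀A⟩ := hnBA
  have hzc : ∀ z ∈ A ⊓ B, ∀ s : S, s * z = z * s := by
    rintro z ⟨hzA, hzB⟩ s
    obtain ⟨a, ha, b, hb, rfl⟩ := hAB s
    rw [mul_assoc, hBc b hb z hzB, ← mul_assoc, hAc a ha z hzA, mul_assoc]
  have hmem : ∀ E : Subgroup S, IsElementaryAbelian 2 E → ∀ e ∈ E, e ∈ A ∨ e ∈ B := by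
    intro E hE e he
    obtain ⟨a, ha, b, hb, rfl⟩ := hAB e
    have h1 : a * b * (a * b) = 1 := by rw [← sq]; exact hE.2 _ he
    have ha1 : a * a = 1 := by rw [← sq]; exact hA.2 a ha
    have hb1 : b * b = 1 := by rw [← sq]; exact hB.2 b hb
    have hc : b * a = a * b := by
      calc b * a = (a * a) * (b * a) * (b * b) := by rw [ha1, hb1]; simp
        _ = a * (a * b * (a * b)) * b := by group
        _ = a * b := by rw [h1, mul_one]
    by_cases haB : a ∈ B
    · exact Or.inr (B.mul_mem haB hb)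
    · exact Or.inl (A.mul_mem ha ((hC a ha haB).le (Subgroup.mem_centralizer_singleton_iff.mpr hc)))
  have hor : ∀ E : Subgroup S, IsElementaryAbelian 2 E → E ≤ A ∨ E ≤ B := by
    intro E hE
    by_contra h
    simp only [SetLike.le_def, not_or, not_forall] at h
    obtain ⟨⟨x, hx, hxA⟩, y, hy, hyB⟩ := h
    have hxB := (hmem E hE x hx).resolve_left hxA
    have hyA := (hmem E hE y hy).resolve_right hyB
    rcases hmem E hE (x * y) (E.mul_mem hx hy) with h | h
    · exact hxA ((Subgroup.mul_mem_cancel_right A hyA).mp h)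
    · exact hyB ((Subgroup.mul_mem_cancel_left B hxB).mp h)
  have hAmax : ∀ E' : Subgroup S, IsElementaryAbelian 2 E' → A ≤ E' → E' = A := fun E' hE' hle =>
    le_antisymm (((hor E' hE').resolve_right fun h => ha₀B (h (hle ha₀)))) hle
  have hBmax : ∀ E' : Subgroup S, IsElementaryAbelian 2 E' → B ≤ E' → E' = B := fun E' hE' hle =>
    le_antisymm (((hor E' hE').resolve_left fun h => hb₀A (h (hle hb₀)))) hle
  refine ⟨hCB, ?_, hAmax, hBmax, ?_, ?_⟩
  · intro E hE hmax
    rcases hor E hE with h | h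
    · exact Or.inl (hmax A hA h).symm
    · exact Or.inr (hmax B hB h).symm
  · ext z
    rw [Subgroup.mem_center_iff]
    exact ⟨fun hz => ⟨(hC a₀ ha₀ ha₀B).le (Subgroup.mem_centralizer_singleton_iff.mpr (hz a₀).symm),
      (hCB b₀ hb₀ hb₀A).le (Subgroup.mem_centralizer_singleton_iff.mpr (hz b₀).symm)⟩, fun hz s => hzc z hz s⟩
  · intro x hxA hxB
    set C := Subgroup.centralizer ({x} : Set S)
    obtain ⟨a, ha, b, hb, rfl⟩ := hAB x
    have haB : a ∉ B := fun h => hxB (B.mul_mem h hb)
    have hbA : b ∉ A := fun h => hxA (A.mul_mem ha h)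
    have hCiB : C ⊓ B ≤ A ⊓ B := by
      rintro c ⟨hc, hcB⟩
      have hc' : c * (a * b) = a * b * c := Subgroup.mem_centralizer_singleton_iff.mp hc
      have h1 : c * a = a * c := by
        rw [mul_assoc a b c, hBc b hb c hcB, ← mul_assoc, ← mul_assoc] at hc'
        exact mul_right_cancel hc'
      exact ⟨(hC a ha haB).le (Subgroup.mem_centralizer_singleton_iff.mpr h1), hcB⟩
    have hCiA : C ⊓ A ≤ A ⊓ B := by
      rintro c ⟨hc, hcA⟩
      have hc' : c * (a * b) = a * b * c := Subgroup.mem_centralizer_singleton_iff.mp hc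
      have h1 : c * b = b * c := by
        rw [← mul_assoc, hAc c hcA a ha, mul_assoc, mul_assoc] at hc'
        exact mul_left_cancel hc'
      exact ⟨hcA, (hCB b hb hbA).le (Subgroup.mem_centralizer_singleton_iff.mpr h1)⟩
    have hidx : ∀ (X Y : Subgroup S), (∀ s : S, ∃ a ∈ X, ∃ b ∈ Y, s = a * b) →
        C ⊓ Y ≤ X ⊓ Y → Nat.card C ≤ Nat.card X := by
      intro X Y hXY hCY
      have e1 : Y.relIndex X = Y.index := by
        rw [← Subgroup.relIndex_top_right]
        refine le_antisymm (Subgroup.relIndex_le_of_le_right le_top (by rw [Subgroup.relIndex_top_right]; exact Subgroup.index_ne_zero_of_finite)) ?_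
        refine Nat.card_le_card_of_surjective (fun q : X ⧸ Y.subgroupOf X =>
          Quotient.liftOn' q (fun a => (QuotientGroup.mk (⟨a.1, trivial⟩ : (⊤ : Subgroup S)) :
            (⊤ : Subgroup S) ⧸ Y.subgroupOf ⊤)) ?_) ?_
        · intro a b hab
          rw [QuotientGroup.leftRel_apply] at hab
          exact QuotientGroup.eq.mpr hab
        · intro q
          induction q using QuotientGroup.induction_on with
          | _ s =>
            obtain ⟨a, ha, b, hb, hs⟩ := hXY s.1
            refine ⟨QuotientGroup.mk ⟨a, ha⟩, QuotientGroup.eq.mpr ?_⟩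
            show a⁻¹ * s.1 ∈ Y
            rw [hs, inv_mul_cancel_left]; exact hb
      have m1 : Nat.card C = Nat.card ↥(Y.subgroupOf C) * Y.relIndex C :=
        (Subgroup.card_mul_index _).symm
      have m2 : Nat.card X = Nat.card ↥(Y.subgroupOf X) * Y.relIndex X :=
        (Subgroup.card_mul_index _).symm
      rw [m1, m2]
      refine Nat.mul_le_mul ?_ ?_
      · exact Nat.card_le_card_of_injective
          (fun c => ⟨⟨c.1.1, (hCY ⟨c.1.2, c.2⟩).1⟩, c.2⟩)
          (fun c d h => Subtype.ext (Subtype.ext (congrArg (fun z => z.1.1) h)))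
      · rw [e1, ← Subgroup.relIndex_top_right]
        exact Subgroup.relIndex_le_of_le_right le_top (by rw [Subgroup.relIndex_top_right]; exact Subgroup.index_ne_zero_of_finite)
    refine le_min (hidx A B hAB hCiB) (hidx B A ?_ (by rw [inf_comm B A]; exact hCiA))
    intro s
    obtain ⟨a', ha', b', hb', h⟩ := hAB s⁻¹
    exact ⟨b'⁻¹, B.inv_mem hb', a'⁻¹, A.inv_mem ha', by rw [← inv_inv s, h, mul_inv_rev]⟩

end Cfsg.Agent.S3163
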