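import Cfsg.Statements.S3164
import Cfsg.Agent.StdClosure.Semisimple
-- import your own Cfsg.Agent.* helpers here

set_option autoImplicit false
open Cfsg

namespace Cfsg.Agent.S3164

/-- Let A be a standard subgroup of a finite group G whose centralizer has cyclic Sylow 2-subgroups, t an involution centralizing A, and X the normal closure of A in G. If X has a t-invariant 2-subgroup R with [R, t] nontrivial and contained in A, then X is semisimple (X equals its own layer, a central product of quasisimple groups) and the centre of X has odd order. -/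
theorem result {G : Type*} [Group G] [Finite G] (A : Subgroup G) (hA : Cfsg.IsStandardSubgroup A)
    (hcyc : ∀ R : Sylow 2 ↥(Subgroup.centralizer (A : Set G)), IsCyclic ↥(R : Subgroup ↥(Subgroup.centralizer (A : Set G)))) (t : G) (ht : orderOf t = 2) (htA : t ∈ Subgroup.centralizer (A : Set G))
    (R : Subgroup G) (hR2 : IsPGroup 2 ↥R) (hRX : R ≤ Subgroup.normalClosure (A : Set G)) (hRt : ∀ r ∈ R, t * r * t⁻¹ ∈ R)
    (hc1 : ⁅R, Subgroup.zpowers t⁆ ≠ ⊥) (hc2 : ⁅R, Subgroup.zpowers t⁆ ≤ A) :
    Cfsg.layer ↥(Subgroup.normalClosure (A : Set G)) = ⊤ ∧ Odd (Nat.card ↥(Subgroup.center ↥(Subgroup.normalClosure (A : Set G)))) :=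
  CfsgLib.StdClosure.main hA hcyc ht htA hR2 hRX hRt hc1 hc2

end Cfsg.Agent.S3164
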