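import Cfsg.Statements.S3166
import Mathlib
-- import your own Cfsg.Agent.* helpers here

set_option autoImplicit false
open Cfsg

namespace Cfsg.Agent.S3166

set_option maxHeartbeats 1600000

/-- Let q = 2^n with n ≥ 1. If q⁴ − q³ + q² − q + 1 is a power p^m of a prime p, then m = 1: the value is never a prime power with exponent greater than 1. -/
theorem result (n p m : ℕ) (hn : 1 ≤ n) (hp : p.Prime) (h : (2 ^ n) ^ 4 - (2 ^ n) ^ 3 + (2 ^ n) ^ 2 - 2 ^ n + 1 = p ^ m) : m = 1 := by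

  obtain ⟨q, hq⟩ : ∃ q, q = 2 ^ n := ⟨_, rfl⟩
  rw [← hq] at h
  have hq2 : 2 ≤ q := by rw [hq]; exact Nat.le_self_pow (by omega) 2
  have hqe : 2 ∣ q := by rw [hq]; exact dvd_pow_self 2 (by omega)
  obtain ⟨v, hv⟩ : ∃ v, v = p ^ m := ⟨_, rfl⟩
  rw [← hv] at h
  have h34 : q ^ 3 ≤ q ^ 4 := Nat.pow_le_pow_right (by omega) (by omega)
  have h12 : q ≤ q ^ 4 - q ^ 3 + q ^ 2 := le_trans (Nat.le_self_pow (by omega) q) (Nat.le_add_left _ _)
  have hz : (v : ℤ) = (q : ℤ) ^ 4 - (q : ℤ) ^ 3 + (q : ℤ) ^ 2 - q + 1 := by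
    rw [← h]; push_cast [Nat.cast_sub h12, Nat.cast_sub h34]; ring
  have hqz : (2 : ℤ) ≤ q := by exact_mod_cast hq2
  rcases Nat.even_or_odd m with ⟨k, hk⟩ | ⟨k, hk⟩
  · exfalso
    have hs : (v : ℤ) = ((p ^ k : ℕ) : ℤ) ^ 2 := by rw [hv, hk]; push_cast; ring
    obtain ⟨s, hs'⟩ : ∃ s : ℤ, s = ((p ^ k : ℕ) : ℤ) := ⟨_, rfl⟩
    have hs0 : 0 ≤ s := by rw [hs']; positivity
    rw [← hs'] at hs
    obtain ⟨r, hr⟩ := hqe
    have hrz : (q : ℤ) = 2 * r := by exact_mod_cast hr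
    have hA : 0 ≤ 2 * (q : ℤ) ^ 2 - q := by nlinarith
    have lo : 2 * (q : ℤ) ^ 2 - q < 2 * s := by
      by_contra hc; push Not at hc
      nlinarith [mul_self_le_mul_self (by linarith : (0:ℤ) ≤ 2 * s) hc]
    have hi : 2 * s < 2 * (q : ℤ) ^ 2 - q + 2 := by
      by_contra hc; push Not at hc
      nlinarith [mul_self_le_mul_self (by linarith : (0:ℤ) ≤ 2 * (q : ℤ) ^ 2 - q + 2) hc]
    rw [hrz] at lo hi
    have : 2 * s = 2 * (2 * (r:ℤ)) ^ 2 - 2 * r + 1 := by linarith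
    have e : 2 * (4 * (r:ℤ) ^ 2 - r) + 1 = 2 * s := by rw [this]; ring
    omega
  · by_contra hm
    have hk1 : 1 ≤ k := by omega
    have hp2 := hp.two_le
    have hodd : Odd v := by
      obtain ⟨r, hr⟩ := hqe
      have : Odd (v : ℤ) := ⟨8 * (r:ℤ) ^ 4 - 4 * r ^ 3 + 2 * r ^ 2 - r, by rw [hz, hr]; push_cast; ring⟩
      exact_mod_cast this
    have hpodd : Odd p := by
      rw [hv] at hodd
      exact (Nat.odd_pow_iff (by omega)).mp hodd
    obtain ⟨S, hS, hSo⟩ : ∃ S : ℤ, (p : ℤ) ^ m - 1 = ((p : ℤ) - 1) * S ∧ Odd S := by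
      refine ⟨∑ i ∈ Finset.range m, (p : ℤ) ^ i, (mul_geom_sum (p : ℤ) m).symm, ?_⟩
      have : (∑ i ∈ Finset.range m, p ^ i) % 2 = 1 := by
        rw [Finset.sum_nat_mod, Finset.sum_congr rfl (fun i _ => Nat.odd_iff.mp (hpodd.pow)),
          Finset.sum_const, Finset.card_range, smul_eq_mul, mul_one, hk]
        omega
      have h' : Odd (((∑ i ∈ Finset.range m, p ^ i : ℕ)) : ℤ) := by
        exact_mod_cast Nat.odd_iff.mpr this
      simpa using h'
    have hdvd : (q : ℤ) ∣ ((p : ℤ) - 1) := by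
      have h1 : (q : ℤ) ∣ ((p : ℤ) - 1) * S := by
        rw [← hS]
        refine ⟨(q:ℤ) ^ 3 - q ^ 2 + q - 1, ?_⟩
        have : (v : ℤ) = (p : ℤ) ^ m := by rw [hv]; push_cast; rfl
        rw [← this, hz]; ring
      refine IsCoprime.dvd_of_dvd_mul_right ?_ h1
      rw [hq]; push_cast
      exact (Int.prime_two.coprime_iff_not_dvd.mpr (by
        intro h2; exact absurd (even_iff_two_dvd.mpr h2) (Int.not_even_iff_odd.mpr hSo))).pow_left
    obtain ⟨c, hc⟩ := hdvd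
    have hc0 : 1 ≤ c := by
      by_contra hc0
      push Not at hc0
      have : (2:ℤ) ≤ p := by exact_mod_cast hp2
      nlinarith
    have hpq : (q : ℤ) + 1 ≤ p := by nlinarith
    have hvz : (v : ℤ) = (p : ℤ) ^ m := by rw [hv]; push_cast; rfl
    rcases eq_or_lt_of_le hk1 with rfl | hk2
    · have hm3 : m = 3 := by omega
      subst hm3
      have he : (p : ℤ) = q * c + 1 := by linarith
      rw [he, hz] at hvz
      have heq : c ^ 3 * (q:ℤ) ^ 2 + 3 * c ^ 2 * q + 3 * c = (q:ℤ) ^ 3 - q ^ 2 + q - 1 := by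
        have : (q:ℤ) * (c ^ 3 * (q:ℤ) ^ 2 + 3 * c ^ 2 * q + 3 * c) =
            (q:ℤ) * ((q:ℤ) ^ 3 - q ^ 2 + q - 1) := by linarith [hvz]
        exact mul_left_cancel₀ (by omega) this
      have hlt : c ^ 3 < (q:ℤ) := by
        by_contra hh; push Not at hh; nlinarith [mul_nonneg (by linarith : (0:ℤ) ≤ c ^ 3 - q) (sq_nonneg (q:ℤ))]
      have hd : (q:ℤ) ∣ 3 * c + 1 := ⟨(q:ℤ) ^ 2 - q + 1 - c ^ 3 * q - 3 * c ^ 2, by linarith⟩
      have hle := Int.le_of_dvd (by linarith) hd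
      have hc1 : c = 1 := by
        by_contra hh
        have h2 : 2 ≤ c := by omega
        have h4 : 4 * c ≤ c * c * c :=
          mul_le_mul_of_nonneg_right (le_of_eq_of_le (by norm_num) (mul_le_mul h2 h2 (by norm_num) (by linarith)) : (4:ℤ) ≤ c * c) (by linarith)
        have e : c ^ 3 = c * c * c := by ring
        linarith
      subst hc1
      have hq4 : (q:ℤ) ≤ 4 := by linarith
      have hq4n : q ≤ 4 := by exact_mod_cast hq4
      clear h hz hvz he hpq hc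
      interval_cases q <;> norm_num at heq
    · have h5 : (p:ℤ) ^ 5 ≤ (p:ℤ) ^ m := pow_le_pow_right₀ (by linarith) (by omega)
      have : ((q:ℤ) + 1) ^ 5 ≤ (p:ℤ) ^ 5 := pow_le_pow_left₀ (by linarith) hpq 5
      have hv5 : (v : ℤ) < ((q:ℤ) + 1) ^ 5 := by
        rw [hz]
        have e2 := mul_le_mul_of_nonneg_left hqz (by positivity : (0:ℤ) ≤ (q:ℤ) ^ 4)
        have e3 : (0:ℤ) ≤ (q:ℤ) ^ 3 := by positivity
        have e4 : (0:ℤ) ≤ (q:ℤ) ^ 2 := by positivity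
        ring_nf at e2 ⊢
        linarith
      linarith

end Cfsg.Agent.S3166
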