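import Cfsg.Statements.S3171
import Cfsg.Agent.Golay.SylowQuot.Main

set_option autoImplicit false
open Cfsg

namespace Cfsg.Agent.S3171

open CfsgLib.Golay CfsgLib.Golay.SylowCert CfsgLib.Golay.SylowQuot in
/-- Let P be a Sylow 2-subgroup of the Mathieu group of degree 24 and S the quotient of P by its centre. Then the centre of every maximal subgroup of S has order at most 8; S has an elementary abelian subgroup of order 64; and S has only one abelian subgroup of order 64. -/
theorem result (P : Sylow 2 ↥Cfsg.M24) :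
    (∀ M : Subgroup (↥(P : Subgroup ↥Cfsg.M24) ⧸ Subgroup.center ↥(P : Subgroup ↥Cfsg.M24)), IsCoatom M →
        Nat.card ↥(Subgroup.center ↥M) ≤ 8) ∧
      (∃ A : Subgroup (↥(P : Subgroup ↥Cfsg.M24) ⧸ Subgroup.center ↥(P : Subgroup ↥Cfsg.M24)),
        Cfsg.IsElementaryAbelian 2 A ∧ Nat.card ↥A = 64) ∧
      ∀ A B : Subgroup (↥(P : Subgroup ↥Cfsg.M24) ⧸ Subgroup.center ↥(P : Subgroup ↥Cfsg.M24)),
        IsMulCommutative ↥A → Nat.card ↥A = 64 → IsMulCommutative ↥B → Nat.card ↥B = 64 → A = B := by
  haveI : Fact (Nat.Prime 2) := ⟨Nat.prime_two⟩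
  have hle : P0 ≤ M24 := by
    have h := pcGroup_le pcQ (T := M24) fun g hg =>
      permL_mem_M24 (pcQ.1 g hg).1 (pcQ.1 g hg).2 (qPc_preserves g hg)
    rwa [qPc_length] at h
  have hcard : Nat.card (P0.comap M24.subtype) = 2 ^ (Nat.card M24).factorization 2 := by
    rw [← Subgroup.card_map_of_injective (f := M24.subtype) M24.subtype_injective,
      Subgroup.map_comap_eq, Subgroup.range_subtype, inf_eq_right.2 hle,
      factorization_two (a := 10) (m := 239085) (by rw [card_M24]; norm_num) (by norm_num)]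
    exact card_pcGroup pcQ 10 qPc_length.ge
  set Q : Sylow 2 M24 := Sylow.ofCard _ hcard
  obtain ⟨g, hg⟩ := MulAction.exists_smul_eq M24 Q P
  set e : M24 →* M24 := (MulAut.conj g⁻¹).toMonoidHom
  set φ : (P : Subgroup M24) →* Equiv.Perm GolayPt :=
    (M24.subtype.comp e).comp (P : Subgroup M24).subtype
  refine quotient_facts φ ?_ ?_
  · exact M24.subtype_injective.comp ((MulAut.conj g⁻¹).injective.comp Subtype.val_injective)
  · have hPQ : (P : Subgroup M24) = (Q : Subgroup M24).map (MulAut.conj g).toMonoidHom := by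
      rw [← hg, Sylow.smul_def, Sylow.pointwise_smul_def]
      rfl
    rw [MonoidHom.range_comp, Subgroup.range_subtype, hPQ, Subgroup.map_map]
    rw [show (M24.subtype.comp e).comp (MulAut.conj g).toMonoidHom = M24.subtype by
      ext y; simp [e, mul_assoc]]
    show (P0.comap M24.subtype).map M24.subtype = P0
    rw [Subgroup.map_comap_eq, Subgroup.range_subtype, inf_eq_right.2 hle]

end Cfsg.Agent.S3171
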