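import Cfsg.Statements.S3170
import Cfsg.Agent.GWApps.QuaternionNormal
import Cfsg.Agent.S3169
import Cfsg.Agent.S3171
import Cfsg.Agent.M24Type.CentreTwo
import Cfsg.Agent.GWApps.Tools

set_option autoImplicit false
set_option linter.style.haveILetI false
open Cfsg

namespace Cfsg.Agent.S3170

/-- Let H be a finite group with no nontrivial normal subgroup of odd order whose Sylow 2-subgroup T is isomorphic to a Sylow 2-subgroup of the Mathieu group of degree 24, and suppose that the centre of T lies in the centre of H. If E is a subgroup of T that is normal in T and extraspecial of order 2^7, and E is the only such subgroup of T, then E is normal in H. -/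
theorem result {H : Type*} [Group H] [Finite H]
    (hO : Cfsg.oddCore H = ⊥) (T : Sylow 2 H) (P : Sylow 2 ↥Cfsg.M24)
    (hT : Nonempty (↥(T : Subgroup H) ≃* ↥(P : Subgroup ↥Cfsg.M24)))
    (hZ : ∀ z ∈ (T : Subgroup H), (∀ t ∈ (T : Subgroup H), z * t = t * z) → z ∈ Subgroup.center H)
    (E : Subgroup H) (hE : E ≤ (T : Subgroup H)) (hEn : (E.subgroupOf (T : Subgroup H)).Normal)
    (hEx : Cfsg.IsExtraspecial 2 ↥E) (hE7 : Nat.card ↥E = 2 ^ 7)
    (huniq : ∀ E' : Subgroup H, E' ≤ (T : Subgroup H) → (E'.subgroupOf (T : Subgroup H)).Normal →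
      Cfsg.IsExtraspecial 2 ↥E' → Nat.card ↥E' = 2 ^ 7 → E' = E) :
    E.Normal := by
  classical
  haveI : Fact (Nat.Prime 2) := ⟨Nat.prime_two⟩
  obtain ⟨e⟩ := hT
  let Z : Subgroup H := (Subgroup.center ↥(T : Subgroup H)).map (T : Subgroup H).subtype
  have hZc : Z ≤ Subgroup.center H := by
    rintro _ ⟨x, hx, rfl⟩
    exact hZ x x.2 fun t ht => (congrArg Subtype.val (Subgroup.mem_center_iff.1 hx ⟨t, ht⟩)).symm
  have hZ2 : Nat.card Z = 2 := by
    rw [Subgroup.card_subtype, Nat.card_congr (Subgroup.centerCongr e).toEquiv]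
    exact CfsgLib.M24Type.card_centre_sylow P
  haveI hZn : Z.Normal := ⟨fun z hz g => by rwa [Subgroup.mem_center_iff.1 (hZc hz) g, mul_inv_cancel_right]⟩
  have hZT : Z ≤ (T : Subgroup H) := Subgroup.map_subtype_le _
  -- the centre of `E` is the centre of `T`
  have hcE : Nat.card (Subgroup.center E) = 2 := hEx.2
  have hZE : Z = (Subgroup.center E).map E.subtype := by
    haveI := hEn
    refine (Subgroup.eq_of_le_of_card_ge ?_ (le_of_eq ?_)).symm
    · rintro _ ⟨c, hc, rfl⟩
      obtain ⟨c', -, huni⟩ := (Nat.card_eq_two_iff' (1 : Subgroup.center E)).1 hcE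
      refine ⟨⟨c, hE c.2⟩, Subgroup.mem_center_iff.2 fun t => ?_, rfl⟩
      by_cases hc1 : c = 1
      · subst hc1; exact Subtype.ext (by simp)
      have hconj : ∀ (s : (T : Subgroup H)) (x : E), (s : H) * x * (s : H)⁻¹ ∈ E := fun s x =>
        hEn.conj_mem ⟨x, hE x.2⟩ x.2 s
      have hcz : (⟨⟨(t : H) * c * (t : H)⁻¹, hconj t c⟩, Subgroup.mem_center_iff.2 fun x =>
          Subtype.ext (by
            have h := congrArg Subtype.val (Subgroup.mem_center_iff.1 hc
              ⟨(t : H)⁻¹ * x * ((t : H)⁻¹)⁻¹, hconj t⁻¹ x⟩)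
            simp only [Subgroup.coe_mul] at h ⊢
            calc (x : H) * ((t : H) * c * (t : H)⁻¹) =
                (t : H) * ((t : H)⁻¹ * x * ((t : H)⁻¹)⁻¹ * c) * (t : H)⁻¹ := by group
              _ = _ := by rw [h]; group)⟩ : Subgroup.center E) = c' := huni _ fun h => hc1 (by
            have h' := congrArg (fun y : Subgroup.center E => ((y : E) : H)) h
            simp only [OneMemClass.coe_one] at h'
            exact Subtype.ext (by simpa using (conj_eq_one_iff.1 h')))
      have hcc : (⟨c, hc⟩ : Subgroup.center E) = c' := huni _ fun h => hc1 (congrArg Subtype.val h)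
      have h := congrArg (fun y : Subgroup.center E => ((y : E) : H)) (hcz.trans hcc.symm)
      exact Subtype.ext (mul_inv_eq_iff_eq_mul.1 h)
    · rw [hZ2, Subgroup.card_subtype, hcE]
  have hZleE : Z ≤ E := hZE ▸ Subgroup.map_subtype_le _
  let π := QuotientGroup.mk' Z
  have hπ : Function.Surjective π := QuotientGroup.mk'_surjective Z
  let T' : Sylow 2 (H ⧸ Z) := T.mapSurjective hπ
  have hker : ∀ x, π x = 1 ↔ x ∈ Z := fun x => QuotientGroup.eq_one_iff x
  -- the Sylow subgroup of the quotient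
  let g : (T : Subgroup H) →* (T' : Subgroup (H ⧸ Z)) := π.subgroupMap (T : Subgroup H)
  have hgk : g.ker = Subgroup.center ↥(T : Subgroup H) := by
    ext x
    rw [MonoidHom.mem_ker, Subtype.ext_iff]
    refine (hker x).trans ⟨fun ⟨y, hy, e⟩ => (Subtype.ext e : y = x) ▸ hy, fun h => ⟨x, h, rfl⟩⟩
  let ε : ↥(T' : Subgroup (H ⧸ Z)) ≃* ↥(P : Subgroup ↥Cfsg.M24) ⧸ Subgroup.center _ :=
    ((QuotientGroup.quotientMulEquivOfEq hgk.symm).trans
      (QuotientGroup.quotientKerEquivOfSurjective g (π.subgroupMap_surjective _))).symm.trans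
      (QuotientGroup.congr _ _ e (CfsgLib.GWApps.QNormal.centerCongr_map e))
  -- the image of `E`
  let A : Subgroup (H ⧸ Z) := E.map π
  have hA : A ≤ (T' : Subgroup (H ⧸ Z)) := Subgroup.map_mono hE
  have hAc : IsMulCommutative A := by
    refine ⟨⟨?_⟩⟩
    rintro ⟨_, x, hx, rfl⟩ ⟨_, y, hy, rfl⟩
    refine Subtype.ext ?_
    have hxy : (⟨x, hx⟩ : E) * ⟨y, hy⟩ * ⟨x, hx⟩⁻¹ * ⟨y, hy⟩⁻¹ ∈ Subgroup.center E := by
      rw [← hEx.1.2.2, commutator_def, ← commutatorElement_def]
      exact Subgroup.commutator_mem_commutator (Subgroup.mem_top _) (Subgroup.mem_top _)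
    have h : π (x * y * x⁻¹ * y⁻¹) = 1 := (hker _).2 (hZE ▸ ⟨_, hxy, rfl⟩)
    simp only [map_mul, map_inv] at h
    exact mul_inv_eq_iff_eq_mul.1 (mul_inv_eq_one.1 h)
  have hA64 : Nat.card A = 64 := by
    have h1 := Subgroup.relIndex_ker E π
    rw [show π.ker = Z from QuotientGroup.ker_mk' Z] at h1
    have h2 := Subgroup.relIndex_mul_relIndex ⊥ Z E bot_le hZleE
    rw [Subgroup.relIndex_bot_left, Subgroup.relIndex_bot_left] at h2
    rw [hZ2, h1, hE7] at h2
    show Nat.card (E.map π) = 64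
    omega
  have huniq' : ∀ B : Subgroup (H ⧸ Z), B ≤ (T' : Subgroup (H ⧸ Z)) → IsMulCommutative ↥B →
      Nat.card ↥B = 64 → B = A := by
    intro B hB hBc hB64
    have key : ∀ C : Subgroup (H ⧸ Z), C ≤ (T' : Subgroup (H ⧸ Z)) → IsMulCommutative C → Nat.card C = 64 →
        IsMulCommutative ((C.subgroupOf (T' : Subgroup (H ⧸ Z))).map ε.toMonoidHom) ∧
          Nat.card ((C.subgroupOf (T' : Subgroup (H ⧸ Z))).map ε.toMonoidHom) = 64 := by
      intro C hC hCc hC64
      refine ⟨⟨⟨?_⟩⟩, ?_⟩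
      · rintro ⟨_, x, hx, rfl⟩ ⟨_, y, hy, rfl⟩
        refine Subtype.ext ?_
        show ε x * ε y = ε y * ε x
        rw [← map_mul, ← map_mul]
        refine congrArg ε (Subtype.ext ?_)
        have hh := congrArg Subtype.val (hCc.is_comm.comm (⟨(x : H ⧸ Z), hx⟩ : C) ⟨(y : H ⧸ Z), hy⟩)
        exact hh
      · rw [Subgroup.card_map_of_injective ε.injective,
          Nat.card_congr (Subgroup.subgroupOfEquivOfLe hC).toEquiv, hC64]
    have h := (Cfsg.Agent.S3171.result P).2.2 _ _ (key B hB hBc hB64).1 (key B hB hBc hB64).2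
      (key A hA hAc hA64).1 (key A hA hAc hA64).2
    have h' := Subgroup.subgroupOf_inj.1 (Subgroup.map_injective ε.injective h)
    rwa [inf_eq_left.2 hB, inf_eq_left.2 hA] at h'
  have hAn : A.Normal := Cfsg.Agent.S3169.result (CfsgLib.GWApps.oddCore_quotient_central hZ2 hO) T' P ⟨ε⟩ A hA hAc hA64 huniq'
  have hEA : E = A.comap π := by
    rw [Subgroup.comap_map_eq, QuotientGroup.ker_mk', sup_eq_left.2 hZleE]
  rw [hEA]
  exact hAn.comap π

end Cfsg.Agent.S3170
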