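import Cfsg.Statements.S3175
import Cfsg.Agent.FGSB.Rudvalis.Automorphism
import Cfsg.Agent.FGSB.Rudvalis.WeaklyClosed
import Cfsg.Agent.Kinf.AutPGroup
-- import your own Cfsg.Agent.* helpers here

set_option autoImplicit false
open Cfsg

namespace Cfsg.Agent.S3175

/-- Let G be a finite group whose Sylow 2-subgroup T has order at least 2^14 and whose upper central series has fourth term of order 16; let W be the centralizer in T of the third term, and suppose the Frattini subgroup of W has order at most 8 and lies in every subgroup of W of index at most 16. Then the normalizer of T in G has a normal 2-complement, and W is weakly closed in T with respect to G. -/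
theorem result {G : Type*} [Group G] [Finite G]
    (T : Sylow 2 G) (ha : 2 ^ 14 ≤ Nat.card ↥(T : Subgroup G))
    (hb : Nat.card ↥(Subgroup.upperCentralSeries ↥(T : Subgroup G) 4) = 16)
    (W : Subgroup ↥(T : Subgroup G))
    (hW : W = Subgroup.centralizer ((Subgroup.upperCentralSeries ↥(T : Subgroup G) 3 : Subgroup ↥(T : Subgroup G)) : Set ↥(T : Subgroup G)))
    (hc : Nat.card ↥(frattini ↥W) ≤ 8)
    (hd : ∀ U : Subgroup ↥W, U.index ≤ 16 → frattini ↥W ≤ U) :
    Cfsg.HasNormalPComplement 2 ↥(Subgroup.normalizer ((T : Subgroup G) : Set G)) ∧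
      Cfsg.IsWeaklyClosed (W.map (T : Subgroup G).subtype) (T : Subgroup G) := by
  have h : CfsgLib.Rudvalis.Rud W :=
    ⟨T.isPGroup', ha, hb, hW, hc, hd⟩
  constructor
  · refine CfsgLib.Kinf.hasNormalPComplement_normalizer T (T : Subgroup G) Subgroup.le_normalizer
      inf_le_left fun g hg hcop => ?_
    have hfin : IsOfFinOrder g := isOfFinOrder_of_finite g
    let g' : ↥(Subgroup.normalizer ((T : Subgroup G) : Set G)) := ⟨g, hg⟩
    let φ := Subgroup.normalizerMonoidHom (T : Subgroup G) g'
    have hodd : Odd (orderOf g) := Nat.coprime_two_right.1 hcop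
    have hφ : φ ^ orderOf g = 1 := by
      rw [← map_pow]
      rw [show g' ^ orderOf g = 1 from Subtype.ext (pow_orderOf_eq_one g), map_one]
    have h1 := h.aut_eq_one φ hodd hφ
    refine Subgroup.mem_centralizer_iff.2 fun t ht => ?_
    have h2 : g * t * g⁻¹ = t :=
      congrArg Subtype.val (DFunLike.congr_fun h1 (⟨t, ht⟩ : ↥(T : Subgroup G)))
    calc t * g = g * t * g⁻¹ * g := by rw [h2]
      _ = g * t := by group
  · refine ⟨Subgroup.map_subtype_le _, fun g hg => ?_⟩
    set A := W.map (T : Subgroup G).subtype with hA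
    set B := A.map (MulAut.conj g).toMonoidHom with hB
    have e : ↥W ≃* ↥(B.subgroupOf (T : Subgroup G)) :=
      (W.equivMapOfInjective _ (T : Subgroup G).subtype_injective).trans
        ((A.equivMapOfInjective (MulAut.conj g).toMonoidHom (MulAut.conj g).injective).trans
          (Subgroup.subgroupOfEquivOfLe hg).symm)
    have h1 := h.eq_of_mulEquiv _ e
    have h2 := congrArg (Subgroup.map (T : Subgroup G).subtype) h1
    rw [Subgroup.subgroupOf_map_subtype, inf_eq_left.2 hg] at h2
    exact h2

end Cfsg.Agent.S3175
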