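import Cfsg.Statements.S3176
import Cfsg.Agent.U34Sylow.Main

set_option autoImplicit false
open Cfsg

namespace Cfsg.Agent.S3176

/-- Let G be a finite group whose Sylow 2-subgroups are isomorphic to those of PSU(3, 4), realised over the field with 16 elements. If G has no nontrivial normal subgroup of odd order and no proper normal subgroup of odd index, then either G is isomorphic to PSU(3, 4) or G is itself a 2-group, that is, a Sylow 2-subgroup of G is all of G. -/
theorem result {G : Type*} [Group G] [Finite G]
    {F : Type*} [Field F] [Fintype F] (hF : Fintype.card F = 16) (S : Sylow 2 G) (P : Sylow 2 (Cfsg.PSU 3 F 4))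
    (hS : Nonempty (↥(S : Subgroup G) ≃* ↥(P : Subgroup (Cfsg.PSU 3 F 4))))
    (hO : Cfsg.oddCore G = ⊥) (hO' : ∀ N : Subgroup G, N.Normal → Odd N.index → N = ⊤) :
    Nonempty (G ≃* Cfsg.PSU 3 F 4) ∨ (S : Subgroup G) = ⊤ := by
  exact CfsgLib.U34Sylow.psu_or_two_group S (CfsgLib.U34Sylow.facts_of_equiv hF S P hS) hO hO'
    (F := F) (by rw [hF]; norm_num)

end Cfsg.Agent.S3176
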