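import Cfsg.Statements.S3178
import Cfsg.Agent.InvChar.ModularGroup
-- import your own Cfsg.Agent.* helpers here

set_option autoImplicit false
open Cfsg

namespace Cfsg.Agent.S3178

/-- Groups with a modular Sylow 2-subgroup have a normal 2-complement. Let S, of order 2^(n+1) with n ≥ 3, be a Sylow 2-subgroup of a finite group G, and suppose S contains an element a of order 2^n and an involution b with b a b⁻¹ = a^(2^(n-1) + 1); so S is the non-abelian 2-group with a cyclic subgroup of index 2 that is neither dihedral, semidihedral nor generalized quaternion. Then G has a normal 2-complement. -/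
theorem result {G : Type*} [Group G] [Finite G]
    (S : Sylow 2 G) (n : ℕ) (hn : 3 ≤ n) (hS : Nat.card ↥(S : Subgroup G) = 2 ^ (n + 1))
    (a b : G) (ha : a ∈ (S : Subgroup G)) (hb : b ∈ (S : Subgroup G))
    (hao : orderOf a = 2 ^ n) (hbo : orderOf b = 2) (hrel : b * a * b⁻¹ = a ^ (2 ^ (n - 1) + 1)) :
    Cfsg.HasNormalPComplement 2 G := by
  haveI : Fact (Nat.Prime 2) := ⟨Nat.prime_two⟩
  refine CfsgLib.Fusion.hasNormalPComplement_of_localCondition fun Q hQ g hg hgo => ?_
  obtain ⟨h, -, hle⟩ := CfsgLib.InvChar.exists_conj_le_sylow S (N := ⊤) le_top le_top hQ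
  have hodd : Odd (orderOf (MulAut.conj h g)) := by
    rw [MulEquiv.orderOf_eq]; exact Nat.coprime_two_right.mp hgo
  have hcom := CfsgLib.InvChar.modular_commute S hn hS ha hb hao hbo hrel hle
    (g := MulAut.conj h g) (Subgroup.le_normalizer_map _ ⟨g, hg, rfl⟩) hodd
  rw [Subgroup.mem_centralizer_iff]
  intro q hq
  have h1 := (hcom _ ⟨q, hq, rfl⟩).eq
  apply (MulAut.conj h).injective
  rw [map_mul, map_mul]
  exact h1.symm

end Cfsg.Agent.S3178
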