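import Cfsg.Statements.S3180
import Mathlib
-- import your own Cfsg.Agent.* helpers here

set_option autoImplicit false
open Cfsg

namespace Cfsg.Agent.S3180

/-- Let P be a Sylow p-subgroup of a finite group J and P₁ a subgroup of P that is weakly closed in P with respect to J. If J acts on a set and two points, each fixed by every element of P₁, lie in one J-orbit, then they lie in one orbit of the normalizer of P₁ in J. -/
theorem result {J : Type*} [Group J] [Finite J]
    {p : ℕ} [Fact p.Prime] (P : Sylow p J) (P₁ : Subgroup J) (hW : Cfsg.IsWeaklyClosed P₁ (P : Subgroup J))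
    {Ω : Type*} [MulAction J Ω] (x y : Ω) (hx : ∀ g ∈ P₁, g • x = x) (hy : ∀ g ∈ P₁, g • y = y)
    (hc : ∃ g : J, g • x = y) :
    ∃ g ∈ Subgroup.normalizer (P₁ : Set J), g • x = y := by

  obtain ⟨g, hg⟩ := hc
  obtain ⟨hle, hwc⟩ := hW
  let c : J → Subgroup J → Subgroup J := fun a H => H.map (MulAut.conj a).toMonoidHom
  have hcc : ∀ (a b : J) (H : Subgroup J), c a (c b H) = c (a * b) H := by
    intro a b H
    simp only [c, Subgroup.map_map]
    congr 1
    ext z
    simp [mul_assoc]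
  have hcmem : ∀ (a : J) (H : Subgroup J) (z : J), z ∈ H → a * z * a⁻¹ ∈ c a H :=
    fun a H z hz => ⟨z, hz, rfl⟩
  have hp1 : IsPGroup p P₁ := P.isPGroup'.to_le hle
  -- weak closure in every Sylow subgroup
  have huniq : ∀ (Q : Sylow p J) (a : J), P₁ ≤ (Q : Subgroup J) → c a P₁ ≤ (Q : Subgroup J) →
      c a P₁ = P₁ := by
    intro Q a h1 h2
    obtain ⟨b, hb⟩ := MulAction.exists_smul_eq J Q P
    have hbQ : c b (Q : Subgroup J) = (P : Subgroup J) := by
      rw [← hb]; rfl
    have e1 : c b P₁ = P₁ := hwc b (hbQ ▸ Subgroup.map_mono h1)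
    have e2 : c (b * a) P₁ = P₁ := hwc (b * a) (by
      show c (b * a) P₁ ≤ _
      rw [← hcc, ← hbQ]; exact Subgroup.map_mono h2)
    have := hcc b⁻¹ (b * a) P₁
    rw [e2, show b⁻¹ * (b * a) = a by group] at this
    rw [← this]
    have h3 := hcc b⁻¹ b P₁
    rw [e1] at h3
    rw [h3, inv_mul_cancel]
    show Subgroup.map _ P₁ = P₁
    ext z
    simp
  set K := MulAction.stabilizer J y
  have h1 : P₁ ≤ K := fun z hz => hy z hz
  have h2 : c g P₁ ≤ K := by
    rintro _ ⟨z, hz, rfl⟩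
    show (g * z * g⁻¹) • y = y
    rw [mul_smul, mul_smul, ← hg, inv_smul_smul, hx z hz]
  obtain ⟨R, hR⟩ := (hp1.comap_subtype (K := K)).exists_le_sylow
  obtain ⟨R', hR'⟩ := ((hp1.map (MulAut.conj g).toMonoidHom).comap_subtype (K := K)).exists_le_sylow
  obtain ⟨h, hh⟩ := MulAction.exists_smul_eq K R' R
  obtain ⟨Q, hQ⟩ := (R.isPGroup'.map K.subtype).exists_le_sylow
  have a1 : P₁ ≤ (Q : Subgroup J) := fun z hz => hQ ⟨⟨z, h1 hz⟩, hR hz, rfl⟩
  have a2 : c ((h : J) * g) P₁ ≤ (Q : Subgroup J) := by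
    rw [← hcc]
    rintro _ ⟨z, hz, rfl⟩
    have hmem : h * ⟨z, h2 hz⟩ * h⁻¹ ∈ (R : Subgroup K) := by
      rw [← hh]
      exact ⟨⟨z, h2 hz⟩, hR' hz, rfl⟩
    exact hQ ⟨_, hmem, rfl⟩
  have heq := huniq Q _ a1 a2
  refine ⟨(h : J) * g, ?_, ?_⟩
  · rw [Subgroup.mem_normalizer_iff]
    intro z
    constructor
    · intro hz
      exact heq.le (hcmem _ _ z hz)
    · intro hz
      obtain ⟨w, hw, hwe⟩ := heq.ge hz
      simp only [MulEquiv.toMonoidHom_eq_coe, MonoidHom.coe_coe, MulAut.conj_apply] at hwe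
      have : w = z := by
        have := mul_right_cancel hwe
        exact mul_left_cancel this
      exact this ▸ hw
  · rw [mul_smul, hg]; exact h.2

end Cfsg.Agent.S3180
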