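import Cfsg.Statements.S3183
import Mathlib
-- import your own Cfsg.Agent.* helpers here

set_option autoImplicit false
open Cfsg

namespace Cfsg.Agent.S3183

/-- Let G be a finite group in which the intersection of any two distinct Sylow 2-subgroups is contained in the centre of some Sylow 2-subgroup, and let S be a Sylow 2-subgroup. Then for every x in S the centralizer of x in S is a Sylow 2-subgroup of the centralizer of x in G (no 2-subgroup centralizing x is larger), and for every other Sylow 2-subgroup T the intersection S ∩ T lies in both the centre of S and the centre of T. -/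
theorem result {G : Type*} [Group G] [Finite G]
    (hCI : ∀ S T : Sylow 2 G, S ≠ T → ∃ U : Sylow 2 G,
      (S : Subgroup G) ⊓ (T : Subgroup G) ≤ (Subgroup.center ↥(U : Subgroup G)).map (U : Subgroup G).subtype)
    (S : Sylow 2 G) :
    (∀ x ∈ (S : Subgroup G), ∀ P : Subgroup G, IsPGroup 2 ↥P → P ≤ Subgroup.centralizer ({x} : Set G) →
        Nat.card ↥P ≤ Nat.card ↥((S : Subgroup G) ⊓ Subgroup.centralizer ({x} : Set G))) ∧
    (∀ T : Sylow 2 G, T ≠ S →
        (S : Subgroup G) ⊓ (T : Subgroup G) ≤
          (Subgroup.center ↥(S : Subgroup G)).map (S : Subgroup G).subtype ⊓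
            (Subgroup.center ↥(T : Subgroup G)).map (T : Subgroup G).subtype) := by

  haveI : Fact (Nat.Prime 2) := ⟨Nat.prime_two⟩
  -- the elements of a 2-subgroup whose centralizer contains a Sylow subgroup
  have key : ∀ (S : Sylow 2 G) (T : Sylow 2 G), T ≠ S → ∀ x ∈ (S : Subgroup G), x ∈ (T : Subgroup G) →
      ∀ s ∈ (S : Subgroup G), s * x = x * s := by
    intro S T hTS x hxS hxT
    have cen : ∀ (U : Sylow 2 G), ∀ w ∈ (Subgroup.center ↥(U : Subgroup G)).map (U : Subgroup G).subtype,
        ∀ u ∈ (U : Subgroup G), u * w = w * u := by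
      rintro U _ ⟨w, hw, rfl⟩ u hu
      exact congrArg Subtype.val (Subgroup.mem_center_iff.mp hw ⟨u, hu⟩)
    obtain ⟨U, hU⟩ := hCI S T hTS.symm
    have hxU := cen U x (hU ⟨hxS, hxT⟩)
    by_contra hne
    push Not at hne
    obtain ⟨s₀, hs₀, hs₀x⟩ := hne
    set C := (S : Subgroup G) ⊓ Subgroup.centralizer ({x} : Set G) with hCdef
    set K := Subgroup.centralizer ({x} : Set G)
    have hUK : (U : Subgroup G) ≤ K := fun u hu => Subgroup.mem_centralizer_singleton_iff.mpr (hxU u hu)
    obtain ⟨V', hV'⟩ := ((S.isPGroup'.to_inf_left : IsPGroup 2 C).comap_subtype (K := K)).exists_le_sylow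
    obtain ⟨V, hV⟩ := (V'.isPGroup'.map K.subtype).exists_le_sylow
    have hVU : Nat.card U = Nat.card V :=
      Nat.card_congr (U.equiv V).toEquiv
    have hV'K : ((V' : Subgroup K).map K.subtype) = (V : Subgroup G) := by
      refine Subgroup.eq_of_le_of_card_ge hV ?_
      rw [← hVU, Subgroup.card_subtype]
      rw [← Nat.card_congr (Subgroup.subgroupOfEquivOfLe hUK).toEquiv]
      obtain ⟨W, hW⟩ := ((U.isPGroup').comap_subtype (K := K)).exists_le_sylow
      calc Nat.card ↥((U : Subgroup G).subgroupOf K) ≤ Nat.card W :=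
            Nat.card_le_card_of_injective _ (Subgroup.inclusion_injective hW)
        _ = Nat.card V' := Nat.card_congr (W.equiv V').toEquiv
    have hCV : C ≤ (V : Subgroup G) := fun c hc => hV'K ▸ ⟨⟨c, hc.2⟩, hV' hc, rfl⟩
    have hVS : S ≠ V := by
      rintro rfl
      have : s₀ ∈ (S : Subgroup G) := hs₀
      rw [← hV'K] at this
      obtain ⟨w, -, hw⟩ := this
      exact hs₀x (Subgroup.mem_centralizer_singleton_iff.mp (hw ▸ w.2))
    obtain ⟨W, hW⟩ := hCI S V hVS
    have hWC : ∀ w ∈ (W : Subgroup G), w ∈ Subgroup.centralizer (C : Set G) := by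
      intro w hw
      rw [Subgroup.mem_centralizer_iff]
      intro c hc
      exact (cen W c (hW ⟨hc.1, hCV hc⟩) w hw).symm
    -- every 2-element normalizing C centralizes it
    set N := Subgroup.normalizer (C : Set G)
    set Z := Subgroup.centralizer (C : Set G)
    have hZN : Z ≤ N := Subgroup.centralizer_le_normalizer _
    have hidx : ¬ 2 ∣ Z.relIndex N := by
      intro h
      apply Sylow.not_dvd_index W
      refine dvd_trans ?_ (Subgroup.index_dvd_of_le (show (W : Subgroup G) ≤ Z from hWC))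
      exact dvd_trans h ⟨N.index, (Subgroup.relIndex_mul_index hZN).symm⟩
    haveI : (Z.subgroupOf N).Normal := Subgroup.normal_subgroupOf_of_le_normalizer (by
      intro g hg
      rw [Subgroup.mem_normalizer_iff] at hg ⊢
      intro h
      simp only [Subgroup.mem_centralizer_iff, Z, SetLike.mem_coe]
      constructor
      · intro hh c hc
        have := hh (g⁻¹ * c * g) ((hg _).mpr (by simpa [mul_assoc] using hc))
        calc c * (g * h * g⁻¹) = g * ((g⁻¹ * c * g) * h) * g⁻¹ := by group
          _ = g * (h * (g⁻¹ * c * g)) * g⁻¹ := by rw [this]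
          _ = _ := by group
      · intro hh c hc
        have := hh (g * c * g⁻¹) ((hg _).mp hc)
        calc c * h = g⁻¹ * ((g * c * g⁻¹) * (g * h * g⁻¹)) * g := by group
          _ = g⁻¹ * ((g * h * g⁻¹) * (g * c * g⁻¹)) * g := by rw [this]
          _ = _ := by group)
    -- C is a proper subgroup of S, so its normalizer in S is larger
    have hlt : C.subgroupOf (S : Subgroup G) < ⊤ := by
      rw [lt_top_iff_ne_top]
      intro h
      have : (⟨s₀, hs₀⟩ : (S : Subgroup G)) ∈ C.subgroupOf (S : Subgroup G) := h ▸ trivial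
      exact hs₀x (Subgroup.mem_centralizer_singleton_iff.mp this.2)
    haveI := S.isPGroup'.isNilpotent
    obtain ⟨s, hsN, hsC⟩ := SetLike.exists_of_lt (Group.normalizerCondition_of_isNilpotent _ hlt)
    have hsN' : s.1 ∈ N := by
      rw [Subgroup.mem_normalizer_iff] at hsN ⊢
      intro g
      refine ⟨fun hg => ((hsN ⟨g, hg.1⟩).mp hg), fun hg => ?_⟩
      have hgS : g ∈ (S : Subgroup G) := by
        have := mul_mem (mul_mem (inv_mem s.2) hg.1) s.2
        simpa [mul_assoc] using this
      exact (hsN ⟨g, hgS⟩).mpr hg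
    obtain ⟨k, hk⟩ := S.isPGroup' s
    have hsZ : s.1 ∈ Z := by
      let q : N ⧸ Z.subgroupOf N := QuotientGroup.mk ⟨s.1, hsN'⟩
      have h1 : q ^ (2 ^ k) = 1 := by
        show ((⟨s.1, hsN'⟩ : N) : N ⧸ Z.subgroupOf N) ^ 2 ^ k = 1
        rw [← QuotientGroup.mk_pow, QuotientGroup.eq_one_iff]
        have : (s.1) ^ 2 ^ k = 1 := congrArg Subtype.val hk
        show ((⟨s.1, hsN'⟩ : N) ^ 2 ^ k).1 ∈ Z
        rw [SubmonoidClass.coe_pow, this]; exact Z.one_mem
      have h2 : q ^ Nat.card (N ⧸ Z.subgroupOf N) = 1 := pow_card_eq_one'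
      have h3 : q = 1 := by
        rw [← orderOf_eq_one_iff]
        refine Nat.eq_one_of_dvd_coprimes ?_ (orderOf_dvd_of_pow_eq_one h1) (orderOf_dvd_of_pow_eq_one h2)
        exact (Nat.prime_two.coprime_iff_not_dvd.mpr hidx).pow_left _
      exact (QuotientGroup.eq_one_iff (N := Z.subgroupOf N) ⟨s.1, hsN'⟩).mp h3
    apply hsC
    have hxC : x ∈ C := ⟨hxS, Subgroup.mem_centralizer_singleton_iff.mpr rfl⟩
    exact ⟨s.2, Subgroup.mem_centralizer_singleton_iff.mpr
      ((Subgroup.mem_centralizer_iff.mp hsZ x hxC).symm)⟩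
  constructor
  · intro x hx P hP hPC
    set K := Subgroup.centralizer ({x} : Set G)
    by_cases hcen : ∀ s ∈ (S : Subgroup G), s * x = x * s
    · have : (S : Subgroup G) ⊓ K = S := inf_eq_left.mpr fun s hs =>
        Subgroup.mem_centralizer_singleton_iff.mpr (hcen s hs)
      rw [this]
      obtain ⟨Q, hQ⟩ := hP.exists_le_sylow
      calc Nat.card P ≤ Nat.card Q := Nat.card_le_card_of_injective _ (Subgroup.inclusion_injective hQ)
        _ = Nat.card S := Nat.card_congr (Q.equiv S).toEquiv
    · obtain ⟨V', hV'⟩ := ((S.isPGroup'.to_inf_left :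
          IsPGroup 2 ((S : Subgroup G) ⊓ K : Subgroup G)).comap_subtype (K := K)).exists_le_sylow
      obtain ⟨V, hV⟩ := (V'.isPGroup'.map K.subtype).exists_le_sylow
      have hxV : x ∈ (V : Subgroup G) := hV ⟨⟨x, Subgroup.mem_centralizer_singleton_iff.mpr rfl⟩,
        hV' ⟨hx, Subgroup.mem_centralizer_singleton_iff.mpr rfl⟩, rfl⟩
      have hVS : V = S := by
        by_contra h
        exact hcen (key S V h x hx hxV)
      obtain ⟨W, hW⟩ := (hP.comap_subtype (K := K)).exists_le_sylow
      calc Nat.card P = Nat.card (P.subgroupOf K) :=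
            (Nat.card_congr (Subgroup.subgroupOfEquivOfLe hPC).toEquiv).symm
        _ ≤ Nat.card W := Nat.card_le_card_of_injective _ (Subgroup.inclusion_injective hW)
        _ = Nat.card V' := Nat.card_congr (W.equiv V').toEquiv
        _ ≤ Nat.card ↥((S : Subgroup G) ⊓ K) := by
            refine Nat.card_le_card_of_injective (fun w => ⟨w.1.1, ?_, w.1.2⟩)
              (fun a b h => Subtype.ext (Subtype.ext (congrArg (fun z => z.1) h)))
            exact hVS ▸ hV ⟨w.1, w.2, rfl⟩
  · intro T hT z hz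
    refine ⟨⟨⟨z, hz.1⟩, Subgroup.mem_center_iff.mpr fun s => ?_, rfl⟩,
      ⟨⟨z, hz.2⟩, Subgroup.mem_center_iff.mpr fun s => ?_, rfl⟩⟩
    · exact Subtype.ext (key S T hT z hz.1 hz.2 s.1 s.2)
    · exact Subtype.ext (key T S hT.symm z hz.2 hz.1 s.1 s.2)

end Cfsg.Agent.S3183
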