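import Cfsg.Statements.S3189
import Cfsg.Agent.EightTwentyOne.Structure

set_option autoImplicit false
set_option linter.style.haveILetI false
open Cfsg CfsgLib.EightTwentyOne CfsgLib.Block CfsgLib.Block.Chr

namespace Cfsg.Agent.S3189

/-- In a perfect group only the trivial character is linear. -/
theorem two_le_degree {G : Type*} [Group G] [Finite G] (h : commutator G = ⊤)
    (χ : IrrCharacter G) (hχ : χ ≠ oneIrr G) : 2 ≤ charDegree (χ : G → ℂ) := by
  haveI : Fintype G := Fintype.ofFinite G
  obtain ⟨h1, hpos⟩ := irr_one χ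
  by_contra hlt
  have hd : charDegree (χ : G → ℂ) = 1 := by omega
  rw [hd, Nat.cast_one] at h1
  have hsub : Subsingleton (G →* ℂˣ) := ⟨fun a b => by
    refine MonoidHom.ext fun g => ?_
    have hg : g ∈ commutator G := h ▸ Subgroup.mem_top g
    rw [MonoidHom.mem_ker.1 (Abelianization.commutator_subset_ker a hg),
      MonoidHom.mem_ker.1 (Abelianization.commutator_subset_ker b hg)]⟩
  haveI : Subsingleton {χ : IrrCharacter G // (χ : G → ℂ) 1 = 1} :=
    CfsgLib.Char.linearCharEquiv.symm.subsingleton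
  exact hχ (congrArg Subtype.val (Subsingleton.elim
    (⟨χ, h1⟩ : {χ : IrrCharacter G // (χ : G → ℂ) 1 = 1}) ⟨oneIrr G, rfl⟩))

/-- Let G be a non-abelian finite simple group whose Sylow 2-subgroup S is elementary abelian of order 8, and suppose the centralizer of every involution of G is solvable. Then the normalizer of S modulo the centralizer of S has order 7. -/
theorem result {G : Type*} [Group G] [Finite G]
    [IsSimpleGroup G] (hG : ¬ IsMulCommutative G) (S : Sylow 2 G)
    (hS : Cfsg.IsElementaryAbelian 2 (S : Subgroup G)) (hS8 : Nat.card ↥(S : Subgroup G) = 8)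
    (hC : ∀ t : G, orderOf t = 2 → Group.IsSolvable ↥(Subgroup.centralizer ({t} : Set G))) :
    (Subgroup.centralizer ((S : Subgroup G) : Set G)).relIndex (Subgroup.normalizer ((S : Subgroup G) : Set G)) = 7 := by
  classical
  haveI : Fact (Nat.Prime 2) := ⟨Nat.prime_two⟩
  haveI : Fintype G := Fintype.ofFinite G
  haveI hab : IsMulCommutative (S : Subgroup G) := hS.1
  have hexp : ∀ x : (S : Subgroup G), x * x = 1 := fun x => Subtype.ext (by
    simpa [pow_two] using hS.2 x x.2)
  have hperf : commutator G = ⊤ :=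
    ((commutator G).normal_of_characteristic.eq_bot_or_eq_top).resolve_left fun h => hG ⟨⟨fun a b =>
      commutatorElement_eq_one_iff_mul_comm.1 (Subgroup.mem_bot.1 (h ▸
        Subgroup.commutator_mem_commutator (Subgroup.mem_top a) (Subgroup.mem_top b)))⟩⟩
  -- no nontrivial element of the Sylow subgroup is central in its normalizer
  have hfoc : (S : Subgroup G).focalSubgroup = S := by
    rw [← Subgroup.commutator_inf_eq_focalSubgroup, hperf, top_inf_eq]
  have hnofix : ∀ x ∈ (S : Subgroup G),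
      (∀ n ∈ Subgroup.normalizer ((S : Subgroup G) : Set G), n * x = x * n) → x = 1 := by
    intro x hx hn
    have h := (CfsgLib.TransferBasic.focal_disjoint_sup (P := S) hS.1).1
    rw [hfoc] at h
    refine Subgroup.mem_bot.1 (h ▸ ?_)
    exact ⟨⟨hx, Subgroup.mem_centralizer_iff.2 hn⟩, hx⟩
  -- the automizer
  obtain ⟨θ, hθdef⟩ : ∃ θ, θ = (S : Subgroup G).normalizerMonoidHom := ⟨_, rfl⟩
  have happ : ∀ (n : Subgroup.normalizer ((S : Subgroup G) : Set G)) (s : (S : Subgroup G)),
      ((θ n s : (S : Subgroup G)) : G) = n * s * (n : G)⁻¹ := fun n s => by rw [hθdef]; rfl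
  have hidx : (Subgroup.centralizer ((S : Subgroup G) : Set G)).relIndex
      (Subgroup.normalizer ((S : Subgroup G) : Set G)) = Nat.card θ.range := by
    rw [Subgroup.relIndex, ← Subgroup.normalizerMonoidHom_ker, ← hθdef, Subgroup.index_ker]
  rw [hidx]
  have hSC : (S : Subgroup G) ≤ Subgroup.centralizer ((S : Subgroup G) : Set G) :=
    Subgroup.le_centralizer_iff_isMulCommutative.2 hS.1
  have hodd : ¬ 2 ∣ Nat.card θ.range := by
    rw [← hidx]
    exact fun h => S.not_dvd_index ((h.trans (Subgroup.relIndex_dvd_of_le_left _ hSC)).trans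
      (Subgroup.relIndex_dvd_index_of_le Subgroup.le_normalizer))
  have hd : Nat.card θ.range ∣ 168 :=
    (Subgroup.card_subgroup_dvd_card _).trans (card_aut_dvd hS8 hexp)
  have hnofix' : ∀ v : (S : Subgroup G), (∀ a ∈ θ.range, a v = v) → v = 1 := by
    intro v hv
    refine Subtype.ext (hnofix v v.2 fun n hn => ?_)
    have := happ ⟨n, hn⟩ v
    rw [hv _ ⟨⟨n, hn⟩, rfl⟩] at this
    exact mul_inv_eq_iff_eq_mul.1 this.symm
  have hne13 : Nat.card θ.range ≠ 1 ∧ Nat.card θ.range ≠ 3 := by
    constructor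
    · intro h
      haveI : Nontrivial (S : Subgroup G) := Finite.one_lt_card_iff_nontrivial.1 (by omega)
      obtain ⟨v, hv⟩ := exists_ne (1 : (S : Subgroup G))
      refine hv (hnofix' v fun a ha => ?_)
      rw [Subgroup.eq_bot_of_card_eq _ h, Subgroup.mem_bot] at ha
      subst ha; rfl
    · intro h
      haveI : Fact (Nat.Prime 3) := ⟨Nat.prime_three⟩
      obtain ⟨α, hα⟩ := exists_prime_orderOf_dvd_card' (G := θ.range) 3 h.symm.dvd
      have hα' : orderOf (α : MulAut (S : Subgroup G)) = 3 := (Subgroup.orderOf_coe α).trans hα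
      have hfix := card_fixed hS8 hα' (Or.inl rfl)
      simp only [if_true] at hfix
      haveI : Nontrivial {v : (S : Subgroup G) // (α : MulAut (S : Subgroup G)) v = v} :=
        Finite.one_lt_card_iff_nontrivial.1 (by omega)
      obtain ⟨v, hv⟩ := exists_ne
        (⟨1, map_one _⟩ : {v : (S : Subgroup G) // (α : MulAut (S : Subgroup G)) v = v})
      refine hv (Subtype.ext (hnofix' v.1 fun a ha => ?_))
      have hle : Subgroup.zpowers (α : MulAut (S : Subgroup G)) = θ.range :=
        Subgroup.eq_of_le_of_card_ge (Subgroup.zpowers_le.2 α.2) (by rw [Nat.card_zpowers, hα', h])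
      rw [← hle] at ha
      obtain ⟨i, rfl⟩ := ha
      exact Subgroup.zpow_mem (MulAction.stabilizer (MulAut (S : Subgroup G)) v.1)
        (MulAction.mem_stabilizer_iff.2 v.2) i
  have h721 : Nat.card θ.range = 7 ∨ Nat.card θ.range = 21 := by
    have hdd := Nat.mem_divisors.2 ⟨hd, (by norm_num : (168 : ℕ) ≠ 0)⟩
    rw [show Nat.divisors 168 =
      {1, 2, 3, 4, 6, 7, 8, 12, 14, 21, 24, 28, 42, 56, 84, 168} by decide] at hdd
    simp only [Finset.mem_insert, Finset.mem_singleton] at hdd
    omega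
  refine h721.resolve_right fun h21 => ?_
  -- the automizer of order 21
  haveI : Fact (Nat.Prime 7) := ⟨by norm_num⟩
  obtain ⟨β, hβ⟩ := exists_prime_orderOf_dvd_card' (G := θ.range) 7 (by rw [h21]; norm_num)
  have hβ' : orderOf (β : MulAut (S : Subgroup G)) = 7 := (Subgroup.orderOf_coe β).trans hβ
  haveI : Nontrivial (S : Subgroup G) := Finite.one_lt_card_iff_nontrivial.1 (by omega)
  obtain ⟨v, hv⟩ := exists_ne (1 : (S : Subgroup G))
  have htrans : ∀ w : (S : Subgroup G), w ≠ 1 → ∃ a ∈ θ.range, a v = w := fun w hw => by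
    obtain ⟨a, ha, e⟩ := exists_zpow_apply hS8 hβ' hv hw
    exact ⟨a, Subgroup.zpowers_le.2 β.2 ha, e⟩
  have ht2 : orderOf (v : G) = 2 := by
    rw [Subgroup.orderOf_coe]
    exact orderOf_eq_prime (by rw [pow_two]; exact hexp v) hv
  have hinS : ∀ i : G, orderOf i = 2 → IsConj (v : G) i := by
    intro i hi
    obtain ⟨R, hR⟩ := (IsPGroup.of_card (n := 1) (show Nat.card (Subgroup.zpowers i) = 2 ^ 1 by
      rw [Nat.card_zpowers, hi, pow_one])).exists_le_sylow
    obtain ⟨g, hg⟩ := MulAction.exists_smul_eq G R S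
    have hgi : g * i * g⁻¹ ∈ (S : Subgroup G) := by
      rw [← hg]; exact ⟨i, hR (Subgroup.mem_zpowers i), rfl⟩
    obtain ⟨_, ⟨n, rfl⟩, e⟩ := htrans ⟨_, hgi⟩ fun h => by
      have := conj_eq_one_iff.1 (congrArg Subtype.val h)
      rw [this, orderOf_one] at hi
      omega
    have e' := happ n v
    rw [e] at e'
    refine isConj_iff.2 ⟨g⁻¹ * n, ?_⟩
    calc g⁻¹ * (n : G) * (v : G) * (g⁻¹ * (n : G))⁻¹ = g⁻¹ * ((n : G) * v * (n : G)⁻¹) * g := by group
      _ = i := by rw [← e']; group
  -- an element of odd order inducing an automorphism of order three fixing the involution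
  have hstab : Nat.card (MulAction.stabilizer θ.range v) = 3 := by
    have horb : MulAction.orbit θ.range v = ({1} : Set (S : Subgroup G))ᶜ := by
      ext w
      simp only [Set.mem_compl_iff, Set.mem_singleton_iff]
      constructor
      · rintro ⟨a, rfl⟩ h
        exact hv ((a : MulAut (S : Subgroup G)).injective (by rw [map_one]; exact h))
      · intro hw
        obtain ⟨a, ha, e⟩ := htrans w hw
        exact ⟨⟨a, ha⟩, e⟩
    have h := Subgroup.index_mul_card (MulAction.stabilizer θ.range v)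
    rw [MulAction.index_stabilizer, horb, Set.ncard_compl, Set.ncard_singleton, hS8, h21] at h
    omega
  haveI : Fact (Nat.Prime 3) := ⟨Nat.prime_three⟩
  obtain ⟨⟨⟨α, n₀, hn₀⟩, hαv⟩, hα3⟩ := exists_prime_orderOf_dvd_card'
    (G := MulAction.stabilizer θ.range v) 3 hstab.symm.dvd
  rw [← Subgroup.orderOf_coe, ← Subgroup.orderOf_coe] at hα3
  change orderOf α = 3 at hα3
  rw [← hn₀] at hα3
  have hfixv : θ n₀ v = v := by rw [hn₀]; exact hαv
  obtain ⟨k, hk⟩ : ∃ k : ℕ, k = (orderOf n₀).factorization 2 := ⟨_, rfl⟩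
  have hn2 : ¬ 2 ∣ orderOf (n₀ ^ 2 ^ k) := by
    rw [orderOf_pow_of_dvd (by positivity) (hk ▸ Nat.ordProj_dvd (orderOf n₀) 2), hk]
    exact Nat.not_dvd_ordCompl Nat.prime_two (orderOf_pos n₀).ne'
  have h3 : orderOf (θ (n₀ ^ 2 ^ k)) = 3 := by
    rw [map_pow, Nat.Coprime.orderOf_pow, hα3]
    rw [hα3]
    exact Nat.Coprime.pow_right k (by decide)
  set n := n₀ ^ 2 ^ k with hndef
  have hnv : θ n v = v := by
    rw [hndef, map_pow]
    exact Subgroup.pow_mem (MulAction.stabilizer (MulAut (S : Subgroup G)) v)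
      (MulAction.mem_stabilizer_iff.2 hfixv) (2 ^ k)
  have hnC : (n : G) ∈ Subgroup.centralizer ({(v : G)} : Set G) := by
    have := happ n v
    rw [hnv] at this
    exact Subgroup.mem_centralizer_singleton_iff.2 (mul_inv_eq_iff_eq_mul.1 this.symm)
  -- the centralizer of the involution
  haveI := hC (v : G) ht2
  have hSle : (S : Subgroup G) ≤ Subgroup.centralizer ({(v : G)} : Set G) := fun u hu =>
    Subgroup.mem_centralizer_singleton_iff.2 (Subgroup.mem_centralizer_iff.1 (hSC hu) v v.2).symm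
  let P : Sylow 2 (Subgroup.centralizer ({(v : G)} : Set G)) := S.subtype hSle
  have hP8 : Nat.card P = 8 := by
    rw [← hS8]
    exact Nat.card_congr (Subgroup.subgroupOfEquivOfLe hSle).toEquiv
  let z : Subgroup.centralizer ({(v : G)} : Set G) := ⟨n, hnC⟩
  have hz : ¬ 2 ∣ orderOf z := by rwa [Subgroup.orderOf_mk, Subgroup.orderOf_coe]
  have hzact : ∀ (r : ℕ) (s : (S : Subgroup G)),
      ((θ (n ^ r) s : (S : Subgroup G)) : G) = (n : G) ^ r * s * ((n : G) ^ r)⁻¹ := fun r s => by
    rw [happ]; rfl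
  obtain ⟨hz3O, hcount⟩ := section_count P hP8
    (fun x => Subtype.ext (Subtype.ext (show ((x : Subgroup.centralizer ({(v : G)} : Set G)) : G) *
      ((x : Subgroup.centralizer ({(v : G)} : Set G)) : G) = 1 from
      congrArg Subtype.val (hexp ⟨_, x.2⟩))))
    (t := ⟨v, hSle v.2⟩) v.2 (fun h => hv (Subtype.ext (congrArg Subtype.val h :)))
    (fun c => Subtype.ext (Subgroup.mem_centralizer_singleton_iff.1 c.2)) (z := z) hz
    (Subgroup.mem_normalizer_iff.2 fun w => Subgroup.mem_normalizer_iff.1 n.2 (w : G))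
    (Subgroup.mem_centralizer_iff.2 fun w hw => Subtype.ext (by
      have := hzact 3 ⟨(w : G), hw⟩
      rw [map_pow, show θ n ^ 3 = 1 by rw [← h3]; exact pow_orderOf_eq_one _, MulAut.one_apply] at this
      exact mul_inv_eq_iff_eq_mul.1 this.symm |>.symm))
    (fun hz => by
      have h1 : θ n = 1 := MulEquiv.ext fun s => Subtype.ext (by
        rw [happ]
        have h2 : (s : G) * (n : G) = (n : G) * s :=
          congrArg Subtype.val (Subgroup.mem_centralizer_iff.1 hz ⟨s, hSle s.2⟩ s.2)
        exact mul_inv_eq_iff_eq_mul.2 h2.symm)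
      rw [h1, orderOf_one] at h3
      omega)
  exact false_of_section S hS8 hexp (fun i j hi hj => (hinS i hi).symm.trans (hinS j hj))
    (two_le_degree hperf) ht2 z hz hz3O hcount

end Cfsg.Agent.S3189
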