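import Cfsg.Statements.S3190
-- import your own Cfsg.Agent.* helpers here

set_option autoImplicit false
open Cfsg

namespace Cfsg.Agent.S3190

/-- A nontrivial normal subgroup of a finite `p`-group contains a nontrivial central element. -/
private theorem exists_central {P : Type*} [Group P] [Finite P] {p : ℕ} [Fact p.Prime]
    (hP : IsPGroup p P) (B : Subgroup P) [B.Normal] {b : P} (hb : b ∈ B) (hb1 : b ≠ 1) :
    ∃ c ∈ B, c ≠ 1 ∧ c ∈ Subgroup.center P := by
  have hQ : IsPGroup p (ConjAct P) := hP.of_equiv ConjAct.toConjAct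
  have hdvd : p ∣ Nat.card B := by
    refine (hP.to_subgroup B).card_eq_or_dvd.resolve_left fun h => hb1 ?_
    exact Subgroup.mem_bot.mp (Subgroup.eq_bot_of_card_eq B h ▸ hb)
  have h1 : (1 : B) ∈ MulAction.fixedPoints (ConjAct P) B := fun g => smul_one g
  obtain ⟨c, hc, hc1⟩ := hQ.exists_fixed_point_of_prime_dvd_card_of_fixed_point B hdvd h1
  refine ⟨c, c.2, fun h => hc1 (Subtype.ext h.symm), Subgroup.mem_center_iff.mpr fun g => ?_⟩
  have := congrArg Subtype.val (hc (ConjAct.toConjAct g))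
  rw [ConjAct.Subgroup.val_conj_smul, ConjAct.toConjAct_smul] at this
  exact mul_inv_eq_iff_eq_mul.mp this

/-- Let p be an odd prime and, inside a finite group, let P be a p-subgroup normalized by a Klein four-group T. Let R be a subgroup of P, normal in P and normalized by T, such that P is the product of R with the centralizer of T in P. If T centralizes the centre of P, then T centralizes the centre of R. -/
theorem result {X : Type*} [Group X] [Finite X]
    {p : ℕ} (hp : p.Prime) (hodd : Odd p) (P T R : Subgroup X) (hP : IsPGroup p ↥P) (hT : IsKleinFour ↥T)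
    (hTP : T ≤ Subgroup.normalizer (P : Set X)) (hRP : R ≤ P) (hRn : (R.subgroupOf P).Normal)
    (hTR : T ≤ Subgroup.normalizer (R : Set X)) (hfac : R ⊔ (P ⊓ Subgroup.centralizer (T : Set X)) = P)
    (hZ : T ≤ Subgroup.centralizer (((Subgroup.center ↥P).map P.subtype : Subgroup X) : Set X)) :
    T ≤ Subgroup.centralizer (((Subgroup.center ↥R).map R.subtype : Subgroup X) : Set X) := by
  haveI : Fact p.Prime := ⟨hp⟩
  intro t ht
  rw [Subgroup.mem_centralizer_iff]
  rintro _ ⟨a, ha, rfl⟩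
  have htt : t * t = 1 := by
    have h := hT.exponent_two ▸ Monoid.pow_exponent_eq_one (⟨t, ht⟩ : T)
    rw [sq] at h
    exact congrArg Subtype.val h
  have htinv : t⁻¹ = t := inv_eq_of_mul_eq_one_right htt
  set A : Subgroup X := (Subgroup.center ↥R).map R.subtype with hA
  have hAR : A ≤ R := Subgroup.map_subtype_le _
  have hAc : ∀ x ∈ A, ∀ r ∈ R, r * x = x * r := by
    rintro _ ⟨x, hx, rfl⟩ r hr
    exact congrArg Subtype.val (Subgroup.mem_center_iff.mp hx ⟨r, hr⟩)
  -- `t` normalizes `A`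
  have htA : ∀ x ∈ A, t * x * t⁻¹ ∈ A := by
    intro x hx
    have hxR := (Subgroup.mem_normalizer_iff.mp (hTR ht) x).mp (hAR hx)
    refine ⟨⟨_, hxR⟩, Subgroup.mem_center_iff.mpr fun r => Subtype.ext ?_, rfl⟩
    have hr := (Subgroup.mem_normalizer_iff.mp (inv_mem (hTR ht)) r.1).mp r.2
    have := hAc x hx _ hr
    change r.1 * (t * x * t⁻¹) = (t * x * t⁻¹) * r.1
    calc r.1 * (t * x * t⁻¹) = t * ((t⁻¹ * r.1 * t⁻¹⁻¹) * x) * t⁻¹ := by group
      _ = t * (x * (t⁻¹ * r.1 * t⁻¹⁻¹)) * t⁻¹ := by rw [this]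
      _ = _ := by group
  -- elements of `A` inverted by `t`
  let B : Subgroup X :=
    { carrier := {x | x ∈ A ∧ t * x * t⁻¹ = x⁻¹}
      one_mem' := ⟨one_mem A, by simp⟩
      mul_mem' := by
        rintro x y ⟨hx, hx'⟩ ⟨hy, hy'⟩
        refine ⟨mul_mem hx hy, ?_⟩
        rw [← conj_mul, hx', hy', mul_inv_rev]
        exact hAc _ (inv_mem hy) _ (inv_mem (hAR hx))
      inv_mem' := by
        rintro x ⟨hx, hx'⟩
        refine ⟨inv_mem hx, ?_⟩
        rw [← conj_inv, hx'] }
  have hRn' : P ≤ Subgroup.normalizer (B : Set X) := by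
    rw [← hfac]
    refine sup_le (fun r hr => ?_) (fun c hc => ?_)
    · rw [Subgroup.mem_normalizer_iff]
      intro x
      constructor
      · rintro ⟨hx, hx'⟩
        have : r * x * r⁻¹ = x := by rw [hAc x hx r hr, mul_inv_cancel_right]
        rw [this]; exact ⟨hx, hx'⟩
      · rintro ⟨hx, hx'⟩
        have : x = r * x * r⁻¹ := by
          have h := hAc _ hx r⁻¹ (inv_mem hr)
          calc x = (r⁻¹ * (r * x * r⁻¹)) * r := by group
            _ = ((r * x * r⁻¹) * r⁻¹) * r := by rw [h]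
            _ = _ := by group
        rw [this]; exact ⟨hx, hx'⟩
    · obtain ⟨hcP, hcT⟩ := hc
      have hct : t * c = c * t := Subgroup.mem_centralizer_iff.mp hcT t ht
      have hcR : ∀ d ∈ P, ∀ x ∈ A, d * x * d⁻¹ ∈ A := by
        intro d hd x hx
        have hn : ∀ e ∈ P, ∀ r ∈ R, e * r * e⁻¹ ∈ R := fun e he r hr =>
          hRn.conj_mem ⟨r, hRP hr⟩ hr ⟨e, he⟩
        refine ⟨⟨_, hn d hd x (hAR hx)⟩, Subgroup.mem_center_iff.mpr fun r => Subtype.ext ?_, rfl⟩
        have := hAc x hx _ (hn d⁻¹ (inv_mem hd) r.1 r.2)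
        change r.1 * (d * x * d⁻¹) = (d * x * d⁻¹) * r.1
        calc r.1 * (d * x * d⁻¹) = d * ((d⁻¹ * r.1 * d⁻¹⁻¹) * x) * d⁻¹ := by group
          _ = d * (x * (d⁻¹ * r.1 * d⁻¹⁻¹)) * d⁻¹ := by rw [this]
          _ = _ := by group
      have hconj : ∀ d : X, d ∈ P → t * d = d * t → ∀ x ∈ B, d * x * d⁻¹ ∈ B := by
        rintro d hd hdt x ⟨hx, hx'⟩
        refine ⟨hcR d hd x hx, ?_⟩
        calc t * (d * x * d⁻¹) * t⁻¹ = (t * d) * x * (t * d)⁻¹ := by group
          _ = (d * t) * x * (d * t)⁻¹ := by rw [hdt]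
          _ = d * (t * x * t⁻¹) * d⁻¹ := by group
          _ = _ := by rw [hx']; group
      rw [Subgroup.mem_normalizer_iff]
      intro x
      refine ⟨hconj c hcP hct x, fun h => ?_⟩
      have := hconj c⁻¹ (inv_mem hcP) (((show Commute t c from hct).inv_right).eq) _ h
      simpa [mul_assoc] using this
  have hBP : B ≤ P := fun x hx => hRP (hAR hx.1)
  haveI : (B.subgroupOf P).Normal := Subgroup.normal_subgroupOf_of_le_normalizer hRn'
  change t ∈ _ at ht
  -- the commutator of `a` with `t` is inverted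
  set x := R.subtype a with hxdef
  have hxA : x ∈ A := ⟨a, ha, rfl⟩
  have hy : x⁻¹ * (t * x * t⁻¹) ∈ B := by
    refine ⟨mul_mem (inv_mem hxA) (htA x hxA), ?_⟩
    rw [mul_inv_rev, inv_inv]
    calc t * (x⁻¹ * (t * x * t⁻¹)) * t⁻¹ = (t * x⁻¹ * t⁻¹) * ((t * t) * x * (t * t)⁻¹) := by group
      _ = _ := by rw [htt]; group
  by_contra hne
  have hy1 : x⁻¹ * (t * x * t⁻¹) ≠ 1 := by
    intro h
    apply hne
    have h' := inv_mul_eq_one.mp h
    exact (eq_mul_inv_iff_mul_eq.mp h')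
  obtain ⟨c, hcB, hc1, hcZ⟩ := exists_central hP (B.subgroupOf P) (b := ⟨_, hBP hy⟩) hy
    (fun h => hy1 (congrArg Subtype.val h))
  obtain ⟨-, hinv⟩ := hcB
  have hcomm := Subgroup.mem_centralizer_iff.mp (hZ ht) c.1 ⟨c, hcZ, rfl⟩
  rw [Subgroup.coe_subtype, ← hcomm, mul_inv_cancel_right] at hinv
  have hc2 : c.1 ^ 2 = 1 := by
    rw [sq]
    exact eq_inv_iff_mul_eq_one.mp hinv
  have hdiv : orderOf c ∣ 2 := orderOf_dvd_of_pow_eq_one (Subtype.ext hc2)
  obtain ⟨k, hk⟩ := IsPGroup.iff_orderOf.mp hP c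
  have hodd' : Odd (orderOf c) := hk ▸ hodd.pow
  rcases (Nat.dvd_prime Nat.prime_two).mp hdiv with h | h
  · exact hc1 (orderOf_eq_one_iff.mp h)
  · rw [h] at hodd'; exact absurd hodd' (by decide)

end Cfsg.Agent.S3190
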