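import Cfsg.Statements.S3192
import Cfsg.Agent.ClassRank.Final

set_option autoImplicit false
open Cfsg

namespace Cfsg.Agent.S3192

/-- Simple groups of conjugate type rank three. For a finite group G consider the set of indices of the centralizers of the non-central elements of G. Then G is a non-abelian simple group for which this set has exactly three members if and only if G is isomorphic to PSL(2, 2^m) for some m ≥ 2. -/
theorem result (G : Type*) [Group G] [Finite G] :
    (IsSimpleGroup G ∧ ¬ IsMulCommutative G ∧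
        Set.ncard {m : ℕ | ∃ x : G, x ∉ Subgroup.center G ∧ m = (Subgroup.centralizer ({x} : Set G)).index} = 3) ↔
      ∃ (m : ℕ) (F : Type) (_ : Field F) (_ : Fintype F), 2 ≤ m ∧ Fintype.card F = 2 ^ m ∧
        Nonempty (G ≃* Matrix.ProjectiveSpecialLinearGroup (Fin 2) F) := by
  constructor
  · rintro ⟨hs, hna, h3⟩
    haveI := hs
    have hna' : ¬ ∀ a b : G, a * b = b * a := fun h => hna ⟨⟨h⟩⟩
    have hZ : Subgroup.center G = ⊥ := (IsSimpleGroup.eq_bot_or_eq_top_of_normal _ inferInstance).resolve_right
      fun h => hna' fun a b => (Subgroup.mem_center_iff.1 (h ▸ Subgroup.mem_top a : a ∈ Subgroup.center G) b).symm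
    obtain ⟨n, F, iF, iFt, hn, hc, he⟩ := CfsgLib.ClassRank.psl_of_threeSizes (G := G)
      { sizes := {m : ℕ | ∃ x : G, x ∉ Subgroup.center G ∧ m = (Subgroup.centralizer ({x} : Set G)).index}
        mem := fun x hx => ⟨x, fun h => hx (Subgroup.mem_bot.1 (hZ ▸ h)), rfl⟩
        three := h3
        na := hna'
        val := by
          rintro m ⟨x, hx, rfl⟩
          exact ⟨x, fun h => hx (h ▸ Subgroup.one_mem _), rfl⟩ }
    exact ⟨n, F, iF, iFt, hn, hc, he⟩
  · rintro ⟨m, F, iF, iFt, hm, hc, ⟨e⟩⟩
    have h4 : 4 ≤ Fintype.card F := by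
      rw [hc]; exact le_trans (by norm_num) (Nat.pow_le_pow_right two_pos hm)
    exact CfsgLib.ClassRank.ncard_psl (by rw [hc]; exact dvd_pow_self 2 (by omega)) h4 e

end Cfsg.Agent.S3192
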