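import Cfsg.Statements.S3195
import Cfsg.Agent.InvChar.ModularGroup
import Cfsg.Agent.Invol.BaerSuzuki
-- import your own Cfsg.Agent.* helpers here

set_option autoImplicit false
open Cfsg

namespace Cfsg.Agent.S3195

variable {G : Type*} [Group G] [Finite G]

omit [Finite G] in
/-- An element of odd order inverted and centralized by `t` is trivial. -/
private theorem eq_one_of_inv_comm {t d : G} (hd : Odd (orderOf d)) (hi : t * d * t⁻¹ = d⁻¹)
    (hc : Commute t d) : d = 1 := by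
  rw [hc.eq, mul_inv_cancel_right] at hi
  obtain ⟨k, hk⟩ := hd
  have h2 : d ^ 2 = 1 := by rw [sq]; exact eq_inv_iff_mul_eq_one.mp hi
  calc d = (d ^ 2) ^ k * d := by rw [h2, one_pow, one_mul]
    _ = d ^ orderOf d := by rw [← pow_mul, ← pow_succ, hk]
    _ = 1 := pow_orderOf_eq_one d

omit [Finite G] in
/-- A square root inside `⟨d⟩`. -/
private theorem exists_sqrt {d : G} (hd : Odd (orderOf d)) : ∃ k : ℕ, (d ^ k) * (d ^ k) = d := by
  obtain ⟨k, hk⟩ := hd
  refine ⟨k + 1, ?_⟩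
  rw [← pow_add, show k + 1 + (k + 1) = orderOf d + 1 by omega, pow_succ, pow_orderOf_eq_one, one_mul]

omit [Finite G] in
/-- A translate of an involution by an odd element it inverts is conjugate to it. -/
private theorem conj_translate {t u : G} (htt : t * t = 1) (hu : t * u * t⁻¹ = u⁻¹) :
    u * t * u⁻¹ = u * u * t := by
  have h : t * u⁻¹ = u * t := by
    rw [← inv_inv (u * t)]
    apply inv_injective
    rw [mul_inv_rev, inv_inv, inv_inv, mul_inv_rev, inv_eq_of_mul_eq_one_right htt]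
    have := hu
    rw [inv_eq_of_mul_eq_one_right htt] at this
    calc u * t = (t * t) * u * t := by rw [htt, one_mul]
      _ = t * (t * u * t) := by group
      _ = t * u⁻¹ := by rw [this]
  rw [mul_assoc, h, mul_assoc]

omit [Finite G] in
/-- The configuration of two odd elements that is excluded. -/
private theorem config {A : Subgroup G} (hA2 : ∀ t ∈ A, t * t = 1)
    (hcomm : ∀ s ∈ A, ∀ t ∈ A, s * t = t * s)
    (h : ∀ t ∈ A, t ≠ 1 → ∀ g : G, ∃ s ∈ A, s ≠ 1 ∧ Commute s (g * t * g⁻¹))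
    {a b c : G} (ha : a ∈ A) (hb : b ∈ A) (hc : c ∈ A) (hc1 : c ≠ 1) (hall : ∀ s ∈ A, s ≠ 1 → s = a ∨ s = b ∨ s = c)
    (habc : c = a * b) {d e : G} (hd : Odd (orderOf d)) (hd1 : d ≠ 1) (he : Odd (orderOf e))
    (he1 : e ≠ 1) (hcd : c * d * c⁻¹ = d⁻¹) (hce : c * e * c⁻¹ = e⁻¹)
    (hbd : Commute b d) (hae : Commute a e) : False := by
  have had : ∀ x : G, Commute b x → c * x * c⁻¹ = x⁻¹ → a * x * a⁻¹ = x⁻¹ := by
    intro x hx hcx
    have : a = c * b := by rw [habc, mul_assoc, hA2 b hb, mul_one]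
    rw [this]
    calc c * b * x * (c * b)⁻¹ = c * (b * x * b⁻¹) * c⁻¹ := by group
      _ = _ := by rw [hx.eq, mul_inv_cancel_right, hcx]
  have hbe : b * e * b⁻¹ = e⁻¹ := by
    have : b = c * a := by rw [habc, hcomm a ha b hb, mul_assoc, hA2 a ha, mul_one]
    rw [this]
    calc c * a * e * (c * a)⁻¹ = c * (a * e * a⁻¹) * c⁻¹ := by group
      _ = _ := by rw [hae.eq, mul_inv_cancel_right, hce]
  have key : ∀ w : G, Odd (orderOf w) → w ≠ 1 → Commute b w → c * w * c⁻¹ = w⁻¹ →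
      w * e * w = e⁻¹ := by
    intro w hw hw1 hbw hcw
    obtain ⟨k, hk⟩ := exists_sqrt hw
    obtain ⟨l, hl⟩ := exists_sqrt he
    set u := e ^ l
    set x := w * c with hxdef
    have hx : w ^ k * c * (w ^ k)⁻¹ = x := by
      rw [conj_translate (hA2 c hc) (by rw [← conj_pow, hcw, inv_pow]), hk]
    obtain ⟨s, hs, hs1, hscomm⟩ := h c hc hc1 (u * w ^ k)
    have hy : u * w ^ k * c * (u * w ^ k)⁻¹ = u * x * u⁻¹ := by rw [← hx]; group
    rw [hy] at hscomm
    -- pull the commutation back by `u`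
    have hpull : Commute (u⁻¹ * s * u) x := by
      have := congrArg (fun z => u⁻¹ * z * u) hscomm.eq
      change (u⁻¹ * s * u) * x = x * (u⁻¹ * s * u)
      calc (u⁻¹ * s * u) * x = u⁻¹ * (s * (u * x * u⁻¹)) * u := by group
        _ = u⁻¹ * ((u * x * u⁻¹) * s) * u := this
        _ = _ := by group
    have hpullinv : ∀ t : G, t ∈ A → t * e * t⁻¹ = e⁻¹ → u⁻¹ * t * u = e⁻¹ * t := by
      intro t ht hte
      have hu : t * u⁻¹ * t⁻¹ = u⁻¹⁻¹ := by
        rw [← conj_inv, ← conj_pow, hte, inv_pow]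
      have h1 := conj_translate (hA2 t ht) hu
      rw [inv_inv] at h1
      rw [h1, ← mul_inv_rev, hl]
    have hbx : Commute b x := hbw.mul_right (hcomm b hb c hc)
    rcases hall s hs hs1 with rfl | rfl | rfl
    · exfalso
      have h1 : u⁻¹ * s * u = s := by
        rw [mul_assoc, (hae.pow_right l).eq, inv_mul_cancel_left]
      rw [h1] at hpull
      have h2 : Commute s w := by
        have := hpull.mul_right (show Commute s c from hcomm s hs c hc)
        rwa [hxdef, mul_assoc, hA2 c hc, mul_one] at this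
      exact hw1 (eq_one_of_inv_comm hw (had w hbw hcw) h2)
    · exfalso
      rw [hpullinv s hs hbe] at hpull
      have h1 : Commute e⁻¹ x := by
        have := hpull.mul_left hbx
        rwa [mul_assoc, hA2 s hs, mul_one] at this
      have h2 : c * e⁻¹ * c⁻¹ = w⁻¹ * e⁻¹ * w := by
        calc c * e⁻¹ * c⁻¹ = w⁻¹ * (x * e⁻¹) * c⁻¹ := by rw [hxdef]; group
          _ = w⁻¹ * (e⁻¹ * x) * c⁻¹ := by rw [h1.eq]
          _ = _ := by rw [hxdef]; group
      rw [← conj_inv, hce, inv_inv] at h2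
      have h3 : w * e * w⁻¹ = e⁻¹ := by
        conv_lhs => rw [h2]
        group
      have h4 : Commute w e := CfsgLib.InvChar.commute_of_sq_of_odd hw (by
        rw [Commute, SemiconjBy, ← mul_inv_eq_iff_eq_mul]
        calc w ^ 2 * e * (w ^ 2)⁻¹ = w * (w * e * w⁻¹) * w⁻¹ := by rw [sq]; group
          _ = w * e⁻¹ * w⁻¹ := by rw [h3]
          _ = e := by rw [← conj_inv, h3, inv_inv])
      exact he1 (eq_one_of_inv_comm he h3 h4)
    · rw [hpullinv s hs hce] at hpull
      have hcw' : s * w = w⁻¹ * s := mul_inv_eq_iff_eq_mul.mp hcw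
      have hce' : s * e⁻¹ = e * s := by
        have := hce
        rw [← inv_inv (s * e * s⁻¹), conj_inv] at this
        exact mul_inv_eq_iff_eq_mul.mp (inv_injective this)
      have h1 : e⁻¹ * w⁻¹ = w * e := by
        calc e⁻¹ * w⁻¹ = e⁻¹ * (s * w) * s⁻¹ := by rw [hcw']; group
          _ = (e⁻¹ * s * (w * s)) * (s * s)⁻¹ := by group
          _ = (w * s * (e⁻¹ * s)) * (s * s)⁻¹ := by rw [← hxdef, hpull.eq]
          _ = w * (s * e⁻¹) * s⁻¹ := by group
          _ = w * e := by rw [hce']; group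
      calc w * e * w = e⁻¹ * w⁻¹ * w := by rw [h1]
        _ = e⁻¹ := by group
  have hd2 : Odd (orderOf (d ^ 2)) := hd.of_dvd_nat (orderOf_pow_dvd 2)
  have hd21 : d ^ 2 ≠ 1 := by
    intro h2
    apply hd1
    obtain ⟨k, hk⟩ := exists_sqrt hd
    rw [← hk, ← pow_add, ← two_mul, pow_mul, h2, one_pow]
  have h1 := key d hd hd1 hbd hcd
  have h2 := key (d ^ 2) hd2 hd21 (hbd.pow_right 2) (by rw [← conj_pow, hcd, inv_pow])
  have h3 : d * e * d = e := by
    have : d * (d * e * d) * d = d ^ 2 * e * d ^ 2 := by rw [sq]; group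
    rw [h2, ← h1] at this
    exact mul_left_cancel (mul_right_cancel this)
  rw [h1] at h3
  exact he1 (eq_one_of_inv_comm (t := e) he (by rw [mul_inv_cancel_right]; exact h3.symm) (Commute.refl e))

/-- Let A be a Klein four-subgroup of a finite group G. If every G-conjugate of every involution of A commutes with some involution of A (its centralizer meets A nontrivially), then A meets the largest normal 2-subgroup O₂(G) nontrivially. -/
theorem result {G : Type*} [Group G] [Finite G]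
    (A : Subgroup G) (hA : IsKleinFour ↥A)
    (h : ∀ a ∈ A, a ≠ 1 → ∀ g : G, A ⊓ Subgroup.centralizer ({g * a * g⁻¹} : Set G) ≠ ⊥) :
    A ⊓ Cfsg.pCore 2 G ≠ ⊥ := by
  by_contra hcon
  have hA2 : ∀ t ∈ A, t * t = 1 := by
    intro t ht
    have h := hA.exponent_two ▸ Monoid.pow_exponent_eq_one (⟨t, ht⟩ : A)
    rw [sq] at h
    exact congrArg Subtype.val h
  have hcomm : ∀ s ∈ A, ∀ t ∈ A, s * t = t * s := by
    intro s hs t ht
    have h := hA2 _ (mul_mem hs ht)
    calc s * t = (s * t)⁻¹ := (inv_eq_of_mul_eq_one_right h).symm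
      _ = _ := by rw [mul_inv_rev, inv_eq_of_mul_eq_one_right (hA2 s hs), inv_eq_of_mul_eq_one_right (hA2 t ht)]
  have h' : ∀ t ∈ A, t ≠ 1 → ∀ g : G, ∃ s ∈ A, s ≠ 1 ∧ Commute s (g * t * g⁻¹) := by
    intro t ht ht1 g
    obtain ⟨s, ⟨hs, hsC⟩, hs1⟩ := (Subgroup.bot_or_exists_ne_one _).resolve_left (h t ht ht1 g)
    exact ⟨s, hs, hs1, (Subgroup.mem_centralizer_iff.mp hsC _ rfl).symm⟩
  have hord : ∀ t ∈ A, t ≠ 1 → orderOf t = 2 := fun t ht ht1 =>
    orderOf_eq_prime (by rw [sq]; exact hA2 t ht) ht1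
  -- every element of `A` inverts an odd element centralized by another one
  have hex : ∀ t ∈ A, t ≠ 1 → ∃ d : G, d ≠ 1 ∧ Odd (orderOf d) ∧ t * d * t⁻¹ = d⁻¹ ∧
      ∃ s ∈ A, s ≠ 1 ∧ s ≠ t ∧ Commute s d := by
    intro t ht ht1
    obtain ⟨d, hd1, hd, hinv⟩ := CfsgLib.Invol.exists_inverted_odd t (hord t ht ht1) fun hO =>
      ht1 (Subgroup.mem_bot.mp (hcon ▸ Subgroup.mem_inf.mpr ⟨ht, hO⟩))
    obtain ⟨k, hk⟩ := exists_sqrt hd
    obtain ⟨s, hs, hs1, hsc⟩ := h' t ht ht1 (d ^ k)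
    rw [conj_translate (hA2 t ht) (by rw [← conj_pow, hinv, inv_pow]), hk] at hsc
    have hsd : Commute s d := by
      have := hsc.mul_right (show Commute s t from hcomm s hs t ht)
      rwa [mul_assoc, hA2 t ht, mul_one] at this
    refine ⟨d, hd1, hd, hinv, s, hs, hs1, ?_, hsd⟩
    rintro rfl
    exact hd1 (eq_one_of_inv_comm hd hinv hsd)
  obtain ⟨a₀, ha₀, ha₀1⟩ : ∃ a ∈ A, a ≠ 1 := by
    refine (Subgroup.bot_or_exists_ne_one A).resolve_left fun hb => ?_
    have := hA.card_four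
    rw [hb, Subgroup.card_bot] at this
    omega
  obtain ⟨d, hd1, hd, had, b, hb, hb1, hba, hbd⟩ := hex a₀ ha₀ ha₀1
  obtain ⟨e, he1, he, hbe, s, hs, hs1, hsb, hse⟩ := hex b hb hb1
  have hc1 : s * b ≠ 1 := fun h1 => hsb (by
    rw [eq_inv_of_mul_eq_one_left h1, inv_eq_of_mul_eq_one_right (hA2 b hb)])
  have hall : ∀ x ∈ A, x ≠ 1 → x = s ∨ x = b ∨ x = s * b := by
    intro x hx hx1
    by_contra hno
    push Not at hno
    classical
    haveI := Fintype.ofFinite A
    have hcard : Fintype.card A = 4 := by rw [← Nat.card_eq_fintype_card]; exact hA.card_four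
    have h5 : ({1, ⟨s, hs⟩, ⟨b, hb⟩, ⟨s * b, mul_mem hs hb⟩, ⟨x, hx⟩} : Finset A).card ≤ 4 :=
      (Finset.card_le_univ _).trans hcard.le
    rw [Finset.card_eq_of_equiv (Equiv.refl _)] at h5
    simp [Subtype.ext_iff, hsb, hs1, hb1, hs1.symm, hb1.symm, hx1.symm, hc1.symm, hno.1.symm,
      hno.2.1.symm, hno.2.2.symm] at h5
  have hcd : s * b * d * (s * b)⁻¹ = d⁻¹ := by
    rcases hall a₀ ha₀ ha₀1 with h1 | h1 | h1
    · rw [← h1]
      calc a₀ * b * d * (a₀ * b)⁻¹ = a₀ * (b * d * b⁻¹) * a₀⁻¹ := by group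
        _ = _ := by rw [hbd.eq, mul_inv_cancel_right, had]
    · exact absurd h1.symm hba
    · rw [← h1]; exact had
  have hce : s * b * e * (s * b)⁻¹ = e⁻¹ := by
    calc s * b * e * (s * b)⁻¹ = s * (b * e * b⁻¹) * s⁻¹ := by group
      _ = (s * e * s⁻¹)⁻¹ := by rw [hbe, ← conj_inv]
      _ = _ := by rw [hse.eq, mul_inv_cancel_right]
  exact config hA2 hcomm h' hs hb (mul_mem hs hb) hc1 hall rfl hd hd1 he he1 hcd hce hbd hse

end Cfsg.Agent.S3195
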