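import Cfsg.Statements.S3196
-- import your own Cfsg.Agent.* helpers here

set_option autoImplicit false
open Cfsg

namespace Cfsg.Agent.S3196

variable {G : Type*} [Group G] [Finite G]

/-- Elementwise commutation of two subgroups. -/
private def Perp (X Y : Subgroup G) : Prop := ∀ x ∈ X, ∀ y ∈ Y, x * y = y * x

omit [Finite G] in
private theorem Perp.symm {X Y : Subgroup G} (h : Perp X Y) : Perp Y X :=
  fun y hy x hx => (h x hx y hy).symm

private theorem eq_zpowers {p : ℕ} [Fact p.Prime] {X : Subgroup G} (hX : Nat.card X = p) {x : G}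
    (hx : x ∈ X) (hx1 : x ≠ 1) : X = Subgroup.zpowers x := by
  refine (Subgroup.eq_of_le_of_card_ge (Subgroup.zpowers_le.mpr hx) ?_).symm
  rw [hX, Nat.card_zpowers]
  have h : orderOf x ∣ p := hX ▸ Subgroup.orderOf_dvd_natCard X hx
  rcases (Nat.dvd_prime Fact.out).mp h with h | h
  · exact absurd (orderOf_eq_one_iff.mp h) hx1
  · exact h.ge

omit [Finite G] in
private theorem perp_self {p : ℕ} [Fact p.Prime] {X : Subgroup G} (hX : Nat.card X = p) :
    Perp X X := by
  haveI : IsCyclic X := isCyclic_of_prime_card hX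
  intro x hx y hy
  obtain ⟨g, hg⟩ := IsCyclic.exists_generator (α := X)
  obtain ⟨i, hi⟩ := hg ⟨x, hx⟩
  obtain ⟨j, hj⟩ := hg ⟨y, hy⟩
  have h : (⟨x, hx⟩ : X) * ⟨y, hy⟩ = ⟨y, hy⟩ * ⟨x, hx⟩ := by
    rw [← hi, ← hj, ← zpow_add, ← zpow_add, add_comm]
  exact congrArg Subtype.val h

omit [Finite G] in
/-- Every element of `X ⊔ Y` is a product when `X`, `Y` commute. -/
private theorem exists_mul {X Y : Subgroup G} (h : Perp X Y) {u : G} (hu : u ∈ X ⊔ Y) :
    ∃ x ∈ X, ∃ y ∈ Y, x * y = u := by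
  have hle : X ≤ Subgroup.normalizer (Y : Set G) := fun x hx =>
    Subgroup.centralizer_le_normalizer _
      (Subgroup.mem_centralizer_iff.mpr fun y hy => (h x hx y hy).symm)
  rw [← SetLike.mem_coe, Subgroup.coe_mul_of_left_le_normalizer_right X Y hle] at hu
  exact hu

omit [Finite G] in
private theorem perp_zpowers {V : Subgroup G} {u : G} (h : ∀ v ∈ V, v * u = u * v) :
    Perp V (Subgroup.zpowers u) := by
  rintro v hv _ ⟨k, rfl⟩
  exact ((show Commute v u from h v hv).zpow_right k).eq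

/-- The members of `K` have a common perpendicular one. -/
private theorem exists_radical {p : ℕ} [Fact p.Prime] (K : Set (Subgroup G))
    (hK : ∀ X ∈ K, Nat.card X = p) (hKc : ∀ X ∈ K, ∀ g : G, X.map (MulAut.conj g).toMonoidHom ∈ K)
    (hex : ∃ X ∈ K, ∃ Y ∈ K, X ≠ Y ∧ Perp X Y)
    (ha : ∀ X ∈ K, ∀ Y ∈ K, X ≠ Y → Perp X Y → ∀ Z : Subgroup G, Z ≤ X ⊔ Y → Nat.card Z = p → Z ∈ K)
    (hb : ∀ X ∈ K, ∀ Y ∈ K, X ≠ Y → Perp X Y →
      ∀ W ∈ K, (X ⊔ Y) ⊓ Subgroup.centralizer (W : Set G) ≠ ⊥) :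
    ∃ V ∈ K, ∀ W ∈ K, Perp V W := by
  have pw : ∀ X ∈ K, ∀ x ∈ X, x ^ p = 1 := fun X hX x hx =>
    orderOf_dvd_iff_pow_eq_one.mp (hK X hX ▸ Subgroup.orderOf_dvd_natCard X hx)
  -- elements of lines generate members
  have memK : ∀ X ∈ K, ∀ Y ∈ K, X ≠ Y → Perp X Y → ∀ x ∈ X, ∀ y ∈ Y, x * y ≠ 1 →
      Subgroup.zpowers (x * y) ∈ K := by
    intro X hX Y hY hne h x hx y hy hxy
    refine ha X hX Y hY hne h _ (Subgroup.zpowers_le.mpr (Subgroup.mul_mem_sup hx hy)) ?_
    rw [Nat.card_zpowers]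
    refine orderOf_eq_prime ?_ hxy
    rw [Commute.mul_pow (h x hx y hy), pw X hX x hx, pw Y hY y hy, one_mul]
  have gen : ∀ {A B : Subgroup G} {a b : G}, a ∈ A → a ≠ 1 → Nat.card A = p → b ∈ B → b ≠ 1 →
      Nat.card B = p → a * b = b * a → Perp A B := by
    intro A B a b ha ha1 hA hb hb1 hB hab
    rw [eq_zpowers hA ha ha1, eq_zpowers hB hb hb1]
    rintro _ ⟨i, rfl⟩ _ ⟨j, rfl⟩
    exact ((show Commute a b from hab).zpow_zpow i j).eq
  -- a point of `Y` seen from `X` and `W`
  have line : ∀ X ∈ K, ∀ Y ∈ K, Perp X Y → ∀ W ∈ K, ¬ Perp X W → X ≠ Y →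
      ∃ Y' ∈ K, Perp Y' X ∧ Perp Y' W ∧
        ∀ V : Subgroup G, Perp V X → Perp V Y' → Perp V Y := by
    intro X hX Y hY hXY W hW hXW hne
    obtain ⟨u, ⟨hu, huW⟩, hu1⟩ := (Subgroup.bot_or_exists_ne_one _).resolve_left (hb X hX Y hY hne hXY W hW)
    obtain ⟨x, hx, y, hy, rfl⟩ := exists_mul hXY hu
    have huW' : ∀ w ∈ W, w * (x * y) = x * y * w := Subgroup.mem_centralizer_iff.mp huW
    refine ⟨_, memK X hX Y hY hne hXY x hx y hy hu1, ?_, ?_, ?_⟩
    · refine (perp_zpowers fun x' hx' => ?_).symm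
      calc x' * (x * y) = x * (x' * y) := by
            rw [← mul_assoc, perp_self (hK X hX) x' hx' x hx, mul_assoc]
        _ = x * y * x' := by rw [hXY x' hx' y hy, mul_assoc]
    · exact (perp_zpowers huW').symm
    · intro V hVX hVY'
      have hy1 : y ≠ 1 := by
        rintro rfl
        rw [mul_one] at hu1 huW'
        apply hXW
        rw [eq_zpowers (hK X hX) hx hu1]
        exact (perp_zpowers huW').symm
      rw [eq_zpowers (hK Y hY) hy hy1]
      refine perp_zpowers fun v hv => ?_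
      have h1 : Commute v (x * y) := hVY' v hv _ (Subgroup.mem_zpowers _)
      have h2 : Commute v x := hVX v hv x hx
      have := (h2.inv_right).mul_right h1
      rwa [inv_mul_cancel_left] at this
  -- a radical member of the common perp of a non-perpendicular pair is radical
  have rad : ∀ X ∈ K, ∀ W ∈ K, ¬ Perp X W → ∀ C ∈ K, Perp C X → Perp C W →
      (∀ V ∈ K, Perp V X → Perp V W → Perp C V) → ∀ Y ∈ K, Perp C Y := by
    intro X hX W hW hXW C hC hCX hCW hN Y hY
    have side : ∀ X' ∈ K, ¬ Perp X' W → Perp C X' →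
        (∀ V ∈ K, Perp V X' → Perp V W → Perp C V) → ∀ Y ∈ K, Perp X' Y → Perp C Y := by
      intro X' hX' hXW' hCX' hN' Y hY hXY
      rcases eq_or_ne X' Y with rfl | hne
      · exact hCX'
      obtain ⟨Y', hY', h1, h2, h3⟩ := line X' hX' Y hY hXY W hW hXW' hne
      exact h3 C hCX' (hN' Y' hY' h1 h2)
    by_cases hXY : Perp X Y
    · exact side X hX hXW hCX hN Y hY hXY
    by_cases hCY : Perp C Y
    · exact hCY
    exfalso
    have hne : X ≠ C := by rintro rfl; exact hXW hCW
    obtain ⟨u, ⟨hu, huY⟩, hu1⟩ :=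
      (Subgroup.bot_or_exists_ne_one _).resolve_left (hb X hX C hC hne hCX.symm Y hY)
    obtain ⟨x, hx, c, hc, rfl⟩ := exists_mul hCX.symm hu
    have hU := memK X hX C hC hne hCX.symm x hx c hc hu1
    set U := Subgroup.zpowers (x * c)
    have hUY : Perp U Y := (perp_zpowers (Subgroup.mem_centralizer_iff.mp huY)).symm
    have hx1 : x ≠ 1 := by
      rintro rfl
      rw [one_mul] at hu1
      exact hCY (by
        rw [eq_zpowers (hK C hC) hc hu1]
        refine (perp_zpowers ?_).symm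
        simpa using Subgroup.mem_centralizer_iff.mp huY)
    have hCU : Perp C U := perp_zpowers fun c' hc' => by
      exact ((show Commute c' x from hCX c' hc' x hx).mul_right
        (perp_self (hK C hC) c' hc' c hc)).eq
    have hUW : ¬ Perp U W := by
      intro h
      apply hXW
      rw [eq_zpowers (hK X hX) hx hx1]
      refine (perp_zpowers fun w hw => ?_).symm
      have h1 : Commute w (x * c) := (h _ (Subgroup.mem_zpowers _) w hw).symm
      have h2 : Commute w c := (hCW c hc w hw).symm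
      have := h1.mul_right h2.inv_right
      rwa [mul_inv_cancel_right] at this
    refine hCY (side U hU hUW hCU (fun V hV hVU hVW => ?_) Y hY hUY)
    rcases eq_or_ne U V with rfl | hne'
    · exact hCU
    -- `V` is seen by `X` through a point of the common perp
    by_cases hVX : Perp V X
    · exact hN V hV hVX hVW
    exfalso
    -- some point of `X C` commutes with `V`, and it is `U`
    have hCV : Perp C V := by
      have hWX : ¬ Perp W X := fun h => hXW h.symm
      rcases eq_or_ne W V with rfl | hWV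
      · exact hCW
      obtain ⟨V', hV', h1, h2, h3⟩ := line W hW V hV hVW.symm X hX hWX hWV
      exact h3 C hCW (hN V' hV' h2 h1)
    apply hVX
    rw [eq_zpowers (hK X hX) hx hx1]
    refine perp_zpowers fun v hv => ?_
    have h1 : Commute v (x * c) := hVU v hv _ (Subgroup.mem_zpowers _)
    have h2 : Commute v c := (hCV c hc v hv).symm
    have := h1.mul_right h2.inv_right
    rwa [mul_inv_cancel_right] at this
  obtain ⟨X, hX, Y, hY, hne, hXY⟩ := hex
  by_contra hno
  push Not at hno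
  obtain ⟨W, hW, hXW⟩ := hno X hX
  obtain ⟨Z, hZ, hZX, hZW, -⟩ := line X hX Y hY hXY W hW hXW hne
  obtain ⟨Z', hZ', hZ'X, hZ'W, hZZ'⟩ : ∃ V ∈ K, Perp V X ∧ Perp V W ∧ ¬ Perp Z V := by
    by_contra hall
    push Not at hall
    obtain ⟨T, hT, hZT⟩ := hno Z hZ
    exact hZT (rad X hX W hW hXW Z hZ hZX hZW hall T hT)
  obtain ⟨z, hz, hz1⟩ : ∃ z ∈ Z, z ≠ 1 := (Subgroup.bot_or_exists_ne_one _).resolve_left (by
    intro h; have := hK Z hZ; rw [h, Subgroup.card_bot] at this
    exact (Fact.out : p.Prime).one_lt.ne this)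
  obtain ⟨w, hw, hw1⟩ : ∃ w ∈ W, w ≠ 1 := (Subgroup.bot_or_exists_ne_one _).resolve_left (by
    intro h; have := hK W hW; rw [h, Subgroup.card_bot] at this
    exact (Fact.out : p.Prime).one_lt.ne this)
  have hne1 : Z ≠ W := by rintro rfl; exact hXW hZX.symm
  have hzw : z * w ≠ 1 := by
    intro h
    apply hne1
    rw [eq_zpowers (hK Z hZ) hz hz1, eq_zpowers (hK W hW) hw hw1, eq_inv_of_mul_eq_one_left h,
      Subgroup.zpowers_inv]
  have hU := memK Z hZ W hW hne1 hZW z hz w hw hzw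
  have hne2 : X ≠ Z' := by rintro rfl; exact hXW hZ'W
  obtain ⟨u, ⟨hu, huU⟩, hu1⟩ :=
    (Subgroup.bot_or_exists_ne_one _).resolve_left (hb X hX Z' hZ' hne2 hZ'X.symm _ hU)
  obtain ⟨x, hx, z', hz', rfl⟩ := exists_mul hZ'X.symm hu
  have hU' : Commute (z * w) (x * z') := Subgroup.mem_centralizer_iff.mp huU _ (Subgroup.mem_zpowers _)
  have cxz : Commute x z := (hZX z hz x hx).symm
  have cwz : Commute w z := (hZW z hz w hw).symm
  have cxz' : Commute x z' := (hZ'X z' hz' x hx).symm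
  have cwz' : Commute w z' := (hZ'W z' hz' w hw).symm
  have hx1 : x ≠ 1 := by
    rintro rfl
    rw [one_mul] at hu1 hU'
    apply hZZ'
    refine gen hz hz1 (hK Z hZ) hz' hu1 (hK Z' hZ') ?_
    have := hU'.mul_left cwz'.inv_left
    rw [mul_inv_cancel_right] at this
    exact this.eq
  have hz'1 : z' ≠ 1 := by
    rintro rfl
    rw [mul_one] at hu1 hU'
    apply hXW
    refine gen hx hx1 (hK X hX) hw hw1 (hK W hW) ?_
    have := cxz.inv_right.mul_right hU'.symm
    rw [inv_mul_cancel_left] at this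
    exact this.eq
  set c := w * x * w⁻¹ * x⁻¹ with hc
  have hceq : c = z⁻¹ * (z' * z * z'⁻¹) := by
    have h1 : (x * z') * (z * w) * (x * z')⁻¹ = z * w := by rw [← hU'.eq, mul_inv_cancel_right]
    have h2 : (x * z') * (z * w) * (x * z')⁻¹ = (z' * z * z'⁻¹) * (x * w * x⁻¹) := by
      calc (x * z') * (z * w) * (x * z')⁻¹
          = (x * (z' * z * z'⁻¹) * x⁻¹) * (x * (z' * w * z'⁻¹) * x⁻¹) := by group
        _ = _ := by
          rw [← cwz'.eq, mul_inv_cancel_right,
            (((cxz'.mul_right cxz).mul_right cxz'.inv_right)).eq, mul_inv_cancel_right]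
    rw [h2] at h1
    calc c = w * (x * w * x⁻¹)⁻¹ := by rw [hc]; group
      _ = z⁻¹ * ((z * w) * (x * w * x⁻¹)⁻¹) := by group
      _ = _ := by rw [← h1]; group
  have cxc : Commute x c := by
    rw [hceq]; exact cxz.inv_right.mul_right ((cxz'.mul_right cxz).mul_right cxz'.inv_right)
  have cwc : Commute w c := by
    rw [hceq]; exact cwz.inv_right.mul_right ((cwz'.mul_right cwz).mul_right cwz'.inv_right)
  have hc1 : c ≠ 1 := by
    intro h
    rw [hceq] at h
    apply hZZ'
    refine gen hz hz1 (hK Z hZ) hz' hz'1 (hK Z' hZ') ?_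
    exact (mul_inv_eq_iff_eq_mul.mp (inv_mul_eq_one.mp h).symm).symm
  have hconj : w * x * w⁻¹ = c * x := by rw [hc]; group
  set X' := X.map (MulAut.conj w).toMonoidHom
  have hX' : X' ∈ K := hKc X hX w
  have hcx : c * x ∈ X' := ⟨x, hx, hconj⟩
  have hne3 : X' ≠ X := by
    intro h
    apply hXW
    have hcX : c ∈ X := by
      have := mul_mem (h ▸ hcx) (inv_mem hx)
      rwa [mul_inv_cancel_right] at this
    exact gen hcX hc1 (hK X hX) hw hw1 (hK W hW) cwc.eq.symm
  have hX'X : Perp X' X :=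
    gen hcx (by rw [← hconj, ne_eq, conj_eq_one_iff]; exact hx1) (hK X' hX') hx hx1 (hK X hX)
      ((cxc.symm.mul_left (Commute.refl x)).eq)
  have hC : Subgroup.zpowers c ∈ K := by
    have := memK X' hX' X hX hne3 hX'X (c * x) hcx x⁻¹ (inv_mem hx) (by rwa [mul_inv_cancel_right])
    rwa [mul_inv_cancel_right] at this
  have hCX : Perp (Subgroup.zpowers c) X := by
    rw [eq_zpowers (hK X hX) hx hx1]
    exact perp_zpowers fun c' hc' => by
      obtain ⟨k, rfl⟩ := hc'
      exact (cxc.symm.zpow_left k).eq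
  have hCW : Perp (Subgroup.zpowers c) W := by
    rw [eq_zpowers (hK W hW) hw hw1]
    exact perp_zpowers fun c' hc' => by
      obtain ⟨k, rfl⟩ := hc'
      exact (cwc.symm.zpow_left k).eq
  obtain ⟨T, hT, hCT⟩ := hno _ hC
  refine hCT (rad X hX W hW hXW _ hC hCX hCW (fun V _ hVX hVW => ?_) T hT)
  refine (perp_zpowers fun v hv => ?_).symm
  have h1 : Commute v x := hVX v hv x hx
  have h2 : Commute v w := hVW v hv w hw
  rw [hc]
  exact (((h2.mul_right h1).mul_right h2.inv_right).mul_right h1.inv_right).eq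

/-- Let p be a prime and K a set of subgroups of order p of a finite group G, closed under conjugation, such that at least two distinct members of K commute elementwise, and whenever two distinct members X, Y of K commute: every subgroup of order p of the group XY they generate belongs to K, and every member W of K has centralizer meeting XY nontrivially. Then some member V of K commutes elementwise with every member of K and lies in O_p(G); in particular G is not simple. -/
theorem result {G : Type*} [Group G] [Finite G]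
    {p : ℕ} (hp : p.Prime) (K : Set (Subgroup G)) (hK : ∀ X ∈ K, Nat.card ↥X = p)
    (hKc : ∀ X ∈ K, ∀ g : G, X.map (MulAut.conj g).toMonoidHom ∈ K)
    (hex : ∃ X ∈ K, ∃ Y ∈ K, X ≠ Y ∧ ∀ x ∈ X, ∀ y ∈ Y, x * y = y * x)
    (ha : ∀ X ∈ K, ∀ Y ∈ K, X ≠ Y → (∀ x ∈ X, ∀ y ∈ Y, x * y = y * x) →
      ∀ Z : Subgroup G, Z ≤ X ⊔ Y → Nat.card ↥Z = p → Z ∈ K)
    (hb : ∀ X ∈ K, ∀ Y ∈ K, X ≠ Y → (∀ x ∈ X, ∀ y ∈ Y, x * y = y * x) →
      ∀ W ∈ K, (X ⊔ Y) ⊓ Subgroup.centralizer (W : Set G) ≠ ⊥) :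
    (∃ V ∈ K, (∀ W ∈ K, ∀ v ∈ V, ∀ w ∈ W, v * w = w * v) ∧ V ≤ Cfsg.pCore p G) ∧ ¬ IsSimpleGroup G := by
  haveI : Fact p.Prime := ⟨hp⟩
  obtain ⟨V, hV, hVall⟩ := exists_radical K hK hKc hex ha hb
  set N := Subgroup.normalClosure (V : Set G) with hN
  have hcomm : ∀ x ∈ Group.conjugatesOfSet (V : Set G), ∀ y ∈ Group.conjugatesOfSet (V : Set G),
      x * y = y * x := by
    intro x hx y hy
    obtain ⟨a, ha', hax⟩ := Group.mem_conjugatesOfSet_iff.mp hx
    obtain ⟨b, hb', hby⟩ := Group.mem_conjugatesOfSet_iff.mp hy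
    obtain ⟨g, rfl⟩ := isConj_iff.mp hax
    obtain ⟨h, rfl⟩ := isConj_iff.mp hby
    have h2 := (hVall _ (hKc V hV (g⁻¹ * h)) a ha' ((g⁻¹ * h) * b * (g⁻¹ * h)⁻¹)
      ⟨b, hb', rfl⟩)
    apply (MulAut.conj g⁻¹).injective
    simp only [map_mul, MulAut.conj_apply, inv_inv]
    calc _ = a * ((g⁻¹ * h) * b * (g⁻¹ * h)⁻¹) := by group
      _ = ((g⁻¹ * h) * b * (g⁻¹ * h)⁻¹) * a := h2
      _ = _ := by group
  have hNp : ∀ x ∈ N, x ^ p = 1 := by
    haveI : IsMulCommutative N := Subgroup.isMulCommutative_closure hcomm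
    intro x hx
    refine Subgroup.closure_induction (p := fun x _ => x ^ p = 1) ?_ ?_ ?_ ?_ hx
    · intro x hx
      obtain ⟨a, ha', hax⟩ := Group.mem_conjugatesOfSet_iff.mp hx
      obtain ⟨g, rfl⟩ := isConj_iff.mp hax
      have hap : a ^ p = 1 :=
        orderOf_dvd_iff_pow_eq_one.mp (hK V hV ▸ Subgroup.orderOf_dvd_natCard V ha')
      rw [conj_pow, hap]; simp
    · exact one_pow _
    · intro x y hx hy h1 h2
      have hc : x * y = y * x :=
        setLike_mul_comm (show x ∈ N from hx) (show y ∈ N from hy)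
      rw [Commute.mul_pow hc, h1, h2, one_mul]
    · intro x _ h1
      rw [inv_pow, h1, inv_one]
  have hVN : V ≤ N := fun v hv => Subgroup.subset_normalClosure hv
  have hNpG : IsPGroup p N := fun x => ⟨1, Subtype.ext (by simpa using hNp x x.2)⟩
  refine ⟨⟨V, hV, hVall, hVN.trans (le_sSup ⟨Subgroup.normalClosure_normal, hNpG⟩)⟩, fun hs => ?_⟩
  have hNne : N ≠ ⊥ := fun h => by
    have h1 := hK V hV
    rw [show V = ⊥ from le_bot_iff.mp (hVN.trans h.le), Subgroup.card_bot] at h1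
    exact hp.one_lt.ne h1
  have htop : N = ⊤ := (hs.eq_bot_or_eq_top_of_normal N Subgroup.normalClosure_normal).resolve_left hNne
  have hab : ∀ x y : G, x * y = y * x := fun x y => by
    haveI : IsMulCommutative N := Subgroup.isMulCommutative_closure hcomm
    exact setLike_mul_comm (htop ▸ Subgroup.mem_top x : x ∈ N) (htop ▸ Subgroup.mem_top y : y ∈ N)
  obtain ⟨X, hX, Y, hY, hne, -⟩ := hex
  have htop' : ∀ X ∈ K, X = ⊤ := by
    intro X hX
    haveI : X.Normal := ⟨fun n hn g => by rwa [hab g n, mul_inv_cancel_right]⟩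
    refine (hs.eq_bot_or_eq_top_of_normal X inferInstance).resolve_left fun h => ?_
    have h1 := hK X hX
    rw [h, Subgroup.card_bot] at h1
    exact hp.one_lt.ne h1
  exact hne ((htop' X hX).trans (htop' Y hY).symm)

end Cfsg.Agent.S3196
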