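import Cfsg.Statements.S3198
import Cfsg.Agent.SylL34.CaseI
import Cfsg.Agent.SylL34.CaseII
import Cfsg.Agent.SylL34.CaseIII
import Cfsg.Agent.SylL34.Normal
import Cfsg.Agent.SylL34.Model
import Cfsg.Agent.LocalB.OddSignalizer

set_option autoImplicit false
open Cfsg

namespace Cfsg.Agent.S3198

/-- If G is a finite group whose Sylow 2-subgroups are isomorphic to those of PSL(3, 4), then G modulo its largest normal subgroup of odd order is isomorphic to a subgroup of PGL(3, 4) (the general linear group of dimension 3 over the field with 4 elements modulo its centre). -/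
theorem result {G : Type*} [Group G] [Finite G]
    {F : Type*} [Field F] [Fintype F] (hF : Fintype.card F = 4) (S : Sylow 2 G)
    (P : Sylow 2 (Matrix.ProjectiveSpecialLinearGroup (Fin 3) F))
    (hS : Nonempty (↥(S : Subgroup G) ≃* ↥(P : Subgroup (Matrix.ProjectiveSpecialLinearGroup (Fin 3) F)))) :
    ∃ f : G ⧸ Cfsg.oddCore G →* GL (Fin 3) F ⧸ Subgroup.center (GL (Fin 3) F), Function.Injective f := by
  classical
  haveI : Fact (Nat.Prime 2) := ⟨Nat.prime_two⟩
  haveI : (Cfsg.oddCore G).Normal := CfsgLib.SylL34.ocore_normal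
  obtain ⟨A, B, D⟩ := CfsgLib.SylL34.exists_dat hF S P hS
  have hq := QuotientGroup.mk'_surjective (Cfsg.oddCore G)
  have hker : Odd (Nat.card (QuotientGroup.mk' (Cfsg.oddCore G)).ker) := by
    rw [QuotientGroup.ker_mk']
    exact CfsgLib.SylL34.ocore_odd
  have D' := D.map hq hker
  have hO : Cfsg.oddCore (G ⧸ Cfsg.oddCore G) = ⊥ := CfsgLib.LocalB.oddCore_quotient
  by_cases hA : CfsgLib.SylL34.Fus (A.map (QuotientGroup.mk' (Cfsg.oddCore G)))
      (B.map (QuotientGroup.mk' (Cfsg.oddCore G))) <;>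
    by_cases hB : CfsgLib.SylL34.Fus (B.map (QuotientGroup.mk' (Cfsg.oddCore G)))
      (A.map (QuotientGroup.mk' (Cfsg.oddCore G)))
  · exact D'.caseIII hA hB hO hF
  · exact D'.embedII hA (D'.caseII hA hB hO) hO hF
  · exact D'.symm.embedII hB (D'.symm.caseII hB hA hO) hO hF
  · exact D'.embedI (D'.caseI hA hB hO) hO hF

end Cfsg.Agent.S3198
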