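import Cfsg.Statements.S3200
import Cfsg.Agent.Char.Burnside
import Cfsg.Agent.Solvable.Hall
import Cfsg.Agent.Solvable.Basics

set_option autoImplicit false
open Cfsg

namespace Cfsg.Agent.S3200

open scoped Pointwise

universe u

/-- An abelian subgroup of odd order whose index is a power of two. -/
def HasOddAbelian (G : Type*) [Group G] : Prop :=
  ∃ C : Subgroup G, IsMulCommutative C ∧ Odd (Nat.card C) ∧ ∃ k : ℕ, C.index = 2 ^ k

theorem of_normal {G : Type*} [Group G] [Finite G] (h : HasOddAbelian G) (N : Subgroup G)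
    [N.Normal] : HasOddAbelian N := by
  obtain ⟨C, hC, hodd, k, hk⟩ := h
  refine ⟨C.subgroupOf N, ⟨⟨fun a b => Subtype.ext (Subtype.ext
    (setLike_mul_comm (s := C) a.2 b.2))⟩⟩, ?_, ?_⟩
  · refine Odd.of_dvd_nat hodd ?_
    exact Subgroup.card_comap_dvd_of_injective _ N.subtype N.subtype_injective
  · have h1 : (C.subgroupOf N).index ∣ 2 ^ k := by
      rw [← hk]
      have e1 := CfsgLib.Solvable.card_sup_mul_card_inf (A := C) (K := N)
        (by rw [Subgroup.normalizer_eq_top]; exact le_top)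
      have e2 := (C.subgroupOf N).card_mul_index
      rw [← Subgroup.inf_subgroupOf_right,
        Nat.card_congr (Subgroup.subgroupOfEquivOfLe inf_le_right).toEquiv,
        Subgroup.inf_subgroupOf_right] at e2
      have e3 := (C.subgroupOf (C ⊔ N)).card_mul_index
      rw [Nat.card_congr (Subgroup.subgroupOfEquivOfLe le_sup_left).toEquiv] at e3
      have e4 : (C.subgroupOf (C ⊔ N)).index = (C.subgroupOf N).index := by
        rw [← e2, ← e3] at e1
        refine Nat.eq_of_mul_eq_mul_left
          (Nat.mul_pos (Nat.card_pos (α := C)) (Nat.card_pos (α := ↥(C ⊓ N)))) ?_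
        linarith
      rw [← e4, ← Subgroup.relIndex_mul_index (le_sup_left : C ≤ C ⊔ N)]
      exact dvd_mul_right _ _
    obtain ⟨j, -, hj⟩ := (Nat.dvd_prime_pow Nat.prime_two).mp h1
    exact ⟨j, hj⟩

theorem of_surjective {G H : Type*} [Group G] [Finite G] [Group H] (f : G →* H)
    (hf : Function.Surjective f) (h : HasOddAbelian G) : HasOddAbelian H := by
  obtain ⟨C, hC, hodd, k, hk⟩ := h
  refine ⟨C.map f, ⟨⟨?_⟩⟩, Odd.of_dvd_nat hodd (Subgroup.card_map_dvd _ _), ?_⟩
  · rintro ⟨_, a, ha, rfl⟩ ⟨_, b, hb, rfl⟩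
    exact Subtype.ext (by simp only [Subgroup.coe_mul, ← map_mul, setLike_mul_comm (s := C) ha hb])
  · obtain ⟨j, -, hj⟩ := (Nat.dvd_prime_pow Nat.prime_two).mp (hk ▸ Subgroup.index_map_dvd C hf)
    exact ⟨j, hj⟩

theorem solvable_aux (n : ℕ) : ∀ (G : Type u) [Group G] [Finite G], Nat.card G = n →
    HasOddAbelian G → Group.IsSolvable G := by
  induction n using Nat.strongRecOn with | ind n ih => ?_
  intro G _ _ hn h
  subst hn
  by_cases hnormal : ∃ N : Subgroup G, N.Normal ∧ N ≠ ⊥ ∧ N ≠ ⊤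
  · obtain ⟨N, hN, hb, ht⟩ := hnormal
    have hmul := N.card_mul_index
    have hc : 1 < Nat.card N := (Subgroup.one_lt_card_iff_ne_bot N).mpr hb
    have hi : 1 < N.index := by
      have h0 : N.index ≠ 0 := Subgroup.index_ne_zero_of_finite
      have h1 : N.index ≠ 1 := fun h1 => ht (Subgroup.index_eq_one.mp h1)
      omega
    haveI := ih (Nat.card N) (by rw [← hmul]; exact lt_mul_of_one_lt_right (by omega) hi) N rfl
      (of_normal h N)
    haveI := ih (Nat.card (G ⧸ N)) (by
      rw [← Subgroup.index_eq_card, ← hmul]; exact lt_mul_of_one_lt_left (by omega) hc) (G ⧸ N) rfl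
      (of_surjective (QuotientGroup.mk' N) (QuotientGroup.mk'_surjective N) h)
    exact (Group.isSolvable_iff_subgroup_quotient N).mpr ⟨inferInstance, inferInstance⟩
  · push Not at hnormal
    rcases subsingleton_or_nontrivial G with hs | hs
    · infer_instance
    haveI : IsSimpleGroup G := ⟨fun H hH => or_iff_not_imp_left.mpr (hnormal H hH)⟩
    obtain ⟨C, hC, hodd, k, hk⟩ := h
    by_cases hCb : C = ⊥
    · rw [hCb, Subgroup.index_bot] at hk
      haveI : Fact (Nat.Prime 2) := ⟨Nat.prime_two⟩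
      haveI := (IsPGroup.of_card hk).isNilpotent
      infer_instance
    · obtain ⟨c, hc, hc1⟩ := (Subgroup.ne_bot_iff_exists_ne_one.mp hCb).elim
        fun a ha => (⟨a.1, a.2, fun h => ha (Subtype.ext h)⟩ : ∃ c ∈ C, c ≠ 1)
      have hle : C ≤ Subgroup.centralizer ({c} : Set G) := fun x hx =>
        Subgroup.mem_centralizer_singleton_iff.mpr (setLike_mul_comm hx hc)
      obtain ⟨j, -, hj⟩ := (Nat.dvd_prime_pow Nat.prime_two).mp (hk ▸ Subgroup.index_dvd_of_le hle)
      have hp := CfsgLib.Char.prime_card_of_prime_pow_class Nat.prime_two hc1 hj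
      haveI := Fact.mk hp
      haveI := isCyclic_of_prime_card (α := G) rfl
      exact Group.isSolvable_of_comm fun a b => (IsCyclic.commGroup (α := G)).mul_comm a b

theorem to_sylow {G : Type*} [Group G] [Finite G] (h : HasOddAbelian G) :
    ∃ (P : Sylow 2 G) (D : Subgroup G), IsMulCommutative D ∧
      Subgroup.IsComplement' (P : Subgroup G) D := by
  haveI : Fact (Nat.Prime 2) := ⟨Nat.prime_two⟩
  obtain ⟨C, hC, hodd, k, hk⟩ := h
  obtain ⟨P⟩ : Nonempty (Sylow 2 G) := Sylow.nonempty
  have hG : Nat.card G = 2 ^ k * Nat.card C := by rw [← C.card_mul_index, hk, mul_comm]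
  have hP : Nat.card (P : Subgroup G) = 2 ^ k := by
    rw [P.card_eq_multiplicity, hG, Nat.factorization_mul (by positivity) Nat.card_pos.ne',
      Finsupp.add_apply, Nat.Prime.factorization_pow Nat.prime_two, Finsupp.single_eq_same,
      Nat.factorization_eq_zero_of_not_dvd (Nat.two_dvd_ne_zero.mpr (Nat.odd_iff.mp hodd)), add_zero]
  exact ⟨P, C, hC, Subgroup.isComplement'_of_coprime (by rw [hP, hG])
    (by rw [hP]; exact Nat.Coprime.pow_left k (Nat.coprime_two_left.mpr hodd))⟩

/-- Let H be a finite group in which a Sylow 2-subgroup has an abelian complement (an abelian subgroup meeting it trivially whose product with it is all of H). Then H is solvable, and every subgroup and every quotient group of H again has a Sylow 2-subgroup with an abelian complement. -/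
theorem result {H : Type*} [Group H] [Finite H]
    (S : Sylow 2 H) (C : Subgroup H) (hC : IsMulCommutative ↥C) (hSC : Subgroup.IsComplement' (S : Subgroup H) C) :
    Group.IsSolvable H ∧
    (∀ L : Subgroup H, ∃ (P : Sylow 2 ↥L) (D : Subgroup ↥L), IsMulCommutative ↥D ∧ Subgroup.IsComplement' (P : Subgroup ↥L) D) ∧
    (∀ (N : Subgroup H) [N.Normal], ∃ (P : Sylow 2 (H ⧸ N)) (D : Subgroup (H ⧸ N)),
      IsMulCommutative ↥D ∧ Subgroup.IsComplement' (P : Subgroup (H ⧸ N)) D) := by
  haveI : Fact (Nat.Prime 2) := ⟨Nat.prime_two⟩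
  have hcard := hSC.card_mul_card
  obtain ⟨k, hk⟩ := S.isPGroup'.exists_card_eq
  have hidx : C.index = 2 ^ k := by
    have h1 := C.card_mul_index
    rw [← hcard, hk, mul_comm] at h1
    exact Nat.eq_of_mul_eq_mul_right Nat.card_pos h1
  have hodd : Odd (Nat.card C) := by
    rw [Nat.odd_iff, ← Nat.two_dvd_ne_zero]
    intro h2
    apply S.not_dvd_index
    have h1 := (S : Subgroup H).card_mul_index
    rw [← hcard] at h1
    rwa [Nat.eq_of_mul_eq_mul_left Nat.card_pos h1]
  have hP : HasOddAbelian H := ⟨C, hC, hodd, k, hidx⟩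
  haveI hsol := solvable_aux (Nat.card H) H rfl hP
  refine ⟨hsol, fun L => to_sylow ?_, fun N hN =>
    to_sylow (of_surjective (QuotientGroup.mk' N) (QuotientGroup.mk'_surjective N) hP)⟩
  obtain ⟨j, m, hm, hjm⟩ := Nat.exists_eq_two_pow_mul_odd (Nat.card_pos (α := L)).ne'
  obtain ⟨D, hD, -⟩ := CfsgLib.Hall.hall (G := L) (a := m) (b := 2 ^ j) (by rw [hjm, mul_comm])
    ((Nat.coprime_two_right.mpr hm).pow_right j)
  have hcop : (Nat.card C).Coprime (2 ^ k) := (Nat.coprime_two_right.mpr hodd).pow_right k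
  have hHab : Nat.card H = Nat.card C * 2 ^ k := by rw [← hidx, C.card_mul_index]
  obtain ⟨X, hX, hXdom⟩ := CfsgLib.Hall.hall hHab hcop
  obtain ⟨g, hg⟩ := hXdom (D.map L.subtype) (by
    rw [Subgroup.card_map_of_injective L.subtype_injective, hD]
    exact (Nat.coprime_two_right.mpr hm).pow_right k)
  obtain ⟨g', hg'⟩ := CfsgLib.Hall.hall_conj hHab hcop hX rfl
  refine ⟨D, ⟨⟨fun a b => ?_⟩⟩, hD ▸ hm, j, ?_⟩
  · have hmem : ∀ d : D, (MulAut.conj g') ((MulAut.conj g) ((d : L) : H)) ∈ C := fun d => by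
      rw [← hg']
      exact Subgroup.smul_mem_pointwise_smul _ _ _
        (hg (Subgroup.smul_mem_pointwise_smul _ _ _ (Subgroup.mem_map_of_mem _ d.2)))
    have h1 := setLike_mul_comm (hmem a) (hmem b)
    rw [← map_mul, ← map_mul, ← map_mul, ← map_mul] at h1
    exact Subtype.ext (Subtype.ext ((MulAut.conj g).injective ((MulAut.conj g').injective h1)))
  · have h1 := D.card_mul_index
    rw [hD, hjm, mul_comm (2 ^ j)] at h1
    exact Nat.eq_of_mul_eq_mul_left hm.pos h1

end Cfsg.Agent.S3200
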