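import Cfsg.Statements.S3201
import Cfsg.Agent.InvChar.CentralQuaternion
-- import your own Cfsg.Agent.* helpers here

set_option autoImplicit false
open Cfsg

namespace Cfsg.Agent.S3201

/-- Let S be a finite 2-group whose centre Z(S) has n ≥ 2 distinct maximal subgroups C₁, …, Cₙ with trivial intersection such that each quotient S/Cᵢ is a non-abelian group with exactly one involution (a generalized quaternion group). Then S is the internal direct product of an elementary abelian subgroup and a non-abelian subgroup with exactly one involution. -/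
theorem result {S : Type*} [Group S] [Finite S]
    (hS : IsPGroup 2 S) (n : ℕ) (hn : 2 ≤ n) (C : Fin n → Subgroup ↥(Subgroup.center S))
    (hCmax : ∀ i, IsCoatom (C i)) (hCinj : Function.Injective C) (hCint : ⨅ i, C i = ⊥)
    (hCq : ∀ i, ∃ (_ : ((C i).map (Subgroup.center S).subtype).Normal),
      ¬ IsMulCommutative (S ⧸ (C i).map (Subgroup.center S).subtype) ∧
      ∃! x : S ⧸ (C i).map (Subgroup.center S).subtype, orderOf x = 2) :
    ∃ E Q : Subgroup S, Cfsg.IsInternalDirectProduct E Q ⊤ ∧ Cfsg.IsElementaryAbelian 2 E ∧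
      ¬ IsMulCommutative ↥Q ∧ ∃! x : ↥Q, orderOf x = 2 := by
  haveI : Fact (Nat.Prime 2) := ⟨Nat.prime_two⟩
  let C' : Fin n → Subgroup S := fun i => (C i).map (Subgroup.center S).subtype
  have hCn : ∀ i, (C' i).Normal := fun i => (hCq i).choose
  have facts := fun i => by
    haveI : ((C i).map (Subgroup.center S).subtype).Normal := hCn i
    exact CfsgLib.InvChar.quaternion_quotient_facts hS (C i) (hCmax i) (hCq i).choose_spec.1
      (hCq i).choose_spec.2
  obtain ⟨hsq0, hmul0, hZsq0, a, b, m, hg⟩ := facts ⟨0, by omega⟩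
  set i0 : Fin n := ⟨0, by omega⟩
  haveI := hCn i0
  have hN : 2 * 2 ^ (m - 1) = 2 ^ m := by rw [← pow_succ', Nat.sub_add_cancel (by have := hg.two_le; omega)]
  set N := 2 ^ (m - 1) with hNdef
  have hCZ : ∀ i, C' i ≤ Subgroup.center S := fun i => Subgroup.map_subtype_le _
  have hint : ∀ s : S, (∀ i, s ∈ C' i) → s = 1 := by
    intro s hs
    have h1 : (⟨s, hCZ i0 (hs i0)⟩ : ↥(Subgroup.center S)) ∈ ⨅ i, C i := by
      rw [Subgroup.mem_iInf]
      intro i
      obtain ⟨d, hd, he⟩ := hs i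
      rwa [← (Subtype.ext he : d = ⟨s, hCZ i0 (hs i0)⟩)]
    rw [hCint, Subgroup.mem_bot] at h1
    exact congrArg Subtype.val h1
  -- relations in every quotient
  have hpow : ∀ i, a ^ N ∉ C' i := by
    intro i h
    refine hg.half_not_center ((facts i).1 _ ?_)
    rw [← pow_mul, ← pow_succ, show m - 2 + 1 = m - 1 by have := hg.two_le; omega]
    exact h
  have hb2 : b ^ 2 * (a ^ N)⁻¹ = 1 := by
    have hb2Z : b ^ 2 ∈ Subgroup.center S := by
      have := mul_mem (hCZ i0 hg.sq) hg.pow_center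
      rwa [inv_mul_cancel_right] at this
    exact hint _ fun i => (facts i).2.1 _ hb2Z _ hg.pow_center
      (fun h => hg.b_not_center ((facts i).1 b h)) (hpow i)
  have hba2 : (b * a) ^ 2 * (a ^ N)⁻¹ = 1 := by
    have hZ2 : (b * a) ^ 2 ∈ Subgroup.center S := by
      have := mul_mem (hCZ i0 hg.sq_ba) hg.pow_center
      rwa [inv_mul_cancel_right] at this
    exact hint _ fun i => (facts i).2.1 _ hZ2 _ hg.pow_center
      (fun h => hg.ba_not_center ((facts i).1 _ h)) (hpow i)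
  rw [mul_inv_eq_one] at hb2 hba2
  have hbc : ∀ s : S, s * b ^ 2 = b ^ 2 * s := fun s => by
    rw [hb2]; exact Subgroup.mem_center_iff.mp hg.pow_center s
  have hrel : b * a * b⁻¹ = a⁻¹ := by
    refine eq_inv_of_mul_eq_one_left ?_
    have h1 : b * a * b⁻¹ * a * b ^ 2 = b ^ 2 := by
      calc b * a * b⁻¹ * a * b ^ 2 = b * a * b⁻¹ * (b ^ 2 * a) := by rw [mul_assoc, hbc a]
        _ = (b * a) ^ 2 := by rw [sq, sq]; group
        _ = b ^ 2 := by rw [hba2, hb2]
    exact mul_eq_right.mp h1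
  have ha2N : a ^ (2 * N) = 1 := by
    rw [mul_comm, pow_mul]
    exact hint _ fun i => (facts i).2.2.1 _ hg.pow_center
  -- the quaternion complement
  set Q := Subgroup.zpowers b ⊔ Subgroup.zpowers a
  have hnorm : Subgroup.zpowers b ≤ Subgroup.normalizer (Subgroup.zpowers a : Set S) := by
    rw [Subgroup.zpowers_le]
    apply Subgroup.mem_normalizer_iff.mpr
    have hfwd : ∀ y ∈ Subgroup.zpowers a, b * y * b⁻¹ ∈ Subgroup.zpowers a := by
      rintro _ ⟨k, rfl⟩
      simp only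
      rw [← conj_zpow, hrel]
      exact zpow_mem (inv_mem (Subgroup.mem_zpowers a)) k
    intro y
    refine ⟨hfwd y, fun hy => ?_⟩
    have := hfwd _ hy
    have e : b * (b * y * b⁻¹) * b⁻¹ = y := by
      calc b * (b * y * b⁻¹) * b⁻¹ = b ^ 2 * y * (b ^ 2)⁻¹ := by rw [sq]; group
        _ = y := by rw [← hbc y, mul_inv_cancel_right]
    rwa [e] at this
  have hQform : ∀ s ∈ Q, ∃ i : ℕ, s = a ^ i ∨ s = b * a ^ i := by
    intro s hs
    rw [← SetLike.mem_coe, Subgroup.coe_mul_of_left_le_normalizer_right _ _ hnorm] at hs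
    obtain ⟨u, hu, v, hv, rfl⟩ := hs
    obtain ⟨k, rfl⟩ := hu
    simp only
    have hmemA : ∀ w ∈ Subgroup.zpowers a, ∃ i : ℕ, w = a ^ i := fun w hw => by
      obtain ⟨i, hi⟩ := mem_powers_iff_mem_zpowers.mpr hw
      exact ⟨i, hi.symm⟩
    have hb2A : b ^ (2 : ℤ) ∈ Subgroup.zpowers a := by
      rw [show (2 : ℤ) = ((2 : ℕ) : ℤ) from rfl, zpow_natCast, hb2]
      exact pow_mem (Subgroup.mem_zpowers a) N
    rcases Int.even_or_odd k with ⟨l, rfl⟩ | ⟨l, rfl⟩
    · obtain ⟨i, hi⟩ := hmemA _ (mul_mem (zpow_mem hb2A l) hv)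
      refine ⟨i, Or.inl ?_⟩
      rw [← hi, ← two_mul, zpow_mul]
    · obtain ⟨i, hi⟩ := hmemA _ (mul_mem (zpow_mem hb2A l) hv)
      refine ⟨i, Or.inr ?_⟩
      rw [← hi, add_comm, zpow_add, zpow_one, zpow_mul, mul_assoc]
  have haQ : a ∈ Q := Subgroup.mem_sup_right (Subgroup.mem_zpowers a)
  have hbQ : b ∈ Q := Subgroup.mem_sup_left (Subgroup.mem_zpowers b)
  have hinf : C' i0 ⊓ Q = ⊥ := by
    rw [eq_bot_iff]
    rintro s ⟨hsC, hsQ⟩
    obtain ⟨i, rfl | rfl⟩ := hQform s hsQ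
    · obtain ⟨c, hc⟩ := hg.pow_mem i hsC
      rw [Subgroup.mem_bot, hc, ← hN, pow_mul, ha2N, one_pow]
    · exact absurd hsC (hg.not_mem i)
  have hsup : C' i0 ⊔ Q = ⊤ := by
    rw [eq_top_iff]
    intro s _
    obtain ⟨i, c, hc, rfl | rfl⟩ := hg.form s
    · exact mul_mem (Subgroup.mem_sup_right (pow_mem haQ i)) (Subgroup.mem_sup_left hc)
    · exact mul_mem (Subgroup.mem_sup_right (mul_mem hbQ (pow_mem haQ i))) (Subgroup.mem_sup_left hc)
  have hcomm : ∀ c ∈ C' i0, ∀ q : S, c * q = q * c := fun c hc q =>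
    (Subgroup.mem_center_iff.mp (hCZ i0 hc) q).symm
  refine ⟨C' i0, Q, ⟨le_top, le_top, fun c hc q _ => hcomm c hc q, hinf, hsup⟩, ⟨?_, ?_⟩, ?_⟩
  · exact ⟨⟨fun x y => Subtype.ext (hcomm _ x.2 y)⟩⟩
  · intro c hc
    exact hint _ fun i => (facts i).2.2.1 c (hCZ i0 hc)
  -- `Q` is isomorphic to the quotient
  let g : ↥Q →* S ⧸ C' i0 := (QuotientGroup.mk' (C' i0)).comp Q.subtype
  have hginj : Function.Injective g := by
    rw [← MonoidHom.ker_eq_bot_iff, eq_bot_iff]
    rintro ⟨q, hq⟩ hk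
    have : q ∈ C' i0 ⊓ Q := ⟨(QuotientGroup.eq_one_iff q).mp hk, hq⟩
    rw [hinf, Subgroup.mem_bot] at this
    exact Subgroup.mem_bot.mpr (Subtype.ext this)
  have hgsurj : Function.Surjective g := by
    intro y
    obtain ⟨s, rfl⟩ := QuotientGroup.mk'_surjective (C' i0) y
    obtain ⟨i, c, hc, rfl | rfl⟩ := hg.form s
    · refine ⟨⟨a ^ i, pow_mem haQ i⟩, QuotientGroup.eq.mpr ?_⟩
      show (a ^ i)⁻¹ * (a ^ i * c) ∈ C' i0
      rw [inv_mul_cancel_left]; exact hc
    · refine ⟨⟨b * a ^ i, mul_mem hbQ (pow_mem haQ i)⟩, QuotientGroup.eq.mpr ?_⟩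
      show (b * a ^ i)⁻¹ * (b * a ^ i * c) ∈ C' i0
      rw [inv_mul_cancel_left]; exact hc
  let e := MulEquiv.ofBijective g ⟨hginj, hgsurj⟩
  obtain ⟨hnab, x₀, hx₀, hx₀u⟩ := (hCq i0).choose_spec
  refine ⟨fun h => hnab ⟨⟨fun x y => e.symm.injective (by rw [map_mul, map_mul]; exact h.is_comm.comm _ _)⟩⟩,
    e.symm x₀, (MulEquiv.orderOf_eq e.symm x₀).trans hx₀, fun y hy => e.injective ?_⟩
  rw [MulEquiv.apply_symm_apply]
  exact hx₀u _ ((MulEquiv.orderOf_eq e y).trans hy)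

end Cfsg.Agent.S3201
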