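import Cfsg.Statements.S3202
import Cfsg.Agent.InvChar.CentralQuaternion
-- import your own Cfsg.Agent.* helpers here

set_option autoImplicit false
open Cfsg

namespace Cfsg.Agent.S3202

open scoped commutatorElement

/-- Let S be a finite 2-group of 2-rank exactly 2 and D a maximal subgroup of the centre of S such that S/D is a non-abelian group with exactly one involution (a generalized quaternion group). Then S has a nontrivial cyclic characteristic subgroup. -/
theorem result {S : Type*} [Group S]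
    [Finite S] (hS : IsPGroup 2 S) (hr2 : Cfsg.PRankLE 2 2 S) (hr1 : ¬ Cfsg.PRankLE 2 1 S)
    (D : Subgroup ↥(Subgroup.center S)) (hD : IsCoatom D)
    (hq : ∃ (_ : (D.map (Subgroup.center S).subtype).Normal),
      ¬ IsMulCommutative (S ⧸ D.map (Subgroup.center S).subtype) ∧
      ∃! x : S ⧸ D.map (Subgroup.center S).subtype, orderOf x = 2) :
    ∃ C : Subgroup S, C ≠ ⊥ ∧ IsCyclic ↥C ∧ C.Characteristic := by
  clear hr1 hr2
  obtain ⟨hn, hnab, huniq⟩ := hq
  haveI := hn
  obtain ⟨-, -, -, a, b, n, hg⟩ := CfsgLib.InvChar.quaternion_quotient_facts hS D hD hnab huniq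
  have hCZ : D.map (Subgroup.center S).subtype ≤ Subgroup.center S := Subgroup.map_subtype_le D
  set d := b * a * b⁻¹ * a
  have hdc : ∀ s : S, Commute s d := Subgroup.mem_center_iff.mp (hCZ hg.rel)
  have hb2c : ∀ s : S, Commute s (b ^ 2) := by
    have hb2Z : b ^ 2 ∈ Subgroup.center S := by
      have := mul_mem (hCZ hg.sq) hg.pow_center
      rwa [inv_mul_cancel_right] at this
    exact Subgroup.mem_center_iff.mp hb2Z
  -- the commutator of `b` and `a`
  set c := b * a * b⁻¹ * a⁻¹ with hc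
  have hcd : c = d * (a ^ 2)⁻¹ := by rw [hc, sq, show d = b * a * b⁻¹ * a from rfl]; group
  have hac : a * c * a⁻¹ = c := by
    have h : Commute a c := hcd ▸ (hdc a).mul_right ((Commute.refl a).pow_right 2).inv_right
    rw [h.eq, mul_inv_cancel_right]
  have hbc : b * c * b⁻¹ = c⁻¹ := by
    refine eq_inv_of_mul_eq_one_left ?_
    calc b * c * b⁻¹ * c = b * (b * a * b⁻¹ * a⁻¹) * b⁻¹ * (b * a * b⁻¹ * a⁻¹) := by rw [hc]
      _ = b ^ 2 * a * (b ^ 2)⁻¹ * a⁻¹ := by rw [sq]; group
      _ = 1 := by rw [← (hb2c a).eq]; group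
  set K := Subgroup.zpowers c
  have hform : ∀ s : S, ∃ i : ℕ, ∃ z ∈ Subgroup.center S, s = a ^ i * z ∨ s = b * a ^ i * z := fun s => by
    obtain ⟨i, z, hz, h⟩ := hg.form s
    exact ⟨i, z, hCZ hz, h⟩
  haveI hKn : K.Normal := by
    have hb' : ∀ k ∈ K, b * k * b⁻¹ ∈ K := by
      rintro _ ⟨j, rfl⟩
      simp only
      rw [← conj_zpow, hbc]
      exact zpow_mem (inv_mem (Subgroup.mem_zpowers c)) j
    have ha' : ∀ i : ℕ, ∀ k ∈ K, a ^ i * k * (a ^ i)⁻¹ = k := by
      rintro i _ ⟨j, rfl⟩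
      have : Commute (a ^ i) c := (show Commute a c from mul_inv_eq_iff_eq_mul.mp hac).pow_left i
      simp only
      rw [(this.zpow_right j).eq, mul_inv_cancel_right]
    refine ⟨fun k hk s => ?_⟩
    obtain ⟨i, z, hz, rfl | rfl⟩ := hform s
    · have e : a ^ i * z * k * (a ^ i * z)⁻¹ = a ^ i * k * (a ^ i)⁻¹ := by
        rw [mul_assoc (a ^ i) z k, ← Subgroup.mem_center_iff.mp hz k, mul_inv_rev]; group
      rw [e, ha' i k hk]
      exact hk
    · have e : b * a ^ i * z * k * (b * a ^ i * z)⁻¹ = b * (a ^ i * k * (a ^ i)⁻¹) * b⁻¹ := by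
        rw [mul_assoc (b * a ^ i) z k, ← Subgroup.mem_center_iff.mp hz k, mul_inv_rev]; group
      rw [e, ha' i k hk]
      exact hb' k hk
  have hle : commutator S ≤ K := by
    let f := QuotientGroup.mk' K
    have hab : Commute (f b) (f a) := by
      rw [Commute, SemiconjBy, ← map_mul, ← map_mul]
      refine QuotientGroup.eq.mpr ?_
      have : (b * a)⁻¹ * (a * b) = (b * a)⁻¹ * c⁻¹ * (b * a)⁻¹⁻¹ := by rw [hc]; group
      rw [this]
      exact hKn.conj_mem _ (inv_mem (Subgroup.mem_zpowers c)) _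
    set gens : Set (S ⧸ K) := {f a, f b} ∪ f '' (Subgroup.center S : Set S)
    have hzc : ∀ z ∈ Subgroup.center S, ∀ y : S ⧸ K, Commute y (f z) := by
      intro z hz y
      obtain ⟨y, rfl⟩ := QuotientGroup.mk'_surjective K y
      exact Commute.map (show Commute y z from Subgroup.mem_center_iff.mp hz y) f
    haveI hcommK : IsMulCommutative (Subgroup.closure gens) := Subgroup.isMulCommutative_closure (by
      rintro x ((rfl | rfl) | ⟨z, hz, rfl⟩) y ((rfl | rfl) | ⟨w, hw, rfl⟩)
      exacts [rfl, hab.eq.symm, (hzc w hw _).eq, hab.eq, rfl, (hzc w hw _).eq, (hzc z hz _).eq.symm,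
        (hzc z hz _).eq.symm, (hzc w hw _).eq])
    have htop : ∀ s : S, f s ∈ Subgroup.closure gens := by
      intro s
      have haG : f a ∈ Subgroup.closure gens := Subgroup.subset_closure (by simp [gens])
      have hbG : f b ∈ Subgroup.closure gens := Subgroup.subset_closure (by simp [gens])
      obtain ⟨i, z, hz, rfl | rfl⟩ := hform s <;> simp only [map_mul, map_pow]
      · exact mul_mem (pow_mem haG i) (Subgroup.subset_closure (Or.inr ⟨z, hz, rfl⟩))
      · exact mul_mem (mul_mem hbG (pow_mem haG i)) (Subgroup.subset_closure (Or.inr ⟨z, hz, rfl⟩))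
    rw [commutator_def, Subgroup.commutator_le]
    intro x _ y _
    refine (QuotientGroup.eq_one_iff _).mp ?_
    show f ⁅x, y⁆ = 1
    rw [map_commutatorElement, commutatorElement_eq_one_iff_mul_comm]
    exact setLike_mul_comm (htop x) (htop y)
  refine ⟨commutator S, ?_, ?_, inferInstance⟩
  · intro h
    apply hnab
    refine ⟨⟨fun x y => ?_⟩⟩
    obtain ⟨x, rfl⟩ := QuotientGroup.mk'_surjective _ x
    obtain ⟨y, rfl⟩ := QuotientGroup.mk'_surjective _ y
    have hxy : ⁅x, y⁆ = 1 := Subgroup.mem_bot.mp (h ▸ Subgroup.commutator_mem_commutator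
      (Subgroup.mem_top x) (Subgroup.mem_top y) : ⁅x, y⁆ ∈ (⊥ : Subgroup S))
    rw [← map_mul, ← map_mul, commutatorElement_eq_one_iff_mul_comm.mp hxy]
  · exact Subgroup.isCyclic_of_le hle

end Cfsg.Agent.S3202
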