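import Cfsg.Statements.S3203
import Cfsg.Agent.InvChar.SylowTools
-- import your own Cfsg.Agent.* helpers here

set_option autoImplicit false
open Cfsg

namespace Cfsg.Agent.S3203

open CfsgLib.InvChar

/-- The core argument for one of the two subgroups. -/
private theorem key {G : Type*} [Group G] [Finite G] (S : Sylow 2 G) (A B : Subgroup G)
    (hAS : A ≤ (S : Subgroup G)) (hBS : B ≤ (S : Subgroup G))
    (hAn : (S : Subgroup G) ≤ Subgroup.normalizer (A : Set G))
    (hBn : (S : Subgroup G) ≤ Subgroup.normalizer (B : Set G))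
    (hBc : ∀ x ∈ B, ∀ y ∈ B, x * y = y * x)
    (hcA : ∀ s ∈ (S : Subgroup G), (∀ a ∈ A, s * a = a * s) → s ∈ A)
    (hne : A ≠ B)
    (hall : ∀ g : G, A.map (MulAut.conj g).toMonoidHom ≤ (S : Subgroup G) →
      A.map (MulAut.conj g).toMonoidHom ≤ A ∨ A.map (MulAut.conj g).toMonoidHom ≤ B)
    (hallB : ∀ g : G, B.map (MulAut.conj g).toMonoidHom ≤ (S : Subgroup G) →
      B.map (MulAut.conj g).toMonoidHom ≤ A ∨ B.map (MulAut.conj g).toMonoidHom ≤ B) :
    Cfsg.IsWeaklyClosed A (S : Subgroup G) := by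
  haveI : Fact (Nat.Prime 2) := ⟨Nat.prime_two⟩
  have hcard : ∀ (H : Subgroup G) (g : G),
      Nat.card (H.map (MulAut.conj g).toMonoidHom : Subgroup G) = Nat.card H := fun H g =>
    (Nat.card_congr (Subgroup.equivMapOfInjective _ _ (MulAut.conj g).injective).toEquiv).symm
  refine ⟨hAS, fun g hg => ?_⟩
  rcases hall g hg with h | h
  · exact Subgroup.eq_of_le_of_card_ge h (hcard A g).ge
  exfalso
  have hle1 : Nat.card A ≤ Nat.card B := by
    rw [← hcard A g]
    exact Subgroup.card_le_of_le h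
  -- `P` is the inverse image of `B`
  set P := B.map (MulAut.conj g⁻¹).toMonoidHom with hP
  have hPc : ∀ x ∈ P, ∀ a ∈ A, x * a = a * x := by
    rintro _ ⟨b, hb, rfl⟩ a ha
    have hbc := hBc b hb _ (h ⟨a, ha, rfl⟩)
    apply (MulAut.conj g).injective
    simpa [mul_assoc] using hbc
  have hPN : P ≤ Subgroup.normalizer (A : Set G) := fun x hx =>
    Subgroup.centralizer_le_normalizer _
      (Subgroup.mem_centralizer_iff.mpr fun a ha => (hPc x hx a ha).symm)
  obtain ⟨n, hn, hnle⟩ := exists_conj_le_sylow S hAn hPN ((S.isPGroup'.to_le hBS).map _)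
  have hPA : P.map (MulAut.conj n).toMonoidHom ≤ A := by
    intro y hy
    refine hcA y (hnle hy) fun a ha => ?_
    obtain ⟨x, hx, rfl⟩ := hy
    rw [← map_conj_eq_of_mem hn] at ha
    obtain ⟨a', ha', rfl⟩ := ha
    rw [← map_mul, hPc x hx a' ha', map_mul]
  have hle2 : Nat.card B ≤ Nat.card A := by
    rw [← hcard B g⁻¹, ← hP, ← hcard P n]
    exact Subgroup.card_le_of_le hPA
  have hgAB : A.map (MulAut.conj g).toMonoidHom = B :=
    Subgroup.eq_of_le_of_card_ge h (by rw [hcard]; exact hle2)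
  obtain ⟨m, hm, hmAB⟩ := exists_conj_normalizer S hAn hBn hgAB
  have hmBA : B.map (MulAut.conj m).toMonoidHom = A := by
    have hmS : B.map (MulAut.conj m).toMonoidHom ≤ (S : Subgroup G) :=
      (Subgroup.map_mono hBS).trans (map_conj_eq_of_mem hm).le
    rcases hallB m hmS with h' | h'
    · exact Subgroup.eq_of_le_of_card_ge h' (by rw [hcard]; exact hle1)
    · exfalso
      have e := Subgroup.eq_of_le_of_card_ge h' (hcard B m).ge
      exact hne (Subgroup.map_injective (MulAut.conj m).injective (hmAB.trans e.symm))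
  -- even powers of `m` fix `A`, odd powers swap
  have hpow : ∀ k : ℕ, A.map (MulAut.conj (m ^ k)).toMonoidHom = if Even k then A else B := by
    intro k
    induction k with
    | zero =>
      rw [pow_zero, if_pos Even.zero]
      exact map_conj_eq_of_mem (Subgroup.one_mem _)
    | succ k ih =>
      rw [pow_succ', ← map_conj_map_conj, ih]
      by_cases hk : Even k
      · rw [if_pos hk, if_neg (by simp [Nat.even_add_one, hk]), hmAB]
      · rw [if_neg hk, if_pos (by simp [Nat.even_add_one, hk]), hmBA]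
  set N := Subgroup.normalizer ((S : Subgroup G) : Set G)
  haveI : ((S : Subgroup G).subgroupOf N).Normal :=
    Subgroup.normal_subgroupOf_of_le_normalizer le_rfl
  set k := ((S : Subgroup G).subgroupOf N).index with hkdef
  have hodd : ¬ Even k := by
    rw [even_iff_two_dvd]
    intro h2
    exact Sylow.not_dvd_index S
      (h2.trans (Subgroup.relIndex_dvd_index_of_le Subgroup.le_normalizer))
  have hmem : m ^ k ∈ (S : Subgroup G) := by
    have := Subgroup.pow_index_mem ((S : Subgroup G).subgroupOf N) ⟨m, hm⟩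
    simpa [Subgroup.mem_subgroupOf] using this
  have := hpow k
  rw [if_neg hodd, map_conj_eq_of_mem (hAn hmem)] at this
  exact hne this

/-- Let S be a Sylow 2-subgroup of a finite group G having exactly two subgroups A ≠ B that are maximal among its elementary abelian subgroups, with S = AB. Then A and B are each weakly closed in S with respect to G, and the normalizer of S normalizes both A and B. -/
theorem result {G : Type*} [Group G] [Finite G] (S : Sylow 2 G)
    (A B : Subgroup ↥(S : Subgroup G)) (hAB : A ≠ B)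
    (hA : Cfsg.IsElementaryAbelian 2 A ∧ ∀ C : Subgroup ↥(S : Subgroup G), Cfsg.IsElementaryAbelian 2 C → A ≤ C → C = A)
    (hB : Cfsg.IsElementaryAbelian 2 B ∧ ∀ C : Subgroup ↥(S : Subgroup G), Cfsg.IsElementaryAbelian 2 C → B ≤ C → C = B)
    (honly : ∀ C : Subgroup ↥(S : Subgroup G), Cfsg.IsElementaryAbelian 2 C →
      (∀ D : Subgroup ↥(S : Subgroup G), Cfsg.IsElementaryAbelian 2 D → C ≤ D → D = C) → C = A ∨ C = B)
    (hprod : ∀ s : ↥(S : Subgroup G), ∃ a ∈ A, ∃ b ∈ B, a * b = s)
    (A' B' : Subgroup G) (hA' : A' = A.map (S : Subgroup G).subtype) (hB' : B' = B.map (S : Subgroup G).subtype) :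
    Cfsg.IsWeaklyClosed A' (S : Subgroup G) ∧ Cfsg.IsWeaklyClosed B' (S : Subgroup G) ∧
      Subgroup.normalizer ((S : Subgroup G) : Set G) ≤ Subgroup.normalizer (A' : Set G) ⊓ Subgroup.normalizer (B' : Set G) := by
  haveI : Fact (Nat.Prime 2) := ⟨Nat.prime_two⟩
  subst hA' hB'
  -- maximal elementary abelian overgroups
  have hmax : ∀ C : Subgroup ↥(S : Subgroup G), Cfsg.IsElementaryAbelian 2 C → C ≤ A ∨ C ≤ B := by
    intro C hC
    obtain ⟨D, hCD, hD⟩ := Set.Finite.exists_le_maximal
      (Set.toFinite {E : Subgroup ↥(S : Subgroup G) | Cfsg.IsElementaryAbelian 2 E}) hC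
    rcases honly D hD.prop (fun E hE hDE => le_antisymm (hD.le_of_ge hE hDE) hDE) with h | h
    · exact Or.inl (hCD.trans h.le)
    · exact Or.inr (hCD.trans h.le)
  have comm : ∀ C : Subgroup ↥(S : Subgroup G), Cfsg.IsElementaryAbelian 2 C →
      ∀ x ∈ C.map (S : Subgroup G).subtype, ∀ y ∈ C.map (S : Subgroup G).subtype, x * y = y * x := by
    rintro C hC _ ⟨x, hx, rfl⟩ _ ⟨y, hy, rfl⟩
    haveI := hC.1
    rw [← map_mul, ← map_mul]
    exact congrArg (S : Subgroup G).subtype (setLike_mul_comm hx hy)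
  have main : ∀ (A B : Subgroup ↥(S : Subgroup G)), A ≠ B → Cfsg.IsElementaryAbelian 2 A →
      (∀ C, Cfsg.IsElementaryAbelian 2 C → A ≤ C → C = A) → Cfsg.IsElementaryAbelian 2 B →
      (∀ C, Cfsg.IsElementaryAbelian 2 C → B ≤ C → C = B) →
      (∀ C : Subgroup ↥(S : Subgroup G), Cfsg.IsElementaryAbelian 2 C → C ≤ A ∨ C ≤ B) →
      (∀ s : ↥(S : Subgroup G), ∃ a ∈ A, ∃ b ∈ B, a * b = s) →
      (∀ s : ↥(S : Subgroup G), A.map (MulAut.conj s).toMonoidHom = A) ∧ ∀ s : ↥(S : Subgroup G), (∀ a ∈ A, s * a = a * s) → s ∈ A := by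
    intro A B hne hA hAm hB hBm hmax hprod
    have hconj : ∀ (C : Subgroup ↥(S : Subgroup G)) (s : ↥(S : Subgroup G)), Cfsg.IsElementaryAbelian 2 C →
        Cfsg.IsElementaryAbelian 2 (C.map (MulAut.conj s).toMonoidHom) := by
      intro C s hC
      refine ⟨⟨⟨?_⟩⟩, ?_⟩
      · rintro ⟨_, x, hx, rfl⟩ ⟨_, y, hy, rfl⟩
        haveI := hC.1
        apply Subtype.ext
        simp only [Subgroup.coe_mul]
        rw [← map_mul, ← map_mul, setLike_mul_comm hx hy]
      · rintro _ ⟨x, hx, rfl⟩
        rw [← map_pow, hC.2 x hx, map_one]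
    have hbnorm : ∀ b ∈ B, A.map (MulAut.conj b).toMonoidHom = A := by
      intro b hb
      have hbB : B.map (MulAut.conj b).toMonoidHom = B :=
        map_conj_eq_of_mem (Subgroup.le_normalizer hb)
      rcases hmax _ (hconj A b hA) with h | h
      · exact Subgroup.eq_of_le_of_card_ge h
          (Nat.card_congr (Subgroup.equivMapOfInjective _ _ (MulAut.conj b).injective).toEquiv).le
      · exfalso
        rw [← hbB, Subgroup.map_le_map_iff_of_injective (MulAut.conj b).injective] at h
        exact hne (hAm B hB h).symm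
    refine ⟨fun s => ?_, fun s hs => ?_⟩
    · obtain ⟨a, ha, b, hb, rfl⟩ := hprod s
      rw [← map_conj_map_conj, hbnorm b hb, map_conj_eq_of_mem (Subgroup.le_normalizer ha)]
    · obtain ⟨a, ha, b, hb, rfl⟩ := hprod s
      haveI := hA.1
      have hba : ∀ a' ∈ A, b * a' = a' * b := by
        intro a' ha'
        have h1 := hs a' ha'
        apply mul_left_cancel (a := a)
        rw [← mul_assoc, h1, ← mul_assoc, ← mul_assoc, setLike_mul_comm ha' ha]
      have hb2 : b ^ 2 = 1 := hB.2 b hb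
      set E := Subgroup.closure ((A : Set ↥(S : Subgroup G)) ∪ {b})
      have hcommE : ∀ x ∈ (A : Set ↥(S : Subgroup G)) ∪ {b}, ∀ y ∈ (A : Set ↥(S : Subgroup G)) ∪ {b}, x * y = y * x := by
        rintro x (hx | hx) y (hy | hy)
        · exact setLike_mul_comm hx hy
        · rw [Set.mem_singleton_iff.mp hy]; exact (hba x hx).symm
        · rw [Set.mem_singleton_iff.mp hx]; exact hba y hy
        · rw [Set.mem_singleton_iff.mp hx, Set.mem_singleton_iff.mp hy]
      have hE : IsMulCommutative ↥E := Subgroup.isMulCommutative_closure hcommE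
      have hE2 : ∀ x ∈ E, x ^ 2 = 1 := by
        intro x hx
        refine Subgroup.closure_induction (p := fun x _ => x ^ 2 = 1) ?_ ?_ ?_ ?_ hx
        · rintro x (hx | hx)
          · exact hA.2 x hx
          · rw [Set.mem_singleton_iff.mp hx]; exact hb2
        · exact one_pow _
        · intro x y hx hy h1 h2
          rw [Commute.mul_pow (setLike_mul_comm hx hy), h1, h2, one_mul]
        · intro x _ h1
          rw [inv_pow, h1, inv_one]
      have hEA := hAm E ⟨hE, hE2⟩ (fun x hx => Subgroup.subset_closure (Or.inl hx))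
      exact mul_mem ha (hEA ▸ Subgroup.subset_closure (Or.inr rfl))
  have hprod' : ∀ s : ↥(S : Subgroup G), ∃ b ∈ B, ∃ a ∈ A, b * a = s := by
    intro s
    obtain ⟨a, ha, b, hb, h⟩ := hprod s⁻¹
    exact ⟨b⁻¹, inv_mem hb, a⁻¹, inv_mem ha, by rw [← mul_inv_rev, h, inv_inv]⟩
  obtain ⟨hAn, hAc⟩ := main A B hAB hA.1 hA.2 hB.1 hB.2 hmax hprod
  obtain ⟨hBn, hBc⟩ := main B A hAB.symm hB.1 hB.2 hA.1 hA.2 (fun C hC => (hmax C hC).symm) hprod'
  have norm : ∀ C : Subgroup ↥(S : Subgroup G), (∀ s : ↥(S : Subgroup G), C.map (MulAut.conj s).toMonoidHom = C) →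
      (S : Subgroup G) ≤ Subgroup.normalizer ((C.map (S : Subgroup G).subtype : Subgroup G) : Set G) := by
    intro C hC s hs
    apply mem_normalizer_of_map_conj_eq
    conv_rhs => rw [← hC ⟨s, hs⟩, Subgroup.map_map]
    rw [Subgroup.map_map]
    rfl
  have cent : ∀ C : Subgroup ↥(S : Subgroup G), (∀ s : ↥(S : Subgroup G), (∀ a ∈ C, s * a = a * s) → s ∈ C) →
      ∀ s ∈ (S : Subgroup G), (∀ a ∈ C.map (S : Subgroup G).subtype, s * a = a * s) → s ∈ C.map (S : Subgroup G).subtype := by
    intro C hC s hs h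
    exact ⟨⟨s, hs⟩, hC _ fun a ha => Subtype.ext (h a ⟨a, ha, rfl⟩), rfl⟩
  have hallG : ∀ C : Subgroup ↥(S : Subgroup G), Cfsg.IsElementaryAbelian 2 C → ∀ g : G,
      (C.map (S : Subgroup G).subtype).map (MulAut.conj g).toMonoidHom ≤ (S : Subgroup G) →
      (C.map (S : Subgroup G).subtype).map (MulAut.conj g).toMonoidHom ≤ A.map (S : Subgroup G).subtype ∨
      (C.map (S : Subgroup G).subtype).map (MulAut.conj g).toMonoidHom ≤ B.map (S : Subgroup G).subtype := by
    intro C hC g hg
    set D := ((C.map (S : Subgroup G).subtype).map (MulAut.conj g).toMonoidHom).subgroupOf (S : Subgroup G) with hD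
    have hDe : Cfsg.IsElementaryAbelian 2 D := by
      refine ⟨⟨⟨?_⟩⟩, ?_⟩
      · rintro ⟨x, hx⟩ ⟨y, hy⟩
        obtain ⟨x', hx', hxe⟩ := Subgroup.mem_subgroupOf.mp hx
        obtain ⟨y', hy', hye⟩ := Subgroup.mem_subgroupOf.mp hy
        apply Subtype.ext
        apply Subtype.ext
        simp only [Subgroup.coe_mul]
        rw [← hxe, ← hye, ← map_mul, ← map_mul, comm C hC x' hx' y' hy']
      · intro x hx
        obtain ⟨_, ⟨c, hc, rfl⟩, hxe⟩ := Subgroup.mem_subgroupOf.mp hx
        apply Subtype.ext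
        rw [Subgroup.coe_pow, ← hxe, ← map_pow, ← map_pow, hC.2 c hc, map_one, map_one]
        rfl
    rw [← Subgroup.map_subgroupOf_eq_of_le hg]
    exact (hmax D hDe).imp (fun h => Subgroup.map_mono h) (fun h => Subgroup.map_mono h)
  have hne : A.map (S : Subgroup G).subtype ≠ B.map (S : Subgroup G).subtype := fun h =>
    hAB (Subgroup.map_injective (S : Subgroup G).subtype_injective h)
  have hwA := key S (A.map (S : Subgroup G).subtype) (B.map (S : Subgroup G).subtype) (Subgroup.map_subtype_le A)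
    (Subgroup.map_subtype_le B) (norm A hAn) (norm B hBn) (comm B hB.1) (cent A hAc) hne
    (hallG A hA.1) (hallG B hB.1)
  have hwB := key S (B.map (S : Subgroup G).subtype) (A.map (S : Subgroup G).subtype) (Subgroup.map_subtype_le B)
    (Subgroup.map_subtype_le A) (norm B hBn) (norm A hAn) (comm A hA.1) (cent B hBc) hne.symm
    (fun g hg => (hallG B hB.1 g hg).symm) (fun g hg => (hallG A hA.1 g hg).symm)
  refine ⟨hwA, hwB, fun n hn => ⟨?_, ?_⟩⟩
  · exact mem_normalizer_of_map_conj_eq
      (hwA.2 n ((Subgroup.map_mono hwA.1).trans (map_conj_eq_of_mem hn).le))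
  · exact mem_normalizer_of_map_conj_eq
      (hwB.2 n ((Subgroup.map_mono hwB.1).trans (map_conj_eq_of_mem hn).le))

end Cfsg.Agent.S3203
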