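import Cfsg.Statements.S3204
import Cfsg.Agent.RudNormal.Main

set_option autoImplicit false
open Cfsg

namespace Cfsg.Agent.S3204

/-- Let G be a finite group whose Sylow 2-subgroup T has order at least 2^14 with the fourth term of its upper central series of order 16; let W be the centralizer in T of the third term, and suppose the Frattini subgroup of W has order at most 8 and lies in every subgroup of W of index at most 16. Suppose G has no subgroup of index 2, and write W′ for the derived subgroup of W. Then the normalizer of W′ is the product of the normalizer of W with the largest normal odd-order subgroup of the normalizer of W′, and the normalizer N of W has N/(O(N)W) isomorphic to GL(3, 2). -/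
theorem result {G : Type*} [Group G] [Finite G]
    (T : Sylow 2 G) (ha : 2 ^ 14 ≤ Nat.card ↥(T : Subgroup G))
    (hb : Nat.card ↥(Subgroup.upperCentralSeries ↥(T : Subgroup G) 4) = 16)
    (W : Subgroup ↥(T : Subgroup G))
    (hW : W = Subgroup.centralizer ((Subgroup.upperCentralSeries ↥(T : Subgroup G) 3 : Subgroup ↥(T : Subgroup G)) : Set ↥(T : Subgroup G)))
    (hc : Nat.card ↥(frattini ↥W) ≤ 8)
    (hd : ∀ U : Subgroup ↥W, U.index ≤ 16 → frattini ↥W ≤ U)
    (h2 : ∀ H : Subgroup G, H.index ≠ 2)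
    (WG D N M : Subgroup G) (hWG : WG = W.map (T : Subgroup G).subtype)
    (hDW : D = ((commutator ↥W).map W.subtype).map (T : Subgroup G).subtype)
    (hN : N = Subgroup.normalizer (WG : Set G)) (hM : M = Subgroup.normalizer (D : Set G)) :
    (N.subgroupOf M ⊔ Cfsg.oddCore ↥M = ⊤) ∧
      ∃ (_ : (WG.subgroupOf N ⊔ Cfsg.oddCore ↥N).Normal),
        Nonempty (↥N ⧸ (WG.subgroupOf N ⊔ Cfsg.oddCore ↥N) ≃* GL (Fin 3) (ZMod 2)) := by
  haveI : Fact (Nat.Prime 2) := ⟨Nat.prime_two⟩
  have h : CfsgLib.Rudvalis.Rud W := ⟨T.isPGroup', ha, hb, hW, hc, hd⟩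
  have hD : D = CfsgLib.RudNormal.zg W := by
    rw [hDW, CfsgLib.RudNormal.zg, CfsgLib.Rudvalis.phi, h.frattini_eq_commutator]
  subst hWG hN hM
  subst hD
  obtain ⟨φ, hφ, hker, hM'⟩ := CfsgLib.RudNormal.main h h2
  refine ⟨hM' _ rfl, ?_⟩
  have hn : ((CfsgLib.RudNormal.wg W).subgroupOf (CfsgLib.RudNormal.nW W) ⊔
      Cfsg.oddCore ↥(CfsgLib.RudNormal.nW W)).Normal := hker ▸ φ.normal_ker
  exact ⟨hn, ⟨(QuotientGroup.quotientMulEquivOfEq hker.symm).trans
    (QuotientGroup.quotientKerEquivOfSurjective φ hφ)⟩⟩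

end Cfsg.Agent.S3204
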