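import Cfsg.Statements.S3206
import Cfsg.Agent.InvChar.AbelianSylowAut
import Cfsg.Agent.InvChar.AbelianSylowCover
import Cfsg.Agent.Classical.SylowTwoSL
import Cfsg.Agent.Classical.Transvections

set_option autoImplicit false
open Cfsg
open scoped commutatorElement

namespace Cfsg.Agent.S3206

open Subgroup Matrix in
/-- If a Sylow 2-subgroup of `PSL₂(q)`, `q` odd, is abelian then `q ≡ ±3 (mod 8)`. -/
theorem card_mod_eight {F : Type*} [Field F] [Fintype F] (hodd : Odd (Fintype.card F))
    (P : Sylow 2 (ProjectiveSpecialLinearGroup (Fin 2) F))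
    (hab : ∀ x ∈ (P : Subgroup (ProjectiveSpecialLinearGroup (Fin 2) F)),
      ∀ y ∈ (P : Subgroup (ProjectiveSpecialLinearGroup (Fin 2) F)), x * y = y * x) :
    Fintype.card F % 8 = 3 ∨ Fintype.card F % 8 = 5 := by
  classical
  haveI : Fact (Nat.Prime 2) := ⟨Nat.prime_two⟩
  obtain ⟨S, rfl⟩ := Sylow.mapSurjective_surjective
    (QuotientGroup.mk'_surjective (center (CfsgLib.SL2C.SL F))) 2 P
  obtain ⟨T, y, w, h⟩ := CfsgLib.SL2C.exists_twoShape hodd S
  have hc := hab (QuotientGroup.mk' _ w) ⟨w, h.wS, rfl⟩ (QuotientGroup.mk' _ y) ⟨y, h.yS, rfl⟩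
  have hinv : w * y * w⁻¹ = y⁻¹ := (h.torus.normalizer_dichotomy h.wN).resolve_left h.wT y h.yT
  have h1 : (y * y : CfsgLib.SL2C.SL F) ∈ center (CfsgLib.SL2C.SL F) := by
    have h2 : (w * y * w⁻¹ * y⁻¹ : CfsgLib.SL2C.SL F) ∈ center (CfsgLib.SL2C.SL F) := by
      rw [← QuotientGroup.eq_one_iff]
      show QuotientGroup.mk' _ (w * y * w⁻¹ * y⁻¹) = 1
      rw [map_mul, map_mul, map_mul, map_inv, map_inv, hc]
      group
    rw [hinv, ← _root_.mul_inv_rev] at h2
    exact inv_mem_iff.1 h2
  have h4 : y ^ 4 = 1 := by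
    rw [show 4 = 2 * 2 from rfl, pow_mul, pow_two y, pow_two]
    exact CfsgLib.SL2C.mul_self_eq_one_of_center h1
  have h8 : ¬ 8 ∣ orderOf y := fun e => by
    have := Nat.le_of_dvd (by norm_num) (e.trans (orderOf_dvd_of_pow_eq_one h4))
    omega
  rw [h.eight] at h8
  have := Nat.odd_iff.1 hodd
  omega

/-- A group with an involution has even order. -/
theorem two_dvd_of_orderOf {H : Type*} [Group H] [Finite H] {x : H} (hx : orderOf x = 2) :
    2 ∣ Nat.card H := hx ▸ orderOf_dvd_natCard x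

/-- Let G be a non-abelian finite simple group with abelian Sylow 2-subgroups, and let t be an involution of G whose centralizer is a maximal subgroup of G and is the direct product of the subgroup generated by t with a subgroup E having a normal subgroup isomorphic to PSL(2, q), q odd and greater than 3, with trivial centralizer in E. Then every finite perfect group having a central 2-subgroup with quotient isomorphic to G has that central subgroup trivial (G has no nontrivial perfect central extension by a 2-group), and every automorphism of G of 2-power order that fixes every element of some Sylow 2-subgroup of G is inner. -/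
theorem result {G : Type*} [Group G] [Finite G] [IsSimpleGroup G]
    (hG : ¬ IsMulCommutative G) (hab : ∀ S : Sylow 2 G, IsMulCommutative ↥(S : Subgroup G))
    (t : G) (ht : orderOf t = 2) (hmax : IsCoatom (Subgroup.centralizer ({t} : Set G)))
    (E : Subgroup G) (hE : Cfsg.IsInternalDirectProduct (Subgroup.zpowers t) E (Subgroup.centralizer ({t} : Set G)))
    {F : Type*} [Field F] [Fintype F] (hFo : Odd (Fintype.card F)) (hF3 : 3 < Fintype.card F)
    (N : Subgroup ↥E) [N.Normal] (hN : Nonempty (↥N ≃* Matrix.ProjectiveSpecialLinearGroup (Fin 2) F))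
    (hNc : Subgroup.centralizer (N : Set ↥E) = ⊥) :
    (∀ (L : Type) (_ : Group L) (_ : Finite L) (Z : Subgroup L) (_ : Z.Normal), commutator L = ⊤ → Z ≤ Subgroup.center L →
        IsPGroup 2 ↥Z → Nonempty (L ⧸ Z ≃* G) → Z = ⊥) ∧
    (∀ (φ : G ≃* G) (k : ℕ), φ ^ (2 ^ k) = 1 → (∃ S : Sylow 2 G, ∀ s ∈ (S : Subgroup G), φ s = s) →
        ∃ g : G, ∀ x : G, φ x = g * x * g⁻¹) := by
  classical
  haveI : Fact (Nat.Prime 2) := ⟨Nat.prime_two⟩
  obtain ⟨htC, hEC, hcE, hEt, hsup⟩ := hE
  obtain ⟨e⟩ := hN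
  -- the four-group
  haveI : IsSimpleGroup (Matrix.ProjectiveSpecialLinearGroup (Fin 2) F) := by
    refine CfsgLib.Linear.isSimpleGroup_PSL (Or.inr ?_)
    by_contra hno
    push Not at hno
    have hsub : (Finset.univ : Finset F) ⊆ {0, 1, -1} := fun x _ => by
      rcases eq_or_ne x 0 with h | h
      · simp [h]
      · rcases sq_eq_one_iff.1 (hno x h) with h' | h' <;> simp [h']
    have := Finset.card_le_card hsub
    have h3 : ({0, 1, -1} : Finset F).card ≤ 3 := Finset.card_le_three
    rw [Finset.card_univ] at this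
    omega
  haveI : IsSimpleGroup ↥N := MulEquiv.isSimpleGroup e
  obtain ⟨V₀⟩ : Nonempty (Sylow 2 ↥N) := inferInstance
  set j : ↥N →* G := E.subtype.comp N.subtype with hj
  have hjinj : Function.Injective j := E.subtype_injective.comp N.subtype_injective
  have hjE : ∀ v : ↥N, j v ∈ E := fun v => (v : ↥E).2
  have hjt : ∀ v : ↥N, j v * t = t * j v := fun v => (hcE t (Subgroup.mem_zpowers t) _ (hjE v)).symm
  set V : Subgroup G := (V₀ : Subgroup ↥N).map j with hVdef
  have hVt : Subgroup.zpowers t ≤ Subgroup.normalizer (V : Set G) := Subgroup.zpowers_le.2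
    (Subgroup.mem_normalizer_iff.2 fun y => by
      constructor
      · rintro ⟨v, hv, rfl⟩
        rw [← hjt, mul_inv_cancel_right]
        exact ⟨v, hv, rfl⟩
      · rintro ⟨v, hv, hvy⟩
        have h1 : y = t⁻¹ * j v * t := by rw [hvy]; group
        rw [h1, mul_assoc, hjt, inv_mul_cancel_left]
        exact ⟨v, hv, rfl⟩)
  have hVp : IsPGroup 2 V := V₀.isPGroup'.map _
  have hzp : IsPGroup 2 (Subgroup.zpowers t) := IsPGroup.of_card (n := 1) (by rw [Nat.card_zpowers, ht, pow_one])
  obtain ⟨S, hTS⟩ := (hzp.to_sup_of_normal_right' hVp hVt).exists_le_sylow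
  have htS : t ∈ (S : Subgroup G) := hTS (Subgroup.mem_sup_left (Subgroup.mem_zpowers t))
  have hVS : V ≤ (S : Subgroup G) := le_sup_right.trans hTS
  have hScomm : ∀ {x y : G}, x ∈ (S : Subgroup G) → y ∈ (S : Subgroup G) → x * y = y * x := fun hx hy => by
    haveI := hab S
    exact congrArg Subtype.val (mul_comm' (⟨_, hx⟩ : ↥(S : Subgroup G)) ⟨_, hy⟩)
  have hV₀ab : IsMulCommutative ↥(V₀ : Subgroup ↥N) := ⟨⟨fun a b => Subtype.ext (hjinj (by
    simp only [Subgroup.coe_mul, map_mul]
    exact hScomm (hVS ⟨_, a.2, rfl⟩) (hVS ⟨_, b.2, rfl⟩)))⟩⟩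
  let P : Sylow 2 (Matrix.ProjectiveSpecialLinearGroup (Fin 2) F) :=
    V₀.mapSurjective (f := e.toMonoidHom) e.surjective
  have hq := card_mod_eight hFo P (by
    rintro x ⟨a, ha, rfl⟩ y ⟨b, hb, rfl⟩
    rw [← map_mul, ← map_mul]
    haveI := hV₀ab
    exact congrArg _ (congrArg Subtype.val (mul_comm' (⟨a, ha⟩ : ↥(V₀ : Subgroup ↥N)) ⟨b, hb⟩)))
  have hK := CfsgLib.Linear.SylowTwoSL.isKleinFour_sylow_psl rfl hq P
  let eP : ↥(V₀ : Subgroup ↥N) ≃* ↥(P : Subgroup (Matrix.ProjectiveSpecialLinearGroup (Fin 2) F)) :=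
    (V₀ : Subgroup ↥N).equivMapOfInjective e.toMonoidHom e.injective
  let eV : ↥(V₀ : Subgroup ↥N) ≃* ↥V := (V₀ : Subgroup ↥N).equivMapOfInjective j hjinj
  have hVcard : Nat.card ↥V = 4 := by
    rw [← Nat.card_congr eV.toEquiv, Nat.card_congr eP.toEquiv]
    exact hK.card_four
  have hV2 : ∀ v ∈ V, v * v = 1 := fun v hv => by
    have h0 := Monoid.pow_exponent_eq_one (eP (eV.symm ⟨v, hv⟩))
    have hx2 := hK.exponent_two
    have h1 : (eP (eV.symm ⟨v, hv⟩)) ^ 2 = 1 := by
      obtain ⟨k, hk⟩ : ∃ k, k = Monoid.exponent ↥(P : Subgroup (Matrix.ProjectiveSpecialLinearGroup (Fin 2) F)) := ⟨_, rfl⟩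
      rw [← hk] at h0 hx2
      subst hx2
      exact h0
    rw [← map_pow, ← map_pow, eP.map_eq_one_iff, eV.symm.map_eq_one_iff, pow_two] at h1
    exact congrArg Subtype.val h1
  have hN2 : 2 ∣ Nat.card ↥N := by
    refine Dvd.dvd.trans ?_ (V₀ : Subgroup ↥N).card_subgroup_dvd_card
    rw [Nat.card_congr eV.toEquiv, hVcard]
    norm_num
  have hON := CfsgLib.AbelianSylowAut.no_odd_normal_of_simple hN2
  -- `S = ⟨t⟩ × V`
  have hSV : (S : Subgroup G) ≤ Subgroup.zpowers t ⊔ V := by
    intro x hx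
    have hxC : x ∈ Subgroup.centralizer ({t} : Set G) := Subgroup.mem_centralizer_singleton_iff.2 (hScomm hx htS)
    have htE : Subgroup.zpowers t ≤ Subgroup.normalizer (E : Set G) :=
      Subgroup.zpowers_le.2 (Subgroup.mem_normalizer_iff.2 fun y => by
        constructor
        · intro hy
          rwa [hcE t (Subgroup.mem_zpowers t) y hy, mul_inv_cancel_right]
        · intro hy
          have h1 := hcE t (Subgroup.mem_zpowers t) _ hy
          have h2 : t * y * t⁻¹ = y := by
            have := congrArg (fun g => t⁻¹ * g) h1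
            simp only [inv_mul_cancel_left] at this
            rw [this]; group
          rwa [h2] at hy)
    rw [← hsup] at hxC
    obtain ⟨z, hz, a, ha, hza⟩ := (CfsgLib.Solvable.mem_sup_of_le_normalizer htE).1 hxC
    have haS : a ∈ (S : Subgroup G) := by
      rw [show a = z⁻¹ * x by rw [← hza, inv_mul_cancel_left]]
      exact (S : Subgroup G).mul_mem ((S : Subgroup G).inv_mem ((Subgroup.zpowers_le.2 htS) hz)) hx
    rw [← hza]
    refine mul_mem (Subgroup.mem_sup_left hz) (Subgroup.mem_sup_right ?_)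
    -- `a` induces an inner automorphism of `N`
    obtain ⟨m, hm⟩ := S.isPGroup' ⟨a, haS⟩
    have hm' : (⟨a, ha⟩ : ↥E) ^ 2 ^ m = 1 := by
      have h' : a ^ 2 ^ m = 1 := congrArg Subtype.val hm
      exact Subtype.ext h'
    obtain ⟨s, hs, hsa⟩ := CfsgLib.AbelianSylowAut.exists_conj_of_fixes hON V₀ hV₀ab
      (MulAut.conjNormal (⟨a, ha⟩ : ↥E)) (k := m) (by rw [← map_pow, hm', map_one]) (fun v hv => by
        refine hjinj ?_
        show a * j v * a⁻¹ = j v
        rw [hScomm haS (hVS ⟨v, hv, rfl⟩), mul_inv_cancel_right])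
    have hcen : (s : ↥E)⁻¹ * ⟨a, ha⟩ ∈ Subgroup.centralizer (N : Set ↥E) := by
      refine Subgroup.mem_centralizer_iff.2 fun y hy => ?_
      have h1 := congrArg Subtype.val (hsa ⟨y, hy⟩)
      rw [MulAut.conjNormal_apply] at h1
      simp only [Subgroup.coe_mul, Subgroup.coe_inv] at h1
      calc y * ((s : ↥E)⁻¹ * ⟨a, ha⟩) = (s : ↥E)⁻¹ * ((s : ↥E) * y * (s : ↥E)⁻¹) * ⟨a, ha⟩ := by group
        _ = (s : ↥E)⁻¹ * (⟨a, ha⟩ * y * (⟨a, ha⟩ : ↥E)⁻¹) * ⟨a, ha⟩ := by rw [h1]
        _ = _ := by group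
    rw [hNc, Subgroup.mem_bot, inv_mul_eq_one] at hcen
    exact ⟨s, hs, congrArg Subtype.val hcen⟩
  -- every element of `V` is a product of commutators from the normalizer in `N`
  have hgen : V ≤ Subgroup.closure {x : G | ∃ v ∈ (S : Subgroup G), ∃ n : G,
      n * t = t * n ∧ n * v * n⁻¹ ∈ (S : Subgroup G) ∧ x = v * (n * v * n⁻¹)⁻¹} := by
    have hcommN : commutator ↥N = ⊤ := by
      rcases IsSimpleGroup.eq_bot_or_eq_top_of_normal (commutator ↥N) inferInstance with h | h
      · exfalso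
        have hcen : Subgroup.center ↥N = ⊤ := by
          rw [eq_top_iff]
          intro x _
          refine Subgroup.mem_center_iff.2 fun y => ?_
          have h1 : ⁅y, x⁆ ∈ commutator ↥N := Subgroup.commutator_mem_commutator (Subgroup.mem_top _) (Subgroup.mem_top _)
          rw [h, Subgroup.mem_bot, commutatorElement_eq_one_iff_mul_comm] at h1
          exact h1
        haveI : IsMulCommutative ↥N := ⟨⟨fun x y => Subgroup.mem_center_iff.1 (hcen ▸ Subgroup.mem_top y : y ∈ Subgroup.center ↥N) x⟩⟩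
        letI : CommGroup ↥N := { (inferInstance : Group ↥N) with mul_comm := fun x y => mul_comm' x y }
        have hp := IsSimpleGroup.prime_card (α := ↥N)
        have h4 : 4 ∣ Nat.card ↥N := by
          rw [← hVcard, ← Nat.card_congr eV.toEquiv]
          exact (V₀ : Subgroup ↥N).card_subgroup_dvd_card
        rcases hp.eq_one_or_self_of_dvd 4 h4 with h' | h'
        · omega
        · rw [← h'] at hp
          norm_num at hp
      · exact h
    have hfoc : (V₀ : Subgroup ↥N) ≤ ⁅(V₀ : Subgroup ↥N), Subgroup.normalizer ((V₀ : Subgroup ↥N) : Set ↥N)⁆ := by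
      rw [← CfsgLib.TransferBasic.focal_eq_commutator hV₀ab, ← Subgroup.commutator_inf_eq_focalSubgroup, hcommN, top_inf_eq]
    refine (Subgroup.map_mono hfoc).trans ?_
    rw [Subgroup.map_le_iff_le_comap, Subgroup.commutator_le]
    intro v hv n hn
    refine Subgroup.mem_comap.2 (Subgroup.subset_closure ⟨j v, hVS ⟨v, hv, rfl⟩, j n, hjt n, ?_, ?_⟩)
    · rw [← map_mul, ← map_inv, ← map_mul]
      exact hVS ⟨_, (Subgroup.mem_normalizer_iff.1 hn v).1 hv, rfl⟩
    · rw [map_commutatorElement, commutatorElement_def]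
      group
  have hmove : ∃ n ∈ Subgroup.normalizer ((S : Subgroup G) : Set G), n * t * n⁻¹ ∉ Subgroup.zpowers t := by
    by_contra hno
    push Not at hno
    have ht1 : t ≠ 1 := fun h => by rw [h, orderOf_one] at ht; omega
    have htN : t ∈ Subgroup.centralizer (Subgroup.normalizer ((S : Subgroup G) : Set G) : Set G) := by
      refine Subgroup.mem_centralizer_iff.2 fun n hn => ?_
      obtain ⟨k, hk⟩ := Subgroup.mem_zpowers_iff.1 (hno n hn)
      have hk2 : t ^ k = t ^ (k % 2) := by rw [← zpow_mod_orderOf, ht]; norm_num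
      rcases Int.emod_two_eq_zero_or_one k with h | h
      · rw [hk2, h, zpow_zero, eq_comm, conj_eq_one_iff] at hk
        exact absurd hk ht1
      · rw [hk2, h, zpow_one, eq_comm, mul_inv_eq_iff_eq_mul] at hk
        exact hk
    have hcommG : commutator G = ⊤ := by
      rcases IsSimpleGroup.eq_bot_or_eq_top_of_normal (commutator G) inferInstance with h | h
      · exfalso
        refine hG ⟨⟨fun x y => ?_⟩⟩
        have h1 : ⁅x, y⁆ ∈ commutator G := Subgroup.commutator_mem_commutator (Subgroup.mem_top _) (Subgroup.mem_top _)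
        rw [h, Subgroup.mem_bot, commutatorElement_eq_one_iff_mul_comm] at h1
        exact h1
      · exact h
    refine ht1 (Subgroup.mem_bot.1 ((CfsgLib.TransferBasic.focal_disjoint_sup (P := S) (hab S)).1 ▸ ?_))
    refine ⟨⟨htS, htN⟩, ?_⟩
    rw [← Subgroup.commutator_inf_eq_focalSubgroup, hcommG, top_inf_eq]
    exact htS
  have hVgen : ∀ v ∈ V, v ≠ 1 → ∃ w ∈ V, V ≤ Subgroup.closure {v, w} := by
    intro v hv hv1
    have hvo : Nat.card ↥(Subgroup.zpowers v) = 2 := by
      rw [Nat.card_zpowers]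
      exact orderOf_eq_prime (by rw [pow_two, hV2 v hv]) hv1
    obtain ⟨w, hw, hwv⟩ : ∃ w ∈ V, w ∉ Subgroup.zpowers v := by
      by_contra h
      push Not at h
      have := Subgroup.card_le_of_le h
      omega
    refine ⟨w, hw, ?_⟩
    have hle : Subgroup.closure {v, w} ≤ V := (Subgroup.closure_le _).2 (by
      rintro x (rfl | rfl) <;> assumption)
    have h1 : Nat.card ↥(Subgroup.zpowers v) < Nat.card ↥(Subgroup.closure {v, w}) := by
      have hsub : Subgroup.zpowers v ≤ Subgroup.closure {v, w} :=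
        Subgroup.zpowers_le.2 (Subgroup.subset_closure (Or.inl rfl))
      refine lt_of_le_of_ne (Subgroup.card_le_of_le hsub) fun h => hwv ?_
      rw [Subgroup.eq_of_le_of_card_ge hsub h.ge]
      exact Subgroup.subset_closure (Or.inr rfl)
    have h2 := Subgroup.card_dvd_of_le hle
    rw [hVcard] at h2
    have h3 := Nat.le_of_dvd (by norm_num) h2
    refine (Subgroup.eq_of_le_of_card_ge hle ?_).ge
    rw [hVcard]
    interval_cases h : Nat.card ↥(Subgroup.closure {v, w}) <;> omega
  refine ⟨fun L _ _ Z _ hperf hZc hZp ⟨f⟩ => ?_, fun φ k hφ ⟨S₁, hS₁⟩ => ?_⟩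
  · have hker : (f.toMonoidHom.comp (QuotientGroup.mk' Z)).ker = Z := by
      ext x
      rw [MonoidHom.mem_ker, MonoidHom.comp_apply, MulEquiv.coe_toMonoidHom, f.map_eq_one_iff,
        QuotientGroup.mk'_apply, QuotientGroup.eq_one_iff]
    rw [← hker]
    exact CfsgLib.AbelianSylowCover.ker_eq_bot _ (f.surjective.comp (QuotientGroup.mk'_surjective Z))
      (by rw [hker]; exact hZc) (by rw [hker]; exact hZp) hperf S (hab S) t htS V hVS hSV hgen hmove hVgen
  · obtain ⟨s, -, hs⟩ := CfsgLib.AbelianSylowAut.exists_conj_of_fixes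
      (CfsgLib.AbelianSylowAut.no_odd_normal_of_simple (two_dvd_of_orderOf ht)) S₁ (hab S₁) φ hφ hS₁
    exact ⟨s, hs⟩

end Cfsg.Agent.S3206
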