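import Cfsg.Statements.S3208
import Mathlib
-- import your own Cfsg.Agent.* helpers here

set_option autoImplicit false
open Cfsg

namespace Cfsg.Agent.S3208

/-- Let j be an involution of a finite group G, H a subgroup of G, and T a Sylow 2-subgroup of H ∩ C_G(j) containing j such that ⟨j⟩ is a characteristic subgroup of T. Then T is a Sylow 2-subgroup of H. -/
theorem result {G : Type*} [Group G] [Finite G]
    (j : G) (hj : orderOf j = 2) (H T : Subgroup G) (hT : T ≤ H ⊓ Subgroup.centralizer ({j} : Set G)) (h2 : IsPGroup 2 ↥T)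
    (hSyl : ¬ 2 ∣ T.relIndex (H ⊓ Subgroup.centralizer ({j} : Set G))) (hjT : j ∈ T)
    (hchar : ((Subgroup.zpowers j).subgroupOf T).Characteristic) :
    ¬ 2 ∣ T.relIndex H := by

  haveI : Fact (Nat.Prime 2) := ⟨Nat.prime_two⟩
  intro h2d
  obtain ⟨k, hk⟩ := (IsPGroup.iff_card).mp h2
  have hTH : T ≤ H := hT.trans inf_le_left
  have hcard : Nat.card H = 2 ^ k * T.relIndex H := by
    rw [← hk, Subgroup.relIndex, ← Nat.card_congr (Subgroup.subgroupOfEquivOfLe hTH).toEquiv,
      Subgroup.card_mul_index]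
  have hTs : Nat.card (T.subgroupOf H) = 2 ^ k := by
    rw [Nat.card_congr (Subgroup.subgroupOfEquivOfLe hTH).toEquiv, hk]
  obtain ⟨R', hR', hTR'⟩ := Sylow.exists_subgroup_card_pow_succ
    (n := k) (by rw [hcard, pow_succ]; exact Nat.mul_dvd_mul_left _ h2d) hTs
  set R := R'.map H.subtype
  have hRH : R ≤ H := Subgroup.map_subtype_le R'
  have hTR : T ≤ R := fun z hz => ⟨⟨z, hTH hz⟩, hTR' hz, rfl⟩
  have hRc : Nat.card R = 2 ^ (k + 1) := by
    rw [Nat.card_congr (R'.equivMapOfInjective _ H.subtype_injective).toEquiv.symm, hR']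
  have hind : (T.subgroupOf R).index = 2 := by
    have := Subgroup.card_mul_index (T.subgroupOf R)
    rw [Nat.card_congr (Subgroup.subgroupOfEquivOfLe hTR).toEquiv, hk, hRc, pow_succ] at this
    exact Nat.eq_of_mul_eq_mul_left (by positivity) this
  have hnorm : (T.subgroupOf R).Normal := Subgroup.normal_of_index_eq_two hind
  have hRC : R ≤ Subgroup.centralizer ({j} : Set G) := by
    intro r hr
    have hconj : ∀ (r : G), r ∈ R → ∀ t ∈ T, r * t * r⁻¹ ∈ T := fun r hr t ht =>
      hnorm.conj_mem ⟨t, hTR ht⟩ ht ⟨r, hr⟩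
    let φ : T ≃* T :=
      { toFun := fun t => ⟨r * t.1 * r⁻¹, hconj r hr t.1 t.2⟩
        invFun := fun t => ⟨r⁻¹ * t.1 * r, by simpa using hconj r⁻¹ (R.inv_mem hr) t.1 t.2⟩
        left_inv := fun t => Subtype.ext (by simp [mul_assoc])
        right_inv := fun t => Subtype.ext (by simp [mul_assoc])
        map_mul' := fun a b => Subtype.ext (by simp [mul_assoc]) }
    have hjj : (⟨j, hjT⟩ : T) ∈ (Subgroup.zpowers j).subgroupOf T := Subgroup.mem_zpowers j
    rw [← hchar.fixed φ] at hjj
    obtain ⟨i, hi⟩ : r * j * r⁻¹ ∈ Subgroup.zpowers j := hjj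
    rw [Subgroup.mem_centralizer_singleton_iff]
    have hj1 : j * j = 1 := by
      have := pow_orderOf_eq_one j
      rwa [hj, sq] at this
    rcases Int.even_or_odd i with ⟨q, rfl⟩ | ⟨q, rfl⟩
    · exfalso
      simp only [← two_mul, zpow_mul, zpow_two, hj1, one_zpow] at hi
      have : j = 1 := by
        have h' := hi.symm
        rwa [conj_eq_one_iff] at h'
      rw [this, orderOf_one] at hj; omega
    · simp only [zpow_add, zpow_mul, zpow_two, hj1, one_zpow, one_mul, zpow_one] at hi
      exact (mul_inv_eq_iff_eq_mul.mp hi.symm)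
  apply hSyl
  have hle : R ≤ H ⊓ Subgroup.centralizer ({j} : Set G) := le_inf hRH hRC
  rw [← Subgroup.relIndex_mul_relIndex T R _ hTR hle]
  exact Dvd.dvd.mul_right (by rw [Subgroup.relIndex, hind]) _

end Cfsg.Agent.S3208
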