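import Cfsg.Statements.S3209
import Mathlib

set_option autoImplicit false
open Cfsg

namespace Cfsg.Agent.S3209

open scoped Matrix

abbrev SL (F : Type*) [Field F] := Matrix.SpecialLinearGroup (Fin 2) F

variable {F : Type*} [Field F] [Fintype F]

def std (F : Type*) [Field F] : SL F := ⟨!![0, -1; 1, 0], by simp [Matrix.det_fin_two_of]⟩

theorem std_sq : std F * std F = -1 := by
  ext i j
  rw [Matrix.SpecialLinearGroup.coe_mul]
  fin_cases i <;> fin_cases j <;> simp [std, Matrix.mul_apply, Fin.sum_univ_two]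

theorem neg_one_ne (hF : Odd (Fintype.card F)) : (-1 : SL F) ≠ 1 ∧ (2 : F) ≠ 0 := by
  have h2 : (2 : F) ≠ 0 := by
    intro h
    have hc : ringChar F = 2 := by
      haveI : CharP F (ringChar F) := ringChar.charP F
      have := (CharP.cast_eq_zero_iff F (ringChar F) 2).mp (by exact_mod_cast h)
      rcases (Nat.dvd_prime Nat.prime_two).mp this with e | e
      · exact absurd e (CharP.ringChar_ne_one)
      · exact e
    have := FiniteField.even_card_iff_char_two.mp hc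
    rw [Nat.odd_iff] at hF
    omega
  refine ⟨fun h => h2 ?_, h2⟩
  have h00 := congrArg (fun A : SL F => A.1 0 0) h
  simp at h00
  linear_combination -h00

theorem sum_two_squares (hF : Odd (Fintype.card F)) (c : F) : ∃ X Y : F, X ^ 2 + Y ^ 2 = c := by
  classical
  obtain ⟨X, Y, h⟩ := FiniteField.exists_root_sum_quadratic (R := F)
    (f := Polynomial.X ^ 2) (g := Polynomial.X ^ 2 - Polynomial.C c)
    (Polynomial.degree_X_pow 2) (Polynomial.degree_X_pow_sub_C (by norm_num) c)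
    (Nat.odd_iff.mp hF)
  refine ⟨X, Y, ?_⟩
  simp at h
  linear_combination h

theorem conj_std (hF : Odd (Fintype.card F)) {g : SL F} (hg : g * g = -1) :
    ∃ P : SL F, P * std F * P⁻¹ = g := by
  obtain ⟨hn1, h2⟩ := neg_one_ne hF
  set a := g.1 0 0
  set b := g.1 0 1
  set c := g.1 1 0
  set d := g.1 1 1
  have hdet : a * d - b * c = 1 := by
    have := g.2; rw [Matrix.det_fin_two] at this; exact this
  have e00 := congrArg (fun A : SL F => A.1 0 0) hg
  have e01 := congrArg (fun A : SL F => A.1 0 1) hg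
  have e10 := congrArg (fun A : SL F => A.1 1 0) hg
  simp [Matrix.mul_apply, Fin.sum_univ_two] at e00 e01 e10
  change a * a + b * c = -1 at e00
  change a * b + b * d = 0 at e01
  change c * a + d * c = 0 at e10
  have hd : d = -a := by
    by_contra hne
    have hs : a + d ≠ 0 := fun h => hne (by linear_combination h)
    have hb : b = 0 := (mul_eq_zero.mp (show (a + d) * b = 0 by linear_combination e01)).resolve_left hs
    have hc : c = 0 := (mul_eq_zero.mp (show (a + d) * c = 0 by linear_combination e10)).resolve_left hs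
    rw [hb, hc] at hdet e00
    exact hne (by linear_combination d * e00 + d * hdet - (a + d) * hdet)
  obtain ⟨x, y, hxy⟩ : ∃ x y : F, c * x ^ 2 - 2 * a * x * y - b * y ^ 2 = 1 := by
    by_cases hc : c = 0
    · have ha : a ≠ 0 := fun h => by rw [h, hc] at e00; simp at e00
      refine ⟨-(b + 1) / (2 * a), 1, ?_⟩
      rw [hc]
      field_simp
      ring
    · obtain ⟨X, Y, hXY⟩ := sum_two_squares hF c
      refine ⟨(X + a * Y) / c, Y, ?_⟩
      field_simp
      linear_combination hXY - Y ^ 2 * e00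
  let P : SL F := ⟨!![x, a * x + b * y; y, c * x + d * y], by
    rw [Matrix.det_fin_two_of, hd]; linear_combination hxy⟩
  refine ⟨P, ?_⟩
  · apply (_root_.mul_inv_eq_iff_eq_mul).mpr
    have e11 : c * b + d * d = -1 := by rw [hd]; linear_combination e00
    ext i j
    rw [Matrix.SpecialLinearGroup.coe_mul, Matrix.SpecialLinearGroup.coe_mul]
    fin_cases i <;> fin_cases j <;>
      simp [P, std, Matrix.mul_apply, Fin.sum_univ_two, a, b, c, d] <;>
      first
        | ring1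
        | linear_combination (-x) * e00 - y * e01
        | linear_combination (-x) * e10 - y * e11

theorem sq_eq_one (hF : Odd (Fintype.card F)) {g : SL F} (hg : g * g = 1) : g = 1 ∨ g = -1 := by
  obtain ⟨-, h2⟩ := neg_one_ne hF
  have hi : g⁻¹ = g := inv_eq_of_mul_eq_one_right hg
  have hA := congrArg (fun A : SL F => A.1) hi
  rw [Matrix.SpecialLinearGroup.coe_inv, Matrix.adjugate_fin_two] at hA
  have h01 : g.1 0 1 = 0 := by
    have := congrFun (congrFun hA 0) 1
    simp at this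
    exact (mul_eq_zero.mp (show (2 : F) * g.1 0 1 = 0 by linear_combination -this)).resolve_left h2
  have h10 : g.1 1 0 = 0 := by
    have := congrFun (congrFun hA 1) 0
    simp at this
    exact (mul_eq_zero.mp (show (2 : F) * g.1 1 0 = 0 by linear_combination -this)).resolve_left h2
  have h11 : g.1 1 1 = g.1 0 0 := by
    have := congrFun (congrFun hA 0) 0
    simpa using this
  have hdet := g.2
  rw [Matrix.det_fin_two, h01, h10, h11] at hdet
  rcases mul_self_eq_one_iff.mp (show g.1 0 0 * g.1 0 0 = 1 by linear_combination hdet) with h | h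
  · left; ext i j; fin_cases i <;> fin_cases j <;> simp [h, h01, h10, h11]
  · right; ext i j; fin_cases i <;> fin_cases j <;> simp [h, h01, h10, h11]

theorem side {G : Type*} [Group G] (hF : Odd (Fintype.card F)) (L : Subgroup G)
    (e : L ≃* SL F) {j : G} (hj : orderOf j = 2) (hjL : j ∈ L) :
    (∀ x ∈ L, x * x = 1 → x = 1 ∨ x = j) ∧
      ∃ x₀ ∈ L, x₀ * x₀ = j ∧ ∀ x ∈ L, x * x = j → ∃ g ∈ L, g * x₀ * g⁻¹ = x := by
  have hej : e ⟨j, hjL⟩ = -1 := by
    refine (sq_eq_one hF ?_).resolve_left fun h => ?_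
    · rw [← map_mul, ← map_one e]; congr 1
      exact Subtype.ext (show j * j = 1 by rw [← sq, ← hj, pow_orderOf_eq_one])
    · rw [← map_one e] at h
      have := congrArg Subtype.val (e.injective h)
      simp only [Subgroup.coe_one] at this
      rw [this, orderOf_one] at hj; omega
  refine ⟨fun x hx hxx => ?_, e.symm (std F), (e.symm (std F)).2, ?_, fun x hx hxx => ?_⟩
  · rcases sq_eq_one hF (g := e ⟨x, hx⟩) (by rw [← map_mul, ← map_one e]; exact congrArg e (Subtype.ext hxx))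
      with h | h
    · left
      rw [← map_one e] at h
      exact congrArg Subtype.val (e.injective h)
    · right
      rw [← hej] at h
      exact congrArg Subtype.val (e.injective h)
  · have h : e.symm (std F) * e.symm (std F) = ⟨j, hjL⟩ := by
      rw [← map_mul, std_sq, MulEquiv.symm_apply_eq, hej]
    exact congrArg Subtype.val h
  · obtain ⟨P, hP⟩ := conj_std hF (g := e ⟨x, hx⟩) (by
      rw [← map_mul, ← hej]; exact congrArg e (Subtype.ext hxx))
    refine ⟨e.symm P, (e.symm P).2, ?_⟩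
    have h := congrArg e.symm hP
    rw [map_mul, map_mul, map_inv, MulEquiv.symm_apply_apply] at h
    exact congrArg Subtype.val h

/-- Let L₁ ≅ SL₂(q₁) and L₂ ≅ SL₂(q₂), q₁ and q₂ odd, be elementwise-commuting subgroups of a finite group meeting in ⟨j⟩ for an involution j. Then L₁L₂ has exactly two conjugacy classes of involutions: the central involution j, and one further class (there is an involution x ≠ j in L₁L₂, and every involution of L₁L₂ other than j is conjugate to x by an element of L₁L₂). -/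
theorem result {G : Type*} [Group G] [Finite G]
    {F₁ : Type*} [Field F₁] [Fintype F₁] {F₂ : Type*} [Field F₂] [Fintype F₂]
    (hF₁ : Odd (Fintype.card F₁)) (hF₂ : Odd (Fintype.card F₂)) (L₁ L₂ : Subgroup G)
    (e₁ : ↥L₁ ≃* Matrix.SpecialLinearGroup (Fin 2) F₁) (e₂ : ↥L₂ ≃* Matrix.SpecialLinearGroup (Fin 2) F₂)
    (hc : ∀ x ∈ L₁, ∀ y ∈ L₂, x * y = y * x) (j : G) (hj : orderOf j = 2) (hm : L₁ ⊓ L₂ = Subgroup.zpowers j) :
    ∃ x ∈ L₁ ⊔ L₂, orderOf x = 2 ∧ x ≠ j ∧
      ∀ y ∈ L₁ ⊔ L₂, orderOf y = 2 → y = j ∨ ∃ g ∈ L₁ ⊔ L₂, g * x * g⁻¹ = y := by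
  have hjm : j ∈ L₁ ⊓ L₂ := hm ▸ Subgroup.mem_zpowers j
  have hjj : j * j = 1 := by rw [← sq, ← hj, pow_orderOf_eq_one]
  have hj1 : j ≠ 1 := fun h => by rw [h, orderOf_one] at hj; omega
  have hint : ∀ g, g ∈ L₁ → g ∈ L₂ → g = 1 ∨ g = j := by
    intro g h1 h2
    have hgm : g ∈ L₁ ⊓ L₂ := ⟨h1, h2⟩
    rw [hm] at hgm
    obtain ⟨i, rfl⟩ := Subgroup.mem_zpowers_iff.mp hgm
    rcases Int.even_or_odd i with ⟨k, rfl⟩ | ⟨k, rfl⟩
    · left; rw [← two_mul, _root_.zpow_mul, zpow_two, hjj, one_zpow]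
    · right; rw [zpow_add, _root_.zpow_mul, zpow_two, hjj, one_zpow, one_mul, zpow_one]
  obtain ⟨hu1, x₁, hx₁, hx₁j, hcl₁⟩ := side hF₁ L₁ e₁ hj hjm.1
  obtain ⟨hu2, x₂, hx₂, hx₂j, hcl₂⟩ := side hF₂ L₂ e₂ hj hjm.2
  have hsq : ∀ a ∈ L₁, ∀ b ∈ L₂, a * b * (a * b) = (a * a) * (b * b) := fun a ha b hb => by
    rw [mul_assoc, ← mul_assoc b, ← hc a ha b hb]; group
  let T : Subgroup G :=
    { carrier := {g | ∃ a ∈ L₁, ∃ b ∈ L₂, g = a * b}
      one_mem' := ⟨1, L₁.one_mem, 1, L₂.one_mem, (mul_one 1).symm⟩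
      mul_mem' := by
        rintro _ _ ⟨a, ha, b, hb, rfl⟩ ⟨a', ha', b', hb', rfl⟩
        exact ⟨a * a', mul_mem ha ha', b * b', mul_mem hb hb', by
          rw [mul_assoc, ← mul_assoc b, ← hc a' ha' b hb]; group⟩
      inv_mem' := by
        rintro _ ⟨a, ha, b, hb, rfl⟩
        exact ⟨a⁻¹, inv_mem ha, b⁻¹, inv_mem hb, by rw [_root_.mul_inv_rev, hc a⁻¹ (inv_mem ha) b⁻¹ (inv_mem hb)]⟩ }
  have hT : L₁ ⊔ L₂ ≤ T := sup_le (fun a ha => ⟨a, ha, 1, L₂.one_mem, (mul_one a).symm⟩)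
    fun b hb => ⟨1, L₁.one_mem, b, hb, (one_mul b).symm⟩
  have hmem : ∀ a ∈ L₁, ∀ b ∈ L₂, a * b ∈ L₁ ⊔ L₂ := fun a ha b hb =>
    mul_mem (Subgroup.mem_sup_left ha) (Subgroup.mem_sup_right hb)
  have hx12 : x₁ * x₂ ≠ 1 ∧ x₁ * x₂ ≠ j := by
    have key : ∀ k ∈ L₂, x₁ * x₂ ≠ k := fun k hk h => by
      have h2 : x₁ ∈ L₂ := by rw [eq_mul_inv_of_mul_eq h]; exact mul_mem hk (inv_mem hx₂)
      rcases hint _ hx₁ h2 with e | e <;> rw [e] at hx₁j
      · exact hj1 (by rw [← hx₁j, mul_one])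
      · exact hj1 (by rw [← hx₁j, hjj])
    exact ⟨key 1 L₂.one_mem, key j hjm.2⟩
  refine ⟨x₁ * x₂, hmem _ hx₁ _ hx₂, ?_, hx12.2, fun y hy hyo => ?_⟩
  · exact orderOf_eq_prime (by rw [sq, hsq _ hx₁ _ hx₂, hx₁j, hx₂j, hjj]) hx12.1
  obtain ⟨a, ha, b, hb, rfl⟩ := hT hy
  have hyy : a * a * (b * b) = 1 := by
    rw [← hsq a ha b hb, ← sq, ← hyo, pow_orderOf_eq_one]
  have hbb : b * b = (a * a)⁻¹ := eq_inv_of_mul_eq_one_right hyy
  rcases hint (a * a) (mul_mem ha ha) (by rw [← inv_inv (a * a), ← hbb]; exact inv_mem (mul_mem hb hb))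
    with haa | haa
  · rw [haa, inv_one] at hbb
    left
    rcases hu1 a ha haa with rfl | rfl <;> rcases hu2 b hb hbb with rfl | rfl
    · rw [mul_one, orderOf_one] at hyo; omega
    · exact one_mul _
    · exact mul_one _
    · rw [hjj, orderOf_one] at hyo; omega
  · rw [haa, inv_eq_of_mul_eq_one_right hjj] at hbb
    obtain ⟨g₁, hg₁, hga⟩ := hcl₁ a ha haa
    obtain ⟨g₂, hg₂, hgb⟩ := hcl₂ b hb hbb
    right
    refine ⟨g₁ * g₂, hmem _ hg₁ _ hg₂, ?_⟩
    rw [← hga, ← hgb]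
    have c1 : g₂ * x₁ = x₁ * g₂ := (hc x₁ hx₁ g₂ hg₂).symm
    have c2 : g₂ * x₂ * g₂⁻¹ * g₁⁻¹ = g₁⁻¹ * (g₂ * x₂ * g₂⁻¹) :=
      (hc g₁⁻¹ (inv_mem hg₁) _ (mul_mem (mul_mem hg₂ hx₂) (inv_mem hg₂))).symm
    calc g₁ * g₂ * (x₁ * x₂) * (g₁ * g₂)⁻¹ = g₁ * (g₂ * x₁) * x₂ * g₂⁻¹ * g₁⁻¹ := by group
      _ = g₁ * x₁ * (g₂ * x₂ * g₂⁻¹ * g₁⁻¹) := by rw [c1]; group
      _ = _ := by rw [c2]; group

end Cfsg.Agent.S3209
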