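import Cfsg.Statements.S3210
import Cfsg.Agent.Invol.SL2Factors
import Cfsg.Agent.SL2C.Basic

set_option autoImplicit false
open Cfsg

namespace Cfsg.Agent.S3210

open CfsgLib.ZJ CfsgLib.SL2Factors

lemma two_ne {F : Type*} [Field F] [Fintype F] (hodd : Odd (Fintype.card F)) : (2 : F) ≠ 0 := by
  intro h
  have : addOrderOf (1 : F) = 2 :=
    addOrderOf_eq_prime (by rw [two_nsmul]; rw [← two_mul, mul_one]; exact h) one_ne_zero
  have hd : 2 ∣ Fintype.card F := this ▸ addOrderOf_dvd_card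
  exact (Nat.not_even_iff_odd.mpr hodd) (even_iff_two_dvd.mpr hd)

section
variable {G : Type*} [Group G] [Finite G] (j : G) (hj : orderOf j = 2)

/-- The properties of a subgroup isomorphic to `SL₂` of odd characteristic used below. -/
structure Good (L : Subgroup G) : Prop where
  mem : j ∈ L
  comm : ∀ l ∈ L, j * l = l * j
  hom : ∀ {X : Type} [Group X] (f : ↥L →* X), (∀ x : X, x ^ 2 = 1) → ∀ l, f l = 1
  centre : ∀ x ∈ L, (∀ l ∈ L, x * l = l * x) → x ∈ Subgroup.zpowers j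
  normals : ∀ A B : Subgroup G, A ≤ L → B ≤ L → (∀ l ∈ L, ∀ a ∈ A, l * a * l⁻¹ ∈ A) →
    (∀ l ∈ L, ∀ b ∈ B, l * b * l⁻¹ ∈ B) → (∀ a ∈ A, ∀ b ∈ B, a * b = b * a) →
    A ≤ Subgroup.zpowers j ∨ B ≤ Subgroup.zpowers j
  large : ¬ L ≤ Subgroup.zpowers j

include hj in
lemma good_of_equiv {K : Type*} [Field K] (h2 : (2 : K) ≠ 0) (L : Subgroup G)
    (e : ↥L ≃* Matrix.SpecialLinearGroup (Fin 2) K) (hjL : j ∈ L) (hjc : ∀ l ∈ L, j * l = l * j) :
    Good j L := by
  have hjZ : e ⟨j, hjL⟩ ∈ Subgroup.center (SL2 K) := by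
    rw [Subgroup.mem_center_iff]
    intro u
    obtain ⟨v, rfl⟩ := e.surjective u
    rw [← map_mul, ← map_mul]
    exact congrArg e (Subtype.ext (hjc v v.2).symm)
  have hj1 : e ⟨j, hjL⟩ = -1 := by
    refine (central_eq hjZ).resolve_left (fun h => ?_)
    rw [map_eq_one_iff e e.injective] at h
    have : j = 1 := congrArg Subtype.val h
    rw [this, orderOf_one] at hj
    omega
  have hcen : ∀ x : L, e x ∈ Subgroup.center (SL2 K) → (x : G) ∈ Subgroup.zpowers j := by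
    intro x hx
    rcases central_eq hx with h | h
    · rw [map_eq_one_iff e e.injective] at h
      rw [h]; exact Subgroup.one_mem _
    · rw [← hj1] at h
      rw [e.injective h]; exact Subgroup.mem_zpowers j
  refine ⟨hjL, hjc, ?_, ?_, ?_, ?_⟩
  · intro X _ f hX l
    have := hom_trivial h2 (f.comp e.symm.toMonoidHom) hX (e l)
    simpa using this
  · intro x hx hc
    refine hcen ⟨x, hx⟩ (Subgroup.mem_center_iff.mpr fun u => ?_)
    obtain ⟨v, rfl⟩ := e.surjective u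
    rw [← map_mul, ← map_mul]
    exact congrArg e (Subtype.ext (hc v v.2).symm)
  · intro A B hA hB hAn hBn hcomm
    set A' := (A.subgroupOf L).map e.toMonoidHom
    set B' := (B.subgroupOf L).map e.toMonoidHom
    have nA : A'.Normal := by
      haveI : (A.subgroupOf L).Normal := ⟨fun a ha l => hAn l l.2 a ha⟩
      exact Subgroup.Normal.map inferInstance _ e.surjective
    have nB : B'.Normal := by
      haveI : (B.subgroupOf L).Normal := ⟨fun b hb l => hBn l l.2 b hb⟩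
      exact Subgroup.Normal.map inferInstance _ e.surjective
    have hc' : ∀ a ∈ A', ∀ b ∈ B', a * b = b * a := by
      rintro _ ⟨a, ha, rfl⟩ _ ⟨b, hb, rfl⟩
      show e a * e b = e b * e a
      rw [← map_mul, ← map_mul]
      exact congrArg e (Subtype.ext (hcomm a ha b hb))
    by_cases hA' : A' ≤ Subgroup.center (SL2 K)
    · exact Or.inl fun a ha => hcen ⟨a, hA ha⟩ (hA' ⟨⟨a, hA ha⟩, ha, rfl⟩)
    · have hB' := commuting_normal h2 A' B' nA nB hc' hA'
      exact Or.inr fun b hb => hcen ⟨b, hB hb⟩ (hB' ⟨⟨b, hB hb⟩, hb, rfl⟩)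
  · intro hle
    set v := e.symm (upper 1)
    have hv : (v : G) ^ 2 = 1 := by
      obtain ⟨i, hi⟩ := Subgroup.mem_zpowers_iff.mp (hle v.2)
      rw [← hi, ← zpow_natCast, ← zpow_mul, mul_comm, zpow_mul, zpow_natCast, ← hj,
        pow_orderOf_eq_one, one_zpow]
    have hv' : v ^ 2 = 1 := Subtype.ext hv
    have := congrArg e hv'
    rw [map_pow, map_one, e.apply_symm_apply, upper_pow] at this
    have h01 := congrArg (fun M : SL2 K => M 0 1) this
    simp [upper] at h01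
    exact h2 h01

variable (L₁ L₂ : Subgroup G)

lemma mem_sup_iff_mul (hc : ∀ x ∈ L₁, ∀ y ∈ L₂, x * y = y * x) {z : G} :
    z ∈ L₁ ⊔ L₂ ↔ ∃ a ∈ L₁, ∃ b ∈ L₂, a * b = z := by
  constructor
  · intro hz
    have hle : L₂ ≤ Subgroup.normalizer (L₁ : Set G) := fun b hb => by
      rw [Subgroup.mem_normalizer_iff]
      intro a
      constructor
      · intro ha; rwa [← hc a ha b hb, mul_inv_cancel_right]
      · intro ha
        have e := hc _ ha b hb
        have : a = b * a * b⁻¹ := by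
          calc a = b⁻¹ * (b * a * b⁻¹ * b) := by group
            _ = b⁻¹ * (b * (b * a * b⁻¹)) := by rw [e]
            _ = _ := by group
        rwa [this]
    have := Subgroup.coe_mul_of_right_le_normalizer_left L₁ L₂ hle
    have hz' : z ∈ ((L₁ ⊔ L₂ : Subgroup G) : Set G) := hz
    rw [this] at hz'
    exact hz'
  · rintro ⟨a, ha, b, hb, rfl⟩
    exact Subgroup.mul_mem_sup ha hb

lemma centralizes_of_small (hj : orderOf j = 2) {L M : Subgroup G} (hL : Good j L)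
    (hMn : ∀ l ∈ L, ∀ m ∈ M, l * m * l⁻¹ ∈ M)
    (hLn : ∀ m ∈ M, ∀ l ∈ L, m * l * m⁻¹ ∈ L) (hsmall : M ⊓ L ≤ Subgroup.zpowers j) :
    ∀ m ∈ M, ∀ l ∈ L, m * l = l * m := by
  intro m hm
  have hmem : ∀ l ∈ L, m * l * m⁻¹ * l⁻¹ ∈ Subgroup.zpowers j := by
    intro l hl
    refine hsmall ⟨?_, L.mul_mem (hLn m hm l hl) (L.inv_mem hl)⟩
    have h := M.mul_mem hm (hMn l hl m⁻¹ (M.inv_mem hm))
    simpa [mul_assoc] using h
  have hzc : ∀ z ∈ Subgroup.zpowers j, ∀ l ∈ L, z * l = l * z := by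
    intro z hz l hl
    obtain ⟨i, rfl⟩ := Subgroup.mem_zpowers_iff.mp hz
    exact (Commute.zpow_left (hL.comm l hl) i).eq
  let φ : L →* Subgroup.zpowers j := MonoidHom.mk'
    (fun k => ⟨m * k * m⁻¹ * (k : G)⁻¹, hmem k k.2⟩) (fun a b => by
      apply Subtype.ext
      show m * (a * b : G) * m⁻¹ * (a * b : G)⁻¹ = m * a * m⁻¹ * (a : G)⁻¹ * (m * b * m⁻¹ * (b : G)⁻¹)
      have h := hzc _ (hmem b b.2) _ (L.inv_mem a.2)
      calc m * (a * b : G) * m⁻¹ * (a * b : G)⁻¹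
          = m * a * m⁻¹ * ((m * b * m⁻¹ * (b : G)⁻¹) * (a : G)⁻¹) := by group
        _ = m * a * m⁻¹ * ((a : G)⁻¹ * (m * b * m⁻¹ * (b : G)⁻¹)) := by rw [h]
        _ = _ := by group)
  let ψ : L →* Multiplicative (ZMod 2) :=
    (zmodCyclicMulEquiv (G := Subgroup.zpowers j) inferInstance).symm.toMonoidHom.comp φ |> fun f =>
      (MulEquiv.cast (M := fun n => Multiplicative (ZMod n))
        (show Nat.card (Subgroup.zpowers j) = 2 by rw [Nat.card_zpowers, hj])).toMonoidHom.comp f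
  intro l hl
  have h2 : ∀ x : Multiplicative (ZMod 2), x ^ 2 = 1 := by decide
  have h := hL.hom ψ h2 ⟨l, hl⟩
  simp only [ψ, MonoidHom.comp_apply, MulEquiv.coe_toMonoidHom, map_eq_one_iff _ (MulEquiv.injective _)] at h
  have h' : m * l * m⁻¹ * l⁻¹ = 1 := congrArg Subtype.val h
  calc m * l = m * l * m⁻¹ * l⁻¹ * (l * m) := by group
    _ = l * m := by rw [h', one_mul]

/-- a normal copy of `SL₂` inside `L₁ L₂` lies in one factor -/
lemma le_or_le (hj : orderOf j = 2) {M : Subgroup G} (h₁ : Good j L₁) (h₂ : Good j L₂) (hM : Good j M)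
    (hc : ∀ x ∈ L₁, ∀ y ∈ L₂, x * y = y * x) (hm : L₁ ⊓ L₂ = Subgroup.zpowers j)
    (hMle : M ≤ L₁ ⊔ L₂) (hMn : ∀ u ∈ L₁ ⊔ L₂, ∀ m ∈ M, u * m * u⁻¹ ∈ M) : M ≤ L₁ ∨ M ≤ L₂ := by
  have hn1 : ∀ m ∈ M, ∀ l ∈ L₁, m * l * m⁻¹ ∈ L₁ := by
    intro m hmM l hl
    obtain ⟨a, ha, b, hb, rfl⟩ := (mem_sup_iff_mul L₁ L₂ hc).mp (hMle hmM)
    have e : a * b * l * (a * b)⁻¹ = a * (l * (b * b⁻¹)) * a⁻¹ := by
      rw [mul_assoc a b l, ← hc l hl b hb]; group
    rw [e, mul_inv_cancel, mul_one]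
    exact L₁.mul_mem (L₁.mul_mem ha hl) (L₁.inv_mem ha)
  have hn2 : ∀ m ∈ M, ∀ l ∈ L₂, m * l * m⁻¹ ∈ L₂ := by
    intro m hmM l hl
    obtain ⟨a, ha, b, hb, rfl⟩ := (mem_sup_iff_mul L₁ L₂ hc).mp (hMle hmM)
    have hbl : b * l * b⁻¹ ∈ L₂ := L₂.mul_mem (L₂.mul_mem hb hl) (L₂.inv_mem hb)
    have e : a * b * l * (a * b)⁻¹ = a * (b * l * b⁻¹) * a⁻¹ := by group
    rw [e, hc a ha _ hbl, mul_inv_cancel_right]
    exact hbl
  have hM1 : ∀ l ∈ L₁, ∀ m ∈ M, l * m * l⁻¹ ∈ M := fun l hl => hMn l (Subgroup.mem_sup_left hl)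
  have hM2 : ∀ l ∈ L₂, ∀ m ∈ M, l * m * l⁻¹ ∈ M := fun l hl => hMn l (Subgroup.mem_sup_right hl)
  rcases hM.normals (M ⊓ L₁) (M ⊓ L₂) inf_le_left inf_le_left
    (fun l hl a ha => ⟨M.mul_mem (M.mul_mem hl ha.1) (M.inv_mem hl), hn1 l hl a ha.2⟩)
    (fun l hl a ha => ⟨M.mul_mem (M.mul_mem hl ha.1) (M.inv_mem hl), hn2 l hl a ha.2⟩)
    (fun a ha b hb => hc a ha.2 b hb.2) with h | h
  · right
    have hcent := centralizes_of_small j hj h₁ hM1 hn1 h
    intro m hmM
    obtain ⟨a, ha, b, hb, rfl⟩ := (mem_sup_iff_mul L₁ L₂ hc).mp (hMle hmM)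
    refine L₂.mul_mem ?_ hb
    have hz : a ∈ Subgroup.zpowers j := h₁.centre a ha (fun l hl => by
      have e := hcent _ hmM l hl
      apply mul_right_cancel (b := b)
      calc a * l * b = a * (l * b) := mul_assoc _ _ _
        _ = a * b * l := by rw [hc l hl b hb, mul_assoc]
        _ = l * (a * b) := e
        _ = _ := (mul_assoc _ _ _).symm)
    exact ((Subgroup.mem_inf.mp (hm.symm ▸ hz))).2
  · left
    have hcent := centralizes_of_small j hj h₂ hM2 hn2 h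
    intro m hmM
    obtain ⟨a, ha, b, hb, rfl⟩ := (mem_sup_iff_mul L₁ L₂ hc).mp (hMle hmM)
    refine L₁.mul_mem ha ?_
    have hz : b ∈ Subgroup.zpowers j := h₂.centre b hb (fun l hl => by
      have e := hcent _ hmM l hl
      apply mul_left_cancel (a := a)
      calc a * (b * l) = a * b * l := (mul_assoc _ _ _).symm
        _ = l * (a * b) := e
        _ = a * l * b := by rw [← mul_assoc, ← hc a ha l hl]
        _ = _ := mul_assoc _ _ _)
    exact ((Subgroup.mem_inf.mp (hm.symm ▸ hz))).1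

end

end Cfsg.Agent.S3210

namespace Cfsg.Agent.S3210

/-- Let G be a finite group with subgroups L₁ ≅ SL₂(q₁) and L₂ ≅ SL₂(q₂), q₁ and q₂ odd prime powers, which commute elementwise and meet in ⟨j⟩ for an involution j, and suppose L₁L₂ has index 2 in C_G(j). Then every element n of C_G(j) outside L₁L₂ either normalizes both L₁ and L₂, or conjugates L₁ onto L₂; in the second case q₁ = q₂ and there is an element n′ of C_G(j) outside L₁L₂ conjugating L₁ onto L₂ with n′² ∈ ⟨j⟩. -/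
theorem result {G : Type*} [Group G] [Finite G]
    {F₁ : Type*} [Field F₁] [Fintype F₁] {F₂ : Type*} [Field F₂] [Fintype F₂]
    (hF₁ : Odd (Fintype.card F₁)) (hF₂ : Odd (Fintype.card F₂)) (L₁ L₂ : Subgroup G)
    (e₁ : ↥L₁ ≃* Matrix.SpecialLinearGroup (Fin 2) F₁) (e₂ : ↥L₂ ≃* Matrix.SpecialLinearGroup (Fin 2) F₂)
    (hc : ∀ x ∈ L₁, ∀ y ∈ L₂, x * y = y * x) (j : G) (hj : orderOf j = 2) (hm : L₁ ⊓ L₂ = Subgroup.zpowers j)
    (hle : L₁ ⊔ L₂ ≤ Subgroup.centralizer ({j} : Set G)) (hi : (L₁ ⊔ L₂).relIndex (Subgroup.centralizer ({j} : Set G)) = 2) (n : G) (hn : n ∈ Subgroup.centralizer ({j} : Set G)) (hn' : n ∉ L₁ ⊔ L₂) :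
    (L₁.map (MulAut.conj n).toMonoidHom = L₁ ∧ L₂.map (MulAut.conj n).toMonoidHom = L₂) ∨
      (L₁.map (MulAut.conj n).toMonoidHom = L₂ ∧ Fintype.card F₁ = Fintype.card F₂ ∧
        ∃ n' ∈ Subgroup.centralizer ({j} : Set G), n' ∉ L₁ ⊔ L₂ ∧ L₁.map (MulAut.conj n').toMonoidHom = L₂ ∧ n' ^ 2 ∈ Subgroup.zpowers j) := by
  classical
  set C := Subgroup.centralizer ({j} : Set G)
  set P := L₁ ⊔ L₂ with hP
  have hjmem : j ∈ L₁ ⊓ L₂ := hm ▸ Subgroup.mem_zpowers j
  have hjC : ∀ u ∈ C, j * u = u * j := fun u hu => (Subgroup.mem_centralizer_singleton_iff.mp hu).symm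
  have g₁ : Good j L₁ := good_of_equiv j hj (two_ne hF₁) L₁ e₁ hjmem.1 (fun l hl => hjC l (hle (Subgroup.mem_sup_left hl)))
  have g₂ : Good j L₂ := good_of_equiv j hj (two_ne hF₂) L₂ e₂ hjmem.2 (fun l hl => hjC l (hle (Subgroup.mem_sup_right hl)))
  haveI hPn : (P.subgroupOf C).Normal := Subgroup.normal_of_index_eq_two hi
  have hPinv : ∀ u ∈ C, ∀ v ∈ P, u * v * u⁻¹ ∈ P := fun u hu v hv =>
    hPn.conj_mem ⟨v, hle hv⟩ hv ⟨u, hu⟩
  have normL : ∀ i : Bool, ∀ u ∈ P, ∀ l ∈ (if i then L₁ else L₂), u * l * u⁻¹ ∈ (if i then L₁ else L₂) := by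
    intro i u hu l hl
    obtain ⟨a, ha, b, hb, rfl⟩ := (mem_sup_iff_mul L₁ L₂ hc).mp hu
    cases i
    · simp only [Bool.false_eq_true, if_false] at hl ⊢
      have hbl : b * l * b⁻¹ ∈ L₂ := L₂.mul_mem (L₂.mul_mem hb hl) (L₂.inv_mem hb)
      rw [show a * b * l * (a * b)⁻¹ = a * (b * l * b⁻¹) * a⁻¹ by group, hc a ha _ hbl,
        mul_inv_cancel_right]
      exact hbl
    · simp only [if_true] at hl ⊢
      rw [show a * b * l * (a * b)⁻¹ = a * (b * l * b⁻¹) * a⁻¹ by group, ← hc l hl b hb,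
        mul_inv_cancel_right]
      exact L₁.mul_mem (L₁.mul_mem ha hl) (L₁.inv_mem ha)
  have side : ∀ i : Bool, (if i then L₁ else L₂).map (MulAut.conj n).toMonoidHom ≤ L₁ ∨
      (if i then L₁ else L₂).map (MulAut.conj n).toMonoidHom ≤ L₂ := by
    intro i
    have hLP : (if i then L₁ else L₂) ≤ P := by cases i <;> simp [P]
    refine le_or_le j L₁ L₂ hj g₁ g₂ ?_ hc hm ?_ ?_
    · have hjn : n * j * n⁻¹ = j := by rw [← hjC n hn, mul_inv_cancel_right]
      have hmemj : j ∈ (if i then L₁ else L₂).map (MulAut.conj n).toMonoidHom :=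
        ⟨j, by cases i; exacts [hjmem.2, hjmem.1], hjn⟩
      have hcomm : ∀ l ∈ (if i then L₁ else L₂).map (MulAut.conj n).toMonoidHom, j * l = l * j := by
        rintro _ ⟨l, hl, rfl⟩
        exact hjC _ (hle (hPinv n hn l (hLP hl)))
      cases i
      · simp only [Bool.false_eq_true, if_false] at hmemj hcomm ⊢
        exact good_of_equiv j hj (two_ne hF₂) _
          ((Subgroup.equivMapOfInjective L₂ (MulAut.conj n).toMonoidHom (MulAut.conj n).injective).symm.trans e₂) hmemj hcomm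
      · simp only [if_true] at hmemj hcomm ⊢
        exact good_of_equiv j hj (two_ne hF₁) _
          ((Subgroup.equivMapOfInjective L₁ (MulAut.conj n).toMonoidHom (MulAut.conj n).injective).symm.trans e₁) hmemj hcomm
    · rintro _ ⟨l, hl, rfl⟩
      exact hPinv n hn l (hLP hl)
    · rintro u hu _ ⟨l, hl, rfl⟩
      have hu' : n⁻¹ * u * n ∈ P := by
        have := hPinv n⁻¹ (C.inv_mem hn) u hu
        simpa using this
      refine ⟨_, normL i _ hu' l hl, ?_⟩
      show n * (n⁻¹ * u * n * l * (n⁻¹ * u * n)⁻¹) * n⁻¹ = u * (n * l * n⁻¹) * u⁻¹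
      group
  have hL12 : ¬ L₁ ≤ L₂ := fun h => g₁.large (hm ▸ le_inf le_rfl h)
  have hL21 : ¬ L₂ ≤ L₁ := fun h => g₂.large (hm ▸ le_inf h le_rfl)
  have hboth : ∀ X : Subgroup G, L₁.map (MulAut.conj n).toMonoidHom ≤ X →
      L₂.map (MulAut.conj n).toMonoidHom ≤ X → P ≤ X := by
    intro X h1 h2 v hv
    have hv' : n⁻¹ * v * n ∈ P := by
      have := hPinv n⁻¹ (C.inv_mem hn) v hv
      simpa using this
    have hPX : P.map (MulAut.conj n).toMonoidHom ≤ X := by
      rw [hP, Subgroup.map_sup]; exact sup_le h1 h2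
    exact hPX ⟨_, hv', by show n * (n⁻¹ * v * n) * n⁻¹ = v; group⟩
  have hcardmap : ∀ L : Subgroup G, Nat.card (L.map (MulAut.conj n).toMonoidHom) = Nat.card L :=
    fun L => Subgroup.card_map_of_injective (MulAut.conj n).injective
  rcases side true with h1 | h1 <;> rcases side false with h2 | h2 <;>
    simp only [Bool.false_eq_true, if_false, if_true] at h1 h2
  · exact absurd (le_sup_right.trans (hboth L₁ h1 h2)) hL21
  · left
    exact ⟨Subgroup.eq_of_le_of_card_ge h1 (hcardmap L₁).ge,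
      Subgroup.eq_of_le_of_card_ge h2 (hcardmap L₂).ge⟩
  · right
    have c12 : Nat.card L₁ ≤ Nat.card L₂ := (hcardmap L₁).ge.trans (Subgroup.card_le_of_le h1)
    have c21 : Nat.card L₂ ≤ Nat.card L₁ := (hcardmap L₂).ge.trans (Subgroup.card_le_of_le h2)
    have E1 : L₁.map (MulAut.conj n).toMonoidHom = L₂ :=
      Subgroup.eq_of_le_of_card_ge h1 (c21.trans (hcardmap L₁).ge)
    have E2 : L₂.map (MulAut.conj n).toMonoidHom = L₁ :=
      Subgroup.eq_of_le_of_card_ge h2 (c12.trans (hcardmap L₂).ge)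
    refine ⟨E1, ?_, ?_⟩
    · have hc12 : Nat.card L₁ = Nat.card L₂ := le_antisymm c12 c21
      rw [Nat.card_congr e₁.toEquiv, Nat.card_congr e₂.toEquiv, CfsgLib.SL2C.card_SL2_mul,
        CfsgLib.SL2C.card_SL2_mul] at hc12
      have mono : ∀ a b : ℕ, 2 ≤ a → a < b → a * (a ^ 2 - 1) < b * (b ^ 2 - 1) := by
        intro a b ha hab
        have h3 : a ^ 2 - 1 ≤ b ^ 2 - 1 := Nat.sub_le_sub_right (Nat.pow_le_pow_left hab.le 2) 1
        have h4 : 1 ≤ a ^ 2 - 1 := by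
          have := Nat.pow_le_pow_left ha 2
          omega
        exact Nat.mul_lt_mul_of_lt_of_le hab h3 (by omega)
      rcases lt_trichotomy (Fintype.card F₁) (Fintype.card F₂) with h | h | h
      · exact absurd hc12 (mono _ _ Fintype.one_lt_card h).ne
      · exact h
      · exact absurd hc12 (mono _ _ Fintype.one_lt_card h).ne'
    · -- adjust `n` by an element of `L₁`
      have hsq : n * n ∈ P := by
        have hnS : (⟨n, hn⟩ : C) * ⟨n, hn⟩ ∈ P.subgroupOf C :=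
          Subgroup.mul_self_mem_of_index_two hi _
        exact hnS
      obtain ⟨a, ha, b, hb, hab⟩ := (mem_sup_iff_mul L₁ L₂ hc).mp hsq
      have hl : n * b⁻¹ * n⁻¹ ∈ L₁ := E2 ▸ ⟨b⁻¹, L₂.inv_mem hb, rfl⟩
      set l := n * b⁻¹ * n⁻¹ with hldef
      have hlP : l ∈ P := Subgroup.mem_sup_left hl
      refine ⟨n * l, C.mul_mem hn (hle hlP), fun h => hn' ?_, ?_, ?_⟩
      · have := P.mul_mem h (P.inv_mem hlP)
        rwa [mul_inv_cancel_right] at this
      · apply Subgroup.eq_of_le_of_card_ge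
        · rintro _ ⟨v, hv, rfl⟩
          rw [← E1]
          exact ⟨l * v * l⁻¹, L₁.mul_mem (L₁.mul_mem hl hv) (L₁.inv_mem hl),
            by show n * (l * v * l⁻¹) * n⁻¹ = n * l * v * (n * l)⁻¹; group⟩
        · rw [Subgroup.card_map_of_injective (MulAut.conj (n * l)).injective]
          exact c21
      · have hval : (n * l) ^ 2 = a * l := by
          calc (n * l) ^ 2 = (n * n) * (n⁻¹ * l * n) * l := by rw [sq]; group
            _ = a * b * b⁻¹ * l := by rw [← hab, hldef]; group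
            _ = a * l := by group
        have hmem1 : (n * l) ^ 2 ∈ L₁ := hval ▸ L₁.mul_mem ha hl
        rw [← hm]
        refine ⟨hmem1, ?_⟩
        have : n * (l * (n * l) ^ 2 * l⁻¹) * n⁻¹ ∈ L₂ := by
          rw [← E1]
          exact ⟨_, L₁.mul_mem (L₁.mul_mem hl hmem1) (L₁.inv_mem hl), rfl⟩
        rwa [show n * (l * (n * l) ^ 2 * l⁻¹) * n⁻¹ = n * l * (n * l) ^ 2 * (n * l)⁻¹ by
          simp [mul_assoc], ← pow_succ', pow_succ, mul_inv_cancel_right] at this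
  · exact absurd (le_sup_left.trans (hboth L₂ h1 h2)) hL12

end Cfsg.Agent.S3210
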