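import Cfsg.Statements.S3211
import Cfsg.Agent.S3209
import Cfsg.Agent.SL2C.Basic
import Cfsg.Agent.Invol.SL2Factors
import Cfsg.Agent.ZStar.Final
import Cfsg.Agent.Invol.Isolated
import Cfsg.Agent.Solvable.Basics
-- import your own Cfsg.Agent.* helpers here

set_option autoImplicit false
open Cfsg

namespace Cfsg.Agent.S3211

variable {G : Type*} [Group G]

/-- In a copy of SL₂, two elements with the same square `q`, where `q` squares to the central
involution `j`, differ at most by `j`. -/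
theorem roots_eq {F : Type*} [Field F] [Fintype F] (hF : Odd (Fintype.card F)) (L : Subgroup G)
    (e : L ≃* Matrix.SpecialLinearGroup (Fin 2) F) {j : G} (hj : orderOf j = 2) (hjL : j ∈ L)
    {q : G} (hq : q * q = j) {a a' : G} (ha : a ∈ L) (ha' : a' ∈ L)
    (h : a * a = q) (h' : a' * a' = q) : a' = a ∨ a' = a * j := by
  obtain ⟨huniq, -⟩ := S3209.side hF L e hj hjL
  have hqL : q ∈ L := h ▸ L.mul_mem ha ha
  have hj1 : j ≠ 1 := fun h => by rw [h, orderOf_one] at hj; omega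
  have hnc : e ⟨q, hqL⟩ ∉ Subgroup.center (Matrix.SpecialLinearGroup (Fin 2) F) := by
    intro hc
    have hsq : e ⟨q, hqL⟩ * e ⟨q, hqL⟩ = 1 := by
      rcases CfsgLib.SL2Factors.central_eq hc with h1 | h1 <;> simp [h1]
    rw [← map_mul, ← map_one e] at hsq
    exact hj1 (hq.symm.trans (congrArg Subtype.val (e.injective hsq)))
  have hcm : ∀ b : G, ∀ hb : b ∈ L, b * b = q →
      e ⟨q, hqL⟩ * e ⟨b, hb⟩ = e ⟨b, hb⟩ * e ⟨q, hqL⟩ := by
    intro b hb hbq
    rw [← map_mul, ← map_mul]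
    exact congrArg e (Subtype.ext (show q * b = b * q by rw [← hbq, mul_assoc]))
  have hcomm : a * a' = a' * a := by
    have := CfsgLib.SL2C.commute_of_commute hnc (hcm a ha h) (hcm a' ha' h')
    rw [← map_mul, ← map_mul] at this
    exact congrArg Subtype.val (e.injective this)
  have hsq : (a⁻¹ * a') * (a⁻¹ * a') = 1 := by
    have hc : Commute a⁻¹ a' := (show Commute a a' from hcomm).inv_left
    calc (a⁻¹ * a') * (a⁻¹ * a') = a⁻¹ * (a' * a⁻¹) * a' := by group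
      _ = a⁻¹ * (a⁻¹ * a') * a' := by rw [hc.eq]
      _ = a⁻¹ * a⁻¹ * (a' * a') := by group
      _ = 1 := by rw [h', ← h]; group
  rcases huniq _ (L.mul_mem (L.inv_mem ha) ha') hsq with e1 | e1
  · exact Or.inl (inv_mul_eq_one.mp e1).symm
  · exact Or.inr (eq_mul_of_inv_mul_eq e1)

variable (L₁ L₂ : Subgroup G)

theorem mem_sup_decomp (hc : ∀ x ∈ L₁, ∀ y ∈ L₂, x * y = y * x) {g : G} (hg : g ∈ L₁ ⊔ L₂) :
    ∃ a ∈ L₁, ∃ b ∈ L₂, a * b = g := by
  let K : Subgroup G :=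
    { carrier := {g | ∃ a ∈ L₁, ∃ b ∈ L₂, a * b = g}
      one_mem' := ⟨1, L₁.one_mem, 1, L₂.one_mem, one_mul 1⟩
      mul_mem' := by
        rintro _ _ ⟨a, ha, b, hb, rfl⟩ ⟨a', ha', b', hb', rfl⟩
        refine ⟨a * a', L₁.mul_mem ha ha', b * b', L₂.mul_mem hb hb', ?_⟩
        calc a * a' * (b * b') = a * (a' * b) * b' := by group
          _ = a * b * (a' * b') := by rw [hc a' ha' b hb]; group
      inv_mem' := by
        rintro _ ⟨a, ha, b, hb, rfl⟩
        exact ⟨a⁻¹, L₁.inv_mem ha, b⁻¹, L₂.inv_mem hb, by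
          rw [hc _ (L₁.inv_mem ha) _ (L₂.inv_mem hb), mul_inv_rev]⟩ }
  exact (sup_le (fun a ha => ⟨a, ha, 1, L₂.one_mem, mul_one a⟩)
    (fun b hb => ⟨1, L₁.one_mem, b, hb, one_mul b⟩) : L₁ ⊔ L₂ ≤ K) hg

variable {F₁ : Type*} [Field F₁] [Fintype F₁] {F₂ : Type*} [Field F₂] [Fintype F₂]

/-- `L₁L₂ = Y` with index two in `C(j)` and `n` swapping the factors with `n² = j`: then `j` is isolated. -/
theorem isolated [Finite G] (hF₁ : Odd (Fintype.card F₁)) (hF₂ : Odd (Fintype.card F₂))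
    (e₁ : ↥L₁ ≃* Matrix.SpecialLinearGroup (Fin 2) F₁) (e₂ : ↥L₂ ≃* Matrix.SpecialLinearGroup (Fin 2) F₂)
    (hc : ∀ x ∈ L₁, ∀ y ∈ L₂, x * y = y * x) (j : G) (hj : orderOf j = 2) (hm : L₁ ⊓ L₂ = Subgroup.zpowers j)
    (hle : L₁ ⊔ L₂ ≤ Subgroup.centralizer ({j} : Set G))
    (hi : (L₁ ⊔ L₂).relIndex (Subgroup.centralizer ({j} : Set G)) = 2) (n : G)
    (hn : n ∈ Subgroup.centralizer ({j} : Set G)) (hn2 : n ^ 2 = j)
    (hswap : L₁.map (MulAut.conj n).toMonoidHom = L₂) : Cfsg.IsIsolatedInvolution j := by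
  have hjm : j ∈ L₁ ⊓ L₂ := hm ▸ Subgroup.mem_zpowers j
  have hjj : j * j = 1 := by rw [← sq, ← hj, pow_orderOf_eq_one]
  have hji : j⁻¹ = j := inv_eq_of_mul_eq_one_right hjj
  have hj1 : j ≠ 1 := fun h => by rw [h, orderOf_one] at hj; omega
  have hint : ∀ g, g ∈ L₁ → g ∈ L₂ → g = 1 ∨ g = j := by
    intro g h1 h2
    have hgm : g ∈ L₁ ⊓ L₂ := ⟨h1, h2⟩
    rw [hm] at hgm
    obtain ⟨i, rfl⟩ := Subgroup.mem_zpowers_iff.mp hgm
    rcases Int.even_or_odd i with ⟨k, rfl⟩ | ⟨k, rfl⟩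
    · left; rw [← two_mul, _root_.zpow_mul, zpow_two, hjj, one_zpow]
    · right; rw [zpow_add, _root_.zpow_mul, zpow_two, hjj, one_zpow, one_mul, zpow_one]
  have hintsq : ∀ g, g ∈ L₁ → g ∈ L₂ → g * g = 1 := fun g h1 h2 => by
    rcases hint g h1 h2 with h | h
    · rw [h, one_mul]
    · rw [h, hjj]
  have hC : ∀ {g : G}, g ∈ Subgroup.centralizer ({j} : Set G) ↔ g * j = j * g :=
    Subgroup.mem_centralizer_singleton_iff
  set C := Subgroup.centralizer ({j} : Set G) with hCdef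
  set Y := L₁ ⊔ L₂ with hYdef
  have hY₁ : L₁ ≤ Y := le_sup_left
  have hY₂ : L₂ ≤ Y := le_sup_right
  have hdec : ∀ {g : G}, g ∈ Y → ∃ a ∈ L₁, ∃ b ∈ L₂, a * b = g := fun hg => mem_sup_decomp L₁ L₂ hc hg
  obtain ⟨-, x, hx, hxj, -⟩ := S3209.side hF₁ L₁ e₁ hj hjm.1
  have hnn : n * n = j := by rw [← sq]; exact hn2
  have s1 : ∀ a ∈ L₁, n * a * n⁻¹ ∈ L₂ := fun a ha => by
    rw [← hswap]; exact ⟨a, ha, rfl⟩
  have inv' : ∀ a : G, a * j = j * a → n * (n * a * n⁻¹) * n⁻¹ = a := by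
    intro a ha
    calc n * (n * a * n⁻¹) * n⁻¹ = (n * n) * a * (n * n)⁻¹ := by group
      _ = a := by rw [hnn, ← ha, mul_inv_cancel_right]
  have s2 : ∀ b ∈ L₂, n * b * n⁻¹ ∈ L₁ := by
    intro b hb
    have hb' : b ∈ L₁.map (MulAut.conj n).toMonoidHom := hswap.symm ▸ hb
    obtain ⟨a, ha, rfl⟩ := hb'
    simp only [MulEquiv.coe_toMonoidHom, MulAut.conj_apply]
    rw [inv' a (hC.mp (hle (hY₁ ha)))]; exact ha
  have hnY : n ∉ Y := by
    intro h
    obtain ⟨a, ha, b, hb, hab⟩ := hdec h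
    have h2 : n * x * n⁻¹ ∈ L₁ := by
      have : n * x * n⁻¹ = a * x * a⁻¹ := by
        rw [← hab]
        calc a * b * x * (a * b)⁻¹ = a * (b * x) * b⁻¹ * a⁻¹ := by group
          _ = a * x * a⁻¹ := by rw [← hc x hx b hb]; group
      rw [this]; exact L₁.mul_mem (L₁.mul_mem ha hx) (L₁.inv_mem ha)
    have h3 := hintsq _ h2 (s1 x hx)
    have h4 : n * (x * x) * n⁻¹ = 1 := by rw [← h3]; group
    rw [hxj] at h4
    exact hj1 (conj_eq_one_iff.mp h4)
  have hcoset : ∀ g ∈ C, g ∉ Y → g * n⁻¹ ∈ Y := by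
    intro g hg hgY
    have h2 : (Y.subgroupOf C).index = 2 := hi
    have := Subgroup.mul_mem_iff_of_index_two h2 (a := ⟨g, hg⟩) (b := (⟨n, hn⟩ : C)⁻¹)
    simp only [Subgroup.mem_subgroupOf, Subgroup.coe_mul, Subgroup.coe_inv, inv_mem_iff] at this
    exact this.mpr ⟨fun h => absurd h hgY, fun h => absurd h hnY⟩
  have hsq : ∀ a ∈ L₁, ∀ b ∈ L₂, (a * b * n) * (a * b * n) =
      (a * (n * b * n⁻¹)) * (b * (n * a * n⁻¹)) * j := by
    intro a ha b hb
    have e1 := hc _ (s2 b hb) _ (L₂.mul_mem hb (s1 a ha))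
    calc (a * b * n) * (a * b * n) = a * ((b * (n * a * n⁻¹)) * (n * b * n⁻¹)) * (n * n) := by group
      _ = _ := by rw [← e1, hnn]; group
  -- the two components of the square of `a b n`
  have hcc : ∀ a : G, ∀ b ∈ L₂, b * (n * a * n⁻¹) = b * (n * (a * (n * b * n⁻¹)) * n⁻¹) * b⁻¹ := by
    intro a b hb
    have := inv' b (hC.mp (hle (hY₂ hb)))
    calc b * (n * a * n⁻¹) = b * ((n * a * n⁻¹) * (n * (n * b * n⁻¹) * n⁻¹)) * b⁻¹ := by rw [this]; group
      _ = _ := by group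
  have hfix : ∀ c, c ∈ L₁ → c ∈ L₂ → ∀ b ∈ L₂, b * (n * c * n⁻¹) * b⁻¹ = c := by
    intro c h1 h2 b hb
    have hnc : n * c * n⁻¹ = c := by
      rcases hint c h1 h2 with h | h
      · rw [h]; group
      · rw [h, hC.mp hn, mul_inv_cancel_right]
    rw [hnc, ← hc c h1 b hb, mul_inv_cancel_right]
  -- every involution of the centralizer lies in Y
  have hinv : ∀ v ∈ C, v * v = 1 → v ∈ Y := by
    intro v hv hvv
    by_contra hvY
    obtain ⟨a, ha, b, hb, hab⟩ := hdec (hcoset v hv hvY)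
    have hv' : v = a * b * n := by rw [hab]; group
    rw [hv', hsq a ha b hb] at hvv
    have hc1 : a * (n * b * n⁻¹) ∈ L₁ := L₁.mul_mem ha (s2 b hb)
    have hc2 : b * (n * a * n⁻¹) ∈ L₂ := L₂.mul_mem hb (s1 a ha)
    have hc12 : a * (n * b * n⁻¹) ∈ L₂ := by
      have : a * (n * b * n⁻¹) = j⁻¹ * (b * (n * a * n⁻¹))⁻¹ := by
        rw [mul_assoc] at hvv
        rw [eq_inv_of_mul_eq_one_left hvv, mul_inv_rev]
      rw [this]; exact L₂.mul_mem (L₂.inv_mem hjm.2) (L₂.inv_mem hc2)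
    rw [hcc a b hb, hfix _ hc1 hc12 b hb, hintsq _ hc1 hc12, one_mul] at hvv
    exact hj1 hvv
  -- the second class of involutions
  set y := n * x * n⁻¹ with hydef
  have hy : y ∈ L₂ := s1 x hx
  have hyj : y * y = j := by
    calc y * y = n * (x * x) * n⁻¹ := by rw [hydef]; group
      _ = j := by rw [hxj, hC.mp hn, mul_inv_cancel_right]
  have hxy : x * y = y * x := hc x hx y hy
  have hny : n * y * n⁻¹ = x := inv' x (hC.mp (hle (hY₁ hx)))
  obtain ⟨u, hudef⟩ : ∃ u, u = x * y := ⟨_, rfl⟩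
  have huu : u * u = 1 := by
    calc u * u = x * (y * x) * y := by rw [hudef]; group
      _ = x * x * (y * y) := by rw [← hxy]; group
      _ = 1 := by rw [hxj, hyj, hjj]
  have hxL₂ : x ∉ L₂ := fun h => hj1 (by rw [← hxj]; exact hintsq x hx h)
  have hyL₁ : y ∉ L₁ := fun h => hj1 (by rw [← hyj]; exact hintsq y h hy)
  have hu1 : u ≠ 1 := fun h => hxL₂ (by rw [eq_inv_of_mul_eq_one_left (hudef ▸ h : x * y = 1)]; exact L₂.inv_mem hy)
  have huj : u ≠ j := fun h => hxL₂ (by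
    rw [eq_mul_inv_of_mul_eq (hudef ▸ h : x * y = j)]
    exact L₂.mul_mem hjm.2 (L₂.inv_mem hy))
  have huY : u ∈ Y := hudef.symm ▸ Y.mul_mem (hY₁ hx) (hY₂ hy)
  have hju : Commute j u := (hC.mp (hle huY)).symm
  have hjuju : j * u * (j * u) = 1 := by
    calc j * u * (j * u) = j * (u * j) * u := by group
      _ = 1 := by rw [← hju.eq, ← mul_assoc, hjj, one_mul, huu]
  have hju1 : j * u ≠ 1 := fun h => huj (by rw [eq_inv_of_mul_eq_one_right h, hji])
  obtain ⟨x₀, -, -, -, hcls⟩ := S3209.result hF₁ hF₂ L₁ L₂ e₁ e₂ hc j hj hm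
  have ho : ∀ w : G, w * w = 1 → w ≠ 1 → orderOf w = 2 := fun w h1 h2 =>
    orderOf_eq_prime (by rw [sq]; exact h1) h2
  have hconj : ∀ v ∈ C, v * v = 1 → v ≠ 1 → v ≠ j → ∃ k ∈ Y, k * u * k⁻¹ = v := by
    intro v hv hvv hv1 hvj
    obtain ⟨g₁, hg₁, e1⟩ := (hcls u huY (ho u huu hu1)).resolve_left huj
    obtain ⟨g₂, hg₂, e2⟩ := (hcls v (hinv v hv hvv) (ho v hvv hv1)).resolve_left hvj
    refine ⟨g₂ * g₁⁻¹, Y.mul_mem hg₂ (Y.inv_mem hg₁), ?_⟩
    rw [← e1, ← e2]; group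
  refine ⟨hj, fun g₀ hg₀ => ?_⟩
  by_contra hne
  -- `u` is then conjugate to `j`
  obtain ⟨g, hg⟩ : ∃ g : G, g * j * g⁻¹ = u := by
    obtain ⟨k, -, hk⟩ := hconj (g₀ * j * g₀⁻¹) (hC.mpr hg₀.eq.symm)
      (by calc g₀ * j * g₀⁻¹ * (g₀ * j * g₀⁻¹) = g₀ * (j * j) * g₀⁻¹ := by group
            _ = 1 := by rw [hjj]; group)
      (fun h => hj1 (conj_eq_one_iff.mp h)) hne
    refine ⟨k⁻¹ * g₀, ?_⟩
    calc k⁻¹ * g₀ * j * (k⁻¹ * g₀)⁻¹ = k⁻¹ * (g₀ * j * g₀⁻¹) * k := by group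
      _ = u := by rw [← hk]; group
  -- an element of `C(u)` moving `j` to `ju`
  obtain ⟨h, hhu, hhj⟩ : ∃ h : G, h * u * h⁻¹ = u ∧ h * j * h⁻¹ = j * u := by
    let f := (MulAut.conj g⁻¹).toMonoidHom
    have hf : ∀ v, f v = g⁻¹ * v * g := fun v => by simp [f]
    have hfu : f u = j := by rw [hf, ← hg]; group
    have hmem : ∀ v, Commute v u → f v ∈ C := fun v hv => hC.mpr (by
      have := hv.map f
      rw [hfu] at this
      exact this.eq)
    have hfi : Function.Injective f := (MulAut.conj g⁻¹).injective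
    have hex : ∀ v, Commute v u → v * v = 1 → v ≠ 1 → v ≠ u → ∃ k ∈ Y, k * u * k⁻¹ = f v :=
      fun v h1 h2 h3 h4 => hconj _ (hmem v h1) (by rw [← map_mul, h2, map_one])
        (fun h => h3 (hfi (h.trans (map_one f).symm))) (fun h => h4 (hfi (h.trans hfu.symm)))
    obtain ⟨k₁, hk₁, ek₁⟩ := hex j hju hjj hj1 huj.symm
    obtain ⟨k₂, hk₂, ek₂⟩ := hex (j * u) (hju.mul_left (Commute.refl u)) hjuju hju1
      (fun h => hj1 (mul_eq_right.mp h))
    rw [hf] at ek₁ ek₂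
    have hk : ∀ k ∈ Y, g * k * g⁻¹ * u * (g * k * g⁻¹)⁻¹ = u := by
      intro k hk
      have := hC.mp (hle hk)
      calc g * k * g⁻¹ * u * (g * k * g⁻¹)⁻¹ = g * (k * j) * k⁻¹ * g⁻¹ := by rw [← hg]; group
        _ = u := by rw [this, ← hg]; group
    refine ⟨g * (k₂ * k₁⁻¹) * g⁻¹, hk _ (Y.mul_mem hk₂ (Y.inv_mem hk₁)), ?_⟩
    calc g * (k₂ * k₁⁻¹) * g⁻¹ * j * (g * (k₂ * k₁⁻¹) * g⁻¹)⁻¹
        = g * (k₂ * (k₁⁻¹ * (g⁻¹ * j * g) * k₁) * k₂⁻¹) * g⁻¹ := by group
      _ = g * (k₂ * u * k₂⁻¹) * g⁻¹ := by rw [← ek₁]; group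
      _ = j * u := by rw [ek₂]; group
  obtain ⟨k, hkY, hk⟩ := hconj (j * u) (hC.mpr ((Commute.refl j).mul_right hju).eq.symm) hjuju hju1
    (fun h => hu1 (mul_eq_left.mp h))
  set w := k⁻¹ * h with hwdef
  have hkj := hC.mp (hle hkY)
  have hwj : w * j * w⁻¹ = u := by
    calc w * j * w⁻¹ = k⁻¹ * (h * j * h⁻¹) * k := by rw [hwdef]; group
      _ = u := by rw [hhj, ← hk]; group
  have hwju : w * (j * u) * w⁻¹ = j := by
    calc w * (j * u) * w⁻¹ = k⁻¹ * ((h * j * h⁻¹) * (h * u * h⁻¹)) * k := by rw [hwdef]; group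
      _ = k⁻¹ * j * k := by rw [hhj, hhu, mul_assoc j u u, huu, mul_one]
      _ = j := by rw [mul_assoc, ← hkj, inv_mul_cancel_left]
  -- square roots in the centralizer of the four-group
  let R : G → Set G := fun v => {d | Commute d j ∧ Commute d u ∧ d * d = v}
  have h1 : (R j).ncard ≤ (R u).ncard := by
    refine Set.ncard_le_ncard_of_injOn (fun d => w * d * w⁻¹) ?_ ?_ (Set.toFinite _)
    · rintro d ⟨hdj, hdu, hdd⟩
      refine ⟨?_, ?_, ?_⟩
      · have hh := (hdj.mul_right hdu).map (MulAut.conj w).toMonoidHom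
        simp only [MulEquiv.coe_toMonoidHom, MulAut.conj_apply] at hh
        rwa [hwju] at hh
      · have hh := hdj.map (MulAut.conj w).toMonoidHom
        simp only [MulEquiv.coe_toMonoidHom, MulAut.conj_apply] at hh
        rwa [hwj] at hh
      · calc w * d * w⁻¹ * (w * d * w⁻¹) = w * (d * d) * w⁻¹ := by group
          _ = u := by rw [hdd, hwj]
    · intro d _ d' _ hdd
      simpa using hdd
  have hRC : ∀ {v d}, d ∈ R v → d ∈ C := fun hd => hC.mpr hd.1.eq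
  have hxu : Commute x u := hudef.symm ▸ (Commute.refl x).mul_right hxy
  have hyu : Commute y u := hudef.symm ▸ (show Commute y x from hxy.symm).mul_right (Commute.refl y)
  have hxjc : Commute x j := hC.mp (hle (hY₁ hx))
  have hyjc : Commute y j := hC.mp (hle (hY₂ hy))
  have hnu : Commute n u := by
    show n * u = u * n
    calc n * u = (n * x * n⁻¹) * (n * y * n⁻¹) * n := by rw [hudef]; group
      _ = u * n := by rw [hny, ← hydef, ← hxy, hudef]
  -- outer part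
  have h2 : (R u \ (Y : Set G)).ncard < (R j \ (Y : Set G)).ncard := by
    have him : ∀ d ∈ R u \ (Y : Set G), x⁻¹ * d ∈ (R j \ (Y : Set G)) \ {n} := by
      rintro d ⟨hd, hdY⟩
      refine ⟨⟨⟨hxjc.inv_left.mul_left hd.1, hxu.inv_left.mul_left hd.2.1, ?_⟩, fun h => hdY ?_⟩,
        fun h => ?_⟩
      · obtain ⟨a, ha, b, hb, hab⟩ := hdec (hcoset d (hRC hd) hdY)
        have hd' : d = a * b * n := by rw [hab]; group
        have hdd := hd.2.2
        rw [hd', hsq a ha b hb] at hdd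
        have hc1 : a * (n * b * n⁻¹) ∈ L₁ := L₁.mul_mem ha (s2 b hb)
        have hc2 : b * (n * a * n⁻¹) ∈ L₂ := L₂.mul_mem hb (s1 a ha)
        have hz1 : x⁻¹ * (a * (n * b * n⁻¹)) ∈ L₁ := L₁.mul_mem (L₁.inv_mem hx) hc1
        have hz2 : x⁻¹ * (a * (n * b * n⁻¹)) ∈ L₂ := by
          have hz : x⁻¹ * (a * (n * b * n⁻¹)) = y * j⁻¹ * (b * (n * a * n⁻¹))⁻¹ := by
            calc x⁻¹ * (a * (n * b * n⁻¹))
                = x⁻¹ * (a * (n * b * n⁻¹) * (b * (n * a * n⁻¹)) * j) * j⁻¹ * (b * (n * a * n⁻¹))⁻¹ := by group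
              _ = _ := by rw [hdd, hudef]; group
          rw [hz]
          exact L₂.mul_mem (L₂.mul_mem hy (L₂.inv_mem hjm.2)) (L₂.inv_mem hc2)
        have hxd : x⁻¹ * d = (x⁻¹ * a) * b * n := by rw [hd']; group
        rw [hxd, hsq _ (L₁.mul_mem (L₁.inv_mem hx) ha) b hb, hcc _ b hb,
          mul_assoc x⁻¹ a, hfix _ hz1 hz2 b hb, hintsq _ hz1 hz2, one_mul]
      · simpa using Y.mul_mem (hY₁ hx) h
      · have hd' : d = x * n := by rw [← (show x⁻¹ * d = n from h)]; group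
        have := hd.2.2
        rw [hd'] at this
        have e3 : x * n * (x * n) = u * j := by
          calc x * n * (x * n) = x * (n * x * n⁻¹) * (n * n) := by group
            _ = u * j := by rw [hnn, hudef]
        rw [e3] at this
        exact hj1 (mul_eq_left.mp this)
    have hnR : n ∈ R j \ (Y : Set G) := ⟨⟨hC.mp hn, hnu, hnn⟩, hnY⟩
    calc (R u \ (Y : Set G)).ncard ≤ ((R j \ (Y : Set G)) \ {n}).ncard :=
          Set.ncard_le_ncard_of_injOn (fun d => x⁻¹ * d) him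
            (fun d _ d' _ h => mul_left_cancel h) (Set.toFinite _)
      _ < (R j \ (Y : Set G)).ncard := Set.ncard_sdiff_singleton_lt_of_mem hnR (Set.toFinite _)
  -- inner part
  have h3 : 4 ≤ (R j ∩ (Y : Set G)).ncard := by
    classical
    have d1 : x ≠ x * j := fun h => hj1 (mul_eq_left.mp h.symm)
    have d2 : y ≠ y * j := fun h => hj1 (mul_eq_left.mp h.symm)
    have d3 : x ≠ y := fun h => hxL₂ (h ▸ hy)
    have d4 : x ≠ y * j := fun h => hxL₂ (h ▸ L₂.mul_mem hy hjm.2)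
    have d5 : x * j ≠ y := fun h => hyL₁ (h ▸ L₁.mul_mem hx hjm.1)
    have d6 : x * j ≠ y * j := fun h => d3 (mul_right_cancel h)
    have hroot : ∀ q, q ∈ Y → Commute q j → Commute q u → q * q = j →
        q * j ∈ R j ∩ (Y : Set G) := by
      intro q hqY hqj hqu hqq
      refine ⟨⟨hqj.mul_left (Commute.refl j), hqu.mul_left hju, ?_⟩, Y.mul_mem hqY (hY₁ hjm.1)⟩
      calc q * j * (q * j) = q * (j * q) * j := by group
        _ = j := by rw [← hqj.eq, ← mul_assoc, hqq, hjj, one_mul]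
    have hsub : (↑({x, x * j, y, y * j} : Finset G) : Set G) ⊆ R j ∩ (Y : Set G) := by
      intro d hd
      simp only [Finset.coe_insert, Finset.coe_singleton, Set.mem_insert_iff, Set.mem_singleton_iff] at hd
      rcases hd with hd | hd | hd | hd <;> rw [hd]
      · exact ⟨⟨hxjc, hxu, hxj⟩, hY₁ hx⟩
      · exact hroot x (hY₁ hx) hxjc hxu hxj
      · exact ⟨⟨hyjc, hyu, hyj⟩, hY₂ hy⟩
      · exact hroot y (hY₂ hy) hyjc hyu hyj
    have hcard : ({x, x * j, y, y * j} : Finset G).card = 4 := by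
      rw [Finset.card_insert_of_notMem (by simp [d1, d3, d4]),
        Finset.card_insert_of_notMem (by simp [d5, d6]),
        Finset.card_insert_of_notMem (by simp [d2]), Finset.card_singleton]
    calc 4 = (↑({x, x * j, y, y * j} : Finset G) : Set G).ncard := by
          rw [Set.ncard_coe_finset, hcard]
      _ ≤ _ := Set.ncard_le_ncard hsub (Set.toFinite _)
  have h4 : (R u ∩ (Y : Set G)).ncard ≤ 4 := by
    let S : G → Set G := fun z => {d | ∃ a ∈ L₁, ∃ b ∈ L₂, a * b = d ∧ a * a = x * z ∧ b * b = y * z}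
    have hS : ∀ z, (z = 1 ∨ z = j) → (S z).ncard ≤ 2 := by
      intro z hz
      rcases Set.eq_empty_or_nonempty (S z) with he | ⟨d₀, a, ha, b, hb, hd₀, h₁, h₂⟩
      · rw [he, Set.ncard_empty]; omega
      · have hzq : ∀ q : G, Commute q j → q * q = j → q * z * (q * z) = j := by
          intro q hqj hq
          rcases hz with hz | hz <;> rw [hz]
          · simp [hq]
          · calc q * j * (q * j) = q * (j * q) * j := by group
              _ = j := by rw [← hqj.eq, ← mul_assoc, hq, hjj, one_mul]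
        have hjb : j * b = b * j := (hC.mp (hle (hY₂ hb))).symm
        have hsub : S z ⊆ {d₀, d₀ * j} := by
          rintro d ⟨a', ha', b', hb', hd, h₁', h₂'⟩
          rw [← hd, ← hd₀]
          rcases roots_eq hF₁ L₁ e₁ hj hjm.1 (hzq x hxjc hxj) ha ha' h₁ h₁' with h | h <;>
            rcases roots_eq hF₂ L₂ e₂ hj hjm.2 (hzq y hyjc hyj) hb hb' h₂ h₂' with h' | h' <;>
              rw [h, h']
          · exact Or.inl rfl
          · exact Or.inr (mul_assoc _ _ _).symm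
          · exact Or.inr (by
              show a * j * b = a * b * j
              rw [mul_assoc, hjb, mul_assoc])
          · exact Or.inl (by
              calc a * j * (b * j) = a * ((j * b) * j) := by group
                _ = a * b := by rw [hjb, mul_assoc b, hjj, mul_one])
        refine (Set.ncard_le_ncard hsub (Set.toFinite _)).trans ?_
        rw [Set.ncard_pair (fun h => hj1 (mul_eq_left.mp h.symm))]
    have hsub : R u ∩ (Y : Set G) ⊆ S 1 ∪ S j := by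
      rintro d ⟨⟨-, -, hdd⟩, hdY⟩
      obtain ⟨a, ha, b, hb, rfl⟩ := hdec hdY
      have e4 : a * a * (b * b) = x * y := by
        calc a * a * (b * b) = a * (a * b) * b := by group
          _ = a * (b * a) * b := by rw [hc a ha b hb]
          _ = a * b * (a * b) := by group
          _ = x * y := hdd.trans hudef
      have e5 : x⁻¹ * (a * a) = y * (b * b)⁻¹ := by
        calc x⁻¹ * (a * a) = x⁻¹ * (a * a * (b * b)) * (b * b)⁻¹ := by group
          _ = y * (b * b)⁻¹ := by rw [e4]; group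
      have hz1 : x⁻¹ * (a * a) ∈ L₁ := L₁.mul_mem (L₁.inv_mem hx) (L₁.mul_mem ha ha)
      have hz2 : x⁻¹ * (a * a) ∈ L₂ := e5 ▸ L₂.mul_mem hy (L₂.inv_mem (L₂.mul_mem hb hb))
      have ha2 : a * a = x * (x⁻¹ * (a * a)) := by group
      rcases hint _ hz1 hz2 with h | h <;> rw [h] at ha2 <;> rw [e5] at h
      · exact Or.inl ⟨a, ha, b, hb, rfl, ha2, by rw [mul_one]; exact (mul_inv_eq_one.mp h).symm⟩
      · refine Or.inr ⟨a, ha, b, hb, rfl, ha2, ?_⟩
        calc b * b = (y * (b * b)⁻¹)⁻¹ * y := by rw [mul_inv_rev, inv_inv, inv_mul_cancel_right]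
          _ = y * j := by rw [h, hji, hyjc.eq]
    have := hS 1 (Or.inl rfl)
    have := hS j (Or.inr rfl)
    have := Set.ncard_le_ncard hsub (Set.toFinite _)
    have := Set.ncard_union_le (S 1) (S j)
    omega
  have e6 := Set.ncard_inter_add_ncard_sdiff_eq_ncard (R u) (Y : Set G) (Set.toFinite _)
  have e7 := Set.ncard_inter_add_ncard_sdiff_eq_ncard (R j) (Y : Set G) (Set.toFinite _)
  omega


/-- Let G be a finite group with subgroups L₁ ≅ SL₂(q₁) and L₂ ≅ SL₂(q₂), q₁ and q₂ odd prime powers, which commute elementwise and meet in ⟨j⟩ for an involution j, and suppose L₁L₂ has index 2 in C_G(j). If some n ∈ C_G(j) with n² = j interchanges L₁ and L₂ under conjugation (so that C_G(j) = L₁L₂⟨n⟩), then G = C_G(j)O(G). -/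
theorem result {G : Type*} [Group G] [Finite G]
    {F₁ : Type*} [Field F₁] [Fintype F₁] {F₂ : Type*} [Field F₂] [Fintype F₂]
    (hF₁ : Odd (Fintype.card F₁)) (hF₂ : Odd (Fintype.card F₂)) (L₁ L₂ : Subgroup G)
    (e₁ : ↥L₁ ≃* Matrix.SpecialLinearGroup (Fin 2) F₁) (e₂ : ↥L₂ ≃* Matrix.SpecialLinearGroup (Fin 2) F₂)
    (hc : ∀ x ∈ L₁, ∀ y ∈ L₂, x * y = y * x) (j : G) (hj : orderOf j = 2) (hm : L₁ ⊓ L₂ = Subgroup.zpowers j)
    (hle : L₁ ⊔ L₂ ≤ Subgroup.centralizer ({j} : Set G)) (hi : (L₁ ⊔ L₂).relIndex (Subgroup.centralizer ({j} : Set G)) = 2) (n : G) (hn : n ∈ Subgroup.centralizer ({j} : Set G))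
    (hn2 : n ^ 2 = j) (hswap : L₁.map (MulAut.conj n).toMonoidHom = L₂) :
    Subgroup.centralizer ({j} : Set G) ⊔ Cfsg.oddCore G = ⊤ := by
  have hiso := isolated L₁ L₂ hF₁ hF₂ e₁ e₂ hc j hj hm hle hi n hn hn2 hswap
  obtain ⟨N, hN, hNodd, hNj⟩ := CfsgLib.ZStar.zstar hiso
  rw [eq_top_iff]
  intro g _
  obtain ⟨m, hm'⟩ := CfsgLib.Invol.isolated_exists_conj hiso g
  set p := (j * (g * j * g⁻¹)) ^ m with hp
  have hjj : j⁻¹ = j := inv_eq_of_mul_eq_one_right (by rw [← sq, ← hj, pow_orderOf_eq_one])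
  have hpN : p ∈ N := by
    refine N.pow_mem ?_ m
    have h1 := hNj g
    rw [hjj] at h1
    have e : j * (g * j * g⁻¹) = j * g * j * g⁻¹ := by group
    rw [e]; exact h1
  have hNle : N ≤ Cfsg.oddCore G :=
    CfsgLib.Solvable.le_pPrimeCore 2 hN (Nat.coprime_two_right.mpr hNodd)
  have hgC : p⁻¹ * g ∈ Subgroup.centralizer ({j} : Set G) := by
    rw [Subgroup.mem_centralizer_singleton_iff]
    calc p⁻¹ * g * j = p⁻¹ * (g * j * g⁻¹) * g := by group
      _ = j * (p⁻¹ * g) := by rw [← hm']; group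
  have : g = p * (p⁻¹ * g) := by group
  rw [this]
  exact Subgroup.mul_mem _ (Subgroup.mem_sup_right (hNle hpN)) (Subgroup.mem_sup_left hgC)

end Cfsg.Agent.S3211
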