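import Cfsg.Statements.S3215
import Cfsg.Agent.Solvable.Fitting
import Cfsg.Agent.Solvable.FpfComplement
import Cfsg.Agent.LocalB.CharP
import Mathlib.RingTheory.ZMod.UnitsCyclic

set_option autoImplicit false
open Cfsg

namespace Cfsg.Agent.S3215

open Subgroup

variable {H : Type*} [Group H] [Finite H]

theorem eq_one_of_odd {G : Type*} [Group G] {g : G} {k : ℕ} (h : g ^ 2 ^ k = 1)
    (hodd : Odd (orderOf g)) : g = 1 := by
  have h1 := orderOf_dvd_of_pow_eq_one h
  rw [← orderOf_eq_one_iff]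
  exact Nat.Coprime.eq_one_of_dvd ((Nat.coprime_two_right.2 hodd).pow_right k) h1

theorem eq_one_of_odd_mem {G : Type*} [Group G] {P : Subgroup G} (hP : IsPGroup 2 P) {g : G}
    (hg : g ∈ P) (hodd : Odd (orderOf g)) : g = 1 := by
  obtain ⟨k, hk⟩ := hP ⟨g, hg⟩
  exact eq_one_of_odd (congrArg Subtype.val hk) hodd

theorem isPGroup_two_zpowers {G : Type*} [Group G] {t : G} (ht : orderOf t = 2) :
    IsPGroup 2 (zpowers t) :=
  IsPGroup.of_card (n := 1) (by rw [Nat.card_zpowers, ht, pow_one])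

/-- An element of odd order commutes with no involution. -/
theorem no_commute [Group.IsSolvable H] (hO : Cfsg.oddCore H = ⊥)
    (hI : ∀ t : H, orderOf t = 2 → Cfsg.HasNormalPComplement 2 ↥(centralizer ({t} : Set H)))
    {x t : H} (hx : Odd (orderOf x)) (ht : orderOf t = 2) (hxt : x * t = t * x) : x = 1 := by
  set Y := Cfsg.pCore 2 H
  have hY : IsPGroup 2 Y := CfsgLib.Solvable.isPGroup_pCore 2
  set C := centralizer ({t} : Set H)
  obtain ⟨P, N, hN, hc⟩ := hI t ht
  have hxC : x ∈ C := mem_centralizer_singleton_iff.2 hxt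
  -- x lies in the complement
  have hxN : (⟨x, hxC⟩ : C) ∈ N := by
    obtain ⟨k, hk⟩ := IsPGroup.iff_card.1 P.isPGroup'
    rw [← QuotientGroup.eq_one_iff]
    refine eq_one_of_odd (k := k) ?_ ?_
    · rw [← hk, ← hc.symm.index_eq_card]
      exact pow_card_eq_one' (G := C ⧸ N)
    · refine Odd.of_dvd_nat hx ?_
      rw [← Subgroup.orderOf_mk x hxC]
      exact orderOf_map_dvd (QuotientGroup.mk' N) _
  have hNodd : Odd (Nat.card N) := by
    rw [← hc.index_eq_card]
    exact Nat.not_even_iff_odd.1 fun h => P.not_dvd_index (even_iff_two_dvd.1 h)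
  -- the complement centralizes `C ∩ Y`
  have hfix : ∀ r ∈ Y, (∀ π ∈ zpowers t, π * r = r * π) → Commute x r := by
    intro r hr hrt
    have hrC : r ∈ C := mem_centralizer_singleton_iff.2 (hrt t (mem_zpowers t)).symm
    have hd : Disjoint N (Y.subgroupOf C) := by
      rw [disjoint_iff, eq_bot_iff]
      rintro g ⟨hgN, hgY⟩
      refine mem_bot.2 (Subtype.ext ?_)
      refine eq_one_of_odd_mem hY hgY ?_
      rw [orderOf_coe]
      exact Odd.of_dvd_nat hNodd (orderOf_dvd_natCard N hgN)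
    exact congrArg Subtype.val
      (commute_of_normal_of_disjoint _ _ hN inferInstance hd ⟨x, hxC⟩ ⟨r, hrC⟩ hxN hr).eq
  have hall := CfsgLib.LocalB.commute_of_pxq (isPGroup_two_zpowers ht) hY
    (fun π _ => normalizer_eq_top (H := Y) ▸ mem_top π) (w := x) (Nat.coprime_two_right.2 hx)
    (normalizer_eq_top (H := Y) ▸ mem_top x)
    (fun π hπ => by
      obtain ⟨k, rfl⟩ := mem_zpowers_iff.1 hπ
      exact ((show Commute x t from hxt).zpow_right k).symm)
    hfix
  refine eq_one_of_odd_mem hY (CfsgLib.Fitting.centralizer_pCore_le hO ?_) hx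
  exact mem_centralizer_iff.2 fun r hr => (hall r hr).symm.eq

theorem no_commute_core [Group.IsSolvable H] (hO : Cfsg.oddCore H = ⊥)
    (hI : ∀ t : H, orderOf t = 2 → Cfsg.HasNormalPComplement 2 ↥(centralizer ({t} : Set H)))
    {x y : H} (hx : Odd (orderOf x)) (hy : y ∈ Cfsg.pCore 2 H) (hy1 : y ≠ 1)
    (hxy : x * y = y * x) : x = 1 := by
  obtain ⟨k, hk⟩ := (CfsgLib.Solvable.isPGroup_pCore 2 : IsPGroup 2 (Cfsg.pCore 2 H)) ⟨y, hy⟩
  have hd : orderOf y ∣ 2 ^ k := orderOf_dvd_of_pow_eq_one (congrArg Subtype.val hk)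
  obtain ⟨j, -, hj⟩ := (Nat.dvd_prime_pow Nat.prime_two).1 hd
  obtain ⟨i, rfl⟩ := Nat.exists_eq_add_one_of_ne_zero (n := j) fun h => by
    rw [h, pow_zero, orderOf_eq_one_iff] at hj
    exact hy1 hj
  refine no_commute hO hI hx (t := y ^ 2 ^ i) ?_ ((show Commute x y from hxy).pow_right _).eq
  rw [orderOf_pow' _ (pow_ne_zero i two_ne_zero), hj,
    Nat.gcd_eq_right (pow_dvd_pow 2 i.le_succ), pow_succ,
    Nat.mul_div_cancel_left _ (pow_pos two_pos i)]

theorem result {H : Type*} [Group H] [Finite H] (hsol : Group.IsSolvable H)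
    (hO : Cfsg.oddCore H = ⊥)
    (hI : ∀ t : H, orderOf t = 2 → Cfsg.HasNormalPComplement 2 ↥(Subgroup.centralizer ({t} : Set H)))
    (X : Subgroup H) (hXodd : Odd (Nat.card X)) (hXidx : ∃ k : ℕ, X.index = 2 ^ k) :
    (∀ x ∈ X, x ≠ 1 → ∀ y ∈ Cfsg.pCore 2 H, y ≠ 1 → x * y ≠ y * x) ∧
      (∀ (p : ℕ) [Fact p.Prime] (P : Sylow p ↥X), IsCyclic ↥(P : Subgroup ↥X)) ∧
      (X ⊔ Cfsg.pCore 2 H).Normal ∧
      ∀ hN : (X ⊔ Cfsg.pCore 2 H).Normal, IsCyclic (H ⧸ (X ⊔ Cfsg.pCore 2 H)) ∧ IsPGroup 2 (H ⧸ (X ⊔ Cfsg.pCore 2 H)) := by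
  haveI := hsol
  set Y := Cfsg.pCore 2 H
  have hY : IsPGroup 2 Y := CfsgLib.Solvable.isPGroup_pCore 2
  have hXo : ∀ x ∈ X, Odd (orderOf x) := fun x hx =>
    Odd.of_dvd_nat hXodd (orderOf_dvd_natCard X hx)
  have hA : ∀ x ∈ X, x ≠ 1 → ∀ y ∈ Y, y ≠ 1 → x * y ≠ y * x :=
    fun x hx hx1 y hy hy1 h => hx1 (no_commute_core hO hI (hXo x hx) hy hy1 h)
  have hB : ∀ (p : ℕ) [Fact p.Prime] (P : Sylow p ↥X), IsCyclic ↥(P : Subgroup ↥X) := by
    intro p _ P
    by_cases hY1 : Y = ⊥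
    · have hY1' : Cfsg.pCore 2 H = ⊥ := hY1
      have h0 : ∀ g : H, g = 1 := fun g => by
        have h1 := CfsgLib.Fitting.centralizer_pCore_le hO
          (show g ∈ centralizer (Cfsg.pCore 2 H : Set H) by
            rw [hY1']; exact mem_centralizer_iff.2 (fun r hr => by
              rw [SetLike.mem_coe, mem_bot] at hr; simp [hr]))
        rw [hY1', mem_bot] at h1
        exact h1
      haveI : Subsingleton H := ⟨fun a b => (h0 a).trans (h0 b).symm⟩
      exact isCyclic_of_subsingleton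
    haveI : Nontrivial Y := (nontrivial_iff_ne_bot Y).2 hY1
    obtain ⟨φ, hφ⟩ := CfsgLib.FpfComplement.exists_fpf (K := Y) (H := X) fun h hh hh1 => by
      rw [eq_bot_iff]
      rintro y ⟨hy, hyc⟩
      by_contra hy1
      exact hA h hh hh1 y hy (fun e => hy1 (mem_bot.2 e))
        (mem_centralizer_singleton_iff.1 hyc).symm
    refine (CfsgLib.FpfComplement.sylow_cyclic_or_quaternion hφ p P).resolve_right ?_
    rintro ⟨-, n, -, ⟨e⟩⟩
    haveI : NeZero (2 ^ n) := ⟨pow_ne_zero n two_ne_zero⟩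
    have h1 : Nat.card (QuaternionGroup (2 ^ n)) = 4 * 2 ^ n := by
      rw [Nat.card_eq_fintype_card, QuaternionGroup.card]
    have h2 := (P : Subgroup X).card_subgroup_dvd_card
    rw [Nat.card_congr e.toEquiv, h1] at h2
    exact Nat.not_even_iff_odd.2 hXodd (even_iff_two_dvd.2 ((dvd_mul_right 4 _).trans h2 |> (dvd_trans ⟨2, rfl⟩)))
  obtain ⟨k, hk⟩ := hXidx
  refine ⟨hA, hB, ?_⟩
  suffices key : ∃ (M : Subgroup H) (g : H), M.Normal ∧ M ≤ X ⊔ Y ∧
      ∀ h : H, ∃ i : ℤ, (g ^ i)⁻¹ * h ∈ M by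
    obtain ⟨M, g, hM, hMle, hgen⟩ := key
    have hgen' : ∀ h : H, ∃ i : ℤ, (h : H ⧸ M) = (g : H ⧸ M) ^ i := fun h => by
      obtain ⟨i, hi⟩ := hgen h
      exact ⟨i, by rw [← QuotientGroup.mk_zpow]; exact (QuotientGroup.eq.2 hi).symm⟩
    refine ⟨⟨fun a ha h => ?_⟩, fun hN => ?_⟩
    · obtain ⟨i, hi⟩ := hgen' h
      obtain ⟨j, hj⟩ := hgen' a
      have h1 : a⁻¹ * (h * a * h⁻¹) ∈ M := by
        rw [← QuotientGroup.eq_one_iff, QuotientGroup.mk_mul, QuotientGroup.mk_inv,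
          QuotientGroup.mk_mul, QuotientGroup.mk_mul, QuotientGroup.mk_inv]
        rw [hi, hj]
        group
      simpa using mul_mem ha (hMle h1)
    · haveI := hN
      refine ⟨⟨⟨(g : H ⧸ (X ⊔ Y)), fun q => ?_⟩⟩, ?_⟩
      · obtain ⟨h, rfl⟩ := QuotientGroup.mk_surjective q
        obtain ⟨i, hi⟩ := hgen h
        exact ⟨i, by
          show ((g : H ⧸ (X ⊔ Y)) ^ i) = _
          rw [← QuotientGroup.mk_zpow]
          exact QuotientGroup.eq.2 (hMle hi)⟩
      · have h1 : (X ⊔ Y).index ∣ 2 ^ k := hk ▸ index_dvd_of_le le_sup_left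
        obtain ⟨j, -, hj⟩ := (Nat.dvd_prime_pow Nat.prime_two).1 h1
        exact IsPGroup.of_card (n := j) hj
  -- the quotient by `Y`
  set π := QuotientGroup.mk' Y with hπ
  have hπs : Function.Surjective π := QuotientGroup.mk'_surjective Y
  have hker : π.ker = Y := QuotientGroup.ker_mk' Y
  by_cases hYtop : Y = ⊤
  · exact ⟨Y, 1, inferInstance, le_sup_right, fun h => ⟨0, hYtop ▸ mem_top _⟩⟩
  have hQ : (⊤ : Subgroup (H ⧸ Y)) ≠ ⊥ := fun e => hYtop <| by
    rw [← hker, MonoidHom.ker_eq_top_iff]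
    exact MonoidHom.ext fun h => mem_bot.1 (e ▸ mem_top (π h))
  obtain ⟨Mb, hMb, hMb1, -, -, -, p, hp, -, hMbp⟩ :=
    CfsgLib.Solvable.exists_normal_elementary_le hQ inferInstance
  haveI := Fact.mk hp
  have hp2 : p ≠ 2 := by
    rintro rfl
    refine hMb1 ?_
    have h1 : Mb.comap π ≤ Y := CfsgLib.Solvable.le_pCore 2 (hMb.comap π)
      (hMbp.comap_of_ker_isPGroup π (hker.symm ▸ hY))
    rw [← map_comap_eq_self_of_surjective hπs Mb, Subgroup.map_eq_bot_iff, hker]
    exact h1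
  set L := Mb.comap π with hL
  haveI hLn : L.Normal := hMb.comap π
  have hYL : Y ≤ L := hker ▸ π.ker_le_comap Mb
  obtain ⟨P⟩ : Nonempty (Sylow p L) := inferInstance
  set P' := (P : Subgroup L).map L.subtype with hP'
  have hP'L : P' ≤ L := map_subtype_le _
  have hrel : Y.relIndex L = Nat.card Mb := by
    calc Y.relIndex L = π.ker.relIndex L := congrArg (fun K : Subgroup H => K.relIndex L) hker.symm
      _ = _ := by rw [relIndex_ker, hL, map_comap_eq_self_of_surjective hπs]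
  -- `L` is generated by `P'` and `Y`
  have hsub : L ≤ P' ⊔ Y := by
    rw [← relIndex_eq_one]
    obtain ⟨e, he⟩ := IsPGroup.iff_card.1 hMbp
    have h1 : (P' ⊔ Y).relIndex L ∣ p ^ e :=
      he ▸ hrel ▸ relIndex_dvd_of_le_left L le_sup_right
    have h2 : (P' ⊔ Y).relIndex L ∣ (P : Subgroup L).index := by
      have : P'.relIndex L = (P : Subgroup L).index := by
        rw [relIndex, hP', subgroupOf, comap_map_eq_self_of_injective L.subtype_injective]
      exact this ▸ relIndex_dvd_of_le_left L le_sup_left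
    exact Nat.Coprime.eq_one_of_dvd
      ((Nat.Coprime.pow_left e (hp.coprime_iff_not_dvd.2 P.not_dvd_index)).coprime_dvd_left h1) h2
  have hPp : IsPGroup p P' := P.isPGroup'.map L.subtype
  have hP'1 : P' ≠ ⊥ := fun e => hMb1 <| by
    rw [← map_comap_eq_self_of_surjective hπs Mb, Subgroup.map_eq_bot_iff, hker]
    simpa [e] using hsub
  have hPodd : ∀ z ∈ P', Odd (orderOf z) := fun z hz => by
    obtain ⟨e, he⟩ := IsPGroup.iff_card.1 hPp
    exact Odd.of_dvd_nat (he ▸ (hp.odd_of_ne_two hp2).pow) (orderOf_dvd_natCard P' hz)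
  haveI hPcyc : IsCyclic P' := by
    obtain ⟨S, hS⟩ := hPp.exists_le_sylow
    obtain ⟨PX⟩ : Nonempty (Sylow p X) := inferInstance
    have hndvd : ¬ p ∣ X.index := fun h =>
      hp2 ((Nat.prime_dvd_prime_iff_eq hp Nat.prime_two).1 (hp.dvd_of_dvd_pow (hk ▸ h)))
    let SX : Sylow p H :=
      (PX.isPGroup'.map X.subtype).toSylow fun h => by
        rw [← relIndex_mul_index (map_subtype_le (PX : Subgroup X)), relIndex, subgroupOf,
          comap_map_eq_self_of_injective X.subtype_injective, hp.dvd_mul] at h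
        exact h.elim PX.not_dvd_index hndvd
    haveI : IsCyclic ((PX : Subgroup X).map X.subtype) :=
      (MulEquiv.isCyclic ((PX : Subgroup X).equivMapOfInjective _ X.subtype_injective)).1
        (hB p PX)
    haveI : IsCyclic SX := this
    haveI : IsCyclic S := (MulEquiv.isCyclic (Sylow.equiv S SX)).2 inferInstance
    exact isCyclic_of_injective (Subgroup.inclusion hS) (Subgroup.inclusion_injective hS)
  set N := normalizer (P' : Set H) with hNdef
  have hNY : N ⊔ Y = ⊤ := by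
    rw [eq_top_iff, ← Sylow.normalizer_sup_eq_top P]
    exact sup_le le_sup_left (hsub.trans (sup_le (le_normalizer.trans le_sup_left) le_sup_right))
  set C := centralizer (P' : Set H) with hCdef
  obtain ⟨z, hz, hz1⟩ := (bot_or_exists_ne_one P').resolve_left hP'1
  have hCodd : Odd (Nat.card C) := by
    rw [← Nat.not_even_iff_odd, even_iff_two_dvd]
    intro h2
    obtain ⟨t, ht⟩ := exists_prime_orderOf_dvd_card' (G := C) 2 h2
    refine hz1 (no_commute hO hI (hPodd z hz) (t := (t : H)) (by rw [orderOf_coe, ht]) ?_)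
    exact mem_centralizer_iff.1 t.2 z hz
  have hNC : ∀ n ∈ N, ∀ c ∈ C, n * c * n⁻¹ ∈ C := fun n hn c hc => by
    refine mem_centralizer_iff.2 fun w hw => ?_
    have h1 : n⁻¹ * w * n ∈ P' := by simpa using (mem_normalizer_iff.1 (inv_mem hn) w).1 hw
    calc w * (n * c * n⁻¹) = n * ((n⁻¹ * w * n) * c) * n⁻¹ := by group
      _ = n * (c * (n⁻¹ * w * n)) * n⁻¹ := by rw [mem_centralizer_iff.1 hc _ h1]
      _ = n * c * n⁻¹ * w := by group
  have hMn : (C ⊔ Y).Normal := by
    rw [← normalizer_eq_top_iff, eq_top_iff, ← hNY]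
    refine sup_le (fun n hn => ?_) (le_sup_right.trans le_normalizer)
    refine CfsgLib.LocalB.mem_normalizer_of_conj_le fun m hm => ?_
    have h1 : MulAut.conj n m ∈ (C ⊔ Y).map (MulAut.conj n).toMonoidHom := mem_map_of_mem _ hm
    rw [Subgroup.map_sup] at h1
    refine (sup_le ?_ ?_ : _ ≤ C ⊔ Y) h1
    · rintro _ ⟨c, hc, rfl⟩
      exact mem_sup_left (hNC n hn c hc)
    · rintro _ ⟨y, hy, rfl⟩
      exact mem_sup_right (Normal.conj_mem inferInstance y hy n)
  have hCle : C ≤ X ⊔ Y := by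
    have hY0 : Y.map π = ⊥ := by rw [Subgroup.map_eq_bot_iff, hker]
    haveI hC' : (C.map π).Normal := by
      have := hMn.map π hπs
      rwa [Subgroup.map_sup, hY0, sup_bot_eq] at this
    set X' := X.map π
    have h1 : X'.relIndex (X' ⊔ C.map π) ∣ 2 ^ k :=
      (relIndex_dvd_index_of_le le_sup_left).trans (hk ▸ X.index_map_dvd hπs)
    have h2 : Odd (Nat.card (X' ⊔ C.map π : Subgroup (H ⧸ Y))) :=
      Odd.of_dvd_nat ((hXodd.of_dvd_nat (card_map_dvd X π)).mul
        (hCodd.of_dvd_nat (card_map_dvd C π)))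
        (CfsgLib.Solvable.card_sup_dvd (le_normalizer_of_normal (H := C.map π)))
    have h3 : C.map π ≤ X' := by
      have h4 : X'.relIndex (X' ⊔ C.map π) = 1 := Nat.eq_one_of_dvd_coprimes
        ((Nat.coprime_two_right.2 h2).pow_right k) (relIndex_dvd_card _ _) h1
      exact le_sup_right.trans (relIndex_eq_one.1 h4)
    calc C ≤ (C.map π).comap π := le_comap_map _ _
      _ ≤ X'.comap π := comap_mono h3
      _ = X ⊔ Y := by rw [comap_map_eq, hker]
  -- the generator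
  haveI : IsCyclic (MulAut P') := by
    obtain ⟨e, he⟩ := IsPGroup.iff_card.1 hPp
    refine (MulEquiv.isCyclic (IsCyclic.mulAutMulEquiv P')).2 ?_
    rw [he]
    exact ZMod.isCyclic_units_of_prime_pow p hp hp2 e
  obtain ⟨⟨σ, g, rfl⟩, hσ⟩ := IsCyclic.exists_generator (α := P'.normalizerMonoidHom.range)
  refine ⟨C ⊔ Y, g, hMn, sup_le hCle le_sup_right, fun h => ?_⟩
  have hh : h ∈ N ⊔ Y := hNY ▸ mem_top h
  obtain ⟨n, hn, y, hy, rfl⟩ := mem_sup_of_normal_right.1 hh
  obtain ⟨i, hi⟩ := mem_zpowers_iff.1 (hσ ⟨_, ⟨n, hn⟩, rfl⟩)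
  have h1 : (g ^ i)⁻¹ * ⟨n, hn⟩ ∈ P'.normalizerMonoidHom.ker := by
    rw [MonoidHom.mem_ker, map_mul, map_inv, map_zpow]
    have := congrArg Subtype.val hi
    rw [SubgroupClass.coe_zpow] at this
    rw [inv_mul_eq_one]
    exact this
  rw [normalizerMonoidHom_ker, mem_subgroupOf] at h1
  refine ⟨i, ?_⟩
  rw [← mul_assoc]
  refine mul_mem (mem_sup_left ?_) (mem_sup_right hy)
  simpa using h1

end Cfsg.Agent.S3215
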