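import Cfsg.Statements.S3219
import Cfsg.Agent.TwoPointA4.Main

set_option autoImplicit false
open Cfsg

namespace Cfsg.Agent.S3219

/-- Let G be a finite doubly transitive permutation group on a set Ω in which the stabilizer of two points is isomorphic to the alternating group A₄. Then Ω has 6 points and G ≅ A₆, or Ω has 15 points and G ≅ A₇, or Ω has 16 points and G is isomorphic to the group of all affine transformations of the affine plane over the field with 4 elements, or G = C_G(J)O(G) for some involution J of G, where O(G) is the largest normal subgroup of G of odd order. -/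
theorem result {G : Type*} [Group G] [Finite G] {Ω : Type*} [Fintype Ω] [MulAction G Ω] [FaithfulSMul G Ω]
    (h2 : MulAction.IsMultiplyPretransitive G Ω 2) (a b : Ω) (hab : a ≠ b)
    (e : ↥(MulAction.stabilizer G a ⊓ MulAction.stabilizer G b) ≃* ↥(alternatingGroup (Fin 4))) :
    (Fintype.card Ω = 6 ∧ Nonempty (G ≃* ↥(alternatingGroup (Fin 6)))) ∨ (Fintype.card Ω = 15 ∧ Nonempty (G ≃* ↥(alternatingGroup (Fin 7)))) ∨
      (Fintype.card Ω = 16 ∧ ∃ (F : Type) (_ : Field F) (_ : Fintype F), Fintype.card F = 4 ∧
        Nonempty (G ≃* ((Fin 2 → F) ≃ᵃ[F] (Fin 2 → F)))) ∨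
      (∃ J : G, orderOf J = 2 ∧ Subgroup.centralizer ({J} : Set G) ⊔ Cfsg.oddCore G = ⊤) := by
  haveI := Fintype.ofFinite G
  have hp : ∀ {p q r s : Ω}, p ≠ q → r ≠ s → ∃ g : G, g • p = r ∧ g • q = s :=
    MulAction.is_two_pretransitive_iff.1 h2
  have D : CfsgLib.TwoPointA4.Hyp G Ω :=
    { trans := fun p q r s hpq hrs => hp hpq hrs
      faithful := fun g hg => eq_of_smul_eq_smul fun x => (hg x).trans (one_smul G x).symm
      iso := fun p q hpq => by
        obtain ⟨g, rfl, rfl⟩ := hp hab hpq
        refine ⟨(MulEquiv.trans ?_ e)⟩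
        refine
          { toFun := fun x => ⟨g⁻¹ * (x : G) * g, ?_, ?_⟩
            invFun := fun x => ⟨g * (x : G) * g⁻¹, ?_, ?_⟩
            left_inv := fun x => Subtype.ext (by simp [mul_assoc])
            right_inv := fun x => Subtype.ext (by simp [mul_assoc])
            map_mul' := fun x y => Subtype.ext (by simp [mul_assoc]) }
        · show (g⁻¹ * (x : G) * g) • a = a
          rw [mul_smul, mul_smul, (x.2.1 : (x : G) • g • a = g • a), inv_smul_smul]
        · show (g⁻¹ * (x : G) * g) • b = b
          rw [mul_smul, mul_smul, (x.2.2 : (x : G) • g • b = g • b), inv_smul_smul]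
        · show (g * (x : G) * g⁻¹) • g • a = g • a
          rw [mul_smul, mul_smul, inv_smul_smul, (x.2.1 : (x : G) • a = a)]
        · show (g * (x : G) * g⁻¹) • g • b = g • b
          rw [mul_smul, mul_smul, inv_smul_smul, (x.2.2 : (x : G) • b = b)]
      nontriv := ⟨a, b, hab⟩ }
  exact D.main hab

end Cfsg.Agent.S3219
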