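import Cfsg.Statements.S3222
import Cfsg.Agent.Recog3222.Main

set_option autoImplicit false
open Cfsg

namespace Cfsg.Agent.S3222

/-- Let G be a finite group of even order such that (1) some involution t lying in the centre of a Sylow 2-subgroup of G has C_G(t) ≅ Z₂ × S₄, and (2) every Sylow 2-subgroup S of G satisfies C_G(S′) = S, where S′ is the derived subgroup of S. Then G = C_G(t) if G is solvable, and G ≅ S₆ otherwise. -/
theorem result {G : Type*} [Group G] [Finite G] (hev : Even (Nat.card G))
    (t : G) (ht : orderOf t = 2) (T : Sylow 2 G) (htT : t ∈ (T : Subgroup G)) (htc : ∀ s ∈ (T : Subgroup G), s * t = t * s)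
    (e : ↥(Subgroup.centralizer ({t} : Set G)) ≃* (Multiplicative (ZMod 2) × Equiv.Perm (Fin 4)))
    (h2 : ∀ S : Sylow 2 G, Subgroup.centralizer ((⁅(S : Subgroup G), (S : Subgroup G)⁆ : Subgroup G) : Set G) = (S : Subgroup G)) :
    (Group.IsSolvable G → Subgroup.centralizer ({t} : Set G) = ⊤) ∧
      (¬ Group.IsSolvable G → Nonempty (G ≃* Equiv.Perm (Fin 6))) := by
  exact CfsgLib.S3222.main ⟨t, ht, T, htT, htc, e, h2⟩

end Cfsg.Agent.S3222
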