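import Cfsg.Statements.S3237
import Cfsg.Agent.ChzL34.FusedIso
import Cfsg.Agent.ChzL34.WKill
import Cfsg.Agent.Invol.IsolatedApps
import Cfsg.Agent.Char.Burnside

set_option autoImplicit false
set_option linter.style.haveILetI false
set_option maxRecDepth 100000
open Cfsg

namespace Cfsg.Agent.S3237

/-- Let G be a finite group of even order with an involution z, H = C_G(z), such that H has a normal subgroup E of order 32 that is extraspecial and contains no elementary abelian subgroup of order 8 (the central product of a dihedral group of order 8 with a quaternion group), C_H(E) ≤ E, and H/E ≅ S₄. Then O(G) is abelian, and if G is not solvable then G is isomorphic to the automorphism group of PGL₃(4). -/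
theorem result {G : Type*} [Group G] [Finite G]
    (hev : Even (Nat.card G)) (z : G) (hz : orderOf z = 2)
    (E : Subgroup ↥(Subgroup.centralizer ({z} : Set G))) [hEn : E.Normal] (hE : Cfsg.IsExtraspecial 2 ↥E) (hE32 : Nat.card ↥E = 32)
    (hEminus : ∀ A : Subgroup ↥E, Cfsg.IsElementaryAbelian 2 A → Nat.card ↥A ≠ 8)
    (hCE : Subgroup.centralizer (E : Set ↥(Subgroup.centralizer ({z} : Set G))) ≤ E)
    (e : (↥(Subgroup.centralizer ({z} : Set G)) ⧸ E) ≃* Equiv.Perm (Fin 4)) {F : Type*} [Field F] [Fintype F] (hF : Fintype.card F = 4) :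
    IsMulCommutative ↥(Cfsg.oddCore G) ∧
      (¬ Group.IsSolvable G → Nonempty (G ≃* MulAut (GL (Fin 3) F ⧸ Subgroup.center (GL (Fin 3) F)))) := by
  classical
  haveI : Fact (Nat.Prime 2) := ⟨Nat.prime_two⟩
  haveI hOn : (Cfsg.oddCore G).Normal := CfsgLib.Solvable.pPrimeCore_normal 2
  have hOodd : Odd (Nat.card (Cfsg.oddCore G)) := CfsgLib.IsoApps.odd_oddCore
  -- the odd core is inverted by `z`
  have hfix : ∀ x ∈ Cfsg.oddCore G, x * z = z * x → x = 1 := by
    intro x hx hxz
    set xc : Subgroup.centralizer ({z} : Set G) := ⟨x, Subgroup.mem_centralizer_singleton_iff.2 hxz⟩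
    have hxord : Odd (orderOf x) := CfsgLib.IsoApps.odd_of_mem_oddCore hx
    have hsmall : ∀ y : Subgroup.centralizer ({z} : Set G), y ∈ E → (y : G) ∈ Cfsg.oddCore G → y = 1 := by
      intro y hyE hyO
      have h1 : Odd (orderOf y) := by
        rw [← Subgroup.orderOf_coe]; exact CfsgLib.IsoApps.odd_of_mem_oddCore hyO
      have h2 : orderOf y ∣ 2 ^ 5 := by
        have := E.orderOf_dvd_natCard hyE
        rwa [hE32] at this
      obtain ⟨i, -, hi⟩ := (Nat.dvd_prime_pow Nat.prime_two).1 h2
      rcases Nat.eq_zero_or_pos i with rfl | hi0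
      · exact orderOf_eq_one_iff.1 (by rw [hi, pow_zero])
      · exact absurd h1 (Nat.not_odd_iff_even.2 (hi ▸ (Nat.even_pow.2 ⟨even_two, hi0.ne'⟩)))
    have hxE : xc ∈ Subgroup.centralizer (E : Set (Subgroup.centralizer ({z} : Set G))) := by
      rw [Subgroup.mem_centralizer_iff]
      intro y hy
      have h := hsmall (y * xc * y⁻¹ * xc⁻¹)
        (by rw [show y * xc * y⁻¹ * xc⁻¹ = y * (xc * y⁻¹ * xc⁻¹) by group]
            exact mul_mem hy (hEn.conj_mem _ (inv_mem hy) xc))
        (mul_mem (hOn.conj_mem x hx (y : G)) (inv_mem hx))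
      exact mul_inv_eq_iff_eq_mul.1 (mul_inv_eq_one.1 h)
    exact congrArg Subtype.val (hsmall xc (hCE hxE) hx)
  have hab : IsMulCommutative (Cfsg.oddCore G) := by
    have hzz : z * z = 1 := CfsgLib.Invol.mul_self_eq_one hz
    let φ : Cfsg.oddCore G →* Cfsg.oddCore G :=
      (MulAut.conjNormal z : MulAut (Cfsg.oddCore G)).toMonoidHom
    have hφ : MonoidHom.FixedPointFree φ := fun x hx => by
      refine Subtype.ext (hfix x x.2 ?_)
      have h : z * (x : G) * z⁻¹ = x := by
        rw [← MulAut.conjNormal_apply]; exact congrArg Subtype.val hx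
      exact (mul_inv_eq_iff_eq_mul.1 h).symm
    have hinv : Function.Involutive φ := fun x => by
      refine Subtype.ext ?_
      show ((MulAut.conjNormal z (MulAut.conjNormal z x) : Cfsg.oddCore G) : G) = x
      rw [MulAut.conjNormal_apply, MulAut.conjNormal_apply,
        show z * (z * (x : G) * z⁻¹) * z⁻¹ = (z * z) * x * (z * z)⁻¹ by group, hzz, inv_one, one_mul, mul_one]
    exact ⟨⟨fun a b => hφ.commute_all_of_involutive hinv a b⟩⟩
  refine ⟨hab, fun hns => ?_⟩
  obtain ⟨tw, c, K⟩ := CfsgLib.ChzL34.exists_cod z hz E hE hE32 hEminus hCE e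
  rcases K.dichotomy hz with hiso | ⟨rfl, hA⟩
  · exfalso
    apply hns
    haveI : Group.IsSolvable (Cfsg.oddCore G) := Group.isSolvable_of_comm fun a b => hab.is_comm.comm a b
    haveI : Group.IsSolvable E := CfsgLib.Char.isSolvable_of_card_eq 2 3 5 0 Nat.prime_two Nat.prime_three
      (by rw [hE32]; rfl)
    haveI : Group.IsSolvable (Equiv.Perm (Fin 4)) :=
      CfsgLib.Char.isSolvable_of_card_eq 2 3 3 1 Nat.prime_two Nat.prime_three
        (by rw [Nat.card_perm, Nat.card_fin]; rfl)
    haveI : Group.IsSolvable (↥(Subgroup.centralizer ({z} : Set G)) ⧸ E) := solvable_of_solvable_injective (f := e.toMonoidHom) e.injective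
    haveI : Group.IsSolvable ↥(Subgroup.centralizer ({z} : Set G)) := solvable_of_ker_le_range E.subtype (QuotientGroup.mk' E)
      (by rw [QuotientGroup.ker_mk', Subgroup.range_subtype])
    have hsur : Function.Surjective ((QuotientGroup.mk' (Cfsg.oddCore G)).comp (Subgroup.centralizer ({z} : Set G)).subtype) := by
      intro q
      obtain ⟨g, rfl⟩ := QuotientGroup.mk'_surjective _ q
      obtain ⟨o, ho, v, hv, rfl⟩ := CfsgLib.IsoApps.exists_mul hiso g
      refine ⟨⟨v, hv⟩, ?_⟩
      show QuotientGroup.mk' (Cfsg.oddCore G) v = _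
      rw [map_mul, show QuotientGroup.mk' (Cfsg.oddCore G) o = 1 from (QuotientGroup.eq_one_iff o).2 ho, one_mul]
    haveI : Group.IsSolvable (G ⧸ Cfsg.oddCore G) := solvable_of_surjective hsur
    exact solvable_of_ker_le_range (Cfsg.oddCore G).subtype (QuotientGroup.mk' (Cfsg.oddCore G))
      (by rw [QuotientGroup.ker_mk', Subgroup.range_subtype])
  · have S : CfsgLib.ChzL34.Sys z c := ⟨hz, K, hA⟩
    obtain ⟨N, hN, hidx, hmem⟩ := S.exists_index_four
    have B : CfsgLib.ChzL34.Big z c N := ⟨S, hN, hidx, hmem⟩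
    by_cases hB : IsConj z (c 224)
    · exact B.fused_iso hB hF
    · exfalso
      rcases B.card_unfused hB with h | ⟨Y, hY⟩
      · apply hns
        haveI := hN
        haveI : Group.IsSolvable N := CfsgLib.Char.isSolvable_of_card_eq 2 3 6 2 Nat.prime_two Nat.prime_three
          (by rw [h]; rfl)
        haveI : Group.IsSolvable (G ⧸ N) := CfsgLib.Char.isSolvable_of_card_eq 2 3 2 0 Nat.prime_two Nat.prime_three
          (by rw [← Subgroup.index_eq_card, hidx]; rfl)
        exact solvable_of_ker_le_range N.subtype (QuotientGroup.mk' N)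
          (by rw [QuotientGroup.ker_mk', Subgroup.range_subtype])
      · exact hY.contra

end Cfsg.Agent.S3237
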