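import Cfsg.Statements.S3244
import Cfsg.Agent.Invol.CyclicCentreLocal

set_option autoImplicit false
open Cfsg

namespace Cfsg.Agent.S3244

/-- A finite simple group with an SCN₃ subgroup, a Sylow 2-subgroup normalizing no nontrivial odd subgroup and all 2-locals 2-constrained has a maximal 2-local whose core has noncyclic centre. -/
theorem result {G : Type*} [Group G] [Finite G] [IsSimpleGroup G]
    (hG : ¬ IsMulCommutative G) (S : Sylow 2 G) (A : Subgroup G) (hA : Cfsg.IsSCN (S : Subgroup G) A) (hA3 : ¬ Cfsg.PRankLE 2 2 ↥A)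
    (hinv : ∀ X : Subgroup G, Odd (Nat.card ↥X) → (S : Subgroup G) ≤ Subgroup.normalizer (X : Set G) → X = ⊥)
    (hcon : ∀ T : Subgroup G, IsPGroup 2 ↥T → T ≠ ⊥ → Cfsg.IsPConstrained 2 ↥(Subgroup.normalizer (T : Set G))) :
    ∃ M : Subgroup G, Cfsg.IsMaximalTwoLocal M ∧ ¬ IsCyclic ↥(Subgroup.center ↥(Cfsg.pCore 2 ↥M)) := by
  obtain ⟨hAS, hSA, hAC⟩ := hA
  have hab : ∀ a ∈ A, ∀ b ∈ A, a * b = b * a := fun a ha b hb => by
    have := hAC.ge hb
    exact Subgroup.mem_centralizer_iff.1 this.2 a ha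
  let E : Subgroup G :=
    { carrier := {a | a ∈ A ∧ a ^ 2 = 1}
      one_mem' := ⟨one_mem A, one_pow 2⟩
      mul_mem' := fun {a b} ha hb => ⟨mul_mem ha.1 hb.1, by
        rw [(show Commute a b from hab a ha.1 b hb.1).mul_pow, ha.2, hb.2, one_mul]⟩
      inv_mem' := fun {a} ha => ⟨inv_mem ha.1, by rw [inv_pow, ha.2, inv_one]⟩ }
  have hE : Cfsg.IsElementaryAbelian 2 E :=
    ⟨⟨⟨fun x y => Subtype.ext (hab x x.2.1 y y.2.1)⟩⟩, fun x hx => hx.2⟩
  have h8 : 2 ^ 3 ≤ Nat.card E := by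
    haveI : Fact (Nat.Prime 2) := ⟨Nat.prime_two⟩
    unfold Cfsg.PRankLE at hA3
    push Not at hA3
    obtain ⟨B, -, hB2, hB⟩ := hA3
    have hle : B.map A.subtype ≤ E := by
      rintro _ ⟨b, hb, rfl⟩
      exact ⟨b.2, congrArg Subtype.val (hB2 b hb)⟩
    have hBp : IsPGroup 2 B := fun b => ⟨1, Subtype.ext (by simpa using hB2 b b.2)⟩
    obtain ⟨k, hk⟩ := hBp.exists_card_eq
    rw [hk] at hB
    have h3 := (Nat.pow_lt_pow_iff_right (by norm_num)).1 hB
    have h4 := Subgroup.card_le_of_le hle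
    rw [Subgroup.card_map_of_injective A.subtype_injective, hk] at h4
    exact (Nat.pow_le_pow_right (by norm_num) h3).trans h4
  exact CfsgLib.CyclicCentreLocal.main hcon hG hE h8 S (fun x hx => hAS hx.1) (fun s hs =>
    Subgroup.mem_normalizer_iff.2 fun x => by
      refine ⟨fun hx => ⟨(Subgroup.mem_normalizer_iff.1 (hSA hs) x).1 hx.1, ?_⟩,
        fun hx => ⟨(Subgroup.mem_normalizer_iff.1 (hSA hs) x).2 hx.1, ?_⟩⟩
      · rw [conj_pow, hx.2, mul_one, mul_inv_cancel]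
      · have h := hx.2
        rw [conj_pow] at h
        exact conj_eq_one_iff.1 h) hinv

end Cfsg.Agent.S3244
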