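import Cfsg.Statements.S3247
import Cfsg.Agent.PLocal.PConstrained

set_option autoImplicit false
open Cfsg

namespace Cfsg.Agent.S3247

open CfsgLib CfsgLib.PConstrained

variable {G : Type*} [Group G] [Finite G] {p : ℕ} [Fact p.Prime]

theorem selfCent_quotient {H : Type*} [Group H] [Finite H] (h : Cfsg.IsPConstrained p H) :
    SelfCent p (H ⧸ Cfsg.pPrimeCore p H) := isPConstrained_iff.mp h

theorem of_equiv {H H' : Type*} [Group H] [Finite H] [Group H'] [Finite H'] (e : H ≃* H')
    (h : Cfsg.IsPConstrained p H) : Cfsg.IsPConstrained p H' := by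
  rw [isPConstrained_iff] at h ⊢
  refine SelfCent.of_equiv (QuotientGroup.congr _ _ e ?_) h
  refine le_antisymm ?_ fun y hy => ⟨e.symm y, ?_, e.apply_symm_apply y⟩
  · exact Solvable.le_pPrimeCore p ((Solvable.pPrimeCore_normal p).map _ e.surjective)
      ((Solvable.coprime_card_pPrimeCore p).coprime_dvd_left (Subgroup.card_map_dvd _ _))
  · exact Solvable.le_pPrimeCore p ((Solvable.pPrimeCore_normal p).map e.symm.toMonoidHom e.symm.surjective)
      ((Solvable.coprime_card_pPrimeCore p).coprime_dvd_left (Subgroup.card_map_dvd _ _))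
      ⟨y, hy, rfl⟩

theorem normalizer_of_le {M T : Subgroup G} (hM : Cfsg.IsPConstrained p M) (hT : IsPGroup p T)
    (hN : Subgroup.normalizer (T : Set G) ≤ M) :
    Cfsg.IsPConstrained p (Subgroup.normalizer (T : Set G)) := by
  have hTM : T ≤ M := Subgroup.le_normalizer.trans hN
  have hT' : IsPGroup p (T.subgroupOf M) := hT.comap_of_injective M.subtype M.subtype_injective
  have hc := selfCent_quotient hM
  have h1 : Cfsg.IsPConstrained p (Subgroup.normalizer ((T.subgroupOf M : Subgroup M) : Set M)) :=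
    isPConstrained_local hc hT' (Subgroup.centralizer_le_normalizer _) le_rfl
      (pPrimeCore_normalizer_eq hc hT') (Or.inl Subgroup.le_normalizer)
  have he : Subgroup.normalizer ((T.subgroupOf M : Subgroup M) : Set M) =
      (Subgroup.normalizer (T : Set G)).subgroupOf M := (Subgroup.subgroupOf_normalizer_eq hTM).symm
  exact of_equiv ((MulEquiv.subgroupCongr he).trans (Subgroup.subgroupOfEquivOfLe hN)) h1

theorem centralizer_of_le {M T : Subgroup G} (hM : Cfsg.IsPConstrained p M) (hT : IsPGroup p T)
    (hTM : T ≤ M) (hC : Subgroup.centralizer (T : Set G) ≤ M) :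
    Cfsg.IsPConstrained p (Subgroup.centralizer (T : Set G)) := by
  have hT' : IsPGroup p (T.subgroupOf M) := hT.comap_of_injective M.subtype M.subtype_injective
  have hc := selfCent_quotient hM
  have h1 : Cfsg.IsPConstrained p (Subgroup.centralizer ((T.subgroupOf M : Subgroup M) : Set M)) :=
    isPConstrained_local hc hT' le_rfl (Subgroup.centralizer_le_normalizer _)
      (pPrimeCore_centralizer_eq hc hT') (Or.inr le_rfl)
  have he : Subgroup.centralizer ((T.subgroupOf M : Subgroup M) : Set M) =
      (Subgroup.centralizer (T : Set G)).subgroupOf M := by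
    ext x
    simp only [Subgroup.mem_centralizer_iff, Subgroup.mem_subgroupOf, SetLike.mem_coe]
    exact ⟨fun h t ht => congrArg Subtype.val (h ⟨t, hTM ht⟩ ht),
      fun h t ht => Subtype.ext (h t ht)⟩
  exact of_equiv ((MulEquiv.subgroupCongr he).trans (Subgroup.subgroupOfEquivOfLe hC)) h1

/-- A group with a normal `p`-subgroup `T` is `p`-constrained if the centralizer of `T` is. -/
theorem of_centralizer {L : Type*} [Group L] [Finite L] {T : Subgroup L} [hTn : T.Normal]
    (hT : IsPGroup p T) (hC : Cfsg.IsPConstrained p (Subgroup.centralizer (T : Set L))) :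
    Cfsg.IsPConstrained p L := by
  set C := Subgroup.centralizer (T : Set L) with hCdef
  haveI : C.Normal := Subgroup.normal_centralizer
  set K := Cfsg.pPrimeCore p L
  haveI : K.Normal := Solvable.pPrimeCore_normal p
  set f := QuotientGroup.mk' K
  have hcore : ∀ c : C, c ∈ Cfsg.pPrimeCore p C ↔ (c : L) ∈ K := by
    intro c
    constructor
    · intro hc
      exact Solvable.le_pPrimeCore p (normal_map_pPrimeCore (M := C) inferInstance)
        ((Solvable.coprime_card_pPrimeCore p).coprime_dvd_left (Subgroup.card_map_dvd _ _))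
        ⟨c, hc, rfl⟩
    · intro hc
      exact Solvable.le_pPrimeCore p (N := K.subgroupOf C) ((Solvable.pPrimeCore_normal p).subgroupOf C)
        ((Solvable.coprime_card_pPrimeCore p).coprime_dvd_left
          (Subgroup.card_comap_dvd_of_injective _ C.subtype C.subtype_injective)) hc
  have hc' := selfCent_quotient hC
  rw [isPConstrained_iff]
  set R := Cfsg.pCore p (L ⧸ K) with hR
  haveI : (Subgroup.centralizer (R : Set (L ⧸ K))).Normal := Subgroup.normal_centralizer
  refine Solvable.le_pCore p inferInstance (LocalB.isPGroup_of_forall fun w hw hwo => ?_)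
  have hTR : T.map f ≤ R := Solvable.le_pCore p (hTn.map f (QuotientGroup.mk'_surjective K)) (hT.map f)
  obtain ⟨u, rfl⟩ := QuotientGroup.mk'_surjective K w
  have hcomm : ∀ x ∈ R, x * f u = f u * x := fun x hx => Subgroup.mem_centralizer_iff.mp hw x hx
  obtain ⟨n, hn, hnu⟩ := ZJ.exists_mul_mem_centralizer (N := K) hT (Solvable.coprime_card_pPrimeCore p)
    (g := u) (fun x hx => by
      rw [← QuotientGroup.eq_one_iff]
      change f (u * x * u⁻¹ * x⁻¹) = 1
      rw [map_mul, map_mul, map_mul, map_inv, map_inv, ← hcomm (f x) (hTR ⟨x, hx, rfl⟩),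
        mul_inv_cancel_right, mul_inv_cancel])
  have hfu : f (n * u) = f u := by
    rw [map_mul, show f n = 1 from (QuotientGroup.eq_one_iff n).2 hn, one_mul]
  set K' := Cfsg.pPrimeCore p C
  let j : C ⧸ K' →* L ⧸ K := QuotientGroup.lift K' (f.comp C.subtype)
    (fun c hc => (QuotientGroup.eq_one_iff _).2 ((hcore c).1 hc))
  have hj : Function.Injective j := by
    refine (MonoidHom.ker_eq_bot_iff _).mp ((Subgroup.eq_bot_iff_forall _).mpr fun x hx => ?_)
    obtain ⟨c, rfl⟩ := QuotientGroup.mk'_surjective K' x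
    exact (QuotientGroup.eq_one_iff c).2 ((hcore c).2 ((QuotientGroup.eq_one_iff _).1 hx))
  let v : C ⧸ K' := QuotientGroup.mk' K' ⟨n * u, hnu⟩
  have hjv : j v = f u := hfu
  have hjn : (Cfsg.pCore p (C ⧸ K')).map j ≤ R := by
    refine Solvable.le_pCore p ⟨fun x hx l => ?_⟩ ((Solvable.isPGroup_pCore p).map j)
    obtain ⟨l, rfl⟩ := QuotientGroup.mk'_surjective K l
    obtain ⟨y, hy, rfl⟩ := hx
    let a : C ≃* C := MulAut.conjNormal l
    have ha : K'.map a.toMonoidHom = K' := le_antisymm
      (Solvable.le_pPrimeCore p ((Solvable.pPrimeCore_normal p).map _ a.surjective)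
        ((Solvable.coprime_card_pPrimeCore p).coprime_dvd_left (Subgroup.card_map_dvd _ _)))
      fun y hy => ⟨a.symm y, Solvable.le_pPrimeCore p
        ((Solvable.pPrimeCore_normal p).map a.symm.toMonoidHom a.symm.surjective)
        ((Solvable.coprime_card_pPrimeCore p).coprime_dvd_left (Subgroup.card_map_dvd _ _))
        ⟨y, hy, rfl⟩, a.apply_symm_apply y⟩
    let b : C ⧸ K' ≃* C ⧸ K' := QuotientGroup.congr _ _ a ha
    refine ⟨b y, map_pCore_equiv (p := p) b ▸ Subgroup.mem_map_of_mem b.toMonoidHom hy, ?_⟩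
    obtain ⟨c, rfl⟩ := QuotientGroup.mk'_surjective K' y
    rfl
  have hv : v ∈ Subgroup.centralizer (Cfsg.pCore p (C ⧸ K') : Set (C ⧸ K')) :=
    Subgroup.mem_centralizer_iff.mpr fun y hy => hj (by
      rw [map_mul, map_mul, hjv]; exact hcomm _ (hjn ⟨y, hy, rfl⟩))
  refine LocalB.eq_one_of_orderOf_coprime (Solvable.isPGroup_pCore p) ?_ hwo
  exact hjn ⟨v, hc' hv, hjv⟩

/-- Let G be a finite group and p a prime; here a p-local subgroup means the normalizer of a nontrivial p-subgroup, other than G itself. If every p-local subgroup of G that is maximal among p-local subgroups is p-constrained, or if the centralizer of every element of order p of G is p-constrained, then every p-local subgroup of G is p-constrained. -/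
theorem result {G : Type*} [Group G] [Finite G] (p : ℕ) [hp : Fact p.Prime]
    (h : (∀ M : Subgroup G, (∃ T : Subgroup G, IsPGroup p ↥T ∧ T ≠ ⊥ ∧ M = Subgroup.normalizer (T : Set G)) → M ≠ ⊤ →
        (∀ M' : Subgroup G, (∃ T' : Subgroup G, IsPGroup p ↥T' ∧ T' ≠ ⊥ ∧ M' = Subgroup.normalizer (T' : Set G)) → M' ≠ ⊤ → M ≤ M' → M = M') →
        Cfsg.IsPConstrained p ↥M) ∨
      (∀ x : G, orderOf x = p → Cfsg.IsPConstrained p ↥(Subgroup.centralizer ({x} : Set G))))
    (T : Subgroup G) (hT : IsPGroup p ↥T) (hT1 : T ≠ ⊥) (hTG : Subgroup.normalizer (T : Set G) ≠ ⊤) :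
    Cfsg.IsPConstrained p ↥(Subgroup.normalizer (T : Set G)) := by
  classical
  rcases h with h | h
  · obtain ⟨M, ⟨hMl, hMt, hle⟩, hmax⟩ := (Set.toFinite {M : Subgroup G |
      (∃ T : Subgroup G, IsPGroup p ↥T ∧ T ≠ ⊥ ∧ M = Subgroup.normalizer (T : Set G)) ∧ M ≠ ⊤ ∧
        Subgroup.normalizer (T : Set G) ≤ M}).exists_maximal
      ⟨_, ⟨T, hT, hT1, rfl⟩, hTG, le_rfl⟩
    refine normalizer_of_le (h M hMl hMt fun M' hM' hM't hMM' => ?_) hT hle
    exact le_antisymm hMM' (hmax ⟨hM', hM't, hle.trans hMM'⟩ hMM')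
  · haveI : Nontrivial T := (Subgroup.nontrivial_iff_ne_bot _).mpr hT1
    haveI := hT.center_nontrivial
    obtain ⟨⟨⟨z, hzT⟩, hzc⟩, hz⟩ := exists_prime_orderOf_dvd_card' (G := Subgroup.center T) p
      ((hT.to_subgroup _).card_eq_or_dvd.resolve_left Finite.one_lt_card.ne')
    have hzo : orderOf z = p := by simpa [← Subgroup.orderOf_coe] using hz
    have hTC : T ≤ Subgroup.centralizer ({z} : Set G) := fun t ht =>
      Subgroup.mem_centralizer_singleton_iff.mpr
        (congrArg Subtype.val (Subgroup.mem_center_iff.mp hzc ⟨t, ht⟩))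
    have hCC : Subgroup.centralizer (T : Set G) ≤ Subgroup.centralizer ({z} : Set G) :=
      Subgroup.centralizer_le (Set.singleton_subset_iff.mpr hzT)
    have h1 := centralizer_of_le (h z hzo) hT hTC hCC
    set N := Subgroup.normalizer (T : Set G)
    haveI : (T.subgroupOf N).Normal := Subgroup.normal_in_normalizer
    refine of_centralizer (T := T.subgroupOf N) (hT.comap_of_injective N.subtype N.subtype_injective) ?_
    have he : Subgroup.centralizer ((T.subgroupOf N : Subgroup N) : Set N) =
        (Subgroup.centralizer (T : Set G)).subgroupOf N := by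
      ext x
      simp only [Subgroup.mem_centralizer_iff, Subgroup.mem_subgroupOf, SetLike.mem_coe]
      exact ⟨fun h t ht => congrArg Subtype.val (h ⟨t, Subgroup.le_normalizer ht⟩ ht),
        fun h t ht => Subtype.ext (h t ht)⟩
    exact of_equiv ((MulEquiv.subgroupCongr he).trans
      (Subgroup.subgroupOfEquivOfLe (Subgroup.centralizer_le_normalizer _))).symm h1

end Cfsg.Agent.S3247
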