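import Cfsg.Statements.S3246
import Cfsg.Agent.S3247
import Cfsg.Agent.Char.ClassProducts
import Cfsg.Agent.Invol.NormalFourPair
import Cfsg.Agent.LocalB.OddSignalizer

set_option autoImplicit false
open Cfsg

namespace Cfsg.Agent.S3246

open CfsgLib

variable {G : Type*} [Group G] [Finite G]

/-- An odd order subgroup of a constrained core-free group centralizing a subgroup of index at most
two in the 2-core is trivial. -/
theorem eq_one_of_centralizes {M : Subgroup G} (hM : Cfsg.IsPConstrained 2 M)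
    (hO : Cfsg.oddCore M = ⊥) (T : Subgroup G)
    (hT : ∀ w ∈ (Cfsg.pCore 2 M).map M.subtype, ∀ v ∈ (Cfsg.pCore 2 M).map M.subtype,
      w ∈ T ∨ v ∈ T ∨ w⁻¹ * v ∈ T)
    {y : G} (hyM : y ∈ M) (hy : Odd (orderOf y))
    (hcomm : ∀ w ∈ (Cfsg.pCore 2 M).map M.subtype, w ∈ T → Commute y w) : y = 1 := by
  haveI : Fact (Nat.Prime 2) := ⟨Nat.prime_two⟩
  set W := (Cfsg.pCore 2 M).map M.subtype with hW
  have hWp : IsPGroup 2 W := (Solvable.isPGroup_pCore 2).map _
  have hcop : (orderOf y).Coprime 2 := Nat.coprime_two_right.mpr hy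
  have hnorm : ∀ v ∈ W, y * v * y⁻¹ ∈ W := by
    rintro _ ⟨v, hv, rfl⟩
    exact ⟨⟨y, hyM⟩ * v * ⟨y, hyM⟩⁻¹, (Solvable.pCore_normal 2).conj_mem v hv _, by simp⟩
  have hall : ∀ v ∈ W, Commute y v := by
    intro v hv
    by_cases hvT : v ∈ T
    · exact hcomm v hv hvT
    have hv' := hnorm v hv
    have hc : y * v * y⁻¹ * v⁻¹ ∈ W := W.mul_mem hv' (W.inv_mem hv)
    refine LocalB.commute_of_stab hWp hcop hc (hcomm _ hc ?_)
    by_cases hv'T : y * v * y⁻¹ ∈ T
    · exfalso
      have h1 := hcomm _ hv' hv'T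
      apply hvT
      have h2 : y * v * y⁻¹ = v := by
        have h3 : y * (y * v * y⁻¹) * y⁻¹ = y * v * y⁻¹ := by rw [h1.eq, mul_inv_cancel_right]
        exact mul_left_cancel (mul_right_cancel h3)
      rwa [h2] at hv'T
    · have hvi : v⁻¹ ∉ T := fun h => hvT (by simpa using inv_mem h)
      have hv'i : (y * v * y⁻¹)⁻¹ ∉ T := fun h => hv'T (by simpa using inv_mem h)
      simpa using ((hT (y * v * y⁻¹)⁻¹ (W.inv_mem hv') v⁻¹ (W.inv_mem hv)).resolve_left hv'i).resolve_left hvi
  have hsc := Cfsg.Agent.S3247.selfCent_quotient hM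
  set π := QuotientGroup.mk' (Cfsg.pPrimeCore 2 M) with hπ
  have hcen : π ⟨y, hyM⟩ ∈ Subgroup.centralizer (Cfsg.pCore 2 (M ⧸ Cfsg.pPrimeCore 2 M) : Set _) := by
    rw [Subgroup.mem_centralizer_iff]
    intro r hr
    obtain ⟨u, rfl⟩ := QuotientGroup.mk'_surjective _ r
    have hu : u ∈ Cfsg.pCore 2 M := by
      have hN : ((Cfsg.pCore 2 (M ⧸ Cfsg.pPrimeCore 2 M)).comap π).Normal :=
        (Solvable.pCore_normal 2).comap π
      refine Solvable.le_pCore 2 hN ?_ hr
      refine (Solvable.isPGroup_pCore 2).comap_of_injective π ?_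
      intro a b hab
      have h1 : a⁻¹ * b ∈ Cfsg.oddCore M := QuotientGroup.eq.mp hab
      rw [hO, Subgroup.mem_bot, inv_mul_eq_one] at h1
      exact h1
    have h1 : u * (⟨y, hyM⟩ : M) = ⟨y, hyM⟩ * u := Subtype.ext (hall u ⟨u, hu, rfl⟩).eq.symm
    rw [← map_mul, ← map_mul, h1]
  have h1 := LocalB.eq_one_of_orderOf_coprime (Solvable.isPGroup_pCore 2) (hsc hcen)
    ((hcop.coprime_dvd_left ((orderOf_map_dvd π _).trans (Subgroup.orderOf_mk y hyM).dvd)))
  have h2 : (⟨y, hyM⟩ : M) ∈ Cfsg.oddCore M := (QuotientGroup.eq_one_iff _).mp h1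
  rw [hO, Subgroup.mem_bot] at h2
  exact congrArg Subtype.val h2

/-- Let G be a finite group whose Sylow 2-subgroup S has a self-centralizing normal subgroup of rank at least 3. Suppose that either every maximal 2-local subgroup of G is 2-constrained with no nontrivial normal subgroup of odd order, or the centralizer of every involution of G is 2-constrained with no nontrivial normal subgroup of odd order. Then S normalizes no nontrivial subgroup of G of odd order and every 2-local subgroup of G is 2-constrained. -/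
theorem result {G : Type*} [Group G] [Finite G]
    (S : Sylow 2 G) (A : Subgroup G) (hA : Cfsg.IsSCN (S : Subgroup G) A) (hA3 : ¬ Cfsg.PRankLE 2 2 ↥A)
    (h : (∀ M : Subgroup G, Cfsg.IsMaximalTwoLocal M → Cfsg.IsPConstrained 2 ↥M ∧ Cfsg.oddCore ↥M = ⊥) ∨
      (∀ t : G, orderOf t = 2 → Cfsg.IsPConstrained 2 ↥(Subgroup.centralizer ({t} : Set G)) ∧
        Cfsg.oddCore ↥(Subgroup.centralizer ({t} : Set G)) = ⊥)) :
    (∀ X : Subgroup G, Odd (Nat.card ↥X) → (S : Subgroup G) ≤ Subgroup.normalizer (X : Set G) → X = ⊥) ∧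
      (∀ T : Subgroup G, IsPGroup 2 ↥T → T ≠ ⊥ → Cfsg.IsPConstrained 2 ↥(Subgroup.normalizer (T : Set G))) := by
  classical
  haveI : Fact (Nat.Prime 2) := ⟨Nat.prime_two⟩
  -- every 2-local subgroup and every involution centralizer lies in a constrained core-free group
  have hmax : ∀ T : Subgroup G, IsPGroup 2 T → T ≠ ⊥ → ∃ M : Subgroup G,
      Cfsg.IsMaximalTwoLocal M ∧ Subgroup.normalizer (T : Set G) ≤ M := by
    intro T hT hT1
    obtain ⟨M, ⟨hM, hle⟩, hm⟩ := (Set.toFinite {M : Subgroup G | Cfsg.IsTwoLocal M ∧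
      Subgroup.normalizer (T : Set G) ≤ M}).exists_maximal ⟨_, ⟨T, hT, hT1, rfl⟩, le_rfl⟩
    exact ⟨M, ⟨hM, fun N hN hMN => le_antisymm (hm ⟨hN, hle.trans hMN⟩ hMN) hMN⟩, hle⟩
  have hcen : ∀ t : G, orderOf t = 2 → ∃ M : Subgroup G, Subgroup.centralizer ({t} : Set G) ≤ M ∧
      Cfsg.IsPConstrained 2 M ∧ Cfsg.oddCore M = ⊥ := by
    intro t ht
    rcases h with h | h
    · obtain ⟨M, hM, hle⟩ := hmax (Subgroup.zpowers t)
        (IsPGroup.of_card (n := 1) (by rw [Nat.card_zpowers, ht, pow_one])) fun hb => by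
          rw [Subgroup.zpowers_eq_bot] at hb
          rw [hb, orderOf_one] at ht; omega
      refine ⟨M, fun c hc => hle ?_, h M hM⟩
      refine Subgroup.centralizer_le_normalizer _ ?_
      rw [Subgroup.mem_centralizer_iff]
      rintro x ⟨i, rfl⟩
      exact (Commute.zpow_left (Subgroup.mem_centralizer_singleton_iff.mp hc).symm i).eq
    · exact ⟨_, le_rfl, h t ht⟩
  obtain ⟨hAS, -, -⟩ := hA
  obtain ⟨E₀, hE₀⟩ : ∃ E : Subgroup A,
      IsMulCommutative E ∧ (∀ a ∈ E, a ^ 2 = 1) ∧ 2 ^ 2 < Nat.card E := by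
    by_contra hcon
    push Not at hcon
    exact hA3 fun E h1 h2 => hcon E h1 h2
  obtain ⟨-, hE2, hEc⟩ := hE₀
  obtain ⟨k, hk⟩ := ((show IsPGroup 2 E₀ from fun e => ⟨1, by
    rw [pow_one]; exact Subtype.ext (hE2 e e.2)⟩)).exists_card_eq
  have hk3 : 3 ≤ k := by
    by_contra hlt
    rw [hk] at hEc
    exact absurd hEc (not_lt.mpr (Nat.pow_le_pow_right (by norm_num) (by omega)))
  obtain ⟨E₁, hE₁⟩ := Sylow.exists_subgroup_card_pow_prime 2 (G := E₀) (n := 3)
    (by rw [hk]; exact pow_dvd_pow 2 hk3)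
  let ι : E₁ →* (S : Subgroup G) :=
    (Subgroup.inclusion hAS).comp (E₀.subtype.comp E₁.subtype)
  have hι : Function.Injective ι :=
    (Subgroup.inclusion_injective hAS).comp (E₀.subtype_injective.comp E₁.subtype_injective)
  obtain ⟨z, u, hz2, hz1, hzc, hu2, hu1, huz, hu⟩ := CfsgLib.NormalFourPair.exists_pair _
    (S : Subgroup G) rfl S.isPGroup' ι.range (by
      rw [← Nat.card_congr (MonoidHom.ofInjective hι).toEquiv, hE₁]; norm_num)
    (by
      rintro _ ⟨e, rfl⟩
      rw [← map_mul, show e * e = 1 from Subtype.ext (Subtype.ext (by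
        simpa [sq] using hE2 _ e.1.2)), map_one])
  have hord : ∀ w : (S : Subgroup G), w * w = 1 → w ≠ 1 → orderOf (w : G) = 2 := fun w h1 h2 => by
    rw [Subgroup.orderOf_coe]; exact orderOf_eq_prime (by rw [sq, h1]) h2
  constructor
  · intro X hX hSX
    have hconjX : ∀ s : (S : Subgroup G), ∀ x ∈ X, (s : G) * x * (s : G)⁻¹ ∈ X := fun s x hx =>
      (Subgroup.mem_normalizer_iff.mp (hSX s.2) x).mp hx
    -- the three involutions act fixed point freely
    have hfpf : ∀ v : (S : Subgroup G), v * v = 1 → v ≠ 1 →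
        (∀ g, g * v * g⁻¹ = v ∨ g * v * g⁻¹ = v * z) →
        ∀ x ∈ X, (v : G) * x = x * v → x = 1 := by
      intro v hv2 hv1 hv x hx hxv
      obtain ⟨M, hCM, hMc, hMO⟩ := hcen v (hord v hv2 hv1)
      set W := (Cfsg.pCore 2 M).map M.subtype with hW
      have hWp : IsPGroup 2 W := (Solvable.isPGroup_pCore 2).map _
      set S₁ := (Subgroup.centralizer ({v} : Set (S : Subgroup G))).map (S : Subgroup G).subtype
      have hS₁C : S₁ ≤ Subgroup.centralizer ({(v : G)} : Set G) := by
        rintro _ ⟨s, hs, rfl⟩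
        rw [Subgroup.mem_centralizer_singleton_iff]
        exact congrArg Subtype.val (Subgroup.mem_centralizer_singleton_iff.mp hs)
      have hconjM : ∀ m ∈ M, ∀ w ∈ W, m * w * m⁻¹ ∈ W := by
        rintro m hm _ ⟨w, hw, rfl⟩
        exact ⟨⟨m, hm⟩ * w * ⟨m, hm⟩⁻¹, (Solvable.pCore_normal 2).conj_mem w hw _, by simp⟩
      have hS₁n : S₁ ≤ Subgroup.normalizer (W : Set G) := by
        intro s hs
        rw [Subgroup.mem_normalizer_iff]
        refine fun w => ⟨hconjM s (hCM (hS₁C hs)) w, fun hw => ?_⟩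
        have := hconjM s⁻¹ (inv_mem (hCM (hS₁C hs))) _ hw
        simpa [mul_assoc] using this
      have hS₁p : IsPGroup 2 S₁ := (S.isPGroup'.to_subgroup _).map _
      obtain ⟨R, hR⟩ := (hWp.to_sup_of_normal_left' hS₁p hS₁n).exists_le_sylow
      have hWR : W ≤ (R : Subgroup G) := le_sup_left.trans hR
      have hS₁R : S₁ ≤ (R : Subgroup G) := le_sup_right.trans hR
      -- the centralizer of `v` has index at most two
      have hidx : S₁.relIndex (R : Subgroup G) ≤ 2 := by
        have h1 : (Subgroup.centralizer ({v} : Set (S : Subgroup G))).index ≤ 2 := by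
          have h2 := CfsgLib.Char.card_conj_class_mul_card_centralizer v
          have h3 := (Subgroup.centralizer ({v} : Set (S : Subgroup G))).card_mul_index
          have h4 : Nat.card {x : (S : Subgroup G) // IsConj v x} ≤ 2 := by
            let φ : {x : (S : Subgroup G) // IsConj v x} → ({v, v * z} : Set (S : Subgroup G)) :=
              fun y => ⟨y.1, by
                obtain ⟨g, hg⟩ := isConj_iff.mp y.2
                rw [← hg]; exact hv g⟩
            refine (Nat.card_le_card_of_injective φ ?_).trans ?_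
            · intro a b hab
              have hab' : (φ a).1 = (φ b).1 := by rw [hab]
              exact Subtype.ext hab'
            · rw [Nat.card_coe_set_eq]
              exact (Set.ncard_insert_le _ _).trans (by simp)
          have h5 := Nat.card_pos (α := Subgroup.centralizer ({v} : Set (S : Subgroup G)))
          nlinarith
        have hSR : Nat.card (R : Subgroup G) = Nat.card (S : Subgroup G) := by
          rw [R.card_eq_multiplicity, S.card_eq_multiplicity]
        have h2 := (S₁.subgroupOf (R : Subgroup G)).card_mul_index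
        rw [Nat.card_congr (Subgroup.subgroupOfEquivOfLe hS₁R).toEquiv,
          Subgroup.card_map_of_injective (S : Subgroup G).subtype_injective, hSR,
          ← (Subgroup.centralizer ({v} : Set (S : Subgroup G))).card_mul_index] at h2
        exact (Nat.eq_of_mul_eq_mul_left Nat.card_pos h2).le.trans h1
      refine eq_one_of_centralizes hMc hMO S₁ ?_
        (hCM (Subgroup.mem_centralizer_singleton_iff.mpr hxv.symm))
        (Odd.of_dvd_nat hX (Subgroup.orderOf_mk x hx ▸ orderOf_dvd_natCard _)) ?_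
      · intro w hw w' hw'
        have hpos : S₁.relIndex (R : Subgroup G) ≠ 0 := Subgroup.index_ne_zero_of_finite
        rcases (show S₁.relIndex (R : Subgroup G) = 1 ∨ S₁.relIndex (R : Subgroup G) = 2 by omega)
          with h1 | h1
        · exact Or.inl (Subgroup.relIndex_eq_one.mp h1 (hWR hw))
        · rw [or_iff_not_imp_left, or_iff_not_imp_left]
          intro a b
          have h3 := Subgroup.mul_mem_iff_of_index_two (H := S₁.subgroupOf (R : Subgroup G)) h1
            (a := ⟨w, hWR hw⟩⁻¹) (b := ⟨w', hWR hw'⟩)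
          simp only [Subgroup.mem_subgroupOf, Subgroup.coe_mul, Subgroup.coe_inv, inv_mem_iff] at h3
          exact h3.mpr (iff_of_false a b)
      · rintro w hw ⟨s, hs, rfl⟩
        -- the commutator lies in `W ∩ X`
        have hxM : x ∈ M := hCM (Subgroup.mem_centralizer_singleton_iff.mpr hxv.symm)
        have h1 : x * (s : G) * x⁻¹ * (s : G)⁻¹ ∈ X := by
          rw [mul_assoc, mul_assoc, ← mul_assoc (s : G)]
          exact mul_mem hx (hconjX s _ (inv_mem hx))
        have h2 : x * (s : G) * x⁻¹ * (s : G)⁻¹ ∈ W := mul_mem (hconjM x hxM _ hw) (inv_mem hw)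
        have h3 := LocalB.eq_one_of_orderOf_coprime hWp h2 (Nat.coprime_two_right.mpr
          (Odd.of_dvd_nat hX (Subgroup.orderOf_mk _ h1 ▸ orderOf_dvd_natCard _)))
        exact mul_inv_eq_iff_eq_mul.mp (mul_inv_eq_one.mp h3)
    have hvz : ∀ g : (S : Subgroup G), g * z * g⁻¹ = z := fun g => by
      rw [hzc g, mul_inv_cancel_right]
    have hinv : ∀ v : (S : Subgroup G), v * v = 1 → v ≠ 1 →
        (∀ g, g * v * g⁻¹ = v ∨ g * v * g⁻¹ = v * z) → ∀ x ∈ X, (v : G) * x * (v : G)⁻¹ = x⁻¹ :=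
      fun v hv2 hv1 hv => LocalB.inverted_of_fpf hX (congrArg Subtype.val hv2) (hconjX v)
        (hfpf v hv2 hv1 hv)
    have huz2 : u * z * (u * z) = 1 := by
      rw [mul_assoc, ← mul_assoc z u z, ← hzc u, mul_assoc u z z, hz2, mul_one, hu2]
    have huz1 : u * z ≠ 1 := fun hc => huz ((eq_inv_of_mul_eq_one_left hc).trans
      (inv_eq_of_mul_eq_one_right hz2))
    have huzconj : ∀ g, g * (u * z) * g⁻¹ = u * z ∨ g * (u * z) * g⁻¹ = u * z * z := fun g => by
      rw [← conj_mul, hvz g]
      exact (hu g).imp (fun hh => by rw [hh]) fun hh => by rw [hh]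
    refine (Subgroup.eq_bot_iff_forall _).mpr fun x hx => ?_
    have h1 := hinv z hz2 hz1 (fun g => Or.inl (hvz g))
    have h2 := hinv u hu2 hu1 hu
    have h3 := hinv (u * z) huz2 huz1 huzconj x hx
    have h4 : ((u * z : (S : Subgroup G)) : G) * x * ((u * z : (S : Subgroup G)) : G)⁻¹ = x := by
      rw [Subgroup.coe_mul]
      calc (u : G) * z * x * ((u : G) * z)⁻¹ = (u : G) * ((z : G) * x * (z : G)⁻¹) * (u : G)⁻¹ := by group
        _ = x := by rw [h1 x hx, h2 _ (inv_mem hx), inv_inv]
    have h5 : x * x = 1 := mul_eq_one_iff_eq_inv.mpr (h4.symm.trans h3)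
    have h6 : Odd (orderOf x) := Odd.of_dvd_nat hX (Subgroup.orderOf_mk x hx ▸ orderOf_dvd_natCard _)
    exact orderOf_eq_one_iff.mp (Nat.eq_one_of_dvd_coprimes (Nat.coprime_two_left.mpr h6)
      (orderOf_dvd_of_pow_eq_one (by rw [sq, h5])) dvd_rfl)
  · intro T hT hT1
    rcases h with h | h
    · obtain ⟨M, hM, hle⟩ := hmax T hT hT1
      exact Cfsg.Agent.S3247.normalizer_of_le (h M hM).1 hT hle
    · by_cases htop : Subgroup.normalizer (T : Set G) = ⊤
      · haveI : Nontrivial T := (Subgroup.nontrivial_iff_ne_bot _).mpr hT1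
        haveI := hT.center_nontrivial
        obtain ⟨⟨⟨z', hzT⟩, hzc'⟩, hz'⟩ := exists_prime_orderOf_dvd_card' (G := Subgroup.center T) 2
          ((hT.to_subgroup _).card_eq_or_dvd.resolve_left Finite.one_lt_card.ne')
        have hzo : orderOf z' = 2 := by simpa [← Subgroup.orderOf_coe] using hz'
        have h1 := Cfsg.Agent.S3247.centralizer_of_le (h z' hzo).1 hT
          (fun t ht => Subgroup.mem_centralizer_singleton_iff.mpr
            (congrArg Subtype.val (Subgroup.mem_center_iff.mp hzc' ⟨t, ht⟩)))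
          (Subgroup.centralizer_le (Set.singleton_subset_iff.mpr hzT))
        haveI : T.Normal := Subgroup.normalizer_eq_top_iff.mp htop
        exact Cfsg.Agent.S3247.of_equiv (Subgroup.topEquiv.symm.trans (MulEquiv.subgroupCongr htop.symm))
          (Cfsg.Agent.S3247.of_centralizer hT h1)
      · exact Cfsg.Agent.S3247.result 2 (Or.inr fun x hx => (h x hx).1) T hT hT1 htop

end Cfsg.Agent.S3246
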