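import Cfsg.Statements.S3250
import Cfsg.Agent.MaxTwo.Final

set_option autoImplicit false
open Cfsg

namespace Cfsg.Agent.S3250

/-- With the length of a finite group defined as the maximum n for which there is a chain G = G₀ > G₁ > ⋯ > G_n = 1 of subgroups: a finite non-abelian simple group of length exactly 8 whose Sylow 2-subgroups have order 2⁷ is isomorphic to PSL₂(127). -/
theorem result {G : Type*} [Group G] [Finite G] [IsSimpleGroup G]
    (hG : ¬ IsMulCommutative G) (h8 : ∃ c : Fin 9 → Subgroup G, StrictAnti c) (h9 : ∀ c : Fin 10 → Subgroup G, ¬ StrictAnti c)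
    (S : Sylow 2 G) (hS : Nat.card ↥(S : Subgroup G) = 2 ^ 7) :
    ∃ (F : Type) (_ : Field F) (_ : Fintype F), Fintype.card F = 127 ∧ Nonempty (G ≃* Matrix.ProjectiveSpecialLinearGroup (Fin 2) F) := by
  exact CfsgLib.MaxTwo.psl_one_two_seven hG (CfsgLib.MaxTwo.noLongChain_of_anti h9) S hS

end Cfsg.Agent.S3250
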