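import Cfsg.Statements.S3252
import Cfsg.Agent.Perm.CyclicZ.Factor

set_option autoImplicit false
set_option linter.style.haveILetI false
open Cfsg

namespace Cfsg.Agent.S3252

/-- Let G be a finite non-solvable group that is the product G = AB of a cyclic subgroup A and a subgroup B all of whose Sylow subgroups are cyclic. Then the quotient of G by its largest solvable normal subgroup is isomorphic to PGL₂(p) for some prime p > 3. -/
theorem result {G : Type*} [Group G] [Finite G] (hG : ¬ Group.IsSolvable G)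
    (A B : Subgroup G) (hA : IsCyclic ↥A) (hB : ∀ (q : ℕ) [Fact q.Prime] (Q : Sylow q ↥B), IsCyclic ↥(Q : Subgroup ↥B))
    (hAB : ∀ g : G, ∃ a ∈ A, ∃ b ∈ B, g = a * b)
    (R : Subgroup G) [hR : R.Normal] (hRs : Group.IsSolvable ↥R) (hRmax : ∀ N : Subgroup G, N.Normal → Group.IsSolvable ↥N → N ≤ R) :
    ∃ (F : Type) (_ : Field F) (_ : Fintype F) (p : ℕ), p.Prime ∧ 3 < p ∧ Fintype.card F = p ∧
      Nonempty ((G ⧸ R) ≃* (GL (Fin 2) F ⧸ Subgroup.center (GL (Fin 2) F))) := by
  classical
  haveI : IsZGroup ↥B := ⟨fun q hq Q => @hB q ⟨hq⟩ Q⟩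
  set f := QuotientGroup.mk' R with hf
  have hfs : Function.Surjective f := QuotientGroup.mk'_surjective R
  haveI : Group.IsSolvable ↥R := hRs
  have hns : ¬ Group.IsSolvable (G ⧸ R) := fun h =>
    hG ((Group.isSolvable_iff_subgroup_quotient R).mpr ⟨hRs, h⟩)
  have hrad : CfsgLib.Comp.solvRad (G ⧸ R) = ⊥ := by
    set N := CfsgLib.Comp.solvRad (G ⧸ R)
    haveI : Group.IsSolvable ↥N := CfsgLib.Comp.solvRad_isSolvable
    have hsol : Group.IsSolvable ↥(N.comap f) := by
      refine Group.isSolvable_of_ker_le_range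
        (Subgroup.inclusion (show R ≤ N.comap f from fun x hx => by
          rw [Subgroup.mem_comap, hf, QuotientGroup.mk'_apply, (QuotientGroup.eq_one_iff x).2 hx]
          exact one_mem N))
        (f.subgroupComap N) fun z hz => ?_
      exact ⟨⟨z, (QuotientGroup.eq_one_iff _).1 (congrArg Subtype.val (MonoidHom.mem_ker.1 hz))⟩, rfl⟩
    have hle := hRmax (N.comap f) inferInstance hsol
    refine (Subgroup.eq_bot_iff_forall _).2 fun y hy => ?_
    obtain ⟨x, rfl⟩ := hfs y
    exact (QuotientGroup.eq_one_iff x).2 (hle hy)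
  haveI : IsCyclic ↥(A.map f) :=
    isCyclic_of_surjective (f.subgroupMap A) (f.subgroupMap_surjective A)
  haveI : IsZGroup ↥(B.map f) :=
    IsZGroup.of_surjective (f := f.subgroupMap B) (f.subgroupMap_surjective B)
  obtain ⟨p, hp⟩ := CfsgLib.CyclicZ.good_of_factor (Nat.card (G ⧸ R)) le_rfl hns hrad (A.map f)
    (B.map f) inferInstance inferInstance fun y => by
      obtain ⟨x, rfl⟩ := hfs y
      obtain ⟨a, ha, b, hb, rfl⟩ := hAB x
      exact ⟨f a, Subgroup.mem_map_of_mem f ha, f b, Subgroup.mem_map_of_mem f hb, map_mul f a b⟩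
  haveI := Fact.mk hp.prime
  obtain ⟨e⟩ := hp.mulEquiv
  exact ⟨ZMod p, inferInstance, inferInstance, p, hp.prime, hp.three_lt, ZMod.card p, ⟨e⟩⟩

end Cfsg.Agent.S3252
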