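import Cfsg.Statements.S3254
import Cfsg.Agent.Deg3P.Imprimitive
import Cfsg.Agent.Deg3P.KOne
import Cfsg.Agent.Deg3P.KTwoFinal
import Cfsg.Agent.Deg3P.KThreeOne
import Cfsg.Agent.Deg3P.KThreeThree
import Cfsg.Agent.Perm.TwoPrime.NormalizerTwoP

set_option autoImplicit false
open Cfsg

namespace Cfsg.Agent.S3254

/-- Let p > 3 be a prime and G a finite non-abelian simple group acting faithfully and transitively on a set Ω of 3p points, such that the normalizer of a Sylow p-subgroup of G has order 2p. If the action is primitive then p = 5 and G ≅ A₆; if it is imprimitive then p = 2^m + 1 for some m and G ≅ PSL₂(2^m). -/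
theorem result {G : Type*} [Group G] [Finite G] [IsSimpleGroup G] (hG : ¬ IsMulCommutative G)
    (p : ℕ) (hp : p.Prime) (hp3 : 3 < p) {Ω : Type*} [Fintype Ω] [MulAction G Ω] [FaithfulSMul G Ω]
    (htr : MulAction.IsPretransitive G Ω) (hΩ : Fintype.card Ω = 3 * p)
    (P : Sylow p G) (hN : Nat.card ↥(Subgroup.normalizer ((P : Subgroup G) : Set G)) = 2 * p) :
    (MulAction.IsPreprimitive G Ω → p = 5 ∧ Nonempty (G ≃* ↥(alternatingGroup (Fin 6)))) ∧
      (¬ MulAction.IsPreprimitive G Ω → ∃ (F : Type) (_ : Field F) (_ : Fintype F) (m : ℕ), Fintype.card F = 2 ^ m ∧ p = 2 ^ m + 1 ∧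
        Nonempty (G ≃* Matrix.ProjectiveSpecialLinearGroup (Fin 2) F)) := by
  classical
  haveI : Fintype G := Fintype.ofFinite G
  haveI : Fact p.Prime := ⟨hp⟩
  haveI := htr
  have h2 : p ≠ 2 := by omega
  obtain ⟨z₀⟩ : Nonempty Ω := Fintype.card_pos_iff.1 (by rw [hΩ]; omega)
  have hstab : Nat.card (MulAction.stabilizer G z₀) * (3 * p) = Nat.card G := by
    rw [← hΩ, ← Nat.card_eq_fintype_card, ← MulAction.index_stabilizer_of_transitive G z₀,
      Subgroup.card_mul_index]
  have hpG : p ∣ Nat.card G := ⟨Nat.card (MulAction.stabilizer G z₀) * 3, by rw [← hstab]; ring⟩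
  have hP : Nat.card (P : Subgroup G) = p := by
    have hd : Nat.card (P : Subgroup G) ∣ 2 * p :=
      hN ▸ Subgroup.card_dvd_of_le Subgroup.le_normalizer
    rw [P.card_eq_multiplicity] at hd ⊢
    have h1 : 1 ≤ (Nat.card G).factorization p :=
      (hp.dvd_iff_one_le_factorization Nat.card_pos.ne').1 hpG
    have h2' : (Nat.card G).factorization p ≤ 1 := by
      by_contra h
      have hsq : p ^ 2 ∣ 2 * p :=
        (pow_dvd_pow p (show 2 ≤ (Nat.card G).factorization p by omega)).trans hd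
      rw [sq] at hsq
      have := Nat.le_of_dvd (by norm_num) (Nat.dvd_of_mul_dvd_mul_right hp.pos hsq)
      omega
    rw [show (Nat.card G).factorization p = 1 by omega, pow_one]
  have hfact : (Nat.card G).factorization p = 1 := by
    have h := P.card_eq_multiplicity
    rw [hP] at h
    exact (Nat.pow_eq_self_iff hp.one_lt).1 h.symm
  obtain ⟨x₀, hx₀⟩ := exists_prime_orderOf_dvd_card' p (dvd_of_eq hP.symm)
  set x : G := (x₀ : G) with hxdef
  have hxo : orderOf x = p := by rw [hxdef, Subgroup.orderOf_coe, hx₀]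
  have hx : x ^ p = 1 := hxo ▸ pow_orderOf_eq_one x
  have hx1 : x ≠ 1 := fun h => by rw [h, orderOf_one] at hxo; omega
  have hPx : (P : Subgroup G) = Subgroup.zpowers x :=
    (Subgroup.eq_of_le_of_card_ge (Subgroup.zpowers_le.2 x₀.2)
      (by rw [hP, Nat.card_zpowers, hxo])).symm
  obtain ⟨t, D⟩ : ∃ t, CfsgLib.TwoPrime.Dih p x t := by
    refine (CfsgLib.TwoPrime.exists_dih h2 hx hx1 P hPx hN).resolve_right ?_
    rintro ⟨K, hK, hKp, hKc⟩
    rcases IsSimpleGroup.eq_bot_or_eq_top_of_normal K hK with h | h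
    · rw [h, Subgroup.card_bot, one_mul] at hKc
      haveI := isCyclic_of_prime_card hKc.symm
      exact hG IsCyclic.isMulCommutative
    · rw [h, Subgroup.card_top] at hKp
      exact hKp hpG
  have d : CfsgLib.Deg3P.Data p G Ω x t := by
    refine ⟨hp3, hΩ, D, hG, hfact, ?_, ?_⟩
    · have hm := card_sylow_modEq_one p G
      have hi : Nat.card (Sylow p G) = (Subgroup.normalizer ((P : Subgroup G) : Set G)).index :=
        Sylow.card_eq_index_normalizer P
      have hmul := (Subgroup.normalizer ((P : Subgroup G) : Set G)).card_mul_index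
      rw [hN, ← hi] at hmul
      refine ⟨Nat.card (Sylow p G) / p, ?_⟩
      have h1 : Nat.card (Sylow p G) % p = 1 := by
        rw [hm, Nat.mod_eq_of_lt hp.one_lt]
      have h2 := Nat.div_add_mod (Nat.card (Sylow p G)) p
      rw [h1] at h2
      rw [h2, hmul]
    · intro m hm z hz
      have hord : orderOf (CfsgLib.TwoPrime.xpow x m) = p :=
        orderOf_eq_prime (by rw [CfsgLib.TwoPrime.xpow_pow hx, ZMod.natCast_self, zero_mul,
          CfsgLib.TwoPrime.xpow_zero]) (CfsgLib.TwoPrime.xpow_ne_one hx hx1 hm)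
      have hd : p ∣ Nat.card (MulAction.stabilizer G z) :=
        hord ▸ Subgroup.orderOf_dvd_natCard _ (show CfsgLib.TwoPrime.xpow x m ∈ _ from hz)
      have hstab' : Nat.card (MulAction.stabilizer G z) * (3 * p) = Nat.card G := by
        rw [← hΩ, ← Nat.card_eq_fintype_card, ← MulAction.index_stabilizer_of_transitive G z,
          Subgroup.card_mul_index]
      obtain ⟨c, hc⟩ := hd
      have hsq : p ^ 2 ∣ Nat.card G := ⟨c * 3, by rw [← hstab', hc]; ring⟩
      have := (hp.pow_dvd_iff_le_factorization Nat.card_pos.ne').1 hsq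
      omega
  refine ⟨fun hprim => ?_, fun hnot =>
    CfsgLib.Deg3P.imprimitive_case hG hp3 hΩ P hP hN hnot⟩
  haveI := hprim
  rcases d.exists_theta with ⟨θ, k, f, T⟩ | ⟨h5, ψ₁, ψ₂, h₁, h₂, hne, hd₁, hd₂, hpi⟩
  · rcases T.k_mem with rfl | rfl | rfl
    · exact (CfsgLib.Deg3P.k_one_false T d).elim
    · exact CfsgLib.Deg3P.k_two T d
    · rcases d.card_fixed_t with ⟨h, -⟩ | ⟨h, -⟩
      · exact (CfsgLib.Deg3P.k_three_one_false T d h).elim
      · exact (CfsgLib.Deg3P.k_three_three_false T d h).elim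
  · subst h5
    exact (CfsgLib.Deg3P.p_five_alt d h₁ h₂ hne hd₁ hd₂ hpi).elim

end Cfsg.Agent.S3254
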