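import Cfsg.Statements.S3258
import Cfsg.Agent.PiClosed.Row
import Cfsg.Agent.CentralRankOne.U34

set_option autoImplicit false
open Cfsg

namespace Cfsg.Agent.S3258

/-- Let π be a set of primes containing 2 and G a finite group all of whose π-subgroups (subgroups whose order is divisible only by primes in π) have a normal Sylow 2-subgroup. Then the π'-elements of G (elements whose order is divisible by no prime in π) form a subgroup if and only if N_G(H)/C_G(H) is a π-group for every nontrivial π-subgroup H of G. -/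
theorem result {G : Type*} [Group G] [Finite G] (π : Set ℕ) (h2 : 2 ∈ π)
    (hcl : ∀ H : Subgroup G, (∀ p : ℕ, p.Prime → p ∣ Nat.card ↥H → p ∈ π) → ∀ P : Sylow 2 ↥H, (P : Subgroup ↥H).Normal) :
    (∃ K : Subgroup G, ∀ x : G, x ∈ K ↔ ∀ p : ℕ, p.Prime → p ∣ orderOf x → p ∉ π) ↔
      (∀ H : Subgroup G, H ≠ ⊥ → (∀ p : ℕ, p.Prime → p ∣ Nat.card ↥H → p ∈ π) →
        ∀ p : ℕ, p.Prime → p ∣ (Subgroup.centralizer (H : Set G)).relIndex (Subgroup.normalizer (H : Set G)) → p ∈ π) := by
  exact CfsgLib.PiClosed.pi_homogeneous_row CfsgLib.CentralRankOne.u34_simple π h2 hcl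

end Cfsg.Agent.S3258
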