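import Cfsg.Statements.S3261
import Cfsg.Agent.InvChar.ThreeSixty
import Cfsg.Agent.InvChar.OneSixtyEight

set_option autoImplicit false
open Cfsg

namespace Cfsg.Agent.S3261

/-- The permutation `(01)(23)`. -/
def base : Equiv.Perm (Fin 6) := Equiv.swap 0 1 * Equiv.swap 2 3

/-- Even permutations commuting with `b`. -/
abbrev Cen (b : Equiv.Perm (Fin 6)) : Type :=
  {x : Equiv.Perm (Fin 6) // Equiv.Perm.sign x = 1 ∧ x * b = b * x}

theorem card_cen_base : Fintype.card (Cen base) = 8 := by decide +kernel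

theorem witnesses (b : Equiv.Perm (Fin 6)) (hb : orderOf b = 2) (h4 : b.support.card = 4) :
    Nat.card (Cen b) = 8 ∧ ∃ v w : Cen b, v.1 * v.1 = 1 ∧ w.1 * w.1 = 1 ∧ v.1 ≠ 1 ∧ w.1 ≠ 1 ∧
      v.1 * w.1 ≠ w.1 * v.1 := by
  haveI : Fact (Nat.Prime 2) := ⟨Nat.prime_two⟩
  have hconj : IsConj base b := by
    rw [Equiv.Perm.isConj_iff_cycleType_eq]
    have h1 : ∀ n ∈ b.cycleType, n = 2 := fun n hn => by
      have := Equiv.Perm.dvd_of_mem_cycleType hn
      have := Equiv.Perm.two_le_of_mem_cycleType hn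
      rw [hb] at *
      have := Nat.le_of_dvd two_pos ‹n ∣ 2›
      omega
    have h2 := b.sum_cycleType
    rw [Multiset.eq_replicate_card.mpr h1, Multiset.sum_replicate, smul_eq_mul, h4] at h2
    rw [Multiset.eq_replicate_card.mpr h1, show Multiset.card b.cycleType = 2 by omega]
    decide +kernel
  obtain ⟨π, rfl⟩ := isConj_iff.mp hconj
  let f : Cen base ≃ Cen (π * base * π⁻¹) :=
    { toFun := fun x => ⟨π * x.1 * π⁻¹, by
        refine ⟨?_, by rw [conj_mul, conj_mul, x.2.2]⟩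
        rw [map_mul, map_mul, x.2.1, mul_one, map_inv, mul_inv_cancel]⟩
      invFun := fun y => ⟨π⁻¹ * y.1 * π, by
        refine ⟨?_, ?_⟩
        · rw [map_mul, map_mul, y.2.1, mul_one, map_inv, inv_mul_cancel]
        · calc π⁻¹ * y.1 * π * base = π⁻¹ * (y.1 * (π * base * π⁻¹)) * π := by group
            _ = base * (π⁻¹ * y.1 * π) := by rw [y.2.2]; group⟩
      left_inv := fun x => Subtype.ext (by simp only; group)
      right_inv := fun y => Subtype.ext (by simp only; group) }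
  refine ⟨by rw [← Nat.card_congr f, Nat.card_eq_fintype_card, card_cen_base], ?_⟩
  let v₀ : Cen base := ⟨Equiv.swap 0 2 * Equiv.swap 1 3, by decide +kernel⟩
  let w₀ : Cen base := ⟨Equiv.swap 0 1 * Equiv.swap 4 5, by decide +kernel⟩
  refine ⟨f v₀, f w₀, ?_, ?_, ?_, ?_, ?_⟩ <;>
    simp only [f, Equiv.coe_fn_mk, conj_mul, ne_eq, conj_eq_one_iff, mul_left_inj, mul_right_inj] <;>
    decide +kernel

/-- Let α̃ be an involution of the alternating group A₆ that is a product of two disjoint transpositions (it lies in the centre of a Sylow 2-subgroup of A₆; its centralizer is dihedral of order 8). Let G be a finite group that has no subgroup of index 2 and contains an involution α, central in some Sylow 2-subgroup of G, with C_G(α) ≅ C_{A₆}(α̃). Then G is isomorphic to A₆ or to PSL₂(7). -/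
theorem result {G : Type*} [Group G] [Finite G]
    (hG : ∀ H : Subgroup G, H.index ≠ 2)
    (αt : ↥(alternatingGroup (Fin 6))) (hαt : orderOf αt = 2) (hsupp : (αt : Equiv.Perm (Fin 6)).support.card = 4)
    (α : G) (hα : orderOf α = 2) (S : Sylow 2 G) (hαS : α ∈ (S : Subgroup G)) (hαc : ∀ s ∈ (S : Subgroup G), s * α = α * s)
    (e : ↥(Subgroup.centralizer ({α} : Set G)) ≃* ↥(Subgroup.centralizer ({αt} : Set ↥(alternatingGroup (Fin 6))))) :
    Nonempty (G ≃* ↥(alternatingGroup (Fin 6))) ∨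
      (∃ (F : Type) (_ : Field F) (_ : Fintype F), Fintype.card F = 7 ∧ Nonempty (G ≃* Matrix.ProjectiveSpecialLinearGroup (Fin 2) F)) := by
  classical
  obtain ⟨hcard, v, w, hv2, hw2, hv1, hw1, hvw⟩ :=
    witnesses (αt : Equiv.Perm (Fin 6)) (by rw [Subgroup.orderOf_coe, hαt]) hsupp
  set D := Subgroup.centralizer ({αt} : Set ↥(alternatingGroup (Fin 6))) with hD
  let lift : Cen (αt : Equiv.Perm (Fin 6)) → D := fun x =>
    ⟨⟨x.1, Equiv.Perm.mem_alternatingGroup.mpr x.2.1⟩,
      Subgroup.mem_centralizer_singleton_iff.mpr (Subtype.ext x.2.2)⟩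
  let back : D → Cen (αt : Equiv.Perm (Fin 6)) := fun y =>
    ⟨y.1.1, Equiv.Perm.mem_alternatingGroup.mp y.1.2,
      congrArg Subtype.val (Subgroup.mem_centralizer_singleton_iff.mp y.2)⟩
  have hD8 : Nat.card D = 8 := by
    rw [← hcard]; exact Nat.card_congr ⟨back, lift, fun _ => rfl, fun _ => rfl⟩
  set C := Subgroup.centralizer ({α} : Set G) with hC
  have hC8 : Nat.card C = 8 := by rw [Nat.card_congr e.toEquiv, hD8]
  set v' := e.symm (lift v)
  set w' := e.symm (lift w)
  have hsq : ∀ x : Cen (αt : Equiv.Perm (Fin 6)), x.1 * x.1 = 1 → x.1 ≠ 1 →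
      ((e.symm (lift x) : C) : G) * (e.symm (lift x) : C) = 1 ∧ ((e.symm (lift x) : C) : G) ≠ 1 := by
    intro x hx hx1
    have h1 : lift x * lift x = 1 := Subtype.ext (Subtype.ext hx)
    refine ⟨?_, fun he => hx1 ?_⟩
    · rw [← Subgroup.coe_mul, ← map_mul, h1, map_one, Subgroup.coe_one]
    · have h2 : lift x = 1 := e.symm.injective (by rw [map_one]; exact Subtype.ext he)
      exact congrArg (fun y : D => (y.1 : Equiv.Perm (Fin 6))) h2
  have hne : (v' : G) * w' ≠ w' * v' := by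
    intro he
    have h1 : e.symm (lift v * lift w) = e.symm (lift w * lift v) := by
      rw [map_mul, map_mul]; exact Subtype.ext he
    exact hvw (congrArg (fun y : D => (y.1 : Equiv.Perm (Fin 6))) (e.symm.injective h1))
  obtain ⟨u, hu, hu2, hu1, huα⟩ : ∃ u ∈ C, u * u = 1 ∧ u ≠ 1 ∧ u ≠ α := by
    by_cases hvα : (v' : G) = α
    · refine ⟨w', w'.2, (hsq w hw2 hw1).1, (hsq w hw2 hw1).2, fun hwα => hne ?_⟩
      rw [hvα, hwα]
    · exact ⟨v', v'.2, (hsq v hv2 hv1).1, (hsq v hv2 hv1).2, hvα⟩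
  obtain ⟨a, b, E⟩ := CfsgLib.InvChar.exists_eightData hα hC8
    ⟨_, v'.2, _, w'.2, hne⟩ hu hu2 hu1 huα
  haveI := E.isSimpleGroup hG
  rcases E.card_eq hG with h | h
  · exact Or.inr ⟨ZMod 7, inferInstance, inferInstance, ZMod.card 7,
      CfsgLib.InvChar.iso_psl_two_seven h (ZMod.card 7)⟩
  · exact Or.inl (CfsgLib.InvChar.iso_alternatingSix h)

end Cfsg.Agent.S3261
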