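import Cfsg.Statements.S3264
import Cfsg.Agent.InvertedOdd.Basic
import Mathlib.Combinatorics.SimpleGraph.Connectivity.Connected

set_option autoImplicit false
open Cfsg

namespace Cfsg.Agent.S3264

/-- Let G be a non-abelian finite simple group and X a conjugacy class of involutions of G. Form the graph on X in which two distinct involutions are joined when their product has odd order. Then this graph is connected. (By the Baer–Suzuki Theorem the graph has at least one edge; connectedness is the stronger statement.) -/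
theorem result {G : Type*} [Group G] [Finite G] [IsSimpleGroup G]
    (hG : ¬ IsMulCommutative G) (t : G) (ht : orderOf t = 2) :
    (SimpleGraph.fromRel fun x y : {x : G // IsConj t x} => Odd (orderOf (x.1 * y.1))).Connected := by
  classical
  set Γ := SimpleGraph.fromRel fun x y : {x : G // IsConj t x} => Odd (orderOf (x.1 * y.1)) with hΓ
  let t₀ : {x : G // IsConj t x} := ⟨t, IsConj.refl t⟩
  have hmem : ∀ (g : G) (x : {x : G // IsConj t x}), IsConj t (g * x.1 * g⁻¹) :=
    fun g x => x.2.trans (isConj_iff.2 ⟨g, rfl⟩)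
  let act : G → Γ →g Γ := fun g =>
    { toFun := fun x => ⟨g * x.1 * g⁻¹, hmem g x⟩
      map_rel' := fun {x y} h => by
        rw [hΓ, SimpleGraph.fromRel_adj] at h ⊢
        refine ⟨fun e => h.1 (Subtype.ext (by simpa using congrArg Subtype.val e)), ?_⟩
        have hc : ∀ a b : G, orderOf (g * a * g⁻¹ * (g * b * g⁻¹)) = orderOf (a * b) := fun a b => by
          rw [show g * a * g⁻¹ * (g * b * g⁻¹) = MulAut.conj g (a * b) by simp]
          exact orderOf_injective (MulAut.conj g).toMonoidHom (MulAut.conj g).injective _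
        exact h.2.imp (fun h => by rw [hc]; exact h) fun h => by rw [hc]; exact h }
  -- the stabiliser of the component
  let U : Subgroup G :=
    { carrier := {g | Γ.Reachable t₀ (act g t₀)}
      one_mem' := by
        show Γ.Reachable t₀ (act 1 t₀)
        rw [show act 1 t₀ = t₀ from Subtype.ext (by simp [act])]
      mul_mem' := fun {a b} ha hb => by
        refine ha.trans ?_
        have := hb.map (act a)
        rwa [show act a (act b t₀) = act (a * b) t₀ from Subtype.ext (by simp [act, mul_assoc])]
          at this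
      inv_mem' := fun {a} ha => by
        have := (ha.map (act a⁻¹)).symm
        rwa [show act a⁻¹ (act a t₀) = t₀ from Subtype.ext (by simp [act, mul_assoc])] at this }
  have htt : t * t = 1 := by rw [← sq, ← ht, pow_orderOf_eq_one]
  have hti : t⁻¹ = t := inv_eq_of_mul_eq_one_right htt
  let α : MulAut G := MulAut.conj t
  have hi : ∀ g, α (α g) = g := fun g => by simp [α, hti, ← mul_assoc, htt]; simp [mul_assoc, htt]
  -- the twists generate
  have hgen : Subgroup.closure (Set.range (CfsgLib.ZipperClosure.twist α)) = ⊤ := by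
    set T := Subgroup.closure (Set.range (CfsgLib.ZipperClosure.twist α)) with hT
    have hid : ∀ c d : G, d * CfsgLib.ZipperClosure.twist α c * d⁻¹ =
        CfsgLib.ZipperClosure.twist α (d * c) * (CfsgLib.ZipperClosure.twist α d)⁻¹ := fun c d => by
      simp only [CfsgLib.ZipperClosure.twist, map_mul]; group
    have hTn : T.Normal := ⟨fun n hn d => by
      have h : T.map (MulAut.conj d).toMonoidHom ≤ T := by
        rw [hT, MonoidHom.map_closure, Subgroup.closure_le]
        rintro _ ⟨_, ⟨c, rfl⟩, rfl⟩
        show d * CfsgLib.ZipperClosure.twist α c * d⁻¹ ∈ _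
        rw [hid]
        exact mul_mem (Subgroup.subset_closure ⟨_, rfl⟩)
          (inv_mem (Subgroup.subset_closure ⟨_, rfl⟩))
      exact h ⟨n, hn, rfl⟩⟩
    refine hTn.eq_bot_or_eq_top.resolve_left fun h => ?_
    have hc : ∀ g : G, g * t = t * g := fun g => by
      have h1 : CfsgLib.ZipperClosure.twist α g ∈ T := Subgroup.subset_closure ⟨g, rfl⟩
      rw [h, Subgroup.mem_bot] at h1
      have h2 : g = t * g * t⁻¹ := mul_inv_eq_one.1 h1
      calc g * t = t * g * t⁻¹ * t := by rw [← h2]
        _ = t * g := inv_mul_cancel_right _ _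
    have hz : t ∈ Subgroup.center G := Subgroup.mem_center_iff.2 hc
    rcases (inferInstance : (Subgroup.center G).Normal).eq_bot_or_eq_top with h' | h'
    · rw [h', Subgroup.mem_bot] at hz
      subst hz
      simp at ht
    · exact hG ⟨⟨fun a b => Subgroup.mem_center_iff.1 (h'.ge (Subgroup.mem_top b)) a⟩⟩
  have hU : ∀ v : CfsgLib.InvertedOdd.Inv α, (v : G) ∈ U := by
    rintro ⟨v, hodd, hv⟩
    show Γ.Reachable t₀ (act v t₀)
    by_cases he : t₀ = act v t₀
    · rw [← he]
    refine SimpleGraph.Adj.reachable ?_
    refine (SimpleGraph.fromRel_adj _ _ _).2 ⟨he, Or.inl ?_⟩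
    have hv' : t * v * t⁻¹ = v⁻¹ := hv
    have hp : t * (v * t * v⁻¹) = (v ^ 2)⁻¹ := by
      calc t * (v * t * v⁻¹) = (t * v * t⁻¹) * (t * t) * v⁻¹ := by group
        _ = (v ^ 2)⁻¹ := by rw [hv', htt, sq]; group
    show Odd (orderOf (t * (v * t * v⁻¹)))
    rw [hp, orderOf_inv]
    exact hodd.of_dvd_nat (orderOf_pow_dvd 2)
  have htop : ∀ g, g ∈ U := fun g => by
    have hle : Subgroup.closure (Set.range (fun x : CfsgLib.InvertedOdd.Inv α => (x : G))) ≤ U := by
      rw [Subgroup.closure_le]; rintro _ ⟨x, rfl⟩; exact hU x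
    rw [CfsgLib.InvertedOdd.closure_inv_eq_top ⟨hi, hgen⟩] at hle
    exact hle (Subgroup.mem_top g)
  have : Nonempty {x : G // IsConj t x} := ⟨t₀⟩
  refine ⟨fun a b => ?_⟩
  have key : ∀ a, Γ.Reachable t₀ a := fun a => by
    obtain ⟨g, hg⟩ := isConj_iff.1 a.2
    rw [show a = act g t₀ from Subtype.ext hg.symm]
    exact htop g
  exact (key a).symm.trans (key b)

end Cfsg.Agent.S3264
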