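import Cfsg.Statements.S3265
import Cfsg.Agent.InvChar.OddGraphSymMain
import Mathlib.Combinatorics.SimpleGraph.Diam

set_option autoImplicit false
open Cfsg

namespace Cfsg.Agent.S3265

open Equiv Equiv.Perm CfsgLib.OddGraphSym

theorem graph_diam_two {V : Type*} (G : SimpleGraph V)
    (h2 : ∀ u v, u ≠ v → ¬ G.Adj u v → ∃ w, G.Adj u w ∧ G.Adj w v)
    (hex : ∃ u v, u ≠ v ∧ ¬ G.Adj u v) : G.Connected ∧ G.diam = 2 := by
  obtain ⟨u₀, v₀, hne, hna⟩ := hex
  have hle : ∀ u v, G.edist u v ≤ 2 := by
    intro u v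
    by_cases h : u = v
    · subst h; simp
    by_cases ha : G.Adj u v
    · rw [SimpleGraph.edist_eq_one_iff_adj.2 ha]; exact one_le_two
    obtain ⟨w, h1, h3⟩ := h2 u v h ha
    calc G.edist u v ≤ G.edist u w + G.edist w v := G.edist_triangle
      _ = 2 := by
        rw [SimpleGraph.edist_eq_one_iff_adj.2 h1, SimpleGraph.edist_eq_one_iff_adj.2 h3]; rfl
  have he : G.ediam ≤ 2 := SimpleGraph.ediam_le_of_edist_le hle
  haveI : Nonempty V := ⟨u₀⟩
  have hne' : G.ediam ≠ ⊤ := fun h => by simp [h] at he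
  refine ⟨SimpleGraph.connected_of_ediam_ne_top hne', ?_⟩
  have hge : 2 ≤ G.edist u₀ v₀ := by
    refine Order.add_one_le_of_lt (x := (1 : ℕ∞)) (lt_of_le_of_ne ?_ fun h => ?_)
    · exact ENat.one_le_iff_ne_zero.2 fun h => hne (SimpleGraph.edist_eq_zero_iff.1 h)
    · exact hna (SimpleGraph.edist_eq_one_iff_adj.1 h.symm)
  rw [SimpleGraph.diam, le_antisymm he (hge.trans SimpleGraph.edist_le_ediam)]
  rfl

theorem cycleType_invol {α : Type*} [Fintype α] [DecidableEq α] {x : Perm α} (hx : orderOf x = 2) :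
    ∃ k : ℕ, x.cycleType = Multiset.replicate k 2 ∧ x.support.card = 2 * k := by
  obtain ⟨k, hk⟩ := cycleType_prime_order (hx ▸ Nat.prime_two)
  rw [hx] at hk
  refine ⟨k + 1, hk, ?_⟩
  rw [← sum_cycleType, hk, Multiset.sum_replicate, smul_eq_mul, mul_comm]

theorem isConj_of_card {α : Type*} [Fintype α] [DecidableEq α] {x z : Perm α} (hx : orderOf x = 2)
    (hz : z * z = 1) (h : z.support.card = x.support.card) : IsConj x z := by
  obtain ⟨k, hk, hc⟩ := cycleType_invol hx
  have hz2 : orderOf z = 2 := orderOf_eq_prime (by rw [pow_two, hz]) fun e => by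
    rw [e, support_one, Finset.card_empty] at h
    have h0 := Finset.card_eq_zero.1 h.symm
    rw [support_eq_empty_iff] at h0
    rw [h0, orderOf_one] at hx
    omega
  obtain ⟨k', hk', hc'⟩ := cycleType_invol hz2
  rw [isConj_iff_cycleType_eq, hk, hk', show k' = k by omega]

theorem exists_nonadj {n : ℕ} (hn : 5 ≤ n) (t : Perm (Fin n)) (ht : orderOf t = 2) :
    ∃ y : Perm (Fin n), IsConj t y ∧ y ≠ t ∧ Commute t y := by
  have htt : t * t = 1 := by rw [← pow_two, ← ht, pow_orderOf_eq_one]
  obtain ⟨a, ha⟩ : ∃ a, t a ≠ a := by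
    by_contra hcon
    simp only [not_exists, not_not] at hcon
    have : t = 1 := Perm.ext hcon
    rw [this, orderOf_one] at ht
    omega
  obtain ⟨t1, ht1, et, ct, st, -, ot⟩ := peel htt ha
  by_cases h1 : t1 = 1
  · rw [h1, mul_one] at et
    set b := t a
    have hpair : 2 ≤ (Finset.univ \ {a, b} : Finset (Fin n)).card := by
      rw [Finset.card_univ_sdiff, Finset.card_pair (Ne.symm ha), Fintype.card_fin]
      omega
    obtain ⟨c, hc, d, hd, hcd⟩ := Finset.one_lt_card.1 hpair
    simp only [Finset.mem_sdiff, Finset.mem_univ, true_and, Finset.mem_insert,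
      Finset.mem_singleton, not_or] at hc hd
    refine ⟨swap c d, isConj_of_card ht (swap_mul_self c d) ?_, fun e => ?_, ?_⟩
    · rw [et, card_support_swap hcd, card_support_swap (Ne.symm ha)]
    · have := congrArg (fun p : Perm (Fin n) => p c) e
      rw [et] at this
      simp [swap_apply_of_ne_of_ne hc.1 hc.2, hcd.symm] at this
    · rw [et]
      exact comm_swap (swap_apply_of_ne_of_ne (Ne.symm hc.1) (Ne.symm hd.1))
        (swap_apply_of_ne_of_ne (Ne.symm hc.2) (Ne.symm hd.2))
  · obtain ⟨c, hc⟩ : ∃ c, t1 c ≠ c := by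
      by_contra hcon
      simp only [not_exists, not_not] at hcon
      exact h1 (Perm.ext hcon)
    have hca : c ≠ a ∧ c ≠ t a := by
      have := mem_support.2 hc
      rw [st] at this
      simp at this
      exact this.2
    have htc : t c ≠ c := by rw [← ot c hca.1 hca.2]; exact hc
    set b := t a
    set d := t c
    have hda : d ≠ a := fun e => hca.2 (by rw [← invol_apply htt c]; exact congrArg t e)
    have hdb : d ≠ b := fun e => hca.1 (t.injective e)
    set s := swap b c
    refine ⟨s * t * s⁻¹, isConj_iff.2 ⟨s, rfl⟩, fun e => ?_, ?_⟩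
    · have h2 := congrArg (fun p : Perm (Fin n) => p a) e
      simp only [s, Perm.mul_apply, swap_inv] at h2
      rw [swap_apply_of_ne_of_ne (Ne.symm ha) (Ne.symm hca.1)] at h2
      rw [show t a = b from rfl, swap_apply_left] at h2
      exact hca.2 h2
    · have hs : t * s = swap a d * t := by
        rw [mul_swap_eq_swap_mul, show t b = a from invol_apply htt a]
      have hfa : s a = a := swap_apply_of_ne_of_ne (Ne.symm ha) (Ne.symm hca.1)
      have hfd : s d = d := swap_apply_of_ne_of_ne hdb htc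
      have hsd : Commute (swap a d) s := comm_swap hfa hfd
      have hs' : s⁻¹ = s := swap_inv b c
      rw [hs']
      have hts : t * s * t = swap a d := by rw [hs, mul_assoc, htt, mul_one]
      show t * (s * t * s) = s * t * s * t
      calc t * (s * t * s) = (t * s * t) * s := by simp [mul_assoc]
        _ = s * (t * s * t) := by rw [hts, hsd.eq]
        _ = s * t * s * t := by simp [mul_assoc]

/-- Let n ≥ 5 and let X be a conjugacy class of involutions of the symmetric group of degree n. The graph on X joining two distinct involutions whose product has odd order is connected and has diameter exactly 2. -/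
theorem result (n : ℕ) (hn : 5 ≤ n) (t : Equiv.Perm (Fin n)) (ht : orderOf t = 2) :
    (SimpleGraph.fromRel fun x y : {x : Equiv.Perm (Fin n) // IsConj t x} =>
        Odd (orderOf (x.1 * y.1))).Connected ∧
      (SimpleGraph.fromRel fun x y : {x : Equiv.Perm (Fin n) // IsConj t x} =>
        Odd (orderOf (x.1 * y.1))).diam = 2 := by
  have hsq : ∀ x : Perm (Fin n), IsConj t x → x * x = 1 ∧ orderOf x = 2 := by
    intro x hx
    obtain ⟨c, rfl⟩ := isConj_iff.1 hx
    have h2 : orderOf (c * t * c⁻¹) = 2 := by rw [← MulAut.conj_apply, MulEquiv.orderOf_eq, ht]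
    exact ⟨by rw [← pow_two, ← h2, pow_orderOf_eq_one], h2⟩
  have hcard : ∀ x : Perm (Fin n), IsConj t x → x.support.card = t.support.card := by
    intro x hx
    rw [← sum_cycleType, ← sum_cycleType, isConj_iff_cycleType_eq.1 hx]
  refine graph_diam_two _ (fun u v huv hna => ?_) ?_
  · simp only [SimpleGraph.fromRel_adj, ne_eq, huv, not_false_eq_true, true_and, not_or] at hna
    obtain ⟨u1, u2⟩ := hsq u.1 u.2
    obtain ⟨v1, v2⟩ := hsq v.1 v.2
    have hp : Pre Finset.univ u.1 v.1 :=
      ⟨u1, v1, Finset.subset_univ _, Finset.subset_univ _,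
        (hcard _ u.2).trans (hcard _ v.2).symm⟩
    obtain ⟨z, hz, -, hzc, ho1, ho2⟩ := exists_odd_both hp fun h => by
      have := h.1; simp at this; omega
    have hzu : IsConj t z := u.2.trans (isConj_of_card u2 hz hzc)
    have hO' : ∀ {g h : Perm (Fin n)}, g * g = 1 → h * h = 1 → O (g * h) → O (h * g) :=
      fun hg hh ho => O_swap_mul ho
    refine ⟨⟨z, hzu⟩, ?_, ?_⟩
    · simp only [SimpleGraph.fromRel_adj, ne_eq]
      refine ⟨fun e => ?_, Or.inl ho1⟩
      subst e
      exact hna.2 ho2
    · simp only [SimpleGraph.fromRel_adj, ne_eq]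
      refine ⟨fun e => ?_, Or.inr ho2⟩
      subst e
      exact hna.1 ho1
  · obtain ⟨y, hy, hne, hc⟩ := exists_nonadj hn t ht
    refine ⟨⟨t, IsConj.refl t⟩, ⟨y, hy⟩, fun e => hne (congrArg Subtype.val e).symm, ?_⟩
    obtain ⟨y1, -⟩ := hsq y hy
    have ht1 : t * t = 1 := (hsq t (IsConj.refl t)).1
    have hodd : ∀ g h : Perm (Fin n), g * g = 1 → h * h = 1 → Commute g h → g ≠ h →
        ¬ Odd (orderOf (g * h)) := by
      intro g h hg hh hgh hgne hodd
      have h2 : (g * h) ^ 2 = 1 := by rw [hgh.mul_pow, pow_two, pow_two, hg, hh, one_mul]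
      have h1 : orderOf (g * h) = 1 :=
        Nat.eq_one_of_dvd_coprimes (Nat.coprime_two_right.2 hodd) dvd_rfl (orderOf_dvd_of_pow_eq_one h2)
      rw [orderOf_eq_one_iff, mul_eq_one_iff_eq_inv, inv_eq_of_mul_eq_one_left hh] at h1
      exact hgne h1
    simp only [SimpleGraph.fromRel_adj, ne_eq, not_and, not_or]
    exact fun _ => ⟨hodd t y ht1 y1 hc (Ne.symm hne), hodd y t y1 ht1 hc.symm hne⟩

end Cfsg.Agent.S3265
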