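import Cfsg.Statements.S3276
import Mathlib
import Cfsg.Agent.InvChar.Basic
-- import your own Cfsg.Agent.* helpers here

set_option autoImplicit false
open Cfsg

namespace Cfsg.Agent.S3276

/-- Let x and y be commuting, non-conjugate involutions of a finite group G, and suppose that for every involution u commuting with x, each conjugate of y that commutes with u also commutes with y. Then the normal closure of y is a proper, normal, elementary abelian 2-subgroup of G; and if y is the only involution of that normal closure commuting with x, it has order at most 4. -/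
theorem result {G : Type*} [Group G] [Finite G] (x y : G) (hx : orderOf x = 2) (hy : orderOf y = 2)
    (hxy : Commute x y) (hnc : ¬ IsConj x y)
    (hstar : ∀ u : G, orderOf u = 2 → Commute u x → ∀ g : G, Commute (g * y * g⁻¹) u → Commute (g * y * g⁻¹) y) :
    Subgroup.normalClosure ({y} : Set G) ≠ ⊤ ∧ Cfsg.IsElementaryAbelian 2 (Subgroup.normalClosure ({y} : Set G)) ∧
      ((∀ u ∈ Subgroup.normalClosure ({y} : Set G), orderOf u = 2 → Commute u x → u = y) →
        Nat.card ↥(Subgroup.normalClosure ({y} : Set G)) ≤ 4) := by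

  have hall : ∀ g : G, Commute (g * y * g⁻¹) y := by
    intro g
    have hy' : orderOf (g * y * g⁻¹) = 2 := by
      rw [← hy]; exact orderOf_injective (MulAut.conj g).toMonoidHom (MulAut.conj g).injective y
    have hn : ¬ IsConj x (g * y * g⁻¹) := fun h =>
      hnc (h.trans (isConj_iff.mpr ⟨g, rfl⟩).symm)
    obtain ⟨k, hk, hk1, hk2⟩ := CfsgLib.InvChar.exists_commuting_involution hx hy' hn
    exact hstar _ hk hk1 g hk2.symm
  have hpair : ∀ a ∈ Group.conjugatesOfSet ({y} : Set G), ∀ b ∈ Group.conjugatesOfSet ({y} : Set G),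
      a * b = b * a := by
    intro a ha b hb
    simp only [Group.mem_conjugatesOfSet_iff, Set.mem_singleton_iff, exists_eq_left, isConj_iff] at ha hb
    obtain ⟨c, rfl⟩ := ha
    obtain ⟨d, rfl⟩ := hb
    have h := (hall (d⁻¹ * c)).map (MulAut.conj d).toMonoidHom
    have e1 : (MulAut.conj d).toMonoidHom (d⁻¹ * c * y * (d⁻¹ * c)⁻¹) = c * y * c⁻¹ := by
      simp only [MulEquiv.toMonoidHom_eq_coe, MonoidHom.coe_coe, MulAut.conj_apply]; group
    have e2 : (MulAut.conj d).toMonoidHom y = d * y * d⁻¹ := by
      simp
    rw [e1, e2] at h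
    exact h
  set N := Subgroup.normalClosure ({y} : Set G) with hN
  have hyN : y ∈ N := Subgroup.subset_normalClosure rfl
  have hcomm : IsMulCommutative N := by
    rw [hN]; unfold Subgroup.normalClosure
    exact Subgroup.isMulCommutative_closure hpair
  have hel : ∀ a ∈ N, a ^ 2 = 1 := by
    intro a ha
    rw [hN] at ha
    refine Subgroup.closure_induction (p := fun a _ => a ^ 2 = 1) ?_ (one_pow 2) ?_ ?_ ha
    · intro b hb
      simp only [Group.mem_conjugatesOfSet_iff, Set.mem_singleton_iff, exists_eq_left, isConj_iff] at hb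
      obtain ⟨c, rfl⟩ := hb
      rw [conj_pow, sq, CfsgLib.InvChar.mul_self_of_orderOf hy]; group
    · intro a b ha hb h1 h2
      have : a * b = b * a :=
        congrArg Subtype.val (hcomm.is_comm.comm (⟨a, ha⟩ : N) ⟨b, hb⟩)
      rw [Commute.mul_pow (show Commute a b from this), h1, h2, one_mul]
    · intro a ha h1
      rw [inv_pow, h1, inv_one]
  refine ⟨?_, ⟨hcomm, hel⟩, ?_⟩
  · intro htop
    have hab : ∀ a b : G, a * b = b * a := fun a b =>
      congrArg Subtype.val (hcomm.is_comm.comm (⟨a, htop ▸ Subgroup.mem_top a⟩ : N)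
        ⟨b, htop ▸ Subgroup.mem_top b⟩)
    have hz : (Subgroup.zpowers y).Normal := ⟨fun n hn g => by
      rwa [hab g n, mul_assoc, mul_inv_cancel, mul_one]⟩
    have : N ≤ Subgroup.zpowers y :=
      Subgroup.normalClosure_le_normal (by simp)
    have hxz : x ∈ Subgroup.zpowers y := this (htop ▸ Subgroup.mem_top x)
    obtain ⟨i, hi⟩ := hxz
    rcases Int.even_or_odd i with ⟨j, rfl⟩ | ⟨j, rfl⟩
    · have : x = 1 := by
        rw [← hi]; simp only [← two_mul, zpow_mul, zpow_two, CfsgLib.InvChar.mul_self_of_orderOf hy, one_zpow]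
      rw [this, orderOf_one] at hx; omega
    · have : x = y := by
        rw [← hi]; simp only [zpow_add, zpow_mul, zpow_two, CfsgLib.InvChar.mul_self_of_orderOf hy, one_zpow, one_mul, zpow_one]
      exact hnc (this ▸ IsConj.refl x)
  · intro hu
    have hnn : N.Normal := by rw [hN]; exact Subgroup.normalClosure_normal
    have hx1 := CfsgLib.InvChar.mul_self_of_orderOf hx
    have hxi := CfsgLib.InvChar.inv_of_orderOf hx
    let f : N → N := fun n => ⟨n.1 * (x * n.1 * x⁻¹), N.mul_mem n.2 (hnn.conj_mem _ n.2 x)⟩
    have hfc : ∀ n : N, (f n).1 = 1 ∨ (f n).1 = y := by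
      intro n
      by_cases h1 : (f n).1 = 1
      · exact Or.inl h1
      · right
        refine hu _ (f n).2 (orderOf_eq_prime (hel _ (f n).2) h1) ?_
        have hc : n.1 * (x * n.1 * x⁻¹) = (x * n.1 * x⁻¹) * n.1 :=
          congrArg Subtype.val (hcomm.is_comm.comm n ⟨_, hnn.conj_mem _ n.2 x⟩)
        show (n.1 * (x * n.1 * x⁻¹)) * x = x * (n.1 * (x * n.1 * x⁻¹))
        conv_rhs => rw [hc]
        rw [hxi]
        calc n.1 * (x * n.1 * x) * x = n.1 * (x * n.1 * (x * x)) := by group
          _ = (x * x) * n.1 * x * n.1 := by rw [hx1]; group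
          _ = x * (x * n.1 * x * n.1) := by group
    have hfix : ∀ n : N, (f n).1 = 1 → n.1 = 1 ∨ n.1 = y := by
      intro n hn
      by_cases h1 : n.1 = 1
      · exact Or.inl h1
      · right
        refine hu _ n.2 (orderOf_eq_prime (hel _ n.2) h1) ?_
        have hn2 : n.1 * n.1 = 1 := by rw [← sq]; exact hel _ n.2
        have h2 : x * n.1 * x⁻¹ = n.1 := by
          have h3 : n.1 * (x * n.1 * x⁻¹) = n.1 * n.1 := by rw [hn2]; exact hn
          exact mul_left_cancel h3
        exact (mul_inv_eq_iff_eq_mul.mp h2).symm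
    let one : N := 1
    let yy : N := ⟨y, hyN⟩
    have hfib : ∀ m n : N, f m = f n → n = m ∨ n = m * yy := by
      intro m n hmn
      have hmn' : m.1 * (x * m.1 * x⁻¹) = n.1 * (x * n.1 * x⁻¹) := congrArg Subtype.val hmn
      have hm2 : ∀ a : N, a * a = 1 := fun a => Subtype.ext (by rw [← sq]; exact hel _ a.2)
      let cx : N →* N :=
        { toFun := fun a => ⟨x * a.1 * x⁻¹, hnn.conj_mem _ a.2 x⟩
          map_one' := Subtype.ext (by simp)
          map_mul' := fun a b => Subtype.ext (by simp [mul_assoc]) }
      have hc : ∀ a b : N, a * b = b * a := fun a b => hcomm.is_comm.comm a b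
      have hfm : m * cx m = n * cx n := Subtype.ext hmn'
      have : (f (m * n)).1 = 1 := by
        show ((m * n) * cx (m * n) : N).1 = 1
        rw [map_mul]
        have : m * n * (cx m * cx n) = 1 := by
          rw [mul_assoc, ← mul_assoc n, hc n (cx m), mul_assoc (cx m), ← mul_assoc m, hfm, hm2]
        rw [this]; rfl
      rcases hfix _ this with h | h
      · left
        have : m * n = 1 := Subtype.ext h
        rw [eq_comm, ← inv_eq_of_mul_eq_one_right this, inv_eq_of_mul_eq_one_right (hm2 m)]
      · right
        have : m * n = yy := Subtype.ext h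
        rw [← this, ← mul_assoc, hm2, one_mul]
    haveI : Finite N := inferInstance
    classical
    haveI : Fintype N := Fintype.ofFinite N
    rw [Nat.card_eq_fintype_card, ← Finset.card_univ]
    have himg : (Finset.univ.image f).card ≤ 2 := by
      refine (Finset.card_le_card ?_).trans (Finset.card_le_two (a := one) (b := yy))
      intro a ha
      obtain ⟨n, -, rfl⟩ := Finset.mem_image.mp ha
      rcases hfc n with h | h
      · simp [show f n = one from Subtype.ext h]
      · simp [show f n = yy from Subtype.ext h]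
    have := Finset.card_le_mul_card_image (f := f) Finset.univ 2 (by
      intro a ha
      obtain ⟨m, -, rfl⟩ := Finset.mem_image.mp ha
      refine (Finset.card_le_card ?_).trans (Finset.card_le_two (a := m) (b := m * yy))
      intro n hn
      rcases hfib m n (Finset.mem_filter.mp hn).2.symm with h | h <;> simp [h])
    omega

end Cfsg.Agent.S3276
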