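import Cfsg.Statements.S3278
import Cfsg.Agent.InvChar.FourGroupCount
import Cfsg.Agent.InvChar.SylowTools
import Cfsg.Agent.S3224
import Cfsg.Agent.S3225
import Cfsg.Agent.Dickson.OrderSixty
import Mathlib.GroupTheory.Transfer
import Mathlib.GroupTheory.SchurZassenhaus

set_option autoImplicit false
open Cfsg

namespace Cfsg.Agent.S3278

open CfsgLib.InvChar

universe u

/-- In a cyclic subgroup there is at most one involution. -/
theorem invol_unique {G : Type*} [Group G] [Finite G] {a w w' : G}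
    (hw : w ∈ Subgroup.zpowers a) (hw' : w' ∈ Subgroup.zpowers a) (h : orderOf w = 2)
    (h' : orderOf w' = 2) : w = w' := by
  classical
  haveI := Fintype.ofFinite (Subgroup.zpowers a)
  by_contra hne
  have h3 := IsCyclic.card_pow_eq_one_le (α := Subgroup.zpowers a) (n := 2) two_pos
  have hsub : ({1, ⟨w, hw⟩, ⟨w', hw'⟩} : Finset (Subgroup.zpowers a)) ⊆
      Finset.univ.filter fun z => z ^ 2 = 1 := by
    intro z hz
    simp only [Finset.mem_insert, Finset.mem_singleton] at hz
    refine Finset.mem_filter.mpr ⟨Finset.mem_univ _, Subtype.ext ?_⟩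
    rcases hz with rfl | rfl | rfl
    · simp
    · simpa [h] using pow_orderOf_eq_one w
    · simpa [h'] using pow_orderOf_eq_one w'
  have h4 := (Finset.card_le_card hsub).trans h3
  simp [Subtype.ext_iff, (CfsgLib.Invol.ne_one h).symm, (CfsgLib.Invol.ne_one h').symm, hne] at h4

/-- A subgroup of order four lists its elements. -/
theorem mem_list {G : Type*} [Group G] [Finite G] {V : Subgroup G} (hV : Nat.card V = 4)
    {a b c d : G} (ha : a ∈ V) (hb : b ∈ V) (hc : c ∈ V) (hd : d ∈ V)
    (hab : a ≠ b) (hac : a ≠ c) (had : a ≠ d) (hbc : b ≠ c) (hbd : b ≠ d) (hcd : c ≠ d)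
    {w : G} (hw : w ∈ V) : w = a ∨ w = b ∨ w = c ∨ w = d := by
  classical
  have hsub : ({a, b, c, d} : Finset G) ⊆ (V : Set G).toFinite.toFinset := by
    intro z hz
    simp only [Finset.mem_insert, Finset.mem_singleton] at hz
    rw [Set.Finite.mem_toFinset, SetLike.mem_coe]
    rcases hz with rfl | rfl | rfl | rfl <;> assumption
  have heq := Finset.eq_of_subset_of_card_le hsub (by
    rw [← Nat.card_eq_card_finite_toFinset, SetLike.coe_sort_coe, hV]
    simp [hab, hac, had, hbc, hbd, hcd])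
  have : w ∈ ({a, b, c, d} : Finset G) := by rw [heq]; simpa using hw
  simpa using this

theorem core {G : Type u} [Group G] [Finite G] [IsSimpleGroup G] (x : G) (hx : orderOf x = 2)
    (V : Subgroup G) (hle : V ≤ Subgroup.centralizer ({x} : Set G)) (hK : IsKleinFour V)
    (hodd : ¬ 2 ∣ V.relIndex (Subgroup.centralizer ({x} : Set G)))
    (hn : (V.subgroupOf (Subgroup.centralizer ({x} : Set G))).Normal) :
    Nonempty (G ≃* ↥(alternatingGroup (Fin 5))) := by
  classical
  haveI : Fact (Nat.Prime 2) := ⟨Nat.prime_two⟩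
  haveI := hn
  set C := Subgroup.centralizer ({x} : Set G) with hC
  have hV4 : Nat.card V = 4 := IsKleinFour.card_four
  have hx1 := CfsgLib.Invol.ne_one hx
  have hxx := CfsgLib.Invol.mul_self_eq_one hx
  have hsq : ∀ w ∈ V, w * w = 1 := fun w hw =>
    congrArg Subtype.val (IsKleinFour.mul_self (⟨w, hw⟩ : V))
  have hVcomm : ∀ a ∈ V, ∀ b ∈ V, a * b = b * a := by
    intro a ha b hb
    have h1 := inv_eq_of_mul_eq_one_right (hsq (a * b) (mul_mem ha hb))
    rwa [mul_inv_rev, inv_eq_of_mul_eq_one_right (hsq a ha),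
      inv_eq_of_mul_eq_one_right (hsq b hb), eq_comm] at h1
  obtain ⟨m, hm⟩ : Odd (V.relIndex C) := Nat.odd_iff.mpr (Nat.two_dvd_ne_zero.mp hodd)
  have hpow : ∀ c ∈ C, c ^ (2 * m + 1) ∈ V := by
    intro c hc
    have h := Subgroup.pow_index_mem (V.subgroupOf C) (⟨c, hc⟩ : C)
    rw [← Subgroup.relIndex, hm] at h
    exact h
  have hxC : x ∈ C := Subgroup.mem_centralizer_singleton_iff.mpr rfl
  have hxV : x ∈ V := by
    have h := hpow x hxC
    rwa [pow_succ, pow_mul, sq, hxx, one_pow, one_mul] at h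
  have hVconj : ∀ c ∈ C, ∀ w ∈ V, c * w * c⁻¹ ∈ V := fun c hc w hw =>
    hn.conj_mem ⟨w, hle hw⟩ hw ⟨c, hc⟩
  have hC2 : ∀ c ∈ C, ∀ w ∈ V, c * c * w * (c * c)⁻¹ = w := by
    intro c hc w hw
    have hcx : c * x * c⁻¹ = x := by
      rw [Subgroup.mem_centralizer_singleton_iff.mp hc, mul_inv_cancel_right]
    by_cases hwx : w = x ∨ w = 1
    · rcases hwx with rfl | rfl
      · calc c * c * w * (c * c)⁻¹ = c * (c * w * c⁻¹) * c⁻¹ := by group
          _ = w := by rw [hcx, hcx]
      · simp
    push Not at hwx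
    have hw1 : c * w * c⁻¹ ≠ 1 := fun h => hwx.2 (conj_eq_one_iff.mp h)
    have hwx' : c * w * c⁻¹ ≠ x := fun h => hwx.1 (by
      calc w = c⁻¹ * (c * w * c⁻¹) * c := by group
        _ = c⁻¹ * (c * x * c⁻¹) * c := by rw [h, hcx]
        _ = x := by group)
    have hxw1 : x * w ≠ 1 := fun h => hwx.1 (by
      rw [eq_inv_of_mul_eq_one_right h, inv_eq_of_mul_eq_one_right hxx])
    have hxwx : x * w ≠ x := fun h => hwx.2 (mul_eq_left.mp h)
    have hwxw : w ≠ x * w := fun h => hx1 (mul_eq_right.mp h.symm)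
    rcases mem_list hV4 (one_mem V) hxV hw (mul_mem hxV hw) hx1.symm hwx.2.symm hxw1.symm
      hwx.1.symm hxwx.symm hwxw (hVconj c hc w hw) with h | h | h | h
    · exact absurd h hw1
    · exact absurd h hwx'
    · calc c * c * w * (c * c)⁻¹ = c * (c * w * c⁻¹) * c⁻¹ := by group
        _ = w := by rw [h, h]
    · calc c * c * w * (c * c)⁻¹ = c * (c * w * c⁻¹) * c⁻¹ := by group
        _ = c * (x * w) * c⁻¹ := by rw [h]
        _ = (c * x * c⁻¹) * (c * w * c⁻¹) := by group
        _ = w := by rw [hcx, h, ← mul_assoc, hxx, one_mul]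
  have hcent : ∀ c ∈ C, ∀ w ∈ V, c * w = w * c := by
    intro c hc w hw
    have h1 : Commute (c * c) w := mul_inv_eq_iff_eq_mul.mp (hC2 c hc w hw)
    have h2 : Commute (c ^ (2 * m + 1)) w := hVcomm _ (hpow c hc) w hw
    have h3 : c = ((c * c) ^ m)⁻¹ * c ^ (2 * m + 1) := by
      rw [← sq, ← pow_mul, pow_succ, inv_mul_cancel_left]
    rw [h3]
    exact ((h1.pow_left m).inv_left).mul_left h2
  obtain ⟨S, hVS⟩ := (IsPGroup.of_card (n := 2) (by rw [hV4]; norm_num) : IsPGroup 2 V).exists_le_sylow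
  have hinter : (S : Subgroup G) ⊓ C = V := by
    refine le_antisymm (Subgroup.relIndex_eq_one.mp ?_) (le_inf hVS hle)
    obtain ⟨k, hk⟩ := IsPGroup.iff_card.mp (S.isPGroup'.to_le (inf_le_left (b := C)))
    have h1 : V.relIndex ((S : Subgroup G) ⊓ C) ∣ 2 ^ k := hk ▸ Subgroup.relIndex_dvd_card _ _
    have h2 : V.relIndex ((S : Subgroup G) ⊓ C) ∣ V.relIndex C :=
      ⟨_, (Subgroup.relIndex_mul_relIndex V _ C (le_inf hVS hle) inf_le_right).symm⟩
    obtain ⟨j, -, hj⟩ := (Nat.dvd_prime_pow Nat.prime_two).mp h1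
    rcases Nat.eq_zero_or_pos j with rfl | hj0
    · simpa using hj
    · exact absurd ((hj ▸ dvd_pow_self 2 hj0.ne').trans h2) hodd
  have h4G : 4 ∣ Nat.card G := hV4 ▸ Subgroup.card_subgroup_dvd_card V
  have hnab : ¬ ∀ a b : G, a * b = b * a := by
    intro h
    have hnorm : (Subgroup.zpowers x).Normal :=
      ⟨fun n hn g => by rwa [h g n, mul_inv_cancel_right]⟩
    rcases hnorm.eq_bot_or_eq_top with h0 | h0
    · exact hx1 (Subgroup.zpowers_eq_bot.mp h0)
    · have : Nat.card G = 2 := by rw [← Subgroup.card_top, ← h0, Nat.card_zpowers, hx]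
      omega
  have hno2 : ∀ H : Subgroup G, H.index ≠ 2 := by
    intro H hH
    rcases (Subgroup.normal_of_index_eq_two hH).eq_bot_or_eq_top with rfl | rfl
    · rw [Subgroup.index_bot] at hH; omega
    · rw [Subgroup.index_top] at hH; omega
  have hcardC : Nat.card C = 4 * (2 * m + 1) := by
    rw [← Subgroup.card_mul_index (V.subgroupOf C),
      Nat.card_congr (Subgroup.subgroupOfEquivOfLe hle).toEquiv, hV4, ← Subgroup.relIndex, hm]
  -- the four group is a Sylow subgroup
  have hS4 : Nat.card (S : Subgroup G) = 4 := by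
    by_contra hne
    set xS : (S : Subgroup G) := ⟨x, hVS hxV⟩ with hxS
    have hcS : Nat.card (Subgroup.centralizer ({xS} : Set (S : Subgroup G))) = 4 := by
      have e : Subgroup.centralizer ({xS} : Set (S : Subgroup G)) = V.subgroupOf (S : Subgroup G) := by
        ext s
        rw [Subgroup.mem_centralizer_singleton_iff, Subgroup.mem_subgroupOf]
        conv_rhs => rw [← hinter]
        rw [Subgroup.mem_inf, and_iff_right s.2, hC, Subgroup.mem_centralizer_singleton_iff,
          Subtype.ext_iff]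
        rfl
      rw [e, Nat.card_congr (Subgroup.subgroupOfEquivOfLe hVS).toEquiv, hV4]
    obtain ⟨a, ha2, ha4, hxa⟩ := Cfsg.Agent.S3224.exists_cyclic _ (S : Subgroup G) rfl S.isPGroup'
      xS (by rw [← Subgroup.orderOf_coe]; exact hx) hcS hne
    have hMS : Subgroup.zpowers (a : G) ≤ (S : Subgroup G) := Subgroup.zpowers_le.mpr a.2
    have hsub : (Subgroup.zpowers (a : G)).subgroupOf (S : Subgroup G) = Subgroup.zpowers a := by
      ext s
      rw [Subgroup.mem_subgroupOf, Subgroup.mem_zpowers_iff, Subgroup.mem_zpowers_iff]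
      exact exists_congr fun k => by rw [← Subgroup.coe_zpow, Subtype.ext_iff]
    obtain ⟨g, hg⟩ := Cfsg.Agent.S3225.result (even_iff_two_dvd.mpr (by omega)) hno2 S
      (Subgroup.zpowers (a : G)) hMS (by rw [Subgroup.relIndex, hsub, ha2]) 1 le_rfl
      (fun y _ hy => by
        rw [Nat.sub_self, pow_zero]
        have h1 : orderOf y ≠ 1 := fun h => hy (by rw [orderOf_eq_one_iff.mp h]; exact one_mem _)
        have := orderOf_pos y
        omega)
      x (hVS hxV) (by rw [hx, pow_one])
    set w := g * x * g⁻¹ with hw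
    have hw2 : orderOf w = 2 := by rw [hw, CfsgLib.Invol.orderOf_conj_eq, hx]
    haveI := Subgroup.normal_of_index_eq_two ha2
    have hwc : ∀ s ∈ (S : Subgroup G), s * w = w * s := by
      intro s hs
      have hmem : (⟨w, hMS hg⟩ : (S : Subgroup G)) ∈ Subgroup.zpowers a := by
        rw [← hsub, Subgroup.mem_subgroupOf]; exact hg
      have h1 := ‹(Subgroup.zpowers a).Normal›.conj_mem _ hmem ⟨s, hs⟩
      rw [← hsub, Subgroup.mem_subgroupOf] at h1
      have h2 : s * w * s⁻¹ ∈ Subgroup.zpowers (a : G) := h1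
      exact mul_inv_eq_iff_eq_mul.mp
        (invol_unique h2 hg (by rw [CfsgLib.Invol.orderOf_conj_eq, hw2]) hw2)
    have hSC : (S : Subgroup G).map (MulAut.conj g⁻¹).toMonoidHom ≤ C := by
      rintro _ ⟨s, hs, rfl⟩
      rw [hC, Subgroup.mem_centralizer_singleton_iff]
      simp only [MulEquiv.coe_toMonoidHom, MulAut.conj_apply, inv_inv]
      have h2 := hwc s hs
      calc g⁻¹ * s * g * x = g⁻¹ * (s * w) * g := by rw [hw]; group
        _ = x * (g⁻¹ * s * g) := by rw [h2, hw]; group
    have h8 := Subgroup.card_dvd_of_le hSC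
    rw [Subgroup.card_map_of_injective (MulEquiv.injective _), hcardC] at h8
    obtain ⟨k, hk⟩ := IsPGroup.iff_card.mp S.isPGroup'
    have h4S : Nat.card V ∣ Nat.card (S : Subgroup G) := Subgroup.card_dvd_of_le hVS
    rw [hV4] at h4S
    rw [hk] at h8 h4S hne
    have hk3 : 3 ≤ k := by
      rcases (by omega : k = 0 ∨ k = 1 ∨ k = 2 ∨ 3 ≤ k) with rfl | rfl | rfl | h <;> norm_num at *
      exact h
    have h82 : 2 ^ 3 ∣ 4 * (2 * m + 1) := (pow_dvd_pow 2 hk3).trans h8
    omega
  have hSV : (S : Subgroup G) = V :=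
    (Subgroup.eq_of_le_of_card_ge hVS (by rw [hS4, hV4])).symm
  have hVidx : Odd V.index := by
    rw [← hSV]
    exact Nat.odd_iff.mpr (Nat.two_dvd_ne_zero.mp S.not_dvd_index)
  -- the complement
  obtain ⟨H, hH⟩ := Subgroup.exists_right_complement'_of_coprime (N := V.subgroupOf C) (by
    rw [Nat.card_congr (Subgroup.subgroupOfEquivOfLe hle).toEquiv, hV4, ← Subgroup.relIndex, hm,
      show (4 : ℕ) = 2 ^ 2 by norm_num]
    exact Nat.Coprime.pow_left _ (Nat.coprime_two_left.mpr ⟨m, rfl⟩))
  set D : Subgroup G := H.map C.subtype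
  have hcardD : Nat.card D = 2 * m + 1 := by
    rw [Subgroup.card_map_of_injective C.subtype_injective]
    have h := hH.card_mul_card
    rw [Nat.card_congr (Subgroup.subgroupOfEquivOfLe hle).toEquiv, hV4, hcardC] at h
    omega
  have hdec : ∀ c ∈ C, ∃ w ∈ V, ∃ d ∈ D, c = w * d := by
    intro c hc
    obtain ⟨⟨⟨w, hw⟩, ⟨d, hd⟩⟩, he⟩ := hH.2 (⟨c, hc⟩ : C)
    exact ⟨w, hw, d, ⟨d, hd, rfl⟩, (congrArg Subtype.val he).symm⟩
  -- fusion
  set N := Subgroup.normalizer (V : Set G) with hN
  have hVnn : ¬ V.Normal := fun h => by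
    rcases h.eq_bot_or_eq_top with h0 | h0
    · rw [h0, Subgroup.card_bot] at hV4; omega
    · exact hnab fun a b => hVcomm a (h0 ▸ Subgroup.mem_top a) b (h0 ▸ Subgroup.mem_top b)
  have hCN : C ≤ N := by
    intro c hc
    rw [hN, Subgroup.mem_normalizer_iff]
    intro w
    refine ⟨hVconj c hc w, fun h => ?_⟩
    have h1 := hVconj c⁻¹ (inv_mem hc) _ h
    rwa [show c⁻¹ * (c * w * c⁻¹) * c⁻¹⁻¹ = w by group] at h1
  obtain ⟨g, hgN, hgC⟩ : ∃ g ∈ N, g ∉ C := by
    by_contra hcon
    push Not at hcon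
    have hP : Subgroup.normalizer ((S : Subgroup G) : Set G) ≤
        Subgroup.centralizer ((S : Subgroup G) : Set G) := by
      rw [hSV]
      exact fun c hc w hw => (hcent c (hcon c hc) w hw).symm
    have hcompl := MonoidHom.ker_transferSylow_isComplement' S hP
    rcases (MonoidHom.transferSylow S hP).normal_ker.eq_bot_or_eq_top with h0 | h0
    · rw [h0, Subgroup.isComplement'_bot_left, hSV] at hcompl
      exact hVnn (hcompl ▸ inferInstance)
    · rw [h0, Subgroup.isComplement'_top_left, hSV] at hcompl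
      rw [hcompl, Subgroup.card_bot] at hV4; omega
  have hgV : ∀ w ∈ V, g * w * g⁻¹ ∈ V := fun w hw => (Subgroup.mem_normalizer_iff.mp hgN w).mp hw
  set y := g * x * g⁻¹ with hy
  have hyV : y ∈ V := hgV x hxV
  have hy1 : y ≠ 1 := fun h => hx1 (conj_eq_one_iff.mp h)
  have hyx : y ≠ x := fun h =>
    hgC (Subgroup.mem_centralizer_singleton_iff.mpr (mul_inv_eq_iff_eq_mul.mp h))
  set z := g * y * g⁻¹ with hz
  have hzV : z ∈ V := hgV y hyV
  have hz1 : z ≠ 1 := fun h => hy1 (conj_eq_one_iff.mp h)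
  have hzy : z ≠ y := fun h => hyx (mul_left_cancel (mul_right_cancel (h : g * y * g⁻¹ = g * x * g⁻¹)))
  have hzx : z ≠ x := by
    intro h
    -- otherwise an element of two-power order of the normalizer lies outside `C`
    have hg2 : g * g ∈ C := by
      rw [hC, Subgroup.mem_centralizer_singleton_iff, ← mul_inv_eq_iff_eq_mul]
      calc g * g * x * (g * g)⁻¹ = g * (g * x * g⁻¹) * g⁻¹ := by group
        _ = x := h
    set n := orderOf g
    have hn0 : n ≠ 0 := (orderOf_pos g).ne'
    obtain ⟨b, hb⟩ : Odd (ordCompl[2] n) :=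
      Nat.odd_iff.mpr (Nat.two_dvd_ne_zero.mp (Nat.not_dvd_ordCompl Nat.prime_two hn0))
    have hp : IsPGroup 2 (Subgroup.zpowers (g ^ ordCompl[2] n)) := by
      refine IsPGroup.of_card (n := n.factorization 2) ?_
      rw [Nat.card_zpowers, orderOf_pow' g (Nat.ordCompl_pos 2 hn0).ne',
        Nat.gcd_eq_right (Nat.ordCompl_dvd n 2)]
      exact Nat.div_eq_of_eq_mul_left (Nat.ordCompl_pos 2 hn0) (Nat.ordProj_mul_ordCompl_eq_self n 2).symm
    have hmem : g ^ ordCompl[2] n ∈
        Subgroup.zpowers (g ^ ordCompl[2] n) ⊓ Subgroup.normalizer (S : Set G) :=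
      ⟨Subgroup.mem_zpowers _, pow_mem (by
        rw [show ((S : Set G)) = (V : Set G) from congrArg SetLike.coe hSV]; exact hgN) _⟩
    rw [hp.inf_normalizer_sylow S, hSV] at hmem
    apply hgC
    have h5 : (g * g) ^ b * g ∈ C := by
      have h4 := hle hmem.2
      rwa [hb, pow_succ, pow_mul, sq] at h4
    exact (C.mul_mem_cancel_left (pow_mem hg2 b)).mp h5
  haveI := Fintype.ofFinite G
  haveI := Fintype.ofFinite D
  have F : FourData V D C x :=
    { centralizer_eq := rfl
      card_four := hV4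
      sq_one := hsq
      mem_four := hxV
      ne_one := hx1
      commutes := hcent
      complement_le := Subgroup.map_subtype_le H
      four_le := hle
      odd_complement := ⟨m, hcardD⟩
      decomp := hdec
      fusion := fun w hw hw1 => by
        rcases mem_list hV4 (one_mem V) hxV hyV hzV hx1.symm hy1.symm hz1.symm hyx.symm hzx.symm
          hzy.symm hw with rfl | rfl | rfl | rfl
        · exact absurd rfl hw1
        · exact IsConj.refl _
        · exact isConj_iff.mpr ⟨g, rfl⟩
        · exact isConj_iff.mpr ⟨g * g, by rw [hz, hy]; group⟩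
      odd_index := hVidx }
  have hperf : commutator G = ⊤ := by
    rcases (inferInstance : (commutator G).Normal).eq_bot_or_eq_top with h0 | h0
    · exfalso
      refine hnab fun a b => commutatorElement_eq_one_iff_mul_comm.mp ?_
      rw [← Subgroup.mem_bot, ← h0, commutator_def]
      exact Subgroup.commutator_mem_commutator (Subgroup.mem_top a) (Subgroup.mem_top b)
    · exact h0
  have h15 := F.index_le hperf
  have hrel := Subgroup.relIndex_mul_index hCN
  have hCidx : Odd C.index := Odd.of_dvd_nat hVidx (Subgroup.index_dvd_of_le hle)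
  rw [← hrel, Nat.odd_mul] at hCidx
  have hr3 : 3 ≤ C.relIndex N := by
    have h1 : C.relIndex N ≠ 1 := fun h => hgC (Subgroup.relIndex_eq_one.mp h hgN)
    obtain ⟨k, hk⟩ := hCidx.1
    omega
  have hN1 : N.index ≠ 1 := fun h => by
    rw [Subgroup.index_eq_one, hN, Subgroup.normalizer_eq_top_iff] at h
    exact hVnn h
  have hN5 : N.index ≤ 5 := by
    by_contra hcon
    have : 3 * 6 ≤ C.relIndex N * N.index := Nat.mul_le_mul hr3 (by omega)
    omega
  have hdvd : Nat.card G ∣ N.index.factorial := by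
    let φ := MulAction.toPermHom G (G ⧸ N)
    have hinj : Function.Injective φ := by
      rw [← MonoidHom.ker_eq_bot_iff]
      refine (IsSimpleGroup.eq_bot_or_eq_top_of_normal _ inferInstance).resolve_right fun htop => hN1 ?_
      rw [Subgroup.index_eq_one, eq_top_iff]
      intro a _
      have ha : φ a = 1 := MonoidHom.mem_ker.1 (htop.symm ▸ Subgroup.mem_top a)
      have := congrArg (fun σ : Equiv.Perm (G ⧸ N) => σ ((1 : G) : G ⧸ N)) ha
      simpa [φ, QuotientGroup.eq] using this
    have h := Subgroup.card_dvd_of_injective φ hinj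
    rwa [Nat.card_perm] at h
  have hG : Nat.card G = 4 * (2 * m + 1) * C.relIndex N * N.index := by
    rw [← Subgroup.card_mul_index C, hcardC, ← hrel]; ring
  have hN35 : N.index = 3 ∨ N.index = 5 := by
    obtain ⟨k, hk⟩ := hCidx.2
    omega
  rcases hN35 with h3 | h5
  · rw [h3] at hdvd
    have := h4G.trans hdvd
    norm_num [Nat.factorial] at this
  rw [h5] at hdvd hG
  have hG60 : Nat.card G = 60 := by
    have h1 : Nat.card G ∣ 120 := by simpa [Nat.factorial] using hdvd
    obtain ⟨k, hk⟩ := Odd.mul (⟨m, rfl⟩ : Odd (2 * m + 1)) hCidx.1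
    have h2 : 3 ≤ (2 * m + 1) * C.relIndex N := hr3.trans (Nat.le_mul_of_pos_left _ (by omega))
    rw [show 4 * (2 * m + 1) * C.relIndex N * 5 = 20 * ((2 * m + 1) * C.relIndex N) by ring, hk] at hG
    rw [hk] at h2
    rw [hG] at h1 ⊢
    have h3 : 2 * k + 1 ∣ 6 := Nat.dvd_of_mul_dvd_mul_left (by norm_num : 0 < 20) h1
    have h4 := Nat.le_of_dvd (by norm_num) h3
    rcases (by omega : k = 1 ∨ k = 2) with rfl | rfl
    · norm_num
    · omega
  haveI : Fact (Nat.Prime 5) := ⟨by norm_num⟩
  obtain ⟨P⟩ : Nonempty (Sylow 5 G) := inferInstance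
  refine CfsgLib.Dickson.OrderSixty.nonempty_mulEquiv hG60 P fun hPn => ?_
  have hP5 := CfsgLib.Dickson.OrderSixty.card_eq_five hG60 P
  rcases hPn.eq_bot_or_eq_top with h0 | h0
  · rw [h0, Subgroup.card_bot] at hP5; omega
  · rw [h0, Subgroup.card_top, hG60] at hP5; omega

/-- Let G be a finite simple group with an involution x such that a Sylow 2-subgroup of C_G(x) is a Klein four-group which is normal in C_G(x). Then G is isomorphic to the alternating group of degree 5 (that is, to PSL(2, 5)). -/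
theorem result {G : Type*} [Group G] [Finite G] [IsSimpleGroup G] (x : G) (hx : orderOf x = 2)
    (S₀ : Subgroup G) (hle : S₀ ≤ Subgroup.centralizer ({x} : Set G)) (hK : IsKleinFour ↥S₀)
    (hodd : ¬ 2 ∣ S₀.relIndex (Subgroup.centralizer ({x} : Set G))) (hn : (S₀.subgroupOf (Subgroup.centralizer ({x} : Set G))).Normal) :
    Nonempty (G ≃* ↥(alternatingGroup (Fin 5))) :=
  core x hx S₀ hle hK hodd hn

end Cfsg.Agent.S3278
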