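import Cfsg.Statements.S3283
import Cfsg.Agent.TriSix.Apply
import Cfsg.Agent.LargeExtra.SimpleCriterion

set_option autoImplicit false
open Cfsg

namespace Cfsg.Agent.S3283

/-- Let G be a finite group with an involution z whose centralizer M has Q = O₂(M) extraspecial of order 2⁹ with C_M(Q) ≤ Q, and M/Q isomorphic to S₃ × A₆ or to S₃ × S₆. Then G is not simple. -/
theorem result {G : Type*} [Group G] [Finite G] (z : G) (hz : orderOf z = 2)
    (hQ : Cfsg.IsExtraspecial 2 ↥(Cfsg.pCore 2 ↥(Subgroup.centralizer ({z} : Set G)))) (hQ9 : Nat.card ↥(Cfsg.pCore 2 ↥(Subgroup.centralizer ({z} : Set G))) = 2 ^ 9)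
    (hCQ : Subgroup.centralizer ((Cfsg.pCore 2 ↥(Subgroup.centralizer ({z} : Set G))) : Set ↥(Subgroup.centralizer ({z} : Set G))) ≤ Cfsg.pCore 2 ↥(Subgroup.centralizer ({z} : Set G)))
    (hMQ : Nonempty (↥(Subgroup.centralizer ({z} : Set G)) ⧸ Cfsg.pCore 2 ↥(Subgroup.centralizer ({z} : Set G)) ≃* (Equiv.Perm (Fin 3) × ↥(alternatingGroup (Fin 6)))) ∨
      Nonempty (↥(Subgroup.centralizer ({z} : Set G)) ⧸ Cfsg.pCore 2 ↥(Subgroup.centralizer ({z} : Set G)) ≃* (Equiv.Perm (Fin 3) × Equiv.Perm (Fin 6)))) :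
    ¬ IsSimpleGroup G := by
  intro hsimp
  haveI := hsimp
  have hzC : z ∈ (Subgroup.centralizer ({z} : Set G)) := Subgroup.mem_centralizer_singleton_iff.2 rfl
  have hcent : Subgroup.centralizer (((Cfsg.pCore 2 ↥(Subgroup.centralizer ({z} : Set G))).map (Subgroup.centralizer ({z} : Set G)).subtype : Subgroup G) : Set G) ≤ (Cfsg.pCore 2 ↥(Subgroup.centralizer ({z} : Set G))).map (Subgroup.centralizer ({z} : Set G)).subtype := by
    haveI : Fact (Nat.Prime 2) := ⟨Nat.prime_two⟩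
    have hzN : (⟨z, hzC⟩ : ↥(Subgroup.centralizer ({z} : Set G))) ∈ (Cfsg.pCore 2 ↥(Subgroup.centralizer ({z} : Set G))) := by
      have hcen : (⟨z, hzC⟩ : ↥(Subgroup.centralizer ({z} : Set G))) ∈ Subgroup.centralizer ((Cfsg.pCore 2 ↥(Subgroup.centralizer ({z} : Set G))) : Set ↥(Subgroup.centralizer ({z} : Set G))) :=
        Subgroup.mem_centralizer_iff.2 fun y _ =>
          Subtype.ext (Subgroup.mem_centralizer_singleton_iff.1 y.2)
      exact hCQ hcen
    intro g hg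
    have hgC : g ∈ (Subgroup.centralizer ({z} : Set G)) := Subgroup.mem_centralizer_singleton_iff.2
      (Subgroup.mem_centralizer_iff.1 hg z ⟨_, hzN, rfl⟩).symm
    exact ⟨⟨g, hgC⟩, hCQ (Subgroup.mem_centralizer_iff.2 fun y hy =>
      Subtype.ext (Subgroup.mem_centralizer_iff.1 hg y ⟨y, hy, rfl⟩)), rfl⟩
  have h : CfsgLib.LargeExtra.Pre ((Cfsg.pCore 2 ↥(Subgroup.centralizer ({z} : Set G))).map (Subgroup.centralizer ({z} : Set G)).subtype) z := CfsgLib.OrbitTransfer.pre_of_pcore hz rfl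
    (CfsgLib.LargeExtra.isExtraspecial_equiv ((Cfsg.pCore 2 ↥(Subgroup.centralizer ({z} : Set G))).equivMapOfInjective _ (Subgroup.centralizer ({z} : Set G)).subtype_injective) hQ) hcent
  rcases hMQ with ⟨⟨e⟩⟩ | ⟨⟨e⟩⟩
  · refine CfsgLib.TriSix.false_of_simple (Cfsg.pCore 2 ↥(Subgroup.centralizer ({z} : Set G))) h hQ hQ9 e
      (MonoidHom.prodMap (MonoidHom.id _) (alternatingGroup (Fin 6)).subtype) ?_ ?_ ?_
    · rintro ⟨a, b⟩ ⟨a', b'⟩ hab
      simp only [MonoidHom.coe_prodMap, Prod.map_apply, MonoidHom.id_apply, Prod.mk.injEq] at hab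
      exact Prod.ext hab.1 (Subtype.ext hab.2)
    · exact fun p _ h2 => ⟨(p.1, ⟨p.2, Equiv.Perm.mem_alternatingGroup.2 h2⟩), rfl⟩
    · exact ⟨(Equiv.swap 0 1, 1), by
        show Equiv.Perm.sign (Equiv.swap (0 : Fin 3) 1) = -1
        decide⟩
  · refine CfsgLib.TriSix.false_of_simple (Cfsg.pCore 2 ↥(Subgroup.centralizer ({z} : Set G))) h hQ hQ9 e (MonoidHom.id _) (fun _ _ h => h) ?_ ?_
    · exact fun p _ _ => ⟨p, rfl⟩
    · exact ⟨(Equiv.swap 0 1, 1), by
        show Equiv.Perm.sign (Equiv.swap (0 : Fin 3) 1) = -1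
        decide⟩

end Cfsg.Agent.S3283
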