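import Cfsg.Statements.S3284
import Cfsg.Agent.TriSix.Apply
import Cfsg.Agent.LargeExtra.SimpleCriterion

set_option autoImplicit false
open Cfsg

namespace Cfsg.Agent.S3284

/-- There is no non-abelian finite simple group with an involution z whose centralizer M has generalized Fitting subgroup Q = F*(M) extraspecial of order 2⁹ and M/Q isomorphic to the subgroup of S₃ × S₆ consisting of the pairs of permutations with equal sign (a group (3 × A₆)·2 in which an involution outside 3 × A₆ induces S₃ on the first factor and S₆ on the second). -/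
theorem result {G : Type*} [Group G] [Finite G] [IsSimpleGroup G] (hG : ¬ IsMulCommutative G) (z : G) (hz : orderOf z = 2)
    [hn : (Cfsg.generalizedFittingSubgroup ↥(Subgroup.centralizer ({z} : Set G))).Normal]
    (hQ : Cfsg.IsExtraspecial 2 ↥(Cfsg.generalizedFittingSubgroup ↥(Subgroup.centralizer ({z} : Set G)))) (hQ9 : Nat.card ↥(Cfsg.generalizedFittingSubgroup ↥(Subgroup.centralizer ({z} : Set G))) = 2 ^ 9)
    (e : (↥(Subgroup.centralizer ({z} : Set G)) ⧸ Cfsg.generalizedFittingSubgroup ↥(Subgroup.centralizer ({z} : Set G))) ≃*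
      ↥(MonoidHom.ker (Equiv.Perm.sign.comp (MonoidHom.fst (Equiv.Perm (Fin 3)) (Equiv.Perm (Fin 6))) *
          Equiv.Perm.sign.comp (MonoidHom.snd (Equiv.Perm (Fin 3)) (Equiv.Perm (Fin 6)))))) :
    False := by
  have hpre : CfsgLib.LargeExtra.Pre ((Cfsg.generalizedFittingSubgroup
      ↥(Subgroup.centralizer ({z} : Set G))).map (Subgroup.centralizer ({z} : Set G)).subtype) z :=
    CfsgLib.LargeExtra.pre_of_fstar hz rfl (CfsgLib.LargeExtra.isExtraspecial_equiv
      (Subgroup.equivMapOfInjective _ _ (Subgroup.subtype_injective _)) hQ)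
  refine CfsgLib.TriSix.false_of_simple _ hpre hQ hQ9 e (Subgroup.subtype _)
    (Subgroup.subtype_injective _) (fun p h1 h2 => ⟨⟨p, ?_⟩, rfl⟩) ⟨⟨(Equiv.swap 0 1, Equiv.swap 0 1), ?_⟩, ?_⟩
  · simp [MonoidHom.mem_ker, MonoidHom.mul_apply, h1, h2]
  · simp [MonoidHom.mem_ker, MonoidHom.mul_apply]
  · show Equiv.Perm.sign (Equiv.swap (0 : Fin 3) 1) = -1
    decide

end Cfsg.Agent.S3284
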