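import Cfsg.Statements.S3294
import Mathlib.GroupTheory.SpecificGroups.Quaternion
import Mathlib.FieldTheory.Finite.Basic
import Mathlib.Tactic.LinearCombination
import Cfsg.Agent.InvChar.ModularGroup
import Cfsg.Agent.Solvable.Fitting
-- import your own Cfsg.Agent.* helpers here

set_option autoImplicit false
open Cfsg

namespace Cfsg.Agent.S3294

open QuaternionGroup

/-- An element of odd order fixing a cyclic 2-subgroup centralizes it. -/
private theorem commute_of_conj_mem_zpowers {H : Type*} [Group H] [Finite H] {g y : H}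
    (hg : Odd (orderOf g)) {j : ℕ} (hy : orderOf y = 2 ^ j) (h : g * y * g⁻¹ ∈ Subgroup.zpowers y) :
    Commute g y := by
  obtain ⟨r, hr⟩ := mem_powers_iff_mem_zpowers.mpr h
  simp only at hr
  have hpow : ∀ k : ℕ, g ^ k * y * (g ^ k)⁻¹ = y ^ r ^ k := by
    intro k
    induction k with
    | zero => simp
    | succ k ih =>
      calc g ^ (k + 1) * y * (g ^ (k + 1))⁻¹ = g * (g ^ k * y * (g ^ k)⁻¹) * g⁻¹ := by
            rw [pow_succ']; group
        _ = _ := by rw [ih, ← conj_pow, ← hr, ← pow_mul, pow_succ']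
  rcases Nat.eq_zero_or_pos j with rfl | hj
  · rw [pow_zero, orderOf_eq_one_iff] at hy
    rw [hy]; exact Commute.one_right g
  have hcop : Nat.Coprime r (2 ^ j) := by
    have h1 : orderOf (y ^ r) = 2 ^ j := by
      rw [hr, show g * y * g⁻¹ = MulAut.conj g y from rfl, MulEquiv.orderOf_eq, hy]
    rw [orderOf_pow, hy] at h1
    have h2 := Nat.div_mul_cancel (Nat.gcd_dvd_left (2 ^ j) r)
    rw [h1] at h2
    exact Nat.coprime_comm.mp (Nat.eq_of_mul_eq_mul_left (Nat.two_pow_pos j) (by rw [h2, mul_one]))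
  have hfix : Commute (g ^ 2 ^ (j - 1)) y := by
    rw [Commute, SemiconjBy, ← mul_inv_eq_iff_eq_mul, hpow]
    conv_rhs => rw [← pow_one y]
    rw [pow_eq_pow_iff_modEq, hy]
    have := Nat.ModEq.pow_totient hcop
    rwa [Nat.totient_prime_pow Nat.prime_two hj, show (2 : ℕ) - 1 = 1 from rfl, mul_one] at this
  have key : ∀ k : ℕ, ∀ g : H, Odd (orderOf g) → Commute (g ^ 2 ^ k) y → Commute g y := by
    intro k
    induction k with
    | zero => intro g _ hc; simpa using hc
    | succ k ih =>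
      intro g hg hc
      refine CfsgLib.InvChar.commute_of_sq_of_odd hg (ih _ (hg.of_dvd_nat (orderOf_pow_dvd 2)) ?_)
      rwa [← pow_mul, ← pow_succ']
  exact key _ g hg hfix

/-- Odd order elements normalizing a normal subgroup of a large quaternion 2-group centralize it. -/
private theorem quaternion_commute {H : Type*} [Group H] [Finite H] {R Q : Subgroup H} {n : ℕ}
    (hn : 3 ≤ n) (e : ↥R ≃* QuaternionGroup (2 ^ n)) (hQR : Q ≤ R)
    (hQn : R ≤ Subgroup.normalizer (Q : Set H)) {g : H}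
    (hg : g ∈ Subgroup.normalizer (Q : Set H)) (hgo : Odd (orderOf g)) : ∀ u ∈ Q, Commute g u := by
  haveI : NeZero (2 ^ n) := ⟨(Nat.two_pow_pos n).ne'⟩
  let a₀ : ↥R := e.symm (a 1)
  have ha₀ : orderOf (a₀ : H) = 2 ^ (n + 1) := by
    rw [Subgroup.orderOf_coe, MulEquiv.orderOf_eq, orderOf_a_one, pow_succ']
  have hgQ : ∀ y ∈ Q, g * y * g⁻¹ ∈ Q := fun y hy => (Subgroup.mem_normalizer_iff.mp hg y).mp hy
  have hord : ∀ y : H, orderOf (g * y * g⁻¹) = orderOf y := fun y =>
    MulEquiv.orderOf_eq (MulAut.conj g) y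
  -- elements of order at least eight lie in `⟨a₀⟩`
  have hbig : ∀ y ∈ R, 4 < orderOf y → y ∈ Subgroup.zpowers (a₀ : H) := by
    intro y hy h4
    rcases hey : e ⟨y, hy⟩ with i | i
    · refine ⟨(i.val : ℤ), (zpow_natCast _ _).trans ?_⟩
      have : a₀ ^ (i.val) = ⟨y, hy⟩ := by
        apply e.injective
        rw [hey, map_pow, show e a₀ = a 1 from e.apply_symm_apply _, a_one_pow, ZMod.natCast_zmod_val]
      simpa using congrArg Subtype.val this
    · have := MulEquiv.orderOf_eq e ⟨y, hy⟩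
      rw [hey, orderOf_xa, Subgroup.orderOf_mk] at this
      omega
  have hsame : ∀ y ∈ Subgroup.zpowers (a₀ : H), ∀ y' ∈ Subgroup.zpowers (a₀ : H),
      orderOf y' = orderOf y → y' ∈ Subgroup.zpowers y := by
    intro y hy y' hy' ho
    obtain ⟨i, rfl⟩ := mem_powers_iff_mem_zpowers.mpr hy
    obtain ⟨j, rfl⟩ := mem_powers_iff_mem_zpowers.mpr hy'
    simp only [orderOf_pow, ha₀] at ho
    have hd : Nat.gcd (2 ^ (n + 1)) j = Nat.gcd (2 ^ (n + 1)) i := by
      rw [← Nat.div_div_self (Nat.gcd_dvd_left (2 ^ (n + 1)) j) (Nat.two_pow_pos _).ne', ho,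
        Nat.div_div_self (Nat.gcd_dvd_left (2 ^ (n + 1)) i) (Nat.two_pow_pos _).ne']
    obtain ⟨c, hc⟩ := Nat.gcd_dvd_right (2 ^ (n + 1)) j
    have hmem : (a₀ : H) ^ (Nat.gcd (2 ^ (n + 1)) i) ∈ Subgroup.zpowers ((a₀ : H) ^ i) := by
      refine ⟨Nat.gcdB (2 ^ (n + 1)) i, ?_⟩
      simp only
      rw [← zpow_natCast (a₀ : H) i, ← zpow_mul, ← zpow_natCast (a₀ : H) (Nat.gcd _ _),
        Nat.gcd_eq_gcd_ab, zpow_add, zpow_mul (a₀ : H) ((2 ^ (n + 1) : ℕ) : ℤ), zpow_natCast, ← ha₀,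
        pow_orderOf_eq_one, one_zpow, one_mul]
    show (a₀ : H) ^ j ∈ _
    rw [hc, pow_mul, hd]
    exact pow_mem hmem c
  by_cases hA : Q ≤ Subgroup.zpowers (a₀ : H)
  · intro u hu
    obtain ⟨k, hk⟩ := (Nat.dvd_prime_pow Nat.prime_two).mp
      ((ha₀ ▸ Nat.card_zpowers (a₀ : H)) ▸ Subgroup.orderOf_dvd_natCard _ (hA hu))
    exact commute_of_conj_mem_zpowers hgo hk.2 (hsame u (hA hu) _ (hA (hgQ u hu)) (hord u))
  -- `Q` contains the square of `a₀`
  obtain ⟨u₀, hu₀, hu₀A⟩ := SetLike.not_le_iff_exists.mp hA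
  have hsq : ((a₀ : H)) ^ 2 ∈ Q := by
    rcases hey : e ⟨u₀, hQR hu₀⟩ with i | i
    · exfalso
      apply hu₀A
      refine ⟨(i.val : ℤ), (zpow_natCast _ _).trans ?_⟩
      have : a₀ ^ (i.val) = ⟨u₀, hQR hu₀⟩ := by
        apply e.injective
        rw [hey, map_pow, show e a₀ = a 1 from e.apply_symm_apply _, a_one_pow, ZMod.natCast_zmod_val]
      simpa using congrArg Subtype.val this
    · set v : ↥R := ⟨u₀, hQR hu₀⟩
      have hc : (a₀ : H) * u₀ * (a₀ : H)⁻¹ ∈ Q := (Subgroup.mem_normalizer_iff.mp (hQn a₀.2) u₀).mp hu₀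
      have heq : a₀ ^ 2 = (a₀ * v * a₀⁻¹ * v) * (v * v) := by
        apply e.injective
        simp only [map_mul, map_pow, map_inv, show e a₀ = a 1 from e.apply_symm_apply _, v, hey]
        have hinv : (a 1 : QuaternionGroup (2 ^ n))⁻¹ = a (-1) := rfl
        rw [hinv, a_one_pow]
        simp only [a_mul_xa, xa_mul_a, xa_mul_xa, a_mul_a]
        congr 1
        have h2 : ((2 * 2 ^ n : ℕ) : ZMod (2 * 2 ^ n)) = 0 := ZMod.natCast_self _
        push_cast at h2 ⊢
        linear_combination -h2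
      have := congrArg Subtype.val heq
      simp only [Subgroup.coe_pow, Subgroup.coe_mul, Subgroup.coe_inv, v] at this
      rw [this]
      exact mul_mem (mul_mem hc hu₀) (mul_mem hu₀ hu₀)
  -- the cyclic part is centralized
  have hcyc : ∀ u ∈ Q, u ∈ Subgroup.zpowers (a₀ : H) → Commute g u := by
    intro u hu huA
    obtain ⟨k, -, hk⟩ := (Nat.dvd_prime_pow Nat.prime_two).mp
      ((ha₀ ▸ Nat.card_zpowers (a₀ : H)) ▸ Subgroup.orderOf_dvd_natCard _ huA)
    by_cases hk3 : 4 < orderOf u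
    · exact commute_of_conj_mem_zpowers hgo hk (hsame u huA _
        (hbig _ (hQR (hgQ u hu)) (by rwa [hord])) (hord u))
    · have hy0o : orderOf ((a₀ : H) ^ 2) = 2 ^ n := by
        rw [orderOf_pow, ha₀, Nat.gcd_eq_right (dvd_pow_self 2 (by omega)), pow_succ,
          Nat.mul_div_cancel _ two_pos]
      have hbig0 : 4 < orderOf ((a₀ : H) ^ 2) := by
        rw [hy0o]
        calc 4 < 2 ^ 3 := by norm_num
          _ ≤ 2 ^ n := Nat.pow_le_pow_right two_pos hn
      have hc0 : Commute g ((a₀ : H) ^ 2) := commute_of_conj_mem_zpowers hgo hy0o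
        (hsame _ (pow_mem (Subgroup.mem_zpowers _) 2) _
          (hbig _ (hQR (hgQ _ hsq)) (by rwa [hord])) (hord _))
      obtain ⟨i, rfl⟩ := huA
      rcases Int.even_or_odd i with ⟨l, rfl⟩ | hodd
      · simp only
        rw [← two_mul, zpow_mul, zpow_two, ← sq]
        exact hc0.zpow_right l
      · exfalso
        apply hk3
        have : orderOf ((a₀ : H) ^ i) = 2 ^ (n + 1) := by
          rw [← ha₀, ← Nat.card_zpowers, ← Nat.card_zpowers]
          refine congrArg (fun K : Subgroup H => Nat.card K) (le_antisymm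
            (Subgroup.zpowers_le.mpr (zpow_mem (Subgroup.mem_zpowers _) i))
            (Subgroup.zpowers_le.mpr ?_))
          rw [mem_zpowers_zpow_iff, ha₀, Int.gcd_eq_natAbs]
          exact Nat.Coprime.pow_right _ (Nat.coprime_two_right.mpr (Int.natAbs_odd.mpr hodd))
        simp only
        rw [this, pow_succ]
        have : 2 ^ 3 ≤ 2 ^ n := Nat.pow_le_pow_right two_pos hn
        omega
  intro u hu
  by_cases huA : u ∈ Subgroup.zpowers (a₀ : H)
  · exact hcyc u hu huA
  have hguA : g * u * g⁻¹ ∉ Subgroup.zpowers (a₀ : H) := by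
    intro hmem
    have hc := hcyc _ (hgQ u hu) hmem
    apply huA
    have : u = g * u * g⁻¹ := by
      calc u = g⁻¹ * (g * u * g⁻¹) * g := by group
        _ = _ := by rw [← hc.inv_left.symm.eq, inv_mul_cancel_right]
    rwa [this]
  set w := u⁻¹ * (g * u * g⁻¹) with hw
  have hidx : ((Subgroup.zpowers (a₀ : H)).subgroupOf R).index = 2 := by
    have h1 := Subgroup.card_mul_index ((Subgroup.zpowers (a₀ : H)).subgroupOf R)
    rw [Nat.card_congr (Subgroup.subgroupOfEquivOfLe (Subgroup.zpowers_le.mpr a₀.2)).toEquiv,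
      Nat.card_zpowers, ha₀, Nat.card_congr e.toEquiv, Nat.card_eq_fintype_card,
      QuaternionGroup.card] at h1
    refine Nat.eq_of_mul_eq_mul_left (Nat.two_pow_pos (n + 1)) ?_
    rw [h1, pow_succ]; ring
  have hwA : w ∈ Subgroup.zpowers (a₀ : H) := by
    have := (Subgroup.mul_mem_iff_of_index_two hidx (a := ⟨u⁻¹, inv_mem (hQR hu)⟩)
      (b := ⟨g * u * g⁻¹, hQR (hgQ u hu)⟩)).mpr (iff_of_false (by simpa [Subgroup.mem_subgroupOf] using huA) hguA)
    exact this
  have hwQ : w ∈ Q := mul_mem (inv_mem hu) (hgQ u hu)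
  refine CfsgLib.InvChar.commute_of_conj_eq_mul hgo (u := w) (by rw [hw, mul_inv_cancel_left])
    (hcyc w hwQ hwA) (m := n + 1) ?_
  rw [← ha₀]
  obtain ⟨i, hi⟩ := hwA
  simp only at hi
  rw [← hi, ← zpow_natCast, ← zpow_mul, mul_comm, zpow_mul, zpow_natCast, pow_orderOf_eq_one, one_zpow]

/-- A finite solvable group whose Sylow 2-subgroups are generalized quaternion of order at least 32 has a normal 2-complement. -/
theorem result {G : Type*} [Group G] [Finite G] (hsol : Group.IsSolvable G) (T : Sylow 2 G) (n : ℕ) (hn : 3 ≤ n) (hT : Nonempty ((T : Subgroup G) ≃* QuaternionGroup (2 ^ n))) : Cfsg.HasNormalPComplement 2 G := by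
  haveI : Fact (Nat.Prime 2) := ⟨Nat.prime_two⟩
  obtain ⟨e⟩ := hT
  set O := Cfsg.pPrimeCore 2 G
  haveI := hsol
  let f := QuotientGroup.mk' O
  have hf : Function.Surjective f := QuotientGroup.mk'_surjective O
  let R := T.mapSurjective hf
  have hcop : (Nat.card O).Coprime 2 := CfsgLib.Solvable.coprime_card_pPrimeCore 2
  -- the image of `T`
  have hinj : Function.Injective (f.subgroupMap (T : Subgroup G)) := by
    rw [← MonoidHom.ker_eq_bot_iff, eq_bot_iff]
    rintro ⟨x, hx⟩ hxk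
    have hxO : x ∈ O := (QuotientGroup.eq_one_iff x).mp (congrArg Subtype.val hxk)
    obtain ⟨k, hk⟩ := IsPGroup.iff_orderOf.mp T.isPGroup' ⟨x, hx⟩
    rw [Subgroup.orderOf_mk] at hk
    have h1 : Nat.Coprime (orderOf x) (orderOf x) :=
      Nat.Coprime.coprime_dvd_left (Subgroup.orderOf_dvd_natCard _ hxO) (hk ▸ hcop.pow_right k)
    rw [Nat.coprime_self, orderOf_eq_one_iff] at h1
    exact Subgroup.mem_bot.mpr (Subtype.ext h1)
  let e' : ↥((T : Subgroup G).map f) ≃* QuaternionGroup (2 ^ n) :=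
    (MulEquiv.ofBijective (f.subgroupMap (T : Subgroup G))
      ⟨hinj, f.subgroupMap_surjective _⟩).symm.trans e
  haveI : Group.IsSolvable (G ⧸ O) := Group.isSolvable_of_surjective hf
  have hcore : Cfsg.pPrimeCore 2 (G ⧸ O) = ⊥ := CfsgLib.Fitting.pPrimeCore_quotient_eq_bot 2
  set Q := Cfsg.pCore 2 (G ⧸ O)
  have hQR : Q ≤ (T : Subgroup G).map f := CfsgLib.Fitting.pCore_le_sylow R
  have hCQ := CfsgLib.Fitting.centralizer_pCore_le (G := G ⧸ O) hcore
  -- no nontrivial elements of odd order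
  have hodd : ∀ g : G ⧸ O, Odd (orderOf g) → g = 1 := by
    intro g hg
    have hnorm : Subgroup.normalizer (Q : Set (G ⧸ O)) = ⊤ := Subgroup.normalizer_eq_top Q
    have hc : g ∈ Subgroup.centralizer (Q : Set (G ⧸ O)) :=
      Subgroup.mem_centralizer_iff.mpr fun u hu =>
        (quaternion_commute hn e' hQR (hnorm ▸ le_top) (hnorm ▸ Subgroup.mem_top g) hg u hu).eq.symm
    have hgR : g ∈ (R : Subgroup (G ⧸ O)) := hQR (hCQ hc)
    obtain ⟨k, hk⟩ := IsPGroup.iff_orderOf.mp R.isPGroup' ⟨g, hgR⟩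
    rw [Subgroup.orderOf_mk] at hk
    rcases Nat.eq_zero_or_pos k with rfl | hk0
    · rwa [pow_zero, orderOf_eq_one_iff] at hk
    · exact absurd (hk ▸ hg) (by rw [Nat.odd_pow_iff hk0.ne']; decide)
  obtain ⟨k, hk⟩ : ∃ k, O.index = 2 ^ k := by
    rw [Subgroup.index_eq_card]
    refine IsPGroup.iff_card.mp fun g => ?_
    obtain ⟨m, r, hr, hmr⟩ := Nat.exists_eq_two_pow_mul_odd (orderOf_pos g).ne'
    refine ⟨m, hodd _ (hr.of_dvd_nat ?_)⟩
    refine orderOf_dvd_of_pow_eq_one ?_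
    rw [← pow_mul, ← hmr, pow_orderOf_eq_one]
  exact CfsgLib.PResidual.hasNormalPComplement_of_normal hcop hk

end Cfsg.Agent.S3294
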