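import Cfsg.Statements.S3300
import Cfsg.Agent.LargeExtra.NoFusion
import Mathlib.GroupTheory.SpecificGroups.Cyclic

set_option autoImplicit false
open Cfsg

namespace Cfsg.Agent.S3300

/-- Let G be a finite group with no nontrivial 2-group quotient (O^2(G) = G), z an involution of G with H = C_G(z), and suppose E = O_2(H) is extraspecial with C_G(E) ≤ E and of order 2^(2n+1) with n ≥ 3. If H has a normal subgroup of index 2, then z is conjugate in G to an element of E other than z. -/
theorem result {G : Type*} [Group G] [Finite G] (hres : Cfsg.pResidual 2 G = ⊤) (z : G) (hz : orderOf z = 2)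
    (E : Subgroup G) (hE : E = (Cfsg.pCore 2 ↥(Subgroup.centralizer ({z} : Set G))).map (Subgroup.centralizer ({z} : Set G)).subtype)
    (hext : Cfsg.IsExtraspecial 2 ↥E) (hcent : Subgroup.centralizer (E : Set G) ≤ E) (n : ℕ) (hn : 3 ≤ n) (hcard : Nat.card ↥E = 2 ^ (2 * n + 1))
    (K : Subgroup G) (hKH : K ≤ Subgroup.centralizer ({z} : Set G))
    (hKn : ∀ h ∈ Subgroup.centralizer ({z} : Set G), K.map (MulAut.conj h).toMonoidHom = K)
    (hKi : K.relIndex (Subgroup.centralizer ({z} : Set G)) = 2) :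
    ∃ g : G, g * z * g⁻¹ ∈ E ∧ g * z * g⁻¹ ≠ z := by
  have hP := CfsgLib.OrbitTransfer.pre_of_pcore hz hE hext hcent
  by_contra hno
  push Not at hno
  set C := Subgroup.centralizer ({z} : Set G)
  haveI hN : (K.subgroupOf C).Normal := ⟨fun y hy c => by
    have hy' : (y : G) ∈ K := hy
    show ((c * y * c⁻¹ : ↥C) : G) ∈ K
    rw [← hKn c c.2]
    exact ⟨y, hy', rfl⟩⟩
  have hcardQ : Nat.card (↥C ⧸ K.subgroupOf C) = 2 := by
    rw [← Subgroup.index_eq_card]; exact hKi
  haveI : Fact (Nat.Prime 2) := ⟨Nat.prime_two⟩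
  haveI : IsCyclic (↥C ⧸ K.subgroupOf C) := isCyclic_of_prime_card hcardQ
  let e := (zmodCyclicMulEquiv (G := ↥C ⧸ K.subgroupOf C) inferInstance).symm
  have h2 : ∀ x : ↥C, x ∈ K.subgroupOf C := fun x => by
    have h2 := CfsgLib.NoFusion.char_eq_one hP (e.toMonoidHom.comp (QuotientGroup.mk' (K.subgroupOf C)))
      hres (fun b => by
        rw [← e.apply_symm_apply b, ← map_mul, ← pow_two, ← hcardQ, pow_card_eq_one', map_one])
      hext.1.1 hn hcard hno x
    rw [MonoidHom.comp_apply, MulEquiv.coe_toMonoidHom, MulEquiv.map_eq_one_iff] at h2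
    exact (QuotientGroup.eq_one_iff _).1 h2
  have htop : K.subgroupOf C = ⊤ := eq_top_iff.2 fun x _ => h2 x
  rw [Subgroup.relIndex, htop, Subgroup.index_top] at hKi
  omega

end Cfsg.Agent.S3300
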