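import Cfsg.Statements.S3301
import Cfsg.Agent.LargeExtra.OrbitTransfer

set_option autoImplicit false
open Cfsg

namespace Cfsg.Agent.S3301

/-- Let G be a finite group with no nontrivial 2-group quotient (O^2(G) = G), z an involution of G with H = C_G(z), and suppose E = O_2(H) is extraspecial with C_G(E) ≤ E. Then the Sylow 2-subgroups of H/[H, H] are elementary abelian: every element of 2-power order of the abelianization of H has order at most 2. -/
theorem result {G : Type*} [Group G] [Finite G] (hres : Cfsg.pResidual 2 G = ⊤) (z : G) (hz : orderOf z = 2)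
    (E : Subgroup G) (hE : E = (Cfsg.pCore 2 ↥(Subgroup.centralizer ({z} : Set G))).map (Subgroup.centralizer ({z} : Set G)).subtype)
    (hext : Cfsg.IsExtraspecial 2 ↥E) (hcent : Subgroup.centralizer (E : Set G) ≤ E) :
    ∀ q : Abelianization ↥(Subgroup.centralizer ({z} : Set G)), (∃ k : ℕ, orderOf q = 2 ^ k) → q ^ 2 = 1 := by
  have hP := CfsgLib.OrbitTransfer.pre_of_pcore hz hE hext hcent
  set C := Subgroup.centralizer ({z} : Set G)
  intro q ⟨i, hi⟩
  obtain ⟨k, m, hm, hcard⟩ := Nat.exists_eq_pow_mul_and_not_dvd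
    (Nat.card_pos (α := Abelianization ↥C)).ne' 2 (by norm_num)
  let φ : Abelianization ↥C →* Abelianization ↥C := powMonoidHom (2 * m)
  let S : Subgroup (Abelianization ↥C) := (powMonoidHom 2).range ⊔ φ.ker
  have hB : ∀ b : Abelianization ↥C ⧸ S, b * b = 1 := by
    intro b
    induction b using QuotientGroup.induction_on with
    | _ a =>
      rw [← QuotientGroup.mk_mul, QuotientGroup.eq_one_iff]
      exact Subgroup.mem_sup_left ⟨a, by rw [powMonoidHom_apply, pow_two]⟩
  have hall : ∀ a : Abelianization ↥C, ∃ b, φ a = φ b ^ 2 := by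
    intro a
    obtain ⟨x, rfl⟩ := QuotientGroup.mk_surjective a
    have h1 : (QuotientGroup.mk' S) (Abelianization.of x) = 1 :=
      CfsgLib.OrbitTransfer.char_eq_one hP hext hres hB
        ((QuotientGroup.mk' S).comp Abelianization.of) (fun y hy => by
          rw [MonoidHom.comp_apply, QuotientGroup.mk'_apply, QuotientGroup.eq_one_iff]
          exact Subgroup.mem_sup_right (MonoidHom.mem_ker.2 (by
            show Abelianization.of y ^ (2 * m) = 1
            rw [pow_mul, hy, one_pow]))) x
    rw [QuotientGroup.mk'_apply, QuotientGroup.eq_one_iff, Subgroup.mem_sup] at h1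
    obtain ⟨_, ⟨b, rfl⟩, c, hc, he⟩ := h1
    refine ⟨b, ?_⟩
    show φ (Abelianization.of x) = _
    rw [← he, map_mul, MonoidHom.mem_ker.1 hc, mul_one]; exact map_pow φ b 2
  have hj : ∀ j (a : Abelianization ↥C), ∃ b, φ a = φ b ^ 2 ^ j := by
    intro j
    induction j with
    | zero => exact fun a => ⟨a, by simp⟩
    | succ j ih =>
      intro a
      obtain ⟨b, hb⟩ := ih a
      obtain ⟨c, hc⟩ := hall b
      exact ⟨c, by rw [hb, hc, ← pow_mul, pow_succ']⟩
  obtain ⟨b, hb⟩ := hj k q
  have hq : q ^ (2 * m) = 1 := by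
    show φ q = 1
    rw [hb]
    show (b ^ (2 * m)) ^ 2 ^ k = 1
    rw [← pow_mul, show 2 * m * 2 ^ k = Nat.card (Abelianization ↥C) * 2 by rw [hcard]; ring,
      pow_mul, pow_card_eq_one', one_pow]
  have hdvd : orderOf q ∣ 2 * m := orderOf_dvd_of_pow_eq_one hq
  have hco : Nat.Coprime (orderOf q) m := by
    rw [hi]; exact Nat.Coprime.pow_left i (Nat.prime_two.coprime_iff_not_dvd.2 hm)
  exact orderOf_dvd_iff_pow_eq_one.1 (hco.dvd_of_dvd_mul_right hdvd)

end Cfsg.Agent.S3301
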