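import Cfsg.Statements.S3302
import Cfsg.Agent.PSpFourTypeThree.Main

set_option autoImplicit false
open Cfsg

namespace Cfsg.Agent.S3302

/-- Let m > 1 be odd, F the field with 3^m elements, and 𝒞 the centralizer in PSp₄(F) of an element of order 3 lying in the centre of a Sylow 3-subgroup. Let G be a finite group with an element α of order 3 such that C_G(α) ≅ 𝒞 and C_G(z) = C_G(α) for every non-identity element z of the centre of C_G(α). Let P be a Sylow 3-subgroup of G and M ≤ P an elementary abelian subgroup of order 3^{3m}, and suppose that N_G(M) normalizes P (so that P is a normal Sylow 3-subgroup of N_G(M)). Then G = C_G(Z)·N_G(M), where Z is the centre of C_G(α): every element of G is a product of an element centralizing Z and an element of N_G(M); and C_G(α) is a normal subgroup of G. -/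
theorem result {G : Type*} [Group G] [Finite G] {F : Type*} [Field F] [Fintype F] (m : ℕ) (hm : Odd m) (hm1 : 1 < m) (hF : Fintype.card F = 3 ^ m) (U : Sylow 3 (Cfsg.PSp 2 F)) (x : Cfsg.PSp 2 F) (hx : orderOf x = 3) (hxU : x ∈ (U : Subgroup (Cfsg.PSp 2 F))) (hxc : ∀ u ∈ (U : Subgroup (Cfsg.PSp 2 F)), u * x = x * u) (α : G) (hα : orderOf α = 3) (e : ↥(Subgroup.centralizer ({α} : Set G)) ≃* ↥(Subgroup.centralizer ({x} : Set (Cfsg.PSp 2 F)))) (hb : ∀ z : G, z ≠ 1 → z ∈ Subgroup.centralizer ({α} : Set G) → (∀ c ∈ Subgroup.centralizer ({α} : Set G), c * z = z * c) → Subgroup.centralizer ({z} : Set G) = Subgroup.centralizer ({α} : Set G)) (P : Sylow 3 G) (M : Subgroup G) (hMP : M ≤ (P : Subgroup G)) (hMel : Cfsg.IsElementaryAbelian 3 M) (hMcard : Nat.card M = 3 ^ (3 * m)) (hB : Subgroup.normalizer (M : Set G) ≤ Subgroup.normalizer ((P : Subgroup G) : Set G)) : (∀ g : G, ∃ c k : G, c ∈ Subgroup.centralizer {z : G | z ∈ Subgroup.centralizer ({α} : Set G) ∧ ∀ c' ∈ Subgroup.centralizer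 ({α} : Set G), c' * z = z * c'} ∧ k ∈ Subgroup.normalizer (M : Set G) ∧ g = c * k) ∧ (Subgroup.centralizer ({α} : Set G)).Normal := by
  classical
  haveI : Fact (Nat.Prime 3) := ⟨Nat.prime_three⟩
  haveI : CharP F 3 := charP_of_card_eq_prime_pow hF
  have hq8 : Fintype.card F % 8 = 3 := by
    obtain ⟨k, rfl⟩ := hm
    rw [hF, pow_succ, pow_mul, Nat.mul_mod, Nat.pow_mod]
    norm_num
  have h2 : (2 : F) ≠ 0 := CfsgLib.PSpFourNormM.two_ne (by omega)
  have hbig : 3 < Fintype.card F := by
    rw [hF]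
    calc 3 < 3 ^ 2 := by norm_num
      _ ≤ 3 ^ m := Nat.pow_le_pow_right (by norm_num) hm1
  -- coordinates on the centraliser
  obtain ⟨f, hfi, hfm, hfc⟩ := CfsgLib.PSpFourNormM.exists_model h2 x hx U hxU hxc
  have hfmem : ∀ v A, f v A ∈ Subgroup.centralizer ({x} : Set (Cfsg.PSp 2 F)) := fun v A =>
    (hfc _).mpr ⟨v, A, rfl⟩
  let Φ₀ : CfsgLib.PSpFourNormM.Frame F (Subgroup.centralizer ({α} : Set G)) :=
    { el := fun v A => ((e.symm ⟨f v A, hfmem v A⟩ : Subgroup.centralizer ({α} : Set G)) : G)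
      inj := fun v v' A A' h => hfi v v' A A' (congrArg Subtype.val (e.symm.injective (Subtype.ext h)))
      mul := fun v v' A A' => by
        rw [← Subgroup.coe_mul, ← map_mul]
        congr 2
        exact Subtype.ext (hfm v v' A A')
      mem_iff := fun g => by
        constructor
        · intro hg
          obtain ⟨v, A, hvA⟩ := (hfc _).mp (e ⟨g, hg⟩).2
          refine ⟨v, A, ?_⟩
          rw [show (⟨f v A, hfmem v A⟩ : Subgroup.centralizer ({x} : Set (Cfsg.PSp 2 F))) = e ⟨g, hg⟩ from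
            Subtype.ext hvA, MulEquiv.symm_apply_apply]
        · rintro ⟨v, A, rfl⟩
          exact (e.symm _).2 }
  have hcent : CfsgLib.PSpFourTypeThree.CentHyp α := fun z hz hz1 hzc => hb z hz1 hz hzc
  obtain ⟨P1, hP1⟩ := CfsgLib.PSpFourTypeThree.pSub_sylow Φ₀ hcent hm.pos hF h2
  obtain ⟨g, hg⟩ := MulAction.exists_smul_eq G P1 P
  set β := g * α * g⁻¹ with hβ
  have hmap : (Subgroup.centralizer ({α} : Set G)).map (MulAut.conj g).toMonoidHom =
      Subgroup.centralizer ({β} : Set G) := by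
    ext v
    rw [Subgroup.mem_map_equiv, MulAut.conj_symm_apply, Subgroup.mem_centralizer_singleton_iff,
      Subgroup.mem_centralizer_singleton_iff]
    constructor
    · intro h
      calc v * β = g * ((g⁻¹ * v * g) * α) * g⁻¹ := by rw [hβ]; group
        _ = g * (α * (g⁻¹ * v * g)) * g⁻¹ := by rw [h]
        _ = β * v := by rw [hβ]; group
    · intro h
      calc g⁻¹ * v * g * α = g⁻¹ * (v * β) * g := by rw [hβ]; group
        _ = g⁻¹ * (β * v) * g := by rw [h]
        _ = α * (g⁻¹ * v * g) := by rw [hβ]; group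
  let e' := ((MulEquiv.subgroupCongr hmap).symm.trans
    ((Subgroup.centralizer ({α} : Set G)).equivMapOfInjective (MulAut.conj g).toMonoidHom
      (MulAut.conj g).injective).symm).trans e
  have hPC : (P : Subgroup G) ≤ Subgroup.centralizer ({β} : Set G) := by
    rw [← hg, Sylow.smul_def, Sylow.pointwise_smul_def, ← hmap]
    intro v hv
    obtain ⟨w, hw, rfl⟩ := hv
    exact ⟨w, Φ₀.pSub_le (hP1 ▸ hw), rfl⟩
  have hMcomm : ∀ a ∈ M, ∀ b ∈ M, a * b = b * a := fun a ha b hb =>
    haveI := hMel.1; setLike_mul_comm ha hb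
  obtain ⟨Φ, hPiff, hMiff, -⟩ := CfsgLib.PSpFourNormM.exists_frame hm.pos h2 hF x hx U hxU hxc β e' P
    hPC M hMP hMcomm hMcard
  have hcent' : CfsgLib.PSpFourTypeThree.CentHyp β := by
    intro z hz hz1 hzc
    rw [← hmap] at hz
    obtain ⟨w, hw, rfl⟩ := hz
    have hw1 : w ≠ 1 := fun h => hz1 (by rw [h, map_one])
    have hwc : ∀ c ∈ Subgroup.centralizer ({α} : Set G), c * w = w * c := by
      intro c hc
      have h := hzc (MulAut.conj g c) (hmap ▸ ⟨c, hc, rfl⟩)
      refine (MulAut.conj g).injective ?_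
      rw [map_mul, map_mul]
      exact h
    rw [← hmap, ← hcent w hw hw1 hwc]
    ext v
    rw [Subgroup.mem_map_equiv, Subgroup.mem_centralizer_singleton_iff,
      Subgroup.mem_centralizer_singleton_iff, MulAut.conj_symm_apply]
    show v * (MulAut.conj g w) = MulAut.conj g w * v ↔ _
    rw [MulAut.conj_apply]
    constructor
    · intro h
      calc g⁻¹ * v * g * w = g⁻¹ * (v * (g * w * g⁻¹)) * g := by group
        _ = g⁻¹ * (g * w * g⁻¹ * v) * g := by rw [h]
        _ = w * (g⁻¹ * v * g) := by group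
    · intro h
      calc v * (g * w * g⁻¹) = g * ((g⁻¹ * v * g) * w) * g⁻¹ := by group
        _ = g * (w * (g⁻¹ * v * g)) * g⁻¹ := by rw [h]
        _ = g * w * g⁻¹ * v := by group
  have K : CfsgLib.PSpFourTypeThree.Hyp Φ P M :=
    ⟨⟨inferInstance, hq8, hbig, ⟨m, hm.pos, hF⟩, hcent', hPiff, hMiff⟩, hB⟩
  have hn : (Subgroup.centralizer ({β} : Set G)).Normal := K.normal
  have heq : Subgroup.centralizer ({α} : Set G) = Subgroup.centralizer ({β} : Set G) := by
    ext v
    constructor
    · intro hv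
      have h := hn.conj_mem _ (hmap ▸ ⟨v, hv, rfl⟩ :
        MulAut.conj g v ∈ Subgroup.centralizer ({β} : Set G)) g⁻¹
      simpa [mul_assoc] using h
    · intro hv
      have h := hn.conj_mem _ hv g
      rw [← hmap] at h
      obtain ⟨w, hw, he⟩ := h
      exact (MulAut.conj g).injective he ▸ hw
  refine ⟨fun a => ?_, heq ▸ hn⟩
  obtain ⟨c, k, hc, hk, he⟩ := K.factor a
  have hc' : c ∈ Subgroup.centralizer ({α} : Set G) := heq ▸ hc
  exact ⟨c, k, fun z hz => (hz.2 c hc').symm, hk, he⟩

end Cfsg.Agent.S3302
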