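import Cfsg.Statements.S3303
import Cfsg.Agent.S3305
import Cfsg.Agent.Solvable.Fitting
import Cfsg.Agent.LocalB.OddSignalizer

set_option autoImplicit false
open Cfsg

namespace Cfsg.Agent.S3303

theorem normal_of_core_trivial {G : Type*} [Group G] [Finite G] [Group.IsSolvable G]
    (hO : Cfsg.oddCore G = ⊥)
    (hC : ∀ S T : Sylow 2 G, S ≠ T → IsCyclic ↥((S : Subgroup G) ⊓ (T : Subgroup G))) :
    ∃ P : Sylow 2 G, (P : Subgroup G).Normal := by
  haveI : Fact (Nat.Prime 2) := ⟨Nat.prime_two⟩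
  obtain ⟨P⟩ : Nonempty (Sylow 2 G) := Sylow.nonempty
  refine ⟨P, ?_⟩
  by_cases h : Subsingleton (Sylow 2 G)
  · exact Sylow.normal_of_subsingleton P
  rw [not_subsingleton_iff_nontrivial] at h
  obtain ⟨Q, hQ⟩ := exists_ne P
  set V := Cfsg.pCore 2 G with hV
  haveI hVn : V.Normal := (CfsgLib.Solvable.pCore_spec 2).1
  haveI := hC P Q (Ne.symm hQ)
  haveI : IsCyclic V := isCyclic_of_injective (Subgroup.inclusion
    (le_inf (CfsgLib.Fitting.pCore_le_sylow P) (CfsgLib.Fitting.pCore_le_sylow Q)))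
    (Subgroup.inclusion_injective _)
  obtain ⟨k, hk⟩ := (CfsgLib.Solvable.pCore_spec (G := G) 2).2.exists_card_eq
  have hcen : Subgroup.centralizer (V : Set G) ≤ V := CfsgLib.Fitting.centralizer_pCore_le hO
  let φ : G →* MulAut V := MulAut.conjNormal
  have hker : φ.ker ≤ Subgroup.centralizer (V : Set G) := fun g hg =>
    Subgroup.mem_centralizer_iff.mpr fun v hv => by
      have h1 : φ g ⟨v, hv⟩ = ⟨v, hv⟩ := by rw [MonoidHom.mem_ker.mp hg]; rfl
      have h2 : g * v * g⁻¹ = v := by simpa [φ] using congrArg Subtype.val h1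
      exact (mul_inv_eq_iff_eq_mul.mp h2).symm
  have hd : Nat.card G ∣ 2 ^ k * 2 ^ k := by
    rw [← φ.ker.card_mul_index, Subgroup.index_ker]
    refine mul_dvd_mul (hk ▸ Subgroup.card_dvd_of_le (hker.trans hcen)) ?_
    refine φ.range.card_subgroup_dvd_card.trans ?_
    rw [IsCyclic.card_mulAut, hk]
    cases k with
    | zero => simp
    | succ m =>
      rw [Nat.totient_prime_pow_succ Nat.prime_two, show (2 : ℕ) - 1 = 1 from rfl, mul_one, pow_succ]
      exact dvd_mul_right _ _
  rw [← pow_add] at hd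
  obtain ⟨i, -, hi⟩ := (Nat.dvd_prime_pow Nat.prime_two).mp hd
  have hG : IsPGroup 2 G := IsPGroup.of_card hi
  have htop : ∀ R : Sylow 2 G, (R : Subgroup G) = ⊤ := fun R =>
    (R.3 (hG.to_subgroup ⊤) le_top).symm
  exact absurd (Sylow.ext ((htop Q).trans (htop P).symm)) hQ

/-- Let G be a finite solvable group in which the intersection of any two distinct Sylow 2-subgroups is cyclic. Then G/O(G) has a normal Sylow 2-subgroup, where O(G) is the largest normal subgroup of odd order. -/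
theorem result {G : Type*} [Group G] [Finite G] (hs : Group.IsSolvable G)
    (hC : ∀ S T : Sylow 2 G, S ≠ T → IsCyclic ↥((S : Subgroup G) ⊓ (T : Subgroup G))) :
    ∃ P : Sylow 2 (G ⧸ Cfsg.oddCore G), (P : Subgroup (G ⧸ Cfsg.oddCore G)).Normal := by
  haveI := hs
  exact normal_of_core_trivial CfsgLib.LocalB.oddCore_quotient (Cfsg.Agent.S3305.result hC _)

end Cfsg.Agent.S3303
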