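import Cfsg.Statements.S3309
import Cfsg.Agent.Invol.ThompsonTransfer
import Cfsg.Agent.S0215

set_option autoImplicit false
open Cfsg

namespace Cfsg.Agent.S3309

/-- The model of the Sylow subgroup. -/
abbrev Model : Type := Multiplicative (ZMod 2) × DihedralGroup 4

abbrev cc : Model := (Multiplicative.ofAdd 1, 1)
abbrev zz : Model := (1, DihedralGroup.r 2)
abbrev rep (ε i : Fin 2) : Model :=
  (Multiplicative.ofAdd (ε.val : ZMod 2), DihedralGroup.sr (i.val : ZMod 4))

/-- Linear forms on the model. -/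
def form (α β : Fin 2) : Model → Multiplicative (ZMod 2)
  | (ε, .r i) => ε * Multiplicative.ofAdd ((i.val * α.val : ℕ) : ZMod 2)
  | (ε, .sr i) => ε * Multiplicative.ofAdd ((β.val + i.val * α.val : ℕ) : ZMod 2)

theorem form_mul : ∀ (α β : Fin 2) (x y : Model), form α β (x * y) = form α β x * form α β y := by
  decide +kernel

def formHom (α β : Fin 2) : Model →* Multiplicative (ZMod 2) :=
  MonoidHom.mk' (form α β) (form_mul α β)

theorem form_cc : ∀ α β : Fin 2, form α β cc = Multiplicative.ofAdd 1 := by decide +kernel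

theorem involutions : ∀ x : Model, x * x = 1 → x ≠ 1 →
    x = cc ∨ x = zz ∨ x = cc * zz ∨ ∃ y : Model, ∃ ε i, y * x * y⁻¹ = rep ε i := by
  decide +kernel

theorem kernel_involutions : ∀ (α β : Fin 2) (x : Model), x * x = 1 → x ≠ 1 → form α β x = 1 →
    x = zz ∨ ∃ y : Model, ∃ ε i, y * x * y⁻¹ = rep ε i ∧ form α β (rep ε i) = 1 := by
  decide +kernel

theorem square_eq : ∀ x : Model, x * x = 1 ∨ x * x = zz := by decide +kernel

set_option synthInstance.maxSize 2000 in
set_option synthInstance.maxHeartbeats 200000 in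
theorem cover : ∀ P Q : Fin 2 → Fin 2 → Bool,
    (∀ α β, ∃ ε i, form α β (rep ε i) = 1 ∧ P ε i = true) →
    (∀ α β, ∃ ε i, form α β (rep ε i) = 1 ∧ Q ε i = true) →
    (∀ ε i, P ε i = true → Q ε i = false) → ∀ ε i, P ε i = true ∨ Q ε i = true := by
  decide +kernel

/-- A finite group whose Sylow 2-subgroups are isomorphic to the direct product of a group of order 2 and the dihedral group of order 8 is not a non-abelian simple group. -/
theorem result {G : Type*} [Group G] [Finite G] (S : Sylow 2 G) (hS : Nonempty (↥(S : Subgroup G) ≃* Multiplicative (ZMod 2) × DihedralGroup 4))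
    [IsSimpleGroup G] (hG : ¬ IsMulCommutative G) : False := by
  classical
  obtain ⟨e⟩ := hS
  let f : Model →* G := (S : Subgroup G).subtype.comp e.symm.toMonoidHom
  have hf : Function.Injective f := fun x y h => e.symm.injective (Subtype.ext h)
  have hfS : ∀ x, f x ∈ (S : Subgroup G) := fun x => (e.symm x).2
  have hfsurj : ∀ g ∈ (S : Subgroup G), ∃ x, f x = g := fun g hg =>
    ⟨e ⟨g, hg⟩, by simp [f]⟩
  have hord : ∀ x : Model, x * x = 1 → x ≠ 1 → orderOf (f x) = 2 := fun x hx hx1 =>
    orderOf_eq_prime (by rw [sq, ← map_mul, hx, map_one]) fun h => hx1 (hf (h.trans (map_one f).symm))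
  have hconjS : ∀ x y : Model, IsConj (f x) (f (y * x * y⁻¹)) := fun x y =>
    isConj_iff.mpr ⟨f y, by simp⟩
  have hevenG : ¬ Odd (Nat.card G) := fun ho => by
    have h1 : orderOf (f cc) = 2 := hord cc (by decide) (by decide)
    exact (Nat.not_even_iff_odd.mpr ho) (even_iff_two_dvd.mpr (h1 ▸ orderOf_dvd_natCard _))
  -- no isolated involution
  have hiso : ∀ x : Model, x * x = 1 → x ≠ 1 →
      ¬ ∀ g : G, g * f x * g⁻¹ ∈ S → g * f x * g⁻¹ = f x := by
    intro x hx hx1 hall
    obtain ⟨N, hN, hNo, hcomm⟩ := Cfsg.Agent.S0215.result S (f x) (hord x hx hx1) (hfS x) hall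
    rcases IsSimpleGroup.eq_bot_or_eq_top_of_normal N hN with hb | ht
    · have hcen : f x ∈ Subgroup.center G := Subgroup.mem_center_iff.mpr fun g => by
        have h1 : f x * g * (f x)⁻¹ * g⁻¹ = 1 := Subgroup.mem_bot.mp (hb ▸ hcomm g)
        exact ((mul_inv_eq_iff_eq_mul.mp (mul_inv_eq_one.mp h1))).symm
      rcases IsSimpleGroup.eq_bot_or_eq_top_of_normal (Subgroup.center G) inferInstance with e' | e'
      · rw [e'] at hcen
        exact hx1 (hf ((Subgroup.mem_bot.mp hcen).trans (map_one f).symm))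
      · exact hG ⟨⟨fun a b => (Subgroup.mem_center_iff.mp (e' ▸ Subgroup.mem_top a) b).symm⟩⟩
    · exact hevenG (by rw [ht, Subgroup.card_top] at hNo; exact hNo)
  -- the central involutions are pairwise not conjugate
  have hcentral : ∀ u v : Model, (∀ s : Model, s * u = u * s) → (∀ s : Model, s * v = v * s) →
      IsConj (f u) (f v) → (u = zz → v = zz) ∧ ((u = cc ∧ v = cc * zz) → False) := by
    intro u v hu hv huv
    have hmemC : ∀ w : Model, (∀ s : Model, s * w = w * s) →
        f w ∈ Subgroup.centralizer ((S : Subgroup G) : Set G) := fun w hw =>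
      Subgroup.mem_centralizer_iff.mpr fun g hg => by
        obtain ⟨s, rfl⟩ := hfsurj g hg
        rw [← map_mul, ← map_mul, hw]
    obtain ⟨g, hg⟩ := isConj_iff.mp huv
    obtain ⟨n, hn, hne⟩ := Sylow.conj_eq_normalizer_conj_of_mem_centralizer S (f u) g⁻¹ (hmemC u hu)
      (by rw [inv_inv, hg]; exact hmemC v hv)
    rw [inv_inv, hg] at hne
    -- the normaliser fixes the unique square
    have hzz : ∀ m ∈ Subgroup.normalizer ((S : Subgroup G) : Set G), m * f zz * m⁻¹ = f zz := by
      intro m hm
      obtain ⟨x, hx⟩ := hfsurj _ ((Subgroup.mem_normalizer_iff.mp hm _).mp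
        (hfS ((1, DihedralGroup.r 1) : Model)))
      have h1 : m * f zz * m⁻¹ = f (x * x) := by
        rw [map_mul, hx, conj_mul, ← map_mul]
        rfl
      rcases square_eq x with hx2 | hx2
      · rw [hx2, map_one, conj_eq_one_iff] at h1
        exact absurd (hf (h1.trans (map_one f).symm)) (by decide)
      · rw [h1, hx2]
    have hninv := inv_mem hn
    refine ⟨fun h => hf ?_, ?_⟩
    · rw [h] at hne
      have h1 := hzz n⁻¹ hninv
      rw [inv_inv] at h1
      exact hne.trans h1
    rintro ⟨rfl, rfl⟩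
    have hcy : n⁻¹ * f cc * n⁻¹⁻¹ = f (cc * zz) := by rw [inv_inv]; exact hne.symm
    set m := n⁻¹
    have hpow : ∀ j : ℕ, m ^ j * f cc * (m ^ j)⁻¹ = if Even j then f cc else f (cc * zz) := by
      intro j
      induction j with
      | zero => simp
      | succ j ih =>
        have h1 : m ^ (j + 1) * f cc * (m ^ (j + 1))⁻¹ = m * (m ^ j * f cc * (m ^ j)⁻¹) * m⁻¹ := by
          rw [pow_succ']; group
        rw [h1, ih]
        by_cases hj : Even j
        · rw [if_pos hj, if_neg (by simp [Nat.even_add_one, hj]), hcy]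
        · rw [if_neg hj, if_pos (by simp [Nat.even_add_one, hj]), map_mul, ← conj_mul, hcy,
            hzz m hninv, ← map_mul]
          congr 1
    obtain ⟨i, r, hr, hir⟩ := Nat.exists_eq_two_pow_mul_odd (orderOf_pos m).ne'
    have h2 : (m ^ r) ^ 2 ^ i = 1 := by rw [← pow_mul, mul_comm, ← hir, pow_orderOf_eq_one]
    have hmemS : m ^ r ∈ (S : Subgroup G) := by
      obtain ⟨j, -, hj⟩ := (Nat.dvd_prime_pow Nat.prime_two).mp (orderOf_dvd_of_pow_eq_one h2)
      have hp : IsPGroup 2 (Subgroup.zpowers (m ^ r)) :=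
        IsPGroup.of_card (n := j) (by rw [Nat.card_zpowers, hj])
      have hle : Subgroup.zpowers (m ^ r) ≤ Subgroup.normalizer ((S : Subgroup G) : Set G) :=
        Subgroup.zpowers_le.mpr (pow_mem hninv r)
      exact (S.3 (hp.to_sup_of_normal_right' S.2 hle) le_sup_right).le
        (Subgroup.mem_sup_left (Subgroup.mem_zpowers _))
    obtain ⟨y, hy⟩ := hfsurj _ hmemS
    have h3 := hpow r
    rw [if_neg (Nat.not_even_iff_odd.mpr hr), ← hy, ← map_inv, ← map_mul, ← map_mul, hu,
      mul_inv_cancel_right] at h3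
    exact absurd (hf h3) (by decide)
  have hcc : ∀ s : Model, s * cc = cc * s := by decide +kernel
  have hzz' : ∀ s : Model, s * zz = zz * s := by decide +kernel
  have hcz : ∀ s : Model, s * (cc * zz) = cc * zz * s := by decide +kernel
  have n1 : ¬ IsConj (f cc) (f (cc * zz)) := fun h => (hcentral _ _ hcc hcz h).2 ⟨rfl, rfl⟩
  have n2 : ¬ IsConj (f cc) (f zz) := fun h =>
    absurd ((hcentral _ _ hzz' hcc h.symm).1 rfl) (by decide)
  have n3 : ¬ IsConj (f (cc * zz)) (f zz) := fun h =>
    absurd ((hcentral _ _ hzz' hcz h.symm).1 rfl) (by decide)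
  -- transfer: both classes meet every complement
  have hmeet : ∀ u : Model, (u = cc ∨ u = cc * zz) → ∀ α β : Fin 2,
      ∃ ε i, form α β (rep ε i) = 1 ∧ IsConj (f u) (f (rep ε i)) := by
    intro u hu α β
    have hu2 : u * u = 1 ∧ u ≠ 1 ∧ ¬ IsConj (f u) (f zz) := by
      rcases hu with rfl | rfl
      exacts [⟨by decide, by decide, n2⟩, ⟨by decide, by decide, n3⟩]
    set M := (formHom α β).ker.map f with hM
    have hrel : M.relIndex (S : Subgroup G) = 2 := by
      have htopS : (⊤ : Subgroup Model).map f = (S : Subgroup G) :=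
        le_antisymm (by rintro _ ⟨x, -, rfl⟩; exact hfS x) fun g hg => by
          obtain ⟨x, rfl⟩ := hfsurj g hg
          exact ⟨x, trivial, rfl⟩
      rw [hM, ← htopS, Subgroup.relIndex_map_map_of_injective _ _ hf, Subgroup.relIndex_top_right,
        Subgroup.index_ker, MonoidHom.range_eq_top.mpr ?_, Subgroup.card_top]
      · simp
      · intro b
        have : b = 1 ∨ b = Multiplicative.ofAdd 1 := by revert b; decide
        rcases this with rfl | rfl
        · exact ⟨1, map_one _⟩
        · refine ⟨cc, ?_⟩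
          exact form_cc α β
    rcases CfsgLib.ThompsonTransfer.thompson_transfer (S : Subgroup G) M
        (Nat.odd_iff.mpr (Nat.two_dvd_ne_zero.mp S.not_dvd_index)) hrel
        (u := f u) (by rw [← map_mul, hu2.1, map_one]) with ⟨N, hN, hNi, -⟩ | ⟨g, hg⟩
    · exfalso
      rcases IsSimpleGroup.eq_bot_or_eq_top_of_normal N hN with hb | ht
      · rw [hb, Subgroup.index_bot] at hNi
        exact hG ⟨⟨fun a b => by
          haveI := isCyclic_of_prime_card (α := G) hNi
          exact (IsCyclic.commGroup (α := G)).mul_comm a b⟩⟩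
      · rw [ht, Subgroup.index_top] at hNi; omega
    · obtain ⟨x, hx, hxe⟩ := hg
      have hc' : IsConj (f u) (f x) := isConj_iff.mpr ⟨g, hxe.symm⟩
      have hx2 : x * x = 1 ∧ x ≠ 1 := by
        refine ⟨hf ?_, fun h => ?_⟩
        · rw [map_mul, hxe, conj_mul, ← map_mul, hu2.1, map_one, mul_one, mul_inv_cancel]
        · rw [h, map_one, eq_comm, conj_eq_one_iff] at hxe
          exact hu2.2.1 (hf (hxe.trans (map_one f).symm))
      rcases kernel_involutions α β x hx2.1 hx2.2 hx with rfl | ⟨y, ε, i, hy, hform⟩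
      · exact absurd hc' hu2.2.2
      · exact ⟨ε, i, hform, hc'.trans (hy ▸ hconjS x y)⟩
  -- hence the remaining central involution is isolated
  have hall := cover (fun ε i => decide (IsConj (f cc) (f (rep ε i))))
    (fun ε i => decide (IsConj (f (cc * zz)) (f (rep ε i))))
    (fun α β => by simpa using hmeet cc (Or.inl rfl) α β)
    (fun α β => by simpa using hmeet _ (Or.inr rfl) α β)
    (fun ε i h => by simpa using fun h' => n1 ((of_decide_eq_true h).trans (IsConj.symm h')))
  refine hiso zz (by decide) (by decide) fun g hg => ?_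
  obtain ⟨x, hx⟩ := hfsurj _ hg
  have hc' : IsConj (f zz) (f x) := isConj_iff.mpr ⟨g, hx.symm⟩
  have hx2 : x * x = 1 ∧ x ≠ 1 := by
    refine ⟨hf ?_, fun h => ?_⟩
    · rw [map_mul, hx, conj_mul, ← map_mul, show zz * zz = (1 : Model) by decide, map_one, mul_one,
        mul_inv_cancel]
    · rw [h, map_one, eq_comm, conj_eq_one_iff] at hx
      exact absurd (hf (hx.trans (map_one f).symm)) (by decide)
  rw [← hx]
  rcases involutions x hx2.1 hx2.2 with rfl | rfl | rfl | ⟨y, ε, i, hy⟩
  · exact absurd hc'.symm n2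
  · rfl
  · exact absurd hc'.symm n3
  · have h1 : IsConj (f zz) (f (rep ε i)) := hc'.trans (hy ▸ hconjS x y)
    rcases hall ε i with h | h
    · exact absurd ((of_decide_eq_true h).trans h1.symm) n2
    · exact absurd ((of_decide_eq_true h).trans h1.symm) n3

end Cfsg.Agent.S3309
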