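import Cfsg.Statements.S3310
import Cfsg.Agent.RankOneMeet.Main
import Cfsg.Agent.GWApps.RankOne

set_option autoImplicit false
open Cfsg

namespace Cfsg.Agent.S3310

/-- Let G be a finite nonsolvable group; write O(G) for its largest normal subgroup of odd order and O₂(G) for its largest normal 2-subgroup. Suppose that every intersection of two distinct Sylow 2-subgroups of G has 2-rank at most 1, that some two distinct Sylow 2-subgroups of G/O(G) have a non-cyclic intersection, and that no Sylow 2-subgroup of G is a quaternion group, ordinary or generalized (of order 2^k ≥ 8). Then either (a) O₂(G) is a quaternion group, ordinary or generalized (of order 2^k ≥ 8), and G has a normal subgroup G₁ of odd index containing O₂(G)O(G) with G₁/O₂(G)O(G) isomorphic to PSL(2,2ⁿ) (n ≥ 2), a Suzuki group over the field with 2^(2m+1) elements (m ≥ 1), or PSU(3,2ⁿ) (n ≥ 2); or (b)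 G has a normal subgroup G₁ containing O(G), of index odd or twice an odd number, with G₁/O(G) isomorphic to the central product of two copies of SL(2,5) with amalgamated centres. -/
theorem result {G : Type*} [Group G] [Finite G] (hns : ¬ Group.IsSolvable G)
    (hI : ∀ S T : Sylow 2 G, S ≠ T → Cfsg.PRankLE 2 1 ↥((S : Subgroup G) ⊓ (T : Subgroup G)))
    (hnC : ∃ S T : Sylow 2 (G ⧸ Cfsg.oddCore G), S ≠ T ∧
      ¬ IsCyclic ↥((S : Subgroup (G ⧸ Cfsg.oddCore G)) ⊓ (T : Subgroup (G ⧸ Cfsg.oddCore G))))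
    (hnQ : ∀ S : Sylow 2 G, ∀ n : ℕ, IsEmpty (↥(S : Subgroup G) ≃* QuaternionGroup (2 ^ (n + 1)))) :
    (∃ (G₁ : Subgroup G) (_ : G₁.Normal) (_ : ((Cfsg.pCore 2 G ⊔ Cfsg.oddCore G).subgroupOf G₁).Normal),
      Odd G₁.index ∧ Cfsg.pCore 2 G ⊔ Cfsg.oddCore G ≤ G₁ ∧
      (∃ n : ℕ, Nonempty (↥(Cfsg.pCore 2 G) ≃* QuaternionGroup (2 ^ (n + 1)))) ∧
      ((∃ (n : ℕ) (F : Type) (_ : Field F) (_ : Fintype F), 2 ≤ n ∧ Fintype.card F = 2 ^ n ∧
          Nonempty (↥G₁ ⧸ (Cfsg.pCore 2 G ⊔ Cfsg.oddCore G).subgroupOf G₁ ≃* Matrix.ProjectiveSpecialLinearGroup (Fin 2) F)) ∨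
       (∃ (m : ℕ) (F : Type) (_ : Field F) (_ : Fintype F), 1 ≤ m ∧ Fintype.card F = 2 ^ (2 * m + 1) ∧
          Nonempty (↥G₁ ⧸ (Cfsg.pCore 2 G ⊔ Cfsg.oddCore G).subgroupOf G₁ ≃* ↥(Cfsg.Lie.Sz F (2 ^ (m + 1))))) ∨
       (∃ (n : ℕ) (F : Type) (_ : Field F) (_ : Fintype F), 2 ≤ n ∧ Fintype.card F = 4 ^ n ∧
          Nonempty (↥G₁ ⧸ (Cfsg.pCore 2 G ⊔ Cfsg.oddCore G).subgroupOf G₁ ≃* Cfsg.PSU 3 F (2 ^ n))))) ∨
    (∃ (G₁ : Subgroup G) (_ : G₁.Normal) (_ : ((Cfsg.oddCore G).subgroupOf G₁).Normal),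
      (Odd G₁.index ∨ ∃ k : ℕ, Odd k ∧ G₁.index = 2 * k) ∧ Cfsg.oddCore G ≤ G₁ ∧
      ∃ (Z : Subgroup (Matrix.SpecialLinearGroup (Fin 2) (ZMod 5) × Matrix.SpecialLinearGroup (Fin 2) (ZMod 5))) (_ : Z.Normal),
        Z = Subgroup.zpowers ((-1 : Matrix.SpecialLinearGroup (Fin 2) (ZMod 5)), (-1 : Matrix.SpecialLinearGroup (Fin 2) (ZMod 5))) ∧
        Nonempty (↥G₁ ⧸ (Cfsg.oddCore G).subgroupOf G₁ ≃*
          (Matrix.SpecialLinearGroup (Fin 2) (ZMod 5) × Matrix.SpecialLinearGroup (Fin 2) (ZMod 5)) ⧸ Z)) := by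
  haveI : Fact (Nat.Prime 2) := ⟨Nat.prime_two⟩
  haveI := CfsgLib.DGroup.normal_oddCore G
  have h : CfsgLib.RankOneMeet.Rk G := hI
  have hnsQ : ¬ Group.IsSolvable (G ⧸ Cfsg.oddCore G) := fun hs => hns (by
    haveI : Group.IsSolvable (Cfsg.oddCore G) :=
      CfsgLib.OddEnd.odd_solvable _ (CfsgLib.DGroup.odd_oddCore G)
    exact (Group.isSolvable_iff_subgroup_quotient (Cfsg.oddCore G)).2 ⟨inferInstance, hs⟩)
  have hnQQ : ∀ S : Sylow 2 (G ⧸ Cfsg.oddCore G), ∀ n : ℕ,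
      IsEmpty (↥(S : Subgroup (G ⧸ Cfsg.oddCore G)) ≃* QuaternionGroup (2 ^ (n + 1))) := fun S n => ⟨fun e => by
    obtain ⟨T⟩ : Nonempty (Sylow 2 G) := inferInstance
    obtain ⟨T', ⟨e'⟩⟩ := CfsgLib.GWApps.sylow_mod_core T
    exact (hnQ T n).false ((e'.trans (T'.equiv S)).trans e)⟩
  rcases CfsgLib.RankOneMeet.main h.quotient_core CfsgLib.LocalB.oddCore_quotient hnsQ hnC hnQQ with hA | hB
  · obtain ⟨hq, G₁, hn1, hn2, hodd, hle, h3⟩ := CfsgLib.RankOneMeet.conclA_lift h hA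
    refine Or.inl ⟨G₁, hn2, hn1, hodd, hle, hq, ?_⟩
    rcases h3 with ⟨F, i1, i2, ⟨n, hn, hc⟩, e⟩ | ⟨F, i1, i2, m, hm, hc, e⟩ | ⟨F, i1, i2, n, hn, hc, e⟩
    · exact Or.inl ⟨n, F, i1, i2, hn, hc, e⟩
    · exact Or.inr (Or.inl ⟨m, F, i1, i2, hm, hc, e⟩)
    · refine Or.inr (Or.inr ⟨n, F, i1, i2, hn, ?_, e⟩)
      rw [hc, show (4 : ℕ) = 2 ^ 2 from rfl, ← pow_mul, ← pow_mul, mul_comm]
  · obtain ⟨G₁, hn1, hn2, hidx, hle, e⟩ := CfsgLib.RankOneMeet.conclB_lift hB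
    exact Or.inr ⟨G₁, hn2, hn1, hidx, hle, CfsgLib.RankOneMeet.negPair,
      CfsgLib.RankOneMeet.negPair_normal, rfl, e⟩

end Cfsg.Agent.S3310
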