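import Cfsg.Statements.S3311
import Cfsg.Agent.NormalRankTwo.Main

set_option autoImplicit false
open Cfsg

namespace Cfsg.Agent.S3311

/-- Let G be a non-abelian finite simple group with Sylow 2-subgroup T. Suppose every normal abelian subgroup of T is generated by two elements, some normal abelian subgroup of T is not cyclic (so the normal rank of T is exactly 2), and the normalizer N_G(T) is not contained in T·C_G(T). Then T has order 4, 64 or 128. -/
theorem result {G : Type*} [Group G] [Finite G]
    [IsSimpleGroup G] (hna : ¬ IsMulCommutative G) (T : Sylow 2 G)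
    (hd2 : ∀ A : Subgroup ↥T, A.Normal → IsMulCommutative ↥A → ∃ a b : ↥T, Subgroup.closure {a, b} = A)
    (hd2' : ∃ A : Subgroup ↥T, A.Normal ∧ IsMulCommutative ↥A ∧ ¬ IsCyclic ↥A)
    (hN : ¬ Subgroup.normalizer ((T : Subgroup G) : Set G) ≤ (T : Subgroup G) ⊔ Subgroup.centralizer ((T : Subgroup G) : Set G)) :
    Nat.card ↥T = 4 ∨ Nat.card ↥T = 64 ∨ Nat.card ↥T = 128 := by
  classical
  refine CfsgLib.NormalRankTwo.card_cases hna T (fun A hAn hAc hA2 => ?_) hN
  obtain ⟨a, b, hab⟩ := hd2 A hAn hAc
  have ha : a ∈ A := hab ▸ Subgroup.subset_closure (Set.mem_insert _ _)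
  have hb : b ∈ A := hab ▸ Subgroup.subset_closure (Set.mem_insert_of_mem _ rfl)
  have hc : a * b = b * a := congrArg Subtype.val (hAc.is_comm.comm ⟨a, ha⟩ ⟨b, hb⟩)
  have hab2 : a * a = 1 := by rw [← pow_two]; exact hA2 a ha
  have hbb : b * b = 1 := by rw [← pow_two]; exact hA2 b hb
  have hl1 : ∀ z : ↥T, a * (a * z) = z := fun z => by rw [← mul_assoc, hab2, one_mul]
  have hl2 : ∀ z : ↥T, b * (b * z) = z := fun z => by rw [← mul_assoc, hbb, one_mul]
  have hl3 : ∀ z : ↥T, b * (a * z) = a * (b * z) := fun z => by rw [← mul_assoc, ← hc, mul_assoc]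
  have key : ∀ x ∈ A, x ∈ ({1, a, b, a * b} : Finset ↥T) := by
    intro x hx
    rw [← hab] at hx
    induction hx using Subgroup.closure_induction with
    | mem y hy =>
      simp only [Set.mem_insert_iff, Set.mem_singleton_iff] at hy
      rcases hy with e | e <;> simp [e]
    | one => simp
    | mul y z _ _ hy hz =>
      simp only [Finset.mem_insert, Finset.mem_singleton] at hy hz ⊢
      rcases hy with e | e | e | e <;> rcases hz with e' | e' | e' | e' <;>
        simp [e, e', hab2, hbb, mul_assoc, hl1, hl2, hl3, hc.symm]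
    | inv y hy' hy =>
      have hyA : y ∈ A := hab ▸ hy'
      rwa [inv_eq_of_mul_eq_one_right (by rw [← pow_two]; exact hA2 y hyA)]
  calc Nat.card A ≤ Nat.card ({1, a, b, a * b} : Finset ↥T) :=
        Nat.card_le_card_of_injective (fun x => ⟨x.1, key x.1 x.2⟩)
          fun u v e => Subtype.ext (congrArg Subtype.val e :)
    _ ≤ 4 := by rw [Nat.card_eq_finsetCard]; exact Finset.card_le_four

end Cfsg.Agent.S3311
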