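import Cfsg.Statements.S3313
import Cfsg.Agent.HJT.SetupA5
import Cfsg.Agent.Comp.Fitting
import Cfsg.Agent.Solvable.Basics

set_option autoImplicit false
open Cfsg

namespace Cfsg.Agent.S3313

/-- The order of a simple group with the involution pattern of the Hall–Janko group. Let G be a non-abelian finite simple group with exactly two conjugacy classes of involutions, represented by z and t, such that: F*(C_G(z)) is an extraspecial 2-group; Q = O₂(C_G(z)) has order 32 and C_G(z) is the semidirect product of Q by a subgroup isomorphic to A₅; every involution of Q is conjugate to z and every other involution of C_G(z) is conjugate to t; C_G(t) is an internal direct product V × B with V a four-group containing t and B ≅ A₅; every involution of B is conjugate to z and every other involution of C_G(t) is conjugate to t. Then |G| = 604800. -/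
theorem result {G : Type*} [Group G] [Finite G]
    [IsSimpleGroup G] (hna : ¬ IsMulCommutative G) (z t : G) (hz : orderOf z = 2) (ht : orderOf t = 2)
    (hzt : ¬ IsConj z t) (hcl : ∀ x : G, orderOf x = 2 → IsConj x z ∨ IsConj x t)
    (hex : Cfsg.IsExtraspecial 2 ↥(Cfsg.generalizedFittingSubgroup ↥(Subgroup.centralizer ({z} : Set G))))
    (hQ : Nat.card ↥(Cfsg.pCore 2 ↥(Subgroup.centralizer ({z} : Set G))) = 32)
    (K : Subgroup G) (hK : Nonempty (↥K ≃* alternatingGroup (Fin 5)))
    (hKC : K ⊔ (Cfsg.pCore 2 ↥(Subgroup.centralizer ({z} : Set G))).map (Subgroup.centralizer ({z} : Set G)).subtype = Subgroup.centralizer ({z} : Set G))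
    (hKQ : K ⊓ (Cfsg.pCore 2 ↥(Subgroup.centralizer ({z} : Set G))).map (Subgroup.centralizer ({z} : Set G)).subtype = ⊥)
    (hQz : ∀ x ∈ (Cfsg.pCore 2 ↥(Subgroup.centralizer ({z} : Set G))).map (Subgroup.centralizer ({z} : Set G)).subtype, orderOf x = 2 → IsConj x z)
    (hCz : ∀ x ∈ Subgroup.centralizer ({z} : Set G), orderOf x = 2 →
      x ∉ (Cfsg.pCore 2 ↥(Subgroup.centralizer ({z} : Set G))).map (Subgroup.centralizer ({z} : Set G)).subtype → IsConj x t)
    (V B : Subgroup G) (hVB : Cfsg.IsInternalDirectProduct V B (Subgroup.centralizer ({t} : Set G)))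
    (hV : Nat.card ↥V = 4) (hV2 : ∀ v ∈ V, v ^ 2 = 1) (htV : t ∈ V) (hB : Nonempty (↥B ≃* alternatingGroup (Fin 5)))
    (hBz : ∀ x ∈ B, orderOf x = 2 → IsConj x z)
    (hCt : ∀ x ∈ Subgroup.centralizer ({t} : Set G), orderOf x = 2 → x ∉ B → IsConj x t) :
    Nat.card G = 604800 := by
  classical
  have hpp : IsPGroup 2 ↥(Cfsg.pCore 2 ↥(Subgroup.centralizer ({z} : Set G))) :=
    CfsgLib.Solvable.isPGroup_pCore 2
  haveI : Fact (Nat.Prime 2) := ⟨Nat.prime_two⟩
  set C := Subgroup.centralizer ({z} : Set G) with hC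
  set Q := Cfsg.pCore 2 ↥C with hQdef
  -- the generalised Fitting subgroup is the 2-core
  have hFQ : Cfsg.generalizedFittingSubgroup ↥C = Q := by
    refine le_antisymm (CfsgLib.Solvable.le_pCore 2 inferInstance hex.1.1) ?_
    exact le_trans (CfsgLib.Solvable.le_fittingSubgroup inferInstance hpp.isNilpotent) CfsgLib.Comp.fitting_le_Fstar
  have hQE : Cfsg.IsExtraspecial 2 Q := hFQ ▸ hex
  have hcq : Subgroup.centralizer (Q : Set ↥C) ≤ Q := hFQ ▸ CfsgLib.Comp.centralizer_Fstar_le
  obtain ⟨eK⟩ := hK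
  have hle : K ≤ C := hKC ▸ le_sup_left
  let φ : K →* ↥C ⧸ Q := (QuotientGroup.mk' Q).comp (Subgroup.inclusion hle)
  have hinj : Function.Injective φ := by
    rw [injective_iff_map_eq_one]
    intro k hk
    have hm : Subgroup.inclusion hle k ∈ Q := (QuotientGroup.eq_one_iff _).1 hk
    have hbot : (k : G) ∈ K ⊓ Q.map C.subtype := ⟨k.2, _, hm, rfl⟩
    rw [hKQ, Subgroup.mem_bot] at hbot
    exact Subtype.ext hbot
  have hsurj : Function.Surjective φ := by
    intro c
    obtain ⟨c, rfl⟩ := QuotientGroup.mk'_surjective Q c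
    have htop : K.subgroupOf C ⊔ Q = ⊤ := by
      refine eq_top_iff.2 fun b _ => ?_
      have hb : (b : G) ∈ ((K.subgroupOf C ⊔ Q).map C.subtype) := by
        rw [Subgroup.map_sup, Subgroup.subgroupOf_map_subtype, inf_eq_left.2 hle, hKC]
        exact b.2
      obtain ⟨b', hb', he⟩ := hb
      exact (Subtype.ext he : b' = b) ▸ hb'
    obtain ⟨k, hk, q, hq, he⟩ := Subgroup.mem_sup_of_normal_right.1 (htop.symm ▸ Subgroup.mem_top c)
    refine ⟨⟨k, hk⟩, ?_⟩
    rw [← he, map_mul, show QuotientGroup.mk' Q q = 1 from (QuotientGroup.eq_one_iff q).2 hq, mul_one]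
    rfl
  let e : ↥C ⧸ Q ≃* alternatingGroup (Fin 5) := (MulEquiv.ofBijective φ ⟨hinj, hsurj⟩).symm.trans eK
  -- another conjugate of `z` inside the 2-core
  have hnwc : ∃ g : G, (∃ hq : g * z * g⁻¹ ∈ C, (⟨g * z * g⁻¹, hq⟩ : C) ∈ Q) ∧ g * z * g⁻¹ ≠ z := by
    obtain ⟨z', hz'⟩ := CfsgLib.Extra2.exists_gen hQE
    obtain ⟨x, hx, hxx, hx1, hxz⟩ := CfsgLib.HJT.exists_noncentral_invol hz' (by rw [hQ])
    have hxne : (x : G) ≠ z := by
      intro he
      rcases hz'.center_iff x hx (fun y _ => Subtype.ext (by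
        show (x : G) * y = y * x
        rw [he]; exact (Subgroup.mem_centralizer_singleton_iff.1 y.2).symm)) with h | h
      · exact hx1 h
      · exact hxz h
    have hord : orderOf (x : G) = 2 := CfsgLib.HJT.orderOf_two_iff.2
      ⟨congrArg Subtype.val hxx, fun h => hx1 (Subtype.ext h)⟩
    obtain ⟨g, hg⟩ := isConj_iff.1 (hQz (x : G) ⟨x, hx, rfl⟩ hord).symm
    refine ⟨g, ⟨hg.symm ▸ x.2, ?_⟩, hg ▸ hxne⟩
    exact (Subtype.ext hg.symm : x = ⟨g * z * g⁻¹, hg.symm ▸ x.2⟩) ▸ hx
  obtain ⟨Qg, a, π, L⟩ := CfsgLib.HJT.exists_loc_alt z hz Q hcq hQE (by rw [hQ]; norm_num) e hnwc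
    ⟨z, t, hz, ht, hzt⟩
  exact L.card_group

end Cfsg.Agent.S3313
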