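import Cfsg.Statements.S3315
import Cfsg.Agent.Invol.U3Center

set_option autoImplicit false
open Cfsg

namespace Cfsg.Agent.S3315

/-- Let S be a Sylow 2-subgroup of SU₃(2ⁿ), n ≥ 2 (realised over the field with 4ⁿ elements). If a finite 2-group R contains a subgroup S' of index 2 isomorphic to S, then the centre of S' is contained in the centre of R. -/
theorem result {R : Type*} [Group R] [Finite R]
    (hR : IsPGroup 2 R) (n : ℕ) (hn : 2 ≤ n) {F : Type*} [Field F] [Fintype F] (hF : Fintype.card F = 4 ^ n)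
    (P : Sylow 2 ↥(Cfsg.SU 3 F (2 ^ n))) (S' : Subgroup R) (hS : Nonempty (↥S' ≃* ↥(P : Subgroup ↥(Cfsg.SU 3 F (2 ^ n)))))
    (hidx : S'.index = 2) :
    (Subgroup.center ↥S').map S'.subtype ≤ Subgroup.center R := by
  classical
  haveI : Fact (Nat.Prime 2) := ⟨Nat.prime_two⟩
  have hFc : Nat.card F = (2 ^ n) ^ 2 := by
    rw [Nat.card_eq_fintype_card, hF, ← pow_mul, mul_comm, pow_mul]; norm_num
  haveI : CharP F 2 := by
    obtain ⟨p, k, hp, hchar, hq, hk⟩ := CfsgLib.AutPSU.exists_prime hFc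
    have : p ∣ 2 := hp.dvd_of_dvd_pow (n := n) (hq ▸ dvd_pow_self p hk)
    rwa [← (Nat.prime_dvd_prime_iff_eq hp Nat.prime_two).1 this]
  obtain ⟨φ, ι, h1, h2, h3, h4, h5, h6, h7⟩ := CfsgLib.Invol.U3Center.sylow_model hFc (by omega) rfl P
  obtain ⟨θ⟩ := hS
  rintro _ ⟨z, hz, rfl⟩
  rw [Subgroup.mem_center_iff]
  intro r
  haveI : S'.Normal := Subgroup.normal_of_index_eq_two hidx
  let c : MulAut S' := MulAut.conjNormal r
  have key := CfsgLib.Invol.U3Center.fixes_center hFc φ ι h1 h2 h3 h4 h5 h6 h7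
    ((θ.symm.trans c).trans θ) (fun x => by
      have hrr : r * r ∈ S' := Subgroup.mul_self_mem_of_index_two hidx r
      have e : ∀ y : S', c (c y) = ⟨r * r, hrr⟩ * y * ⟨r * r, hrr⟩⁻¹ := fun y =>
        Subtype.ext (by simp [c, mul_assoc])
      simp only [MulEquiv.trans_apply, MulEquiv.symm_apply_apply, e, map_mul, map_inv,
        MulEquiv.apply_symm_apply, h1]
      have h11 : φ 1 = 0 := by
        have := h1 1 1
        rwa [mul_one, left_eq_add] at this
      have := h1 (θ ⟨r * r, hrr⟩) (θ ⟨r * r, hrr⟩)⁻¹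
      rw [mul_inv_cancel, h11] at this
      linear_combination -this)
    (θ z) (Subgroup.mem_center_iff.2 fun y => by
      have := congrArg θ (Subgroup.mem_center_iff.1 hz (θ.symm y))
      simpa using this)
  simp only [MulEquiv.trans_apply, MulEquiv.symm_apply_apply, EmbeddingLike.apply_eq_iff_eq] at key
  have := congrArg Subtype.val key
  rw [MulAut.conjNormal_apply] at this
  exact mul_inv_eq_iff_eq_mul.1 this

end Cfsg.Agent.S3315
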