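import Cfsg.Statements.S3322
import Cfsg.Agent.DGroup.TopDihedral
import Cfsg.Agent.DGroup.RankTwo
import Cfsg.Agent.DGroup.Hyp
import Cfsg.Agent.DGroup.NoMember
import Cfsg.Agent.DGroup.Normal
import Cfsg.Agent.LocalB.OddSignalizer
import Cfsg.Agent.NormCyclic.Main

set_option autoImplicit false
open Cfsg

namespace Cfsg.Agent.S3322

/-- Call a group a D-group when it has a proper subgroup outside of which every element x satisfies x² = 1 (for instance a dihedral group, or an elementary abelian 2-group). Let G be a finite group with a subgroup H that is a D-group (witnessed by a proper subgroup A of H) of order divisible by 4, such that H = C_G(j) for every involution j in the centre of H. If G is not solvable, then G has a normal subgroup N whose order is odd or twice an odd number with G/N isomorphic to PSL(2, q) or PGL(2, q) for some prime power q > 3 (q may be even). -/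
theorem result
    {G : Type*} [Group G] [Finite G] (H A : Subgroup G) (hAH : A < H) (hD : ∀ x ∈ H, x ∉ A → x ^ 2 = 1)
    (h4 : 4 ∣ Nat.card ↥H)
    (hC : ∀ j ∈ H, orderOf j = 2 → (∀ h ∈ H, h * j = j * h) → Subgroup.centralizer ({j} : Set G) = H)
    (hns : ¬ Group.IsSolvable G) :
    ∃ (N : Subgroup G) (_ : N.Normal), (Odd (Nat.card ↥N) ∨ ∃ m : ℕ, Odd m ∧ Nat.card ↥N = 2 * m) ∧
      ∃ (F : Type) (_ : Field F) (_ : Fintype F), 3 < Fintype.card F ∧
        (Nonempty (G ⧸ N ≃* Matrix.ProjectiveSpecialLinearGroup (Fin 2) F) ∨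
          Nonempty (G ⧸ N ≃* Matrix.ProjGenLinGroup (Fin 2) F)) := by
  classical
  have hsq : ∀ x ∈ H, x ∉ A → x * x = 1 := fun x hx hxA => by rw [← pow_two]; exact hD x hx hxA
  by_cases hexp : ∀ x ∈ H, x * x = 1
  · have habH : ∀ x ∈ H, ∀ y ∈ H, x * y = y * x := fun x hx y hy => by
      calc x * y = (x * y)⁻¹ := eq_inv_of_mul_eq_one_left (hexp _ (mul_mem hx hy))
        _ = y * x := by
          rw [mul_inv_rev, inv_eq_of_mul_eq_one_right (hexp x hx),
            inv_eq_of_mul_eq_one_right (hexp y hy)]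
    exact CfsgLib.DGroup.exp_two_case H h4 hexp
      (fun j hj hjo => hC j hj hjo fun h hh => habH h hh j hj) hns
  -- the elements outside `A` invert `A`
  have hinv : ∀ x ∈ H, x ∉ A → ∀ a ∈ A, x * a * x⁻¹ = a⁻¹ := by
    intro x hx hxA a ha
    have hxa : x * a ∉ A := fun h => hxA (by simpa using mul_mem h (inv_mem ha))
    have h1 := hsq _ (mul_mem hx (hAH.le ha)) hxa
    rw [inv_eq_of_mul_eq_one_right (hsq x hx hxA)]
    exact eq_inv_of_mul_eq_one_left (by rw [mul_assoc]; exact h1)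
  obtain ⟨x₀, hx₀, hx₀A⟩ := SetLike.exists_of_lt hAH
  have hab : ∀ a ∈ A, ∀ b ∈ A, Commute a b := fun a ha b hb => by
    have h := hinv x₀ hx₀ hx₀A _ (mul_mem ha hb)
    rw [← conj_mul, hinv x₀ hx₀ hx₀A a ha, hinv x₀ hx₀ hx₀A b hb, ← mul_inv_rev] at h
    exact (inv_injective h).symm
  have htwo : ∀ x ∈ H, ∀ y ∈ H, x ∉ A → y ∉ A → x * y ∈ A := by
    intro x hx y hy hxA hyA
    by_contra hxy
    refine hexp fun w hw => ?_
    by_cases hwA : w ∈ A
    · have h := hinv _ (mul_mem hx hy) hxy w hwA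
      rw [show x * y * w * (x * y)⁻¹ = x * (y * w * y⁻¹) * x⁻¹ by group, hinv y hy hyA w hwA,
        hinv x hx hxA _ (inv_mem hwA), inv_inv] at h
      nth_rw 1 [h]
      exact inv_mul_cancel w
    · exact hsq w hw hwA
  have hCA : ∀ j ∈ A, orderOf j = 2 → Subgroup.centralizer ({j} : Set G) = H := by
    intro j hj hjo
    refine hC j (hAH.le hj) hjo fun h hh => ?_
    by_cases hhA : h ∈ A
    · exact (hab h hhA j hj).eq
    · refine mul_inv_eq_iff_eq_mul.1 ((hinv h hh hhA j hj).trans ?_)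
      exact inv_eq_of_mul_eq_one_right (by rw [← pow_two, ← hjo, pow_orderOf_eq_one])
  by_cases hrank : ∃ a ∈ A, ∃ b ∈ A, orderOf a = 2 ∧ orderOf b = 2 ∧ a ≠ b
  · exact CfsgLib.DGroup.rank_two_case H A hAH hab hsq htwo hexp hrank hCA hns
  -- a single involution in `A`
  obtain ⟨t, ht, hto⟩ : ∃ t ∈ A, orderOf t = 2 := by
    have hidx : (A.subgroupOf H).index = 2 := by
      rw [Subgroup.index_eq_two_iff]
      refine ⟨⟨x₀, hx₀⟩, fun s => ?_⟩
      simp only [Subgroup.mem_subgroupOf, Subgroup.coe_mul]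
      by_cases hs : (s : G) ∈ A
      · exact Or.inr ⟨hs, fun h => hx₀A (by simpa using mul_mem (inv_mem hs) h)⟩
      · exact Or.inl ⟨htwo _ s.2 _ hx₀ hs hx₀A, hs⟩
    have hcard := Subgroup.card_mul_index (A.subgroupOf H)
    rw [hidx, Nat.card_congr (Subgroup.subgroupOfEquivOfLe hAH.le).toEquiv] at hcard
    have h2 : 2 ∣ Nat.card A := by omega
    haveI : Fact (Nat.Prime 2) := ⟨Nat.prime_two⟩
    obtain ⟨⟨t, ht⟩, hto⟩ := exists_prime_orderOf_dvd_card' 2 h2
    exact ⟨t, ht, by rwa [Subgroup.orderOf_mk] at hto⟩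
  have htI : CfsgLib.NormCyclic.Inv t := CfsgLib.NormCyclic.Inv.of_orderOf hto
  have hmem : ∀ {x : G}, Commute x t → x ∈ H := fun {x} h => by
    rw [← hCA t ht hto, Subgroup.mem_centralizer_singleton_iff]; exact h.eq
  have hBase : CfsgLib.DGroup.IsBase t A :=
    ⟨fun a ha => hab a ha t ht, ht, hab, fun x hx hxx hx1 => by
      by_contra hne
      exact hrank ⟨x, hx, t, ht, CfsgLib.NormCyclic.Inv.orderOf ⟨hxx, hx1⟩, hto, hne⟩,
      fun x hx hxA => hsq x (hmem hx) hxA,
      fun x y hx hy hxA hyA => htwo x (hmem hx) y (hmem hy) hxA hyA⟩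
  -- pass to the quotient by the odd core
  set N := Cfsg.oddCore G with hN
  have hNo : Odd (Nat.card N) := CfsgLib.DGroup.odd_oddCore G
  haveI hNn : N.Normal := CfsgLib.DGroup.normal_oddCore G
  have hns' : ¬ Group.IsSolvable (G ⧸ N) := fun h => hns (by
    haveI := CfsgLib.DGroup.solvable_of_odd N hNo
    exact (Group.isSolvable_iff_subgroup_quotient N).2 ⟨inferInstance, h⟩)
  have hO : Cfsg.oddCore (G ⧸ N) = ⊥ := CfsgLib.LocalB.oddCore_quotient
  haveI : Nontrivial (G ⧸ N) := by
    by_contra h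
    rw [not_nontrivial_iff_subsingleton] at h
    exact hns' inferInstance
  have hX := CfsgLib.DGroup.dhyp_of_base hO hns' (CfsgLib.DGroup.mk_inv hNo htI)
    (hBase.map_quot hNo htI)
  exact ⟨N, hNn, Or.inl hNo, (hX.normCyclic (hX.ti hO)).recognition
    (fun K h => CfsgLib.DGroup.solvable_of_odd K h) (hX.no_solvable_normal hO hns')⟩

end Cfsg.Agent.S3322
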