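import Cfsg.Statements.S3339
import Cfsg.Agent.ThreeLocalNine.Finish
import Cfsg.Agent.ThreeLocalNine.Model9
import Cfsg.Agent.AltNine.Main

set_option autoImplicit false
open Cfsg

namespace Cfsg.Agent.S3339

/-- A 3-local characterization of the alternating group of degree 9. Let G be a finite group and J ≤ G an elementary abelian subgroup of order 27 whose normalizer H = N_G(J) is isomorphic to the normalizer, in the alternating group of degree 9, of the subgroup generated by three disjoint 3-cycles. If O_{3'}(C_G(x)) = 1 for every element x of order 3 in H, then either G = H or G is isomorphic to the alternating group of degree 9. -/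
theorem result {G : Type*} [Group G] [Finite G]
    (J : Subgroup G) (hJcomm : IsMulCommutative J) (hJexp : ∀ a ∈ J, a ^ 3 = 1) (hJcard : Nat.card J = 27)
    (H : Subgroup G) (hH : H = Subgroup.normalizer (J : Set G))
    (J₀ : Subgroup (Equiv.Perm (Fin 9)))
    (hJ₀ : J₀ = Subgroup.closure {Equiv.swap (0 : Fin 9) 1 * Equiv.swap 1 2, Equiv.swap (3 : Fin 9) 4 * Equiv.swap 4 5, Equiv.swap (6 : Fin 9) 7 * Equiv.swap 7 8})
    (eH : H ≃* ↥(alternatingGroup (Fin 9) ⊓ Subgroup.normalizer (J₀ : Set (Equiv.Perm (Fin 9)))))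
    (hcores : ∀ x ∈ H, orderOf x = 3 → Cfsg.pPrimeCore 3 (Subgroup.centralizer ({x} : Set G)) = ⊥) :
    H = ⊤ ∨ Nonempty (G ≃* alternatingGroup (Fin 9)) := by
  classical
  haveI := Fintype.ofFinite G
  have hJ0 : J₀ = CfsgLib.ThreeLocalNine.threeCycles := hJ₀
  subst hJ0
  let e : CfsgLib.AltNine.K ≃* H :=
    ((MonoidHom.ofInjective CfsgLib.AltNine.toPerm_injective).trans
      (MulEquiv.subgroupCongr CfsgLib.ThreeLocalNine.inf_normalizer_eq.symm)).trans eH.symm
  let φ : CfsgLib.AltNine.K →* G := H.subtype.comp e.toMonoidHom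
  have hinj : Function.Injective φ := fun a b h => e.injective (Subtype.ext h)
  have hrange : φ.range = H := by
    refine le_antisymm ?_ fun x hx => ⟨e.symm ⟨x, hx⟩, ?_⟩
    · rintro _ ⟨k, rfl⟩
      exact (e k).2
    · exact congrArg Subtype.val (e.apply_symm_apply ⟨x, hx⟩)
  have hJH : J ≤ H := hH ▸ Subgroup.le_normalizer
  have hn : (J.subgroupOf H).Normal := by
    rw [hH]; exact Subgroup.normal_in_normalizer
  have hp : IsPGroup 3 (J.subgroupOf H) :=
    (IsPGroup.of_card (n := 3) (hJcard.trans rfl)).of_equiv (Subgroup.subgroupOfEquivOfLe hJH).symm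
  have hle : J.subgroupOf H ≤ Cfsg.pCore 3 H := le_sSup ⟨hn, hp⟩
  rw [← CfsgLib.AltNine.map_tr_eq e] at hle
  have hmap : J = CfsgLib.AltNine.tr.map φ := by
    refine Subgroup.eq_of_le_of_card_ge ?_ (le_of_eq ?_)
    · intro x hx
      obtain ⟨k, hk, hke⟩ := hle (show (⟨x, hJH hx⟩ : H) ∈ J.subgroupOf H from hx)
      exact ⟨k, hk, congrArg Subtype.val hke⟩
    · rw [← Nat.card_congr (CfsgLib.AltNine.tr.equivMapOfInjective φ hinj).toEquiv, hJcard,
        CfsgLib.ThreeLocalNine.card_tr]
  have hset : CfsgLib.ThreeLocalNine.Setup φ :=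
    { inj := hinj
      norm := by rw [← hmap, hrange, hH]
      cores := fun x hx => hcores (φ x) (hrange ▸ ⟨x, rfl⟩)
        (by rw [orderOf_injective φ hinj, hx]) }
  rcases hset.conclusion with h | h
  · exact Or.inl (hrange ▸ h)
  · exact Or.inr h

end Cfsg.Agent.S3339
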