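import Cfsg.Statements.S3349
-- no helper imports

set_option autoImplicit false
open Cfsg

namespace Cfsg.Agent.S3349

/-- Let Q be a finite extraspecial p-group and α an automorphism of Q fixing every element of some maximal abelian subgroup of Q. Then the order of α is a power of p. -/
theorem result {Q : Type*} [Group Q] [Finite Q]
    (p : ℕ) [Fact p.Prime] (hQ : Cfsg.IsExtraspecial p Q) (α : MulAut Q)
    (A : Subgroup Q) (hA : IsMulCommutative A) (hmax : ∀ B : Subgroup Q, A ≤ B → IsMulCommutative B → B = A)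
    (hfix : ∀ a ∈ A, α a = a) :
    ∃ k : ℕ, orderOf α = p ^ k := by
  obtain ⟨⟨hp, hfr, hcom⟩, -⟩ := hQ
  have hcomm : ∀ a ∈ A, ∀ b ∈ A, a * b = b * a := fun a ha b hb =>
    congrArg Subtype.val (hA.is_comm.comm ⟨a, ha⟩ ⟨b, hb⟩)
  have hmaxc : ∀ c, (∀ a ∈ A, c * a = a * c) → c ∈ A := by
    intro c hc
    have h := hmax (A ⊔ Subgroup.zpowers c) le_sup_left ?_
    · exact h ▸ Subgroup.mem_sup_right (Subgroup.mem_zpowers c)
    refine ⟨⟨fun x y => Subtype.ext ?_⟩⟩
    have hcl : A ⊔ Subgroup.zpowers c = Subgroup.closure ((A : Set Q) ∪ {c}) := by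
      rw [Subgroup.closure_union, Subgroup.closure_eq, Subgroup.zpowers_eq_closure]
    have hgen : ∀ u ∈ ((A : Set Q) ∪ {c}), ∀ v ∈ ((A : Set Q) ∪ {c}), u * v = v * u := by
      rintro u (hu | rfl) v (hv | rfl)
      exacts [hcomm u hu v hv, (hc u hu).symm, hc v hv, rfl]
    have := Subgroup.isMulCommutative_closure hgen
    rw [← hcl] at this
    exact congrArg Subtype.val (this.is_comm.comm x y)
  have hcenter : Subgroup.center Q ≤ A := fun c hc =>
    hmaxc c fun a _ => ((Subgroup.mem_center_iff.1 hc) a).symm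
  have hconj : ∀ x, ∀ a ∈ A, x * a * x⁻¹ ∈ A := fun x a ha => by
    have hmem : x * a * x⁻¹ * a⁻¹ ∈ commutator Q :=
      Subgroup.commutator_mem_commutator (Subgroup.mem_top x) (Subgroup.mem_top a)
    rw [hcom] at hmem
    simpa using A.mul_mem (hcenter hmem) ha
  have hc : ∀ x, x⁻¹ * α x ∈ A := fun x => hmaxc _ fun a ha => by
    have h1 : α x * a * (α x)⁻¹ = x * a * x⁻¹ := by
      have := hfix _ (hconj x a ha)
      rwa [map_mul, map_mul, map_inv, hfix a ha] at this
    calc x⁻¹ * α x * a = x⁻¹ * (α x * a * (α x)⁻¹) * α x := by group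
      _ = x⁻¹ * (x * a * x⁻¹) * α x := by rw [h1]
      _ = a * (x⁻¹ * α x) := by group
  obtain ⟨e, he⟩ := IsPGroup.iff_card.1 hp
  have hpow : ∀ (n : ℕ) (x : Q), (α ^ n) x = x * (x⁻¹ * α x) ^ n := by
    intro n x
    induction n with
    | zero => simp
    | succ n ih =>
      rw [pow_succ', MulAut.mul_apply, ih, map_mul, map_pow, hfix _ (hc x), pow_succ' _ n,
        ← mul_assoc x, mul_inv_cancel_left]
  have hone : α ^ (p ^ e) = 1 := MulEquiv.ext fun x => by
    rw [hpow, ← he, pow_card_eq_one', mul_one]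
    rfl
  exact ((Nat.dvd_prime_pow Fact.out).1 (orderOf_dvd_of_pow_eq_one hone)).imp fun _ h => h.2

end Cfsg.Agent.S3349
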