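import Cfsg.Statements.S3356
-- import your own Cfsg.Agent.* helpers here

set_option autoImplicit false
open Cfsg

namespace Cfsg.Agent.S3356

lemma dvd_card_of_orbit_card {A X : Type*} [Group A] [MulAction A X] [Finite X] (m : ℕ)
    (h : ∀ x : X, Nat.card (MulAction.orbit A x) = m) : m ∣ Nat.card X := by
  classical
  haveI := Fintype.ofFinite (MulAction.orbitRel.Quotient A X)
  rw [Nat.card_congr (MulAction.selfEquivSigmaOrbits A X), Nat.card_sigma]
  apply Finset.dvd_sum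
  intro q _
  rw [h]

section
variable {G Ω : Type*} [Group G] [Finite G] [MulAction G Ω] [FaithfulSMul G Ω] [Finite Ω]
  (N : Subgroup G) [hN : N.Normal] (hNt : MulAction.IsPretransitive N Ω)
  (hNr : ∀ a : Ω, MulAction.stabilizer N a = ⊥) (a : Ω)

include hNr in
omit [Finite G] [FaithfulSMul G Ω] [Finite Ω] hN in
lemma smul_inj {x y : G} (hx : x ∈ N) (hy : y ∈ N) (h : x • a = y • a) : x = y := by
  have : (⟨y⁻¹ * x, N.mul_mem (N.inv_mem hy) hx⟩ : N) ∈ MulAction.stabilizer N a := by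
    rw [MulAction.mem_stabilizer_iff]
    show (y⁻¹ * x) • a = a
    rw [mul_smul, h, inv_smul_smul]
  rw [hNr a, Subgroup.mem_bot] at this
  have h2 : y⁻¹ * x = 1 := congrArg Subtype.val this
  exact (inv_mul_eq_one.mp h2).symm

omit [Finite G] [FaithfulSMul G Ω] [Finite Ω] hN in
lemma smul_smul_eq {g : G} (hg : g • a = a) (x : G) : g • x • a = (g * x * g⁻¹) • a := by
  rw [mul_smul, mul_smul]
  congr 2
  rw [eq_inv_smul_iff, hg]

include hNr hN in
omit [Finite G] [FaithfulSMul G Ω] [Finite Ω] in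
lemma fix_iff {g x : G} (hg : g • a = a) (hx : x ∈ N) : g • x • a = x • a ↔ Commute g x := by
  rw [smul_smul_eq a hg]
  constructor
  · intro h
    have := smul_inj N hNr a (hN.conj_mem x hx g) hx h
    exact mul_inv_eq_iff_eq_mul.mp this
  · intro h
    rw [h.eq, mul_inv_cancel_right]

include hNt in
omit [Finite G] [FaithfulSMul G Ω] [Finite Ω] hN in
lemma exists_mem (b : Ω) : ∃ x ∈ N, x • a = b := by
  obtain ⟨⟨x, hx⟩, h⟩ := hNt.exists_smul_eq a b
  exact ⟨x, hx, h⟩

include hNt hNr in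
omit [Finite G] [Finite Ω] in
lemma eq_one_of_centralizes {g : G} (hg : g • a = a) (h : ∀ x ∈ N, Commute g x) : g = 1 := by
  apply eq_of_smul_eq_smul (α := Ω)
  intro b
  obtain ⟨x, hx, rfl⟩ := exists_mem N hNt a b
  rw [one_smul]
  exact (fix_iff N hNr a hg hx).mpr (h x hx)

/-- the stabiliser of `x • a` in the stabiliser of `a` -/
def S (x : G) : Subgroup G := MulAction.stabilizer G a ⊓ MulAction.stabilizer G (x • a)

include hNr hN in
omit [Finite G] [FaithfulSMul G Ω] [Finite Ω] in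
lemma mem_S {g x : G} (hx : x ∈ N) : g ∈ S a x ↔ g • a = a ∧ Commute g x := by
  simp only [S, Subgroup.mem_inf, MulAction.mem_stabilizer_iff]
  constructor
  · rintro ⟨h1, h2⟩; exact ⟨h1, (fix_iff N hNr a h1 hx).mp h2⟩
  · rintro ⟨h1, h2⟩; exact ⟨h1, (fix_iff N hNr a h1 hx).mpr h2⟩

omit [FaithfulSMul G Ω] hN in
lemma orbit_mul_card {A : Subgroup G} (x : G) (hA : A ≤ MulAction.stabilizer G a)
    (hS : S a x ≤ A) : Nat.card (MulAction.orbit A (x • a)) * Nat.card (S a x) = Nat.card A := by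
  classical
  haveI := Fintype.ofFinite A
  haveI := Fintype.ofFinite (MulAction.orbit A (x • a))
  have h1 := MulAction.card_orbit_mul_card_stabilizer_eq_card_group A (x • a)
  have e : Nat.card (MulAction.stabilizer A (x • a)) = Nat.card (S a x) := by
    apply Nat.card_congr
    exact
      { toFun := fun g => ⟨(g.1 : G), Subgroup.mem_inf.2 ⟨hA g.1.2, g.2⟩⟩
        invFun := fun g => ⟨⟨g.1, hS g.2⟩, (Subgroup.mem_inf.1 g.2).2⟩
        left_inv := fun g => rfl
        right_inv := fun g => rfl }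
  rw [← e]
  simpa [Nat.card_eq_fintype_card] using h1

variable (hhalf : ∀ b c : Ω, b ≠ a → c ≠ a →
      Nat.card (MulAction.orbit (MulAction.stabilizer G a) b) = Nat.card (MulAction.orbit (MulAction.stabilizer G a) c))

include hNr in
omit [Finite G] [FaithfulSMul G Ω] [Finite Ω] hN in
lemma ne_a {x : G} (hx : x ∈ N) (h1 : x ≠ 1) : x • a ≠ a := fun h =>
  h1 (smul_inj N hNr a hx N.one_mem (by rw [h, one_smul]))

include hNr hhalf in
omit [FaithfulSMul G Ω] hN in
lemma card_S {x y : G} (hx : x ∈ N) (hx1 : x ≠ 1) (hy : y ∈ N) (hy1 : y ≠ 1) :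
    Nat.card (S a x) = Nat.card (S a y) := by
  have h1 := orbit_mul_card (A := MulAction.stabilizer G a) a x le_rfl inf_le_left
  have h2 := orbit_mul_card (A := MulAction.stabilizer G a) a y le_rfl inf_le_left
  rw [hhalf _ (y • a) (ne_a N hNr a hx hx1) (ne_a N hNr a hy hy1), ← h2] at h1
  haveI : Nonempty (MulAction.orbit (MulAction.stabilizer G a) (y • a)) :=
    ⟨⟨_, MulAction.mem_orbit_self _⟩⟩
  exact Nat.eq_of_mul_eq_mul_left Nat.card_pos h1

include hNr hhalf in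
omit [FaithfulSMul G Ω] hN in
lemma S_eq_of_le {x y : G} (hx : x ∈ N) (hx1 : x ≠ 1) (hy : y ∈ N) (hy1 : y ≠ 1)
    (h : S a x ≤ S a y) : S a x = S a y :=
  Subgroup.eq_of_le_of_card_ge h (card_S N hNr a hhalf hy hy1 hx hx1).le

include hNt hNr hhalf in
omit [FaithfulSMul G Ω] hN in
lemma coprime {x : G} (hx : x ∈ N) (hx1 : x ≠ 1) :
    (Nat.card (MulAction.orbit (MulAction.stabilizer G a) (x • a))).Coprime (Nat.card N) := by
  set m := Nat.card (MulAction.orbit (MulAction.stabilizer G a) (x • a))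
  let T : SubMulAction (MulAction.stabilizer G a) Ω :=
    { carrier := {a}ᶜ
      smul_mem' := fun g b hb => by
        intro h
        apply hb
        simp only [Set.mem_singleton_iff] at h ⊢
        have : g • a = a := g.2
        exact MulAction.injective g (h.trans this.symm) }
  have hT : m ∣ Nat.card T := by
    apply dvd_card_of_orbit_card (A := MulAction.stabilizer G a)
    intro b
    have e : Nat.card (MulAction.orbit (MulAction.stabilizer G a) b) =
        Nat.card (MulAction.orbit (MulAction.stabilizer G a) (b : Ω)) := by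
      rw [← SubMulAction.val_image_orbit, Nat.card_image_of_injective Subtype.val_injective]
    rw [e]
    exact hhalf _ _ b.2 (ne_a N hNr a hx hx1)
  have hNc : Nat.card N = Nat.card Ω := by
    apply Nat.card_congr
    refine Equiv.ofBijective (fun n : N => (n : G) • a) ⟨?_, ?_⟩
    · intro u v h; exact Subtype.ext (smul_inj N hNr a u.2 v.2 h)
    · intro b; obtain ⟨y, hy, h⟩ := exists_mem N hNt a b; exact ⟨⟨y, hy⟩, h⟩
  have hc : Nat.card T + 1 = Nat.card Ω := by
    have h0 := Set.ncard_add_ncard_compl ({a} : Set Ω)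
    rw [Set.ncard_singleton] at h0
    have : Nat.card T = ({a}ᶜ : Set Ω).ncard := Nat.card_coe_set_eq _
    omega
  rw [hNc, ← hc]
  obtain ⟨k, hk⟩ := hT
  rw [hk]
  simp [Nat.coprime_mul_left_add_right]

include hNt hNr hhalf hN in
omit [FaithfulSMul G Ω] in
/-- On a set which is a block for conjugation and whose size divides `|N|`, all stabilisers agree. -/
lemma block (K : Set G) (hKN : K ⊆ N) (h1 : (1 : G) ∉ K) (hcard : K.ncard ∣ Nat.card N)
    (hblock : ∀ g y : G, g • a = a → y ∈ K → g * y * g⁻¹ ∈ K → ∀ z ∈ K, g * z * g⁻¹ ∈ K)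
    {x y : G} (hx : x ∈ K) (hy : y ∈ K) : S a x = S a y := by
  have hne : ∀ u ∈ K, u ≠ 1 := fun u hu h => h1 (h ▸ hu)
  let B : Subgroup G :=
    { carrier := {g | g • a = a ∧ g * x * g⁻¹ ∈ K}
      one_mem' := ⟨one_smul _ _, by simpa using hx⟩
      mul_mem' := by
        rintro u v ⟨hu, hu'⟩ ⟨hv, hv'⟩
        refine ⟨by rw [mul_smul, hv, hu], ?_⟩
        have := hblock u x hu hx hu' _ hv'
        simpa [mul_assoc] using this
      inv_mem' := by
        rintro u ⟨hu, hu'⟩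
        refine ⟨by rw [inv_smul_eq_iff, hu], ?_⟩
        let e : K → K := fun z => ⟨u * z.1 * u⁻¹, hblock u x hu hx hu' _ z.2⟩
        have he : Function.Injective e := fun z w h => by
          have := congrArg Subtype.val h
          exact Subtype.ext (by simpa [e] using this)
        obtain ⟨z, hz⟩ := Finite.surjective_of_injective he ⟨x, hx⟩
        have hz' : u * z.1 * u⁻¹ = x := congrArg Subtype.val hz
        have : u⁻¹ * x * u⁻¹⁻¹ = z.1 := by rw [← hz']; group
        rw [this]; exact z.2 }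
  have hBA : B ≤ MulAction.stabilizer G a := fun g hg => hg.1
  have hSB : ∀ u ∈ K, S a u ≤ B := by
    intro u hu g hg
    obtain ⟨g1, g2⟩ := (mem_S N hNr a (hKN hu)).mp hg
    refine ⟨g1, hblock g u g1 hu ?_ x hx⟩
    rw [g2.eq, mul_inv_cancel_right]; exact hu
  let T : SubMulAction B Ω :=
    { carrier := (fun u : G => u • a) '' K
      smul_mem' := by
        rintro ⟨g, g1, g2⟩ _ ⟨u, hu, rfl⟩
        refine ⟨g * u * g⁻¹, hblock g x g1 hx g2 u hu, ?_⟩
        exact (smul_smul_eq a g1 u).symm }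
  have hT : Nat.card T = K.ncard := by
    have : Nat.card T = ((fun u : G => u • a) '' K).ncard := Nat.card_coe_set_eq _
    rw [this, Set.InjOn.ncard_image]
    intro u hu v hv h
    exact smul_inj N hNr a (hKN hu) (hKN hv) h
  set d := Nat.card (MulAction.orbit B (x • a)) with hd
  have hdd : ∀ u ∈ K, Nat.card (MulAction.orbit B (u • a)) = d := by
    intro u hu
    have e1 := orbit_mul_card a u hBA (hSB u hu)
    have e2 := orbit_mul_card a x hBA (hSB x hx)
    rw [card_S N hNr a hhalf (hKN hu) (hne u hu) (hKN hx) (hne x hx), ← e2] at e1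
    exact Nat.eq_of_mul_eq_mul_right Nat.card_pos e1
  have hdK : d ∣ K.ncard := by
    rw [← hT]
    apply dvd_card_of_orbit_card (A := B)
    rintro ⟨_, u, hu, rfl⟩
    rw [← hdd u hu, ← Nat.card_image_of_injective Subtype.val_injective,
      SubMulAction.val_image_orbit]
  have hdm : d ∣ Nat.card (MulAction.orbit (MulAction.stabilizer G a) (x • a)) := by
    have e1 := orbit_mul_card a x hBA (hSB x hx)
    have e2 := orbit_mul_card (A := MulAction.stabilizer G a) a x le_rfl inf_le_left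
    have e3 : Nat.card B ∣ Nat.card (MulAction.stabilizer G a) := Subgroup.card_dvd_of_le hBA
    rw [← e1, ← e2] at e3
    exact Nat.dvd_of_mul_dvd_mul_right Nat.card_pos e3
  have hd1 : d = 1 :=
    Nat.eq_one_of_dvd_coprimes (coprime N hNt hNr a hhalf (hKN hx) (hne x hx)) hdm
      (hdK.trans hcard)
  have key : ∀ u ∈ K, B = S a u := by
    intro u hu
    have e1 := orbit_mul_card a u hBA (hSB u hu)
    rw [hdd u hu, hd1, one_mul] at e1
    exact (Subgroup.eq_of_le_of_card_ge (hSB u hu) e1.ge).symm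
  rw [← key x hx, ← key y hy]

variable (hS1 : ∀ x ∈ N, x ≠ 1 → S a x ≠ ⊥)

include hNt hNr hhalf hS1 in
lemma exists_ne {x : G} (hx : x ∈ N) (hx1 : x ≠ 1) : ∃ z ∈ N, z ≠ 1 ∧ S a z ≠ S a x := by
  by_contra h
  push Not at h
  apply hS1 x hx hx1
  rw [Subgroup.eq_bot_iff_forall]
  intro g hg
  refine eq_one_of_centralizes N hNt hNr a ((mem_S N hNr a hx).mp hg).1 (fun u hu => ?_)
  rcases eq_or_ne u 1 with rfl | hu1
  · exact Commute.one_right g
  · rw [← h u hu hu1] at hg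
    exact ((mem_S N hNr a hu).mp hg).2

include hNt hNr hhalf hN in
omit [FaithfulSMul G Ω] in
lemma class_S {x y : G} (hx : x ∈ N) (hx1 : x ≠ 1) (hy : y ∈ N) : S a x = S a (y * x * y⁻¹) := by
  let K : Set G := Set.range (fun n : N => (n : G) * x * (n : G)⁻¹)
  have hK : K.ncard ∣ Nat.card N := by
    have e : K = Subtype.val '' (MulAction.orbit (ConjAct N) (⟨x, hx⟩ : N)) := by
      ext z
      constructor
      · rintro ⟨n, rfl⟩
        exact ⟨_, ⟨ConjAct.toConjAct n, rfl⟩, by simp [ConjAct.smul_def]⟩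
      · rintro ⟨_, ⟨n, rfl⟩, rfl⟩
        exact ⟨ConjAct.ofConjAct n, by simp [ConjAct.smul_def]⟩
    rw [e, Set.ncard_image_of_injective _ Subtype.val_injective, ← Nat.card_coe_set_eq]
    have h := MulAction.index_stabilizer (ConjAct N) (⟨x, hx⟩ : N)
    rw [Nat.card_coe_set_eq, ← h]
    exact (Subgroup.index_dvd_card _).trans (dvd_of_eq (Nat.card_congr ConjAct.ofConjAct.toEquiv))
  refine block N hNt hNr a hhalf K ?_ ?_ hK ?_ ⟨1, by simp⟩ ⟨⟨y, hy⟩, rfl⟩
  · rintro _ ⟨n, rfl⟩; exact hN.conj_mem x hx n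
  · rintro ⟨n, hn⟩; exact hx1 (conj_eq_one_iff.mp hn)
  · rintro g _ - ⟨u, rfl⟩ ⟨v, hv⟩ _ ⟨w, rfl⟩
    refine ⟨⟨g * w * g⁻¹ * (g * u * g⁻¹)⁻¹ * v, N.mul_mem (N.mul_mem (hN.conj_mem _ w.2 g)
      (N.inv_mem (hN.conj_mem _ u.2 g))) v.2⟩, ?_⟩
    show g * w * g⁻¹ * (g * u * g⁻¹)⁻¹ * v * x * (g * w * g⁻¹ * (g * u * g⁻¹)⁻¹ * v)⁻¹ = _
    calc _ = g * w * g⁻¹ * (g * u * g⁻¹)⁻¹ * ((v : G) * x * (v : G)⁻¹) * (g * u * g⁻¹) *
          (g * w * g⁻¹)⁻¹ := by group
      _ = _ := by rw [show (v : G) * x * (v : G)⁻¹ = g * ((u : G) * x * (u : G)⁻¹) * g⁻¹ from hv]; group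

include hNt hNr hhalf hN in
omit [FaithfulSMul G Ω] in
lemma comm_of_ne {x y : G} (hx : x ∈ N) (hx1 : x ≠ 1) (hy : y ∈ N) (hy1 : y ≠ 1)
    (h : S a x ≠ S a y) : Commute x y := by
  by_contra hc
  set c := x * y * x⁻¹ * y⁻¹ with hcdef
  have hcN : c ∈ N := N.mul_mem (N.mul_mem (N.mul_mem hx hy) (N.inv_mem hx)) (N.inv_mem hy)
  have hc1 : c ≠ 1 := by
    intro h0
    apply hc
    show x * y = y * x
    calc x * y = c * (y * x) := by rw [hcdef]; group
      _ = y * x := by rw [h0, one_mul]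
  have l1 : S a x ≤ S a c := by
    intro g hg
    have hg' := hg
    rw [class_S N hNt hNr a hhalf hx hx1 hy] at hg'
    obtain ⟨g1, g2⟩ := (mem_S N hNr a hx).mp hg
    obtain ⟨-, g3⟩ := (mem_S N hNr a (hN.conj_mem x hx y)).mp hg'
    refine (mem_S N hNr a hcN).mpr ⟨g1, ?_⟩
    have : c = x * (y * x * y⁻¹)⁻¹ := by rw [hcdef]; group
    rw [this]; exact g2.mul_right g3.inv_right
  have l2 : S a y ≤ S a c := by
    intro g hg
    have hg' := hg
    rw [class_S N hNt hNr a hhalf hy hy1 hx] at hg'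
    obtain ⟨g1, g2⟩ := (mem_S N hNr a hy).mp hg
    obtain ⟨-, g3⟩ := (mem_S N hNr a (hN.conj_mem y hy x)).mp hg'
    refine (mem_S N hNr a hcN).mpr ⟨g1, ?_⟩
    rw [hcdef]; exact g3.mul_right g2.inv_right
  exact h ((S_eq_of_le N hNr a hhalf hx hx1 hcN hc1 l1).trans
    (S_eq_of_le N hNr a hhalf hy hy1 hcN hc1 l2).symm)

include hNr hhalf hN in
omit [FaithfulSMul G Ω] in
lemma S_mul_ne {x y : G} (hx : x ∈ N) (hx1 : x ≠ 1) (hy : y ∈ N) (hy1 : y ≠ 1)
    (h : S a x ≠ S a y) : x * y ≠ 1 ∧ S a (x * y) ≠ S a x ∧ S a (x * y) ≠ S a y := by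
  have h0 : x * y ≠ 1 := by
    intro e
    apply h
    have : y = x⁻¹ := eq_inv_of_mul_eq_one_right e
    ext g
    rw [mem_S N hNr a hx, mem_S N hNr a hy, this, Commute.inv_right_iff]
  refine ⟨h0, fun e => h ?_, fun e => h ?_⟩
  · apply S_eq_of_le N hNr a hhalf hx hx1 hy hy1
    intro g hg
    obtain ⟨g1, g2⟩ := (mem_S N hNr a hx).mp hg
    rw [← e] at hg
    obtain ⟨-, g3⟩ := (mem_S N hNr a (N.mul_mem hx hy)).mp hg
    refine (mem_S N hNr a hy).mpr ⟨g1, ?_⟩
    have := g2.inv_right.mul_right g3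
    rwa [inv_mul_cancel_left] at this
  · symm
    apply S_eq_of_le N hNr a hhalf hy hy1 hx hx1
    intro g hg
    obtain ⟨g1, g2⟩ := (mem_S N hNr a hy).mp hg
    rw [← e] at hg
    obtain ⟨-, g3⟩ := (mem_S N hNr a (N.mul_mem hx hy)).mp hg
    refine (mem_S N hNr a hx).mpr ⟨g1, ?_⟩
    have := g3.mul_right g2.inv_right
    rwa [mul_inv_cancel_right] at this

include hNr hhalf hN in
omit [FaithfulSMul G Ω] in
lemma S_pow {x : G} (hx : x ∈ N) (hx1 : x ≠ 1) {k : ℕ} (hk : x ^ k ≠ 1) :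
    S a (x ^ k) = S a x := by
  symm
  apply S_eq_of_le N hNr a hhalf hx hx1 (N.pow_mem hx k) hk
  intro g hg
  obtain ⟨g1, g2⟩ := (mem_S N hNr a hx).mp hg
  exact (mem_S N hNr a (N.pow_mem hx k)).mpr ⟨g1, g2.pow_right k⟩

include hNt hNr hhalf hN in
omit [FaithfulSMul G Ω] in
lemma pow_eq_one {x y : G} (hx : x ∈ N) (hx1 : x ≠ 1) (hy : y ∈ N) (hy1 : y ≠ 1)
    (h : S a x ≠ S a y) {k : ℕ} (hk : x ^ k = 1) : y ^ k = 1 := by
  by_contra hyk
  obtain ⟨h0, -, h2⟩ := S_mul_ne N hNr a hhalf hx hx1 hy hy1 h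
  have e : (x * y) ^ k = y ^ k := by
    rw [(comm_of_ne N hNt hNr a hhalf hx hx1 hy hy1 h).mul_pow, hk, one_mul]
  have e1 := S_pow N hNr a hhalf (N.mul_mem hx hy) h0 (k := k) (by rwa [e])
  rw [e, S_pow N hNr a hhalf hy hy1 hyk] at e1
  exact h2 e1.symm

include hNt hNr hhalf hN in
omit [FaithfulSMul G Ω] in
lemma order_eq {x y : G} (hx : x ∈ N) (hx1 : x ≠ 1) (hy : y ∈ N) (hy1 : y ≠ 1)
    (h : S a x ≠ S a y) : orderOf x = orderOf y :=
  Nat.dvd_antisymm
    (orderOf_dvd_of_pow_eq_one (pow_eq_one N hNt hNr a hhalf hy hy1 hx hx1 h.symm (pow_orderOf_eq_one y)))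
    (orderOf_dvd_of_pow_eq_one (pow_eq_one N hNt hNr a hhalf hx hx1 hy hy1 h (pow_orderOf_eq_one x)))

include hNt hNr hhalf hS1 hN in
lemma elem_abelian (x0 : G) (hx0 : x0 ∈ N) (hx01 : x0 ≠ 1) :
    (∀ x ∈ N, ∀ y ∈ N, Commute x y) ∧ ∃ p : ℕ, p.Prime ∧ ∀ x ∈ N, x ^ p = 1 := by
  constructor
  · intro x hx y hy
    rcases eq_or_ne x 1 with rfl | hx1
    · exact Commute.one_left y
    rcases eq_or_ne y 1 with rfl | hy1
    · exact Commute.one_right x
    by_cases h : S a x = S a y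
    · obtain ⟨z, hz, hz1, hzx⟩ := exists_ne N hNt hNr a hhalf hS1 hx hx1
      obtain ⟨h0, h1, -⟩ := S_mul_ne N hNr a hhalf hx hx1 hz hz1 hzx.symm
      have c1 := comm_of_ne N hNt hNr a hhalf (N.mul_mem hx hz) h0 hy hy1 (h ▸ h1)
      have c2 := comm_of_ne N hNt hNr a hhalf hz hz1 hy hy1 (h ▸ hzx)
      have := c1.mul_left c2.inv_left
      rwa [mul_inv_cancel_right] at this
    · exact comm_of_ne N hNt hNr a hhalf hx hx1 hy hy1 h
  · obtain ⟨z, hz, hz1, hzx⟩ := exists_ne N hNt hNr a hhalf hS1 hx0 hx01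
    have ho : orderOf x0 ≠ 1 := fun h => hx01 (orderOf_eq_one_iff.mp h)
    obtain ⟨p, hp, hpd⟩ := Nat.exists_prime_and_dvd ho
    have hxp : x0 ^ p = 1 := by
      by_contra h
      have e := S_pow N hNr a hhalf hx0 hx01 h
      have o1 := order_eq N hNt hNr a hhalf (N.pow_mem hx0 p) h hz hz1 (e ▸ hzx.symm)
      have o2 := order_eq N hNt hNr a hhalf hx0 hx01 hz hz1 hzx.symm
      have o3 : orderOf (x0 ^ p) = orderOf x0 / p := orderOf_pow_of_dvd hp.ne_zero hpd
      rw [o1, ← o2] at o3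
      have := Nat.div_lt_self (orderOf_pos x0) hp.one_lt
      omega
    refine ⟨p, hp, fun y hy => ?_⟩
    rcases eq_or_ne y 1 with rfl | hy1
    · exact one_pow p
    by_cases h : S a x0 = S a y
    · exact pow_eq_one N hNt hNr a hhalf hz hz1 hy hy1 (h ▸ hzx)
        (pow_eq_one N hNt hNr a hhalf hx0 hx01 hz hz1 hzx.symm hxp)
    · exact pow_eq_one N hNt hNr a hhalf hx0 hx01 hy hy1 h hxp

include hNt hNr hhalf hS1 hN in
lemma le_of_normal (M : Subgroup G) (hM : M.Normal) (hM1 : M ≠ ⊥)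
    (habel : ∀ x ∈ N, ∀ y ∈ N, Commute x y) : N ≤ M := by
  have hC : M ⊓ N ≠ ⊥ := by
    intro hbot
    apply hM1
    rw [Subgroup.eq_bot_iff_forall]
    intro g hg
    obtain ⟨n, hn, he⟩ := exists_mem N hNt a (g • a)
    have hfix : (n⁻¹ * g) • a = a := by rw [mul_smul, ← he, inv_smul_smul]
    have h1 : n⁻¹ * g = 1 := eq_one_of_centralizes N hNt hNr a hfix (fun u hu =>
      ((habel n hn u hu).inv_left).mul_left
        (Subgroup.commute_of_normal_of_disjoint M N hM hN (disjoint_iff.mpr hbot) g u hg hu))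
    have : g = n := (inv_mul_eq_one.mp h1).symm
    have hmem : g ∈ M ⊓ N := ⟨hg, this ▸ hn⟩
    rwa [hbot, Subgroup.mem_bot] at hmem
  by_contra hle
  obtain ⟨x, hxN, hxM⟩ := SetLike.not_le_iff_exists.mp hle
  have out : ∀ u ∈ N, u ∉ M → ∀ c ∈ M ⊓ N, c ≠ 1 → S a u = S a c := by
    intro u hu huM c hc hc1
    haveI := hM
    haveI : (M ⊓ N).Normal := Subgroup.normal_inf_normal M N
    let K : Set G := (fun e => u * e) '' ((M ⊓ N : Subgroup G) : Set G)
    have hK : K.ncard ∣ Nat.card N := by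
      rw [Set.ncard_image_of_injective _ (mul_right_injective u), ← Nat.card_coe_set_eq]
      exact Subgroup.card_dvd_of_le inf_le_right
    have hb := block N hNt hNr a hhalf K ?_ ?_ hK ?_ (x := u) (y := u * c)
      ⟨1, Subgroup.one_mem _, mul_one u⟩ ⟨c, hc, rfl⟩
    · apply S_eq_of_le N hNr a hhalf hu (fun h => huM (h ▸ M.one_mem)) hc.2 hc1
      intro g hg
      obtain ⟨g1, g2⟩ := (mem_S N hNr a hu).mp hg
      rw [hb] at hg
      obtain ⟨-, g3⟩ := (mem_S N hNr a (N.mul_mem hu hc.2)).mp hg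
      refine (mem_S N hNr a hc.2).mpr ⟨g1, ?_⟩
      have := g2.inv_right.mul_right g3
      rwa [inv_mul_cancel_left] at this
    · rintro _ ⟨e, he, rfl⟩; exact N.mul_mem hu he.2
    · rintro ⟨e, he, h⟩
      apply huM
      have : u = e⁻¹ := eq_inv_of_mul_eq_one_left h
      rw [this]; exact M.inv_mem he.1
    · rintro g _ - ⟨e, he, rfl⟩ ⟨e', he', h'⟩ _ ⟨e'', he'', rfl⟩
      refine ⟨e' * (g * (e⁻¹ * e'') * g⁻¹), Subgroup.mul_mem _ he'
        (Subgroup.Normal.conj_mem inferInstance _ (Subgroup.mul_mem _ (Subgroup.inv_mem _ he) he'') g), ?_⟩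
      show u * (e' * (g * (e⁻¹ * e'') * g⁻¹)) = g * (u * e'') * g⁻¹
      rw [← mul_assoc, show u * e' = g * (u * e) * g⁻¹ from h']
      group
  obtain ⟨c0, hc0, hc01⟩ := (Subgroup.bot_or_exists_ne_one (M ⊓ N)).resolve_left hC
  obtain ⟨z, hz, hz1, hzc⟩ := exists_ne N hNt hNr a hhalf hS1 hc0.2 hc01
  by_cases hzM : z ∈ M
  · exact hzc ((out x hxN hxM z ⟨hzM, hz⟩ hz1).symm.trans (out x hxN hxM c0 hc0 hc01))
  · exact hzc (out z hz hzM c0 hc0 hc01)

end

end Cfsg.Agent.S3356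

namespace Cfsg.Agent.S3356

/-- Let G be a finite 3/2-transitive permutation group: G acts faithfully and transitively on a finite set, the point stabilizers are non-trivial, and for each point a all orbits of G_a on the remaining points have the same size. Suppose G has a regular normal subgroup N and G is not a Frobenius group (some two-point stabilizer is non-trivial). Then N is an elementary abelian p-group for some prime p, and every non-trivial normal subgroup of G contains N (so N is the unique minimal normal subgroup). -/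
theorem result {G Ω : Type*} [Group G] [Finite G]
    [MulAction G Ω] [FaithfulSMul G Ω] [Finite Ω] (htrans : MulAction.IsPretransitive G Ω)
    (hne : ∀ a : Ω, MulAction.stabilizer G a ≠ ⊥)
    (hhalf : ∀ a b c : Ω, b ≠ a → c ≠ a →
      Nat.card (MulAction.orbit (MulAction.stabilizer G a) b) = Nat.card (MulAction.orbit (MulAction.stabilizer G a) c))
    (N : Subgroup G) [hN : N.Normal] (hNt : MulAction.IsPretransitive N Ω) (hNr : ∀ a : Ω, MulAction.stabilizer N a = ⊥)
    (hnotF : ∃ a b : Ω, a ≠ b ∧ MulAction.stabilizer G a ⊓ MulAction.stabilizer G b ≠ ⊥) :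
    (∃ p : ℕ, p.Prime ∧ IsMulCommutative N ∧ ∀ x ∈ N, x ^ p = 1) ∧
    (∀ M : Subgroup G, M.Normal → M ≠ ⊥ → N ≤ M) := by
  obtain ⟨a, b, hab, hne2⟩ := hnotF
  obtain ⟨x0, hx0, hb⟩ := exists_mem N hNt a b
  have hx01 : x0 ≠ 1 := by rintro rfl; exact hab (by rw [← hb, one_smul])
  have hhalf' := hhalf a
  have hS1 : ∀ x ∈ N, x ≠ 1 → S a x ≠ ⊥ := by
    intro x hx hx1 h
    apply hne2
    apply Subgroup.eq_bot_of_card_eq
    have h0 : Nat.card (S a x0) = Nat.card (S a x) := card_S N hNr a hhalf' hx0 hx01 hx hx1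
    rw [h, Subgroup.card_bot, S, hb] at h0
    exact h0
  obtain ⟨habel, p, hp, hexp⟩ := elem_abelian N hNt hNr a hhalf' hS1 x0 hx0 hx01
  exact ⟨⟨p, hp, ⟨⟨fun u v => Subtype.ext (habel u u.2 v v.2)⟩⟩, hexp⟩,
    fun M hM hM1 => le_of_normal N hNt hNr a hhalf' hS1 M hM hM1 habel⟩

end Cfsg.Agent.S3356
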