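import Cfsg.Statements.S3357
import Cfsg.Agent.Frobenius.CharZero

set_option autoImplicit false
open Cfsg

namespace Cfsg.Agent.S3357

/-- An endomorphism representation from additive maps. -/
def addRep {G M : Type*} [Group G] [AddCommGroup M] (q : ℕ) [Module (ZMod q) M] (F : G → (M →+ M))
    (h1 : ∀ v, F 1 v = v) (h2 : ∀ a b v, F (a * b) v = F a (F b v)) : G →* Module.End (ZMod q) M where
  toFun g :=
    { toFun := F g
      map_add' := map_add (F g)
      map_smul' := fun c v => ZMod.map_smul (F g) c v }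
  map_one' := LinearMap.ext fun v => h1 v
  map_mul' a b := LinearMap.ext fun v => h2 a b v

theorem of_fpf {G : Type*} [Group G] [Finite G] {W : Type*} [CommGroup W] [Nontrivial W] (q : ℕ)
    [Fact q.Prime] (hq : ¬ q ∣ Nat.card G) (hWq : ∀ w : W, w ^ q = 1) (φ : G →* MulAut W)
    (hφ : ∀ g, g ≠ 1 → ∀ w, φ g w = w → w = 1) :
    ∃ (n : ℕ) (ρ : G →* GL (Fin n) (AlgebraicClosure ℚ)), 0 < n ∧ Function.Injective ρ ∧
      (∀ S : Submodule (AlgebraicClosure ℚ) (Fin n → AlgebraicClosure ℚ),
        (∀ g : G, ∀ w ∈ S, ((ρ g : GL (Fin n) (AlgebraicClosure ℚ)) : Matrix (Fin n) (Fin n) (AlgebraicClosure ℚ)).mulVec w ∈ S) → S = ⊥ ∨ S = ⊤) ∧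
      ∀ g : G, g ≠ 1 → ∀ v : Fin n → AlgebraicClosure ℚ,
        ((ρ g : GL (Fin n) (AlgebraicClosure ℚ)) : Matrix (Fin n) (Fin n) (AlgebraicClosure ℚ)).mulVec v = v → v = 0 :=
  letI : Module (ZMod q) (Additive W) := AddCommGroup.zmodModule fun w => hWq (Additive.toMul w)
  CfsgLib.Frobenius.CharZero.exists_irreducible q hq
    (addRep q (fun g => ((φ g).toMonoidHom.toAdditive : Additive W →+ Additive W))
      (fun v => by simp) (fun a b v => by simp))
    (fun g hg _ hv => Additive.toMul.injective (hφ g hg _ (congrArg Additive.toMul hv))) _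


/-- Let G be a finite group that occurs as a Frobenius complement. Then G has a faithful irreducible representation over an algebraic closure of the rationals in which no non-identity element of G has 1 as an eigenvalue: there are n ≥ 1 and an injective homomorphism ρ from G to GL(n) over that field, with no invariant subspace other than 0 and the whole space, such that for g ≠ 1 the only vector fixed by ρ(g) is 0. -/
theorem result {G : Type*} [Group G] [Finite G]
    (hFC : ∃ (L : Type) (_ : Group L) (_ : Finite L) (H : Subgroup L), Cfsg.IsFrobeniusComplement H ∧ Nonempty (G ≃* H)) :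
    ∃ (n : ℕ) (ρ : G →* GL (Fin n) (AlgebraicClosure ℚ)), 0 < n ∧ Function.Injective ρ ∧
      (∀ W : Submodule (AlgebraicClosure ℚ) (Fin n → AlgebraicClosure ℚ),
        (∀ g : G, ∀ w ∈ W, ((ρ g : GL (Fin n) (AlgebraicClosure ℚ)) : Matrix (Fin n) (Fin n) (AlgebraicClosure ℚ)).mulVec w ∈ W) → W = ⊥ ∨ W = ⊤) ∧
      ∀ g : G, g ≠ 1 → ∀ v : Fin n → AlgebraicClosure ℚ,
        ((ρ g : GL (Fin n) (AlgebraicClosure ℚ)) : Matrix (Fin n) (Fin n) (AlgebraicClosure ℚ)).mulVec v = v → v = 0 := by
  obtain ⟨L, _, _, H, hH, ⟨e⟩⟩ := hFC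
  obtain ⟨q, hq, W, φ, hqH, hW0, hWc, hWq, hφ⟩ := CfsgLib.Frobenius.CharZero.exists_modular hH
  haveI := hq
  haveI : Nontrivial W := (Subgroup.nontrivial_iff_ne_bot W).2 hW0
  letI : CommGroup W := { (inferInstance : Group W) with mul_comm := hWc.is_comm.comm }
  exact of_fpf q (by rwa [Nat.card_congr e.toEquiv]) hWq (φ.comp e.toMonoidHom)
    (fun g hg v hv => hφ (e g) (fun h => hg (e.injective (h.trans (map_one e).symm))) v hv)

end Cfsg.Agent.S3357
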