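import Cfsg.Statements.S3358
import Cfsg.Agent.Zassenhaus.ComplementType
import Cfsg.Agent.Zassenhaus.ZPresentation
import Cfsg.Agent.Frobenius.CharZero
-- import your own Cfsg.Agent.* helpers here

set_option autoImplicit false
open Cfsg

namespace Cfsg.Agent.S3358

/-- Structure of solvable Frobenius complements. Let G be a finite solvable group that occurs as a Frobenius complement. Then G has a normal subgroup G₀ such that G/G₀ is isomorphic to a subgroup of Sym(4) (G₀ is the kernel of a homomorphism to Sym(4)), all Sylow subgroups of G₀ are cyclic, and G₀ has a presentation ⟨x, y | x^n = 1, y^m = 1, x⁻¹ y x = y^r⟩ with n, m ≥ 1, gcd(r − 1, m) = gcd(n, m) = 1 and r^(n/n′) ≡ 1 (mod m), where n′ is the product of the distinct primes dividing n. -/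
theorem result {G : Type*} [Group G] [Finite G] (hsol : Group.IsSolvable G)
    (hFC : ∃ (L : Type) (_ : Group L) (_ : Finite L) (H : Subgroup L), Cfsg.IsFrobeniusComplement H ∧ Nonempty (G ≃* H)) :
    ∃ G₀ : Subgroup G, G₀.Normal ∧
      (∃ f : G →* Equiv.Perm (Fin 4), f.ker = G₀) ∧
      (∀ (p : ℕ) [Fact p.Prime] (P : Sylow p G₀), IsCyclic P) ∧
      ∃ n m r : ℕ, 0 < n ∧ 0 < m ∧ Nat.Coprime (r - 1) m ∧ Nat.Coprime n m ∧ 1 ≤ r ∧
        r ^ (n / ∏ p ∈ n.primeFactors, p) % m = 1 % m ∧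
        Nonempty (G₀ ≃* PresentedGroup
          ({FreeGroup.of (0 : Fin 2) ^ n, FreeGroup.of (1 : Fin 2) ^ m,
            (FreeGroup.of (0 : Fin 2))⁻¹ * FreeGroup.of 1 * FreeGroup.of 0 * (FreeGroup.of (1 : Fin 2) ^ r)⁻¹} :
            Set (FreeGroup (Fin 2)))) := by
  classical
  obtain ⟨L, iL, hL, H, hH, ⟨e⟩⟩ := hFC
  letI := iL
  haveI := hL
  haveI := hsol
  obtain ⟨q, hq, W, φ, hqH, hW, hWc, hWq, hφ⟩ := CfsgLib.Frobenius.CharZero.exists_modular hH
  haveI : Nontrivial W := (Subgroup.nontrivial_iff_ne_bot W).2 hW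
  have hfpf := hφ.comp e.toMonoidHom e.injective
  obtain ⟨N₀, h1, h2, h3, -⟩ := (CfsgLib.ComplType.isLike_of_fpf hfpf).solvable_unique
  haveI := h2
  refine ⟨N₀, h1, ?_, fun p hp P => IsZGroup.isZGroup p hp.out P, CfsgLib.ZPresentation.exists_presentation hfpf N₀⟩
  rcases h3 with rfl | ⟨f, -, rfl⟩ | ⟨f, -, rfl⟩ | ⟨f, -, rfl⟩
  · exact ⟨1, MonoidHom.ker_one⟩
  · let e4 : DihedralGroup 2 ≃ Fin 4 := Fintype.equivFinOfCardEq DihedralGroup.card
    refine ⟨((e4.permCongrHom).toMonoidHom.comp (MulAction.toPermHom (DihedralGroup 2) (DihedralGroup 2))).comp f,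
      MonoidHom.ker_comp_of_injective _ _ (e4.permCongrHom.injective.comp MulAction.toPerm_injective)⟩
  · exact ⟨(alternatingGroup (Fin 4)).subtype.comp f, MonoidHom.ker_comp_of_injective _ _ (Subgroup.subtype_injective _)⟩
  · exact ⟨f, rfl⟩

end Cfsg.Agent.S3358
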