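import Cfsg.Statements.S3362
import Cfsg.Agent.WittExt.Mathieu

set_option autoImplicit false
open Cfsg

namespace Cfsg.Agent.S3362

/-- An explicit construction of the Mathieu groups of degrees 11 and 12. On the points 0, …, 11 let s = (3 4 5)(6 7 8)(9 10 11), t = (3 6 9)(4 7 10)(5 8 11), u = (4 6 5 9)(7 8 11 10), v = (4 7 5 11)(6 10 9 8), w = (4 10 5 8)(6 11 9 7), x₁ = (0 3)(6 7)(8 10)(9 11), x₂ = (0 1)(6 9)(7 10)(8 11), x₃ = (1 2)(6 11)(7 9)(8 10) (each written as a product of transpositions). Then the group M₁₂ generated by all eight permutations is sharply 5-transitive on the 12 points and has order 95040, and the group M₁₁ generated by the first seven has order 7920 and is the stabilizer of the point 2 in M₁₂. -/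
theorem result
    (s t u v w x₁ x₂ x₃ : Equiv.Perm (Fin 12))
    (hs : s = Equiv.swap (3 : Fin 12) 5 * Equiv.swap (3 : Fin 12) 4 * Equiv.swap (6 : Fin 12) 8 * Equiv.swap (6 : Fin 12) 7 * Equiv.swap (9 : Fin 12) 11 * Equiv.swap (9 : Fin 12) 10) (ht : t = Equiv.swap (3 : Fin 12) 9 * Equiv.swap (3 : Fin 12) 6 * Equiv.swap (4 : Fin 12) 10 * Equiv.swap (4 : Fin 12) 7 * Equiv.swap (5 : Fin 12) 11 * Equiv.swap (5 : Fin 12) 8)
    (hu : u = Equiv.swap (4 : Fin 12) 9 * Equiv.swap (4 : Fin 12) 5 * Equiv.swap (4 : Fin 12) 6 * Equiv.swap (7 : Fin 12) 10 * Equiv.swap (7 : Fin 12) 11 * Equiv.swap (7 : Fin 12) 8) (hv : v = Equiv.swap (4 : Fin 12) 11 * Equiv.swap (4 : Fin 12) 5 * Equiv.swap (4 : Fin 12) 7 * Equiv.swap (6 : Fin 12) 8 * Equiv.swap (6 : Fin 12) 9 * Equiv.swap (6 : Fin 12) 10) (hw : w = Equiv.swap (4 : Fin 12) 8 * Equiv.swap (4 : Fin 12) 5 * Equiv.swap (4 : Fin 12) 10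 * Equiv.swap (6 : Fin 12) 7 * Equiv.swap (6 : Fin 12) 9 * Equiv.swap (6 : Fin 12) 11)
    (hx₁ : x₁ = Equiv.swap (0 : Fin 12) 3 * Equiv.swap (6 : Fin 12) 7 * Equiv.swap (8 : Fin 12) 10 * Equiv.swap (9 : Fin 12) 11) (hx₂ : x₂ = Equiv.swap (0 : Fin 12) 1 * Equiv.swap (6 : Fin 12) 9 * Equiv.swap (7 : Fin 12) 10 * Equiv.swap (8 : Fin 12) 11)
    (hx₃ : x₃ = Equiv.swap (1 : Fin 12) 2 * Equiv.swap (6 : Fin 12) 11 * Equiv.swap (7 : Fin 12) 9 * Equiv.swap (8 : Fin 12) 10)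
    (M₁₂ M₁₁ : Subgroup (Equiv.Perm (Fin 12))) (hM₁₂ : M₁₂ = Subgroup.closure {s, t, u, v, w, x₁, x₂, x₃})
    (hM₁₁ : M₁₁ = Subgroup.closure {s, t, u, v, w, x₁, x₂}) :
    MulAction.IsMultiplyPretransitive M₁₂ (Fin 12) 5 ∧ (∀ y : Fin 5 ↪ Fin 12, MulAction.stabilizer M₁₂ y = ⊥) ∧
    Nat.card M₁₂ = 95040 ∧ Nat.card M₁₁ = 7920 ∧
    M₁₁ = M₁₂ ⊓ MulAction.stabilizer (Equiv.Perm (Fin 12)) (2 : Fin 12) := by
  classical
  subst hs ht hu hv hw hx₁ hx₂ hx₃ hM₁₂ hM₁₁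
  have e4 : Subgroup.closure ({CfsgLib.WittExt.Mathieu.gs, CfsgLib.WittExt.Mathieu.gt, CfsgLib.WittExt.Mathieu.gu,
      CfsgLib.WittExt.Mathieu.gv, CfsgLib.WittExt.Mathieu.gw, CfsgLib.WittExt.Mathieu.ga, CfsgLib.WittExt.Mathieu.gb,
      CfsgLib.WittExt.Mathieu.gc} : Set (Equiv.Perm (Fin 12))) = Subgroup.closure CfsgLib.WittExt.Mathieu.S₄ := by
    congr 1
    ext g
    simp only [CfsgLib.WittExt.Mathieu.S₄, CfsgLib.WittExt.Mathieu.S₃, CfsgLib.WittExt.Mathieu.S₂,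
      CfsgLib.WittExt.Mathieu.S₁, Set.mem_insert_iff, Set.mem_singleton_iff]
    generalize (g = CfsgLib.WittExt.Mathieu.gs) = P1, (g = CfsgLib.WittExt.Mathieu.gt) = P2, (g = CfsgLib.WittExt.Mathieu.gu) = P3, (g = CfsgLib.WittExt.Mathieu.gv) = P4, (g = CfsgLib.WittExt.Mathieu.gw) = P5, (g = CfsgLib.WittExt.Mathieu.ga) = P6, (g = CfsgLib.WittExt.Mathieu.gb) = P7, (g = CfsgLib.WittExt.Mathieu.gc) = P8
    tauto
  have e3 : Subgroup.closure ({CfsgLib.WittExt.Mathieu.gs, CfsgLib.WittExt.Mathieu.gt, CfsgLib.WittExt.Mathieu.gu,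
      CfsgLib.WittExt.Mathieu.gv, CfsgLib.WittExt.Mathieu.gw, CfsgLib.WittExt.Mathieu.ga,
      CfsgLib.WittExt.Mathieu.gb} : Set (Equiv.Perm (Fin 12))) = Subgroup.closure CfsgLib.WittExt.Mathieu.S₃ := by
    congr 1
    ext g
    simp only [CfsgLib.WittExt.Mathieu.S₃, CfsgLib.WittExt.Mathieu.S₂, CfsgLib.WittExt.Mathieu.S₁,
      Set.mem_insert_iff, Set.mem_singleton_iff]
    generalize (g = CfsgLib.WittExt.Mathieu.gs) = P1, (g = CfsgLib.WittExt.Mathieu.gt) = P2, (g = CfsgLib.WittExt.Mathieu.gu) = P3, (g = CfsgLib.WittExt.Mathieu.gv) = P4, (g = CfsgLib.WittExt.Mathieu.gw) = P5, (g = CfsgLib.WittExt.Mathieu.ga) = P6, (g = CfsgLib.WittExt.Mathieu.gb) = P7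
    tauto
  unfold CfsgLib.WittExt.Mathieu.gs CfsgLib.WittExt.Mathieu.gt CfsgLib.WittExt.Mathieu.gu CfsgLib.WittExt.Mathieu.gv CfsgLib.WittExt.Mathieu.gw CfsgLib.WittExt.Mathieu.ga CfsgLib.WittExt.Mathieu.gb at e3
  unfold CfsgLib.WittExt.Mathieu.gs CfsgLib.WittExt.Mathieu.gt CfsgLib.WittExt.Mathieu.gu CfsgLib.WittExt.Mathieu.gv CfsgLib.WittExt.Mathieu.gw CfsgLib.WittExt.Mathieu.ga CfsgLib.WittExt.Mathieu.gb CfsgLib.WittExt.Mathieu.gc at e4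
  rw [e4, e3]
  have hb : ∀ y : Fin 5 ↪ Fin 12, ∃ g : Subgroup.closure CfsgLib.WittExt.Mathieu.S₄,
      g • (⟨![2, 1, 0, 3, 4], by decide⟩ : Fin 5 ↪ Fin 12) = y := by
    intro y
    obtain ⟨g, hg, h0, h1, h2, h3, h4⟩ := CfsgLib.WittExt.Mathieu.reach_base y y.injective
    refine ⟨⟨g, hg⟩, DFunLike.ext _ _ fun i => ?_⟩
    fin_cases i
    exacts [h0, h1, h2, h3, h4]
  refine ⟨⟨fun y z => ?_⟩, fun y => ?_, CfsgLib.WittExt.Mathieu.card₃.2, CfsgLib.WittExt.Mathieu.card₃.1, ?_⟩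
  · obtain ⟨a, rfl⟩ := hb y
    obtain ⟨b, rfl⟩ := hb z
    exact ⟨b * a⁻¹, DFunLike.ext _ _ fun i => by simp [Subgroup.smul_def]⟩
  · obtain ⟨a, rfl⟩ := hb y
    refine (Subgroup.eq_bot_iff_forall _).2 fun g hg => ?_
    rw [MulAction.mem_stabilizer_iff] at hg
    have h : (a⁻¹ * g * a) • (⟨![2, 1, 0, 3, 4], by decide⟩ : Fin 5 ↪ Fin 12) = ⟨![2, 1, 0, 3, 4], by decide⟩ := by
      refine DFunLike.ext _ _ fun i => ?_
      have hi := DFunLike.congr_fun hg i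
      simp only [Function.Embedding.smul_apply, Subgroup.smul_def, Equiv.Perm.smul_def] at hi ⊢
      simp only [Subgroup.coe_mul, Subgroup.coe_inv, Equiv.Perm.mul_apply]
      rw [hi]
      exact Equiv.symm_apply_apply _ _
    have hc := fun i => DFunLike.congr_fun h i
    have h1 : ((a⁻¹ * g * a : Subgroup.closure CfsgLib.WittExt.Mathieu.S₄) : Equiv.Perm (Fin 12)) = 1 :=
      CfsgLib.WittExt.Mathieu.base_free (a⁻¹ * g * a).2 (hc 0) (hc 1) (hc 2) (hc 3) (hc 4)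
    have h2 : a⁻¹ * g * a = 1 := Subtype.ext h1
    calc g = a * (a⁻¹ * g * a) * a⁻¹ := by group
      _ = 1 := by rw [h2]; group
  · refine le_antisymm (le_inf CfsgLib.WittExt.Mathieu.stage₄.le fun g hg => ?_) fun g hg => ?_
    · exact CfsgLib.WittExt.Mathieu.stage₄.fix g hg
    · exact CfsgLib.WittExt.Mathieu.stage₄.stab g hg.1 hg.2

end Cfsg.Agent.S3362
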