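import Cfsg.Statements.S3365
import Cfsg.Agent.Fixity4.Four
import Cfsg.Agent.Fixity4.Odd

set_option autoImplicit false
set_option linter.style.haveILetI false
open Cfsg

namespace Cfsg.Agent.S3365

open MulAction CfsgLib.Fixity4
open scoped Pointwise

/-- Finite simple groups acting with fixity 4. Let G be a finite non-abelian simple group acting faithfully and transitively on a finite set so that every non-identity element fixes at most 4 points and some non-identity element fixes exactly 4 (fixity 4). Let P be a Sylow 3-subgroup, S a Sylow 2-subgroup, f the largest number of fixed points of an involution of G, and a a point. Then one of the following holds: (1) f ≥ 1 and G has a strongly embedded subgroup; (2) 1 ≤ f ≤ 3 and S is dihedral or semidihedral; (3) f = 4 and G has sectional 2-rank at most 4; (4) the point stabilizer G_a has odd order divisible by 3 and either G has a strongly 3-embedded subgroup (a proper subgroup H of order divisible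 by 3 such that H ∩ gHg⁻¹ has order prime to 3 for every element g outside H), or |P| = 3 and a Sylow 2-subgroup of N_G(P) has order at most 4, or P is elementary abelian of order 9, or P is extraspecial of order 27 and exponent 3, or P is isomorphic to a Sylow 3-subgroup of Sym(9) (the wreath product C₃ ≀ C₃); (5) G_a has order prime to 6. -/
theorem result {G Ω : Type*} [Group G] [Finite G] [IsSimpleGroup G] (hna : ¬ IsMulCommutative G)
    [MulAction G Ω] [FaithfulSMul G Ω] [Finite Ω] (htrans : MulAction.IsPretransitive G Ω)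
    (hfix : ∀ g : G, g ≠ 1 → Nat.card (MulAction.fixedBy Ω g) ≤ 4)
    (hfix4 : ∃ g : G, g ≠ 1 ∧ Nat.card (MulAction.fixedBy Ω g) = 4)
    (P : Sylow 3 G) (S : Sylow 2 G) (f : ℕ)
    (hf : ∀ g : G, orderOf g = 2 → Nat.card (MulAction.fixedBy Ω g) ≤ f)
    (hf' : ∃ g : G, orderOf g = 2 ∧ Nat.card (MulAction.fixedBy Ω g) = f) (a : Ω) :
    (1 ≤ f ∧ ∃ H : Subgroup G, Cfsg.IsStronglyEmbedded H) ∨
    (1 ≤ f ∧ f ≤ 3 ∧ ((∃ n : ℕ, Nonempty ((S : Subgroup G) ≃* DihedralGroup n)) ∨ Cfsg.IsQuasiDihedral (S : Subgroup G))) ∨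
    (f = 4 ∧ Cfsg.SectionalPRankLE 2 4 G) ∨
    (Odd (Nat.card (MulAction.stabilizer G a)) ∧ 3 ∣ Nat.card (MulAction.stabilizer G a) ∧
      ((∃ H : Subgroup G, H ≠ ⊤ ∧ 3 ∣ Nat.card H ∧ ∀ g : G, g ∉ H → ¬ 3 ∣ Nat.card ↥(H ⊓ H.map (MulAut.conj g).toMonoidHom)) ∨
       (Nat.card P = 3 ∧ ∀ T : Sylow 2 (Subgroup.normalizer ((P : Subgroup G) : Set G)), Nat.card T ≤ 4) ∨
       (Nat.card P = 9 ∧ ∀ x ∈ (P : Subgroup G), x ^ 3 = 1) ∨
       (Nat.card P = 27 ∧ Cfsg.IsExtraspecial 3 (P : Subgroup G) ∧ ∀ x ∈ (P : Subgroup G), x ^ 3 = 1) ∨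
       (∃ T : Sylow 3 (Equiv.Perm (Fin 9)), Nonempty ((P : Subgroup G) ≃* (T : Subgroup (Equiv.Perm (Fin 9))))))) ∨
    (Nat.card (MulAction.stabilizer G a)).Coprime 6 := by
  classical
  have c : Ctx G Ω := by
    refine ⟨inferInstance, hna, htrans, hfix, ?_⟩
    obtain ⟨g, hg, hg4⟩ := hfix4
    by_contra h5
    refine hg (eq_of_smul_eq_smul (α := Ω) fun b => ?_)
    have huniv : fixedBy Ω g = Set.univ := Set.eq_of_subset_of_ncard_le (Set.subset_univ _)
      (by rw [Set.ncard_univ, ← Nat.card_coe_set_eq, hg4]; omega) (Set.toFinite _)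
    rw [one_smul]
    exact (huniv.symm ▸ Set.mem_univ b : b ∈ fixedBy Ω g)
  haveI : Fact (Nat.Prime 2) := ⟨Nat.prime_two⟩
  haveI : Fact (Nat.Prime 3) := ⟨Nat.prime_three⟩
  set Ga := stabilizer G a with hGa
  by_cases hev : 2 ∣ Nat.card Ga
  · -- involutions fix points
    obtain ⟨t, ht⟩ := exists_prime_orderOf_dvd_card' 2 hev
    have ht' : orderOf (t : G) = 2 := by rw [Subgroup.orderOf_coe, ht]
    have h1 : 1 ≤ f := by
      refine le_trans ?_ (hf _ ht')
      exact Nat.card_pos_iff.2 ⟨⟨⟨a, t.2⟩⟩, inferInstance⟩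
    obtain ⟨t₀, ht₀, ht₀f⟩ := hf'
    have hf4 : f ≤ 4 := ht₀f ▸ hfix t₀ (fun h => by simp [h] at ht₀)
    rcases Nat.lt_or_ge f 4 with hlt | hge
    · rcases small c S f h1 (by omega) hf ⟨t₀, ht₀, ht₀f⟩ with h | h
      · exact Or.inl ⟨h1, h⟩
      · exact Or.inr (Or.inl ⟨h1, by omega, h⟩)
    · have hfeq : f = 4 := by omega
      rcases four c ⟨t₀, ht₀, ht₀f.trans hfeq⟩ with h | h
      · exact Or.inl ⟨h1, h⟩
      · exact Or.inr (Or.inr (Or.inl ⟨hfeq, h⟩))
  by_cases h3 : 3 ∣ Nat.card Ga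
  swap
  · refine Or.inr (Or.inr (Or.inr (Or.inr ?_)))
    rw [show 6 = 2 * 3 from rfl]
    exact Nat.Coprime.mul_right ((Nat.Prime.coprime_iff_not_dvd Nat.prime_two).2 hev).symm
      ((Nat.Prime.coprime_iff_not_dvd Nat.prime_three).2 h3).symm
  have hoddGa : Odd (Nat.card Ga) := Nat.not_even_iff_odd.1 fun h => hev (even_iff_two_dvd.1 h)
  refine Or.inr (Or.inr (Or.inr (Or.inl ⟨hoddGa, h3, ?_⟩)))
  have hodd : ∀ (g : G) (b : Ω), g • b = b → Odd (orderOf g) := by
    intro g b hgb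
    haveI := htrans
    obtain ⟨m, rfl⟩ := exists_smul_eq G a b
    have hmem : m⁻¹ * g * m ∈ Ga := by
      rw [hGa, mem_stabilizer_iff, mul_smul, mul_smul, hgb, inv_smul_smul]
    have ho : orderOf (m⁻¹ * g * m) = orderOf g := by
      have := orderOf_injective (MulAut.conj m⁻¹).toMonoidHom (MulAut.conj m⁻¹).injective g
      simpa using this
    rw [← ho, ← Subgroup.orderOf_mk _ hmem]
    exact hoddGa.of_dvd_nat (_root_.orderOf_dvd_natCard _)
  obtain ⟨x₀, hx₀⟩ := exists_prime_orderOf_dvd_card' 3 h3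
  haveI : Nonempty {t : G // orderOf t = 3} := ⟨⟨x₀, by rw [Subgroup.orderOf_coe, hx₀]⟩⟩
  obtain ⟨⟨x, hx⟩, hxmax⟩ := Finite.exists_max fun t : {t : G // orderOf t = 3} => Nat.card (fixedBy Ω t.1)
  set k := Nat.card (fixedBy Ω x) with hk
  have hmax : ∀ t : G, orderOf t = 3 → Nat.card (fixedBy Ω t) ≤ k := fun t ht => hxmax ⟨t, ht⟩
  have hk1 : 1 ≤ k := le_trans (Nat.card_pos_iff.2 ⟨⟨⟨a, x₀.2⟩⟩, inferInstance⟩)
    (hmax (x₀ : G) (by rw [Subgroup.orderOf_coe, hx₀]))
  have hk4 : k ≤ 4 := hfix x (fun h => by simp [h] at hx)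
  set A := fixedBy Ω x with hA
  have hxM : x ∈ stabilizer G A := fixing_le_stab A (mem_fix.2 le_rfl)
  by_cases hall : ∀ t ∈ stabilizer G A, orderOf t = 3 → fixedBy Ω t = A
  · refine Or.inl ⟨stabilizer G A, c.stab_ne_top (by omega) (nonempty_of_card (by omega)), ?_,
      se_of_fix hall⟩
    rw [← hx, ← Subgroup.orderOf_mk x hxM]
    exact _root_.orderOf_dvd_natCard _
  push Not at hall
  obtain ⟨u, huA, hu, hun⟩ := hall
  have hunK : u ∉ fixingSubgroup G A := fun h =>
    hun (fix_eq_of_kernel (fun t ht => hmax t ht) ⟨1, by rw [hu, pow_one]⟩ (fun h => by simp [h] at hu) h)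
  have hk3 : k = 3 ∨ k = 4 := by
    by_contra hne
    rw [not_or] at hne
    refine hunK ?_
    have hle : k ≤ 2 := by omega
    haveI : Fintype A := Fintype.ofFinite A
    have h1 : res A ⟨u, huA⟩ = 1 := by
      refine orderOf_eq_one_iff.1 ?_
      have hd : orderOf (res A ⟨u, huA⟩) ∣ 3 := by
        rw [← hu, ← Subgroup.orderOf_mk u huA]
        exact orderOf_map_dvd (res A) _
      have hd2 : orderOf (res A ⟨u, huA⟩) ∣ 2 := by
        refine (_root_.orderOf_dvd_natCard _).trans ?_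
        rw [Nat.card_perm]
        exact Nat.factorial_dvd_factorial (n := 2) hle
      exact Nat.dvd_one.1 (Nat.dvd_gcd hd hd2)
    exact res_eq_one.1 h1
  have d : OddData G Ω k := ⟨c, hodd, hk3, hmax⟩
  obtain ⟨P₁, hP₁, hexp⟩ := d.main (A := A) rfl hx hA.symm ⟨u, huA, hu, hunK⟩
  refine Or.inr (Or.inr (Or.inl ⟨?_, fun y hy => ?_⟩))
  · rw [Nat.card_congr (P.equiv P₁).toEquiv]; exact hP₁
  · have h1 : (P.equiv P₁ ⟨y, hy⟩) ^ 3 = 1 := Subtype.ext (by
      rw [SubmonoidClass.coe_pow]; exact hexp _ (P.equiv P₁ ⟨y, hy⟩).2)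
    rw [← map_pow, ← map_one (P.equiv P₁)] at h1
    exact congrArg Subtype.val ((P.equiv P₁).injective h1)

end Cfsg.Agent.S3365
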