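import Cfsg.Statements.S3367
import Cfsg.Agent.McLThree.Final
import Cfsg.Agent.McLThree.Setup
import Cfsg.Agent.McLThree.FinishAll

set_option autoImplicit false
open Cfsg

namespace Cfsg.Agent.S3367

/-- A 3-local characterization of the McLaughlin group and its automorphism group. Let G be a finite group, S a Sylow 3-subgroup, Z = Z(S), and J ≤ S elementary abelian of order 3^4. Write M₀ for the subgroup generated by the 3-elements of N_G(J), L₀ for the subgroup generated by the 3-elements of N_G(Z), and Q = O₃(N_G(Z)). Assume: (i) J ≤ M₀ and M₀/J is isomorphic to the alternating group of degree 6; (ii) Q is extraspecial of order 3^5 and exponent 3, Q ≤ L₀, and L₀/Q is isomorphic to SL(2,5); (iii) for every non-identity x in J, C_G(O₃(C_G(x))) ≤ O₃(C_G(x)). Then G is isomorphic to the McLaughlin group or to its full automorphism group. -/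
theorem result {G : Type*} [Group G] [Finite G]
    (S : Sylow 3 G) (Z : Subgroup G) (hZ : Z = (S : Subgroup G) ⊓ Subgroup.centralizer ((S : Subgroup G) : Set G))
    (J : Subgroup G) (hJS : J ≤ S) (hJcomm : IsMulCommutative J) (hJexp : ∀ a ∈ J, a ^ 3 = 1) (hJcard : Nat.card J = 3 ^ 4)
    (M₀ : Subgroup G) (hM₀ : M₀ = Subgroup.closure {g : G | g ∈ Subgroup.normalizer (J : Set G) ∧ ∃ k : ℕ, orderOf g = 3 ^ k})
    (hJM : J ≤ M₀) [hJn : (J.subgroupOf M₀).Normal] (eM : M₀ ⧸ J.subgroupOf M₀ ≃* alternatingGroup (Fin 6))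
    (L₀ : Subgroup G) (hL₀ : L₀ = Subgroup.closure {g : G | g ∈ Subgroup.normalizer (Z : Set G) ∧ ∃ k : ℕ, orderOf g = 3 ^ k})
    (Q : Subgroup G) (hQ : Q = (Cfsg.pCore 3 (Subgroup.normalizer (Z : Set G))).map (Subgroup.normalizer (Z : Set G)).subtype)
    (hQex : Cfsg.IsExtraspecial 3 Q) (hQcard : Nat.card Q = 3 ^ 5) (hQexp : ∀ a ∈ Q, a ^ 3 = 1)
    (hQL : Q ≤ L₀) [hQn : (Q.subgroupOf L₀).Normal] (eL : L₀ ⧸ Q.subgroupOf L₀ ≃* Matrix.SpecialLinearGroup (Fin 2) (ZMod 5))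
    (hiii : ∀ x ∈ J, x ≠ 1 →
      Subgroup.centralizer (((Cfsg.pCore 3 (Subgroup.centralizer ({x} : Set G))).map (Subgroup.centralizer ({x} : Set G)).subtype : Subgroup G) : Set G)
        ≤ (Cfsg.pCore 3 (Subgroup.centralizer ({x} : Set G))).map (Subgroup.centralizer ({x} : Set G)).subtype) :
    Nonempty (G ≃* Cfsg.Spor.McL) ∨ Nonempty (G ≃* MulAut Cfsg.Spor.McL) := by
  classical
  obtain ⟨hZJ, hZ3, hcore⟩ := CfsgLib.McLThree.setup_Z S Z hZ J hJS hJcomm hJexp hJcard M₀ hM₀ hJM eM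
    L₀ hL₀ Q hQ hQex hQcard hQexp hQL eL
  obtain ⟨z, hz, hz1⟩ : ∃ z ∈ Z, z ≠ (1 : G) := by
    by_contra h
    push Not at h
    rw [(Subgroup.eq_bot_iff_forall Z).2 h, Subgroup.card_bot] at hZ3
    omega
  have hzZ : Subgroup.zpowers z = Z := Subgroup.eq_of_le_of_card_ge (Subgroup.zpowers_le.2 hz) (by
    rw [hZ3, Nat.card_zpowers]
    have h := orderOf_dvd_of_pow_eq_one (hJexp z (hZJ hz))
    rcases (Nat.dvd_prime Nat.prime_three).1 h with e | e
    · exact absurd (orderOf_eq_one_iff.1 e) hz1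
    · exact le_of_eq e.symm)
  have hcz : Subgroup.centralizer (Z : Set G) = Subgroup.centralizer ({z} : Set G) := by
    rw [← hzZ, Subgroup.zpowers_eq_closure, Subgroup.centralizer_closure]
  have hiiiZ := hiii z (hZJ hz) hz1
  rw [← hcz] at hiiiZ
  obtain ⟨D, -, -, hDJ, -⟩ := CfsgLib.McLThree.exists_data S Z hZ J hJS hJcomm hJexp hJcard M₀ hM₀ hJM
    eM L₀ hL₀ Q hQ hQex hQcard hQexp hQL eL hiiiZ
  obtain ⟨C, rfl⟩ := D.exists_ctx
  obtain ⟨F, rfl⟩ := C.exists_frame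
  obtain ⟨P, rfl⟩ := F.exists_local
  have hx : P.zz * P.y ≠ 1 := fun h => P.y_Q (by
    rw [show P.y = P.zz⁻¹ from eq_inv_of_mul_eq_one_right h]
    exact inv_mem (P.Z_le_Q P.zz_mem))
  have hU := hiii (P.zz * P.y) (hDJ ▸ P.diag_mem_J) hx
  refine P.conclusion (P.cent_diag (Subgroup.map_subtype_le _) (fun g hg => ?_)
    ((CfsgLib.Solvable.isPGroup_pCore (p := 3)).map _) hU) CfsgLib.McLThree.centStatement
  rw [Subgroup.mem_normalizer_iff]
  intro u
  constructor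
  · rintro ⟨v, hv, rfl⟩
    exact ⟨⟨g, hg⟩ * v * ⟨g, hg⟩⁻¹, (CfsgLib.Solvable.pCore_spec 3).1.conj_mem v hv _, rfl⟩
  · rintro ⟨v, hv, hv'⟩
    refine ⟨⟨g, hg⟩⁻¹ * v * ⟨g, hg⟩, ?_, ?_⟩
    · simpa using (CfsgLib.Solvable.pCore_spec 3).1.conj_mem v hv (⟨g, hg⟩⁻¹)
    · have e : (v : G) = g * u * g⁻¹ := hv'
      show g⁻¹ * (v : G) * g = u
      rw [e]; group

end Cfsg.Agent.S3367
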