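import Cfsg.Statements.S3371
import Cfsg.Agent.HalfTransP.Main

set_option autoImplicit false
set_option linter.style.haveILetI false
-- import your own Cfsg.Agent.* helpers here

set_option autoImplicit false
open Cfsg

namespace Cfsg.Agent.S3371

/-- Let q be a prime, V a non-trivial finite vector space over the field with q elements, and G a finite p-group (p prime) acting faithfully and linearly on V such that all G-orbits on the non-zero vectors have the same size. Then one of the following holds: G is cyclic or generalized quaternion and acts semiregularly on the non-zero vectors; or V has q² elements with q = 2^m − 1 and G is dihedral of order 2^(m+1) or semidihedral of order 2^(m+2); or V has q² elements with q = 2^m + 1 and, in suitable coordinates V = F_q², G is exactly the group of maps (x, y) ↦ (a x, ± a⁻¹ y) and (x, y) ↦ (± a⁻¹ y, a x) with a ≠ 0; or V has 81 elements (q = 3) and G is a 2-group. -/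
theorem result (q : ℕ) [Fact q.Prime] {V : Type*} [AddCommGroup V] [Module (ZMod q) V] [Finite V] [Nontrivial V]
    {G : Type*} [Group G] [Finite G] (p : ℕ) [Fact p.Prime] (hG : IsPGroup p G)
    (ρ : G →* (V ≃ₗ[ZMod q] V)) (hρ : Function.Injective ρ)
    (hhalf : ∀ v w : V, v ≠ 0 → w ≠ 0 → Nat.card {u : V | ∃ g : G, ρ g v = u} = Nat.card {u : V | ∃ g : G, ρ g w = u}) :
    ((IsCyclic G ∨ ∃ n : ℕ, Nonempty (G ≃* QuaternionGroup n)) ∧ ∀ v : V, v ≠ 0 → ∀ g : G, ρ g v = v → g = 1) ∨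
    (Nat.card V = q ^ 2 ∧ ∃ m : ℕ, q = 2 ^ m - 1 ∧
      (Nonempty (G ≃* DihedralGroup (2 ^ m)) ∨ (Cfsg.IsQuasiDihedral G ∧ Nat.card G = 2 ^ (m + 2)))) ∨
    (Nat.card V = q ^ 2 ∧ (∃ m : ℕ, q = 2 ^ m + 1) ∧
      ∃ e : V ≃ₗ[ZMod q] (Fin 2 → ZMod q), ∀ f : (Fin 2 → ZMod q) ≃ₗ[ZMod q] (Fin 2 → ZMod q),
        (∃ g : G, f = e.symm.trans ((ρ g).trans e)) ↔
        ∃ a s : ZMod q, a ≠ 0 ∧ (s = 1 ∨ s = -1) ∧
          ((∀ v, f v = ![a * v 0, s * a⁻¹ * v 1]) ∨ (∀ v, f v = ![s * a⁻¹ * v 1, a * v 0]))) ∨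
    (Nat.card V = 81 ∧ q = 3 ∧ p = 2) := by
  haveI : Finite (V ≃ₗ[ZMod q] V) :=
    Finite.of_injective (fun f => (f : V → V)) (fun f g h => LinearEquiv.ext (congrFun h))
  by_cases hsr : ∀ v : V, v ≠ 0 → ∀ g : G, ρ g v = v → g = 1
  · exact Or.inl ⟨CfsgLib.HalfTransP.semiregular_structure hG hsr, hsr⟩
  have hh := CfsgLib.HalfTransP.half_of_orbits (ρ := ρ) hhalf
  have hnsr : ∀ v : V, v ≠ 0 → CfsgLib.HalfTransP.Stab ρ v ≠ ⊥ := by
    intro v hv hbot
    apply hsr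
    intro w hw g hg
    have h1 := hh w v hw hv
    rw [hbot, Subgroup.card_bot] at h1
    exact Subgroup.mem_bot.1 (Subgroup.eq_bot_of_card_eq _ h1 ▸ CfsgLib.HalfTransP.mem_stab.2 hg)
  have h : CfsgLib.HalfTransP.HT ρ p := ⟨Fact.out, hG, hρ, hh, hnsr,
    CfsgLib.HalfTransP.ne_zero_char Fact.out hG hρ hh hnsr, inferInstance⟩
  rcases CfsgLib.HalfTransP.classification h with ⟨hV, k, hk, hD | ⟨hc, hk2, x, y, hx, hy, hxy⟩⟩ | h3 | h4
  · exact Or.inr (Or.inl ⟨hV, k, hk, Or.inl hD⟩)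
  · refine Or.inr (Or.inl ⟨hV, k, hk, Or.inr ⟨⟨k + 1, by omega, ?_, x, y, hx, hy, ?_⟩, hc⟩⟩)
    · rw [hc]
    · simpa using hxy
  · exact Or.inr (Or.inr (Or.inl h3))
  · exact Or.inr (Or.inr (Or.inr h4))

end Cfsg.Agent.S3371
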