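import Cfsg.Statements.S3373
import Cfsg.Agent.LFourThree.Main

set_option autoImplicit false
open Cfsg

namespace Cfsg.Agent.S3373

/-- A 3-local recognition of PSL(4,3). Let G be a finite group, S a Sylow 3-subgroup, Z = Z(S), C = C_G(Z) and Q = O₃(C). Suppose Q is extraspecial of order 3^5 and exponent 3, C_G(Q) ≤ Q, some conjugate of Z other than Z lies in Q, and C/Q is isomorphic to SL(2,3). Let K be the preimage in C of the subgroup of C/Q generated by its elements of odd order (here K = C), and suppose that some maximal chain of K-invariant subgroups from Z to Q has exactly two factors on which K acts non-trivially. Then G is isomorphic to PSL(4,3), or to a maximal subgroup P of PSL(4,3) with |O₃(P)| = 27 and P/O₃(P) isomorphic to SL(3,3) (a maximal parabolic subgroup of shape 3^3.SL(3,3)). -/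
theorem result {G : Type*} [Group G] [Finite G]
    (S : Sylow 3 G) (Z : Subgroup G) (hZ : Z = (S : Subgroup G) ⊓ Subgroup.centralizer ((S : Subgroup G) : Set G))
    (C : Subgroup G) (hCZ : C = Subgroup.centralizer (Z : Set G))
    (Q : Subgroup G) (hQ : Q = (Cfsg.pCore 3 C).map C.subtype)
    (hQex : Cfsg.IsExtraspecial 3 Q) (hQcard : Nat.card Q = 3 ^ 5) (hQexp : ∀ a ∈ Q, a ^ 3 = 1)
    (hCQ : Subgroup.centralizer (Q : Set G) ≤ Q)
    (hZQ : ∃ x : G, Z.map (MulAut.conj x).toMonoidHom ≤ Q ∧ Z.map (MulAut.conj x).toMonoidHom ≠ Z)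
    (K : Subgroup G) (hK : K = ((Cfsg.pResidual 2 (C ⧸ Cfsg.pCore 3 C)).comap (QuotientGroup.mk' (Cfsg.pCore 3 C))).map C.subtype)
    (r : ℕ) (A : Fin (r + 1) → Subgroup G) (hA0 : A 0 = Z) (hAr : A (Fin.last r) = Q)
    (hmono : ∀ i : Fin r, A i.castSucc < A i.succ)
    (hinv : ∀ i : Fin (r + 1), ∀ k ∈ K, ∀ a ∈ A i, k * a * k⁻¹ ∈ A i)
    (hmax : ∀ i : Fin r, ∀ B : Subgroup G, A i.castSucc < B → B < A i.succ → ∃ k ∈ K, ∃ b ∈ B, k * b * k⁻¹ ∉ B)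
    (e : C ⧸ Cfsg.pCore 3 C ≃* Matrix.SpecialLinearGroup (Fin 2) (ZMod 3))
    (htwo : ∃ i j : Fin r, i ≠ j ∧ (∃ k ∈ K, ∃ a ∈ A i.succ, k * a * k⁻¹ * a⁻¹ ∉ A i.castSucc) ∧ (∃ k ∈ K, ∃ a ∈ A j.succ, k * a * k⁻¹ * a⁻¹ ∉ A j.castSucc) ∧
      ∀ l : Fin r, (∃ k ∈ K, ∃ a ∈ A l.succ, k * a * k⁻¹ * a⁻¹ ∉ A l.castSucc) → l = i ∨ l = j) :
    Nonempty (G ≃* Matrix.ProjectiveSpecialLinearGroup (Fin 4) (ZMod 3)) ∨
    ∃ (P : Subgroup (Matrix.ProjectiveSpecialLinearGroup (Fin 4) (ZMod 3))),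
      IsCoatom P ∧ Nat.card (Cfsg.pCore 3 P) = 27 ∧
      Nonempty (P ⧸ Cfsg.pCore 3 P ≃* Matrix.SpecialLinearGroup (Fin 3) (ZMod 3)) ∧ Nonempty (G ≃* P) := by
  obtain ⟨i, j, hij, hi, hj, -⟩ := htwo
  obtain ⟨L, -, -, -⟩ := CfsgLib.L43.exists_loc S Z hZ C hCZ Q hQ hQex hQcard hQexp hCQ hZQ K hK r A
    hA0 hAr hmono hinv hmax e ⟨i, j, hij, hi, hj⟩
  exact CfsgLib.L43.conclusion_of_loc L

end Cfsg.Agent.S3373
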