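import Cfsg.Statements.S3375
import Cfsg.Agent.Frobenius.Fpf

set_option autoImplicit false
open Cfsg

namespace Cfsg.Agent.S3375

/-- Let γ be an automorphism of order 2 of a finite group H. (i) If γ fixes only the identity, then H is abelian and γ inverts every element. (ii) If γ has exactly two fixed points and H has a subgroup of index 2, then H has a γ-invariant abelian subgroup of index 2 on which γ acts by inversion. -/
theorem result {H : Type*} [Group H] [Finite H] (γ : MulAut H) (hγ : orderOf γ = 2) :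
    ((∀ h : H, γ h = h → h = 1) → (∀ a b : H, a * b = b * a) ∧ ∀ h : H, γ h = h⁻¹) ∧
    ((Nat.card {h : H // γ h = h} = 2 ∧ ∃ M : Subgroup H, M.index = 2) →
      ∃ A : Subgroup H, A.index = 2 ∧ IsMulCommutative A ∧ (∀ a ∈ A, γ a ∈ A) ∧ ∀ a ∈ A, γ a = a⁻¹) := by
  have h2 : γ * γ = 1 := by rw [← pow_two, ← hγ, pow_orderOf_eq_one]
  have hgg : ∀ h, γ (γ h) = h := fun h => by
    simpa using MulEquiv.congr_fun h2 h
  constructor
  · intro hfix
    have hinv := CfsgLib.Frobenius.fpf_inv γ hfix h2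
    refine ⟨fun a b => ?_, hinv⟩
    have e := map_mul γ a b
    rw [hinv, hinv, hinv, ← mul_inv_rev, inv_inj] at e
    exact e
  rintro ⟨hfix, M, hM⟩
  have hex : ∃ A : Subgroup H, A.index = 2 ∧ ∀ x, (x ∈ A ↔ γ x ∈ A) := by
    by_cases hinvM : ∀ x, (x ∈ M ↔ γ x ∈ M)
    · exact ⟨M, hM, hinvM⟩
    have hmul := fun a b => Subgroup.mul_mem_iff_of_index_two hM (a := a) (b := b)
    refine ⟨{ carrier := {x | x ∈ M ↔ γ x ∈ M}
              one_mem' := by simp
              mul_mem' := fun {a b} (ha : a ∈ M ↔ γ a ∈ M) (hb : b ∈ M ↔ γ b ∈ M) => by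
                show a * b ∈ M ↔ γ (a * b) ∈ M
                rw [map_mul, hmul, hmul, ha, hb]
              inv_mem' := fun {a} (ha : a ∈ M ↔ γ a ∈ M) => by
                show a⁻¹ ∈ M ↔ γ a⁻¹ ∈ M
                rw [map_inv, inv_mem_iff, inv_mem_iff, ha] }, ?_, fun x => ?_⟩
    · push Not at hinvM
      obtain ⟨a, ha⟩ := hinvM
      rw [Subgroup.index_eq_two_iff]
      refine ⟨a, fun b => ?_⟩
      show Xor ((b * a ∈ M) ↔ γ (b * a) ∈ M) (b ∈ M ↔ γ b ∈ M)
      rw [map_mul, hmul, hmul, xor_iff_iff_not]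
      tauto
    · show (x ∈ M ↔ γ x ∈ M) ↔ (γ x ∈ M ↔ γ (γ x) ∈ M)
      rw [hgg]
      tauto
  obtain ⟨A, hA, hinv⟩ := hex
  classical
  have := Fintype.ofFinite H
  have hmulA := fun a b => Subgroup.mul_mem_iff_of_index_two hA (a := a) (b := b)
  let f : H → H := fun h => h⁻¹ * γ h
  have hfA : ∀ h, f h ∈ A := fun h => by
    show h⁻¹ * γ h ∈ A
    rw [hmulA, inv_mem_iff]
    exact hinv h
  have hcard2 : (Finset.univ.filter fun h : H => γ h = h).card = 2 := by
    rw [← hfix, Nat.card_eq_fintype_card]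
    exact (Fintype.card_subtype _).symm
  have hfib : ∀ y ∈ Finset.univ.image f,
      (Finset.univ.filter fun h => f h = y).card = 2 := by
    intro y hy
    obtain ⟨a, -, rfl⟩ := Finset.mem_image.1 hy
    rw [← hcard2]
    refine Finset.card_bij' (fun h _ => h * a⁻¹) (fun t _ => t * a) ?_ ?_ ?_ ?_
    · intro h hh
      simp only [Finset.mem_filter, Finset.mem_univ, true_and, f] at hh ⊢
      rw [map_mul, map_inv]
      calc γ h * (γ a)⁻¹ = h * (h⁻¹ * γ h) * (γ a)⁻¹ := by group
        _ = h * (a⁻¹ * γ a) * (γ a)⁻¹ := by rw [hh]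
        _ = h * a⁻¹ := by group
    · intro t ht
      simp only [Finset.mem_filter, Finset.mem_univ, true_and, f] at ht ⊢
      rw [map_mul, ht]
      group
    · intro h _; group
    · intro t _; group
  have himg : Finset.univ.image f = Finset.univ.filter fun h => h ∈ A := by
    refine Finset.eq_of_subset_of_card_le (fun y hy => ?_) ?_
    · obtain ⟨a, -, rfl⟩ := Finset.mem_image.1 hy
      simp [hfA]
    · have e1 := Finset.card_eq_sum_card_image f (Finset.univ : Finset H)
      rw [Finset.sum_congr rfl hfib, Finset.sum_const, smul_eq_mul, Finset.card_univ] at e1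
      have e2 := A.card_mul_index
      rw [hA, Nat.card_eq_fintype_card, Nat.card_eq_fintype_card] at e2
      rw [← Fintype.card_subtype]
      have e3 : Fintype.card {h // h ∈ A} = Fintype.card A := rfl
      omega
  have key : ∀ a ∈ A, γ a = a⁻¹ := fun a ha => by
    have : a ∈ Finset.univ.image f := by rw [himg]; simp [ha]
    obtain ⟨h, -, rfl⟩ := Finset.mem_image.1 this
    simp [f, hgg]
  refine ⟨A, hA, ⟨⟨fun a b => Subtype.ext ?_⟩⟩, fun a ha => (hinv a).1 ha, key⟩
  have e := map_mul γ (a : H) (b : H)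
  rw [key _ a.2, key _ b.2, key _ (A.mul_mem a.2 b.2), ← mul_inv_rev, inv_inj] at e
  exact e

end Cfsg.Agent.S3375
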