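import Cfsg.Statements.S3376
import Cfsg.Agent.Solvable.PGroupBasic
import Cfsg.Agent.Solvable.Basics
import Mathlib.GroupTheory.Perm.Centralizer

set_option autoImplicit false
open Cfsg

namespace Cfsg.Agent.S3376

/-- Let G be a group of order 162 = 3⁴·2 with Sylow 3-subgroup S and Sylow 2-subgroup T, having an elementary abelian normal subgroup J of order 27, such that Z = Z(S) has order 3, Z centralizes T, and C_S(T) ≠ S. Then G is isomorphic to the centralizer in Sym(9) of a product of three disjoint 3-cycles. -/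
theorem result {G : Type*} [Group G] [Finite G] (hG : Nat.card G = 162)
    (S : Sylow 3 G) (T : Sylow 2 G) (J : Subgroup G) [hJn : J.Normal] (hJcomm : IsMulCommutative J)
    (hJexp : ∀ a ∈ J, a ^ 3 = 1) (hJcard : Nat.card J = 27)
    (Z : Subgroup G) (hZ : Z = (S : Subgroup G) ⊓ Subgroup.centralizer ((S : Subgroup G) : Set G)) (hZcard : Nat.card Z = 3)
    (hZT : Z ≤ Subgroup.centralizer ((T : Subgroup G) : Set G))
    (hST : (S : Subgroup G) ⊓ Subgroup.centralizer ((T : Subgroup G) : Set G) ≠ S) :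
    Nonempty (G ≃* Subgroup.centralizer ({Equiv.swap (0 : Fin 9) 1 * Equiv.swap 1 2 * Equiv.swap 3 4 * Equiv.swap 4 5 * Equiv.swap 6 7 * Equiv.swap 7 8} : Set (Equiv.Perm (Fin 9)))) := by
  classical
  haveI : Fact (Nat.Prime 3) := ⟨Nat.prime_three⟩
  haveI : Fact (Nat.Prime 2) := ⟨Nat.prime_two⟩
  have hScard : Nat.card (S : Subgroup G) = 81 := by
    have hf : (Nat.card G).factorization 3 = 4 := by
      have h2 : (81 * 2 : ℕ).factorization 3 = 4 := by
        rw [Nat.factorization_mul (by norm_num) (by norm_num), show (81 : ℕ) = 3 ^ 4 by norm_num,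
          Nat.prime_three.factorization_pow, Nat.prime_two.factorization]
        simp
      rw [hG]
      exact h2
    rw [S.card_eq_multiplicity, hf]
    rfl
  have hTcard : Nat.card (T : Subgroup G) = 2 := by
    have hf : (Nat.card G).factorization 2 = 1 := by
      have h2 : (81 * 2 : ℕ).factorization 2 = 1 := by
        rw [Nat.factorization_mul (by norm_num) (by norm_num), show (81 : ℕ) = 3 ^ 4 by norm_num,
          Nat.prime_three.factorization_pow, Nat.prime_two.factorization]
        simp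
      rw [hG]
      exact h2
    rw [T.card_eq_multiplicity, hf]
    rfl
  have hJp : IsPGroup 3 J := IsPGroup.of_card (n := 3) (by rw [hJcard]; rfl)
  have hJS : J ≤ (S : Subgroup G) :=
    le_sup_left.trans (S.is_maximal' (hJp.to_sup_of_normal_left S.2) le_sup_right).le
  have hzS : ∀ z ∈ Z, z ∈ (S : Subgroup G) ∧ ∀ s ∈ (S : Subgroup G), s * z = z * s := fun z hz => by
    rw [hZ] at hz
    exact ⟨hz.1, fun s hs => Subgroup.mem_centralizer_iff.1 hz.2 s hs⟩
  -- every nontrivial normal subgroup of `S` contains `Z`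
  have hmeet : ∀ M : Subgroup G, M.Normal → M ⊓ (S : Subgroup G) ≠ ⊥ → Z ≤ M := by
    intro M hM hne
    haveI := hM
    haveI : Group.IsNilpotent (S : Subgroup G) := S.2.isNilpotent
    have h := CfsgLib.PGroupBasic.inf_center_ne_bot (M.subgroupOf (S : Subgroup G)) (by
      intro e
      rw [Subgroup.subgroupOf_eq_bot] at e
      exact hne (disjoint_iff.1 e))
    obtain ⟨⟨c, hcS⟩, hc, hc1⟩ := (Subgroup.bot_or_exists_ne_one _).resolve_left h
    have hcZ : c ∈ Z := by
      rw [hZ]
      exact ⟨hcS, Subgroup.mem_centralizer_iff.2 fun s hs =>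
        congrArg Subtype.val (Subgroup.mem_center_iff.1 hc.2 ⟨s, hs⟩)⟩
    have hcyc : Subgroup.zpowers c = Z := by
      refine Subgroup.eq_of_le_of_card_ge (Subgroup.zpowers_le.2 hcZ) ?_
      rw [hZcard, Nat.card_zpowers]
      have hd : orderOf c ∣ 3 := hZcard ▸ Subgroup.orderOf_dvd_natCard Z hcZ
      rcases (Nat.dvd_prime Nat.prime_three).1 hd with h1 | h1
      · exact absurd (orderOf_eq_one_iff.1 h1) (fun e => hc1 (Subtype.ext e))
      · rw [h1]
    rw [← hcyc, Subgroup.zpowers_le]
    exact hc.1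
  have hZJ : Z ≤ J := hmeet J inferInstance (by
    rw [inf_eq_left.2 hJS]
    intro e
    rw [e, Subgroup.card_bot] at hJcard
    omega)
  obtain ⟨⟨t, htT⟩, ht0⟩ := exists_prime_orderOf_dvd_card' (G := (T : Subgroup G)) 2 (by rw [hTcard])
  have ht : orderOf t = 2 := by rw [← Subgroup.orderOf_coe] at ht0; exact ht0
  have htgen : Subgroup.zpowers t = (T : Subgroup G) := Subgroup.eq_of_le_of_card_ge
    (Subgroup.zpowers_le.2 htT) (by rw [Nat.card_zpowers, ht, hTcard])
  have htt : t * t = 1 := by rw [← pow_two, ← ht, pow_orderOf_eq_one]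
  have htinv : t⁻¹ = t := inv_eq_of_mul_eq_one_right htt
  have htz : ∀ z ∈ Z, t * z * t = z := fun z hz => by
    rw [Subgroup.mem_centralizer_iff.1 (hZT hz) t htT, mul_assoc, htt, mul_one]
  have hJc : ∀ a ∈ J, ∀ b ∈ J, a * b = b * a := fun a ha b hb =>
    congrArg Subtype.val (hJcomm.is_comm.comm ⟨a, ha⟩ ⟨b, hb⟩)
  have htJ : ∀ a ∈ J, t * a * t ∈ J := fun a ha => by
    have h := hJn.conj_mem a ha t
    rwa [htinv] at h
  -- a `t`-invariant complement of `Z` in `J`
  let good : Set (Subgroup G) := {A | A ≤ J ∧ A ⊓ Z = ⊥ ∧ ∀ a ∈ A, t * a * t ∈ A}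
  obtain ⟨A, ⟨hAJ, hAZ, hAt⟩, hAmax⟩ := (Set.toFinite good).exists_maximal
    ⟨⊥, bot_le, bot_inf_eq _, fun a ha => by
      rw [Subgroup.mem_bot.1 ha, mul_one, htt]; exact one_mem _⟩
  have hJnorm : ∀ X : Subgroup G, X ≤ J → J ≤ Subgroup.normalizer (X : Set G) := fun X hX a ha =>
    Subgroup.centralizer_le_normalizer _
      (Subgroup.mem_centralizer_iff.2 fun x hx => hJc x (hX hx) a ha)
  have hAZJ : A ⊔ Z = J := by
    refine le_antisymm (sup_le hAJ hZJ) fun a ha => ?_
    by_contra hna
    -- an eigenvector outside `A ⊔ Z`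
    obtain ⟨b, hbJ, hbn, hbt⟩ : ∃ b ∈ J, b ∉ A ⊔ Z ∧ (t * b * t = b ∨ t * b * t = b⁻¹) := by
      have h1 : t * (t * a * t) * t = a := by
        rw [show t * (t * a * t) * t = (t * t) * a * (t * t) by simp only [mul_assoc], htt, one_mul,
          mul_one]
      by_cases hf : a * (t * a * t) ∈ A ⊔ Z
      · refine ⟨a * (t * a * t)⁻¹, mul_mem ha (inv_mem (htJ a ha)), fun hg => ?_, Or.inr ?_⟩
        · have h2 := mul_mem hf hg
          have e2 : ∀ u, u * a = a * u → a * u * (a * u⁻¹) = a * a := fun u hu => by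
            rw [mul_assoc, ← mul_assoc u a, hu, mul_assoc, mul_inv_cancel, mul_one]
          rw [e2 _ (hJc _ (htJ a ha) a ha)] at h2
          have h3 := mul_mem h2 h2
          rw [show a * a * (a * a) = a ^ 3 * a by simp [pow_succ, mul_assoc], hJexp a ha, one_mul] at h3
          exact hna h3
        · have e3 : t * (a * (t * a * t)⁻¹) * t = (t * a * t) * a⁻¹ := by
            rw [show (t * a * t)⁻¹ = t * a⁻¹ * t by simp only [mul_inv_rev, htinv, mul_assoc]]
            rw [show t * (a * (t * a⁻¹ * t)) * t = t * a * t * a⁻¹ * (t * t) by simp only [mul_assoc],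
              htt, mul_one]
          rw [e3, mul_inv_rev a (t * a * t)⁻¹, inv_inv]
      · refine ⟨a * (t * a * t), mul_mem ha (htJ a ha), hf, Or.inl ?_⟩
        rw [show t * (a * (t * a * t)) * t = (t * a * t) * (t * (t * a * t) * t) by
          simp only [mul_assoc]; rw [← mul_assoc t t (t * _), htt, one_mul], h1,
          hJc a ha _ (htJ a ha)]
    have hnorm : Subgroup.zpowers b ≤ Subgroup.normalizer (A : Set G) :=
      (Subgroup.zpowers_le.2 hbJ).trans (hJnorm A hAJ)
    have hmem : (Subgroup.zpowers b ⊔ A) ∈ good := by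
      refine ⟨sup_le (Subgroup.zpowers_le.2 hbJ) hAJ, eq_bot_iff.2 fun x hx => ?_, fun x hx => ?_⟩
      · obtain ⟨_, ⟨i, rfl⟩, α, hα, he⟩ := (CfsgLib.Solvable.mem_sup_of_le_normalizer hnorm).1 hx.1
        dsimp only at he
        have hbi : b ^ i ∈ A ⊔ Z := by
          rw [show b ^ i = x * α⁻¹ by rw [← he, mul_inv_cancel_right]]
          exact mul_mem (Subgroup.mem_sup_right hx.2) (Subgroup.mem_sup_left (inv_mem hα))
        have hi : (3 : ℤ) ∣ i := by
          by_contra hi
          have hb3 : b ^ (3 : ℤ) = 1 := by exact_mod_cast hJexp b hbJ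
          obtain ⟨u, v, huv⟩ := (Int.prime_three.coprime_iff_not_dvd.2 hi)
          apply hbn
          rw [show b = (b ^ i) ^ v by
            rw [← zpow_mul, show i * v = 1 + 3 * (-u) by linarith, zpow_add, zpow_mul b 3, hb3,
              one_zpow, mul_one, zpow_one]]
          exact zpow_mem hbi v
        obtain ⟨k, rfl⟩ := hi
        have hb3 : b ^ (3 : ℤ) = 1 := by exact_mod_cast hJexp b hbJ
        rw [zpow_mul, hb3, one_zpow, one_mul] at he
        rw [← hAZ]
        exact ⟨he ▸ hα, hx.2⟩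
      · obtain ⟨_, ⟨i, rfl⟩, α, hα, rfl⟩ := (CfsgLib.Solvable.mem_sup_of_le_normalizer hnorm).1 hx
        show t * (b ^ i * α) * t ∈ _
        rw [show t * (b ^ i * α) * t = t * b ^ i * t⁻¹ * (t * α * t) by
          simp only [htinv, mul_assoc]; rw [← mul_assoc t t (α * t), htt, one_mul], ← conj_zpow, htinv]
        refine mul_mem (Subgroup.mem_sup_left ?_) (Subgroup.mem_sup_right (hAt α hα))
        rcases hbt with e | e <;> rw [e]
        · exact ⟨i, rfl⟩
        · exact ⟨-i, by simp⟩
    exact hbn (Subgroup.mem_sup_left (hAmax hmem le_sup_right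
      (Subgroup.mem_sup_left (Subgroup.mem_zpowers b))))
  have hAcard : Nat.card A = 9 := by
    have h := CfsgLib.Solvable.card_sup_of_disjoint (A := A) (K := Z) (hAJ.trans (hJnorm Z hZJ)) hAZ
    rw [hAZJ, hJcard, hZcard] at h
    omega
  -- the point stabiliser
  have hTA : (T : Subgroup G) ≤ Subgroup.normalizer (A : Set G) := by
    rw [← htgen, Subgroup.zpowers_le, Subgroup.mem_normalizer_iff]
    refine fun x => ⟨fun hx => by rw [htinv]; exact hAt x hx, fun hx => ?_⟩
    have h := hAt _ hx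
    rwa [htinv, show t * (t * x * t) * t = (t * t) * x * (t * t) by simp only [mul_assoc], htt,
      one_mul, mul_one] at h
  set L := (T : Subgroup G) ⊔ A with hL
  have hTAdis : (T : Subgroup G) ⊓ A = ⊥ := Subgroup.inf_eq_bot_of_coprime (by rw [hTcard, hAcard]; decide)
  have hLcard : Nat.card L = 18 := by
    rw [hL, CfsgLib.Solvable.card_sup_of_disjoint hTA hTAdis, hTcard, hAcard]
  have hLZ : ∀ x ∈ L, x ∈ Z → x = 1 := by
    intro x hx hxZ
    obtain ⟨τ, hτ, α, hα, rfl⟩ := (CfsgLib.Solvable.mem_sup_of_le_normalizer hTA).1 hx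
    have hτJ : τ ∈ J := by
      rw [show τ = τ * α * α⁻¹ by group]
      exact mul_mem (hZJ hxZ) (inv_mem (hAJ hα))
    have hτ1 : τ = 1 := by
      have h := Subgroup.inf_eq_bot_of_coprime (H := (T : Subgroup G)) (K := J)
        (by rw [hTcard, hJcard]; decide)
      exact Subgroup.mem_bot.1 (h ▸ ⟨hτ, hτJ⟩)
    rw [hτ1, one_mul] at hxZ ⊢
    exact Subgroup.mem_bot.1 (hAZ ▸ ⟨hα, hxZ⟩)
  obtain ⟨⟨z, hzZ⟩, hz0⟩ := exists_prime_orderOf_dvd_card' (G := Z) 3 (by rw [hZcard])
  have hz : orderOf z = 3 := by rw [← Subgroup.orderOf_coe] at hz0; exact hz0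
  have hz1 : z ≠ 1 := fun e => by rw [e, orderOf_one] at hz; omega
  have hzc : ∀ g : G, g * z = z * g := by
    intro g
    have htop : (S : Subgroup G) ⊔ (T : Subgroup G) = ⊤ := by
      refine Subgroup.eq_top_of_le_card _ ?_
      have h1 := Subgroup.card_dvd_of_le (le_sup_left : (S : Subgroup G) ≤ (S : Subgroup G) ⊔ T)
      have h2 := Subgroup.card_dvd_of_le (le_sup_right : (T : Subgroup G) ≤ (S : Subgroup G) ⊔ T)
      rw [hScard] at h1
      rw [hTcard] at h2
      rw [hG]
      exact Nat.le_of_dvd Nat.card_pos (Nat.Coprime.mul_dvd_of_dvd_of_dvd (by decide) h1 h2)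
    have hle : (S : Subgroup G) ⊔ (T : Subgroup G) ≤ Subgroup.centralizer ({z} : Set G) :=
      sup_le (fun s hs => Subgroup.mem_centralizer_singleton_iff.2 ((hzS z hzZ).2 s hs))
        (fun s hs => Subgroup.mem_centralizer_singleton_iff.2
          (Subgroup.mem_centralizer_iff.1 (hZT hzZ) s hs))
    exact Subgroup.mem_centralizer_singleton_iff.1 (hle (htop ▸ Subgroup.mem_top g))
  have hcore : L.normalCore = ⊥ := by
    have hNS : L.normalCore ⊓ (S : Subgroup G) = ⊥ := by
      by_contra hne
      exact hz1 (hLZ z (L.normalCore_le (hmeet _ inferInstance hne hzZ)) hzZ)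
    by_contra hne
    obtain ⟨k, hk, hk1⟩ := (Subgroup.bot_or_exists_ne_one _).resolve_left hne
    have hcomm : ∀ s ∈ (S : Subgroup G), s * k = k * s := by
      intro s hs
      have hSn : (S : Subgroup G).Normal := Subgroup.normal_of_index_eq_two (by
        have := (S : Subgroup G).card_mul_index
        rw [hScard, hG] at this
        omega)
      have h1 : s * k * s⁻¹ * k⁻¹ ∈ L.normalCore ⊓ (S : Subgroup G) := by
        refine ⟨mul_mem ((Subgroup.normalCore_normal L).conj_mem k hk s) (Subgroup.inv_mem _ hk), ?_⟩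
        rw [show s * k * s⁻¹ * k⁻¹ = s * (k * s⁻¹ * k⁻¹) by group]
        exact mul_mem hs (hSn.conj_mem _ ((S : Subgroup G).inv_mem hs) k)
      rw [hNS, Subgroup.mem_bot, mul_inv_eq_one, mul_inv_eq_iff_eq_mul] at h1
      exact h1
    obtain ⟨τ, hτ, α, hα, rfl⟩ :=
      (CfsgLib.Solvable.mem_sup_of_le_normalizer hTA).1 (L.normalCore_le hk)
    rw [← htgen] at hτ
    obtain ⟨i, rfl⟩ := hτ
    dsimp only at hcomm hk hk1
    have hti : t ^ (2 : ℤ) = 1 := by rw [zpow_two, htt]
    obtain ⟨j, rfl | rfl⟩ := Int.even_or_odd' i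
    · rw [zpow_mul, hti, one_zpow, one_mul] at hk hk1
      exact hk1 (Subgroup.mem_bot.1 (hNS ▸ ⟨hk, hJS (hAJ hα)⟩))
    · simp only [zpow_add, zpow_mul, hti, one_zpow, one_mul, zpow_one] at hcomm hk
      have htα : t * α = α * t := by
        have h1 := hcomm α (hJS (hAJ hα))
        rw [← mul_assoc] at h1
        exact (mul_right_cancel h1).symm
      have ht' : t ∈ L.normalCore := by
        have h1 := pow_mem hk 3
        rw [(show Commute t α from htα).mul_pow, hJexp α (hAJ hα), mul_one, pow_succ, pow_two, htt,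
          one_mul] at h1
        exact h1
      refine hST (inf_eq_left.2 fun s hs => Subgroup.mem_centralizer_iff.2 fun τ hτ => ?_)
      have hts : s * t = t * s := by
        have h1 : s * t * s⁻¹ * t⁻¹ ∈ L.normalCore ⊓ (S : Subgroup G) := by
          have hSn : (S : Subgroup G).Normal := Subgroup.normal_of_index_eq_two (by
            have := (S : Subgroup G).card_mul_index
            rw [hScard, hG] at this
            omega)
          refine ⟨mul_mem ((Subgroup.normalCore_normal L).conj_mem t ht' s) (Subgroup.inv_mem _ ht'), ?_⟩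
          rw [show s * t * s⁻¹ * t⁻¹ = s * (t * s⁻¹ * t⁻¹) by group]
          exact mul_mem hs (hSn.conj_mem _ ((S : Subgroup G).inv_mem hs) t)
        rw [hNS, Subgroup.mem_bot, mul_inv_eq_one, mul_inv_eq_iff_eq_mul] at h1
        exact h1
      rw [← htgen] at hτ
      obtain ⟨i, rfl⟩ := hτ
      exact ((show Commute s t from hts).zpow_right i).eq.symm
  -- the action on nine points
  have hidx : Nat.card (G ⧸ L) = 9 := by
    have := L.card_mul_index
    rw [hLcard, hG] at this
    rw [← Subgroup.index_eq_card]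
    omega
  let e : (G ⧸ L) ≃ Fin 9 := Finite.equivFinOfCardEq hidx
  let f : G →* Equiv.Perm (Fin 9) := e.permCongrHom.toMonoidHom.comp (MulAction.toPermHom G (G ⧸ L))
  have hf : Function.Injective f := by
    refine e.permCongrHom.injective.comp ((MonoidHom.ker_eq_bot_iff _).1 ?_)
    rw [← Subgroup.normalCore_eq_ker, hcore]
  have hfix : ∀ i : Fin 9, f z i ≠ i := by
    intro i hi
    have h1 : z • e.symm i = e.symm i := by
      have h2 : e (z • e.symm i) = i := hi
      exact e.eq_symm_apply.2 h2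
    obtain ⟨g, hg⟩ := QuotientGroup.mk_surjective (e.symm i)
    rw [← hg, MulAction.Quotient.smul_mk, smul_eq_mul, QuotientGroup.eq] at h1
    rw [← hzc g, mul_inv_rev, inv_mul_cancel_right] at h1
    exact hz1 (hLZ z (by simpa using inv_mem h1) hzZ)
  have htype : (f z).cycleType = Multiset.replicate 3 3 := by
    obtain ⟨k, hk⟩ := Equiv.Perm.cycleType_prime_order (σ := f z)
      (by rw [orderOf_injective f hf, hz]; exact Nat.prime_three)
    rw [orderOf_injective f hf, hz] at hk
    have hs : (f z).support = Finset.univ :=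
      Finset.eq_univ_iff_forall.2 fun i => Equiv.Perm.mem_support.2 (hfix i)
    have h9 : (f z).cycleType.sum = 9 := by rw [Equiv.Perm.sum_cycleType, hs]; rfl
    rw [hk, Multiset.sum_replicate, smul_eq_mul] at h9
    rw [hk, show k + 1 = 3 by omega]
  set σ := Equiv.swap (0 : Fin 9) 1 * Equiv.swap 1 2 * Equiv.swap 3 4 * Equiv.swap 4 5 *
    Equiv.swap 6 7 * Equiv.swap 7 8 with hσ
  have hσtype : σ.cycleType = Multiset.replicate 3 3 := by
    have hord : orderOf σ = 3 := orderOf_eq_prime
      (by rw [hσ]; decide) (by rw [hσ]; decide)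
    obtain ⟨k, hk⟩ := Equiv.Perm.cycleType_prime_order (σ := σ) (by rw [hord]; exact Nat.prime_three)
    rw [hord] at hk
    have hs : σ.support = Finset.univ :=
      Finset.eq_univ_iff_forall.2 fun i => Equiv.Perm.mem_support.2 (by rw [hσ]; revert i; decide)
    have h9 : σ.cycleType.sum = 9 := by rw [Equiv.Perm.sum_cycleType, hs]; rfl
    rw [hk, Multiset.sum_replicate, smul_eq_mul] at h9
    rw [hk, show k + 1 = 3 by omega]
  obtain ⟨c, hc⟩ := isConj_iff.1 (Equiv.Perm.isConj_iff_cycleType_eq.2 (htype.trans hσtype.symm))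
  let F : G →* Subgroup.centralizer ({σ} : Set (Equiv.Perm (Fin 9))) :=
    ((MulAut.conj c).toMonoidHom.comp f).codRestrict _ fun g => by
      rw [Subgroup.mem_centralizer_singleton_iff, ← hc]
      show MulAut.conj c (f g) * MulAut.conj c (f z) = MulAut.conj c (f z) * MulAut.conj c (f g)
      rw [← map_mul, ← map_mul, ← map_mul, ← map_mul, hzc]
  have hFinj : Function.Injective F := fun a b hab =>
    hf ((MulAut.conj c).injective (congrArg Subtype.val hab :))
  refine ⟨MulEquiv.ofBijective F ((Nat.bijective_iff_injective_and_card F).2 ⟨hFinj, ?_⟩)⟩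
  rw [hG, Equiv.Perm.nat_card_centralizer, hσtype]
  simp [Multiset.toFinset_replicate, Multiset.count_replicate_self, Nat.factorial]

end Cfsg.Agent.S3376
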