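import Cfsg.Statements.S3379
import Mathlib.GroupTheory.SpecificGroups.ZGroup

open scoped commutatorElement

set_option autoImplicit false
open Cfsg

namespace Cfsg.Agent.S3379

/-- Let G be a finite group all of whose Sylow subgroups are cyclic. Then G is generated by two elements x and y of coprime orders n and m with x⁻¹yx = y^r, where gcd(r − 1, m) = 1 and r^n ≡ 1 (mod m). -/
theorem result {G : Type*} [Group G] [Finite G]
    (hZ : ∀ (p : ℕ) [Fact p.Prime] (P : Sylow p G), IsCyclic (P : Subgroup G)) :
    ∃ (x y : G) (n m r : ℕ), Subgroup.closure {x, y} = ⊤ ∧ orderOf x = n ∧ orderOf y = m ∧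
      x⁻¹ * y * x = y ^ r ∧ Nat.Coprime (r - 1) m ∧ Nat.Coprime n m ∧ 1 ≤ r ∧ r ^ n % m = 1 % m := by
  have hG : IsZGroup G := ⟨fun p hp P => have := Fact.mk hp; hZ p P⟩
  obtain ⟨H, hH⟩ := Subgroup.exists_right_complement'_of_coprime hG.coprime_commutator_index
  have h1 : Abelianization G ≃* H := hH.symm.QuotientMulEquiv
  have hHc : IsCyclic H := isCyclic_of_surjective _ h1.surjective
  have hNc : IsCyclic (commutator G) := hG.isCyclic_commutator
  obtain ⟨⟨y, hy⟩, hygen⟩ := hNc.exists_generator
  obtain ⟨⟨x, hx⟩, hxgen⟩ := hHc.exists_generator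
  have hN : commutator G = Subgroup.zpowers y := by
    refine le_antisymm (fun a ha => ?_) (Subgroup.zpowers_le.2 hy)
    obtain ⟨k, hk⟩ := hygen ⟨a, ha⟩
    exact ⟨k, congrArg Subtype.val hk⟩
  have hHx : H = Subgroup.zpowers x := by
    refine le_antisymm (fun a ha => ?_) (Subgroup.zpowers_le.2 hx)
    obtain ⟨k, hk⟩ := hxgen ⟨a, ha⟩
    exact ⟨k, congrArg Subtype.val hk⟩
  have hm : orderOf y = Nat.card (commutator G) := by rw [hN, Nat.card_zpowers]
  have hn : orderOf x = (commutator G).index := by
    rw [hH.symm.index_eq_card, hHx, Nat.card_zpowers]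
  have hcop : Nat.Coprime (orderOf x) (orderOf y) := by
    rw [hm, hn]; exact hG.coprime_commutator_index.symm
  have hnor : (commutator G).Normal := inferInstance
  have hconj : ∀ g : G, ∃ k : ℤ, g * y * g⁻¹ = y ^ k := fun g => by
    have := hnor.conj_mem y hy g
    rw [hN] at this
    obtain ⟨k, hk⟩ := this
    exact ⟨k, hk.symm⟩
  obtain ⟨k, hk⟩ := hconj x⁻¹
  rw [inv_inv] at hk
  have hm0 : 0 < orderOf y := orderOf_pos y
  have hkm : (0 : ℤ) ≤ k % (orderOf y : ℤ) := Int.emod_nonneg _ (by omega)
  refine ⟨x, y, orderOf x, orderOf y, (k % (orderOf y : ℤ)).toNat + orderOf y, ?_, rfl, rfl, ?_,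
    ?_, hcop, by omega, ?_⟩
  · rw [eq_top_iff, ← hH.sup_eq_top, hN, hHx]
    refine sup_le (Subgroup.zpowers_le.2 (Subgroup.subset_closure (by simp)))
      (Subgroup.zpowers_le.2 (Subgroup.subset_closure (by simp)))
  all_goals
    have hr : x⁻¹ * y * x = y ^ ((k % (orderOf y : ℤ)).toNat + orderOf y) := by
      rw [hk, pow_add, pow_orderOf_eq_one, mul_one, ← zpow_natCast, Int.toNat_of_nonneg hkm,
        zpow_mod_orderOf]
    generalize hr0 : (k % (orderOf y : ℤ)).toNat + orderOf y = r at hr ⊢
  · exact hr
  · set K := Subgroup.zpowers (y ^ (r - 1)) with hK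
    have hKn : K.Normal := ⟨fun a ha g => by
      obtain ⟨i, rfl⟩ := ha
      obtain ⟨j, hj⟩ := hconj g
      refine ⟨j * i, ?_⟩
      show (y ^ (r - 1)) ^ (j * i) = g * (y ^ (r - 1)) ^ i * g⁻¹
      rw [← conj_zpow, ← conj_pow, hj]
      simp only [← zpow_natCast, ← zpow_mul]
      congr 1
      ring⟩
    have hle : commutator G ≤ K := by
      have hcomm : Commute (x : G ⧸ K) (y : G ⧸ K) := by
        have h1 : x⁻¹ * y * x * y⁻¹ ∈ K := by
          rw [hr, show y ^ r * y⁻¹ = y ^ (r - 1) by rw [pow_sub y (show 1 ≤ r by omega), pow_one]]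
          exact Subgroup.mem_zpowers _
        have h2 := (QuotientGroup.eq_one_iff _).2 h1
        rw [QuotientGroup.mk_mul, QuotientGroup.mk_mul, QuotientGroup.mk_mul,
          QuotientGroup.mk_inv, QuotientGroup.mk_inv, mul_inv_eq_one, mul_assoc,
          inv_mul_eq_iff_eq_mul] at h2
        exact h2.symm
      have hgen : ∀ a : G, Commute (a : G ⧸ K) (x : G ⧸ K) ∧ Commute (a : G ⧸ K) (y : G ⧸ K) := by
        intro a
        have ha : a ∈ Subgroup.closure ({x, y} : Set G) := by
          have : (⊤ : Subgroup G) ≤ Subgroup.closure ({x, y} : Set G) := by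
            rw [← hH.sup_eq_top, hN, hHx]
            exact sup_le (Subgroup.zpowers_le.2 (Subgroup.subset_closure (by simp)))
              (Subgroup.zpowers_le.2 (Subgroup.subset_closure (by simp)))
          exact this trivial
        induction ha using Subgroup.closure_induction with
        | mem z hz =>
          rcases hz with rfl | rfl
          · exact ⟨Commute.refl _, hcomm⟩
          · exact ⟨hcomm.symm, Commute.refl _⟩
        | one => simp [Commute.one_left]
        | mul a b _ _ ha hb =>
          rw [QuotientGroup.mk_mul]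
          exact ⟨ha.1.mul_left hb.1, ha.2.mul_left hb.2⟩
        | inv a _ ha =>
          rw [QuotientGroup.mk_inv]
          exact ⟨ha.1.inv_left, ha.2.inv_left⟩
      rw [commutator_def, Subgroup.commutator_le]
      intro a _ b hbT
      clear hbT
      rw [← QuotientGroup.eq_one_iff]
      show (QuotientGroup.mk' K) ⁅a, b⁆ = 1
      rw [map_commutatorElement, commutatorElement_eq_one_iff_commute]
      have hb : b ∈ Subgroup.closure ({x, y} : Set G) := by
        have : (⊤ : Subgroup G) ≤ Subgroup.closure ({x, y} : Set G) := by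
          rw [← hH.sup_eq_top, hN, hHx]
          exact sup_le (Subgroup.zpowers_le.2 (Subgroup.subset_closure (by simp)))
            (Subgroup.zpowers_le.2 (Subgroup.subset_closure (by simp)))
        exact this trivial
      induction hb using Subgroup.closure_induction with
      | mem z hz =>
        rcases hz with rfl | rfl
        · exact (hgen a).1
        · exact (hgen a).2
      | one => simp [Commute.one_right]
      | mul b c _ _ hb hc => rw [map_mul]; exact hb.mul_right hc
      | inv b _ hb => rw [map_inv]; exact hb.inv_right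
    have hd := Subgroup.card_dvd_of_le hle
    rw [← hm, hK, Nat.card_zpowers] at hd
    have hg : orderOf (y ^ (r - 1)) = orderOf y / Nat.gcd (orderOf y) (r - 1) := orderOf_pow y
    have heq : orderOf (y ^ (r - 1)) = orderOf y := Nat.dvd_antisymm (orderOf_pow_dvd _) hd
    rw [heq] at hg
    show Nat.gcd (r - 1) (orderOf y) = 1
    rw [Nat.gcd_comm]
    have hdvd := Nat.gcd_dvd_left (orderOf y) (r - 1)
    obtain ⟨c, hc⟩ := hdvd
    generalize hgg : Nat.gcd (orderOf y) (r - 1) = g at hg hc ⊢
    rcases Nat.eq_zero_or_pos g with h0 | h0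
    · subst h0; omega
    · conv at hg => rhs; rw [hc, Nat.mul_div_cancel_left _ h0]
      rw [← hg] at hc
      nlinarith
  · refine pow_eq_pow_iff_modEq.1 (?_ : y ^ (r ^ orderOf x) = y ^ 1)
    have hind : ∀ i : ℕ, (x ^ i)⁻¹ * y * x ^ i = y ^ (r ^ i) := fun i => by
      induction i with
      | zero => simp
      | succ i ih =>
        have e : (x ^ (i + 1))⁻¹ * y * x ^ (i + 1) =
            x⁻¹ * ((x ^ i)⁻¹ * y * x ^ i) * x := by
          rw [pow_succ]; group
        rw [e, ih]
        have c := conj_pow (a := x⁻¹) (b := y) (i := r ^ i)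
        rw [inv_inv] at c
        rw [← c, hr, ← pow_mul, ← pow_succ']
    rw [← hind, pow_orderOf_eq_one, inv_one, one_mul, mul_one, pow_one]

end Cfsg.Agent.S3379
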