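import Cfsg.Statements.S3380
import Cfsg.Agent.CyclicNormal.Omega

set_option autoImplicit false
open Cfsg

namespace Cfsg.Agent.S3380

/-- Let a finite p-group G act faithfully and irreducibly on a non-trivial finite vector space V over the field with q elements (q prime), and suppose G is not cyclic, generalized quaternion, dihedral or semidihedral. Then G has a subgroup H of index p and V is the direct sum of p subspaces, each invariant under H, on none of which H acts faithfully, and which every element of G outside H permutes in a single p-cycle. -/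
theorem result
    (q : ℕ) [Fact q.Prime] {V : Type*} [AddCommGroup V] [Module (ZMod q) V] [Finite V] [Nontrivial V]
    {G : Type*} [Group G] [Finite G] (p : ℕ) [Fact p.Prime] (hG : IsPGroup p G)
    (ρ : G →* (V ≃ₗ[ZMod q] V)) (hρ : Function.Injective ρ)
    (hirr : ∀ W : Submodule (ZMod q) V, (∀ g : G, ∀ w ∈ W, ρ g w ∈ W) → W = ⊥ ∨ W = ⊤)
    (hnc : ¬ IsCyclic G) (hnq : ∀ n : ℕ, ¬ Nonempty (G ≃* QuaternionGroup n))
    (hnd : ∀ n : ℕ, ¬ Nonempty (G ≃* DihedralGroup n)) (hnsd : ¬ Cfsg.IsQuasiDihedral G) :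
    ∃ (H : Subgroup G) (W : Fin p → Submodule (ZMod q) V), H.index = p ∧
      iSup W = ⊤ ∧ iSupIndep W ∧
      (∀ h ∈ H, ∀ i, ∀ w ∈ W i, ρ h w ∈ W i) ∧
      (∀ i, ∃ h ∈ H, h ≠ 1 ∧ ∀ w ∈ W i, ρ h w = w) ∧
      ∀ g : G, g ∉ H → ∃ σ : Equiv.Perm (Fin p), orderOf σ = p ∧ ∀ i, (W i).map (ρ g : V →ₗ[ZMod q] V) = W (σ i) := by
  classical
  have hpp := (Fact.out : p.Prime)
  have hq := (Fact.out : q.Prime)
  -- no nonzero vector is fixed by everything
  have hfix0 : ∀ v : V, (∀ g : G, ρ g v = v) → v = 0 := by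
    intro v hv
    let F : Submodule (ZMod q) V :=
      { carrier := {w | ∀ g : G, ρ g w = w}
        add_mem' := fun ha hb g => by rw [map_add, ha g, hb g]
        zero_mem' := fun g => map_zero _
        smul_mem' := fun c w hw g => by rw [map_smul, hw g] }
    rcases hirr F (fun g w hw h => by
        rw [hw g]; exact hw h) with hF | hF
    · exact (Submodule.mem_bot _).mp (hF ▸ hv : v ∈ (⊥ : Submodule (ZMod q) V))
    · refine absurd ?_ hnc
      have htriv : ∀ g : G, g = 1 := fun g => hρ (LinearEquiv.ext fun w => by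
        rw [map_one]
        exact ((hF ▸ Submodule.mem_top : w ∈ F) : ∀ g : G, ρ g w = w) g)
      exact isCyclic_iff_exists_zpowers_eq_top.mpr
        ⟨1, eq_top_iff.mpr fun x _ => by rw [htriv x]; exact Subgroup.one_mem _⟩
  -- `p` is invertible
  have hpq : p ≠ q := by
    rintro rfl
    letI : MulAction G V :=
      { smul := fun g v => ρ g v
        one_smul := fun v => show ρ 1 v = v by rw [map_one]; rfl
        mul_smul := fun a b v => show ρ (a * b) v = ρ a (ρ b v) by rw [map_mul]; rfl }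
    have hd : p ∣ Nat.card V := by
      obtain ⟨v, hv⟩ := exists_ne (0 : V)
      have ho : addOrderOf v = p := by
        refine addOrderOf_eq_prime ?_ hv
        rw [← Nat.cast_smul_eq_nsmul (ZMod p), ZMod.natCast_self, zero_smul]
      have h := addOrderOf_dvd_natCard v
      rwa [ho] at h
    obtain ⟨v, hv, hv0⟩ := hG.exists_fixed_point_of_prime_dvd_card_of_fixed_point V hd
      (a := (0 : V)) (fun g => map_zero (ρ g))
    exact hv0 (hfix0 v hv).symm
  have hpne : (p : ZMod q) ≠ 0 := by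
    rw [Ne, ← Nat.cast_zero, ZMod.natCast_eq_natCast_iff, Nat.modEq_zero_iff_dvd]
    exact fun h => hpq ((Nat.prime_dvd_prime_iff_eq hq hpp).mp h).symm
  obtain ⟨E, hEn, hEe, hEc⟩ := Cfsg.Agent.CyclicNormal.exists_normal_sq hG hnc (fun _ h => by
    rcases h with ⟨m, h⟩ | ⟨m, h⟩ | h
    · exact hnd m h
    · exact hnq m h
    · exact hnsd h)
  haveI := hEn
  have hEbot : E ≠ ⊥ := fun h => by
    rw [h, Subgroup.card_bot] at hEc
    have := Nat.one_lt_pow two_ne_zero hpp.one_lt
    omega
  obtain ⟨c, hcE, hc1, hcZ⟩ := CfsgLib.UniqueInvol.exists_central hG E hEbot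
  have hcp : c ^ p = 1 := hEe.2 c hcE
  have hoc : orderOf c = p := orderOf_eq_prime hcp hc1
  obtain ⟨y, hyE, hyc⟩ : ∃ y ∈ E, y ∉ Subgroup.zpowers c := by
    by_contra h
    push Not at h
    have := Subgroup.card_le_of_le (H := E) (K := Subgroup.zpowers c) h
    rw [hEc, Nat.card_zpowers, hoc] at this
    have := hpp.one_lt
    nlinarith [pow_two p]
  have hyp : y ^ p = 1 := hEe.2 y hyE
  have hcy : Commute c y := (Subgroup.mem_center_iff.mp hcZ y).symm
  -- the operators
  let f : G →* Module.End (ZMod q) V :=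
    { toFun := fun g => (ρ g : V →ₗ[ZMod q] V)
      map_one' := by rw [map_one]; rfl
      map_mul' := fun a b => by rw [map_mul]; rfl }
  have fapp : ∀ a b w, f (a * b) w = f a (f b w) := fun a b w => by rw [map_mul]; rfl
  have hc0 : ∀ v, f c v = v → v = 0 := by
    intro v hv
    let F : Submodule (ZMod q) V := LinearMap.ker (f c - 1)
    have hF : ∀ w, w ∈ F ↔ f c w = w := fun w => by simp [F, sub_eq_zero]
    rcases hirr F (fun g w hw => by
        rw [hF] at hw ⊢
        show f c (f g w) = f g w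
        rw [← fapp, ← Subgroup.mem_center_iff.mp hcZ g, fapp, hw]) with h | h
    · exact (Submodule.mem_bot _).mp (h ▸ (hF v).mpr hv : v ∈ (⊥ : Submodule (ZMod q) V))
    · refine absurd (hρ (LinearEquiv.ext fun w => ?_) : c = 1) hc1
      rw [map_one]
      exact (hF w).mp (h ▸ Submodule.mem_top)
  have hsum0 : ∀ w : V, ∑ k ∈ Finset.range p, f (c ^ k) w = 0 := by
    intro w
    refine hc0 _ ?_
    rw [map_sum]
    have e : ∀ k, f c (f (c ^ k) w) = f (c ^ (k + 1)) w := fun k => by rw [← fapp, pow_succ']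
    simp only [e]
    have h1 := Finset.sum_range_succ' (fun k => f (c ^ k) w) p
    have h2 := Finset.sum_range_succ (fun k => f (c ^ k) w) p
    rw [hcp] at h2
    simp only [pow_zero] at h1
    exact add_right_cancel (h1.symm.trans h2)
  -- the lines different from the central one
  let e : ZMod p → G := fun i => y * c ^ i.val
  have hpowc : ∀ m : ℕ, c ^ m = c ^ (m % p) := fun m => by
    rw [← hoc]; exact pow_mod_orderOf c m ▸ rfl
  let W : Fin p → Submodule (ZMod q) V := fun i => LinearMap.ker (f (y * c ^ (i : ℕ)) - 1)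
  have hW : ∀ i w, w ∈ W i ↔ f (y * c ^ (i : ℕ)) w = w := fun i w => by simp [W, sub_eq_zero]
  let P : Fin p → Module.End (ZMod q) V := fun i =>
    (p : ZMod q)⁻¹ • ∑ k ∈ Finset.range p, f ((y * c ^ (i : ℕ)) ^ k)
  have hord : ∀ i : ℕ, (y * c ^ i) ^ p = 1 := fun i => by
    rw [(hcy.symm.pow_right i).mul_pow, hyp, ← pow_mul, mul_comm, pow_mul, hcp, one_pow, one_mul]
  have hPW : ∀ i v, P i v ∈ W i := by
    intro i v
    rw [hW]
    simp only [P, LinearMap.smul_apply, LinearMap.sum_apply, map_smul, map_sum]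
    congr 1
    have e : ∀ k, f (y * c ^ (i : ℕ)) (f ((y * c ^ (i : ℕ)) ^ k) v) = f ((y * c ^ (i : ℕ)) ^ (k + 1)) v :=
      fun k => by rw [← fapp, pow_succ']
    simp only [e]
    have h1 := Finset.sum_range_succ' (fun k => f ((y * c ^ (i : ℕ)) ^ k) v) p
    have h2 := Finset.sum_range_succ (fun k => f ((y * c ^ (i : ℕ)) ^ k) v) p
    rw [hord] at h2
    simp only [pow_zero] at h1
    exact add_right_cancel (h1.symm.trans h2)
  have hPid : ∀ i w, w ∈ W i → P i w = w := by
    intro i w hw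
    rw [hW] at hw
    have hk : ∀ k : ℕ, f ((y * c ^ (i : ℕ)) ^ k) w = w := fun k => by
      induction k with
      | zero => rw [pow_zero, map_one]; rfl
      | succ k ih => rw [pow_succ, fapp, hw, ih]
    simp only [P, LinearMap.smul_apply, LinearMap.sum_apply, hk, Finset.sum_const, Finset.card_range]
    rw [← Nat.cast_smul_eq_nsmul (ZMod q), smul_smul, inv_mul_cancel₀ hpne, one_smul]
  have hcne : ∀ k : ℕ, 0 < k → k < p → ∀ w, f (c ^ k) w = w → w = 0 := by
    intro k hk hkp w hw
    have hco : k.Coprime p := (Nat.coprime_of_lt_prime hk.ne' hkp hpp).symm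
    obtain ⟨m, hm⟩ := exists_pow_eq_self_of_coprime (x := c) (n := k) (by rwa [hoc])
    refine hc0 w ?_
    rw [← hm]
    clear hm
    induction m with
    | zero => rw [pow_zero, map_one]; rfl
    | succ m ih => rw [pow_succ, fapp, hw, ih]
  have hmeet : ∀ i j, i ≠ j → ∀ w, w ∈ W i → w ∈ W j → w = 0 := by
    have aux : ∀ i j : Fin p, (i : ℕ) < j → ∀ w, w ∈ W i → w ∈ W j → w = 0 := by
      intro i j hij w hi hj
      rw [hW] at hi hj
      refine hcne ((j : ℕ) - i) (Nat.sub_pos_of_lt hij) ((Nat.sub_le _ _).trans_lt j.isLt) w ?_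
      conv_lhs => rw [← hi, ← fapp, ← mul_assoc, ((hcy.pow_left ((j : ℕ) - i))).eq, mul_assoc, ← pow_add,
        Nat.sub_add_cancel hij.le]
      exact hj
    intro i j hij w hi hj
    rcases Nat.lt_or_gt_of_ne (fun h => hij (Fin.ext h)) with h | h
    · exact aux i j h w hi hj
    · exact aux j i h w hj hi
  have hPsum : ∀ v, ∑ i, P i v = v := by
    intro v
    simp only [P, LinearMap.smul_apply, LinearMap.sum_apply, ← Finset.smul_sum]
    rw [Finset.sum_comm, Finset.sum_eq_single_of_mem 0 (Finset.mem_range.mpr hpp.pos)]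
    · simp only [pow_zero, map_one, Module.End.one_apply, Finset.sum_const, Finset.card_univ,
        Fintype.card_fin]
      rw [← Nat.cast_smul_eq_nsmul (ZMod q), smul_smul, inv_mul_cancel₀ hpne, one_smul]
    · intro k hk hk0
      have e : ∀ i : Fin p, f ((y * c ^ (i : ℕ)) ^ k) v = f ((c ^ k) ^ (i : ℕ)) (f (y ^ k) v) := fun i => by
        rw [← fapp, (hcy.symm.pow_right (i : ℕ)).mul_pow, ← pow_mul, ← pow_mul, mul_comm (i : ℕ) k,
          (hcy.symm.pow_pow k (k * (i : ℕ))).eq]
      simp only [e]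
      rw [Fin.sum_univ_eq_sum_range (fun i => f ((c ^ k) ^ i) (f (y ^ k) v)) p]
      refine hcne k (Nat.pos_of_ne_zero hk0) (Finset.mem_range.mp hk) _ ?_
      rw [map_sum]
      have e : ∀ j, f (c ^ k) (f ((c ^ k) ^ j) (f (y ^ k) v)) = f ((c ^ k) ^ (j + 1)) (f (y ^ k) v) :=
        fun j => by rw [← fapp, pow_succ']
      simp only [e]
      have h1 := Finset.sum_range_succ' (fun j => f ((c ^ k) ^ j) (f (y ^ k) v)) p
      have h2 := Finset.sum_range_succ (fun j => f ((c ^ k) ^ j) (f (y ^ k) v)) p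
      rw [← pow_mul c k p, mul_comm k p, pow_mul, hcp, one_pow] at h2
      simp only [pow_zero] at h1
      exact add_right_cancel (h1.symm.trans h2)
  -- conjugation
  have hPcomm : ∀ (i j : Fin p), ∀ w, w ∈ W i → P j w ∈ W i := by
    intro i j w hw
    rw [hW] at hw ⊢
    simp only [P, LinearMap.smul_apply, LinearMap.sum_apply, map_smul, map_sum]
    congr 1
    refine Finset.sum_congr rfl fun k _ => ?_
    have hcomm : Commute (y * c ^ (i : ℕ)) ((y * c ^ (j : ℕ)) ^ k) :=
      (((Commute.refl y).mul_right (hcy.symm.pow_right _)).mul_left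
        ((hcy.pow_left _).mul_right ((Commute.refl c).pow_pow _ _))).pow_right k
    rw [← fapp, hcomm.eq, fapp, hw]
  have hP0 : ∀ i j, i ≠ j → ∀ w, w ∈ W j → P i w = 0 := fun i j hij w hw =>
    hmeet i j hij _ (hPW i w) (hPcomm j i w hw)
  have hdec : ∀ g : G, ∃ t : ZMod p, g * y * g⁻¹ = y * c ^ t.val := by
    intro g
    have hmem : ∀ x ∈ E, ∃ (s : ℕ) (t : ℕ), x = y ^ s * c ^ t := by
      intro x hx
      let F : ZMod p × ZMod p → E := fun st =>
        ⟨y ^ st.1.val * c ^ st.2.val, mul_mem (pow_mem hyE _) (pow_mem hcE _)⟩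
      have hF : Function.Injective F := by
        rintro ⟨s, t⟩ ⟨s', t'⟩ h
        have h' : y ^ s.val * c ^ t.val = y ^ s'.val * c ^ t'.val := congrArg Subtype.val h
        have hs : s = s' := by
          by_contra hne
          have h1 : y ^ ((s.val : ℤ) - s'.val) ∈ Subgroup.zpowers c := by
            refine Subgroup.mem_zpowers_iff.2 ⟨(t'.val : ℤ) - t.val, ?_⟩
            have hc' : Commute (y ^ s'.val) (c ^ t'.val) := hcy.symm.pow_pow _ _
            rw [zpow_sub, zpow_sub, zpow_natCast, zpow_natCast, zpow_natCast, zpow_natCast,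
              eq_mul_inv_iff_mul_eq, mul_assoc, ← (hcy.symm.pow_pow s'.val t.val).inv_right.eq, ← mul_assoc,
              mul_inv_eq_iff_eq_mul, h', hc'.eq]
          have hndvd : ¬ (p : ℤ) ∣ (s.val : ℤ) - s'.val := fun hd => hne (by
            have h0 := (ZMod.intCast_zmod_eq_zero_iff_dvd _ p).mpr hd
            push_cast at h0
            rwa [ZMod.natCast_zmod_val, ZMod.natCast_zmod_val, sub_eq_zero] at h0)
          obtain ⟨u, w, huw⟩ := (Nat.prime_iff_prime_int.mp hpp).irreducible.coprime_iff_not_dvd.mpr hndvd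
          refine hyc ?_
          rw [show y = (y ^ (p : ℤ)) ^ u * (y ^ ((s.val : ℤ) - s'.val)) ^ w by
            rw [← zpow_mul, ← zpow_mul, ← zpow_add,
              show (p : ℤ) * u + ((s.val : ℤ) - s'.val) * w = 1 by linear_combination huw, zpow_one],
            zpow_natCast, hyp, one_zpow, one_mul]
          exact zpow_mem h1 w
        subst hs
        have h2 := mul_left_cancel h'
        rw [pow_eq_pow_iff_modEq, hoc] at h2
        have ht := Nat.ModEq.eq_of_lt_of_lt h2 (ZMod.val_lt t) (ZMod.val_lt t')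
        rw [ZMod.val_injective p ht]
      have hbij : Function.Bijective F := (Nat.bijective_iff_injective_and_card F).mpr
        ⟨hF, by rw [Nat.card_prod, Nat.card_zmod, hEc, pow_two]⟩
      obtain ⟨⟨s, t⟩, hst⟩ := hbij.surjective ⟨x, hx⟩
      exact ⟨s.val, t.val, (congrArg Subtype.val hst).symm⟩
    obtain ⟨s, t, hst⟩ := hmem _ (hEn.conj_mem y hyE g)
    have hiter : ∀ m : ℕ, ∃ t' : ℕ, g ^ m * y * (g ^ m)⁻¹ = y ^ (s ^ m) * c ^ t' := by
      intro m
      induction m with
      | zero => exact ⟨0, by simp⟩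
      | succ m ih =>
        obtain ⟨t', ht'⟩ := ih
        refine ⟨t * s ^ m + t', ?_⟩
        have hgc : g * c ^ t' * g⁻¹ = c ^ t' := by
          rw [Subgroup.mem_center_iff.mp (Subgroup.pow_mem _ hcZ t') g, mul_inv_cancel_right]
        calc g ^ (m + 1) * y * (g ^ (m + 1))⁻¹ = g * (g ^ m * y * (g ^ m)⁻¹) * g⁻¹ := by
              rw [pow_succ']; group
          _ = (g * y * g⁻¹) ^ (s ^ m) * (g * c ^ t' * g⁻¹) := by rw [ht', conj_pow]; group
          _ = _ := by
              rw [hst, hgc, (hcy.symm.pow_pow s t).mul_pow, ← pow_mul, ← pow_mul, pow_add c, pow_succ' s,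
                mul_assoc]
    obtain ⟨m, hm⟩ := hG g
    obtain ⟨t', ht'⟩ := hiter (p ^ m)
    rw [hm, one_mul, inv_one, mul_one] at ht'
    have hs : (s : ZMod p) = 1 := by
      have h1 : y ^ ((s ^ p ^ m : ℕ) : ℤ) * (y ^ (1 : ℤ))⁻¹ ∈ Subgroup.zpowers c := by
        rw [zpow_one, zpow_natCast]
        have : y ^ (s ^ p ^ m) = y * (c ^ t')⁻¹ := by
          conv_rhs => rw [ht']
          rw [mul_inv_cancel_right]
        rw [this, (hcy.symm.pow_right t').inv_right.eq, mul_inv_cancel_right]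
        exact inv_mem (pow_mem (Subgroup.mem_zpowers c) _)
      rw [← zpow_sub] at h1
      by_contra hne
      have hndvd : ¬ (p : ℤ) ∣ ((s ^ p ^ m : ℕ) : ℤ) - 1 := fun hd => hne (by
        have h0 := (ZMod.intCast_zmod_eq_zero_iff_dvd _ p).mpr hd
        push_cast at h0
        rwa [ZMod.pow_card_pow, sub_eq_zero] at h0)
      obtain ⟨u, w, huw⟩ := (Nat.prime_iff_prime_int.mp hpp).irreducible.coprime_iff_not_dvd.mpr hndvd
      refine hyc ?_
      rw [show y = (y ^ (p : ℤ)) ^ u * (y ^ (((s ^ p ^ m : ℕ) : ℤ) - 1)) ^ w by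
        rw [← zpow_mul, ← zpow_mul, ← zpow_add,
          show (p : ℤ) * u + (((s ^ p ^ m : ℕ) : ℤ) - 1) * w = 1 by linear_combination huw, zpow_one],
        zpow_natCast, hyp, one_zpow, one_mul]
      exact zpow_mem h1 w
    refine ⟨(t : ZMod p), ?_⟩
    rw [hst, ZMod.val_natCast, ← hpowc]
    congr 1
    have : y ^ s = y ^ 1 := by
      rw [pow_eq_pow_iff_modEq, orderOf_eq_prime hyp (fun h => hyc (h ▸ one_mem _)),
        ← ZMod.natCast_eq_natCast_iff]
      simpa using hs
    rw [this, pow_one]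
  choose τ hτ using hdec
  have hcinj : ∀ a b : ZMod p, c ^ a.val = c ^ b.val → a = b := fun a b h => by
    rw [pow_eq_pow_iff_modEq, hoc] at h
    exact ZMod.val_injective p (Nat.ModEq.eq_of_lt_of_lt h (ZMod.val_lt a) (ZMod.val_lt b))
  have hcadd : ∀ a b : ZMod p, c ^ a.val * c ^ b.val = c ^ (a + b).val := fun a b => by
    rw [← pow_add, ZMod.val_add, hpowc]
  have hgc : ∀ (g : G) (k : ℕ), g * c ^ k * g⁻¹ = c ^ k := fun g k => by
    rw [Subgroup.mem_center_iff.mp (Subgroup.pow_mem _ hcZ k) g, mul_inv_cancel_right]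
  have hτmul : ∀ g h, τ (g * h) = τ g + τ h := by
    intro g h
    refine hcinj _ _ (mul_left_cancel (a := y) ?_)
    rw [← hcadd, ← hτ (g * h), show g * h * y * (g * h)⁻¹ = g * (h * y * h⁻¹) * g⁻¹ by group, hτ h,
      show g * (y * c ^ (τ h).val) * g⁻¹ = (g * y * g⁻¹) * (g * c ^ (τ h).val * g⁻¹) by group, hτ g,
      hgc, mul_assoc]
  let χ : G →* Multiplicative (ZMod p) :=
    MonoidHom.mk' (fun g => Multiplicative.ofAdd (τ g)) (fun g h => by rw [hτmul]; rfl)
  have hker : ∀ g, g ∈ χ.ker ↔ τ g = 0 := fun g => by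
    rw [MonoidHom.mem_ker]
    show Multiplicative.ofAdd (τ g) = 1 ↔ _
    exact ofAdd_eq_one
  haveI : NeZero p := ⟨hpp.ne_zero⟩
  have hτ1 : ∀ x ∈ E, τ x = 0 := fun x hx => by
    refine hcinj _ _ ?_
    haveI := hEe.1
    have := hτ x
    rw [setLike_mul_comm hx hyE, mul_inv_cancel_right] at this
    rw [ZMod.val_zero, pow_zero]
    exact mul_left_cancel (a := y) (by rw [mul_one]; exact this.symm)
  -- transport
  let sh : ZMod p → Equiv.Perm (Fin p) := fun t =>
    ((ZMod.finEquiv p).toEquiv.trans (Equiv.addRight t)).trans (ZMod.finEquiv p).symm.toEquiv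
  have hval : ∀ i : Fin p, ((i : ℕ) : ZMod p) = ZMod.finEquiv p i := fun i => by
    have := hpp.pos
    obtain ⟨n, rfl⟩ : ∃ n, p = n + 1 := ⟨p - 1, by omega⟩
    exact Fin.cast_val_eq_self i
  have hmap : ∀ (g : G) (i : Fin p) (w : V), w ∈ W i → f g w ∈ W (sh (τ g) i) := by
    intro g i w hw
    rw [hW] at hw ⊢
    have key : g * (y * c ^ (i : ℕ)) * g⁻¹ = y * c ^ ((sh (τ g) i : Fin p) : ℕ) := by
      rw [show g * (y * c ^ (i : ℕ)) * g⁻¹ = (g * y * g⁻¹) * (g * c ^ (i : ℕ) * g⁻¹) by group, hτ, hgc,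
        mul_assoc]
      congr 1
      have e : ((sh (τ g) i : Fin p) : ℕ) = (((i : ℕ) : ZMod p) + τ g).val := by
        have : (((sh (τ g) i : Fin p) : ℕ) : ZMod p) = ((i : ℕ) : ZMod p) + τ g := by
          rw [hval, hval]; simp [sh]
        rw [← this, ZMod.val_natCast, Nat.mod_eq_of_lt (Fin.isLt _)]
      rw [e, ← hcadd, ← pow_add, ← pow_add, ZMod.val_natCast, Nat.mod_eq_of_lt i.isLt, add_comm]
    rw [← key, ← fapp, inv_mul_cancel_right, fapp, hw]
  have htop : iSup W = ⊤ := by
    rw [eq_top_iff]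
    intro v _
    rw [← hPsum v]
    exact Submodule.sum_mem _ fun i _ => Submodule.mem_iSup_of_mem i (hPW i v)
  have hW0 : ∀ g i, (W i).map (ρ g : V →ₗ[ZMod q] V) = W (sh (τ g) i) := by
    intro g i
    apply le_antisymm
    · rintro _ ⟨w, hw, rfl⟩; exact hmap g i w hw
    · intro w hw
      have hτinv : τ g⁻¹ = - τ g := by
        have h := hτmul g g⁻¹
        rw [mul_inv_cancel, hτ1 1 (one_mem E)] at h
        exact eq_neg_of_add_eq_zero_right h.symm
      have h := hmap g⁻¹ _ w hw
      have e : sh (τ g⁻¹) (sh (τ g) i) = i := by simp [sh, hτinv]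
      rw [e] at h
      refine ⟨_, h, ?_⟩
      show f g (f g⁻¹ w) = w
      rw [← fapp, mul_inv_cancel, map_one]; rfl
  -- `y` is not central
  obtain ⟨g₁, hg₁⟩ : ∃ g, τ g ≠ 0 := by
    by_contra hall
    push Not at hall
    obtain ⟨v, hv⟩ := exists_ne (0 : V)
    obtain ⟨i, w, hw, hw0⟩ : ∃ i, ∃ w ∈ W i, w ≠ 0 := by
      by_contra h
      push Not at h
      exact hv (by rw [← hPsum v]; exact Finset.sum_eq_zero fun i _ => h i _ (hPW i v))
    rcases hirr (W i) (fun g w' hw' => by
        have := hmap g i w' hw'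
        rwa [hall g, show sh 0 i = i by simp [sh]] at this) with h | h
    · exact hw0 ((Submodule.mem_bot _).mp (h ▸ hw))
    · have h1 : y * c ^ (i : ℕ) = 1 := hρ (LinearEquiv.ext fun u => by
        rw [map_one]
        exact (hW i u).mp (h ▸ Submodule.mem_top))
      refine hyc ?_
      rw [eq_inv_of_mul_eq_one_left h1]
      exact inv_mem (pow_mem (Subgroup.mem_zpowers c) _)
  refine ⟨χ.ker, W, ?_, htop, ?_, ?_, ?_, ?_⟩
  · rw [Subgroup.index_ker]
    have hdvd : Nat.card χ.range ∣ p := by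
      have := Subgroup.card_subgroup_dvd_card χ.range
      simpa using this
    rcases (Nat.dvd_prime hpp).mp hdvd with h | h
    · have hb := Subgroup.eq_bot_of_card_eq _ h
      have : χ g₁ ∈ χ.range := ⟨g₁, rfl⟩
      rw [hb, Subgroup.mem_bot] at this
      exact absurd ((hker g₁).mp this) hg₁
    · exact h
  · intro i
    rw [Submodule.disjoint_def]
    intro w hw hw'
    have hk : (⨆ j, ⨆ (_ : j ≠ i), W j) ≤ LinearMap.ker (P i) := iSup_le fun j => iSup_le fun hj =>
      fun u hu => LinearMap.mem_ker.mpr (hP0 i j hj.symm u hu)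
    rw [← hPid i w hw]
    exact LinearMap.mem_ker.mp (hk hw')
  · intro h hh i w hw
    have := hmap h i w hw
    rwa [(hker h).mp hh, show sh 0 i = i by simp [sh]] at this
  · intro i
    refine ⟨y * c ^ (i : ℕ), (hker _).mpr (hτ1 _ (mul_mem hyE (pow_mem hcE _))), fun h1 => hyc ?_,
      fun w hw => (hW i w).mp hw⟩
    rw [eq_inv_of_mul_eq_one_left h1]
    exact inv_mem (pow_mem (Subgroup.mem_zpowers c) _)
  · intro g hg
    refine ⟨sh (τ g), ?_, hW0 g⟩
    have hshm : ∀ a b, sh (a + b) = sh b * sh a := fun a b => Equiv.ext fun i => by simp [sh, add_assoc]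
    have hpow : ∀ k : ℕ, sh (τ g) ^ k = sh (k • τ g) := by
      intro k
      induction k with
      | zero => exact Equiv.ext fun i => by simp [sh]
      | succ k ih => rw [pow_succ, ih, succ_nsmul', hshm]
    have hτg : τ g ≠ 0 := fun h => hg ((hker g).mpr h)
    refine orderOf_eq_prime ?_ fun h => hτg ?_
    · rw [hpow, nsmul_eq_mul, ZMod.natCast_self, zero_mul]
      exact Equiv.ext fun i => by simp [sh]
    · have := DFunLike.congr_fun h ((ZMod.finEquiv p).symm 0)
      simpa [sh] using this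

end Cfsg.Agent.S3380
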