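import Cfsg.Statements.S3381
-- no helper imports

set_option autoImplicit false
open Cfsg

namespace Cfsg.Agent.S3381

/-- Let G be a finite group acting faithfully and linearly on a non-trivial finite vector space V over the field with q elements (q prime) so that every non-zero vector has a stabilizer of order 2, and suppose G has a central involution. Then V has q^(2r) elements for some r and G contains exactly q^r + 1 non-central involutions. -/
theorem result
    (q : ℕ) [Fact q.Prime] {V : Type*} [AddCommGroup V] [Module (ZMod q) V] [Finite V] [Nontrivial V]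
    {G : Type*} [Group G] [Finite G] (ρ : G →* (V ≃ₗ[ZMod q] V)) (hρ : Function.Injective ρ)
    (hstab : ∀ v : V, v ≠ 0 → Nat.card {g : G // ρ g v = v} = 2)
    (z : G) (hz : orderOf z = 2) (hzc : z ∈ Subgroup.center G) :
    ∃ r : ℕ, Nat.card V = q ^ (2 * r) ∧
      Nat.card {g : G // orderOf g = 2 ∧ g ∉ Subgroup.center G} = q ^ r + 1 := by
  classical
  haveI := Fintype.ofFinite G
  haveI := Fintype.ofFinite V
  have hap : ∀ (g h : G) (v : V), ρ (g * h) v = ρ g (ρ h v) := fun g h v => by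
    rw [map_mul]; rfl
  have hone : ∀ v : V, ρ 1 v = v := fun v => by rw [map_one]; rfl
  have hex : ∀ v : V, v ≠ 0 → ∃ t : G, t ≠ 1 ∧ ρ t v = v ∧ ∀ g, ρ g v = v → g = 1 ∨ g = t := by
    intro v hv
    obtain ⟨a, b, hab, hall⟩ := Nat.card_eq_two_iff.1 (hstab v hv)
    have hmem : ∀ g : {g : G // ρ g v = v}, g = a ∨ g = b := fun g => by
      have := Set.ext_iff.1 hall g
      simpa using this
    rcases hmem ⟨1, hone v⟩ with h | h
    · refine ⟨b.1, fun hb => hab (h.symm.trans (Subtype.ext hb.symm)), b.2, fun g hg => ?_⟩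
      rcases hmem ⟨g, hg⟩ with h' | h'
      · exact Or.inl (congrArg Subtype.val (h'.trans h.symm))
      · exact Or.inr (congrArg Subtype.val h')
    · refine ⟨a.1, fun ha => hab ((Subtype.ext ha).trans h), a.2, fun g hg => ?_⟩
      rcases hmem ⟨g, hg⟩ with h' | h'
      · exact Or.inr (congrArg Subtype.val h')
      · exact Or.inl (congrArg Subtype.val (h'.trans h.symm))
  -- a central involution fixes no non-zero vector
  have hnofix : ∀ y : G, orderOf y = 2 → y ∈ Subgroup.center G → ∀ v : V, ρ y v = v → v = 0 := by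
    intro y hy hyc v hv
    by_contra hv0
    have hy1 : y ≠ 1 := fun h => by simp [h] at hy
    have hyy : y * y = 1 := by rw [← pow_two, ← hy, pow_orderOf_eq_one]
    have hy2 : ∀ u, ρ y (ρ y u) = u := fun u => by rw [← hap, hyy, hone]
    obtain ⟨u, hu⟩ : ∃ u, ρ y u ≠ u := by
      by_contra h
      push Not at h
      exact hy1 (hρ (by rw [map_one]; exact LinearEquiv.ext h))
    have hu0 : u ≠ 0 := fun h => hu (by rw [h, map_zero])
    obtain ⟨t, ht1, htu, -⟩ := hex u hu0
    have hty : ∀ w, ρ t (ρ y w) = ρ y (ρ t w) := fun w => by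
      rw [← hap, ← hap, Subgroup.mem_center_iff.1 hyc t]
    have hfix : ∀ w, ρ y w = w → ρ t w = w → w = 0 := by
      intro w h1 h2
      by_contra hw
      obtain ⟨t', -, -, ht'⟩ := hex w hw
      have e1 := (ht' y h1).resolve_left hy1
      have e2 := (ht' t h2).resolve_left ht1
      exact hu (by rw [e1, ← e2, htu])
    set w := u - ρ y u with hw
    have htw : ρ t w = w := by rw [hw, map_sub, htu, hty, htu]
    have hyw : ρ y w = -w := by rw [hw, map_sub, hy2, neg_sub]
    obtain ⟨s, hs1, hs, -⟩ := hex (v + w) (fun h => by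
      have h' := congrArg (ρ t) h
      rw [map_add, htw, map_zero, ← h] at h'
      exact hv0 (hfix v hv (add_right_cancel h')))
    have hsy : ∀ x, ρ s (ρ y x) = ρ y (ρ s x) := fun x => by
      rw [← hap, ← hap, Subgroup.mem_center_iff.1 hyc s]
    have hsvw : ρ s (v - w) = v - w := by
      have h' := congrArg (ρ y) hs
      rw [← hsy, map_add, hv, hyw, ← sub_eq_add_neg] at h'
      exact h'
    have hsum : ρ s (v + v) = v + v := by
      rw [show v + v = (v + w) + (v - w) by abel, map_add, hs, hsvw]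
    have hdiff : ρ s (w + w) = w + w := by
      rw [show w + w = (v + w) - (v - w) by abel, map_sub, hs, hsvw]
    by_cases hq2 : q = 2
    · subst hq2
      have hzz : ∀ x : V, x + x = 0 := fun x => by
        rw [← two_smul (ZMod 2), show (2 : ZMod 2) = 0 from rfl, zero_smul]
      exact sub_ne_zero.2 (Ne.symm hu) (hfix w (by rw [hyw, ← add_eq_zero_iff_neg_eq]; exact hzz w) htw)
    · have h20 : (2 : ZMod q) ≠ 0 := by
        intro h
        have h' : ((2 : ℕ) : ZMod q) = 0 := by exact_mod_cast h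
        rw [ZMod.natCast_eq_zero_iff] at h'
        exact hq2 ((Nat.prime_dvd_prime_iff_eq Fact.out Nat.prime_two).1 h')
      rw [← two_smul (ZMod q), map_smul] at hsum hdiff
      have hsv := smul_right_injective V h20 hsum
      have hsw := smul_right_injective V h20 hdiff
      obtain ⟨t', -, -, ht'⟩ := hex v hv0
      have e1 := (ht' y hv).resolve_left hy1
      have e2 := (ht' s hsv).resolve_left hs1
      rw [e2, ← e1, hyw] at hsw
      have h2w : (2 : ZMod q) • w = 0 := by
        rw [two_smul]; nth_rewrite 1 [← hsw]; exact neg_add_cancel w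
      exact sub_ne_zero.2 (Ne.symm hu) ((smul_eq_zero.1 h2w).resolve_left h20)
  have hneg : ∀ y : G, orderOf y = 2 → (∀ v : V, ρ y v = v → v = 0) → ∀ u, ρ y u = -u := by
    intro y hy hnf u
    have hyy : y * y = 1 := by rw [← pow_two, ← hy, pow_orderOf_eq_one]
    exact eq_neg_of_add_eq_zero_left (hnf _ (by rw [map_add, ← hap, hyy, hone, add_comm]))
  have hzneg := hneg z hz (hnofix z hz hzc)
  have hq2 : (2 : ZMod q) ≠ 0 := by
    intro h
    obtain ⟨v, hv⟩ := exists_ne (0 : V)
    exact hv (hnofix z hz hzc v (by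
      rw [hzneg, neg_eq_iff_add_eq_zero, ← two_smul (ZMod q), h, zero_smul]))
  -- the noncentral involutions
  let T := {g : G // orderOf g = 2 ∧ g ∉ Subgroup.center G}
  have hT2 : ∀ t : T, t.1 * t.1 = 1 := fun t => by
    have e := pow_orderOf_eq_one t.1
    rwa [t.2.1, pow_two] at e
  let Fx : T → AddSubgroup V := fun t =>
    { carrier := {v | ρ t.1 v = v}
      zero_mem' := map_zero (ρ t.1)
      add_mem' := fun {a b} ha hb => by
        show ρ t.1 (a + b) = a + b
        rw [map_add, ha, hb]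
      neg_mem' := fun {a} ha => by
        show ρ t.1 (-a) = -a
        rw [map_neg, ha] }
  have hdisj : ∀ s t : T, s ≠ t → ∀ v, v ∈ Fx s → v ∈ Fx t → v = 0 := by
    intro s t hst v h1 h2
    by_contra hv
    obtain ⟨t', -, -, ht'⟩ := hex v hv
    have e1 := (ht' s.1 h1).resolve_left fun h => by simpa [h] using s.2.1
    have e2 := (ht' t.1 h2).resolve_left fun h => by simpa [h] using t.2.1
    exact hst (Subtype.ext (e1.trans e2.symm))
  have hcover : ∀ v : V, v ≠ 0 → ∃ t : T, v ∈ Fx t := by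
    intro v hv
    obtain ⟨t, ht1, htv, htall⟩ := hex v hv
    have htt : t ^ 2 = 1 := by
      rcases htall (t * t) (by rw [hap, htv, htv]) with h | h
      · rw [pow_two]; exact h
      · exact absurd (mul_eq_right.1 h) ht1
    have ht2 := orderOf_eq_prime htt ht1
    exact ⟨⟨t, ht2, fun hc => hv (hnofix t ht2 hc v htv)⟩, htv⟩
  have hne : ∀ t : T, ∃ v ∈ Fx t, v ≠ 0 := by
    intro t
    by_contra h
    push Not at h
    refine t.2.2 ?_
    rw [show t.1 = z from hρ (LinearEquiv.ext fun u => by rw [hneg t.1 t.2.1 h u, hzneg])]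
    exact hzc
  have hflip : ∀ t : T, ∃ t' : T, t' ≠ t ∧ (∀ v, v ∈ Fx t' ↔ ρ t.1 v = -v) ∧ t'.1 = t.1 * z := by
    intro t
    have htt : t.1 * t.1 = 1 := hT2 t
    have hzz : z * z = 1 := by rw [← pow_two, ← hz, pow_orderOf_eq_one]
    have h1 : t.1 * z ≠ 1 := fun h => t.2.2 (by
      rw [eq_inv_of_mul_eq_one_left h]; exact inv_mem hzc)
    have h2 : (t.1 * z) ^ 2 = 1 := by
      rw [Commute.mul_pow (Subgroup.mem_center_iff.1 hzc t.1) 2, pow_two, pow_two, htt, hzz, one_mul]
    refine ⟨⟨t.1 * z, orderOf_eq_prime h2 h1, fun hc => t.2.2 ?_⟩, fun h => ?_, fun v => ?_, rfl⟩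
    · simpa using mul_mem hc (inv_mem hzc)
    · have := congrArg Subtype.val h
      simp at this
      rw [this] at hz
      simp at hz
    · show ρ (t.1 * z) v = v ↔ _
      rw [hap, hzneg, map_neg, neg_eq_iff_eq_neg]
  let a : T → ℕ := fun t => Nat.card (Fx t)
  have hle : ∀ s t : T, s ≠ t → a s * a t ≤ Nat.card V := by
    intro s t hst
    rw [← Nat.card_prod]
    refine Nat.card_le_card_of_injective (fun x : Fx s × Fx t => (x.1 : V) + x.2) ?_
    rintro ⟨x₁, y₁⟩ ⟨x₂, y₂⟩ h
    have hd : (x₁ : V) - x₂ = y₂ - y₁ := by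
      rw [sub_eq_sub_iff_add_eq_add]; simpa [add_comm] using h
    have h0 := hdisj s t hst _ (sub_mem x₁.2 x₂.2) (hd ▸ sub_mem y₂.2 y₁.2)
    rw [h0] at hd
    exact Prod.ext (Subtype.ext (sub_eq_zero.1 h0)) (Subtype.ext (sub_eq_zero.1 hd.symm).symm)
  have hpair : ∀ t : T, ∃ t' : T, t' ≠ t ∧ a t * a t' = Nat.card V ∧ t'.1 = t.1 * z := by
    intro t
    obtain ⟨t', hne', ht', hval⟩ := hflip t
    refine ⟨t', hne', le_antisymm (hle _ _ hne'.symm) ?_, hval⟩
    rw [← Nat.card_prod]
    refine Nat.card_le_card_of_surjective (fun x : Fx t × Fx t' => (x.1 : V) + x.2) ?_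
    intro v
    have htt : ρ t.1 (ρ t.1 v) = v := by rw [← hap, hT2, hone]
    refine ⟨⟨⟨(2 : ZMod q)⁻¹ • (v + ρ t.1 v), ?_⟩, ⟨(2 : ZMod q)⁻¹ • (v - ρ t.1 v), ?_⟩⟩, ?_⟩
    · show ρ t.1 _ = _
      rw [map_smul, map_add, htt, add_comm]
    · rw [ht', map_smul, map_sub, htt, ← smul_neg, neg_sub]
    · show (2 : ZMod q)⁻¹ • (v + ρ t.1 v) + (2 : ZMod q)⁻¹ • (v - ρ t.1 v) = v
      rw [← smul_add, show v + ρ t.1 v + (v - ρ t.1 v) = (2 : ZMod q) • v by rw [two_smul]; abel,
        smul_smul, inv_mul_cancel₀ hq2, one_smul]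
  have hthird : ∀ s t : T, s ≠ t → ∃ u : T, u ≠ s ∧ u ≠ t := by
    intro s t hst
    obtain ⟨v, hv, hv0⟩ := hne s
    obtain ⟨w, hw, hw0⟩ := hne t
    have hvw : v + w ≠ 0 := fun h => hv0 (hdisj s t hst v hv (by
      rw [eq_neg_of_add_eq_zero_left h]; exact neg_mem hw))
    obtain ⟨u, hu⟩ := hcover _ hvw
    refine ⟨u, fun h => hw0 ?_, fun h => hv0 ?_⟩
    · subst h
      exact hdisj u t hst w (by simpa using sub_mem hu hv) hw
    · subst h
      exact hdisj s u hst v hv (by simpa using sub_mem hu hw)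
  have hpos : ∀ t : T, 0 < a t := fun t => Nat.card_pos
  obtain ⟨r, hr2, hall⟩ : ∃ r, r * r = Nat.card V ∧ ∀ s : T, a s = r := by
    obtain ⟨v, hv⟩ := exists_ne (0 : V)
    obtain ⟨t₀, -⟩ := hcover v hv
    haveI : Nonempty T := ⟨t₀⟩
    obtain ⟨t, ht⟩ := Finite.exists_max a
    obtain ⟨t', htt', hprod, hval⟩ := hpair t
    have hb : ∀ s, s ≠ t → a s ≤ a t' := fun s hs =>
      Nat.le_of_mul_le_mul_left (hprod ▸ hle t s hs.symm) (hpos t)
    obtain ⟨u, hu, hu'⟩ := hthird t t' htt'.symm
    obtain ⟨u', -, huprod, huval⟩ := hpair u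
    have hzz' : z * z = 1 := by
      have e := pow_orderOf_eq_one z
      rwa [hz, pow_two] at e
    have hu't : u' ≠ t := fun h => hu' (Subtype.ext (by
      rw [hval, ← h, huval, mul_assoc, hzz', mul_one]))
    have heq : a t = a t' := by
      have h1 := Nat.mul_le_mul (hb u hu) (hb u' hu't)
      rw [huprod, ← hprod] at h1
      exact le_antisymm (Nat.le_of_mul_le_mul_right h1 (hpos t')) (ht t')
    refine ⟨a t, by nth_rewrite 2 [heq]; exact hprod, fun s => le_antisymm (ht s) ?_⟩
    obtain ⟨s', -, hsprod, -⟩ := hpair s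
    have h1 : a t * a t ≤ a s * a t := by
      nth_rewrite 2 [heq]
      rw [hprod, ← hsprod]
      exact Nat.mul_le_mul_left _ (ht s')
    exact Nat.le_of_mul_le_mul_right h1 (hpos t)
  have hr1 : 2 ≤ r := by
    by_contra h
    have : r * r ≤ 1 * 1 := Nat.mul_le_mul (by omega) (by omega)
    have : 1 < Nat.card V := Finite.one_lt_card
    omega
  let Sx : T → Finset V := fun t => Finset.univ.filter (fun v => v ∈ Fx t ∧ v ≠ 0)
  have hsx : ∀ t, (Sx t).card + 1 = r := by
    intro t
    have : (Finset.univ.filter (fun v => v ∈ Fx t)).card = r := by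
      rw [← hall t]
      show _ = Nat.card (Fx t)
      rw [Nat.card_eq_fintype_card, Fintype.card_subtype]
    rw [← this]
    have e : Sx t = (Finset.univ.filter (fun v => v ∈ Fx t)).erase 0 := by
      ext v; simp [Sx, and_comm]
    rw [e, Finset.card_erase_add_one]
    simp [(Fx t).zero_mem]
  haveI : Fintype T := Fintype.ofFinite _
  have hunion : Finset.univ.biUnion Sx = (Finset.univ : Finset V).erase 0 := by
    ext v
    simp only [Finset.mem_biUnion, Finset.mem_univ, true_and, Finset.mem_erase, and_true, Sx,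
      Finset.mem_filter]
    exact ⟨fun ⟨_, _, h⟩ => h, fun h => (hcover v h).imp fun t ht => ⟨ht, h⟩⟩
  have hcount := congrArg Finset.card hunion
  rw [Finset.card_biUnion (fun s _ t _ hst => Finset.disjoint_left.2 fun v h1 h2 => by
      simp only [Sx, Finset.mem_filter] at h1 h2
      exact h1.2.2 (hdisj s t hst v h1.2.1 h2.2.1)),
    Finset.sum_eq_card_nsmul (b := r - 1) (fun t _ => by have := hsx t; omega),
    Finset.card_erase_of_mem (Finset.mem_univ _), Finset.card_univ, Finset.card_univ,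
    smul_eq_mul] at hcount
  have hVd := Module.natCard_eq_pow_finrank (K := ZMod q) (V := V)
  rw [Nat.card_zmod, ← hr2] at hVd
  obtain ⟨k, -, rfl⟩ := (Nat.dvd_prime_pow Fact.out).1 ⟨r, hVd.symm⟩
  refine ⟨k, by rw [← hr2, two_mul, pow_add], ?_⟩
  show Nat.card T = _
  rw [Nat.card_eq_fintype_card]
  rw [← Nat.card_eq_fintype_card (α := V), ← hr2] at hcount
  obtain ⟨c, hc⟩ : ∃ c, q ^ k = c + 2 := ⟨q ^ k - 2, by omega⟩
  rw [hc] at hcount ⊢
  rw [show c + 2 - 1 = c + 1 by omega, show (c + 2) * (c + 2) - 1 = (c + 3) * (c + 1) by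
    rw [show (c + 2) * (c + 2) = (c + 3) * (c + 1) + 1 by ring]; omega] at hcount
  exact Nat.eq_of_mul_eq_mul_right (by omega) hcount

end Cfsg.Agent.S3381
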