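import Cfsg.Statements.S3382
-- no helper imports

set_option autoImplicit false
open Cfsg

namespace Cfsg.Agent.S3382

theorem zmod2_one : ∀ a : ZMod 2, a ≠ 0 → a = 1 := by decide

theorem zmod2_neg : (-1 : ZMod 2) = 1 := by decide

theorem zmod3_cases : ∀ a : ZMod 3, a ≠ 0 → a = 1 ∨ a = -1 := by decide

theorem zmod3_ne : (-1 : ZMod 3) ≠ 1 ∧ (1 : ZMod 3) ≠ -1 ∧ (-1 : ZMod 3) ≠ 0 := by decide

/-- An odd power of an odd number congruent to one modulo a power of two. -/
theorem dvd_sub_one_of_pow {k : ℤ} {j r : ℕ} (hk : Odd k) (hr : Odd r)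
    (h : (2 : ℤ) ^ j ∣ k ^ r - 1) : (2 : ℤ) ^ j ∣ k - 1 := by
  rw [← geom_sum_mul] at h
  refine IsCoprime.dvd_of_dvd_mul_left ?_ h
  refine IsCoprime.pow_left ?_
  rw [Int.isCoprime_iff_gcd_eq_one]
  have hpar : ∀ n : ℕ, Odd (∑ i ∈ Finset.range n, k ^ i) ↔ Odd n := by
    intro n
    induction n with
    | zero => simp
    | succ n ih =>
      rw [Finset.sum_range_succ, Int.odd_add, ih, Nat.odd_add_one]
      have : Odd (k ^ n) := hk.pow
      rw [← Int.not_odd_iff_even]
      tauto
  have hodd := (hpar r).2 hr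
  obtain ⟨c, hc⟩ := hodd
  rw [hc, Int.gcd_comm]
  simp

/-- A `2`-group with a suitable subgroup of index two has a `2`-group of automorphisms. -/
theorem isPGroup_mulAut {T : Type*} [Group T] [Finite T] (A : Subgroup T) (b : T) {N : ℕ}
    (hN : ∀ u ∈ A, u ^ (2 ^ N) = 1) (hcover : ∀ x, x ∈ A ∨ b⁻¹ * x ∈ A) (hb : b ∉ A)
    (hinv : ∀ θ : MulAut T, ∀ x ∈ A, θ x ∈ A)
    (htriv : ∀ θ : MulAut T, ∀ r : ℕ, Odd r → θ ^ r = 1 → ∀ x ∈ A, θ x = x) :
    IsPGroup 2 (MulAut T) := by
  have : Finite (MulAut T) := Finite.of_injective _ DFunLike.coe_injective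
  refine IsPGroup.of_card (n := (Nat.card (MulAut T)).primeFactorsList.length) ?_
  by_contra hne
  obtain ⟨r, hr, hdvd, hr2⟩ : ∃ r, r.Prime ∧ r ∣ Nat.card (MulAut T) ∧ r ≠ 2 := by
    by_contra h
    push Not at h
    exact hne (Nat.eq_prime_pow_of_unique_prime_dvd Nat.card_pos.ne' fun {d} hd hdd => h d hd hdd
      |> fun e => e) |> fun e => e
  have : Fact r.Prime := ⟨hr⟩
  obtain ⟨θ, hθ⟩ := exists_prime_orderOf_dvd_card' r hdvd
  have hθr : θ ^ r = 1 := hθ ▸ pow_orderOf_eq_one θ
  have hA := htriv θ r (hr.odd_of_ne_two hr2) hθr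
  have hu : b⁻¹ * θ b ∈ A := by
    rcases hcover (θ b) with h | h
    · exfalso
      have h' := hinv θ⁻¹ _ h
      rw [MulAut.inv_apply_self] at h'
      exact hb h'
    · exact h
  have hpow : ∀ n : ℕ, (θ ^ n) b = b * (b⁻¹ * θ b) ^ n := by
    intro n
    induction n with
    | zero => simp
    | succ n ih =>
      rw [pow_succ', MulAut.mul_apply, ih, map_mul, map_pow, hA _ hu, pow_succ' _ n, ← mul_assoc,
        mul_inv_cancel_left]
  have h1 := hpow r
  rw [hθr, MulAut.one_apply, left_eq_mul] at h1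
  have h2 : b⁻¹ * θ b = 1 := by
    rw [← orderOf_eq_one_iff]
    refine Nat.eq_one_of_dvd_coprimes ?_ (orderOf_dvd_of_pow_eq_one h1)
      (orderOf_dvd_of_pow_eq_one (hN _ hu))
    exact Nat.Coprime.pow_right N ((Nat.coprime_primes hr Nat.prime_two).2 hr2)
  have hone : θ = 1 := MulEquiv.ext fun x => by
    rw [MulAut.one_apply]
    rcases hcover x with h | h
    · exact hA x h
    · have e := hA _ h
      rw [map_mul, map_inv, (inv_mul_eq_one.1 h2).symm, mul_right_inj] at e
      exact e
  rw [hone, orderOf_one] at hθ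
  exact hr.one_lt.ne hθ

set_option maxHeartbeats 4000000 in
set_option maxRecDepth 4000 in
/-- Let q = 2^m + 1 be a prime other than 5. Then the automorphism group of the group of linear maps of F_q² of the forms (x, y) ↦ (a x, ± a⁻¹ y) and (x, y) ↦ (± a⁻¹ y, a x) with a ≠ 0 is itself a 2-group. -/
theorem result (q m : ℕ) [Fact q.Prime] (hq : q = 2 ^ m + 1) (hq5 : q ≠ 5)
    (T : Subgroup ((Fin 2 → ZMod q) ≃ₗ[ZMod q] (Fin 2 → ZMod q)))
    (hT : ∀ f, f ∈ T ↔ ∃ a s : ZMod q, a ≠ 0 ∧ (s = 1 ∨ s = -1) ∧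
      ((∀ v, f v = ![a * v 0, s * a⁻¹ * v 1]) ∨ (∀ v, f v = ![s * a⁻¹ * v 1, a * v 0]))) :
    IsPGroup 2 (MulAut T) := by
  classical
  have hq2 := (Fact.out : q.Prime).two_le
  -- the two shapes
  have hD : ∀ (a : (ZMod q)ˣ) (s : ZMod q), (s = 1 ∨ s = -1) → ∃ f ∈ T, ∀ v,
      f v = ![(a : ZMod q) * v 0, s * (a : ZMod q)⁻¹ * v 1] := by
    intro a s hs
    have hs2 : s * s = 1 := by rcases hs with rfl | rfl <;> simp
    have ha := a.ne_zero
    suffices key : ∀ c : ZMod q, c ≠ 0 → ∃ f ∈ T, ∀ v, f v = ![c * v 0, s * c⁻¹ * v 1] from key _ ha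
    clear ha a
    intro a ha
    let f : (Fin 2 → ZMod q) ≃ₗ[ZMod q] (Fin 2 → ZMod q) :=
      { toFun := fun v => ![a * v 0, s * a⁻¹ * v 1]
        invFun := fun v => ![a⁻¹ * v 0, s * a * v 1]
        map_add' := fun v w => by ext i; fin_cases i <;> simp [mul_add]
        map_smul' := fun c v => by ext i; fin_cases i <;> simp [mul_left_comm]
        left_inv := fun v => by
          ext i; fin_cases i
          · simp [ha]
          · simp only [Fin.mk_one, Matrix.cons_val_one, Matrix.cons_val_zero]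
            calc s * a * (s * a⁻¹ * v 1)
                = (s * s) * (a * a⁻¹) * v 1 := by ring
              _ = v 1 := by rw [hs2, mul_inv_cancel₀ ha, one_mul, one_mul]
        right_inv := fun v => by
          ext i; fin_cases i
          · simp [ha]
          · simp only [Fin.mk_one, Matrix.cons_val_one, Matrix.cons_val_zero]
            calc s * a⁻¹ * (s * a * v 1)
                = (s * s) * (a * a⁻¹) * v 1 := by ring
              _ = v 1 := by rw [hs2, mul_inv_cancel₀ ha, one_mul, one_mul] }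
    exact ⟨f, (hT f).2 ⟨a, s, ha, hs, Or.inl fun v => rfl⟩, fun v => rfl⟩
  let A : Subgroup T :=
    { carrier := {f | ∃ a s : ZMod q, a ≠ 0 ∧ (s = 1 ∨ s = -1) ∧
        ∀ v, f.1 v = ![a * v 0, s * a⁻¹ * v 1]}
      one_mem' := ⟨1, 1, one_ne_zero, Or.inl rfl, fun v => by
        ext i; fin_cases i <;> simp⟩
      mul_mem' := fun {f g} hf hg => by
        obtain ⟨a, s, ha, hs, hf⟩ := hf
        obtain ⟨c, t, hc, ht, hg⟩ := hg
        refine ⟨a * c, s * t, mul_ne_zero ha hc, ?_, fun v => ?_⟩
        · rcases hs with rfl | rfl <;> rcases ht with rfl | rfl <;> simp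
        · show f.1 (g.1 v) = _
          rw [hg, hf]
          ext i; fin_cases i
          · simp [mul_assoc]
          · simp only [Fin.mk_one, Matrix.cons_val_one, Matrix.cons_val_zero, mul_inv]
            ring
      inv_mem' := fun {f} hf => by
        obtain ⟨a, s, ha, hs, hf⟩ := hf
        obtain ⟨g, hgT, hg⟩ := hD (Units.mk0 a ha)⁻¹ s hs
        have hfg : f * ⟨g, hgT⟩ = 1 := by
          refine Subtype.ext (LinearEquiv.ext fun v => ?_)
          show f.1 (g v) = v
          rw [hg, hf]
          have hs2 : s * s = 1 := by rcases hs with rfl | rfl <;> simp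
          ext i; fin_cases i
          · simp [ha]
          · simp only [Fin.mk_one, Matrix.cons_val_one, Matrix.cons_val_zero, Units.val_inv_eq_inv_val,
              Units.val_mk0, inv_inv]
            calc s * a⁻¹ * (s * a * v 1) = (s * s) * (a * a⁻¹) * v 1 := by ring
              _ = v 1 := by rw [hs2, mul_inv_cancel₀ ha, one_mul, one_mul]
        rw [inv_eq_of_mul_eq_one_right hfg]
        exact ⟨a⁻¹, s, inv_ne_zero ha, hs, fun v => by
          show g v = _
          rw [hg, Units.val_inv_eq_inv_val, Units.val_mk0]⟩ }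
  have : Finite ((Fin 2 → ZMod q) ≃ₗ[ZMod q] (Fin 2 → ZMod q)) :=
    Finite.of_injective _ DFunLike.coe_injective
  -- the swap
  let w : T := ⟨LinearEquiv.funCongrLeft (ZMod q) (ZMod q) (Equiv.swap (0 : Fin 2) 1),
    (hT _).2 ⟨1, 1, one_ne_zero, Or.inl rfl, Or.inr fun v => by
      ext i; fin_cases i <;> simp [LinearEquiv.funCongrLeft_apply, LinearMap.funLeft_apply]⟩⟩
  have hw : ∀ v : Fin 2 → ZMod q, w.1 v = ![v 1, v 0] := fun v => by
    ext i; fin_cases i <;> simp [w, LinearEquiv.funCongrLeft_apply, LinearMap.funLeft_apply]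
  have hww : w * w = 1 := Subtype.ext (LinearEquiv.ext fun v => by
    show w.1 (w.1 v) = v
    rw [hw, hw]; ext i; fin_cases i <;> simp)
  have hwA : w ∉ A := fun ⟨a, s, ha, _, h⟩ => by
    have := congrFun (h ![1, 0]) 0
    rw [hw] at this
    simp at this
    exact ha this.symm
  have hcover : ∀ x : T, x ∈ A ∨ w⁻¹ * x ∈ A := by
    rintro ⟨x, hx⟩
    obtain ⟨a, s, ha, hs, h | h⟩ := (hT x).1 hx
    · exact Or.inl ⟨a, s, ha, hs, h⟩
    · refine Or.inr ⟨a, s, ha, hs, fun v => ?_⟩
      rw [inv_eq_of_mul_eq_one_right hww]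
      show w.1 (x v) = _
      rw [hw, h]
      ext i; fin_cases i <;> simp
  have hm : m = 0 ∨ m = 1 ∨ 3 ≤ m := by
    rcases eq_or_ne m 2 with rfl | h
    · exact absurd (by norm_num [hq]) hq5
    · omega
  have hexpA : ∀ f ∈ A, f ^ (2 ^ (m + 1)) = 1 := by
    rintro f ⟨a, s, ha, hs, hf⟩
    have hpow : ∀ n : ℕ, ∀ v, (f ^ n).1 v = ![a ^ n * v 0, (s * a⁻¹) ^ n * v 1] := by
      intro n
      induction n with
      | zero => intro v; ext i; fin_cases i <;> simp
      | succ n ih =>
        intro v
        rw [pow_succ', Subgroup.coe_mul]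
        show f.1 ((f ^ n).1 v) = _
        rw [ih, hf]
        ext i; fin_cases i
        · simp [pow_succ', mul_assoc]
        · simp [pow_succ', mul_assoc]
    refine Subtype.ext (LinearEquiv.ext fun v => ?_)
    rw [hpow]
    have hcard : ∀ c : ZMod q, c ≠ 0 → c ^ (2 ^ (m + 1)) = 1 := fun c hc => by
      rw [pow_succ, pow_mul, show (2 : ℕ) ^ m = q - 1 by omega, ZMod.pow_card_sub_one_eq_one hc,
        one_pow]
    have hs0 : s ≠ 0 := by rcases hs with rfl | rfl <;> simp
    rw [hcard a ha, hcard _ (mul_ne_zero hs0 (inv_ne_zero ha))]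
    ext i; fin_cases i <;> simp
  rcases hm with hm | hm | hm
  · -- `q = 2`: the diagonal part is trivial
    subst hm
    have hq' : q = 2 := by simpa using hq
    have htriv : ∀ f ∈ A, f = 1 := by
      rintro f ⟨a, s, ha, hs, hf⟩
      subst hq'
      have ha1 : a = 1 := zmod2_one a ha
      have hs1 : s = 1 := by
        rcases hs with rfl | rfl
        · rfl
        · exact zmod2_neg
      refine Subtype.ext (LinearEquiv.ext fun v => ?_)
      rw [hf, ha1, hs1]
      ext i; fin_cases i <;> simp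
    exact isPGroup_mulAut A w hexpA hcover hwA (fun θ x hx => by rw [htriv x hx, map_one]; exact A.one_mem)
      (fun θ r _ _ x hx => by rw [htriv x hx, map_one])
  · -- `q = 3`: use the cyclic subgroup of order four
    subst hm
    have hq' : q = 3 := by simpa using hq
    subst hq'
    obtain ⟨z, hzT, hz⟩ := hD 1 (-1) (Or.inr rfl)
    let zT : T := ⟨z, hzT⟩
    have hzz : zT * zT = 1 := Subtype.ext (LinearEquiv.ext fun v => by
      show z (z v) = v
      rw [hz, hz]; ext i; fin_cases i <;> simp)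
    set g : T := w * zT with hg
    have hgv : ∀ v, g.1 v = ![-v 1, v 0] := fun v => by
      show w.1 (z v) = _
      rw [hw, hz]
      ext i; fin_cases i <;> simp
    have hg2v : ∀ v, (g * g).1 v = ![-v 0, -v 1] := fun v => by
      show g.1 (g.1 v) = _
      rw [hgv, hgv]; ext i; fin_cases i <;> simp
    have hg4 : (g * g) * (g * g) = 1 := Subtype.ext (LinearEquiv.ext fun v => by
      show (g * g).1 ((g * g).1 v) = v
      rw [hg2v, hg2v]; ext i; fin_cases i <;> simp)
    have hgz : zT * g * zT = g⁻¹ := by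
      rw [hg, mul_inv_rev, inv_eq_of_mul_eq_one_right hzz, inv_eq_of_mul_eq_one_right hww,
        mul_assoc, mul_assoc, hzz, mul_one]
    have hpow4 : g ^ 4 = 1 := by
      rw [show 4 = 2 + 2 from rfl, pow_add, pow_two]
      exact hg4
    have hone : ∀ x ∈ A, x ∈ Subgroup.zpowers g ∨ zT⁻¹ * x ∈ Subgroup.zpowers g := by
      rintro x ⟨a, s, ha, hs, hx⟩
      have hcase : ∀ y : T, ∀ a : ZMod 3, a ≠ 0 → (∀ v, y.1 v = ![a * v 0, a⁻¹ * v 1]) →
          y ∈ Subgroup.zpowers g := by
        intro y a ha hy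
        rcases zmod3_cases a ha with rfl | rfl
        · have : y = 1 := Subtype.ext (LinearEquiv.ext fun v => by
            rw [hy]; ext i; fin_cases i <;> simp)
          rw [this]; exact one_mem _
        · have : y = g * g := Subtype.ext (LinearEquiv.ext fun v => by
            rw [hy, hg2v, inv_neg, inv_one]; ext i; fin_cases i <;> simp)
          rw [this]; exact mul_mem (Subgroup.mem_zpowers g) (Subgroup.mem_zpowers g)
      rcases hs with rfl | rfl
      · exact Or.inl (hcase x a ha fun v => by rw [hx, one_mul])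
      · refine Or.inr (hcase _ a ha fun v => ?_)
        rw [inv_eq_of_mul_eq_one_right hzz]
        show z (x.1 v) = _
        rw [hx, hz]; ext i; fin_cases i <;> simp
    have hcov : ∀ x : T, x ∈ Subgroup.zpowers g ∨ zT⁻¹ * x ∈ Subgroup.zpowers g := by
      intro x
      rcases hcover x with h | h
      · exact hone x h
      · have hx : x = g * (zT⁻¹ * (w⁻¹ * x)) := by rw [hg]; group
        rcases hone _ h with h1 | h1
        · refine Or.inr ?_
          have e : zT⁻¹ * x = g⁻¹ * (w⁻¹ * x) := by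
            rw [← hgz, hg, inv_eq_of_mul_eq_one_right hzz, inv_eq_of_mul_eq_one_right hww]
            simp only [mul_assoc]
            rw [← mul_assoc zT zT, hzz, one_mul, ← mul_assoc w w, hww, one_mul]
          rw [e]
          exact mul_mem (inv_mem (Subgroup.mem_zpowers g)) h1
        · refine Or.inl ?_
          rw [hx]
          exact mul_mem (Subgroup.mem_zpowers g) h1
    have hall : ∀ x : T, x ∈ Subgroup.zpowers g ∨ x ^ 2 = 1 := by
      intro x
      rcases hcov x with h | ⟨k, hk⟩
      · exact Or.inl h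
      · refine Or.inr ?_
        have hk : g ^ k = zT⁻¹ * x := hk
        rw [← mul_inv_cancel_left zT x, ← hk, pow_two,
          show zT * g ^ k * (zT * g ^ k) = (zT * g ^ k * zT⁻¹) * g ^ k by
            rw [inv_eq_of_mul_eq_one_right hzz]; simp only [mul_assoc],
          ← conj_zpow, inv_eq_of_mul_eq_one_right hzz, hgz, inv_zpow, inv_mul_cancel]
    have hgsq : g ^ 2 ≠ 1 := fun h => by
      have h' := congrFun (congrArg (fun f : T => f.1 ![1, 0]) h) 0
      rw [pow_two] at h'
      simp only [hg2v] at h'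
      simp at h'
      exact absurd h' zmod3_ne.1
    have hzg : zT ∉ Subgroup.zpowers g := by
      intro hzg
      obtain ⟨k, hk⟩ := mem_powers_iff_mem_zpowers.2 hzg
      have hk : g ^ k = zT := hk
      rw [← Nat.mod_add_div k 4, pow_add, pow_mul, hpow4, one_pow, mul_one] at hk
      have hklt := Nat.mod_lt k (show 4 > 0 by norm_num)
      have hzA : zT ∈ A := ⟨1, -1, one_ne_zero, Or.inr rfl, fun v => by
        show z v = _
        rw [hz]; simp⟩
      rcases Nat.even_or_odd (k % 4) with ⟨j, hj⟩ | ⟨j, hj⟩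
      · rcases (show j = 0 ∨ j = 1 by omega) with rfl | rfl
        · rw [hj, add_zero, pow_zero] at hk
          have := congrFun (congrArg (fun f : T => f.1 ![0, 1]) hk) 1
          simp [zT, hz] at this
          exact absurd this zmod3_ne.2.1
        · rw [hj, pow_add, pow_one] at hk
          have := congrFun (congrArg (fun f : T => f.1 ![1, 0]) hk) 0
          have e := hg2v ![1, 0]
          change (g * g).1 ![1, 0] 0 = z ![1, 0] 0 at this
          rw [e, hz] at this
          simp at this
          exact absurd this zmod3_ne.1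
      · refine hwA ?_
        have hgA : g ^ (2 * j) ∈ A := by
          rw [pow_mul, pow_two]
          exact A.pow_mem ⟨-1, 1, zmod3_ne.2.2, Or.inl rfl, fun v => by
            rw [hg2v, inv_neg, inv_one]; ext i; fin_cases i <;> simp⟩ j
        have hgmem : g ∈ A := by
          have : g = (g ^ (2 * j))⁻¹ * g ^ (2 * j + 1) := by rw [pow_succ, inv_mul_cancel_left]
          rw [this, ← hj, hk]
          exact A.mul_mem (A.inv_mem hgA) hzA
        have := A.mul_mem hgmem hzA
        rwa [hg, mul_assoc, hzz, mul_one] at this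
    have himg : ∀ θ : MulAut T, θ g = g ∨ θ g = g⁻¹ := by
      intro θ
      have hne : θ g ^ 2 ≠ 1 := fun h => hgsq (θ.injective (by rw [map_pow, h, map_one]))
      obtain ⟨k, hk⟩ := mem_powers_iff_mem_zpowers.2 ((hall (θ g)).resolve_right hne)
      have hk : g ^ k = θ g := hk
      rw [← Nat.mod_add_div k 4, pow_add, pow_mul, hpow4, one_pow, mul_one] at hk
      have hklt := Nat.mod_lt k (show 4 > 0 by norm_num)
      rcases (show k % 4 = 0 ∨ k % 4 = 1 ∨ k % 4 = 2 ∨ k % 4 = 3 by omega) with h | h | h | h <;>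
        rw [h] at hk
      · exact absurd (by rw [← hk, pow_zero, one_pow]) hne
      · exact Or.inl (by rw [← hk, pow_one])
      · exact absurd (by rw [← hk, ← pow_mul]; exact hpow4) hne
      · refine Or.inr ?_
        rw [← hk]
        exact eq_inv_of_mul_eq_one_left (by rw [← pow_succ]; exact hpow4)
    refine isPGroup_mulAut (Subgroup.zpowers g) zT (N := 2) ?_ hcov hzg ?_ ?_
    · rintro u ⟨k, rfl⟩
      show (g ^ k) ^ 4 = 1
      rw [← zpow_natCast, ← zpow_mul, mul_comm, zpow_mul, zpow_natCast, hpow4, one_zpow]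
    · rintro θ x ⟨k, rfl⟩
      show θ (g ^ k) ∈ _
      rw [map_zpow]
      rcases himg θ with h | h <;> rw [h]
      · exact Subgroup.zpow_mem _ (Subgroup.mem_zpowers g) k
      · exact Subgroup.zpow_mem _ (Subgroup.inv_mem _ (Subgroup.mem_zpowers g)) k
    · rintro θ r hr hθr x ⟨k, rfl⟩
      show θ (g ^ k) = g ^ k
      have hg' : θ g = g := by
        rcases himg θ with h | h
        · exact h
        have hodd : ∀ n : ℕ, (θ ^ (2 * n + 1)) g = g⁻¹ := by
          intro n
          induction n with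
          | zero => simpa using h
          | succ n ih =>
            rw [show 2 * (n + 1) + 1 = (2 * n + 1) + 1 + 1 by ring, pow_succ', pow_succ',
              MulAut.mul_apply, MulAut.mul_apply, ih, map_inv, h, inv_inv, h]
        obtain ⟨n, hn⟩ := hr
        have := hodd n
        rw [← hn, hθr, MulAut.one_apply] at this
        exact h.trans this.symm
      rw [map_zpow, hg']
  · -- `q ≥ 17`
    obtain ⟨a₀, ha₀⟩ := IsCyclic.exists_ofOrder_eq_natCard (α := (ZMod q)ˣ)
    have hord₀ : orderOf (a₀ : ZMod q) = 2 ^ m := by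
      rw [orderOf_units, ha₀, Nat.card_units, Nat.card_zmod]; omega
    have h8 : 8 ≤ 2 ^ m := by
      calc (8 : ℕ) = 2 ^ 3 := by norm_num
        _ ≤ 2 ^ m := Nat.pow_le_pow_right (by norm_num) hm
    have hpowA : ∀ (f : T) (a s : ZMod q), (∀ v, f.1 v = ![a * v 0, s * a⁻¹ * v 1]) →
        ∀ n : ℕ, ∀ v, (f ^ n).1 v = ![a ^ n * v 0, s ^ n * (a ^ n)⁻¹ * v 1] := by
      intro f a s hf n
      induction n with
      | zero => intro v; ext i; fin_cases i <;> simp
      | succ n ih =>
        intro v
        rw [pow_succ', Subgroup.coe_mul]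
        show f.1 ((f ^ n).1 v) = _
        rw [ih, hf]
        ext i; fin_cases i
        · simp [pow_succ', mul_assoc]
        · simp only [Fin.mk_one, Matrix.cons_val_one, Matrix.cons_val_zero, pow_succ', mul_inv]
          ring
    have hord : ∀ (f : T) (s : ZMod q),
        (∀ v, f.1 v = ![(a₀ : ZMod q) * v 0, s * (a₀ : ZMod q)⁻¹ * v 1]) →
        2 ^ m ∣ orderOf f := by
      intro f s hf
      rw [← hord₀]
      refine orderOf_dvd_of_pow_eq_one ?_
      have h := hpowA f _ s hf (orderOf f) ![1, 0]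
      rw [pow_orderOf_eq_one] at h
      have h0 := congrFun h 0
      simp at h0
      exact h0.symm
    obtain ⟨g', hgT, hgv'⟩ := hD a₀ 1 (Or.inl rfl)
    set g : T := ⟨g', hgT⟩ with hgdef
    have hgv : ∀ v, g.1 v = ![(a₀ : ZMod q) * v 0, 1 * (a₀ : ZMod q)⁻¹ * v 1] := hgv'
    obtain ⟨z', hzT, hzv'⟩ := hD 1 (-1) (Or.inr rfl)
    set z : T := ⟨z', hzT⟩ with hzdef
    have hzv : ∀ v, z.1 v = ![v 0, -v 1] := fun v => by
      show z' v = _
      rw [hzv']; simp
    have hzz : z * z = 1 := Subtype.ext (LinearEquiv.ext fun v => by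
      show z.1 (z.1 v) = v
      rw [hzv, hzv]; ext i; fin_cases i <;> simp)
    have hbig : ∀ x : T, 4 < orderOf x → x ∈ A := by
      intro x hx
      rcases hcover x with h | h
      · exact h
      exfalso
      obtain ⟨a, s, ha, hs, hf⟩ := h
      rw [inv_eq_of_mul_eq_one_right hww] at hf
      have hxv : ∀ v, x.1 v = ![s * a⁻¹ * v 1, a * v 0] := fun v => by
        have h1 : x = w * (w * x) := by rw [← mul_assoc, hww, one_mul]
        rw [h1]
        show w.1 ((w * x).1 v) = _
        rw [hf, hw]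
        simp
      have hx2 : ∀ v, (x * x).1 v = ![s * v 0, s * v 1] := fun v => by
        show x.1 (x.1 v) = _
        rw [hxv, hxv]
        ext i; fin_cases i <;> simp [ha] <;> field_simp
      have hx4 : x ^ 4 = 1 := by
        rw [show 4 = 2 + 2 from rfl, pow_add, pow_two]
        refine Subtype.ext (LinearEquiv.ext fun v => ?_)
        show (x * x).1 ((x * x).1 v) = v
        rw [hx2, hx2]
        have hs2 : s * s = 1 := by rcases hs with rfl | rfl <;> simp
        ext i; fin_cases i <;> simp [← mul_assoc, hs2]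
      have := Nat.le_of_dvd (by norm_num) (orderOf_dvd_of_pow_eq_one hx4)
      omega
    -- every element of the diagonal part is a product of a power of `g` and `z`
    have hgen : ∀ x ∈ A, ∃ j : ℕ, x = g ^ j ∨ x = g ^ j * z := by
      rintro x ⟨a, s, ha, hs, hf⟩
      obtain ⟨j, hj⟩ : Units.mk0 a ha ∈ Submonoid.powers a₀ :=
        mem_powers_iff_mem_zpowers.2 (by
          rw [Subgroup.eq_top_of_card_eq (Subgroup.zpowers a₀) (by rw [Nat.card_zpowers, ha₀])]
          exact Subgroup.mem_top _)
      have hj : (a₀ : ZMod q) ^ j = a := by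
        have := congrArg Units.val (show a₀ ^ j = _ from hj)
        simpa using this
      refine ⟨j, ?_⟩
      rcases hs with rfl | rfl
      · refine Or.inl (Subtype.ext (LinearEquiv.ext fun v => ?_))
        rw [hf, hpowA g _ 1 hgv, hj, one_pow]
      · refine Or.inr (Subtype.ext (LinearEquiv.ext fun v => ?_))
        show x.1 v = (g ^ j).1 (z.1 v)
        rw [hf, hpowA g _ 1 hgv, hj, one_pow, hzv]
        ext i; fin_cases i <;> simp
    have hgA : g ∈ A := ⟨_, 1, a₀.ne_zero, Or.inl rfl, hgv⟩
    have hzA : z ∈ A := ⟨1, -1, one_ne_zero, Or.inr rfl, fun v => by rw [hzv]; simp⟩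
    have hgzv : ∀ v, (g * z).1 v = ![(a₀ : ZMod q) * v 0, -1 * (a₀ : ZMod q)⁻¹ * v 1] := fun v => by
      show g.1 (z.1 v) = _
      rw [hgv, hzv]
      generalize (a₀ : ZMod q) = c
      ext i; fin_cases i <;> simp
    have hbigθ : ∀ (θ : MulAut T) (x : T), 2 ^ m ∣ orderOf x → θ x ∈ A := fun θ x hx => by
      refine hbig _ ?_
      rw [MulEquiv.orderOf_eq]
      have := Nat.le_of_dvd (orderOf_pos x) hx
      omega
    have hinv : ∀ θ : MulAut T, ∀ x ∈ A, θ x ∈ A := by
      intro θ x hx
      have h1 := hbigθ θ g (hord g 1 hgv)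
      have h2 := hbigθ θ (g * z) (hord _ _ hgzv)
      have h3 : θ z ∈ A := by
        have := A.mul_mem (A.inv_mem h1) h2
        rwa [map_mul, inv_mul_cancel_left] at this
      obtain ⟨j, rfl | rfl⟩ := hgen x hx
      · rw [map_pow]; exact A.pow_mem h1 j
      · rw [map_mul, map_pow]; exact A.mul_mem (A.pow_mem h1 j) h3
    have hcommA : ∀ x ∈ A, ∀ y ∈ A, x * y = y * x := by
      rintro x ⟨a, s, ha, hs, hx⟩ y ⟨c, t, hc, ht, hy⟩
      refine Subtype.ext (LinearEquiv.ext fun v => ?_)
      show x.1 (y.1 v) = y.1 (x.1 v)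
      rw [hy, hx, hx, hy]
      ext i; fin_cases i <;> simp <;> ring
    have hgord : orderOf g = 2 ^ m := Nat.dvd_antisymm (orderOf_dvd_of_pow_eq_one (by
      refine Subtype.ext (LinearEquiv.ext fun v => ?_)
      rw [hpowA g _ 1 hgv, ← hord₀, pow_orderOf_eq_one, one_pow]
      ext i; fin_cases i <;> simp)) (hord g 1 hgv)
    have hzg : ∀ j : ℕ, g ^ j ≠ z := fun j hj => by
      have h0 := congrFun (congrArg (fun f : T => f.1 ![1, 1]) hj) 0
      have h1 := congrFun (congrArg (fun f : T => f.1 ![1, 1]) hj) 1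
      simp only [hpowA g _ 1 hgv, hzv] at h0 h1
      simp at h0 h1
      rw [h0, inv_one] at h1
      have h2' : (2 : ZMod q) = 0 := by linear_combination h1
      have h2'' : ((2 : ℕ) : ZMod q) = 0 := by exact_mod_cast h2'
      rw [ZMod.natCast_eq_zero_iff] at h2''
      have := Nat.le_of_dvd two_pos h2''
      omega
    refine isPGroup_mulAut A w hexpA hcover hwA hinv ?_
    intro θ r hr hθr
    have hfix_pow : ∀ x : T, θ x = x → ∀ n : ℕ, θ (x ^ n) = x ^ n := fun x h n => by
      rw [map_pow, h]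
    -- `θ (g ^ 2)` is a power of `g ^ 2`
    obtain ⟨j, hj⟩ := hgen _ (hinv θ g hgA)
    have hcgz : g * z = z * g := hcommA _ hgA _ hzA
    have hg2 : θ (g ^ 2) = (g ^ 2) ^ j := by
      rw [map_pow, ← pow_mul, mul_comm 2 j, pow_mul]
      rcases hj with h | h
      · rw [h]
      · rw [h, (show Commute (g ^ j) z from hcommA _ (A.pow_mem hgA j) _ hzA).mul_pow 2, pow_two z,
          hzz, mul_one]
    have hiter : ∀ n : ℕ, (θ ^ n) (g ^ 2) = (g ^ 2) ^ (j ^ n) := by
      intro n
      induction n with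
      | zero => simp
      | succ n ih =>
        rw [pow_succ', MulAut.mul_apply, ih, map_pow, hg2, ← pow_mul, pow_succ' j n]
    have hord2 : orderOf (g ^ 2) = 2 ^ (m - 1) := by
      rw [orderOf_pow' _ two_ne_zero, hgord,
        Nat.gcd_eq_right (dvd_pow_self 2 (show m ≠ 0 by omega)),
        show (2 : ℕ) ^ m = 2 ^ (m - 1) * 2 by rw [← pow_succ]; congr 1; omega,
        Nat.mul_div_cancel _ two_pos]
    have hjodd : Odd j := by
      by_contra hje
      rw [Nat.not_odd_iff_even] at hje
      obtain ⟨i, hi⟩ := hje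
      have h4 : θ ((g ^ 2) ^ (2 ^ (m - 2))) = 1 := by
        rw [map_pow, hg2, ← pow_mul, hi, show (i + i) * 2 ^ (m - 2) = 2 ^ (m - 1) * i by
          rw [show m - 1 = m - 2 + 1 by omega, pow_succ]; ring, pow_mul, ← hord2, pow_orderOf_eq_one,
          one_pow]
      rw [← map_one θ] at h4
      have := orderOf_dvd_of_pow_eq_one (θ.injective h4)
      rw [hord2, Nat.pow_dvd_pow_iff_le_right (by norm_num)] at this
      omega
    have hj1 : (g ^ 2) ^ j = g ^ 2 := by
      have h := hiter r
      rw [hθr, MulAut.one_apply] at h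
      have hmod : j ^ r ≡ 1 [MOD 2 ^ (m - 1)] := by
        rw [← hord2]
        exact pow_eq_pow_iff_modEq.1 (by rw [pow_one]; exact h.symm)
      have hd := (Nat.modEq_iff_dvd).1 hmod.symm
      push_cast at hd
      have hd' := dvd_sub_one_of_pow (k := (j : ℤ)) (by exact_mod_cast hjodd) hr hd
      conv_rhs => rw [← pow_one (g ^ 2)]
      refine pow_eq_pow_iff_modEq.2 (Nat.ModEq.symm ?_)
      rw [hord2, Nat.modEq_iff_dvd]
      push_cast
      exact hd'
    -- the involutions outside `⟨g²⟩`
    set e : T := g ^ (2 ^ (m - 1)) with he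
    have hee : e * e = 1 := by
      rw [he, ← pow_add, ← two_mul, ← pow_succ', show m - 1 + 1 = m by omega, ← hgord,
        pow_orderOf_eq_one]
    have hθe : θ e = e := by
      rw [he, show (2 : ℕ) ^ (m - 1) = 2 * 2 ^ (m - 2) by
        rw [← pow_succ', show m - 2 + 1 = m - 1 by omega], pow_mul]
      exact hfix_pow _ (hg2.trans hj1) _
    have hinvol : ∀ x ∈ A, x * x = 1 → x = 1 ∨ x = e ∨ x = z ∨ x = e * z := by
      intro x hx hxx
      have hcase : ∀ i : ℕ, (g ^ i) * (g ^ i) = 1 → g ^ i = 1 ∨ g ^ i = e := by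
        intro i hi
        rw [← pow_add, ← two_mul] at hi
        have hd := orderOf_dvd_of_pow_eq_one hi
        rw [hgord, show (2 : ℕ) ^ m = 2 * 2 ^ (m - 1) by
          rw [← pow_succ', show m - 1 + 1 = m by omega]] at hd
        obtain ⟨c, rfl⟩ := Nat.dvd_of_mul_dvd_mul_left two_pos hd
        rcases Nat.even_or_odd c with ⟨d, rfl⟩ | ⟨d, rfl⟩
        · refine Or.inl ?_
          rw [pow_mul, ← he, ← two_mul, pow_mul, pow_two, hee, one_pow]
        · refine Or.inr ?_
          rw [pow_mul, ← he, pow_add, pow_mul, pow_two, hee, one_pow, one_mul, pow_one]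
      obtain ⟨i, rfl | rfl⟩ := hgen x hx
      · rcases hcase i hxx with h | h
        · exact Or.inl h
        · exact Or.inr (Or.inl h)
      · have hc := hcommA _ (A.pow_mem hgA i) _ hzA
        have hii : g ^ i * g ^ i = 1 := by
          rw [← hxx]
          calc g ^ i * g ^ i = g ^ i * g ^ i * (z * z) := by rw [hzz, mul_one]
            _ = g ^ i * (g ^ i * z) * z := by simp only [mul_assoc]
            _ = g ^ i * (z * g ^ i) * z := by rw [hc]
            _ = g ^ i * z * (g ^ i * z) := by simp only [mul_assoc]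
        rcases hcase i hii with h | h
        · exact Or.inr (Or.inr (Or.inl (by rw [h, one_mul])))
        · exact Or.inr (Or.inr (Or.inr (by rw [h])))
    have hodd_fix : ∀ x y : T, θ x = y → θ y = x → x = y := by
      intro x y h1 h2
      obtain ⟨n, hn⟩ := hr
      have hn2 : ∀ n : ℕ, (θ ^ (2 * n + 1)) x = y := by
        intro n
        induction n with
        | zero => simpa using h1
        | succ n ih =>
          rw [show 2 * (n + 1) + 1 = (2 * n + 1) + 1 + 1 by ring, pow_succ', pow_succ',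
            MulAut.mul_apply, MulAut.mul_apply, ih, h2, h1]
      have := hn2 n
      rwa [← hn, hθr, MulAut.one_apply] at this
    have hθz : θ z = z := by
      rcases hinvol _ (hinv θ z hzA) (by rw [← map_mul, hzz, map_one]) with h | h | h | h
      · exact absurd (θ.injective (h.trans (map_one θ).symm)) fun h1 => hzg 0 (by rw [pow_zero, h1])
      · exact absurd (θ.injective (h.trans hθe.symm)).symm (hzg _)
      · exact h
      · have h' : θ (e * z) = z := by rw [map_mul, hθe, h, ← mul_assoc, hee, one_mul]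
        exact h.trans (hodd_fix z (e * z) h h').symm
    have hθg : θ g = g := by
      have hv : (g⁻¹ * θ g) * (g⁻¹ * θ g) = 1 := by
        have hc := hcommA _ (hinv θ g hgA) _ (A.inv_mem hgA)
        calc (g⁻¹ * θ g) * (g⁻¹ * θ g) = g⁻¹ * (θ g * g⁻¹) * θ g := by simp only [mul_assoc]
          _ = (g ^ 2)⁻¹ * θ (g ^ 2) := by
            rw [hc, map_pow, pow_two, pow_two, mul_inv_rev]; simp only [mul_assoc]
          _ = 1 := by rw [hg2, hj1, inv_mul_cancel]
      have hvfix : θ (g⁻¹ * θ g) = g⁻¹ * θ g := by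
        rcases hinvol _ (A.mul_mem (A.inv_mem hgA) (hinv θ g hgA)) hv with h | h | h | h <;>
          simp only [h, map_one, map_mul, hθe, hθz]
      set v := g⁻¹ * θ g with hvdef
      have hpw : ∀ n : ℕ, (θ ^ n) g = g * v ^ n := by
        intro n
        induction n with
        | zero => simp
        | succ n ih =>
          rw [pow_succ', MulAut.mul_apply, ih, map_mul, map_pow, hvfix, pow_succ' v, ← mul_assoc,
            hvdef, mul_inv_cancel_left]
      have h1 := hpw r
      obtain ⟨n, hn⟩ := hr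
      rw [hθr, MulAut.one_apply, left_eq_mul, hn, pow_succ, pow_mul, pow_two, hv, one_pow,
        one_mul] at h1
      rw [hvdef, inv_mul_eq_one] at h1
      exact h1.symm
    intro x hx
    obtain ⟨i, rfl | rfl⟩ := hgen x hx
    · exact hfix_pow g hθg i
    · rw [map_mul, hfix_pow g hθg i, hθz]

end Cfsg.Agent.S3382
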