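import Cfsg.Statements.S3383
import Cfsg.Agent.Frobenius.Basic

set_option autoImplicit false
open Cfsg
open scoped Pointwise

namespace Cfsg.Agent.S3383

/-- Let H be a Frobenius complement in a finite group L and K the Frobenius kernel (as a subgroup). Then K is characteristic in L, and every normal subgroup of L either contains K or is contained in K. -/
theorem result {L : Type*} [Group L] [Finite L]
    (H : Subgroup L) (hH : Cfsg.IsFrobeniusComplement H)
    (K : Subgroup L) (hK : (K : Set L) = Cfsg.frobeniusKernel H) :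
    K.Characteristic ∧ ∀ N : Subgroup L, N.Normal → K ≤ N ∨ N ≤ K := by
  have hcop : ∀ x, x ∈ K ↔ Nat.Coprime (orderOf x) (Nat.card H) := fun x => by
    rw [← SetLike.mem_coe, hK]
    exact CfsgLib.Frobenius.mem_frobeniusKernel_iff hH
  refine ⟨Subgroup.characteristic_iff_comap_eq.2 fun φ => ?_, fun N hN => ?_⟩
  · ext x
    simp [hcop, MulEquiv.orderOf_eq]
  have hKn : K.Normal := ⟨fun x hx g => (hcop _).2 (by
    have : orderOf (g * x * g⁻¹) = orderOf x := (MulAut.conj g).orderOf_eq x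
    rw [this]
    exact (hcop x).1 hx)⟩
  by_cases hNK : N ≤ K
  · exact Or.inr hNK
  left
  obtain ⟨y, hy, hy1⟩ := SetLike.not_le_iff_exists.1 hNK
  rw [← SetLike.mem_coe, hK] at hy1
  simp only [Cfsg.frobeniusKernel, Set.mem_setOf_eq, not_or, not_forall, not_not] at hy1
  obtain ⟨hy0, g, hg⟩ := hy1
  rw [CfsgLib.Frobenius.mem_conj_iff] at hg
  set h := g⁻¹ * y * g with hh
  have hhN : h ∈ N := by simpa [hh] using hN.conj_mem y hy g⁻¹
  have hh1 : h ≠ 1 := fun e => hy0 (by
    rw [hh, mul_assoc, inv_mul_eq_one] at e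
    exact mul_eq_right.1 e.symm)
  have hdisj : ∀ x ∈ K, x ∈ H → x = 1 := fun x hx hxH => by
    rw [← SetLike.mem_coe, hK] at hx
    rcases hx with hx | hx
    · exact hx
    · exact absurd (show x ∈ MulAut.conj (1 : L) • H by simpa using hxH) (hx 1)
  let f : K → K := fun k => ⟨(k : L) * (h * (k : L)⁻¹ * h⁻¹),
    K.mul_mem k.2 (hKn.conj_mem _ (K.inv_mem k.2) h)⟩
  have hf : Function.Injective f := fun a b hab => by
    have e : (a : L) * (h * (a : L)⁻¹ * h⁻¹) = (b : L) * (h * (b : L)⁻¹ * h⁻¹) :=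
      congrArg Subtype.val hab
    have e2 : (a : L) * h * (a : L)⁻¹ = (b : L) * h * (b : L)⁻¹ := by
      simp only [← mul_assoc] at e
      exact mul_right_cancel e
    have hc : ((b : L)⁻¹ * a) * h = h * ((b : L)⁻¹ * a) := by
      calc ((b : L)⁻¹ * a) * h = (b : L)⁻¹ * ((a : L) * h * (a : L)⁻¹) * a := by group
        _ = (b : L)⁻¹ * ((b : L) * h * (b : L)⁻¹) * a := by rw [e2]
        _ = h * ((b : L)⁻¹ * a) := by group
    have := hdisj _ (K.mul_mem (K.inv_mem b.2) a.2)
      (CfsgLib.Frobenius.centralizer_le hH hg hh1 (Subgroup.mem_centralizer_singleton_iff.2 hc))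
    exact Subtype.ext (inv_mul_eq_one.1 this).symm
  intro k hk
  obtain ⟨a, ha⟩ := (Finite.injective_iff_surjective.1 hf) ⟨k, hk⟩
  rw [← show (a : L) * (h * (a : L)⁻¹ * h⁻¹) = k from congrArg Subtype.val ha]
  have e : (a : L) * (h * (a : L)⁻¹ * h⁻¹) = ((a : L) * h * (a : L)⁻¹) * h⁻¹ := by group
  rw [e]
  exact N.mul_mem (hN.conj_mem h hhN _) (N.inv_mem hhN)

end Cfsg.Agent.S3383
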