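import Cfsg.Statements.S3389
-- no helper imports

set_option autoImplicit false
open Cfsg
open scoped Pointwise

namespace Cfsg.Agent.S3389

/-- Let G be a finite group acting faithfully and transitively on a finite set Ω with fixity k ≥ 1: every non-identity element fixes at most k points and some non-identity element fixes exactly k points. Then |Z(G)| divides k; if k = 2 then |G| is even; and for every prime p > k dividing |G| and every point α, either p does not divide |G_α| or G_α contains a Sylow p-subgroup of G. -/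
theorem result {G : Type*} [Group G] [Finite G] {Ω : Type*} [Fintype Ω] [MulAction G Ω] [FaithfulSMul G Ω]
    (htr : MulAction.IsPretransitive G Ω) (k : ℕ) (hk : 1 ≤ k)
    (hfix : ∀ g : G, g ≠ 1 → Nat.card (MulAction.fixedBy Ω g) ≤ k) (hex : ∃ g : G, g ≠ 1 ∧ Nat.card (MulAction.fixedBy Ω g) = k) :
    Nat.card (Subgroup.center G) ∣ k ∧ (k = 2 → 2 ∣ Nat.card G) ∧
      ∀ (p : ℕ), p.Prime → k < p → p ∣ Nat.card G → ∀ α : Ω,
        ¬ p ∣ Nat.card (MulAction.stabilizer G α) ∨ ¬ p ∣ (MulAction.stabilizer G α).index := by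
  classical
  have hFin : ∀ g : G, Finite (MulAction.fixedBy Ω g) := fun g => inferInstance
  -- a p-subgroup whose normalizer has index prime to p modulo it is Sylow
  have hsyl : ∀ (p : ℕ), p.Prime → ∀ (S Q : Subgroup G), IsPGroup p Q → Q ≤ S →
      ¬ p ∣ Q.relIndex S → ¬ p ∣ S.relIndex (Subgroup.normalizer (Q : Set G)) → ¬ p ∣ Q.index := by
    intro p hp S Q hQ hQS h1 h2 hd
    have : Fact p.Prime := ⟨hp⟩
    obtain ⟨n, hn⟩ := IsPGroup.iff_card.1 hQ
    have hdvd : p ^ (n + 1) ∣ Nat.card G := by
      rw [← Q.card_mul_index, hn, pow_succ]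
      exact mul_dvd_mul_left _ hd
    have h3 : p ∣ Q.relIndex (Subgroup.normalizer (Q : Set G)) :=
      Sylow.prime_dvd_card_quotient_normalizer hdvd hn
    set N := Subgroup.normalizer (Q : Set G) with hN
    have hQN : Q ≤ N := Subgroup.le_normalizer
    have e : Q.relIndex (S ⊓ N) * (S ⊓ N).relIndex N = Q.relIndex N :=
      Subgroup.relIndex_mul_relIndex Q (S ⊓ N) N (le_inf hQS hQN) inf_le_right
    rw [Subgroup.inf_relIndex_right] at e
    have h4 : Q.relIndex (S ⊓ N) ∣ Q.relIndex S :=
      Dvd.intro _ (Subgroup.relIndex_mul_relIndex Q (S ⊓ N) S (le_inf hQS hQN) inf_le_left)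
    rw [← e] at h3
    rcases hp.dvd_mul.1 h3 with h | h
    · exact h1 (h.trans h4)
    · exact h2 h
  have hexQ : ∀ (p : ℕ), p.Prime → ∀ S : Subgroup G, ∃ Q : Subgroup G, IsPGroup p Q ∧ Q ≤ S ∧
      ¬ p ∣ Q.relIndex S ∧ (p ∣ Nat.card S → Q ≠ ⊥) := by
    intro p hp S
    have : Fact p.Prime := ⟨hp⟩
    obtain ⟨P⟩ : Nonempty (Sylow p S) := inferInstance
    refine ⟨(P : Subgroup S).map S.subtype, P.2.map _, Subgroup.map_subtype_le _, ?_, ?_⟩
    · show ¬ p ∣ (((P : Subgroup S).map S.subtype).subgroupOf S).index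
      rw [Subgroup.subgroupOf, Subgroup.comap_map_eq_self_of_injective S.subtype_injective]
      exact P.not_dvd_index
    · intro hd hbot
      rw [Subgroup.map_eq_bot_iff_of_injective _ S.subtype_injective] at hbot
      exact P.ne_bot_of_dvd_card hd hbot
  refine ⟨?_, ?_, ?_⟩
  · obtain ⟨g, hg1, hg⟩ := hex
    let Z := Subgroup.center G
    have hmem : ∀ (z : Z) (ω : Ω), ω ∈ MulAction.fixedBy Ω g → z • ω ∈ MulAction.fixedBy Ω g := by
      intro z ω hω
      show g • (z : G) • ω = (z : G) • ω
      rw [← mul_smul, Subgroup.mem_center_iff.1 z.2 g, mul_smul]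
      exact congrArg _ hω
    let act : MulAction Z (MulAction.fixedBy Ω g) :=
      { smul := fun z ω => ⟨z • ω.1, hmem z ω.1 ω.2⟩
        one_smul := fun ω => Subtype.ext (one_smul Z ω.1)
        mul_smul := fun a b ω => Subtype.ext (mul_smul a b ω.1) }
    have hfree : ∀ ω : MulAction.fixedBy Ω g, @MulAction.stabilizer Z _ _ act ω = ⊥ := fun ω =>
      (Subgroup.eq_bot_iff_forall _).2 fun z hz => by
        have hz' : (z : G) • ω.1 = ω.1 := congrArg Subtype.val hz
        refine Subtype.ext (FaithfulSMul.eq_of_smul_eq_smul fun x : Ω => ?_)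
        obtain ⟨a, rfl⟩ := htr.exists_smul_eq ω.1 x
        rw [← mul_smul, ← Subgroup.mem_center_iff.1 z.2 a, mul_smul, hz']
        exact (one_smul G _).symm
    have e := Nat.card_congr (@MulAction.selfEquivOrbitsQuotientProd Z _ _ act hfree)
    rw [Nat.card_prod, hg] at e
    exact Dvd.intro_left _ e.symm
  · rintro rfl
    obtain ⟨g, hg1, hg⟩ := hex
    obtain ⟨⟨α, hα⟩, ⟨β, hβ⟩, hne, huniv⟩ := Nat.card_eq_two_iff.1 hg
    have hαβ : α ≠ β := fun h => hne (Subtype.ext h)
    set D := MulAction.stabilizer G α ⊓ MulAction.stabilizer G β with hD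
    have hgD : g ∈ D := ⟨hα, hβ⟩
    have hD1 : Nat.card D ≠ 1 := fun h => hg1 (by
      rw [Subgroup.card_eq_one] at h
      rw [h] at hgD
      exact Subgroup.mem_bot.1 hgD)
    obtain ⟨p, hp, hpD⟩ := Nat.exists_prime_and_dvd hD1
    obtain ⟨Q, hQp, hQD, hQi, hQne⟩ := hexQ p hp D
    obtain ⟨x, hxQ, hx1⟩ : ∃ x ∈ Q, x ≠ 1 := by
      by_contra h
      push Not at h
      exact hQne hpD ((Subgroup.eq_bot_iff_forall _).2 h)
    have hfixQ : ∀ γ : Ω, (∀ y ∈ Q, y • γ = γ) → γ = α ∨ γ = β := fun γ hγ => by
      by_contra h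
      push Not at h
      have hsub : ({α, β, γ} : Finset Ω) ⊆ Finset.univ.filter fun w => x • w = w := by
        intro w hw
        simp only [Finset.mem_insert, Finset.mem_singleton] at hw
        simp only [Finset.mem_filter, Finset.mem_univ, true_and]
        rcases hw with rfl | rfl | rfl
        · exact (hQD hxQ).1
        · exact (hQD hxQ).2
        · exact hγ x hxQ
      have h1 := Finset.card_le_card hsub
      rw [Finset.card_eq_three.2 ⟨α, β, γ, hαβ, h.1.symm, h.2.symm, rfl⟩] at h1
      have h2 := hfix x hx1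
      rw [Nat.card_eq_fintype_card] at h2
      have h3 : Fintype.card (MulAction.fixedBy Ω x) =
          (Finset.univ.filter fun w : Ω => x • w = w).card := by
        rw [← Fintype.card_subtype (fun w : Ω => x • w = w)]
        exact Fintype.card_congr (Equiv.refl _)
      omega
    have hmove : ∀ n ∈ Subgroup.normalizer (Q : Set G), ∀ γ : Ω, (∀ y ∈ Q, y • γ = γ) →
        ∀ y ∈ Q, y • n • γ = n • γ := by
      intro n hn γ hγ y hy
      have hy' : n⁻¹ * y * n ∈ Q := (Subgroup.mem_normalizer_iff''.1 hn y).1 hy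
      have := congrArg (n • ·) (hγ _ hy')
      simpa [mul_smul] using this
    have hQα : ∀ y ∈ Q, y • α = α := fun y hy => (hQD hy).1
    have hQβ : ∀ y ∈ Q, y • β = β := fun y hy => (hQD hy).2
    have hswap : ∀ n : G, n • α = β → n • β = α → 2 ∣ Nat.card G := by
      intro n h1 h2
      have hpw : ∀ j : ℕ, n ^ (2 * j + 1) • α = β := by
        intro j
        induction j with
        | zero => simpa using h1
        | succ j ih =>
          rw [show 2 * (j + 1) + 1 = (2 * j + 1) + 1 + 1 by ring, pow_succ', pow_succ',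
            mul_smul, mul_smul, ih, h2, h1]
      by_contra hodd
      have ho : ¬ 2 ∣ orderOf n := fun h => hodd (h.trans (orderOf_dvd_natCard n))
      obtain ⟨j, hj⟩ : ∃ j, orderOf n = 2 * j + 1 := ⟨orderOf n / 2, by omega⟩
      have := hpw j
      rw [← hj, pow_orderOf_eq_one, one_smul] at this
      exact hαβ this
    by_cases hN : ∀ n ∈ Subgroup.normalizer (Q : Set G), n ∈ D
    · exfalso
      have hidx : ¬ p ∣ Q.index := by
        refine hsyl p hp D Q hQp hQD hQi ?_
        rw [Subgroup.relIndex_eq_one.2 hN]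
        exact hp.not_dvd_one
      have : Fact p.Prime := ⟨hp⟩
      obtain ⟨a, ha⟩ := htr.exists_smul_eq α β
      have hQβ' : Q ≤ MulAction.stabilizer G β := fun y hy => hQβ y hy
      have hQa : ∀ y ∈ Q, a * y * a⁻¹ ∈ MulAction.stabilizer G β := fun y hy => by
        show (a * y * a⁻¹) • β = β
        rw [← ha, mul_smul, mul_smul, inv_smul_smul, hQα y hy]
      set S := MulAction.stabilizer G β
      set A : Subgroup G := Q.map (MulAut.conj a).toMonoidHom with hA
      have hAS : A ≤ S := by
        rintro _ ⟨y, hy, rfl⟩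
        exact hQa y hy
      have hAp : IsPGroup p A := hQp.map _
      have hnd : ∀ R : Subgroup G, R ≤ S → R.index = Q.index → ¬ p ∣ (R.subgroupOf S).index :=
        fun R hR hRi h => hidx (hRi ▸ h.trans (Subgroup.relIndex_mul_index hR ▸ dvd_mul_right _ _))
      have hAi : A.index = Q.index :=
        Subgroup.index_map_equiv (H := Q) (e := MulAut.conj a)
      let P₁ : Sylow p S := (IsPGroup.toSylow (hAp.comap_subtype (K := S)) (hnd A hAS hAi))
      let P₂ : Sylow p S := (IsPGroup.toSylow (hQp.comap_subtype (K := S)) (hnd Q hQβ' rfl))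
      obtain ⟨s, hs⟩ := MulAction.exists_smul_eq S P₁ P₂
      have hn : (s : G) * a ∈ Subgroup.normalizer (Q : Set G) := by
        refine Subgroup.mem_normalizer_iff.2 fun y => ?_
        have hmap : ∀ y ∈ Q, (s : G) * a * y * ((s : G) * a)⁻¹ ∈ Q := fun y hy => by
          have h1 : (⟨a * y * a⁻¹, hQa y hy⟩ : S) ∈ (P₁ : Subgroup S) :=
            Subgroup.mem_map_of_mem _ hy
          have h2 := Subgroup.smul_mem_pointwise_smul _ (MulAut.conj s) _ h1
          rw [← Sylow.coe_subgroup_smul] at h2
          change _ ∈ ((s • P₁ : Sylow p S) : Subgroup S) at h2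
          rw [hs] at h2
          have h3 : (s : G) * (a * y * a⁻¹) * (s : G)⁻¹ ∈ Q := h2
          simpa [mul_assoc] using h3
        refine ⟨hmap y, fun hy => ?_⟩
        let f : Q → Q := fun w => ⟨_, hmap w.1 w.2⟩
        have hf : Function.Injective f := fun u v huv =>
          Subtype.ext (by simpa [f] using congrArg Subtype.val huv)
        obtain ⟨⟨w, hw⟩, hw'⟩ := Finite.injective_iff_surjective.1 hf ⟨_, hy⟩
        have : (s : G) * a * w * ((s : G) * a)⁻¹ = (s : G) * a * y * ((s : G) * a)⁻¹ :=
          congrArg Subtype.val hw'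
        rw [mul_left_inj, mul_right_inj] at this
        exact this ▸ hw
      have hb := (hN _ hn).1
      have hb' : ((s : G) * a) • α = α := hb
      rw [mul_smul, ha] at hb'
      exact hαβ (hb'.symm.trans s.2)
    · push Not at hN
      obtain ⟨n, hn, hnD⟩ := hN
      have hna := hfixQ _ (hmove n hn α hQα)
      have hnb := hfixQ _ (hmove n hn β hQβ)
      rcases hna with h1 | h1 <;> rcases hnb with h2 | h2
      · exact absurd (smul_left_cancel n (h1.trans h2.symm)) hαβ
      · exact absurd (show n ∈ D from ⟨h1, h2⟩) hnD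
      · exact hswap n h1 h2
      · exact absurd (smul_left_cancel n (h1.trans h2.symm)) hαβ
  · intro p hp hkp _ α
    by_contra h
    push Not at h
    obtain ⟨hpS, hpi⟩ := h
    set S := MulAction.stabilizer G α
    obtain ⟨Q, hQp, hQS, hQi, hQne⟩ := hexQ p hp S
    obtain ⟨x, hxQ, hx1⟩ : ∃ x ∈ Q, x ≠ 1 := by
      by_contra h
      push Not at h
      exact hQne hpS ((Subgroup.eq_bot_iff_forall _).2 h)
    refine hsyl p hp S Q hQp hQS hQi ?_ (hpi.trans ?_)
    · intro hd
      set N := Subgroup.normalizer (Q : Set G)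
      have e : S.relIndex N = Nat.card (MulAction.orbit N α) := by
        rw [← Nat.card_congr (MulAction.orbitEquivQuotientStabilizer N α).symm]
        rfl
      have hle : Nat.card (MulAction.orbit N α) ≤ Nat.card (MulAction.fixedBy Ω x) := by
        refine Nat.card_mono (Set.toFinite _) ?_
        rintro _ ⟨n, rfl⟩
        have hy : (n : G)⁻¹ * x * n ∈ Q := (Subgroup.mem_normalizer_iff''.1 n.2 x).1 hxQ
        have := congrArg (fun w : Ω => (n : G) • w) (hQS hy : ((n : G)⁻¹ * x * n) • α = α)
        show x • ((n : G) • α) = (n : G) • α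
        simpa [mul_smul] using this
      have := Nat.le_of_dvd (Nat.pos_of_ne_zero (by
        rw [e]
        have : Nonempty (MulAction.orbit N α) := ⟨⟨α, MulAction.mem_orbit_self α⟩⟩
        exact Nat.card_pos.ne')) hd
      rw [e] at this
      have := hfix x hx1
      omega
    · exact Subgroup.index_dvd_of_le hQS

end Cfsg.Agent.S3389
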