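import Cfsg.Statements.S3391
import Cfsg.Agent.Suzuki.Fixity
import Cfsg.Agent.Suzuki.LieModel

set_option autoImplicit false
open Cfsg

namespace Cfsg.Agent.S3391

open CfsgLib.Suzuki

/-- Transporting the fixed point bound to the coset form. -/
theorem carry_count {G : Type*} [Group G] [Finite G] {Ω : Type*} [Fintype Ω] [MulAction G Ω]
    [MulAction.IsPretransitive G Ω] (α : Ω) (g : G) :
    Nat.card {x : G // (x⁻¹ * g * x) • α = α} =
      Nat.card (MulAction.fixedBy Ω g) * Nat.card (MulAction.stabilizer G α) := by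
  choose s hs using fun ω : Ω => MulAction.exists_smul_eq G α ω
  rw [← Nat.card_prod]
  symm
  refine Nat.card_congr
    { toFun := fun p => ⟨s p.1 * (p.2 : G), ?_⟩
      invFun := fun x => (⟨x.1 • α, ?_⟩, ⟨(s (x.1 • α))⁻¹ * x.1, ?_⟩)
      left_inv := ?_
      right_inv := ?_ }
  · have h1 : g • (p.1 : Ω) = p.1 := p.1.2
    rw [mul_smul, mul_smul, mul_smul, MulAction.mem_stabilizer_iff.1 p.2.2, hs, h1,
      inv_smul_eq_iff, mul_smul, MulAction.mem_stabilizer_iff.1 p.2.2, hs]
  · have h1 := x.2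
    rw [mul_smul, mul_smul, inv_smul_eq_iff] at h1
    exact h1
  · rw [MulAction.mem_stabilizer_iff, mul_smul, inv_smul_eq_iff, hs]
  · rintro ⟨ω, k⟩
    have h1 : (s ω * (k : G)) • α = ω := by rw [mul_smul, MulAction.mem_stabilizer_iff.1 k.2, hs]
    ext
    · exact h1
    · show (s ((s ω * (k : G)) • α))⁻¹ * (s ω * (k : G)) = k
      rw [h1, inv_mul_cancel_left]
  · intro x
    exact Subtype.ext (mul_inv_cancel_left _ _)

/-- Let q = 2^{2m+1} ≥ 8 and let G be isomorphic to the Suzuki group Sz(q). If G acts faithfully and transitively on a finite set Ω with fixity 2 (every non-identity element fixes at most two points, and some fixes exactly two), then either |Ω| = q² + 1 and the action is 2-transitive, or |Ω| = q²(q² + 1) and the point stabilizers have order q − 1. -/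
theorem result {G : Type*} [Group G] [Finite G] (F : Type) [Field F] [Fintype F] (m : ℕ) (hm : 1 ≤ m) (hF : Fintype.card F = 2 ^ (2 * m + 1))
    (e : G ≃* ↥(Cfsg.Lie.Sz F (2 ^ (m + 1)))) {Ω : Type*} [Fintype Ω] [MulAction G Ω] [FaithfulSMul G Ω] (htr : MulAction.IsPretransitive G Ω)
    (hfix : ∀ g : G, g ≠ 1 → Nat.card (MulAction.fixedBy Ω g) ≤ 2) (hex : ∃ g : G, g ≠ 1 ∧ Nat.card (MulAction.fixedBy Ω g) = 2) :
    (Fintype.card Ω = Fintype.card F ^ 2 + 1 ∧ MulAction.IsMultiplyPretransitive G Ω 2) ∨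
    (Fintype.card Ω = Fintype.card F ^ 2 * (Fintype.card F ^ 2 + 1) ∧ ∀ α : Ω, Nat.card (MulAction.stabilizer G α) = Fintype.card F - 1) := by
  classical
  have h := isSzField_of_card hm hF
  let e' : G ≃* SzG F m := e.trans (lieEquiv h).symm
  have := htr
  have hK : ∀ β : Ω, Nat.card ((MulAction.stabilizer G β).map e'.toMonoidHom) =
      Nat.card (MulAction.stabilizer G β) :=
    fun β => Subgroup.card_map_of_injective e'.injective
  have hfix2 : ∀ β : Ω, FixityTwo ((MulAction.stabilizer G β).map e'.toMonoidHom) := by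
    intro β y hy
    obtain ⟨g, rfl⟩ : ∃ g, e' g = y := e'.surjective y
    have hg : g ≠ 1 := fun e0 => hy (by rw [e0, map_one])
    rw [← Nat.card_coe_set_eq, hK]
    refine le_trans (le_of_eq ?_) (Nat.mul_le_mul_right _ (hfix g hg))
    rw [← carry_count β g]
    refine (Nat.card_congr (Equiv.subtypeEquiv e'.toEquiv fun x => ?_)).symm
    show (x⁻¹ * g * x) • β = β ↔
      (e' x)⁻¹ * e' g * e' x ∈ (MulAction.stabilizer G β).map e'.toMonoidHom
    rw [← map_inv, ← map_mul, ← map_mul]
    constructor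
    · intro hx; exact ⟨_, hx, rfl⟩
    · rintro ⟨z, hz, hz'⟩
      rw [← e'.injective hz']; exact hz
  obtain ⟨g₀, hg₀, hg₀2⟩ := hex
  obtain ⟨⟨α, hα⟩⟩ : Nonempty (MulAction.fixedBy Ω g₀) := by
    have : 0 < Nat.card (MulAction.fixedBy Ω g₀) := by omega
    exact (Nat.card_pos_iff.1 this).1
  have hΩ : 2 ≤ Nat.card Ω := hg₀2 ▸ Nat.card_le_card_of_injective _ Subtype.val_injective
  have hne : ∀ β : Ω, (MulAction.stabilizer G β).map e'.toMonoidHom ≠ ⊤ := by
    intro β e0
    have h1 : ∀ ω : Ω, ω = β := by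
      intro ω
      obtain ⟨x, hx⟩ := MulAction.exists_smul_eq G β ω
      have h2 : e' x ∈ (MulAction.stabilizer G β).map e'.toMonoidHom := e0 ▸ Subgroup.mem_top _
      obtain ⟨z, hz, hz'⟩ := h2
      rw [← hx, ← e'.injective hz']
      exact hz
    have : Subsingleton Ω := ⟨fun a b => (h1 a).trans (h1 b).symm⟩
    have := (Finite.card_le_one_iff_subsingleton).2 this
    omega
  have hstab : ∀ β : Ω, Nat.card (MulAction.stabilizer G β) = Nat.card (MulAction.stabilizer G α) := by
    intro β
    obtain ⟨x, rfl⟩ := MulAction.exists_smul_eq G α β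
    rw [MulAction.stabilizer_smul_eq_stabilizer_map_conj]
    exact Subgroup.card_map_of_injective (MulAut.conj x).injective
  have hbot : (MulAction.stabilizer G α).map e'.toMonoidHom ≠ ⊥ := by
    intro e0
    have h1 : e' g₀ ∈ (MulAction.stabilizer G α).map e'.toMonoidHom := ⟨g₀, hα, rfl⟩
    rw [e0, Subgroup.mem_bot] at h1
    exact hg₀ (e'.injective (h1.trans (map_one e').symm))
  have hG : Nat.card G = Nat.card F ^ 2 * (Nat.card F ^ 2 + 1) * (Nat.card F - 1) := by
    rw [Nat.card_congr e'.toEquiv]; exact card_Sz h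
  have hmul : Nat.card Ω * Nat.card (MulAction.stabilizer G α) = Nat.card G := by
    rw [← MulAction.index_stabilizer_of_transitive G α]
    exact (MulAction.stabilizer G α).index_mul_card
  rcases fixity_cases h (hne α) hbot (hfix2 α) with ⟨p, hp, hHp⟩ | hq
  · left
    choose s hs using fun ω : Ω => MulAction.exists_smul_eq G α ω
    let f : Ω → Cfsg.suzukiOvoid F m := fun ω => ⟨e' (s ω) • p, smul_mem_ovoid' (e' (s ω)) hp⟩
    have hkey : ∀ x : G, x • α = α ↔ e' x • p = p := by
      intro x
      rw [← MulAction.mem_stabilizer_iff, ← MulAction.mem_stabilizer_iff (g := e' x), ← hHp]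
      exact (Subgroup.mem_map_equiv (f := e') (x := e' x)).trans (by simp) |>.symm
    have hequiv : ∀ (x : G) (ω : Ω), (f (x • ω) : _) = e' x • (f ω).1 := by
      intro x ω
      show e' (s (x • ω)) • p = e' x • (e' (s ω) • p)
      rw [← mul_smul, ← map_mul, ← inv_smul_eq_iff, ← map_inv, ← mul_smul, ← map_mul, ← hkey,
        mul_smul, inv_smul_eq_iff, hs, mul_smul, hs]
    have hinj : Function.Injective f := by
      intro a b e0
      have e1 : e' (s a) • p = e' (s b) • p := congrArg Subtype.val e0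
      rw [← inv_smul_eq_iff, ← map_inv, ← mul_smul, ← map_mul, ← hkey, mul_smul, inv_smul_eq_iff,
        hs, hs] at e1
      exact e1
    have hsurj : Function.Surjective f := by
      rintro ⟨r, hr⟩
      obtain ⟨k, hk, hkp⟩ := exists_move h hp
      obtain ⟨l, hl, hlr⟩ := exists_move h hr
      let y : SzG F m := ⟨l, hl⟩ * (⟨k, hk⟩ : SzG F m)⁻¹
      have hy : y • p = r := by
        show (l * k⁻¹) • p = r
        rw [mul_smul, ← hkp, inv_smul_smul, hlr]
      refine ⟨e'.symm y • α, Subtype.ext ?_⟩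
      rw [hequiv, MulEquiv.apply_symm_apply]
      show y • e' (s α) • p = r
      rw [(hkey (s α)).1 (hs α), hy]
    constructor
    · have := h.finite
      rw [← Nat.card_eq_fintype_card, Nat.card_congr (Equiv.ofBijective f ⟨hinj, hsurj⟩),
        card_ovoid, Nat.card_eq_fintype_card]
    · rw [MulAction.is_two_pretransitive_iff]
      intro a b c d hab hcd
      obtain ⟨y, y1, y2⟩ := exists_pair h (f a).2 (f b).2 fun e0 => hab (hinj (Subtype.ext e0))
      obtain ⟨z, z1, z2⟩ := exists_pair h (f c).2 (f d).2 fun e0 => hcd (hinj (Subtype.ext e0))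
      refine ⟨e'.symm (z * y⁻¹), hinj (Subtype.ext ?_), hinj (Subtype.ext ?_)⟩
      · rw [hequiv, MulEquiv.apply_symm_apply, mul_smul, ← y1, inv_smul_smul, z1]
      · rw [hequiv, MulEquiv.apply_symm_apply, mul_smul, ← y2, inv_smul_smul, z2]
  · right
    rw [hK] at hq
    have hF' : Nat.card F = Fintype.card F := Nat.card_eq_fintype_card
    refine ⟨?_, fun β => by rw [hstab β, hq, hF']⟩
    rw [hq, hG] at hmul
    have hpos : 0 < Nat.card F - 1 := by
      rw [h.card]
      have : 2 ≤ 2 ^ (2 * m + 1) := Nat.le_self_pow (by omega) 2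
      omega
    rw [← Nat.card_eq_fintype_card, ← hF']
    exact Nat.eq_of_mul_eq_mul_right hpos hmul

end Cfsg.Agent.S3391
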