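import Cfsg.Statements.S3419
import Cfsg.Agent.SpecBlow.AltOrderSpec
import Cfsg.Agent.SpecBlow.TwoPrimes

set_option autoImplicit false
open Cfsg

namespace Cfsg.Agent.S3419

/-- Let n ≥ 5 and let G be a finite group with the same order and the same set of element orders as the alternating group of degree n. Then G is not solvable. -/
theorem result {G : Type*} [Group G] [Finite G] (n : ℕ) (hn : 5 ≤ n)
    (hcard : Nat.card G = Nat.card ↥(alternatingGroup (Fin n)))
    (hspec : Set.range (orderOf : G → ℕ) = Set.range (orderOf : ↥(alternatingGroup (Fin n)) → ℕ)) :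
    ¬ Group.IsSolvable G := by
  intro hsol
  haveI := hsol
  have hno : ∀ p r : ℕ, p.Prime → r.Prime → p ≠ r → n < p + r → ∀ g : G, orderOf g ≠ p * r :=
    fun p r hp hr hne h g => CfsgLib.AltOrderSpec.orderOf_ne_of_range hp hr hne h hspec g
  have h2 := CfsgLib.AltOrderSpec.two_mul_card n (by omega)
  rw [← hcard] at h2
  -- two primes in the upper half
  have hpair : ∀ p r : ℕ, p.Prime → r.Prime → p < r → n < 2 * p → r ≤ n → False := by
    intro p r hp hr hpr h2p hrn
    obtain ⟨hp1, hp2⟩ := CfsgLib.AltOrderSpec.dvd_card_iff hn hp (by omega) h2p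
    obtain ⟨hr1, hr2⟩ := CfsgLib.AltOrderSpec.dvd_card_iff hn hr hrn (by omega)
    rw [← hcard] at hp1 hp2 hr1 hr2
    have hpr' : p * r ∣ Nat.card G :=
      ((Nat.coprime_primes hp hr).2 hpr.ne).mul_dvd_of_dvd_of_dvd hp1 hr1
    obtain ⟨m, hm⟩ := hpr'
    have hcop : (p ^ 1 * r).Coprime m := by
      rw [pow_one]
      refine Nat.Coprime.mul_left ?_ ?_
      · exact hp.coprime_iff_not_dvd.2 fun h => hp2 (by
          rw [hm, pow_two, mul_assoc]; exact mul_dvd_mul_left p (dvd_mul_of_dvd_right h r))
      · exact hr.coprime_iff_not_dvd.2 fun h => hr2 (by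
          rw [hm, pow_two, mul_comm p r, mul_assoc]; exact mul_dvd_mul_left r (dvd_mul_of_dvd_right h p))
    obtain ⟨g, hg⟩ := CfsgLib.AltOrderSpec.solvable_exists_orderOf hp hr hpr.ne
      (b := 1) (m := m) (by rw [pow_one]; exact hm) le_rfl hcop
      (fun i hi hi' => by
        rw [show i = 1 by omega, pow_one, Nat.mod_eq_of_lt hpr]; exact hp.one_lt.ne')
      (fun h => by
        have := hp.two_le
        obtain ⟨c, hc⟩ := h
        have hc1 : c = 1 := by
          by_contra hne
          rcases Nat.eq_zero_or_pos c with rfl | hc0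
          · omega
          · have : p * 2 ≤ p * c := Nat.mul_le_mul_left p (by omega)
            omega
        subst hc1
        have hp2 : p ≠ 2 := by omega
        obtain ⟨s, hs⟩ := hr.odd_of_ne_two (by omega)
        obtain ⟨t, ht⟩ := hp.odd_of_ne_two hp2
        omega)
    exact hno p r hp hr hpr.ne (by omega) g hg
  rcases le_or_gt 11 n with h11 | h11
  · obtain ⟨p, r, hp, hr, hpr, h1, h3⟩ := CfsgLib.TwoPrimes.exists_two_primes h11
    exact hpair p r hp hr hpr h1 h3
  interval_cases n
  · exact hpair 3 5 (by norm_num) (by norm_num) (by norm_num) (by norm_num) (by norm_num)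
  · obtain ⟨g, hg⟩ := CfsgLib.AltOrderSpec.solvable_exists_orderOf (G := G) (p := 3) (r := 5) (b := 2)
      (m := 8) (by norm_num) (by norm_num) (by norm_num)
      (by norm_num [Nat.factorial] at h2 ⊢; omega) (by norm_num) (by decide)
      (fun i hi hi' => by interval_cases i <;> norm_num) (by norm_num)
    exact hno 3 5 (by norm_num) (by norm_num) (by norm_num) (by norm_num) g hg
  · exact hpair 5 7 (by norm_num) (by norm_num) (by norm_num) (by norm_num) (by norm_num)
  · exact hpair 5 7 (by norm_num) (by norm_num) (by norm_num) (by norm_num) (by norm_num)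
  · exact hpair 5 7 (by norm_num) (by norm_num) (by norm_num) (by norm_num) (by norm_num)
  · obtain ⟨g, hg⟩ := CfsgLib.AltOrderSpec.solvable_exists_orderOf (G := G) (p := 5) (r := 7) (b := 2)
      (m := 10368) (by norm_num) (by norm_num) (by norm_num)
      (by norm_num [Nat.factorial] at h2 ⊢; omega) (by norm_num) (by decide +kernel)
      (fun i hi hi' => by interval_cases i <;> norm_num) (by norm_num)
    exact hno 5 7 (by norm_num) (by norm_num) (by norm_num) (by norm_num) g hg

end Cfsg.Agent.S3419
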