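import Cfsg.Statements.S3420
import Cfsg.Agent.SpecBlow.AltOrderSpec
import Cfsg.Agent.SpecBlow.TwoPrimes
import Cfsg.Agent.Perm.MinimalNormal

set_option autoImplicit false
open Cfsg

namespace Cfsg.Agent.S3420

/-- Let n ≥ 11 and let G be a finite group with the same order and the same set of element orders as the alternating group of degree n. Then G has normal subgroups N < H such that H/N is a non-abelian simple group whose order is divisible by every prime p with n/2 < p ≤ n. -/
theorem result {G : Type*} [Group G] [Finite G] (n : ℕ) (hn : 11 ≤ n)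
    (hcard : Nat.card G = Nat.card ↥(alternatingGroup (Fin n)))
    (hspec : Set.range (orderOf : G → ℕ) = Set.range (orderOf : ↥(alternatingGroup (Fin n)) → ℕ)) :
    ∃ (N H : Subgroup G) (_ : N.Normal), H.Normal ∧ N < H ∧
      IsSimpleGroup (↥H ⧸ N.subgroupOf H) ∧ ¬ IsMulCommutative (↥H ⧸ N.subgroupOf H) ∧
      ∀ p : ℕ, p.Prime → n < 2 * p → p ≤ n → p ∣ Nat.card (↥H ⧸ N.subgroupOf H) := by
  classical
  set big : ℕ → Prop := fun p => p.Prime ∧ n < 2 * p ∧ p ≤ n with hbig
  have hsingle : ∀ p, big p → p ∣ Nat.card G ∧ ¬ p ^ 2 ∣ Nat.card G := by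
    rintro p ⟨hp, h1, h2⟩
    rw [hcard]
    exact CfsgLib.AltOrderSpec.dvd_card_iff (by omega) hp h2 h1
  have hno : ∀ p r : ℕ, big p → big r → p ≠ r → ∀ g : G, orderOf g ≠ p * r := by
    rintro p r ⟨hp, hp1, hp2⟩ ⟨hr, hr1, hr2⟩ hne g
    exact CfsgLib.AltOrderSpec.orderOf_ne_of_range hp hr hne (by omega) hspec g
  obtain ⟨P₁, P₂, hP₁, hP₂, h12, hlow, hhigh⟩ := CfsgLib.TwoPrimes.exists_two_primes hn
  have hb₁ : big P₁ := ⟨hP₁, hlow, by omega⟩
  have hb₂ : big P₂ := ⟨hP₂, by omega, hhigh⟩
  obtain ⟨N, ⟨hNn, hNp⟩, hNmax⟩ :=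
    (Set.toFinite {N : Subgroup G | N.Normal ∧ ∀ p, big p → ¬ p ∣ Nat.card N}).exists_maximal
      ⟨⊥, inferInstance, fun p hp => by rw [Subgroup.card_bot]; exact hp.1.not_dvd_one⟩
  haveI := hNn
  obtain ⟨M, ⟨hMn, hMb⟩, hMmin⟩ :=
    (Set.toFinite {M : Subgroup (G ⧸ N) | M.Normal ∧ M ≠ ⊥}).exists_minimal
      ⟨⊤, inferInstance, by
        intro h
        have hN : N = ⊤ := by
          rw [Subgroup.eq_top_iff']
          intro g
          rw [← QuotientGroup.eq_one_iff]
          exact Subgroup.mem_bot.1 (h ▸ Subgroup.mem_top _)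
        exact hNp P₁ hb₁ (by rw [hN, Subgroup.card_top]; exact (hsingle P₁ hb₁).1)⟩
  haveI := hMn
  set H : Subgroup G := M.comap (QuotientGroup.mk' N) with hH
  have hNH : N ≤ H := fun x hx => by
    show QuotientGroup.mk' N x ∈ M
    rw [QuotientGroup.mk'_apply, (QuotientGroup.eq_one_iff x).2 hx]
    exact one_mem M
  haveI hHn : H.Normal := hMn.comap _
  -- the section is `M`
  let f : H →* M := (QuotientGroup.mk' N).subgroupComap M
  have hf : Function.Surjective f :=
    MonoidHom.subgroupComap_surjective_of_surjective _ M (QuotientGroup.mk'_surjective N)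
  have hker : f.ker = N.subgroupOf H := by
    ext x
    rw [MonoidHom.mem_ker, Subgroup.mem_subgroupOf]
    show f x = 1 ↔ _
    rw [Subtype.ext_iff]
    exact QuotientGroup.eq_one_iff _
  let e : (↥H ⧸ N.subgroupOf H) ≃* M :=
    (QuotientGroup.quotientMulEquivOfEq hker.symm).trans (QuotientGroup.quotientKerEquivOfSurjective f hf)
  have hHcard : Nat.card H = Nat.card M * Nat.card N := by
    rw [← Nat.card_congr e.toEquiv, ← Nat.card_congr (Subgroup.subgroupOfEquivOfLe hNH).toEquiv]
    exact Subgroup.card_eq_card_quotient_mul_card_subgroup _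
  have hNlt : N < H := lt_of_le_of_ne hNH fun h => hMb (by
    rw [Subgroup.eq_bot_iff_forall]
    intro y hy
    obtain ⟨x, rfl⟩ := QuotientGroup.mk'_surjective N y
    have hx : x ∈ N := by rw [h]; exact hy
    exact (QuotientGroup.eq_one_iff x).2 hx)
  -- every big prime divides the section
  have hall : ∀ p, big p → p ∣ Nat.card M := by
    obtain ⟨p₀, hp₀, hdvd⟩ : ∃ p, big p ∧ p ∣ Nat.card M := by
      by_contra hc
      push Not at hc
      refine absurd (hNmax ⟨hHn, fun p hp h => ?_⟩ hNH) hNlt.not_ge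
      rw [hHcard] at h
      rcases (Nat.Prime.dvd_mul hp.1).1 h with h | h
      · exact hc p hp h
      · exact hNp p hp h
    intro r hr
    by_contra hrM
    have hne : p₀ ≠ r := fun h => hrM (h ▸ hdvd)
    haveI : Fact p₀.Prime := ⟨hp₀.1⟩
    haveI : Fact r.Prime := ⟨hr.1⟩
    obtain ⟨P⟩ : Nonempty (Sylow p₀ H) := inferInstance
    have hPcard : Nat.card ((P : Subgroup H).map H.subtype) = p₀ := by
      rw [Subgroup.card_map_of_injective H.subtype_injective, P.card_eq_multiplicity]
      suffices hfac : (Nat.card H).factorization p₀ = 1 by rw [hfac, pow_one]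
      have h1 : 1 ≤ (Nat.card H).factorization p₀ :=
        (hp₀.1.dvd_iff_one_le_factorization Nat.card_pos.ne').1 (hHcard ▸ dvd_mul_of_dvd_left hdvd _)
      have h2 : ¬ 2 ≤ (Nat.card H).factorization p₀ := fun h2 =>
        (hsingle p₀ hp₀).2 (((hp₀.1.pow_dvd_iff_le_factorization Nat.card_pos.ne').2 h2).trans
          (Subgroup.card_subgroup_dvd_card H))
      omega
    have hrH : ¬ r ∣ Nat.card H := fun h => by
      rw [hHcard] at h
      rcases (Nat.Prime.dvd_mul hr.1).1 h with h | h
      · exact hrM h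
      · exact hNp r hr h
    have hrX : r ∣ Nat.card (Subgroup.normalizer (((P : Subgroup H).map H.subtype : Subgroup G) : Set G)) := by
      have htop := Sylow.normalizer_sup_eq_top (N := H) P
      set X := Subgroup.normalizer (((P : Subgroup H).map H.subtype : Subgroup G) : Set G)
      have hidx : H.index ∣ Nat.card X := by
        have h1 : H.relIndex X = H.index := by
          rw [← Subgroup.relIndex_sup_left, sup_comm, htop, Subgroup.relIndex_top_right]
        rw [← h1]
        exact Subgroup.relIndex_dvd_card H X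
      refine dvd_trans ?_ hidx
      have := (hsingle r hr).1
      rw [← H.card_mul_index] at this
      exact ((Nat.Prime.dvd_mul hr.1).1 this).resolve_left hrH
    obtain ⟨x, hx⟩ := exists_prime_orderOf_dvd_card' r hrX
    obtain ⟨g, hg⟩ := CfsgLib.AltOrderSpec.exists_orderOf_mul hp₀.1 hr.1 hne
      (fun h => by
        obtain ⟨c, hc⟩ := h
        have := hp₀.2.2
        have := hr.2.1
        have := hr.2.2
        have := hp₀.2.1
        rcases Nat.lt_or_ge c 2 with h | h
        · interval_cases c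
          · omega
          · obtain ⟨s, hs⟩ := hr.1.odd_of_ne_two (by omega)
            obtain ⟨t, ht⟩ := hp₀.1.odd_of_ne_two (by omega)
            omega
        · have : r * 2 ≤ r * c := Nat.mul_le_mul_left r h
          omega)
      _ hPcard x x.2 (by rw [Subgroup.orderOf_coe]; exact hx)
    exact hno p₀ r hp₀ hr hne g hg
  -- the section is simple
  obtain ⟨S, _, k, hS, hk, ⟨eM⟩⟩ := CfsgLib.MinimalNormal.exists_mulEquiv_pi_simple M hMb (by
    intro X hX hXM
    by_cases hX0 : X = ⊥
    · exact Or.inl hX0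
    · exact Or.inr (le_antisymm hXM (hMmin ⟨hX, hX0⟩ hXM)))
  have hMcard : Nat.card M = Nat.card S ^ k := by rw [Nat.card_congr eM.toEquiv, Nat.card_fun, Nat.card_fin]
  have hk1 : k = 1 := by
    by_contra hne
    have h1 : P₁ ∣ Nat.card S := hP₁.dvd_of_dvd_pow (hMcard ▸ hall P₁ hb₁)
    refine (hsingle P₁ hb₁).2 (dvd_trans ?_ (Subgroup.card_subgroup_dvd_card H))
    rw [hHcard, hMcard]
    exact dvd_mul_of_dvd_left ((pow_dvd_pow_of_dvd h1 2).trans (pow_dvd_pow _ (by omega))) _
  subst hk1
  have eS : M ≃* S := eM.trans (MulEquiv.funUnique (Fin 1) S)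
  haveI : IsSimpleGroup M := CfsgLib.MinimalNormal.isSimpleGroup_iff_of_mulEquiv eS.symm
  refine ⟨N, H, hNn, hHn, hNlt, CfsgLib.MinimalNormal.isSimpleGroup_iff_of_mulEquiv e.symm, ?_, ?_⟩
  · intro hcomm
    letI : CommGroup M := { (inferInstance : Group M) with
      mul_comm := fun a b => e.symm.injective (by rw [map_mul, map_mul]; exact hcomm.is_comm.comm _ _) }
    have hprime : (Nat.card M).Prime := IsSimpleGroup.prime_card
    have e1 := (Nat.prime_dvd_prime_iff_eq hP₁ hprime).1 (hall P₁ hb₁)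
    have e2 := (Nat.prime_dvd_prime_iff_eq hP₂ hprime).1 (hall P₂ hb₂)
    omega
  · intro p hp h1 h2
    rw [Nat.card_congr e.toEquiv]
    exact hall p ⟨hp, h1, h2⟩

end Cfsg.Agent.S3420
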