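import Cfsg.Statements.S3421
import Cfsg.Agent.PSLTwoRecog.Zass
import Cfsg.Agent.PrimeGraph.PSL2Spectrum
import Cfsg.Agent.Classical.PSLTwo
import Cfsg.Agent.S1230
import Cfsg.Agent.InvChar.OneSixtyEight
-- import your own Cfsg.Agent.* helpers here

set_option autoImplicit false
set_option linter.style.haveILetI false
open Cfsg

namespace Cfsg.Agent.S3421

/-- Let F be a finite field with more than 3 elements. A finite group G is isomorphic to PSL(2, F) if and only if G has the same set of element orders and the same order as PSL(2, F). -/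
theorem result {G : Type*} [Group G] [Finite G] {F : Type*} [Field F] [Fintype F] (hF : 3 < Fintype.card F) :
    Nonempty (G ≃* Matrix.ProjectiveSpecialLinearGroup (Fin 2) F) ↔
      (Set.range (orderOf : G → ℕ) = Set.range (orderOf : Matrix.ProjectiveSpecialLinearGroup (Fin 2) F → ℕ) ∧
        Nat.card G = Nat.card (Matrix.ProjectiveSpecialLinearGroup (Fin 2) F)) := by
  classical
  constructor
  · rintro ⟨e⟩
    refine ⟨Set.ext fun n => ⟨?_, ?_⟩, Nat.card_congr e.toEquiv⟩
    · rintro ⟨x, rfl⟩; exact ⟨e x, e.orderOf_eq x⟩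
    · rintro ⟨y, rfl⟩; exact ⟨e.symm y, e.symm.orderOf_eq y⟩
  rintro ⟨hspec, hcard⟩
  obtain ⟨p, hchar⟩ := CharP.exists F
  haveI := hchar
  obtain ⟨⟨f, hf⟩, hp, hcF⟩ := FiniteField.card F p
  haveI : Fact p.Prime := ⟨hp⟩
  haveI : Finite F := Finite.of_fintype F
  set q := Fintype.card F with hqdef
  have hq : q = p ^ f := hcF
  have hmul := CfsgLib.Linear.PSLTwo.mul_card (F := F)
  rw [Nat.card_eq_fintype_card, ← hqdef, ← hcard, CfsgLib.Linear.PSLTwo.sq_sub_one] at hmul
  rw [CfsgLib.PSL2Spec.spectrum p, ← hqdef] at hspec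
  have hmem : ∀ g : G, orderOf g ∣ p ∨ orderOf g ∣ (q - 1) / Nat.gcd 2 (q - 1) ∨
      orderOf g ∣ (q + 1) / Nat.gcd 2 (q - 1) := fun g => by
    have : orderOf g ∈ Set.range (orderOf : G → ℕ) := ⟨g, rfl⟩
    rwa [hspec] at this
  have hex : ∀ n, n ∣ p ∨ n ∣ (q - 1) / Nat.gcd 2 (q - 1) ∨ n ∣ (q + 1) / Nat.gcd 2 (q - 1) →
      ∃ g : G, orderOf g = n := fun n hn => by
    have : n ∈ Set.range (orderOf : G → ℕ) := by rw [hspec]; exact hn
    exact this
  suffices h : ∃ (K : Type) (_ : Field K) (_ : Fintype K), Fintype.card K = q ∧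
      Nonempty (G ≃* Matrix.ProjectiveSpecialLinearGroup (Fin 2) K) by
    obtain ⟨K, i1, i2, hK, ⟨φ⟩⟩ := h
    obtain ⟨ψ⟩ := CfsgLib.InvChar.psl_congr (FiniteField.ringEquivOfCardEq hK)
    exact ⟨φ.trans ψ⟩
  rcases Nat.even_or_odd q with hev | hodd
  · -- characteristic two
    have hd : Nat.gcd 2 (q - 1) = 1 := by
      have h1 : ¬ 2 ∣ q - 1 := by obtain ⟨r, hr⟩ := hev; omega
      exact (Nat.prime_two.coprime_iff_not_dvd).2 h1
    rw [hd] at hmul hmem hex
    simp only [Nat.div_one] at hmem hex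
    rw [one_mul] at hmul
    have hp2 : p = 2 := ((Nat.prime_dvd_prime_iff_eq Nat.prime_two hp).1
      (Nat.prime_two.dvd_of_dvd_pow (hq ▸ hev.two_dvd))).symm
    subst hp2
    haveI : Fact (Nat.Prime 2) := ⟨Nat.prime_two⟩
    obtain ⟨T⟩ : Nonempty (Sylow 2 G) := inferInstance
    have hoddm : ¬ 2 ∣ q - 1 ∧ ¬ 2 ∣ q + 1 := by obtain ⟨r, hr⟩ := hev; omega
    have hcT : Nat.card (T : Subgroup G) = q := by
      rw [Sylow.card_eq_multiplicity, hmul, hq]
      congr 1
      rw [← hq, Nat.factorization_mul (by omega) (Nat.mul_ne_zero (by omega) (by omega)),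
        Nat.factorization_mul (by omega) (by omega), hq, Nat.Prime.factorization_pow Nat.prime_two]
      simp [Nat.factorization_eq_zero_of_not_dvd (hq ▸ hoddm.1),
        Nat.factorization_eq_zero_of_not_dvd (hq ▸ hoddm.2)]
    have hcomp : ∀ t c : G, orderOf t = 2 → t * c = c * t → orderOf c ∣ 2 := by
      intro t c ht hc
      have hcases : ∀ m, ¬ 2 ∣ m → orderOf c ∣ m → orderOf c ∣ 2 := by
        intro m hm hcm
        have hcop : (orderOf t).Coprime (orderOf c) := by
          rw [ht]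
          exact (Nat.prime_two.coprime_iff_not_dvd.2 fun h => hm (h.trans hcm))
        have hord := Commute.orderOf_mul_eq_mul_orderOf_of_coprime (x := t) (y := c) hc hcop
        rw [ht] at hord
        rcases hmem (t * c) with h1 | h1 | h1
        · rw [hord] at h1; exact (dvd_mul_left _ _).trans h1
        · rw [hord] at h1; exact absurd ((dvd_mul_right _ _).trans h1) hoddm.1
        · rw [hord] at h1; exact absurd ((dvd_mul_right _ _).trans h1) hoddm.2
      rcases hmem c with h1 | h1 | h1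
      · exact h1
      · exact hcases _ hoddm.1 h1
      · exact hcases _ hoddm.2 h1
    have hsq : ∀ x ∈ (T : Subgroup G), x ^ 2 = 1 := by
      intro x hx
      have h1 := Subgroup.orderOf_dvd_natCard _ hx
      rw [hcT, hq] at h1
      refine orderOf_dvd_iff_pow_eq_one.1 ?_
      have hcopr : ∀ m, ¬ 2 ∣ m → orderOf x ∣ m → orderOf x ∣ 2 := fun m hm hxm => by
        have h2 : Nat.Coprime (2 ^ f) m := (Nat.prime_two.coprime_iff_not_dvd.2 hm).pow_left f
        have : orderOf x ∣ 1 := h2 ▸ Nat.dvd_gcd h1 hxm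
        exact this.trans (one_dvd _)
      rcases hmem x with h2 | h2 | h2
      · exact h2
      · exact hcopr _ hoddm.1 h2
      · exact hcopr _ hoddm.2 h2
    have hnc : ¬ IsCyclic (T : Subgroup G) := by
      rintro ⟨g, hg⟩
      have h1 := orderOf_eq_card_of_forall_mem_zpowers hg
      have h2 : orderOf g ∣ 2 := orderOf_dvd_of_pow_eq_one (Subtype.ext (by
        push_cast; exact hsq g g.2))
      rw [h1, hcT] at h2
      have := Nat.le_of_dvd two_pos h2
      omega
    have hnn : ¬ (T : Subgroup G).Normal := by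
      intro hN
      obtain ⟨c, hc⟩ := hex (q + 1) (Or.inr (Or.inr dvd_rfl))
      have h1 : q + 1 ∣ Nat.card (T : Subgroup G) - 1 := by
        refine CfsgLib.PSLTwoRecog.dvd_card_sub_one (T : Subgroup G) ?_ ?_
        · rw [Subgroup.normalizer_eq_top, Subgroup.card_top, ← hc]
          exact orderOf_dvd_natCard c
        · intro x hx hx1
          have hxo : orderOf x = 2 := orderOf_eq_prime (hsq x hx) hx1
          have hH : ∀ y ∈ Subgroup.centralizer ({x} : Set G), orderOf y ∣ 2 := fun y hy =>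
            hcomp x y hxo (Subgroup.mem_centralizer_singleton_iff.1 hy).symm
          exact CfsgLib.PSLTwoRecog.coprime_card_of hH (Nat.prime_two.coprime_iff_not_dvd.2 hoddm.2)
      rw [hcT] at h1
      have := Nat.le_of_dvd (by omega) h1
      omega
    have hC : ∀ t : G, orderOf t = 2 → IsMulCommutative (Subgroup.centralizer ({t} : Set G)) ∧
        ∀ c ∈ Subgroup.centralizer ({t} : Set G), c ^ 2 = 1 := by
      intro t ht
      have hh : ∀ c ∈ Subgroup.centralizer ({t} : Set G), c ^ 2 = 1 := fun c hc =>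
        orderOf_dvd_iff_pow_eq_one.1 (hcomp t c ht (Subgroup.mem_centralizer_singleton_iff.1 hc).symm)
      refine ⟨⟨⟨fun a b => ?_⟩⟩, hh⟩
      apply Subtype.ext
      push_cast
      have h1 : (a : G)⁻¹ = a := inv_eq_of_mul_eq_one_right (by rw [← pow_two]; exact hh _ a.2)
      have h2 : (b : G)⁻¹ = b := inv_eq_of_mul_eq_one_right (by rw [← pow_two]; exact hh _ b.2)
      have h3 : ((a : G) * b)⁻¹ = a * b :=
        inv_eq_of_mul_eq_one_right (by rw [← pow_two]; exact hh _ (mul_mem a.2 b.2))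
      rw [mul_inv_rev, h1, h2] at h3
      exact h3.symm
    obtain ⟨K, i1, i2, hK, hiso⟩ := Cfsg.Agent.S1230.result T hnc hnn hC
    exact ⟨K, i1, i2, hK.trans hcT, hiso⟩
  · -- odd characteristic
    have hd : Nat.gcd 2 (q - 1) = 2 := Nat.gcd_eq_left (by obtain ⟨r, hr⟩ := hodd; omega)
    rw [hd] at hmul hmem hex
    obtain ⟨r, hr⟩ := hodd
    have hm1 : (q - 1) / 2 = r := by omega
    have hp1 : (q + 1) / 2 = r + 1 := by omega
    rw [hm1, hp1] at hmem hex
    have hp2 : p ≠ 2 := by
      intro e; subst e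
      have : 2 ∣ q := hq ▸ dvd_pow_self 2 (by omega)
      omega
    have hcG : Nat.card G = 2 * (r * (r + 1)) * q := by
      rw [show q - 1 = 2 * r by omega, show q + 1 = 2 * (r + 1) by omega] at hmul
      apply Nat.eq_of_mul_eq_mul_left two_pos
      rw [hmul]; ring
    rcases Nat.even_or_odd r with hre | hro
    · exact CfsgLib.PSLTwoRecog.Hyp.exists_psl (p := p) (q := q) (f := f) (E := r) (O := r + 1)
        ⟨hp, hp2, hq, hf, by rw [hcG]; ring, hmem, hre, hre.add_one,
          (by obtain ⟨s, hs⟩ := hre; omega), Or.inl ⟨hr.symm, rfl⟩, hex r (Or.inr (Or.inl dvd_rfl)),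
          hex (r + 1) (Or.inr (Or.inr dvd_rfl))⟩
    · exact CfsgLib.PSLTwoRecog.Hyp.exists_psl (p := p) (q := q) (f := f) (E := r + 1) (O := r)
        ⟨hp, hp2, hq, hf, by rw [hcG]; ring,
          fun g => (hmem g).elim Or.inl (fun h => Or.inr h.symm), hro.add_one, hro,
          (by obtain ⟨s, hs⟩ := hro; omega), Or.inr ⟨by omega, rfl⟩,
          hex (r + 1) (Or.inr (Or.inr dvd_rfl)), hex r (Or.inr (Or.inl dvd_rfl))⟩

end Cfsg.Agent.S3421
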