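import Cfsg.Statements.S3427
import Cfsg.Agent.G2TwoRecog.Model
import Cfsg.Agent.G2TwoRecog.Outer
import Cfsg.Agent.G2TwoRecog.Structure
import Cfsg.Agent.Chev.G2TwoU33.Main
import Cfsg.Agent.Chev.SteinbergPres
import Cfsg.Agent.AutPSU.Out
import Cfsg.Agent.AutPOm.Card
import Cfsg.Agent.SplitBN.SmallChev
import Cfsg.Agent.J2.Perm.U33

set_option autoImplicit false
set_option linter.style.haveILetI false
open Cfsg

namespace Cfsg.Agent.S3427

open Subgroup CfsgLib.Chev

/-- `|G₂(2)| = 12096`. -/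
theorem card_group {F : Type*} [Field F] [Fintype F] (hF : Fintype.card F = 2) :
    Nat.card (Cfsg.Lie.chevG2.group F) = 12096 := by
  have f : ZMod 2 ≃+* F := FiniteField.ringEquivOfCardEq (by rw [ZMod.card, hF])
  let φ : Cfsg.Lie.chevG2.group (ZMod 2) → Cfsg.Lie.chevG2.group F :=
    fun a => ⟨Tab.glMap Cfsg.Lie.chevG2 f.toRingHom a, good_G2.glMap_group _ a.2⟩
  have hb : Function.Bijective φ := by
    refine ⟨fun a b h => Subtype.ext (Tab.glMap_injective _ (congrArg Subtype.val h)),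
      fun b => ⟨⟨Tab.glMap Cfsg.Lie.chevG2 f.symm.toRingHom b, good_G2.glMap_group _ b.2⟩, Subtype.ext ?_⟩⟩
    show Tab.glMap Cfsg.Lie.chevG2 f.toRingHom (Tab.glMap Cfsg.Lie.chevG2 f.symm.toRingHom b) = b
    exact Units.ext (Matrix.ext fun i j => f.apply_symm_apply _)
  rw [← Nat.card_congr (Equiv.ofBijective φ hb), G2TwoU33.card_g2_two]

/-- A group with a self-centralizing normal copy of `U` and the order of `Aut U` is `Aut U`. -/
theorem equiv_aut {G U : Type*} [Group G] [Group U] [Finite U] (K : Subgroup G) [K.Normal]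
    (e : K ≃* U) (hK : centralizer (K : Set G) = ⊥) (hc : Nat.card (MulAut U) ≤ Nat.card G) :
    Nonempty (G ≃* MulAut U) := by
  let f : G →* MulAut U := (MulAut.congr e).toMonoidHom.comp MulAut.conjNormal
  have hinj : Function.Injective f := by
    refine (injective_iff_map_eq_one f).2 fun g hg => ?_
    have h1 : MulAut.conjNormal (H := K) g = 1 := (MulEquiv.map_eq_one_iff (MulAut.congr e)).1 hg
    refine mem_bot.1 (hK ▸ mem_centralizer_iff.2 fun k hk => ?_ : g ∈ (⊥ : Subgroup G))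
    have h2 := congrArg Subtype.val (DFunLike.congr_fun h1 ⟨k, hk⟩)
    rw [MulAut.conjNormal_apply, MulAut.one_apply] at h2
    exact (mul_inv_eq_iff_eq_mul.1 h2).symm
  haveI : Finite (MulAut U) := Finite.of_injective (fun a : MulAut U => (a : U → U)) DFunLike.coe_injective
  exact ⟨MulEquiv.ofBijective f (hinj.bijective_of_nat_card_le hc)⟩

/-- Let F be the field with 2 elements and let M be the Chevalley group of type G₂ over F (a non-simple group of order 12096 whose derived subgroup, of index 2, is isomorphic to PSU(3, 3)). A finite group G is isomorphic to M if and only if G has the same set of element orders and the same order as M. -/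
theorem result {G : Type*} [Group G] [Finite G] {F : Type*} [Field F] [Fintype F] (hF : Fintype.card F = 2) :
    Nonempty (G ≃* ↥(Cfsg.Lie.chevG2.group F)) ↔
      (Set.range (orderOf : G → ℕ) = Set.range (orderOf : ↥(Cfsg.Lie.chevG2.group F) → ℕ) ∧ Nat.card G = Nat.card ↥(Cfsg.Lie.chevG2.group F)) := by
  classical
  constructor
  · rintro ⟨e⟩
    refine ⟨Set.ext fun n => ⟨?_, ?_⟩, Nat.card_congr e.toEquiv⟩
    · rintro ⟨g, rfl⟩
      exact ⟨e g, MulEquiv.orderOf_eq e g⟩
    · rintro ⟨g, rfl⟩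
      exact ⟨e.symm g, MulEquiv.orderOf_eq e.symm g⟩
  rintro ⟨hspec, hcard⟩
  have hMc := card_group hF
  rw [hMc] at hcard
  set M := Cfsg.Lie.chevG2.group F
  haveI : Finite M := Nat.finite_of_card_ne_zero (by rw [hMc]; norm_num)
  -- the derived subgroup
  have hL : Fintype.card CfsgLib.J2.Perm.F9 = 9 := CfsgLib.J2.Perm.F9.card
  have hL' : Nat.card CfsgLib.J2.Perm.F9 = 3 ^ 2 := CfsgLib.J2.Perm.hF
  obtain ⟨ψ⟩ := G2TwoU33.main (F := F) hF hL
  obtain ⟨hK, ⟨θ⟩⟩ := CfsgLib.U33Deg.card_K hL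
  have hU : Nat.card (Cfsg.PSU 3 CfsgLib.J2.Perm.F9 3) = 6048 := by rw [Nat.card_congr θ.toEquiv, hK]
  set S := commutator M with hS
  have hScard : Nat.card S = 6048 := by rw [Nat.card_congr ψ.toEquiv, hU]
  haveI : IsSimpleGroup (Cfsg.PSU 3 CfsgLib.J2.Perm.F9 3) :=
    CfsgLib.Unitary.isSimpleGroup_PSU hL' (by norm_num) (by norm_num)
  haveI : IsSimpleGroup S := ψ.isSimpleGroup
  have hSnc : ¬ IsMulCommutative S := by
    intro hc
    letI : CommGroup S := { (inferInstance : Group S) with mul_comm := fun a b => hc.1.1 a b }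
    have hp : (Nat.card S).Prime := IsSimpleGroup.prime_card
    rw [hScard] at hp
    norm_num at hp
  have hSord : ∀ x : S, ∃ e ∈ [7, 8, 12], orderOf x ∣ e := fun x => by
    obtain ⟨e, he, h⟩ := CfsgLib.SplitBN.SmallChev.psu_orders hL (ψ x)
    exact ⟨e, he, by rwa [MulEquiv.orderOf_eq] at h⟩
  have hSno : ∀ n ∈ [9, 14, 16, 21], ∀ x : S, orderOf x ≠ n := fun n hn x hx => by
    obtain ⟨e, he, hd⟩ := hSord x
    rw [hx] at hd
    simp only [List.mem_cons, List.not_mem_nil, or_false] at hn he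
    rcases hn with rfl | rfl | rfl | rfl <;> rcases he with rfl | rfl | rfl <;> norm_num at hd
  have hSH : CfsgLib.G2Recog.Hyp S :=
    ⟨hScard, hSno 9 (by simp), hSno 16 (by simp), hSno 21 (by simp)⟩
  have hidx : S.index = 2 := by
    have := S.card_mul_index
    rw [hScard, hMc] at this
    omega
  have hinf : centralizer (S : Set M) ⊓ S = ⊥ := by
    rw [eq_bot_iff]
    rintro z ⟨hz, hzS⟩
    have hzc : (⟨z, hzS⟩ : S) ∈ center S := mem_center_iff.2 fun k => Subtype.ext (hz k k.2)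
    rcases IsSimpleGroup.eq_bot_or_eq_top_of_normal (center S) inferInstance with e | e
    · rw [e, mem_bot] at hzc
      exact congrArg Subtype.val hzc
    · exact absurd ⟨⟨fun a b => mem_center_iff.1 (e ▸ mem_top b : b ∈ center S) a⟩⟩ hSnc
  have hCS : centralizer (S : Set M) = ⊥ := by
    rw [eq_bot_iff]
    intro z hz
    have hcen : z ∈ center M := by
      refine mem_center_iff.2 fun g => ?_
      have hconj : g * z * g⁻¹ ∈ centralizer (S : Set M) :=
        (inferInstance : (centralizer (S : Set M)).Normal).conj_mem z hz g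
      have hin : g * z * g⁻¹ * z⁻¹ ∈ centralizer (S : Set M) ⊓ S := by
        refine ⟨Subgroup.mul_mem _ hconj (Subgroup.inv_mem _ hz), ?_⟩
        rw [hS, _root_.commutator_def]
        simpa [commutatorElement_def] using
          Subgroup.commutator_mem_commutator (mem_top g) (mem_top z)
      rw [hinf, mem_bot, mul_inv_eq_one] at hin
      exact mul_inv_eq_iff_eq_mul.1 hin
    rwa [good_G2.center_group] at hcen
  have hinjS : Function.Injective (MulAut.conjNormal (H := S)) := by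
    refine (injective_iff_map_eq_one _).2 fun g hg => ?_
    refine mem_bot.1 (hCS ▸ mem_centralizer_iff.2 fun k hk => ?_ : g ∈ (⊥ : Subgroup M))
    have h2 := congrArg Subtype.val (DFunLike.congr_fun hg ⟨k, hk⟩)
    rw [MulAut.conjNormal_apply, MulAut.one_apply] at h2
    exact (mul_inv_eq_iff_eq_mul.1 h2).symm
  have hsq : ∀ g : M, g ^ 2 ∈ S := fun g => Subgroup.sq_mem_of_index_two hidx g
  have hodd : ∀ n, Odd n → (∀ x : S, orderOf x ≠ n) → ∀ g : M, orderOf g ≠ n := fun n hn hno g hg => by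
    obtain ⟨k, hk⟩ := hn
    have hgS : g ∈ S := by
      have e : g = ((g ^ 2) ^ k)⁻¹ := by
        refine eq_inv_of_mul_eq_one_left ?_
        rw [← pow_mul, ← pow_succ', ← hk, ← hg, pow_orderOf_eq_one]
      rw [e]
      exact inv_mem (pow_mem (hsq g) k)
    exact hno ⟨g, hgS⟩ ((Subgroup.orderOf_mk g hgS).trans hg)
  have hM9 : ∀ g : M, orderOf g ≠ 9 := hodd 9 (by decide) (hSno 9 (by simp))
  have hM21 : ∀ g : M, orderOf g ≠ 21 := hodd 21 (by decide) (hSno 21 (by simp))
  have hM14 : ∀ g : M, orderOf g ≠ 14 := fun g hg => by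
    have hy : orderOf (⟨g ^ 2, hsq g⟩ : S) = 7 := by rw [Subgroup.orderOf_mk, orderOf_pow, hg]; rfl
    have h1 := hSH.aut_eq_one_of_fix_seven hSnc (hSno 14 (by simp))
      (α := MulAut.conjNormal (g ^ 7)) (y := ⟨g ^ 2, hsq g⟩)
      (by rw [← map_mul, ← pow_add, show 7 + 7 = 14 from rfl, ← hg, pow_orderOf_eq_one, map_one]) hy
      (Subtype.ext (by
        rw [MulAut.conjNormal_apply]
        exact mul_inv_eq_iff_eq_mul.2 ((Commute.refl g).pow_pow 7 2).eq))
    rw [← map_one (MulAut.conjNormal (H := S))] at h1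
    have := orderOf_dvd_of_pow_eq_one (hinjS h1)
    rw [hg] at this
    norm_num at this
  have hM16 : ∀ g : M, orderOf g ≠ 16 := fun g hg =>
    hSH.no_sqrt_eight hSnc (α := MulAut.conjNormal g) (u := ⟨g ^ 2, hsq g⟩)
      (by rw [Subgroup.orderOf_mk, orderOf_pow, hg]; rfl)
      (MulEquiv.ext fun x => Subtype.ext (by
        rw [MulAut.mul_apply, MulAut.conjNormal_apply, MulAut.conjNormal_apply]
        simp [MulAut.conj_apply, pow_two, mul_assoc]))
  -- transfer to `G`
  have hGno : ∀ n, (∀ g : M, orderOf g ≠ n) → ∀ g : G, orderOf g ≠ n := fun n hno g hg => by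
    have h1 : n ∈ Set.range (orderOf : G → ℕ) := ⟨g, hg⟩
    rw [hspec] at h1
    obtain ⟨m, hm⟩ := h1
    exact hno m hm
  obtain ⟨K, hKn, hKs, hKnc, hK6, hKC⟩ :=
    CfsgLib.G2Recog.exists_normal_simple hcard (hGno 14 hM14) (hGno 21 hM21)
  haveI := hKn
  haveI := hKs
  have hKH : CfsgLib.G2Recog.Hyp K :=
    ⟨hK6, fun x => Subgroup.orderOf_coe x ▸ hGno 9 hM9 _, fun x => Subgroup.orderOf_coe x ▸ hGno 16 hM16 _,
      fun x => Subgroup.orderOf_coe x ▸ hGno 21 hM21 _⟩
  obtain ⟨eK⟩ := hKH.nonempty_model hKnc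
  obtain ⟨eS⟩ := hSH.nonempty_model hSnc
  haveI : Fact (Nat.Prime 3) := ⟨Nat.prime_three⟩
  have haut : Nat.card (MulAut (Cfsg.PSU 3 CfsgLib.J2.Perm.F9 3)) = 12096 := by
    rw [CfsgLib.AutPSU.card_aut hL' le_rfl (by norm_num), hU,
      CfsgLib.AutPOm.card_ringAut (p := 3) (f := 2) (by norm_num) hL']
    norm_num
  haveI : Finite (Cfsg.PSU 3 CfsgLib.J2.Perm.F9 3) := Nat.finite_of_card_ne_zero (by rw [hU]; norm_num)
  obtain ⟨a⟩ := equiv_aut K ((eK.trans eS.symm).trans ψ) hKC (by rw [haut, hcard])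
  obtain ⟨b⟩ := equiv_aut S ψ hCS (by rw [haut, hMc])
  exact ⟨a.trans b.symm⟩

end Cfsg.Agent.S3427
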