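import Cfsg.Statements.S3431
import Cfsg.Agent.Nse.AltSmall

set_option autoImplicit false
open Cfsg

namespace Cfsg.Agent.S3431

open CfsgLib.ThreeCounts in
/-- The set of same-order counts, computed from the counts. -/
theorem image_eq_of_counts {H : Type*} [Group H] [Finite H] (T : Finset ℕ) (hT : ∀ g : H, orderOf g ∈ T)
    (hne : ∀ m ∈ T, cnt H m ≠ 0) :
    ((fun m : ℕ => Nat.card {g : H // orderOf g = m}) '' Set.range (orderOf : H → ℕ)) =
      ↑(T.image fun m => cnt H m) := by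
  ext v
  simp only [Set.mem_image, Set.mem_range, Finset.coe_image, Finset.mem_coe]
  constructor
  · rintro ⟨m, ⟨g, rfl⟩, rfl⟩
    exact ⟨_, hT g, rfl⟩
  · rintro ⟨m, hm, rfl⟩
    exact ⟨m, cnt_pos_iff.1 (hne m hm), rfl⟩

open CfsgLib.ThreeCounts in
theorem cnt_eq_filter {H : Type*} [Group H] [Fintype H] [DecidableEq H] (m : ℕ) (P : H → Prop) [DecidablePred P]
    (hP : ∀ g : H, orderOf g = m ↔ P g) : cnt H m = (Finset.univ.filter P).card := by
  rw [cnt, Nat.card_congr (Equiv.subtypeEquivRight hP), Nat.card_eq_fintype_card, Fintype.card_subtype]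

theorem prime_iff {H : Type*} [Group H] {p : ℕ} [hp : Fact p.Prime] (g : H) :
    orderOf g = p ↔ g ^ p = 1 ∧ g ≠ 1 :=
  ⟨fun h => ⟨h ▸ pow_orderOf_eq_one g, fun e => hp.out.one_lt.ne (by rw [e, orderOf_one] at h; exact h)⟩,
    fun h => orderOf_eq_prime h.1 h.2⟩

theorem four_iff {H : Type*} [Group H] (g : H) : orderOf g = 4 ↔ g ^ 4 = 1 ∧ g ^ 2 ≠ 1 :=
  haveI := Fact.mk Nat.prime_two
  ⟨fun h => ⟨h ▸ pow_orderOf_eq_one g, fun e => by have := orderOf_dvd_of_pow_eq_one e; rw [h] at this; omega⟩,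
    fun h => (orderOf_eq_prime_pow (p := 2) (n := 1) (x := g) (by simpa using h.2) (by simpa using h.1)).trans rfl⟩

set_option maxRecDepth 100000 in
set_option maxHeartbeats 1000000 in
open CfsgLib.ThreeCounts in
theorem alt_four :
    ((fun m : ℕ => Nat.card {g : ↥(alternatingGroup (Fin 4)) // orderOf g = m}) '' Set.range (orderOf : ↥(alternatingGroup (Fin 4)) → ℕ)) = ↑({1, 3, 8} : Finset ℕ) := by
  haveI := Fact.mk Nat.prime_two
  haveI := Fact.mk Nat.prime_three
  have c2 : cnt (alternatingGroup (Fin 4)) 2 = 3 :=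
    (cnt_eq_filter _ _ prime_iff).trans (by decide +kernel)
  have c3 : cnt (alternatingGroup (Fin 4)) 3 = 8 :=
    (cnt_eq_filter _ _ prime_iff).trans (by decide +kernel)
  have hall : ∀ g : alternatingGroup (Fin 4), g = 1 ∨ g ^ 2 = 1 ∨ g ^ 3 = 1 := by decide +kernel
  rw [image_eq_of_counts {1, 2, 3} (fun g => ?_) (by simp [cnt_one, c2, c3])]
  · simp [cnt_one, c2, c3]
  · rcases eq_or_ne g 1 with e | e
    · simp [e]
    rcases hall g with h | h | h
    · exact absurd h e
    · simp [(prime_iff g).2 ⟨h, e⟩]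
    · simp [(prime_iff g).2 ⟨h, e⟩]

set_option maxRecDepth 100000 in
set_option maxHeartbeats 1000000 in
open CfsgLib.ThreeCounts in
theorem alt_five :
    ((fun m : ℕ => Nat.card {g : ↥(alternatingGroup (Fin 5)) // orderOf g = m}) '' Set.range (orderOf : ↥(alternatingGroup (Fin 5)) → ℕ)) = ↑({1, 15, 20, 24} : Finset ℕ) := by
  haveI := Fact.mk Nat.prime_two
  haveI := Fact.mk Nat.prime_three
  haveI := Fact.mk Nat.prime_five
  have c2 : cnt (alternatingGroup (Fin 5)) 2 = 15 :=
    (cnt_eq_filter _ _ prime_iff).trans (by decide +kernel)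
  have c3 : cnt (alternatingGroup (Fin 5)) 3 = 20 :=
    (cnt_eq_filter _ _ prime_iff).trans (by decide +kernel)
  have c5 : cnt (alternatingGroup (Fin 5)) 5 = 24 :=
    (cnt_eq_filter _ _ prime_iff).trans (by decide +kernel)
  have hall : ∀ g : alternatingGroup (Fin 5), g = 1 ∨ g ^ 2 = 1 ∨ g ^ 3 = 1 ∨ g ^ 5 = 1 := by decide +kernel
  rw [image_eq_of_counts {1, 2, 3, 5} (fun g => ?_) (by simp [cnt_one, c2, c3, c5])]
  · simp [cnt_one, c2, c3, c5]
  · rcases eq_or_ne g 1 with e | e
    · simp [e]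
    rcases hall g with h | h | h | h
    · exact absurd h e
    all_goals simp [(prime_iff g).2 ⟨h, e⟩]

set_option maxRecDepth 100000 in
set_option maxHeartbeats 1000000 in
open CfsgLib.ThreeCounts in
theorem alt_six :
    ((fun m : ℕ => Nat.card {g : ↥(alternatingGroup (Fin 6)) // orderOf g = m}) '' Set.range (orderOf : ↥(alternatingGroup (Fin 6)) → ℕ)) = ↑({1, 45, 80, 90, 144} : Finset ℕ) := by
  haveI := Fact.mk Nat.prime_two
  haveI := Fact.mk Nat.prime_three
  haveI := Fact.mk Nat.prime_five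
  have c2 : cnt (alternatingGroup (Fin 6)) 2 = 45 :=
    (cnt_eq_filter _ _ prime_iff).trans (by decide +kernel)
  have c3 : cnt (alternatingGroup (Fin 6)) 3 = 80 :=
    (cnt_eq_filter _ _ prime_iff).trans (by decide +kernel)
  have c4 : cnt (alternatingGroup (Fin 6)) 4 = 90 :=
    (cnt_eq_filter _ _ four_iff).trans (by decide +kernel)
  have c5 : cnt (alternatingGroup (Fin 6)) 5 = 144 :=
    (cnt_eq_filter _ _ prime_iff).trans (by decide +kernel)
  have hall : ∀ g : alternatingGroup (Fin 6), g = 1 ∨ g ^ 2 = 1 ∨ g ^ 3 = 1 ∨ g ^ 4 = 1 ∨ g ^ 5 = 1 := by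
    decide +kernel
  rw [image_eq_of_counts {1, 2, 3, 4, 5} (fun g => ?_) (by simp [cnt_one, c2, c3, c4, c5])]
  · simp [cnt_one, c2, c3, c4, c5]
  · rcases eq_or_ne g 1 with e | e
    · simp [e]
    rcases hall g with h | h | h | h | h
    · exact absurd h e
    · simp [(prime_iff g).2 ⟨h, e⟩]
    · simp [(prime_iff g).2 ⟨h, e⟩]
    · rcases eq_or_ne (g ^ 2) 1 with e2 | e2
      · simp [(prime_iff g).2 ⟨e2, e⟩]
      · simp [(four_iff g).2 ⟨h, e2⟩]
    · simp [(prime_iff g).2 ⟨h, e⟩]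

/-- Let n be 4, 5 or 6 and let G be a finite group whose set of sizes of same-order classes (the set of numbers #{g : o(g) = m} over the element orders m of G) equals that of the alternating group of degree n. Then G is isomorphic to that alternating group. -/
theorem result {G : Type*} [Group G] [Finite G] (n : ℕ) (hn : n = 4 ∨ n = 5 ∨ n = 6)
    (h : ((fun m : ℕ => Nat.card {g : G // orderOf g = m}) '' Set.range (orderOf : G → ℕ)) = ((fun m : ℕ => Nat.card {g : ↥(alternatingGroup (Fin n)) // orderOf g = m}) '' Set.range (orderOf : ↥(alternatingGroup (Fin n)) → ℕ))) :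
    Nonempty (G ≃* ↥(alternatingGroup (Fin n))) := by
  rcases hn with rfl | rfl | rfl
  · exact CfsgLib.Nse.four (CfsgLib.Nse.vals_of_image (h.trans alt_four))
  · exact CfsgLib.Nse.five (CfsgLib.Nse.vals_of_image (h.trans alt_five))
  · exact CfsgLib.Nse.six (CfsgLib.Nse.vals_of_image (h.trans alt_six))

end Cfsg.Agent.S3431
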