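import Cfsg.Statements.S3437
import Cfsg.Agent.SpecBlow.MatCode
import Mathlib.Tactic.NormNum.Prime

set_option autoImplicit false
open Cfsg

namespace Cfsg.Agent.S3437

open Polynomial Matrix in
theorem key_poly (M : Matrix (Fin 3) (Fin 3) (ZMod 3)) (a b : ℤ)
    (hch : M ^ 3 + (a : Matrix (Fin 3) (Fin 3) (ZMod 3)) * M ^ 2 +
      (b : Matrix (Fin 3) (Fin 3) (ZMod 3)) * M - 1 = 0) (e : ℕ) (g h : ℤ[X])
    (he : (X ^ e - 1 : ℤ[X]) = g * (X ^ 3 + C a * X ^ 2 + C b * X - 1) + 3 * h) : M ^ e = 1 := by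
  have h2 := congrArg (aeval M) he
  have h3 : (3 : Matrix (Fin 3) (Fin 3) (ZMod 3)) = 0 := by decide
  simp only [map_add, map_sub, map_mul, map_pow, aeval_X, map_one, map_ofNat, map_intCast,
    eq_intCast, Int.cast_id] at h2
  rw [hch, h3, mul_zero, zero_mul, add_zero, sub_eq_zero] at h2
  exact h2

open Polynomial Matrix in
theorem sl_upper (g : Matrix.SpecialLinearGroup (Fin 3) (ZMod 3)) :
    ∃ m ∈ [6, 8, 13], orderOf g ∣ m := by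
  set M : Matrix (Fin 3) (Fin 3) (ZMod 3) := g.1 with hM
  suffices ∃ m ∈ [6, 8, 13], M ^ m = 1 by
    obtain ⟨m, hm, h⟩ := this
    exact ⟨m, hm, orderOf_dvd_of_pow_eq_one (Subtype.ext h)⟩
  have hdeg : M.charpoly.natDegree = 3 := by rw [Matrix.charpoly_natDegree_eq_dim, Fintype.card_fin]
  have h0 : M.charpoly.coeff 0 = -1 := by
    have h := Matrix.det_eq_sign_charpoly_coeff M
    rw [show M.det = 1 from g.2, Fintype.card_fin] at h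
    linear_combination h
  have hlead : M.charpoly.coeff 3 = 1 := by
    have := (Matrix.charpoly_monic M).coeff_natDegree
    rwa [hdeg] at this
  have hch0 : aeval M (C (-1 : ZMod 3) + C (M.charpoly.coeff 1) * X + C (M.charpoly.coeff 2) * X ^ 2 +
      X ^ 3) = 0 := by
    have hp := M.charpoly.as_sum_range_C_mul_X_pow
    rw [hdeg] at hp
    simp only [Finset.sum_range_succ, Finset.sum_range_zero, zero_add, pow_zero, mul_one, pow_one,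
      h0, hlead, map_one, one_mul] at hp
    rw [← hp]
    exact Matrix.aeval_self_charpoly M
  have hcast : ∀ c : ZMod 3, algebraMap (ZMod 3) (Matrix (Fin 3) (Fin 3) (ZMod 3)) c =
      ((c.val : ℤ) : Matrix (Fin 3) (Fin 3) (ZMod 3)) := fun c => by
    rw [← map_intCast (algebraMap (ZMod 3) (Matrix (Fin 3) (Fin 3) (ZMod 3))), Int.cast_natCast,
      ZMod.natCast_zmod_val]
  have hch : M ^ 3 + (((M.charpoly.coeff 2).val : ℤ) : Matrix (Fin 3) (Fin 3) (ZMod 3)) * M ^ 2 +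
      (((M.charpoly.coeff 1).val : ℤ) : Matrix (Fin 3) (Fin 3) (ZMod 3)) * M - 1 = 0 := by
    simp only [map_add, map_mul, map_pow, aeval_X, aeval_C, map_neg, map_one] at hch0
    rw [← hcast, ← hcast]
    linear_combination (norm := abel) hch0
  have key : ∀ a b : ℕ, M ^ 3 + ((a : ℤ) : Matrix (Fin 3) (Fin 3) (ZMod 3)) * M ^ 2 +
      ((b : ℤ) : Matrix (Fin 3) (Fin 3) (ZMod 3)) * M - 1 = 0 → ∀ e ∈ [6, 8, 13], ∀ g h : ℤ[X],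
      (X ^ e - 1 : ℤ[X]) = g * (X ^ 3 + C (a : ℤ) * X ^ 2 + C (b : ℤ) * X - 1) + 3 * h →
      ∃ m ∈ [6, 8, 13], M ^ m = 1 :=
    fun a b hab e he g h heq => ⟨e, he, key_poly M a b hab e g h heq⟩
  have ha := (M.charpoly.coeff 2).val_lt
  have hb := (M.charpoly.coeff 1).val_lt
  generalize (M.charpoly.coeff 2).val = a at ha hch
  generalize (M.charpoly.coeff 1).val = b at hb hch
  interval_cases a <;> interval_cases b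
  · refine key 0 0 (by simpa using hch) 6 (by simp) ((1)*X^0 + (1)*X^3 : ℤ[X]) (0 : ℤ[X]) ?_
    simp only [Nat.cast_ofNat, Nat.cast_zero, Nat.cast_one, map_ofNat, map_zero, map_one]
    ring
  · refine key 0 1 (by simpa using hch) 8 (by simp) ((-2)*X^0 + (1)*X^1 + (1)*X^2 + (-1)*X^3 + (1)*X^5 : ℤ[X]) ((-1)*X^0 + (1)*X^1 : ℤ[X]) ?_
    simp only [Nat.cast_ofNat, Nat.cast_zero, Nat.cast_one, map_ofNat, map_zero, map_one]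
    ring
  · refine key 0 2 (by simpa using hch) 13 (by simp) ((-8)*X^0 + (-31)*X^1 + (10)*X^2 + (12)*X^3 + (-7)*X^4 + (-4)*X^5 + (4)*X^6 + (1)*X^7 + (-2)*X^8 + (1)*X^10 : ℤ[X]) ((-3)*X^0 + (-5)*X^1 + (24)*X^2 : ℤ[X]) ?_
    simp only [Nat.cast_ofNat, Nat.cast_zero, Nat.cast_one, map_ofNat, map_zero, map_one]
    ring
  · refine key 1 0 (by simpa using hch) 13 (by simp) ((4)*X^0 + (-3)*X^1 + (1)*X^2 + (1)*X^3 + (-2)*X^4 + (2)*X^5 + (-1)*X^6 + (1)*X^8 + (-1)*X^9 + (1)*X^10 : ℤ[X]) ((1)*X^0 + (-1)*X^1 + (-1)*X^2 : ℤ[X]) ?_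
    simp only [Nat.cast_ofNat, Nat.cast_zero, Nat.cast_one, map_ofNat, map_zero, map_one]
    ring
  · refine key 1 1 (by simpa using hch) 13 (by simp) ((-20)*X^0 + (7)*X^1 + (5)*X^2 + (-8)*X^3 + (4)*X^4 + (1)*X^5 + (-3)*X^6 + (2)*X^7 + (-1)*X^9 + (1)*X^10 : ℤ[X]) ((-7)*X^0 + (9)*X^1 + (6)*X^2 : ℤ[X]) ?_
    simp only [Nat.cast_ofNat, Nat.cast_zero, Nat.cast_one, map_ofNat, map_zero, map_one]
    ring
  · refine key 1 2 (by simpa using hch) 6 (by simp) ((4)*X^0 + (-1)*X^1 + (-1)*X^2 + (1)*X^3 : ℤ[X]) ((1)*X^0 + (-3)*X^1 + (-1)*X^2 : ℤ[X]) ?_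
    simp only [Nat.cast_ofNat, Nat.cast_zero, Nat.cast_one, map_ofNat, map_zero, map_one]
    ring
  · refine key 2 0 (by simpa using hch) 8 (by simp) ((-20)*X^0 + (12)*X^1 + (-7)*X^2 + (4)*X^3 + (-2)*X^4 + (1)*X^5 : ℤ[X]) ((-7)*X^0 + (4)*X^1 + (11)*X^2 : ℤ[X]) ?_
    simp only [Nat.cast_ofNat, Nat.cast_zero, Nat.cast_one, map_ofNat, map_zero, map_one]
    ring
  · refine key 2 1 (by simpa using hch) 8 (by simp) ((4)*X^0 + (1)*X^1 + (-3)*X^2 + (3)*X^3 + (-2)*X^4 + (1)*X^5 : ℤ[X]) ((1)*X^0 + (-1)*X^1 + (-4)*X^2 : ℤ[X]) ?_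
    simp only [Nat.cast_ofNat, Nat.cast_zero, Nat.cast_one, map_ofNat, map_zero, map_one]
    ring
  · refine key 2 2 (by simpa using hch) 13 (by simp) ((112)*X^0 + (-127)*X^1 + (66)*X^2 + (-10)*X^3 + (-15)*X^4 + (16)*X^5 + (-8)*X^6 + (1)*X^7 + (2)*X^8 + (-2)*X^9 + (1)*X^10 : ℤ[X]) ((37)*X^0 + (-117)*X^1 + (32)*X^2 : ℤ[X]) ?_
    simp only [Nat.cast_ofNat, Nat.cast_zero, Nat.cast_one, map_ofNat, map_zero, map_one]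
    ring

/-- The elements of the complement. -/
def elems : List (List ℕ) := [[1, 0, 0, 0, 0, 1, 0, 0, 0, 0, 1, 0, 0, 0, 0, 1], [0, 0, 3, 4, 0, 0, 9, 3, 4, 3, 0, 0, 10, 4, 0, 0], [7, 6, 6, 6, 7, 7, 6, 7, 7, 7, 7, 6, 7, 6, 7, 7], [0, 12, 0, 0, 1, 0, 0, 0, 0, 0, 0, 12, 0, 0, 1, 0], [10, 6, 10, 7, 6, 3, 6, 10, 10, 6, 3, 6, 7, 10, 6, 10], [6, 3, 10, 7, 3, 7, 6, 10, 10, 6, 6, 10, 7, 10, 10, 7], [6, 6, 6, 6, 7, 6, 6, 7, 7, 7, 6, 6, 7, 6, 7, 6], [0, 0, 4, 10, 0, 0, 3, 4, 3, 9, 0, 0, 4, 3, 0, 0], [6, 6, 7, 6, 7, 6, 6, 6, 6, 7, 6, 6, 7, 7, 7, 6], [10, 6, 7, 3, 6, 3, 10, 7, 6, 3, 3, 6, 10, 6, 6, 10], [6, 6, 6, 7, 7, 6, 7, 7, 7, 6, 6, 6, 6, 6, 7, 6], [6, 3, 7, 3, 3, 7, 10, 7, 6, 3, 6, 10, 10, 6, 10, 7], [12, 0, 0, 0, 0, 12, 0, 0, 0, 0, 12, 0, 0, 0, 0, 12], [7, 10, 7, 3, 10, 6, 10, 7, 6, 3, 7, 3, 10, 6, 3, 6], [6,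 7, 7, 6, 6, 6, 6, 6, 6, 7, 6, 7, 7, 7, 6, 6], [6, 7, 6, 6, 6, 6, 6, 7, 7, 7, 6, 7, 7, 6, 6, 6], [0, 0, 10, 9, 0, 0, 4, 10, 9, 10, 0, 0, 3, 9, 0, 0], [3, 7, 7, 3, 7, 10, 10, 7, 6, 3, 10, 7, 10, 6, 7, 3], [6, 6, 7, 7, 7, 6, 7, 6, 6, 6, 6, 6, 6, 7, 7, 6], [6, 7, 6, 7, 6, 6, 7, 7, 7, 6, 6, 7, 6, 6, 6, 6], [6, 7, 7, 7, 6, 6, 7, 6, 6, 6, 6, 7, 6, 7, 6, 6], [7, 10, 3, 6, 10, 6, 7, 3, 3, 7, 7, 3, 6, 3, 3, 6], [10, 6, 3, 6, 6, 3, 7, 3, 3, 7, 3, 6, 6, 3, 6, 10], [0, 1, 0, 0, 12, 0, 0, 0, 0, 0, 0, 1, 0, 0, 12, 0], [6, 3, 3, 6, 3, 7, 7, 3, 3, 7, 6, 10, 6, 3, 10, 7], [3, 7, 3, 6, 7, 10, 7, 3, 3, 7, 10, 7, 6, 3, 7, 3], [10, 4, 0, 0, 4, 3, 0, 0, 0, 0, 4, 10, 0, 0, 10, 9], [0, 0, 1, 0, 0, 0, 0, 12, 12, 0, 0, 0, 0, 1, 0, 0], [0, 0, 0, 1, 0, 0, 1, 0, 0, 12, 0, 0, 12, 0, 0, 0], [7, 7, 7, 7, 6, 7, 7, 6, 6, 6, 7, 7, 6, 7,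 6, 7], [7, 7, 7, 6, 6, 7, 6, 6, 6, 7, 7, 7, 7, 7, 6, 7], [0, 0, 9, 3, 0, 0, 10, 9, 10, 4, 0, 0, 9, 10, 0, 0], [7, 7, 6, 6, 6, 7, 6, 7, 7, 7, 7, 7, 7, 6, 6, 7], [7, 7, 6, 7, 6, 7, 7, 7, 7, 6, 7, 7, 6, 6, 6, 7], [9, 10, 0, 0, 10, 4, 0, 0, 0, 0, 3, 4, 0, 0, 4, 10], [3, 7, 6, 10, 7, 10, 3, 6, 7, 10, 10, 7, 3, 7, 7, 3], [7, 10, 6, 10, 10, 6, 3, 6, 7, 10, 7, 3, 3, 7, 3, 6], [4, 3, 0, 0, 3, 9, 0, 0, 0, 0, 10, 9, 0, 0, 9, 3], [7, 6, 7, 7, 7, 7, 7, 6, 6, 6, 7, 6, 6, 7, 7, 7], [10, 6, 6, 10, 6, 3, 3, 6, 7, 10, 3, 6, 3, 7, 6, 10], [6, 3, 6, 10, 3, 7, 3, 6, 7, 10, 6, 10, 3, 7, 10, 7], [0, 0, 12, 0, 0, 0, 0, 1, 1, 0, 0, 0, 0, 12, 0, 0], [7, 6, 6, 7, 7, 7, 7, 7, 7, 6, 7, 6, 6, 6, 7, 7], [3, 7, 10, 7, 7, 10, 6, 10, 10, 6, 10, 7, 7, 10, 7, 3], [7, 6, 7, 6, 7, 7, 6, 6, 6, 7, 7, 6, 7, 7, 7, 7], [0, 0, 0, 12, 0, 0, 12, 0,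 0, 1, 0, 0, 1, 0, 0, 0], [7, 10, 10, 7, 10, 6, 6, 10, 10, 6, 7, 3, 7, 10, 3, 6], [3, 9, 0, 0, 9, 10, 0, 0, 0, 0, 9, 3, 0, 0, 3, 4]]

/-- The inverses of `x - 1`. -/
def elemInvs : List (List ℕ) := [[1, 0, 0, 0, 0, 1, 0, 0, 0, 0, 1, 0, 0, 0, 0, 1], [6, 7, 3, 6, 6, 6, 7, 3, 3, 7, 6, 7, 6, 3, 6, 6], [6, 7, 7, 7, 6, 6, 7, 6, 6, 6, 6, 7, 6, 7, 6, 6], [6, 7, 0, 0, 6, 6, 0, 0, 0, 0, 6, 7, 0, 0, 6, 6], [1, 10, 8, 3, 10, 11, 10, 8, 8, 10, 11, 10, 3, 8, 10, 1], [3, 5, 8, 3, 5, 9, 10, 8, 8, 10, 3, 8, 3, 8, 8, 9], [6, 11, 11, 11, 2, 6, 11, 2, 2, 2, 6, 11, 2, 11, 2, 6], [6, 6, 3, 6, 7, 6, 7, 3, 3, 7, 6, 6, 6, 3, 7, 6], [6, 11, 2, 11, 2, 6, 11, 11, 11, 2, 6, 11, 2, 2, 2, 6], [9, 7, 0, 6, 7, 3, 6, 0, 0, 7, 3, 7, 7, 0, 7, 9], [6, 11, 11, 2, 2, 6, 2, 2, 2, 11, 6, 11, 11, 11, 2, 6], [0, 10, 6, 0, 10, 12, 0, 7, 7, 0, 0,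 3, 0, 6, 3, 12], [6, 0, 0, 0, 0, 6, 0, 0, 0, 0, 6, 0, 0, 0, 0, 6], [12, 3, 7, 0, 3, 0, 0, 6, 6, 0, 12, 10, 0, 7, 10, 0], [6, 2, 2, 11, 11, 6, 11, 11, 11, 2, 6, 2, 2, 2, 11, 6], [6, 2, 11, 11, 11, 6, 11, 2, 2, 2, 6, 2, 2, 11, 11, 6], [6, 7, 10, 7, 6, 6, 6, 10, 10, 6, 6, 7, 7, 10, 6, 6], [3, 6, 0, 7, 6, 9, 7, 0, 0, 6, 9, 6, 6, 0, 6, 3], [6, 11, 2, 2, 2, 6, 2, 11, 11, 11, 6, 11, 11, 2, 2, 6], [6, 2, 11, 2, 11, 6, 2, 2, 2, 11, 6, 2, 11, 11, 11, 6], [6, 2, 2, 2, 11, 6, 2, 11, 11, 11, 6, 2, 11, 2, 11, 6], [9, 8, 5, 10, 8, 3, 3, 5, 5, 3, 9, 5, 10, 5, 5, 3], [1, 10, 5, 10, 10, 11, 3, 5, 5, 3, 11, 10, 10, 5, 10, 1], [6, 6, 0, 0, 7, 6, 0, 0, 0, 0, 6, 6, 0, 0, 7, 6], [3, 5, 5, 10, 5, 9, 3, 5, 5, 3, 3, 8, 10, 5, 8, 9], [11, 3, 5, 10, 3, 1, 3, 5, 5, 3, 1, 3, 10, 5, 3, 11], [1, 11, 0, 0, 11, 11, 0, 0, 0, 0, 4, 8, 0,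 0, 8, 8], [6, 0, 6, 0, 0, 6, 0, 7, 7, 0, 6, 0, 0, 6, 0, 6], [6, 0, 0, 6, 0, 6, 6, 0, 0, 7, 6, 0, 7, 0, 0, 6], [6, 6, 6, 6, 7, 6, 6, 7, 7, 7, 6, 6, 7, 6, 7, 6], [6, 6, 6, 7, 7, 6, 7, 7, 7, 6, 6, 6, 6, 6, 7, 6], [6, 6, 10, 7, 7, 6, 6, 10, 10, 6, 6, 6, 7, 10, 7, 6], [6, 6, 7, 7, 7, 6, 7, 6, 6, 6, 6, 6, 6, 7, 7, 6], [6, 6, 7, 6, 7, 6, 6, 6, 6, 7, 6, 6, 7, 7, 7, 6], [8, 8, 0, 0, 8, 4, 0, 0, 0, 0, 11, 11, 0, 0, 11, 1], [3, 6, 0, 6, 6, 9, 6, 0, 0, 7, 9, 6, 7, 0, 6, 3], [12, 3, 6, 0, 3, 0, 0, 7, 7, 0, 12, 10, 0, 6, 10, 0], [4, 5, 0, 0, 5, 8, 0, 0, 0, 0, 1, 2, 0, 0, 2, 11], [6, 7, 6, 6, 6, 6, 6, 7, 7, 7, 6, 7, 7, 6, 6, 6], [9, 7, 0, 7, 7, 3, 7, 0, 0, 6, 3, 7, 6, 0, 7, 9], [0, 10, 7, 0, 10, 12, 0, 6, 6, 0, 0, 3, 0, 7, 3, 12], [6, 0, 7, 0, 0, 6, 0, 6, 6, 0, 6, 0, 0, 7, 0, 6], [6, 7, 7, 6, 6, 6, 6, 6, 6, 7, 6, 7,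 7, 7, 6, 6], [11, 3, 8, 3, 3, 1, 10, 8, 8, 10, 1, 3, 3, 8, 3, 11], [6, 7, 6, 7, 6, 6, 7, 7, 7, 6, 6, 7, 6, 6, 6, 6], [6, 0, 0, 7, 0, 6, 7, 0, 0, 6, 6, 0, 6, 0, 0, 6], [9, 8, 8, 3, 8, 3, 10, 8, 8, 10, 9, 5, 3, 8, 5, 3], [11, 2, 0, 0, 2, 1, 0, 0, 0, 0, 8, 5, 0, 0, 5, 4]]

theorem sl_lower6 : ∃ g : Matrix.SpecialLinearGroup (Fin 3) (ZMod 3), orderOf g = 6 :=
  ⟨⟨!![2, 0, 0; 1, 2, 0; 0, 0, 1], by decide +kernel⟩, (orderOf_eq_iff (by norm_num)).2 ⟨by decide +kernel, by decide +kernel⟩⟩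

theorem sl_lower8 : ∃ g : Matrix.SpecialLinearGroup (Fin 3) (ZMod 3), orderOf g = 8 :=
  ⟨⟨!![0, 0, 1; 1, 0, 2; 0, 1, 0], by decide +kernel⟩, (orderOf_eq_iff (by norm_num)).2 ⟨by decide +kernel, by decide +kernel⟩⟩

theorem sl_lower13 : ∃ g : Matrix.SpecialLinearGroup (Fin 3) (ZMod 3), orderOf g = 13 :=
  ⟨⟨!![0, 0, 1; 1, 0, 1; 0, 1, 0], by decide +kernel⟩, (orderOf_eq_iff (by norm_num)).2 ⟨by decide +kernel, by decide +kernel⟩⟩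


/-- There is a finite solvable group with exactly the same set of element orders as the simple group PSL(3,3). -/
theorem result {F : Type*} [Field F] [Fintype F] (hF : Fintype.card F = 3) :
    ∃ (H : Type) (_ : Group H) (_ : Fintype H), Group.IsSolvable H ∧
      Set.range (orderOf : H → ℕ) = Set.range (orderOf : Matrix.ProjectiveSpecialLinearGroup (Fin 3) F → ℕ) := by
  have : Fact (Nat.Prime 13) := ⟨by norm_num⟩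
  obtain ⟨G, hG1, hG2, hsol, hspec⟩ := CfsgLib.SpecBlow.MatCode.exists_witness_code (p := 13)
    [0, 0, 3, 4, 0, 0, 9, 3, 4, 3, 0, 0, 10, 4, 0, 0] [7, 6, 6, 6, 7, 7, 6, 7, 7, 7, 7, 6, 7, 6, 7, 7] [0, 0, 9, 3, 0, 0, 10, 9, 10, 4, 0, 0, 9, 10, 0, 0] [7, 7, 7, 7, 6, 7, 7, 6, 6, 6, 7, 7, 6, 7, 6, 7] elems elemInvs [6, 8]
    [[false], [true]]
    (by decide +kernel) (by decide +kernel) (by decide +kernel) (by decide +kernel) (by decide +kernel)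
    (by decide +kernel) (by decide +kernel)
    (by
      intro m hm r hr hrm
      have h : r ∣ 2 ^ 3 * 3 := hrm.trans (by fin_cases hm <;> norm_num)
      rcases (hr.dvd_mul).1 h with h | h
      · exact Or.inl ((Nat.prime_dvd_prime_iff_eq hr Nat.prime_two).1 (hr.dvd_of_dvd_pow h))
      · exact Or.inr ((Nat.prime_dvd_prime_iff_eq hr Nat.prime_three).1 h))
    (by decide) rfl (by decide +kernel)
  refine ⟨G, hG1, hG2, hsol, hspec.trans ?_⟩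
  have : Fact (Nat.Prime 3) := ⟨Nat.prime_three⟩
  have hchar : CharP F 3 := by
    obtain ⟨q, hq⟩ := CharP.exists F
    have hqp : q.Prime := CharP.char_is_prime F q
    obtain ⟨n, -, hn⟩ := FiniteField.card F q
    rw [hF] at hn
    obtain rfl : 3 = q := (Nat.prime_dvd_prime_iff_eq hqp Nat.prime_three).1
      (hn ▸ dvd_pow_self q n.pos.ne') |>.symm
    exact hq
  let e : ZMod 3 ≃+* F := ZMod.ringEquiv F (by rw [hF])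
  let f : Matrix.SpecialLinearGroup (Fin 3) (ZMod 3) →* Matrix.ProjectiveSpecialLinearGroup (Fin 3) F :=
    (QuotientGroup.mk' (Subgroup.center _)).comp (Matrix.SpecialLinearGroup.map e.toRingHom)
  have hf : Function.Bijective f := by
    refine ⟨(injective_iff_map_eq_one f).2 fun g hg => ?_, fun x => ?_⟩
    · obtain ⟨r, hr, hs⟩ := Matrix.SpecialLinearGroup.mem_center_iff.1 ((QuotientGroup.eq_one_iff _).1 hg)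
      rw [Fintype.card_fin] at hr
      have hr1 : r = 1 := by
        have := FiniteField.pow_card r
        rw [hF, hr] at this
        exact this.symm
      subst hr1
      apply Subtype.ext
      apply Matrix.ext
      intro i j
      apply e.injective
      have := congrFun (congrFun hs i) j
      rw [map_one] at this
      show e (g.1 i j) = e ((1 : Matrix (Fin 3) (Fin 3) (ZMod 3)) i j)
      refine this.symm.trans ?_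
      rw [Matrix.one_apply, Matrix.one_apply]
      split <;> simp
    · obtain ⟨g, rfl⟩ := QuotientGroup.mk'_surjective _ x
      refine ⟨Matrix.SpecialLinearGroup.map e.symm.toRingHom g, congrArg (QuotientGroup.mk' _) ?_⟩
      apply Subtype.ext
      ext i j
      exact e.apply_symm_apply _
  let E := MulEquiv.ofBijective f hf
  have hr : Set.range (orderOf : Matrix.ProjectiveSpecialLinearGroup (Fin 3) F → ℕ) =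
      Set.range (orderOf : Matrix.SpecialLinearGroup (Fin 3) (ZMod 3) → ℕ) := by
    ext k
    exact ⟨fun ⟨x, hx⟩ => ⟨E.symm x, (E.symm.orderOf_eq x).trans hx⟩,
      fun ⟨x, hx⟩ => ⟨E x, (E.orderOf_eq x).trans hx⟩⟩
  rw [hr, CfsgLib.SpecBlow.range_orderOf_eq [6, 8, 13] sl_upper ?_ (by decide)]
  · ext k
    simp only [Set.mem_ofPred_eq, List.mem_cons, List.not_mem_nil, or_false, exists_eq_or_imp,
      exists_eq_left]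
    tauto
  · intro m hm
    fin_cases hm
    · exact sl_lower6
    · exact sl_lower8
    · exact sl_lower13

end Cfsg.Agent.S3437
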