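import Cfsg.Statements.S3443
import Cfsg.Agent.SpecBlow.Basic

set_option autoImplicit false
open Cfsg

namespace Cfsg.Agent.S3443

/-- Let G be a finite group and V a normal elementary abelian subgroup of G (abelian of prime exponent p, possibly trivial). Then the semidirect product V ⋊ G, with G acting on V by conjugation, has exactly the same set of element orders as G. -/
theorem result {G : Type*} [Group G] [Finite G] (V : Subgroup G) [V.Normal] (p : ℕ) (hp : p.Prime)
    (hcomm : ∀ x y : V, x * y = y * x) (hexp : ∀ x : V, x ^ p = 1) :
    Set.range (orderOf : V ⋊[MulAut.conjNormal] G → ℕ) = Set.range (orderOf : G → ℕ) := by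
  exact CfsgLib.SpecBlow.range_orderOf_semidirect V hp hexp

end Cfsg.Agent.S3443
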