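import Cfsg.Statements.S3448
import Cfsg.Agent.SpecBlow.AltSpectrum

set_option autoImplicit false
open Cfsg

namespace Cfsg.Agent.S3448

/-- The set of element orders of the direct product of two copies of the alternating group of degree 5 is {1, 2, 3, 5, 6, 10, 15}. (It is shared by the direct product of two Frobenius groups of orders 50 and 75, so this direct product is not determined by its element orders.) -/
theorem result : Set.range (orderOf : alternatingGroup (Fin 5) × alternatingGroup (Fin 5) → ℕ) = {1, 2, 3, 5, 6, 10, 15} := by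
  have h := CfsgLib.SpecBlow.range_orderOf_alternating_five
  have hmem : ∀ a : alternatingGroup (Fin 5), orderOf a ∈ ({1, 2, 3, 5} : Finset ℕ) := fun a => by
    have : orderOf a ∈ Set.range (orderOf : alternatingGroup (Fin 5) → ℕ) := ⟨a, rfl⟩
    rwa [h] at this
  have hwit : ∀ k ∈ ({1, 2, 3, 5} : Finset ℕ), ∃ a : alternatingGroup (Fin 5), orderOf a = k :=
    fun k hk => by
      have : k ∈ Set.range (orderOf : alternatingGroup (Fin 5) → ℕ) := by rw [h]; exact hk
      exact this
  ext k
  constructor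
  · rintro ⟨⟨a, b⟩, rfl⟩
    rw [Prod.orderOf]
    have key : ∀ i ∈ ({1, 2, 3, 5} : Finset ℕ), ∀ j ∈ ({1, 2, 3, 5} : Finset ℕ),
        Nat.lcm i j ∈ ({1, 2, 3, 5, 6, 10, 15} : Finset ℕ) := by decide +kernel
    have := key _ (hmem a) _ (hmem b)
    simpa using this
  · intro hk
    have key : ∀ m ∈ ({1, 2, 3, 5, 6, 10, 15} : Finset ℕ), ∃ i ∈ ({1, 2, 3, 5} : Finset ℕ),
        ∃ j ∈ ({1, 2, 3, 5} : Finset ℕ), Nat.lcm i j = m := by decide +kernel
    obtain ⟨i, hi, j, hj, hij⟩ := key k (by simpa using hk)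
    obtain ⟨a, rfl⟩ := hwit i hi
    obtain ⟨b, rfl⟩ := hwit j hj
    exact ⟨(a, b), by rw [Prod.orderOf, hij]⟩

end Cfsg.Agent.S3448
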