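import Cfsg.Statements.S3449
import Cfsg.Agent.SpecBlow.AltSpectrum

set_option autoImplicit false
open Cfsg

namespace Cfsg.Agent.S3449

/-- The direct product of three copies of the alternating group of degree 5 has exactly the same set of element orders as the cyclic group of order 30, namely the divisors of 30; in particular a direct power of a non-abelian simple group need not be determined by its element orders. -/
theorem result : Set.range (orderOf : alternatingGroup (Fin 5) × alternatingGroup (Fin 5) × alternatingGroup (Fin 5) → ℕ) =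
      Set.range (orderOf : Multiplicative (ZMod 30) → ℕ) := by
  have h := CfsgLib.SpecBlow.range_orderOf_alternating_five
  have hmem : ∀ a : alternatingGroup (Fin 5), orderOf a ∈ ({1, 2, 3, 5} : Finset ℕ) := fun a => by
    have : orderOf a ∈ Set.range (orderOf : alternatingGroup (Fin 5) → ℕ) := ⟨a, rfl⟩
    rwa [h] at this
  have hwit : ∀ k ∈ ({1, 2, 3, 5} : Finset ℕ), ∃ a : alternatingGroup (Fin 5), orderOf a = k :=
    fun k hk => by
      have : k ∈ Set.range (orderOf : alternatingGroup (Fin 5) → ℕ) := by rw [h]; exact hk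
      exact this
  ext k
  constructor
  · rintro ⟨⟨a, b, c⟩, rfl⟩
    rw [Prod.orderOf, Prod.orderOf]
    have key : ∀ i ∈ ({1, 2, 3, 5} : Finset ℕ), ∀ j ∈ ({1, 2, 3, 5} : Finset ℕ),
        ∀ l ∈ ({1, 2, 3, 5} : Finset ℕ), Nat.lcm i (Nat.lcm j l) ∣ 30 := by decide +kernel
    have hd := key _ (hmem a) _ (hmem b) _ (hmem c)
    set m := Nat.lcm (orderOf a) (Nat.lcm (orderOf b) (orderOf c))
    have key2 : ∀ d ∈ Nat.divisors 30, 30 / Nat.gcd 30 (30 / d) = d := by decide +kernel
    refine ⟨Multiplicative.ofAdd ((30 / m : ℕ) : ZMod 30), ?_⟩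
    rw [orderOf_ofAdd_eq_addOrderOf, ZMod.addOrderOf_coe _ (by norm_num)]
    exact key2 m (Nat.mem_divisors.2 ⟨hd, by norm_num⟩)
  · rintro ⟨x, rfl⟩
    have hd : orderOf x ∣ 30 := by
      have := orderOf_dvd_natCard x
      rwa [Nat.card_congr Multiplicative.toAdd, Nat.card_zmod] at this
    have key : ∀ m ∈ Nat.divisors 30, ∃ i ∈ ({1, 2, 3, 5} : Finset ℕ),
        ∃ j ∈ ({1, 2, 3, 5} : Finset ℕ), ∃ l ∈ ({1, 2, 3, 5} : Finset ℕ),
          Nat.lcm i (Nat.lcm j l) = m := by decide +kernel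
    obtain ⟨i, hi, j, hj, l, hl, hij⟩ := key _ (Nat.mem_divisors.2 ⟨hd, by omega⟩)
    obtain ⟨a, rfl⟩ := hwit i hi
    obtain ⟨b, rfl⟩ := hwit j hj
    obtain ⟨c, rfl⟩ := hwit l hl
    exact ⟨(a, b, c), by rw [Prod.orderOf, Prod.orderOf, hij]⟩

end Cfsg.Agent.S3449
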