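import Cfsg.Statements.S3452
import Cfsg.Agent.SpecBlow.PGL2Prime
import Cfsg.Agent.SpecBlow.PGL2Nine
import Cfsg.Agent.Solvable.Basics
import Cfsg.Agent.Char.Burnside

set_option autoImplicit false
open Cfsg

namespace Cfsg.Agent.S3452

/-- For F a finite field whose number of elements is a prime or equals 9, the group PGL(2,F) = GL(2,F)/Z(GL(2,F)) is not determined by its set of element orders: for every bound N there is a finite group of order greater than N with exactly the same set of element orders as PGL(2,F). -/
theorem result {F : Type*} [Field F] [Fintype F] (hF : (Fintype.card F).Prime ∨ Fintype.card F = 9) (N : ℕ) :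
    ∃ (H : Type) (_ : Group H) (_ : Fintype H), N < Fintype.card H ∧
      Set.range (orderOf : H → ℕ) = Set.range (orderOf : Matrix.GeneralLinearGroup (Fin 2) F ⧸ Subgroup.center (Matrix.GeneralLinearGroup (Fin 2) F) → ℕ) := by
  rcases hF with hp | h9
  · set p := Fintype.card F with hpdef
    have : Fact p.Prime := ⟨hp⟩
    let e : ZMod p ≃+* F := ZMod.ringEquivOfPrime F hp rfl
    have hcp : CharP F p := charP_of_injective_ringHom (f := e.toRingHom) e.injective p
    by_cases h5 : 5 ≤ p
    · obtain ⟨H, iG, iF, hlt, hr⟩ := CfsgLib.SpecBlow.PGLPrime.exists_large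
        (p := p) (by omega) h5 N
      refine ⟨H, iG, iF, hlt, hr.trans ?_⟩
      rw [CfsgLib.SpecBlow.range_orderOf_pgl (F := ZMod p) p (by omega),
        CfsgLib.SpecBlow.range_orderOf_pgl (F := F) p (by omega), ZMod.card]
    · have h23 : p = 2 ∨ p = 3 := by
        have := hp.two_le
        have h4 : p ≠ 4 := fun h => absurd (h ▸ hp) (by norm_num)
        omega
      set Q := Matrix.GeneralLinearGroup (Fin 2) F ⧸
        Subgroup.center (Matrix.GeneralLinearGroup (Fin 2) F) with hQ
      have hsol : Group.IsSolvable Q := by
        have hs : Group.IsSolvable (Matrix.GeneralLinearGroup (Fin 2) F) := by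
          have hcard := Matrix.card_GL_field (𝔽 := F) 2
          rw [← hpdef, Fin.prod_univ_two] at hcard
          rcases h23 with h | h
          · refine CfsgLib.Char.isSolvable_of_card_eq (G := Matrix.GeneralLinearGroup (Fin 2) F)
              2 3 1 1 Nat.prime_two Nat.prime_three ?_
            rw [hcard, h]; rfl
          · refine CfsgLib.Char.isSolvable_of_card_eq (G := Matrix.GeneralLinearGroup (Fin 2) F)
              2 3 4 1 Nat.prime_two Nat.prime_three ?_
            rw [hcard, h]; rfl
        exact Group.isSolvable_of_surjective (QuotientGroup.mk'_surjective _)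
      have hne : (⊤ : Subgroup Q) ≠ ⊥ := by
        obtain ⟨g, hg⟩ := CfsgLib.SpecBlow.exists_pgl_order_p (F := F) p
        intro h
        have : g ∈ (⊥ : Subgroup Q) := h ▸ Subgroup.mem_top g
        rw [Subgroup.mem_bot] at this
        rw [this, orderOf_one] at hg
        exact hp.one_lt.ne hg
      have hstop : Group.IsSolvable (⊤ : Subgroup Q) := inferInstance
      obtain ⟨M, hM, hM1, -, -, -, q, hq, hexp, -⟩ :=
        CfsgLib.Solvable.exists_normal_elementary_le hne hstop
      have := hM
      exact CfsgLib.SpecBlow.exists_large_isospectral M hM1 hq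
        (fun x => Subtype.ext (by rw [SubmonoidClass.coe_pow]; exact hexp x x.2)) N
  · exact CfsgLib.SpecBlow.PGLNine.exists_large h9 N

end Cfsg.Agent.S3452
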