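import Cfsg.Statements.S3493
import Cfsg.Agent.ExtPrim.Socle

set_option autoImplicit false
open Cfsg

namespace Cfsg.Agent.S3493

/-- An extremely primitive permutation group is of affine type or almost simple. Let a finite group G act faithfully and primitively on a finite set Ω with at least two points, in such a way that every point stabilizer acts primitively on each of its own orbits in Ω (an orbit of size one counts as primitive). Then either G has a non-trivial abelian normal subgroup whose elements other than the identity fix no point (affine type), or G has a non-abelian simple normal subgroup with trivial centralizer (almost simple). -/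
theorem result {G : Type*} [Group G] [Finite G] {Ω : Type*} [Fintype Ω] [MulAction G Ω] [FaithfulSMul G Ω] (hΩ : 2 ≤ Fintype.card Ω) (hprim : MulAction.IsPreprimitive G Ω) (hep : ∀ (α : Ω) (ω : Ω), MulAction.IsPreprimitive (MulAction.stabilizer G α) (MulAction.orbit (MulAction.stabilizer G α) ω)) :
    (∃ N : Subgroup G, N.Normal ∧ N ≠ ⊥ ∧ IsMulCommutative N ∧ ∀ ω : Ω, MulAction.stabilizer N ω = ⊥) ∨ (∃ T : Subgroup G, T.Normal ∧ IsSimpleGroup T ∧ ¬ IsMulCommutative T ∧ Subgroup.centralizer (T : Set G) = ⊥) := by
  have : Nontrivial Ω := Fintype.one_lt_card_iff_nontrivial.1 hΩ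
  obtain ⟨α, β, hαβ⟩ := this.exists_pair_ne
  have htrans : ∀ A : Subgroup G, A.Normal → A ≠ ⊥ → MulAction.IsPretransitive A Ω := by
    intro A hA hne
    refine MulAction.IsPreprimitive.isQuasiPreprimitive.isPretransitive_of_normal fun h => hne ?_
    refine (Subgroup.eq_bot_iff_forall _).2 fun a ha => eq_of_smul_eq_smul (α := Ω) fun x => ?_
    have hx : x ∈ MulAction.fixedPoints A Ω := by rw [h]; trivial
    rw [one_smul]
    exact hx ⟨a, ha⟩
  by_cases hab : ∀ A : Subgroup G, A.Normal → IsMulCommutative A → A = ⊥
  · by_cases hH : ∀ a : Ω, MulAction.stabilizer G a ≠ ⊥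
    · exact Or.inr (CfsgLib.ExtPrim.affine_or_almostSimple hH hep α hab)
    · -- a regular primitive group is cyclic, hence abelian
      exfalso
      push Not at hH
      obtain ⟨a, ha⟩ := hH
      obtain ⟨g, hg⟩ := MulAction.exists_smul_eq G α β
      have hg1 : g ≠ 1 := fun e => hαβ (by rw [← hg, e, one_smul])
      have hco := MulAction.IsPreprimitive.isCoatom_stabilizer_of_isPreprimitive (G := G) a
      rw [ha] at hco
      have htop : Subgroup.zpowers g = ⊤ := hco.2 _ (bot_lt_iff_ne_bot.2 (by simpa using hg1))
      refine hg1 ?_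
      have := hab (Subgroup.zpowers g) (htop ▸ inferInstance) inferInstance
      simpa using this
  · push Not at hab
    obtain ⟨A, hA, hAc, hA0⟩ := hab
    have hAt := htrans A hA hA0
    refine Or.inl ⟨A, hA, hA0, hAc, fun ω => ?_⟩
    refine (Subgroup.eq_bot_iff_forall _).2 fun a ha => Subtype.ext ?_
    refine eq_of_smul_eq_smul (α := Ω) fun x => ?_
    obtain ⟨b, hb⟩ := MulAction.exists_smul_eq A ω x
    have : a • x = x := by
      rw [← hb, ← mul_smul, hAc.is_comm.comm a b, mul_smul, MulAction.mem_stabilizer_iff.1 ha]
    simpa [Subgroup.smul_def] using this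

end Cfsg.Agent.S3493
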