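import Cfsg.Statements.S3495
import Cfsg.Agent.ExtPrim.Socle

set_option autoImplicit false
open Cfsg

namespace Cfsg.Agent.S3495

/-- Let a finite group G act faithfully and primitively on a finite set Ω with non-trivial point stabilizers, each acting primitively on every one of its orbits (an extremely primitive group), and suppose G has an elementary abelian normal p-subgroup N acting regularly on Ω (affine type). Then every non-trivial subgroup M of a point stabilizer G_α that is normal in G_α has the same orbits on Ω as G_α, and normalizes no subgroup of N other than 1 and N. -/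
theorem result {G : Type*} [Group G] [Finite G] {Ω : Type*} [Fintype Ω] [MulAction G Ω] [FaithfulSMul G Ω] (hprim : MulAction.IsPreprimitive G Ω) (hH : ∀ α : Ω, MulAction.stabilizer G α ≠ ⊥) (hep : ∀ (α : Ω) (ω : Ω), MulAction.IsPreprimitive (MulAction.stabilizer G α) (MulAction.orbit (MulAction.stabilizer G α) ω))
    (N : Subgroup G) [N.Normal] (hNc : IsMulCommutative N) (p : ℕ) (hp : p.Prime) (hNp : ∀ n ∈ N, n ^ p = 1)
    (hNtr : MulAction.IsPretransitive N Ω) (hNreg : ∀ ω : Ω, MulAction.stabilizer N ω = ⊥) (α : Ω) (M : Subgroup G) (hM : M ≠ ⊥) (hMle : M ≤ MulAction.stabilizer G α)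
    (hMn : MulAction.stabilizer G α ≤ Subgroup.normalizer (M : Set G)) :
    (∀ ω : Ω, MulAction.orbit M ω = MulAction.orbit (MulAction.stabilizer G α) ω) ∧
    (∀ L : Subgroup G, L ≤ N → M ≤ Subgroup.normalizer (L : Set G) → L = ⊥ ∨ L = N) := by
  have key : ∀ ω : Ω, ∀ h ∈ MulAction.stabilizer G α, ∃ m ∈ M, m • ω = h • ω := by
    intro ω h hh
    by_cases hω : ω = α
    · exact ⟨1, one_mem _, by rw [one_smul, hω]; exact (MulAction.mem_stabilizer_iff.1 hh).symm⟩
    · exact CfsgLib.ExtPrim.exists_smul_eq_of_normal hH hep hω M hMle hMn hM hh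
  refine ⟨fun ω => ?_, fun L hL hLM => ?_⟩
  · ext x
    constructor
    · rintro ⟨⟨m, hm⟩, rfl⟩
      exact ⟨⟨m, hMle hm⟩, rfl⟩
    · rintro ⟨⟨h, hh⟩, rfl⟩
      obtain ⟨m, hm, e⟩ := key ω h hh
      exact ⟨⟨m, hm⟩, e⟩
  · by_cases hL0 : L = ⊥
    · exact Or.inl hL0
    right
    have hinj : ∀ u ∈ N, ∀ v ∈ N, u • α = v • α → u = v := by
      intro u hu v hv e
      have : (⟨v⁻¹ * u, N.mul_mem (N.inv_mem hv) hu⟩ : N) ∈ MulAction.stabilizer N α := by
        rw [MulAction.mem_stabilizer_iff]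
        show (v⁻¹ * u) • α = α
        rw [mul_smul, e, inv_smul_smul]
      rw [hNreg, Subgroup.mem_bot] at this
      have := congrArg Subtype.val this
      exact (inv_mul_eq_one.1 this).symm
    have hnH : ∀ h ∈ MulAction.stabilizer G α, ∀ l ∈ L, h * l * h⁻¹ ∈ L := by
      intro h hh l hl
      obtain ⟨m, hm, e⟩ := key (l • α) h hh
      rw [CfsgLib.ExtPrim.smul_smul_conj (MulAction.mem_stabilizer_iff.1 (hMle hm)),
        CfsgLib.ExtPrim.smul_smul_conj (MulAction.mem_stabilizer_iff.1 hh)] at e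
      have hml : m * l * m⁻¹ ∈ L := (Subgroup.mem_normalizer_iff.1 (hLM hm) l).1 hl
      have := hinj _ (hL hml) _ ((inferInstance : N.Normal).conj_mem l (hL hl) h) e
      exact this ▸ hml
    have hLn : L.Normal := ⟨fun l hl g => by
      obtain ⟨⟨n, hn⟩, hng⟩ := MulAction.exists_smul_eq N α (g • α)
      have hh : n⁻¹ * g ∈ MulAction.stabilizer G α :=
        CfsgLib.ExtPrim.inv_mul_mem_stabilizer (show g • α = n • α from hng.symm)
      have h1 := hnH _ hh l hl
      have h2 : n * ((n⁻¹ * g) * l * (n⁻¹ * g)⁻¹) =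
          ((n⁻¹ * g) * l * (n⁻¹ * g)⁻¹) * n :=
        congrArg Subtype.val (hNc.is_comm.comm ⟨n, hn⟩ ⟨_, hL h1⟩)
      have h3 : g * l * g⁻¹ = (n⁻¹ * g) * l * (n⁻¹ * g)⁻¹ := by
        have := congrArg (fun z => z * n⁻¹) h2
        simpa [mul_assoc] using this
      exact h3 ▸ h1⟩
    have hLt : MulAction.IsPretransitive L Ω := by
      refine MulAction.IsPreprimitive.isQuasiPreprimitive.isPretransitive_of_normal fun h => hL0 ?_
      refine (Subgroup.eq_bot_iff_forall _).2 fun l hl => eq_of_smul_eq_smul (α := Ω) fun x => ?_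
      have hx : x ∈ MulAction.fixedPoints L Ω := by rw [h]; trivial
      rw [one_smul]
      exact hx ⟨l, hl⟩
    refine le_antisymm hL fun n hn => ?_
    obtain ⟨⟨l, hl⟩, hln⟩ := MulAction.exists_smul_eq L α (n • α)
    exact hinj _ (hL hl) _ hn hln ▸ hl

end Cfsg.Agent.S3495
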