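import Cfsg.Statements.S3496
import Cfsg.Agent.ExtPrim.Regular
import Cfsg.Agent.ExtPrim.SemiLinear
import Cfsg.Agent.Frobenius.Fpf

set_option autoImplicit false
open Cfsg

namespace Cfsg.Agent.S3496

theorem aux {V : Type*} [CommGroup V] [Finite V] [Nontrivial V] {p q d : ℕ} [Fact p.Prime]
    [Fact q.Prime] [Module (ZMod p) (Additive V)] (hcard : Nat.card V = p ^ d) (τ : MulAut V)
    (hτ : τ ^ q = 1) (hfpf : ∀ v, τ v = v → v = 1)
    (hirr : ∀ W : Subgroup V, (∀ w ∈ W, τ w ∈ W) → W = ⊥ ∨ W = ⊤) :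
    (∀ i, 0 < i → i < d → ¬ q ∣ p ^ i - 1) ∧
    ∀ (k : ℕ) (σ : MulAut V), (∀ v, σ (τ v) = (τ ^ k) (σ v)) →
      ∃ i : ℕ, (k : ZMod q) = (p : ZMod q) ^ i := by
  let L : MulAut V → Module.End (ZMod p) (Additive V) := fun f =>
    (MonoidHom.toAdditive f.toMonoidHom).toZModLinearMap p
  have hLa : ∀ (f : MulAut V) (a : Additive V), L f a = Additive.ofMul (f (Additive.toMul a)) :=
    fun f a => rfl
  have hpow : ∀ n : ℕ, L τ ^ n = L (τ ^ n) := by
    intro n
    induction n with
    | zero => exact LinearMap.ext fun a => rfl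
    | succ n ih =>
      refine LinearMap.ext fun a => ?_
      rw [pow_succ, pow_succ, Module.End.mul_apply, ih, hLa, hLa, hLa, MulAut.mul_apply]
      rfl
  have : Nontrivial (Additive V) := inferInstance
  obtain ⟨h1, h2⟩ := CfsgLib.ExtPrim.SemiLinear.main (p := p) (q := q) (d := d)
    (M := Additive V) ((Nat.card_congr Additive.toMul).trans hcard) (L τ)
    (by rw [hpow, hτ]; exact LinearMap.ext fun a => rfl)
    (fun a ha => Additive.toMul.injective (hfpf _ (congrArg Additive.toMul ha)))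
    (fun W hW => by
      let U : Subgroup V :=
        { carrier := {v | Additive.ofMul v ∈ W}
          one_mem' := W.zero_mem
          mul_mem' := fun ha hb => W.add_mem ha hb
          inv_mem' := fun ha => W.neg_mem ha }
      rcases hirr U (fun w hw => hW _ hw) with h | h
      · left
        refine (Submodule.eq_bot_iff _).2 fun a ha => ?_
        have h3 : Additive.toMul a ∈ U := ha
        rw [h, Subgroup.mem_bot] at h3
        exact Additive.toMul.injective h3
      · right
        refine eq_top_iff.2 fun a _ => ?_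
        have h3 : Additive.toMul a ∈ U := h ▸ Subgroup.mem_top _
        exact h3)
  refine ⟨h1, fun k σ hk => h2 k (L σ) (fun a => ?_) fun a => ?_⟩
  · obtain ⟨b, hb⟩ := σ.surjective (Additive.toMul a)
    exact ⟨Additive.ofMul b, by rw [hLa]; exact congrArg Additive.ofMul hb⟩
  · rw [hpow, hLa, hLa, hLa, hLa]
    exact congrArg Additive.ofMul (hk (Additive.toMul a))


/-- The soluble extremely primitive groups. Let a finite solvable group G act faithfully and primitively on a finite set Ω with p ^ d points (p prime), with non-trivial point stabilizers each acting primitively on every one of its orbits. Then there is a prime q such that every orbit of a point stabilizer G_α other than {α} has exactly q points, q divides p ^ d − 1 but no p ^ i − 1 with 0 < i < d, and G_α has a normal subgroup T of order q with G_α generated by T and one further element and the order of G_α dividing q·d (so G_α is cyclic of order q, or an extension of T by a cyclic group of order dividing d).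 -/
theorem result {G : Type*} [Group G] [Finite G] {Ω : Type*} [Fintype Ω] [MulAction G Ω] [FaithfulSMul G Ω] [Group.IsSolvable G] (p d : ℕ) (hp : p.Prime) (hcard : Fintype.card Ω = p ^ d)
    (hprim : MulAction.IsPreprimitive G Ω) (hH : ∀ α : Ω, MulAction.stabilizer G α ≠ ⊥) (hep : ∀ (α : Ω) (ω : Ω), MulAction.IsPreprimitive (MulAction.stabilizer G α) (MulAction.orbit (MulAction.stabilizer G α) ω)) (α : Ω) :
    ∃ q : ℕ, q.Prime ∧ (∀ ω : Ω, ω ≠ α → Nat.card (MulAction.orbit (MulAction.stabilizer G α) ω) = q) ∧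
      q ∣ p ^ d - 1 ∧ (∀ i : ℕ, 0 < i → i < d → ¬ q ∣ p ^ i - 1) ∧
      ∃ T : Subgroup G, T ≤ MulAction.stabilizer G α ∧ MulAction.stabilizer G α ≤ Subgroup.normalizer (T : Set G) ∧ Nat.card T = q ∧
        (∃ h : G, MulAction.stabilizer G α = T ⊔ Subgroup.zpowers h) ∧ Nat.card (MulAction.stabilizer G α) ∣ q * d := by
  classical
  have := hprim
  obtain ⟨g₀, hg₀, hg₀1⟩ := (Subgroup.ne_bot_iff_exists_ne_one.1 (hH α) |>.elim
    fun g hg => ⟨g.1, g.2, fun e => hg (Subtype.ext e)⟩ : ∃ g ∈ MulAction.stabilizer G α, g ≠ 1)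
  have : Nontrivial G := ⟨⟨g₀, 1, hg₀1⟩⟩
  obtain ⟨x, hx⟩ : ∃ x : Ω, x ≠ α := by
    by_contra h
    push Not at h
    refine hg₀1 (eq_of_smul_eq_smul (α := Ω) fun y => ?_)
    rw [h (g₀ • y), one_smul, h y]
  have : Nontrivial Ω := ⟨⟨x, α, hx⟩⟩
  have : Nontrivial (MulAction.stabilizer G α) :=
    (Subgroup.nontrivial_iff_ne_bot _).2 (hH α)
  -- the regular normal subgroup
  obtain ⟨V, hVn, hVc, hVne⟩ := CfsgLib.ExtPrim.exists_normal_comm G
  obtain ⟨p₀, e, hp₀, hVexp, hVcard⟩ := CfsgLib.ExtPrim.regular_elementary (O := Ω) V hVc hVne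
  have hcV : Nat.card V = Fintype.card Ω :=
    (CfsgLib.ExtPrim.regular_card V hVc hVne α).trans Nat.card_eq_fintype_card
  have hVnt : Nontrivial V := (Subgroup.nontrivial_iff_ne_bot V).2 hVne
  have he0 : e ≠ 0 := fun h => by
    rw [h, pow_zero] at hVcard
    exact (Finite.one_lt_card (α := V)).ne' hVcard
  rw [hcV, hcard] at hVcard
  obtain rfl : p = p₀ := Nat.prime_eq_prime_of_dvd_pow hp hp₀
    (hVcard ▸ dvd_pow_self p (fun h => by
      rw [h, pow_zero] at hVcard
      exact (Nat.one_lt_pow he0 hp₀.one_lt).ne hVcard))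
  rw [hcard] at hcV
  have : Fact p.Prime := ⟨hp⟩
  have hVt := CfsgLib.ExtPrim.isPretransitive_normal (O := Ω) V hVne
  -- the minimal normal subgroup of the stabilizer
  obtain ⟨A, hAn, hAc, hAne⟩ := CfsgLib.ExtPrim.exists_normal_comm (MulAction.stabilizer G α)
  obtain ⟨q, f, hq, hAexp, hAcard⟩ := CfsgLib.ExtPrim.local_elementary hH hep hx A hAc hAne
  have : Fact q.Prime := ⟨hq⟩
  let ρ : MulAction.stabilizer G α →* MulAut V :=
    (MulAut.conjNormal : G →* MulAut V).comp (MulAction.stabilizer G α).subtype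
  have hρ : ∀ (h : MulAction.stabilizer G α) (v : V),
      ((ρ h v : V) : G) = (h : G) * v * (h : G)⁻¹ := fun h v => rfl
  have hmove : ∀ (h : MulAction.stabilizer G α) (v : V),
      (h : G) • (v : G) • α = ((ρ h v : V) : G) • α := fun h v => by
    rw [hρ, CfsgLib.ExtPrim.smul_smul_conj (MulAction.mem_stabilizer_iff.1 h.2)]
  have hinj : ∀ v w : V, (v : G) • α = (w : G) • α → v = w := fun v w h =>
    Subtype.ext (CfsgLib.ExtPrim.abelian_inj V hVc v.2 w.2 h)
  have hfix : ∀ v : V, (v : G) • α = α → v = 1 := fun v h =>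
    hinj v 1 (by rw [h, OneMemClass.coe_one, one_smul])
  have hAfpf : ∀ a ∈ A, a ≠ 1 → ∀ v : V, ρ a v = v → v = 1 := by
    intro a ha ha1 v hv
    by_contra hv1
    refine ha1 (CfsgLib.ExtPrim.local_inj hH hep (fun e => hv1 (hfix v e)) A hAc hAne ha ?_)
    rw [hmove, hv]
  have hcyc : IsCyclic A :=
    CfsgLib.Frobenius.IsFpf.isCyclic_of_comm (φ := ρ.comp A.subtype)
      (fun a ha v hv => hAfpf a a.2 (fun e => ha (Subtype.ext e)) v hv)
      (fun a b => hAc.is_comm.comm a b)
  have hAq : Nat.card A = q := by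
    have h1 : Monoid.exponent A ∣ q :=
      Monoid.exponent_dvd_of_forall_pow_eq_one fun a => Subtype.ext (by simpa using hAexp _ a.2)
    rw [IsCyclic.exponent_eq_card] at h1
    have : Nontrivial A := (Subgroup.nontrivial_iff_ne_bot A).2 hAne
    exact (hq.eq_one_or_self_of_dvd _ h1).resolve_left Finite.one_lt_card.ne'
  obtain ⟨t, ht⟩ := IsCyclic.exists_generator (α := A)
  have ht1 : t ≠ 1 := fun e => by
    apply hAne
    refine (Subgroup.eq_bot_iff_forall _).2 fun a ha => ?_
    obtain ⟨n, hn⟩ := Subgroup.mem_zpowers_iff.1 (ht ⟨a, ha⟩)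
    rw [e, one_zpow] at hn
    exact (congrArg Subtype.val hn).symm
  have hto : orderOf t = q := by
    rw [← hAq]; exact orderOf_eq_card_of_forall_mem_zpowers ht
  -- subgroups of V invariant under t
  set τ : MulAut V := ρ t with hτdef
  have hirr : ∀ W : Subgroup V, (∀ w ∈ W, τ w ∈ W) → W = ⊥ ∨ W = ⊤ := by
    intro W hW
    have hτn : ∀ n : ℕ, ∀ w ∈ W, (τ ^ n) w ∈ W := by
      intro n
      induction n with
      | zero =>
        intro w hw
        rwa [pow_zero, MulAut.one_apply]
      | succ n ih =>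
        intro w hw
        rw [pow_succ, MulAut.mul_apply]
        exact ih _ (hW w hw)
    have hHW : ∀ (h : MulAction.stabilizer G α), ∀ w ∈ W, ρ h w ∈ W := by
      intro h w hw
      by_cases hw1 : w = 1
      · rw [hw1, map_one]; exact W.one_mem
      obtain ⟨a, ha, hax⟩ := CfsgLib.ExtPrim.exists_smul_eq_of_normal hH hep
        (show (w : G) • α ≠ α from fun e => hw1 (hfix w e))
        (A.map (MulAction.stabilizer G α).subtype) (Subgroup.map_subtype_le _)
        (fun g hg => by
          rw [Subgroup.mem_normalizer_iff]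
          intro a
          constructor
          · rintro ⟨a, ha, rfl⟩
            exact ⟨⟨g, hg⟩ * a * ⟨g, hg⟩⁻¹, hAn.conj_mem a ha _, rfl⟩
          · rintro ⟨b, hb, hb'⟩
            refine ⟨⟨g, hg⟩⁻¹ * b * ⟨g, hg⟩, by simpa using hAn.conj_mem b hb ⟨g, hg⟩⁻¹, ?_⟩
            show g⁻¹ * ((b : MulAction.stabilizer G α) : G) * g = a
            rw [show ((b : MulAction.stabilizer G α) : G) = g * a * g⁻¹ from hb']
            simp [mul_assoc])
        (fun e => hAne ((Subgroup.map_eq_bot_iff_of_injective _ (Subgroup.subtype_injective _)).1 e))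
        h.2
      obtain ⟨a, ha', rfl⟩ := ha
      have hpw : (⟨a, ha'⟩ : A) ∈ Submonoid.powers t := mem_powers_iff_mem_zpowers.2 (ht _)
      obtain ⟨n, hn⟩ := hpw
      rw [Subgroup.subtype_apply, hmove, hmove] at hax
      rw [← hinj _ _ hax, show a = (t : MulAction.stabilizer G α) ^ n from
        (congrArg Subtype.val hn).symm, map_pow]
      exact hτn n w hw
    let U : Subgroup G := W.map V.subtype
    have hU : ∀ g : G, ∀ u ∈ U, g * u * g⁻¹ ∈ U := by
      rintro g _ ⟨w, hw, rfl⟩
      obtain ⟨⟨v, hv⟩, hvg⟩ := MulAction.exists_smul_eq V α (g • α)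
      let h : MulAction.stabilizer G α :=
        ⟨v⁻¹ * g, CfsgLib.ExtPrim.inv_mul_mem_stabilizer (show g • α = v • α from hvg.symm)⟩
      refine ⟨ρ h w, hHW h w hw, ?_⟩
      show ((ρ h w : V) : G) = g * (w : G) * g⁻¹
      have e : v * ((ρ h w : V) : G) = ((ρ h w : V) : G) * v :=
        congrArg Subtype.val (hVc.is_comm.comm ⟨v, hv⟩ (ρ h w))
      calc ((ρ h w : V) : G) = v * ((ρ h w : V) : G) * v⁻¹ := by rw [e, mul_inv_cancel_right]
        _ = g * (w : G) * g⁻¹ := by rw [hρ]; simp [h, mul_assoc]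
    have hUn : U.Normal := ⟨fun u hu g => hU g u hu⟩
    by_cases hUb : U = ⊥
    · left
      exact (Subgroup.map_eq_bot_iff_of_injective _ (Subgroup.subtype_injective _)).1 hUb
    · right
      have hUt := CfsgLib.ExtPrim.isPretransitive_normal (O := Ω) U hUb
      refine eq_top_iff.2 fun v _ => ?_
      obtain ⟨⟨u, hu⟩, huv⟩ := MulAction.exists_smul_eq U α ((v : G) • α)
      obtain ⟨w, hw, rfl⟩ := hu
      rw [← hinj w v huv]
      exact hw
  let : CommGroup V := { (inferInstance : Group V) with mul_comm := hVc.is_comm.comm }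
  let : Module (ZMod p) (Additive V) := AddCommGroup.zmodModule fun a => by
    apply Additive.toMul.injective
    exact Subtype.ext (by simpa using hVexp _ (Additive.toMul a).2)
  have hτq : τ ^ q = 1 := by
    rw [hτdef, ← map_pow, ← SubgroupClass.coe_pow, ← hto, pow_orderOf_eq_one, OneMemClass.coe_one,
      map_one]
  obtain ⟨hprimd, hgal⟩ := aux (p := p) (q := q) (d := d) hcV τ hτq
    (hAfpf _ t.2 (fun e => ht1 (Subtype.ext e))) hirr
  have hdvd : q ∣ p ^ d - 1 := by
    rw [← hAq, ← hcard]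
    exact CfsgLib.ExtPrim.card_dvd_sub_one hH hep α A hAc hAne
  refine ⟨q, hq, fun ω hω => ?_, hdvd, hprimd, A.map (MulAction.stabilizer G α).subtype,
    Subgroup.map_subtype_le _, ?_, ?_, ?_⟩
  · rw [CfsgLib.ExtPrim.local_card hH hep hω A hAc hAne, hAq]
  · intro g hg
    rw [Subgroup.mem_normalizer_iff]
    intro a
    constructor
    · rintro ⟨a, ha, rfl⟩
      exact ⟨⟨g, hg⟩ * a * ⟨g, hg⟩⁻¹, hAn.conj_mem a ha _, rfl⟩
    · rintro ⟨b, hb, hb'⟩
      refine ⟨⟨g, hg⟩⁻¹ * b * ⟨g, hg⟩, by simpa using hAn.conj_mem b hb ⟨g, hg⟩⁻¹, ?_⟩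
      show g⁻¹ * ((b : MulAction.stabilizer G α) : G) * g = a
      rw [show ((b : MulAction.stabilizer G α) : G) = g * a * g⁻¹ from hb']
      simp [mul_assoc]
  · rw [Subgroup.card_map_of_injective (Subgroup.subtype_injective _), hAq]
  -- the action on A
  have hCA := CfsgLib.ExtPrim.local_centralizer hH hep hx A hAc hAne
  let ψ : MulAction.stabilizer G α →* MulAut A := MulAut.conjNormal
  have hker : ψ.ker = A := by
    ext h
    rw [MonoidHom.mem_ker]
    conv_rhs => rw [← hCA]
    rw [Subgroup.mem_centralizer_iff]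
    constructor
    · intro hh a ha
      have h3 : h * a * h⁻¹ = a := congrArg Subtype.val (DFunLike.congr_fun hh (⟨a, ha⟩ : A))
      exact (mul_inv_eq_iff_eq_mul.1 h3).symm
    · intro hc
      refine MulEquiv.ext fun a => Subtype.ext ?_
      show h * (a : MulAction.stabilizer G α) * h⁻¹ = a
      rw [← hc _ a.2, mul_inv_cancel_right]
  have hqne : p ^ d - 1 + 1 = p ^ d := Nat.sub_add_cancel (Nat.one_le_pow _ _ hp.pos)
  have hpd : ((p : ZMod q)) ^ d = 1 := by
    rw [← Nat.cast_pow, ← hqne, Nat.cast_add, (ZMod.natCast_eq_zero_iff _ _).2 hdvd, Nat.cast_one,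
      zero_add]
  have hσ : ∀ h : MulAction.stabilizer G α, ψ h ^ d = 1 := by
    intro h
    have hpw : ψ h t ∈ Submonoid.powers t := mem_powers_iff_mem_zpowers.2 (ht _)
    obtain ⟨k, hk⟩ := hpw
    have hk' : h * (t : MulAction.stabilizer G α) * h⁻¹ = (t : MulAction.stabilizer G α) ^ k :=
      (congrArg Subtype.val hk).symm
    obtain ⟨i, hi⟩ := hgal k (ρ h) fun v => by
      rw [hτdef, ← MulAut.mul_apply, ← map_mul, ← map_pow, ← MulAut.mul_apply, ← map_mul, ← hk',
        inv_mul_cancel_right]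
    have hpown : ∀ n : ℕ, (ψ h ^ n) t = t ^ k ^ n := by
      intro n
      induction n with
      | zero => rw [pow_zero, MulAut.one_apply, pow_zero, pow_one]
      | succ n ih => rw [pow_succ, MulAut.mul_apply, ← hk, map_pow, ih, ← pow_mul, pow_succ]
    have hkd : t ^ k ^ d = t := by
      conv_rhs => rw [← pow_one t]
      rw [pow_eq_pow_iff_modEq, hto, ← ZMod.natCast_eq_natCast_iff, Nat.cast_pow, hi, ← pow_mul,
        mul_comm, pow_mul, hpd, one_pow, Nat.cast_one]
    refine MulEquiv.ext fun a => ?_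
    obtain ⟨n, rfl⟩ := Subgroup.mem_zpowers_iff.1 (ht a)
    rw [map_zpow, hpown, hkd, MulAut.one_apply]
  have hRc : IsCyclic ψ.range := by
    have : IsCyclic (MulAut A) := by
      refine (MulEquiv.isCyclic (IsCyclic.mulAutMulEquiv (G := A))).2 ?_
      rw [hAq]; infer_instance
    infer_instance
  obtain ⟨g, hg⟩ := IsCyclic.exists_generator (α := ψ.range)
  obtain ⟨_, h, rfl⟩ := g
  have hord : Nat.card ψ.range ∣ d := by
    rw [← orderOf_eq_card_of_forall_mem_zpowers hg]
    exact orderOf_dvd_of_pow_eq_one (Subtype.ext (hσ h))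
  refine ⟨⟨(h : G), le_antisymm (fun y hy => ?_) (sup_le (Subgroup.map_subtype_le _)
    (Subgroup.zpowers_le.2 h.2))⟩, ?_⟩
  · obtain ⟨n, hn⟩ := Subgroup.mem_zpowers_iff.1 (hg ⟨ψ ⟨y, hy⟩, ⟨⟨y, hy⟩, rfl⟩⟩)
    have h1 : ψ (h ^ n) = ψ ⟨y, hy⟩ := by
      rw [map_zpow]; exact congrArg Subtype.val hn
    have h2 : ⟨y, hy⟩ * (h ^ n)⁻¹ ∈ A := by
      rw [← hker, MonoidHom.mem_ker, map_mul, map_inv, h1, mul_inv_cancel]
    have : y = ((⟨y, hy⟩ * (h ^ n)⁻¹ : MulAction.stabilizer G α) : G) * (h : G) ^ n := by simp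
    rw [this]
    exact mul_mem (Subgroup.mem_sup_left ⟨_, h2, rfl⟩)
      (Subgroup.mem_sup_right (Subgroup.mem_zpowers_iff.2 ⟨n, rfl⟩))
  · rw [← Subgroup.card_mul_index ψ.ker, Subgroup.index_ker, hker, hAq]
    exact Nat.mul_dvd_mul_left q hord

end Cfsg.Agent.S3496
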