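import Cfsg.Statements.S3497
import Cfsg.Agent.ExtPrim.Regular
import Cfsg.Agent.Comp.Fitting

set_option autoImplicit false
open Cfsg

namespace Cfsg.Agent.S3497

theorem exists_GL_hom_aux {H V : Type*} [Group H] [CommGroup V] [Finite V] {p e : ℕ}
    [hp : Fact p.Prime] [Module (ZMod p) (Additive V)] (hcard : Nat.card V = p ^ e)
    (c : H →* MulAut V) :
    ∃ φ : H →* GL (Fin e) (ZMod p), φ.ker = c.ker := by
  have hfin : Module.Finite (ZMod p) (Additive V) := Module.Finite.of_finite
  have hrank : Module.finrank (ZMod p) (Additive V) = e := by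
    apply Nat.pow_right_injective hp.out.two_le
    show p ^ _ = p ^ _
    have h := Module.natCard_eq_pow_finrank (K := ZMod p) (V := Additive V)
    rw [Nat.card_zmod] at h
    rw [← hcard, ← h]
    exact Nat.card_congr Additive.toMul
  let b := Module.finBasisOfFinrankEq (ZMod p) (Additive V) hrank
  let f : H →* Module.End (ZMod p) (Additive V) :=
    { toFun := fun h => (MonoidHom.toAdditive (c h).toMonoidHom).toZModLinearMap p
      map_one' := by
        refine LinearMap.ext fun a => ?_
        apply Additive.toMul.injective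
        show c 1 (Additive.toMul a) = Additive.toMul a
        rw [map_one, MulAut.one_apply]
      map_mul' := fun g h => by
        refine LinearMap.ext fun a => ?_
        rw [map_mul]
        exact rfl }
  refine ⟨(Units.map ((LinearMap.toMatrixAlgEquiv b).toAlgHom.toMonoidHom)).comp f.toHomUnits, ?_⟩
  ext h
  rw [MonoidHom.mem_ker, MonoidHom.comp_apply, MonoidHom.mem_ker]
  constructor
  · intro he
    have h1 : f h = 1 := (LinearMap.toMatrixAlgEquiv b).injective
      ((congrArg Units.val he).trans (map_one _).symm)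
    exact MulEquiv.ext fun a => congrArg Additive.toMul
      (LinearMap.congr_fun h1 (Additive.ofMul a))
  · intro hc
    apply Units.ext
    have h1 : f h = 1 := LinearMap.ext fun a => congrArg Additive.ofMul
      (DFunLike.congr_fun hc (Additive.toMul a))
    show (LinearMap.toMatrixAlgEquiv b) (f h) = 1
    rw [h1, map_one]

/-- The action on an elementary abelian normal subgroup that is its own centralizer. -/
theorem exists_GL_hom {H : Type*} [Group H] [Finite H] (A : Subgroup H) [A.Normal]
    (hA : IsMulCommutative A) {p e : ℕ} (hp : p.Prime) (hexp : ∀ a ∈ A, a ^ p = 1)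
    (hcard : Nat.card A = p ^ e) (hC : Subgroup.centralizer (A : Set H) = A) :
    ∃ φ : H →* GL (Fin e) (ZMod p), φ.ker = A := by
  let : CommGroup A := { (inferInstance : Group A) with mul_comm := hA.is_comm.comm }
  have : Fact p.Prime := ⟨hp⟩
  let : Module (ZMod p) (Additive A) := AddCommGroup.zmodModule fun a => by
    apply Additive.toMul.injective
    exact Subtype.ext (by simpa using hexp _ (Additive.toMul a).2)
  obtain ⟨φ, hφ⟩ := exists_GL_hom_aux (p := p) hcard (MulAut.conjNormal : H →* MulAut A)
  refine ⟨φ, hφ.trans ?_⟩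
  ext h
  rw [MonoidHom.mem_ker]
  conv_rhs => rw [← hC]
  rw [Subgroup.mem_centralizer_iff]
  constructor
  · intro he a ha
    have h3 : h * a * h⁻¹ = a := congrArg Subtype.val (DFunLike.congr_fun he (⟨a, ha⟩ : A))
    exact (mul_inv_eq_iff_eq_mul.1 h3).symm
  · intro hc
    refine MulEquiv.ext fun a => Subtype.ext ?_
    show h * (a : H) * h⁻¹ = a
    rw [← hc _ a.2, mul_inv_cancel_right]


/-- Restrictions on the point stabilizer of an extremely primitive group. Let a finite group G act faithfully and primitively on a finite set Ω with point stabilizers H = G_α whose order is neither 1 nor a prime, each acting primitively on every one of its orbits. Then H has trivial center, the Fitting subgroup F(H) is an elementary abelian p-group for some prime p, and if F(H) ≠ 1 has order p ^ e then p ^ e divides the number of points minus one and H / F(H) embeds in GL_e(p) (there is a homomorphism from H to GL_e(p) with kernel exactly F(H)). -/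
theorem result {G : Type*} [Group G] [Finite G] {Ω : Type*} [Fintype Ω] [MulAction G Ω] [FaithfulSMul G Ω] (hprim : MulAction.IsPreprimitive G Ω) (hep : ∀ (α : Ω) (ω : Ω), MulAction.IsPreprimitive (MulAction.stabilizer G α) (MulAction.orbit (MulAction.stabilizer G α) ω)) (α : Ω)
    (hH1 : MulAction.stabilizer G α ≠ ⊥) (hHp : ¬ (Nat.card (MulAction.stabilizer G α)).Prime) :
    Subgroup.center (MulAction.stabilizer G α) = ⊥ ∧
    IsMulCommutative (Cfsg.fittingSubgroup (MulAction.stabilizer G α)) ∧
    ∃ p e : ℕ, p.Prime ∧ Nat.card (Cfsg.fittingSubgroup (MulAction.stabilizer G α)) = p ^ e ∧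
      (∀ x ∈ Cfsg.fittingSubgroup (MulAction.stabilizer G α), x ^ p = 1) ∧
      (Cfsg.fittingSubgroup (MulAction.stabilizer G α) ≠ ⊥ →
        p ^ e ∣ Fintype.card Ω - 1 ∧
        ∃ φ : MulAction.stabilizer G α →* GL (Fin e) (ZMod p), φ.ker = Cfsg.fittingSubgroup (MulAction.stabilizer G α)) := by
  classical
  have := hprim
  have hH : ∀ a : Ω, MulAction.stabilizer G a ≠ ⊥ := by
    intro a h
    obtain ⟨g, rfl⟩ := MulAction.exists_smul_eq G α a
    refine hH1 (eq_bot_iff.2 fun k hk => ?_)
    have : g * k * g⁻¹ ∈ MulAction.stabilizer G (g • α) := by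
      rw [MulAction.mem_stabilizer_iff, mul_smul, mul_smul, inv_smul_smul,
        MulAction.mem_stabilizer_iff.1 hk]
    rw [h, Subgroup.mem_bot, conj_eq_one_iff] at this
    exact this
  obtain ⟨x, hx⟩ : ∃ x : Ω, x ≠ α := by
    by_contra h
    push Not at h
    refine hH1 ((Subgroup.eq_bot_iff_forall _).2 fun k _ => eq_of_smul_eq_smul (α := Ω) fun y => ?_)
    rw [h (k • y), one_smul, h y]
  have : Nontrivial (MulAction.stabilizer G α) := (Subgroup.nontrivial_iff_ne_bot _).2 hH1
  -- the center
  have hZ : Subgroup.center (MulAction.stabilizer G α) = ⊥ := by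
    by_contra hne
    have hZc : IsMulCommutative (Subgroup.center (MulAction.stabilizer G α)) := inferInstance
    have hC := CfsgLib.ExtPrim.local_centralizer hH hep hx _ hZc hne
    rw [(Subgroup.centralizer_eq_top_iff_subset (s := (Subgroup.center (MulAction.stabilizer G α) : Set (MulAction.stabilizer G α)))).2 (fun _ h => h)] at hC
    have hcomm : ∀ a b : MulAction.stabilizer G α, a * b = b * a := fun a b =>
      Subgroup.mem_center_iff.1 (hC ▸ Subgroup.mem_top b) a
    obtain ⟨p, hp, hdvd⟩ := Nat.exists_prime_and_dvd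
      (Finite.one_lt_card (α := MulAction.stabilizer G α)).ne'
    have : Fact p.Prime := ⟨hp⟩
    obtain ⟨z, hz⟩ := exists_prime_orderOf_dvd_card' p hdvd
    have hzn : (Subgroup.zpowers z).Normal :=
      ⟨fun a ha g => by rw [hcomm g a, mul_inv_cancel_right]; exact ha⟩
    have hzne : Subgroup.zpowers z ≠ ⊥ := by
      rw [Ne, Subgroup.zpowers_eq_bot]
      intro h
      rw [h, orderOf_one] at hz
      exact hp.one_lt.ne hz
    have hC2 := CfsgLib.ExtPrim.local_centralizer hH hep hx (Subgroup.zpowers z) inferInstance hzne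
    have htop : Subgroup.zpowers z = ⊤ := by
      rw [← hC2, eq_top_iff]
      exact fun a _ => Subgroup.mem_centralizer_iff.2 fun b _ => hcomm b a
    apply hHp
    rw [← Subgroup.card_top (G := MulAction.stabilizer G α), ← htop, Nat.card_zpowers, hz]
    exact hp
  set F := Cfsg.fittingSubgroup (MulAction.stabilizer G α) with hF
  by_cases hbot : F = ⊥
  · rw [hbot]
    refine ⟨hZ, inferInstance, 2, 0, Nat.prime_two, by simp, ?_, fun h => absurd rfl h⟩
    intro y hy
    rw [Subgroup.mem_bot.1 hy, one_pow]
  have hFn : Group.IsNilpotent F := CfsgLib.Comp.fitting_isNilpotent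
  have : Nontrivial F := (Subgroup.nontrivial_iff_ne_bot F).2 hbot
  set A : Subgroup (MulAction.stabilizer G α) := (Subgroup.center F).map F.subtype with hAdef
  have hFN : F.Normal := CfsgLib.Comp.fitting_normal
  have hAn : A.Normal := by rw [hAdef]; infer_instance
  have hAc : IsMulCommutative A := by rw [hAdef]; infer_instance
  have hAne : A ≠ ⊥ := by
    rw [hAdef, Ne, (Subgroup.map_eq_bot_iff_of_injective _ F.subtype_injective)]
    have : Nontrivial (Subgroup.center F) :=
      (Subgroup.nontrivial_iff_ne_bot _).2 (Group.IsNilpotent.center_ne_bot F)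
    exact (Subgroup.nontrivial_iff_ne_bot _).1 this
  have hCA := CfsgLib.ExtPrim.local_centralizer hH hep hx A hAc hAne
  have hFA : F = A := by
    refine le_antisymm (fun f hf => ?_) (Subgroup.map_subtype_le _)
    rw [← hCA, Subgroup.mem_centralizer_iff]
    rintro _ ⟨c, hc, rfl⟩
    exact (congrArg Subtype.val (Subgroup.mem_center_iff.1 hc ⟨f, hf⟩)).symm
  rw [hFA]
  obtain ⟨p, e, hp, hexp, hcard⟩ := CfsgLib.ExtPrim.local_elementary hH hep hx A hAc hAne
  have hdvd := hcard ▸ CfsgLib.ExtPrim.card_dvd_sub_one hH hep α A hAc hAne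
  refine ⟨hZ, hAc, p, e, hp, hcard, hexp, fun _ => ⟨hdvd, ?_⟩⟩
  exact exists_GL_hom A hAc hp hexp hcard hCA

end Cfsg.Agent.S3497
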