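import Cfsg.Statements.S3498
-- none

set_option autoImplicit false
open Cfsg
open scoped Pointwise

namespace Cfsg.Agent.S3498

/-- A maximal subgroup of a finite almost simple group does not have prime order. Here G is almost simple in the sense that it has a non-abelian simple normal subgroup T with trivial centralizer. -/
theorem result {G : Type*} [Group G] [Finite G] (T : Subgroup G) [T.Normal] (hT : IsSimpleGroup T) (hTc : ¬ IsMulCommutative T)
    (hC : Subgroup.centralizer (T : Set G) = ⊥) (H : Subgroup G) (hmax : IsCoatom H) : ¬ (Nat.card H).Prime := by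
  intro hq
  obtain ⟨hne, hmax⟩ := hmax
  have hT1 : (T : Subgroup G) ≠ ⊥ := fun h => by
    have := hT.toNontrivial
    rw [Subgroup.nontrivial_iff_ne_bot] at this
    exact this h
  set q := Nat.card H with hqdef
  have : Fact q.Prime := ⟨hq⟩
  have hH1 : H ≠ ⊥ := fun h => by rw [hqdef, h, Subgroup.card_bot] at hq; exact Nat.not_prime_one hq
  have hcyc : IsCyclic H := isCyclic_of_prime_card rfl
  have hT_ne : ∀ x, (∀ t ∈ T, t * x = x * t) → x = 1 := fun x hx => by
    have : x ∈ Subgroup.centralizer (T : Set G) := Subgroup.mem_centralizer_iff.2 hx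
    rwa [hC, Subgroup.mem_bot] at this
  have hnorm : Subgroup.normalizer (H : Set G) = H := by
    by_contra hN
    have htop : Subgroup.normalizer (H : Set G) = ⊤ :=
      hmax _ (lt_of_le_of_ne Subgroup.le_normalizer (Ne.symm hN))
    have hHn : H.Normal := Subgroup.normalizer_eq_top_iff.1 htop
    by_cases hle : H ≤ T
    · have := hT.eq_bot_or_eq_top_of_normal (H.subgroupOf T) inferInstance
      rcases this with h | h
      · rw [Subgroup.subgroupOf_eq_bot] at h
        exact hH1 (h.eq_bot_of_le hle)
      · rw [Subgroup.subgroupOf_eq_top] at h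
        have hTH : T = H := le_antisymm h hle
        refine hTc ?_
        have : IsCyclic T := hTH ▸ hcyc
        infer_instance
    · have hdisj : Disjoint H T := by
        rw [Subgroup.disjoint_def]
        intro x hxH hxT
        by_contra hx
        refine hle fun y hy => ?_
        obtain ⟨k, hk⟩ := Subgroup.mem_zpowers_iff.1
          (mem_zpowers_of_prime_card (g := (⟨x, hxH⟩ : H)) (g' := ⟨y, hy⟩) rfl
            (fun e => hx (congrArg Subtype.val e)))
        rw [← show x ^ k = y from congrArg Subtype.val hk]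
        exact T.zpow_mem hxT k
      refine hH1 ((Subgroup.eq_bot_iff_forall _).2 fun x hx => hT_ne x fun t ht => ?_)
      exact (Subgroup.commute_of_normal_of_disjoint H T hHn inferInstance hdisj x t hx ht).symm
  have hHp : IsPGroup q H := IsPGroup.of_card (n := 1) (by rw [pow_one])
  obtain ⟨P, hP⟩ := hHp.exists_le_sylow
  have hPH : (P : Subgroup G) = H := by
    by_contra hne'
    have hlt : H < P := lt_of_le_of_ne hP (Ne.symm hne')
    have hnc : NormalizerCondition P := by
      have := P.2.isNilpotent
      exact Group.normalizerCondition_of_isNilpotent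
    have h2 : H.subgroupOf P < Subgroup.normalizer ((H.subgroupOf P) : Set P) := by
      refine hnc _ (lt_of_le_of_ne le_top ?_)
      rw [ne_eq, Subgroup.subgroupOf_eq_top]
      exact hlt.not_ge
    obtain ⟨-, x, hx, hx'⟩ := SetLike.lt_iff_le_and_exists.1 h2
    refine hx' ?_
    show (x : G) ∈ H
    rw [← hnorm]
    refine Subgroup.mem_normalizer_iff.2 fun y => ?_
    by_cases hy : y ∈ (P : Subgroup G)
    · exact Subgroup.mem_normalizer_iff.1 hx ⟨y, hy⟩
    · refine ⟨fun h => absurd (hP h) hy, fun h => absurd ?_ hy⟩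
      have := (P : Subgroup G).mul_mem ((P : Subgroup G).mul_mem
        ((P : Subgroup G).inv_mem x.2) (hP h)) x.2
      simpa [mul_assoc] using this
  have hcen : Subgroup.normalizer (P : Set G) ≤ Subgroup.centralizer (P : Set G) := by
    show Subgroup.normalizer ((P : Subgroup G) : Set G) ≤
      Subgroup.centralizer ((P : Subgroup G) : Set G)
    rw [hPH, hnorm]
    exact fun x hx => Subgroup.mem_centralizer_iff.2 fun y hy =>
      congrArg Subtype.val (hcyc.commutative.is_comm.comm ⟨y, hy⟩ ⟨x, hx⟩)
  set K := (MonoidHom.transferSylow P hcen).ker with hK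
  have hcompl : K.IsComplement' H := by
    rw [← hPH]; exact MonoidHom.ker_transferSylow_isComplement' P hcen
  have hTK : T ≤ K := by
    rcases hT.eq_bot_or_eq_top_of_normal (K.subgroupOf T) inferInstance with h | h
    · exfalso
      have hinj : Function.Injective ((MonoidHom.transferSylow P hcen).comp T.subtype) := by
        rw [← MonoidHom.ker_eq_bot_iff, ← MonoidHom.comap_ker]
        exact h
      refine hTc ⟨⟨fun a b => hinj ?_⟩⟩
      have : IsCyclic P := by
        show IsCyclic (P : Subgroup G)
        rw [hPH]; exact hcyc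
      rw [map_mul, map_mul]
      exact this.commutative.is_comm.comm _ _
    · exact Subgroup.subgroupOf_eq_top.1 h
  have hcopT : ¬ q ∣ Nat.card T := by
    intro hd
    refine P.not_dvd_index ?_
    rw [show (P : Subgroup G).index = H.index by rw [hPH], hcompl.index_eq_card]
    exact hd.trans (Subgroup.card_dvd_of_le hTK)
  have hTnt : Nat.card T ≠ 1 := fun h => hT1 (Subgroup.card_eq_one.1 h)
  obtain ⟨r, hr, hrT⟩ := Nat.exists_prime_and_dvd hTnt
  have : Fact r.Prime := ⟨hr⟩
  obtain ⟨R⟩ : Nonempty (Sylow r T) := inferInstance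
  set R' := (R : Subgroup T).map T.subtype with hR'
  set N := Subgroup.normalizer (R' : Set G) with hN
  have hfrat : N ⊔ T = ⊤ := Sylow.normalizer_sup_eq_top R
  have hqN : q ∣ Nat.card N := by
    have h1 : T.relIndex N = T.index := by
      rw [← Subgroup.relIndex_top_right, ← hfrat, Subgroup.relIndex_sup_right]
    have hqi : q ∣ T.index := by
      have hqG : q ∣ Nat.card G := Subgroup.card_subgroup_dvd_card H
      rw [← T.card_mul_index] at hqG
      exact (hq.dvd_mul.1 hqG).resolve_left hcopT
    rw [← h1] at hqi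
    exact hqi.trans (Subgroup.index_dvd_card _)
  obtain ⟨Q⟩ : Nonempty (Sylow q N) := inferInstance
  have hQne : (Q : Subgroup N).map N.subtype ≠ ⊥ := fun h =>
    Q.ne_bot_of_dvd_card hqN ((Subgroup.map_eq_bot_iff_of_injective _ N.subtype_injective).1 h)
  obtain ⟨P', hP'⟩ := (Q.2.map N.subtype).exists_le_sylow
  obtain ⟨g, hg⟩ := MulAction.exists_smul_eq G P' P
  -- `H` normalises the conjugate of `R'`
  set R'' := R'.map (MulAut.conj g).toMonoidHom with hR''
  have hHN : H ≤ Subgroup.normalizer (R'' : Set G) := by
    obtain ⟨u, hu, hu1⟩ : ∃ u ∈ (Q : Subgroup N).map N.subtype, u ≠ 1 := by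
      by_contra h
      push Not at h
      exact hQne ((Subgroup.eq_bot_iff_forall _).2 h)
    have hgu : g * u * g⁻¹ ∈ H := by
      rw [← hPH, ← hg]
      exact Subgroup.smul_mem_pointwise_smul u (MulAut.conj g) _ (hP' hu)
    have huN : u ∈ N := Subgroup.map_subtype_le _ hu
    have hmem : g * u * g⁻¹ ∈ Subgroup.normalizer (R'' : Set G) := by
      rw [hR'', ← Subgroup.map_normalizer_eq_of_bijective _ (MulAut.conj g).bijective]
      exact Subgroup.mem_map_of_mem _ huN
    intro y hy
    obtain ⟨k, hk⟩ := Subgroup.mem_zpowers_iff.1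
      (mem_zpowers_of_prime_card (g := (⟨g * u * g⁻¹, hgu⟩ : H)) (g' := ⟨y, hy⟩) rfl
        (fun e => hu1 (by
          have := congrArg Subtype.val e
          simpa using this)))
    rw [← show (g * u * g⁻¹) ^ k = y from congrArg Subtype.val hk]
    exact Subgroup.zpow_mem _ hmem k
  have hR''T : R'' ≤ T := by
    rintro _ ⟨a, ha, rfl⟩
    exact (inferInstance : T.Normal).conj_mem a (Subgroup.map_subtype_le _ ha) g
  have hR''ne : R'' ≠ ⊥ := by
    rw [hR'', ne_eq, Subgroup.map_eq_bot_iff_of_injective _ (MulAut.conj g).injective, hR',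
      Subgroup.map_eq_bot_iff_of_injective _ T.subtype_injective]
    exact R.ne_bot_of_dvd_card hrT
  have hlt : H < H ⊔ R'' := by
    refine lt_of_le_of_ne le_sup_left fun e => ?_
    have hle : R'' ≤ H := e ▸ le_sup_right
    have hd1 := Subgroup.card_dvd_of_le hle
    rw [← hqdef, Nat.dvd_prime hq] at hd1
    rcases hd1 with h | h
    · exact hR''ne (Subgroup.card_eq_one.1 h)
    · exact hcopT (h ▸ Subgroup.card_dvd_of_le hR''T)
  have htop := hmax _ hlt
  have hnormR : Subgroup.normalizer (R'' : Set G) = ⊤ :=
    top_le_iff.1 (htop ▸ sup_le hHN Subgroup.le_normalizer)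
  have hRn : R''.Normal := Subgroup.normalizer_eq_top_iff.1 hnormR
  rcases hT.eq_bot_or_eq_top_of_normal (R''.subgroupOf T) inferInstance with h | h
  · rw [Subgroup.subgroupOf_eq_bot] at h
    exact hR''ne (h.eq_bot_of_le hR''T)
  · rw [Subgroup.subgroupOf_eq_top] at h
    have hRT : T = R'' := le_antisymm h hR''T
    have hpg : IsPGroup r T := hRT ▸ ((R.2.map _).map _)
    have : Nontrivial T := hT.toNontrivial
    have hcn := hpg.center_nontrivial
    rcases hT.eq_bot_or_eq_top_of_normal (Subgroup.center T) inferInstance with h | h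
    · rw [Subgroup.nontrivial_iff_ne_bot] at hcn
      exact hcn h
    · refine hTc ⟨⟨fun a b => ?_⟩⟩
      have ha : a ∈ Subgroup.center T := h ▸ Subgroup.mem_top a
      exact (Subgroup.mem_center_iff.1 ha b).symm

end Cfsg.Agent.S3498
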