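import Cfsg.Statements.S3501
import Cfsg.Agent.ExtPrim.Derange

set_option autoImplicit false
open Cfsg

namespace Cfsg.Agent.S3501

/-- Let a finite group G act faithfully and primitively on a finite set Ω with at least two points, and suppose G is not almost simple (it has no non-abelian simple normal subgroup with trivial centralizer). Then the derangements of G form a single conjugacy class if and only if G is sharply 2-transitive (2-transitive, and no non-identity element fixes two points). -/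
theorem result {G : Type*} [Group G] [Finite G] {Ω : Type*} [Fintype Ω] [MulAction G Ω] [FaithfulSMul G Ω] (hΩ : 2 ≤ Fintype.card Ω) (hprim : MulAction.IsPreprimitive G Ω) (hnas : ¬ ∃ T : Subgroup G, T.Normal ∧ IsSimpleGroup T ∧ ¬ IsMulCommutative T ∧ Subgroup.centralizer (T : Set G) = ⊥) :
    Nat.card {c : ConjClasses G // ∃ g : G, ConjClasses.mk g = c ∧ ∀ ω : Ω, g • ω ≠ ω} = 1 ↔ (MulAction.IsMultiplyPretransitive G Ω 2 ∧ ∀ g : G, g ≠ 1 → ∀ a b : Ω, a ≠ b → g • a = a → g • b ≠ b) := by
  classical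
  have : Nontrivial Ω := Fintype.one_lt_card_iff_nontrivial.1 hΩ
  have hn : 2 ≤ Nat.card Ω := by rw [Nat.card_eq_fintype_card]; exact hΩ
  constructor
  · intro hone
    have hsub := (Nat.card_eq_one_iff_unique.1 hone).1
    by_cases hab : ∀ A : Subgroup G, A.Normal → IsMulCommutative A → A = ⊥
    · have := CfsgLib.ExtPrim.three_classes_of_nonabelian (Ω := Ω) hab hnas
      omega
    push Not at hab
    obtain ⟨A, hA, hAc, hA0⟩ := hab
    have hAt := CfsgLib.ExtPrim.isPretransitive_of_normal (Ω := Ω) A hA hA0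
    have hconj : ∀ a b : G, (∀ ω : Ω, a • ω ≠ ω) → (∀ ω : Ω, b • ω ≠ ω) → IsConj a b := by
      intro a b ha hb
      exact ConjClasses.mk_eq_mk_iff_isConj.1 (congrArg Subtype.val
        (Subsingleton.elim (α := {c : ConjClasses G //
          ∃ g : G, ConjClasses.mk g = c ∧ ∀ ω : Ω, g • ω ≠ ω}) ⟨_, a, rfl, ha⟩ ⟨_, b, rfl, hb⟩))
    obtain ⟨a₀, ha₀, ha₀1⟩ : ∃ a ∈ A, a ≠ 1 := by
      by_contra h
      push Not at h
      exact hA0 ((Subgroup.eq_bot_iff_forall _).2 h)
    have α : Ω := Classical.arbitrary Ω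
    have hder : Nat.card {g : G // ∀ ω : Ω, g • ω ≠ ω} + 1 ≤ Nat.card Ω := by
      rw [← CfsgLib.ExtPrim.abelian_card A hAc α]
      have hmem : ∀ g : G, (∀ ω : Ω, g • ω ≠ ω) → g ∈ A := by
        intro g hg
        obtain ⟨k, hk⟩ := isConj_iff.1
          (hconj a₀ g (CfsgLib.ExtPrim.abelian_derangement A hAc ha₀ ha₀1) hg)
        exact hk ▸ hA.conj_mem a₀ ha₀ k
      let f : Option {g : G // ∀ ω : Ω, g • ω ≠ ω} → A := fun o =>
        o.elim 1 fun g => ⟨g.1, hmem g.1 g.2⟩
      have hf : Function.Injective f := by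
        rintro (_ | a) (_ | b) h
        · rfl
        · exact absurd (congrArg Subtype.val h).symm (fun e => b.2 α (by
            show (b : G) • α = α
            rw [show (b : G) = 1 from e, one_smul]))
        · exact absurd (congrArg Subtype.val h) (fun e => a.2 α (by
            show (a : G) • α = α
            rw [show (a : G) = 1 from e, one_smul]))
        · exact congrArg some (Subtype.ext (congrArg Subtype.val h :))
      have := Nat.card_le_card_of_injective f hf
      rwa [Finite.card_option] at this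
    refine ⟨CfsgLib.ExtPrim.two_transitive_of_conj A hAc α fun a ha b hb ha1 hb1 =>
      hconj a b (CfsgLib.ExtPrim.abelian_derangement A hAc ha ha1)
        (CfsgLib.ExtPrim.abelian_derangement A hAc hb hb1), fun g hg a b hab ha hb => hab ?_⟩
    exact CfsgLib.ExtPrim.eq_of_two_fixed
      (CfsgLib.ExtPrim.fixed_le_one_of_derangements_le hder hg) ha hb
  · rintro ⟨h2, hfix⟩
    have hf1 := fun (g : G) (hg : g ≠ 1) => CfsgLib.ExtPrim.card_fixed_le_one hfix hg
    have hcard := CfsgLib.ExtPrim.card_derangements_of_fixed_le_one hf1 hn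
    obtain ⟨α, β, hαβ⟩ := exists_pair_ne Ω
    -- order of the group
    have hG : Nat.card Ω * (Nat.card Ω - 1) ≤ Nat.card G := by
      rw [MulAction.is_two_pretransitive_iff] at h2
      choose F hF using fun (p : {p : Ω × Ω // p.1 ≠ p.2}) => h2 hαβ p.2
      have hinj : Function.Injective F := fun p q e => Subtype.ext (Prod.ext
        ((hF p).1.symm.trans (e ▸ (hF q).1)) ((hF p).2.symm.trans (e ▸ (hF q).2)))
      refine le_trans (le_of_eq ?_) (Nat.card_le_card_of_injective F hinj)
      rw [Nat.card_eq_fintype_card, Nat.card_eq_fintype_card, Fintype.card_subtype]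
      have : (Finset.univ.filter fun p : Ω × Ω => p.1 ≠ p.2) = Finset.univ.offDiag := by
        ext p; simp
      rw [this, Finset.offDiag_card, Finset.card_univ, Nat.mul_sub_one]
    obtain ⟨g₀, hg₀⟩ : ∃ g : G, ∀ ω : Ω, g • ω ≠ ω := by
      by_contra h
      have : IsEmpty {g : G // ∀ ω : Ω, g • ω ≠ ω} := ⟨fun g => h ⟨g.1, g.2⟩⟩
      rw [Nat.card_of_isEmpty] at hcard
      omega
    have hC : Nat.card (Subgroup.centralizer ({g₀} : Set G)) ≤ Nat.card Ω := by
      refine Nat.card_le_card_of_injective (fun c => (c : G) • α) fun c d h => Subtype.ext ?_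
      by_contra hne
      have hk : (d : G)⁻¹ * c ≠ 1 := by rw [Ne, inv_mul_eq_one]; exact Ne.symm hne
      have hka : ((d : G)⁻¹ * c) • α = α := by
        rw [mul_smul, show (c : G) • α = (d : G) • α from h, inv_smul_smul]
      refine hfix _ hk α (g₀ • α) (hg₀ α).symm hka ?_
      have hcg : g₀ * ((d : G)⁻¹ * c) = ((d : G)⁻¹ * c) * g₀ :=
        Subgroup.mem_centralizer_iff.1
          (Subgroup.mul_mem _ (Subgroup.inv_mem _ d.2) c.2) g₀ rfl
      rw [← mul_smul, ← hcg, mul_smul, hka]
    let O : Set G := Set.range fun k : G => k * g₀ * k⁻¹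
    have hOsub : O ⊆ {g : G | ∀ ω : Ω, g • ω ≠ ω} := by
      rintro _ ⟨k, rfl⟩ ω hω
      apply hg₀ (k⁻¹ • ω)
      simp only [mul_smul] at hω
      exact eq_inv_smul_iff.2 hω
    have hOcard : Nat.card G = Nat.card O * Nat.card (Subgroup.centralizer ({g₀} : Set G)) := by
      have hO : O = MulAction.orbit (ConjAct G) g₀ := by
        ext x
        constructor
        · rintro ⟨k, rfl⟩; exact ⟨ConjAct.toConjAct k, by simp [ConjAct.smul_def]⟩
        · rintro ⟨k, rfl⟩; exact ⟨ConjAct.ofConjAct k, by simp [ConjAct.smul_def]⟩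
      have hs := Subgroup.index_mul_card (MulAction.stabilizer (ConjAct G) g₀)
      rw [MulAction.index_stabilizer, ← hO, ConjAct.stabilizer_eq_centralizer,
        ← Nat.card_coe_set_eq] at hs
      exact hs.symm
    have hOeq : O = {g : G | ∀ ω : Ω, g • ω ≠ ω} := by
      refine Set.eq_of_subset_of_ncard_le hOsub ?_ (Set.toFinite _)
      rw [← Nat.card_coe_set_eq, ← Nat.card_coe_set_eq]
      have hCpos : 0 < Nat.card (Subgroup.centralizer ({g₀} : Set G)) := Nat.card_pos
      have h1 : Nat.card Ω * (Nat.card Ω - 1) ≤ Nat.card O * Nat.card Ω :=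
        hG.trans (hOcard.trans_le (Nat.mul_le_mul_left _ hC))
      have h3 : Nat.card {g : G | ∀ ω : Ω, g • ω ≠ ω} + 1 = Nat.card Ω := hcard
      rw [mul_comm (Nat.card O)] at h1
      have := Nat.le_of_mul_le_mul_left h1 (by omega)
      omega
    rw [Nat.card_eq_one_iff_unique]
    refine ⟨⟨?_⟩, ⟨⟨_, g₀, rfl, hg₀⟩⟩⟩
    rintro ⟨_, a, rfl, ha⟩ ⟨_, b, rfl, hb⟩
    have ha' : a ∈ O := hOeq ▸ ha
    have hb' : b ∈ O := hOeq ▸ hb
    obtain ⟨k, rfl⟩ := ha'
    obtain ⟨l, rfl⟩ := hb'
    exact Subtype.ext (ConjClasses.mk_eq_mk_iff_isConj.2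
      ((isConj_iff.2 ⟨k, rfl⟩ : IsConj g₀ _).symm.trans (isConj_iff.2 ⟨l, rfl⟩)))

end Cfsg.Agent.S3501
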