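import Cfsg.Statements.S3504
-- no helper imports

set_option autoImplicit false
open Cfsg

namespace Cfsg.Agent.S3504

/-- For n ≥ 5, the fixed-point-free permutations of prime order in the symmetric group of degree n form a single conjugacy class if and only if n is a prime power. -/
theorem result (n : ℕ) (hn : 5 ≤ n) :
    Nat.card {c : ConjClasses (Equiv.Perm (Fin n)) // ∃ g : Equiv.Perm (Fin n), ConjClasses.mk g = c ∧ (orderOf g).Prime ∧ ∀ i : Fin n, g i ≠ i} = 1 ↔ IsPrimePow n := by
  classical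
  rw [isPrimePow_iff_card_primeFactors_eq_one]
  set T := {c : ConjClasses (Equiv.Perm (Fin n)) // ∃ g : Equiv.Perm (Fin n),
    ConjClasses.mk g = c ∧ (orderOf g).Prime ∧ ∀ i : Fin n, g i ≠ i}
  have hct : ∀ g : Equiv.Perm (Fin n), (orderOf g).Prime → (∀ i, g i ≠ i) →
      orderOf g ∣ n ∧ g.cycleType = Multiset.replicate (n / orderOf g) (orderOf g) := by
    intro g hg hfix
    obtain ⟨k, hk⟩ := Equiv.Perm.cycleType_prime_order hg
    have hsum := Equiv.Perm.sum_cycleType g
    have hsupp : g.support = Finset.univ :=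
      Finset.eq_univ_of_forall fun i => Equiv.Perm.mem_support.2 (hfix i)
    rw [hk, Multiset.sum_replicate, smul_eq_mul, hsupp, Finset.card_univ, Fintype.card_fin] at hsum
    refine ⟨Dvd.intro_left _ hsum, ?_⟩
    rw [hk]
    congr 1
    exact (Nat.div_eq_of_eq_mul_left hg.pos hsum.symm).symm
  have hex : ∀ p ∈ n.primeFactors, ∃ g : Equiv.Perm (Fin n), orderOf g = p ∧ ∀ i, g i ≠ i := by
    intro p hp
    obtain ⟨hpp, hpn, -⟩ := Nat.mem_primeFactors.1 hp
    obtain ⟨c, hc⟩ := hpn
    have hc0 : c ≠ 0 := by rintro rfl; simp at hc; omega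
    have hcyc : (finRotate n).IsCycle := isCycle_finRotate_of_le (by omega)
    have hord : orderOf (finRotate n) = n := by
      rw [hcyc.orderOf, support_finRotate_of_le (by omega), Finset.card_univ, Fintype.card_fin]
    refine ⟨finRotate n ^ c, ?_, fun i hi => ?_⟩
    · rw [orderOf_pow' _ hc0, hord, hc, Nat.gcd_eq_right (dvd_mul_left c p),
        Nat.mul_div_cancel _ (Nat.pos_of_ne_zero hc0)]
    · have hne : finRotate n i ≠ i := by
        rw [← Equiv.Perm.mem_support, support_finRotate_of_le (by omega)]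
        exact Finset.mem_univ i
      have h1 := (hcyc.pow_eq_one_iff' hne).2 hi
      have h2 := Nat.le_of_dvd (Nat.pos_of_ne_zero hc0) (orderOf_dvd_of_pow_eq_one h1)
      rw [hord, hc] at h2
      have : 2 * c ≤ p * c := Nat.mul_le_mul_right c hpp.two_le
      omega
  choose g hg1 hg2 using hex
  let F : {p // p ∈ n.primeFactors} → T := fun p =>
    ⟨ConjClasses.mk (g p.1 p.2), g p.1 p.2, rfl, by
      rw [hg1]; exact (Nat.mem_primeFactors.1 p.2).1, hg2 p.1 p.2⟩
  have hF : Function.Bijective F := by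
    constructor
    · intro p q h
      have h := congrArg Subtype.val h
      simp only [F, ConjClasses.mk_eq_mk_iff_isConj] at h
      obtain ⟨c, hc⟩ := isConj_iff.1 h
      apply Subtype.ext
      rw [← hg1 p.1 p.2, ← hg1 q.1 q.2, ← hc,
        show c * g p.1 p.2 * c⁻¹ = MulAut.conj c (g p.1 p.2) from rfl, MulEquiv.orderOf_eq]
    · rintro ⟨c, h, rfl, hp, hfix⟩
      obtain ⟨hd, hct'⟩ := hct h hp hfix
      have hmem : orderOf h ∈ n.primeFactors := Nat.mem_primeFactors.2 ⟨hp, hd, by omega⟩
      refine ⟨⟨orderOf h, hmem⟩, Subtype.ext ?_⟩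
      simp only [F, ConjClasses.mk_eq_mk_iff_isConj]
      rw [Equiv.Perm.isConj_iff_cycleType_eq, hct',
        (hct _ (by rw [hg1]; exact hp) (hg2 _ hmem)).2, hg1]
  rw [← Nat.card_eq_of_bijective F hF, Nat.card_eq_fintype_card, Fintype.card_coe]

end Cfsg.Agent.S3504
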