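import Cfsg.Statements.S3508
-- no helper imports

set_option autoImplicit false
open Cfsg
open scoped IsMulCommutative

namespace Cfsg.Agent.S3508

/-- Let a finite group G act faithfully on a set Ω with p ^ m points (p prime) and have an elementary abelian normal p-subgroup N acting regularly on Ω (so G is a group of affine transformations of an m-dimensional space over the field with p elements). If G contains an element of order p ^ r with r ≥ 1, then p ^ (r − 1) ≤ m. In particular an element of order p ^ m forces m ≤ 2, and m ≤ 1 when p is odd. -/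
theorem result {G : Type*} [Group G] [Finite G] {Ω : Type*} [Fintype Ω] [MulAction G Ω] [FaithfulSMul G Ω] (p m : ℕ) (hp : p.Prime) (hcard : Fintype.card Ω = p ^ m)
    (N : Subgroup G) [N.Normal] (hNc : IsMulCommutative N) (hNp : ∀ n ∈ N, n ^ p = 1)
    (hNtr : MulAction.IsPretransitive N Ω) (hNreg : ∀ ω : Ω, MulAction.stabilizer N ω = ⊥)
    (g : G) (r : ℕ) (hr : 1 ≤ r) (hg : orderOf g = p ^ r) :
    p ^ (r - 1) ≤ m ∧ (r = m → m ≤ 2 ∧ (2 < p → m ≤ 1)) := by
  have : Fact p.Prime := ⟨hp⟩
  have hexp : ∀ x : Additive N, p • x = 0 := fun x => by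
    apply Additive.toMul.injective
    exact Subtype.ext (by simpa using hNp _ x.toMul.2)
  obtain ⟨hMod⟩ : Nonempty (Module (ZMod p) (Additive N)) :=
    ⟨AddCommGroup.zmodModule (G := Additive N) hexp⟩
  have hne : Nonempty Ω := Fintype.card_pos_iff.1 (by rw [hcard]; exact pow_pos hp.pos m)
  obtain ⟨ω₀⟩ := hne
  have hbij : Function.Bijective fun n : N => (n : G) • ω₀ := by
    refine ⟨fun a b hab => ?_, fun ω => ?_⟩
    · have hab : (a : G) • ω₀ = (b : G) • ω₀ := hab
      have h : b⁻¹ * a ∈ MulAction.stabilizer N ω₀ := by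
        show ((b : G)⁻¹ * a) • ω₀ = ω₀
        rw [mul_smul, hab, inv_smul_smul]
      rw [hNreg, Subgroup.mem_bot, inv_mul_eq_one] at h
      exact h.symm
    · obtain ⟨n, hn⟩ := hNtr.exists_smul_eq ω₀ ω
      exact ⟨n, hn⟩
  have hfr : Module.finrank (ZMod p) (Additive N) = m := by
    have h2 : Nat.card (Additive N) = p ^ m := by
      rw [Nat.card_congr Additive.toMul, Nat.card_eq_of_bijective _ hbij,
        Nat.card_eq_fintype_card, hcard]
    have h3 : Nat.card (Additive N) = p ^ Module.finrank (ZMod p) (Additive N) := by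
      rw [Module.natCard_eq_pow_finrank (K := ZMod p) (V := Additive N), Nat.card_zmod]
    exact Nat.pow_right_injective hp.two_le (h3.symm.trans h2)
  let c : Additive N →ₗ[ZMod p] Additive N :=
    ((MonoidHom.toAdditive (MulAut.conjNormal g : MulAut N).toMonoidHom)).toZModLinearMap p
  have hc : ∀ n : N, c (Additive.ofMul n) = Additive.ofMul (MulAut.conjNormal g n) := fun n => rfl
  have hcpow : ∀ (i : ℕ) (n : N),
      (c ^ i) (Additive.ofMul n) = Additive.ofMul (MulAut.conjNormal (g ^ i) n) := by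
    intro i
    induction i with
    | zero => intro n; simp
    | succ i ih =>
      intro n
      rw [pow_succ', Module.End.mul_apply, ih, hc, pow_succ' g, map_mul, MulAut.mul_apply]
  have hc1 : c ^ (p ^ r) = 1 := LinearMap.ext fun x => by
    have := hcpow (p ^ r) x.toMul
    rw [← hg, pow_orderOf_eq_one, map_one] at this
    simpa [← hg] using this
  have hpoly : ∀ k : ℕ, ((Polynomial.X - 1) ^ (p ^ k) : Polynomial (ZMod p)) =
      Polynomial.X ^ (p ^ k) - 1 := fun k => by
    rw [sub_pow_char_pow, one_pow]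
  have hE : ∀ k : ℕ, (c - 1) ^ (p ^ k) = c ^ (p ^ k) - 1 := fun k => by
    simpa using congrArg (Polynomial.aeval c) (hpoly k)
  have hnil : ∀ j : ℕ, m ≤ j → (c - 1) ^ j = 0 := by
    intro j hj
    have hm : (c - 1) ^ m = 0 := by
      have h0 : (c - 1) ^ (p ^ r) = 0 := by rw [hE, hc1, sub_self]
      have hle := Module.End.ker_pow_le_ker_pow_finrank (c - 1) (p ^ r)
      rw [h0, hfr, LinearMap.ker_zero, top_le_iff, LinearMap.ker_eq_top] at hle
      exact hle
    obtain ⟨d, rfl⟩ := Nat.exists_eq_add_of_le hj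
    rw [pow_add, hm, zero_mul]
  have hgeom : ∀ k : ℕ, (c - 1) ^ (p ^ k - 1) = ∑ i ∈ Finset.range (p ^ k), c ^ i := by
    intro k
    have hX : ((Polynomial.X - 1) ^ (p ^ k - 1) : Polynomial (ZMod p)) =
        ∑ i ∈ Finset.range (p ^ k), Polynomial.X ^ i := by
      refine mul_left_cancel₀ (Polynomial.X_sub_C_ne_zero (1 : ZMod p)) ?_
      rw [map_one, mul_geom_sum, ← pow_succ', Nat.sub_add_cancel (Nat.one_le_pow _ _ hp.pos),
        hpoly]
    simpa using congrArg (Polynomial.aeval c) hX
  obtain ⟨t, ht⟩ := hbij.2 (g • ω₀)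
  have ht : (t : G) • ω₀ = g • ω₀ := ht
  have hact : ∀ (q : ℕ) (n : N), g ^ q • (n : G) • ω₀ =
      (((c ^ q) (Additive.ofMul n) + (∑ i ∈ Finset.range q, c ^ i) (Additive.ofMul t)).toMul : G)
        • ω₀ := by
    intro q
    induction q with
    | zero => intro n; simp
    | succ q ih =>
      intro n
      rw [pow_succ', mul_smul, ih n]
      set u : N := Additive.toMul ((c ^ q) (Additive.ofMul n) +
        (∑ i ∈ Finset.range q, c ^ i) (Additive.ofMul t))
      have e : g • (u : G) • ω₀ = ((MulAut.conjNormal g u * t : N) : G) • ω₀ := by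
        rw [Subgroup.coe_mul, mul_smul, ht, MulAut.conjNormal_apply, ← mul_smul, ← mul_smul]
        congr 1
        group
      rw [e]
      congr 2
      apply Additive.ofMul.injective
      rw [ofMul_mul, ← hc]
      simp only [u, ofMul_toMul, map_add, Finset.sum_range_succ', pow_zero, pow_succ' c,
        Module.End.mul_apply, LinearMap.add_apply, Module.End.one_apply, ← Finset.mul_sum]
      abel
  have hlt : p ^ (r - 1) ≤ m := by
    by_contra h
    push Not at h
    have h1 : g ^ (p ^ (r - 1)) = 1 := by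
      refine FaithfulSMul.eq_of_smul_eq_smul fun ω : Ω => ?_
      obtain ⟨n, rfl⟩ := hbij.2 ω
      show g ^ _ • (n : G) • ω₀ = (1 : G) • (n : G) • ω₀
      have hone : c ^ (p ^ (r - 1)) = 1 := by
        have := hE (r - 1)
        rw [hnil _ h.le] at this
        exact sub_eq_zero.1 this.symm
      rw [hact, ← hgeom, hnil _ (by omega), hone, one_smul]
      simp
    have hd := orderOf_dvd_of_pow_eq_one h1
    rw [hg] at hd
    have := (Nat.pow_dvd_pow_iff_le_right hp.one_lt).1 hd
    omega
  refine ⟨hlt, fun hrm => ?_⟩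
  subst hrm
  have key : ∀ a : ℕ, 2 * 2 ^ a ≥ a + 2 := fun a => by
    induction a with
    | zero => norm_num
    | succ a ih => rw [pow_succ]; omega
  constructor
  · by_contra h3
    obtain ⟨a, rfl⟩ : ∃ a, r = a + 3 := ⟨r - 3, by omega⟩
    have : 2 ^ (a + 2) ≤ p ^ (a + 2) := Nat.pow_le_pow_left hp.two_le _
    rw [show a + 3 - 1 = a + 2 by omega] at hlt
    have := key a
    have e : 2 ^ (a + 2) = 4 * 2 ^ a := by rw [pow_add]; ring
    omega
  · intro h2
    by_contra h3
    obtain ⟨a, rfl⟩ : ∃ a, r = a + 2 := ⟨r - 2, by omega⟩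
    have : 3 ^ (a + 1) ≤ p ^ (a + 1) := Nat.pow_le_pow_left h2 _
    have h23 : 2 ^ a ≤ 3 ^ a := Nat.pow_le_pow_left (by norm_num) _
    rw [show a + 2 - 1 = a + 1 by omega] at hlt
    have := key a
    have e : 3 ^ (a + 1) = 3 * 3 ^ a := by rw [pow_succ]; ring
    have := Nat.two_pow_pos a
    omega

end Cfsg.Agent.S3508
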