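import Cfsg.Statements.S3511
-- no helper imports

set_option autoImplicit false
open Cfsg

namespace Cfsg.Agent.S3511

/-- Let a finite group G act faithfully on a set Ω. If every element of G of square-free order has a regular cycle (an orbit of the cyclic group it generates with trivial stabilizer), then every element of G has a regular cycle. -/
theorem result {G : Type*} [Group G] [Finite G] {Ω : Type*} [MulAction G Ω] [FaithfulSMul G Ω]
    (h : ∀ g : G, Squarefree (orderOf g) → ∃ ω : Ω, MulAction.stabilizer (Subgroup.zpowers g) ω = ⊥) (g : G) :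
    ∃ ω : Ω, MulAction.stabilizer (Subgroup.zpowers g) ω = ⊥ := by
  by_cases hfin : orderOf g = 0
  · exact absurd (isOfFinOrder_of_finite g) (orderOf_eq_zero_iff.1 hfin)
  set n := orderOf g with hn
  set r := ∏ q ∈ n.primeFactors, q with hr
  have hrn : r ∣ n := Nat.prod_primeFactors_dvd n
  obtain ⟨c, hc⟩ := hrn
  have hc0 : c ≠ 0 := by rintro rfl; simp at hc; omega
  have hord : orderOf (g ^ c) = r := by
    rw [orderOf_pow' _ hc0, ← hn, hc, Nat.gcd_eq_right (dvd_mul_left c r),
      Nat.mul_div_cancel _ (Nat.pos_of_ne_zero hc0)]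
  have hsq : Squarefree r := by
    rw [hr]
    refine Finset.squarefree_prod_of_pairwise_isCoprime (fun i hi j hj hij => ?_) fun i hi =>
      (Nat.prime_of_mem_primeFactors hi).squarefree
    exact Nat.coprime_iff_isRelPrime.1
      ((Nat.coprime_primes (Nat.prime_of_mem_primeFactors hi)
        (Nat.prime_of_mem_primeFactors hj)).2 hij)
  obtain ⟨ω, hω⟩ := h (g ^ c) (hord ▸ hsq)
  refine ⟨ω, (Subgroup.eq_bot_iff_forall _).2 fun x hx => ?_⟩
  by_contra hx1
  have hx0 : orderOf x ≠ 1 := fun e => hx1 (orderOf_eq_one_iff.1 e)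
  obtain ⟨q, hq, hqx⟩ := Nat.exists_prime_and_dvd hx0
  obtain ⟨m, hm⟩ := hqx
  set y := x ^ m with hy
  have hm0 : m ≠ 0 := by
    rintro rfl
    exact (orderOf_pos x).ne' (by simpa using hm)
  have hyq : orderOf y = q := by
    rw [hy, orderOf_pow' _ hm0, hm, Nat.gcd_eq_right (dvd_mul_left m q),
      Nat.mul_div_cancel _ (Nat.pos_of_ne_zero hm0)]
  obtain ⟨j, hj⟩ : (y : G) ∈ Submonoid.powers g := mem_powers_iff_mem_zpowers.2 y.2
  have hj : g ^ j = (y : G) := hj
  have hyG : orderOf (y : G) = q := by rw [Subgroup.orderOf_coe, hyq]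
  have hqn : q ∣ n := hyG ▸ (hj ▸ orderOf_pow_dvd j)
  obtain ⟨d, hd⟩ : q ∣ r := Finset.dvd_prod_of_mem _
    (Nat.mem_primeFactors.2 ⟨hq, hqn, hfin⟩)
  have hdiv : n ∣ j * q := by
    rw [hn]
    refine orderOf_dvd_of_pow_eq_one ?_
    rw [pow_mul, hj, ← hyG, pow_orderOf_eq_one]
  have hcj : c ∣ j := by
    rw [hc, hd, mul_comm j q, mul_assoc] at hdiv
    exact (dvd_mul_left c d).trans (Nat.dvd_of_mul_dvd_mul_left hq.pos hdiv)
  obtain ⟨t, rfl⟩ := hcj
  have hmem : (y : G) ∈ Subgroup.zpowers (g ^ c) := by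
    rw [← hj, pow_mul]
    exact Subgroup.pow_mem _ (Subgroup.mem_zpowers _) t
  have hfix : y • ω = ω := (MulAction.stabilizer _ ω).pow_mem hx m
  have hz : (⟨(y : G), hmem⟩ : Subgroup.zpowers (g ^ c)) ∈ MulAction.stabilizer _ ω := hfix
  rw [hω, Subgroup.mem_bot] at hz
  have : orderOf (y : G) = 1 := by rw [orderOf_eq_one_iff]; exact congrArg Subtype.val hz
  exact hq.ne_one (hyG ▸ this)

end Cfsg.Agent.S3511
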