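import Cfsg.Statements.S3514
import Cfsg.Agent.Solvable.Basics

set_option autoImplicit false
open Cfsg

namespace Cfsg.Agent.S3514

/-- Let p be a prime, V a finite vector space over the field with p elements, and H a group of linear transformations of V all of whose orbits on V have size coprime to p. (i) Every normal subgroup K of H has all its orbits on V of size coprime to p. (ii) If N is a group of linear transformations of V of order coprime to p that is normalized by H, then the group generated by N and H has all its orbits on V of size coprime to p. -/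
theorem result (p : ℕ) [Fact p.Prime] {V : Type*} [AddCommGroup V] [Module (ZMod p) V] [Finite V]
    (H : Subgroup (V ≃ₗ[ZMod p] V)) (hH : ∀ v : V, ¬ p ∣ Nat.card {u : V | ∃ h ∈ H, h v = u}) :
    (∀ K : Subgroup (V ≃ₗ[ZMod p] V), K ≤ H → H ≤ Subgroup.normalizer (K : Set (V ≃ₗ[ZMod p] V)) →
        ∀ v : V, ¬ p ∣ Nat.card {u : V | ∃ k ∈ K, k v = u}) ∧
    (∀ N : Subgroup (V ≃ₗ[ZMod p] V), ¬ p ∣ Nat.card N → H ≤ Subgroup.normalizer (N : Set (V ≃ₗ[ZMod p] V)) →
        ∀ v : V, ¬ p ∣ Nat.card {u : V | ∃ x ∈ N ⊔ H, x v = u}) := by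
  have key : ∀ (M : Subgroup (V ≃ₗ[ZMod p] V)) (v : V),
      Nat.card {u : V | ∃ h ∈ M, h v = u} =
        (MulAction.stabilizer (V ≃ₗ[ZMod p] V) v).relIndex M := by
    intro M v
    have e1 : {u : V | ∃ h ∈ M, h v = u} = MulAction.orbit M v := by
      ext u
      simp only [Set.mem_setOf_eq, MulAction.mem_orbit_iff, Subtype.exists]
      exact ⟨fun ⟨h, hh, e⟩ => ⟨h, hh, e⟩, fun ⟨h, hh, e⟩ => ⟨h, hh, e⟩⟩
    rw [e1, Nat.card_congr (MulAction.orbitEquivQuotientStabilizer M v)]
    rfl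
  have : Finite (V ≃ₗ[ZMod p] V) := Finite.of_injective _ DFunLike.coe_injective
  -- `[K : T ∩ K] = [T ⊔ K : T]`
  have hsup : ∀ T K : Subgroup (V ≃ₗ[ZMod p] V),
      T ≤ Subgroup.normalizer (K : Set (V ≃ₗ[ZMod p] V)) →
      T.relIndex K = T.relIndex (T ⊔ K) := by
    intro T K hT
    have e := CfsgLib.Solvable.card_sup_mul_card_inf hT
    have e1 : Nat.card (T ⊓ K : Subgroup (V ≃ₗ[ZMod p] V)) * T.relIndex K = Nat.card K := by
      rw [← Subgroup.relIndex_bot_left, ← Subgroup.relIndex_bot_left,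
        ← Subgroup.inf_relIndex_right T K]
      exact Subgroup.relIndex_mul_relIndex ⊥ (T ⊓ K) K bot_le inf_le_right
    have e2 : Nat.card T * T.relIndex (T ⊔ K) = Nat.card (T ⊔ K : Subgroup (V ≃ₗ[ZMod p] V)) := by
      rw [← Subgroup.relIndex_bot_left, ← Subgroup.relIndex_bot_left]
      exact Subgroup.relIndex_mul_relIndex ⊥ T (T ⊔ K) bot_le le_sup_left
    rw [← e1, ← e2] at e
    refine Nat.eq_of_mul_eq_mul_left (Nat.card_pos (α := T))
      (Nat.eq_of_mul_eq_mul_left (Nat.card_pos (α := (T ⊓ K : Subgroup (V ≃ₗ[ZMod p] V)))) ?_)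
    rw [← mul_assoc, ← mul_assoc]
    linarith [e, mul_comm (Nat.card T) (Nat.card (T ⊓ K : Subgroup (V ≃ₗ[ZMod p] V)))]
  constructor
  · intro K hK hN v hd
    refine hH v ?_
    rw [key] at hd ⊢
    set S := MulAction.stabilizer (V ≃ₗ[ZMod p] V) v
    have h1 : (S ⊓ H).relIndex K = S.relIndex K := by
      rw [← Subgroup.inf_relIndex_right, inf_assoc, inf_eq_right.2 hK,
        Subgroup.inf_relIndex_right]
    rw [← h1, hsup _ _ (inf_le_right.trans hN)] at hd
    rw [← Subgroup.inf_relIndex_right S H, ← Subgroup.relIndex_mul_relIndex (S ⊓ H)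
      ((S ⊓ H) ⊔ K) H le_sup_left (sup_le inf_le_right hK)]
    exact dvd_mul_of_dvd_left hd _
  · intro N hN hNH v hd
    rw [key] at hd
    set S := MulAction.stabilizer (V ≃ₗ[ZMod p] V) v
    have h1 : S.relIndex (N ⊔ H) ∣ (S ⊓ H).relIndex (N ⊔ H) :=
      Subgroup.relIndex_dvd_of_le_left _ inf_le_left
    rw [← Subgroup.relIndex_mul_relIndex (S ⊓ H) H (N ⊔ H) inf_le_right le_sup_right,
      Subgroup.inf_relIndex_right, sup_comm N H, ← hsup H N hNH] at h1
    rw [sup_comm N H] at hd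
    rcases (Nat.Prime.dvd_mul Fact.out).1 (hd.trans h1) with h | h
    · exact hH v (by rw [key]; exact h)
    · exact hN (h.trans (H.subgroupOf N).index_dvd_card)

end Cfsg.Agent.S3514
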