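import Cfsg.Statements.S3515
-- no helper imports

set_option autoImplicit false
open Cfsg

namespace Cfsg.Agent.S3515

theorem add_self_zero : ∀ v : Fin 2 → ZMod 2, v + v = 0 := by decide

theorem third_eq_add : ∀ a b c : Fin 2 → ZMod 2,
    a ≠ 0 → b ≠ 0 → c ≠ 0 → a ≠ b → a ≠ c → b ≠ c → c = a + b := by decide +kernel

/-- Every primitive affine permutation group of degree p² is 3-closed. Let p be a prime and G a group of permutations of the plane V = F_p² consisting of affine maps x ↦ Ax + b, containing all translations, and acting primitively on V. Then any permutation σ of V that agrees on every triple of points with some element of G (σ preserves every G-orbit on ordered triples) already lies in G. -/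
theorem result (p : ℕ) [Fact p.Prime] (G : Subgroup (Equiv.Perm (Fin 2 → ZMod p)))
    (haff : (G : Set (Equiv.Perm (Fin 2 → ZMod p))) ⊆ {τ : Equiv.Perm (Fin 2 → ZMod p) | ∃ (A : (Fin 2 → ZMod p) ≃ₗ[ZMod p] (Fin 2 → ZMod p)) (b : Fin 2 → ZMod p), ∀ x, τ x = A x + b})
    (htrans : ∀ b : Fin 2 → ZMod p, ∃ g ∈ G, ∀ x, g x = x + b) (hprim : MulAction.IsPreprimitive G (Fin 2 → ZMod p))
    (σ : Equiv.Perm (Fin 2 → ZMod p)) (hσ : (∀ t : Fin 3 → (Fin 2 → ZMod p), ∃ g ∈ G, ∀ i, σ (t i) = g (t i))) : σ ∈ G := by
  classical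
  have htri : ∀ x y z, ∃ g ∈ G, ∃ (A : (Fin 2 → ZMod p) ≃ₗ[ZMod p] (Fin 2 → ZMod p))
      (b : Fin 2 → ZMod p), (∀ v, g v = A v + b) ∧ σ x = g x ∧ σ y = g y ∧ σ z = g z := by
    intro x y z
    obtain ⟨g, hg, hgt⟩ := hσ ![x, y, z]
    obtain ⟨A, b, hAb⟩ := haff hg
    exact ⟨g, hg, A, b, hAb, hgt 0, hgt 1, hgt 2⟩
  set f : (Fin 2 → ZMod p) → (Fin 2 → ZMod p) := fun x => σ x - σ 0 with hf
  have hfinj : Function.Injective f := fun x y h => σ.injective (sub_left_inj.1 h)
  have hline : ∀ (c : ZMod p) x, f (c • x) = c • f x := by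
    intro c x
    obtain ⟨g, -, A, b, hAb, h0, h1, h2⟩ := htri 0 x (c • x)
    simp only [hf, h0, h1, h2, hAb, map_zero, map_smul]
    rw [smul_sub, smul_add]
    abel
  have hadd : ∀ x y, f (x + y) = f x + f y := by
    intro x y
    by_cases hp : p = 2
    · subst hp
      have hc := add_self_zero
      by_cases hx : x = 0
      · subst hx; simp [hf]
      by_cases hy : y = 0
      · subst hy; simp [hf]
      by_cases hxy : x = y
      · subst hxy; rw [hc, hc]; simp [hf]
      have key := third_eq_add
      have h0 : f 0 = 0 := by simp [hf]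
      refine key _ _ _ (fun h => hx (hfinj (h.trans h0.symm)))
        (fun h => hy (hfinj (h.trans h0.symm)))
        (fun h => hxy ?_) (fun h => hxy (hfinj h))
        (fun h => hy ?_) (fun h => hx ?_)
      · have := hfinj (h.trans h0.symm)
        calc x = x + (y + y) := by rw [hc, add_zero]
          _ = y := by rw [← add_assoc, this, zero_add]
      · exact add_eq_left.1 (hfinj h).symm
      · exact add_eq_right.1 (hfinj h).symm
    · have h2 : (2 : ZMod p) ≠ 0 := by
        intro h
        have : ((2 : ℕ) : ZMod p) = 0 := by exact_mod_cast h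
        rw [ZMod.natCast_eq_zero_iff] at this
        exact hp ((Nat.prime_dvd_prime_iff_eq Fact.out Nat.prime_two).1 this)
      set m := (2 : ZMod p)⁻¹ • (x + y)
      obtain ⟨g, -, A, b, hAb, h0, h1, h2'⟩ := htri x m y
      have hm : x + y = (2 : ZMod p) • m := by
        simp only [m, smul_smul, mul_inv_cancel₀ h2, one_smul]
      have hf2 := hline 2 m
      rw [← hm] at hf2
      rw [hf2]
      have hAm : (2 : ZMod p) • A m = A x + A y := by rw [← map_smul, ← hm, map_add]
      simp only [hf, h0, h1, h2', hAb]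
      have e : (2 : ZMod p) • (A m + b - σ 0) = (2 : ZMod p) • A m + (b - σ 0) + (b - σ 0) := by
        module
      rw [e, hAm]
      abel
  obtain ⟨g, hg, A, b, hAb, h0, h1, h2⟩ := htri 0 (Pi.single 0 1) (Pi.single 1 1)
  have hb : σ 0 = b := by rw [h0, hAb, map_zero, zero_add]
  suffices σ = g by rw [this]; exact hg
  refine Equiv.ext fun v => ?_
  have hv : v = v 0 • Pi.single 0 1 + v 1 • Pi.single (1 : Fin 2) (1 : ZMod p) := by
    ext i; fin_cases i <;> simp
  have hfv : f v = A v := by
    conv_lhs => rw [hv]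
    conv_rhs => rw [hv]
    rw [hadd, hline, hline, map_add, map_smul, map_smul]
    simp only [hf, h1, h2, hAb, hb, add_sub_cancel_right]
  rw [hAb, ← hfv, ← hb]
  simp [hf]

end Cfsg.Agent.S3515
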