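import Cfsg.Statements.S3516
import Mathlib.LinearAlgebra.Matrix.SchurComplement

set_option autoImplicit false
open Cfsg

namespace Cfsg.Agent.S3516

/-- Let p be an odd prime, d ≥ 3, and G a group of affine permutations x ↦ Ax + b of V = F_p^d containing all translations and all maps x ↦ Ax with A of determinant 1. Then the 3-closure of G is the full affine group: a permutation σ of V agrees on every triple of points with some element of G if and only if σ is an affine map. -/
theorem result (p : ℕ) [Fact p.Prime] (hp : p ≠ 2) (d : ℕ) (hd : 3 ≤ d) (G : Subgroup (Equiv.Perm (Fin d → ZMod p)))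
    (haff : (G : Set (Equiv.Perm (Fin d → ZMod p))) ⊆ {τ : Equiv.Perm (Fin d → ZMod p) | ∃ (A : (Fin d → ZMod p) ≃ₗ[ZMod p] (Fin d → ZMod p)) (b : Fin d → ZMod p), ∀ x, τ x = A x + b})
    (htrans : ∀ b : Fin d → ZMod p, ∃ g ∈ G, ∀ x, g x = x + b)
    (hsl : ∀ A : (Fin d → ZMod p) ≃ₗ[ZMod p] (Fin d → ZMod p), LinearMap.det (A : (Fin d → ZMod p) →ₗ[ZMod p] (Fin d → ZMod p)) = 1 → ∃ g ∈ G, ∀ x, g x = A x)
    (σ : Equiv.Perm (Fin d → ZMod p)) :
    (∀ t : Fin 3 → (Fin d → ZMod p), ∃ g ∈ G, ∀ i, σ (t i) = g (t i)) ↔ σ ∈ {τ : Equiv.Perm (Fin d → ZMod p) | ∃ (A : (Fin d → ZMod p) ≃ₗ[ZMod p] (Fin d → ZMod p)) (b : Fin d → ZMod p), ∀ x, τ x = A x + b} := by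
  constructor
  · intro hσ
    have htri : ∀ x y z, ∃ (A : (Fin d → ZMod p) ≃ₗ[ZMod p] (Fin d → ZMod p))
        (b : Fin d → ZMod p), σ x = A x + b ∧ σ y = A y + b ∧ σ z = A z + b := by
      intro x y z
      obtain ⟨g, hg, hgt⟩ := hσ ![x, y, z]
      obtain ⟨A, b, hAb⟩ := haff hg
      exact ⟨A, b, (hgt 0).trans (hAb x), (hgt 1).trans (hAb y), (hgt 2).trans (hAb z)⟩
    have h2 : (2 : ZMod p) ≠ 0 := by
      intro h
      have : ((2 : ℕ) : ZMod p) = 0 := by exact_mod_cast h
      rw [ZMod.natCast_eq_zero_iff] at this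
      exact hp ((Nat.prime_dvd_prime_iff_eq Fact.out Nat.prime_two).1 this)
    set f : (Fin d → ZMod p) → (Fin d → ZMod p) := fun x => σ x - σ 0 with hf
    have hline : ∀ (c : ZMod p) x, f (c • x) = c • f x := by
      intro c x
      obtain ⟨A, b, h0, h1, h2'⟩ := htri 0 x (c • x)
      simp only [hf, h0, h1, h2', map_zero, map_smul]
      rw [smul_sub, smul_add]
      abel
    have hadd : ∀ x y, f (x + y) = f x + f y := by
      intro x y
      set m := (2 : ZMod p)⁻¹ • (x + y)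
      obtain ⟨A, b, h0, h1, h2'⟩ := htri x m y
      have hm : x + y = (2 : ZMod p) • m := by
        simp only [m, smul_smul, mul_inv_cancel₀ h2, one_smul]
      have hf2 := hline 2 m
      rw [← hm] at hf2
      rw [hf2]
      have hAm : (2 : ZMod p) • A m = A x + A y := by rw [← map_smul, ← hm, map_add]
      simp only [hf, h0, h1, h2']
      have e : (2 : ZMod p) • (A m + b - σ 0) = (2 : ZMod p) • A m + (b - σ 0) + (b - σ 0) := by
        module
      rw [e, hAm]
      abel
    let L : (Fin d → ZMod p) →ₗ[ZMod p] (Fin d → ZMod p) :=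
      { toFun := f, map_add' := hadd, map_smul' := hline }
    have hinj : Function.Injective L := fun x y h => σ.injective (sub_left_inj.1 h)
    refine ⟨LinearEquiv.ofInjectiveEndo L hinj, σ 0, fun x => ?_⟩
    show σ x = f x + σ 0
    simp [hf]
  · rintro ⟨A, b, hAb⟩ t
    classical
    -- a vector orthogonal to the two differences
    obtain ⟨w, hw0, hwu, hwv⟩ : ∃ w : Fin d → ZMod p, w ≠ 0 ∧ w ⬝ᵥ (t 1 - t 0) = 0 ∧
        w ⬝ᵥ (t 2 - t 0) = 0 := by
      let φ : (Fin d → ZMod p) →ₗ[ZMod p] (Fin 2 → ZMod p) :=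
        { toFun := fun w => ![w ⬝ᵥ (t 1 - t 0), w ⬝ᵥ (t 2 - t 0)]
          map_add' := fun a c => by funext i; fin_cases i <;> simp [add_dotProduct] <;> ring
          map_smul' := fun c a => by funext i; fin_cases i <;> simp [smul_dotProduct] <;> ring }
      have hker : LinearMap.ker φ ≠ ⊥ := LinearMap.ker_ne_bot_of_finrank_lt (by simp; omega)
      obtain ⟨w, hw, hw0⟩ := Submodule.exists_mem_ne_zero_of_ne_bot hker
      exact ⟨w, hw0, congrFun hw 0, congrFun hw 1⟩
    obtain ⟨i, hi⟩ := Function.ne_iff.1 hw0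
    replace hi : w i ≠ 0 := hi
    set δ : ZMod p := (LinearMap.det (A : (Fin d → ZMod p) →ₗ[ZMod p] (Fin d → ZMod p)))⁻¹ with hδ
    set e : Fin d → ZMod p := Pi.single i ((δ - 1) / w i) with he
    set D : Matrix (Fin d) (Fin d) (ZMod p) :=
      1 + Matrix.replicateCol (Fin 1) e * Matrix.replicateRow (Fin 1) w with hD
    have hdetA : LinearMap.det (A : (Fin d → ZMod p) →ₗ[ZMod p] (Fin d → ZMod p)) ≠ 0 :=
      (LinearEquiv.isUnit_det' A).ne_zero
    have hδ0 : δ ≠ 0 := inv_ne_zero hdetA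
    have hdet : D.det = δ := by
      have h1 : D.det = 1 + w ⬝ᵥ e := by
        rw [hD]
        convert Matrix.det_one_add_replicateCol_mul_replicateRow (ι := Fin 1) e w
      rw [h1, he, dotProduct_single, mul_div_cancel₀ _ hi]
      ring
    have hfix : ∀ x, w ⬝ᵥ x = 0 → D.mulVec x = x := by
      intro x hx
      rw [hD, Matrix.add_mulVec, Matrix.one_mulVec, ← Matrix.mulVec_mulVec]
      have : (Matrix.replicateRow (Fin 1) w).mulVec x = 0 := funext fun _ => hx
      rw [this, Matrix.mulVec_zero, add_zero]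
    let Dl : (Fin d → ZMod p) ≃ₗ[ZMod p] (Fin d → ZMod p) :=
      LinearEquiv.ofBijective (Matrix.toLin' D) (by
        have : IsUnit D := (Matrix.isUnit_iff_isUnit_det D).2 (by rw [hdet]; exact hδ0.isUnit)
        exact ⟨Matrix.mulVec_injective_of_isUnit this, LinearMap.surjective_of_injective (f := Matrix.toLin' D) (Matrix.mulVec_injective_of_isUnit this)⟩)
    have hdet1 : LinearMap.det ((Dl.trans A : (Fin d → ZMod p) ≃ₗ[ZMod p] (Fin d → ZMod p)) :
        (Fin d → ZMod p) →ₗ[ZMod p] (Fin d → ZMod p)) = 1 := by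
      rw [show ((Dl.trans A : (Fin d → ZMod p) ≃ₗ[ZMod p] (Fin d → ZMod p)) :
          (Fin d → ZMod p) →ₗ[ZMod p] (Fin d → ZMod p)) =
        (A : (Fin d → ZMod p) →ₗ[ZMod p] (Fin d → ZMod p)) ∘ₗ Matrix.toLin' D from rfl,
        LinearMap.det_comp, LinearMap.det_toLin', hdet, hδ, mul_inv_cancel₀ hdetA]
    obtain ⟨g, hg, hgx⟩ := hsl _ hdet1
    obtain ⟨h, hh, hhx⟩ := htrans (σ (t 0) - g (t 0))
    refine ⟨h * g, G.mul_mem hh hg, fun j => ?_⟩
    rw [Equiv.Perm.mul_apply, hhx, hgx, hgx, hAb, hAb]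
    show A (t j) + b = A (D.mulVec (t j)) + (A (t 0) + b - A (D.mulVec (t 0)))
    have hj : D.mulVec (t j - t 0) = t j - t 0 := by
      apply hfix
      fin_cases j
      · simp
      · exact hwu
      · exact hwv
    have := congrArg A hj
    rw [Matrix.mulVec_sub, map_sub, map_sub] at this
    have e' : A (D.mulVec (t j)) = A (t j) - A (t 0) + A (D.mulVec (t 0)) := by
      rw [← this]; abel
    rw [e']; abel

end Cfsg.Agent.S3516
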