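import Cfsg.Statements.S3517
import Cfsg.Agent.AffClose.Basic

set_option autoImplicit false
open Cfsg

namespace Cfsg.Agent.S3517

/-- For d ≥ 3, the 3-closure of the affine group AGL_d(2) acting on F_2^d is the full symmetric group: every permutation of F_2^d agrees on every ordered triple of points with some affine map (AGL_d(2) is 3-transitive). -/
theorem result (d : ℕ) (hd : 3 ≤ d) (σ : Equiv.Perm (Fin d → ZMod 2)) (t : Fin 3 → (Fin d → ZMod 2)) :
    ∃ (A : (Fin d → ZMod 2) ≃ₗ[ZMod 2] (Fin d → ZMod 2)) (b : Fin d → ZMod 2), ∀ i, σ (t i) = A (t i) + b := by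
  set u := t 1 - t 0
  set w := t 2 - t 0
  obtain ⟨A, hu, hw⟩ := CfsgLib.AffClose.exists_equiv_pair (K := ZMod 2) u w
    (σ (t 1) - σ (t 0)) (σ (t 2) - σ (t 0)) (by
    have h10 : t 1 - t 0 = 0 ↔ σ (t 1) - σ (t 0) = 0 := by
      rw [sub_eq_zero, sub_eq_zero, σ.injective.eq_iff]
    have h20 : t 2 - t 0 = 0 ↔ σ (t 2) - σ (t 0) = 0 := by
      rw [sub_eq_zero, sub_eq_zero, σ.injective.eq_iff]
    have hchar : ∀ x y : Fin d → ZMod 2, x + y = 0 ↔ x = y := fun x y => by
      constructor
      · intro h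
        funext i
        have h' : x i + y i = 0 := congrFun h i
        have hd : ∀ a b : ZMod 2, a + b = 0 → a = b := by decide
        exact hd _ _ h'
      · rintro rfl
        funext i
        show x i + x i = 0
        generalize x i = a
        revert a
        decide
    have h12 : t 1 - t 0 + (t 2 - t 0) = 0 ↔ σ (t 1) - σ (t 0) + (σ (t 2) - σ (t 0)) = 0 := by
      rw [hchar, hchar, sub_left_inj, sub_left_inj, σ.injective.eq_iff]
    intro a b
    have hab : ∀ c : ZMod 2, c = 0 ∨ c = 1 := by decide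
    rcases hab a with rfl | rfl <;> rcases hab b with rfl | rfl <;>
      simp [u, w, h10, h20, h12])
  refine ⟨A, σ (t 0) - A (t 0), fun i => ?_⟩
  have h1 : ∀ x, A x + (σ (t 0) - A (t 0)) = A (x - t 0) + σ (t 0) := fun x => by
    rw [map_sub]; abel
  fin_cases i
  · simp
  · rw [h1]
    show σ (t 1) = A u + σ (t 0)
    rw [hu]; abel
  · rw [h1]
    show σ (t 2) = A w + σ (t 0)
    rw [hw]; abel

end Cfsg.Agent.S3517
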