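import Cfsg.Statements.S3518
import Cfsg.Agent.AffClose.Slopes

set_option autoImplicit false
open Cfsg

namespace Cfsg.Agent.S3518

/-- Closures of subgroups of the one-dimensional affine group. Let p be a prime and G a group of permutations of F_p lying in the affine group AGL₁(p) = {x ↦ ax + b, a ≠ 0} and containing all translations. (1) If G is a proper subgroup of AGL₁(p), then G is 2-closed: a permutation of F_p agreeing on every ordered pair of points with some element of G lies in G. (2) Every permutation of F_p agrees on every ordered pair with some element of AGL₁(p) (the 2-closure of AGL₁(p) is the symmetric group). (3) AGL₁(p) is 3-closed: a permutation agreeing on every ordered triple with some affine map is affine. -/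
theorem result (p : ℕ) [Fact p.Prime] (G : Subgroup (Equiv.Perm (ZMod p))) (hG : G ≤ Cfsg.affineGroup (ZMod p))
    (htrans : ∀ b : ZMod p, ∃ g ∈ G, ∀ x, g x = x + b) :
    (G ≠ Cfsg.affineGroup (ZMod p) → ∀ σ : Equiv.Perm (ZMod p), (∀ t : Fin 2 → ZMod p, ∃ g ∈ G, ∀ i, σ (t i) = g (t i)) → σ ∈ G) ∧
    (∀ σ : Equiv.Perm (ZMod p), (∀ t : Fin 2 → ZMod p, ∃ g ∈ Cfsg.affineGroup (ZMod p), ∀ i, σ (t i) = g (t i))) ∧
    (∀ σ : Equiv.Perm (ZMod p), (∀ t : Fin 3 → ZMod p, ∃ g ∈ Cfsg.affineGroup (ZMod p), ∀ i, σ (t i) = g (t i)) → σ ∈ Cfsg.affineGroup (ZMod p)) := by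
  classical
  refine ⟨fun hne σ hσ => ?_, fun σ t => ?_, fun σ hσ => ?_⟩
  · -- the multipliers form a proper subgroup
    have hlin : ∀ g ∈ G, ∀ (a : (ZMod p)ˣ) (b : ZMod p), (∀ x, g x = (a : ZMod p) * x + b) →
        ∀ c : ZMod p, ∃ g' ∈ G, ∀ x, g' x = (a : ZMod p) * x + c := by
      intro g hg a b hab c
      obtain ⟨h, hh, hhx⟩ := htrans (c - b)
      exact ⟨h * g, G.mul_mem hh hg, fun x => by rw [Equiv.Perm.mul_apply, hhx, hab]; ring⟩
    let M : Subgroup (ZMod p)ˣ :=
      { carrier := {a | ∃ g ∈ G, ∀ x, g x = (a : ZMod p) * x}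
        one_mem' := ⟨1, G.one_mem, fun x => by simp⟩
        mul_mem' := fun {a b} ha hb => by
          obtain ⟨g, hg, hgx⟩ := ha
          obtain ⟨h, hh, hhx⟩ := hb
          exact ⟨g * h, G.mul_mem hg hh, fun x => by
            rw [Equiv.Perm.mul_apply, hhx, hgx, Units.val_mul, mul_assoc]⟩
        inv_mem' := fun {a} ha => by
          obtain ⟨g, hg, hgx⟩ := ha
          refine ⟨g⁻¹, G.inv_mem hg, fun x => g.injective ?_⟩
          rw [Equiv.Perm.inv_def, Equiv.apply_symm_apply, hgx, Units.mul_inv_cancel_left] }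
    have hmem : ∀ g ∈ G, ∀ (a : (ZMod p)ˣ) (b : ZMod p), (∀ x, g x = (a : ZMod p) * x + b) →
        a ∈ M := fun g hg a b hab => by
      obtain ⟨g', hg', h'⟩ := hlin g hg a b hab 0
      exact ⟨g', hg', fun x => by simpa using h' x⟩
    have hall : ∀ (a : (ZMod p)ˣ), a ∈ M → ∀ b, ∀ τ : Equiv.Perm (ZMod p),
        (∀ x, τ x = (a : ZMod p) * x + b) → τ ∈ G := by
      rintro a ⟨g, hg, hgx⟩ b τ hτ
      obtain ⟨g', hg', h'⟩ := hlin g hg a 0 (fun x => by simpa using hgx x) b
      rw [show τ = g' from Equiv.ext fun x => by rw [hτ, h']]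
      exact hg'
    have hMne : M ≠ ⊤ := fun h => hne (le_antisymm hG fun τ ⟨a, b, hτ⟩ =>
      hall a (h ▸ Subgroup.mem_top a) b τ hτ)
    set k := Nat.card M with hk
    have hMk : k * M.index = p - 1 := by
      rw [hk, Subgroup.card_mul_index, Nat.card_units, Nat.card_zmod]
    have hi : 2 ≤ M.index := by
      have h1 : M.index ≠ 1 := fun h => hMne (Subgroup.index_eq_one.1 h)
      have h2 := M.index_ne_zero_of_finite
      omega
    have h2k : 2 * k ≤ p - 1 := by
      rw [← hMk, mul_comm 2 k]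
      exact Nat.mul_le_mul_left k hi
    have hslope : ∀ x y, (σ x - σ y) ^ k = (x - y) ^ k := by
      intro x y
      obtain ⟨g, hg, hgt⟩ := hσ ![x, y]
      obtain ⟨a, b, hab⟩ := hG hg
      have hx : σ x = (a : ZMod p) * x + b := (hgt 0).trans (hab x)
      have hy : σ y = (a : ZMod p) * y + b := (hgt 1).trans (hab y)
      have ha : (a : ZMod p) ^ k = 1 := by
        have e := congrArg Units.val (congrArg Subtype.val
          (pow_card_eq_one' (G := M) (x := ⟨a, hmem g hg a b hab⟩)))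
        rw [Subgroup.coe_pow, Units.val_pow_eq_pow_val, Subgroup.coe_one, Units.val_one] at e
        exact e
      rw [hx, hy, show (a : ZMod p) * x + b - ((a : ZMod p) * y + b) = (a : ZMod p) * (x - y) by ring,
        mul_pow, ha, one_mul]
    obtain ⟨c, d, hcd⟩ := CfsgLib.AffClose.affine_of_slopes Nat.card_pos h2k hslope
    obtain ⟨g, hg, hgt⟩ := hσ ![0, 1]
    obtain ⟨a, b, hab⟩ := hG hg
    have h0 : σ 0 = (a : ZMod p) * 0 + b := (hgt 0).trans (hab 0)
    have h1 : σ 1 = (a : ZMod p) * 1 + b := (hgt 1).trans (hab 1)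
    rw [hcd] at h0 h1
    simp at h0 h1
    refine hall a (hmem g hg a b hab) b σ fun x => ?_
    rw [hcd, h0]
    rw [h0] at h1
    rw [add_right_cancel h1]
  · by_cases h : t 0 = t 1
    · refine ⟨Equiv.addRight (σ (t 0) - t 0), ⟨1, σ (t 0) - t 0, fun x => by simp⟩, fun i => ?_⟩
      fin_cases i
      · simp
      · show σ (t 1) = t 1 + (σ (t 0) - t 0)
        rw [← h]; ring
    · have hd : t 1 - t 0 ≠ 0 := sub_ne_zero.2 (Ne.symm h)
      set a := (σ (t 1) - σ (t 0)) / (t 1 - t 0) with ha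
      have ha0 : a ≠ 0 := div_ne_zero (sub_ne_zero.2 fun e => h (σ.injective e).symm) hd
      refine ⟨(Equiv.mulLeft₀ a ha0).trans (Equiv.addRight (σ (t 0) - a * t 0)),
        ⟨Units.mk0 a ha0, σ (t 0) - a * t 0, fun x => by simp⟩, fun i => ?_⟩
      fin_cases i
      · simp
      · show σ (t 1) = a * t 1 + (σ (t 0) - a * t 0)
        have := div_mul_cancel₀ (σ (t 1) - σ (t 0)) hd
        rw [← ha] at this
        linear_combination -this
  · obtain ⟨g₀, hg₀, h₀⟩ := hσ ![0, 1, 0]
    obtain ⟨a, b, hab⟩ := hg₀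
    refine ⟨a, b, fun x => ?_⟩
    obtain ⟨g, hg, hgt⟩ := hσ ![0, 1, x]
    obtain ⟨a', b', hab'⟩ := hg
    have e1 : σ 0 = (a : ZMod p) * 0 + b := (h₀ 0).trans (hab 0)
    have e2 : σ 1 = (a : ZMod p) * 1 + b := (h₀ 1).trans (hab 1)
    have e3 : σ 0 = (a' : ZMod p) * 0 + b' := (hgt 0).trans (hab' 0)
    have e4 : σ 1 = (a' : ZMod p) * 1 + b' := (hgt 1).trans (hab' 1)
    have e5 : σ x = (a' : ZMod p) * x + b' := (hgt 2).trans (hab' x)
    have hb : b' = b := by linear_combination e1 - e3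
    have ha : (a' : ZMod p) = a := by linear_combination e2 - e4 - hb
    rw [e5, hb, ha]

end Cfsg.Agent.S3518
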