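import Cfsg.Statements.S3520
import Cfsg.Agent.ExtPrim.Derange

set_option autoImplicit false
open Cfsg

namespace Cfsg.Agent.S3520

/-- Let a finite group G act faithfully and primitively on a finite set Ω with at least two points, suppose G is not almost simple (no non-abelian simple normal subgroup with trivial centralizer), and suppose the derangements of G form exactly two conjugacy classes. Then either Ω has 3 points and G has order 3; or G has a non-trivial abelian normal subgroup N acting regularly, every non-identity element of G fixes at most one point (so, when n > 3, G is a Frobenius group with kernel N), the number n of points is odd and a point stabilizer has order (n − 1)/2; or G is 2-transitive with a non-trivial abelian regular normal subgroup and some non-identity element fixes at least two points (a non-Frobenius 2-transitive affine group). -/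
theorem result {G : Type*} [Group G] [Finite G] {Ω : Type*} [Fintype Ω] [MulAction G Ω] [FaithfulSMul G Ω] (hΩ : 2 ≤ Fintype.card Ω) (hprim : MulAction.IsPreprimitive G Ω) (hnas : ¬ ∃ T : Subgroup G, T.Normal ∧ IsSimpleGroup T ∧ ¬ IsMulCommutative T ∧ Subgroup.centralizer (T : Set G) = ⊥)
    (hκ : Nat.card {c : ConjClasses G // ∃ g : G, ConjClasses.mk g = c ∧ ∀ ω : Ω, g • ω ≠ ω} = 2) (α : Ω) :
    (Fintype.card Ω = 3 ∧ Nat.card G = 3) ∨
    ((∃ N : Subgroup G, N.Normal ∧ N ≠ ⊥ ∧ IsMulCommutative N ∧ ∀ ω : Ω, MulAction.stabilizer N ω = ⊥) ∧ (∀ g : G, g ≠ 1 → Nat.card (MulAction.fixedBy Ω g) ≤ 1) ∧ ¬ 2 ∣ Fintype.card Ω ∧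
        2 * Nat.card (MulAction.stabilizer G α) = Fintype.card Ω - 1) ∨
    ((∃ N : Subgroup G, N.Normal ∧ N ≠ ⊥ ∧ IsMulCommutative N ∧ ∀ ω : Ω, MulAction.stabilizer N ω = ⊥) ∧ MulAction.IsMultiplyPretransitive G Ω 2 ∧ ∃ g : G, g ≠ 1 ∧ 2 ≤ Nat.card (MulAction.fixedBy Ω g)) := by
  classical
  have : Nontrivial Ω := Fintype.one_lt_card_iff_nontrivial.1 hΩ
  right
  by_cases hab : ∀ A : Subgroup G, A.Normal → IsMulCommutative A → A = ⊥
  · have := CfsgLib.ExtPrim.three_classes_of_nonabelian (Ω := Ω) hab hnas
    omega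
  push Not at hab
  obtain ⟨A, hA, hAc, hA0⟩ := hab
  have hAt := CfsgLib.ExtPrim.isPretransitive_of_normal (Ω := Ω) A hA hA0
  have hreg : ∀ ω : Ω, MulAction.stabilizer A ω = ⊥ := fun ω =>
    (Subgroup.eq_bot_iff_forall _).2 fun a ha => by
      by_contra h
      exact CfsgLib.ExtPrim.abelian_derangement A hAc a.2 (fun e => h (Subtype.ext e)) ω ha
  have haff : ∃ N : Subgroup G, N.Normal ∧ N ≠ ⊥ ∧ IsMulCommutative N ∧
      ∀ ω : Ω, MulAction.stabilizer N ω = ⊥ := ⟨A, hA, hA0, hAc, hreg⟩
  have hAd : ∀ a ∈ A, a ≠ 1 → ∀ ω : Ω, a • ω ≠ ω := fun a ha ha1 =>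
    CfsgLib.ExtPrim.abelian_derangement A hAc ha ha1
  obtain ⟨c₁, c₂, hne, huniv⟩ := Nat.card_eq_two_iff.1 hκ
  let cls : ∀ g : G, (∀ ω : Ω, g • ω ≠ ω) → {c : ConjClasses G //
    ∃ g : G, ConjClasses.mk g = c ∧ ∀ ω : Ω, g • ω ≠ ω} := fun g hg => ⟨_, g, rfl, hg⟩
  have hor : ∀ g hg, cls g hg = c₁ ∨ cls g hg = c₂ := fun g hg => by
    have : cls g hg ∈ ({c₁, c₂} : Set _) := huniv ▸ Set.mem_univ _
    simpa using this
  have hclsA : ∀ g hg a ha, a ∈ A → cls g hg = cls a ha → g ∈ A := by
    intro g hg a ha haA e
    obtain ⟨k, hk⟩ := isConj_iff.1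
      (ConjClasses.mk_eq_mk_iff_isConj.1 (congrArg Subtype.val e)).symm
    exact hk ▸ hA.conj_mem a haA k
  by_cases hout : ∃ d : G, (∀ ω : Ω, d • ω ≠ ω) ∧ d ∉ A
  · -- 2-transitive, not Frobenius
    right
    obtain ⟨d, hd, hdA⟩ := hout
    have hconj : ∀ a ∈ A, ∀ b ∈ A, a ≠ 1 → b ≠ 1 → IsConj a b := by
      intro a ha b hb ha1 hb1
      have hda : cls d hd ≠ cls a (hAd a ha ha1) := fun e => hdA (hclsA d hd a (hAd a ha ha1) ha e)
      have hdb : cls d hd ≠ cls b (hAd b hb hb1) := fun e => hdA (hclsA d hd b (hAd b hb hb1) hb e)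
      apply ConjClasses.mk_eq_mk_iff_isConj.1
      show (cls a (hAd a ha ha1)).1 = (cls b (hAd b hb hb1)).1
      rcases hor d hd with e | e <;> rcases hor a (hAd a ha ha1) with e' | e' <;>
        rcases hor b (hAd b hb hb1) with e'' | e'' <;>
        first
          | exact absurd (e.trans e'.symm) hda
          | exact absurd (e.trans e''.symm) hdb
          | rw [e', e'']
    refine ⟨haff, CfsgLib.ExtPrim.two_transitive_of_conj A hAc α hconj, ?_⟩
    by_contra h
    push Not at h
    have hf1 : ∀ g : G, g ≠ 1 → Nat.card (MulAction.fixedBy Ω g) ≤ 1 := fun g hg => by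
      have := h g hg; omega
    have hcard := CfsgLib.ExtPrim.card_derangements_of_fixed_le_one hf1
      (by rw [Nat.card_eq_fintype_card]; exact hΩ)
    rw [← CfsgLib.ExtPrim.abelian_card A hAc α] at hcard
    let f : Option A → Option {g : G // ∀ ω : Ω, g • ω ≠ ω} := fun o => match o with
      | none => some ⟨d, hd⟩
      | some a => if h : (a : G) = 1 then none else some ⟨a.1, hAd a.1 a.2 h⟩
    have hf : Function.Injective f := by
      rintro (_ | ⟨a, ha⟩) (_ | ⟨b, hb⟩) e <;> simp only [f] at e
      · rfl
      · split_ifs at e with hb1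
        exact absurd hb (by
          have := congrArg Subtype.val (Option.some.inj e)
          exact fun _ => hdA ((show d = b from this) ▸ hb))
      · split_ifs at e with ha1
        exact absurd ha (by
          have := congrArg Subtype.val (Option.some.inj e)
          exact fun _ => hdA ((show a = d from this) ▸ ha))
      · split_ifs at e with ha1 hb1 hb1
        · exact congrArg some (Subtype.ext (ha1.trans hb1.symm))
        · have := congrArg Subtype.val (Option.some.inj e)
          exact congrArg some (Subtype.ext this)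
    have := Nat.card_le_card_of_injective f hf
    rw [Finite.card_option, Finite.card_option] at this
    omega
  -- all derangements lie in A
  left
  push Not at hout
  have hder : Nat.card {g : G // ∀ ω : Ω, g • ω ≠ ω} + 1 ≤ Nat.card Ω := by
    rw [← CfsgLib.ExtPrim.abelian_card A hAc α]
    let f : Option {g : G // ∀ ω : Ω, g • ω ≠ ω} → A := fun o =>
      o.elim 1 fun g => ⟨g.1, hout g.1 g.2⟩
    have hf : Function.Injective f := by
      rintro (_ | a) (_ | b) h
      · rfl
      · exact absurd (congrArg Subtype.val h).symm (fun e => b.2 α (by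
          show (b : G) • α = α
          rw [show (b : G) = 1 from e, one_smul]))
      · exact absurd (congrArg Subtype.val h) (fun e => a.2 α (by
          show (a : G) • α = α
          rw [show (a : G) = 1 from e, one_smul]))
      · exact congrArg some (Subtype.ext (congrArg Subtype.val h :))
    have := Nat.card_le_card_of_injective f hf
    rwa [Finite.card_option] at this
  have hf1 := fun (g : G) (hg : g ≠ 1) =>
    CfsgLib.ExtPrim.fixed_le_one_of_derangements_le hder hg
  obtain ⟨_, a₁, he₁, hd₁⟩ := c₁
  obtain ⟨_, a₂, he₂, hd₂⟩ := c₂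
  subst he₁ he₂
  have hH : 2 * Nat.card (MulAction.stabilizer G α) + 1 = Nat.card A := by
    let F : Option (MulAction.stabilizer G α × Bool) → A := fun o =>
      o.elim 1 fun p => ⟨(p.1 : G) * (if p.2 then a₁ else a₂) * (p.1 : G)⁻¹,
        hA.conj_mem _ (by split_ifs; exacts [hout _ hd₁, hout _ hd₂]) _⟩
    have hane : ∀ b : Bool, (if b then a₁ else a₂) ≠ 1 := by
      intro b
      cases b
      · exact fun e => hd₂ α (by simp only [Bool.false_eq_true, if_false] at e; rw [e, one_smul])
      · exact fun e => hd₁ α (by simp only [if_true] at e; rw [e, one_smul])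
    have hsemi : ∀ k : G, k • α = α → ∀ a ∈ A, a ≠ 1 → k * a = a * k → k = 1 := by
      intro k hk a ha ha1 e
      by_contra hk1
      refine hAd a ha ha1 α (CfsgLib.ExtPrim.eq_of_two_fixed (hf1 k hk1) ?_ hk)
      rw [← mul_smul, e, mul_smul, hk]
    have hF : Function.Bijective F := by
      constructor
      · rintro (_ | ⟨⟨k, hk⟩, b⟩) (_ | ⟨⟨l, hl⟩, c⟩) e
        · rfl
        · exact absurd (conj_eq_one_iff.1 (congrArg Subtype.val e).symm) (hane c)
        · exact absurd (conj_eq_one_iff.1 (congrArg Subtype.val e)) (hane b)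
        · have e' : k * (if b then a₁ else a₂) * k⁻¹ = l * (if c then a₁ else a₂) * l⁻¹ :=
            congrArg Subtype.val e
          have hbc : b = c := by
            have hc : IsConj (if b then a₁ else a₂) (if c then a₁ else a₂) :=
              (isConj_iff.2 ⟨k, e'⟩).trans (isConj_iff.2 ⟨l, rfl⟩).symm
            cases b <;> cases c <;> first
              | rfl
              | exact absurd (Subtype.ext (ConjClasses.mk_eq_mk_iff_isConj.2 hc)) hne
              | exact absurd (Subtype.ext (ConjClasses.mk_eq_mk_iff_isConj.2 hc.symm)) hne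
          subst hbc
          have hkl : l⁻¹ * k = 1 := by
            refine hsemi _ ?_ (if b then a₁ else a₂) ?_ (hane b) ?_
            · rw [mul_smul, MulAction.mem_stabilizer_iff.1 hk, inv_smul_eq_iff,
                MulAction.mem_stabilizer_iff.1 hl]
            · split_ifs; exacts [hout _ hd₁, hout _ hd₂]
            · have := congrArg (fun z => l⁻¹ * z * k) e'
              simpa [mul_assoc] using this
          simp only [inv_mul_eq_one] at hkl
          subst hkl
          rfl
      · rintro ⟨a, ha⟩
        by_cases ha1 : a = 1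
        · exact ⟨none, Subtype.ext ha1.symm⟩
        rcases hor a (hAd a ha ha1) with e | e
        · obtain ⟨k, hk, hke⟩ := CfsgLib.ExtPrim.exists_conj_stabilizer A hAc α (hout _ hd₁)
            (ConjClasses.mk_eq_mk_iff_isConj.1 (congrArg Subtype.val e)).symm
          exact ⟨some (⟨k, hk⟩, true), Subtype.ext hke⟩
        · obtain ⟨k, hk, hke⟩ := CfsgLib.ExtPrim.exists_conj_stabilizer A hAc α (hout _ hd₂)
            (ConjClasses.mk_eq_mk_iff_isConj.1 (congrArg Subtype.val e)).symm
          exact ⟨some (⟨k, hk⟩, false), Subtype.ext hke⟩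
    rw [← Nat.card_eq_of_bijective F hF, Finite.card_option, Nat.card_prod,
      Nat.card_eq_fintype_card (α := Bool), Fintype.card_bool, mul_comm]
  rw [CfsgLib.ExtPrim.abelian_card A hAc α, Nat.card_eq_fintype_card (α := Ω)] at hH
  exact ⟨haff, hf1, by omega, by omega⟩

end Cfsg.Agent.S3520
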