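import Cfsg.Statements.S3521
import Cfsg.Agent.ExtPrim.AffineTwo
import Cfsg.Agent.ExtPrim.Regular
import Cfsg.Agent.Frobenius.Semidirect
import Cfsg.Agent.OddEnd.FourteenFinal

set_option autoImplicit false
set_option linter.style.haveILetI false
open Cfsg

namespace Cfsg.Agent.S3521

/-- Let a finite group G that is not solvable act faithfully and primitively on a finite set with p ^ d points (p prime), with a non-trivial abelian normal subgroup acting regularly (affine type) and with non-trivial point stabilizers each acting primitively on every one of its orbits (an insoluble extremely primitive group of affine type). Then p = 2; and if moreover G is not 2-transitive, then a point stabilizer is almost simple (it has a non-abelian simple normal subgroup with trivial centralizer). -/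
theorem result {G : Type*} [Group G] [Finite G] {Ω : Type*} [Fintype Ω] [MulAction G Ω] [FaithfulSMul G Ω] (p d : ℕ) (hp : p.Prime) (hcard : Fintype.card Ω = p ^ d) (hsol : ¬ Group.IsSolvable G)
    (N : Subgroup G) [N.Normal] (hN : N ≠ ⊥) (hNc : IsMulCommutative N) (hNreg : ∀ ω : Ω, MulAction.stabilizer N ω = ⊥)
    (hprim : MulAction.IsPreprimitive G Ω) (hH : ∀ α : Ω, MulAction.stabilizer G α ≠ ⊥) (hep : ∀ (α : Ω) (ω : Ω), MulAction.IsPreprimitive (MulAction.stabilizer G α) (MulAction.orbit (MulAction.stabilizer G α) ω)) (α : Ω) :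
    p = 2 ∧ (¬ MulAction.IsMultiplyPretransitive G Ω 2 → ∃ T : Subgroup (MulAction.stabilizer G α), T.Normal ∧ IsSimpleGroup T ∧ ¬ IsMulCommutative T ∧ Subgroup.centralizer (T : Set (MulAction.stabilizer G α)) = ⊥) := by
  classical
  haveI := hprim
  set H := MulAction.stabilizer G α with hHdef
  obtain ⟨x₀, hx₀⟩ : ∃ x : Ω, x ≠ α := by
    by_contra hn
    push Not at hn
    refine hH α ((Subgroup.eq_bot_iff_forall _).2 fun g _ => eq_of_smul_eq_smul (α := Ω) fun y => ?_)
    rw [hn (g • y), one_smul, hn y]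
  haveI : Nontrivial Ω := ⟨⟨x₀, α, hx₀⟩⟩
  haveI : Nontrivial H := (Subgroup.nontrivial_iff_ne_bot _).2 (hH α)
  obtain ⟨p', e, hp', hexp, hcardN⟩ := CfsgLib.ExtPrim.regular_elementary (O := Ω) N hNc hN
  haveI := CfsgLib.ExtPrim.isPretransitive_normal (O := Ω) N hN
  have hcN : Nat.card N = p ^ d := by
    rw [CfsgLib.ExtPrim.regular_card N hNc hN α, Nat.card_eq_fintype_card, hcard]
  haveI : Nontrivial N := (Subgroup.nontrivial_iff_ne_bot _).2 hN
  obtain rfl : p' = p := by
    have he : e ≠ 0 := fun e0 => by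
      rw [e0, pow_zero] at hcardN
      exact (Finite.one_lt_card (α := N)).ne' hcardN
    exact (Nat.prime_dvd_prime_iff_eq hp' hp).1 (hp'.dvd_of_dvd_pow (n := d) (by
      rw [← hcN, hcardN]; exact dvd_pow_self _ he))
  have hcomm : ∀ a b : N, a * b = b * a := hNc.is_comm.comm
  let ρ : H →* MulAut N := (MulAut.conjNormal : G →* MulAut N).comp H.subtype
  have hρ : ∀ (h : H) (v : N), ((ρ h v : N) : G) = (h : G) * v * (h : G)⁻¹ := fun h v => rfl
  have hmove : ∀ (h : H) (v : N), (h : G) • (v : G) • α = ((ρ h v : N) : G) • α := fun h v => by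
    rw [hρ, CfsgLib.ExtPrim.smul_smul_conj (MulAction.mem_stabilizer_iff.1 h.2)]
  have hinj : ∀ v w : N, (v : G) • α = (w : G) • α → v = w := fun v w h =>
    Subtype.ext (CfsgLib.ExtPrim.abelian_inj N hNc v.2 w.2 h)
  have hne : ∀ v : N, v ≠ 1 → (v : G) • α ≠ α := fun v hv e =>
    hv (hinj v 1 (by rw [e, OneMemClass.coe_one, one_smul]))
  have hex : ∀ x : Ω, ∃ v : N, (v : G) • α = x := fun x => by
    obtain ⟨v, hv⟩ := MulAction.exists_smul_eq N α x
    exact ⟨v, hv⟩
  have hfaith : ∀ h : H, (∀ v, ρ h v = v) → h = 1 := fun h hh => Subtype.ext <|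
    eq_of_smul_eq_smul (α := Ω) fun x => by
      obtain ⟨v, rfl⟩ := hex x
      rw [hmove, hh, OneMemClass.coe_one, one_smul]
  have hnsH : ¬ Group.IsSolvable H := fun hs => by
    haveI := hs
    letI : CommGroup N := { (inferInstance : Group N) with mul_comm := hcomm }
    haveI : Group.IsSolvable (G ⧸ N) := Group.isSolvable_of_surjective (f := (QuotientGroup.mk' N).comp H.subtype)
      fun q => by
        induction q using QuotientGroup.induction_on with
        | H g =>
          obtain ⟨v, hv⟩ := hex (g • α)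
          refine ⟨⟨(v : G)⁻¹ * g, MulAction.mem_stabilizer_iff.2 (by rw [mul_smul, ← hv, inv_smul_smul])⟩, ?_⟩
          refine QuotientGroup.eq.2 ?_
          show ((v : G)⁻¹ * g)⁻¹ * g ∈ N
          rw [mul_inv_rev, inv_inv]
          simpa using (inferInstance : N.Normal).conj_mem _ v.2 g⁻¹
    exact hsol (Group.isSolvable_of_ker_le_range N.subtype (QuotientGroup.mk' N)
      (by rw [QuotientGroup.ker_mk', Subgroup.range_subtype]))
  have hmax : ∀ v : N, v ≠ 1 → ∀ K : Subgroup H, CfsgLib.ExtPrim.AffineTwo.stab ρ v ≤ K →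
      K = CfsgLib.ExtPrim.AffineTwo.stab ρ v ∨ K = ⊤ := by
    intro v hv K hK
    have hle : H ⊓ MulAction.stabilizer G ((v : G) • α) ≤ K.map H.subtype := by
      intro g hg
      obtain ⟨h1, h2⟩ := Subgroup.mem_inf.1 hg
      refine ⟨⟨g, h1⟩, hK ?_, rfl⟩
      have h3 := MulAction.mem_stabilizer_iff.1 h2
      rw [show g = ((⟨g, h1⟩ : H) : G) from rfl, hmove] at h3
      exact hinj _ _ h3
    rcases CfsgLib.ExtPrim.eq_or_eq_of_le hH hep (hne v hv) (K.map H.subtype) hle
      (Subgroup.map_subtype_le _) with h | h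
    · refine Or.inl (le_antisymm (fun k hk => ?_) hK)
      have h1 := MulAction.mem_stabilizer_iff.1 (h ⟨k, hk, rfl⟩)
      rw [Subgroup.subtype_apply, hmove] at h1
      exact hinj _ _ h1
    · refine Or.inr (eq_top_iff.2 fun k _ => ?_)
      obtain ⟨k', hk', e⟩ := h k.2
      rwa [← show k' = k from Subtype.ext e]
  haveI : Fact (Nat.Prime 2) := ⟨Nat.prime_two⟩
  have hp2 : p' = 2 := by
    by_contra hp2
    have heven : 2 ∣ Nat.card H := even_iff_two_dvd.1 ((Nat.even_or_odd _).resolve_right fun ho =>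
      hnsH (CfsgLib.OddEnd.odd_solvable _ ho))
    obtain ⟨t, ht⟩ := exists_prime_orderOf_dvd_card' 2 heven
    obtain ⟨w, hw⟩ : ∃ w, ρ t w ≠ w := by
      by_contra hn
      push Not at hn
      rw [hfaith t hn, orderOf_one] at ht
      exact absurd ht (by norm_num)
    obtain ⟨u, hu⟩ : ∃ u, u = ρ t w * w⁻¹ := ⟨_, rfl⟩
    have hu1 : u ≠ 1 := fun e => hw (mul_inv_eq_one.1 (hu.symm.trans e))
    have htt : ρ t (ρ t w) = w := by
      rw [← MulAut.mul_apply, ← map_mul, ← sq, ← ht, pow_orderOf_eq_one, map_one, MulAut.one_apply]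
    have htu : ρ t u = u⁻¹ := by rw [hu, map_mul, map_inv, htt, mul_inv_rev, inv_inv]
    have huu : u⁻¹ ≠ u := fun e => by
      have h2 : u ^ 2 = 1 := by rw [sq]; nth_rw 1 [← e]; rw [inv_mul_cancel]
      have hp1 : u ^ p' = 1 := Subtype.ext (by simpa using hexp _ u.2)
      have := Nat.dvd_gcd (orderOf_dvd_of_pow_eq_one h2) (orderOf_dvd_of_pow_eq_one hp1)
      rw [(Nat.coprime_primes Nat.prime_two hp).2 (Ne.symm hp2), Nat.dvd_one, orderOf_eq_one_iff] at this
      exact hu1 this
    let K : Subgroup H :=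
      { carrier := {g | ρ g u = u ∨ ρ g u = u⁻¹}
        one_mem' := Or.inl (by rw [map_one, MulAut.one_apply])
        mul_mem' := by
          rintro a b (ha | ha) (hb | hb) <;>
            simp [map_mul, MulAut.mul_apply, map_inv, ha, hb]
        inv_mem' := by
          rintro a (ha | ha)
          · exact Or.inl (by rw [map_inv, MulAut.inv_def, MulEquiv.symm_apply_eq, ha])
          · exact Or.inr (by rw [map_inv, MulAut.inv_def, MulEquiv.symm_apply_eq, map_inv, ha, inv_inv]) }
    have hKtop : K = ⊤ := (hmax u hu1 K fun g hg => Or.inl hg).resolve_left fun e => by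
      have h1 : t ∈ CfsgLib.ExtPrim.AffineTwo.stab ρ u := e ▸ (Or.inr htu : t ∈ K)
      rw [CfsgLib.ExtPrim.AffineTwo.mem_stab, htu] at h1
      exact huu h1
    have hK : ∀ g : H, ρ g u = u ∨ ρ g u = u⁻¹ := fun g => hKtop.ge (Subgroup.mem_top g)
    have hinv : ∀ g : H, ∀ v ∈ Subgroup.zpowers u, ρ g v ∈ Subgroup.zpowers u := by
      rintro g _ ⟨k, rfl⟩
      show ρ g (u ^ k) ∈ _
      rw [map_zpow]
      refine Subgroup.zpow_mem _ ?_ k
      rcases hK g with e | e <;> rw [e]
      · exact Subgroup.mem_zpowers u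
      · exact Subgroup.inv_mem _ (Subgroup.mem_zpowers u)
    haveI : ((Subgroup.zpowers u).map N.subtype).Normal := by
      refine ⟨?_⟩
      rintro _ ⟨v, hv, rfl⟩ g
      obtain ⟨n, hn⟩ := hex (g • α)
      have hg : (n : G)⁻¹ * g ∈ H := MulAction.mem_stabilizer_iff.2 (by rw [mul_smul, ← hn, inv_smul_smul])
      refine ⟨ρ ⟨_, hg⟩ v, hinv _ v hv, ?_⟩
      have h2 := congrArg Subtype.val (hcomm n (ρ ⟨_, hg⟩ v))
      simp only [Subgroup.coe_mul, hρ] at h2
      show ((ρ ⟨_, hg⟩ v : N) : G) = g * v * g⁻¹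
      rw [hρ]
      have h3 := congrArg (fun z => z * (n : G)⁻¹) h2
      simpa [mul_assoc] using h3.symm
    haveI := CfsgLib.ExtPrim.isPretransitive_normal (O := Ω) ((Subgroup.zpowers u).map N.subtype) fun e =>
      hu1 (Subgroup.zpowers_eq_bot.1 ((Subgroup.map_eq_bot_iff_of_injective _ N.subtype_injective).1 e))
    have hgen : ∀ v : N, v ∈ Subgroup.zpowers u := fun v => by
      obtain ⟨⟨_, k, hk, rfl⟩, hkv⟩ := MulAction.exists_smul_eq ((Subgroup.zpowers u).map N.subtype) α ((v : G) • α)
      rwa [← hinj k v hkv]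
    refine hnsH ?_
    letI : CommGroup H := { (inferInstance : Group H) with
      mul_comm := fun a b => by
        refine mul_inv_eq_one.1 (hfaith _ fun v => ?_)
        obtain ⟨k, rfl⟩ := hgen v
        show ρ (a * b * (b * a)⁻¹) (u ^ k) = u ^ k
        rw [map_zpow]
        congr 1
        have hab : ρ (a * b) u = ρ (b * a) u := by
          rcases hK a with ha | ha <;> rcases hK b with hb | hb <;>
            simp [map_mul, MulAut.mul_apply, map_inv, ha, hb]
        have h4 : ρ (b * a)⁻¹ u = ρ (b * a) u := by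
          rcases hK (b * a) with e | e
          · rw [e, map_inv, MulAut.inv_def, MulEquiv.symm_apply_eq, e]
          · rw [e, map_inv, MulAut.inv_def, MulEquiv.symm_apply_eq, map_inv, e, inv_inv]
        rw [map_mul, MulAut.mul_apply, h4, ← hab]
        rcases hK (a * b) with e | e
        · rw [e, e]
        · rw [e, map_inv, e, inv_inv] }
    infer_instance
  subst hp2
  refine ⟨rfl, fun _ => ?_⟩
  refine CfsgLib.ExtPrim.AffineTwo.Hyp.almost_simple (ρ := ρ)
    { two := fun v => Subtype.ext (by rw [Subgroup.coe_mul, ← sq, hexp _ v.2, OneMemClass.coe_one])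
      nofix := fun M hM hM1 v hv hle => ?_
      trans := fun M hM hM1 v hv h => ?_
      max := hmax
      nab := fun A hA hAc => ?_
      even := fun T hTs hTna => (Nat.even_or_odd _).resolve_right fun ho => hTna ?_ }
  · have hMn : H ≤ Subgroup.normalizer ((M.map H.subtype : Subgroup G) : Set G) :=
      (Subgroup.normal_subgroupOf_iff_le_normalizer (Subgroup.map_subtype_le _)).1
        (by rw [Subgroup.subgroupOf, Subgroup.comap_map_eq_self_of_injective H.subtype_injective]; exact hM)
    refine CfsgLib.ExtPrim.not_le_stabilizer hH (hne v hv) fun g hg => ?_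
    obtain ⟨_, ⟨m, hm, rfl⟩, e⟩ := CfsgLib.ExtPrim.exists_smul_eq_of_normal hH hep (hne v hv) (M.map H.subtype)
      (Subgroup.map_subtype_le _) hMn (fun e => hM1 ((Subgroup.map_eq_bot_iff_of_injective _
        H.subtype_injective).1 e)) hg
    rw [MulAction.mem_stabilizer_iff, ← e, Subgroup.subtype_apply, hmove,
      (CfsgLib.ExtPrim.AffineTwo.mem_stab).1 (hle hm)]
  · obtain ⟨_, ⟨m, hm, rfl⟩, e⟩ := CfsgLib.ExtPrim.exists_smul_eq_of_normal hH hep (hne v hv) (M.map H.subtype)
      (Subgroup.map_subtype_le _)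
      ((Subgroup.normal_subgroupOf_iff_le_normalizer (Subgroup.map_subtype_le _)).1
        (by rw [Subgroup.subgroupOf, Subgroup.comap_map_eq_self_of_injective H.subtype_injective]; exact hM))
      (fun e => hM1 ((Subgroup.map_eq_bot_iff_of_injective _ H.subtype_injective).1 e)) h.2
    rw [Subgroup.subtype_apply, hmove, hmove] at e
    exact ⟨m, hm, hinj _ _ e⟩
  · by_contra hA1
    haveI := hA
    have hC := CfsgLib.ExtPrim.local_centralizer hH hep hx₀ A hAc hA1
    have hcyc : IsCyclic A := CfsgLib.Frobenius.IsFpf.isCyclic_of_comm (φ := ρ.comp A.subtype)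
      (fun a ha v hv => by
        by_contra hv1
        refine ha (Subtype.ext (CfsgLib.ExtPrim.local_inj hH hep (hne v hv1) A hAc hA1 a.2 ?_))
        rw [hmove]
        exact congrArg (fun z : N => (z : G) • α) hv)
      (fun a b => hAc.is_comm.comm a b)
    haveI := hcyc
    letI : CommGroup (MulAut A) := { (inferInstance : Group (MulAut A)) with
      mul_comm := fun a b => (IsCyclic.mulAutMulEquiv (G := A)).injective (by rw [map_mul, map_mul, mul_comm]) }
    letI : CommGroup A := { (inferInstance : Group A) with mul_comm := hAc.is_comm.comm }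
    refine hnsH (Group.isSolvable_of_ker_le_range A.subtype (MulAut.conjNormal : H →* MulAut A) fun h hh => ?_)
    rw [Subgroup.range_subtype, ← hC, Subgroup.mem_centralizer_iff]
    intro a ha
    have := congrArg Subtype.val (DFunLike.congr_fun (MonoidHom.mem_ker.1 hh) (⟨a, ha⟩ : A))
    simp only [MulAut.conjNormal_apply, MulAut.one_apply] at this
    exact (mul_inv_eq_iff_eq_mul.1 this).symm
  · haveI := hTs
    haveI := CfsgLib.OddEnd.odd_solvable T ho
    exact ⟨⟨IsSimpleGroup.comm_iff_isSolvable.2 inferInstance⟩⟩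

end Cfsg.Agent.S3521
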