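import Cfsg.Statements.S3532
import Cfsg.Agent.PrimeGraph.SolvableSpec

set_option autoImplicit false
open Cfsg

namespace Cfsg.Agent.S3532

/-- Let q ≥ 4 be a prime power and L = PSL(2,q). There is a finite solvable group with the same set of element orders as L × L (so L × L is not determined by its spectrum). -/
theorem result {F : Type*} [Field F] [Fintype F] (hF : 4 ≤ Fintype.card F) :
    ∃ (H : Type) (_ : Group H) (_ : Finite H), Group.IsSolvable H ∧
      Set.range (orderOf : H → ℕ) = Set.range (orderOf : Matrix.ProjectiveSpecialLinearGroup (Fin 2) F × Matrix.ProjectiveSpecialLinearGroup (Fin 2) F → ℕ) := by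
  obtain ⟨p, k, hp, hk, hq⟩ : ∃ p k : ℕ, p.Prime ∧ k ≠ 0 ∧ Fintype.card F = p ^ k := by
    obtain ⟨n, h1, h2⟩ := FiniteField.card F (ringChar F)
    exact ⟨_, n, h1, n.pos.ne', h2⟩
  haveI : Fact p.Prime := ⟨hp⟩
  haveI : CharP F p := charP_of_card_eq_prime_pow hq
  have hspec := CfsgLib.PSL2Spec.spectrum (F := F) p
  have hd := CfsgLib.PSL2Spec.gcd_dvd F
  have hdpos : 0 < Nat.gcd 2 (Fintype.card F - 1) := Nat.gcd_pos_of_pos_left _ two_pos
  set q := Fintype.card F
  have hq1 : 1 < q := Fintype.one_lt_card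
  set d := Nat.gcd 2 (q - 1)
  set a := (q - 1) / d
  set b := (q + 1) / d
  have ha0 : 0 < a := Nat.div_pos (Nat.le_of_dvd (by omega) hd.1) hdpos
  have hb0 : 0 < b := Nat.div_pos (Nat.le_of_dvd (by omega) hd.2) hdpos
  have hab : a.Coprime b := by
    have hg : Nat.gcd (q - 1) (q + 1) = d := by
      rw [show q + 1 = 2 + (q - 1) by omega, Nat.gcd_add_self_right, Nat.gcd_comm]
    have := Nat.coprime_div_gcd_div_gcd (m := q - 1) (n := q + 1) (hg.symm ▸ hdpos)
    rwa [hg] at this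
  have hpq : p ∣ q := hq ▸ dvd_pow_self p hk
  have hpa : p.Coprime a := hp.coprime_iff_not_dvd.2 fun h => by
    have h1 : p ∣ q - 1 := h.trans (Nat.div_dvd_of_dvd hd.1)
    have := Nat.dvd_sub hpq h1
    rw [show q - (q - 1) = 1 by omega] at this
    exact hp.one_lt.ne' (Nat.dvd_one.1 this)
  have hpb : p.Coprime b := hp.coprime_iff_not_dvd.2 fun h => by
    have h1 : p ∣ q + 1 := h.trans (Nat.div_dvd_of_dvd hd.2)
    exact hp.one_lt.ne' (Nat.dvd_one.1 ((Nat.dvd_add_right hpq).1 h1))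
  have hk2 : 2 * k ≠ 0 := by omega
  have hK : Nat.card (GaloisField p (2 * k))ˣ = (q - 1) * (q + 1) := by
    rw [Nat.card_units, GaloisField.card p _ hk2, hq, pow_mul', mul_comm]
    simpa using Nat.sq_sub_sq (p ^ k) 1
  obtain ⟨H, hG, hF', hsol, hH⟩ := CfsgLib.SolvableSpec.exists_solvable (GaloisField p (2 * k)) p a b
    (hK ▸ dvd_mul_of_dvd_left (Nat.div_dvd_of_dvd hd.1) _)
    (hK ▸ dvd_mul_of_dvd_right (Nat.div_dvd_of_dvd hd.2) _) hab hpa hpb
  refine ⟨H, hG, hF', hsol, ?_⟩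
  rw [hH, CfsgLib.PSL2Spec.range_orderOf_prod, hspec]
  exact CfsgLib.SolvableSpec.lcm_set p a b hab hpa hpb

end Cfsg.Agent.S3532
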