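import Cfsg.Statements.S3554

set_option autoImplicit false
open Cfsg

namespace Cfsg.Agent.S3554

/-- Let G act faithfully and transitively on a finite set and suppose G has a non-trivial cyclic normal subgroup. Then some element of G of prime order fixes no point. -/
theorem result {G Ω : Type*} [Group G] [Finite G] [MulAction G Ω] [FaithfulSMul G Ω] [Finite Ω]
    (htrans : MulAction.IsPretransitive G Ω) (C : Subgroup G) (hC : C.Normal) (hC1 : C ≠ ⊥) (hcyc : IsCyclic ↥C) :
    ∃ g : G, (orderOf g).Prime ∧ ∀ ω : Ω, g • ω ≠ ω := by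
  obtain ⟨p, hp, hpd⟩ := Nat.exists_prime_and_dvd
    (fun h : Nat.card C = 1 => hC1 (Subgroup.eq_bot_of_card_eq C h))
  haveI : Fact p.Prime := ⟨hp⟩
  obtain ⟨x, hx⟩ := exists_prime_orderOf_dvd_card' (G := C) p hpd
  refine ⟨x, by rwa [Subgroup.orderOf_coe, hx], fun ω hω => ?_⟩
  have hx1 : (x : G) ≠ 1 := fun e => hp.one_lt.ne (by rw [← hx, show x = 1 from Subtype.ext e, orderOf_one])
  refine hx1 (eq_of_smul_eq_smul (α := Ω) fun y => ?_)
  rw [one_smul]
  obtain ⟨h, rfl⟩ := MulAction.exists_smul_eq G ω y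
  have hmem : h⁻¹ * (x : G) * h ∈ C := by
    have := hC.conj_mem _ x.2 h⁻¹
    rwa [inv_inv] at this
  obtain ⟨k, hk⟩ : (⟨h⁻¹ * (x : G) * h, hmem⟩ : C) ∈ Subgroup.zpowers x := by
    classical
    haveI := Fintype.ofFinite C
    have hcard := IsCyclic.card_pow_eq_one_le (α := C) hp.pos
    have hsub : Finset.univ.filter (fun c => c ∈ Subgroup.zpowers x) ⊆
        Finset.univ.filter (fun c : C => c ^ p = 1) := by
      intro c hc
      simp only [Finset.mem_filter, Finset.mem_univ, true_and] at hc ⊢
      rw [← hx]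
      exact orderOf_dvd_iff_pow_eq_one.1 (orderOf_dvd_of_mem_zpowers hc)
    have hcz : (Finset.univ.filter (fun c => c ∈ Subgroup.zpowers x)).card = p := by
      rw [← Fintype.card_subtype, ← Nat.card_eq_fintype_card, Nat.card_zpowers, hx]
    have heq := Finset.eq_of_subset_of_card_le hsub (by rw [hcz]; exact hcard)
    have : (⟨h⁻¹ * (x : G) * h, hmem⟩ : C) ∈ Finset.univ.filter (fun c : C => c ^ p = 1) := by
      simp only [Finset.mem_filter, Finset.mem_univ, true_and]
      apply Subtype.ext
      have h1 : (x : G) ^ p = 1 := by rw [← hx, ← Subgroup.orderOf_coe, pow_orderOf_eq_one]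
      have := conj_pow (i := p) (a := h⁻¹) (b := (x : G))
      rw [inv_inv, h1, mul_one, inv_mul_cancel] at this
      exact this
    rw [← heq] at this
    exact (Finset.mem_filter.1 this).2
  have hk' : h⁻¹ * (x : G) * h = (x : G) ^ k := by
    have := congrArg Subtype.val hk
    simpa using this.symm
  have hfix : (h⁻¹ * (x : G) * h) • ω = ω := by
    rw [hk']
    exact (MulAction.stabilizer G ω).zpow_mem hω k
  rwa [mul_smul, mul_smul, inv_smul_eq_iff] at hfix

end Cfsg.Agent.S3554
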