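import Cfsg.Statements.S3555
import Cfsg.Agent.ExtPrim.Derange
import Cfsg.Agent.Char.FrobeniusKernel
import Cfsg.Agent.Frobenius.Basic
import Mathlib.Algebra.Order.BigOperators.Group.Finset
import Mathlib.Tactic.Ring
import Mathlib.Tactic.Linarith

set_option autoImplicit false
open Cfsg

namespace Cfsg.Agent.S3555

/-- Let G act faithfully and transitively on a finite set and suppose every element of G fixing no point is an involution. Then either G is an elementary abelian 2-group, or G is a Frobenius group whose Frobenius kernel is an elementary abelian 2-group: G has a Frobenius complement H, and the elements lying in no conjugate of H, together with the identity, pairwise commute and square to the identity. -/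
theorem result {G Ω : Type*} [Group G] [Finite G] [MulAction G Ω] [FaithfulSMul G Ω] [Finite Ω]
    (htrans : MulAction.IsPretransitive G Ω) (hinv : ∀ g : G, (∀ ω : Ω, g • ω ≠ ω) → orderOf g = 2) :
    (IsMulCommutative G ∧ ∀ g : G, g ^ 2 = 1) ∨
    (∃ H : Subgroup G, Cfsg.IsFrobeniusComplement H ∧
      (∀ x ∈ Cfsg.frobeniusKernel H, x ^ 2 = 1) ∧
      ∀ x ∈ Cfsg.frobeniusKernel H, ∀ y ∈ Cfsg.frobeniusKernel H, x * y = y * x) := by
  classical
  haveI := htrans
  haveI := Fintype.ofFinite G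
  haveI := Fintype.ofFinite Ω
  have hcomm : ∀ a b : G, a ^ 2 = 1 → b ^ 2 = 1 → (a * b) ^ 2 = 1 → a * b = b * a := by
    intro a b ha hb hab
    rw [pow_two] at ha hb hab
    have e := eq_inv_of_mul_eq_one_left hab
    rw [mul_inv_rev, inv_eq_of_mul_eq_one_right ha, inv_eq_of_mul_eq_one_right hb] at e
    exact e
  by_cases hreg : ∀ g : G, g ≠ 1 → ∀ ω : Ω, g • ω ≠ ω
  · left
    have hsq : ∀ g : G, g ^ 2 = 1 := fun g => by
      by_cases hg : g = 1
      · rw [hg, one_pow]
      · rw [← hinv g (hreg g hg)]; exact pow_orderOf_eq_one g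
    exact ⟨⟨⟨fun a b => hcomm a b (hsq a) (hsq b) (hsq _)⟩⟩, hsq⟩
  right
  push Not at hreg
  obtain ⟨h₀, hh₀, a, ha₀⟩ := hreg
  haveI : Nonempty Ω := ⟨a⟩
  have hn : 2 ≤ Nat.card Ω := by
    by_contra hlt
    have : Subsingleton Ω := Finite.card_le_one_iff_subsingleton.1 (by omega)
    exact hh₀ (eq_of_smul_eq_smul (α := Ω) fun y => Subsingleton.elim _ _)
  -- counting fixed points of squares
  set n := Nat.card Ω
  let f : G → ℕ := fun g => Nat.card (MulAction.fixedBy Ω g)
  have hff : ∀ g : G, f g = (Finset.univ.filter fun x : Ω => g • x = x).card := fun g => by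
    rw [← Nat.card_eq_finsetCard]
    exact Nat.card_congr (Equiv.subtypeEquivRight fun x => by simp)
  have hf1 : f 1 = n := by
    rw [hff]; simp [n, Nat.card_eq_fintype_card]
  have hsum : ∑ g : G, f g = Nat.card G := CfsgLib.ExtPrim.sum_fixed
  have hkey : ∑ g : G, f (g ^ 2) ≤ ∑ g : G, f g * f g := by
    have h1 : ∀ g : G, f (g ^ 2) =
        (Finset.univ.filter fun ab : Ω × Ω => g • ab.1 = ab.2 ∧ g • ab.2 = ab.1).card := by
      intro g
      rw [hff]
      refine Finset.card_bij (fun x _ => (x, g • x)) (fun x hx => ?_)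
        (fun x _ y _ e => (Prod.ext_iff.1 e).1) fun ab hab => ⟨ab.1, ?_, ?_⟩
      · rw [Finset.mem_filter] at hx ⊢
        exact ⟨Finset.mem_univ _, rfl, by rw [← mul_smul, ← pow_two]; exact hx.2⟩
      · rw [Finset.mem_filter] at hab ⊢
        exact ⟨Finset.mem_univ _, by rw [pow_two, mul_smul, hab.2.1, hab.2.2]⟩
      · exact Prod.ext rfl (Finset.mem_filter.1 hab).2.1
    have h2 : ∀ g : G, f g * f g =
        (Finset.univ.filter fun ab : Ω × Ω => g • ab.1 = ab.1 ∧ g • ab.2 = ab.2).card := by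
      intro g
      rw [hff, ← Finset.card_product]
      congr 1
      ext ab; simp
    simp only [h1, h2, Finset.card_filter]
    rw [Finset.sum_comm, Finset.sum_comm (s := Finset.univ) (t := (Finset.univ : Finset (Ω × Ω)))]
    refine Finset.sum_le_sum fun ab _ => ?_
    simp only [← Finset.card_filter]
    rcases Finset.eq_empty_or_nonempty
      (Finset.univ.filter fun g : G => g • ab.1 = ab.2 ∧ g • ab.2 = ab.1) with he | ⟨g₀, hg₀⟩
    · rw [he]; exact Nat.zero_le _
    rw [Finset.mem_filter] at hg₀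
    refine Finset.card_le_card_of_injOn (fun g => g₀⁻¹ * g) (fun g hg => ?_)
      (fun u _ v _ e => mul_left_cancel e)
    rw [Finset.mem_coe, Finset.mem_filter] at hg ⊢
    exact ⟨Finset.mem_univ _, by rw [mul_smul, hg.2.1, inv_smul_eq_iff, hg₀.2.1],
      by rw [mul_smul, hg.2.2, inv_smul_eq_iff, hg₀.2.2]⟩
  have hle : ∀ g : G, g ≠ 1 → f g + 1 ≤ n := by
    intro g hg
    obtain ⟨y, hy⟩ : ∃ y : Ω, g • y ≠ y := by
      by_contra h
      push Not at h
      exact hg (eq_of_smul_eq_smul (α := Ω) fun y => by rw [h y, one_smul])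
    rw [hff, show n = (Finset.univ : Finset Ω).card by simp [n, Nat.card_eq_fintype_card]]
    exact Finset.card_lt_card ⟨Finset.filter_subset _ _, fun h => hy (Finset.mem_filter.1 (h (Finset.mem_univ y))).2⟩
  have hterm : ∀ g ∈ Finset.univ.erase (1 : G),
      (n : ℤ) + (f g : ℤ) * (f g : ℤ) ≤ (f (g ^ 2) : ℤ) + n * f g ∧
        ((n : ℤ) + (f g : ℤ) * (f g : ℤ) = (f (g ^ 2) : ℤ) + n * f g → f g ≤ 1) := by
    intro g hg
    have hg1 := (Finset.mem_erase.1 hg).1
    by_cases hd : ∀ ω : Ω, g • ω ≠ ω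
    · have h0 : f g = 0 := by
        rw [hff, Finset.card_eq_zero, Finset.filter_eq_empty_iff]
        exact fun x _ => hd x
      have h2 : g ^ 2 = 1 := by rw [← hinv g hd]; exact pow_orderOf_eq_one g
      rw [h0, h2, hf1]
      simp
    push Not at hd
    obtain ⟨y, hy⟩ := hd
    have h1 : 1 ≤ f g := by
      rw [hff]; exact Finset.card_pos.2 ⟨y, Finset.mem_filter.2 ⟨Finset.mem_univ _, hy⟩⟩
    have h2 : f g ≤ f (g ^ 2) := by
      rw [hff, hff]
      refine Finset.card_le_card fun x hx => ?_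
      rw [Finset.mem_filter] at hx ⊢
      exact ⟨hx.1, by rw [pow_two, mul_smul, hx.2, hx.2]⟩
    have h3 := hle g hg1
    have h1' : (1 : ℤ) ≤ f g := by exact_mod_cast h1
    have h2' : (f g : ℤ) ≤ f (g ^ 2) := by exact_mod_cast h2
    have h3' : (f g : ℤ) + 1 ≤ n := by exact_mod_cast h3
    constructor
    · nlinarith [mul_nonneg (sub_nonneg.2 h1') (show (0 : ℤ) ≤ n - f g by linarith)]
    · intro he
      by_contra hgt
      have : (2 : ℤ) ≤ f g := by exact_mod_cast (show 2 ≤ f g by omega)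
      nlinarith [mul_pos (show (0 : ℤ) < f g - 1 by linarith) (show (0 : ℤ) < n - f g by linarith)]
  have hone : ∀ g : G, g ≠ 1 → f g ≤ 1 := by
    intro g hg
    have hgE : g ∈ Finset.univ.erase (1 : G) := Finset.mem_erase.2 ⟨hg, Finset.mem_univ g⟩
    refine (hterm g hgE).2 ?_
    have hEc : ((Finset.univ.erase (1 : G)).card : ℤ) = (Nat.card G : ℤ) - 1 := by
      have := Finset.card_erase_add_one (Finset.mem_univ (1 : G))
      rw [Finset.card_univ, ← Nat.card_eq_fintype_card] at this
      omega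
    have hk : (∑ g : G, (f (g ^ 2) : ℤ)) ≤ ∑ g : G, (f g : ℤ) * f g := by exact_mod_cast hkey
    have hs : (∑ g : G, (f g : ℤ)) = Nat.card G := by exact_mod_cast hsum
    rw [← Finset.add_sum_erase _ _ (Finset.mem_univ (1 : G)),
      ← Finset.add_sum_erase _ _ (Finset.mem_univ (1 : G)), one_pow, hf1] at hk
    rw [← Finset.add_sum_erase _ _ (Finset.mem_univ (1 : G)), hf1] at hs
    have hub : ∑ g ∈ Finset.univ.erase (1 : G), ((f (g ^ 2) : ℤ) + n * f g) ≤
        ∑ g ∈ Finset.univ.erase (1 : G), ((n : ℤ) + (f g : ℤ) * (f g : ℤ)) := by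
      rw [Finset.sum_add_distrib, Finset.sum_add_distrib, Finset.sum_const, nsmul_eq_mul, hEc,
        ← Finset.mul_sum]
      have : (∑ x ∈ Finset.univ.erase (1 : G), (f x : ℤ)) = (Nat.card G : ℤ) - n := by linarith
      rw [this]
      nlinarith
    exact (Finset.sum_eq_sum_iff_of_le fun i hi => (hterm i hi).1).1
      (le_antisymm (Finset.sum_le_sum fun i hi => (hterm i hi).1) hub) g hgE
  set H := MulAction.stabilizer G a
  have hH : Cfsg.IsFrobeniusComplement H := by
    refine ⟨fun h => hh₀ ?_, fun h => ?_, fun g hg => ?_⟩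
    · have : h₀ ∈ H := ha₀
      rwa [h, Subgroup.mem_bot] at this
    · haveI : Nontrivial Ω := Finite.one_lt_card_iff_nontrivial.1 hn
      obtain ⟨y, hy⟩ := exists_ne a
      obtain ⟨g, hg⟩ := MulAction.exists_smul_eq G a y
      exact hy (hg.symm.trans (show g ∈ H from h ▸ Subgroup.mem_top g))
    · rw [Subgroup.eq_bot_iff_forall]
      rintro x ⟨hx1, hx2'⟩
      have hx2 : (g⁻¹ * x * g) • a = a := CfsgLib.Frobenius.mem_conj_iff.1 hx2'
      by_contra hne
      refine hg (CfsgLib.ExtPrim.eq_of_two_fixed (hone x hne) (a := g • a) (b := a) ?_ hx1)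
      rw [mul_smul, mul_smul, inv_smul_eq_iff] at hx2
      exact hx2
  have hKder : ∀ x ∈ Cfsg.frobeniusKernel H, x ^ 2 = 1 := by
    rintro x (rfl | hx)
    · exact one_pow 2
    rw [← hinv x fun ω hω => ?_]
    · exact pow_orderOf_eq_one x
    obtain ⟨g, rfl⟩ := MulAction.exists_smul_eq G a ω
    refine hx g (CfsgLib.Frobenius.mem_conj_iff.2 ?_)
    show (g⁻¹ * x * g) • a = a
    rw [mul_smul, mul_smul, hω, inv_smul_smul]
  refine ⟨H, hH, hKder, fun x hx y hy => ?_⟩
  obtain ⟨K, -, -, -, -, hmem⟩ := CfsgLib.Char.exists_frobenius_kernel H fun g hg h hh hc => by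
    by_contra h1
    exact hg (CfsgLib.Frobenius.mem_of_conj_mem hH (x := g * h * g⁻¹)
      (fun e => h1 (conj_eq_one_iff.1 e)) hc (by simpa [mul_assoc] using hh))
  have hK : ∀ z, z ∈ Cfsg.frobeniusKernel H ↔ z ∈ K := fun z => by
    rw [hmem]
    exact or_congr_right (forall_congr' fun g => not_congr CfsgLib.Frobenius.mem_conj_iff)
  exact hcomm x y (hKder x hx) (hKder y hy)
    (hKder _ ((hK _).2 (K.mul_mem ((hK x).1 hx) ((hK y).1 hy))))

end Cfsg.Agent.S3555
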