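import Cfsg.Statements.S3556
import Cfsg.Agent.ExtPrim.MinNormal
import Cfsg.Agent.ExtPrim.Derange
import Cfsg.Agent.Perm.Basic
import Cfsg.Agent.Solvable.Basics

set_option autoImplicit false
open Cfsg

namespace Cfsg.Agent.S3556

/-- Let G act faithfully and primitively on a finite set with at least two points, and suppose that for some fixed prime p every element of G fixing no point has order a power of p. Then G is of affine type (it has a regular normal subgroup that is an elementary abelian r-group for some prime r) or almost simple (it has a non-abelian simple normal subgroup with trivial centralizer). -/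
theorem result {G Ω : Type*} [Group G] [Finite G] [MulAction G Ω] [FaithfulSMul G Ω] [Finite Ω]
    (hprim : MulAction.IsPreprimitive G Ω) (hΩ : 2 ≤ Nat.card Ω) (p : ℕ) (hp : p.Prime)
    (hder : ∀ g : G, (∀ ω : Ω, g • ω ≠ ω) → ∃ k : ℕ, orderOf g = p ^ k) :
    (∃ (N : Subgroup G) (r : ℕ), r.Prime ∧ N.Normal ∧ Cfsg.IsElementaryAbelian r N ∧
      MulAction.IsPretransitive N Ω ∧ ∀ a : Ω, MulAction.stabilizer N a = ⊥) ∨
    (∃ T : Subgroup G, T.Normal ∧ IsSimpleGroup ↥T ∧ ¬ IsMulCommutative ↥T ∧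
      Subgroup.centralizer (T : Set G) = ⊥) := by
  classical
  haveI := hprim
  have : Nontrivial Ω := Finite.one_lt_card_iff_nontrivial.1 hΩ
  have htop : (⊤ : Subgroup G) ≠ ⊥ := by
    intro h
    obtain ⟨a, b, hab⟩ := exists_pair_ne Ω
    obtain ⟨g, hg⟩ := MulAction.exists_smul_eq G a b
    have : g ∈ (⊥ : Subgroup G) := h ▸ Subgroup.mem_top g
    rw [Subgroup.mem_bot] at this
    exact hab (by rw [← hg, this, one_smul])
  obtain ⟨N, hN, hN1, -, hmin⟩ := CfsgLib.Solvable.exists_minimal_normal_le htop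
  haveI := CfsgLib.PermBasic.isPretransitive_of_normal (α := Ω) N hN1
  have hpgroup : ∀ T : Subgroup G, IsSimpleGroup T → ¬ IsMulCommutative T → ¬ IsPGroup p T := by
    intro T hTs hTna hTp
    haveI := Fact.mk hp
    haveI := hTp.center_nontrivial
    rcases (inferInstance : (Subgroup.center T).Normal).eq_bot_or_eq_top with h | h
    · exact (Subgroup.nontrivial_iff_ne_bot _).1 inferInstance h
    · exact hTna ⟨⟨fun a b => Subgroup.mem_center_iff.1 (h ▸ Subgroup.mem_top b : b ∈ Subgroup.center T) a⟩⟩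
  have hderp : ∀ S : Subgroup G, (∀ t ∈ S, t ≠ 1 → ∀ ω : Ω, t • ω ≠ ω) → IsPGroup p S := by
    intro S hS t
    by_cases h : (t : G) = 1
    · exact ⟨0, Subtype.ext (by simpa using h)⟩
    obtain ⟨k, hk⟩ := hder t (hS t t.2 h)
    exact ⟨k, Subtype.ext (by rw [SubmonoidClass.coe_pow, ← hk, pow_orderOf_eq_one]; rfl)⟩
  by_cases hab : IsMulCommutative N
  · left
    have hs : Group.IsSolvable N := by
      letI : CommGroup N := { (inferInstance : Group N) with mul_comm := hab.is_comm.comm }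
      infer_instance
    obtain ⟨-, r, hr, hexp, -⟩ := CfsgLib.Solvable.minimal_normal_elementary hN1 hmin hs
    refine ⟨N, r, hr, hN, ⟨hab, hexp⟩, inferInstance, fun a => ?_⟩
    exact CfsgLib.PermBasic.semiregular_of_le_centralizer N N
      (Subgroup.le_centralizer_iff_isMulCommutative.2 hab) a
  obtain ⟨T, hT⟩ := CfsgLib.ExtPrim.exists_isFactor N hN1 hmin hab
  by_cases ho : CfsgLib.ExtPrim.others T = ⊥
  · -- `N = T` is simple
    have hNT : N = T := by rw [← hT.sup_others, ho, sup_bot_eq]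
    subst hNT
    by_cases hC : Subgroup.centralizer (N : Set G) = ⊥
    · exact Or.inr ⟨N, hN, hT.simple, hT.nonab, hC⟩
    exfalso
    haveI := CfsgLib.PermBasic.isPretransitive_of_normal (α := Ω) _ hC
    refine hpgroup N hT.simple hT.nonab (hderp N fun t ht ht1 ω hω => ht1 ?_)
    exact CfsgLib.PermBasic.eq_one_of_commute_of_fix (Subgroup.centralizer (N : Set G))
      (fun c hc => (Subgroup.mem_centralizer_iff.1 hc t ht).symm) hω
  exfalso
  obtain ⟨α⟩ : Nonempty Ω := inferInstance
  set O := CfsgLib.ExtPrim.others T with hO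
  let R : Subgroup G :=
    { carrier := {t | t ∈ T ∧ ∃ c ∈ O, t * c ∈ MulAction.stabilizer G α}
      mul_mem' := by
        rintro t1 t2 ⟨ht1, c1, hc1, h1⟩ ⟨ht2, c2, hc2, h2⟩
        refine ⟨mul_mem ht1 ht2, c1 * c2, mul_mem hc1 hc2, ?_⟩
        have := mul_mem h1 h2
        rwa [show t1 * c1 * (t2 * c2) = t1 * t2 * (c1 * c2) by
          rw [mul_assoc t1 c1, ← mul_assoc c1 t2, ← (hT.commute ht2 hc1).eq]; simp [mul_assoc]] at this
      one_mem' := ⟨one_mem _, 1, one_mem _, by rw [mul_one]; exact one_mem _⟩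
      inv_mem' := by
        rintro t ⟨ht, c, hc, h⟩
        refine ⟨inv_mem ht, c⁻¹, inv_mem hc, ?_⟩
        have := inv_mem h
        rwa [mul_inv_rev, ← (hT.commute (inv_mem ht) (inv_mem hc)).eq] at this }
  by_cases hR : R.subgroupOf T = ⊤
  · have hRT : ∀ t ∈ T, ∃ c ∈ O, t * c ∈ MulAction.stabilizer G α := fun t ht =>
      ((Subgroup.subgroupOf_eq_top.1 hR) ht).2
    have hnorm : ((MulAction.stabilizer G α).subgroupOf T).Normal := by
      refine ⟨fun x hx t => ?_⟩
      obtain ⟨c, hc, htc⟩ := hRT t t.2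
      rw [Subgroup.mem_subgroupOf] at hx ⊢
      have := mul_mem (mul_mem htc hx) (inv_mem htc)
      have e : (t : G) * c * x * ((t : G) * c)⁻¹ = t * x * (t : G)⁻¹ := by
        rw [mul_assoc (t : G) c x, ← (hT.commute x.2 hc).eq, mul_inv_rev]; simp [mul_assoc]
      rw [e] at this
      simpa using this
    haveI := hT.simple
    rcases hnorm.eq_bot_or_eq_top with h | h
    · -- `T` is semiregular
      refine hpgroup T hT.simple hT.nonab (hderp T fun t ht ht1 ω hω => ht1 ?_)
      obtain ⟨⟨n, hn⟩, hnω⟩ := MulAction.exists_smul_eq N α ω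
      have hnω' : n • α = ω := hnω
      have hcT : n⁻¹ * t * n ∈ T := by
        have := hT.conj_mem n⁻¹ (inv_mem hn) t ht
        simpa using this
      have : (⟨n⁻¹ * t * n, hcT⟩ : T) ∈ (MulAction.stabilizer G α).subgroupOf T := by
        rw [Subgroup.mem_subgroupOf, MulAction.mem_stabilizer_iff]
        show (n⁻¹ * t * n) • α = α
        rw [mul_smul, mul_smul, hnω', hω, ← hnω', inv_smul_smul]
      rw [h, Subgroup.mem_bot] at this
      have h1 : n⁻¹ * t * n = 1 := congrArg Subtype.val this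
      have := congrArg (fun z => n * z * n⁻¹) h1
      simpa [mul_assoc] using this
    · -- `T` fixes `α`, so `N` does
      have hTα : T ≤ MulAction.stabilizer G α := Subgroup.subgroupOf_eq_top.1 h
      have hall : ∀ g, CfsgLib.ExtPrim.cj g T ≤ MulAction.stabilizer G α := by
        intro g y hy
        obtain ⟨⟨n, hn⟩, hng⟩ := MulAction.exists_smul_eq N α (g • α)
        have hng' : n • α = g • α := hng
        have hh : n⁻¹ * g ∈ MulAction.stabilizer G α := by
          rw [MulAction.mem_stabilizer_iff, mul_smul, ← hng', inv_smul_smul]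
        have e : CfsgLib.ExtPrim.cj g T = CfsgLib.ExtPrim.cj (n⁻¹ * g) T := by
          conv_rhs => rw [← (hT.cj (n⁻¹ * g)).cj_eq_of_mem hn]
          rw [CfsgLib.ExtPrim.cj_cj, mul_inv_cancel_left]
        rw [e, CfsgLib.ExtPrim.mem_cj] at hy
        have := mul_mem (mul_mem hh (hTα hy)) (inv_mem hh)
        simpa [mul_assoc] using this
      have hNα : N ≤ MulAction.stabilizer G α := by
        rw [← hT.sup_others]
        exact sup_le hTα (iSup₂_le fun g _ => hall g)
      obtain ⟨β, hβ⟩ := exists_ne α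
      obtain ⟨⟨n, hn⟩, hnb⟩ := MulAction.exists_smul_eq N α β
      exact hβ (hnb.symm.trans (hNα hn))
  · obtain ⟨x, hx⟩ := CfsgLib.ExtPrim.exists_avoiding_conjugates _ hR
    obtain ⟨s, hsO, hs⟩ : ∃ s ∈ O, ∀ k : ℕ, s ^ p ^ k ≠ 1 := by
      obtain ⟨g, hg⟩ : ∃ g, CfsgLib.ExtPrim.cj g T ≠ T := by
        by_contra h
        push Not at h
        exact ho (le_bot_iff.1 (iSup₂_le fun g hg => absurd (h g) hg))
      by_contra h
      push Not at h
      have hC := hT.cj g
      refine hpgroup _ hC.simple hC.nonab fun z => ?_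
      obtain ⟨k, hk⟩ := h z (CfsgLib.ExtPrim.cj_le_others hg z.2)
      exact ⟨k, Subtype.ext (by rw [SubmonoidClass.coe_pow, hk]; rfl)⟩
    have hxs : ∀ ω : Ω, ((x : G) * s) • ω ≠ ω := by
      intro ω hω
      obtain ⟨⟨n, hn⟩, hnω⟩ := MulAction.exists_smul_eq N α ω
      have hnω' : n • α = ω := hnω
      obtain ⟨t, ht, c, hc, rfl⟩ := hT.exists_mul hn
      refine hx ⟨t, ht⟩ ?_
      rw [Subgroup.mem_subgroupOf]
      have hxt : (t⁻¹ : G) * x * t ∈ T := mul_mem (mul_mem (inv_mem ht) x.2) ht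
      refine ⟨by simpa using hxt, c⁻¹ * s * c, mul_mem (mul_mem (inv_mem hc) hsO) hc, ?_⟩
      rw [MulAction.mem_stabilizer_iff]
      have e : ((⟨t, ht⟩⁻¹ * x * ⟨t, ht⟩ : T) : G) * (c⁻¹ * s * c) =
          (t * c)⁻¹ * ((x : G) * s) * (t * c) := by
        have h1 := (hT.commute hxt (inv_mem hc)).eq
        have h2 := (hT.commute ht hsO).eq
        simp only [Subgroup.coe_mul, InvMemClass.coe_inv]
        calc t⁻¹ * (x : G) * t * (c⁻¹ * s * c) = (t⁻¹ * x * t * c⁻¹) * s * c := by simp [mul_assoc]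
          _ = c⁻¹ * t⁻¹ * x * (t * s) * c := by rw [h1]; simp [mul_assoc]
          _ = _ := by rw [h2]; simp [mul_assoc]
      rw [e, mul_smul, mul_smul, hnω', hω, ← hnω', inv_smul_smul]
    obtain ⟨k, hk⟩ := hder _ hxs
    refine hs k ?_
    have h1 := pow_orderOf_eq_one ((x : G) * s)
    rw [hk, (hT.commute x.2 hsO).mul_pow] at h1
    have h2 : s ^ p ^ k ∈ T := by
      rw [mul_eq_one_iff_eq_inv'] at h1
      rw [h1]; exact inv_mem (pow_mem x.2 _)
    have : s ^ p ^ k ∈ T ⊓ O := ⟨h2, pow_mem hsO _⟩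
    rwa [hT.inf_others, Subgroup.mem_bot] at this

end Cfsg.Agent.S3556
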