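import Cfsg.Statements.S3557
import Cfsg.Agent.Derange.Basic
import Cfsg.Agent.Solvable.PGroupBasic

set_option autoImplicit false
open Cfsg
open scoped Pointwise

namespace Cfsg.Agent.S3557

/-- Let G act faithfully and transitively on a finite set with 2p² points, p a prime, and suppose G is 2-closed: every permutation of the set which, on each ordered pair of points, agrees with some element of G, is itself induced by an element of G. Then some element of G of prime order fixes no point. -/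
theorem result {G Ω : Type*} [Group G] [Finite G] [MulAction G Ω] [FaithfulSMul G Ω] [Finite Ω]
    (htrans : MulAction.IsPretransitive G Ω) (p : ℕ) (hp : p.Prime) (hcard : Nat.card Ω = 2 * p ^ 2)
    (hcl : ∀ σ : Equiv.Perm Ω, (∀ a b : Ω, ∃ g : G, σ a = g • a ∧ σ b = g • b) → ∃ g : G, ∀ a : Ω, σ a = g • a) :
    ∃ g : G, (orderOf g).Prime ∧ ∀ ω : Ω, g • ω ≠ ω := by
  classical
  haveI := htrans
  haveI := Fintype.ofFinite Ω
  haveI := Fact.mk hp
  by_cases hp2 : p = 2
  · subst hp2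
    obtain ⟨g, hg, hfix⟩ := CfsgLib.Derange.exists_derangement_prime_power (G := G) (Ω := Ω)
      Nat.prime_two (k := 3) (by norm_num) (by rw [← Nat.card_eq_fintype_card, hcard]; norm_num)
    exact ⟨g, by rw [hg]; exact Nat.prime_two, hfix⟩
  have hp3 : 3 ≤ p := by have := hp.two_le; omega
  obtain ⟨P⟩ : Nonempty (Sylow p G) := inferInstance
  haveI : Nonempty Ω := by
    refine (Nat.card_pos_iff.1 ?_).1
    rw [hcard]; have := hp.pos; positivity
  -- two orbits of size `p²`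
  have horb : ∀ ω : Ω, Nat.card (MulAction.orbit (P : Subgroup G) ω) = p ^ 2 := by
    intro ω
    have hd := CfsgLib.Derange.pow_dvd_card_orbit (k := 2) (by rw [← Nat.card_eq_fintype_card, hcard]; exact dvd_mul_left _ _) P ω
    obtain ⟨e, he⟩ := P.2.card_orbit ω
    rw [he] at hd ⊢
    have h2 : p ^ e ≤ 2 * p ^ 2 := by
      rw [← he, ← hcard]
      exact Nat.card_le_card_of_injective _ Subtype.val_injective
    have h2e : 2 ≤ e := (Nat.pow_dvd_pow_iff_le_right hp.one_lt).1 hd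
    rcases Nat.lt_or_ge 2 e with h | h
    · have := Nat.pow_le_pow_right hp.pos h
      rw [Nat.succ_eq_add_one, pow_succ] at this
      nlinarith [pow_pos hp.pos 2]
    · rw [show e = 2 by omega]
  have htwo : ∀ a b : Ω, b ∉ MulAction.orbit (P : Subgroup G) a → ∀ x, x ∉ MulAction.orbit (P : Subgroup G) a →
      x ∈ MulAction.orbit (P : Subgroup G) b := by
    intro a b hb x hx
    have hd : Disjoint (MulAction.orbit (P : Subgroup G) a) (MulAction.orbit (P : Subgroup G) b) :=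
      Set.disjoint_left.2 fun y hy hy' => hb (by
        rw [← MulAction.orbit_eq_iff.2 hy, MulAction.orbit_eq_iff.2 hy']; exact MulAction.mem_orbit_self b)
    have hu : MulAction.orbit (P : Subgroup G) a ∪ MulAction.orbit (P : Subgroup G) b = Set.univ := by
      refine Set.eq_of_subset_of_ncard_le (Set.subset_univ _) ?_ Set.finite_univ
      rw [Set.ncard_union_eq hd, Set.ncard_univ, ← Nat.card_coe_set_eq, ← Nat.card_coe_set_eq, horb, horb, hcard]
      omega
    have hx' : x ∈ MulAction.orbit (P : Subgroup G) a ∪ MulAction.orbit (P : Subgroup G) b := by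
      rw [hu]; trivial
    exact ((Set.mem_union _ _ _).1 hx').resolve_left hx
  -- a central element of order `p`
  obtain ⟨a₁⟩ := (inferInstance : Nonempty Ω)
  have hPne : Nontrivial (P : Subgroup G) := by
    by_contra hcon
    rw [not_nontrivial_iff_subsingleton] at hcon
    have h1 := horb a₁
    have h2 : Nat.card (MulAction.orbit (P : Subgroup G) a₁) ≤ 1 := by
      rw [Finite.card_le_one_iff_subsingleton]
      refine ⟨fun u v => Subtype.ext ?_⟩
      obtain ⟨u, g, rfl⟩ := u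
      obtain ⟨v, h, rfl⟩ := v
      rw [Subsingleton.elim g h]
    rw [h1] at h2
    nlinarith
  haveI := P.2.center_nontrivial
  obtain ⟨⟨z, hzc⟩, hz⟩ := exists_prime_orderOf_dvd_card' (G := Subgroup.center (P : Subgroup G)) p (by
    obtain ⟨m, hm, hm'⟩ := (P.2.to_subgroup (Subgroup.center (P : Subgroup G))).nontrivial_iff_card.1 this
    exact hm' ▸ dvd_pow_self p (by omega))
  have hzo : orderOf (z : G) = p := ((Subgroup.orderOf_coe z).trans (Subgroup.orderOf_coe (⟨z, hzc⟩ : Subgroup.center (P : Subgroup G)))).trans hz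
  have hzfix : ∀ a : Ω, z • a = a → ∀ x ∈ MulAction.orbit (P : Subgroup G) a, z • x = x := by
    rintro a ha _ ⟨g, rfl⟩
    show z • g • a = g • a
    rw [← mul_smul, ← Subgroup.mem_center_iff.1 hzc g, mul_smul, ha]
  by_cases hzall : ∀ ω : Ω, (z : G) • ω ≠ ω
  · exact ⟨z, by rw [hzo]; exact hp, hzall⟩
  push Not at hzall
  obtain ⟨b, hb⟩ := hzall
  obtain ⟨a, ha⟩ : ∃ a, (z : G) • a ≠ a := by
    by_contra h
    push Not at h
    rw [eq_of_smul_eq_smul (α := Ω) (fun y => by rw [h y, one_smul] : ∀ y : Ω, (z : G) • y = (1 : G) • y),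
      orderOf_one] at hzo
    omega
  set O₁ := MulAction.orbit (P : Subgroup G) a
  set O₂ := MulAction.orbit (P : Subgroup G) b
  have hzO₁ : ∀ x ∈ O₁, (z : G) • x ≠ x := fun x hx h =>
    ha (hzfix x h a (by rw [MulAction.orbit_eq_iff.2 hx]; exact MulAction.mem_orbit_self a))
  have hzO₂ : ∀ x ∈ O₂, (z : G) • x = x := hzfix b hb
  have hbO₁ : b ∉ O₁ := fun h => hzO₁ b h hb
  have hcover : ∀ x, x ∉ O₁ → x ∈ O₂ := htwo a b hbO₁
  -- the action on the second orbit and the block system on the first one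
  let r₂ := MulAction.toPermHom (P : Subgroup G) O₂
  set K := r₂.ker
  have hzK : z ∈ K := MonoidHom.mem_ker.2 (Equiv.ext fun x => Subtype.ext (hzO₂ x x.2))
  let a₀ : O₁ := ⟨a, MulAction.mem_orbit_self a⟩
  set B₀ : Set O₁ := MulAction.orbit K a₀ with hB₀
  have hblock : MulAction.IsBlock (P : Subgroup G) B₀ := MulAction.IsBlock.orbit_of_normal a₀
  let Bl := MulAction.orbit (P : Subgroup G) B₀
  have hBl : Nat.card Bl ≤ p := by
    have h := hblock.ncard_block_mul_ncard_orbit_eq ⟨a₀, MulAction.mem_orbit_self a₀⟩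
    rw [horb, ← Nat.card_coe_set_eq, ← Nat.card_coe_set_eq] at h
    have h2 : 1 < Nat.card B₀ := by
      rw [Finite.one_lt_card_iff_nontrivial]
      exact ⟨⟨⟨a₀, MulAction.mem_orbit_self a₀⟩, ⟨(⟨z, hzK⟩ : K) • a₀, MulAction.mem_orbit _ _⟩, fun e =>
        ha (congrArg (fun u : B₀ => ((u : O₁) : Ω)) e).symm⟩⟩
    obtain ⟨i, -, hi⟩ := (Nat.dvd_prime_pow hp).1 (Dvd.intro _ h : Nat.card B₀ ∣ p ^ 2)
    have hi1 : i ≠ 0 := by rintro rfl; rw [hi, pow_zero] at h2; omega
    have h3 : p ≤ Nat.card B₀ := by rw [hi]; exact Nat.le_self_pow hi1 p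
    by_contra hlt
    have := Nat.mul_le_mul h3 (Nat.succ_le_of_lt (not_le.1 hlt))
    change p * (p + 1) ≤ Nat.card B₀ * Nat.card (MulAction.orbit (P : Subgroup G) B₀) at this
    rw [h, Nat.mul_succ, pow_two] at this
    omega
  let χ := MulAction.toPermHom (P : Subgroup G) Bl
  set L := χ.ker
  have hLidx : Nat.card χ.range ≤ p := by
    obtain ⟨i, hi⟩ := IsPGroup.iff_card.1 (P.2.of_surjective χ.rangeRestrict χ.rangeRestrict_surjective)
    have h1 : p ^ i ∣ p.factorial := by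
      rw [← hi]
      refine (Subgroup.card_subgroup_dvd_card _).trans ?_
      rw [Nat.card_perm]
      exact Nat.factorial_dvd_factorial hBl
    rw [hi]
    by_contra hlt
    have hi2 : 2 ≤ i := by
      by_contra h
      exact hlt ((Nat.pow_le_pow_right hp.pos (by omega : i ≤ 1)).trans (pow_one p).le)
    have h2 := (pow_dvd_pow p hi2).trans h1
    rw [← Nat.mul_factorial_pred hp.ne_zero, pow_two] at h2
    have := (Nat.Prime.dvd_factorial hp).1 (Nat.dvd_of_mul_dvd_mul_left hp.pos h2)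
    omega
  have hLK : ¬ L ≤ K := by
    intro hle
    have h1 := Subgroup.index_dvd_of_le hle
    let b₀ : O₂ := ⟨b, MulAction.mem_orbit_self b⟩
    have h2 : (MulAction.stabilizer (P : Subgroup G) b₀).index ∣ K.index :=
      Subgroup.index_dvd_of_le fun g hg => by
        rw [MulAction.mem_stabilizer_iff]
        exact congrArg (fun σ : Equiv.Perm O₂ => σ b₀) (MonoidHom.mem_ker.1 hg)
    rw [MulAction.index_stabilizer_of_transitive, horb] at h2
    have h3 := Nat.le_of_dvd Nat.card_pos ((h2.trans h1).trans (dvd_of_eq (Subgroup.index_ker χ)))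
    nlinarith
  -- an element of `L` inducing a central element of order `p` on the second orbit
  have hne : L.map r₂.rangeRestrict ≠ ⊥ := fun h => hLK fun g hg => by
    have : r₂.rangeRestrict g ∈ L.map r₂.rangeRestrict := Subgroup.mem_map_of_mem _ hg
    rw [h, Subgroup.mem_bot] at this
    exact MonoidHom.mem_ker.2 (congrArg Subtype.val this)
  have hR : IsPGroup p r₂.range := P.2.of_surjective r₂.rangeRestrict r₂.rangeRestrict_surjective
  haveI : Group.IsNilpotent r₂.range := hR.isNilpotent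
  haveI : (L.map r₂.rangeRestrict).Normal :=
    Subgroup.Normal.map inferInstance _ r₂.rangeRestrict_surjective
  have hI := CfsgLib.PGroupBasic.inf_center_ne_bot (L.map r₂.rangeRestrict) hne
  haveI := (Subgroup.nontrivial_iff_ne_bot _).2 hI
  obtain ⟨w, hw⟩ := exists_prime_orderOf_dvd_card' (G := (L.map r₂.rangeRestrict ⊓ Subgroup.center r₂.range : Subgroup _)) p (by
    obtain ⟨m, hm, hm'⟩ := (hR.to_subgroup _).nontrivial_iff_card.1
      (inferInstance : Nontrivial (L.map r₂.rangeRestrict ⊓ Subgroup.center r₂.range : Subgroup _))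
    exact hm' ▸ dvd_pow_self p (by omega))
  obtain ⟨y, hyL, hy⟩ := (w.2.1 : (w : r₂.range) ∈ L.map r₂.rangeRestrict)
  have hwo : orderOf (r₂ y) = p := by
    refine Eq.trans ?_ hw
    rw [← MonoidHom.coe_rangeRestrict, hy, Subgroup.orderOf_coe, Subgroup.orderOf_coe]
  have hyO₂ : ∀ x ∈ O₂, (y : G) • x ≠ x := by
    intro x hx hfix
    have h1 : r₂ y = 1 := by
      refine Equiv.ext fun u => ?_
      obtain ⟨g, hg⟩ := MulAction.exists_smul_eq (P : Subgroup G) (⟨x, hx⟩ : O₂) u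
      have hc := congrArg (fun σ : r₂.range => (σ : Equiv.Perm O₂) ⟨x, hx⟩)
        (Subgroup.mem_center_iff.1 w.2.2 (r₂.rangeRestrict g))
      simp only [← hy, Subgroup.coe_mul, MonoidHom.coe_rangeRestrict] at hc
      have hyx : y • (⟨x, hx⟩ : O₂) = ⟨x, hx⟩ := Subtype.ext hfix
      have hc' : g • y • (⟨x, hx⟩ : O₂) = y • g • ⟨x, hx⟩ := hc
      rw [hyx, hg] at hc'
      exact hc'.symm
    rw [h1, orderOf_one] at hwo
    omega
  -- on each point of the first orbit `y` agrees with some element of `K`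
  have hcross : ∀ x ∈ O₁, ∃ g : G, g • x = (z : G) • x ∧ ∀ u ∈ O₂, g • u = (y : G) • u := by
    intro x hx
    obtain ⟨q, hq⟩ := MulAction.exists_smul_eq (P : Subgroup G) a₀ (⟨x, hx⟩ : O₁)
    have hqB : y • q • B₀ = q • B₀ :=
      congrArg (fun u : Bl => (u : Set O₁)) (congrArg (fun σ : Equiv.Perm Bl => σ ⟨q • B₀, MulAction.mem_orbit _ q⟩)
        (MonoidHom.mem_ker.1 hyL))
    have hyx : y • (⟨x, hx⟩ : O₁) ∈ q • B₀ := by
      rw [← hqB]
      exact Set.smul_mem_smul_set (hq ▸ Set.smul_mem_smul_set (MulAction.mem_orbit_self a₀))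
    obtain ⟨v, ⟨k, rfl⟩, hv⟩ := Set.mem_smul_set.1 hyx
    have hk : q * (k : (P : Subgroup G)) * q⁻¹ ∈ K := (inferInstance : K.Normal).conj_mem _ k.2 q
    have hkx : (q * (k : (P : Subgroup G)) * q⁻¹) • (⟨x, hx⟩ : O₁) = y • (⟨x, hx⟩ : O₁) := by
      rw [mul_smul, mul_smul, ← hq, inv_smul_smul]
      exact hv.trans (by rw [hq])
    have hk' := K.mul_mem hzK (K.inv_mem hk)
    refine ⟨((z * (q * (k : (P : Subgroup G)) * q⁻¹)⁻¹ * y : (P : Subgroup G)) : G), ?_, fun u hu => ?_⟩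
    · have : (z * (q * (k : (P : Subgroup G)) * q⁻¹)⁻¹ * y) • (⟨x, hx⟩ : O₁) = z • (⟨x, hx⟩ : O₁) := by
        rw [mul_smul, ← hkx, mul_smul, inv_smul_smul]
      exact congrArg Subtype.val this
    · have h1 := congrArg (fun σ : Equiv.Perm O₂ => σ (y • (⟨u, hu⟩ : O₂))) (MonoidHom.mem_ker.1 hk')
      exact congrArg Subtype.val
        (show (z * (q * (k : (P : Subgroup G)) * q⁻¹)⁻¹ * y) • (⟨u, hu⟩ : O₂) = y • ⟨u, hu⟩ by
          rw [mul_smul]; exact h1)
  -- glue
  let σ₀ : Ω → Ω := fun x => if x ∈ O₁ then (z : G) • x else (y : G) • x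
  have hσ₁ : ∀ x ∈ O₁, σ₀ x = (z : G) • x := fun x hx => if_pos hx
  have hσ₂ : ∀ x, x ∉ O₁ → σ₀ x = (y : G) • x := fun x hx => if_neg hx
  have hPO : ∀ (g : (P : Subgroup G)) x, ((g : G) • x ∈ O₁ ↔ x ∈ O₁) := fun g x => by
    rw [← MulAction.orbit_eq_iff, ← MulAction.orbit_eq_iff]
    show MulAction.orbit (P : Subgroup G) (g • x) = _ ↔ _
    rw [MulAction.orbit_smul]
  have hinj : Function.Injective σ₀ := by
    intro u v huv
    by_cases hu : u ∈ O₁ <;> by_cases hv : v ∈ O₁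
    · rw [hσ₁ u hu, hσ₁ v hv] at huv; exact MulAction.injective _ huv
    · rw [hσ₁ u hu, hσ₂ v hv] at huv; exact absurd ((hPO y v).1 (huv ▸ (hPO z u).2 hu)) hv
    · rw [hσ₂ u hu, hσ₁ v hv] at huv; exact absurd ((hPO y u).1 (huv ▸ (hPO z v).2 hv)) hu
    · rw [hσ₂ u hu, hσ₂ v hv] at huv; exact MulAction.injective _ huv
  obtain ⟨g, hg⟩ := hcl (Equiv.ofBijective σ₀ (Finite.injective_iff_bijective.1 hinj)) (by
    intro u v
    show ∃ g : G, σ₀ u = g • u ∧ σ₀ v = g • v
    by_cases hu : u ∈ O₁ <;> by_cases hv : v ∈ O₁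
    · exact ⟨z, hσ₁ u hu, hσ₁ v hv⟩
    · obtain ⟨g, hg1, hg2⟩ := hcross u hu
      exact ⟨g, by rw [hσ₁ u hu, hg1], by rw [hσ₂ v hv, hg2 v (hcover v hv)]⟩
    · obtain ⟨g, hg1, hg2⟩ := hcross v hv
      exact ⟨g, by rw [hσ₂ u hu, hg2 u (hcover u hu)], by rw [hσ₁ v hv, hg1]⟩
    · exact ⟨y, hσ₂ u hu, hσ₂ v hv⟩)
  have hg₁ : ∀ x ∈ O₁, g • x = (z : G) • x := fun x hx => (hg x).symm.trans (hσ₁ x hx)
  have hg₂ : ∀ x, x ∉ O₁ → g • x = (y : G) • x := fun x hx => (hg x).symm.trans (hσ₂ x hx)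
  have hgfix : ∀ ω : Ω, g • ω ≠ ω := by
    intro ω
    by_cases hω : ω ∈ O₁
    · rw [hg₁ ω hω]; exact hzO₁ ω hω
    · rw [hg₂ ω hω]; exact hyO₂ ω (hcover ω hω)
  have hpow : ∀ (n : ℕ) x, g ^ n • x = if x ∈ O₁ then (z : G) ^ n • x else (y : G) ^ n • x := by
    intro n
    induction n with
    | zero => intro x; simp
    | succ n ih =>
      intro x
      rw [pow_succ, mul_smul, ih, pow_succ (z : G), pow_succ (y : G), mul_smul, mul_smul]
      by_cases hx : x ∈ O₁
      · rw [if_pos hx, hg₁ x hx, if_pos ((hPO z x).2 hx)]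
      · rw [if_neg hx, hg₂ x hx, if_neg (fun h => hx ((hPO y x).1 h))]
  refine ⟨g, ?_, hgfix⟩
  rw [orderOf_eq_prime (p := p) (eq_of_smul_eq_smul (α := Ω) fun x => ?_) fun h => hgfix a (by rw [h, one_smul])]
  · exact hp
  rw [hpow, one_smul]
  by_cases hx : x ∈ O₁
  · rw [if_pos hx, orderOf_dvd_iff_pow_eq_one.1 hzo.dvd, one_smul]
  · rw [if_neg hx]
    have h1 : r₂ (y ^ p) = 1 := by rw [map_pow]; exact orderOf_dvd_iff_pow_eq_one.1 hwo.dvd
    exact congrArg (fun σ : Equiv.Perm O₂ => ((σ ⟨x, hcover x hx⟩ : O₂) : Ω)) h1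

end Cfsg.Agent.S3557
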