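import Cfsg.Statements.S3560
import Cfsg.Agent.Perm.Hamming

set_option autoImplicit false
open Cfsg

namespace Cfsg.Agent.S3560

/-- Let K be a finite group isomorphic to a direct product of r ≥ 2 groups all of the same order m ≥ 3. Then K is not a B-group: there is a primitive but not doubly transitive permutation group (on some finite set) containing a regular subgroup isomorphic to K. -/
theorem result {K : Type*} [Group K] [Finite K] {ι : Type*} [Fintype ι] (F : ι → Type*) [∀ i, Group (F i)]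
    (hr : 2 ≤ Fintype.card ι) (m : ℕ) (hm : 3 ≤ m) (hcard : ∀ i, Nat.card (F i) = m) (e : K ≃* (∀ i, F i)) :
    ∃ (n : ℕ) (G R : Subgroup (Equiv.Perm (Fin n))), R ≤ G ∧ Nonempty (↥R ≃* K) ∧
      MulAction.IsPretransitive ↥R (Fin n) ∧ (∀ a : Fin n, MulAction.stabilizer ↥R a = ⊥) ∧
      MulAction.IsPreprimitive ↥G (Fin n) ∧ ¬ MulAction.IsMultiplyPretransitive ↥G (Fin n) 2 := by
  classical
  have hfin : ∀ i, Finite (F i) := fun i => Nat.finite_of_card_ne_zero (by rw [hcard i]; omega)
  let φ : ∀ i, F i ≃ Fin m := fun i => Finite.equivFinOfCardEq (hcard i)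
  haveI : Nontrivial ι := Fintype.one_lt_card_iff_nontrivial.1 (by omega)
  haveI : Nontrivial (Fin m) := Fintype.one_lt_card_iff_nontrivial.1 (by rw [Fintype.card_fin]; omega)
  let eX := Fintype.equivFin (ι → Fin m)
  let ψ : Equiv.Perm (ι → Fin m) ≃* Equiv.Perm (Fin (Fintype.card (ι → Fin m))) := eX.permCongrHom
  have hψ : ∀ σ z, ψ σ (eX z) = eX (σ z) := fun σ z => by simp [ψ]
  let ρ : K →* Equiv.Perm (ι → Fin m) :=
    { toFun := fun k => Equiv.piCongrRight fun i => (φ i).permCongr (Equiv.mulLeft (e k i))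
      map_one' := by
        refine Equiv.ext fun z => funext fun i => ?_
        simp [Equiv.piCongrRight, Equiv.permCongr_apply]
      map_mul' := fun a b => by
        refine Equiv.ext fun z => funext fun i => ?_
        simp [Equiv.piCongrRight, Equiv.permCongr_apply, mul_assoc] }
  have hρ : ∀ k z i, ρ k z i = φ i (e k i * (φ i).symm (z i)) := fun k z i => rfl
  have hρinj : Function.Injective ρ := fun a b h => by
    refine e.injective (funext fun i => ?_)
    have := congrFun (congrArg (fun σ : Equiv.Perm (ι → Fin m) => σ (fun j => φ j 1)) h) i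
    simpa [hρ] using this
  let R := (ψ.toMonoidHom.comp ρ).range
  let G := (CfsgLib.Hamming.isom ι (Fin m)).map ψ.toMonoidHom
  refine ⟨_, G, R, ?_, ⟨(MonoidHom.ofInjective (ψ.injective.comp hρinj)).symm⟩, ⟨fun a b => ?_⟩,
    fun a => ?_, ?_, ?_⟩
  · rintro _ ⟨k, rfl⟩
    exact ⟨ρ k, CfsgLib.Hamming.piCongr_mem _, rfl⟩
  · obtain ⟨u, rfl⟩ := eX.surjective a
    obtain ⟨v, rfl⟩ := eX.surjective b
    let k : K := e.symm fun i => (φ i).symm (v i) * ((φ i).symm (u i))⁻¹
    refine ⟨⟨_, k, rfl⟩, ?_⟩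
    show ψ (ρ k) (eX u) = eX v
    rw [hψ]
    refine congrArg eX (funext fun i => ?_)
    rw [hρ]
    simp [k]
  · obtain ⟨u, rfl⟩ := eX.surjective a
    rw [eq_bot_iff]
    rintro ⟨_, k, rfl⟩ hk
    have h1 : ψ (ρ k) (eX u) = eX u := hk
    rw [hψ] at h1
    have hk1 : k = 1 := e.injective (funext fun i => by
      have h2 := congrFun (eX.injective h1) i
      rw [hρ] at h2
      rw [map_one, Pi.one_apply]
      have h3 := congrArg (φ i).symm h2
      rwa [Equiv.symm_apply_apply, mul_eq_right] at h3)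
    exact Subgroup.mem_bot.2 (Subtype.ext (by simp [hk1]))
  · haveI := CfsgLib.Hamming.isPreprimitive (ι := ι) (α := Fin m) (by rw [Fintype.card_fin]; exact hm)
    exact MulAction.IsPreprimitive.of_surjective
      (f := ({ toFun := eX, map_smul' := fun g z => (hψ g.1 z).symm } :
        (ι → Fin m) →ₑ[fun g : CfsgLib.Hamming.isom ι (Fin m) => (⟨ψ g.1, g.1, g.2, rfl⟩ : G)]
          Fin (Fintype.card (ι → Fin m))))
      eX.surjective
  · intro h
    refine CfsgLib.Hamming.not_two_transitive (ι := ι) (α := Fin m) (MulAction.is_two_pretransitive_iff.2 ?_)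
    intro a b c d hab hcd
    have h' : ∀ {a b c d : Fin (Fintype.card (ι → Fin m))}, a ≠ b → c ≠ d → ∃ g : G, g • a = c ∧ g • b = d :=
      MulAction.is_two_pretransitive_iff.1 h
    obtain ⟨⟨_, σ, hσ, rfl⟩, hg1, hg2⟩ := h' (eX.injective.ne hab) (eX.injective.ne hcd)
    refine ⟨⟨σ, hσ⟩, eX.injective ?_, eX.injective ?_⟩
    · exact (hψ σ a).symm.trans hg1
    · exact (hψ σ b).symm.trans hg2

end Cfsg.Agent.S3560
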