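import Cfsg.Statements.S3573
import Mathlib.GroupTheory.Perm.Cycle.PossibleTypes
import Mathlib.Data.Nat.Choose.Lucas

set_option autoImplicit false
open Cfsg

namespace Cfsg.Agent.S3573

/-- Let 1 ≤ k with 2k < n and consider the symmetric group of degree n acting on the k-subsets of an n-set. Let r be a prime dividing the number C(n,k) of k-subsets. If r is odd, then every permutation of order r fixes some k-subset if and only if r ≤ k and the remainder of k modulo r is at most the remainder of n modulo r. If r = 2, then every involution fixes some k-subset if and only if k is even or n is odd. -/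
theorem result (n k : ℕ) (hk : 1 ≤ k) (hkn : 2 * k < n) (r : ℕ) (hr : r.Prime) (hrd : r ∣ Nat.choose n k) :
    (r ≠ 2 → ((∀ σ : Equiv.Perm (Fin n), orderOf σ = r → ∃ s : Finset (Fin n), s.card = k ∧ s.image σ = s) ↔
      (r ≤ k ∧ k % r ≤ n % r))) ∧
    (r = 2 → ((∀ σ : Equiv.Perm (Fin n), orderOf σ = 2 → ∃ s : Finset (Fin n), s.card = k ∧ s.image σ = s) ↔
      (Even k ∨ Odd n))) := by
  haveI := Fact.mk hr
  have hr2 := hr.two_le
  have hk' : k ≤ n := by omega
  -- the remainders decide
  have key : (∀ σ : Equiv.Perm (Fin n), orderOf σ = r →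
      ∃ s : Finset (Fin n), s.card = k ∧ s.image σ = s) ↔ k % r ≤ n % r := by
    constructor
    · intro h
      by_cases hc : n / r = 0
      · have := (Nat.div_eq_zero_iff).1 hc
        rw [Nat.mod_eq_of_lt (show n < r by omega), Nat.mod_eq_of_lt (show k < r by omega)]
        omega
      obtain ⟨σ, hσ⟩ := (Equiv.Perm.exists_with_cycleType_iff (Fin n)
        (m := Multiset.replicate (n / r) r)).2 ⟨by
          rw [Multiset.sum_replicate, smul_eq_mul, Fintype.card_fin]; exact Nat.div_mul_le_self n r,
          fun a ha => by rw [Multiset.eq_of_mem_replicate ha]; exact hr2⟩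
      have hpow : σ ^ r = 1 := Equiv.Perm.pow_prime_eq_one_iff.2 fun c hc' => by
        rw [hσ] at hc'; exact Multiset.eq_of_mem_replicate hc'
      have hord : orderOf σ = r := orderOf_eq_prime hpow fun e => hc (by
        have := congrArg Multiset.card hσ
        rw [e, Equiv.Perm.cycleType_one, Multiset.card_zero, Multiset.card_replicate] at this
        exact this.symm)
      obtain ⟨s, hs, hsσ⟩ := h σ hord
      have hinv : ∀ x, σ x ∈ s ↔ x ∈ s := fun x => by
        conv_lhs => rw [← hsσ, Finset.mem_image]
        exact ⟨fun ⟨y, hy, e⟩ => σ.injective e ▸ hy, fun hx => ⟨x, hx, rfl⟩⟩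
      set τ := σ.subtypePerm hinv with hτdef
      have hτ : τ ^ r = 1 := by
        rw [hτdef, Equiv.Perm.subtypePerm_pow]
        ext x; simp [hpow]
      have h1 := Equiv.Perm.card_compl_support_modEq (p := r) (n := 1) (σ := τ) (by rwa [pow_one])
      rw [Fintype.card_coe, hs] at h1
      have h2 : τ.supportᶜ.card ≤ σ.supportᶜ.card := by
        refine Finset.card_le_card_of_injOn Subtype.val (fun x hx => ?_)
          (fun _ _ _ _ e => Subtype.ext e)
        rw [Finset.mem_coe, Finset.mem_compl, Equiv.Perm.mem_support, not_not] at hx ⊢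
        exact congrArg Subtype.val hx
      rw [Finset.card_compl σ.support, Fintype.card_fin, ← Equiv.Perm.sum_cycleType, hσ,
        Multiset.sum_replicate, smul_eq_mul] at h2
      have h3 : τ.supportᶜ.card % r = k % r := h1
      have h4 : n - n / r * r = n % r := by
        have := Nat.div_add_mod n r; rw [mul_comm] at this; omega
      have h5 := Nat.mod_le τ.supportᶜ.card r
      omega
    · intro hle σ hσ
      obtain ⟨c, hc⟩ := Equiv.Perm.cycleType_prime_order (hσ.symm ▸ hr : (orderOf σ).Prime)
      rw [hσ] at hc
      set C := σ.cycleFactorsFinset with hC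
      have hCc : C.card = c + 1 := by
        have := congrArg Multiset.card hc
        rw [Equiv.Perm.cycleType_def, Multiset.card_map, Multiset.card_replicate] at this
        exact this
      have hlen : ∀ f ∈ C, f.support.card = r := fun f hf =>
        Multiset.eq_of_mem_replicate (n := c + 1) (by
          rw [← hc, Equiv.Perm.cycleType_def]; exact Multiset.mem_map_of_mem _ hf)
      have hsupp : σ.support.card = (c + 1) * r := by
        rw [← Equiv.Perm.sum_cycleType, hc, Multiset.sum_replicate, smul_eq_mul]
      have hcn : (c + 1) * r ≤ n := by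
        rw [← hsupp]; exact (Finset.card_le_univ _).trans_eq (Fintype.card_fin n)
      set j := min (c + 1) (k / r) with hj
      obtain ⟨T, hTC, hTc⟩ := Finset.exists_subset_card_eq (show j ≤ C.card by rw [hCc]; omega)
      have hfree : k - j * r ≤ σ.supportᶜ.card := by
        rw [Finset.card_compl, hsupp, Fintype.card_fin]
        rcases Nat.le_total (c + 1) (k / r) with h | h
        · rw [hj, min_eq_left h]; omega
        · rw [hj, min_eq_right h]
          have h1 := Nat.div_add_mod k r
          rw [mul_comm] at h1
          have h2 : n % r ≤ n - (c + 1) * r := by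
            have := Nat.mod_le (n - (c + 1) * r) r
            rw [mul_comm, Nat.sub_mul_mod (by rw [mul_comm]; exact hcn)] at this; rwa [mul_comm]
          omega
      obtain ⟨F, hF, hFc⟩ := Finset.exists_subset_card_eq hfree
      have hdisj : (T : Set (Equiv.Perm (Fin n))).PairwiseDisjoint Equiv.Perm.support :=
        fun f hf g hg hfg => Equiv.Perm.disjoint_iff_disjoint_support.1
          (σ.cycleFactorsFinset_pairwise_disjoint (hTC hf) (hTC hg) hfg)
      have hTsub : T.biUnion Equiv.Perm.support ⊆ σ.support := Finset.biUnion_subset.2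
        fun f hf => Equiv.Perm.mem_cycleFactorsFinset_support_le (hTC hf)
      have hjk : j * r ≤ k := by
        have := Nat.div_mul_le_self k r
        exact (Nat.mul_le_mul_right r (min_le_right _ _)).trans this
      refine ⟨T.biUnion Equiv.Perm.support ∪ F, ?_, ?_⟩
      · rw [Finset.card_union_of_disjoint, Finset.card_biUnion hdisj,
          Finset.sum_const_nat (fun f hf => hlen f (hTC hf)), hTc, hFc]
        · omega
        · exact Finset.disjoint_left.2 fun x hx hx' => Finset.mem_compl.1 (hF hx') (hTsub hx)
      · refine Finset.eq_of_subset_of_card_le ?_ (by rw [Finset.card_image_of_injective _ σ.injective])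
        intro y hy
        obtain ⟨x, hx, rfl⟩ := Finset.mem_image.1 hy
        rcases Finset.mem_union.1 hx with hx | hx
        · obtain ⟨f, hf, hfx⟩ := Finset.mem_biUnion.1 hx
          refine Finset.mem_union_left _ (Finset.mem_biUnion.2 ⟨f, hf, ?_⟩)
          rw [← (Equiv.Perm.mem_cycleFactorsFinset_iff.1 (hTC hf)).2 x hfx]
          exact Equiv.Perm.apply_mem_support.2 hfx
        · refine Finset.mem_union_right _ ?_
          rwa [Equiv.Perm.notMem_support.1 (Finset.mem_compl.1 (hF hx))]
  constructor
  · intro _
    rw [key]
    refine ⟨fun h => ⟨?_, h⟩, fun h => h.2⟩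
    by_contra hlt
    rw [Nat.mod_eq_of_lt (show k < r by omega)] at h
    have hm := Choose.choose_modEq_choose_mod_mul_choose_div_nat (p := r) (n := n) (k := k)
    rw [Nat.mod_eq_of_lt (show k < r by omega), Nat.div_eq_of_lt (show k < r by omega),
      Nat.choose_zero_right, mul_one] at hm
    have h0 : r ∣ Nat.choose (n % r) k := Nat.modEq_zero_iff_dvd.1
      (hm.symm.trans (Nat.modEq_zero_iff_dvd.2 hrd))
    have h1 : r ∣ (n % r).factorial :=
      h0.trans (Nat.choose_mul_factorial_mul_factorial h ▸ dvd_mul_of_dvd_left (dvd_mul_right _ _) _)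
    exact absurd ((Nat.Prime.dvd_factorial hr).1 h1) (not_le.2 (Nat.mod_lt n hr.pos))
  · intro h2
    subst h2
    rw [key, Nat.even_iff, Nat.odd_iff]
    omega

end Cfsg.Agent.S3573
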