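import Cfsg.Statements.S3575
import Cfsg.Agent.PartitionFix.Basic
import Mathlib.Combinatorics.Enumerative.Bell

set_option autoImplicit false
open Cfsg CfsgLib.PartitionFix

namespace Cfsg.Agent.S3575

/-- Let a, b ≥ 2 and consider the symmetric group of degree a·b acting on the partitions of an (a·b)-set into b parts of size a (encoded as maps onto a b-element set all of whose fibres have a elements; a permutation fixes such a partition when it permutes the fibres). Let r be a prime dividing the number (ab)!/((a!)^b·b!) of such partitions, and let ℓ and k be the remainders of a and b modulo r. Then every permutation of order r fixes some such partition if and only if r ≤ a and one of the following holds: ℓ = 0; or k = 0 and ℓ = 1; or ℓ and k are non-zero, k·ℓ < r, and either b < r or (k + r)·ℓ ≤ k·a + r. -/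
theorem result (a b : ℕ) (ha : 2 ≤ a) (hb : 2 ≤ b) (r : ℕ) (hr : r.Prime)
    (hrd : r ∣ (a * b).factorial / (a.factorial ^ b * b.factorial)) :
    (∀ σ : Equiv.Perm (Fin (a * b)), orderOf σ = r →
        ∃ f : Fin (a * b) → Fin b, (∀ j : Fin b, Nat.card {x : Fin (a * b) // f x = j} = a) ∧
          ∃ π : Equiv.Perm (Fin b), ∀ x : Fin (a * b), f (σ x) = π (f x)) ↔
      (r ≤ a ∧ (a % r = 0 ∨ (b % r = 0 ∧ a % r = 1) ∨
        (a % r ≠ 0 ∧ b % r ≠ 0 ∧ (b % r) * (a % r) < r ∧ (b < r ∨ (b % r + r) * (a % r) ≤ (b % r) * a + r)))) := by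
  classical
  have hX : Fintype.card (Fin (a * b)) = a * b := Fintype.card_fin _
  have hrab : r ≤ a * b := by
    refine (hr.dvd_factorial).1 (hrd.trans (Nat.div_dvd_of_dvd ⟨Nat.uniformBell b a, ?_⟩))
    have h := Nat.uniformBell_mul_eq b (n := a) (by omega)
    rw [mul_comm b a] at h
    rw [← h]; ring
  have ha' : r * (a / r) + a % r = a := Nat.div_add_mod a r
  have hb' : r * (b / r) + b % r = b := Nat.div_add_mod b r
  have hkr : b % r < r := Nat.mod_lt _ hr.pos
  have key : ∀ (t j : ℕ), (j * r ≤ b ∧ a * j ≤ t ∧ (b - j * r) * (a % r) + r * t ≤ a * b) ↔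
      (j ≤ b / r ∧ a * j ≤ t ∧ t ≤ b * (a / r) + j * (a % r)) := by
    intro t j
    rw [Nat.le_div_iff_mul_le hr.pos]
    refine and_congr_right fun hj => and_congr_right fun _ => ?_
    set q := a / r
    set l := a % r
    obtain ⟨c, hc⟩ := Nat.exists_eq_add_of_le hj
    rw [hc, Nat.add_sub_cancel_left]
    have h1 : a * (j * r + c) = r * ((j * r + c) * q + j * l) + c * l := by rw [← ha']; ring
    rw [h1, add_comm, Nat.add_le_add_iff_right]
    exact Nat.mul_le_mul_left_iff hr.pos
  have exσ : ∀ t, 1 ≤ t → r * t ≤ a * b → ∃ σ : Equiv.Perm (Fin (a * b)),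
      orderOf σ = r ∧ σ.support.card = r * t := by
    intro t ht htle
    obtain ⟨σ, hσ⟩ := (Equiv.Perm.exists_with_cycleType_iff (α := Fin (a * b))
      (m := Multiset.replicate t r)).2 ⟨by rw [Multiset.sum_replicate, smul_eq_mul, hX, mul_comm]; exact htle,
        fun x hx => by rw [Multiset.eq_of_mem_replicate hx]; exact hr.two_le⟩
    have hs : σ.support.card = r * t := by
      rw [← Equiv.Perm.sum_cycleType, hσ, Multiset.sum_replicate, smul_eq_mul, mul_comm]
    refine ⟨σ, ?_, hs⟩
    have hd : orderOf σ ∣ r := by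
      rw [← Equiv.Perm.lcm_cycleType, hσ]
      exact Multiset.lcm_dvd.2 fun x hx => (Multiset.eq_of_mem_replicate hx).dvd
    refine ((Nat.dvd_prime hr).1 hd).resolve_left fun h => ?_
    rw [orderOf_eq_one_iff.1 h] at hs
    rw [Equiv.Perm.support_one, Finset.card_empty] at hs
    have := Nat.mul_pos hr.pos (show 0 < t by omega)
    omega
  have fix_iff : ∀ (σ : Equiv.Perm (Fin (a * b))) (t : ℕ), orderOf σ = r → σ.support.card = r * t →
      (FixesPartition a b σ ↔ ∃ j, j ≤ b / r ∧ a * j ≤ t ∧ t ≤ b * (a / r) + j * (a % r)) := by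
    intro σ t hσ hs
    rw [fixes_iff ha hr (by rw [← hσ]; exact pow_orderOf_eq_one σ) hs hX]
    exact exists_congr fun j => key t j
  constructor
  · intro hall
    have bad : ∀ t, 1 ≤ t → r * t ≤ a * b →
        ∃ j, j ≤ b / r ∧ a * j ≤ t ∧ t ≤ b * (a / r) + j * (a % r) := by
      intro t h1 h2
      obtain ⟨σ, hσ, hs⟩ := exσ t h1 h2
      exact (fix_iff σ t hσ hs).1 (hall σ hσ)
    have hra : r ≤ a := by
      by_contra h
      obtain ⟨j, -, h2, h3⟩ := bad 1 le_rfl (by simpa using hrab)
      rw [Nat.div_eq_of_lt (by omega : a < r)] at h3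
      rcases Nat.eq_zero_or_pos j with rfl | hj
      · simp at h3
      · have := Nat.le_mul_of_pos_right a hj
        omega
    refine ⟨hra, ?_⟩
    set q := a / r
    set l := a % r
    set B := b / r
    set k := b % r
    by_cases hl0 : l = 0
    · exact Or.inl hl0
    have h1 : a * b = r * (b * q + B * l) + k * l := by
      rw [show a * b = b * (r * q + l) by rw [ha', mul_comm]]
      nth_rw 2 [← hb']
      nth_rw 1 [← hb']
      ring
    have hkl : k * l < r := by
      by_contra h
      push Not at h
      obtain ⟨j, h2, -, h3⟩ := bad (b * q + B * l + 1) (by omega) (by rw [h1, mul_add, mul_one]; omega)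
      have := Nat.mul_le_mul_right l h2
      omega
    have hB : 1 ≤ B → l ≤ k * q + 1 := by
      intro hB
      by_contra h
      obtain ⟨B', hB'⟩ := Nat.exists_eq_add_of_le' hB
      have hBl : B * l = B' * l + l := by rw [hB', add_mul, one_mul]
      obtain ⟨j, h2, h4, h3⟩ := bad (b * q + B' * l + 1) (by omega) (by
        rw [h1, hBl, mul_add, mul_add, mul_one, mul_add, mul_add]
        have := Nat.le_mul_of_pos_right r (show 0 < l by omega)
        omega)
      rcases Nat.lt_or_ge j B with hjB | hjB
      · have := Nat.mul_le_mul_right l (show j ≤ B' by omega)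
        omega
      · obtain rfl : j = B := le_antisymm h2 hjB
        have h5 : a * B = r * q * B + B * l := by rw [← ha']; ring
        have h6 : b * q = r * q * B + k * q := by rw [← hb']; ring
        omega
    rcases Nat.eq_zero_or_pos k with hk0 | hk0
    · refine Or.inr (Or.inl ⟨hk0, ?_⟩)
      have hB1 : 1 ≤ B := by
        rcases Nat.eq_zero_or_pos B with hB0 | hB0
        · simp only [hB0, hk0, mul_zero, add_zero] at hb'; omega
        · exact hB0
      have := hB hB1
      simp only [hk0, zero_mul] at this
      omega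
    · refine Or.inr (Or.inr ⟨hl0, by omega, hkl, ?_⟩)
      rcases Nat.eq_zero_or_pos B with hB0 | hB0
      · left
        simp only [hB0, mul_zero, zero_add] at hb'; omega
      · right
        have h5 : (k + r) * l = k * l + r * l := add_mul _ _ _
        have h6 : k * a + r = k * l + r * (k * q + 1) := by rw [← ha']; ring
        have := Nat.mul_le_mul_left r (hB hB0)
        omega
  · rintro ⟨hra, hcrit⟩ σ hσ
    obtain ⟨t, ht1, hs⟩ := exists_support_eq_mul hr hσ
    refine (fix_iff σ t hσ hs).2 ?_
    have htle : r * t ≤ a * b := by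
      have := Finset.card_le_univ σ.support
      rw [hX] at this; omega
    set q := a / r
    set l := a % r
    set B := b / r
    set k := b % r
    rcases Nat.lt_or_ge (b * q) t with htq | htq
    swap
    · exact ⟨0, Nat.zero_le _, by simp, by simpa using htq⟩
    obtain ⟨s, rfl⟩ := Nat.exists_eq_add_of_lt htq
    have h1 : a * b = r * (b * q) + (r * (B * l) + k * l) := by
      rw [show a * b = b * (r * q + l) by rw [ha', mul_comm]]
      nth_rw 2 [← hb']
      nth_rw 1 [← hb']
      ring
    rw [h1, show r * (b * q + s + 1) = r * (b * q) + r * (s + 1) by ring] at htle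
    have hl0 : l ≠ 0 := by
      intro h
      rw [h, mul_zero, mul_zero, mul_zero] at htle
      have := Nat.mul_pos hr.pos (show 0 < s + 1 by omega)
      omega
    have hkl : k * l < r ∧ (B = 0 ∨ l ≤ k * q + 1) := by
      rcases hcrit with h | ⟨hk, hl⟩ | ⟨-, hk, hkl, h⟩
      · exact absurd h hl0
      · rw [hk, hl]; exact ⟨by simpa using hr.pos, Or.inr (by simp)⟩
      · refine ⟨hkl, ?_⟩
        rcases h with h | h
        · exact Or.inl (Nat.div_eq_of_lt h)
        · right
          have h5 : (k + r) * l = k * l + r * l := add_mul _ _ _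
          have h6 : k * a + r = k * l + r * (k * q + 1) := by rw [← ha']; ring
          exact Nat.le_of_mul_le_mul_left (by omega : r * l ≤ r * (k * q + 1)) hr.pos
    have hsB : s + 1 ≤ B * l := by
      by_contra h
      have := Nat.mul_le_mul_left r (show B * l + 1 ≤ s + 1 by omega)
      rw [mul_add r (B * l), mul_one] at this
      omega
    refine ⟨s / l + 1, ?_, ?_, ?_⟩
    · exact Nat.succ_le_of_lt ((Nat.div_lt_iff_lt_mul (by omega)).2 (by omega))
    · have hj : s / l + 1 ≤ B :=
        Nat.succ_le_of_lt ((Nat.div_lt_iff_lt_mul (by omega)).2 (by omega))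
      have h2 : a * (s / l + 1) = r * q * (s / l + 1) + (s / l * l + l) := by rw [← ha']; ring
      have h3 : b * q = r * q * B + k * q := by rw [← hb']; ring
      have h4 := Nat.div_mul_le_self s l
      have h5 := Nat.mul_le_mul_left (r * q) hj
      have hl1 : l ≤ k * q + 1 := hkl.2.resolve_left (by
        intro h; rw [h] at hsB; simp at hsB)
      omega
    · have h4 := Nat.lt_div_mul_add (a := s) (show 0 < l by omega)
      rw [add_mul, one_mul]
      omega

end Cfsg.Agent.S3575
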