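import Cfsg.Statements.S3592
import Cfsg.Agent.SmallSimple.M11Nse
import Cfsg.Agent.Golay.M11Fusion

set_option autoImplicit false
open Cfsg

namespace Cfsg.Agent.S3592

/-- Let M be the Mathieu group M₁₁ (order 7920). If a finite group G has the same order as M and the same set of values of the function 'number of elements of order n' (taken over the element orders n that occur), then G is isomorphic to M. -/
theorem result {G : Type*} [Group G] [Finite G]
    (hcard : Nat.card G = Nat.card ↥Cfsg.Spor.M11)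
    (hnse : {c : ℕ | 0 < c ∧ ∃ n : ℕ, c = Nat.card {g : G // orderOf g = n}} =
      {c : ℕ | 0 < c ∧ ∃ n : ℕ, c = Nat.card {g : ↥Cfsg.Spor.M11 // orderOf g = n}}) :
    Nonempty (G ≃* ↥Cfsg.Spor.M11) := by
  have hM := CfsgLib.Golay.card_M11
  haveI := CfsgLib.Golay.isSimple_M11
  have hG : Nat.card G = 7920 := hcard.trans hM
  have havoid : ∀ m, CfsgLib.M11Nse.cnt G m ≠ 4 ∧ CfsgLib.M11Nse.cnt G m ≠ 10 ∧
      CfsgLib.M11Nse.cnt G m ≠ 120 ∧ CfsgLib.M11Nse.cnt G m ≠ 450 := by
    intro m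
    rcases Nat.eq_zero_or_pos (CfsgLib.M11Nse.cnt G m) with h | h
    · omega
    · obtain ⟨-, n, hn⟩ := (Set.ext_iff.1 hnse (CfsgLib.M11Nse.cnt G m)).1 ⟨h, m, rfl⟩
      rw [hn]
      exact CfsgLib.M11Nse.cnt_avoid hM n
  haveI := CfsgLib.M11Nse.isSimple_of_avoid hG havoid
  exact CfsgLib.M11Uniq.nonempty_equiv hM hG

end Cfsg.Agent.S3592
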