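import Cfsg.Statements.S3593
import Cfsg.Agent.M12Nse.NineIso
import Cfsg.Agent.M12Nse.Model

set_option autoImplicit false
open Cfsg

namespace Cfsg.Agent.S3593

/-- Let M be the Mathieu group M₁₂ (order 95040). If a finite group G has the same order as M and the same set of values of the function 'number of elements of order n' (taken over the element orders n that occur), then G is isomorphic to M. -/
theorem result {G : Type*} [Group G] [Finite G]
    (hcard : Nat.card G = Nat.card ↥Cfsg.Spor.M12)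
    (hnse : {c : ℕ | 0 < c ∧ ∃ n : ℕ, c = Nat.card {g : G // orderOf g = n}} =
      {c : ℕ | 0 < c ∧ ∃ n : ℕ, c = Nat.card {g : ↥Cfsg.Spor.M12 // orderOf g = n}}) :
    Nonempty (G ≃* ↥Cfsg.Spor.M12) := by
  refine CfsgLib.M12Nse.Counts.iso_M12 ⟨hcard.trans CfsgLib.Golay.SylowCert.card_M12, fun n => ?_⟩
  rcases Nat.eq_zero_or_pos (CfsgLib.M11Nse.cnt G n) with h | h
  · rw [h]; simp
  · have hmem : CfsgLib.M11Nse.cnt G n ∈ {c : ℕ | 0 < c ∧ ∃ n : ℕ, c = Nat.card {g : G // orderOf g = n}} :=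
      ⟨h, n, rfl⟩
    rw [hnse] at hmem
    obtain ⟨-, m, hm⟩ := hmem
    rw [hm]
    change CfsgLib.M11Nse.cnt Spor.M12 m ∈ _
    rw [CfsgLib.M12Nse.cnt_model]
    exact CfsgLib.M12Nse.cval_mem m

end Cfsg.Agent.S3593
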