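import Cfsg.Statements.S3594
import Cfsg.Agent.M22Id.Iso
import Cfsg.Agent.M22Id.Nse
import Cfsg.Agent.M22Id.ModelCount

set_option autoImplicit false
open Cfsg

namespace Cfsg.Agent.S3594

/-- Let M be the Mathieu group M₂₂ (order 443520). If a finite group G has the same order as M and the same set of values of the function 'number of elements of order n' (taken over the element orders n that occur), then G is isomorphic to M. -/
theorem result {G : Type*} [Group G] [Finite G]
    (hcard : Nat.card G = Nat.card ↥Cfsg.Spor.M22)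
    (hnse : {c : ℕ | 0 < c ∧ ∃ n : ℕ, c = Nat.card {g : G // orderOf g = n}} =
      {c : ℕ | 0 < c ∧ ∃ n : ℕ, c = Nat.card {g : ↥Cfsg.Spor.M22 // orderOf g = n}}) :
    Nonempty (G ≃* ↥Cfsg.Spor.M22) := by
  open CfsgLib.M22Id CfsgLib.M11Nse in
  have hM : Nse ↥Cfsg.Spor.M22 :=
    { card := CfsgLib.Golay.SylowCert.card_M22
      vals := fun n => by
        rw [cnt_model]; unfold cval; split <;> simp
      all := fun c hc => by
        simp only [Finset.mem_insert, Finset.mem_singleton] at hc
        rcases hc with rfl | rfl | rfl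
        exacts [⟨6, cnt_model 6⟩, ⟨4, cnt_model 4⟩, ⟨8, cnt_model 8⟩] }
  open CfsgLib.M22Id CfsgLib.M11Nse in
  have hG : Nse G := by
    have hiff : ∀ c, (0 < c ∧ ∃ n, c = cnt G n) ↔ (0 < c ∧ ∃ n, c = cnt ↥Cfsg.Spor.M22 n) :=
      fun c => Set.ext_iff.1 hnse c
    refine ⟨hcard.trans hM.card, fun n => ?_, fun c hc => ?_⟩
    · rcases Nat.eq_zero_or_pos (cnt G n) with h | h
      · rw [h]; simp
      · obtain ⟨-, m, hm⟩ := (hiff _).1 ⟨h, n, rfl⟩
        rw [hm]; exact hM.vals m
    · obtain ⟨m, hm⟩ := hM.all c hc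
      have hpos : 0 < c := by
        simp only [Finset.mem_insert, Finset.mem_singleton] at hc
        omega
      obtain ⟨-, n, hn⟩ := (hiff c).2 ⟨hpos, m, hm.symm⟩
      exact ⟨n, hn.symm⟩
  exact CfsgLib.M22Id.iso_of_counts hG.counts hM.counts

end Cfsg.Agent.S3594
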