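import Cfsg.Statements.S3595
import Cfsg.Agent.M23Nse.Model
import Cfsg.Agent.M23Nse.TwoThree
import Cfsg.Agent.M23Nse.KernOfLocal
import Cfsg.Agent.M23Nse.NormE.Main

set_option autoImplicit false
open Cfsg

namespace Cfsg.Agent.S3595

open CfsgLib.ThreeCounts CfsgLib.M23Nse in
theorem nse_of_model {G : Type*} [Group G] [Finite G]
    (hcard : Nat.card G = Nat.card ↥Cfsg.Spor.M23)
    (hnse : {c : ℕ | 0 < c ∧ ∃ n : ℕ, c = Nat.card {g : G // orderOf g = n}} =
      {c : ℕ | 0 < c ∧ ∃ n : ℕ, c = Nat.card {g : ↥Cfsg.Spor.M23 // orderOf g = n}}) : Nse G where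
  card := hcard.trans CfsgLib.Golay.SylowCert.card_M23
  val n hn := by
    have h : cnt G n ∈ {c : ℕ | 0 < c ∧ ∃ n : ℕ, c = Nat.card {g : ↥Cfsg.Spor.M23 // orderOf g = n}} := by
      rw [← hnse]
      exact ⟨Nat.pos_of_ne_zero hn, n, rfl⟩
    obtain ⟨hpos, m, hm⟩ := h
    change cnt G n = cnt ↥Cfsg.Spor.M23 m at hm
    rw [Model.cnt_model] at hm
    rw [hm] at hpos ⊢
    unfold Model.cval at hpos ⊢
    split at hpos <;> first | decide | omega
  att v hv := by
    obtain ⟨m, hm⟩ : ∃ m, Model.cval m = v := by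
      simp only [valSet, Finset.mem_insert, Finset.mem_singleton] at hv
      rcases hv with rfl | rfl | rfl | rfl | rfl | rfl | rfl | rfl | rfl | rfl | rfl
      exacts [⟨1, rfl⟩, ⟨2, rfl⟩, ⟨3, rfl⟩, ⟨4, rfl⟩, ⟨5, rfl⟩, ⟨6, rfl⟩, ⟨23, rfl⟩, ⟨8, rfl⟩, ⟨15, rfl⟩,
        ⟨7, rfl⟩, ⟨11, rfl⟩]
    have hpos : 0 < v := (by decide : ∀ w ∈ valSet, 0 < w) v hv
    have h : v ∈ {c : ℕ | 0 < c ∧ ∃ n : ℕ, c = Nat.card {g : G // orderOf g = n}} := by
      rw [hnse]
      exact ⟨hpos, m, hm.symm.trans (Model.cnt_model m).symm⟩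
    obtain ⟨-, n, hn⟩ := h
    exact ⟨n, hn.symm⟩

/-- Let M be the Mathieu group M₂₃ (order 10200960). If a finite group G has the same order as M and the same set of values of the function 'number of elements of order n' (taken over the element orders n that occur), then G is isomorphic to M. -/
theorem result {G : Type*} [Group G] [Finite G]
    (hcard : Nat.card G = Nat.card ↥Cfsg.Spor.M23)
    (hnse : {c : ℕ | 0 < c ∧ ∃ n : ℕ, c = Nat.card {g : G // orderOf g = n}} =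
      {c : ℕ | 0 < c ∧ ∃ n : ℕ, c = Nat.card {g : ↥Cfsg.Spor.M23 // orderOf g = n}}) :
    Nonempty (G ≃* ↥Cfsg.Spor.M23) := by
  open CfsgLib.M23Nse in
  exact iso_of_kern (nse_of_model hcard hnse).toLocal.toKern

end Cfsg.Agent.S3595
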