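import Cfsg.Statements.S3598
import Cfsg.Agent.PSLTwoRecog.Frame
import Cfsg.Agent.PSLTwoRecog.Multiplicities
import Cfsg.Agent.InvChar.OneSixtyEight
-- import your own Cfsg.Agent.* helpers here

set_option autoImplicit false
set_option linter.style.haveILetI false
open Cfsg

namespace Cfsg.Agent.S3598

/-- Let p be a prime and F a field with p² elements. If a finite group G has, for every d, the same number of irreducible complex characters of degree d as PSL(2,F) (the same first column of the character table, with multiplicities), then G is isomorphic to PSL(2,F). -/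
theorem result {F : Type*} [Field F] [Fintype F] (p : ℕ) (hp : p.Prime)
    (hF : Fintype.card F = p ^ 2) {G : Type*} [Group G] [Finite G]
    (h : ∀ d : ℕ, Nat.card {χ : Cfsg.IrrCharacter G // (χ : G → ℂ) 1 = (d : ℂ)} =
      Nat.card {χ : Cfsg.IrrCharacter (Matrix.ProjectiveSpecialLinearGroup (Fin 2) F) // (χ : Matrix.ProjectiveSpecialLinearGroup (Fin 2) F → ℂ) 1 = (d : ℂ)}) :
    Nonempty (G ≃* Matrix.ProjectiveSpecialLinearGroup (Fin 2) F) := by
  classical
  obtain ⟨e, he⟩ := CfsgLib.PSLTwoRecog.exists_degree_equiv h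
  have hcard := CfsgLib.PSLTwoRecog.card_eq_of_degree_equiv e he
  have hq4 : 4 ≤ Fintype.card F := by rw [hF]; nlinarith [hp.two_le]
  have hlinF : ∀ χ, Cfsg.IsIrrCharacter (Matrix.ProjectiveSpecialLinearGroup (Fin 2) F) χ → χ 1 = 1 →
      χ = fun _ => 1 := fun χ hχ h1 => CfsgLib.PSLTwoRecog.psl_linear hq4 ⟨χ, hχ⟩ h1
  have hlin : ∀ χ, Cfsg.IsIrrCharacter G χ → χ 1 = 1 → χ = fun _ => 1 := by
    intro χ hχ h1
    let o : Cfsg.IrrCharacter G := ⟨fun _ => 1, CfsgLib.Char.isIrrCharacter_one⟩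
    have := e.injective (a₁ := ⟨χ, hχ⟩) (a₂ := o) (Subtype.ext
      ((hlinF _ (e _).2 ((he _).trans h1)).trans (hlinF _ (e o).2 ((he o).trans rfl)).symm))
    exact congrArg Subtype.val this
  have hmc := CfsgLib.Linear.PSLTwo.mul_card (F := F)
  rw [← hcard, Nat.card_eq_fintype_card (α := F)] at hmc
  by_cases hp2 : p = 2
  · subst hp2
    rw [hF] at hmc
    norm_num at hmc
    obtain ⟨a⟩ := CfsgLib.PSLTwoRecog.iso_alternating_five hmc
      (CfsgLib.PSLTwoRecog.commutator_eq_top_of_linear hlin)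
    obtain ⟨b⟩ := CfsgLib.PSLTwoRecog.iso_alternating_five (hcard.symm.trans hmc)
      (CfsgLib.PSLTwoRecog.commutator_eq_top_of_linear hlinF)
    exact ⟨a.trans b.symm⟩
  haveI : Fact p.Prime := ⟨hp⟩
  obtain ⟨q, hqdef⟩ : ∃ q, Fintype.card F = q := ⟨_, rfl⟩
  have hqf : q = p ^ 2 := hqdef.symm.trans hF
  have hpodd : p % 2 = 1 := hp.eq_two_or_odd.resolve_left hp2
  have hq4' : q % 4 = 1 := by
    rw [hqf, Nat.pow_mod]
    rcases (show p % 4 = 1 ∨ p % 4 = 3 by omega) with e | e <;> rw [e]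
  have hq5 : 5 ≤ q := by omega
  have hc : 2 * Nat.card G = q * ((q - 1) * (q + 1)) := by
    rw [← CfsgLib.Linear.PSLTwo.sq_sub_one]
    rw [hqdef, Nat.gcd_eq_left (Nat.dvd_of_mod_eq_zero (by omega))] at hmc
    exact hmc
  have hdeg : ∀ χ, Cfsg.IsIrrCharacter G χ → χ 1 = 1 ∨ χ 1 = (q : ℂ) ∨ χ 1 = ((q + 1 : ℕ) : ℂ) ∨
      χ 1 = ((q - 1 : ℕ) : ℂ) ∨ χ 1 = (((q + 1) / 2 : ℕ) : ℂ) := by
    intro χ hχ
    have := CfsgLib.PSLTwoRecog.psl_degree (by omega) (by omega) (e ⟨χ, hχ⟩)
    rw [he, hqdef] at this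
    exact this
  have hnot : ¬ p ∣ 2 * ((q - 1) * (q + 1)) := by
    have hpq : p ∣ q := hqf ▸ dvd_pow_self p two_ne_zero
    intro hd
    apply hp.not_dvd_one
    rcases hp.dvd_mul.1 hd with hd | hd
    · exact absurd ((Nat.prime_dvd_prime_iff_eq hp Nat.prime_two).1 hd) hp2
    rcases hp.dvd_mul.1 hd with hd | hd
    · have := Nat.dvd_sub hpq hd
      rwa [show q - (q - 1) = 1 by omega] at this
    · exact (Nat.dvd_add_right hpq).1 hd
  have hsyl : ∀ R : Sylow p G, Nat.card (R : Subgroup G) = q := by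
    intro R
    have h1 := congrArg (fun n => n.factorization p) hc
    have h2 : (p ^ 2).factorization p = 2 := by
      rw [Nat.Prime.factorization_pow hp, Finsupp.single_eq_same]
    rw [Nat.factorization_mul two_ne_zero Nat.card_pos.ne', Nat.factorization_mul (by omega)
      (Nat.mul_ne_zero (by omega) (by omega)), Finsupp.add_apply, Finsupp.add_apply,
      Nat.factorization_eq_zero_of_not_dvd (n := 2) (fun hd => hnot (hd.mul_right _)),
      Nat.factorization_eq_zero_of_not_dvd (fun hd => hnot (hd.mul_left 2)), zero_add, add_zero, hqf, h2] at h1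
    rw [Sylow.card_eq_multiplicity, h1, hqf]
  have hA : ∀ R : Sylow p G, ∀ x ∈ (R : Subgroup G), x ≠ 1 →
      Subgroup.centralizer ({x} : Set G) = (R : Subgroup G) := by
    intro R x hx hx1
    have hab : IsMulCommutative (R : Subgroup G) :=
      IsPGroup.isMulCommutative_of_card_eq_prime_sq (p := p) (by rw [hsyl R, hqf])
    have hle : (R : Subgroup G) ≤ Subgroup.centralizer ({x} : Set G) := fun y hy => by
      rw [Subgroup.mem_centralizer_singleton_iff]
      exact congrArg Subtype.val (hab.is_comm.comm (⟨y, hy⟩ : (R : Subgroup G)) ⟨x, hx⟩)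
    refine (R.is_maximal' (IsPGroup.of_card (Nat.eq_prime_pow_of_unique_prime_dvd Nat.card_pos.ne'
      fun {r} hr hd => ?_)) hle)
    by_contra hrp
    haveI := Fact.mk hr
    obtain ⟨s, hs⟩ := exists_prime_orderOf_dvd_card' (G := Subgroup.centralizer ({x} : Set G)) r hd
    obtain ⟨k, hk⟩ := (IsPGroup.iff_orderOf.1 R.2) ⟨x, hx⟩
    rw [Subgroup.orderOf_mk] at hk
    have hk0 : k ≠ 0 := by
      rintro rfl; rw [pow_zero] at hk; exact hx1 (orderOf_eq_one_iff.1 hk)
    obtain ⟨x', hx'⟩ := exists_prime_orderOf_dvd_card' (G := Subgroup.zpowers x) p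
      (by rw [Nat.card_zpowers, hk]; exact dvd_pow_self p hk0)
    obtain ⟨n, hn⟩ := Subgroup.mem_zpowers_iff.1 x'.2
    refine CfsgLib.PSLTwoRecog.no_mixed hp hqf hq5 hq4' hc hlin hdeg
      (x := (x' : G)) (s := (s : G)) (by rw [Subgroup.orderOf_coe, hx']) hr hrp
      (by rw [Subgroup.orderOf_coe, hs]) ?_
    rw [← hn]
    exact ((show Commute (s : G) x from Subgroup.mem_centralizer_singleton_iff.1 s.2).zpow_right n).symm
  obtain ⟨P⟩ : Nonempty (Sylow p G) := inferInstance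
  obtain ⟨hidx, hNc⟩ := CfsgLib.PSLTwoRecog.index_of_selfcentralising P hqf (by omega) hc (hsyl P) hA
  obtain ⟨K, _, _, hK, ⟨f⟩⟩ := CfsgLib.PSLTwoRecog.exists_psl_of_frame P hqf
    (Nat.odd_iff.2 (by omega)) hq5 (hsyl P) (hA P) hidx hNc fun M _ hM hexp => by
      obtain ⟨k, hk⟩ := (IsPGroup.iff_card (p := 2) (G := M)).1 fun x => ⟨1, by rw [pow_one, hexp]⟩
      rw [hM] at hk
      rcases k with _ | _ | k
      · omega
      · omega
      · rw [pow_succ, pow_succ] at hk; omega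
  obtain ⟨g⟩ := CfsgLib.InvChar.psl_congr (FiniteField.ringEquivOfCardEq (hK.trans hqdef.symm) : K ≃+* F)
  exact ⟨f.trans g⟩

end Cfsg.Agent.S3598
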