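import Cfsg.Statements.S3599
import Cfsg.Agent.PrimeGraph.Critical

set_option autoImplicit false
open Cfsg

namespace Cfsg.Agent.S3599

/-- A finite group is critical with respect to a set Ω of natural numbers when its set of element orders is Ω while no proper section H/N (H a subgroup, N normal in H, (H, N) ≠ (whole group, 1)) has Ω as its set of element orders. Let s ≥ 1 and let p(j,0), p(j,1) (j < s) be 2s pairwise distinct primes, and let Ω be the set of all products c(0)·…·c(s−1) with each c(j) ∈ {1, p(j,0), p(j,1)}. Then there are 2^s pairwise non-isomorphic finite groups critical with respect to Ω. -/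
theorem result (s : ℕ) (hs : 1 ≤ s) (p : Fin s → Fin 2 → ℕ)
    (hp : ∀ j i, (p j i).Prime) (hinj : ∀ j i j' i', p j i = p j' i' → j = j' ∧ i = i') :
    ∃ (G : Fin (2 ^ s) → Type) (_ : ∀ a, Group (G a)) (_ : ∀ a, Fintype (G a)),
      (∀ a b, a ≠ b → ¬ Nonempty (G a ≃* G b)) ∧
      ∀ a, Set.range (orderOf : (G a) → ℕ) = {m : ℕ | ∃ c : Fin s → ℕ, (∀ j, c j = 1 ∨ c j = p j 0 ∨ c j = p j 1) ∧ m = ∏ j, c j} ∧
      ∀ (H : Subgroup (G a)) (N : Subgroup ↥H) [N.Normal], (H ≠ ⊤ ∨ N ≠ ⊥) → Set.range (orderOf : (↥H ⧸ N) → ℕ) ≠ {m : ℕ | ∃ c : Fin s → ℕ, (∀ j, c j = 1 ∨ c j = p j 0 ∨ c j = p j 1) ∧ m = ∏ j, c j} := by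
  classical
  have hne : ∀ j (i : Fin 2), p j i ≠ p j i.rev := fun j i h => by
    have := (hinj _ _ _ _ h).2
    revert this; fin_cases i <;> simp [Fin.rev]
  choose X hG hF hcard hspec hmin hnorm using fun (j : Fin s) (i : Fin 2) =>
    @CfsgLib.CriticalSpec.exists_minimal_frobenius (p j i) (p j i.rev) ⟨hp j i⟩ ⟨hp j i.rev⟩ (hne j i)
  let e : Fin (2 ^ s) ≃ (Fin s → Fin 2) := finFunctionFinEquiv.symm
  have hset : ∀ j i, ({1, p j i, p j i.rev} : Set ℕ) = {1, p j 0, p j 1} := by
    intro j i; fin_cases i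
    · simp [Fin.rev]
    · simp [Fin.rev, Set.pair_comm]
  have hspecG : ∀ a, Set.range (orderOf : (∀ j, X j (e a j)) → ℕ) =
      {m : ℕ | ∃ c : Fin s → ℕ, (∀ j, c j = 1 ∨ c j = p j 0 ∨ c j = p j 1) ∧ m = ∏ j, c j} := fun a =>
    CfsgLib.CriticalSpec.range_orderOf_pi p hp hinj fun j => by rw [hspec, hset]
  -- primes of the other factors
  have hrest : ∀ (v : Fin s → Fin 2) (j : Fin s) (i : Fin 2), ¬ p j i ∣ ∏ k ∈ Finset.univ.erase j, Nat.card (X k (v k)) := by
    intro v j i h
    obtain ⟨k, hk, hdvd⟩ := (Prime.dvd_finsetProd_iff (Nat.prime_iff.1 (hp j i)) _).1 h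
    rw [hcard] at hdvd
    rcases (hp j i).dvd_mul.1 hdvd with h' | h'
    · exact Finset.ne_of_mem_erase hk ((hinj _ _ _ _ ((Nat.prime_dvd_prime_iff_eq (hp j i) (hp k _)).1 ((hp j i).dvd_of_dvd_pow h'))).1).symm
    · exact Finset.ne_of_mem_erase hk ((hinj _ _ _ _ ((Nat.prime_dvd_prime_iff_eq (hp j i) (hp k _)).1 h')).1).symm
  have hcardG : ∀ a j, Nat.card (∀ k, X k (e a k)) =
      Nat.card (X j (e a j)) * ∏ k ∈ Finset.univ.erase j, Nat.card (X k (e a k)) := fun a j => by
    rw [Nat.card_pi, Finset.mul_prod_erase _ (fun k => Nat.card (X k (e a k))) (Finset.mem_univ j)]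
  refine ⟨fun a => ∀ j, X j (e a j), fun a => inferInstance, fun a => inferInstance, ?_, fun a => ⟨hspecG a, ?_⟩⟩
  · rintro a b hab ⟨φ⟩
    obtain ⟨j, hj⟩ := Function.ne_iff.1 (fun h => hab (e.injective h))
    have hb : e b j = (e a j).rev := by
      revert hj
      generalize e a j = x
      generalize e b j = y
      fin_cases x <;> fin_cases y <;> simp [Fin.rev]
    have hc := Nat.card_congr φ.toEquiv
    rw [hcardG a j, hcardG b j, hb, hcard, hcard, Fin.rev_rev] at hc
    have hone : ∀ (u v : Fin s → Fin 2) (i : Fin 2) (f g : ℕ), f ≠ 0 →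
        p j i ^ f * p j i.rev * ∏ k ∈ Finset.univ.erase j, Nat.card (X k (u k)) =
          p j i.rev ^ g * p j i * ∏ k ∈ Finset.univ.erase j, Nat.card (X k (v k)) → f = 1 := by
      intro u v i f g hf h
      by_contra hf1
      obtain ⟨f', rfl⟩ : ∃ f', f = f' + 2 := ⟨f - 2, by omega⟩
      have h1 : p j i * (p j i ^ (f' + 1) * p j i.rev * ∏ k ∈ Finset.univ.erase j, Nat.card (X k (u k))) =
          p j i * (p j i.rev ^ g * ∏ k ∈ Finset.univ.erase j, Nat.card (X k (v k))) := by
        linear_combination h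
      have h2 := Nat.eq_of_mul_eq_mul_left (hp j i).pos h1
      have h3 : p j i ∣ p j i.rev ^ g * ∏ k ∈ Finset.univ.erase j, Nat.card (X k (v k)) :=
        h2 ▸ ((dvd_pow_self _ (Nat.succ_ne_zero f')).mul_right _).mul_right _
      rcases (hp j i).dvd_mul.1 h3 with h4 | h4
      · exact hne j i ((Nat.prime_dvd_prime_iff_eq (hp j i) (hp j _)).1 ((hp j i).dvd_of_dvd_pow h4))
      · exact hrest v j i h4
    have hpos : ∀ i, orderOf ((p j i : ℕ) : ZMod (p j i.rev)) ≠ 0 := by
      intro i h0
      haveI : Fact (p j i.rev).Prime := ⟨hp j _⟩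
      have hnz : ((p j i : ℕ) : ZMod (p j i.rev)) ≠ 0 := by
        rw [Ne, ZMod.natCast_eq_zero_iff]
        exact fun h => hne j i ((Nat.prime_dvd_prime_iff_eq (hp j _) (hp j _)).1 h).symm
      rw [orderOf_eq_zero_iff'] at h0
      exact h0 (p j i.rev - 1) (by have := (hp j i.rev).two_le; omega) (ZMod.pow_card_sub_one_eq_one hnz)
    have h1 := hone (e a) (e b) (e a j) _ _ (hpos _) hc
    have hc' := hc.symm
    have h2 := hone (e b) (e a) (e a j).rev (orderOf ((p j (e a j).rev : ℕ) : ZMod (p j (e a j))))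
      (orderOf ((p j (e a j) : ℕ) : ZMod (p j (e a j).rev))) (by have := hpos (e a j).rev; rwa [Fin.rev_rev] at this)
      (by rw [Fin.rev_rev]; exact hc')
    have key : ∀ i, orderOf ((p j i : ℕ) : ZMod (p j i.rev)) = 1 → p j i.rev < p j i := by
      intro i h
      rw [orderOf_eq_one_iff] at h
      have h0 : ((p j i - 1 : ℕ) : ZMod (p j i.rev)) = 0 := by
        rw [Nat.cast_sub (hp j i).one_le, h]; simp
      rw [ZMod.natCast_eq_zero_iff] at h0
      have := Nat.le_of_dvd (by have := (hp j i).two_le; omega) h0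
      have := (hp j i).two_le
      omega
    have h3 := key _ h1
    have h4 := key (e a j).rev (by rw [Fin.rev_rev]; exact h2)
    rw [Fin.rev_rev] at h4
    omega
  · intro H N hN hor heq
    set G := ∀ j, X j (e a j)
    -- every prime is the order of an element of the quotient
    have hmemq : ∀ j i, p j i ∣ Nat.card (↥H ⧸ N) := by
      intro j i
      have : p j i ∈ Set.range (orderOf : (↥H ⧸ N) → ℕ) := by
        rw [heq]
        refine ⟨Pi.mulSingle j (p j i), fun k => ?_, ?_⟩
        · by_cases hk : k = j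
          · subst hk; rw [Pi.mulSingle_eq_same]; fin_cases i <;> simp
          · rw [Pi.mulSingle_eq_of_ne hk]; exact Or.inl rfl
        · rw [Finset.prod_pi_mulSingle']; simp
      obtain ⟨q, hq⟩ := this
      exact hq ▸ orderOf_dvd_natCard q
    have hsingle : ∀ (x : G) j i, orderOf x = p j i → x = Pi.mulSingle j (x j) := by
      intro x j i hx
      funext k
      by_cases hk : k = j
      · subst hk; rw [Pi.mulSingle_eq_same]
      · rw [Pi.mulSingle_eq_of_ne hk]
        have h1 : orderOf (x k) ∣ p j i := hx ▸ orderOf_dvd_of_pow_eq_one (congrFun (pow_orderOf_eq_one x) k)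
        rcases (Nat.dvd_prime (hp j i)).1 h1 with h | h
        · exact orderOf_eq_one_iff.1 h
        · exfalso
          have h2 : orderOf (x k) ∈ ({1, p k 0, p k 1} : Set ℕ) := by
            rw [← hset k (e a k), ← hspec]; exact ⟨x k, rfl⟩
          rw [h] at h2
          rcases h2 with h2 | h2 | h2
          · exact (hp j i).one_lt.ne' h2
          · exact hk (hinj _ _ _ _ h2).1.symm
          · exact hk (hinj _ _ _ _ h2).1.symm
    have hHtop : H = ⊤ := by
      have hsing : ∀ j y, Pi.mulSingle j y ∈ H := by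
        intro j
        have hel : ∀ i, ∃ y ∈ H.comap (MonoidHom.mulSingle (fun k => X k (e a k)) j), orderOf y = p j i := by
          intro i
          haveI : Fact (p j i).Prime := ⟨hp j i⟩
          obtain ⟨h, hh⟩ := exists_prime_orderOf_dvd_card' (G := H) (p j i)
            ((hmemq j i).trans (Subgroup.card_quotient_dvd_card N))
          have hx : orderOf (h : G) = p j i := by rw [Subgroup.orderOf_coe, hh]
          refine ⟨(h : G) j, ?_, ?_⟩
          · show Pi.mulSingle j ((h : G) j) ∈ H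
            rw [← hsingle _ j i hx]; exact h.2
          · rw [← hx]
            conv_rhs => rw [hsingle _ j i hx]
            exact (orderOf_injective (MonoidHom.mulSingle (fun k => X k (e a k)) j) (fun u v huv => Pi.mulSingle_injective (M := fun k => X k (e a k)) j huv) _).symm
        have htop := hmin j (e a j) _ (hel (e a j)) (hel (e a j).rev)
        intro y
        have : y ∈ H.comap (MonoidHom.mulSingle (fun k => X k (e a k)) j) := htop ▸ Subgroup.mem_top y
        exact this
      exact eq_top_iff.2 fun x _ => Subgroup.pi_mem_of_mulSingle_mem x fun j => hsing j (x j)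
    subst hHtop
    have hN1 : N ≠ ⊥ := hor.resolve_left (fun h => h rfl)
    set N' : Subgroup G := N.map (⊤ : Subgroup G).subtype
    have hN'n : N'.Normal := ⟨fun x hx g => by
      obtain ⟨y, hy, rfl⟩ := hx
      exact ⟨⟨g, trivial⟩ * y * ⟨g, trivial⟩⁻¹, hN.conj_mem y hy _, rfl⟩⟩
    have hN'1 : N' ≠ ⊥ := fun h => hN1 ((Subgroup.map_eq_bot_iff_of_injective _ (Subgroup.subtype_injective _)).1 h)
    have hidx : N'.index = N.index := by
      rw [Subgroup.index_map_subtype, Subgroup.index_top, mul_one]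
    obtain ⟨q, hq, hqd⟩ := Nat.exists_prime_and_dvd (fun h : Nat.card N' = 1 => hN'1 (Subgroup.eq_bot_of_card_eq _ h))
    haveI : Fact q.Prime := ⟨hq⟩
    obtain ⟨x, hx⟩ := exists_prime_orderOf_dvd_card' (G := N') q hqd
    have hx' : orderOf (x : G) = q := by rw [Subgroup.orderOf_coe, hx]
    obtain ⟨c, hc, hqc⟩ : q ∈ {m : ℕ | ∃ c : Fin s → ℕ, (∀ j, c j = 1 ∨ c j = p j 0 ∨ c j = p j 1) ∧ m = ∏ j, c j} := by
      rw [← hspecG a]; exact ⟨_, hx'⟩
    obtain ⟨j, -, hqj⟩ := (Prime.dvd_finsetProd_iff (Nat.prime_iff.1 hq) _).1 (hqc ▸ dvd_rfl : q ∣ ∏ j, c j)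
    obtain ⟨i, hi⟩ : ∃ i, q = p j i := by
      rcases hc j with h | h | h <;> rw [h] at hqj
      · exact absurd (Nat.dvd_one.1 hqj) hq.one_lt.ne'
      · exact ⟨0, (Nat.prime_dvd_prime_iff_eq hq (hp j 0)).1 hqj⟩
      · exact ⟨1, (Nat.prime_dvd_prime_iff_eq hq (hp j 1)).1 hqj⟩
    have hxs := hsingle _ j i (hx'.trans hi)
    set Nj := N'.comap (MonoidHom.mulSingle (fun k => X k (e a k)) j)
    have hNjne : Nj ≠ ⊥ := by
      intro h
      have hmem : (x : G) j ∈ Nj := by
        show Pi.mulSingle j ((x : G) j) ∈ N'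
        rw [← hxs]; exact x.2
      rw [h, Subgroup.mem_bot] at hmem
      rw [hmem, Pi.mulSingle_one] at hxs
      rw [hxs, orderOf_one] at hx'
      exact hq.one_lt.ne hx'
    have hP := hnorm j (e a j) Nj (hN'n.comap _) hNjne
    have hdvd : Nat.card Nj ∣ Nat.card N' :=
      Subgroup.card_dvd_of_injective
        (((MonoidHom.mulSingle (fun k => X k (e a k)) j).comp Nj.subtype).codRestrict N' fun y => y.2)
        (fun y z hyz => Subtype.ext (Pi.mulSingle_injective j (congrArg Subtype.val hyz)))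
    obtain ⟨u, hu⟩ := hdvd
    have htot : Nat.card G = Nat.card (X j (e a j)) * ∏ k ∈ Finset.univ.erase j, Nat.card (X k (e a k)) := hcardG a j
    rw [← Subgroup.card_mul_index N', ← Subgroup.card_mul_index Nj, hu, mul_assoc, mul_assoc] at htot
    have h2 := Nat.eq_of_mul_eq_mul_left Nat.card_pos htot
    have h3 : p j (e a j) ∣ u * N'.index := by
      refine Dvd.dvd.mul_left ?_ u
      rw [hidx]
      exact hmemq j (e a j)
    rw [h2] at h3
    rcases (hp j _).dvd_mul.1 h3 with h | h
    · exact hP h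
    · exact hrest _ j _ h

end Cfsg.Agent.S3599
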