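import Cfsg.Statements.S3611
import Mathlib
import Cfsg.Agent.Perm.PrimeDegreeHalf

set_option autoImplicit false
open Cfsg

namespace Cfsg.Agent.S3611

/-- Let G be an insoluble group acting faithfully and transitively on a finite set of prime size p, and suppose the normalizer of a Sylow p-subgroup of G has order p(p-1)/2. If p ≡ 3 (mod 4), then G is triply transitive, or for any two distinct points the stabilizer of both has exactly four orbits on the set (the two fixed points and exactly two orbits on the remaining p - 2 points). -/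
theorem result {G Ω : Type*} [Group G] [Finite G] [MulAction G Ω] [FaithfulSMul G Ω] [Finite Ω]
    (p : ℕ) (hp : p.Prime) (hΩ : Nat.card Ω = p) (htrans : MulAction.IsPretransitive G Ω)
    (hins : ¬ Group.IsSolvable G) (P : Sylow p G)
    (hN : 2 * Nat.card ↥(Subgroup.normalizer ((P : Subgroup G) : Set G)) = p * (p - 1))
    (hp3 : p % 4 = 3) :
    MulAction.IsMultiplyPretransitive G Ω 3 ∨
    ∀ α β : Ω, α ≠ β →
      Nat.card (MulAction.orbitRel.Quotient ↥(MulAction.stabilizer G α ⊓ MulAction.stabilizer G β) Ω) = 4 := by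
  classical
  haveI := Fact.mk hp
  haveI : Fintype Ω := Fintype.ofFinite Ω
  have h2t : MulAction.IsMultiplyPretransitive G Ω 2 :=
    (CfsgLib.Muller.solvable_or_two_transitive (p := p) hΩ).resolve_left hins
  obtain ⟨g, e, -, -, he, hsq⟩ := CfsgLib.PrimeDegree.exists_square_mults hΩ P hN
  have hle : ∀ α β : Ω, α ≠ β → Nat.card (MulAction.orbitRel.Quotient
      ↥(MulAction.stabilizer G α ⊓ MulAction.stabilizer G β) Ω) ≤ 4 := fun α β h =>
    CfsgLib.PrimeDegree.card_orbits_two_point_le hΩ hins h2t hp3 g e he hsq α β h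
  refine (em _).symm.imp_left ?_
  intro hfew
  push Not at hfew
  obtain ⟨α, β, hαβ, hne⟩ := hfew
  set S := MulAction.stabilizer G α ⊓ MulAction.stabilizer G β with hS
  let Q := MulAction.orbitRel.Quotient ↥S Ω
  let cl : Ω → Q := fun u => Quotient.mk _ u
  have hclA : ∀ u, cl u = cl α → u = α := fun u h => by
    obtain ⟨s, hs⟩ := Quotient.exact h
    exact hs.symm.trans s.2.1
  have hclB : ∀ u, cl u = cl β → u = β := fun u h => by
    obtain ⟨s, hs⟩ := Quotient.exact h
    exact hs.symm.trans s.2.2
  have hone : ∀ u v, u ≠ α → u ≠ β → v ≠ α → v ≠ β → cl u = cl v := by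
    intro u v hua hub hva hvb
    by_contra huv
    have hinj : Function.Injective ![cl α, cl β, cl u, cl v] := by
      have n1 : cl α ≠ cl β := fun h => hαβ (hclB α h)
      have n2 : cl α ≠ cl u := fun h => hua (hclA u h.symm)
      have n3 : cl α ≠ cl v := fun h => hva (hclA v h.symm)
      have n4 : cl β ≠ cl u := fun h => hub (hclB u h.symm)
      have n5 : cl β ≠ cl v := fun h => hvb (hclB v h.symm)
      intro i j hij
      fin_cases i <;> fin_cases j <;>
        simp only [Fin.zero_eta, Fin.mk_one, Fin.reduceFinMk, Matrix.cons_val_zero, Matrix.cons_val_one,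
          Matrix.cons_val] at hij ⊢ <;>
        first | rfl | exact absurd hij n1 | exact absurd hij.symm n1 | exact absurd hij n2 |
          exact absurd hij.symm n2 | exact absurd hij n3 | exact absurd hij.symm n3 |
          exact absurd hij n4 | exact absurd hij.symm n4 | exact absurd hij n5 |
          exact absurd hij.symm n5 | exact absurd hij huv | exact absurd hij.symm huv
    have := Nat.card_le_card_of_injective _ hinj
    rw [Nat.card_fin] at this
    exact hne (le_antisymm (hle α β hαβ) this)
  have h2 : ∀ a b c d : Ω, a ≠ b → c ≠ d → ∃ k : G, k • a = c ∧ k • b = d := fun a b c d h h' =>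
    (MulAction.is_two_pretransitive_iff.mp h2t) h h'
  refine ⟨fun f f' => ?_⟩
  have nf : ∀ (f : Fin 3 ↪ Ω) i j, i ≠ j → f i ≠ f j := fun f i j h hh => h (f.injective hh)
  obtain ⟨k, hk0, hk1⟩ := h2 (f 0) (f 1) α β (nf f 0 1 (by decide)) hαβ
  obtain ⟨k', hk0', hk1'⟩ := h2 (f' 0) (f' 1) α β (nf f' 0 1 (by decide)) hαβ
  obtain ⟨s, hs⟩ := Quotient.exact (hone (k' • f' 2) (k • f 2)
    (fun h => nf f' 2 0 (by decide) (smul_left_cancel k' (h.trans hk0'.symm)))
    (fun h => nf f' 2 1 (by decide) (smul_left_cancel k' (h.trans hk1'.symm)))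
    (fun h => nf f 2 0 (by decide) (smul_left_cancel k (h.trans hk0.symm)))
    (fun h => nf f 2 1 (by decide) (smul_left_cancel k (h.trans hk1.symm))))
  refine ⟨k'⁻¹ * ↑s * k, DFunLike.ext _ _ fun i => ?_⟩
  rw [Function.Embedding.smul_apply, mul_smul, mul_smul, inv_smul_eq_iff]
  fin_cases i
  · simpa [hk0, hk0'] using s.2.1
  · simpa [hk1, hk1'] using s.2.2
  · exact hs

end Cfsg.Agent.S3611
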