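import Cfsg.Statements.S3612
import Mathlib
import Cfsg.Agent.Perm.PrimeDegreeSteiner
import Cfsg.Agent.S0676

set_option autoImplicit false
open Cfsg

namespace Cfsg.Agent.S3612

/-- Let G be an insoluble group acting faithfully and transitively on a finite set of prime size p, and suppose the normalizer of a Sylow p-subgroup of G has order p(p-1)/2. If p > 7, then the stabilizer of a point acts primitively on the remaining p - 1 points. -/
theorem result {G Ω : Type*} [Group G] [Finite G] [MulAction G Ω] [FaithfulSMul G Ω] [Finite Ω]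
    (p : ℕ) (hp : p.Prime) (hΩ : Nat.card Ω = p) (htrans : MulAction.IsPretransitive G Ω)
    (hins : ¬ Group.IsSolvable G) (P : Sylow p G)
    (hN : 2 * Nat.card ↥(Subgroup.normalizer ((P : Subgroup G) : Set G)) = p * (p - 1))
    (hp7 : 7 < p) (α : Ω) :
    MulAction.IsPreprimitive ↥(MulAction.stabilizer G α) ↥(SubMulAction.ofStabilizer G α) := by
  classical
  haveI := Fact.mk hp
  haveI : Fintype Ω := Fintype.ofFinite Ω
  have h2t : MulAction.IsMultiplyPretransitive G Ω 2 :=
    (CfsgLib.Muller.solvable_or_two_transitive (p := p) hΩ).resolve_left hins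
  rcases (show p % 4 = 1 ∨ p % 4 = 3 by
    have := hp.odd_of_ne_two (by omega)
    rw [Nat.odd_iff] at this; omega) with h1 | h3
  · have hinj : Function.Injective (MulAction.toPermHom G Ω) := MulAction.toPerm_injective
    let φ := MonoidHom.ofInjective hinj
    haveI : MulAction.IsPretransitive (MulAction.toPermHom G Ω).range Ω := ⟨fun a b => by
      obtain ⟨k, hk⟩ := MulAction.exists_smul_eq G a b
      exact ⟨φ k, hk⟩⟩
    have hns' : ¬ Group.IsSolvable (MulAction.toPermHom G Ω).range := fun h =>
      hins (solvable_of_solvable_injective (f := φ.toMonoidHom) φ.injective)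
    let P' : Sylow p (MulAction.toPermHom G Ω).range :=
      P.mapSurjective (f := φ.toMonoidHom) φ.surjective
    have heven : Even (Nat.card (Subgroup.normalizer
        ((P' : Subgroup (MulAction.toPermHom G Ω).range) : Set (MulAction.toPermHom G Ω).range))) := by
      have h : (Subgroup.normalizer ((P : Subgroup G) : Set G)).map φ.toMonoidHom =
          Subgroup.normalizer (((P : Subgroup G).map φ.toMonoidHom : Subgroup _) : Set (MulAction.toPermHom G Ω).range) :=
        Subgroup.map_equiv_normalizer_eq _ φ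
      have hP' : (P' : Subgroup (MulAction.toPermHom G Ω).range) = (P : Subgroup G).map φ.toMonoidHom := rfl
      rw [hP', ← h, Subgroup.card_map_of_injective (f := φ.toMonoidHom) φ.injective]
      obtain ⟨m, hm⟩ : 4 ∣ p - 1 := by omega
      refine ⟨p * m, ?_⟩
      have : 2 * Nat.card (Subgroup.normalizer ((P : Subgroup G) : Set G)) = 2 * (p * m + p * m) := by
        rw [hN, hm]; ring
      omega
    have h3t := Cfsg.Agent.S0676.result (α := Ω) (p := p) (by rw [← Nat.card_eq_fintype_card, hΩ])
      (MulAction.toPermHom G Ω).range hns' P' heven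
    haveI : MulAction.IsMultiplyPretransitive G Ω 3 := ⟨fun f f' => by
      obtain ⟨⟨_, k, rfl⟩, hk⟩ := h3t.exists_smul_eq f f'
      exact ⟨k, DFunLike.ext _ _ fun i => by simpa using DFunLike.congr_fun hk i⟩⟩
    have : MulAction.IsMultiplyPretransitive (MulAction.stabilizer G α) (SubMulAction.ofStabilizer G α) 2 :=
      SubMulAction.ofStabilizer.isMultiplyPretransitive.mp inferInstance
    exact MulAction.isPreprimitive_of_is_two_pretransitive this
  haveI : MulAction.IsPretransitive (MulAction.stabilizer G α) (SubMulAction.ofStabilizer G α) := by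
    rw [← MulAction.is_one_pretransitive_iff]
    exact SubMulAction.ofStabilizer.isMultiplyPretransitive.mp h2t
  refine ⟨fun {B} hB => ?_⟩
  by_contra hne
  simp only [MulAction.IsTrivialBlock, Set.not_subsingleton_iff, not_or] at hne
  obtain ⟨⟨b, hb, c, hc, hbc⟩, hnu⟩ := hne
  obtain ⟨d, hd⟩ := (Set.ne_univ_iff_exists_notMem B).mp hnu
  refine CfsgLib.PrimeDegree.no_point_stabilizer_block hΩ hins P hN h3 hp7 α b.1 c.1 d.1
    (Subtype.val '' B) ?_ ⟨b, hb, rfl⟩ ⟨c, hc, rfl⟩ (fun h => hbc (Subtype.ext h).symm) ?_ d.2 ?_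
  · rintro ⟨u, -, hu⟩
    exact u.2 hu
  · rintro ⟨u, hu, hud⟩
    exact hd (Subtype.ext hud ▸ hu)
  · rintro k hk _ ⟨u, hu, rfl⟩ ⟨u', hu', hku⟩ _ ⟨v, hv, rfl⟩
    have hmem : ((⟨k, hk⟩ : MulAction.stabilizer G α) • u) ∈ B := by
      have : (⟨k, hk⟩ : MulAction.stabilizer G α) • u = u' := Subtype.ext hku.symm
      rwa [this]
    have heq := hB.smul_eq_of_mem (g := (⟨k, hk⟩ : MulAction.stabilizer G α)) hu hmem
    refine ⟨(⟨k, hk⟩ : MulAction.stabilizer G α) • v, ?_, rfl⟩
    rw [← heq]
    exact Set.smul_mem_smul_set hv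

end Cfsg.Agent.S3612
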