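import Cfsg.Statements.S3613
import Mathlib
import Cfsg.Agent.Perm.PrimeDegreeTwin

set_option autoImplicit false
open Cfsg

namespace Cfsg.Agent.S3613

/-- Let G be an insoluble group acting faithfully and transitively on a finite set of prime size p, and suppose the normalizer of a Sylow p-subgroup of G has order p(p-1)/2. If p = q + 2 for a prime q > 5, then G is 5-fold transitive. -/
theorem result {G Ω : Type*} [Group G] [Finite G] [MulAction G Ω] [FaithfulSMul G Ω] [Finite Ω]
    (p : ℕ) (hp : p.Prime) (hΩ : Nat.card Ω = p) (htrans : MulAction.IsPretransitive G Ω)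
    (hins : ¬ Group.IsSolvable G) (P : Sylow p G)
    (hN : 2 * Nat.card ↥(Subgroup.normalizer ((P : Subgroup G) : Set G)) = p * (p - 1))
    (q : ℕ) (hq : q.Prime) (hq5 : 5 < q) (hpq : p = q + 2) :
    MulAction.IsMultiplyPretransitive G Ω 5 := by
  classical
  haveI := Fact.mk hp
  haveI := Fact.mk hq
  haveI : Fintype Ω := Fintype.ofFinite Ω
  exact CfsgLib.PrimeDegree.five_transitive_of_twin hΩ hins P hN q hq5 hpq

end Cfsg.Agent.S3613
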