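import Cfsg.Statements.S3614
import Mathlib
import Cfsg.Agent.Perm.PrimeDegreeTwin
import Cfsg.Agent.Perm.FiveTransitiveCycles

set_option autoImplicit false
open Cfsg

namespace Cfsg.Agent.S3614

/-- Let G be an insoluble group acting faithfully and transitively on a finite set of prime size p, and suppose the normalizer of a Sylow p-subgroup of G has order p(p-1)/2. If p = q + 2 = 2r + 3 > 9 or p = q + 2 = 3r + 4 > 13 with q and r prime, then G is isomorphic to the alternating group of degree p. -/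
theorem result {G Ω : Type*} [Group G] [Finite G] [MulAction G Ω] [FaithfulSMul G Ω] [Finite Ω]
    (p : ℕ) (hp : p.Prime) (hΩ : Nat.card Ω = p) (htrans : MulAction.IsPretransitive G Ω)
    (hins : ¬ Group.IsSolvable G) (P : Sylow p G)
    (hN : 2 * Nat.card ↥(Subgroup.normalizer ((P : Subgroup G) : Set G)) = p * (p - 1))
    (q r : ℕ) (hq : q.Prime) (hr : r.Prime)
    (hcases : (p = q + 2 ∧ p = 2 * r + 3 ∧ 9 < p) ∨ (p = q + 2 ∧ p = 3 * r + 4 ∧ 13 < p)) :
    Nonempty (G ≃* alternatingGroup (Fin p)) := by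
  classical
  haveI := Fact.mk hp
  haveI := Fact.mk hq
  haveI := Fact.mk hr
  haveI : Fintype Ω := Fintype.ofFinite Ω
  have hΩ' : Fintype.card Ω = p := by rw [← Nat.card_eq_fintype_card, hΩ]
  obtain ⟨hpq, k, hk, hn, hr4, hq5⟩ : p = q + 2 ∧ ∃ k, (k = 2 ∨ k = 3) ∧ p = k * r + (k + 1) ∧ 4 < r ∧ 5 < q := by
    rcases hcases with ⟨h1, h2, h3⟩ | ⟨h1, h2, h3⟩
    · refine ⟨h1, 2, Or.inl rfl, by omega, ?_, by omega⟩
      by_contra h
      have : r = 4 := by omega
      rw [this] at hr; exact absurd hr (by norm_num)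
    · refine ⟨h1, 3, Or.inr rfl, by omega, ?_, by omega⟩
      by_contra h
      have : r = 4 := by omega
      rw [this] at hr; exact absurd hr (by norm_num)
  have h5 := CfsgLib.PrimeDegree.five_transitive_of_twin hΩ hins P hN q hq5 hpq
  set ρ := MulAction.toPermHom G Ω
  have hinj : Function.Injective ρ := MulAction.toPerm_injective
  have h5' : MulAction.IsMultiplyPretransitive ρ.range Ω 5 := ⟨fun f f' => by
    obtain ⟨g, hg⟩ := h5.exists_smul_eq f f'
    exact ⟨⟨ρ g, g, rfl⟩, DFunLike.ext _ _ fun i => DFunLike.congr_fun hg i⟩⟩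
  have hle := CfsgLib.FiveTransitiveCycles.alternating_le ρ.range k r hk hr4 (hΩ'.trans hn) h5'
  have heq : ρ.range = alternatingGroup Ω := le_antisymm (fun x hx => by
    obtain ⟨g, rfl⟩ := hx
    exact Equiv.Perm.mem_alternatingGroup.mpr
      (CfsgLib.PrimeDegree.even_of_half_normalizer (by omega) hΩ P hN g)) hle
  exact ⟨((MonoidHom.ofInjective hinj).trans (MulEquiv.subgroupCongr heq)).trans
    (Equiv.altCongrHom (Fintype.equivFinOfCardEq hΩ'))⟩

end Cfsg.Agent.S3614
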