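import Cfsg.Statements.S3616
import Mathlib
import Cfsg.Agent.Perm.PrimeAddOneFour
import Cfsg.Agent.Classical.PSLTwo
import Cfsg.Agent.Classical.PSLTwoTorus

set_option autoImplicit false
open Cfsg

namespace Cfsg.Agent.S3616

/-- Let p > 7 be prime and let X be a finite group acting faithfully on a set of p + 1 points by even permutations. Suppose X has a proper subgroup isomorphic to PSL(2, p) that acts doubly transitively on the set (such an action is necessarily the natural one on the projective line). Then X is 4-fold transitive. -/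
theorem result {X Ω : Type*} [Group X] [Finite X] [MulAction X Ω] [FaithfulSMul X Ω] [Fintype Ω] [DecidableEq Ω]
    (p : ℕ) (hp : p.Prime) (hp7 : 7 < p) (hΩ : Fintype.card Ω = p + 1)
    (heven : ∀ x : X, Equiv.Perm.sign (MulAction.toPerm x : Equiv.Perm Ω) = 1)
    (L : Subgroup X) (hL : Nonempty (↥L ≃* Matrix.ProjectiveSpecialLinearGroup (Fin 2) (ZMod p)))
    (hLt : MulAction.IsMultiplyPretransitive ↥L Ω 2) (hLX : L ≠ ⊤) :
    MulAction.IsMultiplyPretransitive X Ω 4 := by
  classical
  haveI := Fact.mk hp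
  obtain ⟨φ⟩ := hL
  have hodd : Odd p := hp.odd_of_ne_two (by omega)
  refine CfsgLib.PrimeDegree.four_transitive_of_subgroup hp7 hΩ heven L ?_ ?_ hLt hLX
  · have h := CfsgLib.Linear.PSLTwo.mul_card (F := ZMod p)
    rw [CfsgLib.Linear.PSLTwo.gcd_eq_two (by rwa [Nat.card_zmod]), Nat.card_zmod,
      CfsgLib.Linear.PSLTwo.sq_sub_one, ← Nat.card_congr φ.toEquiv] at h
    rw [h]; ring
  · intro c hc
    obtain ⟨w, hw, hwc⟩ := CfsgLib.Linear.PSLTwo.exists_involution (F := ZMod p) p (φ c)
      (by rwa [MulEquiv.orderOf_eq])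
    refine ⟨φ.symm w, by rw [← map_mul, hw, map_one], ?_⟩
    apply φ.injective
    rw [map_mul, map_mul, map_inv, map_inv, φ.apply_symm_apply]
    exact hwc

end Cfsg.Agent.S3616
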