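import Cfsg.Statements.S3619

set_option autoImplicit false
open Cfsg
open scoped Pointwise

namespace Cfsg.Agent.S3619

/-- Let G act faithfully on a finite set in such a way that every non-trivial normal subgroup of G is transitive (G is quasiprimitive). Let Γ be a subset with more than one point and not the whole set, such that the pointwise stabilizer of the complement of Γ acts transitively on Γ (a Jordan set). If that pointwise stabilizer acts primitively on Γ, then G is k-fold transitive where k is one more than the number of points outside Γ (the Jordan set is a trivial one). -/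
theorem result {G Ω : Type*} [Group G] [Finite G] [MulAction G Ω] [FaithfulSMul G Ω] [Finite Ω]
    (hqp : ∀ N : Subgroup G, N.Normal → N ≠ ⊥ → MulAction.IsPretransitive ↥N Ω)
    (Γ : Set Ω) (hΓ1 : 1 < Γ.ncard) (hΓ2 : Γ.ncard < Nat.card Ω)
    (hJ : MulAction.IsPretransitive ↥(fixingSubgroup G Γᶜ) ↥(SubMulAction.ofFixingSubgroup G Γᶜ))
    (hJp : MulAction.IsPreprimitive ↥(fixingSubgroup G Γᶜ) ↥(SubMulAction.ofFixingSubgroup G Γᶜ)) :
    MulAction.IsMultiplyPretransitive G Ω (Nat.card Ω - Γ.ncard + 1) := by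

  classical
  set K := fixingSubgroup G Γᶜ with hK
  obtain ⟨x0, hx0, y0, hy0, hxy0⟩ := (Set.one_lt_ncard (Set.toFinite Γ)).1 hΓ1
  have hx0' : x0 ∈ SubMulAction.ofFixingSubgroup G Γᶜ := fun h => h hx0
  have htr : ∀ x ∈ Γ, ∀ y ∈ Γ, ∃ g ∈ K, g • x = y := by
    intro x hx y hy
    obtain ⟨g, hg⟩ := @MulAction.exists_smul_eq _ _ _ hJ
      (⟨x, fun h => h hx⟩ : ↥(SubMulAction.ofFixingSubgroup G Γᶜ)) ⟨y, fun h => h hy⟩
    exact ⟨g, g.2, congrArg Subtype.val hg⟩
  have hfix : ∀ g ∈ K, ∀ z, z ∉ Γ → g • z = z := fun g hg z hz => (mem_fixingSubgroup_iff G).1 hg z hz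
  have hKne : K ≠ ⊥ := by
    intro h
    obtain ⟨g, hg, hgx⟩ := htr x0 hx0 y0 hy0
    rw [h, Subgroup.mem_bot] at hg
    rw [hg, one_smul] at hgx
    exact hxy0 hgx
  have htop : (⊤ : Subgroup G) ≠ ⊥ := fun h => hKne (le_bot_iff.1 (h ▸ le_top))
  haveI hGt : MulAction.IsPretransitive G Ω := by
    haveI := hqp ⊤ inferInstance htop
    exact ⟨fun x y => by
      obtain ⟨g, hg⟩ := MulAction.exists_smul_eq ↥(⊤ : Subgroup G) x y
      exact ⟨g, hg⟩⟩
  have hprim : MulAction.IsPreprimitive G Ω := by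
    refine { isTrivialBlock_of_isBlock := fun {B} hB => ?_ }
    by_contra hBt
    rw [MulAction.IsTrivialBlock, not_or] at hBt
    obtain ⟨hB1, hB2⟩ := hBt
    rw [Set.not_subsingleton_iff] at hB1
    obtain ⟨u, hu, v, hv, huv⟩ := hB1
    obtain ⟨g0, hg0⟩ := MulAction.exists_smul_eq G u x0
    set C := g0 • B with hC
    have hCb : MulAction.IsBlock G C := hB.translate g0
    have hxC : x0 ∈ C := hg0 ▸ Set.smul_mem_smul_set hu
    have hstab : ∀ g : G, ∀ c ∈ C, g • c ∈ C → g • C = C := fun g c hc hgc =>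
      hCb.smul_eq_of_mem hc hgc
    -- Γ is inside C
    have hΓC : Γ ⊆ C := by
      by_cases hsub : C ⊆ Γ
      · have hblock : MulAction.IsBlock ↥K
            ((Subtype.val : ↥(SubMulAction.ofFixingSubgroup G Γᶜ) → Ω) ⁻¹' C) := by
          rw [MulAction.isBlock_iff_smul_eq_of_nonempty]
          rintro g ⟨z, ⟨w, hw, rfl⟩, hz⟩
          have hgC : (g : G) • C = C := hstab g w.1 hw hz
          apply Set.ext
          intro t
          rw [Set.mem_smul_set_iff_inv_smul_mem]
          show ((g⁻¹ : ↥K) : G) • (t : Ω) ∈ C ↔ (t : Ω) ∈ C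
          rw [Subgroup.coe_inv]
          conv_rhs => rw [← hgC, Set.mem_smul_set_iff_inv_smul_mem]
        rcases hJp.isTrivialBlock_of_isBlock hblock with h | h
        · exfalso
          have hvC : g0 • v ∈ C := Set.smul_mem_smul_set hv
          have := @h ⟨x0, hx0'⟩ hxC ⟨g0 • v, fun hh => hh (hsub hvC)⟩ hvC
          have h' : x0 = g0 • v := congrArg Subtype.val this
          rw [← hg0] at h'
          exact huv (smul_left_cancel g0 h')
        · intro z hz
          have hz' : (⟨z, fun hh => hh hz⟩ : ↥(SubMulAction.ofFixingSubgroup G Γᶜ)) ∈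
              ((Subtype.val : ↥(SubMulAction.ofFixingSubgroup G Γᶜ) → Ω) ⁻¹' C) := by
            rw [h]; trivial
          exact hz'
      · obtain ⟨y, hyC, hyΓ⟩ := Set.not_subset.1 hsub
        intro z hz
        obtain ⟨g, hg, rfl⟩ := htr x0 hx0 z hz
        rw [← hstab g y hyC (by rw [hfix g hg y hyΓ]; exact hyC)]
        exact Set.smul_mem_smul_set hxC
    have hKfix : ∀ g ∈ K, ∀ h : G, g • h • C = h • C := by
      intro g hg h
      have hb : MulAction.IsBlock G (h • C) := hCb.translate h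
      by_cases hd : Disjoint (h • C) C
      · have hc : h • x0 ∈ h • C := Set.smul_mem_smul_set hxC
        refine hb.smul_eq_of_mem hc ?_
        rw [hfix g hg _ fun hΓ => Set.disjoint_left.1 hd hc (hΓC hΓ)]
        exact hc
      · rw [(MulAction.isBlock_iff_smul_eq_or_disjoint.1 hCb h).resolve_right hd]
        by_cases hx : g • x0 = x0
        · exact hstab g x0 hxC (hx.symm ▸ hxC)
        · refine hstab g x0 hxC (hΓC ?_)
          by_contra hn
          have h2 := hfix g⁻¹ (inv_mem hg) _ hn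
          rw [inv_smul_smul] at h2
          exact hx h2.symm
    let N : Subgroup G :=
      { carrier := {g | ∀ h : G, g • h • C = h • C}
        one_mem' := fun h => one_smul _ _
        mul_mem' := fun {a b} ha hb h => by rw [mul_smul, hb h, ha h]
        inv_mem' := fun {a} ha h => by rw [inv_smul_eq_iff, ha h] }
    have hNn : N.Normal := ⟨fun n hn g h => by
      rw [mul_smul, mul_smul, ← mul_smul g⁻¹ h C, hn (g⁻¹ * h), mul_smul, smul_inv_smul]⟩
    have hNt := hqp N hNn (fun h => hKne (le_bot_iff.1 (h ▸ hKfix)))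
    refine hB2 (Set.eq_univ_of_forall fun w => ?_)
    obtain ⟨n, hn⟩ := @MulAction.exists_smul_eq _ _ _ hNt x0 (g0 • w)
    have hnC : (n : G) • C = C := by simpa using n.2 1
    have hmem : g0 • w ∈ C := by
      rw [← hn, ← hnC]
      exact Set.smul_mem_smul_set hxC
    exact Set.smul_mem_smul_set_iff.1 hmem
  have hcard : (Γᶜ).ncard = Nat.card Ω - Γ.ncard := Set.ncard_compl Γ
  obtain ⟨m, hm⟩ : ∃ m, (Γᶜ).ncard = m + 1 := ⟨(Γᶜ).ncard - 1, by omega⟩
  have h := hprim.isMultiplyPreprimitive hm (by omega) hJp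
  rw [show Nat.card Ω - Γ.ncard + 1 = m + 2 by omega]
  exact h.isMultiplyPretransitive

end Cfsg.Agent.S3619
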