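import Cfsg.Statements.S3620
import Cfsg.Agent.Perm.MarggraffAlt

set_option autoImplicit false
open Cfsg

namespace Cfsg.Agent.S3620

/-- Let G act faithfully on a finite set in such a way that every non-trivial normal subgroup of G is transitive (G is quasiprimitive). Let Γ be a subset with more than one point and fewer than half of the points, such that the pointwise stabilizer of the complement of Γ acts transitively on Γ. Then G induces every even permutation of the set (G is the alternating or the symmetric group). -/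
theorem result {G Ω : Type*} [Group G] [Finite G] [MulAction G Ω] [FaithfulSMul G Ω] [Fintype Ω] [DecidableEq Ω]
    (hqp : ∀ N : Subgroup G, N.Normal → N ≠ ⊥ → MulAction.IsPretransitive ↥N Ω)
    (Γ : Set Ω) (hΓ1 : 1 < Γ.ncard) (hΓ2 : 2 * Γ.ncard < Fintype.card Ω)
    (hJ : MulAction.IsPretransitive ↥(fixingSubgroup G Γᶜ) ↥(SubMulAction.ofFixingSubgroup G Γᶜ)) :
    ∀ σ : Equiv.Perm Ω, Equiv.Perm.sign σ = 1 → ∃ x : G, (MulAction.toPerm x : Equiv.Perm Ω) = σ := by
  classical
  haveI : Finite G := Finite.of_injective _ (MulAction.toPerm_injective (α := G) (β := Ω))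
  haveI := Fintype.ofFinite G
  have htr : ∀ a ∈ Γ, ∀ b ∈ Γ, ∃ g : G, (∀ z ∉ Γ, g • z = z) ∧ g • a = b := by
    intro a ha b hb
    obtain ⟨⟨g, hg⟩, hgab⟩ := hJ.exists_smul_eq ⟨a, fun h => h ha⟩ ⟨b, fun h => h hb⟩
    exact ⟨g, fun z hz => (mem_fixingSubgroup_iff G).1 hg z hz, congrArg Subtype.val hgab⟩
  obtain ⟨x, hxΓ⟩ : Γ.Nonempty := Set.nonempty_of_ncard_ne_zero (by omega)
  obtain ⟨x', hx'Γ, hxx'⟩ := Set.exists_ne_of_one_lt_ncard hΓ1 x
  have htop : (⊤ : Subgroup G) ≠ ⊥ := by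
    intro h
    obtain ⟨g, -, hg⟩ := htr x hxΓ x' hx'Γ
    have : g ∈ (⊥ : Subgroup G) := h ▸ Subgroup.mem_top g
    rw [Subgroup.mem_bot] at this
    exact hxx' (by rw [← hg, this, one_smul])
  have hGt : MulAction.IsPretransitive G Ω := ⟨fun a b => by
    obtain ⟨⟨g, _⟩, hg⟩ := (hqp ⊤ inferInstance htop).exists_smul_eq a b
    exact ⟨g, hg⟩⟩
  haveI : Nontrivial Ω := ⟨⟨x', x, hxx'⟩⟩
  by_cases hprim : MulAction.IsPreprimitive G Ω
  · intro σ hσ
    have h := CfsgLib.MarggraffAlt.alternatingGroup_le hprim Γ.toFinset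
      (by rw [← Set.ncard_eq_toFinset_card']; exact hΓ1)
      (by rw [← Set.ncard_eq_toFinset_card']; exact hΓ2)
      (fun a ha b hb => by
        obtain ⟨g, hg, hgab⟩ := htr a (Set.mem_toFinset.1 ha) b (Set.mem_toFinset.1 hb)
        exact ⟨g, fun z hz => hg z fun h => hz (Set.mem_toFinset.2 h), hgab⟩)
    obtain ⟨g, hg⟩ := h (Equiv.Perm.mem_alternatingGroup.2 hσ)
    exact ⟨g, hg⟩
  exfalso
  -- a maximal block system
  obtain ⟨M, hM, hle, hlt⟩ : ∃ M : Subgroup G, IsCoatom M ∧ MulAction.stabilizer G x ≤ M ∧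
      MulAction.stabilizer G x ≠ M := by
    rcases eq_top_or_exists_le_coatom (MulAction.stabilizer G x) with h | ⟨M, hM, hle⟩
    · exact absurd (h ▸ Subgroup.mem_top _) fun hm : (htr x hxΓ x' hx'Γ).choose ∈ _ =>
        hxx' ((htr x hxΓ x' hx'Γ).choose_spec.2.symm.trans hm)
    · refine ⟨M, hM, hle, fun e => hprim ?_⟩
      exact (MulAction.isCoatom_stabilizer_iff_preprimitive G x).1 (e ▸ hM)
  have hQt : MulAction.IsPretransitive G (G ⧸ M) := inferInstance
  haveI : Nontrivial (G ⧸ M) := by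
    rw [← Finite.one_lt_card_iff_nontrivial]
    exact Subgroup.one_lt_index_of_ne_top hM.1
  haveI := Fintype.ofFinite (G ⧸ M)
  have hQprim : MulAction.IsPreprimitive G (G ⧸ M) :=
    (MulAction.isCoatom_stabilizer_iff_preprimitive G ((1 : G) : G ⧸ M)).1
      (by rwa [MulAction.stabilizer_quotient])
  choose k hk using fun y : Ω => MulAction.exists_smul_eq G x y
  let π : Ω → G ⧸ M := fun y => (k y : G ⧸ M)
  have hπ : ∀ (g : G) (y : Ω), π (g • y) = g • π y := fun g y => by
    show ((k (g • y) : G) : G ⧸ M) = ((g * k y : G) : G ⧸ M)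
    rw [QuotientGroup.eq]
    refine hle ?_
    rw [MulAction.mem_stabilizer_iff, mul_smul, mul_smul, hk, inv_smul_eq_iff, hk]
  have hsurj : Function.Surjective π := fun q => by
    obtain ⟨g, hg⟩ := MulAction.exists_smul_eq G (π x) q
    exact ⟨g • x, by rw [hπ, hg]⟩
  obtain ⟨x₂, hx₂, hπx₂⟩ : ∃ x₂, x₂ ≠ x ∧ π x₂ = π x := by
    obtain ⟨g, hgM, hg⟩ := SetLike.exists_of_lt (lt_of_le_of_ne hle hlt)
    refine ⟨g • x, hg, ?_⟩
    show ((k (g • x) : G) : G ⧸ M) = ((k x : G) : G ⧸ M)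
    rw [QuotientGroup.eq]
    have h1 : (k (g • x))⁻¹ * g ∈ MulAction.stabilizer G x := by
      rw [MulAction.mem_stabilizer_iff, mul_smul, inv_smul_eq_iff, hk]
    have h2 := M.mul_mem (M.mul_mem (hle h1) (M.inv_mem hgM))
      (hle (show k x ∈ MulAction.stabilizer G x from hk x))
    simpa [mul_assoc] using h2
  haveI hfaith : FaithfulSMul G (G ⧸ M) := by
    let K := (MulAction.toPermHom G (G ⧸ M)).ker
    have hK : K = ⊥ := by
      by_contra hK
      have hKt := hqp K inferInstance hK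
      obtain ⟨q, hq⟩ := exists_ne (π x)
      obtain ⟨y, rfl⟩ := hsurj q
      obtain ⟨⟨g, hg⟩, hgy⟩ := hKt.exists_smul_eq x y
      refine hq ?_
      rw [← show g • x = y from hgy, hπ]
      exact congrArg (fun σ : Equiv.Perm (G ⧸ M) => σ (π x)) (MonoidHom.mem_ker.1 hg)
    exact ⟨fun {a b} h => inv_mul_eq_one.1 (show a⁻¹ * b = 1 by
      have : a⁻¹ * b ∈ K := MonoidHom.mem_ker.2 (Equiv.ext fun q => by
        show (a⁻¹ * b) • q = q
        rw [mul_smul, ← h q, inv_smul_smul])
      rwa [hK, Subgroup.mem_bot] at this)⟩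
  -- `Γ` is a union of fibres
  obtain ⟨j₀, hj₀, hj₀x⟩ := htr x hxΓ x' hx'Γ
  obtain ⟨q₁, hq₁⟩ : ∃ q : G ⧸ M, j₀ • q ≠ q := by
    by_contra h
    push Not at h
    have : j₀ = 1 := eq_of_smul_eq_smul (α := G ⧸ M) fun q => by rw [h q, one_smul]
    exact hxx' (by rw [← hj₀x, this, one_smul])
  have hfib₁ : ∀ y, π y = q₁ → y ∈ Γ := fun y hy => by
    by_contra h
    exact hq₁ (by rw [← hy, ← hπ, hj₀ y h])
  have hunion : ∀ z w, π z = π w → z ∈ Γ → w ∈ Γ := by
    intro z w hzw hz
    by_contra hw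
    obtain ⟨y, hy⟩ := hsurj q₁
    obtain ⟨j, hj, hjz⟩ := htr z hz y (hfib₁ y hy)
    have h1 : π y = π z := by rw [← hjz, hπ, hzw, ← hπ, hj w hw]
    exact hw (hfib₁ w (by rw [← hzw, ← h1, hy]))
  set Γq : Finset (G ⧸ M) := Γ.toFinset.image π with hΓq
  have hmemΓq : ∀ y, π y ∈ Γq ↔ y ∈ Γ := fun y => by
    rw [hΓq, Finset.mem_image]
    exact ⟨fun ⟨z, hz, hzy⟩ => hunion z y hzy (Set.mem_toFinset.1 hz),
      fun hy => ⟨y, Set.mem_toFinset.2 hy, rfl⟩⟩
  have htrQ : ∀ a ∈ Γq, ∀ b ∈ Γq, ∃ g : G, (∀ c ∉ Γq, g • c = c) ∧ g • a = b := by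
    intro a ha b hb
    obtain ⟨y, rfl⟩ := hsurj a
    obtain ⟨z, rfl⟩ := hsurj b
    obtain ⟨g, hg, hgy⟩ := htr y ((hmemΓq y).1 ha) z ((hmemΓq z).1 hb)
    refine ⟨g, fun c hc => ?_, by rw [← hπ, hgy]⟩
    obtain ⟨w, rfl⟩ := hsurj c
    rw [← hπ, hg w fun h => hc ((hmemΓq w).2 h)]
  have hΓqcard : 1 < Γq.card := by
    obtain ⟨y, hy⟩ := hsurj q₁
    refine Finset.one_lt_card.2 ⟨q₁, hy ▸ (hmemΓq y).2 (hfib₁ y hy), j₀ • q₁, ?_, hq₁.symm⟩
    rw [← hy, ← hπ, hmemΓq]
    by_contra h
    apply hq₁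
    have h' : j₀ • j₀ • y = j₀ • y := hj₀ _ h
    rw [← hy, ← hπ, MulAction.injective j₀ h']
  have hhalf : 2 * Γq.card < Fintype.card (G ⧸ M) := by
    have hb : ∀ q : G ⧸ M, (Finset.univ.filter fun y => π y = q).card =
        (Finset.univ.filter fun y => π y = π x).card := by
      intro q
      obtain ⟨g, hg⟩ := MulAction.exists_smul_eq G (π x) q
      refine (Finset.card_bij (fun y _ => g • y) (fun y hy => ?_) (fun _ _ _ _ h => MulAction.injective g h)
        fun y hy => ⟨g⁻¹ • y, ?_, smul_inv_smul g y⟩).symm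
      · rw [Finset.mem_filter] at hy ⊢; exact ⟨Finset.mem_univ _, by rw [hπ, hy.2, hg]⟩
      · rw [Finset.mem_filter] at hy ⊢
        exact ⟨Finset.mem_univ _, by rw [hπ, hy.2, inv_smul_eq_iff, hg]⟩
    set b := (Finset.univ.filter fun y => π y = π x).card
    have h1 : Fintype.card Ω = Fintype.card (G ⧸ M) * b := by
      rw [← Finset.card_univ, Finset.card_eq_sum_card_fiberwise (f := π) (t := Finset.univ)
        (fun y _ => Finset.mem_univ _), Finset.sum_congr rfl (fun q _ => hb q), Finset.sum_const,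
        Finset.card_univ, smul_eq_mul]
    have h2 : Γ.ncard = Γq.card * b := by
      rw [Set.ncard_eq_toFinset_card', Finset.card_eq_sum_card_fiberwise (f := π) (t := Γq)
        (fun y hy => Finset.mem_image_of_mem π hy), ← smul_eq_mul, ← Finset.sum_const]
      refine Finset.sum_congr rfl fun q hq => ?_
      rw [← hb q]
      congr 1
      ext y
      simp only [Finset.mem_filter, Finset.mem_univ, true_and, Set.mem_toFinset]
      exact ⟨fun h => h.2, fun h => ⟨(hmemΓq y).1 (h ▸ hq), h⟩⟩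
    refine Nat.lt_of_mul_lt_mul_right (a := b) ?_
    rw [mul_assoc, ← h2, ← h1]; exact hΓ2
  have hAlt := CfsgLib.MarggraffAlt.alternatingGroup_le hQprim Γq hΓqcard hhalf htrQ
  have hphi : Function.Injective (MulAction.toPermHom G (G ⧸ M)) := MulAction.toPerm_injective
  -- one 3-cycle fixing a fibre pointwise
  obtain ⟨q₀, hq₀⟩ : Γqᶜ.Nonempty := Finset.card_pos.1 (by rw [Finset.card_compl]; omega)
  rw [Finset.mem_compl] at hq₀
  obtain ⟨c, hc⟩ : Γq.Nonempty := Finset.card_pos.1 (by omega)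
  have hmult : MulAction.IsMultiplyPretransitive G (G ⧸ M) (Γq.card + 1) := by
    haveI : MulAction.IsMultiplyPretransitive (alternatingGroup (G ⧸ M)) (G ⧸ M)
        (Fintype.card (G ⧸ M) - 2) := by
      rw [← Nat.card_eq_fintype_card]; exact alternatingGroup.isMultiplyPretransitive _
    haveI : MulAction.IsMultiplyPretransitive (alternatingGroup (G ⧸ M)) (G ⧸ M) (Γq.card + 1) :=
      MulAction.isMultiplyPretransitive_of_le (n := Fintype.card (G ⧸ M) - 2) (by omega)
        (by rw [Nat.card_eq_fintype_card]; omega)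
    refine ⟨fun u v => ?_⟩
    obtain ⟨⟨σ, hσ⟩, hσu⟩ := MulAction.exists_smul_eq (alternatingGroup (G ⧸ M)) u v
    obtain ⟨g, hg⟩ := hAlt hσ
    refine ⟨g, Function.Embedding.ext fun i => ?_⟩
    have h' : σ (u i) = v i := congrArg (fun e : Fin (Γq.card + 1) ↪ G ⧸ M => e i) hσu
    rw [Function.Embedding.smul_apply]
    rw [← hg] at h'
    exact h'
  haveI := hmult
  obtain ⟨g, hg⟩ := CfsgLib.MarggraffAlt.pat_nonempty (G := G) (k := Γq.card + 1) (by omega) Γq
    (I := {c}) (U := insert q₀ (Γq.erase c))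
    (Finset.disjoint_singleton_left.2 fun h => by
      rcases Finset.mem_insert.1 h with h | h
      · exact hq₀ (h ▸ hc)
      · exact Finset.notMem_erase c Γq h)
    (by rw [Finset.card_singleton, Finset.card_insert_of_notMem
      (fun h => hq₀ (Finset.mem_of_mem_erase h)), Finset.card_erase_of_mem hc]; omega)
    (by rw [Finset.card_singleton]; omega)
    (by rw [Finset.card_insert_of_notMem (fun h => hq₀ (Finset.mem_of_mem_erase h)),
      Finset.card_erase_of_mem hc]; omega)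
  rw [CfsgLib.MarggraffAlt.mem_pat] at hg
  have hgc : g⁻¹ • c ∈ Γq := hg.1 c (Finset.mem_singleton_self c)
  obtain ⟨cy, rfl⟩ := hsurj c
  obtain ⟨c', hc', hcc'⟩ := Finset.exists_mem_ne hΓqcard (π cy)
  obtain ⟨d, hd, hdd⟩ := Finset.exists_mem_ne hΓqcard (g⁻¹ • π cy)
  obtain ⟨c'y, rfl⟩ := hsurj c'
  obtain ⟨dy, rfl⟩ := hsurj d
  obtain ⟨j₁, hj₁, hj₁c⟩ := htr cy ((hmemΓq cy).1 hc) c'y ((hmemΓq c'y).1 hc')
  obtain ⟨j₂, hj₂, hj₂c⟩ := htr (g⁻¹ • cy) ((hmemΓq _).1 (by rw [hπ]; exact hgc)) dy ((hmemΓq dy).1 hd)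
  set e₀ := j₁ * (g * j₂ * g⁻¹) * j₁⁻¹ * (g * j₂ * g⁻¹)⁻¹ with he₀
  have hj₁Q : ∀ r ∉ Γq, j₁ • r = r := fun r hr => by
    obtain ⟨w, rfl⟩ := hsurj r
    rw [← hπ, hj₁ w fun h => hr ((hmemΓq w).2 h)]
  have hj₂Q : ∀ r, g⁻¹ • r ∉ Γq → (g * j₂ * g⁻¹) • r = r := fun r hr => by
    obtain ⟨w, rfl⟩ := hsurj r
    rw [← hπ] at hr
    rw [← hπ, mul_smul, mul_smul, hj₂ _ (fun h => hr ((hmemΓq _).2 h)), smul_inv_smul]
  have he3 : (MulAction.toPermHom G (G ⧸ M) e₀).IsThreeCycle := by
    rw [he₀, map_mul, map_mul, map_mul (MulAction.toPermHom G (G ⧸ M)) j₁, map_inv, map_inv]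
    refine CfsgLib.OnePointMeet.isThreeCycle_commutator _ _ (π cy) ?_ ?_ fun r h1 h2 => ?_
    · show j₁ • π cy ≠ π cy
      rw [← hπ, hj₁c]; exact hcc'
    · show (g * j₂ * g⁻¹) • π cy ≠ π cy
      rw [mul_smul, mul_smul, ← hπ g⁻¹, ← hπ j₂, hj₂c]
      exact fun h => hdd (eq_inv_smul_iff.2 h)
    · have hr : r ∈ Γq := by by_contra h; exact h1 (hj₁Q r h)
      have hgr : g⁻¹ • r ∈ Γq := by by_contra h; exact h2 (hj₂Q r h)
      by_contra hne
      exact hg.2 r (Finset.mem_insert_of_mem (Finset.mem_erase.2 ⟨hne, hr⟩)) hgr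
  have he₀fix : ∀ y, π y = q₀ → e₀ • y = y := by
    intro y hy
    have h1 : j₁ • y = y := hj₁ y fun h => hq₀ (hy ▸ (hmemΓq y).2 h)
    have h2 : (g * j₂ * g⁻¹) • y = y := by
      rw [mul_smul, mul_smul, hj₂ _ (fun h => hg.2 q₀ (Finset.mem_insert_self _ _)
        (by rw [← hy, ← hπ, hmemΓq]; exact h)), smul_inv_smul]
    exact MulAction.mem_stabilizer_iff.1 (Subgroup.mul_mem _ (Subgroup.mul_mem _
      (Subgroup.mul_mem _ (MulAction.mem_stabilizer_iff.2 h1) (MulAction.mem_stabilizer_iff.2 h2))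
      (Subgroup.inv_mem _ (MulAction.mem_stabilizer_iff.2 h1)))
      (Subgroup.inv_mem _ (MulAction.mem_stabilizer_iff.2 h2)))
  -- transport it to every fibre
  have hthree : ∀ (q : G ⧸ M) (t : Equiv.Perm (G ⧸ M)), t.IsThreeCycle → t q = q →
      ∃ h : G, MulAction.toPermHom G (G ⧸ M) h = t ∧ ∀ y, π y = q → h • y = y := by
    intro q t ht htq
    obtain ⟨u, hu⟩ := MulAction.exists_smul_eq G q₀ q
    -- a lift of `t` and the conjugate of `e₀`
    set e := u * e₀ * u⁻¹ with he
    have hefix : ∀ y, π y = q → e • y = y := fun y hy => by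
      rw [he, mul_smul, mul_smul, he₀fix _ (by rw [hπ, hy, ← hu, inv_smul_smul]), smul_inv_smul]
    set c₀ := MulAction.toPermHom G (G ⧸ M) e with hc₀
    have hc₀3 : c₀.IsThreeCycle := by
      rw [← _root_.card_support_eq_three_iff, hc₀, he, map_mul, map_mul, map_inv,
        Equiv.Perm.card_support_conj, _root_.card_support_eq_three_iff]
      exact he3
    have hc₀q : c₀ q = q := by
      obtain ⟨y, hy⟩ := hsurj q
      show e • q = q
      rw [← hy, ← hπ, hefix y hy]
    -- an element of the point stabilizer conjugating one to the other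
    obtain ⟨s, hs, hsc⟩ : ∃ s : Equiv.Perm (G ⧸ M), s q = q ∧ s * c₀ * s⁻¹ = t := by
      obtain ⟨r, hr⟩ := isConj_iff.1 (Equiv.Perm.isConj_iff_cycleType_eq.2
        ((show c₀.cycleType = {3} from hc₀3).trans (show t.cycleType = {3} from ht).symm))
      have hfix : t (r q) = r q := by
        rw [← hr]; show r (c₀ (r.symm (r q))) = r q
        rw [Equiv.symm_apply_apply, hc₀q]
      refine ⟨Equiv.swap (r q) q * r, Equiv.swap_apply_left _ _, ?_⟩
      rw [mul_inv_rev, show Equiv.swap (r q) q * r * c₀ * (r⁻¹ * (Equiv.swap (r q) q)⁻¹) =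
        Equiv.swap (r q) q * (r * c₀ * r⁻¹) * (Equiv.swap (r q) q)⁻¹ by simp only [mul_assoc], hr,
        mul_inv_eq_iff_eq_mul, Equiv.swap_mul_eq_mul_swap,
        Equiv.Perm.inv_eq_iff_eq.2 hfix.symm, Equiv.Perm.inv_eq_iff_eq.2 htq.symm]
    have key : ∀ s : Equiv.Perm (G ⧸ M), s q = q → Equiv.Perm.sign s = 1 →
        ∀ h : G, (∀ y, π y = q → h • y = y) → ∃ h' : G, MulAction.toPermHom G (G ⧸ M) h' =
          s * MulAction.toPermHom G (G ⧸ M) h * s⁻¹ ∧ ∀ y, π y = q → h' • y = y := by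
      intro s hs hsign h hh
      obtain ⟨w, hw⟩ := hAlt (Equiv.Perm.mem_alternatingGroup.2 hsign)
      refine ⟨w * h * w⁻¹, by rw [map_mul, map_mul, map_inv, hw], fun y hy => ?_⟩
      have hwq : w • q = q := by rw [← hw] at hs; exact hs
      rw [mul_smul, mul_smul, hh _ (by rw [hπ, hy, inv_smul_eq_iff, hwq]), smul_inv_smul]
    rcases Int.units_eq_one_or (Equiv.Perm.sign s) with h1 | h1
    · obtain ⟨h', hh', hh''⟩ := key s hs h1 e hefix
      exact ⟨h', hh'.trans hsc, hh''⟩
    · obtain ⟨a, ha⟩ : ∃ a, c₀ a ≠ a := by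
        by_contra hno
        push Not at hno
        have := hc₀3.card_support
        rw [Equiv.Perm.support_eq_empty_iff.2 (Equiv.ext hno)] at this
        simp at this
      have hb : c₀ a ≠ q := fun e' => ha (c₀.injective (by
        rw [e', hc₀q]))
      have hinv : Equiv.swap a (c₀ a) * c₀⁻¹ * (Equiv.swap a (c₀ a))⁻¹ = c₀ := by
        have h3 : c₀ * (c₀ * c₀) = 1 := by
          have := pow_orderOf_eq_one c₀
          rwa [hc₀3.orderOf, pow_succ', pow_two] at this
        have h3' : ∀ z, c₀ (c₀ (c₀ z)) = z := fun z => congrArg (fun f : Equiv.Perm _ => f z) h3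
        have hs' : ∀ z, c₀ z ≠ z → z = a ∨ z = c₀ a ∨ z = c₀ (c₀ a) := by
          intro z hz
          have hsub : ({a, c₀ a, c₀ (c₀ a)} : Finset (G ⧸ M)) = c₀.support := by
            refine Finset.eq_of_subset_of_card_le (fun r hr => ?_) ?_
            · simp only [Finset.mem_insert, Finset.mem_singleton] at hr
              rw [Equiv.Perm.mem_support]
              rcases hr with rfl | rfl | rfl
              · exact ha
              · exact fun e' => ha (c₀.injective e')
              · exact fun e' => ha (c₀.injective (c₀.injective e'))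
            · have n1 : a ∉ ({c₀ a, c₀ (c₀ a)} : Finset (G ⧸ M)) := by
                simp only [Finset.mem_insert, Finset.mem_singleton, not_or]
                exact ⟨Ne.symm ha, fun e' => ha (by
                  have := congrArg c₀ e'; rw [h3'] at this; exact this)⟩
              rw [hc₀3.card_support, Finset.card_insert_of_notMem n1,
                Finset.card_pair (fun e' => ha (c₀.injective e').symm)]
          have hz' : z ∈ c₀.support := Equiv.Perm.mem_support.2 hz
          rw [← hsub] at hz'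
          simpa using hz'
        apply Equiv.ext
        intro z
        rw [Equiv.swap_inv, Equiv.Perm.mul_apply, Equiv.Perm.mul_apply]
        have hi : ∀ z, c₀⁻¹ z = c₀ (c₀ z) := fun z => Equiv.Perm.inv_eq_iff_eq.2 (h3' z).symm
        rw [hi]
        by_cases hza : z = a
        · subst hza; rw [Equiv.swap_apply_left, h3', Equiv.swap_apply_left]
        by_cases hzb : z = c₀ a
        · subst hzb
          rw [Equiv.swap_apply_right, Equiv.swap_apply_of_ne_of_ne]
          · exact fun e' => ha (by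
              have := congrArg c₀ e'; rw [h3'] at this; exact this.symm)
          · exact fun e' => ha (c₀.injective e')
        rw [Equiv.swap_apply_of_ne_of_ne hza hzb]
        by_cases hzc : z = c₀ (c₀ a)
        · subst hzc
          rw [h3', h3', Equiv.swap_apply_right]
        · have hz : c₀ z = z := by
            by_contra hne
            rcases hs' z hne with h | h | h
            · exact hza h
            · exact hzb h
            · exact hzc h
          rw [hz, hz, Equiv.swap_apply_of_ne_of_ne hza hzb]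
      obtain ⟨h', hh', hh''⟩ := key (s * Equiv.swap a (c₀ a))
        (by
          rw [Equiv.Perm.mul_apply, Equiv.swap_apply_of_ne_of_ne (fun e' : q = a => ha (e' ▸ hc₀q)) hb.symm]
          exact hs)
        (by rw [map_mul, h1, Equiv.Perm.sign_swap (Ne.symm ha)]; rfl) e⁻¹
        (fun y hy => inv_smul_eq_iff.2 (hefix y hy).symm)
      refine ⟨h', hh'.trans ?_, hh''⟩
      rw [map_inv, ← hc₀, mul_inv_rev]
      calc s * Equiv.swap a (c₀ a) * c₀⁻¹ * ((Equiv.swap a (c₀ a))⁻¹ * s⁻¹)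
          = s * (Equiv.swap a (c₀ a) * c₀⁻¹ * (Equiv.swap a (c₀ a))⁻¹) * s⁻¹ := by
            simp only [mul_assoc]
        _ = t := by rw [hinv, hsc]
  -- hence even elements fixing a fibre fix it pointwise
  have heven : ∀ h : G, Equiv.Perm.sign (MulAction.toPermHom G (G ⧸ M) h) = 1 →
      ∀ y, π (h • y) = π y → h • y = y := by
    intro h hsign y hy
    set q := π y with hq
    let S : Subgroup (Equiv.Perm {r : G ⧸ M // r ≠ q}) :=
      ((MulAction.stabilizer G y).map (MulAction.toPermHom G (G ⧸ M))).comap Equiv.Perm.ofSubtype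
    have hS : alternatingGroup {r : G ⧸ M // r ≠ q} ≤ S := by
      rw [← Equiv.Perm.closure_three_cycles_eq_alternating, Subgroup.closure_le]
      intro t ht
      obtain ⟨w, hw, hwy⟩ := hthree q (Equiv.Perm.ofSubtype t)
        (by rw [Equiv.Perm.IsThreeCycle, Equiv.Perm.cycleType_ofSubtype]; exact ht)
        (Equiv.Perm.ofSubtype_apply_of_not_mem t (by simp))
      exact ⟨w, MulAction.mem_stabilizer_iff.2 (hwy y rfl), hw⟩
    set σ := MulAction.toPermHom G (G ⧸ M) h with hσ
    have hσq : σ q = q := by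
      show h • q = q
      rw [hq, ← hπ, hy]
    have hσp : ∀ r, σ r ≠ q ↔ r ≠ q := fun r => by
      constructor <;> intro hr e
      · exact hr (by rw [e, hσq])
      · exact hr (σ.injective (e.trans hσq.symm))
    have hof : Equiv.Perm.ofSubtype (σ.subtypePerm hσp) = σ :=
      Equiv.Perm.ofSubtype_subtypePerm (p := fun r => r ≠ q) hσp fun r hr e => hr (by rw [e, hσq])
    have hmem : σ.subtypePerm hσp ∈ S := hS (by
      rw [Equiv.Perm.mem_alternatingGroup]
      rw [← Equiv.Perm.sign_ofSubtype, hof, hsign])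
    obtain ⟨w, hw, hwe⟩ := Subgroup.mem_comap.1 hmem
    rw [hof, hσ] at hwe
    exact hphi hwe ▸ hw
  -- the even part is transitive
  let N : Subgroup G := (alternatingGroup (G ⧸ M)).comap (MulAction.toPermHom G (G ⧸ M))
  have hN : N ≠ ⊥ := by
    intro hN
    have hmem : e₀ ∈ N := Subgroup.mem_comap.2 he3.mem_alternatingGroup
    rw [hN, Subgroup.mem_bot] at hmem
    rw [hmem, map_one] at he3
    have := he3.card_support
    simp at this
  obtain ⟨⟨w, hw⟩, hwx⟩ := (hqp N inferInstance hN).exists_smul_eq x x₂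
  have hwx' : w • x = x₂ := hwx
  exact hx₂ (hwx'.symm.trans (heven w (Equiv.Perm.mem_alternatingGroup.1 (Subgroup.mem_comap.1 hw)) x
    (by rw [hwx', hπx₂])))

end Cfsg.Agent.S3620
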