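import Cfsg.Statements.S3626
import Cfsg.Agent.SpecBlow.ReeCube
import Cfsg.Agent.S1159
import Cfsg.Agent.S2514
import Cfsg.Agent.S3444

set_option autoImplicit false
open Cfsg

namespace Cfsg.Agent.S3626

open CfsgLib.SpecBlow

/-- Let R be the small Ree group over the field with q = 3^(2m+1) ≥ 27 elements. Then there are finite groups of arbitrarily large order with exactly the same set of element orders as R × R × R. -/
theorem result {K : Type*} [Field K] [Fintype K] {m : ℕ} (hm : 1 ≤ m) (hK : Fintype.card K = 3 ^ (2 * m + 1)) (N : ℕ) :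
    ∃ (H : Type) (_ : Group H) (_ : Fintype H), N < Fintype.card H ∧
      Set.range (orderOf : H → ℕ) = Set.range (orderOf : ↥(Cfsg.Lie.twistedG2 K (3 ^ m)) × ↥(Cfsg.Lie.twistedG2 K (3 ^ m)) × ↥(Cfsg.Lie.twistedG2 K (3 ^ m)) → ℕ) := by
  classical
  haveI : Fact (Nat.Prime 3) := ⟨Nat.prime_three⟩
  haveI : CharP K 3 := charP_of_card_eq_prime_pow hK
  set q := 3 ^ (2 * m + 1) with hq
  let L := ↥(Cfsg.Lie.twistedG2 K (3 ^ m))
  haveI : Finite (ReeCube.H K) := Finite.of_equiv _ SemidirectProduct.equivProd.symm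
  have hL : ∀ d, (∃ g : L, orderOf g = d) ↔ _ := fun d => Cfsg.Agent.S1159.result hm hK d
  have hHd := ReeCube.orderOf_dvd (F := K) (m := m) hK
  obtain ⟨⟨x6, e6⟩, ⟨x9, e9⟩, ⟨xm, em⟩, ⟨xp, ep⟩⟩ := ReeCube.exists_orders (F := K) (m := m) hK
  have h8 := ReeCube.card_mod_eight m
  have hqa : 3 ^ (m + 1) ≤ q := Nat.pow_le_pow_right (by norm_num) (by omega)
  have ha3 : 3 ∣ 3 ^ (m + 1) := dvd_pow_self 3 (Nat.succ_ne_zero m)
  have hq3 : 3 ∣ q := dvd_pow_self 3 (Nat.succ_ne_zero _)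
  have ha2 : ¬ 2 ∣ 3 ^ (m + 1) := fun h => by
    have := Nat.prime_two.dvd_of_dvd_pow h
    omega
  have hq2 : ¬ 2 ∣ q := fun h => by
    have := Nat.prime_two.dvd_of_dvd_pow h
    omega
  have hsubω : Set.range (orderOf : ReeCube.H K → ℕ) ⊆ Set.range (orderOf : L → ℕ) := by
    rintro n ⟨h, rfl⟩
    obtain ⟨g, hg⟩ := (hL (orderOf h)).2 (by rcases hHd h with e | e | e | e <;> simp [q, e])
    exact ⟨g, hg⟩
  have hω : ∀ {d : ℕ}, (d ∣ 6 ∨ d ∣ 9 ∨ d ∣ q - 1 ∨ d ∣ (q + 1) / 2) →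
      d ∈ Set.range (orderOf : ReeCube.H K → ℕ) := by
    intro d hd
    have key : ∀ x : ReeCube.H K, d ∣ orderOf x → 0 < orderOf x →
        d ∈ Set.range (orderOf : ReeCube.H K → ℕ) := fun x hx hpos =>
      ⟨x ^ (orderOf x / d), by
        rw [orderOf_pow_orderOf_div hpos.ne' hx]⟩
    rcases hd with e | e | e | e
    · exact key x6 (e6 ▸ e) (orderOf_pos _)
    · exact key x9 (e9 ▸ e) (orderOf_pos _)
    · exact key xm (em ▸ e) (orderOf_pos _)
    · exact key xp (ep ▸ e) (orderOf_pos _)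
  have hμ : {n : ℕ | n ∈ Set.range (orderOf : ReeCube.H K → ℕ) ∧
        ∀ k ∈ Set.range (orderOf : ReeCube.H K → ℕ), n ∣ k → k = n} ⊆
      {n : ℕ | n ∈ Set.range (orderOf : L → ℕ) ∧
        ∀ k ∈ Set.range (orderOf : L → ℕ), n ∣ k → k = n} := by
    rintro n ⟨hn, hmax⟩
    refine ⟨hsubω hn, fun k hk hnk => ?_⟩
    have hfour : n = 6 ∨ n = 9 ∨ n = q - 1 ∨ n = (q + 1) / 2 := by
      obtain ⟨h, rfl⟩ := hn
      rcases hHd h with e | e | e | e
      · exact Or.inl (hmax 6 (hω (Or.inl dvd_rfl)) e).symm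
      · exact Or.inr (Or.inl (hmax 9 (hω (Or.inr (Or.inl dvd_rfl))) e).symm)
      · exact Or.inr (Or.inr (Or.inl (hmax _ (hω (Or.inr (Or.inr (Or.inl dvd_rfl)))) e).symm))
      · exact Or.inr (Or.inr (Or.inr (hmax _ (hω (Or.inr (Or.inr (Or.inr dvd_rfl)))) e).symm))
    have h23 : 2 ∣ n ∨ 3 ∣ n := by
      rcases hfour with e | e | e | e <;> omega
    rcases (hL k).1 hk with e | e | e | e | e | e
    · exact hmax k (hω (Or.inl e)) hnk
    · exact hmax k (hω (Or.inr (Or.inl e))) hnk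
    · exact hmax k (hω (Or.inr (Or.inr (Or.inl e)))) hnk
    · exact hmax k (hω (Or.inr (Or.inr (Or.inr e)))) hnk
    · exfalso
      rcases h23 with h | h <;> have := h.trans (hnk.trans e) <;> omega
    · exfalso
      rcases h23 with h | h <;> have := h.trans (hnk.trans e) <;> omega
  have hfew : ({n : ℕ | n ∈ Set.range (orderOf : L → ℕ) ∧
        ∀ k ∈ Set.range (orderOf : L → ℕ), n ∣ k → k = n} \
      {n : ℕ | n ∈ Set.range (orderOf : ReeCube.H K → ℕ) ∧
        ∀ k ∈ Set.range (orderOf : ReeCube.H K → ℕ), n ∣ k → k = n}).ncard < 3 := by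
    refine lt_of_le_of_lt (Set.ncard_le_ncard
      (t := {q - 3 ^ (m + 1) + 1, q + 3 ^ (m + 1) + 1}) ?_ (Set.toFinite _)) ?_
    · rintro n ⟨⟨hn, hmax⟩, hnH⟩
      have hno : n ∉ Set.range (orderOf : ReeCube.H K → ℕ) :=
        fun h => hnH ⟨h, fun k hk => hmax k (hsubω hk)⟩
      rcases (hL n).1 hn with e | e | e | e | e | e
      · exact absurd (hω (Or.inl e)) hno
      · exact absurd (hω (Or.inr (Or.inl e))) hno
      · exact absurd (hω (Or.inr (Or.inr (Or.inl e)))) hno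
      · exact absurd (hω (Or.inr (Or.inr (Or.inr e)))) hno
      · exact Or.inl (hmax _ ((hL _).2 (by simp [q])) e).symm
      · exact Or.inr (hmax _ ((hL _).2 (by simp [q])) e).symm
    · exact lt_of_le_of_lt (Set.ncard_insert_le _ _) (by simp)
  have hcube := Cfsg.Agent.S2514.result (G := L) (H := ReeCube.H K) 3 (by norm_num) hμ hfew
  let e3 : (Fin 3 → L) ≃* L × L × L :=
    { toFun := fun f => (f 0, f 1, f 2)
      invFun := fun p => ![p.1, p.2.1, p.2.2]
      left_inv := fun f => by funext i; fin_cases i <;> rfl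
      right_inv := fun p => rfl
      map_mul' := fun f g => rfl }
  have he3 : Set.range (orderOf : L × L × L → ℕ) = Set.range (orderOf : (Fin 3 → L) → ℕ) := by
    ext n
    constructor
    · rintro ⟨x, rfl⟩
      exact ⟨e3.symm x, e3.symm.orderOf_eq x⟩
    · rintro ⟨x, rfl⟩
      exact ⟨e3 x, e3.orderOf_eq x⟩
  let f : (Fin (3 - 1) → L) × ReeCube.H K →* (Fin (3 - 1) → L) × ReeCube.Q K :=
    (MonoidHom.id _).prodMap SemidirectProduct.rightHom
  have hker : f.ker ≠ ⊥ := by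
    intro h
    have hx : ((1, SemidirectProduct.inl (Multiplicative.ofAdd (1 : ReeCube.W K))) :
        (Fin (3 - 1) → L) × ReeCube.H K) ∈ f.ker := by simp [f, MonoidHom.mem_ker]
    rw [h, Subgroup.mem_bot, Prod.mk_eq_one] at hx
    exact one_ne_zero (α := ReeCube.W K)
      (ofAdd_eq_one.1 (SemidirectProduct.inl_injective (hx.2.trans (map_one _).symm)))
  have hsol : Group.IsSolvable f.ker := by
    refine isSolvable_of_comm fun a b => Subtype.ext ?_
    have ha := Prod.ext_iff.1 (MonoidHom.mem_ker.1 a.2)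
    have hb := Prod.ext_iff.1 (MonoidHom.mem_ker.1 b.2)
    refine Prod.ext ?_ ?_
    · show (a : (Fin (3 - 1) → L) × ReeCube.H K).1 * _ = _
      rw [show (a : (Fin (3 - 1) → L) × ReeCube.H K).1 = 1 from ha.1, one_mul]
      exact (mul_one _).symm.trans (congrArg _ ha.1.symm)
    · rw [Subgroup.coe_mul, Subgroup.coe_mul, Prod.snd_mul, Prod.snd_mul,
        ReeCube.eq_inl K (h := (a : (Fin (3 - 1) → L) × ReeCube.H K).2) ha.2,
        ReeCube.eq_inl K (h := (b : (Fin (3 - 1) → L) × ReeCube.H K).2) hb.2,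
        ← map_mul, ← map_mul, mul_comm]
  obtain ⟨M, i1, i2, hN, hM⟩ := Cfsg.Agent.S3444.result f.ker hker hsol N
  exact ⟨M, i1, i2, hN, by rw [hM, ← hcube, ← he3]⟩

end Cfsg.Agent.S3626
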