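import Cfsg.Statements.S3627
import Cfsg.Agent.J1Orders.Main

set_option autoImplicit false
open Cfsg

namespace Cfsg.Agent.S3627


/-- `S₃`-tuples whose components all have the same sign: orders 1, 2 and 3. -/
def A (N : ℕ) : Subgroup (Fin (N + 1) → DihedralGroup 3) where
  carrier := {f | (∀ i, ∃ k, f i = DihedralGroup.r k) ∨ ∀ i, ∃ k, f i = DihedralGroup.sr k}
  one_mem' := Or.inl fun _ => ⟨0, DihedralGroup.r_zero.symm⟩
  mul_mem' := by
    rintro f g (hf | hf) (hg | hg)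
    · exact Or.inl fun i => by
        obtain ⟨a, ha⟩ := hf i; obtain ⟨b, hb⟩ := hg i
        exact ⟨a + b, by simp [ha, hb]⟩
    · exact Or.inr fun i => by
        obtain ⟨a, ha⟩ := hf i; obtain ⟨b, hb⟩ := hg i
        exact ⟨b - a, by simp [ha, hb]⟩
    · exact Or.inr fun i => by
        obtain ⟨a, ha⟩ := hf i; obtain ⟨b, hb⟩ := hg i
        exact ⟨a + b, by simp [ha, hb]⟩
    · exact Or.inl fun i => by
        obtain ⟨a, ha⟩ := hf i; obtain ⟨b, hb⟩ := hg i
        exact ⟨b - a, by simp [ha, hb]⟩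
  inv_mem' := by
    rintro f (hf | hf)
    · exact Or.inl fun i => by
        obtain ⟨a, ha⟩ := hf i
        exact ⟨-a, by simp [ha]⟩
    · exact Or.inr fun i => by
        obtain ⟨a, ha⟩ := hf i
        exact ⟨a, by simp [ha]⟩

theorem d3_sr : (DihedralGroup.sr 0 : DihedralGroup 3) ≠ 1 := by decide
theorem d3_r : (DihedralGroup.r 1 : DihedralGroup 3) ≠ 1 := by decide
theorem d3_pow : (DihedralGroup.r 1 : DihedralGroup 3) ^ 3 = 1 := by decide

theorem orderOf_A {N : ℕ} (x : A N) : orderOf x ∈ [1, 2, 3] := by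
  have key : orderOf x ∣ 2 ∨ orderOf x ∣ 3 := by
    rcases x.2 with h | h
    · right
      apply orderOf_dvd_of_pow_eq_one
      refine Subtype.ext (funext fun i => ?_)
      obtain ⟨a, ha⟩ := h i
      simp only [SubmonoidClass.coe_pow, Pi.pow_apply, OneMemClass.coe_one, Pi.one_apply, ha]
      exact (by decide : ∀ a : ZMod 3, (DihedralGroup.r a) ^ 3 = 1) a
    · left
      apply orderOf_dvd_of_pow_eq_one
      refine Subtype.ext (funext fun i => ?_)
      obtain ⟨a, ha⟩ := h i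
      simp [sq, ha]
  rcases key with h | h
  · rcases (Nat.dvd_prime Nat.prime_two).1 h with e | e <;> simp [e]
  · rcases (Nat.dvd_prime Nat.prime_three).1 h with e | e <;> simp [e]

theorem exists_A (N : ℕ) {n : ℕ} (hn : n ∈ [1, 2, 3]) : ∃ x : A N, orderOf x = n := by
  simp only [List.mem_cons, List.not_mem_nil, or_false] at hn
  rcases hn with rfl | rfl | rfl
  · exact ⟨1, orderOf_one⟩
  · refine ⟨⟨fun _ => DihedralGroup.sr 0, Or.inr fun _ => ⟨0, rfl⟩⟩, ?_⟩
    have : Fact (Nat.Prime 2) := ⟨Nat.prime_two⟩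
    refine orderOf_eq_prime (Subtype.ext (funext fun i => ?_)) fun h => ?_
    · simp [sq]
    · exact absurd (congrFun (congrArg Subtype.val h) 0) (by simp only [OneMemClass.coe_one, Pi.one_apply]; first | exact d3_sr | exact d3_r)
  · refine ⟨⟨fun _ => DihedralGroup.r 1, Or.inl fun _ => ⟨1, rfl⟩⟩, ?_⟩
    have : Fact (Nat.Prime 3) := ⟨Nat.prime_three⟩
    refine orderOf_eq_prime (Subtype.ext (funext fun i => ?_)) fun h => ?_
    · simp only [SubmonoidClass.coe_pow, Pi.pow_apply, OneMemClass.coe_one, Pi.one_apply]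
      exact d3_pow
    · exact absurd (congrFun (congrArg Subtype.val h) 0) (by simp only [OneMemClass.coe_one, Pi.one_apply]; first | exact d3_sr | exact d3_r)

theorem card_A (N : ℕ) : N < Nat.card (A N) := by
  let f : (Fin (N + 1) → ZMod 3) → A N := fun v =>
    ⟨fun i => DihedralGroup.r (v i), Or.inl fun i => ⟨v i, rfl⟩⟩
  have hf : Function.Injective f := by
    intro v w h
    funext i
    have := congrFun (congrArg Subtype.val h) i
    simpa [f] using this
  have := Nat.card_le_card_of_injective f hf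
  rw [Nat.card_fun, Nat.card_zmod, Nat.card_fin] at this
  have : N + 1 < 3 ^ (N + 1) := Nat.lt_pow_self (by norm_num)
  omega

theorem orderOf_D {q : ℕ} (hq : q.Prime) (x : DihedralGroup q) : orderOf x ∈ [1, 2, q] := by
  cases x with
  | r i =>
    have h : orderOf (DihedralGroup.r i) ∣ q := by
      apply orderOf_dvd_of_pow_eq_one
      rw [DihedralGroup.r_pow, DihedralGroup.one_def]
      congr 1
      rw [ZMod.natCast_self, mul_zero]
    rcases (Nat.dvd_prime hq).1 h with e | e <;> simp [e]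
  | sr i => simp [DihedralGroup.orderOf_sr]

theorem exists_D {q : ℕ} (hq : q.Prime) {n : ℕ} (hn : n ∈ [1, 2, q]) :
    ∃ x : DihedralGroup q, orderOf x = n := by
  simp only [List.mem_cons, List.not_mem_nil, or_false] at hn
  rcases hn with rfl | rfl | rfl
  · exact ⟨1, orderOf_one⟩
  · exact ⟨DihedralGroup.sr 0, DihedralGroup.orderOf_sr 0⟩
  · exact ⟨DihedralGroup.r 1, DihedralGroup.orderOf_r_one⟩

/-- The divisors of 43890, as products of a choice for each prime. -/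
def divs : List ℕ :=
  [1, 2].flatMap fun a => [1, 3].flatMap fun b => [1, 5].flatMap fun c =>
    [1, 7].flatMap fun d => [1, 11].flatMap fun e => [1, 19].map fun f => a * b * c * d * e * f

theorem mem_divs {n : ℕ} (h : n ∣ 2 * 3 * 5 * 7 * 11 * 19) : n ∈ divs := by
  obtain ⟨n5, f, h5, hf, rfl⟩ := Nat.dvd_mul.1 h
  obtain ⟨n4, e, h4, he, rfl⟩ := Nat.dvd_mul.1 h5
  obtain ⟨n3, d, h3, hd, rfl⟩ := Nat.dvd_mul.1 h4
  obtain ⟨n2, c, h2, hc, rfl⟩ := Nat.dvd_mul.1 h3
  obtain ⟨a, b, ha, hb, rfl⟩ := Nat.dvd_mul.1 h2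
  rw [Nat.dvd_prime (by norm_num)] at ha hb hc hd he hf
  rcases ha with rfl | rfl <;> rcases hb with rfl | rfl <;> rcases hc with rfl | rfl <;>
    rcases hd with rfl | rfl <;> rcases he with rfl | rfl <;> rcases hf with rfl | rfl <;>
    decide +kernel

/-- The spectrum. -/
def spec : Set ℕ := {n | n ∣ 43890 ∧ n ≠ 43890}

theorem j_sound : ∀ a ∈ [1, 2, 3, 5, 6, 7, 10, 11, 15, 19], ∀ b ∈ [1, 2, 3, 5, 6, 7, 10, 11, 15, 19],
    ∀ c ∈ [1, 2, 3, 5, 6, 7, 10, 11, 15, 19], ∀ d ∈ [1, 2, 3, 5, 6, 7, 10, 11, 15, 19],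
    Nat.lcm a (Nat.lcm b (Nat.lcm c d)) ∣ 43890 ∧ Nat.lcm a (Nat.lcm b (Nat.lcm c d)) ≠ 43890 := by
  decide +kernel

theorem w_sound : ∀ a ∈ [1, 2, 3], ∀ b ∈ [1, 2, 5], ∀ c ∈ [1, 2, 7], ∀ d ∈ [1, 2, 11],
    ∀ e ∈ [1, 2, 19], Nat.lcm a (Nat.lcm b (Nat.lcm c (Nat.lcm d e))) ∣ 43890 ∧
      Nat.lcm a (Nat.lcm b (Nat.lcm c (Nat.lcm d e))) ≠ 43890 := by
  decide +kernel

theorem j_complete : ∀ n ∈ divs, n ≠ 43890 →
    ∃ a ∈ [1, 2, 3, 5, 6, 7, 10, 11, 15, 19], ∃ b ∈ [1, 2, 3, 5, 6, 7, 10, 11, 15, 19],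
    ∃ c ∈ [1, 2, 3, 5, 6, 7, 10, 11, 15, 19], ∃ d ∈ [1, 2, 3, 5, 6, 7, 10, 11, 15, 19],
      Nat.lcm a (Nat.lcm b (Nat.lcm c d)) = n := by
  decide +kernel

theorem w_complete : ∀ n ∈ divs, n ≠ 43890 →
    ∃ a ∈ [1, 2, 3], ∃ b ∈ [1, 2, 5], ∃ c ∈ [1, 2, 7], ∃ d ∈ [1, 2, 11], ∃ e ∈ [1, 2, 19],
      Nat.lcm a (Nat.lcm b (Nat.lcm c (Nat.lcm d e))) = n := by
  decide +kernel

/-- Let J be the first Janko group. Then there are finite groups of arbitrarily large order with exactly the same set of element orders as J × J × J × J. -/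
theorem result (N : ℕ) : ∃ (H : Type) (_ : Group H) (_ : Fintype H), N < Fintype.card H ∧
      Set.range (orderOf : H → ℕ) = Set.range (orderOf : ↥Cfsg.Spor.J1 × ↥Cfsg.Spor.J1 × ↥Cfsg.Spor.J1 × ↥Cfsg.Spor.J1 → ℕ) := by

  classical
  have : NeZero (5 : ℕ) := ⟨by norm_num⟩
  refine ⟨A N × DihedralGroup 5 × DihedralGroup 7 × DihedralGroup 11 × DihedralGroup 19,
    inferInstance, Fintype.ofFinite _, ?_, ?_⟩
  · rw [Fintype.card_eq_nat_card, Nat.card_prod]
    have h := card_A N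
    have h2 : 0 < Nat.card (DihedralGroup 5 × DihedralGroup 7 × DihedralGroup 11 × DihedralGroup 19) :=
      Nat.card_pos
    exact lt_of_lt_of_le h (Nat.le_mul_of_pos_right _ h2)
  · have hJ : ∀ g : Spor.J1, orderOf g ∈ [1, 2, 3, 5, 6, 7, 10, 11, 15, 19] := by
      intro g
      rw [← Subgroup.orderOf_coe]
      exact CfsgLib.J1Orders.orderOf_mem g.2
    have h1 : Set.range (orderOf : A N × DihedralGroup 5 × DihedralGroup 7 × DihedralGroup 11 ×
        DihedralGroup 19 → ℕ) = spec := by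
      ext n
      constructor
      · rintro ⟨⟨a, b, c, d, e⟩, rfl⟩
        simp only [Prod.orderOf, spec, Set.mem_setOf_eq]
        exact w_sound _ (orderOf_A a) _ (orderOf_D (by norm_num) b) _ (orderOf_D (by norm_num) c)
          _ (orderOf_D (by norm_num) d) _ (orderOf_D (by norm_num) e)
      · rintro ⟨hd, hne⟩
        obtain ⟨a, ha, b, hb, c, hc, d, hd', e, he, h⟩ :=
          w_complete n (mem_divs (by norm_num; exact hd)) hne
        obtain ⟨x, rfl⟩ := exists_A N ha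
        obtain ⟨y, rfl⟩ := exists_D (by norm_num) hb
        obtain ⟨z, rfl⟩ := exists_D (by norm_num) hc
        obtain ⟨u, rfl⟩ := exists_D (by norm_num) hd'
        obtain ⟨v, rfl⟩ := exists_D (by norm_num) he
        exact ⟨(x, y, z, u, v), by simpa only [Prod.orderOf] using h⟩
    rw [h1]
    ext n
    constructor
    · rintro ⟨hd, hne⟩
      obtain ⟨a, ha, b, hb, c, hc, d, hd', h⟩ := j_complete n (mem_divs (by norm_num; exact hd)) hne
      obtain ⟨x, rfl⟩ := CfsgLib.J1Orders.exists_orderOf ha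
      obtain ⟨y, rfl⟩ := CfsgLib.J1Orders.exists_orderOf hb
      obtain ⟨z, rfl⟩ := CfsgLib.J1Orders.exists_orderOf hc
      obtain ⟨u, rfl⟩ := CfsgLib.J1Orders.exists_orderOf hd'
      exact ⟨(x, y, z, u), by simpa only [Prod.orderOf] using h⟩
    · rintro ⟨⟨a, b, c, d⟩, rfl⟩
      simp only [Prod.orderOf, spec, Set.mem_setOf_eq]
      exact j_sound _ (hJ a) _ (hJ b) _ (hJ c) _ (hJ d)

end Cfsg.Agent.S3627
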