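import Mathlib.GroupTheory.OrderOfElement
import Cfsg.Prelude.Def_Sz
import Cfsg.Agent.PrimeGraph.Basic
import Cfsg.Agent.PrimeGraph.SzFix

set_option autoImplicit false


namespace Cfsg.Agent.S3639

theorem result {F : Type*} [Field F] [Fintype F] {m : ℕ} (hm : 1 ≤ m) (hF : Fintype.card F = 2 ^ (2 * m + 1)) (N : ℕ) :
    ∃ (H : Type) (_ : Group H) (_ : Fintype H), N < Fintype.card H ∧ ((∀ r : ℕ, r.Prime → (r ∣ Nat.card ↥(Cfsg.Lie.Sz F (2 ^ (m + 1))) ↔ r ∣ Nat.card H)) ∧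
      (∀ r s : ℕ, r.Prime → s.Prime → r ≠ s → ((∃ x : ↥(Cfsg.Lie.Sz F (2 ^ (m + 1))), orderOf x = r * s) ↔ (∃ y : H, orderOf y = r * s)))) := by
  haveI : CharP F 2 := by
    haveI : Fact (Nat.Prime 2) := ⟨Nat.prime_two⟩
    exact charP_of_card_eq_prime_pow (by rw [hF])
  set e := 2 ^ (m + 1) with he
  have hinj : ∃ f : F →+* F, ∀ x, f x = x ^ e :=
    ⟨iterateFrobenius F 2 (m + 1), fun x => iterateFrobenius_def 2 (m + 1) x⟩
  have h2G : 2 ∣ Nat.card ↥(Cfsg.Lie.Sz F e) := by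
    let u : GL (Fin 4) F := ⟨CfsgLib.SzFix.J4, CfsgLib.SzFix.J4, CfsgLib.SzFix.J4_mul_J4, CfsgLib.SzFix.J4_mul_J4⟩
    have hu : u ∈ Cfsg.Lie.Sz F e := by
      refine Subgroup.subset_closure ⟨?_, ?_⟩
      · intro a b
        simp [u, CfsgLib.SzFix.J4, Cfsg.Lie.altForm4, Matrix.mulVec, dotProduct, Fin.sum_univ_four]
        ring
      · ext p r
        fin_cases p <;> fin_cases r <;>
          simp [u, CfsgLib.SzFix.J4, Cfsg.Lie.star4, Cfsg.Lie.pairOf, CharTwo.neg_eq, he]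
    have ho : orderOf (⟨u, hu⟩ : ↥(Cfsg.Lie.Sz F e)) = 2 := by
      refine orderOf_eq_prime ?_ ?_
      · ext1
        exact Units.ext (by simpa [sq] using CfsgLib.SzFix.J4_mul_J4)
      · intro h
        have := congrArg (fun x : ↥(Cfsg.Lie.Sz F e) => ((x : GL (Fin 4) F) : Matrix (Fin 4) (Fin 4) F) 0 0) h
        simp [u, CfsgLib.SzFix.J4] at this
    exact ho ▸ orderOf_dvd_natCard _
  haveI : Fact (Nat.Prime 2) := ⟨Nat.prime_two⟩
  obtain ⟨H, _, _, h1, h2, h3⟩ := CfsgLib.PrimeGraph.exists_large_same_graph Nat.prime_two h2G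
    (CfsgLib.PrimeGraph.isPGroup_vectors F (Fin 4) 2)
    ((CfsgLib.PrimeGraph.glAct F (Fin 4)).comp (Cfsg.Lie.Sz F e).subtype)
    (fun g hg hg2 v hv => by
      by_contra hne
      have hg1 := CfsgLib.SzFix.eq_one_of_fixed (pow_ne_zero _ two_ne_zero) hinj g.2
        (fun hd => hg2 (by
          rw [Subgroup.orderOf_coe] at hd
          exact ((Nat.prime_dvd_prime_iff_eq Nat.prime_two hg).1 hd).symm))
        v.toAdd (fun h => hne (Multiplicative.toAdd.injective h)) (CfsgLib.PrimeGraph.glAct_fix hv)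
      rw [← Subgroup.orderOf_coe, hg1, orderOf_one] at hg
      exact Nat.not_prime_one hg) N
  exact ⟨H, inferInstance, inferInstance, Nat.card_eq_fintype_card (α := H) ▸ h1, h2, h3⟩

end Cfsg.Agent.S3639
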