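import Cfsg.Statements.S3641
import Cfsg.Agent.SylowNumber.Seventeen

set_option autoImplicit false
open Cfsg

namespace Cfsg.Agent.S3641

/-- Let G be a finite group with trivial centre whose set of Sylow numbers (numbers of Sylow r-subgroups, r over the prime divisors of its order) is exactly {18, 136, 153}. Then G is isomorphic to PSL(2, 17) or to PGL(2, 17). -/
theorem result {G : Type*} [Group G] [Finite G] (hZ : Subgroup.center G = ⊥) (hNS : {c : ℕ | ∃ r : ℕ, r.Prime ∧ r ∣ Nat.card G ∧ c = Nat.card (Sylow r G)} = ({18, 136, 153} : Set ℕ))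
    {F : Type*} [Field F] [Fintype F] (hF : Fintype.card F = 17) :
    Nonempty (G ≃* Matrix.ProjectiveSpecialLinearGroup (Fin 2) F) ∨ Nonempty (G ≃* (GL (Fin 2) F ⧸ Subgroup.center (GL (Fin 2) F))) := by
  classical
  have e : ZMod 17 ≃+* F :=
    FiniteField.ringEquivOfCardEq (by rw [ZMod.card, hF])
  rcases CfsgLib.SylowNumber17.recognition hZ hNS with h | h <;> obtain ⟨d⟩ := h
  · obtain ⟨c⟩ := CfsgLib.InvChar.psl_congr e
    exact Or.inl ⟨d.trans c⟩
  · have E : Matrix.ProjGenLinGroup (Fin 2) (ZMod 17) ≃* Matrix.ProjGenLinGroup (Fin 2) F :=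
      MonoidHom.toMulEquiv (Matrix.ProjGenLinGroup.map e.toRingHom)
        (Matrix.ProjGenLinGroup.map e.symm.toRingHom)
        (by rw [← Matrix.ProjGenLinGroup.map_comp]; simp)
        (by rw [← Matrix.ProjGenLinGroup.map_comp]; simp)
    exact Or.inr ⟨d.trans E⟩

end Cfsg.Agent.S3641
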