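import Cfsg.Statements.S3643
import Cfsg.Agent.M12Graph.Reduction
import Cfsg.Agent.M12Graph.Degrees
import Cfsg.Agent.M12Order.Main
import Cfsg.Agent.Golay.MathieuFusion

set_option autoImplicit false
open Cfsg

namespace Cfsg.Agent.S3643

/-- Let G be a finite group of the same order as the Mathieu group M₁₂ whose character degree graph equals that of M₁₂ (same primes dividing some irreducible complex character degree, same pairs of distinct primes whose product divides some degree). Then G is isomorphic to M₁₂ or to the direct product of the alternating group of degree 4 with M₁₁. -/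
theorem result {G : Type*} [Group G] [Finite G] (hcard : Nat.card G = Nat.card ↥Cfsg.Spor.M12) (hΔ : Cfsg.degreePrimes G = Cfsg.degreePrimes ↥Cfsg.Spor.M12 ∧ Cfsg.degreeGraph G = Cfsg.degreeGraph ↥Cfsg.Spor.M12) :
    Nonempty (G ≃* ↥Cfsg.Spor.M12) ∨ Nonempty (G ≃* alternatingGroup (Fin 4) × ↥Cfsg.Spor.M11) := by
  obtain ⟨-, hgraph⟩ := hΔ
  obtain ⟨h55, h99⟩ := CfsgLib.M12Graph.charDegrees_m12
  have hcard' : Nat.card G = 95040 := hcard.trans CfsgLib.Golay.SylowCert.card_M12
  have a5 : (Cfsg.degreeGraph G).Adj 5 11 := by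
    rw [hgraph]
    exact ⟨by norm_num, by norm_num, by norm_num, 55, h55, by norm_num⟩
  have a3 : (Cfsg.degreeGraph G).Adj 3 11 := by
    rw [hgraph]
    exact ⟨by norm_num, by norm_num, by norm_num, 99, h99, by norm_num⟩
  rcases CfsgLib.M12Graph.simple_or_product hcard' a5.2.2.2 a3.2.2.2 with h | h
  · exact Or.inl (CfsgLib.M12Order.isoM12 h.1 hcard')
  · exact Or.inr h

end Cfsg.Agent.S3643
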