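import Cfsg.Statements.S3648
import Cfsg.Agent.NsePGL2.Sharp
import Cfsg.Agent.NsePGL2.Model

set_option autoImplicit false
open Cfsg

namespace Cfsg.Agent.S3648

/-- For a finite group X let nse(X) be the set of values of the function 'number of elements of order k' over the element orders k that occur. Let F be a finite field of odd order q > 3 and P = PGL(2, F) = GL(2, F) modulo its centre. If G is a finite group with the same order as P and nse(G) = nse(P), then G is isomorphic to P. -/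
theorem result {F : Type*} [Field F] [Fintype F] (hodd : Odd (Fintype.card F)) (h3 : 3 < Fintype.card F)
    {G : Type*} [Group G] [Finite G] (hcard : Nat.card G = Nat.card (GL (Fin 2) F ⧸ Subgroup.center (GL (Fin 2) F)))
    (hnse : {c : ℕ | 0 < c ∧ ∃ n : ℕ, c = Nat.card {g : G // orderOf g = n}} = {c : ℕ | 0 < c ∧ ∃ n : ℕ, c = Nat.card {g : (GL (Fin 2) F ⧸ Subgroup.center (GL (Fin 2) F)) // orderOf g = n}}) :
    Nonempty (G ≃* (GL (Fin 2) F ⧸ Subgroup.center (GL (Fin 2) F))) := by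
  classical
  obtain ⟨p, hc⟩ := CharP.exists F
  obtain ⟨n, hp, hn⟩ := FiniteField.card F p
  haveI : Fact p.Prime := ⟨hp⟩
  have hq : Nat.card F = p ^ (n : ℕ) := by rw [Nat.card_eq_fintype_card, hn]
  have hp2 : p ≠ 2 := by
    rintro rfl
    rw [hn] at hodd
    exact Nat.not_even_iff_odd.2 hodd (Nat.even_pow.2 ⟨even_two, n.2.ne'⟩)
  haveI := CfsgLib.NsePGL2.finite_pgl (F := F)
  have hP := CfsgLib.NsePGL2.pgl_card (F := F) hq
  have V := CfsgLib.NsePGL2.values (F := F) hp2 n.2 hq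
  have VG : CfsgLib.NsePGL2.Values G (p ^ (n : ℕ)) :=
    ⟨hnse.symm ▸ V.sq, hnse.symm ▸ V.pel, fun c hc => V.cases c (hnse ▸ hc)⟩
  obtain ⟨eG⟩ :=
    (CfsgLib.NsePGL2.data_of_values hp hp2 n.2 rfl (hcard.trans hP) VG).nonempty_pgl
  obtain ⟨eP⟩ := (CfsgLib.NsePGL2.data_of_values hp hp2 n.2 rfl hP V).nonempty_pgl
  exact ⟨eG.trans eP.symm⟩

end Cfsg.Agent.S3648
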