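import Cfsg.Statements.S3662
import Cfsg.Agent.Coset.G24.Chev
import Cfsg.Agent.PrimeGraphG24.Rep
import Cfsg.Agent.PrimeGraphG24.FieldIso

set_option autoImplicit false
open Cfsg

namespace Cfsg.Agent.S3662

open Cfsg.Agent.PrimeGraphG24 CfsgLib.Coset CfsgLib.Coset.G24 Matrix

/-- `m` copies of the natural module. -/
abbrev V (m : ℕ) : Type := Multiplicative (Fin m → Fin 6 → F4)

/-- The diagonal action on `m` copies. -/
noncomputable def act (m : ℕ) : P →* MulAut (V m) where
  toFun g :=
    { toFun := fun v => Multiplicative.ofAdd fun i => (ψ g).val *ᵥ (Multiplicative.toAdd v i)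
      invFun := fun v => Multiplicative.ofAdd fun i => (ψ g⁻¹).val *ᵥ (Multiplicative.toAdd v i)
      left_inv := fun v => by
        apply Multiplicative.toAdd.injective
        funext i
        simp [Matrix.mulVec_mulVec]
      right_inv := fun v => by
        apply Multiplicative.toAdd.injective
        funext i
        simp [Matrix.mulVec_mulVec]
      map_mul' := fun v w => by
        apply Multiplicative.toAdd.injective
        funext i
        simp [Matrix.mulVec_add] }
  map_one' := by
    ext v : 1
    apply Multiplicative.toAdd.injective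
    funext i
    simp
  map_mul' := fun g h => by
    ext v : 1
    apply Multiplicative.toAdd.injective
    funext i
    simp [Matrix.mulVec_mulVec]

/-- The extension. -/
abbrev H (m : ℕ) : Type := V m ⋊[act m] P

theorem card_H (m : ℕ) : Nat.card (H m) = 4 ^ (6 * m) * 251596800 := by
  rw [SemidirectProduct.card, card_and_injective.1]
  congr 1
  rw [show Nat.card (V m) = Nat.card (Fin m → Fin 6 → F4) from Nat.card_congr Multiplicative.toAdd,
    Nat.card_fun, Nat.card_fun, Nat.card_eq_fintype_card (α := F4), F4.card_eq, Nat.card_fin,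
    Nat.card_fin, ← pow_mul]

theorem sq_V {m : ℕ} (v : V m) : v ^ 2 = 1 := by
  apply Multiplicative.toAdd.injective
  funext i j
  rw [pow_two, toAdd_mul]
  show Multiplicative.toAdd v i j + Multiplicative.toAdd v i j = 0
  generalize Multiplicative.toAdd v i j = a
  revert a; decide

theorem exists_order_mul {m p q : ℕ} (hp : p.Prime) (hq : q.Prime) (hne : p ≠ q) (x : H m)
    (hx : orderOf x = p * q) : ∃ g : P, orderOf g = p * q := by
  haveI := card_le.1
  set g := x.right with hg
  have hgd : orderOf g ∣ orderOf x := orderOf_map_dvd (SemidirectProduct.rightHom : H m →* P) x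
  have hxd : orderOf x ∣ orderOf g * 2 := by
    refine orderOf_dvd_of_pow_eq_one ?_
    rw [pow_mul]
    have h1 : (x ^ orderOf g).right = 1 := by
      rw [← SemidirectProduct.rightHom_eq_right, map_pow, SemidirectProduct.rightHom_eq_right]
      exact pow_orderOf_eq_one g
    rw [show x ^ orderOf g = SemidirectProduct.inl (x ^ orderOf g).left from
      SemidirectProduct.ext (by simp) (by simp [h1]), ← map_pow, sq_V, map_one]
  rw [hx] at hgd hxd
  wlog hp2 : p ≠ 2 generalizing p q
  · have hp2' : p = 2 := not_ne_iff.1 hp2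
    obtain ⟨r, hr⟩ := this hq hp hne.symm (by rw [hx, mul_comm]) (by rwa [mul_comm q p])
      (by rwa [mul_comm q p]) (fun h => hne (hp2'.trans h.symm))
    exact ⟨r, by rw [hr, mul_comm]⟩
  by_cases hq2 : q = 2
  swap
  · refine ⟨g, Nat.dvd_antisymm hgd ?_⟩
    exact (((Nat.coprime_primes hp Nat.prime_two).2 hp2).mul_left
      ((Nat.coprime_primes hq Nat.prime_two).2 hq2)).dvd_of_dvd_mul_right hxd
  subst hq2
  have hpg : p ∣ orderOf g :=
    ((Nat.coprime_primes hp Nat.prime_two).2 hp2).dvd_of_dvd_mul_right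
      ((dvd_mul_right p 2).trans hxd)
  by_cases h2g : 2 ∣ orderOf g
  · exact ⟨g, Nat.dvd_antisymm hgd
      (((Nat.coprime_primes hp Nat.prime_two).2 hp2).mul_dvd_of_dvd_of_dvd hpg h2g)⟩
  have hgp : orderOf g = p := by
    refine Nat.dvd_antisymm ?_ hpg
    exact (((Nat.prime_two.coprime_iff_not_dvd).2 h2g).symm).dvd_of_dvd_mul_right hgd
  have hpdvd : p ∣ 251596800 := by
    rw [← card_and_injective.1, ← hgp]; exact orderOf_dvd_natCard g
  have hcases : p = 3 ∨ p = 5 ∨ p = 7 ∨ p = 13 := by
    have h : p ∣ 2 ^ 12 * (3 ^ 3 * (5 ^ 2 * (7 * 13))) := by simpa using hpdvd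
    rcases hp.dvd_mul.1 h with e | e
    · exact absurd ((Nat.prime_dvd_prime_iff_eq hp Nat.prime_two).1 (hp.dvd_of_dvd_pow e)) hp2
    rcases hp.dvd_mul.1 e with e | e
    · exact Or.inl ((Nat.prime_dvd_prime_iff_eq hp Nat.prime_three).1 (hp.dvd_of_dvd_pow e))
    rcases hp.dvd_mul.1 e with e | e
    · exact Or.inr (Or.inl ((Nat.prime_dvd_prime_iff_eq hp (by norm_num)).1 (hp.dvd_of_dvd_pow e)))
    rcases hp.dvd_mul.1 e with e | e
    · exact Or.inr (Or.inr (Or.inl ((Nat.prime_dvd_prime_iff_eq hp (by norm_num)).1 e)))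
    · exact Or.inr (Or.inr (Or.inr ((Nat.prime_dvd_prime_iff_eq hp (by norm_num)).1 e)))
  rcases hcases with rfl | rfl | hp'
  · exact ⟨_, orderOf_six⟩
  · exact ⟨_, orderOf_ten⟩
  exfalso
  -- the involution `x ^ p` lies in the module and is fixed by `g`
  set v := (x ^ p).left with hv
  have hxp : x ^ p = SemidirectProduct.inl v := by
    refine SemidirectProduct.ext (by simp [hv]) ?_
    rw [← SemidirectProduct.rightHom_eq_right, map_pow, SemidirectProduct.rightHom_eq_right, ← hg,
      ← hgp, pow_orderOf_eq_one]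
    simp
  have hfix : act m g v = v := by
    have h1 := congrArg SemidirectProduct.left ((Commute.self_pow x p).eq)
    rw [hxp, SemidirectProduct.mul_left, SemidirectProduct.mul_left, SemidirectProduct.left_inl,
      SemidirectProduct.right_inl, map_one, MulAut.one_apply, mul_comm v] at h1
    exact mul_left_cancel h1
  have hzero : v = 1 := by
    apply Multiplicative.toAdd.injective
    funext i
    have h3 : (ψ g).val *ᵥ Multiplicative.toAdd v i = Multiplicative.toAdd v i :=
      congrFun (congrArg Multiplicative.toAdd hfix) i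
    rcases hp' with rfl | rfl
    · exact fpf_seven hgp h3
    · exact fpf_thirteen hgp h3
  rw [hzero, map_one] at hxp
  have h4 := Nat.le_of_dvd hp.pos (hx ▸ orderOf_dvd_of_pow_eq_one hxp)
  have := hp.two_le
  omega

/-- The prime graph of a finite group has the prime divisors of its order as vertices, two distinct primes p, q being joined when the group has an element of order pq; two groups have the same prime graph when they have the same prime divisors and the same joined pairs. Let F be the field with 4 elements and L the Chevalley group of type G₂ over F. There are finite groups of arbitrarily large order with the same prime graph as L. -/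
theorem result {F : Type*} [Field F] [Fintype F] (hF : Fintype.card F = 4) (N : ℕ) :
    ∃ (H : Type) (_ : Group H) (_ : Finite H), N < Nat.card H ∧
      ((∀ p : ℕ, p.Prime → (p ∣ Nat.card ↥(Cfsg.Lie.chevG2.group F) ↔ p ∣ Nat.card H)) ∧
      (∀ p q : ℕ, p.Prime → q.Prime → p ≠ q → ((∃ g : ↥(Cfsg.Lie.chevG2.group F), orderOf g = p * q) ↔ (∃ g : H, orderOf g = p * q)))) := by
  classical
  obtain ⟨σ⟩ : Nonempty (F4 ≃+* F) :=
    ⟨FiniteField.ringEquivOfCardEq (by rw [hF, F4.card_eq])⟩
  obtain ⟨eF⟩ := nonempty_group_equiv Cfsg.Lie.chevG2 σ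
  obtain ⟨eP⟩ := CfsgLib.Coset.G24.nonempty_equiv
  haveI := card_le.1
  let E : P ≃* ↥(Cfsg.Lie.chevG2.group F) := eP.trans eF
  have hL : Nat.card ↥(Cfsg.Lie.chevG2.group F) = 251596800 := by
    rw [← Nat.card_congr E.toEquiv, card_and_injective.1]
  have hLo : ∀ k, (∃ g : ↥(Cfsg.Lie.chevG2.group F), orderOf g = k) ↔ ∃ g : P, orderOf g = k :=
    fun k => ⟨fun ⟨g, hg⟩ => ⟨E.symm g, by rw [MulEquiv.orderOf_eq, hg]⟩,
      fun ⟨g, hg⟩ => ⟨E g, by rw [MulEquiv.orderOf_eq, hg]⟩⟩
  haveI : Finite (H N) := Finite.of_equiv _ SemidirectProduct.equivProd.symm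
  refine ⟨H N, inferInstance, inferInstance, ?_, ?_, ?_⟩
  · rw [card_H]
    have : N < 4 ^ (6 * N) := lt_of_le_of_lt (Nat.le_mul_of_pos_left _ (by norm_num))
      (Nat.lt_pow_self (by norm_num))
    exact lt_of_lt_of_le this (Nat.le_mul_of_pos_right _ (by norm_num))
  · intro p hp
    rw [hL, card_H]
    refine ⟨fun h => Dvd.dvd.mul_left h _, fun h => ?_⟩
    rcases hp.dvd_mul.1 h with e | e
    · have : p ∣ 2 * 2 := by simpa using hp.dvd_of_dvd_pow e
      rcases hp.dvd_mul.1 this with e' | e' <;> exact e'.trans (by norm_num)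
    · exact e
  · intro p q hp hq hne
    rw [hLo]
    refine ⟨fun ⟨g, hg⟩ => ⟨SemidirectProduct.inr g, ?_⟩, fun ⟨x, hx⟩ =>
      exists_order_mul hp hq hne x hx⟩
    rw [orderOf_injective _ SemidirectProduct.inr_injective, hg]

end Cfsg.Agent.S3662
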