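import Cfsg.Statements.S3663
import Cfsg.Agent.PrimeGraphU34.Rep

set_option autoImplicit false
open Cfsg

namespace Cfsg.Agent.S3663

open Cfsg.Agent.PrimeGraphU34 Matrix

/-- `m` copies of the module. -/
abbrev V (m : ℕ) : Type := Multiplicative (Fin m → Fin 12 → ZMod 5)

/-- The diagonal action on `m` copies. -/
noncomputable def act (m : ℕ) : U →* MulAut (V m) where
  toFun g :=
    { toFun := fun v => Multiplicative.ofAdd fun i => (ψ g).val *ᵥ (Multiplicative.toAdd v i)
      invFun := fun v => Multiplicative.ofAdd fun i => (ψ g⁻¹).val *ᵥ (Multiplicative.toAdd v i)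
      left_inv := fun v => by
        apply Multiplicative.toAdd.injective
        funext i
        simp [Matrix.mulVec_mulVec]
      right_inv := fun v => by
        apply Multiplicative.toAdd.injective
        funext i
        simp [Matrix.mulVec_mulVec]
      map_mul' := fun v w => by
        apply Multiplicative.toAdd.injective
        funext i
        simp [Matrix.mulVec_add] }
  map_one' := by
    ext v : 1
    apply Multiplicative.toAdd.injective
    funext i
    simp
  map_mul' := fun g h => by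
    ext v : 1
    apply Multiplicative.toAdd.injective
    funext i
    simp [Matrix.mulVec_mulVec]

/-- The extension. -/
abbrev H (m : ℕ) : Type := V m ⋊[act m] U

theorem card_H (m : ℕ) : Nat.card (H m) = 5 ^ (12 * m) * 62400 := by
  rw [SemidirectProduct.card, card_U]
  congr 1
  rw [show Nat.card (V m) = Nat.card (Fin m → Fin 12 → ZMod 5) from
      Nat.card_congr Multiplicative.toAdd,
    Nat.card_fun, Nat.card_fun, Nat.card_zmod, Nat.card_fin, Nat.card_fin, ← pow_mul]

theorem pow_five {m : ℕ} (v : V m) : v ^ 5 = 1 := by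
  apply Multiplicative.toAdd.injective
  funext i j
  show (5 : ℕ) • Multiplicative.toAdd v i j = 0
  generalize Multiplicative.toAdd v i j = a
  revert a; decide

theorem fixed_eq_zero {g : U} (hg : orderOf g = 13) {v : Fin 12 → ZMod 5}
    (hv : (ψ g).val *ᵥ v = v) : v = 0 := by
  haveI : Fact (Nat.Prime 13) := ⟨by norm_num⟩
  have hcard : ∀ P' : Sylow 13 U, Nat.card P' = 13 := fun P' => by
    rw [Sylow.card_eq_multiplicity, card_U, show (62400 : ℕ) = 13 * 4800 by norm_num,
      Nat.factorization_mul (by norm_num) (by norm_num), Finsupp.add_apply,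
      Nat.Prime.factorization_self (by norm_num),
      Nat.factorization_eq_zero_of_not_dvd (by norm_num)]
    norm_num
  have hsyl : ∀ a : U, orderOf a = 13 →
      ∃ P' : Sylow 13 U, (P' : Subgroup U) = Subgroup.zpowers a := by
    intro a ha
    obtain ⟨P', hP'⟩ := (IsPGroup.of_card (p := 13) (n := 1)
      (show Nat.card (Subgroup.zpowers a) = 13 ^ 1 by
        rw [Nat.card_zpowers, ha, pow_one])).exists_le_sylow
    refine ⟨P', (Subgroup.eq_of_le_of_card_ge hP' ?_).symm⟩
    rw [Nat.card_zpowers, ha]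
    exact (hcard P').le
  obtain ⟨Pg, hPg⟩ := hsyl g hg
  obtain ⟨Pu, hPu⟩ := hsyl (elt w13) orderOf_thirteen
  obtain ⟨x, hx⟩ := MulAction.exists_smul_eq U Pg Pu
  have hyu : x * g * x⁻¹ ∈ Subgroup.zpowers (elt w13) := by
    rw [← hPu, ← hx, Sylow.coe_subgroup_smul, hPg]
    exact ⟨g, Subgroup.mem_zpowers g, rfl⟩
  have hgen : Subgroup.zpowers (x * g * x⁻¹) = Subgroup.zpowers (elt w13) := by
    refine Subgroup.eq_of_le_of_card_ge (Subgroup.zpowers_le.2 hyu) (le_of_eq ?_)
    rw [Nat.card_zpowers, Nat.card_zpowers, orderOf_thirteen, ← hg]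
    exact (orderOf_injective (MulAut.conj x).toMonoidHom (MulAut.conj x).injective g).symm
  set w := (ψ x).val *ᵥ v with hw
  let S : Subgroup U :=
    { carrier := {z | (ψ z).val *ᵥ w = w}
      one_mem' := by simp
      mul_mem' := fun {a b} ha hb => by
        simp only [Set.mem_setOf_eq] at ha hb ⊢
        rw [map_mul, Units.val_mul, ← Matrix.mulVec_mulVec, hb, ha]
      inv_mem' := fun {a} ha => by
        simp only [Set.mem_setOf_eq] at ha ⊢
        conv_lhs => rw [← ha]
        rw [Matrix.mulVec_mulVec, ← Units.val_mul, ← map_mul, inv_mul_cancel, map_one,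
          Units.val_one, Matrix.one_mulVec] }
  have h1 : x * g * x⁻¹ ∈ S := by
    show (ψ (x * g * x⁻¹)).val *ᵥ w = w
    rw [hw, Matrix.mulVec_mulVec, ← Units.val_mul, ← map_mul,
      show x * g * x⁻¹ * x = x * g by group, map_mul, Units.val_mul, ← Matrix.mulVec_mulVec, hv]
  have h3 : elt w13 ∈ S := (Subgroup.zpowers_le.2 h1) (hgen ▸ Subgroup.mem_zpowers _)
  have h5 : w = 0 := by
    rw [← Matrix.one_mulVec w, ← inv_sub_one, ← Matrix.mulVec_mulVec, Matrix.sub_mulVec,
      Matrix.one_mulVec, show (ψ (elt w13)).val *ᵥ w = w from h3, sub_self, Matrix.mulVec_zero]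
  have h6 : v = (ψ x⁻¹).val *ᵥ w := by
    rw [hw, Matrix.mulVec_mulVec, ← Units.val_mul, ← map_mul, inv_mul_cancel, map_one,
      Units.val_one, Matrix.one_mulVec]
  rw [h6, h5, Matrix.mulVec_zero]

theorem exists_order_mul {m p q : ℕ} (hp : p.Prime) (hq : q.Prime) (hne : p ≠ q) (x : H m)
    (hx : orderOf x = p * q) : ∃ g : U, orderOf g = p * q := by
  haveI : Finite U := Nat.finite_of_card_ne_zero (by rw [card_U]; norm_num)
  set g := x.right with hg
  have hgd : orderOf g ∣ orderOf x := orderOf_map_dvd (SemidirectProduct.rightHom : H m →* U) x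
  have hxd : orderOf x ∣ orderOf g * 5 := by
    refine orderOf_dvd_of_pow_eq_one ?_
    rw [pow_mul]
    have h1 : (x ^ orderOf g).right = 1 := by
      rw [← SemidirectProduct.rightHom_eq_right, map_pow, SemidirectProduct.rightHom_eq_right]
      exact pow_orderOf_eq_one g
    rw [show x ^ orderOf g = SemidirectProduct.inl (x ^ orderOf g).left from
      SemidirectProduct.ext (by simp) (by simp [h1]), ← map_pow, pow_five, map_one]
  rw [hx] at hgd hxd
  wlog hp5 : p ≠ 5 generalizing p q
  · have hp5' : p = 5 := not_ne_iff.1 hp5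
    obtain ⟨r, hr⟩ := this hq hp hne.symm (by rw [hx, mul_comm]) (by rwa [mul_comm q p])
      (by rwa [mul_comm q p]) (fun h => hne (hp5'.trans h.symm))
    exact ⟨r, by rw [hr, mul_comm]⟩
  have h5 : Nat.Prime 5 := by norm_num
  by_cases hq5 : q = 5
  swap
  · refine ⟨g, Nat.dvd_antisymm hgd ?_⟩
    exact (((Nat.coprime_primes hp h5).2 hp5).mul_left
      ((Nat.coprime_primes hq h5).2 hq5)).dvd_of_dvd_mul_right hxd
  subst hq5
  have hpg : p ∣ orderOf g :=
    ((Nat.coprime_primes hp h5).2 hp5).dvd_of_dvd_mul_right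
      ((dvd_mul_right p 5).trans hxd)
  by_cases h5g : 5 ∣ orderOf g
  · exact ⟨g, Nat.dvd_antisymm hgd
      (((Nat.coprime_primes hp h5).2 hp5).mul_dvd_of_dvd_of_dvd hpg h5g)⟩
  have hgp : orderOf g = p := by
    refine Nat.dvd_antisymm ?_ hpg
    exact ((h5.coprime_iff_not_dvd.2 h5g).symm).dvd_of_dvd_mul_right hgd
  have hpdvd : p ∣ 62400 := by rw [← card_U, ← hgp]; exact orderOf_dvd_natCard g
  have hcases : p = 2 ∨ p = 3 ∨ p = 13 := by
    have h : p ∣ 2 ^ 6 * (3 * (5 ^ 2 * 13)) := by simpa using hpdvd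
    rcases hp.dvd_mul.1 h with e | e
    · exact Or.inl ((Nat.prime_dvd_prime_iff_eq hp Nat.prime_two).1 (hp.dvd_of_dvd_pow e))
    rcases hp.dvd_mul.1 e with e | e
    · exact Or.inr (Or.inl ((Nat.prime_dvd_prime_iff_eq hp Nat.prime_three).1 e))
    rcases hp.dvd_mul.1 e with e | e
    · exact absurd ((Nat.prime_dvd_prime_iff_eq hp h5).1 (hp.dvd_of_dvd_pow e)) hp5
    · exact Or.inr (Or.inr ((Nat.prime_dvd_prime_iff_eq hp (by norm_num)).1 e))
  rcases hcases with rfl | rfl | hp13
  · exact ⟨_, orderOf_ten⟩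
  · exact ⟨_, orderOf_fifteen⟩
  exfalso
  set v := (x ^ p).left with hv
  have hxp : x ^ p = SemidirectProduct.inl v := by
    refine SemidirectProduct.ext (by simp [hv]) ?_
    rw [← SemidirectProduct.rightHom_eq_right, map_pow, SemidirectProduct.rightHom_eq_right, ← hg,
      ← hgp, pow_orderOf_eq_one]
    simp
  have hfix : act m g v = v := by
    have h1 := congrArg SemidirectProduct.left ((Commute.self_pow x p).eq)
    rw [hxp, SemidirectProduct.mul_left, SemidirectProduct.mul_left, SemidirectProduct.left_inl,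
      SemidirectProduct.right_inl, map_one, MulAut.one_apply, mul_comm v] at h1
    exact mul_left_cancel h1
  have hzero : v = 1 := by
    apply Multiplicative.toAdd.injective
    funext i
    exact fixed_eq_zero (hgp.trans hp13) (congrFun (congrArg Multiplicative.toAdd hfix) i)
  rw [hzero, map_one] at hxp
  have h4 := Nat.le_of_dvd hp.pos (hx ▸ orderOf_dvd_of_pow_eq_one hxp)
  have := hp.two_le
  omega

theorem map_preserves {F F' : Type*} [Field F] [Field F'] (σ : F ≃+* F') (g : Cfsg.SU 3 F 4) :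
    Matrix.SpecialLinearGroup.map (σ : F →+* F') g.1 ∈ Cfsg.SU 3 F' 4 := by
  intro u v
  have key : ∀ a b : Fin 3 → F,
      σ (Cfsg.hermForm 3 F 4 a b) = Cfsg.hermForm 3 F' 4 (σ ∘ a) (σ ∘ b) := fun a b => by
    simp [Cfsg.hermForm, map_sum]
  have hmv : ∀ a : Fin 3 → F, (Cfsg.slToMat 3 F'
      (Matrix.SpecialLinearGroup.map (σ : F →+* F') g.1)) *ᵥ (σ ∘ a) =
      σ ∘ (Cfsg.slToMat 3 F g.1 *ᵥ a) := fun a => by
    funext i
    exact (RingHom.map_mulVec (σ : F →+* F') (Cfsg.slToMat 3 F g.1) a i).symm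
  obtain ⟨a, rfl⟩ : ∃ a : Fin 3 → F, σ ∘ a = u := ⟨σ.symm ∘ u, by funext i; simp⟩
  obtain ⟨b, rfl⟩ : ∃ b : Fin 3 → F, σ ∘ b = v := ⟨σ.symm ∘ v, by funext i; simp⟩
  rw [hmv, hmv, ← key, ← key, g.2 a b]

theorem nonempty_equiv {F : Type*} [Field F] [Fintype F] (hF : Fintype.card F = 16) :
    Nonempty (U ≃* Cfsg.PSU 3 F 4) := by
  let σ : F16 ≃+* F := FiniteField.ringEquivOfCardEq (by rw [hF, F16.card_eq])
  let e₁ : U ≃* Cfsg.SU 3 F 4 :=
    { toFun := fun g => ⟨_, map_preserves σ g⟩
      invFun := fun g => ⟨_, map_preserves σ.symm g⟩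
      left_inv := fun g => by
        refine Subtype.ext (Subtype.ext ?_)
        ext i j
        simp
      right_inv := fun g => by
        refine Subtype.ext (Subtype.ext ?_)
        ext i j
        simp
      map_mul' := fun g h => Subtype.ext (map_mul _ g.1 h.1) }
  have hZ : Subgroup.center (Cfsg.SU 3 F 4) = ⊥ := by
    refine Subgroup.eq_bot_of_card_eq _ ?_
    rw [CfsgLib.Unitary.card_center_SU (q := 4)
      (by rw [Nat.card_eq_fintype_card, hF]; norm_num) (by norm_num)]
    norm_num
  exact ⟨e₁.trans ((QuotientGroup.quotientBot (G := Cfsg.SU 3 F 4)).symm.trans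
    (QuotientGroup.quotientMulEquivOfEq hZ.symm))⟩

/-- The prime graph of a finite group has the prime divisors of its order as vertices, two distinct primes p, q being joined when the group has an element of order pq; two groups have the same prime graph when they have the same prime divisors and the same joined pairs. Let F be the field with 16 elements and L = PSU(3,4) realised over F. There are finite groups of arbitrarily large order with the same prime graph as L. -/
theorem result {F : Type*} [Field F] [Fintype F] (hF : Fintype.card F = 16) (N : ℕ) :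
    ∃ (H : Type) (_ : Group H) (_ : Finite H), N < Nat.card H ∧
      ((∀ p : ℕ, p.Prime → (p ∣ Nat.card (Cfsg.PSU 3 F 4) ↔ p ∣ Nat.card H)) ∧
      (∀ p q : ℕ, p.Prime → q.Prime → p ≠ q → ((∃ g : (Cfsg.PSU 3 F 4), orderOf g = p * q) ↔ (∃ g : H, orderOf g = p * q)))) := by
  classical
  obtain ⟨E⟩ := nonempty_equiv hF
  haveI : Finite U := Nat.finite_of_card_ne_zero (by rw [card_U]; norm_num)
  have hL : Nat.card (Cfsg.PSU 3 F 4) = 62400 := by rw [← Nat.card_congr E.toEquiv, card_U]
  have hLo : ∀ k, (∃ g : Cfsg.PSU 3 F 4, orderOf g = k) ↔ ∃ g : U, orderOf g = k :=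
    fun k => ⟨fun ⟨g, hg⟩ => ⟨E.symm g, by rw [MulEquiv.orderOf_eq, hg]⟩,
      fun ⟨g, hg⟩ => ⟨E g, by rw [MulEquiv.orderOf_eq, hg]⟩⟩
  haveI : Finite (H N) := Finite.of_equiv _ SemidirectProduct.equivProd.symm
  refine ⟨H N, inferInstance, inferInstance, ?_, ?_, ?_⟩
  · rw [card_H]
    have : N < 5 ^ (12 * N) := lt_of_le_of_lt (Nat.le_mul_of_pos_left _ (by norm_num))
      (Nat.lt_pow_self (by norm_num))
    exact lt_of_lt_of_le this (Nat.le_mul_of_pos_right _ (by norm_num))
  · intro p hp
    rw [hL, card_H]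
    refine ⟨fun h => Dvd.dvd.mul_left h _, fun h => ?_⟩
    rcases hp.dvd_mul.1 h with e | e
    · exact (hp.dvd_of_dvd_pow e).trans (by norm_num)
    · exact e
  · intro p q hp hq hne
    rw [hLo]
    refine ⟨fun ⟨g, hg⟩ => ⟨SemidirectProduct.inr g, ?_⟩, fun ⟨x, hx⟩ =>
      exists_order_mul hp hq hne x hx⟩
    rw [orderOf_injective _ SemidirectProduct.inr_injective, hg]

end Cfsg.Agent.S3663
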