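import Cfsg.Statements.S3669
import Cfsg.Agent.PrimeGraph.DegreeSixty

set_option autoImplicit false
open Cfsg

namespace Cfsg.Agent.S3669

/-- The character degree graph of a finite group has as vertices the primes dividing some irreducible complex character degree, two distinct primes being joined when their product divides some irreducible character degree; two groups have the same character degree graph when they have the same vertices and the same joined pairs. A finite group of order 60 with the same character degree graph as the alternating group A₅ (whose character degrees are 1, 3, 4, 5, so the graph has vertices 2, 3, 5 and no edges) is isomorphic to A₅. -/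
theorem result {G : Type*} [Group G] [Finite G] (hcard : Nat.card G = 60)
    (hΓ : Cfsg.degreePrimes G = Cfsg.degreePrimes (alternatingGroup (Fin 5)) ∧ Cfsg.degreeGraph G = Cfsg.degreeGraph (alternatingGroup (Fin 5))) : Nonempty (G ≃* alternatingGroup (Fin 5)) := by
  haveI : Fact (Nat.Prime 5) := ⟨Nat.prime_five⟩
  have hA : Nat.card (alternatingGroup (Fin 5)) = 60 := by
    rw [nat_card_alternatingGroup, Nat.card_eq_fintype_card, Fintype.card_fin]
    rfl
  obtain ⟨PA⟩ : Nonempty (Sylow 5 (alternatingGroup (Fin 5))) := inferInstance
  have hPA : ¬ (PA : Subgroup (alternatingGroup (Fin 5))).Normal := by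
    intro h
    have hc := CfsgLib.Dickson.OrderSixty.card_eq_five hA PA
    haveI := alternatingGroup.isSimpleGroup (α := Fin 5) (by rw [Nat.card_eq_fintype_card, Fintype.card_fin])
    rcases h.eq_bot_or_eq_top with h' | h'
    · rw [h', Subgroup.card_bot] at hc; omega
    · rw [h', Subgroup.card_top, hA] at hc; omega
  obtain ⟨P⟩ : Nonempty (Sylow 5 G) := inferInstance
  by_cases hn : (P : Subgroup G).Normal
  · exfalso
    refine CfsgLib.DegreeSixty.five_not_mem_degreePrimes hcard P hn ?_
    rw [hΓ.1]
    exact CfsgLib.DegreeSixty.five_mem_degreePrimes hA PA hPA
  · exact CfsgLib.Dickson.OrderSixty.nonempty_mulEquiv hcard P hn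

end Cfsg.Agent.S3669
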