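import Cfsg.Statements.S4774
import Cfsg.Agent.SL2C.Cases
import Cfsg.Agent.Char.TwoClass
import Cfsg.Agent.Char.CoprimeComplement
import Cfsg.Agent.BlocksB.ClassSum

set_option autoImplicit false
open Cfsg

namespace Cfsg.Agent.S4774

/-- Let F be a finite field of odd characteristic t with q > 5 elements and let S be isomorphic to PSL(2,F) or to SL(2,F). Then the vertices of the character degree graph of S are the primes dividing q(q²−1); the prime t is adjacent to no vertex; two distinct primes dividing q² − 1 are adjacent exactly when one of them is 2, or both divide q + 1, or both divide q − 1. -/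
theorem result (F : Type*) [Field F] [Fintype F] (t : ℕ) [Fact t.Prime] [CharP F t] (ht : t ≠ 2) (q : ℕ) (hq : Fintype.card F = q) (h5 : 5 < q) {S : Type*} [Group S] [Finite S] (hS : Nonempty (S ≃* Matrix.ProjectiveSpecialLinearGroup (Fin 2) F) ∨ Nonempty (S ≃* Matrix.SpecialLinearGroup (Fin 2) F)) : Cfsg.degreePrimes S = {r : ℕ | r.Prime ∧ r ∣ q * (q ^ 2 - 1)} ∧ ∀ r s : ℕ, (Cfsg.degreeGraph S).Adj r s ↔ (r ≠ s ∧ r.Prime ∧ s.Prime ∧ r ∣ q ^ 2 - 1 ∧ s ∣ q ^ 2 - 1 ∧ (r = 2 ∨ s = 2 ∨ (r ∣ q + 1 ∧ s ∣ q + 1) ∨ (r ∣ q - 1 ∧ s ∣ q - 1))) := by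
  classical
  subst hq
  obtain ⟨c, hc⟩ := CfsgLib.SL2C.exists_ell (F := F)
  set q := Fintype.card F with hqdef
  have hodd : Odd q := by
    obtain ⟨n, hp, hn⟩ := FiniteField.card F t
    rw [hqdef, hn]
    exact (hp.odd_of_ne_two ht).pow
  obtain ⟨g, hg⟩ : ∃ g : S →* Matrix.ProjectiveSpecialLinearGroup (Fin 2) F, Function.Surjective g := by
    rcases hS with ⟨⟨e⟩⟩ | ⟨⟨e⟩⟩
    · exact ⟨e.toMonoidHom, e.surjective⟩
    · exact ⟨(QuotientGroup.mk' (Subgroup.center (CfsgLib.SL2C.SL F))).comp e.toMonoidHom,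
        (QuotientGroup.mk'_surjective _).comp e.surjective⟩
  obtain ⟨f, hf⟩ : ∃ f : CfsgLib.SL2C.SL F →* S, Function.Surjective f := by
    rcases hS with ⟨⟨e⟩⟩ | ⟨⟨e⟩⟩
    · exact ⟨e.symm.toMonoidHom.comp (QuotientGroup.mk' (Subgroup.center (CfsgLib.SL2C.SL F))),
        e.symm.surjective.comp (QuotientGroup.mk'_surjective _)⟩
    · exact ⟨e.symm.toMonoidHom, e.symm.surjective⟩
  -- a character of SL₂ that is constant on the centre gives a degree of `S`
  have descend : ∀ (χ : CfsgLib.SL2C.SL F → ℂ) (d : ℕ), Cfsg.IsIrrCharacter (CfsgLib.SL2C.SL F) χ →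
      χ 1 = (d : ℂ) → (∀ e ∈ CfsgLib.SL2C.sgn F, χ (CfsgLib.SL2C.bor e 0) = χ 1) →
      d ∈ Cfsg.charDegrees S := by
    intro χ d hχ hd hcen
    obtain ⟨σ, hσ, hσe⟩ := CfsgLib.Char.TwoClass.exists_deflate
      (N := Subgroup.center (CfsgLib.SL2C.SL F)) hχ (fun y hy => by
        obtain ⟨a, ha, rfl⟩ := CfsgLib.SL2C.exists_eq_bor_of_mem_center hy
        exact hcen a (CfsgLib.SL2C.mem_sgn.2 ha))
    refine ⟨⟨_, CfsgLib.Char.IsIrrCharacter.comp_surjective hσ g hg⟩, ?_⟩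
    apply CfsgLib.Char.charDegree_eq_natCast
    show σ (g 1) = _
    rw [map_one, ← hd, hσe]
    rfl
  have hexp : ∀ {A : Type _} [Group A] [Fintype A] [IsCyclic A], (∀ a b : A, a * b = b * a) →
      4 < Fintype.card A → ∃ ψ : A →* ℂˣ, (ψ * ψ) * (ψ * ψ) ≠ 1 := by
    intro A _ _ _ hA h4
    obtain ⟨a, ha⟩ := IsCyclic.exists_ofOrder_eq_natCard (α := A)
    have hne : a ^ 4 ≠ 1 := fun e => by
      have := Nat.le_of_dvd (by norm_num) (orderOf_dvd_of_pow_eq_one e)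
      rw [ha, Nat.card_eq_fintype_card] at this
      omega
    obtain ⟨ψ, hψ⟩ := CfsgLib.SL2C.exists_char_ne_one hA hne
    refine ⟨ψ, fun e => hψ ?_⟩
    have := DFunLike.congr_fun e a
    simp only [MonoidHom.mul_apply, MonoidHom.one_apply] at this
    rw [map_pow, ← this, pow_succ, pow_succ, pow_succ, pow_one, mul_assoc, mul_assoc]
  have hSt : q ∈ Cfsg.charDegrees S :=
    descend _ q CfsgLib.SL2C.isIrr_St (CfsgLib.SL2C.St_apply_one hc) fun e he => by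
      rw [(CfsgLib.SL2C.St_vals hc).cen e he, CfsgLib.SL2C.St_apply_one hc]
  have hR : q + 1 ∈ Cfsg.charDegrees S := by
    obtain ⟨ψ, hψ⟩ := hexp (A := Fˣ) mul_comm (by rw [Fintype.card_units]; omega)
    refine descend _ _ ((CfsgLib.SL2C.isIrr_R_iff (ψ * ψ)).2 hψ)
      (by rw [CfsgLib.SL2C.R_apply_one hc]; push_cast; rfl) fun e he => ?_
    rw [(CfsgLib.SL2C.R_vals hc _).cen e he, CfsgLib.SL2C.R_apply_one hc,
      show CfsgLib.SL2C.ch (ψ * ψ) e = 1 from CfsgLib.SL2C.ch_mul_self ψ he, mul_one]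
  have hP : q - 1 ∈ Cfsg.charDegrees S := by
    haveI := CfsgLib.SL2C.isCyclic_tor hc
    obtain ⟨ψ, hψ⟩ := hexp (A := CfsgLib.SL2C.tor c) (CfsgLib.SL2C.comm_tor hc)
      (by rw [CfsgLib.SL2C.card_tor_fintype hc]; omega)
    refine descend _ _ (CfsgLib.SL2C.isIrr_Pi' hc (θ := ψ * ψ) hψ)
      (by rw [CfsgLib.SL2C.Pi'_apply_one hc, Nat.cast_sub (by omega), Nat.cast_one]) fun e he => ?_
    rw [(CfsgLib.SL2C.Pi'_vals hc _).cen e he, CfsgLib.SL2C.Pi'_apply_one hc, CfsgLib.SL2C.tc_mul,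
      CfsgLib.SL2C.tc_mul_self ψ he, mul_one]
  have hdeg : ∀ d ∈ Cfsg.charDegrees S, d ∣ q ∨ d ∣ q + 1 ∨ d ∣ q - 1 := by
    rintro d ⟨χ, rfl⟩
    obtain ⟨hd, -⟩ := CfsgLib.BlocksB.charDegree_spec χ.2
    set d := Cfsg.charDegree (χ : S → ℂ) with hddef
    have h1 : (fun x => (χ : S → ℂ) (f x)) 1 = (d : ℂ) := by
      show (χ : S → ℂ) (f 1) = _
      rw [map_one, hd]
    rcases CfsgLib.SL2C.degree_cases hc
      (CfsgLib.Char.IsIrrCharacter.comp_surjective χ.2 f hf) with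
      ⟨-, e⟩ | ⟨-, e⟩ | ⟨-, e⟩ | ⟨-, e⟩ | ⟨-, e⟩ | ⟨-, e⟩ <;> replace e := h1.symm.trans e
    · exact Or.inl (by rw [show d = 1 by exact_mod_cast e]; exact one_dvd _)
    · exact Or.inl (by rw [show d = q by exact_mod_cast e])
    · exact Or.inr (Or.inl (by rw [show d = q + 1 by exact_mod_cast e]))
    · have e' : (d : ℂ) + 1 = (q : ℂ) := by rw [e]; ring
      have : d + 1 = q := by exact_mod_cast e'
      exact Or.inr (Or.inr (by rw [show q - 1 = d by omega]))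
    · have e' : 2 * (d : ℂ) = (q : ℂ) + 1 := by rw [e]; ring
      have : 2 * d = q + 1 := by exact_mod_cast e'
      exact Or.inr (Or.inl (this ▸ dvd_mul_left _ _))
    · have e' : 2 * (d : ℂ) + 1 = (q : ℂ) := by rw [e]; ring
      have : 2 * d + 1 = q := by exact_mod_cast e'
      exact Or.inr (Or.inr (by rw [show q - 1 = 2 * d by omega]; exact dvd_mul_left _ _))
  have hfac : q ^ 2 - 1 = (q + 1) * (q - 1) := by simpa using Nat.sq_sub_sq q 1
  have hqprime : ∀ r : ℕ, r.Prime → r ∣ q → r = t := fun r hr hrq => by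
    obtain ⟨n, hp, hn⟩ := FiniteField.card F t
    rw [hqdef, hn] at hrq
    exact (Nat.prime_dvd_prime_iff_eq hr hp).1 (hr.dvd_of_dvd_pow hrq)
  have h2 : 2 ∣ q + 1 ∧ 2 ∣ q - 1 := by
    obtain ⟨k, hk⟩ := hodd
    omega
  refine ⟨?_, fun r s => ?_⟩
  · ext r
    simp only [Cfsg.degreePrimes, Set.mem_setOf_eq]
    refine and_congr_right fun hr => ⟨?_, fun h => ?_⟩
    · rintro ⟨d, hd, hrd⟩
      rw [hfac]
      rcases hdeg d hd with h | h | h
      · exact dvd_mul_of_dvd_left (hrd.trans h) _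
      · exact dvd_mul_of_dvd_right (dvd_mul_of_dvd_left (hrd.trans h) _) _
      · exact dvd_mul_of_dvd_right (dvd_mul_of_dvd_right (hrd.trans h) _) _
    · rw [hfac] at h
      rcases hr.dvd_mul.1 h with h | h
      · exact ⟨q, hSt, h⟩
      · rcases hr.dvd_mul.1 h with h | h
        · exact ⟨_, hR, h⟩
        · exact ⟨_, hP, h⟩
  · simp only [Cfsg.degreeGraph]
    refine and_congr_right fun hne => and_congr_right fun hr => and_congr_right fun hs => ⟨?_, ?_⟩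
    · rintro ⟨d, hd, hrsd⟩
      rw [hfac]
      rcases hdeg d hd with h | h | h <;> replace hrsd := hrsd.trans h <;>
        have hrd := (dvd_mul_right r s).trans hrsd <;> have hsd := (dvd_mul_left s r).trans hrsd
      · exact absurd ((hqprime r hr hrd).trans (hqprime s hs hsd).symm) hne
      · exact ⟨dvd_mul_of_dvd_left hrd _, dvd_mul_of_dvd_left hsd _, Or.inr (Or.inr (Or.inl ⟨hrd, hsd⟩))⟩
      · exact ⟨dvd_mul_of_dvd_right hrd _, dvd_mul_of_dvd_right hsd _, Or.inr (Or.inr (Or.inr ⟨hrd, hsd⟩))⟩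
    · rintro ⟨hr', hs', h⟩
      have hcop : r.Coprime s := (Nat.coprime_primes hr hs).2 hne
      rw [hfac] at hr' hs'
      rcases h with rfl | rfl | ⟨a, b⟩ | ⟨a, b⟩
      · rcases hs.dvd_mul.1 hs' with h | h
        · exact ⟨_, hR, hcop.mul_dvd_of_dvd_of_dvd h2.1 h⟩
        · exact ⟨_, hP, hcop.mul_dvd_of_dvd_of_dvd h2.2 h⟩
      · rcases hr.dvd_mul.1 hr' with h | h
        · exact ⟨_, hR, hcop.mul_dvd_of_dvd_of_dvd h h2.1⟩
        · exact ⟨_, hP, hcop.mul_dvd_of_dvd_of_dvd h h2.2⟩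
      · exact ⟨_, hR, hcop.mul_dvd_of_dvd_of_dvd a b⟩
      · exact ⟨_, hP, hcop.mul_dvd_of_dvd_of_dvd a b⟩

end Cfsg.Agent.S4774
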