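import Cfsg.Statements.S4812
import Cfsg.Agent.SL2C.Cases
import Cfsg.Agent.Classical.LinearOrder
-- import your own Cfsg.Agent.* helpers here

set_option autoImplicit false
open Cfsg

namespace Cfsg.Agent.S4812

open CfsgLib.SL2C in
theorem charDegrees_SL {F : Type*} [Field F] [Fintype F] (heven : Even (Fintype.card F))
    (h4 : 4 ≤ Fintype.card F) :
    Cfsg.charDegrees (SL F) =
      {1, Fintype.card F, Fintype.card F + 1, Fintype.card F - 1} := by
  classical
  obtain ⟨c, hc⟩ := exists_ell (F := F)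
  have h1 : 1 ≤ Fintype.card F := by omega
  ext d
  constructor
  · rintro ⟨χ, rfl⟩
    rcases degree_cases hc χ.2 with ⟨-, e⟩ | ⟨-, e⟩ | ⟨-, e⟩ | ⟨-, e⟩ | ⟨⟨ho, -⟩, -⟩ | ⟨⟨ho, -⟩, -⟩
    · left; simp [Cfsg.charDegree, e]
    · right; left; simp [Cfsg.charDegree, e]
    · right; right; left
      rw [Cfsg.charDegree, e, ← Nat.cast_one (R := ℂ), ← Nat.cast_add, Complex.natCast_re,
        Nat.floor_natCast]
    · right; right; right
      rw [Set.mem_singleton_iff, Cfsg.charDegree, e, ← Nat.cast_one (R := ℂ), ← Nat.cast_sub h1,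
        Complex.natCast_re, Nat.floor_natCast]
    · exact absurd heven (Nat.not_even_iff_odd.2 ho)
    · exact absurd heven (Nat.not_even_iff_odd.2 ho)
  · have hA : (AR F).Nonempty := Finset.card_pos.1 (by have := card_AR_even heven; omega)
    have hT : (AT c).Nonempty := Finset.card_pos.1 (by have := card_AT_even hc heven; omega)
    obtain ⟨α, hα⟩ := hA
    obtain ⟨θ, hθ⟩ := hT
    rintro (rfl | rfl | rfl | rfl)
    · exact ⟨⟨fun _ => 1, CfsgLib.Char.isIrrCharacter_one⟩, by simp [Cfsg.charDegree]⟩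
    · exact ⟨⟨St, isIrr_St⟩, by simp [Cfsg.charDegree, St_apply_one hc]⟩
    · refine ⟨⟨R α, (isIrr_R_iff α).2 (mem_AR.1 hα)⟩, ?_⟩
      show Cfsg.charDegree (R α) = _
      rw [Cfsg.charDegree, R_apply_one hc, ← Nat.cast_one (R := ℂ), ← Nat.cast_add,
        Complex.natCast_re, Nat.floor_natCast]
    · refine ⟨⟨Pi' θ, isIrr_Pi' hc (mem_AT.1 hθ)⟩, ?_⟩
      show Cfsg.charDegree (Pi' θ) = _
      rw [Cfsg.charDegree, Pi'_apply_one hc, ← Nat.cast_one (R := ℂ), ← Nat.cast_sub h1,
        Complex.natCast_re, Nat.floor_natCast]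

theorem charDegrees_equiv {G H : Type*} [Group G] [Group H] [Finite G] [Finite H] (e : G ≃* H) :
    Cfsg.charDegrees G = Cfsg.charDegrees H := by
  ext d
  constructor
  · rintro ⟨χ, rfl⟩
    exact ⟨⟨_, CfsgLib.Char.IsIrrCharacter.comp_surjective χ.2 e.symm.toMonoidHom e.symm.surjective⟩,
      by simp [Cfsg.charDegree]⟩
  · rintro ⟨χ, rfl⟩
    exact ⟨⟨_, CfsgLib.Char.IsIrrCharacter.comp_surjective χ.2 e.toMonoidHom e.surjective⟩,
      by simp [Cfsg.charDegree]⟩

/-- Let F be a finite field of characteristic 2 with q ≥ 4 elements and let S be isomorphic to PSL(2,F) or to SL(2,F). Then the vertices of the character degree graph of S are the primes dividing q(q²−1), and two distinct primes are adjacent exactly when both divide q + 1 or both divide q − 1; so the graph has the three connected components {2}, the primes dividing q + 1 and the primes dividing q − 1, each complete. -/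
theorem result (F : Type*) [Field F] [Fintype F] [CharP F 2] (q : ℕ) (hq : Fintype.card F = q) (h4 : 4 ≤ q) {S : Type*} [Group S] [Finite S] (hS : Nonempty (S ≃* Matrix.ProjectiveSpecialLinearGroup (Fin 2) F) ∨ Nonempty (S ≃* Matrix.SpecialLinearGroup (Fin 2) F)) : Cfsg.degreePrimes S = {r : ℕ | r.Prime ∧ r ∣ q * (q ^ 2 - 1)} ∧ ∀ r s : ℕ, (Cfsg.degreeGraph S).Adj r s ↔ (r ≠ s ∧ r.Prime ∧ s.Prime ∧ ((r ∣ q + 1 ∧ s ∣ q + 1) ∨ (r ∣ q - 1 ∧ s ∣ q - 1))) := by
  classical
  have heven : Even (Fintype.card F) := by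
    rw [Nat.even_iff]
    exact FiniteField.even_card_of_char_two (ringChar.eq F 2)
  have hd : Cfsg.charDegrees S = {1, q, q + 1, q - 1} := by
    rw [← hq, ← charDegrees_SL heven (hq ▸ h4)]
    rcases hS with ⟨⟨e⟩⟩ | ⟨⟨e⟩⟩
    · have hc : Subgroup.center (Matrix.SpecialLinearGroup (Fin 2) F) = ⊥ := by
        refine Subgroup.card_eq_one.1 ?_
        rw [CfsgLib.Linear.card_center_SL, Fintype.card_fin, Nat.card_eq_fintype_card]
        obtain ⟨k, hk⟩ := heven
        exact (Nat.coprime_two_left.2 ⟨k - 1, by omega⟩)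
      exact charDegrees_equiv (e.trans ((QuotientGroup.quotientMulEquivOfEq hc).trans
        QuotientGroup.quotientBot))
    · exact charDegrees_equiv e
  have hodd : Odd (q + 1) ∧ Odd (q - 1) := by
    subst hq
    exact ⟨heven.add_one, Nat.Even.sub_odd (by omega) heven odd_one⟩
  obtain ⟨a, ha⟩ : ∃ a, q = 2 ^ a := by
    obtain ⟨n, -, hn⟩ := FiniteField.card F 2
    exact ⟨n, hq ▸ hn⟩
  have hqp : ∀ r : ℕ, r.Prime → r ∣ q → r = 2 := fun r hr h =>
    (Nat.prime_dvd_prime_iff_eq hr Nat.prime_two).1 (hr.dvd_of_dvd_pow (ha ▸ h))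
  have hfac : q * (q ^ 2 - 1) = q * ((q + 1) * (q - 1)) := by
    congr 1
    simpa using Nat.sq_sub_sq q 1
  refine ⟨?_, fun r s => ?_⟩
  · ext r
    simp only [Cfsg.degreePrimes, hd, Set.mem_setOf_eq]
    refine and_congr_right fun hr => ?_
    rw [hfac, hr.dvd_mul, hr.dvd_mul]
    constructor
    · rintro ⟨d, (rfl | rfl | rfl | rfl), h⟩
      · exact absurd h hr.not_dvd_one
      · exact Or.inl h
      · exact Or.inr (Or.inl h)
      · exact Or.inr (Or.inr h)
    · rintro (h | h | h)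
      · exact ⟨q, by simp, h⟩
      · exact ⟨q + 1, by simp, h⟩
      · exact ⟨q - 1, by simp, h⟩
  · show (r ≠ s ∧ r.Prime ∧ s.Prime ∧ ∃ d ∈ Cfsg.charDegrees S, r * s ∣ d) ↔ _
    rw [hd]
    refine and_congr_right fun hne => and_congr_right fun hr => and_congr_right fun hs => ?_
    have hco : Nat.Coprime r s := (Nat.coprime_primes hr hs).2 hne
    constructor
    · rintro ⟨d, (rfl | rfl | rfl | rfl), h⟩
      · exact absurd (dvd_of_mul_right_dvd h) hr.not_dvd_one
      · exact absurd ((hqp r hr (dvd_of_mul_right_dvd h)).trans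
          (hqp s hs (dvd_of_mul_left_dvd h)).symm) hne
      · exact Or.inl ⟨dvd_of_mul_right_dvd h, dvd_of_mul_left_dvd h⟩
      · exact Or.inr ⟨dvd_of_mul_right_dvd h, dvd_of_mul_left_dvd h⟩
    · rintro (⟨h1, h2⟩ | ⟨h1, h2⟩)
      · exact ⟨q + 1, by simp, hco.mul_dvd_of_dvd_of_dvd h1 h2⟩
      · exact ⟨q - 1, by simp, hco.mul_dvd_of_dvd_of_dvd h1 h2⟩

end Cfsg.Agent.S4812
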