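import Cfsg.Statements.S3670
import Cfsg.Agent.U33Degrees.Graph
import Cfsg.Agent.U33Degrees.Seven
import Cfsg.Agent.U33Degrees.Transfer
import Cfsg.Agent.U33Degrees.Witness
import Cfsg.Agent.S2366
import Cfsg.Agent.Unitary.Simple

set_option autoImplicit false
set_option linter.style.haveILetI false

open Cfsg

namespace Cfsg.Agent.S3670

/-- The character degree graph of a finite group has as vertices the primes dividing some irreducible complex character degree, two distinct primes being joined when their product divides some irreducible character degree; two groups have the same character degree graph when they have the same vertices and the same joined pairs. Let F be the field with 9 elements and L = PSU(3,3) realised over F (order 6048). There is a finite solvable group of order 6048 with the same character degree graph as L; so L is not determined by its order together with its character degree graph. -/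
theorem result {F : Type*} [Field F] [Fintype F] (hF : Fintype.card F = 9) :
    ∃ (H : Type) (_ : Group H) (_ : Fintype H), Group.IsSolvable H ∧ Nat.card H = 6048 ∧ Cfsg.degreePrimes H = Cfsg.degreePrimes (Cfsg.PSU 3 F 3) ∧ Cfsg.degreeGraph H = Cfsg.degreeGraph (Cfsg.PSU 3 F 3) := by
  classical
  haveI : Fact (Nat.Prime 3) := ⟨Nat.prime_three⟩
  haveI : CharP F 3 := by
    obtain ⟨p, hp⟩ := CharP.exists F
    haveI : Fact p.Prime := ⟨CharP.char_is_prime F p⟩
    obtain ⟨n, hn, hcard⟩ := FiniteField.card F p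
    rw [hF] at hcard
    have h3 : p ∣ 3 ^ 2 := by rw [show (3 : ℕ) ^ 2 = 9 from rfl, hcard]; exact dvd_pow_self p n.ne_zero
    rwa [(Nat.prime_dvd_prime_iff_eq Fact.out Nat.prime_three).mp (Fact.out (p := p.Prime) |>.dvd_of_dvd_pow h3)] at hp
  have hF' : Nat.card F = 3 ^ 2 := by rw [Nat.card_eq_fintype_card, hF]; rfl
  have hcard : Nat.card (Cfsg.PSU 3 F 3) = 6048 := by
    have h := CfsgLib.Unitary.card_PSU_mul (F := F) (q := 3) hF' (n := 3) (by norm_num)
    rw [CfsgLib.Unitary.card_GU hF' 3] at h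
    simp [Finset.prod_range_succ, -Nat.card_eq_fintype_card] at h
    omega
  haveI : Finite (Cfsg.PSU 3 F 3) := Nat.finite_of_card_ne_zero (by rw [hcard]; norm_num)
  haveI : IsSimpleGroup (Cfsg.PSU 3 F 3) :=
    CfsgLib.Unitary.isSimpleGroup_PSU hF' (by norm_num) (by norm_num)
  have hspec : ∀ g : Cfsg.PSU 3 F 3, orderOf g ≠ 14 ∧ orderOf g ≠ 21 := by
    intro g
    have h : orderOf g ∈ Set.range (orderOf : Cfsg.PSU 3 F 3 → ℕ) := ⟨g, rfl⟩
    rw [Cfsg.Agent.S2366.result 3 (by norm_num) 3 (by rw [hF]; rfl)] at h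
    constructor <;> intro e <;> rw [e] at h <;> norm_num at h
  have hnc : ¬ IsMulCommutative (Cfsg.PSU 3 F 3) := by
    intro hc
    have hp := @IsSimpleGroup.prime_card _ { (inferInstance : Group (Cfsg.PSU 3 F 3)) with
      mul_comm := fun a b => hc.is_comm.comm a b } _
    rw [hcard] at hp
    norm_num at hp
  have hU6 := CfsgLib.U33Deg.exists_six_dvd_degree hnc hcard (fun g => (hspec g).1)
    (fun g => (hspec g).2)
  obtain ⟨f, hf⟩ := CfsgLib.U33Deg.exists_surjection hF
  obtain ⟨⟨a, ha, ha1⟩, b, hb, hb1⟩ := CfsgLib.U33Deg.exists_degree_fourteen_twentyone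
  obtain ⟨hUp, hUg⟩ := CfsgLib.U33Deg.graph_eq_complete hcard hU6
    ⟨_, 14, CfsgLib.Char.IsIrrCharacter.comp_surjective ha f hf, by simp [ha1], dvd_rfl⟩
    ⟨_, 21, CfsgLib.Char.IsIrrCharacter.comp_surjective hb f hf, by simp [hb1], dvd_rfl⟩
  obtain ⟨χ, hχ, hχ1⟩ := CfsgLib.U33Deg.exists_degree_42
  haveI : Finite CfsgLib.U33Deg.W := inferInstance
  have h42 : χ 1 = ((42 : ℕ) : ℂ) := by rw [hχ1]; norm_num
  obtain ⟨hWp, hWg⟩ := CfsgLib.U33Deg.graph_eq_complete CfsgLib.U33Deg.card_W
    ⟨χ, 42, hχ, h42, by norm_num⟩ ⟨χ, 42, hχ, h42, by norm_num⟩ ⟨χ, 42, hχ, h42, by norm_num⟩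
  refine ⟨CfsgLib.U33Deg.W, inferInstance, Fintype.ofFinite _, CfsgLib.U33Deg.isSolvable_W,
    CfsgLib.U33Deg.card_W, hWp.trans hUp.symm, ?_⟩
  ext p q
  rw [hWg, hUg]

end Cfsg.Agent.S3670
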