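import Cfsg.Statements.S3678
import Cfsg.Agent.PrimeGraph.SL2Char2

set_option autoImplicit false
open Cfsg

namespace Cfsg.Agent.S3678

/-- The prime graph of a finite group has the prime divisors of its order as vertices, two distinct primes p, q being joined when the group has an element of order pq; two groups have the same prime graph when they have the same prime divisors and the same joined pairs. Let F be the field with 7 elements. There are finite groups of arbitrarily large order with the same prime graph as PSL(2,F) (the graph on {2, 3, 7} with no edges, which is also the prime graph of PSL(2,8)). -/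
theorem result {F : Type*} [Field F] [Fintype F] (hF : Fintype.card F = 7) (N : ℕ) :
    ∃ (H : Type) (_ : Group H) (_ : Finite H), N < Nat.card H ∧
      ((∀ p : ℕ, p.Prime → (p ∣ Nat.card (Matrix.ProjectiveSpecialLinearGroup (Fin 2) F) ↔ p ∣ Nat.card H)) ∧
      (∀ p q : ℕ, p.Prime → q.Prime → p ≠ q → ((∃ g : (Matrix.ProjectiveSpecialLinearGroup (Fin 2) F), orderOf g = p * q) ↔ (∃ g : H, orderOf g = p * q)))) := by
  haveI : Fact (Nat.Prime 2) := ⟨Nat.prime_two⟩
  haveI : Fact (Nat.Prime 7) := ⟨by norm_num⟩
  haveI : CharP F 7 := charP_of_card_eq_prime_pow (f := 1) (by simpa using hF)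
  haveI : Fintype (GaloisField 2 3) := Fintype.ofFinite _
  have hK : Fintype.card (GaloisField 2 3) = 8 := by
    rw [← Nat.card_eq_fintype_card, GaloisField.card 2 3 (by norm_num)]; rfl
  obtain ⟨H, _, _, h0, h1, h2⟩ := CfsgLib.SL2Char2.large_same_graph (F := GaloisField 2 3) N
  have hF' := CfsgLib.PSL2Spec.spectrum (F := F) 7
  have hK' := CfsgLib.PSL2Spec.spectrum (F := GaloisField 2 3) 2
  rw [hF] at hF'
  rw [hK] at hK'
  norm_num at hF' hK'
  refine ⟨H, inferInstance, inferInstance, h0, fun r hr => ?_, fun r s hr hs hrs => ?_⟩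
  · rw [← h1 r hr, CfsgLib.PSL2Spec.prime_dvd_card_iff _ hr, CfsgLib.PSL2Spec.prime_dvd_card_iff _ hr, hF', hK']
    simp only [Set.mem_setOf_eq]
    constructor <;> intro h
    · rcases h with h | h | h
      · exact Or.inr (Or.inl h)
      · exact Or.inr (Or.inr (h.trans (by norm_num)))
      · exact Or.inl ((hr.dvd_of_dvd_pow (show r ∣ 2 ^ 2 from h)))
    · rcases h with h | h | h
      · exact Or.inr (Or.inr (h.trans (by norm_num)))
      · exact Or.inl h
      · exact Or.inr (Or.inl ((hr.dvd_of_dvd_pow (show r ∣ 3 ^ 2 from h))))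
  · rw [← h2 r s hr hs hrs]
    have e1 : ∀ n : ℕ, n.Prime → ∀ k, r * s ∣ n ^ k → False := fun n hn k h =>
      hrs (((Nat.prime_dvd_prime_iff_eq hr hn).1 (hr.dvd_of_dvd_pow (dvd_of_mul_right_dvd h))).trans
        ((Nat.prime_dvd_prime_iff_eq hs hn).1 (hs.dvd_of_dvd_pow (dvd_of_mul_left_dvd h))).symm)
    constructor
    · rintro ⟨x, hx⟩
      have : r * s ∈ Set.range (orderOf : Matrix.ProjectiveSpecialLinearGroup (Fin 2) F → ℕ) := ⟨x, hx⟩
      rw [hF'] at this
      exfalso
      rcases this with h | h | h
      · exact e1 7 (by norm_num) 1 (by simpa using h)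
      · exact e1 3 (by norm_num) 1 (by simpa using h)
      · exact e1 2 Nat.prime_two 2 h
    · rintro ⟨x, hx⟩
      have : r * s ∈ Set.range (orderOf : Matrix.ProjectiveSpecialLinearGroup (Fin 2) (GaloisField 2 3) → ℕ) := ⟨x, hx⟩
      rw [hK'] at this
      exfalso
      rcases this with h | h | h
      · exact e1 2 Nat.prime_two 1 (by simpa using h)
      · exact e1 7 (by norm_num) 1 (by simpa using h)
      · exact e1 3 (by norm_num) 2 h

end Cfsg.Agent.S3678
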