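import Cfsg.Statements.S3680
import Cfsg.Agent.Perm.Basic
import Cfsg.Agent.Perm.MinimalNormal
import Cfsg.Agent.Solvable.Basics

set_option autoImplicit false
open Cfsg

namespace Cfsg.Agent.S3680

/-- The socle of a finite primitive permutation group. Let a finite group G act faithfully and primitively on a set Ω, and let N be the subgroup generated by the minimal normal subgroups of G. Then either N is an elementary abelian p-group for some prime p and acts regularly on Ω (transitively with trivial point stabilizers), or N is isomorphic to a direct product of m ≥ 1 copies of a non-abelian simple group. -/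
theorem result {G Ω : Type*} [Group G] [Finite G] [MulAction G Ω] [FaithfulSMul G Ω] [Finite Ω]
    (hprim : MulAction.IsPreprimitive G Ω) (N : Subgroup G)
    (hN : N = sSup {V : Subgroup G | V.Normal ∧ V ≠ ⊥ ∧ ∀ M : Subgroup G, M.Normal → M ≤ V → M = ⊥ ∨ M = V}) :
    (∃ p : ℕ, p.Prime ∧ IsMulCommutative N ∧ (∀ x : N, x ^ p = 1) ∧
      MulAction.IsPretransitive N Ω ∧ ∀ ω : Ω, MulAction.stabilizer N ω = ⊥) ∨
    (∃ (T : Type) (_ : Group T) (m : ℕ), 1 ≤ m ∧ IsSimpleGroup T ∧ ¬ IsMulCommutative T ∧ Nonempty (N ≃* (Fin m → T))) := by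
  classical
  haveI := hprim
  set 𝓜 := {V : Subgroup G | V.Normal ∧ V ≠ ⊥ ∧ ∀ M : Subgroup G, M.Normal → M ≤ V → M = ⊥ ∨ M = V}
    with h𝓜
  by_cases htop : (⊤ : Subgroup G) = ⊥
  · left
    have hN0 : N = ⊥ := le_bot_iff.1 (htop ▸ le_top)
    subst hN0
    have hsub : Subsingleton Ω := ⟨fun a b => by
      obtain ⟨g, hg⟩ := MulAction.exists_smul_eq G a b
      have : g ∈ (⊥ : Subgroup G) := htop ▸ Subgroup.mem_top g
      rw [Subgroup.mem_bot] at this
      rw [← hg, this, one_smul]⟩
    exact ⟨2, Nat.prime_two, ⟨⟨fun a b => Subsingleton.elim _ _⟩⟩,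
      fun x => Subsingleton.elim _ _, ⟨fun a b => ⟨1, Subsingleton.elim _ _⟩⟩,
      fun ω => Subsingleton.elim _ _⟩
  obtain ⟨M, hM, hM1, -, hmin⟩ := CfsgLib.Solvable.exists_minimal_normal_le htop
  haveI := hM
  haveI := CfsgLib.PermBasic.isPretransitive_of_normal (α := Ω) M hM1
  have hne : Nonempty Ω ∨ IsEmpty Ω := (isEmpty_or_nonempty Ω).symm
  obtain ⟨α⟩ : Nonempty Ω := by
    rcases hne with h | h
    · exact h
    · exact absurd ((Subgroup.eq_bot_iff_forall _).2 fun g _ =>
        eq_of_smul_eq_smul (α := Ω) fun x => h.elim x) htop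
  have hMmem : M ∈ 𝓜 := ⟨hM, hM1, hmin⟩
  have hcomm : ∀ V ∈ 𝓜, V ≠ M → V ≤ Subgroup.centralizer (M : Set G) := by
    rintro V ⟨hV, hV1, hVmin⟩ hVM
    haveI := hV
    exact CfsgLib.PermBasic.le_centralizer_of_inf_eq_bot
      (CfsgLib.PermBasic.inf_eq_bot_of_minimal hVmin hmin hVM)
  have hCss : MulAction.stabilizer (Subgroup.centralizer (M : Set G)) α = ⊥ :=
    CfsgLib.PermBasic.semiregular_of_le_centralizer M _ le_rfl α
  by_cases hab : IsMulCommutative M
  · left
    have hs : Group.IsSolvable M := by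
      letI : CommGroup M := { (inferInstance : Group M) with mul_comm := hab.is_comm.comm }
      infer_instance
    obtain ⟨-, p, hp, hexp, -⟩ := CfsgLib.Solvable.minimal_normal_elementary hM1 hmin hs
    have hMC : M ≤ Subgroup.centralizer (M : Set G) :=
      Subgroup.le_centralizer_iff_isMulCommutative.2 hab
    have hCM : Subgroup.centralizer (M : Set G) = M :=
      CfsgLib.PermBasic.eq_of_semiregular_of_transitive_le hMC α hCss
    have hNM : N = M := by
      rw [hN]
      refine le_antisymm (sSup_le fun V hV => ?_) (le_sSup hMmem)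
      by_cases hVM : V = M
      · rw [hVM]
      · exact (hcomm V hV hVM).trans hCM.le
    subst hNM
    exact ⟨p, hp, hab, fun x => Subtype.ext (by rw [SubmonoidClass.coe_pow]; exact hexp x x.2),
      inferInstance, fun ω => CfsgLib.PermBasic.semiregular_of_le_centralizer N N hMC ω⟩
  right
  obtain ⟨T, hT⟩ := CfsgLib.ExtPrim.exists_isFactor M hM1 hmin hab
  obtain ⟨ι, _, S, hS, hι, hsimple, hna, ⟨e⟩⟩ :=
    CfsgLib.MinimalNormal.exists_mulEquiv_pi_of_isFactor hT
  let eι : (ι → S) ≃* (Fin (Fintype.card ι) → S) :=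
    { Equiv.arrowCongr (Fintype.equivFin ι) (Equiv.refl S) with map_mul' := fun _ _ => rfl }
  by_cases h2 : ∃ V ∈ 𝓜, V ≠ M
  swap
  · have hNM : N = M := by
      rw [hN]
      refine le_antisymm (sSup_le fun V hV => ?_) (le_sSup hMmem)
      by_contra hVM
      exact h2 ⟨V, hV, fun h => hVM h.le⟩
    subst hNM
    exact ⟨S, hS, Fintype.card ι, Fintype.card_pos, hsimple, hna, ⟨e.trans eι⟩⟩
  obtain ⟨V, hV, hVM⟩ := h2
  obtain ⟨hVn, hV1, hVmin⟩ := id hV
  haveI := hVn
  haveI := CfsgLib.PermBasic.isPretransitive_of_normal (α := Ω) V hV1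
  have hCV : Subgroup.centralizer (M : Set G) = V :=
    CfsgLib.PermBasic.eq_of_semiregular_of_transitive_le (hcomm V hV hVM) α hCss
  have hMss : MulAction.stabilizer M α = ⊥ :=
    CfsgLib.PermBasic.semiregular_of_le_centralizer V M
      (Subgroup.le_centralizer_iff.1 (hcomm V hV hVM)) α
  have hVss : MulAction.stabilizer V α = ⊥ :=
    CfsgLib.PermBasic.semiregular_of_le_centralizer M V (hcomm V hV hVM) α
  have hMinj : ∀ a b : M, (a : G) • α = (b : G) • α → a = b := by
    intro a b h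
    have : b⁻¹ * a ∈ MulAction.stabilizer M α := by
      rw [MulAction.mem_stabilizer_iff]
      show ((b : G)⁻¹ * (a : G)) • α = α
      rw [mul_smul, h, inv_smul_smul]
    rw [hMss, Subgroup.mem_bot, inv_mul_eq_one] at this
    exact this.symm
  have hMsurj : ∀ v : V, ∃ m : M, (m : G) • α = (v : G)⁻¹ • α := fun v =>
    MulAction.exists_smul_eq M α _
  choose φ hφ using hMsurj
  have hVc : ∀ (v : V) (m : M), (v : G) * m = m * v := fun v m =>
    (Subgroup.mem_centralizer_iff.1 (hcomm V hV hVM v.2) m m.2).symm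
  have hφmul : ∀ a b : V, φ (a * b) = φ a * φ b := fun a b => hMinj _ _ (by
    have hc : (b : G)⁻¹ * (φ a : G) = (φ a : G) * (b : G)⁻¹ := hVc b⁻¹ (φ a)
    calc ((φ (a * b) : M) : G) • α = ((a * b : V) : G)⁻¹ • α := hφ _
      _ = (b : G)⁻¹ • (a : G)⁻¹ • α := by rw [Subgroup.coe_mul, mul_inv_rev, mul_smul]
      _ = (φ a : G) • (φ b : G) • α := by rw [← hφ a, ← mul_smul, hc, mul_smul, ← hφ b]
      _ = _ := by rw [← mul_smul, Subgroup.coe_mul])
  have hφbij : Function.Bijective φ := by
    constructor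
    · intro a b h
      have h' : (a : G)⁻¹ • α = (b : G)⁻¹ • α := by rw [← hφ a, ← hφ b, h]
      have : b * a⁻¹ ∈ MulAction.stabilizer V α := by
        rw [MulAction.mem_stabilizer_iff]
        show ((b : G) * (a : G)⁻¹) • α = α
        rw [mul_smul, h', smul_inv_smul]
      rw [hVss, Subgroup.mem_bot, mul_inv_eq_one] at this
      exact this.symm
    · intro m
      obtain ⟨⟨v, hv⟩, hvα⟩ := MulAction.exists_smul_eq V α ((m : G) • α)
      refine ⟨⟨v, hv⟩⁻¹, hMinj _ _ ?_⟩
      rw [hφ]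
      show ((v : G)⁻¹)⁻¹ • α = _
      rw [inv_inv]
      exact hvα
  let eV : V ≃* M := MulEquiv.mk' (Equiv.ofBijective φ hφbij) hφmul
  have hdisj : M ⊓ V = ⊥ := by
    rw [inf_comm]; exact CfsgLib.PermBasic.inf_eq_bot_of_minimal hVmin hmin hVM
  have hNMV : N = M ⊔ V := by
    rw [hN]
    refine le_antisymm (sSup_le fun W hW => ?_) (sup_le (le_sSup hMmem) (le_sSup hV))
    by_cases hWM : W = M
    · rw [hWM]; exact le_sup_left
    · exact ((hcomm W hW hWM).trans hCV.le).trans le_sup_right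
  let f : M × V →* G :=
    { toFun := fun x => (x.1 : G) * x.2
      map_one' := by simp
      map_mul' := fun x y => by
        show ((x.1 * y.1 : M) : G) * ((x.2 * y.2 : V) : G) = _
        rw [Subgroup.coe_mul, Subgroup.coe_mul, mul_assoc, mul_assoc, ← mul_assoc (y.1 : G),
          ← hVc x.2 y.1, mul_assoc] }
  have hfinj : Function.Injective f := by
    rw [← MonoidHom.ker_eq_bot_iff, Subgroup.eq_bot_iff_forall]
    rintro ⟨⟨m, hm⟩, ⟨v, hv⟩⟩ h
    have h' : m * v = 1 := h
    have : m ∈ M ⊓ V := ⟨hm, by rw [eq_inv_of_mul_eq_one_left h']; exact V.inv_mem hv⟩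
    rw [hdisj, Subgroup.mem_bot] at this
    subst this
    rw [one_mul] at h'
    subst h'
    rfl
  have hfrange : f.range = N := by
    rw [hNMV]
    refine le_antisymm ?_ (sup_le (fun m hm => ⟨(⟨m, hm⟩, 1), by simp [f]⟩)
      (fun v hv => ⟨(1, ⟨v, hv⟩), by simp [f]⟩))
    rintro _ ⟨x, rfl⟩
    exact mul_mem (Subgroup.mem_sup_left x.1.2) (Subgroup.mem_sup_right x.2.2)
  let e1 : N ≃* M × V := ((MonoidHom.ofInjective hfinj).trans (MulEquiv.subgroupCongr hfrange)).symm
  let em := e.trans eι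
  let e2 : N ≃* (Fin (Fintype.card ι) → S) × (Fin (Fintype.card ι) → S) :=
    e1.trans (MulEquiv.prodCongr em (eV.trans em))
  let e3 : (Fin (Fintype.card ι) → S) × (Fin (Fintype.card ι) → S) ≃*
      (Fin (Fintype.card ι + Fintype.card ι) → S) :=
    { toEquiv := (Equiv.sumArrowEquivProdArrow _ _ _).symm.trans
        (Equiv.arrowCongr finSumFinEquiv (Equiv.refl S))
      map_mul' := fun x y => by
        funext i
        show Sum.elim (x.1 * y.1) (x.2 * y.2) (finSumFinEquiv.symm i) =
          Sum.elim x.1 x.2 (finSumFinEquiv.symm i) * Sum.elim y.1 y.2 (finSumFinEquiv.symm i)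
        cases finSumFinEquiv.symm i <;> rfl }
  exact ⟨S, hS, _, by have := Fintype.card_pos (α := ι); omega, hsimple, hna, ⟨e2.trans e3⟩⟩

end Cfsg.Agent.S3680
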