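import Cfsg.Statements.S3683

set_option autoImplicit false
open Cfsg

namespace Cfsg.Agent.S3683

/-- Let a finite group G act faithfully and primitively on a set Ω, and suppose the stabilizer of a point a fixes a second point b ≠ a (a suborbit of length 1 other than {a}). Then the stabilizer of a is trivial and G is cyclic of prime order. -/
theorem result {G Ω : Type*} [Group G] [Finite G] [MulAction G Ω] [FaithfulSMul G Ω] [Finite Ω]
    (hprim : MulAction.IsPreprimitive G Ω) (a b : Ω) (hab : a ≠ b) (hfix : ∀ g : G, g • a = a → g • b = b) :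
    MulAction.stabilizer G a = ⊥ ∧ IsCyclic G ∧ (Nat.card G).Prime := by
  haveI := hprim
  haveI : Nontrivial Ω := ⟨a, b, hab⟩
  have hco : IsCoatom (MulAction.stabilizer G a) := MulAction.IsPreprimitive.isCoatom_stabilizer_of_isPreprimitive (G := G) (X := Ω) a
  have hne : MulAction.stabilizer G b ≠ ⊤ := by
    intro h
    obtain ⟨g, hg⟩ := MulAction.exists_smul_eq G b a
    exact hab (hg ▸ (h ▸ Subgroup.mem_top g : g ∈ MulAction.stabilizer G b))
  have heq : MulAction.stabilizer G b = MulAction.stabilizer G a :=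
    (hco.le_iff.1 (show MulAction.stabilizer G a ≤ _ from fun g hg => hfix g hg)).resolve_left hne
  obtain ⟨g, hg⟩ := MulAction.exists_smul_eq G a b
  have hN : Subgroup.normalizer (MulAction.stabilizer G a : Set G) = ⊤ := by
    refine (hco.le_iff.1 Subgroup.le_normalizer).resolve_right fun h => hab ?_
    have hgN : g ∈ Subgroup.normalizer (MulAction.stabilizer G a : Set G) := by
      rw [Subgroup.mem_normalizer_iff]
      intro x
      constructor
      · intro hx
        have hx' : x • a = a := hx
        show _ ∈ MulAction.stabilizer G a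
        rw [← heq, MulAction.mem_stabilizer_iff, mul_smul, mul_smul, ← hg, inv_smul_smul, hx', hg]
      · intro hx
        have h1 : g * x * g⁻¹ ∈ MulAction.stabilizer G b := heq.symm ▸ hx
        rw [MulAction.mem_stabilizer_iff, mul_smul, mul_smul, ← hg, inv_smul_smul, smul_left_cancel_iff] at h1
        exact h1
    rw [h] at hgN
    rw [← hg, hgN]
  haveI : (MulAction.stabilizer G a).Normal := Subgroup.normalizer_eq_top_iff.1 hN
  have hbot : MulAction.stabilizer G a = ⊥ := by
    rw [eq_bot_iff]
    intro x hx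
    refine Subgroup.mem_bot.2 (eq_of_smul_eq_smul (α := Ω) fun y => ?_)
    obtain ⟨h, rfl⟩ := MulAction.exists_smul_eq G a y
    have h1 : h⁻¹ * x * h ∈ MulAction.stabilizer G a := by
      simpa using Subgroup.Normal.conj_mem inferInstance x hx h⁻¹
    rw [MulAction.mem_stabilizer_iff, mul_smul, mul_smul, inv_smul_eq_iff] at h1
    rw [one_smul, h1]
  rw [hbot] at hco
  haveI : Nontrivial G := by
    by_contra h
    rw [not_nontrivial_iff_subsingleton] at h
    exact hco.1 (Subsingleton.elim _ _)
  have hgen : ∀ x : G, x ≠ 1 → Subgroup.zpowers x = ⊤ := fun x hx =>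
    (hco.le_iff.1 bot_le).resolve_right (fun h => hx (Subgroup.zpowers_eq_bot.1 h))
  obtain ⟨x, hx⟩ := exists_ne (1 : G)
  refine ⟨hbot, ⟨⟨x, (Subgroup.eq_top_iff' _).1 (hgen x hx)⟩⟩, ?_⟩
  obtain ⟨p, hp, hpd⟩ := Nat.exists_prime_and_dvd (Finite.one_lt_card (α := G)).ne'
  haveI : Fact p.Prime := ⟨hp⟩
  obtain ⟨y, hy⟩ := exists_prime_orderOf_dvd_card' p hpd
  have hy1 : y ≠ 1 := fun e => hp.one_lt.ne (by rw [← hy, e, orderOf_one])
  rw [← Subgroup.card_top, ← hgen y hy1, Nat.card_zpowers, hy]
  exact hp

end Cfsg.Agent.S3683
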