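import Cfsg.Statements.S3684
import Cfsg.Agent.Suborbit.Dihedral
import Cfsg.Agent.Perm.Basic

set_option autoImplicit false
open Cfsg

namespace Cfsg.Agent.S3684

/-- Let a finite group G act faithfully and primitively on a set Ω, and suppose the stabilizer of a point a has an orbit of length 2. Then the stabilizer of a has order 2 and G is isomorphic to the dihedral group of order 2p for some prime p. -/
theorem result {G Ω : Type*} [Group G] [Finite G] [MulAction G Ω] [FaithfulSMul G Ω] [Finite Ω]
    (hprim : MulAction.IsPreprimitive G Ω) (a b : Ω) (h2 : Nat.card (MulAction.orbit (MulAction.stabilizer G a) b) = 2) :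
    Nat.card (MulAction.stabilizer G a) = 2 ∧ ∃ p : ℕ, p.Prime ∧ Nonempty (G ≃* DihedralGroup p) := by
  haveI := hprim
  have hab : a ≠ b := by
    rintro rfl
    have h1 : MulAction.orbit ↥(MulAction.stabilizer G a) a = {a} := by
      ext x
      constructor
      · rintro ⟨m, rfl⟩; exact m.2
      · rintro rfl; exact MulAction.mem_orbit_self _
    rw [h1, Nat.card_coe_set_eq, Set.ncard_singleton] at h2
    omega
  haveI : Nontrivial Ω := ⟨a, b, hab⟩
  set A := MulAction.stabilizer G a
  set B := MulAction.stabilizer G b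
  have hca : IsCoatom A := MulAction.IsPreprimitive.isCoatom_stabilizer_of_isPreprimitive (G := G) (X := Ω) a
  have hcb : IsCoatom B := MulAction.IsPreprimitive.isCoatom_stabilizer_of_isPreprimitive (G := G) (X := Ω) b
  have hi : (B.subgroupOf A).index = 2 := by
    have : MulAction.stabilizer ↥A b = B.subgroupOf A := rfl
    rw [← this, MulAction.index_stabilizer, ← Nat.card_coe_set_eq]
    exact h2
  have hAB : ¬ A ≤ B := fun h => by
    rw [Subgroup.subgroupOf_eq_top.2 h, Subgroup.index_top] at hi; omega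
  obtain ⟨g, hg⟩ := MulAction.exists_smul_eq G a b
  have hcard : Nat.card B = Nat.card A := by
    rw [show B = A.map (MulAut.conj g).toMonoidHom from by
      show MulAction.stabilizer G b = _
      rw [← hg, MulAction.stabilizer_smul_eq_stabilizer_map_conj]]
    exact Nat.card_congr (Subgroup.equivMapOfInjective A _ (MulAut.conj g).injective).toEquiv.symm
  set K := A ⊓ B with hK
  have hKA : Nat.card K * 2 = Nat.card A := by
    have := Subgroup.card_mul_index (B.subgroupOf A)
    rw [hi, ← Nat.card_congr (Subgroup.subgroupOfEquivOfLe (inf_le_left : K ≤ A)).toEquiv,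
      Subgroup.inf_subgroupOf_left] at *
    exact this
  have hKB : (A.subgroupOf B).index = 2 := by
    have := Subgroup.card_mul_index (A.subgroupOf B)
    rw [show Nat.card (A.subgroupOf B) = Nat.card K from by
      rw [← Subgroup.inf_subgroupOf_right,
        Nat.card_congr (Subgroup.subgroupOfEquivOfLe (inf_le_right : A ⊓ B ≤ B)).toEquiv],
      hcard, ← hKA] at this
    exact Nat.eq_of_mul_eq_mul_left Nat.card_pos this
  haveI nA : (B.subgroupOf A).Normal := Subgroup.normal_of_index_eq_two hi
  haveI nB : (A.subgroupOf B).Normal := Subgroup.normal_of_index_eq_two hKB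
  have hKn : K.Normal := by
    rw [← Subgroup.normalizer_eq_top_iff, eq_top_iff]
    have hA' : A ≤ Subgroup.normalizer (K : Set G) := by
      have := Subgroup.le_normalizer_of_normal_subgroupOf (H := K) (K := A)
        (hK := by rw [Subgroup.inf_subgroupOf_left]; exact nA) inf_le_left
      exact this
    have hB' : B ≤ Subgroup.normalizer (K : Set G) := by
      have := Subgroup.le_normalizer_of_normal_subgroupOf (H := K) (K := B)
        (hK := by rw [Subgroup.inf_subgroupOf_right]; exact nB) inf_le_right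
      exact this
    have hsup : A ⊔ B = ⊤ := hca.2 _ (lt_of_le_not_ge le_sup_left fun h => by
      have hBA : B ≤ A := le_sup_right.trans h
      rcases hcb.le_iff.1 hBA with h' | h'
      · exact hca.1 h'
      · exact hAB h'.le)
    exact hsup ▸ sup_le hA' hB'
  have hK1 : K = ⊥ := by
    by_contra hne
    haveI := hKn
    haveI := CfsgLib.PermBasic.isPretransitive_of_normal (α := Ω) K hne
    obtain ⟨k, hk⟩ := MulAction.exists_smul_eq ↥K a b
    exact hab ((show (k : G) • a = a from k.2.1).symm.trans hk)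
  rw [hK1, Subgroup.card_bot, one_mul] at hKA
  refine ⟨hKA.symm, ?_⟩
  obtain ⟨s, hs⟩ := exists_prime_orderOf_dvd_card' (G := A) 2 (by rw [← hKA])
  obtain ⟨t, ht⟩ := exists_prime_orderOf_dvd_card' (G := B) 2 (by rw [hcard, ← hKA])
  have hs2 : (s : G) * s = 1 := by
    rw [← sq, ← orderOf_dvd_iff_pow_eq_one, Subgroup.orderOf_coe, hs]
  have ht2 : (t : G) * t = 1 := by
    rw [← sq, ← orderOf_dvd_iff_pow_eq_one, Subgroup.orderOf_coe, ht]
  have hs1 : (s : G) ≠ 1 := fun e => by
    rw [show s = 1 from Subtype.ext e, orderOf_one] at hs; omega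
  have ht1 : (t : G) ≠ 1 := fun e => by
    rw [show t = 1 from Subtype.ext e, orderOf_one] at ht; omega
  have hne : (s : G) ≠ t := fun e => hs1 (Subgroup.mem_bot.1 (hK1 ▸ (⟨s.2, e ▸ t.2⟩ : (s : G) ∈ A ⊓ B)))
  set R := Subgroup.zpowers ((s : G) * t) with hR
  have hsi : (s : G)⁻¹ = s := inv_eq_of_mul_eq_one_right hs2
  have hti : (t : G)⁻¹ = t := inv_eq_of_mul_eq_one_right ht2
  have hzs : Subgroup.zpowers (s : G) = A := Subgroup.eq_of_le_of_card_ge
    (Subgroup.zpowers_le.2 s.2) (by rw [Nat.card_zpowers, Subgroup.orderOf_coe, hs, hKA])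
  have hzt : Subgroup.zpowers (t : G) = B := Subgroup.eq_of_le_of_card_ge
    (Subgroup.zpowers_le.2 t.2) (by rw [Nat.card_zpowers, Subgroup.orderOf_coe, ht, hcard, hKA])
  have inv_s : (s : G) * ((s : G) * t) * s = ((s : G) * t)⁻¹ := by
    rw [mul_inv_rev, hsi, hti, ← mul_assoc, hs2, one_mul]
  have inv_t : (t : G) * ((s : G) * t) * t = ((s : G) * t)⁻¹ := by
    rw [mul_inv_rev, hsi, hti, mul_assoc, mul_assoc (s : G), ht2, mul_one]
  have hgenG : ∀ H : Subgroup G, (s : G) ∈ H → (t : G) ∈ H → H = ⊤ := by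
    intro H h1 h2'
    have hsup : A ≤ H := hzs ▸ Subgroup.zpowers_le.2 h1
    rcases hca.le_iff.1 hsup with h | h
    · exact h
    · exfalso
      exact ht1 (Subgroup.mem_bot.1 (hK1 ▸ (⟨h ▸ h2', t.2⟩ : (t : G) ∈ A ⊓ B)))
  -- every subgroup of `R` is normal
  have hnorm : ∀ S : Subgroup G, S ≤ R → S.Normal := by
    intro S hS
    rw [← Subgroup.normalizer_eq_top_iff]
    have hinvl : ∀ u : G, u * u = 1 → u * ((s : G) * t) * u = ((s : G) * t)⁻¹ →
        u ∈ Subgroup.normalizer (S : Set G) := by
      intro u hu2 hu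
      have hui : u⁻¹ = u := inv_eq_of_mul_eq_one_right hu2
      have hact : ∀ x ∈ R, u * x * u⁻¹ = x⁻¹ := by
        intro x hx
        obtain ⟨k, rfl⟩ := hx
        show u * _ ^ k * u⁻¹ = (_ ^ k)⁻¹
        rw [← conj_zpow, hui, hu, inv_zpow]
      rw [Subgroup.mem_normalizer_iff]
      intro x
      constructor
      · intro hx
        show u * x * u⁻¹ ∈ S
        rw [hact x (hS hx)]; exact inv_mem hx
      · intro hx
        have := hact _ (hS hx)
        rw [hui] at this hx
        have e : u * (u * x * u) * u = x := by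
          calc u * (u * x * u) * u = (u * u) * x * (u * u) := by group
            _ = x := by rw [hu2, one_mul, mul_one]
        rw [e] at this
        exact this ▸ inv_mem hx
    exact hgenG _ (hinvl _ hs2 inv_s) (hinvl _ ht2 inv_t)
  haveI := hnorm R le_rfl
  have hst : (s : G) * t ≠ 1 := fun e => hne (by rw [← hti]; exact eq_inv_of_mul_eq_one_left e)
  obtain ⟨p, hp, hpd⟩ := Nat.exists_prime_and_dvd (fun h => hst (orderOf_eq_one_iff.1 h))
  haveI : Fact p.Prime := ⟨hp⟩
  obtain ⟨x, hx⟩ := exists_prime_orderOf_dvd_card' (G := R) p (by rwa [Nat.card_zpowers])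
  have hX : Subgroup.zpowers (x : G) ≤ R := Subgroup.zpowers_le.2 x.2
  haveI := hnorm _ hX
  have hXne : Subgroup.zpowers (x : G) ≠ ⊥ := fun h => hp.one_lt.ne (by
    rw [← hx, ← Subgroup.orderOf_coe, Subgroup.zpowers_eq_bot.1 h, orderOf_one])
  haveI := CfsgLib.PermBasic.isPretransitive_of_normal (α := Ω) _ hXne
  have hdvd : Nat.card Ω ∣ p := by
    have := (MulAction.index_stabilizer_of_transitive ↥(Subgroup.zpowers (x : G)) a)
    rw [← this]
    refine (Subgroup.index_dvd_card _).trans ?_
    rw [Nat.card_zpowers, Subgroup.orderOf_coe, hx]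
  have hn : Nat.card Ω = p := ((Nat.dvd_prime hp).1 hdvd).resolve_left (Finite.one_lt_card.ne')
  have hG : Nat.card G = 2 * p := by
    rw [← Subgroup.card_mul_index A, MulAction.index_stabilizer_of_transitive, ← hKA, hn]
  have hRcard : orderOf ((s : G) * t) = p := by
    have h1 : Nat.card R ∣ 2 * p := hG ▸ Subgroup.card_subgroup_dvd_card R
    rw [Nat.card_zpowers] at h1
    obtain ⟨c, hc⟩ := hpd
    rw [hc, mul_comm 2 p] at h1
    rcases (Nat.dvd_prime Nat.prime_two).1 (Nat.dvd_of_mul_dvd_mul_left hp.pos h1) with h | h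
    · rw [hc, h, mul_one]
    · exfalso
      have hRtop : R = ⊤ := Subgroup.eq_top_of_card_eq R (by rw [Nat.card_zpowers, hc, h, hG, mul_comm])
      have hsA : A.Normal := hnorm A (hRtop ▸ le_top)
      haveI := CfsgLib.PermBasic.isPretransitive_of_normal (α := Ω) A
        (fun e => hs1 (Subgroup.mem_bot.1 (e ▸ s.2)))
      obtain ⟨k, hk⟩ := MulAction.exists_smul_eq ↥A a b
      exact hab (k.2.symm.trans hk)
  refine ⟨p, hp, CfsgLib.Suborbit.dihedral_of_inverts p ((s : G) * t) s hG hRcard hs2 ?_ inv_s⟩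
  intro hmem
  have : (t : G) ∈ R := by
    have h' := mul_mem hmem (Subgroup.mem_zpowers ((s : G) * t))
    rwa [← mul_assoc, hs2, one_mul] at h'
  have hRtop : R = ⊤ := hgenG R hmem this
  have := congrArg (fun H : Subgroup G => Nat.card H) hRtop
  simp only [R, Nat.card_zpowers, Subgroup.card_top, hRcard, hG] at this
  have := hp.pos
  omega

end Cfsg.Agent.S3684
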