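import Cfsg.Statements.S3685
import Cfsg.Agent.SimsThree.Apply

set_option autoImplicit false
open Cfsg CfsgLib.ThompsonWielandt CfsgLib.SimsThree

namespace Cfsg.Agent.S3685

/-- Let a finite group G act faithfully and primitively on a set Ω, and suppose the stabilizer of a point a has an orbit of length 3. Then the stabilizer of a is isomorphic to one of: the cyclic group of order 3, the symmetric group of degree 3, the dihedral group of order 12, the symmetric group of degree 4, or the direct product of the symmetric group of degree 4 with a group of order 2. -/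
theorem result {G Ω : Type*} [Group G] [Finite G] [MulAction G Ω] [FaithfulSMul G Ω] [Finite Ω]
    (hprim : MulAction.IsPreprimitive G Ω) (a b : Ω) (h3 : Nat.card (MulAction.orbit (MulAction.stabilizer G a) b) = 3) :
    Nonempty (MulAction.stabilizer G a ≃* Multiplicative (ZMod 3)) ∨ Nonempty (MulAction.stabilizer G a ≃* Equiv.Perm (Fin 3)) ∨
      Nonempty (MulAction.stabilizer G a ≃* DihedralGroup 6) ∨ Nonempty (MulAction.stabilizer G a ≃* Equiv.Perm (Fin 4)) ∨
      Nonempty (MulAction.stabilizer G a ≃* Equiv.Perm (Fin 4) × Multiplicative (ZMod 2)) := by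
  obtain ⟨n, hn, -, t0, t1, t2, t3, t4⟩ :=
    exists_length (adj_of_primitive hprim a b 3 h3 (by norm_num))
  rcases (show n = 0 ∨ n = 1 ∨ n = 2 ∨ n = 3 ∨ n = 4 by omega) with h | h | h | h | h
  · exact Or.inl (t0 h)
  · exact Or.inr (Or.inl (t1 h))
  · exact Or.inr (Or.inr (Or.inl (t2 h)))
  · exact Or.inr (Or.inr (Or.inr (Or.inl (t3 h))))
  · exact Or.inr (Or.inr (Or.inr (Or.inr (t4 h))))

end Cfsg.Agent.S3685
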