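import Cfsg.Statements.S3696
import Mathlib.Analysis.MeanInequalities
import Mathlib.GroupTheory.PGroup
import Mathlib.Algebra.BigOperators.Pi

set_option autoImplicit false
open Cfsg

namespace Cfsg.Agent.S3696

/-- Let p be a prime, Ω a finite set with n ≥ p elements, and A an abelian p-subgroup of the symmetric group on Ω whose elements of order dividing p number p^k (so k is the rank of A). Then |A| · k^k ≤ n^k, that is, |A| ≤ (n/k)^k. -/
theorem result {Ω : Type*} [Fintype Ω] [DecidableEq Ω]
    (p : ℕ) (hp : p.Prime) (hn : p ≤ Fintype.card Ω) (A : Subgroup (Equiv.Perm Ω)) (hA : IsPGroup p A) (hab : IsMulCommutative A)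
    (k : ℕ) (hk : Nat.card {x : A // x ^ p = 1} = p ^ k) :
    Nat.card A * k ^ k ≤ Fintype.card Ω ^ k := by
  classical
  haveI := Fact.mk hp
  have hp2 := hp.two_le
  have hcomm : ∀ a b : A, a * b = b * a := fun a b => hab.is_comm.comm a b
  let E : Subgroup A :=
    { carrier := {x | x ^ p = 1}
      one_mem' := one_pow p
      mul_mem' := fun {a b} ha hb => by
        show (a * b) ^ p = 1
        rw [(show Commute a b from hcomm a b).mul_pow, ha, hb, one_mul]
      inv_mem' := fun {a} ha => by show a⁻¹ ^ p = 1; rw [inv_pow, ha, inv_one] }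
  have hE : Nat.card E = p ^ k := hk
  -- separating points
  have hsep : ∀ j : ℕ, ∀ D : Subgroup A, D ≤ E → Nat.card D = p ^ j →
      ∃ s : Finset Ω, s.card ≤ j ∧ (∀ d ∈ D, (∀ w ∈ s, d • w = w) → d = 1) ∧
        (∀ w ∈ s, ∃ d ∈ D, d • w ≠ w) ∧
        Set.InjOn (fun w => MulAction.orbit A w) (s : Set Ω) := by
    intro j
    induction j using Nat.strong_induction_on with
    | h j ih =>
      intro D hD hDc
      by_cases hD1 : ∀ d ∈ D, d = 1
      · exact ⟨∅, by simp, fun d hd _ => hD1 d hd, by simp, by simp⟩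
      push Not at hD1
      obtain ⟨d, hd, hd1⟩ := hD1
      obtain ⟨ω, hω⟩ : ∃ ω : Ω, d • ω ≠ ω := by
        by_contra h
        push Not at h
        exact hd1 (eq_of_smul_eq_smul (α := Ω) fun y => by rw [h y, one_smul])
      set D' := D ⊓ MulAction.stabilizer A ω
      have hlt : D' < D := lt_of_le_of_ne inf_le_left fun e => hω (show d ∈ D' from e.symm ▸ hd).2
      obtain ⟨i, -, hi⟩ := (Nat.dvd_prime_pow hp).1 (hDc ▸ Subgroup.card_dvd_of_le (inf_le_left : D' ≤ D))
      have hij : i < j := by
        refine (Nat.pow_lt_pow_iff_right hp.one_lt).1 ?_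
        rw [← hi, ← hDc]
        refine lt_of_le_of_ne (Nat.le_of_dvd Nat.card_pos (Subgroup.card_dvd_of_le hlt.le)) fun e => ?_
        exact hlt.ne (Subgroup.eq_of_le_of_card_ge hlt.le e.ge)
      obtain ⟨s, hs, hs1, hs2, hs3⟩ := ih i hij D' (hlt.le.trans hD) hi
      have hfix : ∀ w ∈ MulAction.orbit A ω, ∀ c ∈ D', c • w = w := by
        rintro _ ⟨a, rfl⟩ c hc
        show c • a • ω = a • ω
        rw [← mul_smul, hcomm, mul_smul, MulAction.mem_stabilizer_iff.1 hc.2]
      refine ⟨insert ω s, (Finset.card_insert_le _ _).trans (by omega), fun c hc hcs => ?_,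
        fun w hw => ?_, ?_⟩
      · exact hs1 c ⟨hc, hcs ω (Finset.mem_insert_self _ _)⟩ fun w hw => hcs w (Finset.mem_insert_of_mem hw)
      · rcases Finset.mem_insert.1 hw with rfl | hw
        · exact ⟨d, hd, hω⟩
        · obtain ⟨c, hc, hcw⟩ := hs2 w hw
          exact ⟨c, hc.1, hcw⟩
      · intro u hu v hv huv
        have key : ∀ w ∈ s, MulAction.orbit A w ≠ MulAction.orbit A ω := fun w hw e => by
          obtain ⟨c, hc, hcw⟩ := hs2 w hw
          exact hcw (hfix w (e ▸ MulAction.mem_orbit_self w) c hc)
        rw [Finset.mem_coe, Finset.mem_insert] at hu hv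
        rcases hu with hu | hu <;> rcases hv with hv | hv
        · rw [hu, hv]
        · rw [hu] at huv; exact absurd huv.symm (key v hv)
        · rw [hv] at huv; exact absurd huv (key u hu)
        · exact hs3 hu hv huv
  obtain ⟨s, hs, hs1, -, hs3⟩ := hsep k E le_rfl hE
  -- the group embeds in the product of the orbits
  let f : A → ((w : s) → MulAction.orbit A (w : Ω)) := fun a w => ⟨a • (w : Ω), MulAction.mem_orbit _ a⟩
  have hf : Function.Injective f := by
    intro a b hfab
    set K : Subgroup A := fixingSubgroup A (s : Set Ω)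
    have hmem : b⁻¹ * a ∈ K := (mem_fixingSubgroup_iff A).2 fun w hw => by
      have : a • w = b • w := congrArg Subtype.val (congrFun hfab ⟨w, hw⟩)
      rw [mul_smul, this, inv_smul_smul]
    by_contra hne
    have hK : Nontrivial K := ⟨⟨⟨_, hmem⟩, 1, fun e => hne (inv_mul_eq_one.1 (congrArg Subtype.val e)).symm⟩⟩
    obtain ⟨t, ht0, ht⟩ := (hA.to_subgroup K).nontrivial_iff_card.1 hK
    obtain ⟨c, hc⟩ := exists_prime_orderOf_dvd_card' p (ht ▸ dvd_pow_self p (by omega) : p ∣ Nat.card K)
    have hco : orderOf (c : A) = p := by rw [Subgroup.orderOf_coe, hc]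
    have hcE : (c : A) ∈ E := by
      show (c : A) ^ p = 1
      rw [← hco]; exact pow_orderOf_eq_one _
    have := hs1 c hcE fun w hw => (mem_fixingSubgroup_iff A).1 c.2 w hw
    rw [this, orderOf_one] at hco
    exact hp.ne_one hco.symm
  choose ev hev using fun w : s => hA.card_orbit (w : Ω)
  set T := ∑ w, ev w
  have hAc : Nat.card A ≤ p ^ T := by
    refine (Nat.card_le_card_of_injective f hf).trans (le_of_eq ?_)
    rw [Nat.card_pi, Finset.prod_congr rfl fun w _ => hev w, Finset.prod_pow_eq_pow_sum]
  have hsumn : ∑ w, p ^ ev w ≤ Fintype.card Ω := by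
    have h1 : ∑ w : s, p ^ ev w = ((Finset.univ : Finset s).biUnion
        fun w => (MulAction.orbit A (w : Ω)).toFinset).card := by
      rw [Finset.card_biUnion]
      · refine Finset.sum_congr rfl fun w _ => ?_
        rw [← hev w, Nat.card_eq_card_toFinset]
      · intro u _ v _ huv
        rw [Function.onFun, Finset.disjoint_left]
        intro y hy hy'
        rw [Set.mem_toFinset] at hy hy'
        refine huv (Subtype.ext (hs3 u.2 v.2 ?_))
        exact ((MulAction.orbit_eq_iff.2 hy).symm.trans (MulAction.orbit_eq_iff.2 hy') :)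
    rw [h1]
    exact Finset.card_le_univ _
  have hkT : k ≤ T := by
    have : p ^ k ≤ p ^ T := by
      rw [← hE]
      exact (Nat.le_of_dvd Nat.card_pos E.card_subgroup_dvd_card).trans hAc
    exact (Nat.pow_le_pow_iff_right hp.one_lt).1 this
  -- split into exactly `k` parts of size at least `p`
  let cost : ℕ → ℕ := fun e => if e = 0 then 0 else p ^ e
  have hsplit : ∀ z : ℕ, ∀ e : Fin k → ℕ, (Finset.univ.filter fun i => e i = 0).card = z → k ≤ ∑ i, e i →
      ∃ e' : Fin k → ℕ, (∀ i, e' i ≠ 0) ∧ ∑ i, e' i = ∑ i, e i ∧ ∑ i, cost (e' i) ≤ ∑ i, cost (e i) := by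
    intro z
    induction z with
    | zero =>
      intro e he _
      refine ⟨e, fun i hi => ?_, rfl, le_rfl⟩
      have : i ∈ Finset.univ.filter fun i => e i = 0 := Finset.mem_filter.2 ⟨Finset.mem_univ i, hi⟩
      rw [Finset.card_eq_zero.1 he] at this
      exact Finset.notMem_empty i this
    | succ z ih =>
      intro e he hsum
      obtain ⟨i, hi⟩ := Finset.card_pos.1 (show 0 < (Finset.univ.filter fun i => e i = 0).card by omega)
      have hi0 := (Finset.mem_filter.1 hi).2
      obtain ⟨j, hj⟩ : ∃ j, 2 ≤ e j := by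
        by_contra h
        push Not at h
        have h1 : ∑ l, e l < ∑ _l : Fin k, 1 := Finset.sum_lt_sum (fun l _ => by have := h l; omega)
          ⟨i, Finset.mem_univ i, by omega⟩
        simp at h1
        omega
      have hij : i ≠ j := fun e' => by rw [e'] at hi0; omega
      set e2 := Function.update (Function.update e i 1) j (e j - 1) with he2
      have h2i : e2 i = 1 := by rw [he2, Function.update_of_ne hij, Function.update_self]
      have h2j : e2 j = e j - 1 := by rw [he2, Function.update_self]
      have h2l : ∀ l, l ≠ i → l ≠ j → e2 l = e l := fun l a b => by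
        rw [he2, Function.update_of_ne b, Function.update_of_ne a]
      have hsumF : ∀ F : ℕ → ℕ, ∑ l, F (e2 l) + (F (e i) + F (e j)) = ∑ l, F (e l) + (F 1 + F (e j - 1)) := by
        intro F
        have hd : ({i, j} : Finset (Fin k)) ⊆ Finset.univ := Finset.subset_univ _
        rw [← Finset.sum_sdiff hd, ← Finset.sum_sdiff hd (f := fun l => F (e l)),
          Finset.sum_pair hij, Finset.sum_pair hij, h2i, h2j,
          Finset.sum_congr rfl (g := fun l => F (e l)) fun l hl => by
            simp only [Finset.mem_sdiff, Finset.mem_insert, Finset.mem_singleton, not_or] at hl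
            rw [h2l l hl.2.1 hl.2.2]]
        omega
      have hs1' := hsumF id
      simp only [id] at hs1'
      obtain ⟨e', he', hsum', hcost⟩ := ih e2 (by
        have : (Finset.univ.filter fun l => e2 l = 0) = (Finset.univ.filter fun l => e l = 0).erase i := by
          ext l
          simp only [Finset.mem_filter, Finset.mem_univ, true_and, Finset.mem_erase]
          by_cases hli : l = i
          · subst hli; rw [h2i]; simp
          by_cases hlj : l = j
          · subst hlj; rw [h2j]; omega
          · rw [h2l l hli hlj]; simp [hli]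
        rw [this, Finset.card_erase_of_mem hi]; omega) (by omega)
      refine ⟨e', he', by omega, hcost.trans ?_⟩
      have hc := hsumF cost
      have h3 : cost 1 + cost (e j - 1) ≤ cost (e j) := by
        simp only [cost, if_neg one_ne_zero, if_neg (show e j - 1 ≠ 0 by omega), if_neg (show e j ≠ 0 by omega)]
        have e1 : p ^ e j = p ^ (e j - 1) * p := by rw [← pow_succ, Nat.sub_add_cancel (by omega : 1 ≤ e j)]
        have e2' : p ^ 1 ≤ p ^ (e j - 1) := Nat.pow_le_pow_right hp.pos (by omega)
        have := Nat.mul_le_mul_left (p ^ (e j - 1)) hp2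
        omega
      omega
  obtain ⟨emb⟩ : Nonempty (s ↪ Fin k) :=
    Function.Embedding.nonempty_of_card_le (by simpa using hs)
  let e0 : Fin k → ℕ := Function.extend emb ev 0
  have hext : ∀ F : ℕ → ℕ, F 0 = 0 → ∑ i, F (e0 i) = ∑ w, F (ev w) := by
    intro F hF
    rw [← Finset.sum_subset (s₁ := Finset.univ.map emb) (Finset.subset_univ _) (fun i _ hi => by
      simp only [e0]
      rw [Function.extend_apply' _ _ _ (fun ⟨w, hw⟩ => hi (Finset.mem_map.2 ⟨w, Finset.mem_univ w, hw⟩))]
      exact hF), Finset.sum_map]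
    exact Finset.sum_congr rfl fun w _ => by simp only [e0, emb.injective.extend_apply]
  obtain ⟨e', he', hT, hcost⟩ := hsplit _ e0 rfl ((show ∑ i, e0 i = T from hext id rfl).symm ▸ hkT)
  have hTe : ∑ i, e' i = T := hT.trans (show ∑ i, e0 i = T from hext id rfl)
  have hsum' : ∑ i, p ^ e' i ≤ Fintype.card Ω := by
    have h1 : ∑ i, p ^ e' i = ∑ i, cost (e' i) := Finset.sum_congr rfl fun i _ => by simp [cost, he' i]
    rw [h1]
    refine hcost.trans ((hext cost rfl).le.trans ((Finset.sum_le_sum fun w _ => ?_).trans hsumn))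
    by_cases h : ev w = 0 <;> simp [cost, h]
  rcases Nat.eq_zero_or_pos k with hk0 | hk0
  · have : Subsingleton (Fin k) := by rw [hk0]; infer_instance
    have hT0 : T = 0 := by
      rw [← hTe]; exact Finset.sum_eq_zero fun i _ => (i.cast hk0).elim0
    subst hk0
    rw [hT0, pow_zero] at hAc
    simpa using hAc
  calc Nat.card A * k ^ k ≤ p ^ T * k ^ k := Nat.mul_le_mul_right _ hAc
    _ ≤ (∑ i, p ^ e' i) ^ k := by
      rw [← hTe, ← Finset.prod_pow_eq_pow_sum]
      have h := Real.geom_mean_le_arith_mean (Finset.univ : Finset (Fin k)) (fun _ => (1 : ℝ))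
        (fun i => ((p ^ e' i : ℕ) : ℝ)) (fun _ _ => zero_le_one)
        (by simp; exact_mod_cast hk0) (fun _ _ => Nat.cast_nonneg _)
      simp only [Real.rpow_one, one_mul, Finset.sum_const, Finset.card_univ, Fintype.card_fin,
        nsmul_eq_mul, mul_one] at h
      have hP : (0 : ℝ) ≤ ∏ i, ((p ^ e' i : ℕ) : ℝ) := Finset.prod_nonneg fun _ _ => Nat.cast_nonneg _
      have h2 := pow_le_pow_left₀ (Real.rpow_nonneg hP _) h k
      rw [Real.rpow_inv_natCast_pow hP hk0.ne', div_pow, le_div_iff₀ (by positivity)] at h2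
      exact_mod_cast h2
    _ ≤ Fintype.card Ω ^ k := Nat.pow_le_pow_left hsum' k

end Cfsg.Agent.S3696
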