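import Cfsg.Statements.S3701
import Cfsg.Agent.ThreeCubed.Coherence
import Cfsg.Agent.Signalizer.Basic

set_option autoImplicit false
open Cfsg

namespace Cfsg.Agent.S3701


open CfsgLib.ThreeCubed in
/-- The model group as permutations of nine points. -/
def emb : M →* Equiv.Perm (Fin 9) :=
  MonoidHom.mk' (fun k => finProdFinEquiv.permCongr (Equiv.prodCongrRight fun i => comp i k))
    fun a b => Equiv.ext fun x => by simp [Equiv.permCongr_apply]; rfl

open CfsgLib.ThreeCubed in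
theorem emb_injective : Function.Injective emb := by
  intro a b h
  refine Subtype.ext ?_
  have key : ∀ i y, comp i a y = comp i b y := fun i y => by
    have := congrArg (fun σ : Equiv.Perm (Fin 9) => σ (finProdFinEquiv (i, y))) h
    simp [emb, Equiv.permCongr_apply] at this
    exact this
  exact Prod.ext (Equiv.ext (key 0)) (Prod.ext (Equiv.ext (key 1)) (Equiv.ext (key 2)))

open CfsgLib.ThreeCubed in
/-- Rotations in the three coordinates. -/
def rot (a b c : Fin 3) : M :=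
  (⟨(Equiv.swap 0 1 * Equiv.swap 1 2, 1, 1), by decide⟩ : M) ^ (a : ℕ) *
  (⟨(1, Equiv.swap 0 1 * Equiv.swap 1 2, 1), by decide⟩ : M) ^ (b : ℕ) *
  (⟨(1, 1, Equiv.swap 0 1 * Equiv.swap 1 2), by decide⟩ : M) ^ (c : ℕ)

set_option synthInstance.maxSize 4000 in
open CfsgLib.ThreeCubed in
theorem rot_cosets : ∀ k : M, ∃ a b c : Fin 3,
    k = rot a b c ∨ k = rot a b c * s3 ∨ k = rot a b c * s2 ∨ k = rot a b c * s3 * s2 := by
  decide +kernel

open CfsgLib.ThreeCubed in
theorem gen_values :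
    emb ⟨(Equiv.swap 0 1 * Equiv.swap 1 2, 1, 1), by decide⟩
      = Equiv.swap (0 : Fin 9) 1 * Equiv.swap 1 2 ∧
    emb ⟨(1, Equiv.swap 0 1 * Equiv.swap 1 2, 1), by decide⟩
      = Equiv.swap (3 : Fin 9) 4 * Equiv.swap 4 5 ∧
    emb ⟨(1, 1, Equiv.swap 0 1 * Equiv.swap 1 2), by decide⟩
      = Equiv.swap (6 : Fin 9) 7 * Equiv.swap 7 8 ∧
    emb s3 = Equiv.swap (0 : Fin 9) 1 * Equiv.swap 3 4 ∧
    emb s2 = Equiv.swap (0 : Fin 9) 1 * Equiv.swap 6 7 := by decide +kernel

open CfsgLib.ThreeCubed in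
theorem emb_range : emb.range =
    Subgroup.closure ({Equiv.swap (0 : Fin 9) 1 * Equiv.swap 1 2, Equiv.swap (3 : Fin 9) 4 * Equiv.swap 4 5, Equiv.swap (6 : Fin 9) 7 * Equiv.swap 7 8,
      Equiv.swap (0 : Fin 9) 1 * Equiv.swap 3 4, Equiv.swap (0 : Fin 9) 1 * Equiv.swap 6 7} : Set (Equiv.Perm (Fin 9))) := by
  refine le_antisymm ?_ ?_
  · rintro - ⟨k, rfl⟩
    obtain ⟨g1, g2, g3, g4, g5⟩ := gen_values
    obtain ⟨a, b, c, h⟩ := rot_cosets k
    rcases h with rfl | rfl | rfl | rfl <;>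
      simp only [rot, map_mul, map_pow, g1, g2, g3, g4, g5] <;>
      repeat' first
        | (apply Subgroup.subset_closure
           simp only [Set.mem_insert_iff, Set.mem_singleton_iff, true_or, or_true]
           done)
        | apply pow_mem
        | apply mul_mem
  · rw [Subgroup.closure_le]
    obtain ⟨h1, h2, h3, h4, h5⟩ := gen_values
    rintro x (rfl | rfl | rfl | rfl | rfl)
    exacts [⟨_, h1⟩, ⟨_, h2⟩, ⟨_, h3⟩, ⟨_, h4⟩, ⟨_, h5⟩]

/-- Let H₀ ≤ Sym(9) be generated by the 3-cycles (1 2 3), (4 5 6), (7 8 9) and the involutions (1 2)(4 5), (1 2)(7 8) (a group of order 108, elementary abelian of order 27 extended by a four-group). Let G be a finite group with a subgroup H ≅ H₀, and T ≤ H of order 27 (a Sylow 3-subgroup of H) with N_G(T) = H and C_G(t) ≤ H for every t ≠ 1 in T. Then G = H. -/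
theorem result {G : Type*} [Group G] [Finite G] (H : Subgroup G)
    (hH : Nonempty (↥H ≃* ↥(Subgroup.closure ({Equiv.swap (0 : Fin 9) 1 * Equiv.swap 1 2, Equiv.swap (3 : Fin 9) 4 * Equiv.swap 4 5, Equiv.swap (6 : Fin 9) 7 * Equiv.swap 7 8,
        Equiv.swap (0 : Fin 9) 1 * Equiv.swap 3 4, Equiv.swap (0 : Fin 9) 1 * Equiv.swap 6 7} : Set (Equiv.Perm (Fin 9))))))
    (T : Subgroup G) (hTH : T ≤ H) (hT : Nat.card T = 27) (hN : Subgroup.normalizer (T : Set G) = H)
    (hC : ∀ t ∈ T, t ≠ 1 → Subgroup.centralizer ({t} : Set G) ≤ H) : H = ⊤ := by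

  classical
  have : Fintype G := Fintype.ofFinite G
  have : Fintype H := Fintype.ofFinite H
  obtain ⟨φ₀⟩ := hH
  let e : CfsgLib.ThreeCubed.M ≃* H :=
    ((MonoidHom.ofInjective emb_injective).trans (MulEquiv.subgroupCongr emb_range)).trans φ₀.symm
  -- `T` consists of the elements of exponent three
  have hTcube : ∀ t, ∀ ht : t ∈ T, (e.symm ⟨t, hTH ht⟩) ^ 3 = 1 := by
    intro t ht
    by_contra h3
    refine CfsgLib.ThreeCubed.pow27 _ h3 ?_
    rw [← map_pow, MulEquiv.map_eq_one_iff]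
    refine Subtype.ext ?_
    have := pow_card_eq_one' (G := T) (x := ⟨t, ht⟩)
    rw [hT] at this
    simpa using congrArg Subtype.val this
  have hTmem : ∀ k : CfsgLib.ThreeCubed.M, k ^ 3 = 1 → (e k : G) ∈ T := by
    intro k hk
    let f : T → {k : CfsgLib.ThreeCubed.M // k ^ 3 = 1} := fun t =>
      ⟨e.symm ⟨t, hTH t.2⟩, hTcube _ t.2⟩
    have hf : Function.Bijective f := by
      have : Fintype T := Fintype.ofFinite T
      rw [Fintype.bijective_iff_injective_and_card]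
      refine ⟨fun a b h => Subtype.ext ?_, ?_⟩
      · simpa [f] using h
      · rw [Fintype.card_eq_nat_card, hT, Fintype.card_subtype, CfsgLib.ThreeCubed.card_cube]
    obtain ⟨t, ht⟩ := hf.2 ⟨k, hk⟩
    have : e.symm ⟨t, hTH t.2⟩ = k := congrArg Subtype.val ht
    rw [← this, MulEquiv.apply_symm_apply]
    exact t.2
  have hsq : ∀ h ∈ H, h * h ∈ T := fun h hh => by
    have := hTmem _ (CfsgLib.ThreeCubed.sq_cube (e.symm ⟨h, hh⟩))
    simpa using this
  have hcomm : ∀ a ∈ T, ∀ b ∈ T, a * b = b * a := fun a ha b hb => by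
    have := congrArg e (CfsgLib.ThreeCubed.cube_comm _ (hTcube a ha) _ (hTcube b hb))
    simpa using congrArg Subtype.val this
  have hT3 : ∀ a ∈ T, a ^ 3 = 1 := fun a ha => by
    have := congrArg e (hTcube a ha)
    simpa using congrArg Subtype.val this
  have hTI0 : ∀ g : G, ∀ t ∈ T, t ≠ 1 → g * t * g⁻¹ ∈ T → g ∈ H := by
    intro g t ht ht1 hgt
    have hgt1 : g * t * g⁻¹ ≠ 1 := fun h => ht1 (conj_eq_one_iff.1 h)
    have hle : ∀ y ∈ T, g * y * g⁻¹ ∈ T := by
      intro y hy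
      have hyH : g * y * g⁻¹ ∈ H := by
        refine hC _ hgt hgt1 (Subgroup.mem_centralizer_singleton_iff.2 ?_)
        calc g * y * g⁻¹ * (g * t * g⁻¹) = g * (y * t) * g⁻¹ := by group
          _ = g * t * g⁻¹ * (g * y * g⁻¹) := by rw [hcomm y hy t ht]; group
      have h3 : (⟨_, hyH⟩ : H) ^ 3 = 1 := Subtype.ext (by simp [conj_pow, hT3 y hy])
      have := hTmem (e.symm ⟨_, hyH⟩) (by rw [← map_pow, h3, map_one])
      simpa using this
    rw [← hN]
    exact Subgroup.mem_normalizer_fintype (S := (T : Set G)) hle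
  have hTI : ∀ g : G, g ∉ H → ∀ t ∈ CfsgLib.ThreeCubed.DSet H,
      g * t * g⁻¹ ∈ CfsgLib.ThreeCubed.DSet H → t = 1 := by
    intro g hg t ht hgt
    exfalso
    refine hg (hTI0 g (t * t) (hsq t ht.1) ht.2 ?_)
    have := hsq _ hgt.1
    rwa [show g * t * g⁻¹ * (g * t * g⁻¹) = g * (t * t) * g⁻¹ by group] at this
  have hinv : ∀ x : G, x * x = 1 → ∀ d ∈ CfsgLib.ThreeCubed.DSet H, x * d * x⁻¹ = d⁻¹ → x ∈ H := by
    intro x _ d hd h
    refine hTI0 x (d * d) (hsq d hd.1) hd.2 ?_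
    rw [show x * (d * d) * x⁻¹ = x * d * x⁻¹ * (x * d * x⁻¹) by group, h, ← mul_inv_rev]
    exact T.inv_mem (hsq d hd.1)
  obtain ⟨φ, hφ⟩ := CfsgLib.ThreeCubed.exists_linear e hTI hinv
  -- restriction of the three linear characters
  have hψ : ∀ j, ∀ k, ((φ j (e k : G) : ℂˣ) : ℂ) = (CfsgLib.ThreeCubed.lam j k : ℂ) := by
    intro j
    let ψ : CfsgLib.ThreeCubed.M →* ℂˣ := ((φ j).comp H.subtype).comp e.toMonoidHom
    obtain ⟨r1, r2, r3, -⟩ := CfsgLib.ThreeCubed.s_rel
    have hcube : ∀ k, k ^ 3 = 1 → ψ k = 1 := by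
      have h : ∀ a s : CfsgLib.ThreeCubed.M, a ^ 3 = 1 → s * s = 1 → s * a * s = a⁻¹ → ψ a = 1 := by
        intro a s ha hs hsa
        have h1 := congrArg ψ hsa
        rw [map_mul, map_mul, map_inv, mul_comm (ψ s) (ψ a), mul_assoc, ← map_mul ψ s s, hs,
          map_one, mul_one, eq_inv_iff_mul_eq_one] at h1
        have h3 := congrArg ψ ha
        rwa [map_pow, map_one, pow_succ, pow_two, h1, one_mul] at h3
      intro k hk
      obtain ⟨a, ha, hb, h2, h1⟩ := CfsgLib.ThreeCubed.gen_cube k hk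
      rw [show k = a * (a⁻¹ * k) by group, map_mul, h a _ ha r2 h2, h _ _ hb r1 h1, one_mul]
    have hsign : ∀ s : CfsgLib.ThreeCubed.M, s * s = 1 → ((ψ s : ℂˣ) : ℂ) = 1 ∨ ((ψ s : ℂˣ) : ℂ) = -1 := by
      intro s hs
      have h := congrArg (fun z : ℂˣ => (z : ℂ)) (congrArg ψ hs)
      simp only [map_mul, map_one, Units.val_mul, Units.val_one] at h
      exact mul_self_eq_one_iff.1 h
    have hval : ∀ ε : CfsgLib.ThreeCubed.M → ℤ, (∀ a b, ε (a * b) = ε a * ε b) →
        (∀ k, k ^ 3 = 1 → ε k = 1) → ((ψ CfsgLib.ThreeCubed.s1 : ℂˣ) : ℂ) = ε CfsgLib.ThreeCubed.s1 →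
        ((ψ CfsgLib.ThreeCubed.s2 : ℂˣ) : ℂ) = ε CfsgLib.ThreeCubed.s2 →
        ∀ k, ((ψ k : ℂˣ) : ℂ) = ε k := by
      intro ε hm hc h1 h2 k
      obtain ⟨t, ht, rfl | rfl | rfl | rfl⟩ := CfsgLib.ThreeCubed.cosets k
      · rw [hcube _ ht, hc _ ht]; simp
      · rw [map_mul, hcube _ ht, one_mul, hm, hc _ ht, one_mul, h1]
      · rw [map_mul, hcube _ ht, one_mul, hm, hc _ ht, one_mul, h2]
      · rw [map_mul, hcube _ ht, one_mul, hm, hc _ ht, one_mul, ← r3, map_mul, hm, Units.val_mul,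
          h1, h2]
        push_cast; ring
    have hinner : ∀ ε : CfsgLib.ThreeCubed.M → ℤ, (∀ k, ((ψ k : ℂˣ) : ℂ) = ε k) → ∀ i,
        (CfsgLib.ThreeCubed.ip (CfsgLib.ThreeCubed.vA i) ε : ℂ) / 108 = if i = j then 1 else 0 := by
      intro ε hε i
      rw [← hφ i j]
      exact (CfsgLib.ThreeCubed.tau_inner_fun e
        (CfsgLib.Char.IsCharacter.isClassFunction (CfsgLib.Char.isCharacter_ofHom (φ j))) hε).symm
    obtain ⟨l0, l1, l2⟩ := CfsgLib.ThreeCubed.lam_s
    simp only [Prod.mk.injEq] at l0 l1 l2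
    rcases hsign _ r1 with h1 | h1 <;> rcases hsign _ r2 with h2 | h2
    · exfalso
      have hk := hval (fun _ => 1) (fun _ _ => rfl) (fun _ _ => rfl) (by simpa using h1) (by simpa using h2)
      have h0 := hinner _ hk 0
      have h0' := hinner _ hk 1
      rw [CfsgLib.ThreeCubed.ip_A1] at h0 h0'
      norm_num at h0 h0'
      exact absurd (h0.trans h0'.symm) (by decide)
    all_goals
      obtain ⟨m, hm⟩ : ∃ m : Fin 3, ((ψ CfsgLib.ThreeCubed.s1 : ℂˣ) : ℂ) = CfsgLib.ThreeCubed.lam m CfsgLib.ThreeCubed.s1 ∧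
          ((ψ CfsgLib.ThreeCubed.s2 : ℂˣ) : ℂ) = CfsgLib.ThreeCubed.lam m CfsgLib.ThreeCubed.s2 := by
        first
          | (refine ⟨0, ?_, ?_⟩ <;> norm_num [l0.1, l0.2, h1, h2] <;> done)
          | (refine ⟨1, ?_, ?_⟩ <;> norm_num [l1.1, l1.2, h1, h2] <;> done)
          | (refine ⟨2, ?_, ?_⟩ <;> norm_num [l2.1, l2.2, h1, h2] <;> done)
      have hk := hval _ (CfsgLib.ThreeCubed.lam_mul m)
        (fun k hk => CfsgLib.ThreeCubed.lam_cube k hk m) hm.1 hm.2
      have hmj : m = j := by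
        have h0 := hinner _ hk m
        rw [CfsgLib.ThreeCubed.ip_A_lam, if_pos rfl] at h0
        by_contra hne
        rw [if_neg hne] at h0
        norm_num at h0
      subst hmj
      exact hk
  -- the common kernel
  let K : Subgroup G := ⨅ j, (φ j).ker
  have hK : ∀ x, x ∈ K ↔ ∀ j, φ j x = 1 := fun x => by simp [K, Subgroup.mem_iInf, MonoidHom.mem_ker]
  have hKn : K.Normal := Subgroup.normal_iInf_normal fun j => (φ j).normal_ker
  have hKH : K ⊓ H = T := by
    ext x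
    constructor
    · rintro ⟨hxK, hxH⟩
      have := hTmem (e.symm ⟨x, hxH⟩) (CfsgLib.ThreeCubed.cube_of_lam _ fun m => by
        have h := hψ m (e.symm ⟨x, hxH⟩)
        rw [MulEquiv.apply_symm_apply] at h
        rw [(hK x).1 hxK m, Units.val_one] at h
        exact_mod_cast h.symm)
      simpa using this
    · intro hx
      refine ⟨(hK x).2 fun j => Units.ext ?_, hTH hx⟩
      have h := hψ j (e.symm ⟨x, hTH hx⟩)
      rw [MulEquiv.apply_symm_apply, CfsgLib.ThreeCubed.lam_cube _ (hTcube x hx)] at h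
      simpa using h
  have hTK : T ≤ K := hKH ▸ inf_le_left
  have hnorm : Subgroup.normalizer ((T.subgroupOf K : Subgroup K) : Set K) = T.subgroupOf K := by
    refine le_antisymm (fun x hx => ?_) Subgroup.le_normalizer
    rw [Subgroup.mem_subgroupOf, ← hKH]
    refine ⟨x.2, ?_⟩
    rw [← hN]
    refine Subgroup.mem_normalizer_fintype (S := (T : Set G)) fun y hy => ?_
    have := (Subgroup.mem_normalizer_iff.1 hx ⟨y, hTK hy⟩).1 (Subgroup.mem_subgroupOf.2 hy)
    simpa [Subgroup.mem_subgroupOf] using this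
  have hcardT : Nat.card (T.subgroupOf K) = 3 ^ 3 := by
    rw [Nat.card_congr (Subgroup.subgroupOfEquivOfLe hTK).toEquiv, hT]; norm_num
  have : Fact (Nat.Prime 3) := ⟨Nat.prime_three⟩
  have hidx : ¬ 3 ∣ (T.subgroupOf K).index := by
    intro hd
    have hdvd : 3 ^ (3 + 1) ∣ Nat.card K := by
      rw [← (T.subgroupOf K).card_mul_index, hcardT, pow_succ]
      exact mul_dvd_mul_left _ hd
    have h := Sylow.prime_dvd_card_quotient_normalizer hdvd hcardT
    rw [← Subgroup.index_eq_card] at h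
    change 3 ∣ (T.subgroupOf K).relIndex (Subgroup.normalizer ((T.subgroupOf K : Subgroup K) : Set K)) at h
    rw [Subgroup.relIndex_eq_one.2 (le_of_eq hnorm)] at h
    exact absurd h (by norm_num)
  let P : Sylow 3 K := (IsPGroup.of_card hcardT).toSylow hidx
  have hP : Subgroup.normalizer ((P : Subgroup K) : Set K) ≤ Subgroup.centralizer ((P : Subgroup K) : Set K) := by
    change Subgroup.normalizer ((T.subgroupOf K : Subgroup K) : Set K) ≤
      Subgroup.centralizer ((T.subgroupOf K : Subgroup K) : Set K)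
    rw [hnorm]
    intro a ha b hb
    exact Subtype.ext (hcomm _ (Subgroup.mem_subgroupOf.1 hb) _ (Subgroup.mem_subgroupOf.1 ha))
  obtain ⟨C, hn, hcompl, hndvd⟩ : ∃ C : Subgroup K, C.Normal ∧
      Subgroup.IsComplement' C (T.subgroupOf K) ∧ ¬ 3 ∣ Nat.card C :=
    ⟨(MonoidHom.transferSylow P hP).ker, MonoidHom.normal_ker _,
      MonoidHom.ker_transferSylow_isComplement' P hP,
      MonoidHom.not_dvd_card_ker_transferSylow P hP⟩
  clear hP P
  have hC1 : C.map K.subtype = ⊥ := by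
    refine eq_bot_iff.2 ?_
    have hA : Cfsg.IsElementaryAbelian 3 T :=
      ⟨⟨⟨fun a b => Subtype.ext (hcomm a a.2 b b.2)⟩⟩, hT3⟩
    refine CfsgLib.Signalizer.le_of_forall_centralizer hA le_rfl (by rw [hT]; norm_num) ?_ ?_ ?_
    · intro t ht
      refine Subgroup.mem_normalizer_fintype (S := ((C.map K.subtype : Subgroup G) : Set G)) fun y hy => ?_
      obtain ⟨c, hc, rfl⟩ := hy
      exact ⟨⟨t, hTK ht⟩ * c * ⟨t, hTK ht⟩⁻¹, hn.conj_mem c hc _, by simp⟩
    · rw [Subgroup.card_map_of_injective K.subtype_injective]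
      exact hndvd
    · rintro t ht ht1 x ⟨⟨c, hc, rfl⟩, hx⟩
      have hcT : (c : G) ∈ T := by rw [← hKH]; exact ⟨c.2, hC t ht ht1 hx⟩
      have : c ∈ C ⊓ T.subgroupOf K := ⟨hc, Subgroup.mem_subgroupOf.2 hcT⟩
      rw [hcompl.disjoint.eq_bot, Subgroup.mem_bot] at this
      simp [this]
  have hKT : K = T := by
    refine le_antisymm (fun x hx => ?_) hTK
    obtain ⟨⟨c, p⟩, hcp⟩ := hcompl.2 ⟨x, hx⟩
    have hc : (c : K) = 1 := by
      have : ((c : K) : G) ∈ C.map K.subtype := ⟨c, c.2, rfl⟩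
      rw [hC1, Subgroup.mem_bot] at this
      exact Subtype.ext this
    have h : ((p : K) : G) = x := by
      have := congrArg Subtype.val hcp
      simpa [hc] using this
    rw [← h]
    exact Subgroup.mem_subgroupOf.1 p.2
  rw [← hN, eq_top_iff]
  intro g _
  exact Subgroup.mem_normalizer_fintype (S := (T : Set G)) fun y hy => by
    rw [SetLike.mem_coe, ← hKT] at hy ⊢
    exact hKn.conj_mem y hy g

end Cfsg.Agent.S3701
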