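import Cfsg.Statements.S3703
import Cfsg.Agent.PrimeGraph.FrobeniusLift
import Cfsg.Agent.Solvable.Basics
import Mathlib.GroupTheory.Sylow

set_option autoImplicit false
open Cfsg
open scoped Pointwise

namespace Cfsg.Agent.S3703

/-- Let N be a normal subgroup of the finite group G such that G/N is a Frobenius group with kernel F and cyclic complement H, where the order of F is coprime to that of N and F is not contained in the image of C_G(N) in G/N. Then G has an element of order p·#H for some prime p dividing the order of N. (A standard tool in recognising groups by their element orders.) -/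
theorem result {G : Type*} [Group G] [Finite G] (N : Subgroup G) [N.Normal]
    (Fb Hb : Subgroup (G ⧸ N)) [Fb.Normal] (hHb : Cfsg.IsFrobeniusComplement Hb) (hker : Cfsg.frobeniusKernel Hb = (Fb : Set (G ⧸ N)))
    (hcyc : IsCyclic Hb) (hcop : (Nat.card Fb).Coprime (Nat.card N))
    (hnot : ¬ Fb ≤ (Subgroup.centralizer (N : Set G)).map (QuotientGroup.mk' N)) :
    ∃ p : ℕ, p.Prime ∧ p ∣ Nat.card N ∧ ∃ g : G, orderOf g = p * Nat.card Hb := by
  classical
  set π := QuotientGroup.mk' N with hπ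
  set m := Nat.card Hb with hm
  have hπ1 : ∀ g : G, π g = 1 ↔ g ∈ N := fun g => QuotientGroup.eq_one_iff g
  by_cases hbig : ∃ g : G, orderOf (π g) = m ∧ g ^ m ≠ 1
  · obtain ⟨g, hg, hgm⟩ := hbig
    obtain ⟨p, hp, hpd⟩ := Nat.exists_prime_and_dvd (fun h => hgm (orderOf_eq_one_iff.1 h))
    have hgN : g ^ m ∈ N := (hπ1 _).1 (by rw [map_pow, ← hg, pow_orderOf_eq_one])
    refine ⟨p, hp, hpd.trans (Subgroup.orderOf_dvd_natCard N hgN), ?_⟩
    have hmo : m ∣ orderOf g := hg ▸ orderOf_map_dvd π g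
    have ho : orderOf g = m * orderOf (g ^ m) := by
      rw [orderOf_pow_of_dvd (by rw [hm]; exact Nat.card_pos.ne') hmo, Nat.mul_div_cancel' hmo]
    obtain ⟨t, ht⟩ := hpd
    have ht0 : t ≠ 0 := by
      rintro rfl
      rw [mul_zero] at ht
      exact (orderOf_pos (g ^ m)).ne' ht
    refine ⟨g ^ t, ?_⟩
    rw [orderOf_pow_of_dvd ht0 ⟨m * p, by rw [ho, ht]; ring⟩, ho, ht,
      show m * (p * t) = p * m * t by ring, Nat.mul_div_cancel _ (Nat.pos_of_ne_zero ht0)]
  exfalso
  push Not at hbig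
  set M := Fb.comap π with hM
  have hNM : N ≤ M := fun n hn => by rw [hM, Subgroup.mem_comap, (hπ1 n).2 hn]; exact Fb.one_mem
  haveI : M.Normal := inferInstanceAs (Fb.comap π).Normal
  set C := Subgroup.centralizer (N : Set G) with hC
  -- a prime for which a Sylow subgroup of `M` does not centralise `N`
  have hMle : ¬ M ≤ N ⊔ C := fun h => hnot fun f hf => by
    obtain ⟨g, rfl⟩ := QuotientGroup.mk'_surjective N f
    have hg : g ∈ N ⊔ C := h hf
    obtain ⟨n, hn, c, hc, rfl⟩ := Subgroup.mem_sup_of_normal_left.1 hg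
    exact ⟨c, hc, by rw [map_mul, (hπ1 n).2 hn, one_mul]⟩
  obtain ⟨q, hq, Q0, hQ0⟩ : ∃ q, q.Prime ∧ ∃ Q0 : Sylow q M, ¬ (Q0 : Subgroup M).map M.subtype ≤ N ⊔ C := by
    by_contra h
    push Not at h
    refine hMle (Subgroup.subgroupOf_eq_top.1 (Subgroup.eq_top_of_card_eq _ (Nat.dvd_antisymm
      (Subgroup.card_subgroup_dvd_card _) ?_)))
    rw [Nat.dvd_iff_prime_pow_dvd_dvd]
    intro q k hq hk
    haveI := Fact.mk hq
    let S : Sylow q M := default
    refine (S.pow_dvd_card_of_pow_dvd_card hk).trans (Subgroup.card_dvd_of_le ?_)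
    intro s hs
    exact h q hq S ⟨s, hs, rfl⟩
  haveI := Fact.mk hq
  have hcardM : Nat.card M = Nat.card Fb * Nat.card N := by
    have h1 := Subgroup.relIndex_mul_relIndex (⊥ : Subgroup G) N M bot_le hNM
    rw [Subgroup.relIndex_bot_left, Subgroup.relIndex_bot_left] at h1
    have h2 : N.relIndex M = Nat.card Fb := by
      have := Subgroup.relIndex_ker π (K := M)
      rw [QuotientGroup.ker_mk', hM, Subgroup.map_comap_eq_self_of_surjective
        (QuotientGroup.mk'_surjective N)] at this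
      exact this
    rw [← h1, h2, mul_comm]
  have hqN : ¬ q ∣ Nat.card N := by
    intro hd
    have hqF : ¬ q ∣ Nat.card Fb := fun h => hq.not_dvd_one (hcop ▸ Nat.dvd_gcd h hd)
    refine hQ0 (fun y hy => Subgroup.mem_sup_left ((hπ1 y).1 ?_))
    obtain ⟨s, hs, rfl⟩ := hy
    obtain ⟨k, hk⟩ := Q0.2 ⟨s, hs⟩
    have hsk : (s : G) ^ q ^ k = 1 := by
      have := congrArg (fun z : (Q0 : Subgroup M) => ((z : M) : G)) hk
      simpa using this
    rw [← orderOf_eq_one_iff]
    refine Nat.eq_one_of_dvd_coprimes ((hq.coprime_iff_not_dvd.2 hqF).pow_left k) ?_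
      (Subgroup.orderOf_dvd_natCard Fb (show π (s : G) ∈ Fb from s.2))
    exact orderOf_dvd_of_pow_eq_one (by rw [← map_pow, M.coe_subtype, hsk, map_one])
  have hqQ : ∀ (R : Subgroup G), IsPGroup q R → ∀ a ∈ R, a ∈ N → a = 1 := by
    intro R hR a ha haN
    obtain ⟨k, hk⟩ := hR ⟨a, ha⟩
    rw [← orderOf_eq_one_iff]
    exact Nat.eq_one_of_dvd_coprimes ((hq.coprime_iff_not_dvd.2 hqN).pow_left k)
      (orderOf_dvd_of_pow_eq_one (by simpa using congrArg Subtype.val hk))
      (Subgroup.orderOf_dvd_natCard N haN)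
  -- a Sylow `p` of `N` and a Sylow `q` of `M` normalising it
  have hsyl : ∀ (p : ℕ) [Fact p.Prime] (P : Sylow p N), ∃ R : Sylow q M,
      (R : Subgroup M).map M.subtype ≤ Subgroup.normalizer (((P : Subgroup N).map N.subtype : Subgroup G) : Set G) := by
    intro p _ P
    set L := Subgroup.normalizer (((P : Subgroup N).map N.subtype : Subgroup G) : Set G)
    have hLN : L ⊔ N = ⊤ := Sylow.normalizer_sup_eq_top P
    have hsup : (L ⊓ M) ⊔ N = M := by
      refine le_antisymm (sup_le inf_le_right hNM) fun y hy => ?_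
      obtain ⟨l, hl, n, hn, rfl⟩ := Subgroup.mem_sup_of_normal_right.1 (hLN ▸ Subgroup.mem_top y)
      refine Subgroup.mul_mem_sup ⟨hl, ?_⟩ hn
      simpa using M.mul_mem hy (M.inv_mem (hNM hn))
    have hmul := CfsgLib.Solvable.card_sup_mul_card_inf (A := L ⊓ M) (K := N)
      (by rw [Subgroup.normalizer_eq_top N]; exact le_top)
    rw [hsup] at hmul
    let R0 : Sylow q ↥((L ⊓ M).subgroupOf M) := default
    have hRc : (Nat.card (L ⊓ M : Subgroup G)).factorization q = (Nat.card M).factorization q := by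
      have h1 : ¬ q ∣ Nat.card (L ⊓ M ⊓ N : Subgroup G) := fun h =>
        hqN (h.trans (Subgroup.card_dvd_of_le inf_le_right))
      have := congrArg (fun z => Nat.factorization z q) hmul
      simp only [Nat.factorization_mul Nat.card_pos.ne' Nat.card_pos.ne', Finsupp.add_apply,
        Nat.factorization_eq_zero_of_not_dvd h1, Nat.factorization_eq_zero_of_not_dvd hqN] at this
      simpa using this.symm
    refine ⟨Sylow.ofCard ((R0 : Subgroup ↥((L ⊓ M).subgroupOf M)).map ((L ⊓ M).subgroupOf M).subtype) ?_, ?_⟩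
    · rw [Subgroup.card_map_of_injective ((L ⊓ M).subgroupOf M).subtype_injective, R0.card_eq_multiplicity,
        Nat.card_congr (Subgroup.subgroupOfEquivOfLe (inf_le_right : L ⊓ M ≤ M)).toEquiv, hRc]
    · rintro _ ⟨y, hy, rfl⟩
      rw [Sylow.coe_ofCard, SetLike.mem_coe] at hy
      exact (Subgroup.mem_subgroupOf.1 ((Subgroup.map_subtype_le _) hy)).1
  -- some pair does not commute
  obtain ⟨p, hp, P, R, hRP, hRC⟩ : ∃ p, p.Prime ∧ ∃ (P : Sylow p N) (R : Sylow q M),
      (R : Subgroup M).map M.subtype ≤ Subgroup.normalizer (((P : Subgroup N).map N.subtype : Subgroup G) : Set G) ∧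
      ¬ (R : Subgroup M).map M.subtype ≤ Subgroup.centralizer (((P : Subgroup N).map N.subtype : Subgroup G) : Set G) := by
    by_contra h
    push Not at h
    refine hQ0 (le_trans ?_ le_sup_right)
    rw [hC, Subgroup.le_centralizer_iff]
    refine Subgroup.subgroupOf_eq_top.1 (Subgroup.eq_top_of_card_eq _ (Nat.dvd_antisymm
      (Subgroup.card_subgroup_dvd_card _) ?_))
    rw [Nat.dvd_iff_prime_pow_dvd_dvd]
    intro p k hp hk
    haveI := Fact.mk hp
    let P : Sylow p N := default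
    obtain ⟨R, hR⟩ := hsyl p P
    have hcent := h p hp P R hR
    obtain ⟨g, hg⟩ := MulAction.exists_smul_eq M R Q0
    have hck : ∀ z : N, z ∈ (P : Subgroup N) → (g : G) * z * (g : G)⁻¹ ∈
        Subgroup.centralizer (((Q0 : Subgroup M).map M.subtype : Subgroup G) : Set G) := by
      intro z hz
      rw [Subgroup.mem_centralizer_iff]
      rintro _ ⟨y, hy, rfl⟩
      rw [SetLike.mem_coe, ← hg, Sylow.coe_subgroup_smul, Subgroup.mem_pointwise_smul_iff_inv_smul_mem] at hy
      have h2 := Subgroup.mem_centralizer_iff.1 (hcent ⟨_, hy, rfl⟩) (z : G) ⟨z, hz, rfl⟩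
      simp only [MulAut.smul_def, map_inv, MulAut.conj_symm_apply, Subgroup.coe_subtype,
        Subgroup.coe_mul, InvMemClass.coe_inv] at h2 ⊢
      have := congrArg (fun w => (g : G) * w * (g : G)⁻¹) h2
      simpa [mul_assoc] using this.symm
    let ι : (P : Subgroup N) →* N :=
      { toFun := fun z => ⟨(g : G) * (z : N) * (g : G)⁻¹, ‹N.Normal›.conj_mem _ (z : N).2 _⟩
        map_one' := Subtype.ext (by simp)
        map_mul' := fun a b => Subtype.ext (by simp [mul_assoc]) }
    have hι : Function.Injective ι := fun a b e => by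
      have := congrArg (fun w : N => (w : G)) e
      exact Subtype.ext (Subtype.ext (by simpa [ι] using this))
    refine (P.pow_dvd_card_of_pow_dvd_card hk).trans ?_
    rw [Nat.card_congr (MonoidHom.ofInjective hι).toEquiv]
    refine Subgroup.card_dvd_of_le ?_
    rintro _ ⟨z, rfl⟩
    exact hck z z.2
  haveI := Fact.mk hp
  set P' : Subgroup G := (P : Subgroup N).map N.subtype
  set Q : Subgroup G := (R : Subgroup M).map M.subtype with hQ
  set L := Subgroup.normalizer (P' : Set G)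
  have hQM : Q ≤ M := Subgroup.map_subtype_le _
  have hQq : IsPGroup q Q := R.2.map _
  have hm1 : 1 < m := by
    rw [hm]; exact (Subgroup.one_lt_card_iff_ne_bot Hb).2 hHb.1
  -- an element of `L` normalising `Q`, mapping onto a generator of a complement
  obtain ⟨h₀, hh₀⟩ := hcyc.exists_generator
  obtain ⟨g0, hg0⟩ := QuotientGroup.mk'_surjective N (h₀ : G ⧸ N)
  obtain ⟨x1, hx1, n, hn, rfl⟩ : ∃ l ∈ L, ∃ n ∈ N, l * n = g0 :=
    Subgroup.mem_sup_of_normal_right.1 (Sylow.normalizer_sup_eq_top P ▸ Subgroup.mem_top g0)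
  have hx1π : π x1 = h₀ := by
    rw [← hg0, map_mul, (hπ1 n).2 hn, mul_one]
  -- move `Q` back inside `L ⊓ M`
  have hQL : Q ≤ L ⊓ M := le_inf hRP hQM
  let QL : Sylow q ↥(L ⊓ M : Subgroup G) := Sylow.ofCard (Q.subgroupOf (L ⊓ M)) (by
    rw [Nat.card_congr (Subgroup.subgroupOfEquivOfLe hQL).toEquiv]
    refine Nat.dvd_antisymm ?_ ?_
    · obtain ⟨k, hk⟩ := IsPGroup.iff_card.1 hQq
      rw [hk]
      exact pow_dvd_pow q (hq.pow_dvd_iff_le_factorization Nat.card_pos.ne' |>.1
        (hk ▸ Subgroup.card_dvd_of_le hQL))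
    · rw [hQ, Subgroup.card_map_of_injective M.subtype_injective, R.card_eq_multiplicity]
      exact pow_dvd_pow q ((Nat.factorization_le_iff_dvd Nat.card_pos.ne' Nat.card_pos.ne').2
        (Subgroup.card_dvd_of_le inf_le_right) q))
  have hx1c : ∀ y ∈ L ⊓ M, x1 * y * x1⁻¹ ∈ L ⊓ M := fun y hy =>
    ⟨L.mul_mem (L.mul_mem hx1 hy.1) (L.inv_mem hx1), ‹M.Normal›.conj_mem y hy.2 x1⟩
  let α : ↥(L ⊓ M : Subgroup G) ≃* ↥(L ⊓ M : Subgroup G) :=
    { toFun := fun y => ⟨x1 * y * x1⁻¹, hx1c y y.2⟩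
      invFun := fun y => ⟨x1⁻¹ * y * x1, ⟨L.mul_mem (L.mul_mem (L.inv_mem hx1) y.2.1) hx1,
        by simpa using ‹M.Normal›.conj_mem _ y.2.2 x1⁻¹⟩⟩
      left_inv := fun y => Subtype.ext (by simp [mul_assoc])
      right_inv := fun y => Subtype.ext (by simp [mul_assoc])
      map_mul' := fun a b => Subtype.ext (by simp [mul_assoc]) }
  let QL' : Sylow q ↥(L ⊓ M : Subgroup G) := Sylow.ofCard ((QL : Subgroup _).map α.toMonoidHom) (by
    rw [Subgroup.card_map_of_injective (f := α.toMonoidHom) α.injective, QL.card_eq_multiplicity])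
  obtain ⟨⟨c, hcLM⟩, hc⟩ := MulAction.exists_smul_eq ↥(L ⊓ M : Subgroup G) QL' QL
  set x := c * x1 with hx
  have hxL : x ∈ L := L.mul_mem hcLM.1 hx1
  have hxQ : x ∈ Subgroup.normalizer (Q : Set G) := by
    have key : ∀ y ∈ Q, x * y * x⁻¹ ∈ Q := by
      intro y hy
      have h1 : (⟨c, hcLM⟩ : ↥(L ⊓ M : Subgroup G)) * α ⟨y, hQL hy⟩ * ⟨c, hcLM⟩⁻¹ ∈ (QL : Subgroup _) := by
        rw [← hc, Sylow.coe_subgroup_smul, Subgroup.mem_pointwise_smul_iff_inv_smul_mem]
        refine ⟨⟨y, hQL hy⟩, ?_, ?_⟩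
        · show (⟨y, hQL hy⟩ : ↥(L ⊓ M : Subgroup G)) ∈ Q.subgroupOf (L ⊓ M)
          exact hy
        · simp [mul_assoc]
      have h2 : c * (x1 * y * x1⁻¹) * c⁻¹ ∈ Q := h1
      simpa [hx, mul_assoc] using h2
    rw [Subgroup.mem_normalizer_iff]
    have hinj : Function.Injective fun y : Q => (⟨x * y * x⁻¹, key y y.2⟩ : Q) := fun a b e =>
      Subtype.ext (by simpa using congrArg Subtype.val e)
    intro y
    refine ⟨key y, fun hy => ?_⟩
    obtain ⟨z, hz⟩ := (Finite.injective_iff_surjective.1 hinj) ⟨_, hy⟩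
    have : x * (z : G) * x⁻¹ = x * y * x⁻¹ := congrArg Subtype.val hz
    have h3 : (z : G) = y := by simpa using this
    exact h3 ▸ z.2
  -- its image
  have hFH : ∀ f, f ∈ Fb ↔ f ∈ Cfsg.frobeniusKernel Hb := fun f => by rw [hker]; exact Iff.rfl
  have hh₀F : ∀ j : ℕ, (h₀ : G ⧸ N) ^ j ∈ Fb → (h₀ : G ⧸ N) ^ j = 1 := fun j hj => by
    rcases (hFH _).1 hj with h | h
    · exact h
    · exact absurd (CfsgLib.Frobenius.mem_conj_iff.2 (by simpa using Hb.pow_mem h₀.2 j)) (h 1)
  have hh₀m : orderOf (h₀ : G ⧸ N) = m := by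
    rw [Subgroup.orderOf_coe, hm]; exact orderOf_eq_card_of_forall_mem_zpowers hh₀
  have hπc : π c ∈ Fb := hcLM.2
  have hπx : π x ∉ Fb := fun h => by
    have h1 : (h₀ : G ⧸ N) ^ 1 ∈ Fb := by
      rw [pow_one, ← hx1π]
      have := Fb.mul_mem (Fb.inv_mem hπc) h
      rwa [hx, map_mul, inv_mul_cancel_left] at this
    have := hh₀F 1 h1
    rw [pow_one, ← orderOf_eq_one_iff, hh₀m] at this
    omega
  obtain ⟨d, hd⟩ : ∃ d, π x ∈ MulAut.conj d • Hb := by
    exact Classical.byContradiction fun h => hπx ((hFH _).2 (Or.inr fun d hd => h ⟨d, hd⟩))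
  have hordx : orderOf (π x) = m := by
    refine Nat.dvd_antisymm ?_ ?_
    · have h := CfsgLib.Frobenius.mem_conj_iff.1 hd
      have ho : orderOf (d⁻¹ * π x * d) = orderOf (π x) :=
        (SemiconjBy.orderOf_eq d⁻¹ (by simp [SemiconjBy, mul_assoc])).symm
      rw [hm, ← ho]
      exact Subgroup.orderOf_dvd_natCard Hb h
    · have h1 : (h₀ : G ⧸ N) ^ orderOf (π x) ∈ Fb := by
        rw [← QuotientGroup.eq_one_iff, ← QuotientGroup.mk'_apply, map_pow, ← hx1π]
        have : QuotientGroup.mk' Fb (π x1) = QuotientGroup.mk' Fb (π x) := by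
          rw [hx, map_mul π, map_mul (QuotientGroup.mk' Fb),
            show QuotientGroup.mk' Fb (π c) = 1 from (QuotientGroup.eq_one_iff _).2 hπc, one_mul]
        rw [this, ← map_pow, pow_orderOf_eq_one, map_one]
      rw [← hh₀m]
      exact orderOf_dvd_of_pow_eq_one (hh₀F _ h1)
  have hxm : x ^ m = 1 := hbig x hordx
  apply hRC
  refine CfsgLib.FrobeniusLift.centralizes P' Q (P.2.map _) hRP ?_ hxL hxQ (by omega) hxm ?_ ?_
  · obtain ⟨k, hk⟩ := IsPGroup.iff_card.1 hQq
    rw [hk]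
    exact ((hq.coprime_iff_not_dvd.2 hqN).coprime_dvd_right
      (Subgroup.card_dvd_of_le (Subgroup.map_subtype_le _))).pow_left k
  · intro a ha j hj hjm hcomm
    refine hqQ Q hQq a ha ((hπ1 a).1 ?_)
    have hH' := CfsgLib.Frobenius.conj hHb d
    have hyne : π x ^ j ≠ 1 := pow_ne_one_of_lt_orderOf hj.ne' (by omega)
    have haH : π a ∈ MulAut.conj d • Hb := CfsgLib.Frobenius.centralizer_le hH'
      ((MulAut.conj d • Hb).pow_mem hd j) hyne (Subgroup.mem_centralizer_singleton_iff.2 (by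
        have h1 := congrArg π hcomm
        rw [map_mul, map_mul, map_pow] at h1
        exact h1))
    rcases (hFH _).1 (show π a ∈ Fb from hQM ha) with h | h
    · exact h
    · exact absurd haH (h d)
  · intro a _ v hv
    refine hbig _ ?_
    rw [map_mul, (hπ1 v).2 (Subgroup.map_subtype_le _ hv), mul_one, map_mul, map_mul, map_inv]
    rw [← hordx]
    exact (SemiconjBy.orderOf_eq (π a) (by simp [SemiconjBy, mul_assoc])).symm

end Cfsg.Agent.S3703
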