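import Cfsg.Statements.S3708
import Cfsg.Agent.Phan.Recognise
-- import your own Cfsg.Agent.* helpers here

set_option autoImplicit false
open Cfsg

namespace Cfsg.Agent.S3708

/-- Phan's recognition of unitary groups. Let F be a finite field with q² elements, q > 4, and n ≥ 2. Let G be a group generated by subgroups U_0, …, U_{n−1}, each isomorphic to the special unitary group SU(2, q²) (determinant-one isometries of the standard Hermitian form in two variables over F), and let D_i ≤ U_i be cyclic subgroups of order q + 1. Suppose that U_i and U_j commute elementwise whenever the indices differ by at least 2, that the subgroup generated by U_i and U_{i+1} is isomorphic to SU(3, q²) for each i, and that D_i and D_j commute elementwise for all i, j. Then G is a homomorphic image of SU(n+1, q²). (Generation of G by the U_i is part of the hypothesis; G is not assumed finite.) -/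
theorem result {G : Type*} [Group G] (n : ℕ) (hn : 2 ≤ n)
    (F : Type*) [Field F] [Fintype F] (q : ℕ) (hq : 4 < q) (hF : Fintype.card F = q ^ 2)
    (U : Fin n → Subgroup G) (e : ∀ i, ↥(Cfsg.SU 2 F q) ≃* ↥(U i)) (hgen : ⨆ i, U i = ⊤)
    (D : Fin n → Subgroup G) (hD : ∀ i, D i ≤ U i ∧ IsCyclic ↥(D i) ∧ Nat.card ↥(D i) = q + 1)
    (h1 : ∀ i j : Fin n, (i : ℕ) + 2 ≤ j → ∀ x ∈ U i, ∀ y ∈ U j, x * y = y * x)
    (h2 : ∀ i j : Fin n, (i : ℕ) + 1 = j → Nonempty (↥(U i ⊔ U j) ≃* ↥(Cfsg.SU 3 F q)))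
    (h3 : ∀ i j : Fin n, i ≠ j → ∀ x ∈ D i, ∀ y ∈ D j, x * y = y * x) :
    ∃ f : ↥(Cfsg.SU (n + 1) F q) →* G, Function.Surjective f := by
  classical
  haveI : Finite F := Finite.of_fintype F
  have hF' : Nat.card F = q ^ 2 := by rw [Nat.card_eq_fintype_card, hF]
  have hstd : ∀ i j : Fin n, (i : ℕ) + 1 = j → Cfsg.IsStandardUnitaryPair (U i ⊔ U j) (U i) (U j) F q := by
    intro i j hij
    obtain ⟨φ⟩ := h2 i j hij
    let θ : Cfsg.SU 3 F q →* G := (U i ⊔ U j).subtype.comp φ.symm.toMonoidHom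
    have hθ : Function.Injective θ := Subtype.val_injective.comp φ.symm.injective
    have hr : θ.range = U i ⊔ U j := by
      rw [MonoidHom.range_comp, MonoidHom.range_eq_top.2 φ.symm.surjective, ← MonoidHom.range_eq_map,
        Subgroup.range_subtype]
    have hA : ((U i).comap θ).map θ = U i := Subgroup.map_comap_eq_self (by rw [hr]; exact le_sup_left)
    have hB : ((U j).comap θ).map θ = U j := Subgroup.map_comap_eq_self (by rw [hr]; exact le_sup_right)
    have hgen' : (U i).comap θ ⊔ (U j).comap θ = ⊤ := by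
      apply Subgroup.map_injective hθ
      rw [Subgroup.map_sup, hA, hB, ← MonoidHom.range_eq_map, hr]
    have pull : ∀ k, k = i ∨ k = j → ∃ a : Cfsg.SU 3 F q, θ a ∈ D k ∧ a ≠ 1 ∧ a ^ (q + 1) = 1 := by
      intro k hk
      obtain ⟨hle, hcyc, hcard⟩ := hD k
      obtain ⟨⟨d, hd⟩, hgend⟩ := hcyc.exists_ofOrder_eq_natCard
      have hk' : d ∈ θ.range := by
        rw [hr]
        rcases hk with rfl | rfl
        exacts [Subgroup.mem_sup_left (hle hd), Subgroup.mem_sup_right (hle hd)]
      obtain ⟨a, rfl⟩ := hk'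
      rw [hcard, ← Subgroup.orderOf_coe, orderOf_injective θ hθ] at hgend
      refine ⟨a, hd, fun e0 => ?_, hgend ▸ pow_orderOf_eq_one a⟩
      rw [e0, orderOf_one] at hgend
      omega
    obtain ⟨a, ha, ha1, haq⟩ := pull i (Or.inl rfl)
    obtain ⟨b, hb, hb1, hbq⟩ := pull j (Or.inr rfl)
    have hne : i ≠ j := fun e0 => by rw [e0] at hij; omega
    obtain ⟨g, hg0, hg1⟩ := CfsgLib.Phan.exists_std hF'
      ((e i).trans ((MulEquiv.subgroupCongr hA.symm).trans
        (Subgroup.equivMapOfInjective ((U i).comap θ) θ hθ).symm))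
      ((e j).trans ((MulEquiv.subgroupCongr hB.symm).trans
        (Subgroup.equivMapOfInjective ((U j).comap θ) θ hθ).symm))
      hgen' (a := a) (b := b) ((hD i).1 ha) ((hD j).1 hb) ha1 hb1 haq hbq
      (hθ (by rw [map_mul, map_mul]; exact h3 i j hne _ ha _ hb))
    rw [CfsgLib.Phan.range_emb_eq_suBlock hF',
      show Set.range (CfsgLib.Phan.win 0 2 3 (by omega)) = ({0, 1} : Set (Fin 3)) by
        ext x; rw [CfsgLib.Phan.mem_range_win]; fin_cases x <;> simp] at hg0
    rw [CfsgLib.Phan.range_emb_eq_suBlock hF',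
      show Set.range (CfsgLib.Phan.win 1 2 3 (by omega)) = ({1, 2} : Set (Fin 3)) by
        ext x; rw [CfsgLib.Phan.mem_range_win]; fin_cases x <;> simp] at hg1
    refine Or.inl ⟨(MulAut.conj g).trans φ.symm, ?_, ?_⟩
    · refine Eq.trans ?_ hA
      rw [← hg0, Subgroup.map_map]
      rfl
    · refine Eq.trans ?_ hB
      rw [← hg1, Subgroup.map_map]
      rfl
  let U' : ℕ → Subgroup G := fun i => if h : i < n then U ⟨i, h⟩ else ⊥
  let V' : ℕ → Subgroup G := fun i => U' i ⊔ U' (i + 1)
  have hU' : ∀ (i : ℕ) (h : i < n), U' i = U ⟨i, h⟩ := fun i h => dif_pos h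
  obtain ⟨C, hC⟩ := CfsgLib.Phan.exists_system hF' (by omega) (N := n) U' V'
    (fun i j hij hj x hx y hy => by
      rw [hU' i (by omega)] at hx
      rw [hU' j hj] at hy
      exact h1 _ _ hij x hx y hy)
    (fun i h => by
      show Cfsg.IsStandardUnitaryPair (U' i ⊔ U' (i + 1)) _ _ F q
      rw [hU' i (by omega), hU' (i + 1) h]
      exact hstd _ _ rfl) hn
  obtain ⟨Φ, hΦ⟩ := C.exists_hom hF' hn (Or.inl (by omega))
  refine ⟨Φ, MonoidHom.range_eq_top.1 (top_le_iff.1 (hgen ▸ iSup_le fun i => ?_))⟩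
  have hV : ∀ k, k + 1 < n → U' k ⊔ U' (k + 1) ≤ Φ.range := fun k hk => by
    rw [show U' k ⊔ U' (k + 1) = (C.ψ k).range from (hC k hk).1.symm]
    rintro _ ⟨X, rfl⟩
    exact ⟨_, hΦ k (by omega) X⟩
  rw [← hU' i.val i.isLt]
  by_cases h : i.val + 1 < n
  · exact le_sup_left.trans (hV i h)
  · refine le_trans ?_ (hV (i.val - 1) (by omega))
    rw [show i.val - 1 + 1 = i.val by omega]
    exact le_sup_right

end Cfsg.Agent.S3708
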