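import Cfsg.Statements.S3709
import Cfsg.Agent.Phan.Align
-- import your own Cfsg.Agent.* helpers here

set_option autoImplicit false
open Cfsg

namespace Cfsg.Agent.S3709

/-- Recognition of unitary groups from a weak Phan system. Let F be a finite field with q² elements, q > 3, and n ≥ 3. Let G be a group with subgroups U_0, …, U_{n−1}, each isomorphic to SU(2, q²), and, for each pair of consecutive indices, a subgroup V_{i,i+1} in which U_i and U_{i+1} form a standard pair (some isomorphism from SU(3, q²), or from its central quotient PSU(3, q²), onto V_{i,i+1} carries the two block-diagonal SU(2, q²) subgroups, or their images, onto U_i and U_{i+1}). Suppose that U_i and U_j commute elementwise whenever the indices differ by at least 2, and that G is generated by the U_i together with the V_{i,i+1}. Then G is a homomorphic image of SU(n+1, q²). (G is not assumed finite.) -/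
theorem result {G : Type*} [Group G] (n : ℕ) (hn : 3 ≤ n)
    (F : Type*) [Field F] [Fintype F] (q : ℕ) (hq : 3 < q) (hF : Fintype.card F = q ^ 2)
    (U : Fin n → Subgroup G) (e : ∀ i, ↥(Cfsg.SU 2 F q) ≃* ↥(U i))
    (V : Fin n → Fin n → Subgroup G)
    (h1 : ∀ i j : Fin n, (i : ℕ) + 2 ≤ j → ∀ x ∈ U i, ∀ y ∈ U j, x * y = y * x)
    (h2 : ∀ i j : Fin n, (i : ℕ) + 1 = j → Cfsg.IsStandardUnitaryPair (V i j) (U i) (U j) F q)
    (hgen : (⨆ i, U i) ⊔ (⨆ (i : Fin n) (j : Fin n) (_ : (i : ℕ) + 1 = j), V i j) = ⊤) :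
    ∃ f : ↥(Cfsg.SU (n + 1) F q) →* G, Function.Surjective f := by
  classical
  haveI : Finite F := Finite.of_fintype F
  have hF' : Nat.card F = q ^ 2 := by rw [Nat.card_eq_fintype_card, hF]
  let U' : ℕ → Subgroup G := fun i => if h : i < n then U ⟨i, h⟩ else ⊥
  let V' : ℕ → Subgroup G := fun i => if h : i + 1 < n then V ⟨i, by omega⟩ ⟨i + 1, h⟩ else ⊥
  have hU' : ∀ (i : ℕ) (h : i < n), U' i = U ⟨i, h⟩ := fun i h => dif_pos h
  have hV' : ∀ (i : ℕ) (h : i + 1 < n), V' i = V ⟨i, by omega⟩ ⟨i + 1, h⟩ := fun i h => dif_pos h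
  obtain ⟨D, hD⟩ := CfsgLib.Phan.exists_system hF' (by omega) (N := n) U' V'
    (fun i j hij hj x hx y hy => by
      rw [hU' i (by omega)] at hx
      rw [hU' j hj] at hy
      exact h1 _ _ hij x hx y hy)
    (fun i h => by
      rw [hV' i h, hU' i (by omega), hU' (i + 1) h]
      exact h2 _ _ rfl) (by omega)
  obtain ⟨Φ, hΦ⟩ := D.exists_hom hF' (by omega) (Or.inl (by omega))
  have hV : ∀ i j : Fin n, (i : ℕ) + 1 = j → V i j ≤ Φ.range := fun i j hij => by
    obtain ⟨i, hi⟩ := i
    obtain ⟨j, hj⟩ := j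
    simp only at hij
    subst hij
    rw [← hV' i hj, ← (hD i hj).1]
    rintro _ ⟨X, rfl⟩
    exact ⟨_, hΦ i (by omega) X⟩
  have hA : ∀ i j : Fin n, (i : ℕ) + 1 = j → U i ≤ V i j ∧ U j ≤ V i j := fun i j hij => by
    obtain ⟨P⟩ := CfsgLib.Phan.exists_pres hF' (h2 i j hij)
    have key : ∀ K : Subgroup (Cfsg.SU 3 F q), K.map P.θ ≤ V i j := fun K =>
      (Subgroup.map_le_range _ _).trans P.range_eq.le
    exact ⟨P.left_eq.symm.le.trans (key _), P.right_eq.symm.le.trans (key _)⟩
  refine ⟨Φ, MonoidHom.range_eq_top.1 (top_le_iff.1 (hgen ▸ sup_le (iSup_le fun i => ?_)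
    (iSup_le fun i => iSup_le fun j => iSup_le fun hij => hV i j hij)))⟩
  rcases Nat.eq_zero_or_pos i.val with h | h
  · exact (hA i ⟨i.val + 1, by omega⟩ rfl).1.trans (hV _ _ rfl)
  · exact (hA ⟨i.val - 1, by omega⟩ i (by simp; omega)).2.trans (hV _ _ (by simp; omega))

end Cfsg.Agent.S3709
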