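import Cfsg.Statements.S3710
import Cfsg.Agent.Phan.Align
import Cfsg.Agent.Phan.ThreeBase

set_option autoImplicit false
open Cfsg

namespace Cfsg.Agent.S3710

/-- Recognition of unitary groups over the field with 9 elements from a weak Phan system. Let F be a field with 9 elements and n ≥ 4. Let G be a group with subgroups U_0, …, U_{n−1}, each isomorphic to SU(2, 9), and, for consecutive indices, subgroups V_{i,i+1} in which U_i and U_{i+1} form a standard pair (via an isomorphism from SU(3, 9) or PSU(3, 9) carrying the block-diagonal subgroups, or their images, onto U_i and U_{i+1}); suppose U_i and U_j commute elementwise whenever the indices differ by at least 2, that G is generated by the U_i and the V_{i,i+1}, and moreover that for each i the subgroup generated by V_{i,i+1} and V_{i+1,i+2} is a homomorphic image of SU(4, 9). Then G is a homomorphic image of SU(n+1, 9). (G is not assumed finite.) -/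
theorem result {G : Type*} [Group G] (n : ℕ) (hn : 4 ≤ n)
    (F : Type*) [Field F] [Fintype F] (hF : Fintype.card F = 9)
    (U : Fin n → Subgroup G) (e : ∀ i, ↥(Cfsg.SU 2 F 3) ≃* ↥(U i))
    (V : Fin n → Fin n → Subgroup G)
    (h1 : ∀ i j : Fin n, (i : ℕ) + 2 ≤ j → ∀ x ∈ U i, ∀ y ∈ U j, x * y = y * x)
    (h2 : ∀ i j : Fin n, (i : ℕ) + 1 = j → Cfsg.IsStandardUnitaryPair (V i j) (U i) (U j) F 3)
    (hgen : (⨆ i, U i) ⊔ (⨆ (i : Fin n) (j : Fin n) (_ : (i : ℕ) + 1 = j), V i j) = ⊤)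
    (h4 : ∀ i j k : Fin n, (i : ℕ) + 1 = j → (j : ℕ) + 1 = k →
      ∃ g : ↥(Cfsg.SU 4 F 3) →* ↥(V i j ⊔ V j k), Function.Surjective g) :
    ∃ f : ↥(Cfsg.SU (n + 1) F 3) →* G, Function.Surjective f := by
  classical
  haveI : Finite F := Finite.of_fintype F
  have hF' : Nat.card F = 3 ^ 2 := by rw [Nat.card_eq_fintype_card, hF]; norm_num
  let U' : ℕ → Subgroup G := fun i => if h : i < n then U ⟨i, h⟩ else ⊥
  let V' : ℕ → Subgroup G := fun i => if h : i + 1 < n then V ⟨i, by omega⟩ ⟨i + 1, h⟩ else ⊥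
  have hU' : ∀ (i : ℕ) (h : i < n), U' i = U ⟨i, h⟩ := fun i h => dif_pos h
  have hV' : ∀ (i : ℕ) (h : i + 1 < n), V' i = V ⟨i, by omega⟩ ⟨i + 1, h⟩ := fun i h => dif_pos h
  obtain ⟨D, hD⟩ := CfsgLib.Phan.exists_system hF' le_rfl (N := n) U' V'
    (fun i j hij hj x hx y hy => by
      rw [hU' i (by omega)] at hx
      rw [hU' j hj] at hy
      exact h1 _ _ hij x hx y hy)
    (fun i h => by
      rw [hV' i h, hU' i (by omega), hU' (i + 1) h]
      exact h2 _ _ rfl) (by omega)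
  have hA : ∀ i j : Fin n, (i : ℕ) + 1 = j → U i ≤ V i j ∧ U j ≤ V i j := fun i j hij => by
    obtain ⟨P⟩ := CfsgLib.Phan.exists_pres hF' (h2 i j hij)
    have key : ∀ K : Subgroup (Cfsg.SU 3 F 3), K.map P.θ ≤ V i j := fun K =>
      (Subgroup.map_le_range _ _).trans P.range_eq.le
    exact ⟨P.left_eq.symm.le.trans (key _), P.right_eq.symm.le.trans (key _)⟩
  have hinj : ∀ i, i + 1 < n → Function.Injective (D.ψ i) := fun i hi => by
    refine (MonoidHom.ker_eq_bot_iff _).1 ?_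
    rcases CfsgLib.Phan.normal_central_or_top hF' le_rfl (D.ψ i).ker with h | h
    · refine le_bot_iff.1 (h.trans (le_of_eq (Subgroup.eq_bot_of_card_eq _ ?_)))
      rw [CfsgLib.Unitary.card_center_SU hF' (by norm_num)]
      norm_num
    · exfalso
      have hbot : V ⟨i, by omega⟩ ⟨i + 1, hi⟩ = ⊥ := by
        rw [← hV' i hi, ← (hD i hi).1, MonoidHom.ker_eq_top_iff.1 h, MonoidHom.range_one]
      have hU0 : U ⟨i, by omega⟩ = ⊥ := le_bot_iff.1 ((hA _ _ rfl).1.trans hbot.le)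
      have hc := CfsgLib.Phan.card_SU_two_three hF'
      rw [Nat.card_congr (e ⟨i, by omega⟩).toEquiv, hU0, Subgroup.card_bot] at hc
      omega
  have hbase : ∀ a, a + 4 ≤ n + 1 → ∃ Φ, D.Fit a 4 Φ := fun a ha => by
    obtain ⟨g, hg⟩ := h4 ⟨a, by omega⟩ ⟨a + 1, by omega⟩ ⟨a + 2, by omega⟩ rfl rfl
    obtain ⟨g', hr⟩ : ∃ g' : Cfsg.SU 4 F 3 →* G,
        g'.range = V ⟨a, by omega⟩ ⟨a + 1, by omega⟩ ⊔ V ⟨a + 1, by omega⟩ ⟨a + 2, by omega⟩ :=
      ⟨(Subgroup.subtype _).comp g, by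
        rw [MonoidHom.range_comp, MonoidHom.range_eq_top.2 hg, ← MonoidHom.range_eq_map, Subgroup.range_subtype]⟩
    obtain ⟨Φ, hΦ0, hΦ1⟩ := CfsgLib.Phan.exists_fit_four_three hF' (D.ψ a) (D.ψ (a + 1))
      (hinj a (by omega)) (hinj (a + 1) (by omega))
      (fun X => (D.h12 a (by omega) X).trans (D.h01 (a + 1) (by omega) X).symm)
      (fun X Y => by
        rw [D.h01 a (by omega), D.h12 (a + 1) (by omega)]
        exact D.uu a (a + 2) le_rfl (by omega) X Y)
      g' (by rw [hr, (hD a (by omega)).1, hV' a (by omega)]; exact le_sup_left)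
      (by rw [hr, (hD (a + 1) (by omega)).1, hV' (a + 1) (by omega)]; exact le_sup_right)
    refine ⟨Φ, fun i hi X => ?_⟩
    rcases (show i = 0 ∨ i = 1 by omega) with rfl | rfl
    · exact hΦ0 X
    · exact hΦ1 X
  obtain ⟨Φ, hΦ⟩ := D.exists_hom hF' (by omega) (Or.inr hbase)
  have hV : ∀ i j : Fin n, (i : ℕ) + 1 = j → V i j ≤ Φ.range := fun i j hij => by
    obtain ⟨i, hi⟩ := i
    obtain ⟨j, hj⟩ := j
    simp only at hij
    subst hij
    rw [← hV' i hj, ← (hD i hj).1]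
    rintro _ ⟨X, rfl⟩
    exact ⟨_, hΦ i (by omega) X⟩
  refine ⟨Φ, MonoidHom.range_eq_top.1 (top_le_iff.1 (hgen ▸ sup_le (iSup_le fun i => ?_)
    (iSup_le fun i => iSup_le fun j => iSup_le fun hij => hV i j hij)))⟩
  rcases Nat.eq_zero_or_pos i.val with h | h
  · exact (hA i ⟨i.val + 1, by omega⟩ rfl).1.trans (hV _ _ rfl)
  · exact (hA ⟨i.val - 1, by omega⟩ i (by simp; omega)).2.trans (hV _ _ (by simp; omega))

end Cfsg.Agent.S3710
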