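import Cfsg.Statements.S3711
import Cfsg.Agent.Phan.TwoBase

set_option autoImplicit false
open Cfsg

namespace Cfsg.Agent.S3711

open CfsgLib.Phan CfsgLib.Phan.Q2 CfsgLib.Unitary

/-- Two standard pairs with commuting ends have trivial kernels. -/
theorem pres_injective {G : Type*} [Group G] {F : Type*} [Field F] [Finite F] (hF : Nat.card F = 2 ^ 2)
    {V A B V' A' B' : Subgroup G} (P : Pres F 2 V A B) (Q : Pres F 2 V' A' B')
    (h : (B = A' ∧ ∀ x ∈ A, ∀ y ∈ B', x * y = y * x) ∨ (B' = A ∧ ∀ x ∈ A', ∀ y ∈ B, x * y = y * x)) :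
    Function.Injective P.θ := by
  obtain ⟨z, hz⟩ := exists_omega hF
  obtain ⟨δ, hδ⟩ := exists_tor hF hz (![1, -1] : Fin 2 → ZMod 3) (by simp)
  have kertor : ∀ {V A B : Subgroup G} (R : Pres F 2 V A B) {T : Cfsg.SU 3 F 2} {v : Fin 3 → ZMod 3},
      IsTor z T v → R.θ T = 1 → ∀ i j, v i = v j := by
    intro V A B R T v hT h i j
    obtain ⟨c, hc⟩ := R.ker_scalar T h
    have e : ∀ i, wp z (v i) = c := fun i => by
      have h1 := congrFun ((hT.act_ev i).symm.trans (hc i)) i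
      simpa [ev] using h1
    exact wp_inj hF hz ((e i).trans (e j).symm)
  refine (injective_iff_map_eq_one P.θ).2 fun k hk => ?_
  obtain ⟨c, hc⟩ := P.ker_scalar k hk
  obtain ⟨b, rfl⟩ := exists_wp hF hz (x := c) fun e => by
    have := congrArg (CfsgLib.Phan.act k⁻¹) (hc 0)
    rw [e, zero_smul, act_inv_act] at this
    have h0 := congrFun this 0
    simp [CfsgLib.Phan.act, ev] at h0
  have hkt : IsTor z k fun _ => b := Matrix.ext fun i j => by
    rw [← suMat_apply, hc j]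
    by_cases hij : i = j
    · subst hij; simp [ev]
    · simp [ev, hij]
  by_cases hb : b = 0
  · exact hkt.ext (by subst hb; exact isTor_one)
  exfalso
  have e0 : IsTor z (emb (win 0 2 3 (by omega)) δ) ![1, -1, 0] := by
    refine isTor_emb hz hδ (fun a => by fin_cases a <;> rfl) fun i hi => ?_
    fin_cases i <;> first | rfl | (exfalso; apply hi; rw [mem_range_win]; simp)
  have e1 : IsTor z (emb (win 1 2 3 (by omega)) δ) ![0, 1, -1] := by
    refine isTor_emb hz hδ (fun a => by fin_cases a <;> rfl) fun i hi => ?_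
    fin_cases i <;> first | rfl | (exfalso; apply hi; rw [mem_range_win]; simp)
  have heq : P.θ (emb (win 0 2 3 (by omega)) δ) = P.θ (emb (win 1 2 3 (by omega)) δ) := by
    have hm' := e0.mul hz (e1.inv hF hz)
    rw [show (![1, -1, 0] : Fin 3 → ZMod 3) + -![0, 1, -1] = fun _ => 1 by decide] at hm'
    have hZ1 : P.θ (emb (win 0 2 3 (by omega)) δ * (emb (win 1 2 3 (by omega)) δ)⁻¹) = 1 := by
      rcases (show b = 1 ∨ b = -1 by clear hkt hc; revert hb; revert b; decide) with rfl | rfl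
      · rw [← hkt.ext hm']; exact hk
      · rw [show emb (win 0 2 3 (by omega)) δ * (emb (win 1 2 3 (by omega)) δ)⁻¹ = k⁻¹ from
          hm'.ext (by simpa [funext_iff, Pi.neg_def] using hkt.inv hF hz), map_inv, hk, inv_one]
    rwa [map_mul, map_inv, mul_inv_eq_one] at hZ1
  have hne : P.θ (emb (win 0 2 3 (by omega)) δ) ≠ 1 := fun e =>
    absurd (kertor P e0 e 0 2) (by decide)
  have hcube : δ * δ * δ = 1 := ((hδ.mul hz hδ).mul hz hδ).ext (by
    rw [show (![1, -1] : Fin 2 → ZMod 3) + ![1, -1] + ![1, -1] = 0 by decide]; exact isTor_one)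
  rcases h with ⟨rfl, hcm⟩ | ⟨rfl, hcm⟩
  · obtain ⟨X, hX⟩ := Q.exists_left (x := P.θ (emb (win 0 2 3 (by omega)) δ))
      (by rw [heq]; exact P.right_mem δ)
    have hX3 : X * X * X = 1 := Q.inj_block hF (i := 0) (by omega) (by
      show Q.θ (emb (win 0 2 3 (by omega)) (X * X * X)) = Q.θ (emb (win 0 2 3 (by omega)) 1)
      rw [map_mul, map_mul, map_mul, map_mul, hX, ← map_mul, ← map_mul, ← map_mul, ← map_mul, hcube]
      simp)
    obtain ⟨a, ha⟩ := tor_of_cube hF hz hX3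
    obtain ⟨s1, hs1⟩ := exists_perm_elt hF (show (1 : Fin 3) ≠ 2 by decide)
    obtain ⟨Y, rfl⟩ := exists_emb_win hF (i := 1) (r := 2) (k := 3) (by omega) (g := s1) fun j hj => by
      obtain rfl : j = 0 := Fin.ext (show j.1 = 0 by omega)
      rw [hs1]; rfl
    have hT : IsTor z (emb (win 0 2 3 (by omega)) X) ![a, -a, 0] := by
      refine isTor_emb hz ha (fun a => by fin_cases a <;> rfl) fun i hi => ?_
      fin_cases i <;> first | rfl | (exfalso; apply hi; rw [mem_range_win]; simp)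
    obtain ⟨T', hT'⟩ := exists_tor hF hz (![a, 0, -a] : Fin 3 → ZMod 3) (by simp [Fin.sum_univ_three])
    have hc1 := congrArg Q.θ (perm_conj hs1 hT hT' (fun j => by fin_cases j <;> rfl))
    rw [map_mul, map_mul, hX, ← hcm _ (P.left_mem δ) _ (Q.right_mem Y), ← hX] at hc1
    have h1 : Q.θ (emb (win 0 2 3 (by omega)) X * T'⁻¹) = 1 := by
      rw [map_mul, map_inv, mul_right_cancel hc1, mul_inv_cancel]
    have e := kertor Q (hT.mul hz (hT'.inv hF hz)) h1 0 1
    simp at e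
    subst e
    refine hne ?_
    rw [← hX, show X = 1 from ha.ext (by
      rw [show (![0, -0] : Fin 2 → ZMod 3) = 0 by decide]; exact isTor_one), map_one, map_one]
  · obtain ⟨X, hX⟩ := Q.exists_right (x := P.θ (emb (win 0 2 3 (by omega)) δ)) (P.left_mem δ)
    have hX3 : X * X * X = 1 := Q.inj_block hF (i := 1) (by omega) (by
      show Q.θ (emb (win 1 2 3 (by omega)) (X * X * X)) = Q.θ (emb (win 1 2 3 (by omega)) 1)
      rw [map_mul, map_mul, map_mul, map_mul, hX, ← map_mul, ← map_mul, ← map_mul, ← map_mul, hcube]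
      simp)
    obtain ⟨a, ha⟩ := tor_of_cube hF hz hX3
    obtain ⟨s0, hs0⟩ := exists_perm_elt hF (show (0 : Fin 3) ≠ 1 by decide)
    obtain ⟨Y, rfl⟩ := exists_emb_win hF (i := 0) (r := 2) (k := 3) (by omega) (g := s0) fun j hj => by
      obtain rfl : j = 2 := Fin.ext (show j.1 = 2 by omega)
      rw [hs0]; rfl
    have hT : IsTor z (emb (win 1 2 3 (by omega)) X) ![0, a, -a] := by
      refine isTor_emb hz ha (fun a => by fin_cases a <;> rfl) fun i hi => ?_
      fin_cases i <;> first | rfl | (exfalso; apply hi; rw [mem_range_win]; simp)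
    obtain ⟨T', hT'⟩ := exists_tor hF hz (![a, 0, -a] : Fin 3 → ZMod 3) (by simp [Fin.sum_univ_three])
    have hc1 := congrArg Q.θ (perm_conj hs0 hT hT' (fun j => by fin_cases j <;> rfl))
    rw [map_mul, map_mul, hX, hcm _ (Q.left_mem Y) _ (heq ▸ P.right_mem δ), ← hX] at hc1
    have h1 : Q.θ (emb (win 1 2 3 (by omega)) X * T'⁻¹) = 1 := by
      rw [map_mul, map_inv, mul_right_cancel hc1, mul_inv_cancel]
    have e := kertor Q (hT.mul hz (hT'.inv hF hz)) h1 1 2
    simp at e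
    subst e
    refine hne ?_
    rw [← hX, show X = 1 from ha.ext (by
      rw [show (![0, -0] : Fin 2 → ZMod 3) = 0 by decide]; exact isTor_one), map_one, map_one]

/-- Recognition of unitary groups over the field with 4 elements from a weak Phan system. Let F be a field with 4 elements and n ≥ 4. Let G be a group with subgroups U_0, …, U_{n−1}, each isomorphic to SU(2, 4), and, for consecutive indices, subgroups V_{i,i+1} in which U_i and U_{i+1} form a standard pair (via an isomorphism from SU(3, 4) or PSU(3, 4) carrying the block-diagonal subgroups, or their images, onto U_i and U_{i+1}); suppose U_i and U_j commute elementwise whenever the indices differ by at least 2, that G is generated by the U_i and the V_{i,i+1}, that for each i the subgroup generated by V_{i,i+1} and V_{i+1,i+2} is a homomorphic image of SU(4, 4), that U_i and V_{j,j+1} commute elementwise whenever i ≤ j − 2 or i ≥ j + 3, and that V_{i,i+1} and V_{k,k+1} commute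 elementwise whenever k ≥ i + 3. Then G is a homomorphic image of SU(n+1, 4). (G is not assumed finite.) -/
theorem result {G : Type*} [Group G] (n : ℕ) (hn : 4 ≤ n)
    (F : Type*) [Field F] [Fintype F] (hF : Fintype.card F = 4)
    (U : Fin n → Subgroup G) (e : ∀ i, ↥(Cfsg.SU 2 F 2) ≃* ↥(U i))
    (V : Fin n → Fin n → Subgroup G)
    (h1 : ∀ i j : Fin n, (i : ℕ) + 2 ≤ j → ∀ x ∈ U i, ∀ y ∈ U j, x * y = y * x)
    (h2 : ∀ i j : Fin n, (i : ℕ) + 1 = j → Cfsg.IsStandardUnitaryPair (V i j) (U i) (U j) F 2)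
    (hgen : (⨆ i, U i) ⊔ (⨆ (i : Fin n) (j : Fin n) (_ : (i : ℕ) + 1 = j), V i j) = ⊤)
    (h4 : ∀ i j k : Fin n, (i : ℕ) + 1 = j → (j : ℕ) + 1 = k →
      ∃ g : ↥(Cfsg.SU 4 F 2) →* ↥(V i j ⊔ V j k), Function.Surjective g)
    (h5 : ∀ i j k : Fin n, (j : ℕ) + 1 = k → ((i : ℕ) + 2 ≤ j ∨ (k : ℕ) + 2 ≤ i) →
      ∀ x ∈ U i, ∀ y ∈ V j k, x * y = y * x)
    (h6 : ∀ i j k l : Fin n, (i : ℕ) + 1 = j → (k : ℕ) + 1 = l → (j : ℕ) + 2 ≤ k →
      ∀ x ∈ V i j, ∀ y ∈ V k l, x * y = y * x) :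
    ∃ f : ↥(Cfsg.SU (n + 1) F 2) →* G, Function.Surjective f := by
  classical
  haveI : Finite F := Finite.of_fintype F
  have hF' : Nat.card F = 2 ^ 2 := by rw [Nat.card_eq_fintype_card, hF]; norm_num
  let U' : ℕ → Subgroup G := fun i => if h : i < n then U ⟨i, h⟩ else ⊥
  let V' : ℕ → Subgroup G := fun i => if h : i + 1 < n then V ⟨i, by omega⟩ ⟨i + 1, h⟩ else ⊥
  have hU' : ∀ (i : ℕ) (h : i < n), U' i = U ⟨i, h⟩ := fun i h => dif_pos h
  have hV' : ∀ (i : ℕ) (h : i + 1 < n), V' i = V ⟨i, by omega⟩ ⟨i + 1, h⟩ := fun i h => dif_pos h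
  have hcomm : ∀ i j, i + 2 ≤ j → j < n → ∀ x ∈ U' i, ∀ y ∈ U' j, x * y = y * x :=
    fun i j hij hj x hx y hy => by
      rw [hU' i (by omega)] at hx
      rw [hU' j hj] at hy
      exact h1 _ _ hij x hx y hy
  have hP : ∀ i, i + 1 < n → Nonempty (Pres F 2 (V' i) (U' i) (U' (i + 1))) := fun i h => by
    rw [hV' i h, hU' i (by omega), hU' (i + 1) h]
    exact exists_pres hF' (h2 _ _ rfl)
  let P := fun i h => (hP i h).some
  have hPinj : ∀ i (h : i + 1 < n), Function.Injective (P i h).θ := fun i h => by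
    by_cases h' : i + 2 < n
    · exact pres_injective hF' (P i h) (P (i + 1) h') (Or.inl ⟨rfl, hcomm i (i + 2) le_rfl h'⟩)
    · obtain ⟨j, rfl⟩ : ∃ j, i = j + 1 := ⟨i - 1, by omega⟩
      exact pres_injective hF' (P (j + 1) h) (P j (by omega)) (Or.inr ⟨rfl, hcomm j (j + 2) le_rfl h⟩)
  let w0 : Fin 2 ↪ Fin 3 := win 0 2 3 (by omega)
  let w1 : Fin 2 ↪ Fin 3 := win 1 2 3 (by omega)
  let Good : ℕ → (Cfsg.SU 3 F 2 →* G) → Prop := fun i ψ => Function.Injective ψ ∧ ψ.range = V' i ∧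
    (ψ.comp (emb w0)).range = U' i ∧ (ψ.comp (emb w1)).range = U' (i + 1)
  have hgood : ∀ i (h : i + 1 < n), Good i (P i h).θ := fun i h =>
    ⟨hPinj i h, (P i h).range_eq, by rw [MonoidHom.range_comp]; exact (P i h).left_eq,
      by rw [MonoidHom.range_comp]; exact (P i h).right_eq⟩
  -- one step
  have next_map : ∀ a, a + 2 < n → ∀ ψ, Good a ψ → ∃ Φ : Cfsg.SU 4 F 2 →* G,
      (∀ X, Φ (emb (win 0 3 4 (by omega)) X) = ψ X) ∧ Good (a + 1) (Φ.comp (emb (win 1 3 4 (by omega)))) := by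
    intro a ha ψ hψ
    obtain ⟨hψi, hψr, hψ0, hψ1⟩ := hψ
    obtain ⟨hθi, hθr, hθ0, hθ1⟩ := hgood (a + 1) ha
    set θ := (P (a + 1) ha).θ
    obtain ⟨g0, hg0⟩ := h4 ⟨a, by omega⟩ ⟨a + 1, by omega⟩ ⟨a + 2, by omega⟩ rfl rfl
    obtain ⟨g, hr⟩ : ∃ g : Cfsg.SU 4 F 2 →* G, g.range = V' a ⊔ V' (a + 1) :=
      ⟨(Subgroup.subtype _).comp g0, by
        rw [MonoidHom.range_comp, MonoidHom.range_eq_top.2 hg0, ← MonoidHom.range_eq_map, Subgroup.range_subtype,
          hV' a (by omega), hV' (a + 1) ha]⟩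
    have hle0 : ∀ X, ψ X ∈ g.range := fun X => hr ▸ Subgroup.mem_sup_left (hψr.le ⟨X, rfl⟩)
    have hle1 : ∀ X, θ X ∈ g.range := fun X => hr ▸ Subgroup.mem_sup_right (hθr.le ⟨X, rfl⟩)
    have hg : Function.Injective g := by
      rw [← MonoidHom.ker_eq_bot_iff]
      refine (normal_bot_or_top hF' g.ker).resolve_right fun h => ?_
      obtain ⟨s, hs⟩ := exists_perm_elt hF' (show (0 : Fin 3) ≠ 1 by decide)
      obtain ⟨y, hy⟩ := hle0 s
      have h1 : s = 1 := hψi (by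
        rw [← hy, map_one]
        exact (h ▸ Subgroup.mem_top y : y ∈ g.ker))
      have := congrFun ((hs 0).symm.trans (by rw [h1, act_one])) 0
      simp [ev] at this
    let A := (MonoidHom.ofInjective hg).symm.toMonoidHom.comp (ψ.codRestrict g.range hle0)
    let B := (MonoidHom.ofInjective hg).symm.toMonoidHom.comp (θ.codRestrict g.range hle1)
    have hA : ∀ X, g (A X) = ψ X := fun X => MonoidHom.apply_ofInjective_symm hg _
    have hB : ∀ X, g (B X) = θ X := fun X => MonoidHom.apply_ofInjective_symm hg _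
    obtain ⟨Φ, hΦi, hΦ0, hΦ1, hΦ2⟩ := exists_std_four hF' A B (fun x y e => hψi (by rw [← hA, ← hA, e]))
      (fun x y e => hθi (by rw [← hB, ← hB, e]))
      (by
        refine SetLike.ext fun x => ⟨?_, ?_⟩
        · rintro ⟨X, rfl⟩
          obtain ⟨Y, hY⟩ : ψ (emb w1 X) ∈ (θ.comp (emb w0)).range := hθ0 ▸ hψ1 ▸ ⟨X, rfl⟩
          exact ⟨Y, hg (by simp only [MonoidHom.comp_apply, hA, hB]; exact hY)⟩
        · rintro ⟨X, rfl⟩
          obtain ⟨Y, hY⟩ : θ (emb w0 X) ∈ (ψ.comp (emb w1)).range := hψ1 ▸ hθ0 ▸ ⟨X, rfl⟩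
          exact ⟨Y, hg (by simp only [MonoidHom.comp_apply, hA, hB]; exact hY)⟩)
      (fun X Y => hg (by
        rw [map_mul, map_mul, hA, hB]
        exact hcomm a (a + 2) le_rfl ha _ (hψ0.le ⟨X, rfl⟩) _ (hθ1.le ⟨Y, rfl⟩)))
    have hAψ : g.comp A = ψ := MonoidHom.ext hA
    have hBθ : g.comp B = θ := MonoidHom.ext hB
    refine ⟨g.comp Φ, fun X => by rw [MonoidHom.comp_apply, hΦ0, hA],
      fun x y e => emb_injective _ (hΦi (hg e)), ?_, ?_, ?_⟩
    · rw [MonoidHom.comp_assoc, MonoidHom.range_comp, hΦ1, ← MonoidHom.range_comp, hBθ, hθr]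
    · rw [← hψ1]
      congr 1
      ext X
      show g (Φ (emb _ (emb _ X))) = ψ (emb _ X)
      rw [← hA, ← hΦ0, emb_win' (l := 1) _ _ rfl, emb_win' (l := 1) _ _ rfl]
    · rw [← hθ1, show θ.comp (emb w1) = g.comp (B.comp (emb w1)) from MonoidHom.ext fun X => (hB _).symm,
        MonoidHom.range_comp g (B.comp (emb w1)), ← hΦ2, ← MonoidHom.range_comp]
      congr 1
      ext X
      show g (Φ (emb _ (emb _ X))) = g (Φ (emb _ X))
      rw [emb_win' (l := 2) _ _ rfl]
  -- the aligned sequence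
  have seq : ∀ k, k + 1 < n → ∃ ψ : ℕ → Cfsg.SU 3 F 2 →* G, (∀ i, i ≤ k → Good i (ψ i)) ∧
      ∀ i, i < k → ∃ Φ : Cfsg.SU 4 F 2 →* G, (∀ X, Φ (emb (win 0 3 4 (by omega)) X) = ψ i X) ∧
        ∀ X, Φ (emb (win 1 3 4 (by omega)) X) = ψ (i + 1) X := by
    intro k
    induction k with
    | zero =>
      exact fun h => ⟨fun _ => (P 0 h).θ, fun i hi => by
        obtain rfl : i = 0 := by omega
        exact hgood 0 h, fun i hi => absurd hi (Nat.not_lt_zero i)⟩
    | succ k ih =>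
      intro hk
      obtain ⟨ψ, hg, hl⟩ := ih (by omega)
      obtain ⟨Φ, hΦ, hnew⟩ := next_map k hk (ψ k) (hg k le_rfl)
      refine ⟨Function.update ψ (k + 1) (Φ.comp (emb (win 1 3 4 (by omega)))), fun i hi => ?_, fun i hi => ?_⟩
      · rcases Nat.lt_or_ge i (k + 1) with h | h
        · rw [Function.update_of_ne (by omega)]; exact hg i (by omega)
        · obtain rfl : i = k + 1 := by omega
          rw [Function.update_self]; exact hnew
      · rw [Function.update_of_ne (show i ≠ k + 1 by omega)]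
        rcases Nat.lt_or_ge i k with h | h
        · rw [Function.update_of_ne (show i + 1 ≠ k + 1 by omega)]; exact hl i h
        · obtain rfl : i = k := by omega
          rw [Function.update_self]; exact ⟨Φ, hΦ, fun X => rfl⟩
  obtain ⟨ψ, hψ, hlink⟩ := seq (n - 2) (by omega)
  have hψg : ∀ i, i + 1 < n → Good i (ψ i) := fun i h => hψ i (by omega)
  let u : ℕ → Cfsg.SU 2 F 2 →* G := fun i =>
    if i = 0 then (ψ 0).comp (emb w0) else (ψ (i - 1)).comp (emb w1)
  have hu : ∀ i, i < n → ∀ X, u i X ∈ U' i := fun i hi X => by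
    cases i with
    | zero => exact (hψg 0 (by omega)).2.2.1.le ⟨X, rfl⟩
    | succ j => exact (hψg j hi).2.2.2.le ⟨X, rfl⟩
  have hψV : ∀ (i : ℕ) (h : i + 1 < n) (X : Cfsg.SU 3 F 2), ψ i X ∈ V ⟨i, by omega⟩ ⟨i + 1, h⟩ :=
    fun i h X => hV' i h ▸ (hψg i h).2.1.le ⟨X, rfl⟩
  have hu' : ∀ (i : ℕ) (h : i < n) (X : Cfsg.SU 2 F 2), u i X ∈ U ⟨i, h⟩ := fun i h X => hU' i h ▸ hu i h X
  let D : Chain F 2 n G :=
    { u := u
      ψ := ψ
      h01 := fun i h X => by
        cases i with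
        | zero => rfl
        | succ j =>
          obtain ⟨Φ, hΦ0, hΦ1⟩ := hlink j (by omega)
          show _ = ψ j (emb w1 X)
          rw [← hΦ1, ← hΦ0, emb_win' (l := 1) _ _ rfl, emb_win' (l := 1) _ _ rfl]
      h12 := fun i h X => rfl
      uu := fun i j hij hj X Y => hcomm i j hij hj _ (hu i (by omega) X) _ (hu j hj Y)
      uv := fun i j hij hj X Y =>
        h5 ⟨i, by omega⟩ ⟨j, by omega⟩ ⟨j + 1, hj⟩ rfl (Or.inl hij) _ (hu' i (by omega) X) _ (hψV j hj Y)
      vu := fun i j hij hj X Y =>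
        (h5 ⟨j, hj⟩ ⟨i, by omega⟩ ⟨i + 1, by omega⟩ rfl (Or.inr (by simp only; omega)) _ (hu' j hj Y) _
          (hψV i (by omega) X)).symm
      vv := fun i j hij hj X Y =>
        h6 ⟨i, by omega⟩ ⟨i + 1, by omega⟩ ⟨j, by omega⟩ ⟨j + 1, hj⟩ rfl rfl (by simp only; omega) _
          (hψV i (by omega) X) _ (hψV j hj Y) }
  obtain ⟨Φ, hΦ⟩ := D.exists_hom hF' (by omega) (Or.inr fun a ha => by
    obtain ⟨Φ, hΦ0, hΦ1⟩ := hlink a (by omega)
    refine ⟨Φ, fun i hi X => ?_⟩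
    rcases (show i = 0 ∨ i = 1 by omega) with rfl | rfl
    · exact hΦ0 X
    · exact hΦ1 X)
  have hV : ∀ i j : Fin n, (i : ℕ) + 1 = j → V i j ≤ Φ.range := fun i j hij => by
    obtain ⟨i, hi⟩ := i
    obtain ⟨j, hj⟩ := j
    simp only at hij
    subst hij
    rw [← hV' i hj, ← (hψg i hj).2.1]
    rintro _ ⟨X, rfl⟩
    exact ⟨_, hΦ i (by omega) X⟩
  have hA : ∀ i j : Fin n, (i : ℕ) + 1 = j → U i ≤ V i j ∧ U j ≤ V i j := fun i j hij => by
    obtain ⟨i, hi⟩ := i
    obtain ⟨j, hj⟩ := j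
    simp only at hij
    subst hij
    obtain ⟨-, hr, h0, h1⟩ := hψg i hj
    rw [← hU' i hi, ← hU' (i + 1) hj, ← hV' i hj, ← hr, ← h0, ← h1, MonoidHom.range_comp, MonoidHom.range_comp]
    exact ⟨Subgroup.map_le_range _ _, Subgroup.map_le_range _ _⟩
  refine ⟨Φ, MonoidHom.range_eq_top.1 (top_le_iff.1 (hgen ▸ sup_le (iSup_le fun i => ?_)
    (iSup_le fun i => iSup_le fun j => iSup_le fun hij => hV i j hij)))⟩
  rcases Nat.eq_zero_or_pos i.val with h | h
  · exact (hA i ⟨i.val + 1, by omega⟩ rfl).1.trans (hV _ _ rfl)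
  · exact (hA ⟨i.val - 1, by omega⟩ i (by simp; omega)).2.trans (hV _ _ (by simp; omega))

end Cfsg.Agent.S3711
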