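import Cfsg.Statements.S3713
import Cfsg.Agent.SpPres.Amalgam
-- import your own Cfsg.Agent.* helpers here

set_option autoImplicit false
open Cfsg

namespace Cfsg.Agent.S3713

/-- A presentation of the symplectic group as the universal completion of an amalgam of small subgroups. Let F be a field with more than two elements, n ≥ 2, and Sp the group of 2n × 2n matrices over F preserving the standard alternating form, acting on column vectors; write e_k, f_k for the standard basis vectors of the two halves (a hyperbolic basis). For each k let S_k be the subgroup of Sp fixing e_l and f_l for all l ≠ k (a copy of SL(2, F) on the plane of e_k, f_k), and for each i with i + 1 < n let M_i be the subgroup fixing every e_l and fixing f_l for all l other than i, i+1 (an abelian group isomorphic to the additive group of F³). Then Sp is the universal completion of the amalgam formed by the S_k, the M_i and the subgroups generated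 by two of them: for every group H and homomorphisms σ_k : S_k → H, μ_i : M_i → H such that for each pair of these subgroups some homomorphism on the subgroup they generate restricts to the given ones, there is exactly one homomorphism Sp → H restricting to every σ_k and μ_i. -/
theorem result
    (F : Type*) [Field F] (hF : ∃ a : F, a ≠ 0 ∧ a ≠ 1) (n : ℕ) (hn : 2 ≤ n)
    (S M : Fin n → Subgroup ↥(Matrix.symplecticGroup (Fin n) F))
    (hS : ∀ j : Fin n, S j = Subgroup.closure {A : ↥(Matrix.symplecticGroup (Fin n) F) | ∀ k : Fin n, k ≠ j →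
      ((A : ↥(Matrix.symplecticGroup (Fin n) F)) : Matrix (Fin n ⊕ Fin n) (Fin n ⊕ Fin n) F).mulVec (Pi.single (Sum.inl k) (1 : F)) = (Pi.single (Sum.inl k) (1 : F)) ∧ ((A : ↥(Matrix.symplecticGroup (Fin n) F)) : Matrix (Fin n ⊕ Fin n) (Fin n ⊕ Fin n) F).mulVec (Pi.single (Sum.inr k) (1 : F)) = (Pi.single (Sum.inr k) (1 : F))})
    (hM : ∀ i : Fin n, (i : ℕ) + 1 < n → M i = Subgroup.closure {A : ↥(Matrix.symplecticGroup (Fin n) F) |
      (∀ k : Fin n, ((A : ↥(Matrix.symplecticGroup (Fin n) F)) : Matrix (Fin n ⊕ Fin n) (Fin n ⊕ Fin n) F).mulVec (Pi.single (Sum.inl k) (1 : F)) = (Pi.single (Sum.inl k) (1 : F))) ∧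
        ∀ k : Fin n, (k : ℕ) ≠ i → (k : ℕ) ≠ (i : ℕ) + 1 → ((A : ↥(Matrix.symplecticGroup (Fin n) F)) : Matrix (Fin n ⊕ Fin n) (Fin n ⊕ Fin n) F).mulVec (Pi.single (Sum.inr k) (1 : F)) = (Pi.single (Sum.inr k) (1 : F))})
    {H : Type*} [Group H] (σ : ∀ j : Fin n, ↥(S j) →* H) (μ : ∀ i : Fin n, ↥(M i) →* H)
    (hSS : ∀ j l : Fin n, j ≠ l → ∃ Ψ : ↥(S j ⊔ S l) →* H,
      (∀ (g : ↥(Matrix.symplecticGroup (Fin n) F)) (hg : g ∈ S j), Ψ ⟨g, Subgroup.mem_sup_left hg⟩ = σ j ⟨g, hg⟩) ∧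
        (∀ (g : ↥(Matrix.symplecticGroup (Fin n) F)) (hg : g ∈ S l), Ψ ⟨g, Subgroup.mem_sup_right hg⟩ = σ l ⟨g, hg⟩))
    (hMM : ∀ i i' : Fin n, i ≠ i' → (i : ℕ) + 1 < n → (i' : ℕ) + 1 < n → ∃ Ψ : ↥(M i ⊔ M i') →* H,
      (∀ (g : ↥(Matrix.symplecticGroup (Fin n) F)) (hg : g ∈ M i), Ψ ⟨g, Subgroup.mem_sup_left hg⟩ = μ i ⟨g, hg⟩) ∧
        (∀ (g : ↥(Matrix.symplecticGroup (Fin n) F)) (hg : g ∈ M i'), Ψ ⟨g, Subgroup.mem_sup_right hg⟩ = μ i' ⟨g, hg⟩))
    (hMS : ∀ i j : Fin n, (i : ℕ) + 1 < n → ∃ Ψ : ↥(M i ⊔ S j) →* H,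
      (∀ (g : ↥(Matrix.symplecticGroup (Fin n) F)) (hg : g ∈ M i), Ψ ⟨g, Subgroup.mem_sup_left hg⟩ = μ i ⟨g, hg⟩) ∧
        (∀ (g : ↥(Matrix.symplecticGroup (Fin n) F)) (hg : g ∈ S j), Ψ ⟨g, Subgroup.mem_sup_right hg⟩ = σ j ⟨g, hg⟩)) :
    ∃! Φ : ↥(Matrix.symplecticGroup (Fin n) F) →* H,
      (∀ (j : Fin n) (g : ↥(Matrix.symplecticGroup (Fin n) F)) (hg : g ∈ S j), Φ g = σ j ⟨g, hg⟩) ∧
        (∀ (i : Fin n), (i : ℕ) + 1 < n → ∀ (g : ↥(Matrix.symplecticGroup (Fin n) F)) (hg : g ∈ M i), Φ g = μ i ⟨g, hg⟩) := by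
  have hS' : S = fun j => CfsgLib.SpPres.mem' (Sum.inl j) := funext hS
  subst hS'
  have hM' : ∀ i : {i : Fin n // (i : ℕ) + 1 < n}, CfsgLib.SpPres.mem' (Sum.inr i) = M i.1 :=
    fun i => (hM i.1 i.2).symm
  let f : ∀ k : CfsgLib.SpPres.Idx n, ↥(CfsgLib.SpPres.mem' (F := F) k) →* H := fun k =>
    match k with
    | Sum.inl j => σ j
    | Sum.inr i => (μ i.1).comp (Subgroup.inclusion (hM' i).le)
  have fM : ∀ (i : {i : Fin n // (i : ℕ) + 1 < n}) g hg,
      f (Sum.inr i) ⟨g, hg⟩ = μ i.1 ⟨g, (hM' i).le hg⟩ := fun _ _ _ => rfl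
  obtain ⟨Φ, hΦ⟩ := CfsgLib.SpPres.exists_completion hF n f (by
    rintro (j | i) (l | i')
    · by_cases h : j = l
      · subst h
        exact ⟨(σ j).comp (Subgroup.inclusion (sup_idem _).le), fun g hg => rfl, fun g hg => rfl⟩
      · exact hSS j l h
    · obtain ⟨Ψ, h1, h2⟩ := hMS i'.1 j i'.2
      exact ⟨Ψ.comp (Subgroup.inclusion (by rw [sup_comm, hM' i'])),
        fun g hg => h2 g hg, fun g hg => h1 g _⟩
    · obtain ⟨Ψ, h1, h2⟩ := hMS i.1 l i.2
      exact ⟨Ψ.comp (Subgroup.inclusion (by rw [hM' i])), fun g hg => h1 g _, fun g hg => h2 g hg⟩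
    · by_cases h : i = i'
      · subst h
        exact ⟨(f (Sum.inr i)).comp (Subgroup.inclusion (sup_idem _).le), fun g hg => rfl, fun g hg => rfl⟩
      · obtain ⟨Ψ, h1, h2⟩ := hMM i.1 i'.1 (fun e => h (Subtype.ext e)) i.2 i'.2
        exact ⟨Ψ.comp (Subgroup.inclusion (by rw [hM' i, hM' i'])), fun g hg => h1 g _, fun g hg => h2 g _⟩)
  refine ⟨Φ, ⟨fun j g hg => hΦ (Sum.inl j) g hg, fun i hi g hg => hΦ (Sum.inr ⟨i, hi⟩) g ((hM' ⟨i, hi⟩).ge hg)⟩,
    fun Φ' h' => MonoidHom.ext fun g => ?_⟩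
  have hg : g ∈ ⨆ k, CfsgLib.SpPres.mem' (F := F) (n := n) k := by
    rw [CfsgLib.SpPres.iSup_mem']; trivial
  refine Subgroup.iSup_induction (fun k => CfsgLib.SpPres.mem' (F := F) (n := n) k) (C := fun g => Φ' g = Φ g)
    hg (fun k x hx => ?_) (by simp) (fun x y hx hy => by rw [map_mul, map_mul, hx, hy])
  rcases k with j | i
  · rw [hΦ _ x hx, h'.1 j x hx]
  · rw [hΦ _ x hx, h'.2 i.1 i.2 x ((hM' i).le hx)]; rfl

end Cfsg.Agent.S3713
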