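import Cfsg.Statements.S3718
import Cfsg.Agent.OneComp.Lists
import Cfsg.Agent.S0252
import Cfsg.Agent.S0253
import Mathlib.Algebra.Field.ZMod

set_option autoImplicit false
open Cfsg

namespace Cfsg.Agent.S3718

/-- Let G be a finite simple group whose set of element orders contains at most one composite number (at most one element order that is neither 1 nor a prime). Then G is cyclic of prime order, or isomorphic to PSL₂(q) for q ∈ {5, 7, 8, 9, 11, 13, 16}, to PSL₃(4), to the Suzuki group Sz(8), to PSL₂(3ⁿ) with (3ⁿ − 1)/2 and (3ⁿ + 1)/4 both prime, or to PSL₂(2ⁿ) with 2ⁿ − 1 and (2ⁿ + 1)/3 both prime. -/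
theorem result {G : Type*} [Group G] [Finite G] [IsSimpleGroup G]
    (h1 : {n : ℕ | n ∈ Set.range (orderOf : G → ℕ) ∧ 1 < n ∧ ¬ n.Prime}.Subsingleton) :
    (Nat.card G).Prime ∨
    (∃ (F : Type) (_ : Field F) (_ : Fintype F), (Fintype.card F = 5 ∨ Fintype.card F = 7 ∨ Fintype.card F = 8 ∨ Fintype.card F = 9 ∨
        Fintype.card F = 11 ∨ Fintype.card F = 13 ∨ Fintype.card F = 16) ∧ Nonempty (G ≃* Matrix.ProjectiveSpecialLinearGroup (Fin 2) F)) ∨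
    (∃ (F : Type) (_ : Field F) (_ : Fintype F), Fintype.card F = 4 ∧ Nonempty (G ≃* Matrix.ProjectiveSpecialLinearGroup (Fin 3) F)) ∨
    (∃ (F : Type) (_ : Field F) (_ : Fintype F), Fintype.card F = 8 ∧ Nonempty (G ≃* ↥(Cfsg.Lie.Sz F 4))) ∨
    (∃ (F : Type) (_ : Field F) (_ : Fintype F), ∃ n r s : ℕ, r.Prime ∧ s.Prime ∧ 3 ^ n - 1 = 2 * r ∧ 3 ^ n + 1 = 4 * s ∧
        Fintype.card F = 3 ^ n ∧ Nonempty (G ≃* Matrix.ProjectiveSpecialLinearGroup (Fin 2) F)) ∨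
    (∃ (F : Type) (_ : Field F) (_ : Fintype F), ∃ n r : ℕ, (2 ^ n - 1).Prime ∧ r.Prime ∧ 2 ^ n + 1 = 3 * r ∧
        Fintype.card F = 2 ^ n ∧ Nonempty (G ≃* Matrix.ProjectiveSpecialLinearGroup (Fin 2) F)) := by
  classical
  have hone : CfsgLib.OneComp.OneComposite G := fun x y hx hxp hy hyp =>
    h1 ⟨⟨x, rfl⟩, hx, hxp⟩ ⟨⟨y, rfl⟩, hy, hyp⟩
  by_cases hs : Group.IsSolvable G
  · left
    have hc : ∀ a b : G, a * b = b * a := fun a b =>
      IsSimpleGroup.comm_iff_isSolvable.2 hs a b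
    letI : CommGroup G := { (inferInstance : Group G) with mul_comm := hc }
    exact IsSimpleGroup.prime_card
  right
  rcases hone.hyp_or_cit with hcit | ⟨p, hp, hord, x, hx⟩
  · rcases CfsgLib.CIT.simple_cit hcit hs with ⟨F, iF, iFF, hq, ⟨e⟩⟩ | ⟨F, iF, iFF, hq, he⟩ | hsz
    · rcases hq with hq | ⟨n, hn⟩ | ⟨-, k, hk⟩
      · exact Or.inl ⟨F, iF, iFF, by omega, ⟨e⟩⟩
      · rcases hone.psl_two_list hs e hn with rfl | rfl | rfl | ⟨hm, r, hr, hnr⟩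
        · haveI : Fact (Nat.Prime 5) := ⟨by norm_num⟩
          obtain ⟨f⟩ := Cfsg.Agent.S0252.result (F := F) (hn.trans (by norm_num))
          obtain ⟨g⟩ := Cfsg.Agent.S0253.result (F := ZMod 5) (ZMod.card 5)
          exact Or.inl ⟨ZMod 5, inferInstance, inferInstance, Or.inl (ZMod.card 5), ⟨(e.trans f).trans g.symm⟩⟩
        · exact Or.inl ⟨F, iF, iFF, by omega, ⟨e⟩⟩
        · exact Or.inl ⟨F, iF, iFF, by omega, ⟨e⟩⟩
        · exact Or.inr (Or.inr (Or.inr (Or.inr ⟨F, iF, iFF, n, r, hm, hr, hnr, hn, ⟨e⟩⟩)))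
      · rcases hone.psl_fermat_list hs e hk with hq | hq | hq <;>
          exact Or.inl ⟨F, iF, iFF, by omega, ⟨e⟩⟩
    · exact Or.inr (Or.inl ⟨F, iF, iFF, hq, he⟩)
    · obtain ⟨F, iF, iFF, m, hm, hF, ⟨e⟩⟩ := hsz
      obtain rfl := hone.suzuki_list hm hF e
      exact Or.inr (Or.inr (Or.inl ⟨F, iF, iFF, hF.trans (by norm_num), ⟨e⟩⟩))
  · obtain ⟨F, iF, iFF, hodd, ⟨e⟩⟩ := hp.psl hs hx
    rcases hp.psl_list hord hs e hodd with hq | hq | hq | hq | hq | ⟨n, r, s, hr, hsp, e1, e2, hq⟩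
    iterate 5 exact Or.inl ⟨F, iF, iFF, by omega, ⟨e⟩⟩
    exact Or.inr (Or.inr (Or.inr (Or.inl ⟨F, iF, iFF, n, r, s, hr, hsp, e1, e2, hq, ⟨e⟩⟩)))

end Cfsg.Agent.S3718
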