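import Cfsg.Statements.S3733
import Mathlib.Algebra.BigOperators.Group.Finset.Basic

set_option autoImplicit false
open Cfsg

namespace Cfsg.Agent.S3733

/-- Let A and V be subgroups of a finite group with V abelian and nontrivial and A normalizing V. Suppose a nonempty finite family of proper subgroups of A partitions A: every non-identity element of A lies in exactly one member. If the number of members minus one is coprime to the order of V, then some member B of the family has a non-identity fixed point on V, that is V ∩ C(B) ≠ 1. -/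
theorem result {G : Type*} [Group G] [Finite G] (A V : Subgroup G) (hVab : IsMulCommutative V) (hV : V ≠ ⊥) (hAV : A ≤ Subgroup.normalizer (V : Set G)) (𝒜 : Finset (Subgroup G)) (hne : 𝒜.Nonempty) (hprop : ∀ B ∈ 𝒜, B < A) (hpart : ∀ a ∈ A, a ≠ 1 → ∃! B, B ∈ 𝒜 ∧ a ∈ B) (hk : (𝒜.card - 1).Coprime (Nat.card V)) : ∃ B ∈ 𝒜, V ⊓ Subgroup.centralizer (B : Set G) ≠ ⊥ := by
  classical
  by_contra! hno
  haveI := Fintype.ofFinite G
  letI : CommGroup V :=
    { (inferInstance : Group V) with mul_comm := fun a b => hVab.is_comm.comm a b }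
  obtain ⟨v, hv, hv1⟩ := V.bot_or_exists_ne_one.resolve_left hV
  let f : G → V := fun g => if h : g ∈ A then
    ⟨g * v * g⁻¹, (Subgroup.mem_normalizer_iff.1 (hAV h) v).1 hv⟩ else 1
  have hf : ∀ g ∈ A, (f g : G) = g * v * g⁻¹ := fun g hg => by simp [f, hg]
  have hfix : ∀ (B : Subgroup G), B ≤ A → ∀ b ∈ B, ∀ g ∈ B,
      b * (f g : G) * b⁻¹ = (f (b * g) : G) := fun B hB b hb g hg => by
    rw [hf g (hB hg), hf _ (hB (B.mul_mem hb hg))]; group
  have hnorm : ∀ B ∈ 𝒜, ∀ S : Finset G, (∀ g, g ∈ S ↔ g ∈ B) → ∏ g ∈ S, f g = 1 := by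
    intro B hB S hS
    have hBA : B ≤ A := (hprop B hB).le
    have hmem : ((∏ g ∈ S, f g : V) : G) ∈ V ⊓ Subgroup.centralizer (B : Set G) := by
      refine ⟨(∏ g ∈ S, f g).2, Subgroup.mem_centralizer_iff.2 fun b hb => ?_⟩
      let c : V →* V := MonoidHom.mk' (fun x => ⟨b * x * b⁻¹,
        (Subgroup.mem_normalizer_iff.1 (hAV (hBA hb)) _).1 x.2⟩) fun x y => Subtype.ext (by
          simp [mul_assoc])
      have h1 : c (∏ g ∈ S, f g) = ∏ g ∈ S, f g := by
        rw [map_prod]
        refine Finset.prod_equiv (Equiv.mulLeft b) (fun g => ?_) (fun g hg => Subtype.ext ?_)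
        · rw [hS, hS]
          exact (B.mul_mem_cancel_left hb).symm
        · exact hfix B hBA b hb g ((hS g).1 hg)
      have h2 := congrArg Subtype.val h1
      exact mul_inv_eq_iff_eq_mul.1 h2
    rw [hno B hB, Subgroup.mem_bot] at hmem
    exact Subtype.ext hmem
  have hcount : ∀ g : G, (𝒜.filter (fun B => g ∈ B)).card =
      (if g = 1 then 𝒜.card - 1 else 0) + (if g ∈ A then 1 else 0) := by
    intro g
    by_cases hg1 : g = 1
    · subst hg1
      rw [Finset.filter_true_of_mem (fun B _ => B.one_mem), if_pos rfl, if_pos A.one_mem]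
      have := hne.card_pos
      omega
    rw [if_neg hg1, zero_add]
    by_cases hgA : g ∈ A
    · obtain ⟨B, hB, huniq⟩ := hpart g hgA hg1
      rw [if_pos hgA, Finset.card_eq_one]
      exact ⟨B, by
        ext C
        simp only [Finset.mem_filter, Finset.mem_singleton]
        exact ⟨fun h => huniq C h, fun h => h ▸ hB⟩⟩
    · rw [if_neg hgA, Finset.card_eq_zero, Finset.filter_eq_empty_iff]
      exact fun B hB h => hgA ((hprop B hB).le h)
  have h1 : ∏ B ∈ 𝒜, ∏ g : G with g ∈ B, f g = 1 :=
    Finset.prod_eq_one fun B hB => hnorm B hB _ fun g => by simp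
  have h2 : ∏ B ∈ 𝒜, ∏ g : G with g ∈ B, f g =
      f 1 ^ (𝒜.card - 1) * ∏ g : G with g ∈ A, f g := by
    simp only [Finset.prod_filter]
    rw [Finset.prod_comm]
    simp only [Finset.prod_ite, Finset.prod_const_one, mul_one, Finset.prod_const, hcount, pow_add]
    rw [Finset.prod_mul_distrib]
    congr 1
    · rw [Finset.prod_eq_single (1 : G) (fun g _ hg => by rw [if_neg hg, pow_zero])
        (fun h => absurd (Finset.mem_univ _) h), if_pos rfl]
    · rw [Finset.prod_filter]
      refine Finset.prod_congr rfl fun g _ => ?_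
      split_ifs <;> simp
  obtain ⟨B, hB⟩ := hne
  have h3 : ∏ g : G with g ∈ A, f g = 1 := by
    have hmem : ((∏ g : G with g ∈ A, f g : V) : G) ∈ V ⊓ Subgroup.centralizer (B : Set G) := by
      refine ⟨(∏ g : G with g ∈ A, f g).2, Subgroup.mem_centralizer_iff.2 fun b hb => ?_⟩
      have hbA : b ∈ A := (hprop B hB).le hb
      let c : V →* V := MonoidHom.mk' (fun x => ⟨b * x * b⁻¹,
        (Subgroup.mem_normalizer_iff.1 (hAV hbA) _).1 x.2⟩) fun x y => Subtype.ext (by
          simp [mul_assoc])
      have h1 : c (∏ g : G with g ∈ A, f g) = ∏ g : G with g ∈ A, f g := by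
        rw [map_prod]
        refine Finset.prod_equiv (Equiv.mulLeft b) (fun g => ?_) (fun g hg => Subtype.ext ?_)
        · simp [A.mul_mem_cancel_left hbA]
        · exact hfix A le_rfl b hbA g (by simpa using hg)
      exact mul_inv_eq_iff_eq_mul.1 (congrArg Subtype.val h1)
    rw [hno B hB, Subgroup.mem_bot] at hmem
    exact Subtype.ext hmem
  rw [h2, h3, mul_one] at h1
  have hf1 : (f 1 : G) = v := by rw [hf 1 A.one_mem]; group
  have h4 : f 1 = 1 := (powCoprime (G := V) hk.symm).injective (by simpa using h1)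
  exact hv1 (by rw [← hf1, h4]; rfl)

end Cfsg.Agent.S3733
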