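import Cfsg.Statements.S3734
import Cfsg.Agent.Coprime.Generation
import Cfsg.Agent.Solvable.CoprimeAct

set_option autoImplicit false
open Cfsg
open scoped commutatorElement

namespace Cfsg.Agent.S3734

/-- Let A and G be subgroups of a finite group with A abelian, A normalizing G and the orders of A and G coprime. Then G is generated by the fixed-point subgroups C_G(B) of those subgroups B of A for which A/B is cyclic (that is, A = ⟨B, a⟩ for some a), and [G, A] is generated by the commutator subgroups [C_G(B), A] over the same subgroups B. -/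
theorem result {X : Type*} [Group X] [Finite X] (A G : Subgroup X) (hAab : IsMulCommutative A) (hAG : A ≤ Subgroup.normalizer (G : Set X)) (hcop : (Nat.card A).Coprime (Nat.card G)) : (⨆ B ∈ {B : Subgroup X | B ≤ A ∧ ∃ a ∈ A, B ⊔ Subgroup.zpowers a = A}, G ⊓ Subgroup.centralizer (B : Set X)) = G ∧ (⨆ B ∈ {B : Subgroup X | B ≤ A ∧ ∃ a ∈ A, B ⊔ Subgroup.zpowers a = A}, ⁅G ⊓ Subgroup.centralizer (B : Set X), A⁆) = ⁅G, A⁆ := by
  classical
  haveI := hAab
  have hAcomm : ∀ a ∈ A, ∀ b ∈ A, a * b = b * a := fun a ha b hb =>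
    congrArg Subtype.val (hAab.is_comm.comm (⟨a, ha⟩ : A) ⟨b, hb⟩)
  set T := {B : Subgroup X | B ≤ A ∧ ∃ a ∈ A, B ⊔ Subgroup.zpowers a = A}
  have hAC : ∀ B : Subgroup X, B ≤ A →
      A ≤ Subgroup.normalizer ((G ⊓ Subgroup.centralizer (B : Set X) : Subgroup X) : Set X) := by
    intro B hB a ha
    refine Subgroup.mem_normalizer_iff.2 fun x => ?_
    refine and_congr (Subgroup.mem_normalizer_iff.1 (hAG ha) x) ?_
    simp only [Subgroup.coe_toSubmonoid, SetLike.mem_coe, Subgroup.mem_centralizer_iff]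
    refine forall₂_congr fun b hb => ?_
    have e : b * a = a * b := hAcomm b (hB hb) a ha
    constructor
    · intro h
      calc b * (a * x * a⁻¹) = a * (b * x) * a⁻¹ := by
            rw [← mul_assoc, ← mul_assoc, e]; group
        _ = a * x * (b * a⁻¹) := by rw [h]; group
        _ = a * x * a⁻¹ * b := by
            rw [hAcomm b (hB hb) a⁻¹ (inv_mem ha)]; group
    · intro h
      have h1 : a * (b * x) * a⁻¹ = a * (x * b) * a⁻¹ := by
        calc a * (b * x) * a⁻¹ = b * (a * x * a⁻¹) := by rw [← mul_assoc a b, ← e]; group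
          _ = a * x * (a⁻¹ * b) := by rw [h]; group
          _ = a * (x * b) * a⁻¹ := by rw [← hAcomm b (hB hb) a⁻¹ (inv_mem ha)]; group
      exact mul_left_cancel (mul_right_cancel h1)
  have hgen : ∀ (n : ℕ) (B : Subgroup X), B ≤ A → Nat.card A - Nat.card B = n →
      G ⊓ Subgroup.centralizer (B : Set X) ≤
        ⨆ B' ∈ T, G ⊓ Subgroup.centralizer (B' : Set X) := by
    intro n
    induction n using Nat.strong_induction_on with
    | _ n ih =>
    intro B hB hn
    subst hn
    set C := G ⊓ Subgroup.centralizer (B : Set X) with hC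
    let ρ : A →* MulAut C := C.normalizerMonoidHom.comp (Subgroup.inclusion (hAC B hB))
    by_cases hcyc : IsCyclic ρ.range
    · obtain ⟨⟨g, a, rfl⟩, hg⟩ := hcyc.exists_generator
      set B' := ρ.ker.map A.subtype with hB'
      have hBB' : B' ∈ T := by
        refine ⟨Subgroup.map_subtype_le _, a, a.2, le_antisymm
          (sup_le (Subgroup.map_subtype_le _) (Subgroup.zpowers_le.2 a.2)) fun y hy => ?_⟩
        obtain ⟨i, hi⟩ := Subgroup.mem_zpowers_iff.1 (hg ⟨ρ ⟨y, hy⟩, ⟨y, hy⟩, rfl⟩)
        have hmem : (⟨y, hy⟩ : A) * (a ^ i)⁻¹ ∈ ρ.ker := by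
          rw [MonoidHom.mem_ker, map_mul, map_inv, map_zpow, mul_inv_eq_one]
          exact (congrArg Subtype.val hi).symm
        have hy' : y = ((⟨y, hy⟩ * (a ^ i)⁻¹ : A) : X) * (a : X) ^ i := by
          push_cast; group
        rw [hy']
        exact mul_mem (Subgroup.mem_sup_left ⟨_, hmem, rfl⟩)
          (Subgroup.mem_sup_right ⟨i, rfl⟩)
      refine le_trans ?_ (le_iSup₂_of_le B' hBB' le_rfl)
      intro x hx
      refine ⟨hx.1, Subgroup.mem_centralizer_iff.2 ?_⟩
      rintro _ ⟨b, hb, rfl⟩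
      have h1 : ((ρ b ⟨x, hx⟩ : C) : X) = x := by
        rw [(MonoidHom.mem_ker).1 hb]; rfl
      exact mul_inv_eq_iff_eq_mul.1 h1
    · letI : MulDistribMulAction ρ.range C := MulDistribMulAction.compHom C ρ.range.subtype
      letI : CommGroup ρ.range :=
        { (inferInstance : Group ρ.range) with
          mul_comm := fun u v => by
            obtain ⟨_, a, rfl⟩ := u
            obtain ⟨_, b, rfl⟩ := v
            exact Subtype.ext (by
              show ρ a * ρ b = ρ b * ρ a
              rw [← map_mul, ← map_mul, show a * b = b * a from Subtype.ext (hAcomm a a.2 b b.2)]) }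
      have hfix := CfsgLib.Coprime.closure_fixed_eq_top (G := C) (A := ρ.range) hcyc
        ((hcop.coprime_dvd_left (Subgroup.card_range_dvd ρ)).coprime_dvd_right
          (Subgroup.card_dvd_of_le inf_le_left))
      intro x hx
      have hx' : (⟨x, hx⟩ : C) ∈ (⊤ : Subgroup C) := Subgroup.mem_top _
      rw [← hfix] at hx'
      have hle : Subgroup.closure {g : C | ∃ u : ρ.range, u ≠ 1 ∧ u • g = g} ≤
          (⨆ B' ∈ T, G ⊓ Subgroup.centralizer (B' : Set X)).comap C.subtype := by
        rw [Subgroup.closure_le]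
        rintro y ⟨⟨u, a, rfl⟩, hu, huy⟩
        have hya : (a : X) * y * (a : X)⁻¹ = y := congrArg Subtype.val huy
        have haB : (a : X) ∉ B := by
          intro haB
          refine hu (Subtype.ext ?_)
          refine MulEquiv.ext fun z => Subtype.ext ?_
          show (a : X) * z * (a : X)⁻¹ = z
          rw [Subgroup.mem_centralizer_iff.1 z.2.2 _ haB, mul_inv_cancel_right]
        set B' := B ⊔ Subgroup.zpowers (a : X) with hB'
        have hB'A : B' ≤ A := sup_le hB (Subgroup.zpowers_le.2 a.2)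
        have hlt : B < B' := lt_of_le_of_ne le_sup_left fun he =>
          haB (he.ge (Subgroup.mem_sup_right (Subgroup.mem_zpowers _)))
        have h1 := CfsgLib.Solvable.card_lt_of_lt hlt
        have h2 : Nat.card B' ≤ Nat.card A := Nat.le_of_dvd Nat.card_pos (Subgroup.card_dvd_of_le hB'A)
        refine ih _ (by omega) B' hB'A rfl ⟨y.2.1, ?_⟩
        have hcl : B' ≤ Subgroup.centralizer ({(y : X)} : Set X) := sup_le
          (fun b hb => Subgroup.mem_centralizer_singleton_iff.2
            (Subgroup.mem_centralizer_iff.1 y.2.2 b hb))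
          (Subgroup.zpowers_le.2 (Subgroup.mem_centralizer_singleton_iff.2
            (mul_inv_eq_iff_eq_mul.1 hya)))
        exact Subgroup.mem_centralizer_iff.2 fun b hb =>
          Subgroup.mem_centralizer_singleton_iff.1 (hcl hb)
      exact hle hx'
  have h1 : (⨆ B ∈ T, G ⊓ Subgroup.centralizer (B : Set X)) = G := by
    refine le_antisymm (iSup₂_le fun _ _ => inf_le_left) ?_
    refine le_trans ?_ (hgen _ ⊥ bot_le rfl)
    intro x hx
    refine ⟨hx, Subgroup.mem_centralizer_iff.2 fun b hb => ?_⟩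
    rw [SetLike.mem_coe, Subgroup.mem_bot] at hb
    simp [hb]
  refine ⟨h1, le_antisymm (iSup₂_le fun B _ => Subgroup.commutator_mono inf_le_left le_rfl) ?_⟩
  set S := ⨆ B ∈ T, ⁅G ⊓ Subgroup.centralizer (B : Set X), A⁆ with hS
  set C0 := G ⊓ Subgroup.centralizer (A : Set X) with hC0
  have hmapS : ∀ c : X, (∀ B ∈ T, (G ⊓ Subgroup.centralizer (B : Set X)).map
      (MulAut.conj c : X →* X) = G ⊓ Subgroup.centralizer (B : Set X)) →
      A.map (MulAut.conj c : X →* X) = A → c ∈ Subgroup.normalizer (S : Set X) := by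
    intro c hc hcA
    rw [Subgroup.mem_normalizer_iff_map_conj_eq, hS, Subgroup.map_iSup]
    refine iSup_congr fun B => ?_
    rw [Subgroup.map_iSup]
    refine iSup_congr fun hB => ?_
    rw [Subgroup.map_commutator, hc B hB, hcA]
  have hAS : A ≤ Subgroup.normalizer (S : Set X) := fun a ha => hmapS a
    (fun B hB => Subgroup.mem_normalizer_iff_map_conj_eq.1 (hAC B hB.1 ha))
    (Subgroup.mem_normalizer_iff_map_conj_eq.1 (Subgroup.le_normalizer ha))
  have hC0S : C0 ≤ Subgroup.normalizer (S : Set X) := by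
    intro c hc
    have hcc : ∀ a ∈ A, c * a * c⁻¹ = a := fun a ha => by
      rw [← Subgroup.mem_centralizer_iff.1 hc.2 a ha, mul_inv_cancel_right]
    refine hmapS c (fun B hB => ?_) ?_
    · refine CfsgLib.Solvable.eq_of_le_of_card_le ?_
        (Subgroup.card_map_of_injective (f := (MulAut.conj c : X →* X))
          (MulAut.conj c).injective).ge
      have hcB : c ∈ G ⊓ Subgroup.centralizer (B : Set X) :=
        ⟨hc.1, Subgroup.mem_centralizer_iff.2 fun b hb => Subgroup.mem_centralizer_iff.1 hc.2 b (hB.1 hb)⟩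
      rintro _ ⟨x, hx, rfl⟩
      exact mul_mem (mul_mem hcB hx) (inv_mem hcB)
    · refine CfsgLib.Solvable.eq_of_le_of_card_le ?_
        (Subgroup.card_map_of_injective (f := (MulAut.conj c : X →* X))
          (MulAut.conj c).injective).ge
      rintro _ ⟨a, ha, rfl⟩
      show c * a * c⁻¹ ∈ A
      rwa [hcc a ha]
  haveI : Group.IsSolvable A := Group.isSolvable_of_comm fun a b => Subtype.ext (hAcomm a a.2 b b.2)
  have hGle : G ≤ S ⊔ C0 := by
    rw [← h1]
    refine iSup₂_le fun B hB => ?_
    rw [← CfsgLib.CoprimeAct.commutator_sup_centralizer (hAC B hB.1)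
      (hcop.coprime_dvd_right (Subgroup.card_dvd_of_le inf_le_left)) (Or.inl inferInstance)]
    exact sup_le (le_trans (le_iSup₂_of_le (f := fun B (_ : B ∈ T) => ⁅G ⊓ Subgroup.centralizer (B : Set X), A⁆) B hB le_rfl) le_sup_left)
      (le_trans (inf_le_inf_right _ inf_le_left) le_sup_right)
  rw [Subgroup.commutator_le]
  intro g hg a ha
  obtain ⟨c, hc, s, hs, rfl⟩ := (CfsgLib.Solvable.mem_sup_of_le_normalizer hC0S).1
    (by rw [sup_comm]; exact hGle hg)
  have e : ⁅c * s, a⁆ = c * ⁅s, a⁆ * c⁻¹ := by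
    have hca : c * a = a * c := (Subgroup.mem_centralizer_iff.1 hc.2 a ha).symm
    calc ⁅c * s, a⁆ = c * s * a * s⁻¹ * (c⁻¹ * a⁻¹) := by
          simp only [commutatorElement_def]; group
      _ = c * s * a * s⁻¹ * (a⁻¹ * c⁻¹) := by rw [← mul_inv_rev, ← mul_inv_rev, ← hca]
      _ = c * ⁅s, a⁆ * c⁻¹ := by simp only [commutatorElement_def]; group
  rw [e]
  refine (Subgroup.mem_normalizer_iff.1 (hC0S hc) _).1 ?_
  rw [commutatorElement_def, mul_assoc, mul_assoc, ← mul_assoc a]
  exact mul_mem hs ((Subgroup.mem_normalizer_iff.1 (hAS ha) _).1 (inv_mem hs))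

end Cfsg.Agent.S3734
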