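import Cfsg.Statements.S3735
import Cfsg.Agent.Solvable.Basics

set_option autoImplicit false
open Cfsg

namespace Cfsg.Agent.S3735

/-- Clifford's Theorem for actions on finite abelian groups, first part. Let H and V be subgroups of a finite group with V abelian and H normalizing V, and let A be a normal subgroup of H. If every H-invariant subgroup of V has an H-invariant complement in V, then every A-invariant subgroup of V has an A-invariant complement in V. -/
theorem result {G : Type*} [Group G] [Finite G] (H A V : Subgroup G) (hVab : IsMulCommutative V) (hHV : H ≤ Subgroup.normalizer (V : Set G)) (hAH : A ≤ H) (hAn : H ≤ Subgroup.normalizer (A : Set G)) (hss : ∀ U : Subgroup G, U ≤ V → H ≤ Subgroup.normalizer (U : Set G) → ∃ W : Subgroup G, W ≤ V ∧ H ≤ Subgroup.normalizer (W : Set G) ∧ U ⊓ W = ⊥ ∧ U ⊔ W = V) (U : Subgroup G) (hUV : U ≤ V) (hAU : A ≤ Subgroup.normalizer (U : Set G)) : ∃ W : Subgroup G, W ≤ V ∧ A ≤ Subgroup.normalizer (W : Set G) ∧ U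 ⊓ W = ⊥ ∧ U ⊔ W = V := by
  classical
  haveI := hVab
  have hcomm : ∀ a ∈ V, ∀ b ∈ V, a * b = b * a := fun a ha b hb =>
    congrArg Subtype.val (hVab.is_comm.comm (⟨a, ha⟩ : V) ⟨b, hb⟩)
  have hle_norm : ∀ X Y : Subgroup G, X ≤ V → Y ≤ V → X ≤ Subgroup.normalizer (Y : Set G) := by
    intro X Y hX hY x hx
    refine Subgroup.mem_normalizer_iff_map_conj_eq.2 (CfsgLib.Solvable.eq_of_le_of_card_le ?_
      (Subgroup.card_map_of_injective (f := (MulAut.conj x : G →* G)) (MulAut.conj x).injective).ge)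
    rintro _ ⟨y, hy, rfl⟩
    show x * y * x⁻¹ ∈ Y
    rwa [hcomm x (hX hx) y (hY hy), mul_inv_cancel_right]
  have hinv : ∀ {K X : Subgroup G}, K ≤ Subgroup.normalizer (X : Set G) → ∀ k ∈ K,
      X.map (MulAut.conj k : G →* G) = X := fun h k hk =>
    Subgroup.mem_normalizer_iff_map_conj_eq.1 (h hk)
  let IsMin : Subgroup G → Prop := fun S => S ≤ V ∧ S ≠ ⊥ ∧ A ≤ Subgroup.normalizer (S : Set G) ∧
    ∀ T : Subgroup G, T ≤ S → A ≤ Subgroup.normalizer (T : Set G) → T = ⊥ ∨ T = S
  have hconjmin : ∀ S, IsMin S → ∀ h ∈ H, IsMin (S.map (MulAut.conj h : G →* G)) := by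
    rintro S ⟨hSV, hS1, hAS, hmin⟩ h hh
    have key : ∀ T : Subgroup G, A ≤ Subgroup.normalizer (T : Set G) → ∀ k ∈ H,
        A ≤ Subgroup.normalizer ((T.map (MulAut.conj k : G →* G) : Subgroup G) : Set G) := by
      intro T hT k hk a ha
      have ha' : k⁻¹ * a * k ∈ A := by
        simpa using (Subgroup.mem_normalizer_iff.1 (hAn (inv_mem hk)) a).1 ha
      rw [Subgroup.mem_normalizer_iff_map_conj_eq, Subgroup.map_map]
      conv_rhs => rw [← hinv hT _ ha', Subgroup.map_map]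
      congr 1
      ext z
      simp [mul_assoc]
    refine ⟨?_, ?_, key S hAS h hh, fun T hTS hAT => ?_⟩
    · rw [← hinv hHV h hh]; exact Subgroup.map_mono hSV
    · exact fun he => hS1 ((Subgroup.map_eq_bot_iff_of_injective _ (MulAut.conj h).injective).1 he)
    · set T' := T.map (MulAut.conj h⁻¹ : G →* G) with hT'
      have hback : T'.map (MulAut.conj h : G →* G) = T := by
        rw [hT', Subgroup.map_map]
        convert Subgroup.map_id T using 2
        ext z
        simp [mul_assoc]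
      have hT'S : T' ≤ S := by
        rintro _ ⟨t, ht, rfl⟩
        obtain ⟨s, hs, hst⟩ := hTS ht
        rw [← hst]
        simpa [mul_assoc] using hs
      rcases hmin T' hT'S (key T hAT _ (inv_mem hh)) with he | he
      · left; rw [← hback, he, Subgroup.map_bot]
      · right; rw [← hback, he]
  have hexmin : ∀ W : Subgroup G, W ≤ V → W ≠ ⊥ → A ≤ Subgroup.normalizer (W : Set G) →
      ∃ S, IsMin S ∧ S ≤ W := by
    intro W hWV hW1 hAW
    obtain ⟨S, hS⟩ := (Set.toFinite {T : Subgroup G | T ≤ W ∧ T ≠ ⊥ ∧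
      A ≤ Subgroup.normalizer (T : Set G)}).exists_minimal ⟨W, le_rfl, hW1, hAW⟩
    refine ⟨S, ⟨hS.prop.1.trans hWV, hS.prop.2.1, hS.prop.2.2, fun T hTS hAT => ?_⟩, hS.prop.1⟩
    by_cases hT : T = ⊥
    · exact Or.inl hT
    · exact Or.inr (le_antisymm hTS (hS.2 ⟨hTS.trans hS.prop.1, hT, hAT⟩ hTS))
  set J := sSup {S : Subgroup G | IsMin S} with hJ
  have hJV : J ≤ V := sSup_le fun S hS => hS.1
  have hJtop : J = V := by
    have hHJ : H ≤ Subgroup.normalizer (J : Set G) := by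
      intro h hh
      refine Subgroup.mem_normalizer_iff_map_conj_eq.2 (CfsgLib.Solvable.eq_of_le_of_card_le ?_
        (Subgroup.card_map_of_injective (f := (MulAut.conj h : G →* G))
          (MulAut.conj h).injective).ge)
      rw [Subgroup.map_le_iff_le_comap]
      refine sSup_le fun S hS => ?_
      rw [← Subgroup.map_le_iff_le_comap]
      exact le_sSup (hconjmin S hS h hh)
    obtain ⟨W, hWV, hHW, hd, hs⟩ := hss J hJV hHJ
    by_cases hW : W = ⊥
    · rwa [hW, sup_bot_eq] at hs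
    obtain ⟨S, hS, hSW⟩ := hexmin W hWV hW (hAH.trans hHW)
    exact absurd (le_bot_iff.1 (hd ▸ le_inf (le_sSup hS) hSW)) hS.2.1
  obtain ⟨W, hW⟩ := (Set.toFinite {W : Subgroup G | W ≤ V ∧
    A ≤ Subgroup.normalizer (W : Set G) ∧ U ⊓ W = ⊥}).exists_maximal
    ⟨⊥, bot_le, fun a _ => by rw [Subgroup.normalizer_eq_top (H := (⊥ : Subgroup G))]; trivial, inf_bot_eq U⟩
  refine ⟨W, hW.prop.1, hW.prop.2.1, hW.prop.2.2, le_antisymm (sup_le hUV hW.prop.1) ?_⟩
  rw [← hJtop]
  refine sSup_le fun S hS => ?_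
  have hAUW : A ≤ Subgroup.normalizer ((U ⊔ W : Subgroup G) : Set G) := by
    intro a ha
    rw [Subgroup.mem_normalizer_iff_map_conj_eq, Subgroup.map_sup, hinv hAU a ha,
      hinv hW.prop.2.1 a ha]
  have hAS : A ≤ Subgroup.normalizer ((S ⊓ (U ⊔ W) : Subgroup G) : Set G) := by
    intro a ha
    rw [Subgroup.mem_normalizer_iff_map_conj_eq, Subgroup.map_inf _ _ _ (MulAut.conj a).injective,
      hinv hS.2.2.1 a ha, hinv hAUW a ha]
  rcases hS.2.2.2 _ inf_le_left hAS with h0 | h0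
  · exfalso
    have hAWS : A ≤ Subgroup.normalizer ((W ⊔ S : Subgroup G) : Set G) := by
      intro a ha
      rw [Subgroup.mem_normalizer_iff_map_conj_eq, Subgroup.map_sup, hinv hW.prop.2.1 a ha,
        hinv hS.2.2.1 a ha]
    have hd : U ⊓ (W ⊔ S) = ⊥ := by
      rw [eq_bot_iff]
      rintro x ⟨hxU, hxWS⟩
      obtain ⟨w, hw, s, hs, rfl⟩ := (CfsgLib.Solvable.mem_sup_of_le_normalizer
        (hle_norm W S hW.prop.1 hS.1)).1 hxWS
      have hs1 : s = 1 := by
        refine Subgroup.mem_bot.1 (h0 ▸ ⟨hs, ?_⟩)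
        have := mul_mem (Subgroup.mem_sup_right (inv_mem hw))
          (Subgroup.mem_sup_left (T := W) hxU)
        rwa [inv_mul_cancel_left] at this
      subst hs1
      rw [mul_one] at hxU ⊢
      rw [← hW.prop.2.2]
      exact ⟨hxU, hw⟩
    have hle := hW.2 (y := W ⊔ S) ⟨sup_le hW.prop.1 hS.1, hAWS, hd⟩ le_sup_left
    exact hS.2.1 (le_bot_iff.1 (h0 ▸ le_inf le_rfl ((le_sup_right.trans hle).trans le_sup_right)))
  · exact h0 ▸ inf_le_right

end Cfsg.Agent.S3735
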