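import Cfsg.Statements.S3737
import Cfsg.Agent.FGSA.BaerTrick
import Cfsg.Agent.FGSB.OrderPFix

set_option autoImplicit false
open Cfsg

namespace Cfsg.Agent.S3737

open scoped commutatorElement

/-- Thompson's strengthening of the P × Q lemma for odd primes. Let p be an odd prime and let P, Q and G be subgroups of a finite group with P a p-group, Q of order prime to p and normalized by P, and G a p-group normalized by both P and Q. If every element of G centralized by P is centralized by Q, then Q centralizes G. -/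
theorem result {X : Type*} [Group X] [Finite X] {p : ℕ} [Fact p.Prime] (hp : p ≠ 2) (P Q G : Subgroup X) (hP : IsPGroup p P) (hQ : (Nat.card Q).Coprime p) (hPQ : P ≤ Subgroup.normalizer (Q : Set X)) (hG : IsPGroup p G) (hPG : P ≤ Subgroup.normalizer (G : Set X)) (hQG : Q ≤ Subgroup.normalizer (G : Set X)) (hC : G ⊓ Subgroup.centralizer (P : Set X) ≤ Subgroup.centralizer (Q : Set X)) : Q ≤ Subgroup.centralizer (G : Set X) := by
  have hpp := (Fact.out : p.Prime)
  obtain ⟨C, hCG, hinv, hcl, hpow, hcrit⟩ := CfsgLib.OrderPFix.exists_critical_subgroup (p := p) hG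
  have hord : ∀ w ∈ Q, (orderOf w).Coprime p := fun w hw =>
    hQ.coprime_dvd_left (Subgroup.orderOf_dvd_natCard Q hw)
  have hcc : ∀ x y : C, ⁅x, y⁆ ∈ Subgroup.center C := fun x y =>
    hcl (Subgroup.commutator_mem_commutator (Subgroup.mem_top _) (Subgroup.mem_top _))
  -- the elements of order dividing `p` of `C`
  let W : Subgroup X :=
    { carrier := {x | x ∈ C ∧ x ^ p = 1}
      one_mem' := ⟨one_mem _, one_pow _⟩
      inv_mem' := fun {x} hx => ⟨inv_mem hx.1, by rw [inv_pow, hx.2, inv_one]⟩
      mul_mem' := fun {x y} hx hy => ⟨mul_mem hx.1 hy.1, by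
        have h := CfsgLib.OrderPFix.small_pow_mul hcl hpow (⟨x, hx.1⟩ : C) ⟨y, hy.1⟩
        rw [CfsgLib.OrderPFix.small, if_neg hp] at h
        have h' : (x * y) ^ p = x ^ p * y ^ p := congrArg Subtype.val h
        rw [h', hx.2, hy.2, one_mul]⟩ }
  have hWinv : ∀ g ∈ Subgroup.normalizer (G : Set X), g ∈ Subgroup.normalizer (W : Set X) := by
    intro g hg
    rw [Subgroup.mem_normalizer_iff]
    refine fun x => ⟨fun hx => ⟨hinv g hg x hx.1, by rw [conj_pow, hx.2]; group⟩, fun hx => ⟨?_, ?_⟩⟩
    · simpa [mul_assoc] using hinv g⁻¹ (inv_mem hg) _ hx.1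
    · have h := hx.2
      rw [conj_pow] at h
      simpa [mul_inv_eq_one] using h
  have hPW : P ≤ Subgroup.normalizer (W : Set X) := fun a ha => hWinv a (hPG ha)
  have hQW : Q ≤ Subgroup.normalizer (W : Set X) := fun a ha => hWinv a (hQG ha)
  set M := Subgroup.normalizer (W : Set X) with hM
  let _ : MulDistribMulAction M W := MulDistribMulAction.compHom W W.normalizerMonoidHom
  have hsmul : ∀ (g : M) (x : W), ((g • x : W) : X) = (g : X) * x * (g : X)⁻¹ := fun g x => rfl
  have key : ∀ v : W, ∀ q ∈ Q.subgroupOf M, q • v = v := by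
    refine CfsgLib.BaerTrick.smul_eq_of_classTwo (p := p) (hpp.odd_of_ne_two hp) ?_ ?_
      (P.subgroupOf M) _ (hP.of_equiv (Subgroup.subgroupOfEquivOfLe hPW).symm) ?_ ?_ ?_
    · intro x y z
      refine Subtype.ext ?_
      have h := Subgroup.mem_center_iff.1 (hcc ⟨x, x.2.1⟩ ⟨y, y.2.1⟩) ⟨z, z.2.1⟩
      exact (congrArg Subtype.val h).symm
    · exact fun x => Subtype.ext x.2.2
    · rw [Nat.card_congr (Subgroup.subgroupOfEquivOfLe hQW).toEquiv]; exact hQ
    · intro a ha
      rw [Subgroup.mem_normalizer_iff]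
      exact fun q => Subgroup.mem_normalizer_iff.1 (hPQ ha) q
    · intro v hv q hq
      have hvP : (v : X) ∈ Subgroup.centralizer (P : Set X) := by
        rw [Subgroup.mem_centralizer_iff]
        intro a ha
        have h := congrArg Subtype.val (hv ⟨a, hPW ha⟩ ha)
        rw [hsmul] at h
        exact mul_inv_eq_iff_eq_mul.1 h
      have h := Subgroup.mem_centralizer_iff.1 (hC ⟨hCG v.2.1, hvP⟩) q hq
      refine Subtype.ext ?_
      rw [hsmul]
      exact mul_inv_eq_iff_eq_mul.2 h
  have hCcomm : ∀ w ∈ Q, ∀ c ∈ C, Commute w c := fun w hw =>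
    CfsgLib.OrderPFix.commute_of_class_two (hG.to_le hCG) hcl hpow (hord w hw) (hinv w (hQG hw))
      fun t ht hts => by
        have ht' : t ^ p = 1 := by
          rcases hts with h | ⟨h, -⟩
          · rw [← h, pow_orderOf_eq_one]
          · exact absurd h hp
        have h := congrArg Subtype.val (key ⟨t, ht, ht'⟩ ⟨w, hQW hw⟩ hw)
        rw [hsmul] at h
        exact mul_inv_eq_iff_eq_mul.1 h
  intro w hw
  rw [Subgroup.mem_centralizer_iff]
  exact fun t ht => (hcrit w (hQG hw) (hord w hw) (hCcomm w hw) t ht).eq.symm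

end Cfsg.Agent.S3737
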