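import Cfsg.Statements.S3739
import Cfsg.Agent.FGSA.QuadMap
import Cfsg.Agent.Kinf.Critical
import Cfsg.Agent.Solvable.PGroupBasic
import Mathlib.GroupTheory.Perm.Cycle.Type

set_option autoImplicit false
set_option linter.style.haveILetI false
open Cfsg

namespace Cfsg.Agent.S3739

open Subgroup
open scoped commutatorElement

theorem exhaust {V : Type*} [Group V] [Finite V] (h4 : Nat.card V = 4) {a b : V} (ha2 : a * a = 1)
    (ha : a ≠ 1) (hb : b ≠ 1) (hab : a ≠ b) (x : V) : x = 1 ∨ x = a ∨ x = b ∨ x = a * b := by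
  classical
  haveI := Fintype.ofFinite V
  have h1 : a * b ≠ 1 := fun h => hab ((mul_left_cancel (ha2.trans h.symm)))
  have h2 : a * b ≠ a := fun h => hb (mul_left_cancel (h.trans (mul_one a).symm))
  have h3 : a * b ≠ b := fun h => ha (mul_right_cancel (h.trans (one_mul b).symm))
  have hs : ({1, a, b, a * b} : Finset V) = Finset.univ := by
    refine Finset.eq_univ_of_card _ ?_
    rw [← Nat.card_eq_fintype_card, h4, Finset.card_insert_of_notMem, Finset.card_insert_of_notMem,
      Finset.card_pair h3.symm]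
    · simp [hab, h2.symm]
    · simp [ha.symm, hb.symm, h1.symm]
  have := Finset.mem_univ x
  rw [← hs] at this
  simpa using this

theorem aut_eq_one_of_fix {V : Type*} [Group V] [Finite V] (h4 : Nat.card V = 4)
    (h2 : ∀ v : V, v * v = 1) {f : MulAut V} {a b : V} (ha : a ≠ 1) (hb : b ≠ 1) (hab : a ≠ b)
    (hfa : f a = a) (hfb : f b = b) : f = 1 := by
  ext x
  rcases exhaust h4 (h2 a) ha hb hab x with rfl | rfl | rfl | rfl <;>
    simp [map_mul, hfa, hfb]

theorem aut_three_fix {V : Type*} [Group V] [Finite V] (h4 : Nat.card V = 4)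
    (h2 : ∀ v : V, v * v = 1) {f : MulAut V} (hf : f ^ 3 = 1) {a : V} (ha : a ≠ 1) (hfa : f a = a) :
    f = 1 := by
  by_contra hne
  have hnx : ∀ b, b ≠ 1 → b ≠ a → f b ≠ b := fun b hb hba h =>
    hne (aut_eq_one_of_fix h4 h2 ha hb (Ne.symm hba) hfa h)
  haveI : Nontrivial V := Finite.one_lt_card_iff_nontrivial.1 (by omega)
  obtain ⟨b, hb, hba⟩ : ∃ b : V, b ≠ 1 ∧ b ≠ a := by
    classical
    haveI := Fintype.ofFinite V
    by_contra h
    push Not at h
    have : (Finset.univ : Finset V) ⊆ {1, a} := fun x _ => by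
      by_cases hx : x = 1
      · simp [hx]
      · simp [h x hx]
    have := (Finset.card_le_card this).trans Finset.card_le_two
    rw [Finset.card_univ, ← Nat.card_eq_fintype_card, h4] at this
    omega
  have hfb : f b = a * b := by
    rcases exhaust h4 (h2 a) ha hb (Ne.symm hba) (f b) with h | h | h | h
    · exact absurd (f.injective (h.trans (map_one f).symm)) hb
    · exact absurd (f.injective (h.trans hfa.symm)) hba
    · exact absurd h (hnx b hb hba)
    · exact h
  have h3 : f (f (f b)) = b := by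
    have := DFunLike.congr_fun hf b
    simpa [pow_succ] using this
  rw [hfb, map_mul, hfa, hfb, map_mul, hfa, map_mul, hfa, hfb] at h3
  rw [← mul_assoc a a, h2, one_mul] at h3
  exact ha (mul_right_cancel (h3.trans (one_mul b).symm))

theorem aut_two_fixed {V : Type*} [Group V] [Finite V] (h4 : Nat.card V = 4)
    (h2 : ∀ v : V, v * v = 1) {f : MulAut V} (hf : f ^ 2 = 1) : ∃ a, a ≠ 1 ∧ f a = a := by
  haveI : Nontrivial V := Finite.one_lt_card_iff_nontrivial.1 (by omega)
  obtain ⟨b, hb⟩ := exists_ne (1 : V)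
  by_cases hfb : f b = b
  · exact ⟨b, hb, hfb⟩
  · refine ⟨b * f b, fun h => hfb ?_, ?_⟩
    · exact (mul_left_cancel ((h2 b).trans h.symm)).symm
    · have h := DFunLike.congr_fun hf b
      rw [pow_two] at h
      change f (f b) = b at h
      have hcomm : ∀ x y : V, x * y = y * x := fun x y => by
        calc x * y = (y * y) * (x * y) * ((x * y) * (x * y))⁻¹ * (x * x) := by simp only [h2]; group
          _ = y * x := by group
      rw [map_mul, h, hcomm]

theorem elem_closure {G : Type*} [Group G] (S : Set G) (hc : ∀ a ∈ S, ∀ b ∈ S, a * b = b * a)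
    (h2 : ∀ a ∈ S, a ^ 2 = 1) : Cfsg.IsElementaryAbelian 2 (closure S) := by
  haveI := Subgroup.isMulCommutative_closure hc
  refine ⟨inferInstance, fun a ha => ?_⟩
  induction ha using Subgroup.closure_induction with
  | mem x hx => exact h2 x hx
  | one => exact one_pow 2
  | mul x y hx hy ihx ihy =>
    have hxy : x * y = y * x := congrArg Subtype.val
      (mul_comm' (⟨x, hx⟩ : closure S) ⟨y, hy⟩)
    rw [(show Commute x y from hxy).mul_pow, ihx, ihy, one_mul]
  | inv x _ ih => rw [inv_pow, ih, inv_one]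

theorem conj_quot {G : Type*} [Group G] (C : Subgroup G) [C.Normal] (N : Subgroup C) [N.Normal]
    (h : ∀ (g : G) (x : C), x ∈ N → MulAut.conjNormal g x ∈ N) :
    ∃ ρ : G →* MulAut (C ⧸ N), ∀ (g : G) (x : C),
      ρ g (QuotientGroup.mk x) = QuotientGroup.mk (MulAut.conjNormal g x) := by
  have hmap : ∀ g : G, N.map (MulAut.conjNormal g : MulAut C) = N := fun g => by
    ext x
    rw [Subgroup.mem_map]
    refine ⟨fun ⟨y, hy, e⟩ => e ▸ h g y hy, fun hx => ⟨MulAut.conjNormal g⁻¹ x, h _ x hx, ?_⟩⟩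
    apply Subtype.ext
    simp [MulAut.conjNormal_apply, mul_assoc]
  refine ⟨MonoidHom.mk' (fun g => QuotientGroup.congr N N (MulAut.conjNormal g) (hmap g))
    (fun a b => ?_), fun g x => rfl⟩
  ext v
  obtain ⟨x, rfl⟩ := QuotientGroup.mk_surjective v
  show QuotientGroup.mk _ = QuotientGroup.mk _
  rw [map_mul]
  rfl

/-- Let G be a finite group with C_G(O₂(G)) ≤ O₂(G) containing an element of order 6, and let d be a non-identity 3-element of G normalizing a nontrivial elementary abelian 2-subgroup W with C_W(d) = 1. Then G has an elementary abelian subgroup of order 8. -/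
theorem result {G : Type*} [Group G] [Finite G] (hchar : Subgroup.centralizer (Cfsg.pCore 2 G : Set G) ≤ Cfsg.pCore 2 G) (hsix : ∃ g : G, orderOf g = 6) (d : G) (hd1 : d ≠ 1) (hd : IsPGroup 3 ↥(Subgroup.zpowers d)) (W : Subgroup G) (hW : Cfsg.IsElementaryAbelian 2 W) (hW1 : W ≠ ⊥) (hdW : d ∈ Subgroup.normalizer (W : Set G)) (hfpf : W ⊓ Subgroup.centralizer {d} = ⊥) : ∃ E : Subgroup G, Cfsg.IsElementaryAbelian 2 E ∧ Nat.card E = 8 := by
  classical
  haveI : Fact (Nat.Prime 2) := ⟨Nat.prime_two⟩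
  by_contra hno
  push Not at hno
  -- elementary abelian subgroups have order at most four
  have hle4 : ∀ E : Subgroup G, Cfsg.IsElementaryAbelian 2 E → Nat.card E ≤ 4 := by
    intro E hE
    by_contra hgt
    obtain ⟨k, hk⟩ := IsPGroup.iff_card.1 (show IsPGroup 2 E from fun x => ⟨1, Subtype.ext (by
      rw [pow_one]; exact hE.2 x x.2)⟩)
    have hk3 : 3 ≤ k := by
      by_contra hlt
      exact hgt (hk ▸ le_trans (Nat.pow_le_pow_right two_pos (by omega : k ≤ 2)) le_rfl)
    obtain ⟨K, hK⟩ := Sylow.exists_subgroup_card_pow_prime 2 (G := E) (n := 3) (hk ▸ pow_dvd_pow 2 hk3)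
    refine hno (K.map E.subtype) ⟨?_, ?_⟩ ?_
    · haveI := hE.1
      infer_instance
    · rintro _ ⟨y, -, rfl⟩
      exact hE.2 y y.2
    · rw [Subgroup.card_map_of_injective E.subtype_injective, hK]; norm_num
  have hmax : ∀ A : Subgroup G, Cfsg.IsElementaryAbelian 2 A → Nat.card A = 4 → ∀ x : G, x ^ 2 = 1 →
      (∀ a ∈ A, a * x = x * a) → x ∈ A := by
    intro A hA hA4 x hx hcx
    have hE : Cfsg.IsElementaryAbelian 2 (closure ((A : Set G) ∪ {x})) := by
      refine elem_closure _ ?_ ?_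
      · haveI := hA.1
        rintro a (ha | rfl) b (hb | rfl)
        · exact congrArg Subtype.val (mul_comm' (⟨a, ha⟩ : A) ⟨b, hb⟩)
        · exact hcx a ha
        · exact (hcx b hb).symm
        · rfl
      · rintro a (ha | rfl)
        · exact hA.2 a ha
        · exact hx
    have hsub : A ≤ closure ((A : Set G) ∪ {x}) := fun a ha => subset_closure (Or.inl ha)
    rw [eq_of_le_of_card_ge hsub ((hle4 _ hE).trans hA4.ge)]
    exact subset_closure (Or.inr rfl)
  have hconj : ∀ x ∈ W, d * x * d⁻¹ ∈ W := fun x hx => (mem_normalizer_iff.1 hdW x).1 hx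
  have hWfix : ∀ x ∈ W, d * x * d⁻¹ = x → x = 1 := fun x hx h => by
    have : x ∈ W ⊓ centralizer {d} :=
      ⟨hx, mem_centralizer_iff.2 fun y hy => by rw [Set.mem_singleton_iff.1 hy]; exact mul_inv_eq_iff_eq_mul.1 h⟩
    rwa [hfpf, mem_bot] at this
  -- the order of `W`
  have hW4 : Nat.card W = 4 := by
    have hle := hle4 W hW
    have hlt : 1 < Nat.card W := (one_lt_card_iff_ne_bot W).2 hW1
    obtain ⟨k, hk⟩ := IsPGroup.iff_card.1 (show IsPGroup 2 W from fun x => ⟨1, Subtype.ext (by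
      rw [pow_one]; exact hW.2 x x.2)⟩)
    rcases k with _ | _ | _ | k
    · simp [hk] at hlt
    · obtain ⟨w, hw, hw1⟩ := (bot_or_exists_ne_one W).resolve_left hW1
      haveI := Fintype.ofFinite W
      have hcard : Fintype.card W = 2 := by rw [← Nat.card_eq_fintype_card, hk, zero_add, pow_one]
      have hdne : d * w * d⁻¹ ≠ 1 := fun h => hw1 (by simpa [mul_inv_eq_one] using h)
      obtain ⟨a, ha, huniq⟩ : ∃! a : W, a ≠ 1 := (Nat.card_eq_two_iff' (1 : W)).1 (by rw [hk, zero_add, pow_one])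
      have e1 := huniq ⟨w, hw⟩ (fun h => hw1 (congrArg Subtype.val h))
      have e2 := huniq ⟨_, hconj w hw⟩ (fun h => hdne (congrArg Subtype.val h))
      exact absurd (hWfix w hw (congrArg Subtype.val (e2.trans e1.symm))) hw1
    · rw [hk]; rfl
    · have : 8 ≤ 2 ^ (k + 3) := le_trans (le_of_eq (by norm_num)) (Nat.pow_le_pow_right two_pos (by omega : 3 ≤ k + 3))
      omega
  set Q := Cfsg.pCore 2 G with hQdef
  have hQp : IsPGroup 2 Q := CfsgLib.Solvable.isPGroup_pCore 2
  haveI hQn : Q.Normal := inferInstance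
  obtain ⟨g, hg⟩ := hsix
  -- the involutions in the centre of `Q`
  let Z : Subgroup G :=
    { carrier := {x | x ∈ Q ∧ x ∈ centralizer (Q : Set G) ∧ x ^ 2 = 1}
      one_mem' := ⟨one_mem _, one_mem _, one_pow 2⟩
      mul_mem' := fun {a b} ha hb => ⟨mul_mem ha.1 hb.1, mul_mem ha.2.1 hb.2.1, by
        rw [(show Commute a b from mem_centralizer_iff.1 hb.2.1 a ha.1).mul_pow, ha.2.2, hb.2.2, one_mul]⟩
      inv_mem' := fun {a} ha => ⟨inv_mem ha.1, inv_mem ha.2.1, by rw [inv_pow, ha.2.2, inv_one]⟩ }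
  haveI hZn : Z.Normal := ⟨fun x hx a => ⟨hQn.conj_mem x hx.1 a, (inferInstance : (centralizer (Q : Set G)).Normal).conj_mem x hx.2.1 a, by
    rw [conj_pow, hx.2.2, mul_one, mul_inv_cancel]⟩⟩
  have hZel : Cfsg.IsElementaryAbelian 2 Z :=
    ⟨⟨⟨fun a b => Subtype.ext (mem_centralizer_iff.1 b.2.2.1 a a.2.1)⟩⟩, fun a ha => ha.2.2⟩
  have hQ1 : Q ≠ ⊥ := fun h => by
    have hg1 : g ∈ centralizer (Q : Set G) := mem_centralizer_iff.2 fun q hq => by
      rw [h] at hq; rw [mem_bot.1 hq, one_mul, mul_one]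
    have := hchar hg1
    rw [h, mem_bot] at this
    rw [this, orderOf_one] at hg
    omega
  obtain ⟨z, hzZ, hz1⟩ : ∃ z ∈ Z, z ≠ 1 := by
    haveI : Nontrivial Q := Q.nontrivial_iff_ne_bot.2 hQ1
    haveI := hQp.center_nontrivial
    obtain ⟨k, hk⟩ := IsPGroup.iff_card.1 (hQp.to_subgroup (center Q))
    have hk0 : k ≠ 0 := fun h0 => by
      have := Finite.one_lt_card_iff_nontrivial.2 (hQp.center_nontrivial)
      rw [hk, h0, pow_zero] at this; omega
    obtain ⟨⟨y, hy⟩, hyo⟩ := exists_prime_orderOf_dvd_card' (G := center Q) 2 (hk ▸ dvd_pow_self 2 hk0)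
    rw [Subgroup.orderOf_mk] at hyo
    refine ⟨y, ⟨y.2, mem_centralizer_iff.2 fun q hq => congrArg Subtype.val (mem_center_iff.1 hy ⟨q, hq⟩), ?_⟩, ?_⟩
    · rw [← Subgroup.coe_pow, ← hyo, pow_orderOf_eq_one]; rfl
    · intro h
      rw [show y = 1 from Subtype.ext h, orderOf_one] at hyo
      omega
  have hZ4 : Nat.card Z = 4 := by
    have hle := hle4 Z hZel
    have hlt : 1 < Nat.card Z := (one_lt_card_iff_ne_bot Z).2 fun h => hz1 (by rwa [h, mem_bot] at hzZ)
    obtain ⟨k, hk⟩ := IsPGroup.iff_card.1 (show IsPGroup 2 Z from fun x => ⟨1, Subtype.ext (by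
      rw [pow_one]; exact hZel.2 x x.2)⟩)
    rcases k with _ | _ | _ | k
    · simp [hk] at hlt
    · exfalso
      obtain ⟨a, ha, huniq⟩ : ∃! a : Z, a ≠ 1 := (Nat.card_eq_two_iff' (1 : Z)).1 (by rw [hk, zero_add, pow_one])
      have hcen : ∀ x : G, x * z * x⁻¹ = z := fun x => by
        have hne : x * z * x⁻¹ ≠ 1 := fun h => hz1 (by simpa [mul_inv_eq_one] using h)
        exact congrArg Subtype.val ((huniq ⟨_, hZn.conj_mem z hzZ x⟩ (fun h => hne (congrArg Subtype.val h))).trans
          (huniq ⟨z, hzZ⟩ (fun h => hz1 (congrArg Subtype.val h))).symm)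
      have hzW : z ∈ W := hmax W hW hW4 z hzZ.2.2 fun a _ => mul_inv_eq_iff_eq_mul.1 (hcen a)
      exact hz1 (hWfix z hzW (hcen d))
    · rw [hk]; rfl
    · have : 8 ≤ 2 ^ (k + 3) := le_trans (le_of_eq (by norm_num)) (Nat.pow_le_pow_right two_pos (by omega : 3 ≤ k + 3))
      omega
  have hZ2 : ∀ v : Z, v * v = 1 := fun v => Subtype.ext (by
    show (v : G) * v = 1
    rw [← sq]; exact v.2.2.2)
  set ρ : G →* MulAut Z := MulAut.conjNormal with hρ
  have hρ1 : ∀ x : G, ρ x = 1 → ∀ a ∈ Z, a * x = x * a := fun x hx a ha => by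
    have := congrArg (fun f : MulAut Z => ((f ⟨a, ha⟩ : Z) : G)) hx
    simp only [hρ, MulAut.conjNormal_apply, MulAut.one_apply] at this
    exact (mul_inv_eq_iff_eq_mul.1 this).symm
  -- `W = Z`
  have hWZ : W = Z := by
    have hw : ∃ w ∈ W, w ≠ 1 ∧ ρ w = 1 := by
      by_contra hcon
      push Not at hcon
      obtain ⟨w1, hw1, hw1n⟩ := (bot_or_exists_ne_one W).resolve_left hW1
      have hw2 : d * w1 * d⁻¹ ∈ W := hconj w1 hw1
      have hw2n : d * w1 * d⁻¹ ≠ 1 := fun h => hw1n (by simpa [mul_inv_eq_one] using h)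
      have hne : d * w1 * d⁻¹ ≠ w1 := fun h => hw1n (hWfix w1 hw1 h)
      set w2 := d * w1 * d⁻¹
      have hs : ρ w1 ^ 2 = 1 := by rw [← map_pow, hW.2 w1 hw1, map_one]
      have hr : ρ w2 ^ 2 = 1 := by rw [← map_pow, hW.2 w2 hw2, map_one]
      obtain ⟨a, ha, hsa⟩ := aut_two_fixed hZ4 hZ2 hs
      have hcomm : w1 * w2 = w2 * w1 := by
        haveI := hW.1
        exact congrArg Subtype.val (mul_comm' (⟨w1, hw1⟩ : W) ⟨w2, hw2⟩)
      have hra : ρ w2 a = a := by
        by_contra h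
        refine hcon w1 hw1 hw1n (aut_eq_one_of_fix hZ4 hZ2 ha ?_ (Ne.symm h) hsa ?_)
        · exact fun e => ha ((ρ w2).injective (e.trans (map_one _).symm))
        · rw [← MulAut.mul_apply, ← map_mul, hcomm, map_mul, MulAut.mul_apply, hsa]
      obtain ⟨b, hb, hba⟩ : ∃ b : Z, b ≠ 1 ∧ b ≠ a := by
        by_contra h
        push Not at h
        refine hcon w1 hw1 hw1n ?_
        ext x
        by_cases hx : x = 1
        · simp [hx]
        · rw [h x hx, hsa]; rfl
      have key : ∀ w ∈ W, w ≠ 1 → ρ w a = a → ρ w b = a * b := by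
        intro w hw hwn hwa
        rcases exhaust hZ4 (hZ2 a) ha hb (Ne.symm hba) (ρ w b) with h | h | h | h
        · exact absurd ((ρ w).injective (h.trans (map_one _).symm)) hb
        · exact absurd ((ρ w).injective (h.trans hwa.symm)) hba
        · exact absurd (aut_eq_one_of_fix hZ4 hZ2 ha hb (Ne.symm hba) hwa h) (hcon w hw hwn)
        · exact h
      refine hcon (w1⁻¹ * w2) (mul_mem (inv_mem hw1) hw2) (fun h => hne (inv_mul_eq_one.1 h).symm)
        (aut_eq_one_of_fix hZ4 hZ2 ha hb (Ne.symm hba) ?_ ?_)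
      · rw [map_mul, MulAut.mul_apply, hra, map_inv, MulAut.inv_apply, MulEquiv.symm_apply_eq, hsa]
      · rw [map_mul, MulAut.mul_apply, key w2 hw2 hw2n hra, map_inv, MulAut.inv_apply, MulEquiv.symm_apply_eq,
          key w1 hw1 hw1n hsa]
    obtain ⟨w, hw, hwn, hwρ⟩ := hw
    have hw2 : ρ (d * w * d⁻¹) = 1 := by rw [map_mul, map_mul, hwρ, mul_one, ← map_mul, mul_inv_cancel, map_one]
    have hall : ∀ x ∈ W, ρ x = 1 := by
      intro x hx
      rcases exhaust hW4 (Subtype.ext (by rw [Subgroup.coe_mul, ← sq]; exact hW.2 w hw) : (⟨w, hw⟩ : W) * ⟨w, hw⟩ = 1)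
        (fun h => hwn (congrArg Subtype.val h))
        (b := ⟨_, hconj w hw⟩) (fun h => hwn (by simpa [mul_inv_eq_one] using congrArg Subtype.val h))
        (fun h => hwn (hWfix w hw (congrArg Subtype.val h).symm)) ⟨x, hx⟩ with h | h | h | h
      all_goals have e := congrArg Subtype.val h
      all_goals simp only [Subgroup.coe_one, Subgroup.coe_mul] at e
      all_goals rw [e]
      · exact map_one _
      · exact hwρ
      · exact hw2
      · rw [map_mul, hwρ, hw2, one_mul]
    exact eq_of_le_of_card_ge (fun x hx => hmax Z hZel hZ4 x (hW.2 x hx) (hρ1 x (hall x hx)))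
      (le_of_eq (hZ4.trans hW4.symm))
  have hdfix : ∀ x ∈ Z, d * x * d⁻¹ = x → x = 1 := fun x hx => hWfix x (hWZ ▸ hx)
  -- the elements of order three and two
  set u := g ^ 2 with hu
  set t := g ^ 3 with ht
  have hg6 : g ^ 6 = 1 := hg ▸ pow_orderOf_eq_one g
  have hu3 : u ^ 3 = 1 := by rw [hu, ← pow_mul]; exact hg6
  have hu1 : u ≠ 1 := pow_ne_one_of_lt_orderOf two_ne_zero (by omega)
  have ht2 : t ^ 2 = 1 := by rw [ht, ← pow_mul]; exact hg6
  have ht1 : t ≠ 1 := pow_ne_one_of_lt_orderOf three_ne_zero (by omega)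
  have htu : t * u = u * t := by rw [ht, hu, ← pow_add, ← pow_add]
  have huZ : ρ u = 1 := by
    by_contra hne
    have hnofix : ∀ a : Z, a ≠ 1 → ρ u a ≠ a := fun a ha h =>
      hne (aut_three_fix hZ4 hZ2 (by rw [← map_pow, hu3, map_one]) ha h)
    have htZ : ρ t = 1 := by
      obtain ⟨a, ha, hta⟩ := aut_two_fixed hZ4 hZ2 (f := ρ t) (by rw [← map_pow, ht2, map_one])
      refine aut_eq_one_of_fix hZ4 hZ2 ha (b := ρ u a) ?_ (Ne.symm (hnofix a ha)) hta ?_
      · exact fun e => ha ((ρ u).injective (e.trans (map_one _).symm))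
      · rw [← MulAut.mul_apply, ← map_mul, htu, map_mul, MulAut.mul_apply, hta]
    refine hnofix ⟨t, hmax Z hZel hZ4 t ht2 (hρ1 t htZ)⟩ (fun h => ht1 (congrArg Subtype.val h)) (Subtype.ext ?_)
    rw [hρ, MulAut.conjNormal_apply]
    show u * t * u⁻¹ = t
    rw [← htu, mul_inv_cancel_right]
  -- critical subgroup
  obtain ⟨H, hHc, hHp, hHz, hHcc⟩ := CfsgLib.Kinf.exists_critical hQp
  haveI := hHc
  set C := H.map Q.subtype with hC
  haveI hCn : C.Normal := inferInstance
  have hCQ : C ≤ Q := map_subtype_le H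
  have hmemC : ∀ x ∈ C, ∀ (hxQ : x ∈ Q), (⟨x, hxQ⟩ : Q) ∈ H := by
    rintro _ ⟨h, hh, rfl⟩ _; exact hh
  have hcentC : ∀ x : Q, x ∈ centralizer (H : Set Q) → (x : G) ∈ centralizer (C : Set G) := fun x hx =>
    mem_centralizer_iff.2 fun c hc =>
      congrArg Subtype.val (mem_centralizer_iff.1 hx ⟨c, hCQ hc⟩ (hmemC c hc _))
  have hcent' : ∀ x : Q, (x : G) ∈ centralizer (C : Set G) → x ∈ centralizer (H : Set Q) := fun x hx =>
    mem_centralizer_iff.2 fun h hh => Subtype.ext (mem_centralizer_iff.1 hx h ⟨h, hh, rfl⟩)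
  set Zc := C ⊓ centralizer (C : Set G) with hZcdef
  haveI hZcn : Zc.Normal := Subgroup.normal_inf_normal _ _
  have hA4 : Q ⊓ centralizer (C : Set G) = Zc := by
    refine le_antisymm (fun x hx => ⟨?_, hx.2⟩) (inf_le_inf_right _ hCQ)
    exact ⟨⟨x, hx.1⟩, hHcc (hcent' ⟨x, hx.1⟩ hx.2), rfl⟩
  have hA3 : ⁅Q, C⁆ ≤ Zc := by
    rw [commutator_comm, commutator_le]
    intro c hc q hq
    have h := hHz (commutator_mem_commutator (hmemC c hc (hCQ hc)) (mem_top (⟨q, hq⟩ : Q)))
    exact ⟨⟨_, h.1, rfl⟩, hcentC _ h.2⟩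
  have hsq : ∀ c ∈ C, c ^ 2 ∈ Zc := fun c hc =>
    ⟨pow_mem hc 2, hcentC (⟨c, hCQ hc⟩ ^ 2) (hHp _ (hmemC c hc _))⟩
  have hZZc : Z ≤ Zc := fun x hx => hA4 ▸ mem_inf.2 ⟨hx.1,
    mem_centralizer_iff.2 fun c hc => mem_centralizer_iff.1 hx.2.1 c (hCQ hc)⟩
  have hinvZ : ∀ x ∈ Q, x ^ 2 = 1 → x ∈ Z := fun x hx h2 =>
    hmax Z hZel hZ4 x h2 fun a ha => (mem_centralizer_iff.1 ha.2.1 x hx).symm
  have hcomm : ∀ a ∈ Zc, ∀ b ∈ C, a * b = b * a := fun a ha b hb => (mem_centralizer_iff.1 ha.2 b hb).symm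
  -- `u` centralizes `Zc`
  have hu_fix : ∀ x ∈ Zc, u * x = x * u := by
    have hind : ∀ k : ℕ, ∀ x ∈ Zc, x ^ 2 ^ k = 1 → u * x = x * u := by
      intro k
      induction k with
      | zero => intro x _ h; rw [pow_zero, pow_one] at h; rw [h, one_mul, mul_one]
      | succ k ih =>
        intro x hx h
        have hx2 : u * x ^ 2 = x ^ 2 * u := ih _ (pow_mem hx 2) (by rw [← pow_mul, ← pow_succ']; exact h)
        set y := x⁻¹ * (u * x * u⁻¹) with hy
        have hux : u * x * u⁻¹ ∈ Zc := hZcn.conj_mem x hx u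
        have hy2 : y ^ 2 = 1 := by
          rw [hy, (show Commute x⁻¹ (u * x * u⁻¹) from hcomm _ (inv_mem hx) _ hux.1).mul_pow, conj_pow, hx2,
            mul_inv_cancel_right, inv_pow, inv_mul_cancel]
        have hyc : y * u = u * y := hρ1 u huZ y (hinvZ y (hCQ (mul_mem (inv_mem hx.1) hux.1)) hy2)
        have hy3 : y ^ 3 = 1 := by
          have e : ∀ n : ℕ, u ^ n * x * (u ^ n)⁻¹ = x * y ^ n := by
            intro n
            induction n with
            | zero => simp
            | succ n ihn =>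
              calc u ^ (n + 1) * x * (u ^ (n + 1))⁻¹ = u * (u ^ n * x * (u ^ n)⁻¹) * u⁻¹ := by rw [pow_succ']; group
                _ = u * (x * y ^ n) * u⁻¹ := by rw [ihn]
                _ = u * x * u⁻¹ * (u * y ^ n * u⁻¹) := by group
                _ = x * y * y ^ n := by
                  rw [← (show Commute y u from hyc).pow_left n |>.eq, mul_inv_cancel_right, hy]; group
                _ = x * y ^ (n + 1) := by rw [pow_succ' y, mul_assoc]
          have := e 3
          rw [hu3, one_mul, inv_one, mul_one] at this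
          exact mul_left_cancel (this.symm.trans (mul_one x).symm)
        have hy1 : y = 1 := by
          calc y = y ^ 3 * (y ^ 2)⁻¹ := by group
            _ = 1 := by rw [hy3, hy2, inv_one, one_mul]
        rw [hy, inv_mul_eq_one] at hy1
        exact mul_inv_eq_iff_eq_mul.1 hy1.symm
    intro x hx
    obtain ⟨k, hk⟩ := hQp ⟨x, hCQ hx.1⟩
    exact hind k x hx (congrArg Subtype.val hk)
  -- the quotient of `Zc` by its squares
  letI : CommGroup Zc := { (inferInstance : Group Zc) with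
    mul_comm := fun a b => Subtype.ext (hcomm a a.2 b b.2.1) }
  set S : Subgroup Zc := (powMonoidHom 2 : Zc →* Zc).range with hS
  have hW'4 : Nat.card (Zc ⧸ S) = 4 := by
    have hk : Nat.card (powMonoidHom 2 : Zc →* Zc).ker = 4 := by
      rw [← hZ4]
      refine Nat.card_congr
        { toFun := fun v => ⟨(v : Zc).1, hinvZ _ (hCQ (v : Zc).2.1) (congrArg Subtype.val (MonoidHom.mem_ker.1 v.2))⟩
          invFun := fun a => ⟨⟨a.1, hZZc a.2⟩, Subtype.ext a.2.2.2⟩
          left_inv := fun v => rfl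
          right_inv := fun a => rfl }
    have h1 := (powMonoidHom 2 : Zc →* Zc).ker.card_mul_index
    rw [Subgroup.index_ker, hk, ← S.card_mul_index, index_eq_card, mul_comm] at h1
    exact (Nat.eq_of_mul_eq_mul_left (Nat.card_pos (α := S)) h1).symm
  have hSinv : ∀ (a : G) (x : Zc), x ∈ S → MulAut.conjNormal a x ∈ S := by
    rintro a _ ⟨y, rfl⟩
    exact ⟨MulAut.conjNormal a y, (map_pow (MulAut.conjNormal a) y 2).symm⟩
  obtain ⟨ρW, hρW⟩ := conj_quot Zc S hSinv
  have hW'2 : ∀ w : Zc ⧸ S, w * w = 1 := by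
    intro w
    obtain ⟨x, rfl⟩ := QuotientGroup.mk_surjective w
    rw [← QuotientGroup.mk_mul, QuotientGroup.eq_one_iff]
    exact ⟨x, sq x⟩
  have hρWu : ∀ w, ρW u w = w := by
    intro w
    obtain ⟨x, rfl⟩ := QuotientGroup.mk_surjective w
    rw [hρW]
    congr 1
    exact Subtype.ext (by rw [MulAut.conjNormal_apply, hu_fix x x.2, mul_inv_cancel_right])
  have hρWd : ∀ w, ρW d w = w → w = 1 := by
    intro w hw
    obtain ⟨x, rfl⟩ := QuotientGroup.mk_surjective w
    rw [hρW, eq_comm, QuotientGroup.eq] at hw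
    let ψ : Zc →* Zc := MonoidHom.mk' (fun v => v⁻¹ * MulAut.conjNormal d v) fun a b => by
      rw [map_mul, mul_inv]; exact mul_mul_mul_comm _ _ _ _
    have hinj : Function.Injective ψ := by
      rw [injective_iff_map_eq_one]
      intro v hv
      by_contra hv1
      obtain ⟨k, hk⟩ := IsPGroup.iff_orderOf.1 (hQp.to_le (show Zc ≤ Q from fun a ha => hCQ ha.1)) v
      rcases k with _ | k
      · exact hv1 (orderOf_eq_one_iff.1 (by simpa using hk))
      have hv2 : (v ^ 2 ^ k) ^ 2 = 1 := by rw [← pow_mul, ← pow_succ, ← hk, pow_orderOf_eq_one]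
      have hψ : ψ (v ^ 2 ^ k) = 1 := by rw [map_pow, hv, one_pow]
      have hfx : MulAut.conjNormal d (v ^ 2 ^ k) = v ^ 2 ^ k := (inv_mul_eq_one.1 hψ).symm
      have hfx' := congrArg Subtype.val hfx
      rw [MulAut.conjNormal_apply] at hfx'
      have h1 : v ^ 2 ^ k = 1 := Subtype.ext (hdfix _ (hinvZ _ (hCQ (v ^ 2 ^ k).2.1) (congrArg Subtype.val hv2)) hfx')
      have := orderOf_dvd_of_pow_eq_one h1
      rw [hk] at this
      exact absurd (Nat.le_of_dvd (by positivity) this) (by rw [pow_succ]; omega)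
    obtain ⟨y, hy⟩ := hw
    obtain ⟨v, rfl⟩ := (Finite.injective_iff_surjective.1 hinj) y
    refine (QuotientGroup.eq_one_iff _).2 ⟨v, hinj ?_⟩
    exact (map_pow ψ v 2).trans hy
  -- the quotient of `C` by `Zc`
  set N : Subgroup C := Zc.subgroupOf C with hNdef
  haveI hNn : N.Normal := hZcn.subgroupOf C
  have hV2 : ∀ v : C ⧸ N, v * v = 1 := by
    intro v
    obtain ⟨x, rfl⟩ := QuotientGroup.mk_surjective v
    rw [← QuotientGroup.mk_mul, QuotientGroup.eq_one_iff, hNdef, mem_subgroupOf, Subgroup.coe_mul, ← sq]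
    exact hsq x x.2
  letI : CommGroup (C ⧸ N) := { (inferInstance : Group (C ⧸ N)) with
    mul_comm := fun a b => by
      calc a * b = (b * b) * (a * b) * ((a * b) * (a * b))⁻¹ * (a * a) := by simp only [hV2]; group
        _ = b * a := by group }
  obtain ⟨ρV, hρV⟩ := conj_quot C N fun a x hx => by
    rw [hNdef, mem_subgroupOf, MulAut.conjNormal_apply]
    exact hZcn.conj_mem _ hx a
  let σ : C → Zc := fun x => ⟨(x : G) ^ 2, hsq x x.2⟩
  let q : C ⧸ N → Zc ⧸ S := fun v => Quotient.liftOn' v (fun x => QuotientGroup.mk (σ x)) fun x y hxy => by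
    rw [QuotientGroup.leftRel_apply] at hxy
    rw [QuotientGroup.eq]
    refine ⟨⟨(x : G)⁻¹ * y, hxy⟩, Subtype.ext ?_⟩
    show ((x : G)⁻¹ * y) ^ 2 = ((x : G) ^ 2)⁻¹ * (y : G) ^ 2
    have hc : Commute ((x : G)⁻¹ * y) x := hcomm _ hxy _ x.2
    have e : (y : G) = x * ((x : G)⁻¹ * y) := by group
    conv_rhs => rw [e, hc.symm.mul_pow]
    rw [inv_mul_cancel_left]
  have hq : ∀ x : C, q (QuotientGroup.mk x) = QuotientGroup.mk (σ x) := fun x => rfl
  have hq1 : q 1 = 1 := by
    rw [← QuotientGroup.mk_one, hq, QuotientGroup.eq_one_iff]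
    exact ⟨1, Subtype.ext (by simp [σ])⟩
  have haniso : ∀ v, q v = 1 → v = 1 := by
    intro v hv
    obtain ⟨x, rfl⟩ := QuotientGroup.mk_surjective v
    rw [hq, QuotientGroup.eq_one_iff] at hv
    obtain ⟨y, hy⟩ := hv
    have hy' : (y : G) ^ 2 = (x : G) ^ 2 := congrArg Subtype.val hy
    have hc : Commute (y : G)⁻¹ x := hcomm _ (inv_mem y.2) _ x.2
    have : (y : G)⁻¹ * x ∈ Z := hinvZ _ (hCQ (mul_mem (inv_mem y.2.1) x.2))
      (by rw [hc.mul_pow, inv_pow, hy', inv_mul_cancel])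
    rw [QuotientGroup.eq_one_iff, hNdef, mem_subgroupOf]
    simpa using mul_mem y.2 (hZZc this)
  have hCC : ∀ a ∈ C, ∀ b ∈ C, ⁅a, b⁆ ∈ Zc := fun a ha b hb => hA3 (commutator_mem_commutator (hCQ ha) hb)
  let κ : C → C → Zc ⧸ S := fun a b => QuotientGroup.mk (⟨⁅(b : G), (a : G)⁆, hCC b b.2 a a.2⟩ : Zc)
  have hκ : ∀ a b : C, q (QuotientGroup.mk (a * b)) = q (QuotientGroup.mk a) * q (QuotientGroup.mk b) * κ a b := by
    intro a b
    rw [hq, hq, hq, ← QuotientGroup.mk_mul, ← QuotientGroup.mk_mul]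
    congr 1
    apply Subtype.ext
    show ((a : G) * b) ^ 2 = (a : G) ^ 2 * (b : G) ^ 2 * ⁅(b : G), (a : G)⁆
    have h : ⁅(b : G), (a : G)⁆ * ((b : G) ^ 2) = (b : G) ^ 2 * ⁅(b : G), (a : G)⁆ :=
      hcomm _ (hCC b b.2 a a.2) _ (pow_mem b.2 2)
    have h' : ⁅(b : G), (a : G)⁆ * ((a : G) * b) = ((a : G) * b) * ⁅(b : G), (a : G)⁆ :=
      hcomm _ (hCC b b.2 a a.2) _ (mul_mem a.2 b.2)
    calc ((a : G) * b) ^ 2 = (a : G) * (⁅(b : G), (a : G)⁆ * ((a : G) * b)) * b := by
          simp only [sq, commutatorElement_def]; group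
      _ = (a : G) ^ 2 * (b * (⁅(b : G), (a : G)⁆ * b)) := by rw [h']; simp only [sq]; group
      _ = _ := by
        have hb : ⁅(b : G), (a : G)⁆ * b = b * ⁅(b : G), (a : G)⁆ := hcomm _ (hCC b b.2 a a.2) _ b.2
        rw [hb, sq (b : G)]; group
  have hκmul : ∀ a b x : C, κ a (b * x) = κ a b * κ a x := by
    intro a b x
    show (QuotientGroup.mk _ : Zc ⧸ S) = QuotientGroup.mk _ * QuotientGroup.mk _
    rw [← QuotientGroup.mk_mul]
    congr 1
    apply Subtype.ext
    show ⁅((b : G) * x), (a : G)⁆ = ⁅(b : G), (a : G)⁆ * ⁅(x : G), (a : G)⁆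
    have h := hcomm _ (hCC x x.2 a a.2) _ b.2
    calc ⁅((b : G) * x), (a : G)⁆ = (b : G) * ⁅(x : G), (a : G)⁆ * (b : G)⁻¹ * ⁅(b : G), (a : G)⁆ := by
          simp only [commutatorElement_def]; group
      _ = ⁅(x : G), (a : G)⁆ * ⁅(b : G), (a : G)⁆ := by rw [← h]; group
      _ = _ := hcomm _ (hCC x x.2 a a.2) _ (hCC b b.2 a a.2).1
  have hquad : CfsgLib.QuadMap.IsQuad q := by
    intro a b x
    obtain ⟨a, rfl⟩ := QuotientGroup.mk_surjective a
    obtain ⟨b, rfl⟩ := QuotientGroup.mk_surjective b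
    obtain ⟨x, rfl⟩ := QuotientGroup.mk_surjective x
    rw [hq1]
    simp only [← QuotientGroup.mk_mul, hκ, hκmul]
    generalize q (QuotientGroup.mk a) = A
    generalize q (QuotientGroup.mk b) = B
    generalize q (QuotientGroup.mk x) = X
    generalize κ a b = K
    generalize κ a x = L
    generalize κ b x = M
    calc A * (B * X * M) * (K * L) * (A * X * L) * (B * X * M) * X
        = (A * A) * (B * B) * (X * X) * (X * X) * (M * M) * (L * L) * K := by ac_rfl
      _ = K := by simp only [hW'2, one_mul]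
      _ = (A * A) * (B * B) * K := by simp only [hW'2, one_mul]
      _ = A * B * K * A * B * 1 := by rw [mul_one]; ac_rfl
  have hcardV : Nat.card (C ⧸ N) ≤ 16 := by
    have := CfsgLib.QuadMap.card_le q hV2 hW'2 hquad hq1 haniso
    rw [hW'4] at this; exact this
  have hequiv : ∀ (a : G) (v : C ⧸ N), q (ρV a v) = ρW a (q v) := by
    intro a v
    obtain ⟨x, rfl⟩ := QuotientGroup.mk_surjective v
    rw [hρV, hq, hq, hρW]
    congr 1
    exact Subtype.ext (by simp only [σ, MulAut.conjNormal_apply, conj_pow])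
  -- `u` acts nontrivially on the quotient
  have hunt : ρV u ≠ 1 := by
    intro htriv
    have hfixC : ∀ c ∈ C, u * c * u⁻¹ = c := by
      intro c hc
      have h := DFunLike.congr_fun htriv (QuotientGroup.mk (⟨c, hc⟩ : C))
      rw [hρV, MulAut.one_apply, eq_comm, QuotientGroup.eq, hNdef, mem_subgroupOf] at h
      simp only [Subgroup.coe_mul, InvMemClass.coe_inv, MulAut.conjNormal_apply] at h
      set y := c⁻¹ * (u * c * u⁻¹) with hy
      have hyu : u * y = y * u := hu_fix y h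
      have e : ∀ n : ℕ, u ^ n * c * (u ^ n)⁻¹ = c * y ^ n := by
        intro n
        induction n with
        | zero => simp
        | succ n ihn =>
          calc u ^ (n + 1) * c * (u ^ (n + 1))⁻¹ = u * (u ^ n * c * (u ^ n)⁻¹) * u⁻¹ := by rw [pow_succ']; group
            _ = u * (c * y ^ n) * u⁻¹ := by rw [ihn]
            _ = u * c * u⁻¹ * (u * y ^ n * u⁻¹) := by group
            _ = c * y * y ^ n := by
              rw [(show Commute u y from hyu).pow_right n |>.eq, mul_inv_cancel_right, hy]; group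
            _ = c * y ^ (n + 1) := by rw [pow_succ' y, mul_assoc]
      have h3 := e 3
      rw [hu3, one_mul, inv_one, mul_one] at h3
      have hy3 : y ^ 3 = 1 := mul_left_cancel (h3.symm.trans (mul_one c).symm)
      obtain ⟨k, hk⟩ := hQp ⟨y, hCQ h.1⟩
      have hk' : y ^ 2 ^ k = 1 := congrArg Subtype.val hk
      have hy1 : y = 1 := by
        rw [← pow_one y, ← (show Nat.gcd 3 (2 ^ k) = 1 from Nat.Coprime.pow_right k (by norm_num))]
        exact pow_gcd_eq_one.2 ⟨hy3, hk'⟩
      rw [hy, inv_mul_eq_one] at hy1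
      exact hy1.symm
    have hord : (orderOf (MulAut.conjNormal u : MulAut Q)).Coprime 2 := by
      refine Nat.Coprime.coprime_dvd_left (orderOf_map_dvd MulAut.conjNormal u) ?_
      rw [orderOf_eq_prime hu3 hu1]; norm_num
    have hone := CfsgLib.Kinf.aut_eq_one_of_critical hQp hCQ hA3 hA4 _ hord fun a ha => Subtype.ext
      (by rw [MulAut.conjNormal_apply]; exact hfixC a ha)
    have huC : u ∈ centralizer (Q : Set G) := mem_centralizer_iff.2 fun x hx => by
      have := congrArg (fun f : MulAut Q => ((f ⟨x, hx⟩ : Q) : G)) hone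
      simp only [MulAut.conjNormal_apply, MulAut.one_apply] at this
      exact (mul_inv_eq_iff_eq_mul.1 this).symm
    obtain ⟨k, hk⟩ := hQp ⟨u, hchar huC⟩
    have hk' : u ^ 2 ^ k = 1 := congrArg Subtype.val hk
    refine hu1 ?_
    rw [← pow_one u, ← (show Nat.gcd 3 (2 ^ k) = 1 from Nat.Coprime.pow_right k (by norm_num))]
    exact pow_gcd_eq_one.2 ⟨hu3, hk'⟩
  -- the three fibres
  haveI := Fintype.ofFinite (C ⧸ N)
  haveI := Fintype.ofFinite (Zc ⧸ S)
  let fib : (Zc ⧸ S) → Finset (C ⧸ N) := fun w => Finset.univ.filter fun v => q v = w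
  have hfd : ∀ w, (fib (ρW d w)).card = (fib w).card := by
    intro w
    refine (Finset.card_bij (fun v _ => ρV d v) ?_ ?_ ?_).symm
    · intro v hv
      simp only [fib, Finset.mem_filter, Finset.mem_univ, true_and] at hv ⊢
      rw [hequiv, hv]
    · intro v _ v' _ h
      exact (ρV d).injective h
    · intro v hv
      simp only [fib, Finset.mem_filter, Finset.mem_univ, true_and] at hv ⊢
      refine ⟨(ρV d).symm v, (ρW d).injective ?_, (ρV d).apply_symm_apply v⟩
      rw [← hequiv, (ρV d).apply_symm_apply, hv]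
  obtain ⟨w0, hw0⟩ : ∃ w : Zc ⧸ S, w ≠ 1 := by
    haveI : Nontrivial (Zc ⧸ S) := Finite.one_lt_card_iff_nontrivial.1 (by omega)
    exact exists_ne 1
  set w1 := ρW d w0 with hw1def
  have hw1 : w1 ≠ 1 := fun h => hw0 ((ρW d).injective (h.trans (map_one _).symm))
  have hw01 : w0 ≠ w1 := fun h => hw0 (hρWd w0 h.symm)
  have hdw1 : ρW d w1 = w0 * w1 := by
    rcases exhaust hW'4 (hW'2 w0) hw0 hw1 hw01 (ρW d w1) with h | h | h | h
    · exact absurd ((ρW d).injective (h.trans (map_one _).symm)) hw1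
    · have hp : ρW d (w0 * w1) = w0 * w1 := by rw [map_mul, h, ← hw1def, mul_comm]
      exact absurd (mul_left_cancel ((hρWd _ hp).trans (hW'2 w0).symm)) hw01.symm
    · exact absurd (hρWd w1 h) hw1
    · exact h
  set n := (fib w0).card with hn
  have hfn : ∀ w, w ≠ 1 → (fib w).card = n := by
    intro w hw
    rcases exhaust hW'4 (hW'2 w0) hw0 hw1 hw01 w with rfl | rfl | rfl | rfl
    · exact absurd rfl hw
    · rfl
    · rw [hw1def, hfd]
    · rw [← hdw1, hfd, hw1def, hfd]
  have hcard1 : (Finset.univ.erase (1 : Zc ⧸ S)).card = 3 := by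
    rw [Finset.card_erase_of_mem (Finset.mem_univ _), Finset.card_univ, ← Nat.card_eq_fintype_card, hW'4]
  have hfib1 : fib 1 = {1} := by
    ext v
    simp only [fib, Finset.mem_filter, Finset.mem_univ, true_and, Finset.mem_singleton]
    exact ⟨haniso v, fun h => by rw [h, hq1]⟩
  have hVcard : Nat.card (C ⧸ N) = 1 + 3 * n := by
    rw [Nat.card_eq_fintype_card, ← Finset.card_univ,
      Finset.card_eq_sum_card_fiberwise (f := q) (t := Finset.univ) (fun _ _ => Finset.mem_univ _),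
      ← Finset.add_sum_erase _ _ (Finset.mem_univ (1 : Zc ⧸ S))]
    show (fib 1).card + _ = _
    rw [hfib1, Finset.card_singleton, Finset.sum_congr rfl (g := fun _ => n) (fun w hw => hfn w (Finset.ne_of_mem_erase hw)),
      Finset.sum_const, hcard1, smul_eq_mul]
  obtain ⟨k, hk⟩ := CfsgLib.QuadMap.exists_card_eq hV2
  have hn15 : n ≤ 1 ∨ n = 5 := by
    have h16 : 2 ^ k ≤ 2 ^ 4 := by rw [← hk]; exact hcardV
    have := (Nat.pow_le_pow_iff_right (by norm_num)).1 h16
    interval_cases k <;> omega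
  -- fixed points of `u`
  have hquv : ∀ v, q (ρV u v) = q v := fun v => by rw [hequiv, hρWu]
  have hn5 : n = 5 := by
    refine hn15.resolve_left fun hle => hunt ?_
    ext v
    by_cases hv : v = 1
    · simp [hv]
    have hqv : q v ≠ 1 := fun h => hv (haniso v h)
    refine Finset.card_le_one.1 ((hfn _ hqv).trans_le hle) _ ?_ v ?_ <;>
      simp [fib, hquv]
  let fixw : (Zc ⧸ S) → Finset (C ⧸ N) := fun w => (fib w).filter fun v => ρV u v = v
  have hmod : ∀ w, w ≠ 1 → (fixw w).card % 3 = 2 := by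
    intro w hw
    haveI : Fact (Nat.Prime 3) := ⟨Nat.prime_three⟩
    let π : Equiv.Perm {v : C ⧸ N // q v = w} :=
      Equiv.Perm.subtypePerm ((ρV u).toEquiv : Equiv.Perm (C ⧸ N)) (fun v => by show q (ρV u v) = w ↔ q v = w; rw [hquv])
    have hπ : π ^ 3 ^ 1 = 1 := by
      ext v
      rw [pow_one, pow_succ, pow_two]
      show ρV u (ρV u (ρV u v.1)) = v.1
      have := DFunLike.congr_fun (show ρV u ^ 3 = 1 by rw [← map_pow, hu3, map_one]) v.1
      simpa [pow_succ] using this
    have h := Equiv.Perm.card_compl_support_modEq hπ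
    have e1 : Fintype.card {v : C ⧸ N // q v = w} = 5 := by
      rw [Fintype.card_subtype, ← hn5]; exact hfn w hw
    have e2 : (π.supportᶜ).card = (fixw w).card := by
      rw [← Finset.card_map (Function.Embedding.subtype _)]
      congr 1
      ext v
      simp only [Finset.mem_map, Finset.mem_compl, Equiv.Perm.mem_support, not_not, fixw, fib, Finset.mem_filter,
        Finset.mem_univ, true_and, Function.Embedding.coe_subtype]
      exact ⟨by rintro ⟨x, hx, rfl⟩; exact ⟨x.2, congrArg Subtype.val hx⟩,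
        fun ⟨h1, h2⟩ => ⟨⟨v, h1⟩, Subtype.ext h2, rfl⟩⟩
    rw [e1, e2] at h
    exact h
  let F : Subgroup (C ⧸ N) := MonoidHom.eqLocus (ρV u).toMonoidHom (MonoidHom.id _)
  have hF : Nat.card F = 1 + ∑ w ∈ Finset.univ.erase (1 : Zc ⧸ S), (fixw w).card := by
    have e : Nat.card F = (Finset.univ.filter fun v : C ⧸ N => ρV u v = v).card := by
      rw [← Fintype.card_subtype, ← Nat.card_eq_fintype_card]; rfl
    rw [e, Finset.card_eq_sum_card_fiberwise (f := q) (t := Finset.univ) (fun _ _ => Finset.mem_univ _),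
      ← Finset.add_sum_erase _ _ (Finset.mem_univ (1 : Zc ⧸ S))]
    congr 1
    · rw [show (1 : ℕ) = ({1} : Finset (C ⧸ N)).card from rfl]
      congr 1
      ext v
      simp only [Finset.mem_filter, Finset.mem_univ, true_and, Finset.mem_singleton]
      exact ⟨fun h => haniso v h.2, fun h => by rw [h, hq1, map_one]; exact ⟨rfl, rfl⟩⟩
    · refine Finset.sum_congr rfl fun w _ => ?_
      congr 1
      ext v
      simp [fixw, fib, and_comm]
  have hV16 : Nat.card (C ⧸ N) = 16 := by omega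
  have hsum6 : 6 ≤ ∑ w ∈ Finset.univ.erase (1 : Zc ⧸ S), (fixw w).card := by
    calc (6 : ℕ) = ∑ w ∈ Finset.univ.erase (1 : Zc ⧸ S), 2 := by rw [Finset.sum_const, hcard1]; rfl
      _ ≤ _ := Finset.sum_le_sum fun w hw => by have := hmod w (Finset.ne_of_mem_erase hw); omega
  have hsum0 : (∑ w ∈ Finset.univ.erase (1 : Zc ⧸ S), (fixw w).card) % 3 = 0 := by
    rw [Finset.sum_nat_mod, Finset.sum_congr rfl (g := fun _ => 2) (fun w hw => hmod w (Finset.ne_of_mem_erase hw)),
      Finset.sum_const, hcard1]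
    rfl
  have hdvd : Nat.card F ∣ 2 ^ 4 := by
    rw [show (2 : ℕ) ^ 4 = 16 from rfl, ← hV16]; exact F.card_subgroup_dvd_card
  obtain ⟨j, hj, hFj⟩ := (Nat.dvd_prime_pow Nat.prime_two).1 hdvd
  have hF16 : Nat.card F = Nat.card (C ⧸ N) := by
    rw [hV16]
    interval_cases j <;> omega
  refine hunt ?_
  ext v
  have : v ∈ F := by rw [Subgroup.eq_top_of_card_eq F hF16]; exact mem_top v
  exact this

end Cfsg.Agent.S3739
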