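import Cfsg.Statements.S3740
import Cfsg.Agent.SL2Automizer.Main

set_option autoImplicit false
open Cfsg

namespace Cfsg.Agent.S3740

/-- Let F be a finite field of odd characteristic p and let a be a p-element of SL₂(F) normalizing a subgroup R of order prime to p with [R, a] ≠ 1. Then p = 3, R is a quaternion group of order 8, and R⟨a⟩ is isomorphic to SL₂(3). -/
theorem result (F : Type) [Field F] [Fintype F] {p : ℕ} [Fact p.Prime] [CharP F p] (hp : p ≠ 2) (a : Matrix.SpecialLinearGroup (Fin 2) F) (ha : IsPGroup p ↥(Subgroup.zpowers a)) (R : Subgroup (Matrix.SpecialLinearGroup (Fin 2) F)) (hR : (Nat.card R).Coprime p) (haR : a ∈ Subgroup.normalizer (R : Set (Matrix.SpecialLinearGroup (Fin 2) F))) (hnt : ⁅R, Subgroup.zpowers a⁆ ≠ ⊥) : p = 3 ∧ Nonempty (↥R ≃* QuaternionGroup 2) ∧ Nonempty (↥(R ⊔ Subgroup.zpowers a) ≃* Matrix.SpecialLinearGroup (Fin 2) (ZMod 3)) := by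
  classical
  set π := QuotientGroup.mk' (Subgroup.center (Matrix.SpecialLinearGroup (Fin 2) F))
  set A := Subgroup.zpowers a with hA
  have hFodd : Odd (Fintype.card F) := by
    obtain ⟨n, hpr, hn⟩ := FiniteField.card F p
    rw [hn]; exact (hpr.odd_of_ne_two hp).pow
  have hAR : A ≤ Subgroup.normalizer (R : Set (Matrix.SpecialLinearGroup (Fin 2) F)) := Subgroup.zpowers_le.2 haR
  have hzz : ∀ z ∈ Subgroup.center (Matrix.SpecialLinearGroup (Fin 2) F), z * z = 1 := by
    intro z hz
    rcases CfsgLib.SL2C.center_cases hz with rfl | rfl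
    · rw [one_mul]
    · show CfsgLib.SL2C.dg (-1 : Fˣ) * CfsgLib.SL2C.dg (-1 : Fˣ) = 1
      rw [← map_mul, neg_mul_neg, one_mul, map_one]
  have hpodd : Odd p := (Fact.out : p.Prime).odd_of_ne_two hp
  -- the image does not centralise
  have hnc : ¬ A.map π ≤ Subgroup.centralizer ((R.map π : Subgroup _) : Set _) := by
    intro h
    refine hnt (Subgroup.commutator_eq_bot_iff_le_centralizer.2 fun r hr => Subgroup.mem_centralizer_iff.2 fun b hb => ?_)
    have hbA : b ∈ A := hb
    have hc := Subgroup.mem_centralizer_iff.1 (h (Subgroup.mem_map_of_mem π hbA)) _ (Subgroup.mem_map_of_mem π hr)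
    rw [← map_mul, ← map_mul] at hc
    set z := (b * r)⁻¹ * (r * b) with hz
    have hzc : z ∈ Subgroup.center (Matrix.SpecialLinearGroup (Fin 2) F) := by
      rw [← QuotientGroup.ker_mk' (Subgroup.center (Matrix.SpecialLinearGroup (Fin 2) F)), MonoidHom.mem_ker]
      show π z = 1
      rw [hz, map_mul, map_inv, hc, inv_mul_cancel]
    have hzb : r * b = b * r * z := by rw [hz]; group
    have hcomm : ∀ g, g * z = z * g := fun g => Subgroup.mem_center_iff.1 hzc g
    have hiter : ∀ n : ℕ, r * b ^ n = b ^ n * r * z ^ n := by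
      intro n
      induction n with
      | zero => simp
      | succ n ih =>
        calc r * b ^ (n + 1) = (r * b ^ n) * b := by rw [pow_succ, mul_assoc]
          _ = b ^ n * r * (z ^ n * b) := by rw [ih, mul_assoc]
          _ = b ^ n * r * (b * z ^ n) := by rw [((show Commute b z from hcomm b).pow_right n).eq]
          _ = b ^ n * (r * b) * z ^ n := by group
          _ = b ^ (n + 1) * r * z ^ (n + 1) := by rw [hzb, pow_succ, pow_succ' z]; group
    obtain ⟨k, hk⟩ := ha ⟨b, hbA⟩
    have hbk : b ^ p ^ k = 1 := congrArg Subtype.val hk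
    have h1 : z ^ p ^ k = 1 := by simpa [hbk] using (hiter (p ^ k)).symm
    have h2 : z ^ 2 = 1 := by rw [pow_two]; exact hzz z hzc
    have hz1 : z = 1 := by
      rw [← orderOf_eq_one_iff, ← Nat.dvd_one,
        ← (Nat.Coprime.pow_left k (Nat.coprime_two_right.2 hpodd) : (p ^ k).Coprime 2)]
      exact Nat.dvd_gcd (orderOf_dvd_of_pow_eq_one h1) (orderOf_dvd_of_pow_eq_one h2)
    rw [hzb, hz1, mul_one]
  have hN' : (Nat.card (R.map π)).Coprime p := hR.coprime_dvd_left (Subgroup.card_map_dvd _ _)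
  have hAN : A.map π ≤ Subgroup.normalizer ((R.map π : Subgroup _) : Set _) :=
    (Subgroup.map_mono hAR).trans (Subgroup.le_normalizer_map π)
  obtain ⟨h3, hN4, hA3⟩ := CfsgLib.SL2Automizer.shape hp (R.map π) (A.map π) (ha.map π) hN' hAN hnc
  subst h3
  haveI : Fact (Nat.Prime 2) := ⟨Nat.prime_two⟩
  -- the kernel
  have hker : Nat.card π.ker = 2 := by
    rw [QuotientGroup.ker_mk', CfsgLib.Linear.card_center_SL, Fintype.card_fin, Nat.card_eq_fintype_card]
    exact Nat.gcd_eq_left (by obtain ⟨j, hj⟩ := hFodd; omega)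
  have hinv : ∀ g : Matrix.SpecialLinearGroup (Fin 2) F, g ≠ 1 → g * g = 1 → g = CfsgLib.SL2C.negOne F :=
    fun g h1 h2 => CfsgLib.Linear.SylowTwoSL.eq_neg_one hFodd h1 h2
  have hneg1 : CfsgLib.SL2C.negOne F ∈ R := by
    have h2 : 2 ∣ Nat.card R := by
      exact (show 2 ∣ 4 by norm_num).trans (hN4 ▸ Subgroup.card_map_dvd R π)
    obtain ⟨g, hg⟩ := exists_prime_orderOf_dvd_card' (G := R) 2 h2
    have hgne : (g : Matrix.SpecialLinearGroup (Fin 2) F) ≠ 1 := fun e => by
      rw [show g = 1 from Subtype.ext e, orderOf_one] at hg; omega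
    have h4 := pow_orderOf_eq_one g
    rw [hg, pow_two] at h4
    exact hinv _ hgne (congrArg Subtype.val h4) ▸ g.2
  have hkR : π.ker ≤ R := by
    rw [QuotientGroup.ker_mk']
    intro z hz
    rcases CfsgLib.SL2C.center_cases hz with rfl | rfl
    · exact one_mem _
    · exact hneg1
  have hR8 : Nat.card R = 8 := by
    have h := Subgroup.card_eq_card_quotient_mul_card_subgroup (π.comp R.subtype).ker
    rw [Nat.card_congr (QuotientGroup.quotientKerEquivRange _).toEquiv, MonoidHom.range_comp, Subgroup.range_subtype,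
      hN4, show (π.comp R.subtype).ker = π.ker.subgroupOf R from rfl,
      Nat.card_congr (Subgroup.subgroupOfEquivOfLe hkR).toEquiv, hker] at h
    exact h
  -- order of `a`
  have ha3 : orderOf a = 3 := by
    have h1 : orderOf (π a) = 3 := by rw [← Nat.card_zpowers, ← MonoidHom.map_zpowers]; exact hA3
    have h2 : a ^ 3 ∈ π.ker := by rw [MonoidHom.mem_ker, map_pow, ← h1, pow_orderOf_eq_one]
    rw [QuotientGroup.ker_mk'] at h2
    have h6 : a ^ 6 = 1 := by rw [show (6 : ℕ) = 3 + 3 from rfl, pow_add]; exact hzz _ h2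
    obtain ⟨k, hk⟩ := ha ⟨a, Subgroup.mem_zpowers a⟩
    have hdvd : orderOf a ∣ 3 := by
      have h7 : orderOf a ∣ 3 ^ k := orderOf_dvd_of_pow_eq_one (congrArg Subtype.val hk)
      exact (Nat.Coprime.coprime_dvd_left h7 (Nat.Coprime.pow_left k (by norm_num : Nat.Coprime 3 2))).dvd_of_dvd_mul_right
        (show orderOf a ∣ 3 * 2 from orderOf_dvd_of_pow_eq_one h6)
    rcases (Nat.dvd_prime Nat.prime_three).1 hdvd with h | h
    · rw [orderOf_eq_one_iff.1 h, map_one, orderOf_one] at h1; omega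
    · exact h
  have hsq : ∀ r ∈ R, π r ^ 2 = 1 := by
    intro r hr
    have hord : orderOf (π r) ∣ 2 ^ 2 := by
      have := Subgroup.orderOf_dvd_natCard (R.map π) (Subgroup.mem_map_of_mem π hr)
      rw [hN4] at this
      exact this
    obtain ⟨j, hj, he⟩ := (Nat.dvd_prime_pow Nat.prime_two).1 hord
    rcases Nat.lt_or_ge j 2 with hj2 | hj2
    · exact orderOf_dvd_iff_pow_eq_one.1 (he ▸ by simpa using Nat.pow_dvd_pow 2 (show j ≤ 1 by omega))
    exfalso
    obtain rfl : j = 2 := by omega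
    -- a cyclic group of order four has no automorphism of order three
    have hz : Subgroup.zpowers (π r) = R.map π := Subgroup.eq_of_le_of_card_ge
      (Subgroup.zpowers_le.2 (Subgroup.mem_map_of_mem π hr)) (by rw [Nat.card_zpowers, hN4, he]; norm_num)
    refine hnc ?_
    rw [MonoidHom.map_zpowers, Subgroup.zpowers_le, ← hz, Subgroup.mem_centralizer_iff]
    intro y hy
    obtain ⟨i, rfl⟩ := hy
    refine ((show Commute (π r) (π a) from ?_).zpow_left i).eq
    have hconj : π a * π r * (π a)⁻¹ ∈ Subgroup.zpowers (π r) := by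
      rw [hz]
      exact (Subgroup.mem_normalizer_iff.1 (hAN (Subgroup.mem_map_of_mem π (Subgroup.mem_zpowers a))) _).1
        (Subgroup.mem_map_of_mem π hr)
    obtain ⟨l, hl⟩ := hconj
    simp only at hl
    have hl4 : ∀ n : ℤ, π r ^ n = π r ^ (n % 4) := fun n => by
      conv_lhs => rw [← zpow_mod_orderOf (π r) n, he]
      norm_num
    rw [hl4] at hl
    have hcases : l % 4 = 0 ∨ l % 4 = 1 ∨ l % 4 = 2 ∨ l % 4 = 3 := by omega
    have hoc : orderOf (π a * π r * (π a)⁻¹) = 4 := by
      rw [show π a * π r * (π a)⁻¹ = MulAut.conj (π a) (π r) from rfl, MulEquiv.orderOf_eq, he]; norm_num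
    rcases hcases with h | h | h | h <;> rw [h] at hl
    · rw [zpow_zero] at hl; rw [← hl, orderOf_one] at hoc; omega
    · rw [zpow_one] at hl
      exact (mul_inv_eq_iff_eq_mul.1 hl.symm).symm
    · rw [← hl, zpow_ofNat, orderOf_pow, he] at hoc; norm_num at hoc
    · -- inversion by an element of order three
      have hinvr : π a * π r * (π a)⁻¹ = (π r)⁻¹ := by
        rw [← hl, eq_inv_iff_mul_eq_one, zpow_ofNat, ← pow_succ, show 3 + 1 = orderOf (π r) by rw [he]; norm_num,
          pow_orderOf_eq_one]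
      have h3 : π a ^ 3 = 1 := by rw [← map_pow, ← ha3, pow_orderOf_eq_one, map_one]
      have e2 : π a * (π r)⁻¹ * (π a)⁻¹ = π r := by rw [← conj_inv, hinvr, inv_inv]
      have e3 : π a ^ 3 * π r * (π a ^ 3)⁻¹ = (π r)⁻¹ := by
        calc π a ^ 3 * π r * (π a ^ 3)⁻¹ = π a * (π a * (π a * π r * (π a)⁻¹) * (π a)⁻¹) * (π a)⁻¹ := by
              rw [pow_succ, pow_succ, pow_one]; group
          _ = (π r)⁻¹ := by rw [hinvr, e2, hinvr]
      rw [h3, one_mul, inv_one, mul_one] at e3
      have : π r ^ 2 = 1 := by rw [pow_two, mul_eq_one_iff_eq_inv, ← e3]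
      have h2 := orderOf_dvd_of_pow_eq_one this
      rw [he] at h2
      norm_num at h2
  have h4 : ∀ x : R, x ^ 4 = 1 := by
    intro x
    have h := hsq x x.2
    rw [← map_pow, ← MonoidHom.mem_ker, QuotientGroup.ker_mk'] at h
    apply Subtype.ext
    rw [Subgroup.coe_pow, show (4 : ℕ) = 2 + 2 from rfl, pow_add]
    exact hzz _ h
  have huniq : ∀ x y : R, x ^ 2 = 1 → y ^ 2 = 1 → x ≠ 1 → y ≠ 1 → x = y := by
    intro x y hx hy hx1 hy1
    refine Subtype.ext ((hinv _ (fun e => hx1 (Subtype.ext e)) ?_).trans (hinv _ (fun e => hy1 (Subtype.ext e)) ?_).symm)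
    · have := congrArg Subtype.val hx; rwa [Subgroup.coe_pow, pow_two] at this
    · have := congrArg Subtype.val hy; rwa [Subgroup.coe_pow, pow_two] at this
  obtain ⟨eQ⟩ := CfsgLib.Unitary.nonempty_mulEquiv_quaternion hR8 h4 huniq
  refine ⟨rfl, ⟨eQ⟩, ?_⟩
  -- the section is everything
  set L := R ⊔ A
  have hRL : R ≤ L := le_sup_left
  have haL : a ∈ L := Subgroup.mem_sup_right (Subgroup.mem_zpowers a)
  have hL24 : Nat.card L ≤ 24 := by
    open Pointwise in
      have hc : (L : Set (Matrix.SpecialLinearGroup (Fin 2) F)) = (R : Set _) * (A : Set _) :=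
        Subgroup.coe_mul_of_right_le_normalizer_left R A hAR
      rw [show Nat.card L = (L : Set (Matrix.SpecialLinearGroup (Fin 2) F)).ncard from rfl, hc]
      refine (Set.natCard_mul_le).trans (le_of_eq ?_)
      rw [SetLike.coe_sort_coe, SetLike.coe_sort_coe, hR8, hA,
        Nat.card_zpowers, ha3]
  let Q' := R.subgroupOf L
  have eQ' : Q' ≃* QuaternionGroup 2 := (Subgroup.subgroupOfEquivOfLe hRL).trans eQ
  obtain ⟨H, K, hK, ⟨e⟩⟩ := CfsgLib.QSection.exists_section Q' eQ' ⟨a, haL⟩ (by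
      refine Subgroup.mem_normalizer_iff.2 fun x => ?_
      simp only [Q', Subgroup.mem_subgroupOf, Subgroup.coe_mul, Subgroup.coe_inv]
      exact Subgroup.mem_normalizer_iff.1 haR _)
    (by rw [Subgroup.orderOf_mk, ha3]; decide) (fun hcen => hnt (by
      rw [Subgroup.commutator_eq_bot_iff_le_centralizer]
      intro r hr
      rw [Subgroup.mem_centralizer_iff]
      rintro y ⟨i, rfl⟩
      exact ((show Commute a r from (congrArg Subtype.val (Subgroup.mem_centralizer_iff.1 hcen ⟨r, hRL hr⟩ hr)).symm).zpow_left i).eq))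
  have hH24 : Nat.card (H ⧸ K.subgroupOf H) = 24 := by
    rw [Nat.card_congr e.toEquiv, CfsgLib.KnownB.card_SL23]
  have hle1 := Subgroup.card_le_card_group H
  have hmul := Subgroup.card_eq_card_quotient_mul_card_subgroup (K.subgroupOf H)
  rw [hH24] at hmul
  have hK1 : Nat.card (K.subgroupOf H) = 1 := by
    have : 0 < Nat.card (K.subgroupOf H) := Nat.card_pos
    nlinarith
  have hHtop : H = ⊤ := Subgroup.eq_top_of_le_card H (by rw [hmul, hK1]; omega)
  have hKbot : K.subgroupOf H = ⊥ := Subgroup.card_eq_one.1 hK1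
  exact ⟨(Subgroup.topEquiv.symm.trans ((MulEquiv.subgroupCongr hHtop.symm).trans
    ((QuotientGroup.quotientBot.symm.trans (QuotientGroup.quotientMulEquivOfEq hKbot.symm)).trans e)))⟩

end Cfsg.Agent.S3740
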