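import Cfsg.Statements.S3741
import Mathlib.GroupTheory.PGroup
import Mathlib.GroupTheory.Index
import Mathlib.GroupTheory.Commutator.Basic

set_option autoImplicit false
open Cfsg

namespace Cfsg.Agent.S3741

open scoped commutatorElement

/-- Pairing: if `⁅A, B⁆` is central and of order at most `p`, then `[A : C_A(B)] ≤ [B : C_B(A)]`. -/
theorem le_aux {G : Type*} [Group G] [Finite G] {p : ℕ} [Fact p.Prime] (hG : IsPGroup p G)
    (A B : Subgroup G) (hAB : ⁅A, B⁆ ≤ A ⊓ B) (hcard : Nat.card ↥⁅A, B⁆ ≤ p) :
    (A ⊓ Subgroup.centralizer (B : Set G)).relIndex A ≤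
      (B ⊓ Subgroup.centralizer (A : Set G)).relIndex B := by
  -- `⁅A, B⁆` is centralised by `A` and by `B`
  have hcent : ∀ z ∈ ⁅A, B⁆, ∀ g ∈ A ⊔ B, g * z = z * g := by
    intro z hz g hg
    set Z := ⁅A, B⁆
    have hN : A ⊔ B ≤ Subgroup.normalizer (Z : Set G) :=
      sup_le (Subgroup.normalizer_commutator_ge_left A B) (Subgroup.normalizer_commutator_ge_right A B)
    set K := A ⊔ B
    set Z' := Z.subgroupOf K
    haveI : Z'.Normal := (Subgroup.normal_subgroupOf_iff_le_normalizer
      (hAB.trans (inf_le_left.trans le_sup_left))).2 hN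
    have hzK : z ∈ K := Subgroup.mem_sup_left ((hAB hz).1)
    by_cases hZ : Z' = ⊥
    · have : (⟨z, hzK⟩ : K) ∈ Z' := hz
      rw [hZ, Subgroup.mem_bot] at this
      rw [show z = 1 from congrArg Subtype.val this, mul_one, one_mul]
    · haveI : Nontrivial Z' := Z'.nontrivial_iff_ne_bot.2 hZ
      have hcard' : Nat.card Z' ≤ p := by
        refine le_trans ?_ hcard
        exact Nat.card_le_card_of_injective (fun x : Z' => (⟨((x : K) : G), x.2⟩ : Z))
          fun x y h => Subtype.ext (Subtype.ext (congrArg (fun w : Z => (w : G)) h))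
      have hpK : IsPGroup p K := hG.to_subgroup K
      have hcp : p ∣ Nat.card Z' := (hpK.to_subgroup Z').card_eq_or_dvd.resolve_left
        (Finite.one_lt_card (α := Z')).ne'
      have hle : Z' ≤ Subgroup.center K := by
        let _ : MulAction K Z' := MulAction.compHom Z' (MulAut.conjNormal (H := Z'))
        obtain ⟨x, hx, hx1⟩ := hpK.exists_fixed_point_of_prime_dvd_card_of_fixed_point Z' hcp
          (a := (1 : Z')) (fun k => map_one (MulAut.conjNormal (H := Z') k))
        intro y hy
        have hp := (Fact.out : p.Prime)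
        have heq : Nat.card Z' = p := le_antisymm hcard' (Nat.le_of_dvd Nat.card_pos hcp)
        have htop := zpowers_eq_top_of_prime_card heq (Ne.symm hx1)
        obtain ⟨i, hi⟩ := Subgroup.mem_zpowers_iff.1
          (htop ▸ Subgroup.mem_top (⟨y, hy⟩ : Z') : (⟨y, hy⟩ : Z') ∈ Subgroup.zpowers x)
        have hxc : (x : K) ∈ Subgroup.center K := Subgroup.mem_center_iff.2 fun k => by
          have := congrArg Subtype.val (hx k)
          exact mul_inv_eq_iff_eq_mul.1 this
        have hyeq : y = (x : K) ^ i := by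
          rw [← Subgroup.coe_zpow, hi]
        rw [hyeq]
        exact Subgroup.zpow_mem _ hxc i
      exact congrArg Subtype.val (Subgroup.mem_center_iff.1 (hle (show (⟨z, hzK⟩ : K) ∈ Z' from hz))
        ⟨g, hg⟩)
  set CB := B ⊓ Subgroup.centralizer (A : Set G)
  suffices h : ∀ (n : ℕ) (K : Subgroup G), Nat.card B - Nat.card K = n → CB ≤ K → K ≤ B →
      (A ⊓ Subgroup.centralizer (B : Set G)).relIndex A * CB.relIndex K ≤
        (A ⊓ Subgroup.centralizer (K : Set G)).relIndex A * CB.relIndex B by
    have := h _ CB rfl le_rfl inf_le_left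
    have e : A ⊓ Subgroup.centralizer (CB : Set G) = A := inf_eq_left.2 fun a ha =>
      Subgroup.mem_centralizer_iff.2 fun b hb => (Subgroup.mem_centralizer_iff.1 hb.2 a ha).symm
    simpa [e] using this
  intro n
  induction n using Nat.strong_induction_on with
  | _ n ih =>
    intro K hn hCK hKB
    by_cases hKeq : K = B
    · subst hKeq; exact le_rfl
    obtain ⟨b, hbB, hbK⟩ := SetLike.exists_of_lt (lt_of_le_of_ne hKB hKeq)
    set K' := K ⊔ Subgroup.zpowers b
    have hK'B : K' ≤ B := sup_le hKB (Subgroup.zpowers_le.2 hbB)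
    have hKK' : K < K' := lt_of_le_of_ne le_sup_left fun h =>
      hbK (h ▸ Subgroup.mem_sup_right (Subgroup.mem_zpowers b))
    have hcardlt : Nat.card K < Nat.card K' :=
      lt_of_le_of_ne (Subgroup.card_le_of_le hKK'.le) fun h =>
        hKK'.ne (Subgroup.eq_of_le_of_card_ge hKK'.le h.ge)
    have hle' := Subgroup.card_le_of_le hK'B
    have h1 := ih _ (by omega) K' rfl (hCK.trans hKK'.le) hK'B
    -- `[K' : K] ≥ p`
    have hp2 : p * CB.relIndex K ≤ CB.relIndex K' := by
      rw [← Subgroup.relIndex_mul_relIndex CB K K' hCK hKK'.le, mul_comm]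
      refine Nat.mul_le_mul_left _ ?_
      obtain ⟨e, he⟩ := (hG.to_subgroup K').index (K.subgroupOf K')
      change p ≤ (K.subgroupOf K').index
      rw [he]
      refine Nat.le_self_pow (fun h0 => ?_) p
      rw [h0, pow_zero, Subgroup.index_eq_one, Subgroup.subgroupOf_eq_top] at he
      exact hKK'.not_ge he
    -- `[C_A(K) : C_A(K')] ≤ p`
    have hp1 : (A ⊓ Subgroup.centralizer (K' : Set G)).relIndex A ≤
        p * (A ⊓ Subgroup.centralizer (K : Set G)).relIndex A := by
      set CK := A ⊓ Subgroup.centralizer (K : Set G)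
      set CK' := A ⊓ Subgroup.centralizer (K' : Set G)
      have hsub : CK' ≤ CK := inf_le_inf_left A (Subgroup.centralizer_le hKK'.le)
      rw [← Subgroup.relIndex_mul_relIndex CK' CK A hsub inf_le_left]
      refine Nat.mul_le_mul_right _ ?_
      let φ : CK →* ↥⁅A, B⁆ :=
        MonoidHom.mk' (fun a => ⟨⁅(a : G), b⁆, Subgroup.commutator_mem_commutator a.2.1 hbB⟩)
          fun x y => Subtype.ext (by
            show ⁅(x : G) * y, b⁆ = ⁅(x : G), b⁆ * ⁅(y : G), b⁆
            have hy := hcent _ (Subgroup.commutator_mem_commutator y.2.1 hbB) x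
              (Subgroup.mem_sup_left x.2.1)
            have hxc := hcent _ (Subgroup.commutator_mem_commutator y.2.1 hbB) ⁅(x : G), b⁆
              (Subgroup.mem_sup_left (hAB (Subgroup.commutator_mem_commutator x.2.1 hbB)).1)
            calc ⁅(x : G) * y, b⁆ = x * ⁅(y : G), b⁆ * (x : G)⁻¹ * ⁅(x : G), b⁆ := by
                  simp only [commutatorElement_def]; group
              _ = ⁅(x : G), b⁆ * ⁅(y : G), b⁆ := by rw [hy, mul_inv_cancel_right, hxc])
      have hker : φ.ker ≤ CK'.subgroupOf CK := by
        intro a ha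
        refine ⟨a.2.1, ?_⟩
        have h0 : ⁅(a : G), b⁆ = 1 := congrArg Subtype.val (MonoidHom.mem_ker.1 ha)
        have : K' ≤ Subgroup.centralizer ({(a : G)} : Set G) := sup_le
          (fun k hk => Subgroup.mem_centralizer_iff.2 (by
            intro y hy; rw [Set.mem_singleton_iff.1 hy]
            exact ((Subgroup.mem_centralizer_iff.1 a.2.2) k hk).symm))
          (Subgroup.zpowers_le.2 (Subgroup.mem_centralizer_iff.2 (by
            intro y hy; rw [Set.mem_singleton_iff.1 hy]
            exact commutatorElement_eq_one_iff_mul_comm.1 h0)))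
        exact Subgroup.mem_centralizer_iff.2 fun k hk =>
          (Subgroup.mem_centralizer_iff.1 (this hk) _ rfl).symm
      calc CK'.relIndex CK ≤ φ.ker.index :=
            Nat.le_of_dvd (Nat.pos_of_ne_zero Subgroup.index_ne_zero_of_finite)
              (Subgroup.index_dvd_of_le hker)
        _ = Nat.card φ.range := Subgroup.index_ker φ
        _ ≤ p := (Subgroup.card_le_card_group _).trans hcard
    have hp := (Fact.out : p.Prime).pos
    have key : p * ((A ⊓ Subgroup.centralizer (B : Set G)).relIndex A * CB.relIndex K) ≤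
        p * ((A ⊓ Subgroup.centralizer (K : Set G)).relIndex A * CB.relIndex B) :=
      calc p * ((A ⊓ Subgroup.centralizer (B : Set G)).relIndex A * CB.relIndex K)
          = (A ⊓ Subgroup.centralizer (B : Set G)).relIndex A * (p * CB.relIndex K) := by ring
        _ ≤ (A ⊓ Subgroup.centralizer (B : Set G)).relIndex A * CB.relIndex K' :=
            Nat.mul_le_mul_left _ hp2
        _ ≤ (A ⊓ Subgroup.centralizer (K' : Set G)).relIndex A * CB.relIndex B := h1
        _ ≤ p * (A ⊓ Subgroup.centralizer (K : Set G)).relIndex A * CB.relIndex B :=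
            Nat.mul_le_mul_right _ hp1
        _ = _ := by ring
    exact Nat.le_of_mul_le_mul_left key hp

/-- Let A and B be subgroups of a finite p-group with [A, B] ≤ A ∩ B and [A, B] of order at most p. Then |A : C_A(B)| = |B : C_B(A)|. -/
theorem result {G : Type*} [Group G] [Finite G] {p : ℕ} [Fact p.Prime] (hG : IsPGroup p G) (A B : Subgroup G) (hAB : ⁅A, B⁆ ≤ A ⊓ B) (hcard : Nat.card ↥⁅A, B⁆ ≤ p) : (A ⊓ Subgroup.centralizer (B : Set G)).relIndex A = (B ⊓ Subgroup.centralizer (A : Set G)).relIndex B := by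
  refine le_antisymm (le_aux hG A B hAB hcard) ?_
  rw [Subgroup.commutator_comm] at hAB hcard
  exact le_aux hG B A (inf_comm A B ▸ hAB) hcard

end Cfsg.Agent.S3741
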