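import Cfsg.Statements.S3744
import Cfsg.Agent.FGSA.PComplement

set_option autoImplicit false
open Cfsg

namespace Cfsg.Agent.S3744

/-- A finite p-soluble group has a p-complement, all its p-complements are conjugate, and every subgroup of order prime to p lies in one of them. Here a p-complement is a subgroup of order prime to p whose index is a power of p. -/
theorem result {G : Type*} [Group G] [Finite G] {p : ℕ} [Fact p.Prime] (hG : Cfsg.IsPSolvable p G) : (∃ H : Subgroup G, (Nat.card H).Coprime p ∧ ∃ n : ℕ, H.index = p ^ n) ∧ (∀ H₁ H₂ : Subgroup G, (Nat.card H₁).Coprime p → (∃ n : ℕ, H₁.index = p ^ n) → (Nat.card H₂).Coprime p → (∃ n : ℕ, H₂.index = p ^ n) → ∃ g : G, H₂ = H₁.map (MulAut.conj g).toMonoidHom) ∧ (∀ U : Subgroup G, (Nat.card U).Coprime p → ∃ H : Subgroup G, (Nat.card H).Coprime p ∧ (∃ n : ℕ, H.index = p ^ n) ∧ ∃ g : G, U.map (MulAut.conj g).toMonoidHom ≤ H) := by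
  obtain ⟨H, hH, hHi, hdom⟩ := CfsgLib.PComplement.exists_complement hG
  refine ⟨⟨H, hH, hHi⟩, fun H₁ H₂ h1 ⟨i, hi⟩ h2 ⟨j, hj⟩ => ?_, fun U hU => ?_⟩
  · have key : ∀ K : Subgroup G, (Nat.card K).Coprime p → (∃ i, K.index = p ^ i) →
        ∃ g : G, K.map (MulAut.conj g).toMonoidHom = H := by
      intro K hK ⟨i, hi⟩
      obtain ⟨g, hg⟩ := hdom K hK
      refine ⟨g, Subgroup.eq_of_le_of_card_ge hg (le_of_eq ?_)⟩
      rw [Subgroup.card_map_of_injective (f := (MulAut.conj g).toMonoidHom) (MulAut.conj g).injective]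
      obtain ⟨m, hm⟩ := hHi
      have e1 := K.card_mul_index
      rw [← H.card_mul_index, hi, hm] at e1
      exact Nat.dvd_antisymm ((hH.pow_right i).dvd_of_dvd_mul_right ⟨p ^ m, e1⟩)
        ((hK.pow_right m).dvd_of_dvd_mul_right ⟨p ^ i, e1.symm⟩)
    obtain ⟨g₁, hg₁⟩ := key H₁ h1 ⟨i, hi⟩
    obtain ⟨g₂, hg₂⟩ := key H₂ h2 ⟨j, hj⟩
    refine ⟨g₂⁻¹ * g₁, ?_⟩
    have h : (H₂.map (MulAut.conj g₂).toMonoidHom).map (MulAut.conj g₂⁻¹).toMonoidHom =
        (H₁.map (MulAut.conj g₁).toMonoidHom).map (MulAut.conj g₂⁻¹).toMonoidHom := by rw [hg₁, hg₂]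
    rw [Subgroup.map_map, Subgroup.map_map] at h
    have e2 : (MulAut.conj g₂⁻¹).toMonoidHom.comp (MulAut.conj g₂).toMonoidHom = MonoidHom.id G := by
      ext x; simp [mul_assoc]
    rw [e2, Subgroup.map_id] at h
    rw [h]
    congr 1
    ext x
    simp [mul_assoc]
  · obtain ⟨g, hg⟩ := hdom U hU
    exact ⟨H, hH, hHi, g, hg⟩

end Cfsg.Agent.S3744
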