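import Cfsg.Statements.S3746
import Cfsg.Agent.Comp.Layer

set_option autoImplicit false
open Cfsg

namespace Cfsg.Agent.S3746

open Subgroup
open scoped commutatorElement


/-- Let Z ≤ Z(G) be a central subgroup of a finite group G and E a subgroup of G containing Z whose image E/Z is a component of G/Z (subnormal and quasisimple). Then the derived subgroup [E, E] is a component of G. -/
theorem result {G : Type*} [Group G] [Finite G] (Z : Subgroup G) (hZ : Z ≤ Subgroup.center G) [Z.Normal] (E : Subgroup G) (hZE : Z ≤ E) (hE : Cfsg.IsComponent (E.map (QuotientGroup.mk' Z))) : Cfsg.IsComponent ⁅E, E⁆ := by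
  have hf : Function.Surjective (QuotientGroup.mk' Z) := QuotientGroup.mk'_surjective Z
  have hcomap : (E.map (QuotientGroup.mk' Z)).comap (QuotientGroup.mk' Z) = E := by
    rw [comap_map_eq, QuotientGroup.ker_mk', sup_eq_left.2 hZE]
  have hEsn : E.IsSubnormal := hcomap ▸ hE.1.comap _
  set D := ⁅E, E⁆ with hD
  have hDE : D ≤ E := commutator_le_self E
  have hmap : D.map (QuotientGroup.mk' Z) = E.map (QuotientGroup.mk' Z) := by
    rw [hD, map_commutator, CfsgLib.Comp.component_perfect hE]
  have hsup : E ≤ D ⊔ Z := by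
    intro e he
    obtain ⟨d, hd, hde⟩ := hmap.symm ▸ mem_map_of_mem (QuotientGroup.mk' Z) he
    have hz : d⁻¹ * e ∈ Z := QuotientGroup.eq.1 hde
    have := (D ⊔ Z).mul_mem (mem_sup_left hd) (mem_sup_right hz)
    rwa [mul_inv_cancel_left] at this
  have hperf : ⁅D, D⁆ = D := by
    refine le_antisymm (commutator_le_self D) ?_
    rw [hD, commutator_le]
    intro a ha b hb
    have hdec : ∀ e ∈ E, ∃ d ∈ D, ∃ z ∈ Z, d * z = e := fun e he => by
      have h := hsup he
      rwa [mem_sup_of_normal_right] at h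
    obtain ⟨d, hd, z, hz, rfl⟩ := hdec a ha
    obtain ⟨d', hd', z', hz', rfl⟩ := hdec b hb
    have h1 := mem_center_iff.1 (hZ hz)
    have h2 := mem_center_iff.1 (hZ hz')
    have : ⁅d * z, d' * z'⁆ = ⁅d, d'⁆ := by
      simp only [commutatorElement_def, mul_inv_rev]
      calc d * z * (d' * z') * (z⁻¹ * d⁻¹) * (z'⁻¹ * d'⁻¹)
          = d * (z * (d' * z')) * z⁻¹ * d⁻¹ * (z'⁻¹ * d'⁻¹) := by group
        _ = d * (d' * z') * d⁻¹ * (z'⁻¹ * d'⁻¹) := by rw [← h1]; group
        _ = d * d' * (z' * d⁻¹) * (z'⁻¹ * d'⁻¹) := by group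
        _ = d * d' * d⁻¹ * d'⁻¹ := by rw [← h2]; group
    rw [this]
    exact commutator_mem_commutator hd hd'
  refine ⟨CfsgLib.Comp.isSubnormal_commutator hEsn, isPerfect_iff.2 hperf, ?_⟩
  let g : D →* E.map (QuotientGroup.mk' Z) :=
    MonoidHom.mk' (fun d => ⟨QuotientGroup.mk' Z d, mem_map_of_mem _ (hDE d.2)⟩)
      fun a b => Subtype.ext (map_mul _ _ _)
  have hg : Function.Surjective g := by
    rintro ⟨y, hy⟩
    rw [← hmap] at hy
    obtain ⟨d, hd, hdy⟩ := hy
    exact ⟨⟨d, hd⟩, Subtype.ext hdy⟩
  let h : D →* (E.map (QuotientGroup.mk' Z)) ⧸ center (E.map (QuotientGroup.mk' Z)) :=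
    (QuotientGroup.mk' _).comp g
  have hh : Function.Surjective h := (QuotientGroup.mk'_surjective _).comp hg
  have hker : h.ker = center D := by
    ext d
    rw [MonoidHom.mem_ker, MonoidHom.comp_apply, QuotientGroup.mk'_apply, QuotientGroup.eq_one_iff]
    constructor
    · intro hd
      let φ : D →* Z := MonoidHom.mk' (fun x => ⟨⁅(x : G), (d : G)⁆, by
        have h1 := congrArg Subtype.val (mem_center_iff.1 hd (g x))
        rw [← QuotientGroup.ker_mk' Z, MonoidHom.mem_ker, map_commutatorElement]
        exact commutatorElement_eq_one_iff_mul_comm.2 h1⟩) fun a b => Subtype.ext (by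
          show ⁅(a : G) * b, (d : G)⁆ = ⁅(a : G), (d : G)⁆ * ⁅(b : G), (d : G)⁆
          have h1 : ∀ x : G, x ∈ D → ⁅x, (d : G)⁆ ∈ center G := fun x hx => hZ (by
            have h1 := congrArg Subtype.val (mem_center_iff.1 hd (g ⟨x, hx⟩))
            rw [← QuotientGroup.ker_mk' Z, MonoidHom.mem_ker, map_commutatorElement]
            exact commutatorElement_eq_one_iff_mul_comm.2 h1)
          have h2 := mem_center_iff.1 (h1 b b.2)
          calc ⁅(a : G) * b, (d : G)⁆ = a * ⁅(b : G), (d : G)⁆ * (d * (a : G)⁻¹ * (d : G)⁻¹) := by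
                simp only [commutatorElement_def]; group
            _ = ⁅(b : G), (d : G)⁆ * ⁅(a : G), (d : G)⁆ := by
                rw [h2]; simp only [commutatorElement_def]; group
            _ = _ := (h2 _).symm)
      have htop : φ.ker = ⊤ := by
        have hc : commutator D ≤ φ.ker := by
          rw [_root_.commutator_def, commutator_le]
          intro a _ b _
          rw [MonoidHom.mem_ker, map_commutatorElement, commutatorElement_eq_one_iff_mul_comm]
          exact Subtype.ext (mem_center_iff.1 (hZ (φ b).2) (φ a))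
        haveI : Group.IsPerfect D := isPerfect_iff.2 hperf
        rwa [Group.IsPerfect.commutator_eq_top, top_le_iff] at hc
      refine mem_center_iff.2 fun x => Subtype.ext ?_
      have hx : x ∈ φ.ker := htop ▸ mem_top x
      exact commutatorElement_eq_one_iff_mul_comm.1 (congrArg Subtype.val (MonoidHom.mem_ker.1 hx))
    · intro hd
      refine mem_center_iff.2 fun y => ?_
      obtain ⟨x, rfl⟩ := hg y
      rw [← map_mul, ← map_mul, mem_center_iff.1 hd x]
  haveI := hE.2.2
  haveI : Nontrivial (D ⧸ center D) := ((QuotientGroup.quotientMulEquivOfEq hker).symm.trans (QuotientGroup.quotientKerEquivOfSurjective h hh)).toEquiv.nontrivial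
  exact IsSimpleGroup.isSimpleGroup_of_surjective
    ((QuotientGroup.quotientMulEquivOfEq hker).symm.trans (QuotientGroup.quotientKerEquivOfSurjective h hh)).symm.toMonoidHom
    (MulEquiv.surjective _)

end Cfsg.Agent.S3746
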