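import Cfsg.Statements.S3747
import Cfsg.Agent.Comp.Layer

set_option autoImplicit false
open Cfsg

namespace Cfsg.Agent.S3747

open Subgroup
open scoped commutatorElement

theorem mul_comm' {M : Type*} [Mul M] [IsMulCommutative M] (a b : M) : a * b = b * a :=
  IsMulCommutative.is_comm.comm a b

theorem eq_one_of_mem_sSup {G : Type*} [Group G] {ι : Type*} (L : ι → Subgroup G)
    (hc : ∀ i j, L i = L j ∨ ⁅L i, L j⁆ = ⊥) (hZ : ∀ i, center ↥(L i) = ⊥) (s : Finset ι) :
    ∀ z ∈ ⨆ i ∈ s, L i, (∀ i ∈ s, ∀ x ∈ L i, x * z = z * x) → z = 1 := by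
  classical
  induction s using Finset.induction with
  | empty => intro z hz _; simpa using hz
  | @insert a s ha ih =>
    intro z hz hcomm
    rw [Finset.iSup_insert] at hz
    by_cases hdup : ∃ j ∈ s, L a = L j
    · obtain ⟨j, hj, hj'⟩ := hdup
      refine ih z ?_ fun i hi => hcomm i (Finset.mem_insert_of_mem hi)
      have : L a ⊔ ⨆ i ∈ s, L i = ⨆ i ∈ s, L i :=
        sup_eq_right.2 (hj'.le.trans (le_iSup₂_of_le j hj le_rfl))
      rwa [this] at hz
    push Not at hdup
    have hC : (⨆ i ∈ s, L i) ≤ centralizer (L a : Set G) := iSup₂_le fun i hi => by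
      rw [← commutator_eq_bot_iff_le_centralizer, commutator_comm]
      exact (hc a i).resolve_left (hdup i hi)
    have hnorm : (⨆ i ∈ s, L i) ≤ normalizer (L a : Set G) := hC.trans (centralizer_le_normalizer _)
    rw [← SetLike.mem_coe, coe_mul_of_right_le_normalizer_left _ _ hnorm] at hz
    obtain ⟨k, hk, c, hcm, rfl⟩ := hz
    have hk1 : k = 1 := by
      have hkc : (⟨k, hk⟩ : L a) ∈ center ↥(L a) := by
        refine mem_center_iff.2 fun x => Subtype.ext ?_
        have h1 := hcomm a (Finset.mem_insert_self _ _) x x.2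
        have h2 : (x : G) * c = c * x := mem_centralizer_iff.1 (hC hcm) x x.2
        show (x : G) * k = k * x
        refine mul_right_cancel (b := c) ?_
        calc (x : G) * k * c = k * c * x := by rw [mul_assoc]; exact h1
          _ = k * x * c := by rw [mul_assoc, ← h2, mul_assoc]
      rw [hZ a, mem_bot] at hkc
      exact congrArg Subtype.val hkc
    subst hk1
    simp only [one_mul] at hcomm ⊢
    exact ih c hcm fun i hi => hcomm i (Finset.mem_insert_of_mem hi)

theorem minimal_closure {G : Type*} [Group G] [Finite G] (K : Subgroup G) (hK : Cfsg.IsComponent K)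
    (hZ : center ↥K = ⊥) : normalClosure (K : Set G) ≠ ⊥ ∧
      ∀ N : Subgroup G, N.Normal → N ≤ normalClosure (K : Set G) → N = ⊥ ∨ N = normalClosure (K : Set G) := by
  classical
  refine ⟨fun h => CfsgLib.Comp.component_ne_bot hK (le_bot_iff.1 (h ▸ subset_normalClosure)), fun N hN hle => ?_⟩
  haveI := hN
  by_cases hKN : K ≤ N
  · exact Or.inr (le_antisymm hle (normalClosure_le_normal hKN))
  left
  let L : G → Subgroup G := fun g => K.map (MulAut.conj g).toMonoidHom
  have hL : ∀ g, Cfsg.IsComponent (L g) := fun g => CfsgLib.Comp.component_conj g hK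
  have hLN : ∀ g, ⁅L g, N⁆ = ⊥ := fun g => by
    refine (CfsgLib.Comp.component_le_or_commutator_eq_bot (hL g) hN.isSubnormal).resolve_left fun h => hKN ?_
    intro x hx
    have := hN.conj_mem _ (h (mem_map_of_mem (MulAut.conj g).toMonoidHom hx)) g⁻¹
    simpa [mul_assoc] using this
  haveI := Fintype.ofFinite G
  have hcl : normalClosure (K : Set G) ≤ ⨆ g ∈ (Finset.univ : Finset G), L g := by
    rw [normalClosure, closure_le]
    intro x hx
    obtain ⟨k, hk, hkx⟩ := Group.mem_conjugatesOfSet_iff.1 hx
    obtain ⟨g, rfl⟩ := isConj_iff.1 hkx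
    exact le_iSup₂_of_le (f := fun g (_ : g ∈ (Finset.univ : Finset G)) => L g) g (Finset.mem_univ g) le_rfl
      (mem_map_of_mem (MulAut.conj g).toMonoidHom hk)
  refine (eq_bot_iff_forall N).2 fun z hz => eq_one_of_mem_sSup L
    (fun i j => CfsgLib.Comp.component_eq_or_commute (hL i) (hL j)) (fun g => ?_) Finset.univ z (hcl (hle hz))
    fun g _ x hx => ?_
  · refine (eq_bot_iff_forall _).2 fun x hx => ?_
    let e := K.equivMapOfInjective (MulAut.conj g).toMonoidHom (MulAut.conj g).injective
    have h : e.symm x ∈ center ↥K := mem_center_iff.2 fun y => e.injective (by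
      rw [map_mul, map_mul, e.apply_symm_apply]; exact mem_center_iff.1 hx (e y))
    rw [hZ, mem_bot] at h
    rw [← e.apply_symm_apply x, h, map_one]
  · exact (mem_centralizer_iff.1 ((commutator_eq_bot_iff_le_centralizer.1 (hLN g)) hx) z hz).symm


/-- Let G be a finite group. (a) If K is a component of G with trivial centre, then the normal closure of K in G is a minimal normal subgroup of G. (b) If the Fitting subgroup of G is trivial, then the layer E(G) is generated by the minimal normal subgroups of G. -/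
theorem result {G : Type*} [Group G] [Finite G] : (∀ K : Subgroup G, Cfsg.IsComponent K → Subgroup.center ↥K = ⊥ → (Subgroup.normalClosure (K : Set G) ≠ ⊥ ∧ ∀ N : Subgroup G, N.Normal → N ≤ Subgroup.normalClosure (K : Set G) → N = ⊥ ∨ N = Subgroup.normalClosure (K : Set G))) ∧ (Cfsg.fittingSubgroup G = ⊥ → sSup {N : Subgroup G | N ≠ ⊥ ∧ N.Normal ∧ ∀ N' : Subgroup G, N'.Normal → N' ≤ N → N' = ⊥ ∨ N' = N} = Cfsg.layer G) := by
  have part1 : ∀ K : Subgroup G, Cfsg.IsComponent K → center ↥K = ⊥ →
      normalClosure (K : Set G) ≠ ⊥ ∧ ∀ N : Subgroup G, N.Normal → N ≤ normalClosure (K : Set G) →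
        N = ⊥ ∨ N = normalClosure (K : Set G) := minimal_closure
  refine ⟨part1, fun hF => le_antisymm (sSup_le ?_) (CfsgLib.Comp.layer_le fun K hK => ?_)⟩
  · rintro N ⟨hN1, hNn, hNmin⟩
    by_contra hle
    haveI := hNn
    haveI : (Cfsg.layer G).Normal := inferInstance
    have hbot : N ⊓ Cfsg.layer G = ⊥ :=
      (hNmin _ inferInstance inf_le_left).resolve_right fun h => hle (h ▸ inf_le_right)
    have h1 : N ≤ centralizer (Cfsg.generalizedFittingSubgroup G : Set G) := by
      rw [Cfsg.generalizedFittingSubgroup, hF, sup_bot_eq, ← commutator_eq_bot_iff_le_centralizer, eq_bot_iff,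
        ← hbot]
      exact commutator_le_inf N (Cfsg.layer G)
    have h2 := h1.trans CfsgLib.Comp.centralizer_Fstar_le
    rw [Cfsg.generalizedFittingSubgroup, hF, sup_bot_eq] at h2
    exact hle h2
  · have hc : center ↥K = ⊥ := by
      have h1 : ((center ↥K).map K.subtype).IsSubnormal :=
        CfsgLib.Comp.isSubnormal_map_subtype hK.1 inferInstance
      haveI : IsMulCommutative (center ↥K) := inferInstance
      letI : CommGroup (center ↥K) := { (inferInstance : Group (center ↥K)) with mul_comm := mul_comm' }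
      have h2 : Group.IsNilpotent ↥((center ↥K).map K.subtype) :=
        Group.nilpotent_of_mulEquiv ((center ↥K).equivMapOfInjective _ K.subtype_injective)
      have h3 := CfsgLib.Comp.subnormal_nilpotent_le_fitting h1 h2
      rwa [hF, le_bot_iff, map_eq_bot_iff_of_injective _ K.subtype_injective] at h3
    exact le_normalClosure.trans (le_sSup
      (show normalClosure (K : Set G) ∈ {N : Subgroup G | N ≠ ⊥ ∧ N.Normal ∧ ∀ N' : Subgroup G, N'.Normal → N' ≤ N → N' = ⊥ ∨ N' = N} from
      ⟨(part1 K hK hc).1, inferInstance, (part1 K hK hc).2⟩))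

end Cfsg.Agent.S3747
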