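import Cfsg.Statements.S3748
import Cfsg.Agent.Solvable.Zipper
import Cfsg.Agent.Comp.Fitting

set_option autoImplicit false
open Cfsg

namespace Cfsg.Agent.S3748

/-- Call a proper subgroup M of G primitive when M = N_G(N) for every non-trivial normal subgroup N of M. If M is a primitive subgroup of the finite group G, then no non-trivial subnormal subgroup of G is contained in M; in particular M ∩ F(G) = 1. -/
theorem result {G : Type*} [Group G] [Finite G] (M : Subgroup G) (hM : M ≠ ⊤) (hprim : ∀ N : Subgroup G, N ≤ M → M ≤ Subgroup.normalizer (N : Set G) → N ≠ ⊥ → Subgroup.normalizer (N : Set G) = M) : (∀ L : Subgroup G, L.IsSubnormal → L ≤ M → L = ⊥) ∧ M ⊓ Cfsg.fittingSubgroup G = ⊥ := by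
  have key : ∀ L : Subgroup G, L.IsSubnormal → L ≤ M → L = ⊥ := by
    intro L hL hLM
    by_contra hne
    let T : Set (Subgroup G) := {U | U.IsSubnormal ∧ U ≤ M}
    have hKs : (sSup T).IsSubnormal := CfsgLib.Zipper.subnormal_sSup T fun U hU => hU.1
    have hKM : sSup T ≤ M := sSup_le fun U hU => hU.2
    have hK1 : sSup T ≠ ⊥ := fun h => hne (le_bot_iff.1 (h ▸ le_sSup ⟨hL, hLM⟩))
    have hMK : M ≤ Subgroup.normalizer ((sSup T : Subgroup G) : Set G) := by
      intro m hm
      rw [Subgroup.mem_normalizer_iff_map_conj_eq]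
      refine CfsgLib.Solvable.eq_of_le_of_card_le ?_
        (Subgroup.card_map_of_injective (f := (MulAut.conj m).toMonoidHom)
          (MulAut.conj m).injective).ge
      refine le_sSup ⟨hKs.map (MulAut.conj m).surjective, ?_⟩
      rintro _ ⟨x, hx, rfl⟩
      exact M.mul_mem (M.mul_mem hm (hKM hx)) (M.inv_mem hm)
    have hN := hprim _ hKM hMK hK1
    rcases hKs.lt_normal with htop | ⟨N, hNn, hKN, hNlt⟩
    · exact hM (top_le_iff.1 (htop ▸ hKM))
    obtain ⟨m, f, hf, hfn, hf0, hfm⟩ := hKs.exists_chain
    have hstep : ∀ i, f i ≤ M := by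
      intro i
      induction i with
      | zero => exact hf0 ▸ hKM
      | succ i ih =>
        have hsn : ∀ j, (f j).IsSubnormal := by
          have hk : ∀ k j, j + k = m → (f j).IsSubnormal := by
            intro k
            induction k with
            | zero => intro j hj; rw [show j = m from hj, hfm]; exact Subgroup.IsSubnormal.top
            | succ k ihk =>
              intro j hj
              exact Subgroup.IsSubnormal.step _ _ (hf (Nat.le_succ j)) (ihk (j + 1) (by omega))
                (hfn j)
          intro j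
          by_cases hjm : j ≤ m
          · exact hk (m - j) j (by omega)
          · have : f j = ⊤ := top_le_iff.1 (hfm ▸ hf (by omega : m ≤ j))
            rw [this]; exact Subgroup.IsSubnormal.top
        have hfi : f i = sSup T := le_antisymm (le_sSup ⟨hsn i, ih⟩) (hf0 ▸ hf (Nat.zero_le i))
        calc f (i + 1) ≤ Subgroup.normalizer (f i : Set G) :=
              (Subgroup.normal_subgroupOf_iff_le_normalizer (hf (Nat.le_succ i))).1 (hfn i)
          _ = M := by rw [hfi, hN]
    exact hM (top_le_iff.1 (hfm ▸ hstep m))
  refine ⟨key, key _ ?_ inf_le_left⟩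
  haveI hn : (Cfsg.fittingSubgroup G).Normal := Subgroup.sSup_normal _ fun N hN => hN.1
  haveI := CfsgLib.Comp.fitting_isNilpotent (G := G)
  refine Subgroup.IsSubnormal.trans inf_le_right ?_ hn.isSubnormal
  generalize (M ⊓ Cfsg.fittingSubgroup G).subgroupOf (Cfsg.fittingSubgroup G) = H
  induction hi : H.index using Nat.strong_induction_on generalizing H with
  | _ i ihi =>
    subst hi
    by_cases hH : H = ⊤
    · subst hH; exact Subgroup.IsSubnormal.top
    have hlt := Group.normalizerCondition_of_isNilpotent H (lt_top_iff_ne_top.2 hH)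
    exact Subgroup.IsSubnormal.step H _ hlt.le (ihi _ (Subgroup.index_strictAnti hlt) _ rfl)
      (Subgroup.normal_subgroupOf_of_le_normalizer le_rfl)

end Cfsg.Agent.S3748
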