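import Cfsg.Statements.S3749
import Cfsg.Agent.Solvable.Basics
import Cfsg.Agent.Coprime.Sylow

set_option autoImplicit false
open Cfsg

namespace Cfsg.Agent.S3749

/-- Call a proper subgroup M of G primitive when M = N_G(N) for every non-trivial normal subgroup N of M. Let M be a primitive subgroup of the finite group G, p a prime with O_p(M) ≠ 1, and N a normal subgroup of G with M ∩ N = 1. Then p does not divide the order of N; for every prime q there is exactly one Sylow q-subgroup of N normalized by M; and if the order of N has at least two prime divisors then M is not a maximal subgroup of G. -/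
theorem result {G : Type*} [Group G] [Finite G] (M : Subgroup G) (hM : M ≠ ⊤) (hprim : ∀ N : Subgroup G, N ≤ M → M ≤ Subgroup.normalizer (N : Set G) → N ≠ ⊥ → Subgroup.normalizer (N : Set G) = M) {p : ℕ} [Fact p.Prime] (hOp : Cfsg.pCore p ↥M ≠ ⊥) (N : Subgroup G) [N.Normal] (hMN : M ⊓ N = ⊥) : ¬ p ∣ Nat.card N ∧ (∀ q : ℕ, [Fact q.Prime] → ∃! Q : Sylow q ↥N, M ≤ Subgroup.normalizer ((Q : Subgroup ↥N).map N.subtype : Set G)) ∧ ((∃ q r : ℕ, q.Prime ∧ r.Prime ∧ q ≠ r ∧ q ∣ Nat.card N ∧ r ∣ Nat.card N) → ¬ IsCoatom M) := by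
  have hpp := (Fact.out : p.Prime)
  let _ : MulDistribMulAction M N := MulDistribMulAction.compHom N
    ((MulAut.conjNormal (H := N)).comp M.subtype)
  have hsmul : ∀ (m : M) (n : N), ((m • n : N) : G) = (m : G) * n * (m : G)⁻¹ := fun m n => rfl
  set P : Subgroup M := Cfsg.pCore p M with hPdef
  have hP : IsPGroup p P := CfsgLib.Solvable.isPGroup_pCore p
  -- fixed points of `P` are trivial
  have hfix : ∀ x : N, (∀ a : P, a • x = x) → x = 1 := by
    intro x hx
    have hnorm := hprim (P.map M.subtype) (Subgroup.map_subtype_le _) (by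
      refine le_trans ?_ (Subgroup.le_normalizer_map M.subtype)
      rw [Subgroup.normalizer_eq_top, ← MonoidHom.range_eq_map, Subgroup.range_subtype]) (by
      rwa [Ne, Subgroup.map_eq_bot_iff_of_injective _ M.subtype_injective])
    have hxM : (x : G) ∈ M := by
      rw [← hnorm, Subgroup.mem_normalizer_iff]
      intro g
      have hc : ∀ a : P, (x : G) * (a : M) = (a : M) * x := fun a => by
        have h := congrArg Subtype.val (hx a)
        change ((a : M) : G) * x * ((a : M) : G)⁻¹ = x at h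
        exact (mul_inv_eq_iff_eq_mul.1 h).symm
      constructor
      · rintro ⟨a, ha, rfl⟩
        refine ⟨a, ha, ?_⟩
        change ((a : M) : G) = (x : G) * (a : M) * (x : G)⁻¹
        rw [hc ⟨a, ha⟩, mul_inv_cancel_right]
      · rintro ⟨a, ha, h⟩
        refine ⟨a, ha, ?_⟩
        change ((a : M) : G) = g
        have h' : ((a : M) : G) = (x : G) * g * (x : G)⁻¹ := h
        have h'' : (x : G) * g * (x : G)⁻¹ = g := by
          have := hc ⟨a, ha⟩
          change (x : G) * ((a : M) : G) = ((a : M) : G) * x at this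
          rw [h', inv_mul_cancel_right] at this
          exact mul_left_cancel this
        exact h'.trans h''
    have : (x : G) ∈ M ⊓ N := ⟨hxM, x.2⟩
    rw [hMN, Subgroup.mem_bot] at this
    exact Subtype.ext this
  have hnp : ¬ p ∣ Nat.card N := fun h => by
    obtain ⟨x, -, hx1, hx⟩ := CfsgLib.Coprime.exists_fixed_ne_one_of_isPGroup (A := P) hP
      (⊤ : Subgroup N) (CfsgLib.Coprime.IsInvariant.top P) (by rwa [Subgroup.card_top])
    exact hx1 (hfix x hx)
  have hcop : (Nat.card P).Coprime (Nat.card N) := by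
    obtain ⟨k, hk⟩ := IsPGroup.iff_card.1 hP
    rw [hk]; exact ((hpp.coprime_iff_not_dvd).2 hnp).pow_left k
  have : Group.IsNilpotent P := hP.isNilpotent
  open scoped Pointwise in
  have hsyl : ∀ q : ℕ, [Fact q.Prime] → ∃! Q : Sylow q ↥N,
      M ≤ Subgroup.normalizer ((Q : Subgroup ↥N).map N.subtype : Set G) := by
    intro q _
    have huniq : ∀ Q Q' : Sylow q N, CfsgLib.Coprime.IsInvariant P (Q : Subgroup N) →
        CfsgLib.Coprime.IsInvariant P (Q' : Subgroup N) → Q = Q' := by
      intro Q Q' hQ hQ'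
      obtain ⟨c, hc, hcQ⟩ := CfsgLib.Coprime.exists_fixed_conj_sylow hcop Q Q' hQ hQ'
      rw [hfix c hc, one_smul] at hcQ
      exact hcQ
    have hiff : ∀ Q : Sylow q N, M ≤ Subgroup.normalizer ((Q : Subgroup ↥N).map N.subtype : Set G)
        ↔ CfsgLib.Coprime.IsInvariant M (Q : Subgroup N) := by
      intro Q
      constructor
      · intro h m n hn
        obtain ⟨n', hn', he⟩ := (Subgroup.mem_normalizer_iff.1 (h m.2) n).1 ⟨n, hn, rfl⟩
        rwa [← show n' = m • n from Subtype.ext he]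
      · intro h m hm
        rw [Subgroup.mem_normalizer_iff]
        intro g
        constructor
        · rintro ⟨n, hn, rfl⟩
          exact ⟨(⟨m, hm⟩ : M) • n, h _ n hn, rfl⟩
        · rintro ⟨n, hn, he⟩
          refine ⟨(⟨m, hm⟩ : M)⁻¹ • n, h _ n hn, ?_⟩
          change m⁻¹ * (n : G) * m⁻¹⁻¹ = g
          rw [show (n : G) = m * g * m⁻¹ from he]
          group
    obtain ⟨Q, hQ⟩ := CfsgLib.Coprime.exists_invariant_sylow hcop q
    have hQM : CfsgLib.Coprime.IsInvariant M (Q : Subgroup N) := by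
      refine CfsgLib.Coprime.isInvariant_of_smul_eq fun m => ?_
      have h := huniq (m • Q) Q (fun a n hn => ?_) hQ
      · exact congrArg Sylow.toSubgroup h
      · rw [Sylow.pointwise_smul_def] at hn ⊢
        rw [Subgroup.mem_pointwise_smul_iff_inv_smul_mem] at hn ⊢
        have hn' := hQ ⟨m⁻¹ * (a : M) * m, by
          simpa using (inferInstance : P.Normal).conj_mem a a.2 m⁻¹⟩ _ hn
        change (m⁻¹ * (a : M) * m) • m⁻¹ • n ∈ (Q : Subgroup N) at hn'
        rw [← mul_smul] at hn'
        change m⁻¹ • ((a : M) • n) ∈ (Q : Subgroup N)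
        rw [← mul_smul]
        simpa [mul_assoc] using hn'
    exact ⟨Q, (hiff Q).2 hQM, fun Q' hQ' =>
      huniq Q' Q (fun a n hn => (hiff Q').1 hQ' (a : M) n hn) hQ⟩
  refine ⟨hnp, hsyl, ?_⟩
  rintro ⟨q, r, hq, hr, hqr, hqN, hrN⟩ hmax
  have := Fact.mk hq
  obtain ⟨Q, hQ, -⟩ := hsyl q
  set Q' := (Q : Subgroup ↥N).map N.subtype with hQ'
  have hlt : M < M ⊔ Q' := by
    refine lt_of_le_of_ne le_sup_left fun h => ?_
    have hQ1 : (Q : Subgroup ↥N) ≠ ⊥ := Q.ne_bot_of_dvd_card hqN
    refine hQ1 ((Subgroup.map_eq_bot_iff_of_injective _ N.subtype_injective).1 ?_)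
    exact le_bot_iff.1 (hMN ▸ le_inf (h ▸ le_sup_right) (Subgroup.map_subtype_le _))
  have htop := hmax.2 _ hlt
  have hall : ∀ n : N, n ∈ (Q : Subgroup ↥N) := by
    intro n
    have hn : (n : G) ∈ (↑(M ⊔ Q') : Set G) := by rw [htop]; exact Subgroup.mem_top _
    rw [Subgroup.coe_mul_of_left_le_normalizer_right M Q' hQ] at hn
    obtain ⟨m, hm, s, hs, hms⟩ := Set.mem_mul.1 hn
    obtain ⟨s', hs', rfl⟩ := hs
    have hmN : m ∈ M ⊓ N := ⟨hm, by
      rw [eq_mul_inv_of_mul_eq hms]; exact N.mul_mem n.2 (N.inv_mem s'.2)⟩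
    rw [hMN, Subgroup.mem_bot] at hmN
    rw [hmN, one_mul] at hms
    rwa [← show s' = n from Subtype.ext hms]
  have hcard : Nat.card N = Nat.card (Q : Subgroup ↥N) := by
    rw [show (Q : Subgroup ↥N) = ⊤ from eq_top_iff.2 fun n _ => hall n, Subgroup.card_top]
  obtain ⟨k, hk⟩ := IsPGroup.iff_card.1 Q.isPGroup'
  rw [hcard, hk] at hrN
  exact hqr ((Nat.prime_dvd_prime_iff_eq hr hq).1 (hr.dvd_of_dvd_pow hrN)).symm

end Cfsg.Agent.S3749
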