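import Cfsg.Statements.S3750
import Cfsg.Agent.Comp.Layer

set_option autoImplicit false
open Cfsg

namespace Cfsg.Agent.S3750

/-- Call a proper subgroup M of G primitive when M = N_G(N) for every non-trivial normal subgroup N of M. Let M be a primitive subgroup of the finite group G and N a normal subgroup of G with M ∩ F*(N) ≠ 1. Then F(G) = 1 and F*(N) = F*(G) = E(G); in particular every minimal normal subgroup of G is contained in N. -/
theorem result {G : Type*} [Group G] [Finite G] (M : Subgroup G) (hM : M ≠ ⊤) (hprim : ∀ N : Subgroup G, N ≤ M → M ≤ Subgroup.normalizer (N : Set G) → N ≠ ⊥ → Subgroup.normalizer (N : Set G) = M) (N : Subgroup G) [N.Normal] (hMF : M ⊓ (Cfsg.generalizedFittingSubgroup ↥N).map N.subtype ≠ ⊥) : Cfsg.fittingSubgroup G = ⊥ ∧ (Cfsg.generalizedFittingSubgroup ↥N).map N.subtype = Cfsg.generalizedFittingSubgroup G ∧ Cfsg.generalizedFittingSubgroup G = Cfsg.layer G ∧ ∀ K : Subgroup G, K.Normal → K ≠ ⊥ → (∀ K' : Subgroup G, K'.Normal → K' ≤ K → K' = ⊥ ∨ K' = K) → K ≤ N := by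
  set A := M ⊓ (Cfsg.generalizedFittingSubgroup ↥N).map N.subtype with hA
  have hFN : Cfsg.generalizedFittingSubgroup G ⊓ N =
      (Cfsg.generalizedFittingSubgroup ↥N).map N.subtype := CfsgLib.Comp.Fstar_inf_normal N
  haveI hfitn : (Cfsg.fittingSubgroup G).Normal := Subgroup.sSup_normal _ fun K hK => hK.1
  haveI hFn : (Cfsg.generalizedFittingSubgroup G).Normal := inferInstance
  -- `M` is the normalizer of `A`
  have hMA : Subgroup.normalizer (A : Set G) = M := by
    refine hprim A inf_le_left (fun g hg => ?_) hMF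
    rw [Subgroup.mem_normalizer_iff]
    intro x
    rw [hA, ← hFN, Subgroup.mem_inf, Subgroup.mem_inf, Subgroup.mem_inf, Subgroup.mem_inf]
    refine and_congr ?_ (and_congr ?_ ?_)
    · exact ⟨fun h => mul_mem (mul_mem hg h) (inv_mem hg),
        fun h => by simpa [mul_assoc] using mul_mem (mul_mem (inv_mem hg) h) hg⟩
    · exact ⟨fun h => hFn.conj_mem x h g,
        fun h => by simpa [mul_assoc] using hFn.conj_mem _ h g⁻¹⟩
    · exact ⟨fun h => ‹N.Normal›.conj_mem x h g,
        fun h => by simpa [mul_assoc] using ‹N.Normal›.conj_mem _ h g⁻¹⟩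
  -- no nontrivial normal subgroup lies in `M`
  have hcore : ∀ K : Subgroup G, K.Normal → K ≤ M → K = ⊥ := by
    intro K hK hKM
    by_contra hne
    haveI := hK
    refine hM ?_
    rw [← hprim K hKM (by rw [Subgroup.normalizer_eq_top]; exact le_top) hne,
      Subgroup.normalizer_eq_top]
  have hcentA : ∀ K : Subgroup G, K ≤ Subgroup.centralizer (A : Set G) → K ≤ M := fun K hK =>
    hMA ▸ hK.trans (Subgroup.centralizer_le_normalizer _)
  -- the Fitting subgroup is trivial
  have hF1 : Cfsg.fittingSubgroup G = ⊥ := by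
    by_contra hne
    haveI := CfsgLib.Comp.fitting_isNilpotent (G := G)
    haveI : Nontrivial ↥(Cfsg.fittingSubgroup G) :=
      (Subgroup.nontrivial_iff_ne_bot _).2 hne
    have hz : ((Subgroup.center ↥(Cfsg.fittingSubgroup G)).map
        (Cfsg.fittingSubgroup G).subtype) = ⊥ := by
      refine hcore _ inferInstance (hcentA _ ?_)
      have hAle : A ≤ Cfsg.generalizedFittingSubgroup G :=
        inf_le_right.trans (hFN ▸ inf_le_left)
      refine le_trans ?_ (Subgroup.centralizer_le (show (A : Set G) ⊆ _ from hAle))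
      rintro _ ⟨z, hz, rfl⟩
      rw [Subgroup.mem_centralizer_iff]
      intro f hf
      have hle : Cfsg.generalizedFittingSubgroup G ≤
          Subgroup.centralizer ({(z : G)} : Set G) := by
        refine sup_le (fun x hx => ?_) (fun x hx => ?_)
        · exact Subgroup.mem_centralizer_singleton_iff.2
            (Subgroup.mem_centralizer_iff.1 (CfsgLib.Comp.layer_le_centralizer_fitting hx) z z.2).symm
        · exact Subgroup.mem_centralizer_singleton_iff.2
            (congrArg Subtype.val (Subgroup.mem_center_iff.1 hz ⟨x, hx⟩))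
      exact Subgroup.mem_centralizer_singleton_iff.1 (hle hf)
    rw [Subgroup.map_eq_bot_iff_of_injective _ (Cfsg.fittingSubgroup G).subtype_injective] at hz
    exact Group.IsNilpotent.center_ne_bot _ hz
  have hFL : Cfsg.generalizedFittingSubgroup G = Cfsg.layer G := by
    show Cfsg.layer G ⊔ Cfsg.fittingSubgroup G = _
    rw [hF1, sup_bot_eq]
  -- commuting with `N` forces lying in `M`
  have hcN : ∀ K : Subgroup G, K ≤ Subgroup.centralizer (N : Set G) → K ≤ M := fun K hK =>
    hcentA K (hK.trans (Subgroup.centralizer_le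
      (show (A : Set G) ⊆ N from inf_le_right.trans (Subgroup.map_subtype_le _))))
  have hcompN : ∀ L : Subgroup G, Cfsg.IsComponent L → L ≤ N := by
    intro L hL
    by_contra hLN
    have hgens : Subgroup.normalClosure (L : Set G) ≤ M := by
      rw [Subgroup.normalClosure, Subgroup.closure_le]
      intro x hx
      obtain ⟨l, hl, hlx⟩ := Group.mem_conjugatesOfSet_iff.1 hx
      obtain ⟨g, rfl⟩ := isConj_iff.1 hlx
      have hLg : ¬ L.map (MulAut.conj g).toMonoidHom ≤ N := fun h => hLN fun y hy => by
        have := ‹N.Normal›.conj_mem _ (h ⟨y, hy, rfl⟩) g⁻¹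
        simpa [mul_assoc] using this
      exact hcN _ (CfsgLib.Comp.component_le_centralizer_of_not_le
        (CfsgLib.Comp.component_conj g hL) ‹N.Normal›.isSubnormal hLg) ⟨l, hl, rfl⟩
    have := hcore _ Subgroup.normalClosure_normal hgens
    exact CfsgLib.Comp.component_ne_bot hL (eq_bot_iff.2 (this ▸ Subgroup.le_normalClosure))
  refine ⟨hF1, ?_, hFL, fun K hK hKne hmin => ?_⟩
  · rw [← hFN, inf_eq_left, hFL]
    exact CfsgLib.Comp.layer_le hcompN
  · haveI := hK
    rcases hmin (K ⊓ N) inferInstance inf_le_left with h | h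
    · refine absurd (hcore K hK (hcN K ?_)) hKne
      exact CfsgLib.Comp.le_centralizer_of_commutator_eq_bot (eq_bot_iff.2
        ((Subgroup.commutator_le_inf (H₁ := K) (H₂ := N)).trans h.le))
    · exact h ▸ inf_le_right

end Cfsg.Agent.S3750
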