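import Cfsg.Statements.S3751
import Cfsg.Agent.Invol.PrimitivePair

set_option autoImplicit false
open Cfsg

namespace Cfsg.Agent.S3751

/-- Two distinct subgroups M₁, M₂ of G form a primitive pair when, for {i, j} = {1, 2}, every non-trivial normal subgroup A of M_i contained in M₁ ∩ M₂ satisfies N_{M_j}(A) = M₁ ∩ M₂; the pair has characteristic p when moreover C_{M_i}(O_p(M_i)) ≤ O_p(M_i) for both i and O_p(M₁)O_p(M₂) ≤ M₁ ∩ M₂. Let G be a finite group, p a prime dividing its order, with O_p(G) = 1 and every p-local subgroup of characteristic p. Then either G has a primitive pair of characteristic p, or every maximal p-local subgroup M of G is strongly p-embedded in G: M is a proper subgroup, p divides its order, and for every g ∉ M the order of M ∩ gMg⁻¹ is prime to p. -/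
theorem result {G : Type*} [Group G] [Finite G] {p : ℕ} [Fact p.Prime] (hloc : Cfsg.IsOfLocalCharacteristic p G) (hOp : Cfsg.pCore p G = ⊥) : (∃ M₁ M₂ : Subgroup G, M₁ ≠ M₂ ∧ (∀ A : Subgroup G, A ≠ ⊥ → A ≤ M₁ ⊓ M₂ → (M₁ ≤ Subgroup.normalizer (A : Set G) → M₂ ⊓ Subgroup.normalizer (A : Set G) = M₁ ⊓ M₂) ∧ (M₂ ≤ Subgroup.normalizer (A : Set G) → M₁ ⊓ Subgroup.normalizer (A : Set G) = M₁ ⊓ M₂)) ∧ Subgroup.centralizer (Cfsg.pCore p ↥M₁ : Set ↥M₁) ≤ Cfsg.pCore p ↥M₁ ∧ Subgroup.centralizer (Cfsg.pCore p ↥M₂ : Set ↥M₂) ≤ Cfsg.pCore p ↥M₂ ∧ (Cfsg.pCore p ↥M₁).map M₁.subtype ⊔ (Cfsg.pCore p ↥M₂).map M₂.subtype ≤ M₁ ⊓ M₂) ∨ (∀ M : Subgroup G, (∃ T : Subgroup G, IsPGroup p T ∧ T ≠ ⊥ ∧ M = Subgroup.normalizer (T : Set G)) → (∀ L : Subgroup G, (∃ T : Subgroup G, IsPGroup p T ∧ T ≠ ⊥ ∧ L = Subgroup.normalizer (T : Set G)) → M ≤ L → L = M) → M ≠ ⊤ ∧ p ∣ Nat.card M ∧ ∀ g : G, g ∉ M → ¬ p ∣ Nat.card ↥(M ⊓ M.map (MulAut.conj g).toMonoidHom)) := by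
  by_cases hc : ∃ (M₁ M₂ T : Subgroup G), CfsgLib.PrimPair.MaxLoc p M₁ ∧
      CfsgLib.PrimPair.MaxLoc p M₂ ∧ M₁ ≠ M₂ ∧ IsPGroup p T ∧ T ≠ ⊥ ∧ T ≤ M₁ ⊓ M₂
  · obtain ⟨M₁, M₂, h₁, h₂, hne, hcore⟩ := CfsgLib.PrimPair.exists_pair_or_trivial hloc hc
    exact Or.inl ⟨M₁, M₂, hne, fun A hA hle => CfsgLib.PrimPair.pair hloc h₁ h₂ A hA hle,
      CfsgLib.PrimPair.charP_of_loc hloc h₁.1, CfsgLib.PrimPair.charP_of_loc hloc h₂.1, hcore⟩
  · refine Or.inr fun M hM hmax => ?_
    have hMax : CfsgLib.PrimPair.MaxLoc p M := ⟨hM, fun L hL hle => hmax L hL hle⟩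
    have hne : CfsgLib.PrimPair.core p M ≠ ⊥ := CfsgLib.PrimPair.core_ne_bot hMax
    refine ⟨fun htop => hne ?_, ?_, fun g hg hdvd => ?_⟩
    · have hnorm : (CfsgLib.PrimPair.core p M).Normal :=
        Subgroup.normalizer_eq_top_iff.1 ((CfsgLib.PrimPair.normalizer_core hMax).trans htop)
      exact le_bot_iff.1 (hOp ▸ CfsgLib.Solvable.le_pCore p hnorm (CfsgLib.PrimPair.isPGroup_core M))
    · haveI : Nontrivial (CfsgLib.PrimPair.core p M) := (Subgroup.nontrivial_iff_ne_bot _).2 hne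
      obtain ⟨n, hn, hcard⟩ := (CfsgLib.PrimPair.isPGroup_core (p := p) M).nontrivial_iff_card.1 inferInstance
      exact (dvd_pow_self p hn.ne').trans (hcard ▸ Subgroup.card_dvd_of_le (CfsgLib.PrimPair.core_le M))
    · obtain ⟨x, hx⟩ := exists_prime_orderOf_dvd_card' p hdvd
      have hxo : orderOf (x : G) = p := by rw [Subgroup.orderOf_coe, hx]
      have hT : IsPGroup p (Subgroup.zpowers (x : G)) :=
        IsPGroup.of_card (n := 1) (by rw [Nat.card_zpowers, hxo, pow_one])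
      have hT1 : Subgroup.zpowers (x : G) ≠ ⊥ := fun h => by
        rw [Subgroup.zpowers_eq_bot] at h
        rw [h, orderOf_one] at hxo
        exact (Fact.out : p.Prime).one_lt.ne hxo
      have hback : ∀ (b : G) (X : Subgroup G), (X.map (MulAut.conj b⁻¹).toMonoidHom).map
          (MulAut.conj b).toMonoidHom = X := fun b X => by
        rw [Subgroup.map_map]
        convert Subgroup.map_id X
        ext y; simp [mul_assoc]
      have hloc' : ∀ (b : G) (X : Subgroup G), CfsgLib.PrimPair.Loc p X →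
          CfsgLib.PrimPair.Loc p (X.map (MulAut.conj b).toMonoidHom) := by
        rintro b X ⟨U, hU, hU1, rfl⟩
        exact ⟨U.map (MulAut.conj b).toMonoidHom, hU.map _,
          fun h0 => hU1 ((Subgroup.map_eq_bot_iff_of_injective _ (MulAut.conj b).injective).1 h0),
          Subgroup.map_normalizer_eq_of_bijective U (MulAut.conj b).bijective⟩
      obtain ⟨M', hM'⟩ : ∃ M' : Subgroup G, M' = M.map (MulAut.conj g).toMonoidHom := ⟨_, rfl⟩
      have hMax' : CfsgLib.PrimPair.MaxLoc p M' := by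
        refine ⟨hM' ▸ hloc' g M hM, fun L hL hle => ?_⟩
        have h5 : M ≤ L.map (MulAut.conj g⁻¹).toMonoidHom := fun y hy =>
          ⟨g * y * g⁻¹, hle (hM' ▸ ⟨y, hy, rfl⟩), by simp [mul_assoc]⟩
        rw [hM', ← hback g L, hmax _ (hloc' g⁻¹ L hL) h5]
      refine hc ⟨M, M', Subgroup.zpowers (x : G), hMax, hMax', fun e => hg ?_, hT, hT1, Subgroup.zpowers_le.2 ?_⟩
      swap
      · rw [hM']; exact x.2
      rw [hM'] at e
      have h1 : Subgroup.normalizer ((CfsgLib.PrimPair.core p M).map (MulAut.conj g).toMonoidHom : Set G) = M := by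
        rw [← Subgroup.map_normalizer_eq_of_bijective _ (MulAut.conj g).bijective,
          CfsgLib.PrimPair.normalizer_core hMax]
        exact e.symm
      have hgM : g ∈ Subgroup.normalizer (M : Set G) := Subgroup.mem_normalizer_iff_map_conj_eq.2 e.symm
      have hcore : (CfsgLib.PrimPair.core p M).map (MulAut.conj g).toMonoidHom ≤
          CfsgLib.PrimPair.core p M :=
        CfsgLib.PrimPair.le_core ((Subgroup.map_mono (CfsgLib.PrimPair.core_le M)).trans e.ge) h1.ge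
          ((CfsgLib.PrimPair.isPGroup_core M).map _)
      rw [← CfsgLib.PrimPair.normalizer_core hMax]
      refine Subgroup.mem_normalizer_iff_map_conj_eq.2 (Subgroup.eq_of_le_of_card_ge hcore ?_)
      exact (Subgroup.card_map_of_injective (MulAut.conj g).injective).ge

end Cfsg.Agent.S3751
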