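import Cfsg.Statements.S3753
import Cfsg.Agent.Kinf.StableNormal
import Cfsg.Agent.ZJ.ControlCore

set_option autoImplicit false
open Cfsg

namespace Cfsg.Agent.S3753

/-- Two distinct subgroups M₁, M₂ of G form a primitive pair when, for {i, j} = {1, 2}, every non-trivial normal subgroup A of M_i contained in M₁ ∩ M₂ satisfies N_{M_j}(A) = M₁ ∩ M₂; the pair has characteristic p when moreover C_{M_i}(O_p(M_i)) ≤ O_p(M_i) for both i and O_p(M₁)O_p(M₂) ≤ M₁ ∩ M₂. If the finite group G has a primitive pair (M₁, M₂) of characteristic p for some prime p, then M₁ or M₂ has non-abelian Sylow 2-subgroups. In particular no group of odd order has a primitive pair of characteristic p. -/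
theorem result {G : Type*} [Group G] [Finite G] {p : ℕ} [Fact p.Prime] (M₁ M₂ : Subgroup G) (hne : M₁ ≠ M₂) (hP : ∀ A : Subgroup G, A ≠ ⊥ → A ≤ M₁ ⊓ M₂ → (M₁ ≤ Subgroup.normalizer (A : Set G) → M₂ ⊓ Subgroup.normalizer (A : Set G) = M₁ ⊓ M₂) ∧ (M₂ ≤ Subgroup.normalizer (A : Set G) → M₁ ⊓ Subgroup.normalizer (A : Set G) = M₁ ⊓ M₂)) (hc₁ : Subgroup.centralizer (Cfsg.pCore p ↥M₁ : Set ↥M₁) ≤ Cfsg.pCore p ↥M₁) (hc₂ : Subgroup.centralizer (Cfsg.pCore p ↥M₂ : Set ↥M₂) ≤ Cfsg.pCore p ↥M₂) (hO : (Cfsg.pCore p ↥M₁).map M₁.subtype ⊔ (Cfsg.pCore p ↥M₂).map M₂.subtype ≤ M₁ ⊓ M₂) : (∃ S : Sylow 2 ↥M₁, ¬ IsMulCommutative (S : Subgroup ↥M₁)) ∨ (∃ S : Sylow 2 ↥M₂, ¬ IsMulCommutative (S : Subgroup ↥M₂)) := by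
  classical
  by_contra hcon
  push Not at hcon
  obtain ⟨ha₁, ha₂⟩ := hcon
  set Q₁ := (Cfsg.pCore p ↥M₁).map M₁.subtype with hQ₁
  set Q₂ := (Cfsg.pCore p ↥M₂).map M₂.subtype with hQ₂
  have hn : ∀ M : Subgroup G, M ≤ Subgroup.normalizer (((Cfsg.pCore p ↥M).map M.subtype : Subgroup G) : Set G) := by
    intro M
    have := Subgroup.le_normalizer_map (H := Cfsg.pCore p ↥M) M.subtype
    rwa [Subgroup.normalizer_eq_top, ← MonoidHom.range_eq_map, Subgroup.range_subtype] at this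
  have hpq : ∀ M : Subgroup G, IsPGroup p ((Cfsg.pCore p ↥M).map M.subtype : Subgroup G) := fun M =>
    (CfsgLib.Solvable.isPGroup_pCore p).map _
  have hbot : ∀ M : Subgroup G, Subgroup.centralizer (Cfsg.pCore p ↥M : Set ↥M) ≤ Cfsg.pCore p ↥M →
      (Cfsg.pCore p ↥M).map M.subtype = ⊥ → M = ⊥ := by
    intro M hc h
    rw [Subgroup.map_eq_bot_iff_of_injective _ M.subtype_injective] at h
    refine (Subgroup.eq_bot_iff_forall M).2 fun x hx => ?_
    have hm : (⟨x, hx⟩ : M) ∈ Subgroup.centralizer (Cfsg.pCore p ↥M : Set ↥M) := by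
      rw [h]
      exact Subgroup.mem_centralizer_iff.2 fun y hy => by
        rw [Subgroup.mem_bot.1 hy, one_mul, mul_one]
    have := hc hm
    rw [h, Subgroup.mem_bot] at this
    exact congrArg Subtype.val this
  have hQ₁ne : Q₁ ≠ ⊥ := by
    intro h
    have hM₁ := hbot M₁ hc₁ h
    have hM₂ := hbot M₂ hc₂ (le_bot_iff.1 ((le_sup_right.trans hO).trans (inf_le_left.trans hM₁.le)))
    exact hne (hM₁.trans hM₂.symm)
  obtain ⟨K, hKne, hKle, hK₁, hK₂⟩ : ∃ K : Subgroup G, K ≠ ⊥ ∧ K ≤ M₁ ⊓ M₂ ∧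
      M₁ ≤ Subgroup.normalizer (K : Set G) ∧ M₂ ≤ Subgroup.normalizer (K : Set G) := by
    by_cases hp2 : p = 2
    · subst hp2
      have hkey : ∀ (M : Subgroup G), (∀ S : Sylow 2 ↥M, IsMulCommutative (S : Subgroup ↥M)) →
          Subgroup.centralizer (Cfsg.pCore 2 ↥M : Set ↥M) ≤ Cfsg.pCore 2 ↥M →
          ∀ Q : Subgroup G, IsPGroup 2 Q → Q ≤ M → Q ≤ (Cfsg.pCore 2 ↥M).map M.subtype := by
        intro M hab hc Q hQ hQM
        obtain ⟨P, hP'⟩ := (IsPGroup.comap_subtype (K := M) hQ).exists_le_sylow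
        haveI := hab P
        have hOP : Cfsg.pCore 2 ↥M ≤ P :=
          CfsgLib.ZJ.pCore_le_sylow P
        have hPO : (P : Subgroup ↥M) ≤ Cfsg.pCore 2 ↥M :=
          ((Subgroup.le_centralizer_iff_isMulCommutative.2 inferInstance).trans
            (Subgroup.centralizer_le hOP)).trans hc
        intro x hx
        exact ⟨⟨x, hQM hx⟩, hPO (hP' hx), rfl⟩
      have h12 : Q₁ = Q₂ := le_antisymm (hkey M₂ ha₂ hc₂ Q₁ (hpq M₁) ((le_sup_left.trans hO).trans inf_le_right))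
        (hkey M₁ ha₁ hc₁ Q₂ (hpq M₂) ((le_sup_right.trans hO).trans inf_le_left))
      exact ⟨Q₁, hQ₁ne, le_sup_left.trans hO, hn M₁, h12 ▸ hn M₂⟩
    · set S := Q₁ ⊔ Q₂ with hS
      have hSp : IsPGroup p S :=
        (hpq M₁).to_sup_of_normal_left' (hpq M₂) (((le_sup_right.trans hO).trans inf_le_left).trans (hn M₁))
      have hW := CfsgLib.Functor.isConjugacyFunctor_induced (G := G) (CfsgLib.Kinf.isCharPFunctor_kInf p).1
      have hnorm : ∀ M : Subgroup G, (∀ S' : Sylow 2 ↥M, IsMulCommutative (S' : Subgroup ↥M)) →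
          Subgroup.centralizer (Cfsg.pCore p ↥M : Set ↥M) ≤ Cfsg.pCore p ↥M → S ≤ M →
          (Cfsg.pCore p ↥M).map M.subtype ≤ S →
          M ≤ Subgroup.normalizer ((Cfsg.inducedFunctor Cfsg.kInfLower S : Subgroup G) : Set G) := by
        intro M hab hc hSM hQS
        have hS' : (S.subgroupOf M).map M.subtype = S := Subgroup.map_subgroupOf_eq_of_le hSM
        have hS'p : IsPGroup p (S.subgroupOf M) := IsPGroup.comap_subtype (K := M) hSp
        haveI := CfsgLib.Kinf.kInfLower_normal_of_stable (S.subgroupOf M) hS'p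
          (fun x hx => Subgroup.mem_subgroupOf.2 (hQS (Subgroup.mem_map_of_mem _ hx))) hc
          (fun N _ => CfsgLib.Kinf.isNormalizerPStable_quotient_of_abelian_two hp2 hab N)
        have h := CfsgLib.Functor.induced_map (CfsgLib.Kinf.isCharPFunctor_kInf p).1.2 M.subtype
          (S.subgroupOf M) hS'p (fun x _ hx => M.subtype_injective hx)
        rw [hS'] at h
        rw [h]
        have := Subgroup.le_normalizer_map
          (H := Cfsg.inducedFunctor (G := ↥M) Cfsg.kInfLower (S.subgroupOf M)) M.subtype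
        rwa [Subgroup.normalizer_eq_top, ← MonoidHom.range_eq_map, Subgroup.range_subtype] at this
      exact ⟨Cfsg.inducedFunctor Cfsg.kInfLower S,
        CfsgLib.Functor.functor_ne_bot hW hSp (fun h => hQ₁ne (le_bot_iff.1 (le_sup_left.trans h.le))),
        (CfsgLib.Functor.functor_le hW hSp).trans hO,
        hnorm M₁ ha₁ hc₁ (hO.trans inf_le_left) le_sup_left,
        hnorm M₂ ha₂ hc₂ (hO.trans inf_le_right) le_sup_right⟩
  obtain ⟨h₁, h₂⟩ := hP K hKne hKle
  have e₁ := h₁ hK₁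
  have e₂ := h₂ hK₂
  rw [inf_eq_left.2 hK₂] at e₁
  rw [inf_eq_left.2 hK₁] at e₂
  exact hne (e₂.trans e₁.symm)

end Cfsg.Agent.S3753
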