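import Cfsg.Statements.S3760

set_option autoImplicit false
open Cfsg

namespace Cfsg.Agent.S3760

/-- Let the group G act transitively on a set X, let x ∈ X with stabilizer H = G_x, and let K ≤ H. Then N_G(K) acts transitively on the set of fixed points of K if and only if every G-conjugate of K contained in H is already an H-conjugate of K. -/
theorem result {G : Type*} [Group G] {X : Type*} [MulAction G X] (htrans : ∀ a b : X, ∃ g : G, g • a = b) (x : X) (K : Subgroup G) (hK : K ≤ MulAction.stabilizer G x) : (∀ a b : X, (∀ k ∈ K, k • a = a) → (∀ k ∈ K, k • b = b) → ∃ g ∈ Subgroup.normalizer (K : Set G), g • a = b) ↔ ∀ g : G, K.map (MulAut.conj g).toMonoidHom ≤ MulAction.stabilizer G x → ∃ h ∈ MulAction.stabilizer G x, K.map (MulAut.conj g).toMonoidHom = K.map (MulAut.conj h).toMonoidHom := by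
  constructor
  · intro h g hg
    obtain ⟨h', hh', he⟩ := h x (g⁻¹ • x) (fun k hk => hK hk) (fun k hk => by
      have := MulAction.mem_stabilizer_iff.1 (hg ⟨k, hk, rfl⟩)
      calc k • g⁻¹ • x = g⁻¹ • ((g * k * g⁻¹) • x) := by simp only [mul_smul, inv_smul_smul]
        _ = g⁻¹ • x := congrArg (g⁻¹ • ·) this)
    refine ⟨g * h', ?_, ?_⟩
    · rw [MulAction.mem_stabilizer_iff, mul_smul, he, smul_inv_smul]
    · ext y
      constructor
      · rintro ⟨k, hk, rfl⟩
        refine ⟨h'⁻¹ * k * h', ?_, by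
          show g * h' * (h'⁻¹ * k * h') * (g * h')⁻¹ = g * k * g⁻¹
          group⟩
        have := (Subgroup.mem_normalizer_iff.1 (inv_mem hh') k).1 hk
        rwa [inv_inv] at this
      · rintro ⟨k, hk, rfl⟩
        exact ⟨h' * k * h'⁻¹, (Subgroup.mem_normalizer_iff.1 hh' k).1 hk, by
          show g * (h' * k * h'⁻¹) * g⁻¹ = g * h' * k * (g * h')⁻¹
          group⟩
  · intro h a b ha hb
    have key : ∀ a : X, (∀ k ∈ K, k • a = a) →
        ∃ n ∈ Subgroup.normalizer (K : Set G), n • a = x := by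
      intro a ha
      obtain ⟨g, hg⟩ := htrans a x
      obtain ⟨s, hs, he⟩ := h g (by
        rintro - ⟨k, hk, rfl⟩
        show (g * k * g⁻¹) • x = x
        rw [mul_smul, mul_smul, show g⁻¹ • x = a from by rw [← hg, inv_smul_smul], ha k hk, hg])
      refine ⟨s⁻¹ * g, ?_, by
        rw [mul_smul, hg, inv_smul_eq_iff]; exact (MulAction.mem_stabilizer_iff.1 hs).symm⟩
      rw [Subgroup.mem_normalizer_iff]
      intro k
      constructor
      · intro hk
        have h1 : g * k * g⁻¹ ∈ K.map (MulAut.conj s).toMonoidHom := he ▸ ⟨k, hk, rfl⟩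
        obtain ⟨k', hk', he'⟩ := h1
        have he'' : s * k' * s⁻¹ = g * k * g⁻¹ := he'
        have : s⁻¹ * g * k * (s⁻¹ * g)⁻¹ = k' := by
          calc s⁻¹ * g * k * (s⁻¹ * g)⁻¹ = s⁻¹ * (g * k * g⁻¹) * s := by group
            _ = k' := by rw [← he'']; group
        rwa [this]
      · intro hk
        have h1 : s * (s⁻¹ * g * k * (s⁻¹ * g)⁻¹) * s⁻¹ ∈ K.map (MulAut.conj g).toMonoidHom :=
          he.symm ▸ ⟨_, hk, rfl⟩
        obtain ⟨k', hk', he'⟩ := h1
        have he'' : g * k' * g⁻¹ = s * (s⁻¹ * g * k * (s⁻¹ * g)⁻¹) * s⁻¹ := he'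
        have : k' = k := by
          calc k' = g⁻¹ * (g * k' * g⁻¹) * g := by group
            _ = k := by rw [he'']; group
        rwa [← this]
    obtain ⟨n, hn, hna⟩ := key a ha
    obtain ⟨m, hm, hmb⟩ := key b hb
    exact ⟨m⁻¹ * n, mul_mem (inv_mem hm) hn, by rw [mul_smul, hna, ← hmb, inv_smul_smul]⟩

end Cfsg.Agent.S3760
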