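import Cfsg.Statements.S3764
import Cfsg.Agent.PQFpf.HallHigmanSub

set_option autoImplicit false
open Cfsg

namespace Cfsg.Agent.S3764

open scoped IsMulCommutative commutatorElement

/-- Let p, q, r be distinct primes and let X, Q, V be subgroups of a finite group with X of order r, Q an extraspecial q-group normalized by X with C_Q(X) = Z(Q), and V an elementary abelian p-group normalized by X and Q on which XQ acts faithfully ((X ⊔ Q) ∩ C(V) = 1). If C_V(X) = 1, then q = 2, r = 2^n + 1 for some n, and Q has order 2^(2n+1). -/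
theorem result {G : Type*} [Group G] [Finite G] {p q r : ℕ} (hp : p.Prime) (hq : q.Prime) (hr : r.Prime) (hpq : p ≠ q) (hpr : p ≠ r) (hqr : q ≠ r) (X Q V : Subgroup G) (hX : Nat.card X = r) (hQ : Cfsg.IsExtraspecial q ↥Q) (hXQ : X ≤ Subgroup.normalizer (Q : Set G)) (hCQ : Q ⊓ Subgroup.centralizer (X : Set G) = (Subgroup.center ↥Q).map Q.subtype) (hV : Cfsg.IsElementaryAbelian p V) (hXV : X ≤ Subgroup.normalizer (V : Set G)) (hQV : Q ≤ Subgroup.normalizer (V : Set G)) (hfaith : (X ⊔ Q) ⊓ Subgroup.centralizer (V : Set G) = ⊥) (hCV : V ⊓ Subgroup.centralizer (X : Set G) = ⊥) : q = 2 ∧ ∃ n : ℕ, r = 2 ^ n + 1 ∧ Nat.card Q = 2 ^ (2 * n + 1) := by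
  classical
  haveI := Fact.mk hp
  haveI := Fact.mk hq
  haveI := Fact.mk hr
  haveI := hV.1
  obtain ⟨⟨hQp, -, hQc⟩, hQZ⟩ := hQ
  obtain ⟨x, hxX, hx1⟩ : ∃ x ∈ X, x ≠ 1 := by
    obtain ⟨⟨x, hx⟩, hne⟩ := (Subgroup.ne_bot_iff_exists_ne_one (H := X)).1 (fun h => hr.ne_one (by
      rw [← hX, h, Subgroup.card_bot]))
    exact ⟨x, hx, fun e => hne (Subtype.ext e)⟩
  have hord : orderOf x = r := by
    have h1 : orderOf x ∣ r := hX ▸ Subgroup.orderOf_dvd_natCard X hxX
    exact (hr.eq_one_or_self_of_dvd _ h1).resolve_left fun h => hx1 (orderOf_eq_one_iff.1 h)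
  have hXx : Subgroup.zpowers x = X :=
    Subgroup.eq_of_le_of_card_ge (Subgroup.zpowers_le.2 hxX) (by rw [Nat.card_zpowers, hord, hX])
  rw [CfsgLib.PQFpf.centralizer_eq_singleton x hXx] at hCQ hCV
  have hZmem : ∀ y : Q, y ∈ Subgroup.center Q ↔ x * (y : G) = y * x := by
    intro y
    constructor
    · intro hy
      have : (y : G) ∈ Q ⊓ Subgroup.centralizer ({x} : Set G) := hCQ ▸ ⟨y, hy, rfl⟩
      exact (Subgroup.mem_centralizer_singleton_iff.1 this.2).symm
    · intro hy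
      have : (y : G) ∈ (Subgroup.center Q).map Q.subtype :=
        hCQ ▸ ⟨y.2, Subgroup.mem_centralizer_singleton_iff.2 hy.symm⟩
      obtain ⟨w, hw, e⟩ := this
      exact (Subtype.ext e : w = y) ▸ hw
  have hzlt : Subgroup.center Q ≠ ⊤ := by
    intro h
    haveI : Nontrivial Q := by
      rw [← Finite.one_lt_card_iff_nontrivial]
      exact hq.one_lt.trans_le (hQZ ▸ Subgroup.card_le_card_group _)
    haveI : Group.IsNilpotent Q := hQp.isNilpotent
    exact (Group.IsSolvable.commutator_lt_top_of_nontrivial (G := Q)).ne (hQc.trans h)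
  obtain ⟨y₀, hy₀⟩ : ∃ y : Q, y ∉ Subgroup.center Q := by
    by_contra! h
    exact hzlt (eq_top_iff.2 fun y _ => h y)
  let D := CfsgLib.PQFpf.subOp Q V x hpq hpr hqr hr (hord ▸ pow_orderOf_eq_one x) hQp hV.2 (hXQ hxX) (hXV hxX) hQV
    (le_bot_iff.1 (hfaith ▸ inf_le_inf_right _ le_sup_right)) hCV ⟨y₀, y₀.2, fun h => hy₀ ((hZmem y₀).2 h)⟩
  have hDb : ∀ y : Q, D.b y = y ↔ y ∈ Subgroup.center Q := fun y => by
    rw [hZmem, Subtype.ext_iff, CfsgLib.PQFpf.subOp_b, mul_inv_eq_iff_eq_mul]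
  have hcen : ∀ a b : Q, ⁅a, b⁆ ∈ Subgroup.center Q := fun a b =>
    hQc ▸ Subgroup.commutator_mem_commutator (Subgroup.mem_top a) (Subgroup.mem_top b)
  obtain ⟨R, hRn, hZR, hRtop, hfixR, hcase, ⟨e, he⟩, hbound⟩ := D.class_two hcen (fun z hz => (hDb z).2 hz) (by
    intro R _ _ _ ⟨N, hNZ, hN, hRN⟩ u hu
    refine (hDb u).2 (Subgroup.mem_center_iff.2 fun y => ?_)
    have hbot : N = ⊥ := by
      rcases (Nat.dvd_prime hq).1 (hQZ ▸ Subgroup.card_dvd_of_le hNZ) with h | h
      · exact Subgroup.eq_bot_of_card_eq N h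
      · exfalso
        rw [show N = Subgroup.center Q from Subgroup.eq_of_le_of_card_ge hNZ (by rw [h, hQZ])] at hN
        exact hN hcen
    have h := hRN u hu y
    rw [hbot, Subgroup.mem_bot, commutatorElement_eq_one_iff_mul_comm] at h
    exact h.symm)
  obtain rfl : R = Subgroup.center Q := le_antisymm (fun u hu => (hDb u).1 (hfixR u hu)) hZR
  -- only the trivial class is fixed
  have hfixcls : ∀ y : Q, y⁻¹ * D.b y ∈ Subgroup.center Q → y ∈ Subgroup.center Q := by
    intro y hy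
    set w := y⁻¹ * D.b y with hw
    have hwfix : D.b w = w := (hDb w).2 hy
    have hby : D.b y = y * w := by rw [hw, mul_inv_cancel_left]
    have hpow : ∀ i : ℕ, (D.b ^ i) y = y * w ^ i := fun i => by
      induction i with
      | zero => simp
      | succ i ih => rw [pow_succ', MulAut.mul_apply, ih, map_mul, map_pow, hwfix, pow_succ', hby, mul_assoc]
    have hr1 := hpow r
    rw [D.hb, MulAut.one_apply, left_eq_mul] at hr1
    obtain ⟨j, hj⟩ := IsPGroup.iff_orderOf.1 hQp w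
    have hw1 : w = 1 := orderOf_eq_one_iff.1 (Nat.eq_one_of_dvd_coprimes
      (((Nat.coprime_primes hq hr).2 hqr).pow_left j) (dvd_of_eq hj) (orderOf_dvd_of_pow_eq_one hr1))
    exact (hDb y).1 (by rw [hby, hw1, mul_one])
  rcases hcase with h | ⟨hq2, d, hd0, hdr⟩
  · exact absurd (hfixcls y₀ (h y₀)) hy₀
  subst hq2
  refine ⟨rfl, d, hdr.symm, ?_⟩
  set Z := Subgroup.center Q
  let bb : MulAut (Q ⧸ Z) := CfsgLib.PQFpf.bar D.b fun z hz => ((hDb z).2 hz).symm ▸ hz
  have hone : ∀ y : Q ⧸ Z, bb y = y ↔ y = 1 := by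
    intro y
    induction y using QuotientGroup.induction_on with
    | _ y =>
      rw [CfsgLib.PQFpf.bar_mk, QuotientGroup.eq_one_iff, QuotientGroup.eq]
      refine ⟨fun h => hfixcls y (by simpa using inv_mem h), fun h => ?_⟩
      rw [(hDb y).2 h, inv_mul_cancel]
      exact one_mem _
  have hcard1 : Nat.card {y : Q ⧸ Z // ∀ x : Q, (x : Q ⧸ Z) = y → x⁻¹ * D.b x ∈ Z} = 1 := by
    rw [Nat.card_eq_one_iff_exists]
    refine ⟨⟨1, fun u hu => ?_⟩, fun y => Subtype.ext ?_⟩
    · rw [(hDb u).2 ((QuotientGroup.eq_one_iff u).1 hu), inv_mul_cancel]; exact one_mem _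
    · obtain ⟨u, hu⟩ := QuotientGroup.mk_surjective (y : Q ⧸ Z)
      rw [← hu]
      exact (QuotientGroup.eq_one_iff u).2 (hfixcls u (y.2 u hu))
  rw [hcard1, mul_one, show r - 1 = 2 ^ d from Nat.sub_eq_of_eq_add hdr.symm, ← pow_mul] at hbound
  obtain ⟨m, hm⟩ := hQp.exists_card_eq
  have hQcard : Nat.card Q = Nat.card (Q ⧸ Z) * 2 := by
    rw [Z.card_eq_card_quotient_mul_card_subgroup, hQZ]
  obtain ⟨l, hlm, hl⟩ := (Nat.dvd_prime_pow Nat.prime_two).1 (hm ▸ hQcard ▸ dvd_mul_right (Nat.card (Q ⧸ Z)) 2)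
  obtain ⟨i, -, hi⟩ := (Nat.dvd_prime_pow Nat.prime_two).1 (Dvd.intro e (he.symm.trans hl))
  have hl2 : l = i + i := by
    rw [hl, hi, ← pow_add] at he
    exact Nat.pow_right_injective le_rfl he
  -- the classes outside the centre fall into orbits of length `r`
  have hmod : 2 ^ l ≡ 1 [MOD r] := by
    let e' : Equiv.Perm (Q ⧸ Z) := MulAut.toPerm (Q ⧸ Z) bb
    have hbbr : bb ^ r = 1 := by
      have : ∀ (i : ℕ) (y : Q), (bb ^ i) (y : Q ⧸ Z) = (((D.b ^ i) y : Q) : Q ⧸ Z) := fun i => by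
        induction i with
        | zero => intro y; rfl
        | succ i ih => intro y; rw [pow_succ', pow_succ', MulAut.mul_apply, ih]; rfl
      ext y
      induction y using QuotientGroup.induction_on with
      | _ y => rw [this, D.hb]; rfl
    have her : e' ^ r = 1 := by rw [← map_pow, hbbr, map_one]
    have hP : IsPGroup r (Subgroup.zpowers e') := by
      obtain ⟨j, -, hj⟩ := (Nat.dvd_prime_pow hr).1
        (show orderOf e' ∣ r ^ 1 by rw [pow_one]; exact orderOf_dvd_of_pow_eq_one her)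
      exact IsPGroup.of_card (n := j) (by rw [Nat.card_zpowers, hj])
    have h := hP.card_modEq_card_fixedPoints (Q ⧸ Z)
    have hfp : Nat.card (MulAction.fixedPoints (Subgroup.zpowers e') (Q ⧸ Z)) = 1 := by
      rw [Nat.card_eq_one_iff_exists]
      refine ⟨⟨1, ?_⟩, fun y => Subtype.ext ((hone y).1 (y.2 ⟨e', Subgroup.mem_zpowers e'⟩))⟩
      rintro ⟨g, hg⟩
      obtain ⟨k, rfl⟩ := Subgroup.mem_zpowers_iff.1 hg
      show (e' ^ k) (1 : Q ⧸ Z) = 1
      exact Equiv.Perm.zpow_apply_eq_self_of_apply_eq_self (map_one bb) k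
    rw [hfp, hl] at h
    exact h
  have hlb : l ≤ 2 * d := by
    rw [hl] at hbound
    rw [mul_comm 2 d]
    exact (Nat.pow_le_pow_iff_right (by norm_num)).1 hbound
  have hl0 : l ≠ 0 := by
    intro h
    rw [hl, h, pow_zero] at hQcard
    refine hzlt (Subgroup.eq_top_of_card_eq _ ?_)
    rw [hQZ, hQcard, one_mul]
  have hdl : l = 2 * d := by
    by_contra hne
    have hlt : l < 2 * d := by omega
    by_cases hld : l ≤ d
    · have h1 := (Nat.modEq_iff_dvd' Nat.one_le_two_pow).1 hmod.symm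
      have h2 : 2 ^ l ≤ 2 ^ d := Nat.pow_le_pow_right (by norm_num) hld
      have h3 := Nat.le_of_dvd (by have := Nat.one_lt_two_pow hl0; omega) h1
      omega
    · obtain ⟨j, rfl⟩ : ∃ j, l = d + j := ⟨l - d, by omega⟩
      have hjd : j < d := by omega
      have h1 : ((2 ^ (d + j) : ℕ) : ZMod r) = 1 := by
        simpa using (ZMod.natCast_eq_natCast_iff _ _ _).2 hmod
      have hneg : (2 : ZMod r) ^ d = -1 := by
        rw [eq_neg_iff_add_eq_zero]
        exact_mod_cast (congrArg (Nat.cast : ℕ → ZMod r) hdr).trans (ZMod.natCast_self r)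
      have h2 : ((2 ^ j + 1 : ℕ) : ZMod r) = 0 := by
        push_cast at h1 ⊢
        rw [pow_add, hneg] at h1
        linear_combination -h1
      have h3 := Nat.le_of_dvd (Nat.succ_pos (2 ^ j)) ((ZMod.natCast_eq_zero_iff _ _).1 h2)
      have h4 : 2 ^ j < 2 ^ d := Nat.pow_lt_pow_right (by norm_num) hjd
      omega
  rw [hQcard, hl, hdl, pow_succ]

end Cfsg.Agent.S3764
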