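import Cfsg.Statements.S3765
import Cfsg.Agent.PQFpf.HallHigmanSub

set_option autoImplicit false
open Cfsg

namespace Cfsg.Agent.S3765

open scoped IsMulCommutative commutatorElement

/-- Let p, q, r be distinct primes and let X, Q, V be subgroups of a finite group with X of order r normalizing the q-group Q and acting faithfully on it (X ∩ C(Q) = 1), and V a nontrivial elementary abelian p-group normalized by X and Q on which XQ acts faithfully. If q = 2 and r has the form 2^n + 1, assume in addition that Q is abelian. Then C_V(X) ≠ 1. -/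
theorem result {G : Type*} [Group G] [Finite G] {p q r : ℕ} (hp : p.Prime) (hq : q.Prime) (hr : r.Prime) (hpq : p ≠ q) (hpr : p ≠ r) (hqr : q ≠ r) (X Q V : Subgroup G) (hX : Nat.card X = r) (hQ : IsPGroup q Q) (hXQ : X ≤ Subgroup.normalizer (Q : Set G)) (hXfaith : X ⊓ Subgroup.centralizer (Q : Set G) = ⊥) (hV : Cfsg.IsElementaryAbelian p V) (hV1 : V ≠ ⊥) (hXV : X ≤ Subgroup.normalizer (V : Set G)) (hQV : Q ≤ Subgroup.normalizer (V : Set G)) (hfaith : (X ⊔ Q) ⊓ Subgroup.centralizer (V : Set G) = ⊥) (hexc : q = 2 → (∃ n : ℕ, r = 2 ^ n + 1) → IsMulCommutative Q) : V ⊓ Subgroup.centralizer (X : Set G) ≠ ⊥ := by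
  classical
  haveI := Fact.mk hp
  haveI := Fact.mk hq
  haveI := Fact.mk hr
  intro hCV
  haveI := hV.1
  obtain ⟨x, hxX, hx1⟩ : ∃ x ∈ X, x ≠ 1 := by
    obtain ⟨⟨x, hx⟩, hne⟩ := (Subgroup.ne_bot_iff_exists_ne_one (H := X)).1 (fun h => hr.ne_one (by
      rw [← hX, h, Subgroup.card_bot]))
    exact ⟨x, hx, fun e => hne (Subtype.ext e)⟩
  have hord : orderOf x = r := by
    have h1 : orderOf x ∣ r := hX ▸ Subgroup.orderOf_dvd_natCard X hxX
    exact (hr.eq_one_or_self_of_dvd _ h1).resolve_left fun h => hx1 (orderOf_eq_one_iff.1 h)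
  have hXx : Subgroup.zpowers x = X :=
    Subgroup.eq_of_le_of_card_ge (Subgroup.zpowers_le.2 hxX) (by rw [Nat.card_zpowers, hord, hX])
  have hfix : V ⊓ Subgroup.centralizer ({x} : Set G) = ⊥ := by
    rw [← CfsgLib.PQFpf.centralizer_eq_singleton x hXx]; exact hCV
  -- a minimal invariant subgroup moved by the operator
  obtain ⟨R, -, ⟨hRQ, hRinv, hRmove⟩, hRmin⟩ := Finite.exists_le_minimal
    (p := fun R : Subgroup G => R ≤ Q ∧ x ∈ Subgroup.normalizer (R : Set G) ∧ ∃ y ∈ R, ¬ x * y = y * x) (a := Q)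
    ⟨le_rfl, hXQ hxX, by
      by_contra! hall
      have : x ∈ X ⊓ Subgroup.centralizer (Q : Set G) :=
        ⟨hxX, Subgroup.mem_centralizer_iff.2 fun y hy => (hall y hy).symm⟩
      rw [hXfaith, Subgroup.mem_bot] at this
      exact hx1 this⟩
  have hRV : R ≤ Subgroup.normalizer (V : Set G) := hRQ.trans hQV
  have hRfaith : R ⊓ Subgroup.centralizer (V : Set G) = ⊥ :=
    le_bot_iff.1 (hfaith ▸ inf_le_inf_right _ (hRQ.trans le_sup_right))
  let D := CfsgLib.PQFpf.subOp R V x hpq hpr hqr hr (hord ▸ pow_orderOf_eq_one x) (hQ.to_le hRQ) hV.2 hRinv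
    (hXV hxX) hRV hRfaith hfix hRmove
  have hmin : ∀ K : Subgroup R, K ≠ ⊤ → (∀ u ∈ K, D.b u ∈ K) → ∀ u ∈ K, D.b u = u := by
    intro K hK hinv u hu
    by_contra hne
    have hle : K.map R.subtype ≤ R := Subgroup.map_subtype_le K
    have hmem : x ∈ Subgroup.normalizer ((K.map R.subtype : Subgroup G) : Set G) := Subgroup.mem_normalizer_fintype (by
      rintro _ ⟨w, hw, rfl⟩
      exact ⟨D.b w, hinv w hw, rfl⟩)
    have h2 : R ≤ K.map R.subtype := hRmin ⟨hle.trans hRQ, hmem, (u : G), ⟨u, hu, rfl⟩, fun e => hne (Subtype.ext (by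
      rw [CfsgLib.PQFpf.subOp_b, e, mul_inv_cancel_right]))⟩ hle
    refine hK (eq_top_iff.2 fun w _ => ?_)
    obtain ⟨w', hw', e⟩ := h2 w.2
    exact (Subtype.ext e : w' = w) ▸ hw'
  obtain ⟨h2, d, hd⟩ := D.exceptional hmin
  obtain ⟨a, b, hab⟩ := D.exists_noncomm
  haveI := hexc h2 ⟨d, hd.symm⟩
  exact hab (Subtype.ext (congrArg Subtype.val
    (IsMulCommutative.is_comm.comm (⟨a.1, hRQ a.2⟩ : Q) ⟨b.1, hRQ b.2⟩) :))

end Cfsg.Agent.S3765
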