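import Cfsg.Statements.S3766
import Cfsg.Agent.Comp.Layer

set_option autoImplicit false
open Cfsg

namespace Cfsg.Agent.S3766

open Subgroup
open scoped commutatorElement

variable {G : Type*} [Group G] [Finite G]

omit [Finite G] in
/-- The three subgroup lemma modulo a normal subgroup. -/
theorem three_subgroup {A B C W : Subgroup G} [W.Normal] (h1 : ⁅⁅B, C⁆, A⁆ ≤ W) (h2 : ⁅⁅C, A⁆, B⁆ ≤ W) :
    ⁅⁅A, B⁆, C⁆ ≤ W := by
  set f := QuotientGroup.mk' W
  have key : ∀ H : Subgroup G, H ≤ W ↔ H.map f = ⊥ := fun H => by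
    rw [Subgroup.map_eq_bot_iff, QuotientGroup.ker_mk']
  rw [key, map_commutator, map_commutator] at h1 h2 ⊢
  exact commutator_commutator_eq_bot_of_rotate h1 h2

/-- A chief factor of `G`. -/
abbrev IsChief (U V : Subgroup G) : Prop :=
  U.Normal ∧ V.Normal ∧ V < U ∧ ∀ W : Subgroup G, W.Normal → V ≤ W → W ≤ U → W = V ∨ W = U

theorem exists_chief {U : Subgroup G} (hU : U.Normal) (h : U ≠ ⊥) : ∃ V, IsChief U V := by
  obtain ⟨V, -, hV⟩ := Finite.exists_le_maximal (p := fun V : Subgroup G => V.Normal ∧ V < U)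
    (a := (⊥ : Subgroup G)) ⟨inferInstance, bot_lt_iff_ne_bot.2 h⟩
  refine ⟨V, hU, hV.prop.1, hV.prop.2, fun W hW h1 h2 => ?_⟩
  rcases h2.eq_or_lt with h3 | h3
  · exact Or.inr h3
  · exact Or.inl (le_antisymm (hV.2 ⟨hW, h3⟩ h1) h1)

/-- A nilpotent normal subgroup centralizes every chief factor. -/
theorem commutator_le_of_nilpotent {U V L : Subgroup G} (hUV : IsChief U V) [hL : L.Normal]
    (hnil : Group.IsNilpotent L) : ⁅U, L⁆ ≤ V := by
  obtain ⟨hU, hV, hlt, hmin⟩ := hUV
  have hle : ⁅U, L⁆ ⊔ V ≤ U := sup_le (commutator_le_left U L) hlt.le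
  rcases hmin _ inferInstance le_sup_right hle with h | h
  · exact sup_eq_right.1 h
  exfalso
  obtain ⟨n, hn⟩ := (isNilpotent_iff_lowerCentralSeries L).1 hnil
  have key : ∀ k, U ≤ V ⊔ L.lowerCentralSeries k := by
    intro k
    induction k with
    | zero =>
      exact h.ge.trans (sup_le ((commutator_le_right U L).trans le_sup_right) le_sup_left)
    | succ k ih =>
      refine h.ge.trans (sup_le ?_ le_sup_left)
      refine (commutator_mono ih le_rfl).trans ?_
      set f := QuotientGroup.mk' V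
      have e : V ⊔ L.lowerCentralSeries (k + 1) = ((L.lowerCentralSeries (k + 1)).map f).comap f := by
        rw [comap_map_eq, QuotientGroup.ker_mk', sup_comm]
      rw [e, ← map_le_iff_le_comap, map_commutator, Subgroup.map_sup,
        show V.map f = ⊥ from (Subgroup.map_eq_bot_iff _).2 (QuotientGroup.ker_mk' V).ge, bot_sup_eq,
        ← map_commutator, Subgroup.lowerCentralSeries_succ]
  have := key n
  rw [hn, sup_bot_eq] at this
  exact not_le_of_gt hlt this

/-- The centralizer in `N` of the chief factors below `F`. -/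
def chiefCent (N F : Subgroup G) [N.Normal] : Subgroup G where
  carrier := {g | g ∈ N ∧ ∀ U V, IsChief U V → U ≤ F → ∀ u ∈ U, u * g * u⁻¹ * g⁻¹ ∈ V}
  one_mem' := ⟨one_mem _, fun U V h _ u _ => by simp⟩
  mul_mem' := by
    rintro a b ⟨ha, ha'⟩ ⟨hb, hb'⟩
    refine ⟨mul_mem ha hb, fun U V h hUF u hu => ?_⟩
    have h1 := ha' U V h hUF u hu
    have h2 := h.2.1.conj_mem _ (hb' U V h hUF u hu) a
    have := mul_mem h1 h2
    convert this using 1
    group
  inv_mem' := by
    rintro a ⟨ha, ha'⟩
    refine ⟨inv_mem ha, fun U V h hUF u hu => ?_⟩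
    have h1 := h.2.1.conj_mem _ (inv_mem (ha' U V h hUF u hu)) a⁻¹
    convert h1 using 1
    group

omit [Finite G] in
theorem chiefCent_normal (N F : Subgroup G) [N.Normal] [F.Normal] : (chiefCent N F).Normal := by
  refine ⟨fun g hg h => ⟨(inferInstance : N.Normal).conj_mem g hg.1 h, fun U V hUV hUF u hu => ?_⟩⟩
  have h1 := hg.2 U V hUV hUF (h⁻¹ * u * h) (by simpa using hUV.1.conj_mem u hu h⁻¹)
  have h2 := hUV.2.1.conj_mem _ h1 h
  convert h2 using 1
  group

theorem chiefCent_nilpotent (N F : Subgroup G) [N.Normal] [F.Normal]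
    (hsc : N ⊓ centralizer (F : Set G) ≤ F) : Group.IsNilpotent (chiefCent N F) := by
  set K := chiefCent N F
  haveI hKn : K.Normal := chiefCent_normal N F
  let D : ℕ → Subgroup G := fun n => (fun U : Subgroup G => ⁅K, U⁆)^[n] F
  have hDs : ∀ n, D (n + 1) = ⁅K, D n⁆ := fun n => Function.iterate_succ_apply' (fun U : Subgroup G => ⁅K, U⁆) n F
  have hD0 : D 0 = F := rfl
  have hDn : ∀ n, (D n).Normal ∧ D n ≤ F := by
    intro n
    induction n with
    | zero => exact ⟨hD0 ▸ inferInstance, hD0.le⟩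
    | succ n ih =>
      haveI := ih.1
      rw [hDs]
      exact ⟨inferInstance, (commutator_le_right K (D n)).trans ih.2⟩
  have hdesc : ∀ n, D n ≠ ⊥ → Nat.card (D (n + 1)) < Nat.card (D n) := by
    intro n hne
    obtain ⟨V, hV⟩ := exists_chief (hDn n).1 hne
    have hle : D (n + 1) ≤ V := by
      rw [hDs, commutator_le]
      intro k hk u hu
      have h1 := inv_mem (hk.2 _ _ hV (hDn n).2 u hu)
      rw [commutatorElement_def]
      convert h1 using 1
      group
    have hlt : D (n + 1) < D n := hle.trans_lt hV.2.2.1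
    exact lt_of_le_of_ne (card_le_of_le hlt.le) fun he => hlt.ne (eq_of_le_of_card_ge hlt.le he.ge)
  obtain ⟨m, hm⟩ : ∃ m, D m = ⊥ := by
    by_contra! hno
    have : ∀ n, Nat.card (D n) + n ≤ Nat.card (D 0) := by
      intro n
      induction n with
      | zero => simp
      | succ n ih => have := hdesc n (hno n); omega
    have := this (Nat.card (D 0) + 1)
    omega
  have key : ∀ j i, ⁅K.lowerCentralSeries j, D i⁆ ≤ D (i + j + 1) := by
    intro j
    induction j with
    | zero => intro i; exact le_of_eq (hDs i).symm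
    | succ j ih =>
      intro i
      haveI := (hDn (i + (j + 1) + 1)).1
      rw [Subgroup.lowerCentralSeries_succ]
      refine three_subgroup ?_ ?_
      · rw [← hDs, commutator_comm]
        exact (ih (i + 1)).trans_eq (by congr 1; omega)
      · rw [commutator_comm (D i), commutator_comm _ K]
        exact (commutator_mono le_rfl (ih i)).trans_eq (by rw [← hDs]; congr 1)
  have hbot : ∀ k, D (m + k) = ⊥ := by
    intro k
    induction k with
    | zero => exact hm
    | succ k ih => rw [← add_assoc, hDs, ih, commutator_bot_right]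
  have hF : K.lowerCentralSeries m ≤ F := by
    refine le_trans (le_inf ?_ ?_) hsc
    · exact (Subgroup.lowerCentralSeries_antitone K (Nat.zero_le m)).trans fun x hx => hx.1
    · rw [← commutator_eq_bot_iff_le_centralizer, ← le_bot_iff, ← hbot 1]
      have h := key m 0
      rwa [hD0, zero_add] at h
  have hL : ∀ i, K.lowerCentralSeries (m + i) ≤ D i := by
    intro i
    induction i with
    | zero => exact hF
    | succ i ih =>
      rw [← add_assoc, Subgroup.lowerCentralSeries_succ, hDs, commutator_comm]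
      exact commutator_mono le_rfl ih
  exact (isNilpotent_iff_lowerCentralSeries K).2 ⟨m + m, le_bot_iff.1 ((hL m).trans hm.le)⟩

theorem self_centralizing (hG : Group.IsSolvable G) (N : Subgroup G) [N.Normal] :
    N ⊓ centralizer (((Cfsg.fittingSubgroup N).map N.subtype : Subgroup G) : Set G) ≤
      (Cfsg.fittingSubgroup N).map N.subtype := by
  intro g hg
  haveI := hG
  have hlayer : Cfsg.layer N = ⊥ := eq_bot_iff.2 (CfsgLib.Comp.layer_le fun L hL =>
    absurd (inferInstance : Group.IsSolvable L) (CfsgLib.Comp.component_not_solvable hL))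
  refine ⟨⟨g, hg.1⟩, CfsgLib.Comp.centralizer_fitting_le_iff.2 hlayer ?_, rfl⟩
  exact mem_centralizer_iff.2 fun x hx =>
    Subtype.ext (mem_centralizer_iff.1 hg.2 _ (mem_map_of_mem _ hx))


/-- Let G be a finite solvable group and N a normal subgroup of G. Call a pair V < U of normal subgroups of G a chief factor of G when no normal subgroup of G lies strictly between them; an element g centralizes the chief factor U/V when u g u⁻¹ g⁻¹ ∈ V for all u ∈ U. Then an element of G lies in the Fitting subgroup F(N) if and only if it lies in N and centralizes every chief factor of G; and also if and only if it lies in N and centralizes every chief factor U/V of G with U ≤ F(N). -/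
theorem result {G : Type*} [Group G] [Finite G] (hG : Group.IsSolvable G) (N : Subgroup G) [N.Normal] (g : G) : (g ∈ (Cfsg.fittingSubgroup ↥N).map N.subtype ↔ g ∈ N ∧ ∀ U V : Subgroup G, (U.Normal ∧ V.Normal ∧ V < U ∧ ∀ W : Subgroup G, W.Normal → V ≤ W → W ≤ U → W = V ∨ W = U) → ∀ u ∈ U, u * g * u⁻¹ * g⁻¹ ∈ V) ∧ (g ∈ (Cfsg.fittingSubgroup ↥N).map N.subtype ↔ g ∈ N ∧ ∀ U V : Subgroup G, (U.Normal ∧ V.Normal ∧ V < U ∧ ∀ W : Subgroup G, W.Normal → V ≤ W → W ≤ U → W = V ∨ W = U) → U ≤ (Cfsg.fittingSubgroup ↥N).map N.subtype → ∀ u ∈ U, u * g * u⁻¹ * g⁻¹ ∈ V) := by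
  set F := (Cfsg.fittingSubgroup ↥N).map N.subtype with hF
  haveI : Group.IsNilpotent (Cfsg.fittingSubgroup ↥N) := CfsgLib.Comp.fitting_isNilpotent
  have hFnil : Group.IsNilpotent F :=
    Group.nilpotent_of_mulEquiv ((Cfsg.fittingSubgroup ↥N).equivMapOfInjective _ N.subtype_injective)
  have hFN : F ≤ N := Subgroup.map_subtype_le _
  have fwd : g ∈ F → g ∈ N ∧ ∀ U V : Subgroup G, IsChief U V → ∀ u ∈ U, u * g * u⁻¹ * g⁻¹ ∈ V := by
    intro hg
    refine ⟨hFN hg, fun U V hUV u hu => commutator_le_of_nilpotent hUV hFnil ?_⟩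
    rw [← commutatorElement_def]
    exact Subgroup.commutator_mem_commutator hu hg
  have bwd : (g ∈ N ∧ ∀ U V : Subgroup G, IsChief U V → U ≤ F → ∀ u ∈ U, u * g * u⁻¹ * g⁻¹ ∈ V) → g ∈ F := by
    intro hg
    have hK : g ∈ chiefCent N F := hg
    haveI := chiefCent_normal N F
    have hle : chiefCent N F ≤ N := fun x hx => hx.1
    have h1 : (chiefCent N F).subgroupOf N ≤ Cfsg.fittingSubgroup ↥N :=
      CfsgLib.Comp.le_fitting inferInstance
        (CfsgLib.Comp.isNilpotent_subgroupOf (chiefCent_nilpotent N F (self_centralizing hG N)))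
    exact ⟨⟨g, hg.1⟩, h1 hK, rfl⟩
  exact ⟨⟨fwd, fun h => bwd ⟨h.1, fun U V h' _ => h.2 U V h'⟩⟩,
    ⟨fun h => ⟨(fwd h).1, fun U V h' _ => (fwd h).2 U V h'⟩, bwd⟩⟩

end Cfsg.Agent.S3766
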