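import Cfsg.Statements.S3767
import Cfsg.Agent.FGSA.SymplecticCyclic

set_option autoImplicit false
open Cfsg

namespace Cfsg.Agent.S3767

open scoped commutatorElement

/-- The commutator pairing turns the quotient by the centre into a symplectic space. -/
theorem core {P : Type*} [Group P] [Finite P] {p : ℕ} [Fact p.Prime] (hP : Cfsg.IsExtraspecial p P)
    {n : ℕ} (hn : Nat.card P = p ^ (2 * n + 1)) (φ : P →* P) {h : ℕ} (h0 : 0 < h)
    (hcop : h.Coprime p) (hz : ∀ z ∈ Subgroup.center P, φ z = z) (hh : ∀ a, φ^[h] a = a)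
    (hfix : ∀ i, 0 < i → i < h → ∀ a, φ^[i] a = a → a ∈ Subgroup.center P)
    {V : Type*} [AddCommGroup V] [Module (ZMod p) V] (q : P → V) (hq : ∀ v : V, ∃ a, q a = v)
    (hqm : ∀ a b, q (a * b) = q a + q b) (hq0 : ∀ a, q a = 0 ↔ a ∈ Subgroup.center P) :
    h ∣ p ^ n + 1 ∨ h ∣ p ^ n - 1 := by
  classical
  have hc := CfsgLib.Extraspecial.commutator_mem_center hP
  have hqinv : ∀ a, q a⁻¹ = - q a := fun a => eq_neg_of_add_eq_zero_left (by
    rw [← hqm, inv_mul_cancel, (hq0 1).2 (one_mem _)])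
  have hqeq : ∀ {a b}, q a = q b → (QuotientGroup.mk a : P ⧸ Subgroup.center P) = QuotientGroup.mk b :=
    fun {a b} e => QuotientGroup.eq.2 ((hq0 _).1 (by rw [hqm, hqinv, e, neg_add_cancel]))
  have : Finite V := Finite.of_surjective q hq
  haveI : IsCyclic (Subgroup.center P) := isCyclic_of_prime_card hP.2
  let e : Subgroup.center P ≃* Multiplicative (ZMod p) :=
    (mulEquivOfCyclicCardEq (by rw [hP.2, Nat.card_congr Multiplicative.toAdd, Nat.card_zmod]))
  let c : P → P → ZMod p := fun a b => (e ⟨⁅a, b⁆, hc a b⟩).toAdd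
  have hcm : ∀ a a' b, c (a * a') b = c a b + c a' b := fun a a' b => by
    have := map_mul (CfsgLib.Extraspecial.commHom hP ⊤ b) ⟨a, trivial⟩ ⟨a', trivial⟩
    show (e ((CfsgLib.Extraspecial.commHom hP ⊤ b) (⟨a, trivial⟩ * ⟨a', trivial⟩))).toAdd = _
    rw [this, map_mul, toAdd_mul]
    rfl
  have hcs : ∀ a b, c a b = - c b a := fun a b => by
    show (e _).toAdd = -(e _).toAdd
    rw [← toAdd_inv, ← map_inv]
    congr 2
    exact Subtype.ext (commutatorElement_inv b a).symm
  have hc0 : ∀ a b, a ∈ Subgroup.center P → c a b = 0 := fun a b ha => by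
    show (e _).toAdd = 0
    rw [show (⟨⁅a, b⁆, hc a b⟩ : Subgroup.center P) = 1 from Subtype.ext
      (commutatorElement_eq_one_iff_mul_comm.2 (Subgroup.mem_center_iff.1 ha b).symm), map_one, toAdd_one]
  have hwd : ∀ {a a'} (b), (QuotientGroup.mk a : P ⧸ Subgroup.center P) = QuotientGroup.mk a' →
      c a b = c a' b := fun {a a'} b e => by
    rw [show a' = a * (a⁻¹ * a') by group, hcm, hc0 _ b (QuotientGroup.eq.1 e), add_zero]
  have hwd' : ∀ {a a' b b'}, (QuotientGroup.mk a : P ⧸ Subgroup.center P) = QuotientGroup.mk a' →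
      (QuotientGroup.mk b : P ⧸ Subgroup.center P) = QuotientGroup.mk b' → c a b = c a' b' :=
    fun {a a' b b'} e₁ e₂ => by rw [hwd b e₁, hcs a' b, hwd a' e₂, ← hcs]
  let sec : V → P := fun v => (hq v).choose
  let bb : V → V → ZMod p := fun v w => c (sec v) (sec w)
  have hbb : ∀ a b, bb (q a) (q b) = c a b := fun a b =>
    hwd' (hqeq (hq (q a)).choose_spec) (hqeq (hq (q b)).choose_spec)
  let B₁ : V →+ V →+ ZMod p := AddMonoidHom.mk' (fun v => AddMonoidHom.mk' (bb v) fun w w' => by
      obtain ⟨a, rfl⟩ := hq v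
      obtain ⟨b, rfl⟩ := hq w
      obtain ⟨b', rfl⟩ := hq w'
      rw [← hqm, hbb, hbb, hbb, hcs, hcm, neg_add, ← hcs, ← hcs]) fun v v' => by
    refine AddMonoidHom.ext fun w => ?_
    obtain ⟨a, rfl⟩ := hq v
    obtain ⟨a', rfl⟩ := hq v'
    obtain ⟨b, rfl⟩ := hq w
    show bb (q a + q a') (q b) = bb (q a) (q b) + bb (q a') (q b)
    rw [← hqm, hbb, hbb, hbb, hcm]
  let B : LinearMap.BilinForm (ZMod p) V := LinearMap.mk₂ (ZMod p) (fun v w => B₁ v w)
    (fun v v' w => by simp) (fun r v w => ZMod.map_smul (B₁.flip w) r v)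
    (fun v w w' => by simp) (fun r v w => ZMod.map_smul (B₁ v) r w)
  have hB : ∀ a b, B (q a) (q b) = c a b := hbb
  have halt : ∀ v, B v v = 0 := fun v => by
    obtain ⟨a, rfl⟩ := hq v
    rw [hB]
    show (e _).toAdd = 0
    rw [show (⟨⁅a, a⁆, hc a a⟩ : Subgroup.center P) = 1 from Subtype.ext (commutatorElement_self a),
      map_one, toAdd_one]
  have hnd : B.Nondegenerate := by
    have hr : B.IsRefl := LinearMap.IsAlt.isRefl halt
    refine (LinearMap.IsRefl.nondegenerate_iff_separatingLeft hr).2 ?_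
    intro v hv
    obtain ⟨a, rfl⟩ := hq v
    refine (hq0 a).2 (Subgroup.mem_center_iff.2 fun b => ?_)
    have h1 : (e ⟨⁅a, b⁆, hc a b⟩).toAdd = 0 := (hB a b).symm.trans (hv (q b))
    have h2 : e ⟨⁅a, b⁆, hc a b⟩ = 1 := Multiplicative.toAdd.injective h1
    exact (commutatorElement_eq_one_iff_mul_comm.1 (congrArg Subtype.val
      (e.injective (h2.trans (map_one e).symm)))).symm
  let g₀ : V →+ V := AddMonoidHom.mk' (fun v => q (φ (sec v))) fun v w => by
    rw [← hqm, ← map_mul]
    have h1 : q (sec (v + w)) = q (sec v * sec w) := by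
      rw [(hq _).choose_spec, hqm, (hq _).choose_spec, (hq _).choose_spec]
    have h2 := hqeq h1
    rw [show φ (sec v * sec w) = φ (sec (v + w)) * φ ((sec (v + w))⁻¹ * (sec v * sec w)) by
      rw [← map_mul, mul_inv_cancel_left], hz _ (QuotientGroup.eq.1 h2), hqm,
      (hq0 _).2 (QuotientGroup.eq.1 h2), add_zero]
  let g : Module.End (ZMod p) V := g₀.toZModLinearMap p
  have hg : ∀ a, g (q a) = q (φ a) := fun a => by
    show q (φ (sec (q a))) = q (φ a)
    have h1 := QuotientGroup.eq.1 (hqeq (hq (q a)).choose_spec)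
    rw [show φ a = φ (sec (q a)) * φ ((sec (q a))⁻¹ * a) by rw [← map_mul, mul_inv_cancel_left],
      hz _ h1, hqm, (hq0 _).2 h1, add_zero]
  have hgi : ∀ (i : ℕ) a, (g ^ i) (q a) = q (φ^[i] a) := by
    intro i
    induction i with
    | zero => intro a; rfl
    | succ i ih => intro a; rw [pow_succ', Module.End.mul_apply, ih, hg, Function.iterate_succ_apply']
  refine CfsgLib.SymplecticCyclic.dvd_pow_pm B halt hnd g h0 ?_ ?_ ?_ hcop ?_
  · ext v
    obtain ⟨a, rfl⟩ := hq v
    rw [hgi, hh]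
    rfl
  · intro v w
    obtain ⟨a, rfl⟩ := hq v
    obtain ⟨b, rfl⟩ := hq w
    rw [hg, hg, hB, hB]
    show (e _).toAdd = (e _).toAdd
    congr 2
    refine Subtype.ext ?_
    show ⁅φ a, φ b⁆ = ⁅a, b⁆
    rw [← map_commutatorElement, hz _ (hc a b)]
  · intro i hi0 hi v hv
    obtain ⟨a, rfl⟩ := hq v
    rw [hgi] at hv
    set z := a⁻¹ * φ^[i] a with hzdef
    have hzc : z ∈ Subgroup.center P := QuotientGroup.eq.1 (hqeq hv).symm
    have hstep : ∀ k, φ^[i * k] a = a * z ^ k := by
      intro k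
      induction k with
      | zero => simp
      | succ k ih =>
        rw [Nat.mul_succ, Nat.add_comm, Function.iterate_add_apply, ih, iterate_map_mul,
          Function.iterate_fixed (hz _ (pow_mem hzc k)), pow_succ', ← mul_assoc, hzdef,
          mul_inv_cancel_left]
    have hzh : z ^ h = 1 := by
      have h1 := hstep h
      rw [mul_comm, Function.iterate_mul, Function.iterate_fixed (hh a)] at h1
      exact mul_left_cancel (h1.symm.trans (mul_one a).symm)
    have hzp : z ^ p = 1 := by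
      have h1 := pow_card_eq_one' (x := (⟨z, hzc⟩ : Subgroup.center P))
      rw [hP.2] at h1
      exact congrArg Subtype.val h1
    have hz1 : z = 1 := by
      have h1 := pow_gcd_eq_one.2 ⟨hzh, hzp⟩
      rwa [hcop.gcd_eq_one, pow_one] at h1
    have ha := hfix i hi0 hi a (eq_of_inv_mul_eq_one hz1).symm
    exact (hq0 a).2 ha
  · have e : P ⧸ Subgroup.center P ≃ V := Equiv.ofBijective
      (fun x => Quotient.liftOn' x q fun a b hab => by
        have h1 := QuotientGroup.leftRel_apply.1 hab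
        rw [show b = a * (a⁻¹ * b) by rw [mul_inv_cancel_left], hqm, (hq0 _).2 h1, add_zero])
      ⟨fun x y => by
        induction x using QuotientGroup.induction_on
        induction y using QuotientGroup.induction_on
        exact hqeq, fun v => ⟨QuotientGroup.mk (hq v).choose, (hq v).choose_spec⟩⟩
    rw [← Nat.card_congr e]
    have h1 := Subgroup.card_eq_card_quotient_mul_card_subgroup (Subgroup.center P)
    rw [hn, hP.2, pow_succ] at h1
    exact (Nat.eq_of_mul_eq_mul_right (Fact.out : p.Prime).pos h1).symm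


/-- The commutator pairing turns the quotient by the centre into a symplectic space. -/
theorem main {P : Type*} [Group P] [Finite P] {p : ℕ} [Fact p.Prime] (hP : Cfsg.IsExtraspecial p P)
    {n : ℕ} (hn : Nat.card P = p ^ (2 * n + 1)) (φ : P →* P) {h : ℕ} (h0 : 0 < h)
    (hcop : h.Coprime p) (hz : ∀ z ∈ Subgroup.center P, φ z = z) (hh : ∀ a, φ^[h] a = a)
    (hfix : ∀ i, 0 < i → i < h → ∀ a, φ^[i] a = a → a ∈ Subgroup.center P) :
    h ∣ p ^ n + 1 ∨ h ∣ p ^ n - 1 := by
  classical
  have hc := CfsgLib.Extraspecial.commutator_mem_center hP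
  have hab : ∀ a b : P ⧸ Subgroup.center P, a * b = b * a := fun a b => by
    obtain ⟨a, rfl⟩ := QuotientGroup.mk_surjective a
    obtain ⟨b, rfl⟩ := QuotientGroup.mk_surjective b
    rw [← QuotientGroup.mk_mul, ← QuotientGroup.mk_mul, QuotientGroup.eq]
    have := hc b⁻¹ a⁻¹
    simpa [commutatorElement_def, mul_assoc] using this
  letI : CommGroup (P ⧸ Subgroup.center P) :=
    { (inferInstance : Group (P ⧸ Subgroup.center P)) with mul_comm := hab }
  have hexp : ∀ v : Additive (P ⧸ Subgroup.center P), p • v = 0 := fun v => by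
    obtain ⟨a, ha⟩ := QuotientGroup.mk_surjective (Additive.toMul v)
    rw [← ofMul_toMul v, ← ha, ← ofMul_pow, ← QuotientGroup.mk_pow,
      (QuotientGroup.eq_one_iff _).2 (CfsgLib.Extraspecial.pow_mem_center hP a)]
    rfl
  letI : Module (ZMod p) (Additive (P ⧸ Subgroup.center P)) := AddCommGroup.zmodModule hexp
  exact core hP hn φ h0 hcop hz hh hfix (V := (Additive (P ⧸ Subgroup.center P)))
    (fun a => Additive.ofMul (QuotientGroup.mk a))
    (fun v => ⟨(Additive.toMul v).out, by
      show Additive.ofMul _ = v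
      rw [QuotientGroup.out_eq', ofMul_toMul]⟩)
    (fun a b => rfl) fun a => QuotientGroup.eq_one_iff a

/-- Let P be an extraspecial p-group of order p^(2n+1) and H a cyclic group of order h prime to p acting on P (inside a common finite group: H normalizes P) so that C_P(x) = Z(P) for every non-identity x ∈ H. Then h divides p^n + 1 or h divides p^n − 1. -/
theorem result {G : Type*} [Group G] [Finite G] {p : ℕ} [Fact p.Prime] (P H : Subgroup G) (hP : Cfsg.IsExtraspecial p ↥P) (n : ℕ) (hn : Nat.card P = p ^ (2 * n + 1)) (hH : IsCyclic H) (hcop : (Nat.card H).Coprime p) (hHP : H ≤ Subgroup.normalizer (P : Set G)) (hfix : ∀ x ∈ H, x ≠ 1 → P ⊓ Subgroup.centralizer {x} = (Subgroup.center ↥P).map P.subtype) : Nat.card H ∣ p ^ n + 1 ∨ Nat.card H ∣ p ^ n - 1 := by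
  obtain ⟨x, hx⟩ := hH.exists_generator
  have hxN : ∀ a ∈ P, (x : G) * a * (x : G)⁻¹ ∈ P := fun a ha =>
    (Subgroup.mem_normalizer_iff.1 (hHP x.2) a).1 ha
  let φ : P →* P := MonoidHom.mk' (fun a => ⟨(x : G) * a * (x : G)⁻¹, hxN a a.2⟩) fun a b =>
    Subtype.ext (by simp [mul_assoc])
  have hiter : ∀ (i : ℕ) (a : P), ((φ^[i] a : P) : G) = (x : G) ^ i * a * ((x : G) ^ i)⁻¹ := by
    intro i
    induction i with
    | zero => simp
    | succ i ih =>
      intro a
      rw [Function.iterate_succ_apply']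
      show (x : G) * (φ^[i] a : P) * (x : G)⁻¹ = _
      rw [ih, pow_succ']
      group
  have hord : orderOf (x : G) = Nat.card H := by
    rw [Subgroup.orderOf_coe]
    exact orderOf_eq_card_of_forall_mem_zpowers hx
  refine main hP hn φ Nat.card_pos hcop (fun z hz => Subtype.ext ?_) (fun a => Subtype.ext ?_) ?_
  · show (x : G) * z * (x : G)⁻¹ = z
    by_cases hx1 : (x : G) = 1
    · simp [hx1]
    have h1 : (z : G) ∈ (Subgroup.center P).map P.subtype := ⟨z, hz, rfl⟩
    rw [← hfix _ x.2 hx1] at h1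
    rw [← Subgroup.mem_centralizer_singleton_iff.1 h1.2, mul_inv_cancel_right]
  · rw [hiter, ← hord, pow_orderOf_eq_one]
    simp
  · intro i hi0 hi a ha
    have hne : (x : G) ^ i ≠ 1 := fun e => absurd (orderOf_dvd_of_pow_eq_one e) (by
      rw [hord]; exact Nat.not_dvd_of_pos_of_lt hi0 hi)
    have h1 : (a : G) ∈ P ⊓ Subgroup.centralizer {(x : G) ^ i} := by
      refine ⟨a.2, Subgroup.mem_centralizer_singleton_iff.2 ?_⟩
      have h2 := congrArg Subtype.val ha
      rw [hiter] at h2
      exact (mul_inv_eq_iff_eq_mul.1 h2).symm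
    rw [hfix _ (pow_mem x.2 i) hne] at h1
    obtain ⟨b, hb, hbe⟩ := h1
    rwa [← Subtype.ext hbe]

end Cfsg.Agent.S3767
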