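import Cfsg.Statements.S3768
import Cfsg.Agent.Solvable.FrobeniusConj
import Cfsg.Agent.Frobenius.Semidirect

set_option autoImplicit false
open Cfsg

namespace Cfsg.Agent.S3768

open Subgroup Pointwise

theorem main {G : Type*} [Group G] [Finite G] {R K : Subgroup G} [K.Normal] (hR : Cfsg.IsFrobeniusComplement R)
    (hc : IsComplement' K R) (N : Subgroup G) [N.Normal] (hKN : ¬ K ≤ N) :
    IsComplement' (K.map (QuotientGroup.mk' N)) (R.map (QuotientGroup.mk' N)) ∧
      Cfsg.IsFrobeniusComplement (R.map (QuotientGroup.mk' N)) := by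
  have hd : K ⊓ R = ⊥ := disjoint_iff.1 hc.disjoint
  have hinj : ∀ h ∈ R, h ≠ 1 → ∀ a ∈ K, ∀ b ∈ K, h * a * h⁻¹ * a⁻¹ = h * b * h⁻¹ * b⁻¹ → a = b := by
    intro h hh h1 a ha b hb e
    have hcm : h * (b⁻¹ * a) = b⁻¹ * a * h := by
      calc h * (b⁻¹ * a) = (h * b * h⁻¹)⁻¹ * (h * a * h⁻¹ * a⁻¹) * a * h := by group
        _ = b⁻¹ * a * h := by rw [e]; group
    exact (inv_mul_eq_one.1 (CfsgLib.Frobenius.eq_one_of_commute hR hd hh h1
      (mul_mem (inv_mem hb) ha) hcm)).symm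
  have hsur : ∀ (L : Subgroup G), L.Normal → L ≤ K → ∀ h ∈ R, h ≠ 1 → ∀ y ∈ L, ∃ a ∈ L, h * a * h⁻¹ * a⁻¹ = y := by
    intro L hL hLK h hh h1 y hy
    let φ : L → L := fun a => ⟨h * a * h⁻¹ * (a : G)⁻¹, mul_mem (hL.conj_mem _ a.2 h) (inv_mem a.2)⟩
    have hφ : Function.Injective φ := fun a b e =>
      Subtype.ext (hinj h hh h1 a (hLK a.2) b (hLK b.2) (congrArg Subtype.val e))
    obtain ⟨a, ha⟩ := (Finite.injective_iff_surjective.1 hφ) ⟨y, hy⟩
    exact ⟨a, a.2, congrArg Subtype.val ha⟩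
  have hNK : N ≤ K := by
    intro n hn
    by_contra hnK
    have hker := CfsgLib.Frobenius.kernel_eq hR hc
    have hn' : n ∉ Cfsg.frobeniusKernel R := fun e => hnK (by rw [hker] at e; exact e)
    obtain ⟨g, hg⟩ : ∃ g : G, n ∈ MulAut.conj g • R := by
      by_contra hno
      push Not at hno
      exact hn' (Or.inr hno)
    rw [CfsgLib.Frobenius.mem_conj_iff] at hg
    have hhN : g⁻¹ * n * g ∈ N := by simpa using (inferInstance : N.Normal).conj_mem n hn g⁻¹
    have hh1 : g⁻¹ * n * g ≠ 1 := fun e => hnK (by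
      have : n = 1 := by simpa [mul_assoc] using congrArg (fun w => g * w * g⁻¹) e
      exact this ▸ one_mem K)
    apply hKN
    intro k hk
    obtain ⟨a, -, rfl⟩ := hsur K inferInstance le_rfl _ hg hh1 k hk
    have h2 := mul_mem hhN ((inferInstance : N.Normal).conj_mem _ (inv_mem hhN) a)
    convert h2 using 1
    group
  haveI : (K.map (QuotientGroup.mk' N)).Normal :=
    (inferInstance : K.Normal).map _ (QuotientGroup.mk'_surjective N)
  have hdis : Disjoint (K.map (QuotientGroup.mk' N)) (R.map (QuotientGroup.mk' N)) := by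
    rw [disjoint_def]
    rintro _ ⟨k, hk, rfl⟩ ⟨r, hr, hrk⟩
    have h1 : r⁻¹ * k ∈ N := QuotientGroup.eq.1 hrk
    have h2 : r ∈ K := by
      have := mul_mem hk (inv_mem (hNK h1))
      simpa [mul_assoc] using this
    have h3 : r ∈ K ⊓ R := mem_inf.2 ⟨h2, hr⟩
    rw [hd, mem_bot] at h3
    rw [← hrk, h3, map_one]
  have hcq : IsComplement' (K.map (QuotientGroup.mk' N)) (R.map (QuotientGroup.mk' N)) := by
    refine isComplement'_of_disjoint_and_mul_eq_univ hdis (Set.eq_univ_of_forall fun q => ?_)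
    obtain ⟨g, rfl⟩ := QuotientGroup.mk'_surjective N q
    obtain ⟨⟨k, r⟩, rfl⟩ := hc.2 g
    exact ⟨_, mem_map_of_mem _ k.2, _, mem_map_of_mem _ r.2, (map_mul _ _ _).symm⟩
  refine ⟨hcq, CfsgLib.Frobenius.of_fpf hcq (fun e => hKN ?_) (fun e => hR.1 ?_) ?_⟩
  · rwa [Subgroup.map_eq_bot_iff, QuotientGroup.ker_mk'] at e
  · rw [Subgroup.map_eq_bot_iff, QuotientGroup.ker_mk'] at e
    refine eq_bot_iff.2 fun r hr => ?_
    rw [← hd]
    exact mem_inf.2 ⟨hNK (e hr), hr⟩
  · rintro _ ⟨h, hh, rfl⟩ h1 _ ⟨k, hk, rfl⟩ e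
    have hh1 : h ≠ 1 := fun e1 => h1 (by rw [e1, map_one])
    have hm : h * k * h⁻¹ * k⁻¹ ∈ N := by
      rw [← QuotientGroup.eq_one_iff, ← QuotientGroup.mk'_apply]
      simp only [map_mul, map_inv, e]
      group
    obtain ⟨a, ha, hae⟩ := hsur N inferInstance hNK h hh hh1 _ hm
    have := hinj h hh hh1 a (hNK ha) k hk hae
    exact (QuotientGroup.eq_one_iff k).2 (this ▸ ha)


/-- Let G be a finite Frobenius group with Frobenius complement R and Frobenius kernel K (the identity together with the elements in no conjugate of R), and let N be a normal subgroup of G not containing K. Then G/N is a Frobenius group with Frobenius complement RN/N whose Frobenius kernel is the image of K. -/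
theorem result {G : Type*} [Group G] [Finite G] (R : Subgroup G) (hR : Cfsg.IsFrobeniusComplement R) (N : Subgroup G) [N.Normal] (hKN : ¬ Cfsg.frobeniusKernel R ⊆ N) : Cfsg.IsFrobeniusComplement (R.map (QuotientGroup.mk' N)) ∧ Cfsg.frobeniusKernel (R.map (QuotientGroup.mk' N)) = QuotientGroup.mk' N '' Cfsg.frobeniusKernel R := by
  obtain ⟨K, hKn, -, hc, -⟩ := CfsgLib.FrobeniusConj.exists_kernel hR
  haveI := hKn
  rw [CfsgLib.Frobenius.kernel_eq hR hc] at hKN ⊢
  obtain ⟨hcq, hf⟩ := main hR hc N hKN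
  haveI : (K.map (QuotientGroup.mk' N)).Normal := hKn.map _ (QuotientGroup.mk'_surjective N)
  exact ⟨hf, by rw [CfsgLib.Frobenius.kernel_eq hf hcq, Subgroup.coe_map]⟩

end Cfsg.Agent.S3768
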