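import Cfsg.Statements.S3769
import Cfsg.Agent.OddLocal.FixedPointFree
-- import your own Cfsg.Agent.* helpers here

set_option autoImplicit false
open Cfsg

namespace Cfsg.Agent.S3769

/-- Let G and V be subgroups of a finite group with G solvable of odd order normalizing V, V an elementary abelian ℓ-group for a prime ℓ not dividing the order of G, and suppose G has a normal Hall subgroup K with a complement R of prime order. If C_V(R) = 1, then [R, K] centralizes V. -/
theorem result {X : Type*} [Group X] [Finite X] (G : Subgroup X) (hsolv : Group.IsSolvable G) (hodd : Odd (Nat.card G)) (V : Subgroup X) {ℓ : ℕ} (hℓ : ℓ.Prime) (hV : Cfsg.IsElementaryAbelian ℓ V) (hℓG : ¬ ℓ ∣ Nat.card G) (hGV : G ≤ Subgroup.normalizer (V : Set X)) (K R : Subgroup X) (hKG : K ≤ G) (hKn : G ≤ Subgroup.normalizer (K : Set X)) (hHall : (Nat.card K).Coprime (K.relIndex G)) (hRG : R ≤ G) (hR : (Nat.card R).Prime) (hKR : K ⊓ R = ⊥) (hKRG : K ⊔ R = G) (hCV : V ⊓ Subgroup.centralizer (R : Set X)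 = ⊥) : ⁅R, K⁆ ≤ Subgroup.centralizer (V : Set X) := by
  haveI := Fact.mk hℓ
  haveI := Fact.mk hR
  obtain ⟨g, hg⟩ := (isCyclic_of_prime_card (α := R) rfl).exists_generator
  have hgo : orderOf (g : X) = Nat.card R := by
    rw [Subgroup.orderOf_coe]; exact orderOf_eq_card_of_forall_mem_zpowers hg
  have hgR : Subgroup.zpowers (g : X) = R := le_antisymm (Subgroup.zpowers_le.2 g.2) fun y hy => by
    obtain ⟨i, hi⟩ := Subgroup.mem_zpowers_iff.1 (hg ⟨y, hy⟩)
    exact Subgroup.mem_zpowers_iff.2 ⟨i, congrArg Subtype.val hi⟩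
  haveI : Group.IsSolvable G := hsolv
  haveI : Group.IsSolvable K :=
    Group.isSolvable_of_isSolvable_injective (Subgroup.inclusion_injective hKG)
  have hRK : R ≤ Subgroup.normalizer (K : Set X) := hRG.trans hKn
  have hmul : Nat.card K * Nat.card R = Nat.card G := by
    rw [← hKRG, sup_comm, CfsgLib.Solvable.card_sup_of_disjoint hRK (by rw [inf_comm]; exact hKR), mul_comm]
  have hidx : K.relIndex G = Nat.card R := by
    have h := Subgroup.relIndex_mul_relIndex ⊥ K G bot_le hKG
    rw [Subgroup.relIndex_bot_left, Subgroup.relIndex_bot_left, ← hmul] at h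
    exact Nat.eq_of_mul_eq_mul_left Nat.card_pos h
  have hrd : Nat.card R ∣ Nat.card G := Dvd.intro_left _ hmul
  have hr2 : Nat.card R ≠ 2 := fun h => (Nat.not_even_iff_odd.2 hodd) (even_iff_two_dvd.2 (h ▸ hrd))
  have hrℓ : Nat.card R ≠ ℓ := fun h => hℓG (h ▸ hrd)
  have hfix : V ⊓ Subgroup.centralizer ({(g : X)} : Set X) = ⊥ := by
    refine le_bot_iff.1 (hCV ▸ inf_le_inf_left _ ?_)
    exact (CfsgLib.OddLocal.FixedLine.le_centralizer_zpowers le_rfl).trans (Subgroup.centralizer_le hgR.ge)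
  have h := CfsgLib.OddLocal.Fpf.commutator_centralizes hr2 hrℓ hV hgo (hGV (hRG g.2)) hfix (K := K)
    (hodd.of_dvd_nat (Dvd.intro _ hmul)) (hidx ▸ hHall) (hKG.trans hGV) (hRK g.2)
    (Or.inl ((hℓ.coprime_iff_not_dvd.2 fun h => hℓG (h.trans (Dvd.intro _ hmul))).symm))
  rw [hgR] at h
  rwa [Subgroup.commutator_comm]

end Cfsg.Agent.S3769
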