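-- Proof of statement S3770.
import Cfsg.Statements.S3770
import Cfsg.Agent.Coprime.FrobeniusPrimeDim
import Cfsg.Agent.FGSB.FrobeniusKernelFacts
import Cfsg.Agent.Char.FrobeniusKernel

set_option autoImplicit false
open Cfsg

namespace Cfsg.Agent.S3770

/-- Let G and V be subgroups of a finite group with G a Frobenius group with complement R of prime order and kernel K, G normalizing V, and V an elementary abelian ℓ-group for a prime ℓ not dividing the order of G. If C_V(R) has order ℓ, then the derived subgroup of K centralizes V. -/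
theorem result {X : Type*} [Group X] [Finite X] (G : Subgroup X) (V : Subgroup X) {ℓ : ℕ} (hℓ : ℓ.Prime) (hV : Cfsg.IsElementaryAbelian ℓ V) (hℓG : ¬ ℓ ∣ Nat.card G) (hGV : G ≤ Subgroup.normalizer (V : Set X)) (R : Subgroup ↥G) (hR : Cfsg.IsFrobeniusComplement R) (hRp : (Nat.card R).Prime) (hCV : Nat.card ↥(V ⊓ Subgroup.centralizer ((R.map G.subtype : Subgroup X) : Set X)) = ℓ) : ⁅Subgroup.closure (Subtype.val '' Cfsg.frobeniusKernel R), Subgroup.closure (Subtype.val '' Cfsg.frobeniusKernel R)⁆ ≤ Subgroup.centralizer (V : Set X) := by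
  classical
  haveI := Fact.mk hℓ
  obtain ⟨N, hN, -, -, -, hmem⟩ := CfsgLib.Char.exists_frobenius_kernel R fun g hg h hh hgh => by
    by_contra h1
    exact hg (CfsgLib.Frobenius.mem_of_conj_mem hR (g := g⁻¹) h1 hh (by simpa using hgh) |> fun hi =>
      by simpa using inv_mem hi)
  haveI := hN
  have hk : Cfsg.frobeniusKernel R = (N : Set ↥G) := by
    ext x
    rw [SetLike.mem_coe, hmem]
    simp only [Cfsg.frobeniusKernel, Set.mem_setOf_eq, CfsgLib.Frobenius.mem_conj_iff]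
  have hc := CfsgLib.FrobKernel.isComplement' hR hk
  have hd : N ⊓ R = ⊥ := disjoint_iff.1 hc.disjoint
  letI : CommGroup V := { (inferInstance : Group V) with
    mul_comm := fun x y => (hV.1).is_comm.comm x y }
  let φ : ↥G →* MulAut V := V.normalizerMonoidHom.comp (Subgroup.inclusion hGV)
  have hφ : ∀ (g : ↥G) (v : V), (φ g v : X) = g * v * (g : X)⁻¹ := fun g v => rfl
  have hexp : ∀ v : V, v ^ ℓ = 1 := fun v => Subtype.ext (hV.2 v v.2)
  have hcop : (Nat.card ↥G).Coprime (Nat.card V) := by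
    obtain ⟨n, hn⟩ := IsPGroup.iff_card.1 (show IsPGroup ℓ V from fun v => ⟨1, by rw [pow_one]; exact hexp v⟩)
    rw [hn]
    exact Nat.Coprime.pow_right _ ((hℓ.coprime_iff_not_dvd.2 hℓG).symm)
  have hE : Nat.card (CfsgLib.Coprime.fixedSub φ R) = ℓ := by
    rw [← hCV]
    refine Nat.card_congr ⟨fun v => ⟨((v : V) : X), (v : V).2, ?_⟩, fun v => ⟨⟨(v : X), v.2.1⟩, ?_⟩,
      fun v => rfl, fun v => rfl⟩
    · rintro _ ⟨s, hs, rfl⟩
      exact mul_inv_eq_iff_eq_mul.1 ((hφ s v).symm.trans (congrArg Subtype.val (v.2 s hs)))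
    · intro s hs
      exact Subtype.ext ((hφ s _).trans (mul_inv_eq_iff_eq_mul.2
        (v.2.2 (s : X) ⟨s, hs, rfl⟩)))
  have key := CfsgLib.Coprime.commute_elementary hd hc.sup_eq_top
    (fun e he he1 u hu h => CfsgLib.Frobenius.eq_one_of_commute hR hd he he1 hu h) hRp hexp hcop φ
    hE.dvd
  rw [hk]
  have hcl : Subgroup.closure (Subtype.val '' (N : Set ↥G)) = N.map G.subtype :=
    Subgroup.closure_eq (N.map G.subtype)
  rw [hcl, Subgroup.commutator_le]
  rintro _ ⟨a, ha, rfl⟩ _ ⟨b, hb, rfl⟩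
  intro v hv
  have h1 : φ (a * b * a⁻¹ * b⁻¹) = 1 := by
    rw [mul_assoc (a * b), ← mul_inv_rev, map_mul, map_inv, key a ha b hb, mul_inv_cancel]
  have h2 := (hφ (a * b * a⁻¹ * b⁻¹) ⟨v, hv⟩).symm.trans (congrArg Subtype.val (DFunLike.congr_fun h1 (⟨v, hv⟩ : V)))
  exact (mul_inv_eq_iff_eq_mul.1 h2).symm

end Cfsg.Agent.S3770
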