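import Cfsg.Statements.S3771
import Cfsg.Agent.FGSA.AbelianIndexP

set_option autoImplicit false
open Cfsg

namespace Cfsg.Agent.S3771

/-- Let p be a prime and R a finite p-group of p-rank at most 2 (no elementary abelian subgroup of order p³) in which every element has order dividing p. Then R has order at most p³. -/
theorem result {R : Type*} [Group R] [Finite R] {p : ℕ} [Fact p.Prime] (hR : IsPGroup p R) (hrank : Cfsg.PRankLE p 2 R) (hexp : ∀ x : R, x ^ p = 1) : Nat.card R ≤ p ^ 3 := by
  have hp : p.Prime := Fact.out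
  rcases subsingleton_or_nontrivial R with h | h
  · rw [Nat.card_of_subsingleton (1 : R)]; exact Nat.one_le_pow _ _ hp.pos
  have small : ∀ B : Subgroup R, IsMulCommutative ↥B → Nat.card B ≤ p ^ 2 :=
    fun B hB => hrank B hB fun a _ => hexp a
  have hZc : IsMulCommutative ↥(Subgroup.center R) := inferInstance
  have sup_comm : ∀ (B : Subgroup R) (y : R), IsMulCommutative ↥B → y ∈ Subgroup.centralizer (B : Set R) →
      IsMulCommutative ↥(Subgroup.zpowers y ⊔ B) := fun B y hB hy => by
    rw [← Subgroup.le_centralizer_iff_isMulCommutative] at hB ⊢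
    refine sup_le (Subgroup.le_centralizer_iff.1 (sup_le ?_ ?_))
      (Subgroup.le_centralizer_iff.1 (sup_le (Subgroup.zpowers_le.2 hy) hB))
    · exact Subgroup.zpowers_le.2 (Subgroup.mem_centralizer_iff.2 fun z hz => by
        obtain ⟨i, rfl⟩ := Subgroup.mem_zpowers_iff.1 hz
        exact (Commute.zpow_left (Commute.refl y) i).eq)
    · rw [Subgroup.le_centralizer_iff]; exact Subgroup.zpowers_le.2 hy
  have grow : ∀ (B : Subgroup R) (y : R), y ∉ B → Nat.card B * p ≤ Nat.card ↥(Subgroup.zpowers y ⊔ B) :=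
    fun B y hy => by
      have hlt : B < Subgroup.zpowers y ⊔ B :=
        right_lt_sup.2 fun h => hy (h (Subgroup.mem_zpowers y))
      obtain ⟨i, hi⟩ := IsPGroup.iff_card.1 (hR.to_subgroup B)
      obtain ⟨j, hj⟩ := IsPGroup.iff_card.1 (hR.to_subgroup (Subgroup.zpowers y ⊔ B))
      have := (Nat.pow_lt_pow_iff_right hp.one_lt).1 (hi ▸ hj ▸ CfsgLib.AbelianIndexP.card_lt hlt)
      rw [hi, hj, ← pow_succ]
      exact Nat.pow_le_pow_right hp.pos this
  obtain ⟨i, hi⟩ := IsPGroup.iff_card.1 (hR.to_subgroup (Subgroup.center R))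
  have hi1 : 1 ≤ i := by
    by_contra h0
    obtain rfl : i = 0 := by omega
    haveI := hR.center_nontrivial
    exact (Subgroup.nontrivial_iff_ne_bot _).1 this (Subgroup.card_eq_one.1 (by simpa using hi))
  by_cases htop : Subgroup.center R = ⊤
  · have := small _ hZc
    rw [htop, Subgroup.card_top] at this
    exact this.trans (Nat.pow_le_pow_right hp.pos (by omega))
  haveI := hR.isNilpotent
  obtain ⟨x, -, hxZ, hx⟩ := CfsgLib.PGroupBasic.exists_central_mod _ _ (lt_top_iff_ne_top.2 htop)
  have hB := sup_comm _ x hZc (Subgroup.mem_centralizer_iff.2 fun z hz =>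
    (Subgroup.mem_center_iff.1 hz x).symm)
  have hgB := grow _ x hxZ
  have hsB := small _ hB
  have hBp : p ^ 2 ≤ Nat.card ↥(Subgroup.zpowers x ⊔ Subgroup.center R) := by
    refine le_trans ?_ hgB
    rw [hi, ← pow_succ]
    exact Nat.pow_le_pow_right hp.pos (by omega)
  have hi' : i = 1 := by
    have h1 := hgB.trans hsB
    rw [hi, ← pow_succ, Nat.pow_le_pow_iff_right hp.one_lt] at h1
    omega
  have hC : Subgroup.centralizer ({x} : Set R) ≤ Subgroup.zpowers x ⊔ Subgroup.center R := fun y hy => by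
    by_contra hyB
    have hy' : y ∈ Subgroup.centralizer ((Subgroup.zpowers x ⊔ Subgroup.center R : Subgroup R) : Set R) := by
      refine Subgroup.zpowers_le.1 (Subgroup.le_centralizer_iff.1 (sup_le ?_ (Subgroup.center_le_centralizer _)))
      rw [Subgroup.le_centralizer_iff, Subgroup.zpowers_le, Subgroup.mem_centralizer_iff]
      intro z hz
      obtain ⟨j, rfl⟩ := Subgroup.mem_zpowers_iff.1 hz
      exact (Commute.zpow_left (show Commute x y from (Subgroup.mem_centralizer_singleton_iff.1 hy).symm) j).eq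
    have h1 := (grow _ y hyB).trans (small _ (sup_comm _ y hB hy'))
    have h2 : p ^ 2 * p ≤ p ^ 2 := (Nat.mul_le_mul_right p hBp).trans h1
    rw [← pow_succ, Nat.pow_le_pow_iff_right hp.one_lt] at h2
    omega
  refine (CfsgLib.AbelianIndexP.card_le_center_mul_centralizer hx).trans ?_
  calc Nat.card (Subgroup.center R) * _ ≤ p * p ^ 2 :=
        Nat.mul_le_mul (by rw [hi, hi', pow_one]) ((Subgroup.card_le_of_le hC).trans hsB)
    _ = p ^ 3 := by ring

end Cfsg.Agent.S3771
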