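import Cfsg.Statements.S3772
import Cfsg.Agent.Solvable.PGroupBasic
import Mathlib.Algebra.BigOperators.Ring.Finset
import Mathlib.Tactic.LinearCombination

set_option autoImplicit false
open Cfsg

namespace Cfsg.Agent.S3772

open scoped commutatorElement
open Subgroup

theorem square_sum {G : Type*} [Group G] [Finite G] [Fintype G] [DecidableEq G]
    (e : G) (hec : ∀ g : G, g * e = e * g) (he : e ≠ 1) (hee : e * e = 1)
    (hsq : ∀ x : G, x * x = 1 ∨ x * x = e) (hcomm : ∀ x y : G, ⁅x, y⁆ = 1 ∨ ⁅x, y⁆ = e) :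
    (∑ x : G, (if x * x = 1 then 1 else -1 : ℤ)) = 0 ∨
      (∑ x : G, (if x * x = 1 then 1 else -1 : ℤ)) ^ 2 = Nat.card G * Nat.card (center G) := by
  set χ : G → ℤ := fun a => if a = 1 then 1 else -1 with hχ
  have hmul : ∀ a b : G, (a = 1 ∨ a = e) → (b = 1 ∨ b = e) → χ (a * b) = χ a * χ b := by
    rintro a b (rfl | rfl) (rfl | rfl) <;> simp [hχ, he, hee]
  set s : G → ℤ := fun x => χ (x * x) with hs
  change (∑ x, s x) = 0 ∨ (∑ x, s x) ^ 2 = _
  have hcen : ∀ a : G, (a = 1 ∨ a = e) → ∀ g : G, g * a = a * g := by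
    rintro a (rfl | rfl) g
    · rw [mul_one, one_mul]
    · exact hec g
  have hsmul : ∀ x y : G, s (x * y) = s x * s y * χ ⁅x⁻¹, y⁆ := by
    intro x y
    have h1 : x * y * (x * y) = x * x * ⁅x⁻¹, y⁆ * (y * y) := by
      simp only [commutatorElement_def]; group
    have h2 : x * x * ⁅x⁻¹, y⁆ = 1 ∨ x * x * ⁅x⁻¹, y⁆ = e := by
      rcases hsq x with h | h <;> rcases hcomm x⁻¹ y with h' | h' <;> simp [h, h', hee]
    simp only [hs]
    rw [h1, hmul _ _ h2 (hsq y), hmul _ _ (hsq x) (hcomm _ _)]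
    ring
  have hbil : ∀ a b u : G, χ ⁅a * b, u⁆ = χ ⁅a, u⁆ * χ ⁅b, u⁆ := by
    intro a b u
    rw [show ⁅a * b, u⁆ = a * ⁅b, u⁆ * a⁻¹ * ⁅a, u⁆ by simp only [commutatorElement_def]; group,
      hcen _ (hcomm b u) a, mul_inv_cancel_right, hmul _ _ (hcomm _ _) (hcomm _ _), mul_comm]
  have hsum : ∀ u : G, ∑ x : G, χ ⁅x⁻¹, u⁆ = if u ∈ center G then (Nat.card G : ℤ) else 0 := by
    intro u
    rw [Fintype.sum_equiv (Equiv.inv G) (fun x => χ ⁅x⁻¹, u⁆) (fun x => χ ⁅x, u⁆) fun x => rfl]
    split_ifs with h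
    · rw [Finset.sum_congr rfl fun x _ => show χ ⁅x, u⁆ = 1 by
        simp [hχ, commutatorElement_eq_one_iff_mul_comm.2 (mem_center_iff.1 h x)]]
      simp [Nat.card_eq_fintype_card]
    · obtain ⟨g, hg⟩ := not_forall.1 fun h' => h (mem_center_iff.2 h')
      have hg' : χ ⁅g, u⁆ = -1 := by
        simp [hχ, mt commutatorElement_eq_one_iff_mul_comm.1 hg]
      have h1 : ∑ x : G, χ ⁅x, u⁆ = -∑ x : G, χ ⁅x, u⁆ := by
        rw [← Finset.sum_neg_distrib]
        refine Fintype.sum_equiv (Equiv.mulLeft g⁻¹) _ _ fun x => ?_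
        change χ ⁅x, u⁆ = -χ ⁅g⁻¹ * x, u⁆
        conv_lhs => rw [← mul_inv_cancel_left g x, hbil, hg']
        ring
      omega
  have hS : (∑ x, s x) ^ 2 = Nat.card G * ∑ u ∈ Finset.univ.filter (· ∈ center G), s u := by
    calc (∑ x, s x) ^ 2 = ∑ x : G, s x * ∑ u : G, s (x * u) := by
          rw [sq, Finset.sum_mul]
          exact Finset.sum_congr rfl fun x _ => congrArg (s x * ·) (Equiv.sum_comp (Equiv.mulLeft x) s).symm
      _ = ∑ x : G, ∑ u : G, s u * χ ⁅x⁻¹, u⁆ := by
          refine Finset.sum_congr rfl fun x _ => ?_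
          rw [Finset.mul_sum]
          refine Finset.sum_congr rfl fun u _ => ?_
          have : s x * s x = 1 := by simp only [hs, hχ]; split_ifs <;> norm_num
          rw [hsmul]; linear_combination (s u * χ ⁅x⁻¹, u⁆) * this
      _ = ∑ u : G, s u * ∑ x : G, χ ⁅x⁻¹, u⁆ := by
          rw [Finset.sum_comm]
          exact Finset.sum_congr rfl fun u _ => by rw [Finset.mul_sum]
      _ = _ := by
          simp only [hsum, mul_ite, mul_zero]
          rw [← Finset.sum_filter, Finset.mul_sum]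
          exact Finset.sum_congr rfl fun u _ => by ring
  by_cases hone : ∀ u ∈ center G, s u = 1
  · right
    rw [hS, Finset.sum_congr rfl fun u hu => hone u (Finset.mem_filter.1 hu).2]
    simp [Nat.card_eq_fintype_card, Fintype.card_subtype]
  · left
    obtain ⟨w, hw, hw1⟩ : ∃ w ∈ center G, s w ≠ 1 := by
      by_contra h
      exact hone fun u hu => not_not.1 fun h' => h ⟨u, hu, h'⟩
    have hwm : s w = -1 := by
      revert hw1; simp only [hs, hχ]; split_ifs <;> norm_num
    have h1 : ∀ x, s (w * x) = -s x := by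
      intro x
      rw [hsmul, hwm]
      simp [hχ, commutatorElement_eq_one_iff_mul_comm.2
        ((mem_center_iff.1 (inv_mem hw) x).symm)]
    have h2 : ∑ x, s x = -∑ x, s x := by
      rw [← Finset.sum_neg_distrib]
      conv_lhs => rw [← Equiv.sum_comp (Equiv.mulLeft w) s]
      exact Finset.sum_congr rfl fun x _ => h1 x
    omega

/-- Let G be a finite 2-group whose Frattini subgroup Φ(G) has order 2, with |G : Φ(G)| = 2^d, and let j be the number of elements x of G with x² = 1. Then j = 2^d, or j = 2^d + 2^(d−r) or j = 2^d − 2^(d−r) for some positive integer r with 2r ≤ d. Moreover if d = 2r and j is 2^d + 2^r or 2^d − 2^r, then G is extraspecial. -/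
theorem result {G : Type*} [Group G] [Finite G] (hG : IsPGroup 2 G) (hΦ : Nat.card (frattini G) = 2) (d : ℕ) (hd : (frattini G).index = 2 ^ d) : (Nat.card {x : G // x ^ 2 = 1} = 2 ^ d ∨ ∃ r : ℕ, 1 ≤ r ∧ 2 * r ≤ d ∧ (Nat.card {x : G // x ^ 2 = 1} = 2 ^ d + 2 ^ (d - r) ∨ Nat.card {x : G // x ^ 2 = 1} + 2 ^ (d - r) = 2 ^ d)) ∧ (∀ r : ℕ, d = 2 * r → (Nat.card {x : G // x ^ 2 = 1} = 2 ^ d + 2 ^ r ∨ Nat.card {x : G // x ^ 2 = 1} + 2 ^ r = 2 ^ d) → Cfsg.IsExtraspecial 2 G) := by
  classical
  haveI := Fintype.ofFinite G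
  haveI := Fact.mk Nat.prime_two
  obtain ⟨hcommΦ, hsqΦ⟩ := CfsgLib.PGroupBasic.commutator_pow_le_frattini hG
  obtain ⟨e, he⟩ := exists_prime_orderOf_dvd_card' (G := frattini G) 2 (by rw [hΦ])
  have he' : orderOf (e : G) = 2 := by rwa [Subgroup.orderOf_coe]
  have he1 : (e : G) ≠ 1 := fun h => by rw [h, orderOf_one] at he'; omega
  have hΦe : ∀ a ∈ frattini G, a = 1 ∨ a = e := by
    intro a ha
    have hz : Subgroup.zpowers (e : G) = frattini G :=
      Subgroup.eq_of_le_of_card_ge (Subgroup.zpowers_le.2 e.2) (by rw [Nat.card_zpowers, he', hΦ])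
    rw [← hz, mem_zpowers_iff_mem_range_orderOf, he'] at ha
    simp [Finset.mem_image, Finset.range_add_one] at ha
    rcases ha with h | h <;> simp [h]
  have hec : ∀ g : G, g * (e : G) = e * g := by
    intro g
    have h := hΦe (g * e * g⁻¹) ((inferInstance : (frattini G).Normal).conj_mem e e.2 g)
    rcases h with h | h
    · exact absurd (by simpa [mul_inv_eq_one] using h) he1
    · exact mul_inv_eq_iff_eq_mul.1 h
  have hsq : ∀ x : G, x * x = 1 ∨ x * x = (e : G) := fun x => hΦe _ (by rw [← pow_two]; exact hsqΦ x)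
  have hcomm : ∀ x y : G, ⁅x, y⁆ = 1 ∨ ⁅x, y⁆ = (e : G) := fun x y => hΦe _
    (hcommΦ (Subgroup.commutator_mem_commutator (Subgroup.mem_top x) (Subgroup.mem_top y)))
  have key := square_sum (e : G) hec he1 (by rw [← pow_two, ← he', pow_orderOf_eq_one]) hsq hcomm
  set S := ∑ x : G, (if x * x = 1 then 1 else -1 : ℤ) with hS
  set j := Nat.card {x : G // x ^ 2 = 1} with hj
  have hcardG : Nat.card G = 2 ^ (d + 1) := by
    rw [← (frattini G).card_mul_index, hΦ, hd, pow_succ']
  have hjS : (2 : ℤ) * j = 2 ^ (d + 1) + S := by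
    have h1 : S = 2 * ((Finset.univ.filter fun x : G => x * x = 1).card : ℤ) - Fintype.card G := by
      rw [hS, Finset.sum_ite, Finset.sum_const, Finset.sum_const, ← Finset.card_univ,
        ← Finset.card_filter_add_card_filter_not (s := Finset.univ) (fun x : G => x * x = 1)]
      simp only [nsmul_eq_mul]
      push_cast
      ring
    rw [h1, ← Nat.card_eq_fintype_card, hcardG, hj, Nat.card_eq_fintype_card, Fintype.card_subtype]
    simp only [pow_two]
    push_cast
    ring
  obtain ⟨z, hz⟩ := IsPGroup.iff_card.1 (hG.to_subgroup (Subgroup.center G))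
  have hz1 : 1 ≤ z := by
    have hle : frattini G ≤ Subgroup.center G := fun a ha => Subgroup.mem_center_iff.2 fun g => by
      rcases hΦe a ha with rfl | rfl
      · rw [mul_one, one_mul]
      · exact hec g
    have := Subgroup.card_le_of_le hle
    rw [hΦ, hz] at this
    rcases z with _ | z
    · norm_num at this
    · omega
  by_cases hS0 : S = 0
  · have hj' : j = 2 ^ d := by
      have : (2 : ℤ) * j = 2 * 2 ^ d := by rw [hjS, hS0, add_zero, pow_succ']
      exact_mod_cast mul_left_cancel₀ (two_ne_zero) this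
    refine ⟨Or.inl hj', fun r _ h => ?_⟩
    have hr : 0 < 2 ^ r := by positivity
    omega
  have hS2 : S.natAbs ^ 2 = 2 ^ (d + 1 + z) := by
    have h := key.resolve_left hS0
    rw [hcardG, hz] at h
    zify
    rw [sq_abs, h]
    push_cast
    ring
  obtain ⟨t, -, ht⟩ := (Nat.dvd_prime_pow Nat.prime_two).1 (hS2 ▸ dvd_pow_self S.natAbs two_ne_zero)
  rw [ht, ← pow_mul] at hS2
  have ht2 : t * 2 = d + 1 + z := Nat.pow_right_injective le_rfl hS2
  -- the centre is proper, otherwise the sum vanishes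
  have hzd : z < d + 1 := by
    by_contra hzd
    have htop : Subgroup.center G = ⊤ := Subgroup.eq_top_of_le_card _ (by
      rw [hcardG, hz]; exact Nat.pow_le_pow_right two_pos (not_lt.1 hzd))
    obtain ⟨w, hw⟩ : ∃ w : G, w * w ≠ 1 := by
      by_contra! hall
      have h2 : frattini G ≤ ⊥ := CfsgLib.PGroupBasic.frattini_le_of_elementary (p := 2) _
        (by
          rw [_root_.commutator_def, Subgroup.commutator_le]
          exact fun a _ b _ => Subgroup.mem_bot.2 (commutatorElement_eq_one_iff_mul_comm.2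
            (Subgroup.mem_center_iff.1 (htop ▸ Subgroup.mem_top b) a)))
        (fun x => Subgroup.mem_bot.2 (by rw [pow_two]; exact hall x))
      exact he1 (Subgroup.mem_bot.1 (h2 e.2))
    refine hS0 ?_
    have h1 : ∀ x, (if w * x * (w * x) = 1 then 1 else -1 : ℤ) = -(if x * x = 1 then 1 else -1) := by
      intro x
      have hwx : w * x * (w * x) = (w * w) * (x * x) := by
        rw [mul_assoc w x, ← mul_assoc x w x, Subgroup.mem_center_iff.1 (htop ▸ Subgroup.mem_top w) x,
          mul_assoc w x x, ← mul_assoc]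
      rw [hwx, (hsq w).resolve_left hw]
      rcases hsq x with h | h <;>
        simp [h, he1, show (e : G) * e = 1 by rw [← pow_two, ← he', pow_orderOf_eq_one]]
    have h2 : S = -S := by
      rw [hS, ← Finset.sum_neg_distrib]
      conv_lhs => rw [← Equiv.sum_comp (Equiv.mulLeft w) (fun x : G => (if x * x = 1 then 1 else -1 : ℤ))]
      exact Finset.sum_congr rfl fun x _ => h1 x
    omega
  obtain ⟨r, hr⟩ : ∃ r, t + r = d + 1 := ⟨d + 1 - t, by omega⟩
  have hjval : j = 2 ^ d + 2 ^ (d - r) ∨ j + 2 ^ (d - r) = 2 ^ d := by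
    have h2t : (2 : ℤ) ^ t = 2 * 2 ^ (d - r) := by
      rw [← pow_succ']; congr 1; omega
    rcases Int.natAbs_eq S with h | h <;> rw [ht] at h <;> push_cast at h
    · left
      zify
      rw [h, h2t, pow_succ' (2 : ℤ) d] at hjS
      linarith
    · right
      zify
      rw [h, h2t, pow_succ' (2 : ℤ) d] at hjS
      linarith
  refine ⟨Or.inr ⟨r, by omega, by omega, hjval⟩, fun r' hd' hj' => ?_⟩
  have hz1' : z = 1 := by
    have hpe : 2 ^ (d - r) = 2 ^ r' := by
      have := pow_pos two_pos (d - r) (M₀ := ℕ)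
      have := pow_pos two_pos r' (M₀ := ℕ)
      rcases hjval with h | h <;> rcases hj' with h' | h' <;> omega
    have := Nat.pow_right_injective le_rfl hpe
    omega
  have hcen : Subgroup.center G = frattini G := by
    refine (Subgroup.eq_of_le_of_card_ge (fun a ha => Subgroup.mem_center_iff.2 fun g => ?_) ?_).symm
    · rcases hΦe a ha with rfl | rfl
      · rw [mul_one, one_mul]
      · exact hec g
    · rw [hΦ, hz, hz1', pow_one]
  refine ⟨⟨hG, hcen.symm, le_antisymm (hcen.symm ▸ hcommΦ) ?_⟩, by rw [hz, hz1', pow_one]⟩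
  intro a ha
  rcases hΦe a (hcen ▸ ha) with rfl | rfl
  · exact one_mem _
  obtain ⟨x, y, hxy⟩ : ∃ x y : G, ⁅x, y⁆ ≠ 1 := by
    by_contra! hall
    have htop : Subgroup.center G = ⊤ := eq_top_iff.2 fun x _ => Subgroup.mem_center_iff.2 fun y =>
      commutatorElement_eq_one_iff_mul_comm.1 (hall y x)
    have hc := congrArg (fun H : Subgroup G => Nat.card H) htop
    simp only [Subgroup.card_top, hz, hcardG] at hc
    have := Nat.pow_right_injective le_rfl hc
    omega
  rw [← (hcomm x y).resolve_left hxy]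
  exact Subgroup.commutator_mem_commutator (Subgroup.mem_top x) (Subgroup.mem_top y)

end Cfsg.Agent.S3772
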