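import Cfsg.Statements.S3773
import Cfsg.Agent.FGSA.QuadMap
import Cfsg.Agent.Solvable.PGroupBasic
import Cfsg.Prelude.Def_Transfer

set_option autoImplicit false
open Cfsg

namespace Cfsg.Agent.S3773

open Subgroup
open scoped commutatorElement

theorem main {G : Type*} [Group G] [Finite G] (hG : IsPGroup 2 G)
    (hcl : (⊤ : Subgroup G).lowerCentralSeries 2 = ⊥) (hexp : ∀ x : G, x ^ 4 = 1)
    (hN : ∀ x y : G, x ^ 2 = 1 → y ^ 2 = 1 → (x * y) ^ 2 = 1) :
    Nat.card G ≤ Nat.card {x : G // x ^ 2 = 1} ^ 3 ∧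
      (¬ Cfsg.IsSpecial 2 G → Nat.card G < Nat.card {x : G // x ^ 2 = 1} ^ 3) := by
  classical
  haveI : Fact (Nat.Prime 2) := ⟨Nat.prime_two⟩
  have hc : ∀ x y : G, ⁅x, y⁆ ∈ center G := fun x y => mem_center_iff.2 fun g => by
    have h : ⁅⁅x, y⁆, g⁆ ∈ (⊤ : Subgroup G).lowerCentralSeries 2 := by
      rw [Subgroup.lowerCentralSeries_succ, Subgroup.lowerCentralSeries_succ, Subgroup.lowerCentralSeries_zero]
      exact commutator_mem_commutator (commutator_mem_commutator (mem_top x) (mem_top y)) (mem_top g)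
    rw [hcl, mem_bot] at h
    exact (commutatorElement_eq_one_iff_mul_comm.1 h).symm
  have hmul : ∀ a b x : G, ⁅a * b, x⁆ = ⁅a, x⁆ * ⁅b, x⁆ := fun a b x => by
    have h := mem_center_iff.1 (hc b x) a
    calc ⁅a * b, x⁆ = a * ⁅b, x⁆ * a⁻¹ * ⁅a, x⁆ := by simp only [commutatorElement_def]; group
      _ = ⁅b, x⁆ * ⁅a, x⁆ := by rw [h]; group
      _ = _ := (mem_center_iff.1 (hc b x) _).symm
  have hprod : ∀ x y : G, (x * y) ^ 2 = x ^ 2 * y ^ 2 * ⁅y, x⁆ := fun x y => by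
    have h := mem_center_iff.1 (hc y⁻¹ x⁻¹) y
    have e : ⁅y⁻¹, x⁻¹⁆ = ⁅y, x⁆ := by
      have h1 := mem_center_iff.1 (hc y x) (x * y)⁻¹
      calc ⁅y⁻¹, x⁻¹⁆ = (x * y)⁻¹ * ⁅y, x⁆ * (x * y) := by simp only [commutatorElement_def]; group
        _ = ⁅y, x⁆ := by rw [h1]; group
    calc (x * y) ^ 2 = x * x * y * (⁅y⁻¹, x⁻¹⁆ * y) := by simp only [sq, commutatorElement_def]; group
      _ = x * x * (y * y) * ⁅y⁻¹, x⁻¹⁆ := by rw [← h]; group
      _ = _ := by rw [e, sq, sq]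
  have hsqc : ∀ x y : G, ⁅x ^ 2, y⁆ = ⁅x, y⁆ ^ 2 := fun x y => by rw [sq, hmul, sq]
  have hsqcomm : ∀ x y : G, Commute (x ^ 2) (y ^ 2) := fun x y => by
    refine commutatorElement_eq_one_iff_mul_comm.1 ?_
    have h1 : ⁅x, y ^ 2⁆ = ⁅x, y⁆ ^ 2 := by
      rw [← commutatorElement_inv (y ^ 2) x, hsqc, ← commutatorElement_inv y x, inv_pow]
    rw [hsqc, h1, ← pow_mul, hexp]
  have hc2 : ∀ x y : G, ⁅x, y⁆ ^ 2 = 1 := fun x y => by
    have h : ((y * x) ^ 2) ^ 2 = 1 := by rw [← pow_mul]; exact hexp _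
    rw [hprod, (show Commute (y ^ 2 * x ^ 2) ⁅x, y⁆ from mem_center_iff.1 (hc x y) _).mul_pow,
      (hsqcomm y x).mul_pow, ← pow_mul, ← pow_mul, hexp, hexp, one_mul, one_mul] at h
    exact h
  have hsqZ : ∀ x : G, x ^ 2 ∈ center G := fun x => mem_center_iff.2 fun y =>
    (commutatorElement_eq_one_iff_mul_comm.1 (by rw [hsqc, hc2])).symm
  let Z2 : Subgroup G :=
    { carrier := {x | x ∈ center G ∧ x ^ 2 = 1}
      one_mem' := ⟨one_mem _, one_pow 2⟩
      mul_mem' := fun {a b} ha hb => ⟨mul_mem ha.1 hb.1, hN a b ha.2 hb.2⟩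
      inv_mem' := fun {a} ha => ⟨inv_mem ha.1, by rw [inv_pow, ha.2, inv_one]⟩ }
  haveI : Z2.Normal := ⟨fun z hz g => by
    rwa [mem_center_iff.1 hz.1 g, mul_inv_cancel_right]⟩
  set Φ := frattini G with hΦdef
  obtain ⟨hcΦ, hpΦ⟩ := CfsgLib.PGroupBasic.commutator_pow_le_frattini hG
  have hΦ2 : Φ ≤ Z2 := CfsgLib.PGroupBasic.frattini_le_of_elementary (p := 2) Z2
    (by
      rw [_root_.commutator_def, commutator_le]
      exact fun a _ b _ => ⟨hc a b, hc2 a b⟩)
    (fun x => ⟨hsqZ x, by rw [← pow_mul]; exact hexp x⟩)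
  let N : Subgroup G :=
    { carrier := {x | x ^ 2 = 1}
      one_mem' := one_pow 2
      mul_mem' := fun {a b} ha hb => hN a b ha hb
      inv_mem' := fun {a} ha => by
        show a⁻¹ ^ 2 = 1
        rw [inv_pow, show a ^ 2 = 1 from ha, inv_one] }
  have hΦN : Φ ≤ N := fun x hx => (hΦ2 hx).2
  letI : CommGroup Φ := { (inferInstance : Group Φ) with
    mul_comm := fun a b => Subtype.ext (mem_center_iff.1 (hΦ2 b.2).1 a) }
  letI : CommGroup (G ⧸ Φ) := { (inferInstance : Group (G ⧸ Φ)) with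
    mul_comm := fun a b => by
      obtain ⟨a, rfl⟩ := QuotientGroup.mk'_surjective Φ a
      obtain ⟨b, rfl⟩ := QuotientGroup.mk'_surjective Φ b
      rw [← commutatorElement_eq_one_iff_mul_comm, ← map_commutatorElement]
      refine (QuotientGroup.eq_one_iff _).2 (hcΦ ?_)
      rw [_root_.commutator_def]
      exact commutator_mem_commutator (mem_top _) (mem_top _) }
  have hΦsq : ∀ w : Φ, w * w = 1 := fun w => Subtype.ext (by
    show (w : G) * w = 1
    rw [← sq]; exact (hΦ2 w.2).2)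
  have hQsq : ∀ q : G ⧸ Φ, q * q = 1 := fun q => by
    obtain ⟨x, rfl⟩ := QuotientGroup.mk'_surjective Φ q
    rw [← map_mul, ← sq]
    exact (QuotientGroup.eq_one_iff _).2 (hpΦ x)
  let sqMap : G ⧸ Φ → Φ := fun q => Quotient.liftOn' q (fun x => ⟨x ^ 2, hpΦ x⟩) fun x y hxy => Subtype.ext (by
    rw [QuotientGroup.leftRel_apply] at hxy
    show x ^ 2 = y ^ 2
    conv_rhs => rw [← mul_inv_cancel_left x y]
    rw [(show Commute x (x⁻¹ * y) from mem_center_iff.1 (hΦ2 hxy).1 x).mul_pow, (hΦ2 hxy).2, mul_one])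
  have hsqMap : ∀ x : G, (sqMap (QuotientGroup.mk' Φ x) : G) = x ^ 2 := fun x => rfl
  have hquad : CfsgLib.QuadMap.IsQuad sqMap := by
    have hcm : ∀ a b : G, ⁅a, b⁆ ∈ Φ := fun a b => hcΦ (by
      rw [_root_.commutator_def]; exact commutator_mem_commutator (mem_top _) (mem_top _))
    have hs : ∀ a b : G, sqMap (QuotientGroup.mk' Φ (a * b)) = sqMap (QuotientGroup.mk' Φ a) *
        sqMap (QuotientGroup.mk' Φ b) * ⟨⁅b, a⁆, hcm b a⟩ := fun a b => Subtype.ext (hprod a b)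
    intro u v t
    obtain ⟨a, rfl⟩ := QuotientGroup.mk'_surjective Φ u
    obtain ⟨b, rfl⟩ := QuotientGroup.mk'_surjective Φ v
    obtain ⟨x, rfl⟩ := QuotientGroup.mk'_surjective Φ t
    have h1 : sqMap 1 = 1 := by
      rw [← map_one (QuotientGroup.mk' Φ)]
      exact Subtype.ext (one_pow 2)
    rw [h1, mul_one, ← map_mul, ← map_mul, ← map_mul, ← map_mul, hs a (b * x), hs a x, hs b x, hs a b]
    have hbl : (⟨⁅b * x, a⁆, hcm _ _⟩ : Φ) = ⟨⁅b, a⁆, hcm b a⟩ * ⟨⁅x, a⁆, hcm x a⟩ := Subtype.ext (hmul b x a)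
    rw [hbl]
    generalize sqMap (QuotientGroup.mk' Φ a) = A, sqMap (QuotientGroup.mk' Φ b) = B,
      sqMap (QuotientGroup.mk' Φ x) = X, (⟨⁅b, a⁆, hcm b a⟩ : Φ) = C, (⟨⁅x, a⁆, hcm x a⟩ : Φ) = D,
      (⟨⁅x, b⁆, hcm x b⟩ : Φ) = E
    calc A * (B * X * E) * (C * D) * (A * X * D) * (B * X * E) * X
        = (A * A) * (B * B) * (E * E) * (D * D) * ((X * X) * (X * X)) * C := by
          simp only [mul_comm, mul_left_comm, mul_assoc]
      _ = A * B * C * A * B := by
          rw [show A * B * C * A * B = (A * A) * (B * B) * C by simp only [mul_comm, mul_left_comm, mul_assoc]]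
          simp only [hΦsq, one_mul, mul_one]
  have h1' : sqMap 1 = 1 := Subtype.ext (one_pow 2)
  let M : Subgroup (G ⧸ Φ) := N.map (QuotientGroup.mk' Φ)
  obtain ⟨U, hU1, hU2⟩ := CfsgLib.QuadMap.exists_complement hQsq M
  have haniso : ∀ v : U, sqMap v = 1 → v = 1 := fun ⟨q, hq⟩ h => by
    obtain ⟨x, rfl⟩ := QuotientGroup.mk'_surjective Φ q
    have hxN : x ∈ N := congrArg Subtype.val h
    refine Subtype.ext (mem_bot.1 ?_)
    show QuotientGroup.mk' Φ x ∈ ⊥
    rw [← hU1]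
    exact mem_inf.2 ⟨hq, mem_map_of_mem _ hxN⟩
  have hUle : Nat.card U ≤ Nat.card Φ ^ 2 :=
    CfsgLib.QuadMap.card_le (fun v : U => sqMap v) (fun v => Subtype.ext (hQsq v)) hΦsq
      (fun a b x => hquad a b x) h1' haniso
  have hMN : Nat.card M * Nat.card Φ = Nat.card N := by
    have h := ((QuotientGroup.mk' Φ).comp N.subtype).ker.card_mul_index
    rw [index_ker, MonoidHom.range_comp, range_subtype] at h
    rw [← h, mul_comm]
    congr 1
    rw [show ((QuotientGroup.mk' Φ).comp N.subtype).ker = Φ.subgroupOf N by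
      ext z; exact (MonoidHom.mem_ker.trans (QuotientGroup.eq_one_iff (z : G)))]
    exact (Nat.card_congr (subgroupOfEquivOfLe hΦN).toEquiv).symm
  have hG' : Nat.card G = Nat.card U * Nat.card N := by
    rw [← hMN, ← mul_assoc, CfsgLib.QuadMap.card_mul_of_complement hU1 hU2]
    exact Subgroup.card_eq_card_quotient_mul_card_subgroup Φ
  have hNcard : Nat.card {x : G // x ^ 2 = 1} = Nat.card N := rfl
  rw [hNcard, hG', pow_succ (Nat.card N) 2]
  refine ⟨Nat.mul_le_mul_right _ (hUle.trans (Nat.pow_le_pow_left (card_le_of_le hΦN) 2)), fun hns => ?_⟩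
  refine Nat.mul_lt_mul_of_pos_right ?_ Nat.card_pos
  by_contra hge
  rw [not_lt] at hge
  have heqN : Φ = N := eq_of_le_of_card_ge hΦN
    ((Nat.pow_le_pow_iff_left two_ne_zero).1 (hge.trans hUle))
  have hUeq : Nat.card U = Nat.card Φ ^ 2 := le_antisymm hUle ((congrArg (fun K : Subgroup G => Nat.card K ^ 2) heqN).le.trans hge)
  have hM : M = ⊥ := by
    show N.map (QuotientGroup.mk' Φ) = ⊥
    rw [Subgroup.map_eq_bot_iff, QuotientGroup.ker_mk', ← heqN]
  rw [hM, sup_bot_eq] at hU2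
  have hall : ∀ q : G ⧸ Φ, sqMap q = 1 → q = 1 := fun q h =>
    congrArg Subtype.val (haniso ⟨q, hU2 ▸ mem_top q⟩ h)
  have hVeq : Nat.card (G ⧸ Φ) = Nat.card Φ ^ 2 := by rw [← hUeq, hU2, card_top]
  apply hns
  have hcomm : commutator G = Φ := by
    refine le_antisymm hcΦ fun w hw => ?_
    by_contra hwc
    let C : Subgroup Φ := (commutator G).subgroupOf Φ
    have hw' : QuotientGroup.mk' C ⟨w, hw⟩ ≠ 1 := fun h => hwc (mem_subgroupOf.1 ((QuotientGroup.eq_one_iff (⟨w, hw⟩ : Φ)).1 h))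
    obtain ⟨lam, hl, hlw⟩ := CfsgLib.QuadMap.exists_functional (fun q => by
      obtain ⟨q, rfl⟩ := QuotientGroup.mk'_surjective C q
      rw [← map_mul, hΦsq, map_one]) hw'
    have hlt := CfsgLib.QuadMap.card_lt_of_linear sqMap hQsq hΦsq hquad h1' hall
      (fun e => lam (QuotientGroup.mk' C e)) (fun a b => by rw [map_mul, hl]) (z := ⟨w, hw⟩) hlw (fun u v => by
        obtain ⟨a, rfl⟩ := QuotientGroup.mk'_surjective Φ u
        obtain ⟨b, rfl⟩ := QuotientGroup.mk'_surjective Φ v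
        rw [← map_mul, ← hl, ← map_mul]
        congr 1
        refine QuotientGroup.eq.2 ?_
        refine mem_subgroupOf.2 ?_
        show ((a * b) ^ 2)⁻¹ * (a ^ 2 * b ^ 2) ∈ commutator G
        rw [hprod, mul_inv_rev, mul_assoc, inv_mul_cancel, mul_one]
        refine inv_mem ?_
        rw [_root_.commutator_def]
        exact commutator_mem_commutator (mem_top _) (mem_top _))
    exact hlt.ne hVeq
  suffices hΦZ : Φ = center G from ⟨hG, hΦZ, hcomm.trans hΦZ⟩
  refine le_antisymm (fun x hx => (hΦ2 hx).1) fun z hz => ?_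
  · by_contra hzΦ
    have hzz : QuotientGroup.mk' Φ z ≠ 1 := fun h => hzΦ ((QuotientGroup.eq_one_iff _).1 h)
    have hlin : ∀ q, sqMap (q * QuotientGroup.mk' Φ z) = sqMap q * sqMap (QuotientGroup.mk' Φ z) := fun q => by
      obtain ⟨a, rfl⟩ := QuotientGroup.mk'_surjective Φ q
      refine Subtype.ext ?_
      show (a * z) ^ 2 = a ^ 2 * z ^ 2
      exact (show Commute a z from mem_center_iff.1 hz a).mul_pow 2
    set e := sqMap (QuotientGroup.mk' Φ z)
    have he : e ≠ 1 := fun h => hzz (hall _ h)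
    obtain ⟨U0, hW1, hW2⟩ := CfsgLib.QuadMap.exists_complement hQsq (zpowers (QuotientGroup.mk' Φ z))
    have hq2 : ∀ q : Φ ⧸ zpowers e, q * q = 1 := fun q => by
      obtain ⟨q, rfl⟩ := QuotientGroup.mk'_surjective _ q
      rw [← map_mul, hΦsq, map_one]
    have han : ∀ v : U0, QuotientGroup.mk' (zpowers e) (sqMap (v : G ⧸ Φ)) = 1 → v = 1 := by
      rintro ⟨q, hq⟩ h
      obtain ⟨i, hi⟩ := mem_zpowers_iff.1 ((QuotientGroup.eq_one_iff _).1 h)
      refine Subtype.ext ?_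
      show q = 1
      rcases Int.even_or_odd i with ⟨j, rfl⟩ | ⟨j, rfl⟩
      · rw [zpow_add, hΦsq] at hi
        exact hall q hi.symm
      · rw [zpow_add_one, mul_comm 2 j, zpow_mul, zpow_ofNat, pow_two, hΦsq, one_mul] at hi
        exfalso
        have h2 : sqMap (q * QuotientGroup.mk' Φ z) = 1 := by rw [hlin, ← hi]; exact hΦsq e
        have h3 : q = QuotientGroup.mk' Φ z := by
          rw [eq_inv_of_mul_eq_one_left (hall _ h2)]
          exact inv_eq_of_mul_eq_one_right (hQsq _)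
        have h4 : q ∈ U0 ⊓ zpowers (QuotientGroup.mk' Φ z) := mem_inf.2 ⟨hq, h3 ▸ mem_zpowers _⟩
        rw [hW1, mem_bot] at h4
        exact hzz (h3.symm.trans h4)
    have hle := CfsgLib.QuadMap.card_le (fun v : U0 => QuotientGroup.mk' (zpowers e) (sqMap v))
      (fun v => Subtype.ext (hQsq v)) hq2
      (fun a b x => by rw [← map_mul, ← map_mul, ← map_mul, ← map_mul, ← map_mul, ← map_mul]; exact congrArg _ (hquad a b x))
      (by show QuotientGroup.mk' (zpowers e) (sqMap 1) = 1; rw [h1', map_one]) han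
    have hc1 := CfsgLib.QuadMap.card_mul_of_complement hW1 hW2
    rw [Nat.card_zpowers, orderOf_eq_prime (by rw [pow_two]; exact hQsq _) hzz, hVeq] at hc1
    have hc3 := (zpowers e).card_mul_index
    rw [Nat.card_zpowers, orderOf_eq_prime (by rw [pow_two]; exact hΦsq _) he, index_eq_card] at hc3
    have hpos : 0 < Nat.card (Φ ⧸ zpowers e) := Nat.card_pos
    rw [← hc3] at hc1
    nlinarith


/-- Let G be a finite 2-group of nilpotency class at most 2 and exponent dividing 4 in which the elements x with x² = 1 form a subgroup N. Then |G| ≤ |N|³, and |G| < |N|³ unless G is special. -/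
theorem result {G : Type*} [Group G] [Finite G] (hG : IsPGroup 2 G) (hcl : (⊤ : Subgroup G).lowerCentralSeries 2 = ⊥) (hexp : ∀ x : G, x ^ 4 = 1) (hN : ∀ x y : G, x ^ 2 = 1 → y ^ 2 = 1 → (x * y) ^ 2 = 1) : Nat.card G ≤ Nat.card {x : G // x ^ 2 = 1} ^ 3 ∧ (¬ Cfsg.IsSpecial 2 G → Nat.card G < Nat.card {x : G // x ^ 2 = 1} ^ 3) := by
  exact main hG hcl hexp hN

end Cfsg.Agent.S3773
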