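import Cfsg.Statements.S3774
import Mathlib.GroupTheory.Sylow
import Mathlib.Algebra.Group.End
import Mathlib.Tactic

set_option autoImplicit false
open Cfsg

namespace Cfsg.Agent.S3774

/-- Let G be a nontrivial finite 2-group whose automorphism group permutes the involutions of G transitively. Then every involution of G is central, so that the involutions together with 1 form the subgroup Ω₁(Z(G)), and if this subgroup has order q then |G| is a power of q. -/
theorem result {G : Type*} [Group G] [Finite G] [Nontrivial G] (hG : IsPGroup 2 G) (htrans : ∀ x y : G, x ≠ 1 → x ^ 2 = 1 → y ≠ 1 → y ^ 2 = 1 → ∃ a : MulAut G, a x = y) : (∀ x : G, x ^ 2 = 1 → x ∈ Subgroup.center G) ∧ ∃ m : ℕ, Nat.card G = Nat.card {z : G // z ^ 2 = 1} ^ m := by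
  classical
  have hz : ∀ x : G, x ^ 2 = 1 → x ∈ Subgroup.center G := by
    intro x hx
    by_cases h1 : x = 1
    · rw [h1]; exact one_mem _
    haveI := hG.center_nontrivial
    obtain ⟨⟨z, hzc⟩, hz⟩ := exists_prime_orderOf_dvd_card' (G := Subgroup.center G) 2 (by
      obtain ⟨i, hi⟩ := IsPGroup.iff_card.1 (hG.to_subgroup (Subgroup.center G))
      rw [hi]
      refine dvd_pow_self 2 fun h0 => ?_
      rw [h0, pow_zero] at hi
      exact (Finite.one_lt_card (α := Subgroup.center G)).ne' hi)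
    rw [Subgroup.orderOf_mk] at hz
    obtain ⟨a, rfl⟩ := htrans z x (fun e => by simp [e] at hz) (hz ▸ pow_orderOf_eq_one z) h1 hx
    exact Subgroup.mem_center_iff.2 fun g => by
      obtain ⟨g, rfl⟩ := a.surjective g
      rw [← map_mul, ← map_mul, Subgroup.mem_center_iff.1 hzc g]
  refine ⟨hz, ?_⟩
  let Z : Subgroup G :=
    { carrier := {z | z ^ 2 = 1}
      one_mem' := one_pow 2
      mul_mem' := fun {a b} ha hb => by
        show (a * b) ^ 2 = 1
        rw [(show Commute a b from Subgroup.mem_center_iff.1 (hz b hb) a).mul_pow,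
          show a ^ 2 = 1 from ha, show b ^ 2 = 1 from hb, one_mul]
      inv_mem' := fun {a} ha => by
        show a⁻¹ ^ 2 = 1
        rw [inv_pow, show a ^ 2 = 1 from ha, inv_one] }
  obtain ⟨k, hk⟩ := IsPGroup.iff_card.1 (hG.to_subgroup Z)
  obtain ⟨N, hN⟩ := IsPGroup.iff_card.1 hG
  have hq : Nat.card {z : G // z ^ 2 = 1} = 2 ^ k := hk
  rw [hq, hN]
  have hdvd : 2 ^ k - 1 ∣ 2 ^ N - 1 := by
    haveI := Fintype.ofFinite G
    let f : G → G := fun g => g ^ (orderOf g / 2)
    have hf2 : ∀ g : G, g ≠ 1 → f g ≠ 1 ∧ f g ^ 2 = 1 := by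
      intro g hg
      obtain ⟨i, hi⟩ := IsPGroup.iff_orderOf.1 hG g
      have hi0 : i ≠ 0 := fun h0 => hg (orderOf_eq_one_iff.1 (by rw [hi, h0, pow_zero]))
      have h2 : 2 ∣ orderOf g := hi ▸ dvd_pow_self 2 hi0
      refine ⟨fun e => ?_, by rw [← pow_mul, Nat.div_mul_cancel h2, pow_orderOf_eq_one]⟩
      have h3 := orderOf_dvd_of_pow_eq_one e
      have h4 := orderOf_pos g
      have h5 : 0 < orderOf g / 2 := Nat.div_pos (Nat.le_of_dvd h4 h2) two_pos
      have := Nat.le_of_dvd h5 h3
      omega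
    let S := (Finset.univ : Finset G).erase 1
    let T := (Finset.univ.filter fun z : G => z ^ 2 = 1).erase 1
    have hmaps : ∀ g ∈ S, f g ∈ T := fun g hg => by
      obtain ⟨a, b⟩ := hf2 g (Finset.ne_of_mem_erase hg)
      simp [T, a, b]
    have hT : T.card = 2 ^ k - 1 := by
      rw [Finset.card_erase_of_mem (by simp), ← hq, Nat.card_eq_fintype_card, Fintype.card_subtype]
    have hS : S.card = 2 ^ N - 1 := by
      rw [Finset.card_erase_of_mem (Finset.mem_univ _), Finset.card_univ, ← Nat.card_eq_fintype_card, hN]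
    rw [← hS, ← hT, Finset.card_eq_sum_card_fiberwise hmaps]
    rcases T.eq_empty_or_nonempty with hTe | ⟨z₀, hz₀⟩
    · rw [hTe]; simp
    have hconst : ∀ z ∈ T, (S.filter fun g => f g = z).card = (S.filter fun g => f g = z₀).card := by
      intro z hzT
      simp only [T, Finset.mem_erase, Finset.mem_filter, Finset.mem_univ, true_and] at hzT hz₀
      obtain ⟨a, ha⟩ := htrans z z₀ hzT.1 hzT.2 hz₀.1 hz₀.2
      have hfa : ∀ g : G, f (a g) = a (f g) := fun g => by
        simp only [f, MulEquiv.orderOf_eq, map_pow]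
      refine Finset.card_equiv a.toEquiv fun g => ?_
      simp only [Finset.mem_filter, S, Finset.mem_erase, Finset.mem_univ, and_true, MulEquiv.toEquiv_eq_coe,
        EquivLike.coe_coe, hfa, ← ha, ne_eq, EmbeddingLike.map_eq_one_iff, EmbeddingLike.apply_eq_iff_eq]
    rw [Finset.sum_congr rfl hconst, Finset.sum_const, smul_eq_mul]
    exact Dvd.intro _ rfl
  have h := Nat.pow_sub_one_gcd_pow_sub_one 2 k N
  rw [Nat.gcd_eq_left hdvd] at h
  have hkd : k ∣ N := by
    have h1 : 2 ^ k = 2 ^ Nat.gcd k N := by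
      have := Nat.one_le_two_pow (n := k)
      have := Nat.one_le_two_pow (n := Nat.gcd k N)
      omega
    exact (Nat.pow_right_injective le_rfl h1) ▸ Nat.gcd_dvd_right k N
  obtain ⟨m, rfl⟩ := hkd
  exact ⟨m, pow_mul 2 k m⟩

end Cfsg.Agent.S3774
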