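import Cfsg.Statements.S3775
import Cfsg.Agent.FGSA.InvariantComplement

set_option autoImplicit false
open Cfsg

namespace Cfsg.Agent.S3775

/-- Let A be a finite abelian p-group and X a group of automorphisms of A of order prime to p. Call a subgroup of A invariant when every element of X maps it onto itself. Then the following are equivalent: (i) A is not the direct product of two nontrivial invariant subgroups; (ii) every invariant subgroup of A is one of the subgroups Ω_i(A) = {a : a^(p^i) = 1}; (iii) the subgroup Ω₁(A) of elements of order dividing p has no invariant subgroups other than 1 and itself. -/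
theorem result {A : Type*} [CommGroup A] [Finite A] {p : ℕ} [Fact p.Prime] (hA : IsPGroup p A) (X : Subgroup (MulAut A)) (hX : (Nat.card X).Coprime p) : ((¬ ∃ B C : Subgroup A, B ≠ ⊥ ∧ C ≠ ⊥ ∧ (∀ x ∈ X, B.map x.toMonoidHom = B) ∧ (∀ x ∈ X, C.map x.toMonoidHom = C) ∧ B ⊓ C = ⊥ ∧ B ⊔ C = ⊤) ↔ (∀ B : Subgroup A, (∀ x ∈ X, B.map x.toMonoidHom = B) → ∃ i : ℕ, ∀ a : A, a ∈ B ↔ a ^ p ^ i = 1)) ∧ ((∀ B : Subgroup A, (∀ x ∈ X, B.map x.toMonoidHom = B) → ∃ i : ℕ, ∀ a : A, a ∈ B ↔ a ^ p ^ i = 1) ↔ (∀ B : Subgroup A, (∀ x ∈ X, B.map x.toMonoidHom = B) → (∀ b ∈ B, b ^ p = 1) → B = ⊥ ∨ ∀ a : A, a ∈ B ↔ a ^ p = 1)) := by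
  classical
  have hp := (Fact.out : p.Prime)
  have hcop : (Nat.card X).Coprime (Nat.card A) := by
    obtain ⟨k, hk⟩ := IsPGroup.iff_card.1 hA
    rw [hk]; exact hX.pow_right k
  have hsmul : ∀ (x : X) (a : A), x • a = (x : MulAut A) a := fun _ _ => rfl
  have hinv : ∀ B : Subgroup A, (∀ x ∈ X, B.map x.toMonoidHom = B) ↔
      CfsgLib.Coprime.IsInvariant X B := by
    intro B
    constructor
    · intro h x b hb
      rw [← h x x.2]
      exact ⟨b, hb, rfl⟩
    · intro h x hx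
      refine le_antisymm ?_ fun b hb => ?_
      · rintro _ ⟨b, hb, rfl⟩
        exact h ⟨x, hx⟩ b hb
      · exact ⟨(⟨x, hx⟩ : X)⁻¹ • b, h _ b hb, smul_inv_smul (⟨x, hx⟩ : X) b⟩
  -- (iii) implies (ii)
  have h32 : (∀ B : Subgroup A, (∀ x ∈ X, B.map x.toMonoidHom = B) → (∀ b ∈ B, b ^ p = 1) →
        B = ⊥ ∨ ∀ a : A, a ∈ B ↔ a ^ p = 1) →
      (∀ B : Subgroup A, (∀ x ∈ X, B.map x.toMonoidHom = B) →
        ∃ i : ℕ, ∀ a : A, a ∈ B ↔ a ^ p ^ i = 1) := by
    intro h3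
    suffices ∀ (i : ℕ) (B : Subgroup A), CfsgLib.Coprime.IsInvariant X B →
        (∀ b ∈ B, b ^ p ^ i = 1) → ∃ j, ∀ a : A, a ∈ B ↔ a ^ p ^ j = 1 by
      intro B hB
      obtain ⟨e, he⟩ := IsPGroup.iff_card.1 hA
      exact this e B ((hinv B).1 hB) fun b _ => by rw [← he]; exact pow_card_eq_one'
    intro i
    induction i with
    | zero =>
      intro B _ hB
      refine ⟨0, fun a => ⟨hB a, fun h => ?_⟩⟩
      rw [show a = 1 by simpa using h]; exact one_mem B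
    | succ i ih =>
      intro B hB hBe
      by_cases hlow : ∀ b ∈ B, b ^ p ^ i = 1
      · exact ih B hB hlow
      refine ⟨i + 1, fun a => ⟨hBe a, ?_⟩⟩
      -- the lower layer of `B` and its image in the bottom layer
      have hlayer : ∀ a : A, a ^ p ^ i = 1 → a ∈ B := by
        intro a ha
        let D := B ⊓ (powMonoidHom (p ^ i) : A →* A).ker
        obtain ⟨j, hj⟩ := ih D (fun x d hd => ⟨hB x d hd.1, by
          have h : d ^ p ^ i = 1 := hd.2
          show (x • d) ^ p ^ i = 1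
          rw [← smul_pow', h, smul_one]⟩) fun d hd => hd.2
        obtain ⟨b, hb, hb'⟩ : ∃ b ∈ B, b ^ p ^ i ≠ 1 := by
          by_contra h
          exact hlow fun b hb => not_not.1 fun h' => h ⟨b, hb, h'⟩
        refine ((hj a).2 ?_).1
        rcases i with _ | i
        · rw [show a = 1 by simpa using ha, one_pow]
        · have hbD : b ^ p ∈ D := ⟨pow_mem hb p, by
            show (b ^ p) ^ p ^ (i + 1) = 1
            rw [← pow_mul, ← pow_succ']; exact hBe b hb⟩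
          have hj' : i + 1 ≤ j := by
            by_contra hlt
            have h1 := (hj _).1 hbD
            rw [← pow_mul, ← pow_succ'] at h1
            obtain ⟨d, hd⟩ : ∃ d, i + 1 = (j + 1) + d := ⟨i + 1 - (j + 1), by omega⟩
            exact hb' (by rw [hd, pow_add, pow_mul, h1, one_pow])
          obtain ⟨d, rfl⟩ : ∃ d, j = i + 1 + d := ⟨j - (i + 1), by omega⟩
          rw [pow_add, pow_mul, ha, one_pow]
      intro ha
      let T := B.map (powMonoidHom (p ^ i) : A →* A)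
      have hT : ∀ t ∈ T, t ^ p = 1 := by
        rintro _ ⟨b, hb, rfl⟩
        show (b ^ p ^ i) ^ p = 1
        rw [← pow_mul, ← pow_succ]; exact hBe b hb
      have hTall : ∀ t : A, t ∈ T ↔ t ^ p = 1 := by
        refine (h3 T ((hinv T).2 ?_) hT).resolve_left fun h => hlow fun b hb => ?_
        · rintro x _ ⟨b, hb, rfl⟩
          exact ⟨x • b, hB x b hb, (smul_pow' x b _).symm⟩
        · exact Subgroup.mem_bot.1 (h ▸ (⟨b, hb, rfl⟩ : b ^ p ^ i ∈ T))
      obtain ⟨b, hb, hba⟩ := (hTall (a ^ p ^ i)).2 (by rw [← pow_mul, ← pow_succ]; exact ha)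
      have hba' : b ^ p ^ i = a ^ p ^ i := hba
      have := mul_mem hb (hlayer (b⁻¹ * a) (by rw [mul_pow, inv_pow, hba', inv_mul_cancel]))
      rwa [mul_inv_cancel_left] at this
  -- (ii) implies (i)
  have h21 : (∀ B : Subgroup A, (∀ x ∈ X, B.map x.toMonoidHom = B) →
        ∃ i : ℕ, ∀ a : A, a ∈ B ↔ a ^ p ^ i = 1) →
      ¬ ∃ B C : Subgroup A, B ≠ ⊥ ∧ C ≠ ⊥ ∧ (∀ x ∈ X, B.map x.toMonoidHom = B) ∧
        (∀ x ∈ X, C.map x.toMonoidHom = C) ∧ B ⊓ C = ⊥ ∧ B ⊔ C = ⊤ := by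
    rintro h2 ⟨B, C, hB, hC, hBi, hCi, hBC, -⟩
    have hlayer : ∀ B : Subgroup A, B ≠ ⊥ → (∀ x ∈ X, B.map x.toMonoidHom = B) →
        ∀ a : A, a ^ p = 1 → a ∈ B := by
      intro B hB hBi a ha
      obtain ⟨i, hi⟩ := h2 B hBi
      rcases i with _ | i
      · exact absurd (eq_bot_iff.2 fun b hb => by simpa using (hi b).1 hb) hB
      · exact (hi a).2 (by rw [pow_succ', pow_mul, ha, one_pow])
    obtain ⟨b, hb, hb1⟩ := B.bot_or_exists_ne_one.resolve_left hB
    obtain ⟨k, hk⟩ := IsPGroup.iff_orderOf.1 hA b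
    rcases k with _ | k
    · exact hb1 (orderOf_eq_one_iff.1 (by simpa using hk))
    · have h1 : (b ^ p ^ k) ^ p = 1 := by
        rw [← pow_mul, ← pow_succ, ← hk, pow_orderOf_eq_one]
      have h2' : b ^ p ^ k ∈ B ⊓ C := ⟨hlayer B hB hBi _ h1, hlayer C hC hCi _ h1⟩
      rw [hBC, Subgroup.mem_bot] at h2'
      have h3 := orderOf_dvd_of_pow_eq_one h2'
      rw [hk, Nat.pow_dvd_pow_iff_le_right hp.one_lt] at h3
      omega
  -- (i) implies (iii)
  have h13 : (¬ ∃ B C : Subgroup A, B ≠ ⊥ ∧ C ≠ ⊥ ∧ (∀ x ∈ X, B.map x.toMonoidHom = B) ∧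
        (∀ x ∈ X, C.map x.toMonoidHom = C) ∧ B ⊓ C = ⊥ ∧ B ⊔ C = ⊤) →
      ∀ B : Subgroup A, (∀ x ∈ X, B.map x.toMonoidHom = B) → (∀ b ∈ B, b ^ p = 1) →
        B = ⊥ ∨ ∀ a : A, a ∈ B ↔ a ^ p = 1 := by
    intro h1 B hB hBp
    refine or_iff_not_imp_left.2 fun hB1 a => ⟨hBp a, ?_⟩
    refine CfsgLib.InvariantComplement.bottom_irreducible hA hcop ?_ B ((hinv B).1 hB) hBp hB1 a
    intro H C hH hC hHC hHC'
    by_contra hne
    exact h1 ⟨H, C, fun h => hne (Or.inl h), fun h => hne (Or.inr h), (hinv H).2 hH,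
      (hinv C).2 hC, hHC, hHC'⟩
  exact ⟨⟨fun h => h32 (h13 h), h21⟩, ⟨fun h => h13 (h21 h), h32⟩⟩

end Cfsg.Agent.S3775
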