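import Cfsg.Statements.S3778
import Cfsg.Agent.Solvable.Basics
import Mathlib.Tactic.Linarith

set_option autoImplicit false
open Cfsg
set_option linter.style.haveILetI false

namespace Cfsg.Agent.S3778

open Subgroup
open scoped commutatorElement

theorem two_mul_bound {m b p : ℕ} (hp : 2 ≤ p) (h : m * (p - 1) < b * p) : m < 2 * b := by
  obtain ⟨e, rfl⟩ := Nat.exists_eq_add_of_le hp
  by_contra hlt
  rw [show 2 + e - 1 = 1 + e by omega] at h
  nlinarith

/-- If G is a finite p-group in which every conjugacy class has at most p^b elements (every element has centralizer of index at most p^b), then G is abelian when b = 0, and when b ≥ 1 its nilpotency class c satisfies (c − 1)(p − 1) < bp, that is c < bp/(p − 1) + 1, and hence c ≤ 2b. -/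
theorem result {G : Type*} [Group G] [Finite G] {p : ℕ} [Fact p.Prime] (hG : IsPGroup p G) (b : ℕ) (hb : ∀ x : G, (Subgroup.centralizer ({x} : Set G)).index ≤ p ^ b) : ∃ c : ℕ, (⊤ : Subgroup G).lowerCentralSeries c = ⊥ ∧ (b ≠ 0 → (c - 1) * (p - 1) < b * p ∧ c ≤ 2 * b) ∧ (b = 0 → c ≤ 1) := by
  have hp : p.Prime := Fact.out
  haveI : Group.IsNilpotent G := hG.isNilpotent
  set L := fun n => (⊤ : Subgroup G).lowerCentralSeries n with hL
  obtain ⟨c, hc, hmin⟩ : ∃ c, L c = ⊥ ∧ ∀ n, n < c → L n ≠ ⊥ := by
    classical
    exact ⟨Nat.find (Subgroup.nilpotent_iff_lowerCentralSeries.mp ‹_›),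
      Nat.find_spec (Subgroup.nilpotent_iff_lowerCentralSeries.mp ‹_›),
      fun n hn => Nat.find_min _ hn⟩
  have hLn : ∀ n, (L n).Normal := fun n => inferInstance
  have hanti : ∀ {i j}, i ≤ j → L j ≤ L i := fun h => (Subgroup.lowerCentralSeries_antitone ⊤) h
  let C : ℕ → Subgroup G := fun n =>
    (centralizer ((L n).map (QuotientGroup.mk' (L (n + 2))) : Set (G ⧸ L (n + 2)))).comap
      (QuotientGroup.mk' (L (n + 2)))
  have hcentral : ∀ n, ∀ k ∈ L (n + 1), ∀ y : G,
      (QuotientGroup.mk' (L (n + 2)) k) * (QuotientGroup.mk' (L (n + 2)) y) =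
        (QuotientGroup.mk' (L (n + 2)) y) * (QuotientGroup.mk' (L (n + 2)) k) := by
    intro n k hk y
    rw [← map_mul, ← map_mul]
    refine QuotientGroup.eq.mpr ?_
    rw [show (k * y)⁻¹ * (y * k) = y⁻¹ * k⁻¹ * y * k by group]
    have h := commutator_mem_commutator (inv_mem hk) (mem_top y⁻¹)
    rw [commutatorElement_def, inv_inv, inv_inv] at h
    have h2 : k⁻¹ * y⁻¹ * k * y ∈ L (n + 2) := h
    have h3 := inv_mem h2
    rwa [show (k⁻¹ * y⁻¹ * k * y)⁻¹ = y⁻¹ * k⁻¹ * y * k by group] at h3
  have hproper : ∀ n, n + 1 < c → C n ≠ ⊤ := by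
    intro n hn htop
    refine hmin (n + 1) hn ?_
    have hle : L (n + 1) ≤ L (n + 2) := by
      show ⁅L n, (⊤ : Subgroup G)⁆ ≤ _
      rw [commutator_le]
      intro y hy x _
      refine (QuotientGroup.eq_one_iff _).mp ?_
      show QuotientGroup.mk' (L (n + 2)) ⁅y, x⁆ = 1
      rw [commutatorElement_def, map_mul, map_mul, map_mul, map_inv, map_inv]
      have hx : x ∈ C n := htop ▸ mem_top x
      rw [mem_centralizer_iff.mp (mem_comap.mp hx) _ (mem_map_of_mem _ hy)]
      group
    have hstab : ∀ k, L (n + 1) ≤ L (n + 1 + k) := by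
      intro k
      induction k with
      | zero => exact le_rfl
      | succ k ih =>
        exact hle.trans (commutator_mono ih (le_refl ⊤))
    exact le_bot_iff.mp ((hstab c).trans ((hanti (Nat.le_add_left c (n + 1))).trans hc.le))
  classical
  haveI := Fintype.ofFinite G
  set m := c - 1 with hm
  let S : G → ℕ := fun x => ((Finset.range m).filter fun n => x ∉ C n).card
  -- the centraliser index dominates the number of jumps
  have hS : ∀ x, S x ≤ b := by
    intro x
    set H := centralizer ({x} : Set G)
    have key : ∀ j, j ≤ m → p ^ ((Finset.Ico (m - j) m).filter fun n => x ∉ C n).card *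
        Nat.card (H ⊓ L (m - j) : Subgroup G) ≤ Nat.card (L (m - j)) := by
      intro j
      induction j with
      | zero =>
        intro _
        simp only [Nat.sub_zero, Finset.Ico_self, Finset.filter_empty, Finset.card_empty, pow_zero,
          one_mul]
        exact Nat.card_le_card_of_injective _ (inclusion_injective inf_le_right)
      | succ j ih =>
        intro hj
        have ih := ih (Nat.le_of_succ_le hj)
        obtain ⟨n, hn⟩ : ∃ n, m - (j + 1) = n := ⟨_, rfl⟩
        have hn1 : m - j = n + 1 := by omega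
        rw [hn1] at ih; rw [hn]
        set A := H ⊓ L n
        set K := L (n + 1)
        have hAK : A ⊓ K = H ⊓ K := by
          rw [inf_assoc, inf_eq_right.mpr (hanti (Nat.le_succ n))]
        have hnorm : A ≤ normalizer (K : Set G) := by rw [normalizer_eq_top (H := K)]; exact le_top
        have h1 := CfsgLib.Solvable.card_sup_mul_card_inf hnorm
        rw [hAK] at h1
        have hle : A ⊔ K ≤ L n := sup_le inf_le_right (hanti (Nat.le_succ n))
        obtain ⟨d, hd⟩ := card_dvd_of_le hle
        have hins : Finset.Ico n m = insert n (Finset.Ico (n + 1) m) :=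
          (Finset.insert_Ico_add_one_left_eq_Ico (by omega)).symm
        rw [hins, Finset.filter_insert]
        set q := ((Finset.Ico (n + 1) m).filter fun i => x ∉ C i).card
        have hAK2 : p ^ q * Nat.card A ≤ Nat.card (A ⊔ K : Subgroup G) := by
          refine Nat.le_of_mul_le_mul_right (?_ : _ * Nat.card (H ⊓ K : Subgroup G) ≤ _)
            Nat.card_pos
          rw [h1]
          calc p ^ q * Nat.card A * Nat.card (H ⊓ K : Subgroup G)
              = Nat.card A * (p ^ q * Nat.card (H ⊓ K : Subgroup G)) := by ring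
            _ ≤ _ := Nat.mul_le_mul_left _ ih
        by_cases hx : x ∈ C n
        · rw [if_neg (not_not.mpr hx)]
          exact hAK2.trans (Nat.card_le_card_of_injective _ (inclusion_injective hle))
        · rw [if_pos hx, Finset.card_insert_of_notMem (by simp), pow_succ]
          have hd1 : d ≠ 1 := by
            intro hd1
            apply hx
            have heq : A ⊔ K = L n := Subgroup.eq_of_le_of_card_ge hle (by rw [hd, hd1, mul_one])
            refine mem_comap.mpr (mem_centralizer_iff.mpr ?_)
            rintro _ ⟨y, hy, rfl⟩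
            rw [SetLike.mem_coe, ← heq] at hy
            obtain ⟨a, ha, k, hk, rfl⟩ := CfsgLib.Solvable.mem_sup_of_le_normalizer hnorm |>.mp hy
            rw [map_mul, mul_assoc, hcentral n k hk x, ← mul_assoc, ← map_mul,
              mem_centralizer_singleton_iff.mp (mem_inf.mp ha).1, map_mul, mul_assoc]
          have hdp : p ≤ d := by
            obtain ⟨k, hk⟩ := (IsPGroup.iff_card.mp (hG.to_subgroup (L n)))
            obtain ⟨i, _, rfl⟩ := (Nat.dvd_prime_pow hp).mp (hk ▸ Dvd.intro_left _ hd.symm : d ∣ p ^ k)
            exact Nat.le_self_pow (fun hi => hd1 (by rw [hi, pow_zero])) p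
          calc p ^ q * p * Nat.card A = p ^ q * Nat.card A * p := by ring
            _ ≤ Nat.card (A ⊔ K : Subgroup G) * d := Nat.mul_le_mul hAK2 hdp
            _ = _ := hd.symm
    have h := key m le_rfl
    rw [Nat.sub_self] at h
    have hL0 : L 0 = ⊤ := rfl
    rw [hL0, inf_top_eq, Subgroup.card_top, ← H.card_mul_index, mul_comm (Nat.card H),
      ← Finset.range_eq_Ico] at h
    exact (Nat.pow_le_pow_iff_right hp.one_lt).mp
      ((Nat.le_of_mul_le_mul_right h Nat.card_pos).trans (hb x))
  -- average
  have hsum : m * ((p - 1) * Nat.card G) ≤ p * ∑ x : G, S x := by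
    have : ∀ n ∈ Finset.range m, (p - 1) * Nat.card G ≤
        p * (Finset.univ.filter fun x : G => x ∉ C n).card := by
      intro n hn
      rw [Finset.mem_range] at hn
      have h1 := (C n).card_mul_index
      have h2 : p ≤ (C n).index := by
        obtain ⟨k, hk⟩ := IsPGroup.iff_card.mp hG
        obtain ⟨i, _, hi⟩ := (Nat.dvd_prime_pow hp).mp (hk ▸ (C n).index_dvd_card)
        rw [hi]
        exact Nat.le_self_pow (fun h0 => hproper n (by omega) (index_eq_one.mp (by
          rw [hi, h0, pow_zero]))) p
      have h3 : Nat.card (C n) + (Finset.univ.filter fun x : G => x ∉ C n).card = Nat.card G := by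
        rw [Nat.card_eq_fintype_card (α := G), ← Finset.card_univ,
          ← Finset.card_filter_add_card_filter_not (s := (Finset.univ : Finset G)) (fun x => x ∈ C n),
          Nat.card_eq_fintype_card, Fintype.card_subtype]
      have h4 : p * Nat.card (C n) ≤ Nat.card G := by
        rw [← h1, mul_comm]; exact Nat.mul_le_mul_left _ h2
      obtain ⟨e, rfl⟩ : ∃ e, p = e + 1 := ⟨p - 1, by have := hp.pos; omega⟩
      rw [Nat.add_sub_cancel]
      nlinarith
    have h := Finset.card_nsmul_le_sum _ _ _ this
    rw [smul_eq_mul, Finset.card_range, ← Finset.mul_sum] at h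
    refine h.trans_eq (congrArg (p * ·) ?_)
    simp only [S, Finset.card_filter]
    exact Finset.sum_comm
  have hbd : ∑ x : G, S x + b ≤ b * Nat.card G := by
    have h1 : S 1 = 0 := by
      simp [S, one_mem]
    rw [← Finset.add_sum_erase _ _ (Finset.mem_univ (1 : G)), h1, zero_add]
    have := Finset.sum_le_card_nsmul (Finset.univ.erase (1 : G)) S b fun x _ => hS x
    rw [Finset.card_erase_of_mem (Finset.mem_univ _), Finset.card_univ, smul_eq_mul,
      ← Nat.card_eq_fintype_card] at this
    obtain ⟨e, he⟩ : ∃ e, Nat.card G = e + 1 :=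
      ⟨Nat.card G - 1, by have : 0 < Nat.card G := Nat.card_pos; omega⟩
    rw [he, Nat.add_sub_cancel] at this
    rw [he]; nlinarith
  refine ⟨c, hc, fun hb0 => ?_, fun hb0 => ?_⟩
  · have hlt : m * (p - 1) < b * p := by
      by_contra h
      have h1 : b * p * Nat.card G ≤ m * (p - 1) * Nat.card G := Nat.mul_le_mul_right _ (not_lt.mp h)
      have h2 : 0 < p * b := Nat.mul_pos hp.pos (Nat.pos_of_ne_zero hb0)
      nlinarith
    refine ⟨hlt, ?_⟩
    have := two_mul_bound hp.two_le hlt
    omega
  · subst hb0
    by_contra h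
    have h1 : 0 < m * ((p - 1) * Nat.card G) :=
      Nat.mul_pos (by omega) (Nat.mul_pos (by have := hp.two_le; omega) Nat.card_pos)
    nlinarith

end Cfsg.Agent.S3778
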