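import Cfsg.Statements.S3780
import Mathlib.Algebra.CharP.Lemmas
import Mathlib.Algebra.Module.LinearMap.End
import Cfsg.Agent.Solvable.PGroupBasic
import Mathlib.Tactic

set_option autoImplicit false
open Cfsg

namespace Cfsg.Agent.S3780

open Subgroup

variable {V : Type*} [CommGroup V]

/-- `v ↦ α v / v`. -/
def diff (α : MulAut V) : V →* V :=
  MonoidHom.mk' (fun v => α v * v⁻¹) fun a b => by rw [map_mul, mul_inv]; exact mul_mul_mul_comm _ _ _ _

theorem diff_iterate [Finite V] {p : ℕ} [Fact p.Prime] (α : MulAut V) (hα : α ^ p = 1) (v : V) (hv : v ^ p = 1) :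
    (diff α)^[p] v = 1 := by
  let A : AddMonoid.End (Additive V) := MonoidHom.toAdditive α.toMonoidHom
  let D : AddMonoid.End (Additive V) := MonoidHom.toAdditive (diff α)
  have hD : D = A + (-1) := by
    refine AddMonoidHom.ext fun x => ?_
    rfl
  have hit : ∀ k : ℕ, ∀ w : V, (D ^ k) (Additive.ofMul w) = Additive.ofMul ((diff α)^[k] w) ∧
      (A ^ k) (Additive.ofMul w) = Additive.ofMul ((α ^ k) w) := by
    intro k
    induction k with
    | zero => intro w; exact ⟨rfl, rfl⟩
    | succ k ih =>
      intro w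
      refine ⟨?_, ?_⟩
      · rw [pow_succ, Function.iterate_succ_apply]
        exact (ih (diff α w)).1
      · rw [pow_succ, pow_succ]
        exact (ih (α w)).2
  obtain ⟨r, hr⟩ := (Commute.neg_one_right A).exists_add_pow_prime_eq (Fact.out : p.Prime)
  rw [← hD] at hr
  have h1 : (D ^ p) (Additive.ofMul v) = 0 := by
    rw [hr]
    have hAp : (A ^ p) (Additive.ofMul v) = Additive.ofMul v := by rw [(hit p v).2, hα]; rfl
    have hp0 : ∀ E : AddMonoid.End (Additive V), ((p : AddMonoid.End (Additive V)) * E) (Additive.ofMul v) = 0 := by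
      intro E
      show (p : AddMonoid.End (Additive V)) (E (Additive.ofMul v)) = 0
      rw [AddMonoid.End.natCast_apply, ← map_nsmul, ← ofMul_pow, hv, ofMul_one, map_zero]
    show (A ^ p) (Additive.ofMul v) + ((-1 : AddMonoid.End (Additive V)) ^ p) (Additive.ofMul v) +
      ((p : AddMonoid.End (Additive V)) * A * (-1) * r) (Additive.ofMul v) = 0
    have hn : ∀ (k : ℕ) (w : Additive V), ((-1 : AddMonoid.End (Additive V)) ^ k) w = ((-1 : ℤ) ^ k) • w := by
      intro k
      induction k with
      | zero => intro w; simp only [pow_zero, one_smul]; rfl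
      | succ k ih =>
        intro w
        rw [pow_succ', pow_succ']
        show -((((-1 : AddMonoid.End (Additive V)) ^ k)) w) = _
        rw [ih, mul_smul, neg_one_smul]
    rw [hAp, mul_assoc, mul_assoc, hp0, hn]
    rcases (Fact.out : p.Prime).eq_two_or_odd' with h2 | h2
    · subst h2
      rw [neg_one_sq, one_smul, add_zero]
      show Additive.ofMul v + Additive.ofMul v = 0
      rw [← ofMul_mul, ← sq, hv, ofMul_one]
    · rw [h2.neg_one_pow, neg_one_smul, add_zero]
      exact add_neg_cancel _
  rw [(hit p v).1] at h1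
  exact h1

theorem card_ker_iterate [Finite V] {p n : ℕ} (f : V →* V) (E : Subgroup V) (hE : ∀ v ∈ E, f v ∈ E)
    (hker : Nat.card ↥(E ⊓ f.ker) ≤ p ^ n) :
    ∀ (k : ℕ) (K : Subgroup V), K ≤ E → (∀ v ∈ K, f^[k] v = 1) → Nat.card K ≤ p ^ (n * k) := by
  intro k
  induction k with
  | zero =>
    intro K _ hK
    rw [mul_zero, pow_zero, (eq_bot_iff_forall K).2 hK, card_bot]
  | succ k ih =>
    intro K hKE hK
    have h := (f.comp K.subtype).ker.card_mul_index
    rw [index_ker] at h
    rw [← h, mul_add, mul_one, pow_add, mul_comm (p ^ (n * k))]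
    refine Nat.mul_le_mul ?_ ?_
    · refine le_trans ?_ hker
      refine Nat.card_le_card_of_injective
        (fun x : (f.comp K.subtype).ker => (⟨(x.1 : V), hKE x.1.2, MonoidHom.mem_ker.1 x.2⟩ : ↥(E ⊓ f.ker))) ?_
      intro a b hab
      exact Subtype.ext (Subtype.ext (congrArg (fun y : ↥(E ⊓ f.ker) => (y : V)) hab))
    · refine ih _ ?_ ?_
      · rintro _ ⟨x, rfl⟩; exact hE _ (hKE x.2)
      · rintro _ ⟨x, rfl⟩
        show f^[k] (f x) = 1
        rw [← Function.iterate_succ_apply]
        exact hK _ x.2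


/-- Let V be a finite abelian p-group and α an automorphism of V of order p whose fixed-point subgroup has order p^n. Then V can be generated by pn elements: some subset of V with at most pn elements generates V. -/
theorem result {V : Type*} [CommGroup V] [Finite V] {p : ℕ} [Fact p.Prime] (hV : IsPGroup p V) (α : MulAut V) (hα : orderOf α = p) (n : ℕ) (hfix : Nat.card {v : V // α v = v} = p ^ n) : ∃ S : Finset V, S.card ≤ p * n ∧ Subgroup.closure (S : Set V) = ⊤ := by
  classical
  have hp : p.Prime := Fact.out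
  have hαp : α ^ p = 1 := by rw [← hα, pow_orderOf_eq_one]
  let E : Subgroup V := (powMonoidHom p : V →* V).ker
  have hE : ∀ v ∈ E, diff α v ∈ E := fun v hv => by
    have hv' : v ^ p = 1 := hv
    show (diff α v) ^ p = 1
    rw [← map_pow, hv', map_one]
  have hker : Nat.card ↥(E ⊓ (diff α).ker) ≤ p ^ n := by
    rw [← hfix]
    refine Nat.card_le_card_of_injective (fun v => (⟨v.1, mul_inv_eq_one.1 (MonoidHom.mem_ker.1 v.2.2)⟩ : {v : V // α v = v})) ?_
    intro a b hab
    exact Subtype.ext (congrArg (fun y : {v : V // α v = v} => y.1) hab)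
  have hEcard : Nat.card E ≤ p ^ (n * p) :=
    card_ker_iterate (diff α) E hE hker p E le_rfl fun v hv => diff_iterate α hαp v hv
  obtain ⟨d, hd⟩ := hV.index (frattini V)
  obtain ⟨hgen, -⟩ := CfsgLib.PGroupBasic.burnside_basis hV hd
  haveI := Fintype.ofFinite V
  obtain ⟨T, -, hT, hTtop⟩ := hgen Finset.univ (by rw [Finset.coe_univ, Subgroup.closure_univ])
  refine ⟨T, ?_, hTtop⟩
  rw [hT]
  have h1 : (powMonoidHom p : V →* V).range ≤ frattini V := by
    rintro _ ⟨x, rfl⟩
    exact (CfsgLib.PGroupBasic.commutator_pow_le_frattini hV).2 x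
  have h2 := index_dvd_of_le h1
  have h3 := E.card_mul_index
  rw [index_ker] at h3
  rw [← (powMonoidHom p : V →* V).range.index_mul_card] at h3
  have h4 : (powMonoidHom p : V →* V).range.index = Nat.card E :=
    (Nat.eq_of_mul_eq_mul_right Nat.card_pos h3).symm
  rw [h4, hd] at h2
  rw [mul_comm]
  exact (Nat.pow_le_pow_iff_right hp.one_lt).1 ((Nat.le_of_dvd Nat.card_pos h2).trans hEcard)

end Cfsg.Agent.S3780
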