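import Cfsg.Statements.S3781
import Cfsg.Agent.Kinf.Leibniz

set_option autoImplicit false
open Cfsg

namespace Cfsg.Agent.S3781

open scoped commutatorElement

open Subgroup in
/-- Iterated commutators with the whole group. -/
def chain {G : Type*} [Group G] (A : Subgroup G) : ℕ → Subgroup G
  | 0 => A
  | j + 1 => ⁅chain A j, (⊤ : Subgroup G)⁆

theorem chain_normal {G : Type*} [Group G] (A : Subgroup G) [hA : A.Normal] :
    ∀ j, (chain A j).Normal
  | 0 => hA
  | j + 1 => by have := chain_normal A j; exact Subgroup.commutator_normal _ _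

theorem chain_mono {G : Type*} [Group G] {A B : Subgroup G} (h : A ≤ B) :
    ∀ j, chain A j ≤ chain B j
  | 0 => h
  | j + 1 => Subgroup.commutator_mono (chain_mono h j) le_rfl

theorem chain_add {G : Type*} [Group G] (A : Subgroup G) :
    ∀ j, chain (chain A 1) j = chain A (j + 1)
  | 0 => rfl
  | j + 1 => congrArg (fun X => ⁅X, (⊤ : Subgroup G)⁆) (chain_add A j)

theorem chain_le_lcs {G : Type*} [Group G] (A : Subgroup G) :
    ∀ j, chain A j ≤ (⊤ : Subgroup G).lowerCentralSeries j
  | 0 => le_top
  | j + 1 => Subgroup.commutator_mono (chain_le_lcs A j) le_rfl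

theorem commutator_lcs_le {G : Type*} [Group G] :
    ∀ (k : ℕ) (A : Subgroup G) [A.Normal],
      ⁅A, (⊤ : Subgroup G).lowerCentralSeries k⁆ ≤ chain A (k + 1) := by
  intro k
  induction k with
  | zero => intro A _; exact le_rfl
  | succ k ih =>
    intro A _
    have := chain_normal A (k + 2)
    rw [Subgroup.lowerCentralSeries_succ, Subgroup.commutator_comm]
    have hn : ∀ X : Subgroup G, X ≤ Subgroup.normalizer (chain A (k + 2) : Set G) := fun X => by
      rw [Subgroup.normalizer_eq_top]; exact le_top
    refine CfsgLib.Kinf.three_subgroup_mod (hn _) (hn _) (hn _) ?_ ?_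
    · rw [Subgroup.commutator_comm ⊤ A]
      have := chain_normal A 1
      exact (ih (chain A 1)).trans (chain_add A _).le
    · exact Subgroup.commutator_mono (ih A) le_rfl

/-- Let G be a finite p-group and n ≥ 1, and write γ_1(G) = G, γ_{k+1}(G) = [γ_k(G), G], and likewise γ_k(N) for a subgroup N. Let N be a normal subgroup of G contained in γ_n(G). If i > 1 and γ_{i+1}(N) ≠ 1, then |γ_i(N) : γ_{i+1}(N)| ≥ p^n. -/
theorem result {G : Type*} [Group G] [Finite G] {p : ℕ} [Fact p.Prime] (hG : IsPGroup p G) (n : ℕ) (hn : 1 ≤ n) (N : Subgroup G) [N.Normal] (hN : N ≤ (⊤ : Subgroup G).lowerCentralSeries (n - 1)) (i : ℕ) (hi : 1 < i) (hne : N.lowerCentralSeries i ≠ ⊥) : p ^ n ≤ (N.lowerCentralSeries i).relIndex (N.lowerCentralSeries (i - 1)) := by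
  classical
  have hp := (Fact.out : p.Prime)
  obtain ⟨i, rfl⟩ : ∃ m, i = m + 1 := ⟨i - 1, by omega⟩
  obtain ⟨n, rfl⟩ : ∃ m, n = m + 1 := ⟨n - 1, by omega⟩
  simp only [Nat.add_sub_cancel] at hN ⊢
  have hnormal : ∀ j, (N.lowerCentralSeries j).Normal := by
    intro j
    induction j with
    | zero => assumption
    | succ j ih => exact Subgroup.commutator_normal _ _
  set M := N.lowerCentralSeries i with hM
  set K := N.lowerCentralSeries (i + 1) with hK
  have hKM : K ≤ M := Subgroup.lowerCentralSeries_antitone N (Nat.le_succ i)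
  have : M.Normal := hnormal _
  have : K.Normal := hnormal _
  have : Group.IsNilpotent (⊤ : Subgroup G) := (hG.to_subgroup ⊤).isNilpotent
  obtain ⟨s, hs⟩ := (Subgroup.isNilpotent_iff_lowerCentralSeries _).1 this
  by_contra hcon
  rw [not_le] at hcon
  -- a step that does not grow is the last one
  have hstall : ∀ j, chain M j ≤ chain M (j + 1) ⊔ K → chain M j ≤ K := by
    intro j h
    have hstep : ∀ t, chain M j ≤ chain M (j + t) ⊔ K := by
      intro t
      induction t with
      | zero => exact le_sup_left
      | succ t ih =>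
        refine h.trans (sup_le ?_ le_sup_right)
        refine (Subgroup.commutator_mono ih (le_refl ⊤)).trans ?_
        rw [Subgroup.commutator_le]
        intro a ha b _
        have : (chain M (j + t + 1) ⊔ K).Normal := by
          have := chain_normal M (j + t + 1); infer_instance
        rw [Subgroup.mem_sup_of_normal_right] at ha
        · obtain ⟨x, hx, y, hy, rfl⟩ := ha
          have h1 : ⁅x, b⁆ ∈ chain M (j + t + 1) ⊔ K :=
            Subgroup.mem_sup_left (Subgroup.commutator_mem_commutator hx (Subgroup.mem_top b))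
          have h2 : ⁅y, b⁆ ∈ chain M (j + t + 1) ⊔ K :=
            Subgroup.mem_sup_right (Subgroup.commutator_le_left K ⊤
              (Subgroup.commutator_mem_commutator hy (Subgroup.mem_top b)))
          rw [show ⁅x * y, b⁆ = x * ⁅y, b⁆ * x⁻¹ * ⁅x, b⁆ by
            simp only [commutatorElement_def]; group]
          exact mul_mem (this.conj_mem _ h2 x) h1
    refine (hstep s).trans (sup_le ?_ le_rfl)
    refine ((chain_le_lcs M (j + s)).trans ?_).trans bot_le
    exact hs ▸ Subgroup.lowerCentralSeries_antitone ⊤ (Nat.le_add_left s j)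
  have hgrow : ∀ d j, ¬ chain M (j + d) ≤ K → p ^ (d + 1) ≤ K.relIndex (chain M j ⊔ K) := by
    have hlt : ∀ (X Y : Subgroup G), Y < X → p ≤ Y.relIndex X := by
      intro X Y hXY
      obtain ⟨k, hk⟩ := (hG.to_subgroup X).index (Y.subgroupOf X)
      rw [Subgroup.relIndex, hk]
      refine Nat.le_self_pow ?_ p
      rintro rfl
      exact hXY.not_ge (Subgroup.relIndex_eq_one.1 (by rw [Subgroup.relIndex, hk, pow_zero]))
    intro d
    induction d with
    | zero =>
      intro j hj
      rw [pow_one]
      exact hlt _ _ (lt_of_le_of_ne le_sup_right fun h => hj (h.symm ▸ le_sup_left))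
    | succ d ih =>
      intro j hj
      have h1 := ih (j + 1) (by rwa [show j + 1 + d = j + (d + 1) by omega])
      have hle : chain M (j + 1) ⊔ K ≤ chain M j ⊔ K := by
        have := chain_normal M j
        exact sup_le_sup_right (Subgroup.commutator_le_left _ _) _
      have hne : ¬ chain M j ≤ K := fun h => hj (by
        refine le_trans ?_ h
        clear h hle h1 hj ih
        induction d + 1 with
        | zero => exact le_rfl
        | succ e he =>
          have := chain_normal M (j + e)
          exact (Subgroup.commutator_le_left _ _).trans he)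
      have h2 : p ≤ (chain M (j + 1) ⊔ K).relIndex (chain M j ⊔ K) :=
        hlt _ _ (lt_of_le_of_ne hle fun h =>
          hne (hstall j (le_sup_left.trans h.ge)))
      rw [← Subgroup.relIndex_mul_relIndex _ _ _ le_sup_right hle, pow_succ]
      exact Nat.mul_le_mul h1 h2
  have hL : chain M n ≤ K := by
    by_contra h
    have := hgrow n 0 (by rwa [Nat.zero_add])
    rw [show chain M 0 = M from rfl, sup_eq_left.2 hKM] at this
    omega
  have hKK : K ≤ ⁅K, (⊤ : Subgroup G)⁆ :=
    (Subgroup.commutator_mono (le_refl M) hN).trans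
      ((commutator_lcs_le n M).trans (Subgroup.commutator_mono hL le_rfl))
  have hit : ∀ t, K ≤ chain K t := by
    intro t
    induction t with
    | zero => exact le_rfl
    | succ t ih => exact hKK.trans (Subgroup.commutator_mono ih le_rfl)
  exact hne (le_bot_iff.1 ((hit s).trans ((chain_le_lcs K s).trans hs.le)))

end Cfsg.Agent.S3781
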