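import Cfsg.Statements.S3784
import Mathlib

set_option autoImplicit false
open Cfsg

namespace Cfsg.Agent.S3784

theorem odd_factor {x : ℤ} (hx : Odd x) (k : ℕ) :
    (∃ s : ℤ, Odd s ∧ x ^ (2 * k + 1) - 1 = (x - 1) * s) := by
  induction k with
  | zero => exact ⟨1, odd_one, by ring⟩
  | succ k ih =>
    obtain ⟨s, hs, h⟩ := ih
    refine ⟨x ^ 2 * s + (x + 1), ((hx.pow).mul hs).add_even (hx.add_odd odd_one), ?_⟩
    calc x ^ (2 * (k + 1) + 1) - 1 = x ^ 2 * (x ^ (2 * k + 1) - 1) + (x ^ 2 - 1) := by ring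
      _ = _ := by rw [h]; ring

theorem odd_dvd_two_pow {s : ℤ} {n : ℕ} (hs : Odd s) (h : s ∣ 2 ^ n) : s.natAbs = 1 := by
  have h1 : s.natAbs ∣ 2 ^ n := by
    have := Int.natAbs_dvd_natAbs.2 h
    simpa [Int.natAbs_pow] using this
  obtain ⟨k, -, hk⟩ := (Nat.dvd_prime_pow Nat.prime_two).1 h1
  rcases Nat.eq_zero_or_pos k with rfl | hk0
  · simpa using hk
  · exfalso
    have h2 : Odd s.natAbs := Int.natAbs_odd.2 hs
    rw [hk] at h2
    exact (Nat.not_even_iff_odd.2 h2) (Nat.even_pow.2 ⟨even_two, hk0.ne'⟩)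

theorem two_right {p a b : ℕ} (hp : p.Prime) (ha : 2 ≤ a) (hb : 1 ≤ b) (h : p ^ a = 2 ^ b + 1) :
    p ^ a = 9 ∧ 2 ^ b = 8 := by
  have hodd : Odd (p ^ a) := by
    rw [h]
    exact (Nat.even_pow.2 ⟨even_two, by omega⟩).add_one
  have hpo : Odd (p : ℤ) := by exact_mod_cast (Nat.odd_pow_iff (by omega)).1 hodd
  have hp3 : 3 ≤ p := by
    have h1 := hp.two_le
    have h2 := (Nat.odd_pow_iff (by omega)).1 hodd
    rw [Nat.odd_iff] at h2
    omega
  rcases Nat.even_or_odd' a with ⟨c, rfl | rfl⟩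
  · have h1 : (p ^ c - 1) * (p ^ c + 1) = 2 ^ b := by
      have h2 : (p ^ c) ^ 2 = 2 ^ b + 1 := by rw [← pow_mul, mul_comm c 2, h]
      have h3 := Nat.sq_sub_sq (p ^ c) 1
      rw [h2, one_pow, Nat.add_sub_cancel] at h3
      rw [h3, mul_comm]
    obtain ⟨u, -, hu⟩ := (Nat.dvd_prime_pow Nat.prime_two).1 (Dvd.intro _ h1)
    obtain ⟨v, -, hv⟩ := (Nat.dvd_prime_pow Nat.prime_two).1 (Dvd.intro_left _ h1)
    have hc : 3 ≤ p ^ c := hp3.trans (Nat.le_self_pow (by omega) p)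
    have hu1 : u = 1 := by
      rcases u with _ | _ | u
      · simp at hu; omega
      · rfl
      · rcases v with _ | _ | v
        · simp at hv; omega
        · simp at hv; omega
        · simp only [pow_succ] at hu hv; omega
    subst hu1
    have hpc : p ^ c = 3 := by omega
    have h9 : p ^ (2 * c) = 9 := by rw [mul_comm, pow_mul, hpc]; norm_num
    exact ⟨h9, by omega⟩
  · exfalso
    obtain ⟨s, hs, hs'⟩ := odd_factor hpo c
    have h1 : ((p : ℤ) - 1) * s = 2 ^ b := by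
      rw [← hs']
      have : ((p ^ (2 * c + 1) : ℕ) : ℤ) = ((2 ^ b + 1 : ℕ) : ℤ) := by rw [h]
      push_cast at this
      rw [this]; ring
    have h2 := odd_dvd_two_pow hs (Dvd.intro_left _ h1)
    have h3 : (p : ℤ) - 1 = 2 ^ b := by
      have hp1 : (0 : ℤ) < (p : ℤ) - 1 := by omega
      have hs0 : 0 < s := pos_of_mul_pos_right (h1 ▸ by positivity) hp1.le
      obtain rfl : s = 1 := by omega
      simpa using h1
    have h4 : p ^ 1 < p ^ (2 * c + 1) := Nat.pow_lt_pow_right (by omega) (by omega)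
    have : (p : ℤ) = ((2 ^ b + 1 : ℕ) : ℤ) := by push_cast; linarith
    rw [pow_one] at h4
    omega

theorem two_left {q a b : ℕ} (hq : q.Prime) (hb : 1 ≤ b) (h : 2 ^ a = q ^ b + 1) : b = 1 := by
  have hq2 := hq.two_le
  have hqb : 2 ≤ q ^ b := hq2.trans (Nat.le_self_pow (by omega) q)
  have ha : 2 ≤ a := by
    rcases a with _ | _ | a
    · simp at h; omega
    · simp at h; omega
    · omega
  have hodd : Odd (q ^ b) := by
    have : Even (2 ^ a) := Nat.even_pow.2 ⟨even_two, by omega⟩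
    rw [h, Nat.even_add_one, Nat.not_even_iff_odd] at this
    exact this
  have hqo : Odd (q : ℤ) := by exact_mod_cast (Nat.odd_pow_iff (by omega)).1 hodd
  rcases Nat.even_or_odd' b with ⟨c, rfl | rfl⟩
  · exfalso
    have h4 : (4 : ℤ) ∣ (2 : ℤ) ^ a := ⟨2 ^ (a - 2), by rw [show (4 : ℤ) = 2 ^ 2 by norm_num, ← pow_add]; congr 1; omega⟩
    have h5 : (2 : ℤ) ^ a = ((q : ℤ) ^ c) ^ 2 + 1 := by
      rw [← pow_mul, mul_comm c 2]
      exact_mod_cast h
    obtain ⟨m, hm⟩ := hqo.pow (n := c)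
    rw [hm] at h5
    obtain ⟨d, hd⟩ := h4
    rw [hd] at h5
    have : (4 : ℤ) * (d - m ^ 2 - m) = 2 := by linear_combination h5
    omega
  · obtain ⟨s, hs, hs'⟩ := odd_factor hqo.neg c
    have h1 : ((q : ℤ) + 1) * s = 2 ^ a := by
      have : ((2 ^ a : ℕ) : ℤ) = ((q ^ (2 * c + 1) + 1 : ℕ) : ℤ) := by rw [h]
      push_cast at this
      rw [this]
      rw [Odd.neg_pow ⟨c, rfl⟩] at hs'
      linear_combination hs'
    have h2 := odd_dvd_two_pow hs (Dvd.intro_left _ h1)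
    have h3 : (q : ℤ) + 1 = 2 ^ a := by
      have hq0 : (0 : ℤ) ≤ (q : ℤ) + 1 := by omega
      have hs0 : 0 < s := pos_of_mul_pos_right (h1 ▸ (by positivity : (0 : ℤ) < 2 ^ a)) hq0
      obtain rfl : s = 1 := by omega
      simpa using h1
    rcases c with _ | c
    · rfl
    exfalso
    have h4 : q ^ 1 < q ^ (2 * (c + 1) + 1) := Nat.pow_lt_pow_right hq.one_lt (by omega)
    rw [pow_one] at h4
    have : ((q + 1 : ℕ) : ℤ) = ((2 ^ a : ℕ) : ℤ) := by push_cast; linarith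
    omega


/-- Let p, q be primes and a, b positive integers with p^a = q^b + 1. Then either p = 2, b = 1, a is prime and q = 2^a − 1; or q = 2, a = 1, b is a power of 2 and p = 2^b + 1; or p^a = 9 and q^b = 8. -/
theorem result (p q a b : ℕ) (hp : p.Prime) (hq : q.Prime) (ha : 1 ≤ a) (hb : 1 ≤ b) (h : p ^ a = q ^ b + 1) : (p = 2 ∧ b = 1 ∧ a.Prime ∧ q + 1 = 2 ^ a) ∨ (q = 2 ∧ a = 1 ∧ (∃ m : ℕ, b = 2 ^ m) ∧ p = 2 ^ b + 1) ∨ (p ^ a = 9 ∧ q ^ b = 8) := by
  have hpq : p = 2 ∨ q = 2 := by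
    by_contra hc
    push Not at hc
    have h1 : Odd (p ^ a) := (hp.odd_of_ne_two hc.1).pow
    rw [h, Nat.odd_add_one] at h1
    exact h1 (hq.odd_of_ne_two hc.2).pow
  rcases hpq with rfl | rfl
  · obtain rfl := two_left hq hb h
    rw [pow_one] at h
    refine Or.inl ⟨rfl, rfl, ?_, h.symm⟩
    have ha1 : a ≠ 1 := by rintro rfl; simp at h; linarith [hq.two_le]
    have hq' : (2 ^ a - 1).Prime := by rw [h, Nat.add_sub_cancel]; exact hq
    exact (Nat.prime_of_pow_sub_one_prime ha1 hq').2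
  · rcases Nat.lt_or_ge a 2 with ha2 | ha2
    · obtain rfl : a = 1 := by omega
      rw [pow_one] at h
      exact Or.inr (Or.inl ⟨rfl, rfl, Nat.pow_of_pow_add_prime one_lt_two (by omega) (h ▸ hp), h⟩)
    · exact Or.inr (Or.inr (two_right hp ha2 hb h))

end Cfsg.Agent.S3784
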