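import Cfsg.Statements.S3785
import Cfsg.Agent.FGSB.OrderPFix
import Cfsg.Agent.FGSA.Nilpotent
import Cfsg.Agent.Comp.Layer

set_option autoImplicit false
open Cfsg

namespace Cfsg.Agent.S3785

open Subgroup

variable {G : Type*} [Group G] [Finite G]

omit [Finite G] in
theorem mem_of_primePow_parts {S : Subgroup G} {c : G} {p : ℕ} [Fact p.Prime] (hc : c ∈ S) (hfin : 0 < orderOf c) :
    ∃ u ∈ zpowers c, ∃ v ∈ zpowers c, u * v = c ∧ (∃ k, orderOf u = p ^ k) ∧ (orderOf v).Coprime p := by
  set n := orderOf c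
  set x := p ^ n.factorization p with hx
  set y := n / x with hy
  have hxy : x * y = n := Nat.ordProj_mul_ordCompl_eq_self n p
  have hcop : Nat.Coprime x y := (Nat.coprime_ordCompl Fact.out hfin.ne').pow_left _
  refine ⟨(c ^ y) ^ Nat.gcdB x y, zpow_mem (pow_mem (mem_zpowers c) y) _,
    (c ^ x) ^ Nat.gcdA x y, zpow_mem (pow_mem (mem_zpowers c) x) _, ?_, ?_, ?_⟩
  · rw [← zpow_natCast c x, ← zpow_natCast c y, ← zpow_mul, ← zpow_mul, ← zpow_add, add_comm,
      ← Nat.gcd_eq_gcd_ab, hcop.gcd_eq_one, Nat.cast_one, zpow_one]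
  · have h : orderOf ((c ^ y) ^ Nat.gcdB x y) ∣ p ^ n.factorization p := by
      refine orderOf_dvd_of_pow_eq_one ?_
      rw [← zpow_natCast ((c ^ y) ^ _), ← zpow_mul, mul_comm, zpow_mul, zpow_natCast, ← pow_mul,
        ← hx, mul_comm y x, hxy, pow_orderOf_eq_one, one_zpow]
    obtain ⟨k, -, hk⟩ := (Nat.dvd_prime_pow Fact.out).1 h
    exact ⟨k, hk⟩
  · refine Nat.Coprime.coprime_dvd_left (orderOf_dvd_of_pow_eq_one ?_)
      (Nat.coprime_ordCompl Fact.out hfin.ne').symm
    rw [← zpow_natCast ((c ^ x) ^ _), ← zpow_mul, mul_comm, zpow_mul, zpow_natCast, ← pow_mul,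
      hxy, pow_orderOf_eq_one, one_zpow]

theorem nilpotent_of_commute {K : Type*} [Group K] [Finite K]
    (h : ∀ (p q : ℕ) (x y : K), p.Prime → q.Prime → p ≠ q → (∃ i, orderOf x = p ^ i) → (∃ j, orderOf y = q ^ j) → Commute x y) :
    Group.IsNilpotent K := by
  refine ((Group.isNilpotent_of_finite_tfae (G := K)).out 0 3).2 ?_
  intro p _ P
  rw [← normalizer_eq_top_iff, ← index_eq_one]
  by_contra hne
  obtain ⟨q, hq, hqd⟩ := Nat.exists_prime_and_dvd hne
  haveI := Fact.mk hq
  rcases eq_or_ne q p with rfl | hqp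
  · exact P.not_dvd_index (hqd.trans (index_dvd_of_le le_normalizer))
  · obtain ⟨R⟩ := (inferInstance : Nonempty (Sylow q K))
    refine R.not_dvd_index (hqd.trans (index_dvd_of_le fun y hy => ?_))
    refine centralizer_le_normalizer _ (mem_centralizer_iff.2 fun x hx => ?_)
    obtain ⟨i, hi⟩ := IsPGroup.iff_orderOf.1 P.2 ⟨x, hx⟩
    obtain ⟨j, hj⟩ := IsPGroup.iff_orderOf.1 R.2 ⟨y, hy⟩
    rw [← Subgroup.orderOf_coe] at hi hj
    exact (h p q x y Fact.out hq hqp.symm ⟨i, hi⟩ ⟨j, hj⟩).eq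

/-- The subgroup of elements centralizing every element of prime order of `F`. -/
abbrev cent (F : Subgroup G) : Subgroup G := centralizer {x : G | x ∈ F ∧ (orderOf x).Prime}

theorem commute_fitting (hodd : Odd (Nat.card (Cfsg.fittingSubgroup G))) {p : ℕ} [Fact p.Prime] {x t : G}
    (hx : x ∈ cent (Cfsg.fittingSubgroup G)) (hxp : (orderOf x).Coprime p)
    (ht : t ∈ Cfsg.fittingSubgroup G) (htp : ∃ k, orderOf t = p ^ k) : Commute x t := by
  obtain ⟨T, hTF, hT, hmem⟩ := CfsgLib.FGSA.exists_pPart (CfsgLib.Comp.fitting_isNilpotent (G := G)) p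
  by_cases hp2 : p = 2
  · have ht1 : t = 1 := by
      obtain ⟨k, hk⟩ := htp
      rw [← orderOf_eq_one_iff, hk]
      have h1 : p ^ k ∣ Nat.card (Cfsg.fittingSubgroup G) := by
        rw [← hk, ← Subgroup.orderOf_mk t ht]; exact orderOf_dvd_natCard _
      rcases Nat.eq_zero_or_pos k with rfl | h0
      · simp
      · exfalso
        have h2 : 2 ∣ Nat.card (Cfsg.fittingSubgroup G) := hp2 ▸ (dvd_pow_self p h0.ne').trans h1
        exact Nat.not_even_iff_odd.2 hodd (even_iff_two_dvd.2 h2)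
    rw [ht1]; exact Commute.one_right x
  refine CfsgLib.OrderPFix.commute_of_commute_small hT hxp ?_ ?_ t (hmem t ht htp)
  · refine mem_normalizer_iff.2 fun s => ?_
    have hn : ∀ g : G, ∀ s ∈ T, g * s * g⁻¹ ∈ T := fun g s hs => by
      obtain ⟨k, hk⟩ := IsPGroup.iff_orderOf.1 hT ⟨s, hs⟩
      refine hmem _ ((inferInstance : (Cfsg.fittingSubgroup G).Normal).conj_mem s (hTF hs) g) ⟨k, ?_⟩
      rw [show g * s * g⁻¹ = MulAut.conj g s from rfl, MulEquiv.orderOf_eq, ← Subgroup.orderOf_mk s hs, hk]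
    exact ⟨hn x s, fun h => by simpa [mul_assoc] using hn x⁻¹ _ h⟩
  · intro s hs hsm
    rcases hsm with h | ⟨h, -⟩
    · exact (mem_centralizer_iff.1 hx s ⟨hTF hs, h ▸ Fact.out⟩).symm
    · exact absurd h hp2

theorem mem_fitting_of_cent (hG : Group.IsSolvable G) (hodd : Odd (Nat.card (Cfsg.fittingSubgroup G)))
    {g : G} (hg : g ∈ cent (Cfsg.fittingSubgroup G)) : g ∈ Cfsg.fittingSubgroup G := by
  set F := Cfsg.fittingSubgroup G with hF
  set K := cent F
  have hFn : F.Normal := inferInstance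
  have hKn : K.Normal := ⟨fun k hk a => mem_centralizer_iff.2 fun s hs => by
    have h1 := mem_centralizer_iff.1 hk (a⁻¹ * s * a) ⟨by simpa using hFn.conj_mem s hs.1 a⁻¹, by
      rw [show a⁻¹ * s * a = MulAut.conj a⁻¹ s by simp, MulEquiv.orderOf_eq]; exact hs.2⟩
    calc s * (a * k * a⁻¹) = a * ((a⁻¹ * s * a) * k) * a⁻¹ := by group
      _ = _ := by rw [h1]; group⟩
  have hother : ∀ (p : ℕ) [Fact p.Prime] (x : G), x ∈ K → (∃ i, orderOf x = p ^ i) →
      ∀ v ∈ F, (orderOf v).Coprime p → Commute x v := by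
    intro p _ x hx hxp v hv hvp
    refine (mem_centralizer_singleton_iff.1 ((CfsgLib.FGSA.le_of_prime_power_mem
      (A := zpowers v) (M := centralizer {x}) fun r hr a ha hak => ?_) (mem_zpowers v))).symm
    haveI := Fact.mk hr
    refine mem_centralizer_singleton_iff.2 ?_
    obtain ⟨k, hk⟩ := hak
    rcases Nat.eq_zero_or_pos k with rfl | hk0
    · rw [pow_zero, orderOf_eq_one_iff] at hk
      rw [hk, one_mul, mul_one]
    have hrp : r ≠ p := by
      rintro rfl
      have h1 : r ∣ orderOf v := by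
        obtain ⟨m, rfl⟩ := mem_zpowers_iff.1 ha
        exact (dvd_pow_self r hk0.ne').trans (hk ▸ orderOf_dvd_of_mem_zpowers ha)
      exact (Fact.out : r.Prime).ne_one (Nat.eq_one_of_dvd_coprimes hvp h1 dvd_rfl)
    refine (commute_fitting hodd hx ?_ ((zpowers_le.2 hv) ha) ⟨k, hk⟩).eq.symm
    obtain ⟨i, hi⟩ := hxp
    rw [hi]
    exact Nat.Coprime.pow_left i ((Nat.coprime_primes (Fact.out : p.Prime) hr).2 hrp.symm)
  have hK : Group.IsNilpotent K := by
    refine nilpotent_of_commute fun p q x y hp hq hpq ⟨i, hi⟩ ⟨j, hj⟩ => ?_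
    haveI := Fact.mk hp
    haveI := Fact.mk hq
    rw [← Subgroup.orderOf_coe] at hi hj
    set c := (x : G) * y * (x : G)⁻¹ * (y : G)⁻¹ with hc
    have hsolvC : centralizer (F : Set G) ≤ F := by
      refine CfsgLib.Comp.centralizer_fitting_le_iff.2 (eq_bot_iff.2 (CfsgLib.Comp.layer_le fun L hL => ?_))
      exact absurd (inferInstance : Group.IsSolvable L) (CfsgLib.Comp.component_not_solvable hL)
    have hypow : (orderOf (y : G)).Coprime p := by
      rw [hj]; exact Nat.Coprime.pow_left j ((Nat.coprime_primes hq hp).2 hpq.symm)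
    have hcent : c ∈ centralizer (F : Set G) := by
      refine (le_centralizer_iff.1 (CfsgLib.FGSA.le_of_prime_power_mem fun r hr a ha hak =>
        mem_centralizer_iff.2 fun z hz => ?_) : zpowers c ≤ centralizer (F : Set G)) (mem_zpowers c)
      obtain ⟨k, hak⟩ := hak
      obtain ⟨m, rfl⟩ := mem_zpowers_iff.1 hz
      refine (Commute.zpow_left ?_ m).eq
      haveI := Fact.mk hr
      have hconj : ∀ g : G, ∃ k, orderOf (g * a * g⁻¹) = r ^ k := fun g =>
        ⟨k, by rw [show g * a * g⁻¹ = MulAut.conj g a from rfl, MulEquiv.orderOf_eq, hak]⟩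
      by_cases hrp : r = p
      · subst hrp
        have h1 := commute_fitting hodd y.2 hypow ha ⟨k, hak⟩
        have h2 : Commute (y : G) ((x : G)⁻¹ * a * ((x : G)⁻¹)⁻¹) :=
          commute_fitting hodd y.2 hypow (hFn.conj_mem a ha _) (hconj _)
        have h3 : Commute ((x : G) * y * (x : G)⁻¹) a := by
          have h := h2.map (MulAut.conj (x : G)).toMonoidHom
          simpa [mul_assoc] using h
        exact h3.mul_left h1.inv_left
      · have hcop : (orderOf (x : G)).Coprime r := by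
          rw [hi]; exact Nat.Coprime.pow_left i ((Nat.coprime_primes hp hr).2 (fun e => hrp e.symm))
        have h1 := commute_fitting hodd x.2 hcop ha ⟨k, hak⟩
        have h2 : Commute ((x : G)⁻¹) ((y : G)⁻¹ * a * ((y : G)⁻¹)⁻¹) :=
          (commute_fitting hodd x.2 hcop (hFn.conj_mem a ha _) (hconj _)).inv_left
        have h3 : Commute ((y : G) * (x : G)⁻¹ * (y : G)⁻¹) a := by
          have h := h2.map (MulAut.conj (y : G)).toMonoidHom
          simpa [mul_assoc] using h
        have := h1.mul_left h3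
        rwa [show (x : G) * ((y : G) * (x : G)⁻¹ * (y : G)⁻¹) = c by rw [hc]; group] at this
    obtain ⟨u, hu, v, hv, huv, hup, hvp⟩ := mem_of_primePow_parts (p := p) (hsolvC hcent) (orderOf_pos c)
    have huF : u ∈ F := (zpowers_le.2 (hsolvC hcent)) hu
    have huC : u ∈ centralizer (F : Set G) := (zpowers_le.2 hcent) hu
    have hvF : v ∈ F := (zpowers_le.2 (hsolvC hcent)) hv
    have hvC : v ∈ centralizer (F : Set G) := (zpowers_le.2 hcent) hv
    have huy : Commute (y : G) u := commute_fitting hodd y.2 hypow huF hup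
    have huv' : Commute u v := (mem_centralizer_iff.1 huC v hvF).symm
    have hW : ∀ n : ℕ, (v * (y : G)) ^ n * ((y : G) ^ n)⁻¹ ∈ centralizer (F : Set G) ∧
        ((v * (y : G)) ^ n * ((y : G) ^ n)⁻¹) ^ orderOf v = 1 := by
      intro n
      induction n with
      | zero => simp
      | succ n ih =>
        obtain ⟨i1, i2⟩ := ih
        set w := (v * (y : G)) ^ n * ((y : G) ^ n)⁻¹ with hw
        have e : (v * (y : G)) ^ (n + 1) * ((y : G) ^ (n + 1))⁻¹ = v * ((y : G) * w * (y : G)⁻¹) := by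
          rw [pow_succ' (v * (y : G)), pow_succ (y : G), hw]
          rw [mul_inv_rev]
          have : (y : G) ^ n * (y : G) = (y : G) * (y : G) ^ n := (Commute.pow_self _ _).eq
          calc v * (y : G) * (v * (y : G)) ^ n * ((y : G)⁻¹ * ((y : G) ^ n)⁻¹)
              = v * (y : G) * (v * (y : G)) ^ n * (((y : G) ^ n * y)⁻¹) := by group
            _ = v * ((y : G) * ((v * (y : G)) ^ n * ((y : G) ^ n)⁻¹) * (y : G)⁻¹) := by rw [this]; group
        have hn : (centralizer (F : Set G)).Normal := inferInstance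
        have h1 : (y : G) * w * (y : G)⁻¹ ∈ centralizer (F : Set G) := hn.conj_mem w i1 _
        rw [e]
        refine ⟨mul_mem hvC h1, ?_⟩
        have h2 : Commute v ((y : G) * w * (y : G)⁻¹) := (mem_centralizer_iff.1 h1 v hvF)
        rw [h2.mul_pow, pow_orderOf_eq_one, one_mul, conj_pow, i2]
        group
    have huv1 : u = 1 := by
      obtain ⟨hw1, hw2⟩ := hW (orderOf (y : G))
      rw [pow_orderOf_eq_one, inv_one, mul_one] at hw1 hw2
      have huvy : Commute u (v * (y : G)) := huv'.mul_right huy.symm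
      have h1 : (u * (v * (y : G))) ^ orderOf (y : G) = 1 := by
        have h : u * (v * (y : G)) = (x : G) * y * (x : G)⁻¹ := by
          rw [← mul_assoc, huv, hc]; group
        rw [h, conj_pow, pow_orderOf_eq_one]; group
      rw [huvy.mul_pow] at h1
      rw [eq_inv_of_mul_eq_one_right h1, inv_pow, inv_eq_one] at hw2
      rw [← pow_mul] at hw2
      obtain ⟨k, hk⟩ := hup
      rw [← orderOf_eq_one_iff]
      have h3 : (orderOf u).Coprime (orderOf (y : G) * orderOf v) := by
        rw [hk]; exact Nat.Coprime.pow_left k (Nat.Coprime.mul_right hypow.symm hvp.symm)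
      exact Nat.eq_one_of_dvd_coprimes h3 dvd_rfl (orderOf_dvd_of_pow_eq_one hw2)
    rw [huv1, one_mul] at huv
    have hxv : Commute (x : G) c := huv ▸ hother p x x.2 ⟨i, hi⟩ v hvF hvp
    have hc1 : c = 1 := by
      have h : (x : G)⁻¹ * c = (y : G) * (x : G)⁻¹ * (y : G)⁻¹ := by rw [hc]; group
      have h1 : ((x : G)⁻¹ * c) ^ (p ^ i) = 1 := by
        rw [h, conj_pow, inv_pow, ← hi, pow_orderOf_eq_one]; group
      rw [hxv.inv_left.mul_pow, inv_pow, ← hi, pow_orderOf_eq_one, inv_one, one_mul, hi, ← huv] at h1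
      rw [← huv, ← orderOf_eq_one_iff]
      exact Nat.eq_one_of_dvd_coprimes (hvp.pow_right i) dvd_rfl (orderOf_dvd_of_pow_eq_one h1)
    refine Subtype.ext ?_
    show (x : G) * y = y * x
    exact commutatorElement_eq_one_iff_mul_comm.1 hc1
  exact CfsgLib.Comp.le_fitting hKn hK hg

/-- Let G be a finite solvable group whose Fitting subgroup F(G) has odd order. If an element g of G commutes with every element of prime order of F(G), then g ∈ F(G). -/
theorem result {G : Type*} [Group G] [Finite G] (hG : Group.IsSolvable G) (hodd : Odd (Nat.card (Cfsg.fittingSubgroup G))) (g : G) (hg : ∀ x ∈ Cfsg.fittingSubgroup G, (orderOf x).Prime → g * x = x * g) : g ∈ Cfsg.fittingSubgroup G := by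
  exact mem_fitting_of_cent hG hodd (Subgroup.mem_centralizer_iff.2 fun x hx => (hg x hx.1 hx.2).symm)

end Cfsg.Agent.S3785
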