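import Cfsg.Statements.S3786
import Cfsg.Agent.HallHigman.Exponent.Bound

set_option autoImplicit false
open Cfsg

namespace Cfsg.Agent.S3786

/-- The Hall–Higman bound on p-length. Let p be an odd prime and G a finite p-soluble group whose Sylow p-subgroups have exponent dividing p^e. (a) If p is not of the form 2^k + 1, or if the Sylow 2-subgroups of G are abelian, then G has p-length at most e. (b) In every case G has p-length at most 2e. -/
theorem result {G : Type*} [Group G] [Finite G] {p : ℕ} [Fact p.Prime] (hp : p ≠ 2) (hG : Cfsg.IsPSolvable p G) (e : ℕ) (hexp : ∀ (P : Sylow p G), ∀ x ∈ (P : Subgroup G), x ^ p ^ e = 1) : (((¬ ∃ k : ℕ, p = 2 ^ k + 1) ∨ ∀ S : Sylow 2 G, IsMulCommutative (S : Subgroup G)) → Cfsg.PLengthLE p e G) ∧ Cfsg.PLengthLE p (2 * e) G := by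
  have hexp' : ∀ P : Subgroup G, IsPGroup p P → ∀ y ∈ P, y ^ p ^ e = 1 := fun P hP y hy => by
    obtain ⟨S, hS⟩ := hP.exists_le_sylow
    exact hexp S y (hS hy)
  refine ⟨fun hcond => CfsgLib.HHExponent.pLengthLE_of_not_exceptional hp e G hG
    (hcond.imp_right fun hab T hT a ha b hb => ?_) hexp',
    CfsgLib.HHExponent.pLengthLE_two_mul hp e G hG hexp'⟩
  haveI : Fact (Nat.Prime 2) := ⟨Nat.prime_two⟩
  obtain ⟨S, hS⟩ := hT.exists_le_sylow
  exact congrArg Subtype.val ((hab S).is_comm.comm ⟨a, hS ha⟩ ⟨b, hS hb⟩)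

end Cfsg.Agent.S3786
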