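import Cfsg.Statements.S3787
import Cfsg.Agent.HallHigman.Step
-- import your own Cfsg.Agent.* helpers here

set_option autoImplicit false
open Cfsg

namespace Cfsg.Agent.S3787

open Subgroup CfsgLib CfsgLib.HallHigman CfsgLib.FGSA
open scoped IsMulCommutative

universe u

variable {p : ℕ} [Fact p.Prime] {Y : Type u} [Group Y] [Finite Y]

/-- The characteristic of the endomorphisms. -/
theorem charP_end {v : Additive (FRep.quot p Y)} (hv : v ≠ 0) :
    CharP (AddMonoid.End (Additive (FRep.quot p Y))) p := by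
  haveI : Nontrivial (AddMonoid.End (Additive (FRep.quot p Y))) :=
    ⟨⟨0, 1, fun h => hv (DFunLike.congr_fun (F := AddMonoid.End (Additive (FRep.quot p Y))) h v).symm⟩⟩
  refine (CharP.charP_iff_prime_eq_zero Fact.out).2
    (DFunLike.ext (F := AddMonoid.End (Additive (FRep.quot p Y))) _ _ fun w => ?_)
  rw [AddMonoid.End.natCast_apply]
  exact FRep.zmod_smul w

/-- Some element outside the `p`-core acts with a single Jordan block of size `p`. -/
theorem exists_block (hp2 : p ≠ 2) (hnf : ¬ ∃ k : ℕ, p = 2 ^ k + 1) (h0 : Cfsg.pPrimeCore p Y = ⊥)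
    (hs : Cfsg.IsPSolvable p Y) (S : Subgroup Y) (hS : IsPGroup p S) {x : Y} (hxS : x ∈ S)
    (hx : x ∉ FRep.core p Y) (hxp : x ^ p ∈ FRep.core p Y) :
    ∃ v : Additive (FRep.quot p Y), ((FRep.act p Y x - 1) ^ (p - 1)) v ≠ 0 := by
  by_contra hall
  push Not at hall
  have hz : (FRep.act p Y x - 1) ^ (p - 1) = 0 :=
    DFunLike.ext (F := AddMonoid.End (Additive (FRep.quot p Y))) _ _ hall
  obtain ⟨d, f, ρ, -, hρ, hρf⟩ := FRep.exists_rep h0 hs
  set φ := QuotientGroup.mk' (FRep.core p Y) with hφ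
  obtain ⟨q, Q, hq, hqp, hQ, hPQ, hmove⟩ := FRep.exists_moved FRep.core_quotient_eq_bot
    (CfsgLib.PConstrained.isPSolvable_map φ (QuotientGroup.mk'_surjective _) hs) (S.map φ) (hS.map φ)
    (mem_map_of_mem φ hxS) (fun h => hx ((QuotientGroup.eq_one_iff x).1 h))
  have hs' : (ρ (φ x) - 1) ^ (p - 1) = 0 := by
    rw [hφ, QuotientGroup.mk'_apply, hρf, ← map_one f, ← map_sub, ← map_pow, hz, map_zero]
  rcases FRep.bound hp2 ρ hρ hq hqp Q hQ (hPQ (mem_map_of_mem φ hxS))
      (by rw [← map_pow]; exact (QuotientGroup.eq_one_iff _).2 hxp) hmove (p - 1) hs' with h | ⟨-, -, h⟩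
  · have := (Fact.out : p.Prime).two_le
    omega
  · exact hnf h

set_option maxHeartbeats 1600000 in
/-- A Jordan block of size `p` gives a wreath section. -/
theorem exists_wreath {G : Type*} [Group G] (g : G →* Y ⧸ FRep.phi p Y)
    (hg : FRep.quot p Y ≤ g.range) {x : Y} (hxg : (x : Y ⧸ FRep.phi p Y) ∈ g.range)
    (hxp : x ^ p ∈ FRep.core p Y) (v : Additive (FRep.quot p Y))
    (hv : ((FRep.act p Y x - 1) ^ (p - 1)) v ≠ 0) :
    ∃ (W : Type) (_ : Group W) (_ : Finite W), (∃ (B : Subgroup W) (t : W), B.Normal ∧ IsMulCommutative B ∧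
      (∀ b ∈ B, b ^ p = 1) ∧ Nat.card B = p ^ p ∧ orderOf t = p ∧ t ∉ B ∧ Nat.card W = p ^ (p + 1) ∧
      Nat.card ↥(B ⊓ Subgroup.centralizer ({t} : Set W)) = p) ∧ Cfsg.Involves W G := by
  classical
  have hp : p.Prime := Fact.out
  have h2p := hp.two_le
  have hv0 : v ≠ 0 := fun h => hv (by rw [h, map_zero])
  haveI := charP_end hv0
  set θ := FRep.act p Y x with hθ
  set δ : AddMonoid.End (Additive (FRep.quot p Y)) := θ - 1 with hδ
  have hθp : θ ^ p = 1 := by rw [hθ, ← map_pow]; exact FRep.act_eq_one_of_mem hxp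
  have hδp : δ ^ p = 0 := by
    rw [hδ, sub_pow_char_of_commute p (Commute.one_right θ),
      hθp, one_pow, sub_self]
  have hsum : ∑ i ∈ Finset.range p, θ ^ i = δ ^ (p - 1) := by
    have h := CfsgLib.HallHigman.sum_pow_mul_pow (R := AddMonoid.End (Additive (FRep.quot p Y))) p 1
      (Commute.one_right θ)
    simpa [pow_one, hδ] using h
  -- the free module
  let L : (Fin p → ZMod p) →+ Additive (FRep.quot p Y) :=
    AddMonoidHom.mk' (fun c => ∑ i : Fin p, c i • (δ ^ (i : ℕ)) v) fun c c' => by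
      simp only [Pi.add_apply, add_smul, Finset.sum_add_distrib]
  have hLδ : ∀ (j : ℕ) (c : Fin p → ZMod p), (δ ^ j) (L c) = ∑ i : Fin p, c i • (δ ^ (j + (i : ℕ))) v := by
    intro j c
    show (δ ^ j) (∑ i : Fin p, c i • (δ ^ (i : ℕ)) v) = _
    rw [map_sum]
    refine Finset.sum_congr rfl fun i _ => ?_
    rw [ZMod.map_smul, pow_add]
    rfl
  have hzero : ∀ m, p ≤ m → (δ ^ m) v = 0 := fun m hm => by
    rw [pow_eq_zero_of_le hm hδp]; rfl
  have hlead : ∀ (c : Fin p → ZMod p) (i : Fin p), (∀ j < i, c j = 0) →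
      (δ ^ (p - 1 - (i : ℕ))) (L c) = c i • (δ ^ (p - 1)) v := by
    intro c i hlt
    have hi := i.2
    rw [hLδ, Finset.sum_eq_single i]
    · rw [show p - 1 - (i : ℕ) + i = p - 1 by omega]
    · intro j _ hji
      rcases lt_or_gt_of_ne hji with h | h
      · rw [hlt j h, zero_smul]
      · rw [hzero _ (by have := Fin.lt_def.1 h; omega), smul_zero]
    · simp
  have hLinj : Function.Injective L := by
    refine (injective_iff_map_eq_zero L).2 fun c hc => ?_
    by_contra hne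
    obtain ⟨i, hi⟩ := Function.ne_iff.1 hne
    set s := Finset.univ.filter fun j => c j ≠ 0
    have hsne : s.Nonempty := ⟨i, by simpa [s] using hi⟩
    have hmin : c (s.min' hsne) ≠ 0 := (Finset.mem_filter.1 (Finset.min'_mem s hsne)).2
    have h := hlead c (s.min' hsne) fun j hj => by
      by_contra h
      exact absurd (Finset.min'_le s j (Finset.mem_filter.2 ⟨Finset.mem_univ _, h⟩)) (not_le.2 hj)
    rw [hc, map_zero] at h
    exact hv ((smul_eq_zero.1 h.symm).resolve_left hmin)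
  let ι : Multiplicative (Fin p → ZMod p) →* Y ⧸ FRep.phi p Y :=
    (FRep.quot p Y).subtype.comp (AddMonoidHom.toMultiplicativeLeft L)
  set A := ι.range with hA
  have hι : ∀ c, ι (Multiplicative.ofAdd c) = ((Additive.toMul (L c) : FRep.quot p Y) : Y ⧸ FRep.phi p Y) :=
    fun c => rfl
  have hAq : A ≤ FRep.quot p Y := by
    rintro _ ⟨c, rfl⟩
    exact (Additive.toMul (L (Multiplicative.toAdd c)) : FRep.quot p Y).2
  have hcardA : Nat.card A = p ^ p := by
    have hinj : Function.Injective ι := fun a b h => hLinj (Subtype.val_injective h :)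
    rw [hA, ← Nat.card_congr (MonoidHom.ofInjective hinj).toEquiv]
    show Nat.card (Fin p → ZMod p) = p ^ p
    simp [Nat.card_fun]
  set α : Y ⧸ FRep.phi p Y := (x : Y ⧸ FRep.phi p Y) with hα
  -- conjugation by `α`
  have hact : ∀ m : Additive (FRep.quot p Y), ((Additive.toMul (θ m) : FRep.quot p Y) : Y ⧸ FRep.phi p Y) =
      α * (Additive.toMul m : FRep.quot p Y) * α⁻¹ := fun m => FRep.act_apply x m
  have hshift : ∀ c, ∃ c', θ (L c) = L c' := by
    intro c
    refine ⟨c + (fun i : Fin p => if h : 0 < (i : ℕ) then c ⟨(i : ℕ) - 1, by omega⟩ else 0), ?_⟩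
    rw [show θ = δ + 1 by rw [hδ, sub_add_cancel], map_add, add_comm (L c)]
    show δ (L c) + L c = _
    congr 1
    have h := hLδ 1 c
    rw [pow_one] at h
    rw [h]
    show _ = ∑ i : Fin p, (if h : 0 < (i : ℕ) then c ⟨(i : ℕ) - 1, _⟩ else 0) • (δ ^ (i : ℕ)) v
    let F : ℕ → Additive (FRep.quot p Y) := fun k => if h : k < p then c ⟨k, h⟩ • (δ ^ (k + 1)) v else 0
    let F' : ℕ → Additive (FRep.quot p Y) := fun k =>
      if h : 0 < k ∧ k < p then c ⟨k - 1, by omega⟩ • (δ ^ k) v else 0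
    have e1 : ∑ i : Fin p, c i • (δ ^ (1 + (i : ℕ))) v = ∑ k ∈ Finset.range (p - 1), F k := by
      rw [← Finset.sum_range_succ_sub_top F, show p - 1 + 1 = p by omega, ← Fin.sum_univ_eq_sum_range]
      have hlast : F (p - 1) = 0 := by
        simp only [F, show p - 1 < p by omega, dif_pos, show p - 1 + 1 = p by omega, hzero p le_rfl, smul_zero]
      rw [hlast, sub_zero]
      exact Finset.sum_congr rfl fun i _ => by simp only [F, i.2, dif_pos, add_comm 1]
    have e2 : ∑ i : Fin p, (if h : 0 < (i : ℕ) then c ⟨(i : ℕ) - 1, by omega⟩ else 0) • (δ ^ (i : ℕ)) v =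
        ∑ k ∈ Finset.range (p - 1), F' (k + 1) := by
      rw [show (∑ k ∈ Finset.range (p - 1), F' (k + 1)) = ∑ k ∈ Finset.range p, F' k by
        have hp1 : Finset.range p = Finset.range (p - 1 + 1) := by
          rw [Nat.sub_add_cancel (by omega : 1 ≤ p)]
        conv_rhs => rw [hp1, Finset.sum_range_succ']
        simp [F'], ← Fin.sum_univ_eq_sum_range]
      refine Finset.sum_congr rfl fun i _ => ?_
      by_cases h : 0 < (i : ℕ)
      · simp only [F', dif_pos h, dif_pos (And.intro h i.2)]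
      · simp only [F', dif_neg h, dif_neg (fun hh : _ ∧ _ => h hh.1), zero_smul]
    rw [e1, e2]
    refine Finset.sum_congr rfl fun k hk => ?_
    rw [Finset.mem_range] at hk
    simp [F, F', show k < p by omega, show k + 1 < p by omega]
  have hαA : ∀ m ∈ A, α * m * α⁻¹ ∈ A := by
    rintro _ ⟨c, rfl⟩
    obtain ⟨c', hc'⟩ := hshift (Multiplicative.toAdd c)
    refine ⟨Multiplicative.ofAdd c', ?_⟩
    rw [hι, ← hc', hact]
    rfl
  -- adjusting the element
  have hb : α ^ p ∈ FRep.quot p Y := ⟨x ^ p, hxp, by simp [hα]⟩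
  obtain ⟨t, m₀, hm₀A, rfl, htp⟩ : ∃ t m₀, m₀ ∈ A ∧ t = m₀ * α ∧ (t ^ p ∈ A → t ^ p = 1) := by
    by_cases hbA : α ^ p ∈ A
    swap
    · exact ⟨α, 1, one_mem A, (one_mul α).symm, fun h => absurd h hbA⟩
    obtain ⟨c, hc⟩ := hbA
    set c₀ : Fin p → ZMod p := Multiplicative.toAdd c
    have hfix : δ (L c₀) = 0 := by
      apply Additive.toMul.injective
      refine Subtype.ext ?_
      have h1 : ((Additive.toMul (L c₀) : FRep.quot p Y) : Y ⧸ FRep.phi p Y) = α ^ p := hc
      rw [show δ (L c₀) = θ (L c₀) - L c₀ from rfl, toMul_sub, div_eq_mul_inv, Subgroup.coe_mul,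
        Subgroup.coe_inv, hact, h1]
      simp [← pow_succ', pow_succ]
    set last : Fin p := ⟨p - 1, by omega⟩
    have honly : L c₀ = c₀ last • (δ ^ (p - 1)) v := by
      have hz' : ∀ j : Fin p, j < last → c₀ j = 0 := by
        by_contra hne
        push Not at hne
        obtain ⟨j, hj, hjne⟩ := hne
        set s := Finset.univ.filter fun j => c₀ j ≠ 0
        have hsne : s.Nonempty := ⟨j, by simpa [s] using hjne⟩
        have hle : s.min' hsne ≤ j := Finset.min'_le s j (Finset.mem_filter.2 ⟨Finset.mem_univ _, hjne⟩)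
        have h := hlead c₀ (s.min' hsne) fun i hi => by
          by_contra h
          exact absurd (Finset.min'_le s i (Finset.mem_filter.2 ⟨Finset.mem_univ _, h⟩)) (not_le.2 hi)
        have hlt : ((s.min' hsne : Fin p) : ℕ) < p - 1 := lt_of_le_of_lt (Fin.le_def.1 hle) (Fin.lt_def.1 hj)
        have hk : ∀ k : ℕ, (δ ^ (k + 1)) (L c₀) = 0 := fun k => by
          rw [pow_succ]; show (δ ^ k) (δ (L c₀)) = 0; rw [hfix, map_zero]
        rw [show p - 1 - ((s.min' hsne : Fin p) : ℕ) = (p - 2 - ((s.min' hsne : Fin p) : ℕ)) + 1 by omega,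
          hk] at h
        exact (Finset.mem_filter.1 (Finset.min'_mem s hsne)).2 ((smul_eq_zero.1 h.symm).resolve_right hv)
      have h := hlead c₀ last hz'
      simpa [last] using h
    set m := L (Pi.single (⟨0, by omega⟩ : Fin p) (- c₀ last) : Fin p → ZMod p) with hm
    have hm1 : m = (- c₀ last) • v := by
      rw [hm]
      show ∑ i : Fin p, (Pi.single (⟨0, by omega⟩ : Fin p) (-c₀ last) : Fin p → ZMod p) i • (δ ^ (i : ℕ)) v = _
      rw [Finset.sum_eq_single (⟨0, by omega⟩ : Fin p)]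
      · rw [Pi.single_eq_same, pow_zero]; rfl
      · intro i _ hi; rw [Pi.single_eq_of_ne hi, zero_smul]
      · exact fun h => absurd (Finset.mem_univ _) h
    refine ⟨(Additive.toMul m : FRep.quot p Y) * α, _,
      ⟨Multiplicative.ofAdd (Pi.single (⟨0, by omega⟩ : Fin p) (- c₀ last) : Fin p → ZMod p), by rw [hι]⟩, rfl, fun _ => ?_⟩
    have hnorm : ∀ k : ℕ, (((Additive.toMul m : FRep.quot p Y) : Y ⧸ FRep.phi p Y) * α) ^ k =
        ((Additive.toMul (∑ i ∈ Finset.range k, (θ ^ i) m) : FRep.quot p Y) : Y ⧸ FRep.phi p Y) * α ^ k := by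
      intro k
      induction k with
      | zero => simp
      | succ k ih =>
        rw [Finset.sum_range_succ', toMul_add, Subgroup.coe_mul, pow_succ', ih, pow_succ' α k]
        have e : ∑ i ∈ Finset.range k, (θ ^ (i + 1)) m = θ (∑ i ∈ Finset.range k, (θ ^ i) m) := by
          rw [map_sum]
          exact Finset.sum_congr rfl fun i _ => by rw [pow_succ']; rfl
        rw [e, hact, pow_zero]
        rw [FRep.quot_comm p Y ((FRep.quot_normal p Y).conj_mem _ (SetLike.coe_mem _) α) (SetLike.coe_mem _)]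
        show ((Additive.toMul m : FRep.quot p Y) : Y ⧸ FRep.phi p Y) * α * (_ * α ^ k) =
          ((Additive.toMul m : FRep.quot p Y) : Y ⧸ FRep.phi p Y) * _ * _
        group
    rw [hnorm p]
    have e : ∑ i ∈ Finset.range p, (θ ^ i) m = (δ ^ (p - 1)) m := by
      rw [← hsum]
      exact (AddMonoidHom.finsetSum_apply _ _ m).symm
    have h1 : ((Additive.toMul (L c₀) : FRep.quot p Y) : Y ⧸ FRep.phi p Y) = α ^ p := hc
    rw [e, ← h1, ← Subgroup.coe_mul, ← toMul_add, hm1, ZMod.map_smul, honly, ← add_smul, neg_add_cancel,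
      zero_smul, toMul_zero, Subgroup.coe_one]
  set t := m₀ * α with ht
  have hm₀q := hAq hm₀A
  have hconj : ∀ m ∈ FRep.quot p Y, t * m * t⁻¹ = α * m * α⁻¹ := by
    intro m hm
    have h := (FRep.quot_normal p Y).conj_mem m hm α
    rw [ht, show m₀ * α * m * (m₀ * α)⁻¹ = m₀ * (α * m * α⁻¹) * m₀⁻¹ by group,
      FRep.quot_comm p Y hm₀q h, mul_inv_cancel_right]
  have htpq : t ^ p ∈ FRep.quot p Y := by
    set π := QuotientGroup.mk' (FRep.quot p Y)
    refine (QuotientGroup.eq_one_iff _).1 ?_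
    show π (t ^ p) = 1
    rw [map_pow, ht, map_mul, show π m₀ = 1 from (QuotientGroup.eq_one_iff _).2 hm₀q, one_mul, ← map_pow]
    exact (QuotientGroup.eq_one_iff _).2 hb
  set K₀ := A ⊔ zpowers t with hK₀
  set R := zpowers (t ^ p) with hR
  have hRq : R ≤ FRep.quot p Y := zpowers_le.2 htpq
  have hRcomm : ∀ r ∈ R, ∀ k ∈ K₀, k * r = r * k := by
    intro r hr k hk
    have hle : K₀ ≤ centralizer ({r} : Set (Y ⧸ FRep.phi p Y)) := by
      refine sup_le (fun m hm => mem_centralizer_singleton_iff.2 (FRep.quot_comm p Y (hAq hm) (hRq hr))) ?_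
      refine zpowers_le.2 (mem_centralizer_singleton_iff.2 ?_)
      obtain ⟨i, rfl⟩ := hr
      exact ((Commute.self_pow t p).zpow_right i).eq
    exact mem_centralizer_singleton_iff.1 (hle hk)
  haveI : (R.subgroupOf K₀).Normal := ⟨fun r hr k => by
    show (k * r * k⁻¹ : K₀).1 ∈ R
    show (k : Y ⧸ FRep.phi p Y) * (r : Y ⧸ FRep.phi p Y) * (k : Y ⧸ FRep.phi p Y)⁻¹ ∈ R
    rw [hRcomm (r : Y ⧸ FRep.phi p Y) (Subgroup.mem_subgroupOf.1 hr) k k.2, mul_inv_cancel_right]
    exact hr⟩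
  have hRA : ∀ r ∈ R, r ∈ A → r = 1 := by
    intro r hr hrA
    by_cases h1 : t ^ p = 1
    · rw [hR, h1, zpowers_one_eq_bot, mem_bot] at hr; exact hr
    · by_contra hr1
      haveI : Fact p.Prime := ‹_›
      have hord : orderOf (t ^ p) = p := orderOf_eq_prime (FRep.quot_pow p Y htpq) h1
      have hRc : Nat.card R = p := by rw [hR, Nat.card_zpowers, hord]
      have hr' : zpowers r = R := eq_of_le_of_card_ge (zpowers_le.2 hr) (by
        rw [hRc, Nat.card_zpowers, orderOf_eq_prime (FRep.quot_pow p Y (hRq hr)) hr1])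
      exact h1 (htp ((zpowers_le.2 hrA) (hr'.ge (mem_zpowers _))))
  set W₀ := K₀ ⧸ R.subgroupOf K₀
  set π := QuotientGroup.mk' (R.subgroupOf K₀)
  set t₀ : W₀ := π ⟨t, mem_sup_right (mem_zpowers t)⟩ with ht₀
  let ιB : A →* W₀ := π.comp (Subgroup.inclusion le_sup_left)
  set B₀ := ιB.range with hB₀
  have hιB : Function.Injective ιB := (injective_iff_map_eq_one _).2 fun m hm =>
    Subtype.ext (hRA m ((QuotientGroup.eq_one_iff _).1 hm :) m.2)
  have hB₀c : Nat.card B₀ = p ^ p := by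
    rw [hB₀, ← Nat.card_congr (MonoidHom.ofInjective hιB).toEquiv, hcardA]
  have hB₀n : B₀.Normal := by
    rw [← normalizer_eq_top_iff, eq_top_iff]
    rintro w -
    obtain ⟨⟨k, hk⟩, rfl⟩ := QuotientGroup.mk'_surjective _ w
    have hle : K₀ ≤ normalizer (A : Set (Y ⧸ FRep.phi p Y)) := by
      refine sup_le le_normalizer (zpowers_le.2 ?_)
      rw [Subgroup.mem_normalizer_iff_map_conj_eq]
      refine eq_of_le_of_card_ge ?_ (card_map_of_injective (MulEquiv.injective _)).ge
      rintro _ ⟨m, hm, rfl⟩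
      show t * m * t⁻¹ ∈ A
      rw [hconj m (hAq hm)]
      exact hαA m hm
    have hk' : ∀ k', k' ∈ K₀ → ∀ b ∈ B₀, ∀ hk' : k' ∈ K₀,
        π ⟨k', hk'⟩ * b * (π ⟨k', hk'⟩)⁻¹ ∈ B₀ := by
      rintro k' hk'' _ ⟨m, rfl⟩ hk'
      exact ⟨⟨k' * m * k'⁻¹, (mem_normalizer_iff.1 (hle hk') m).1 m.2⟩, rfl⟩
    refine mem_normalizer_iff.2 fun b => ⟨fun hb' => hk' k hk b hb' hk, fun hb' => ?_⟩
    have h := hk' k⁻¹ (inv_mem hk) _ hb' (inv_mem hk)
    rw [show (⟨k⁻¹, inv_mem hk⟩ : K₀) = (⟨k, hk⟩ : K₀)⁻¹ from rfl, map_inv] at h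
    rw [show b = (π ⟨k, hk⟩)⁻¹ * (π ⟨k, hk⟩ * b * (π ⟨k, hk⟩)⁻¹) * ((π ⟨k, hk⟩)⁻¹)⁻¹ by group]
    exact h
  have htB : t₀ ∉ B₀ := by
    rintro ⟨m, hm⟩
    have h := QuotientGroup.eq.1 hm
    rw [Subgroup.mem_subgroupOf] at h
    have htq : t ∈ FRep.quot p Y := by
      have := mul_mem (hAq m.2) (hRq h)
      simpa using this
    have hαq : α ∈ FRep.quot p Y := by
      have := mul_mem (inv_mem hm₀q) htq
      rwa [ht, inv_mul_cancel_left] at this
    have hθ1 : θ = 1 := by
      refine DFunLike.ext (F := AddMonoid.End (Additive (FRep.quot p Y))) _ _ fun w =>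
        Additive.toMul.injective (Subtype.ext ?_)
      rw [hact, FRep.quot_comm p Y hαq (Additive.toMul w : FRep.quot p Y).2, mul_inv_cancel_right]
      rfl
    exact hv (by rw [hδ, hθ1, sub_self, zero_pow (by omega : p - 1 ≠ 0)]; rfl)
  have ht₀p : t₀ ^ p = 1 := by
    rw [ht₀, ← map_pow]
    exact (QuotientGroup.eq_one_iff _).2 (Subgroup.mem_subgroupOf.2 (mem_zpowers _))
  have ht₀o : orderOf t₀ = p := orderOf_eq_prime ht₀p fun h => htB (h ▸ one_mem B₀)
  haveI := hB₀n
  have hW : Nat.card W₀ = p ^ (p + 1) := by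
    have hgen : ∀ w : W₀ ⧸ B₀, w ∈ zpowers (t₀ : W₀ ⧸ B₀) := by
      intro w
      obtain ⟨w, rfl⟩ := QuotientGroup.mk'_surjective B₀ w
      obtain ⟨⟨k, hk⟩, rfl⟩ := QuotientGroup.mk'_surjective _ w
      have hle : K₀ ≤ ((zpowers (t₀ : W₀ ⧸ B₀)).comap ((QuotientGroup.mk' B₀).comp π)).map K₀.subtype := by
        refine sup_le (fun m hm => ⟨⟨m, mem_sup_left hm⟩, ?_, rfl⟩)
          (zpowers_le.2 ⟨⟨t, mem_sup_right (mem_zpowers t)⟩, mem_zpowers _, rfl⟩)
        have h : ((QuotientGroup.mk' B₀).comp π) ⟨m, mem_sup_left hm⟩ = 1 :=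
          (QuotientGroup.eq_one_iff _).2 ⟨⟨m, hm⟩, rfl⟩
        rw [SetLike.mem_coe, mem_comap, h]
        exact one_mem _
      obtain ⟨⟨k', hk'⟩, hk'', rfl⟩ := hle hk
      exact hk''
    have hord : orderOf (t₀ : W₀ ⧸ B₀) = p :=
      orderOf_eq_prime (by rw [← QuotientGroup.mk_pow, ht₀p, QuotientGroup.mk_one])
        fun h => htB ((QuotientGroup.eq_one_iff _).1 h)
    rw [Subgroup.card_eq_card_quotient_mul_card_subgroup B₀, hB₀c,
      ← orderOf_eq_card_of_forall_mem_zpowers hgen, hord, pow_succ']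
  have hcent : Nat.card ↥(B₀ ⊓ centralizer ({t₀} : Set W₀)) = p := by
    set last : Fin p := ⟨p - 1, by omega⟩
    set wA : A := ⟨ι (Multiplicative.ofAdd (Pi.single last 1)), _, rfl⟩
    have hLlast : ∀ r : ZMod p, L (Pi.single last r) = r • (δ ^ (p - 1)) v := by
      intro r
      show ∑ i : Fin p, (Pi.single last r : Fin p → ZMod p) i • (δ ^ (i : ℕ)) v = _
      rw [Finset.sum_eq_single last]
      · rw [Pi.single_eq_same]
      · intro i _ hi; rw [Pi.single_eq_of_ne hi, zero_smul]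
      · exact fun h => absurd (Finset.mem_univ _) h
    have hconjB : ∀ m : A, (ιB m * t₀ = t₀ * ιB m) ↔ α * (m : Y ⧸ FRep.phi p Y) * α⁻¹ = m := by
      intro m
      constructor
      · intro h
        have h' : π (⟨(m : Y ⧸ FRep.phi p Y), mem_sup_left m.2⟩ * ⟨t, mem_sup_right (mem_zpowers t)⟩) =
            π (⟨t, mem_sup_right (mem_zpowers t)⟩ * ⟨(m : Y ⧸ FRep.phi p Y), mem_sup_left m.2⟩) := by
          rw [map_mul, map_mul]; exact h
        have h1 := QuotientGroup.eq.1 h'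
        rw [Subgroup.mem_subgroupOf] at h1
        have e : t * (m : Y ⧸ FRep.phi p Y) * t⁻¹ = α * m * α⁻¹ := hconj _ (hAq m.2)
        have h2 : ((m : Y ⧸ FRep.phi p Y) * t)⁻¹ * (t * m) ∈ R := h1
        have h3 : ((m : Y ⧸ FRep.phi p Y))⁻¹ * (α * m * α⁻¹) ∈ R := by
          have h4 := hRcomm _ h2 t (mem_sup_right (mem_zpowers t))
          have e2 : (m : Y ⧸ FRep.phi p Y)⁻¹ * (t * m * t⁻¹) =
              t * (((m : Y ⧸ FRep.phi p Y) * t)⁻¹ * (t * m)) * t⁻¹ := by group
          rw [← e, e2, h4, mul_inv_cancel_right]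
          exact h2
        exact (inv_mul_eq_one.1 (hRA _ h3 (mul_mem (inv_mem m.2) (hαA _ m.2)))).symm
      · intro h
        show π _ * π _ = π _ * π _
        rw [← map_mul, ← map_mul]
        refine congrArg π (Subtype.ext ?_)
        show (m : Y ⧸ FRep.phi p Y) * t = t * m
        have e := hconj _ (hAq m.2)
        rw [h] at e
        exact (mul_inv_eq_iff_eq_mul.1 e).symm
    have heq : B₀ ⊓ centralizer ({t₀} : Set W₀) = zpowers (ιB wA) := by
      refine le_antisymm ?_ (zpowers_le.2 ⟨⟨_, rfl⟩, mem_centralizer_singleton_iff.2 ?_⟩)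
      · rintro _ ⟨⟨m, rfl⟩, hm⟩
        have hm' := (hconjB m).1 (mem_centralizer_singleton_iff.1 hm)
        obtain ⟨c, hc⟩ := m.2
        have hfix : θ (L (Multiplicative.toAdd c)) = L (Multiplicative.toAdd c) :=
          Additive.toMul.injective (Subtype.ext (by
            rw [hact]
            rw [← hc] at hm'
            exact hm'))
        have hδ0 : δ (L (Multiplicative.toAdd c)) = 0 := sub_eq_zero.2 hfix
        have hc' : c = Multiplicative.ofAdd (Pi.single last 1) ^ (Multiplicative.toAdd c last).val := by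
          apply Multiplicative.toAdd.injective
          rw [toAdd_pow, toAdd_ofAdd]
          funext i
          rw [Pi.smul_apply]
          by_cases hi : i = last
          · subst hi
            simp
          · rw [Pi.single_eq_of_ne hi, smul_zero]
            by_contra hne
            set s := Finset.univ.filter fun j => Multiplicative.toAdd c j ≠ 0
            have hsne : s.Nonempty := ⟨i, by simpa [s] using hne⟩
            have hle := Finset.min'_le s i (Finset.mem_filter.2 ⟨Finset.mem_univ _, hne⟩)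
            have h := hlead (Multiplicative.toAdd c) (s.min' hsne) fun j hj => by
              by_contra h
              exact absurd (Finset.min'_le s j (Finset.mem_filter.2 ⟨Finset.mem_univ _, h⟩)) (not_le.2 hj)
            have hlt : ((s.min' hsne : Fin p) : ℕ) < p - 1 := by
              have h5 := i.2
              have h6 : (i : ℕ) ≠ p - 1 := fun h' => hi (Fin.ext h')
              have h7 := Fin.le_def.1 hle
              omega
            have hk : ∀ k : ℕ, (δ ^ (k + 1)) (L (Multiplicative.toAdd c)) = 0 := fun k => by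
              rw [pow_succ]; show (δ ^ k) (δ (L (Multiplicative.toAdd c))) = 0; rw [hδ0, map_zero]
            rw [show p - 1 - ((s.min' hsne : Fin p) : ℕ) = (p - 2 - ((s.min' hsne : Fin p) : ℕ)) + 1 by omega,
              hk] at h
            exact (Finset.mem_filter.1 (Finset.min'_mem s hsne)).2 ((smul_eq_zero.1 h.symm).resolve_right hv)
        refine ⟨(Multiplicative.toAdd c last).val, ?_⟩
        show ιB wA ^ ((Multiplicative.toAdd c last).val : ℤ) = ιB m
        rw [zpow_natCast, ← map_pow]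
        refine congrArg ιB (Subtype.ext ?_)
        rw [Subgroup.coe_pow, ← map_pow, ← hc', hc]
      · refine (hconjB wA).2 ?_
        have h0 : δ ((δ ^ (p - 1)) v) = 0 := by
          have h := hzero (p - 1 + 1) (by omega)
          rwa [pow_succ'] at h
        have h1 : θ (L (Pi.single last 1)) = L (Pi.single last 1) := by
          rw [hLlast, one_smul]
          exact sub_eq_zero.1 h0
        show α * (ι (Multiplicative.ofAdd (Pi.single last 1))) * α⁻¹ = ι (Multiplicative.ofAdd (Pi.single last 1))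
        rw [hι, ← hact, h1]
    rw [heq, Nat.card_zpowers, orderOf_injective ιB hιB]
    refine orderOf_eq_prime (Subtype.ext (FRep.quot_pow p Y (hAq wA.2))) fun h => hv ?_
    have h' := congrArg Subtype.val h
    have : L (Pi.single last 1) = 0 := Additive.toMul.injective (Subtype.ext h')
    rwa [hLlast, one_smul] at this
  -- a small copy
  let e := (Shrink.mulEquiv : Shrink.{0} W₀ ≃* W₀).symm
  refine ⟨Shrink.{0} W₀, inferInstance, Finite.of_equiv W₀ e.toEquiv,
    ⟨B₀.map e.toMonoidHom, e t₀, hB₀n.map _ e.surjective, ⟨⟨?_⟩⟩, ?_, ?_, ?_, ?_, ?_, ?_⟩, ?_⟩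
  · rintro ⟨_, _, ⟨m, rfl⟩, rfl⟩ ⟨_, _, ⟨m', rfl⟩, rfl⟩
    refine Subtype.ext ?_
    show e (ιB m) * e (ιB m') = e (ιB m') * e (ιB m)
    rw [← map_mul, ← map_mul, ← map_mul, ← map_mul]
    congr 2
    exact Subtype.ext (FRep.quot_comm p Y (hAq m.2) (hAq m'.2))
  · rintro _ ⟨_, ⟨m, rfl⟩, rfl⟩
    show e (ιB m) ^ p = 1
    rw [← map_pow, ← map_pow, show m ^ p = 1 from Subtype.ext (FRep.quot_pow p Y (hAq m.2)), map_one, map_one]
  · rw [card_map_of_injective e.injective, hB₀c]
  · rw [MulEquiv.orderOf_eq, ht₀o]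
  · exact fun h => htB ((mem_map_iff_mem e.injective).1 h)
  · rw [← Nat.card_congr e.toEquiv, hW]
  · refine Eq.trans ?_ hcent
    rw [← card_map_of_injective (K := B₀ ⊓ centralizer ({t₀} : Set W₀)) (f := e.toMonoidHom) e.injective]
    refine congrArg (fun H : Subgroup (Shrink.{0} W₀) => Nat.card H) ?_
    rw [Subgroup.map_inf _ _ _ e.injective]
    congr 1
    ext w
    obtain ⟨w, rfl⟩ := e.surjective w
    show e w ∈ centralizer ({e t₀} : Set _) ↔ e.toMonoidHom w ∈ (centralizer ({t₀} : Set W₀)).map e.toMonoidHom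
    rw [mem_map_iff_mem (f := e.toMonoidHom) e.injective, mem_centralizer_singleton_iff,
      mem_centralizer_singleton_iff, ← map_mul, ← map_mul, e.injective.eq_iff]
  · have hK₀ : K₀ ≤ g.range := by
      refine sup_le (hAq.trans hg) (zpowers_le.2 ?_)
      exact mul_mem (hg hm₀q) hxg
    let gK : K₀.comap g →* K₀ := (g.comp (K₀.comap g).subtype).codRestrict K₀ fun y => y.2
    refine ZJ.involves_of_surjective (K₀.comap g) ((e.toMonoidHom.comp π).comp gK) ?_
    refine (e.surjective.comp (QuotientGroup.mk'_surjective _)).comp fun k => ?_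
    obtain ⟨y, hy⟩ := hK₀ k.2
    exact ⟨⟨y, mem_comap.2 (hy ▸ k.2)⟩, Subtype.ext hy⟩

/-- Let G be a finite p-soluble group, p an odd prime not of the form 2^k + 1, and suppose the wreath product C_p ≀ C_p (of order p^(p+1)) is not involved in a Sylow p-subgroup of G: no section of a Sylow p-subgroup is isomorphic to it. Then G has p-length at most 1. -/
theorem result {G : Type*} [Group G] [Finite G] {p : ℕ} [Fact p.Prime] (hp2 : p ≠ 2) (hnf : (¬ ∃ k : ℕ, p = 2 ^ k + 1)) (hG : Cfsg.IsPSolvable p G) (P : Sylow p G) (hwr : ∀ (W : Type) [Group W] [Finite W], (∃ (B : Subgroup W) (t : W), B.Normal ∧ IsMulCommutative B ∧ (∀ b ∈ B, b ^ p = 1) ∧ Nat.card B = p ^ p ∧ orderOf t = p ∧ t ∉ B ∧ Nat.card W = p ^ (p + 1) ∧ Nat.card ↥(B ⊓ Subgroup.centralizer ({t} : Set W)) = p) → ¬ Cfsg.Involves W ↥(P : Subgroup G)) : Cfsg.PLengthLE p 1 G := by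
  haveI := CfsgLib.Solvable.pPrimeCore_normal (G := G) p
  refine FRep.pLengthLE_of_pPrimeCore 1 fun _ => ?_
  set ψ := QuotientGroup.mk' (Cfsg.pPrimeCore p G)
  have hψ : Function.Surjective ψ := QuotientGroup.mk'_surjective _
  have h0 := CfsgLib.Fitting.pPrimeCore_quotient_eq_bot (G := G) p
  have hs := CfsgLib.PConstrained.isPSolvable_map ψ hψ hG
  set S := P.mapSurjective hψ with hS
  refine FRep.pLengthLE_succ 0 (PLen.pLengthLE_zero_of_coprime
    ((Nat.Prime.coprime_iff_not_dvd Fact.out).2 fun hdvd => ?_).symm)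
  set φ := QuotientGroup.mk' (FRep.core p (G ⧸ Cfsg.pPrimeCore p G))
  have h1 := (S.mapSurjective (QuotientGroup.mk'_surjective
    (FRep.core p (G ⧸ Cfsg.pPrimeCore p G)))).dvd_card_of_dvd_card hdvd
  rw [Sylow.coe_mapSurjective] at h1
  obtain ⟨⟨_, x, hxS, rfl⟩, hz⟩ := exists_prime_orderOf_dvd_card' p h1
  rw [← Subgroup.orderOf_coe] at hz
  have hz' : orderOf (φ x) = p := hz
  have hxp : x ^ p ∈ FRep.core p (G ⧸ Cfsg.pPrimeCore p G) :=
    (QuotientGroup.eq_one_iff _).1 (show φ (x ^ p) = 1 from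
      (map_pow φ x p).trans (orderOf_dvd_iff_pow_eq_one.1 hz'.dvd))
  have hxF : x ∉ FRep.core p (G ⧸ Cfsg.pPrimeCore p G) := fun h =>
    (Fact.out : p.Prime).one_lt.ne
      ((orderOf_eq_one_iff.2 (show φ x = 1 from (QuotientGroup.eq_one_iff _).2 h)).symm.trans hz')
  obtain ⟨v, hv⟩ := exists_block hp2 hnf h0 hs S S.2 hxS hxF hxp
  let g : ↥(P : Subgroup G) →* (G ⧸ Cfsg.pPrimeCore p G) ⧸ FRep.phi p (G ⧸ Cfsg.pPrimeCore p G) :=
    ((QuotientGroup.mk' (FRep.phi p (G ⧸ Cfsg.pPrimeCore p G))).comp ψ).comp (P : Subgroup G).subtype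
  have hgr : ∀ y ∈ (S : Subgroup (G ⧸ Cfsg.pPrimeCore p G)),
      (y : (G ⧸ Cfsg.pPrimeCore p G) ⧸ FRep.phi p (G ⧸ Cfsg.pPrimeCore p G)) ∈ g.range := by
    intro y hy
    rw [hS, Sylow.coe_mapSurjective] at hy
    obtain ⟨w, hw, rfl⟩ := hy
    exact ⟨⟨w, hw⟩, rfl⟩
  obtain ⟨W, _, _, hW, hinv⟩ := exists_wreath g (by
    rintro _ ⟨u, hu, rfl⟩
    exact hgr u ((CfsgLib.Solvable.isPGroup_pCore p).le_sylow_of_normal S hu)) (hgr x hxS) hxp v hv
  exact hwr W hW hinv

end Cfsg.Agent.S3787
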