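import Cfsg.Statements.S3788
import Cfsg.Agent.PSoluble.CyclicNormal

set_option autoImplicit false
open Cfsg

namespace Cfsg.Agent.S3788

/-- Let G be a finite p-soluble group, P a Sylow p-subgroup of G and A a cyclic normal subgroup of P. If p is odd, or if no section of G is isomorphic to the symmetric group of degree 4, then A ≤ O_{p',p}(G). -/
theorem result {G : Type*} [Group G] [Finite G] {p : ℕ} [Fact p.Prime] (hG : Cfsg.IsPSolvable p G) (P : Sylow p G) (A : Subgroup G) (hAP : A ≤ (P : Subgroup G)) (hAn : (P : Subgroup G) ≤ Subgroup.normalizer (A : Set G)) (hA : IsCyclic A) (h : p ≠ 2 ∨ ¬ Cfsg.Involves (Equiv.Perm (Fin 4)) G) : A ≤ Cfsg.pPrimePCore p G := by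
  haveI : (Cfsg.pPrimeCore p G).Normal := CfsgLib.Solvable.pPrimeCore_normal p
  set φ := QuotientGroup.mk' (Cfsg.pPrimeCore p G) with hφ
  have hle := CfsgLib.PSoluble.le_pCore_of_cyclic (p := p)
    (CfsgLib.Fitting.pPrimeCore_quotient_eq_bot p)
    (CfsgLib.PConstrained.isPSolvable_map φ (QuotientGroup.mk'_surjective _) hG)
    (h.imp id fun hn hi => hn (CfsgLib.ZJ.involves_of_quotient _ hi))
    (A := A.map φ) (isCyclic_of_surjective (φ.subgroupMap A) (φ.subgroupMap_surjective A))
    ((P.2.to_le hAP).map φ) ?_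
  · exact Subgroup.map_le_iff_le_comap.1 hle
  · refine le_trans ((CfsgLib.Solvable.isPGroup_pCore p).le_sylow_of_normal
      (P.mapSurjective (QuotientGroup.mk'_surjective (Cfsg.pPrimeCore p G)))) ?_
    exact (Subgroup.map_mono hAn).trans (Subgroup.le_normalizer_map φ)

end Cfsg.Agent.S3788
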