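import Cfsg.Statements.S3789
import Cfsg.Agent.HallHigman.Step
-- import your own Cfsg.Agent.* helpers here

set_option autoImplicit false
open Cfsg

namespace Cfsg.Agent.S3789

open Subgroup CfsgLib CfsgLib.HallHigman CfsgLib.FGSA
open scoped commutatorElement

universe u

/-- The derived series of a subgroup, inside the group. -/
def D {X : Type*} [Group X] (P : Subgroup X) (i : ℕ) : Subgroup X := (derivedSeries P i).map P.subtype

theorem key (p : ℕ) [Fact p.Prime] (hp : p ≠ 2) : ∀ (d : ℕ) (G : Type u) [Group G] [Finite G],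
    Cfsg.IsPSolvable p G → (∀ P : Sylow p G, derivedSeries ↥(P : Subgroup G) d = ⊥) → Cfsg.PLengthLE p d G := by
  intro d
  induction d with
  | zero =>
    intro G _ _ _ hd
    refine PLen.pLengthLE_zero_of_coprime ((Nat.Prime.coprime_iff_not_dvd Fact.out).2 fun hdvd => ?_).symm
    obtain ⟨P⟩ : Nonempty (Sylow p G) := inferInstance
    haveI : Subsingleton (P : Subgroup G) :=
      subsingleton_of_forall_eq 1 fun x => Subgroup.mem_bot.1 (hd P ▸ (derivedSeries_zero (P : Subgroup G) ▸ mem_top x))
    have := P.dvd_card_of_dvd_card hdvd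
    rw [Nat.card_eq_one_iff_unique.2 ⟨inferInstance, inferInstance⟩, Nat.dvd_one] at this
    exact (Fact.out : p.Prime).one_lt.ne' this
  | succ d ih =>
    intro G _ _ hG hd
    refine FRep.pLengthLE_of_pPrimeCore (d + 1) fun hn => ?_
    haveI := hn
    set ψ := QuotientGroup.mk' (Cfsg.pPrimeCore p G)
    have hψ : Function.Surjective ψ := QuotientGroup.mk'_surjective _
    have h0 := CfsgLib.Fitting.pPrimeCore_quotient_eq_bot (G := G) p
    have hs := CfsgLib.PConstrained.isPSolvable_map ψ hψ hG
    have hdY : ∀ P : Sylow p (G ⧸ Cfsg.pPrimeCore p G), derivedSeries ↥(P : Subgroup (G ⧸ Cfsg.pPrimeCore p G)) (d + 1) = ⊥ := by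
      intro P
      obtain ⟨P', rfl⟩ := Sylow.mapSurjective_surjective hψ p P
      rw [Sylow.coe_mapSurjective, ← map_derivedSeries_eq (ψ.subgroupMap_surjective (P' : Subgroup G)) (d + 1),
        hd P', Subgroup.map_bot]
    rw [Nat.add_comm d 1]
    refine FRep.pLengthLE_succ d (ih _ (CfsgLib.PConstrained.isPSolvable_map _
      (QuotientGroup.mk'_surjective _) hs) fun S => ?_)
    obtain ⟨P, rfl⟩ := Sylow.mapSurjective_surjective
      (QuotientGroup.mk'_surjective (FRep.core p (G ⧸ Cfsg.pPrimeCore p G))) p S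
    set Pg : Subgroup (G ⧸ Cfsg.pPrimeCore p G) := (P : Subgroup (G ⧸ Cfsg.pPrimeCore p G)) with hPg
    have hFP : FRep.core p (G ⧸ Cfsg.pPrimeCore p G) ≤ Pg :=
      (CfsgLib.Solvable.isPGroup_pCore p).le_sylow_of_normal P
    have hnorm : ∀ i, Pg ≤ normalizer (D Pg i : Set (G ⧸ Cfsg.pPrimeCore p G)) := fun i => by
      refine le_trans ?_ (Subgroup.le_normalizer_map Pg.subtype (H := derivedSeries Pg i))
      rw [Subgroup.normalizer_eq_top, ← MonoidHom.range_eq_map, Subgroup.range_subtype]
    have hA : ∀ a ∈ D Pg d, ∀ a' ∈ D Pg d, a * a' = a' * a := by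
      rintro _ ⟨a, ha, rfl⟩ _ ⟨a', ha', rfl⟩
      have h := hdY P
      rw [derivedSeries_succ, commutator_eq_bot_iff_le_centralizer] at h
      rw [← map_mul, ← map_mul, (mem_centralizer_iff.1 (h ha') a ha)]
    have hle : D Pg d ≤ FRep.core p (G ⧸ Cfsg.pPrimeCore p G) := by
      cases d with
      | zero =>
        have h0' : D Pg 0 = Pg := by
          rw [D, derivedSeries_zero, ← MonoidHom.range_eq_map, Subgroup.range_subtype]
        rw [h0'] at hA ⊢
        exact FRep.abelian_step h0 hs Pg hFP hA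
      | succ e =>
        exact FRep.derived_step hp h0 hs Pg (D Pg (e + 1)) (D Pg e) P.2 hFP (Subgroup.map_subtype_le _)
          (hnorm _) (hnorm _) (by rw [D, derivedSeries_succ, Subgroup.map_commutator]; rfl) hA
    rw [Sylow.coe_mapSurjective, ← map_derivedSeries_eq ((QuotientGroup.mk' _).subgroupMap_surjective Pg) d,
      Subgroup.map_eq_bot_iff]
    intro x hx
    rw [MonoidHom.mem_ker]
    exact Subtype.ext ((QuotientGroup.eq_one_iff _).2 (hle ⟨x, hx, rfl⟩))

/-- Let p be an odd prime and G a finite p-soluble group whose Sylow p-subgroups have derived length at most d. Then G has p-length at most d. -/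
theorem result {G : Type*} [Group G] [Finite G] {p : ℕ} [Fact p.Prime] (hp : p ≠ 2) (hG : Cfsg.IsPSolvable p G) (d : ℕ) (hd : ∀ P : Sylow p G, derivedSeries ↥(P : Subgroup G) d = ⊥) : Cfsg.PLengthLE p d G :=
  key p hp d G hG hd

end Cfsg.Agent.S3789
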