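import Cfsg.Statements.S3790
import Cfsg.Agent.FGSA.PLengthSeries

set_option autoImplicit false
open Cfsg
universe u

namespace Cfsg.Agent.S3790

open CfsgLib.FGSA in
theorem bound (p : ℕ) [Fact p.Prime] {r : ℕ} (q : Fin r → ℕ) (hq : ∀ i, (q i).Prime ∧ q i ≠ p)
    (T : Finset (Fin r)) :
    ∀ (G : Type u) [Group G] [Finite G] (l : Fin r → ℕ),
      (∀ s : ℕ, s.Prime → s ∣ Nat.card G → s ≠ p → ∃ i ∈ T, q i = s) →
      (∀ i ∈ T, Cfsg.PLengthLE (q i) (l i) G) → Cfsg.PLengthLE p (T.prod fun i => 1 + l i) G := by
  classical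
  induction T using Finset.induction_on with
  | empty =>
    intro G _ _ l hcover _
    obtain ⟨k, hk⟩ : ∃ k, Nat.card G = p ^ k :=
      ⟨_, Nat.eq_prime_pow_of_unique_prime_dvd Nat.card_pos.ne' fun {s} hs hd => by
        by_contra hne
        obtain ⟨i, hi, -⟩ := hcover s hs hd hne
        exact Finset.notMem_empty i hi⟩
    show PLen.U p G (2 * 1 + 1) = ⊤
    refine top_le_iff.1 (le_trans (PLen.le_succ (j := 1) (inferInstance : (⊤ : Subgroup G).Normal) ?_)
      (PLen.U_mono (by omega)))
    refine PLen.Good.of_dvd (n := Nat.card G) ?_ (Subgroup.relIndex_top_right (PLen.U p G 1) ▸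
      Subgroup.index_dvd_card _)
    simp [PLen.Good, hk]
  | insert i T hiT ih =>
    intro G _ _ l hcover hl
    rw [Finset.prod_insert hiT]
    have hqi := (hq i).1
    haveI := Fact.mk hqi
    -- induction on the `q i`-length
    suffices key : ∀ (m : ℕ) (G : Type u) [Group G] [Finite G],
        (∀ s : ℕ, s.Prime → s ∣ Nat.card G → s ≠ p → ∃ j ∈ insert i T, q j = s) →
        (∀ j ∈ T, Cfsg.PLengthLE (q j) (l j) G) → Cfsg.PLengthLE (q i) m G →
        Cfsg.PLengthLE p ((1 + m) * T.prod fun j => 1 + l j) G from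
      key (l i) G hcover (fun j hj => hl j (Finset.mem_insert_of_mem hj)) (hl i (Finset.mem_insert_self i T))
    intro m
    induction m with
    | zero =>
      intro G _ _ hcover hl h0
      rw [Nat.add_zero, one_mul]
      refine ih G l (fun s hs hd hne => ?_) hl
      obtain ⟨j, hj, rfl⟩ := hcover s hs hd hne
      refine ⟨j, (Finset.mem_insert.1 hj).resolve_left ?_, rfl⟩
      rintro rfl
      have hc : (Nat.card (PLen.U (q j) G 1)).Coprime (q j) := PLen.card_U_one_coprime
      rw [show PLen.U (q j) G 1 = ⊤ from h0, Subgroup.card_top] at hc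
      exact hs.one_lt.ne' (Nat.eq_one_of_dvd_coprimes hc hd dvd_rfl)
    | succ m ihm =>
      intro G _ _ hcover hl hm
      set A := PLen.U (q i) G 1 with hA
      set B := PLen.U (q i) G 2 with hB
      have hsub : ∀ {K : Type u} [Group K] [Finite K], Nat.card K ∣ Nat.card G →
          ∀ s : ℕ, s.Prime → s ∣ Nat.card K → s ≠ p → ∃ j ∈ insert i T, q j = s :=
        fun {K} _ _ hK s hs hd hne => hcover s hs (hd.trans hK) hne
      have hQ := ihm (G ⧸ B) (hsub (Subgroup.card_quotient_dvd_card B))
        (fun j hj => by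
          haveI := Fact.mk (hq j).1
          exact PLen.pLengthLE_of_surjective _ (QuotientGroup.mk'_surjective B) (hl j hj))
        (PLen.pLengthLE_quotient_two hm)
      have hAB : A ≤ B := PLen.U_le_succ 1
      have hA' : Cfsg.PLengthLE p (T.prod fun j => 1 + l j) A := by
        refine ih A l (fun s hs hd hne => ?_) fun j hj => by
          haveI := Fact.mk (hq j).1
          exact PLen.pLengthLE_of_normal A (hl j hj)
        obtain ⟨j, hj, rfl⟩ := hsub (K := A) (Subgroup.card_subgroup_dvd_card A) s hs hd hne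
        refine ⟨j, (Finset.mem_insert.1 hj).resolve_left ?_, rfl⟩
        rintro rfl
        exact hs.one_lt.ne' (Nat.eq_one_of_dvd_coprimes PLen.card_U_one_coprime hd dvd_rfl)
      have hB' : Cfsg.PLengthLE p ((T.prod fun j => 1 + l j) + 0) B := by
        refine PLen.pLengthLE_add (A.subgroupOf B) ?_ (PLen.pLengthLE_zero_of_coprime ?_)
        · exact PLen.pLengthLE_of_surjective (Subgroup.subgroupOfEquivOfLe hAB).symm.toMonoidHom
            (Subgroup.subgroupOfEquivOfLe hAB).symm.surjective hA'
        · have hgood := PLen.good_factor (G := G) (p := q i) 1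
          simp [PLen.Good] at hgood
          obtain ⟨k, hk⟩ := hgood
          rw [← Subgroup.index_eq_card]
          show (A.relIndex B).Coprime p
          rw [hk]
          exact Nat.Coprime.pow_left k ((Nat.coprime_primes hqi Fact.out).2 (hq i).2)
      refine PLen.pLengthLE_mono (le_of_eq ?_) (PLen.pLengthLE_add B hB' hQ)
      ring

/-- Let G be a finite solvable group and p a prime. Suppose p₁, …, p_r are distinct primes, all different from p, that include every prime dividing the order of G other than p, and that G has p_i-length at most l_i for each i. Then G has p-length at most the product of the numbers 1 + l_i. -/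
theorem result {G : Type*} [Group G] [Finite G] (hG : Group.IsSolvable G) (p : ℕ) [Fact p.Prime] (r : ℕ) (q : Fin r → ℕ) (hq : ∀ i, (q i).Prime ∧ q i ≠ p) (hinj : Function.Injective q) (hcover : ∀ s : ℕ, s.Prime → s ∣ Nat.card G → s ≠ p → ∃ i, q i = s) (l : Fin r → ℕ) (hl : ∀ i, Cfsg.PLengthLE (q i) (l i) G) : Cfsg.PLengthLE p (Finset.univ.prod fun i => 1 + l i) G := by
  classical
  exact bound p q hq Finset.univ G l
    (fun s hs hd hne => (hcover s hs hd hne).imp fun i hi => ⟨Finset.mem_univ i, hi⟩) fun i _ => hl i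

end Cfsg.Agent.S3790
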