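import Cfsg.Statements.S3791
import Cfsg.Agent.FGSA.PLengthSeries
import Cfsg.Agent.Solvable.Fitting

set_option autoImplicit false
open Cfsg
universe u

namespace Cfsg.Agent.S3791

open CfsgLib.FGSA in
theorem bound {r : ℕ} (q : Fin r → ℕ) (hq : ∀ i, (q i).Prime) (d : Fin r → ℕ) :
    ∀ (n : ℕ) (G : Type u) [Group G] [Finite G], Nat.card G ≤ n → Group.IsSolvable G →
      ∀ l : Fin r → ℕ, (∀ s : ℕ, s.Prime → s ∣ Nat.card G → ∃ i, q i = s) →
      (∀ i, ∀ P : Subgroup G, (haveI := Fact.mk (hq i); ∃ S : Sylow (q i) G, (S : Subgroup G) = P) →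
        derivedSeries ↥P (d i) = ⊥) →
      (∀ i, Cfsg.PLengthLE (q i) (l i) G) →
      derivedSeries G (Finset.univ.sum fun i => d i * l i) = ⊥ := by
  intro n
  induction n with
  | zero => intro G _ _ h; exact absurd h (Nat.not_le.2 Nat.card_pos)
  | succ n ih =>
    intro G _ _ hn hs l hcover hd hl
    classical
    by_contra hD
    have hquot : ∀ N : Subgroup G, ∀ [N.Normal], N ≠ ⊥ → ∀ l' : Fin r → ℕ,
        (∀ i, Cfsg.PLengthLE (q i) (l' i) (G ⧸ N)) →
        derivedSeries G (Finset.univ.sum fun i => d i * l' i) ≤ N := by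
      intro N _ hN l' hl'
      haveI := hs
      have h := ih (G ⧸ N) (by have := CfsgLib.Solvable.card_quotient_lt hN; omega)
        (Group.isSolvable_of_surjective (QuotientGroup.mk'_surjective N)) l'
        (fun s hs' hsd => hcover s hs' (hsd.trans (Subgroup.card_quotient_dvd_card N)))
        (fun i P hP => by
          haveI := Fact.mk (hq i)
          obtain ⟨S, rfl⟩ := hP
          obtain ⟨S', rfl⟩ := Sylow.mapSurjective_surjective (QuotientGroup.mk'_surjective N) (q i) S
          have h' := hd i (S' : Subgroup G) ⟨S', rfl⟩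
          have := map_derivedSeries_eq ((QuotientGroup.mk' N).subgroupMap_surjective (S' : Subgroup G)) (d i)
          rw [h', Subgroup.map_bot] at this
          exact this.symm)
        hl'
      intro x hx
      rw [← QuotientGroup.eq_one_iff, ← Subgroup.mem_bot, ← h,
        ← map_derivedSeries_eq (QuotientGroup.mk'_surjective N)]
      exact ⟨x, hx, rfl⟩
    obtain ⟨M, hM, hM1, -, -, -, s, hs', -, hMp⟩ :=
      CfsgLib.Solvable.exists_normal_elementary_le (G := G) (N := ⊤)
        (fun h => hD (le_bot_iff.1 (h ▸ le_top)))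
        (haveI := hs; inferInstance)
    haveI := hM
    haveI := Fact.mk hs'
    obtain ⟨k, hk⟩ := IsPGroup.iff_card.1 hMp
    have hsd : s ∣ Nat.card G := by
      refine dvd_trans ?_ (Subgroup.card_subgroup_dvd_card M)
      rw [hk]
      refine dvd_pow_self s fun h0 => hM1 (Subgroup.eq_bot_of_card_eq _ ?_)
      rw [hk, h0, pow_zero]
    obtain ⟨i, hi⟩ := hcover s hs' hsd
    subst hi
    -- the `q i`-prime core is trivial
    have hU1 : PLen.U (q i) G 1 = ⊥ := by
      by_contra hne
      refine hD (le_bot_iff.1 (le_trans (le_inf (hquot _ hne l fun j => ?_) (hquot M hM1 l fun j => ?_)) ?_))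
      · haveI := Fact.mk (hq j)
        exact PLen.pLengthLE_of_surjective _ (QuotientGroup.mk'_surjective _) (hl j)
      · haveI := Fact.mk (hq j)
        exact PLen.pLengthLE_of_surjective _ (QuotientGroup.mk'_surjective M) (hl j)
      · refine (Subgroup.inf_eq_bot_of_coprime ?_).le
        rw [hk]
        exact PLen.card_U_one_coprime.pow_right k
    obtain ⟨m, hm⟩ : ∃ m, l i = m + 1 := by
      refine Nat.exists_eq_succ_of_ne_zero fun h0 => hM1 (le_bot_iff.1 ?_)
      have h := hl i
      rw [h0] at h
      exact le_top.trans ((show PLen.U (q i) G 1 = ⊤ from h).symm.le.trans hU1.le)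
    have hMU : M ≤ PLen.U (q i) G 2 := by
      refine PLen.le_succ hM ?_
      rw [hU1, Subgroup.relIndex_bot_left, hk]
      simp [PLen.Good]
    have hU2 : PLen.U (q i) G 2 ≠ ⊥ := fun h => hM1 (le_bot_iff.1 (hMU.trans h.le))
    have hl2 : ∀ j, Cfsg.PLengthLE (q j) (if j = i then m else l j) (G ⧸ PLen.U (q i) G 2) := by
      intro j
      split_ifs with hji
      · subst hji
        exact PLen.pLengthLE_quotient_two (hm ▸ hl j)
      · haveI := Fact.mk (hq j)
        exact PLen.pLengthLE_of_surjective _ (QuotientGroup.mk'_surjective _) (hl j)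
    have hle := hquot _ hU2 _ hl2
    have hsum : (Finset.univ.sum fun j => d j * l j) =
        (Finset.univ.sum fun j => d j * (if j = i then m else l j)) + d i := by
      rw [← Finset.add_sum_erase _ _ (Finset.mem_univ i), ← Finset.add_sum_erase _ _ (Finset.mem_univ i),
        if_pos rfl, hm, mul_add, mul_one,
        Finset.sum_congr rfl (g := fun j => d j * (if j = i then m else l j))
          (fun j hj => by rw [if_neg (Finset.ne_of_mem_erase hj)])]
      ring
    obtain ⟨S, hS⟩ := (PLen.isPGroup_U_two hU1).exists_le_sylow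
    have hbot : (derivedSeries (S : Subgroup G) (d i)).map (S : Subgroup G).subtype = ⊥ := by
      rw [hd i _ ⟨S, rfl⟩, Subgroup.map_bot]
    refine hD (le_bot_iff.1 ?_)
    rw [← hbot, hsum]
    have hstep : ∀ a b : ℕ, derivedSeries G a ≤ (S : Subgroup G) →
        derivedSeries G (a + b) ≤ (derivedSeries (S : Subgroup G) b).map (S : Subgroup G).subtype := by
      intro a b ha
      induction b with
      | zero => simpa [← MonoidHom.range_eq_map] using ha
      | succ b ihb =>
        rw [← Nat.add_assoc, derivedSeries_succ, derivedSeries_succ, Subgroup.map_commutator]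
        exact Subgroup.commutator_mono ihb ihb
    exact hstep _ _ (hle.trans hS)

/-- The Hall–Higman bound on derived length: let G be a finite solvable group, let p₁, …, p_r be distinct primes that include every prime dividing the order of G, and suppose that for each i the Sylow p_i-subgroups of G have derived length at most d_i and G has p_i-length at most l_i. Then G has derived length at most Σ d_i l_i. -/
theorem result {G : Type*} [Group G] [Finite G] (hG : Group.IsSolvable G) (r : ℕ) (q : Fin r → ℕ) (hq : ∀ i, (q i).Prime) (hinj : Function.Injective q) (hcover : ∀ s : ℕ, s.Prime → s ∣ Nat.card G → ∃ i, q i = s) (d l : Fin r → ℕ) (hd : ∀ i, ∀ P : Subgroup G, (haveI := Fact.mk (hq i); ∃ S : Sylow (q i) G, (S : Subgroup G) = P) → derivedSeries ↥P (d i) = ⊥) (hl : ∀ i, Cfsg.PLengthLE (q i) (l i) G) : derivedSeries G (Finset.univ.sum fun i => d i * l i) = ⊥ := by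
  exact bound q hq d _ G le_rfl hG l hcover hd hl

end Cfsg.Agent.S3791
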