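import Cfsg.Statements.S3797
import Cfsg.Agent.OneClass.Main
import Cfsg.Agent.OddLocal.SigmaBasic
-- import your own Cfsg.Agent.* helpers here

set_option autoImplicit false
open Cfsg
open scoped commutatorElement Pointwise

namespace Cfsg.Agent.S3797

/-- Let G be a finite solvable group of even order whose Sylow 2-subgroups contain more than one involution, and suppose all involutions of G are conjugate. Then G has 2-length at most 1, and a Sylow 2-subgroup S of G is either homocyclic (a direct product of cyclic groups of one common order) or a non-abelian 2-group with more than one involution admitting a solvable group of automorphisms transitive on its involutions. -/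
theorem result {G : Type*} [Group G] [Finite G] (hG : Group.IsSolvable G) (heven : Even (Nat.card G)) (S : Sylow 2 G) (htwo : ∃ x y : G, x ∈ (S : Subgroup G) ∧ y ∈ (S : Subgroup G) ∧ x ≠ y ∧ x ≠ 1 ∧ x ^ 2 = 1 ∧ y ≠ 1 ∧ y ^ 2 = 1) (hconj : ∀ x y : G, x ≠ 1 → x ^ 2 = 1 → y ≠ 1 → y ^ 2 = 1 → IsConj x y) : Cfsg.PLengthLE 2 1 G ∧ ((∃ m r : ℕ, Nonempty (↥(S : Subgroup G) ≃* (Fin r → Multiplicative (ZMod (2 ^ m))))) ∨ (¬ IsMulCommutative (S : Subgroup G) ∧ ∃ Y : Subgroup (MulAut ↥(S : Subgroup G)), Group.IsSolvable Y ∧ ∀ x y : ↥(S : Subgroup G), x ≠ 1 → x ^ 2 = 1 → y ≠ 1 → y ^ 2 = 1 → ∃ a ∈ Y, a x = y)) := by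
    haveI : Fact (Nat.Prime 2) := ⟨Nat.prime_two⟩
    haveI := hG
    set O := Cfsg.pPrimeCore 2 G with hOdef
    let f := QuotientGroup.mk' O
    have hf : Function.Surjective f := QuotientGroup.mk'_surjective O
    have hinj : ∀ s ∈ (S : Subgroup G), f s = 1 → s = 1 := by
      intro s hs h1
      obtain ⟨n, hn⟩ := IsPGroup.iff_card.1 S.2
      have hcop : (Nat.card (S : Subgroup G)).Coprime (Nat.card O) := by
        rw [hn]
        exact ((CfsgLib.Solvable.coprime_card_pPrimeCore (G := G) 2).symm).pow_left n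
      exact Subgroup.mem_bot.1 (Subgroup.inf_eq_bot_of_coprime hcop ▸
        (⟨hs, (QuotientGroup.eq_one_iff s).1 h1⟩ : s ∈ (S : Subgroup G) ⊓ O))
    let T : Sylow 2 (G ⧸ O) := S.mapSurjective hf
    have hTmem : ∀ t ∈ (T : Subgroup (G ⧸ O)), ∃ s ∈ (S : Subgroup G), f s = t := fun t ht => ht
    have hlift : ∀ x : G ⧸ O, x ≠ 1 → x ^ 2 = 1 → ∃ s : G, s ≠ 1 ∧ s ^ 2 = 1 ∧ IsConj (f s) x := by
      intro x hx1 hx2
      have hxp : IsPGroup 2 (Subgroup.zpowers x) := IsPGroup.of_card (n := 1) (by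
        rw [Nat.card_zpowers, orderOf_eq_prime hx2 hx1, pow_one])
      obtain ⟨U, hU⟩ := hxp.exists_le_sylow
      obtain ⟨g, hg⟩ := MulAction.exists_smul_eq (G ⧸ O) U T
      have hgx : g * x * g⁻¹ ∈ (T : Subgroup (G ⧸ O)) := by
        rw [← hg, Sylow.coe_subgroup_smul]
        exact Subgroup.smul_mem_pointwise_smul _ _ _ (hU (Subgroup.mem_zpowers x))
      obtain ⟨s, hs, hsx⟩ := hTmem _ hgx
      refine ⟨s, fun e => hx1 ?_, hinj _ (pow_mem hs 2) ?_, (isConj_iff.2 ⟨g, hsx.symm⟩).symm⟩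
      · rw [e, map_one] at hsx
        exact conj_eq_one_iff.1 hsx.symm
      · rw [map_pow, hsx, conj_pow, hx2, mul_one, mul_inv_cancel]
    have hconj' : ∀ x y : G ⧸ O, x ≠ 1 → x ^ 2 = 1 → y ≠ 1 → y ^ 2 = 1 → IsConj x y := by
      intro x y hx1 hx2 hy1 hy2
      obtain ⟨s, hs1, hs2, hs⟩ := hlift x hx1 hx2
      obtain ⟨t, ht1, ht2, ht⟩ := hlift y hy1 hy2
      exact hs.symm.trans ((f.map_isConj (hconj s t hs1 hs2 ht1 ht2)).trans ht)
    have htwo' : ∃ x y : G ⧸ O, x ≠ y ∧ x ≠ 1 ∧ x ^ 2 = 1 ∧ y ≠ 1 ∧ y ^ 2 = 1 := by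
      obtain ⟨x, y, hxS, hyS, hxy, hx1, hx2, hy1, hy2⟩ := htwo
      refine ⟨f x, f y, fun e => hxy ?_, fun e => hx1 (hinj x hxS e), by rw [← map_pow, hx2, map_one],
        fun e => hy1 (hinj y hyS e), by rw [← map_pow, hy2, map_one]⟩
      exact inv_mul_eq_one.1 (hinj _ (mul_mem (inv_mem hxS) hyS) (by rw [map_mul, map_inv, e, inv_mul_cancel]))
    have hT := CfsgLib.OneClass.sylow_eq_pCore (CfsgLib.Fitting.pPrimeCore_quotient_eq_bot 2) hconj' htwo' T
    refine ⟨CfsgLib.OddLocal.Sig.pLengthLE_one_of_index ?_, ?_⟩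
    · show ((Cfsg.pCore 2 (G ⧸ O)).comap f).index.Coprime 2
      rw [Subgroup.index_comap_of_surjective _ hf, ← hT, Nat.coprime_comm,
        (Nat.prime_two).coprime_iff_not_dvd]
      exact T.not_dvd_index
    haveI hTn : (T : Subgroup (G ⧸ O)).Normal := hT ▸ CfsgLib.Solvable.pCore_normal 2
    let θ : ↥(S : Subgroup G) ≃* ↥(T : Subgroup (G ⧸ O)) :=
      MulEquiv.ofBijective (f.subgroupMap (S : Subgroup G))
        ⟨(injective_iff_map_eq_one _).2 fun s hs => Subtype.ext (hinj s s.2 (congrArg Subtype.val hs)),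
          f.subgroupMap_surjective _⟩
    let c : G ⧸ O →* MulAut ↥(S : Subgroup G) :=
      (MulAut.congr θ.symm).toMonoidHom.comp (MulAut.conjNormal : G ⧸ O →* MulAut ↥(T : Subgroup (G ⧸ O)))
    have htr : ∀ x y : ↥(S : Subgroup G), x ≠ 1 → x ^ 2 = 1 → y ≠ 1 → y ^ 2 = 1 →
        ∃ a ∈ c.range, a x = y := by
      intro x y hx1 hx2 hy1 hy2
      have hne : ∀ z : ↥(S : Subgroup G), z ≠ 1 → (θ z : G ⧸ O) ≠ 1 := fun z hz e =>
        hz (θ.injective ((Subtype.ext e).trans (map_one θ).symm))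
      have hsq : ∀ z : ↥(S : Subgroup G), z ^ 2 = 1 → (θ z : G ⧸ O) ^ 2 = 1 := fun z hz => by
        rw [← SubmonoidClass.coe_pow, ← map_pow, hz, map_one]; rfl
      obtain ⟨g, hg⟩ := isConj_iff.1 (hconj' _ _ (hne x hx1) (hsq x hx2) (hne y hy1) (hsq y hy2))
      refine ⟨c g, ⟨g, rfl⟩, ?_⟩
      show θ.symm (MulAut.conjNormal g (θ x)) = y
      rw [MulEquiv.symm_apply_eq]
      exact Subtype.ext hg
    by_cases hab : IsMulCommutative (S : Subgroup G)
    · left
      letI : CommGroup ↥(S : Subgroup G) :=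
        { (inferInstance : Group ↥(S : Subgroup G)) with
          mul_comm := fun a b => hab.is_comm.comm a b }
      exact CfsgLib.OneClass.homocyclic_of_transitive S.2 fun x y h1 h2 h3 h4 =>
        let ⟨a, _, ha⟩ := htr x y h1 h2 h3 h4
        ⟨a, ha⟩
    · exact Or.inr ⟨hab, c.range, Group.isSolvable_of_surjective c.rangeRestrict_surjective, htr⟩


end Cfsg.Agent.S3797
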