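import Cfsg.Statements.S3799
import Mathlib
import Cfsg.Agent.FGSA.Extraspecial

set_option autoImplicit false
open Cfsg

namespace Cfsg.Agent.S3799

open scoped commutatorElement

/-- The Heisenberg group of dimension `2n + 1`. -/
@[ext] structure Heis (p n : ℕ) where
  a : Fin n → ZMod p
  b : Fin n → ZMod p
  c : ZMod p

variable {p n : ℕ}

instance instGroupHeis : Group (Heis p n) where
  mul x y := ⟨x.a + y.a, x.b + y.b, x.c + y.c + x.a ⬝ᵥ y.b⟩
  one := ⟨0, 0, 0⟩
  inv x := ⟨-x.a, -x.b, -x.c + x.a ⬝ᵥ x.b⟩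
  mul_assoc x y z := Heis.ext (add_assoc _ _ _) (add_assoc _ _ _)
    (show x.c + y.c + x.a ⬝ᵥ y.b + z.c + (x.a + y.a) ⬝ᵥ z.b =
        x.c + (y.c + z.c + y.a ⬝ᵥ z.b) + x.a ⬝ᵥ (y.b + z.b) by
      rw [add_dotProduct, dotProduct_add]; ring)
  one_mul x := Heis.ext (zero_add _) (zero_add _)
    (show 0 + x.c + (0 : Fin n → ZMod p) ⬝ᵥ x.b = x.c by simp)
  mul_one x := Heis.ext (add_zero _) (add_zero _)
    (show x.c + 0 + x.a ⬝ᵥ (0 : Fin n → ZMod p) = x.c by simp)
  inv_mul_cancel x := Heis.ext (neg_add_cancel _) (neg_add_cancel _)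
    (show -x.c + x.a ⬝ᵥ x.b + x.c + (-x.a) ⬝ᵥ x.b = 0 by rw [neg_dotProduct]; ring)

theorem Heis.mul_def (x y : Heis p n) : x * y = ⟨x.a + y.a, x.b + y.b, x.c + y.c + x.a ⬝ᵥ y.b⟩ := rfl

theorem Heis.one_def' : (1 : Heis p n) = ⟨0, 0, 0⟩ := rfl

def Heis.equivProd : Heis p n ≃ (Fin n → ZMod p) × (Fin n → ZMod p) × ZMod p where
  toFun x := (x.a, x.b, x.c)
  invFun t := ⟨t.1, t.2.1, t.2.2⟩

theorem Heis.pow_formula (x : Heis p n) (k : ℕ) :
    (x ^ k).a = (k : ZMod p) • x.a ∧ (x ^ k).b = (k : ZMod p) • x.b ∧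
      2 * (x ^ k).c = 2 * k * x.c + (k : ZMod p) * ((k : ZMod p) - 1) * (x.a ⬝ᵥ x.b) := by
  induction k with
  | zero => simp [pow_zero, Heis.one_def']
  | succ k ih =>
    obtain ⟨h1, h2, h3⟩ := ih
    rw [pow_succ, Heis.mul_def]
    refine ⟨?_, ?_, ?_⟩
    · rw [h1, Nat.cast_succ, add_smul, one_smul]
    · rw [h2, Nat.cast_succ, add_smul, one_smul]
    · show 2 * ((x ^ k).c + x.c + (x ^ k).a ⬝ᵥ x.b) = _
      rw [h1, smul_dotProduct, smul_eq_mul, mul_add, mul_add, h3, Nat.cast_succ]; ring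

theorem Heis.pow_eq_one [Fact p.Prime] (hp : p ≠ 2) (x : Heis p n) : x ^ p = 1 := by
  obtain ⟨h1, h2, h3⟩ := x.pow_formula p
  rw [ZMod.natCast_self] at h1 h2 h3
  have h2ne : (2 : ZMod p) ≠ 0 := by
    intro h
    have h' : ((2 : ℕ) : ZMod p) = 0 := by exact_mod_cast h
    rw [ZMod.natCast_eq_zero_iff] at h'
    exact hp ((Nat.prime_dvd_prime_iff_eq (Fact.out) Nat.prime_two).1 h')
  refine Heis.ext (by rw [h1, zero_smul]; rfl) (by rw [h2, zero_smul]; rfl) ?_
  have h4 : 2 * (x ^ p).c = 0 := by rw [h3]; ring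
  exact (mul_eq_zero.1 h4).resolve_left h2ne

theorem Heis.center_iff (x : Heis p n) : x ∈ Subgroup.center (Heis p n) ↔ x.a = 0 ∧ x.b = 0 := by
  rw [Subgroup.mem_center_iff]
  constructor
  · intro h
    constructor
    · funext i
      have := congrArg Heis.c (h ⟨0, Pi.single i 1, 0⟩)
      simpa [Heis.mul_def] using this.symm
    · funext i
      have := congrArg Heis.c (h ⟨Pi.single i 1, 0, 0⟩)
      simpa [Heis.mul_def] using this
  · rintro ⟨ha, hb⟩ y
    simp [Heis.mul_def, ha, hb, add_comm]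

theorem Heis.commutator_eq (hn : 1 ≤ n) : commutator (Heis p n) = Subgroup.center (Heis p n) := by
  refine le_antisymm ?_ ?_
  · rw [_root_.commutator_def, Subgroup.commutator_le]
    intro x _ y _
    have h : ⁅x, y⁆ * (y * x) = x * y := by rw [commutatorElement_def]; group
    have ha := congrArg Heis.a h
    have hb := congrArg Heis.b h
    simp only [Heis.mul_def] at ha hb
    exact (Heis.center_iff _).2 ⟨add_right_cancel (b := y.a + x.a) (by rw [zero_add, ha, add_comm]),
      add_right_cancel (b := y.b + x.b) (by rw [zero_add, hb, add_comm])⟩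
  · intro x hx
    obtain ⟨ha, hb⟩ := (Heis.center_iff _).1 hx
    let i : Fin n := ⟨0, hn⟩
    have h : x = ⁅(⟨Pi.single i x.c, 0, 0⟩ : Heis p n), (⟨0, Pi.single i 1, 0⟩ : Heis p n)⁆ := by
      rw [commutatorElement_def, eq_mul_inv_iff_mul_eq, eq_mul_inv_iff_mul_eq]
      ext <;> simp [Heis.mul_def, ha, hb]
    rw [h, _root_.commutator_def]
    exact Subgroup.commutator_mem_commutator (Subgroup.mem_top _) (Subgroup.mem_top _)

theorem Heis.card_center [NeZero p] : Nat.card (Subgroup.center (Heis p n)) = p := by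
  have e : Subgroup.center (Heis p n) ≃ ZMod p :=
    { toFun := fun x => x.1.c
      invFun := fun c => ⟨⟨0, 0, c⟩, (Heis.center_iff _).2 ⟨rfl, rfl⟩⟩
      left_inv := fun x => Subtype.ext (Heis.ext ((Heis.center_iff _).1 x.2).1.symm
        ((Heis.center_iff _).1 x.2).2.symm rfl)
      right_inv := fun _ => rfl }
  rw [Nat.card_congr e, Nat.card_zmod]

/-- The action on `ZMod p × (Fin n → ZMod p) × ZMod p`. -/
def Heis.toLinear (x : Heis p n) :
    (ZMod p × (Fin n → ZMod p) × ZMod p) →ₗ[ZMod p] (ZMod p × (Fin n → ZMod p) × ZMod p) where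
  toFun t := (t.1 + x.a ⬝ᵥ t.2.1 + x.c * t.2.2, t.2.1 + t.2.2 • x.b, t.2.2)
  map_add' s t := by
    refine Prod.ext ?_ (Prod.ext ?_ ?_)
    · simp [dotProduct_add]; ring
    · simp [add_smul]; abel
    · simp
  map_smul' r t := by
    refine Prod.ext ?_ (Prod.ext ?_ ?_)
    · simp [dotProduct_smul]; ring
    · simp [smul_smul]
    · simp

def Heis.toEnd : Heis p n →* Module.End (ZMod p) (ZMod p × (Fin n → ZMod p) × ZMod p) where
  toFun := Heis.toLinear
  map_one' := LinearMap.ext fun t => by simp [Heis.toLinear, Heis.one_def']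
  map_mul' x y := LinearMap.ext fun t => by
    refine Prod.ext ?_ (Prod.ext ?_ ?_)
    · simp [Heis.toLinear, Heis.mul_def, add_dotProduct, dotProduct_add, dotProduct_smul]; ring
    · simp [Heis.toLinear, Heis.mul_def, smul_add]; abel
    · simp [Heis.toLinear, Heis.mul_def]

theorem Heis.toEnd_injective : Function.Injective (Heis.toEnd (p := p) (n := n)) := by
  intro x y h
  have h1 := LinearMap.congr_fun h (0, 0, 1)
  simp [Heis.toEnd, Heis.toLinear] at h1
  refine Heis.ext ?_ h1.2 h1.1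
  funext i
  have h2 := LinearMap.congr_fun h (0, Pi.single i 1, 0)
  simp [Heis.toEnd, Heis.toLinear] at h2
  exact h2


/-- For every odd prime p and every n ≥ 1 there is an extraspecial p-group of order p^(1+2n) and exponent p; concretely, the general linear group of degree n + 2 over the field with p elements contains such a subgroup. -/
theorem result (p : ℕ) [Fact p.Prime] (hp : p ≠ 2) (n : ℕ) (hn : 1 ≤ n) : ∃ E : Subgroup (Matrix.GeneralLinearGroup (Fin (n + 2)) (ZMod p)), Cfsg.IsExtraspecial p ↥E ∧ Nat.card E = p ^ (1 + 2 * n) ∧ ∀ x ∈ E, x ^ p = 1 := by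
  let V := ZMod p × (Fin n → ZMod p) × ZMod p
  haveI : Finite (Heis p n) := Finite.of_equiv _ Heis.equivProd.symm
  have hdim : Module.finrank (ZMod p) V = Module.finrank (ZMod p) (Fin (n + 2) → ZMod p) := by
    simp [V, Module.finrank_prod]; omega
  let e : V ≃ₗ[ZMod p] (Fin (n + 2) → ZMod p) := LinearEquiv.ofFinrankEq _ _ hdim
  let θ : Module.End (ZMod p) V →* Matrix (Fin (n + 2)) (Fin (n + 2)) (ZMod p) :=
    ((LinearMap.toMatrixAlgEquiv' (R := ZMod p) (n := Fin (n + 2))).toMulEquiv.toMonoidHom).comp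
      (e.conjAlgEquiv (ZMod p)).toMulEquiv.toMonoidHom
  have hθ : Function.Injective θ :=
    ((LinearMap.toMatrixAlgEquiv' (R := ZMod p) (n := Fin (n + 2))).injective).comp (e.conjAlgEquiv (ZMod p)).injective
  let F : Heis p n →* Matrix.GeneralLinearGroup (Fin (n + 2)) (ZMod p) := (θ.comp Heis.toEnd).toHomUnits
  have hF : Function.Injective F := fun x y h =>
    Heis.toEnd_injective (hθ (congrArg Units.val h))
  have hexp : ∀ x : F.range, x ^ p = 1 := by
    rintro ⟨_, x, rfl⟩
    exact Subtype.ext (by rw [SubmonoidClass.coe_pow, ← map_pow, x.pow_eq_one hp, map_one]; rfl)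
  obtain ⟨f⟩ : Nonempty (Heis p n ≃* F.range) := ⟨F.ofInjective hF⟩
  have hc : (Subgroup.center (Heis p n)).map f.toMonoidHom = Subgroup.center F.range := by
    ext y
    obtain ⟨x, rfl⟩ := f.surjective y
    rw [show f x = f.toMonoidHom x from rfl, Subgroup.mem_map_iff_mem (f := f.toMonoidHom) f.injective, show f.toMonoidHom x = f x from rfl]
    simp only [Subgroup.mem_center_iff]
    refine ⟨fun h z => ?_, fun h z => f.injective ?_⟩
    · obtain ⟨z, rfl⟩ := f.surjective z
      show f z * f x = f x * f z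
      rw [← map_mul, h, map_mul]
    · rw [map_mul, map_mul]; exact h (f z)
  refine ⟨F.range, CfsgLib.Extraspecial.of_exponent hexp ?_ ?_, ?_, fun x hx => ?_⟩
  · rw [← hc, ← Heis.commutator_eq hn, _root_.commutator_def, _root_.commutator_def,
      Subgroup.map_commutator, Subgroup.map_top_of_surjective f.toMonoidHom f.surjective]
  · rw [← hc, Subgroup.card_map_of_injective (f := f.toMonoidHom) f.injective, Heis.card_center]
  · rw [← Nat.card_congr f.toEquiv, Nat.card_congr Heis.equivProd]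
    simp [Nat.card_prod, Nat.card_zmod]
    ring
  · exact congrArg Subtype.val (hexp ⟨x, hx⟩)

end Cfsg.Agent.S3799
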