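import Cfsg.Statements.S3800
import Cfsg.Agent.FGSA.GTCriterion

set_option autoImplicit false
open Cfsg

namespace Cfsg.Agent.S3800

/-- Let G be a finite group, N a normal subgroup of G whose order is prime to p, and P a p-subgroup of G. Then in G/N the normalizer of the image of P is the image of N_G(P), and the centralizer of the image of P is the image of C_G(P). -/
theorem result {G : Type*} [Group G] [Finite G] {p : ℕ} [Fact p.Prime] (N : Subgroup G) [N.Normal] (hN : (Nat.card N).Coprime p) (P : Subgroup G) (hP : IsPGroup p P) : Subgroup.normalizer ((P.map (QuotientGroup.mk' N)) : Set (G ⧸ N)) = (Subgroup.normalizer (P : Set G)).map (QuotientGroup.mk' N) ∧ Subgroup.centralizer ((P.map (QuotientGroup.mk' N)) : Set (G ⧸ N)) = (Subgroup.centralizer (P : Set G)).map (QuotientGroup.mk' N) := by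
  refine ⟨CfsgLib.FGSA.GT.normalizer_map_mk hP hN, le_antisymm (fun x hx => ?_) ?_⟩
  · obtain ⟨g, rfl⟩ := QuotientGroup.mk'_surjective N x
    obtain ⟨n, hn, hng⟩ := CfsgLib.ZJ.exists_mul_mem_centralizer hP hN (g := g) fun y hy => by
      rw [← QuotientGroup.eq_one_iff, ← QuotientGroup.mk'_apply, map_mul, map_mul, map_mul, map_inv,
        map_inv, ← Subgroup.mem_centralizer_iff.1 hx _ (Subgroup.mem_map_of_mem _ hy),
        mul_inv_cancel_right, mul_inv_cancel]
    refine ⟨n * g, hng, ?_⟩
    rw [map_mul, show QuotientGroup.mk' N n = 1 from (QuotientGroup.eq_one_iff n).2 hn, one_mul]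
  · rintro _ ⟨g, hg, rfl⟩
    refine Subgroup.mem_centralizer_iff.2 ?_
    rintro _ ⟨y, hy, rfl⟩
    rw [← map_mul, ← map_mul, Subgroup.mem_centralizer_iff.1 hg y hy]

end Cfsg.Agent.S3800
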