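import Cfsg.Statements.S3802
import Cfsg.Agent.PLocal.SubnormalJoin

set_option autoImplicit false
open Cfsg

namespace Cfsg.Agent.S3802

/-- Let G be a finite group, M a maximal subgroup of G and N a subnormal subgroup of G contained in M. Then N is contained in every conjugate of M, that is, N lies in the core of M in G. -/
theorem result {G : Type*} [Group G] [Finite G] (M N : Subgroup G) (hM : IsCoatom M) (hN : N.IsSubnormal) (hNM : N ≤ M) :
    N ≤ Subgroup.normalCore M := by
  obtain ⟨H, ⟨hH, hHM, hNH⟩, hmax⟩ := (Set.toFinite {H : Subgroup G |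
      H.IsSubnormal ∧ H ≤ M ∧ N ≤ H}).exists_maximal ⟨N, hN, hNM, le_rfl⟩
  have hbig : ∀ K : Subgroup G, K.IsSubnormal → K ≤ M → K ≤ H := fun K hK hKM =>
    (le_sup_right : K ≤ H ⊔ K).trans (hmax ⟨CfsgLib.SubnormalJoin.isSubnormal_sup hH hK,
      sup_le hHM hKM, hNH.trans le_sup_left⟩ le_sup_left)
  have hnorm : M ≤ Subgroup.normalizer (H : Set G) := by
    intro m hm
    have hle : H.map (MulAut.conj m).toMonoidHom ≤ H := by
      refine hbig _ (hH.map (f := (MulAut.conj m).toMonoidHom) (MulAut.conj m).surjective) ?_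
      rintro - ⟨h, hh, rfl⟩
      exact M.mul_mem (M.mul_mem hm (hHM hh)) (M.inv_mem hm)
    have heq : H.map (MulAut.conj m).toMonoidHom = H := Subgroup.eq_of_le_of_card_ge hle
      (Subgroup.card_map_of_injective (f := (MulAut.conj m).toMonoidHom) (MulAut.conj m).injective).ge
    rw [Subgroup.mem_normalizer_iff]
    intro y
    constructor
    · intro hy; exact hle ⟨y, hy, rfl⟩
    · intro hy
      rw [← heq] at hy
      obtain ⟨z, hz, he⟩ := hy
      rwa [← (MulAut.conj m).injective he]
  suffices hHn : H.Normal by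
    haveI := hHn
    exact hNH.trans (Subgroup.normal_le_normalCore.2 hHM)
  by_contra hHn
  have hM' : Subgroup.normalizer (H : Set G) = M := (hM.le_iff.1 hnorm).resolve_left fun h =>
    hHn (Subgroup.normalizer_eq_top_iff.1 h)
  obtain ⟨K, hlt, hK, hKn⟩ : ∃ K, H < K ∧ K.IsSubnormal ∧ (H.subgroupOf K).Normal :=
    (Subgroup.IsSubnormal.iff_eq_top_or_exists.1 hH).resolve_left fun h => hHn (h ▸ inferInstance)
  have : K ≤ M := by
    rw [← hM']
    exact (Subgroup.normal_subgroupOf_iff_le_normalizer hlt.le).1 hKn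
  exact hlt.not_ge (hbig K hK this)

end Cfsg.Agent.S3802
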