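import Cfsg.Statements.S3803
import Cfsg.Agent.Solvable.CoprimeAct
import Cfsg.Agent.Solvable.PGroupBasic
import Cfsg.Agent.FGSB.OrderPFix

set_option autoImplicit false
open Cfsg

namespace Cfsg.Agent.S3803

set_option linter.style.haveILetI false

open Subgroup

theorem fix_cyclic {X : Type*} [Group X] [Finite X] {E : Subgroup X} (hE : IsPGroup 2 E)
    (hcyc : IsCyclic E) {w : X} (hw : Odd (orderOf w)) (hwE : w ∈ normalizer (E : Set X)) :
    ∀ t ∈ E, Commute w t := by
  classical
  refine CfsgLib.OrderPFix.commute_of_commute_small hE (Nat.coprime_two_right.2 hw) hwE ?_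
  intro t ht hts
  have hmem : w * t * w⁻¹ ∈ E := (mem_normalizer_iff.1 hwE t).1 ht
  obtain ⟨o, ho⟩ := hw
  have hsq : Commute (w * w) t → Commute w t := fun h => by
    have h' := h.pow_left (o + 1)
    rwa [← pow_two, ← pow_mul, show 2 * (o + 1) = orderOf w + 1 by omega, pow_succ,
      pow_orderOf_eq_one, one_mul] at h'
  have hpow : ∃ k : ℕ, k < orderOf t ∧ w * t * w⁻¹ = t ^ k := by
    haveI := hcyc
    haveI := Fintype.ofFinite E
    set u : E := ⟨t, ht⟩ with hu
    set u' : E := ⟨w * t * w⁻¹, hmem⟩ with hu'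
    have hS := IsCyclic.card_pow_eq_one_le (α := E) (orderOf_pos u)
    have himg : (Finset.range (orderOf u)).image (u ^ ·) ⊆
        Finset.univ.filter fun a : E => a ^ orderOf u = 1 := by
      intro a ha
      obtain ⟨k, -, rfl⟩ := Finset.mem_image.1 ha
      refine Finset.mem_filter.2 ⟨Finset.mem_univ _, ?_⟩
      rw [← pow_mul, mul_comm, pow_mul, pow_orderOf_eq_one, one_pow]
    have hc : ((Finset.range (orderOf u)).image (u ^ ·)).card = orderOf u := by
      rw [Finset.card_image_of_injOn, Finset.card_range]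
      intro a ha b hb h
      exact pow_injOn_Iio_orderOf (Finset.mem_range.1 ha) (Finset.mem_range.1 hb) h
    have heq := Finset.eq_of_subset_of_card_le himg (hS.trans hc.ge)
    have hu'mem : u' ∈ Finset.univ.filter fun a : E => a ^ orderOf u = 1 := by
      refine Finset.mem_filter.2 ⟨Finset.mem_univ _, Subtype.ext ?_⟩
      change (w * t * w⁻¹) ^ orderOf u = 1
      rw [hu, orderOf_mk, conj_pow, pow_orderOf_eq_one, mul_one, mul_inv_cancel]
    rw [← heq, Finset.mem_image] at hu'mem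
    obtain ⟨k, hk, hku⟩ := hu'mem
    exact ⟨k, by simpa [hu] using hk, (congrArg Subtype.val hku).symm⟩
  obtain ⟨k, hk, hkw⟩ := hpow
  have hord : orderOf (t ^ k) = orderOf t := by
    rw [← hkw]; exact orderOf_injective (MulAut.conj w).toMonoidHom (MulAut.conj w).injective t
  refine hsq ?_
  rw [commute_iff_eq, ← mul_inv_eq_iff_eq_mul,
    show w * w * t * (w * w)⁻¹ = w * (w * t * w⁻¹) * w⁻¹ by group, hkw, ← conj_pow, hkw, ← pow_mul]
  have hk2 : k * k % orderOf t = 1 % orderOf t := by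
    rcases hts with h | ⟨-, h⟩ <;> rw [h] at hk hord ⊢ <;> interval_cases k
    · simp at hord
    · rfl
    · simp at hord
    · rfl
    · exact absurd (orderOf_dvd_of_pow_eq_one (show (t ^ 2) ^ 2 = 1 by
        rw [← pow_mul, show 2 * 2 = orderOf t from h.symm, pow_orderOf_eq_one])) (by rw [hord]; decide)
    · rfl
  rw [← pow_mod_orderOf, hk2, pow_mod_orderOf, pow_one]

theorem fix_two_maximal {X : Type*} [Group X] [Finite X] {F : Subgroup X} (hF : IsPGroup 2 F)
    (hnc : ¬ IsCyclic F) {w : X} (hw : Odd (orderOf w))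
    (hmax : ∀ M : Subgroup F, M.index = 2 → w ∈ normalizer (M.map F.subtype : Set X)) :
    ∀ t ∈ F, Commute w t := by
  classical
  haveI := Fact.mk Nat.prime_two
  have hidx : ∀ M : Subgroup F, IsCoatom M → M.index = 2 := fun M hM =>
    (CfsgLib.PGroupBasic.coatom_normal_index hF hM).2
  -- `F` is covered by its maximal subgroups
  have hcover : ∀ x : F, ∃ M : Subgroup F, IsCoatom M ∧ x ∈ M := by
    intro x
    rcases eq_top_or_exists_le_coatom (zpowers x) with h | ⟨M, hM, hle⟩
    · exact absurd ⟨⟨x, fun y => (h.symm ▸ mem_top y : y ∈ zpowers x)⟩⟩ hnc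
    · exact ⟨M, hM, hle (mem_zpowers x)⟩
  have key : ∀ v : X, (∀ M : Subgroup F, M.index = 2 → v ∈ normalizer (M.map F.subtype : Set X)) →
      ∀ x : F, v * (x : X) * v⁻¹ ∈ F := by
    intro v hv x
    obtain ⟨M, hM, hxM⟩ := hcover x
    exact map_subtype_le M ((mem_normalizer_iff.1 (hv M (hidx M hM)) (x : X)).1 ⟨x, hxM, rfl⟩)
  have hwF : w ∈ normalizer (F : Set X) := by
    rw [mem_normalizer_iff]
    intro h
    refine ⟨fun hh => key w hmax ⟨h, hh⟩, fun hh => ?_⟩
    have := key w⁻¹ (fun M hM => inv_mem (hmax M hM)) ⟨_, hh⟩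
    simpa [mul_assoc] using this
  obtain ⟨e, he⟩ := IsPGroup.iff_card.1 (hF.to_subgroup (frattini F))
  have hle := CfsgLib.CoprimeAct.trivial_on_frattini_quotient (A := zpowers w) (K := F)
    (zpowers_le.2 hwF) (by
      rw [Nat.card_zpowers, he]; exact (Nat.coprime_two_right.2 hw).pow_right e) ?_
  · exact fun t ht => (mem_centralizer_iff.1 (hle (mem_zpowers w)) t ht).symm
  intro a ha k hk
  have haF : a ∈ normalizer (F : Set X) := (zpowers_le.2 hwF) ha
  refine ⟨⟨a * k * a⁻¹, (mem_normalizer_iff.1 haF k).1 hk⟩ * (⟨k, hk⟩ : F)⁻¹, ?_, rfl⟩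
  rw [SetLike.mem_coe, frattini, Order.radical, mem_iInf]
  intro M
  rw [mem_iInf]
  intro hM
  have hi := hidx M hM
  rw [mul_mem_iff_of_index_two hi, inv_mem_iff]
  constructor
  · intro h
    obtain ⟨y, hy, hye⟩ := (mem_normalizer_iff.1 ((zpowers_le.2 (hmax M hi)) ha) k).2 ⟨_, h, rfl⟩
    rwa [show y = ⟨k, hk⟩ from Subtype.ext hye] at hy
  · intro h
    obtain ⟨y, hy, hye⟩ := (mem_normalizer_iff.1 ((zpowers_le.2 (hmax M hi)) ha) k).1 ⟨_, h, rfl⟩
    rwa [show y = ⟨a * k * a⁻¹, (mem_normalizer_iff.1 haF k).1 hk⟩ from Subtype.ext hye] at hy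

/-- Let P be a 2-subgroup and A a subgroup of odd order of a finite group, with A normalizing P. Let D ≤ P with 1 < |D| < |P|. If every subgroup of P of order |D|, and also every subgroup of P of order 4 in case |D| = 2, is normalized by A, then A centralizes P. -/
theorem result {X : Type*} [Group X] [Finite X] (P A D : Subgroup X) (hP : IsPGroup 2 P) (hA : Odd (Nat.card A))
    (hAP : A ≤ Subgroup.normalizer (P : Set X)) (hDP : D ≤ P) (hD1 : 1 < Nat.card D) (hD2 : Nat.card D < Nat.card P)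
    (hinv : ∀ E : Subgroup X, E ≤ P → (Nat.card E = Nat.card D ∨ (Nat.card D = 2 ∧ Nat.card E = 4)) → A ≤ Subgroup.normalizer (E : Set X)) :
    A ≤ Subgroup.centralizer (P : Set X) := by
  haveI := Fact.mk Nat.prime_two
  obtain ⟨d, hd⟩ := IsPGroup.iff_card.1 (hP.to_le hDP)
  obtain ⟨n, hn⟩ := IsPGroup.iff_card.1 hP
  have hd1 : 1 ≤ d := by
    rcases Nat.eq_zero_or_pos d with h | h
    · rw [hd, h, pow_zero] at hD1; omega
    · exact h
  have hdn : d + 1 ≤ n := by
    rw [hd, hn] at hD2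
    exact (Nat.pow_lt_pow_iff_right (by norm_num)).1 hD2
  intro w hwA
  have hw : Odd (orderOf w) := hA.of_dvd_nat (Subgroup.orderOf_dvd_natCard A hwA)
  rw [Subgroup.mem_centralizer_iff]
  intro t ht
  refine (CfsgLib.OrderPFix.commute_of_commute_small hP (Nat.coprime_two_right.2 hw) (hAP hwA)
    ?_ t ht).eq.symm
  intro s hs hsm
  have hs4 : ∃ j, j ≤ d + 1 ∧ orderOf s = 2 ^ j ∧ (d < j → d = 1 ∧ orderOf s = 4) := by
    rcases hsm with h | ⟨-, h⟩
    · exact ⟨1, by omega, h, fun h' => by omega⟩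
    · exact ⟨2, by omega, h, fun h' => ⟨by omega, h⟩⟩
  obtain ⟨j, hj, hjo, hj4⟩ := hs4
  obtain ⟨F₀, hF₀, hsF₀⟩ := Sylow.exists_subgroup_card_pow_prime_le 2 (G := P) (m := d + 1)
    (hn ▸ pow_dvd_pow 2 hdn) (Subgroup.zpowers (⟨s, hs⟩ : P))
    (by rw [Nat.card_zpowers, Subgroup.orderOf_mk, hjo]) hj
  set F := F₀.map P.subtype with hF
  have hFP : F ≤ P := Subgroup.map_subtype_le _
  have hsF : s ∈ F := ⟨⟨s, hs⟩, hsF₀ (Subgroup.mem_zpowers _), rfl⟩
  have hFc : Nat.card F = 2 ^ (d + 1) := by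
    rw [hF, Subgroup.card_map_of_injective P.subtype_injective, hF₀]
  have hFp : IsPGroup 2 F := hP.to_le hFP
  have hmax : ∀ M : Subgroup F, M.index = 2 → A ≤ Subgroup.normalizer (M.map F.subtype : Set X) := by
    intro M hM
    refine hinv _ ((Subgroup.map_subtype_le M).trans hFP) (Or.inl ?_)
    rw [Subgroup.card_map_of_injective F.subtype_injective, hd]
    have := M.card_mul_index
    rw [hM, hFc, pow_succ] at this
    omega
  by_cases hcyc : IsCyclic F
  · by_cases hjd : d < j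
    · obtain ⟨hd1', h4⟩ := hj4 hjd
      refine fix_cyclic (hP.to_le (Subgroup.zpowers_le.2 hs)) inferInstance hw
        (hinv _ (Subgroup.zpowers_le.2 hs) (Or.inr ⟨?_, ?_⟩) hwA) s (Subgroup.mem_zpowers s)
      · rw [hd, hd1']; norm_num
      · rw [Nat.card_zpowers, h4]
    · obtain ⟨E, hE, hsE⟩ := Sylow.exists_subgroup_card_pow_prime_le 2 (G := F) (m := d)
        (hFc ▸ pow_dvd_pow 2 (Nat.le_succ d)) (Subgroup.zpowers (⟨s, hsF⟩ : F))
        (by rw [Nat.card_zpowers, Subgroup.orderOf_mk, hjo]) (not_lt.1 hjd)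
      have hEi : E.index = 2 := by
        have := E.card_mul_index
        rw [hE, hFc, pow_succ] at this
        exact Nat.eq_of_mul_eq_mul_left (by positivity) this
      refine fix_cyclic (hFp.to_subgroup E |>.map F.subtype) ?_ hw (hmax E hEi hwA) s
        ⟨_, hsE (Subgroup.mem_zpowers _), rfl⟩
      haveI := hcyc
      exact isCyclic_of_surjective _
        (E.equivMapOfInjective F.subtype F.subtype_injective).surjective
  · exact fix_two_maximal hFp hcyc hw (fun M hM => hmax M hM hwA) s hsF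

end Cfsg.Agent.S3803
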