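import Cfsg.Statements.S3804
import Mathlib.Analysis.SpecialFunctions.Pow.Real
import Cfsg.Agent.LocalB.ChermakDelgado

set_option autoImplicit false
open Cfsg

namespace Cfsg.Agent.S3804

open Subgroup Pointwise

/-- The measure. -/
noncomputable abbrev mu {X : Type*} [Group X] (H : Subgroup X) (α : ℝ) (A : Subgroup X) : ℝ :=
  ((Nat.card A : ℝ) ^ α) * (Nat.card ↥(H ⊓ centralizer (A : Set X)) : ℝ)

theorem main {X : Type*} [Group X] [Finite X] (G H : Subgroup X) (α : ℝ) (hα : 0 < α)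
    (A B : Subgroup X) (hA : A ≤ G) (hB : B ≤ G) (hA1 : A ≠ ⊥) (hB1 : B ≠ ⊥)
    (hAmax : ∀ A' : Subgroup X, A' ≤ G → A' ≠ ⊥ → mu H α A' ≤ mu H α A)
    (hBmax : ∀ A' : Subgroup X, A' ≤ G → A' ≠ ⊥ → mu H α A' ≤ mu H α B)
    (hcase : A ⊓ B ≠ ⊥ ∨ (Nat.card H : ℝ) ≤ mu H α A) :
    ∃ D : ℝ, 0 < D ∧ mu H α (A ⊔ B) = mu H α A ∧
      (((A ⊔ B : Subgroup X) : Set X) = (A : Set X) * (B : Set X)) ∧
      (A ⊓ B ≠ ⊥ → mu H α (A ⊓ B) = mu H α A) ∧
      ((H ⊓ centralizer ((A ⊓ B : Subgroup X) : Set X) : Subgroup X) : Set X) ⊆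
        ((H ⊓ centralizer (A : Set X) : Subgroup X) : Set X) *
          ((H ⊓ centralizer (B : Set X) : Subgroup X) : Set X) := by
  set CA := H ⊓ centralizer (A : Set X)
  set CB := H ⊓ centralizer (B : Set X)
  set J := A ⊔ B
  set I := A ⊓ B
  have hsub : ((CA : Set X) * (CB : Set X)) ⊆ ((H ⊓ centralizer (I : Set X) : Subgroup X) : Set X) := by
    rintro _ ⟨u, hu, v, hv, rfl⟩
    exact mul_mem (s := (H ⊓ centralizer (I : Set X) : Subgroup X))
      ⟨hu.1, centralizer_le inf_le_left hu.2⟩ ⟨hv.1, centralizer_le inf_le_right hv.2⟩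
  have hinf : CA ⊓ CB = H ⊓ centralizer (J : Set X) := by
    ext x
    simp only [CA, CB, J, mem_inf]
    constructor
    · rintro ⟨⟨h1, h2⟩, -, h3⟩
      exact ⟨h1, zpowers_le.1 (le_centralizer_iff.1 (sup_le (le_centralizer_iff.1 (zpowers_le.2 h2))
        (le_centralizer_iff.1 (zpowers_le.2 h3))))⟩
    · rintro ⟨h1, h2⟩
      exact ⟨⟨h1, centralizer_le (show A ≤ A ⊔ B from le_sup_left) h2⟩, h1, centralizer_le (show B ≤ A ⊔ B from le_sup_right) h2⟩
  have e1 : Nat.card A * Nat.card B ≤ Nat.card J * Nat.card I := by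
    rw [← CfsgLib.LocalB.CD.ncard_mul A B]
    exact Nat.mul_le_mul_right _ (CfsgLib.LocalB.CD.ncard_mul_le A B)
  have e2' : ((CA : Set X) * (CB : Set X)).ncard ≤ Nat.card ↥(H ⊓ centralizer (I : Set X)) := by
    rw [← SetLike.coe_sort_coe, Nat.card_coe_set_eq]
    exact Set.ncard_le_ncard hsub (Set.toFinite _)
  have e2 : Nat.card CA * Nat.card CB ≤
      Nat.card ↥(H ⊓ centralizer (I : Set X)) * Nat.card ↥(H ⊓ centralizer (J : Set X)) := by
    rw [← CfsgLib.LocalB.CD.ncard_mul CA CB, hinf]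
    exact Nat.mul_le_mul_right _ e2'
  have r1 : (Nat.card A : ℝ) ^ α * (Nat.card B : ℝ) ^ α ≤ (Nat.card J : ℝ) ^ α * (Nat.card I : ℝ) ^ α := by
    rw [← Real.mul_rpow (Nat.cast_nonneg _) (Nat.cast_nonneg _), ← Real.mul_rpow (Nat.cast_nonneg _) (Nat.cast_nonneg _)]
    exact Real.rpow_le_rpow (by positivity) (by exact_mod_cast e1) hα.le
  have r2 : (Nat.card CA : ℝ) * Nat.card CB ≤
      (Nat.card ↥(H ⊓ centralizer (I : Set X)) : ℝ) * Nat.card ↥(H ⊓ centralizer (J : Set X)) := by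
    exact_mod_cast e2
  have hM : mu H α B = mu H α A := le_antisymm (hAmax B hB hB1) (hBmax A hA hA1)
  have hJ1 : mu H α J ≤ mu H α A :=
    hAmax J (sup_le hA hB) fun h => hA1 (le_bot_iff.1 (le_sup_left.trans h.le))
  have hI1 : mu H α I ≤ mu H α A := by
    by_cases h : I = ⊥
    · refine le_trans ?_ (hcase.resolve_left (not_not.2 h))
      simp only [mu, h, card_bot, Nat.cast_one, Real.one_rpow, one_mul]
      exact_mod_cast card_le_of_le (inf_le_left : H ⊓ centralizer ((⊥ : Subgroup X) : Set X) ≤ H)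
    · exact hAmax I (inf_le_left.trans hA) h
  have pA : (0 : ℝ) < (Nat.card A : ℝ) ^ α := Real.rpow_pos_of_pos (by exact_mod_cast Nat.card_pos) α
  have pB : (0 : ℝ) < (Nat.card B : ℝ) ^ α := Real.rpow_pos_of_pos (by exact_mod_cast Nat.card_pos) α
  have pJ : (0 : ℝ) < (Nat.card J : ℝ) ^ α := Real.rpow_pos_of_pos (by exact_mod_cast Nat.card_pos) α
  have pI : (0 : ℝ) < (Nat.card I : ℝ) ^ α := Real.rpow_pos_of_pos (by exact_mod_cast Nat.card_pos) α
  have qA : (0 : ℝ) < Nat.card CA := by exact_mod_cast Nat.card_pos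
  have qB : (0 : ℝ) < Nat.card CB := by exact_mod_cast Nat.card_pos
  have hMpos : 0 < mu H α A := mul_pos pA qA
  have hprod : mu H α A * mu H α A ≤ mu H α J * mu H α I := by
    calc mu H α A * mu H α A = mu H α A * mu H α B := by rw [hM]
      _ = ((Nat.card A : ℝ) ^ α * (Nat.card B : ℝ) ^ α) * ((Nat.card CA : ℝ) * Nat.card CB) := by
          simp only [mu, CA, CB]; ring
      _ ≤ ((Nat.card J : ℝ) ^ α * (Nat.card I : ℝ) ^ α) * _ := mul_le_mul r1 r2 (by positivity) (by positivity)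
      _ = mu H α J * mu H α I := by simp only [mu]; ring
  have hIpos : 0 < mu H α I := mul_pos pI (by exact_mod_cast Nat.card_pos)
  have hJeq : mu H α J = mu H α A := by
    refine le_antisymm hJ1 (le_of_mul_le_mul_right ?_ hMpos)
    exact hprod.trans (mul_le_mul_of_nonneg_left hI1 (mul_pos pJ (by exact_mod_cast Nat.card_pos)).le)
  have hIeq : mu H α I = mu H α A := by
    refine le_antisymm hI1 (le_of_mul_le_mul_left ?_ hMpos)
    rw [hJeq] at hprod
    exact hprod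
  have htot : ((Nat.card A : ℝ) ^ α * (Nat.card B : ℝ) ^ α) * ((Nat.card CA : ℝ) * Nat.card CB) =
      ((Nat.card J : ℝ) ^ α * (Nat.card I : ℝ) ^ α) *
        ((Nat.card ↥(H ⊓ centralizer (I : Set X)) : ℝ) * Nat.card ↥(H ⊓ centralizer (J : Set X))) := by
    calc _ = mu H α A * mu H α B := by simp only [mu, CA, CB]; ring
      _ = mu H α J * mu H α I := by rw [hM, hJeq, hIeq]
      _ = _ := by simp only [mu]; ring
  refine ⟨1, one_pos, hJeq, ?_, fun _ => hIeq, ?_⟩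
  · refine CfsgLib.LocalB.CD.ncard_mul_eq_iff A B ?_
    by_contra hlt
    rw [not_le] at hlt
    have h1 : Nat.card A * Nat.card B < Nat.card J * Nat.card I := by
      rw [← CfsgLib.LocalB.CD.ncard_mul A B]
      exact Nat.mul_lt_mul_of_pos_right hlt Nat.card_pos
    have h2 : (Nat.card A : ℝ) ^ α * (Nat.card B : ℝ) ^ α < (Nat.card J : ℝ) ^ α * (Nat.card I : ℝ) ^ α := by
      rw [← Real.mul_rpow (Nat.cast_nonneg _) (Nat.cast_nonneg _), ← Real.mul_rpow (Nat.cast_nonneg _) (Nat.cast_nonneg _)]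
      exact Real.rpow_lt_rpow (by positivity) (by exact_mod_cast h1) hα
    exact htot.not_lt (mul_lt_mul_of_pos_of_nonneg' h2 r2 (mul_pos qA qB) (by positivity))
  · refine (Set.eq_of_subset_of_ncard_le hsub ?_ (Set.toFinite _)).ge
    rw [← Nat.card_coe_set_eq, SetLike.coe_sort_coe]
    by_contra hlt
    rw [not_le] at hlt
    have h1 : Nat.card CA * Nat.card CB <
        Nat.card ↥(H ⊓ centralizer (I : Set X)) * Nat.card ↥(H ⊓ centralizer (J : Set X)) := by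
      rw [← CfsgLib.LocalB.CD.ncard_mul CA CB, hinf]
      exact Nat.mul_lt_mul_of_pos_right hlt Nat.card_pos
    have h2 : (Nat.card CA : ℝ) * Nat.card CB <
        (Nat.card ↥(H ⊓ centralizer (I : Set X)) : ℝ) * Nat.card ↥(H ⊓ centralizer (J : Set X)) := by
      exact_mod_cast h1
    exact htot.not_lt (mul_lt_mul_of_le_of_lt_of_nonneg_of_pos r1 h2 (by positivity) (mul_pos pJ pI))


/-- Let G and H be subgroups of a finite group with G normalizing H, fix a real number α > 0, and for a subgroup A of G put m(A) = |A|^α · |C_H(A)|. Let A and B be nontrivial subgroups of G at which m attains its maximum over all nontrivial subgroups of G, and assume that A ∩ B ≠ 1 or that this maximum is at least |H|. Then AB = BA is a subgroup at which m is again maximal, C_H(A ∩ B) = C_H(A) C_H(B), and if A ∩ B ≠ 1 then m is maximal at A ∩ B as well. -/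
theorem result {X : Type*} [Group X] [Finite X] (G H : Subgroup X) (hGH : G ≤ Subgroup.normalizer (H : Set X)) (α : ℝ) (hα : 0 < α)
    (A B : Subgroup X) (hA : A ≤ G) (hB : B ≤ G) (hA1 : A ≠ ⊥) (hB1 : B ≠ ⊥)
    (hAmax : ∀ A' : Subgroup X, A' ≤ G → A' ≠ ⊥ → (fun A : Subgroup X => ((Nat.card A : ℝ) ^ α) * (Nat.card ↥(H ⊓ Subgroup.centralizer (A : Set X)) : ℝ)) A' ≤ (fun A : Subgroup X => ((Nat.card A : ℝ) ^ α) * (Nat.card ↥(H ⊓ Subgroup.centralizer (A : Set X)) : ℝ)) A)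
    (hBmax : ∀ A' : Subgroup X, A' ≤ G → A' ≠ ⊥ → (fun A : Subgroup X => ((Nat.card A : ℝ) ^ α) * (Nat.card ↥(H ⊓ Subgroup.centralizer (A : Set X)) : ℝ)) A' ≤ (fun A : Subgroup X => ((Nat.card A : ℝ) ^ α) * (Nat.card ↥(H ⊓ Subgroup.centralizer (A : Set X)) : ℝ)) B)
    (hcase : A ⊓ B ≠ ⊥ ∨ (Nat.card H : ℝ) ≤ (fun A : Subgroup X => ((Nat.card A : ℝ) ^ α) * (Nat.card ↥(H ⊓ Subgroup.centralizer (A : Set X)) : ℝ)) A) :
    (∀ a ∈ A, ∀ b ∈ B, ∃ b' ∈ B, ∃ a' ∈ A, a * b = b' * a') ∧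
    (∀ A' : Subgroup X, A' ≤ G → A' ≠ ⊥ → (fun A : Subgroup X => ((Nat.card A : ℝ) ^ α) * (Nat.card ↥(H ⊓ Subgroup.centralizer (A : Set X)) : ℝ)) A' ≤ (fun A : Subgroup X => ((Nat.card A : ℝ) ^ α) * (Nat.card ↥(H ⊓ Subgroup.centralizer (A : Set X)) : ℝ)) (A ⊔ B)) ∧
    (∀ h ∈ H ⊓ Subgroup.centralizer ((A ⊓ B : Subgroup X) : Set X), ∃ u ∈ H ⊓ Subgroup.centralizer (A : Set X), ∃ v ∈ H ⊓ Subgroup.centralizer (B : Set X), h = u * v) ∧
    (A ⊓ B ≠ ⊥ → ∀ A' : Subgroup X, A' ≤ G → A' ≠ ⊥ → (fun A : Subgroup X => ((Nat.card A : ℝ) ^ α) * (Nat.card ↥(H ⊓ Subgroup.centralizer (A : Set X)) : ℝ)) A' ≤ (fun A : Subgroup X => ((Nat.card A : ℝ) ^ α) * (Nat.card ↥(H ⊓ Subgroup.centralizer (A : Set X)) : ℝ)) (A ⊓ B)) := by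
  obtain ⟨D, hD, hJ, hAB, hI, hC⟩ := main G H α hα A B hA hB hA1 hB1 hAmax hBmax hcase
  refine ⟨fun a ha b hb => ?_, fun A' h1 h2 => (hAmax A' h1 h2).trans hJ.ge, fun h hh => ?_,
    fun h1 A' h2 h3 => (hAmax A' h2 h3).trans (hI h1).ge⟩
  · have hmem : (a * b)⁻¹ ∈ ((A ⊔ B : Subgroup X) : Set X) :=
      inv_mem (mul_mem_sup ha hb)
    rw [hAB] at hmem
    obtain ⟨a', ha', b', hb', h⟩ := hmem
    exact ⟨b'⁻¹, inv_mem hb', a'⁻¹, inv_mem ha', by
      rw [← inv_inv (a * b), ← h, mul_inv_rev]⟩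
  · have := hC hh
    obtain ⟨u, hu, v, hv, h'⟩ := this
    exact ⟨u, hu, v, hv, h'.symm⟩

end Cfsg.Agent.S3804
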