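import Cfsg.Statements.S3807
import Cfsg.Agent.FGSA.AbelianIndexP

set_option autoImplicit false
open Cfsg

namespace Cfsg.Agent.S3807

open scoped commutatorElement

/-- Let S be a non-abelian finite p-group with an abelian subgroup A of index p. Then [S : Z(S)] = p·#[S,S], and either [S,S] has order p, S/Z(S) is elementary abelian of order p², and S has exactly p + 1 abelian subgroups of index p; or [S,S] has order at least p² and A is the only abelian subgroup of index p in S. -/
theorem result {S : Type*} [Group S] [Finite S] (p : ℕ) [Fact p.Prime] (hS : IsPGroup p S) (hna : ¬ IsMulCommutative S)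
    (A : Subgroup S) (hA : IsMulCommutative ↥A) (hAi : A.index = p) :
    (Subgroup.center S).index = p * Nat.card (commutator S) ∧
      ((Nat.card (commutator S) = p ∧ Cfsg.IsElementaryAbelian p (⊤ : Subgroup (S ⧸ Subgroup.center S)) ∧
          Nat.card (S ⧸ Subgroup.center S) = p ^ 2 ∧
          Nat.card {B : Subgroup S // IsMulCommutative ↥B ∧ B.index = p} = p + 1) ∨
        (p ^ 2 ≤ Nat.card (commutator S) ∧ ∀ B : Subgroup S, IsMulCommutative ↥B → B.index = p → B = A)) := by
  have h1 := CfsgLib.AbelianIndexP.index_center_eq hS hna hA hAi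
  refine ⟨h1, ?_⟩
  have hne : Nat.card (commutator S) ≠ 1 := fun h => hna ⟨⟨fun a b => by
    rw [Subgroup.card_eq_one] at h
    rw [← commutatorElement_eq_one_iff_mul_comm, ← Subgroup.mem_bot, ← h, _root_.commutator_def]
    exact Subgroup.commutator_mem_commutator (Subgroup.mem_top a) (Subgroup.mem_top b)⟩⟩
  obtain ⟨k, hk⟩ := IsPGroup.iff_card.1 (hS.to_subgroup (commutator S))
  rcases Nat.lt_or_ge k 2 with hk2 | hk2
  · have hk1 : k = 1 := by
      rcases Nat.eq_zero_or_pos k with rfl | h
      · exact absurd (by simpa using hk) hne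
      · omega
    subst hk1
    rw [pow_one] at hk
    obtain ⟨a, b, c⟩ := CfsgLib.AbelianIndexP.card_abelian_index_prime hS hna hA hAi hk
    exact Or.inl ⟨hk, b, a, c⟩
  · refine Or.inr ⟨hk ▸ Nat.pow_le_pow_right (Fact.out : p.Prime).pos hk2, fun B hB hBi => ?_⟩
    by_contra hne'
    have h2 := CfsgLib.AbelianIndexP.card_commutator_le hS hna hA hAi hB hBi hne'
    rw [hk] at h2
    have h3 : p ^ 1 < p ^ k := Nat.pow_lt_pow_right (Fact.out : p.Prime).one_lt hk2
    rw [pow_one] at h3
    omega

end Cfsg.Agent.S3807
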