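import Cfsg.Statements.S3808
import Cfsg.Agent.FGSA.Extraspecial

set_option autoImplicit false
open Cfsg

namespace Cfsg.Agent.S3808

/-- Let S be a finite p-group with an extraspecial subgroup Q of index p. Then either Z(S) = Z(Q), or S = Q·Z(S) and Z(S) has order p². -/
theorem result {S : Type*} [Group S] [Finite S] (p : ℕ) [Fact p.Prime] (hS : IsPGroup p S) (Q : Subgroup S) (hQ : Cfsg.IsExtraspecial p ↥Q) (hQi : Q.index = p) :
    Subgroup.center S = (Subgroup.center ↥Q).map Q.subtype ∨
      (Q ⊔ Subgroup.center S = ⊤ ∧ Nat.card (Subgroup.center S) = p ^ 2) := by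
  haveI hQn := CfsgLib.AbelianIndexP.normal_of_index_prime hS hQi
  set Z := (Subgroup.center ↥Q).map Q.subtype with hZdef
  haveI hZn : Z.Normal := inferInstance
  have hZcard : Nat.card Z = p := by
    rw [hZdef, Subgroup.card_map_of_injective Q.subtype_injective, hQ.2]
  haveI := hS.isNilpotent
  have hZc : Z ≤ Subgroup.center S := by
    haveI : Fact (Nat.card Z).Prime := ⟨hZcard.symm ▸ Fact.out⟩
    have hne : Z ≠ ⊥ := fun h => by
      rw [h, Subgroup.card_bot] at hZcard
      exact (Fact.out : p.Prime).one_lt.ne hZcard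
    rcases ((Subgroup.center S).subgroupOf Z).eq_bot_or_eq_top_of_prime_card with h | h
    · exact absurd (disjoint_iff.1 (Subgroup.subgroupOf_eq_bot.1 h).symm)
        (CfsgLib.PGroupBasic.inf_center_ne_bot Z hne)
    · exact Subgroup.subgroupOf_eq_top.1 h
  have hinf : Subgroup.center S ⊓ Q = Z := by
    refine le_antisymm (fun g hg => ⟨⟨g, hg.2⟩, Subgroup.mem_center_iff.2 fun h =>
      Subtype.ext (Subgroup.mem_center_iff.1 hg.1 h), rfl⟩) (le_inf hZc (Subgroup.map_subtype_le _))
  by_cases hle : Subgroup.center S ≤ Q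
  · exact Or.inl (by rw [← hinf, inf_eq_left.2 hle])
  · have htop := CfsgLib.AbelianIndexP.eq_top_of_lt_of_index_prime (K := Q ⊔ Subgroup.center S)
      (Fact.out : p.Prime) hQi (left_lt_sup.2 hle)
    refine Or.inr ⟨htop, ?_⟩
    have h := CfsgLib.Solvable.card_sup_mul_card_inf (A := Subgroup.center S) (K := Q)
      Subgroup.le_normalizer_of_normal
    rw [sup_comm, htop, Subgroup.card_top, hinf, hZcard, ← Q.card_mul_index, hQi] at h
    exact Nat.eq_of_mul_eq_mul_right (Nat.card_pos (α := Q)) (h.symm.trans (by ring))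

end Cfsg.Agent.S3808
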