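import Cfsg.Statements.S3809
import Cfsg.Agent.FGSA.Extraspecial

set_option autoImplicit false
open Cfsg

namespace Cfsg.Agent.S3809

open scoped commutatorElement

/-- Let S be a finite p-group with an extraspecial subgroup of index p. Then S has order p^(2+2n) for some n ≥ 1, derived length at most 3, and exponent dividing p³. -/
theorem result {S : Type*} [Group S] [Finite S] (p : ℕ) [Fact p.Prime] (hS : IsPGroup p S) (Q : Subgroup S) (hQ : Cfsg.IsExtraspecial p ↥Q) (hQi : Q.index = p) :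
    (∃ n : ℕ, 1 ≤ n ∧ Nat.card S = p ^ (2 + 2 * n)) ∧ derivedSeries S 3 = ⊥ ∧ ∀ x : S, x ^ (p ^ 3) = 1 := by
  haveI hQn := CfsgLib.AbelianIndexP.normal_of_index_prime hS hQi
  obtain ⟨n, hn, hcard⟩ := CfsgLib.Extraspecial.card_eq hQ
  refine ⟨⟨n, hn, ?_⟩, ?_, fun x => ?_⟩
  · rw [← Q.card_mul_index, hcard, hQi, ← pow_succ]
    ring_nf
  · have h1 : derivedSeries S 1 ≤ Q := by
      rw [derivedSeries_one]
      exact CfsgLib.Uniserial.commutator_le_of_index_prime hQi
    have h2 : derivedSeries S 2 ≤ (Subgroup.center ↥Q).map Q.subtype := by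
      rw [derivedSeries_succ]
      refine (Subgroup.commutator_mono h1 h1).trans ?_
      rw [Subgroup.commutator_le]
      exact fun a ha b hb =>
        ⟨_, CfsgLib.Extraspecial.commutator_mem_center hQ ⟨a, ha⟩ ⟨b, hb⟩, rfl⟩
    rw [derivedSeries_succ, eq_bot_iff]
    refine (Subgroup.commutator_mono h2 h2).trans ?_
    rw [Subgroup.commutator_le]
    rintro _ ⟨a, ha, rfl⟩ _ ⟨b, -, rfl⟩
    rw [Subgroup.mem_bot, commutatorElement_eq_one_iff_mul_comm]
    exact (congrArg Subtype.val (Subgroup.mem_center_iff.1 ha b)).symm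
  · have h1 : x ^ p ∈ Q := by
      have h := pow_card_eq_one' (x := (x : S ⧸ Q))
      rw [← Subgroup.index_eq_card, hQi] at h
      exact (QuotientGroup.eq_one_iff _).1 (by simpa using h)
    rw [pow_succ' p 2, pow_mul]
    exact congrArg Subtype.val (CfsgLib.Extraspecial.sq_dvd hQ ⟨x ^ p, h1⟩)

end Cfsg.Agent.S3809
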