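import Cfsg.Statements.S3810
import Cfsg.Agent.FGSA.Extraspecial

set_option autoImplicit false
open Cfsg

namespace Cfsg.Agent.S3810

open scoped commutatorElement

theorem exists_abelian {S : Type*} [Group S] [Finite S] {p : ℕ} [Fact p.Prime] (hS : IsPGroup p S)
    (h4 : Nat.card S = p ^ 4) : ∃ A : Subgroup S, IsMulCommutative ↥A ∧ A.index = p := by
  have hp : p.Prime := Fact.out
  have index_of : ∀ A : Subgroup S, Nat.card A = p ^ 3 → A.index = p := fun A hA => by
    have h := A.card_mul_index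
    rw [hA, h4, pow_succ p 3] at h
    exact Nat.eq_of_mul_eq_mul_left (pow_pos hp.pos 3) h
  by_cases hab : IsMulCommutative S
  · obtain ⟨A, hA⟩ := Sylow.exists_subgroup_card_pow_prime (G := S) p (n := 3)
      (by rw [h4]; exact pow_dvd_pow p (by omega))
    exact ⟨A, ⟨⟨fun a b => Subtype.ext (hab.is_comm.comm _ _)⟩⟩, index_of A hA⟩
  haveI := hS.isNilpotent
  have hlt : Subgroup.center S < ⊤ := lt_top_iff_ne_top.2 fun h => hab ⟨⟨fun a b =>
    Subgroup.mem_center_iff.1 (h ▸ Subgroup.mem_top b) a⟩⟩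
  obtain ⟨x, -, hxZ, hx⟩ := CfsgLib.PGroupBasic.exists_central_mod _ _ hlt
  set B := Subgroup.zpowers x ⊔ Subgroup.center S with hB
  set C := Subgroup.centralizer ({x} : Set S) with hC
  have hZB : Subgroup.center S < B := right_lt_sup.2 fun h => hxZ (h (Subgroup.mem_zpowers x))
  have hBC : B ≤ C := sup_le (Subgroup.zpowers_le.2 (Subgroup.mem_centralizer_singleton_iff.2 rfl))
    (Subgroup.center_le_centralizer _)
  have hCB : C ≤ Subgroup.centralizer (B : Set S) := by
    rw [Subgroup.le_centralizer_iff]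
    refine sup_le (Subgroup.zpowers_le.2 (Subgroup.mem_centralizer_iff.2 fun c hc =>
      (Subgroup.mem_centralizer_singleton_iff.1 hc))) (Subgroup.center_le_centralizer _)
  obtain ⟨i, hi⟩ := IsPGroup.iff_card.1 (hS.to_subgroup (Subgroup.center S))
  obtain ⟨j, hj⟩ := IsPGroup.iff_card.1 (hS.to_subgroup B)
  obtain ⟨k, hk⟩ := IsPGroup.iff_card.1 (hS.to_subgroup C)
  have hij : i < j := (Nat.pow_lt_pow_iff_right hp.one_lt).1 (hi ▸ hj ▸ CfsgLib.AbelianIndexP.card_lt hZB)
  have hjk : j ≤ k := (Nat.pow_le_pow_iff_right hp.one_lt).1 (hj ▸ hk ▸ Subgroup.card_le_of_le hBC)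
  have hCne : C ≠ ⊤ := fun h => hxZ (Subgroup.mem_center_iff.2 fun g =>
    Subgroup.mem_centralizer_singleton_iff.1 (show g ∈ C from h ▸ Subgroup.mem_top g))
  have hk4 : k < 4 := (Nat.pow_lt_pow_iff_right hp.one_lt).1 (by
    rw [← hk, ← h4, ← Subgroup.card_top (G := S)]
    exact CfsgLib.AbelianIndexP.card_lt (lt_top_iff_ne_top.2 hCne))
  have hi1 : 1 ≤ i := by
    by_contra h0
    obtain rfl : i = 0 := by omega
    haveI : Nontrivial S := ⟨⟨x, 1, fun h => hxZ (h ▸ one_mem _)⟩⟩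
    haveI := hS.center_nontrivial
    have := (Subgroup.nontrivial_iff_ne_bot _).1 this
    exact this (Subgroup.card_eq_one.1 (by simpa using hi))
  have hk3 : 4 ≤ k + i := by
    let φ : S →* Subgroup.center S := MonoidHom.mk' (fun g => ⟨x * g * x⁻¹ * g⁻¹, hx g⟩) fun a b =>
      Subtype.ext (by
        show x * (a * b) * x⁻¹ * (a * b)⁻¹ = x * a * x⁻¹ * a⁻¹ * (x * b * x⁻¹ * b⁻¹)
        have h := Subgroup.mem_center_iff.1 (hx b) a⁻¹
        calc x * (a * b) * x⁻¹ * (a * b)⁻¹ = x * a * x⁻¹ * ((x * b * x⁻¹ * b⁻¹) * a⁻¹) := by group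
          _ = _ := by rw [← h]; group)
    have hker : φ.ker ≤ C := fun g hg => by
      have h := congrArg Subtype.val (MonoidHom.mem_ker.1 hg)
      exact Subgroup.mem_centralizer_singleton_iff.2 (commutatorElement_eq_one_iff_mul_comm.1 h).symm
    have h2 := φ.ker.card_mul_index
    rw [Subgroup.index_ker, h4] at h2
    refine (Nat.pow_le_pow_iff_right hp.one_lt).1 ?_
    rw [pow_add, ← h2, ← hk, ← hi]
    exact Nat.mul_le_mul (Subgroup.card_le_of_le hker) (Subgroup.card_le_card_group _)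
  by_cases hj3 : j = 3
  · exact ⟨B, ⟨⟨fun a b => Subtype.ext (Subgroup.mem_centralizer_iff.1 (hCB (hBC b.2)) a a.2)⟩⟩,
      index_of B (hj3 ▸ hj)⟩
  obtain rfl : k = 3 := by omega
  refine ⟨C, ⟨⟨fun a b => ?_⟩⟩, index_of C hk⟩
  have hcomm : ∀ u : C, (u : S) ∈ B → u ∈ Subgroup.center C := fun u hu =>
    Subgroup.mem_center_iff.2 fun v => Subtype.ext (Subgroup.mem_centralizer_iff.1 (hCB v.2) u hu).symm
  by_contra hne
  have hne' : ¬ IsMulCommutative C := fun h => hne (h.is_comm.comm a b)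
  have h1 := CfsgLib.AbelianIndexP.le_index_center (hS.to_subgroup C) hne'
  have h2 : p ^ j ≤ Nat.card (Subgroup.center C) := by
    rw [← hj, ← Nat.card_congr (Subgroup.subgroupOfEquivOfLe hBC).toEquiv]
    exact Subgroup.card_le_of_le fun u hu => hcomm u hu
  have h3 := (Subgroup.center C).index_mul_card
  rw [hk] at h3
  have h4 := Nat.mul_le_mul h1 h2
  rw [h3, ← pow_add] at h4
  have := (Nat.pow_le_pow_iff_right hp.one_lt).1 h4
  omega


/-- Let S be a finite p-group with an extraspecial subgroup of index p. Then S has an abelian subgroup of index p if and only if S has order p⁴. -/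
theorem result {S : Type*} [Group S] [Finite S] (p : ℕ) [Fact p.Prime] (hS : IsPGroup p S) (Q : Subgroup S) (hQ : Cfsg.IsExtraspecial p ↥Q) (hQi : Q.index = p) :
    (∃ A : Subgroup S, IsMulCommutative ↥A ∧ A.index = p) ↔ Nat.card S = p ^ 4 := by
  have hp : p.Prime := Fact.out
  constructor
  · rintro ⟨A, hA, hAi⟩
    have hna := CfsgLib.Extraspecial.not_isMulCommutative hQ
    have hne : ¬ Q ≤ A := fun h => hna ⟨⟨fun a b => Subtype.ext
      (congrArg Subtype.val (hA.is_comm.comm ⟨a, h a.2⟩ ⟨b, h b.2⟩) : (a : S) * b = _)⟩⟩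
    haveI := CfsgLib.AbelianIndexP.normal_of_index_prime hS hAi
    have hd : A.relIndex Q ∣ A.index := Subgroup.relIndex_dvd_index_of_normal A Q
    rw [hAi] at hd
    have hi : (A.subgroupOf Q).index = p :=
      ((Nat.dvd_prime hp).1 hd).resolve_left fun h => hne (Subgroup.relIndex_eq_one.1 h)
    have h3 := CfsgLib.Extraspecial.card_eq_cube hQ (A := A.subgroupOf Q)
      ⟨⟨fun a b => Subtype.ext (Subtype.ext
        (congrArg Subtype.val (hA.is_comm.comm ⟨a.1.1, a.2⟩ ⟨b.1.1, b.2⟩) : (a.1.1 : S) * b.1.1 = _))⟩⟩ hi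
    rw [← Q.card_mul_index, h3, hQi, ← pow_succ]
  · exact exists_abelian hS

end Cfsg.Agent.S3810
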