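import Cfsg.Statements.S3811
import Cfsg.Agent.FGSA.SoftTower

set_option autoImplicit false
open Cfsg

namespace Cfsg.Agent.S3811

open scoped commutatorElement

/-- Let P be a finite p-group and E an abelian subgroup of P that contains its centralizer, has index p in its normalizer, and has index at least p² in P. Then the subgroups of P containing E are totally ordered by inclusion, each proper one has index p in its normalizer (so they form the normalizer tower of E, with all steps of index p), and the i-th member of the tower above E has nilpotency class i + 1 whenever it is a proper subgroup of P. -/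
theorem result {P : Type*} [Group P] [Finite P] (p : ℕ) [Fact p.Prime] (hP : IsPGroup p P)
    (E : Subgroup P) (hEab : IsMulCommutative ↥E) (hC : Subgroup.centralizer (E : Set P) ≤ E)
    (hN : (E.subgroupOf (Subgroup.normalizer (E : Set P))).index = p) (hidx : p ^ 2 ≤ E.index) :
    (∀ K L : Subgroup P, E ≤ K → E ≤ L → K ≤ L ∨ L ≤ K) ∧
      (∀ K : Subgroup P, E ≤ K → K ≠ ⊤ → (K.subgroupOf (Subgroup.normalizer (K : Set P))).index = p) ∧
      ∀ (i : ℕ) (K : Subgroup P) [Group.IsNilpotent ↥K], E ≤ K → K ≠ ⊤ → K.index * p ^ i = E.index →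
        Group.nilpotencyClass ↥K = i + 1 := by
  have hp := (Fact.out : p.Prime)
  have hE : CfsgLib.Soft.IsSoft p E :=
    ⟨fun x hx y hy => congrArg Subtype.val (hEab.is_comm.comm (⟨x, hx⟩ : E) ⟨y, hy⟩), hC, hN⟩
  obtain ⟨hA, -, hcl⟩ := CfsgLib.Soft.tower hP hE
  refine ⟨CfsgLib.Soft.chain hP E hA, hA, fun i K _ hK hKt hi => ?_⟩
  have hup : Group.nilpotencyClass ↥K ≤ i + 1 := by
    rw [← Subgroup.lowerCentralSeries_eq_bot_iff_nilpotencyClass_le]
    refine Subgroup.map_injective K.subtype_injective ?_
    rw [Subgroup.top_subtype_lowerCentralSeries, hcl i K hK hKt hi, Subgroup.map_bot]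
  refine le_antisymm hup ?_
  by_contra hlow
  rw [not_le, Nat.lt_succ_iff] at hlow
  have hrel : E.relIndex K = p ^ i := by
    have h := Subgroup.relIndex_mul_index hK
    rw [← hi, mul_comm] at h
    exact Nat.eq_of_mul_eq_mul_left (Nat.pos_of_ne_zero Subgroup.index_ne_zero_of_finite) h
  rcases i with _ | i
  · have hsub : Subsingleton K :=
      Group.nilpotencyClass_zero_iff_subsingleton.1 (Nat.le_zero.1 hlow)
    have hbot : E = ⊥ := le_bot_iff.1 fun x hx =>
      congrArg Subtype.val (hsub.elim (⟨x, hK hx⟩ : K) 1)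
    refine hE.ne_top (eq_top_iff.2 fun x _ => hC (Subgroup.mem_centralizer_iff.2 fun a ha => ?_))
    rw [hbot] at ha
    rw [Subgroup.mem_bot.1 ha, one_mul, mul_one]
  let T : ℕ → Subgroup P := fun j => E ⊔ (Subgroup.upperCentralSeries K (j + 1)).map K.subtype
  have hTK : ∀ j, T j ≤ K := fun j => sup_le hK (Subgroup.map_subtype_le _)
  have hbound : ∀ j, E.relIndex (T j) ≤ p ^ j := by
    intro j
    induction j with
    | zero =>
      have h : (Subgroup.upperCentralSeries K (0 + 1)).map K.subtype ≤ E := by
        rw [zero_add, Subgroup.upperCentralSeries_one]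
        rintro _ ⟨x, hx, rfl⟩
        exact hC (Subgroup.mem_centralizer_iff.2 fun a ha =>
          congrArg Subtype.val (Subgroup.mem_center_iff.1 hx ⟨a, hK ha⟩))
      rw [pow_zero, show T 0 = E from sup_eq_left.2 h, Subgroup.relIndex_self]
    | succ j ih =>
      have hle : T j ≤ T (j + 1) :=
        sup_le_sup_left (Subgroup.map_mono (Subgroup.upperCentralSeries_mono K (Nat.le_succ _))) E
      have hnorm : T (j + 1) ≤ Subgroup.normalizer (T j : Set P) := by
        refine sup_le ((le_sup_left : E ≤ T j).trans Subgroup.le_normalizer) ?_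
        rintro _ ⟨x, hx, rfl⟩
        have key : ∀ y ∈ T j, ∀ x' : K, x' ∈ Subgroup.upperCentralSeries K (j + 1 + 1) →
            (x' : P) * y * (x' : P)⁻¹ ∈ T j := by
          intro y hy x' hx'
          have h : ⁅x', (⟨y, hTK j hy⟩ : K)⁆ ∈ Subgroup.upperCentralSeries K (j + 1) :=
            Subgroup.mem_upperCentralSeries_succ_iff.1 hx' _
          have h2 : ((⁅x', (⟨y, hTK j hy⟩ : K)⁆ : K) : P) * y ∈ T j :=
            mul_mem (Subgroup.mem_sup_right ⟨_, h, rfl⟩) hy
          simpa [commutatorElement_def] using h2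
        rw [Subgroup.mem_normalizer_iff]
        refine fun y => ⟨fun hy => key y hy x hx, fun hy => ?_⟩
        have h := key _ hy x⁻¹ (inv_mem hx)
        simpa [mul_assoc] using h
      have hjne : T j ≠ ⊤ := fun h => hKt (top_le_iff.1 (h ▸ hTK j))
      have h2 := hA (T j) le_sup_left hjne
      rw [← Subgroup.relIndex_mul_relIndex E (T j) _ le_sup_left hle, pow_succ]
      refine Nat.mul_le_mul ih ?_
      calc (T j).relIndex (T (j + 1)) ≤ (T j).relIndex (Subgroup.normalizer (T j : Set P)) :=
            Subgroup.relIndex_le_of_le_right hnorm (by rw [h2]; exact hp.ne_zero)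
        _ = p := h2
  have htop : T i = K := by
    refine le_antisymm (hTK i) fun x hx => Subgroup.mem_sup_right ⟨⟨x, hx⟩, ?_, rfl⟩
    rw [Subgroup.upperCentralSeries_eq_top_iff_nilpotencyClass_le.2 hlow]
    exact Subgroup.mem_top _
  have h := hbound i
  rw [htop, hrel, Nat.pow_le_pow_iff_right hp.one_lt] at h
  omega

end Cfsg.Agent.S3811
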