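import Cfsg.Statements.S3814
import Cfsg.Agent.FourPrimes.CaseOne
import Cfsg.Agent.FourPrimes.CaseTwo
import Cfsg.Agent.FourPrimes.CaseThree
import Cfsg.Agent.PrimeGraph.Lucido
-- import your own Cfsg.Agent.* helpers here

set_option autoImplicit false
open Cfsg

namespace Cfsg.Agent.S3814


open Subgroup CfsgLib.FourPrimes CfsgLib.Lucido Pointwise

/-- Every prime of `σ` has a rank-two subgroup. -/
theorem exists_sq.{v} {G : Type v} [Group G] [Finite G] [Group.IsSolvable G] {σ : Finset ℕ} (hσ : 4 ≤ σ.card)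
    (hprime : ∀ p ∈ σ, p.Prime) (h2 : ∀ p ∈ σ, ∀ q ∈ σ, p ≠ q → ∃ g : G, orderOf g = p * q)
    (hno : NoTriple G (σ : Set ℕ)) {x : ℕ} (hx : x ∈ σ) : HasSq (⊤ : Subgroup G) x := by
  haveI := Fact.mk (hprime x hx)
  by_contra hsq
  have huniq : ∀ T : Sylow x G, ∀ a ∈ (T : Subgroup G), ∀ b ∈ (T : Subgroup G),
      orderOf a = x → orderOf b = x → b ∈ zpowers a := by
    intro T a ha b hb hao hbo
    by_contra hba
    obtain ⟨z, hz, hz1⟩ : ∃ z ∈ omegaCenter (T : Subgroup G) x, z ≠ 1 := by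
      by_contra h
      push Not at h
      refine omegaCenter_ne_bot (T : Subgroup G) T.isPGroup' (fun hbot => ?_) ((eq_bot_iff_forall _).2 h)
      rw [hbot, mem_bot] at ha
      exact ne_one_of_order hao ha
    have hzo : orderOf z = x := orderOf_eq_prime hz.2.2 hz1
    have hin : ∀ c ∈ (T : Subgroup G), orderOf c = x → c ∈ zpowers z := by
      intro c hc hco
      by_contra hcz
      obtain ⟨E, hE, hE2, -, -, -, -⟩ := exists_pair hzo hco (hz.2.1 c hc).symm hcz
      exact hsq ⟨E, le_top, hE, hE2⟩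
    have h3 : zpowers a = zpowers z := eq_of_le_of_card_ge (zpowers_le.2 (hin a ha hao))
      (by rw [Nat.card_zpowers, Nat.card_zpowers, hao, hzo])
    exact hba (h3.symm ▸ hin b hb hbo)
  obtain ⟨T⟩ : Nonempty (Sylow x G) := inferInstance
  have hcard : 3 ≤ (σ.erase x).card := by rw [Finset.card_erase_of_mem hx]; omega
  obtain ⟨y₀, hy₀⟩ := Finset.card_pos.1 (by omega : 0 < (σ.erase x).card)
  have hpairs : ∀ y ∈ σ.erase x, ∃ a b : G, orderOf a = x ∧ orderOf b = y ∧ Commute a b := by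
    intro y hy
    obtain ⟨g, hg⟩ := h2 x hx y (Finset.mem_of_mem_erase hy) (Finset.ne_of_mem_erase hy).symm
    refine ⟨g ^ y, g ^ x, ?_, ?_, (Commute.refl g).pow_pow y x⟩
    · rw [orderOf_pow_of_dvd (hprime y (Finset.mem_of_mem_erase hy)).ne_zero (hg ▸ dvd_mul_left y x), hg,
        Nat.mul_div_cancel _ (hprime y (Finset.mem_of_mem_erase hy)).pos]
    · rw [orderOf_pow_of_dvd (hprime x hx).ne_zero (hg ▸ dvd_mul_right x y), hg,
        Nat.mul_div_cancel_left _ (hprime x hx).pos]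
  obtain ⟨a₀, -, ha₀, -, -⟩ := hpairs y₀ hy₀
  have hC : ∀ y ∈ σ.erase x, y ∣ Nat.card (centralizer ({a₀} : Set G)) := by
    intro y hy
    obtain ⟨a, b, hao, hbo, hab⟩ := hpairs y hy
    obtain ⟨T₀, hT₀⟩ := (IsPGroup.of_card (p := x) (n := 1) (by
      rw [Nat.card_zpowers, ha₀, pow_one]) : IsPGroup x (zpowers a₀)).exists_le_sylow
    obtain ⟨T₁, hT₁⟩ := (IsPGroup.of_card (p := x) (n := 1) (by
      rw [Nat.card_zpowers, hao, pow_one]) : IsPGroup x (zpowers a)).exists_le_sylow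
    obtain ⟨g, hg⟩ := MulAction.exists_smul_eq G T₁ T₀
    have ha1 : g * a * g⁻¹ ∈ (T₀ : Subgroup G) := by
      have h4 : MulAut.conj g • a ∈ MulAut.conj g • (T₁ : Subgroup G) :=
        Subgroup.smul_mem_pointwise_smul a _ _ (hT₁ (mem_zpowers a))
      rw [← Sylow.coe_subgroup_smul, hg] at h4
      exact h4
    have hao' : orderOf (g * a * g⁻¹) = x := hao ▸ (MulAut.conj g).orderOf_eq a
    obtain ⟨i, hi⟩ := mem_zpowers_iff.1 (huniq T₀ _ ha1 a₀ (hT₀ (mem_zpowers a₀)) hao' ha₀)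
    have hcb : Commute a₀ (g * b * g⁻¹) := hi ▸ Commute.zpow_left (hab.map (MulAut.conj g).toMonoidHom) i
    rw [← hbo, ← (MulAut.conj g).orderOf_eq b]
    exact Subgroup.orderOf_dvd_natCard _ (mem_centralizer_singleton_iff.2 hcb.eq.symm :
      MulAut.conj g b ∈ centralizer ({a₀} : Set G))
  obtain ⟨S, hSsub, hS3⟩ := Finset.exists_subset_card_eq hcard
  obtain ⟨y₁, y₂, y₃, h12, h13, h23, rfl⟩ := Finset.card_eq_three.1 hS3
  have hm : ∀ y ∈ ({y₁, y₂, y₃} : Finset ℕ), y ∈ σ ∧ y ≠ x ∧ y.Prime ∧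
      y ∣ Nat.card (centralizer ({a₀} : Set G)) := fun y hy =>
    ⟨Finset.mem_of_mem_erase (hSsub hy), Finset.ne_of_mem_erase (hSsub hy),
      hprime y (Finset.mem_of_mem_erase (hSsub hy)), hC y (hSsub hy)⟩
  have hedge : ∀ y ∈ ({y₁, y₂, y₃} : Finset ℕ), ∀ z ∈ ({y₁, y₂, y₃} : Finset ℕ), y ≠ z →
      ¬ ∃ w : centralizer ({a₀} : Set G), orderOf w = y * z := by
    rintro y hy z hz hyz ⟨w, hw⟩
    rw [← Subgroup.orderOf_coe] at hw
    have hwc : Commute (w : G) a₀ := mem_centralizer_singleton_iff.1 w.2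
    have hwy : orderOf ((w : G) ^ z) = y := by
      rw [orderOf_pow_of_dvd (hm z hz).2.2.1.ne_zero (hw ▸ dvd_mul_left z y), hw,
        Nat.mul_div_cancel _ (hm z hz).2.2.1.pos]
    have hwz : orderOf ((w : G) ^ y) = z := by
      rw [orderOf_pow_of_dvd (hm y hy).2.2.1.ne_zero (hw ▸ dvd_mul_right y z), hw,
        Nat.mul_div_cancel_left _ (hm y hy).2.2.1.pos]
    exact hno a₀ ((w : G) ^ z) ((w : G) ^ y) (ha₀.symm ▸ hx) (hwy.symm ▸ (hm y hy).1)
      (hwz.symm ▸ (hm z hz).1) (by rw [ha₀, hwy]; exact (hm y hy).2.1.symm)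
      (by rw [ha₀, hwz]; exact (hm z hz).2.1.symm) (by rw [hwy, hwz]; exact hyz)
      (hwc.symm.pow_right z) (hwc.symm.pow_right y) ((Commute.refl (w : G)).pow_pow z y)
  exact no_coclique_of_solvable (G := centralizer ({a₀} : Set G)) (hm y₁ (by simp)).2.2.1
    (hm y₂ (by simp)).2.2.1 (hm y₃ (by simp)).2.2.1 h12 h13 h23 (hm y₁ (by simp)).2.2.2
    (hm y₂ (by simp)).2.2.2 (hm y₃ (by simp)).2.2.2 (hedge y₁ (by simp) y₂ (by simp) h12)
    (hedge y₁ (by simp) y₃ (by simp) h13) (hedge y₂ (by simp) y₃ (by simp) h23)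

/-- An element centralizing every nontrivial core is trivial, its prime not being among theirs. -/
theorem eq_one_of_cores.{v} {G : Type v} [Group G] [Finite G] {K : Subgroup G} (hK : Group.IsSolvable K)
    {S : ℕ → Prop} (hsupp : ∀ t : ℕ, t.Prime → pCoreOf t K ≠ ⊥ → S t) {x : G} (hx : x ∈ K)
    (hxS : ∀ t : ℕ, t.Prime → t ∣ orderOf x → ¬ S t)
    (hc : ∀ t : ℕ, t.Prime → S t → ∀ y ∈ pCoreOf t K, Commute x y) : x = 1 := by
  by_contra hx1
  obtain ⟨t, ht, htd⟩ := Nat.exists_prime_and_dvd (fun h => hx1 (orderOf_eq_one_iff.1 h) : orderOf x ≠ 1)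
  haveI := Fact.mk ht
  have hxo : orderOf (x ^ (orderOf x / t)) = t := by
    rw [orderOf_pow_of_dvd (Nat.div_pos (Nat.le_of_dvd (orderOf_pos x) htd) ht.pos).ne'
      (Nat.div_dvd_of_dvd htd), Nat.div_div_self htd (orderOf_pos x).ne']
  have hcore : x ^ (orderOf x / t) ∈ pCoreOf t K := by
    refine mem_core hK (pow_mem hx _) (k := 1)
      (by rw [pow_one]; exact orderOf_dvd_iff_pow_eq_one.1 (hxo.symm ▸ dvd_rfl)) fun l hl y hy => ?_
    by_cases hS : S l
    · exact (hc l hl hS y hy).pow_left _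
    · by_contra h
      refine h ?_
      have hbot : pCoreOf l K = ⊥ := not_not.1 fun hne => hS (hsupp l hl hne)
      rw [hbot, mem_bot] at hy
      rw [hy]
      exact Commute.one_right _
  refine hxS t ht htd (hsupp t ht fun h => ?_)
  rw [h, mem_bot] at hcore
  exact ne_one_of_order hxo hcore

/-- A criterion for nonsolvability from element orders: let G be a finite group and σ a set of at least four primes such that for all distinct p, q ∈ σ the product pq is the order of some element of G, while for all pairwise distinct p, q, r ∈ σ no element of G has order pqr. Then G is not solvable. -/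
theorem result {G : Type*} [Group G] [Finite G]
    (σ : Finset ℕ) (hσ : 4 ≤ σ.card) (hprime : ∀ p ∈ σ, p.Prime)
    (h2 : ∀ p ∈ σ, ∀ q ∈ σ, p ≠ q → ∃ g : G, orderOf g = p * q)
    (h3 : ∀ p ∈ σ, ∀ q ∈ σ, ∀ r ∈ σ, p ≠ q → q ≠ r → p ≠ r → ∀ g : G, orderOf g ≠ p * q * r) :
    ¬ Group.IsSolvable G := by
  classical
  intro hsol
  haveI := hsol
  have hno : NoTriple G (σ : Set ℕ) := by
    intro a b c ha hb hc hab hac hbc cab cac cbc
    rw [Finset.mem_coe] at ha hb hc
    refine h3 _ ha _ hb _ hc hab hbc hac (a * b * c) ?_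
    have h1 : (orderOf a).Coprime (orderOf b) := (Nat.coprime_primes (hprime _ ha) (hprime _ hb)).2 hab
    have h2' : orderOf (a * b) = orderOf a * orderOf b := cab.orderOf_mul_eq_mul_orderOf_of_coprime h1
    rw [(cac.mul_left cbc).orderOf_mul_eq_mul_orderOf_of_coprime, h2']
    rw [h2']
    exact Nat.Coprime.mul_left ((Nat.coprime_primes (hprime _ ha) (hprime _ hc)).2 hac)
      ((Nat.coprime_primes (hprime _ hb) (hprime _ hc)).2 hbc)
  obtain ⟨S4, hS4, hS4c⟩ := Finset.exists_subset_card_eq hσ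
  have hsq : ∀ x ∈ S4, HasSq (⊤ : Subgroup G) x := fun x hx => exists_sq hσ hprime h2 hno (hS4 hx)
  have htop : Group.IsSolvable (⊤ : Subgroup G) := inferInstance
  obtain ⟨H, -, hHsol, hHsupp, hHsq⟩ := exists_hall htop (fun t => t ∈ S4)
  have hHx : ∀ x ∈ S4, HasSq H x := fun x hx => hHsq x (hprime x (hS4 hx)) hx (hsq x hx)
  have hσ' : ∀ x ∈ S4, x ∈ (σ : Set ℕ) := fun x hx => Finset.mem_coe.2 (hS4 hx)
  obtain ⟨π, hπ⟩ : ∃ π, S4.filter (fun t => pCoreOf t H ≠ ⊥) = π := ⟨_, rfl⟩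
  have hπm : ∀ t, t ∈ π ↔ t ∈ S4 ∧ pCoreOf t H ≠ ⊥ := fun t => by rw [← hπ, Finset.mem_filter]
  have hsuppG : ∀ (M : Subgroup G) (t : ℕ), t.Prime → pCoreOf t M ≠ ⊥ → t ∣ Nat.card M := by
    intro M t ht hne
    haveI := Fact.mk ht
    obtain ⟨⟨y, hy⟩, hy1⟩ := ne_bot_iff_exists_ne_one.1 hne
    obtain ⟨k, hk⟩ := exists_order (isPGroup_core M t) hy fun h => hy1 (Subtype.ext h)
    exact hk ▸ Subgroup.orderOf_dvd_natCard M (pow_mem (core_le M t hy) k)
  have hπsupp : ∀ t : ℕ, t.Prime → pCoreOf t H ≠ ⊥ → t ∈ π := fun t ht hne =>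
    (hπm t).2 ⟨hHsupp t ht (hsuppG H t ht hne), hne⟩
  have hcomm : ∀ (M : Subgroup G) (a b : ℕ), a.Prime → b.Prime → a ≠ b →
      ∀ x ∈ pCoreOf a M, ∀ y ∈ pCoreOf b M, Commute x y := by
    intro M a b ha hb hab x hx y hy
    haveI := Fact.mk ha
    haveI := Fact.mk hb
    have h1 : x * y * x⁻¹ * y⁻¹ ∈ pCoreOf b M :=
      mul_mem ((mem_normalizer_iff.1 (le_normalizer_core M b (core_le M a hx)) y).1 hy) (inv_mem hy)
    have h2 : x * y * x⁻¹ * y⁻¹ ∈ pCoreOf a M := by
      rw [show x * y * x⁻¹ * y⁻¹ = x * (y * x⁻¹ * y⁻¹) by group]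
      exact mul_mem hx ((mem_normalizer_iff.1 (le_normalizer_core M a (core_le M b hy)) _).1 (inv_mem hx))
    have h3 : x * y * x⁻¹ * y⁻¹ = 1 := mem_bot.1
      ((inf_eq_bot_of_coprime (coprime_card hab (isPGroup_core M a) (isPGroup_core M b))) ▸ mem_inf.2 ⟨h2, h1⟩)
    exact mul_inv_eq_iff_eq_mul.1 (mul_inv_eq_one.1 h3)
  have hthree : ∀ (M : Subgroup G) (T : Finset ℕ), T ⊆ S4 → (∀ t ∈ T, pCoreOf t M ≠ ⊥) → T.card < 3 := by
    intro M T hT hne
    by_contra hcon
    obtain ⟨T', hT', hT'3⟩ := Finset.exists_subset_card_eq (Nat.not_lt.1 hcon)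
    obtain ⟨a, b, c, hab, hac, hbc, rfl⟩ := Finset.card_eq_three.1 hT'3
    have key : ∀ t ∈ ({a, b, c} : Finset ℕ), t ∈ (σ : Set ℕ) ∧ t.Prime ∧ ∃ y ∈ pCoreOf t M, orderOf y = t := by
      intro t ht
      haveI := Fact.mk (hprime t (hS4 (hT (hT' ht))))
      obtain ⟨⟨y, hy⟩, hy1⟩ := ne_bot_iff_exists_ne_one.1 (hne t (hT' ht))
      obtain ⟨k, hk⟩ := exists_order (isPGroup_core M t) hy fun h => hy1 (Subtype.ext h)
      exact ⟨hσ' t (hT (hT' ht)), Fact.out, y ^ k, pow_mem hy k, hk⟩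
    obtain ⟨ha, hap, x, hx, hxo⟩ := key a (by simp)
    obtain ⟨hb, hbp, y, hy, hyo⟩ := key b (by simp)
    obtain ⟨hc, hcp, z, hz, hzo⟩ := key c (by simp)
    exact hno x y z (hxo.symm ▸ ha) (hyo.symm ▸ hb) (hzo.symm ▸ hc) (by rw [hxo, hyo]; exact hab)
      (by rw [hxo, hzo]; exact hac) (by rw [hyo, hzo]; exact hbc) (hcomm M a b hap hbp hab x hx y hy)
      (hcomm M a c hap hcp hac x hx z hz) (hcomm M b c hbp hcp hbc y hy z hz)
  have hπlt := hthree H π (fun t ht => ((hπm t).1 ht).1) fun t ht => ((hπm t).1 ht).2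
  have hp4 : ∀ t ∈ S4, t.Prime := fun t ht => hprime t (hS4 ht)
  -- split by the number of primes of the Fitting subgroup
  rcases Nat.lt_or_ge π.card 1 with h0 | h1
  · obtain ⟨t, ht⟩ := Finset.card_pos.1 (by omega : 0 < S4.card)
    obtain ⟨E, hEH, hE, hE2⟩ := hHx t ht
    haveI := Fact.mk (hp4 t ht)
    have hbot : E = ⊥ := (eq_bot_iff_forall E).2 fun e he => eq_one_of_cores hHsol (S := fun t => t ∈ π)
      hπsupp (hEH he) (fun l hl _ hl' => (Finset.card_pos.2 ⟨l, hl'⟩).ne' (by omega))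
      fun l hl hl' => absurd (Finset.card_pos.2 ⟨l, hl'⟩) (by omega)
    rw [hbot, card_bot] at hE2
    exact absurd hE2 (Nat.one_lt_pow (by norm_num) (hp4 t ht).one_lt).ne
  rcases h1.lt_or_eq with h2' | h1'
  · -- two primes
    obtain ⟨p, q, hpq, hπe⟩ := Finset.card_eq_two.1 (by omega : π.card = 2)
    obtain ⟨hpS, hpne⟩ := (hπm p).1 (by rw [hπe]; simp)
    obtain ⟨hqS, hqne⟩ := (hπm q).1 (by rw [hπe]; simp)
    obtain ⟨r, s, hrs, hre⟩ := Finset.card_eq_two.1 (show ((S4.erase p).erase q).card = 2 by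
      rw [Finset.card_erase_of_mem (Finset.mem_erase.2 ⟨hpq.symm, hqS⟩), Finset.card_erase_of_mem hpS]; omega)
    have hr : r ∈ (S4.erase p).erase q := by rw [hre]; simp
    have hs : s ∈ (S4.erase p).erase q := by rw [hre]; simp
    simp only [Finset.mem_erase] at hr hs
    haveI := Fact.mk (hp4 p hpS)
    haveI := Fact.mk (hp4 q hqS)
    haveI := Fact.mk (hp4 r hr.2.2)
    haveI := Fact.mk (hp4 s hs.2.2)
    obtain ⟨L, hLH, hLsol, hLsupp, hLsq⟩ := exists_hall hHsol (fun t => t = r ∨ t = s)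
    exact (TwoFitting.false (σ := (σ : Set ℕ)) (p := p) (q := q) (r := r) (s := s) (L := L)
      (P := pCoreOf p H) (Q := pCoreOf q H)
      ⟨hno, hσ' p hpS, hσ' q hqS, hσ' r hr.2.2, hσ' s hs.2.2, hpq, hr.2.1.symm, hs.2.1.symm, hr.1.symm,
        hs.1.symm, hrs, isPGroup_core H p, isPGroup_core H q, hpne, hqne,
        hcomm H p q Fact.out Fact.out hpq, hLH.trans (le_normalizer_core H p),
        hLH.trans (le_normalizer_core H q),
        fun x hx h1 h2 => eq_one_of_cores hHsol (S := fun t => t ∈ π) hπsupp (hLH hx)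
          (fun l hl hd hl' => by
            rw [hπe, Finset.mem_insert, Finset.mem_singleton] at hl'
            rcases hLsupp l hl (hd.trans (Subgroup.orderOf_dvd_natCard L hx)) with rfl | rfl <;>
              rcases hl' with rfl | rfl <;> simp_all)
          (fun l _ hl y hy => by
            rw [hπe, Finset.mem_insert, Finset.mem_singleton] at hl
            rcases hl with rfl | rfl
            · exact h1 y hy
            · exact h2 y hy),
        hLsol, hLsupp, hLsq r Fact.out (Or.inl rfl) (hHx r hr.2.2),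
        hLsq s Fact.out (Or.inr rfl) (hHx s hs.2.2)⟩)
  · -- one prime
    obtain ⟨p, hπe⟩ := Finset.card_eq_one.1 h1'.symm
    obtain ⟨hpS, hpne⟩ := (hπm p).1 (by rw [hπe]; simp)
    haveI := Fact.mk (hp4 p hpS)
    obtain ⟨K, hKH, hKsol, hKsupp, hKsq⟩ := exists_hall hHsol (fun t => t ∈ S4.erase p)
    have hKx : ∀ x ∈ S4.erase p, HasSq K x := fun x hx =>
      hKsq x (hp4 x (Finset.mem_of_mem_erase hx)) hx (hHx x (Finset.mem_of_mem_erase hx))
    have hnP : K ≤ normalizer (pCoreOf p H : Set G) := hKH.trans (le_normalizer_core H p)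
    have hfaith : ∀ x ∈ K, (∀ y ∈ pCoreOf p H, Commute x y) → x = 1 := fun x hx h =>
      eq_one_of_cores hHsol (S := fun t => t ∈ π) hπsupp (hKH hx)
        (fun l hl hd hl' => by
          rw [hπe, Finset.mem_singleton] at hl'
          exact (Finset.mem_erase.1 (hKsupp l hl (hd.trans (Subgroup.orderOf_dvd_natCard K hx)))).1 hl')
        (fun l _ hl y hy => by
          rw [hπe, Finset.mem_singleton] at hl
          subst hl
          exact h y hy)
    obtain ⟨ρ, hρ⟩ : ∃ ρ, (S4.erase p).filter (fun t => pCoreOf t K ≠ ⊥) = ρ := ⟨_, rfl⟩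
    have hρm : ∀ t, t ∈ ρ ↔ t ∈ S4.erase p ∧ pCoreOf t K ≠ ⊥ := fun t => by rw [← hρ, Finset.mem_filter]
    have hρsupp : ∀ t : ℕ, t.Prime → pCoreOf t K ≠ ⊥ → t ∈ ρ := fun t ht hne =>
      (hρm t).2 ⟨hKsupp t ht (hsuppG K t ht hne), hne⟩
    have hρlt := hthree K ρ (fun t ht => Finset.mem_of_mem_erase ((hρm t).1 ht).1) fun t ht => ((hρm t).1 ht).2
    have he3 : (S4.erase p).card = 3 := by rw [Finset.card_erase_of_mem hpS]; omega
    rcases Nat.lt_or_ge ρ.card 1 with h0 | h1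
    · obtain ⟨t, ht⟩ := Finset.card_pos.1 (by omega : 0 < (S4.erase p).card)
      obtain ⟨E, hEK, hE, hE2⟩ := hKx t ht
      haveI := Fact.mk (hp4 t (Finset.mem_of_mem_erase ht))
      have hbot : E = ⊥ := (eq_bot_iff_forall E).2 fun e he => eq_one_of_cores hKsol (S := fun t => t ∈ ρ)
        hρsupp (hEK he) (fun l hl _ hl' => (Finset.card_pos.2 ⟨l, hl'⟩).ne' (by omega))
        fun l hl hl' => absurd (Finset.card_pos.2 ⟨l, hl'⟩) (by omega)
      rw [hbot, card_bot] at hE2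
      exact absurd hE2 (Nat.one_lt_pow (by norm_num) (Fact.out : t.Prime).one_lt).ne
    rcases h1.lt_or_eq with h2' | h1'
    · obtain ⟨q, r, hqr, hρe⟩ := Finset.card_eq_two.1 (by omega : ρ.card = 2)
      obtain ⟨hqe, hqne⟩ := (hρm q).1 (by rw [hρe]; simp)
      obtain ⟨hre', hrne⟩ := (hρm r).1 (by rw [hρe]; simp)
      obtain ⟨s, hse⟩ := Finset.card_eq_one.1 (show (((S4.erase p).erase q).erase r).card = 1 by
        rw [Finset.card_erase_of_mem (Finset.mem_erase.2 ⟨hqr.symm, hre'⟩), Finset.card_erase_of_mem hqe]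
        omega)
      have hs : s ∈ ((S4.erase p).erase q).erase r := by rw [hse]; simp
      have hsupp : ∀ t : ℕ, t.Prime → t ∣ Nat.card K → t = q ∨ t = r ∨ t = s := by
        intro t ht hd
        by_contra hcon
        push Not at hcon
        have : t ∈ ((S4.erase p).erase q).erase r :=
          Finset.mem_erase.2 ⟨hcon.2.1, Finset.mem_erase.2 ⟨hcon.1, hKsupp t ht hd⟩⟩
        rw [hse, Finset.mem_singleton] at this
        exact hcon.2.2 this
      obtain ⟨hsr, hsq'⟩ := Finset.mem_erase.1 hs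
      obtain ⟨hsq2, hse'⟩ := Finset.mem_erase.1 hsq'
      haveI := Fact.mk (hp4 q (Finset.mem_of_mem_erase hqe))
      haveI := Fact.mk (hp4 r (Finset.mem_of_mem_erase hre'))
      haveI := Fact.mk (hp4 s (Finset.mem_of_mem_erase hse'))
      exact Layer.false (σ := (σ : Set ℕ)) (p := p) (q := q) (r := r) (s := s) (K := K)
        (P := pCoreOf p H)
        ⟨hno, hσ' p hpS, hσ' q (Finset.mem_of_mem_erase hqe), hσ' r (Finset.mem_of_mem_erase hre'),
          hσ' s (Finset.mem_of_mem_erase hse'), (Finset.ne_of_mem_erase hqe).symm,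
          (Finset.ne_of_mem_erase hre').symm, (Finset.ne_of_mem_erase hse').symm, hqr, hsq2.symm, hsr.symm,
          isPGroup_core H p, hpne, hnP, hfaith, hKsol, hsupp, hKx q hqe, hKx r hre', hKx s hse', hqne, hrne,
          by_contra fun h => by
            have hs' := hρsupp s Fact.out h
            rw [hρe, Finset.mem_insert, Finset.mem_singleton] at hs'
            rcases hs' with h' | h'
            · exact hsq2 h'
            · exact hsr h'⟩
    · obtain ⟨q, hρe⟩ := Finset.card_eq_one.1 h1'.symm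
      obtain ⟨hqe, hqne⟩ := (hρm q).1 (by rw [hρe]; simp)
      obtain ⟨r, s, hrs, hre⟩ := Finset.card_eq_two.1 (show ((S4.erase p).erase q).card = 2 by
        rw [Finset.card_erase_of_mem hqe]; omega)
      have hr : r ∈ (S4.erase p).erase q := by rw [hre]; simp
      have hs : s ∈ (S4.erase p).erase q := by rw [hre]; simp
      simp only [Finset.mem_erase] at hr hs
      haveI := Fact.mk (hp4 q (Finset.mem_of_mem_erase hqe))
      haveI := Fact.mk (hp4 r hr.2.2)
      haveI := Fact.mk (hp4 s hs.2.2)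
      obtain ⟨L, hLK, hLsol, hLsupp, hLsq⟩ := exists_hall hKsol (fun t => t = r ∨ t = s)
      exact (OneFitting.false (σ := (σ : Set ℕ)) (p := p) (q := q) (r := r) (s := s) (L := L)
        (P := pCoreOf p H) (Q := pCoreOf q K)
        ⟨hno, hσ' p hpS, hσ' q (Finset.mem_of_mem_erase hqe), hσ' r hr.2.2, hσ' s hs.2.2,
          (Finset.ne_of_mem_erase hqe).symm, hr.2.1.symm, hs.2.1.symm, hr.1.symm, hs.1.symm, hrs,
          isPGroup_core H p, isPGroup_core K q, hpne, hqne, hLK.trans hnP,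
          hLK.trans (le_normalizer_core K q), (core_le K q).trans hnP,
          fun x hx h => hfaith x (hLK hx) h,
          fun x hx h => eq_one_of_cores hKsol (S := fun t => t ∈ ρ) hρsupp (hLK hx)
            (fun l hl hd hl' => by
              rw [hρe, Finset.mem_singleton] at hl'
              rcases hLsupp l hl (hd.trans (Subgroup.orderOf_dvd_natCard L hx)) with rfl | rfl
              · exact hr.1 hl'
              · exact hs.1 hl')
            (fun l _ hl y hy => by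
              rw [hρe, Finset.mem_singleton] at hl
              subst hl
              exact h y hy),
          fun x hx h => hfaith x (core_le K q hx) h,
          hLsol, hLsupp, hLsq r Fact.out (Or.inl rfl) (hKx r (Finset.mem_erase.2 hr.2)),
          hLsq s Fact.out (Or.inr rfl) (hKx s (Finset.mem_erase.2 hs.2))⟩)
end Cfsg.Agent.S3814
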