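import Cfsg.Statements.S3815
import Cfsg.Agent.Solvable.Basics

set_option autoImplicit false
open Cfsg

namespace Cfsg.Agent.S3815

/-- Let G be a finite group, p a prime and d ∈ G an element of order prime to p. If dg has order prime to p for every element g ∈ G of order prime to p, then d ∈ O_{p'}(G). -/
theorem result {G : Type*} [Group G] [Finite G] {p : ℕ} [Fact p.Prime]
    (d : G) (hd : (orderOf d).Coprime p)
    (h : ∀ g : G, (orderOf g).Coprime p → (orderOf (d * g)).Coprime p) :
    d ∈ Cfsg.pPrimeCore p G := by
  let D : Subgroup G :=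
    { carrier := {x | ∀ g : G, (orderOf g).Coprime p → (orderOf (x * g)).Coprime p}
      mul_mem' := fun {x y} hx hy g hg => by rw [mul_assoc]; exact hx _ (hy g hg)
      one_mem' := fun g hg => by rwa [one_mul]
      inv_mem' := fun {x} hx => by
        have hpow : ∀ (n : ℕ) (g : G), (orderOf g).Coprime p →
            (orderOf (x ^ n * g)).Coprime p := by
          intro n
          induction n with
          | zero => intro g hg; rwa [pow_zero, one_mul]
          | succ n ih => intro g hg; rw [pow_succ, mul_assoc]; exact ih _ (hx g hg)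
        intro g hg
        rw [show x⁻¹ = x ^ (orderOf x - 1) from inv_eq_of_mul_eq_one_right (by
          rw [← pow_succ', Nat.sub_add_cancel (orderOf_pos x), pow_orderOf_eq_one])]
        exact hpow _ g hg }
  have hn : D.Normal := ⟨fun x hx y g hg => by
    have h1 := hx (y⁻¹ * g * y) (by
      rwa [show orderOf (y⁻¹ * g * y) = orderOf g by
        simpa using (MulAut.conj y⁻¹).orderOf_eq g])
    rw [show y * x * y⁻¹ * g = y * (x * (y⁻¹ * g * y)) * y⁻¹ by group]
    rwa [show orderOf (y * (x * (y⁻¹ * g * y)) * y⁻¹) = orderOf (x * (y⁻¹ * g * y)) from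
      (MulAut.conj y).orderOf_eq _]⟩
  refine CfsgLib.Solvable.le_pPrimeCore p hn ?_ (show d ∈ D from h)
  rw [Nat.coprime_comm, (Fact.out : p.Prime).coprime_iff_not_dvd]
  intro hd'
  obtain ⟨x, hx⟩ := exists_prime_orderOf_dvd_card' (G := D) p hd'
  have hp := x.2 1 (by simp)
  rw [mul_one, Subgroup.orderOf_coe, hx] at hp
  exact (Fact.out : p.Prime).ne_one (Nat.coprime_self p |>.1 hp)

end Cfsg.Agent.S3815
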