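import Cfsg.Statements.S3818
import Cfsg.Agent.Flavell.Main

set_option autoImplicit false
open Cfsg

namespace Cfsg.Agent.S3818

/-- Let G be a finite solvable group and P a subgroup of G of prime order p > 3 whose conjugates generate G. Let V be a faithful irreducible representation of G over a field of positive characteristic, finite-dimensional. Then the subspace of V fixed by P has dimension less than half the dimension of V. -/
theorem result {G : Type*} [Group G] [Finite G] [Group.IsSolvable G]
    {p : ℕ} [Fact p.Prime] (hp : 3 < p) (P : Subgroup G) (hP : Nat.card P = p) (hgen : Subgroup.normalClosure (P : Set G) = ⊤)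
    {k : Type*} [Field k] (ℓ : ℕ) [Fact ℓ.Prime] [CharP k ℓ]
    {V : Type*} [AddCommGroup V] [Module k V] [FiniteDimensional k V]
    (ρ : Representation k G V) [ρ.IsIrreducible] (hfaith : Function.Injective ρ) :
    2 * Module.finrank k ↥(⨅ g : ↥P, LinearMap.ker (ρ (g : G) - LinearMap.id)) < Module.finrank k V := by
  obtain ⟨⟨g, hgP⟩, hgo⟩ := exists_prime_orderOf_dvd_card' (G := P) p (by rw [hP])
  rw [Subgroup.orderOf_mk] at hgo
  have hPg : P = Subgroup.zpowers g :=
    (Subgroup.eq_of_le_of_card_ge (Subgroup.zpowers_le.2 hgP) (by rw [hP, Nat.card_zpowers, hgo])).symm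
  have hgen' : Subgroup.normalClosure ({g} : Set G) = ⊤ := by
    rw [eq_top_iff, ← hgen]
    refine Subgroup.normalClosure_le_normal ?_
    rw [hPg]
    exact Subgroup.zpowers_le.2 (Subgroup.subset_normalClosure rfl)
  have hg1 : g ≠ 1 := fun e => by rw [e, orderOf_one] at hgo; omega
  have hp5 : 5 ≤ p := by
    by_contra h
    have h4 : p = 4 := by omega
    subst h4
    exact absurd (Fact.out : Nat.Prime 4) (by norm_num)
  haveI : Nontrivial V := by
    by_contra hn
    rw [not_nontrivial_iff_subsingleton] at hn
    exact hg1 (hfaith (LinearMap.ext fun v => Subsingleton.elim _ _))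
  have hirr : ∀ U : Submodule k V, (∀ x, ∀ u ∈ U, ρ x u ∈ U) → U = ⊥ ∨ U = ⊤ := by
    intro U hU
    let U' : Subrepresentation ρ := { toSubmodule := U, apply_mem_toSubmodule := fun x v hv => hU x v hv }
    rcases IsSimpleOrder.eq_bot_or_eq_top U' with h | h
    · exact Or.inl (congrArg Subrepresentation.toSubmodule h)
    · exact Or.inr (congrArg Subrepresentation.toSubmodule h)
  have hb := CfsgLib.Flavell.half_bound (Fact.out : p.Prime) hp5 g
    (by rw [← hgo, pow_orderOf_eq_one]) hg1 hgen' ℓ ρ hfaith hirr
  have he : (⨅ h : ↥P, LinearMap.ker (ρ (h : G) - LinearMap.id)) = LinearMap.ker (ρ g - 1) := by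
    refine le_antisymm (iInf_le (fun h : ↥P => LinearMap.ker (ρ (h : G) - LinearMap.id)) ⟨g, hgP⟩) (le_iInf fun h => ?_)
    intro v hv
    rw [LinearMap.mem_ker, LinearMap.sub_apply, Module.End.one_apply, sub_eq_zero] at hv
    rw [LinearMap.mem_ker, LinearMap.sub_apply, LinearMap.id_apply, sub_eq_zero]
    obtain ⟨n, hn⟩ := mem_powers_iff_mem_zpowers.2 (hPg ▸ h.2 : (h : G) ∈ Subgroup.zpowers g)
    rw [← hn]
    clear hn
    induction n with
    | zero => simp
    | succ n ih =>
      show ρ (g ^ (n + 1)) v = v
      rw [pow_succ, map_mul, Module.End.mul_apply, hv]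
      exact ih
  rw [he]
  exact hb

end Cfsg.Agent.S3818
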