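import Cfsg.Statements.S3820

set_option autoImplicit false
open Cfsg

namespace Cfsg.Agent.S3820

/-- Call a subgroup H of G pronormal if H and gHg⁻¹ are conjugate inside ⟨H, gHg⁻¹⟩ for every g ∈ G. Let S ≤ H ≤ G be subgroups of a finite group with S pronormal in G (for instance S a Sylow subgroup). Then H is pronormal in G if and only if H and gHg⁻¹ are conjugate inside ⟨H, gHg⁻¹⟩ for every g ∈ N_G(S). In particular H is pronormal whenever N_G(S) ≤ H. -/
theorem result {G : Type*} [Group G] [Finite G] (S H : Subgroup G) (hSH : S ≤ H)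
    (hS : Cfsg.IsPronormal S) :
    Cfsg.IsPronormal H ↔
      ∀ g ∈ Subgroup.normalizer (S : Set G), ∃ w ∈ H ⊔ H.map (MulAut.conj g).toMonoidHom,
        H.map (MulAut.conj g).toMonoidHom = H.map (MulAut.conj w).toMonoidHom := by
  constructor
  · intro h g _
    exact h g
  · intro h g
    obtain ⟨x, hx, he⟩ := hS g
    set J := H ⊔ H.map (MulAut.conj g).toMonoidHom with hJ
    have hxJ : x ∈ J :=
      sup_le (hSH.trans le_sup_left) ((Subgroup.map_mono hSH).trans le_sup_right) hx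
    have hn : x⁻¹ * g ∈ Subgroup.normalizer (S : Set G) := by
      rw [Subgroup.mem_normalizer_iff]
      intro k
      constructor
      · intro hk
        obtain ⟨k', hk', he'⟩ : g * k * g⁻¹ ∈ S.map (MulAut.conj x).toMonoidHom :=
          he ▸ ⟨k, hk, rfl⟩
        have he'' : x * k' * x⁻¹ = g * k * g⁻¹ := he'
        have : x⁻¹ * g * k * (x⁻¹ * g)⁻¹ = k' := by
          calc x⁻¹ * g * k * (x⁻¹ * g)⁻¹ = x⁻¹ * (g * k * g⁻¹) * x := by group
            _ = k' := by rw [← he'']; group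
        rwa [this]
      · intro hk
        obtain ⟨k', hk', he'⟩ : x * (x⁻¹ * g * k * (x⁻¹ * g)⁻¹) * x⁻¹ ∈
            S.map (MulAut.conj g).toMonoidHom := he.symm ▸ ⟨_, hk, rfl⟩
        have he'' : g * k' * g⁻¹ = x * (x⁻¹ * g * k * (x⁻¹ * g)⁻¹) * x⁻¹ := he'
        have : k' = k := by
          calc k' = g⁻¹ * (g * k' * g⁻¹) * g := by group
            _ = k := by rw [he'']; group
        rwa [← this]
    obtain ⟨w, hw, hew⟩ := h _ hn
    have hcomp : ∀ a b : G, H.map (MulAut.conj (a * b)).toMonoidHom =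
        (H.map (MulAut.conj b).toMonoidHom).map (MulAut.conj a).toMonoidHom := fun a b => by
      rw [Subgroup.map_map, map_mul]; rfl
    refine ⟨x * w, J.mul_mem hxJ (?_ : w ∈ J), ?_⟩
    · refine (sup_le (le_sup_left : H ≤ J) ?_) hw
      rintro - ⟨k, hk, rfl⟩
      show x⁻¹ * g * k * (x⁻¹ * g)⁻¹ ∈ J
      rw [show x⁻¹ * g * k * (x⁻¹ * g)⁻¹ = x⁻¹ * (g * k * g⁻¹) * x by group]
      exact J.mul_mem (J.mul_mem (J.inv_mem hxJ) (Subgroup.mem_sup_right ⟨k, hk, rfl⟩)) hxJ
    · rw [hcomp, ← hew, ← hcomp, mul_inv_cancel_left]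

end Cfsg.Agent.S3820
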