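import Cfsg.Statements.S3821

set_option autoImplicit false
open Cfsg

namespace Cfsg.Agent.S3821

/-- Let A be a normal subgroup of the finite group G and H a subgroup of A. Then H is pronormal in G (H and gHg⁻¹ conjugate inside ⟨H, gHg⁻¹⟩ for every g ∈ G) if and only if H is pronormal in A and G = A · N_G(H). -/
theorem result {G : Type*} [Group G] [Finite G] (A H : Subgroup G) [A.Normal] (hHA : H ≤ A) :
    Cfsg.IsPronormal H ↔ (Cfsg.IsPronormal (H.subgroupOf A) ∧ A ⊔ Subgroup.normalizer (H : Set G) = ⊤) := by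
  have hmapA : ∀ a : A, (H.subgroupOf A).map (MulAut.conj a).toMonoidHom =
      (H.map (MulAut.conj (a : G)).toMonoidHom).subgroupOf A := by
    intro a
    ext y
    constructor
    · rintro ⟨k, hk, rfl⟩
      exact ⟨k, hk, rfl⟩
    · rintro ⟨k, hk, he⟩
      exact ⟨⟨k, hHA hk⟩, hk, Subtype.ext he⟩
  have hle : ∀ a : A, H.map (MulAut.conj (a : G)).toMonoidHom ≤ A := fun a => by
    rintro - ⟨k, hk, rfl⟩
    exact A.mul_mem (A.mul_mem a.2 (hHA hk)) (A.inv_mem a.2)
  constructor
  · intro h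
    refine ⟨fun a => ?_, eq_top_iff.2 fun g _ => ?_⟩
    · obtain ⟨x, hx, he⟩ := h a
      have hxA : x ∈ A := sup_le hHA (hle a) hx
      refine ⟨⟨x, hxA⟩, ?_, by rw [hmapA, hmapA, he]⟩
      rw [hmapA, ← Subgroup.subgroupOf_sup hHA (hle a)]
      exact hx
    · obtain ⟨x, hx, he⟩ := h g
      have hxA : x ∈ A := sup_le hHA (by
        rintro - ⟨k, hk, rfl⟩
        exact Subgroup.Normal.conj_mem ‹_› k (hHA hk) g) hx
      have hn : x⁻¹ * g ∈ Subgroup.normalizer (H : Set G) := by
        rw [Subgroup.mem_normalizer_iff]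
        intro k
        constructor
        · intro hk
          obtain ⟨k', hk', he'⟩ : g * k * g⁻¹ ∈ H.map (MulAut.conj x).toMonoidHom :=
            he ▸ ⟨k, hk, rfl⟩
          have he'' : x * k' * x⁻¹ = g * k * g⁻¹ := he'
          have : x⁻¹ * g * k * (x⁻¹ * g)⁻¹ = k' := by
            calc x⁻¹ * g * k * (x⁻¹ * g)⁻¹ = x⁻¹ * (g * k * g⁻¹) * x := by group
              _ = k' := by rw [← he'']; group
          rwa [this]
        · intro hk
          obtain ⟨k', hk', he'⟩ : x * (x⁻¹ * g * k * (x⁻¹ * g)⁻¹) * x⁻¹ ∈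
              H.map (MulAut.conj g).toMonoidHom := he.symm ▸ ⟨_, hk, rfl⟩
          have he'' : g * k' * g⁻¹ = x * (x⁻¹ * g * k * (x⁻¹ * g)⁻¹) * x⁻¹ := he'
          have : k' = k := by
            calc k' = g⁻¹ * (g * k' * g⁻¹) * g := by group
              _ = k := by rw [he'']; group
          rwa [← this]
      rw [show g = x * (x⁻¹ * g) by group]
      exact Subgroup.mul_mem _ (Subgroup.mem_sup_left hxA) (Subgroup.mem_sup_right hn)
  · rintro ⟨h, htop⟩ g
    have hg : g ∈ (A ⊔ Subgroup.normalizer (H : Set G) : Subgroup G) := htop ▸ Subgroup.mem_top g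
    obtain ⟨a, ha, n, hn, rfl⟩ := Subgroup.mem_sup_of_normal_left.1 hg
    have hconj : H.map (MulAut.conj (a * n)).toMonoidHom =
        H.map (MulAut.conj a).toMonoidHom := by
      ext y
      constructor
      · rintro ⟨k, hk, rfl⟩
        exact ⟨n * k * n⁻¹, (Subgroup.mem_normalizer_iff.1 hn k).1 hk, by
          show a * (n * k * n⁻¹) * a⁻¹ = a * n * k * (a * n)⁻¹
          group⟩
      · rintro ⟨k, hk, rfl⟩
        refine ⟨n⁻¹ * k * n, ?_, by
          show a * n * (n⁻¹ * k * n) * (a * n)⁻¹ = a * k * a⁻¹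
          group⟩
        have := (Subgroup.mem_normalizer_iff.1 (inv_mem hn) k).1 hk
        rwa [inv_inv] at this
    obtain ⟨x, hx, he⟩ := h ⟨a, ha⟩
    rw [hmapA, hmapA] at he
    rw [hmapA, ← Subgroup.subgroupOf_sup hHA (hle ⟨a, ha⟩)] at hx
    refine ⟨x, by rw [hconj]; exact hx, ?_⟩
    rw [hconj]
    have := congrArg (Subgroup.map A.subtype) he
    rwa [Subgroup.map_subgroupOf_eq_of_le (hle ⟨a, ha⟩),
      Subgroup.map_subgroupOf_eq_of_le (hle x)] at this

end Cfsg.Agent.S3821
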