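import Cfsg.Statements.S3824
import Cfsg.Agent.S0143
import Mathlib

set_option autoImplicit false
open Cfsg

namespace Cfsg.Agent.S3824

universe u in
theorem aux : ∀ (n : ℕ) {G : Type u} [Group G] [Finite G], Nat.card G = n →
    ∀ A : Subgroup G, IsMulCommutative A → (∃ k, A.index = 2 ^ k) → Group.IsSolvable G := by
  intro n
  induction n using Nat.strong_induction_on with
  | _ n ih =>
  intro G _ _ hn A hA ⟨k, hk⟩
  by_cases hA1 : A = ⊥
  · have : Fact (Nat.Prime 2) := ⟨Nat.prime_two⟩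
    rw [hA1, Subgroup.index_bot] at hk
    have : Group.IsNilpotent G := (IsPGroup.of_card hk).isNilpotent
    infer_instance
  obtain ⟨x, hx, hx1⟩ := A.bot_or_exists_ne_one.resolve_left hA1
  by_cases hsimp : IsSimpleGroup G
  · have hle : A ≤ Subgroup.centralizer ({x} : Set G) := fun a ha => by
      rw [Subgroup.mem_centralizer_iff]
      intro y hy
      rw [Set.mem_singleton_iff.1 hy]
      exact congrArg Subtype.val (hA.is_comm.comm (⟨x, hx⟩ : A) ⟨a, ha⟩)
    obtain ⟨j, -, hj⟩ := (Nat.dvd_prime_pow Nat.prime_two).1 (hk ▸ Subgroup.index_dvd_of_le hle)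
    have hprime := Cfsg.Agent.S0143.result 2 j Nat.prime_two x hx1 hj
    have := Fact.mk hprime
    have : IsCyclic G := isCyclic_of_prime_card rfl
    exact Group.isSolvable_of_comm fun a b => (IsMulCommutative.is_comm (M := G)).comm a b
  obtain ⟨N, hN, hN1, hN2⟩ : ∃ N : Subgroup G, N.Normal ∧ N ≠ ⊥ ∧ N ≠ ⊤ := by
    by_contra h
    have : Nontrivial G := ⟨⟨x, 1, hx1⟩⟩
    exact hsimp ⟨fun N hN => or_iff_not_imp_left.2 fun h1 => not_not.1 fun h2 => h ⟨N, hN, h1, h2⟩⟩
  have hcardN : Nat.card N < n := hn ▸ lt_of_le_of_ne (Subgroup.card_le_card_group N) (fun h =>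
    hN2 (Subgroup.eq_top_of_card_eq N h))
  have hcardQ : Nat.card (G ⧸ N) < n := by
    rw [← hn, ← Subgroup.index_eq_card, ← N.card_mul_index]
    exact lt_mul_of_one_lt_left (Nat.pos_of_ne_zero N.index_ne_zero_of_finite)
      (N.one_lt_card_iff_ne_bot.2 hN1)
  have hsN : Group.IsSolvable N := by
    refine ih _ hcardN rfl (A.subgroupOf N)
      ⟨⟨fun a b => Subtype.ext (Subtype.ext ?_)⟩⟩ ?_
    · change ((a : N) : G) * ((b : N) : G) = ((b : N) : G) * ((a : N) : G)
      exact congrArg Subtype.val (hA.is_comm.comm (⟨((a : N) : G), a.2⟩ : A) ⟨((b : N) : G), b.2⟩)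
    · have h : A.relIndex N ∣ A.index := by
        obtain ⟨r, hr⟩ : N.relIndex A ∣ N.index := by
          rw [← Subgroup.relIndex_sup_right A N]
          exact Dvd.intro _ (Subgroup.relIndex_mul_index le_sup_right)
        have h1 := Subgroup.relIndex_mul_index (inf_le_left : A ⊓ N ≤ A)
        have h2 := Subgroup.relIndex_mul_index (inf_le_right : A ⊓ N ≤ N)
        rw [Subgroup.inf_relIndex_left, ← h2, Subgroup.inf_relIndex_right] at h1
        refine ⟨r, Nat.eq_of_mul_eq_mul_left (Nat.pos_of_ne_zero Subgroup.FiniteIndex.index_ne_zero :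
          0 < (N.subgroupOf A).index) ?_⟩
        change N.relIndex A * A.index = N.relIndex A * (A.relIndex N * r)
        rw [h1, hr]; ring
      obtain ⟨j, -, hj⟩ := (Nat.dvd_prime_pow Nat.prime_two).1 (hk ▸ h)
      exact ⟨j, hj⟩
  have hsQ : Group.IsSolvable (G ⧸ N) := by
    refine ih _ hcardQ rfl (A.map (QuotientGroup.mk' N)) ⟨⟨?_⟩⟩ ?_
    · rintro ⟨_, a, ha, rfl⟩ ⟨_, b, hb, rfl⟩
      exact Subtype.ext (congrArg (fun t : A => QuotientGroup.mk' N t)
        (hA.is_comm.comm (⟨a, ha⟩ : A) ⟨b, hb⟩))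
    · obtain ⟨j, -, hj⟩ := (Nat.dvd_prime_pow Nat.prime_two).1
        (hk ▸ A.index_map_dvd (QuotientGroup.mk'_surjective N))
      exact ⟨j, hj⟩
  exact Group.isSolvable_of_ker_le_range N.subtype (QuotientGroup.mk' N)
    (by rw [QuotientGroup.ker_mk', Subgroup.range_subtype])

/-- Every finite group having an abelian subgroup whose index is a power of 2 is solvable. -/
theorem result {G : Type*} [Group G] [Finite G]
    (A : Subgroup G) (hA : IsMulCommutative A) (hidx : ∃ k : ℕ, A.index = 2 ^ k) : Group.IsSolvable G := by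
  exact aux _ rfl A hA hidx

end Cfsg.Agent.S3824
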