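import Cfsg.Statements.S3825
import Mathlib.GroupTheory.FixedPointFree
import Mathlib.GroupTheory.QuotientGroup.Basic
import Mathlib.GroupTheory.Commutator.Basic
import Mathlib.GroupTheory.Index
import Mathlib.GroupTheory.SpecificGroups.Cyclic
import Mathlib.GroupTheory.PGroup
import Mathlib.Tactic

set_option autoImplicit false
open Cfsg

namespace Cfsg.Agent.S3825

open scoped commutatorElement

/-- Let U be a subgroup of a finite group H and w an involution of H normalizing U and commuting with exactly two elements of U, the identity and y. If V is a non-cyclic elementary abelian 2-subgroup of U containing y which is normal in U and invariant under w, then V is a Sylow 2-subgroup of U, V has order 4, and U/V is abelian. -/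
theorem result {H : Type*} [Group H] [Finite H] (U : Subgroup H) (w : H) (hw : orderOf w = 2)
    (hwU : w ∈ Subgroup.normalizer (U : Set H)) (y : H) (hy : y ≠ 1) (hyU : y ∈ U)
    (hfix : ∀ u ∈ U, w * u * w⁻¹ = u ↔ (u = 1 ∨ u = y))
    (V : Subgroup H) (hVU : V ≤ U) (hVn : (V.subgroupOf U).Normal) (hVw : ∀ v ∈ V, w * v * w⁻¹ ∈ V)
    (hVe : Cfsg.IsElementaryAbelian 2 V) (hVc : ¬ IsCyclic ↥V) (hyV : y ∈ V) :
    ¬ 2 ∣ V.relIndex U ∧ Nat.card ↥V = 4 ∧ ⁅U, U⁆ ≤ V := by
  have hw2 : w * w = 1 := by rw [← sq, ← hw, pow_orderOf_eq_one]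
  have hwinv : w⁻¹ = w := inv_eq_of_mul_eq_one_right hw2
  have hcomm : ∀ a ∈ V, ∀ b ∈ V, a * b = b * a := fun a ha b hb =>
    congrArg Subtype.val (hVe.1.is_comm.comm ⟨a, ha⟩ ⟨b, hb⟩)
  have hsq : ∀ a ∈ V, a * a = 1 := fun a ha => by rw [← sq]; exact hVe.2 a ha
  have hinv : ∀ a ∈ V, a⁻¹ = a := fun a ha => inv_eq_of_mul_eq_one_right (hsq a ha)
  have hfixy : w * y * w⁻¹ = y := (hfix y hyU).2 (Or.inr rfl)
  let ψ : V →* V := MonoidHom.mk' (fun v => ⟨v * (w * v * w⁻¹), V.mul_mem v.2 (hVw v v.2)⟩) fun a b =>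
    Subtype.ext (by
      show (a : H) * b * (w * (a * b) * w⁻¹) = a * (w * a * w⁻¹) * (b * (w * b * w⁻¹))
      have h1 := hcomm b b.2 (w * a * w⁻¹) (hVw a a.2)
      calc (a : H) * b * (w * (a * b) * w⁻¹) = a * ((b : H) * (w * a * w⁻¹)) * (w * b * w⁻¹) := by group
        _ = _ := by rw [h1]; group)
  have hψfix : ∀ v : V, (ψ v : H) = 1 ∨ (ψ v : H) = y := fun v => by
    refine (hfix _ (hVU (ψ v).2)).1 ?_
    show w * ((v : H) * (w * v * w⁻¹)) * w⁻¹ = v * (w * v * w⁻¹)
    rw [hcomm v v.2 _ (hVw v v.2)]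
    calc w * (w * (v : H) * w⁻¹ * v) * w⁻¹ = (w * w) * v * w⁻¹ * v * w⁻¹ := by group
      _ = (v : H) * (w * v * w⁻¹) := by rw [hw2, hwinv]; group
      _ = _ := hcomm v v.2 _ (hVw v v.2)
  have hker : ∀ v : V, v ∈ ψ.ker → (v : H) = 1 ∨ (v : H) = y := fun v hv => by
    refine (hfix _ (hVU v.2)).1 ?_
    have h1 : (v : H) * (w * v * w⁻¹) = 1 := congrArg Subtype.val (MonoidHom.mem_ker.1 hv)
    rw [← inv_eq_of_mul_eq_one_right h1, hinv v v.2]
  have hV4 : Nat.card V = 4 := by
    classical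
    have hb : ∀ S : Subgroup V, (∀ v ∈ S, (v : H) = 1 ∨ (v : H) = y) → Nat.card S ≤ 2 := fun S hS => by
      let f : S → Bool := fun v => decide (((v : V) : H) = 1)
      have hf : Function.Injective f := by
        intro a b hab
        refine Subtype.ext (Subtype.ext ?_)
        rcases hS _ a.2 with ha | ha <;> rcases hS _ b.2 with hb | hb
        · rw [ha, hb]
        · exact absurd (hb.symm.trans ((decide_eq_decide.1 hab).1 ha)) hy
        · exact absurd (ha.symm.trans ((decide_eq_decide.1 hab).2 hb)) hy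
        · rw [ha, hb]
      exact (Nat.card_le_card_of_injective f hf).trans (by simp)
    have hle : Nat.card V ≤ 2 * 2 := by
      rw [← ψ.ker.card_mul_index, Subgroup.index_ker]
      refine Nat.mul_le_mul (hb _ hker) (hb _ ?_)
      rintro _ ⟨v, rfl⟩
      exact hψfix v
    haveI : Fact (Nat.Prime 2) := ⟨Nat.prime_two⟩
    have hp : IsPGroup 2 V := fun v => ⟨1, Subtype.ext (by rw [pow_one, SubmonoidClass.coe_pow]; exact hVe.2 v v.2)⟩
    obtain ⟨k, hk⟩ := IsPGroup.iff_card.1 hp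
    rcases k with _ | _ | _ | k
    · haveI := (Nat.card_eq_one_iff_unique.1 (by rw [hk, pow_zero])).1
      exact absurd isCyclic_of_subsingleton hVc
    · exact absurd (isCyclic_of_prime_card (p := 2) (by rw [hk, pow_one])) hVc
    · rw [hk]; norm_num
    · exfalso
      have : 2 ^ 3 ≤ 2 ^ (k + 1 + 1 + 1) := Nat.pow_le_pow_right two_pos (by omega)
      omega
  have hex : ∃ z ∈ V, z * (w * z * w⁻¹) = y := by
    by_contra! hno
    have hall : ∀ v : V, (v : H) = 1 ∨ (v : H) = y := fun v =>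
      hker v (MonoidHom.mem_ker.2 (Subtype.ext ((hψfix v).resolve_right (hno v v.2))))
    apply hVc
    refine ⟨⟨⟨y, hyV⟩, fun v => ?_⟩⟩
    rcases hall v with h | h
    · exact ⟨0, Subtype.ext (by simp [h])⟩
    · exact ⟨1, Subtype.ext (by simp [h])⟩
  obtain ⟨z, hz, hzy⟩ := hex
  haveI := hVn
  let θ : U →* U := MonoidHom.mk'
    (fun u => ⟨w * u * w⁻¹, (Subgroup.mem_normalizer_iff.1 hwU u).1 u.2⟩) fun a b => Subtype.ext (by
      show w * ((a : H) * b) * w⁻¹ = w * a * w⁻¹ * (w * b * w⁻¹)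
      group)
  have hθV : V.subgroupOf U ≤ (V.subgroupOf U).comap θ := fun u hu => hVw _ hu
  let φ : (U ⧸ V.subgroupOf U) →* (U ⧸ V.subgroupOf U) := QuotientGroup.map _ _ θ hθV
  have hinvol : Function.Involutive φ := fun q => by
    obtain ⟨u, rfl⟩ := QuotientGroup.mk'_surjective _ q
    refine congrArg QuotientGroup.mk (Subtype.ext ?_)
    show w * (w * (u : H) * w⁻¹) * w⁻¹ = u
    calc w * (w * (u : H) * w⁻¹) * w⁻¹ = (w * w) * u * (w * w)⁻¹ := by group
      _ = u := by rw [hw2]; group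
  have hfpf : MonoidHom.FixedPointFree φ := fun q hq => by
    obtain ⟨u, rfl⟩ := QuotientGroup.mk'_surjective _ q
    refine (QuotientGroup.eq_one_iff _).2 (Subgroup.mem_subgroupOf.2 ?_)
    have h1 : (u : H)⁻¹ * (w * u * w⁻¹) ∈ V := Subgroup.mem_subgroupOf.1 (QuotientGroup.eq.1 hq.symm)
    set v := (u : H)⁻¹ * (w * u * w⁻¹) with hv
    have h2 : w * v * w⁻¹ = v := by
      calc w * v * w⁻¹ = (w * (u : H) * w⁻¹)⁻¹ * ((w * w) * u * (w * w)⁻¹) := by rw [hv]; group
        _ = v⁻¹ := by rw [hw2, hv]; group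
        _ = v := hinv v h1
    rcases (hfix v (hVU h1)).1 h2 with h3 | h3
    · rcases (hfix u u.2).1 (inv_mul_eq_one.1 h3).symm with h | h
      · rw [h]; exact V.one_mem
      · rw [h]; exact hyV
    · have h4 : w * ((u : H) * z) * w⁻¹ = u * z := by
        have hwu : w * (u : H) * w⁻¹ = u * y := by rw [← h3, hv, mul_inv_cancel_left]
        have hwz : w * z * w⁻¹ = z * y := by
          rw [← hzy, ← mul_assoc, hsq z hz, one_mul]
        calc w * ((u : H) * z) * w⁻¹ = (w * u * w⁻¹) * (w * z * w⁻¹) := by group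
          _ = (u : H) * (y * (z * y)) := by rw [hwu, hwz]; group
          _ = _ := by rw [hcomm z hz y hyV, ← mul_assoc y y z, hsq y hyV, one_mul]
      have h5 : (u : H) * z ∈ V := by
        rcases (hfix _ (U.mul_mem u.2 (hVU hz))).1 h4 with h | h
        · rw [h]; exact V.one_mem
        · rw [h]; exact hyV
      exact (Subgroup.mul_mem_cancel_right V hz).1 h5
  refine ⟨fun h2 => ?_, hV4, ?_⟩
  · have h := MonoidHom.FixedPointFree.odd_card_of_involutive hfpf hinvol
    rw [← Subgroup.index_eq_card, Nat.odd_iff] at h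
    change 2 ∣ (V.subgroupOf U).index at h2
    omega
  · rw [Subgroup.commutator_le]
    intro a ha b hb
    have h := (MonoidHom.FixedPointFree.commute_all_of_involutive hfpf hinvol
      (QuotientGroup.mk' (V.subgroupOf U) ⟨a, ha⟩) (QuotientGroup.mk' (V.subgroupOf U) ⟨b, hb⟩))
    have h2 : (⁅(⟨a, ha⟩ : U), ⟨b, hb⟩⁆ : U) ∈ V.subgroupOf U := by
      rw [← QuotientGroup.eq_one_iff, ← QuotientGroup.mk'_apply, map_commutatorElement]
      exact commutatorElement_eq_one_iff_mul_comm.2 h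
    exact h2

end Cfsg.Agent.S3825
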