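import Cfsg.Statements.S3835
import Cfsg.Agent.S2231
import Cfsg.Agent.ZJ.Involve

set_option autoImplicit false
open Cfsg

namespace Cfsg.Agent.S3835

open CfsgLib.ZJ Equiv

lemma prime_perm_abelian {p : ℕ} [Fact p.Prime] {α : Type*} [Finite α] (hα : Nat.card α < p ^ 2)
    (P : Subgroup (Perm α)) (hP : IsPGroup p P) : ∀ a ∈ P, ∀ b ∈ P, a * b = b * a := by
  classical
  haveI := Fintype.ofFinite α
  intro a ha b hb
  ext v
  let O := MulAction.orbit P v
  obtain ⟨i, hi⟩ : ∃ i, Nat.card O = p ^ i := by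
    have h := hP.card_orbit v
    obtain ⟨i, hi⟩ := h
    exact ⟨i, by rw [← hi]⟩
  have hle : Nat.card O ≤ p := by
    have h1 : p ^ i < p ^ 2 := by
      rw [← hi]
      exact lt_of_le_of_lt (Nat.card_le_card_of_injective _ Subtype.val_injective) hα
    have h2 : i < 2 := (Nat.pow_lt_pow_iff_right (Fact.out : p.Prime).one_lt).mp h1
    rw [hi]
    calc p ^ i ≤ p ^ 1 := Nat.pow_le_pow_right (Fact.out : p.Prime).pos (by omega)
      _ = p := pow_one p
  let φ : P →* Perm O := MulAction.toPermHom P O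
  have hrange : IsCyclic φ.range := by
    have hr : IsPGroup p φ.range := hP.of_surjective φ.rangeRestrict φ.rangeRestrict_surjective
    obtain ⟨j, hj⟩ := IsPGroup.iff_card.mp hr
    have hd : p ^ j ∣ p.factorial := by
      rw [← hj]
      refine (Subgroup.card_subgroup_dvd_card _).trans ?_
      rw [Nat.card_perm]
      exact Nat.factorial_dvd_factorial hle
    have hj1 : j ≤ 1 := by
      have h := ((Fact.out : p.Prime).pow_dvd_iff_le_factorization p.factorial_ne_zero).mp hd
      rw [Nat.factorization_def _ Fact.out, show p.factorial = (p * 1).factorial by rw [mul_one],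
        padicValNat_factorial_mul] at h
      simpa using h
    interval_cases j
    · have : Subsingleton φ.range := (Nat.card_eq_one_iff_unique.mp (by simpa using hj)).1
      infer_instance
    · exact isCyclic_of_prime_card (p := p) (by simpa using hj)
  have h : φ (⟨a, ha⟩ * ⟨b, hb⟩) = φ (⟨b, hb⟩ * ⟨a, ha⟩) := by
    letI := hrange.commGroup
    have := mul_comm (⟨φ ⟨a, ha⟩, _, rfl⟩ : φ.range) ⟨φ ⟨b, hb⟩, _, rfl⟩
    rw [map_mul, map_mul]
    exact congrArg Subtype.val this
  exact congrArg Subtype.val (Perm.congr_fun h ⟨v, MulAction.mem_orbit_self v⟩)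

variable {p : ℕ} [Fact p.Prime]

/-- affine action of `Qd(p)` -/
def actFun (M : Matrix.SpecialLinearGroup (Fin 3) (ZMod p)) (v : ZMod p × ZMod p) : ZMod p × ZMod p :=
  (M.1 0 0 * v.1 + M.1 0 1 * v.2 + M.1 0 2, M.1 1 0 * v.1 + M.1 1 1 * v.2 + M.1 1 2)

lemma actFun_mul {M N : Matrix.SpecialLinearGroup (Fin 3) (ZMod p)} (hN : N ∈ Cfsg.qd p)
    (v : ZMod p × ZMod p) : actFun (M * N) v = actFun M (actFun N v) := by
  obtain ⟨c, d, A, rfl⟩ := exists_affMat_of_mem_qd hN
  simp only [actFun, Matrix.SpecialLinearGroup.coe_mul, Matrix.mul_apply, Fin.sum_univ_three]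
  simp [affMat]
  constructor <;> ring

lemma actFun_one (v : ZMod p × ZMod p) : actFun 1 v = v := by simp [actFun]

/-- affine permutation representation -/
noncomputable def aff : Cfsg.qd p →* Perm (ZMod p × ZMod p) where
  toFun M :=
    { toFun := actFun M.1
      invFun := actFun (M⁻¹ : Cfsg.qd p).1
      left_inv := fun v => by rw [← actFun_mul M.2, ← Subgroup.coe_mul, inv_mul_cancel, Subgroup.coe_one, actFun_one]
      right_inv := fun v => by rw [← actFun_mul (M⁻¹ : Cfsg.qd p).2, ← Subgroup.coe_mul, mul_inv_cancel, Subgroup.coe_one, actFun_one] }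
  map_one' := Equiv.ext actFun_one
  map_mul' M N := Equiv.ext (actFun_mul N.2)

lemma aff_injective : Function.Injective (aff (p := p)) := by
  intro M N h
  obtain ⟨c, d, A, hM⟩ := exists_affMat_of_mem_qd M.2
  obtain ⟨c', d', A', hN⟩ := exists_affMat_of_mem_qd N.2
  have h0 : actFun M.1 (0, 0) = actFun N.1 (0, 0) := Perm.congr_fun h (0, 0)
  have h1 : actFun M.1 (1, 0) = actFun N.1 (1, 0) := Perm.congr_fun h (1, 0)
  have h2 : actFun M.1 (0, 1) = actFun N.1 (0, 1) := Perm.congr_fun h (0, 1)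
  rw [hM, hN] at h0 h1 h2
  simp [actFun, affMat] at h0 h1 h2
  obtain ⟨rfl, rfl⟩ := h0
  apply Subtype.ext
  rw [hM, hN]
  congr 1
  exact sl2_ext (add_right_cancel h1.1) (add_right_cancel h2.1) (add_right_cancel h1.2) (add_right_cancel h2.2)

lemma sign_aff (hp : p ≠ 2) (M : Cfsg.qd p) : Perm.sign (aff M) = 1 := by
  set χ : Cfsg.qd p →* ℤˣ := Perm.sign.comp aff
  have hodd : Odd p := (Fact.out : p.Prime).odd_of_ne_two hp
  have key : ∀ x : Cfsg.qd p, x ^ p = 1 → χ x = 1 := by
    intro x hx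
    have h := congrArg χ hx
    rw [map_pow, map_one] at h
    rcases Int.units_eq_one_or (χ x) with e | e
    · exact e
    · rw [e, hodd.neg_one_pow] at h; exact absurd h (by decide)
  show χ M = 1
  let el : SL2 (ZMod p) → Cfsg.qd p := fun A => ⟨affMat 0 0 A, affMat_mem_qd 0 0 A⟩
  have elmul : ∀ A B, el (A * B) = el A * el B := fun A B => Subtype.ext (by
    show affMat 0 0 (A * B) = affMat 0 0 A * affMat 0 0 B
    rw [affMat_mul]; simp)
  let elh : SL2 (ZMod p) →* Cfsg.qd p := MonoidHom.mk' el elmul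
  have hlin : ∀ A, χ (el A) = 1 := by
    intro A
    have := sl2_upper_lower_induction A (χ.comp elh).ker (fun a => ?_) (fun a => ?_)
    · exact MonoidHom.mem_ker.mp this
    · rw [MonoidHom.mem_ker]
      apply key (elh (upper a))
      rw [← map_pow, upper_pow, ZMod.natCast_self, zero_mul, upper_zero, map_one]
    · rw [MonoidHom.mem_ker]
      apply key (elh (lower a))
      rw [← map_pow, lower_pow, ZMod.natCast_self, zero_mul, lower_zero, map_one]
  obtain ⟨c, d, A, hM⟩ := exists_affMat_of_mem_qd M.2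
  let T : Cfsg.qd p := ⟨affMat c d 1, affMat_mem_qd c d 1⟩
  have hMeq : M = T * el A := Subtype.ext (by
    show M.1 = affMat c d 1 * affMat 0 0 A
    rw [hM, affMat_mul]; simp)
  rw [hMeq, map_mul, hlin A, mul_one]
  apply key
  apply Subtype.ext
  have : ∀ k : ℕ, (affMat c d 1 : Matrix.SpecialLinearGroup (Fin 3) (ZMod p)) ^ k = affMat ((k : ZMod p) * c) ((k : ZMod p) * d) 1 := by
    intro k
    induction k with
    | zero => simp [affMat_one]
    | succ k ih => rw [pow_succ, ih, affMat_mul]; push_cast; simp; congr 1 <;> ring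
  rw [SubgroupClass.coe_pow, this p, ZMod.natCast_self, zero_mul, zero_mul, affMat_one]
  rfl

open Cfsg.Agent.S2231 in
lemma not_involved (n : ℕ) (hn : n < p ^ 2) :
    ¬ Cfsg.Involves ↥(Cfsg.qd p) ↥(alternatingGroup (Fin n)) := by
  classical
  rintro ⟨L, R, hR, ⟨e⟩⟩
  have hp3 : 3 ≤ p ^ 2 := by
    have := (Fact.out : p.Prime).two_le
    nlinarith
  let π : ↥L →* ↥(Cfsg.qd p) := e.toMonoidHom.comp (QuotientGroup.mk' (R.subgroupOf L))
  have hπ : Function.Surjective π := e.surjective.comp (QuotientGroup.mk'_surjective _)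
  let U := unitri p hp3
  have hQ : IsPGroup p (U.subgroupOf (Cfsg.qd p)) :=
    (isPGroup_unitri p hp3).comap_of_injective _ (Subgroup.subtype_injective _)
  obtain ⟨T, hT⟩ := hQ.exists_le_sylow
  obtain ⟨P, hP⟩ := Sylow.mapSurjective_surjective hπ p T
  let g : ↥L →* Perm (Fin n) := (alternatingGroup (Fin n)).subtype.comp L.subtype
  have hab : ∀ x y : ↥L, x ∈ (P : Subgroup ↥L) → y ∈ (P : Subgroup ↥L) → x * y = y * x := by
    intro x y hx hy
    have h := prime_perm_abelian (p := p) (by rw [Nat.card_fin]; exact hn)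
      ((P : Subgroup ↥L).map g) (P.2.map g) _ ⟨x, hx, rfl⟩ _ ⟨y, hy, rfl⟩
    exact Subtype.ext (Subtype.ext h)
  let a : SpecialLinearGroupThree (ZMod p) := ⟨!![1, 1, 0; 0, 1, 0; 0, 0, 1], by simp [Matrix.det_fin_three]⟩
  let b : SpecialLinearGroupThree (ZMod p) := ⟨!![1, 0, 0; 0, 1, 1; 0, 0, 1], by simp [Matrix.det_fin_three]⟩
  have haq : a ∈ Cfsg.qd p := Subgroup.subset_closure ⟨by simp [a], by simp [a], by simp [a]⟩
  have hbq : b ∈ Cfsg.qd p := Subgroup.subset_closure ⟨by simp [b], by simp [b], by simp [b]⟩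
  have ha : (⟨a, haq⟩ : ↥(Cfsg.qd p)) ∈ (T : Subgroup ↥(Cfsg.qd p)) :=
    hT (by show a ∈ U; exact mem_unitri.2 (by simp [a, IsUni]))
  have hb : (⟨b, hbq⟩ : ↥(Cfsg.qd p)) ∈ (T : Subgroup ↥(Cfsg.qd p)) :=
    hT (by show b ∈ U; exact mem_unitri.2 (by simp [b, IsUni]))
  rw [← hP, Sylow.coe_mapSurjective] at ha hb
  obtain ⟨x, hx, hxa⟩ := ha
  obtain ⟨y, hy, hyb⟩ := hb
  have h := congrArg π (hab x y hx hy)
  rw [map_mul, map_mul, hxa, hyb] at h
  have h1 : a * b = b * a := congrArg Subtype.val h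
  have h2 : (a.1 * b.1) 0 2 = (b.1 * a.1) 0 2 :=
    congrArg (fun z : SpecialLinearGroupThree (ZMod p) => z.1 0 2) h1
  simp [a, b, Matrix.mul_apply, Fin.sum_univ_three] at h2

end Cfsg.Agent.S3835

namespace Cfsg.Agent.S3835

/-- Let p be an odd prime and n a natural number. The alternating group of degree n has a subgroup isomorphic to Qd(p) (the natural semidirect product of an elementary abelian group of order p² by SL₂(p)) if and only if n ≥ p²; and if n < p² then Qd(p) is not even involved in it. -/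
theorem result {p : ℕ} [Fact p.Prime] (hp : p ≠ 2) (n : ℕ) : ((∃ H : Subgroup (alternatingGroup (Fin n)), Nonempty (↥H ≃* ↥(Cfsg.qd p))) ↔ p ^ 2 ≤ n) ∧ (n < p ^ 2 → ¬ Cfsg.Involves ↥(Cfsg.qd p) ↥(alternatingGroup (Fin n))) := by
  refine ⟨⟨?_, ?_⟩, not_involved n⟩
  · rintro ⟨H, ⟨e⟩⟩
    by_contra hlt
    exact not_involved n (not_le.mp hlt) ⟨H, ⊥, inferInstance,
      ⟨((QuotientGroup.quotientMulEquivOfEq (Subgroup.bot_subgroupOf H)).trans
        QuotientGroup.quotientBot).trans e⟩⟩
  · intro hle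
    haveI : NeZero p := ⟨(Fact.out : p.Prime).ne_zero⟩
    have hcard : Fintype.card (ZMod p × ZMod p) ≤ Fintype.card (Fin n) := by
      simpa [sq] using hle
    obtain ⟨ι⟩ := Function.Embedding.nonempty_of_card_le hcard
    let f : Cfsg.qd p →* alternatingGroup (Fin n) :=
      ((Equiv.Perm.viaEmbeddingHom ι).comp aff).codRestrict _ (fun M => by
        show Equiv.Perm.sign _ = 1
        rw [← sign_aff hp M]
        rw [MonoidHom.comp_apply]
        simp only [Equiv.Perm.viaEmbeddingHom_apply, Equiv.Perm.viaEmbedding]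
        convert Equiv.Perm.sign_extendDomain (aff M) (Equiv.ofInjective ι.1 ι.2) using 3)
    have hf : Function.Injective f := fun M N h =>
      aff_injective (Equiv.Perm.viaEmbeddingHom_injective ι (congrArg Subtype.val h))
    exact ⟨f.range, ⟨(MonoidHom.ofInjective hf).symm⟩⟩

end Cfsg.Agent.S3835
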