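import Cfsg.Statements.S3836
import Cfsg.Agent.ZJ.PStable

set_option autoImplicit false
open Cfsg

namespace Cfsg.Agent.S3836

/-- Let G be a finite group that is p-stable in the normalizer form: for every p-subgroup Q and every x ∈ N_G(Q) with [Q, x, x] = 1, the image of x in N_G(Q)/C_G(Q) lies in O_p(N_G(Q)/C_G(Q)). Then every subgroup of G is p-stable in the same sense. -/
theorem result {G : Type*} [Group G] [Finite G] {p : ℕ} [Fact p.Prime] (hst : Cfsg.IsNormalizerPStable p G) (H : Subgroup G) : Cfsg.IsNormalizerPStable p ↥H := by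
  intro P hP g hg hq
  have hle : (Subgroup.normalizer (P : Set H)).map H.subtype ≤
      Subgroup.normalizer ((P.map H.subtype : Subgroup G) : Set G) := Subgroup.le_normalizer_map _
  let f : ↥(Subgroup.normalizer (P : Set H)) →*
      ↥(Subgroup.normalizer ((P.map H.subtype : Subgroup G) : Set G)) :=
    (H.subtype.comp (Subgroup.normalizer (P : Set H)).subtype).codRestrict _
      fun x => hle (Subgroup.mem_map_of_mem _ x.2)
  have hq' : ⁅⁅P.map H.subtype, Subgroup.zpowers (g : G)⁆, Subgroup.zpowers (g : G)⁆ = ⊥ := by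
    rw [show Subgroup.zpowers (g : G) = (Subgroup.zpowers g).map H.subtype from
      (MonoidHom.map_zpowers H.subtype g).symm, ← Subgroup.map_commutator, ← Subgroup.map_commutator, hq,
      Subgroup.map_bot]
  obtain ⟨D, hD, hgD, hDp⟩ := (CfsgLib.ZJ.pcoreMod_iff _ _).2
    (hst _ (hP.map H.subtype) (g : G) (f ⟨g, hg⟩).2 hq')
  refine (CfsgLib.ZJ.pcoreMod_iff _ _).1 ⟨D.comap f, hD.comap f, hgD, fun x hx => ?_⟩
  obtain ⟨k, hk⟩ := hDp _ hx
  refine ⟨k, ?_⟩
  rw [← map_pow, Subgroup.mem_subgroupOf] at hk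
  rw [Subgroup.mem_subgroupOf, Subgroup.mem_centralizer_iff]
  intro y hy
  exact Subtype.ext (Subgroup.mem_centralizer_iff.1 hk (y : G) (Subgroup.mem_map_of_mem _ hy))

end Cfsg.Agent.S3836
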