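import Cfsg.Statements.S3838
import Cfsg.Agent.LocalB.Tate
import Cfsg.Agent.Transfer.Basic
import Cfsg.Agent.FGSA.GTCriterion

set_option autoImplicit false
open Cfsg
open scoped commutatorElement

namespace Cfsg.Agent.S3838

/-- Let G be a finite group with Sylow p-subgroup P such that N_G(P) has a normal p-complement. Then N_G(Q) has a normal p-complement for every subgroup Q with [P, P] ≤ Q ≤ Φ(P). -/
theorem result {G : Type*} [Group G] [Finite G] {p : ℕ} [Fact p.Prime] (P : Sylow p G) (hN : Cfsg.HasNormalPComplement p ↥(Subgroup.normalizer ((P : Subgroup G) : Set G))) (Q : Subgroup G) (h1 : (commutator ↥(P : Subgroup G)).map (P : Subgroup G).subtype ≤ Q) (h2 : Q ≤ (frattini ↥(P : Subgroup G)).map (P : Subgroup G).subtype) : Cfsg.HasNormalPComplement p ↥(Subgroup.normalizer (Q : Set G)) := by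
  classical
  set H := Subgroup.normalizer (Q : Set G) with hH
  have hP' : (P : Subgroup G) ≤ H := by
    have hQP : Q ≤ (P : Subgroup G) := h2.trans (Subgroup.map_subtype_le _)
    intro x hx
    rw [hH, Subgroup.mem_normalizer_iff_map_conj_eq]
    refine CfsgLib.Solvable.eq_of_le_of_card_le ?_
      (Subgroup.card_map_of_injective (f := (MulAut.conj x).toMonoidHom)
        (MulAut.conj x).injective).ge
    rintro _ ⟨y, hy, rfl⟩
    have h3 : x * y * x⁻¹ * y⁻¹ ∈ Q := by
      refine h1 ⟨⁅(⟨x, hx⟩ : (P : Subgroup G)), ⟨y, hQP hy⟩⁆, ?_, rfl⟩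
      exact Subgroup.commutator_mem_commutator (Subgroup.mem_top _) (Subgroup.mem_top _)
    show x * y * x⁻¹ ∈ Q
    simpa using Q.mul_mem h3 hy
  set PH : Sylow p H := P.subtype hP' with hPH
  have hQH : Q ≤ H := Subgroup.le_normalizer
  haveI hQn : (Q.subgroupOf H).Normal :=
    (Subgroup.normal_subgroupOf_iff_le_normalizer hQH).2 le_rfl
  set π := QuotientGroup.mk' (Q.subgroupOf H) with hπ
  have hπs : Function.Surjective π := QuotientGroup.mk'_surjective _
  set Pb := PH.mapSurjective (f := π) hπs with hPb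
  have hab : IsMulCommutative (Pb : Subgroup (H ⧸ Q.subgroupOf H)) := by
    refine ⟨⟨fun a b => Subtype.ext ?_⟩⟩
    obtain ⟨u, hu, hua⟩ := a.2
    obtain ⟨v, hv, hvb⟩ := b.2
    show (a : H ⧸ Q.subgroupOf H) * b = b * a
    rw [← hua, ← hvb, ← map_mul, ← map_mul]
    refine QuotientGroup.eq.2 ?_
    rw [Subgroup.mem_subgroupOf]
    refine h1 ⟨⁅(⟨(v : G), hv⟩ : (P : Subgroup G))⁻¹, (⟨(u : G), hu⟩ : (P : Subgroup G))⁻¹⁆, ?_, ?_⟩
    · exact Subgroup.commutator_mem_commutator (Subgroup.mem_top _) (Subgroup.mem_top _)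
    · simp [commutatorElement_def, mul_assoc]
  have hQp : IsPGroup p (Q.subgroupOf H) :=
    (P.2.to_le (h2.trans (Subgroup.map_subtype_le _))).comap_subtype
  -- normalizers of the Sylow subgroup
  have hbar : Cfsg.HasNormalPComplement p (H ⧸ Q.subgroupOf H) := by
    have hnorm : Cfsg.HasNormalPComplement p
        ↥(Subgroup.normalizer ((Pb : Subgroup (H ⧸ Q.subgroupOf H)) : Set (H ⧸ Q.subgroupOf H))) := by
      have hN' : Cfsg.HasNormalPComplement p
          ↥(Subgroup.normalizer ((PH : Subgroup H) : Set H)) := by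
        have hle : (Subgroup.normalizer ((PH : Subgroup H) : Set H)).map H.subtype ≤
            Subgroup.normalizer ((P : Subgroup G) : Set G) := by
          have := Subgroup.le_normalizer_map (H := (PH : Subgroup H)) H.subtype
          rwa [hPH, Sylow.coe_subtype, Subgroup.map_subgroupOf_eq_of_le hP'] at this
        exact CfsgLib.PResidual.hasNormalPComplement_of_injective
          ((Subgroup.inclusion hle).comp (Subgroup.equivMapOfInjective _ H.subtype
            H.subtype_injective).toMonoidHom)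
          ((Subgroup.inclusion_injective hle).comp (MulEquiv.injective _)) hN
      refine CfsgLib.FGSA.GT.npc_of_surjective
        ((π.comp (Subgroup.normalizer ((PH : Subgroup H) : Set H)).subtype).codRestrict _
          fun x => Subgroup.le_normalizer_map π (Subgroup.mem_map_of_mem π x.2)) ?_ hN'
      rintro ⟨y, hy⟩
      obtain ⟨x, rfl⟩ := hπs y
      refine ⟨⟨x, ?_⟩, rfl⟩
      have hcm : ((PH : Subgroup H).map π).comap π = PH := by
        rw [Subgroup.comap_map_eq, QuotientGroup.ker_mk', sup_eq_left]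
        intro z hz
        rw [hPH, Sylow.coe_subtype, Subgroup.mem_subgroupOf]
        exact (h2.trans (Subgroup.map_subtype_le _)) hz
      refine Subgroup.mem_normalizer_iff.2 fun z => ?_
      rw [← hcm, Subgroup.mem_comap, Subgroup.mem_comap, map_mul, map_mul, map_inv]
      exact Subgroup.mem_normalizer_iff.1 hy _
    refine CfsgLib.TransferBasic.hasNormalPComplement_of_abelian (P := Pb) hab fun g hg hg' => ?_
    have hloc := CfsgLib.Fusion.localCondition_of_hasNormalPComplement hnorm
      ((Pb : Subgroup (H ⧸ Q.subgroupOf H)).subgroupOf _) Pb.2.comap_subtype ⟨g, hg⟩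
      (by
        rw [← Subgroup.subgroupOf_normalizer_eq Subgroup.le_normalizer]
        exact hg) (by rwa [Subgroup.orderOf_mk])
    refine Subgroup.mem_centralizer_iff.2 fun q hq => ?_
    exact congrArg Subtype.val (Subgroup.mem_centralizer_iff.1 hloc ⟨q, Subgroup.le_normalizer hq⟩ hq)
  -- Tate
  have hle : ∀ z : (PH : Subgroup H), (z : H) ∈ Cfsg.pResidual p H →
      z ∈ frattini ↥(PH : Subgroup H) := by
    rintro ⟨x, hxP⟩ hxR
    have hxQ : (x : G) ∈ Q := by
      have h4 : π x ∈ Cfsg.pResidual p (H ⧸ Q.subgroupOf H) :=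
        CfsgLib.PResidual.map_pResidual_le π (Subgroup.mem_map_of_mem π hxR)
      have h5 : π x = 1 := by
        obtain ⟨k, hk⟩ := Pb.2 ⟨π x, Subgroup.mem_map_of_mem π hxP⟩
        exact CfsgLib.FGSA.GT.eq_one_of_ppow (k := k) (by simpa using congrArg Subtype.val hk)
          ((CfsgLib.PResidual.hasNormalPComplement_iff.1 hbar).coprime_dvd_left
            (Subgroup.orderOf_dvd_natCard _ h4))
      exact Subgroup.mem_subgroupOf.1 ((QuotientGroup.eq_one_iff x).1 h5)
    obtain ⟨y, hy, hyx⟩ := h2 hxQ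
    let e : (P : Subgroup G) ≃* (PH : Subgroup H) :=
      (Subgroup.subgroupOfEquivOfLe hP').symm.trans (MulEquiv.subgroupCongr (by rw [hPH]; rfl))
    have hey : e y = ⟨x, hxP⟩ := Subtype.ext (Subtype.ext hyx)
    rw [← hey]
    show e y ∈ Order.radical (Subgroup (PH : Subgroup H))
    rw [Order.radical]
    simp only [Subgroup.mem_iInf]
    intro K hK
    exact frattini_le_coatom ((OrderIso.isCoatom_iff (MulEquiv.comapSubgroup e) K).2 hK) hy
  rw [CfsgLib.PResidual.hasNormalPComplement_iff]
  have hbot := CfsgLib.LocalB.Tate.inf_pResidual_eq_bot PH hle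
  refine (Fact.out : p.Prime).coprime_iff_not_dvd.2 ?_ |>.symm
  intro hdvd
  obtain ⟨⟨x, hx⟩, hxo⟩ := exists_prime_orderOf_dvd_card' p hdvd
  rw [Subgroup.orderOf_mk] at hxo
  obtain ⟨S, hS⟩ := (IsPGroup.of_card (n := 1) (by rw [Nat.card_zpowers, hxo, pow_one]) :
    IsPGroup p (Subgroup.zpowers x)).exists_le_sylow
  obtain ⟨g, hg⟩ := MulAction.exists_smul_eq H S PH
  have hx' : g * x * g⁻¹ ∈ (PH : Subgroup H) ⊓ Cfsg.pResidual p H := by
    refine ⟨?_, Subgroup.Normal.conj_mem inferInstance x hx g⟩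
    rw [← hg, Sylow.coe_subgroup_smul]
    exact ⟨x, hS (Subgroup.mem_zpowers x), rfl⟩
  have hx'' : g * x * g⁻¹ = 1 := congrArg Subtype.val (hbot ⟨_, hx'.1⟩ hx'.2)
  rw [conj_eq_one_iff] at hx''
  rw [hx'', orderOf_one] at hxo
  exact (Fact.out : p.Prime).one_lt.ne hxo

end Cfsg.Agent.S3838
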