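import Cfsg.Statements.S3839
import Cfsg.Agent.Transfer.Frobenius
import Mathlib.GroupTheory.Nilpotent

set_option autoImplicit false
open Cfsg

namespace Cfsg.Agent.S3839

open Subgroup
open scoped commutatorElement Pointwise

theorem mul_pow_mem {G : Type*} [Group G] (M : Subgroup G) (w m : G) (hm : m ∈ M)
    (hw : ∀ a ∈ M, w * a * w⁻¹ ∈ M) : ∀ k : ℕ, ∃ m' ∈ M, (m * w) ^ k = m' * w ^ k := by
  intro k
  induction k with
  | zero => exact ⟨1, one_mem _, by simp⟩
  | succ k ih =>
    obtain ⟨m', hm', he⟩ := ih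
    refine ⟨m * (w * m' * w⁻¹), mul_mem hm (hw m' hm'), ?_⟩
    rw [pow_succ', he, pow_succ']
    group

theorem exists_pow_coprime {G : Type*} [Group G] [Finite G] {p : ℕ} [Fact p.Prime] (w : G) :
    ∃ a : ℕ, (orderOf (w ^ p ^ a)).Coprime p := by
  refine ⟨(orderOf w).factorization p, ?_⟩
  rw [orderOf_pow_of_dvd (pow_ne_zero _ (Fact.out : p.Prime).ne_zero) (Nat.ordProj_dvd _ _)]
  exact (Nat.coprime_ordCompl Fact.out (orderOf_pos w).ne').symm

theorem norm_sup {G : Type*} [Group G] (A B : Subgroup G) :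
    normalizer (A : Set G) ⊓ normalizer (B : Set G) ≤ normalizer ((A ⊔ B : Subgroup G) : Set G) := by
  intro g hg
  rw [mem_normalizer_iff_map_conj_eq, Subgroup.map_sup, mem_normalizer_iff_map_conj_eq.1 hg.1,
    mem_normalizer_iff_map_conj_eq.1 hg.2]

/-- A Sylow subgroup meets a normal subgroup in a Sylow subgroup of it. -/
theorem exists_sylow_inf {G : Type*} [Group G] [Finite G] {p : ℕ} [Fact p.Prime] (M : Subgroup G) [M.Normal]
    (R : Sylow p G) : ∃ RM : Sylow p M, (RM : Subgroup M) = (R : Subgroup G).subgroupOf M := by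
  refine ⟨{ toSubgroup := (R : Subgroup G).subgroupOf M
            isPGroup' := R.isPGroup'.comap_subtype
            is_maximal' := fun {Q} hQ hle => ?_ }, rfl⟩
  obtain ⟨R', hR'⟩ := (hQ.map M.subtype).exists_le_sylow
  obtain ⟨g, hg⟩ := MulAction.exists_smul_eq G R R'
  refine (eq_of_le_of_card_ge hle ?_).symm
  let f : Q → (R : Subgroup G).subgroupOf M := fun q =>
    ⟨⟨g⁻¹ * ((q : M) : G) * g, by simpa using Normal.conj_mem inferInstance _ (q : M).2 g⁻¹⟩, by
      obtain ⟨r, hr, hre⟩ := (hg ▸ hR' ⟨(q : M), q.2, rfl⟩ : ((q : M) : G) ∈ ((g • R : Sylow p G) : Subgroup G))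
      have he : g * r * g⁻¹ = ((q : M) : G) := hre
      rw [mem_subgroupOf]
      show g⁻¹ * ((q : M) : G) * g ∈ (R : Subgroup G)
      rw [← he, show g⁻¹ * (g * r * g⁻¹) * g = r by group]
      exact hr⟩
  refine Nat.card_le_card_of_injective f fun a b hab => ?_
  have h1 : g⁻¹ * ((a : M) : G) * g = g⁻¹ * ((b : M) : G) * g :=
    congrArg (fun z : (R : Subgroup G).subgroupOf M => ((z : M) : G)) hab
  exact Subtype.ext (Subtype.ext (mul_left_cancel (mul_right_cancel h1)))

theorem exists_frattini {G : Type*} [Group G] [Finite G] {p : ℕ} [Fact p.Prime] (N M P : Subgroup G)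
    (hMN : M ≤ N) (hnorm : ∀ n ∈ N, ∀ m ∈ M, n * m * n⁻¹ ∈ M) (hPN : P ≤ N) (hP : IsPGroup p P)
    (hmax : ∀ Q : Subgroup G, IsPGroup p Q → P ≤ Q → Q ≤ N → Q = P) {x : G} (hx : x ∈ N) :
    ∃ m ∈ M, ∃ w ∈ N, w ∈ normalizer ((M ⊓ P : Subgroup G) : Set G) ∧ x = m * w := by
  haveI : (M.subgroupOf N).Normal := ⟨fun n hn g => hnorm g g.2 n hn⟩
  let R : Sylow p N :=
    { toSubgroup := P.subgroupOf N
      isPGroup' := hP.of_equiv (subgroupOfEquivOfLe hPN).symm
      is_maximal' := fun {Q} hQ hle => by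
        have h1 := hmax (Q.map N.subtype) (hQ.map _)
          (fun y hy => ⟨⟨y, hPN hy⟩, hle hy, rfl⟩) (map_subtype_le _)
        rw [← h1, subgroupOf, comap_map_eq_self_of_injective N.subtype_injective] }
  obtain ⟨RM, hRM⟩ : ∃ RM : Sylow p ↥(M.subgroupOf N),
      (RM : Subgroup ↥(M.subgroupOf N)) = (R : Subgroup N).subgroupOf (M.subgroupOf N) :=
    exists_sylow_inf (M.subgroupOf N) R
  have hF := RM.normalizer_sup_eq_top
  have hmap : (RM : Subgroup ↥(M.subgroupOf N)).map (M.subgroupOf N).subtype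
      = (M ⊓ P).subgroupOf N := by
    rw [hRM, subgroupOf_map_subtype]
    ext y
    simp only [mem_inf, mem_subgroupOf]
    exact and_comm
  rw [hmap, sup_comm] at hF
  obtain ⟨m, hm, w, hw, he⟩ := mem_sup_of_normal_left.1 (hF ▸ mem_top (⟨x, hx⟩ : N))
  refine ⟨m, hm, w, w.2, mem_normalizer_iff.2 fun h => ?_, (congrArg Subtype.val he).symm⟩
  constructor
  · intro hh
    exact ((mem_normalizer_iff.1 hw ⟨h, hMN hh.1⟩).1 hh)
  · intro hh
    have hN : h ∈ N := by
      have h2 := N.mul_mem (N.mul_mem (N.inv_mem w.2) (hMN hh.1)) w.2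
      simpa [mul_assoc] using h2
    exact ((mem_normalizer_iff.1 hw ⟨h, hN⟩).2 hh)

theorem eq_one_of_pow {G : Type*} [Group G] [Finite G] {p : ℕ} [Fact p.Prime] {x : G} (T : Subgroup G)
    (hx : (orderOf x).Coprime p) {a : ℕ} (h : x ^ p ^ a ∈ centralizer (T : Set G)) :
    x ∈ centralizer (T : Set G) := by
  obtain ⟨m, hm⟩ := exists_pow_eq_self_of_coprime (hx.pow_right a).symm
  rw [← hm]
  exact pow_mem h m

theorem local_cond {G : Type*} [Group G] [Finite G] {p : ℕ} [Fact p.Prime] (S : Sylow p G)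
    (D : Subgroup G) (hDS : D ≤ (S : Subgroup G))
    (hcl : ∀ x ∈ D, ∀ g : G, g * x * g⁻¹ ∈ (S : Subgroup G) → g * x * g⁻¹ ∈ D)
    (h : ∀ U : Subgroup G, U ≤ D → D ⊓ centralizer (U : Set G) ≤ U →
      Cfsg.HasNormalPComplement p ↥(normalizer (U : Set G))) :
    CfsgLib.Fusion.LocalCondition p G := by
  have hS : IsPGroup p (S : Subgroup G) := S.isPGroup'
  -- p'-elements of N(U) centralise the p-subgroups they normalise
  have L1 : ∀ U : Subgroup G, U ≤ D → D ⊓ centralizer (U : Set G) ≤ U → ∀ T : Subgroup G,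
      IsPGroup p T → T ≤ normalizer (U : Set G) → ∀ x ∈ normalizer (U : Set G),
      x ∈ normalizer (T : Set G) → (orderOf x).Coprime p → x ∈ centralizer (T : Set G) := by
    intro U hU hcen T hT hTN x hxU hxT hx
    have h1 := CfsgLib.Fusion.localCondition_of_hasNormalPComplement (h U hU hcen)
      (T.subgroupOf (normalizer (U : Set G))) hT.comap_subtype ⟨x, hxU⟩
      (by rw [← subgroupOf_normalizer_eq hTN]; exact hxT) (by rwa [orderOf_mk])
    refine mem_centralizer_iff.2 fun t ht => ?_
    exact congrArg Subtype.val (mem_centralizer_iff.1 h1 ⟨t, hTN ht⟩ ht)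
  -- move a normalised p-subgroup so that a Sylow subgroup of its normaliser lies in S
  have hconj : ∀ (P : Subgroup G → Prop),
      (∀ (T : Subgroup G) (g : G), IsPGroup p T → P T → P (T.map (MulAut.conj g).toMonoidHom) ∨
        ¬ T.map (MulAut.conj g).toMonoidHom ≤ (S : Subgroup G)) →
      (∀ T : Subgroup G, T ≤ (S : Subgroup G) → P T →
        (∀ Q : Subgroup G, IsPGroup p Q → (S : Subgroup G) ⊓ normalizer (T : Set G) ≤ Q →
          Q ≤ normalizer (T : Set G) → Q = (S : Subgroup G) ⊓ normalizer (T : Set G)) →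
        ∀ x ∈ normalizer (T : Set G), (orderOf x).Coprime p → x ∈ centralizer (T : Set G)) →
      ∀ T : Subgroup G, IsPGroup p T → P T → ∀ x ∈ normalizer (T : Set G), (orderOf x).Coprime p →
        x ∈ centralizer (T : Set G) := by
    intro P hP hmain T hT hPT x hxT hx
    obtain ⟨R, hR⟩ := (hT.comap_subtype (K := normalizer (T : Set G))).exists_le_sylow
    have hRp : IsPGroup p ((R : Subgroup (normalizer (T : Set G))).map (normalizer (T : Set G)).subtype) :=
      R.isPGroup'.map _
    obtain ⟨S', hS'⟩ := hRp.exists_le_sylow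
    obtain ⟨g, hg⟩ := MulAction.exists_smul_eq G S' S
    set c : G ≃* G := MulAut.conj g with hc
    set T' := T.map c.toMonoidHom with hT'
    have hN' : normalizer (T' : Set G) = (normalizer (T : Set G)).map c.toMonoidHom :=
      (map_equiv_normalizer_eq T c).symm
    have hS'map : (S : Subgroup G) = (S' : Subgroup G).map c.toMonoidHom := by
      rw [← hg]; rfl
    have hT'S : T' ≤ (S : Subgroup G) := by
      rw [hS'map]
      refine map_mono fun t ht => hS' ⟨⟨t, le_normalizer ht⟩, hR ht, rfl⟩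
    have hPT' : P T' := (hP T g hT hPT).resolve_right (fun h => h hT'S)
    have hmax : ∀ Q : Subgroup G, IsPGroup p Q → (S : Subgroup G) ⊓ normalizer (T' : Set G) ≤ Q →
        Q ≤ normalizer (T' : Set G) → Q = (S : Subgroup G) ⊓ normalizer (T' : Set G) := by
      intro Q hQ hle hQN
      refine le_antisymm ?_ hle
      set Q0 := Q.map c.symm.toMonoidHom with hQ0
      have hQ0N : Q0 ≤ normalizer (T : Set G) := by
        intro y hy
        obtain ⟨q, hq, rfl⟩ := hy
        obtain ⟨n, hn, hne⟩ := hN' ▸ hQN hq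
        have he : c n = q := hne
        show c.symm q ∈ _
        rwa [← he, c.symm_apply_apply]
      have hRQ : (R : Subgroup (normalizer (T : Set G))) ≤ Q0.subgroupOf _ := by
        intro r hr
        have h1 : c (r : G) ∈ (S : Subgroup G) ⊓ normalizer (T' : Set G) :=
          ⟨hS'map ▸ ⟨_, hS' ⟨r, hr, rfl⟩, rfl⟩, hN' ▸ ⟨_, r.2, rfl⟩⟩
        exact ⟨c r, hle h1, c.symm_apply_apply _⟩
      have h2 := R.is_maximal' ((hQ.map c.symm.toMonoidHom).comap_subtype) hRQ
      intro q hq
      refine ⟨?_, hQN hq⟩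
      have h3 : (⟨c.symm q, hQ0N ⟨q, hq, rfl⟩⟩ : normalizer (T : Set G)) ∈
          (R : Subgroup (normalizer (T : Set G))) := h2 ▸ (⟨q, hq, rfl⟩ : c.symm q ∈ Q0)
      rw [hS'map]
      exact ⟨_, hS' ⟨_, h3, rfl⟩, c.apply_symm_apply q⟩
    have h4 := hmain T' hT'S hPT' hmax (c x) (hN' ▸ ⟨x, hxT, rfl⟩)
      (by rwa [MulEquiv.orderOf_eq])
    refine mem_centralizer_iff.2 fun t ht => c.injective ?_
    rw [map_mul, map_mul]
    exact mem_centralizer_iff.1 h4 _ ⟨t, ht, rfl⟩
  -- p'-elements normalising a subgroup of D centralise it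
  have stepI : ∀ U : Subgroup G, IsPGroup p U → U ≤ D → ∀ x ∈ normalizer (U : Set G),
      (orderOf x).Coprime p → x ∈ centralizer (U : Set G) := by
    refine hconj (fun U => U ≤ D) (fun T g hT hTD => ?_) ?_
    · by_cases hle : T.map (MulAut.conj g).toMonoidHom ≤ (S : Subgroup G)
      · left
        rintro _ ⟨t, ht, rfl⟩
        exact hcl t (hTD ht) g (hle ⟨t, ht, rfl⟩)
      · exact Or.inr hle
    intro U hUS hUD hmax x hxU hx
    set C := centralizer (U : Set G) with hC
    set N := normalizer (U : Set G) with hN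
    set E := D ⊓ C with hE
    obtain ⟨m, hm, w, hwN, hwB, rfl⟩ := exists_frattini N C ((S : Subgroup G) ⊓ N)
      (centralizer_le_normalizer _) (fun n hn z hz => by
        refine mem_centralizer_iff.2 fun u hu => ?_
        have hu' : n⁻¹ * u * n ∈ U := by
          have := (mem_normalizer_iff.1 (inv_mem hn) u).1 hu
          simpa using this
        have h1 := mem_centralizer_iff.1 hz _ hu'
        calc u * (n * z * n⁻¹) = n * (n⁻¹ * u * n * z) * n⁻¹ := by group
          _ = n * (z * (n⁻¹ * u * n)) * n⁻¹ := by rw [h1]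
          _ = n * z * n⁻¹ * u := by group)
      inf_le_right (hS.to_le inf_le_left) hmax hxU
    have hU1 : U ⊔ E ≤ D := sup_le hUD inf_le_left
    have hwE : ∀ v : G, v ∈ N → v ∈ normalizer ((C ⊓ ((S : Subgroup G) ⊓ N) : Subgroup G) : Set G) →
        v ∈ normalizer ((U ⊔ E : Subgroup G) : Set G) := by
      intro v hv hvB
      refine (norm_sup _ _) ⟨hv, ?_⟩
      have key : ∀ v ∈ normalizer ((C ⊓ ((S : Subgroup G) ⊓ N) : Subgroup G) : Set G), ∀ d ∈ E,
          v * d * v⁻¹ ∈ E := by
        intro v hv d hd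
        have h1 := (mem_normalizer_iff.1 hv d).1 ⟨hd.2, hDS hd.1, centralizer_le_normalizer _ hd.2⟩
        exact ⟨hcl d hd.1 v h1.2.1, h1.1⟩
      refine mem_normalizer_iff.2 fun d => ⟨key v hvB d, fun hd => ?_⟩
      have := key _ (inv_mem hvB) _ hd
      simpa [mul_assoc] using this
    obtain ⟨a, ha⟩ := exists_pow_coprime (p := p) w
    have h2 : w ^ p ^ a ∈ centralizer ((U ⊔ E : Subgroup G) : Set G) := by
      refine L1 _ hU1 ?_ _ (hS.to_le (hU1.trans hDS)) le_normalizer _ ?_ ?_ ha
      · exact le_trans (inf_le_inf_left D (centralizer_le (SetLike.coe_subset_coe.2 le_sup_left)))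
          le_sup_right
      · exact pow_mem (hwE w hwN hwB) _
      · exact pow_mem (hwE w hwN hwB) _
    obtain ⟨m', hm', he⟩ := mul_pow_mem C w m hm (fun z hz => by
      refine mem_centralizer_iff.2 fun u hu => ?_
      have hu' : w⁻¹ * u * w ∈ U := by
        have := (mem_normalizer_iff.1 (inv_mem hwN) u).1 hu
        simpa using this
      have h1 := mem_centralizer_iff.1 hz _ hu'
      calc u * (w * z * w⁻¹) = w * (w⁻¹ * u * w * z) * w⁻¹ := by group
        _ = w * (z * (w⁻¹ * u * w)) * w⁻¹ := by rw [h1]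
        _ = w * z * w⁻¹ * u := by group) (p ^ a)
    refine eq_one_of_pow U hx (a := a) ?_
    rw [he]
    exact mul_mem hm' (centralizer_le (SetLike.coe_subset_coe.2 le_sup_left) h2)
  -- downward induction
  have main : ∀ (n : ℕ) (T : Subgroup G), IsPGroup p T → Nat.card G < Nat.card T + n →
      ∀ x ∈ normalizer (T : Set G), (orderOf x).Coprime p → x ∈ centralizer (T : Set G) := by
    intro n
    induction n with
    | zero =>
      intro T _ hlt
      exact absurd (Nat.le_of_dvd Nat.card_pos (card_subgroup_dvd_card T)) (by omega)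
    | succ n ih =>
      refine fun T hT hlt => hconj (fun U => Nat.card G < Nat.card U + (n + 1))
        (fun U g _ hU => Or.inl ?_) ?_ T hT hlt
      · show Nat.card G < _
        rwa [card_map_of_injective (MulEquiv.injective _)]
      intro T hTS hlt hmax x hxT hx
      set N := normalizer (T : Set G) with hN
      have hTp : IsPGroup p T := hS.to_le hTS
      have hbig : ∀ B : Subgroup G, B ≤ (S : Subgroup G) → ¬ B ≤ T → ∀ w ∈ N,
          w ∈ normalizer (B : Set G) → ∃ a : ℕ, w ^ p ^ a ∈ centralizer (T : Set G) := by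
        intro B hB hBT w hwN hwB
        obtain ⟨a, ha⟩ := exists_pow_coprime (p := p) w
        refine ⟨a, centralizer_le (SetLike.coe_subset_coe.2 le_sup_left)
          (ih (T ⊔ B) (hS.to_le (sup_le hTS hB)) ?_ _
            (pow_mem ((norm_sup T B) ⟨hwN, hwB⟩) _) ha)⟩
        have h1 : Nat.card T < Nat.card ↥(T ⊔ B) := by
          refine lt_of_le_of_ne (Nat.le_of_dvd Nat.card_pos (card_dvd_of_le le_sup_left)) fun he => ?_
          exact hBT (le_sup_right.trans (eq_of_le_of_card_ge le_sup_left he.ge).ge)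
        omega
      by_cases hCT : centralizer (T : Set G) ⊓ ((S : Subgroup G) ⊓ N) ≤ T
      swap
      · -- T is not centric in S
        obtain ⟨m, hm, w, hwN, hwB, rfl⟩ := exists_frattini N (centralizer (T : Set G))
          ((S : Subgroup G) ⊓ N) (centralizer_le_normalizer _) (fun v hv z hz => by
            refine mem_centralizer_iff.2 fun u hu => ?_
            have hu' : v⁻¹ * u * v ∈ T := by
              have := (mem_normalizer_iff.1 (inv_mem hv) u).1 hu
              simpa using this
            have h1 := mem_centralizer_iff.1 hz _ hu'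
            calc u * (v * z * v⁻¹) = v * (v⁻¹ * u * v * z) * v⁻¹ := by group
              _ = v * (z * (v⁻¹ * u * v)) * v⁻¹ := by rw [h1]
              _ = v * z * v⁻¹ * u := by group)
          inf_le_right (hS.to_le inf_le_left) hmax hxT
        obtain ⟨a, h2⟩ := hbig _ (inf_le_right.trans inf_le_left) hCT w hwN hwB
        obtain ⟨m', hm', he⟩ := mul_pow_mem (centralizer (T : Set G)) w m hm (fun z hz => by
          refine mem_centralizer_iff.2 fun u hu => ?_
          have hu' : w⁻¹ * u * w ∈ T := by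
            have := (mem_normalizer_iff.1 (inv_mem hwN) u).1 hu
            simpa using this
          have h1 := mem_centralizer_iff.1 hz _ hu'
          calc u * (w * z * w⁻¹) = w * (w⁻¹ * u * w * z) * w⁻¹ := by group
            _ = w * (z * (w⁻¹ * u * w)) * w⁻¹ := by rw [h1]
            _ = w * z * w⁻¹ * u := by group) (p ^ a)
        refine eq_one_of_pow T hx (a := a) ?_
        rw [he]
        exact mul_mem hm' h2
      -- U0 = T ⊓ D
      have hUn : ∀ v ∈ N, ∀ u ∈ T ⊓ D, v * u * v⁻¹ ∈ T ⊓ D := fun v hv u hu =>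
        ⟨(mem_normalizer_iff.1 hv u).1 hu.1, hcl u hu.2 v (hTS ((mem_normalizer_iff.1 hv u).1 hu.1))⟩
      have hNU : N ≤ normalizer ((T ⊓ D : Subgroup G) : Set G) := fun v hv =>
        mem_normalizer_iff.2 fun u => ⟨hUn v hv u, fun hu => by
          have := hUn _ (inv_mem hv) _ hu
          simpa [mul_assoc] using this⟩
      by_cases hDT : D ≤ T
      · have e : T ⊓ D = D := inf_eq_right.2 hDT
        rw [e] at hNU
        exact L1 D le_rfl inf_le_left T hTp (le_normalizer.trans hNU) x (hNU hxT) hxT hx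
      -- D is not contained in T
      have hDn : ∀ s ∈ (S : Subgroup G), ∀ d ∈ D, s * d * s⁻¹ ∈ D := fun s hs d hd =>
        hcl d hd s (mul_mem (mul_mem hs (hDS hd)) (inv_mem hs))
      obtain ⟨d, hdD, hdN, hdT⟩ : ∃ d ∈ D, d ∈ N ∧ d ∉ T := by
        have hlt' : T < T ⊔ D := left_lt_sup.2 hDT
        haveI : Group.IsNilpotent ↥(T ⊔ D) := (hS.to_le (sup_le hTS hDS)).isNilpotent
        have hTne : T.subgroupOf (T ⊔ D) < ⊤ := by
          rw [lt_top_iff_ne_top, Ne, subgroupOf_eq_top]
          exact not_le_of_gt hlt'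
        obtain ⟨y, hyN, hyT⟩ := SetLike.exists_of_lt
          (Group.normalizerCondition_of_isNilpotent (T.subgroupOf (T ⊔ D)) hTne)
        rw [← subgroupOf_normalizer_eq le_sup_left, mem_subgroupOf] at hyN
        have hy2 := SetLike.mem_coe.2 y.2
        rw [coe_mul_of_left_le_normalizer_right _ _ (le_normalizer_iff.2 fun t ht => hDn t (hTS ht))]
          at hy2
        obtain ⟨t, ht, d, hd, htd⟩ := hy2
        refine ⟨d, hd, ?_, fun hd' => hyT (by rw [mem_subgroupOf, ← htd]; exact mul_mem ht hd')⟩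
        have e : d = t⁻¹ * y := by rw [← htd]; group
        rw [e]
        exact mul_mem (inv_mem (le_normalizer ht)) hyN
      -- the subgroup acting trivially on T / (T ⊓ D)
      let R : Subgroup G :=
        { carrier := {a | a ∈ N ∧ ∀ t ∈ T, ⁅a, t⁆ ∈ T ⊓ D}
          one_mem' := ⟨one_mem _, fun t _ => by simp⟩
          mul_mem' := fun {a b} ha hb => ⟨mul_mem ha.1 hb.1, fun t ht => by
            rw [show ⁅a * b, t⁆ = a * ⁅b, t⁆ * a⁻¹ * ⁅a, t⁆ by
              simp only [commutatorElement_def]; group]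
            exact mul_mem (hUn a ha.1 _ (hb.2 t ht)) (ha.2 t ht)⟩
          inv_mem' := fun {a} ha => ⟨inv_mem ha.1, fun t ht => by
            rw [show ⁅a⁻¹, t⁆ = a⁻¹ * ⁅a, t⁆⁻¹ * (a⁻¹)⁻¹ by
              simp only [commutatorElement_def]; group]
            exact hUn _ (inv_mem ha.1) _ (inv_mem (ha.2 t ht))⟩ }
      have hRn : ∀ v ∈ N, ∀ a ∈ R, v * a * v⁻¹ ∈ R := fun v hv a ha =>
        ⟨mul_mem (mul_mem hv ha.1) (inv_mem hv), fun t ht => by
          rw [show ⁅v * a * v⁻¹, t⁆ = v * ⁅a, v⁻¹ * t * v⁆ * v⁻¹ by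
            simp only [commutatorElement_def]; group]
          refine hUn v hv _ (ha.2 _ ?_)
          have := (mem_normalizer_iff.1 (inv_mem hv) t).1 ht
          simpa using this⟩
      have hRC : ∀ a ∈ R, (orderOf a).Coprime p → a ∈ centralizer (T : Set G) := by
        intro a ha hco
        have hfix := stepI (T ⊓ D) (hTp.to_le inf_le_left) inf_le_right a (hNU ha.1) hco
        refine mem_centralizer_iff.2 fun t ht => ?_
        set u := ⁅a, t⁆ with hu
        have hau : a * u * a⁻¹ = u := by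
          rw [← mem_centralizer_iff.1 hfix u (ha.2 t ht), mul_inv_cancel_right]
        have hpow : ∀ i : ℕ, a ^ i * t * (a ^ i)⁻¹ = u ^ i * t := by
          intro i
          induction i with
          | zero => simp
          | succ i ihi =>
            have h1 : a * t * a⁻¹ = u * t := by rw [hu, commutatorElement_def]; group
            calc a ^ (i + 1) * t * (a ^ (i + 1))⁻¹ = a * (a ^ i * t * (a ^ i)⁻¹) * a⁻¹ := by
                  rw [pow_succ']; group
              _ = (a * u ^ i * a⁻¹) * (a * t * a⁻¹) := by rw [ihi]; group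
              _ = u ^ (i + 1) * t := by rw [← conj_pow, hau, h1, pow_succ, mul_assoc]
        have h2 := hpow (orderOf a)
        rw [pow_orderOf_eq_one, one_mul, inv_one, mul_one] at h2
        have h3 : u ^ orderOf a = 1 := mul_eq_right.1 h2.symm
        obtain ⟨k, hk⟩ := IsPGroup.iff_orderOf.1 hTp ⟨u, (ha.2 t ht).1⟩
        rw [orderOf_mk] at hk
        have h4 : orderOf u = 1 := by
          refine Nat.eq_one_of_dvd_coprimes (hco.pow_right k) (orderOf_dvd_of_pow_eq_one h3) ?_
          rw [hk]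
        rw [orderOf_eq_one_iff, hu, commutatorElement_eq_one_iff_mul_comm] at h4
        exact h4.symm
      have hdR : d ∈ R := ⟨hdN, fun t ht => by
        refine ⟨?_, ?_⟩
        · rw [commutatorElement_def]
          exact T.mul_mem ((mem_normalizer_iff.1 hdN t).1 ht) (T.inv_mem ht)
        · rw [commutatorElement_def, show d * t * d⁻¹ * t⁻¹ = d * (t * d⁻¹ * t⁻¹) by group]
          exact D.mul_mem hdD (hDn t (hTS ht) _ (D.inv_mem hdD))⟩
      obtain ⟨r, hr, w, hwN, hwB, rfl⟩ := exists_frattini N R ((S : Subgroup G) ⊓ N)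
        (fun _ ha => ha.1) hRn inf_le_right (hS.to_le inf_le_left) hmax hxT
      obtain ⟨a, h2⟩ := hbig _ (inf_le_right.trans inf_le_left)
        (fun hle => hdT (hle ⟨hdR, hDS hdD, hdN⟩)) w hwN hwB
      obtain ⟨r', hr', he⟩ := mul_pow_mem R w r hr (hRn w hwN) (p ^ a)
      obtain ⟨b, hb⟩ := exists_pow_coprime (p := p) r'
      obtain ⟨c, hc, he2⟩ := mul_pow_mem (centralizer (T : Set G)) r' (r' * w ^ p ^ a * r'⁻¹) (by
        refine mem_centralizer_iff.2 fun u hu => ?_
        have hu' : r'⁻¹ * u * r' ∈ T := by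
          have := (mem_normalizer_iff.1 (inv_mem hr'.1) u).1 hu
          simpa using this
        have h1 := mem_centralizer_iff.1 h2 _ hu'
        calc u * (r' * w ^ p ^ a * r'⁻¹) = r' * (r'⁻¹ * u * r' * w ^ p ^ a) * r'⁻¹ := by group
          _ = r' * (w ^ p ^ a * (r'⁻¹ * u * r')) * r'⁻¹ := by rw [h1]
          _ = r' * w ^ p ^ a * r'⁻¹ * u := by group) (fun z hz => by
        refine mem_centralizer_iff.2 fun u hu => ?_
        have hu' : r'⁻¹ * u * r' ∈ T := by
          have := (mem_normalizer_iff.1 (inv_mem hr'.1) u).1 hu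
          simpa using this
        have h1 := mem_centralizer_iff.1 hz _ hu'
        calc u * (r' * z * r'⁻¹) = r' * (r'⁻¹ * u * r' * z) * r'⁻¹ := by group
          _ = r' * (z * (r'⁻¹ * u * r')) * r'⁻¹ := by rw [h1]
          _ = r' * z * r'⁻¹ * u := by group) (p ^ b)
      refine eq_one_of_pow T hx (a := a + b) ?_
      rw [pow_add, pow_mul, he, show r' * w ^ p ^ a = r' * w ^ p ^ a * r'⁻¹ * r' by group, he2]
      exact mul_mem hc (hRC _ (pow_mem hr' _) hb)
  intro Q hQ g hg hg'
  exact main (Nat.card G + 1) Q hQ (by omega) g hg hg'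


/-- A Frobenius normal p-complement criterion relative to a strongly closed subgroup. Let G be a finite group, S a Sylow p-subgroup and D a subgroup of S strongly closed in S with respect to G. Then G has a normal p-complement if and only if N_G(U) has a normal p-complement for every subgroup U of D with C_D(U) ≤ U. -/
theorem result {G : Type*} [Group G] [Finite G] {p : ℕ} [Fact p.Prime] (S : Sylow p G) (D : Subgroup G) (hD : Cfsg.IsStronglyClosed D (S : Subgroup G)) : Cfsg.HasNormalPComplement p G ↔ ∀ U : Subgroup G, U ≤ D → D ⊓ Subgroup.centralizer (U : Set G) ≤ U → Cfsg.HasNormalPComplement p ↥(Subgroup.normalizer (U : Set G)) := by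
  refine ⟨fun h U _ _ => ?_, fun h => ?_⟩
  · exact CfsgLib.PResidual.hasNormalPComplement_subgroup _ h
  · exact CfsgLib.Fusion.hasNormalPComplement_of_localCondition
      (local_cond S D hD.1 hD.2 h)

end Cfsg.Agent.S3839
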