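import Cfsg.Statements.S3858
import Mathlib.GroupTheory.Sylow
import Mathlib.GroupTheory.Subgroup.Simple
import Mathlib.GroupTheory.PGroup
import Mathlib.Tactic

set_option autoImplicit false
open Cfsg

namespace Cfsg.Agent.S3858

open Subgroup

variable {G : Type*} [Group G] [Finite G]

theorem normalizer_inf_ne_top (T : Subgroup G) [T.Normal] (hT : IsSimpleGroup T) (hna : ¬ IsMulCommutative T)
    {r : ℕ} [Fact r.Prime] (R : Sylow r G) (hR0 : (R : Subgroup G) ⊓ T ≠ ⊥) :
    normalizer (((R : Subgroup G) ⊓ T : Subgroup G) : Set G) ≠ ⊤ := by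
  intro h
  have hn : ((R : Subgroup G) ⊓ T).Normal := normalizer_eq_top_iff.1 h
  haveI := hT
  rcases (hn.subgroupOf T).eq_bot_or_eq_top with h1 | h1
  · exact hR0 (by
      rw [subgroupOf_eq_bot, disjoint_iff, inf_assoc, inf_idem] at h1
      exact h1)
  · have hTR : T ≤ (R : Subgroup G) := (subgroupOf_eq_top.1 h1).trans inf_le_left
    have hTp : IsPGroup r T := R.2.to_le hTR
    haveI := hT.toNontrivial
    have hc := hTp.center_nontrivial
    rcases (inferInstance : (center T).Normal).eq_bot_or_eq_top with h2 | h2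
    · exact (nontrivial_iff_ne_bot _).1 hc h2
    · exact hna ⟨⟨fun a b => mem_center_iff.1 (h2 ▸ mem_top b) a⟩⟩

theorem normalizer_le_normalizer_inf (T : Subgroup G) [hT : T.Normal] (R : Subgroup G) :
    normalizer (R : Set G) ≤ normalizer ((R ⊓ T : Subgroup G) : Set G) := by
  intro g hg
  rw [mem_normalizer_iff] at hg ⊢
  intro n
  simp only [mem_inf]
  exact and_congr (hg n) ⟨fun h => hT.conj_mem n h g, fun h => by
    simpa [mul_assoc] using hT.conj_mem _ h g⁻¹⟩


/-- Let G be a finite group with a normal non-abelian simple subgroup T whose centralizer is trivial (G almost simple with socle T), r a prime and R a Sylow r-subgroup of G meeting T nontrivially. Then R lies in exactly one maximal subgroup of G if and only if G has exactly one conjugacy class of maximal subgroups whose index is prime to r. -/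
theorem result {G : Type*} [Group G] [Finite G] (T : Subgroup G) [T.Normal] (hT : IsSimpleGroup T) (hna : ¬ IsMulCommutative T)
    (hC : Subgroup.centralizer (T : Set G) = ⊥) {r : ℕ} [Fact r.Prime] (R : Sylow r G) (hR0 : (R : Subgroup G) ⊓ T ≠ ⊥) :
    (∃! M : Subgroup G, IsCoatom M ∧ (R : Subgroup G) ≤ M) ↔
      ((∃ M : Subgroup G, IsCoatom M ∧ ¬ r ∣ M.index) ∧
        ∀ M₁ M₂ : Subgroup G, IsCoatom M₁ → ¬ r ∣ M₁.index → IsCoatom M₂ → ¬ r ∣ M₂.index → ∃ g : G, M₂ = M₁.map (MulAut.conj g).toMonoidHom) := by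
  have hcoconj : ∀ (M : Subgroup G) (g : G), IsCoatom M → IsCoatom (M.map (MulAut.conj g).toMonoidHom) :=
    fun M g hM => ((MulAut.conj g).mapSubgroup.isCoatom_iff M).2 hM
  have hidx : ∀ M : Subgroup G, (R : Subgroup G) ≤ M → ¬ r ∣ M.index := fun M h hd =>
    R.not_dvd_index (hd.trans (index_dvd_of_le h))
  have hcontains : ∀ M : Subgroup G, ¬ r ∣ M.index →
      ∃ g : G, (R : Subgroup G) ≤ M.map (MulAut.conj g).toMonoidHom := by
    intro M hM
    obtain ⟨S⟩ : Nonempty (Sylow r M) := inferInstance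
    obtain ⟨Q, hQ⟩ := (S.2.map M.subtype).exists_le_sylow
    have heq : (S : Subgroup M).map M.subtype = Q := by
      refine eq_of_le_of_card_ge hQ ?_
      rw [card_map_of_injective M.subtype_injective, S.card_eq_multiplicity, Q.card_eq_multiplicity,
        ← M.card_mul_index, Nat.factorization_mul Nat.card_pos.ne' index_ne_zero_of_finite,
        Finsupp.add_apply, Nat.factorization_eq_zero_of_not_dvd hM, add_zero]
    obtain ⟨g, rfl⟩ := MulAction.exists_smul_eq G Q R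
    refine ⟨g, ?_⟩
    rintro _ ⟨x, hx, rfl⟩
    rw [← heq] at hx
    exact ⟨x, map_subtype_le _ hx, rfl⟩
  constructor
  · rintro ⟨M, ⟨hM, hRM⟩, huni⟩
    refine ⟨⟨M, hM, hidx M hRM⟩, fun M₁ M₂ h1 h1' h2 h2' => ?_⟩
    obtain ⟨g₁, hg₁⟩ := hcontains M₁ h1'
    obtain ⟨g₂, hg₂⟩ := hcontains M₂ h2'
    have e1 := huni _ ⟨hcoconj M₁ g₁ h1, hg₁⟩
    have e2 := huni _ ⟨hcoconj M₂ g₂ h2, hg₂⟩
    refine ⟨g₂⁻¹ * g₁, ?_⟩
    rw [map_mul]
    have h5 : M₂ = (M₁.map (MulAut.conj g₁).toMonoidHom).map (MulAut.conj g₂⁻¹).toMonoidHom := by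
      rw [e1, ← e2, map_map]
      ext x
      simp [mem_map, mul_assoc]
    rw [h5, map_map]
    rfl
  · rintro ⟨⟨M, hM, hMi⟩, hconj⟩
    obtain ⟨g, hg⟩ := hcontains M hMi
    obtain ⟨M₀, hM₀, hle₀⟩ := (eq_top_or_exists_le_coatom (normalizer ((R : Subgroup G) : Set G))).resolve_left
      (fun h => normalizer_inf_ne_top T hT hna R hR0 (top_le_iff.1 (h ▸ normalizer_le_normalizer_inf T _)))
    have hR₀ : (R : Subgroup G) ≤ M₀ := le_normalizer.trans hle₀
    refine ⟨M₀, ⟨hM₀, hR₀⟩, fun M₁ ⟨hM₁, hR₁⟩ => ?_⟩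
    obtain ⟨x, hx⟩ := hconj M₀ M₁ hM₀ (hidx _ hR₀) hM₁ (hidx _ hR₁)
    have hR' : ((x • R : Sylow r G) : Subgroup G) ≤ M₁ := by
      rw [hx]
      rintro _ ⟨y, hy, rfl⟩
      exact ⟨y, hR₀ hy, rfl⟩
    obtain ⟨m, hm⟩ := MulAction.exists_smul_eq M₁ ((x • R).subtype hR') (R.subtype hR₁)
    rw [Sylow.smul_subtype] at hm
    have hmx : (m : G) * x ∈ normalizer ((R : Subgroup G) : Set G) := by
      have h := Sylow.subtype_injective hm
      change ((m : G)) • (x • R : Sylow r G) = R at h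
      rw [← mul_smul] at h
      exact Sylow.smul_eq_iff_mem_normalizer.1 h
    have hconjmem : ∀ y : G, y ∈ M₁ ↔ x⁻¹ * y * x ∈ M₀ := fun y => by
      rw [hx, mem_map_equiv]
      simp
    have hxM : x ∈ M₀ := by
      have h1 := (hconjmem m).1 m.2
      have h2 := M₀.mul_mem (M₀.inv_mem h1) (M₀.inv_mem (M₀.inv_mem (hle₀ hmx)))
      have h3 : x⁻¹ * (m : G) * x * ((m : G) * x)⁻¹ = x⁻¹ := by group
      have h4 := M₀.mul_mem h1 (M₀.inv_mem (hle₀ hmx))
      rw [h3] at h4
      exact M₀.inv_mem_iff.1 h4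
    ext y
    rw [hconjmem]
    exact ⟨fun h => by simpa [mul_assoc] using M₀.mul_mem (M₀.mul_mem hxM h) (M₀.inv_mem hxM),
      fun h => M₀.mul_mem (M₀.mul_mem (M₀.inv_mem hxM) h) hxM⟩

end Cfsg.Agent.S3858
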