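import Cfsg.Statements.S3859
import Mathlib.GroupTheory.Sylow
import Mathlib.GroupTheory.Subgroup.Simple
import Mathlib.GroupTheory.PGroup
import Mathlib.Tactic
import Cfsg.Agent.Comp.ExtTwoLayer

set_option autoImplicit false
open Cfsg

namespace Cfsg.Agent.S3859

open Subgroup

variable {G : Type*} [Group G] [Finite G]

theorem normalizer_inf_ne_top (T : Subgroup G) [T.Normal] (hT : IsSimpleGroup T) (hna : ¬ IsMulCommutative T)
    {r : ℕ} [Fact r.Prime] (R : Sylow r G) (hR0 : (R : Subgroup G) ⊓ T ≠ ⊥) :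
    normalizer (((R : Subgroup G) ⊓ T : Subgroup G) : Set G) ≠ ⊤ := by
  intro h
  have hn : ((R : Subgroup G) ⊓ T).Normal := normalizer_eq_top_iff.1 h
  haveI := hT
  rcases (hn.subgroupOf T).eq_bot_or_eq_top with h1 | h1
  · exact hR0 (by
      rw [subgroupOf_eq_bot, disjoint_iff, inf_assoc, inf_idem] at h1
      exact h1)
  · have hTR : T ≤ (R : Subgroup G) := (subgroupOf_eq_top.1 h1).trans inf_le_left
    have hTp : IsPGroup r T := R.2.to_le hTR
    haveI := hT.toNontrivial
    have hc := hTp.center_nontrivial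
    rcases (inferInstance : (center T).Normal).eq_bot_or_eq_top with h2 | h2
    · exact (nontrivial_iff_ne_bot _).1 hc h2
    · exact hna ⟨⟨fun a b => mem_center_iff.1 (h2 ▸ mem_top b) a⟩⟩

theorem normalizer_le_normalizer_inf (T : Subgroup G) [hT : T.Normal] (R : Subgroup G) :
    normalizer (R : Set G) ≤ normalizer ((R ⊓ T : Subgroup G) : Set G) := by
  intro g hg
  rw [mem_normalizer_iff] at hg ⊢
  intro n
  simp only [mem_inf]
  exact and_congr (hg n) ⟨fun h => hT.conj_mem n h g, fun h => by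
    simpa [mul_assoc] using hT.conj_mem _ h g⁻¹⟩


/-- Let G be a finite group with a normal non-abelian simple subgroup T whose centralizer is trivial (G almost simple with socle T), r a prime and R a Sylow r-subgroup of G meeting T nontrivially. If R lies in exactly one maximal subgroup of G, then G/T is an r-group. -/
theorem result {G : Type*} [Group G] [Finite G] (T : Subgroup G) [T.Normal] (hT : IsSimpleGroup T) (hna : ¬ IsMulCommutative T)
    (hC : Subgroup.centralizer (T : Set G) = ⊥) {r : ℕ} [Fact r.Prime] (R : Sylow r G) (hR0 : (R : Subgroup G) ⊓ T ≠ ⊥)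
    (huniq : ∃! M : Subgroup G, IsCoatom M ∧ (R : Subgroup G) ≤ M) : IsPGroup r (G ⧸ T) := by
  obtain ⟨M, ⟨hM, hRM⟩, huni⟩ := huniq
  by_cases htop : (R : Subgroup G) ⊔ T = ⊤
  · have hsur : Function.Surjective ((QuotientGroup.mk' T).comp (R : Subgroup G).subtype) := by
      intro q
      obtain ⟨g, rfl⟩ := QuotientGroup.mk'_surjective T q
      have hg : g ∈ (R : Subgroup G) ⊔ T := htop ▸ mem_top g
      rw [mem_sup_of_normal_right] at hg
      obtain ⟨a, ha, t, ht, rfl⟩ := hg
      exact ⟨⟨a, ha⟩, by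
        simp [(QuotientGroup.eq_one_iff t).2 ht]⟩
    exact R.2.of_surjective _ hsur
  exfalso
  obtain ⟨M₁, hM₁, hle⟩ := (eq_top_or_exists_le_coatom ((R : Subgroup G) ⊔ T)).resolve_left htop
  obtain rfl := huni M₁ ⟨hM₁, le_sup_left.trans hle⟩
  obtain ⟨M₂, hM₂, hle₂⟩ := (eq_top_or_exists_le_coatom
    (normalizer (((R : Subgroup G) ⊓ T : Subgroup G) : Set G))).resolve_left
    (normalizer_inf_ne_top T hT hna R hR0)
  obtain rfl := huni M₂ ⟨hM₂, (le_normalizer.trans (normalizer_le_normalizer_inf T _)).trans hle₂⟩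
  have hfr : normalizer (((R : Subgroup G) ⊓ T : Subgroup G) : Set G) ⊔ T = ⊤ := by
    obtain ⟨Q, hQ⟩ : ∃ Q : Sylow r T, (Q : Subgroup T) = (R : Subgroup G).subgroupOf T := by
      have hQp : IsPGroup r ((R : Subgroup G).subgroupOf T) := R.2.comap_subtype
      refine ⟨hQp.toSylow fun hd => ?_, rfl⟩
      have h := (Fact.out : r.Prime).coprime_iff_not_dvd.1
        (CfsgLib.ExtTwoLayer.coprime_relIndex_inf_of_subnormal (inferInstance : T.Normal).isSubnormal R).symm
      exact h hd
    have h := Sylow.normalizer_sup_eq_top Q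
    rwa [hQ, subgroupOf_map_subtype] at h
  exact hM.1 (top_le_iff.1 (hfr ▸ sup_le hle₂ (le_sup_right.trans hle)))

end Cfsg.Agent.S3859
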