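import Cfsg.Statements.S3861
import Cfsg.Agent.Invol.BaerSuzuki
import Cfsg.Agent.Solvable.Glauberman
import Cfsg.Agent.Solvable.Fitting
import Cfsg.Agent.S3863

set_option autoImplicit false
open Cfsg
open scoped Pointwise

namespace Cfsg.Agent.S3861

/-- A finite group G has no non-identity element of odd order that is conjugate to its inverse if and only if the Sylow 2-subgroups of G are normal. -/
theorem result {G : Type*} [Group G] [Finite G] (P : Sylow 2 G) : (∀ x : G, x ≠ 1 → Odd (orderOf x) → ¬ IsConj x x⁻¹) ↔ (P : Subgroup G).Normal := by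
  haveI : Fact (Nat.Prime 2) := ⟨Nat.prime_two⟩
  constructor
  · intro h
    set U := Cfsg.pCore 2 G with hU
    haveI hUn : U.Normal := CfsgLib.Solvable.pCore_normal 2
    have hUp : IsPGroup 2 U := CfsgLib.Solvable.isPGroup_pCore 2
    have hUP : U ≤ (P : Subgroup G) := CfsgLib.Fitting.pCore_le_sylow P
    suffices hPU : (P : Subgroup G) ≤ U by rw [le_antisymm hPU hUP]; exact hUn
    intro s hs
    by_contra hsU
    set π := QuotientGroup.mk' U with hπ
    obtain ⟨k, hk⟩ := P.2 ⟨s, hs⟩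
    have hk' : s ^ 2 ^ k = 1 := by simpa using congrArg Subtype.val hk
    classical
    have hex : ∃ i, s ^ 2 ^ i ∈ U := ⟨k, by rw [hk']; exact one_mem U⟩
    obtain ⟨i, hi⟩ : ∃ i, Nat.find hex = i + 1 := Nat.exists_eq_succ_of_ne_zero fun h0 => hsU (by
      have := Nat.find_spec hex
      rwa [h0, pow_zero, pow_one] at this)
    set t := s ^ 2 ^ i with ht
    have htP : t ∈ (P : Subgroup G) := pow_mem hs _
    have htU : t ∉ U := Nat.find_min hex (by omega)
    have ht2 : t ^ 2 ∈ U := by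
      have := Nat.find_spec hex
      rwa [hi, pow_succ, pow_mul] at this
    have hord : orderOf (π t) = 2 := orderOf_eq_prime
      (by rw [← map_pow]; exact (QuotientGroup.eq_one_iff _).2 ht2)
      (fun h1 => htU ((QuotientGroup.eq_one_iff t).1 h1))
    have hcore : π t ∉ Cfsg.pCore 2 (G ⧸ U) := by
      intro hmem
      apply htU
      have hker : π.ker = U := QuotientGroup.ker_mk' U
      haveI : (Cfsg.pCore 2 (G ⧸ U)).Normal := CfsgLib.Solvable.pCore_normal 2
      exact CfsgLib.Solvable.le_pCore 2 (N := (Cfsg.pCore 2 (G ⧸ U)).comap π) inferInstance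
        ((CfsgLib.Solvable.isPGroup_pCore 2).comap_of_ker_isPGroup π (hker.symm ▸ hUp)) hmem
    obtain ⟨y, hy1, hyodd, hyinv⟩ := CfsgLib.Invol.exists_inverted_odd (π t) hord hcore
    obtain ⟨x0, rfl⟩ := QuotientGroup.mk'_surjective U y
    -- an element of odd order over `y`
    obtain ⟨j, m, hm, hjm⟩ := Nat.exists_eq_two_pow_mul_odd (orderOf_pos x0).ne'
    obtain ⟨d, hd⟩ := Nat.exists_mul_mod_eq_one_of_coprime (k := orderOf (π x0))
      (Nat.Coprime.pow_left j (Nat.coprime_two_left.2 hyodd)) (by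
        have h0 := orderOf_pos (π x0)
        have h1 : orderOf (π x0) ≠ 1 := fun h1 => hy1 (orderOf_eq_one_iff.1 h1)
        revert h0 h1
        generalize orderOf (π x0) = o
        omega)
    set x := x0 ^ (2 ^ j * d) with hx
    have hxy : π x = π x0 := by
      rw [hx, map_pow, ← pow_mod_orderOf, hd.2, pow_one]
    have hxodd : Odd (orderOf x) := by
      refine Odd.of_dvd_nat hm (orderOf_dvd_of_pow_eq_one ?_)
      rw [hx, ← pow_mul, mul_right_comm, ← hjm, pow_mul, pow_orderOf_eq_one, one_pow]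
    have hcop : (Nat.card (Subgroup.zpowers x)).Coprime (Nat.card U) := by
      obtain ⟨l, hl⟩ := IsPGroup.iff_card.1 hUp
      rw [Nat.card_zpowers, hl]
      exact Nat.Coprime.pow_right _ (Nat.coprime_two_right.2 hxodd)
    have hinv : (t * x * t⁻¹) * x ∈ U := by
      rw [← QuotientGroup.eq_one_iff, ← QuotientGroup.mk'_apply, map_mul, map_mul, map_mul,
        map_inv, hxy, hyinv, inv_mul_cancel]
    obtain ⟨u, hu, hconj⟩ := CfsgLib.SZ.conj_rel (A := Subgroup.zpowers x)
      (B := Subgroup.zpowers (t * x * t⁻¹)) (K := U)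
      (by rw [Subgroup.normalizer_eq_top (H := U)]; exact le_top) hcop
      (Or.inr (haveI := hUp.isNilpotent; inferInstance))
      (Subgroup.zpowers_le.2 (by
        rw [show t * x * t⁻¹ = (t * x * t⁻¹ * x) * x⁻¹ by group]
        exact mul_mem (Subgroup.mem_sup_right hinv)
          (Subgroup.mem_sup_left (inv_mem (Subgroup.mem_zpowers x)))))
      (by
        rw [Nat.card_zpowers, Nat.card_zpowers]
        exact (MulAut.conj t).orderOf_eq x)
    have hmem : u⁻¹ * (t * x * t⁻¹) * u ∈ Subgroup.zpowers x := by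
      have h1 : t * x * t⁻¹ ∈ MulAut.conj u • Subgroup.zpowers x := by
        rw [hconj]; exact Subgroup.mem_zpowers _
      exact CfsgLib.SZ.mem_conj_smul.1 h1
    set z := u⁻¹ * (t * x * t⁻¹) * u with hz
    have hzx : z * x ∈ U := by
      rw [← QuotientGroup.eq_one_iff, ← QuotientGroup.mk'_apply, hz, map_mul, map_mul, map_mul,
        map_inv, show π u = 1 from (QuotientGroup.eq_one_iff u).2 hu, inv_one, one_mul, mul_one,
        ← map_mul, QuotientGroup.mk'_apply, QuotientGroup.eq_one_iff]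
      exact hinv
    have hzx1 : z * x = 1 :=
      Subgroup.mem_bot.1 (Subgroup.inf_eq_bot_of_coprime hcop ▸
        (⟨mul_mem hmem (Subgroup.mem_zpowers x), hzx⟩ : z * x ∈ Subgroup.zpowers x ⊓ U))
    refine h x (fun hx1 => hy1 (by rw [← hxy, hx1, map_one])) hxodd ?_
    refine isConj_iff.2 ⟨u⁻¹ * t, ?_⟩
    rw [← eq_inv_of_mul_eq_one_left hzx1, hz]
    group
  · intro hn x hx1 hxodd hconj
    obtain ⟨⟨t, ⟨j, htj⟩, ht⟩, -, -⟩ := Cfsg.Agent.S3863.result x hconj
    have htP : t ∈ (P : Subgroup G) := by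
      obtain ⟨S, hS⟩ := (IsPGroup.of_card (n := j) (by rw [Nat.card_zpowers, htj]) :
        IsPGroup 2 (Subgroup.zpowers t)).exists_le_sylow
      obtain ⟨g, hg⟩ := MulAction.exists_smul_eq G P S
      rw [← hg, Sylow.smul_eq_of_normal] at hS
      exact hS (Subgroup.mem_zpowers t)
    have h1 : x ^ 2 ∈ (P : Subgroup G) := by
      have h2 : x * t * x⁻¹ * t⁻¹ ∈ (P : Subgroup G) := mul_mem (hn.conj_mem t htP x) (inv_mem htP)
      have h3 : x * t * x⁻¹ * t⁻¹ = x ^ 2 := by
        calc x * t * x⁻¹ * t⁻¹ = x * (t * x * t⁻¹)⁻¹ := by group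
          _ = x ^ 2 := by rw [ht, inv_inv, pow_two]
      rwa [h3] at h2
    obtain ⟨k, hk⟩ := P.2 ⟨_, h1⟩
    have hk' : (x ^ 2) ^ 2 ^ k = 1 := by simpa using congrArg Subtype.val hk
    rw [← pow_mul, ← pow_succ'] at hk'
    exact hx1 (orderOf_eq_one_iff.1 (Nat.eq_one_of_dvd_coprimes
      (Nat.Coprime.pow_right (k + 1) (Nat.coprime_two_right.2 hxodd)) dvd_rfl
      (orderOf_dvd_of_pow_eq_one hk')))

end Cfsg.Agent.S3861
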