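import Cfsg.Statements.S3862
import Cfsg.Agent.Transfer.Frobenius

set_option autoImplicit false
open Cfsg

namespace Cfsg.Agent.S3862

/-- If every 2-element of the finite group G that is conjugate to its inverse lies in the centre of G, then G has a normal 2-complement. -/
theorem result {G : Type*} [Group G] [Finite G] (h : ∀ x : G, (∃ j : ℕ, orderOf x = 2 ^ j) → IsConj x x⁻¹ → x ∈ Subgroup.center G) : Cfsg.HasNormalPComplement 2 G := by
  haveI : Fact (Nat.Prime 2) := ⟨Nat.prime_two⟩
  refine CfsgLib.Fusion.hasNormalPComplement_of_localCondition fun Q hQ g hg hg' => ?_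
  refine Subgroup.mem_centralizer_iff.2 fun x hx => ?_
  suffices key : ∀ k : ℕ, ∀ x ∈ Q, x ^ 2 ^ k = 1 → x * g = g * x by
    obtain ⟨k, hk⟩ := hQ ⟨x, hx⟩
    exact key k x hx (by simpa using congrArg Subtype.val hk)
  intro k
  induction k with
  | zero =>
    intro x _ h1
    rw [pow_zero, pow_one] at h1
    simp [h1]
  | succ k ih =>
    intro x hx hxk
    have hsq : x ^ 2 * g = g * x ^ 2 := ih _ (pow_mem hx 2) (by rw [← pow_mul, ← pow_succ', hxk])
    have hgx : g * x * g⁻¹ ∈ Q := (Subgroup.mem_normalizer_iff.1 hg x).1 hx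
    set y := x⁻¹ * (g * x * g⁻¹) with hydef
    have hyQ : y ∈ Q := mul_mem (inv_mem hx) hgx
    have hy2 : (x * y) ^ 2 = x ^ 2 := by
      rw [hydef, mul_inv_cancel_left, conj_pow, ← hsq, mul_inv_cancel_right]
    have hinv : x⁻¹ * y * x = y⁻¹ := by
      have h2 : y * x * y = x := by
        rw [pow_two, pow_two, mul_assoc x y, ← mul_assoc y x y] at hy2
        exact mul_left_cancel hy2
      apply eq_inv_of_mul_eq_one_left
      calc x⁻¹ * y * x * y = x⁻¹ * (y * x * y) := by group
        _ = 1 := by rw [h2, inv_mul_cancel]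
    have hyc : y ∈ Subgroup.center G := h y (by
      obtain ⟨j, hj⟩ := IsPGroup.iff_orderOf.1 hQ ⟨y, hyQ⟩
      exact ⟨j, by rwa [Subgroup.orderOf_mk] at hj⟩) (isConj_iff.2 ⟨x⁻¹, by rw [inv_inv]; exact hinv⟩)
    have hyx : y * y = 1 := by
      have h1 := hinv
      rw [mul_assoc, ← Subgroup.mem_center_iff.1 hyc x, inv_mul_cancel_left] at h1
      rw [eq_inv_iff_mul_eq_one] at h1
      exact h1
    have hgxy : g * x * g⁻¹ = x * y := by rw [hydef, mul_inv_cancel_left]
    have hpow : ∀ n : ℕ, g ^ n * x * (g ^ n)⁻¹ = x * y ^ n := by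
      intro n
      induction n with
      | zero => simp
      | succ n ihn =>
        have hgy : g * y ^ n * g⁻¹ = y ^ n := by
          rw [Subgroup.mem_center_iff.1 (pow_mem hyc n) g, mul_inv_cancel_right]
        calc g ^ (n + 1) * x * (g ^ (n + 1))⁻¹ = g * (g ^ n * x * (g ^ n)⁻¹) * g⁻¹ := by
              rw [pow_succ' g n]; group
          _ = g * x * g⁻¹ * (g * y ^ n * g⁻¹) := by rw [ihn]; group
          _ = x * y ^ (n + 1) := by rw [hgy, hgxy, pow_succ' y n]; group
    have hy1 : y = 1 := by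
      have h1 := hpow (orderOf g)
      rw [pow_orderOf_eq_one, one_mul, inv_one, mul_one] at h1
      have h2 : y ^ orderOf g = 1 := by simpa using h1.symm
      refine orderOf_eq_one_iff.1 (Nat.eq_one_of_dvd_coprimes hg' (orderOf_dvd_of_pow_eq_one h2)
        (orderOf_dvd_of_pow_eq_one (by rw [pow_two, hyx])))
    rw [hy1, mul_one] at hgxy
    exact (mul_inv_eq_iff_eq_mul.1 hgxy).symm

end Cfsg.Agent.S3862
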