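import Cfsg.Statements.S3864
import Cfsg.Agent.Invol.DihedralFusion
import Cfsg.Agent.Transfer.Frobenius

set_option autoImplicit false
open Cfsg

namespace Cfsg.Agent.S3864

/-- Let G be a finite group whose Sylow 2-subgroups are dihedral of order 2 ^ n with n ≥ 3, and count the conjugacy classes of involutions of G. Then exactly one of the following holds: there is one class of involutions and no normal subgroup of index 2; there are two classes of involutions, a normal subgroup of index 2 and none of index 4; there are three classes of involutions and G has a normal 2-complement. -/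
theorem result {G : Type*} [Group G] [Finite G] (P : Sylow 2 G) (n : ℕ) (hn : 3 ≤ n) (hdih : Nonempty (↥(P : Subgroup G) ≃* DihedralGroup (2 ^ (n - 1)))) : (Nat.card {C : ConjClasses G // ∃ g : G, ConjClasses.mk g = C ∧ orderOf g = 2} = 1 ∧ ∀ N : Subgroup G, N.Normal → N.index ≠ 2) ∨ (Nat.card {C : ConjClasses G // ∃ g : G, ConjClasses.mk g = C ∧ orderOf g = 2} = 2 ∧ (∃ N : Subgroup G, N.Normal ∧ N.index = 2) ∧ ∀ N : Subgroup G, N.Normal → N.index ≠ 4) ∨ (Nat.card {C : ConjClasses G // ∃ g : G, ConjClasses.mk g = C ∧ orderOf g = 2} = 3 ∧ Cfsg.HasNormalPComplement 2 G) := by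
  classical
  obtain ⟨e⟩ := hdih
  haveI : Fact (Nat.Prime 2) := ⟨Nat.prime_two⟩
  have hm : 4 ≤ 2 ^ (n - 1) := by
    calc 4 = 2 ^ 2 := rfl
      _ ≤ _ := Nat.pow_le_pow_right two_pos (by omega)
  obtain ⟨D⟩ := CfsgLib.DihFour.exists_data P.2 (by omega : 2 ≤ 2 ^ (n - 1)) e
  have hh : 2 ∣ D.h := by
    have hc : Nat.card (P : Subgroup G) = 2 * 2 ^ (n - 1) :=
      (Nat.card_congr e.toEquiv).trans DihedralGroup.nat_card
    rw [D.card_eq] at hc
    obtain ⟨m, hm'⟩ : ∃ m, n - 1 = m + 2 := ⟨n - 3, by omega⟩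
    rw [hm', pow_add] at hc
    omega
  have hodd : Odd (P : Subgroup G).index :=
    Nat.not_even_iff_odd.1 fun he => P.not_dvd_index (even_iff_two_dvd.1 he)
  have hsyl : ∀ a : G, orderOf a = 2 → ∃ g : G, g * a * g⁻¹ ∈ (P : Subgroup G) := by
    intro a ha
    obtain ⟨Q, hQ⟩ := IsPGroup.exists_le_sylow
      (IsPGroup.of_card (n := 1) (by rw [Nat.card_zpowers, ha, pow_one]) : IsPGroup 2 (Subgroup.zpowers a))
    obtain ⟨x, hx⟩ := MulAction.exists_smul_eq G Q P
    refine ⟨x, ?_⟩
    rw [← hx, Sylow.coe_subgroup_smul]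
    exact ⟨a, hQ (Subgroup.mem_zpowers a), rfl⟩
  set cz := ConjClasses.mk D.z
  set cs := ConjClasses.mk D.s
  set ct := ConjClasses.mk (D.r * D.s)
  have hrefl : ∀ i : ℤ, ConjClasses.mk (D.r ^ i * D.s) = cs ∨ ConjClasses.mk (D.r ^ i * D.s) = ct := by
    intro i
    rcases Int.even_or_odd i with ⟨c, rfl⟩ | ⟨c, rfl⟩
    · left
      refine ConjClasses.mk_eq_mk_iff_isConj.2 (isConj_iff.2 ⟨D.r ^ (-c), ?_⟩)
      rw [D.rot_conj_refl, show c + c + 2 * -c = 0 by ring, zpow_zero, one_mul]
    · right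
      refine ConjClasses.mk_eq_mk_iff_isConj.2 (isConj_iff.2 ⟨D.r ^ (-c), ?_⟩)
      rw [D.rot_conj_refl, show 2 * c + 1 + 2 * -c = 1 by ring, zpow_one]
  set T := {C : ConjClasses G // ∃ g : G, ConjClasses.mk g = C ∧ orderOf g = 2}
  have hTeq : {C : ConjClasses G | ∃ g : G, ConjClasses.mk g = C ∧ orderOf g = 2} = {cz, cs, ct} := by
    ext C
    constructor
    · rintro ⟨a, rfl, ha⟩
      obtain ⟨g, hg⟩ := hsyl a ha
      rw [show ConjClasses.mk a = ConjClasses.mk (g * a * g⁻¹) from
        ConjClasses.mk_eq_mk_iff_isConj.2 (isConj_iff.2 ⟨g, rfl⟩)]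
      rcases D.invol_cases hg
        (CfsgLib.Invol.mul_self_eq_one (x := g * a * g⁻¹) (by rw [CfsgLib.Invol.orderOf_conj_eq, ha]))
        (fun h => CfsgLib.Invol.ne_one ha (conj_eq_one_iff.1 h)) with h | ⟨i, hi⟩
      · rw [h]; exact Or.inl rfl
      · rw [hi]
        rcases hrefl i with h | h
        · exact Or.inr (Or.inl h)
        · exact Or.inr (Or.inr h)
    · rintro (rfl | rfl | rfl)
      · exact ⟨_, rfl, D.z_orderOf⟩
      · exact ⟨_, rfl, D.hs⟩
      · exact ⟨_, rfl, by simpa using D.refl_orderOf 1⟩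
  have hT : Nat.card T = ({cz, cs, ct} : Set (ConjClasses G)).ncard := by
    rw [← hTeq, ← Nat.card_coe_set_eq]; rfl
  have h1 : cs = cz → ct = cz → ∀ a b : G, orderOf a = 2 → orderOf b = 2 → IsConj a b := by
    intro hs ht a b ha hb
    have key : ∀ c : G, orderOf c = 2 → ConjClasses.mk c = cz := fun c hc => by
      have hm' : ConjClasses.mk c ∈ ({cz, cs, ct} : Set (ConjClasses G)) := hTeq ▸ ⟨c, rfl, hc⟩
      rcases hm' with h | h | h
      · exact h
      · exact h.trans hs
      · exact h.trans ht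
    exact ConjClasses.mk_eq_mk_iff_isConj.1 ((key a ha).trans (key b hb).symm)
  -- a normal subgroup of index four separates the classes
  have h4 : ∀ N : Subgroup G, N.Normal → N.index = 4 → cs ≠ cz ∧ ct ≠ cz ∧ cs ≠ ct := by
    intro N hN hi
    haveI := hN
    have hcard : Nat.card (G ⧸ N) = 4 := by rw [← Subgroup.index_eq_card, hi]
    haveI : IsMulCommutative (G ⧸ N) := IsPGroup.isMulCommutative_of_card_eq_prime_sq (p := 2) hcard
    let π := QuotientGroup.mk' N
    have hcomm : ∀ a b : G ⧸ N, a * b = b * a := fun a b => mul_comm' a b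
    have hconj : ∀ {a b : G}, ConjClasses.mk a = ConjClasses.mk b → π a = π b := fun {a b} h => by
      obtain ⟨c, hc⟩ := isConj_iff.1 (ConjClasses.mk_eq_mk_iff_isConj.1 h)
      rw [← hc, map_mul, map_mul, map_inv, hcomm (π c), mul_inv_cancel_right]
    have hr2 : π D.r * π D.r = 1 := by
      have h := congrArg π D.hsr
      rw [map_mul, map_mul, map_inv, map_inv, hcomm (π D.s), mul_inv_cancel_right] at h
      calc π D.r * π D.r = π D.r * (π D.r)⁻¹ := by conv_lhs => arg 2; rw [h]
        _ = 1 := mul_inv_cancel _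
    have hs2 : π D.s * π D.s = 1 := by rw [← map_mul, D.s_sq, map_one]
    have hz : π D.z = 1 := by
      obtain ⟨c, hc⟩ := hh
      rw [CfsgLib.DihFour.Data.z, map_zpow, zpow_natCast, hc, pow_mul, pow_two, hr2, one_pow]
    have himg : (P : Subgroup G).map π = ⊤ := by
      rw [← Subgroup.index_eq_one]
      refine Nat.eq_one_of_dvd_coprimes (a := (P : Subgroup G).index) (b := 4) ?_ ?_ ?_
      · rw [show (4 : ℕ) = 2 ^ 2 from rfl]
        exact (Nat.coprime_two_right.2 hodd).pow_right 2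
      · exact Subgroup.index_map_dvd _ (QuotientGroup.mk'_surjective N)
      · rw [← hcard]; exact Subgroup.index_dvd_card _
    have hsub : (Set.univ : Set (G ⧸ N)) ⊆ {1, π D.r, π D.s, π D.r * π D.s} := by
      intro q _
      obtain ⟨g, hg, rfl⟩ : q ∈ (P : Subgroup G).map π := himg ▸ Subgroup.mem_top q
      have hrp : ∀ i : ℤ, π D.r ^ i = 1 ∨ π D.r ^ i = π D.r := fun i => by
        rcases Int.even_or_odd i with ⟨c, rfl⟩ | ⟨c, rfl⟩
        · left; rw [← two_mul, zpow_mul, zpow_two, hr2, one_zpow]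
        · right; rw [zpow_add, zpow_mul, zpow_two, hr2, one_zpow, one_mul, zpow_one]
      obtain ⟨i, rfl | rfl⟩ := D.cases g hg
      · rw [map_zpow]; rcases hrp i with h | h <;> simp [h]
      · rw [map_mul, map_zpow]; rcases hrp i with h | h <;> simp [h]
    have hfour := Set.ncard_le_ncard hsub
    rw [Set.ncard_univ, hcard] at hfour
    have hne : ∀ {a b c : G ⧸ N}, ({1, π D.r, π D.s, π D.r * π D.s} : Set (G ⧸ N)) ⊆ {a, b, c} → False := by
      intro a b c h
      have := (hfour.trans (Set.ncard_le_ncard h)).trans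
        ((Set.ncard_insert_le a _).trans (Nat.add_le_add_right (Set.ncard_insert_le b _) 1))
      simp at this
    refine ⟨fun h => ?_, fun h => ?_, fun h => ?_⟩
    · have h' : π D.s = 1 := (hconj h).trans hz
      exact hne (a := 1) (b := π D.r) (c := π D.r) (by simp [h', Set.insert_subset_iff])
    · have h' : π D.r * π D.s = 1 := by rw [← map_mul]; exact (hconj h).trans hz
      exact hne (a := 1) (b := π D.r) (c := π D.s) (by simp [h', Set.insert_subset_iff])
    · have h' : π D.s = π D.r * π D.s := by rw [← map_mul]; exact hconj h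
      exact hne (a := 1) (b := π D.s) (c := π D.s)
        (by simp [right_eq_mul.1 h', Set.insert_subset_iff])
  by_cases ha : cs = cz ∧ ct = cz
  · refine Or.inl ⟨?_, fun N _ => D.no_index_two_of_all_conj hodd (h1 ha.1 ha.2) N⟩
    rw [hT, ha.1, ha.2]; simp
  have h2 : ∃ N : Subgroup G, N.Normal ∧ N.index = 2 := by
    by_contra hno
    have hno' : ∀ H : Subgroup G, H.index ≠ 2 := fun H hH =>
      hno ⟨H, Subgroup.normal_of_index_eq_two hH, hH⟩
    refine ha ⟨ConjClasses.mk_eq_mk_iff_isConj.2 (D.all_conj_of_no_index_two hodd hsyl hno' D.hs),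
      ConjClasses.mk_eq_mk_iff_isConj.2 (D.all_conj_of_no_index_two hodd hsyl hno' ?_)⟩
    simpa using D.refl_orderOf 1
  by_cases hb : cs = cz ∨ ct = cz ∨ cs = ct
  · refine Or.inr (Or.inl ⟨?_, h2, fun N hN hi => ?_⟩)
    · rw [hT]
      rcases hb with h | h | h
      · rw [h, Set.insert_eq_of_mem (by simp : cz ∈ ({cz, ct} : Set (ConjClasses G))),
          Set.ncard_pair fun h' => ha ⟨h, h'.symm⟩]
      · rw [h, Set.pair_comm cs cz, Set.insert_eq_of_mem (by simp : cz ∈ ({cz, cs} : Set (ConjClasses G))),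
          Set.ncard_pair fun h' => ha ⟨h'.symm, h⟩]
      · rw [h, Set.pair_eq_singleton, Set.ncard_pair fun h' => ha ⟨h.trans h'.symm, h'.symm⟩]
    · obtain ⟨e1, e2, e3⟩ := h4 N hN hi
      rcases hb with h | h | h <;> contradiction
  push Not at hb
  obtain ⟨hb1, hb2, hb3⟩ := hb
  refine Or.inr (Or.inr ⟨?_, ?_⟩)
  · rw [hT, Set.ncard_insert_of_notMem (by simp [Ne.symm hb1, Ne.symm hb2]), Set.ncard_pair hb3]
  refine CfsgLib.Fusion.hasNormalPComplement_of_localCondition fun Q hQ g hg hg2 => ?_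
  obtain ⟨P', hP'⟩ := hQ.exists_le_sylow
  obtain ⟨x, hx⟩ := MulAction.exists_smul_eq G P' P
  have hQS : Q.map (MulAut.conj x).toMonoidHom ≤ (P : Subgroup G) := by
    rw [← hx, Sylow.coe_subgroup_smul]
    rintro _ ⟨q, hq, rfl⟩
    exact ⟨q, hP' hq, rfl⟩
  by_cases hK : IsKleinFour (Q.map (MulAut.conj x).toMonoidHom)
  swap
  · have hgN : MulAut.conj x g ∈ Subgroup.normalizer ((Q.map (MulAut.conj x).toMonoidHom : Subgroup G) : Set G) :=
      Subgroup.le_normalizer_map (MulAut.conj x).toMonoidHom ⟨g, hg, rfl⟩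
    have ho : Odd (orderOf (MulAut.conj x g)) := by
      rw [MulEquiv.orderOf_eq]; exact Nat.coprime_two_right.1 hg2
    have hc := D.odd_centralizes e.toMonoidHom e.injective P.2 hQS hK hgN ho
    refine Subgroup.mem_centralizer_iff.2 fun q hq => (MulAut.conj x).injective ?_
    rw [map_mul, map_mul]
    exact Subgroup.mem_centralizer_iff.1 hc _ ⟨q, hq, rfl⟩
  obtain ⟨i, -, y, hy⟩ := D.klein_in_S hQS hK
  let f := (MulAut.conj x).trans (MulAut.conj y)
  have hf : ∀ q ∈ Q, f q ∈ D.four i := fun q hq => hy ▸ ⟨_, ⟨q, hq, rfl⟩, rfl⟩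
  have hcl : ∀ q, ConjClasses.mk (f q) = ConjClasses.mk q := fun q =>
    (ConjClasses.mk_eq_mk_iff_isConj.2 (isConj_iff.2 ⟨y * x, by
      show y * x * q * (y * x)⁻¹ = y * (x * q * x⁻¹) * y⁻¹
      group⟩)).symm
  have hz1 : ∀ q ∈ Q, ConjClasses.mk q = cz → f q = D.z := by
    intro q hq h
    rcases D.mem_four (hf q hq) inferInstance with h' | h' | h' | h'
    · exfalso
      rw [map_eq_one_iff f f.injective] at h'
      subst h'
      obtain ⟨c, hc⟩ := isConj_iff.1 (ConjClasses.mk_eq_mk_iff_isConj.1 h)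
      exact D.z_ne (by rw [← hc]; group)
    · exact h'
    all_goals
      rw [← hcl, h'] at h
      exfalso
      revert h
      rcases hrefl _ with h'' | h'' <;> rw [h'']
      exacts [hb1, hb2]
  have hfix : ∀ q ∈ Q, Commute (g * g) q := by
    intro q hq
    have hconj : ∀ u ∈ Q, g * u * g⁻¹ ∈ Q := fun u hu => (Subgroup.mem_normalizer_iff.1 hg u).1 hu
    have hmk : ∀ u : G, ConjClasses.mk (g * u * g⁻¹) = ConjClasses.mk u := fun u =>
      (ConjClasses.mk_eq_mk_iff_isConj.2 (isConj_iff.2 ⟨g, rfl⟩)).symm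
    suffices h : g * (g * q * g⁻¹) * g⁻¹ = q by
      show g * g * q = q * (g * g)
      conv_rhs => rw [← h]
      group
    by_cases hz : ConjClasses.mk q = cz
    · have h' : g * q * g⁻¹ = q :=
        f.injective ((hz1 _ (hconj q hq) ((hmk q).trans hz)).trans (hz1 q hq hz).symm)
      rw [h', h']
    by_cases hq1 : q = 1
    · simp [hq1]
    have hoth : ∀ u ∈ Q, ConjClasses.mk u ≠ cz → u ≠ 1 →
        f u = D.r ^ i * D.s ∨ f u = D.r ^ (i + (D.h : ℤ)) * D.s := by
      intro u hu hu' hu1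
      rcases D.mem_four (hf u hu) inferInstance with h | h | h | h
      · exact absurd ((map_eq_one_iff f f.injective).1 h) hu1
      · exact absurd (by rw [← hcl, h]) hu'
      · exact Or.inl h
      · exact Or.inr h
    set q1 := g * q * g⁻¹
    set q2 := g * q1 * g⁻¹
    have e1 : q1 ∈ Q := hconj q hq
    have c1 : ConjClasses.mk q1 ≠ cz := by rw [hmk]; exact hz
    have n1 : q1 ≠ 1 := fun h => hq1 (conj_eq_one_iff.1 h)
    by_cases h01 : q1 = q
    · show g * q1 * g⁻¹ = q
      rw [h01]; exact h01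
    have h12 : q2 ≠ q1 := fun h => h01 ((MulAut.conj g).injective h)
    rcases hoth q hq hz hq1 with a | a <;> rcases hoth q1 e1 c1 n1 with b | b <;>
      rcases hoth q2 (hconj q1 e1) (by rw [hmk]; exact c1) (fun h => n1 (conj_eq_one_iff.1 h)) with c | c <;>
      first
        | exact absurd (f.injective (b.trans a.symm)) h01
        | exact absurd (f.injective (c.trans b.symm)) h12
        | exact f.injective (c.trans a.symm)
  obtain ⟨o, ho⟩ : Odd (orderOf g) := Nat.coprime_two_right.1 hg2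
  refine Subgroup.mem_centralizer_iff.2 fun q hq => ?_
  have h' := (hfix q hq).pow_left (o + 1)
  rw [← pow_two, ← pow_mul, show 2 * (o + 1) = orderOf g + 1 by omega, pow_succ, pow_orderOf_eq_one,
    one_mul] at h'
  exact h'.eq.symm

end Cfsg.Agent.S3864
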