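import Cfsg.Statements.S3866
import Mathlib.GroupTheory.Abelianization.Defs
import Mathlib.GroupTheory.Index
import Mathlib.GroupTheory.Sylow
import Mathlib.Algebra.Group.Subgroup.Finite
import Mathlib.Tactic.Group

set_option autoImplicit false
open Cfsg
open scoped commutatorElement

namespace Cfsg.Agent.S3866

/-- Let A be a commutative normal subgroup of the finite group G with G generated by A and an element x. Then a ↦ x a x⁻¹ a⁻¹ is a surjective homomorphism from A onto the commutator subgroup of G whose kernel is the centralizer of x in A; in particular the commutator subgroup has order equal to the index in A of that centralizer. -/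
theorem result {G : Type*} [Group G] [Finite G] (A : Subgroup G) [A.Normal] (hA : IsMulCommutative A) (x : G) (hgen : A ⊔ Subgroup.zpowers x = ⊤) : (∀ a ∈ A, x * a * x⁻¹ * a⁻¹ ∈ commutator G) ∧ (∀ c ∈ commutator G, ∃ a ∈ A, x * a * x⁻¹ * a⁻¹ = c) ∧ (∀ a ∈ A, ∀ b ∈ A, x * (a * b) * x⁻¹ * (a * b)⁻¹ = (x * a * x⁻¹ * a⁻¹) * (x * b * x⁻¹ * b⁻¹)) ∧ Nat.card (commutator G) * Nat.card ↥(A ⊓ Subgroup.centralizer ({x} : Set G)) = Nat.card A := by
  classical
  let t : G → G := fun a => x * a * x⁻¹ * a⁻¹
  have hAc : ∀ a ∈ A, ∀ b ∈ A, a * b = b * a := fun a ha b hb =>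
    congrArg Subtype.val (hA.is_comm.comm (⟨a, ha⟩ : A) ⟨b, hb⟩)
  have hAn : ∀ (g : G), ∀ a ∈ A, g * a * g⁻¹ ∈ A := fun g a ha =>
    Subgroup.Normal.conj_mem inferInstance a ha g
  have ht : ∀ a ∈ A, t a ∈ A := fun a ha => mul_mem (hAn x a ha) (inv_mem ha)
  have hmul : ∀ a ∈ A, ∀ b ∈ A, t (a * b) = t a * t b := by
    intro a ha b hb
    calc t (a * b) = x * a * x⁻¹ * ((x * b * x⁻¹ * b⁻¹) * a⁻¹) := by simp only [t]; group
      _ = x * a * x⁻¹ * (a⁻¹ * (x * b * x⁻¹ * b⁻¹)) := by
          rw [hAc _ (ht b hb) _ (inv_mem ha)]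
      _ = t a * t b := by simp only [t]; group
  have hcomm : ∀ a ∈ A, t a ∈ commutator G := fun a _ => by
    have h1 := Subgroup.commutator_mem_commutator (Subgroup.mem_top x) (Subgroup.mem_top a)
    rw [commutatorElement_def] at h1
    exact h1
  let f : A →* G := MonoidHom.mk' (fun a => t (a : G)) fun a b => hmul a a.2 b b.2
  have hrange : ∀ g : G, g ∈ f.range ↔ ∃ a ∈ A, t a = g :=
    fun g => ⟨fun ⟨a, ha⟩ => ⟨a, a.2, ha⟩, fun ⟨a, ha, h⟩ => ⟨⟨a, ha⟩, h⟩⟩
  have htop : ∀ g : G, g ∈ Subgroup.normalizer (f.range : Set G) := by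
    have hfin : ∀ g : G, (∀ a ∈ A, g * t a * g⁻¹ ∈ f.range) →
        g ∈ Subgroup.normalizer (f.range : Set G) := by
      intro g hg
      rw [Subgroup.mem_normalizer_iff_map_conj_eq]
      refine Subgroup.eq_of_le_of_card_ge ?_
        (Subgroup.card_map_of_injective (f := (MulAut.conj g).toMonoidHom)
          (MulAut.conj g).injective).ge
      rintro _ ⟨y, hy, rfl⟩
      obtain ⟨a, ha, rfl⟩ := (hrange y).1 hy
      exact hg a ha
    have hle : A ⊔ Subgroup.zpowers x ≤ Subgroup.normalizer (f.range : Set G) := by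
      refine sup_le (fun g hg => hfin g fun a ha => ?_) (Subgroup.zpowers_le.2 (hfin x fun a ha => ?_))
      · rw [hAc g hg _ (ht a ha), mul_inv_cancel_right]
        exact (hrange _).2 ⟨a, ha, rfl⟩
      · refine (hrange _).2 ⟨x * a * x⁻¹, hAn x a ha, ?_⟩
        simp only [t]; group
    exact fun g => hle (hgen.ge (Subgroup.mem_top g))
  haveI : f.range.Normal := Subgroup.normalizer_eq_top_iff.1 (eq_top_iff.2 fun g _ => htop g)
  have hle : commutator G ≤ f.range := by
    let π := QuotientGroup.mk' f.range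
    have hcx : ∀ a ∈ A, π x * π a = π a * π x := by
      intro a ha
      have h1 : π (t a) = 1 := (QuotientGroup.eq_one_iff _).2 ((hrange _).2 ⟨a, ha, rfl⟩)
      simp only [t, map_mul, map_inv] at h1
      rwa [mul_inv_eq_one, mul_inv_eq_iff_eq_mul] at h1
    have hcent : ∀ g : G, π g ∈ Subgroup.center (G ⧸ f.range) := by
      have hAle : ∀ g : G, ∀ a ∈ A, π g * π a = π a * π g := by
        intro g a ha
        have hg : g ∈ (Subgroup.centralizer ({π a} : Set (G ⧸ f.range))).comap π := by
          have : A ⊔ Subgroup.zpowers x ≤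
              (Subgroup.centralizer ({π a} : Set (G ⧸ f.range))).comap π :=
            sup_le (fun b hb => Subgroup.mem_centralizer_singleton_iff.2
                (by rw [← map_mul, ← map_mul, hAc a ha b hb]))
              (Subgroup.zpowers_le.2 (Subgroup.mem_centralizer_singleton_iff.2 (hcx a ha)))
          exact this (hgen.ge (Subgroup.mem_top g))
        exact Subgroup.mem_centralizer_singleton_iff.1 hg
      have hle : A ⊔ Subgroup.zpowers x ≤ (Subgroup.center (G ⧸ f.range)).comap π := by
        refine sup_le (fun a ha => ?_) (Subgroup.zpowers_le.2 ?_)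
        · refine Subgroup.mem_center_iff.2 fun y => ?_
          obtain ⟨g, rfl⟩ := QuotientGroup.mk'_surjective _ y
          exact hAle g a ha
        · refine Subgroup.mem_center_iff.2 fun y => ?_
          obtain ⟨g, rfl⟩ := QuotientGroup.mk'_surjective _ y
          have hg : g ∈ (Subgroup.centralizer ({π x} : Set (G ⧸ f.range))).comap π := by
            have : A ⊔ Subgroup.zpowers x ≤
                (Subgroup.centralizer ({π x} : Set (G ⧸ f.range))).comap π :=
              sup_le (fun b hb => Subgroup.mem_centralizer_singleton_iff.2 (hcx b hb).symm)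
                (Subgroup.zpowers_le.2 (Subgroup.mem_centralizer_singleton_iff.2 rfl))
            exact this (hgen.ge (Subgroup.mem_top g))
          exact Subgroup.mem_centralizer_singleton_iff.1 hg
      exact fun g => hle (hgen.ge (Subgroup.mem_top g))
    rw [commutator_def, Subgroup.commutator_le]
    intro u _ v _
    rw [← QuotientGroup.eq_one_iff]
    show π ⁅u, v⁆ = 1
    rw [commutatorElement_def, map_mul, map_mul, map_mul, map_inv, map_inv,
      Subgroup.mem_center_iff.1 (hcent v) (π u), mul_inv_cancel_right, mul_inv_cancel]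
  have heq : f.range = commutator G := le_antisymm (by
    rintro _ ⟨a, rfl⟩; exact hcomm a a.2) hle
  refine ⟨hcomm, fun c hc => ?_, hmul, ?_⟩
  · exact (hrange c).1 (hle hc)
  · have hker : f.ker = (A ⊓ Subgroup.centralizer ({x} : Set G)).subgroupOf A := by
      ext a
      rw [MonoidHom.mem_ker, Subgroup.mem_subgroupOf]
      refine ⟨fun h => ⟨a.2, Subgroup.mem_centralizer_singleton_iff.2 ?_⟩, fun h => ?_⟩
      · have h1 : x * (a : G) * x⁻¹ * (a : G)⁻¹ = 1 := h
        rw [mul_inv_eq_one, mul_inv_eq_iff_eq_mul] at h1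
        first | exact h1 | exact h1.symm
      · show x * (a : G) * x⁻¹ * (a : G)⁻¹ = 1
        have h1 := Subgroup.mem_centralizer_singleton_iff.1 h.2
        rw [mul_inv_eq_one, mul_inv_eq_iff_eq_mul]
        first | exact h1 | exact h1.symm
    rw [← heq, ← Nat.card_congr (Subgroup.subgroupOfEquivOfLe
        (inf_le_left : A ⊓ Subgroup.centralizer ({x} : Set G) ≤ A)).toEquiv, ← hker,
      ← Subgroup.index_ker, mul_comm, Subgroup.card_mul_index]

end Cfsg.Agent.S3866
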