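import Cfsg.Statements.S3867
import Mathlib.GroupTheory.Sylow
import Mathlib.Tactic.Group

set_option autoImplicit false
open Cfsg

namespace Cfsg.Agent.S3867

open scoped Pointwise

theorem mapSurjective_smul {G H : Type*} [Group G] [Finite G] [Group H] (p : ℕ) [Fact p.Prime]
    (f : G →* H) (hf : Function.Surjective f) (g : G) (P : Sylow p G) :
    (g • P).mapSurjective hf = f g • P.mapSurjective hf := by
  apply Sylow.ext
  simp only [Sylow.coe_mapSurjective, Sylow.coe_subgroup_smul]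
  show Subgroup.map f (Subgroup.map (MulAut.conj g).toMonoidHom (P : Subgroup G)) =
    Subgroup.map (MulAut.conj (f g)).toMonoidHom (Subgroup.map f (P : Subgroup G))
  rw [Subgroup.map_map, Subgroup.map_map]
  congr 1
  ext y
  simp

theorem card_fibers {A C : Type*} [Finite A] [Finite C] (a : A → C)
    (h : ∀ c c' : C, Nat.card {x // a x = c} = Nat.card {x // a x = c'}) (c : C) :
    Nat.card A = Nat.card C * Nat.card {x // a x = c} := by
  have := Fintype.ofFinite C
  rw [← Nat.card_congr (Equiv.sigmaFiberEquiv a), Nat.card_sigma,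
    Finset.sum_congr rfl (fun i _ => h i c), Finset.sum_const, Finset.card_univ,
    smul_eq_mul, Nat.card_eq_fintype_card (α := C)]

/-- Let M and N be nontrivial normal subgroups of the finite group G with M ⊓ N trivial, and let p be a prime. Writing n(X) for the number of Sylow p-subgroups of a group X, one has n(G) · n(G/MN) = n(G/M) · n(G/N). -/
theorem result {G : Type*} [Group G] [Finite G] (p : ℕ) [Fact p.Prime] (M N : Subgroup G) [M.Normal] [N.Normal] (hM : M ≠ ⊥) (hN : N ≠ ⊥) (hMN : M ⊓ N = ⊥) : Nat.card (Sylow p G) * Nat.card (Sylow p (G ⧸ (M ⊔ N))) = Nat.card (Sylow p (G ⧸ M)) * Nat.card (Sylow p (G ⧸ N)) := by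
  classical
  let πM := QuotientGroup.mk' M
  let πN := QuotientGroup.mk' N
  let πC := QuotientGroup.mk' (M ⊔ N)
  have hMs : Function.Surjective πM := QuotientGroup.mk'_surjective M
  have hNs : Function.Surjective πN := QuotientGroup.mk'_surjective N
  have hCs : Function.Surjective πC := QuotientGroup.mk'_surjective _
  let fM : G ⧸ M →* G ⧸ (M ⊔ N) := QuotientGroup.map M (M ⊔ N) (MonoidHom.id G) le_sup_left
  let fN : G ⧸ N →* G ⧸ (M ⊔ N) := QuotientGroup.map N (M ⊔ N) (MonoidHom.id G) le_sup_right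
  have hfM : Function.Surjective fM := fun y => by
    obtain ⟨g, rfl⟩ := hCs y; exact ⟨πM g, rfl⟩
  have hfN : Function.Surjective fN := fun y => by
    obtain ⟨g, rfl⟩ := hCs y; exact ⟨πN g, rfl⟩
  let a : Sylow p (G ⧸ M) → Sylow p (G ⧸ (M ⊔ N)) := fun Q => Q.mapSurjective hfM
  let b : Sylow p (G ⧸ N) → Sylow p (G ⧸ (M ⊔ N)) := fun Q => Q.mapSurjective hfN
  have hca : ∀ c c', Nat.card {x // a x = c} = Nat.card {x // a x = c'} := by
    intro c c'
    obtain ⟨g, hg⟩ := MulAction.exists_smul_eq (G ⧸ (M ⊔ N)) c c'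
    obtain ⟨u, rfl⟩ := hfM g
    refine Nat.card_congr (Equiv.subtypeEquiv (MulAction.toPerm u) fun x => ?_)
    show a x = c ↔ a (u • x) = c'
    simp only [a]
    rw [mapSurjective_smul p fM hfM, ← hg]
    exact (smul_left_cancel_iff (fM u)).symm
  have hcb : ∀ c c', Nat.card {x // b x = c} = Nat.card {x // b x = c'} := by
    intro c c'
    obtain ⟨g, hg⟩ := MulAction.exists_smul_eq (G ⧸ (M ⊔ N)) c c'
    obtain ⟨u, rfl⟩ := hfN g
    refine Nat.card_congr (Equiv.subtypeEquiv (MulAction.toPerm u) fun x => ?_)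
    show b x = c ↔ b (u • x) = c'
    simp only [b]
    rw [mapSurjective_smul p fN hfN, ← hg]
    exact (smul_left_cancel_iff (fN u)).symm
  let T := Σ c : Sylow p (G ⧸ (M ⊔ N)), {x // a x = c} × {y // b y = c}
  have hcomp : ∀ P : Sylow p G,
      a (P.mapSurjective hMs) = b (P.mapSurjective hNs) := fun P => by
    apply Sylow.ext
    simp only [a, b, Sylow.coe_mapSurjective, Subgroup.map_map]
    congr 1
  let Φ : Sylow p G → T := fun P =>
    ⟨a (P.mapSurjective hMs), ⟨_, rfl⟩, ⟨P.mapSurjective hNs, (hcomp P).symm⟩⟩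
  have hpg : ∀ (Q1 : Sylow p (G ⧸ M)) (Q2 : Sylow p (G ⧸ N)),
      IsPGroup p ↥((Q1 : Subgroup (G ⧸ M)).comap πM ⊓ (Q2 : Subgroup (G ⧸ N)).comap πN) := by
    intro Q1 Q2 z
    obtain ⟨k, hk⟩ := Q1.2 ⟨_, z.2.1⟩
    obtain ⟨l, hl⟩ := Q2.2 ⟨_, z.2.2⟩
    have h1 : (z : G) ^ p ^ (k + l) ∈ M := by
      rw [← QuotientGroup.eq_one_iff, ← QuotientGroup.mk'_apply, map_pow, pow_add, pow_mul,
        show (πM (z : G)) ^ p ^ k = 1 by simpa using congrArg Subtype.val hk, one_pow]
    have h2 : (z : G) ^ p ^ (k + l) ∈ N := by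
      rw [← QuotientGroup.eq_one_iff, ← QuotientGroup.mk'_apply, map_pow, pow_add, mul_comm,
        pow_mul, show (πN (z : G)) ^ p ^ l = 1 by simpa using congrArg Subtype.val hl, one_pow]
    refine ⟨k + l, Subtype.ext ?_⟩
    rw [Subgroup.coe_pow]
    exact Subgroup.mem_bot.1 (hMN ▸ (⟨h1, h2⟩ : (z : G) ^ p ^ (k + l) ∈ M ⊓ N))
  have hinj : Function.Injective Φ := by
    intro P P' h
    have h1 : P.mapSurjective hMs = P'.mapSurjective hMs :=
      congrArg (fun z : T => (z.2.1 : Sylow p (G ⧸ M))) h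
    have h2 : P.mapSurjective hNs = P'.mapSurjective hNs :=
      congrArg (fun z : T => (z.2.2 : Sylow p (G ⧸ N))) h
    have hle : ∀ R : Sylow p G, R.mapSurjective hMs = P.mapSurjective hMs →
        R.mapSurjective hNs = P.mapSurjective hNs → (R : Subgroup G) =
        (((P.mapSurjective hMs : Sylow p (G ⧸ M)) : Subgroup (G ⧸ M)).comap πM ⊓
          ((P.mapSurjective hNs : Sylow p (G ⧸ N)) : Subgroup (G ⧸ N)).comap πN) := by
      intro R e1 e2
      refine (R.is_maximal' (hpg _ _) fun x hx => ⟨?_, ?_⟩).symm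
      · rw [← e1]; exact Subgroup.mem_map_of_mem _ hx
      · rw [← e2]; exact Subgroup.mem_map_of_mem _ hx
    exact Sylow.ext ((hle P rfl rfl).trans (hle P' h1.symm h2.symm).symm)
  have hsurj : Function.Surjective Φ := by
    rintro ⟨c, ⟨Q1, hQ1⟩, ⟨Q2, hQ2⟩⟩
    obtain ⟨P, hP⟩ := (hpg Q1 Q2).exists_le_sylow
    have hmn : ∀ x : G, x ∈ M ⊔ N → ∃ m ∈ M, ∃ n ∈ N, m * n = x := fun x hx =>
      Subgroup.mem_sup_of_normal_left.1 hx
    have hP1 : P.mapSurjective hMs = Q1 := by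
      refine Sylow.ext (Q1.is_maximal' (P.mapSurjective hMs).2 ?_)
      intro y hy
      obtain ⟨g, rfl⟩ := hMs y
      have hg : πC g ∈ ((b Q2 : Sylow p (G ⧸ (M ⊔ N))) : Subgroup (G ⧸ (M ⊔ N))) := by
        rw [hQ2, ← hQ1]; exact ⟨πM g, hy, rfl⟩
      obtain ⟨z, hz, hzg⟩ := hg
      obtain ⟨u, rfl⟩ := hNs z
      obtain ⟨m, hm, n, hn, hmn'⟩ := hmn (g * u⁻¹) (by
        rw [← QuotientGroup.eq_one_iff, ← QuotientGroup.mk'_apply, map_mul, map_inv,
          mul_inv_eq_one]
        exact hzg.symm)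
      refine ⟨n * u, hP ⟨?_, ?_⟩, ?_⟩
      · show πM (n * u) ∈ (Q1 : Subgroup (G ⧸ M))
        have : n * u = m⁻¹ * g := by
          rw [eq_inv_mul_iff_mul_eq, ← mul_assoc, hmn', inv_mul_cancel_right]
        rwa [this, map_mul, map_inv, show πM m = 1 from (QuotientGroup.eq_one_iff m).2 hm,
          inv_one, one_mul]
      · show πN (n * u) ∈ (Q2 : Subgroup (G ⧸ N))
        rwa [map_mul, show πN n = 1 from (QuotientGroup.eq_one_iff n).2 hn, one_mul]
      · have : n * u = m⁻¹ * g := by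
          rw [eq_inv_mul_iff_mul_eq, ← mul_assoc, hmn', inv_mul_cancel_right]
        rw [this, map_mul, map_inv, show πM m = 1 from (QuotientGroup.eq_one_iff m).2 hm,
          inv_one, one_mul]
    have hP2 : P.mapSurjective hNs = Q2 := by
      refine Sylow.ext (Q2.is_maximal' (P.mapSurjective hNs).2 ?_)
      intro y hy
      obtain ⟨g, rfl⟩ := hNs y
      have hg : πC g ∈ ((a Q1 : Sylow p (G ⧸ (M ⊔ N))) : Subgroup (G ⧸ (M ⊔ N))) := by
        rw [hQ1, ← hQ2]; exact ⟨πN g, hy, rfl⟩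
      obtain ⟨z, hz, hzg⟩ := hg
      obtain ⟨u, rfl⟩ := hMs z
      obtain ⟨m, hm, n, hn, hmn'⟩ := hmn (u * g⁻¹) (by
        rw [← QuotientGroup.eq_one_iff, ← QuotientGroup.mk'_apply, map_mul, map_inv,
          mul_inv_eq_one]
        exact hzg)
      have hx : m⁻¹ * u = n * g := by
        rw [inv_mul_eq_iff_eq_mul, ← mul_assoc, hmn', inv_mul_cancel_right]
      refine ⟨n * g, hP ⟨?_, ?_⟩, ?_⟩
      · show πM (n * g) ∈ (Q1 : Subgroup (G ⧸ M))
        rwa [← hx, map_mul, map_inv, show πM m = 1 from (QuotientGroup.eq_one_iff m).2 hm,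
          inv_one, one_mul]
      · show πN (n * g) ∈ (Q2 : Subgroup (G ⧸ N))
        rwa [map_mul, show πN n = 1 from (QuotientGroup.eq_one_iff n).2 hn, one_mul]
      · rw [map_mul, show πN n = 1 from (QuotientGroup.eq_one_iff n).2 hn, one_mul]
    refine ⟨P, ?_⟩
    subst hP1 hP2 hQ1
    rfl
  obtain ⟨c0⟩ := (inferInstance : Nonempty (Sylow p (G ⧸ (M ⊔ N))))
  have := Fintype.ofFinite (Sylow p (G ⧸ (M ⊔ N)))
  rw [Nat.card_congr (Equiv.ofBijective Φ ⟨hinj, hsurj⟩), Nat.card_sigma]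
  simp only [Nat.card_prod]
  rw [Finset.sum_congr rfl (fun i _ => by rw [hca i c0, hcb i c0]), Finset.sum_const,
    Finset.card_univ, smul_eq_mul, card_fibers a hca c0, card_fibers b hcb c0,
    Nat.card_eq_fintype_card (α := Sylow p (G ⧸ (M ⊔ N)))]
  ring

end Cfsg.Agent.S3867
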