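import Cfsg.Statements.S3868
import Cfsg.Agent.FGSA.MinNonPClosed

set_option autoImplicit false
open Cfsg

namespace Cfsg.Agent.S3868

/-- Structure of the non-simple minimal non-p-closed groups. Call a finite group p-closed when its Sylow p-subgroups are normal, and minimal non-p-closed when it is not p-closed but every proper subgroup and every proper quotient is. If such a group G is not simple, then there is a prime q ≠ p such that G has order p · q^e, where e is the multiplicative order of q modulo p, and G has a normal subgroup A of order q^e that is elementary abelian and is a minimal normal subgroup of G (so G is the semidirect product of A by a group of order p acting irreducibly). -/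
theorem result {G : Type*} [Group G] [Finite G] {p : ℕ} [Fact p.Prime]
    (hnc : ¬ Cfsg.IsPClosed p G) (hsub : ∀ H : Subgroup G, H ≠ ⊤ → Cfsg.IsPClosed p ↥H)
    (hquo : ∀ (N : Subgroup G) [N.Normal], N ≠ ⊥ → Cfsg.IsPClosed p (G ⧸ N)) (hns : ¬ IsSimpleGroup G) :
    ∃ q : ℕ, q.Prime ∧ q ≠ p ∧ Nat.card G = p * q ^ orderOf (q : ZMod p) ∧
      ∃ A : Subgroup G, A.Normal ∧ Nat.card ↥A = q ^ orderOf (q : ZMod p) ∧ Cfsg.IsElementaryAbelian q A ∧
        ∀ B : Subgroup G, B.Normal → B ≤ A → B = ⊥ ∨ B = A := by
  exact CfsgLib.MinNonPClosed.structure_of_not_simple hnc hsub hquo hns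

end Cfsg.Agent.S3868
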