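import Cfsg.Statements.S3869
import Cfsg.Agent.FGSA.MinNonPClosed

set_option autoImplicit false
open Cfsg

namespace Cfsg.Agent.S3869

/-- Let p and q be distinct primes and G a finite non-abelian group with a normal elementary abelian q-subgroup A that is a minimal normal subgroup of G and has index p. Then A has order q^e with e the multiplicative order of q modulo p, and G is minimal non-p-closed: its Sylow p-subgroups are not normal, while in every proper subgroup and in every proper quotient of G the Sylow p-subgroups are normal. -/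
theorem result {G : Type*} [Group G] [Finite G] {p q : ℕ} [Fact p.Prime] (hq : q.Prime) (hpq : q ≠ p)
    (hna : ¬ IsMulCommutative G) (A : Subgroup G) [A.Normal] (hA : Cfsg.IsElementaryAbelian q A) (hidx : A.index = p)
    (hmin : ∀ B : Subgroup G, B.Normal → B ≤ A → B = ⊥ ∨ B = A) :
    Nat.card ↥A = q ^ orderOf (q : ZMod p) ∧ ¬ Cfsg.IsPClosed p G ∧ (∀ H : Subgroup G, H ≠ ⊤ → Cfsg.IsPClosed p ↥H) ∧
      ∀ (N : Subgroup G) [N.Normal], N ≠ ⊥ → Cfsg.IsPClosed p (G ⧸ N) := by
  haveI := Fact.mk hq
  have hp : p.Prime := Fact.out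
  obtain ⟨hcard, hfix⟩ := CfsgLib.MinNonPClosed.card_of_minimal hq hpq hna A hA hidx hmin
  have hAp : ¬ p ∣ Nat.card A := fun h =>
    hpq ((Nat.prime_dvd_prime_iff_eq hp hq).1 (hp.dvd_of_dvd_pow (hcard ▸ h))).symm
  have hG : Nat.card G = Nat.card A * p := by rw [← hidx, A.card_mul_index]
  have hsyl : ∀ P : Sylow p G, Nat.card (P : Subgroup G) = p := by
    intro P
    rw [P.card_eq_multiplicity, hG, Nat.factorization_mul Nat.card_pos.ne' hp.ne_zero,
      Finsupp.add_apply, Nat.factorization_eq_zero_of_not_dvd hAp, zero_add,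
      hp.factorization_self, pow_one]
  have hA1 : A ≠ ⊥ := by
    intro h
    have hd0 : orderOf (q : ZMod p) ≠ 0 := by
      have hq0 : (q : ZMod p) ≠ 0 := by
        rw [Ne, ZMod.natCast_eq_zero_iff]
        exact fun e => hpq ((Nat.prime_dvd_prime_iff_eq hp hq).1 e).symm
      exact (orderOf_pos_iff.2 (isOfFinOrder_iff_pow_eq_one.2
        ⟨p - 1, by have := hp.two_le; omega, ZMod.pow_card_sub_one_eq_one hq0⟩)).ne'
    rw [h, Subgroup.card_bot] at hcard
    exact (Nat.one_lt_pow hd0 hq.one_lt).ne hcard
  have hnorm : ∀ P : Sylow p G, ¬ (P : Subgroup G).Normal := by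
    intro P hPn
    obtain ⟨a, ha, ha1⟩ := A.bot_or_exists_ne_one.resolve_left hA1
    obtain ⟨x, hx, hx1⟩ := (P : Subgroup G).bot_or_exists_ne_one.resolve_left (by
      intro h
      have := hsyl P
      rw [h, Subgroup.card_bot] at this
      exact hp.one_lt.ne this)
    have hd : (P : Subgroup G) ⊓ A = ⊥ := by
      refine Subgroup.inf_eq_bot_of_coprime ?_
      rw [hsyl P]
      exact hp.coprime_iff_not_dvd.2 hAp
    refine ha1 (hfix x (fun h => hx1 (Subgroup.mem_bot.1 (hd ▸ (⟨hx, h⟩ : x ∈ (P : Subgroup G) ⊓ A))))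
      a ha ?_)
    exact (Subgroup.commute_of_normal_of_disjoint _ _ hPn inferInstance (disjoint_iff.2 hd) x a hx ha).eq
  refine ⟨hcard, fun h => hnorm default (h default), fun H hH Q => ?_, fun N _ hN Q => ?_⟩
  · by_cases hpH : p ∣ Nat.card H
    swap
    · have : (Q : Subgroup H) = ⊥ := Subgroup.eq_bot_of_card_eq _ (by
        rw [Q.card_eq_multiplicity, Nat.factorization_eq_zero_of_not_dvd hpH, pow_zero])
      rw [this]; infer_instance
    · suffices h : (Q : Subgroup H) = ⊤ by rw [h]; infer_instance
      refine Subgroup.eq_top_of_card_eq _ ?_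
      obtain ⟨x, hx⟩ := exists_prime_orderOf_dvd_card' (G := H) p hpH
      have hxA : (x : G) ∉ A := fun h => hAp (by
        rw [← hx, ← Subgroup.orderOf_coe]; exact Subgroup.orderOf_dvd_natCard _ h)
      have hHA : H ⊓ A = ⊥ := by
        let B : Subgroup G := H ⊓ A
        have hBn : B.Normal := by
          refine Subgroup.normalizer_eq_top_iff.1 (top_le_iff.1 ?_)
          have htop : A ⊔ Subgroup.zpowers (x : G) = ⊤ := by
            have h1 : A < A ⊔ Subgroup.zpowers (x : G) := lt_of_le_of_ne le_sup_left fun e =>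
              hxA (e.ge (Subgroup.mem_sup_right (Subgroup.mem_zpowers _)))
            have h2 : (A ⊔ Subgroup.zpowers (x : G)).index ∣ p :=
              hidx ▸ Subgroup.index_dvd_of_le le_sup_left
            rcases (Nat.dvd_prime hp).1 h2 with h3 | h3
            · exact Subgroup.index_eq_one.1 h3
            · exact absurd (hidx.trans h3.symm) (Subgroup.index_strictAnti h1).ne'
          rw [← htop]
          refine sup_le (fun a ha => ?_) (Subgroup.zpowers_le.2 ?_)
          · refine Subgroup.mem_normalizer_iff.2 fun b => ?_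
            have hc : ∀ y ∈ A, a * y * a⁻¹ = y := fun y hy => by
              rw [show a * y = y * a from congrArg Subtype.val (hA.1.is_comm.comm (⟨a, ha⟩ : A) ⟨y, hy⟩),
                mul_inv_cancel_right]
            constructor
            · intro hb; rw [hc b hb.2]; exact hb
            · intro hb
              have h4 : b ∈ A := by
                have := A.mul_mem (A.mul_mem (A.inv_mem ha) hb.2) ha
                simpa [mul_assoc] using this
              rwa [hc b h4] at hb
          · refine Subgroup.mem_normalizer_iff.2 fun b => and_congr ?_ ?_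
            · exact Subgroup.mem_normalizer_iff.1 (Subgroup.le_normalizer x.2) b
            · exact ⟨fun hb => Subgroup.Normal.conj_mem inferInstance b hb _, fun hb => by
                simpa [mul_assoc] using Subgroup.Normal.conj_mem (H := A) inferInstance _ hb (x : G)⁻¹⟩
        refine (hmin B hBn inf_le_right).resolve_right fun hB => hH ?_
        rw [eq_top_iff]
        have h1 : A < H := lt_of_le_of_ne (hB.ge.trans inf_le_left) fun e => hxA (e.ge x.2)
        have h2 : H.index ∣ p := hidx ▸ Subgroup.index_dvd_of_le h1.le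
        rcases (Nat.dvd_prime hp).1 h2 with h3 | h3
        · exact (Subgroup.index_eq_one.1 h3).ge
        · exact absurd (hidx.trans h3.symm) (Subgroup.index_strictAnti h1).ne'
      have hHp : Nat.card H ∣ p := by
        have h1 := CfsgLib.Solvable.card_sup_of_disjoint (A := H) (K := A) (fun _ _ => by
          rw [Subgroup.normalizer_eq_top (H := A)]; trivial) hHA
        have h2 : Nat.card H * Nat.card A ∣ Nat.card A * p := hG ▸ h1 ▸ Subgroup.card_subgroup_dvd_card _
        rw [mul_comm (Nat.card H)] at h2
        exact Nat.dvd_of_mul_dvd_mul_left Nat.card_pos h2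
      have hHeq : Nat.card H = p := ((Nat.dvd_prime hp).1 hHp).resolve_left fun e =>
        hp.one_lt.ne' (Nat.dvd_one.1 (e ▸ hpH))
      rw [Q.card_eq_multiplicity, hHeq, hp.factorization_self, pow_one]
  · have hAN : A ≤ N := by
      rcases hmin (N ⊓ A) inferInstance inf_le_right with h | h
      · exfalso
        obtain ⟨x, hx, hx1⟩ := N.bot_or_exists_ne_one.resolve_left hN
        have hxA : x ∉ A := fun hA' => hx1 (Subgroup.mem_bot.1 (h ▸ (⟨hx, hA'⟩ : x ∈ N ⊓ A)))
        obtain ⟨a, ha, ha1⟩ := A.bot_or_exists_ne_one.resolve_left hA1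
        exact ha1 (hfix x hxA a ha (Subgroup.commute_of_normal_of_disjoint N A inferInstance
          inferInstance (disjoint_iff.2 h) x a hx ha).eq)
      · exact h.ge.trans inf_le_left
    have hpg : IsPGroup p (G ⧸ N) := by
      obtain ⟨j, -, hj⟩ := (Nat.dvd_prime_pow hp).1
        (show Nat.card (G ⧸ N) ∣ p ^ 1 by
          rw [pow_one, ← hidx, ← Subgroup.index_eq_card]; exact Subgroup.index_dvd_of_le hAN)
      exact IsPGroup.of_card hj
    obtain ⟨j, hj⟩ := IsPGroup.iff_card.1 hpg
    rw [Subgroup.eq_top_of_card_eq (Q : Subgroup (G ⧸ N)) (by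
      rw [Q.card_eq_multiplicity, hj, hp.factorization_pow, Finsupp.single_eq_same])]
    infer_instance

end Cfsg.Agent.S3869
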