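import Cfsg.Statements.S3870
import Cfsg.Agent.FGSA.Basic

set_option autoImplicit false
open Cfsg

namespace Cfsg.Agent.S3870

/-- Let G be a finite simple group whose Sylow p-subgroups are not normal but such that every proper subgroup of G has a normal Sylow p-subgroup. Then any two distinct Sylow p-subgroups of G intersect trivially, and for every Sylow p-subgroup P the normalizer of every non-identity subgroup of P lies in the normalizer of P. -/
theorem result {G : Type*} [Group G] [Finite G] [IsSimpleGroup G] {p : ℕ} [Fact p.Prime]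
    (hnc : ¬ Cfsg.IsPClosed p G) (hsub : ∀ H : Subgroup G, H ≠ ⊤ → Cfsg.IsPClosed p ↥H) :
    (∀ P Q : Sylow p G, P ≠ Q → (P : Subgroup G) ⊓ (Q : Subgroup G) = ⊥) ∧
      ∀ (P : Sylow p G) (R : Subgroup G), R ≤ P → R ≠ ⊥ →
        Subgroup.normalizer (R : Set G) ≤ Subgroup.normalizer ((P : Subgroup G) : Set G) := by
  have hp : p.Prime := Fact.out
  have hlarge : ∀ P Q : Sylow p G, P ≠ Q → (P : Subgroup G) ⊓ (Q : Subgroup G) = ⊥ := by
    by_contra! hcon
    obtain ⟨P₀, Q₀, hPQ₀, hD₀⟩ := hcon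
    obtain ⟨D, hD, hmax⟩ := (Set.toFinite {D : Subgroup G | ∃ P Q : Sylow p G, P ≠ Q ∧
      D = (P : Subgroup G) ⊓ (Q : Subgroup G) ∧ D ≠ ⊥}).exists_maximal
      ⟨_, P₀, Q₀, hPQ₀, rfl, hD₀⟩
    obtain ⟨P, Q, hPQ, hDeq, hD1⟩ := hD
    set N := Subgroup.normalizer (D : Set G) with hN
    have hNtop : N ≠ ⊤ := fun h => by
      have hn : D.Normal := Subgroup.normalizer_eq_top_iff.1 h
      rcases hn.eq_bot_or_eq_top with h' | h'
      · exact hD1 h'
      · apply hPQ
        have hP : (P : Subgroup G) = ⊤ := eq_top_iff.2 (h' ▸ hDeq ▸ inf_le_left)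
        have hQ : (Q : Subgroup G) = ⊤ := eq_top_iff.2 (h' ▸ hDeq ▸ inf_le_right)
        exact Sylow.ext (hP.trans hQ.symm)
    have hcl := hsub N hNtop
    obtain ⟨R⟩ := (inferInstance : Nonempty (Sylow p N))
    haveI hRn := hcl R
    obtain ⟨R', hR'⟩ := (R.isPGroup'.map N.subtype).exists_le_sylow
    have hin : ∀ S : Sylow p G, D < (S : Subgroup G) → S = R' := by
      intro S hS
      by_contra hne
      have h1 := CfsgLib.FGSA.lt_inf_normalizer_of_isPGroup S.isPGroup' hS
      have h2 : (S : Subgroup G) ⊓ N ≤ (R' : Subgroup G) := by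
        intro y hy
        obtain ⟨T, hT⟩ := (IsPGroup.to_le (S.isPGroup') (inf_le_left (b := N)) |>.comap_subtype
          (K := N)).exists_le_sylow
        letI := Sylow.unique_of_normal R hRn
        rw [Subsingleton.elim T R] at hT
        exact hR' ⟨⟨y, hy.2⟩, hT hy, rfl⟩
      have h3 : D < (S : Subgroup G) ⊓ (R' : Subgroup G) :=
        lt_of_lt_of_le h1 (le_inf inf_le_left h2)
      exact h3.not_ge (hmax ⟨S, R', hne, rfl, fun h0 => hD1 (le_bot_iff.1 (h0 ▸ h3.le))⟩ h3.le)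
    have hltP : D < (P : Subgroup G) := lt_of_le_of_ne (hDeq ▸ inf_le_left) fun h => hPQ
      (Sylow.ext (P.3 Q.isPGroup' (h ▸ hDeq ▸ inf_le_right)).symm)
    have hltQ : D < (Q : Subgroup G) := lt_of_le_of_ne (hDeq ▸ inf_le_right) fun h => hPQ
      (Sylow.ext (Q.3 P.isPGroup' (h ▸ hDeq ▸ inf_le_left)))
    exact hPQ ((hin P hltP).trans (hin Q hltQ).symm)
  refine ⟨hlarge, fun P R hRP hR g hg => ?_⟩
  by_contra hgP
  apply hR
  rw [← le_bot_iff, ← hlarge P (g • P) fun h => hgP (Sylow.smul_eq_iff_mem_normalizer.1 h.symm)]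
  refine le_inf hRP fun y hy => ?_
  rw [Sylow.coe_subgroup_smul, Subgroup.mem_pointwise_smul_iff_inv_smul_mem, MulAut.smul_def,
    ← map_inv, MulAut.conj_apply]
  apply hRP
  exact (Subgroup.mem_normalizer_iff.1 (inv_mem hg) y).1 hy

end Cfsg.Agent.S3870
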