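import Cfsg.Statements.S3872
import Cfsg.Agent.FGSA.PolySeq

set_option autoImplicit false
open Cfsg

namespace Cfsg.Agent.S3872

/-- Say that a finite group is p-exponent closed when its elements of order dividing p form a subgroup. Let G be a finite p-group that is not p-exponent closed, but all of whose proper subgroups and proper quotients are. Then G is generated by two elements, has nilpotency class at least p, has exponent p², has cyclic center, and has order at least p^(p+1). -/
theorem result {G : Type*} [Group G] [Finite G] {p : ℕ} [Fact p.Prime] (hG : IsPGroup p G)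
    (hnc : ¬ (∃ H : Subgroup G, (H : Set G) = {g : G | g ^ p = 1})) (hsub : ∀ K : Subgroup G, K ≠ ⊤ → (∃ H : Subgroup ↥K, (H : Set ↥K) = {g : ↥K | g ^ p = 1}))
    (hquo : ∀ (N : Subgroup G) [N.Normal], N ≠ ⊥ → (∃ H : Subgroup (G ⧸ N), (H : Set (G ⧸ N)) = {g : (G ⧸ N) | g ^ p = 1})) :
    (∃ x y : G, Subgroup.closure ({x, y} : Set G) = ⊤) ∧ (⊤ : Subgroup G).lowerCentralSeries (p - 1) ≠ ⊥ ∧
      Monoid.exponent G = p ^ 2 ∧ IsCyclic ↥(Subgroup.center G) ∧ p ^ (p + 1) ≤ Nat.card G := by
  classical
  have hp : p.Prime := Fact.out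
  -- two generators
  obtain ⟨x, y, hx, hy, hxy⟩ : ∃ x y : G, x ^ p = 1 ∧ y ^ p = 1 ∧ (x * y) ^ p ≠ 1 := by
    by_contra! hall
    exact hnc ⟨{ carrier := {g : G | g ^ p = 1}
                 one_mem' := one_pow p
                 mul_mem' := fun {a b} ha hb => hall a b ha hb
                 inv_mem' := fun {a} ha => by
                   show a⁻¹ ^ p = 1
                   rw [inv_pow, show a ^ p = 1 from ha, inv_one] }, rfl⟩
  have htop : Subgroup.closure ({x, y} : Set G) = ⊤ := by
    by_contra hne
    obtain ⟨H, hH⟩ := hsub _ hne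
    have hmem : ∀ z (hz : z ∈ Subgroup.closure ({x, y} : Set G)), z ^ p = 1 →
        (⟨z, hz⟩ : ↥(Subgroup.closure ({x, y} : Set G))) ∈ H := fun z hz h => by
      rw [← SetLike.mem_coe, hH]; exact Subtype.ext h
    have h := H.mul_mem (hmem x (Subgroup.subset_closure (Set.mem_insert _ _)) hx)
      (hmem y (Subgroup.subset_closure (Set.mem_insert_of_mem _ rfl)) hy)
    rw [← SetLike.mem_coe, hH] at h
    exact hxy (congrArg Subtype.val h)
  -- powers lie in every central subgroup of order p
  have hcen : ∀ z ∈ Subgroup.center G, z ^ p = 1 → z ≠ 1 → ∀ g : G, g ^ p ∈ Subgroup.zpowers z := by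
    intro z hz hzp hz1 g
    set N := Subgroup.zpowers z
    haveI : N.Normal := ⟨fun n hn c => by
      rwa [Subgroup.mem_center_iff.1 ((Subgroup.zpowers_le.2 hz) hn) c, mul_inv_cancel_right]⟩
    obtain ⟨H, hH⟩ := hquo N (fun h => hz1 (Subgroup.mem_bot.1 (h ▸ Subgroup.mem_zpowers z)))
    have hHtop : ∀ a, QuotientGroup.mk' N a ∈ H := by
      have : Subgroup.closure ({x, y} : Set G) ≤ H.comap (QuotientGroup.mk' N) := by
        rw [Subgroup.closure_le]
        rintro a (rfl | rfl) <;>
          · show _ ∈ (H : Set (G ⧸ N))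
            rw [hH]
            show _ ^ p = 1
            first
              | rw [← map_pow, hx, map_one]
              | rw [← map_pow, hy, map_one]
      exact fun a => this (htop ▸ Subgroup.mem_top a)
    have h := hHtop g
    rw [← SetLike.mem_coe, hH] at h
    exact (QuotientGroup.eq_one_iff _).1 h
  haveI : Group.IsNilpotent G := hG.isNilpotent
  haveI hnt : Nontrivial G := ⟨⟨(x * y) ^ p, 1, hxy⟩⟩
  obtain ⟨z, hzc, hzo⟩ : ∃ z ∈ Subgroup.center G, orderOf z = p := by
    haveI := hG.center_nontrivial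
    obtain ⟨k, hk⟩ := IsPGroup.iff_card.1 (hG.to_subgroup (Subgroup.center G))
    have hk0 : k ≠ 0 := by
      rintro rfl
      exact Finite.one_lt_card.ne' (hk.trans (pow_zero p))
    obtain ⟨z, hz⟩ := exists_prime_orderOf_dvd_card' (G := Subgroup.center G) p (hk ▸ dvd_pow_self p hk0)
    exact ⟨z, z.2, by rw [Subgroup.orderOf_coe]; exact hz⟩
  have hzp : z ^ p = 1 := hzo ▸ pow_orderOf_eq_one z
  have hz1 : z ≠ 1 := fun h => hp.ne_one (by rw [← hzo, h, orderOf_one])
  have hp2 : ∀ g : G, g ^ p ^ 2 = 1 := fun g => by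
    obtain ⟨i, hi⟩ := Subgroup.mem_zpowers_iff.1 (hcen z hzc hzp hz1 g)
    rw [pow_two, pow_mul, ← hi, ← zpow_natCast, ← zpow_mul, mul_comm, zpow_mul, zpow_natCast, hzp, one_zpow]
  have hclass : (⊤ : Subgroup G).lowerCentralSeries (p - 1) ≠ ⊥ := fun h =>
    hnc ⟨CfsgLib.FGSA.PolySeq.omegaSubgroup hG h, rfl⟩
  refine ⟨⟨x, y, htop⟩, hclass, ?_, ?_, ?_⟩
  · obtain ⟨k, hk, hk'⟩ := (Nat.dvd_prime_pow hp).1 (Monoid.exponent_dvd_of_forall_pow_eq_one hp2)
    rcases (show k ≤ 1 ∨ k = 2 by omega) with h | rfl
    · exfalso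
      refine hxy (orderOf_dvd_iff_pow_eq_one.1 ((Monoid.order_dvd_exponent _).trans ?_))
      rw [hk']
      exact (pow_dvd_pow p h).trans (pow_one p).dvd
    · exact hk'
  · -- cyclic centre
    have huniq : ∀ w ∈ Subgroup.center G, w ^ p = 1 → w ∈ Subgroup.zpowers ((x * y) ^ p) := by
      intro w hw hwp
      by_cases hw1 : w = 1
      · rw [hw1]; exact one_mem _
      have hwo : orderOf w = p :=
        orderOf_eq_prime_iff.2 ⟨hwp, hw1⟩
      obtain ⟨i, hi⟩ := Subgroup.mem_zpowers_iff.1 (hcen w hw hwp hw1 (x * y))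
      have hle : Subgroup.zpowers ((x * y) ^ p) ≤ Subgroup.zpowers w :=
        Subgroup.zpowers_le.2 ⟨i, hi⟩
      have hvo : orderOf ((x * y) ^ p) = p :=
        orderOf_eq_prime_iff.2 ⟨by rw [← pow_mul, ← pow_two]; exact hp2 _, hxy⟩
      rw [Subgroup.eq_of_le_of_card_ge hle (by rw [Nat.card_zpowers, Nat.card_zpowers, hwo, hvo])]
      exact Subgroup.mem_zpowers w
    set Z := Subgroup.center G
    let φ : Z →* Z := MonoidHom.mk' (fun w => w ^ p) fun a b =>
      Commute.mul_pow (Subtype.ext (Subgroup.mem_center_iff.1 b.2 a) : a * b = b * a) p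
    have hker : Nat.card φ.ker ≤ p := by
      have hle : φ.ker.map Z.subtype ≤ Subgroup.zpowers ((x * y) ^ p) := by
        rintro _ ⟨w, hw, rfl⟩
        exact huniq w w.2 (congrArg Subtype.val (MonoidHom.mem_ker.1 hw))
      calc Nat.card φ.ker = Nat.card (φ.ker.map Z.subtype) :=
            (Subgroup.card_map_of_injective Z.subtype_injective).symm
        _ ≤ Nat.card (Subgroup.zpowers ((x * y) ^ p)) := Subgroup.card_le_of_le hle
        _ ≤ p := by
          rw [Nat.card_zpowers]
          exact orderOf_le_of_pow_eq_one hp.pos (by rw [← pow_mul, ← pow_two]; exact hp2 _)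
    have hran : φ.range ≤ φ.ker := by
      rintro _ ⟨w, rfl⟩
      rw [MonoidHom.mem_ker]
      refine Subtype.ext ?_
      show ((w : G) ^ p) ^ p = 1
      rw [← pow_mul, ← pow_two]; exact hp2 _
    have hcard : Nat.card Z ≤ p ^ 2 := by
      rw [← φ.ker.card_mul_index, Subgroup.index_ker, pow_two]
      exact Nat.mul_le_mul hker ((Subgroup.card_le_of_le hran).trans hker)
    obtain ⟨k, hk⟩ := IsPGroup.iff_card.1 (hG.to_subgroup Z)
    have hk2 : k ≤ 2 := (Nat.pow_le_pow_iff_right hp.one_lt).1 (hk ▸ hcard)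
    rcases (show k = 0 ∨ k = 1 ∨ k = 2 by omega) with rfl | rfl | rfl
    · haveI := (Nat.card_eq_one_iff_unique.1 (hk.trans (pow_zero p))).1
      infer_instance
    · exact isCyclic_of_prime_card (p := p) (by rw [hk, pow_one])
    · by_cases hw : ∃ w : Z, φ w ≠ 1
      · obtain ⟨w, hw⟩ := hw
        refine isCyclic_of_orderOf_eq_card w ?_
        rw [hk]
        refine orderOf_eq_prime_pow (by rw [pow_one]; exact hw) ?_
        exact Subtype.ext (hp2 w)
      · push Not at hw
        have : φ.ker = ⊤ := top_le_iff.1 fun w _ => MonoidHom.mem_ker.2 (hw w)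
        rw [this, Subgroup.card_top, hk, pow_two] at hker
        have := Nat.mul_le_mul_left p hp.two_le
        have := hp.pos
        omega
  · -- the order
    set L := fun k => (⊤ : Subgroup G).lowerCentralSeries k with hL
    have hdrop : ∀ k, L k ≠ ⊥ → p * Nat.card (L (k + 1)) ≤ Nat.card (L k) := by
      intro k hk
      have hle : L (k + 1) ≤ L k := (⊤ : Subgroup G).lowerCentralSeries_antitone (Nat.le_succ k)
      have hne : L (k + 1) ≠ L k := by
        intro he
        have hc : ∀ j, L (k + j) = L k := by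
          intro j
          induction j with
          | zero => rfl
          | succ j ih =>
            show (⊤ : Subgroup G).lowerCentralSeries (k + j + 1) = L k
            rw [Subgroup.lowerCentralSeries_succ, show (⊤ : Subgroup G).lowerCentralSeries (k + j) = L k from ih]
            exact he
        obtain ⟨m, hm⟩ := Subgroup.nilpotent_iff_lowerCentralSeries.1 (inferInstance : Group.IsNilpotent G)
        refine hk (le_bot_iff.1 ?_)
        rw [← hc m, ← hm]
        exact (⊤ : Subgroup G).lowerCentralSeries_antitone (by omega)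
      obtain ⟨a, ha⟩ := IsPGroup.iff_card.1 (hG.to_subgroup (L (k + 1)))
      obtain ⟨b, hb⟩ := IsPGroup.iff_card.1 (hG.to_subgroup (L k))
      have hlt : a < b := (Nat.pow_lt_pow_iff_right hp.one_lt).1 (ha ▸ hb ▸
        lt_of_le_of_ne (Subgroup.card_le_of_le hle) fun h => hne (Subgroup.eq_of_le_of_card_ge hle h.ge))
      rw [ha, hb, ← pow_succ']
      exact Nat.pow_le_pow_right hp.pos hlt
    have h1 : p ^ 2 * Nat.card (L 1) ≤ Nat.card G := by
      obtain ⟨a, ha⟩ := IsPGroup.iff_card.1 (hG.to_subgroup (L 1))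
      obtain ⟨b, hb⟩ := IsPGroup.iff_card.1 hG
      by_contra hlt
      rw [ha, hb, ← pow_add] at hlt
      have hab : b < 2 + a := by
        by_contra h
        exact hlt (Nat.pow_le_pow_right hp.pos (by omega))
      -- then the commutator quotient is cyclic
      have hprod : L 1 = commutator G := Subgroup.top_lowerCentralSeries_one
      have hidx : (commutator G).index ∣ p := by
        have h := (commutator G).card_mul_index
        rw [← hprod, ha, hb] at h
        rw [← hprod]
        obtain ⟨j, -, hj⟩ := (Nat.dvd_prime_pow hp).1 (Dvd.intro_left _ h : (L 1).index ∣ p ^ b)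
        rw [hj, ← pow_add] at h
        have := Nat.pow_right_injective hp.two_le h
        rw [hj]
        exact (pow_dvd_pow p (show j ≤ 1 by omega)).trans (pow_one p).dvd
      have hfr : commutator G ≤ frattini G := (CfsgLib.PGroupBasic.commutator_pow_le_frattini hG).1
      rcases (Nat.dvd_prime hp).1 hidx with h | h
      · refine hclass (le_bot_iff.1 ?_)
        have hall : ∀ k, L k = ⊤ := fun k => by
          induction k with
          | zero => rfl
          | succ k ih =>
            show (⊤ : Subgroup G).lowerCentralSeries (k + 1) = ⊤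
            rw [Subgroup.lowerCentralSeries_succ, show (⊤ : Subgroup G).lowerCentralSeries k = ⊤ from ih,
              ← _root_.commutator_def]
            exact Subgroup.index_eq_one.1 h
        obtain ⟨m, hm⟩ := Subgroup.nilpotent_iff_lowerCentralSeries.1 (inferInstance : Group.IsNilpotent G)
        rw [← hm]
        show (⊤ : Subgroup G).lowerCentralSeries (p - 1) ≤ L m
        rw [hall m]; exact le_top
      · haveI : IsCyclic (G ⧸ commutator G) :=
          isCyclic_of_prime_card (p := p) (by rw [← Subgroup.index_eq_card, h])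
        obtain ⟨g, hg⟩ := IsCyclic.exists_generator (α := G ⧸ commutator G)
        obtain ⟨g, rfl⟩ := QuotientGroup.mk_surjective g
        have hgen : Subgroup.zpowers g ⊔ frattini G = ⊤ := by
          refine eq_top_iff.2 fun a _ => ?_
          obtain ⟨i, hi⟩ := Subgroup.mem_zpowers_iff.1 (hg a)
          have : (g ^ i)⁻¹ * a ∈ commutator G := QuotientGroup.eq.1 (by rw [QuotientGroup.mk_zpow, hi])
          rw [show a = g ^ i * ((g ^ i)⁻¹ * a) by group]
          exact Subgroup.mul_mem_sup (zpow_mem (Subgroup.mem_zpowers g) i) (hfr this)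
        have hcyc := frattini_nongenerating hgen
        refine hxy ?_
        obtain ⟨i, rfl⟩ := Subgroup.mem_zpowers_iff.1 (hcyc ▸ Subgroup.mem_top x : x ∈ Subgroup.zpowers g)
        obtain ⟨j, rfl⟩ := Subgroup.mem_zpowers_iff.1 (hcyc ▸ Subgroup.mem_top y : y ∈ Subgroup.zpowers g)
        rw [((Commute.refl g).zpow_zpow i j).mul_pow, hx, hy, one_mul]
    have hnb : ∀ k, k ≤ p - 1 → L k ≠ ⊥ := fun k hk h =>
      hclass (le_bot_iff.1 (h ▸ (⊤ : Subgroup G).lowerCentralSeries_antitone hk))
    have key : ∀ k, k + 1 ≤ p - 1 → p ^ (k + 2) * Nat.card (L (k + 1)) ≤ Nat.card G := by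
      intro k
      induction k with
      | zero => exact fun _ => h1
      | succ k ih =>
        intro hk
        refine le_trans ?_ (ih (by omega))
        calc p ^ (k + 1 + 2) * Nat.card (L (k + 1 + 1)) = p ^ (k + 2) * (p * Nat.card (L (k + 1 + 1))) := by ring
          _ ≤ _ := Nat.mul_le_mul_left _ (hdrop (k + 1) (hnb _ (by omega)))
    obtain ⟨m, hm⟩ : ∃ m, p - 1 = m + 1 := ⟨p - 2, by have := hp.two_le; omega⟩
    have h3 := key m (by omega)
    obtain ⟨a, ha⟩ := IsPGroup.iff_card.1 (hG.to_subgroup (L (m + 1)))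
    have ha0 : a ≠ 0 := by
      rintro rfl
      exact hnb (m + 1) (by omega) (Subgroup.eq_bot_of_card_eq _ (ha.trans (pow_zero p)))
    rw [ha, ← pow_add] at h3
    exact le_trans (Nat.pow_le_pow_right hp.pos (by omega)) h3

end Cfsg.Agent.S3872
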