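import Cfsg.Statements.S3873
import Cfsg.Agent.FGSA.MinNonPClosed

set_option autoImplicit false
open Cfsg

namespace Cfsg.Agent.S3873

/-- Say that a finite group is p-exponent closed when its elements of order dividing p form a subgroup. Let G be a finite group that is not p-exponent closed, but all of whose proper subgroups and proper quotients are, and suppose G is neither simple nor a p-group. Then there is a prime q ≠ p such that G has order p · q^e, where e is the multiplicative order of q modulo p, and G has a normal elementary abelian subgroup of order q^e that is a minimal normal subgroup of G. -/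
theorem result {G : Type*} [Group G] [Finite G] {p : ℕ} [Fact p.Prime]
    (hnc : ¬ (∃ H : Subgroup G, (H : Set G) = {g : G | g ^ p = 1})) (hsub : ∀ K : Subgroup G, K ≠ ⊤ → (∃ H : Subgroup ↥K, (H : Set ↥K) = {g : ↥K | g ^ p = 1}))
    (hquo : ∀ (N : Subgroup G) [N.Normal], N ≠ ⊥ → (∃ H : Subgroup (G ⧸ N), (H : Set (G ⧸ N)) = {g : (G ⧸ N) | g ^ p = 1}))
    (hns : ¬ IsSimpleGroup G) (hnp : ¬ IsPGroup p G) :
    ∃ q : ℕ, q.Prime ∧ q ≠ p ∧ Nat.card G = p * q ^ orderOf (q : ZMod p) ∧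
      ∃ A : Subgroup G, A.Normal ∧ Nat.card ↥A = q ^ orderOf (q : ZMod p) ∧ Cfsg.IsElementaryAbelian q A ∧
        ∀ B : Subgroup G, B.Normal → B ≤ A → B = ⊥ ∨ B = A := by
  classical
  have hp : p.Prime := Fact.out
  have key : ∀ (K : Type _) (_ : Group K), Finite K →
      (∃ H : Subgroup K, (H : Set K) = {g : K | g ^ p = 1}) →
      (∀ T : Sylow p K, ∀ x ∈ (T : Subgroup K), x ^ p = 1) → Cfsg.IsPClosed p K := by
    intro K _ hK hH hexp T
    haveI := hK
    obtain ⟨H, hH⟩ := hH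
    have hmem : ∀ x : K, x ∈ H ↔ x ^ p = 1 := fun x => Set.ext_iff.1 hH x
    have hHp : IsPGroup p H := fun x => ⟨1, by
      rw [pow_one]; exact Subtype.ext ((hmem x).1 x.2)⟩
    have hTH : H = (T : Subgroup K) := T.is_maximal' hHp fun x hx => (hmem x).2 (hexp T x hx)
    rw [← hTH]
    exact ⟨fun x hx g => (hmem _).2 (by rw [conj_pow, (hmem x).1 hx, mul_one, mul_inv_cancel])⟩
  haveI : Nontrivial G := by
    by_contra h
    rw [not_nontrivial_iff_subsingleton] at h
    exact hnc ⟨⊤, Set.ext fun x => ⟨fun _ => Subsingleton.elim _ _, fun _ => trivial⟩⟩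
  obtain ⟨H0, hH0n, hH0⟩ : ∃ H0 : Subgroup G, H0.Normal ∧ H0 ≠ ⊥ ∧ H0 ≠ ⊤ := by
    by_contra h
    push Not at h
    exact hns ⟨fun H hH => (eq_or_ne H ⊥).imp id fun h1 => h H hH h1⟩
  haveI := hH0n
  obtain ⟨N, hNn, hN1, hNH, hmin⟩ := CfsgLib.Solvable.exists_minimal_normal_le hH0.1
  haveI := hNn
  have hNtop : N ≠ ⊤ := fun h => hH0.2 (top_le_iff.1 (h ▸ hNH))
  obtain ⟨E0, hE0⟩ := hquo N hN1
  have hmemE : ∀ x : G ⧸ N, x ∈ E0 ↔ x ^ p = 1 := fun x => Set.ext_iff.1 hE0 x
  have hE : ∀ g : G ⧸ N, g ^ p = 1 := by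
    by_contra hne
    push Not at hne
    obtain ⟨g, hg⟩ := hne
    have hEtop : E0.comap (QuotientGroup.mk' N) ≠ ⊤ := by
      intro h
      obtain ⟨x, rfl⟩ := QuotientGroup.mk'_surjective N g
      exact hg ((hmemE _).1 (h.ge (Subgroup.mem_top x)))
    obtain ⟨H, hH⟩ := hsub _ hEtop
    refine hnc ⟨H.map (E0.comap (QuotientGroup.mk' N)).subtype, Set.ext fun x => ⟨?_, fun hx => ?_⟩⟩
    · rintro ⟨y, hy, rfl⟩
      have h1 : y ^ p = 1 := (Set.ext_iff.1 hH y).1 hy
      exact congrArg Subtype.val h1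
    · have hxE : x ∈ E0.comap (QuotientGroup.mk' N) := (hmemE _).2 (by
        rw [← map_pow, show x ^ p = 1 from hx, map_one])
      exact ⟨⟨x, hxE⟩, (Set.ext_iff.1 hH _).2 (Subtype.ext hx), rfl⟩
  have hquop : IsPGroup p (G ⧸ N) := fun g => ⟨1, by rw [pow_one]; exact hE g⟩
  have hNp : ¬ p ∣ Nat.card N := by
    intro hd
    obtain ⟨H, hH⟩ := hsub N hNtop
    have hmem : ∀ x : N, x ∈ H ↔ x ^ p = 1 := fun x => Set.ext_iff.1 hH x
    have hHn : (H.map N.subtype).Normal := by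
      refine ⟨?_⟩
      rintro _ ⟨x, hx, rfl⟩ g
      refine ⟨⟨g * x * g⁻¹, hNn.conj_mem x x.2 g⟩, (hmem _).2 (Subtype.ext ?_), rfl⟩
      rw [Subgroup.coe_pow, conj_pow, ← Subgroup.coe_pow, (hmem x).1 hx]
      simp
    rcases hmin _ hHn (Subgroup.map_subtype_le H) with h | h
    · obtain ⟨x, hx⟩ := exists_prime_orderOf_dvd_card' (G := N) p hd
      have h1 : x ∈ H := (hmem x).2 (by rw [← hx]; exact pow_orderOf_eq_one x)
      rw [Subgroup.map_eq_bot_iff_of_injective _ N.subtype_injective] at h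
      rw [h, Subgroup.mem_bot] at h1
      rw [h1, orderOf_one] at hx
      exact hp.one_lt.ne hx
    · refine hnp fun g => ?_
      obtain ⟨y, hy, hye⟩ := h.ge (show g ^ p ∈ N from (QuotientGroup.eq_one_iff _).1 (by
        rw [← QuotientGroup.mk'_apply, map_pow]; exact hE _))
      refine ⟨2, ?_⟩
      rw [pow_two, pow_mul, ← hye, ← map_pow, (hmem y).1 hy, map_one]
  have hexpG : ∀ T : Sylow p G, ∀ x ∈ (T : Subgroup G), x ^ p = 1 := by
    intro T x hx
    have h1 : x ^ p ∈ N := (QuotientGroup.eq_one_iff _).1 (by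
      rw [← QuotientGroup.mk'_apply, map_pow]; exact hE _)
    obtain ⟨k, hk⟩ := T.2 ⟨x ^ p, pow_mem hx p⟩
    have hk' : (x ^ p) ^ p ^ k = 1 := by simpa using congrArg Subtype.val hk
    exact orderOf_eq_one_iff.1 (Nat.eq_one_of_dvd_coprimes
      (Nat.Coprime.pow_right k (hp.coprime_iff_not_dvd.2 hNp).symm)
      (Subgroup.orderOf_dvd_natCard _ h1) (orderOf_dvd_of_pow_eq_one hk'))
  have hnc' : ¬ Cfsg.IsPClosed p G := by
    intro h
    obtain ⟨T⟩ := (inferInstance : Nonempty (Sylow p G))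
    haveI := h T
    haveI := Sylow.unique_of_normal T (h T)
    refine hnc ⟨(T : Subgroup G), Set.ext fun x => ⟨hexpG T x, fun hx => ?_⟩⟩
    have hxp : IsPGroup p (Subgroup.zpowers x) := IsPGroup.of_card_dvd_pow (n := 1) (by
      rw [pow_one, Nat.card_zpowers]; exact orderOf_dvd_of_pow_eq_one hx)
    obtain ⟨S, hS⟩ := hxp.exists_le_sylow
    rw [Subsingleton.elim S T] at hS
    exact hS (Subgroup.mem_zpowers x)
  refine CfsgLib.MinNonPClosed.structure_of_not_simple hnc' (fun H hH => ?_) (fun M _ hM => ?_) hns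
  · refine key H inferInstance inferInstance (hsub H hH) fun T x hx => ?_
    obtain ⟨S, hS⟩ := (T.2.map H.subtype).exists_le_sylow
    exact Subtype.ext (hexpG S _ (hS ⟨x, hx, rfl⟩))
  · refine key (G ⧸ M) inferInstance inferInstance (hquo M hM) fun T x hx => ?_
    obtain ⟨S⟩ := (inferInstance : Nonempty (Sylow p G))
    obtain ⟨g, hg⟩ := MulAction.exists_smul_eq (G ⧸ M)
      (S.mapSurjective (f := QuotientGroup.mk' M) (QuotientGroup.mk'_surjective M)) T
    rw [← hg, Sylow.coe_subgroup_smul] at hx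
    obtain ⟨_, ⟨s, hs, rfl⟩, rfl⟩ := hx
    show (g * QuotientGroup.mk' M s * g⁻¹) ^ p = 1
    rw [conj_pow, ← map_pow, hexpG S s hs, map_one, mul_one, mul_inv_cancel]

end Cfsg.Agent.S3873
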