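import Cfsg.Statements.S3878
import Cfsg.Agent.FGSA.SymNoHall

set_option autoImplicit false
open Cfsg

namespace Cfsg.Agent.S3878

/-- For a set of primes π the following are equivalent: every finite group has a Hall π-subgroup; in every finite group the maximal π-subgroups are pairwise conjugate; π contains at most one prime or contains every prime. -/
theorem result (π : Set ℕ) :
    ((∀ (G : Type) [Group G] [Finite G], Cfsg.IsEPiGroup π G) ↔
      ((∀ p q : ℕ, p.Prime → q.Prime → p ∈ π → q ∈ π → p = q) ∨ ∀ p : ℕ, p.Prime → p ∈ π)) ∧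
    ((∀ (G : Type) [Group G] [Finite G], Cfsg.IsDPiGroup π G) ↔
      ((∀ p q : ℕ, p.Prime → q.Prime → p ∈ π → q ∈ π → p = q) ∨ ∀ p : ℕ, p.Prime → p ∈ π)) := by
  classical
  have hneg : ¬ ((∀ p q : ℕ, p.Prime → q.Prime → p ∈ π → q ∈ π → p = q) ∨ ∀ p : ℕ, p.Prime → p ∈ π) →
      ∃ (G : Type) (_ : Group G) (_ : Finite G), ¬ Cfsg.IsEPiGroup π G := by
    intro h
    simp only [not_or, not_forall] at h
    obtain ⟨⟨p, q, hp, hq, hpπ, hqπ, hne⟩, r, hr, hrπ⟩ := h
    rcases lt_or_gt_of_ne hne with h | h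
    · exact ⟨_, inferInstance, inferInstance, CfsgLib.FGSA.SymNoHall.exists_not_EPi π hp hq hr hpπ hqπ h hrπ⟩
    · exact ⟨_, inferInstance, inferInstance, CfsgLib.FGSA.SymNoHall.exists_not_EPi π hq hp hr hqπ hpπ h hrπ⟩
  -- maximal π-subgroups contain the π-part when they are conjugate
  have hDE : ∀ (G : Type) [Group G] [Finite G], Cfsg.IsDPiGroup π G → Cfsg.IsEPiGroup π G := by
    intro G _ _ hD
    have hex : ∀ K : Subgroup G, Cfsg.IsPiSubgroup π K → ∃ M, K ≤ M ∧ Maximal (Cfsg.IsPiSubgroup π) M :=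
      fun K hK => Finite.exists_le_maximal hK
    obtain ⟨M, -, hM⟩ := hex ⊥ (fun p hp hd => by
      rw [Subgroup.card_bot] at hd; exact absurd (Nat.dvd_one.1 hd) hp.ne_one)
    refine ⟨M, hM.prop, fun p hp hpπ hd => ?_⟩
    haveI := Fact.mk hp
    obtain ⟨S⟩ := (inferInstance : Nonempty (Sylow p G))
    obtain ⟨Mp, hle, hMp⟩ := hex (S : Subgroup G) (fun s hs hsd => by
      obtain ⟨k, hk⟩ := IsPGroup.iff_card.1 S.2
      rw [hk] at hsd
      rwa [(Nat.prime_dvd_prime_iff_eq hs hp).1 (hs.dvd_of_dvd_pow hsd)])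
    obtain ⟨g, hg⟩ := hD M Mp hM hMp
    refine S.not_dvd_index (hd.trans ?_)
    have hi : Mp.index = M.index := by
      rw [hg]; exact Subgroup.index_map_equiv M (MulAut.conj g)
    exact hi ▸ Subgroup.index_dvd_of_le hle
  have hone : (∀ p q : ℕ, p.Prime → q.Prime → p ∈ π → q ∈ π → p = q) → ∀ (G : Type) [Group G] [Finite G],
      Cfsg.IsDPiGroup π G := by
    intro h G _ _ H K hH hK
    by_cases hex : ∃ p, p.Prime ∧ p ∈ π
    · obtain ⟨p, hp, hpπ⟩ := hex
      haveI := Fact.mk hp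
      have hsyl : ∀ H : Subgroup G, Maximal (Cfsg.IsPiSubgroup π) H → ∃ S : Sylow p G, (S : Subgroup G) = H := by
        intro H hH
        have hHp : IsPGroup p H := IsPGroup.of_card
          (Nat.eq_prime_pow_of_unique_prime_dvd Nat.card_pos.ne' fun {s} hs hd =>
            h s p hs hp (hH.prop s hs hd) hpπ)
        obtain ⟨S, hS⟩ := hHp.exists_le_sylow
        refine ⟨S, le_antisymm (hH.le_of_ge (fun s hs hd => ?_) hS) hS⟩
        obtain ⟨k, hk⟩ := IsPGroup.iff_card.1 S.2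
        rw [hk] at hd
        rwa [(Nat.prime_dvd_prime_iff_eq hs hp).1 (hs.dvd_of_dvd_pow hd)]
      obtain ⟨S, rfl⟩ := hsyl H hH
      obtain ⟨T, rfl⟩ := hsyl K hK
      obtain ⟨g, hg⟩ := MulAction.exists_smul_eq G S T
      exact ⟨g, by rw [← hg]; rfl⟩
    · have hbot : ∀ H : Subgroup G, Cfsg.IsPiSubgroup π H → H = ⊥ := by
        intro H hH
        refine Subgroup.eq_bot_of_card_eq H ?_
        by_contra hne
        obtain ⟨p, hp, hd⟩ := Nat.exists_prime_and_dvd hne
        exact hex ⟨p, hp, hH p hp hd⟩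
      exact ⟨1, by rw [hbot K hK.prop, hbot H hH.prop, Subgroup.map_bot]⟩
  have hall : (∀ p : ℕ, p.Prime → p ∈ π) → ∀ (G : Type) [Group G] [Finite G], Cfsg.IsDPiGroup π G := by
    intro h G _ _ H K hH hK
    have htop : ∀ H : Subgroup G, Maximal (Cfsg.IsPiSubgroup π) H → H = ⊤ := fun H hH =>
      le_antisymm le_top (hH.le_of_ge (fun s hs _ => h s hs) le_top)
    refine ⟨1, ?_⟩
    rw [htop K hK, htop H hH, ← MonoidHom.range_eq_map]
    exact (MonoidHom.range_eq_top.2 (MulAut.conj (1 : G)).surjective).symm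
  refine ⟨⟨fun hE => ?_, fun h G _ _ => hDE G (h.elim (fun h => hone h G) (fun h => hall h G))⟩,
    ⟨fun hD => ?_, fun h G _ _ => h.elim (fun h => hone h G) (fun h => hall h G)⟩⟩
  · by_contra h
    obtain ⟨G, _, _, hG⟩ := hneg h
    exact hG (hE G)
  · by_contra h
    obtain ⟨G, _, _, hG⟩ := hneg h
    exact hG (hDE G (hD G))

end Cfsg.Agent.S3878
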