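import Cfsg.Statements.S3880
import Cfsg.Agent.FGSA.Metacyclic

set_option autoImplicit false
open Cfsg

namespace Cfsg.Agent.S3880

/-- Let p be an odd prime and G a finite metacyclic p-group (G has a cyclic normal subgroup with cyclic quotient). Then a subgroup L of G is abelian if and only if |L| ≤ |G : G'|, and L is a maximal abelian subgroup of G if and only if |L| = |G : G'|. -/
theorem result {G : Type*} [Group G] [Finite G] {p : ℕ} [Fact p.Prime] (hp : p ≠ 2) (hG : IsPGroup p G) (hmc : Cfsg.IsMetacyclic G) (L : Subgroup G) :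
    (IsMulCommutative ↥L ↔ Nat.card ↥L ≤ (commutator G).index) ∧
      (Maximal (fun K : Subgroup G => IsMulCommutative ↥K) L ↔ Nat.card ↥L = (commutator G).index) := by
  have hgood := CfsgLib.FGSA.Metacyclic.good_of_metacyclic hp hG hmc
  obtain ⟨h1, h2, h3⟩ := CfsgLib.FGSA.Metacyclic.subgroup_measure hp _ le_rfl hgood L
  have hpos : 0 < Nat.card (commutator G) := Nat.card_pos
  have hidx := (commutator G).index_mul_card
  have hD : ∀ K : Subgroup G, ¬ IsMulCommutative K → (commutator G).index < Nat.card K := by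
    intro K hK
    have e := (CfsgLib.FGSA.Metacyclic.subgroup_measure hp _ le_rfl hgood K).1 hK
    refine Nat.lt_of_mul_lt_mul_right (a := Nat.card (commutator G)) ?_
    rw [e, hidx]
    refine lt_mul_of_one_lt_right Nat.card_pos (Finite.one_lt_card_iff_nontrivial.2 ?_)
    rw [Subgroup.nontrivial_iff_ne_bot]
    exact fun hb => hK ((CfsgLib.FGSA.Metacyclic.derived_eq_bot_iff K).1 hb)
  have hA : ∀ K : Subgroup G, IsMulCommutative K → Nat.card K ≤ (commutator G).index := by
    intro K hK
    refine Nat.le_of_mul_le_mul_right ?_ hpos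
    rw [hidx]
    exact (CfsgLib.FGSA.Metacyclic.subgroup_measure hp _ le_rfl hgood K).2.1 hK
  have hab : ∀ K : Subgroup G, Nat.card K ≤ (commutator G).index → IsMulCommutative K := fun K h => by
    by_contra hK
    exact absurd (hD K hK) (not_lt.2 h)
  refine ⟨⟨hA L, hab L⟩, fun hmax => ?_, fun h => ⟨hab L h.le, fun K hK hle => ?_⟩⟩
  · refine Nat.eq_of_mul_eq_mul_right hpos ?_
    rw [hidx]; exact h3 hmax
  · exact (Subgroup.eq_of_le_of_card_ge hle ((hA K hK).trans h.ge)).ge

end Cfsg.Agent.S3880
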