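import Cfsg.Statements.S3881
import Cfsg.Agent.FGSA.Metacyclic

set_option autoImplicit false
open Cfsg

namespace Cfsg.Agent.S3881

/-- Let p be an odd prime and G a finite metacyclic p-group (G has a cyclic normal subgroup with cyclic quotient). Suppose G is non-abelian with |G'| = p^n. Then for 1 ≤ i ≤ n the number of elements of G whose conjugacy class has exactly p^i elements is |Z(G)| · (p^(2i) − p^(2i−2)). -/
theorem result {G : Type*} [Group G] [Finite G] {p : ℕ} [Fact p.Prime] (hp : p ≠ 2) (hG : IsPGroup p G) (hmc : Cfsg.IsMetacyclic G) (n : ℕ) (hn : n ≠ 0) (hGn : Nat.card ↥(commutator G) = p ^ n) (i : ℕ) (hi : 1 ≤ i) (hin : i ≤ n) :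
    Nat.card {g : G // (Subgroup.centralizer ({g} : Set G)).index = p ^ i} =
      Nat.card ↥(Subgroup.center G) * (p ^ (2 * i) - p ^ (2 * i - 2)) := by
  classical
  have hgood := CfsgLib.FGSA.Metacyclic.good_of_metacyclic hp hG hmc
  have hpp : p.Prime := Fact.out
  set A : Subgroup G := Cfsg.powerClosure p (n - i) ⊤
  set B : Subgroup G := Cfsg.powerClosure p (n - i + 1) ⊤
  have hA : Nat.card A = Nat.card (Subgroup.center G) * p ^ (2 * i) := by
    rw [hgood.card_powers hp hGn (Nat.sub_le n i), Nat.sub_sub_self hin]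
  have hB : Nat.card B = Nat.card (Subgroup.center G) * p ^ (2 * i - 2) := by
    rw [hgood.card_powers hp hGn (by omega)]
    congr 2
    omega
  have hmem : ∀ g : G, (Subgroup.centralizer ({g} : Set G)).index = p ^ i ↔ g ∈ A ∧ g ∉ B := by
    intro g
    obtain ⟨j, hj⟩ := hG.index (Subgroup.centralizer ({g} : Set G))
    rw [hgood.mem_powers_iff hp hGn (Nat.sub_le n i), hgood.mem_powers_iff hp hGn (by omega),
      ← hgood.index_centralizer_le_iff hp, ← hgood.index_centralizer_le_iff hp, hj,
      Nat.pow_le_pow_iff_right hpp.one_lt, Nat.pow_le_pow_iff_right hpp.one_lt,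
      Nat.pow_right_inj hpp.two_le]
    omega
  have hBA : B ≤ A := by
    intro g hg
    rw [hgood.mem_powers_iff hp hGn (by omega), ← hgood.index_centralizer_le_iff hp] at hg
    rw [hgood.mem_powers_iff hp hGn (Nat.sub_le n i), ← hgood.index_centralizer_le_iff hp]
    exact hg.trans (Nat.pow_le_pow_right hpp.pos (by omega))
  have e : Nat.card {g : G // (Subgroup.centralizer ({g} : Set G)).index = p ^ i} =
      ((A : Set G) \ (B : Set G)).ncard := by
    rw [← Nat.card_coe_set_eq]
    exact Nat.card_congr (Equiv.subtypeEquivRight hmem)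
  rw [e, Set.ncard_diff (SetLike.coe_subset_coe.2 hBA), ← Nat.card_coe_set_eq, ← Nat.card_coe_set_eq,
    Nat.mul_sub, ← hA, ← hB]
  rfl

end Cfsg.Agent.S3881
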