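import Cfsg.Statements.S3883
import Cfsg.Agent.FGSA.Metacyclic

set_option autoImplicit false
open Cfsg

namespace Cfsg.Agent.S3883

/-- Let p be an odd prime and G a finite metacyclic p-group (G has a cyclic normal subgroup with cyclic quotient). Suppose G is non-abelian. Then an element g of G lies outside the Frattini subgroup if and only if its centralizer C_G(g) is abelian. -/
theorem result {G : Type*} [Group G] [Finite G] {p : ℕ} [Fact p.Prime] (hp : p ≠ 2) (hG : IsPGroup p G) (hmc : Cfsg.IsMetacyclic G) (hna : ¬ IsMulCommutative G) (g : G) :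
    g ∉ frattini G ↔ IsMulCommutative ↥(Subgroup.centralizer ({g} : Set G)) := by
  have hgood := CfsgLib.FGSA.Metacyclic.good_of_metacyclic hp hG hmc
  obtain ⟨n, hn⟩ := hgood.exists_card_derived
  refine ⟨hgood.isMulCommutative_centralizer hp hn, fun hab hgF => ?_⟩
  rw [hgood.frattini_eq hp,
    CfsgLib.FGSA.Regular.mem_powerClosure_iff hgood.isP (hgood.law hp 1)] at hgF
  obtain ⟨x, -, hgx⟩ := hgF
  have hgx' : g = x ^ p := by rw [hgx, pow_one]
  set C := Subgroup.centralizer ({g} : Set G)
  have hxC : x ∈ C := Subgroup.mem_centralizer_singleton_iff.2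
    (by rw [hgx']; exact ((Commute.refl x).pow_right p).eq)
  have hle : C ≤ Subgroup.centralizer ({x} : Set G) := fun y hy => Subgroup.mem_centralizer_singleton_iff.2
    (congrArg Subtype.val (mul_comm' (⟨y, hy⟩ : C) ⟨x, hxC⟩))
  obtain ⟨j, hj⟩ := hG.index (Subgroup.centralizer ({x} : Set G))
  have hpp : p.Prime := Fact.out
  rcases j with _ | j
  · refine hna ?_
    rw [pow_zero, Subgroup.index_eq_one] at hj
    have hCt : C = ⊤ := eq_top_iff.2 fun y _ => Subgroup.mem_centralizer_singleton_iff.2 (by
      have := Subgroup.mem_centralizer_singleton_iff.1 (hj ▸ Subgroup.mem_top y :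
        y ∈ Subgroup.centralizer ({x} : Set G))
      rw [hgx']
      exact ((show Commute y x from this).pow_right p).eq)
    exact ⟨⟨fun a b => congrArg Subtype.val
      (mul_comm' (⟨a, hCt ▸ Subgroup.mem_top a⟩ : C) ⟨b, hCt ▸ Subgroup.mem_top b⟩)⟩⟩
  · have hxc := (hgood.index_centralizer_le_iff hp x (j + 1)).1 hj.le
    have hgc : g ^ p ^ j ∈ Subgroup.center G := by rwa [hgx', ← pow_mul, ← pow_succ']
    have h1 := (hgood.index_centralizer_le_iff hp g j).2 hgc
    have h2 : (Subgroup.centralizer ({x} : Set G)).index ≤ C.index :=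
      Nat.le_of_dvd (Nat.pos_of_ne_zero Subgroup.index_ne_zero_of_finite) (Subgroup.index_dvd_of_le hle)
    rw [hj] at h2
    exact absurd ((Nat.pow_le_pow_iff_right hpp.one_lt).1 (h2.trans h1)) (by omega)

end Cfsg.Agent.S3883
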