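import Cfsg.Statements.S3886
import Cfsg.Agent.FGSA.Metacyclic

set_option autoImplicit false
open Cfsg

namespace Cfsg.Agent.S3886

/-- Let p be an odd prime and G a finite metacyclic p-group (G has a cyclic normal subgroup with cyclic quotient). Then the largest value of |R| · |Z(R)| over subgroups R of G is |G : G'|², and the subgroups attaining it (the centrally large subgroups) are exactly the non-abelian subgroups together with the maximal abelian subgroups of G. -/
theorem result {G : Type*} [Group G] [Finite G] {p : ℕ} [Fact p.Prime] (hp : p ≠ 2) (hG : IsPGroup p G) (hmc : Cfsg.IsMetacyclic G) : Cfsg.maxCentralProduct G = (commutator G).index ^ 2 ∧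
    ∀ R : Subgroup G, Cfsg.IsCentrallyLarge R ↔ (¬ IsMulCommutative ↥R ∨ Maximal (fun K : Subgroup G => IsMulCommutative ↥K) R) := by
  classical
  have hgood := CfsgLib.FGSA.Metacyclic.good_of_metacyclic hp hG hmc
  set I := (commutator G).index with hI
  have hidx := (commutator G).index_mul_card
  have hpos : 0 < Nat.card (commutator G) := Nat.card_pos
  have hna : ∀ R : Subgroup G, ¬ IsMulCommutative R → Nat.card R * Nat.card (Subgroup.center R) = I ^ 2 := by
    intro R hR
    obtain ⟨m, hm⟩ := (hgood.subgroup R).exists_card_derived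
    have e1 := (CfsgLib.FGSA.Metacyclic.subgroup_measure hp _ le_rfl hgood R).1 hR
    rw [← CfsgLib.FGSA.Metacyclic.map_commutator_subtype,
      Subgroup.card_map_of_injective R.subtype_injective, hm, ← hidx] at e1
    have e2 : Nat.card R = I * p ^ m := by
      refine Nat.eq_of_mul_eq_mul_right hpos ?_
      rw [e1]; ring
    have e3 := (Subgroup.center R).card_mul_index
    rw [(hgood.subgroup R).index_center hp hm, e2] at e3
    refine Nat.eq_of_mul_eq_mul_right (pow_pos (Fact.out : p.Prime).pos (2 * m)) ?_
    rw [mul_assoc, e3, e2]; ring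
  have hab : ∀ R : Subgroup G, IsMulCommutative R → Nat.card (Subgroup.center R) = Nat.card R := by
    intro R hR
    rw [show Subgroup.center R = ⊤ from eq_top_iff.2 fun x _ =>
      Subgroup.mem_center_iff.2 fun y => mul_comm' y x, Subgroup.card_top]
  have hle : ∀ R : Subgroup G, IsMulCommutative R → Nat.card R ≤ I := by
    intro R hR
    refine Nat.le_of_mul_le_mul_right ?_ hpos
    rw [hidx]
    exact (CfsgLib.FGSA.Metacyclic.subgroup_measure hp _ le_rfl hgood R).2.1 hR
  have hmaxcard : ∀ R : Subgroup G, Maximal (fun K : Subgroup G => IsMulCommutative ↥K) R → Nat.card R = I := by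
    intro R hR
    refine Nat.eq_of_mul_eq_mul_right hpos ?_
    rw [hidx]
    exact (CfsgLib.FGSA.Metacyclic.subgroup_measure hp _ le_rfl hgood R).2.2 hR
  have hbound : ∀ R : Subgroup G, Nat.card R * Nat.card (Subgroup.center R) ≤ I ^ 2 := by
    intro R
    by_cases hR : IsMulCommutative R
    · rw [hab R hR, ← sq]; exact Nat.pow_le_pow_left (hle R hR) 2
    · exact (hna R hR).le
  obtain ⟨A, -, hA⟩ := Finite.exists_le_maximal (p := fun K : Subgroup G => IsMulCommutative ↥K)
    (a := (⊥ : Subgroup G)) ⟨⟨fun a b => Subsingleton.elim _ _⟩⟩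
  have hsup : Cfsg.maxCentralProduct G = I ^ 2 := by
    refine IsGreatest.csSup_eq ⟨⟨A, ?_⟩, ?_⟩
    · rw [hab A hA.1, hmaxcard A hA, sq]
    · rintro k ⟨R, rfl⟩; exact hbound R
  refine ⟨hsup, fun R => ?_⟩
  unfold Cfsg.IsCentrallyLarge
  rw [hsup]
  constructor
  · intro h
    refine or_iff_not_imp_left.2 fun hR => ?_
    rw [not_not] at hR
    rw [hab R hR, ← sq] at h
    have hRI : Nat.card R = I := Nat.pow_left_injective two_ne_zero h
    exact ⟨hR, fun K hK hRK => (Subgroup.eq_of_le_of_card_ge hRK ((hle K hK).trans hRI.ge)).ge⟩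
  · rintro (hR | hR)
    · exact hna R hR
    · rw [hab R hR.1, hmaxcard R hR, sq]

end Cfsg.Agent.S3886
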