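import Cfsg.Statements.S3890
import Cfsg.Agent.FGSA.CoverSylow

set_option autoImplicit false
open Cfsg

namespace Cfsg.Agent.S3890

open Subgroup

theorem full {G : Type*} [Group G] [Finite G] (hZ : center G = ⊥) {𝓐 : Finset (Subgroup G)}
    (h : CfsgLib.CoverSylow.IsNMC 𝓐) {p : ℕ} [Fact p.Prime] (P : Sylow p G)
    (hab : IsMulCommutative ↥(P : Subgroup G)) (hnn : ¬ (P : Subgroup G).Normal) {A : Subgroup G}
    (hA : A ∈ 𝓐) (hPA : (P : Subgroup G) ≤ A) :
    centralizer ((P : Subgroup G) : Set G) = A ∧ IsCoatom (normalizer ((P : Subgroup G) : Set G)) ∧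
      ∀ M : Subgroup G, IsCoatom M → centralizer ((P : Subgroup G) : Set G) ≤ M →
        M = normalizer ((P : Subgroup G) : Set G) := by
  have hP : (P : Subgroup G) ≠ ⊥ := fun e => hnn (e ▸ inferInstance)
  obtain ⟨x, hx, hx1⟩ := (bot_or_exists_ne_one _).resolve_left hP
  have hC : centralizer ((P : Subgroup G) : Set G) = A := by
    refine le_antisymm ?_ fun a ha => mem_centralizer_iff.2 fun y hy => ?_
    · rw [← CfsgLib.CoverSylow.centralizer_eq hZ h P hab hA hPA hx hx1]
      exact centralizer_le (Set.singleton_subset_iff.2 hx)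
    · exact (mem_centralizer_singleton_iff.1 (CfsgLib.CoverSylow.nilpotent_le_centralizer P hab (h.2.2 A hA)
        (hPA hy) (CfsgLib.CoverSylow.isPElement_of_mem hy) ha)).symm
  have hN : normalizer ((P : Subgroup G) : Set G) ≠ ⊤ := fun e => hnn (normalizer_eq_top_iff.1 e)
  have hAN : A ≤ normalizer ((P : Subgroup G) : Set G) := hC ▸ centralizer_le_normalizer _
  have hco : IsCoatom (normalizer ((P : Subgroup G) : Set G)) := ⟨hN, fun M hM => by
    by_contra hMt
    exact not_le_of_gt hM (CfsgLib.CoverSylow.le_normalizer_of_member_le hZ h P hab hA hPA hP hMt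
      (hAN.trans hM.le))⟩
  refine ⟨hC, hco, fun M hM hle => ?_⟩
  have h1 := CfsgLib.CoverSylow.le_normalizer_of_member_le hZ h P hab hA hPA hP hM.1 (hC ▸ hle)
  by_contra hne
  exact hN (hM.2 _ (lt_of_le_of_ne h1 hne))


/-- A cover of a group is a finite set of proper subgroups whose union is the whole group; it is minimal when no cover has fewer members, and nilpotent when all its members are nilpotent. Let G be a finite group with trivial center admitting a nilpotent minimal cover 𝓐, and let P be an abelian Sylow p-subgroup of G that is not normal. Then either P is elementary abelian of order greater than p, or P is a Sylow p-subgroup of some member A of 𝓐, the normalizer N of P is a maximal subgroup of G, N meets each of its conjugates by elements outside N in a subgroup of order prime to p, and the centralizer of P equals A. -/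
theorem result {G : Type*} [Group G] [Finite G] (hZ : Subgroup.center G = ⊥) (𝓐 : Finset (Subgroup G))
    (h𝓐 : ((∀ A ∈ 𝓐, A ≠ ⊤) ∧ (∀ g : G, ∃ A ∈ 𝓐, g ∈ A)) ∧ (∀ 𝓑 : Finset (Subgroup G), (∀ A ∈ 𝓑, A ≠ ⊤) ∧ (∀ g : G, ∃ A ∈ 𝓑, g ∈ A) → 𝓐.card ≤ 𝓑.card) ∧ (∀ A ∈ 𝓐, Group.IsNilpotent ↥A)) {p : ℕ} [Fact p.Prime] (P : Sylow p G) (hab : IsMulCommutative ↥(P : Subgroup G))
    (hnn : ¬ (P : Subgroup G).Normal) :
    (Cfsg.IsElementaryAbelian p (P : Subgroup G) ∧ p < Nat.card ↥(P : Subgroup G)) ∨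
    (∃ A ∈ 𝓐, (P : Subgroup G) ≤ A ∧ ¬ p ∣ ((P : Subgroup G).subgroupOf A).index ∧
      IsCoatom (Subgroup.normalizer ((P : Subgroup G) : Set G)) ∧
      (∀ g : G, g ∉ Subgroup.normalizer ((P : Subgroup G) : Set G) →
        ¬ p ∣ Nat.card ↥(Subgroup.normalizer ((P : Subgroup G) : Set G) ⊓
          (Subgroup.normalizer ((P : Subgroup G) : Set G)).map (MulAut.conj g).toMonoidHom)) ∧
      Subgroup.centralizer ((P : Subgroup G) : Set G) = A) := by
  rcases CfsgLib.CoverSylow.elementary_or_le hZ h𝓐 P hab with h | ⟨A, hA, hPA⟩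
  · exact Or.inl ⟨h.1, h.2.2⟩
  · obtain ⟨hC, hco, -⟩ := full hZ h𝓐 P hab hnn hA hPA
    refine Or.inr ⟨A, hA, hPA, fun hd => P.not_dvd_index (hd.trans ?_), hco,
      fun g hg => CfsgLib.CoverSylow.inf_conj_coprime hZ h𝓐 P hab hA hPA hg, hC⟩
    exact Dvd.intro A.index (relIndex_mul_index hPA)

end Cfsg.Agent.S3890
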