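import Cfsg.Statements.S3891
import Cfsg.Agent.FGSA.CoverSylow

set_option autoImplicit false
open Cfsg

namespace Cfsg.Agent.S3891

open Subgroup

theorem full {G : Type*} [Group G] [Finite G] (hZ : center G = ⊥) {𝓐 : Finset (Subgroup G)}
    (h : CfsgLib.CoverSylow.IsNMC 𝓐) {p : ℕ} [Fact p.Prime] (P : Sylow p G)
    (hab : IsMulCommutative ↥(P : Subgroup G)) (hnn : ¬ (P : Subgroup G).Normal) {A : Subgroup G}
    (hA : A ∈ 𝓐) (hPA : (P : Subgroup G) ≤ A) :
    centralizer ((P : Subgroup G) : Set G) = A ∧ IsCoatom (normalizer ((P : Subgroup G) : Set G)) ∧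
      ∀ M : Subgroup G, IsCoatom M → centralizer ((P : Subgroup G) : Set G) ≤ M →
        M = normalizer ((P : Subgroup G) : Set G) := by
  have hP : (P : Subgroup G) ≠ ⊥ := fun e => hnn (e ▸ inferInstance)
  obtain ⟨x, hx, hx1⟩ := (bot_or_exists_ne_one _).resolve_left hP
  have hC : centralizer ((P : Subgroup G) : Set G) = A := by
    refine le_antisymm ?_ fun a ha => mem_centralizer_iff.2 fun y hy => ?_
    · rw [← CfsgLib.CoverSylow.centralizer_eq hZ h P hab hA hPA hx hx1]
      exact centralizer_le (Set.singleton_subset_iff.2 hx)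
    · exact (mem_centralizer_singleton_iff.1 (CfsgLib.CoverSylow.nilpotent_le_centralizer P hab (h.2.2 A hA)
        (hPA hy) (CfsgLib.CoverSylow.isPElement_of_mem hy) ha)).symm
  have hN : normalizer ((P : Subgroup G) : Set G) ≠ ⊤ := fun e => hnn (normalizer_eq_top_iff.1 e)
  have hAN : A ≤ normalizer ((P : Subgroup G) : Set G) := hC ▸ centralizer_le_normalizer _
  have hco : IsCoatom (normalizer ((P : Subgroup G) : Set G)) := ⟨hN, fun M hM => by
    by_contra hMt
    exact not_le_of_gt hM (CfsgLib.CoverSylow.le_normalizer_of_member_le hZ h P hab hA hPA hP hMt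
      (hAN.trans hM.le))⟩
  refine ⟨hC, hco, fun M hM hle => ?_⟩
  have h1 := CfsgLib.CoverSylow.le_normalizer_of_member_le hZ h P hab hA hPA hP hM.1 (hC ▸ hle)
  by_contra hne
  exact hN (hM.2 _ (lt_of_le_of_ne h1 hne))


/-- A cover of a group is a finite set of proper subgroups whose union is the whole group; it is minimal when no cover has fewer members, and nilpotent when all its members are nilpotent. Let G be a finite group with trivial center admitting a nilpotent minimal cover, and let P be a non-normal Sylow p-subgroup of G that is cyclic, or abelian but not elementary abelian. Then the centralizer of P is nilpotent and the normalizer of P is the unique maximal subgroup of G containing the centralizer of P. -/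
theorem result {G : Type*} [Group G] [Finite G] (hZ : Subgroup.center G = ⊥) (𝓐 : Finset (Subgroup G))
    (h𝓐 : ((∀ A ∈ 𝓐, A ≠ ⊤) ∧ (∀ g : G, ∃ A ∈ 𝓐, g ∈ A)) ∧ (∀ 𝓑 : Finset (Subgroup G), (∀ A ∈ 𝓑, A ≠ ⊤) ∧ (∀ g : G, ∃ A ∈ 𝓑, g ∈ A) → 𝓐.card ≤ 𝓑.card) ∧ (∀ A ∈ 𝓐, Group.IsNilpotent ↥A)) {p : ℕ} [Fact p.Prime] (P : Sylow p G)
    (hP : IsCyclic ↥(P : Subgroup G) ∨ (IsMulCommutative ↥(P : Subgroup G) ∧ ¬ Cfsg.IsElementaryAbelian p (P : Subgroup G)))
    (hnn : ¬ (P : Subgroup G).Normal) :
    Group.IsNilpotent ↥(Subgroup.centralizer ((P : Subgroup G) : Set G)) ∧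
      IsCoatom (Subgroup.normalizer ((P : Subgroup G) : Set G)) ∧
      ∀ M : Subgroup G, IsCoatom M → Subgroup.centralizer ((P : Subgroup G) : Set G) ≤ M →
        M = Subgroup.normalizer ((P : Subgroup G) : Set G) := by
  have hab : IsMulCommutative ↥(P : Subgroup G) :=
    hP.elim (fun hc => ⟨⟨(IsCyclic.commGroup (α := ↥(P : Subgroup G))).mul_comm⟩⟩) And.left
  rcases CfsgLib.CoverSylow.elementary_or_le hZ h𝓐 P hab with h | ⟨A, hA, hPA⟩
  · rcases hP with hc | hc
    · exact absurd hc h.2.1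
    · exact absurd h.1 hc.2
  · obtain ⟨hC, hco, huni⟩ := full hZ h𝓐 P hab hnn hA hPA
    exact ⟨hC.symm ▸ h𝓐.2.2 A hA, hco, huni⟩

end Cfsg.Agent.S3891
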