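import Cfsg.Statements.S3892
import Cfsg.Agent.FGSA.CoverAlt

set_option autoImplicit false
open Cfsg

namespace Cfsg.Agent.S3892

theorem expand {G : Type*} [Group G] {t : G} (ht3 : t * t * (t * t) = t)
    (hC : ∀ z : G, z * t = t * z → z ∈ ({1, t, t * t} : Set G)) :
    ∀ z a : G, z * t = t * z → z ≠ 1 → a * z = z * a → a ∈ ({1, t, t * t} : Set G) := by
  intro z a hz hz1 ha
  refine hC a ?_
  rcases hC z hz with rfl | rfl | rfl
  · exact absurd rfl hz1
  · exact ha
  · rw [← ht3]
    exact ((show Commute a (t * t) from ha).mul_right (show Commute a (t * t) from ha)).eq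

set_option maxRecDepth 20000 in
/-- A cover of a group is a finite set of proper subgroups whose union is the whole group; it is minimal when no cover has fewer members, and nilpotent when all its members are nilpotent. The alternating groups of degree at least 5 and the symmetric groups of degree at least 4 have no nilpotent minimal cover. -/
theorem result (n : ℕ) :
    (5 ≤ n → ¬ ∃ 𝓐 : Finset (Subgroup ↥(alternatingGroup (Fin n))), ((∀ A ∈ 𝓐, A ≠ ⊤) ∧ (∀ g : ↥(alternatingGroup (Fin n)), ∃ A ∈ 𝓐, g ∈ A)) ∧ (∀ 𝓑 : Finset (Subgroup ↥(alternatingGroup (Fin n))), (∀ A ∈ 𝓑, A ≠ ⊤) ∧ (∀ g : ↥(alternatingGroup (Fin n)), ∃ A ∈ 𝓑, g ∈ A) → 𝓐.card ≤ 𝓑.card) ∧ (∀ A ∈ 𝓐, Group.IsNilpotent ↥A)) ∧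
    (4 ≤ n → ¬ ∃ 𝓐 : Finset (Subgroup (Equiv.Perm (Fin n))), ((∀ A ∈ 𝓐, A ≠ ⊤) ∧ (∀ g : (Equiv.Perm (Fin n)), ∃ A ∈ 𝓐, g ∈ A)) ∧ (∀ 𝓑 : Finset (Subgroup (Equiv.Perm (Fin n))), (∀ A ∈ 𝓑, A ≠ ⊤) ∧ (∀ g : (Equiv.Perm (Fin n)), ∃ A ∈ 𝓑, g ∈ A) → 𝓐.card ≤ 𝓑.card) ∧ (∀ A ∈ 𝓐, Group.IsNilpotent ↥A)) := by
  refine ⟨fun hn h => ?_, fun hn h => ?_⟩
  · -- alternating groups
    by_cases h5 : n = 5
    · subst h5
      let t : alternatingGroup (Fin 5) :=
        ⟨Equiv.swap 0 1 * Equiv.swap 1 2, Equiv.Perm.mem_alternatingGroup.2 (by decide)⟩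
      let t' : alternatingGroup (Fin 5) :=
        ⟨Equiv.swap 0 1 * Equiv.swap 1 3, Equiv.Perm.mem_alternatingGroup.2 (by decide)⟩
      let M : Subgroup (alternatingGroup (Fin 5)) :=
        (MulAction.stabilizer (Equiv.Perm (Fin 5)) (4 : Fin 5)).subgroupOf _
      have hC : ∀ s : alternatingGroup (Fin 5),
          (∀ z : Equiv.Perm (Fin 5), z * s = s * z →
            (z = 1 ∨ z = s ∨ z = s * s) ∨ Equiv.Perm.sign z = -1) →
          ∀ z : alternatingGroup (Fin 5), z * s = s * z → z ∈ ({1, s, s * s} : Set _) := by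
        intro s hs z hz
        rcases hs z (congrArg Subtype.val hz) with (e | e | e) | e
        · exact Or.inl (Subtype.ext e)
        · exact Or.inr (Or.inl (Subtype.ext e))
        · exact Or.inr (Or.inr (Subtype.ext e))
        · rw [show Equiv.Perm.sign (z : Equiv.Perm (Fin 5)) = 1 from Equiv.Perm.mem_alternatingGroup.1 z.2]
            at e
          exact absurd e (by decide)
      refine CfsgLib.FGSA.CoverAlt.false_of_small M (fun e => ?_) t t' (by decide) (by decide)
        (show (Equiv.swap (0 : Fin 5) 1 * Equiv.swap (1 : Fin 5) 2 : Equiv.Perm (Fin 5)) (4 : Fin 5) = 4 by decide)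
        (show (Equiv.swap (0 : Fin 5) 1 * Equiv.swap (1 : Fin 5) 3 : Equiv.Perm (Fin 5)) (4 : Fin 5) = 4 by decide)
        (by simp only [Set.mem_insert_iff, Set.mem_singleton_iff]; decide)
        (expand (by decide) (hC t (by decide))) (expand (by decide) (hC t' (by decide))) h
      have h1 : (⟨Equiv.swap 0 1 * Equiv.swap 1 4, Equiv.Perm.mem_alternatingGroup.2 (by decide)⟩ : alternatingGroup (Fin 5)) ∈ M :=
        e ▸ Subgroup.mem_top _
      exact absurd (show (Equiv.swap (0 : Fin 5) 1 * Equiv.swap (1 : Fin 5) 4 : Equiv.Perm (Fin 5)) (4 : Fin 5) = 4 from h1) (by decide)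
    · rcases Nat.even_or_odd n with hev | hodd
      · obtain ⟨k, hk⟩ := hev
        refine CfsgLib.FGSA.CoverAlt.false_of_cover (e := (⟨n - 2, by omega⟩ : Fin n))
          (alternatingGroup (Fin n)).subtype Subtype.coe_injective (by rw [Subgroup.range_subtype])
          (m := n - 1) (by simp; omega) (by omega) (by omega) (Or.inl ?_) (fun g hg => ?_) h
        · rw [Fin.sign_cycleRange]
          exact Even.neg_one_pow ⟨k - 1, by simp; omega⟩
        · refine Subtype.ext (Equiv.ext fun i => ?_)
          by_cases hi : i.val < n - 1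
          · exact hg i hi
          · by_contra hne
            refine hne ((g : Equiv.Perm (Fin n)).injective ?_)
            have hlt : ((g : Equiv.Perm (Fin n)) i).val < n - 1 := by
              by_contra hge
              exact hne (Fin.ext (by simp; omega))
            exact hg _ hlt
      · obtain ⟨k, hk⟩ := hodd
        refine CfsgLib.FGSA.CoverAlt.false_of_cover (e := (⟨n - 3, by omega⟩ : Fin n))
          (alternatingGroup (Fin n)).subtype Subtype.coe_injective (by rw [Subgroup.range_subtype])
          (m := n - 2) (by simp; omega) (by omega) (by omega) (Or.inl ?_) (fun g hg => ?_) h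
        · rw [Fin.sign_cycleRange]
          exact Even.neg_one_pow ⟨k - 1, by simp; omega⟩
        · by_contra hne
          have hsupp : (g : Equiv.Perm (Fin n)).support ⊆ {⟨n - 2, by omega⟩, ⟨n - 1, by omega⟩} := by
            intro i hi
            rw [Equiv.Perm.mem_support] at hi
            have : ¬ i.val < n - 2 := fun hlt => hi (hg i hlt)
            simp only [Finset.mem_insert, Finset.mem_singleton, Fin.ext_iff]
            omega
          have h2 : (g : Equiv.Perm (Fin n)).support.card = 2 := by
            have hle := (Finset.card_le_card hsupp).trans Finset.card_le_two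
            have h0 : (g : Equiv.Perm (Fin n)).support.card ≠ 0 := fun e => hne (Subtype.ext
              (Equiv.Perm.support_eq_empty_iff.1 (Finset.card_eq_zero.1 e)))
            have h1 := Equiv.Perm.card_support_ne_one (g : Equiv.Perm (Fin n))
            omega
          have hs := (Equiv.Perm.card_support_eq_two.1 h2).sign_eq
          rw [Equiv.Perm.mem_alternatingGroup.1 g.2] at hs
          exact absurd hs (by decide)
  · -- symmetric groups
    by_cases h4 : n = 4
    · subst h4
      refine CfsgLib.FGSA.CoverAlt.false_of_small (alternatingGroup (Fin 4)) (fun e => ?_)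
        (Equiv.swap 0 1 * Equiv.swap 1 2) (Equiv.swap 0 1 * Equiv.swap 1 3) (by decide) (by decide)
        (Equiv.Perm.mem_alternatingGroup.2 (by decide)) (Equiv.Perm.mem_alternatingGroup.2 (by decide))
        (by simp only [Set.mem_insert_iff, Set.mem_singleton_iff]; decide)
        (expand (by decide) (by simp only [Set.mem_insert_iff, Set.mem_singleton_iff]; decide))
        (expand (by decide) (by simp only [Set.mem_insert_iff, Set.mem_singleton_iff]; decide)) h
      exact absurd (Equiv.Perm.mem_alternatingGroup.1 (e ▸ Subgroup.mem_top (Equiv.swap (0 : Fin 4) 1) :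
        Equiv.swap (0 : Fin 4) 1 ∈ alternatingGroup (Fin 4))) (by decide)
    · refine CfsgLib.FGSA.CoverAlt.false_of_cover (e := (⟨n - 2, by omega⟩ : Fin n))
        (MonoidHom.id _) Function.injective_id (fun x _ => ⟨x, rfl⟩)
        (m := n - 1) (by simp; omega) (by omega) (by omega) (Or.inr ?_) (fun g hg => ?_) h
      · exact eq_top_iff.2 fun x _ => ⟨x, rfl⟩
      · refine Equiv.ext fun i => ?_
        by_cases hi : i.val < n - 1
        · exact hg i hi
        · by_contra hne
          refine hne (g.injective ?_)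
          have hlt : (g i).val < n - 1 := by
            by_contra hge
            exact hne (Fin.ext (by simp; omega))
          exact hg _ hlt

end Cfsg.Agent.S3892
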