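import Cfsg.Statements.S3893
import Cfsg.Agent.FGSA.Cover
import Cfsg.Agent.PrimeGraph.SzFix

set_option autoImplicit false
set_option maxHeartbeats 800000
open Cfsg Matrix

namespace Cfsg.Agent.S3893

open Matrix in
/-- The elements fixing the first coordinate line. -/
private theorem first_col_iff {F : Type*} [Field F] (A B : Matrix (Fin 4) (Fin 4) F)
    (hA : ∀ i, i ≠ 0 → A i 0 = 0) (hB : ∀ i, i ≠ 0 → B i 0 = 0) :
    ∀ i, i ≠ 0 → (A * B) i 0 = 0 := by
  intro i hi
  rw [Matrix.mul_apply]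
  refine Finset.sum_eq_zero fun j _ => ?_
  by_cases hj : j = 0
  · rw [hj, hA i hi, zero_mul]
  · rw [hB j hj, mul_zero]

/-- A cover of a group is a finite set of proper subgroups whose union is the whole group; it is minimal when no cover has fewer members, and nilpotent when all its members are nilpotent. The Suzuki groups Sz(q), q = 2^(2m+1) with m ≥ 1, have no nilpotent minimal cover. -/
theorem result {F : Type*} [Field F] [Fintype F] (m : ℕ) (hm : 1 ≤ m) (hF : Fintype.card F = 2 ^ (2 * m + 1)) :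
    ¬ ∃ 𝓐 : Finset (Subgroup ↥(Cfsg.Lie.Sz F (2 ^ (m + 1)))), ((∀ A ∈ 𝓐, A ≠ ⊤) ∧ (∀ g : ↥(Cfsg.Lie.Sz F (2 ^ (m + 1))), ∃ A ∈ 𝓐, g ∈ A)) ∧ (∀ 𝓑 : Finset (Subgroup ↥(Cfsg.Lie.Sz F (2 ^ (m + 1)))), (∀ A ∈ 𝓑, A ≠ ⊤) ∧ (∀ g : ↥(Cfsg.Lie.Sz F (2 ^ (m + 1))), ∃ A ∈ 𝓑, g ∈ A) → 𝓐.card ≤ 𝓑.card) ∧ (∀ A ∈ 𝓐, Group.IsNilpotent ↥A) := by
  classical
  haveI : Fact (Nat.Prime 2) := ⟨Nat.prime_two⟩
  haveI : CharP F 2 := by
    obtain ⟨q, hq⟩ := CharP.exists F
    obtain ⟨n, hqp, hn⟩ := FiniteField.card F q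
    rw [hF] at hn
    have : q = 2 := (Nat.prime_dvd_prime_iff_eq hqp Nat.prime_two).1
      (hqp.dvd_of_dvd_pow (hn ▸ dvd_pow_self q n.pos.ne'))
    exact this ▸ hq
  set e := 2 ^ (m + 1) with he
  have hinj : ∃ f : F →+* F, ∀ x, f x = x ^ e := ⟨iterateFrobenius F 2 (m + 1), fun x => by
    rw [iterateFrobenius_def]⟩
  have hq : ∀ x : F, x ^ (2 ^ (2 * m + 1)) = x := fun x => hF ▸ FiniteField.pow_card x
  -- small facts on powers
  have hsq : ∀ x : F, x ≠ 0 → x ^ 2 = x → x = 1 := fun x hx h2 =>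
    mul_left_cancel₀ hx (by rw [mul_one, ← sq, h2])
  have hfrob : ∀ (x : F) (k : ℕ), x ^ (2 ^ k) = 1 → x = 1 := by
    intro x k h
    have h2 : iterateFrobenius F 2 k x = iterateFrobenius F 2 k 1 := by
      rw [iterateFrobenius_def, iterateFrobenius_def, h, one_pow]
    exact (iterateFrobenius F 2 k).injective h2
  have hE1 : ∀ x : F, x ≠ 0 → x ^ e = x → x = 1 := by
    intro x hx h
    refine hsq x hx ?_
    have h1 : x ^ (e * e) = x := by rw [pow_mul, h, h]
    rwa [show e * e = 2 ^ (2 * m + 1) * 2 by rw [he]; ring, pow_mul, hq] at h1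
  have hE2 : ∀ x : F, x ≠ 0 → x ^ e = x ^ 2 → x = 1 := by
    intro x hx h
    refine hsq x hx ?_
    have hm1 : x ^ (2 ^ m) = x := by
      have h2 : iterateFrobenius F 2 1 (x ^ (2 ^ m)) = iterateFrobenius F 2 1 x := by
        rw [iterateFrobenius_def, iterateFrobenius_def, ← pow_mul, pow_one, ← pow_succ, ← he, h]
      exact (iterateFrobenius F 2 1).injective h2
    have h3 : x ^ (2 ^ (2 * m)) = x := by
      rw [show 2 ^ (2 * m) = 2 ^ m * 2 ^ m by rw [← pow_add, two_mul], pow_mul, hm1, hm1]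
    have h4 := hq x
    rwa [show 2 ^ (2 * m + 1) = 2 ^ (2 * m) * 2 by rw [pow_succ], pow_mul, h3] at h4
  -- a nontrivial diagonal element of the group has four different entries
  have hdiag : ∀ d : Fin 4 → F, ∀ g : GL (Fin 4) F, g ∈ Cfsg.Lie.Sz F e →
      (g : Matrix (Fin 4) (Fin 4) F) = Matrix.diagonal d →
      (d 0 * d 3 = 1 ∧ d 1 * d 2 = 1 ∧ d 0 * d 1 = d 0 ^ e) ∧ (g ≠ 1 → Function.Injective d) := by
    intro d g hg hgd
    obtain ⟨hsp, hst⟩ := CfsgLib.SzFix.mem_iff hinj hg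
    rw [hgd] at hst
    have h03 : d 0 * d 3 = 1 := by
      have := CfsgLib.SzFix.form_of_mem hsp 0 3
      simpa [hgd, CfsgLib.SzFix.J4, Matrix.diagonal] using this
    have h12 : d 1 * d 2 = 1 := by
      have := CfsgLib.SzFix.form_of_mem hsp 1 2
      simpa [hgd, CfsgLib.SzFix.J4, Matrix.diagonal] using this
    have h01 : d 0 * d 1 = d 0 ^ e := by
      have := congrFun (congrFun hst 0) 0
      simpa [Cfsg.Lie.star4, Cfsg.Lie.pairOf, Matrix.diagonal] using this
    refine ⟨⟨h03, h12, h01⟩, fun hg1 => ?_⟩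
    have h0 : d 0 ≠ 0 := fun h => by simp [h] at h03
    have h1 : d 1 ≠ 0 := fun h => by simp [h] at h12
    have hd0 : d 0 ≠ 1 := by
      intro hd0
      apply hg1
      apply Units.ext
      rw [hgd, Units.val_one, ← Matrix.diagonal_one]
      congr 1
      rw [hd0, one_mul] at h03
      rw [hd0, one_mul, one_pow] at h01
      rw [h01, one_mul] at h12
      funext i
      fin_cases i <;> assumption
    have n03 : d 0 ≠ d 3 := fun h => hd0 (hfrob _ 1 (by rw [pow_one, sq]; rw [← h] at h03; exact h03))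
    have n12 : d 1 ≠ d 2 := fun h => hd0 (by
      have h' : d 1 = 1 := hfrob _ 1 (by rw [pow_one, sq]; rw [← h] at h12; exact h12)
      rw [h', mul_one] at h01
      exact hE1 _ h0 h01.symm)
    have n01 : d 0 ≠ d 1 := fun h => hd0 (hE2 _ h0 (by rw [← h01, ← h, sq]))
    have n02 : d 0 ≠ d 2 := fun h => hd0 (hfrob _ (m + 1) (by
      rw [← he, ← h01, h, mul_comm, h12]))
    have n13 : d 1 ≠ d 3 := fun h => hd0 (hfrob _ (m + 1) (by
      rw [← he, ← h01, h, h03]))
    have n23 : d 2 ≠ d 3 := fun h => n01 (by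
      have e1 : d 1 * d 3 = 1 := h ▸ h12
      have h3 : d 3 ≠ 0 := fun h' => by simp [h'] at h03
      exact mul_right_cancel₀ h3 (h03.trans e1.symm))
    intro i j hij
    fin_cases i <;> fin_cases j <;> first
      | rfl
      | exact absurd hij n01
      | exact absurd hij n02
      | exact absurd hij n03
      | exact absurd hij n12
      | exact absurd hij n13
      | exact absurd hij n23
      | exact absurd hij.symm n01
      | exact absurd hij.symm n02
      | exact absurd hij.symm n03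
      | exact absurd hij.symm n12
      | exact absurd hij.symm n13
      | exact absurd hij.symm n23
  -- the element `t`
  obtain ⟨w, hw⟩ : ∃ w : Fˣ, w ≠ 1 := by
    by_contra hc
    push Not at hc
    have h2 : Fintype.card Fˣ ≤ 1 := Fintype.card_le_one_iff.2 (fun a b => (hc a).trans (hc b).symm)
    rw [Fintype.card_units, hF] at h2
    have : 2 ^ 3 ≤ 2 ^ (2 * m + 1) := Nat.pow_le_pow_right two_pos (by omega)
    omega
  let dd : Fin 4 → Fˣ := ![w, w ^ e * w⁻¹, (w ^ e * w⁻¹)⁻¹, w⁻¹]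
  let T : GL (Fin 4) F :=
    ⟨Matrix.diagonal (fun i => (dd i : F)), Matrix.diagonal (fun i => (((dd i)⁻¹ : Fˣ) : F)),
      by rw [Matrix.diagonal_mul_diagonal, ← Matrix.diagonal_one]; simp,
      by rw [Matrix.diagonal_mul_diagonal, ← Matrix.diagonal_one]; simp⟩
  have hTm : (T : Matrix (Fin 4) (Fin 4) F) = Matrix.diagonal (fun i => (dd i : F)) := rfl
  have e03 : (dd 0 : F) * dd 3 = 1 := by
    rw [← Units.val_mul, ← Units.val_one]; congr 1; simp [dd]
  have e12 : (dd 1 : F) * dd 2 = 1 := by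
    rw [← Units.val_mul, ← Units.val_one]; congr 1; simp [dd]
  have hTSz : T ∈ Cfsg.Lie.Sz F e := by
    apply Subgroup.subset_closure
    constructor
    · intro u v
      show Cfsg.Lie.altForm4 ((T : Matrix (Fin 4) (Fin 4) F) *ᵥ u) ((T : Matrix (Fin 4) (Fin 4) F) *ᵥ v) = _
      simp only [hTm, Cfsg.Lie.altForm4, Matrix.mulVec_diagonal]
      linear_combination (u 0 * v 3 + u 3 * v 0) * e03 + (u 1 * v 2 + u 2 * v 1) * e12
    · have hwe : (w : F) ^ (e * e) = (w : F) * (w : F) := by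
        rw [show e * e = 2 ^ (2 * m + 1) * 2 by rw [he]; ring, pow_mul, hq, sq]
      ext p r
      fin_cases p <;> fin_cases r <;>
        simp [hTm, Cfsg.Lie.star4, Cfsg.Lie.pairOf, Matrix.diagonal, dd, mul_pow, ← pow_mul, hwe,
          show e ≠ 0 by positivity] <;>
        field_simp
  set t : ↥(Cfsg.Lie.Sz F e) := ⟨T, hTSz⟩ with ht
  have ht1 : t ≠ 1 := by
    intro h
    apply hw
    have := congrFun (congrFun (congrArg (fun g : ↥(Cfsg.Lie.Sz F e) =>
      ((g : GL (Fin 4) F) : Matrix (Fin 4) (Fin 4) F)) h) 0) 0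
    simp [ht, hTm, dd] at this
    exact this
  -- the subgroup `M`
  let M : Subgroup ↥(Cfsg.Lie.Sz F e) :=
    { carrier := {g | ∀ i, i ≠ 0 → ((g : GL (Fin 4) F) : Matrix (Fin 4) (Fin 4) F) i 0 = 0}
      one_mem' := by intro i hi; simp [Matrix.one_apply_ne hi]
      mul_mem' := fun {a b} ha hb => by
        intro i hi
        simp only [Subgroup.coe_mul, Units.val_mul]
        exact first_col_iff _ _ ha hb i hi
      inv_mem' := fun {a} ha => by
        let S : Submonoid ↥(Cfsg.Lie.Sz F e) :=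
          { carrier := {g | ∀ i, i ≠ 0 → ((g : GL (Fin 4) F) : Matrix (Fin 4) (Fin 4) F) i 0 = 0}
            one_mem' := by intro i hi; simp [Matrix.one_apply_ne hi]
            mul_mem' := fun {a b} ha hb => by
              intro i hi
              simp only [Subgroup.coe_mul, Units.val_mul]
              exact first_col_iff _ _ ha hb i hi }
        have : a⁻¹ ∈ Submonoid.powers a := by
          rw [mem_powers_iff_mem_zpowers]
          exact inv_mem (Subgroup.mem_zpowers a)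
        obtain ⟨n, hn⟩ := this
        change a⁻¹ ∈ S
        rw [← hn]
        exact S.pow_mem ha n }
  have hMmem : ∀ g : ↥(Cfsg.Lie.Sz F e), g ∈ M ↔
      ∀ i, i ≠ 0 → ((g : GL (Fin 4) F) : Matrix (Fin 4) (Fin 4) F) i 0 = 0 := fun _ => Iff.rfl
  have hM : M ≠ ⊤ := by
    intro htop
    let J : GL (Fin 4) F := ⟨CfsgLib.SzFix.J4, CfsgLib.SzFix.J4, CfsgLib.SzFix.J4_mul_J4,
      CfsgLib.SzFix.J4_mul_J4⟩
    have hJ : J ∈ Cfsg.Lie.Sz F e := by
      apply Subgroup.subset_closure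
      constructor
      · intro u v
        show Cfsg.Lie.altForm4 ((J : Matrix (Fin 4) (Fin 4) F) *ᵥ u) ((J : Matrix (Fin 4) (Fin 4) F) *ᵥ v) = _
        simp [J, CfsgLib.SzFix.J4, Cfsg.Lie.altForm4, Matrix.mulVec, dotProduct, Fin.sum_univ_four]
        ring
      · ext p r
        fin_cases p <;> fin_cases r <;>
          simp [J, CfsgLib.SzFix.J4, Cfsg.Lie.star4, Cfsg.Lie.pairOf, CharTwo.neg_eq,
            show e ≠ 0 by positivity]
    have h3 := (hMmem ⟨J, hJ⟩).1 (htop ▸ Subgroup.mem_top _) 3 (by decide)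
    simp [J, CfsgLib.SzFix.J4] at h3
  -- the unipotent element
  let U : GL (Fin 4) F := ⟨!![1,0,1,1;0,1,0,1;0,0,1,0;0,0,0,1], !![1,0,1,1;0,1,0,1;0,0,1,0;0,0,0,1],
    by ext i j; fin_cases i <;> fin_cases j <;> simp [Matrix.mul_apply, Fin.sum_univ_four, CharTwo.add_self_eq_zero],
    by ext i j; fin_cases i <;> fin_cases j <;> simp [Matrix.mul_apply, Fin.sum_univ_four, CharTwo.add_self_eq_zero]⟩
  have hU : U ∈ Cfsg.Lie.Sz F e := by
    apply Subgroup.subset_closure
    constructor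
    · intro u v
      show Cfsg.Lie.altForm4 ((U : Matrix (Fin 4) (Fin 4) F) *ᵥ u) ((U : Matrix (Fin 4) (Fin 4) F) *ᵥ v) = _
      simp [U, Cfsg.Lie.altForm4, Matrix.mulVec, dotProduct, Fin.sum_univ_four]
      linear_combination (u 2 * v 3 + u 3 * v 3 + u 3 * v 2) * (CharTwo.two_eq_zero : (2 : F) = 0)
    · ext p r
      fin_cases p <;> fin_cases r <;>
        simp [U, Cfsg.Lie.star4, Cfsg.Lie.pairOf, CharTwo.neg_eq, CharTwo.sub_eq_add,
          show e ≠ 0 by positivity]
  set u : ↥(Cfsg.Lie.Sz F e) := ⟨U, hU⟩ with hu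
  have huM : u ∈ M := by
    rw [hMmem]
    intro i hi
    fin_cases i <;> simp [hu, U] at hi ⊢
  -- nilpotent subgroups containing `t` consist of diagonal matrices
  have key : ∀ A : Subgroup ↥(Cfsg.Lie.Sz F e), Group.IsNilpotent A → t ∈ A → ∀ a ∈ A, ∀ i j,
      i ≠ j → ((a : GL (Fin 4) F) : Matrix (Fin 4) (Fin 4) F) i j = 0 := by
    intro A hA htA a ha i j hij
    obtain ⟨z, hzA, hz1, hzc⟩ := CfsgLib.FGSA.exists_ne_one_commute_of_nilpotent hA htA ht1
    have hval : ∀ x : ↥(Cfsg.Lie.Sz F e), x * z = z * x →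
        ((x : GL (Fin 4) F) : Matrix (Fin 4) (Fin 4) F) * ((z : GL (Fin 4) F) : Matrix (Fin 4) (Fin 4) F) =
          ((z : GL (Fin 4) F) : Matrix (Fin 4) (Fin 4) F) * ((x : GL (Fin 4) F) : Matrix (Fin 4) (Fin 4) F) :=
      fun x hx => by
        have := congrArg (fun g : ↥(Cfsg.Lie.Sz F e) =>
          ((g : GL (Fin 4) F) : Matrix (Fin 4) (Fin 4) F)) hx
        simpa using this
    set Z := ((z : GL (Fin 4) F) : Matrix (Fin 4) (Fin 4) F) with hZ
    have hTi : Function.Injective (fun i => (dd i : F)) :=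
      (hdiag _ T hTSz hTm).2 (fun h => ht1 (Subtype.ext h))
    have hZd : Z = Matrix.diagonal (fun i => Z i i) := by
      ext k l
      by_cases hkl : k = l
      · subst hkl; simp
      · have h := congrFun (congrFun (hval t (hzc t htA)) k) l
        rw [show ((t : GL (Fin 4) F) : Matrix (Fin 4) (Fin 4) F) = _ from hTm,
          Matrix.diagonal_mul, Matrix.mul_diagonal] at h
        have h2 : ((dd k : F) - dd l) * Z k l = 0 := by rw [sub_mul, sub_eq_zero, h]; ring
        rcases mul_eq_zero.1 h2 with h3 | h3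
        · exact absurd (hTi (sub_eq_zero.1 h3)) hkl
        · simp [Matrix.diagonal_apply_ne _ hkl, h3]
    have hZi : Function.Injective (fun i => Z i i) :=
      (hdiag _ _ z.2 hZd).2 (fun h => hz1 (Subtype.ext h))
    have h := congrFun (congrFun (hval a (hzc a ha)) i) j
    rw [hZd, Matrix.mul_diagonal, Matrix.diagonal_mul] at h
    have h2 : (Z i i - Z j j) * ((a : GL (Fin 4) F) : Matrix (Fin 4) (Fin 4) F) i j = 0 := by
      rw [sub_mul, sub_eq_zero, ← h]; ring
    rcases mul_eq_zero.1 h2 with h3 | h3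
    · exact absurd (hZi (sub_eq_zero.1 h3)) hij
    · exact h3
  have ht_M : ∀ A : Subgroup ↥(Cfsg.Lie.Sz F e), Group.IsNilpotent A → t ∈ A → A ≤ M :=
    fun A hA htA a ha i hi => key A hA htA a ha i 0 hi
  rintro ⟨𝓐, h𝓐⟩
  refine CfsgLib.FGSA.false_of_nilpotent_cover hM t (u * t * u⁻¹) ht_M ?_ ?_ 𝓐 h𝓐
  · intro A hA htA a ha
    have hA' : Group.IsNilpotent ↥(A.map (MulAut.conj u⁻¹).toMonoidHom) :=
      (Group.isNilpotent_congr (A.equivMapOfInjective _ (MulEquiv.injective _))).1 hA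
    have htm : t ∈ A.map (MulAut.conj u⁻¹).toMonoidHom :=
      ⟨_, htA, by simp [MulAut.conj_apply, mul_assoc]⟩
    have h1 := ht_M _ hA' htm (Subgroup.mem_map_of_mem _ ha)
    have h2 := M.mul_mem (M.mul_mem huM h1) (M.inv_mem huM)
    simpa [MulAut.conj_apply, mul_assoc] using h2
  · intro A hA htA htA'
    have h02 : ∀ i j, i ≠ j →
        (((u * t * u⁻¹ : ↥(Cfsg.Lie.Sz F e)) : GL (Fin 4) F) : Matrix (Fin 4) (Fin 4) F) i j = 0 :=
      key A hA htA _ htA'
    set D := (((u * t * u⁻¹ : ↥(Cfsg.Lie.Sz F e)) : GL (Fin 4) F) : Matrix (Fin 4) (Fin 4) F) with hD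
    have hDU : D * (U : Matrix (Fin 4) (Fin 4) F) = (U : Matrix (Fin 4) (Fin 4) F) * (T : Matrix (Fin 4) (Fin 4) F) := by
      rw [hD, ← Units.val_mul, ← Units.val_mul]
      congr 1
      simp [hu, ht]
    have hTi : Function.Injective (fun i => (dd i : F)) :=
      (hdiag _ T hTSz hTm).2 (fun h => ht1 (Subtype.ext h))
    have a00 := congrFun (congrFun hDU 0) 0
    have a02 := congrFun (congrFun hDU 0) 2
    rw [hTm, Matrix.mul_diagonal, Matrix.mul_apply] at a00 a02
    simp [U, Fin.sum_univ_four, h02 0 1 (by decide), h02 0 2 (by decide), h02 0 3 (by decide)] at a00 a02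
    exact absurd (hTi (a00.symm.trans a02)) (by decide)

end Cfsg.Agent.S3893
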