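import Cfsg.Statements.S3895
import Cfsg.Agent.FGSA.TwoClassCount

set_option autoImplicit false
open Cfsg

namespace Cfsg.Agent.S3895

/-- Let G be a finite group with Sylow 2-subgroup P, and write k₂(G) for the number of conjugacy classes of G consisting of 2-elements (elements of 2-power order, the identity included). Then k₂(G) > |P|/2 if and only if G has a normal 2-complement and P has more than |P|/2 conjugacy classes. -/
theorem result {G : Type*} [Group G] [Finite G] (P : Sylow 2 G) :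
    Nat.card ↥(P : Subgroup G) < 2 * Nat.card {c : ConjClasses G // ∀ x ∈ c.carrier, ∃ k : ℕ, orderOf x = 2 ^ k} ↔
      Cfsg.HasNormalPComplement 2 G ∧ Nat.card ↥(P : Subgroup G) < 2 * Nat.card (ConjClasses ↥(P : Subgroup G)) := by
  classical
  haveI := Fact.mk Nat.prime_two
  constructor
  · intro h
    refine ⟨CfsgLib.FGSA.hasNormalTwoComplement_of_card_pClasses P h, lt_of_lt_of_le h ?_⟩
    refine Nat.mul_le_mul_left 2 ?_
    have hconst : ∀ a b : (P : Subgroup G), IsConj a b →
        CfsgLib.FGSA.toPClasses P a = CfsgLib.FGSA.toPClasses P b := by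
      intro a b hab
      obtain ⟨c, hc⟩ := isConj_iff.1 hab
      exact Subtype.ext (ConjClasses.mk_eq_mk_iff_isConj.2
        (isConj_iff.2 ⟨(c : G), congrArg Subtype.val hc⟩))
    refine Nat.card_le_card_of_surjective
      (Quotient.lift (CfsgLib.FGSA.toPClasses P) hconst) fun c => ?_
    obtain ⟨x, rfl⟩ := CfsgLib.FGSA.toPClasses_surjective P c
    exact ⟨ConjClasses.mk x, rfl⟩
  · rintro ⟨hN, h⟩
    refine lt_of_lt_of_le h (Nat.mul_le_mul_left 2 ?_)
    obtain ⟨N, hNn, hc⟩ := CfsgLib.FGSA.hasNormalPComplement_exists P hN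
    have hconst : ∀ a b : (P : Subgroup G), IsConj a b →
        CfsgLib.FGSA.toPClasses P a = CfsgLib.FGSA.toPClasses P b := by
      intro a b hab
      obtain ⟨c, hc'⟩ := isConj_iff.1 hab
      exact Subtype.ext (ConjClasses.mk_eq_mk_iff_isConj.2
        (isConj_iff.2 ⟨(c : G), congrArg Subtype.val hc'⟩))
    refine Nat.card_le_card_of_injective
      (Quotient.lift (CfsgLib.FGSA.toPClasses P) hconst) ?_
    intro a b hab
    obtain ⟨x, rfl⟩ := ConjClasses.exists_rep a
    obtain ⟨y, rfl⟩ := ConjClasses.exists_rep b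
    obtain ⟨g, hg⟩ := isConj_iff.1 (ConjClasses.mk_eq_mk_iff_isConj.1 (congrArg Subtype.val hab))
    obtain ⟨⟨n, u⟩, hnu, -⟩ := hc.existsUnique g
    simp only at hnu
    refine ConjClasses.mk_eq_mk_iff_isConj.2 (isConj_iff.2 ⟨u, Subtype.ext ?_⟩)
    change (u : G) * x * (u : G)⁻¹ = y
    set w : G := (u : G) * x * (u : G)⁻¹ with hw
    have hy : (y : G) = (n : G) * w * (n : G)⁻¹ := by rw [← hg, ← hnu, hw]; group
    have hwP : w ∈ (P : Subgroup G) :=
      mul_mem (mul_mem u.2 x.2) (inv_mem u.2)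
    have hin : w⁻¹ * y ∈ N := by
      rw [hy, show w⁻¹ * ((n : G) * w * (n : G)⁻¹) = (w⁻¹ * n * w) * (n : G)⁻¹ by group]
      refine N.mul_mem ?_ (N.inv_mem n.2)
      simpa using hNn.conj_mem n n.2 w⁻¹
    have hone : w⁻¹ * y ∈ N ⊓ (P : Subgroup G) :=
      ⟨hin, (P : Subgroup G).mul_mem ((P : Subgroup G).inv_mem hwP) y.2⟩
    rw [hc.disjoint.eq_bot, Subgroup.mem_bot, inv_mul_eq_one] at hone
    exact hone

end Cfsg.Agent.S3895
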