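import Cfsg.Statements.S3898
import Cfsg.Agent.FGSA.OddClassCount

set_option autoImplicit false
open Cfsg
open scoped commutatorElement

namespace Cfsg.Agent.S3898

/-- Let π be a finite set of primes containing 2 and G a finite group. Write k_π(G) for the number of conjugacy classes of G consisting of π-elements (elements all of whose order's prime divisors lie in π) and |G|_π for the π-part of the order of G. If k_π(G) > |G|_π/2, then G has a normal π-complement (a normal subgroup of order prime to π whose index is a π-number) and an abelian Hall subgroup for the set of odd primes in π. -/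
theorem result {G : Type*} [Group G] [Finite G] (π : Finset ℕ) (hπ : ∀ r ∈ π, r.Prime) (h2 : 2 ∈ π)
    (hk : π.prod (fun r => r ^ (Nat.card G).factorization r) < 2 * Nat.card {c : ConjClasses G // ∀ x ∈ c.carrier, ∀ r : ℕ, r.Prime → r ∣ orderOf x → r ∈ π}) :
    (∃ N : Subgroup G, N.Normal ∧ (∀ r : ℕ, r.Prime → r ∣ Nat.card ↥N → r ∉ π) ∧ ∀ r : ℕ, r.Prime → r ∣ N.index → r ∈ π) ∧ ∃ H : Subgroup G, Cfsg.IsPiHall ((↑π : Set ℕ) \ {2}) H ∧ IsMulCommutative ↥H := by
  classical
  open CfsgLib.FGSA in
  set τ := π.erase 2 with hτ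
  have hτp : ∀ r ∈ τ, r.Prime := fun r hr => hπ r (Finset.mem_of_mem_erase hr)
  haveI : Fact (Nat.Prime 2) := ⟨Nat.prime_two⟩
  obtain ⟨P⟩ := (inferInstance : Nonempty (Sylow 2 G))
  have hP : Nat.card (P : Subgroup G) = 2 ^ (Nat.card G).factorization 2 := P.card_eq_multiplicity
  rw [← Finset.mul_prod_erase π (fun r => r ^ (Nat.card G).factorization r) h2, ← hτ] at hk
  change 2 ^ (Nat.card G).factorization 2 * _ < 2 * Nat.card (piClasses π G) at hk
  have hins : insert 2 τ = π := Finset.insert_erase h2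
  -- the normal 2-complement
  have hP2 : Nat.card (P : Subgroup G) < 2 * Nat.card (pClasses 2 G) := by
    have h1 := card_piClasses_insert_le (G := G) Nat.prime_two τ (Finset.notMem_erase 2 π)
      hτp (fun H => card_piClasses_le _ hτp H)
    rw [hins] at h1
    rw [hP]
    refine Nat.lt_of_mul_lt_mul_right (a := τ.prod fun r => r ^ (Nat.card G).factorization r) ?_
    calc 2 ^ (Nat.card G).factorization 2 * τ.prod (fun r => r ^ (Nat.card G).factorization r)
        < 2 * Nat.card (piClasses π G) := hk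
      _ ≤ _ := by rw [mul_assoc]; exact Nat.mul_le_mul_left 2 h1
  obtain ⟨K, hKn, hKP⟩ :=
    hasNormalPComplement_exists P (hasNormalTwoComplement_of_card_pClasses P hP2)
  haveI := hKn
  have hKi : K.index = 2 ^ (Nat.card G).factorization 2 := by rw [hKP.symm.index_eq_card, hP]
  have hKodd : ¬ 2 ∣ Nat.card K := by rw [← hKP.index_eq_card]; exact P.not_dvd_index
  have hKodd' : Odd (Nat.card K) := Nat.not_even_iff_odd.1 fun he => hKodd he.two_dvd
  -- many classes of odd π-elements in `K`
  have hKτ : τ.prod (fun r => r ^ (Nat.card K).factorization r) <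
      2 * Nat.card (piClasses τ K) := by
    have h1 := card_piClasses_insert_le' (G := G) Nat.prime_two τ (Finset.notMem_erase 2 π)
    rw [hins] at h1
    have h3 := card_piClasses_le_subgroup τ K (fun r hr hd => by
      rw [hKi] at hd
      exact Finset.ne_of_mem_erase hr
        ((Nat.prime_dvd_prime_iff_eq (hτp r hr) Nat.prime_two).1 ((hτp r hr).dvd_of_dvd_pow hd)))
    have h4 : τ.prod (fun r => r ^ (Nat.card K).factorization r) ≤
        τ.prod (fun r => r ^ (Nat.card G).factorization r) :=
      Finset.prod_le_prod' fun r hr => Nat.pow_le_pow_right (hτp r hr).pos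
        ((Nat.factorization_le_iff_dvd Nat.card_pos.ne' Nat.card_pos.ne').2
          (Subgroup.card_subgroup_dvd_card _) r)
    refine lt_of_le_of_lt h4 (lt_of_lt_of_le ?_ (Nat.mul_le_mul_left 2 h3))
    refine Nat.lt_of_mul_lt_mul_left (a := 2 ^ (Nat.card G).factorization 2) (lt_of_lt_of_le hk ?_)
    calc 2 * Nat.card (piClasses π G)
        ≤ 2 * (Nat.card (piClasses τ G) * 2 ^ (Nat.card G).factorization 2) :=
          Nat.mul_le_mul_left 2 h1
      _ = _ := by ring
  have hr : ∀ r ∈ τ, ∃ N : Subgroup K, N.Normal ∧ ¬ r ∣ Nat.card N ∧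
      N.index = r ^ (Nat.card K).factorization r ∧ commutator K ≤ N := by
    intro r hrτ
    haveI : Fact r.Prime := ⟨hτp r hrτ⟩
    obtain ⟨R⟩ := (inferInstance : Nonempty (Sylow r K))
    have hprime : ∀ s ∈ τ.erase r, s.Prime := fun s hs => hτp s (Finset.mem_of_mem_erase hs)
    have h1 := card_piClasses_insert_le (G := K) (hτp r hrτ) (τ.erase r) (Finset.notMem_erase r τ)
      hprime (fun H => card_piClasses_le _ hprime H)
    rw [Finset.insert_erase hrτ] at h1
    have h5 : Nat.card (R : Subgroup K) < 2 * Nat.card (pClasses r K) := by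
      rw [R.card_eq_multiplicity]
      refine Nat.lt_of_mul_lt_mul_right
        (a := (τ.erase r).prod fun s => s ^ (Nat.card K).factorization s) ?_
      rw [Finset.mul_prod_erase τ (fun s => s ^ (Nat.card K).factorization s) hrτ, mul_assoc]
      exact lt_of_lt_of_le hKτ (Nat.mul_le_mul_left 2 h1)
    have hb := normalizer_le_centralizer_of_odd hKodd' R h5
    have hab := isMulCommutative_of_normalizer_le_centralizer hb
    have hc := MonoidHom.ker_transferSylow_isComplement' R hb
    refine ⟨(MonoidHom.transferSylow R hb).ker, MonoidHom.normal_ker _, ?_, ?_, ?_⟩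
    · rw [← hc.index_eq_card]; exact R.not_dvd_index
    · rw [hc.symm.index_eq_card, R.card_eq_multiplicity]
    · let e := hc.symm.QuotientMulEquiv
      refine (Subgroup.Normal.quotient_commutative_iff_commutator_le).1 ?_
      exact ⟨⟨fun a b => e.injective (by rw [map_mul, map_mul]; exact hab.is_comm.comm _ _)⟩⟩
  obtain ⟨N, hN, hN1, hN2, hN3⟩ := exists_normal_pi_complement (G := K) τ hτp hr
  haveI := hN
  have hcop : Nat.Coprime (Nat.card N) N.index :=
    Nat.coprime_of_dvd fun s hs h1 h3 => hN1 s (hN3 s hs h3) h1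
  haveI : N.Characteristic := Subgroup.characteristic_iff_map_le.2 fun φ => by
    rintro _ ⟨x, hx, rfl⟩
    rw [← QuotientGroup.eq_one_iff, ← orderOf_eq_one_iff]
    refine Nat.eq_one_of_dvd_coprimes hcop ?_ ?_
    · refine (orderOf_map_dvd (QuotientGroup.mk' N) (φ x)).trans ?_
      rw [MulEquiv.orderOf_eq, ← Subgroup.orderOf_mk x hx]
      exact _root_.orderOf_dvd_natCard _
    · rw [Subgroup.index_eq_card]; exact _root_.orderOf_dvd_natCard _
  have hN2' : ∀ r : ℕ, r.Prime → r ∣ Nat.card (N.map K.subtype) → r ∉ π := fun r _ hd hm => by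
    rw [Subgroup.card_map_of_injective K.subtype_injective] at hd
    rcases eq_or_ne r 2 with rfl | hne
    · exact hKodd (hd.trans (Subgroup.card_subgroup_dvd_card N))
    · exact hN1 r (Finset.mem_erase.2 ⟨hne, hm⟩) hd
  refine ⟨⟨N.map K.subtype, ConjAct.normal_of_characteristic_of_normal, hN2', fun s hs hd => ?_⟩, ?_⟩
  · rw [Subgroup.index_map_subtype] at hd
    rcases hs.dvd_mul.1 hd with hd | hd
    · exact Finset.mem_of_mem_erase (hN3 s hs hd)
    · rw [hKi] at hd
      rw [(Nat.prime_dvd_prime_iff_eq hs Nat.prime_two).1 (hs.dvd_of_dvd_pow hd)]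
      exact h2
  obtain ⟨H, hH⟩ := Subgroup.exists_right_complement'_of_coprime hcop
  refine ⟨H.map K.subtype, ⟨fun s hs hd => ?_, fun s hs hm hd => ?_⟩, ⟨⟨fun a b => ?_⟩⟩⟩
  · rw [Subgroup.card_map_of_injective K.subtype_injective, ← hH.symm.index_eq_card] at hd
    have h6 := Finset.mem_erase.1 (hN3 s hs hd)
    exact ⟨Finset.mem_coe.2 h6.2, h6.1⟩
  · rw [Subgroup.index_map_subtype, hH.index_eq_card] at hd
    rcases hs.dvd_mul.1 hd with hd | hd
    · exact hN1 s (Finset.mem_erase.2 ⟨hm.2, Finset.mem_coe.1 hm.1⟩) hd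
    · rw [hKi] at hd
      exact hm.2 ((Nat.prime_dvd_prime_iff_eq hs Nat.prime_two).1 (hs.dvd_of_dvd_pow hd))
  · obtain ⟨_, a, ha, rfl⟩ := a
    obtain ⟨_, b, hb, rfl⟩ := b
    apply Subtype.ext
    have hmem : ⁅a, b⁆ ∈ N ⊓ H :=
      ⟨hN2 (Subgroup.commutator_mem_commutator (Subgroup.mem_top _) (Subgroup.mem_top _)),
        H.mul_mem (H.mul_mem (H.mul_mem ha hb) (H.inv_mem ha)) (H.inv_mem hb)⟩
    rw [hH.disjoint.eq_bot, Subgroup.mem_bot, commutatorElement_eq_one_iff_mul_comm] at hmem
    exact congrArg K.subtype hmem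

end Cfsg.Agent.S3898
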