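import Cfsg.Statements.S3899
import Cfsg.Agent.FGSA.ClassCount

set_option autoImplicit false
open Cfsg
open scoped commutatorElement

namespace Cfsg.Agent.S3899

/-- Let π be a finite non-empty set of odd primes with smallest member p and G a finite group. Write k_π(G) for the number of conjugacy classes of G consisting of π-elements (elements all of whose order's prime divisors lie in π) and |G|_π for the π-part of the order of G. If k_π(G) > (p + 1)|G|_π/(2p), then G has a normal π-complement (a normal subgroup of order prime to π whose index is a π-number) and an abelian Hall π-subgroup. -/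
theorem result {G : Type*} [Group G] [Finite G] (π : Finset ℕ) (hπ : ∀ r ∈ π, r.Prime) (h2 : 2 ∉ π) (p : ℕ) (hp : p ∈ π)
    (hmin : ∀ r ∈ π, p ≤ r) (hk : (p + 1) * π.prod (fun r => r ^ (Nat.card G).factorization r) < 2 * p * Nat.card {c : ConjClasses G // ∀ x ∈ c.carrier, ∀ r : ℕ, r.Prime → r ∣ orderOf x → r ∈ π}) :
    (∃ N : Subgroup G, N.Normal ∧ (∀ r : ℕ, r.Prime → r ∣ Nat.card ↥N → r ∉ π) ∧ ∀ r : ℕ, r.Prime → r ∣ N.index → r ∈ π) ∧ ∃ H : Subgroup G, Cfsg.IsPiHall (↑π : Set ℕ) H ∧ IsMulCommutative ↥H := by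
  classical
  open CfsgLib.FGSA in
  have hr : ∀ r ∈ π, ∃ N : Subgroup G, N.Normal ∧ ¬ r ∣ Nat.card N ∧
      N.index = r ^ (Nat.card G).factorization r ∧ commutator G ≤ N := by
    intro r hrπ
    haveI : Fact r.Prime := ⟨hπ r hrπ⟩
    obtain ⟨P⟩ := (inferInstance : Nonempty (Sylow r G))
    have hprime : ∀ s ∈ π.erase r, s.Prime := fun s hs => hπ s (Finset.mem_of_mem_erase hs)
    have h1 := card_piClasses_insert_le (G := G) (hπ r hrπ) (π.erase r) (Finset.notMem_erase r π)
      hprime (fun H => card_piClasses_le _ hprime H)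
    rw [Finset.insert_erase hrπ] at h1
    have h2 : (r + 1) * Nat.card (P : Subgroup G) < 2 * r * Nat.card (pClasses r G) := by
      have hk' : (p + 1) * (r ^ (Nat.card G).factorization r *
          (π.erase r).prod (fun s => s ^ (Nat.card G).factorization s)) <
          2 * p * (Nat.card (pClasses r G) *
            (π.erase r).prod (fun s => s ^ (Nat.card G).factorization s)) := by
        refine lt_of_lt_of_le ?_ (Nat.mul_le_mul_left _ h1)
        rw [Finset.mul_prod_erase π (fun s => s ^ (Nat.card G).factorization s) hrπ]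
        exact hk
      rw [← P.card_eq_multiplicity, ← mul_assoc, ← mul_assoc] at hk'
      have h3 := Nat.lt_of_mul_lt_mul_right hk'
      have hpr := hmin r hrπ
      have hp1 : 0 < p := (hπ p hp).pos
      by_contra hcon
      push Not at hcon
      have h4 : (r + 1) * p ≤ (p + 1) * r := by ring_nf; omega
      have h5 : r * ((p + 1) * Nat.card ↥(P : Subgroup G)) <
          r * ((p + 1) * Nat.card ↥(P : Subgroup G)) := by
        calc r * ((p + 1) * Nat.card ↥(P : Subgroup G))
            < r * (2 * p * Nat.card (pClasses r G)) :=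
              Nat.mul_lt_mul_of_pos_left h3 (hπ r hrπ).pos
          _ = p * (2 * r * Nat.card (pClasses r G)) := by ring
          _ ≤ p * ((r + 1) * Nat.card ↥(P : Subgroup G)) := Nat.mul_le_mul_left _ hcon
          _ ≤ r * ((p + 1) * Nat.card ↥(P : Subgroup G)) := by
              rw [← mul_assoc, ← mul_assoc]
              exact Nat.mul_le_mul_right _ (by rw [mul_comm p, mul_comm r]; exact h4)
      exact lt_irrefl _ h5
    obtain ⟨hN, hab⟩ := hasNormalPComplement_of_card_pClasses P h2
    obtain ⟨N, hNn, hc⟩ := hasNormalPComplement_exists P hN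
    haveI := hNn
    refine ⟨N, hNn, ?_, ?_, ?_⟩
    · rw [← hc.index_eq_card]; exact P.not_dvd_index
    · rw [hc.symm.index_eq_card, P.card_eq_multiplicity]
    · haveI := hab
      let e := hc.symm.QuotientMulEquiv
      refine (Subgroup.Normal.quotient_commutative_iff_commutator_le).1 ?_
      exact ⟨⟨fun a b => e.injective (by rw [map_mul, map_mul]; exact hab.is_comm.comm _ _)⟩⟩
  have hall : ∀ τ : Finset ℕ, τ ⊆ π → ∃ N : Subgroup G, N.Normal ∧
      (∀ r ∈ τ, ¬ r ∣ Nat.card N) ∧ commutator G ≤ N ∧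
      ∀ s : ℕ, s.Prime → s ∣ N.index → s ∈ τ := by
    intro τ
    induction τ using Finset.induction_on with
    | empty =>
      intro _
      exact ⟨⊤, inferInstance, by simp, le_top, fun s hs hd => by
        rw [Subgroup.index_top] at hd; exact absurd (Nat.dvd_one.1 hd) hs.ne_one⟩
    | insert r τ hrτ ih =>
      intro hsub
      obtain ⟨A, hA, hA1, hA2, hA3⟩ := ih ((Finset.subset_insert r τ).trans hsub)
      obtain ⟨B, hB, hB1, hB2, hB3⟩ := hr r (hsub (Finset.mem_insert_self r τ))
      haveI := hA; haveI := hB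
      refine ⟨A ⊓ B, inferInstance, ?_, le_inf hA2 hB3, ?_⟩
      · intro s hs hd
        rcases Finset.mem_insert.1 hs with rfl | hs
        · exact hB1 (hd.trans (Subgroup.card_dvd_of_le inf_le_right))
        · exact hA1 s hs (hd.trans (Subgroup.card_dvd_of_le inf_le_left))
      · intro s hs hd
        rw [← Subgroup.relIndex_mul_index (inf_le_left : A ⊓ B ≤ A),
          Subgroup.inf_relIndex_left] at hd
        rcases hs.dvd_mul.1 hd with hd | hd
        · have h6 := hd.trans (Subgroup.relIndex_dvd_index_of_normal B A)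
          rw [hB2] at h6
          rw [(Nat.prime_dvd_prime_iff_eq hs (hπ r (hsub (Finset.mem_insert_self r τ)))).1
            (hs.dvd_of_dvd_pow h6)]
          exact Finset.mem_insert_self r τ
        · exact Finset.mem_insert_of_mem (hA3 s hs hd)
  obtain ⟨N, hN, hN1, hN2, hN3⟩ := hall π subset_rfl
  haveI := hN
  have hN1' : ∀ r : ℕ, r.Prime → r ∣ Nat.card ↥N → r ∉ π := fun r _ hd hm => hN1 r hm hd
  refine ⟨⟨N, hN, hN1', hN3⟩, ?_⟩
  have hcop : Nat.Coprime (Nat.card N) N.index :=
    Nat.coprime_of_dvd fun s hs h1 h2 => hN1' s hs h1 (hN3 s hs h2)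
  obtain ⟨H, hH⟩ := Subgroup.exists_right_complement'_of_coprime hcop
  refine ⟨H, ⟨fun s hs hd => ?_, fun s hs hm hd => ?_⟩, ⟨⟨fun a b => ?_⟩⟩⟩
  · exact Finset.mem_coe.2 (hN3 s hs (by rw [hH.symm.index_eq_card]; exact hd))
  · rw [hH.index_eq_card] at hd
    exact hN1' s hs hd (Finset.mem_coe.1 hm)
  · apply Subtype.ext
    have hmem : ⁅(a : G), (b : G)⁆ ∈ N ⊓ H :=
      ⟨hN2 (Subgroup.commutator_mem_commutator (Subgroup.mem_top _) (Subgroup.mem_top _)),
        H.mul_mem (H.mul_mem (H.mul_mem a.2 b.2) (H.inv_mem a.2)) (H.inv_mem b.2)⟩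
    rw [hH.disjoint.eq_bot, Subgroup.mem_bot, commutatorElement_eq_one_iff_mul_comm] at hmem
    exact hmem

end Cfsg.Agent.S3899
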