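import Cfsg.Statements.S3903
import Cfsg.Agent.FGSA.Basic

set_option autoImplicit false
open Cfsg

namespace Cfsg.Agent.S3903

open CfsgLib.FGSA
open scoped Pointwise


/-- Let N be a proper normal subgroup of the finite group G such that every element x of G outside N has prime power order and has centralizer C_G(x) a maximal subgroup of G. Then N is solvable. -/
theorem result {G : Type*} [Group G] [Finite G] (N : Subgroup G) [N.Normal] (hN : N ≠ ⊤)
    (h : ∀ x : G, x ∉ N → IsPrimePow (orderOf x) ∧ IsCoatom (Subgroup.centralizer ({x} : Set G))) : Group.IsSolvable ↥N := by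
  classical
  obtain ⟨x₀, hx₀⟩ : ∃ x, x ∉ N := by
    by_contra hc
    push Not at hc
    exact hN (eq_top_iff.2 fun x _ => hc x)
  obtain ⟨p, a, hp, ha, hxo⟩ := (isPrimePow_nat_iff _).1 (h x₀ hx₀).1
  haveI : Fact p.Prime := ⟨hp⟩
  -- centralizers of elements outside `N` of `p`-power order are `p`-groups
  have hCp : ∀ (r : ℕ) (x : G), r.Prime → x ∉ N → (∃ b, 0 < b ∧ orderOf x = r ^ b) →
      IsPGroup r (Subgroup.centralizer ({x} : Set G)) := by
    intro r x hr hx ⟨b, hb, hxb⟩
    apply isPGroup_of_prime_orderOf_eq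
    intro y hy
    by_contra hne
    have hcom : Commute x (y : G) := (Subgroup.mem_centralizer_iff.1 y.2 x rfl)
    have hord : orderOf (y : G) = orderOf y := Subgroup.orderOf_coe y
    have hcop : (orderOf x).Coprime (orderOf (y : G)) := by
      rw [hxb, hord]
      exact Nat.Coprime.pow_left _ ((Nat.coprime_primes hr hy).2 (Ne.symm hne))
    have hmul := hcom.orderOf_mul_eq_mul_orderOf_of_coprime hcop
    by_cases hxy : x * (y : G) ∈ N
    · apply hx
      have h1 : (x * (y : G)) ^ orderOf (y : G) = x ^ orderOf (y : G) := by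
        rw [hcom.mul_pow, pow_orderOf_eq_one, mul_one]
      have h2 : x ^ orderOf (y : G) ∈ N := h1 ▸ N.pow_mem hxy _
      obtain ⟨m, hm⟩ := exists_pow_eq_self_of_coprime hcop.symm
      rw [← hm]
      exact N.pow_mem h2 _
    · obtain ⟨s, c, hs, hc, hsc⟩ := (isPrimePow_nat_iff _).1 (h _ hxy).1
      rw [hmul, hxb, hord] at hsc
      have e1 : r ∣ s ^ c := hsc ▸ Dvd.dvd.mul_right (dvd_pow_self r hb.ne') _
      have e2 : orderOf y ∣ s ^ c := hsc ▸ Dvd.intro_left _ rfl
      rw [(Nat.prime_dvd_prime_iff_eq hr hs).1 (hr.dvd_of_dvd_pow e1),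
        (Nat.prime_dvd_prime_iff_eq hy hs).1 (hy.dvd_of_dvd_pow e2)] at hne
      exact hne rfl
  have hPp : IsPGroup p (Subgroup.centralizer ({x₀} : Set G)) :=
    hCp p x₀ hp hx₀ ⟨a, ha, hxo.symm⟩
  by_cases hGp : IsPGroup p G
  · haveI := isSolvable_of_isPGroup hGp
    infer_instance
  obtain ⟨S, hS⟩ := hPp.exists_le_sylow
  have hSco : IsCoatom (S : Subgroup G) := by
    rcases eq_or_lt_of_le hS with he | hlt
    · exact he ▸ (h x₀ hx₀).2
    · exfalso
      apply hGp
      have := (h x₀ hx₀).2.2 _ hlt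
      have hS2 : IsPGroup p (S : Subgroup G) := S.isPGroup'
      rw [this] at hS2
      exact hS2.of_equiv Subgroup.topEquiv
  by_cases hNS : N ≤ (S : Subgroup G)
  · exact isSolvable_of_isPGroup (S.isPGroup'.to_le hNS)
  have hsup : (S : Subgroup G) ⊔ N = ⊤ := hSco.2 _ (left_lt_sup.2 hNS)
  -- every element outside `N` is a `p`-element
  have hout : ∀ x, x ∉ N → ∃ b, 0 < b ∧ orderOf x = p ^ b := by
    intro x hx
    obtain ⟨r, b, hr, hb, hxb⟩ := (isPrimePow_nat_iff _).1 (h x hx).1
    have hmem : x ∈ (S : Subgroup G) ⊔ N := hsup ▸ Subgroup.mem_top x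
    obtain ⟨s, hs, n, hn, rfl⟩ := Subgroup.mem_sup_of_normal_right.1 hmem
    obtain ⟨k, hk⟩ := S.isPGroup' ⟨s, hs⟩
    have hk' : s ^ p ^ k = 1 := by simpa using congrArg Subtype.val hk
    have hq : ((s * n : G) : G ⧸ N) = (s : G ⧸ N) := by
      rw [QuotientGroup.mk_mul, (QuotientGroup.eq_one_iff n).2 hn, mul_one]
    have hd1 : orderOf ((s * n : G) : G ⧸ N) ∣ p ^ k := by
      rw [hq]
      exact orderOf_dvd_of_pow_eq_one (by rw [← QuotientGroup.mk_pow, hk', QuotientGroup.mk_one])
    have hd2 : orderOf ((s * n : G) : G ⧸ N) ∣ r ^ b :=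
      hxb ▸ orderOf_map_dvd (QuotientGroup.mk' N) _
    refine ⟨b, hb, ?_⟩
    suffices r = p by rw [← hxb, this]
    by_contra hne
    apply hx
    rw [← QuotientGroup.eq_one_iff (N := N), ← orderOf_eq_one_iff]
    exact Nat.eq_one_of_dvd_coprimes (((Nat.coprime_primes hr hp).2 hne).pow b k) hd2 hd1
  -- normalizers of `p`-subgroups not inside `N` are `p`-groups
  have hNR : ∀ R : Subgroup G, IsPGroup p R → ¬ R ≤ N →
      IsPGroup p (Subgroup.normalizer (R : Set G)) := by
    intro R hR hRN
    apply isPGroup_of_prime_orderOf_eq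
    intro v hv
    by_contra hne
    have hord : orderOf (v : G) = orderOf v := Subgroup.orderOf_coe v
    have hvN : (v : G) ∈ N := by
      by_contra hvN
      obtain ⟨b, hb, hvb⟩ := hout _ hvN
      rw [hord] at hvb
      exact hne ((Nat.prime_dvd_prime_iff_eq hp hv).1 (hvb ▸ dvd_pow_self p hb.ne')).symm
    obtain ⟨x, hxR, hxN⟩ := SetLike.not_le_iff_exists.1 hRN
    -- the group generated by `v` acts on the coset of `x` modulo `R ⊓ N` inside `R`
    let T : Set G := {y | y ∈ R ∧ x⁻¹ * y ∈ N}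
    haveI : Fact (orderOf v).Prime := ⟨hv⟩
    have hC : IsPGroup (orderOf v) (Subgroup.zpowers (v : G)) :=
      IsPGroup.of_card (n := 1) (by rw [Nat.card_zpowers, hord, pow_one])
    have hzN : Subgroup.zpowers (v : G) ≤ N := Subgroup.zpowers_le.2 hvN
    have hzR : Subgroup.zpowers (v : G) ≤ Subgroup.normalizer (R : Set G) :=
      Subgroup.zpowers_le.2 v.2
    letI : MulAction (Subgroup.zpowers (v : G)) T :=
      { smul := fun g y => ⟨g.1 * y.1 * g.1⁻¹,
          (Subgroup.mem_normalizer_iff.1 (hzR g.2) y.1).1 y.2.1, by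
            rw [← QuotientGroup.eq]
            have h1 := QuotientGroup.eq.2 y.2.2
            rw [QuotientGroup.mk_mul, QuotientGroup.mk_mul, QuotientGroup.mk_inv,
              (QuotientGroup.eq_one_iff g.1).2 (hzN g.2), one_mul, inv_one, mul_one]
            exact h1⟩
        one_smul := fun y => by
          apply Subtype.ext
          show (1 : G) * y.1 * (1 : G)⁻¹ = y.1
          group
        mul_smul := fun g g' y => by
          apply Subtype.ext
          show (g.1 * g'.1) * y.1 * (g.1 * g'.1)⁻¹ = g.1 * (g'.1 * y.1 * g'.1⁻¹) * g.1⁻¹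
          group }
    have hT : Nat.card T = Nat.card (R ⊓ N : Subgroup G) := by
      refine Nat.card_congr
        { toFun := fun y => ⟨x⁻¹ * y.1, R.mul_mem (R.inv_mem hxR) y.2.1, y.2.2⟩
          invFun := fun z => ⟨x * z.1, R.mul_mem hxR z.2.1, by simpa using z.2.2⟩
          left_inv := fun y => by simp
          right_inv := fun z => by simp }
    have hnd : ¬ orderOf v ∣ Nat.card T := by
      rw [hT]
      obtain ⟨k, hk⟩ := IsPGroup.iff_card.1 (hR.to_le (inf_le_left (b := N)))
      rw [hk]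
      exact fun hd => hne ((Nat.prime_dvd_prime_iff_eq hv hp).1 (hv.dvd_of_dvd_pow hd))
    obtain ⟨y, hy⟩ := hC.nonempty_fixed_point_of_prime_not_dvd_card T hnd
    have hyN : (y : G) ∉ N := fun hyN => hxN (by
      have := N.mul_mem hyN (N.inv_mem y.2.2)
      simpa [mul_assoc] using this)
    obtain ⟨b, hb, hyb⟩ := hout _ hyN
    have hfix : (v : G) * y.1 * (v : G)⁻¹ = y.1 :=
      congrArg Subtype.val (hy ⟨v, Subgroup.mem_zpowers _⟩)
    have hvC : (v : G) ∈ Subgroup.centralizer ({y.1} : Set G) := by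
      rw [Subgroup.mem_centralizer_iff]
      intro z hz
      rw [Set.mem_singleton_iff] at hz
      subst hz
      exact (mul_inv_eq_iff_eq_mul.1 hfix).symm
    obtain ⟨k, hk⟩ := IsPGroup.iff_orderOf.1 (hCp p _ hp hyN ⟨b, hb, hyb⟩) ⟨v, hvC⟩
    have hk' : orderOf v = p ^ k := by
      rw [← hord, ← hk]
      exact Subgroup.orderOf_coe (⟨(v : G), hvC⟩ : Subgroup.centralizer ({y.1} : Set G))
    exact hne ((Nat.prime_dvd_prime_iff_eq hv hp).1 (hv.dvd_of_dvd_pow (dvd_of_eq hk')))
  -- distinct Sylow subgroups meet inside `N`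
  have hinter : ∀ Q : Sylow p G, Q ≠ S → ((S : Subgroup G) ⊓ Q) ≤ N := by
    by_contra hc
    push Not at hc
    let F : Finset ℕ := Finset.range (Nat.card G + 1)
    let P : ℕ → Prop := fun n => ∃ Q : Sylow p G, Q ≠ S ∧ ¬ ((S : Subgroup G) ⊓ Q) ≤ N ∧
      Nat.card ((S : Subgroup G) ⊓ Q : Subgroup G) = n
    obtain ⟨Q₀, hQ₀, hQ₀N⟩ := hc
    have hle : ∀ Q : Sylow p G, Nat.card ((S : Subgroup G) ⊓ Q : Subgroup G) ≤ Nat.card G :=
      fun Q => Subgroup.card_le_card_group _
    have hPn : P (Nat.findGreatest P (Nat.card G)) :=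
      Nat.findGreatest_spec (hle Q₀) ⟨Q₀, hQ₀, hQ₀N, rfl⟩
    obtain ⟨Q, hQ, hQN, hcard⟩ := hPn
    have hmax : ∀ Q' : Sylow p G, Q' ≠ S → ¬ ((S : Subgroup G) ⊓ Q') ≤ N →
        ¬ ((S : Subgroup G) ⊓ Q) < (S : Subgroup G) ⊓ Q' := by
      intro Q' h1 h2 hlt
      have h3 : Nat.card ((S : Subgroup G) ⊓ Q' : Subgroup G) ≤
          Nat.findGreatest P (Nat.card G) :=
        Nat.le_findGreatest (hle Q') ⟨Q', h1, h2, rfl⟩
      rw [← hcard] at h3
      exact hlt.ne (Subgroup.eq_of_le_of_card_ge hlt.le h3)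
    set R : Subgroup G := (S : Subgroup G) ⊓ Q with hR
    have hRS : R < (S : Subgroup G) := lt_of_le_of_ne inf_le_left fun he =>
      hQ (Sylow.ext (le_antisymm (S.is_maximal' Q.isPGroup' (inf_eq_left.1 he)).le
        (inf_eq_left.1 he)))
    have hRQ : R < (Q : Subgroup G) := lt_of_le_of_ne inf_le_right fun he =>
      hQ (Sylow.ext (Q.is_maximal' S.isPGroup' (inf_eq_right.1 he)).symm)
    obtain ⟨T, hT⟩ := (hNR R (S.isPGroup'.to_le hRS.le) hQN).exists_le_sylow
    have h1 : R < (S : Subgroup G) ⊓ T :=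
      (lt_inf_normalizer_of_isPGroup S.isPGroup' hRS).trans_le (inf_le_inf_left _ hT)
    by_cases hTS : T = S
    · subst hTS
      have h2 : R < (Q : Subgroup G) ⊓ T :=
        (lt_inf_normalizer_of_isPGroup Q.isPGroup' hRQ).trans_le (inf_le_inf_left _ hT)
      rw [inf_comm] at h2
      exact lt_irrefl _ h2
    · exact hmax T hTS (fun hle' => hQN (h1.le.trans hle')) h1
  -- hence elements of `S` outside `N` are central in `S`
  have hcent : ∀ x ∈ (S : Subgroup G), x ∉ N →
      (S : Subgroup G) ≤ Subgroup.centralizer ({x} : Set G) := by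
    intro x hxS hxN
    obtain ⟨b, hb, hxb⟩ := hout x hxN
    obtain ⟨Q, hQ⟩ := (hCp p x hp hxN ⟨b, hb, hxb⟩).exists_le_sylow
    have hxQ : x ∈ (Q : Subgroup G) := hQ (by
      rw [Subgroup.mem_centralizer_iff]; intro z hz; rw [Set.mem_singleton_iff] at hz; rw [hz])
    have hQS : Q = S := by
      by_contra hQS
      exact hxN (hinter Q hQS ⟨hxS, hxQ⟩)
    subst hQS
    rcases eq_or_lt_of_le hQ with he | hlt
    · exact he.ge
    · exact absurd ((h x hxN).2.2 _ hlt) hSco.1
  obtain ⟨s, hsS, hsN⟩ : ∃ s ∈ (S : Subgroup G), s ∉ N := by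
    by_contra hc
    push Not at hc
    rw [sup_eq_right.2 hc] at hsup
    exact hN hsup
  have hab : ∀ u ∈ (S : Subgroup G), ∀ w ∈ (S : Subgroup G), u * w = w * u := by
    intro u hu w hw
    by_cases huN : u ∈ N
    · have hsu : s * u ∉ N := fun hm => hsN (by simpa using N.mul_mem hm (N.inv_mem huN))
      have h1 := Subgroup.mem_centralizer_iff.1 (hcent s hsS hsN hw) s rfl
      have h2 := Subgroup.mem_centralizer_iff.1 (hcent _ (mul_mem hsS hu) hsu hw) _ rfl
      have : s * (u * w) = s * (w * u) := by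
        rw [← mul_assoc, h2, ← mul_assoc, ← h1, mul_assoc]
      exact mul_left_cancel this
    · exact Subgroup.mem_centralizer_iff.1 (hcent u hu huN hw) u rfl
  by_cases hnorm : (S : Subgroup G).Normal
  · haveI := hnorm
    haveI := isSolvable_of_isPGroup S.isPGroup'
    haveI := isSolvable_quotient_of_normal_isCoatom hSco
    haveI : Group.IsSolvable G := (Group.isSolvable_iff_subgroup_quotient (S : Subgroup G)).2
      ⟨inferInstance, inferInstance⟩
    infer_instance
  have hnS : Subgroup.normalizer ((S : Subgroup G) : Set G) = S :=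
    (hSco.le_iff.1 Subgroup.le_normalizer).resolve_left fun he =>
      hnorm (Subgroup.normalizer_eq_top_iff.1 he)
  have hb : Subgroup.normalizer (S : Set G) ≤ Subgroup.centralizer ((S : Subgroup G) : Set G) := by
    intro u hu
    rw [Subgroup.mem_centralizer_iff]
    intro w hw
    exact hab w hw u (hnS ▸ hu)
  set K := (MonoidHom.transferSylow S hb).ker with hK
  have hKc : Subgroup.IsComplement' K (S : Subgroup G) :=
    MonoidHom.ker_transferSylow_isComplement' S hb
  haveI : K.Normal := MonoidHom.normal_ker _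
  haveI := isSolvable_of_isPGroup S.isPGroup'
  suffices hKs : Group.IsSolvable K by
    haveI := hKs
    haveI : Group.IsSolvable (G ⧸ K) :=
      Group.isSolvable_of_isSolvable_injective
        (f := (QuotientGroup.quotientKerEquivRange (MonoidHom.transferSylow S hb)).toMonoidHom)
        (MulEquiv.injective _)
    haveI : Group.IsSolvable G := (Group.isSolvable_iff_subgroup_quotient K).2
      ⟨inferInstance, inferInstance⟩
    infer_instance
  by_cases hK1 : Nat.card K = 1
  · haveI := (Nat.card_eq_one_iff_unique.1 hK1).1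
    infer_instance
  obtain ⟨r, hr, hrK⟩ := Nat.exists_prime_and_dvd hK1
  haveI : Fact r.Prime := ⟨hr⟩
  have R : Sylow r K := Classical.choice inferInstance
  set R' : Subgroup G := (R : Subgroup K).map K.subtype with hR'
  have hfr : Subgroup.normalizer (R' : Set G) ⊔ K = ⊤ := Sylow.normalizer_sup_eq_top R
  -- `p` does not divide the index of the normalizer
  have hidx : ¬ p ∣ (Subgroup.normalizer (R' : Set G)).index := by
    set L := Subgroup.normalizer (R' : Set G) with hL
    have e1 : K.index = K.relIndex L := by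
      rw [← Subgroup.relIndex_top_right, ← hfr, Subgroup.relIndex_sup_right]
    have e2 : Nat.card (K ⊓ L : Subgroup G) * K.relIndex L = Nat.card L := by
      rw [← Subgroup.inf_relIndex_right, Subgroup.relIndex,
        ← Nat.card_congr (Subgroup.subgroupOfEquivOfLe (inf_le_right : K ⊓ L ≤ L)).toEquiv]
      exact Subgroup.card_mul_index _
    have e3 : L.index * Nat.card (K ⊓ L : Subgroup G) = Nat.card K := by
      have h4 := L.card_mul_index
      rw [← K.card_mul_index, ← e2, ← e1] at h4
      have hpos : 0 < K.index := Nat.pos_of_ne_zero Subgroup.index_ne_zero_of_finite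
      apply Nat.eq_of_mul_eq_mul_right hpos
      rw [← h4]; ring
    intro hd
    have : p ∣ Nat.card K := e3 ▸ dvd_mul_of_dvd_left hd _
    rw [← hKc.index_eq_card] at this
    exact S.not_dvd_index this
  obtain ⟨Q, hQ⟩ : ∃ Q : Sylow p G, (Q : Subgroup G) ≤ Subgroup.normalizer (R' : Set G) := by
    obtain ⟨P₁⟩ := (inferInstance : Nonempty (Sylow p (Subgroup.normalizer (R' : Set G))))
    have hp1 : IsPGroup p ((P₁ : Subgroup _).map (Subgroup.normalizer (R' : Set G)).subtype) :=
      P₁.isPGroup'.map _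
    have hni : ¬ p ∣ ((P₁ : Subgroup _).map (Subgroup.normalizer (R' : Set G)).subtype).index := by
      rw [Subgroup.index_map_subtype]
      exact fun hd => (hp.dvd_mul.1 hd).elim P₁.not_dvd_index hidx
    exact ⟨hp1.toSylow hni, Subgroup.map_subtype_le _⟩
  obtain ⟨g, hg⟩ := MulAction.exists_smul_eq G Q S
  set R'' : Subgroup G := R'.map (MulAut.conj g).toMonoidHom with hR''
  have hnorm'' : (S : Subgroup G) ≤ Subgroup.normalizer (R'' : Set G) := by
    rw [← hg]
    intro u hu
    have hu' : g⁻¹ * u * g ∈ (Q : Subgroup G) := by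
      rw [Sylow.coe_subgroup_smul, Subgroup.mem_pointwise_smul_iff_inv_smul_mem] at hu
      simpa [MulAut.smul_def, MulAut.conj_symm_apply] using hu
    have h3 := Subgroup.le_normalizer_map (MulAut.conj g).toMonoidHom
      (H := R') (Subgroup.mem_map_of_mem _ (hQ hu'))
    simpa [hR'', MulAut.conj_apply, mul_assoc] using h3
  have hR'K : R'' ≤ K := by
    rintro _ ⟨y, hy, rfl⟩
    exact Subgroup.Normal.conj_mem inferInstance y (Subgroup.map_subtype_le _ hy) g
  have hR''1 : R'' ≠ ⊥ := by
    intro he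
    rw [hR'', Subgroup.map_eq_bot_iff_of_injective _ (MulEquiv.injective _),
      hR', Subgroup.map_eq_bot_iff_of_injective _ (K.subtype_injective)] at he
    exact R.ne_bot_of_dvd_card hrK he
  have htop : (S : Subgroup G) ⊔ R'' = ⊤ := by
    refine hSco.2 _ (left_lt_sup.2 fun hle => hR''1 ?_)
    rw [eq_bot_iff, ← (Subgroup.IsComplement'.disjoint hKc).eq_bot]
    exact le_inf hR'K hle
  have hKR : K ≤ R'' := by
    intro k hk
    have hmem : k ∈ ((S : Subgroup G) : Set G) * (R'' : Set G) := by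
      rw [← Subgroup.coe_mul_of_left_le_normalizer_right _ _ hnorm'', htop]
      trivial
    obtain ⟨u, hu, w, hw, rfl⟩ := hmem
    have : u ∈ K ⊓ (S : Subgroup G) := ⟨by simpa using K.mul_mem hk (K.inv_mem (hR'K hw)), hu⟩
    rw [(Subgroup.IsComplement'.disjoint hKc).eq_bot, Subgroup.mem_bot] at this
    simpa [this] using hw
  exact isSolvable_of_isPGroup ((((R.isPGroup').map _).map _).to_le hKR)

end Cfsg.Agent.S3903
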