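import Cfsg.Statements.S3906
import Cfsg.Agent.CentClass.Families

set_option autoImplicit false
set_option linter.style.haveILetI false
open Cfsg

namespace Cfsg.Agent.S3906

/-- Let p be a prime and let k ≥ 3, c ≥ 0 and d ≥ 0 be integers with 2^d + 2 ≤ k. There is a bound B depending only on p, k, c and d such that the following holds for every finite group G of order prime to p and every elementary abelian subgroup A of order p^k of the automorphism group of G: if, for every non-identity a ∈ A, the d-th derived subgroup of the fixed-point subgroup C_G(a) (the 0-th derived subgroup of a group being the group itself) is nilpotent of class at most c, then the d-th derived subgroup of G is nilpotent of class at most B. -/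
theorem result (p k c d : ℕ) (hp : p.Prime) (hk : 3 ≤ k) (hd : 2 ^ d + 2 ≤ k) :
    ∃ B : ℕ, ∀ (G : Type) [Group G] [Finite G], (Nat.card G).Coprime p →
      ∀ A : Subgroup (MulAut G), Cfsg.IsElementaryAbelian p A → Nat.card ↥A = p ^ k →
        (∀ a ∈ A, a ≠ 1 → (derivedSeries ↥((a : MulAut G).toMonoidHom.eqLocus (MonoidHom.id G)) d).lowerCentralSeries c = ⊥) →
        (derivedSeries G d).lowerCentralSeries B = ⊥ := by
  haveI := Fact.mk hp
  refine ⟨CfsgLib.CentClass.classBound p (p ^ k) c, fun G _ _ hcop A hA hcard hC => ?_⟩
  letI : CommGroup A := { (inferInstance : Group A) with mul_comm := hA.1.is_comm.comm }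
  have h : CfsgLib.CentClass.Hyp (G := G) (A := A) p :=
    ⟨hp, fun a => Subtype.ext (by simpa using hA.2 a a.2), hcop⟩
  have hres := CfsgLib.CentClass.derived_class (c := c) h A.subtype hk hd hcard fun a ha => by
    have h0 : (derivedSeries (CfsgLib.CentClass.fx A.subtype a) d).lowerCentralSeries c = ⊥ :=
      hC (a : MulAut G) a.2 fun he => ha (Subtype.ext he)
    have h1 := congrArg (Subgroup.map (CfsgLib.CentClass.fx A.subtype a).subtype) h0
    rw [Subgroup.map_lowerCentralSeries, ← CfsgLib.CentClass.dcom_top, CfsgLib.CentClass.dcom_map,
      ← MonoidHom.range_eq_map, Subgroup.range_subtype, Subgroup.map_bot] at h1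
    exact h1
  rwa [hcard] at hres

end Cfsg.Agent.S3906
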