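import Cfsg.Statements.S3908
import Cfsg.Agent.InvChar.UniqueInvolution
import Cfsg.Agent.Solvable.Basics

set_option autoImplicit false
open Cfsg

namespace Cfsg.Agent.S3908

/-- Let G be a finite group in which any two abelian subgroups of the same order are conjugate. Then a Sylow 2-subgroup of G is cyclic, elementary abelian or generalized quaternion, and for an odd prime p a Sylow p-subgroup of G is cyclic or has exponent dividing p. -/
theorem result {G : Type*} [Group G] [Finite G] (hB : ∀ A B : Subgroup G, IsMulCommutative ↥A → IsMulCommutative ↥B → Nat.card ↥A = Nat.card ↥B → ∃ g : G, B = A.map (MulAut.conj g).toMonoidHom) :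
    (∀ P : Sylow 2 G, IsCyclic ↥(P : Subgroup G) ∨ Cfsg.IsElementaryAbelian 2 (P : Subgroup G) ∨ ∃ k : ℕ, Nonempty (↥(P : Subgroup G) ≃* QuaternionGroup (2 ^ k))) ∧
    ∀ (p : ℕ) [Fact p.Prime], p ≠ 2 → ∀ P : Sylow p G, IsCyclic ↥(P : Subgroup G) ∨ ∀ x ∈ (P : Subgroup G), x ^ p = 1 := by
  have key : ∀ (p : ℕ) [Fact p.Prime] (P : Sylow p G),
      (IsCyclic ↥(P : Subgroup G) ∨
        (p = 2 ∧ ∃ n : ℕ, Nonempty (↥(P : Subgroup G) ≃* QuaternionGroup (2 ^ n)))) ∨
      ∀ x ∈ (P : Subgroup G), x ^ p = 1 := by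
    intro p hp P
    have hpp : p.Prime := hp.out
    by_cases hx : ∀ x ∈ (P : Subgroup G), x ^ p = 1
    · exact Or.inr hx
    left
    push Not at hx
    obtain ⟨x, hxP, hxp⟩ := hx
    obtain ⟨k, hk⟩ := IsPGroup.iff_orderOf.1 P.2 ⟨x, hxP⟩
    replace hk : orderOf x = p ^ k := by rw [← Subgroup.orderOf_coe] at hk; exact hk
    have hk2 : 2 ≤ k := by
      by_contra hlt
      refine hxp (orderOf_dvd_iff_pow_eq_one.1 ?_)
      rw [hk]
      exact (pow_dvd_pow p (by omega : k ≤ 1)).trans (pow_one p).dvd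
    have hu2 : orderOf (x ^ p ^ (k - 2)) = p ^ 2 := by
      rw [orderOf_pow' x (pow_ne_zero _ hpp.ne_zero), hk, Nat.gcd_eq_right (pow_dvd_pow p (by omega)),
        Nat.pow_div (by omega) hpp.pos, show k - (k - 2) = 2 by omega]
    set u := x ^ p ^ (k - 2)
    haveI : Nontrivial ↥(P : Subgroup G) := ⟨⟨⟨x, hxP⟩, 1, fun e => hxp (by
      rw [show x = 1 from congrArg Subtype.val e, one_pow])⟩⟩
    haveI := P.2.center_nontrivial
    obtain ⟨m, hm⟩ := IsPGroup.iff_card.1 (P.2.to_subgroup (Subgroup.center ↥(P : Subgroup G)))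
    have hpc : p ∣ Nat.card (Subgroup.center ↥(P : Subgroup G)) := by
      rw [hm]
      refine dvd_pow_self p fun e => ?_
      have := Finite.one_lt_card (α := Subgroup.center ↥(P : Subgroup G))
      rw [hm, e, pow_zero] at this
      omega
    obtain ⟨⟨z, hzc⟩, hz⟩ := exists_prime_orderOf_dvd_card' p hpc
    replace hz : orderOf z = p := by rw [← Subgroup.orderOf_coe] at hz; exact hz
    have huniq : ∀ y : ↥(P : Subgroup G), orderOf y = p → y ∈ Subgroup.zpowers z := by
      intro y hy
      by_contra hyz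
      set E : Subgroup ↥(P : Subgroup G) := Subgroup.zpowers y ⊔ Subgroup.zpowers z
      have hcyz : ∀ g : ↥(P : Subgroup G), g * z = z * g := fun g => Subgroup.mem_center_iff.1 hzc g
      have hnorm : Subgroup.zpowers y ≤ Subgroup.normalizer (Subgroup.zpowers z : Set ↥(P : Subgroup G)) := by
        rw [Subgroup.zpowers_le]
        refine Subgroup.centralizer_le_normalizer _ (Subgroup.mem_centralizer_iff.2 ?_)
        rintro _ ⟨i, rfl⟩
        exact ((show Commute y z from hcyz y).zpow_right i).eq.symm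
      have hdis : Subgroup.zpowers y ⊓ Subgroup.zpowers z = ⊥ := by
        by_contra hne
        have hc : Nat.card (Subgroup.zpowers y) = p := by rw [Nat.card_zpowers, hy]
        have hd := Subgroup.card_dvd_of_le (inf_le_left : Subgroup.zpowers y ⊓ Subgroup.zpowers z ≤ _)
        rw [hc] at hd
        rcases (Nat.dvd_prime hpp).1 hd with h1 | h1
        · exact hne (Subgroup.card_eq_one.1 h1)
        · have := Subgroup.eq_of_le_of_card_ge inf_le_left (by rw [hc, h1])
          exact hyz ((inf_eq_left.1 this) (Subgroup.mem_zpowers y))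
      have hEc : Nat.card E = p ^ 2 := by
        rw [CfsgLib.Solvable.card_sup_of_disjoint hnorm hdis, Nat.card_zpowers, Nat.card_zpowers, hy,
          hz, pow_two]
      haveI hEcomm : IsMulCommutative E := ⟨⟨IsPGroup.commutative_of_card_eq_prime_sq hEc⟩⟩
      have hexp : ∀ e ∈ E, e ^ p = 1 := by
        intro e he
        obtain ⟨a, ⟨i, rfl⟩, b, ⟨j, rfl⟩, rfl⟩ :=
          (CfsgLib.Solvable.mem_sup_of_le_normalizer hnorm).1 he
        rw [((show Commute y z from hcyz y).zpow_zpow i j).mul_pow, ← zpow_natCast (y ^ i),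
          ← zpow_natCast (z ^ j), ← zpow_mul, ← zpow_mul, mul_comm i, mul_comm j, zpow_mul, zpow_mul,
          zpow_natCast, zpow_natCast]
        conv_lhs => rw [show y ^ p = 1 from orderOf_dvd_iff_pow_eq_one.1 hy.dvd,
          show z ^ p = 1 from orderOf_dvd_iff_pow_eq_one.1 hz.dvd]
        simp
      obtain ⟨g, hg⟩ := hB (Subgroup.zpowers u) (E.map (P : Subgroup G).subtype) inferInstance
        inferInstance (by
          rw [Nat.card_zpowers, hu2,
            Subgroup.card_map_of_injective (P : Subgroup G).subtype_injective, hEc])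
      have hmem : (MulAut.conj g).toMonoidHom u ∈ E.map (P : Subgroup G).subtype := by
        rw [hg]
        exact Subgroup.mem_map_of_mem _ (Subgroup.mem_zpowers u)
      obtain ⟨e, he, hee⟩ := hmem
      have h1 : (MulAut.conj g).toMonoidHom (u ^ p) = 1 := by
        rw [map_pow, ← hee, ← map_pow, hexp e he, map_one]
      have h2 : u ^ p = 1 := (MulAut.conj g).injective (h1.trans (map_one _).symm)
      have h3 := orderOf_dvd_of_pow_eq_one h2
      rw [hu2] at h3
      have := Nat.le_of_dvd hpp.pos h3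
      have := hpp.two_le
      nlinarith
    have hall : ∀ a b : ↥(P : Subgroup G), orderOf a = p → orderOf b = p → b ∈ Subgroup.zpowers a := by
      intro a b ha hb
      have heq : Subgroup.zpowers a = Subgroup.zpowers z :=
        Subgroup.eq_of_le_of_card_ge (Subgroup.zpowers_le.2 (huniq a ha))
          (by rw [Nat.card_zpowers, Nat.card_zpowers, ha, hz])
      rw [heq]
      exact huniq b hb
    exact (CfsgLib.UniqueInvol.cyclic_or_quaternion P.2 hall).imp_right fun ⟨h, n, _, hn⟩ => ⟨h, n, hn⟩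
  refine ⟨fun P => ?_, fun p _ hp2 P => ?_⟩
  · haveI : Fact (Nat.Prime 2) := ⟨Nat.prime_two⟩
    rcases key 2 P with (h | ⟨-, h⟩) | h
    · exact Or.inl h
    · exact Or.inr (Or.inr h)
    · refine Or.inr (Or.inl ⟨⟨⟨fun a b => ?_⟩⟩, h⟩)
      have hsq : ∀ c : ↥(P : Subgroup G), c⁻¹ = c := fun c =>
        inv_eq_of_mul_eq_one_right (Subtype.ext (by
          show (c : G) * c = 1
          rw [← pow_two]; exact h c c.2))
      calc a * b = (a * b)⁻¹ := (hsq _).symm
        _ = b * a := by rw [mul_inv_rev, hsq, hsq]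
  · rcases key p P with (h | ⟨h, -⟩) | h
    · exact Or.inl h
    · exact absurd h hp2
    · exact Or.inr h

end Cfsg.Agent.S3908
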