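import Cfsg.Statements.S3909
import Mathlib.GroupTheory.Sylow
import Mathlib.GroupTheory.SpecificGroups.Cyclic
import Mathlib.Tactic

set_option autoImplicit false
open Cfsg

namespace Cfsg.Agent.S3909

/-- Let G be a finite group in which any two abelian subgroups of the same order are conjugate. Let M be a normal subgroup of G. If M contains an element of the same order as a ∈ G, then a ∈ M; and if M is elementary abelian of order p^t with p prime and t ≥ 2, then M is the unique Sylow p-subgroup of G. -/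
theorem result {G : Type*} [Group G] [Finite G] (hB : ∀ A B : Subgroup G, IsMulCommutative ↥A → IsMulCommutative ↥B → Nat.card ↥A = Nat.card ↥B → ∃ g : G, B = A.map (MulAut.conj g).toMonoidHom) (M : Subgroup G) [M.Normal] :
    (∀ a : G, (∃ m ∈ M, orderOf m = orderOf a) → a ∈ M) ∧
    ∀ (p t : ℕ) [Fact p.Prime], 2 ≤ t → Nat.card ↥M = p ^ t → Cfsg.IsElementaryAbelian p M → ∀ P : Sylow p G, (P : Subgroup G) = M := by
  have h1 : ∀ a : G, (∃ m ∈ M, orderOf m = orderOf a) → a ∈ M := by
    rintro a ⟨m, hm, hma⟩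
    obtain ⟨g, hg⟩ := hB (Subgroup.zpowers m) (Subgroup.zpowers a) inferInstance inferInstance
      (by rw [Nat.card_zpowers, Nat.card_zpowers, hma])
    obtain ⟨n, hn, hna⟩ : a ∈ (Subgroup.zpowers m).map (MulAut.conj g).toMonoidHom :=
      hg ▸ Subgroup.mem_zpowers a
    rw [← hna]
    exact (inferInstance : M.Normal).conj_mem n ((Subgroup.zpowers_le.2 hm) hn) g
  refine ⟨h1, fun p t _ ht hcard helem P => ?_⟩
  have hp : p.Prime := Fact.out
  have hMp : IsPGroup p M := IsPGroup.of_card hcard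
  obtain ⟨Q, hQ⟩ := hMp.exists_le_sylow
  have hle : M ≤ (P : Subgroup G) := by
    obtain ⟨g, rfl⟩ := MulAction.exists_smul_eq G Q P
    intro x hx
    have h : g⁻¹ * x * g ∈ (Q : Subgroup G) := hQ (by
      simpa using (inferInstance : M.Normal).conj_mem x hx g⁻¹)
    exact ⟨g⁻¹ * x * g, h, by simp [mul_assoc]⟩
  refine le_antisymm ?_ hle
  have hprime : ∀ a : G, orderOf a = p → a ∈ M := fun a ha => by
    obtain ⟨m, hm⟩ := exists_prime_orderOf_dvd_card' (G := M) p (hcard ▸ dvd_pow_self p (by omega))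
    exact h1 a ⟨m, m.2, by rw [Subgroup.orderOf_coe, hm, ha]⟩
  intro x hx
  by_contra hxM
  obtain ⟨k, hk⟩ := IsPGroup.iff_orderOf.1 P.2 ⟨x, hx⟩
  rw [← Subgroup.orderOf_coe] at hk
  rcases Nat.lt_or_ge k 2 with hk2 | hk2
  · rcases Nat.eq_zero_or_pos k with rfl | h
    · exact hxM (by rw [(orderOf_eq_one_iff (x := x)).1 (by simpa using hk)]; exact M.one_mem)
    · obtain rfl : k = 1 := by omega
      exact hxM (hprime x (by simpa using hk))
  · set y := x ^ (p ^ (k - 2)) with hy
    have hyo : orderOf y = p ^ 2 := by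
      rw [hy, orderOf_pow_of_dvd (pow_ne_zero _ hp.ne_zero) (hk ▸ pow_dvd_pow p (by omega)),
        show orderOf x = p ^ k from hk, Nat.pow_div (by omega) hp.pos]
      congr 1; omega
    obtain ⟨S, hS⟩ := Sylow.exists_subgroup_card_pow_prime (G := M) p (n := 2)
      (hcard ▸ pow_dvd_pow p ht)
    have hSM : S.map M.subtype ≤ M := Subgroup.map_subtype_le _
    have hSc : IsMulCommutative ↥(S.map M.subtype) := ⟨⟨fun a b => Subtype.ext
      (congrArg Subtype.val (helem.1.is_comm.comm ⟨a, hSM a.2⟩ ⟨b, hSM b.2⟩) : (a : G) * b = _)⟩⟩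
    obtain ⟨g, hg⟩ := hB (S.map M.subtype) (Subgroup.zpowers y) hSc inferInstance
      (by rw [Subgroup.card_map_of_injective M.subtype_injective, hS, Nat.card_zpowers, hyo])
    obtain ⟨n, hn, hny⟩ : y ∈ (S.map M.subtype).map (MulAut.conj g).toMonoidHom :=
      hg ▸ Subgroup.mem_zpowers y
    have h2 : y ^ p = 1 := by rw [← hny, ← map_pow, helem.2 n (hSM hn), map_one]
    have h3 := Nat.le_of_dvd hp.pos (hyo ▸ orderOf_dvd_of_pow_eq_one h2)
    nlinarith [hp.two_le]

end Cfsg.Agent.S3909
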