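import Cfsg.Statements.S3910
import Cfsg.Agent.FGSA.Nilpotent
import Cfsg.Agent.Solvable.PGroupBasic
import Mathlib.GroupTheory.SpecificGroups.ZGroup

set_option autoImplicit false
open Cfsg

namespace Cfsg.Agent.S3910

/-- A finite nilpotent group in which any two abelian subgroups of the same order are conjugate is cyclic. -/
theorem result {G : Type*} [Group G] [Finite G] (hB : ∀ A B : Subgroup G, IsMulCommutative ↥A → IsMulCommutative ↥B → Nat.card ↥A = Nat.card ↥B → ∃ g : G, B = A.map (MulAut.conj g).toMonoidHom) (hnil : Group.IsNilpotent G) : IsCyclic G := by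
  classical
  haveI := hnil
  haveI : IsZGroup G := by
    refine ⟨fun q hq P => ?_⟩
    haveI := Fact.mk hq
    haveI : Finite (P : Subgroup G) := inferInstance
    haveI := P.2.isNilpotent
    obtain ⟨x, hx⟩ := Finite.exists_max (fun y : (P : Subgroup G) => orderOf y)
    by_contra hc
    have hne : Subgroup.zpowers x ≠ ⊤ := fun h => hc ⟨x, fun y => by
      have := h.ge (Subgroup.mem_top y); exact this⟩
    obtain ⟨M, hM, hxM⟩ := (eq_top_or_exists_le_coatom _).resolve_left hne
    haveI : M.Normal := Subgroup.NormalizerCondition.normal_of_coatom M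
      Group.normalizerCondition_of_isNilpotent hM
    obtain ⟨y, hy⟩ : ∃ y : (P : Subgroup G), y ∉ M := by
      by_contra h
      push Not at h
      exact hM.1 (eq_top_iff.2 fun z _ => h z)
    obtain ⟨i, hi⟩ := IsPGroup.iff_orderOf.1 P.2 y
    obtain ⟨j, hj⟩ := IsPGroup.iff_orderOf.1 P.2 x
    have hij : q ^ i ∣ q ^ j := by
      refine pow_dvd_pow q ((Nat.pow_le_pow_iff_right hq.one_lt).1 ?_)
      rw [← hi, ← hj]; exact hx y
    rw [← hi, ← hj] at hij
    set z := x ^ (orderOf x / orderOf y) with hzdef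
    have hz : orderOf z = orderOf y := orderOf_pow_orderOf_div (orderOf_pos x).ne' hij
    obtain ⟨g, hg⟩ := hB (Subgroup.zpowers (z : G)) (Subgroup.zpowers (y : G)) inferInstance
      inferInstance (by rw [Nat.card_zpowers, Nat.card_zpowers, Subgroup.orderOf_coe,
        Subgroup.orderOf_coe, hz])
    obtain ⟨n, hn⟩ : ∃ n : ℤ, (y : G) = g * ((z ^ n : (P : Subgroup G)) : G) * g⁻¹ := by
      obtain ⟨w, ⟨n, rfl⟩, hw⟩ := hg.le (Subgroup.mem_zpowers (y : G))
      exact ⟨n, by simpa using hw.symm⟩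
    -- the conjugating element may be taken in `P`
    obtain ⟨k, m, hm, hgm⟩ := Nat.exists_eq_pow_mul_and_not_dvd (orderOf_pos g).ne' q hq.ne_one
    have hcop : (q ^ k).Coprime m := (hq.coprime_iff_not_dvd.2 hm).pow_left k
    obtain ⟨u, v, huv⟩ : ∃ u v : ℤ, u * (q ^ k : ℕ) + v * m = 1 :=
      ⟨Nat.gcdA (q ^ k) m, Nat.gcdB (q ^ k) m, by
        rw [mul_comm _ ((q ^ k : ℕ) : ℤ), mul_comm _ (m : ℤ), ← Nat.gcd_eq_gcd_ab, hcop.gcd_eq_one,
          Nat.cast_one]⟩
    set a := (g ^ m) ^ v with hadef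
    set b := (g ^ (q ^ k)) ^ u with hbdef
    have hab : g = a * b := by
      rw [hadef, hbdef, ← zpow_natCast, ← zpow_natCast, ← zpow_mul, ← zpow_mul, ← zpow_add,
        show (m : ℤ) * v + ((q ^ k : ℕ) : ℤ) * u = 1 by linarith, zpow_one]
    have ha : a ∈ (P : Subgroup G) := by
      have hap : IsPGroup q (Subgroup.zpowers (g ^ m)) := IsPGroup.of_card_dvd_pow (n := k) (by
        rw [Nat.card_zpowers]
        exact orderOf_dvd_of_pow_eq_one (by rw [← pow_mul, mul_comm, ← hgm, pow_orderOf_eq_one]))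
      obtain ⟨S, hS⟩ := hap.exists_le_sylow
      obtain ⟨c, hc'⟩ := MulAction.exists_smul_eq G P S
      rw [← hc', Sylow.smul_eq_of_normal] at hS
      exact hS ⟨v, rfl⟩
    have hb : Commute b ((z ^ n : (P : Subgroup G)) : G) := by
      refine Commute.zpow_left (CfsgLib.FGSA.commute_of_coprime_orderOf _ _ ?_) u
      obtain ⟨l, hl⟩ := IsPGroup.iff_orderOf.1 P.2 (z ^ n)
      rw [Subgroup.orderOf_coe, hl]
      exact Nat.Coprime.pow_right l (Nat.Coprime.coprime_dvd_left (orderOf_dvd_of_pow_eq_one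
        (by rw [← pow_mul, ← hgm, pow_orderOf_eq_one])) (hq.coprime_iff_not_dvd.2 hm).symm)
    refine hy ?_
    have hzM : z ^ n ∈ M := zpow_mem (hxM (pow_mem (Subgroup.mem_zpowers x) _)) n
    have : y = ⟨a, ha⟩ * z ^ n * ⟨a, ha⟩⁻¹ := by
      apply Subtype.ext
      rw [hn, hab]
      push_cast
      rw [mul_inv_rev, mul_assoc a b, ← Subgroup.coe_zpow, hb.eq]
      group
    rw [this]
    exact Subgroup.Normal.conj_mem inferInstance _ hzM _
  infer_instance

end Cfsg.Agent.S3910
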