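import Cfsg.Statements.S3917
import Cfsg.Agent.Coprime.Generation

set_option autoImplicit false
open Cfsg

namespace Cfsg.Agent.S3917

/-- Say that a group has self-centralizing non-cyclic subgroups when every non-cyclic subgroup H satisfies C_G(H) ≤ H. A finite abelian group with self-centralizing non-cyclic subgroups is cyclic or elementary abelian of order p² for a prime p. -/
theorem result {G : Type*} [CommGroup G] [Finite G] (hX : (∀ H : Subgroup G, ¬ IsCyclic ↥H → Subgroup.centralizer (H : Set G) ≤ H)) :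
    IsCyclic G ∨ ∃ p : ℕ, p.Prime ∧ Nat.card G = p ^ 2 ∧ Monoid.exponent G = p := by
  by_cases hc : IsCyclic G
  · exact Or.inl hc
  right
  obtain ⟨q, E, hq, hcard, hexp⟩ := CfsgLib.Coprime.exists_elementary_sq hc
  have hEnc : ¬ IsCyclic ↥E := fun h => by
    have h1 : Monoid.exponent ↥E = Nat.card ↥E := IsCyclic.exponent_eq_card
    have h2 : Monoid.exponent ↥E ∣ q := Monoid.exponent_dvd_of_forall_pow_eq_one fun x =>
      Subtype.ext (by rw [Subgroup.coe_pow]; exact hexp x x.2)
    rw [h1, hcard] at h2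
    have h3 := Nat.le_of_dvd hq.pos h2
    rw [pow_two] at h3
    have h4 := Nat.mul_lt_mul_of_pos_left hq.one_lt hq.pos
    omega
  have htop : E = ⊤ := eq_top_iff.2 fun g _ => hX E hEnc (Subgroup.mem_centralizer_iff.2
    fun e _ => mul_comm e g)
  subst htop
  rw [Subgroup.card_top] at hcard
  refine ⟨q, hq, hcard, Nat.dvd_antisymm
    (Monoid.exponent_dvd_of_forall_pow_eq_one fun g => hexp g (Subgroup.mem_top g)) ?_⟩
  haveI := Fact.mk hq
  obtain ⟨w, hw⟩ := exists_prime_orderOf_dvd_card' (G := G) q (hcard ▸ dvd_pow_self q two_ne_zero)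
  exact hw ▸ Monoid.order_dvd_exponent w

end Cfsg.Agent.S3917
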