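import Cfsg.Statements.S3918
import Cfsg.Agent.FGSA.AbelianIndexP
import Cfsg.Agent.PLocal.OddPGroup

set_option autoImplicit false
open Cfsg

namespace Cfsg.Agent.S3918

/-- Say that a group has self-centralizing non-cyclic subgroups when every non-cyclic subgroup H satisfies C_G(H) ≤ H. For an odd prime p, a finite non-abelian p-group has self-centralizing non-cyclic subgroups if and only if it has order p³. -/
theorem result {G : Type*} [Group G] [Finite G] {p : ℕ} [Fact p.Prime] (hp : p ≠ 2) (hG : IsPGroup p G) (hna : ¬ IsMulCommutative G) :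
    (∀ H : Subgroup G, ¬ IsCyclic ↥H → Subgroup.centralizer (H : Set G) ≤ H) ↔ Nat.card G = p ^ 3 := by
  have hp' : p.Prime := Fact.out
  constructor
  · intro h
    haveI := hG.isNilpotent
    have hnc : ¬ IsCyclic G := fun hc => hna ⟨⟨(IsCyclic.commGroup (α := G)).mul_comm⟩⟩
    have hnc' : ¬ IsCyclic (⊤ : Subgroup G) := fun hc => hnc (Subgroup.topEquiv.isCyclic.mp hc)
    obtain ⟨A, -, hAn, ⟨hAc, hAe⟩, hAcard⟩ :=
      CfsgLib.OddPGroup.exists_normal_elementary hp hG ⊤ inferInstance hnc'
    have hAnc : ¬ IsCyclic A := fun hc => by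
      obtain ⟨g, hg⟩ := IsCyclic.exists_ofOrder_eq_natCard (α := A)
      have h1 : orderOf g ∣ p := orderOf_dvd_of_pow_eq_one (Subtype.ext (hAe g g.2))
      rw [hg, hAcard] at h1
      have h2 := Nat.le_of_dvd hp'.pos h1
      nlinarith [hp'.two_le]
    have hCA : Subgroup.centralizer (A : Set G) = A :=
      le_antisymm (h A hAnc) (Subgroup.le_centralizer_iff_isMulCommutative.2 hAc)
    have hne : A ≠ ⊥ := fun hb => hAnc (by subst hb; exact isCyclic_of_subsingleton)
    obtain ⟨z, ⟨hzA, hzZ⟩, hz1⟩ := (Subgroup.bot_or_exists_ne_one _).resolve_left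
      (CfsgLib.PGroupBasic.inf_center_ne_bot A hne)
    obtain ⟨a, haA, haz⟩ : ∃ a ∈ A, a ∉ Subgroup.zpowers z := by
      by_contra! hle
      have h1 := Subgroup.card_le_of_le (K := Subgroup.zpowers z) hle
      rw [hAcard, Nat.card_zpowers, orderOf_eq_prime (hAe z hzA) hz1] at h1
      nlinarith [hp'.two_le]
    have hgen : Subgroup.zpowers z ⊔ Subgroup.zpowers a = A := by
      refine Subgroup.eq_of_le_of_card_ge (sup_le (Subgroup.zpowers_le.2 hzA) (Subgroup.zpowers_le.2 haA)) ?_
      have hlt : Subgroup.zpowers z < Subgroup.zpowers z ⊔ Subgroup.zpowers a :=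
        left_lt_sup.2 fun hle => haz (hle (Subgroup.mem_zpowers a))
      obtain ⟨i, hi⟩ := IsPGroup.iff_card.1 (hG.to_subgroup (Subgroup.zpowers z ⊔ Subgroup.zpowers a))
      have h1 := CfsgLib.AbelianIndexP.card_lt hlt
      rw [Nat.card_zpowers, orderOf_eq_prime (hAe z hzA) hz1, hi] at h1
      rw [hAcard, hi]
      refine Nat.pow_le_pow_right hp'.pos ?_
      by_contra hi2
      have := Nat.pow_le_pow_right hp'.pos (show i ≤ 1 by omega)
      rw [pow_one] at this
      omega
    have hCa : Subgroup.centralizer ({a} : Set G) ≤ A := by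
      intro g hg
      rw [← hCA]
      refine Subgroup.zpowers_le.1 (Subgroup.le_centralizer_iff.1 ?_)
      rw [← hgen]
      refine sup_le (Subgroup.zpowers_le.2 (Subgroup.center_le_centralizer _ hzZ)) ?_
      rw [Subgroup.le_centralizer_iff, Subgroup.zpowers_le, Subgroup.mem_centralizer_iff]
      intro b hb
      obtain ⟨i, rfl⟩ := Subgroup.mem_zpowers_iff.1 hb
      exact (Commute.zpow_left (show Commute a g from (Subgroup.mem_centralizer_singleton_iff.1 hg).symm) i).eq
    let f : G ⧸ Subgroup.centralizer ({a} : Set G) → A := fun q => Quotient.liftOn' q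
      (fun g => ⟨g * a * g⁻¹, hAn.conj_mem a haA g⟩) fun g g' hgg => Subtype.ext (by
        rw [QuotientGroup.leftRel_apply, Subgroup.mem_centralizer_singleton_iff] at hgg
        show g * a * g⁻¹ = g' * a * g'⁻¹
        calc g * a * g⁻¹ = g * (a * (g⁻¹ * g')) * g'⁻¹ := by group
          _ = g * ((g⁻¹ * g') * a) * g'⁻¹ := by rw [hgg]
          _ = _ := by group)
    have hf : Function.Injective f := by
      intro q q'
      refine Quotient.inductionOn₂' q q' fun g g' hgg => Quotient.sound' ?_
      rw [QuotientGroup.leftRel_apply, Subgroup.mem_centralizer_singleton_iff]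
      have h1 : g * a * g⁻¹ = g' * a * g'⁻¹ := congrArg Subtype.val hgg
      calc g⁻¹ * g' * a = g⁻¹ * (g' * a * g'⁻¹) * g' := by group
        _ = _ := by rw [← h1]; group
    have hlt : (Subgroup.centralizer ({a} : Set G)).index < p ^ 2 := by
      rw [← hAcard, Subgroup.index_eq_card]
      refine lt_of_le_of_ne (Nat.card_le_card_of_injective f hf) fun he => ?_
      obtain ⟨q, hq⟩ := ((Nat.bijective_iff_injective_and_card f).2 ⟨hf, he⟩).2 1
      revert hq
      refine Quotient.inductionOn' q fun g hg => ?_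
      have h1 : g * a * g⁻¹ = 1 := congrArg Subtype.val hg
      exact haz (conj_eq_one_iff.1 h1 ▸ one_mem _)
    obtain ⟨j, hj⟩ := hG.index (Subgroup.centralizer ({a} : Set G))
    rw [hj] at hlt
    have hj1 : j ≤ 1 := Nat.lt_succ_iff.1 ((Nat.pow_lt_pow_iff_right hp'.one_lt).1 hlt)
    obtain ⟨n, hn⟩ := IsPGroup.iff_card.1 hG
    have h3 : Nat.card G ≤ p ^ 3 := by
      rw [← (Subgroup.centralizer ({a} : Set G)).card_mul_index, hj, pow_succ p 2]
      refine Nat.mul_le_mul ((Subgroup.card_le_of_le hCa).trans hAcard.le) ?_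
      exact (Nat.pow_le_pow_right hp'.pos hj1).trans (pow_one p).le
    rw [hn, Nat.pow_le_pow_iff_right hp'.one_lt] at h3
    rw [hn]
    have h2 : ¬ n ≤ 2 := fun h2 => hna (by
      rcases h2.eq_or_lt with rfl | h2
      · exact IsPGroup.isMulCommutative_of_card_eq_prime_sq hn
      · haveI : IsCyclic G := by
          rcases Nat.eq_zero_or_pos n with rfl | h0
          · haveI := (Nat.card_eq_one_iff_unique.1 (by rw [hn, pow_zero])).1; exact isCyclic_of_subsingleton
          · obtain rfl : n = 1 := by omega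
            exact isCyclic_of_prime_card (p := p) (by rw [hn, pow_one])
        exact ⟨⟨(IsCyclic.commGroup (α := G)).mul_comm⟩⟩)
    congr 1
    omega
  · intro h3 H hH
    rcases eq_or_ne H ⊤ with rfl | hne
    · exact le_top
    have hlt := CfsgLib.AbelianIndexP.card_lt (lt_top_iff_ne_top.2 hne)
    rw [Subgroup.card_top, h3] at hlt
    obtain ⟨i, hi⟩ := IsPGroup.iff_card.1 (hG.to_subgroup H)
    rw [hi] at hlt
    have hi3 := (Nat.pow_lt_pow_iff_right hp'.one_lt).1 hlt
    have hi2 : i = 2 := by
      by_contra hi2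
      apply hH
      rcases Nat.eq_zero_or_pos i with rfl | h0
      · haveI := (Nat.card_eq_one_iff_unique.1 (show Nat.card H = 1 by rw [hi, pow_zero])).1
        exact isCyclic_of_subsingleton
      · obtain rfl : i = 1 := by omega
        exact isCyclic_of_prime_card (p := p) (by rw [hi, pow_one])
    rw [hi2] at hi
    have hHc := IsPGroup.isMulCommutative_of_card_eq_prime_sq hi
    have hle := Subgroup.le_centralizer_iff_isMulCommutative.2 hHc
    by_contra hCH
    have hHi : H.index = p := by
      have h := H.card_mul_index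
      rw [hi, h3, pow_succ p 2] at h
      exact Nat.eq_of_mul_eq_mul_left (pow_pos hp'.pos 2) h
    have htop := CfsgLib.AbelianIndexP.eq_top_of_lt_of_index_prime hp' hHi
      (lt_of_le_of_ne hle fun he => hCH he.ge)
    have hHZ : H ≤ Subgroup.center G := by
      rw [Subgroup.centralizer_eq_top_iff_subset] at htop
      exact htop
    have h1 := CfsgLib.AbelianIndexP.le_index_center hG hna
    have h2 := Subgroup.index_dvd_of_le hHZ
    rw [hHi] at h2
    have := h1.trans (Nat.le_of_dvd hp'.pos h2)
    nlinarith [hp'.two_le]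

end Cfsg.Agent.S3918
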