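import Cfsg.Statements.S3919
import Cfsg.Agent.Solvable.MaximalClass
import Cfsg.Agent.InvChar.UniqueInvolution

set_option autoImplicit false
open Cfsg

namespace Cfsg.Agent.S3919

open scoped commutatorElement

/-- Say that a group has self-centralizing non-cyclic subgroups when every non-cyclic subgroup H satisfies C_G(H) ≤ H. A finite non-abelian 2-group G of order 2^n has self-centralizing non-cyclic subgroups if and only if G has nilpotency class n − 1 (that is, G is dihedral, semidihedral or generalized quaternion). -/
theorem result {G : Type*} [Group G] [Finite G] (hna : ¬ IsMulCommutative G) (n : ℕ) (hG : Nat.card G = 2 ^ n) :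
    (∀ H : Subgroup G, ¬ IsCyclic ↥H → Subgroup.centralizer (H : Set G) ≤ H) ↔ (⊤ : Subgroup G).lowerCentralSeries (n - 2) ≠ ⊥ := by
  classical
  haveI := Fact.mk Nat.prime_two
  have hP : IsPGroup 2 G := IsPGroup.of_card hG
  haveI := hP.isNilpotent
  have hn : 3 ≤ n := by
    by_contra h
    have hcomm : ∀ a b : G, a * b = b * a := by
      rcases n with _ | _ | _ | n
      · have : Subsingleton G := (Nat.card_eq_one_iff_unique.1 (by simpa using hG)).1
        exact fun a b => Subsingleton.elim _ _
      · haveI : IsCyclic G := isCyclic_of_prime_card (p := 2) (by simpa using hG)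
        exact (IsCyclic.commGroup (α := G)).mul_comm
      · exact IsPGroup.commutative_of_card_eq_prime_sq hG
      · omega
    exact hna ⟨⟨hcomm⟩⟩
  have hlcs : (⊤ : Subgroup G).lowerCentralSeries (n - 1) = ⊥ := by
    by_contra h
    have h' : (⊤ : Subgroup G).lowerCentralSeries (n - 2 + 1) ≠ ⊥ := by
      rwa [show n - 2 + 1 = n - 1 by omega]
    have h1 := CfsgLib.Uniserial.index_lcs_ge hP (n - 2) h'
    have h2 := ((⊤ : Subgroup G).lowerCentralSeries (n - 2 + 1)).card_mul_index
    rw [hG] at h2
    rw [show n - 2 + 2 = n by omega] at h1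
    refine h' (Subgroup.eq_bot_of_card_eq _ ?_)
    have h3 := Nat.card_pos (α := (⊤ : Subgroup G).lowerCentralSeries (n - 2 + 1))
    have h4 : 0 < 2 ^ n := by positivity
    nlinarith
  have hequiv : (⊤ : Subgroup G).lowerCentralSeries (n - 2) ≠ ⊥ ↔ Group.nilpotencyClass G = n - 1 := by
    constructor
    · intro h
      refine le_antisymm (Subgroup.lowerCentralSeries_eq_bot_iff_nilpotencyClass_le.1 hlcs) ?_
      by_contra h'
      exact h (Subgroup.lowerCentralSeries_eq_bot_iff_nilpotencyClass_le.2 (by omega))
    · intro h h'
      have := Subgroup.lowerCentralSeries_eq_bot_iff_nilpotencyClass_le.1 h'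
      omega
  rw [hequiv]
  constructor
  · intro hH
    by_cases hu : ∀ x y : G, orderOf x = 2 → orderOf y = 2 → y ∈ Subgroup.zpowers x
    · rcases CfsgLib.UniqueInvol.structure_thm hP hu with hc | ⟨-, a, m, hm, ha, hidx, hout⟩
      · exact absurd ⟨⟨(IsCyclic.commGroup (α := G)).mul_comm⟩⟩ hna
      refine CfsgLib.MaximalClass.class_of_index_commutator n (by omega) hG (le_antisymm ?_ ?_)
      · obtain ⟨g, hg⟩ : ∃ g, g ∉ Subgroup.zpowers a := by
          by_contra! h
          rw [Subgroup.index_eq_one.2 (eq_top_iff.2 fun x _ => h x)] at hidx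
          omega
        have hmem : a ^ 2 ∈ commutator G := by
          have h1 : ⁅g, a⁆ ∈ commutator G :=
            Subgroup.commutator_mem_commutator (Subgroup.mem_top _) (Subgroup.mem_top _)
          rw [commutatorElement_def, (hout g hg).1, ← mul_inv_rev] at h1
          simpa [pow_two] using inv_mem h1
        have h1 : Subgroup.zpowers (a ^ 2) ≤ commutator G := Subgroup.zpowers_le.2 hmem
        have h2 := Subgroup.card_le_of_le h1
        rw [Nat.card_zpowers, orderOf_pow_of_dvd two_ne_zero (ha ▸ dvd_pow_self 2 (by omega)), ha] at h2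
        have h3 := (commutator G).card_mul_index
        have h4 := (Subgroup.zpowers a).card_mul_index
        rw [Nat.card_zpowers, ha, hidx] at h4
        obtain ⟨m, rfl⟩ : ∃ j, m = j + 1 := ⟨m - 1, by omega⟩
        rw [pow_succ, Nat.mul_div_cancel _ two_pos] at h2
        rw [pow_succ] at h4
        have h5 : 0 < 2 ^ m := by positivity
        nlinarith
      · have h1 := CfsgLib.Uniserial.sq_le_index_commutator hP (fun h => hna ⟨⟨fun x y =>
          commutatorElement_eq_one_iff_mul_comm.1 (Subgroup.mem_bot.1 (h ▸
            (Subgroup.commutator_mem_commutator (Subgroup.mem_top x) (Subgroup.mem_top y) :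
              ⁅x, y⁆ ∈ (⊤ : Subgroup G).lowerCentralSeries 1)))⟩⟩)
        exact h1
    · push Not at hu
      obtain ⟨x, y, hx, hy, hxy⟩ := hu
      haveI : Nontrivial G := ⟨x, 1, fun h => by rw [h, orderOf_one] at hx; omega⟩
      obtain ⟨z, hzc, hz2⟩ : ∃ z ∈ Subgroup.center G, orderOf z = 2 := by
        obtain ⟨k, hk⟩ := IsPGroup.iff_card.1 (hP.to_subgroup (Subgroup.center G))
        haveI := hP.center_nontrivial
        have hk0 : k ≠ 0 := fun h => by
          have := Finite.one_lt_card (α := Subgroup.center G)
          rw [hk, h] at this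
          norm_num at this
        obtain ⟨z, hz⟩ := exists_prime_orderOf_dvd_card' (G := Subgroup.center G) 2
          (hk ▸ dvd_pow_self 2 hk0)
        exact ⟨z, z.2, by rwa [Subgroup.orderOf_coe]⟩
      obtain ⟨t, ht, htz⟩ : ∃ t, orderOf t = 2 ∧ t ≠ z := by
        by_cases hxz : x = z
        · exact ⟨y, hy, fun h => hxy (hxz ▸ h ▸ Subgroup.mem_zpowers z)⟩
        · exact ⟨x, hx, hxz⟩
      have hzz : z * z = 1 := by rw [← pow_two, ← hz2, pow_orderOf_eq_one]
      have htt : t * t = 1 := by rw [← pow_two, ← ht, pow_orderOf_eq_one]
      have hzt : z * t = t * z := (Subgroup.mem_center_iff.1 hzc t).symm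
      have hzt1 : z * t ≠ 1 := fun h => htz (by
        rw [← one_mul t, ← hzz, mul_assoc, h, mul_one])
      have hz1 : z ≠ 1 := fun h => by rw [h, orderOf_one] at hz2; omega
      have ht1 : t ≠ 1 := fun h => by rw [h, orderOf_one] at ht; omega
      let V : Subgroup G :=
        { carrier := {1, z, t, z * t}
          one_mem' := by simp
          inv_mem' := by
            rintro a (rfl | rfl | rfl | rfl)
            · simp
            · right; left; exact inv_eq_of_mul_eq_one_right hzz
            · right; right; left; exact inv_eq_of_mul_eq_one_right htt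
            · right; right; right
              refine inv_eq_of_mul_eq_one_right ?_
              rw [mul_assoc, ← mul_assoc t, ← hzt, mul_assoc z t t, htt, mul_one, hzz]
          mul_mem' := by
            have e1 : z * (z * t) = t := by rw [← mul_assoc, hzz, one_mul]
            have e2 : t * (z * t) = z := by rw [← mul_assoc, ← hzt, mul_assoc, htt, mul_one]
            have e3 : z * t * z = t := by rw [hzt, mul_assoc, hzz, mul_one]
            have e4 : z * t * t = z := by rw [mul_assoc, htt, mul_one]
            have e5 : z * t * (z * t) = 1 := by rw [mul_assoc, e2, hzz]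
            rintro a b (rfl | rfl | rfl | rfl) (rfl | rfl | rfl | rfl) <;>
              simp [hzz, htt, ← hzt, e1, e2, e3, e4, e5] }
      have hVc : Nat.card V = 2 ^ 2 := by
        change ({1, z, t, z * t} : Set G).ncard = _
        rw [Set.ncard_insert_of_notMem (by simp [Ne.symm hz1, Ne.symm ht1, Ne.symm hzt1]),
          Set.ncard_insert_of_notMem (by simp [Ne.symm htz, ht1]),
          Set.ncard_pair (fun h => hz1 (by simpa using h))]
        norm_num
      have hVnc : ¬ IsCyclic V := by
        intro h
        obtain ⟨g, hg⟩ := h.exists_ofOrder_eq_natCard (α := V)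
        have h2 : g ^ 2 = 1 := Subtype.ext (by
          change (g : G) ^ 2 = 1
          rcases g.2 with h | h | h | h <;> rw [h, pow_two]
          · exact one_mul _
          · exact hzz
          · exact htt
          · rw [mul_assoc, ← mul_assoc t, ← hzt, mul_assoc z t t, htt, mul_one, hzz])
        have h3 := orderOf_dvd_of_pow_eq_one h2
        rw [hg, hVc] at h3
        exact absurd (Nat.le_of_dvd two_pos h3) (by norm_num)
      refine CfsgLib.MaximalClass.class_of_self_centralizing n hG V hVc
        (le_antisymm (hH V hVnc) fun a ha => Subgroup.mem_centralizer_iff.2 fun b hb => ?_)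
      rcases ha with rfl | rfl | rfl | rfl <;> rcases hb with rfl | rfl | rfl | rfl <;>
        simp only [one_mul, mul_one, hzt, mul_assoc] <;>
        simp [← mul_assoc, hzz, htt, ← hzt]
  · intro hcl H hH c hc
    have hidx := CfsgLib.MaximalClass.index_commutator_of_class hn hG hcl
    obtain ⟨C, hC, hCi⟩ := CfsgLib.MaximalClass.cyclic_index_two n hn hG hidx
    have hCc : IsMulCommutative C := ⟨⟨(IsCyclic.commGroup (α := C)).mul_comm⟩⟩
    have hcent := CfsgLib.MaximalClass.card_center hn hG hidx hCc hCi
    have hZC : Subgroup.center G ≤ C := CfsgLib.AbelianIndexP.center_le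
      (CfsgLib.MaximalClass.not_abelian hn hG hidx) hCc hCi
    obtain ⟨h, hhH, hhC⟩ : ∃ h ∈ H, h ∉ C := by
      by_contra! hle
      refine hH ?_
      haveI := hC
      exact isCyclic_of_injective (Subgroup.inclusion (fun x hx => hle x hx))
        (Subgroup.inclusion_injective _)
    -- elements of `C` commuting with `h` are central
    have hmeet : ∀ x ∈ C, h * x = x * h → x ∈ Subgroup.center G := by
      intro x hx hxh
      have h1 : C ⊔ Subgroup.zpowers h = ⊤ := by
        refine CfsgLib.AbelianIndexP.eq_top_of_lt_of_index_prime Nat.prime_two hCi ?_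
        exact lt_of_le_of_ne le_sup_left fun e =>
          hhC (e.symm ▸ Subgroup.mem_sup_right (Subgroup.mem_zpowers h))
      rw [Subgroup.mem_center_iff]
      intro g
      have hle : C ⊔ Subgroup.zpowers h ≤ Subgroup.centralizer {x} :=
        sup_le (fun y hy => Subgroup.mem_centralizer_singleton_iff.2
          (congrArg Subtype.val (hCc.is_comm.comm (⟨y, hy⟩ : C) ⟨x, hx⟩)))
          (Subgroup.zpowers_le.2 (Subgroup.mem_centralizer_singleton_iff.2 hxh))
      exact Subgroup.mem_centralizer_singleton_iff.1 (hle (h1.symm ▸ Subgroup.mem_top g))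
    -- the centre lies in `H`
    have hZH : Subgroup.center G ≤ H := by
      have hHC : H ⊓ C ≠ ⊥ := by
        intro hbot
        refine hH ?_
        have h1 : C.relIndex H ∣ C.index := by
          haveI : C.Normal := Subgroup.normal_of_index_eq_two hCi
          exact Subgroup.relIndex_dvd_index_of_normal C H
        rw [hCi] at h1
        have h2 := Subgroup.relIndex_bot_left H
        rw [← hbot, Subgroup.inf_relIndex_left] at h2
        rcases (Nat.dvd_prime Nat.prime_two).1 h1 with h3 | h3
        · exact absurd (Subgroup.relIndex_eq_one.1 h3 hhH) hhC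
        · exact isCyclic_of_prime_card (p := 2) (h2.symm.trans h3)
      obtain ⟨k, hk⟩ := IsPGroup.iff_card.1 (hP.to_subgroup (H ⊓ C))
      have hk0 : k ≠ 0 := fun h => hHC (Subgroup.eq_bot_of_card_eq _ (by rw [hk, h, pow_zero]))
      obtain ⟨u, hu⟩ := exists_prime_orderOf_dvd_card' (G := ↥(H ⊓ C)) 2 (hk ▸ dvd_pow_self 2 hk0)
      have hu' : orderOf (u : G) = 2 := by rwa [Subgroup.orderOf_coe]
      obtain ⟨w, hw⟩ := exists_prime_orderOf_dvd_card' (G := Subgroup.center G) 2 (by rw [hcent])
      have hw' : orderOf (w : G) = 2 := by rwa [Subgroup.orderOf_coe]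
      have hgen : Subgroup.center G = Subgroup.zpowers (w : G) :=
        (Subgroup.eq_of_le_of_card_ge (Subgroup.zpowers_le.2 w.2)
          (by rw [Nat.card_zpowers, hw', hcent])).symm
      -- in the cyclic group `C` there is a single involution
      haveI := hC
      haveI := Fintype.ofFinite C
      have hS := IsCyclic.card_pow_eq_one_le (α := C) two_pos
      have huw : (u : G) = w := by
        by_contra hne
        have h3 : ({1, (⟨u, u.2.2⟩ : C), ⟨w, hZC w.2⟩} : Finset C).card = 3 := by
          rw [Finset.card_insert_of_notMem, Finset.card_pair]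
          · exact fun h => hne (congrArg Subtype.val h)
          · simp only [Finset.mem_insert, Finset.mem_singleton, not_or]
            refine ⟨fun h => ?_, fun h => ?_⟩
            · rw [show (u : G) = 1 from (congrArg Subtype.val h).symm, orderOf_one] at hu'; omega
            · rw [show (w : G) = 1 from (congrArg Subtype.val h).symm, orderOf_one] at hw'; omega
        have h4 : ({1, (⟨u, u.2.2⟩ : C), ⟨w, hZC w.2⟩} : Finset C) ⊆
            Finset.univ.filter fun a : C => a ^ 2 = 1 := by
          intro a ha
          refine Finset.mem_filter.2 ⟨Finset.mem_univ _, ?_⟩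
          simp only [Finset.mem_insert, Finset.mem_singleton] at ha
          rcases ha with rfl | rfl | rfl
          · exact one_pow 2
          · exact Subtype.ext (by
              change (u : G) ^ 2 = 1
              rw [← hu', pow_orderOf_eq_one])
          · exact Subtype.ext (by
              change (w : G) ^ 2 = 1
              rw [← hw', pow_orderOf_eq_one])
        have := Finset.card_le_card h4
        omega
      rw [hgen, Subgroup.zpowers_le, ← huw]
      exact u.2.1
    have hch : h * c = c * h := Subgroup.mem_centralizer_iff.1 hc h hhH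
    by_cases hcC : c ∈ C
    · exact hZH (hmeet c hcC hch)
    · have hmul : c * h⁻¹ ∈ C := by
        rw [Subgroup.mul_mem_iff_of_index_two hCi, inv_mem_iff]
        exact iff_of_false hcC hhC
      have := mul_mem (hZH (hmeet _ hmul (by
        rw [← mul_assoc, hch, mul_assoc, mul_inv_cancel, inv_mul_cancel_right, mul_one]))) hhH
      rwa [inv_mul_cancel_right] at this

end Cfsg.Agent.S3919
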