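import Cfsg.Statements.S3920
import Mathlib.GroupTheory.SpecificGroups.Dihedral
import Mathlib.GroupTheory.SpecificGroups.Cyclic
import Mathlib.Data.ZMod.Basic
import Mathlib.Tactic

set_option autoImplicit false
open Cfsg

namespace Cfsg.Agent.S3920

open DihedralGroup

theorem two_torsion {n : ℕ} [NeZero n] {t : ZMod n} (ht : t + t = 0) (h0 : t ≠ 0) : t.val * 2 = n := by
  have h : ((t.val * 2 : ℕ) : ZMod n) = 0 := by rw [Nat.cast_mul, ZMod.natCast_zmod_val]; push_cast; linear_combination ht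
  rw [ZMod.natCast_eq_zero_iff] at h
  obtain ⟨c, hc⟩ := h
  have h1 := ZMod.val_lt t
  have h2 : 0 < t.val := Nat.pos_of_ne_zero fun h => h0 ((ZMod.val_eq_zero t).1 h)
  rcases c with _ | _ | c
  · omega
  · omega
  · exfalso
    have : n * 2 ≤ n * (c + 1 + 1) := Nat.mul_le_mul_left n (by omega)
    omega

theorem exists_two_torsion_multiple {n : ℕ} {k : ℕ} (hn : n = 2 ^ k) {a : ZMod n} (ha : a ≠ 0) :
    ∃ m : ℕ, (m : ZMod n) * a + m * a = 0 ∧ (m : ZMod n) * a ≠ 0 := by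
  have hex : ∃ i, ((2 ^ i : ℕ) : ZMod n) * a = 0 := ⟨k, by rw [← hn, ZMod.natCast_self, zero_mul]⟩
  obtain ⟨i, hi⟩ : ∃ i, Nat.find hex = i + 1 := by
    refine ⟨Nat.find hex - 1, ?_⟩
    have : Nat.find hex ≠ 0 := fun h => ha (by
      have := Nat.find_spec hex
      rwa [h, pow_zero, Nat.cast_one, one_mul] at this)
    omega
  refine ⟨2 ^ i, ?_, Nat.find_min hex (by omega)⟩
  have := Nat.find_spec hex
  rw [hi, pow_succ, Nat.cast_mul] at this
  rw [← this]; push_cast; ring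

theorem forward {n : ℕ} (hn : 3 ≤ n)
    (h : ∀ H : Subgroup (DihedralGroup n), ¬ IsCyclic ↥H → Subgroup.centralizer (H : Set (DihedralGroup n)) ≤ H) :
    Odd n ∨ ∃ k : ℕ, n = 2 ^ k := by
  by_contra hcon
  push Not at hcon
  obtain ⟨hodd, hpow⟩ := hcon
  obtain ⟨a, m, hm, hnm⟩ := Nat.exists_eq_pow_mul_and_not_dvd (by omega : n ≠ 0) 2 (by omega)
  have hm1 : m ≠ 1 := fun h => hpow a (by rw [hnm, h, mul_one])
  have hm3 : 3 ≤ m := by omega
  obtain ⟨b, rfl⟩ : ∃ b, a = b + 1 := by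
    refine ⟨a - 1, ?_⟩
    have : a ≠ 0 := fun h => hodd (by rw [hnm, h, pow_zero, one_mul]; rw [Nat.odd_iff]; omega)
    omega
  haveI : NeZero n := ⟨by omega⟩
  let H : Subgroup (DihedralGroup n) :=
    { carrier := {x | (∃ i : ZMod n, x = r (((2 ^ (b + 1) : ℕ) : ZMod n) * i)) ∨
        ∃ i : ZMod n, x = sr (((2 ^ (b + 1) : ℕ) : ZMod n) * i)}
      mul_mem' := by
        rintro x y (⟨i, rfl⟩ | ⟨i, rfl⟩) (⟨j, rfl⟩ | ⟨j, rfl⟩)
        · exact Or.inl ⟨i + j, by rw [r_mul_r, mul_add]⟩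
        · exact Or.inr ⟨j - i, by rw [r_mul_sr, mul_sub]⟩
        · exact Or.inr ⟨i + j, by rw [sr_mul_r, mul_add]⟩
        · exact Or.inl ⟨j - i, by rw [sr_mul_sr, mul_sub]⟩
      one_mem' := Or.inl ⟨0, by rw [mul_zero, one_def]⟩
      inv_mem' := by
        rintro x (⟨i, rfl⟩ | ⟨i, rfl⟩)
        · exact Or.inl ⟨-i, by rw [inv_r, mul_neg]⟩
        · exact Or.inr ⟨i, by rw [inv_sr]⟩ }
  have hlt : 2 ^ b * m < n := by
    rw [hnm, pow_succ]
    have : 0 < 2 ^ b * m := Nat.mul_pos (pow_pos two_pos b) (by omega)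
    nlinarith
  have hnc : ¬ IsCyclic H := by
    intro hc
    have h1 : r (((2 ^ (b + 1) : ℕ) : ZMod n) * 1) ∈ H := Or.inl ⟨1, rfl⟩
    have h2 : (sr 0 : DihedralGroup n) ∈ H := Or.inr ⟨0, by rw [mul_zero]⟩
    have h3 := congrArg Subtype.val
      ((IsCyclic.commGroup (α := H)).mul_comm ⟨_, h1⟩ ⟨_, h2⟩)
    simp only [Subgroup.coe_mul, r_mul_sr, sr_mul_r, sr.injEq, mul_one, zero_sub, zero_add] at h3
    have h4 : ((2 ^ (b + 1) + 2 ^ (b + 1) : ℕ) : ZMod n) = 0 := by
      rw [Nat.cast_add]; linear_combination -h3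
    rw [ZMod.natCast_eq_zero_iff] at h4
    have h5 := Nat.le_of_dvd (by positivity) h4
    rw [hnm] at h5
    have : 0 < 2 ^ (b + 1) := pow_pos two_pos _
    nlinarith
  have hz : (r ((2 ^ b * m : ℕ) : ZMod n) : DihedralGroup n) ∈ Subgroup.centralizer (H : Set _) := by
    have h0 : ((2 ^ b * m : ℕ) : ZMod n) + ((2 ^ b * m : ℕ) : ZMod n) = 0 := by
      rw [← Nat.cast_add, show 2 ^ b * m + 2 ^ b * m = n by rw [hnm, pow_succ]; ring, ZMod.natCast_self]
    refine Subgroup.mem_centralizer_iff.2 fun x _ => ?_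
    cases x with
    | r i => rw [r_mul_r, r_mul_r, add_comm]
    | sr i =>
      rw [r_mul_sr, sr_mul_r]
      congr 1
      linear_combination h0
  rcases h H hnc hz with ⟨i, hi⟩ | ⟨i, hi⟩
  · rw [r.injEq, ← ZMod.natCast_zmod_val i, ← Nat.cast_mul, ZMod.natCast_eq_natCast_iff] at hi
    have h1 : 2 ^ (b + 1) ∣ 2 ^ b * m := by
      have h2 := hi.of_dvd (show 2 ^ (b + 1) ∣ n from Dvd.intro m hnm.symm)
      exact Nat.modEq_zero_iff_dvd.1 (h2.trans (Nat.modEq_zero_iff_dvd.2 (Dvd.intro _ rfl)))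
    rw [pow_succ] at h1
    exact hm (Nat.dvd_of_mul_dvd_mul_left (pow_pos two_pos b) h1)
  · simp at hi


/-- Say that a group has self-centralizing non-cyclic subgroups when every non-cyclic subgroup H satisfies C_G(H) ≤ H. For n ≥ 3, the dihedral group of order 2n has self-centralizing non-cyclic subgroups if and only if n is odd or a power of 2. -/
theorem result (n : ℕ) (hn : 3 ≤ n) : (∀ H : Subgroup (DihedralGroup n), ¬ IsCyclic ↥H → Subgroup.centralizer (H : Set (DihedralGroup n)) ≤ H) ↔ (Odd n ∨ ∃ k : ℕ, n = 2 ^ k) := by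
  haveI : NeZero n := ⟨by omega⟩
  refine ⟨forward hn, fun hn2 H hH x hx => ?_⟩
  obtain ⟨j, hj⟩ : ∃ j, sr j ∈ H := by
    by_contra! hno
    apply hH
    have hle : H ≤ Subgroup.zpowers (r 1) := fun y hy => by
      cases y with
      | r i => exact ⟨(i.val : ℤ), by simp [r_one_pow]⟩
      | sr i => exact absurd hy (hno i)
    exact isCyclic_of_injective _ (Subgroup.inclusion_injective hle)
  obtain ⟨a, ha, ha0⟩ : ∃ a, r a ∈ H ∧ a ≠ 0 := by
    by_contra! hno
    apply hH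
    refine ⟨⟨⟨sr j, hj⟩, ?_⟩⟩
    rintro ⟨y, hy⟩
    cases y with
    | r i =>
      obtain rfl := hno i hy
      exact ⟨0, Subtype.ext (show (sr j : DihedralGroup n) ^ (0 : ℤ) = r 0 by rw [zpow_zero, one_def])⟩
    | sr i =>
      have h1 := hno _ (sr_mul_sr j i ▸ H.mul_mem hj hy)
      obtain rfl : i = j := sub_eq_zero.1 h1
      exact ⟨1, zpow_one _⟩
  have htor : ∀ t : ZMod n, t + t = 0 → r t ∈ H := by
    intro t ht
    rcases eq_or_ne t 0 with rfl | ht0
    · rw [← one_def]; exact H.one_mem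
    have h1 := two_torsion ht ht0
    rcases hn2 with hodd | ⟨k, hk⟩
    · rw [Nat.odd_iff] at hodd
      omega
    · obtain ⟨m, hm, hm0⟩ := exists_two_torsion_multiple hk ha0
      have h2 := two_torsion hm hm0
      have : t = (m : ZMod n) * a := ZMod.val_injective n (by omega)
      rw [this]
      have hmem : ∀ q : ℕ, r ((q : ZMod n) * a) ∈ H := fun q => by
        induction q with
        | zero => rw [Nat.cast_zero, zero_mul, ← one_def]; exact H.one_mem
        | succ q ih => rw [Nat.cast_succ, add_mul, one_mul, ← r_mul_r]; exact H.mul_mem ih ha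
      exact hmem m
  have hx' := Subgroup.mem_centralizer_iff.1 hx _ hj
  cases x with
  | r i =>
    rw [sr_mul_r, r_mul_sr, sr.injEq] at hx'
    exact htor i (by linear_combination hx')
  | sr i =>
    rw [sr_mul_sr, sr_mul_sr, r.injEq] at hx'
    have := H.mul_mem hj (htor (i - j) (by linear_combination hx'))
    rwa [sr_mul_r, add_sub_cancel] at this

end Cfsg.Agent.S3920
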