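import Cfsg.Statements.S3927
import Cfsg.Agent.ZipperClosure.Iterated
-- Template for statement S3927 (row 3927; see /opt/grader/pristine/manifest.json for weights).
-- Copy to Cfsg/Agent/S3927.lean and replace the sorry. The statement below is byte-identical to the frozen
-- statement Cfsg.CfsgFrozen.S3927 (Cfsg/Statements/S3927.lean; the theorem Cfsg.fg3_iterated_commutators_with_automorphism_generate);
-- the grader kernel-checks Cfsg.Agent.S3927.result against that frozen type. Keep the theorem IN THIS FILE
-- (a `result` declared elsewhere and merely imported here is not credited); helpers may live anywhere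
-- under Cfsg/Agent/.
-- import your own Cfsg.Agent.* helpers here

set_option autoImplicit false
open Cfsg

namespace Cfsg.Agent.S3927

/-- Let G be a finite group and α an automorphism of G with [G, α] = G, that is, the elements g·α(g)⁻¹ generate G. Then for every k ≥ 1 the iterated commutators [g, α, …, α] with k entries α — the values of the k-th iterate of the map c ↦ c·α(c)⁻¹ — also generate G. -/
theorem result {G : Type*} [Group G] [Finite G] (α : MulAut G) (hG : Subgroup.closure (Set.range (fun c : G => c * (α c)⁻¹)) = ⊤) (k : ℕ) (hk : 1 ≤ k) :
    Subgroup.closure (Set.range ((fun c : G => c * (α c)⁻¹)^[k])) = ⊤ := by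
  exact CfsgLib.ZipperClosure.iterated_twist_generate _ G rfl α hG k

end Cfsg.Agent.S3927
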