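import Cfsg.Statements.S3937
import Cfsg.Agent.Solvable.Zipper
import Cfsg.Agent.Comp.Fitting

set_option autoImplicit false
open Cfsg

namespace Cfsg.Agent.S3937

open scoped commutatorElement Pointwise
open Subgroup

theorem foldl_replicate {G : Type*} [Group G] (g x : G) (n : ℕ) :
    (List.replicate n g).foldl (fun a b => a * b * a⁻¹ * b⁻¹) x =
      (fun a => a * g * a⁻¹ * g⁻¹)^[n] x := by
  induction n generalizing x with
  | zero => rfl
  | succ n ih => rw [List.replicate_succ, List.foldl_cons, ih, Function.iterate_succ_apply]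

theorem engel_of_mem {G : Type*} [Group G] [Finite G] (g : G) (hg : g ∈ Cfsg.fittingSubgroup G)
    (x : G) : ∃ n, (fun a => a * g * a⁻¹ * g⁻¹)^[n] x = 1 := by
  set F := Cfsg.fittingSubgroup G with hF
  haveI : F.Normal := sSup_normal _ fun N hN => hN.1
  haveI hnil : Group.IsNilpotent F := CfsgLib.Comp.fitting_isNilpotent
  obtain ⟨c, hc⟩ := Subgroup.nilpotent_iff_lowerCentralSeries.1 hnil
  have hx1 : x * g * x⁻¹ * g⁻¹ ∈ F :=
    mul_mem (Normal.conj_mem inferInstance g hg x) (inv_mem hg)
  have key : ∀ n : ℕ, ∃ y : F, y ∈ (⊤ : Subgroup F).lowerCentralSeries n ∧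
      ((y : F) : G) = (fun a => a * g * a⁻¹ * g⁻¹)^[n + 1] x := by
    intro n
    induction n with
    | zero => exact ⟨⟨_, hx1⟩, mem_top _, rfl⟩
    | succ n ih =>
      obtain ⟨y, hy, hye⟩ := ih
      refine ⟨⁅y, (⟨g, hg⟩ : F)⁆, Subgroup.commutator_mem_commutator hy (mem_top _), ?_⟩
      rw [Function.iterate_succ_apply' _ (n + 1), ← hye]
      rfl
  obtain ⟨y, hy, hye⟩ := key c
  rw [hc, mem_bot] at hy
  exact ⟨c + 1, by rw [← hye, hy]; rfl⟩

universe u

theorem aux : ∀ (n : ℕ) (G : Type u) [Group G] [Finite G], Nat.card G = n → ∀ g : G,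
    (∀ x : G, ∃ k, (fun a => a * g * a⁻¹ * g⁻¹)^[k] x = 1) → g ∈ Cfsg.fittingSubgroup G := by
  intro n
  induction n using Nat.strong_induction_on with
  | _ n ih =>
  intro G _ _ hn g h
  subst hn
  classical
  set A := zpowers g with hA
  suffices hsn : A.IsSubnormal from
    CfsgLib.Comp.subnormal_nilpotent_le_fitting hsn (letI : CommGroup A := { (inferInstance : Group A) with
      mul_comm := fun a b => Subtype.ext (by
        obtain ⟨i, hi⟩ := mem_zpowers_iff.1 a.2
        obtain ⟨j, hj⟩ := mem_zpowers_iff.1 b.2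
        rw [Subgroup.coe_mul, Subgroup.coe_mul, ← hi, ← hj]
        exact ((Commute.refl g).zpow_zpow i j).eq) }; inferInstance) (mem_zpowers g)
  by_contra hsn
  have hprop : ∀ V : Subgroup G, A ≤ V → V ≠ ⊤ → (A.subgroupOf V).IsSubnormal := by
    intro V hAV hV
    have hgV : g ∈ V := hAV (mem_zpowers g)
    have hmem : (⟨g, hgV⟩ : V) ∈ Cfsg.fittingSubgroup V := by
      refine ih _ (CfsgLib.Solvable.card_lt_of_ne_top hV) V rfl _ fun x => ?_
      obtain ⟨k, hk⟩ := h x
      refine ⟨k, Subtype.ext ?_⟩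
      have hit : ∀ (i : ℕ) (y : V), (((fun a : V => a * ⟨g, hgV⟩ * a⁻¹ * (⟨g, hgV⟩ : V)⁻¹)^[i] y : V) : G) =
          (fun a => a * g * a⁻¹ * g⁻¹)^[i] (y : G) := by
        intro i
        induction i with
        | zero => intro y; rfl
        | succ i ihi => intro y; rw [Function.iterate_succ_apply, ihi]; rfl
      rw [hit, hk]; rfl
    set F := Cfsg.fittingSubgroup V with hF
    haveI : F.Normal := sSup_normal _ fun N hN => hN.1
    haveI hnil : Group.IsNilpotent F := CfsgLib.Comp.fitting_isNilpotent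
    have hle : A.subgroupOf V ≤ F := by
      intro x hx
      obtain ⟨i, hi⟩ := mem_zpowers_iff.1 (mem_subgroupOf.1 hx)
      rw [show x = (⟨g, hgV⟩ : V) ^ i from Subtype.ext (by rw [Subgroup.coe_zpow]; exact hi.symm)]
      exact zpow_mem hmem i
    refine IsSubnormal.trans hle ?_ (Subgroup.Normal.isSubnormal inferInstance)
    generalize (A.subgroupOf V).subgroupOf F = H
    induction hi : H.index using Nat.strong_induction_on generalizing H with
    | _ i ihi =>
      subst hi
      by_cases hH : H = ⊤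
      · subst hH; exact IsSubnormal.top
      have hlt := Group.normalizerCondition_of_isNilpotent H (lt_top_iff_ne_top.2 hH)
      exact IsSubnormal.step H _ hlt.le (ihi _ (index_strictAnti hlt) _ rfl)
        (normal_subgroupOf_of_le_normalizer le_rfl)
  obtain ⟨M, hM, hAM, huniq⟩ := CfsgLib.Zipper.zipper A hprop hsn
  have hgM : g ∈ M := hAM (mem_zpowers g)
  have hnorm : ∀ a : G, a * g * a⁻¹ ∈ M → a ∈ normalizer (M : Set G) := by
    intro a ha
    refine mem_normalizer_iff_map_conj_eq.2 ?_
    set M' := M.comap (MulAut.conj a).toMonoidHom with hM'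
    have hne : M' ≠ ⊤ := fun he => hM.1 (eq_top_iff.2 fun y _ => by
      have : a⁻¹ * y * a ∈ M' := he.ge (mem_top _)
      simpa [M', mul_assoc] using this)
    have hle : M' ≤ M := huniq M' (zpowers_le.2 (by simpa [M'] using ha)) hne
    have he : M' = M := by
      refine CfsgLib.Solvable.eq_of_le_of_card_le hle (le_of_eq ?_)
      rw [hM', comap_equiv_eq_map_symm', card_map_of_injective]
      exact (MulAut.conj a).symm.injective
    conv_lhs => rw [← he, hM']
    exact map_comap_eq_self_of_surjective (MulAut.conj a).surjective M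
  by_cases hMn : normalizer (M : Set G) = ⊤
  · haveI : M.Normal := normalizer_eq_top_iff.1 hMn
    refine hsn (IsSubnormal.trans hAM (hprop M hAM hM.1) (Subgroup.Normal.isSubnormal inferInstance))
  have hNM : normalizer (M : Set G) = M :=
    ((hM.le_iff.1 le_normalizer).resolve_left hMn)
  obtain ⟨x, hx⟩ : ∃ x, x ∉ M := by
    by_contra hc
    push Not at hc
    exact hM.1 (eq_top_iff.2 fun y _ => hc y)
  obtain ⟨k, hk⟩ := h x
  have hex : ∃ i, (fun a => a * g * a⁻¹ * g⁻¹)^[i] x ∈ M := ⟨k, by rw [hk]; exact one_mem M⟩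
  obtain ⟨i, hi⟩ : ∃ i, Nat.find hex = i + 1 := Nat.exists_eq_succ_of_ne_zero fun h0 => hx (by
    have := Nat.find_spec hex
    rwa [h0] at this)
  have h1 : (fun a => a * g * a⁻¹ * g⁻¹)^[i] x ∉ M := Nat.find_min hex (by omega)
  have h2 := Nat.find_spec hex
  rw [hi, Function.iterate_succ_apply'] at h2
  refine h1 (hNM.le (hnorm _ ?_))
  simpa using mul_mem h2 hgM

theorem mem_of_engel {G : Type u} [Group G] [Finite G] (g : G)
    (h : ∀ x : G, ∃ k, (fun a => a * g * a⁻¹ * g⁻¹)^[k] x = 1) : g ∈ Cfsg.fittingSubgroup G :=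
  aux _ G rfl g h

/-- Baer's characterization of the Fitting subgroup: in a finite group G, an element g lies in the Fitting subgroup if and only if g is a left Engel element, that is, for every x there is n with [x, g, g, …, g] = 1 (n entries g, [a, b] = aba⁻¹b⁻¹). -/
theorem result {G : Type*} [Group G] [Finite G] (g : G) :
    g ∈ Cfsg.fittingSubgroup G ↔ ∀ x : G, ∃ n : ℕ, (List.replicate n g).foldl (fun a b => a * b * a⁻¹ * b⁻¹) x = 1 := by
  rw [iff_iff_implies_and_implies]
  exact ⟨fun hg x => by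
      obtain ⟨n, hn⟩ := engel_of_mem g hg x
      exact ⟨n, by rw [foldl_replicate]; exact hn⟩,
    fun h => mem_of_engel g fun x => (h x).imp fun n hn => by rwa [foldl_replicate] at hn⟩

end Cfsg.Agent.S3937
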