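import Cfsg.Statements.S3939
import Cfsg.Agent.FGSA.Nilpotent
import Cfsg.Agent.Transfer.PResidual

set_option autoImplicit false
open Cfsg

namespace Cfsg.Agent.S3939

open Subgroup
open scoped commutatorElement

theorem forward {G : Type*} [Group G] [Finite G] (g : G)
    (h : ∀ x : G, Group.IsNilpotent ↥(closure ({x, g} : Set G))) :
    g ∈ ⨆ n : ℕ, Subgroup.upperCentralSeries G n := by
  refine CfsgLib.FGSA.le_of_prime_power_mem (A := zpowers g) (fun p hp a ha hk => ?_) (mem_zpowers g)
  haveI := Fact.mk hp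
  obtain ⟨k, hk⟩ := hk
  have hR : Cfsg.pResidual p G ≤ centralizer ({a} : Set G) := by
    rw [Cfsg.pResidual, closure_le]
    intro y hy
    have hgy : g ∈ closure ({y, g} : Set G) :=
      Subgroup.subset_closure (Set.mem_insert_of_mem _ (Set.mem_singleton g))
    have hag : a ∈ closure ({y, g} : Set G) := by
      obtain ⟨i, hi⟩ := mem_zpowers_iff.1 ha
      rw [← hi]; exact zpow_mem hgy i
    have hyg : y ∈ closure ({y, g} : Set G) := subset_closure (Set.mem_insert _ _)
    haveI := h y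
    have := CfsgLib.FGSA.commute_of_coprime_orderOf (⟨y, hyg⟩ : closure ({y, g} : Set G)) ⟨a, hag⟩
      (by
        rw [orderOf_mk, orderOf_mk, hk]
        exact Nat.Coprime.pow_right k (show (orderOf y).Coprime p from hy))
    exact mem_centralizer_singleton_iff.2 (congrArg Subtype.val this.eq)
  have haR : ∀ b ∈ Cfsg.pResidual p G, b * a = a * b := fun b hb =>
    mem_centralizer_singleton_iff.1 (hR hb)
  obtain ⟨P, hP⟩ := (IsPGroup.of_card (n := k) (by rw [Nat.card_zpowers, hk]) :
    IsPGroup p (zpowers a)).exists_le_sylow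
  have htop : Cfsg.pResidual p G ⊔ (P : Subgroup G) = ⊤ := by
    obtain ⟨j, hj⟩ := CfsgLib.PResidual.exists_index_pResidual (p := p) (G := G)
    rw [← index_eq_one]
    exact Nat.eq_one_of_dvd_coprimes
      (Nat.Coprime.pow_left j (Nat.Prime.coprime_iff_not_dvd hp |>.2 P.not_dvd_index))
      (hj ▸ index_dvd_of_le le_sup_left) (index_dvd_of_le le_sup_right)
  have hdec : ∀ y : G, ∃ b ∈ Cfsg.pResidual p G, ∃ r ∈ (P : Subgroup G), b * r = y := fun y =>
    mem_sup_of_normal_left.1 (htop.ge (mem_top y))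
  have haP : a ∈ (P : Subgroup G) := hP (mem_zpowers a)
  set N := normalClosure ({a} : Set G) with hN
  have hNP : N ≤ (P : Subgroup G) := by
    rw [hN, normalClosure, closure_le]
    intro z hz
    obtain ⟨a', ha', haz⟩ := Group.mem_conjugatesOfSet_iff.1 hz
    rw [Set.mem_singleton_iff] at ha'
    subst ha'
    obtain ⟨c, rfl⟩ := isConj_iff.1 haz
    obtain ⟨b, hb, r, hr, rfl⟩ := hdec c
    have h1 : r * a' * r⁻¹ ∈ (P : Subgroup G) := mul_mem (mul_mem hr haP) (inv_mem hr)
    have h2 : b * (r * a' * r⁻¹) * b⁻¹ = r * a' * r⁻¹ := by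
      have h3 := haR _ (Normal.conj_mem inferInstance b hb r⁻¹)
      calc b * (r * a' * r⁻¹) * b⁻¹ = r * ((r⁻¹ * b * r⁻¹⁻¹) * a') * r⁻¹ * b⁻¹ := by group
        _ = r * (a' * (r⁻¹ * b * r⁻¹⁻¹)) * r⁻¹ * b⁻¹ := by rw [h3]
        _ = r * a' * r⁻¹ := by group
    show b * r * a' * (b * r)⁻¹ ∈ (P : Subgroup G)
    rw [show b * r * a' * (b * r)⁻¹ = b * (r * a' * r⁻¹) * b⁻¹ by group, h2]
    exact h1
  have hNR : ∀ x ∈ N, ∀ b ∈ Cfsg.pResidual p G, b * x = x * b := by
    have hle : N ≤ centralizer (Cfsg.pResidual p G : Set G) := by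
      refine normalClosure_le_normal (Set.singleton_subset_iff.2 ?_)
      exact mem_centralizer_iff.2 fun b hb => haR b hb
    exact fun x hx b hb => mem_centralizer_iff.1 (hle hx) b hb
  haveI hnil := P.2.isNilpotent
  obtain ⟨c, hc⟩ := Group.IsNilpotent.nilpotent (G := (P : Subgroup G))
  have key : ∀ i : ℕ, ∀ x : (P : Subgroup G),
      x ∈ Subgroup.upperCentralSeries (P : Subgroup G) i → (x : G) ∈ N →
      (x : G) ∈ Subgroup.upperCentralSeries G i := by
    intro i
    induction i with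
    | zero =>
      intro x hx _
      rw [Subgroup.upperCentralSeries_zero, mem_bot] at hx ⊢
      rw [hx]; rfl
    | succ i ih =>
      intro x hx hxN
      rw [Subgroup.mem_upperCentralSeries_succ_iff]
      intro y
      obtain ⟨b, hb, r, hr, rfl⟩ := hdec y
      have h1 := Subgroup.mem_upperCentralSeries_succ_iff.1 hx ⟨r, hr⟩
      have h2 : ⁅(x : G), r⁆ ∈ N := by
        rw [commutatorElement_def, mul_assoc, mul_assoc, ← mul_assoc r]
        exact mul_mem hxN (Normal.conj_mem normalClosure_normal _ (inv_mem hxN) r)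
      have h3 : ⁅(x : G), b * r⁆ = ⁅(x : G), r⁆ := by
        calc ⁅(x : G), b * r⁆ = ((x : G) * b) * r * (x : G)⁻¹ * r⁻¹ * b⁻¹ := by
              simp only [commutatorElement_def]; group
          _ = b * ⁅(x : G), r⁆ * b⁻¹ := by
              rw [← hNR _ hxN b hb]; simp only [commutatorElement_def]; group
          _ = ⁅(x : G), r⁆ := by rw [hNR _ h2 b hb, mul_inv_cancel_right]
      rw [h3]
      exact ih ⁅x, (⟨r, hr⟩ : (P : Subgroup G))⁆ h1 h2
  exact mem_iSup_of_mem c (key c ⟨a, haP⟩ (hc ▸ mem_top _) (subset_normalClosure rfl))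

theorem backward {G : Type*} [Group G] [Finite G] (g : G) (hg : g ∈ ⨆ n : ℕ, Subgroup.upperCentralSeries G n)
    (x : G) : Group.IsNilpotent ↥(closure ({x, g} : Set G)) := by
  rw [mem_iSup_of_directed (Subgroup.upperCentralSeries_mono G).directed_le] at hg
  obtain ⟨n, hn⟩ := hg
  set H := closure ({x, g} : Set G) with hH
  have hsub : ∀ i : ℕ, ∀ y : H, (y : G) ∈ Subgroup.upperCentralSeries G i → y ∈ Subgroup.upperCentralSeries H i := by
    intro i
    induction i with
    | zero =>
      intro y hy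
      rw [Subgroup.upperCentralSeries_zero, mem_bot] at hy ⊢
      exact Subtype.ext hy
    | succ i ih =>
      intro y hy
      rw [Subgroup.mem_upperCentralSeries_succ_iff] at hy ⊢
      exact fun z => ih _ (hy z)
  have hxH : x ∈ H := subset_closure (Set.mem_insert _ _)
  have hgH : g ∈ H := subset_closure (Set.mem_insert_of_mem _ rfl)
  let π := QuotientGroup.mk' (Subgroup.upperCentralSeries H n)
  have hle : H ≤ ((zpowers (π ⟨x, hxH⟩)).comap π).map H.subtype := by
    refine (closure_le _).2 ?_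
    rintro z (rfl | rfl)
    · exact ⟨⟨z, hxH⟩, mem_zpowers _, rfl⟩
    · refine ⟨⟨z, hgH⟩, ?_, rfl⟩
      show π ⟨z, hgH⟩ ∈ zpowers (π ⟨x, hxH⟩)
      rw [show π ⟨z, hgH⟩ = 1 from (QuotientGroup.eq_one_iff _).2 (hsub n ⟨z, hgH⟩ hn)]
      exact one_mem _
  have hcyc : ∀ z : H, π z ∈ zpowers (π ⟨x, hxH⟩) := fun z => by
    obtain ⟨w, hw, hwz⟩ := hle z.2
    rwa [show w = z from Subtype.ext hwz] at hw
  refine ⟨n + 1, eq_top_iff.2 fun a _ => Subgroup.mem_upperCentralSeries_succ_iff.2 fun b => ?_⟩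
  rw [← QuotientGroup.eq_one_iff]
  show π ⁅a, b⁆ = 1
  obtain ⟨i, hi⟩ := mem_zpowers_iff.1 (hcyc a)
  obtain ⟨j, hj⟩ := mem_zpowers_iff.1 (hcyc b)
  rw [map_commutatorElement, ← hi, ← hj, commutatorElement_eq_one_iff_commute]
  exact (Commute.refl _).zpow_zpow i j

/-- In a finite group G the set of elements g such that the subgroup generated by g and x is nilpotent for every x ∈ G is exactly the hypercenter of G (the last term of the upper central series). -/
theorem result {G : Type*} [Group G] [Finite G] (g : G) :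
    (∀ x : G, Group.IsNilpotent ↥(Subgroup.closure ({x, g} : Set G))) ↔ g ∈ ⨆ n : ℕ, Subgroup.upperCentralSeries G n := by
  exact ⟨forward g, fun hg x => backward g hg x⟩

end Cfsg.Agent.S3939
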