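import Cfsg.Statements.S3941
import Mathlib.GroupTheory.SpecificGroups.Alternating
import Mathlib.GroupTheory.Perm.Fin
import Mathlib.GroupTheory.Sylow
import Cfsg.Prelude.Def_LocalStructure
import Mathlib.Tactic

set_option autoImplicit false
open Cfsg

namespace Cfsg.Agent.S3941

/-- Let n ≥ 5 and p an odd prime with p ≤ n, and suppose that every proper subgroup of the alternating group of degree n whose order is divisible by p has a normal Sylow p-subgroup. Then n = p. -/
theorem result (n p : ℕ) (hn : 5 ≤ n) [Fact p.Prime] (hp : p ≠ 2) (hpn : p ≤ n)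
    (h : ∀ H : Subgroup ↥(alternatingGroup (Fin n)), H ≠ ⊤ → p ∣ Nat.card ↥H → Cfsg.IsPClosed p ↥H) : n = p := by
  classical
  have hp' : p.Prime := Fact.out
  have hp3 : 3 ≤ p := by have := hp'.two_le; omega
  by_contra hne
  have hlt : p < n := by omega
  haveI : NeZero n := ⟨by omega⟩
  let a : Fin n := ⟨0, by omega⟩
  let b : Fin n := ⟨1, by omega⟩
  let d : Fin n := ⟨2, by omega⟩
  let e : Fin n := ⟨3, by omega⟩
  let l : Fin n := ⟨n - 1, by omega⟩
  let H : Subgroup (alternatingGroup (Fin n)) :=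
    (MulAction.stabilizer (Equiv.Perm (Fin n)) l).comap (alternatingGroup (Fin n)).subtype
  have hab : a ≠ b := by simp [a, b, Fin.ext_iff]
  have had : a ≠ d := by simp [a, d, Fin.ext_iff]
  have hae : a ≠ e := by simp [a, e, Fin.ext_iff]
  have hbd : b ≠ d := by simp [b, d, Fin.ext_iff]
  have hbe : b ≠ e := by simp [b, e, Fin.ext_iff]
  have hde : d ≠ e := by simp [d, e, Fin.ext_iff]
  have hla : l ≠ a := by simp [l, a, Fin.ext_iff]; omega
  have hlb : l ≠ b := by simp [l, b, Fin.ext_iff]; omega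
  have hld : l ≠ d := by simp [l, d, Fin.ext_iff]; omega
  have hle : l ≠ e := by simp [l, e, Fin.ext_iff]; omega
  have hswap : ∀ x y : Fin n, x ≠ y → ∀ u v : Fin n, u ≠ v →
      Equiv.swap x y * Equiv.swap u v ∈ alternatingGroup (Fin n) := fun x y hxy u v huv => by
    rw [Equiv.Perm.mem_alternatingGroup, map_mul, Equiv.Perm.sign_swap hxy, Equiv.Perm.sign_swap huv]
    rfl
  let τ : alternatingGroup (Fin n) := ⟨Equiv.swap a b * Equiv.swap b d, hswap a b hab b d hbd⟩
  let τ' : alternatingGroup (Fin n) := ⟨Equiv.swap b d * Equiv.swap d e, hswap b d hbd d e hde⟩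
  have hH : H ≠ ⊤ := fun htop => by
    have hm : (⟨Equiv.swap l a * Equiv.swap a b, hswap l a hla a b hab⟩ : alternatingGroup (Fin n)) ∈ H :=
      htop ▸ Subgroup.mem_top _
    have h1 : (Equiv.swap l a * Equiv.swap a b) l = l := hm
    rw [Equiv.Perm.mul_apply, Equiv.swap_apply_of_ne_of_ne hla hlb, Equiv.swap_apply_left] at h1
    exact hla h1.symm
  let i : Fin n := ⟨p - 1, by omega⟩
  have hi0 : i ≠ 0 := by simp [i, Fin.ext_iff]; omega
  let c : alternatingGroup (Fin n) := ⟨Fin.cycleRange i, by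
    rw [Equiv.Perm.mem_alternatingGroup, Fin.sign_cycleRange]
    obtain ⟨k, hk⟩ := hp'.odd_of_ne_two hp
    exact Even.neg_one_pow ⟨k, by simp [i]; omega⟩⟩
  have hco : orderOf c = p := by
    rw [← Subgroup.orderOf_coe, ← Equiv.Perm.lcm_cycleType,
      Fin.cycleType_cycleRange hi0, Multiset.lcm_singleton]
    simp [i]; omega
  have hcH : c ∈ H := by
    show Fin.cycleRange i l = l
    exact Fin.cycleRange_of_gt (by simp [i, l, Fin.lt_def]; omega)
  have hcard : p ∣ Nat.card H := by
    rw [← hco, ← Subgroup.orderOf_mk c hcH]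
    exact orderOf_dvd_natCard _
  have hcl := h H hH hcard
  obtain ⟨P⟩ := (inferInstance : Nonempty (Sylow p H))
  haveI := Sylow.unique_of_normal P (hcl P)
  have hmem : ∀ x : H, (∃ k : ℕ, orderOf x = p ^ k) → x ∈ (P : Subgroup H) := fun x ⟨k, hk⟩ => by
    obtain ⟨Q, hQ⟩ := (IsPGroup.of_card (p := p) (G := Subgroup.zpowers x) (n := k)
      (by rw [Nat.card_zpowers, hk])).exists_le_sylow
    rw [Subsingleton.elim P Q]
    exact hQ (Subgroup.mem_zpowers x)
  have hτH : τ ∈ H := by
    show (Equiv.swap a b * Equiv.swap b d) l = l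
    rw [Equiv.Perm.mul_apply, Equiv.swap_apply_of_ne_of_ne hlb hld, Equiv.swap_apply_of_ne_of_ne hla hlb]
  have hτ'H : τ' ∈ H := by
    show (Equiv.swap b d * Equiv.swap d e) l = l
    rw [Equiv.Perm.mul_apply, Equiv.swap_apply_of_ne_of_ne hld hle, Equiv.swap_apply_of_ne_of_ne hlb hld]
  have hthree : ∀ x y z : Fin n, x ≠ y → x ≠ z → y ≠ z → orderOf (Equiv.swap x y * Equiv.swap x z) = 3 :=
    fun x y z h1 h2 h3 => (Equiv.Perm.isThreeCycle_swap_mul_swap_same h1 h2 h3).orderOf
  have key : ∀ x : H, x ∈ (P : Subgroup H) → ∀ q : ℕ, q.Prime → orderOf ((x : alternatingGroup (Fin n)) : Equiv.Perm (Fin n)) = q →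
      q = p := fun x hx q hq hxq => by
    obtain ⟨k, hk⟩ := IsPGroup.iff_orderOf.1 P.2 ⟨x, hx⟩
    rw [← Subgroup.orderOf_coe, ← Subgroup.orderOf_coe, ← Subgroup.orderOf_coe, hxq] at hk
    exact (Nat.prime_dvd_prime_iff_eq hq hp').1 (hq.dvd_of_dvd_pow hk.dvd)
  rcases eq_or_ne p 3 with rfl | hp5
  · have h1 : (⟨τ, hτH⟩ : H) ∈ (P : Subgroup H) := hmem _ ⟨1, by
      rw [Subgroup.orderOf_mk, ← Subgroup.orderOf_coe, pow_one]
      show orderOf (Equiv.swap a b * Equiv.swap b d) = 3
      rw [Equiv.swap_comm a b]; exact hthree b a d hab.symm hbd had⟩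
    have h2 : (⟨τ', hτ'H⟩ : H) ∈ (P : Subgroup H) := hmem _ ⟨1, by
      rw [Subgroup.orderOf_mk, ← Subgroup.orderOf_coe, pow_one]
      show orderOf (Equiv.swap b d * Equiv.swap d e) = 3
      rw [Equiv.swap_comm b d]; exact hthree d b e hbd.symm hde hbe⟩
    have h3 := key _ ((P : Subgroup H).mul_mem h1 h2) 2 Nat.prime_two (by
      show orderOf ((Equiv.swap a b * Equiv.swap b d) * (Equiv.swap b d * Equiv.swap d e)) = 2
      rw [mul_assoc, ← mul_assoc (Equiv.swap b d), Equiv.swap_mul_self, one_mul]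
      refine orderOf_eq_prime ?_ ?_
      · have hc : Equiv.swap d e * Equiv.swap a b = Equiv.swap a b * Equiv.swap d e := by
          have h5 := Equiv.swap_apply_apply (Equiv.swap d e) a b
          rw [Equiv.swap_apply_of_ne_of_ne had hae, Equiv.swap_apply_of_ne_of_ne hbd hbe] at h5
          exact (eq_mul_inv_iff_mul_eq.1 h5).symm
        calc (Equiv.swap a b * Equiv.swap d e) ^ 2
            = Equiv.swap a b * (Equiv.swap d e * Equiv.swap a b) * Equiv.swap d e := by rw [sq]; group
          _ = _ := by rw [hc, ← mul_assoc, Equiv.swap_mul_self, one_mul, Equiv.swap_mul_self]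
      · intro h4
        have h5 := DFunLike.congr_fun h4 a
        rw [Equiv.Perm.mul_apply, Equiv.swap_apply_of_ne_of_ne had hae, Equiv.swap_apply_left] at h5
        exact hab h5.symm)
    omega
  · have hp5' : 5 ≤ p := by
      have : p ≠ 4 := fun h4 => absurd (h4 ▸ hp') (by norm_num)
      omega
    have h1 : (⟨c, hcH⟩ : H) ∈ (P : Subgroup H) := hmem _ ⟨1, by rw [Subgroup.orderOf_mk, hco, pow_one]⟩
    have h2 := (P : Subgroup H).mul_mem h1
      ((hcl P).conj_mem _ ((P : Subgroup H).inv_mem h1) ⟨τ, hτH⟩)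
    have hcab : Fin.cycleRange i a = b := by
      rw [Fin.cycleRange_of_lt (by simp [i, a, Fin.lt_def]; omega)]
      simp [a, b, Fin.ext_iff, Fin.val_add, Nat.mod_eq_of_lt (show 1 < n by omega)]
    have hcbd : Fin.cycleRange i b = d := by
      rw [Fin.cycleRange_of_lt (by simp [i, b, Fin.lt_def]; omega)]
      simp [b, d, Fin.ext_iff, Fin.val_add, Nat.mod_eq_of_lt (show 1 < n by omega), Nat.mod_eq_of_lt (show 2 < n by omega)]
    have hcde : Fin.cycleRange i d = e := by
      rw [Fin.cycleRange_of_lt (by simp [i, d, Fin.lt_def]; omega)]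
      simp [d, e, Fin.ext_iff, Fin.val_add, Nat.mod_eq_of_lt (show 1 < n by omega), Nat.mod_eq_of_lt (show 3 < n by omega)]
    have h3 := key _ h2 3 Nat.prime_three (by
      show orderOf (Fin.cycleRange i * ((Equiv.swap a b * Equiv.swap b d) * (Fin.cycleRange i)⁻¹ *
        (Equiv.swap a b * Equiv.swap b d)⁻¹)) = 3
      have e1 : Fin.cycleRange i * ((Equiv.swap a b * Equiv.swap b d) * (Fin.cycleRange i)⁻¹ *
          (Equiv.swap a b * Equiv.swap b d)⁻¹) =
          (Fin.cycleRange i * Equiv.swap a b * (Fin.cycleRange i)⁻¹) *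
            (Fin.cycleRange i * Equiv.swap b d * (Fin.cycleRange i)⁻¹) *
            (Equiv.swap a b * Equiv.swap b d)⁻¹ := by group
      rw [e1, ← Equiv.swap_apply_apply, ← Equiv.swap_apply_apply, hcab, hcbd, hcde, mul_inv_rev,
        Equiv.swap_inv, Equiv.swap_inv]
      have e2 : Equiv.swap b d * Equiv.swap d e * (Equiv.swap b d * Equiv.swap a b) =
          (Equiv.swap b d * Equiv.swap d e * (Equiv.swap b d)⁻¹) * Equiv.swap a b := by
        rw [Equiv.swap_inv]; group
      rw [e2, ← Equiv.swap_apply_apply, Equiv.swap_apply_right, Equiv.swap_apply_of_ne_of_ne hbe.symm hde.symm,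
        Equiv.swap_comm a b]
      exact hthree b e a hbe hab.symm hae.symm)
    omega

end Cfsg.Agent.S3941
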