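import Cfsg.Statements.S3947
import Cfsg.Agent.ZipperClosure.Main
-- Template for statement S3947 (row 3947; see /opt/grader/pristine/manifest.json for weights).
-- Copy to Cfsg/Agent/S3947.lean and replace the sorry. The statement below is byte-identical to the frozen
-- statement Cfsg.CfsgFrozen.S3947 (Cfsg/Statements/S3947.lean; the theorem Cfsg.fg3_subgroup_with_full_normal_closure_proper_join_or_unique_maximal);
-- the grader kernel-checks Cfsg.Agent.S3947.result against that frozen type. Keep the theorem IN THIS FILE
-- (a `result` declared elsewhere and merely imported here is not credited); helpers may live anywhere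
-- under Cfsg/Agent/.
-- import your own Cfsg.Agent.* helpers here

set_option autoImplicit false
open Cfsg

namespace Cfsg.Agent.S3947

/-- Let G be a finite group and A a proper subgroup of G whose normal closure is G. Let Y be the join of all proper subgroups H of G that contain A and are generated by their own conjugates of A (the normal closure of A in H is H). Then either Y = G, or A is contained in exactly one maximal subgroup of G. -/
theorem result {G : Type*} [Group G] [Finite G] (A : Subgroup G) (hA : Subgroup.normalClosure (A : Set G) = ⊤) (hAG : A ≠ ⊤) :
    sSup {H : Subgroup G | A ≤ H ∧ H ≠ ⊤ ∧ Subgroup.normalClosure ((A.subgroupOf H : Subgroup ↥H) : Set ↥H) = ⊤} = ⊤ ∨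
      ∃! M : Subgroup G, IsCoatom M ∧ A ≤ M := by
  rw [← CfsgLib.ZipperClosure.fam_eq A]
  exact (em _).imp_right fun h => CfsgLib.ZipperClosure.unique_maximal A hA hAG h

end Cfsg.Agent.S3947
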