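import Cfsg.Statements.S3949
import Mathlib.GroupTheory.OrderOfElement
import Mathlib.Algebra.Ring.Parity
import Mathlib.Data.Nat.Factorization.Basic
import Mathlib.Tactic

set_option autoImplicit false
open Cfsg

namespace Cfsg.Agent.S3949

/-- Let G be a finite group and α an automorphism of G of order 2 such that the elements g·α(g)⁻¹ generate G. Let j be a positive integer such that 2^j divides the order of no element inverted by α. Then the set of values of the j-th iterate of the map c ↦ c·α(c)⁻¹ is exactly the set of elements of odd order inverted by α. -/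
theorem result {G : Type*} [Group G] [Finite G] (α : MulAut G) (hα : orderOf α = 2) (hG : Subgroup.closure (Set.range (fun c : G => c * (α c)⁻¹)) = ⊤)
    (j : ℕ) (hj : ∀ g : G, α g = g⁻¹ → ¬ 2 ^ j ∣ orderOf g) :
    Set.range ((fun c : G => c * (α c)⁻¹)^[j]) = {g : G | Odd (orderOf g) ∧ α g = g⁻¹} := by
  have h2 : ∀ c, α (α c) = c := fun c => by
    have h : α ^ 2 = 1 := by rw [← hα, pow_orderOf_eq_one]
    rw [pow_two] at h
    exact DFunLike.congr_fun h c
  obtain ⟨i, rfl⟩ : ∃ i, j = i + 1 := by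
    refine ⟨j - 1, ?_⟩
    have : j ≠ 0 := fun h => hj 1 (by simp) (by simp [h])
    omega
  set f := fun c : G => c * (α c)⁻¹ with hf
  have hinv : ∀ c, α (f c) = (f c)⁻¹ := fun c => by simp [hf, h2]
  have hpow : ∀ (k : ℕ) (u : G), α u = u⁻¹ → f^[k] u = u ^ (2 ^ k) := by
    intro k
    induction k with
    | zero => intro u _; simp
    | succ k ih =>
      intro u hu
      rw [Function.iterate_succ_apply', ih u hu]
      show u ^ 2 ^ k * (α (u ^ 2 ^ k))⁻¹ = _
      rw [map_pow, hu, inv_pow, inv_inv, ← pow_add, pow_succ, mul_two]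
  ext g
  constructor
  · rintro ⟨c, rfl⟩
    rw [Function.iterate_succ_apply, Set.mem_ofPred_eq, hpow i _ (hinv c)]
    refine ⟨?_, by rw [map_pow, hinv c, inv_pow]⟩
    obtain ⟨e, m, hm, hem⟩ := Nat.exists_eq_two_pow_mul_odd (orderOf_pos (f c)).ne'
    have he : e ≤ i := by
      by_contra hlt
      exact hj (f c) (hinv c) (hem ▸ Dvd.dvd.mul_right (pow_dvd_pow 2 (by omega)) m)
    refine hm.of_dvd_nat (orderOf_dvd_of_pow_eq_one ?_)
    rw [← pow_mul, ← orderOf_dvd_iff_pow_eq_one, hem]
    exact Nat.mul_dvd_mul_right (pow_dvd_pow 2 he) m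
  · rintro ⟨hodd, hg⟩
    have hcop : (orderOf g).Coprime (2 ^ (i + 1)) := Nat.Coprime.pow_right _ hodd.coprime_two_right
    obtain ⟨s, hs⟩ := exists_pow_eq_self_of_coprime hcop.symm
    refine ⟨g ^ s, ?_⟩
    rw [hpow (i + 1) (g ^ s) (by rw [map_pow, hg, inv_pow]), ← pow_mul, mul_comm s, pow_mul]
    exact hs

end Cfsg.Agent.S3949
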