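import Cfsg.Statements.S3950
import Cfsg.Agent.FGSB.StemExt
import Cfsg.Agent.Coprime.Generation
import Mathlib.Algebra.Module.ZMod
import Mathlib.FieldTheory.Finite.Basic
import Mathlib.LinearAlgebra.Basis.VectorSpace
import Mathlib.LinearAlgebra.Dual.Basis
import Mathlib.LinearAlgebra.FiniteDimensional.Basic
import Mathlib.LinearAlgebra.FreeModule.Finite.CardQuotient
import Mathlib.FieldTheory.Finiteness

set_option autoImplicit false
open Cfsg

namespace Cfsg.Agent.S3950

open Subgroup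
open scoped commutatorElement

/-- Central extension of a commutative group by a bilinear cocycle. -/
@[ext] structure Ext {G : Type*} [CommGroup G] (p : ℕ) (b : G → G → ZMod p) where
  c : ZMod p
  g : G

variable {G : Type*} [CommGroup G] {p : ℕ}

theorem exists_coords {q : ℕ} [Fact q.Prime] {V : Type*} [AddCommGroup V] [Finite V]
    [Module (ZMod q) V] (h : q ^ 2 ≤ Nat.card V) :
    ∃ (f g : V →+ ZMod q) (v w : V), f v = 1 ∧ f w = 0 ∧ g v = 0 ∧ g w = 1 := by
  classical
  have hp : q.Prime := Fact.out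
  haveI : Module.Finite (ZMod q) V := Module.Finite.of_finite
  have hrank : 2 ≤ Module.finrank (ZMod q) V := by
    by_contra hlt
    rw [Module.natCard_eq_pow_finrank (K := ZMod q), Nat.card_zmod] at h
    exact absurd ((Nat.pow_le_pow_iff_right hp.one_lt).1 h) hlt
  let B := Module.finBasis (ZMod q) V
  let i : Fin (Module.finrank (ZMod q) V) := ⟨0, by omega⟩
  let j : Fin (Module.finrank (ZMod q) V) := ⟨1, by omega⟩
  have hij : i ≠ j := by simp [i, j, Fin.ext_iff]
  exact ⟨(B.coord i).toAddMonoidHom, (B.coord j).toAddMonoidHom, B i, B j, by simp, by simp [hij.symm, Module.Basis.coord_apply],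
    by simp [hij, Module.Basis.coord_apply], by simp⟩

theorem exists_two_functionals [Finite G] (hnc : ¬ IsCyclic G) :
    ∃ (q : ℕ) (φ ψ : G →* Multiplicative (ZMod q)) (x y : G), q.Prime ∧
      (φ x).toAdd = 1 ∧ (φ y).toAdd = 0 ∧ (ψ x).toAdd = 0 ∧ (ψ y).toAdd = 1 := by
  classical
  obtain ⟨q, E, hq, hE, hEx⟩ := CfsgLib.Coprime.exists_elementary_sq hnc
  haveI := Fact.mk hq
  set R := (powMonoidHom q : G →* G).range with hR
  have hcard : q ^ 2 ≤ Nat.card (G ⧸ R) := by
    have h1 := (powMonoidHom q : G →* G).ker.card_mul_index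
    rw [index_ker, ← R.card_mul_index] at h1
    rw [← index_eq_card, ← Nat.eq_of_mul_eq_mul_right Nat.card_pos
      (h1.trans (mul_comm (Nat.card R) R.index)), ← hE]
    exact Nat.le_of_dvd Nat.card_pos (card_dvd_of_le fun x hx =>
      MonoidHom.mem_ker.2 (hEx x hx))
  let V := Additive (G ⧸ R)
  have hV : ∀ v : V, q • v = 0 := by
    intro v
    obtain ⟨g, hg⟩ := QuotientGroup.mk'_surjective R v.toMul
    apply Additive.toMul.injective
    show v.toMul ^ q = 1
    rw [← hg, ← map_pow]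
    exact (QuotientGroup.eq_one_iff _).2 ⟨g, rfl⟩
  letI : Module (ZMod q) V := AddCommGroup.zmodModule hV
  haveI : Finite V := Finite.of_equiv _ Additive.ofMul
  obtain ⟨f, g, v, w, h1, h2, h3, h4⟩ := exists_coords (q := q) (V := V)
    (hcard.trans_eq (Nat.card_congr Additive.ofMul))
  obtain ⟨x, hx⟩ := QuotientGroup.mk'_surjective R (Additive.toMul v)
  obtain ⟨y, hy⟩ := QuotientGroup.mk'_surjective R (Additive.toMul w)
  let mkf : (V →+ ZMod q) → (G →* Multiplicative (ZMod q)) := fun k =>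
    MonoidHom.mk' (fun a => Multiplicative.ofAdd
      (k (Additive.ofMul (QuotientGroup.mk' R a)))) fun a c => by
        rw [map_mul, ofMul_mul, map_add, ofAdd_add]
  have hxv : Additive.ofMul (QuotientGroup.mk' R x) = v := by rw [hx]; rfl
  have hyw : Additive.ofMul (QuotientGroup.mk' R y) = w := by rw [hy]; rfl
  refine ⟨q, mkf f, mkf g, x, y, hq, ?_, ?_, ?_, ?_⟩ <;>
    simp only [mkf, MonoidHom.mk'_apply, toAdd_ofAdd, hxv, hyw, h1, h2, h3, h4]

theorem not_cyclic_stem.{u} {G : Type u} [CommGroup G] [Finite G] (hnc : ¬ IsCyclic G) :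
    ∃ (Γ : Type u) (_ : Group Γ) (_ : Finite Γ) (σ : Γ →* G),
      Cfsg.IsStemExtension σ ∧ σ.ker ≠ ⊥ := by
  obtain ⟨q, φ, ψ, x, y, hq, hφx, hφy, hψx, hψy⟩ := exists_two_functionals hnc
  haveI := Fact.mk hq
  let b : G → G → ZMod q := fun u v => (φ u).toAdd * (ψ v).toAdd
  letI : Group (Ext q b) :=
    { mul := fun u v => ⟨u.c + v.c + b u.g v.g, u.g * v.g⟩
      one := ⟨0, 1⟩
      inv := fun u => ⟨-u.c + b u.g u.g, u.g⁻¹⟩
      mul_assoc := fun u v w => Ext.ext
        (show u.c + v.c + b u.g v.g + w.c + b (u.g * v.g) w.g =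
            u.c + (v.c + w.c + b v.g w.g) + b u.g (v.g * w.g) by
          simp only [b, map_mul, toAdd_mul]; ring)
        (show u.g * v.g * w.g = u.g * (v.g * w.g) from mul_assoc _ _ _)
      one_mul := fun u => Ext.ext
        (show (0 : ZMod q) + u.c + b 1 u.g = u.c by simp [b]) (show 1 * u.g = u.g from one_mul _)
      mul_one := fun u => Ext.ext
        (show u.c + (0 : ZMod q) + b u.g 1 = u.c by simp [b]) (show u.g * 1 = u.g from mul_one _)
      inv_mul_cancel := fun u => Ext.ext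
        (show -u.c + b u.g u.g + u.c + b u.g⁻¹ u.g = 0 by simp [b])
        (show u.g⁻¹ * u.g = 1 from inv_mul_cancel _) }
  let σ : Ext q b →* G :=
    { toFun := fun u => u.g
      map_one' := rfl
      map_mul' := fun _ _ => rfl }
  haveI : Finite (Ext q b) := Finite.of_injective (fun u => (u.c, u.g)) fun u v h => by
    simp only [Prod.mk.injEq] at h; exact Ext.ext h.1 h.2
  set z : Ext q b := ⟨1, 1⟩ with hz
  have hxy : (⟨0, x⟩ : Ext q b) * ⟨0, y⟩ = z * (⟨0, y⟩ * ⟨0, x⟩) := Ext.ext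
    (show (0 : ZMod q) + 0 + b x y = 1 + (0 + 0 + b y x) + b 1 (y * x) by
      simp [b, hφx, hφy, hψx, hψy])
    (show x * y = 1 * (y * x) by rw [one_mul, mul_comm])
  have hzc : z ∈ commutator (Ext q b) := by
    have h1 : z = ⁅(⟨0, x⟩ : Ext q b), ⟨0, y⟩⁆ := by
      rw [commutatorElement_def, hxy]; group
    rw [h1, _root_.commutator_def]
    exact commutator_mem_commutator (mem_top _) (mem_top _)
  have hker : ∀ u : Ext q b, u ∈ σ.ker → ∃ n : ℕ, u = z ^ n := by
    intro u hu
    have hpow : ∀ n : ℕ, z ^ n = ⟨n, 1⟩ := by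
      intro n
      induction n with
      | zero => rw [pow_zero, Nat.cast_zero]; rfl
      | succ n ih =>
        rw [pow_succ, ih]
        exact Ext.ext (show (n : ZMod q) + 1 + b 1 1 = ((n + 1 : ℕ) : ZMod q) by simp [b])
          (show (1 : G) * 1 = 1 from one_mul _)
    exact ⟨u.c.val, by rw [hpow]; exact Ext.ext (by simp) (MonoidHom.mem_ker.1 hu)⟩
  refine ⟨Ext q b, inferInstance, inferInstance, σ,
    ⟨fun g => ⟨(⟨0, g⟩ : Ext q b), rfl⟩, fun u hu => ?_, fun u hu => ?_⟩, fun h => ?_⟩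
  · have hu1 : u.g = 1 := MonoidHom.mem_ker.1 hu
    refine mem_center_iff.2 fun v => Ext.ext ?_ ?_
    · show v.c + u.c + b v.g u.g = u.c + v.c + b u.g v.g
      simp [b, hu1, add_comm]
    · show v.g * u.g = u.g * v.g
      exact mul_comm _ _
  · obtain ⟨n, rfl⟩ := hker u hu
    exact pow_mem hzc n
  · have h1 : z ∈ σ.ker := rfl
    rw [h, mem_bot] at h1
    exact one_ne_zero (congrArg Ext.c h1)

/-- A finite abelian group has trivial Schur multiplier if and only if it is cyclic. -/
theorem result {G : Type*} [CommGroup G] [Finite G] : Cfsg.HasCyclicSchurMultiplier G 1 ↔ IsCyclic G := by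
  constructor
  · intro h
    by_contra hnc
    obtain ⟨Γ, hΓ, hΓf, σ, hσ, hne⟩ := not_cyclic_stem hnc
    obtain ⟨π, hπ⟩ := h.2 Γ σ hσ
    refine hne (Subgroup.eq_bot_iff_forall _ |>.2 fun u hu => ?_)
    obtain ⟨a, ha⟩ := hπ ⟨u, hu⟩
    have := congrArg Subtype.val ha
    rw [Subsingleton.elim a 1, map_one] at this
    exact this.symm
  · intro hc
    exact CfsgLib.StemExt.hasTrivialSchurMultiplier fun Γ _ _ σ hσ =>
      CfsgLib.StemExt.ker_eq_bot_of_isCyclic hσ

end Cfsg.Agent.S3950
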