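import Cfsg.Statements.S3951
import Cfsg.Agent.Schur.Product
import Cfsg.Agent.S3979
import Mathlib.Data.ZMod.Basic
import Mathlib.Algebra.Group.TypeTags.Hom

set_option autoImplicit false
open Cfsg

namespace Cfsg.Agent.S3951

/-- For positive integers `m` and `n` with `n` dividing `m`, the Schur multiplier of the abelian group `ZMod m × ZMod n` (written multiplicatively) is cyclic of order `n`. In particular the elementary abelian group of order `p ^ 2` has multiplier of order `p`. -/
theorem result (m n : ℕ) [NeZero m] [NeZero n] (hnm : n ∣ m) : Cfsg.HasCyclicSchurMultiplier (Multiplicative (ZMod m × ZMod n)) n := by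
  classical
  have h1 : Cfsg.HasCyclicSchurMultiplier (Multiplicative (ZMod m)) 1 :=
    Cfsg.Agent.S3979.result
  have h2 : Cfsg.HasCyclicSchurMultiplier (Multiplicative (ZMod n)) 1 :=
    Cfsg.Agent.S3979.result
  have hp := CfsgLib.SchurProduct.product h1 h2
  let c := ZMod.castHom hnm (ZMod n)
  let P : Multiplicative (ZMod m) →* Multiplicative (ZMod n) →* Multiplicative (ZMod n) :=
    MonoidHom.mk' (fun a => MonoidHom.mk' (fun b => Multiplicative.ofAdd (c a.toAdd * b.toAdd))
      fun b b' => by simp [mul_add, ofAdd_add]) fun a a' => by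
      ext b; simp [add_mul, ofAdd_add]
  obtain ⟨F, hF⟩ := CfsgLib.SchurProduct.exists_lift P
  let g := CfsgLib.SchurProduct.pureT (Multiplicative.ofAdd (1 : ZMod m))
    (Multiplicative.ofAdd (1 : ZMod n))
  have hFg : ∀ k : ℤ, F (g ^ k) = Multiplicative.ofAdd (k : ZMod n) := fun k => by
    rw [map_zpow, hF]
    show Multiplicative.ofAdd (c 1 * 1) ^ k = _
    rw [map_one, mul_one, ← ofAdd_zsmul, zsmul_one]
  have hgn : g ^ (n : ℤ) = 1 := by
    show (CfsgLib.SchurProduct.pairing _ _) ^ (n : ℤ) = 1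
    rw [← map_zpow, zpow_natCast, ← ofAdd_nsmul, nsmul_one, ZMod.natCast_self, ofAdd_zero, map_one]
  have hgen : ∀ t, t ∈ Subgroup.zpowers g := by
    intro t
    have hle : Subgroup.closure (Set.range fun x : Multiplicative (ZMod m) × Multiplicative (ZMod n)
        => CfsgLib.SchurProduct.pureT x.1 x.2) ≤ Subgroup.zpowers g := by
      rw [Subgroup.closure_le]
      rintro _ ⟨⟨a, b⟩, rfl⟩
      refine ⟨((a.toAdd.val * b.toAdd.val : ℕ) : ℤ), ?_⟩
      show g ^ ((a.toAdd.val * b.toAdd.val : ℕ) : ℤ) = CfsgLib.SchurProduct.pairing a b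
      rw [zpow_natCast, pow_mul]
      show ((CfsgLib.SchurProduct.pairing _ _) ^ _) ^ _ = _
      rw [← MonoidHom.pow_apply, ← map_pow, ← map_pow, ← ofAdd_nsmul, ← ofAdd_nsmul, nsmul_one,
        nsmul_one, ZMod.natCast_zmod_val, ZMod.natCast_zmod_val]
      rfl
    exact hle (by rw [CfsgLib.SchurProduct.closure_pureT]; exact Subgroup.mem_top t)
  have hbij : Function.Bijective F := by
    refine ⟨(injective_iff_map_eq_one F).2 fun t ht => ?_, fun y => ?_⟩
    · obtain ⟨k, rfl⟩ := hgen t
      simp only at ht ⊢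
      rw [hFg, ofAdd_eq_one, ZMod.intCast_zmod_eq_zero_iff_dvd] at ht
      obtain ⟨l, rfl⟩ := ht
      rw [zpow_mul, hgn, one_zpow]
    · exact ⟨g ^ (y.toAdd.val : ℤ), by rw [hFg, Int.cast_natCast, ZMod.natCast_zmod_val, ofAdd_toAdd]⟩
  haveI : Unique (Multiplicative (ZMod 1)) := Equiv.unique Multiplicative.toAdd
  exact CfsgLib.SchurProduct.transfer hp (MulEquiv.prodMultiplicative _ _).symm
    ((MulEquiv.uniqueProd.trans MulEquiv.uniqueProd).trans (MulEquiv.ofBijective F hbij))

end Cfsg.Agent.S3951
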