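import Cfsg.Statements.S3953
import Cfsg.Agent.Schur.Transfer

set_option autoImplicit false
open Cfsg

namespace Cfsg.Agent.S3953

/-- Let `P` be a Sylow `p`-subgroup of the finite group `G`, let `A` be the Schur multiplier of `G` and `B` that of `P`. Then the `p`-primary component of `A` is isomorphic to a direct factor of `B`: there are subgroups `C` and `D` of `B` meeting trivially and generating `B`, with `C` isomorphic to the `p`-primary component of `A`. -/
theorem result {G : Type*} [Group G] [Finite G] (p : ℕ) [Fact p.Prime] (P : Sylow p G) {A B : Type*} [CommGroup A] [CommGroup B] (hA : Cfsg.HasSchurMultiplier G A) (hB : Cfsg.HasSchurMultiplier P B) : ∃ C D : Subgroup B, C ⊓ D = ⊥ ∧ C ⊔ D = ⊤ ∧ Nonempty (CommGroup.primaryComponent A p ≃* C) := by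
  classical
  obtain ⟨_, _, i, j, hij⟩ := CfsgLib.Schur.exists_res_cor (P : Subgroup G) hA hB
  have hp := Fact.out (p := p.Prime)
  obtain ⟨n', hn', hcard⟩ : ∃ n', ¬ p ∣ n' ∧ Nat.card A = p ^ (Nat.card A).factorization p * n' :=
    ⟨_, Nat.not_dvd_ordCompl hp Nat.card_pos.ne', (Nat.ordProj_mul_ordCompl_eq_self _ p).symm⟩
  set Ap := CommGroup.primaryComponent A p
  let π : A →* Ap := (powMonoidHom n').codRestrict Ap fun x =>
    ⟨(Nat.card A).factorization p, by
      rw [powMonoidHom_apply, ← pow_mul, mul_comm, ← hcard, pow_card_eq_one']⟩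
  let i' : Ap →* B := i.comp Ap.subtype
  let j' : B →* Ap := π.comp j
  let h : Ap →* Ap := j'.comp i'
  have hm : ¬ p ∣ (P : Subgroup G).index := P.not_dvd_index
  have hinj : Function.Injective h := (injective_iff_map_eq_one h).2 fun x hx => by
    have h1 : (j (i (x : A))) ^ n' = 1 := congrArg Subtype.val hx
    rw [hij, ← pow_mul] at h1
    obtain ⟨k, hk⟩ := CommGroup.mem_primaryComponent.1 x.2
    have hcop : Nat.Coprime (p ^ k) ((P : Subgroup G).index * n') :=
      Nat.Coprime.pow_left _ (hp.coprime_iff_not_dvd.2 fun hd => (hp.dvd_mul.1 hd).elim hm hn')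
    apply Subtype.ext
    have h2 := pow_gcd_eq_one.2 ⟨hk, h1⟩
    rwa [hcop.gcd_eq_one, pow_one] at h2
  have hsurj : Function.Surjective h := Finite.surjective_of_injective hinj
  refine ⟨i'.range, j'.ker, (Subgroup.eq_bot_iff_forall _).2 ?_, eq_top_iff.2 fun b _ => ?_,
    ⟨MonoidHom.ofInjective (f := i') fun a b hab => hinj (congrArg j' hab)⟩⟩
  · rintro _ ⟨⟨a, rfl⟩, hb⟩
    rw [show a = 1 from hinj ((show h a = 1 from hb).trans (map_one h).symm), map_one]
  · obtain ⟨a, ha⟩ := hsurj (j' b)
    have h3 : (i' a)⁻¹ * b ∈ j'.ker := by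
      rw [MonoidHom.mem_ker, map_mul, map_inv, show j' (i' a) = j' b from ha, inv_mul_cancel]
    rw [← mul_inv_cancel_left (i' a) b]
    exact Subgroup.mul_mem_sup ⟨a, rfl⟩ h3

end Cfsg.Agent.S3953
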