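import Cfsg.Statements.S3956
import Cfsg.Agent.Schur.Pullback

set_option autoImplicit false
universe u v
open Cfsg

namespace Cfsg.Agent.S3956

/-- Let `σ : Γ →* Q` be a finite stem extension of the finite group `Q` such that every homomorphism from `Q` to the quotient of `GL n ℂ` by its centre, for every `n`, lifts along `σ` to a homomorphism `Γ →* GL n ℂ`. Then `σ` is a Schur covering group of `Q`: for every finite stem extension `τ : Δ →* Q` with `Δ` in the same universe as `Q`, the kernel of `τ` is a homomorphic image of the kernel of `σ`. -/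
theorem result {Q : Type u} [Group Q] [Finite Q] {Γ : Type v} [Group Γ] [Finite Γ] (σ : Γ →* Q) (hσ : Cfsg.IsStemExtension σ) (hlift : ∀ (n : ℕ) (γ : Q →* (GL (Fin n) ℂ ⧸ Subgroup.center (GL (Fin n) ℂ))), ∃ ρ : Γ →* GL (Fin n) ℂ, (QuotientGroup.mk' (Subgroup.center (GL (Fin n) ℂ))).comp ρ = γ.comp σ) (Δ : Type u) [Group Δ] [Finite Δ] (τ : Δ →* Q) (hτ : Cfsg.IsStemExtension τ) : ∃ π : σ.ker →* τ.ker, Function.Surjective π := by
  classical
  refine CfsgLib.Schur.exists_surjection_ker hσ hτ fun e he h1 => ?_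
  by_contra hne
  have hmemZ : CfsgLib.Schur.psnd σ τ e ∈ τ.ker := by
    show τ e.1.2 = 1
    rw [← CfsgLib.Schur.mem_pullback.1 e.2, show e.1.1 = 1 from h1, map_one]
  letI : CommGroup τ.ker := { (inferInstance : Group τ.ker) with
    mul_comm := fun a b => Subtype.ext (Subgroup.mem_center_iff.1 (hτ.2.1 b.2) a) }
  obtain ⟨lam, hlam⟩ := CommGroup.exists_apply_ne_one_of_hasEnoughRootsOfUnity τ.ker ℂ
    (a := ⟨_, hmemZ⟩) (fun h => hne (congrArg Subtype.val h))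
  obtain ⟨n, R, hRc, hR1⟩ := CfsgLib.Schur.exists_rep τ.ker hτ.2.1 lam
  have hle : τ.ker ≤ ((QuotientGroup.mk' (Subgroup.center (GL (Fin n) ℂ))).comp R).ker :=
    fun z hz => (QuotientGroup.eq_one_iff _).2 (hRc ⟨z, hz⟩)
  let γ := τ.liftOfSurjective hτ.1 ⟨(QuotientGroup.mk' (Subgroup.center (GL (Fin n) ℂ))).comp R, hle⟩
  obtain ⟨ρ, hρ⟩ := hlift n γ
  have hmem : ∀ x : CfsgLib.Schur.pullback σ τ,
      (ρ x.1.1)⁻¹ * R x.1.2 ∈ Subgroup.center (GL (Fin n) ℂ) := by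
    intro x
    refine QuotientGroup.eq.1 ?_
    have h2 : QuotientGroup.mk' (Subgroup.center (GL (Fin n) ℂ)) (ρ x.1.1) = γ (σ x.1.1) :=
      DFunLike.congr_fun hρ x.1.1
    rw [CfsgLib.Schur.mem_pullback.1 x.2] at h2
    exact h2.trans (MonoidHom.liftOfRightInverse_comp_apply _ _ _ _ _)
  let c : CfsgLib.Schur.pullback σ τ →* Subgroup.center (GL (Fin n) ℂ) :=
    MonoidHom.mk' (fun x => ⟨_, hmem x⟩) fun a b => Subtype.ext (by
      have h := Subgroup.mem_center_iff.1 (hmem a) (ρ b.1.1)⁻¹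
      show (ρ (a.1.1 * b.1.1))⁻¹ * R (a.1.2 * b.1.2) = (ρ a.1.1)⁻¹ * R a.1.2 * ((ρ b.1.1)⁻¹ * R b.1.2)
      rw [map_mul, map_mul, mul_inv_rev]
      calc (ρ b.1.1)⁻¹ * (ρ a.1.1)⁻¹ * (R a.1.2 * R b.1.2)
          = (ρ b.1.1)⁻¹ * ((ρ a.1.1)⁻¹ * R a.1.2) * R b.1.2 := by group
        _ = (ρ a.1.1)⁻¹ * R a.1.2 * (ρ b.1.1)⁻¹ * R b.1.2 := by rw [h]
        _ = _ := by group)
  have hker : commutator (CfsgLib.Schur.pullback σ τ) ≤ c.ker := by
    rw [commutator_def, Subgroup.commutator_le]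
    intro a _ b _
    rw [MonoidHom.mem_ker, map_commutatorElement, commutatorElement_eq_one_iff_mul_comm]
    exact Subtype.ext (Subgroup.mem_center_iff.1 (c b).2 (c a))
  have hc : (ρ e.1.1)⁻¹ * R e.1.2 = 1 :=
    congrArg Subtype.val (MonoidHom.mem_ker.1 (hker he))
  rw [show e.1.1 = 1 from h1, map_one, inv_one, one_mul] at hc
  exact hlam (hR1 ⟨_, hmemZ⟩ hc)

end Cfsg.Agent.S3956
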