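import Cfsg.Statements.S3957
import Cfsg.Agent.Schur.Pullback

set_option autoImplicit false
universe u v
open Cfsg

namespace Cfsg.Agent.S3957

/-- Let `Q` be a finite group with Schur multiplier `A` and let `τ : Δ →* Q` be a finite stem extension, `Δ` in the universe of `Q`. Then there is a finite stem extension `σ : Γ →* Q` with kernel isomorphic to `A` (a Schur covering group) and a surjective homomorphism `β : Γ →* Δ` with `τ ∘ β = σ`. -/
theorem result {Q : Type u} [Group Q] [Finite Q] {A : Type v} [CommGroup A] (hA : Cfsg.HasSchurMultiplier Q A) {Δ : Type u} [Group Δ] [Finite Δ] (τ : Δ →* Q) (hτ : Cfsg.IsStemExtension τ) : ∃ (Γ : Type u) (_ : Group Γ) (_ : Finite Γ) (σ : Γ →* Q), Cfsg.IsStemExtension σ ∧ Nonempty (σ.ker ≃* A) ∧ ∃ β : Γ →* Δ, Function.Surjective β ∧ τ.comp β = σ := by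
  open Subgroup CfsgLib.Schur in
  obtain ⟨ψ, hψ⟩ := CfsgLib.Schur.exists_hom Q τ hτ.1 hτ.2.1
  have hsurj := CfsgLib.Schur.multMap_surjective Q τ hτ.2.1 hτ.2.2 ψ hψ
  have hle : ψ.ker ≤ (CfsgLib.Schur.proj Q).ker := fun x hx => by
    show CfsgLib.Schur.proj Q x = 1
    rw [← hψ, MonoidHom.comp_apply, show ψ x = 1 from hx, map_one]
  obtain ⟨C, hCψ, hd, hs⟩ := CfsgLib.Schur.exists_compl Q ψ.ker hle fun t ht => by
    obtain ⟨m, hm⟩ := hsurj ⟨ψ t, show τ (ψ t) = 1 by rw [← MonoidHom.comp_apply, hψ]; exact ht⟩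
    refine ⟨t * (m : CfsgLib.Schur.Fb Q)⁻¹, ?_, ?_⟩
    · rw [MonoidHom.mem_ker, map_mul, map_inv, show ψ m = ψ t from congrArg Subtype.val hm, mul_inv_cancel]
    · rw [mul_inv_rev, inv_inv, inv_mul_cancel_right]; exact m.2
  obtain ⟨Γ, i1, i2, q, σ, hq, hstem, hqs, hqker, hbij⟩ :=
    CfsgLib.Schur.cover_of_compl Q C (hCψ.trans hle) hd hs
  obtain ⟨e⟩ := CfsgLib.Schur.equiv_mult Q hA
  refine ⟨Γ, i1, i2, σ, hstem, ⟨(MulEquiv.ofBijective _ hbij).symm.trans e.symm⟩,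
    q.liftOfSurjective hqs ⟨ψ, hqker ▸ hCψ⟩, ?_, ?_⟩
  · intro d
    obtain ⟨x, hx⟩ := CfsgLib.Schur.surjective_of_stem hτ.2.1 hτ.2.2 ψ
      (hψ ▸ CfsgLib.Schur.proj_surjective Q) d
    exact ⟨q x, (MonoidHom.liftOfRightInverse_comp_apply _ _ _ _ x).trans hx⟩
  · refine MonoidHom.ext fun y => ?_
    obtain ⟨x, rfl⟩ := hqs y
    rw [MonoidHom.comp_apply, MonoidHom.liftOfRightInverse_comp_apply]
    exact DFunLike.congr_fun (hψ.trans hq.symm) x

end Cfsg.Agent.S3957
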