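import Cfsg.Statements.S3960
import Cfsg.Agent.Schur.Pullback

set_option autoImplicit false
universe u
open Cfsg

namespace Cfsg.Agent.S3960

/-- A finite perfect group `Q` has a universal central extension: a finite perfect group `G` in the universe of `Q` and a surjective homomorphism `π : G →* Q` with central kernel such that for every group `X` in that universe and every surjective homomorphism `ξ : X →* Q` with central kernel there is exactly one homomorphism `η : G →* X` with `ξ ∘ η = π`. -/
theorem result {Q : Type u} [Group Q] [Finite Q] (hQ : Group.IsPerfect Q) : ∃ (G : Type u) (_ : Group G) (_ : Finite G) (π : G →* Q), Group.IsPerfect G ∧ Function.Surjective π ∧ π.ker ≤ Subgroup.center G ∧ ∀ (X : Type u) [Group X] (ξ : X →* Q), Function.Surjective ξ → ξ.ker ≤ Subgroup.center X → ∃! η : G →* X, ξ.comp η = π := by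
  have hQ' : commutator Q = ⊤ := Group.isPerfect_def.1 hQ
  set D := commutator (CfsgLib.Schur.Fb Q) with hD
  let π : ↥D →* Q := (CfsgLib.Schur.proj Q).comp D.subtype
  have hπs : Function.Surjective π := by
    intro x
    obtain ⟨d, hd, hdx⟩ := (CfsgLib.Schur.map_commutator_of_surjective _
      (CfsgLib.Schur.proj_surjective Q)).ge (hQ' ▸ Subgroup.mem_top x)
    exact ⟨⟨d, hd⟩, hdx⟩
  have hπc : π.ker ≤ Subgroup.center ↥D := fun z hz => Subgroup.mem_center_iff.2 fun y =>
    Subtype.ext (Subgroup.mem_center_iff.1 (CfsgLib.Schur.ker_proj_le_center Q (show (z : CfsgLib.Schur.Fb Q) ∈ (CfsgLib.Schur.proj Q).ker from hz)) y)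
  have hperf : commutator ↥D = ⊤ := by
    have h := CfsgLib.Schur.commutator_le_map (CfsgLib.Schur.ker_proj_le_center Q) D.subtype hπs
    rw [eq_top_iff]
    intro d _
    obtain ⟨d', hd', hdd⟩ := h d.2
    rwa [← Subtype.ext hdd]
  refine ⟨↥D, inferInstance, inferInstance, π, Group.isPerfect_def.2 hperf, hπs, hπc, ?_⟩
  intro X _ ξ hξ hξc
  obtain ⟨ψ, hψ⟩ := CfsgLib.Schur.exists_hom Q ξ hξ hξc
  refine ⟨ψ.comp D.subtype, show ξ.comp (ψ.comp D.subtype) = π by rw [← MonoidHom.comp_assoc, hψ], fun η hη => MonoidHom.ext fun d => ?_⟩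
  exact CfsgLib.Schur.eqOn_commutator hξc (hη.trans (by rw [← MonoidHom.comp_assoc, hψ]))
    (hperf ▸ Subgroup.mem_top d)

end Cfsg.Agent.S3960
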