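import Cfsg.Statements.S3961
import Mathlib.GroupTheory.Schreier
import Mathlib.GroupTheory.IsPerfect
import Cfsg.Agent.FGSB.StemExt

set_option autoImplicit false
universe u v
open Cfsg

namespace Cfsg.Agent.S3961

open Subgroup
open scoped commutatorElement

theorem hom_trivial {Γ A : Type*} [Group Γ] [Group A] (hΓ : commutator Γ = ⊤) (f : Γ →* A)
    (hf : ∀ x y, f x * f y = f y * f x) (x : Γ) : f x = 1 := by
  have h : commutator Γ ≤ f.ker := by
    rw [_root_.commutator_def, commutator_le]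
    intro a _ b _
    rw [MonoidHom.mem_ker, map_commutatorElement]
    exact commutatorElement_eq_one_iff_mul_comm.2 (hf a b)
  rw [hΓ] at h
  exact MonoidHom.mem_ker.1 (h (mem_top x))

theorem sup_center_perfect {P : Type*} [Group P] (D : Subgroup P) (h : ∀ x, ∃ d ∈ D, ∃ z ∈ center P, d * z = x) :
    commutator P = ⁅D, D⁆ := by
  refine le_antisymm ?_ (commutator_mono le_top le_top)
  rw [_root_.commutator_def, commutator_le]
  intro a _ b _
  obtain ⟨d, hd, z, hz, rfl⟩ := h a
  obtain ⟨e, he, w, hw, rfl⟩ := h b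
  have h1 := mem_center_iff.1 hz
  have h2 := mem_center_iff.1 hw
  have : ⁅d * z, e * w⁆ = ⁅d, e⁆ := by
    simp only [commutatorElement_def, mul_inv_rev]
    calc d * z * (e * w) * (z⁻¹ * d⁻¹) * (w⁻¹ * e⁻¹)
        = d * (z * (e * w)) * z⁻¹ * d⁻¹ * (w⁻¹ * e⁻¹) := by group
      _ = d * (e * w) * d⁻¹ * (w⁻¹ * e⁻¹) := by rw [← h1]; group
      _ = d * e * (w * d⁻¹) * (w⁻¹ * e⁻¹) := by group
      _ = d * e * d⁻¹ * e⁻¹ := by rw [← h2]; group
  rw [this]
  exact commutator_mem_commutator hd he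

theorem trivial_of_universal {G : Type u} {Q : Type v} [Group G] [Group Q] [Finite G] (hG : commutator G = ⊤)
    (π : G →* Q) (hπ : Function.Surjective π) (hker : π.ker ≤ center G)
    (h : ∀ (X : Type u) [Group X] (ξ : X →* Q), Function.Surjective ξ → ξ.ker ≤ center X → ∃ η : G →* X, ξ.comp η = π) :
    Cfsg.HasCyclicSchurMultiplier G 1 := by
  refine CfsgLib.StemExt.hasTrivialSchurMultiplier fun Γ _ _ σ hσ => ?_
  obtain ⟨hs, hc, hd⟩ := hσ
  have hΓ : commutator Γ = ⊤ := by
    refine eq_top_iff.2 fun x _ => ?_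
    have hx : σ x ∈ (commutator Γ).map σ := by
      rw [_root_.commutator_def, map_commutator, map_top_of_surjective σ hs, ← _root_.commutator_def, hG]
      exact mem_top _
    obtain ⟨d, hd', hdx⟩ := hx
    have h1 : d⁻¹ * x ∈ σ.ker := by rw [MonoidHom.mem_ker, map_mul, map_inv, hdx, inv_mul_cancel]
    have := (commutator Γ).mul_mem hd' (hd h1)
    rwa [mul_inv_cancel_left] at this
  have hcent : (π.comp σ).ker ≤ center Γ := by
    intro z hz
    have hzc : σ z ∈ center G := hker hz
    refine mem_center_iff.2 fun x => ?_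
    have hmem : ∀ y, ⁅z, y⁆ ∈ center Γ := fun y => hc (by
      rw [MonoidHom.mem_ker, map_commutatorElement]
      exact commutatorElement_eq_one_iff_mul_comm.2 (mem_center_iff.1 hzc (σ y)).symm)
    let f : Γ →* center Γ := MonoidHom.mk' (fun y => ⟨⁅z, y⁆, hmem y⟩) fun a b => Subtype.ext (by
      show ⁅z, a * b⁆ = ⁅z, a⁆ * ⁅z, b⁆
      have h := mem_center_iff.1 (hmem b) a
      calc ⁅z, a * b⁆ = ⁅z, a⁆ * (a * ⁅z, b⁆ * a⁻¹) := by simp only [commutatorElement_def]; group
        _ = _ := by rw [h]; group)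
    have := hom_trivial hΓ f (fun a b => Subtype.ext (mem_center_iff.1 (f b).2 (f a))) x
    exact (commutatorElement_eq_one_iff_mul_comm.1 (congrArg Subtype.val this)).symm
  obtain ⟨η, hη⟩ := h Γ (π.comp σ) (hπ.comp hs) hcent
  have hmemk : ∀ g, σ (η g) * g⁻¹ ∈ center G := fun g => hker (by
    rw [MonoidHom.mem_ker, map_mul, map_inv, show π (σ (η g)) = π g from DFunLike.congr_fun hη g, mul_inv_cancel])
  have hid : ∀ g, σ (η g) = g := by
    let f : G →* center G := MonoidHom.mk' (fun g => ⟨σ (η g) * g⁻¹, hmemk g⟩) fun a b => Subtype.ext (by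
      show σ (η (a * b)) * (a * b)⁻¹ = σ (η a) * a⁻¹ * (σ (η b) * b⁻¹)
      have h := mem_center_iff.1 (hmemk b) a⁻¹
      calc σ (η (a * b)) * (a * b)⁻¹ = σ (η a) * ((σ (η b) * b⁻¹) * a⁻¹) := by rw [map_mul, map_mul]; group
        _ = _ := by rw [← h]; group)
    intro g
    exact mul_inv_eq_one.1 (congrArg Subtype.val (hom_trivial hG f (fun a b => Subtype.ext (mem_center_iff.1 (f b).2 (f a))) g))
  have hrange : η.range = ⊤ := by
    rw [eq_top_iff, ← hΓ]
    rw [sup_center_perfect η.range fun x => ⟨η (σ x), ⟨_, rfl⟩, (η (σ x))⁻¹ * x, hc (by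
      rw [MonoidHom.mem_ker, map_mul, map_inv, hid, inv_mul_cancel]), by rw [mul_inv_cancel_left]⟩]
    exact commutator_le_self _
  refine (eq_bot_iff_forall _).2 fun x hx => ?_
  obtain ⟨g, rfl⟩ : x ∈ η.range := hrange ▸ mem_top x
  rw [MonoidHom.mem_ker, hid] at hx
  rw [hx, map_one]

theorem universal_of_trivial {G : Type u} {Q : Type v} [Group G] [Group Q] [Finite G] (hG : commutator G = ⊤)
    (π : G →* Q) (hm : Cfsg.HasCyclicSchurMultiplier G 1)
    (X : Type u) [Group X] (ξ : X →* Q) (hξ : Function.Surjective ξ) (hξc : ξ.ker ≤ center X) :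
    ∃ η : G →* X, ξ.comp η = π := by
  let P : Subgroup (G × X) := (π.comp (MonoidHom.fst G X)).eqLocus (ξ.comp (MonoidHom.snd G X))
  let p : P →* G := (MonoidHom.fst G X).comp P.subtype
  have hp : Function.Surjective p := fun g => by
    obtain ⟨x, hx⟩ := hξ (π g)
    exact ⟨⟨(g, x), hx.symm⟩, rfl⟩
  have hpc : p.ker ≤ center P := by
    intro z hz
    have h1 : z.1.1 = 1 := MonoidHom.mem_ker.1 hz
    have h2 : z.1.2 ∈ center X := hξc (MonoidHom.mem_ker.2 (by
      have := z.2
      change π z.1.1 = ξ z.1.2 at this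
      rw [← this, h1, map_one]))
    exact mem_center_iff.2 fun y => Subtype.ext (Prod.ext (by simp [h1]) (mem_center_iff.1 h2 y.1.2))
  haveI : Finite (commutatorSet P) := by
    choose s hs using hp
    have hset : commutatorSet P ⊆ Set.range fun gh : G × G => ⁅s gh.1, s gh.2⁆ := by
      rintro _ ⟨a, b, rfl⟩
      refine ⟨(p a, p b), ?_⟩
      have e : ∀ a : P, ∃ z ∈ center P, a = s (p a) * z := fun a => ⟨(s (p a))⁻¹ * a, hpc (by
        rw [MonoidHom.mem_ker, map_mul, map_inv, hs, inv_mul_cancel]), by rw [mul_inv_cancel_left]⟩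
      obtain ⟨z, hz, ha⟩ := e a
      obtain ⟨w, hw, hb⟩ := e b
      show ⁅s (p a), s (p b)⁆ = ⁅a, b⁆
      conv_rhs => rw [ha, hb]
      generalize s (p a) = c, s (p b) = d
      have h1 := mem_center_iff.1 hz
      have h2 := mem_center_iff.1 hw
      simp only [commutatorElement_def, mul_inv_rev]
      symm
      calc c * z * (d * w) * (z⁻¹ * c⁻¹) * (w⁻¹ * d⁻¹)
          = c * (z * (d * w)) * z⁻¹ * c⁻¹ * (w⁻¹ * d⁻¹) := by group
        _ = c * (d * w) * c⁻¹ * (w⁻¹ * d⁻¹) := by rw [← h1]; group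
        _ = c * d * (w * c⁻¹) * (w⁻¹ * d⁻¹) := by group
        _ = c * d * c⁻¹ * d⁻¹ := by rw [← h2]; group
    exact ((Set.finite_range _).subset hset).to_subtype
  set D := commutator P with hD
  have hDmap : D.map p = ⊤ := by
    rw [hD, _root_.commutator_def, map_commutator, map_top_of_surjective p hp, ← _root_.commutator_def, hG]
  have hdec : ∀ x, ∃ d ∈ D, ∃ z ∈ center P, d * z = x := fun x => by
    obtain ⟨d, hd, hdx⟩ : p x ∈ D.map p := hDmap ▸ mem_top _
    exact ⟨d, hd, d⁻¹ * x, hpc (by rw [MonoidHom.mem_ker, map_mul, map_inv, hdx, inv_mul_cancel]),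
      mul_inv_cancel_left d x⟩
  have hDD : ⁅D, D⁆ = D := (sup_center_perfect D hdec).symm
  let σ : D →* G := p.comp D.subtype
  have hσ : Function.Surjective σ := fun g => by
    obtain ⟨d, hd, hdg⟩ : g ∈ D.map p := hDmap ▸ mem_top g
    exact ⟨⟨d, hd⟩, hdg⟩
  have hDp : commutator D = ⊤ := by
    rw [eq_top_iff, ← map_le_map_iff_of_injective D.subtype_injective, ← MonoidHom.range_eq_map, range_subtype,
      map_subtype_commutator, hDD]
  have hstem : Cfsg.IsStemExtension σ :=
    ⟨hσ, fun z hz => mem_center_iff.2 fun y =>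
      Subtype.ext (mem_center_iff.1 (hpc (show (z : P) ∈ p.ker from hz)) y), hDp ▸ le_top⟩
  obtain ⟨f, hf⟩ := hm.2 D σ hstem
  have hinj : Function.Injective σ := by
    rw [← MonoidHom.ker_eq_bot_iff, eq_bot_iff_forall]
    intro z hz
    obtain ⟨a, ha⟩ := hf ⟨z, hz⟩
    rw [Subsingleton.elim a 1, map_one] at ha
    exact (congrArg Subtype.val ha).symm
  let e : D ≃* G := MulEquiv.ofBijective σ ⟨hinj, hσ⟩
  refine ⟨(MonoidHom.snd G X).comp (P.subtype.comp (D.subtype.comp e.symm.toMonoidHom)), ?_⟩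
  ext g
  have h1 := (e.symm g : P).2
  show ξ (e.symm g : P).1.2 = π g
  rw [show ξ (e.symm g : P).1.2 = π (e.symm g : P).1.1 from h1.symm]
  exact congrArg π (e.apply_symm_apply g)


/-- Let `π : G →* Q` be a surjective homomorphism with central kernel from a finite perfect group `G` (a perfect cover of `Q`). Then `π` is universal, in the sense that every surjective homomorphism `ξ : X →* Q` with central kernel from a group `X` in the universe of `G` admits a homomorphism `η : G →* X` with `ξ ∘ η = π`, if and only if `G` has trivial Schur multiplier. -/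
theorem result {G : Type u} {Q : Type v} [Group G] [Group Q] [Finite G] (hG : Group.IsPerfect G) (π : G →* Q) (hπ : Function.Surjective π) (hker : π.ker ≤ Subgroup.center G) : (∀ (X : Type u) [Group X] (ξ : X →* Q), Function.Surjective ξ → ξ.ker ≤ Subgroup.center X → ∃ η : G →* X, ξ.comp η = π) ↔ Cfsg.HasCyclicSchurMultiplier G 1 := by
  have hG' : commutator G = ⊤ := Group.isPerfect_def.1 hG
  exact ⟨trivial_of_universal hG' π hπ hker,
    fun hm X _ ξ hξ hξc => universal_of_trivial hG' π hm X ξ hξ hξc⟩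

end Cfsg.Agent.S3961
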