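import Cfsg.Statements.S3962
import Mathlib.GroupTheory.IsPerfect

set_option autoImplicit false
open Cfsg

namespace Cfsg.Agent.S3962

open scoped commutatorElement

/-- Let `G` be a perfect group and `π : G →* Q` a surjective homomorphism whose kernel is central. Then `π` maps the centre of `G` onto the centre of `Q`. Taking `π` to be the map to `G ⧸ Z(G)` shows that the central quotient of a perfect group has trivial centre. -/
theorem result {G Q : Type*} [Group G] [Group Q] (hG : Group.IsPerfect G) (π : G →* Q) (hπ : Function.Surjective π) (hker : π.ker ≤ Subgroup.center G) : (Subgroup.center G).map π = Subgroup.center Q := by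
  refine le_antisymm ?_ fun q hq => ?_
  · rintro - ⟨z, hz, rfl⟩
    refine Subgroup.mem_center_iff.2 fun q => ?_
    obtain ⟨g, rfl⟩ := hπ q
    rw [← map_mul, ← map_mul, Subgroup.mem_center_iff.1 hz g]
  · obtain ⟨y, rfl⟩ := hπ q
    refine ⟨y, ?_, rfl⟩
    have hc : ∀ g, ⁅y, g⁆ ∈ Subgroup.center G := fun g => hker (by
      rw [MonoidHom.mem_ker, map_commutatorElement, commutatorElement_eq_one_iff_mul_comm]
      exact (Subgroup.mem_center_iff.1 hq (π g)).symm)
    let φ : G →* Subgroup.center G := MonoidHom.mk' (fun g => ⟨⁅y, g⁆, hc g⟩) fun a b =>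
      Subtype.ext (by
        show ⁅y, a * b⁆ = ⁅y, a⁆ * ⁅y, b⁆
        calc ⁅y, a * b⁆ = ⁅y, a⁆ * (a * ⁅y, b⁆ * a⁻¹) := by
              simp only [commutatorElement_def]; group
          _ = ⁅y, a⁆ * ⁅y, b⁆ := by
              rw [Subgroup.mem_center_iff.1 (hc b) a, mul_inv_cancel_right])
    have hle : commutator G ≤ φ.ker := by
      rw [commutator_def, Subgroup.commutator_le]
      intro a _ b _
      rw [MonoidHom.mem_ker, map_commutatorElement, commutatorElement_eq_one_iff_mul_comm]
      exact Subtype.ext ((Subgroup.mem_center_iff.1 (φ b).2 (φ a : G)))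
    haveI := hG
    rw [Group.IsPerfect.commutator_eq_top] at hle
    refine Subgroup.mem_center_iff.2 fun g => ?_
    have h1 : ⁅y, g⁆ = 1 := congrArg Subtype.val (MonoidHom.mem_ker.1 (hle (Subgroup.mem_top g)))
    exact (commutatorElement_eq_one_iff_mul_comm.1 h1).symm

end Cfsg.Agent.S3962
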