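import Cfsg.Statements.S3964
import Cfsg.Agent.FGSB.StemExt

set_option autoImplicit false
open Cfsg

namespace Cfsg.Agent.S3964

/-- For odd `n` the dihedral group of order `2 n` has trivial Schur multiplier. -/
theorem result (n : ℕ) (hn : Odd n) : Cfsg.HasCyclicSchurMultiplier (DihedralGroup n) 1 := by
  have : NeZero n := ⟨by rintro rfl; simp at hn⟩
  refine CfsgLib.StemExt.hasTrivialSchurMultiplier fun Γ _ _ σ hσ => ?_
  obtain ⟨c, hc, hle, hdvd⟩ := CfsgLib.StemExt.dihedral_bound hσ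
  refine le_bot_iff.1 fun x hx => ?_
  obtain ⟨i, rfl⟩ := hle hx
  obtain ⟨j, rfl⟩ : (n : ℤ) ∣ i := by
    obtain ⟨k, hk⟩ := hn
    have h : i = (n : ℤ) * i - (k : ℤ) * (2 * i) := by subst hk; push_cast; ring
    rw [h]
    exact dvd_sub (dvd_mul_right _ _) ((hdvd i hx).mul_left _)
  simp [zpow_mul, hc]

end Cfsg.Agent.S3964
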