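import Cfsg.Statements.S3965
import Cfsg.Agent.FGSB.StemExt

set_option autoImplicit false
open Cfsg

namespace Cfsg.Agent.S3965

/-- For even `n ≥ 2` the dihedral group of order `2 n` has Schur multiplier cyclic of order `2`. -/
theorem result (n : ℕ) [NeZero n] (hn : Even n) : Cfsg.HasCyclicSchurMultiplier (DihedralGroup n) 2 := by
  obtain ⟨h0, h2⟩ := CfsgLib.StemExt.isStemExtension_toDihedral n hn
  refine CfsgLib.StemExt.hasCyclicSchurMultiplier _ h0 (isCyclic_of_prime_card h2) h2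
    fun Γ _ _ σ hσ => ?_
  obtain ⟨c, hc, hle, hdvd⟩ := CfsgLib.StemExt.dihedral_bound hσ
  obtain ⟨m, hm⟩ := hn
  have hle' : σ.ker ≤ Subgroup.zpowers (c ^ m) := fun x hx => by
    obtain ⟨i, rfl⟩ := hle hx
    have hi : (m : ℤ) ∣ i := by
      have h := hdvd i hx
      rw [hm, ← two_mul, Nat.cast_mul, Nat.cast_ofNat] at h
      exact (mul_dvd_mul_iff_left two_ne_zero).1 h
    obtain ⟨j, rfl⟩ := hi
    exact ⟨j, by simp [zpow_mul]⟩
  refine ⟨CfsgLib.StemExt.isCyclic_of_le_zpowers hle', ?_⟩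
  refine (Subgroup.card_dvd_of_le hle').trans ?_
  rw [Nat.card_zpowers]
  refine orderOf_dvd_of_pow_eq_one ?_
  rw [← pow_mul, mul_two, ← hm, hc]

end Cfsg.Agent.S3965
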