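import Cfsg.Statements.S3967
import Cfsg.Agent.Schur.Metacyclic
import Mathlib.RingTheory.Coprime.Lemmas
import Mathlib.Algebra.BigOperators.Associated

set_option autoImplicit false
set_option linter.style.haveILetI false
open Cfsg

namespace Cfsg.Agent.S3967

open Subgroup in
/-- Arithmetic of the parameters of the stem cover. -/
theorem params (m n r l : ℕ) (hm : 0 < m) (hn : 0 < n) (hr : 0 < r) (hrn : r ^ n ≡ 1 [MOD m]) :
    ∃ d v e R : ℕ, d = Nat.gcd m (r - 1) ∧ 0 < d ∧ 0 < v ∧ m = d * v ∧ 0 < e ∧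
      e = Nat.gcd l (Nat.gcd m (r - 1) * Nat.gcd m (∑ i ∈ Finset.range n, r ^ i) / m) ∧
      (∀ o : ℕ, o ∣ m → o ∣ v * l → o ∣ ∑ i ∈ Finset.range n, r ^ i → o ∣ v * e) ∧
      R ≡ r [MOD m] ∧ R ^ n ≡ 1 [MOD m * e] ∧ R * (v * l) ≡ v * l [MOD m * e] ∧
      R * m ≡ m [MOD m * e] ∧ 0 < R ∧ Nat.gcd (R - 1) (m * e) = d ∧
      (∀ i : ℤ, (m : ℤ) ∣ ((r - 1 : ℕ) : ℤ) * i → (v : ℤ) ∣ i) := by
  set S := ∑ i ∈ Finset.range n, r ^ i with hS
  set d := Nat.gcd m (r - 1) with hd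
  have hd0 : 0 < d := Nat.gcd_pos_of_pos_left _ hm
  obtain ⟨v, hv⟩ : d ∣ m := Nat.gcd_dvd_left _ _
  obtain ⟨u, hu⟩ : d ∣ r - 1 := Nat.gcd_dvd_right _ _
  have hv0 : 0 < v := Nat.pos_of_ne_zero fun h => by rw [h, mul_zero] at hv; omega
  have huv : Nat.Coprime v u := by
    have h1 : Nat.gcd (d * v) (d * u) = d := by rw [← hv, ← hu]
    rw [Nat.gcd_mul_left] at h1
    exact Nat.eq_of_mul_eq_mul_left hd0 (h1.trans (mul_one d).symm)
  have hgeom : (r - 1) * S + 1 = r ^ n := by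
    have := geom_sum_mul_add (r - 1) n
    rw [Nat.sub_add_cancel (show 1 ≤ r from hr)] at this
    rw [mul_comm]; exact this
  have hmS : m ∣ (r - 1) * S := by
    have := (Nat.modEq_iff_dvd' (Nat.one_le_pow _ _ hr)).1 hrn.symm
    rwa [← hgeom, Nat.add_sub_cancel] at this
  have hvS : v ∣ S := by
    rw [hv, hu, mul_assoc] at hmS
    exact huv.dvd_of_dvd_mul_left (Nat.dvd_of_mul_dvd_mul_left hd0 hmS)
  obtain ⟨g, hg⟩ : v ∣ Nat.gcd m S := Nat.dvd_gcd (Dvd.intro_left d hv.symm) hvS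
  have hgd : g ∣ d := by
    refine Nat.dvd_of_mul_dvd_mul_left hv0 ?_
    rw [← hg, mul_comm v d, ← hv]; exact Nat.gcd_dvd_left _ _
  have hg0 : 0 < g := Nat.pos_of_dvd_of_pos hgd hd0
  have hh : d * Nat.gcd m S / m = g := by
    rw [hg, ← mul_assoc, ← hv, Nat.mul_div_cancel_left _ hm]
  set e := Nat.gcd l g with he
  have he0 : 0 < e := Nat.gcd_pos_of_pos_right _ hg0
  have hed : e ∣ d := (Nat.gcd_dvd_right _ _).trans hgd
  have hem : e ∣ m := hed.trans (Dvd.intro v hv.symm)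
  -- make `u + v t` prime to `e`
  set t := ∏ p ∈ e.primeFactors.filter (fun p => ¬ p ∣ u), p with ht
  have hcop : Nat.Coprime (u + v * t) (v * e) := by
    refine Nat.Coprime.mul_right (Nat.coprime_add_mul_left_left u v t |>.2 huv.symm) ?_
    refine Nat.coprime_of_dvd fun p hp h1 h2 => ?_
    haveI := Fact.mk hp
    by_cases hpu : p ∣ u
    · have h3 : p ∣ v * t := (Nat.dvd_add_right hpu).1 h1
      rcases hp.dvd_mul.1 h3 with h4 | h4
      · exact Nat.not_coprime_of_dvd_of_dvd hp.one_lt h4 hpu huv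
      · obtain ⟨q, hq, hpq⟩ := Prime.exists_mem_finset_dvd hp.prime h4
        rw [Finset.mem_filter, Nat.mem_primeFactors] at hq
        exact hq.2 (((Nat.prime_dvd_prime_iff_eq hp hq.1.1).1 hpq) ▸ hpu)
    · have h4 : p ∣ t := Finset.dvd_prod_of_mem _ (Finset.mem_filter.2
        ⟨Nat.mem_primeFactors.2 ⟨hp, h2, he0.ne'⟩, hpu⟩)
      exact hpu ((Nat.dvd_add_left (h4.mul_left v)).1 h1)
  refine ⟨d, v, e, r + m * t, rfl, hd0, hv0, hv, he0, by rw [hh], ?_, ?_, ?_, ?_, ?_, by omega, ?_, ?_⟩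
  · intro o h1 h2 h3
    have : o ∣ Nat.gcd (v * l) (v * g) := Nat.dvd_gcd h2 (hg ▸ Nat.dvd_gcd h1 h3)
    rwa [Nat.gcd_mul_left] at this
  · exact Nat.ModEq.symm ((Nat.modEq_iff_dvd' (by omega)).2 (by rw [Nat.add_sub_cancel_left]; exact dvd_mul_right _ _))
  · have hR1 : r + m * t - 1 = d * (u + v * t) := by rw [mul_add, ← hu, ← mul_assoc, ← hv]; omega
    have hg' := geom_sum_mul_add (r + m * t - 1) n
    rw [Nat.sub_add_cancel (show 1 ≤ r + m * t by omega)] at hg'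
    rw [← hg']
    refine Nat.ModEq.symm ((Nat.modEq_iff_dvd' (by omega)).2 ?_)
    rw [Nat.add_sub_cancel, hR1]
    have hSR : ∑ i ∈ Finset.range n, (r + m * t) ^ i ≡ S [MOD m] := by
      rw [hS]
      refine (ZMod.natCast_eq_natCast_iff _ _ _).1 ?_
      simp
    have hve : v * e ∣ m := by rw [hv, mul_comm d v]; exact mul_dvd_mul_left v hed
    have hveS : v * e ∣ S := (mul_dvd_mul_left v (Nat.gcd_dvd_right l g)).trans (hg ▸ Nat.gcd_dvd_right m S)
    have h4 : v * e ∣ ∑ i ∈ Finset.range n, (r + m * t) ^ i :=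
      (Nat.ModEq.dvd_iff hSR hve).2 hveS
    calc m * e = d * (v * e) := by rw [hv]; ring
      _ ∣ d * (u + v * t) * (v * e) := mul_dvd_mul_right (dvd_mul_right _ _) _
      _ ∣ (∑ i ∈ Finset.range n, (r + m * t) ^ i) * (d * (u + v * t)) := by
        rw [mul_comm (∑ i ∈ Finset.range n, (r + m * t) ^ i)]; exact mul_dvd_mul_left _ h4
  · refine Nat.ModEq.symm ((Nat.modEq_iff_dvd' (Nat.le_mul_of_pos_left _ (by omega))).2 ?_)
    have hR1 : r + m * t - 1 = d * (u + v * t) := by rw [mul_add, ← hu, ← mul_assoc, ← hv]; omega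
    rw [← Nat.sub_one_mul, hR1, hv]
    calc d * v * e ∣ d * v * l := mul_dvd_mul_left _ (Nat.gcd_dvd_left _ _)
      _ ∣ d * (u + v * t) * (v * l) := ⟨u + v * t, by ring⟩
  · refine Nat.ModEq.symm ((Nat.modEq_iff_dvd' (Nat.le_mul_of_pos_left _ (by omega))).2 ?_)
    rw [← Nat.sub_one_mul, mul_comm m e]
    refine mul_dvd_mul_right ?_ m
    have hR1 : r + m * t - 1 = d * (u + v * t) := by rw [mul_add, ← hu, ← mul_assoc, ← hv]; omega
    exact hR1 ▸ hed.mul_right _
  · have hR1 : r + m * t - 1 = d * (u + v * t) := by rw [mul_add, ← hu, ← mul_assoc, ← hv]; omega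
    rw [hR1, hv, mul_assoc, Nat.gcd_mul_left, hcop.gcd_eq_one, mul_one]
  · intro i hi
    rw [hv, hu, Nat.cast_mul, Nat.cast_mul, mul_assoc] at hi
    exact (show IsCoprime (v : ℤ) (u : ℤ) by rw [Int.isCoprime_iff_gcd_eq_one, Int.gcd_natCast_natCast]; exact huv).dvd_of_dvd_mul_left
      ((mul_dvd_mul_iff_left (by exact_mod_cast hd0.ne')).1 hi)

open Subgroup CfsgLib.Metacyclic in
open scoped commutatorElement in
theorem main (m n r l : ℕ) (hm : 0 < m) (hn : 0 < n) (hr : 0 < r) (hrn : r ^ n ≡ 1 [MOD m]) :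
    Cfsg.HasCyclicSchurMultiplier (Grp m n r (m * l / Nat.gcd m (r - 1)))
      (Nat.gcd l (Nat.gcd m (r - 1) * Nat.gcd m (∑ i ∈ Finset.range n, r ^ i) / m)) := by
  obtain ⟨d, v, e, R, hd, hd0, hv0, hv, he0, he, hbound, hRr, hRn, hRs, hRm, hR0, hgcd, hvi⟩ :=
    params m n r l hm hn hr hrn
  rw [← he, ← hd, show m * l / d = v * l by rw [hv, mul_assoc, Nat.mul_div_cancel_left _ hd0]]
  haveI : NeZero e := ⟨he0.ne'⟩
  have hrs : r * (v * l) ≡ v * l [MOD m] :=
    ((hRr.mul_right _).symm.trans (hRs.of_dvd (dvd_mul_right m e)))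
  have hordG : orderOf (genA m n r (v * l)) = m := orderOf_genA hn hrn hrs
  have hme : 0 < m * e := Nat.mul_pos hm he0
  haveI : Finite (Grp (m * e) n R (v * l)) := CfsgLib.Metacyclic.finite hme hn hRn
  -- the covering map
  have hA' : genA m n r (v * l) ^ R = genA m n r (v * l) ^ r :=
    pow_eq_pow_iff_modEq.2 (by rw [hordG]; exact hRr)
  obtain ⟨σ, hσA, hσB⟩ := exists_hom (M := m * e) (n := n) (R := R) (s := v * l)
    (a := genA m n r (v * l)) (b := genB m n r (v * l))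
    (by rw [pow_mul, genA_pow, one_pow]) genB_pow (gen_conj.trans hA'.symm)
  -- the exponent of `B` is a homomorphism to `ZMod n`
  obtain ⟨χ, hχA, hχB⟩ := exists_hom (M := m) (n := n) (R := r) (s := v * l)
    (a := (1 : Multiplicative (ZMod n))) (b := Multiplicative.ofAdd 1)
    (one_pow _) (by rw [one_pow, ← ofAdd_nsmul, nsmul_one, ZMod.natCast_self, ofAdd_zero]) (by simp)
  have hsurj : Function.Surjective σ := fun g => by
    obtain ⟨i, -, j, -, rfl⟩ := exists_normal_form hm hn hrn g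
    exact ⟨genA _ n R _ ^ i * genB _ n R _ ^ j, by rw [map_mul, map_pow, map_pow, hσA, hσB]⟩
  set A := genA (m * e) n R (v * l)
  set B := genB (m * e) n R (v * l)
  have hker : σ.ker = zpowers (A ^ m) := by
    refine le_antisymm (fun g hg => ?_) (zpowers_le.2 ?_)
    · obtain ⟨i, -, j, hj, rfl⟩ := exists_normal_form hme hn hRn g
      rw [MonoidHom.mem_ker, map_mul, map_pow, map_pow, hσA, hσB] at hg
      have h1 := congrArg χ hg
      rw [map_one, map_mul, map_pow, map_pow, hχA, hχB, one_pow, one_mul, ← ofAdd_nsmul, ofAdd_eq_one,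
        nsmul_one, ZMod.natCast_eq_zero_iff] at h1
      have hj0 : j = 0 := Nat.eq_zero_of_dvd_of_lt h1 hj
      subst hj0
      rw [pow_zero, mul_one] at hg
      obtain ⟨k, rfl⟩ := hordG.symm.dvd.trans (orderOf_dvd_of_pow_eq_one hg)
      rw [pow_zero, mul_one, pow_mul]
      exact npow_mem_zpowers _ k
    · rw [MonoidHom.mem_ker, map_pow, hσA, genA_pow]
  have hordA : orderOf A = m * e := orderOf_genA hn hRn hRs
  have hstem : Cfsg.IsStemExtension σ := by
    refine ⟨hsurj, hker ▸ zpowers_le.2 ?_, hker ▸ zpowers_le.2 ?_⟩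
    · have h1 : Commute B (A ^ m) := by
        have : B * A ^ m * B⁻¹ = A ^ m := by
          rw [← conj_pow, gen_conj, ← pow_mul]
          exact pow_eq_pow_iff_modEq.2 (by rw [hordA]; exact hRm)
        exact mul_inv_eq_iff_eq_mul.1 this
      refine mem_center_iff.2 fun g => ?_
      have hle : (⊤ : Subgroup (Grp (m * e) n R (v * l))) ≤ centralizer {A ^ m} := by
        rw [← closure_gen, closure_le]
        rintro x (rfl | rfl)
        · exact mem_centralizer_singleton_iff.2 ((Commute.refl A).pow_right m).eq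
        · exact mem_centralizer_singleton_iff.2 h1.eq
      exact mem_centralizer_singleton_iff.1 (hle (mem_top g))
    · have hc : A ^ (R - 1) ∈ commutator (Grp (m * e) n R (v * l)) := by
        have : A ^ (R - 1) = ⁅B, A⁆ := by
          rw [commutatorElement_def, gen_conj, eq_mul_inv_iff_mul_eq, ← pow_succ, Nat.sub_add_cancel (show 1 ≤ R from hR0)]
        rw [this]
        exact commutator_mem_commutator (mem_top _) (mem_top _)
      obtain ⟨x, y, hxy⟩ : ∃ x y : ℤ, (d : ℤ) = ((R - 1 : ℕ) : ℤ) * x + ((m * e : ℕ) : ℤ) * y :=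
        ⟨_, _, by rw [← Nat.gcd_eq_gcd_ab, hgcd]⟩
      have hAd : A ^ d ∈ commutator (Grp (m * e) n R (v * l)) := by
        rw [← zpow_natCast, hxy, zpow_add, zpow_mul, zpow_mul, zpow_natCast, zpow_natCast, genA_pow,
          one_zpow, mul_one]
        exact zpow_mem hc x
      rw [show A ^ m = (A ^ d) ^ v by rw [← pow_mul, ← hv]]
      exact pow_mem hAd v
  refine CfsgLib.StemExt.hasCyclicSchurMultiplier σ hstem
    (hker ▸ CfsgLib.StemExt.isCyclic_of_le_zpowers le_rfl) ?_ fun Γ _ _ τ hτ => ?_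
  · rw [hker, Nat.card_zpowers, orderOf_pow' _ hm.ne', hordA,
      Nat.gcd_eq_right (dvd_mul_right m e), Nat.mul_div_cancel_left _ hm]
  -- the bound
  obtain ⟨a, ha⟩ := hτ.1 (genA m n r (v * l))
  obtain ⟨b, hb⟩ := hτ.1 (genB m n r (v * l))
  set c := b * a * b⁻¹ * a⁻¹ with hcdef
  have hnorm : τ b * τ a * (τ b)⁻¹ ∈ zpowers (τ a) := by
    rw [ha, hb, gen_conj]; exact npow_mem_zpowers _ r
  have hgen : closure ({τ a, τ b} : Set (Grp m n r (v * l))) = ⊤ := by rw [ha, hb]; exact closure_gen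
  have hkle := CfsgLib.StemExt.ker_le_zpowers hτ hgen hnorm
  have hcen : ∀ w, τ w = 1 → ∀ x, Commute x w := fun w hw x => mem_center_iff.1 (hτ.2.1 hw) x
  have hcm : c ^ m = 1 := CfsgLib.StemExt.comm_pow_eq_one hτ.2.1 hnorm
    (hcen _ (by rw [map_pow, ha, genA_pow]) b)
  set w := (a ^ (v * l))⁻¹ * b ^ n with hwdef
  have hw : τ w = 1 := by rw [hwdef, map_mul, map_inv, map_pow, map_pow, ha, hb, genB_pow, inv_mul_cancel]
  have hbn : b ^ n = a ^ (v * l) * w := by rw [hwdef, mul_inv_cancel_left]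
  have hcl : c ^ (v * l) = 1 := CfsgLib.StemExt.comm_pow_eq_one hτ.2.1 hnorm (by
    have h1 : Commute b (b ^ n * w⁻¹) := ((Commute.refl b).pow_right n).mul_right (hcen w hw b).inv_right
    rwa [hbn, mul_inv_cancel_right] at h1)
  -- conjugation by powers of `b`
  set z := (a ^ r)⁻¹ * (b * a * b⁻¹) with hzdef
  have hz : τ z = 1 := by
    rw [hzdef, map_mul, map_mul, map_mul, map_inv, map_inv, map_pow, ha, hb, gen_conj, inv_mul_cancel]
  have hz1 := hcen z hz
  have hba : b * a * b⁻¹ = a ^ r * z := by rw [hzdef, mul_inv_cancel_left]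
  have hc1 : c = a ^ (r - 1) * z := by
    rw [hcdef, hba, mul_assoc, ← (hz1 a⁻¹).eq, ← mul_assoc]
    conv_lhs => rw [← Nat.sub_add_cancel (show 1 ≤ r from hr), pow_succ, mul_inv_cancel_right]
  have hac : Commute a c := by rw [hc1]; exact ((Commute.refl a).pow_right _).mul_right (hz1 a)
  have hbc : b * c * b⁻¹ = c ^ r := by
    rw [hc1, (hz1 (a ^ (r - 1))).mul_pow]
    calc b * (a ^ (r - 1) * z) * b⁻¹ = (b * a * b⁻¹) ^ (r - 1) * (b * z * b⁻¹) := by rw [conj_pow]; group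
      _ = (a ^ r * z) ^ (r - 1) * z := by rw [hba, (hz1 b).eq, mul_inv_cancel_right]
      _ = (a ^ (r - 1)) ^ r * z ^ r := by
        rw [(hz1 (a ^ r)).mul_pow, ← pow_mul, ← pow_mul, mul_comm r, mul_assoc, ← pow_succ,
          Nat.sub_add_cancel (show 1 ≤ r from hr)]
  have hconj : ∀ k : ℕ, b ^ k * a * (b ^ k)⁻¹ = c ^ (∑ i ∈ Finset.range k, r ^ i) * a := by
    intro k
    induction k with
    | zero => simp
    | succ k ih =>
      calc b ^ (k + 1) * a * (b ^ (k + 1))⁻¹ = b * (b ^ k * a * (b ^ k)⁻¹) * b⁻¹ := by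
            rw [pow_succ']; group
        _ = (b * c * b⁻¹) ^ (∑ i ∈ Finset.range k, r ^ i) * (c * a) := by
            rw [ih, conj_pow, hcdef]; group
        _ = c ^ (∑ i ∈ Finset.range (k + 1), r ^ i) * a := by
            rw [hbc, ← pow_mul, ← mul_assoc, ← pow_succ, geom_sum_succ]
  have hcS : c ^ (∑ i ∈ Finset.range n, r ^ i) = 1 := by
    have h1 : Commute (b ^ n) a := by
      rw [hbn]; exact ((Commute.refl a).pow_left _).mul_left (hcen w hw a).symm
    have h2 := hconj n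
    rw [h1.eq, mul_inv_cancel_right] at h2
    exact mul_eq_right.1 h2.symm
  have hle : τ.ker ≤ zpowers (c ^ v) := fun x hx => by
    obtain ⟨i, rfl⟩ := hkle hx
    have h1 : τ (c ^ i) = 1 := hx
    rw [map_zpow, hc1, map_mul, hz, mul_one, map_pow, ha, ← zpow_natCast, ← zpow_mul,
      ← orderOf_dvd_iff_zpow_eq_one, hordG] at h1
    obtain ⟨k, hk⟩ := hvi i h1
    exact ⟨k, by show (c ^ v) ^ k = c ^ i; rw [← zpow_natCast, ← zpow_mul, ← hk]⟩
  refine ⟨CfsgLib.StemExt.isCyclic_of_le_zpowers hle, (Subgroup.card_dvd_of_le hle).trans ?_⟩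
  rw [Nat.card_zpowers]
  refine orderOf_dvd_of_pow_eq_one ?_
  rw [← pow_mul]
  exact orderOf_dvd_iff_pow_eq_one.1 (hbound _ (orderOf_dvd_of_pow_eq_one hcm)
    (orderOf_dvd_of_pow_eq_one hcl) (orderOf_dvd_of_pow_eq_one hcS))

/-- Let `m, n ≥ 1`, `r ≥ 1` with `r ^ n ≡ 1 (mod m)`, and `l` a natural number; put `d = gcd(m, r - 1)`, `t = m l / d` and `h = d · gcd(m, 1 + r + ⋯ + r^(n-1)) / m`. The group presented by generators `a, b` and relations `a ^ m = 1`, `b ^ n = a ^ t`, `b a b⁻¹ = a ^ r` (a metacyclic group of order `m n`) has Schur multiplier cyclic of order `gcd(l, h)`. -/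
theorem result (m n r l : ℕ) (hm : 0 < m) (hn : 0 < n) (hr : 0 < r) (hrn : r ^ n ≡ 1 [MOD m]) : Cfsg.HasCyclicSchurMultiplier (PresentedGroup ({FreeGroup.of true ^ m, (FreeGroup.of false) ^ n * (FreeGroup.of true ^ (m * l / Nat.gcd m (r - 1)))⁻¹, FreeGroup.of false * FreeGroup.of true * (FreeGroup.of false)⁻¹ * (FreeGroup.of true ^ r)⁻¹} : Set (FreeGroup Bool))) (Nat.gcd l (Nat.gcd m (r - 1) * Nat.gcd m (∑ i ∈ Finset.range n, r ^ i) / m)) := by
  exact main m n r l hm hn hr hrn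

end Cfsg.Agent.S3967
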