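import Cfsg.Statements.S3972
import Cfsg.Agent.SchurRing.BGroup

set_option autoImplicit false
open Cfsg

namespace Cfsg.Agent.S3972

/-- Let `p` be a prime, `m ≥ 2`, and `G` a transitive but not doubly transitive permutation group on `p ^ m` points containing a permutation of order `p ^ m` (necessarily a full cycle). Then `G` is imprimitive, and the normal closure in `G` of the `p ^ (m - 1)`-th power of that permutation is an intransitive normal subgroup. -/
theorem result {Ω : Type*} [Fintype Ω] [DecidableEq Ω] (p m : ℕ) (hp : p.Prime) (hm : 2 ≤ m) (hΩ : Fintype.card Ω = p ^ m) (G : Subgroup (Equiv.Perm Ω)) (htr : MulAction.IsPretransitive G Ω) (h2 : ¬ MulAction.IsMultiplyPretransitive G Ω 2) (g : G) (hg : orderOf g = p ^ m) : ¬ MulAction.IsPreprimitive G Ω ∧ ¬ MulAction.IsPretransitive (Subgroup.normalClosure ({g ^ (p ^ (m - 1))} : Set G)) Ω := by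
  haveI := Fact.mk hp
  haveI := htr
  have hcard : Nat.card Ω = p ^ m := by rw [Nat.card_eq_fintype_card, hΩ]
  haveI : Nonempty Ω := Fintype.card_pos_iff.1 (hΩ ▸ pow_pos hp.pos m)
  obtain ⟨a, hbij⟩ := CfsgLib.SchurRing.bijective_zpowers (by omega) hcard hg
  haveI : Nontrivial Ω := Fintype.one_lt_card_iff_nontrivial.1
    (hΩ ▸ Nat.one_lt_pow (by omega) hp.one_lt)
  have hA : ¬ IsCoatom (MulAction.stabilizer G a) := fun hA =>
    h2 (CfsgLib.SchurRing.two_transitive_of_prime_power hm hg hbij hA)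
  refine ⟨fun hprim => hA (MulAction.IsPreprimitive.isCoatom_stabilizer_of_isPreprimitive (G := G) (X := Ω) a),
    fun hN => ?_⟩
  have hne : MulAction.stabilizer G a ≠ ⊤ := fun h => by
    obtain ⟨b, hb⟩ := exists_ne a
    obtain ⟨x, hx⟩ := MulAction.exists_smul_eq G a b
    exact hb (hx ▸ (h ▸ Subgroup.mem_top x : x ∈ MulAction.stabilizer G a))
  obtain ⟨B, hlt, hBtop⟩ : ∃ B, MulAction.stabilizer G a < B ∧ B ≠ ⊤ := by
    by_contra! h
    exact hA ⟨hne, fun B hB => h B hB⟩
  have hidx : B.index < p ^ m := by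
    rw [← hcard, ← MulAction.index_stabilizer_of_transitive G a]
    exact Subgroup.index_strictAnti hlt
  have hmem := CfsgLib.SchurRing.pow_mem_normalCore (hg ▸ pow_orderOf_eq_one g) hidx
  have hle : Subgroup.normalClosure ({g ^ (p ^ (m - 1))} : Set G) ≤ B.normalCore :=
    Subgroup.normalClosure_le_normal (Set.singleton_subset_iff.2 hmem)
  refine hBtop (top_le_iff.1 fun x _ => ?_)
  obtain ⟨⟨u, hu⟩, hua⟩ := @MulAction.exists_smul_eq _ Ω _ hN a (x • a)
  have hst : u⁻¹ * x ∈ MulAction.stabilizer G a := by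
    rw [MulAction.mem_stabilizer_iff, mul_smul, ← hua]
    exact inv_smul_smul u a
  have := B.mul_mem (B.normalCore_le (hle hu)) (hlt.le hst)
  rwa [mul_inv_cancel_left] at this

end Cfsg.Agent.S3972
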