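import Cfsg.Statements.S3978
import Cfsg.Agent.Schur.Lift
import Cfsg.Agent.FGSB.StemExt
import Cfsg.Agent.S3956

set_option autoImplicit false
open Cfsg

namespace Cfsg.Agent.S3978

/-- A finite group `Q` has trivial Schur multiplier if and only if, for every `n`, every homomorphism from `Q` to the projective general linear group (the quotient of `GL n ℂ` by its centre) lifts to a homomorphism into `GL n ℂ`. -/
theorem result {Q : Type*} [Group Q] [Finite Q] : Cfsg.HasCyclicSchurMultiplier Q 1 ↔ ∀ (n : ℕ) (γ : Q →* (GL (Fin n) ℂ ⧸ Subgroup.center (GL (Fin n) ℂ))), ∃ ρ : Q →* GL (Fin n) ℂ, (QuotientGroup.mk' (Subgroup.center (GL (Fin n) ℂ))).comp ρ = γ := by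
  have hid : Cfsg.IsStemExtension (MonoidHom.id Q) :=
    ⟨Function.surjective_id, by simp, by simp⟩
  haveI : Subsingleton (MonoidHom.id Q).ker := by rw [MonoidHom.ker_id]; infer_instance
  refine ⟨fun h n γ => ?_, fun h => ?_⟩
  · haveI : Subsingleton (Multiplicative (ZMod 1)) := Multiplicative.toAdd.injective.subsingleton
    exact CfsgLib.Schur.lift_cover h (MonoidHom.id Q) hid
      ⟨MulEquiv.ofBijective (1 : (MonoidHom.id Q).ker →* Multiplicative (ZMod 1))
        ⟨fun a b _ => Subsingleton.elim a b, fun b => ⟨1, Subsingleton.elim _ _⟩⟩⟩ n γ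
  · refine CfsgLib.StemExt.hasTrivialSchurMultiplier fun Δ _ _ τ hτ => ?_
    obtain ⟨π, hπ⟩ := Cfsg.Agent.S3956.result (MonoidHom.id Q) hid h Δ τ hτ
    haveI : Subsingleton τ.ker := hπ.subsingleton
    exact Subgroup.eq_bot_of_subsingleton _

end Cfsg.Agent.S3978
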