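import Cfsg.Statements.S3981
import Mathlib.GroupTheory.Nilpotent
import Mathlib.GroupTheory.PGroup
import Mathlib.GroupTheory.Sylow
import Mathlib.Tactic.Group

set_option autoImplicit false
open Cfsg

namespace Cfsg.Agent.S3981

/-- Let p be an odd prime, Q a p-subgroup of the finite group G and y an involution normalizing Q. Then Q is maximal among the p-subgroups of G normalized by y if and only if the image of y in N_G(Q) ⧸ Q neither inverts nor centralizes any element of order p there; the latter is phrased inside N_G(Q): for every x in N_G(Q) outside Q with x ^ p ∈ Q, neither y x y⁻¹ x nor y x y⁻¹ x⁻¹ lies in Q. -/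
theorem result {G : Type*} [Group G] [Finite G] (p : ℕ) [Fact p.Prime] (hp2 : p ≠ 2) (Q : Subgroup G) (hQ : IsPGroup p ↥Q) (y : G) (hy : orderOf y = 2) (hyQ : y ∈ Subgroup.normalizer (Q : Set G)) : (∀ R : Subgroup G, IsPGroup p ↥R → Q ≤ R → y ∈ Subgroup.normalizer (R : Set G) → R = Q) ↔ ∀ x : G, x ∈ Subgroup.normalizer (Q : Set G) → x ∉ Q → x ^ p ∈ Q → (y * x * y⁻¹ * x ∉ Q ∧ y * x * y⁻¹ * x⁻¹ ∉ Q) := by
  classical
  have hyinv : y⁻¹ = y := inv_eq_of_mul_eq_one_right (by rw [← sq, ← hy, pow_orderOf_eq_one])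
  have hQn : ∀ n ∈ Subgroup.normalizer (Q : Set G), ∀ q ∈ Q, n * q * n⁻¹ ∈ Q := fun n hn q hq =>
    (Subgroup.mem_normalizer_iff.1 hn q).1 hq
  constructor
  · intro hmax x hx hxQ hxp
    have hZ : IsPGroup p (Subgroup.zpowers x) := by
      obtain ⟨k, hk⟩ := hQ ⟨x ^ p, hxp⟩
      have hk' : (x ^ p) ^ p ^ k = 1 := by simpa using congrArg Subtype.val hk
      obtain ⟨e, -, he⟩ := (Nat.dvd_prime_pow (Fact.out : p.Prime)).1
        (orderOf_dvd_of_pow_eq_one (show x ^ p ^ (k + 1) = 1 by rw [pow_succ', pow_mul, hk']))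
      exact IsPGroup.of_card (n := e) (by rw [Nat.card_zpowers, he])
    have key : y * x * y⁻¹ ∈ Q ⊔ Subgroup.zpowers x → False := by
      intro h
      have hR : IsPGroup p (Q ⊔ Subgroup.zpowers x : Subgroup G) :=
        hQ.to_sup_of_normal_left' hZ (Subgroup.zpowers_le.2 hx)
      have hle : Q ⊔ Subgroup.zpowers x ≤ (Q ⊔ Subgroup.zpowers x).comap (MulAut.conj y).toMonoidHom := by
        refine sup_le (fun q hq => ?_) (Subgroup.zpowers_le.2 ?_)
        · exact Subgroup.mem_sup_left (hQn y hyQ q hq)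
        · exact h
      have hyR : y ∈ Subgroup.normalizer ((Q ⊔ Subgroup.zpowers x : Subgroup G) : Set G) := by
        rw [Subgroup.mem_normalizer_iff]
        refine fun g => ⟨fun hg => hle hg, fun hg => ?_⟩
        have h2 : y * (y * g * y⁻¹) * y⁻¹ ∈ Q ⊔ Subgroup.zpowers x := hle hg
        have hyy : y * y = 1 := by
          conv_lhs => arg 1; rw [← hyinv]
          exact inv_mul_cancel y
        rwa [hyinv, mul_assoc, mul_assoc (y * g), hyy, mul_one, ← mul_assoc, hyy, one_mul] at h2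
      have := hmax _ hR le_sup_left hyR
      exact hxQ (this ▸ Subgroup.mem_sup_right (Subgroup.mem_zpowers x))
    refine ⟨fun h => key ?_, fun h => key ?_⟩
    · have := mul_mem (Subgroup.mem_sup_left (T := Subgroup.zpowers x) h)
        (Subgroup.mem_sup_right (S := Q) (inv_mem (Subgroup.mem_zpowers x)))
      simpa [mul_assoc] using this
    · have := mul_mem (Subgroup.mem_sup_left (T := Subgroup.zpowers x) h)
        (Subgroup.mem_sup_right (S := Q) (Subgroup.mem_zpowers x))
      simpa [mul_assoc] using this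
  · intro hcond R hR hQR hyR
    by_contra hne
    haveI := hR.isNilpotent
    have hlt : Q.subgroupOf R < ⊤ := lt_top_iff_ne_top.2 fun h =>
      hne (le_antisymm (Subgroup.subgroupOf_eq_top.1 h) hQR)
    obtain ⟨s, hs, hsQ⟩ := SetLike.exists_of_lt (normalizerCondition_of_isNilpotent _ hlt)
    rw [Subgroup.mem_subgroupOf] at hsQ
    have hsN : (s : G) ∈ Subgroup.normalizer (Q : Set G) := by
      rw [Subgroup.mem_normalizer_iff]
      intro g
      constructor
      · intro hg
        exact (Subgroup.mem_normalizer_iff.1 hs ⟨g, hQR hg⟩).1 hg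
      · intro hg
        have hgR : g ∈ R := by
          simpa [mul_assoc] using mul_mem (mul_mem (inv_mem s.2) (hQR hg)) s.2
        exact (Subgroup.mem_normalizer_iff.1 hs ⟨g, hgR⟩).2 hg
    have climb : ∀ w : G, w ∈ R → w ∉ Q → ∃ k : ℕ, w ^ p ^ k ∉ Q ∧ (w ^ p ^ k) ^ p ∈ Q := by
      intro w hwR hwQ
      obtain ⟨n, hn⟩ := hR ⟨w, hwR⟩
      have hex : ∃ k, w ^ p ^ k ∈ Q := ⟨n, by
        have : w ^ p ^ n = 1 := by simpa using congrArg Subtype.val hn
        rw [this]; exact one_mem Q⟩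
      obtain ⟨k, hk⟩ : ∃ k, Nat.find hex = k + 1 := by
        refine ⟨Nat.find hex - 1, (Nat.sub_add_cancel (Nat.one_le_iff_ne_zero.2 fun h0 => hwQ ?_)).symm⟩
        have := Nat.find_spec hex
        rw [h0, pow_zero, pow_one] at this
        exact this
      refine ⟨k, Nat.find_min hex (by omega), ?_⟩
      have := Nat.find_spec hex
      rwa [hk, pow_succ, pow_mul] at this
    obtain ⟨k, hk1, hk2⟩ := climb _ s.2 hsQ
    obtain ⟨x, hxdef⟩ : ∃ x, x = (s : G) ^ p ^ k := ⟨_, rfl⟩
    rw [← hxdef] at hk1 hk2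
    have hxN : x ∈ Subgroup.normalizer (Q : Set G) := hxdef ▸ pow_mem hsN _
    have hxR : x ∈ R := hxdef ▸ pow_mem s.2 _
    obtain ⟨z, hz⟩ : ∃ z, z = x⁻¹ * (y * x * y⁻¹) := ⟨_, rfl⟩
    have hzN : z ∈ Subgroup.normalizer (Q : Set G) :=
      hz ▸ mul_mem (inv_mem hxN) (mul_mem (mul_mem hyQ hxN) (inv_mem hyQ))
    have hzR : z ∈ R := hz ▸ mul_mem (inv_mem hxR) ((Subgroup.mem_normalizer_iff.1 hyR x).1 hxR)
    by_cases hzQ : z ∈ Q
    · have hq := hQn x hxN z hzQ
      rw [hz, mul_inv_cancel_left] at hq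
      exact (hcond x hxN hk1 hk2).2 hq
    · obtain ⟨l, hl1, hl2⟩ := climb z hzR hzQ
      refine (hcond _ (pow_mem hzN _) hl1 hl2).1 ?_
      have hinv : y * z * y⁻¹ = z⁻¹ := by
        have hyy : y * y = 1 := by
          conv_lhs => arg 1; rw [← hyinv]
          exact inv_mul_cancel y
        rw [hz, hyinv]
        calc y * (x⁻¹ * (y * x * y)) * y = y * x⁻¹ * y * x * (y * y) := by simp only [mul_assoc]
          _ = (y * x * y)⁻¹ * x := by rw [hyy, mul_one, mul_inv_rev, mul_inv_rev, hyinv]; simp only [mul_assoc]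
          _ = (x⁻¹ * (y * x * y))⁻¹ := by rw [mul_inv_rev (x⁻¹), inv_inv]
      rw [← conj_pow, hinv, inv_pow, inv_mul_cancel]
      exact one_mem Q

end Cfsg.Agent.S3981
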