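import Cfsg.Statements.S3982
import Cfsg.Agent.FGSB.Small
import Cfsg.Agent.LocalB.OddSignalizer

set_option autoImplicit false
open Cfsg
open Pointwise

namespace Cfsg.Agent.S3982

/-- Let p be an odd prime and G a finite group of even order divisible by p in which the centralizer of every non-identity p-element has odd order. If some nontrivial p-subgroup of G has a normalizer of even order, then the normalizer of every Sylow p-subgroup of G has even order. -/
theorem result {G : Type*} [Group G] [Finite G] (p : ℕ) [Fact p.Prime] (hp2 : p ≠ 2) (hpG : p ∣ Nat.card G) (h2G : 2 ∣ Nat.card G) (hC : ∀ g : G, g ≠ 1 → (∃ k : ℕ, orderOf g = p ^ k) → Odd (Nat.card ↥(Subgroup.centralizer ({g} : Set G)))) (Q : Subgroup G) (hQ : IsPGroup p ↥Q) (hQ1 : Q ≠ ⊥) (hev : Even (Nat.card ↥(Subgroup.normalizer (Q : Set G)))) (P : Sylow p G) : Even (Nat.card ↥(Subgroup.normalizer ((P : Subgroup G) : Set G))) := by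
  have hp := (Fact.out : p.Prime)
  have : Fact (Nat.Prime 2) := ⟨Nat.prime_two⟩
  obtain ⟨t, ht⟩ := exists_prime_orderOf_dvd_card'
    (G := ↥(Subgroup.normalizer (Q : Set G))) 2 hev.two_dvd
  have htt : (t : G) * (t : G) = 1 := by
    have := congrArg Subtype.val (pow_orderOf_eq_one t)
    rwa [ht, pow_two] at this
  have ht2 : orderOf (t : G) = 2 := by rw [Subgroup.orderOf_coe, ht]
  have ht1 : (t : G) ≠ 1 := fun h => by rw [h, orderOf_one] at ht2; omega
  -- a maximal `p`-subgroup normalised by `t`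
  let S : Set (Subgroup G) := {R | Q ≤ R ∧ IsPGroup p R ∧ (t : G) ∈ Subgroup.normalizer (R : Set G)}
  obtain ⟨R, hR, hmax⟩ := Set.exists_max_image S (fun R => Nat.card R) (Set.toFinite _)
    ⟨Q, le_rfl, hQ, t.2⟩
  obtain ⟨hQR, hRp, htR⟩ := hR
  have hodd : ∀ a ∈ R, a ≠ 1 → Odd (Nat.card ↥(Subgroup.centralizer ({a} : Set G))) := by
    intro a ha ha1
    refine hC a ha1 ?_
    obtain ⟨k, hk⟩ := IsPGroup.iff_orderOf.1 hRp ⟨a, ha⟩
    exact ⟨k, by rwa [Subgroup.orderOf_mk] at hk⟩
  have hRodd : Odd (Nat.card R) := by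
    obtain ⟨k, hk⟩ := IsPGroup.iff_card.1 hRp
    rw [hk]; exact (hp.odd_of_ne_two hp2).pow
  have hinv : ∀ a ∈ R, (t : G) * a * (t : G)⁻¹ = a⁻¹ := by
    refine CfsgLib.LocalB.inverted_of_fpf hRodd htt
      (fun a ha => (Subgroup.mem_normalizer_iff.1 htR a).1 ha) fun a ha hta => ?_
    by_contra ha1
    have htC : (t : G) ∈ Subgroup.centralizer ({a} : Set G) :=
      Subgroup.mem_centralizer_singleton_iff.2 hta
    have h := Subgroup.orderOf_dvd_natCard _ htC
    rw [ht2] at h
    exact (hodd a ha ha1).not_two_dvd_nat h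
  obtain ⟨r, hr, hr1⟩ := R.bot_or_exists_ne_one.resolve_left (fun h => hQ1 (le_bot_iff.1 (h ▸ hQR)))
  set H := Subgroup.normalizer (R : Set G) with hH
  set C := Subgroup.centralizer (R : Set G) with hCdef
  have hCodd : Odd (Nat.card C) :=
    (hodd r hr hr1).of_dvd_nat (Subgroup.card_dvd_of_le
      (Subgroup.centralizer_le (Set.singleton_subset_iff.2 hr)))
  obtain ⟨T⟩ := (inferInstance : Nonempty (Sylow p ↥H))
  set T' := (T : Subgroup ↥H).map H.subtype with hT'
  set M := T' ⊔ C with hM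
  have hT'H : T' ≤ H := Subgroup.map_subtype_le _
  have hCH : C ≤ H := Subgroup.centralizer_le_normalizer _
  have hcomm : ∀ h ∈ H, (t : G) * h * (t : G)⁻¹ * h⁻¹ ∈ C := by
    intro h hh
    rw [Subgroup.mem_centralizer_iff]
    intro a ha
    have h1 : h⁻¹ * a * h ∈ R := (Subgroup.mem_normalizer_iff''.1 hh a).1 ha
    have h2 := hinv _ h1
    have h3 : (t : G)⁻¹ * a * (t : G) = a⁻¹ := by
      rw [inv_eq_of_mul_eq_one_right htt]
      have := hinv a ha
      rwa [inv_eq_of_mul_eq_one_right htt] at this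
    symm
    apply mul_inv_eq_iff_eq_mul.1
    calc (t : G) * h * (t : G)⁻¹ * h⁻¹ * a * ((t : G) * h * (t : G)⁻¹ * h⁻¹)⁻¹
        = (t : G) * (h * ((t : G)⁻¹ * (h⁻¹ * a * h) * (t : G)) * h⁻¹) * (t : G)⁻¹ := by group
      _ = (t : G) * (h * (h⁻¹ * a * h)⁻¹ * h⁻¹) * (t : G)⁻¹ := by
          congr 2
          rw [inv_eq_of_mul_eq_one_right htt] at h2 ⊢
          rw [h2]
      _ = a := by
          rw [show h * (h⁻¹ * a * h)⁻¹ * h⁻¹ = a⁻¹ by group]
          rw [← conj_inv, hinv a ha, inv_inv]
  have htM : (t : G) ∈ Subgroup.normalizer (M : Set G) := by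
    rw [Subgroup.mem_normalizer_iff_map_conj_eq]
    refine Subgroup.eq_of_le_of_card_ge ?_
      (Subgroup.card_map_of_injective (MulEquiv.injective _)).ge
    rw [hM, Subgroup.map_sup]
    refine sup_le ?_ ?_
    · rintro _ ⟨y, hy, rfl⟩
      change (t : G) * y * (t : G)⁻¹ ∈ M
      rw [← inv_mul_cancel_right ((t : G) * y * (t : G)⁻¹) y]
      exact Subgroup.mul_mem _ (Subgroup.mem_sup_right (hcomm y (hT'H hy))) (Subgroup.mem_sup_left hy)
    · rintro _ ⟨y, hy, rfl⟩
      change (t : G) * y * (t : G)⁻¹ ∈ M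
      rw [← inv_mul_cancel_right ((t : G) * y * (t : G)⁻¹) y]
      exact Subgroup.mem_sup_right (Subgroup.mul_mem _ (hcomm y (hCH hy)) hy)
  have hModd : Odd (Nat.card M) := by
    have hd := CfsgLib.Solvable.card_sup_dvd (A := T') (K := C)
      (hT'H.trans (by
        intro h hh
        rw [Subgroup.mem_normalizer_iff_map_conj_eq]
        refine Subgroup.eq_of_le_of_card_ge ?_ (Subgroup.card_map_of_injective (MulEquiv.injective _)).ge
        rintro _ ⟨c, hc, rfl⟩
        change h * c * h⁻¹ ∈ C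
        rw [Subgroup.mem_centralizer_iff]
        intro a ha
        have h1 := (Subgroup.mem_normalizer_iff''.1 hh a).1 ha
        have h2 := Subgroup.mem_centralizer_iff.1 hc _ h1
        calc a * (h * c * h⁻¹) = h * (h⁻¹ * a * h * c) * h⁻¹ := by group
          _ = h * (c * (h⁻¹ * a * h)) * h⁻¹ := by rw [h2]
          _ = h * c * h⁻¹ * a := by group))
    obtain ⟨k, hk⟩ := IsPGroup.iff_card.1 (T.isPGroup'.map H.subtype)
    exact (((hp.odd_of_ne_two hp2).pow (n := k)).mul hCodd).of_dvd_nat (hk ▸ hd)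
  -- `t` fixes a Sylow subgroup of `M`
  have hMH : M ≤ H := sup_le hT'H hCH
  let act : MulDistribMulAction ↥(Subgroup.zpowers (t : G)) ↥M :=
    MulDistribMulAction.compHom _ (M.normalizerMonoidHom.comp
      (Subgroup.inclusion (Subgroup.zpowers_le.2 htM)))
  have hA : IsPGroup 2 ↥(Subgroup.zpowers (t : G)) :=
    IsPGroup.of_card (n := 1) (by rw [Nat.card_zpowers, ht2, pow_one])
  have hnd : ¬ 2 ∣ Nat.card (Sylow p ↥M) := fun h => by
    obtain ⟨U⟩ := (inferInstance : Nonempty (Sylow p ↥M))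
    exact hModd.not_two_dvd_nat (h.trans (U.card_dvd_index.trans (Subgroup.index_dvd_card _)))
  obtain ⟨U, hU⟩ := hA.nonempty_fixed_point_of_prime_not_dvd_card (Sylow p ↥M) hnd
  set U' := (U : Subgroup ↥M).map M.subtype with hU'
  have htU : (t : G) ∈ Subgroup.normalizer (U' : Set G) := by
    rw [Subgroup.mem_normalizer_iff_map_conj_eq]
    refine Subgroup.eq_of_le_of_card_ge ?_
      (Subgroup.card_map_of_injective (MulEquiv.injective _)).ge
    rintro _ ⟨_, ⟨u, hu, rfl⟩, rfl⟩
    have h1 := hU ⟨(t : G), Subgroup.mem_zpowers _⟩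
    have h2 : (⟨(t : G), Subgroup.mem_zpowers _⟩ : ↥(Subgroup.zpowers (t : G))) • u ∈
        (((⟨(t : G), Subgroup.mem_zpowers _⟩ : ↥(Subgroup.zpowers (t : G))) • U : Sylow p ↥M) :
          Subgroup ↥M) := by
      rw [Sylow.pointwise_smul_def]
      exact Subgroup.smul_mem_pointwise_smul _ _ _ hu
    rw [h1] at h2
    exact ⟨_, h2, rfl⟩
  -- `U'` contains `R`, hence equals it
  have hRM : R ≤ M := by
    have h1 : R.subgroupOf H ≤ (T : Subgroup ↥H) := by
      have hn : (R.comap H.subtype).Normal := by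
        show (R.subgroupOf H).Normal
        rw [hH]; infer_instance
      exact (T.3 (IsPGroup.to_sup_of_normal_left
        (hRp.comap_of_injective _ H.subtype_injective) T.isPGroup') le_sup_right) ▸ le_sup_left
    have h2 := Subgroup.map_mono (f := H.subtype) h1
    rw [Subgroup.map_subgroupOf_eq_of_le (show R ≤ H from Subgroup.le_normalizer)] at h2
    exact h2.trans le_sup_left
  have hRU : R ≤ U' := by
    have hn : (R.comap M.subtype).Normal :=
      (Subgroup.normal_subgroupOf_iff_le_normalizer hRM).2 hMH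
    have h1 : R.subgroupOf M ≤ (U : Subgroup ↥M) :=
      (U.3 (IsPGroup.to_sup_of_normal_left
        (hRp.comap_of_injective _ M.subtype_injective) U.isPGroup') le_sup_right) ▸ le_sup_left
    have h2 := Subgroup.map_mono (f := M.subtype) h1
    rwa [Subgroup.map_subgroupOf_eq_of_le hRM] at h2
  have hUp : IsPGroup p U' := U.isPGroup'.map _
  have heq : R = U' := Subgroup.eq_of_le_of_card_ge hRU (hmax U' ⟨hQR.trans hRU, hUp, htU⟩)
  -- so `R` is a Sylow subgroup
  obtain ⟨P', hP'⟩ := hRp.exists_le_sylow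
  have hRP : R = P' := by
    by_contra hne
    have := P'.isPGroup'.isNilpotent
    have hlt : R.subgroupOf (P' : Subgroup G) < ⊤ := lt_top_iff_ne_top.2 fun h =>
      hne (le_antisymm hP' (Subgroup.subgroupOf_eq_top.1 h))
    obtain ⟨g, hg, hgR⟩ := SetLike.exists_of_lt
      (normalizerCondition_of_isNilpotent (G := ↥(P' : Subgroup G)) _ hlt)
    have hgH : (g : G) ∈ H := by
      rw [hH, Subgroup.mem_normalizer_iff]
      intro a
      constructor
      · intro ha
        exact (Subgroup.mem_normalizer_iff.1 hg ⟨a, hP' ha⟩).1 ha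
      · intro ha
        have haP : a ∈ (P' : Subgroup G) := by
          have := (P' : Subgroup G).mul_mem ((P' : Subgroup G).mul_mem ((P' : Subgroup G).inv_mem g.2)
            (hP' ha)) g.2
          simpa [mul_assoc] using this
        exact (Subgroup.mem_normalizer_iff.1 hg ⟨a, haP⟩).2 ha
    set Y := R ⊔ Subgroup.zpowers (g : G) with hY
    have hYp : IsPGroup p Y := P'.isPGroup'.to_le (sup_le hP' (Subgroup.zpowers_le.2 g.2))
    have hYH : Y ≤ H := sup_le Subgroup.le_normalizer (Subgroup.zpowers_le.2 hgH)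
    obtain ⟨V, hV⟩ := (hYp.comap_of_injective _ H.subtype_injective).exists_le_sylow
    have h1 : Nat.card Y ≤ Nat.card (V : Subgroup ↥H) := by
      refine le_trans (le_of_eq ?_) (Nat.le_of_dvd Nat.card_pos (Subgroup.card_dvd_of_le hV))
      exact (Nat.card_congr (Subgroup.subgroupOfEquivOfLe hYH).toEquiv).symm
    have h2 : Nat.card (V : Subgroup ↥H) = Nat.card T' := by
      rw [hT', Subgroup.card_map_of_injective H.subtype_injective, V.card_eq_multiplicity,
        T.card_eq_multiplicity]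
    have h3 : Nat.card T' ≤ Nat.card U' := by
      obtain ⟨W, hW⟩ := ((T.isPGroup'.map H.subtype).comap_of_injective _
        M.subtype_injective).exists_le_sylow
      rw [hU', Subgroup.card_map_of_injective M.subtype_injective, U.card_eq_multiplicity,
        ← W.card_eq_multiplicity]
      refine le_trans (le_of_eq ?_) (Nat.le_of_dvd Nat.card_pos (Subgroup.card_dvd_of_le hW))
      exact (Nat.card_congr (Subgroup.subgroupOfEquivOfLe (le_sup_left : T' ≤ M)).toEquiv).symm
    have hlt' : Nat.card R < Nat.card Y := CfsgLib.Solvable.card_lt_of_lt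
      (lt_of_le_of_ne le_sup_left fun h => hgR
        (h.symm.le (Subgroup.mem_sup_right (Subgroup.mem_zpowers _))))
    rw [← heq] at h3
    omega
  obtain ⟨c, hc⟩ := MulAction.exists_smul_eq G P' P
  have hdvd : 2 ∣ Nat.card ↥(Subgroup.normalizer ((P : Subgroup G) : Set G)) := by
    rw [← hc, Sylow.smul_def, ← ht2]
    have hmem : c * (t : G) * c⁻¹ ∈ Subgroup.normalizer (((c • P' : Sylow p G) : Subgroup G) : Set G) := by
      rw [hH, hRP] at htR
      rw [Subgroup.mem_normalizer_iff]
      intro a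
      rw [Sylow.coe_subgroup_smul, Subgroup.mem_pointwise_smul_iff_inv_smul_mem,
        Subgroup.mem_pointwise_smul_iff_inv_smul_mem, Subgroup.mem_normalizer_iff.1 htR]
      simp [mul_assoc]
    rw [show orderOf (t : G) = orderOf (c * (t : G) * c⁻¹) from
      (MulEquiv.orderOf_eq (MulAut.conj c) (t : G)).symm]
    exact Subgroup.orderOf_dvd_natCard _ hmem
  exact even_iff_two_dvd.2 hdvd

end Cfsg.Agent.S3982
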