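import Cfsg.Statements.S3983
import Cfsg.Agent.FGSB.Small

set_option autoImplicit false
open scoped Pointwise
open Cfsg

namespace Cfsg.Agent.S3983

/-- Let P be a Sylow p-subgroup of the finite group G that meets each conjugate g P g⁻¹ with g outside N_G(P) trivially, and let U be a subgroup of G of order divisible by p. Then a Sylow p-subgroup Q of U has the same property inside U: Q meets each conjugate u Q u⁻¹ with u ∈ U outside N_U(Q) trivially. -/
theorem result {G : Type*} [Group G] [Finite G] (p : ℕ) [Fact p.Prime] (P : Sylow p G) (hTI : ∀ g : G, g ∉ Subgroup.normalizer ((P : Subgroup G) : Set G) → (P : Subgroup G) ⊓ (MulAut.conj g • (P : Subgroup G)) = ⊥) (U : Subgroup G) (hU : p ∣ Nat.card ↥U) (Q : Sylow p ↥U) : ∀ u : ↥U, u ∉ Subgroup.normalizer ((Q : Subgroup ↥U) : Set ↥U) → (Q : Subgroup ↥U) ⊓ (MulAut.conj u • (Q : Subgroup ↥U)) = ⊥ := by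
  intro u hu
  by_contra hne
  obtain ⟨a, ha, ha1⟩ := (Subgroup.bot_or_exists_ne_one _).resolve_left hne
  obtain ⟨ha2, ha3⟩ := Subgroup.mem_inf.1 ha
  obtain ⟨b, hb, rfl⟩ := ha3
  obtain ⟨R, hR⟩ := (Q.isPGroup'.map U.subtype).exists_le_sylow
  obtain ⟨c, rfl⟩ := MulAction.exists_smul_eq G P R
  have hm : ∀ q ∈ (Q : Subgroup ↥U), c⁻¹ * (q : G) * c ∈ (P : Subgroup G) := fun q hq => by
    obtain ⟨w, hw, hw'⟩ := hR (Subgroup.mem_map_of_mem U.subtype hq)
    change c * w * c⁻¹ = (q : G) at hw'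
    rw [← hw']
    simpa [mul_assoc] using (show w ∈ (P : Subgroup G) from hw)
  set g := c⁻¹ * (u : G) * c with hg
  have hgN : g ∈ Subgroup.normalizer ((P : Subgroup G) : Set G) := by
    by_contra hgN
    apply ha1
    have hbot := hTI g hgN
    have h1 : c⁻¹ * ((MulAut.conj u • b : ↥U) : G) * c = g * (c⁻¹ * (b : G) * c) * g⁻¹ := by
      rw [hg]; simp [mul_assoc]
    have hmem : c⁻¹ * ((MulAut.conj u • b : ↥U) : G) * c ∈
        (P : Subgroup G) ⊓ (MulAut.conj g • (P : Subgroup G)) :=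
      ⟨hm _ ha2, by rw [h1]; exact Subgroup.smul_mem_pointwise_smul _ _ _ (hm b hb)⟩
    rw [hbot, Subgroup.mem_bot] at hmem
    have h2 : ((MulAut.conj u • b : ↥U) : G) = 1 := by
      rw [mul_assoc, inv_mul_eq_one] at hmem
      exact mul_right_cancel (hmem.symm.trans (one_mul c).symm)
    exact Subtype.ext h2
  apply hu
  set T : Subgroup ↥U := ((c • P : Sylow p G) : Subgroup G).comap U.subtype
  have hTQ : T = (Q : Subgroup ↥U) :=
    Q.3 ((c • P : Sylow p G).isPGroup'.comap_of_injective _ U.subtype_injective)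
      (Subgroup.map_le_iff_le_comap.1 hR)
  rw [Subgroup.mem_normalizer_iff]
  intro q
  have hiff : ∀ v : ↥U, v ∈ (Q : Subgroup ↥U) ↔ c⁻¹ * (v : G) * c ∈ (P : Subgroup G) := fun v => by
    rw [← hTQ, Subgroup.mem_comap, Sylow.coe_subgroup_smul, Subgroup.mem_pointwise_smul_iff_inv_smul_mem]
    simp [mul_assoc]
  rw [hiff, hiff, (Subgroup.mem_normalizer_iff.1 hgN _)]
  rw [show g * (c⁻¹ * (q : G) * c) * g⁻¹ = c⁻¹ * ((u * q * u⁻¹ : ↥U) : G) * c by
    rw [hg]; simp [mul_assoc]]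

end Cfsg.Agent.S3983
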