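import Cfsg.Statements.S3984
import Cfsg.Agent.Solvable.Basics

set_option autoImplicit false
open scoped Pointwise
open Cfsg
open Pointwise

namespace Cfsg.Agent.S3984

/-- Let P be a Sylow p-subgroup of the finite group G that meets each conjugate g P g⁻¹ with g outside N_G(P) trivially, and let N be a normal subgroup of G of order prime to p. Then every Sylow p-subgroup Q of G ⧸ N meets each conjugate x Q x⁻¹ with x outside its normalizer trivially. -/
theorem result {G : Type*} [Group G] [Finite G] (p : ℕ) [Fact p.Prime] (P : Sylow p G) (hTI : ∀ g : G, g ∉ Subgroup.normalizer ((P : Subgroup G) : Set G) → (P : Subgroup G) ⊓ (MulAut.conj g • (P : Subgroup G)) = ⊥) (N : Subgroup G) [N.Normal] (hN : (Nat.card ↥N).Coprime p) (Q : Sylow p (G ⧸ N)) : ∀ x : G ⧸ N, x ∉ Subgroup.normalizer ((Q : Subgroup (G ⧸ N)) : Set (G ⧸ N)) → (Q : Subgroup (G ⧸ N)) ⊓ (MulAut.conj x • (Q : Subgroup (G ⧸ N))) = ⊥ := by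
  have hp := (Fact.out : p.Prime)
  intro x hx
  by_contra hne
  obtain ⟨v, hv, hv1⟩ := (Subgroup.bot_or_exists_ne_one _).resolve_left hne
  obtain ⟨R, rfl⟩ := Sylow.mapSurjective_surjective (QuotientGroup.mk'_surjective N) p Q
  obtain ⟨r, rfl⟩ := MulAction.exists_smul_eq G P R
  obtain ⟨g, rfl⟩ := QuotientGroup.mk_surjective x
  set R : Subgroup G := ((r • P : Sylow p G) : Subgroup G) with hR
  have hcoe : ((Sylow.mapSurjective (QuotientGroup.mk'_surjective N) (r • P) : Sylow p (G ⧸ N)) :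
      Subgroup (G ⧸ N)) = R.map (QuotientGroup.mk' N) := Sylow.coe_mapSurjective _ _
  rw [hcoe] at hv hx
  have hRp : IsPGroup p R := (r • P : Sylow p G).isPGroup'
  -- two intersecting conjugates of `R` are equal
  have hTIR : ∀ u : G, (∃ a ∈ R, a ≠ 1 ∧ u⁻¹ * a * u ∈ R) → ∀ b, b ∈ R → u * b * u⁻¹ ∈ R := by
    rintro u ⟨a, ha, ha1, hau⟩ b hb
    have hm : ∀ y, y ∈ R ↔ r⁻¹ * y * r ∈ (P : Subgroup G) := fun y => by
      rw [hR, Sylow.coe_subgroup_smul, Subgroup.mem_pointwise_smul_iff_inv_smul_mem]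
      simp [mul_assoc]
    set w := r⁻¹ * u * r with hw
    have hwN : w ∈ Subgroup.normalizer ((P : Subgroup G) : Set G) := by
      by_contra hwN
      have hbot := hTI w hwN
      have hmem : r⁻¹ * a * r ∈ (P : Subgroup G) ⊓ (MulAut.conj w • (P : Subgroup G)) := by
        refine ⟨(hm a).1 ha, ?_⟩
        have h1 : r⁻¹ * a * r = MulAut.conj w • (r⁻¹ * (u⁻¹ * a * u) * r) := by
          simp [hw, MulAut.smul_def, mul_assoc]
        rw [h1]
        exact Subgroup.smul_mem_pointwise_smul _ _ _ ((hm _).1 hau)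
      rw [hbot, Subgroup.mem_bot, mul_assoc, inv_mul_eq_one] at hmem
      exact ha1 (mul_right_cancel (hmem.symm.trans (one_mul r).symm))
    rw [hm]
    have := (Subgroup.mem_normalizer_iff.1 hwN _).1 ((hm b).1 hb)
    simpa [hw, mul_assoc] using this
  obtain ⟨hv2, hv3⟩ := Subgroup.mem_inf.1 hv
  obtain ⟨a, ha, rfl⟩ := hv2
  obtain ⟨_, ⟨b', hb', rfl⟩, hb⟩ := hv3
  set b := g * b' * g⁻¹ with hbdef
  have hab : (a : G ⧸ N) = (b : G ⧸ N) := by
    change (g : G ⧸ N) * (b' : G ⧸ N) * (g : G ⧸ N)⁻¹ = (a : G ⧸ N) at hb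
    rw [← hb, hbdef]
    simp
  have hdisj : ∀ y ∈ R, y ∈ N → y = 1 := by
    intro y hy hyN
    obtain ⟨k, hk⟩ := IsPGroup.iff_orderOf.1 hRp ⟨y, hy⟩
    rw [Subgroup.orderOf_mk] at hk
    rw [← orderOf_eq_one_iff]
    exact Nat.eq_one_of_dvd_coprimes (hN.pow_right k) (N.orderOf_dvd_natCard hyN) (hk ▸ dvd_rfl)
  -- `⟨a⟩` and `⟨b⟩` are conjugate inside `⟨a⟩N`
  have hord : orderOf b = orderOf a := by
    rw [show orderOf b = orderOf b' from MulEquiv.orderOf_eq (MulAut.conj g) b']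
    have key : ∀ y ∈ R, orderOf (y : G ⧸ N) = orderOf y := fun y hy => by
      refine Nat.dvd_antisymm (orderOf_map_dvd (QuotientGroup.mk' N) y) (orderOf_dvd_of_pow_eq_one ?_)
      refine hdisj _ (R.pow_mem hy _) ((QuotientGroup.eq_one_iff _).1 ?_)
      rw [QuotientGroup.mk_pow, pow_orderOf_eq_one]
    rw [← key a ha, ← key b' hb', hab, hbdef]
    simp only [QuotientGroup.mk_mul, QuotientGroup.mk_inv]
    exact (MulEquiv.orderOf_eq (MulAut.conj (g : G ⧸ N)) (b' : G ⧸ N)).symm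
  obtain ⟨k, hk⟩ := IsPGroup.iff_orderOf.1 hRp ⟨a, ha⟩
  rw [Subgroup.orderOf_mk] at hk
  set W := Subgroup.zpowers a ⊔ N with hW
  have haW : a ∈ W := Subgroup.mem_sup_left (Subgroup.mem_zpowers a)
  have hbW : b ∈ W := by
    have h1 : a⁻¹ * b ∈ N := QuotientGroup.eq.1 hab
    have := W.mul_mem haW (Subgroup.mem_sup_right (S := Subgroup.zpowers a) h1)
    rwa [mul_inv_cancel_left] at this
  have hWc : Nat.card W = p ^ k * Nat.card N := by
    rw [CfsgLib.Solvable.card_sup_of_disjoint Subgroup.le_normalizer_of_normal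
      (Subgroup.inf_eq_bot_of_coprime (by rw [Nat.card_zpowers, hk]; exact hN.symm.pow_left k)),
      Nat.card_zpowers, hk]
  have hmult : p ^ (Nat.card W).factorization p = p ^ k := by
    rw [hWc, Nat.factorization_mul (pow_ne_zero _ hp.ne_zero) Nat.card_pos.ne', hp.factorization_pow]
    simp [Nat.factorization_eq_zero_of_not_dvd (hp.coprime_iff_not_dvd.1 hN.symm)]
  let Ta : Sylow p ↥W := Sylow.ofCard (Subgroup.zpowers ⟨a, haW⟩)
    (by rw [Nat.card_zpowers, hmult, Subgroup.orderOf_mk, hk])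
  let Tb : Sylow p ↥W := Sylow.ofCard (Subgroup.zpowers ⟨b, hbW⟩)
    (by rw [Nat.card_zpowers, hmult, Subgroup.orderOf_mk, hord, hk])
  obtain ⟨⟨w, hwW⟩, hw⟩ := MulAction.exists_smul_eq ↥W Ta Tb
  have hwab : w⁻¹ * b * w ∈ Subgroup.zpowers a := by
    have h1 : (⟨b, hbW⟩ : ↥W) ∈ ((⟨w, hwW⟩ : ↥W) • Ta : Sylow p ↥W) := by
      rw [hw]; exact Subgroup.mem_zpowers (⟨b, hbW⟩ : ↥W)
    obtain ⟨_, ⟨j, rfl⟩, hj⟩ := h1
    refine ⟨j, ?_⟩
    change a ^ j = w⁻¹ * b * w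
    rw [show b = w * a ^ j * w⁻¹ from (by simpa using (congrArg Subtype.val hj).symm)]
    group
  rw [hW, sup_comm, ← SetLike.mem_coe, Subgroup.normal_mul] at hwW
  obtain ⟨n, hn, a', ha', rfl⟩ := Set.mem_mul.1 hwW
  have hnb : n⁻¹ * b * n ∈ Subgroup.zpowers a := by
    have := Subgroup.mul_mem _ (Subgroup.mul_mem _ ha' hwab) (Subgroup.inv_mem _ ha')
    simpa [mul_assoc] using this
  have hb1 : b' ≠ 1 := fun h => hv1 (by
    change (a : G ⧸ N) = 1
    rw [hab, hbdef, h]; simp)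
  -- `n R n⁻¹` meets `g R g⁻¹`
  have hle := hTIR (g⁻¹ * n) ⟨b', hb', hb1, by
    have h1 : n⁻¹ * b * n ∈ R := (Subgroup.zpowers_le.2 ha) hnb
    simpa [hbdef, mul_assoc] using h1⟩
  apply hx
  rw [Subgroup.mem_normalizer_iff_map_conj_eq]
  refine (Subgroup.eq_of_le_of_card_ge ?_
    (Subgroup.card_map_of_injective (MulEquiv.injective _)).le).symm
  rintro _ ⟨y, hy, rfl⟩
  refine ⟨((g⁻¹ * n * y * (g⁻¹ * n)⁻¹ : G) : G ⧸ N),
    Subgroup.mem_map_of_mem (QuotientGroup.mk' N) (hle y hy), ?_⟩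
  simp [(QuotientGroup.eq_one_iff n).2 hn]
  group

end Cfsg.Agent.S3984
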