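import Cfsg.Statements.S3985
import Cfsg.Agent.FGSB.Small

set_option autoImplicit false
open scoped Pointwise
open Cfsg
open Pointwise

namespace Cfsg.Agent.S3985

/-- Let P be a cyclic Sylow p-subgroup of the finite group G. Then P meets each conjugate g P g⁻¹ with g outside N_G(P) trivially if and only if P is weakly self-centralizing: C_G(x) = C_G(P) for every non-identity x ∈ P. -/
theorem result {G : Type*} [Group G] [Finite G] (p : ℕ) [Fact p.Prime] (P : Sylow p G) (hcyc : IsCyclic ↥(P : Subgroup G)) : (∀ g : G, g ∉ Subgroup.normalizer ((P : Subgroup G) : Set G) → (P : Subgroup G) ⊓ (MulAut.conj g • (P : Subgroup G)) = ⊥) ↔ ∀ x : G, x ∈ (P : Subgroup G) → x ≠ 1 → Subgroup.centralizer ({x} : Set G) = Subgroup.centralizer ((P : Subgroup G) : Set G) := by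
  have hp := (Fact.out : p.Prime)
  obtain ⟨z, hz⟩ := hcyc.exists_generator
  have hzP : Subgroup.zpowers (z : G) = (P : Subgroup G) := by
    refine le_antisymm (Subgroup.zpowers_le.2 z.2) fun y hy => ?_
    obtain ⟨i, hi⟩ := hz ⟨y, hy⟩
    exact ⟨i, by simpa using congrArg Subtype.val hi⟩
  constructor
  · intro hTI x hx hx1
    refine le_antisymm (fun g hg => ?_)
      (Subgroup.centralizer_le (Set.singleton_subset_iff.2 hx))
    have hgx : Commute g x := Subgroup.mem_centralizer_singleton_iff.1 hg
    have hgN : g ∈ Subgroup.normalizer ((P : Subgroup G) : Set G) := by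
      by_contra hgN
      apply hx1
      have hmem : x ∈ (P : Subgroup G) ⊓ (MulAut.conj g • (P : Subgroup G)) :=
        ⟨hx, by rw [show x = MulAut.conj g • x by simp [MulAut.smul_def, hgx.eq]]
                exact Subgroup.smul_mem_pointwise_smul _ _ _ hx⟩
      rwa [hTI g hgN, Subgroup.mem_bot] at hmem
    obtain ⟨a, ha⟩ := IsPGroup.iff_orderOf.1 P.isPGroup' z
    set N := Subgroup.normalizer ((P : Subgroup G) : Set G)
    have : ((Subgroup.centralizer ((P : Subgroup G) : Set G)).subgroupOf N).Normal := by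
      rw [← Subgroup.normalizerMonoidHom_ker (P : Subgroup G)]
      infer_instance
    set C := (Subgroup.centralizer ((P : Subgroup G) : Set G)).subgroupOf N with hC
    have hPle : (P : Subgroup G) ≤ Subgroup.centralizer ((P : Subgroup G) : Set G) := fun y hy => by
      rw [Subgroup.mem_centralizer_iff]
      intro w hw
      obtain ⟨i, hi⟩ := hzP.symm.le hy
      obtain ⟨j, hj⟩ := hzP.symm.le hw
      simp only at hi hj
      rw [← hi, ← hj]
      exact (Commute.zpow_zpow_self (z : G) j i).eq
    have hk : ¬ p ∣ C.index := fun h => P.not_dvd_index <| h.trans <| by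
      refine (Subgroup.index_dvd_of_le (Subgroup.comap_mono (f := N.subtype) hPle)).trans ?_
      rw [show Subgroup.comap N.subtype (P : Subgroup G) = (P : Subgroup G).subgroupOf N from rfl,
        ← Subgroup.relIndex_mul_index (Subgroup.le_normalizer : (P : Subgroup G) ≤ N)]
      exact Dvd.intro _ rfl
    have hgk : Commute (g ^ C.index) (z : G) := by
      have h1 : (⟨g, hgN⟩ : ↥N) ^ C.index ∈ C := Subgroup.pow_index_mem C _
      rw [hC, Subgroup.mem_subgroupOf, Subgroup.mem_centralizer_iff] at h1
      exact (h1 z z.2).symm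
    have hgz := CfsgLib.FGSBSmall.commute_of_fixed hp (a := a)
      (by rw [Subgroup.orderOf_coe, ha]) (by rw [hzP]; exact (Subgroup.mem_normalizer_iff.1 hgN _).1 z.2)
      (hzP.symm ▸ hx) hx1 hgx hk hgk
    rw [Subgroup.mem_centralizer_iff]
    intro y hy
    obtain ⟨j, hj⟩ := hzP.symm.le hy
    simp only at hj
    rw [← hj]
    exact (hgz.zpow_right j).eq.symm
  · intro h g hg
    by_contra hne
    obtain ⟨x, hx, hx1⟩ := (Subgroup.bot_or_exists_ne_one _).resolve_left hne
    obtain ⟨hxP, hxg⟩ := Subgroup.mem_inf.1 hx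
    rw [Subgroup.mem_pointwise_smul_iff_inv_smul_mem] at hxg
    have hx' : g⁻¹ * x * g ≠ 1 := fun h1 => hx1 (by
      calc x = g * (g⁻¹ * x * g) * g⁻¹ := by group
        _ = 1 := by rw [h1]; group)
    have hxg' : g⁻¹ * x * g ∈ (P : Subgroup G) := by simpa [mul_assoc] using hxg
    have hconj : ∀ y, y ∈ Subgroup.centralizer ((P : Subgroup G) : Set G) →
        g * y * g⁻¹ ∈ Subgroup.centralizer ((P : Subgroup G) : Set G) := by
      intro y hy
      rw [← h _ hxg' hx'] at hy
      rw [← h x hxP hx1, Subgroup.mem_centralizer_singleton_iff]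
      rw [Subgroup.mem_centralizer_singleton_iff] at hy
      calc g * y * g⁻¹ * x = g * (y * (g⁻¹ * x * g)) * g⁻¹ := by group
        _ = g * (g⁻¹ * x * g * y) * g⁻¹ := by rw [hy]
        _ = x * (g * y * g⁻¹) := by group
    have hPC : (P : Subgroup G) ≤ Subgroup.centralizer ((P : Subgroup G) : Set G) := fun y hy => by
      rw [Subgroup.mem_centralizer_iff]
      intro w hw
      obtain ⟨i, hi⟩ := hzP.symm.le hy
      obtain ⟨j, hj⟩ := hzP.symm.le hw
      simp only at hi hj
      rw [← hi, ← hj]
      exact (Commute.zpow_zpow_self (z : G) j i).eq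
    apply hg
    rw [Subgroup.mem_normalizer_iff_map_conj_eq]
    refine Subgroup.eq_of_le_of_card_ge ?_
      (Subgroup.card_map_of_injective (MulEquiv.injective _)).ge
    rintro _ ⟨y, hy, rfl⟩
    have hc := hconj y (hPC hy)
    -- `P` centralised by `g y g⁻¹`, so together they generate a `p`-group
    set T := Subgroup.zpowers (g * y * g⁻¹) with hT
    have hTp : IsPGroup p T := by
      obtain ⟨k, hk⟩ := IsPGroup.iff_orderOf.1 P.isPGroup' ⟨y, hy⟩
      refine IsPGroup.of_card (n := k) ?_
      rw [Nat.card_zpowers, show g * y * g⁻¹ = MulAut.conj g y by simp, MulEquiv.orderOf_eq]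
      rwa [Subgroup.orderOf_mk] at hk
    have hTN : T ≤ Subgroup.normalizer ((P : Subgroup G) : Set G) :=
      Subgroup.zpowers_le.2 (Subgroup.centralizer_le_normalizer _ hc)
    have heq := P.3 (hTp.to_sup_of_normal_right' P.isPGroup' hTN) le_sup_right
    change g * y * g⁻¹ ∈ (P : Subgroup G)
    rw [← heq]
    exact Subgroup.mem_sup_left (Subgroup.mem_zpowers _)

end Cfsg.Agent.S3985
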