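import Cfsg.Statements.S3986
import Cfsg.Agent.FGSB.Small

set_option autoImplicit false
open Cfsg

namespace Cfsg.Agent.S3986

/-- Let p be a prime and G a finite group. Then some Sylow p-subgroup of G is a direct factor of G (it is normal and has a normal complement) if and only if every element of p-power order commutes with every element whose order is a power of a prime other than p. -/
theorem result {G : Type*} [Group G] [Finite G] (p : ℕ) [Fact p.Prime] : (∃ (P : Sylow p G) (K : Subgroup G), (P : Subgroup G).Normal ∧ K.Normal ∧ (P : Subgroup G) ⊓ K = ⊥ ∧ (P : Subgroup G) ⊔ K = ⊤) ↔ ∀ x y : G, (∃ a : ℕ, orderOf x = p ^ a) → (∃ q b : ℕ, q.Prime ∧ q ≠ p ∧ orderOf y = q ^ b) → x * y = y * x := by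
  have hp := (Fact.out : p.Prime)
  constructor
  · rintro ⟨P, K, hPn, hKn, hinf, hsup⟩ x y ⟨a, ha⟩ ⟨q, b, hq, hqp, hb⟩
    have hxP : x ∈ (P : Subgroup G) := by
      obtain ⟨R, hR⟩ := (IsPGroup.of_card (p := p) (G := Subgroup.zpowers x) (n := a)
        (by rw [Nat.card_zpowers, ha])).exists_le_sylow
      have hsub : Subsingleton (Sylow p G) :=
        @Unique.instSubsingleton _ (Sylow.unique_of_normal P hPn)
      rw [Subsingleton.elim P R]
      exact hR (Subgroup.mem_zpowers x)
    have hcompl : Subgroup.IsComplement' K (P : Subgroup G) :=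
      Subgroup.isComplement'_of_disjoint_and_mul_eq_univ (disjoint_iff.2 (inf_comm _ K ▸ hinf))
        (by rw [← Subgroup.normal_mul, sup_comm, hsup, Subgroup.coe_top])
    have hyK : y ∈ K := by
      rw [← QuotientGroup.eq_one_iff, ← orderOf_eq_one_iff]
      obtain ⟨e, he⟩ := IsPGroup.iff_orderOf.1 P.isPGroup'
        (hcompl.symm.QuotientMulEquiv (y : G ⧸ K))
      rw [MulEquiv.orderOf_eq] at he
      have h1 : orderOf (y : G ⧸ K) ∣ q ^ b := hb ▸ orderOf_map_dvd (QuotientGroup.mk' K) y
      exact Nat.eq_one_of_dvd_coprimes (((Nat.coprime_primes hp hq).2 hqp.symm).pow e b)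
        (he ▸ dvd_rfl) h1
    exact Subgroup.commute_of_normal_of_disjoint _ _ hPn hKn (disjoint_iff.2 hinf) x y hxP hyK
  · intro h
    obtain ⟨P⟩ := (inferInstance : Nonempty (Sylow p G))
    have key : ∀ y : G, (orderOf y).Coprime p →
        y ∈ Subgroup.centralizer ((P : Subgroup G) : Set G) := by
      intro y
      induction hn : orderOf y using Nat.strong_induction_on generalizing y with | _ n ih => ?_
      intro hco
      subst hn
      by_cases hy1 : y = 1
      · subst hy1; exact one_mem _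
      obtain ⟨q, hq, hqd⟩ := Nat.exists_prime_and_dvd (fun h1 => hy1 (orderOf_eq_one_iff.1 h1))
      have hqp : q ≠ p := fun h => hp.coprime_iff_not_dvd.1 hco.symm (h ▸ hqd)
      obtain ⟨a, b, hab, ha, hb, ⟨k, hk⟩, hbq⟩ := CfsgLib.FGSBSmall.exists_prime_split hq y
      have hbd : orderOf b ∣ orderOf y := orderOf_dvd_of_mem_zpowers hb
      have hlt : orderOf b < orderOf y := lt_of_le_of_ne (Nat.le_of_dvd (orderOf_pos y) hbd)
        fun h => hq.coprime_iff_not_dvd.1 (h ▸ hbq).symm hqd
      rw [← hab]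
      refine Subgroup.mul_mem _ ?_ (ih _ hlt b rfl (hco.coprime_dvd_left hbd))
      rw [Subgroup.mem_centralizer_iff]
      intro x hx
      obtain ⟨i, hi⟩ := IsPGroup.iff_orderOf.1 P.isPGroup' ⟨x, hx⟩
      exact h x a ⟨i, by rw [← hi, Subgroup.orderOf_mk]⟩ ⟨q, k, hq, hqp, hk⟩
    have hnorm : (P : Subgroup G).Normal := by
      have htop : (P : Subgroup G) ⊔ Subgroup.centralizer ((P : Subgroup G) : Set G) = ⊤ := by
        refine CfsgLib.FGSBSmall.eq_top_of_conj_cover fun g => ?_
        obtain ⟨a, b, rfl, -, -, ⟨k, hk⟩, hb⟩ := CfsgLib.FGSBSmall.exists_prime_split hp g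
        obtain ⟨R, hR⟩ := (IsPGroup.of_card (p := p) (G := Subgroup.zpowers a) (n := k)
          (by rw [Nat.card_zpowers, hk])).exists_le_sylow
        obtain ⟨c, rfl⟩ := MulAction.exists_smul_eq G P R
        refine ⟨c, ?_⟩
        rw [show c⁻¹ * (a * b) * c = (c⁻¹ * a * c) * (c⁻¹ * b * c) by group]
        refine Subgroup.mul_mem _ (Subgroup.mem_sup_left ?_) (Subgroup.mem_sup_right (key _ ?_))
        · obtain ⟨w, hw, hw'⟩ := hR (Subgroup.mem_zpowers a)
          change c * w * c⁻¹ = a at hw'
          rw [← hw']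
          simpa [mul_assoc] using (show w ∈ (P : Subgroup G) from hw)
        · rw [show c⁻¹ * b * c = MulAut.conj c⁻¹ b by simp, MulEquiv.orderOf_eq]
          exact hb
      rw [← Subgroup.normalizer_eq_top_iff, eq_top_iff, ← htop]
      exact sup_le Subgroup.le_normalizer (Subgroup.centralizer_le_normalizer _)
    obtain ⟨H, h1, h2, h3, h4⟩ := CfsgLib.FGSBSmall.exists_complement_of_centralized P key
    exact ⟨P, H, hnorm, h1, h3, h4⟩

end Cfsg.Agent.S3986
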