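import Cfsg.Statements.S3987
import Cfsg.Agent.FGSB.TwoSizes

set_option autoImplicit false
open Cfsg

namespace Cfsg.Agent.S3987

/-- Let p be a prime and G a finite group. Then some Sylow p-subgroup of G is a direct factor of G (normal with a normal complement) if and only if for every element x of p-power order and every element y whose order is a power of a prime other than p, the conjugacy class of x y has as many elements as the product of the sizes of the classes of x and of y. -/
theorem result {G : Type*} [Group G] [Finite G] (p : ℕ) [Fact p.Prime] : (∃ (P : Sylow p G) (K : Subgroup G), (P : Subgroup G).Normal ∧ K.Normal ∧ (P : Subgroup G) ⊓ K = ⊥ ∧ (P : Subgroup G) ⊔ K = ⊤) ↔ ∀ x y : G, (∃ a : ℕ, orderOf x = p ^ a) → (∃ q b : ℕ, q.Prime ∧ q ≠ p ∧ orderOf y = q ^ b) → (Subgroup.centralizer ({x * y} : Set G)).index = (Subgroup.centralizer ({x} : Set G)).index * (Subgroup.centralizer ({y} : Set G)).index := by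
  classical
  open Subgroup in
  constructor
  · rintro ⟨P, K, hP, hK, hinf, hsup⟩ x y ⟨a, hx⟩ ⟨q, b, hq, hqp, hy⟩
    haveI := hP
    haveI := hK
    have hidx : K.index = Nat.card (P : Subgroup G) := by
      have hc : K.IsComplement' (P : Subgroup G) :=
        isComplement'_of_disjoint_and_mul_eq_univ (disjoint_iff.2 (inf_comm (P : Subgroup G) K ▸ hinf))
          (by rw [← normal_mul, sup_comm, hsup, coe_top])
      exact hc.symm.index_eq_card
    have hxP : x ∈ (P : Subgroup G) := by
      have hX : IsPGroup p (zpowers x) := IsPGroup.of_card (n := a) (by rw [Nat.card_zpowers, hx])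
      exact P.3 (hX.to_sup_of_normal_right P.2) le_sup_right ▸ mem_sup_left (mem_zpowers x)
    have hyK : y ∈ K := by
      rw [← QuotientGroup.eq_one_iff, ← orderOf_eq_one_iff]
      refine Nat.eq_one_of_dvd_coprimes (Nat.Coprime.pow b (Nat.log p (Nat.card P))
        ((Nat.coprime_primes hq Fact.out).2 hqp)) (hy ▸ orderOf_map_dvd (QuotientGroup.mk' K) y) ?_
      have h1 : orderOf (y : G ⧸ K) ∣ Nat.card (P : Subgroup G) := by
        rw [← hidx, index_eq_card]; exact orderOf_dvd_natCard _
      obtain ⟨k, hk⟩ := P.2.exists_card_eq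
      rw [hk, Nat.log_pow (Fact.out : p.Prime).one_lt]
      exact hk ▸ h1
    have hcomm : ∀ u ∈ (P : Subgroup G), ∀ v ∈ K, Commute u v := fun u hu v hv =>
      commute_of_normal_of_disjoint _ _ hP hK (disjoint_iff.2 hinf) u v hu hv
    set Cx := centralizer ({x} : Set G)
    set Cy := centralizer ({y} : Set G)
    have hxy : centralizer ({x * y} : Set G) = Cx ⊓ Cy := by
      refine le_antisymm (fun g hg => ?_) fun g hg => CfsgLib.TwoSizes.mem_centralizer_one.2
        ((CfsgLib.TwoSizes.mem_centralizer_one.1 hg.1).mul_right (CfsgLib.TwoSizes.mem_centralizer_one.1 hg.2))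
      have hg' : Commute g (x * y) := CfsgLib.TwoSizes.mem_centralizer_one.1 hg
      have hc := hcomm x hxP y hyK
      have hcop : (orderOf y).Coprime (orderOf x) := by
        rw [hx, hy]; exact Nat.Coprime.pow b a ((Nat.coprime_primes hq Fact.out).2 hqp)
      obtain ⟨k, hk⟩ := exists_pow_eq_self_of_coprime (x := x) hcop
      have hgx : Commute g x := by
        have h1 := (hg'.pow_right (orderOf y)).pow_right k
        rwa [hc.mul_pow, pow_orderOf_eq_one, mul_one, hk] at h1
      refine mem_inf.2 ⟨CfsgLib.TwoSizes.mem_centralizer_one.2 hgx,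
        CfsgLib.TwoSizes.mem_centralizer_one.2 ?_⟩
      have := hgx.inv_right.mul_right hg'
      rwa [inv_mul_cancel_left] at this
    rw [hxy]
    refine le_antisymm (index_inf_le) (Nat.le_of_dvd
      (Nat.pos_of_ne_zero index_ne_zero_of_finite) ?_)
    have h1 : Cx.index ∣ Nat.card (P : Subgroup G) := hidx ▸ index_dvd_of_le
      (fun v hv => CfsgLib.TwoSizes.mem_centralizer_one.2 (hcomm x hxP v hv).symm)
    have h2 : Cy.index ∣ (P : Subgroup G).index := index_dvd_of_le
      (fun u hu => CfsgLib.TwoSizes.mem_centralizer_one.2 (hcomm u hu y hyK))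
    exact ((P.card_coprime_index).coprime_dvd_left h1 |>.coprime_dvd_right h2).mul_dvd_of_dvd_of_dvd
      (index_dvd_of_le inf_le_left) (index_dvd_of_le inf_le_right)
  · intro h
    have key : ∀ x y : G, (∃ a : ℕ, orderOf x = p ^ a) →
        (∃ q b : ℕ, q.Prime ∧ q ≠ p ∧ orderOf y = q ^ b) → Commute x y := by
      intro x y hx hy
      set Cx := centralizer ({x} : Set G)
      set Cy := centralizer ({y} : Set G)
      have hle : Cx ⊓ Cy ≤ centralizer ({x * y} : Set G) := fun g hg =>
        CfsgLib.TwoSizes.mem_centralizer_one.2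
          ((CfsgLib.TwoSizes.mem_centralizer_one.1 hg.1).mul_right (CfsgLib.TwoSizes.mem_centralizer_one.1 hg.2))
      have heq : Cx ⊓ Cy = centralizer ({x * y} : Set G) := by
        refine eq_of_le_of_card_ge hle (le_of_mul_le_mul_right ?_ (Nat.pos_of_ne_zero
          (index_ne_zero_of_finite (H := Cx ⊓ Cy))))
        calc Nat.card (centralizer ({x * y} : Set G)) * (Cx ⊓ Cy).index
            ≤ Nat.card (centralizer ({x * y} : Set G)) * (centralizer ({x * y} : Set G)).index :=
              Nat.mul_le_mul_left _ (h x y hx hy ▸ index_inf_le)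
          _ = Nat.card (Cx ⊓ Cy : Subgroup G) * (Cx ⊓ Cy).index := by rw [card_mul_index, card_mul_index]
      have h1 : Commute (x * y) x := CfsgLib.TwoSizes.mem_centralizer_one.1
        (mem_inf.1 (heq ▸ CfsgLib.TwoSizes.self_mem (x * y))).1
      exact (mul_left_cancel (a := x) ((mul_assoc x y x).symm.trans h1.eq)).symm
    obtain ⟨P⟩ : Nonempty (Sylow p G) := inferInstance
    have hPe : ∀ u ∈ (P : Subgroup G), ∃ a : ℕ, orderOf u = p ^ a := fun u hu => by
      obtain ⟨a, ha⟩ := IsPGroup.iff_orderOf.1 P.2 ⟨u, hu⟩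
      exact ⟨a, by rwa [Subgroup.orderOf_mk] at ha⟩
    have hp' : ∀ g : G, ¬ p ∣ orderOf g → g ∈ centralizer ((P : Subgroup G) : Set G) := by
      intro g hg
      refine CfsgLib.TwoSizes.mem_of_parts _ g fun q hq => ?_
      rcases eq_or_ne q p with rfl | hqp
      · rw [Nat.factorization_eq_zero_of_not_dvd hg, pow_zero, Nat.div_one, pow_orderOf_eq_one]
        exact one_mem _
      · obtain ⟨b, hb⟩ := CfsgLib.TwoSizes.part_order g hq
        exact mem_centralizer_iff.2 fun u hu => (key u _ (hPe u hu) ⟨q, b, hq, hqp, hb⟩).eq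
    have hPn : (P : Subgroup G).Normal := by
      rw [← normalizer_eq_top_iff, ← index_eq_one]
      by_contra hne
      obtain ⟨q, hq, hqd⟩ := Nat.exists_prime_and_dvd hne
      haveI := Fact.mk hq
      rcases eq_or_ne q p with rfl | hqp
      · exact P.not_dvd_index (hqd.trans (index_dvd_of_le le_normalizer))
      · obtain ⟨Q⟩ : Nonempty (Sylow q G) := inferInstance
        refine Q.not_dvd_index (hqd.trans (index_dvd_of_le fun v hv => centralizer_le_normalizer _
          (hp' v fun hd => ?_)))
        obtain ⟨b, hb⟩ := IsPGroup.iff_orderOf.1 Q.2 ⟨v, hv⟩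
        rw [Subgroup.orderOf_mk] at hb
        exact hqp ((Nat.prime_dvd_prime_iff_eq Fact.out hq).1 ((Fact.out : p.Prime).dvd_of_dvd_pow (hb ▸ hd))).symm
    haveI := hPn
    obtain ⟨K, hK⟩ := exists_right_complement'_of_coprime (N := (P : Subgroup G)) P.card_coprime_index
    have hKc : Nat.card K = (P : Subgroup G).index := hK.symm.index_eq_card.symm
    have hKC : K ≤ centralizer ((P : Subgroup G) : Set G) := fun v hv =>
      hp' v fun hd => P.not_dvd_index (hKc ▸ hd.trans (Subgroup.orderOf_dvd_natCard K hv))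
    refine ⟨P, K, hPn, ?_, hK.disjoint.eq_bot, hK.sup_eq_top⟩
    rw [← normalizer_eq_top_iff, eq_top_iff, ← hK.sup_eq_top]
    exact sup_le (fun u hu => centralizer_le_normalizer _ (mem_centralizer_iff.2 fun v hv =>
      (mem_centralizer_iff.1 (hKC hv) u hu).symm)) le_normalizer

end Cfsg.Agent.S3987
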