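import Cfsg.Statements.S3995
import Cfsg.Agent.FGSB.FrobeniusRoots
import Cfsg.Agent.FGSB.CyclicCount
import Cfsg.Agent.InvChar.UniqueInvolution
import Mathlib.GroupTheory.GroupAction.Quotient
import Mathlib.GroupTheory.SpecificGroups.Quaternion

set_option autoImplicit false
set_option linter.style.haveILetI false
open Cfsg

namespace Cfsg.Agent.S3995

open Subgroup

/-- A type with `n` elements and no arithmetic of its own. -/
structure Carrier (n : ℕ) : Type where
  /-- The underlying index. -/
  val : Fin n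

/-- The elements killed by `d`, sorted by order. -/
theorem card_pow_eq {G : Type*} [Group G] [Finite G] {d : ℕ} (hd : d ≠ 0) :
    Nat.card {x : G // x ^ d = 1} = ∑ e ∈ d.divisors, Nat.card {g : G // orderOf g = e} := by
  classical
  haveI := Fintype.ofFinite G
  simp only [Nat.card_eq_fintype_card, Fintype.card_subtype]
  rw [Finset.card_eq_sum_card_fiberwise (f := fun x : G => orderOf x) (t := d.divisors)
    (fun x hx => by
      simp only [Finset.coe_filter, Finset.mem_coe, Finset.mem_univ, true_and, Set.mem_ofPred_eq] at hx ⊢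
      exact Nat.mem_divisors.2 ⟨orderOf_dvd_of_pow_eq_one hx, hd⟩)]
  refine Finset.sum_congr rfl fun e he => ?_
  congr 1
  ext x
  simp only [Finset.mem_filter, Finset.mem_univ, true_and]
  exact ⟨fun h => h.2, fun h => ⟨orderOf_dvd_iff_pow_eq_one.1 (h ▸ (Nat.mem_divisors.1 he).1), h⟩⟩

/-- A Sylow subgroup acting freely on the elements of another prime order. -/
theorem card_dvd_of_free {G : Type*} [Group G] [Finite G] {p q : ℕ} [Fact q.Prime] (hp : p.Prime)
    (hpq : p ≠ q) (Q : Sylow q G) (hno : ∀ g : G, orderOf g ≠ p * q) :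
    Nat.card (Q : Subgroup G) ∣ Nat.card {g : G // orderOf g = p} := by
  classical
  have hq := (Fact.out : q.Prime)
  letI : MulAction (Q : Subgroup G) {g : G // orderOf g = p} :=
    { smul := fun u g => ⟨(u : G) * g * (u : G)⁻¹,
        (orderOf_injective (MulAut.conj (u : G)).toMonoidHom (MulAut.conj (u : G)).injective g.1).trans g.2⟩
      one_smul := fun g => Subtype.ext (by show (1 : G) * g.1 * (1 : G)⁻¹ = g.1; simp)
      mul_smul := fun u v g => Subtype.ext (by
        show ((u : G) * v) * g.1 * ((u : G) * v)⁻¹ = (u : G) * ((v : G) * g.1 * (v : G)⁻¹) * (u : G)⁻¹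
        simp [mul_assoc]) }
  have hfree : ∀ b : {g : G // orderOf g = p}, MulAction.stabilizer (Q : Subgroup G) b = ⊥ := by
    intro b
    refine (eq_bot_iff_forall _).2 fun u hu => ?_
    by_contra hu1
    have hub : Commute (u : G) b.1 := mul_inv_eq_iff_eq_mul.1 (congrArg Subtype.val hu)
    obtain ⟨j, hj⟩ := IsPGroup.iff_orderOf.1 Q.2 u
    rcases j with _ | j
    · exact hu1 (orderOf_eq_one_iff.1 (by rw [hj, pow_zero]))
    have hv : orderOf ((u : G) ^ q ^ j) = q := by
      rw [orderOf_pow_of_dvd (pow_ne_zero _ hq.ne_zero)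
        (by rw [Subgroup.orderOf_coe, hj]; exact pow_dvd_pow q (Nat.le_succ j)),
        Subgroup.orderOf_coe, hj, pow_succ, Nat.mul_div_cancel_left _ (pow_pos hq.pos _)]
    refine hno (b.1 * (u : G) ^ q ^ j) ?_
    rw [(hub.symm.pow_right _).orderOf_mul_eq_mul_orderOf_of_coprime
      (by rw [hv, b.2]; exact (Nat.coprime_primes hp hq).2 hpq), hv, b.2]
  rw [Nat.card_congr (MulAction.selfEquivOrbitsQuotientProd hfree), Nat.card_prod]
  exact dvd_mul_left _ _

/-- Let G be a finite group such that the numbers of elements of each order that occurs in G (the numbers #{g : o(g) = m}, m ranging over the element orders of G) take exactly two values, 1 and some n ≠ 1. Then either G is a p-group of exponent p and order at least 3 for some prime p, or G is the quaternion group of order 8, or G is cyclic of order 4, or G ≅ Z₂ × P for a p-group P of exponent p with p an odd prime. -/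
theorem result {G : Type*} [Group G] [Finite G] (n : ℕ) (hn : n ≠ 1) (h : ((fun m : ℕ => Nat.card {g : G // orderOf g = m}) '' Set.range (orderOf : G → ℕ)) = {1, n}) :
    (∃ p : ℕ, p.Prime ∧ IsPGroup p G ∧ 3 ≤ Nat.card G ∧ Monoid.exponent G = p) ∨
      Nonempty (G ≃* QuaternionGroup 2) ∨ (IsCyclic G ∧ Nat.card G = 4) ∨
      (∃ (p : ℕ) (P : Type) (_ : Group P) (_ : Finite P), p.Prime ∧ p ≠ 2 ∧ IsPGroup p P ∧ Monoid.exponent P = p ∧
        Nonempty (G ≃* Multiplicative (ZMod 2) × P)) := by
  classical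
  set c : ℕ → ℕ := fun m => Nat.card {g : G // orderOf g = m} with hc_def
  have hval : ∀ x : G, c (orderOf x) = 1 ∨ c (orderOf x) = n := fun x => by
    have : c (orderOf x) ∈ ({1, n} : Set ℕ) := h ▸ ⟨_, ⟨x, rfl⟩, rfl⟩
    exact this
  have hphi : ∀ m, 0 < m → m.totient ∣ c m := fun m hm => by
    have h1 := CfsgLib.CyclicCount.count (⊤ : Subgroup G) hm
    rw [Nat.card_congr (Equiv.subtypeEquivRight fun x : G => and_iff_right (mem_top x))] at h1
    exact ⟨_, by rw [hc_def]; simp only; rw [h1, Nat.mul_comm]⟩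
  have hbig : ∀ x : G, 3 ≤ orderOf x → c (orderOf x) = n := fun x hx => by
    refine (hval x).resolve_left fun e => ?_
    have h1 := hphi (orderOf x) (orderOf_pos x)
    rw [e, Nat.dvd_one, Nat.totient_eq_one_iff] at h1
    omega
  have hc1 : c 1 = 1 := by
    rw [hc_def]
    exact Nat.card_eq_one_iff_unique.2 ⟨⟨fun a b => Subtype.ext
      ((orderOf_eq_one_iff.1 a.2).trans (orderOf_eq_one_iff.1 b.2).symm)⟩, ⟨⟨1, orderOf_one⟩⟩⟩
  obtain ⟨m₀, ⟨x₀, hx₀⟩, hm₀⟩ : n ∈ (fun m : ℕ => Nat.card {g : G // orderOf g = m}) ''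
      Set.range (orderOf : G → ℕ) := h ▸ Or.inr rfl
  have hn2 : 2 ≤ n := by
    have : 0 < n := by
      rw [← hm₀]
      exact Nat.card_pos_iff.2 ⟨⟨⟨x₀, hx₀⟩⟩, inferInstance⟩
    omega
  have hx₀1 : x₀ ≠ 1 := fun e => by
    rw [e, orderOf_one] at hx₀
    subst hx₀
    exact hn (hm₀.symm.trans hc1)
  have hfrob : ∀ d : ℕ, d ≠ 0 → ∀ r : ℕ, r ∣ d → r ∣ Nat.card G →
      r ∣ ∑ e ∈ d.divisors, c e := fun d hd r h1 h2 => by
    rw [hc_def, ← card_pow_eq hd]
    exact (Nat.dvd_gcd h1 h2).trans (CfsgLib.FrobRoots.gcd_dvd_card_pow_eq_one G d)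
  have hord : ∀ x : G, ∀ r : ℕ, r ∣ orderOf x → ∃ y : G, orderOf y = r := fun x r hr => by
    obtain ⟨e, he⟩ := hr
    have he0 : e ≠ 0 := fun e0 => (orderOf_pos x).ne' (by rw [he, e0, mul_zero])
    exact ⟨x ^ e, by rw [orderOf_pow_of_dvd he0 ⟨r, by rw [he, Nat.mul_comm]⟩, he,
      Nat.mul_div_cancel _ (Nat.pos_of_ne_zero he0)]⟩
  have hone_mod : ∀ p : ℕ, p.Prime → 3 ≤ p → (∃ y : G, orderOf y = p) → p ∣ 1 + n := by
    rintro p hp hp3 ⟨y, hy⟩
    have h1 := hfrob p hp.ne_zero p dvd_rfl (hy ▸ orderOf_dvd_natCard y)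
    rw [Nat.Prime.sum_divisors hp, hc1] at h1
    have h2 : c p = n := hy ▸ hbig y (by omega)
    rw [h2, Nat.add_comm] at h1
    exact h1
  have hnosq : ∀ p : ℕ, p.Prime → 3 ≤ p → ∀ x : G, orderOf x ≠ p ^ 2 := by
    intro p hp hp3 x hx
    have h1 : p ∣ 1 + n := hone_mod p hp hp3 (hord x p (hx ▸ dvd_pow_self p two_ne_zero))
    have h2 : c (p ^ 2) = n := hx ▸ hbig x (by rw [hx]; nlinarith)
    have h3 := hphi (p ^ 2) (pow_pos hp.pos 2)
    rw [h2, Nat.totient_prime_pow hp (by norm_num)] at h3
    have h4 : p ∣ n := ((dvd_pow_self p (by norm_num : (2 : ℕ) - 1 ≠ 0)).mul_right _).trans h3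
    exact hp.not_dvd_one ((Nat.dvd_add_left h4).1 h1)
  have hnopq : ∀ p q : ℕ, p.Prime → q.Prime → 3 ≤ p → 3 ≤ q → p ≠ q → ∀ x : G, orderOf x ≠ p * q := by
    intro p q hp hq hp3 hq3 hpq x hx
    have hy := hord x p (hx ▸ dvd_mul_right p q)
    have h1 := hone_mod p hp hp3 hy
    obtain ⟨z, hz⟩ := hord x q (hx ▸ dvd_mul_left q p)
    obtain ⟨y, hy⟩ := hy
    have hdiv : (p * q).divisors = {1, p, q, p * q} := by
      ext e
      simp only [Nat.mem_divisors, Finset.mem_insert, Finset.mem_singleton]
      constructor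
      · rintro ⟨he, -⟩
        obtain ⟨a, b, ha, hb, rfl⟩ := Nat.dvd_mul.1 he
        rcases (Nat.dvd_prime hp).1 ha with rfl | rfl <;> rcases (Nat.dvd_prime hq).1 hb with rfl | rfl <;> simp
      · have hne : p * q ≠ 0 := Nat.mul_ne_zero hp.ne_zero hq.ne_zero
        rintro (rfl | rfl | rfl | rfl)
        · exact ⟨one_dvd _, hne⟩
        · exact ⟨dvd_mul_right _ _, hne⟩
        · exact ⟨dvd_mul_left _ _, hne⟩
        · exact ⟨dvd_rfl, hne⟩
    have h2 := hfrob (p * q) (Nat.mul_ne_zero hp.ne_zero hq.ne_zero) p (dvd_mul_right p q)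
      (hy ▸ orderOf_dvd_natCard y)
    have hpl : p < p * q := lt_mul_of_one_lt_right hp.pos hq.one_lt
    have hql : q < p * q := lt_mul_of_one_lt_left hq.pos hp.one_lt
    rw [hdiv, Finset.sum_insert (by simp only [Finset.mem_insert, Finset.mem_singleton]; omega),
      Finset.sum_insert (by simp only [Finset.mem_insert, Finset.mem_singleton]; omega),
      Finset.sum_insert (by simp only [Finset.mem_singleton]; omega), Finset.sum_singleton,
      hc1, show c p = n from hy ▸ hbig y (by omega), show c q = n from hz ▸ hbig z (by omega),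
      show c (p * q) = n from hx ▸ hbig x (by omega)] at h2
    have h3 : p ∣ 2 * n := by
      have : 1 + (n + (n + n)) = (1 + n) + 2 * n := by ring
      rw [this] at h2
      exact (Nat.dvd_add_right h1).1 h2
    rcases (Nat.Prime.dvd_mul hp).1 h3 with h4 | h4
    · exact absurd (Nat.le_of_dvd (by norm_num) h4) (by omega)
    · exact hp.not_dvd_one ((Nat.dvd_add_left h4).1 h1)
  -- at most one odd prime when the 2-part is at most 2
  have huniq : (Nat.card G).factorization 2 ≤ 1 → ∀ p q : ℕ, p.Prime → q.Prime → 3 ≤ p → 3 ≤ q →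
      p ∣ Nat.card G → q ∣ Nat.card G → p = q := by
    intro h2 p q hp hq hp3 hq3 hpd hqd
    by_contra hpq
    haveI := Fact.mk hp
    haveI := Fact.mk hq
    obtain ⟨y, hy⟩ := exists_prime_orderOf_dvd_card' (G := G) p hpd
    obtain ⟨z, hz⟩ := exists_prime_orderOf_dvd_card' (G := G) q hqd
    have hcp : c p = n := hy ▸ hbig y (by omega)
    have hcq : c q = n := hz ▸ hbig z (by omega)
    have hdvd : Nat.card G ∣ 2 * n := by
      rw [← Nat.factorization_le_iff_dvd Nat.card_pos.ne' (by omega)]
      intro r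
      by_cases hr : r.Prime ∧ r ∣ Nat.card G
      · obtain ⟨hr, hrd⟩ := hr
        rw [← hr.pow_dvd_iff_le_factorization (by omega : 2 * n ≠ 0)]
        rcases eq_or_ne r 2 with rfl | hr2
        · exact (pow_dvd_pow 2 h2).trans (by rw [pow_one]; exact dvd_mul_right 2 n)
        haveI := Fact.mk hr
        obtain ⟨R⟩ : Nonempty (Sylow r G) := inferInstance
        rw [← R.card_eq_multiplicity]
        have hr3 : 3 ≤ r := by
          have := hr.two_le
          omega
        refine Dvd.dvd.mul_left ?_ 2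
        by_cases hrp : p = r
        · subst hrp
          rw [← hcq]
          exact card_dvd_of_free hq (Ne.symm hpq) R (fun g => hnopq q p hq hp hq3 hp3 (Ne.symm hpq) g)
        · rw [← hcp]
          exact card_dvd_of_free hp hrp R (fun g => hnopq p r hp hr hp3 hr3 hrp g)
      · have : (Nat.card G).factorization r = 0 := by
          rcases not_and_or.1 hr with h' | h'
          · exact Nat.factorization_eq_zero_of_not_prime _ h'
          · exact Nat.factorization_eq_zero_of_not_dvd h'
        omega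
    -- the identity and the elements of order p and q
    let f : Option ({g : G // orderOf g = p} ⊕ {g : G // orderOf g = q}) → G :=
      fun o => o.elim 1 (Sum.elim Subtype.val Subtype.val)
    have hf : Function.Injective f := by
      rintro (_ | (a | a)) (_ | (b | b)) e
      all_goals have e' := congrArg orderOf e
      all_goals simp only [f, Option.elim_none, Option.elim_some, Sum.elim_inl, Sum.elim_inr, orderOf_one] at e e'
      · rfl
      · rw [b.2] at e'; omega
      · rw [b.2] at e'; omega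
      · rw [a.2] at e'; omega
      · rw [Subtype.ext e]
      · rw [a.2, b.2] at e'; exact absurd e' hpq
      · rw [a.2] at e'; omega
      · rw [a.2, b.2] at e'; exact absurd e'.symm hpq
      · rw [Subtype.ext e]
    have h4 := Nat.card_le_card_of_injective f hf
    rw [Finite.card_option, Nat.card_sum] at h4
    have h5 := Nat.le_of_dvd (by omega) hdvd
    have : c p + c q + 1 ≤ Nat.card G := h4
    omega
  haveI : Fact (Nat.Prime 2) := ⟨Nat.prime_two⟩
  by_cases hinv : ∃ t : G, orderOf t = 2
  swap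
  · -- odd order
    push Not at hinv
    have hodd : ¬ 2 ∣ Nat.card G := fun hd => by
      obtain ⟨t, ht⟩ := exists_prime_orderOf_dvd_card' (G := G) 2 hd
      exact hinv t ht
    have h20 : (Nat.card G).factorization 2 ≤ 1 := by
      rw [Nat.factorization_eq_zero_of_not_dvd hodd]; omega
    haveI : Nontrivial G := ⟨⟨x₀, 1, hx₀1⟩⟩
    have hp := Nat.minFac_prime (Finite.one_lt_card (α := G)).ne'
    set p := (Nat.card G).minFac
    have hp3 : 3 ≤ p := by
      have := hp.two_le
      have : p ≠ 2 := fun e => hodd (e ▸ Nat.minFac_dvd _)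
      omega
    haveI := Fact.mk hp
    have hall : ∀ q : ℕ, q.Prime → q ∣ Nat.card G → q = p := fun q hq hqd => by
      refine huniq h20 q p hq hp ?_ hp3 hqd (Nat.minFac_dvd _)
      have := hq.two_le
      have : q ≠ 2 := fun e => hodd (e ▸ hqd)
      omega
    have hcard : Nat.card G = p ^ (Nat.card G).primeFactorsList.length :=
      Nat.eq_prime_pow_of_unique_prime_dvd Nat.card_pos.ne' fun {d} hd hdd => hall d hd hdd
    have hP : IsPGroup p G := IsPGroup.of_card hcard
    refine Or.inl ⟨p, hp, hP, le_trans hp3 (Nat.le_of_dvd Nat.card_pos (Nat.minFac_dvd _)), ?_⟩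
    rw [Monoid.exponent_eq_prime_iff hp]
    intro x hx
    obtain ⟨j, hj⟩ := IsPGroup.iff_orderOf.1 hP x
    rcases j with _ | _ | j
    · exact absurd (orderOf_eq_one_iff.1 (by rw [hj, pow_zero])) hx
    · rw [hj, pow_one]
    · obtain ⟨y, hy⟩ := hord x (p ^ 2) (hj ▸ pow_dvd_pow p (Nat.le_add_left 2 j))
      exact absurd hy (hnosq p hp hp3 y)
  obtain ⟨t, ht⟩ := hinv
  have heven : 2 ∣ Nat.card G := ht ▸ orderOf_dvd_natCard t
  have h2n : 2 ∣ 1 + c 2 := by
    have h1 := hfrob 2 two_ne_zero 2 dvd_rfl heven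
    rwa [Nat.Prime.sum_divisors Nat.prime_two, hc1, Nat.add_comm] at h1
  rcases ht ▸ hval t with hc2 | hc2
  swap
  · -- exponent two
    have hall : ∀ x : G, x ≠ 1 → orderOf x = 2 := by
      intro x hx
      by_contra h2
      have h3 : 3 ≤ orderOf x := by
        have := orderOf_pos x
        have : orderOf x ≠ 1 := fun e => hx (orderOf_eq_one_iff.1 e)
        omega
      have h4 := hphi _ (orderOf_pos x)
      rw [hbig x h3] at h4
      have h5 : 2 ∣ n := (even_iff_two_dvd.1 (Nat.totient_even (by omega))).trans h4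
      rw [hc2] at h2n
      omega
    refine Or.inl ⟨2, Nat.prime_two, fun x => ⟨1, ?_⟩, ?_, ?_⟩
    · rcases eq_or_ne x 1 with rfl | hx
      · exact one_pow _
      · rw [pow_one, ← hall x hx, pow_orderOf_eq_one]
    · have h1 : c 2 + 1 ≤ Nat.card G := by
        rw [hc_def]; simp only
        rw [← Finite.card_option]
        refine Nat.card_le_card_of_injective (fun o => o.elim 1 Subtype.val) ?_
        rintro (_ | a) (_ | b) e
        · rfl
        · have := congrArg orderOf e
          simp [b.2] at this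
        · have := congrArg orderOf e
          simp [a.2] at this
        · exact congrArg some (Subtype.ext e)
      omega
    · haveI : Nontrivial G := ⟨⟨x₀, 1, hx₀1⟩⟩
      rw [Monoid.exponent_eq_prime_iff Nat.prime_two]
      exact hall
  -- a unique involution
  have htu : ∀ s : G, orderOf s = 2 → s = t := fun s hs => by
    have h1 : Subsingleton {g : G // orderOf g = 2} := (Nat.card_eq_one_iff_unique.1 hc2).1
    exact congrArg Subtype.val (h1.elim ⟨s, hs⟩ ⟨t, ht⟩)
  have htc : ∀ g : G, Commute t g := fun g => by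
    have h1 : g * t * g⁻¹ = t :=
      htu _ ((orderOf_injective (MulAut.conj g).toMonoidHom (MulAut.conj g).injective t).trans ht)
    exact (mul_inv_eq_iff_eq_mul.1 h1).symm
  by_cases h4 : ∃ x : G, orderOf x = 4
  · obtain ⟨x, hx⟩ := h4
    have hc4 : c 4 = n := hx ▸ hbig x (by omega)
    have h8 : ∀ y : G, orderOf y ≠ 8 := by
      intro y hy
      have h1 := hphi 8 (by norm_num)
      rw [show c 8 = n from hy ▸ hbig y (by omega)] at h1
      have h3 := hfrob 4 (by norm_num) 4 dvd_rfl (hx ▸ orderOf_dvd_natCard x)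
      rw [show (4 : ℕ).divisors = {1, 2, 4} from by decide, Finset.sum_insert (by decide),
        Finset.sum_insert (by decide), Finset.sum_singleton, hc1, hc2, hc4] at h3
      rw [show Nat.totient 8 = 4 from by decide] at h1
      omega
    have hall : ∀ q : ℕ, q.Prime → q ∣ Nat.card G → q = 2 := by
      intro q hq hqd
      by_contra hq2
      have hq3 : 3 ≤ q := by
        have := hq.two_le
        omega
      haveI := Fact.mk hq
      obtain ⟨y, hy⟩ := exists_prime_orderOf_dvd_card' (G := G) q hqd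
      have h1 := hone_mod q hq hq3 ⟨y, hy⟩
      have h2q : orderOf (t * y) = 2 * q := by
        rw [(htc y).orderOf_mul_eq_mul_orderOf_of_coprime (by
          rw [ht, hy]; exact (Nat.coprime_primes Nat.prime_two hq).2 (Ne.symm hq2)), ht, hy]
      have hdiv : (4 * q).divisors = {1, 2, 4, q, 2 * q, 4 * q} := by
        ext e
        simp only [Nat.mem_divisors, Finset.mem_insert, Finset.mem_singleton]
        constructor
        · rintro ⟨he, -⟩
          obtain ⟨a, b, ha, hb, rfl⟩ := Nat.dvd_mul.1 he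
          have ha' : a = 1 ∨ a = 2 ∨ a = 4 := by
            have := Nat.le_of_dvd (by norm_num) ha
            interval_cases a <;> omega
          rcases ha' with rfl | rfl | rfl <;> rcases (Nat.dvd_prime hq).1 hb with rfl | rfl <;> simp
        · have hne : 4 * q ≠ 0 := by omega
          rintro (rfl | rfl | rfl | rfl | rfl | rfl)
          · exact ⟨one_dvd _, hne⟩
          · exact ⟨dvd_mul_of_dvd_left (by norm_num) _, hne⟩
          · exact ⟨dvd_mul_right _ _, hne⟩
          · exact ⟨dvd_mul_left _ _, hne⟩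
          · exact ⟨Nat.mul_dvd_mul_right (by norm_num) _, hne⟩
          · exact ⟨dvd_rfl, hne⟩
      have h3 := hfrob (4 * q) (by omega) q (dvd_mul_left q 4) hqd
      have hqq : q ≠ 4 := fun e => by rw [e] at hq; exact absurd hq (by norm_num)
      rw [hdiv, Finset.sum_insert (by simp only [Finset.mem_insert, Finset.mem_singleton]; omega),
        Finset.sum_insert (by simp only [Finset.mem_insert, Finset.mem_singleton]; omega),
        Finset.sum_insert (by simp only [Finset.mem_insert, Finset.mem_singleton]; omega),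
        Finset.sum_insert (by simp only [Finset.mem_insert, Finset.mem_singleton]; omega),
        Finset.sum_insert (by simp only [Finset.mem_singleton]; omega), Finset.sum_singleton,
        hc1, hc2, hc4, show c q = n from hy ▸ hbig y (by omega),
        show c (2 * q) = n from h2q ▸ hbig (t * y) (by omega)] at h3
      have h4q : c (4 * q) = 0 ∨ c (4 * q) = n := by
        by_cases he : ∃ w : G, orderOf w = 4 * q
        · obtain ⟨w, hw⟩ := he
          exact Or.inr (hw ▸ hbig w (by omega))
        · push Not at he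
          refine Or.inl ?_
          rw [hc_def]
          exact Nat.card_eq_zero.2 (Or.inl ⟨fun a => he a.1 a.2⟩)
      rcases h4q with e | e <;> rw [e] at h3
      · have : 1 + (1 + (n + (n + (n + 0)))) + 1 = 3 * (1 + n) := by ring
        have h5 : q ∣ (1 + (1 + (n + (n + (n + 0))))) + 1 := this ▸ dvd_mul_of_dvd_right h1 3
        exact hq.not_dvd_one ((Nat.dvd_add_right h3).1 h5)
      · have : 1 + (1 + (n + (n + (n + n)))) + 2 = 4 * (1 + n) := by ring
        have h5 : q ∣ (1 + (1 + (n + (n + (n + n))))) + 2 := this ▸ dvd_mul_of_dvd_right h1 4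
        have := Nat.le_of_dvd (by norm_num) ((Nat.dvd_add_right h3).1 h5)
        omega
    have hcard : Nat.card G = 2 ^ (Nat.card G).primeFactorsList.length :=
      Nat.eq_prime_pow_of_unique_prime_dvd Nat.card_pos.ne' fun {d} hd hdd => hall d hd hdd
    have hP : IsPGroup 2 G := IsPGroup.of_card hcard
    have hsmall : ∀ y : G, orderOf y ≤ 4 := by
      intro y
      obtain ⟨j, hj⟩ := IsPGroup.iff_orderOf.1 hP y
      rcases Nat.lt_or_ge j 3 with hj3 | hj3
      · rw [hj]; exact (Nat.pow_le_pow_right (by norm_num) (by omega : j ≤ 2)).trans (by norm_num)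
      · obtain ⟨w, hw⟩ := hord y 8 (hj ▸ (pow_dvd_pow 2 hj3 : 2 ^ 3 ∣ 2 ^ j))
        exact absurd hw (h8 w)
    rcases CfsgLib.UniqueInvol.cyclic_or_quaternion hP (fun a b ha hb => by
        rw [htu b hb, ← htu a ha]; exact mem_zpowers a) with hcyc | ⟨-, m, hm, ⟨e⟩⟩
    · refine Or.inr (Or.inr (Or.inl ⟨hcyc, ?_⟩))
      obtain ⟨g, hg⟩ := hcyc.exists_generator
      have h1 := orderOf_eq_card_of_forall_mem_zpowers hg
      refine le_antisymm (h1 ▸ hsmall g) (Nat.le_of_dvd Nat.card_pos (hx ▸ orderOf_dvd_natCard x))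
    · refine Or.inr (Or.inl ?_)
      have h1 := hsmall (e.symm (QuaternionGroup.a 1))
      haveI : NeZero (2 ^ m) := ⟨pow_ne_zero _ two_ne_zero⟩
      rw [e.symm.orderOf_eq, QuaternionGroup.orderOf_a_one] at h1
      have : 2 ^ m ≤ 2 ^ 1 := by omega
      obtain rfl : m = 1 := by
        have := (Nat.pow_le_pow_iff_right (by norm_num : 1 < 2)).1 this
        omega
      exact ⟨e⟩
  -- no elements of order four
  push Not at h4
  obtain ⟨S⟩ : Nonempty (Sylow 2 G) := inferInstance
  have hS : Nat.card (S : Subgroup G) ≤ 2 := by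
    let f : ↥(S : Subgroup G) → Bool := fun s => decide (s = 1)
    have hf : Function.Injective f := by
      intro a b e
      simp only [f, decide_eq_decide] at e
      by_cases ha : a = 1
      · rw [ha, e.1 ha]
      have key : ∀ w : (S : Subgroup G), w ≠ 1 → (w : G) = t := by
        intro w hw
        obtain ⟨j, hj⟩ := IsPGroup.iff_orderOf.1 S.2 w
        rw [← Subgroup.orderOf_coe] at hj
        rcases j with _ | _ | j
        · exact absurd (Subtype.ext (orderOf_eq_one_iff.1 (by rw [hj, pow_zero]))) hw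
        · exact htu _ (by rw [hj]; rfl)
        · obtain ⟨v, hv⟩ := hord (w : G) 4 (hj ▸ (pow_dvd_pow 2 (Nat.le_add_left 2 j) : 2 ^ 2 ∣ 2 ^ (j + 2)))
          exact absurd hv (h4 v)
      exact Subtype.ext ((key a ha).trans (key b fun hb => ha (e.2 hb)).symm)
    simpa using Nat.card_le_card_of_injective f hf
  have hfac : (Nat.card G).factorization 2 = 1 := by
    rw [S.card_eq_multiplicity] at hS
    have h1 := (Nat.prime_two.dvd_iff_one_le_factorization Nat.card_pos.ne').1 heven
    have h2 : 2 ^ (Nat.card G).factorization 2 ≤ 2 ^ 1 := hS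
    have := (Nat.pow_le_pow_iff_right (by norm_num : 1 < 2)).1 h2
    omega
  -- the odd prime
  obtain ⟨p, hp, hp3, hpd⟩ : ∃ p : ℕ, p.Prime ∧ 3 ≤ p ∧ p ∣ Nat.card G := by
    by_contra hcon
    push Not at hcon
    have hcard : Nat.card G = 2 := by
      have h1 : Nat.card G = 2 ^ (Nat.card G).primeFactorsList.length :=
        Nat.eq_prime_pow_of_unique_prime_dvd Nat.card_pos.ne' fun {d} hd hdd => by
          have := hd.two_le
          by_contra hd2
          exact hcon d hd (by omega) hdd
      have h2 : (Nat.card G).factorization 2 = (Nat.card G).primeFactorsList.length := by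
        conv_lhs => rw [h1]
        rw [Nat.Prime.factorization_pow Nat.prime_two, Finsupp.single_eq_same]
      rw [h1, ← h2, hfac, pow_one]
    have h3 : orderOf x₀ ∣ 2 := hcard ▸ orderOf_dvd_natCard x₀
    rcases (Nat.dvd_prime Nat.prime_two).1 h3 with e | e
    · exact hx₀1 (orderOf_eq_one_iff.1 e)
    · exact hn (by rw [← hm₀, ← hx₀, e]; exact hc2)
  haveI := Fact.mk hp
  obtain ⟨P⟩ : Nonempty (Sylow p G) := inferInstance
  have hcard : Nat.card G = 2 * Nat.card (P : Subgroup G) := by
    rw [P.card_eq_multiplicity]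
    refine Nat.eq_of_factorization_eq Nat.card_pos.ne'
      (Nat.mul_ne_zero two_ne_zero (pow_ne_zero _ hp.ne_zero)) fun r => ?_
    rw [Nat.factorization_mul two_ne_zero (pow_ne_zero _ hp.ne_zero), Finsupp.add_apply,
      Nat.Prime.factorization_pow hp, Nat.Prime.factorization Nat.prime_two, Finsupp.single_apply,
      Finsupp.single_apply]
    by_cases hr : r.Prime ∧ r ∣ Nat.card G
    · rcases eq_or_ne r 2 with rfl | hr2
      · rw [if_pos rfl, if_neg (show p ≠ 2 by omega), hfac, add_zero]
      · have := huniq hfac.le r p hr.1 hp (by have := hr.1.two_le; omega) hp3 hr.2 hpd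
        subst this
        rw [if_neg (Ne.symm hr2), if_pos rfl, zero_add]
    · have h0 : (Nat.card G).factorization r = 0 := by
        rcases not_and_or.1 hr with h' | h'
        · exact Nat.factorization_eq_zero_of_not_prime _ h'
        · exact Nat.factorization_eq_zero_of_not_dvd h'
      rw [h0, if_neg (fun e : p = r => hr ⟨e ▸ hp, e ▸ hpd⟩),
        if_neg (fun e : 2 = r => hr ⟨e ▸ Nat.prime_two, e ▸ heven⟩), add_zero]
  have e2 : Nat.card (Multiplicative (ZMod 2)) = Nat.card (zpowers t) := by
    rw [Nat.card_zpowers, ht, Nat.card_congr Multiplicative.toAdd, Nat.card_zmod]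
  let e : Multiplicative (ZMod 2) ≃* zpowers t := mulEquivOfCyclicCardEq e2
  let φ : Multiplicative (ZMod 2) × (P : Subgroup G) →* G :=
    MonoidHom.noncommCoprod ((zpowers t).subtype.comp e.toMonoidHom) (P : Subgroup G).subtype
      (fun i x => by
        obtain ⟨k, hk⟩ := mem_zpowers_iff.1 (e i).2
        show Commute ((e i : zpowers t) : G) (x : G)
        rw [← hk]
        exact (htc x).zpow_left k)
  have hφ : Function.Injective φ := by
    rw [injective_iff_map_eq_one]
    rintro ⟨i, x⟩ hix
    have h1 : ((e i : zpowers t) : G) * (x : G) = 1 := hix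
    have hxt : (x : G) ∈ zpowers t := by
      rw [eq_inv_of_mul_eq_one_right h1]; exact inv_mem (e i).2
    have hx1 : x = 1 := by
      have hd : orderOf (x : G) ∣ 2 := ht ▸ (Nat.card_zpowers t ▸ Subgroup.orderOf_dvd_natCard _ hxt)
      obtain ⟨j, hj⟩ := IsPGroup.iff_orderOf.1 P.2 x
      rw [Subgroup.orderOf_coe, hj] at hd
      have h2 := Nat.eq_one_of_dvd_coprimes
        (((Nat.coprime_primes hp Nat.prime_two).2 (by omega)).pow_left j) dvd_rfl hd
      exact orderOf_eq_one_iff.1 (hj.trans h2)
    subst hx1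
    rw [OneMemClass.coe_one, mul_one] at h1
    have h2 : e i = 1 := Subtype.ext h1
    rw [MulEquiv.map_eq_one_iff] at h2
    rw [h2]
    rfl
  have hbij : Function.Bijective φ := (Nat.bijective_iff_injective_and_card φ).2 ⟨hφ, by
    rw [Nat.card_prod, e2, Nat.card_zpowers, ht, hcard]⟩
  let eP : Carrier (Nat.card (P : Subgroup G)) ≃ (P : Subgroup G) :=
    ⟨fun x => (Finite.equivFin _).symm x.val, fun g => ⟨Finite.equivFin _ g⟩,
      fun x => by simp, fun g => by simp⟩
  letI : Group (Carrier (Nat.card (P : Subgroup G))) := eP.group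
  let ψ : Carrier (Nat.card (P : Subgroup G)) ≃* (P : Subgroup G) := eP.mulEquiv
  refine Or.inr (Or.inr (Or.inr ⟨p, Carrier (Nat.card (P : Subgroup G)), inferInstance, Finite.of_equiv _ eP.symm, hp,
    by omega, P.2.of_equiv ψ.symm, ?_,
    ⟨(MulEquiv.ofBijective φ hbij).symm.trans (MulEquiv.prodCongr (MulEquiv.refl _) ψ.symm)⟩⟩))
  rw [Monoid.exponent_eq_of_mulEquiv ψ]
  haveI : Nontrivial (P : Subgroup G) := Finite.one_lt_card_iff_nontrivial.1
    (lt_of_lt_of_le hp.one_lt (Nat.le_of_dvd Nat.card_pos (P.dvd_card_of_dvd_card hpd)))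
  rw [Monoid.exponent_eq_prime_iff hp]
  intro x hx
  obtain ⟨j, hj⟩ := IsPGroup.iff_orderOf.1 P.2 x
  rcases j with _ | _ | j
  · exact absurd (orderOf_eq_one_iff.1 (by rw [hj, pow_zero])) hx
  · rw [hj, pow_one]
  · obtain ⟨y, hy⟩ := hord (x : G) (p ^ 2) (by
      rw [Subgroup.orderOf_coe, hj]; exact pow_dvd_pow p (Nat.le_add_left 2 j))
    exact absurd hy (hnosq p hp hp3 y)

end Cfsg.Agent.S3995
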