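import Cfsg.Statements.S3997
import Cfsg.Agent.FGSB.Small

set_option autoImplicit false
open Cfsg

namespace Cfsg.Agent.S3997

/-- Let G and H be finite groups with the same order type: for every m they have the same number of elements of order m. If G is nilpotent then so is H. -/
theorem result {G H : Type*} [Group G] [Finite G] [Group H] [Finite H] (hT : (∀ m : ℕ, Nat.card {g : G // orderOf g = m} = Nat.card {h : H // orderOf h = m})) (hG : Group.IsNilpotent G) :
    Group.IsNilpotent H := by
  classical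
  let e : G ≃ H := Equiv.ofFiberEquiv (f := orderOf) (g := orderOf) fun m =>
    (Finite.equivFinOfCardEq (hT m)).trans (Finite.equivFinOfCardEq rfl).symm
  have he : ∀ g, orderOf (e g) = orderOf g := fun g => Equiv.ofFiberEquiv_map _ g
  have hcard : Nat.card G = Nat.card H := Nat.card_congr e
  refine ((Group.isNilpotent_of_finite_tfae (G := H)).out 0 3).2 fun p hp Q => ?_
  have hfact : Fact p.Prime := hp
  have hnil : Group.IsNilpotent G ↔
      ∀ (p : ℕ) (_hp : Fact p.Prime) (P : Sylow p G), (↑P : Subgroup G).Normal :=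
    (Group.isNilpotent_of_finite_tfae (G := G)).out 0 3
  have : ((default : Sylow p G) : Subgroup G).Normal := hnil.1 hG p hp _
  set P : Sylow p G := default with hP
  have := hp.out
  have hmem : ∀ g : G, (∃ k, orderOf g = p ^ k) → g ∈ (P : Subgroup G) := by
    rintro g ⟨k, hk⟩
    obtain ⟨R, hR⟩ := (IsPGroup.of_card (p := p) (G := Subgroup.zpowers g) (n := k)
      (by rw [Nat.card_zpowers, hk])).exists_le_sylow
    have hsub : Subsingleton (Sylow p G) :=
      @Unique.instSubsingleton _ (Sylow.unique_of_normal P ‹_›)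
    rw [Subsingleton.elim P R]
    exact hR (Subgroup.mem_zpowers g)
  have hPcard : Nat.card (Q : Subgroup H) = Nat.card (P : Subgroup G) := by
    rw [Q.card_eq_multiplicity, P.card_eq_multiplicity, hcard]
  have hQsub : ((Q : Subgroup H) : Set H) ⊆ e '' ((P : Subgroup G) : Set G) := by
    intro h hh
    obtain ⟨k, hk⟩ := IsPGroup.iff_orderOf.1 Q.isPGroup' ⟨h, hh⟩
    refine ⟨e.symm h, hmem _ ⟨k, ?_⟩, e.apply_symm_apply h⟩
    rw [← he, e.apply_symm_apply, ← hk, Subgroup.orderOf_mk]
  have heq : ((Q : Subgroup H) : Set H) = e '' ((P : Subgroup G) : Set G) := by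
    refine Set.eq_of_subset_of_ncard_le hQsub ?_ (Set.toFinite _)
    rw [Set.ncard_image_of_injective _ e.injective, ← Nat.card_coe_set_eq, ← Nat.card_coe_set_eq]
    exact hPcard.ge
  refine ⟨fun h hh c => ?_⟩
  obtain ⟨k, hk⟩ := IsPGroup.iff_orderOf.1 Q.isPGroup' ⟨h, hh⟩
  rw [Subgroup.orderOf_mk] at hk
  rw [← SetLike.mem_coe, heq]
  refine ⟨e.symm (c * h * c⁻¹), hmem _ ⟨k, ?_⟩, e.apply_symm_apply _⟩
  rw [← he, e.apply_symm_apply, ← hk]
  exact MulEquiv.orderOf_eq (MulAut.conj c) h

end Cfsg.Agent.S3997
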