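import Cfsg.Statements.S3999
import Cfsg.Agent.FGSB.FrobeniusSolvable
import Cfsg.Agent.FGSB.TIHall
import Cfsg.Agent.Solvable.FrobeniusConj
import Cfsg.Agent.Frobenius.Semidirect
import Cfsg.Agent.FGSA.ThompsonNil
import Mathlib.GroupTheory.SchurZassenhaus

set_option autoImplicit false
open Cfsg

namespace Cfsg.Agent.S3999

set_option linter.unusedSectionVars false
open Subgroup
open scoped Pointwise

/-- The facts about a Frobenius group that only depend on kernel and complement. -/
theorem order_dichotomy {G : Type*} [Group G] [Finite G] {N C : Subgroup G} [N.Normal]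
    (hC : Cfsg.IsFrobeniusComplement C) (hNC : IsComplement' N C)
    (hmem : ∀ x : G, x ∉ N → ∃ g : G, g⁻¹ * x * g ∈ C) (x : G) :
    orderOf x ∣ Nat.card N ∨ (x ∉ N ∧ (orderOf x).Coprime (Nat.card N)) := by
  by_cases hx : x ∈ N
  · exact Or.inl (N.orderOf_dvd_natCard hx)
  · obtain ⟨g, hg⟩ := hmem x hx
    have h1 : orderOf x ∣ Nat.card C := by
      rw [← MulEquiv.orderOf_eq (MulAut.conj g⁻¹) x, MulAut.conj_apply, inv_inv]
      exact C.orderOf_dvd_natCard hg
    refine Or.inr ⟨hx, Nat.Coprime.coprime_dvd_left h1 ?_⟩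
    rw [← hNC.index_eq_card]
    exact CfsgLib.Frobenius.coprime_card_index hC

theorem kernel_nilpotent {G : Type*} [Group G] [Finite G] {N C : Subgroup G} [N.Normal]
    (hC : Cfsg.IsFrobeniusComplement C) (hNC : IsComplement' N C) : Group.IsNilpotent N := by
  obtain ⟨φ, hφ, -⟩ := CfsgLib.Frobenius.exists_fpf_of_normal_complement hC hNC.disjoint.eq_bot
  have hC1 : Nat.card C ≠ 1 := fun h => hC.1 (Subgroup.card_eq_one.1 h)
  have := Fact.mk (Nat.minFac_prime hC1)
  obtain ⟨c, hc⟩ := exists_prime_orderOf_dvd_card' (Nat.card C).minFac (Nat.minFac_dvd _)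
  refine CfsgLib.ThompsonNil.isNilpotent (Fact.out : (Nat.card C).minFac.Prime) (φ c)
    (by rw [← map_pow, ← hc, pow_orderOf_eq_one, map_one])
    (fun n hn => hφ c (fun h => (Fact.out : (Nat.card C).minFac.Prime).ne_one (by rw [← hc, h, orderOf_one])) n hn)

theorem card_order_eq {G : Type*} [Group G] [Finite G] {N C : Subgroup G} [N.Normal]
    (hC : Cfsg.IsFrobeniusComplement C) (hNC : IsComplement' N C)
    (hmem : ∀ x : G, x ∉ N → ∃ g : G, g⁻¹ * x * g ∈ C) {p : ℕ} (hp : p.Prime)
    (hpN : ¬ p ∣ Nat.card N) :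
    Nat.card {x : G // orderOf x = p} = Nat.card N * Nat.card {d : C // orderOf d = p} := by
  rw [← Nat.card_prod]
  refine (Nat.card_congr (Equiv.ofBijective (fun z : N × {d : C // orderOf d = p} =>
    (⟨(z.1 : G) * z.2.1 * (z.1 : G)⁻¹, by
      rw [show (z.1 : G) * z.2.1 * (z.1 : G)⁻¹ = MulAut.conj (z.1 : G) z.2.1 from rfl, MulEquiv.orderOf_eq,
        Subgroup.orderOf_coe, z.2.2]⟩ : {x : G // orderOf x = p})) ⟨?_, ?_⟩)).symm
  · rintro ⟨n, d, hd⟩ ⟨n', d', hd'⟩ h
    have h' : (n : G) * d * (n : G)⁻¹ = n' * d' * (n' : G)⁻¹ := congrArg Subtype.val h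
    have hd1 : (d : G) ≠ 1 := fun e => hp.ne_one (by rw [← hd, ← Subgroup.orderOf_coe, e, orderOf_one])
    have hmem' : ((n' : G)⁻¹ * n) * d * ((n' : G)⁻¹ * n)⁻¹ = (d' : G) := by
      calc ((n' : G)⁻¹ * n) * d * ((n' : G)⁻¹ * n)⁻¹ = (n' : G)⁻¹ * ((n : G) * d * (n : G)⁻¹) * n' := by group
        _ = _ := by rw [h']; group
    have hin : (n' : G)⁻¹ * n ∈ C := by
      by_contra hout
      have h1 := hC.2.2 _ hout
      have h2 : (d' : G) ∈ C ⊓ (MulAut.conj ((n' : G)⁻¹ * n) • C) :=
        ⟨d'.2, (Subgroup.mem_smul_pointwise_iff_exists _ _ _).2 ⟨d, d.2, hmem'⟩⟩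
      rw [h1, Subgroup.mem_bot] at h2
      rw [h2, conj_eq_one_iff] at hmem'
      exact hd1 hmem'
    have hone : (n' : G)⁻¹ * n = 1 :=
      Subgroup.mem_bot.1 (hNC.disjoint.eq_bot.le (Subgroup.mem_inf.2 ⟨mul_mem (inv_mem n'.2) n.2, hin⟩))
    have hnn : n = n' := Subtype.ext (inv_mul_eq_one.1 hone).symm
    subst hnn
    have hdd : d = d' := Subtype.ext (mul_left_cancel (mul_right_cancel h'))
    subst hdd
    rfl
  · rintro ⟨x, hx⟩
    have hxN : x ∉ N := fun h => hpN (hx ▸ N.orderOf_dvd_natCard h)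
    obtain ⟨g, hg⟩ := hmem x hxN
    obtain ⟨⟨n, c⟩, rfl⟩ := hNC.2 g
    refine ⟨⟨n, ⟨⟨(n : G)⁻¹ * x * n, ?_⟩, ?_⟩⟩, Subtype.ext (by group)⟩
    · have := mul_mem (mul_mem c.2 hg) (inv_mem c.2)
      convert this using 1
      group
    · rw [← Subgroup.orderOf_coe]
      show orderOf ((n : G)⁻¹ * x * n) = p
      rw [show (n : G)⁻¹ * x * n = MulAut.conj (n : G)⁻¹ x by simp, MulEquiv.orderOf_eq, hx]

theorem solvable_iff {G : Type*} [Group G] [Finite G] {N C : Subgroup G} [N.Normal]
    (hC : Cfsg.IsFrobeniusComplement C) (hNC : IsComplement' N C)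
    (hmem : ∀ x : G, x ∉ N → ∃ g : G, g⁻¹ * x * g ∈ C) :
    Group.IsSolvable G ↔ ∀ p : ℕ, p.Prime → 5 ≤ p → ¬ p ∣ Nat.card N →
      Nat.card {x : G // orderOf x = p} ≤ Nat.card N * (p - 1) := by
  have hN1 : N ≠ ⊥ := by
    intro h
    apply hC.2.1
    have := hNC.sup_eq_top
    rwa [h, bot_sup_eq] at this
  have : Nontrivial N := (Subgroup.nontrivial_iff_ne_bot N).2 hN1
  obtain ⟨φ, hφ, -⟩ := CfsgLib.Frobenius.exists_fpf_of_normal_complement hC hNC.disjoint.eq_bot
  constructor
  · intro hG p hp h5 hpN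
    rw [card_order_eq hC hNC hmem hp hpN]
    exact Nat.mul_le_mul_left _ (CfsgLib.FrobeniusSolvable.fewLarge_of_isSolvable hφ p hp h5)
  · intro h
    have hfl : CfsgLib.FrobeniusSolvable.FewLarge C := by
      intro p hp h5
      by_cases hpN : p ∣ Nat.card N
      · have : IsEmpty {d : C // orderOf d = p} := ⟨fun d => by
          have h1 : p ∣ Nat.card C := by rw [← d.2]; exact orderOf_dvd_natCard _
          have h2 := CfsgLib.Frobenius.coprime_card_index hC
          rw [hNC.index_eq_card] at h2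
          exact hp.ne_one (Nat.dvd_one.1 (h2 ▸ Nat.dvd_gcd h1 hpN))⟩
        simp
      · have := h p hp h5 hpN
        rw [card_order_eq hC hNC hmem hp hpN] at this
        exact Nat.le_of_mul_le_mul_left this Nat.card_pos
    have := kernel_nilpotent hC hNC
    have := CfsgLib.FrobeniusSolvable.isSolvable_of_fewLarge _ C le_rfl hfl
    have hsurj : Function.Surjective (fun c : C => (QuotientGroup.mk (c : G) : G ⧸ N)) := by
      intro z
      obtain ⟨g, rfl⟩ := QuotientGroup.mk_surjective z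
      obtain ⟨⟨n, c⟩, rfl⟩ := hNC.2 g
      refine ⟨c, QuotientGroup.eq.2 ?_⟩
      rw [← mul_assoc]
      exact (inferInstance : N.Normal).conj_mem' (n : G) n.2 (c : G)
    have : Group.IsSolvable (G ⧸ N) :=
      Group.isSolvable_of_surjective (f := (QuotientGroup.mk' N).comp C.subtype) hsurj
    refine Group.isSolvable_of_ker_le_range N.subtype (QuotientGroup.mk' N) ?_
    rw [QuotientGroup.ker_mk', range_subtype]

/-- Let F be a finite Frobenius group (it has a Frobenius complement) and G a finite group with the same order type as F (for every m the same number of elements of order m). Then G is a Frobenius group; moreover G is solvable if and only if F is. -/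
theorem result {F G : Type*} [Group F] [Finite F] [Group G] [Finite G] (hF : (∃ C : Subgroup F, Cfsg.IsFrobeniusComplement C)) (hT : (∀ m : ℕ, Nat.card {g : F // orderOf g = m} = Nat.card {h : G // orderOf h = m})) :
    (∃ C : Subgroup G, Cfsg.IsFrobeniusComplement C) ∧ (Group.IsSolvable G ↔ Group.IsSolvable F) := by
  classical
  obtain ⟨C, hC⟩ := hF
  obtain ⟨N, hN, hN1, hNC, hmem⟩ := CfsgLib.FrobeniusConj.exists_kernel hC
  have hNnil := kernel_nilpotent hC hNC
  have := Fintype.ofFinite F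
  have := Fintype.ofFinite G
  have key : ∀ P : ℕ → Prop,
      Nat.card {g : F // P (orderOf g)} = Nat.card {h : G // P (orderOf h)} := fun P => by
    refine Nat.card_congr ?_
    let e : F ≃ G := Equiv.ofFiberEquiv (f := orderOf) (g := orderOf) fun m =>
      Classical.choice (Fintype.card_eq.1 (by simpa [Nat.card_eq_fintype_card] using hT m) |>.elim
        fun e => ⟨e⟩)
    exact e.subtypeEquiv fun g => by rw [show orderOf (e g) = orderOf g from Equiv.ofFiberEquiv_map _ g]
  have hcardG : Nat.card F = Nat.card G := by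
    simpa [Nat.card_congr (Equiv.subtypeUnivEquiv fun _ : F => trivial),
      Nat.card_congr (Equiv.subtypeUnivEquiv fun _ : G => trivial)] using key fun _ => True
  have hexG : ∀ g : G, ∃ f : F, orderOf f = orderOf g := by
    intro g
    by_contra hcon
    push Not at hcon
    have h0 : IsEmpty {f : F // orderOf f = orderOf g} := ⟨fun f => hcon f.1 f.2⟩
    have := key (fun m => m = orderOf g)
    rw [Nat.card_of_isEmpty] at this
    have : Nonempty {h : G // orderOf h = orderOf g} := ⟨⟨g, rfl⟩⟩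
    exact (Nat.card_pos (α := {h : G // orderOf h = orderOf g})).ne (by assumption)
  have hco : (Nat.card C).Coprime (Nat.card N) := by
    have h := CfsgLib.Frobenius.coprime_card_index hC
    rwa [hNC.index_eq_card] at h
  have hpart : ∀ p : ℕ, p.Prime → p ∣ Nat.card N →
      (Nat.card F).factorization p = (Nat.card N).factorization p := by
    intro p hp hpN
    rw [← hNC.card_mul_card, Nat.factorization_mul Nat.card_pos.ne' Nat.card_pos.ne', Finsupp.add_apply,
      Nat.factorization_eq_zero_of_not_dvd (fun h => hp.ne_one (Nat.dvd_one.1 (hco ▸ Nat.dvd_gcd h hpN))),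
      add_zero]
  -- the normal Sylow subgroups of `G`
  have hsyl : ∀ p ∈ (Nat.card N).primeFactors, ∃ P : Subgroup G, P.Normal ∧
      Nat.card P = p ^ (Nat.card N).factorization p := by
    intro p hp
    rw [Nat.mem_primeFactors] at hp
    have := Fact.mk hp.1
    obtain ⟨P⟩ : Nonempty (Sylow p G) := inferInstance
    have hPc : Nat.card (P : Subgroup G) = p ^ (Nat.card N).factorization p := by
      rw [P.card_eq_multiplicity, ← hcardG, hpart p hp.1 hp.2.1]
    obtain ⟨R⟩ : Nonempty (Sylow p N) := inferInstance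
    have hRn : (R : Subgroup N).Normal :=
      Sylow.normal_of_normalizerCondition (Group.normalizerCondition_of_isNilpotent (G := N)) R
    have hle : Nat.card {f : F // ∃ k, orderOf f = p ^ k} ≤ Nat.card (R : Subgroup N) := by
      have hin : ∀ f : F, (∃ k, orderOf f = p ^ k) → f ∈ N := by
        rintro f ⟨k, hk⟩
        by_contra hf
        have h1 := (order_dichotomy hC hNC hmem f).resolve_left (fun h => ?_)
        · rcases k with _ | k
          · rw [pow_zero, orderOf_eq_one_iff] at hk; exact hf (hk ▸ one_mem N)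
          · exact hp.1.ne_one (Nat.dvd_one.1 (h1.2 ▸ Nat.dvd_gcd (hk ▸ dvd_pow_self p k.succ_ne_zero) hp.2.1))
        · obtain ⟨g, hg⟩ := hmem f hf
          have h2 : orderOf f ∣ Nat.card C := by
            rw [← MulEquiv.orderOf_eq (MulAut.conj g⁻¹) f, MulAut.conj_apply, inv_inv]
            exact C.orderOf_dvd_natCard hg
          have : orderOf f = 1 := Nat.dvd_one.1 (hco ▸ Nat.dvd_gcd h2 h)
          exact hf (orderOf_eq_one_iff.1 this ▸ one_mem N)
      have := Sylow.unique_of_normal R hRn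
      have hmemR : ∀ f : {f : F // ∃ k, orderOf f = p ^ k},
          (⟨f.1, hin f.1 f.2⟩ : N) ∈ (R : Subgroup N) := by
        intro f
        obtain ⟨k, hk⟩ := f.2
        obtain ⟨Q, hQ⟩ := (IsPGroup.of_card (p := p) (G := Subgroup.zpowers (⟨f.1, hin f.1 f.2⟩ : N)) (n := k)
          (by rw [Nat.card_zpowers, Subgroup.orderOf_mk, hk])).exists_le_sylow
        exact (Subsingleton.elim Q R) ▸ hQ (Subgroup.mem_zpowers _)
      exact Nat.card_le_card_of_injective
        (fun f => (⟨_, hmemR f⟩ : (R : Subgroup N))) fun a b h =>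
          Subtype.ext (congrArg (fun z : (R : Subgroup N) => ((z : N) : F)) h)
    rw [key (fun m => ∃ k, m = p ^ k), R.card_eq_multiplicity] at hle
    -- so `P` is the set of all `p`-elements
    have hall : ∀ g : G, (∃ k, orderOf g = p ^ k) → g ∈ (P : Subgroup G) := by
      let ι : ↥(P : Subgroup G) → {g : G // ∃ k, orderOf g = p ^ k} := fun z => ⟨z, by
        obtain ⟨k, hk⟩ := IsPGroup.iff_orderOf.1 P.isPGroup' z
        exact ⟨k, by rw [Subgroup.orderOf_coe]; exact hk⟩⟩
      have hι : Function.Bijective ι := (Nat.bijective_iff_injective_and_card ι).2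
        ⟨fun a b h => Subtype.ext (congrArg (fun z : {g : G // ∃ k, orderOf g = p ^ k} => (z : G)) h),
          le_antisymm (Nat.card_le_card_of_injective ι fun a b h =>
            Subtype.ext (congrArg (fun z : {g : G // ∃ k, orderOf g = p ^ k} => (z : G)) h))
            (hle.trans hPc.ge)⟩
      intro g hg
      obtain ⟨z, hz⟩ := hι.2 ⟨g, hg⟩
      have hz' : (z : G) = g := congrArg Subtype.val hz
      exact hz' ▸ z.2
    refine ⟨P, ⟨fun z hz g => hall _ ?_⟩, hPc⟩
    rw [show g * z * g⁻¹ = MulAut.conj g z from rfl, MulEquiv.orderOf_eq]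
    obtain ⟨k, hk⟩ := IsPGroup.iff_orderOf.1 P.isPGroup' ⟨z, hz⟩
    exact ⟨k, by rwa [Subgroup.orderOf_mk] at hk⟩
  choose! P hPn hPc using hsyl
  have hsup : ∀ s : Finset ℕ, s ⊆ (Nat.card N).primeFactors →
      (s.sup P).Normal ∧ Nat.card ↥(s.sup P) ∣ ∏ p ∈ s, p ^ (Nat.card N).factorization p := by
    intro s
    induction s using Finset.induction with
    | empty => intro _; exact ⟨inferInstanceAs (⊥ : Subgroup G).Normal, by simp⟩
    | insert q s hq ih =>
      intro hs
      rw [Finset.insert_subset_iff] at hs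
      obtain ⟨h1, h2⟩ := ih hs.2
      have := hPn q hs.1
      rw [Finset.sup_insert, Finset.prod_insert hq, ← hPc q hs.1]
      refine ⟨inferInstance, dvd_trans ?_ (Nat.mul_dvd_mul_left _ h2)⟩
      have e : Nat.card ↥(P q ⊔ s.sup P) = Nat.card (s.sup P : Subgroup G) * (s.sup P).relIndex (P q) := by
        rw [← Subgroup.relIndex_sup_right (H := P q) (K := s.sup P),
          CfsgLib.TIHall.card_mul_relIndex le_sup_right]
      rw [e, mul_comm (Nat.card (P q))]
      exact Nat.mul_dvd_mul_left _ (Subgroup.relIndex_dvd_card _ _)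
  obtain ⟨hMn, hMd⟩ := hsup _ subset_rfl
  set M := (Nat.card N).primeFactors.sup P with hM
  have hprod : ∏ p ∈ (Nat.card N).primeFactors, p ^ (Nat.card N).factorization p = Nat.card N := by
    conv_rhs => rw [← Nat.prod_factorization_pow_eq_self (n := Nat.card N) Nat.card_pos.ne']
    rw [Finsupp.prod, Nat.support_factorization]
  rw [hprod] at hMd
  have hMc : Nat.card M = Nat.card N := by
    refine Nat.dvd_antisymm hMd ?_
    refine (Nat.dvd_iff_prime_pow_dvd_dvd _ _).2 fun q k hq hd => ?_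
    rcases k with _ | k
    · exact one_dvd _
    have hqm : q ∈ (Nat.card N).primeFactors :=
      Nat.mem_primeFactors.2 ⟨hq, (dvd_pow_self q k.succ_ne_zero).trans hd, Nat.card_pos.ne'⟩
    calc q ^ (k + 1) ∣ q ^ (Nat.card N).factorization q :=
          pow_dvd_pow q ((hq.pow_dvd_iff_le_factorization Nat.card_pos.ne').1 hd)
      _ = Nat.card (P q) := (hPc q hqm).symm
      _ ∣ Nat.card M := Subgroup.card_dvd_of_le (Finset.le_sup hqm)
  have hMi : M.index = Nat.card C := by
    refine Nat.eq_of_mul_eq_mul_right (Nat.card_pos (α := M)) ?_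
    rw [M.index_mul_card, ← hcardG, ← hNC.card_mul_card, hMc, mul_comm]
  obtain ⟨D, hD⟩ := Subgroup.exists_right_complement'_of_coprime (N := M)
    (by rw [hMc, hMi]; exact hco.symm)
  have hDc : Nat.card D = Nat.card C := by rw [← hMi, hD.symm.index_eq_card]
  have hMne : M ≠ ⊥ := fun h => hN1 (Subgroup.card_eq_one.1 (by rw [← hMc, h, Subgroup.card_bot]))
  have hDne : D ≠ ⊥ := fun h => hC.1 (Subgroup.card_eq_one.1 (by rw [← hDc, h, Subgroup.card_bot]))
  have hDF : Cfsg.IsFrobeniusComplement D := by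
    refine CfsgLib.Frobenius.of_fpf hD hMne hDne fun d hd hd1 k hk hdk => ?_
    by_contra hk1
    have hkN : orderOf k ∣ Nat.card N := hMc ▸ M.orderOf_dvd_natCard hk
    have hdC : orderOf d ∣ Nat.card C := hDc ▸ D.orderOf_dvd_natCard hd
    have hcop : (orderOf d).Coprime (orderOf k) :=
      (hco.coprime_dvd_left hdC).coprime_dvd_right hkN
    obtain ⟨f, hf⟩ := hexG (d * k)
    rw [Commute.orderOf_mul_eq_mul_orderOf_of_coprime hdk hcop] at hf
    rcases order_dichotomy hC hNC hmem f with h | ⟨-, h⟩ <;> rw [hf] at h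
    · exact hd1 (orderOf_eq_one_iff.1 (Nat.dvd_one.1 (hco ▸ Nat.dvd_gcd hdC ((dvd_mul_right _ _).trans h))))
    · exact hk1 (orderOf_eq_one_iff.1 (Nat.dvd_one.1 ((h.coprime_dvd_left (dvd_mul_left _ _)) ▸ Nat.dvd_gcd dvd_rfl hkN)))
  refine ⟨⟨D, hDF⟩, ?_⟩
  obtain ⟨N', hN', -, hN'D, hmem'⟩ := CfsgLib.FrobeniusConj.exists_kernel hDF
  have hc' : Nat.card N' = Nat.card N := by
    refine Nat.eq_of_mul_eq_mul_right (Nat.card_pos (α := D)) ?_
    rw [hN'D.card_mul_card, ← hMc, hD.card_mul_card]
  rw [solvable_iff hC hNC hmem, solvable_iff hDF hN'D hmem', hc']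
  have := hT
  exact ⟨fun h p hp h5 hpN => (this p).le.trans (h p hp h5 hpN), fun h p hp h5 hpN => (this p).ge.trans (h p hp h5 hpN)⟩

end Cfsg.Agent.S3999
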