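import Cfsg.Statements.S4001
import Cfsg.Agent.FGSB.FrobeniusKernelFacts
import Cfsg.Agent.FGSB.FrobeniusSolvable
import Cfsg.Agent.FGSB.TIHall
import Cfsg.Agent.Coprime.ZGroup
import Cfsg.Agent.Solvable.Glauberman

set_option autoImplicit false
open Cfsg

namespace Cfsg.Agent.S4001

set_option linter.unusedSectionVars false
open Subgroup
open scoped Pointwise

theorem exists_orderOf_eq_prime {X : Type*} [Group X] [Finite X] {q : ℕ} (hq : q.Prime) {y : X}
    (hy : q ∣ orderOf y) : orderOf (y ^ (orderOf y / q)) = q := by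
  rw [orderOf_pow_of_dvd (Nat.div_pos (Nat.le_of_dvd (orderOf_pos y) hy) hq.pos).ne' (Nat.div_dvd_of_dvd hy),
    Nat.div_div_self hy (orderOf_pos y).ne']

/-- Let G be a 2-Frobenius group: it has normal subgroups H < K with K a Frobenius group with kernel H and G/H a Frobenius group with kernel K/H. Then G is solvable; K/H has odd order coprime to the order of H and to the order of G/K (it is the image of an odd-order Hall subgroup); G/K is cyclic; and the prime graph of G has exactly two connected components, both complete: for distinct primes p, q dividing the order of G, G has an element of order pq exactly when p and q either both divide the order of K/H or both do not. -/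
theorem result {G : Type*} [Group G] [Finite G] (H K : Subgroup G) [H.Normal] [K.Normal] (hlt : H < K)
    (hK : ∃ C : Subgroup ↥K, Cfsg.IsFrobeniusComplement C ∧ Cfsg.frobeniusKernel C = (H.subgroupOf K : Set ↥K))
    (hGH : ∃ C : Subgroup (G ⧸ H), Cfsg.IsFrobeniusComplement C ∧ Cfsg.frobeniusKernel C = (K.map (QuotientGroup.mk' H) : Set (G ⧸ H))) :
    Group.IsSolvable G ∧ Odd (Nat.card (↥K ⧸ H.subgroupOf K)) ∧
      Nat.Coprime (Nat.card (↥K ⧸ H.subgroupOf K)) (Nat.card ↥H * Nat.card (G ⧸ K)) ∧ IsCyclic (G ⧸ K) ∧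
      ∀ p q : ℕ, p.Prime → q.Prime → p ≠ q → p ∣ Nat.card G → q ∣ Nat.card G →
        ((∃ g : G, orderOf g = p * q) ↔ (p ∣ Nat.card (↥K ⧸ H.subgroupOf K) ↔ q ∣ Nat.card (↥K ⧸ H.subgroupOf K))) := by
  classical
  obtain ⟨C, hC, hk⟩ := hK
  obtain ⟨A, hA, hAk⟩ := hGH
  have hn : (H.subgroupOf K).Normal := inferInstance
  have hKbn : (K.map (QuotientGroup.mk' H)).Normal := Subgroup.Normal.map inferInstance _ (QuotientGroup.mk'_surjective H)
  set π := QuotientGroup.mk' H with hπ
  set Kb := K.map π with hKb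
  have hcompl := CfsgLib.FrobKernel.isComplement' hC hk
  have hcompl' := CfsgLib.FrobKernel.isComplement' hA hAk
  have hHnil' := CfsgLib.FrobKernel.isNilpotent hC hk
  have hHnil : Group.IsNilpotent H :=
    Group.nilpotent_of_surjective (h := hHnil') (Subgroup.subgroupOfEquivOfLe hlt.le).toMonoidHom
      (Subgroup.subgroupOfEquivOfLe hlt.le).surjective
  set C' := C.map K.subtype with hC'
  have hC'K : C' ≤ K := map_subtype_le _
  -- `C` maps isomorphically onto the kernel of `G ⧸ H`
  let ψ : C →* Kb := ((π.comp K.subtype).comp C.subtype).codRestrict Kb fun c => ⟨(c : K), (c : K).2, rfl⟩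
  have hψi : Function.Injective ψ := by
    refine (injective_iff_map_eq_one ψ).2 fun c hc => ?_
    have h1 : ((c : K) : G) ∈ H := (QuotientGroup.eq_one_iff _).1 (congrArg Subtype.val hc)
    exact Subtype.ext (Subgroup.mem_bot.1 (hcompl.disjoint.eq_bot.le (Subgroup.mem_inf.2 ⟨h1, c.2⟩)))
  have hψs : Function.Surjective ψ := by
    rintro ⟨_, k, hk', rfl⟩
    obtain ⟨⟨n, c⟩, hnc⟩ := hcompl.2 ⟨k, hk'⟩
    refine ⟨c, Subtype.ext ?_⟩
    have h1 : ((n : K) : G) * ((c : K) : G) = k := congrArg Subtype.val hnc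
    show π ((c : K) : G) = π k
    rw [← h1, map_mul, show π ((n : K) : G) = 1 from (QuotientGroup.eq_one_iff _).2 n.2, one_mul]
  have hcardKb : Nat.card Kb = Nat.card C := (Nat.card_congr (Equiv.ofBijective ψ ⟨hψi, hψs⟩)).symm
  have hcardKH : Nat.card (↥K ⧸ H.subgroupOf K) = Nat.card C := by
    rw [← Subgroup.index_eq_card, hcompl.symm.index_eq_card]
  have : Nontrivial (H.subgroupOf K) :=
    (Subgroup.nontrivial_iff_ne_bot _).2 (CfsgLib.FrobKernel.kernel_ne_bot hC hk)
  obtain ⟨φ, hφ, hφval⟩ := CfsgLib.Frobenius.exists_fpf_of_normal_complement hC hcompl.disjoint.eq_bot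
  have hAne : ∃ a : G ⧸ H, a ∈ A ∧ a ≠ 1 := A.bot_or_exists_ne_one.resolve_left hA.1
  have hodd : Odd (Nat.card C) := by
    by_contra he
    rw [Nat.not_odd_iff_even] at he
    have := Fact.mk Nat.prime_two
    obtain ⟨z, hz⟩ := exists_prime_orderOf_dvd_card' (G := C) 2 (even_iff_two_dvd.1 he)
    obtain ⟨a, ha, ha1⟩ := hAne
    have hcen : a * (ψ z : G ⧸ H) * a⁻¹ = ψ z := by
      obtain ⟨w, hw⟩ := hψs ⟨_, hKbn.conj_mem _ (ψ z).2 a⟩
      have ho : orderOf w = 2 := by
        rw [← orderOf_injective ψ hψi w, hw, ← Subgroup.orderOf_coe]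
        show orderOf (MulAut.conj a (ψ z : G ⧸ H)) = 2
        rw [MulEquiv.orderOf_eq, Subgroup.orderOf_coe, orderOf_injective ψ hψi z, hz]
      rw [hφ.unique_involution ho hz] at hw
      exact (congrArg Subtype.val hw).symm
    have h1 := CfsgLib.Frobenius.eq_one_of_commute hA hcompl'.disjoint.eq_bot ha ha1 (ψ z).2
      (mul_inv_eq_iff_eq_mul.1 hcen)
    have : z = 1 := hψi (Subtype.ext (h1.trans (by rw [map_one]; rfl)))
    rw [this, orderOf_one] at hz
    omega
  have hCnil : Group.IsNilpotent C := by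
    have := CfsgLib.FrobKernel.isNilpotent hA hAk
    have : Group.IsNilpotent Kb := this
    exact Subgroup.isNilpotent_of_ker_le_center ψ (by rw [(MonoidHom.ker_eq_bot_iff ψ).2 hψi]; exact bot_le)
  have hCz : IsZGroup C := ⟨fun r hr R => by
    have := Fact.mk hr
    rcases CfsgLib.FrobeniusSolvable.cyclic_or_quaternion hφ R.isPGroup' with h | ⟨rfl, n, -, ⟨e⟩⟩
    · exact h
    · exfalso
      have h1 : 2 ∣ Nat.card C := by
        refine dvd_trans ?_ (Subgroup.card_subgroup_dvd_card (R : Subgroup C))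
        rw [Nat.card_congr e.toEquiv, Nat.card_eq_fintype_card, QuaternionGroup.card]
        exact dvd_mul_of_dvd_left (by norm_num) _
      exact Nat.not_even_iff_odd.2 hodd (even_iff_two_dvd.2 h1)⟩
  have hCcyc : IsCyclic C := inferInstance
  have hKbcyc : IsCyclic Kb := isCyclic_of_surjective ψ hψs
  -- `G ⧸ K` acts fixed-point-freely on a cyclic group
  have : Nontrivial Kb := (Subgroup.nontrivial_iff_ne_bot _).2 (CfsgLib.FrobKernel.kernel_ne_bot hA hAk)
  obtain ⟨θ, hθ, -⟩ := CfsgLib.Frobenius.exists_fpf_of_normal_complement hA hcompl'.disjoint.eq_bot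
  have hAcyc : IsCyclic A := by
    refine hθ.isCyclic_of_comm fun a b => hθ.injective (MulEquiv.ext fun y => ?_)
    obtain ⟨i, hi⟩ := MonoidHom.map_cyclic (θ a).toMonoidHom
    obtain ⟨j, hj⟩ := MonoidHom.map_cyclic (θ b).toMonoidHom
    simp only [MulEquiv.coe_toMonoidHom] at hi hj
    rw [map_mul, map_mul, MulAut.mul_apply, MulAut.mul_apply, hi, hj, hj, hi, ← zpow_mul, ← zpow_mul, mul_comm]
  have hGK : IsCyclic (G ⧸ K) := by
    let ρ : G ⧸ H →* G ⧸ K := QuotientGroup.map H K (MonoidHom.id G) hlt.le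
    refine isCyclic_of_surjective (ρ.comp A.subtype) ?_
    intro z
    obtain ⟨g, rfl⟩ := QuotientGroup.mk_surjective z
    obtain ⟨⟨k, a⟩, hka⟩ := hcompl'.2 (π g)
    obtain ⟨k', hk', hkk⟩ := k.2
    refine ⟨a, ?_⟩
    have h1 : (k : G ⧸ H) * (a : G ⧸ H) = π g := hka
    show ρ (a : G ⧸ H) = _
    have h2 : ρ (k : G ⧸ H) = 1 := by
      rw [← hkk]; exact (QuotientGroup.eq_one_iff k').2 hk'
    have h3 := congrArg ρ h1
    rw [map_mul, h2, one_mul] at h3
    exact h3
  have hGKcard : Nat.card (G ⧸ K) = Nat.card A := by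
    rw [← hcompl'.symm.index_eq_card, ← Subgroup.index_eq_card, hKb,
      Subgroup.index_map_eq K (QuotientGroup.mk'_surjective H) (by rw [QuotientGroup.ker_mk']; exact hlt.le)]
  have hcH : (Nat.card C).Coprime (Nat.card H) := by
    rw [← Nat.card_congr (Subgroup.subgroupOfEquivOfLe hlt.le).toEquiv]
    exact CfsgLib.FrobKernel.coprime hC hk
  have hcA : (Nat.card C).Coprime (Nat.card (G ⧸ K)) := by
    rw [hGKcard, ← hcardKb]
    exact (CfsgLib.FrobKernel.coprime hA hAk).symm
  have hsol : Group.IsSolvable G := by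
    have hGKs : Group.IsSolvable (G ⧸ K) := by
      let _ : CommGroup (G ⧸ K) := IsCyclic.commGroup
      exact Group.isSolvable_of_comm mul_comm
    have hKs : Group.IsSolvable K := by
      have : Group.IsSolvable (↥K ⧸ H.subgroupOf K) := by
        refine Group.isSolvable_of_surjective (f := (QuotientGroup.mk' (H.subgroupOf K)).comp C.subtype) ?_
        intro z
        obtain ⟨g, rfl⟩ := QuotientGroup.mk_surjective z
        obtain ⟨⟨n, c⟩, rfl⟩ := hcompl.2 g
        refine ⟨c, QuotientGroup.eq.2 ?_⟩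
        rw [← mul_assoc]
        exact hn.conj_mem' (n : K) n.2 (c : K)
      refine Group.isSolvable_of_ker_le_range (H.subgroupOf K).subtype (QuotientGroup.mk' (H.subgroupOf K)) ?_
      rw [QuotientGroup.ker_mk', range_subtype]
    refine Group.isSolvable_of_ker_le_range K.subtype (QuotientGroup.mk' K) ?_
    rw [QuotientGroup.ker_mk', range_subtype]
  refine ⟨hsol, hcardKH ▸ hodd, by rw [hcardKH]; exact Nat.Coprime.mul_right hcH hcA, hGK, ?_⟩
  intro p q hp hq hpq hpG hqG
  rw [hcardKH]
  have := Fact.mk hp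
  have := Fact.mk hq
  have hG3 : ∀ r : ℕ, r.Prime → r ∣ Nat.card G → r ∣ Nat.card C ∨ r ∣ Nat.card H ∨ r ∣ Nat.card (G ⧸ K) := by
    intro r hr hd
    rw [← K.index_mul_card, ← hcompl.card_mul_card,
      Nat.card_congr (Subgroup.subgroupOfEquivOfLe hlt.le).toEquiv] at hd
    rcases hr.dvd_mul.1 hd with h | h
    · exact Or.inr (Or.inr h)
    · exact (hr.dvd_mul.1 h).elim (fun h => Or.inr (Or.inl h)) Or.inl
  -- primes in different components are not adjacent
  have hsep : ∀ p q : ℕ, p.Prime → q.Prime → p ≠ q → p ∣ Nat.card C → ¬ q ∣ Nat.card C →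
      ∀ g : G, orderOf g ≠ p * q := by
    intro p q hp hq hpq hpC hqC g hg
    have hx : orderOf (g ^ q) = p := by
      rw [orderOf_pow_of_dvd hq.ne_zero (hg ▸ dvd_mul_left q p), hg, Nat.mul_div_cancel _ hq.pos]
    have hy : orderOf (g ^ p) = q := by
      rw [orderOf_pow_of_dvd hp.ne_zero (hg ▸ dvd_mul_right p q), hg, Nat.mul_div_cancel_left _ hp.pos]
    have hpH : ¬ p ∣ Nat.card H := fun h => hp.ne_one (Nat.dvd_one.1 (hcH ▸ Nat.dvd_gcd hpC h))
    have hxK : g ^ q ∈ K := by
      rw [← QuotientGroup.eq_one_iff]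
      refine orderOf_eq_one_iff.1 ((Nat.dvd_prime hp).1 (hx ▸ orderOf_map_dvd (QuotientGroup.mk' K) (g ^ q)) |>.resolve_right
        fun h => ?_)
      exact hp.ne_one (Nat.dvd_one.1 (hcA ▸ Nat.dvd_gcd hpC (h ▸ orderOf_dvd_natCard _)))
    have hxH : g ^ q ∉ H := fun h => hpH (hx ▸ H.orderOf_dvd_natCard h)
    have hcomm : Commute (g ^ p) (g ^ q) := Commute.pow_pow_self g p q
    have hyb : π (g ^ p) ∈ Kb := CfsgLib.FrobKernel.mem_of_commute hA hAk ⟨_, hxK, rfl⟩
      (fun h => hxH ((QuotientGroup.eq_one_iff _).1 h)) (hcomm.map π)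
    have hyH : g ^ p ∈ H := by
      rw [← QuotientGroup.eq_one_iff]
      refine orderOf_eq_one_iff.1 ((Nat.dvd_prime hq).1 (hy ▸ orderOf_map_dvd π (g ^ p)) |>.resolve_right fun h => ?_)
      exact hqC (hcardKb ▸ h ▸ Kb.orderOf_dvd_natCard hyb)
    have hyK : g ^ p ∈ K := hlt.le hyH
    have h1 : (⟨g ^ q, hxK⟩ : K) ∈ H.subgroupOf K :=
      CfsgLib.FrobKernel.mem_of_commute hC hk (y := (⟨g ^ p, hyK⟩ : K)) hyH
        (fun h => hq.ne_one (by rw [← hy, show g ^ p = 1 from congrArg Subtype.val h, orderOf_one]))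
        (Subtype.ext hcomm.symm.eq)
    exact hxH h1
  constructor
  · rintro ⟨g, hg⟩
    refine ⟨fun h => ?_, fun h => ?_⟩
    · exact by_contra fun hn => hsep p q hp hq hpq h hn g hg
    · exact by_contra fun hn => hsep q p hq hp hpq.symm h hn g (by rw [hg, mul_comm])
  intro hiff
  by_cases hpC : p ∣ Nat.card C
  · obtain ⟨x, hx⟩ := exists_prime_orderOf_dvd_card' (G := C) p hpC
    obtain ⟨y, hy⟩ := exists_prime_orderOf_dvd_card' (G := C) q (hiff.1 hpC)
    let _ : CommGroup C := IsCyclic.commGroup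
    refine ⟨(((x * y : C) : K) : G), ?_⟩
    rw [Subgroup.orderOf_coe, Subgroup.orderOf_coe, Commute.orderOf_mul_eq_mul_orderOf_of_coprime (mul_comm x y)
      (by rw [hx, hy]; exact (Nat.coprime_primes hp hq).2 hpq), hx, hy]
  have hqC : ¬ q ∣ Nat.card C := fun h => hpC (hiff.2 h)
  have hmixed : ∀ p q : ℕ, p.Prime → q.Prime → p ≠ q → ¬ q ∣ Nat.card C → p ∣ Nat.card H →
      q ∣ Nat.card (G ⧸ K) → ∃ g : G, orderOf g = p * q := by
    intro p q hp hq hpq hqC hpH hqA
    have := Fact.mk hp
    have := Fact.mk hq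
    -- `G = H N(C)`
    set T := normalizer (C' : Set G) with hT
    have hGT : ∀ g : G, ∃ h ∈ H, ∃ t ∈ T, g = h * t := by
      intro g
      let τ : K ≃* K := MulAut.conjNormal g
      have hsame : (H.subgroupOf K).map τ.toMonoidHom = H.subgroupOf K := by
        refine Subgroup.eq_of_le_of_card_ge ?_ (by rw [Subgroup.card_map_of_injective (f := τ.toMonoidHom) τ.injective])
        rintro _ ⟨u, hu, rfl⟩
        exact (inferInstance : H.Normal).conj_mem _ hu g
      have hcg : IsComplement' (H.subgroupOf K) (C.map τ.toMonoidHom) := by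
        refine Subgroup.isComplement'_of_coprime ?_ ?_
        · rw [Subgroup.card_map_of_injective (f := τ.toMonoidHom) τ.injective, hcompl.card_mul_card]
        · rw [Subgroup.card_map_of_injective (f := τ.toMonoidHom) τ.injective]
          exact (CfsgLib.FrobKernel.coprime hC hk).symm
      obtain ⟨u, hu, hux⟩ := CfsgLib.SZ.conj_of_solvable (H.subgroupOf K)
        (by rw [hcompl.symm.index_eq_card]; exact (CfsgLib.FrobKernel.coprime hC hk).symm)
        (Or.inl inferInstance) C (C.map τ.toMonoidHom) hcompl hcg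
      refine ⟨(u : G), hu, (u : G)⁻¹ * g, ?_, (mul_inv_cancel_left _ _).symm⟩
      refine Subgroup.mem_normalizer_iff_map_conj_eq.2 (Subgroup.eq_of_le_of_card_ge ?_
        (Subgroup.card_map_of_injective (MulAut.conj _).injective).ge)
      rintro _ ⟨_, ⟨c, hc, rfl⟩, rfl⟩
      have h1 : τ c ∈ MulAut.conj u • C := by rw [hux]; exact ⟨c, hc, rfl⟩
      obtain ⟨d, hd, hdc⟩ := h1
      refine ⟨d, hd, ?_⟩
      have hdc' : (u : G) * (d : G) * (u : G)⁻¹ = g * (c : G) * g⁻¹ := by
        have := congrArg Subtype.val hdc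
        simpa [τ, MulAut.conjNormal_apply] using this
      show (d : G) = (u : G)⁻¹ * g * (c : G) * ((u : G)⁻¹ * g)⁻¹
      calc (d : G) = (u : G)⁻¹ * ((u : G) * (d : G) * (u : G)⁻¹) * u := by group
        _ = _ := by rw [hdc']; group
    -- an element `y` of order `q` of `T` outside `K`
    obtain ⟨z, hz⟩ := exists_prime_orderOf_dvd_card' (G := G ⧸ K) q hqA
    obtain ⟨g, rfl⟩ := QuotientGroup.mk_surjective z
    obtain ⟨h, hh, t, ht, rfl⟩ := hGT g
    have hzt : orderOf (QuotientGroup.mk t : G ⧸ K) = q := by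
      rw [← hz, QuotientGroup.mk_mul, (QuotientGroup.eq_one_iff h).2 (hlt.le hh), one_mul]
    have hqt : q ∣ orderOf t := hzt ▸ orderOf_map_dvd (QuotientGroup.mk' K) t
    set y := t ^ (orderOf t / q)
    have hy : orderOf y = q := exists_orderOf_eq_prime hq hqt
    have hyT : y ∈ T := pow_mem ht _
    -- the commuting case
    by_cases hqH : q ∣ Nat.card H
    · obtain ⟨a, ha⟩ := exists_prime_orderOf_dvd_card' (G := H) p hpH
      obtain ⟨b, hb⟩ := exists_prime_orderOf_dvd_card' (G := H) q hqH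
      refine ⟨((a * b : H) : G), ?_⟩
      have hco : (orderOf a).Coprime (orderOf b) := by rw [ha, hb]; exact (Nat.coprime_primes hp hq).2 hpq
      rw [Subgroup.orderOf_coe,
        Commute.orderOf_mul_eq_mul_orderOf_of_coprime (CfsgLib.FGSA.commute_of_coprime_orderOf a b hco) hco, ha, hb]
    have hyH : y ∉ H := fun h => hqH (hy ▸ H.orderOf_dvd_natCard h)
    have hyK : π y ∉ Kb := fun h => hyH ((QuotientGroup.eq_one_iff y).1 (orderOf_eq_one_iff.1
      ((Nat.dvd_prime hq).1 (hy ▸ orderOf_map_dvd π y) |>.resolve_right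
        fun e => hqC (hcardKb ▸ e ▸ Kb.orderOf_dvd_natCard h))))
    -- a subgroup of order `r q`
    have hC1 : Nat.card C ≠ 1 := fun h => hC.1 (Subgroup.card_eq_one.1 h)
    set r := (Nat.card C).minFac
    have hr : r.Prime := Nat.minFac_prime hC1
    have := Fact.mk hr
    have hrC : r ∣ Nat.card C := Nat.minFac_dvd _
    obtain ⟨c, hc⟩ := exists_prime_orderOf_dvd_card' (G := C) r hrC
    set c₀ : G := ((c : K) : G) with hc₀
    have hc₀o : orderOf c₀ = r := by rw [hc₀, Subgroup.orderOf_coe, Subgroup.orderOf_coe, hc]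
    have hcC' : c₀ ∈ C' := ⟨c, c.2, rfl⟩
    have hrq : r ≠ q := fun e => hqC (e ▸ hrC)
    have hC'cyc : IsCyclic C' :=
      isCyclic_of_surjective (Subgroup.equivMapOfInjective C K.subtype K.subtype_injective).toMonoidHom
        (Subgroup.equivMapOfInjective C K.subtype K.subtype_injective).surjective
    have hnorm : y ∈ normalizer ((zpowers c₀ : Subgroup G) : Set G) := by
      refine Subgroup.mem_normalizer_iff_map_conj_eq.2 ?_
      have hle : (zpowers c₀).map (MulAut.conj y).toMonoidHom ≤ C' := by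
        rintro _ ⟨u, hu, rfl⟩
        exact (Subgroup.mem_normalizer_iff.1 hyT u).1 (zpowers_le.2 hcC' hu)
      have hce : ∀ X : Subgroup G, X ≤ C' → Nat.card X = r → X.subgroupOf C' = (zpowers c₀).subgroupOf C' := fun X hX hXc =>
        CfsgLib.Coprime.subgroup_eq_of_natCard_eq (by
          rw [Nat.card_congr (Subgroup.subgroupOfEquivOfLe hX).toEquiv,
            Nat.card_congr (Subgroup.subgroupOfEquivOfLe (zpowers_le.2 hcC')).toEquiv, hXc, Nat.card_zpowers, hc₀o])
      have h := hce _ hle (by rw [Subgroup.card_map_of_injective (f := (MulAut.conj y).toMonoidHom) (MulAut.conj y).injective, Nat.card_zpowers, hc₀o])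
      exact Subgroup.subgroupOf_inj.1 h |> fun e => by rwa [inf_eq_left.2 hle, inf_eq_left.2 (zpowers_le.2 hcC')] at e
    set T₀ := zpowers y ⊔ zpowers c₀ with hT₀
    have hnL : zpowers y ≤ normalizer ((zpowers c₀ : Subgroup G) : Set G) := zpowers_le.2 hnorm
    have hco₀ : (Nat.card (zpowers y)).Coprime (Nat.card (zpowers c₀)) := by
      rw [Nat.card_zpowers, Nat.card_zpowers, hy, hc₀o]; exact (Nat.coprime_primes hq hr).2 hrq.symm
    have hT₀c : Nat.card T₀ = q * r := by
      rw [← CfsgLib.TIHall.card_mul_relIndex (le_sup_right : zpowers c₀ ≤ T₀)]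
      have h1 : (zpowers c₀).relIndex T₀ = Nat.card (zpowers y) := by
        rw [hT₀, Subgroup.relIndex, ← Subgroup.relIndex]
        have hnn : ((zpowers c₀).subgroupOf T₀).Normal :=
          Subgroup.normal_subgroupOf_of_le_normalizer (sup_le hnL Subgroup.le_normalizer)
        let f : zpowers y →* T₀ ⧸ (zpowers c₀).subgroupOf T₀ :=
          (QuotientGroup.mk' _).comp (Subgroup.inclusion le_sup_left)
        have hfs : Function.Surjective f := by
          intro z
          obtain ⟨⟨w, hw⟩, rfl⟩ := QuotientGroup.mk_surjective z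
          rw [← SetLike.mem_coe, hT₀, Subgroup.coe_mul_of_left_le_normalizer_right _ _ hnL] at hw
          obtain ⟨a, ha, b, hb, rfl⟩ := hw
          exact ⟨⟨a, ha⟩, QuotientGroup.eq.2 (by rw [Subgroup.mem_subgroupOf]; simpa using hb)⟩
        have hfi : Function.Injective f := by
          refine (injective_iff_map_eq_one f).2 fun a ha => ?_
          have := Subgroup.mem_subgroupOf.1 ((QuotientGroup.eq_one_iff _).1 ha)
          exact Subtype.ext (Subgroup.mem_bot.1 ((Subgroup.disjoint_of_coprime_natCard hco₀).eq_bot.le (Subgroup.mem_inf.2 ⟨a.2, this⟩)))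
        rw [Subgroup.relIndex, Subgroup.index_eq_card]
        exact (Nat.card_congr (Equiv.ofBijective f ⟨hfi, hfs⟩)).symm
      rw [h1, Nat.card_zpowers, Nat.card_zpowers, hy, hc₀o, mul_comm]
    have hnc : ¬ IsCyclic T₀ := by
      intro hcy
      let _ : CommGroup T₀ := IsCyclic.commGroup
      have hcom : Commute y c₀ := congrArg Subtype.val
        (mul_comm (⟨y, mem_sup_left (mem_zpowers y)⟩ : T₀) ⟨c₀, mem_sup_right (mem_zpowers c₀)⟩)
      refine hyK (CfsgLib.FrobKernel.mem_of_commute hA hAk ⟨c₀, hC'K hcC', rfl⟩ (fun h => ?_) (hcom.map π))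
      have h1 : ψ c = 1 := Subtype.ext h
      rw [← map_one ψ] at h1
      rw [hψi h1, orderOf_one] at hc
      exact hr.ne_one hc.symm
    -- the `p`-part of `H`
    obtain ⟨R⟩ : Nonempty (Sylow p H) := inferInstance
    have hRn : (R : Subgroup H).Normal :=
      Sylow.normal_of_normalizerCondition (Group.normalizerCondition_of_isNilpotent (G := H)) R
    have := R.characteristic_of_normal hRn
    set V := (R : Subgroup H).map H.subtype
    have : Nontrivial V := (Subgroup.nontrivial_iff_ne_bot V).2 fun h =>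
      R.ne_bot_of_dvd_card hpH ((Subgroup.map_eq_bot_iff_of_injective _ H.subtype_injective).1 h)
    let α : T₀ →* MulAut V := (MulAut.conjNormal : G →* MulAut V).comp T₀.subtype
    have hnf : ¬ CfsgLib.Frobenius.IsFpf α := fun hf => hnc (hf.isCyclic_of_card hq hr hT₀c)
    obtain ⟨e, he1, v, hev, hv1⟩ : ∃ e : T₀, e ≠ 1 ∧ ∃ v : V, α e v = v ∧ v ≠ 1 := by
      by_contra hcon
      push Not at hcon
      exact hnf fun e he k hk => hcon e he k hk
    have hcm : Commute (e : G) (v : G) := mul_inv_eq_iff_eq_mul.1 (congrArg Subtype.val hev)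
    have heq : orderOf e = q := by
      have hd : orderOf e ∣ q * r := hT₀c ▸ orderOf_dvd_natCard e
      rcases (Nat.dvd_mul.1 hd) with ⟨a, b, ha, hb, hab⟩
      rcases (Nat.dvd_prime hq).1 ha with rfl | rfl <;> rcases (Nat.dvd_prime hr).1 hb with rfl | rfl
      · exact absurd (orderOf_eq_one_iff.1 hab.symm) he1
      · exfalso
        rw [one_mul] at hab
        have heK : (e : G) ∈ K := by
          rw [← QuotientGroup.eq_one_iff]
          refine orderOf_eq_one_iff.1 ((Nat.dvd_prime hr).1 (?_) |>.resolve_right fun h => ?_)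
          · have := orderOf_map_dvd (QuotientGroup.mk' K) (e : G)
            rwa [Subgroup.orderOf_coe, ← hab] at this
          · exact hr.ne_one (Nat.dvd_one.1 (hcA ▸ Nat.dvd_gcd hrC (h ▸ orderOf_dvd_natCard _)))
        have hvH : (v : G) ∈ H := map_subtype_le _ v.2
        have h1 := CfsgLib.FrobKernel.mem_of_commute hC hk (x := (⟨(e : G), heK⟩ : K))
          (y := (⟨(v : G), hlt.le hvH⟩ : K)) hvH (fun h => hv1 (Subtype.ext (congrArg (fun z : K => (z : G)) h)))
          (Subtype.ext hcm.eq)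
        have h2 : orderOf (e : G) ∣ Nat.card H := H.orderOf_dvd_natCard h1
        rw [Subgroup.orderOf_coe, ← hab] at h2
        exact hr.ne_one (Nat.dvd_one.1 (hcH ▸ Nat.dvd_gcd hrC h2))
      · rw [← hab, mul_one]
      · exfalso
        exact hnc (isCyclic_of_orderOf_eq_card e (by rw [← hab, hT₀c]))
    obtain ⟨j, hj⟩ := IsPGroup.iff_orderOf.1 (R.isPGroup'.map H.subtype) v
    have hpv : p ∣ orderOf (v : G) := by
      rw [Subgroup.orderOf_coe, hj]
      rcases j with _ | j
      · exact absurd (orderOf_eq_one_iff.1 (by rw [hj, pow_zero])) hv1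
      · exact dvd_pow_self p j.succ_ne_zero
    refine ⟨(v : G) ^ (orderOf (v : G) / p) * (e : G), ?_⟩
    rw [Commute.orderOf_mul_eq_mul_orderOf_of_coprime ((hcm.symm.pow_left _))
      (by rw [exists_orderOf_eq_prime hp hpv, Subgroup.orderOf_coe, heq]; exact (Nat.coprime_primes hp hq).2 hpq),
      exists_orderOf_eq_prime hp hpv, Subgroup.orderOf_coe, heq]
  by_cases hpH : p ∣ Nat.card H
  · by_cases hqH : q ∣ Nat.card H
    · obtain ⟨a, ha⟩ := exists_prime_orderOf_dvd_card' (G := H) p hpH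
      obtain ⟨b, hb⟩ := exists_prime_orderOf_dvd_card' (G := H) q hqH
      refine ⟨((a * b : H) : G), ?_⟩
      have hco : (orderOf a).Coprime (orderOf b) := by rw [ha, hb]; exact (Nat.coprime_primes hp hq).2 hpq
      rw [Subgroup.orderOf_coe,
        Commute.orderOf_mul_eq_mul_orderOf_of_coprime (CfsgLib.FGSA.commute_of_coprime_orderOf a b hco) hco, ha, hb]
    · exact hmixed p q hp hq hpq hqC hpH (((hG3 q hq hqG).resolve_left hqC).resolve_left hqH)
  · have hpA := ((hG3 p hp hpG).resolve_left hpC).resolve_left hpH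
    by_cases hqH : q ∣ Nat.card H
    · obtain ⟨g, hg⟩ := hmixed q p hq hp hpq.symm hpC hqH hpA
      exact ⟨g, by rw [hg, mul_comm]⟩
    · have hqA := ((hG3 q hq hqG).resolve_left hqC).resolve_left hqH
      let _ : CommGroup (G ⧸ K) := IsCyclic.commGroup
      obtain ⟨a, ha⟩ := exists_prime_orderOf_dvd_card' (G := G ⧸ K) p hpA
      obtain ⟨b, hb⟩ := exists_prime_orderOf_dvd_card' (G := G ⧸ K) q hqA
      obtain ⟨g, hg⟩ := QuotientGroup.mk_surjective (a * b)
      have h1 : orderOf (QuotientGroup.mk g : G ⧸ K) = p * q := by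
        rw [hg, Commute.orderOf_mul_eq_mul_orderOf_of_coprime (mul_comm a b)
          (by rw [ha, hb]; exact (Nat.coprime_primes hp hq).2 hpq), ha, hb]
      have h2 : p * q ∣ orderOf g := h1 ▸ orderOf_map_dvd (QuotientGroup.mk' K) g
      refine ⟨g ^ (orderOf g / (p * q)), ?_⟩
      rw [orderOf_pow_of_dvd (Nat.div_pos (Nat.le_of_dvd (orderOf_pos g) h2) (Nat.mul_pos hp.pos hq.pos)).ne'
        (Nat.div_dvd_of_dvd h2), Nat.div_div_self h2 (orderOf_pos g).ne']

end Cfsg.Agent.S4001
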