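import Cfsg.Statements.S4005
import Cfsg.Agent.Char.Burnside
import Cfsg.Agent.Solvable.Basics
import Mathlib.GroupTheory.Transfer

set_option autoImplicit false
open Cfsg

namespace Cfsg.Agent.S4005

/-- A finite group whose set of element orders is exactly {1, 2, 3} has either a normal elementary abelian 3-subgroup of index 2 or a normal elementary abelian 2-subgroup of index 3. -/
theorem result {G : Type*} [Group G] [Finite G] (h : Set.range (orderOf : G → ℕ) = {k : ℕ | 1 ≤ k ∧ k ≤ 3}) :
    (∃ N : Subgroup G, N.Normal ∧ Cfsg.IsElementaryAbelian 3 N ∧ N.index = 2) ∨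
      (∃ N : Subgroup G, N.Normal ∧ Cfsg.IsElementaryAbelian 2 N ∧ N.index = 3) := by
  classical
  have hord : ∀ x : G, orderOf x ≤ 3 := fun x => by
    have hx : orderOf x ∈ Set.range (orderOf : G → ℕ) := ⟨x, rfl⟩
    rw [h] at hx
    exact hx.2
  have hno : ∀ x y : G, orderOf x = 2 → orderOf y = 3 → ¬ Commute x y := by
    intro x y hx hy hc
    have h6 : orderOf (x * y) = 6 := by
      rw [hc.orderOf_mul_eq_mul_orderOf_of_coprime (by rw [hx, hy]; norm_num), hx, hy]
    have := hord (x * y)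
    omega
  haveI : Fact (Nat.Prime 2) := ⟨Nat.prime_two⟩
  haveI : Fact (Nat.Prime 3) := ⟨Nat.prime_three⟩
  have hex : ∀ k : ℕ, 1 ≤ k → k ≤ 3 → ∃ x : G, orderOf x = k := fun k h1 h2 => by
    have : k ∈ Set.range (orderOf : G → ℕ) := by rw [h]; exact ⟨h1, h2⟩
    exact this
  have hpr : ∀ p : ℕ, p.Prime → p ∣ Nat.card G → p = 2 ∨ p = 3 := by
    intro p hp hd
    haveI := Fact.mk hp
    obtain ⟨x, hx⟩ := exists_prime_orderOf_dvd_card' p hd
    have := hord x
    have := hp.two_le
    omega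
  have h2G : 2 ∣ Nat.card G := by
    obtain ⟨x, hx⟩ := hex 2 (by norm_num) (by norm_num)
    exact hx ▸ orderOf_dvd_natCard x
  have h3G : 3 ∣ Nat.card G := by
    obtain ⟨x, hx⟩ := hex 3 (by norm_num) (by norm_num)
    exact hx ▸ orderOf_dvd_natCard x
  have hpow : ∀ {p : ℕ} [Fact p.Prime] {M : Subgroup G}, IsPGroup p M → ∀ x ∈ M, x ≠ 1 →
      orderOf x = p := by
    intro p hp M hM x hx hx1
    obtain ⟨k, hk⟩ := hM ⟨x, hx⟩
    have hk' : x ^ p ^ k = 1 := congrArg Subtype.val hk
    obtain ⟨j, -, hj⟩ := (Nat.dvd_prime_pow hp.out).1 (orderOf_dvd_of_pow_eq_one hk')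
    rcases j with _ | _ | j
    · rw [pow_zero] at hj
      exact absurd (orderOf_eq_one_iff.1 hj) hx1
    · rwa [pow_one] at hj
    · have h1 := hord x
      have h2 := hp.out.two_le
      have h3 : p ^ 2 ≤ p ^ (j + 2) := Nat.pow_le_pow_right (by omega) (by omega)
      nlinarith
  have hexp : ∀ {p : ℕ} [Fact p.Prime] {M : Subgroup G}, IsPGroup p M → ∀ x ∈ M, x ^ p = 1 := by
    intro p hp M hM x hx
    rcases eq_or_ne x 1 with rfl | hx1
    · exact one_pow p
    · rw [← hpow hM x hx hx1]
      exact pow_orderOf_eq_one x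
  set a := (Nat.card G).factorization 2
  set b := (Nat.card G).factorization 3
  have hcard : Nat.card G = 2 ^ a * 3 ^ b := by
    refine Nat.eq_of_factorization_eq Nat.card_pos.ne' (by positivity) fun p => ?_
    rw [Nat.factorization_mul (by positivity) (by positivity),
      Nat.Prime.factorization_pow Nat.prime_two, Nat.Prime.factorization_pow Nat.prime_three,
      Finsupp.add_apply, Finsupp.single_apply, Finsupp.single_apply]
    by_cases hp : p.Prime ∧ p ∣ Nat.card G
    · rcases hpr p hp.1 hp.2 with rfl | rfl <;> simp [a, b]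
    · have h0 : (Nat.card G).factorization p = 0 := by
        rcases not_and_or.1 hp with h' | h'
        · exact Nat.factorization_eq_zero_of_not_prime _ h'
        · exact Nat.factorization_eq_zero_of_not_dvd h'
      rw [h0, if_neg (fun e : 2 = p => hp ⟨e ▸ Nat.prime_two, e ▸ h2G⟩),
        if_neg (fun e : 3 = p => hp ⟨e ▸ Nat.prime_three, e ▸ h3G⟩)]
      all_goals simp
  haveI hsol : Group.IsSolvable G :=
    CfsgLib.Char.isSolvable_of_card_eq 2 3 a b Nat.prime_two Nat.prime_three hcard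
  haveI : Nontrivial G := by
    obtain ⟨x, hx⟩ := hex 2 (by norm_num) (by norm_num)
    exact ⟨⟨x, 1, fun e => by rw [e, orderOf_one] at hx; omega⟩⟩
  obtain ⟨N, hNn, hN1, -, hNc, -, p, hp, hNp, hNP⟩ :=
    CfsgLib.Solvable.exists_normal_elementary_le (N := (⊤ : Subgroup G)) top_ne_bot inferInstance
  obtain ⟨v, hvN, hv1⟩ : ∃ v ∈ N, v ≠ 1 := by
    by_contra hcon
    push Not at hcon
    exact hN1 ((Subgroup.eq_bot_iff_forall _).2 hcon)
  haveI := Fact.mk hp
  have hvo : orderOf v = p := orderOf_eq_prime (hNp v hvN) hv1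
  obtain ⟨P⟩ : Nonempty (Sylow 2 G) := inferInstance
  obtain ⟨Q⟩ : Nonempty (Sylow 3 G) := inferInstance
  have hP : Nat.card (P : Subgroup G) = 2 ^ a := P.card_eq_multiplicity
  have hQ : Nat.card (Q : Subgroup G) = 3 ^ b := Q.card_eq_multiplicity
  rcases hpr p hp (hvo ▸ orderOf_dvd_natCard v) with rfl | rfl
  · -- a normal 2-subgroup
    right
    have hNcomm : ∀ x ∈ N, ∀ y ∈ N, x * y = y * x := fun x hx y hy =>
      congrArg Subtype.val (hNc.is_comm.comm (⟨x, hx⟩ : N) ⟨y, hy⟩)
    have hb : b = 1 := by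
      have hb1 : 1 ≤ b := (Nat.prime_three.dvd_iff_one_le_factorization Nat.card_pos.ne').1 h3G
      by_contra hne
      obtain ⟨z, s, hz, hs, hzs, hsz⟩ : ∃ z s : G, z ∈ Q ∧ s ∈ Q ∧ z * s = s * z ∧
          s ∉ Subgroup.zpowers z ∧ z ≠ 1 := by
        haveI : Nontrivial (Q : Subgroup G) := Finite.one_lt_card_iff_nontrivial.1
          (by rw [hQ]; exact Nat.one_lt_pow (by omega) (by norm_num))
        haveI := Q.2.center_nontrivial
        obtain ⟨z, hz⟩ := exists_ne (1 : Subgroup.center (Q : Subgroup G))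
        have hz1 : (z : Q).1 ≠ 1 := fun e => hz (Subtype.ext (Subtype.ext e))
        have hzo := hpow Q.2 _ (z : Q).2 hz1
        obtain ⟨s, hsQ, hs⟩ : ∃ s ∈ (Q : Subgroup G), s ∉ Subgroup.zpowers (z : Q).1 := by
          by_contra hcon
          push Not at hcon
          have h9 := Subgroup.card_le_of_le (show (Q : Subgroup G) ≤ Subgroup.zpowers (z : Q).1 from hcon)
          rw [hQ, Nat.card_zpowers, hzo] at h9
          have : 3 ^ 2 ≤ 3 ^ b := Nat.pow_le_pow_right (by norm_num) (by omega)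
          omega
        exact ⟨(z : Q).1, s, (z : Q).2, hsQ,
          (congrArg Subtype.val (Subgroup.mem_center_iff.1 z.2 ⟨s, hsQ⟩)).symm, hs, hz1⟩
      obtain ⟨hsz, hz1⟩ := hsz
      -- norms of elements of order three are trivial
      have hnorm : ∀ e ∈ (Q : Subgroup G), e ≠ 1 → ∀ x ∈ N,
          x * (e * x * e⁻¹) * (e ^ 2 * x * (e ^ 2)⁻¹) = 1 := by
        intro e he he1 x hx
        have hm : ∀ g : G, g * x * g⁻¹ ∈ N := hNn.conj_mem x hx
        by_contra hw
        have he3 := hexp Q.2 e he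
        refine hno _ e (hpow hNP _ (mul_mem (mul_mem hx (hm e)) (hm (e ^ 2))) hw)
          (hpow Q.2 e he he1) ?_
        have hc1 := hNcomm _ hx _ (mul_mem (hm e) (hm (e ^ 2)))
        have h3 : e * (x * (e * x * e⁻¹) * (e ^ 2 * x * (e ^ 2)⁻¹)) * e⁻¹ =
            (e * x * e⁻¹) * (e ^ 2 * x * (e ^ 2)⁻¹) * x := by
          calc e * (x * (e * x * e⁻¹) * (e ^ 2 * x * (e ^ 2)⁻¹)) * e⁻¹
              = (e * x * e⁻¹) * (e ^ 2 * x * (e ^ 2)⁻¹) * (e ^ 3 * x * (e ^ 3)⁻¹) := by group
            _ = _ := by rw [he3, one_mul, inv_one, mul_one]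
        rw [← hc1, mul_inv_eq_iff_eq_mul] at h3
        show _ * e = e * _
        simp only [mul_assoc] at h3 ⊢
        exact h3.symm
      have hne : ∀ j : ℕ, z ^ j * s ≠ 1 := fun j e => hsz (by
        rw [eq_inv_of_mul_eq_one_right e]
        exact inv_mem (pow_mem (Subgroup.mem_zpowers z) j))
      have hs1 : s ≠ 1 := by simpa using hne 0
      let c : G → N := fun g => ⟨g * v * g⁻¹, hNn.conj_mem v hvN g⟩
      have hrel : ∀ e ∈ (Q : Subgroup G), e ≠ 1 → c 1 * c e * c (e ^ 2) = 1 := fun e he he1 =>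
        Subtype.ext (by simpa [c] using hnorm e he he1 v hvN)
      have hz3 := hexp Q.2 z hz
      have hcz : Commute z s := hzs
      have e1 := hrel z hz hz1
      have e2 := hrel s hs hs1
      have e3 := hrel (z * s) (mul_mem hz hs) (by simpa using hne 1)
      have e4 := hrel (z ^ 2 * s) (mul_mem (pow_mem hz 2) hs) (hne 2)
      rw [hcz.mul_pow] at e3
      rw [(hcz.pow_left 2).mul_pow, ← pow_mul, show z ^ (2 * 2) = z by
        rw [show 2 * 2 = 3 + 1 from rfl, pow_succ, hz3, one_mul]] at e4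
      have f1 : c s * c (z * s) * c (z ^ 2 * s) = 1 := Subtype.ext (by
        have := congrArg (fun t => s * t * s⁻¹) (hnorm z hz hz1 v hvN)
        rw [mul_one, mul_inv_cancel] at this
        rw [Subgroup.coe_one, ← this]
        simp only [c, Subgroup.coe_mul, hcz.eq, (hcz.pow_left 2).eq]
        group)
      have f2 : c (s ^ 2) * c (z * s ^ 2) * c (z ^ 2 * s ^ 2) = 1 := Subtype.ext (by
        have := congrArg (fun t => s ^ 2 * t * (s ^ 2)⁻¹) (hnorm z hz hz1 v hvN)
        rw [mul_one, mul_inv_cancel] at this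
        rw [Subgroup.coe_one, ← this]
        simp only [c, Subgroup.coe_mul, (hcz.pow_right 2).eq, ((hcz.pow_left 2).pow_right 2).eq]
        group)
      open scoped IsMulCommutative in
      have hall : (c 1 * c z * c (z ^ 2)) * (c 1 * c s * c (s ^ 2)) *
          (c 1 * c (z * s) * c (z ^ 2 * s ^ 2)) * (c 1 * c (z ^ 2 * s) * c (z * s ^ 2)) =
          c 1 * c 1 * c 1 * (c 1 * c z * c (z ^ 2)) * (c s * c (z * s) * c (z ^ 2 * s)) *
            (c (s ^ 2) * c (z * s ^ 2) * c (z ^ 2 * s ^ 2)) := by ac_rfl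
      rw [e1, e2, e3, e4, f1, f2] at hall
      have hv3 : v * v * v = 1 := by simpa [c] using (congrArg Subtype.val hall).symm
      have hv2 : v * v = 1 := by rw [← pow_two]; exact hNp v hvN
      rw [hv2, one_mul] at hv3
      exact hv1 hv3
    have hidx : (P : Subgroup G).index = 3 := by
      have h1 := (P : Subgroup G).card_mul_index
      rw [hP, hcard, hb, pow_one] at h1
      exact Nat.eq_of_mul_eq_mul_left (by positivity) h1
    have hPexp : ∀ x ∈ (P : Subgroup G), x ^ 2 = 1 := hexp P.2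
    have hPcomm : ∀ x ∈ (P : Subgroup G), ∀ y ∈ (P : Subgroup G), x * y = y * x := by
      intro x hx y hy
      have hinv : ∀ w ∈ (P : Subgroup G), w⁻¹ = w := fun w hw =>
        inv_eq_of_mul_eq_one_right (by rw [← pow_two]; exact hPexp w hw)
      have := hinv _ (mul_mem hx hy)
      rwa [mul_inv_rev, hinv x hx, hinv y hy, eq_comm] at this
    by_cases hPn : (P : Subgroup G).Normal
    · exact ⟨P, hPn, ⟨⟨⟨fun x y => Subtype.ext (hPcomm x x.2 y y.2)⟩⟩, hPexp⟩, hidx⟩
    exfalso
    have hNP' : N ≤ P :=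
      le_sup_left.trans (le_of_eq (P.3 (hNP.to_sup_of_normal_left P.2) le_sup_right))
    have hPC : (P : Subgroup G) ≤ Subgroup.centralizer (N : Set G) := fun x hx =>
      Subgroup.mem_centralizer_iff.2 fun y hy => hPcomm y (hNP' hy) x hx
    have hCn : (Subgroup.centralizer (N : Set G)).Normal := Subgroup.normal_centralizer
    rcases Nat.prime_three.eq_one_or_self_of_dvd _
        (hidx ▸ Subgroup.index_dvd_of_le hPC) with h1 | h3
    · obtain ⟨y, hy⟩ := hex 3 (by norm_num) le_rfl
      exact hno v y hvo hy (Subgroup.mem_centralizer_iff.1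
        (Subgroup.index_eq_one.1 h1 ▸ Subgroup.mem_top y) v hvN)
    · have heq : (P : Subgroup G) = Subgroup.centralizer (N : Set G) := by
        refine Subgroup.eq_of_le_of_card_ge hPC (le_of_eq ?_)
        have h1 := (P : Subgroup G).card_mul_index
        have h2 := (Subgroup.centralizer (N : Set G)).card_mul_index
        rw [hidx] at h1
        rw [h3, ← h1] at h2
        exact Nat.eq_of_mul_eq_mul_right (by norm_num) h2
      exact hPn (heq ▸ hCn)
  · -- a normal 3-subgroup
    left
    have hinvert : ∀ (M : Subgroup G), M.Normal → IsPGroup 3 M → ∀ t : G, orderOf t = 2 →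
        ∀ y ∈ M, t * y * t⁻¹ = y⁻¹ := by
      intro M hM hMP t ht y hy
      let f : M → M := fun x => ⟨(x : G)⁻¹ * (t * x * t⁻¹),
        mul_mem (inv_mem x.2) (hM.conj_mem _ x.2 t)⟩
      have hf : Function.Injective f := by
        intro x x' e
        have e' : (x : G)⁻¹ * (t * x * t⁻¹) = (x' : G)⁻¹ * (t * x' * t⁻¹) := congrArg Subtype.val e
        by_contra hne
        have hd : (x' : G) * (x : G)⁻¹ ≠ 1 := fun h1 => hne (Subtype.ext (mul_inv_eq_one.1 h1).symm)
        refine hno t _ ht (hpow hMP _ (mul_mem x'.2 (inv_mem x.2)) hd) ?_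
        show t * ((x' : G) * (x : G)⁻¹) = (x' : G) * (x : G)⁻¹ * t
        have e2 : (x' : G) * (x : G)⁻¹ = (t * x' * t⁻¹) * (t * x * t⁻¹)⁻¹ := by
          rw [eq_mul_inv_iff_mul_eq, mul_assoc, e', ← mul_assoc, mul_inv_cancel, one_mul]
        rw [← mul_inv_eq_iff_eq_mul]
        refine Eq.trans ?_ e2.symm
        group
      obtain ⟨x, hx⟩ := (Finite.injective_iff_surjective.1 hf) ⟨y, hy⟩
      have hxy : (x : G)⁻¹ * (t * x * t⁻¹) = y := congrArg Subtype.val hx
      have ht2 : t⁻¹ = t := inv_eq_of_mul_eq_one_right (by rw [← pow_two, ← ht, pow_orderOf_eq_one])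
      rw [← hxy, mul_inv_rev, mul_inv_rev, mul_inv_rev, inv_inv, inv_inv]
      simp only [ht2, ← mul_assoc]
      rw [mul_assoc _ t t, show t * t = 1 by rw [← pow_two, ← ht, pow_orderOf_eq_one], mul_one]
    have huniq : ∀ s t : (P : Subgroup G), s ≠ 1 → t ≠ 1 → s = t := by
      intro s t hs ht
      by_contra hne
      have hs' : (s : G) ≠ 1 := fun e => hs (Subtype.ext e)
      have ht' : (t : G) ≠ 1 := fun e => ht (Subtype.ext e)
      have hst : ((s * t : (P : Subgroup G)) : G) ≠ 1 := fun e => hne (by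
        have e1 : s * t = 1 := Subtype.ext e
        have e2 : t * t = 1 := Subtype.ext (by
          simpa [pow_two] using hexp P.2 _ t.2)
        exact mul_right_cancel (e1.trans e2.symm))
      have i1 := hinvert N hNn hNP _ (hpow P.2 _ s.2 hs') v hvN
      have i2 := hinvert N hNn hNP _ (hpow P.2 _ t.2 ht') v hvN
      refine hno _ v (hpow P.2 _ (s * t).2 hst) hvo ?_
      show ((s * t : (P : Subgroup G)) : G) * v = v * ((s * t : (P : Subgroup G)) : G)
      rw [← mul_inv_eq_iff_eq_mul, Subgroup.coe_mul, mul_inv_rev]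
      calc (s : G) * t * v * ((t : G)⁻¹ * (s : G)⁻¹) = (s : G) * ((t : G) * v * (t : G)⁻¹) * (s : G)⁻¹ := by group
        _ = v := by rw [i2, ← conj_inv, i1, inv_inv]
    have hP2 : Nat.card (P : Subgroup G) = 2 := by
      obtain ⟨x, hx⟩ := hex 2 (by norm_num) (by norm_num)
      have h2le : 2 ≤ Nat.card (P : Subgroup G) :=
        Nat.le_of_dvd Nat.card_pos (P.dvd_card_of_dvd_card h2G)
      refine le_antisymm ?_ h2le
      let f : ↥(P : Subgroup G) → Bool := fun s => decide (s = 1)
      have hf : Function.Injective f := by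
        intro s t e
        simp only [f, decide_eq_decide] at e
        by_cases hs : s = 1
        · rw [hs, e.1 hs]
        · exact huniq s t hs fun ht => hs (e.2 ht)
      simpa using Nat.card_le_card_of_injective f hf
    have hN' : Subgroup.normalizer ((P : Subgroup G) : Set G) ≤
        Subgroup.centralizer ((P : Subgroup G) : Set G) := by
      intro g hg
      refine Subgroup.mem_centralizer_iff.2 fun y hy => ?_
      rcases eq_or_ne y 1 with rfl | hy1
      · simp
      have hgy : g * y * g⁻¹ ∈ (P : Subgroup G) := (Subgroup.mem_normalizer_iff.1 hg y).1 hy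
      have hgy1 : g * y * g⁻¹ ≠ 1 := fun e => hy1 (conj_eq_one_iff.1 e)
      have := congrArg Subtype.val (huniq ⟨_, hgy⟩ ⟨y, hy⟩
        (fun e => hgy1 (congrArg Subtype.val e)) (fun e => hy1 (congrArg Subtype.val e)))
      exact (mul_inv_eq_iff_eq_mul.1 this).symm
    have hcompl := MonoidHom.ker_transferSylow_isComplement' P hN'
    set K := (MonoidHom.transferSylow P hN').ker
    have hKn : K.Normal := MonoidHom.normal_ker _
    have hKcard : Nat.card K = 3 ^ b := by
      have h1 := hcompl.card_mul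
      rw [hP2, hcard, ← hP, hP2] at h1
      linarith
    have hK3 : IsPGroup 3 K := IsPGroup.of_card hKcard
    obtain ⟨t, ht⟩ := hex 2 (by norm_num) (by norm_num)
    refine ⟨K, hKn, ⟨⟨⟨fun x y => Subtype.ext ?_⟩⟩, hexp hK3⟩, ?_⟩
    · have hxy := hinvert K hKn hK3 t ht _ (mul_mem x.2 y.2)
      have hx := hinvert K hKn hK3 t ht _ x.2
      have hy := hinvert K hKn hK3 t ht _ y.2
      rw [← conj_mul, hx, hy, ← mul_inv_rev, inv_inj] at hxy
      exact hxy.symm
    · rw [hcompl.symm.index_eq_card, hP2]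

end Cfsg.Agent.S4005
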