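import Cfsg.Statements.S4006
import Cfsg.Agent.Char.Burnside
import Cfsg.Agent.Solvable.Basics
import Cfsg.Agent.FGSA.Higman
import Cfsg.Agent.FGSB.SemiregularPair
import Cfsg.Agent.FGSB.SymThreeExponent
import Cfsg.Agent.InvChar.UniqueInvolution

set_option autoImplicit false
open Cfsg
open scoped commutatorElement

namespace Cfsg.Agent.S4006

/-- A finite group whose set of element orders is exactly {1, 2, 3, 4} has a normal subgroup N such that either N is a 2-group of exponent 4 and nilpotency class at most 2 with G/N of order 3, or N is an elementary abelian 2-group with G/N isomorphic to the symmetric group of degree 3, or N is an elementary abelian 3-group with G/N cyclic of order 4 or quaternion of order 8. -/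
theorem result {G : Type*} [Group G] [Finite G] (h : Set.range (orderOf : G → ℕ) = {k : ℕ | 1 ≤ k ∧ k ≤ 4}) :
    ∃ (N : Subgroup G) (_ : N.Normal),
      (IsPGroup 2 ↥N ∧ Monoid.exponent ↥N = 4 ∧ Group.nilpotencyClass ↥N ≤ 2 ∧ N.index = 3) ∨
      (Cfsg.IsElementaryAbelian 2 N ∧ Nonempty (G ⧸ N ≃* Equiv.Perm (Fin 3))) ∨
      (Cfsg.IsElementaryAbelian 3 N ∧ ((IsCyclic (G ⧸ N) ∧ N.index = 4) ∨ Nonempty (G ⧸ N ≃* QuaternionGroup 2))) := by
  classical
  have hord : ∀ x : G, orderOf x ≤ 4 := fun x => by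
    have hx : orderOf x ∈ Set.range (orderOf : G → ℕ) := ⟨x, rfl⟩
    rw [h] at hx
    exact hx.2
  haveI : Fact (Nat.Prime 2) := ⟨Nat.prime_two⟩
  haveI : Fact (Nat.Prime 3) := ⟨Nat.prime_three⟩
  have hex : ∀ k : ℕ, 1 ≤ k → k ≤ 4 → ∃ x : G, orderOf x = k := fun k h1 h2 => by
    have : k ∈ Set.range (orderOf : G → ℕ) := by rw [h]; exact ⟨h1, h2⟩
    exact this
  -- nonidentity two-elements and three-elements do not commute
  have hno : ∀ (x y : G) (i : ℕ), orderOf x = 2 ^ i → x ≠ 1 → orderOf y = 3 → ¬ Commute x y := by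
    intro x y i hx hx1 hy hc
    have h6 : orderOf (x * y) = 2 ^ i * 3 := by
      rw [hc.orderOf_mul_eq_mul_orderOf_of_coprime (by rw [hx, hy]; exact Nat.Coprime.pow_left _ (by norm_num)),
        hx, hy]
    have := hord (x * y)
    have hi : i ≠ 0 := fun e => hx1 (orderOf_eq_one_iff.1 (by rw [hx, e, pow_zero]))
    have : 2 ^ 1 ≤ 2 ^ i := Nat.pow_le_pow_right (by norm_num) (by omega)
    omega
  have hno2 : ∀ x y : G, orderOf x = 2 → orderOf y = 3 → ¬ Commute x y := fun x y hx hy =>
    hno x y 1 (by rw [hx, pow_one]) (fun e => by rw [e, orderOf_one] at hx; omega) hy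
  have hpr : ∀ p : ℕ, p.Prime → p ∣ Nat.card G → p = 2 ∨ p = 3 := by
    intro p hp hd
    haveI := Fact.mk hp
    obtain ⟨x, hx⟩ := exists_prime_orderOf_dvd_card' p hd
    have h1 := hord x
    rw [hx] at h1
    interval_cases p <;> first | omega | exact absurd hp (by decide)
  have h2G : 2 ∣ Nat.card G := by
    obtain ⟨x, hx⟩ := hex 2 (by norm_num) (by norm_num)
    exact hx ▸ orderOf_dvd_natCard x
  have h3G : 3 ∣ Nat.card G := by
    obtain ⟨x, hx⟩ := hex 3 (by norm_num) (by norm_num)
    exact hx ▸ orderOf_dvd_natCard x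
  have hpp : ∀ {p : ℕ} [Fact p.Prime] {M : Subgroup G}, IsPGroup p M → ∀ x ∈ M,
      ∃ j, orderOf x = p ^ j := by
    intro p hp M hM x hx
    obtain ⟨k, hk⟩ := hM ⟨x, hx⟩
    have hk' : x ^ p ^ k = 1 := congrArg Subtype.val hk
    obtain ⟨j, -, hj⟩ := (Nat.dvd_prime_pow hp.out).1 (orderOf_dvd_of_pow_eq_one hk')
    exact ⟨j, hj⟩
  have h3ord : ∀ {M : Subgroup G}, IsPGroup 3 M → ∀ x ∈ M, x ≠ 1 → orderOf x = 3 := by
    intro M hM x hx hx1
    obtain ⟨j, hj⟩ := hpp hM x hx
    rcases j with _ | _ | j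
    · exact absurd (orderOf_eq_one_iff.1 (by simpa using hj)) hx1
    · simpa using hj
    · have h1 := hord x
      rw [hj, show j + 1 + 1 = j + 2 from rfl] at h1
      have h3 : 3 ^ 2 ≤ 3 ^ (j + 2) := Nat.pow_le_pow_right (by omega) (by omega)
      omega
  have h3exp : ∀ {M : Subgroup G}, IsPGroup 3 M → ∀ x ∈ M, x ^ 3 = 1 := by
    intro M hM x hx
    rcases eq_or_ne x 1 with rfl | hx1
    · exact one_pow 3
    · rw [← h3ord hM x hx hx1]
      exact pow_orderOf_eq_one x
  have h2exp : ∀ {M : Subgroup G}, IsPGroup 2 M → ∀ x ∈ M, x ^ 4 = 1 := by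
    intro M hM x hx
    obtain ⟨j, hj⟩ := hpp hM x hx
    refine orderOf_dvd_iff_pow_eq_one.1 ?_
    rw [hj, show (4 : ℕ) = 2 ^ 2 from rfl]
    refine Nat.pow_dvd_pow 2 ?_
    by_contra hcon
    have h1 := hord x
    have h3 : 2 ^ 3 ≤ 2 ^ j := Nat.pow_le_pow_right (by omega) (by omega)
    omega
  set a := (Nat.card G).factorization 2
  set b := (Nat.card G).factorization 3
  have hcard : Nat.card G = 2 ^ a * 3 ^ b := by
    refine Nat.eq_of_factorization_eq Nat.card_pos.ne' (by positivity) fun p => ?_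
    rw [Nat.factorization_mul (by positivity) (by positivity),
      Nat.Prime.factorization_pow Nat.prime_two, Nat.Prime.factorization_pow Nat.prime_three,
      Finsupp.add_apply, Finsupp.single_apply, Finsupp.single_apply]
    by_cases hp : p.Prime ∧ p ∣ Nat.card G
    · rcases hpr p hp.1 hp.2 with rfl | rfl <;> simp [a, b]
    · have h0 : (Nat.card G).factorization p = 0 := by
        rcases not_and_or.1 hp with h' | h'
        · exact Nat.factorization_eq_zero_of_not_prime _ h'
        · exact Nat.factorization_eq_zero_of_not_dvd h'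
      rw [h0, if_neg (fun e : 2 = p => hp ⟨e ▸ Nat.prime_two, e ▸ h2G⟩),
        if_neg (fun e : 3 = p => hp ⟨e ▸ Nat.prime_three, e ▸ h3G⟩)]
      all_goals simp
  haveI hsol : Group.IsSolvable G :=
    CfsgLib.Char.isSolvable_of_card_eq 2 3 a b Nat.prime_two Nat.prime_three hcard
  haveI : Nontrivial G := by
    obtain ⟨x, hx⟩ := hex 2 (by norm_num) (by norm_num)
    exact ⟨⟨x, 1, fun e => by rw [e, orderOf_one] at hx; omega⟩⟩
  obtain ⟨N₀, hN₀n, hN₀1, -, hN₀c, -, p, hp, hN₀p, hN₀P⟩ :=
    CfsgLib.Solvable.exists_normal_elementary_le (N := (⊤ : Subgroup G)) top_ne_bot inferInstance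
  obtain ⟨v, hvN, hv1⟩ : ∃ v ∈ N₀, v ≠ 1 := by
    by_contra hcon
    push Not at hcon
    exact hN₀1 ((Subgroup.eq_bot_iff_forall _).2 hcon)
  haveI := Fact.mk hp
  have hvo : orderOf v = p := orderOf_eq_prime (hN₀p v hvN) hv1
  obtain ⟨P⟩ : Nonempty (Sylow 2 G) := inferInstance
  obtain ⟨R⟩ : Nonempty (Sylow 3 G) := inferInstance
  have hP : Nat.card (P : Subgroup G) = 2 ^ a := P.card_eq_multiplicity
  have hR : Nat.card (R : Subgroup G) = 3 ^ b := R.card_eq_multiplicity
  rcases hpr p hp (hvo ▸ orderOf_dvd_natCard v) with rfl | rfl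
  · -- a normal 2-subgroup
    have hb : b = 1 := by
      have hb1 : 1 ≤ b := (Nat.prime_three.dvd_iff_one_le_factorization Nat.card_pos.ne').1 h3G
      by_contra hne
      haveI : Nontrivial (R : Subgroup G) := Finite.one_lt_card_iff_nontrivial.1
        (by rw [hR]; exact Nat.one_lt_pow (by omega) (by norm_num))
      haveI := R.2.center_nontrivial
      obtain ⟨z, hz⟩ := exists_ne (1 : Subgroup.center (R : Subgroup G))
      have hz1 : z.1 ≠ 1 := fun e => hz (Subtype.ext e)
      have hz3 : z.1 ^ 3 = 1 := Subtype.ext (h3exp R.2 _ z.1.2)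
      obtain ⟨s, hs⟩ : ∃ s : (R : Subgroup G), s ∉ Subgroup.zpowers z.1 := by
        by_contra hcon
        push Not at hcon
        have h9 : Nat.card (R : Subgroup G) ≤ Nat.card (Subgroup.zpowers z.1) := by
          rw [show Subgroup.zpowers z.1 = ⊤ from eq_top_iff.2 fun s _ => hcon s, Subgroup.card_top]
        rw [hR, Nat.card_zpowers, orderOf_eq_prime hz3 hz1] at h9
        have : 3 ^ 2 ≤ 3 ^ b := Nat.pow_le_pow_right (by norm_num) (by omega)
        omega
      letI : CommGroup N₀ := { (inferInstance : Group N₀) with mul_comm := fun u w => hN₀c.is_comm.comm u w }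
      refine CfsgLib.SemiregularPair.no_two_generators (W := N₀) (Z := ⊥)
        (ρ := (MulAut.conjNormal (H := N₀)).comp (R : Subgroup G).subtype) ⟨fun γ w hw => ?_, ?_⟩ hN₀P ?_
        Nat.prime_three (by norm_num) (show Commute z.1 s from (Subgroup.mem_center_iff.1 z.2 s).symm)
        hz3 hz1 (Subtype.ext (h3exp R.2 _ s.2)) hs
      · rw [Subgroup.mem_bot] at hw
        rw [hw, map_one]
      · intro γ hγ w hw
        rw [Subgroup.mem_bot]
        by_contra hw1
        have hw' : (γ : G) * (w : G) * (γ : G)⁻¹ = (w : G) := congrArg Subtype.val hw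
        exact hno2 _ _ (orderOf_eq_prime (hN₀p _ w.2) (fun e => hw1 (Subtype.ext e)))
          (h3ord R.2 _ γ.2 fun e => hγ (Subtype.ext e)) (mul_inv_eq_iff_eq_mul.1 hw').symm
      · intro e
        have : (⟨v, hvN⟩ : N₀) ∈ (⊥ : Subgroup N₀) := e ▸ Subgroup.mem_top _
        exact hv1 (congrArg Subtype.val (Subgroup.mem_bot.1 this))
    have hidx : (P : Subgroup G).index = 3 := by
      have h1 := (P : Subgroup G).card_mul_index
      rw [hP, hcard, hb, pow_one] at h1
      exact Nat.eq_of_mul_eq_mul_left (by positivity) h1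
    obtain ⟨x, hx⟩ := hex 3 (by norm_num) (by norm_num)
    have hx3 : x ^ 3 = 1 := by rw [← hx]; exact pow_orderOf_eq_one x
    -- fixed points
    have hfix : ∀ {M : Subgroup G}, IsPGroup 2 M → ∀ m ∈ M, x * m * x⁻¹ = m → m = 1 := by
      intro M hM m hm e
      by_contra hm1
      obtain ⟨j, hj⟩ := hpp hM m hm
      exact hno m x j hj hm1 hx (mul_inv_eq_iff_eq_mul.1 e).symm
    have hclass : ∀ (M : Subgroup G) [M.Normal], IsPGroup 2 M →
        (⊤ : Subgroup M).lowerCentralSeries 2 = ⊥ := by
      intro M _ hM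
      refine (CfsgLib.Higman.class_le (p := 3) (α := MulAut.conjNormal x)
        (by rw [← map_pow, hx3, map_one]) (fun g hg => Subtype.ext (hfix hM _ g.2 ?_)) hM.isNilpotent).1 rfl
      exact congrArg Subtype.val hg
    by_cases hPn : (P : Subgroup G).Normal
    · refine ⟨P, hPn, Or.inl ⟨P.2, Nat.dvd_antisymm ?_ ?_, ?_, hidx⟩⟩
      · exact Monoid.exponent_dvd_of_forall_pow_eq_one fun y => Subtype.ext (h2exp P.2 _ y.2)
      · obtain ⟨y, hy⟩ := hex 4 (by norm_num) (by norm_num)
        have hyP : y ∈ (P : Subgroup G) := by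
          have hY : IsPGroup 2 (Subgroup.zpowers y) := IsPGroup.of_card (n := 2) (by rw [Nat.card_zpowers, hy]; rfl)
          obtain ⟨Q, hQ⟩ := hY.exists_le_sylow
          haveI := Sylow.unique_of_normal P hPn
          rw [Subsingleton.elim P Q]
          exact hQ (Subgroup.mem_zpowers y)
        have := Monoid.order_dvd_exponent (⟨y, hyP⟩ : (P : Subgroup G))
        rwa [← Subgroup.orderOf_coe, hy] at this
      · haveI := hPn
        haveI := P.2.isNilpotent
        exact lowerCentralSeries_eq_bot_iff_nilpotencyClass_le.1 (hclass _ P.2)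
    -- the normal core
    set K := (P : Subgroup G).normalCore
    have hKP : K ≤ P := Subgroup.normalCore_le _
    have hK2 : IsPGroup 2 K := P.2.to_le hKP
    set φ := MulAction.toPermHom G (G ⧸ (P : Subgroup G))
    have hKker : K = φ.ker := Subgroup.normalCore_eq_ker _
    have hperm : Nat.card (Equiv.Perm (G ⧸ (P : Subgroup G))) = 6 := by
      rw [Nat.card_perm, ← Subgroup.index_eq_card, hidx]; rfl
    have hKidx : K.index = 6 := by
      have h1 : K.index ∣ 6 := by
        rw [← hperm, hKker, Subgroup.index_ker]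
        exact Subgroup.card_subgroup_dvd_card _
      have h2 : 3 ∣ K.index := hidx ▸ Subgroup.index_dvd_of_le hKP
      have h3 : K.index ≠ 3 := fun e => by
        refine hPn ?_
        rw [← Subgroup.eq_of_le_of_card_ge hKP (le_of_eq ?_)]
        · exact Subgroup.normalCore_normal _
        · have e1 := (P : Subgroup G).card_mul_index
          have e2 := K.card_mul_index
          rw [hidx] at e1
          rw [e, ← e1] at e2
          exact Nat.eq_of_mul_eq_mul_right (by norm_num) e2.symm
      have := Nat.le_of_dvd (by norm_num) h1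
      have := Nat.pos_of_ne_zero (K.index_ne_zero_of_finite)
      omega
    -- an involution inverting a 3-element
    obtain ⟨R', hxR⟩ : ∃ R' : Sylow 3 G, x ∈ (R' : Subgroup G) := by
      obtain ⟨R', hR'⟩ := (IsPGroup.of_card (p := 3) (n := 1) (by rw [Nat.card_zpowers, hx, pow_one]) :
        IsPGroup 3 (Subgroup.zpowers x)).exists_le_sylow
      exact ⟨R', hR' (Subgroup.mem_zpowers x)⟩
    have hR' : (R' : Subgroup G) = Subgroup.zpowers x := by
      refine (Subgroup.eq_of_le_of_card_ge (Subgroup.zpowers_le.2 hxR) (le_of_eq ?_)).symm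
      rw [show Nat.card (R' : Subgroup G) = 3 ^ b from R'.card_eq_multiplicity, hb, pow_one,
        Nat.card_zpowers, hx]
    obtain ⟨g, hgR, hgC⟩ : ∃ g ∈ Subgroup.normalizer ((R' : Subgroup G) : Set G),
        g ∉ Subgroup.centralizer ((R' : Subgroup G) : Set G) := by
      by_contra hcon
      push Not at hcon
      have hcompl := MonoidHom.ker_transferSylow_isComplement' R' hcon
      set M := (MonoidHom.transferSylow R' hcon).ker
      have hMn : M.Normal := MonoidHom.normal_ker _
      have hMcard : Nat.card M = 2 ^ a := by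
        have h1 := hcompl.card_mul_card
        rw [show Nat.card (R' : Subgroup G) = 3 ^ b from R'.card_eq_multiplicity, hcard] at h1
        exact Nat.eq_of_mul_eq_mul_right (by positivity) h1
      have hMP : M ≤ P := le_sup_left.trans
        (le_of_eq (P.3 ((IsPGroup.of_card hMcard).to_sup_of_normal_left P.2) le_sup_right))
      exact hPn (Subgroup.eq_of_le_of_card_ge hMP (le_of_eq (hP.trans hMcard.symm)) ▸ hMn)
    have hgx : g * x * g⁻¹ = x⁻¹ := by
      have hmem : g * x * g⁻¹ ∈ Subgroup.zpowers x :=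
        hR' ▸ (Subgroup.mem_normalizer_iff.1 hgR x).1 hxR
      have hne : g * x * g⁻¹ ≠ x := fun e => hgC (Subgroup.mem_centralizer_iff.2 fun r hr => by
        obtain ⟨i, rfl⟩ := Subgroup.mem_zpowers_iff.1 (hR' ▸ hr : r ∈ Subgroup.zpowers x)
        exact ((show Commute g x from mul_inv_eq_iff_eq_mul.1 e).zpow_right i).eq.symm)
      obtain ⟨i, hi⟩ := mem_powers_iff_mem_zpowers.2 hmem
      have hi : x ^ i = g * x * g⁻¹ := hi
      rw [← pow_mod_orderOf, hx] at hi
      have hi3 : i % 3 < 3 := Nat.mod_lt _ (by norm_num)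
      rcases (show i % 3 = 0 ∨ i % 3 = 1 ∨ i % 3 = 2 by omega) with e | e | e <;> rw [e] at hi
      · exfalso
        rw [pow_zero] at hi
        have := conj_eq_one_iff.1 hi.symm
        rw [this, orderOf_one] at hx
        omega
      · exact absurd (by rw [← hi, pow_one]) hne
      · rw [← hi]
        exact eq_inv_of_mul_eq_one_left (by rw [← pow_succ]; exact hx3)
    have hg2 : g ^ 2 * x * (g ^ 2)⁻¹ = x := by
      rw [pow_two, mul_inv_rev]
      calc g * g * x * (g⁻¹ * g⁻¹) = g * (g * x * g⁻¹) * g⁻¹ := by group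
        _ = x := by rw [hgx, ← conj_inv, hgx, inv_inv]
    have hu : orderOf g = 2 := by
      have h1 := hord g
      have h0 := orderOf_pos g
      have hne1 : g ≠ 1 := fun e => hgC (e ▸ one_mem _)
      interval_cases hk : orderOf g
      · exact absurd (orderOf_eq_one_iff.1 hk) hne1
      · rfl
      · exfalso
        have h3 : g ^ 3 = 1 := by rw [← hk]; exact pow_orderOf_eq_one g
        have e : g ^ 3 * x * (g ^ 3)⁻¹ = x⁻¹ := by
          rw [pow_succ' g 2, mul_inv_rev]
          calc g * g ^ 2 * x * ((g ^ 2)⁻¹ * g⁻¹) = g * (g ^ 2 * x * (g ^ 2)⁻¹) * g⁻¹ := by group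
            _ = x⁻¹ := by rw [hg2, hgx]
        rw [h3, one_mul, inv_one, mul_one] at e
        have : x ^ 2 = 1 := by rw [pow_two]; nth_rewrite 1 [e]; exact inv_mul_cancel x
        have := orderOf_dvd_of_pow_eq_one this
        rw [hx] at this
        norm_num at this
      · exfalso
        refine hno2 (g ^ 2) x ?_ hx (mul_inv_eq_iff_eq_mul.1 hg2)
        rw [orderOf_pow' g (by norm_num), hk]; rfl
    -- outside the core
    set π := QuotientGroup.mk' K
    have hπx : π x ≠ 1 := fun e => by
      have hxK : x ∈ K := (QuotientGroup.eq_one_iff x).1 e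
      obtain ⟨j, hj⟩ := hpp hK2 x hxK
      have : 3 ∣ 2 ^ j := ⟨1, by rw [← hj, hx]⟩
      exact absurd ((Nat.prime_dvd_prime_iff_eq Nat.prime_three Nat.prime_two).1
        (Nat.prime_three.dvd_of_dvd_pow this)) (by norm_num)
    have hπx3 : π x ^ 3 = 1 := by rw [← map_pow, hx3, map_one]
    have hπg : π g ≠ 1 := fun e => by
      have e1 := congrArg π hgx
      rw [map_mul, map_mul, map_inv, map_inv, e, one_mul, inv_one, mul_one, eq_inv_iff_mul_eq_one,
        ← pow_two] at e1
      refine hπx ?_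
      rw [show π x = π x ^ 3 * (π x ^ 2)⁻¹ by group, e1, hπx3, inv_one, mul_one]
    have hgg : g * g = 1 := by
      rw [← pow_two]
      exact orderOf_dvd_iff_pow_eq_one.1 (dvd_of_eq hu)
    have hπg2 : π g * π g = 1 := by
      rw [← map_mul, hgg, map_one]
    have hπgx : π (g * x) ≠ 1 ∧ π (g * x) * π (g * x) = 1 := by
      constructor
      · intro e
        rw [map_mul, mul_eq_one_iff_eq_inv] at e
        rw [e] at hπg2
        have h' : π x ^ 2 = 1 := by rw [pow_two, ← inv_inj, mul_inv_rev, inv_one]; exact hπg2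
        refine hπx ?_
        rw [show π x = π x ^ 3 * (π x ^ 2)⁻¹ by group, h', hπx3, inv_one, mul_one]
      · rw [← map_mul, show g * x * (g * x) = (g * x * g⁻¹) * (g * g) * x by group, hgx, hgg, mul_one,
          inv_mul_cancel, map_one]
    have hfour : ∀ w : G, π w ≠ 1 → π w * π w = 1 → w ^ 4 = 1 := by
      intro w hw hw2
      have h1 := hord w
      have h0 := orderOf_pos w
      interval_cases hk : orderOf w
      · rw [orderOf_eq_one_iff.1 hk, one_pow]
      · rw [show 4 = 2 * 2 from rfl, pow_mul, ← hk, pow_orderOf_eq_one, one_pow]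
      · exfalso
        refine hw ?_
        have h3 : π w ^ 3 = 1 := by rw [← map_pow, ← hk, pow_orderOf_eq_one, map_one]
        rwa [pow_succ, pow_two, hw2, one_mul] at h3
      · rw [← hk, pow_orderOf_eq_one]
    haveI : K.Normal := Subgroup.normalCore_normal _
    have hπK : ∀ n : K, π n = 1 := fun n => (QuotientGroup.eq_one_iff _).2 n.2
    have hcl : commutator K ≤ Subgroup.center K := by
      intro c hc
      refine Subgroup.mem_center_iff.2 fun d => ?_
      have h2 : ⁅c, d⁆ ∈ (⊤ : Subgroup K).lowerCentralSeries 2 := by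
        rw [Subgroup.lowerCentralSeries_succ, Subgroup.top_lowerCentralSeries_one]
        exact Subgroup.commutator_mem_commutator hc (Subgroup.mem_top d)
      rw [hclass K hK2, Subgroup.mem_bot, commutatorElement_eq_one_iff_mul_comm] at h2
      exact h2.symm
    have hKel : ∀ n : K, n ^ 2 = 1 := by
      refine CfsgLib.SymThreeExponent.exp_two (MulAut.conjNormal x) (MulAut.conjNormal g) (fun n => ?_)
        (fun n hn => Subtype.ext (hfix hK2 _ n.2 (congrArg Subtype.val hn))) (fun n => ?_) hcl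
        (fun n => Subtype.ext (h2exp hK2 _ n.2)) (fun n => Subtype.ext ?_) (fun n => Subtype.ext ?_)
      · rw [← MulAut.mul_apply, ← MulAut.mul_apply, ← map_mul, ← map_mul, ← pow_two, ← pow_succ, hx3,
          map_one, MulAut.one_apply]
      · rw [← MulAut.mul_apply, ← MulAut.mul_apply, ← MulAut.mul_apply, ← map_mul, ← map_mul, ← map_mul]
        congr 2
        rw [← pow_two, show x ^ 2 = x⁻¹ from eq_inv_of_mul_eq_one_left (by rw [← pow_succ]; exact hx3),
          ← hgx, inv_mul_cancel_right]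
      · show (g * (n : G) * g⁻¹ * n) ^ 2 = 1
        have e := hfour (g * n) (by rw [map_mul, hπK, mul_one]; exact hπg)
          (by rw [map_mul, hπK, mul_one]; exact hπg2)
        rw [← e, show 4 = 2 * 2 from rfl, pow_mul]
        congr 1
        rw [inv_eq_of_mul_eq_one_left hgg, pow_two]
        group
      · show (g * (x * (n : G) * x⁻¹) * g⁻¹ * n) ^ 2 = 1
        have e := hfour (g * x * n) (by rw [map_mul, hπK, mul_one]; exact hπgx.1)
          (by rw [map_mul, hπK, mul_one]; exact hπgx.2)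
        rw [← e, show 4 = 2 * 2 from rfl, pow_mul]
        congr 1
        have hinv : x⁻¹ * g⁻¹ = g * x := by
          have e1 := congrArg (fun t => t * g) hgx
          simp only [inv_mul_cancel_right] at e1
          rw [inv_eq_of_mul_eq_one_left hgg, e1]
        rw [pow_two (g * x * (n : G))]
        calc g * (x * (n : G) * x⁻¹) * g⁻¹ * n = g * x * (n : G) * (x⁻¹ * g⁻¹) * n := by group
          _ = _ := by rw [hinv]; group
    refine ⟨K, inferInstance, Or.inr (Or.inl ⟨⟨⟨⟨fun u w => ?_⟩⟩, fun u hu => congrArg Subtype.val (hKel ⟨u, hu⟩)⟩, ?_⟩)⟩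
    · have hinv : ∀ t : K, t⁻¹ = t := fun t => inv_eq_of_mul_eq_one_right (by rw [← pow_two]; exact hKel t)
      rw [← hinv (u * w), mul_inv_rev, hinv, hinv]
    · have hsurj : Function.Surjective φ := by
        rw [← MonoidHom.range_eq_top]
        refine Subgroup.eq_top_of_card_eq _ ?_
        rw [← Subgroup.index_ker, ← hKker, hKidx, hperm]
      have e : (G ⧸ (P : Subgroup G)) ≃ Fin 3 := by
        refine Nat.equivFinOfCardPos ?_ |>.trans (finCongr ?_)
        · exact Nat.card_pos.ne'
        · rw [← Subgroup.index_eq_card, hidx]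
      exact ⟨(QuotientGroup.quotientMulEquivOfEq hKker).trans
        ((QuotientGroup.quotientKerEquivOfSurjective φ hsurj).trans e.permCongrHom)⟩
  · -- a normal 3-subgroup
    have hinvert : ∀ (M : Subgroup G), M.Normal → IsPGroup 3 M → ∀ t : G, orderOf t = 2 →
        ∀ y ∈ M, t * y * t⁻¹ = y⁻¹ := by
      intro M hM hMP t ht y hy
      let f : M → M := fun x => ⟨(x : G)⁻¹ * (t * x * t⁻¹),
        mul_mem (inv_mem x.2) (hM.conj_mem _ x.2 t)⟩
      have hf : Function.Injective f := by
        intro x x' e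
        have e' : (x : G)⁻¹ * (t * x * t⁻¹) = (x' : G)⁻¹ * (t * x' * t⁻¹) := congrArg Subtype.val e
        by_contra hne
        have hd : (x' : G) * (x : G)⁻¹ ≠ 1 := fun h1 => hne (Subtype.ext (mul_inv_eq_one.1 h1).symm)
        refine hno2 t _ ht (h3ord hMP _ (mul_mem x'.2 (inv_mem x.2)) hd) ?_
        show t * ((x' : G) * (x : G)⁻¹) = (x' : G) * (x : G)⁻¹ * t
        have e2 : (x' : G) * (x : G)⁻¹ = (t * x' * t⁻¹) * (t * x * t⁻¹)⁻¹ := by
          rw [eq_mul_inv_iff_mul_eq, mul_assoc, e', ← mul_assoc, mul_inv_cancel, one_mul]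
        rw [← mul_inv_eq_iff_eq_mul]
        refine Eq.trans ?_ e2.symm
        group
      obtain ⟨x, hx⟩ := (Finite.injective_iff_surjective.1 hf) ⟨y, hy⟩
      have hxy : (x : G)⁻¹ * (t * x * t⁻¹) = y := congrArg Subtype.val hx
      have ht2 : t⁻¹ = t := inv_eq_of_mul_eq_one_right (by rw [← pow_two, ← ht, pow_orderOf_eq_one])
      rw [← hxy, mul_inv_rev, mul_inv_rev, mul_inv_rev, inv_inv, inv_inv]
      simp only [ht2, ← mul_assoc]
      rw [mul_assoc _ t t, show t * t = 1 by rw [← pow_two, ← ht, pow_orderOf_eq_one], mul_one]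
    set N := Subgroup.centralizer (N₀ : Set G)
    haveI hNn : N.Normal := Subgroup.normal_centralizer
    have hN3 : IsPGroup 3 N := by
      intro y
      refine ⟨1, Subtype.ext ?_⟩
      show (y : G) ^ 3 ^ 1 = 1
      have hc : ∀ j : ℕ, Commute ((y : G) ^ j) v := fun j =>
        (show Commute (y : G) v from (Subgroup.mem_centralizer_iff.1 y.2 v hvN).symm).pow_left j
      have h1 := hord (y : G)
      have h0 := orderOf_pos (y : G)
      interval_cases hk : orderOf (y : G)
      · rw [orderOf_eq_one_iff.1 hk, one_pow]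
      · exact absurd (by simpa using hc 1) (hno2 _ v hk hvo)
      · rw [pow_one, ← hk, pow_orderOf_eq_one]
      · refine absurd (hc 2) (hno2 _ v ?_ hvo)
        rw [orderOf_pow' _ (by norm_num), hk]; rfl
    have hvN' : v ∈ N := Subgroup.mem_centralizer_iff.2 fun w hw =>
      congrArg Subtype.val (hN₀c.is_comm.comm (⟨w, hw⟩ : N₀) ⟨v, hvN⟩)
    obtain ⟨t, ht⟩ := hex 2 (by norm_num) (by norm_num)
    have htt : t * t = 1 := by rw [← pow_two, ← ht, pow_orderOf_eq_one]
    have hNab : ∀ u ∈ N, ∀ w ∈ N, u * w = w * u := by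
      intro u hu w hw
      have huw := hinvert N hNn hN3 t ht _ (mul_mem hu hw)
      rw [← conj_mul, hinvert N hNn hN3 t ht _ hu, hinvert N hNn hN3 t ht _ hw, ← mul_inv_rev, inv_inj] at huw
      exact huw.symm
    have hall : ∀ r : G, r ^ 3 = 1 → r ∈ N := by
      intro r hr
      have hn : r * t * r⁻¹ * t⁻¹ ∈ N := by
        refine Subgroup.mem_centralizer_iff.2 fun w hw => ?_
        have hconj : ∀ s : G, orderOf s = 2 → s * w * s⁻¹ = w⁻¹ := fun s hs =>
          hinvert N₀ hN₀n hN₀P s hs w hw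
        have e1 := hconj (r * t * r⁻¹) (by
          rw [show r * t * r⁻¹ = MulAut.conj r t from rfl, MulEquiv.orderOf_eq, ht])
        have e2 := hconj t⁻¹ (by rw [orderOf_inv, ht])
        symm
        rw [← mul_inv_eq_iff_eq_mul]
        calc r * t * r⁻¹ * t⁻¹ * w * (r * t * r⁻¹ * t⁻¹)⁻¹
            = r * t * r⁻¹ * (t⁻¹ * w * t⁻¹⁻¹) * (r * t * r⁻¹)⁻¹ := by group
          _ = w := by rw [e2, ← conj_inv, e1, inv_inv]
      set n := r * t * r⁻¹ * t⁻¹
      set m := n ^ 2
      have hm : m ∈ N := pow_mem hn 2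
      have hmt : m * t * m⁻¹ = r * t * r⁻¹ := by
        have e := hinvert N hNn hN3 t ht m⁻¹ (inv_mem hm)
        rw [inv_inv, mul_inv_eq_iff_eq_mul] at e
        rw [mul_assoc m t, e, ← mul_assoc, show m * m = n by
          rw [← pow_add, show 2 + 2 = 3 + 1 from rfl, pow_succ, h3exp hN3 n hn, one_mul]]
        simp only [n, inv_mul_cancel_right]
      by_contra hrN
      have hL : IsPGroup 3 (N ⊔ Subgroup.zpowers r : Subgroup G) := by
        refine hN3.to_sup_of_normal_left fun y => ⟨1, Subtype.ext ?_⟩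
        obtain ⟨i, hi⟩ := Subgroup.mem_zpowers_iff.1 y.2
        show (y : G) ^ 3 ^ 1 = 1
        rw [← hi, pow_one, ← zpow_natCast, ← zpow_mul, mul_comm, zpow_mul, zpow_natCast, hr, one_zpow]
      refine hno2 t (m⁻¹ * r) ht (h3ord hL _ (mul_mem (inv_mem (Subgroup.mem_sup_left hm))
        (Subgroup.mem_sup_right (Subgroup.mem_zpowers r))) fun e => hrN (inv_mul_eq_one.1 e ▸ hm)) ?_
      show t * (m⁻¹ * r) = m⁻¹ * r * t
      calc t * (m⁻¹ * r) = m⁻¹ * (m * t * m⁻¹) * r := by group
        _ = m⁻¹ * r * t := by rw [hmt]; group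
    -- the quotient
    have hRN : (R : Subgroup G) ≤ N := fun r hr => hall r (h3exp R.2 r hr)
    have hRN' : (R : Subgroup G) = N := (R.3 hN3 hRN).symm
    have hcompl : Subgroup.IsComplement' (P : Subgroup G) N := by
      refine Subgroup.isComplement'_of_coprime ?_ ?_
      · rw [← hRN', hP, hR, hcard]
      · rw [← hRN', hP, hR]
        exact Nat.Coprime.pow _ _ (by norm_num)
    have hiso : Nonempty (G ⧸ N ≃* (P : Subgroup G)) := ⟨hcompl.QuotientMulEquiv⟩
    obtain ⟨iso⟩ := hiso
    have hinvo : ∀ s u : (P : Subgroup G), orderOf s = 2 → orderOf u = 2 → u ∈ Subgroup.zpowers s := by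
      intro s u hs hu
      rw [← Subgroup.orderOf_coe] at hs hu
      obtain ⟨j, hj⟩ := hpp P.2 _ (s * u).2
      by_cases h1 : ((s * u : (P : Subgroup G)) : G) = 1
      · have h1' : s * u = 1 := Subtype.ext h1
        rw [eq_inv_of_mul_eq_one_right h1']
        exact inv_mem (Subgroup.mem_zpowers s)
      · exfalso
        refine hno _ v j hj h1 hvo ?_
        show ((s : G) * u) * v = v * ((s : G) * u)
        rw [← mul_inv_eq_iff_eq_mul, mul_inv_rev]
        calc (s : G) * u * v * ((u : G)⁻¹ * (s : G)⁻¹) = (s : G) * ((u : G) * v * (u : G)⁻¹) * (s : G)⁻¹ := by group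
          _ = v := by rw [hinvert N hNn hN3 _ hu v hvN', ← conj_inv, hinvert N hNn hN3 _ hs v hvN', inv_inv]
    obtain ⟨y, hyP⟩ : ∃ y : (P : Subgroup G), orderOf y = 4 := by
      obtain ⟨y, hy⟩ := hex 4 (by norm_num) (by norm_num)
      obtain ⟨Q, hQ⟩ := (IsPGroup.of_card (p := 2) (n := 2) (by rw [Nat.card_zpowers, hy]; rfl) :
        IsPGroup 2 (Subgroup.zpowers y)).exists_le_sylow
      obtain ⟨c, rfl⟩ := MulAction.exists_smul_eq G P Q
      have hmem := hQ (Subgroup.mem_zpowers y)
      rw [Sylow.coe_subgroup_smul, Subgroup.mem_pointwise_smul_iff_inv_smul_mem] at hmem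
      refine ⟨⟨_, hmem⟩, ?_⟩
      rw [← Subgroup.orderOf_coe]
      show orderOf ((MulAut.conj c)⁻¹ y) = 4
      rw [MulEquiv.orderOf_eq]
      exact hy
    have hP4 : ∀ w : (P : Subgroup G), orderOf w ≤ 4 := fun w => by
      rw [← Subgroup.orderOf_coe]; exact hord _
    refine ⟨N, inferInstance, Or.inr (Or.inr ⟨⟨⟨⟨fun u w => Subtype.ext (hNab u u.2 w w.2)⟩⟩, h3exp hN3⟩, ?_⟩)⟩
    rcases CfsgLib.UniqueInvol.cyclic_or_quaternion P.2 hinvo with hc | ⟨-, n, hn, ⟨e⟩⟩
    · left
      haveI := hc
      refine ⟨isCyclic_of_surjective iso.symm.toMonoidHom iso.symm.surjective, ?_⟩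
      rw [hcompl.index_eq_card]
      refine le_antisymm ?_ ?_
      · obtain ⟨w, hw⟩ := IsCyclic.exists_ofOrder_eq_natCard (α := (P : Subgroup G))
        rw [← hw]; exact hP4 w
      · rw [← hyP]; exact orderOf_le_card
    · right
      have h1 := hP4 (e.symm (QuaternionGroup.a 1))
      rw [MulEquiv.orderOf_eq] at h1
      haveI : NeZero (2 ^ n) := ⟨by positivity⟩
      rw [QuaternionGroup.orderOf_a_one] at h1
      have hn1 : n = 1 := by
        by_contra hne
        have : 2 ^ 2 ≤ 2 ^ n := Nat.pow_le_pow_right (by norm_num) (by omega)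
        omega
      subst hn1
      exact ⟨iso.trans e⟩

end Cfsg.Agent.S4006
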