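import Cfsg.Statements.S4010
import Cfsg.Agent.FGSB.LinearDerivedLength
import Mathlib.FieldTheory.IsAlgClosed.AlgebraicClosure

set_option autoImplicit false
open Cfsg

namespace Cfsg.Agent.S4010

/-- Let F be a field, n ≥ 1, and P a finite p-group (p a prime) admitting an injective homomorphism into the general linear group of degree n over F. Then the derived length of P is at most ⌊log₂ n⌋ + 1: that term of the derived series of P is trivial. -/
theorem result {P : Type*} [Group P] [Finite P] (p : ℕ) [Fact p.Prime] (hP : IsPGroup p P) (F : Type*) [Field F] (n : ℕ) (hn : 1 ≤ n) (ρ : P →* Matrix.GeneralLinearGroup (Fin n) F) (hρ : Function.Injective ρ) : derivedSeries P (Nat.log 2 n + 1) = ⊥ := by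
  set K := AlgebraicClosure F
  let e : Matrix.GeneralLinearGroup (Fin n) F →* Matrix.GeneralLinearGroup (Fin n) K :=
    Matrix.GeneralLinearGroup.map (algebraMap F K)
  let σ : P →* Module.End K (Fin n → K) :=
    (Matrix.toLinAlgEquiv' (R := K) (n := Fin n)).toRingHom.toMonoidHom.comp ((Units.coeHom _).comp (e.comp ρ))
  haveI : Finite P := inferInstance
  have hd : Module.finrank K (Fin n → K) = n := Module.finrank_fin_fun K
  have hσ : Function.Injective σ := by
    intro a b hab
    refine hρ ?_
    have h1 : (e (ρ a)).1 = (e (ρ b)).1 := (Matrix.toLinAlgEquiv' (R := K) (n := Fin n)).injective hab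
    refine Units.ext (Matrix.ext fun i j => (algebraMap F K).injective ?_)
    exact congrFun (congrFun h1 i) j
  rw [Subgroup.eq_bot_iff_forall]
  intro g hg
  refine hσ ?_
  rw [map_one]
  by_cases h : (p : K) = 0
  · haveI : CharP K p := (CharP.charP_iff_prime_eq_zero Fact.out).2 h
    exact CfsgLib.LinearDerivedLength.unipotent hP (Nat.log 2 n + 1) σ
      (by rw [hd]; exact (Nat.lt_pow_succ_log_self one_lt_two n).le) g hg
  · exact CfsgLib.LinearDerivedLength.semisimple_bound h n hP σ hd g hg

end Cfsg.Agent.S4010
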