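import Cfsg.Statements.S4013
import Cfsg.Agent.FGSB.PRegClass

set_option autoImplicit false
open Cfsg

namespace Cfsg.Agent.S4013

/-- Let G be a finite p-group (p prime) and N < M normal subgroups of G such that for some g ∈ M ∖ N the conjugacy class of g is exactly M ∖ N. Then p = 2 and N has index 2 in M. -/
theorem result {G : Type*} [Group G] [Finite G] (p : ℕ) [Fact p.Prime] (hG : IsPGroup p G) (N M : Subgroup G) [N.Normal] [M.Normal] (hNM : N < M) (g : G) (hgM : g ∈ M) (hgN : g ∉ N) (hcl : {h : G | IsConj g h} = (M : Set G) \ (N : Set G)) : p = 2 ∧ N.relIndex M = 2 := by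
  have hp := (Fact.out : p.Prime)
  obtain ⟨n, hn⟩ := IsPGroup.iff_card.1 hG
  have hcar : (ConjClasses.mk g).carrier = {h : G | IsConj g h} := by
    ext h; rw [ConjClasses.mem_carrier_iff_mk_eq, ConjClasses.mk_eq_mk_iff_isConj, Set.mem_ofPred_eq, isConj_comm]
  have hk := CfsgLib.PRegClass.ncard_carrier g
  rw [hcar, hcl, Set.ncard_sdiff (by exact hNM.le), ← Nat.card_coe_set_eq, ← Nat.card_coe_set_eq] at hk
  change Nat.card M - Nat.card N = _ at hk
  obtain ⟨j, -, hj⟩ := (Nat.dvd_prime_pow hp).1 (hn ▸ (Subgroup.centralizer ({g} : Set G)).index_dvd_card)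
  rw [hj] at hk
  have hmul : Nat.card N * N.relIndex M = Nat.card M := by
    rw [← Subgroup.relIndex_bot_left, ← Subgroup.relIndex_bot_left]
    exact Subgroup.relIndex_mul_relIndex ⊥ N M bot_le hNM.le
  obtain ⟨i, -, hi⟩ := (Nat.dvd_prime_pow hp).1
    (hn ▸ (Dvd.intro_left _ hmul).trans M.card_subgroup_dvd_card)
  have hi0 : i ≠ 0 := by
    rintro rfl
    rw [pow_zero, Subgroup.relIndex_eq_one] at hi
    exact not_le_of_gt hNM hi
  rw [← hmul, hi, ← Nat.mul_sub_one] at hk
  obtain ⟨l, -, hl⟩ := (Nat.dvd_prime_pow hp).1 (Dvd.intro_left _ hk)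
  have hge : p ≤ p ^ i := Nat.le_self_pow hi0 p
  have hl0 : l = 0 := by
    by_contra hl0
    have h1 : p ∣ p ^ i - 1 := hl ▸ dvd_pow_self p hl0
    have h2 : p ∣ p ^ i := dvd_pow_self p hi0
    have h3 : p ∣ p ^ i - (p ^ i - 1) := Nat.dvd_sub h2 h1
    have := hp.two_le
    rw [show p ^ i - (p ^ i - 1) = 1 by omega] at h3
    exact hp.not_dvd_one h3
  subst hl0
  have := hp.two_le
  rw [pow_zero] at hl
  rw [hi]
  exact ⟨by omega, by omega⟩

end Cfsg.Agent.S4013
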