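import Cfsg.Statements.S4018
import Cfsg.Agent.S3282
import Cfsg.Agent.Transfer.Basic
import Cfsg.Agent.SmallSimple.Basic

set_option autoImplicit false
open Cfsg

namespace Cfsg.Agent.S4018

/-- Let G be a finite group with an abelian Sylow 3-subgroup P such that the normalizer of P has order 4·#P, the centralizer C of P has order 2·#P, C meets each of its conjugates by elements outside its normalizer trivially, and every proper subgroup of G of even order has order dividing 4·#P. Then G is not simple. -/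
theorem result {G : Type*} [Group G] [Finite G]
    (P : Sylow 3 G) (hab : IsMulCommutative P)
    (hN : Nat.card (Subgroup.normalizer ((P : Subgroup G) : Set G)) = 4 * Nat.card P)
    (hC : Nat.card (Subgroup.centralizer (P : Set G)) = 2 * Nat.card P)
    (hTI : Cfsg.IsTISubset (Subgroup.centralizer (P : Set G) : Set G))
    (heven : ∀ H : Subgroup G, H ≠ ⊤ → 2 ∣ Nat.card H → Nat.card H ∣ 4 * Nat.card P) :
    ¬ IsSimpleGroup G := by
  intro hsimple
  classical
  haveI := hsimple
  haveI : Fact (Nat.Prime 3) := ⟨Nat.prime_three⟩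
  haveI : Fact (Nat.Prime 2) := ⟨Nat.prime_two⟩
  haveI := hab
  set n := Nat.card (P : Subgroup G) with hn
  obtain ⟨k, hk⟩ := IsPGroup.iff_card.1 P.2
  have hn3 : n = 3 ^ k := hk
  have hnodd : n % 2 = 1 := by rw [hn3, Nat.pow_mod]; simp
  have hnpos : 0 < n := Nat.card_pos
  set N := Subgroup.normalizer ((P : Subgroup G) : Set G) with hNdef
  have hNle : 4 * n ≤ Nat.card G := hN ▸ Subgroup.card_le_card_group N
  have h4N : 4 ∣ Nat.card G := (Dvd.intro n hN.symm).trans (Subgroup.card_subgroup_dvd_card N)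
  -- the group is not commutative
  have hnc : ¬ IsMulCommutative G := by
    intro hcm
    letI : CommGroup G := { (inferInstance : Group G) with mul_comm := fun a b => hcm.is_comm.comm a b }
    have hp : (Nat.card G).Prime := IsSimpleGroup.prime_card
    have := (Nat.prime_dvd_prime_iff_eq Nat.prime_two hp).1 ((show (2:ℕ) ∣ 4 by norm_num).trans h4N)
    omega
  have hcenter : Subgroup.center G = ⊥ := by
    rcases IsSimpleGroup.eq_bot_or_eq_top_of_normal (Subgroup.center G) inferInstance with h | h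
    · exact h
    · exact absurd ⟨⟨fun a b => (Subgroup.mem_center_iff.1 (h.symm ▸ Subgroup.mem_top a) b).symm⟩⟩ hnc
  have hcomm : commutator G = ⊤ := by
    rcases IsSimpleGroup.eq_bot_or_eq_top_of_normal (commutator G) inferInstance with h | h
    · exact absurd ⟨⟨fun a b => commutatorElement_eq_one_iff_mul_comm.1 (Subgroup.mem_bot.1 (h ▸
        Subgroup.commutator_mem_commutator (Subgroup.mem_top a) (Subgroup.mem_top b)))⟩⟩ hnc
    · exact h
  have hn1 : n ≠ 1 := by
    intro h1
    have hP : (P : Subgroup G) = ⊥ := Subgroup.card_eq_one.1 h1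
    have hNtop : N = ⊤ := by rw [hNdef, hP]; exact Subgroup.normalizer_eq_top_iff.2 inferInstance
    rw [hNtop, Subgroup.card_top] at hN
    haveI : Group.IsNilpotent G := (IsPGroup.of_card (p := 2) (n := 2) (hN.trans (by rw [h1]; norm_num))).isNilpotent
    exact hnc ⟨⟨IsSimpleGroup.comm_iff_isSolvable.2 inferInstance⟩⟩
  have hPne : (P : Subgroup G) ≠ ⊥ := fun h => hn1 (by rw [hn, h, Subgroup.card_bot])
  -- `C(P) = P × ⟨t⟩` is abelian
  set K := Subgroup.centralizer ((P : Subgroup G) : Set G) with hKdef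
  have hPK : (P : Subgroup G) ≤ K := fun x hx => Subgroup.mem_centralizer_iff.2 fun y hy =>
    setLike_mul_comm (S := Subgroup G) hy hx
  obtain ⟨t', ht'⟩ := exists_prime_orderOf_dvd_card' (G := K) 2 (hC ▸ dvd_mul_right 2 _)
  set t : G := (t' : G) with htdef
  have ht : orderOf t = 2 := by rw [htdef, Subgroup.orderOf_coe, ht']
  have ht2 : t * t = 1 := by rw [← pow_two, ← ht, pow_orderOf_eq_one]
  have ht1 : t ≠ 1 := fun h => by rw [h, orderOf_one] at ht; omega
  have htP : t ∉ (P : Subgroup G) := by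
    intro h
    have := Subgroup.orderOf_dvd_natCard _ h
    rw [ht] at this
    omega
  have hKcard : Nat.card K = 2 * n := hC
  have hKcases : ∀ x ∈ K, x ∈ (P : Subgroup G) ∨ t * x ∈ (P : Subgroup G) := by
    have hidx : ((P : Subgroup G).subgroupOf K).index = 2 := by
      have h := ((P : Subgroup G).subgroupOf K).card_mul_index
      rw [Nat.card_congr (Subgroup.subgroupOfEquivOfLe hPK).toEquiv, hKcard, mul_comm 2] at h
      exact Nat.eq_of_mul_eq_mul_left hnpos h
    intro x hx
    by_cases hxP : x ∈ (P : Subgroup G)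
    · exact Or.inl hxP
    have h := (Subgroup.mul_mem_iff_of_index_two hidx (a := t') (b := ⟨x, hx⟩)).2
    simp only [Subgroup.mem_subgroupOf] at h
    exact Or.inr (h (iff_of_false htP hxP))
  have htP' : ∀ y ∈ (P : Subgroup G), t * y = y * t := fun y hy =>
    (Subgroup.mem_centralizer_iff.1 t'.2 y hy).symm
  have hKab : IsMulCommutative ↥K := by
    refine ⟨⟨fun a b => Subtype.ext ?_⟩⟩
    show (a : G) * b = b * a
    have key : ∀ x ∈ K, t * x = x * t := by
      intro x hx
      rcases hKcases x hx with h | h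
      · exact htP' x h
      · have := htP' _ h
        rw [← mul_assoc, ht2, one_mul, mul_assoc] at this
        calc t * x = t * (t * (x * t)) := congrArg (t * ·) this
          _ = x * t := by rw [← mul_assoc, ht2, one_mul]
    rcases hKcases a a.2 with ha | ha
    · exact Subgroup.mem_centralizer_iff.1 b.2 a ha
    · have h1 : (t * a) * b = b * (t * a) := Subgroup.mem_centralizer_iff.1 b.2 _ ha
      have h2 := key b b.2
      calc (a : G) * b = t * ((t * a) * b) := by rw [mul_assoc t (a : G), ← mul_assoc t t, ht2, one_mul]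
        _ = t * (b * (t * a)) := by rw [h1]
        _ = t * b * t * a := by group
        _ = b * (t * t) * a := by rw [h2]; group
        _ = b * a := by rw [ht2, mul_one]
  haveI := hKab
  have hinvol : ∀ x ∈ K, x * x = 1 → x = 1 ∨ x = t := by
    intro x hx hxx
    have hodd : ∀ y ∈ (P : Subgroup G), y * y = 1 → y = 1 := by
      intro y hy hyy
      have h1 : orderOf y ∣ 2 := orderOf_dvd_of_pow_eq_one (by rw [pow_two, hyy])
      have h2 : orderOf y ∣ n := Subgroup.orderOf_dvd_natCard _ hy
      have h3 := Nat.dvd_gcd h1 h2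
      rw [Nat.coprime_two_left.2 (Nat.odd_iff.2 hnodd)] at h3
      exact orderOf_eq_one_iff.1 (Nat.dvd_one.1 h3)
    rcases hKcases x hx with h | h
    · exact Or.inl (hodd x h hxx)
    · refine Or.inr ?_
      have hc : t * x = x * t := setLike_mul_comm (S := Subgroup G) t'.2 hx
      have h1 := hodd _ h (by
        calc t * x * (t * x) = t * (x * t) * x := by group
          _ = t * (t * x) * x := by rw [hc]
          _ = (t * t) * (x * x) := by group
          _ = 1 := by rw [ht2, hxx, one_mul])
      calc x = t * (t * x) := by rw [← mul_assoc, ht2, one_mul]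
        _ = t := by rw [h1, mul_one]
  -- `C(t) = N(P)`
  set H := Subgroup.centralizer ({t} : Set G) with hHdef
  have hfix : ∀ g : G, (∀ x, x ∈ K ↔ g * x * g⁻¹ ∈ K) → g ∈ H := by
    intro g hg
    have hmem := (hg t).1 t'.2
    rcases hinvol _ hmem (by rw [conj_mul, ht2, mul_one, mul_inv_cancel]) with h | h
    · exact absurd (conj_eq_one_iff.1 h) ht1
    · exact Subgroup.mem_centralizer_singleton_iff.2 (mul_inv_eq_iff_eq_mul.1 h)
  have hNH : N ≤ H := by
    intro g hg
    have hconjP : ∀ y, y ∈ (P : Subgroup G) ↔ g * y * g⁻¹ ∈ (P : Subgroup G) := fun y =>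
      Subgroup.mem_normalizer_iff.1 hg y
    refine hfix g fun x => ⟨fun hx => ?_, fun hx => ?_⟩
    · refine Subgroup.mem_centralizer_iff.2 fun y hy => ?_
      have hy' : g⁻¹ * y * g ∈ (P : Subgroup G) := (hconjP _).2 (by group; exact hy)
      have h := Subgroup.mem_centralizer_iff.1 hx _ hy'
      calc y * (g * x * g⁻¹) = g * (g⁻¹ * y * g * x) * g⁻¹ := by group
        _ = g * (x * (g⁻¹ * y * g)) * g⁻¹ := by rw [h]
        _ = g * x * g⁻¹ * y := by group
    · refine Subgroup.mem_centralizer_iff.2 fun y hy => ?_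
      have h := Subgroup.mem_centralizer_iff.1 hx _ ((hconjP y).1 hy)
      calc y * x = g⁻¹ * ((g * y * g⁻¹) * (g * x * g⁻¹)) * g := by group
        _ = g⁻¹ * ((g * x * g⁻¹) * (g * y * g⁻¹)) * g := by rw [h]
        _ = x * y := by group
  have htc : H ≠ ⊤ := by
    intro h
    have hmem : t ∈ Subgroup.center G := Subgroup.mem_center_iff.2 fun g =>
      Subgroup.mem_centralizer_singleton_iff.1 (show g ∈ H by rw [h]; exact Subgroup.mem_top g)
    rw [hcenter, Subgroup.mem_bot] at hmem
    exact ht1 hmem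
  have hHcard : Nat.card H = 4 * n := by
    have h1 : 4 * n ∣ Nat.card H := hN ▸ Subgroup.card_dvd_of_le hNH
    exact Nat.dvd_antisymm (heven H htc ((Dvd.intro (2 * n) (by ring)).trans h1)) h1
  have hNeqH : N = H := Subgroup.eq_of_le_of_card_ge hNH (by rw [hHcard, hN])
  have hKN : K ≤ N := Subgroup.centralizer_le_normalizer _
  -- a Sylow 2-subgroup is a four-group inside `N(P)`
  obtain ⟨S₀⟩ : Nonempty (Sylow 2 N) := inferInstance
  have hS₀ : Nat.card (S₀ : Subgroup N) = 4 :=
    (CfsgLib.SmallSimple.card_sylow_eq S₀ (k := 2) (m := n) hN (by omega)).trans (by norm_num)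
  obtain ⟨S, hS⟩ := (S₀.2.map N.subtype).exists_le_sylow
  have hS4 : Nat.card (S : Subgroup G) = 4 := by
    have h1 : 4 ∣ Nat.card (S : Subgroup G) := by
      rw [← hS₀, ← Subgroup.card_map_of_injective N.subtype_injective]
      exact Subgroup.card_dvd_of_le hS
    have hne : (S : Subgroup G) ≠ ⊤ := by
      intro h
      haveI : Group.IsNilpotent G :=
        (IsPGroup.of_equiv (h ▸ S.2) Subgroup.topEquiv).isNilpotent
      exact hnc ⟨⟨IsSimpleGroup.comm_iff_isSolvable.2 inferInstance⟩⟩
    have h2 := heven _ hne ((show (2:ℕ) ∣ 4 by norm_num).trans h1)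
    obtain ⟨j, hj⟩ := IsPGroup.iff_card.1 S.2
    rw [hj] at h1 h2 ⊢
    have h3 : 2 ^ j ∣ 4 := by
      refine (Nat.Coprime.dvd_mul_right ?_).1 h2
      exact Nat.Coprime.pow_left j (Nat.coprime_two_left.2 (Nat.odd_iff.2 hnodd))
    exact Nat.dvd_antisymm h3 h1
  have hSN : (S : Subgroup G) ≤ N := by
    have : (S₀ : Subgroup N).map N.subtype = S := Subgroup.eq_of_le_of_card_ge hS
      (by rw [Subgroup.card_map_of_injective N.subtype_injective, hS₀, hS4])
    rw [← this]; exact Subgroup.map_subtype_le _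
  haveI hSab : IsMulCommutative (S : Subgroup G) :=
    IsPGroup.isMulCommutative_of_card_eq_prime_sq (p := 2) (by rw [hS4]; norm_num)
  have hScard : Nat.card (S : Subgroup G) < Nat.card G := by rw [hS4]; omega
  have hSnle := CfsgLib.SmallSimple.not_le_centralizer S (by omega) hScard
  obtain ⟨g, hgN, hgC⟩ := Set.not_subset.1 hSnle
  -- odd powers
  have hpow : ∀ h ∈ Subgroup.normalizer ((S : Subgroup G) : Set G),
      ∃ m : ℕ, m % 2 = 1 ∧ ∀ u ∈ (S : Subgroup G), h ^ m * u = u * h ^ m := by
    intro h hh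
    set M := Subgroup.normalizer ((S : Subgroup G) : Set G)
    haveI : ((S : Subgroup G).subgroupOf M).Normal := Subgroup.normal_in_normalizer
    refine ⟨((S : Subgroup G).subgroupOf M).index, ?_, fun u hu => ?_⟩
    · rcases Nat.mod_two_eq_zero_or_one ((S : Subgroup G).subgroupOf M).index with h0 | h0
      · exfalso
        apply S.not_dvd_index
        exact (Nat.dvd_of_mod_eq_zero h0).trans
          (Dvd.intro _ (Subgroup.relIndex_mul_index Subgroup.le_normalizer))
      · exact h0
    · have hmem := Subgroup.pow_index_mem ((S : Subgroup G).subgroupOf M) ⟨h, hh⟩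
      exact setLike_mul_comm (S := Subgroup G) (Subgroup.mem_subgroupOf.1 hmem) hu
  -- the orbit of an element of `S` under `g`
  have horbit : ∀ u ∈ (S : Subgroup G), g * u * g⁻¹ ≠ u → g * (g * u * g⁻¹) * g⁻¹ ≠ u := by
    intro u hu hne he
    obtain ⟨m, hm, hcm⟩ := hpow g hgN
    have hiter : ∀ i : ℕ, g ^ (2 * i + 1) * u * (g ^ (2 * i + 1))⁻¹ = g * u * g⁻¹ := by
      intro i
      induction i with
      | zero => simp
      | succ i ih =>
        calc g ^ (2 * (i + 1) + 1) * u * (g ^ (2 * (i + 1) + 1))⁻¹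
            = g * (g * (g ^ (2 * i + 1) * u * (g ^ (2 * i + 1))⁻¹) * g⁻¹) * g⁻¹ := by
              rw [show 2 * (i + 1) + 1 = (2 * i + 1) + 1 + 1 by ring, pow_succ', pow_succ']; group
          _ = g * (g * (g * u * g⁻¹) * g⁻¹) * g⁻¹ := by rw [ih]
          _ = g * u * g⁻¹ := by rw [he]
    obtain ⟨i, hi⟩ : ∃ i, m = 2 * i + 1 := ⟨m / 2, by omega⟩
    refine hne ((hiter i).symm.trans ?_)
    rw [← hi, hcm u hu, mul_inv_cancel_right]
  obtain ⟨u, hu, hgu⟩ : ∃ u ∈ (S : Subgroup G), g * u * g⁻¹ ≠ u := by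
    by_contra hall
    push_neg at hall
    exact hgC (Subgroup.mem_centralizer_iff.2 fun y hy => (mul_inv_eq_iff_eq_mul.1 (hall y hy)).symm)
  have hconjS : ∀ x, g * x * g⁻¹ ∈ (S : Subgroup G) ↔ x ∈ (S : Subgroup G) := fun x =>
    (Subgroup.mem_normalizer_iff.1 hgN x).symm
  have hu2 : g * (g * u * g⁻¹) * g⁻¹ ≠ g * u * g⁻¹ := fun e =>
    hgu (mul_left_cancel (mul_right_cancel e))
  have hu1 : u ≠ 1 := fun h => hgu (by rw [h]; group)
  have hSconj : ∀ x ∈ (S : Subgroup G), x ≠ 1 → IsConj u x := by
    intro x hx hx1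
    by_contra hnot
    have hsub : ({1, u, g * u * g⁻¹, g * (g * u * g⁻¹) * g⁻¹, x} : Set G) ⊆ ((S : Subgroup G) : Set G) := by
      intro y hy
      simp only [Set.mem_insert_iff, Set.mem_singleton_iff] at hy
      rcases hy with rfl | rfl | rfl | rfl | rfl
      exacts [one_mem _, hu, (hconjS u).2 hu, (hconjS _).2 ((hconjS u).2 hu), hx]
    have hle := Set.ncard_le_ncard hsub (Set.toFinite _)
    rw [← Nat.card_coe_set_eq ((S : Subgroup G) : Set G)] at hle
    change _ ≤ Nat.card (S : Subgroup G) at hle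
    rw [hS4, Set.ncard_insert_of_notMem, Set.ncard_insert_of_notMem, Set.ncard_insert_of_notMem,
      Set.ncard_insert_of_notMem, Set.ncard_singleton] at hle
    · omega
    · exact fun e => hnot (isConj_iff.2 ⟨g * g, by rw [mul_inv_rev, ← (Set.mem_singleton_iff.1 e)]; group⟩)
    · simp only [Set.mem_insert_iff, Set.mem_singleton_iff]
      rintro (e | e)
      · exact hu2 e.symm
      · exact hnot (isConj_iff.2 ⟨g, e⟩)
    · simp only [Set.mem_insert_iff, Set.mem_singleton_iff]
      rintro (e | e | e)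
      · exact hgu e.symm
      · exact horbit u hu hgu e.symm
      · exact hnot (e ▸ IsConj.refl u)
    · simp only [Set.mem_insert_iff, Set.mem_singleton_iff]
      rintro (e | e | e | e)
      · exact hu1 e.symm
      · exact hu1 (conj_eq_one_iff.1 e.symm)
      · exact hu1 (conj_eq_one_iff.1 (conj_eq_one_iff.1 e.symm))
      · exact hx1 e.symm
  have huord : orderOf u = 2 := by
    obtain ⟨y, hy⟩ := exists_prime_orderOf_dvd_card' (G := (S : Subgroup G)) 2 (by rw [hS4]; norm_num)
    have hy' : orderOf (y : G) = 2 := by rw [Subgroup.orderOf_coe, hy]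
    obtain ⟨c, hc⟩ := isConj_iff.1 (hSconj y y.2 (fun e => by rw [e, orderOf_one] at hy'; omega))
    rw [← hy', ← hc, ← MulAut.conj_apply, MulEquiv.orderOf_eq]
  have hconj : ∀ x y : G, orderOf x = 2 → orderOf y = 2 → IsConj x y := by
    have key : ∀ x : G, orderOf x = 2 → IsConj u x := by
      intro x hx
      obtain ⟨T, hT⟩ := (IsPGroup.of_card (p := 2) (n := 1) (G := Subgroup.zpowers x)
        (by rw [Nat.card_zpowers, hx, pow_one])).exists_le_sylow
      obtain ⟨c, hc⟩ := MulAction.exists_smul_eq G T S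
      have hxS : c * x * c⁻¹ ∈ (S : Subgroup G) := by
        rw [← hc]; exact ⟨x, hT (Subgroup.mem_zpowers x), rfl⟩
      exact (hSconj _ hxS (fun e => by
        have h := conj_eq_one_iff.1 e; rw [h, orderOf_one] at hx; omega)).trans
          (isConj_iff.2 ⟨c⁻¹, by group⟩)
    exact fun x y hx hy => (key x hx).symm.trans (key y hy)
  -- the inverting involution
  obtain ⟨s, hsS, hs1, hst⟩ : ∃ s ∈ (S : Subgroup G), s ≠ 1 ∧ s ≠ t := by
    by_cases h : u = t
    · exact ⟨_, (hconjS u).2 hu, fun e => hu1 (conj_eq_one_iff.1 e), fun e => hgu (e.trans h.symm)⟩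
    · exact ⟨u, hu, hu1, h⟩
  have hsord : orderOf s = 2 := by
    obtain ⟨c, hc⟩ := isConj_iff.1 (hSconj s hsS hs1)
    rw [← huord, ← hc, ← MulAut.conj_apply, MulEquiv.orderOf_eq]
  have hs2 : s * s = 1 := by rw [← pow_two, ← hsord, pow_orderOf_eq_one]
  have hsN : s ∈ N := hSN hsS
  have hsK : s ∉ K := fun h => (hinvol s h hs2).elim hs1 hst
  have hNcases : ∀ x ∈ N, x ∈ K ∨ s * x ∈ K := by
    have hidx : (K.subgroupOf N).index = 2 := by
      have h := (K.subgroupOf N).card_mul_index
      rw [Nat.card_congr (Subgroup.subgroupOfEquivOfLe hKN).toEquiv, hKcard, hN] at h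
      exact Nat.eq_of_mul_eq_mul_left (show 0 < 2 * n by omega) (h.trans (by ring))
    intro x hx
    by_cases hxK : x ∈ K
    · exact Or.inl hxK
    have h := (Subgroup.mul_mem_iff_of_index_two hidx (a := (⟨s, hsN⟩ : N)) (b := ⟨x, hx⟩)).2
    simp only [Subgroup.mem_subgroupOf] at h
    exact Or.inr (h (iff_of_false hsK hxK))
  have hsupH : K ⊔ Subgroup.zpowers s = H := by
    rw [← hNeqH]
    refine le_antisymm (sup_le hKN ((Subgroup.zpowers_le).2 hsN)) fun x hx => ?_
    rcases hNcases x hx with h | h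
    · exact Subgroup.mem_sup_left h
    · have hs : s ∈ K ⊔ Subgroup.zpowers s := Subgroup.mem_sup_right (Subgroup.mem_zpowers s)
      have := mul_mem hs (Subgroup.mem_sup_left h : s * x ∈ K ⊔ Subgroup.zpowers s)
      rwa [← mul_assoc, hs2, one_mul] at this
  have hsP : ∀ y ∈ (P : Subgroup G), s * y = y * s → y = 1 := by
    intro y hy hc
    have hfocal : (P : Subgroup G).focalSubgroup = P := by
      rw [← Subgroup.commutator_inf_eq_focalSubgroup, hcomm, top_inf_eq]
    have hd := (CfsgLib.TransferBasic.focal_disjoint_sup (P := P) hab).1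
    rw [hfocal] at hd
    have hmem : y ∈ ((P : Subgroup G) ⊓ Subgroup.centralizer (N : Set G)) ⊓ (P : Subgroup G) := by
      refine ⟨⟨hy, Subgroup.mem_centralizer_iff.2 fun x hx => ?_⟩, hy⟩
      rcases hNcases x hx with h | h
      · exact (Subgroup.mem_centralizer_iff.1 h y hy).symm
      · have h1 := Subgroup.mem_centralizer_iff.1 h y hy
        calc x * y = s * (s * x * y) := by rw [mul_assoc s x, ← mul_assoc s s, hs2, one_mul]
          _ = s * (y * (s * x)) := by rw [h1]
          _ = (s * y) * (s * x) := by group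
          _ = (y * s) * (s * x) := by rw [hc]
          _ = y * x := by rw [mul_assoc y, ← mul_assoc s s, hs2, one_mul]
    rw [hd, Subgroup.mem_bot] at hmem
    exact hmem
  have hsH : s ∈ H := hNH hsN
  have hst' : s * t = t * s := Subgroup.mem_centralizer_singleton_iff.1 hsH
  have hKsq : ∀ x ∈ K, x * x ∈ (P : Subgroup G) := by
    intro x hx
    rcases hKcases x hx with h | h
    · exact mul_mem h h
    · have hc : t * x = x * t := setLike_mul_comm (S := Subgroup G) t'.2 hx
      have := mul_mem h h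
      rwa [show t * x * (t * x) = x * x by
        calc t * x * (t * x) = t * (x * t) * x := by group
          _ = t * (t * x) * x := by rw [hc]
          _ = x * x := by rw [← mul_assoc t t, ht2, one_mul]] at this
  have hfixK : ∀ x ∈ K, s * x = x * s → x = 1 ∨ x = t := by
    intro x hx hc
    exact hinvol x hx (hsP _ (hKsq x hx) (by rw [← mul_assoc, hc, mul_assoc, hc, ← mul_assoc]))
  have hsinv : ∀ x ∈ K, s * x * s⁻¹ = x⁻¹ := by
    have hsinv' : s⁻¹ = s := inv_eq_of_mul_eq_one_right hs2
    have hP : ∀ y ∈ (P : Subgroup G), s * y * s⁻¹ = y⁻¹ := by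
      intro y hy
      have hy' : s * y * s⁻¹ ∈ (P : Subgroup G) := (Subgroup.mem_normalizer_iff.1 hsN y).1 hy
      have hz := hsP (y * (s * y * s⁻¹)) (mul_mem hy hy') (by
        have hc := setLike_mul_comm (S := Subgroup G) hy hy'
        calc s * (y * (s * y * s⁻¹)) = (s * y * s⁻¹) * (s * s) * (y * s⁻¹) := by group
          _ = (s * y * s⁻¹) * y * s := by rw [hs2, hsinv']; group
          _ = y * (s * y * s⁻¹) * s := by rw [hc])
      exact eq_inv_of_mul_eq_one_right hz
    intro x hx
    rcases hKcases x hx with h | h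
    · exact hP x h
    · have h1 := hP _ h
      have hc : t * x = x * t := setLike_mul_comm (S := Subgroup G) t'.2 hx
      calc s * x * s⁻¹ = s * (t * (t * x)) * s⁻¹ := by rw [← mul_assoc t t, ht2, one_mul]
        _ = (s * t) * (t * x) * s⁻¹ := by group
        _ = (t * s) * (t * x) * s⁻¹ := by rw [hst']
        _ = t * (s * (t * x) * s⁻¹) := by group
        _ = t * (x * t)⁻¹ := by rw [h1, hc]
        _ = x⁻¹ := by rw [mul_inv_rev, ← mul_assoc, mul_inv_cancel, one_mul]
  have hCK : K ⊓ Subgroup.centralizer ({s} : Set G) = Subgroup.zpowers t := by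
    refine le_antisymm (fun x hx => ?_) ((Subgroup.zpowers_le).2 ⟨t'.2, Subgroup.mem_centralizer_singleton_iff.2 hst'.symm⟩)
    rcases hfixK x hx.1 (Subgroup.mem_centralizer_singleton_iff.1 hx.2).symm with h | h
    · exact h ▸ one_mem _
    · exact h ▸ Subgroup.mem_zpowers t
  have hTI' : ∀ g : G, g ∉ H → K ⊓ K.map (MulAut.conj g).toMonoidHom = ⊥ := by
    intro g hg
    refine (Subgroup.eq_bot_iff_forall _).2 ?_
    rintro _ ⟨h1, x, hx, rfl⟩
    have hg' : g ∉ Subgroup.normalizer (K : Set G) := fun hgn =>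
      hg (hfix g fun x => Subgroup.mem_normalizer_iff.1 hgn x)
    rw [hTI g hg' x hx h1, map_one]
  obtain ⟨Q, D, hord, hQc, hDc, hDQ, hQD, hNQ, hDN⟩ := Cfsg.Agent.S3282.result t ht K hKab
    (fun x hx => Subgroup.mem_centralizer_singleton_iff.2 (setLike_mul_comm (S := Subgroup G) hx t'.2)) t'.2
    s hsord hsH hsK hsupH hCK hsinv hTI' hconj
  -- the numerical contradiction
  set q := Nat.card Q with hq
  set d := Nat.card D with hd
  have hdpos : 0 < d := Nat.card_pos
  have hordG : Nat.card G = q * (q + 1) * d := by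
    rw [show q - 1 = 2 * d by omega] at hord
    linarith
  have hQ1 : Q ≠ ⊥ := fun h => by rw [hq, h, Subgroup.card_bot] at hDQ; omega
  have hD1 : 1 < d := by
    by_contra hle
    have hq3 : q = 3 := by omega
    rw [hq3, show d = 1 by omega] at hordG
    have hn' : n = 3 := by
      have h1 : n ∣ 3 * (3 + 1) * 1 := hordG ▸ Subgroup.card_subgroup_dvd_card (P : Subgroup G)
      have h2 : n ∣ 3 := by
        refine (Nat.Coprime.dvd_mul_right ?_).1 (show n ∣ 3 * 4 by simpa using h1)
        rw [hn3]; exact Nat.Coprime.pow_left k (by norm_num)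
      exact ((Nat.dvd_prime Nat.prime_three).1 h2).resolve_left hn1
    have hNtop : N = ⊤ := Subgroup.eq_top_of_card_eq N (by rw [hN, hordG]; show 4 * n = _; omega)
    rcases IsSimpleGroup.eq_bot_or_eq_top_of_normal (P : Subgroup G)
      (Subgroup.normalizer_eq_top_iff.1 hNtop) with h | h
    · exact hPne h
    · have h1 : n = Nat.card G := by rw [hn, h, Subgroup.card_top]
      omega
  have hDne : D ≠ ⊥ := fun h => by rw [hd, h, Subgroup.card_bot] at hD1; omega
  obtain ⟨-, v, hv, hvD, hvinv, hND⟩ := hDN D le_rfl hDne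
  have hNDcard : Nat.card (Subgroup.normalizer (D : Set G)) = 2 * d := by
    have hle : Subgroup.zpowers v ≤ Subgroup.normalizer (D : Set G) := hND ▸ le_sup_right
    rw [hND, sup_comm, CfsgLib.Solvable.card_sup_of_disjoint hle ?_, Nat.card_zpowers, hv]
    · rw [inf_comm, eq_bot_iff]
      intro x hx
      obtain ⟨i, hi⟩ := Subgroup.mem_zpowers_iff.1 hx.2
      rcases Int.even_or_odd i with ⟨j, hj⟩ | ⟨j, hj⟩
      · rw [← hi, hj, zpow_add, ← (Commute.refl v).mul_zpow, show v * v = 1 by rw [← pow_two, ← hv, pow_orderOf_eq_one],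
          one_zpow]
        exact one_mem _
      · exfalso
        apply hvD
        have : x = v := by
          rw [← hi, hj, zpow_add_one, two_mul, zpow_add, ← (Commute.refl v).mul_zpow,
            show v * v = 1 by rw [← pow_two, ← hv, pow_orderOf_eq_one], one_zpow, one_mul]
        exact this ▸ hx.1
  have hNDtop : Subgroup.normalizer (D : Set G) ≠ ⊤ := fun h => by
    rcases IsSimpleGroup.eq_bot_or_eq_top_of_normal D (Subgroup.normalizer_eq_top_iff.1 h) with h' | h'
    · exact hDne h'
    · exact hvD (h' ▸ Subgroup.mem_top v)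
  have hd4 : 2 * d ∣ 4 * n := hNDcard ▸ heven _ hNDtop (hNDcard ▸ dvd_mul_right 2 d)
  have hNQcard : Nat.card (Subgroup.normalizer (Q : Set G)) = q * d := by
    have hle : D ≤ Subgroup.normalizer (Q : Set G) := hNQ ▸ le_sup_right
    rw [hNQ, sup_comm, CfsgLib.Solvable.card_sup_of_disjoint hle ?_, mul_comm]
    rw [inf_comm]; exact hQD
  have hNQtop : Subgroup.normalizer (Q : Set G) ≠ ⊤ := fun h => by
    rcases IsSimpleGroup.eq_bot_or_eq_top_of_normal Q (Subgroup.normalizer_eq_top_iff.1 h) with h' | h'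
    · exact hQ1 h'
    · have : q = Nat.card G := by rw [hq, h', Subgroup.card_top]
      have h2 : q * 1 < q * ((q + 1) * d) := Nat.mul_lt_mul_of_pos_left (by nlinarith) (by omega)
      rw [mul_one, ← mul_assoc] at h2
      omega
  rcases Nat.mod_two_eq_zero_or_one d with hde | hdo
  · -- `q` would be a power of three with `q - 1` dividing four
    have h1 : q * d ∣ 4 * n :=
      hNQcard ▸ heven _ hNQtop (hNQcard ▸ dvd_mul_of_dvd_right (Nat.dvd_of_mod_eq_zero hde) q)
    have hq3 : q ∣ n := by
      refine (Nat.Coprime.dvd_mul_left ?_).1 ((dvd_mul_right q d).trans h1)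
      rw [show (4 : ℕ) = 2 ^ 2 by norm_num]
      exact Nat.Coprime.pow_right 2 (Nat.coprime_two_right.2 (Nat.odd_iff.2 (by omega)))
    obtain ⟨j, -, hj⟩ := (Nat.dvd_prime_pow Nat.prime_three).1 (hn3 ▸ hq3)
    have hj0 : j ≠ 0 := fun h => by rw [h] at hj; simp at hj; omega
    have hd3 : ¬ 3 ∣ d := by
      intro h3
      have : 3 ∣ q := hj ▸ dvd_pow_self 3 hj0
      omega
    have h2 : 2 * d ∣ 4 := by
      refine (Nat.Coprime.dvd_mul_right ?_).1 hd4
      rw [hn3]
      exact Nat.Coprime.pow_right k ((Nat.coprime_mul_iff_left).2 ⟨by norm_num,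
        ((Nat.Prime.coprime_iff_not_dvd Nat.prime_three).2 hd3).symm⟩)
    have h3 := Nat.le_of_dvd (by norm_num) h2
    obtain rfl : j = 0 := by
      have hq5 : q ≤ 5 := by omega
      by_contra hj'
      rcases Nat.lt_or_ge j 2 with h | h
      · obtain rfl : j = 1 := by omega
        simp at hj; omega
      · have := Nat.pow_le_pow_right (show 0 < 3 by norm_num) h
        omega
    exact hj0 rfl
  · -- `D` would be a Sylow 3-subgroup with too small a normalizer
    have hdn : d ∣ n := by
      refine (Nat.Coprime.dvd_mul_left ?_).1 ((dvd_mul_left d 2).trans hd4)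
      rw [show (4 : ℕ) = 2 ^ 2 by norm_num]
      exact Nat.Coprime.pow_right 2 (Nat.coprime_two_right.2 (Nat.odd_iff.2 hdo))
    obtain ⟨j, -, hj⟩ := (Nat.dvd_prime_pow Nat.prime_three).1 (hn3 ▸ hdn)
    have hj0 : j ≠ 0 := fun h => by rw [h] at hj; simp at hj; omega
    have h3d : 3 ∣ d := hj ▸ dvd_pow_self 3 hj0
    have hndd : n ∣ d := by
      refine (Nat.Coprime.dvd_mul_left ?_).1 (show n ∣ (q * (q + 1)) * d from hordG ▸ Subgroup.card_subgroup_dvd_card (P : Subgroup G))
      rw [hn3]
      refine Nat.Coprime.pow_left k ?_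
      rw [Nat.coprime_mul_iff_right]
      constructor <;> (rw [Nat.Prime.coprime_iff_not_dvd Nat.prime_three]; omega)
    have hdn' : d = n := Nat.dvd_antisymm hdn hndd
    obtain ⟨P', hP'⟩ := (IsPGroup.of_card (p := 3) (n := j) (G := D) hj).exists_le_sylow
    have hDP' : D = (P' : Subgroup G) := by
      refine Subgroup.eq_of_le_of_card_ge hP' ?_
      rw [P'.card_eq_multiplicity, ← P.card_eq_multiplicity]
      show n ≤ d
      omega
    have h1 : Nat.card (Subgroup.normalizer ((P' : Subgroup G) : Set G)) = Nat.card N := by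
      have e1 : (Subgroup.normalizer ((P' : Subgroup G) : Set G)).index = N.index :=
        (P'.card_eq_index_normalizer).symm.trans (P.card_eq_index_normalizer)
      have e2 := (Subgroup.normalizer ((P' : Subgroup G) : Set G)).card_mul_index
      have e3 := N.card_mul_index
      rw [e1, ← e3] at e2
      exact Nat.eq_of_mul_eq_mul_right (Nat.pos_of_ne_zero Subgroup.index_ne_zero_of_finite) e2
    rw [← hDP', hNDcard, hN, hdn'] at h1
    change 2 * n = 4 * n at h1
    omega

end Cfsg.Agent.S4018
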