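import Cfsg.Statements.S4020
import Cfsg.Agent.GrossEq.Main
-- import your own Cfsg.Agent.* helpers here

set_option autoImplicit false
open Cfsg

namespace Cfsg.Agent.S4020

/-- Let G be a finite group in which, for every prime p, any two p-subgroups of the same order are conjugate. Then every Sylow subgroup of G is cyclic, elementary abelian, or a quaternion group of order 8. -/
theorem result {G : Type*} [Group G] [Finite G]
    (hD : ∀ p : ℕ, p.Prime → ∀ H K : Subgroup G, IsPGroup p H → IsPGroup p K → Nat.card H = Nat.card K →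
      ∃ g : G, K = H.map (MulAut.conj g).toMonoidHom) {p : ℕ} [Fact p.Prime] (P : Sylow p G) :
    IsCyclic P ∨ Cfsg.IsElementaryAbelian p (P : Subgroup G) ∨ Nonempty ((P : Subgroup G) ≃* QuaternionGroup 2) := by
  rcases CfsgLib.GrossEq.cyclic_or_exponent_or_quaternion (hD p Fact.out) P with h | h | ⟨-, h⟩
  · exact Or.inl h
  · refine Or.inr (Or.inl ?_)
    by_cases hc : ∀ a b : (P : Subgroup G), a * b = b * a
    · exact ⟨⟨⟨hc⟩⟩, fun a ha => congrArg Subtype.val (h ⟨a, ha⟩)⟩
    · push_neg at hc
      by_cases hp2 : p = 2
      · subst hp2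
        obtain ⟨a, b, hab⟩ := hc
        have hinv : ∀ c : (P : Subgroup G), c⁻¹ = c :=
          fun c => inv_eq_of_mul_eq_one_right (by rw [← sq]; exact h c)
        exact absurd (by
          have := hinv (a * b)
          rw [mul_inv_rev, hinv, hinv] at this
          exact this.symm) hab
      · exact (CfsgLib.GrossEq.cube_impossible hp2 (hD 2 Nat.prime_two) (hD p Fact.out) P h hc).elim
  · exact Or.inr (Or.inr h)

end Cfsg.Agent.S4020
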