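import Cfsg.Statements.S4027
import Cfsg.Agent.FGSB.Small

set_option autoImplicit false
open Cfsg

namespace Cfsg.Agent.S4027

/-- Let G be a finite group in which every element x of odd order satisfies N_G(⟨x⟩) = C_G(x). Then the Sylow 2-subgroups of G are normal. -/
theorem result {G : Type*} [Group G] [Finite G]
    (hirr : ∀ x : G, (∀ r : ℕ, r.Prime → r ∣ orderOf x → r ≠ 2) →
      Subgroup.normalizer ((Subgroup.zpowers x : Subgroup G) : Set G) ≤ Subgroup.centralizer {x}) (P : Sylow 2 G) :
    (P : Subgroup G).Normal := by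
  refine CfsgLib.FGSBSmall.sylow_two_normal_of_no_inverted (fun x g hodd hinv => ?_) P
  have hn : g ∈ Subgroup.normalizer ((Subgroup.zpowers x : Subgroup G) : Set G) :=
    CfsgLib.FGSBSmall.inv_mem_normalizer_of_conj_mem (hinv ▸ inv_mem (Subgroup.mem_zpowers x))
  have hc := Subgroup.mem_centralizer_singleton_iff.1
    (hirr x (fun r _ hd hr => hodd.not_two_dvd_nat (hr ▸ hd)) hn)
  rw [hc, mul_inv_cancel_right] at hinv
  have h2 : orderOf x ∣ 2 := orderOf_dvd_of_pow_eq_one (by rw [pow_two]; exact eq_inv_iff_mul_eq_one.1 hinv)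
  rcases (Nat.dvd_prime Nat.prime_two).1 h2 with h | h
  · exact orderOf_eq_one_iff.1 h
  · exact absurd (h ▸ dvd_rfl) hodd.not_two_dvd_nat

end Cfsg.Agent.S4027
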