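import Cfsg.Statements.S4028
import Cfsg.Agent.FGSB.Small

set_option autoImplicit false
open Cfsg

namespace Cfsg.Agent.S4028

/-- Let G be a finite group with Sylow 2-subgroup P. Then N_G(⟨x⟩) = C_G(x) holds for every 2-element x of G if and only if N_P(⟨y⟩) = C_P(y) holds for every y ∈ P (computed inside P). -/
theorem result {G : Type*} [Group G] [Finite G] (P : Sylow 2 G) :
    (∀ x : G, (∀ r : ℕ, r.Prime → r ∣ orderOf x → r = 2) →
      Subgroup.normalizer ((Subgroup.zpowers x : Subgroup G) : Set G) ≤ Subgroup.centralizer {x}) ↔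
    (∀ y : ↥(P : Subgroup G), Subgroup.normalizer ((Subgroup.zpowers y : Subgroup ↥(P : Subgroup G)) : Set ↥(P : Subgroup G)) ≤
        Subgroup.centralizer {y}) := by
  have : Fact (Nat.Prime 2) := ⟨Nat.prime_two⟩
  constructor
  · intro h y g hg
    obtain ⟨k, hk⟩ := IsPGroup.iff_orderOf.1 P.isPGroup' y
    rw [Subgroup.mem_centralizer_singleton_iff]
    apply Subtype.ext
    refine Subgroup.mem_centralizer_singleton_iff.1 (h (y : G) (fun r hr hd => ?_) ?_)
    · rw [Subgroup.orderOf_coe, hk] at hd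
      exact (Nat.prime_dvd_prime_iff_eq hr Nat.prime_two).1 (hr.dvd_of_dvd_pow hd)
    · refine CfsgLib.FGSBSmall.inv_mem_normalizer_of_conj_mem ?_
      obtain ⟨i, hi⟩ := (Subgroup.mem_normalizer_iff.1 hg y).1 (Subgroup.mem_zpowers y)
      exact ⟨i, by simpa using congrArg Subtype.val hi⟩
  · intro h x hx g hg
    obtain ⟨k, hk⟩ : ∃ k, orderOf x = 2 ^ k :=
      ⟨_, Nat.eq_prime_pow_of_unique_prime_dvd (orderOf_pos x).ne' fun {d} hd hdx => hx d hd hdx⟩
    have hgx : g * x * g⁻¹ ∈ Subgroup.zpowers x :=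
      (Subgroup.mem_normalizer_iff.1 hg x).1 (Subgroup.mem_zpowers x)
    obtain ⟨a, b, rfl, ha, hb, ⟨j, hj⟩, hbo⟩ := CfsgLib.FGSBSmall.exists_prime_split Nat.prime_two g
    have haN : a ∈ Subgroup.normalizer ((Subgroup.zpowers x : Subgroup G) : Set G) :=
      Subgroup.zpowers_le.2 hg ha
    have hbN : b ∈ Subgroup.normalizer ((Subgroup.zpowers x : Subgroup G) : Set G) :=
      Subgroup.zpowers_le.2 hg hb
    -- the odd part
    have hbx : Commute b x := by
      refine CfsgLib.FGSBSmall.commute_of_totient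
        ((Subgroup.mem_normalizer_iff.1 hbN x).1 (Subgroup.mem_zpowers x)) ?_
      rcases k with _ | k
      · rw [hk]; simp
      · rw [hk, Nat.totient_prime_pow Nat.prime_two (by omega)]
        simpa using Nat.Coprime.pow_right k hbo
    -- the 2-part
    have hax : Commute a x := by
      set S := Subgroup.zpowers a ⊔ Subgroup.zpowers x with hS
      have hdvd := CfsgLib.Solvable.card_sup_dvd
        (A := Subgroup.zpowers a) (K := Subgroup.zpowers x) (Subgroup.zpowers_le.2 haN)
      rw [Nat.card_zpowers, Nat.card_zpowers, hj, hk, ← pow_add] at hdvd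
      obtain ⟨e, -, he⟩ := (Nat.dvd_prime_pow Nat.prime_two).1 hdvd
      obtain ⟨Q, hQ⟩ := (IsPGroup.of_card he).exists_le_sylow
      obtain ⟨c, hc⟩ := MulAction.exists_smul_eq G Q P
      have hmem : ∀ z ∈ S, c * z * c⁻¹ ∈ (P : Subgroup G) := fun z hz => by
        rw [← hc]
        exact Subgroup.smul_mem_pointwise_smul z (MulAut.conj c) _ (hQ hz)
      let y : ↥(P : Subgroup G) := ⟨c * x * c⁻¹, hmem x (Subgroup.mem_sup_right (Subgroup.mem_zpowers x))⟩
      let a' : ↥(P : Subgroup G) := ⟨c * a * c⁻¹, hmem a (Subgroup.mem_sup_left (Subgroup.mem_zpowers a))⟩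
      have hn : a' ∈ Subgroup.normalizer ((Subgroup.zpowers y : Subgroup ↥(P : Subgroup G)) : Set ↥(P : Subgroup G)) := by
        refine CfsgLib.FGSBSmall.inv_mem_normalizer_of_conj_mem ?_
        obtain ⟨i, hi⟩ := (Subgroup.mem_normalizer_iff.1 haN x).1 (Subgroup.mem_zpowers x)
        refine ⟨i, Subtype.ext ?_⟩
        change x ^ i = a * x * a⁻¹ at hi
        simp only [SubgroupClass.coe_zpow, y, a', conj_zpow, hi, Subgroup.coe_mul, Subgroup.coe_inv]
        group
      have h2 := congrArg Subtype.val (Subgroup.mem_centralizer_singleton_iff.1 (h y hn))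
      simp only [y, a', Subgroup.coe_mul] at h2
      have h3 : c * (a * x) * c⁻¹ = c * (x * a) * c⁻¹ := by
        calc c * (a * x) * c⁻¹ = c * a * c⁻¹ * (c * x * c⁻¹) := by group
          _ = c * x * c⁻¹ * (c * a * c⁻¹) := h2
          _ = c * (x * a) * c⁻¹ := by group
      exact mul_left_cancel (mul_right_cancel h3)
    rw [Subgroup.mem_centralizer_singleton_iff]
    exact (hax.mul_left hbx).eq

end Cfsg.Agent.S4028
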