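import Cfsg.Statements.S4029
import Cfsg.Agent.Char.BrauerPerm
import Cfsg.Agent.Char.Inflation
import Cfsg.Agent.Solvable.PGroupBasic
-- import your own Cfsg.Agent.* helpers here

set_option autoImplicit false
open Cfsg

namespace Cfsg.Agent.S4029

/-- Let P be a finite 2-group in which N_P(⟨y⟩) = C_P(y) for every y ∈ P. If s is the number of conjugacy classes of involutions of P, then #(P/Φ(P)) ≤ s + 1; in particular the subgroup generated by the involutions of P has order at least #(P/Φ(P)). -/
theorem result {P : Type*} [Group P] [Finite P] (hP : IsPGroup 2 P)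
    (hirr : ∀ y : P, Subgroup.normalizer ((Subgroup.zpowers y : Subgroup P) : Set P) ≤ Subgroup.centralizer {y}) :
    Nat.card (P ⧸ frattini P) ≤ Nat.card {c : ConjClasses P // ∃ y : P, ConjClasses.mk y = c ∧ orderOf y = 2} + 1 ∧
    Nat.card (P ⧸ frattini P) ≤ Nat.card (Subgroup.closure {y : P | orderOf y = 2}) := by
  classical
  haveI : Fact (Nat.Prime 2) := ⟨Nat.prime_two⟩
  haveI hΦn : (frattini P).Normal := inferInstance
  obtain ⟨hc, hsq⟩ := CfsgLib.PGroupBasic.commutator_pow_le_frattini (p := 2) hP
  set Q := P ⧸ frattini P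
  have hinv : ∀ x : Q, x⁻¹ = x := fun x => QuotientGroup.induction_on x fun g => by
    refine inv_eq_of_mul_eq_one_right ?_
    rw [← QuotientGroup.mk_mul, QuotientGroup.eq_one_iff, ← pow_two]
    exact hsq g
  have hcomm : ∀ a b : Q, a * b = b * a := fun a b => by
    have h := hinv (a * b)
    rwa [mul_inv_rev, hinv a, hinv b, eq_comm] at h
  -- every class of the elementary abelian quotient is real
  have hQcls : Nat.card {C : ConjClasses Q // ∀ g : Q, ConjClasses.mk g = C → IsConj g g⁻¹} = Nat.card Q := by
    have h1 : ∀ C : ConjClasses Q, ∀ g : Q, ConjClasses.mk g = C → IsConj g g⁻¹ := fun C g _ => by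
      rw [hinv]
    rw [Nat.card_congr (Equiv.subtypeUnivEquiv h1)]
    refine (Nat.card_congr (Equiv.ofBijective ConjClasses.mk ⟨fun a b h => ?_, ConjClasses.mk_surjective⟩)).symm
    obtain ⟨c, hc⟩ := isConj_iff.1 (ConjClasses.mk_eq_mk_iff_isConj.1 h)
    rw [← hc, hcomm c a, mul_inv_cancel_right]
  have hle : Nat.card {χ : Cfsg.IrrCharacter Q // ∀ g : Q, ((χ : Q → ℂ) g).im = 0} ≤
      Nat.card {χ : Cfsg.IrrCharacter P // ∀ g : P, ((χ : P → ℂ) g).im = 0} := by
    haveI : Finite (Cfsg.IrrCharacter P) := inferInstance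
    refine Nat.card_le_card_of_injective (fun χ => ⟨⟨fun g => (χ.1 : Q → ℂ) g,
      CfsgLib.Char.IsIrrCharacter.comp_surjective χ.1.2 (QuotientGroup.mk' (frattini P))
        (QuotientGroup.mk'_surjective _)⟩, fun g => χ.2 g⟩) fun a b h => ?_
    refine Subtype.ext (Subtype.ext (funext fun x => QuotientGroup.induction_on x fun g => ?_))
    exact congrFun (congrArg Subtype.val (congrArg Subtype.val h)) g
  rw [CfsgLib.Char.card_real_irr, CfsgLib.Char.card_real_irr, hQcls] at hle
  -- a real class consists of elements of order at most two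
  have hreal : ∀ g : P, IsConj g g⁻¹ → g = 1 ∨ orderOf g = 2 := by
    intro g hg
    obtain ⟨c, hc'⟩ := isConj_iff.1 hg
    have hn : c ∈ Subgroup.normalizer ((Subgroup.zpowers g : Subgroup P) : Set P) := by
      refine Subgroup.mem_normalizer_fintype fun n hn => ?_
      obtain ⟨k, rfl⟩ := hn
      show c * g ^ k * c⁻¹ ∈ Subgroup.zpowers g
      rw [← conj_zpow, hc']
      exact zpow_mem (inv_mem (Subgroup.mem_zpowers g)) k
    rw [Subgroup.mem_centralizer_singleton_iff.1 (hirr g hn), mul_inv_cancel_right] at hc'
    rcases eq_or_ne g 1 with h | h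
    · exact Or.inl h
    · refine Or.inr (orderOf_eq_prime ?_ h)
      rw [pow_two]
      nth_rewrite 2 [hc']
      exact mul_inv_cancel g
  set S := {c : ConjClasses P // ∃ y : P, ConjClasses.mk y = c ∧ orderOf y = 2}
  have hcls : Nat.card {C : ConjClasses P // ∀ g : P, ConjClasses.mk g = C → IsConj g g⁻¹} ≤ Nat.card S + 1 := by
    have h1 : ∀ C : {C : ConjClasses P // ∀ g : P, ConjClasses.mk g = C → IsConj g g⁻¹}, C.1 ≠ ConjClasses.mk 1 →
        ∃ y : P, ConjClasses.mk y = C.1 ∧ orderOf y = 2 := by
      rintro ⟨C, hC⟩ hne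
      obtain ⟨g, rfl⟩ := ConjClasses.mk_surjective C
      exact ⟨g, rfl, (hreal g (hC g rfl)).resolve_left fun e => hne (e ▸ rfl)⟩
    let f : {C : ConjClasses P // ∀ g : P, ConjClasses.mk g = C → IsConj g g⁻¹} → Option S := fun C =>
      if h : C.1 = ConjClasses.mk 1 then none else some ⟨C.1, h1 C h⟩
    have hf : Function.Injective f := fun a b e => by
      simp only [f] at e
      split_ifs at e with ha hb hb
      · exact Subtype.ext (ha.trans hb.symm)
      · have e2 := Option.some_inj.1 e
        exact Subtype.ext (congrArg (fun c : S => c.1) e2)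
    refine (Nat.card_le_card_of_injective f hf).trans ?_
    rw [Finite.card_option]
  have hfirst : Nat.card Q ≤ Nat.card S + 1 := hle.trans hcls
  refine ⟨hfirst, hfirst.trans ?_⟩
  -- classes of involutions lie in the subgroup generated by the involutions
  set W := Subgroup.closure {y : P | orderOf y = 2}
  choose y hy hy2 using fun c : S => c.2
  let f : Option S → W := fun o => o.elim 1 fun c => ⟨y c, Subgroup.subset_closure (hy2 c)⟩
  have hone : ∀ c : S, y c ≠ 1 := fun c e => by
    have := hy2 c
    rw [e, orderOf_one] at this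
    omega
  have hf : Function.Injective f := by
    rintro (_ | a) (_ | b) e
    · rfl
    · exact absurd (congrArg Subtype.val e).symm (hone b)
    · exact absurd (congrArg Subtype.val e) (hone a)
    · have e' : y a = y b := congrArg Subtype.val e
      exact congrArg some (Subtype.ext (by rw [← hy a, ← hy b, e']))
  have := Nat.card_le_card_of_injective f hf
  rwa [Finite.card_option] at this

end Cfsg.Agent.S4029
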