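import Cfsg.Statements.S4032
import Cfsg.Agent.FGSB.Small

set_option autoImplicit false
open Cfsg

namespace Cfsg.Agent.S4032

/-- Let π be a set of primes and G a finite group in which N_G(⟨x⟩) = C_G(x) for every π-element x. If N is a normal subgroup of G whose order is divisible by no prime of π, then G/N has the same property: N_{G/N}(⟨y⟩) = C_{G/N}(y) for every π-element y of G/N. -/
theorem result {G : Type*} [Group G] [Finite G] (π : Set ℕ)
    (hirr : ∀ x : G, (∀ r : ℕ, r.Prime → r ∣ orderOf x → r ∈ π) →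
      Subgroup.normalizer ((Subgroup.zpowers x : Subgroup G) : Set G) ≤ Subgroup.centralizer {x})
    (N : Subgroup G) [N.Normal] (hN : ∀ r : ℕ, r.Prime → r ∣ Nat.card N → r ∉ π) :
    ∀ y : G ⧸ N, (∀ r : ℕ, r.Prime → r ∣ orderOf y → r ∈ π) →
      Subgroup.normalizer ((Subgroup.zpowers y : Subgroup (G ⧸ N)) : Set (G ⧸ N)) ≤ Subgroup.centralizer {y} := by
  intro y hy g' hg'
  obtain ⟨x, rfl, hx⟩ := CfsgLib.FGSBSmall.exists_pi_lift N (fun r => r ∈ π) y hy
  obtain ⟨g, rfl⟩ := QuotientGroup.mk_surjective g'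
  have hcop : (orderOf x).Coprime (Nat.card N) :=
    Nat.coprime_of_dvd fun r hr h1 h2 => hN r hr h2 (hx r hr h1)
  have hgx : g * x * g⁻¹ ∈ Subgroup.zpowers x ⊔ N := by
    obtain ⟨i, hi⟩ := (Subgroup.mem_normalizer_iff.1 hg' x).1 (Subgroup.mem_zpowers _)
    change (x : G ⧸ N) ^ i = _ at hi
    rw [← QuotientGroup.mk_zpow, ← QuotientGroup.mk_inv, ← QuotientGroup.mk_mul,
      ← QuotientGroup.mk_mul, QuotientGroup.eq] at hi
    have h := Subgroup.mul_mem _ (Subgroup.mem_sup_left (T := N) (Subgroup.zpow_mem _ (Subgroup.mem_zpowers x) i))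
      (Subgroup.mem_sup_right (S := Subgroup.zpowers x) hi)
    rwa [mul_inv_cancel_left] at h
  obtain ⟨k, hk, hn⟩ := CfsgLib.FGSBSmall.exists_normalizing_lift N hcop hgx
  have hc := congrArg (fun z : G => (z : G ⧸ N))
    (Subgroup.mem_centralizer_singleton_iff.1 (hirr x hx hn))
  simp only [QuotientGroup.mk_mul, (QuotientGroup.eq_one_iff k).2 hk, one_mul] at hc
  rw [Subgroup.mem_centralizer_singleton_iff]
  exact hc

end Cfsg.Agent.S4032
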