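import Cfsg.Statements.S4035
import Cfsg.Agent.FGSB.Small
import Cfsg.Agent.FGSB.PRegClass

set_option autoImplicit false
open Cfsg

namespace Cfsg.Agent.S4035

/-- Let G be a finite group and p a prime such that p divides the size of no conjugacy class of p-regular elements (elements of order prime to p). Then G is the internal direct product of a Sylow p-subgroup P and a normal subgroup H of order prime to p: P is normal, P ⊓ H = 1 and PH = G. -/
theorem result {G : Type*} [Group G] [Finite G] {p : ℕ} [Fact p.Prime]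
    (h : ∀ x : G, (orderOf x).Coprime p → ¬ p ∣ (ConjClasses.mk x).carrier.ncard) (P : Sylow p G) :
    (P : Subgroup G).Normal ∧ ∃ H : Subgroup G, H.Normal ∧ ¬ p ∣ Nat.card H ∧
      (P : Subgroup G) ⊓ H = ⊥ ∧ (P : Subgroup G) ⊔ H = ⊤ := by
  have hp := (Fact.out : p.Prime)
  have hsyl : ∀ x : G, (orderOf x).Coprime p → ∀ R : Sylow p ↥(Subgroup.centralizer ({x} : Set G)),
      ∀ Q : Sylow p G, Nat.card (R : Subgroup ↥(Subgroup.centralizer ({x} : Set G))) = Nat.card (Q : Subgroup G) := by
    intro x hx R Q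
    rw [R.card_eq_multiplicity, Q.card_eq_multiplicity]
    congr 1
    have hd := h x hx
    rw [CfsgLib.PRegClass.ncard_carrier] at hd
    conv_rhs => rw [← (Subgroup.centralizer ({x} : Set G)).card_mul_index,
      Nat.factorization_mul Nat.card_pos.ne' Subgroup.index_ne_zero_of_finite]
    simp [Nat.factorization_eq_zero_of_not_dvd hd]
  have hcov : ∀ g : G, ∃ c : G,
      c⁻¹ * g * c ∈ (P : Subgroup G) ⊔ Subgroup.centralizer ((P : Subgroup G) : Set G) := by
    intro g
    obtain ⟨a, b, rfl, ha, hb, ⟨k, hk⟩, hbo⟩ := CfsgLib.FGSBSmall.exists_prime_split hp g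
    set C := Subgroup.centralizer ({b} : Set G)
    have haC : a ∈ C := by
      obtain ⟨i, hi⟩ := ha
      obtain ⟨j, hj⟩ := hb
      rw [Subgroup.mem_centralizer_singleton_iff]
      have h1 := (Commute.zpow_zpow_self (a * b) i j).eq
      simp only at hi hj
      rw [hi, hj] at h1
      exact h1
    obtain ⟨R, hR⟩ := (IsPGroup.of_card (p := p) (G := Subgroup.zpowers (⟨a, haC⟩ : ↥C)) (n := k)
      (by rw [Nat.card_zpowers, ← Subgroup.orderOf_coe, hk])).exists_le_sylow
    obtain ⟨Q, hQ⟩ := (R.isPGroup'.map C.subtype).exists_le_sylow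
    have heq : (R : Subgroup ↥C).map C.subtype = (Q : Subgroup G) := Subgroup.eq_of_le_of_card_ge hQ
      (by rw [Subgroup.card_map_of_injective C.subtype_injective, hsyl b hbo R Q])
    obtain ⟨c, rfl⟩ := MulAction.exists_smul_eq G P Q
    refine ⟨c, ?_⟩
    rw [show c⁻¹ * (a * b) * c = (c⁻¹ * a * c) * (c⁻¹ * b * c) by group]
    refine Subgroup.mul_mem _ (Subgroup.mem_sup_left ?_) (Subgroup.mem_sup_right ?_)
    · have h1 : a ∈ ((c • P : Sylow p G) : Subgroup G) := heq ▸
        Subgroup.mem_map_of_mem C.subtype (hR (Subgroup.mem_zpowers _))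
      rw [Sylow.coe_subgroup_smul, Subgroup.mem_pointwise_smul_iff_inv_smul_mem] at h1
      simpa [mul_assoc] using h1
    · rw [Subgroup.mem_centralizer_iff]
      intro y hy
      obtain ⟨r, -, hr⟩ : ∃ r ∈ (R : Subgroup ↥C), (r : G) = c * y * c⁻¹ := by
        have h1 : c * y * c⁻¹ ∈ (R : Subgroup ↥C).map C.subtype :=
          heq.symm ▸ Subgroup.smul_mem_pointwise_smul y (MulAut.conj c) _ hy
        exact h1
      have h2 := Subgroup.mem_centralizer_singleton_iff.1 r.2
      rw [hr] at h2
      calc y * (c⁻¹ * b * c) = c⁻¹ * (c * y * c⁻¹ * b) * c := by group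
        _ = c⁻¹ * (b * (c * y * c⁻¹)) * c := by rw [h2]
        _ = c⁻¹ * b * c * y := by group
  have htop := CfsgLib.FGSBSmall.eq_top_of_conj_cover hcov
  have hn : (P : Subgroup G).Normal := by
    rw [← Subgroup.normalizer_eq_top_iff, eq_top_iff, ← htop]
    exact sup_le Subgroup.le_normalizer (Subgroup.centralizer_le_normalizer _)
  refine ⟨hn, CfsgLib.FGSBSmall.exists_complement_of_centralized P fun g hg => ?_⟩
  obtain ⟨R⟩ := (inferInstance : Nonempty (Sylow p ↥(Subgroup.centralizer ({g} : Set G))))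
  obtain ⟨Q, hQ⟩ := (R.isPGroup'.map (Subgroup.centralizer ({g} : Set G)).subtype).exists_le_sylow
  have heq := Subgroup.eq_of_le_of_card_ge hQ
    (by rw [Subgroup.card_map_of_injective (Subgroup.subtype_injective _), hsyl g hg R Q])
  have hsub : Subsingleton (Sylow p G) := @Unique.instSubsingleton _ (Sylow.unique_of_normal P hn)
  rw [Subgroup.mem_centralizer_iff]
  intro y hy
  have hy' : y ∈ (R : Subgroup _).map (Subgroup.centralizer ({g} : Set G)).subtype := by
    rw [heq, ← Subsingleton.elim P Q]; exact hy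
  obtain ⟨r, -, rfl⟩ := hy'
  exact Subgroup.mem_centralizer_singleton_iff.1 r.2

end Cfsg.Agent.S4035
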