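import Cfsg.Statements.S4036
import Cfsg.Agent.Coprime.Sylow

set_option autoImplicit false
open Cfsg

namespace Cfsg.Agent.S4036

/-- Let P be a finite abelian p-group and K a group of automorphisms of P (a subgroup of Aut P) whose order is divisible by p. If all non-identity elements of K have the same fixed-point subgroup on P, then K has no non-trivial normal subgroup of order prime to p. -/
theorem result {P : Type*} [CommGroup P] [Finite P] {p : ℕ}
    [Fact p.Prime] (hP : IsPGroup p P) (K : Subgroup (MulAut P)) (hK : p ∣ Nat.card K)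
    (hfix : ∀ x y : MulAut P, x ∈ K → y ∈ K → x ≠ 1 → y ≠ 1 → ∀ v : P, x v = v ↔ y v = v) :
    ∀ N : Subgroup ↥K, N.Normal → ¬ p ∣ Nat.card N → N = ⊥ := by
  intro N hN hpN
  have hp := (Fact.out : p.Prime)
  by_contra hne
  obtain ⟨n₀, hn₀, hn₀1⟩ := N.bot_or_exists_ne_one.resolve_left hne
  have hsmul : ∀ (n : ↥N) (v : P), n • v = ((n : ↥K) : MulAut P) v := fun _ _ => rfl
  have hcop : (Nat.card N).Coprime (Nat.card P) := by
    obtain ⟨v, hv⟩ := IsPGroup.iff_card.1 hP
    rw [hv]
    exact ((hp.coprime_iff_not_dvd.2 hpN).symm).pow_right v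
  set D := CfsgLib.Coprime.actCommutator P N with hD
  have hDne : D ≠ ⊥ := fun h => hn₀1 (by
    have h1 := CfsgLib.Coprime.actCommutator_eq_bot_iff.1 h
    apply Subtype.ext
    apply MulEquiv.ext
    intro v
    have := h1 ⟨n₀, hn₀⟩ v
    rw [hsmul] at this
    simpa using this)
  obtain ⟨x, hx⟩ := exists_prime_orderOf_dvd_card' p hK
  have hx1 : (x : MulAut P) ≠ 1 := fun h => by
    rw [← Subgroup.orderOf_coe, h, orderOf_one] at hx
    exact hp.ne_one hx.symm
  have hinv : ∀ (k : ↥K), ∀ v ∈ D, (k : MulAut P) v ∈ D := by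
    intro k v hv
    have h : D ≤ D.comap (k : MulAut P).toMonoidHom := by
      rw [hD, CfsgLib.Coprime.actCommutator_le_iff]
      intro a g
      have he : (k : MulAut P).toMonoidHom (g⁻¹ * a • g) =
          ((k : MulAut P) g)⁻¹ * (⟨k * a * k⁻¹, hN.conj_mem _ a.2 k⟩ : ↥N) • ((k : MulAut P) g) := by
        simp [hsmul]
      rw [Subgroup.mem_comap, he]
      exact CfsgLib.Coprime.inv_mul_smul_mem_actCommutator _ _
    exact h hv
  have hpg : IsPGroup p (Subgroup.zpowers x) :=
    IsPGroup.of_card (n := 1) (by rw [Nat.card_zpowers, hx, pow_one])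
  have hpD : p ∣ Nat.card D := by
    obtain ⟨v, hv⟩ := IsPGroup.iff_card.1 (hP.to_subgroup D)
    rcases v with _ | v
    · exact absurd (Subgroup.eq_bot_of_card_eq D (by rw [hv, pow_zero])) hDne
    · exact hv ▸ dvd_pow_self p (by omega)
  obtain ⟨v, hv, hv1, hfx⟩ := CfsgLib.Coprime.exists_fixed_ne_one_of_isPGroup
    (A := ↥(Subgroup.zpowers x)) hpg D (fun a w hw => hinv (a : ↥K) w hw) hpD
  apply hv1
  have hxv : (x : MulAut P) v = v := hfx ⟨x, Subgroup.mem_zpowers x⟩
  refine CfsgLib.Coprime.eq_one_of_mem_actCommutator_of_fixed hcop hv fun a => ?_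
  rw [hsmul]
  by_cases ha : ((a : ↥K) : MulAut P) = 1
  · rw [ha]; rfl
  · exact (hfix ((a : ↥K) : MulAut P) x a.1.2 x.2 ha hx1 v).2 hxv

end Cfsg.Agent.S4036
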