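import Cfsg.Statements.S4043
import Cfsg.Agent.FGSB.PRegClass
import Cfsg.Agent.Coprime.Sylow

set_option autoImplicit false
open Cfsg
open Pointwise

namespace Cfsg.Agent.S4043

/-- Let G be a finite group that is the semidirect product of a normal p-subgroup N by a subgroup A, and also of N by a subgroup A₁, where p is a prime and A and A₁ both have normal p-complements. If C_N(A) = C_N(A₁) = 1, then A₁ is conjugate to A by an element of N. -/
theorem result {G : Type*} [Group G] [Finite G] {p : ℕ}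
    [Fact p.Prime] (N : Subgroup G) [N.Normal] (hN : IsPGroup p N) (A A₁ : Subgroup G)
    (hA : A.IsComplement' N) (hA₁ : A₁.IsComplement' N)
    (hAp : Cfsg.HasNormalPComplement p A) (hA₁p : Cfsg.HasNormalPComplement p A₁)
    (hC : ∀ n : G, n ∈ N → (∀ a : G, a ∈ A → a * n * a⁻¹ = n) → n = 1)
    (hC₁ : ∀ n : G, n ∈ N → (∀ a : G, a ∈ A₁ → a * n * a⁻¹ = n) → n = 1) :
    ∃ n : G, n ∈ N ∧ A₁ = A.map (MulAut.conj n).toMonoidHom := by
  have hp := (Fact.out : p.Prime)
  -- the normal complement of such a subgroup, seen in `G`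
  have get : ∀ B : Subgroup G, B.IsComplement' N → Cfsg.HasNormalPComplement p B →
      ∃ K P : Subgroup G, K ≤ B ∧ P ≤ B ∧ B ≤ Subgroup.normalizer (K : Set G) ∧ IsPGroup p P ∧
        K ⊔ P = B ∧ ¬ p ∣ Nat.card K ∧ (K.map (QuotientGroup.mk' N)).Normal ∧
        ∃ j, (K.map (QuotientGroup.mk' N)).index = p ^ j := by
    rintro B hB ⟨S, M, hM, hMS⟩
    refine ⟨M.map B.subtype, (S : Subgroup ↥B).map B.subtype, Subgroup.map_subtype_le _,
      Subgroup.map_subtype_le _, ?_, S.isPGroup'.map _, ?_, ?_, ?_, ?_⟩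
    · rw [← Subgroup.normal_subgroupOf_iff_le_normalizer (Subgroup.map_subtype_le M),
        Subgroup.subgroupOf, Subgroup.comap_map_eq_self_of_injective B.subtype_injective]
      exact hM
    · rw [← Subgroup.map_sup, hMS.sup_eq_top, ← MonoidHom.range_eq_map, Subgroup.range_subtype]
    · rw [Subgroup.card_map_of_injective B.subtype_injective, ← hMS.index_eq_card]
      exact S.not_dvd_index
    all_goals
      have hsurj : Function.Surjective ((QuotientGroup.mk' N).comp B.subtype) := by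
        intro q
        obtain ⟨g, rfl⟩ := QuotientGroup.mk'_surjective N q
        obtain ⟨⟨b, n⟩, rfl⟩ := hB.2 g
        refine ⟨b, ?_⟩
        simp [(QuotientGroup.eq_one_iff (n : G)).2 n.2]
      rw [Subgroup.map_map]
    · exact hM.map _ hsurj
    · obtain ⟨v, hv⟩ := IsPGroup.iff_card.1 S.isPGroup'
      obtain ⟨j, -, hj⟩ := (Nat.dvd_prime_pow hp).1
        ((M.index_map_dvd hsurj).trans (by rw [hMS.symm.index_eq_card, hv]))
      exact ⟨j, hj⟩
  obtain ⟨K, P, hKA, hPA, hAK, hP, hKP, hpK, hKn, j, hj⟩ := get A hA hAp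
  obtain ⟨K₁, P₁, hK₁A, -, hA₁K, -, -, hpK₁, hK₁n, j₁, hj₁⟩ := get A₁ hA₁ hA₁p
  set f := QuotientGroup.mk' N
  have hmap : K.map f = K₁.map f := by
    have h1 : ¬ p ∣ Nat.card (K.map f) := fun h => hpK (h.trans (Subgroup.card_map_dvd _ _))
    have h2 : ¬ p ∣ Nat.card (K₁.map f) := fun h => hpK₁ (h.trans (Subgroup.card_map_dvd _ _))
    exact le_antisymm (CfsgLib.PRegClass.le_of_normal_coprime hp hj₁ h2 h1)
      (CfsgLib.PRegClass.le_of_normal_coprime hp hj h1 h2)
  have hinj : ∀ B C : Subgroup G, B.IsComplement' N → C ≤ B →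
      Nat.card (C.map f) = Nat.card C := by
    intro B C hB hC
    let φ := f.subgroupMap C
    refine (Nat.card_eq_of_bijective φ ⟨?_, f.subgroupMap_surjective C⟩).symm
    rw [← MonoidHom.ker_eq_bot_iff, eq_bot_iff]
    intro c hc
    rw [Subgroup.mem_bot]
    apply Subtype.ext
    have h1 : (c : G) ∈ N := (QuotientGroup.eq_one_iff (c : G)).1
      (congrArg Subtype.val (MonoidHom.mem_ker.1 hc))
    exact Subgroup.disjoint_def.1 hB.disjoint (hC c.2) h1
  have hcop : (Nat.card K).Coprime (Nat.card N) := by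
    obtain ⟨v, hv⟩ := IsPGroup.iff_card.1 hN
    rw [hv]
    exact ((hp.coprime_iff_not_dvd.2 hpK).symm).pow_right v
  have hNsol : Group.IsSolvable N := CfsgLib.PRegClass.isSolvable_of_isPGroup hp hN
  obtain ⟨n, hn, hKK⟩ := CfsgLib.SZ.conj_rel (A := K) (B := K₁) (K := N)
    Subgroup.le_normalizer_of_normal hcop (Or.inr hNsol) (by
      have h1 : K₁ ≤ (K.map f).comap f := hmap ▸ Subgroup.le_comap_map f K₁
      rwa [Subgroup.comap_map_eq, QuotientGroup.ker_mk'] at h1)
    (by rw [← hinj A₁ K₁ hA₁ hK₁A, ← hmap, hinj A K hA hKA])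
  -- `N_G(K) = A`
  have hNK : Subgroup.normalizer (K : Set G) ≤ A := by
    intro g hg
    obtain ⟨⟨a, m⟩, rfl⟩ := hA.2 g
    have hm : (m : G) ∈ Subgroup.normalizer (K : Set G) := by
      have h1 := Subgroup.mul_mem _ (Subgroup.inv_mem _ (hAK a.2)) hg
      rwa [inv_mul_cancel_left] at h1
    suffices hm1 : (m : G) = 1 by simp [hm1]
    have hcomm : ∀ z ∈ N ⊓ Subgroup.normalizer (K : Set G), ∀ k ∈ K, k * z = z * k := by
      intro z hz k hk
      have h1 : z * k * z⁻¹ * k⁻¹ ∈ K :=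
        K.mul_mem ((Subgroup.mem_normalizer_iff.1 (Subgroup.mem_inf.1 hz).2 k).1 hk) (K.inv_mem hk)
      have h2 : z * k * z⁻¹ * k⁻¹ ∈ N := by
        rw [show z * k * z⁻¹ * k⁻¹ = z * (k * z⁻¹ * k⁻¹) by group]
        exact N.mul_mem (Subgroup.mem_inf.1 hz).1
          (Subgroup.Normal.conj_mem inferInstance _ (N.inv_mem (Subgroup.mem_inf.1 hz).1) k)
      have h3 := Subgroup.disjoint_def.1 hA.disjoint (hKA h1) h2
      rw [mul_inv_eq_one, mul_inv_eq_iff_eq_mul] at h3
      exact h3.symm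
    by_contra hm1
    set Z := N ⊓ Subgroup.normalizer (K : Set G)
    have hmZ : (m : G) ∈ Z := Subgroup.mem_inf.2 ⟨m.2, hm⟩
    have hpZ : p ∣ Nat.card Z := by
      obtain ⟨v, hv⟩ := IsPGroup.iff_card.1 (hN.to_le (inf_le_left : Z ≤ N))
      rcases v with _ | v
      · exfalso
        have := Subgroup.eq_bot_of_card_eq Z (by rw [hv, pow_zero])
        rw [this, Subgroup.mem_bot] at hmZ
        exact hm1 hmZ
      · exact hv ▸ dvd_pow_self p (by omega)
    let _ := CfsgLib.Coprime.conjAction G P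
    obtain ⟨x, hx, hx1, hfix⟩ := CfsgLib.Coprime.exists_fixed_ne_one_of_isPGroup (A := ↥P) hP Z
      (fun a z hz => Subgroup.mem_inf.2
        ⟨Subgroup.Normal.conj_mem inferInstance _ (Subgroup.mem_inf.1 hz).1 _,
          Subgroup.mul_mem _ (Subgroup.mul_mem _ (hAK (hPA a.2)) (Subgroup.mem_inf.1 hz).2)
            (Subgroup.inv_mem _ (hAK (hPA a.2)))⟩) hpZ
    apply hx1
    refine hC x (Subgroup.mem_inf.1 hx).1 ?_
    suffices hle : A ≤ Subgroup.centralizer ({x} : Set G) from fun a ha =>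
      mul_inv_eq_iff_eq_mul.2 (Subgroup.mem_centralizer_singleton_iff.1 (hle ha))
    rw [← hKP]
    refine sup_le (fun k hk => ?_) (fun a ha => ?_)
    · exact Subgroup.mem_centralizer_singleton_iff.2 (hcomm x hx k hk)
    · exact Subgroup.mem_centralizer_singleton_iff.2 (mul_inv_eq_iff_eq_mul.1 (hfix ⟨a, ha⟩))
  refine ⟨n, hn, Subgroup.eq_of_le_of_card_ge ?_ ?_⟩
  · intro g hg
    have h1 := hA₁K hg
    rw [← hKK, CfsgLib.SZ.conj_smul_eq_map] at h1
    have h2 : (MulAut.conj n)⁻¹ g ∈ Subgroup.normalizer (K : Set G) := by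
      rw [Subgroup.mem_normalizer_iff]
      intro k
      have e : ∀ w, w ∈ K.map (MulAut.conj n).toMonoidHom ↔ n⁻¹ * w * n ∈ K := fun w => by
        rw [Subgroup.mem_map_equiv]; simp
      have := Subgroup.mem_normalizer_iff.1 h1 (MulAut.conj n k)
      rw [e, e] at this
      simpa [mul_assoc] using this
    exact ⟨_, hNK h2, by simp [mul_assoc]⟩
  · rw [Subgroup.card_map_of_injective (MulEquiv.injective _)]
    have h1 := hA.card_mul
    have h2 := hA₁.card_mul
    exact (Nat.eq_of_mul_eq_mul_right Nat.card_pos (h1.trans h2.symm)).le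

end Cfsg.Agent.S4043
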