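import Cfsg.Statements.S4049
import Cfsg.Agent.FGSB.Small

set_option autoImplicit false
open Cfsg

namespace Cfsg.Agent.S4049

/-- Let G be a finite group such that N_G(H)/C_G(H) has odd order for every nontrivial subgroup H of odd order. Then the Sylow 2-subgroups of G are normal. -/
theorem result {G : Type*} [Group G] [Finite G]
    (hhom : ∀ H : Subgroup G, H ≠ ⊥ → ¬ 2 ∣ Nat.card ↥H →
        ¬ 2 ∣ (Subgroup.centralizer (H : Set G)).relIndex (Subgroup.normalizer (H : Set G))) (P : Sylow 2 G) :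
    (P : Subgroup G).Normal := by
  refine CfsgLib.FGSBSmall.sylow_two_normal_of_no_inverted (fun x g hodd hinv => ?_) P
  by_contra hx1
  have hn : g ∈ Subgroup.normalizer ((Subgroup.zpowers x : Subgroup G) : Set G) :=
    CfsgLib.FGSBSmall.inv_mem_normalizer_of_conj_mem (hinv ▸ inv_mem (Subgroup.mem_zpowers x))
  have hrel := hhom (Subgroup.zpowers x) (Subgroup.zpowers_ne_bot.2 hx1)
    (by rw [Nat.card_zpowers]; exact hodd.not_two_dvd_nat)
  set H := Subgroup.zpowers x with hH
  set N := Subgroup.normalizer (H : Set G) with hN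
  have : ((Subgroup.centralizer (H : Set G)).subgroupOf N).Normal := by
    rw [hN, ← Subgroup.normalizerMonoidHom_ker H]
    infer_instance
  set C := (Subgroup.centralizer (H : Set G)).subgroupOf N
  set u : ↥N ⧸ C := QuotientGroup.mk (⟨g, hn⟩ : ↥N) with hu
  have hmem : ∀ y : ↥N, (y : G) * x = x * y → y ∈ C := fun y hy => by
    rw [Subgroup.mem_subgroupOf, hH, Subgroup.zpowers_eq_closure, Subgroup.centralizer_closure, Subgroup.mem_centralizer_singleton_iff]
    exact hy
  have hsq : u ^ 2 = 1 := by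
    rw [hu, ← QuotientGroup.mk_pow, QuotientGroup.eq_one_iff]
    refine hmem _ (mul_inv_eq_iff_eq_mul.1 ?_)
    calc ((⟨g, hn⟩ ^ 2 : ↥N) : G) * x * ((⟨g, hn⟩ ^ 2 : ↥N) : G)⁻¹ = g * (g * x * g⁻¹) * g⁻¹ := by
          simp [pow_two, mul_assoc]
      _ = x := by rw [hinv, ← conj_inv, hinv, inv_inv]
  have hne : u ≠ 1 := by
    intro h1
    rw [hu, QuotientGroup.eq_one_iff, Subgroup.mem_subgroupOf, hH, Subgroup.zpowers_eq_closure, Subgroup.centralizer_closure,
      Subgroup.mem_centralizer_singleton_iff] at h1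
    simp only at h1
    rw [h1, mul_inv_cancel_right] at hinv
    have h2 : orderOf x ∣ 2 :=
      orderOf_dvd_of_pow_eq_one (by rw [pow_two]; exact eq_inv_iff_mul_eq_one.1 hinv)
    rcases (Nat.dvd_prime Nat.prime_two).1 h2 with h | h
    · exact hx1 (orderOf_eq_one_iff.1 h)
    · exact absurd (h ▸ dvd_rfl) hodd.not_two_dvd_nat
  have hd : orderOf u = 2 := orderOf_eq_prime hsq hne
  apply hrel
  rw [← hd]
  exact orderOf_dvd_natCard u

end Cfsg.Agent.S4049
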