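import Cfsg.Statements.S4050
import Cfsg.Agent.FGSB.PiClosed

set_option autoImplicit false
open Cfsg

namespace Cfsg.Agent.S4050

/-- Let π be a set of primes and G a finite group. The π-elements of G (elements whose order is divisible only by primes of π) form a subgroup if and only if G is π-separable (it has a chain of normal subgroups from 1 to G with each successive index divisible only by primes in π or only by primes outside π) and N_G(H)/C_G(H) is a π'-group for every nontrivial π'-subgroup H of G. -/
theorem result {G : Type*} [Group G] [Finite G] (π : Set ℕ)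
    (hπ : ∀ p ∈ π, p.Prime) :
    (∃ K : Subgroup G, ∀ x : G, x ∈ K ↔ ∀ p : ℕ, p.Prime → p ∣ orderOf x → p ∈ π) ↔
    ((∃ (n : ℕ) (H : Fin (n + 1) → Subgroup G), H 0 = ⊥ ∧ H (Fin.last n) = ⊤ ∧ Monotone H ∧ (∀ i, (H i).Normal) ∧
      ∀ i : Fin n, (∀ q : ℕ, q.Prime → q ∣ (H i.castSucc).relIndex (H i.succ) → q ∈ π) ∨
        (∀ q : ℕ, q.Prime → q ∣ (H i.castSucc).relIndex (H i.succ) → q ∉ π)) ∧
     (∀ H : Subgroup G, H ≠ ⊥ → (∀ p : ℕ, p.Prime → p ∣ Nat.card ↥H → p ∉ π) →
        ∀ p : ℕ, p.Prime → p ∣ (Subgroup.centralizer (H : Set G)).relIndex (Subgroup.normalizer (H : Set G)) → p ∉ π)) := by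
  classical
  open CfsgLib.PiClosed Subgroup in
  constructor
  · rintro ⟨K, hK⟩
    have hKn : K.Normal := ⟨fun y hy g => (hK _).2 (fun p hp hd => (hK y).1 hy p hp (by
      have e : orderOf (g * y * g⁻¹) = orderOf y :=
        orderOf_injective (MulAut.conj g).toMonoidHom (MulAut.conj g).injective y
      rwa [e] at hd))⟩
    haveI := hKn
    refine ⟨⟨2, ![⊥, K, ⊤], rfl, rfl, ?_, ?_, ?_⟩, ?_⟩
    · intro i j hij
      fin_cases i <;> fin_cases j <;> simp_all
    · intro i
      fin_cases i
      · exact Subgroup.normal_bot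
      · exact hKn
      · exact Subgroup.normal_top
    · intro i
      fin_cases i
      · refine Or.inl fun q hq hd => ?_
        have hd' : q ∣ Nat.card K := by
          have : (⊥ : Subgroup G).relIndex K = Nat.card K := Subgroup.relIndex_bot_left K
          rw [← this]; exact hd
        haveI := Fact.mk hq
        obtain ⟨y, hy⟩ := exists_prime_orderOf_dvd_card' q hd'
        exact (hK y).1 y.2 q hq (by rw [Subgroup.orderOf_coe, hy])
      · refine Or.inr fun q hq hd hqπ => ?_
        have hd' : q ∣ K.index := by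
          rw [← Subgroup.relIndex_top_right K]; exact hd
        haveI := Fact.mk hq
        obtain ⟨Q⟩ : Nonempty (Sylow q G) := inferInstance
        refine Q.not_dvd_index (hd'.trans (Subgroup.index_dvd_of_le fun y hy => (hK y).2 ?_))
        intro p hp hdp
        obtain ⟨j, hj⟩ := IsPGroup.iff_orderOf.1 Q.2 ⟨y, hy⟩
        rw [Subgroup.orderOf_mk] at hj
        rw [hj] at hdp
        exact (Nat.prime_dvd_prime_iff_eq hp hq).1 (hp.dvd_of_dvd_pow hdp) ▸ hqπ
    · intro H hH1 hH p hp hd hpπ
      haveI := Fact.mk hp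
      set N := normalizer (H : Set G)
      haveI hn : ((centralizer (H : Set G)).subgroupOf N).Normal := ⟨fun c hc g => by
        rw [mem_subgroupOf] at hc ⊢
        refine mem_centralizer_iff.2 fun y hy => ?_
        have h1 := mem_centralizer_iff.1 hc _ ((mem_normalizer_iff''.1 g.2 y).1 hy)
        calc y * ((g : G) * c * (g : G)⁻¹) = (g : G) * (((g : G)⁻¹ * y * g) * c) * (g : G)⁻¹ := by group
          _ = ((g : G) * c * (g : G)⁻¹) * y := by rw [h1]; group⟩
      rw [relIndex, index_eq_card] at hd
      obtain ⟨q, hq⟩ := exists_prime_orderOf_dvd_card' p hd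
      obtain ⟨g, rfl⟩ := QuotientGroup.mk_surjective q
      obtain ⟨j, hj⟩ := CfsgLib.TwoSizes.part_order g hp
      set m := orderOf g / p ^ (orderOf g).factorization p
      have hgK : ((g ^ m : N) : G) ∈ K := (hK _).2 fun r hr hdr => by
        rw [Subgroup.orderOf_coe, hj] at hdr
        exact (Nat.prime_dvd_prime_iff_eq hr hp).1 (hr.dvd_of_dvd_pow hdr) ▸ hpπ
      have hc : ((g ^ m : N) : G) ∈ centralizer (H : Set G) := by
        refine mem_centralizer_iff.2 fun y hy => ?_
        set x := ((g ^ m : N) : G)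
        have h1 : x * y * x⁻¹ * y⁻¹ ∈ H :=
          mul_mem ((mem_normalizer_iff.1 (g ^ m).2 y).1 hy) (inv_mem hy)
        have h2 : x * y * x⁻¹ * y⁻¹ ∈ K := by
          have : x * y * x⁻¹ * y⁻¹ = x * (y * x⁻¹ * y⁻¹) := by group
          rw [this]
          exact mul_mem hgK (hKn.conj_mem _ (inv_mem hgK) y)
        have h3 : orderOf (x * y * x⁻¹ * y⁻¹) = 1 :=
          Nat.eq_one_of_dvd_coprimes (CfsgLib.PiClosed.coprime_of ((hK _).1 h2) hH) dvd_rfl
            (Subgroup.orderOf_dvd_natCard H h1)
        rw [orderOf_eq_one_iff, mul_inv_eq_one] at h3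
        exact (mul_inv_eq_iff_eq_mul.1 h3).symm
      have hz : (g : N ⧸ (centralizer (H : Set G)).subgroupOf N) ^ m = 1 := by
        rw [← QuotientGroup.mk_pow, QuotientGroup.eq_one_iff]
        exact hc
      have := orderOf_dvd_of_pow_eq_one hz
      rw [hq] at this
      exact Nat.not_dvd_ordCompl hp (orderOf_pos g).ne' this
  · rintro ⟨⟨n, H, h0, hlast, hmono, hnorm, hfac⟩, hhom⟩
    have hh := CfsgLib.PiClosed.hom'_of_relIndex hhom
    have key : ∀ i : Fin (n + 1), CfsgLib.PiClosed.Closed π (H i) := by
      intro i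
      induction i using Fin.induction with
      | zero =>
        refine ⟨⊤, fun x => ⟨fun _ p hp hd => ?_, fun _ => mem_top x⟩⟩
        have hx : x = 1 := Subtype.ext (by simpa [h0] using x.2)
        rw [hx, orderOf_one] at hd
        exact absurd hd hp.not_dvd_one
      | succ i ih =>
        haveI := hnorm i.castSucc
        set K := (H i.castSucc).subgroupOf (H i.succ)
        refine closed_extension (hh.subgroup _) K ?_ ?_
        · obtain ⟨L, hL⟩ := ih
          let e := Subgroup.subgroupOfEquivOfLe (hmono (Fin.castSucc_le_succ i))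
          refine ⟨L.comap e.toMonoidHom, fun x => ?_⟩
          rw [mem_comap, MulEquiv.coe_toMonoidHom, hL]
          exact isPiElt_iff_of_injective e.toMonoidHom e.injective x
        · have hidx : K.index = (H i.castSucc).relIndex (H i.succ) := rfl
          rcases hfac i with hf | hf
          · refine ⟨⊤, fun x => ⟨fun _ p hp hd => hf p hp ?_, fun _ => mem_top x⟩⟩
            rw [← hidx, index_eq_card]
            exact hd.trans (orderOf_dvd_natCard x)
          · refine ⟨⊥, fun x => ⟨fun hx p hp hd => ?_, fun hx => ?_⟩⟩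
            · rw [mem_bot.1 hx, orderOf_one] at hd
              exact absurd hd hp.not_dvd_one
            · rw [mem_bot, ← orderOf_eq_one_iff]
              by_contra hne
              obtain ⟨p, hp, hpd⟩ := Nat.exists_prime_and_dvd hne
              refine hf p hp ?_ (hx p hp hpd)
              rw [← hidx, index_eq_card]
              exact hpd.trans (orderOf_dvd_natCard x)
    obtain ⟨L, hL⟩ := key (Fin.last n)
    refine ⟨L.map (H (Fin.last n)).subtype, fun x => ?_⟩
    constructor
    · rintro ⟨y, hy, rfl⟩
      exact (isPiElt_iff_of_injective _ (H (Fin.last n)).subtype_injective y).2 ((hL y).1 hy)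
    · intro hx
      refine ⟨⟨x, hlast ▸ mem_top x⟩, (hL _).2 ?_, rfl⟩
      exact (isPiElt_iff_of_injective _ (H (Fin.last n)).subtype_injective
        (⟨x, hlast ▸ mem_top x⟩ : H (Fin.last n))).1 hx

end Cfsg.Agent.S4050
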