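import Cfsg.Statements.S4052
import Cfsg.Agent.DPiHom.Fusion
import Cfsg.Agent.Char.BrauerSuzukiTransfer

set_option autoImplicit false
open Cfsg

namespace Cfsg.Agent.S4052

/-- Let π be a set of primes and G a finite group whose maximal π-subgroups are pairwise conjugate (so Hall π-subgroups exist, any two are conjugate, and every π-subgroup lies in one of them), and suppose N_G(H)/C_G(H) is a π-group for every nontrivial π-subgroup H. If either 3 does not divide the order of G, or the π'-elements of every proper subgroup of G form a subgroup, then the π'-elements of G form a subgroup. -/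
theorem result {G : Type*} [Group G] [Finite G] (π : Set ℕ)
    (hπ : ∀ p ∈ π, p.Prime) (hD : Cfsg.IsDPiGroup π G) (hhom : (∀ H : Subgroup G, H ≠ ⊥ → (∀ p : ℕ, p.Prime → p ∣ Nat.card ↥H → p ∈ π) →
        ∀ p : ℕ, p.Prime → p ∣ (Subgroup.centralizer (H : Set G)).relIndex (Subgroup.normalizer (H : Set G)) → p ∈ π))
    (hcase : ¬ 3 ∣ Nat.card G ∨ ∀ M : Subgroup G, M ≠ ⊤ →
      ∃ L : Subgroup ↥M, ∀ x : ↥M, x ∈ L ↔ ∀ p : ℕ, p.Prime → p ∣ orderOf x → p ∉ π) :
    (∃ K : Subgroup G, ∀ x : G, x ∈ K ↔ ∀ p : ℕ, p.Prime → p ∣ orderOf x → p ∉ π) := by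
  classical
  let _ := hπ
  let _ := hcase
  -- a maximal π-subgroup
  have hbot : IsPiSubgroup π (⊥ : Subgroup G) := fun q hq hd => by
    rw [Subgroup.card_bot] at hd
    exact absurd hd hq.not_dvd_one
  obtain ⟨H, -, hH⟩ := Finite.exists_le_maximal hbot
  have hdom : ∀ Y : Subgroup G, IsPiSubgroup π Y → ∃ g : G, ∀ y ∈ Y, g * y * g⁻¹ ∈ H := by
    intro Y hY
    obtain ⟨L, hYL, hL⟩ := Finite.exists_le_maximal hY
    obtain ⟨g, hg⟩ := hD H L hH hL
    refine ⟨g⁻¹, fun y hy => ?_⟩
    obtain ⟨h, hh, hhy⟩ := (hg ▸ hYL hy : y ∈ H.map (MulAut.conj g).toMonoidHom)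
    rw [← hhy]
    simpa [mul_assoc] using hh
  have hy : CfsgLib.DPiHom.Hyp π H := by
    refine ⟨hH.1, hdom, fun Y hY n hn hord y hy => ?_⟩
    suffices hc : n ∈ Subgroup.centralizer (Y : Set G) by
      rw [← Subgroup.mem_centralizer_iff.1 hc y hy]
      group
    rcases eq_or_ne Y ⊥ with hY1 | hY1
    · subst hY1
      rw [Subgroup.mem_centralizer_iff]
      intro z hz
      rw [SetLike.mem_coe, Subgroup.mem_bot] at hz
      simp [hz]
    set N := Subgroup.normalizer (Y : Set G)
    haveI hCn : ((Subgroup.centralizer (Y : Set G)).subgroupOf N).Normal := by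
      constructor
      rintro ⟨c, hc'⟩ hc ⟨g, hg⟩
      rw [Subgroup.mem_subgroupOf] at hc ⊢
      simp only [Subgroup.coe_mul, InvMemClass.coe_inv]
      rw [Subgroup.mem_centralizer_iff] at hc ⊢
      intro b hb
      have h1 : g⁻¹ * b * g ∈ Y := by
        have := (Subgroup.mem_normalizer_iff.1 (inv_mem hg) b).1 hb
        rwa [inv_inv] at this
      calc b * (g * c * g⁻¹) = g * (g⁻¹ * b * g * c) * g⁻¹ := by group
        _ = g * (c * (g⁻¹ * b * g)) * g⁻¹ := by rw [hc _ h1]
        _ = g * c * g⁻¹ * b := by group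
    have h1 : ((⟨n, hn⟩ : N) : N ⧸ (Subgroup.centralizer (Y : Set G)).subgroupOf N) = 1 := by
      rw [← orderOf_eq_one_iff]
      by_contra hne
      obtain ⟨q, hq, hqd⟩ := Nat.exists_prime_and_dvd hne
      refine hord q hq ?_ (hhom Y hY1 hY q hq (hqd.trans (orderOf_dvd_natCard _)))
      exact hqd.trans ((orderOf_map_dvd (QuotientGroup.mk' _) (⟨n, hn⟩ : N)).trans
        (Subgroup.orderOf_mk n hn).dvd)
    exact Subgroup.mem_subgroupOf.1 ((QuotientGroup.eq_one_iff _).1 h1)
  -- `H` is a Hall π-subgroup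
  have hidx : ∀ q : ℕ, q.Prime → q ∈ π → ¬ q ∣ H.index := by
    intro q hq hqπ hd
    haveI := Fact.mk hq
    obtain ⟨Q⟩ := (inferInstance : Nonempty (Sylow q G))
    obtain ⟨g, hg⟩ := hdom _ (CfsgLib.DPiHom.pi_of_pGroup hqπ Q.isPGroup')
    refine Q.not_dvd_index (hd.trans ?_)
    rw [← Subgroup.index_map_of_bijective (f := (MulAut.conj g).toMonoidHom)
      (MulAut.conj g).bijective (Q : Subgroup G)]
    refine Subgroup.index_dvd_of_le ?_
    rintro _ ⟨y, hy', rfl⟩
    simpa using hg y hy'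
  have hHall : Nat.Coprime (Nat.card H) H.index :=
    Nat.coprime_of_dvd fun q hq h1 h2 => hidx q hq (hH.1 q hq h1) h2
  obtain ⟨K, hKn, hsup, hinf⟩ := CfsgLib.Char.exists_normal_complement_of_fusion hHall
    (fun x hx y hy' hxy => by
      obtain ⟨g, hg⟩ := isConj_iff.1 hxy
      subst hg
      exact hy.fusion x hx g hy')
    (fun E q _ _ hE => by
      obtain ⟨g, hg⟩ := hdom E (fun r hr hd => hH.1 r hr (hd.trans hE))
      refine ⟨g, ?_⟩
      rintro _ ⟨y, hy', rfl⟩
      simpa using hg y hy')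
  haveI := hKn
  have hcard : Nat.card K * Nat.card H = Nat.card G := by
    have := CfsgLib.Solvable.card_sup_mul_card_inf
      (Subgroup.le_normalizer_of_normal : H ≤ Subgroup.normalizer (K : Set G))
    rw [sup_comm, hsup, inf_comm, hinf, Subgroup.card_top, Subgroup.card_bot, mul_one] at this
    rw [this, mul_comm]
  have hKcard : Nat.card K = H.index := by
    refine Nat.eq_of_mul_eq_mul_left (Nat.card_pos (α := H)) ?_
    rw [H.card_mul_index, mul_comm, hcard]
  have hKidx : K.index = Nat.card H := by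
    refine Nat.eq_of_mul_eq_mul_left (Nat.card_pos (α := K)) ?_
    rw [K.card_mul_index, hcard]
  refine ⟨K, fun x => ⟨fun hx q hq hd hqπ => ?_, fun hx => ?_⟩⟩
  · exact hidx q hq hqπ (hKcard ▸ hd.trans (K.orderOf_dvd_natCard hx))
  · rw [← QuotientGroup.eq_one_iff, ← orderOf_eq_one_iff]
    by_contra hne
    obtain ⟨q, hq, hqd⟩ := Nat.exists_prime_and_dvd hne
    refine hx q hq (hqd.trans (orderOf_map_dvd (QuotientGroup.mk' K) x)) (hH.1 q hq ?_)
    exact hKidx ▸ hqd.trans (orderOf_dvd_natCard _)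

end Cfsg.Agent.S4052
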