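import Cfsg.Statements.S4056
import Cfsg.Agent.Solvable.PGroupBasic

set_option autoImplicit false
open Cfsg
open scoped commutatorElement

namespace Cfsg.Agent.S4056

/-- In a finite 2-group of nilpotency class at most 2 and exponent dividing 4, the Frattini subgroup lies in the centre and is elementary abelian. -/
theorem result {P : Type*} [Group P] [Finite P] (hP : IsPGroup 2 P)
    (hcl : Group.nilpotencyClass P ≤ 2) (hexp : Monoid.exponent P ∣ 4) :
    frattini P ≤ Subgroup.center P ∧ Cfsg.IsElementaryAbelian 2 (frattini P) := by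
  have : Fact (Nat.Prime 2) := ⟨Nat.prime_two⟩
  have : Group.IsNilpotent P := hP.isNilpotent
  have h4 : ∀ x : P, x ^ 4 = 1 := fun x => by
    obtain ⟨k, hk⟩ := hexp
    rw [hk, pow_mul, Monoid.pow_exponent_eq_one, one_pow]
  have hU := Subgroup.upperCentralSeries_eq_top_iff_nilpotencyClass_le.2 hcl
  have hcc : ∀ x y : P, x * y * x⁻¹ * y⁻¹ ∈ Subgroup.center P := fun x y => by
    have h1 : x ∈ Subgroup.upperCentralSeries P (1 + 1) := by rw [hU]; exact Subgroup.mem_top x
    rw [Subgroup.mem_upperCentralSeries_succ_iff] at h1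
    have h2 := h1 y
    rw [Subgroup.upperCentralSeries_one] at h2
    simpa [commutatorElement_def] using h2
  let W : Subgroup P :=
    { carrier := {z | z ∈ Subgroup.center P ∧ z ^ 2 = 1}
      mul_mem' := fun {a b} ha hb => ⟨Subgroup.mul_mem _ ha.1 hb.1, by
        rw [(show Commute a b from Subgroup.mem_center_iff.1 hb.1 a).mul_pow, ha.2, hb.2, one_mul]⟩
      one_mem' := ⟨Subgroup.one_mem _, one_pow 2⟩
      inv_mem' := fun {a} ha => ⟨Subgroup.inv_mem _ ha.1, by rw [inv_pow, ha.2, inv_one]⟩ }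
  have : W.Normal := ⟨fun z hz g => by
    rw [Subgroup.mem_center_iff.1 hz.1 g, mul_inv_cancel_right]; exact hz⟩
  have hc2 : ∀ x y : P, (x * y * x⁻¹ * y⁻¹) ^ 2 = 1 := by
    intro x y
    set c := x * y * x⁻¹ * y⁻¹ with hc
    have hcz : ∀ w, Commute c w := fun w => (Subgroup.mem_center_iff.1 (hcc x y) w).symm
    have e1 : x * y = c * (y * x) := by rw [hc]; group
    have e2 : (x * x) * y = c ^ 2 * (y * (x * x)) := by
      calc (x * x) * y = x * (x * y) := mul_assoc x x y
        _ = x * (c * (y * x)) := by rw [e1]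
        _ = c * (x * y) * x := by rw [← mul_assoc, ← (hcz x).eq]; group
        _ = c * (c * (y * x)) * x := by rw [e1]
        _ = c ^ 2 * (y * (x * x)) := by rw [pow_two]; group
    have e3 : Commute (x * x) (y * y) := by
      show x * x * (y * y) = y * y * (x * x)
      calc x * x * (y * y) = c ^ 2 * (y * (x * x)) * y := by rw [← mul_assoc, e2]
        _ = c ^ 2 * y * ((x * x) * y) := by group
        _ = c ^ 2 * y * (c ^ 2 * (y * (x * x))) := by rw [e2]
        _ = c ^ 2 * (y * c ^ 2) * (y * (x * x)) := by group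
        _ = c ^ 2 * (c ^ 2 * y) * (y * (x * x)) := by rw [((hcz y).pow_left 2).eq]
        _ = c ^ 4 * (y * y * (x * x)) := by rw [show (c : P) ^ 4 = c ^ 2 * c ^ 2 by rw [← pow_add]]; group
        _ = y * y * (x * x) := by rw [h4, one_mul]
    have h1 : (y * x) ^ 2 = c * (y * y * (x * x)) := by
      calc (y * x) ^ 2 = y * (x * y) * x := by rw [pow_two]; group
        _ = y * (c * (y * x)) * x := by rw [e1]
        _ = (y * c) * y * x * x := by group
        _ = c * (y * y * (x * x)) := by rw [← (hcz y).eq]; group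
    have h5 := h4 (y * x)
    rw [show (4 : ℕ) = 2 * 2 by rfl, pow_mul, h1, (hcz _).mul_pow, (e3.symm).mul_pow,
      ← pow_two y, ← pow_two x, ← pow_mul, ← pow_mul, h4, h4, one_mul, mul_one] at h5
    exact h5
  have hsq : ∀ x : P, x ^ 2 ∈ W := fun x => by
    refine ⟨Subgroup.mem_center_iff.2 fun y => ?_, by rw [← pow_mul]; exact h4 x⟩
    set c := y * x * y⁻¹ * x⁻¹ with hc
    have hcx : Commute c x := (Subgroup.mem_center_iff.1 (hcc y x) x).symm
    have h1 : y * x ^ 2 * y⁻¹ = x ^ 2 := by
      rw [← conj_pow, show y * x * y⁻¹ = c * x by rw [hc]; group, hcx.mul_pow, hc2, one_mul]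
    exact mul_inv_eq_iff_eq_mul.1 h1
  have hle : frattini P ≤ W := by
    refine CfsgLib.PGroupBasic.frattini_le_of_elementary (p := 2) W ?_ ?_
    · rw [commutator_def, Subgroup.commutator_le]
      intro x _ y _
      rw [commutatorElement_def]
      exact ⟨hcc x y, hc2 x y⟩
    · exact hsq
  exact ⟨fun z hz => (hle hz).1, ⟨⟨fun a b => Subtype.ext (Subgroup.mem_center_iff.1 (hle b.2).1 a)⟩⟩,
    fun a ha => (hle ha).2⟩

end Cfsg.Agent.S4056
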