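import Cfsg.Statements.S4059
import Cfsg.Agent.FGSB.RealOdd

set_option autoImplicit false
open Cfsg

namespace Cfsg.Agent.S4059

/-- Let G be a finite group in which every element is conjugate to its inverse. Then: every non-identity element commuting with all elements of some Sylow 2-subgroup is an involution; the centre of G is an elementary abelian 2-group; the commutator quotient G/G' is an elementary abelian 2-group; and G is generated by its 2-elements. -/
theorem result {G : Type*} [Group G] [Finite G] (hamb : ∀ x : G, IsConj x x⁻¹) :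
    (∀ (S : Sylow 2 G) (x : G), x ∈ Subgroup.centralizer ((S : Subgroup G) : Set G) → x ≠ 1 → orderOf x = 2) ∧
    (∀ z : G, z ∈ Subgroup.center G → z ^ 2 = 1) ∧
    (∀ x : G, x ^ 2 ∈ commutator G) ∧
    Subgroup.closure {x : G | ∃ k : ℕ, orderOf x = 2 ^ k} = ⊤ := by
  have : Fact (Nat.Prime 2) := ⟨Nat.prime_two⟩
  refine ⟨fun S x hx hx1 => ?_, fun z hz => ?_, fun x => ?_, ?_⟩
  · obtain ⟨a, b, hab, ha, hb, ⟨k, hk⟩, hbo⟩ := CfsgLib.FGSBSmall.exists_prime_split Nat.prime_two x
    have hbodd : Odd (orderOf b) := Nat.not_even_iff_odd.1 fun he =>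
      Nat.prime_two.coprime_iff_not_dvd.1 hbo.symm (even_iff_two_dvd.1 he)
    have hb1 := CfsgLib.RealOdd.eq_one_of_centralizes S (Subgroup.zpowers_le.2 hx hb) hbodd (hamb b)
    rw [hb1, mul_one] at hab
    subst hab
    -- `a` is a 2-element centralising `S`, hence in `S`
    have haS : a ∈ (S : Subgroup G) := by
      have hp : IsPGroup 2 (Subgroup.zpowers a) :=
        IsPGroup.of_card (n := k) (by rw [Nat.card_zpowers, hk])
      have heq := S.3 (hp.to_sup_of_normal_right' S.isPGroup'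
        (Subgroup.zpowers_le.2 (Subgroup.centralizer_le_normalizer _ hx))) le_sup_right
      rw [← heq]
      exact Subgroup.mem_sup_left (Subgroup.mem_zpowers a)
    have hfix : ∀ s ∈ (S : Subgroup G), s * a * s⁻¹ = a := fun s hs => by
      rw [Subgroup.mem_centralizer_iff.1 hx s hs, mul_inv_cancel_right]
    obtain ⟨g, hg⟩ := isConj_iff.1 (hamb a)
    obtain ⟨n, hn, hna⟩ := CfsgLib.TransferBasic.fusion_normal_subsets S {a} {a⁻¹}
      (fun s hs => by rw [Set.image_singleton, hfix s hs])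
      (fun s hs => by rw [Set.image_singleton, ← conj_inv, hfix s hs]) g
      (by rw [Set.image_singleton, hg])
    rw [Set.image_singleton, Set.singleton_eq_singleton_iff] at hna
    obtain ⟨u, v, huv, hu, hv, ⟨j, hj⟩, hvo⟩ := CfsgLib.FGSBSmall.exists_prime_split Nat.prime_two n
    have huS : u ∈ (S : Subgroup G) := by
      have hp : IsPGroup 2 (Subgroup.zpowers u) :=
        IsPGroup.of_card (n := j) (by rw [Nat.card_zpowers, hj])
      have heq := S.3 (hp.to_sup_of_normal_right' S.isPGroup'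
        (Subgroup.zpowers_le.2 (Subgroup.zpowers_le.2 hn hu))) le_sup_right
      rw [← heq]
      exact Subgroup.mem_sup_left (Subgroup.mem_zpowers u)
    have hva : v * a * v⁻¹ = a⁻¹ := by
      have huv' : u * v = v * u := by
        obtain ⟨i, hi⟩ := hu
        obtain ⟨l, hl⟩ := hv
        have h1 := (Commute.zpow_zpow_self n i l).eq
        simp only at hi hl
        rw [hi, hl] at h1
        exact h1
      calc v * a * v⁻¹ = v * (u * a * u⁻¹) * v⁻¹ := by rw [hfix u huS]
        _ = (v * u) * a * (v * u)⁻¹ := by group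
        _ = a⁻¹ := by rw [← huv', huv, hna]
    have hpow : ∀ m : ℕ, Odd m → v ^ m * a * (v ^ m)⁻¹ = a⁻¹ := by
      rintro m ⟨t, rfl⟩
      have h2 : Commute (v ^ 2) a := by
        apply mul_inv_eq_iff_eq_mul.1
        calc v ^ 2 * a * (v ^ 2)⁻¹ = v * (v * a * v⁻¹) * v⁻¹ := by rw [pow_two]; group
          _ = v * a⁻¹ * v⁻¹ := by rw [hva]
          _ = (v * a * v⁻¹)⁻¹ := by group
          _ = a := by rw [hva, inv_inv]
      calc v ^ (2 * t + 1) * a * (v ^ (2 * t + 1))⁻¹
          = v * ((v ^ 2) ^ t * a * ((v ^ 2) ^ t)⁻¹) * v⁻¹ := by rw [pow_succ', pow_mul]; group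
        _ = a⁻¹ := by rw [(h2.pow_left t).eq, mul_inv_cancel_right, hva]
    have h1 := hpow _ (Nat.not_even_iff_odd.1 fun he =>
      Nat.prime_two.coprime_iff_not_dvd.1 hvo.symm (even_iff_two_dvd.1 he))
    rw [pow_orderOf_eq_one, one_mul, inv_one, mul_one] at h1
    exact orderOf_eq_prime (by rw [pow_two]; exact eq_inv_iff_mul_eq_one.1 h1) hx1
  · obtain ⟨g, hg⟩ := isConj_iff.1 (hamb z)
    rw [Subgroup.mem_center_iff.1 hz g, mul_inv_cancel_right] at hg
    rw [pow_two]; exact eq_inv_iff_mul_eq_one.1 hg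
  · obtain ⟨g, hg⟩ := isConj_iff.1 (hamb x)
    have hc : (g * x * g⁻¹ * x⁻¹)⁻¹ ∈ commutator G := Subgroup.inv_mem _ (by
      rw [commutator_def]
      exact Subgroup.commutator_mem_commutator (Subgroup.mem_top g) (Subgroup.mem_top x))
    rw [hg] at hc
    simpa [pow_two] using hc
  · set M := Subgroup.closure {x : G | ∃ k : ℕ, orderOf x = 2 ^ k} with hM
    rw [eq_top_iff]
    intro x _
    obtain ⟨a, b, rfl, -, -, ⟨k, hk⟩, hb⟩ := CfsgLib.FGSBSmall.exists_prime_split Nat.prime_two x
    refine Subgroup.mul_mem _ (Subgroup.subset_closure ⟨k, hk⟩) ?_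
    obtain ⟨g, hgk, hg⟩ := CfsgLib.RealOdd.exists_two_inverter (hamb b)
    have hgM : g ∈ M := Subgroup.subset_closure hgk
    have hgM' : b * g⁻¹ * b⁻¹ ∈ M := Subgroup.subset_closure (by
      obtain ⟨j, hj⟩ := hgk
      exact ⟨j, by rw [show b * g⁻¹ * b⁻¹ = MulAut.conj b g⁻¹ by simp, MulEquiv.orderOf_eq, orderOf_inv, hj]⟩)
    have h2 : (b ^ 2)⁻¹ ∈ M := by
      have := M.mul_mem hgM hgM'
      rw [show g * (b * g⁻¹ * b⁻¹) = (g * b * g⁻¹) * b⁻¹ by group, hg, ← mul_inv_rev, ← pow_two] at this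
      exact this
    obtain ⟨m, hm⟩ := exists_pow_eq_self_of_coprime (x := b) (n := 2) hb.symm
    rw [← hm]
    exact M.pow_mem (by simpa using M.inv_mem h2) m

end Cfsg.Agent.S4059
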