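import Cfsg.Statements.S4061
import Cfsg.Agent.LocalB.OddSignalizer
import Cfsg.Agent.InvChar.UniqueInvolution

set_option autoImplicit false
open Cfsg
set_option linter.style.haveILetI false

namespace Cfsg.Agent.S4061

theorem eq_one_of_sq {G : Type*} [Group G] {x : G} {m : ℕ} (hm : Odd m) (h1 : x ^ m = 1)
    (h2 : x * x = 1) : x = 1 := by
  obtain ⟨j, rfl⟩ := hm
  rw [pow_succ, pow_mul, pow_two, h2, one_pow, one_mul] at h1
  exact h1

theorem conj_pow_inv {G : Type*} [Group G] {x h : G} (hh : h * x * h⁻¹ = x⁻¹) :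
    Commute (h ^ 2) x ∧ ∀ m : ℕ, Odd m → h ^ m * x * (h ^ m)⁻¹ = x⁻¹ := by
  have h2 : Commute (h ^ 2) x := by
    have : h * (h * x * h⁻¹) * h⁻¹ = x := by rw [hh, ← conj_inv, hh, inv_inv]
    show h ^ 2 * x = x * h ^ 2
    rw [pow_two]
    calc h * h * x = (h * (h * x * h⁻¹) * h⁻¹) * (h * h) := by group
      _ = x * (h * h) := by rw [this]
  refine ⟨h2, ?_⟩
  rintro m ⟨j, rfl⟩
  have h3 : Commute ((h ^ 2) ^ j) x⁻¹ := (h2.pow_left j).inv_right
  rw [pow_succ, pow_mul]
  calc (h ^ 2) ^ j * h * x * ((h ^ 2) ^ j * h)⁻¹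
      = (h ^ 2) ^ j * (h * x * h⁻¹) * ((h ^ 2) ^ j)⁻¹ := by group
    _ = x⁻¹ := by rw [hh, h3.eq]; group

theorem unique_involution {G : Type*} [Group G] [Finite G] [Group.IsSolvable G]
    (hamb : ∀ x : G, IsConj x x⁻¹) (hone : ∀ s t : G, orderOf s = 2 → orderOf t = 2 → IsConj s t)
    (hcore : Cfsg.oddCore G = ⊥) {s t : G} (hs : orderOf s = 2) (ht : orderOf t = 2) : s = t := by
  have hnt : (⊤ : Subgroup G) ≠ ⊥ := by
    intro h
    have : s = 1 := Subgroup.mem_bot.mp (h ▸ Subgroup.mem_top s)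
    simp [this] at hs
  obtain ⟨V, hV, hV1, -, hVc, -, p, hp, hexp, hVp⟩ :=
    CfsgLib.Solvable.exists_normal_elementary_le hnt inferInstance
  obtain rfl : p = 2 := by
    by_contra h2
    haveI := Fact.mk hp
    obtain ⟨k, hk⟩ := IsPGroup.iff_card.mp hVp
    have hle : V ≤ Cfsg.oddCore G := CfsgLib.Solvable.le_pPrimeCore 2 hV
      (by rw [hk]; exact ((Nat.coprime_primes hp Nat.prime_two).mpr h2).pow_left k)
    exact hV1 (le_bot_iff.mp (hle.trans hcore.le))
  have hord : ∀ v ∈ V, v ≠ 1 → orderOf v = 2 := fun v hv h1 => orderOf_eq_prime (hexp v hv) h1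
  haveI : Nontrivial V := (Subgroup.nontrivial_iff_ne_bot V).2 hV1
  obtain ⟨⟨v0, hv0⟩, hv01⟩ := exists_ne (1 : V)
  have hv01' : v0 ≠ 1 := fun h => hv01 (Subtype.ext h)
  have hall : ∀ u : G, orderOf u = 2 → u ∈ V := by
    intro u hu
    obtain ⟨c, rfl⟩ := isConj_iff.mp (hone v0 u (hord v0 hv0 hv01') hu)
    exact hV.conj_mem v0 hv0 c
  have hcomm : ∀ a ∈ V, ∀ b ∈ V, a * b = b * a := fun a ha b hb =>
    congrArg Subtype.val (hVc.is_comm.comm ⟨a, ha⟩ ⟨b, hb⟩)
  have hsq : ∀ a ∈ V, a * a = 1 := fun a ha => by rw [← pow_two, hexp a ha]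
  have hinv : ∀ a ∈ V, a⁻¹ = a := fun a ha => inv_eq_of_mul_eq_one_right (hsq a ha)
  let C : Subgroup G := Subgroup.centralizer (V : Set G)
  have hC : ∀ c ∈ C, ∀ v ∈ V, v * c = c * v := fun c hc v hv => Subgroup.mem_centralizer_iff.mp hc v hv
  by_cases hCtop : C = ⊤
  · obtain ⟨c, rfl⟩ := isConj_iff.mp (hone s t hs ht)
    rw [← hC c (hCtop ▸ Subgroup.mem_top c) s (hall s hs), mul_assoc, mul_inv_cancel, mul_one]
  exfalso
  haveI : C.Normal := Subgroup.normal_centralizer
  let π := QuotientGroup.mk' C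
  have hXnt : (⊤ : Subgroup (G ⧸ C)) ≠ ⊥ := by
    intro h
    refine hCtop ((Subgroup.eq_top_iff' C).mpr fun g => ?_)
    exact (QuotientGroup.eq_one_iff g).mp (Subgroup.mem_bot.mp (h ▸ Subgroup.mem_top (π g)))
  obtain ⟨Nb, hNb, hNb1, -, hNbc, -, r, hr, hrexp, -⟩ :=
    CfsgLib.Solvable.exists_normal_elementary_le hXnt inferInstance
  let N : Subgroup G := Nb.comap π
  have hNn : N.Normal := hNb.comap π
  have hCN : C ≤ N := fun c hc => by
    show π c ∈ Nb
    rw [show π c = 1 from (QuotientGroup.eq_one_iff c).mpr hc]; exact Nb.one_mem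
  have hNr : ∀ g ∈ N, g ^ r ∈ C := fun g hg =>
    (QuotientGroup.eq_one_iff _).mp (show π (g ^ r) = 1 by rw [map_pow]; exact hrexp _ hg)
  have hNcomm : ∀ a ∈ N, ∀ b ∈ N, a * b * a⁻¹ * b⁻¹ ∈ C := by
    intro a ha b hb
    have h : π a * π b = π b * π a := congrArg Subtype.val (hNbc.is_comm.comm ⟨π a, ha⟩ ⟨π b, hb⟩)
    refine (QuotientGroup.eq_one_iff _).mp (show π (a * b * a⁻¹ * b⁻¹) = 1 from ?_)
    rw [map_mul, map_mul, map_mul, h, map_inv, map_inv]
    group
  -- fixed vectors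
  have hreal : ∀ x : G, ∀ m : ℕ, Odd m → x ^ m = 1 → ∃ v ∈ V, v ≠ 1 ∧ v * x = x * v := by
    intro x m hm hxm
    by_cases hx1 : x = 1
    · exact ⟨v0, hv0, hv01', by rw [hx1, mul_one, one_mul]⟩
    obtain ⟨h, hh⟩ := isConj_iff.mp (hamb x)
    obtain ⟨k, n, hn, hkn⟩ := Nat.exists_eq_two_pow_mul_odd (orderOf_pos h).ne'
    obtain ⟨h2, hodd⟩ := conj_pow_inv hh
    set u := h ^ n with hu
    have hux : u * x * u⁻¹ = x⁻¹ := hodd n hn
    have hou : orderOf u = 2 ^ k := by
      rw [hu, orderOf_pow' h hn.pos.ne', hkn, Nat.gcd_mul_left_left,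
        Nat.mul_div_left _ hn.pos]
    match k, hou with
    | 0, hou =>
      rw [pow_zero, orderOf_eq_one_iff] at hou
      rw [hou, one_mul, inv_one, mul_one] at hux
      exact absurd (eq_one_of_sq hm hxm (mul_eq_one_iff_eq_inv.mpr hux)) hx1
    | 1, hou =>
      rw [pow_one] at hou
      have huV := hall u hou
      have hxx : x * x ∈ V := by
        have e : x * x = (x * u * x⁻¹) * u⁻¹ := by
          calc x * x = x * (u * x * u⁻¹)⁻¹ := by rw [hux, inv_inv]
            _ = (x * u * x⁻¹) * u⁻¹ := by group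
        exact e ▸ V.mul_mem (hV.conj_mem u huV x) (V.inv_mem huV)
      refine absurd (eq_one_of_sq hm hxm (eq_one_of_sq hm ?_ (hsq _ hxx))) hx1
      rw [← pow_two, ← pow_mul, mul_comm, pow_mul, hxm, one_pow]
    | j + 2, hou =>
      have hz : orderOf (u ^ 2 ^ (j + 1)) = 2 := by
        rw [orderOf_pow' u (pow_ne_zero _ two_ne_zero), hou, pow_succ 2 (j + 1),
          Nat.gcd_mul_right_left, Nat.mul_div_cancel_left _ (pow_pos two_pos _)]
      refine ⟨u ^ 2 ^ (j + 1), hall _ hz, fun h => by simp [h] at hz, ?_⟩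
      rw [pow_succ' 2 j, pow_mul]
      exact ((conj_pow_inv hux).1.pow_left _).eq
  have hfix : ∀ g ∈ N, ∃ v ∈ V, v ≠ 1 ∧ v * g = g * v := by
    intro g hg
    rcases hr.eq_two_or_odd' with rfl | hrodd
    · set v' := g * v0 * g⁻¹ with hv'
      have hv'V : v' ∈ V := hV.conj_mem v0 hv0 g
      by_cases hw : v0 * v' = 1
      · refine ⟨v0, hv0, hv01', ?_⟩
        have e : v' = v0 := by rw [← inv_eq_of_mul_eq_one_right hw, hinv v0 hv0]
        calc v0 * g = v' * g := by rw [e]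
          _ = g * v0 := by rw [hv', inv_mul_cancel_right]
      · refine ⟨v0 * v', V.mul_mem hv0 hv'V, hw, ?_⟩
        have hg2 := hC _ (hNr g hg) v0 hv0
        have e : g * (v0 * v') * g⁻¹ = v0 * v' := by
          calc g * (v0 * v') * g⁻¹ = v' * (g ^ 2 * v0 * (g ^ 2)⁻¹) := by rw [hv']; group
            _ = v' * v0 := by rw [← hg2, mul_inv_cancel_right]
            _ = v0 * v' := hcomm _ hv'V _ hv0
        exact (mul_inv_eq_iff_eq_mul.mp e).symm
    · obtain ⟨k, n, hn, hkn⟩ := Nat.exists_eq_two_pow_mul_odd (orderOf_pos g).ne'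
      obtain ⟨v, hv, hv1, hvx⟩ := hreal (g ^ 2 ^ k) n hn
        (by rw [← pow_mul, ← hkn, pow_orderOf_eq_one])
      refine ⟨v, hv, hv1, ?_⟩
      have hco : Nat.gcd (2 ^ k) r = 1 :=
        ((Nat.coprime_two_left.mpr hrodd).pow_left k)
      have hb := Nat.gcd_eq_gcd_ab (2 ^ k) r
      rw [hco] at hb
      have c1 : Commute v (g ^ 2 ^ k) := hvx
      have c2 : Commute v (g ^ r) := hC _ (hNr g hg) v hv
      have c3 := (c1.zpow_right (Nat.gcdA (2 ^ k) r)).mul_right (c2.zpow_right (Nat.gcdB (2 ^ k) r))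
      rw [← zpow_natCast g (2 ^ k), ← zpow_natCast g r, ← zpow_mul, ← zpow_mul, ← zpow_add, ← hb,
        Nat.cast_one, zpow_one] at c3
      exact c3.eq
  -- stabilisers
  let M : G → Subgroup G := fun v => N ⊓ Subgroup.centralizer {v}
  have hM : ∀ v g : G, g ∈ M v ↔ g ∈ N ∧ v * g = g * v := fun v g => by
    simp [M, Subgroup.mem_centralizer_iff]
  have hcard : ∀ v ∈ V, v ≠ 1 → ∀ w ∈ V, w ≠ 1 → Nat.card (M v) ≤ Nat.card (M w) := by
    intro v hv hv1 w hw hw1
    obtain ⟨c, rfl⟩ := isConj_iff.mp (hone v w (hord v hv hv1) (hord w hw hw1))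
    refine Nat.card_le_card_of_injective
      (fun g : M v => (⟨c * g * c⁻¹, (hM _ _).mpr ⟨hNn.conj_mem _ ((hM v _).mp g.2).1 c, ?_⟩⟩ :
        M (c * v * c⁻¹))) ?_
    · calc c * v * c⁻¹ * (c * g * c⁻¹) = c * (v * g) * c⁻¹ := by group
        _ = c * (g * v) * c⁻¹ := by rw [((hM v _).mp g.2).2]
        _ = c * g * c⁻¹ * (c * v * c⁻¹) := by group
    · intro a b hab
      exact Subtype.ext (mul_left_cancel (mul_right_cancel (congrArg Subtype.val hab)))
  have hne : ∃ v ∈ V, v ≠ 1 ∧ ∃ w ∈ V, w ≠ 1 ∧ ¬ M w ≤ M v := by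
    by_contra hcon
    push Not at hcon
    apply hNb1
    rw [eq_bot_iff]
    intro y hy
    obtain ⟨g, rfl⟩ := QuotientGroup.mk'_surjective C y
    refine Subgroup.mem_bot.mpr ((QuotientGroup.eq_one_iff g).mpr
      (Subgroup.mem_centralizer_iff.mpr fun v hv => ?_))
    by_cases hv1 : v = 1
    · rw [hv1, one_mul, mul_one]
    obtain ⟨w, hw, hw1, hwg⟩ := hfix g hy
    exact ((hM v g).mp (hcon v hv hv1 w hw hw1 ((hM w g).mpr ⟨hy, hwg⟩))).2
  obtain ⟨v, hv, hv1, w, hw, hw1, hvw⟩ := hne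
  have hu1 : v * w ≠ 1 := fun h => hvw (by
    rw [show w = v by rw [← inv_eq_of_mul_eq_one_right h, hinv v hv]])
  have hMu : M (v * w) ≤ M v ⊓ M w := by
    intro g hg
    obtain ⟨hgN, hguc⟩ := (hM _ _).mp hg
    set a := v * (g * v * g⁻¹) with ha
    have haV : a ∈ V := V.mul_mem hv (hV.conj_mem v hv g)
    have haw : a = w * (g * w * g⁻¹) := by
      have e1 : (g * v * g⁻¹) * (g * w * g⁻¹) = v * w := by
        calc (g * v * g⁻¹) * (g * w * g⁻¹) = g * (v * w) * g⁻¹ := by group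
          _ = v * w := by rw [← hguc, mul_inv_cancel_right]
      have e2 : g * v * g⁻¹ = v * w * (g * w * g⁻¹) := by
        rw [← e1, mul_assoc (g * v * g⁻¹) (g * w * g⁻¹), hsq _ (hV.conj_mem w hw g), mul_one]
      rw [ha, e2, ← mul_assoc v (v * w), ← mul_assoc v v, hsq v hv, one_mul]
    have hmove : ∀ z ∈ V, ∀ m ∈ M z, z * (g * z * g⁻¹) * m = m * (z * (g * z * g⁻¹)) := by
      intro z hz m hm
      obtain ⟨hmN, hmz⟩ := (hM _ _).mp hm
      have hc := hC _ (hNcomm m hmN g hgN) _ (hV.conj_mem z hz g)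
      have c1 : Commute z m := hmz
      refine (c1.mul_left (show Commute (g * z * g⁻¹) m from ?_)).eq
      show g * z * g⁻¹ * m = m * (g * z * g⁻¹)
      have key : m * (g * z * g⁻¹) * m⁻¹ = g * z * g⁻¹ := by
        calc m * (g * z * g⁻¹) * m⁻¹
            = (m * g * m⁻¹ * g⁻¹) * (g * (m * z * m⁻¹) * g⁻¹) * (m * g * m⁻¹ * g⁻¹)⁻¹ := by group
          _ = (m * g * m⁻¹ * g⁻¹) * (g * z * g⁻¹) * (m * g * m⁻¹ * g⁻¹)⁻¹ := by
            rw [← hmz, mul_inv_cancel_right]
          _ = g * z * g⁻¹ := by rw [← hc, mul_inv_cancel_right]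
      exact (mul_inv_eq_iff_eq_mul.mp key).symm
    have ha1 : a = 1 := by
      by_contra ha1
      have hle1 : M v ≤ M a := fun m hm =>
        (hM _ _).mpr ⟨((hM _ _).mp hm).1, hmove v hv m hm⟩
      have hle2 : M w ≤ M a := fun m hm =>
        (hM _ _).mpr ⟨((hM _ _).mp hm).1, haw ▸ hmove w hw m hm⟩
      exact hvw (hle2.trans (Subgroup.eq_of_le_of_card_ge hle1 (hcard a haV ha1 v hv hv1)).ge)
    have fin : ∀ z ∈ V, z * (g * z * g⁻¹) = 1 → z * g = g * z := fun z hz h => by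
      have e : g * z * g⁻¹ = z := by rw [← inv_eq_of_mul_eq_one_right h, hinv z hz]
      exact (mul_inv_eq_iff_eq_mul.mp e).symm
    exact ⟨(hM _ _).mpr ⟨hgN, fin v hv ha1⟩, (hM _ _).mpr ⟨hgN, fin w hw (haw ▸ ha1)⟩⟩
  have heq : M (v * w) = M v := Subgroup.eq_of_le_of_card_ge (hMu.trans inf_le_left)
    (hcard v hv hv1 _ (V.mul_mem hv hw) hu1)
  have heq2 : M (v * w) = M w := Subgroup.eq_of_le_of_card_ge (hMu.trans inf_le_right)
    (hcard w hw hw1 _ (V.mul_mem hv hw) hu1)
  exact hvw (heq2.symm.trans heq).le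

/-- Let G be a finite solvable group of even order in which every element is conjugate to its inverse and all involutions are conjugate. Then a Sylow 2-subgroup S of G has order 2 or is a generalized quaternion group (of order at least 8). Moreover, if S has order 2, then G is the semidirect product of its largest normal subgroup of odd order O(G) by S, O(G) equals the derived subgroup of G, and the involution of S inverts every element of O(G). -/
theorem result {G : Type*} [Group G] [Finite G] [Group.IsSolvable G]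
    (hamb : ∀ x : G, IsConj x x⁻¹) (heven : 2 ∣ Nat.card G) (hone : ∀ s t : G, orderOf s = 2 → orderOf t = 2 → IsConj s t) (S : Sylow 2 G) :
    (Nat.card S = 2 ∨ ∃ n : ℕ, Nonempty ((S : Subgroup G) ≃* QuaternionGroup (2 ^ (n + 1)))) ∧
    (Nat.card S = 2 → (S : Subgroup G).IsComplement' (Cfsg.oddCore G) ∧ Cfsg.oddCore G = commutator G ∧
        ∀ t : G, t ∈ S → t ≠ 1 → ∀ x : G, x ∈ Cfsg.oddCore G → t * x * t⁻¹ = x⁻¹) := by
  let O := Cfsg.oddCore G
  have hO : Odd (Nat.card O) := CfsgLib.LocalB.odd_card_oddCore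
  let π := QuotientGroup.mk' O
  have hlift : ∀ y : G ⧸ O, orderOf y = 2 → ∃ u : G, orderOf u = 2 ∧ π u = y := by
    intro y hy
    obtain ⟨g, rfl⟩ := QuotientGroup.mk'_surjective O y
    have hy2 : (π g) ^ 2 = 1 := orderOf_dvd_iff_pow_eq_one.mp hy.dvd
    have hg2 : g ^ 2 ∈ O := (QuotientGroup.eq_one_iff _).mp (show π (g ^ 2) = 1 by rw [map_pow, hy2])
    have hpi : π (g ^ Nat.card O) = π g := by
      obtain ⟨j, hj⟩ := hO
      rw [hj, map_pow, pow_succ, pow_mul, hy2, one_pow, one_mul]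
    refine ⟨g ^ Nat.card O, orderOf_eq_prime ?_ ?_, hpi⟩
    · rw [← pow_mul, mul_comm, pow_mul]
      exact congrArg Subtype.val (pow_card_eq_one' (x := (⟨g ^ 2, hg2⟩ : O)))
    · intro h
      rw [h, map_one] at hpi
      simp [π, ← hpi] at hy
  have hordq : ∀ u : G, orderOf u = 2 → orderOf (π u) = 2 := by
    intro u hu
    refine orderOf_eq_prime (by rw [← map_pow, orderOf_dvd_iff_pow_eq_one.mp hu.dvd, map_one]) fun h => ?_
    have hd := O.orderOf_dvd_natCard ((QuotientGroup.eq_one_iff u).mp h)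
    rw [hu] at hd
    exact (Nat.not_even_iff_odd.mpr hO) (even_iff_two_dvd.mpr hd)
  have huniq : ∀ s t : G, orderOf s = 2 → orderOf t = 2 → π s = π t := by
    intro s t hs ht
    refine unique_involution (G := G ⧸ O) (fun y => ?_) (fun a b ha hb => ?_)
      CfsgLib.LocalB.oddCore_quotient (hordq s hs) (hordq t ht)
    · obtain ⟨x, rfl⟩ := QuotientGroup.mk'_surjective O y
      exact map_inv π x ▸ π.map_isConj (hamb x)
    · obtain ⟨a', ha', rfl⟩ := hlift a ha
      obtain ⟨b', hb', rfl⟩ := hlift b hb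
      exact π.map_isConj (hone a' b' ha' hb')
  have hSO : ∀ x ∈ S, x ∈ O → x = 1 := fun x h1 h2 =>
    CfsgLib.LocalB.eq_one_of_odd_pgroup_two hO S.2 h2 h1
  have hu : ∀ x y : S, orderOf x = 2 → orderOf y = 2 → y ∈ Subgroup.zpowers x := by
    intro x y hx hy
    rw [← Subgroup.orderOf_coe] at hx hy
    have e := QuotientGroup.eq.mp (huniq _ _ hx hy)
    have : x = y := Subtype.ext (inv_mul_eq_one.mp
      (hSO _ (mul_mem (inv_mem x.2) y.2) e))
    exact this ▸ Subgroup.mem_zpowers x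
  have hSne : Nat.card S ≠ 1 := by
    intro h
    have := S.card_eq_multiplicity
    rw [h] at this
    have h2 : 0 < (Nat.card G).factorization 2 :=
      Nat.Prime.factorization_pos_of_dvd Nat.prime_two Nat.card_pos.ne' heven
    exact absurd this (Nat.one_lt_two_pow h2.ne').ne
  have hmin : (Nat.card G).minFac = 2 := (Nat.minFac_eq_two_iff _).mpr heven
  have hcomp : IsCyclic S → (S : Subgroup G).IsComplement' O ∧ Nat.card S = 2 := by
    intro hcyc
    have hK := IsCyclic.isComplement' hmin hcyc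
    set K := (MonoidHom.transferSylow S (hcyc.normalizer_le_centralizer hmin)).ker with hKdef
    have hSi : Odd (S : Subgroup G).index :=
      Nat.not_even_iff_odd.mp fun h => S.not_dvd_index (even_iff_two_dvd.mp h)
    have hKodd : Odd (Nat.card K) := hK.index_eq_card ▸ hSi
    have hKO : K = O := by
      refine Subgroup.eq_of_le_of_card_ge
        (CfsgLib.Solvable.le_pPrimeCore 2 inferInstance (Nat.coprime_two_right.mpr hKodd)) ?_
      refine Nat.le_of_dvd Nat.card_pos ?_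
      refine (Nat.Coprime.dvd_of_dvd_mul_right ?_
        (hK.card_mul_card.symm ▸ O.card_subgroup_dvd_card))
      obtain ⟨k, hk⟩ := IsPGroup.iff_card.mp S.2
      rw [hk]
      exact (Nat.coprime_two_right.mpr hO).pow_right k
    refine ⟨hKO ▸ hK.symm, ?_⟩
    obtain ⟨g, hg⟩ := hcyc.exists_generator
    have hg2 : g ^ 2 = 1 := by
      obtain ⟨c, hc⟩ := isConj_iff.mp (hamb (g : G))
      have hcom := congrArg (MonoidHom.transferSylow S (hcyc.normalizer_le_centralizer hmin)) hc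
      set f := MonoidHom.transferSylow S (hcyc.normalizer_le_centralizer hmin)
      have e : f (g : G) = f (g : G)⁻¹ := by
        rw [map_mul, map_mul] at hcom
        have hcm : f c * f (g : G) = f (g : G) * f c :=
          (Std.Commutative.comm (op := (· * ·)) _ _)
        rw [hcm, mul_assoc, ← map_mul, mul_inv_cancel, map_one, mul_one] at hcom
        exact hcom
      have hmem : (g : G) ^ 2 ∈ K := by
        rw [hKdef, MonoidHom.mem_ker, pow_two, map_mul]
        conv_lhs => arg 2; rw [e, map_inv]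
        exact mul_inv_cancel _
      exact Subtype.ext (hSO _ (pow_mem g.2 2) (hKO ▸ hmem))
    have hS2 : Nat.card S ∣ 2 := by
      rw [← orderOf_eq_card_of_forall_mem_zpowers hg]
      exact orderOf_dvd_of_pow_eq_one hg2
    exact ((Nat.dvd_prime Nat.prime_two).mp hS2).resolve_left hSne
  refine ⟨?_, fun h2 => ?_⟩
  · rcases CfsgLib.UniqueInvol.cyclic_or_quaternion S.2 hu with hc | ⟨-, n, hn, hq⟩
    · exact .inl (hcomp hc).2
    · obtain ⟨m, rfl⟩ := Nat.exists_eq_add_of_le' hn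
      exact .inr ⟨m, hq⟩
  haveI := Fact.mk Nat.prime_two
  have hcpl := (hcomp (isCyclic_of_prime_card h2)).1
  have hidx : O.index = 2 := by rw [hcpl.index_eq_card, h2]
  have hinv : ∀ t : G, t ∈ S → t ≠ 1 → ∀ x : G, x ∈ O → t * x * t⁻¹ = x⁻¹ := by
    intro t ht ht1
    have htt : t * t = 1 := by
      have := congrArg Subtype.val (pow_card_eq_one' (x := (⟨t, ht⟩ : (S : Subgroup G))))
      rw [h2, pow_two] at this
      exact this
    refine CfsgLib.LocalB.inverted_of_fpf hO htt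
      (fun a ha => Subgroup.Normal.conj_mem inferInstance a ha t) fun a ha hta => ?_
    obtain ⟨h, hh⟩ := isConj_iff.mp (hamb a)
    have hoa : a ^ Nat.card O = 1 := congrArg Subtype.val (pow_card_eq_one' (x := (⟨a, ha⟩ : O)))
    refine eq_one_of_sq hO hoa (mul_eq_one_iff_eq_inv.mpr ?_)
    -- reduce the inverting element into O
    have hex : ∃ o ∈ O, o * a * o⁻¹ = a⁻¹ := by
      by_cases hho : h ∈ O
      · exact ⟨h, hho, hh⟩
      · refine ⟨h * t, (Subgroup.mul_mem_iff_of_index_two hidx).mpr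
          (iff_of_false hho fun h' => ht1 (hSO t ht h')), ?_⟩
        calc h * t * a * (h * t)⁻¹ = h * (t * a * t⁻¹) * h⁻¹ := by group
          _ = a⁻¹ := by rw [hta, mul_inv_cancel_right, hh]
    obtain ⟨o, ho, hoo⟩ := hex
    have hoo' := (conj_pow_inv hoo).2 _ hO
    rwa [show o ^ Nat.card O = 1 from congrArg Subtype.val (pow_card_eq_one' (x := (⟨o, ho⟩ : O))),
      one_mul, inv_one, mul_one] at hoo'
  refine ⟨hcpl, le_antisymm (fun x hx => ?_) ?_, hinv⟩
  · obtain ⟨t, ht, ht1⟩ : ∃ t ∈ S, t ≠ (1 : G) := by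
      by_contra hcon
      push Not at hcon
      exact hSne (Subgroup.card_eq_one.mpr ((Subgroup.eq_bot_iff_forall _).mpr hcon))
    have hxx : x⁻¹ * x⁻¹ ∈ commutator G := by
      have := Subgroup.commutator_mem_commutator (Subgroup.mem_top t) (Subgroup.mem_top x)
      rwa [commutatorElement_def, hinv t ht ht1 x hx] at this
    obtain ⟨j, hj⟩ := hO
    have hxn : x ^ (2 * j + 1) = 1 :=
      hj ▸ congrArg Subtype.val (pow_card_eq_one' (x := (⟨x, hx⟩ : O)))
    have e : x = (x⁻¹ * x⁻¹)⁻¹ ^ (j + 1) := by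
      rw [mul_inv_rev, inv_inv, ← pow_two, ← pow_mul,
        show 2 * (j + 1) = 2 * j + 1 + 1 by ring, pow_succ x (2 * j + 1), hxn, one_mul]
    rw [e]
    exact pow_mem (inv_mem hxx) _
  · rw [commutator_def, Subgroup.commutator_le]
    intro a _ b _
    rw [commutatorElement_def]
    show a * b * a⁻¹ * b⁻¹ ∈ O
    rw [Subgroup.mul_mem_iff_of_index_two hidx,
      Subgroup.mul_mem_iff_of_index_two hidx, Subgroup.mul_mem_iff_of_index_two hidx, inv_mem_iff,
      inv_mem_iff]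
    tauto

end Cfsg.Agent.S4061
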