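import Cfsg.Statements.S4062
import Cfsg.Agent.Solvable.Basics
import Mathlib.GroupTheory.Perm.Fin
import Mathlib.GroupTheory.Perm.Sign

set_option autoImplicit false
set_option linter.style.haveILetI false
open Cfsg

namespace Cfsg.Agent.S4062

open Subgroup

/-- A commutative group in which conjugacy is decided by the order has at most two elements. -/
theorem card_le_two {G : Type*} [Group G] [Finite G]
    (h : ∀ x y : G, orderOf x = orderOf y → IsConj x y) (hc : ∀ a b : G, a * b = b * a) :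
    Nat.card G ≤ 2 := by
  classical
  have heq : ∀ x y : G, orderOf x = orderOf y → x = y := fun x y e => by
    obtain ⟨c, hc'⟩ := isConj_iff.1 (h x y e)
    rw [← hc', hc c x, mul_inv_cancel_right]
  have htwo : ∀ x : G, x ≠ 1 → orderOf x = 2 := fun x hx => by
    refine orderOf_eq_prime ?_ hx
    rw [pow_two]
    nth_rewrite 2 [heq x x⁻¹ (orderOf_inv x).symm]
    exact mul_inv_cancel x
  let f : G → Bool := fun x => decide (x = 1)
  have hf : Function.Injective f := fun x y e => by
    simp only [f, decide_eq_decide] at e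
    by_cases hx : x = 1
    · rw [hx, e.1 hx]
    · exact heq x y (by rw [htwo x hx, htwo y fun hy => hx (e.2 hy)])
  simpa using Nat.card_le_card_of_injective f hf

/-- A noncommutative group of order six is the symmetric group of degree three. -/
theorem mulEquiv_of_card_six {G : Type*} [Group G] [Finite G] (h6 : Nat.card G = 6)
    (hc : ¬ ∀ a b : G, a * b = b * a) : Nonempty (G ≃* Equiv.Perm (Fin 3)) := by
  classical
  haveI : Fact (Nat.Prime 2) := ⟨Nat.prime_two⟩
  haveI : Fact (Nat.Prime 3) := ⟨Nat.prime_three⟩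
  obtain ⟨t, ht⟩ := exists_prime_orderOf_dvd_card' (G := G) 2 (by rw [h6]; norm_num)
  obtain ⟨x, hx⟩ := exists_prime_orderOf_dvd_card' (G := G) 3 (by rw [h6]; norm_num)
  set H := zpowers t with hH
  have hHc : Nat.card H = 2 := by rw [hH, Nat.card_zpowers, ht]
  have hidx : H.index = 3 := by
    have := H.card_mul_index
    rw [hHc, h6] at this
    omega
  have hcore : H.normalCore = ⊥ := by
    by_contra hne
    have hle := H.normalCore_le
    have heq : H.normalCore = H := by
      refine eq_of_le_of_card_ge hle ?_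
      rw [hHc]
      exact (one_lt_card_iff_ne_bot _).2 hne
    have hn : H.Normal := heq ▸ H.normalCore_normal
    have htx : Commute x t := by
      have h1 : x * t * x⁻¹ ∈ H := hn.conj_mem t (mem_zpowers t) x
      obtain ⟨k, hk, hk'⟩ : ∃ k : ℕ, k < 2 ∧ t ^ k = x * t * x⁻¹ := by
        have := mem_zpowers_iff_mem_range_orderOf.1 h1
        rw [ht] at this
        simpa using this
      rcases k with _ | _ | k
      · rw [pow_zero, eq_comm, conj_eq_one_iff] at hk'
        rw [hk', orderOf_one] at ht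
        omega
      · rw [pow_one] at hk'
        exact mul_inv_eq_iff_eq_mul.1 hk'.symm
      · omega
    have h6' : orderOf (x * t) = 6 := by
      rw [htx.orderOf_mul_eq_mul_orderOf_of_coprime (by rw [hx, ht]; norm_num), hx, ht]
    haveI : IsCyclic G := isCyclic_of_orderOf_eq_card (x * t) (by rw [h6', h6])
    exact hc fun a b => (IsCyclic.commGroup (α := G)).mul_comm a b
  have e : G ⧸ H ≃ Fin 3 := Finite.equivFinOfCardEq (by rw [← index_eq_card, hidx])
  let f : G →* Equiv.Perm (Fin 3) :=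
    e.permCongrHom.toMonoidHom.comp (MulAction.toPermHom G (G ⧸ H))
  have hf : Function.Injective f := by
    rw [MonoidHom.coe_comp]
    refine e.permCongrHom.injective.comp ?_
    rw [← MonoidHom.ker_eq_bot_iff, ← normalCore_eq_ker, hcore]
  refine ⟨MulEquiv.ofBijective f ((Nat.bijective_iff_injective_and_card f).2 ⟨hf, ?_⟩)⟩
  rw [h6, Nat.card_perm, Nat.card_fin]
  rfl

theorem perm_even (s : Equiv.Perm (Fin 3)) : Equiv.Perm.sign s = 1 →
    ∃ a b : Equiv.Perm (Fin 3), s = a * b * a⁻¹ * b⁻¹ := by revert s; decide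
theorem perm_swap_comm (s : Equiv.Perm (Fin 3)) : s * Equiv.swap 0 1 = Equiv.swap 0 1 * s →
    s = 1 ∨ s = Equiv.swap 0 1 := by revert s; decide
set_option maxRecDepth 8000 in
theorem perm_swap_gen (s : Equiv.Perm (Fin 3)) : ∃ a b : Equiv.Perm (Fin 3),
    s = a * Equiv.swap 0 1 * a⁻¹ ∨ s = (a * Equiv.swap 0 1 * a⁻¹) * (b * Equiv.swap 0 1 * b⁻¹) := by
  revert s; decide
theorem perm_cycle_sq (s : Equiv.Perm (Fin 3)) :
    s * s = 1 ∨ s * s = finRotate 3 ∨ s * s = finRotate 3 * finRotate 3 := by revert s; decide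

theorem main {G : Type*} [Group G] [Finite G] [Group.IsSolvable G]
    (h : ∀ x y : G, orderOf x = orderOf y → IsConj x y) :
    Nat.card G = 1 ∨ Nat.card G = 2 ∨ Nonempty (G ≃* Equiv.Perm (Fin 3)) := by
  classical
  induction hn : Nat.card G using Nat.strong_induction_on generalizing G with
  | _ n ih =>
  subst hn
  by_cases hab : ∀ a b : G, a * b = b * a
  · have := card_le_two h hab
    have := Nat.card_pos (α := G)
    omega
  haveI : Nontrivial G := by
    by_contra hne
    rw [not_nontrivial_iff_subsingleton] at hne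
    exact hab fun a b => Subsingleton.elim _ _
  obtain ⟨N, hNn, hN1, -, hNc, -, p, hp, hNp, hNP⟩ :=
    CfsgLib.Solvable.exists_normal_elementary_le (N := (⊤ : Subgroup G)) top_ne_bot inferInstance
  haveI := Fact.mk hp
  have hNcomm : ∀ a ∈ N, ∀ b ∈ N, a * b = b * a := fun a ha b hb =>
    congrArg Subtype.val (hNc.is_comm.comm (⟨a, ha⟩ : N) ⟨b, hb⟩)
  obtain ⟨v, hvN, hv1⟩ : ∃ v ∈ N, v ≠ 1 := by
    by_contra hcon
    push Not at hcon
    exact hN1 ((eq_bot_iff_forall _).2 hcon)
  have hvo : orderOf v = p := orderOf_eq_prime (hNp v hvN) hv1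
  have hinN : ∀ x : G, orderOf x = p → x ∈ N := fun x hx => by
    obtain ⟨c, hc⟩ := isConj_iff.1 (h v x (hvo.trans hx.symm))
    exact hc ▸ hNn.conj_mem v hvN c
  -- orders of preimages
  have hB : ∀ x : G, p ∣ orderOf (x : G ⧸ N) → orderOf x = orderOf (x : G ⧸ N) * p := by
    intro x hd
    set m := orderOf (x : G ⧸ N)
    have hm : x ^ m ∈ N := by
      rw [← QuotientGroup.eq_one_iff, QuotientGroup.mk_pow, pow_orderOf_eq_one]
    have hmd : m ∣ orderOf x := orderOf_map_dvd (QuotientGroup.mk' N) x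
    have hxm : orderOf (x ^ m) = p := by
      refine orderOf_eq_prime (hNp _ hm) fun e => ?_
      have hmm : orderOf x = m := Nat.dvd_antisymm (orderOf_dvd_of_pow_eq_one e) hmd
      obtain ⟨c, hc⟩ := hd
      have hc0 : c ≠ 0 := by
        rintro rfl
        rw [mul_zero] at hc
        exact (orderOf_pos x).ne' (hmm.trans hc)
      have h1 : x ^ c ∈ N := hinN _ (by
        rw [orderOf_pow_of_dvd hc0 ⟨p, by rw [hmm, hc, Nat.mul_comm]⟩, hmm, hc,
          Nat.mul_div_cancel _ (Nat.pos_of_ne_zero hc0)])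
      rw [← QuotientGroup.eq_one_iff, QuotientGroup.mk_pow] at h1
      have h2 : m ≤ c := Nat.le_of_dvd (Nat.pos_of_ne_zero hc0) (orderOf_dvd_of_pow_eq_one h1)
      have := hp.two_le
      nlinarith [Nat.pos_of_ne_zero hc0]
    rw [orderOf_pow_of_dvd (by
      intro e
      rw [e] at hmd
      exact (orderOf_pos x).ne' (Nat.zero_dvd.1 hmd)) hmd] at hxm
    rw [← hxm, Nat.mul_div_cancel' hmd]
  have hquot : ∀ a b : G ⧸ N, orderOf a = orderOf b → IsConj a b := by
    intro a b hab'
    obtain ⟨x, rfl⟩ := QuotientGroup.mk_surjective a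
    obtain ⟨y, rfl⟩ := QuotientGroup.mk_surjective b
    suffices ∃ x' y' : G, (x' : G ⧸ N) = (x : G ⧸ N) ∧ (y' : G ⧸ N) = (y : G ⧸ N) ∧
        orderOf x' = orderOf y' by
      obtain ⟨x', y', ex, ey, e⟩ := this
      rw [← ex, ← ey]
      exact MonoidHom.map_isConj (QuotientGroup.mk' N) (h x' y' e)
    by_cases hd : p ∣ orderOf (x : G ⧸ N)
    · exact ⟨x, y, rfl, rfl, by rw [hB x hd, hB y (hab' ▸ hd), hab']⟩
    · have hlift : ∀ z : G, orderOf (z : G ⧸ N) = orderOf (x : G ⧸ N) →
          ∃ z' : G, (z' : G ⧸ N) = (z : G ⧸ N) ∧ orderOf z' = orderOf (x : G ⧸ N) := by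
        intro z hz
        set m := orderOf (x : G ⧸ N)
        obtain ⟨k, hk⟩ : ∃ k : ℕ, p * k ≡ 1 [MOD m] := by
          rcases Nat.eq_or_lt_of_le (show 1 ≤ m from orderOf_pos _) with h1 | h1
          · exact ⟨0, by rw [← h1]; exact Nat.modEq_one⟩
          · obtain ⟨k, -, hk⟩ := Nat.exists_mul_mod_eq_one_of_coprime
              ((Nat.Prime.coprime_iff_not_dvd hp).2 hd) h1
            exact ⟨k, by rw [Nat.ModEq, hk, Nat.mod_eq_of_lt h1]⟩
        have hzm : z ^ m ∈ N := by
          rw [← QuotientGroup.eq_one_iff, QuotientGroup.mk_pow, ← hz, pow_orderOf_eq_one]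
        have he : ((z ^ (p * k) : G) : G ⧸ N) = (z : G ⧸ N) := by
          rw [QuotientGroup.mk_pow]
          conv_rhs => rw [← pow_one (z : G ⧸ N)]
          exact pow_eq_pow_iff_modEq.2 (hz ▸ hk)
        refine ⟨z ^ (p * k), he, Nat.dvd_antisymm (orderOf_dvd_of_pow_eq_one ?_) ?_⟩
        · rw [← pow_mul, Nat.mul_comm (p * k), pow_mul, pow_mul, hNp _ hzm, one_pow]
        · rw [← hz, ← he]
          exact orderOf_map_dvd (QuotientGroup.mk' N) _
      obtain ⟨x', ex, hx'⟩ := hlift x rfl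
      obtain ⟨y', ey, hy'⟩ := hlift y hab'.symm
      exact ⟨x', y', ex, ey, hx'.trans hy'.symm⟩
  have hcardN : 1 < Nat.card N := (one_lt_card_iff_ne_bot N).2 hN1
  have hmul := N.card_mul_index
  have hlt : Nat.card (G ⧸ N) < Nat.card G := CfsgLib.Solvable.card_quotient_lt hN1
  have hQ := ih _ hlt hquot rfl
  rw [← index_eq_card] at hQ
  -- the nontrivial elements of N form one class
  have htrans : ∀ w ∈ N, w ≠ 1 → ∃ g : G, g * v * g⁻¹ = w := fun w hw hw1 =>
    isConj_iff.1 (h v w (hvo.trans (orderOf_eq_prime (hNp w hw) hw1).symm))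
  have horbit : ∀ (α : Type) [Finite α] (F : G → α),
      (∀ g g' : G, F g = F g' → g * v * g⁻¹ = g' * v * g'⁻¹) → Nat.card N ≤ Nat.card α + 1 := by
    intro α _ F hF
    have : ∀ w : N, w.1 ≠ 1 → ∃ g : G, g * v * g⁻¹ = w := fun w => htrans w w.2
    choose g hg using this
    let f : N → Option α := fun w => if hw : w.1 = 1 then none else some (F (g w hw))
    have hf : Function.Injective f := fun a b e => by
      simp only [f] at e
      split_ifs at e with ha hb
      · exact Subtype.ext (ha.trans hb.symm)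
      · exact Subtype.ext ((hg a ha).symm.trans ((hF _ _ (Option.some_inj.1 e)).trans (hg b _)))
    have := Nat.card_le_card_of_injective f hf
    rwa [Finite.card_option] at this
  have hmodN : ∀ g g' : G, (g : G ⧸ N) = (g' : G ⧸ N) → g * v * g⁻¹ = g' * v * g'⁻¹ := by
    intro g g' e
    obtain ⟨m, hm, rfl⟩ : ∃ m ∈ N, g' = g * m := ⟨g⁻¹ * g', QuotientGroup.eq.1 e, by group⟩
    calc g * v * g⁻¹ = g * (m * v * m⁻¹) * g⁻¹ := by rw [hNcomm m hm v hvN, mul_inv_cancel_right]
      _ = _ := by group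
  rcases hQ with h1 | h2 | ⟨⟨φ⟩⟩
  · -- G = N
    have := index_eq_one.1 h1
    exact absurd (fun a b => hNcomm a (this ▸ mem_top a) b (this ▸ mem_top b)) hab
  · have hle : Nat.card N ≤ 3 := by
      obtain ⟨e⟩ : Nonempty ((G ⧸ N) ≃ Fin 2) := ⟨Finite.equivFinOfCardEq (by rw [← index_eq_card, h2])⟩
      simpa using horbit (Fin 2) (fun g => e (g : G ⧸ N)) fun g g' e' => hmodN g g' (e.injective e')
    rw [h2] at hmul
    rcases (by omega : Nat.card N = 2 ∨ Nat.card N = 3) with hN2 | hN3
    · rw [hN2] at hmul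
      haveI : Fact (Nat.Prime 2) := ⟨Nat.prime_two⟩
      have h4 : Nat.card G = 2 ^ 2 := hmul.symm
      exact absurd (fun a b => (IsPGroup.commGroupOfCardEqPrimeSq h4).mul_comm a b) hab
    · rw [hN3] at hmul
      exact Or.inr (Or.inr (mulEquiv_of_card_six hmul.symm hab))
  exfalso
  have hidx : N.index = 6 := by
    rw [index_eq_card, Nat.card_congr φ.toEquiv, Nat.card_perm, Nat.card_fin]
    rfl
  have hψ : ∀ s : Equiv.Perm (Fin 3), ∃ g : G, φ (g : G ⧸ N) = s := fun s => by
    obtain ⟨g, hg⟩ := QuotientGroup.mk_surjective (φ.symm s)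
    exact ⟨g, by rw [hg, MulEquiv.apply_symm_apply]⟩
  have hle : Nat.card N ≤ 7 := by
    obtain ⟨e⟩ : Nonempty ((G ⧸ N) ≃ Fin 6) := ⟨Finite.equivFinOfCardEq (by rw [← index_eq_card, hidx])⟩
    simpa using horbit (Fin 6) (fun g => e (g : G ⧸ N)) fun g g' e' => hmodN g g' (e.injective e')
  obtain ⟨k, hk⟩ := hNP.exists_card_eq
  have hprime : Nat.card N = p → Nat.card N ≤ 3 := by
    intro hcp
    have hz : zpowers v = N := eq_of_le_of_card_ge (zpowers_le.2 hvN) (by
      rw [Nat.card_zpowers, hvo, hcp])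
    have key : ∀ a b : G, (a * b) * v * (a * b)⁻¹ = (b * a) * v * (b * a)⁻¹ := by
      intro a b
      obtain ⟨i, hi⟩ : ∃ i : ℤ, v ^ i = a * v * a⁻¹ := mem_zpowers_iff.1 (hz ▸ hNn.conj_mem v hvN a)
      obtain ⟨j, hj⟩ : ∃ j : ℤ, v ^ j = b * v * b⁻¹ := mem_zpowers_iff.1 (hz ▸ hNn.conj_mem v hvN b)
      calc (a * b) * v * (a * b)⁻¹ = a * (b * v * b⁻¹) * a⁻¹ := by group
        _ = v ^ (i * j) := by rw [← hj, ← conj_zpow, ← hi, ← zpow_mul]
        _ = b * (a * v * a⁻¹) * b⁻¹ := by rw [← hi, ← conj_zpow, ← hj, ← zpow_mul, mul_comm]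
        _ = _ := by group
    have hcom : ∀ a b : G, a * b * a⁻¹ * b⁻¹ * v = v * (a * b * a⁻¹ * b⁻¹) := by
      intro a b
      have h2 : (a⁻¹ * b⁻¹) * v * (a⁻¹ * b⁻¹)⁻¹ = (b⁻¹ * a⁻¹) * v * (b⁻¹ * a⁻¹)⁻¹ :=
        key a⁻¹ b⁻¹
      rw [← mul_inv_eq_iff_eq_mul]
      calc a * b * a⁻¹ * b⁻¹ * v * (a * b * a⁻¹ * b⁻¹)⁻¹
          = (a * b) * ((a⁻¹ * b⁻¹) * v * (a⁻¹ * b⁻¹)⁻¹) * (a * b)⁻¹ := by group
        _ = v := by rw [h2]; group
    have := horbit ℤˣ (fun g => Equiv.Perm.sign (φ (g : G ⧸ N))) fun g g' e => by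
      obtain ⟨a, b, hab'⟩ := perm_even (φ ((g⁻¹ * g' : G) : G ⧸ N)) (by
        rw [QuotientGroup.mk_mul, QuotientGroup.mk_inv, map_mul, map_inv, map_mul, map_inv,
          show Equiv.Perm.sign (φ (g : G ⧸ N)) = Equiv.Perm.sign (φ (g' : G ⧸ N)) from e,
          inv_mul_cancel])
      obtain ⟨a', rfl⟩ := hψ a
      obtain ⟨b', rfl⟩ := hψ b
      have e' : (g' : G ⧸ N) = ((g * (a' * b' * a'⁻¹ * b'⁻¹) : G) : G ⧸ N) := by
        apply φ.injective
        simp only [QuotientGroup.mk_mul, QuotientGroup.mk_inv, map_mul, map_inv] at hab' ⊢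
        rw [← hab', mul_inv_cancel_left]
      rw [hmodN g' _ e']
      have hc := hcom a' b'
      generalize a' * b' * a'⁻¹ * b'⁻¹ = c at hc
      calc g * v * g⁻¹ = g * (c * v * c⁻¹) * g⁻¹ := by rw [hc, mul_inv_cancel_right]
        _ = _ := by group
    simpa using this
  have hsw : orderOf (Equiv.swap (0 : Fin 3) 1) = 2 :=
    orderOf_eq_prime (by decide) (by decide)
  obtain ⟨x, hx⟩ := hψ (Equiv.swap 0 1)
  have hxo : orderOf (x : G ⧸ N) = 2 := by rw [← φ.orderOf_eq, hx, hsw]
  rcases (by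
    have h2p := hp.two_le
    rcases k with _ | _ | _ | k
    · rw [pow_zero] at hk; omega
    · rw [pow_one] at hk
      have h3 := hprime hk
      omega
    · have hk' : Nat.card N = p * p := by rw [hk]; ring
      have : p = 2 := by nlinarith
      subst this
      omega
    · have hk' : Nat.card N = p ^ (k + 3) := hk
      have : 2 ^ (k + 3) ≤ p ^ (k + 3) := Nat.pow_le_pow_left (by omega) _
      have : 2 ^ 3 ≤ 2 ^ (k + 3) := Nat.pow_le_pow_right (by norm_num) (by omega)
      omega : Nat.card N = 2 ∨ Nat.card N = 3 ∨ Nat.card N = 4) with hN2 | hN3 | hN4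
  · -- a central involution
    have hp2 : p = 2 := by
      have := orderOf_dvd_natCard (⟨v, hvN⟩ : N)
      rw [Subgroup.orderOf_mk, hvo, hN2, Nat.prime_dvd_prime_iff_eq hp Nat.prime_two] at this
      exact this
    have hcen : ∀ g : G, g * v * g⁻¹ = v := fun g => by
      by_contra hne
      have h3 : Nat.card (Fin 3) ≤ Nat.card N := by
        refine Nat.card_le_card_of_injective ![⟨1, one_mem N⟩, ⟨v, hvN⟩, ⟨_, hNn.conj_mem v hvN g⟩] ?_
        have hne1 : g * v * g⁻¹ ≠ 1 := fun e => hv1 (conj_eq_one_iff.1 e)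
        intro i j e
        fin_cases i <;> fin_cases j <;> first
          | rfl
          | (exfalso; simp [hv1, Ne.symm hv1, hne1, Ne.symm hne1, hne, Ne.symm hne] at e)
      rw [Nat.card_fin, hN2] at h3
      omega
    have hNcen : ∀ w ∈ N, ∀ g : G, g * w = w * g := fun w hw g => by
      rcases eq_or_ne w 1 with rfl | hw1
      · simp
      obtain ⟨c, rfl⟩ := htrans w hw hw1
      rw [hcen c]
      exact mul_inv_eq_iff_eq_mul.1 (hcen g)
    have hxord : orderOf x = 4 := by rw [hB x (by rw [hxo, hp2]), hxo, hp2]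
    obtain ⟨g, hg⟩ := isConj_iff.1 (h x x⁻¹ (orderOf_inv x).symm)
    have hgs : φ (g : G ⧸ N) * Equiv.swap 0 1 = Equiv.swap 0 1 * φ (g : G ⧸ N) := by
      have := congrArg (fun y : G => φ (y : G ⧸ N)) hg
      simp only [QuotientGroup.mk_mul, QuotientGroup.mk_inv, map_mul, map_inv, hx, Equiv.swap_inv] at this
      exact mul_inv_eq_iff_eq_mul.1 this
    have hgx : g * x = x * g := by
      rcases perm_swap_comm _ hgs with e | e
      · exact (hNcen g ((QuotientGroup.eq_one_iff _).1 (φ.injective (e.trans (map_one φ).symm))) x).symm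
      · rw [← hx] at e
        obtain ⟨m, hm, rfl⟩ : ∃ m ∈ N, g = x * m := ⟨x⁻¹ * g, QuotientGroup.eq.1 (φ.injective e).symm, by group⟩
        rw [mul_assoc, ← hNcen m hm x]
    rw [hgx, mul_inv_cancel_right] at hg
    have h2 : orderOf x ∣ 2 := orderOf_dvd_of_pow_eq_one (by
      rw [pow_two]; nth_rewrite 2 [hg]; exact mul_inv_cancel x)
    rw [hxord] at h2
    omega
  · -- order eighteen
    have hp3 : p = 3 := by
      have := orderOf_dvd_natCard (⟨v, hvN⟩ : N)
      rw [Subgroup.orderOf_mk, hvo, hN3, Nat.prime_dvd_prime_iff_eq hp Nat.prime_three] at this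
      exact this
    obtain ⟨y, hy⟩ := hψ (finRotate 3)
    have hyo : orderOf (y : G ⧸ N) = 3 := by
      rw [← φ.orderOf_eq, hy]
      haveI : Fact (Nat.Prime 3) := ⟨Nat.prime_three⟩
      exact orderOf_eq_prime (by decide) (by decide)
    have hyord : orderOf y = 9 := by rw [hB y (by rw [hyo, hp3]), hyo, hp3]
    have hNy : N ≤ zpowers y := by
      have hy3 : y ^ 3 ∈ N := by
        rw [← QuotientGroup.eq_one_iff, QuotientGroup.mk_pow, ← hyo, pow_orderOf_eq_one]
      have : zpowers (y ^ 3) = N := eq_of_le_of_card_ge (zpowers_le.2 hy3) (by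
        rw [Nat.card_zpowers, orderOf_pow_of_dvd (by norm_num) (by rw [hyord]; norm_num), hyord, hN3])
      rw [← this]
      exact zpowers_le.2 (pow_mem (mem_zpowers y) 3)
    obtain ⟨g, hg⟩ := isConj_iff.1 (h y (y ^ 2) (by rw [Nat.Coprime.orderOf_pow (by rw [hyord]; norm_num)]))
    have hg2 : g * g ∈ zpowers y := by
      obtain ⟨i, hi⟩ : ∃ i : ℕ, ((g * g : G) : G ⧸ N) = ((y ^ i : G) : G ⧸ N) := by
        rcases perm_cycle_sq (φ (g : G ⧸ N)) with e | e | e
        · exact ⟨0, φ.injective (by simpa using e)⟩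
        · exact ⟨1, φ.injective (by simpa [hy] using e)⟩
        · exact ⟨2, φ.injective (by simpa [hy, pow_two] using e)⟩
      have := hNy (QuotientGroup.eq.1 hi.symm)
      exact ((zpowers y).mul_mem_cancel_left (inv_mem (pow_mem (mem_zpowers y) i))).1 this
    obtain ⟨i, hi⟩ := mem_zpowers_iff.1 hg2
    have h4 : y ^ 4 = y ^ 1 := by
      calc y ^ 4 = g * (g * y * g⁻¹) * g⁻¹ := by rw [hg, ← conj_pow, hg, ← pow_mul]
        _ = (g * g) * y * (g * g)⁻¹ := by group
        _ = y ^ 1 := by rw [← hi, (Commute.zpow_self y i).eq, mul_inv_cancel_right, pow_one]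
    have := pow_eq_pow_iff_modEq.1 h4
    rw [hyord] at this
    exact absurd this (by decide)
  · -- order twenty four
    have hp2 : p = 2 := by
      have := orderOf_dvd_natCard (⟨v, hvN⟩ : N)
      rw [Subgroup.orderOf_mk, hvo, hN4, show (4 : ℕ) = 2 ^ 2 from rfl] at this
      exact (Nat.prime_dvd_prime_iff_eq hp Nat.prime_two).1 (hp.dvd_of_dvd_pow this)
    have hxord : orderOf x = 4 := by rw [hB x (by rw [hxo, hp2]), hxo, hp2]
    have hx2N : x ^ 2 ∈ N := by
      rw [← QuotientGroup.eq_one_iff, QuotientGroup.mk_pow, ← hxo, pow_orderOf_eq_one]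
    have hx21 : x ^ 2 ≠ 1 := fun e => by
      have := orderOf_dvd_of_pow_eq_one e
      rw [hxord] at this
      omega
    have hx4 : x ^ 4 = 1 := hxord ▸ pow_orderOf_eq_one x
    have hxn : ∃ w ∈ N, x * w ≠ w * x := by
      by_contra hcon
      push Not at hcon
      haveI := hNn
      set C := centralizer (N : Set G)
      haveI : C.Normal := normal_centralizer
      have hxC : x ∈ C := mem_centralizer_iff.2 fun w hw => (hcon w hw).symm
      have hNC : N ≤ C := fun m hm => mem_centralizer_iff.2 fun w hw => hNcomm w hw m hm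
      have htop : ∀ g : G, g ∈ C := by
        intro g
        have hconj : ∀ a : G, a * x * a⁻¹ ∈ C := fun a => Normal.conj_mem inferInstance x hxC a
        obtain ⟨a, b, e⟩ := perm_swap_gen (φ (g : G ⧸ N))
        obtain ⟨a', rfl⟩ := hψ a
        obtain ⟨b', rfl⟩ := hψ b
        rcases e with e | e
        · have e' : ((a' * x * a'⁻¹ : G) : G ⧸ N) = (g : G ⧸ N) :=
            φ.injective (by simpa [hx] using e.symm)
          exact (C.mul_mem_cancel_left (inv_mem (hconj a'))).1 (hNC (QuotientGroup.eq.1 e'))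
        · have e' : (((a' * x * a'⁻¹) * (b' * x * b'⁻¹) : G) : G ⧸ N) = (g : G ⧸ N) :=
            φ.injective (by simpa [hx] using e.symm)
          exact (C.mul_mem_cancel_left (inv_mem (mul_mem (hconj a') (hconj b')))).1
            (hNC (QuotientGroup.eq.1 e'))
      have := horbit Unit (fun _ => ()) fun g g' _ => by
        rw [← mem_centralizer_iff.1 (htop g) v hvN, ← mem_centralizer_iff.1 (htop g') v hvN,
          mul_inv_cancel_right, mul_inv_cancel_right]
      rw [hN4] at this
      simp at this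
    obtain ⟨w, hw, hne⟩ := hxn
    have hw2 : w * w = 1 := by rw [← pow_two, ← hp2]; exact hNp w hw
    have hw1 : w ≠ 1 := fun e => hne (by simp [e])
    have hwx : w ≠ x ^ 2 := fun e => hne (by rw [e, ← pow_succ, ← pow_succ'])
    have hc1 : x * w * x⁻¹ ≠ 1 := fun e => hw1 (conj_eq_one_iff.1 e)
    have hc2 : x * w * x⁻¹ ≠ w := fun e => hne (mul_inv_eq_iff_eq_mul.1 e)
    have hc3 : x * w * x⁻¹ ≠ x ^ 2 := fun e => hwx (by
      calc w = x⁻¹ * (x * w * x⁻¹) * x := by group
        _ = _ := by rw [e]; group)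
    have hkey : x * w * x⁻¹ = w * x ^ 2 := by
      let f : Fin 4 → N :=
        ![⟨1, one_mem N⟩, ⟨w, hw⟩, ⟨x ^ 2, hx2N⟩, ⟨w * x ^ 2, mul_mem hw hx2N⟩]
      have h3 : w * x ^ 2 ≠ 1 := fun e => hwx (by
        rw [eq_comm, ← mul_right_inj w, e, hw2])
      have hf : Function.Injective f := by
        intro i j e
        fin_cases i <;> fin_cases j <;> first
          | rfl
          | (exfalso; simp [f, hw1, Ne.symm hw1, hx21, Ne.symm hx21, hwx, Ne.symm hwx, h3, Ne.symm h3] at e)
      obtain ⟨i, hi⟩ := ((Nat.bijective_iff_injective_and_card f).2 ⟨hf, by rw [hN4, Nat.card_fin]⟩).2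
        ⟨x * w * x⁻¹, hNn.conj_mem w hw x⟩
      have hi' := congrArg Subtype.val hi
      fin_cases i
      · exact absurd hi'.symm hc1
      · exact absurd hi'.symm hc2
      · exact absurd hi'.symm hc3
      · exact hi'.symm
    have hxw : orderOf (x * w) = 2 := by
      refine orderOf_eq_prime ?_ fun e => ?_
      · calc (x * w) ^ 2 = (x * w * x⁻¹) * x ^ 2 * w := by rw [pow_two, pow_two]; group
          _ = w * x ^ 4 * w := by rw [hkey]; group
          _ = 1 := by rw [hx4, mul_one, hw2]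
      · have hxN : x ∈ N := (mul_mem_cancel_right hw).1 (e ▸ one_mem N)
        rw [(QuotientGroup.eq_one_iff x).2 hxN, orderOf_one] at hxo
        omega
    have hxwN := hinN (x * w) (hxw.trans hp2.symm)
    rw [(QuotientGroup.eq_one_iff x).2 ((mul_mem_cancel_right hw).1 hxwN), orderOf_one] at hxo
    omega

/-- A finite solvable group in which any two elements of the same order are conjugate has order 1 or 2 or is isomorphic to the symmetric group of degree 3. -/
theorem result {G : Type*} [Group G] [Finite G] [Group.IsSolvable G]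
    (h : ∀ x y : G, orderOf x = orderOf y → IsConj x y) :
    Nat.card G = 1 ∨ Nat.card G = 2 ∨ Nonempty (G ≃* Equiv.Perm (Fin 3)) :=
  main h

end Cfsg.Agent.S4062
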