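import Cfsg.Statements.S4065
import Cfsg.Agent.SL2C.Commutant
import Cfsg.Agent.PrimeGraph.SL2Char2

set_option autoImplicit false
open Cfsg

namespace Cfsg.Agent.S4065

/-- Let F be a finite field with 2ⁿ elements, n ≥ 2. In PSL₂(F) the centralizer of every element meets each of its conjugates by elements outside its normalizer trivially. -/
theorem result (n : ℕ) (hn : 2 ≤ n)
    (x : Matrix.ProjectiveSpecialLinearGroup (Fin 2) (GaloisField 2 n)) :
    Cfsg.IsTISubset (Subgroup.centralizer ({x} : Set (Matrix.ProjectiveSpecialLinearGroup (Fin 2) (GaloisField 2 n))) :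
      Set (Matrix.ProjectiveSpecialLinearGroup (Fin 2) (GaloisField 2 n))) := by
  classical
  haveI : Fintype (GaloisField 2 n) := Fintype.ofFinite _
  set F := GaloisField 2 n
  set e := CfsgLib.SL2Char2.slEquivPSL (F := F)
  by_cases hx1 : x = 1
  · subst hx1
    intro g hg
    refine absurd (Subgroup.mem_set_normalizer_iff.2 fun y => ?_) hg
    simp [Subgroup.mem_centralizer_iff]
  -- commuting is transitive away from the identity
  have key : ∀ u v w : Matrix.ProjectiveSpecialLinearGroup (Fin 2) F, v ≠ 1 → Commute u v → Commute v w → Commute u w := by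
    intro u v w hv huv hvw
    obtain ⟨A, rfl⟩ := e.surjective u
    obtain ⟨B, rfl⟩ := e.surjective v
    obtain ⟨C, rfl⟩ := e.surjective w
    have hB : ¬ CfsgLib.SL2C.IsScal (B : Matrix (Fin 2) (Fin 2) F) := by
      rintro ⟨c, hc⟩
      have hd : c * c = 1 := by
        have := B.2
        rw [hc, Matrix.det_smul, Matrix.det_one, mul_one, Fintype.card_fin, pow_two] at this
        exact this
      have hc1 : c = 1 := (mul_self_eq_one_iff.1 hd).elim id fun h => h.trans (CharTwo.neg_eq 1)
      refine hv ?_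
      rw [show B = 1 from Subtype.ext (by rw [hc, hc1, one_smul]; rfl), map_one]
    have h1 := congrArg Subtype.val (e.injective (by rw [map_mul, map_mul]; exact huv.eq) : A * B = B * A)
    have h2 := congrArg Subtype.val (e.injective (by rw [map_mul, map_mul]; exact hvw.eq) : B * C = C * B)
    simp only [Matrix.SpecialLinearGroup.coe_mul] at h1 h2
    obtain ⟨a, b, ha⟩ := CfsgLib.SL2C.exists_eq_smul_add_smul hB h1.symm
    obtain ⟨a', b', hc⟩ := CfsgLib.SL2C.exists_eq_smul_add_smul hB h2
    show e A * e C = e C * e A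
    rw [← map_mul, ← map_mul]
    refine congrArg e (Subtype.ext ?_)
    rw [Matrix.SpecialLinearGroup.coe_mul, Matrix.SpecialLinearGroup.coe_mul, ha, hc]
    simp only [Matrix.add_mul, Matrix.mul_add, Matrix.smul_mul, Matrix.mul_smul, Matrix.one_mul, Matrix.mul_one, smul_smul]
    module
  intro g hg y hy hy'
  by_contra hy1
  have hmem : ∀ z, z ∈ Subgroup.centralizer ({x} : Set (Matrix.ProjectiveSpecialLinearGroup (Fin 2) F)) ↔ Commute x z :=
    fun z => by rw [Subgroup.mem_centralizer_iff]; simp [Commute, SemiconjBy]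
  rw [SetLike.mem_coe, hmem] at hy hy'
  have hmid : ∀ z, Commute x z ↔ Commute (g * y * g⁻¹) z := fun z =>
    ⟨fun h => key _ x z hx1 hy'.symm h,
      fun h => key x _ z (fun e0 => hy1 (conj_eq_one_iff.1 e0)) hy' h⟩
  have hy2 : ∀ z, Commute x z ↔ Commute y z := fun z =>
    ⟨fun h => key y x z hx1 hy.symm h, fun h => key x y z hy1 hy h⟩
  refine hg (Subgroup.mem_set_normalizer_iff.2 fun z => ?_)
  rw [SetLike.mem_coe, SetLike.mem_coe, hmem, hmem, hmid (g * z * g⁻¹), hy2]
  exact ((show Commute y z ↔ Commute (g * y * g⁻¹) (g * z * g⁻¹) from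
    ⟨fun h => h.map (MulAut.conj g).toMonoidHom, fun h => by simpa [mul_assoc] using h.map (MulAut.conj g⁻¹).toMonoidHom⟩))

end Cfsg.Agent.S4065
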