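import Cfsg.Statements.S4066
import Cfsg.Agent.FGSB.Small
import Cfsg.Agent.Solvable.Basics

set_option autoImplicit false
open Cfsg

namespace Cfsg.Agent.S4066

/-- Let G be a finite group in which the centralizer of every element meets each of its conjugates by elements outside its normalizer trivially. Then any two distinct Sylow p-subgroups of G, for any prime p, intersect trivially. -/
theorem result {G : Type*} [Group G] [Finite G] (hTI : ∀ x : G, Cfsg.IsTISubset (Subgroup.centralizer ({x} : Set G) : Set G))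
    {p : ℕ} [Fact p.Prime] (P Q : Sylow p G) (hPQ : P ≠ Q) : (P : Subgroup G) ⊓ (Q : Subgroup G) = ⊥ := by
  have hp := (Fact.out : p.Prime)
  by_contra hne
  obtain ⟨x, hx, hx1⟩ := (Subgroup.bot_or_exists_ne_one _).resolve_left hne
  obtain ⟨hxP, hxQ⟩ := Subgroup.mem_inf.1 hx
  have : Nontrivial (P : Subgroup G) := ⟨⟨⟨x, hxP⟩, 1, fun h => hx1 (congrArg Subtype.val h)⟩⟩
  have := P.isPGroup'.center_nontrivial
  obtain ⟨z', hz'⟩ := exists_ne (1 : Subgroup.center (P : Subgroup G))
  set z : G := ((z' : (P : Subgroup G)) : G)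
  have hz1 : z ≠ 1 := fun h => hz' (Subtype.ext (Subtype.ext h))
  have hzc : ∀ y ∈ (P : Subgroup G), y * z = z * y := fun y hy =>
    congrArg Subtype.val (Subgroup.mem_center_iff.1 z'.2 ⟨y, hy⟩)
  set C := Subgroup.centralizer ({z} : Set G) with hC
  have hPC : (P : Subgroup G) ≤ C := fun y hy => Subgroup.mem_centralizer_singleton_iff.2 (hzc y hy)
  obtain ⟨g, hg⟩ := MulAction.exists_smul_eq G P Q
  have hx' : g⁻¹ * x * g ∈ (P : Subgroup G) := by
    obtain ⟨w, hw, hw'⟩ : x ∈ ((g • P : Sylow p G) : Subgroup G) := hg.symm ▸ hxQ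
    change g * w * g⁻¹ = x at hw'
    rw [← hw']
    simpa [mul_assoc] using (show w ∈ (P : Subgroup G) from hw)
  have hgN : g ∈ Subgroup.normalizer (C : Set G) := by
    by_contra h
    have h1 := hTI z g h (g⁻¹ * x * g) (hPC hx')
      (by rw [show g * (g⁻¹ * x * g) * g⁻¹ = x by group]; exact hPC hxP)
    apply hx1
    rw [mul_assoc, inv_mul_eq_one] at h1
    exact mul_right_cancel (h1.symm.trans (one_mul g).symm)
  have hQC : (Q : Subgroup G) ≤ C := by
    rw [← hg]
    rintro _ ⟨y, hy, rfl⟩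
    exact (Subgroup.mem_normalizer_iff.1 hgN y).1 (hPC hy)
  -- inside `C` every centraliser is normal
  have key : ∀ y ∈ C, ∀ w ∈ C, w ∈ Subgroup.normalizer (Subgroup.centralizer ({y} : Set G) : Set G) := by
    intro y hy w hw
    by_contra h
    refine hz1 (hTI y w h z ?_ ?_)
    · exact Subgroup.mem_centralizer_singleton_iff.2 (Subgroup.mem_centralizer_singleton_iff.1 hy).symm
    · rw [Subgroup.mem_centralizer_singleton_iff.1 hw, mul_inv_cancel_right]
      exact Subgroup.mem_centralizer_singleton_iff.2 (Subgroup.mem_centralizer_singleton_iff.1 hy).symm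
  -- so every `p`-element of `C` lies in an abelian normal subgroup, hence in every Sylow subgroup
  have hall : ∀ R : Sylow p ↥C, ∀ y : ↥C, (∃ k, orderOf y = p ^ k) → y ∈ (R : Subgroup ↥C) := by
    rintro R y ⟨k, hk⟩
    set D := Subgroup.centralizer ({y} : Set ↥C)
    have hDn : D.Normal := ⟨fun u hu w => by
      rw [Subgroup.mem_centralizer_singleton_iff] at hu ⊢
      apply Subtype.ext
      have h1 := (Subgroup.mem_normalizer_iff.1 (key (y : G) y.2 (w : G) w.2) (u : G)).1
        (Subgroup.mem_centralizer_singleton_iff.2 (congrArg Subtype.val hu))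
      exact Subgroup.mem_centralizer_singleton_iff.1 h1⟩
    set Z := D ⊓ Subgroup.centralizer (D : Set ↥C)
    have : Z.Normal := inferInstance
    have hyZ : y ∈ Z := ⟨Subgroup.mem_centralizer_singleton_iff.2 rfl,
      Subgroup.mem_centralizer_iff.2 fun u hu => Subgroup.mem_centralizer_singleton_iff.1 hu⟩
    let T : Subgroup ↥C :=
      { carrier := {u | u ∈ Z ∧ ∃ j, u ^ p ^ j = 1}
        mul_mem' := by
          rintro a b ⟨ha, i, hi⟩ ⟨hb, j, hj⟩
          refine ⟨Z.mul_mem ha hb, i + j, ?_⟩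
          have hab : Commute a b := (Subgroup.mem_centralizer_iff.1 hb.2 a ha.1)
          rw [hab.mul_pow, pow_add, pow_mul, pow_mul' b, hi, hj, one_pow, one_pow, one_mul]
        one_mem' := ⟨Z.one_mem, 0, one_pow _⟩
        inv_mem' := by
          rintro a ⟨ha, i, hi⟩
          exact ⟨Z.inv_mem ha, i, by rw [inv_pow, hi, inv_one]⟩ }
    have hTn : T.Normal := ⟨fun u hu w => ⟨Subgroup.Normal.conj_mem ‹Z.Normal› u hu.1 w, by
      obtain ⟨j, hj⟩ := hu.2
      exact ⟨j, by rw [conj_pow, hj, mul_one, mul_inv_cancel]⟩⟩⟩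
    have hTp : IsPGroup p T := fun u => by
      obtain ⟨j, hj⟩ := u.2.2
      exact ⟨j, Subtype.ext (by simpa using hj)⟩
    rw [← R.3 (IsPGroup.to_sup_of_normal_left hTp R.isPGroup') le_sup_right]
    exact Subgroup.mem_sup_left ⟨hyZ, k, by rw [← hk, pow_orderOf_eq_one]⟩
  apply hPQ
  apply Sylow.ext
  refine Subgroup.eq_of_le_of_card_ge (fun y hy => ?_)
    (by rw [Q.card_eq_multiplicity, P.card_eq_multiplicity])
  obtain ⟨k, hk⟩ := IsPGroup.iff_orderOf.1 P.isPGroup' ⟨y, hy⟩
  rw [Subgroup.orderOf_mk] at hk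
  set R : Sylow p ↥C := Q.subtype hQC
  have := hall R ⟨y, hPC hy⟩ ⟨k, by rwa [Subgroup.orderOf_mk]⟩
  exact this

end Cfsg.Agent.S4066
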