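import Cfsg.Statements.S4067
import Cfsg.Agent.FGSA.AutOrbits

set_option autoImplicit false
open Cfsg
set_option linter.style.haveILetI false

namespace Cfsg.Agent.S4067

open Subgroup CfsgLib.AutOrbits

variable {G : Type*} [Group G] [Finite G]

/-- The transvection automorphism `x ↦ x·d(φ x)`. -/
theorem orbit_transvection (M U : Subgroup G) (hU : U ≤ center G)
    (hUc : ∀ a b : G, a * b * a⁻¹ * b⁻¹ ∈ U) (hUM : U ≤ M) (hM : M.index = (Nat.card G).minFac)
    (hUp : Nat.card U = (Nat.card G).minFac) (hp : (Nat.card G).minFac.Prime)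
    {g w : G} (hg : g ∉ M) (hw : w ∈ M) (hwM : ∀ m ∈ M, Commute w m) (hwU : w ∉ U)
    (hpow : (g * w) ^ (Nat.card G).minFac = g ^ (Nat.card G).minFac) (hcZ : center G ≤ M) :
    ∀ x : G, x ∉ M → (Nat.card G).minFac ^ 2 ≤ Nat.card (MulAction.orbit (MulAut G) x) := by
  classical
  set p := (Nat.card G).minFac with hpdef
  haveI := Fact.mk hp
  haveI hMn : M.Normal := Subgroup.normal_of_index_eq_minFac_card hM
  haveI hUn : U.Normal := ⟨fun n hn a => by
    rwa [mem_center_iff.mp (hU hn) a, mul_inv_cancel_right]⟩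
  have hcard : Nat.card (G ⧸ M) = p := hM
  have hgen : ∀ x : G, ∃ i : ℤ, x * g ^ (-i) ∈ M := fun x => by
    have h1 : (QuotientGroup.mk g : G ⧸ M) ≠ 1 := fun h => hg ((QuotientGroup.eq_one_iff g).mp h)
    obtain ⟨i, hi⟩ := mem_zpowers_of_prime_card hcard h1 (g' := (QuotientGroup.mk x : G ⧸ M))
    refine ⟨i, (QuotientGroup.eq_one_iff _).mp ?_⟩
    rw [QuotientGroup.mk_mul, QuotientGroup.mk_zpow, ← hi, zpow_neg, mul_inv_cancel]
  choose φ hφ using hgen
  have hdiv : ∀ k : ℤ, g ^ k ∈ M → (p : ℤ) ∣ k := by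
    intro k hk
    have h1 : (QuotientGroup.mk g : G ⧸ M) ≠ 1 := fun h => hg ((QuotientGroup.eq_one_iff g).mp h)
    have h2 : orderOf (QuotientGroup.mk g : G ⧸ M) = p := orderOf_eq_prime
      (hcard ▸ pow_card_eq_one') h1
    rw [← h2, orderOf_dvd_iff_zpow_eq_one, ← QuotientGroup.mk_zpow, QuotientGroup.eq_one_iff]
    exact hk
  set d : ℤ → G := fun i => g ^ (-i) * (g * w) ^ i with hd
  have hdper : ∀ i k : ℤ, d (i + (p : ℤ) * k) = d i := by
    intro i k
    simp only [hd]
    rw [add_comm i, zpow_add (g * w), zpow_mul (g * w), zpow_natCast, hpow, ← zpow_natCast g p,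
      ← zpow_mul, show -((p : ℤ) * k + i) = -i + -((p : ℤ) * k) by ring, zpow_add g, mul_assoc,
      ← mul_assoc (g ^ (-((p : ℤ) * k))), ← zpow_add, neg_add_cancel, zpow_zero, one_mul]
  let π := QuotientGroup.mk' U
  have hπc : ∀ a b : G, Commute (π a) (π b) := fun a b => by
    have h : π (a * b * a⁻¹ * b⁻¹) = 1 := (QuotientGroup.eq_one_iff _).mpr (hUc a b)
    rw [map_mul, map_mul, map_mul, map_inv, map_inv, mul_inv_eq_one, mul_inv_eq_iff_eq_mul] at h
    exact h
  have hdU : ∀ i : ℤ, π (d i) = π w ^ i := fun i => by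
    rw [hd, map_mul, map_zpow, map_zpow, map_mul, (hπc g w).mul_zpow, ← mul_assoc, ← zpow_add,
      neg_add_cancel, zpow_zero, one_mul]
  have hdmem : ∀ i : ℤ, ∃ u ∈ U, d i = w ^ i * u := fun i => by
    refine ⟨(w ^ i)⁻¹ * d i, QuotientGroup.eq.mp ?_, (mul_inv_cancel_left _ _).symm⟩
    exact ((map_zpow π w i).trans (hdU i).symm)
  have hdM : ∀ i, d i ∈ M := fun i => by
    obtain ⟨u, hu, e⟩ := hdmem i
    exact e ▸ mul_mem (zpow_mem hw i) (hUM hu)
  have hdcomm : ∀ i, ∀ m ∈ M, Commute (d i) m := fun i m hm => by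
    obtain ⟨u, hu, e⟩ := hdmem i
    exact e ▸ ((hwM m hm).zpow_left i).mul_left (show u * m = m * u from
      (mem_center_iff.mp (hU hu) m).symm)
  have huniq : ∀ x : G, ∀ i : ℤ, x * g ^ (-i) ∈ M → d (φ x) = d i := by
    intro x i hi
    have h := mul_mem (inv_mem hi) (hφ x)
    rw [show (x * g ^ (-i))⁻¹ * (x * g ^ (-φ x)) = g ^ (i - φ x) by group] at h
    obtain ⟨k, hk⟩ := hdiv _ h
    rw [show i = φ x + (p : ℤ) * k by rw [← hk]; ring, hdper]
  have hmul : ∀ x y : G, x * y * d (φ (x * y)) = x * d (φ x) * (y * d (φ y)) := by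
    intro x y
    have hm : y * g ^ (-φ y) ∈ M := hφ y
    have hxy : x * y * g ^ (-(φ x + φ y)) ∈ M := by
      rw [show x * y * g ^ (-(φ x + φ y)) =
        x * (y * g ^ (-φ y)) * x⁻¹ * (x * g ^ (-φ x)) by group]
      exact mul_mem (hMn.conj_mem _ hm x) (hφ x)
    rw [huniq _ _ hxy]
    generalize φ x = i, φ y = j at *
    have e := (hdcomm i _ hm).eq
    calc x * y * d (i + j) = x * (y * g ^ (-j) * d i) * (g * w) ^ j := by
          simp only [hd]; rw [neg_add, zpow_add g, zpow_add (g * w)]
          rw [((Commute.refl g).zpow_zpow (-i) (-j)).eq]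
          group
      _ = x * (d i * (y * g ^ (-j))) * (g * w) ^ j := by rw [e]
      _ = x * d i * (y * d j) := by simp only [hd]; group
  let F : G →* G := MonoidHom.mk' (fun x => x * d (φ x)) hmul
  have hd0 : d 0 = 1 := by simp [hd]
  have hdφM : ∀ m ∈ M, d (φ m) = 1 := fun m hm => by
    rw [huniq m 0 (by simpa using hm), hd0]
  have hFinj : Function.Injective F := by
    refine (injective_iff_map_eq_one F).mpr fun x hx => ?_
    have hx' : x * d (φ x) = 1 := hx
    have hxM : x ∈ M := by rw [mul_eq_one_iff_eq_inv.mp hx']; exact inv_mem (hdM _)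
    rwa [hdφM x hxM, mul_one] at hx'
  let f : MulAut G := MulEquiv.ofBijective F ⟨hFinj, Finite.surjective_of_injective hFinj⟩
  intro x hx
  have hxc : x ∉ center G := fun h => hx (hcZ h)
  have hpow_f : ∀ (j : ℕ) (u : G), u ∈ U → (f ^ j) (x * u) = x * u * d (φ x) ^ j := by
    intro j u hu
    induction j with
    | zero => simp
    | succ j ih =>
      rw [pow_succ', MulAut.mul_apply, ih]
      show F (x * u * d (φ x) ^ j) = _
      rw [map_mul, map_mul]
      show x * d (φ x) * (u * d (φ u)) * F (d (φ x) ^ j) = _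
      rw [hdφM u (hUM hu), mul_one, map_pow]
      show x * d (φ x) * u * (d (φ x) * d (φ (d (φ x)))) ^ j = _
      rw [hdφM _ (hdM _), mul_one, mul_assoc x, mem_center_iff.mp (hU hu) (d (φ x)), ← mul_assoc x,
        mul_assoc _ (d (φ x)), ← pow_succ']
  have horb : ∀ u ∈ U, x * u ∈ MulAction.orbit (MulAut G) x := by
    -- the class of `x` is `xU`
    let ψ : G →* G := MonoidHom.mk' (fun b => b * x * b⁻¹ * x⁻¹) (fun a b => by
      have hc := mem_center_iff.mp (hU (hUc b x)) a
      calc a * b * x * (a * b)⁻¹ * x⁻¹ = a * (b * x * b⁻¹ * x⁻¹) * (x * a⁻¹ * x⁻¹) := by group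
        _ = b * x * b⁻¹ * x⁻¹ * a * (x * a⁻¹ * x⁻¹) := by rw [hc]
        _ = b * x * b⁻¹ * x⁻¹ * (a * x * a⁻¹ * x⁻¹) := by group
        _ = _ := (mem_center_iff.mp (hU (hUc b x)) _).symm)
    have hle : ψ.range ≤ U := by rintro _ ⟨b, rfl⟩; exact hUc b x
    have hne : ψ.range ≠ ⊥ := fun h => hxc (mem_center_iff.mpr fun b => by
      have e : ψ b = 1 := mem_bot.mp (h ▸ ⟨b, rfl⟩)
      exact mul_inv_eq_iff_eq_mul.mp (mul_inv_eq_one.mp e))
    have heq : ψ.range = U := Subgroup.eq_of_le_of_card_ge hle (by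
      rw [hUp]; exact p_le_of_dvd (card_subgroup_dvd_card _) fun h => hne (card_eq_one.mp h))
    intro u hu
    obtain ⟨b, rfl⟩ := heq.symm ▸ hu
    refine ⟨MulAut.conj b, ?_⟩
    show b * x * b⁻¹ = x * (b * x * b⁻¹ * x⁻¹)
    rw [mem_center_iff.mp (hU (hUc b x)) x, inv_mul_cancel_right]
  have hdn : d (φ x) ∉ U := by
    intro hin
    have h : π w ^ φ x = 1 := (hdU _).symm.trans ((QuotientGroup.eq_one_iff _).mpr hin)
    have hnd : ¬ (p : ℤ) ∣ φ x := fun ⟨k, hk⟩ => hx (by
      have hgp : g ^ p ∈ M := (QuotientGroup.eq_one_iff _).mp (show ((g ^ p : G) : G ⧸ M) = 1 by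
        rw [QuotientGroup.mk_pow, ← hcard]; exact pow_card_eq_one')
      have := mul_mem (hφ x) (zpow_mem hgp k)
      rwa [← zpow_natCast g, ← zpow_mul, ← hk, mul_assoc, ← zpow_add, neg_add_cancel, zpow_zero,
        mul_one] at this)
    have ho : orderOf (π w) ∣ p := by
      rw [orderOf_dvd_iff_pow_eq_one]
      have hp' : π ((g * w) ^ p) = π (g ^ p) := congrArg π hpow
      rwa [map_pow, map_pow, map_mul, (hπc g w).mul_pow, mul_eq_left] at hp'
    rcases (Nat.dvd_prime hp).mp ho with h1 | h1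
    · exact hwU ((QuotientGroup.eq_one_iff w).mp (orderOf_eq_one_iff.mp h1))
    · exact hnd (h1 ▸ orderOf_dvd_iff_zpow_eq_one.mpr h)
  have e : Nat.card (Fin p × U) = p ^ 2 := by rw [Nat.card_prod, Nat.card_fin, hUp, pow_two]
  rw [← e]
  refine Nat.card_le_card_of_injective
    (fun q => ⟨x * q.2 * d (φ x) ^ (q.1 : ℕ), ?_⟩) ?_
  · obtain ⟨a, ha⟩ := horb q.2 q.2.2
    exact ⟨f ^ (q.1 : ℕ) * a, by
      show (f ^ (q.1 : ℕ)) (a • x) = _
      rw [show a • x = x * q.2 from ha, hpow_f _ _ q.2.2]⟩
  · rintro ⟨i, u⟩ ⟨j, v⟩ hab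
    have h : x * (u : G) * d (φ x) ^ (i : ℕ) = x * v * d (φ x) ^ (j : ℕ) := congrArg Subtype.val hab
    rw [mul_assoc, mul_assoc, mul_left_cancel_iff] at h
    have key : ∀ i j : ℕ, i ≤ j → j < p → ∀ u v : U,
        (u : G) * d (φ x) ^ i = v * d (φ x) ^ j → i = j := by
      intro i j hij hj u v h
      by_contra hne
      obtain ⟨e, rfl⟩ := Nat.exists_eq_add_of_le hij
      rw [pow_add, ((Commute.refl (d (φ x))).pow_pow i e).eq, ← mul_assoc, mul_left_inj] at h
      refine hdn (mem_of_pow_mem (k := e) (by omega) (by omega) ?_)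
      rw [show d (φ x) ^ e = (v : G)⁻¹ * u by rw [h, inv_mul_cancel_left]]
      exact mul_mem (inv_mem v.2) u.2
    have hij : (i : ℕ) = j := (le_total (i : ℕ) j).elim (fun hle => key _ _ hle j.isLt u v h)
      fun hle => (key _ _ hle i.isLt v u h.symm).symm
    rw [hij, mul_left_inj] at h
    exact Prod.ext (Fin.ext hij) (Subtype.ext h)

/-- A case of class two with derived group of order `p`. -/
theorem case_small (U : Subgroup G) (hU : U ≤ center G) (hp : (Nat.card G).minFac.Prime)
    (hUc : ∀ a b : G, a * b * a⁻¹ * b⁻¹ ∈ U) (hUp : Nat.card U = (Nat.card G).minFac)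
    (hna : ∃ x y : G, x * y ≠ y * x) :
    Nat.card (MulAction.orbitRel.Quotient (MulAut G) G) ≤ Nat.card G / (Nat.card G).minFac := by
  set p := (Nat.card G).minFac with hpdef
  haveI := Fact.mk hp
  have hUpow : ∀ u ∈ U, u ^ p = 1 := fun u hu => by
    have : (⟨u, hu⟩ : U) ^ Nat.card U = 1 := pow_card_eq_one'
    rw [hUp] at this
    exact congrArg Subtype.val this
  obtain ⟨x, y, hxy⟩ := hna
  -- centralizers of non-central elements
  have hidx : ∀ k : G, k ∉ center G → (centralizer ({k} : Set G)).index = p := by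
    intro k hk
    let ψ : G →* G := MonoidHom.mk' (fun b => b * k * b⁻¹ * k⁻¹) (fun a b => by
      have hc := mem_center_iff.mp (hU (hUc b k))
      calc a * b * k * (a * b)⁻¹ * k⁻¹ = a * (b * k * b⁻¹ * k⁻¹) * (k * a⁻¹ * k⁻¹) := by group
        _ = b * k * b⁻¹ * k⁻¹ * a * (k * a⁻¹ * k⁻¹) := by rw [hc a]
        _ = b * k * b⁻¹ * k⁻¹ * (a * k * a⁻¹ * k⁻¹) := by group
        _ = _ := (hc _).symm)
    have hker : ψ.ker = centralizer ({k} : Set G) := by
      ext b
      rw [MonoidHom.mem_ker, mem_centralizer_singleton_iff]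
      show b * k * b⁻¹ * k⁻¹ = 1 ↔ _
      rw [mul_inv_eq_one, mul_inv_eq_iff_eq_mul]
    have hle : ψ.range ≤ U := by rintro _ ⟨b, rfl⟩; exact hUc b k
    rw [← hker, index_ker]
    refine le_antisymm ((Nat.card_le_card_of_injective _ (inclusion_injective hle)).trans hUp.le)
      (p_le_of_dvd (card_subgroup_dvd_card _) fun h => hk (index_centralizer_eq_one.mp ?_))
    rw [← hker, index_ker, h]
  suffices hexist : ∃ w : G, w ∉ U ∧ ∃ h : G, h ∉ center G ∧ Commute w h ∧
      (∀ m, Commute h m → Commute w m) ∧ ∀ g : G, ¬ Commute h g → (g * w) ^ p = g ^ p by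
    obtain ⟨w, hwU, h, hh, hwh, hwc, hpow⟩ := hexist
    have hmem : ∀ m, m ∈ centralizer ({h} : Set G) ↔ Commute h m := fun m => by
      rw [mem_centralizer_singleton_iff]
      exact ⟨fun e => e.symm, fun e => e.eq.symm⟩
    obtain ⟨g, hg⟩ : ∃ g, ¬ Commute h g := by
      by_contra hc; push Not at hc; exact hh (mem_center_iff.mpr fun g => (hc g).eq.symm)
    have hcZ : center G ≤ centralizer ({h} : Set G) := center_le_centralizer _
    have horb := orbit_transvection (centralizer ({h} : Set G)) U hU hUc (hU.trans hcZ) (hidx h hh)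
      hUp hp (g := g) (fun e => hg ((hmem g).mp e)) ((hmem w).mpr hwh.symm)
      (fun m hm => hwc m ((hmem m).mp hm)) hwU (hpow g hg) hcZ
    refine reduce_sq {a | a ∉ centralizer ({h} : Set G)} (g := g) (k := h) hh hp.two_le
      (fun a ha => horb a ha) fun i _ z hz e => hg ?_
    have c1 : Commute h (g * h ^ i * z) := (hmem _).mp e
    have c2 : Commute h z := mem_center_iff.mp hz h
    have c3 := (c1.mul_right c2.inv_right).mul_right ((Commute.refl h).pow_right i).inv_right
    rwa [mul_inv_cancel_right, mul_inv_cancel_right] at c3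
  by_cases hΩ : ∃ z ∈ center G, z ^ p = 1 ∧ z ∉ U
  · obtain ⟨z, hz, hzp, hzU⟩ := hΩ
    have hzc : ∀ m, Commute z m := fun m => (mem_center_iff.mp hz m).symm
    exact ⟨z, hzU, x, fun hx => hxy ((mem_center_iff.mp hx y).symm), hzc x, fun m _ => hzc m,
      fun g _ => by rw [(hzc g).symm.mul_pow, hzp, mul_one]⟩
  push Not at hΩ
  -- `p`-th powers lie in the centre, and `Z ⧸ Z^p` has order at most `p`
  have hC2 : ∀ a b : G, ∀ n : ℕ, (a * b) ^ n = a ^ n * b ^ n * (b * a * b⁻¹ * a⁻¹) ^ n.choose 2 :=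
    fun a b n => mul_pow_class_two (fun m => (mem_center_iff.mp (hU (hUc b a)) m).symm)
      (show b * a = b * a * b⁻¹ * a⁻¹ * (a * b) by group) n
  have hpZ : ∀ a : G, a ^ p ∈ center G := by
    intro a
    refine mem_center_iff.mpr fun m => ?_
    have hu := hUc m a
    have hc : ∀ n, Commute (m * a * m⁻¹ * a⁻¹) n := fun n => (mem_center_iff.mp (hU hu) n).symm
    have e : m * a ^ p * m⁻¹ = a ^ p := by
      rw [← conj_pow, show m * a * m⁻¹ = m * a * m⁻¹ * a⁻¹ * a by group, (hc a).mul_pow,
        hUpow _ hu, one_mul]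
    exact mul_inv_eq_iff_eq_mul.mp e
  have hZc : ∀ a b : center G, a * b = b * a := fun a b => Subtype.ext (mem_center_iff.mp b.2 a)
  let η : center G →* center G :=
    MonoidHom.mk' (fun z => z ^ p) fun a b => (show Commute a b from hZc a b).mul_pow p
  haveI : η.range.Normal := ⟨fun n hn g => by rwa [hZc g n, mul_inv_cancel_right]⟩
  have hker : Nat.card η.ker ∣ p := by
    have hmap : η.ker.map (center G).subtype ≤ U := by
      rintro _ ⟨z, hz, rfl⟩
      exact hΩ z z.2 (congrArg Subtype.val (show z ^ p = 1 from hz))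
    rw [← hUp, ← Subgroup.card_map_of_injective (center G).subtype_injective]
    exact card_dvd_of_le hmap
  have hPidx : η.range.index ∣ p := by
    have h1 := η.range.card_mul_index
    have h2 := η.ker.card_mul_index
    rw [index_ker] at h2
    rw [← h2, mul_comm (Nat.card η.ker), Nat.mul_left_cancel_iff Nat.card_pos] at h1
    exact h1 ▸ hker
  let q : ∀ a : G, center G := fun a => ⟨a ^ p, hpZ a⟩
  rcases hp.eq_two_or_odd' with hp2 | hodd
  · -- `p = 2`
    let z : center G := ⟨y * x * y⁻¹ * x⁻¹, hU (hUc y x)⟩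
    have hz2 : z * z = 1 := Subtype.ext (by
      show (z : G) * z = 1
      rw [← pow_two]; exact hp2 ▸ hUpow _ (hUc y x))
    have hUz : ∀ u ∈ U, u ≠ 1 → u = (z : G) := by
      intro u hu hu1
      haveI := Fintype.ofFinite U
      by_contra hne
      have hz1 : (z : G) ≠ 1 := fun h => hxy (mul_inv_eq_iff_eq_mul.mp (mul_inv_eq_one.mp h)).symm
      have h3 : 2 < Nat.card U := by
        rw [Nat.card_eq_fintype_card, ← Finset.card_univ, Finset.two_lt_card_iff]
        exact ⟨1, ⟨u, hu⟩, ⟨z, hUc y x⟩, Finset.mem_univ _, Finset.mem_univ _, Finset.mem_univ _,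
          fun h => hu1 (congrArg Subtype.val h).symm, fun h => hz1 (congrArg Subtype.val h).symm,
          fun h => hne (congrArg Subtype.val h)⟩
      omega
    obtain ⟨h, hh, hhP⟩ : ∃ h : G, h ∉ center G ∧ q h * z ∈ η.range := by
      by_cases h1 : q x * z ∈ η.range
      · exact ⟨x, fun hx => hxy ((mem_center_iff.mp hx y).symm), h1⟩
      by_cases h2 : q y * z ∈ η.range
      · exact ⟨y, fun hy => hxy (mem_center_iff.mp hy x), h2⟩
      refine ⟨x * y, fun hc => hxy ?_, ?_⟩
      · have := mem_center_iff.mp hc x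
        rw [mul_assoc x y x, mul_left_cancel_iff] at this
        exact this
      have hi : η.range.index = 2 := by
        rcases (Nat.dvd_prime hp).mp hPidx with hi | hi
        · exact absurd (index_eq_one.mp hi ▸ mem_top _) h1
        · exact hi.trans hp2
      have := (Subgroup.mul_mem_iff_of_index_two hi).mpr (iff_of_false h1 h2)
      have e : q (x * y) * z = q x * z * (q y * z) := by
        rw [mul_assoc (q x) z, ← mul_assoc z (q y), hZc z (q y), mul_assoc (q y), hz2, mul_one]
        refine Subtype.ext ?_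
        show (x * y) ^ p * (z : G) = x ^ p * y ^ p
        have hzz : (z : G) * z = 1 := congrArg Subtype.val hz2
        rw [hC2, hp2, Nat.choose_self, pow_one, mul_assoc]
        show x ^ 2 * y ^ 2 * ((z : G) * z) = _
        rw [hzz, mul_one]
      rw [e]; exact this
    obtain ⟨v, hv⟩ := hhP
    have hv' : (v : G) ^ 2 = h ^ 2 * z := hp2 ▸ congrArg Subtype.val hv
    refine ⟨h * (v : G)⁻¹, fun e => hh ?_, h, hh, ?_, fun m hm => ?_, fun g hg => ?_⟩
    · have := mul_mem (hU e) v.2
      rwa [inv_mul_cancel_right] at this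
    · exact (Commute.refl h).mul_left (show Commute (v : G) h from (mem_center_iff.mp v.2 h).symm).inv_left
    · exact hm.mul_left (show Commute (v : G) m from (mem_center_iff.mp v.2 m).symm).inv_left
    · have hvc : ∀ m, Commute (v : G)⁻¹ m := fun m =>
        (show Commute (v : G) m from (mem_center_iff.mp v.2 m).symm).inv_left
      have hcne : h * (v : G)⁻¹ * g * (h * (v : G)⁻¹)⁻¹ * g⁻¹ ≠ 1 := by
        intro e
        apply hg
        have c : Commute (h * (v : G)⁻¹) g := mul_inv_eq_iff_eq_mul.mp (mul_inv_eq_one.mp e)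
        have := c.mul_left (hvc g).inv_left
        rwa [inv_inv, inv_mul_cancel_right] at this
      rw [hC2, hp2, Nat.choose_self, pow_one, hUz _ (hUc _ _) hcne,
        (hvc h).symm.mul_pow, inv_pow, hv', mul_inv_rev]
      have hzz : (z : G) * z = 1 := congrArg Subtype.val hz2
      rw [inv_eq_of_mul_eq_one_right hzz]
      have hzc : ∀ m, Commute (z : G) m := fun m => (mem_center_iff.mp z.2 m).symm
      generalize (z : G) = z' at hzz hzc ⊢
      rw [(hzc _).eq, mul_assoc (g ^ 2), ← mul_assoc (h ^ 2), mul_inv_cancel, one_mul,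
        hzz, mul_one]
  · -- `p` odd
    have hchoose : ∀ u ∈ U, u ^ p.choose 2 = 1 := fun u hu => by
      obtain ⟨k, hk⟩ := hp.dvd_choose_self two_ne_zero (hp.two_le.lt_of_ne
        (fun h => by rw [← h] at hodd; exact absurd hodd (by decide)))
      rw [hk, pow_mul, hUpow u hu, one_pow]
    have hmul : ∀ a b : G, (a * b) ^ p = a ^ p * b ^ p := fun a b => by
      rw [hC2, hchoose _ (hUc b a), mul_one]
    let Q : G →* center G := MonoidHom.mk' q fun a b => Subtype.ext (hmul a b)
    obtain ⟨h, hh, v, hv⟩ : ∃ h : G, h ∉ center G ∧ Q h ∈ η.range := by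
      by_cases h1 : Q x ∈ η.range
      · exact ⟨x, fun hx => hxy ((mem_center_iff.mp hx y).symm), h1⟩
      have hi : Nat.card (center G ⧸ η.range) = p := by
        rcases (Nat.dvd_prime hp).mp hPidx with hi | hi
        · exact absurd (index_eq_one.mp hi ▸ mem_top _) h1
        · exact hi
      have hx1 : (QuotientGroup.mk (Q x) : center G ⧸ η.range) ≠ 1 :=
        fun e => h1 ((QuotientGroup.eq_one_iff _).mp e)
      obtain ⟨i, hi⟩ := mem_zpowers_of_prime_card hi hx1
        (g' := (QuotientGroup.mk (Q y) : center G ⧸ η.range))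
      refine ⟨(x ^ i)⁻¹ * y, fun hc => hxy ?_, ?_⟩
      · have c1 : Commute x ((x ^ i)⁻¹ * y) := mem_center_iff.mp hc x
        have c2 := ((Commute.refl x).zpow_right i).mul_right c1
        rw [mul_inv_cancel_left] at c2
        exact c2.eq
      · rw [map_mul, map_inv, map_zpow]
        refine QuotientGroup.eq.mp ?_
        rw [QuotientGroup.mk_zpow]
        exact hi
    have hv' : (v : G) ^ p = h ^ p := congrArg Subtype.val hv
    have hvc : ∀ m, Commute (v : G)⁻¹ m := fun m =>
      (show Commute (v : G) m from (mem_center_iff.mp v.2 m).symm).inv_left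
    refine ⟨h * (v : G)⁻¹, fun e => hh ?_, h, hh, (Commute.refl h).mul_left (hvc h),
      fun m hm => hm.mul_left (hvc m), fun g _ => ?_⟩
    · have := mul_mem (hU e) v.2
      rwa [inv_mul_cancel_right] at this
    · rw [hmul, hmul, inv_pow, hv', mul_inv_cancel, mul_one]

/-- The nilpotent of class two case. -/
theorem case_class_two (hp : (Nat.card G).minFac.Prime)
    (hc2 : ∀ a b : G, a * b * a⁻¹ * b⁻¹ ∈ center G) (hna : ∃ x y : G, x * y ≠ y * x) :
    Nat.card (MulAction.orbitRel.Quotient (MulAut G) G) ≤ Nat.card G / (Nat.card G).minFac := by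
  let ψ : G → (G →* G) := fun x => MonoidHom.mk' (fun b => b * x * b⁻¹ * x⁻¹) (fun a b => by
      have hc := mem_center_iff.mp (hc2 b x)
      calc a * b * x * (a * b)⁻¹ * x⁻¹ = a * (b * x * b⁻¹ * x⁻¹) * (x * a⁻¹ * x⁻¹) := by group
        _ = b * x * b⁻¹ * x⁻¹ * a * (x * a⁻¹ * x⁻¹) := by rw [hc a]
        _ = b * x * b⁻¹ * x⁻¹ * (a * x * a⁻¹ * x⁻¹) := by group
        _ = _ := (hc _).symm)
  have hψ : ∀ x, Nat.card (ψ x).range = (centralizer ({x} : Set G)).index := fun x => by
    rw [← index_ker]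
    congr 1
    ext b
    rw [MonoidHom.mem_ker, mem_centralizer_singleton_iff]
    show b * x * b⁻¹ * x⁻¹ = 1 ↔ _
    rw [mul_inv_eq_one, mul_inv_eq_iff_eq_mul]
  have hcl : ∀ x, Nat.card (ψ x).range ≤ Nat.card (MulAction.orbit (MulAut G) x) :=
    fun x => (hψ x).le.trans (index_centralizer_le_orbit x)
  obtain ⟨a, b, hab⟩ := hna
  have hb : b ∉ center G := fun h => hab (mem_center_iff.mp h a)
  have hd1 : ∀ x, x ∉ center G → Nat.card (ψ x).range ≠ 1 := fun x hx h =>
    hx (index_centralizer_eq_one.mp ((hψ x) ▸ h))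
  set p := (Nat.card G).minFac with hpdef
  let B : Set G := {x | x ∉ center G ∧ Nat.card (ψ x).range < p ^ 2}
  have hBprime : ∀ x ∈ B, (Nat.card (ψ x).range).Prime := fun x hx =>
    prime_of_lt_sq (card_subgroup_dvd_card _) (hd1 x hx.1) hx.2
  have hbig : ∀ x, x ∉ center G → x ∉ B → p ^ 2 ≤ Nat.card (MulAction.orbit (MulAut G) x) :=
    fun x hx hxB => (not_lt.mp fun h => hxB ⟨hx, h⟩).trans (hcl x)
  by_cases hB : B = ∅
  · refine reduce_sq {x | x ∉ center G} (g := a) (k := b) hb hp.two_le
      (fun x hx => hbig x hx (by simp [hB])) fun i _ z hz hc => hab ?_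
    have c1 : Commute b (a * b ^ i * z) := mem_center_iff.mp hc b
    have c2 : Commute b z := mem_center_iff.mp hz b
    have c3 := (c1.mul_right c2.inv_right).mul_right ((Commute.refl b).pow_right i).inv_right
    rw [mul_inv_cancel_right, mul_inv_cancel_right] at c3
    exact c3.eq.symm
  obtain ⟨h, hh⟩ := Set.nonempty_iff_ne_empty.mpr hB
  set U := (ψ h).range with hUdef
  have hUZ : U ≤ center G := by rintro _ ⟨b, rfl⟩; exact hc2 b h
  have hUq := hBprime h hh
  have hadd : ∀ x y g : G, ψ (x * y) g = ψ x g * ψ y g := fun x y g => by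
    show g * (x * y) * g⁻¹ * (x * y)⁻¹ = g * x * g⁻¹ * x⁻¹ * (g * y * g⁻¹ * y⁻¹)
    calc g * (x * y) * g⁻¹ * (x * y)⁻¹ = g * x * g⁻¹ * (g * y * g⁻¹ * y⁻¹) * x⁻¹ := by group
      _ = g * x * g⁻¹ * (x⁻¹ * (g * y * g⁻¹ * y⁻¹)) := by
        rw [mul_assoc, mem_center_iff.mp (hc2 g y) x⁻¹]
      _ = _ := by group
  let W : Subgroup G :=
    { carrier := {x | ∀ g, ψ x g ∈ U}
      one_mem' := fun g => by show g * 1 * g⁻¹ * 1⁻¹ ∈ U; simp
      mul_mem' := fun {x y} hx hy g => by rw [hadd]; exact mul_mem (hx g) (hy g)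
      inv_mem' := fun {x} hx g => by
        have e : ψ x⁻¹ g * ψ x g = 1 := by
          rw [← hadd, inv_mul_cancel]; show g * 1 * g⁻¹ * 1⁻¹ = 1; simp
        rw [eq_inv_of_mul_eq_one_left e]; exact inv_mem (hx g) }
  have hhW : h ∈ W := fun g => ⟨g, rfl⟩
  have hZW : center G ≤ W := fun z hz g => by
    show g * z * g⁻¹ * z⁻¹ ∈ U
    rw [mem_center_iff.mp hz g, mul_inv_cancel_right, mul_inv_cancel]; exact one_mem _
  by_cases hBW : ∀ x ∈ B, x ∈ W
  · by_cases hWtop : W = ⊤
    · -- derived group of prime order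
      have hall : ∀ x y : G, y * x * y⁻¹ * x⁻¹ ∈ U := fun x y =>
        (hWtop.symm ▸ mem_top x : x ∈ W) y
      by_cases hq : Nat.card U = p
      · exact case_small U hUZ hp (fun x y => hall y x) hq ⟨a, b, hab⟩
      · set s := Nat.card U
        have hps : p < s := lt_of_le_of_ne (p_le_of_dvd (card_subgroup_dvd_card _) hUq.ne_one) (Ne.symm hq)
        have hsz : ∀ x, x ∉ center G → s ≤ Nat.card (MulAction.orbit (MulAut G) x) := by
          intro x hx
          refine le_trans ?_ (hcl x)
          have hle : (ψ x).range ≤ U := by rintro _ ⟨g, rfl⟩; exact hall x g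
          rcases (Nat.dvd_prime hUq).mp (card_dvd_of_le hle) with h1 | h1
          · exact absurd h1 (hd1 x hx)
          · exact h1.ge
        refine reduce {x | x ∉ center G} s hps hsz ?_
        have hhc : centralizer ({h} : Set G) ≠ ⊤ := fun e =>
          hh.1 (index_centralizer_eq_one.mp (index_eq_one.mpr e))
        have h1 : (center G).index ≠ 1 := fun e =>
          hab (mem_center_iff.mp ((index_eq_one.mp e).symm ▸ mem_top b) a)
        -- `s ∣ index` and the index is not prime
        have hlt : center G < centralizer ({h} : Set G) :=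
          lt_of_le_of_ne (center_le_centralizer _) fun e => hh.1
            (e.symm ▸ mem_centralizer_singleton_iff.mpr rfl)
        have h2 : p * s ≤ (center G).index := by
          rw [← relIndex_mul_index (center_le_centralizer ({h} : Set G)), ← hψ h]
          refine Nat.mul_le_mul_right _ (p_le_of_dvd ((relIndex_dvd_card _ _).trans
            (card_subgroup_dvd_card _)) fun e => hlt.not_ge (relIndex_eq_one.mp e))
        have hT : Nat.card (center G) + Nat.card {x : G | x ∉ center G} = Nat.card G := by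
          classical
          rw [← Nat.card_sum]
          exact Nat.card_congr (Equiv.sumCompl (fun x : G => x ∈ center G))
        have h3 := (center G).card_mul_index
        obtain ⟨e, he⟩ : ∃ e, p = e + 1 := ⟨p - 1, by have := hp.pos; omega⟩
        show (p - 1) * s * _ ≤ (s - p) * _
        rw [he] at h2 hps ⊢
        obtain ⟨d, hd⟩ : ∃ d, s = e + 1 + (d + 1) := ⟨s - (e + 1) - 1, by omega⟩
        rw [hd] at h2 ⊢
        rw [Nat.add_sub_cancel_left, Nat.add_sub_cancel]
        generalize Nat.card (center G) = c at hT h3 ⊢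
        generalize Nat.card {x : G | x ∉ center G} = t at hT ⊢
        generalize (center G).index = n at h2 h3
        obtain ⟨m, rfl⟩ := Nat.exists_eq_add_of_le h2
        nlinarith
    · -- outside `W` all classes are large
      obtain ⟨g, hg⟩ : ∃ g, g ∉ W := by
        by_contra hc; push Not at hc; exact hWtop ((eq_top_iff' W).mpr hc)
      refine reduce_sq {x | x ∉ W} (g := g) (k := h) hh.1 hp.two_le
        (fun x hx => hbig x (fun hz => hx (hZW hz)) fun hxB => hx (hBW x hxB))
        fun i _ z hz e => hg ?_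
      have := mul_mem (mul_mem e (inv_mem (hZW hz))) (inv_mem (pow_mem hhW i))
      rwa [mul_inv_cancel_right, mul_inv_cancel_right] at this
  · -- two different minimal classes
    push Not at hBW
    obtain ⟨y, hy, hyW⟩ := hBW
    have hne : ¬ (ψ y).range ≤ U := fun hle => hyW fun g => hle ⟨g, rfl⟩
    have hhy : Commute h y := by
      haveI := Fact.mk (hBprime y hy)
      have hdis : ∀ u ∈ U, u ∈ (ψ y).range → u = 1 := by
        intro u hu hu'
        by_contra hu1
        refine hne ?_
        have : (ψ y).range ⊓ U = (ψ y).range := by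
          refine Subgroup.eq_of_le_of_card_ge inf_le_left ?_
          rcases (Nat.dvd_prime (hBprime y hy)).mp (card_dvd_of_le
            (inf_le_left : (ψ y).range ⊓ U ≤ _)) with h1 | h1
          · exact absurd (mem_bot.mp (card_eq_one.mp h1 ▸ mem_inf.mpr ⟨hu', hu⟩)) hu1
          · exact h1.ge
        exact this ▸ inf_le_right
      have h1 : y * h * y⁻¹ * h⁻¹ = 1 := hdis _ ⟨y, rfl⟩ (by
        rw [← inv_mem_iff, show (y * h * y⁻¹ * h⁻¹)⁻¹ = h * y * h⁻¹ * y⁻¹ by group]
        exact ⟨h, rfl⟩)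
      exact (mul_inv_eq_iff_eq_mul.mp (mul_inv_eq_one.mp h1)).symm
    obtain ⟨g, hgh, hgy⟩ : ∃ g, ¬ Commute h g ∧ ¬ Commute y g := by
      by_contra hc
      push Not at hc
      have hmem : ∀ k m, m ∈ centralizer ({k} : Set G) ↔ Commute k m := fun k m => by
        rw [mem_centralizer_singleton_iff]
        exact ⟨fun e => e.symm, fun e => e.eq.symm⟩
      obtain ⟨g1, hg1⟩ : ∃ g, ¬ Commute h g := by
        by_contra hc'; push Not at hc'; exact hh.1 (mem_center_iff.mpr fun g => (hc' g).eq.symm)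
      obtain ⟨g2, hg2⟩ : ∃ g, ¬ Commute y g := by
        by_contra hc'; push Not at hc'; exact hy.1 (mem_center_iff.mpr fun g => (hc' g).eq.symm)
      have a1 : Commute y g1 := hc g1 hg1
      have a2 : Commute h g2 := by_contra fun e => hg2 (hc g2 e)
      by_cases a3 : Commute h (g1 * g2)
      · exact hg1 (by simpa using a3.mul_right a2.inv_right)
      · exact hg2 (by simpa using a1.inv_right.mul_right (hc _ a3))
    refine reduce_sq {x | ¬ Commute h x ∧ ¬ Commute y x} (g := g) (k := h) hh.1 hp.two_le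
      (fun x hx => ?_) fun i _ z hz => ?_
    · refine le_trans ?_ (hcl x)
      have hxZ : x ∉ center G := fun hz => hx.1 (mem_center_iff.mp hz h)
      by_contra hlt
      have hq := hBprime x ⟨hxZ, not_le.mp hlt⟩
      haveI := Fact.mk hq
      -- a range of prime order meeting both
      have key : ∀ k : G, Nat.Prime (Nat.card (ψ k).range) → ¬ Commute k x →
          (ψ x).range ≤ (ψ k).range := by
        intro k hk hkx
        have hm1 : ψ x k ∈ (ψ x).range := ⟨k, rfl⟩
        have hm2 : ψ x k ∈ (ψ k).range := by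
          rw [← inv_mem_iff]
          exact ⟨x, show x * k * x⁻¹ * k⁻¹ = (k * x * k⁻¹ * x⁻¹)⁻¹ by group⟩
        have hne1 : ψ x k ≠ 1 := fun e => hkx (mul_inv_eq_iff_eq_mul.mp (mul_inv_eq_one.mp e))
        have : (ψ x).range ⊓ (ψ k).range = (ψ x).range := by
          refine Subgroup.eq_of_le_of_card_ge inf_le_left ?_
          rcases (Nat.dvd_prime hq).mp (card_dvd_of_le
            (inf_le_left : (ψ x).range ⊓ (ψ k).range ≤ _)) with h1 | h1
          · exact absurd (mem_bot.mp (card_eq_one.mp h1 ▸ mem_inf.mpr ⟨hm1, hm2⟩)) hne1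
          · exact h1.ge
        exact this ▸ inf_le_right
      have e1 := key h hUq hx.1
      have e2 := key y (hBprime y hy) hx.2
      apply hne
      have : (ψ x).range = (ψ y).range := Subgroup.eq_of_le_of_card_ge e2 (by
        rcases (Nat.dvd_prime (hBprime y hy)).mp (card_dvd_of_le e2) with h1 | h1
        · exact absurd h1 hq.ne_one
        · exact h1.ge)
      exact this ▸ e1
    · have hz' : ∀ k, Commute k z := fun k => mem_center_iff.mp hz k
      constructor <;> intro e
      · apply hgh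
        have c3 := (e.mul_right (hz' h).inv_right).mul_right ((Commute.refl h).pow_right i).inv_right
        rwa [mul_inv_cancel_right, mul_inv_cancel_right] at c3
      · apply hgy
        have c3 := (e.mul_right (hz' y).inv_right).mul_right (hhy.symm.pow_right i).inv_right
        rwa [mul_inv_cancel_right, mul_inv_cancel_right] at c3

/-- Let G be a finite non-abelian group and p the least prime dividing its order. Then the automorphism group of G has at most #G/p orbits on G. -/
theorem result {G : Type*} [Group G] [Finite G] (hna : ¬ IsMulCommutative G) :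
    Nat.card (MulAction.orbitRel.Quotient (MulAut G) G) ≤ Nat.card G / (Nat.card G).minFac := by
  obtain ⟨a, b, hab⟩ : ∃ a b : G, a * b ≠ b * a := by
    by_contra hc
    push Not at hc
    exact hna ⟨⟨hc⟩⟩
  have hn1 : Nat.card G ≠ 1 := fun h => by
    haveI := (Nat.card_eq_one_iff_unique.mp h).1
    exact hab (Subsingleton.elim _ _)
  have hp := Nat.minFac_prime hn1
  by_cases hc2 : ∀ a b : G, a * b * a⁻¹ * b⁻¹ ∈ center G
  · exact case_class_two hp hc2 ⟨a, b, hab⟩
  set p := (Nat.card G).minFac with hpdef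
  haveI := Fact.mk hp
  set n := (center G).index with hn
  have hn0 : n ∣ Nat.card G := index_dvd_card _
  -- `n ≥ p (p + 1)` as the quotient by the centre is not abelian
  have hnbig : p * (p + 1) ≤ n := by
    have hcomm : ¬ ∀ u v : G ⧸ center G, u * v = v * u := fun hc => hc2 fun u v => by
      refine (QuotientGroup.eq_one_iff _).mp ?_
      simp only [QuotientGroup.mk_mul, QuotientGroup.mk_inv, hc (u : G ⧸ center G) v]
      group
    have hn1' : n ≠ 1 := fun e => hcomm fun u v => by
      haveI := (Nat.card_eq_one_iff_unique.mp (show Nat.card (G ⧸ center G) = 1 from e)).1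
      exact Subsingleton.elim _ _
    have hnp : ¬ n.Prime := fun hq => hcomm fun u v => by
      haveI := Fact.mk hq
      haveI := isCyclic_of_prime_card (α := G ⧸ center G) (p := n) rfl
      exact IsCyclic.isMulCommutative.is_comm.comm u v
    obtain ⟨k, ⟨m, hkm⟩, hk1, hk2⟩ := Nat.exists_dvd_of_not_prime
      (Nat.two_le_iff n |>.mpr ⟨index_ne_zero_of_finite, hn1'⟩) hnp
    have hk : p ≤ k := p_le_of_dvd ((dvd_of_mul_right_eq m hkm.symm).trans hn0) hk1
    have hm : p ≤ m := p_le_of_dvd ((dvd_of_mul_left_eq k hkm.symm).trans hn0) fun e => hk2 (by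
      rw [hkm, e, mul_one])
    by_contra hlt
    rcases eq_or_lt_of_le hm with e1 | e1
    · rcases eq_or_lt_of_le hk with e2 | e2
      · refine hcomm (IsPGroup.isMulCommutative_of_card_eq_prime_sq (p := p) ?_).is_comm.comm
        show n = p ^ 2
        rw [hkm, ← e1, ← e2, pow_two]
      · rw [hkm] at hlt; exact hlt (le_trans (le_of_eq (mul_comm _ _))
          (Nat.mul_le_mul e2 hm))
    · rw [hkm] at hlt; exact hlt (Nat.mul_le_mul hk e1)
  let L : Set G := {x | p + 1 ≤ (centralizer ({x} : Set G)).index}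
  refine reduce L (p + 1) (Nat.lt_succ_self _) (fun x hx => le_trans hx (index_centralizer_le_orbit x)) ?_
  rw [Nat.add_sub_cancel_left, one_mul]
  -- the elements outside `L` centralise the commutators
  obtain ⟨u, v, huv⟩ : ∃ u v : G, u * v * u⁻¹ * v⁻¹ ∉ center G := by push Not at hc2; exact hc2
  set c := u * v * u⁻¹ * v⁻¹
  have hL : ∀ x : G, x ∉ centralizer ({c} : Set G) → x ∈ L := by
    intro x hx
    by_contra hxL
    apply hx
    have hle : (centralizer ({x} : Set G)).index ≤ p := Nat.lt_succ_iff.mp (not_le.mp hxL)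
    by_cases h1 : (centralizer ({x} : Set G)).index = 1
    · exact mem_centralizer_singleton_iff.mpr
        (mem_center_iff.mp (index_centralizer_eq_one.mp h1) c).symm
    have hidx := le_antisymm hle (p_le_of_dvd (index_dvd_card _) h1)
    haveI := Subgroup.normal_of_index_eq_minFac_card hidx
    haveI := isCyclic_of_prime_card (α := G ⧸ centralizer ({x} : Set G)) (p := p) hidx
    have hcx : c ∈ centralizer ({x} : Set G) := (QuotientGroup.eq_one_iff _).mp (by
      simp only [c, QuotientGroup.mk_mul, QuotientGroup.mk_inv]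
      rw [IsCyclic.isMulCommutative.is_comm.comm (u : G ⧸ centralizer ({x} : Set G)) v]
      group)
    exact mem_centralizer_singleton_iff.mpr (mem_centralizer_singleton_iff.mp hcx).symm
  set C := centralizer ({c} : Set G)
  have hC : p ≤ C.index := p_le_of_dvd (index_dvd_card _) fun h =>
    huv (index_centralizer_eq_one.mp h)
  have hcardL : Nat.card G ≤ Nat.card L + Nat.card C := by
    classical
    rw [← Nat.card_congr (Equiv.sumCompl (fun x : G => x ∈ C)), Nat.card_sum, add_comm]
    exact Nat.add_le_add_right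
      (Nat.card_le_card_of_injective (fun x : {x : G // x ∉ C} => (⟨x, hL x x.2⟩ : L))
        fun x y e => Subtype.ext (congrArg Subtype.val e :)) _
  have h1 := (center G).card_mul_index
  rw [← hn] at h1
  have h2 := C.card_mul_index
  have h3 : p * Nat.card C ≤ Nat.card G := by rw [← h2, mul_comm]; exact Nat.mul_le_mul_left _ hC
  have h4 : Nat.card (center G) * (p * (p + 1)) ≤ Nat.card G := by
    rw [← h1]; exact Nat.mul_le_mul_left _ hnbig
  obtain ⟨e, he⟩ : ∃ e, p = e + 1 := ⟨p - 1, by have := hp.pos; omega⟩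
  show (p - 1) * (p + 1) * _ ≤ _
  rw [he] at h3 h4 ⊢
  rw [Nat.add_sub_cancel]
  generalize Nat.card (center G) = z at h4 ⊢
  generalize Nat.card C = k at hcardL h3
  generalize Nat.card L = l at hcardL ⊢
  generalize Nat.card G = N at hcardL h3 h4
  refine Nat.le_of_mul_le_mul_left (?_ : (e + 1) * _ ≤ (e + 1) * _) (Nat.succ_pos e)
  nlinarith

end Cfsg.Agent.S4067
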