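import Cfsg.Statements.S4071
import Mathlib.GroupTheory.Sylow
import Mathlib.GroupTheory.Nilpotent
import Mathlib.GroupTheory.Solvable
import Mathlib.GroupTheory.Complement
import Mathlib.Tactic

set_option autoImplicit false
open Cfsg

namespace Cfsg.Agent.S4071

open Subgroup
open scoped commutatorElement

set_option linter.style.haveILetI false

variable {G : Type*} [Group G] [Finite G]

/-- In an abelian normal `p'`-subgroup no nontrivial commutator with a `p`-element is fixed by it. -/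
theorem eq_one_of_fixed {A : Subgroup G} {x a c : G} (hA : A.Normal) (hab : IsMulCommutative A)
    (hcop : (orderOf x).Coprime (Nat.card A)) (ha : a ∈ A) (hc : c = x * a * x⁻¹ * a⁻¹)
    (hfix : x * c * x⁻¹ = c) : c = 1 := by
  have hcA : c ∈ A := by rw [hc]; exact mul_mem (hA.conj_mem a ha x) (inv_mem ha)
  have hcx : x * c = c * x := mul_inv_eq_iff_eq_mul.1 hfix
  have key : ∀ j : ℕ, x ^ j * a * (x ^ j)⁻¹ = c ^ j * a := by
    intro j
    induction j with
    | zero => simp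
    | succ j ih =>
      rw [pow_succ', show x * x ^ j * a * (x * x ^ j)⁻¹ = x * (x ^ j * a * (x ^ j)⁻¹) * x⁻¹ by group, ih,
        ← mul_assoc x, ((show Commute x c from hcx).pow_right j).eq,
        show c ^ j * x * a * x⁻¹ = c ^ j * (x * a * x⁻¹ * a⁻¹) * a by group, ← hc, ← pow_succ]
  have h := key (orderOf x)
  rw [pow_orderOf_eq_one, one_mul, inv_one, mul_one] at h
  have h1 : c ^ orderOf x = 1 := (mul_eq_right (b := a)).1 h.symm
  exact orderOf_eq_one_iff.1 (Nat.eq_one_of_dvd_coprimes hcop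
    (orderOf_dvd_iff_pow_eq_one.2 h1) (Subgroup.orderOf_dvd_natCard A hcA))

theorem forward [Group.IsSolvable G] (hnn : ¬ Group.IsNilpotent G)
    (hS : ∀ H : Subgroup G, ¬ IsMulCommutative H → normalizer (H : Set G) = H) :
    ∃ (x : G) (A : Subgroup G) (p : ℕ), p.Prime ∧ A.Normal ∧ IsMulCommutative A ∧ (∃ k : ℕ, orderOf x = p ^ k) ∧
      ¬ p ∣ Nat.card A ∧ (zpowers x).IsComplement' A ∧ x ^ p ∈ center G ∧
      ∀ a : G, a ∈ A → a ≠ 1 → x * a * x⁻¹ ≠ a := by
  classical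
  haveI : Nontrivial G := by
    refine not_subsingleton_iff_nontrivial.1 fun h => hnn ?_
    infer_instance
  have hcne : commutator G ≠ ⊤ := (Group.IsSolvable.commutator_lt_top_of_nontrivial G).ne
  obtain ⟨M, hMco, hMle⟩ := (eq_top_or_exists_le_coatom (commutator G)).resolve_left hcne
  haveI hMn : M.Normal := by
    refine ⟨fun m hm g => ?_⟩
    have e : g * m * g⁻¹ = ⁅g, m⁆ * m := by simp [commutatorElement_def, mul_assoc]
    rw [e]
    exact mul_mem (hMle (commutator_mem_commutator (mem_top g) (mem_top m))) hm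
  have hMab : IsMulCommutative M := by
    by_contra h
    exact hMco.1 ((hS M h).symm.trans (normalizer_eq_top_iff.2 hMn))
  have hcomm : ∀ u ∈ M, ∀ v ∈ M, u * v = v * u := fun u hu v hv =>
    congrArg Subtype.val (hMab.is_comm.comm ⟨u, hu⟩ ⟨v, hv⟩)
  have hidx : M.index ≠ 1 := fun h => hMco.1 (index_eq_one.1 h)
  set p := M.index.minFac
  have hp : p.Prime := Nat.minFac_prime hidx
  haveI := Fact.mk hp
  obtain ⟨P⟩ : Nonempty (Sylow p G) := inferInstance
  have hPM : ¬ (P : Subgroup G) ≤ M := fun h => by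
    have h1 : Nat.card (P : Subgroup G) ∣ Nat.card M := card_dvd_of_le h
    have h2 : p * Nat.card (P : Subgroup G) ∣ Nat.card G := by
      rw [← M.card_mul_index, mul_comm p]
      exact mul_dvd_mul h1 (Nat.minFac_dvd _)
    have := P.not_dvd_index
    apply this
    obtain ⟨d, hd⟩ := h2
    refine ⟨d, Nat.eq_of_mul_eq_mul_left (Nat.card_pos (α := (P : Subgroup G))) ?_⟩
    rw [(P : Subgroup G).card_mul_index, hd]; ring
  obtain ⟨x, hxP, hxM⟩ := SetLike.not_le_iff_exists.1 hPM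
  have hsupM : (P : Subgroup G) ⊔ M = ⊤ :=
    hMco.2 _ (lt_of_le_of_ne le_sup_right fun h => hPM (h ▸ le_sup_left))
  -- the two parts of `M`
  set q := ordProj[p] (Nat.card M)
  set k := ordCompl[p] (Nat.card M)
  have hqk : q * k = Nat.card M := Nat.ordProj_mul_ordCompl_eq_self _ _
  have hsub : ∀ n : ℕ, ∃ K : Subgroup G, K.Normal ∧ ∀ m, m ∈ K ↔ m ∈ M ∧ m ^ n = 1 := fun n => by
    refine ⟨⟨⟨⟨{m | m ∈ M ∧ m ^ n = 1}, fun {a b} ha hb => ⟨mul_mem ha.1 hb.1, ?_⟩⟩,
      ⟨one_mem _, one_pow _⟩⟩, fun {a} ha => ⟨inv_mem ha.1, by rw [inv_pow, ha.2, inv_one]⟩⟩, ⟨?_⟩,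
      fun m => Iff.rfl⟩
    · rw [(show Commute a b from hcomm a ha.1 b hb.1).mul_pow, ha.2, hb.2, one_mul]
    · rintro m hm g
      exact ⟨hMn.conj_mem m hm.1 g, by rw [conj_pow, hm.2, mul_one, mul_inv_cancel]⟩
  obtain ⟨A, hA, hAmem⟩ := hsub k
  obtain ⟨B, hB, hBmem⟩ := hsub q
  have hAM : A ≤ M := fun a ha => ((hAmem a).1 ha).1
  have hAab : IsMulCommutative A :=
    ⟨⟨fun a b => Subtype.ext (hcomm a (hAM a.2) b (hAM b.2))⟩⟩
  have hAc : ∀ u ∈ A, ∀ v ∈ A, u * v = v * u := fun u hu v hv => hcomm u (hAM hu) v (hAM hv)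
  have hpA : ¬ p ∣ Nat.card A := fun h => by
    obtain ⟨a, ha⟩ := exists_prime_orderOf_dvd_card' (G := A) p h
    have h1 : orderOf (a : G) ∣ k := orderOf_dvd_iff_pow_eq_one.2 ((hAmem _).1 a.2).2
    rw [Subgroup.orderOf_coe, ha] at h1
    exact Nat.not_dvd_ordCompl hp Nat.card_pos.ne' h1
  have hBp : IsPGroup p B := fun b => ⟨(Nat.card M).factorization p, Subtype.ext ((hBmem _).1 b.2).2⟩
  have hBP : B ≤ P := le_of_le_of_eq le_sup_left
    (P.3 (hBp.to_sup_of_normal_left P.2) le_sup_right)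
  have hMle' : M ≤ (P : Subgroup G) ⊔ A := fun m hm => by
    have hcop : Nat.Coprime q k :=
      (Nat.coprime_ordCompl hp Nat.card_pos.ne').pow_left _
    have hmM : m ^ Nat.card M = 1 :=
      orderOf_dvd_iff_pow_eq_one.1 (Subgroup.orderOf_dvd_natCard M hm)
    have hg : (1 : ℤ) = q * q.gcdA k + k * q.gcdB k := by
      rw [← Nat.gcd_eq_gcd_ab, hcop]; rfl
    have e : m = (m ^ q) ^ (q.gcdA k) * (m ^ k) ^ (q.gcdB k) := by
      conv_lhs => rw [← zpow_one m, hg, zpow_add, zpow_mul, zpow_mul, zpow_natCast, zpow_natCast]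
    rw [e]
    refine mul_mem (mem_sup_right (zpow_mem ((hAmem _).2 ⟨pow_mem hm _, ?_⟩) _))
      (mem_sup_left (hBP (zpow_mem ((hBmem _).2 ⟨pow_mem hm _, ?_⟩) _)))
    · rw [← pow_mul, hqk, hmM]
    · rw [← pow_mul, mul_comm, hqk, hmM]
  have hPA : (P : Subgroup G) ⊔ A = ⊤ := top_le_iff.1 (hsupM ▸ sup_le le_sup_left hMle')
  have hdisj : ∀ y, y ∈ (P : Subgroup G) → y ∈ A → y = 1 := fun y hy hy' => by
    obtain ⟨j, hj⟩ := IsPGroup.iff_orderOf.1 P.2 ⟨y, hy⟩
    rw [Subgroup.orderOf_mk] at hj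
    exact orderOf_eq_one_iff.1 (Nat.eq_one_of_dvd_coprimes
      ((hp.coprime_iff_not_dvd.2 hpA).pow_left j) (dvd_of_eq hj) (Subgroup.orderOf_dvd_natCard A hy'))
  obtain ⟨j, hj⟩ := IsPGroup.iff_orderOf.1 P.2 ⟨x, hxP⟩
  rw [Subgroup.orderOf_mk] at hj
  have hcop : (orderOf x).Coprime (Nat.card A) := hj ▸ (hp.coprime_iff_not_dvd.2 hpA).pow_left j
  -- `x ^ p` lies in `M`
  have hxp : x ^ p ∈ M := by
    have hMp : M.index = p := by
      have h1 : Nat.card (G ⧸ M) = M.index := rfl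
      haveI : IsSimpleGroup (G ⧸ M) := by
        haveI : Nontrivial (G ⧸ M) := Finite.one_lt_card_iff_nontrivial.1 (by
          have := M.index_ne_zero_of_finite
          omega)
        refine ⟨fun K hK => ?_⟩
        rcases (QuotientGroup.le_comap_mk' M K).eq_or_lt with h | h
        · exact Or.inl (by rw [← map_comap_eq_self_of_surjective (QuotientGroup.mk'_surjective M) K, ← h,
            QuotientGroup.map_mk'_self])
        · exact Or.inr (by rw [← map_comap_eq_self_of_surjective (QuotientGroup.mk'_surjective M) K,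
            hMco.2 _ h, map_top_of_surjective _ (QuotientGroup.mk'_surjective M)])
      have hcomm' : ∀ a b : G ⧸ M, a * b = b * a := by
        intro a b
        obtain ⟨a, rfl⟩ := QuotientGroup.mk_surjective a
        obtain ⟨b, rfl⟩ := QuotientGroup.mk_surjective b
        rw [← QuotientGroup.mk_mul, ← QuotientGroup.mk_mul, QuotientGroup.eq]
        have e : (a * b)⁻¹ * (b * a) = ⁅b⁻¹, a⁻¹⁆ := by simp [commutatorElement_def, mul_assoc]
        rw [e]
        exact hMle (commutator_mem_commutator (mem_top _) (mem_top _))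
      letI : CommGroup (G ⧸ M) := { (inferInstance : Group (G ⧸ M)) with mul_comm := hcomm' }
      have h2 : (Nat.card (G ⧸ M)).Prime := IsSimpleGroup.prime_card
      rw [h1] at h2
      exact ((Nat.prime_dvd_prime_iff_eq hp h2).1 (Nat.minFac_dvd _)).symm
    exact hMp ▸ pow_index_mem M x
  -- `x` does not centralize `A`
  have hD : ∃ a ∈ A, x * a * x⁻¹ * a⁻¹ ≠ 1 := by
    by_contra h
    push Not at h
    refine hnn ?_
    have hcen : A ≤ center G := fun a ha => by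
      have h1 : (⊤ : Subgroup G) ≤ centralizer {a} := by
        rw [← hsupM]
        have hxc : x ∈ centralizer {a} :=
          mem_centralizer_singleton_iff.2 (mul_inv_eq_iff_eq_mul.1 (mul_inv_eq_one.1 (h a ha)))
        have hMc : M ≤ centralizer {a} := fun m hm =>
          mem_centralizer_singleton_iff.2 (hcomm m hm a (hAM ha))
        have : M ⊔ zpowers x = ⊤ := hMco.2 _ (lt_of_le_of_ne le_sup_left fun h' =>
          hxM (h' ▸ mem_sup_right (mem_zpowers x)))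
        rw [hsupM, ← this]
        exact sup_le hMc (zpowers_le.2 hxc)
      exact mem_center_iff.2 fun g => mem_centralizer_singleton_iff.1 (h1 (mem_top g))
    have hq : IsPGroup p (G ⧸ A) := by
      refine P.2.of_surjective ((QuotientGroup.mk' A).comp (P : Subgroup G).subtype) fun y => ?_
      obtain ⟨g, rfl⟩ := QuotientGroup.mk'_surjective A y
      have hg : g ∈ (P : Subgroup G) ⊔ A := hPA ▸ mem_top g
      rw [← SetLike.mem_coe, mul_normal] at hg
      obtain ⟨u, hu, a, ha, rfl⟩ := hg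
      refine ⟨⟨u, hu⟩, ?_⟩
      show (QuotientGroup.mk u : G ⧸ A) = QuotientGroup.mk (u * a)
      exact (QuotientGroup.eq.2 (by simpa using ha))
    haveI := hq.isNilpotent
    exact _root_.isNilpotent_of_ker_le_center (QuotientGroup.mk' A) (by rwa [QuotientGroup.ker_mk'])
  obtain ⟨a₀, ha₀, ha₀'⟩ := hD
  let φ : A →* G := MonoidHom.mk' (fun a => x * (a : G) * x⁻¹ * (a : G)⁻¹) fun a b => by
    show x * ((a : G) * b) * x⁻¹ * ((a : G) * b)⁻¹ = x * a * x⁻¹ * (a : G)⁻¹ * (x * b * x⁻¹ * (b : G)⁻¹)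
    rw [show x * ((a : G) * b) * x⁻¹ * ((a : G) * b)⁻¹ = x * (a : G) * x⁻¹ * ((x * b * x⁻¹ * (b : G)⁻¹) * (a : G)⁻¹) by group,
      hAc _ (mul_mem (hA.conj_mem b b.2 x) (inv_mem b.2)) _ (inv_mem a.2)]
    group
  set D := φ.range with hDdef
  have hDA : D ≤ A := by
    rintro _ ⟨a, rfl⟩
    exact mul_mem (hA.conj_mem a a.2 x) (inv_mem a.2)
  have hxD : ∀ d ∈ D, x * d * x⁻¹ ∈ D ∧ x⁻¹ * d * x ∈ D := by
    rintro _ ⟨a, rfl⟩
    refine ⟨⟨⟨x * a * x⁻¹, hA.conj_mem a a.2 x⟩, ?_⟩, ⟨⟨x⁻¹ * a * x, by simpa using hA.conj_mem a a.2 x⁻¹⟩, ?_⟩⟩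
    · show x * (x * (a : G) * x⁻¹) * x⁻¹ * (x * (a : G) * x⁻¹)⁻¹ = x * (x * a * x⁻¹ * (a : G)⁻¹) * x⁻¹
      group
    · show x * (x⁻¹ * (a : G) * x) * x⁻¹ * (x⁻¹ * (a : G) * x)⁻¹ = x⁻¹ * (x * a * x⁻¹ * (a : G)⁻¹) * x
      group
  have hnonab : ∀ K : Subgroup G, x ∈ K → D ≤ K → ¬ IsMulCommutative K := by
    intro K hx hDK hab
    have hc := hDK ⟨⟨a₀, ha₀⟩, rfl⟩
    refine ha₀' (eq_one_of_fixed hA hAab hcop ha₀ rfl ?_)
    have := congrArg Subtype.val (hab.is_comm.comm ⟨x, hx⟩ ⟨_, hc⟩)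
    exact mul_inv_eq_iff_eq_mul.2 this
  have hfix : ∀ a ∈ A, x * a * x⁻¹ = a → a = 1 := by
    intro c hc hfx
    have hxn : zpowers x ≤ normalizer (D : Set G) := zpowers_le.2 (mem_normalizer_iff.2 fun d =>
      ⟨fun hd => (hxD d hd).1, fun hd => by simpa [mul_assoc] using (hxD _ hd).2⟩)
    have hcN : c ∈ normalizer ((zpowers x ⊔ D : Subgroup G) : Set G) := by
      have hle : zpowers x ⊔ D ≤ centralizer {c} := sup_le
        (zpowers_le.2 (mem_centralizer_singleton_iff.2 (mul_inv_eq_iff_eq_mul.1 hfx)))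
        fun d hd => mem_centralizer_singleton_iff.2 (hAc d (hDA hd) c hc)
      refine mem_normalizer_iff.2 fun z => ⟨fun hz => ?_, fun hz => ?_⟩
      · rwa [← mem_centralizer_singleton_iff.1 (hle hz), mul_inv_cancel_right]
      · have h1 := mem_centralizer_singleton_iff.1 (hle hz)
        have : z = c * z * c⁻¹ := by
          have h2 : c * z = c * (c * z * c⁻¹) := by rw [← h1]; group
          exact mul_left_cancel h2
        rwa [this]
    rw [hS _ (hnonab _ (mem_sup_left (mem_zpowers x)) le_sup_right), ← SetLike.mem_coe,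
      coe_mul_of_left_le_normalizer_right _ _ hxn] at hcN
    obtain ⟨u, hu, d, hd, he⟩ := hcN
    replace he : u * d = c := he
    have hu1 : u = 1 := hdisj u ((zpowers_le.2 hxP) hu)
      (by rw [eq_mul_inv_of_mul_eq he]; exact mul_mem hc (inv_mem (hDA hd)))
    rw [hu1, one_mul] at he
    subst he
    obtain ⟨a, ha⟩ := hd
    exact eq_one_of_fixed hA hAab hcop a.2 ha.symm hfx
  have hPx : (P : Subgroup G) ≤ zpowers x := by
    by_contra hne
    haveI := P.2.isNilpotent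
    have hlt : (zpowers x).subgroupOf (P : Subgroup G) < ⊤ :=
      lt_top_iff_ne_top.2 fun h => hne (subgroupOf_eq_top.1 h)
    obtain ⟨y, hyn, hy⟩ := SetLike.exists_of_lt (normalizerCondition_of_isNilpotent _ hlt)
    have hyx : (y : G) ∈ normalizer (zpowers x : Set G) := mem_normalizer_iff.2 fun z => by
      by_cases hz : z ∈ (P : Subgroup G)
      · simpa [mem_subgroupOf] using mem_normalizer_iff.1 hyn ⟨z, hz⟩
      · have hle := zpowers_le.2 hxP
        refine ⟨fun h => absurd (hle h) hz, fun h => absurd ?_ hz⟩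
        simpa [mul_assoc] using mul_mem (mul_mem (inv_mem y.2) (hle h)) y.2
    have hy' : (y : G) ∈ normalizer ((zpowers x ⊔ A : Subgroup G) : Set G) := by
      refine mem_normalizer_iff.2 fun z => ?_
      have key : ∀ w : G, w ∈ normalizer (zpowers x : Set G) → ∀ z ∈ zpowers x ⊔ A,
          w * z * w⁻¹ ∈ zpowers x ⊔ A := by
        intro w hw z hz
        rw [← SetLike.mem_coe, mul_normal] at hz
        obtain ⟨u, hu, a, ha, rfl⟩ := hz
        rw [show w * (u * a) * w⁻¹ = (w * u * w⁻¹) * (w * a * w⁻¹) by group]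
        exact mul_mem (mem_sup_left ((mem_normalizer_iff.1 hw u).1 hu)) (mem_sup_right (hA.conj_mem a ha w))
      exact ⟨key _ hyx z, fun h => by simpa [mul_assoc] using key _ (inv_mem hyx) _ h⟩
    rw [hS _ (hnonab _ (mem_sup_left (mem_zpowers x)) (hDA.trans le_sup_right)), ← SetLike.mem_coe,
      mul_normal] at hy'
    obtain ⟨u, hu, a, ha, he⟩ := hy'
    replace he : u * a = (y : G) := he
    have ha1 : a = 1 := hdisj a (by
      rw [eq_inv_mul_of_mul_eq he]; exact mul_mem (inv_mem ((zpowers_le.2 hxP) hu)) y.2) ha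
    rw [ha1, mul_one] at he
    exact hy (mem_subgroupOf.2 (he ▸ hu))
  have htop : zpowers x ⊔ A = ⊤ := top_le_iff.1 (hPA ▸ sup_le_sup_right hPx A)
  refine ⟨x, A, p, hp, hA, hAab, ⟨j, hj⟩, hpA,
    isComplement'_of_disjoint_and_mul_eq_univ (disjoint_iff.2 ((eq_bot_iff_forall _).2 fun y hy =>
      hdisj y ((zpowers_le.2 hxP) hy.1) hy.2)) (by rw [← mul_normal, htop, coe_top]), ?_,
    fun a ha ha1 h => ha1 (hfix a ha h)⟩
  have h1 : zpowers x ⊔ A ≤ centralizer {x ^ p} := sup_le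
    (zpowers_le.2 (mem_centralizer_singleton_iff.2 ((Commute.refl x).pow_right p).eq))
    fun a ha => mem_centralizer_singleton_iff.2 (hcomm a (hAM ha) _ hxp)
  exact mem_center_iff.2 fun g => mem_centralizer_singleton_iff.1 (h1 (htop ▸ mem_top g))

theorem backward {x : G} {A : Subgroup G} {p : ℕ} (hp : p.Prime) (hA : A.Normal) (hab : IsMulCommutative A)
    (hk : ∃ k : ℕ, orderOf x = p ^ k) (hc : (zpowers x).IsComplement' A) (hxp : x ^ p ∈ center G)
    (hfix : ∀ a : G, a ∈ A → a ≠ 1 → x * a * x⁻¹ ≠ a) (H : Subgroup G) (hH : ¬ IsMulCommutative H) :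
    normalizer (H : Set G) = H := by
  obtain ⟨k, hk⟩ := hk
  have hAc : ∀ u ∈ A, ∀ v ∈ A, u * v = v * u := fun u hu v hv =>
    congrArg Subtype.val (hab.is_comm.comm ⟨u, hu⟩ ⟨v, hv⟩)
  have hdec : ∀ g : G, ∃ u ∈ zpowers x, ∃ a ∈ A, g = u * a := fun g => by
    obtain ⟨⟨⟨u, hu⟩, ⟨a, ha⟩⟩, he⟩ := hc.2 g
    exact ⟨u, hu, a, ha, he.symm⟩
  obtain ⟨u, hu, hgen⟩ : ∃ u ∈ H, ∃ v ∈ zpowers x, ∃ a ∈ A, u = v * a ∧ x ∈ zpowers v := by
    by_contra hcon
    refine hH ⟨⟨fun g h => Subtype.ext ?_⟩⟩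
    have key : ∀ g ∈ H, ∃ c ∈ center G, ∃ a ∈ A, g = c * a := by
      intro g hg
      obtain ⟨v, hv, a, ha, rfl⟩ := hdec g
      refine ⟨v, ?_, a, ha, rfl⟩
      have hnv : x ∉ zpowers v := fun h => hcon ⟨_, hg, v, hv, a, ha, rfl, h⟩
      obtain ⟨i, rfl⟩ := mem_powers_iff_mem_zpowers.2 hv
      have hpi : p ∣ i := by
        by_contra hpi
        have hco : (orderOf x).Coprime i := hk ▸ (hp.coprime_iff_not_dvd.2 hpi).pow_left k
        obtain ⟨m, hm⟩ := exists_pow_eq_self_of_coprime (x := x) (n := i) hco.symm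
        exact hnv (mem_zpowers_iff.2 ⟨m, by rw [zpow_natCast, hm]⟩)
      obtain ⟨i, rfl⟩ := hpi
      show x ^ (p * i) ∈ center G
      rw [pow_mul]
      exact pow_mem hxp i
    obtain ⟨c, hc', a, ha, e⟩ := key g g.2
    obtain ⟨d, hd, b, hb, e'⟩ := key h h.2
    simp only [Subgroup.coe_mul, e, e']
    calc c * a * (d * b) = c * d * (a * b) := by
          rw [mul_assoc c, ← mul_assoc a, mem_center_iff.1 hd a]; group
      _ = d * c * (b * a) := by rw [mem_center_iff.1 hc' d, hAc a ha b hb]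
      _ = d * b * (c * a) := by
          rw [mul_assoc d b, ← mul_assoc b c, mem_center_iff.1 hc' b]; group
  obtain ⟨v, hv, a₀, ha₀, hue, hxv⟩ := hgen
  have hHA : H ⊔ A = ⊤ := by
    refine top_le_iff.1 fun g _ => ?_
    obtain ⟨w, hw, b, hb, rfl⟩ := hdec g
    have hv' : v ∈ H ⊔ A := by
      rw [eq_mul_inv_of_mul_eq hue.symm]
      exact mul_mem (mem_sup_left hu) (inv_mem (mem_sup_right ha₀))
    exact mul_mem ((zpowers_le.2 ((zpowers_le.2 hv') hxv)) hw) (mem_sup_right hb)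
  have hfree : ∀ a ∈ A, v * a * v⁻¹ = a → a = 1 := fun a ha h => by
    by_contra h1
    have h2 : x ∈ centralizer {a} := (zpowers_le.2
      (mem_centralizer_singleton_iff.2 (mul_inv_eq_iff_eq_mul.1 h))) hxv
    exact hfix a ha h1 (mul_inv_eq_iff_eq_mul.2 (mem_centralizer_singleton_iff.1 h2))
  let B := H ⊓ A
  have hB : ∀ b ∈ A, u * b * u⁻¹ * b⁻¹ = v * b * v⁻¹ * b⁻¹ := fun b hb => by
    rw [hue, show v * a₀ * b * (v * a₀)⁻¹ = v * (a₀ * b * a₀⁻¹) * v⁻¹ by group, hAc a₀ ha₀ b hb,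
      mul_inv_cancel_right]
  refine le_antisymm (fun g hg => ?_) le_normalizer
  have hg' : g ∈ H ⊔ A := hHA ▸ mem_top g
  rw [← SetLike.mem_coe, mul_normal] at hg'
  obtain ⟨h, hh, a, ha, rfl⟩ := hg'
  refine mul_mem hh ?_
  have haN : a ∈ normalizer (H : Set G) := by
    have := mul_mem (inv_mem (le_normalizer hh)) hg
    simpa using this
  have hcomm : u * a * u⁻¹ * a⁻¹ ∈ B := by
    refine Subgroup.mem_inf.2 ⟨?_, mul_mem (hA.conj_mem a ha u) (inv_mem ha)⟩
    rw [mul_assoc, mul_assoc, ← mul_assoc a]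
    exact mul_mem hu ((mem_normalizer_iff.1 haN _).1 (inv_mem hu))
  let ψ : B → B := fun b => ⟨u * b * u⁻¹ * (b : G)⁻¹, Subgroup.mem_inf.2
    ⟨mul_mem (mul_mem (mul_mem hu (Subgroup.mem_inf.1 b.2).1) (inv_mem hu)) (inv_mem (Subgroup.mem_inf.1 b.2).1),
    mul_mem (hA.conj_mem b (Subgroup.mem_inf.1 b.2).2 u) (inv_mem (Subgroup.mem_inf.1 b.2).2)⟩⟩
  have hψ : Function.Injective ψ := by
    intro b c hbc
    have h1 : v * b * v⁻¹ * (b : G)⁻¹ = v * c * v⁻¹ * (c : G)⁻¹ := by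
      rw [← hB b (Subgroup.mem_inf.1 b.2).2, ← hB c (Subgroup.mem_inf.1 c.2).2]
      exact congrArg Subtype.val hbc
    refine Subtype.ext (inv_mul_eq_one.1 (hfree _ (mul_mem (inv_mem (Subgroup.mem_inf.1 c.2).2) (Subgroup.mem_inf.1 b.2).2) ?_)).symm
    calc v * ((c : G)⁻¹ * b) * v⁻¹ = (v * c * v⁻¹)⁻¹ * ((v * b * v⁻¹ * (b : G)⁻¹) * b) := by group
      _ = (c : G)⁻¹ * b := by rw [h1]; group
  obtain ⟨b, hb⟩ := (Finite.injective_iff_surjective.1 hψ) ⟨_, hcomm⟩
  have h2 : v * b * v⁻¹ * (b : G)⁻¹ = v * a * v⁻¹ * a⁻¹ := by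
    rw [← hB b (Subgroup.mem_inf.1 b.2).2, ← hB a ha]
    exact congrArg Subtype.val hb
  have h3 : (b : G)⁻¹ * a = 1 := hfree _ (mul_mem (inv_mem (Subgroup.mem_inf.1 b.2).2) ha) (by
    calc v * ((b : G)⁻¹ * a) * v⁻¹ = ((v * b * v⁻¹ * (b : G)⁻¹) * b)⁻¹ * (v * a * v⁻¹ * a⁻¹ * a) := by group
      _ = (b : G)⁻¹ * a := by rw [h2]; group)
  exact inv_mul_eq_one.1 h3 ▸ (Subgroup.mem_inf.1 b.2).1

/-- Let G be a finite solvable non-nilpotent group. Every non-abelian subgroup of G is self-normalizing if and only if G is a semidirect product ⟨x⟩ ⋉ A in which ⟨x⟩ is a p-group for some prime p, A is a normal abelian subgroup of order prime to p, x^p is central in G, and x acts fixed-point-freely on A (no non-identity element of A commutes with x). -/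
theorem result {G : Type*} [Group G] [Finite G]
    [Group.IsSolvable G] (hnn : ¬ Group.IsNilpotent G) :
    (∀ H : Subgroup G, ¬ IsMulCommutative H → Subgroup.normalizer (H : Set G) = H) ↔
    ∃ (x : G) (A : Subgroup G) (p : ℕ), p.Prime ∧ A.Normal ∧ IsMulCommutative A ∧ (∃ k : ℕ, orderOf x = p ^ k) ∧
      ¬ p ∣ Nat.card A ∧ (Subgroup.zpowers x).IsComplement' A ∧ x ^ p ∈ Subgroup.center G ∧
      ∀ a : G, a ∈ A → a ≠ 1 → x * a * x⁻¹ ≠ a := by
  exact ⟨forward hnn, fun ⟨x, A, p, hp, hA, hab, hk, _, hc, hxp, hfix⟩ =>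
    backward hp hA hab hk hc hxp hfix⟩

end Cfsg.Agent.S4071
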