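import Cfsg.Statements.S4073
import Cfsg.Agent.SelfNormNonab.PSL
import Cfsg.Agent.CTGroup.Structure
import Cfsg.Agent.InvChar.OneSixtyEight

set_option autoImplicit false
open Cfsg

namespace Cfsg.Agent.S4073

/-- Let G be a finite non-abelian simple group. Every non-abelian subgroup of G is self-normalizing if and only if G is isomorphic to PSL₂(2ⁿ) for some n ≥ 2 with 2ⁿ − 1 prime (this includes the alternating group of degree 5 as PSL₂(4)). -/
theorem result {G : Type*} [Group G] [Finite G] [IsSimpleGroup G]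
    (hna : ¬ IsMulCommutative G) :
    (∀ H : Subgroup G, ¬ IsMulCommutative H → Subgroup.normalizer (H : Set G) = H) ↔
    ∃ n : ℕ, 2 ≤ n ∧ (2 ^ n - 1).Prime ∧ Nonempty (G ≃* Matrix.ProjectiveSpecialLinearGroup (Fin 2) (GaloisField 2 n)) := by
  haveI : Fact (Nat.Prime 2) := ⟨Nat.prime_two⟩
  constructor
  · intro h
    obtain ⟨F, iF, iFt, f, hf, hcard, ⟨e⟩⟩ := CfsgLib.CTGroup.psl_two_even_of_transitive hna
      fun a b c _ hb _ hab hbc => CfsgLib.SelfNormNonab.commute_transitive h hna a b c hb hab hbc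
    haveI : CharP F 2 := by
      obtain ⟨p, hp⟩ := CharP.exists F
      obtain ⟨n, hpp, hn⟩ := FiniteField.card F p
      have hp2 : p = 2 := (Nat.prime_dvd_prime_iff_eq hpp Nat.prime_two).1
        (hpp.dvd_of_dvd_pow (hcard ▸ hn ▸ dvd_pow_self p n.ne_zero))
      exact hp2 ▸ hp
    have hq : Nat.card F = 2 ^ f := by rw [Nat.card_eq_fintype_card, hcard]
    refine ⟨f, hf, CfsgLib.SelfNormNonab.prime_pred h hna hf hq e, ?_⟩
    haveI := Fintype.ofFinite (GaloisField 2 f)
    obtain ⟨g⟩ := CfsgLib.InvChar.psl_congr (FiniteField.ringEquivOfCardEq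
      (show Fintype.card F = Fintype.card (GaloisField 2 f) by
        rw [hcard, ← Nat.card_eq_fintype_card, GaloisField.card 2 f (by omega)]))
    exact ⟨e.trans g⟩
  · rintro ⟨n, hn, hr, ⟨e⟩⟩ H hH
    have hs := CfsgLib.SelfNormNonab.selfNorm (F := GaloisField 2 n) hn hr (GaloisField.card 2 n (by omega))
    have h1 : ¬ IsMulCommutative (H.map e.toMonoidHom) := fun h => hH ⟨⟨fun a b =>
      (Subgroup.equivMapOfInjective H e.toMonoidHom e.injective).injective (by
        rw [map_mul, map_mul]; exact mul_comm' _ _)⟩⟩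
    have h2 := hs _ h1
    rw [← Subgroup.map_equiv_normalizer_eq H e] at h2
    exact Subgroup.map_injective e.injective h2

end Cfsg.Agent.S4073
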