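import Cfsg.Statements.S4074
import Mathlib.GroupTheory.SpecificGroups.Dihedral
import Mathlib.GroupTheory.Index
import Mathlib.GroupTheory.PGroup

set_option autoImplicit false
open Cfsg

namespace Cfsg.Agent.S4074

/-- For n > 2, every non-abelian subgroup of the dihedral group of order 2n is self-normalizing if and only if n = 4 or n is odd. -/
theorem result (n : ℕ) (hn : 2 < n) :
    (∀ H : Subgroup (DihedralGroup n), ¬ IsMulCommutative H → Subgroup.normalizer (H : Set (DihedralGroup n)) = H) ↔
    (n = 4 ∨ Odd n) := by
  have : NeZero n := ⟨by omega⟩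
  constructor
  · intro h
    by_contra hcon
    push Not at hcon
    obtain ⟨h4, hodd⟩ := hcon
    have heven : Even n := Nat.not_odd_iff_even.1 hodd
    obtain ⟨m, hm⟩ := heven
    let c : ZMod n →+* ZMod 2 := ZMod.castHom ⟨m, by omega⟩ (ZMod 2)
    let ψ : DihedralGroup n →* Multiplicative (ZMod 2) :=
      MonoidHom.mk' (fun g => match g with
        | .r i => Multiplicative.ofAdd (c i)
        | .sr i => Multiplicative.ofAdd (c i)) (by
        rintro (i | i) (j | j) <;>
          simp [← ofAdd_add, sub_eq_add_neg, ZMod.neg_eq_self_mod_two, add_comm])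
    have hr2 : DihedralGroup.r (2 : ZMod n) ∈ ψ.ker := by
      rw [MonoidHom.mem_ker]
      show Multiplicative.ofAdd (c 2) = 1
      rw [map_ofNat, show (2 : ZMod 2) = 0 from rfl, ofAdd_zero]
    have hs : DihedralGroup.sr (0 : ZMod n) ∈ ψ.ker := by
      rw [MonoidHom.mem_ker]
      show Multiplicative.ofAdd (c 0) = 1
      rw [map_zero, ofAdd_zero]
    have hnc : ¬ IsMulCommutative ψ.ker := fun hcomm => by
      have := congrArg Subtype.val (hcomm.is_comm.comm ⟨_, hr2⟩ ⟨_, hs⟩)
      simp only [Subgroup.coe_mul, DihedralGroup.r_mul_sr, DihedralGroup.sr_mul_r,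
        DihedralGroup.sr.injEq, zero_sub, zero_add] at this
      have h0 : ((4 : ℕ) : ZMod n) = 0 := by
        have h2 := neg_eq_iff_add_eq_zero.1 this
        push_cast
        rw [← h2]; norm_num
      rw [ZMod.natCast_eq_zero_iff] at h0
      have := Nat.le_of_dvd (by norm_num) h0
      omega
    have h1 := h ψ.ker hnc
    rw [Subgroup.normalizer_eq_top_iff.2 inferInstance] at h1
    have : DihedralGroup.r (1 : ZMod n) ∈ ψ.ker := h1 ▸ Subgroup.mem_top _
    rw [MonoidHom.mem_ker] at this
    have h3 : Multiplicative.ofAdd (c 1) = 1 := this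
    rw [map_one] at h3
    exact one_ne_zero (ofAdd_eq_one.1 h3)
  · intro hn4 H hH
    -- `H` contains a reflection
    obtain ⟨i, hi⟩ : ∃ i, DihedralGroup.sr i ∈ H := by
      by_contra hno
      push Not at hno
      refine hH ⟨⟨fun a b => ?_⟩⟩
      obtain ⟨a, ha⟩ := a
      obtain ⟨b, hb⟩ := b
      rcases a with a | a
      · rcases b with b | b
        · exact Subtype.ext (by simp [add_comm])
        · exact absurd hb (hno b)
      · exact absurd ha (hno a)
    rcases hn4 with rfl | hodd
    · have hd : Nat.card H ∣ 2 ^ 3 := by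
        have := H.card_subgroup_dvd_card
        rwa [DihedralGroup.nat_card] at this
      obtain ⟨k, hk, hk'⟩ := (Nat.dvd_prime_pow Nat.prime_two).1 hd
      rcases (show k ≤ 2 ∨ k = 3 by omega) with hk2 | rfl
      · exfalso
        apply hH
        have : Fact (Nat.Prime 2) := ⟨Nat.prime_two⟩
        interval_cases k
        · have : Subsingleton H := (Nat.card_eq_one_iff_unique.1 hk').1
          exact ⟨⟨fun a b => Subsingleton.elim _ _⟩⟩
        · have : IsCyclic H := isCyclic_of_prime_card (p := 2) hk'
          exact IsCyclic.isMulCommutative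
        · exact IsPGroup.isMulCommutative_of_card_eq_prime_sq hk'
      · have htop : H = ⊤ := Subgroup.eq_top_of_card_eq H (by rw [hk', DihedralGroup.nat_card]; norm_num)
        rw [htop]
        exact Subgroup.normalizer_eq_top_iff.2 inferInstance
    · refine le_antisymm (fun g hg => ?_) Subgroup.le_normalizer
      have hrot : ∀ j, DihedralGroup.r j ∈ Subgroup.normalizer (H : Set (DihedralGroup n)) →
          DihedralGroup.r j ∈ H := by
        intro j hj
        have h1 := (Subgroup.mem_normalizer_iff.1 hj _).1 hi
        have h2 : DihedralGroup.r (-(j + j)) ∈ H := by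
          have := H.mul_mem hi h1
          rw [DihedralGroup.inv_r, DihedralGroup.r_mul_sr, DihedralGroup.sr_mul_r, DihedralGroup.sr_mul_sr] at this
          convert this using 2
          ring
        obtain ⟨k, hk⟩ := hodd
        have h3 : (DihedralGroup.r (-(j + j)))⁻¹ ^ (k + 1) ∈ H := H.pow_mem (H.inv_mem h2) _
        rw [DihedralGroup.inv_r, neg_neg, DihedralGroup.r_pow] at h3
        have hn0 : ((2 * k + 1 : ℕ) : ZMod n) = 0 := by rw [← hk, ZMod.natCast_self]
        convert h3 using 2
        push_cast at hn0 ⊢
        linear_combination (-j) * hn0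
      rcases g with j | j
      · exact hrot j hg
      · have h1 : DihedralGroup.sr i * DihedralGroup.sr j ∈ Subgroup.normalizer (H : Set (DihedralGroup n)) :=
          Subgroup.mul_mem _ (Subgroup.le_normalizer hi) hg
        rw [DihedralGroup.sr_mul_sr] at h1
        have := H.mul_mem hi (hrot _ h1)
        rw [DihedralGroup.sr_mul_r, add_sub_cancel] at this
        exact this

end Cfsg.Agent.S4074
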