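import Cfsg.Statements.S4075
import Mathlib.GroupTheory.Nilpotent
import Cfsg.Agent.FGSB.Small

set_option autoImplicit false
open Cfsg

namespace Cfsg.Agent.S4075

/-- Let G be a finite nilpotent group. Every non-abelian subgroup of G is self-normalizing if and only if G is abelian or G is a minimal non-abelian p-group for some prime p (non-abelian of prime-power order with every proper subgroup abelian). -/
theorem result {G : Type*} [Group G] [Finite G]
    [Group.IsNilpotent G] :
    (∀ H : Subgroup G, ¬ IsMulCommutative H → Subgroup.normalizer (H : Set G) = H) ↔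
    (IsMulCommutative G ∨ (IsPrimePow (Nat.card G) ∧ ¬ IsMulCommutative G ∧ ∀ H : Subgroup G, H ≠ ⊤ → IsMulCommutative H)) := by
  constructor
  · intro h
    have hprop : ∀ H : Subgroup G, H ≠ ⊤ → IsMulCommutative H := fun H hH => by
      by_contra hH'
      exact (lt_irrefl H) (by
        have := Group.normalizerCondition_of_isNilpotent (G := G) H (lt_top_iff_ne_top.2 hH)
        rwa [h H hH'] at this)
    by_cases hG : IsMulCommutative G
    · exact .inl hG
    refine .inr ⟨?_, hG, hprop⟩
    by_contra hpp
    apply hG
    have hcard1 : Nat.card G ≠ 1 := fun h1 => hG (by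
      have : Subsingleton G := (Nat.card_eq_one_iff_unique.1 h1).1
      exact ⟨⟨fun a b => Subsingleton.elim _ _⟩⟩)
    -- all Sylow subgroups are proper, hence abelian
    have hnil : Group.IsNilpotent G ↔ Nonempty
        ((∀ p : (Nat.card G).primeFactors, ∀ P : Sylow p G, (↑P : Subgroup G)) ≃* G) :=
      (Group.isNilpotent_of_finite_tfae (G := G)).out 0 4
    obtain ⟨φ⟩ := hnil.1 inferInstance
    have hab : ∀ p : (Nat.card G).primeFactors, ∀ P : Sylow p G, IsMulCommutative (P : Subgroup G) := by
      intro p P
      refine hprop _ fun htop => hpp ?_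
      have := Fact.mk (Nat.prime_of_mem_primeFactors p.2)
      obtain ⟨k, hk⟩ := IsPGroup.iff_card.1 P.isPGroup'
      rw [htop, Subgroup.card_top] at hk
      rcases k with _ | k
      · exact absurd hk hcard1
      · exact (isPrimePow_nat_iff _).2 ⟨p, k + 1, Nat.prime_of_mem_primeFactors p.2, by omega, hk.symm⟩
    exact ⟨⟨fun a b => φ.symm.injective (by
      rw [map_mul, map_mul]
      funext p P
      exact (hab p P).is_comm.comm _ _)⟩⟩
  · rintro (h | ⟨-, -, h⟩) H hH
    · exact absurd ⟨⟨fun a b => Subtype.ext (h.is_comm.comm (a : G) b)⟩⟩ hH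
    · have htop : H = ⊤ := by
        by_contra hne
        exact hH (h H hne)
      rw [htop]
      exact Subgroup.normalizer_eq_top_iff.2 inferInstance

end Cfsg.Agent.S4075
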