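import Cfsg.Statements.S4080
import Mathlib.GroupTheory.PGroup
import Mathlib.Data.Nat.Choose.Sum
import Cfsg.Agent.Coprime.Sylow

set_option autoImplicit false
open Cfsg

namespace Cfsg.Agent.S4080

/-- An automorphism of order `p` of a group `L` like `C_{p²} × C_{p²}`, `p > 3`, fixes the
elements of order `p`. -/
theorem fixes_of_order {p : ℕ} [Fact p.Prime] (hp : 3 < p) {L : Type*} [CommGroup L] [Finite L]
    (hroot : ∀ z : L, z ^ p = 1 → ∃ y : L, y ^ p = z) (hexp : ∀ y : L, y ^ (p * p) = 1)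
    (hcard : Nat.card L = (p ^ 2) ^ 2)
    (a : MulAut L) (ha : orderOf a = p) (x : L) (hx : orderOf x = p) : a x = x := by
  classical
  have hp' := (Fact.out : p.Prime)
  let δ : L →* L := MonoidHom.mk' (fun y => y⁻¹ * a y) fun u v => by
    rw [map_mul, mul_inv]; exact mul_mul_mul_comm _ _ _ _
  have hδ : ∀ y, a y = y * δ y := fun y => (mul_inv_cancel_left y (a y)).symm
  set K : Subgroup L := (powMonoidHom p : L →* L).range with hK
  have hKmem : ∀ y : L, y ∈ K → y ^ p = 1 := by
    rintro _ ⟨w, rfl⟩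
    rw [powMonoidHom_apply, ← pow_mul, hexp]
  have hKδ : ∀ y ∈ K, δ y ∈ K := by
    rintro _ ⟨w, rfl⟩
    exact ⟨δ w, by simp [powMonoidHom_apply]⟩
  have hKc : Nat.card (L ⧸ K) = p ^ 2 := by
    -- `L ⧸ K` has the same order as the kernel of the `p`-th power map
    have h1 : Nat.card (powMonoidHom p : L →* L).ker = Nat.card (L ⧸ K) := by
      have e1 := (powMonoidHom p : L →* L).ker.card_mul_index
      rw [Subgroup.index_ker] at e1
      have e2 := K.card_mul_index
      refine Nat.eq_of_mul_eq_mul_left (Nat.card_pos (α := K)) ?_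
      rw [mul_comm] at e1
      exact e1.trans e2.symm
    have h2 : (powMonoidHom p : L →* L).ker = K := by
      refine le_antisymm (fun y hy => ?_) fun y hy => hKmem y hy
      obtain ⟨w, hw⟩ := hroot y hy
      exact ⟨w, hw⟩
    have h3 : Nat.card K * Nat.card (L ⧸ K) = (p ^ 2) ^ 2 := by
      rw [← Subgroup.index_eq_card, K.card_mul_index, hcard]
    rw [h2] at h1
    rw [h1, ← pow_two] at h3
    exact Nat.pow_left_injective (by norm_num) h3
  -- the induced map on `L ⧸ K`
  let δ' : L ⧸ K →* L ⧸ K := QuotientGroup.map K K δ (fun y hy => hKδ y hy)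
  have hord : a ^ p = 1 := ha ▸ pow_orderOf_eq_one a
  have hiter : ∀ (n : ℕ) (y : L), (a ^ (n + 1)) y = a ((a ^ n) y) := fun n y => by
    rw [pow_succ']; rfl
  have hd2 : ∀ y : L, δ (δ y) ∈ K := by
    -- a `p`-group acting on the group `L ⧸ K` of order `p ^ 2`
    let act : L ⧸ K →* L ⧸ K := QuotientGroup.map K K a.toMonoidHom (fun y hy => by
      show a y ∈ K
      rw [hδ]; exact K.mul_mem hy (hKδ y hy))
    have hact : ∀ y : L, act (y : L ⧸ K) = (y : L ⧸ K) * δ' (y : L ⧸ K) := fun y => by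
      show ((a y : L) : L ⧸ K) = _
      rw [hδ]; rfl
    have hactp : ∀ q, act^[p] q = q := by
      intro q
      obtain ⟨y, rfl⟩ := QuotientGroup.mk_surjective q
      have h : ∀ n, act^[n] (y : L ⧸ K) = (((a ^ n) y : L) : L ⧸ K) := by
        intro n
        induction n with
        | zero => rfl
        | succ n ih => rw [Function.iterate_succ', Function.comp_apply, ih, hiter]; rfl
      rw [h, hord]; rfl
    let Y : Subgroup (L ⧸ K) := δ'.range
    have hYact : ∀ q ∈ Y, act q ∈ Y := by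
      rintro _ ⟨q, rfl⟩
      obtain ⟨y, rfl⟩ := QuotientGroup.mk_surjective q
      refine ⟨act (y : L ⧸ K), ?_⟩
      show ((δ (a y) : L) : L ⧸ K) = ((a (δ y) : L) : L ⧸ K)
      congr 1
      show (a y)⁻¹ * a (a y) = a (y⁻¹ * a y)
      rw [map_mul, map_inv]
    -- fixed points of an automorphism of `p`-power order on a `p`-group
    have hfix : ∀ Z : Subgroup (L ⧸ K), (∀ q ∈ Z, act q ∈ Z) → p ∣ Nat.card Z →
        ∃ q ∈ Z, q ≠ 1 ∧ δ' q = 1 := by
      intro Z hZ hpZ
      let e : MulAut (L ⧸ K) := MulEquiv.ofBijective act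
        (Finite.injective_iff_bijective.1 (by
          intro u v huv
          rw [← hactp u, ← hactp v, ← Nat.sub_add_cancel hp'.one_le, Function.iterate_succ_apply,
            Function.iterate_succ_apply, huv]))
      have he : e ^ p = 1 := by
        ext q
        have : ∀ n, (e ^ n) q = act^[n] q := by
          intro n
          induction n with
          | zero => rfl
          | succ n ih => rw [pow_succ', Function.iterate_succ', Function.comp_apply, ← ih]; rfl
        rw [this, hactp]; rfl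
      have hpg : IsPGroup p (Subgroup.zpowers e) := by
        obtain ⟨i, -, hi⟩ := (Nat.dvd_prime_pow hp').1
          ((pow_one p).symm ▸ orderOf_dvd_of_pow_eq_one he : orderOf e ∣ p ^ 1)
        exact IsPGroup.of_card (n := i) (by rw [Nat.card_zpowers, hi])
      obtain ⟨q, hq, hq1, hfx⟩ := CfsgLib.Coprime.exists_fixed_ne_one_of_isPGroup
        (A := ↥(Subgroup.zpowers e)) hpg Z (fun b z hz => by
          obtain ⟨n, hn⟩ := mem_powers_iff_mem_zpowers.2 b.2
          change e ^ n = (b : MulAut (L ⧸ K)) at hn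
          show (b : MulAut (L ⧸ K)) z ∈ Z
          rw [← hn]
          clear hn
          induction n with
          | zero => exact hz
          | succ n ih => rw [pow_succ']; exact hZ _ ih) hpZ
      refine ⟨q, hq, hq1, ?_⟩
      obtain ⟨y, rfl⟩ := QuotientGroup.mk_surjective q
      have h := hfx ⟨e, Subgroup.mem_zpowers e⟩
      change act (y : L ⧸ K) = (y : L ⧸ K) at h
      rw [hact] at h
      exact mul_eq_left.1 h
    have hYne : Nat.card Y ≤ p := by
      obtain ⟨q, -, hq1, hq⟩ := hfix ⊤ (fun _ _ => Subgroup.mem_top _)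
        (by rw [Subgroup.card_top, hKc]; exact dvd_pow_self p two_ne_zero)
      have hker : 1 < Nat.card δ'.ker :=
        Finite.one_lt_card_iff_nontrivial.2 ⟨⟨⟨q, hq⟩, 1, fun h => hq1 (congrArg Subtype.val h)⟩⟩
      obtain ⟨i, -, hi⟩ := (Nat.dvd_prime_pow hp').1 (hKc ▸ δ'.ker.card_subgroup_dvd_card)
      have h1 := δ'.ker.card_mul_index
      rw [Subgroup.index_ker, hKc, hi] at h1
      have hi0 : i ≠ 0 := by rintro rfl; rw [hi] at hker; simp at hker
      have h2 : p ≤ p ^ i := Nat.le_self_pow hi0 p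
      show Nat.card δ'.range ≤ p
      by_contra hgt
      have h3 : p * p < p ^ i * Nat.card δ'.range :=
        Nat.lt_of_lt_of_le (Nat.mul_lt_mul_of_pos_left (by omega) hp'.pos) (Nat.mul_le_mul_right _ h2)
      rw [h1] at h3
      exact absurd h3 (by rw [pow_two]; omega)
    intro y
    rw [← QuotientGroup.eq_one_iff]
    show δ' (δ' (y : L ⧸ K)) = 1
    by_cases h1 : δ' (y : L ⧸ K) = 1
    · rw [h1, map_one]
    have hY1 : 1 < Nat.card Y := Finite.one_lt_card_iff_nontrivial.2
      ⟨⟨⟨_, y, rfl⟩, 1, fun h => h1 (congrArg Subtype.val h)⟩⟩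
    obtain ⟨i, -, hi⟩ := (Nat.dvd_prime_pow hp').1 (hKc ▸ Y.card_subgroup_dvd_card)
    have hYp : Nat.card Y = p := by
      rcases i with _ | i
      · rw [hi, pow_zero] at hY1; omega
      · exact le_antisymm hYne (hi ▸ Nat.le_self_pow (by omega) p)
    obtain ⟨q, hq, hq1, hqf⟩ := hfix Y hYact (hYp.symm ▸ dvd_rfl)
    have : Fact (Nat.card Y).Prime := ⟨hYp.symm ▸ hp'⟩
    have hle : Y ≤ δ'.ker := by
      intro w hw
      have htop : Subgroup.zpowers (⟨q, hq⟩ : ↥Y) = ⊤ := zpowers_eq_top_of_prime_card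
        (p := p) hYp (fun h => hq1 (congrArg Subtype.val h))
      obtain ⟨n, hn⟩ := htop.symm.le (Subgroup.mem_top (⟨w, hw⟩ : ↥Y))
      have hn' : q ^ n = w := by simpa using congrArg Subtype.val hn
      rw [MonoidHom.mem_ker, ← hn', map_zpow, hqf, one_zpow]
    exact hle ⟨_, rfl⟩
  have hd4 : ∀ y : L, δ (δ (δ (δ y))) = 1 := fun y => by
    obtain ⟨w, hw⟩ := hd2 y
    obtain ⟨u, hu⟩ := hd2 w
    rw [powMonoidHom_apply] at hw hu
    rw [← hw, map_pow, map_pow, ← hu, ← pow_mul, hexp]
  have hpow : ∀ (n : ℕ) (y : L), (a ^ n) y =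
      y * δ y ^ n * δ (δ y) ^ n.choose 2 * δ (δ (δ y)) ^ n.choose 3 := by
    intro n
    induction n with
    | zero => intro y; simp
    | succ n ih =>
      intro y
      rw [hiter, ih, hδ]
      simp only [map_mul, map_pow, hd4, one_pow, mul_one]
      rw [Nat.choose_succ_succ n 1, Nat.choose_one_right, Nat.choose_succ_succ n 2, pow_succ,
        pow_add (δ (δ y)), pow_add (δ (δ (δ y)))]
      simp only [mul_assoc, mul_comm, mul_left_comm]
  have hchoose : ∀ i, i ≠ 0 → i < p → p ∣ p.choose i := fun i h0 hi => hp'.dvd_choose_self h0 hi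
  -- the conclusion
  obtain ⟨y, rfl⟩ := hroot x (by rw [← hx]; exact pow_orderOf_eq_one x)
  have h := hpow p y
  rw [hord] at h
  obtain ⟨c₂, hc₂⟩ := hchoose 2 two_ne_zero (by omega)
  obtain ⟨c₃, hc₃⟩ := hchoose 3 (by norm_num) (by omega)
  have e3 : δ (δ (δ y)) ∈ K := hd2 (δ y)
  rw [hc₂, hc₃, pow_mul, pow_mul, hKmem _ (hd2 y), hKmem _ e3, one_pow, one_pow, mul_one, mul_one] at h
  rw [map_pow, hδ, mul_pow, mul_eq_left.1 (h.symm.trans (by rfl : (1 : MulAut L) y = y)), mul_one]


/-- Let p > 3 be a prime and L the direct product of two cyclic groups of order p². Every automorphism of L of order p fixes every element of order p of L. -/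
theorem result {p : ℕ} [Fact p.Prime] (hp : 3 < p)
    (a : MulAut (Multiplicative (ZMod (p ^ 2) × ZMod (p ^ 2)))) (ha : orderOf a = p)
    (x : Multiplicative (ZMod (p ^ 2) × ZMod (p ^ 2))) (hx : orderOf x = p) : a x = x := by
  classical
  have hp' := (Fact.out : p.Prime)
  have : NeZero (p ^ 2) := ⟨pow_ne_zero _ hp'.ne_zero⟩
  refine fixes_of_order hp ?_ ?_ ?_ a ha x hx
  · intro z hz
    have h1 : ∀ c : ZMod (p ^ 2), (p : ℕ) • c = 0 → ∃ d, (p : ℕ) • d = c := by
      intro c hc
      rw [nsmul_eq_mul, ← ZMod.natCast_zmod_val c, ← Nat.cast_mul] at hc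
      have hc' := (ZMod.natCast_eq_zero_iff _ _).1 hc
      obtain ⟨d, hd⟩ := Nat.dvd_of_mul_dvd_mul_left hp'.pos (show p * p ∣ p * c.val from sq p ▸ hc')
      exact ⟨d, by rw [nsmul_eq_mul, ← Nat.cast_mul, ← hd, ZMod.natCast_zmod_val]⟩
    have hz' : (p : ℕ) • z.toAdd = 0 := by rw [← toAdd_pow, hz]; rfl
    obtain ⟨d₁, hd₁⟩ := h1 z.toAdd.1 (by rw [← Prod.smul_fst, hz']; rfl)
    obtain ⟨d₂, hd₂⟩ := h1 z.toAdd.2 (by rw [← Prod.smul_snd, hz']; rfl)
    refine ⟨Multiplicative.ofAdd (d₁, d₂), Multiplicative.toAdd.injective ?_⟩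
    rw [toAdd_pow, toAdd_ofAdd]
    exact Prod.ext hd₁ hd₂
  · intro y
    apply Multiplicative.toAdd.injective
    rw [toAdd_pow, ← sq, toAdd_one]
    have h0 : ((p : ZMod (p ^ 2)) ^ 2) = 0 := by rw [← Nat.cast_pow, ZMod.natCast_self]
    exact Prod.ext (by simp [h0]) (by simp [h0])
  · rw [Nat.card_congr Multiplicative.toAdd, Nat.card_prod, Nat.card_zmod, ← sq]

end Cfsg.Agent.S4080
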