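import Cfsg.Statements.S4081
import Cfsg.Agent.FGSB.PrimitiveRootAction
import Cfsg.Agent.FGSB.Small
import Cfsg.Agent.Char.Burnside
import Cfsg.Agent.Coprime.Generation
import Mathlib.Algebra.Module.ZMod

set_option autoImplicit false
open Cfsg

namespace Cfsg.Agent.S4081

set_option linter.unusedSectionVars false
open CfsgLib.PrimRootAct

variable {G : Type*} [Group G] [Finite G]

/-- An automorphism of a group `P ⟨x⟩` built from a semilinear map of `P`. -/
theorem exists_aut {P : Subgroup G} [P.Normal] {x : G} {q : ℕ} [Fact q.Prime] (hxq : x ^ q = 1)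
    (hdec : ∀ g : G, ∃ (u : P) (i : ℕ), g = u * x ^ i) (hxP : x ∉ P)
    (φ : P →* P) (hφi : Function.Injective φ) {k : ℕ} (hk : ¬ q ∣ k)
    (hφ : ∀ u : P, φ (MulAut.conjNormal x u) = MulAut.conjNormal (x ^ k) (φ u)) :
    ∃ α : MulAut G, (∀ u : P, α u = φ u) ∧ α x = x ^ k := by
  classical
  have hq := (Fact.out : q.Prime)
  choose U I hUI using hdec
  have hox : orderOf x = q := orderOf_eq_prime hxq fun h => hxP (h ▸ one_mem P)
  have huniq : ∀ (u v : P) (i j : ℕ), (u : G) * x ^ i = v * x ^ j → u = v ∧ i ≡ j [MOD q] := by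
    intro u v i j h
    have hmem : x ^ ((i : ℤ) - j) ∈ P := by
      have : x ^ ((i : ℤ) - j) = (u : G)⁻¹ * v := by
        rw [zpow_sub, zpow_natCast, zpow_natCast]
        calc x ^ i * (x ^ j)⁻¹ = (u : G)⁻¹ * ((u : G) * x ^ i) * (x ^ j)⁻¹ := by group
          _ = (u : G)⁻¹ * v := by rw [h]; group
      rw [this]; exact mul_mem (inv_mem u.2) v.2
    have hd : (q : ℤ) ∣ (i : ℤ) - j := by
      by_contra hcon
      apply hxP
      obtain ⟨a, b, hab⟩ := (Int.isCoprime_iff_gcd_eq_one.2 ((Nat.prime_iff_prime_int.1 hq).irreducible.coprime_iff_not_dvd.2 hcon |> Int.isCoprime_iff_gcd_eq_one.1))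
      rw [← zpow_one x, ← hab, zpow_add, zpow_mul', zpow_mul', zpow_natCast, hxq, one_zpow, one_mul]
      exact zpow_mem hmem b
    have hij : i ≡ j [MOD q] := (Nat.modEq_iff_dvd.2 hd).symm
    refine ⟨Subtype.ext ?_, hij⟩
    have e : x ^ i = x ^ j := pow_eq_pow_iff_modEq.2 (by rwa [hox])
    rwa [e, mul_right_cancel_iff] at h
  let F : G → G := fun g => φ (U g) * (x ^ k) ^ I g
  have hF : ∀ (u : P) (i : ℕ), F (u * x ^ i) = φ u * (x ^ k) ^ i := by
    intro u i
    obtain ⟨e1, e2⟩ := huniq _ _ _ _ (hUI (u * x ^ i)).symm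
    show ((φ (U _) : P) : G) * _ = _
    rw [e1]
    congr 1
    rw [← pow_mul, ← pow_mul]
    exact pow_eq_pow_iff_modEq.2 (by rw [hox]; exact e2.mul_left k)
  have hφn : ∀ (i : ℕ) (u : P), φ (MulAut.conjNormal (x ^ i) u) = MulAut.conjNormal ((x ^ k) ^ i) (φ u) := by
    intro i
    induction i with
    | zero => intro u; simp
    | succ i ih => intro u; rw [pow_succ', map_mul, MulAut.mul_apply, hφ, ih, pow_succ' (x ^ k), map_mul,
        MulAut.mul_apply]
  let Fh : G →* G := MonoidHom.mk' F fun g h => by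
    conv_lhs => rw [hUI g, hUI h, show (U g : G) * x ^ I g * ((U h : G) * x ^ I h) =
      ((U g * MulAut.conjNormal (x ^ I g) (U h) : P) : G) * x ^ (I g + I h) by
        rw [Subgroup.coe_mul, MulAut.conjNormal_apply, pow_add]; group]
    rw [hF, map_mul, hφn, Subgroup.coe_mul, MulAut.conjNormal_apply, pow_add]
    show _ = ((φ (U g) : P) : G) * (x ^ k) ^ I g * (((φ (U h) : P) : G) * (x ^ k) ^ I h)
    group
  have hinj : Function.Injective Fh := by
    refine (injective_iff_map_eq_one Fh).2 fun g hg => ?_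
    change ((φ (U g) : P) : G) * (x ^ k) ^ I g = 1 at hg
    obtain ⟨e1, e2⟩ := huniq (φ (U g)) 1 (k * I g) 0 (by rw [pow_mul, hg]; simp)
    have h0 : q ∣ I g := (hq.dvd_mul.1 (Nat.modEq_zero_iff_dvd.1 e2)).resolve_left hk
    obtain ⟨c, hc⟩ := h0
    rw [hUI g, hφi (e1.trans (map_one φ).symm), hc, pow_mul, hxq, one_pow]
    simp
  refine ⟨MulEquiv.ofBijective Fh (Finite.injective_iff_bijective.1 hinj), fun u => ?_, ?_⟩
  · show F u = φ u
    have h := hF u 0
    rwa [pow_zero, pow_zero, mul_one, mul_one] at h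
  · show F x = x ^ k
    have h := hF 1 1
    rwa [map_one, Subgroup.coe_one, one_mul, one_mul, pow_one, pow_one] at h

theorem card_orbits_eq_three_iff {p q : ℕ} (hp : p.Prime) (hq : q.Prime) (hpq : p ≠ q)
    (hdp : p ∣ Nat.card G) (hdq : q ∣ Nat.card G) :
    Nat.card (MulAction.orbitRel.Quotient (MulAut G) G) = 3 ↔
      (∀ g : G, g ≠ 1 → orderOf g = p ∨ orderOf g = q) ∧
        ∀ g h : G, orderOf g = orderOf h → ∃ α : MulAut G, α g = h := by
  classical
  have := Fact.mk hp
  have := Fact.mk hq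
  obtain ⟨a, ha⟩ := exists_prime_orderOf_dvd_card' p hdp
  obtain ⟨b, hb⟩ := exists_prime_orderOf_dvd_card' q hdq
  let o : MulAction.orbitRel.Quotient (MulAut G) G → ℕ := fun z => Quotient.liftOn' z orderOf (by
    rintro g h ⟨α, rfl⟩
    exact MulEquiv.orderOf_eq α h)
  let f : Fin 3 → MulAction.orbitRel.Quotient (MulAut G) G :=
    ![Quotient.mk'' 1, Quotient.mk'' a, Quotient.mk'' b]
  have hof : o ∘ f = ![1, p, q] := by
    funext i
    fin_cases i
    · exact orderOf_one
    · exact ha
    · exact hb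
  have hoi : Function.Injective (![1, p, q] : Fin 3 → ℕ) := by
    intro i j hij
    fin_cases i <;> fin_cases j <;>
      simp_all [hp.ne_one, hq.ne_one, Ne.symm hp.ne_one, Ne.symm hq.ne_one, Ne.symm hpq]
  have hfi : Function.Injective f := Function.Injective.of_comp (f := o) (hof ▸ hoi)
  constructor
  · intro h3
    have hfb := (Nat.bijective_iff_injective_and_card f).2 ⟨hfi, by rw [Nat.card_fin, h3]⟩
    refine ⟨fun g hg => ?_, fun g h hgh => ?_⟩
    · obtain ⟨i, hi⟩ := hfb.2 (Quotient.mk'' g)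
      have ho : (o ∘ f) i = orderOf g := congrArg o hi
      rw [hof] at ho
      fin_cases i
      · exact absurd (orderOf_eq_one_iff.1 ho.symm) hg
      · exact Or.inl ho.symm
      · exact Or.inr ho.symm
    · obtain ⟨i, hi⟩ := hfb.2 (Quotient.mk'' g)
      obtain ⟨j, hj⟩ := hfb.2 (Quotient.mk'' h)
      have hij : i = j := by
        apply hoi
        rw [← hof]
        exact (congrArg o hi).trans (hgh.trans (congrArg o hj).symm)
      obtain ⟨α, hα⟩ := Quotient.exact' (hj.symm.trans (hij ▸ hi))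
      exact ⟨α, hα⟩
  · rintro ⟨hord, htr⟩
    rw [← Nat.card_eq_of_bijective f ⟨hfi, fun z => ?_⟩, Nat.card_fin]
    induction z using Quotient.inductionOn' with
    | h g =>
      by_cases hg : g = 1
      · exact ⟨0, hg ▸ rfl⟩
      rcases hord g hg with h | h
      · obtain ⟨α, hα⟩ := htr g a (h.trans ha.symm)
        exact ⟨1, Quotient.sound' ⟨α, hα⟩⟩
      · obtain ⟨α, hα⟩ := htr g b (h.trans hb.symm)
        exact ⟨2, Quotient.sound' ⟨α, hα⟩⟩

/-- `P` as a vector space over `ZMod p`. -/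
@[reducible] noncomputable def addComm {P : Subgroup G} (hc : IsMulCommutative P) : AddCommGroup (Additive P) :=
  let _ : CommGroup P := { (inferInstance : Group P) with mul_comm := fun u v => hc.1.1 u v }
  inferInstance

theorem conjNormal_pow {P : Subgroup G} [P.Normal] {p : ℕ} (iA : AddCommGroup (Additive P))
    [Module (ZMod p) (Additive P)] (T : Module.End (ZMod p) (Additive P)) (x : G)
    (hT : ∀ u : Additive P, (T u).toMul = MulAut.conjNormal x u.toMul) (i : ℕ) (u : Additive P) :
    ((T ^ i) u).toMul = MulAut.conjNormal (x ^ i) u.toMul := by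
  induction i generalizing u with
  | zero => simp
  | succ i ih => rw [pow_succ', Module.End.mul_apply, hT, ih, pow_succ', map_mul, MulAut.mul_apply]

/-- The forward direction, for the module of a normal abelian Sylow subgroup. -/
theorem orderOf_eq_of_orbits {p q : ℕ} [Fact p.Prime] [Fact q.Prime] (hne : p ≠ q) {P : Subgroup G}
    [hPn : P.Normal] (hPc : IsMulCommutative P) (hexp : ∀ u ∈ P, u ^ p = 1) (hP1 : P ≠ ⊥) {x : G}
    (hx : orderOf x = q) (hdec : ∀ g : G, ∃ (u : P) (i : ℕ), g = u * x ^ i)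
    (hQ : ∀ R : Sylow q G, Nat.card (R : Subgroup G) = q)
    (hPmem : ∀ g : G, orderOf g = p → g ∈ P)
    (hfpf : ∀ u ∈ P, x * u * x⁻¹ = u → u = 1)
    (htr : ∀ g h : G, orderOf g = orderOf h → ∃ α : MulAut G, α g = h) :
    orderOf (p : ZMod q) = q - 1 := by
  let _ : CommGroup P := { (inferInstance : Group P) with mul_comm := fun u v => hPc.1.1 u v }
  have iM : Module (ZMod p) (Additive P) := AddCommGroup.zmodModule fun u => by
    apply Additive.toMul.injective
    rw [toMul_nsmul, toMul_zero]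
    exact Subtype.ext (hexp _ u.toMul.2)
  have hP2 : Nontrivial P := (Subgroup.nontrivial_iff_ne_bot P).2 hP1
  have : Nontrivial (Additive P) := inferInstance
  let T : Module.End (ZMod p) (Additive P) :=
    (MonoidHom.toAdditive (MulAut.conjNormal x : MulAut P).toMonoidHom).toZModLinearMap p
  have hT : ∀ u : Additive P, (T u).toMul = MulAut.conjNormal x u.toMul := fun u => rfl
  have hTp := conjNormal_pow inferInstance T x hT
  have hinvP : ∀ (α : MulAut G), ∀ u ∈ P, α u ∈ P := fun α u hu => by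
    by_cases h1 : u = 1
    · rw [h1, map_one]; exact one_mem P
    refine hPmem _ ?_
    rw [MulEquiv.orderOf_eq]
    exact ((Fact.out : p.Prime).eq_one_or_self_of_dvd _ (orderOf_dvd_of_pow_eq_one (hexp u hu))).resolve_left
      (fun h => h1 (orderOf_eq_one_iff.1 h))
  -- restriction of an automorphism sending `x` to a power of `x`
  have hres : ∀ (α : MulAut G) (k : ℕ), α x = x ^ k → ∃ A : Additive P →ₗ[ZMod p] Additive P,
      Function.Injective A ∧ (∀ u, A (T u) = (T ^ k) (A u)) ∧
        ∀ u, ((A u).toMul : G) = α (u.toMul : G) := by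
    intro α k hk
    let A' : P →* P := (α.toMonoidHom.comp P.subtype).codRestrict P fun u => hinvP α u u.2
    refine ⟨(MonoidHom.toAdditive A').toZModLinearMap p, ?_, fun u => ?_, fun u => rfl⟩
    · intro u v h
      exact Additive.toMul.injective (Subtype.ext (α.injective (congrArg (fun w => (w.toMul : G)) h)))
    · apply Additive.toMul.injective
      rw [hTp]
      refine Subtype.ext ?_
      show α (x * (u.toMul : G) * x⁻¹) = x ^ k * α (u.toMul : G) * (x ^ k)⁻¹
      rw [map_mul, map_mul, map_inv, hk]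
  refine orderOf_eq_of_transitive hne T ?_ (fun u hu => ?_) (fun v w hv hw => ?_) (fun k hk => ?_)
  · refine LinearMap.ext fun u => Additive.toMul.injective ?_
    rw [hTp, show x ^ q = 1 from hx ▸ pow_orderOf_eq_one x, map_one]
    rfl
  · apply Additive.toMul.injective
    refine Subtype.ext (hfpf _ u.toMul.2 ?_)
    exact congrArg (fun w => (w.toMul : G)) hu
  · have hne1 : ∀ u : Additive P, u ≠ 0 → orderOf (u.toMul : G) = p := fun u hu =>
      ((Fact.out : p.Prime).eq_one_or_self_of_dvd _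
        (orderOf_dvd_of_pow_eq_one (hexp _ u.toMul.2))).resolve_left fun h =>
          hu (Additive.toMul.injective (Subtype.ext (orderOf_eq_one_iff.1 h)))
    obtain ⟨α, hα⟩ := htr _ _ ((hne1 v hv).trans (hne1 w hw).symm)
    -- move `α x` into `⟨x⟩` by an element of `P`, which fixes `P` pointwise
    have hax : orderOf (α x) = q := by rw [MulEquiv.orderOf_eq, hx]
    obtain ⟨R₁, hR₁⟩ := (IsPGroup.of_card (p := q) (G := Subgroup.zpowers (α x)) (n := 1)
      (by rw [Nat.card_zpowers, hax, pow_one])).exists_le_sylow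
    obtain ⟨R₂, hR₂⟩ := (IsPGroup.of_card (p := q) (G := Subgroup.zpowers x) (n := 1)
      (by rw [Nat.card_zpowers, hx, pow_one])).exists_le_sylow
    have hR₂x : (R₂ : Subgroup G) = Subgroup.zpowers x :=
      (Subgroup.eq_of_le_of_card_ge hR₂ (by rw [hQ, Nat.card_zpowers, hx])).symm
    obtain ⟨c, hc⟩ := MulAction.exists_smul_eq G R₁ R₂
    have hmem : c * α x * c⁻¹ ∈ Subgroup.zpowers x := by
      rw [← hR₂x, ← hc]; exact ⟨α x, hR₁ (Subgroup.mem_zpowers _), rfl⟩
    obtain ⟨u, i, hui⟩ := hdec c⁻¹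
    have hmem' : (u : G)⁻¹ * α x * u ∈ Subgroup.zpowers x := by
      have h1 := mul_mem (mul_mem (pow_mem (Subgroup.mem_zpowers x) i) hmem)
        (inv_mem (pow_mem (Subgroup.mem_zpowers x) i))
      have hc' : c = ((u : G) * x ^ i)⁻¹ := by rw [← hui, inv_inv]
      rw [hc'] at h1
      convert h1 using 1
      group
    obtain ⟨k, hk⟩ := mem_powers_iff_mem_zpowers.2 hmem'
    change x ^ k = _ at hk
    obtain ⟨A, h1, h2, h3⟩ := hres (MulAut.conj (u : G)⁻¹ * α) k (by
      rw [MulAut.mul_apply, MulAut.conj_apply, inv_inv, hk])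
    refine ⟨A, k, h1, h2, Additive.toMul.injective (Subtype.ext ?_)⟩
    rw [h3, MulAut.mul_apply, hα, MulAut.conj_apply, inv_inv, mul_assoc,
      show (w.toMul : G) * u = u * (w.toMul : G) from congrArg Subtype.val (mul_comm w.toMul u),
      inv_mul_cancel_left]
  · have hox : orderOf (x ^ k) = q := by
      rw [orderOf_pow, hx, Nat.Coprime.gcd_eq_one ((Fact.out : q.Prime).coprime_iff_not_dvd.2 hk), Nat.div_one]
    obtain ⟨α, hα⟩ := htr x (x ^ k) (hx.trans hox.symm)
    obtain ⟨A, h1, h2, -⟩ := hres α k hα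
    exact ⟨A, h1, h2⟩

/-- The converse: existence of the automorphisms. -/
theorem exists_auts {p q : ℕ} [Fact p.Prime] [Fact q.Prime] (hord : orderOf (p : ZMod q) = q - 1)
    {P : Subgroup G} [hPn : P.Normal] (hPc : IsMulCommutative P) (hexp : ∀ u ∈ P, u ^ p = 1) {x : G}
    (hx : orderOf x = q) (hxP : x ∉ P) (hdec : ∀ g : G, ∃ (u : P) (i : ℕ), g = u * x ^ i)
    (hfpf : ∀ u ∈ P, x * u * x⁻¹ = u → u = 1) (j : ℕ) {v w : P} (hv : v ≠ 1) (hw : w ≠ 1) :
    ∃ α : MulAut G, α v = w ∧ α x = x ^ p ^ j := by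
  let _ : CommGroup P := { (inferInstance : Group P) with mul_comm := fun u v => hPc.1.1 u v }
  have iM : Module (ZMod p) (Additive P) := AddCommGroup.zmodModule fun u => by
    apply Additive.toMul.injective
    rw [toMul_nsmul, toMul_zero]
    exact Subtype.ext (hexp _ u.toMul.2)
  let T : Module.End (ZMod p) (Additive P) :=
    (MonoidHom.toAdditive (MulAut.conjNormal x : MulAut P).toMonoidHom).toZModLinearMap p
  have hT : ∀ u : Additive P, (T u).toMul = MulAut.conjNormal x u.toMul := fun u => rfl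
  have hTp := conjNormal_pow inferInstance T x hT
  have hxq : x ^ q = 1 := hx ▸ pow_orderOf_eq_one x
  have hqp : ¬ q ∣ p := by
    intro hd
    rw [(ZMod.natCast_eq_zero_iff _ _).2 hd, orderOf_eq_zero_iff'.2 fun n hn => by simp [hn.ne']] at hord
    have := (Fact.out : q.Prime).two_le; omega
  obtain ⟨φ, hφi, hφv, hφT⟩ := exists_semilinear hord T
    (LinearMap.ext fun u => Additive.toMul.injective (by rw [hTp, hxq, map_one]; rfl))
    (fun u hu => Additive.toMul.injective
      (Subtype.ext (hfpf _ u.toMul.2 (congrArg (fun w => (w.toMul : G)) hu))))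
    j (v := Additive.ofMul v) (w := Additive.ofMul w) (fun h => hv h) (fun h => hw h)
  obtain ⟨α, hα1, hα2⟩ := exists_aut hxq hdec hxP (AddMonoidHom.toMultiplicative φ) hφi (k := p ^ j)
    (fun hd => hqp ((Fact.out : q.Prime).dvd_of_dvd_pow hd)) (fun u => by
      show (φ (T (Additive.ofMul u))).toMul = _
      rw [hφT, hTp]
      rfl)
  refine ⟨α, ?_, hα2⟩
  rw [hα1]
  exact congrArg (fun z => (z.toMul : G)) hφv

/-- Forward direction with the roles of the primes fixed. -/
theorem forward {r s : ℕ} [Fact r.Prime] [Fact s.Prime] (hrs : r ≠ s) (hdr : r ∣ Nat.card G)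
    (hds : s ∣ Nat.card G) (hord : ∀ g : G, g ≠ 1 → orderOf g = r ∨ orderOf g = s)
    (htr : ∀ g h : G, orderOf g = orderOf h → ∃ α : MulAut G, α g = h)
    {M : Subgroup G} (hM : ∀ α : MulAut G, ∀ m ∈ M, α m ∈ M)
    (hMc : ∀ a ∈ M, ∀ b ∈ M, a * b = b * a) {m : G} (hmM : m ∈ M) (hm : orderOf m = r) :
    ∃ (p q n : ℕ) (_ : Fact p.Prime) (_ : Fact q.Prime), p ≠ q ∧ 1 ≤ n ∧ Nat.card G = p ^ n * q ∧
      (∀ P : Sylow p G, (P : Subgroup G).Normal ∧ Cfsg.IsElementaryAbelian p (P : Subgroup G)) ∧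
      orderOf (p : ZMod q) = q - 1 ∧
      ∀ x y : G, orderOf x = q → orderOf y = p → x * y * x⁻¹ ≠ y := by
  classical
  have hr := (Fact.out : r.Prime)
  have hs := (Fact.out : s.Prime)
  have hmix : ∀ a b : G, orderOf a = r → orderOf b = s → a * b ≠ b * a := by
    intro a b ha hb hc
    have ho : orderOf (a * b) = r * s := by
      rw [Commute.orderOf_mul_eq_mul_orderOf_of_coprime hc (by rw [ha, hb]; exact (Nat.coprime_primes hr hs).2 hrs),
        ha, hb]
    have h1 : a * b ≠ 1 := fun h => by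
      rw [h, orderOf_one] at ho
      exact hr.ne_one (Nat.eq_one_of_mul_eq_one_right ho.symm)
    rcases hord _ h1 with h | h <;> rw [ho] at h
    · exact hs.ne_one ((Nat.mul_eq_left hr.ne_zero).1 h)
    · exact hr.ne_one ((Nat.mul_eq_right hs.ne_zero).1 h)
  have hall : ∀ g : G, orderOf g = r → g ∈ M := fun g hg => by
    obtain ⟨α, rfl⟩ := htr m g (hm.trans hg.symm)
    exact hM α m hmM
  have hexp : ∀ a ∈ M, a ^ r = 1 := by
    intro a ha
    by_cases h1 : a = 1
    · rw [h1, one_pow]
    rcases hord a h1 with h | h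
    · rw [← h, pow_orderOf_eq_one]
    · exact absurd (hMc m hmM a ha) (hmix m a hm h)
  have hMn : M.Normal := ⟨fun a ha g => hM (MulAut.conj g) a ha⟩
  have hMp : IsPGroup r M := fun a => ⟨1, Subtype.ext (by rw [pow_one]; exact hexp a a.2)⟩
  have hmem : ∀ (p' : ℕ) [Fact p'.Prime] (P : Sylow p' G) (g : G), g ∈ (P : Subgroup G) → g ≠ 1 →
      (orderOf g = r ∨ orderOf g = s) ∧ ∃ k, orderOf g = p' ^ (k + 1) := by
    intro p' _ P g hg h1
    obtain ⟨k, hk⟩ := IsPGroup.iff_orderOf.1 P.isPGroup' ⟨g, hg⟩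
    rw [Subgroup.orderOf_mk] at hk
    rcases k with _ | k
    · exact absurd (orderOf_eq_one_iff.1 (by rw [hk, pow_zero])) h1
    · exact ⟨hord g h1, k, hk⟩
  have hPM : ∀ P : Sylow r G, (P : Subgroup G) = M := by
    intro P
    refine (P.3 hMp fun g hg => ?_).symm
    by_cases h1 : g = 1
    · rw [h1]; exact one_mem M
    obtain ⟨h | h, k, hk⟩ := hmem r P g hg h1
    · exact hall g h
    · exact absurd ((Nat.prime_dvd_prime_iff_eq hr hs).1 (h ▸ hk ▸ dvd_pow_self r k.succ_ne_zero)) hrs
  have hQexp : ∀ (R : Sylow s G) (g : G), g ∈ (R : Subgroup G) → g ≠ 1 → orderOf g = s := by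
    intro R g hg h1
    obtain ⟨h | h, k, hk⟩ := hmem s R g hg h1
    · exact absurd ((Nat.prime_dvd_prime_iff_eq hs hr).1 (h ▸ hk ▸ dvd_pow_self s k.succ_ne_zero)) (Ne.symm hrs)
    · exact h
  have hMne : M ≠ ⊥ := fun h => hr.ne_one (by rw [← hm, Subgroup.mem_bot.1 (h.le hmM), orderOf_one])
  have hfpf : ∀ a : G, orderOf a = s → ∀ u ∈ M, a * u * a⁻¹ = u → u = 1 := by
    intro a ha u hu hau
    by_contra h1
    have hur : orderOf u = r :=
      (hr.eq_one_or_self_of_dvd _ (orderOf_dvd_of_pow_eq_one (hexp u hu))).resolve_left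
        fun h => h1 (orderOf_eq_one_iff.1 h)
    exact hmix u a hur ha (mul_inv_eq_iff_eq_mul.1 hau).symm
  have hQcard : ∀ R : Sylow s G, Nat.card (R : Subgroup G) = s := by
    intro R
    have hR0 : (R : Subgroup G) ≠ ⊥ := R.ne_bot_of_dvd_card hds
    have : Nontrivial (R : Subgroup G) := (Subgroup.nontrivial_iff_ne_bot _).2 hR0
    have hzn := R.isPGroup'.center_nontrivial
    obtain ⟨z, hz1⟩ := exists_ne (1 : Subgroup.center (R : Subgroup G))
    have hz1' : ((z : (R : Subgroup G)) : G) ≠ 1 := fun h => hz1 (Subtype.ext (Subtype.ext h))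
    set z' : G := ((z : (R : Subgroup G)) : G) with hz'
    have hzR : z' ∈ (R : Subgroup G) := (z : (R : Subgroup G)).2
    have hzo : orderOf z' = s := hQexp R z' hzR hz1'
    by_contra hne
    obtain ⟨y, hyR, hyz⟩ : ∃ y ∈ (R : Subgroup G), y ∉ Subgroup.zpowers z' := by
      by_contra hcon
      push Not at hcon
      apply hne
      rw [le_antisymm (show (R : Subgroup G) ≤ Subgroup.zpowers z' from hcon) (Subgroup.zpowers_le.2 hzR),
        Nat.card_zpowers, hzo]
    set A := Subgroup.closure ({z', y} : Set G) with hA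
    have hAR : A ≤ (R : Subgroup G) := (Subgroup.closure_le _).2 (by
      rintro g (rfl | rfl)
      · exact hzR
      · exact hyR)
    have hzy : z' * y = y * z' :=
      (congrArg Subtype.val (Subgroup.mem_center_iff.1 z.2 ⟨y, hyR⟩)).symm
    have hAc : IsMulCommutative A := Subgroup.isMulCommutative_closure (by
      rintro g (rfl | rfl) h (rfl | rfl) <;> first | rfl | exact hzy | exact hzy.symm)
    let _ : CommGroup A := { (inferInstance : Group A) with mul_comm := fun u v => hAc.1.1 u v }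
    let _ : MulDistribMulAction A M := MulDistribMulAction.compHom M
      ((MulAut.conjNormal : G →* MulAut M).comp A.subtype)
    have hnc : ¬ IsCyclic A := by
      rintro ⟨g, hg⟩
      by_cases hg1 : (g : G) = 1
      · obtain ⟨i, hi⟩ := hg ⟨z', Subgroup.subset_closure (Or.inl rfl)⟩
        apply hz1'
        have := congrArg Subtype.val hi
        simpa [hg1] using this.symm
      have hgo := hQexp R g (hAR g.2) hg1
      have hle : Nat.card A ≤ s := by
        rw [← hgo, Subgroup.orderOf_coe, ← Nat.card_zpowers]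
        exact le_of_eq (by rw [(Subgroup.eq_top_iff' _).2 fun u => Subgroup.mem_zpowers_iff.2 (hg u), Subgroup.card_top])
      have heq : Subgroup.zpowers z' = A := Subgroup.eq_of_le_of_card_ge
        (Subgroup.zpowers_le.2 (Subgroup.subset_closure (Or.inl rfl))) (by rw [Nat.card_zpowers, hzo]; exact hle)
      exact hyz (heq ▸ Subgroup.subset_closure (Or.inr rfl))
    have hcop : (Nat.card A).Coprime (Nat.card M) := by
      obtain ⟨a, ha⟩ := IsPGroup.iff_card.1 (R.isPGroup'.to_le hAR)
      obtain ⟨b, hb⟩ := IsPGroup.iff_card.1 hMp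
      rw [ha, hb]
      exact ((Nat.coprime_primes hs hr).2 hrs.symm).pow a b
    have hgen := CfsgLib.Coprime.closure_fixed_eq_top (A := A) (G := M) hnc hcop
    have hsub : Subgroup.closure {g : M | ∃ a : A, a ≠ 1 ∧ a • g = g} ≤ ⊥ := by
      rw [Subgroup.closure_le]
      rintro g ⟨a, ha, hag⟩
      exact Subgroup.mem_bot.2 (Subtype.ext (hfpf a
        (hQexp R a (hAR a.2) fun h => ha (Subtype.ext h)) g g.2 (congrArg Subtype.val hag)))
    rw [hgen, top_le_iff] at hsub
    exact hMne (eq_bot_iff.2 fun g hg => congrArg Subtype.val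
      (Subgroup.mem_bot.1 (hsub.symm.le (Subgroup.mem_top (⟨g, hg⟩ : M))) ))
  obtain ⟨P⟩ : Nonempty (Sylow r G) := inferInstance
  obtain ⟨R⟩ : Nonempty (Sylow s G) := inferInstance
  obtain ⟨n, hn⟩ := IsPGroup.iff_card.1 hMp
  have hn1 : 1 ≤ n := by
    rcases n with _ | n
    · exact absurd (Subgroup.card_eq_one.1 (by rw [hn, pow_zero])) hMne
    · omega
  have hcardG : Nat.card G = r ^ n * s := by
    have hfr : r ^ (Nat.card G).factorization r = r ^ n := by
      rw [← P.card_eq_multiplicity, hPM P, hn]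
    have hfs : s ^ (Nat.card G).factorization s = s := by rw [← R.card_eq_multiplicity, hQcard R]
    have hsub : (Nat.card G).primeFactors = {r, s} := by
      ext t
      rw [Nat.mem_primeFactors_of_ne_zero Nat.card_pos.ne', Finset.mem_insert, Finset.mem_singleton]
      refine ⟨fun ⟨ht, htd⟩ => ?_, fun h => ?_⟩
      · have := Fact.mk ht
        obtain ⟨g, hg⟩ := exists_prime_orderOf_dvd_card' t htd
        rw [← hg]
        exact hord g fun h => ht.ne_one (by rw [← hg, h, orderOf_one])
      · rcases h with rfl | rfl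
        · exact ⟨hr, hdr⟩
        · exact ⟨hs, hds⟩
    conv_lhs => rw [← Nat.prod_factorization_pow_eq_self (n := Nat.card G) Nat.card_pos.ne']
    rw [Finsupp.prod, Nat.support_factorization, hsub, Finset.prod_pair hrs, hfr, hfs]
  refine ⟨r, s, n, inferInstance, inferInstance, hrs, hn1, hcardG, fun P' => ?_, ?_,
    fun a u ha hu hau => ?_⟩
  · rw [hPM P']
    exact ⟨hMn, ⟨⟨fun a b => Subtype.ext (hMc a a.2 b b.2)⟩⟩, hexp⟩
  · obtain ⟨x, hx⟩ := exists_prime_orderOf_dvd_card' s hds
    have hxM : x ∉ M := fun h => (hs.ne_one (hx ▸ orderOf_eq_one_iff.2 (hfpf x hx x h (by group))))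
    refine orderOf_eq_of_orbits (P := M) hrs ⟨⟨fun a b => Subtype.ext (hMc a a.2 b b.2)⟩⟩ hexp hMne hx ?_
      hQcard hall (hfpf x hx) htr
    intro g
    have hidx : M.index = s := by
      refine Nat.eq_of_mul_eq_mul_right (Nat.card_pos (α := M)) ?_
      rw [M.index_mul_card, hcardG, hn, mul_comm]
    have : Fact (Nat.card (G ⧸ M)).Prime := ⟨by rw [← Subgroup.index_eq_card, hidx]; exact hs⟩
    obtain ⟨i, hi⟩ := mem_powers_iff_mem_zpowers.2 (mem_zpowers_of_prime_card (p := s)
      (g := (x : G ⧸ M)) (g' := (g : G ⧸ M)) (by rw [← Subgroup.index_eq_card, hidx])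
      (fun h => hxM ((QuotientGroup.eq_one_iff x).1 h)))
    change (x : G ⧸ M) ^ i = _ at hi
    refine ⟨⟨g * (x ^ i)⁻¹, ?_⟩, i, by simp⟩
    rw [← QuotientGroup.eq_one_iff, QuotientGroup.mk_mul, QuotientGroup.mk_inv, QuotientGroup.mk_pow, hi,
      mul_inv_cancel]
  · exact hr.ne_one (by rw [← hu, hfpf a ha u (hall u hu) hau, orderOf_one])

/-- Let G be a finite group whose order is not a prime power. Then the automorphism group of G has exactly three orbits on G if and only if there are distinct primes p, q with #G = pⁿ·q (n ≥ 1) such that G has a normal elementary abelian Sylow p-subgroup P, p is a primitive root modulo q (the multiplicative order of p mod q is q − 1), and every element of order q of G acts on P without non-identity fixed points. -/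
theorem result {G : Type*} [Group G] [Finite G] (hnpp : ¬ IsPrimePow (Nat.card G)) (hnt : Nat.card G ≠ 1) :
    Nat.card (MulAction.orbitRel.Quotient (MulAut G) G) = 3 ↔
    ∃ (p q n : ℕ) (_ : Fact p.Prime) (_ : Fact q.Prime), p ≠ q ∧ 1 ≤ n ∧ Nat.card G = p ^ n * q ∧
      (∀ P : Sylow p G, (P : Subgroup G).Normal ∧ Cfsg.IsElementaryAbelian p (P : Subgroup G)) ∧
      orderOf (p : ZMod q) = q - 1 ∧
      ∀ x y : G, orderOf x = q → orderOf y = p → x * y * x⁻¹ ≠ y := by
  classical
  constructor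
  · intro h3
    set p := (Nat.card G).minFac
    have hp : p.Prime := Nat.minFac_prime hnt
    have hdp : p ∣ Nat.card G := Nat.minFac_dvd _
    obtain ⟨q, hq, hdq, hqp⟩ : ∃ q, q.Prime ∧ q ∣ Nat.card G ∧ q ≠ p := by
      by_contra hcon
      push Not at hcon
      exact hnpp (isPrimePow_iff_unique_prime_dvd.2 ⟨p, ⟨hp, hdp⟩, fun q hq => hcon q hq.1 hq.2⟩)
    have := Fact.mk hp
    have := Fact.mk hq
    obtain ⟨hord, htr⟩ := (card_orbits_eq_three_iff hp hq hqp.symm hdp hdq).1 h3
    obtain ⟨a, m, hpm, ham⟩ := Nat.exists_eq_pow_mul_and_not_dvd (Nat.card_pos (α := G)).ne' p hp.ne_one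
    have hm : m = q ^ m.primeFactorsList.length := by
      refine Nat.eq_prime_pow_of_unique_prime_dvd (by rintro rfl; exact hpm (dvd_zero p)) fun {d} hd hdm => ?_
      have := Fact.mk hd
      obtain ⟨g, hg⟩ := exists_prime_orderOf_dvd_card' d (ham ▸ hdm.mul_left (p ^ a))
      rcases hord g (fun h => hd.ne_one (by rw [← hg, h, orderOf_one])) with h | h
      · exact absurd (show p ∣ m by rw [← h, hg]; exact hdm) hpm
      · exact hg.symm.trans h
    have hsol := CfsgLib.Char.isSolvable_of_card_eq (G := G) p q a m.primeFactorsList.length hp hq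
      (by rw [← hm]; exact ham)
    have hex := (Group.isSolvable_def G).1 hsol
    set k := Nat.find hex with hk
    have hk0 : k ≠ 0 := fun h => by
      have h' := Nat.find_spec hex
      rw [← hk, h, derivedSeries_zero] at h'
      exact hnt (by rw [← Subgroup.card_top, h', Subgroup.card_bot])
    obtain ⟨j, hj⟩ := Nat.exists_eq_succ_of_ne_zero hk0
    have hM0 : derivedSeries G j ≠ ⊥ := Nat.find_min hex (by omega)
    have hMc : ∀ u ∈ derivedSeries G j, ∀ v ∈ derivedSeries G j, u * v = v * u := by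
      have h' : derivedSeries G (j + 1) = ⊥ := by rw [← Nat.succ_eq_add_one, ← hj]; exact Nat.find_spec hex
      rw [derivedSeries_succ, Subgroup.commutator_eq_bot_iff_le_centralizer] at h'
      exact fun u hu v hv => (Subgroup.mem_centralizer_iff.1 (h' hu) v hv).symm
    have hMinv : ∀ α : MulAut G, ∀ u ∈ derivedSeries G j, α u ∈ derivedSeries G j := fun α u hu =>
      map_derivedSeries_le_derivedSeries α.toMonoidHom j ⟨u, hu, rfl⟩
    obtain ⟨⟨u, hu⟩, hu1'⟩ := (Subgroup.ne_bot_iff_exists_ne_one).1 hM0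
    have hu1 : u ≠ 1 := fun e => hu1' (Subtype.ext e)
    rcases hord u hu1 with h | h
    · exact forward hqp.symm hdp hdq hord htr hMinv hMc hu h
    · exact forward hqp hdq hdp (fun g hg => (hord g hg).symm) htr hMinv hMc hu h
  · rintro ⟨p, q, n, hpf, hqf, hpq, hn, hcard, hPel, hprim, hfpf⟩
    have hp := (Fact.out : p.Prime)
    have hq := (Fact.out : q.Prime)
    have hdp : p ∣ Nat.card G := hcard ▸ (dvd_pow_self p (by omega)).mul_right q
    have hdq : q ∣ Nat.card G := hcard ▸ dvd_mul_left q _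
    obtain ⟨P⟩ : Nonempty (Sylow p G) := inferInstance
    obtain ⟨hPn, hPc, hPexp⟩ := hPel P
    have hfac : ∀ r e : ℕ, r.Prime → Nat.card G = r ^ e * (if r = p then q else p ^ n) →
        (¬ r ∣ if r = p then q else p ^ n) → (Nat.card G).factorization r = e := by
      intro r e hr he hnd
      rw [he, Nat.factorization_mul (pow_ne_zero _ hr.ne_zero) (by split_ifs; exacts [hq.ne_zero, pow_ne_zero _ hp.ne_zero]),
        Finsupp.add_apply, hr.factorization_pow, Finsupp.single_eq_same, Nat.factorization_eq_zero_of_not_dvd hnd,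
        add_zero]
    have hPcard : Nat.card (P : Subgroup G) = p ^ n := by
      rw [P.card_eq_multiplicity, hfac p n hp (by rw [if_pos rfl]; exact hcard)
        (by rw [if_pos rfl]; exact fun h => hpq ((Nat.prime_dvd_prime_iff_eq hp hq).1 h))]
    have hQcard : ∀ R : Sylow q G, Nat.card (R : Subgroup G) = q := fun R => by
      rw [R.card_eq_multiplicity, hfac q 1 hq (by rw [if_neg (Ne.symm hpq), pow_one, hcard, mul_comm])
        (by rw [if_neg (Ne.symm hpq)]; exact fun h => hpq ((Nat.prime_dvd_prime_iff_eq hq hp).1 (hq.dvd_of_dvd_pow h)).symm),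
        pow_one]
    have hidx : (P : Subgroup G).index = q := by
      refine Nat.eq_of_mul_eq_mul_right (Nat.card_pos (α := (P : Subgroup G))) ?_
      rw [(P : Subgroup G).index_mul_card, hcard, hPcard, mul_comm]
    have hmemP : ∀ g : G, orderOf g = p → g ∈ (P : Subgroup G) := fun g hg => by
      obtain ⟨R, hR⟩ := (IsPGroup.of_card (p := p) (G := Subgroup.zpowers g) (n := 1)
        (by rw [Nat.card_zpowers, hg, pow_one])).exists_le_sylow
      have := Sylow.unique_of_normal P hPn
      exact (Subsingleton.elim R P) ▸ hR (Subgroup.mem_zpowers g)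
    have hPord : ∀ u ∈ (P : Subgroup G), u ≠ 1 → orderOf u = p := fun u hu h1 =>
      (hp.eq_one_or_self_of_dvd _ (orderOf_dvd_of_pow_eq_one (hPexp u hu))).resolve_left
        fun h => h1 (orderOf_eq_one_iff.1 h)
    obtain ⟨x, hx⟩ := exists_prime_orderOf_dvd_card' q hdq
    have hxP : x ∉ (P : Subgroup G) := fun h => by
      have h' := hPord x h (fun h' => hq.ne_one (by rw [← hx, h', orderOf_one]))
      exact hpq (h'.symm.trans hx)
    have hdec : ∀ g : G, ∃ (u : (P : Subgroup G)) (i : ℕ), g = u * x ^ i := by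
      intro g
      have : Fact (Nat.card (G ⧸ (P : Subgroup G))).Prime := ⟨by rw [← Subgroup.index_eq_card, hidx]; exact hq⟩
      obtain ⟨i, hi⟩ := mem_powers_iff_mem_zpowers.2 (mem_zpowers_of_prime_card (p := q)
        (g := (x : G ⧸ (P : Subgroup G))) (g' := (g : G ⧸ (P : Subgroup G))) (by rw [← Subgroup.index_eq_card, hidx])
        (fun h => hxP ((QuotientGroup.eq_one_iff x).1 h)))
      change (x : G ⧸ (P : Subgroup G)) ^ i = _ at hi
      refine ⟨⟨g * (x ^ i)⁻¹, ?_⟩, i, by simp⟩
      rw [← QuotientGroup.eq_one_iff, QuotientGroup.mk_mul, QuotientGroup.mk_inv, QuotientGroup.mk_pow, hi,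
        mul_inv_cancel]
    have hfx : ∀ a : G, orderOf a = q → ∀ u ∈ (P : Subgroup G), a * u * a⁻¹ = u → u = 1 :=
      fun a ha u hu hau => by_contra fun h1 => hfpf a u ha (hPord u hu h1) hau
    have hord : ∀ g : G, g ≠ 1 → orderOf g = p ∨ orderOf g = q := by
      intro g hg
      by_cases hgP : g ∈ (P : Subgroup G)
      · exact Or.inl (hPord g hgP hg)
      obtain ⟨a, b, hab, ha, hb, ⟨e, hea⟩, hbp⟩ := CfsgLib.FGSBSmall.exists_prime_split hp g
      have hbd : orderOf b ∣ q := (hbp.pow_right n).dvd_of_dvd_mul_left (hcard ▸ orderOf_dvd_natCard b)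
      obtain ⟨R, hR⟩ := (IsPGroup.of_card (p := p) (G := Subgroup.zpowers a) (n := e)
        (by rw [Nat.card_zpowers, hea])).exists_le_sylow
      have := Sylow.unique_of_normal P hPn
      have haP : a ∈ (P : Subgroup G) := (Subsingleton.elim R P) ▸ hR (Subgroup.mem_zpowers a)
      rcases hq.eq_one_or_self_of_dvd _ hbd with h | h
      · rw [← hab, orderOf_eq_one_iff.1 h, mul_one] at hgP
        exact absurd haP hgP
      · have hc : b * a * b⁻¹ = a := by
          obtain ⟨i, rfl⟩ := ha
          obtain ⟨j, rfl⟩ := hb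
          simp only [← zpow_neg, ← zpow_add]
          rw [add_comm j i, add_neg_cancel_right]
        rw [← hab, hfx b h a haP hc, one_mul]
        exact Or.inr h
    have hkey : ∀ k : ℕ, ¬ q ∣ k → ∃ j, p ^ j ≡ k [MOD q] := by
      intro k hk
      have hp0 : (p : ZMod q) ≠ 0 := fun h =>
        hpq ((Nat.prime_dvd_prime_iff_eq hq hp).1 ((ZMod.natCast_eq_zero_iff _ _).1 h)).symm
      have himg : (Finset.range (q - 1)).image (fun i => (p : ZMod q) ^ i) = Finset.univ.erase 0 := by
        refine Finset.eq_of_subset_of_card_le (fun z hz => ?_) ?_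
        · obtain ⟨i, -, rfl⟩ := Finset.mem_image.1 hz
          exact Finset.mem_erase.2 ⟨pow_ne_zero _ hp0, Finset.mem_univ _⟩
        · rw [Finset.card_image_of_injOn, Finset.card_range, Finset.card_erase_of_mem (Finset.mem_univ _),
            Finset.card_univ, ZMod.card]
          intro i hi i' hi' h
          exact pow_injOn_Iio_orderOf (by rw [hprim]; exact Finset.mem_range.1 hi)
            (by rw [hprim]; exact Finset.mem_range.1 hi') h
      have hk' : (k : ZMod q) ∈ (Finset.range (q - 1)).image (fun i => (p : ZMod q) ^ i) := by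
        rw [himg]; exact Finset.mem_erase.2 ⟨fun h => hk ((ZMod.natCast_eq_zero_iff _ _).1 h), Finset.mem_univ _⟩
      obtain ⟨i, -, hi⟩ := Finset.mem_image.1 hk'
      exact ⟨i, (ZMod.natCast_eq_natCast_iff _ _ _).1 (by rw [Nat.cast_pow]; exact hi)⟩
    refine (card_orbits_eq_three_iff hp hq hpq hdp hdq).2 ⟨hord, fun g h hgh => ?_⟩
    by_cases hg1 : g = 1
    · subst hg1
      rw [orderOf_one] at hgh
      exact ⟨1, (orderOf_eq_one_iff.1 hgh.symm).symm⟩
    have hh1 : h ≠ 1 := fun e => hg1 (orderOf_eq_one_iff.1 (by rw [hgh, e, orderOf_one]))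
    rcases hord g hg1 with hgp | hgq
    · have hg' := hmemP g hgp
      have hh' := hmemP h (hgh.symm.trans hgp)
      obtain ⟨α, hα, -⟩ := exists_auts (P := (P : Subgroup G)) hprim hPc hPexp hx hxP hdec (hfx x hx) 0
        (v := ⟨g, hg'⟩) (w := ⟨h, hh'⟩) (fun e => hg1 (congrArg Subtype.val e))
        (fun e => hh1 (congrArg Subtype.val e))
      exact ⟨α, hα⟩
    · have hto : ∀ a : G, orderOf a = q → ∃ α : MulAut G, α x = a := by
        intro a ha
        obtain ⟨R₁, hR₁⟩ := (IsPGroup.of_card (p := q) (G := Subgroup.zpowers a) (n := 1)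
          (by rw [Nat.card_zpowers, ha, pow_one])).exists_le_sylow
        obtain ⟨R₂, hR₂⟩ := (IsPGroup.of_card (p := q) (G := Subgroup.zpowers x) (n := 1)
          (by rw [Nat.card_zpowers, hx, pow_one])).exists_le_sylow
        have hR₂x : (R₂ : Subgroup G) = Subgroup.zpowers x :=
          (Subgroup.eq_of_le_of_card_ge hR₂ (by rw [hQcard, Nat.card_zpowers, hx])).symm
        obtain ⟨c, hc⟩ := MulAction.exists_smul_eq G R₁ R₂
        have hmem : c * a * c⁻¹ ∈ Subgroup.zpowers x := by
          rw [← hR₂x, ← hc]; exact ⟨a, hR₁ (Subgroup.mem_zpowers _), rfl⟩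
        obtain ⟨k, hk⟩ := mem_powers_iff_mem_zpowers.2 hmem
        change x ^ k = _ at hk
        have hqk : ¬ q ∣ k := fun hd => by
          obtain ⟨e, rfl⟩ := hd
          rw [pow_mul, ← hx, pow_orderOf_eq_one, one_pow, eq_comm, conj_eq_one_iff] at hk
          exact hq.ne_one (by rw [← ha, hk, orderOf_one])
        obtain ⟨j, hj⟩ := hkey k hqk
        obtain ⟨u₀, hu₀, hu₀1⟩ : ∃ u ∈ (P : Subgroup G), u ≠ 1 := by
          obtain ⟨u, hu⟩ := exists_prime_orderOf_dvd_card' p hdp
          exact ⟨u, hmemP u hu, fun e => hp.ne_one (by rw [← hu, e, orderOf_one])⟩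
        obtain ⟨α, -, hα⟩ := exists_auts (P := (P : Subgroup G)) hprim hPc hPexp hx hxP hdec (hfx x hx) j
          (v := ⟨u₀, hu₀⟩) (w := ⟨u₀, hu₀⟩) (fun e => hu₀1 (congrArg Subtype.val e))
          (fun e => hu₀1 (congrArg Subtype.val e))
        refine ⟨MulAut.conj c⁻¹ * α, ?_⟩
        rw [MulAut.mul_apply, hα, show x ^ p ^ j = x ^ k from pow_eq_pow_iff_modEq.2 (by rw [hx]; exact hj), hk,
          MulAut.conj_apply]
        group
      obtain ⟨α, hα⟩ := hto g hgq
      obtain ⟨β, hβ⟩ := hto h (hgh.symm.trans hgq)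
      exact ⟨β * α⁻¹, by rw [MulAut.mul_apply, ← hα, MulAut.inv_apply_self, hβ]⟩

end Cfsg.Agent.S4081
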