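import Cfsg.Statements.S4082
import Cfsg.Agent.FGSB.PByCyclic

set_option autoImplicit false
open Cfsg

namespace Cfsg.Agent.S4082

/-- In a dihedral group of order `2 p ^ n` an element not commuting with an element of odd order is an
involution inverting it. -/
theorem dihedral_not_commute {p : ℕ} [hp : Fact p.Prime] (hp2 : p ≠ 2) {H : Type*} [Group H] {n : ℕ}
    (e : H ≃* DihedralGroup (p ^ n)) {a b : H} {m : ℕ} (ha : orderOf a = p ^ m) (hab : ¬ Commute b a) :
    orderOf b = 2 ∧ b * a * b⁻¹ = a⁻¹ := by
  haveI : NeZero (p ^ n) := ⟨pow_ne_zero _ hp.out.ne_zero⟩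
  rcases ha' : e a with i | i
  · rcases hb' : e b with j | j
    · refine absurd (e.injective ?_) hab
      rw [map_mul, map_mul, ha', hb', DihedralGroup.r_mul_r, DihedralGroup.r_mul_r, add_comm]
    · refine ⟨by rw [← e.orderOf_eq, hb', DihedralGroup.orderOf_sr], e.injective ?_⟩
      rw [map_mul, map_mul, map_inv, map_inv, ha', hb', mul_inv_eq_iff_eq_mul, DihedralGroup.sr_mul_r,
        DihedralGroup.inv_r, DihedralGroup.r_mul_sr, sub_neg_eq_add]
  · exfalso
    have h2 : orderOf a = 2 := by rw [← e.orderOf_eq, ha', DihedralGroup.orderOf_sr]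
    have h := ha.symm.trans h2
    rcases m with _ | m
    · simp at h
    · exact hp2 ((Nat.prime_dvd_prime_iff_eq hp.out Nat.prime_two).1 (h ▸ dvd_pow_self p (Nat.succ_ne_zero m)))

/-- Let p be an odd prime and G a finite group with Sylow p-subgroup P. Say that G has restricted p-by-cyclic subgroups when every subgroup H of G whose Sylow p-subgroup is normal in H with cyclic quotient is itself cyclic or dihedral of order 2pⁿ for some n. Then G has restricted p-by-cyclic subgroups if and only if P is cyclic and one of the following holds: (1) N_G(P) = C_G(P); or (2) N_G(P)/C_G(P) has order 2 and, for the subgroup Q of order p of P, the centralizer C_G(Q) is abelian and every element of N_G(Q) outside C_G(Q) is an involution inverting every element of C_G(Q). -/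
theorem result {G : Type*} [Group G] [Finite G] {p : ℕ}
    [Fact p.Prime] (hp : p ≠ 2) (P : Sylow p G) :
    (∀ H : Subgroup G, (∀ S : Sylow p ↥H, (S : Subgroup ↥H).Normal) →
        (∀ (S : Sylow p ↥H) [(S : Subgroup ↥H).Normal], IsCyclic (↥H ⧸ (S : Subgroup ↥H))) →
        IsCyclic H ∨ (∃ n : ℕ, Nonempty (H ≃* DihedralGroup (p ^ n)))) ↔
    (IsCyclic P ∧
      (Subgroup.normalizer ((P : Subgroup G) : Set G) = Subgroup.centralizer ((P : Subgroup G) : Set G) ∨
       ((Subgroup.centralizer ((P : Subgroup G) : Set G)).relIndex (Subgroup.normalizer ((P : Subgroup G) : Set G)) = 2 ∧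
        ∀ Q : Subgroup G, Q ≤ P → Nat.card Q = p →
          IsMulCommutative ↥(Subgroup.centralizer (Q : Set G)) ∧
          ∀ x : G, x ∈ Subgroup.normalizer (Q : Set G) → x ∉ Subgroup.centralizer (Q : Set G) →
            orderOf x = 2 ∧ ∀ c : G, c ∈ Subgroup.centralizer (Q : Set G) → x * c * x⁻¹ = c⁻¹))) := by
  classical
  have hp' := (Fact.out : p.Prime)
  constructor
  · intro hyp
    -- the subgroups `A⟨y⟩`
    have hkey : ∀ (A : Subgroup G), IsPGroup p A → ∀ y ∈ Subgroup.normalizer (A : Set G),
        ∀ a ∈ A, ¬ Commute y a → orderOf y = 2 ∧ y * a * y⁻¹ = a⁻¹ := by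
      intro A hA y hy a ha hya
      obtain ⟨h1, h2⟩ := CfsgLib.PByCyclic.qualifies A hA y hy
      obtain ⟨m, hm⟩ : ∃ m, orderOf a = p ^ m := by
        obtain ⟨k, hk⟩ := hA ⟨a, ha⟩
        obtain ⟨j, -, hj⟩ := (Nat.dvd_prime_pow hp').1
          (orderOf_dvd_of_pow_eq_one (congrArg Subtype.val hk : a ^ p ^ k = 1))
        exact ⟨j, hj⟩
      let aH : ↥(A ⊔ Subgroup.zpowers y) := ⟨a, Subgroup.mem_sup_left ha⟩
      let yH : ↥(A ⊔ Subgroup.zpowers y) := ⟨y, Subgroup.mem_sup_right (Subgroup.mem_zpowers y)⟩
      have hnc : ¬ Commute yH aH := fun hc => hya (congrArg Subtype.val hc)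
      rcases hyp _ h1 h2 with hc | ⟨n, ⟨e⟩⟩
      · haveI := hc
        letI : CommGroup ↥(A ⊔ Subgroup.zpowers y) := IsCyclic.commGroup
        exact absurd (mul_comm yH aH) hnc
      · obtain ⟨e1, e2⟩ := dihedral_not_commute hp e (a := aH) (b := yH) (m := m)
          (by rw [← Subgroup.orderOf_coe]; exact hm) hnc
        rw [← Subgroup.orderOf_coe] at e1
        exact ⟨e1, congrArg Subtype.val e2⟩
    have hPc : IsCyclic (P : Subgroup G) := by
      obtain ⟨h1, h2⟩ := CfsgLib.PByCyclic.qualifies (P : Subgroup G) P.2 1 (one_mem _)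
      have heq : (P : Subgroup G) ⊔ Subgroup.zpowers 1 = P := by simp
      rcases hyp _ h1 h2 with hc | ⟨n, ⟨e⟩⟩
      · rwa [heq] at hc
      · exfalso
        have hcard := Nat.card_congr ((MulEquiv.subgroupCongr heq).symm.trans e).toEquiv
        obtain ⟨k, hk⟩ := IsPGroup.iff_card.1 P.2
        rw [hk, DihedralGroup.nat_card] at hcard
        exact hp ((Nat.prime_dvd_prime_iff_eq Nat.prime_two hp').1
          (Nat.prime_two.dvd_of_dvd_pow ⟨p ^ n, hcard⟩)).symm
    refine ⟨hPc, ?_⟩
    by_cases hNC : Subgroup.normalizer ((P : Subgroup G) : Set G) = Subgroup.centralizer ((P : Subgroup G) : Set G)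
    · exact Or.inl hNC
    obtain ⟨g, hg⟩ := hPc.exists_generator
    have hcent : ∀ x : G, Commute x g → x ∈ Subgroup.centralizer ((P : Subgroup G) : Set G) := by
      intro x hx
      refine Subgroup.mem_centralizer_iff.2 fun s hs => ?_
      obtain ⟨i, hi⟩ := Subgroup.mem_zpowers_iff.1 (hg ⟨s, hs⟩)
      rw [← show (g : G) ^ i = s from congrArg Subtype.val hi]
      exact (hx.symm.zpow_left i).eq
    obtain ⟨x, hxN, hxC⟩ : ∃ x ∈ Subgroup.normalizer ((P : Subgroup G) : Set G),
        x ∉ Subgroup.centralizer ((P : Subgroup G) : Set G) := by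
      by_contra hcon
      push Not at hcon
      exact hNC (le_antisymm hcon (Subgroup.centralizer_le_normalizer _))
    have hxinv := (hkey _ P.2 x hxN g g.2 fun h => hxC (hcent x h)).2
    refine Or.inr ⟨?_, fun Q hQP hQcard => ?_⟩
    · refine Subgroup.index_eq_two_iff.2 ⟨⟨x, hxN⟩, fun b => ?_⟩
      simp only [Subgroup.mem_subgroupOf, Subgroup.coe_mul]
      by_cases hb : (b : G) ∈ Subgroup.centralizer ((P : Subgroup G) : Set G)
      · exact Or.inr ⟨hb, fun h => hxC ((Subgroup.mul_mem_cancel_left _ hb).1 h)⟩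
      · refine Or.inl ⟨hcent _ ?_, hb⟩
        have h1 := (hkey _ P.2 b b.2 g g.2 fun h => hb (hcent _ h)).2
        show (b : G) * x * g = g * (b * x)
        rw [← mul_inv_eq_iff_eq_mul]
        calc (b : G) * x * g * ((b : G) * x)⁻¹ = b * (x * g * x⁻¹) * (b : G)⁻¹ := by group
          _ = g := by rw [hxinv, ← conj_inv, h1, inv_inv]
    · have hQp : IsPGroup p Q := IsPGroup.of_card (n := 1) (by rw [hQcard, pow_one])
      haveI : IsCyclic Q := isCyclic_of_prime_card hQcard
      obtain ⟨u, hu⟩ := IsCyclic.exists_ofOrder_eq_natCard (α := Q)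
      rw [← Subgroup.orderOf_coe, hQcard] at hu
      have hQu : Q = Subgroup.zpowers (u : G) :=
        (Subgroup.eq_of_le_of_card_ge (Subgroup.zpowers_le.2 u.2) (by rw [hQcard, Nat.card_zpowers, hu])).symm
      have hcQ : ∀ z : G, Commute z u → z ∈ Subgroup.centralizer (Q : Set G) := by
        intro z hz
        refine Subgroup.mem_centralizer_iff.2 fun s hs => ?_
        obtain ⟨i, rfl⟩ := Subgroup.mem_zpowers_iff.1 (hQu ▸ hs : s ∈ Subgroup.zpowers (u : G))
        exact (hz.symm.zpow_left i).eq
      have hxu : x * (u : G) * x⁻¹ = (u : G)⁻¹ := by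
        obtain ⟨i, hi⟩ := Subgroup.mem_zpowers_iff.1 (hg ⟨u, hQP u.2⟩)
        rw [← show (g : G) ^ i = u from congrArg Subtype.val hi, ← conj_zpow, hxinv, inv_zpow]
      have hxQ : x ∈ Subgroup.normalizer (Q : Set G) := by
        refine Subgroup.mem_normalizer_fintype fun s hs => ?_
        obtain ⟨i, rfl⟩ := Subgroup.mem_zpowers_iff.1 (hQu ▸ hs : s ∈ Subgroup.zpowers (u : G))
        rw [← conj_zpow, hxu]
        exact zpow_mem (inv_mem u.2) i
      have hne : x ∉ Subgroup.centralizer (Q : Set G) := by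
        intro h
        have e : x * (u : G) * x⁻¹ = u := by
          rw [← Subgroup.mem_centralizer_iff.1 h u u.2, mul_inv_cancel_right]
        rw [hxu, inv_eq_iff_mul_eq_one, ← pow_two] at e
        have := orderOf_dvd_of_pow_eq_one e
        rw [hu] at this
        exact hp ((Nat.prime_dvd_prime_iff_eq hp' Nat.prime_two).1 this)
      have hout : ∀ z ∈ Subgroup.normalizer (Q : Set G), z ∉ Subgroup.centralizer (Q : Set G) → orderOf z = 2 :=
        fun z hz hzC => (hkey Q hQp z hz u u.2 fun h => hzC (hcQ z h)).1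
      have hinv : ∀ z ∈ Subgroup.normalizer (Q : Set G), z ∉ Subgroup.centralizer (Q : Set G) →
          ∀ c ∈ Subgroup.centralizer (Q : Set G), z * c * z⁻¹ = c⁻¹ := by
        intro z hz hzC c hc
        have h1 : (z * c) ^ 2 = 1 := by
          rw [← hout (z * c) (mul_mem hz (Subgroup.centralizer_le_normalizer _ hc))
            (fun h => hzC ((Subgroup.mul_mem_cancel_right _ hc).1 h))]
          exact pow_orderOf_eq_one _
        have h2 : z⁻¹ = z := inv_eq_of_mul_eq_one_right (by
          rw [← pow_two, ← hout z hz hzC]; exact pow_orderOf_eq_one z)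
        rw [h2]
        exact eq_inv_of_mul_eq_one_left (by rw [← h1, pow_two]; group)
      refine ⟨⟨⟨fun a b => Subtype.ext ?_⟩⟩, fun z hz hzC => ⟨hout z hz hzC, hinv z hz hzC⟩⟩
      have e := hinv x hxQ hne _ (mul_mem a.2 b.2)
      rw [← conj_mul, hinv x hxQ hne _ a.2, hinv x hxQ hne _ b.2, ← mul_inv_rev, inv_inj] at e
      exact e.symm
  · rintro ⟨hPc, hcase⟩ H hn hq
    obtain ⟨S⟩ : Nonempty (Sylow p H) := inferInstance
    haveI := hn S
    have hqS := hq S
    have hScyc : IsCyclic (S : Subgroup H) := by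
      obtain ⟨S', hS'⟩ := (S.2.map H.subtype).exists_le_sylow
      haveI : IsCyclic (S' : Subgroup G) := isCyclic_of_surjective (P.equiv S').toMonoidHom (P.equiv S').surjective
      exact isCyclic_of_injective ((Subgroup.inclusion hS').comp
        ((S : Subgroup H).equivMapOfInjective H.subtype H.subtype_injective).toMonoidHom)
        ((Subgroup.inclusion_injective hS').comp (MulEquiv.injective _))
    -- any element of order `p` is conjugate into `P`
    have hconj : ∀ u : G, orderOf u = p → ∃ c : G, c * u * c⁻¹ ∈ (P : Subgroup G) := by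
      intro u hu
      obtain ⟨S', hS'⟩ := (IsPGroup.of_card (p := p) (n := 1) (by rw [Nat.card_zpowers, hu, pow_one]) :
        IsPGroup p (Subgroup.zpowers u)).exists_le_sylow
      obtain ⟨c, hc⟩ := MulAction.exists_smul_eq G S' P
      refine ⟨c, ?_⟩
      rw [← hc, Sylow.coe_subgroup_smul]
      exact Subgroup.smul_mem_pointwise_smul u (MulAut.conj c) _ (hS' (Subgroup.mem_zpowers u))
    rcases hcase with hNC | ⟨-, hQ⟩
    · left
      refine CfsgLib.PByCyclic.isCyclic_of_fix S hScyc hqS fun u hu hup y => ?_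
      rw [← Subgroup.orderOf_coe] at hup
      obtain ⟨c, hc⟩ := hconj u hup
      have hnorm : y * u * y⁻¹ ∈ Subgroup.zpowers u := CfsgLib.PByCyclic.mem_zpowers_of_cyclic (p := p) hScyc hu
        ((hn S).conj_mem u hu y) (by rw [← Subgroup.orderOf_coe]; exact hup)
        (by rw [conj_pow, show u ^ p = 1 from Subtype.ext (by
            rw [Subgroup.coe_pow]; exact orderOf_dvd_iff_pow_eq_one.1 (dvd_of_eq hup)),
          mul_one, mul_inv_cancel])
      obtain ⟨i, hi⟩ := Subgroup.mem_zpowers_iff.1 hnorm
      -- work inside `G`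
      set v := c * (u : G) * c⁻¹
      set w := c * (y : G) * c⁻¹
      have hw : w * v * w⁻¹ = v ^ i := by
        show w * v * w⁻¹ = (c * (u : G) * c⁻¹) ^ i
        rw [conj_zpow, show (u : G) ^ i = (y : G) * u * (y : G)⁻¹ from congrArg Subtype.val hi]
        simp only [w, v]
        group
      have hcompl := MonoidHom.ker_transferSylow_isComplement' P hNC.le
      set K := (MonoidHom.transferSylow P hNC.le).ker
      obtain ⟨⟨k, a⟩, hka : (k : G) * a = w⟩ := hcompl.2 w
      have hab : ∀ s ∈ (P : Subgroup G), Commute s v := by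
        haveI := hPc
        letI : CommGroup (P : Subgroup G) := IsCyclic.commGroup
        exact fun s hs => congrArg Subtype.val (mul_comm (⟨s, hs⟩ : (P : Subgroup G)) ⟨v, hc⟩)
      have hkv : (k : G) * v * (k : G)⁻¹ = v ^ i := by
        rw [← hw, ← hka, mul_inv_rev]
        calc (k : G) * v * (k : G)⁻¹ = k * (v * (a * (a : G)⁻¹)) * (k : G)⁻¹ := by rw [mul_inv_cancel, mul_one]
          _ = k * ((v * a) * (a : G)⁻¹) * (k : G)⁻¹ := by group
          _ = _ := by rw [← (hab a a.2).eq]; group
      have h1 : (k : G) * v * (k : G)⁻¹ * v⁻¹ = 1 := by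
        have hK : (k : G) * v * (k : G)⁻¹ * v⁻¹ ∈ K := by
          rw [mul_assoc (k : G), mul_assoc (k : G)]
          exact mul_mem k.2 ((MonoidHom.normal_ker _).conj_mem _ (inv_mem k.2) v)
        have hP : (k : G) * v * (k : G)⁻¹ * v⁻¹ ∈ (P : Subgroup G) := by
          rw [hkv]; exact mul_mem (zpow_mem hc i) (inv_mem hc)
        exact Subgroup.mem_bot.1 (hcompl.disjoint.le_bot (Subgroup.mem_inf.2 ⟨hK, hP⟩))
      rw [hkv, mul_inv_eq_one] at h1
      rw [h1, mul_inv_eq_iff_eq_mul] at hw
      have hwv : Commute w v := hw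
      refine Subtype.ext ?_
      show (y : G) * u = u * y
      have h3 := hwv.eq
      simp only [w, v] at h3
      exact mul_left_cancel (a := c) (mul_right_cancel (b := c⁻¹) (by simpa [mul_assoc] using h3))
    · by_cases hbot : (S : Subgroup H) = ⊥
      · left
        refine CfsgLib.PByCyclic.isCyclic_of_fix S hScyc hqS fun u hu hup y => ?_
        rw [hbot, Subgroup.mem_bot] at hu
        rw [hu]; exact Commute.one_right y
      haveI : Nontrivial (S : Subgroup H) := (Subgroup.nontrivial_iff_ne_bot _).2 hbot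
      obtain ⟨u, hup⟩ := exists_prime_orderOf_dvd_card' (G := (S : Subgroup H)) p (by
        obtain ⟨m, hm, hc⟩ := (IsPGroup.nontrivial_iff_card S.2).1 inferInstance
        exact hc ▸ dvd_pow_self p (Nat.pos_iff_ne_zero.1 hm))
      rw [← Subgroup.orderOf_coe, ← Subgroup.orderOf_coe] at hup
      obtain ⟨c, hc⟩ := hconj _ hup
      set v := c * ((u : H) : G) * c⁻¹
      have hvp : orderOf v = p := by
        rw [show v = MulAut.conj c ((u : H) : G) from rfl, MulEquiv.orderOf_eq, hup]
      obtain ⟨hab, hout⟩ := hQ (Subgroup.zpowers v) (Subgroup.zpowers_le.2 hc) (by rw [Nat.card_zpowers, hvp])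
      have hupH : orderOf (u : H) = p := by rw [← Subgroup.orderOf_coe]; exact hup
      have huall : ∀ w ∈ (S : Subgroup H), w ^ p = 1 → w ∈ Subgroup.zpowers (u : H) := fun w hw hwp =>
        CfsgLib.PByCyclic.mem_zpowers_of_cyclic hScyc u.2 hw hupH hwp
      let φ : H →* G := (MulAut.conj c).toMonoidHom.comp H.subtype
      have hφi : Function.Injective φ := (MulAut.conj c).injective.comp H.subtype_injective
      have hφu : φ u = v := rfl
      let C : Subgroup H := Subgroup.centralizer ({(u : H)} : Set H)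
      have hCmem : ∀ y : H, y ∈ C ↔ φ y ∈ Subgroup.centralizer (Subgroup.zpowers v : Set G) := by
        intro y
        rw [Subgroup.mem_centralizer_singleton_iff, Subgroup.mem_centralizer_iff]
        constructor
        · intro h s hs
          obtain ⟨j, rfl⟩ := Subgroup.mem_zpowers_iff.1 hs
          have h' : Commute v (φ y) := by
            show v * φ y = φ y * v
            rw [← hφu, ← map_mul, ← map_mul, h]
          exact (h'.zpow_left j).eq
        · intro h
          refine hφi ?_
          rw [map_mul, map_mul, hφu]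
          exact (h v (Subgroup.mem_zpowers v)).symm
      by_cases htop : C = ⊤
      · left
        refine CfsgLib.PByCyclic.isCyclic_of_fix S hScyc hqS fun w hw hwp y => ?_
        obtain ⟨i, rfl⟩ := Subgroup.mem_zpowers_iff.1 (huall w hw (by rw [← hwp]; exact pow_orderOf_eq_one w))
        have : y ∈ C := htop ▸ Subgroup.mem_top y
        exact (show Commute y u from Subgroup.mem_centralizer_singleton_iff.1 this).zpow_right i
      obtain ⟨x, -, hx⟩ := SetLike.exists_of_lt (lt_top_iff_ne_top.2 htop)
      right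
      refine CfsgLib.PByCyclic.dihedral_of_invert S hp hScyc hqS C ?_ hx fun z hz => ?_
      · intro s hs
        haveI := hScyc
        letI : CommGroup (S : Subgroup H) := IsCyclic.commGroup
        exact Subgroup.mem_centralizer_singleton_iff.2 (congrArg Subtype.val (mul_comm (⟨s, hs⟩ : (S : Subgroup H)) u))
      · have hzN : φ z ∈ Subgroup.normalizer (Subgroup.zpowers v : Set G) := by
          refine Subgroup.mem_normalizer_fintype fun s hs => ?_
          obtain ⟨j, rfl⟩ := Subgroup.mem_zpowers_iff.1 hs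
          obtain ⟨i, hi⟩ := Subgroup.mem_zpowers_iff.1 (huall _ ((hn S).conj_mem _ u.2 z) (by
            rw [conj_pow, show (u : H) ^ p = 1 from orderOf_dvd_iff_pow_eq_one.1 (dvd_of_eq hupH), mul_one, mul_inv_cancel]))
          rw [← conj_zpow, ← hφu, ← map_inv, ← map_mul, ← map_mul, ← hi, map_zpow, hφu]
          exact zpow_mem (zpow_mem (Subgroup.mem_zpowers v) i) j
        obtain ⟨h2, hi⟩ := hout (φ z) hzN fun h => hz ((hCmem z).2 h)
        refine ⟨by rw [← orderOf_injective φ hφi z]; exact h2, fun y hy => hφi ?_⟩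
        rw [map_mul, map_mul, map_inv, map_inv]
        exact hi _ ((hCmem y).1 hy)

end Cfsg.Agent.S4082
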