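import Cfsg.Statements.S4083
import Cfsg.Agent.FGSB.TwoByCyclic

set_option autoImplicit false
open Cfsg

namespace Cfsg.Agent.S4083

theorem two_le_of_dihedral_comm {m : ℕ} (h : ∀ a b : DihedralGroup m, a * b = b * a) : m ∣ 2 := by
  have h1 := h (DihedralGroup.r 1) (DihedralGroup.sr 0)
  rw [DihedralGroup.r_mul_sr, DihedralGroup.sr_mul_r, DihedralGroup.sr.injEq] at h1
  rw [← ZMod.natCast_eq_zero_iff]
  have h2 : (-1 : ZMod m) = 1 := by simpa using h1
  show ((2 : ℕ) : ZMod m) = 0
  rw [show ((2 : ℕ) : ZMod m) = 1 + 1 by norm_num]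
  nth_rewrite 1 [← h2]
  exact neg_add_cancel 1

theorem alt_four_not_comm : ¬ ∀ a b : alternatingGroup (Fin 4), a * b = b * a := by decide +kernel

theorem card_alt_four : Nat.card (alternatingGroup (Fin 4)) = 12 := by
  rw [Nat.card_eq_fintype_card]
  decide +kernel

/-- Let G be a finite group with Sylow 2-subgroup P. Every subgroup H of G whose Sylow 2-subgroup is normal in H with cyclic quotient is cyclic, dihedral of 2-power order, or isomorphic to the alternating group of degree 4, if and only if either P is cyclic, or P is dihedral (of order at least 4) and every elementary abelian subgroup K of order 4 of P satisfies C_G(K) = K. -/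
theorem result {G : Type*} [Group G] [Finite G] (P : Sylow 2 G) :
    (∀ H : Subgroup G, (∀ S : Sylow 2 ↥H, (S : Subgroup ↥H).Normal) →
        (∀ (S : Sylow 2 ↥H) [(S : Subgroup ↥H).Normal], IsCyclic (↥H ⧸ (S : Subgroup ↥H))) →
        IsCyclic H ∨ (∃ n : ℕ, Nonempty (H ≃* DihedralGroup (2 ^ n))) ∨ Nonempty (H ≃* alternatingGroup (Fin 4))) ↔
    (IsCyclic P ∨
      ((∃ n : ℕ, 1 ≤ n ∧ Nonempty ((P : Subgroup G) ≃* DihedralGroup (2 ^ n))) ∧
        ∀ K : Subgroup G, K ≤ P → Nat.card K = 4 → (∀ k ∈ K, k ^ 2 = 1) → Subgroup.centralizer (K : Set G) = K)) := by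
  classical
  haveI : Fact (Nat.Prime 2) := ⟨Nat.prime_two⟩
  constructor
  · intro hyp
    by_cases hPc : IsCyclic P
    · exact Or.inl hPc
    right
    constructor
    · obtain ⟨h1, h2⟩ := CfsgLib.PByCyclic.qualifies (P : Subgroup G) P.2 1 (one_mem _)
      have heq : (P : Subgroup G) ⊔ Subgroup.zpowers 1 = P := by simp
      rcases hyp _ h1 h2 with hc | ⟨n, ⟨e⟩⟩ | ⟨⟨e⟩⟩
      · rw [heq] at hc; exact absurd hc hPc
      · refine ⟨n, Nat.pos_of_ne_zero fun hn => hPc ?_, ⟨(MulEquiv.subgroupCongr heq).symm.trans e⟩⟩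
        have hcard := Nat.card_congr ((MulEquiv.subgroupCongr heq).symm.trans e).toEquiv
        rw [DihedralGroup.nat_card, hn, pow_zero, mul_one] at hcard
        exact isCyclic_of_prime_card hcard
      · exfalso
        have hcard := Nat.card_congr ((MulEquiv.subgroupCongr heq).symm.trans e).toEquiv
        obtain ⟨k, hk⟩ := IsPGroup.iff_card.1 P.2
        rw [card_alt_four, hk] at hcard
        have h3 : (3 : ℕ) ∣ 2 ^ k := ⟨4, by rw [hcard]⟩
        exact absurd ((Nat.prime_dvd_prime_iff_eq Nat.prime_three Nat.prime_two).1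
          (Nat.prime_three.dvd_of_dvd_pow h3)) (by norm_num)
    · intro K hKP hK4 hK2
      have hKc : ∀ a ∈ K, ∀ b ∈ K, a * b = b * a := by
        intro a ha b hb
        have hi : ∀ t ∈ K, t⁻¹ = t := fun t ht => inv_eq_of_mul_eq_one_right (by rw [← pow_two]; exact hK2 t ht)
        have h1 := hi _ (mul_mem ha hb)
        rw [mul_inv_rev, hi a ha, hi b hb] at h1
        exact h1.symm
      refine le_antisymm (fun y hy => ?_) fun a ha => Subgroup.mem_centralizer_iff.2 fun b hb => hKc b hb a ha
      have hyN : y ∈ Subgroup.normalizer (K : Set G) := Subgroup.centralizer_le_normalizer _ hy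
      have hK : IsPGroup 2 K := IsPGroup.of_card (n := 2) hK4
      obtain ⟨h1, h2⟩ := CfsgLib.PByCyclic.qualifies K hK y hyN
      set H := K ⊔ Subgroup.zpowers y
      have hcomm : ∀ a b : H, a * b = b * a := by
        have hle : H ≤ Subgroup.centralizer (H : Set G) := by
          have hKC : K ≤ Subgroup.centralizer (H : Set G) := by
            rw [Subgroup.le_centralizer_iff]
            exact sup_le (fun a ha => Subgroup.mem_centralizer_iff.2 fun b hb => hKc b hb a ha) (Subgroup.zpowers_le.2 hy)
          refine sup_le hKC (Subgroup.zpowers_le.2 ?_)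
          have hle2 : H ≤ Subgroup.centralizer ({y} : Set G) :=
            sup_le (fun a ha => Subgroup.mem_centralizer_singleton_iff.2 (Subgroup.mem_centralizer_iff.1 hy a ha))
              (Subgroup.zpowers_le.2 (Subgroup.mem_centralizer_singleton_iff.2 rfl))
          exact Subgroup.mem_centralizer_iff.2 fun b hb => Subgroup.mem_centralizer_singleton_iff.1 (hle2 hb)
        exact fun a b => Subtype.ext (Subgroup.mem_centralizer_iff.1 (hle b.2) a a.2)
      have hKH : K ≤ H := le_sup_left
      rcases hyp H h1 h2 with hc | ⟨n, ⟨e⟩⟩ | ⟨⟨e⟩⟩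
      · exfalso
        haveI : IsCyclic K := isCyclic_of_injective (Subgroup.inclusion hKH) (Subgroup.inclusion_injective hKH)
        obtain ⟨u, hu⟩ := IsCyclic.exists_ofOrder_eq_natCard (α := K)
        have h4 : orderOf u ∣ 2 := orderOf_dvd_of_pow_eq_one (Subtype.ext (hK2 u u.2))
        rw [hu, hK4] at h4
        norm_num at h4
      · have hn : 2 ^ n ∣ 2 := two_le_of_dihedral_comm fun a b => e.symm.injective (by
          rw [map_mul, map_mul, hcomm])
        have hcard := Nat.card_congr e.toEquiv
        rw [DihedralGroup.nat_card] at hcard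
        have heq : K = H := Subgroup.eq_of_le_of_card_ge hKH (by
          rw [hcard, hK4]
          have := Nat.le_of_dvd two_pos hn
          omega)
        rw [heq]
        exact Subgroup.mem_sup_right (Subgroup.mem_zpowers y)
      · exact absurd (fun a b => e.symm.injective (by rw [map_mul, map_mul, hcomm])) alt_four_not_comm
  · intro hP H hn hq
    obtain ⟨S⟩ : Nonempty (Sylow 2 H) := inferInstance
    haveI := hn S
    obtain ⟨S', hS'⟩ := (S.2.map H.subtype).exists_le_sylow
    obtain ⟨c, hc⟩ := MulAction.exists_smul_eq G S' P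
    let eP := S'.equiv P
    let inj : (S : Subgroup H) →* (P : Subgroup G) := eP.toMonoidHom.comp ((Subgroup.inclusion hS').comp
      ((S : Subgroup H).equivMapOfInjective H.subtype H.subtype_injective).toMonoidHom)
    have hinj : Function.Injective inj :=
      eP.injective.comp ((Subgroup.inclusion_injective hS').comp (MulEquiv.injective _))
    rcases hP with hPc | ⟨⟨n, hn1, ⟨e⟩⟩, hK⟩
    · haveI := hPc
      exact Or.inl (CfsgLib.TwoByCyclic.cyclic_case S (isCyclic_of_injective inj hinj) (hq S))
    · haveI : NeZero (2 ^ n) := ⟨pow_ne_zero _ two_ne_zero⟩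
      refine CfsgLib.TwoByCyclic.main S (hq S) (e.toMonoidHom.comp inj) (e.injective.comp hinj) ?_
      intro K hKS hK4 hK2 y hy
      let φ : H →* G := (MulAut.conj c).toMonoidHom.comp H.subtype
      have hφi : Function.Injective φ := (MulAut.conj c).injective.comp H.subtype_injective
      have hKP : K.map φ ≤ (P : Subgroup G) := by
        rintro _ ⟨k, hk, rfl⟩
        rw [← hc, Sylow.coe_subgroup_smul]
        exact Subgroup.smul_mem_pointwise_smul (k : G) (MulAut.conj c) _ (hS' ⟨k, hKS hk, rfl⟩)
      have hC := hK (K.map φ) hKP (by rw [Subgroup.card_map_of_injective hφi]; exact hK4) (by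
        rintro _ ⟨k, hk, rfl⟩
        rw [← map_pow, hK2 k hk, map_one])
      have hm : φ y ∈ Subgroup.centralizer ((K.map φ : Subgroup G) : Set G) := by
        refine Subgroup.mem_centralizer_iff.2 ?_
        rintro _ ⟨k, hk, rfl⟩
        rw [← map_mul, ← map_mul, Subgroup.mem_centralizer_iff.1 hy k hk]
      rw [hC] at hm
      obtain ⟨k, hk, e'⟩ := hm
      rwa [← hφi e']

end Cfsg.Agent.S4083
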