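import Cfsg.Statements.S4084
import Mathlib.GroupTheory.Perm.Cycle.Type
import Cfsg.Agent.FGSB.Small

set_option autoImplicit false
open Cfsg

namespace Cfsg.Agent.S4084

/-- Let G and H be finite groups whose commuting graphs are isomorphic: there is a bijection e : G → H with x, y commuting exactly when e(x), e(y) commute. Then G and H have the same prime graph: for distinct primes p, q, G has an element of order pq if and only if H does (and #G = #H, so the prime divisors agree). -/
theorem result {G H : Type*} [Group G] [Finite G] [Group H] [Finite H] (e : G ≃ H)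
    (he : ∀ x y : G, Commute x y ↔ Commute (e x) (e y))
    {p q : ℕ} (hp : p.Prime) (hq : q.Prime) (hpq : p ≠ q) :
    (∃ g : G, orderOf g = p * q) ↔ (∃ h : H, orderOf h = p * q) := by
  classical
  -- the double centraliser of `g` is an abelian subgroup described by the commuting relation
  let D : G → Subgroup G := fun g =>
    Subgroup.centralizer ((Subgroup.centralizer ({g} : Set G) : Subgroup G) : Set G)
  let D' : H → Subgroup H := fun g =>
    Subgroup.centralizer ((Subgroup.centralizer ({g} : Set H) : Subgroup H) : Set H)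
  have hD : ∀ g u, u ∈ D g ↔ ∀ w, Commute w g → Commute w u := fun g u => by
    simp [D, Subgroup.mem_centralizer_iff, Subgroup.mem_centralizer_singleton_iff, Commute, SemiconjBy, eq_comm]
  have hD' : ∀ g u, u ∈ D' g ↔ ∀ w, Commute w g → Commute w u := fun g u => by
    simp [D', Subgroup.mem_centralizer_iff, Subgroup.mem_centralizer_singleton_iff, Commute, SemiconjBy, eq_comm]
  have hcard : ∀ g, Nat.card (D g) = Nat.card (D' (e g)) := fun g => by
    refine Nat.card_congr (e.subtypeEquiv fun u => ?_)
    rw [hD, hD']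
    constructor
    · intro h w hw
      obtain ⟨w, rfl⟩ := e.surjective w
      exact (he w u).1 (h w ((he w g).2 hw))
    · intro h w hw
      exact (he w u).2 (h (e w) ((he w g).1 hw))
  have := Fact.mk hp
  have := Fact.mk hq
  have hcop := (Nat.coprime_primes hp hq).2 hpq
  have h1 : ∀ g : G, orderOf g = p * q → ∃ h : H, orderOf h = p * q := by
    intro g hg
    have hmem : g ∈ D g := (hD g g).2 fun w hw => hw
    have hd : p * q ∣ Nat.card (D' (e g)) := hcard g ▸ hg ▸ Subgroup.orderOf_dvd_natCard _ hmem
    obtain ⟨a, ha⟩ := exists_prime_orderOf_dvd_card' (G := D' (e g)) p ((dvd_mul_right p q).trans hd)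
    obtain ⟨b, hb⟩ := exists_prime_orderOf_dvd_card' (G := D' (e g)) q ((dvd_mul_left q p).trans hd)
    have hco : Commute (a : H) (b : H) :=
      (hD' (e g) b).1 b.2 a ((hD' (e g) a).1 a.2 (e g) (Commute.refl _)).symm
    refine ⟨(a : H) * b, ?_⟩
    rw [hco.orderOf_mul_eq_mul_orderOf_of_coprime (by rw [Subgroup.orderOf_coe, Subgroup.orderOf_coe, ha, hb]; exact hcop),
      Subgroup.orderOf_coe, Subgroup.orderOf_coe, ha, hb]
  refine ⟨fun ⟨g, hg⟩ => h1 g hg, fun ⟨h, hh⟩ => ?_⟩
  obtain ⟨g, rfl⟩ := e.surjective h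
  have hmem : e g ∈ D' (e g) := (hD' _ _).2 fun w hw => hw
  have hd : p * q ∣ Nat.card (D g) := (hcard g).symm ▸ hh ▸ Subgroup.orderOf_dvd_natCard _ hmem
  obtain ⟨a, ha⟩ := exists_prime_orderOf_dvd_card' (G := D g) p ((dvd_mul_right p q).trans hd)
  obtain ⟨b, hb⟩ := exists_prime_orderOf_dvd_card' (G := D g) q ((dvd_mul_left q p).trans hd)
  have hco : Commute (a : G) (b : G) :=
    (hD g b).1 b.2 a ((hD g a).1 a.2 g (Commute.refl _)).symm
  refine ⟨(a : G) * b, ?_⟩
  rw [hco.orderOf_mul_eq_mul_orderOf_of_coprime (by rw [Subgroup.orderOf_coe, Subgroup.orderOf_coe, ha, hb]; exact hcop),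
    Subgroup.orderOf_coe, Subgroup.orderOf_coe, ha, hb]

end Cfsg.Agent.S4084
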