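import Cfsg.Statements.S4085
import Mathlib.Tactic
import Mathlib.GroupTheory.SpecificGroups.Cyclic
import Mathlib.GroupTheory.Perm.Cycle.Type

set_option autoImplicit false
open Cfsg

namespace Cfsg.Agent.S4085

open Subgroup Finset

/-- Comparable in the power graph. -/
def Adj {G : Type*} [Group G] (a b : G) : Prop := a ∈ zpowers b ∨ b ∈ zpowers a

/-- Divisible by two different primes. -/
def TwoP (m : ℕ) : Prop := ∃ p q : ℕ, p.Prime ∧ q.Prime ∧ p ≠ q ∧ p ∣ m ∧ q ∣ m

theorem chain_of_not_twoP {m d d' : ℕ} (hm : m ≠ 0) (h : ¬ TwoP m) (hd : d ∣ m) (hd' : d' ∣ m) :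
    d ∣ d' ∨ d' ∣ d := by
  rcases eq_or_ne m 1 with rfl | h1
  · rw [Nat.dvd_one.1 hd]; exact Or.inl (one_dvd _)
  have hp := Nat.minFac_prime h1
  have he : m = m.minFac ^ m.primeFactorsList.length :=
    Nat.eq_prime_pow_of_unique_prime_dvd hm fun {q} hq hqd => by
      by_contra hne
      exact h ⟨q, m.minFac, hq, hp, hne, hqd, Nat.minFac_dvd m⟩
  rw [he] at hd hd'
  obtain ⟨i, -, rfl⟩ := (Nat.dvd_prime_pow hp).1 hd
  obtain ⟨j, -, rfl⟩ := (Nat.dvd_prime_pow hp).1 hd'
  rcases le_total i j with hij | hij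
  · exact Or.inl (pow_dvd_pow _ hij)
  · exact Or.inr (pow_dvd_pow _ hij)

set_option linter.unusedSectionVars false
set_option linter.style.haveILetI false

section Basics

variable {G : Type*} [Group G] [Finite G]

theorem dvd_of_mem {a b : G} (h : a ∈ zpowers b) : orderOf a ∣ orderOf b := by
  rw [← Nat.card_zpowers, ← Nat.card_zpowers]
  exact Subgroup.card_dvd_of_le (zpowers_le.2 h)

theorem dvd_of_adj {a b : G} (h : Adj a b) : orderOf a ∣ orderOf b ∨ orderOf b ∣ orderOf a :=
  h.imp dvd_of_mem dvd_of_mem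

theorem zpowers_eq {a b : G} (h : a ∈ zpowers b) (hb : orderOf b ≤ orderOf a) : zpowers a = zpowers b :=
  eq_of_le_of_card_ge (zpowers_le.2 h) (by rw [Nat.card_zpowers, Nat.card_zpowers]; exact hb)

theorem adj_congr {a b : G} (h : zpowers a = zpowers b) (c : G) : Adj a c ↔ Adj b c := by
  unfold Adj
  rw [← zpowers_le (g := a), ← zpowers_le (g := b), h]

theorem orderOf_rootOfDvd {x : G} {D : ℕ} (hD : D ∣ orderOf x) :
    orderOf (x ^ (orderOf x / D)) = D := by
  have hn := (orderOf_pos x).ne'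
  obtain ⟨k, hk⟩ := hD
  have hD0 : 0 < D := Nat.pos_of_ne_zero fun e => hn (by rw [hk, e, zero_mul])
  have hk' : orderOf x / D = k := by rw [hk, Nat.mul_div_cancel_left _ hD0]
  have hk0 : k ≠ 0 := fun e => hn (by rw [hk, e, mul_zero])
  rw [hk', orderOf_pow_of_dvd hk0 ⟨D, by rw [hk, mul_comm]⟩, hk,
    Nat.mul_div_cancel _ (Nat.pos_of_ne_zero hk0)]

theorem mem_root_iff {x u : G} {D : ℕ} (hD : D ∣ orderOf x) :
    u ∈ zpowers (x ^ (orderOf x / D)) ↔ u ∈ zpowers x ∧ orderOf u ∣ D := by
  constructor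
  · intro h
    refine ⟨(zpowers_le.2 (pow_mem (mem_zpowers x) _) : zpowers (x ^ (orderOf x / D)) ≤ zpowers x) h, ?_⟩
    have := dvd_of_mem h
    rwa [orderOf_rootOfDvd hD] at this
  · rintro ⟨hu, ho⟩
    obtain ⟨i, rfl⟩ := mem_powers_iff_mem_zpowers.2 hu
    have h1 : orderOf x ∣ i * D := by
      rw [orderOf_dvd_iff_pow_eq_one, pow_mul]
      exact orderOf_dvd_iff_pow_eq_one.1 ho
    obtain ⟨k, hk⟩ := hD
    have hn := (orderOf_pos x).ne'
    have hD0 : 0 < D := Nat.pos_of_ne_zero fun e => hn (by rw [hk, e, zero_mul])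
    have hk' : orderOf x / D = k := by rw [hk, Nat.mul_div_cancel_left _ hD0]
    rw [hk'] at *
    obtain ⟨j, rfl⟩ : k ∣ i := by
      rw [hk, mul_comm i D] at h1
      exact (mul_dvd_mul_iff_left hD0.ne').1 h1
    exact mem_zpowers_iff.2 ⟨j, by rw [zpow_natCast, ← pow_mul]⟩

theorem mem_of_dvd {x a b : G} (ha : a ∈ zpowers x) (hb : b ∈ zpowers x) (h : orderOf a ∣ orderOf b) :
    a ∈ zpowers b := by
  have hD := dvd_of_mem hb
  have h1 := zpowers_eq ((mem_root_iff hD).2 ⟨hb, dvd_rfl⟩) (le_of_eq (orderOf_rootOfDvd hD))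
  rw [h1]
  exact (mem_root_iff hD).2 ⟨ha, h⟩

theorem adj_of_dvd {x a b : G} (ha : a ∈ zpowers x) (hb : b ∈ zpowers x)
    (h : orderOf a ∣ orderOf b ∨ orderOf b ∣ orderOf a) : Adj a b :=
  h.imp (mem_of_dvd ha hb) (mem_of_dvd hb ha)

open scoped Classical in
theorem card_root [Fintype G] {x : G} {D : ℕ} (hD : D ∣ orderOf x) :
    (univ.filter fun u : G => u ∈ zpowers x ∧ orderOf u ∣ D).card = D := by
  conv_rhs => rw [← orderOf_rootOfDvd hD, ← Nat.card_zpowers]
  rw [← Fintype.card_subtype, ← Nat.card_eq_fintype_card]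
  exact Nat.card_congr (Equiv.subtypeEquivRight fun u => (mem_root_iff hD).symm)

open scoped Classical in
/-- Sets closed under changing the generator of a cyclic subgroup. -/
theorem totient_dvd_card [Fintype G] {A : Finset G} {m : ℕ}
    (hcl : ∀ u ∈ A, ∀ v : G, zpowers v = zpowers u → v ∈ A) (hm : ∀ u ∈ A, m ∣ orderOf u) :
    m.totient ∣ A.card := by
  rw [Finset.card_eq_sum_card_image (fun u => zpowers u) A]
  refine Finset.dvd_sum fun K hK => ?_
  obtain ⟨u, hu, rfl⟩ := Finset.mem_image.1 hK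
  have h1 : (A.filter fun v => zpowers v = zpowers u).card = (orderOf u).totient := by
    rw [← IsCyclic.card_orderOf_eq_totient (α := zpowers u) (d := orderOf u)
      (by rw [← Nat.card_eq_fintype_card, Nat.card_zpowers])]
    refine (Finset.card_bij (fun (v : zpowers u) _ => (v : G)) ?_ ?_ ?_).symm
    · intro v hv
      simp only [mem_filter, mem_univ, true_and] at hv ⊢
      have h2 : zpowers (v : G) = zpowers u :=
        zpowers_eq v.2 (le_of_eq (by rw [Subgroup.orderOf_coe, hv]))
      exact ⟨hcl u hu _ h2, h2⟩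
    · exact fun a _ b _ h => Subtype.ext h
    · intro v hv
      simp only [mem_filter] at hv
      have h2 : v ∈ zpowers u := hv.2 ▸ mem_zpowers v
      refine ⟨⟨v, h2⟩, ?_, rfl⟩
      simp only [mem_filter, mem_univ, true_and, Subgroup.orderOf_mk]
      rw [← Nat.card_zpowers, hv.2, Nat.card_zpowers]
  rw [h1]
  exact Nat.totient_dvd_of_dvd (hm u hu)

/-- A universal vertex `z ≠ 1` forces a cyclic group, unless the order is a prime power. -/
theorem generates_of_universal {z : G} (hz : z ≠ 1) (huniv : ∀ u, Adj z u) {p q : ℕ}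
    (hp : p.Prime) (hq : q.Prime) (hpq : p ≠ q) (hpG : p ∣ Nat.card G) (hqG : q ∣ Nat.card G) :
    ∀ u, u ∈ zpowers z := by
  have hdvd : ∀ r : ℕ, r.Prime → r ∣ Nat.card G → r ∣ orderOf z := by
    intro r hr hrG
    haveI := Fact.mk hr
    obtain ⟨w, hw⟩ := exists_prime_orderOf_dvd_card' (G := G) r hrG
    rcases dvd_of_adj (huniv w) with h | h
    · rw [hw] at h
      rcases (Nat.dvd_prime hr).1 h with h | h
      · exact absurd (orderOf_eq_one_iff.1 h) hz
      · rw [h]
    · rwa [hw] at h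
  intro u
  rcases huniv u with h | h
  swap
  · exact h
  by_contra hu
  set c := orderOf u with hc
  have hc0 : c ≠ 0 := (orderOf_pos u).ne'
  have hlt : orderOf z < c := by
    refine lt_of_le_of_ne (Nat.le_of_dvd (orderOf_pos u) (dvd_of_mem h)) fun e => hu ?_
    rw [zpowers_eq h (le_of_eq e.symm)]
    exact mem_zpowers u
  obtain ⟨r, k, hr, hk, hnk⟩ : ∃ r k : ℕ, r.Prime ∧ r ^ k ∣ c ∧ ¬ r ^ k ∣ orderOf z := by
    by_contra hcon
    push Not at hcon
    exact absurd (Nat.le_of_dvd (orderOf_pos z)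
      ((Nat.dvd_iff_prime_pow_dvd_dvd _ _).2 fun r k hr hk => hcon r k hr hk)) (not_le.2 hlt)
  have hw := orderOf_rootOfDvd hk
  rcases dvd_of_adj (huniv (u ^ (c / r ^ k))) with h' | h'
  · rw [hw] at h'
    have : ∀ s : ℕ, s.Prime → s ∣ Nat.card G → s = r := fun s hs hsG =>
      (Nat.prime_dvd_prime_iff_eq hs hr).1 (hs.dvd_of_dvd_pow ((hdvd s hs hsG).trans h'))
    exact hpq ((this p hp hpG).trans (this q hq hqG).symm)
  · rw [hw] at h'
    exact hnk h'

end Basics

/-- The graph carries an element whose order is divisible by `p * q` to one of the same kind. -/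
theorem transfer {G H : Type*} [Group G] [Finite G] [Group H] [Finite H] (e : G ≃ H)
    (he : ∀ x y : G, Adj x y ↔ Adj (e x) (e y)) {p q : ℕ} (hp : p.Prime) (hq : q.Prime) (hpq : p ≠ q)
    (hex : ∃ g : G, orderOf g = p * q) : ∃ h : H, orderOf h = p * q := by
  classical
  haveI := Fintype.ofFinite G
  haveI := Fintype.ofFinite H
  obtain ⟨g, hg⟩ := hex
  have hpqG : p * q ∣ Nat.card G := hg ▸ orderOf_dvd_natCard g
  have hcard : Nat.card H = Nat.card G := (Nat.card_congr e).symm
  have hget : ∀ z : H, p * q ∣ orderOf z → ∃ h : H, orderOf h = p * q :=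
    fun z hz => ⟨_, orderOf_rootOfDvd hz⟩
  -- universal vertices other than the identity
  have hcyc : ∀ z : H, z ≠ 1 → (∀ u, Adj z u) → ∃ h : H, orderOf h = p * q := by
    intro z hz huniv
    refine hget z ?_
    rw [orderOf_eq_card_of_forall_mem_zpowers (generates_of_universal hz huniv hp hq hpq
      (hcard ▸ (dvd_mul_right p q).trans hpqG) (hcard ▸ (dvd_mul_left q p).trans hpqG)), hcard]
    exact hpqG
  by_cases he1 : e 1 = 1
  swap
  · refine hcyc (e 1) he1 fun u => ?_
    rw [← e.apply_symm_apply u, ← he]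
    exact Or.inl (one_mem _)
  -- a maximal cyclic subgroup containing `g`
  obtain ⟨x₀, hx₀g, hx₀max⟩ := (univ.filter fun x : G => g ∈ zpowers x).exists_max_image orderOf
    ⟨g, by simp⟩
  simp only [mem_filter, mem_univ, true_and] at hx₀g hx₀max
  obtain ⟨x, hxx, hymax⟩ := (univ.filter fun x : G => zpowers x = zpowers x₀).exists_max_image
    (fun v => orderOf (e v)) ⟨x₀, by simp⟩
  simp only [mem_filter, mem_univ, true_and] at hxx hymax
  have hox : orderOf x = orderOf x₀ := by rw [← Nat.card_zpowers, hxx, Nat.card_zpowers]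
  have hgx : g ∈ zpowers x := hxx ▸ hx₀g
  have hmax : ∀ u : G, Adj u x → u ∈ zpowers x := by
    rintro u (h | h)
    · exact h
    · have hu : g ∈ zpowers u := (zpowers_le.2 h) hgx
      have := zpowers_eq h (hox ▸ hx₀max u hu)
      rw [this]
      exact mem_zpowers u
  set n := orderOf x with hn
  set y := e x with hy
  set m := orderOf y with hm
  have hpqn : p * q ∣ n := hg ▸ dvd_of_mem hgx
  have hn0 : 0 < n := orderOf_pos x
  have hx1 : x ≠ 1 := fun e' => by
    have h := Nat.le_of_dvd hn0 hpqn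
    have := hp.two_le
    have := hq.two_le
    rw [hn, e', orderOf_one] at h
    nlinarith
  have hy1 : y ≠ 1 := fun e' => hx1 (e.injective (e'.trans he1.symm))
  have hN : ∀ h : H, Adj h y ↔ e.symm h ∈ zpowers x := fun h => by
    rw [hy, ← e.apply_symm_apply h, ← he, e.symm_apply_apply]
    exact ⟨hmax _, Or.inl⟩
  have hgen : ∀ u ∈ zpowers x, orderOf u = n → e u ∈ zpowers y := by
    intro u hu ho
    rcases (hN (e u)).2 (by rwa [e.symm_apply_apply]) with h | h
    · exact h
    · have hle : orderOf (e u) ≤ orderOf y :=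
        hymax u ((zpowers_eq hu (le_of_eq ho.symm)).trans hxx)
      rw [zpowers_eq h hle]
      exact mem_zpowers _
  -- the vertices of intermediate order
  let W : G → Prop := fun a => a ∈ zpowers x ∧ orderOf a ≠ n ∧ a ≠ 1
  have hside : ∀ a b, W a → W b → ¬ Adj a b → (e a ∈ zpowers y ↔ e b ∈ zpowers y) := by
    intro a b ha hb hab
    suffices ∀ a b, W a → W b → ¬ Adj a b → e a ∈ zpowers y → e b ∈ zpowers y from
      ⟨this a b ha hb hab, this b a hb ha fun h => hab (Or.symm h)⟩
    intro a b ha hb hab h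
    rcases (hN (e b)).2 (by rw [e.symm_apply_apply]; exact hb.1) with h' | h'
    · exact h'
    · exact absurd ((he a b).2 (Or.inl ((zpowers_le.2 h') h))) hab
  -- full prime powers
  have hfull : ∀ r : ℕ, r.Prime → r ∣ n → r ^ n.factorization r ∣ n ∧
      ¬ r ∣ n / r ^ n.factorization r ∧ 1 < r ^ n.factorization r := fun r hr hrn =>
    ⟨Nat.ordProj_dvd n r, Nat.not_dvd_ordCompl hr hn0.ne',
      Nat.one_lt_pow (hr.factorization_pos_of_dvd hn0.ne' hrn).ne' hr.one_lt⟩
  let X : ℕ → G := fun r => x ^ (n / r ^ n.factorization r)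
  have hoX : ∀ r, orderOf (X r) = r ^ n.factorization r := fun r =>
    orderOf_rootOfDvd (Nat.ordProj_dvd n r)
  have hpn : p ∣ n := (dvd_mul_right p q).trans hpqn
  have hqn : q ∣ n := (dvd_mul_left q p).trans hpqn
  have hother : ∀ r : ℕ, r.Prime → ∃ s : ℕ, s.Prime ∧ s ∣ n ∧ s ≠ r := fun r _ => by
    rcases eq_or_ne p r with h | h
    · exact ⟨q, hq, hqn, h ▸ hpq.symm⟩
    · exact ⟨p, hp, hpn, h⟩
  have hWX : ∀ r : ℕ, r.Prime → r ∣ n → W (X r) := by
    intro r hr hrn
    obtain ⟨hd, -, h1⟩ := hfull r hr hrn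
    refine ⟨pow_mem (mem_zpowers x) _, fun h => ?_, fun h => ?_⟩
    · rw [hoX] at h
      obtain ⟨s, hs, hsn, hsr⟩ := hother r hr
      rw [← h] at hsn
      exact hsr ((Nat.prime_dvd_prime_iff_eq hs hr).1 (hs.dvd_of_dvd_pow hsn))
    · have := hoX r
      rw [h, orderOf_one] at this
      omega
  have hXX : ∀ r s : ℕ, r.Prime → s.Prime → r ∣ n → s ∣ n → r ≠ s → ¬ Adj (X r) (X s) := by
    intro r s hr hs hrn hsn hrs h
    have key : ∀ r s : ℕ, r.Prime → s.Prime → r ∣ n → r ≠ s →
        ¬ r ^ n.factorization r ∣ s ^ n.factorization s := fun r s hr hs hrn hrs h =>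
      hrs ((Nat.prime_dvd_prime_iff_eq hr hs).1 (hr.dvd_of_dvd_pow
        ((dvd_pow_self r (hr.factorization_pos_of_dvd hn0.ne' hrn).ne').trans h)))
    rcases dvd_of_adj h with h | h <;> rw [hoX, hoX] at h
    · exact key r s hr hs hrn hrs h
    · exact key s r hs hr hsn hrs.symm h
  have hXp : ∀ r : ℕ, r.Prime → r ∣ n → (e (X r) ∈ zpowers y ↔ e (X p) ∈ zpowers y) := by
    intro r hr hrn
    rcases eq_or_ne r p with rfl | h
    · exact Iff.rfl
    · exact hside _ _ (hWX r hr hrn) (hWX p hp hpn) (hXX r p hr hp hrn hpn h)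
  have hone : ∀ a, W a → (e a ∈ zpowers y ↔ e (X p) ∈ zpowers y) := by
    intro a ha
    have hd := dvd_of_mem ha.1
    obtain ⟨r, hr, hrn, hra⟩ : ∃ r : ℕ, r.Prime ∧ r ∣ n ∧ ¬ r ^ n.factorization r ∣ orderOf a := by
      by_contra hcon
      push Not at hcon
      refine ha.2.1 (Nat.dvd_antisymm hd ((Nat.dvd_iff_prime_pow_dvd_dvd _ _).2 fun r k hr hk => ?_))
      rcases Nat.eq_zero_or_pos k with rfl | hk0
      · exact one_dvd _
      · exact (pow_dvd_pow r ((hr.pow_dvd_iff_le_factorization hn0.ne').1 hk)).trans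
          (hcon r hr ((dvd_pow_self r hk0.ne').trans hk))
    by_cases har : orderOf a ∣ r ^ n.factorization r
    · obtain ⟨i, -, hi⟩ := (Nat.dvd_prime_pow hr).1 har
      obtain ⟨s, hs, hsn, hsr⟩ := hother r hr
      refine (hside a (X s) ha (hWX s hs hsn) fun h => ?_).trans (hXp s hs hsn)
      have hi0 : i ≠ 0 := by
        rintro rfl
        exact ha.2.2 (orderOf_eq_one_iff.1 (by rw [hi, pow_zero]))
      rcases dvd_of_adj h with h | h <;> rw [hoX, hi] at h
      · exact hsr ((Nat.prime_dvd_prime_iff_eq hr hs).1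
          (hr.dvd_of_dvd_pow ((dvd_pow_self r hi0).trans h))).symm
      · exact hsr ((Nat.prime_dvd_prime_iff_eq hs hr).1 (hs.dvd_of_dvd_pow
          ((dvd_pow_self s (hs.factorization_pos_of_dvd hn0.ne' hsn).ne').trans h)))
    · refine (hside a (X r) ha (hWX r hr hrn) fun h => ?_).trans (hXp r hr hrn)
      rcases dvd_of_adj h with h | h <;> rw [hoX] at h
      · exact har h
      · exact hra h
  by_cases hlow : e (X p) ∈ zpowers y
  · -- the neighbourhood of `y` is a cyclic subgroup
    refine hget y ?_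
    have hall : ∀ a, e a ∈ zpowers y ↔ a ∈ zpowers x := fun a => by
      constructor
      · intro h
        have := (hN (e a)).1 (Or.inl h)
        rwa [e.symm_apply_apply] at this
      · intro ha
        rcases eq_or_ne (orderOf a) n with h | h
        · exact hgen a ha h
        · rcases eq_or_ne a 1 with rfl | h1
          · rw [he1]; exact one_mem _
          · exact (hone a ⟨ha, h, h1⟩).2 hlow
    rw [← Nat.card_zpowers, ← Nat.card_congr (e.subtypeEquiv (p := (· ∈ zpowers x))
      (q := (· ∈ zpowers y)) fun a => (hall a).symm), Nat.card_zpowers]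
    exact hpqn
  exfalso
  have hhigh : ∀ a, W a → e a ∉ zpowers y := fun a ha h => hlow ((hone a ha).1 h)
  have hlowgen : ∀ h ∈ zpowers y, h ≠ 1 → orderOf (e.symm h) = n ∧ e.symm h ∈ zpowers x := by
    intro h hh h1
    have hx := (hN h).1 (Or.inl hh)
    refine ⟨by_contra fun hne => ?_, hx⟩
    have h' : e.symm h ≠ 1 := fun hu => h1 (by rw [← e.apply_symm_apply h, hu, he1])
    exact hhigh _ ⟨hx, hne, h'⟩ (by rwa [e.apply_symm_apply])
  have hm2 : ¬ TwoP m := by
    rintro ⟨a, b, ha, hb, hab, had, hbd⟩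
    have key : ∀ a : ℕ, a.Prime → a ∣ m → orderOf (e.symm (y ^ (m / a))) = n ∧
        e.symm (y ^ (m / a)) ∈ zpowers x := fun a ha had =>
      hlowgen _ (pow_mem (mem_zpowers y) _) fun h1 => ha.one_lt.ne (by
        have := orderOf_rootOfDvd (x := y) had
        rw [← hm, h1, orderOf_one] at this
        exact this)
    have h := adj_of_dvd (key a ha had).2 (key b hb hbd).2
      (Or.inl (by rw [(key a ha had).1, (key b hb hbd).1]))
    rw [he, e.apply_symm_apply, e.apply_symm_apply] at h
    rcases dvd_of_adj h with h | h <;> rw [orderOf_rootOfDvd had, orderOf_rootOfDvd hbd] at h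
    · exact hab ((Nat.prime_dvd_prime_iff_eq ha hb).1 h)
    · exact hab ((Nat.prime_dvd_prime_iff_eq hb ha).1 h).symm
  have hmn : m = n.totient + 1 := by
    have h1 : (univ.filter fun h : H => h ∈ zpowers y) =
        insert 1 ((univ.filter fun a : G => a ∈ zpowers x ∧ orderOf a = n).map e.toEmbedding) := by
      ext h
      simp only [mem_filter, mem_univ, true_and, mem_insert, Finset.mem_map_equiv]
      constructor
      · intro hh
        rcases eq_or_ne h 1 with h1 | h1
        · exact Or.inl h1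
        · exact Or.inr (hlowgen h hh h1).symm
      · rintro (rfl | ⟨h1, h2⟩)
        · exact one_mem _
        · simpa using hgen _ h1 h2
    have h2 : (univ.filter fun a : G => a ∈ zpowers x ∧ orderOf a = n).card = n.totient := by
      rw [← IsCyclic.card_orderOf_eq_totient (α := zpowers x) (d := n)
        (by rw [← Nat.card_eq_fintype_card, Nat.card_zpowers])]
      refine (Finset.card_bij (fun (v : zpowers x) _ => (v : G)) ?_ (fun a _ b _ h => Subtype.ext h) ?_).symm
      · intro v hv
        simp only [mem_filter, mem_univ, true_and] at hv ⊢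
        exact ⟨v.2, by rw [Subgroup.orderOf_coe, hv]⟩
      · intro v hv
        simp only [mem_filter, mem_univ, true_and] at hv
        exact ⟨⟨v, hv.1⟩, by simp [hv.2], rfl⟩
    have h3 := congrArg Finset.card h1
    rw [Finset.card_insert_of_notMem, Finset.card_map, h2, ← Fintype.card_subtype,
      ← Nat.card_eq_fintype_card] at h3
    · rw [hm, ← Nat.card_zpowers]; exact h3
    · simp only [Finset.mem_map_equiv, mem_filter, mem_univ, true_and]
      rintro ⟨-, h⟩
      have : e.symm 1 = (1 : G) := e.symm_apply_eq.2 he1.symm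
      rw [this, orderOf_one] at h
      have := Nat.le_of_dvd hn0 hpqn
      have := hp.two_le
      have := hq.two_le
      nlinarith
  -- sets of vertices above `y`
  have hK : ∀ K : Finset G, (∀ a ∈ K, W a) →
      (∀ a ∈ K, ∀ a', W a' → (∀ c, Adj a c ↔ Adj a' c) → a' ∈ K) → m.totient ∣ K.card := by
    intro K hKW hKcl
    rw [← Finset.card_map e.toEmbedding]
    have habove : ∀ a, W a → y ∈ zpowers (e a) := fun a ha => by
      rcases (hN (e a)).2 (by rw [e.symm_apply_apply]; exact ha.1) with h | h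
      · exact absurd h (hhigh a ha)
      · exact h
    refine totient_dvd_card ?_ ?_
    · intro u hu v hv
      simp only [Finset.mem_map_equiv] at hu ⊢
      have hW := hKW _ hu
      have hu' := habove _ hW
      rw [e.apply_symm_apply] at hu'
      refine hKcl _ hu _ ⟨(hN v).1 (Or.inr (hv ▸ hu')), fun h => ?_, fun h => ?_⟩ fun c => ?_
      · have := hgen _ ((hN v).1 (Or.inr (hv ▸ hu'))) h
        rw [e.apply_symm_apply] at this
        refine hhigh _ hW ?_
        rw [e.apply_symm_apply]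
        exact (zpowers_le.2 this) (hv ▸ mem_zpowers u)
      · have h' : v = 1 := by rw [← e.apply_symm_apply v, h, he1]
        rw [← hv, h', zpowers_one_eq_bot, mem_bot] at hu'
        exact hy1 hu'
      · rw [he, he (e.symm v), e.apply_symm_apply, e.apply_symm_apply]
        exact (adj_congr hv _).symm
    · intro u hu
      simp only [Finset.mem_map_equiv] at hu
      have := dvd_of_mem (habove _ (hKW _ hu))
      rwa [e.apply_symm_apply] at this
  -- divisors of the shape `n / s`
  let B : ℕ → G := fun s => x ^ (n / (n / s))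
  have hoB : ∀ s, s ∣ n → orderOf (B s) = n / s := fun s hs =>
    orderOf_rootOfDvd (Nat.div_dvd_of_dvd hs)
  have hadjB : ∀ s : ℕ, s.Prime → s ∣ n → ∀ a, W a → (Adj a (B s) ↔ orderOf a ∣ n / s) := by
    intro s hs hsn a ha
    refine ⟨fun h => ?_, fun h => adj_of_dvd ha.1 (pow_mem (mem_zpowers x) _) (Or.inl (by rwa [hoB s hsn]))⟩
    rcases dvd_of_adj h with h | h <;> rw [hoB s hsn] at h
    · exact h
    · obtain ⟨k, hk⟩ := h
      have h1 : n / s * k ∣ n / s * s := by
        rw [← hk, Nat.div_mul_cancel hsn]; exact dvd_of_mem ha.1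
      have hns : 0 < n / s := Nat.div_pos (Nat.le_of_dvd hn0 hsn) hs.pos
      rcases (Nat.dvd_prime hs).1 ((mul_dvd_mul_iff_left hns.ne').1 h1) with rfl | rfl
      · rw [hk, mul_one]
      · exact absurd (by rw [hk, Nat.div_mul_cancel hsn]) ha.2.1
  have hsmall : ∀ s : ℕ, s.Prime → s ∣ n → m.totient ∣ s ^ (n.factorization s - 1) - 1 := by
    intro s hs hsn
    obtain ⟨hd, hnd, hlt⟩ := hfull s hs hsn
    have he1' : 0 < n.factorization s := hs.factorization_pos_of_dvd hn0.ne' hsn
    have hD : s ^ (n.factorization s - 1) ∣ n := (pow_dvd_pow s (Nat.sub_le _ _)).trans hd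
    have hDs : s ^ (n.factorization s - 1) ∣ n / s := by
      apply Nat.dvd_div_of_mul_dvd
      rw [← pow_succ', Nat.sub_add_cancel he1']
      exact hd
    have hns : ¬ s ^ n.factorization s ∣ n / s := fun h => by
      have := (hs.pow_dvd_iff_le_factorization hn0.ne').1
        (show s ^ (n.factorization s + 1) ∣ n by
          rw [pow_succ']; exact (mul_dvd_mul_left s h).trans (Nat.mul_div_cancel' hsn).dvd)
      omega
    have hWof : ∀ a ∈ zpowers x, orderOf a ∣ s ^ (n.factorization s - 1) → a ≠ 1 → W a := by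
      refine fun a ha h h1 => ⟨ha, fun h2 => ?_, h1⟩
      rw [h2] at h
      exact hns (hd.trans (h.trans hDs))
    have := hK ((univ.filter fun a : G => a ∈ zpowers x ∧ orderOf a ∣ s ^ (n.factorization s - 1)).erase 1)
      (fun a ha => by
        simp only [mem_erase, mem_filter, mem_univ, true_and] at ha
        exact hWof a ha.2.1 ha.2.2 ha.1)
      (fun a ha a' ha' htwin => by
        simp only [mem_erase, mem_filter, mem_univ, true_and] at ha ⊢
        refine ⟨ha'.2.2, ha'.1, ?_⟩
        have h1 : Adj a' (X s) := (htwin _).1 (adj_of_dvd ha.2.1 (pow_mem (mem_zpowers x) _)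
          (Or.inl (by rw [hoX]; exact ha.2.2.trans (pow_dvd_pow s (Nat.sub_le _ _)))))
        have h2 := (hadjB s hs hsn a' ha').1 ((htwin _).1
          ((hadjB s hs hsn a (hWof a ha.2.1 ha.2.2 ha.1)).2 (ha.2.2.trans hDs)))
        rcases dvd_of_adj h1 with h | h <;> rw [hoX] at h
        · obtain ⟨i, hi, hi'⟩ := (Nat.dvd_prime_pow hs).1 h
          rcases eq_or_lt_of_le hi with rfl | hlt
          · exact absurd (hi' ▸ h2) hns
          · rw [hi']; exact pow_dvd_pow s (by omega)
        · exact absurd (h.trans h2) hns)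
    rwa [Finset.card_erase_of_mem (by simp), card_root hD] at this
  let E := n.primeFactors.gcd fun s => n / s
  have hmemP : ∀ s, s ∈ n.primeFactors ↔ s.Prime ∧ s ∣ n := fun s => by
    rw [Nat.mem_primeFactors]; exact ⟨fun h => ⟨h.1, h.2.1⟩, fun h => ⟨h.1, h.2, hn0.ne'⟩⟩
  have hcop : m.totient.Coprime E := by
    refine Nat.coprime_of_dvd fun s hs h1 h2 => ?_
    have hsn : s ∣ n := (h2.trans (Finset.gcd_dvd ((hmemP p).2 ⟨hp, hpn⟩))).trans (Nat.div_dvd_of_dvd hpn)
    have h3 : s ∣ n / s := h2.trans (Finset.gcd_dvd ((hmemP s).2 ⟨hs, hsn⟩))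
    have h4 : 2 ≤ n.factorization s := by
      refine (hs.pow_dvd_iff_le_factorization hn0.ne').1 ?_
      rw [pow_two]
      exact Nat.mul_dvd_of_dvd_div hsn h3
    have h5 : s ∣ s ^ (n.factorization s - 1) - 1 := h1.trans (hsmall s hs hsn)
    have h6 : s ∣ s ^ (n.factorization s - 1) := dvd_pow_self s (by omega)
    have h7 := Nat.dvd_sub h6 h5
    rw [Nat.sub_sub_self (Nat.one_le_pow _ _ hs.pos)] at h7
    exact hs.not_dvd_one h7
  have hbig : ∀ r : ℕ, r.Prime → r ∣ n → m.totient ∣ r - 1 := by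
    intro r hr hrn
    let D := (n.primeFactors.erase r).gcd fun s => n / s
    obtain ⟨s₀, hs₀, hs₀n, hs₀r⟩ := hother r hr
    have hDn : D ∣ n := (Finset.gcd_dvd (mem_erase.2 ⟨hs₀r, (hmemP s₀).2 ⟨hs₀, hs₀n⟩⟩)).trans
      (Nat.div_dvd_of_dvd hs₀n)
    have hED : E ∣ D := Finset.dvd_gcd fun s hs => Finset.gcd_dvd (mem_of_mem_erase hs)
    have hDrE : D ∣ r * E := by
      show D ∣ r * n.primeFactors.gcd fun s => n / s
      rw [show r * n.primeFactors.gcd (fun s => n / s) = n.primeFactors.gcd (fun s => r * (n / s)) by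
        rw [Finset.gcd_mul_left, normalize_eq]]
      refine Finset.dvd_gcd fun s hs => ?_
      rcases eq_or_ne s r with h | h
      · subst h
        rw [Nat.mul_div_cancel' hrn]; exact hDn
      · exact dvd_mul_of_dvd_right (Finset.gcd_dvd (mem_erase.2 ⟨h, hs⟩)) _
    have hEn : E ∣ n := hED.trans hDn
    have hnDE : ¬ D ∣ E := by
      intro h
      have h1 : r ^ n.factorization r ∣ D := Finset.dvd_gcd fun s hs => by
        obtain ⟨hsr, hs'⟩ := mem_erase.1 hs
        obtain ⟨hs', hsn⟩ := (hmemP s).1 hs'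
        apply Nat.dvd_div_of_mul_dvd
        exact Nat.Coprime.mul_dvd_of_dvd_of_dvd
          (Nat.Coprime.pow_right _ ((Nat.coprime_primes hs' hr).2 hsr)) hsn (Nat.ordProj_dvd n r)
      have h2 := (h1.trans h).trans (Finset.gcd_dvd ((hmemP r).2 ⟨hr, hrn⟩) : E ∣ n / r)
      have := (hr.pow_dvd_iff_le_factorization hn0.ne').1
        (show r ^ (n.factorization r + 1) ∣ n by
          rw [pow_succ']; exact (mul_dvd_mul_left r h2).trans (Nat.mul_div_cancel' hrn).dvd)
      omega
    have hDE : D = r * E := by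
      obtain ⟨k, hk⟩ := hED
      have hE0 : E ≠ 0 := fun h => hn0.ne' (Nat.eq_zero_of_zero_dvd (h ▸ hEn))
      have h1 : k ∣ r := by
        rw [hk, mul_comm r E] at hDrE
        exact (mul_dvd_mul_iff_left hE0).1 hDrE
      rcases (Nat.dvd_prime hr).1 h1 with rfl | rfl
      · exact absurd (by rw [hk, mul_one]) hnDE
      · rw [hk, mul_comm]
    have hWT : ∀ a ∈ zpowers x, orderOf a ∣ D → ¬ orderOf a ∣ E → W a := by
      refine fun a ha h h' => ⟨ha, fun h2 => ?_, fun h2 => h' (by rw [h2, orderOf_one]; exact one_dvd _)⟩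
      rw [h2] at h
      have h3 : n ∣ n / s₀ := h.trans (Finset.gcd_dvd (mem_erase.2 ⟨hs₀r, (hmemP s₀).2 ⟨hs₀, hs₀n⟩⟩))
      exact absurd (Nat.le_of_dvd (Nat.div_pos (Nat.le_of_dvd hn0 hs₀n) hs₀.pos) h3)
        (not_le.2 (Nat.div_lt_self hn0 hs₀.one_lt))
    have hT := hK ((univ.filter fun a : G => a ∈ zpowers x ∧ orderOf a ∣ D) \
        (univ.filter fun a : G => a ∈ zpowers x ∧ orderOf a ∣ E))
      (fun a ha => by
        simp only [mem_sdiff, mem_filter, mem_univ, true_and] at ha
        exact hWT a ha.1.1 ha.1.2 fun h => ha.2 ⟨ha.1.1, h⟩)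
      (fun a ha a' ha' htwin => by
        simp only [mem_sdiff, mem_filter, mem_univ, true_and] at ha ⊢
        have haW := hWT a ha.1.1 ha.1.2 fun h => ha.2 ⟨ha.1.1, h⟩
        have htr : ∀ s ∈ n.primeFactors, orderOf a' ∣ n / s ↔ orderOf a ∣ n / s := fun s hs => by
          obtain ⟨hs, hsn⟩ := (hmemP s).1 hs
          rw [← hadjB s hs hsn a' ha', ← hadjB s hs hsn a haW]
          exact (htwin _).symm
        exact ⟨⟨ha'.1, Finset.dvd_gcd fun s hs => (htr s (mem_of_mem_erase hs)).2
            (ha.1.2.trans (Finset.gcd_dvd hs))⟩,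
          fun h => ha.2 ⟨ha.1.1, Finset.dvd_gcd fun s hs => (htr s hs).1 (h.2.trans (Finset.gcd_dvd hs))⟩⟩)
    have hsub : (univ.filter fun a : G => a ∈ zpowers x ∧ orderOf a ∣ E) ⊆
        univ.filter fun a : G => a ∈ zpowers x ∧ orderOf a ∣ D := fun a ha => by
      simp only [mem_filter, mem_univ, true_and] at ha ⊢
      exact ⟨ha.1, ha.2.trans hED⟩
    rw [Finset.card_sdiff_of_subset hsub, card_root hDn, card_root hEn, hDE, ← Nat.sub_one_mul] at hT
    exact hcop.dvd_of_dvd_mul_right hT
  -- too small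
  have h1 : m.totient * m.totient ∣ n.totient := by
    refine (mul_dvd_mul (hbig p hp hpn) (hbig q hq hqn)).trans ?_
    rw [← Nat.totient_prime hp, ← Nat.totient_prime hq,
      ← Nat.totient_mul ((Nat.coprime_primes hp hq).2 hpq)]
    exact Nat.totient_dvd_of_dvd hpqn
  have h2 : m.totient * m.totient ≤ n.totient := Nat.le_of_dvd (Nat.totient_pos.2 hn0) h1
  have hn3 : 3 ≤ n := by
    have := Nat.le_of_dvd hn0 hpqn
    have := hp.two_le
    have := hq.two_le
    nlinarith
  have h3 : 2 ≤ n.totient := Nat.le_of_dvd (Nat.totient_pos.2 hn0)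
    (even_iff_two_dvd.1 (Nat.totient_even hn3))
  have hm1 : m ≠ 1 := by omega
  have h4 : m ≤ 2 * m.totient := by
    have hr := Nat.minFac_prime hm1
    have he : m = m.minFac ^ m.primeFactorsList.length :=
      Nat.eq_prime_pow_of_unique_prime_dvd (orderOf_pos y).ne' fun {s} hs hsd => by
        by_contra hne
        exact hm2 ⟨s, m.minFac, hs, hr, hne, hsd, Nat.minFac_dvd m⟩
    have hl : 0 < m.primeFactorsList.length := by
      by_contra h0
      rw [Nat.eq_zero_of_not_pos h0, pow_zero] at he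
      exact hm1 he
    obtain ⟨l, hl'⟩ : ∃ l, m.primeFactorsList.length = l + 1 := ⟨_, (Nat.succ_pred_eq_of_pos hl).symm⟩
    rw [hl'] at he
    have := hr.two_le
    rw [he, Nat.totient_prime_pow_succ hr, pow_succ]
    calc m.minFac ^ l * m.minFac ≤ m.minFac ^ l * (2 * (m.minFac - 1)) := Nat.mul_le_mul_left _ (by omega)
      _ = 2 * (m.minFac ^ l * (m.minFac - 1)) := by ring
  nlinarith

/-- Let G and H be finite groups whose power graphs are isomorphic: there is a bijection e : G → H such that, for all x, y, one of x, y is a power of the other exactly when one of e(x), e(y) is a power of the other. Then G and H have the same prime graph: for distinct primes p, q, G has an element of order pq if and only if H does. -/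
theorem result {G H : Type*} [Group G] [Finite G] [Group H] [Finite H] (e : G ≃ H)
    (he : ∀ x y : G, (x ∈ Subgroup.zpowers y ∨ y ∈ Subgroup.zpowers x) ↔
      (e x ∈ Subgroup.zpowers (e y) ∨ e y ∈ Subgroup.zpowers (e x)))
    {p q : ℕ} (hp : p.Prime) (hq : q.Prime) (hpq : p ≠ q) :
    (∃ g : G, orderOf g = p * q) ↔ (∃ h : H, orderOf h = p * q) := by
  have h : ∀ x y : G, Adj x y ↔ Adj (e x) (e y) := he
  refine ⟨transfer e h hp hq hpq, transfer e.symm (fun x y => ?_) hp hq hpq⟩
  rw [h, e.apply_symm_apply, e.apply_symm_apply]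

end Cfsg.Agent.S4085
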