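import Cfsg.Statements.S4086
import Mathlib.GroupTheory.SpecificGroups.Cyclic
import Cfsg.Agent.FGSB.Small

set_option autoImplicit false
open Cfsg

namespace Cfsg.Agent.S4086

/-- For a finite group G the following are equivalent: every non-identity element has prime-power order; whenever two elements generate a cyclic subgroup, one of them is a power of the other (the enhanced power graph of G coincides with its power graph). -/
theorem result {G : Type*} [Group G] [Finite G] :
    (∀ g : G, g ≠ 1 → IsPrimePow (orderOf g)) ↔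
    (∀ x y : G, IsCyclic ↥(Subgroup.closure ({x, y} : Set G)) → (x ∈ Subgroup.zpowers y ∨ y ∈ Subgroup.zpowers x)) := by
  constructor
  · intro h x y hc
    obtain ⟨z, hz⟩ := hc.exists_generator
    obtain ⟨i, hi⟩ := hz ⟨x, Subgroup.subset_closure (by simp)⟩
    obtain ⟨j, hj⟩ := hz ⟨y, Subgroup.subset_closure (by simp)⟩
    have hi' : (z : G) ^ i = x := by simpa using congrArg Subtype.val hi
    have hj' : (z : G) ^ j = y := by simpa using congrArg Subtype.val hj
    by_cases hx1 : x = 1
    · exact .inl (hx1 ▸ Subgroup.one_mem _)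
    by_cases hy1 : y = 1
    · exact .inr (hy1 ▸ Subgroup.one_mem _)
    have hz1 : (z : G) ≠ 1 := fun h => hx1 (by rw [← hi', h, one_zpow])
    obtain ⟨p, k, hp, -, hk⟩ := (isPrimePow_nat_iff _).1 (h _ hz1)
    have hcy : IsCyclic ↥(Subgroup.zpowers (z : G)) := inferInstance
    have hx' : x ∈ Subgroup.zpowers (z : G) := ⟨i, hi'⟩
    have hy' : y ∈ Subgroup.zpowers (z : G) := ⟨j, hj'⟩
    obtain ⟨a, -, ha⟩ := (Nat.dvd_prime_pow hp).1
      (hk.symm ▸ orderOf_dvd_of_mem_zpowers hx' : orderOf x ∣ p ^ k)
    obtain ⟨b, -, hb⟩ := (Nat.dvd_prime_pow hp).1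
      (hk.symm ▸ orderOf_dvd_of_mem_zpowers hy' : orderOf y ∣ p ^ k)
    have key : ∀ u v : G, u ∈ Subgroup.zpowers (z : G) → v ∈ Subgroup.zpowers (z : G) →
        orderOf u ∣ orderOf v → u ∈ Subgroup.zpowers v := by
      intro u v hu hv hd
      classical
      have hle : Subgroup.zpowers v ≤ Subgroup.zpowers (z : G) := Subgroup.zpowers_le.2 hv
      let Z := ↥(Subgroup.zpowers (z : G))
      have := Fintype.ofFinite Z
      set v' : Z := ⟨v, hv⟩
      have hsub : (Finset.univ.filter fun w : Z => w ∈ Subgroup.zpowers v') ⊆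
          Finset.univ.filter fun w : Z => w ^ orderOf v' = 1 := by
        intro w hw
        simp only [Finset.mem_filter, Finset.mem_univ, true_and] at hw ⊢
        exact orderOf_dvd_iff_pow_eq_one.1 (orderOf_dvd_of_mem_zpowers hw)
      have heq := Finset.eq_of_subset_of_card_le hsub (by
        refine (IsCyclic.card_pow_eq_one_le (orderOf_pos v')).trans ?_
        rw [← Fintype.card_subtype, ← Nat.card_eq_fintype_card]
        exact (Nat.card_zpowers v').ge)
      have hmem : (⟨u, hu⟩ : Z) ∈ Finset.univ.filter fun w : Z => w ^ orderOf v' = 1 := by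
        simp only [Finset.mem_filter, Finset.mem_univ, true_and]
        rw [← orderOf_dvd_iff_pow_eq_one, Subgroup.orderOf_mk, Subgroup.orderOf_mk]
        exact hd
      rw [← heq] at hmem
      simp only [Finset.mem_filter, Finset.mem_univ, true_and] at hmem
      obtain ⟨l, hl⟩ := hmem
      exact ⟨l, by simpa [v', Z] using congrArg Subtype.val hl⟩
    rcases le_total a b with hab | hab
    · exact .inl (key x y hx' hy' (by rw [ha, hb]; exact pow_dvd_pow p hab))
    · exact .inr (key y x hy' hx' (by rw [ha, hb]; exact pow_dvd_pow p hab))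
  · intro h g hg
    obtain ⟨p, hp, hpd⟩ := Nat.exists_prime_and_dvd (fun h1 => hg (orderOf_eq_one_iff.1 h1))
    obtain ⟨a, b, hab, ha, hb, ⟨k, hk⟩, hbo⟩ := CfsgLib.FGSBSmall.exists_prime_split hp g
    have hcyc : IsCyclic ↥(Subgroup.closure ({a, b} : Set G)) :=
      isCyclic_of_injective (Subgroup.inclusion ((Subgroup.closure_le _).2
        (show ({a, b} : Set G) ⊆ Subgroup.zpowers g by
          rintro w (rfl | rfl); exacts [ha, hb]))) (Subgroup.inclusion_injective _)
    have hk0 : k ≠ 0 := by
      rintro rfl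
      rw [pow_zero, orderOf_eq_one_iff] at hk
      rw [hk, one_mul] at hab
      exact hp.coprime_iff_not_dvd.1 (hab ▸ hbo).symm hpd
    rcases h a b hcyc with h1 | h1
    · exfalso
      have h2 : p ∣ orderOf b := (hk ▸ dvd_pow_self p hk0).trans (orderOf_dvd_of_mem_zpowers h1)
      exact hp.coprime_iff_not_dvd.1 hbo.symm h2
    · have hd : orderOf b ∣ p ^ k := hk ▸ orderOf_dvd_of_mem_zpowers h1
      have hb1 : b = 1 := orderOf_eq_one_iff.1
        (Nat.eq_one_of_dvd_coprimes (hbo.symm.pow_left k) hd dvd_rfl)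
      rw [hb1, mul_one] at hab
      exact (isPrimePow_nat_iff _).2 ⟨p, k, hp, Nat.pos_of_ne_zero hk0, by rw [← hab, hk]⟩

end Cfsg.Agent.S4086
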