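import Cfsg.Statements.S4090
import Cfsg.Agent.FGSB.PSolvableChain

set_option autoImplicit false
open scoped BigOperators
open Cfsg

namespace Cfsg.Agent.S4090

/-- Let G be a finite p-solvable group, H a p-subgroup of G and P a Sylow p-subgroup, and fix a chain of normal subgroups 1 = M₀ ≤ M₁ ≤ ⋯ ≤ Mₙ = G of G each of whose factors is a p-group or a p'-group. Then the number of elements g of G such that H is subnormal in the subgroup generated by H and g equals the order of P times the product, over the factors Mᵢ₊₁/Mᵢ of order prime to p, of the order of the centralizer of H in Mᵢ₊₁/Mᵢ (counted as the number of u ∈ Mᵢ₊₁ with [h, u] ∈ Mᵢ for all h ∈ H, divided by the order of Mᵢ). -/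
theorem result {G : Type*} [Group G] [Finite G] (p : ℕ) [Fact p.Prime]
    (hG : Cfsg.IsPSolvable p G) (H : Subgroup G) (hH : IsPGroup p H) (P : Sylow p G)
    (n : ℕ) (M : Fin (n + 1) → Subgroup G) (h0 : M 0 = ⊥) (hn : M (Fin.last n) = ⊤) (hmono : Monotone M)
    (hnormal : ∀ i, (M i).Normal)
    (hfac : ∀ i : Fin n, (∃ m : ℕ, (M i.castSucc).relIndex (M i.succ) = p ^ m) ∨ ((M i.castSucc).relIndex (M i.succ)).Coprime p) :
    Nat.card {g : G // ((H).subgroupOf (H ⊔ Subgroup.zpowers g)).IsSubnormal} =
      Nat.card (P : Subgroup G) *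
        ∏ i : Fin n, (if ((M i.castSucc).relIndex (M i.succ)).Coprime p then
          Nat.card {u : G // u ∈ M i.succ ∧ ∀ h ∈ H, h * u * h⁻¹ * u⁻¹ ∈ M i.castSucc} / Nat.card (M i.castSucc)
          else 1) := by
  classical
  haveI : ∀ i, (M i).Normal := hnormal
  rw [Nat.card_congr (Equiv.subtypeEquivRight fun g => CfsgLib.SubnormalCount.good_iff_isSubnormal hH g)]
  let s : Fin (n + 1) → ℕ := fun i =>
    Nat.card {y : G ⧸ M i // CfsgLib.SubnormalCount.Good p (H.map (QuotientGroup.mk' (M i))) y}
  let c : Fin n → ℕ := fun i => if ((M i.castSucc).relIndex (M i.succ)).Coprime p then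
    Nat.card {u : G // u ∈ M i.succ ∧ ∀ h ∈ H, h * u * h⁻¹ * u⁻¹ ∈ M i.castSucc} / Nat.card (M i.castSucc)
    else (M i.castSucc).relIndex (M i.succ)
  have hstep : ∀ i : Fin n, s i.castSucc = c i * s i.succ := by
    intro i
    have hle := hmono (Fin.castSucc_le_succ i)
    set f := CfsgLib.SubnormalCount.step (M i.castSucc) (M i.succ) hle
    have hf := CfsgLib.SubnormalCount.step_surjective (M i.castSucc) (M i.succ) hle
    have hker := CfsgLib.SubnormalCount.card_ker_step (M i.castSucc) (M i.succ) hle
    have hmap := CfsgLib.SubnormalCount.map_step (M i.castSucc) (M i.succ) hle H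
    simp only [s, c]
    by_cases hi : ((M i.castSucc).relIndex (M i.succ)).Coprime p
    · rw [if_pos hi, CfsgLib.SubnormalCount.count_coprime f hf (by rw [hker]; exact hi) (hH.map _), hmap,
        CfsgLib.SubnormalCount.card_ker_step_centralizer]
    · obtain ⟨m, hm⟩ := (hfac i).resolve_right hi
      rw [if_neg hi, CfsgLib.SubnormalCount.count_pGroup f hf (IsPGroup.of_card (hker.trans hm)), hmap, hker]
  have hs0 : s 0 = Nat.card {g : G // CfsgLib.SubnormalCount.Good p H g} := by
    have h1 := CfsgLib.SubnormalCount.count_pGroup (QuotientGroup.mk' (M 0)) (QuotientGroup.mk'_surjective _)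
      (IsPGroup.of_card (p := p) (n := 0) (by rw [QuotientGroup.ker_mk', h0, Subgroup.card_bot, pow_zero])) H
    rw [QuotientGroup.ker_mk', show Nat.card (M 0) = 1 by rw [h0, Subgroup.card_bot], one_mul] at h1
    exact h1.symm
  have hslast : s (Fin.last n) = 1 := by
    haveI : Subsingleton (G ⧸ M (Fin.last n)) := QuotientGroup.subsingleton_iff.2 hn
    haveI : Nonempty {y : G ⧸ M (Fin.last n) //
        CfsgLib.SubnormalCount.Good p (H.map (QuotientGroup.mk' (M (Fin.last n)))) y} :=
      ⟨⟨1, fun x => ⟨0, Subsingleton.elim _ _⟩⟩⟩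
    exact Nat.card_unique
  rw [← hs0, CfsgLib.SubnormalCount.telescope n s c hstep, hslast, mul_one,
    CfsgLib.SubnormalCount.card_sylow_chain P n M h0 hn hmono hfac, ← Finset.prod_mul_distrib]
  refine Finset.prod_congr rfl fun i _ => ?_
  simp only [c]
  split <;> simp

end Cfsg.Agent.S4090
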