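import Cfsg.Statements.S4091
import Cfsg.Agent.FGSB.SylowProductBound

set_option autoImplicit false
open Cfsg

namespace Cfsg.Agent.S4091

/-- Let G be a finite p-solvable group, P a Sylow p-subgroup of G, u the number of p-elements of G (elements of p-power order, the identity included) and n the number of Sylow p-subgroups of G. Then u/#P ≥ n^((p−1)/p), stated as u^p ≥ #P^p · n^(p−1). -/
theorem result {G : Type*} [Group G] [Finite G] (p : ℕ) [Fact p.Prime]
    (hG : Cfsg.IsPSolvable p G) (P : Sylow p G) :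
    Nat.card (P : Subgroup G) ^ p * Nat.card (Sylow p G) ^ (p - 1) ≤ Nat.card {g : G // ∃ k : ℕ, orderOf g = p ^ k} ^ p := by
  classical
  obtain ⟨n, M, h0, hn, hmono, hnormal, hfac⟩ := hG
  haveI : ∀ i, (M i).Normal := hnormal
  haveI := Fintype.ofFinite (P : Subgroup G)
  refine CfsgLib.SubnormalCount.main P ?_
  suffices h : ∀ (i : Fin (n + 1)) (T : Sylow p (G ⧸ M i)) [Fintype (T : Subgroup (G ⧸ M i))],
      CfsgLib.SubnormalCount.SylowIneq p (T : Subgroup (G ⧸ M i)) by
    haveI := Fintype.ofFinite ((P.mapSurjective (QuotientGroup.mk'_surjective (M 0)) : Sylow p (G ⧸ M 0)) : Subgroup (G ⧸ M 0))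
    exact CfsgLib.SubnormalCount.ineq_lift (QuotientGroup.mk' (M 0)) (QuotientGroup.mk'_surjective _)
      (Or.inl (IsPGroup.of_card (p := p) (n := 0) (by rw [QuotientGroup.ker_mk', h0, Subgroup.card_bot, pow_zero]))) P
      (P.mapSurjective (QuotientGroup.mk'_surjective (M 0))) (Sylow.coe_mapSurjective _ _) (h 0 _)
  intro i
  induction i using Fin.reverseInduction with
  | last =>
    intro T _
    haveI : Subsingleton (G ⧸ M (Fin.last n)) := QuotientGroup.subsingleton_iff.2 hn
    haveI : Subsingleton (Sylow p (G ⧸ M (Fin.last n))) :=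
      ⟨fun A B => Sylow.ext (Subgroup.ext fun x => by simp [Subsingleton.elim x 1, one_mem])⟩
    have h1 : ∀ H : Subgroup (G ⧸ M (Fin.last n)), CfsgLib.SubnormalCount.alpha p H = 1 := fun H => by
      haveI : Nonempty {S : Sylow p (G ⧸ M (Fin.last n)) // H ≤ (S : Subgroup _)} :=
        ⟨⟨T, fun x _ => Subsingleton.elim (1 : G ⧸ M (Fin.last n)) x ▸ one_mem _⟩⟩
      exact Nat.card_unique
    rw [CfsgLib.SubnormalCount.SylowIneq, Finset.prod_congr rfl fun x _ => h1 _, Finset.prod_const_one, one_pow]
    exact Nat.one_le_pow _ _ Nat.card_pos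
  | cast i ih =>
    intro T _
    have hle := hmono (Fin.castSucc_le_succ i)
    set f := CfsgLib.SubnormalCount.step (M i.castSucc) (M i.succ) hle
    have hf := CfsgLib.SubnormalCount.step_surjective (M i.castSucc) (M i.succ) hle
    have hker := CfsgLib.SubnormalCount.card_ker_step (M i.castSucc) (M i.succ) hle
    haveI := Fintype.ofFinite ((T.mapSurjective hf : Sylow p (G ⧸ M i.succ)) : Subgroup (G ⧸ M i.succ))
    refine CfsgLib.SubnormalCount.ineq_lift f hf ?_ T (T.mapSurjective hf) (Sylow.coe_mapSurjective _ _) (ih _)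
    rcases hfac i with ⟨m, hm⟩ | hc
    · exact Or.inl (IsPGroup.of_card (hker.trans hm))
    · exact Or.inr (by rw [hker]; exact hc)

end Cfsg.Agent.S4091
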