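import Cfsg.Statements.S4092
import Mathlib.GroupTheory.Sylow
import Mathlib.GroupTheory.Nilpotent

set_option autoImplicit false
open Cfsg

namespace Cfsg.Agent.S4092

/-- Let G be a finite group, p a prime and P a Sylow p-subgroup of G that is not normal in G. Then G has at least p·#P elements of p-power order (the identity included). -/
theorem result {G : Type*} [Group G] [Finite G] (p : ℕ) [Fact p.Prime]
    (P : Sylow p G) (hP : ¬ (P : Subgroup G).Normal) :
    p * Nat.card (P : Subgroup G) ≤ Nat.card {g : G // ∃ k : ℕ, orderOf g = p ^ k} := by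
  classical
  have hp := (Fact.out : p.Prime)
  have hex : ∃ P' Q' : Sylow p G, P' ≠ Q' := by
    by_contra h
    push Not at h
    apply hP
    rw [← Subgroup.normalizer_eq_top_iff, eq_top_iff]
    intro g _
    exact Sylow.smul_eq_iff_mem_normalizer.1 (h (g • P) P)
  obtain ⟨P', Q', hne'⟩ := hex
  obtain ⟨⟨P₀, Q₀⟩, hne, hmax⟩ := Set.exists_max_image {z : Sylow p G × Sylow p G | z.1 ≠ z.2}
    (fun z => Nat.card ↥((z.1 : Subgroup G) ⊓ (z.2 : Subgroup G))) (Set.toFinite _) ⟨(P', Q'), hne'⟩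
  set D := (P₀ : Subgroup G) ⊓ (Q₀ : Subgroup G) with hD
  have hDlt : D.subgroupOf (P₀ : Subgroup G) < ⊤ := by
    refine lt_top_iff_ne_top.2 fun h => hne ?_
    have h1 : (P₀ : Subgroup G) ≤ Q₀ := (Subgroup.subgroupOf_eq_top.1 h).trans inf_le_right
    exact Sylow.ext (P₀.3 Q₀.isPGroup' h1).symm
  have := P₀.isPGroup'.isNilpotent
  set D' := D.subgroupOf (P₀ : Subgroup G) with hD'
  set U := Subgroup.normalizer (D' : Set ↥(P₀ : Subgroup G))
  have hDU : D' < U := Group.normalizerCondition_of_isNilpotent (G := ↥(P₀ : Subgroup G)) _ hDlt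
  let E := D'.subgroupOf U
  let ι := ↥U ⧸ E
  have hι : p ≤ Nat.card ι := by
    obtain ⟨k, hk⟩ := IsPGroup.iff_card.1 P₀.isPGroup'
    have hd : E.index ∣ p ^ k := by
      rw [← hk]; exact E.index_dvd_card.trans (Subgroup.card_subgroup_dvd_card U)
    obtain ⟨j, -, hj⟩ := (Nat.dvd_prime_pow hp).1 hd
    rcases j with _ | j
    · exfalso
      rw [pow_zero, Subgroup.index_eq_one] at hj
      exact not_le_of_gt hDU (Subgroup.subgroupOf_eq_top.1 hj)
    · show p ≤ E.index
      rw [hj]; exact Nat.le_self_pow (by omega) p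
  let T : Option ι → Sylow p G := fun o => o.elim P₀ fun q => (((q.out : ↥U) : ↥(P₀ : Subgroup G)) : G) • Q₀
  have hnorm : ∀ u : ↥U, ∀ y ∈ D, ((u : ↥(P₀ : Subgroup G)) : G)⁻¹ * y * ((u : ↥(P₀ : Subgroup G)) : G) ∈ D := by
    intro u y hy
    have := (Subgroup.mem_normalizer_iff''.1 u.2 (⟨y, hy.1⟩ : ↥(P₀ : Subgroup G))).1 hy
    exact this
  have hDT : ∀ o, D ≤ (T o : Subgroup G) := by
    rintro (_ | q) y hy
    · exact hy.1
    · refine ⟨_, (hnorm q.out y hy).2, ?_⟩
      show _ * (_ * y * _) * _⁻¹ = y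
      group
  have hfix : ∀ (u : G) (R : Sylow p G), u ∈ (P₀ : Subgroup G) → u • R = R → u ∈ (R : Subgroup G) := by
    intro u R hu hR
    obtain ⟨k, hk⟩ := IsPGroup.iff_orderOf.1 P₀.isPGroup' ⟨u, hu⟩
    rw [Subgroup.orderOf_mk] at hk
    have heq := R.3 ((IsPGroup.of_card (p := p) (G := Subgroup.zpowers u) (n := k)
      (by rw [Nat.card_zpowers, hk])).to_sup_of_normal_right' R.isPGroup'
        (Subgroup.zpowers_le.2 (Sylow.smul_eq_iff_mem_normalizer.1 hR))) le_sup_right
    rw [← heq]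
    exact Subgroup.mem_sup_left (Subgroup.mem_zpowers u)
  have hTinj : Function.Injective T := by
    have hP0 : ∀ q : ι, T (some q) ≠ P₀ := fun q h => by
      have h' : (((q.out : ↥U) : ↥(P₀ : Subgroup G)) : G) • Q₀ = P₀ := h
      apply hne
      rw [eq_inv_smul_iff.2 h']
      exact (Sylow.smul_eq_iff_mem_normalizer.2
        (Subgroup.le_normalizer (inv_mem (q.out : ↥U).1.2))).symm
    rintro (_ | q) (_ | r) h
    · rfl
    · exact absurd h.symm (hP0 r)
    · exact absurd h (hP0 q)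
    · have h1 : ((((r.out)⁻¹ * q.out : ↥U) : ↥(P₀ : Subgroup G)) : G) • Q₀ = Q₀ := by
        have h' : (((q.out : ↥U) : ↥(P₀ : Subgroup G)) : G) • Q₀ =
            (((r.out : ↥U) : ↥(P₀ : Subgroup G)) : G) • Q₀ := h
        simp only [Subgroup.coe_mul, Subgroup.coe_inv, mul_smul, h', inv_smul_smul]
      have h2 := hfix _ Q₀ ((r.out)⁻¹ * q.out : ↥U).1.2 h1
      rw [← q.out_eq', ← r.out_eq']
      congr 1
      refine (QuotientGroup.eq.2 ?_).symm
      show (((r.out)⁻¹ * q.out : ↥U) : ↥(P₀ : Subgroup G)) ∈ D'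
      exact ⟨((r.out)⁻¹ * q.out : ↥U).1.2, h2⟩
  have hint : ∀ o o', o ≠ o' → ∀ y, y ∈ (T o : Subgroup G) → y ∈ (T o' : Subgroup G) → y ∈ D := by
    intro o o' ho y hy hy'
    have h1 : D ≤ (T o : Subgroup G) ⊓ (T o' : Subgroup G) := le_inf (hDT o) (hDT o')
    have h2 := Subgroup.eq_of_le_of_card_ge h1 (hmax (T o, T o') fun h => ho (hTinj h))
    rw [h2]; exact ⟨hy, hy'⟩
  have hmem : ∀ (R : Sylow p G) (y : G), y ∈ (R : Subgroup G) → ∃ k, orderOf y = p ^ k := fun R y hy => by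
    obtain ⟨k, hk⟩ := IsPGroup.iff_orderOf.1 R.isPGroup' ⟨y, hy⟩
    exact ⟨k, by rwa [Subgroup.orderOf_mk] at hk⟩
  let φ : ↥D ⊕ (Σ o : Option ι, {y : G // y ∈ (T o : Subgroup G) ∧ y ∉ D}) →
      {g : G // ∃ k : ℕ, orderOf g = p ^ k} := Sum.elim
    (fun d => ⟨d, hmem P₀ d d.2.1⟩) (fun z => ⟨z.2, hmem (T z.1) z.2 z.2.2.1⟩)
  have hφ : Function.Injective φ := by
    rintro (d | ⟨o, y, hy, hyD⟩) (d' | ⟨o', y', hy', hyD'⟩) h <;>
      have h' := congrArg Subtype.val h <;> simp only [φ, Sum.elim_inl, Sum.elim_inr] at h'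
    · exact congrArg Sum.inl (Subtype.ext h')
    · exact absurd (h' ▸ d.2) hyD'
    · exact absurd (h'.symm ▸ d'.2) hyD
    · subst h'
      have : o = o' := by
        by_contra ho
        exact hyD (hint o o' ho y hy hy')
      subst this
      rfl
  have hle := Nat.card_le_card_of_injective φ hφ
  have hT : ∀ o, Nat.card {y : G // y ∈ (T o : Subgroup G) ∧ y ∉ D} =
      Nat.card (P : Subgroup G) - Nat.card D := fun o => by
    rw [show Nat.card {y : G // y ∈ (T o : Subgroup G) ∧ y ∉ D} =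
      (((T o : Subgroup G) : Set G) \ (D : Set G)).ncard from Nat.card_coe_set_eq _,
      Set.ncard_sdiff (hDT o), ← Nat.card_coe_set_eq, ← Nat.card_coe_set_eq]
    congr 1
    exact (T o).card_eq_multiplicity.trans P.card_eq_multiplicity.symm
  have := Fintype.ofFinite ι
  rw [Nat.card_sum, Nat.card_sigma, Finset.sum_congr rfl (fun o _ => hT o), Finset.sum_const,
    Finset.card_univ, smul_eq_mul, Fintype.card_option, ← Nat.card_eq_fintype_card] at hle
  have hDP : p * Nat.card D ≤ Nat.card (P : Subgroup G) := by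
    obtain ⟨k, hk⟩ := IsPGroup.iff_card.1 P₀.isPGroup'
    have hcd : Nat.card D' * D'.index = Nat.card (P : Subgroup G) := by
      rw [D'.card_mul_index]; exact P₀.card_eq_multiplicity.trans P.card_eq_multiplicity.symm
    have hcD : Nat.card D' = Nat.card D :=
      Nat.card_congr (Subgroup.subgroupOfEquivOfLe (inf_le_left : D ≤ (P₀ : Subgroup G))).toEquiv
    obtain ⟨j, -, hj⟩ := (Nat.dvd_prime_pow hp).1 (hk ▸ D'.index_dvd_card)
    rcases j with _ | j
    · exact absurd (Subgroup.index_eq_one.1 hj) hDlt.ne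
    · rw [← hcd, hcD, hj, mul_comm]
      exact Nat.mul_le_mul_left _ (Nat.le_self_pow (by omega) p)
  refine le_trans ?_ hle
  calc p * Nat.card (P : Subgroup G)
      ≤ Nat.card D + (p + 1) * (Nat.card (P : Subgroup G) - Nat.card D) := by
        obtain ⟨e, he⟩ := Nat.le.dest (le_trans (Nat.le_mul_of_pos_left _ hp.pos) hDP)
        rw [← he] at hDP ⊢
        rw [Nat.add_sub_cancel_left]
        nlinarith
    _ ≤ _ := by gcongr

end Cfsg.Agent.S4092
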