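import Cfsg.Statements.S4093
import Cfsg.Agent.FGSB.Small

set_option autoImplicit false
open scoped BigOperators
open Cfsg

namespace Cfsg.Agent.S4093

/-- Let G be a finite group with a normal subgroup N complementing a Sylow p-subgroup P (a normal p-complement). Then the number of elements of G of p-power order equals the sum over x ∈ P of the index of C_N(x) in N. -/
theorem result {G : Type*} [Group G] [Finite G] (p : ℕ) [Fact p.Prime]
    (P : Sylow p G) (N : Subgroup G) [N.Normal] (hNP : N.IsComplement' (P : Subgroup G)) :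
    Nat.card {g : G // ∃ k : ℕ, orderOf g = p ^ k} =
      ∑ᶠ x : (P : Subgroup G), Nat.card N / Nat.card ↥(N ⊓ Subgroup.centralizer ({(x : G)} : Set G)) := by
  classical
  have hp := (Fact.out : p.Prime)
  set f := QuotientGroup.mk' N with hf
  have hinj : ∀ x y : G, x ∈ (P : Subgroup G) → y ∈ (P : Subgroup G) → f x = f y → x = y := by
    intro x y hx hy h
    have h1 : x⁻¹ * y ∈ N := QuotientGroup.eq.1 h
    have h2 := Subgroup.disjoint_def.1 hNP.disjoint h1
      ((P : Subgroup G).mul_mem ((P : Subgroup G).inv_mem hx) hy)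
    exact inv_mul_eq_one.1 h2
  let A := {g : G // ∃ k : ℕ, orderOf g = p ^ k}
  -- every `p`-element is an `N`-conjugate of an element of `P`
  have hex : ∀ a : A, ∃ x : (P : Subgroup G), ∃ n ∈ N, n * (x : G) * n⁻¹ = a.1 := by
    intro a
    obtain ⟨k, hk⟩ := a.2
    obtain ⟨R, hR⟩ := (IsPGroup.of_card (p := p) (G := Subgroup.zpowers a.1) (n := k)
      (by rw [Nat.card_zpowers, hk])).exists_le_sylow
    obtain ⟨g, rfl⟩ := MulAction.exists_smul_eq G P R
    obtain ⟨⟨n, y⟩, rfl⟩ := hNP.2 g
    obtain ⟨w, hw, hw'⟩ := hR (Subgroup.mem_zpowers a.1)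
    change (n : G) * y * w * ((n : G) * y)⁻¹ = a.1 at hw'
    exact ⟨⟨y * w * (y : G)⁻¹, (P : Subgroup G).mul_mem ((P : Subgroup G).mul_mem y.2 hw)
      ((P : Subgroup G).inv_mem y.2)⟩, n, n.2, by rw [← hw']; group⟩
  choose π n hn hπ using hex
  have hfib : ∀ x : (P : Subgroup G), Nat.card {a : A // π a = x} =
      Nat.card N / Nat.card ↥(N ⊓ Subgroup.centralizer ({(x : G)} : Set G)) := by
    intro x
    set D := (N ⊓ Subgroup.centralizer ({(x : G)} : Set G)).subgroupOf N with hD
    have hmem : ∀ u v : ↥N, (u : G) * x * (u : G)⁻¹ = (v : G) * x * (v : G)⁻¹ ↔ u⁻¹ * v ∈ D := by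
      intro u v
      rw [hD, Subgroup.mem_subgroupOf, Subgroup.mem_inf, Subgroup.mem_centralizer_singleton_iff,
        and_iff_right (u⁻¹ * v).2]
      simp only [Subgroup.coe_mul, Subgroup.coe_inv]
      constructor
      · intro h
        calc (u : G)⁻¹ * v * x = (u : G)⁻¹ * ((v : G) * x * (v : G)⁻¹) * v := by group
          _ = (u : G)⁻¹ * ((u : G) * x * (u : G)⁻¹) * v := by rw [h]
          _ = x * ((u : G)⁻¹ * v) := by group
      · intro h
        calc (u : G) * x * (u : G)⁻¹ = (u : G) * (x * ((u : G)⁻¹ * v)) * (v : G)⁻¹ := by group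
          _ = (u : G) * ((u : G)⁻¹ * v * x) * (v : G)⁻¹ := by rw [h]
          _ = (v : G) * x * (v : G)⁻¹ := by group
    have hval : ∀ u : ↥N, ∃ k, orderOf ((u : G) * x * (u : G)⁻¹) = p ^ k := fun u => by
      obtain ⟨k, hk⟩ := IsPGroup.iff_orderOf.1 P.isPGroup' x
      exact ⟨k, by rw [show (u : G) * x * (u : G)⁻¹ = MulAut.conj (u : G) (x : G) by simp,
        MulEquiv.orderOf_eq, Subgroup.orderOf_coe, hk]⟩
    have hπeq : ∀ u : ↥N, π ⟨_, hval u⟩ = x := fun u => by
      refine Subtype.ext (hinj _ _ (π _).2 x.2 ?_)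
      have h := congrArg f (hπ ⟨_, hval u⟩)
      simp only [hf, map_mul, map_inv, QuotientGroup.mk'_apply, (QuotientGroup.eq_one_iff _).2 (hn _),
        (QuotientGroup.eq_one_iff (u : G)).2 u.2, one_mul, mul_one, inv_one] at h ⊢
      exact h
    have hcardD : Nat.card D = Nat.card ↥(N ⊓ Subgroup.centralizer ({(x : G)} : Set G)) :=
      Nat.card_congr (Subgroup.subgroupOfEquivOfLe inf_le_left).toEquiv
    rw [← hcardD, ← D.index_mul_card, Nat.mul_div_cancel _ Nat.card_pos]
    refine (Nat.card_congr (Equiv.ofBijective (fun q : ↥N ⧸ D => Quotient.liftOn' q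
      (fun u => (⟨⟨_, hval u⟩, hπeq u⟩ : {a : A // π a = x}))
      fun u v h => Subtype.ext (Subtype.ext ((hmem u v).2 (QuotientGroup.leftRel_apply.1 h)))) ⟨?_, ?_⟩)).symm
    · intro q q' h
      induction q using Quotient.inductionOn' with | h u => ?_
      induction q' using Quotient.inductionOn' with | h v => ?_
      exact Quotient.sound' (QuotientGroup.leftRel_apply.2
        ((hmem u v).1 (congrArg (fun z => z.1.1) h)))
    · rintro ⟨a, ha⟩
      refine ⟨QuotientGroup.mk ⟨n a, hn a⟩, Subtype.ext (Subtype.ext ?_)⟩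
      show n a * (x : G) * (n a)⁻¹ = a.1
      rw [← ha]; exact hπ a
  have := Fintype.ofFinite (P : Subgroup G)
  rw [finsum_eq_sum_of_fintype, ← Finset.sum_congr rfl (fun x _ => hfib x), ← Nat.card_sigma]
  exact Nat.card_congr (Equiv.sigmaFiberEquiv π).symm

end Cfsg.Agent.S4093
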