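-- Proof of statement S4097.
import Cfsg.Statements.S4097
import Cfsg.Agent.S0042
import Cfsg.Agent.Frobenius.Basic
import Cfsg.Agent.Comp.Basic

set_option autoImplicit false
set_option linter.style.haveILetI false
open Cfsg
open scoped Pointwise

namespace Cfsg.Agent.S4097

universe v

/-- If `A` centralizes every solvable overgroup and every proper overgroup, then it is central. -/
theorem step {G : Type v} [Group G] [Finite G] (A : Subgroup G) (hA : Group.IsSolvable A)
    (hc : ∀ S : Subgroup G, A ≤ S → Group.IsSolvable S → ∀ a ∈ A, ∀ s ∈ S, a * s = s * a)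
    (hmax : ∀ H : Subgroup G, A ≤ H → H ≠ ⊤ → H ≤ Subgroup.centralizer (A : Set G)) :
    A ≤ Subgroup.center G := by
  set C := Subgroup.centralizer (A : Set G) with hC
  have hAC : A ≤ C := fun a ha => Subgroup.mem_centralizer_iff.2 fun b hb => hc A le_rfl hA b hb a ha
  by_contra hnc
  have hCtop : C ≠ ⊤ := fun h => hnc fun a ha => Subgroup.mem_center_iff.2 fun g =>
    ((Subgroup.mem_centralizer_iff.1 (show g ∈ Subgroup.centralizer (A : Set G) by
      rw [← hC, h]; trivial)) a ha).symm
  have hnsolv : ¬ Group.IsSolvable G := by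
    intro h
    refine hnc fun a ha => Subgroup.mem_center_iff.2 fun g => ?_
    exact (hc ⊤ le_top inferInstance a ha g trivial).symm
  have hnotnormal : ¬ C.Normal := by
    intro hn
    refine hnc fun a ha => Subgroup.mem_center_iff.2 fun g => ?_
    have hz : A ≤ (Subgroup.center ↥C).map C.subtype := fun b hb =>
      ⟨⟨b, hAC hb⟩, Subgroup.mem_center_iff.2 fun c =>
        Subtype.ext ((Subgroup.mem_centralizer_iff.1 c.2) b hb).symm, rfl⟩
    set N := (Subgroup.center ↥C).map C.subtype with hN
    haveI : N.Normal := by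
      haveI := hn
      infer_instance
    haveI : Group.IsSolvable ↥(Subgroup.center ↥C) :=
      Group.isSolvable_of_comm fun a b => Subtype.ext ((Subgroup.mem_center_iff.1 b.2) a)
    have hNs : Group.IsSolvable N :=
      solvable_of_surjective (f := C.subtype.subgroupMap (Subgroup.center ↥C))
        (C.subtype.subgroupMap_surjective _)
    have hgs : Group.IsSolvable (Subgroup.zpowers g) := inferInstance
    exact (hc (Subgroup.zpowers g ⊔ N) (le_sup_of_le_right hz) (CfsgLib.Comp.isSolvable_sup hNs hgs)
      a ha g (Subgroup.mem_sup_left (Subgroup.mem_zpowers g))).symm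
  have hNC : Subgroup.normalizer (C : Set G) = C := le_antisymm
    (hmax _ (hAC.trans Subgroup.le_normalizer)
      fun h => hnotnormal (Subgroup.normalizer_eq_top_iff.1 h))
    Subgroup.le_normalizer
  have hout : ∀ g : G, g ∉ C → ¬ MulAut.conj g • A ≤ C := by
    intro g hg hle
    have hAC' : A ≤ MulAut.conj g • C := by
      intro a ha
      rw [CfsgLib.Frobenius.mem_conj_iff, hC, Subgroup.mem_centralizer_iff]
      intro b hb
      have h1 : MulAut.conj g b ∈ C := hle (Subgroup.smul_mem_pointwise_smul b (MulAut.conj g) A hb)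
      have h2 : a * (g * b * g⁻¹) = g * b * g⁻¹ * a := Subgroup.mem_centralizer_iff.1 h1 a ha
      have h3 := congrArg (fun w => g⁻¹ * w * g) h2
      simpa [mul_assoc] using h3.symm
    have hle' : MulAut.conj g • C ≤ C := hmax _ hAC' fun h => hCtop (by
      rw [← inv_smul_smul (MulAut.conj g) C, h]
      exact (Subgroup.eq_top_iff' _).2 fun x => by
        rw [Subgroup.mem_pointwise_smul_iff_inv_smul_mem]; trivial)
    refine hg (hNC ▸ ?_)
    rw [Subgroup.mem_normalizer_iff]
    have heq : MulAut.conj g • C = C := by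
      refine SetLike.coe_injective (Set.eq_of_subset_of_ncard_le hle' ?_)
      rw [Subgroup.coe_pointwise_smul, Set.ncard_smul_set]
    intro x
    conv_rhs => rw [← heq, CfsgLib.Frobenius.mem_conj_iff]
    simp [mul_assoc]
  set mk := QuotientGroup.mk' (Subgroup.center G) with hmk
  have hZC : Subgroup.center G ≤ C := Subgroup.center_le_centralizer _
  have hcm : ∀ x : G, mk x ∈ C.map mk → x ∈ C := fun x hx => by
    have : x ∈ (C.map mk).comap mk := hx
    rwa [Subgroup.comap_map_eq, hmk, QuotientGroup.ker_mk', sup_of_le_left hZC] at this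
  have hF : Cfsg.IsFrobeniusComplement (C.map mk) := by
    refine ⟨fun h => hnc (hAC.trans ?_), fun h => hCtop ?_, fun q hq => ?_⟩
    · rw [Subgroup.map_eq_bot_iff, hmk, QuotientGroup.ker_mk'] at h
      exact h
    · exact (Subgroup.eq_top_iff' C).2 fun x => hcm x (h ▸ Subgroup.mem_top _)
    · obtain ⟨g, rfl⟩ := QuotientGroup.mk'_surjective (Subgroup.center G) q
      have hg : g ∉ C := fun h => hq (Subgroup.mem_map_of_mem mk h)
      refine eq_bot_iff.2 ?_
      rintro x ⟨⟨y, hy, rfl⟩, hx2⟩
      replace hx2 : (mk g)⁻¹ * mk y * mk g ∈ C.map mk := CfsgLib.Frobenius.mem_conj_iff.1 hx2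
      rw [← map_inv, ← map_mul, ← map_mul] at hx2
      have hy2 : g⁻¹ * y * g ∈ C := hcm _ hx2
      rw [Subgroup.mem_bot, hmk, QuotientGroup.mk'_apply, QuotientGroup.eq_one_iff]
      by_contra hyz
      have hne : Subgroup.centralizer ({y} : Set G) ≠ ⊤ := fun h => hyz (by
        rw [Subgroup.mem_center_iff]
        intro z
        exact Subgroup.mem_centralizer_singleton_iff.1 (h ▸ Subgroup.mem_top z))
      have hAy : A ≤ Subgroup.centralizer ({y} : Set G) := fun a ha =>
        Subgroup.mem_centralizer_singleton_iff.2 ((Subgroup.mem_centralizer_iff.1 hy) a ha)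
      refine hout g hg fun w hw => hmax _ hAy hne ?_
      obtain ⟨b, hb, rfl⟩ : ∃ b ∈ A, g * b * g⁻¹ = w :=
        ⟨g⁻¹ * w * g, CfsgLib.Frobenius.mem_conj_iff.1 hw, by group⟩
      have h2 := Subgroup.mem_centralizer_iff.1 hy2 b hb
      have h3 := congrArg (fun u => g * u * g⁻¹) h2
      rw [Subgroup.mem_centralizer_singleton_iff]
      simpa [mul_assoc] using h3
  obtain ⟨N, hNk, hNn, hNnil⟩ := Cfsg.Agent.S0042.result (C.map mk) hF
  haveI := hNn
  haveI := hNnil
  have hdis : ∀ x ∈ N, x ∈ C.map mk → x = 1 := fun x hx hxC => by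
    have hx' : x ∈ Cfsg.frobeniusKernel (C.map mk) := hNk ▸ hx
    exact hx'.resolve_right fun h => h 1 (CfsgLib.Frobenius.mem_conj_iff.2 (by simpa using hxC))
  have hN1 : N ≠ ⊥ := fun h => by
    have := CfsgLib.Frobenius.card_frobeniusKernel hF
    rw [← hNk, h, Subgroup.coe_bot] at this
    simp at this
    exact hF.2.1 (Subgroup.index_eq_one.1 this.symm)
  set K := N.comap mk with hK
  haveI : K.Normal := Subgroup.Normal.comap hNn mk
  have hKs : Group.IsSolvable K := by
    haveI : Group.IsSolvable ↥(Subgroup.center G) :=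
      Group.isSolvable_of_comm fun a b => Subtype.ext ((Subgroup.mem_center_iff.1 b.2) a)
    refine solvable_of_ker_le_range (Subgroup.inclusion (show Subgroup.center G ≤ K from ?_))
      (mk.subgroupComap N) ?_
    · intro z hz
      show mk z ∈ N
      rw [show mk z = 1 from (QuotientGroup.eq_one_iff z).2 hz]
      exact one_mem _
    · intro z hz
      rw [MonoidHom.mem_ker] at hz
      have : (z : G) ∈ Subgroup.center G := (QuotientGroup.eq_one_iff _).1 (congrArg Subtype.val hz)
      exact ⟨⟨z, this⟩, Subtype.ext rfl⟩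
  have hSs : Group.IsSolvable ↥(K ⊔ A) := by
    rw [sup_comm]; exact CfsgLib.Comp.isSolvable_sup hKs hA
  by_cases hS : K ⊔ A = ⊤
  · exact hnsolv (solvable_of_surjective (f := (Subgroup.subtype (K ⊔ A)))
      fun g => ⟨⟨g, hS ▸ Subgroup.mem_top g⟩, rfl⟩)
  · refine hN1 ((Subgroup.eq_bot_iff_forall _).2 fun x hx => hdis x hx ?_)
    obtain ⟨g, rfl⟩ := QuotientGroup.mk'_surjective (Subgroup.center G) x
    exact Subgroup.mem_map_of_mem mk (hmax _ le_sup_right hS (Subgroup.mem_sup_left hx))

/-- Let A be a solvable subgroup of a finite group G such that A lies in the centre of every solvable subgroup of G containing A. Then A lies in the centre of G. -/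
theorem result {G : Type*} [Group G] [Finite G]
    (A : Subgroup G) (hA : Group.IsSolvable A)
    (hc : ∀ S : Subgroup G, A ≤ S → Group.IsSolvable S → ∀ a ∈ A, ∀ s ∈ S, a * s = s * a) : A ≤ Subgroup.center G := by
  suffices h : ∀ H : Subgroup G, A ≤ H → H ≤ Subgroup.centralizer (A : Set G) by
    intro a ha
    rw [Subgroup.mem_center_iff]
    intro g
    exact ((Subgroup.mem_centralizer_iff.1 (h ⊤ le_top (Subgroup.mem_top g))) a ha).symm
  intro H
  induction H using WellFoundedLT.induction with
  | ind H ih =>
    intro hAH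
    haveI := hA
    have hs : Group.IsSolvable (A.subgroupOf H) :=
      solvable_of_surjective (f := (Subgroup.subgroupOfEquivOfLe hAH).symm.toMonoidHom)
        (Subgroup.subgroupOfEquivOfLe hAH).symm.surjective
    have hz := step (A.subgroupOf H) hs (fun S hS hSs a ha s hs' => by
        haveI := hSs
        refine Subtype.ext (hc (S.map H.subtype) ?_ ?_ a ha s (Subgroup.mem_map_of_mem _ hs'))
        · exact fun x hx => ⟨⟨x, hAH hx⟩, hS hx, rfl⟩
        · exact solvable_of_surjective (f := H.subtype.subgroupMap S)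
            (H.subtype.subgroupMap_surjective S))
      (fun K hK hKt => by
        intro k hk
        have hlt : K.map H.subtype < H := lt_of_le_of_ne (Subgroup.map_subtype_le K) fun h => hKt (by
          rw [Subgroup.eq_top_iff']
          intro x
          obtain ⟨y, hy, hyx⟩ := h.ge x.2
          exact (Subtype.ext hyx : y = x) ▸ hy)
        have h := ih (K.map H.subtype) hlt (fun x hx => ⟨⟨x, hAH hx⟩, hK hx, rfl⟩)
          (Subgroup.mem_map_of_mem _ hk)
        rw [Subgroup.mem_centralizer_iff]
        intro b hb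
        exact Subtype.ext (Subgroup.mem_centralizer_iff.1 h b hb))
    intro x hx
    rw [Subgroup.mem_centralizer_iff]
    intro a ha
    exact congrArg Subtype.val
      ((Subgroup.mem_center_iff.1 (hz (show (⟨a, hAH ha⟩ : H) ∈ A.subgroupOf H from ha))) ⟨x, hx⟩).symm

end Cfsg.Agent.S4097
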