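import Cfsg.Statements.S4100
import Cfsg.Agent.AltLift.Main

set_option autoImplicit false
open Cfsg

namespace Cfsg.Agent.S4100

open CfsgLib.AltLift

universe u

/-- A group with solvable centralisers of non-central `p`-elements does not map onto a large alternating group. -/
theorem no_surjection {G : Type u} [Group G] [Finite G] (p : ℕ) [Fact p.Prime] (hp3 : p ≠ 3)
    (h : SolvableCentralizers p G) (d : ℕ) (hd : d = p + 5 + (if p = 2 then 2 else 0))
    (π : G →* alternatingGroup (Fin d)) (hπ : Function.Surjective π) : False := by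
  obtain ⟨H, hH, hmin⟩ := exists_minimal_of_wellFoundedLT (fun H : Subgroup G => H.map π = ⊤)
    ⟨⊤, Subgroup.map_top_of_surjective π hπ⟩
  let πH := π.comp H.subtype
  have hπH : Function.Surjective πH := fun a => by
    have : a ∈ H.map π := hH.symm ▸ Subgroup.mem_top a
    obtain ⟨x, hx, rfl⟩ := this
    exact ⟨⟨x, hx⟩, rfl⟩
  have hker : πH.ker ≤ frattini ↥H := by
    refine le_iInf₂ fun M hM => ?_
    by_contra hle
    have hsup : M ⊔ πH.ker = ⊤ := hM.2 _ (left_lt_sup.2 hle)
    have hmap : M.map πH = ⊤ := by
      have := congrArg (Subgroup.map πH) hsup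
      rwa [Subgroup.map_sup, (Subgroup.map_eq_bot_iff _).2 le_rfl, sup_bot_eq,
        Subgroup.map_top_of_surjective πH hπH] at this
    have h1 : (M.map H.subtype).map π = ⊤ := by rw [Subgroup.map_map]; exact hmap
    have h2 : H ≤ M.map H.subtype := hmin h1 (Subgroup.map_subtype_le M)
    refine hM.1 (eq_top_iff.2 fun x _ => ?_)
    obtain ⟨y, hy, he⟩ := h2 x.2
    exact Subtype.ext he ▸ hy
  have h5 : 5 ≤ d := by omega
  have hSH := h.subgroup H
  have hdisj : ∀ (a : ℕ) (e1 : Fin a ↪ Fin d) (b : ℕ) (e2 : Fin b ↪ Fin d),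
      (∀ i j, e1 i ≠ e2 j) → ∀ (g : alternatingGroup (Fin a)) (k : alternatingGroup (Fin b)),
      altEmbed e1 g * altEmbed e2 k = altEmbed e2 k * altEmbed e1 g := by
    intro a e1 b e2 hne g k
    refine Subtype.ext (Equiv.Perm.Disjoint.commute ?_).eq
    intro j
    by_cases hj : j ∈ Set.range e1
    · refine Or.inr (altEmbed_apply_not e2 k j ?_)
      rintro ⟨i, hi⟩
      obtain ⟨i', hi'⟩ := hj
      exact hne i' i (hi'.trans hi.symm)
    · exact Or.inl (altEmbed_apply_not e1 g j hj)
  rcases eq_or_ne p 2 with rfl | hp2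
  · have hd9 : d = 9 := by simpa using hd
    subst hd9
    let σ : alternatingGroup (Fin 9) := dswap 5 6 7 8 (by decide) (by decide)
    let e : Fin 5 ↪ Fin 9 := Fin.castLEEmb (by omega)
    refine false_of_minimal h5 πH hπH hker hSH σ (by decide +kernel) (by decide +kernel) (altEmbed e).range
      (not_solvable_range le_rfl e) ?_ (Or.inr fun V _ _ ρ hV hno w => eq_zero_two ρ hV hno w)
    rintro _ ⟨g, rfl⟩
    refine Subtype.ext (Equiv.Perm.Disjoint.commute ?_).eq
    intro j
    by_cases hj : j.val < 5
    · right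
      show ((Equiv.swap (5 : Fin 9) 6 * Equiv.swap 7 8 : Equiv.Perm (Fin 9))) j = j
      revert j; decide
    · left
      refine altEmbed_apply_not e g j ?_
      rintro ⟨i, rfl⟩
      exact hj i.2
  · have hd' : d = p + 5 := by simpa [hp2] using hd
    subst hd'
    have hp5 : 5 ≤ p := by
      have h2 := (Fact.out : p.Prime).two_le
      by_contra hlt
      have : p = 4 := by omega
      exact absurd (this ▸ (Fact.out : p.Prime)) (by decide)
    have hodd : Odd p := (Fact.out : p.Prime).odd_of_ne_two hp2
    let c : alternatingGroup (Fin p) := ⟨finRotate p, by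
      obtain ⟨k, rfl⟩ := hodd
      rw [Equiv.Perm.mem_alternatingGroup, sign_finRotate, Nat.add_sub_cancel, pow_mul]
      simp⟩
    let e1 : Fin p ↪ Fin (p + 5) := Fin.castAddEmb 5
    let e2 : Fin 5 ↪ Fin (p + 5) := Fin.natAddEmb p
    have hord : orderOf (finRotate p) = p := by
      rw [(isCycle_finRotate_of_le (by omega : 2 ≤ p)).orderOf, support_finRotate_of_le (by omega : 2 ≤ p),
        Finset.card_univ, Fintype.card_fin]
    have hσp : altEmbed e1 c ^ p = 1 := by
      rw [← map_pow]
      have : c ^ p = 1 := Subtype.ext (show finRotate p ^ p = 1 by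
        have := pow_orderOf_eq_one (finRotate p)
        rwa [hord] at this)
      rw [this, map_one]
    have hσ1 : altEmbed e1 c ≠ 1 := by
      intro h1
      have h2 : c = 1 := altEmbed_injective e1 (by rw [h1, map_one])
      have h3 : finRotate p = 1 := congrArg Subtype.val h2
      rw [h3, orderOf_one] at hord
      omega
    refine false_of_minimal h5 πH hπH hker hSH (altEmbed e1 c) hσp hσ1 (altEmbed e2).range
      (not_solvable_range le_rfl e2) ?_ ?_
    · rintro _ ⟨g, rfl⟩
      refine hdisj 5 e2 p e1 (fun i j hij => ?_) g c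
      have := congrArg Fin.val hij
      simp [e1, e2] at this
      omega
    · rcases eq_or_ne p 5 with rfl | hne
      · exact Or.inr fun V _ _ ρ hV hno w => eq_zero_five ρ hV hno w
      · refine Or.inl ?_
        rw [← Nat.card_congr (MonoidHom.ofInjective (altEmbed_injective e2)).toEquiv]
        have h60 : Nat.card (alternatingGroup (Fin 5)) = 60 := by
          rw [nat_card_alternatingGroup, Nat.card_eq_fintype_card, Fintype.card_fin]
          decide
        rw [h60]
        intro hdvd
        have hle := Nat.le_of_dvd (by norm_num) hdvd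
        have hp' := (Fact.out : p.Prime)
        have : p ∣ 2 ^ 2 * 3 * 5 := hdvd
        rcases (hp'.dvd_mul).1 this with h1 | h1
        · rcases (hp'.dvd_mul).1 h1 with h2 | h2
          · exact hp2 ((Nat.prime_dvd_prime_iff_eq hp' Nat.prime_two).1 (hp'.dvd_of_dvd_pow h2))
          · exact hp3 ((Nat.prime_dvd_prime_iff_eq hp' Nat.prime_three).1 h2)
        · exact hne ((Nat.prime_dvd_prime_iff_eq hp' (by norm_num)).1 h1)

/-- Let G be a finite group and p a prime other than 3 such that the centralizer of every non-central element of p-power order is solvable. Then every alternating group of degree at least 5 involved in G (as a section) has degree at most p + 4, or at most p + 6 = 8 when p = 2. -/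
theorem result {G : Type*} [Group G] [Finite G] (p : ℕ) [Fact p.Prime] (hp3 : p ≠ 3)
    (h : ∀ x : G, x ∉ Subgroup.center G → (∃ k : ℕ, orderOf x = p ^ k) → Group.IsSolvable (Subgroup.centralizer ({x} : Set G)))
    (d : ℕ) (hd : 5 ≤ d) (hinv : Cfsg.Involves (alternatingGroup (Fin d)) G) :
    d ≤ p + 4 + (if p = 2 then 2 else 0) := by
  by_contra hgt
  push Not at hgt
  obtain ⟨K, R, hR, ⟨iso⟩⟩ := hinv
  let π : ↥K →* alternatingGroup (Fin d) := iso.toMonoidHom.comp (QuotientGroup.mk' (R.subgroupOf K))
  have hπ : Function.Surjective π := iso.surjective.comp (QuotientGroup.mk'_surjective _)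
  have hK : CfsgLib.AltLift.SolvableCentralizers p ↥K := CfsgLib.AltLift.SolvableCentralizers.subgroup h K
  let e : Fin (p + 5 + (if p = 2 then 2 else 0)) ↪ Fin d := Fin.castLEEmb (by omega)
  let J := (CfsgLib.AltLift.altEmbed e).range
  let πJ : ↥(J.comap π) →* ↥J :=
    { toFun := fun x => ⟨π x, x.2⟩
      map_one' := Subtype.ext (map_one π)
      map_mul' := fun a b => Subtype.ext (map_mul π _ _) }
  have hπJ : Function.Surjective πJ := fun y => by
    obtain ⟨x, hx⟩ := hπ y
    exact ⟨⟨x, show π x ∈ J from hx ▸ y.2⟩, Subtype.ext hx⟩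
  exact no_surjection p hp3 (hK.subgroup _) _ rfl
    ((MonoidHom.ofInjective (CfsgLib.AltLift.altEmbed_injective e)).symm.toMonoidHom.comp πJ)
    ((MonoidHom.ofInjective (CfsgLib.AltLift.altEmbed_injective e)).symm.surjective.comp hπJ)

end Cfsg.Agent.S4100
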