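import Cfsg.Statements.S4104
import Cfsg.Agent.PiClasses.Derived

set_option autoImplicit false
open Cfsg

namespace Cfsg.Agent.S4104

/-- Let G be a finite group, π a set of primes with least member p, m the π-part of the order of G and k the number of conjugacy classes of G consisting of π-elements (elements whose order is divisible only by primes in π). If k > m/p, then G has a nilpotent Hall π-subgroup (a nilpotent subgroup of order m) whose derived subgroup has order at most p. -/
theorem result {G : Type*} [Group G] [Finite G]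
    (π : Set ℕ) (hπ : ∀ q ∈ π, q.Prime) (p : ℕ) (hp : p ∈ π) (hmin : ∀ q ∈ π, p ≤ q)
    (m : ℕ) (hm : m ∣ Nat.card G) (hmπ : ∀ q : ℕ, q.Prime → q ∣ m → q ∈ π)
    (hm' : ∀ q ∈ π, ¬ q ∣ Nat.card G / m)
    (k : ℕ) (hk : k = Nat.card {C : ConjClasses G // ∀ q : ℕ, q.Prime → (∃ g : G, ConjClasses.mk g = C ∧ q ∣ orderOf g) → q ∈ π})
    (hmany : m < p * k) :
    ∃ H : Subgroup G, Nat.card H = m ∧ Group.IsNilpotent H ∧ Nat.card (commutator H) ≤ p := by
  obtain ⟨H, hH, hHn, hcl⟩ := CfsgLib.PiClasses.exists_hall_with_classes π hπ p (hπ p hp).two_le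
    hmin m hm hmπ hm' k hk hmany
  refine ⟨H, hH, hHn, ?_⟩
  have hb := CfsgLib.PiClasses.index_add_sq_mul_classes_le (G := H) (p := p)
    fun q hq hd => hmin q (hmπ q hq (hH ▸ hd))
  have hc := (commutator H).card_mul_index
  set d := Nat.card (commutator H)
  set i := (commutator H).index
  rw [hH] at hc hb
  have hi : 0 < i := Nat.pos_of_ne_zero Subgroup.index_ne_zero_of_finite
  have hp2 := (hπ p hp).two_le
  have hbig : m < p * Nat.card (ConjClasses H) :=
    lt_of_lt_of_le hmany (Nat.mul_le_mul_left p hcl)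
  subst hc
  by_contra hd
  push Not at hd
  zify at hb hbig hd hi hp2
  nlinarith [mul_lt_mul_of_pos_left hbig (show (0:ℤ) < p by linarith),
    mul_le_mul_of_nonneg_left (show (p:ℤ) + 1 ≤ d by linarith)
      (mul_nonneg hi.le (show (0:ℤ) ≤ p - 1 by linarith))]

end Cfsg.Agent.S4104
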