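import Cfsg.Statements.S4105
import Cfsg.Agent.PiClasses.Derived

set_option autoImplicit false
open Cfsg

namespace Cfsg.Agent.S4105

/-- Let G be a finite group, π a set of primes with least member p, m the π-part of the order of G and k the number of conjugacy classes of G consisting of π-elements. If k > m·(p² + p − 1)/p³, then G has an abelian Hall π-subgroup (an abelian subgroup of order m). -/
theorem result {G : Type*} [Group G] [Finite G]
    (π : Set ℕ) (hπ : ∀ q ∈ π, q.Prime) (p : ℕ) (hp : p ∈ π) (hmin : ∀ q ∈ π, p ≤ q)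
    (m : ℕ) (hm : m ∣ Nat.card G) (hmπ : ∀ q : ℕ, q.Prime → q ∣ m → q ∈ π)
    (hm' : ∀ q ∈ π, ¬ q ∣ Nat.card G / m)
    (k : ℕ) (hk : k = Nat.card {C : ConjClasses G // ∀ q : ℕ, q.Prime → (∃ g : G, ConjClasses.mk g = C ∧ q ∣ orderOf g) → q ∈ π})
    (hmany : m * (p ^ 2 + p - 1) < p ^ 3 * k) :
    ∃ H : Subgroup G, Nat.card H = m ∧ IsMulCommutative H := by
  have hp' := hπ p hp
  have hp2 := hp'.two_le
  have hmany' : m < p * k := by
    refine Nat.lt_of_mul_lt_mul_left (a := p ^ 2) ?_
    calc p ^ 2 * m ≤ m * (p ^ 2 + p - 1) := by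
          rw [mul_comm]; exact Nat.mul_le_mul_left m (by omega)
      _ < p ^ 3 * k := hmany
      _ = _ := by ring
  obtain ⟨H, hH, -, hcl⟩ := CfsgLib.PiClasses.exists_hall_with_classes π hπ p hp2
    hmin m hm hmπ hm' k hk hmany'
  refine ⟨H, hH, ?_⟩
  have hb := CfsgLib.PiClasses.index_add_sq_mul_classes_le (G := H) (p := p)
    fun q hq hd => hmin q (hmπ q hq (hH ▸ hd))
  have hc := (commutator H).card_mul_index
  have hdd : ∀ q : ℕ, q.Prime → q ∣ Nat.card (commutator H) → p ≤ q := fun q hq hd =>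
    hmin q (hmπ q hq (hH ▸ hd.trans (Subgroup.card_subgroup_dvd_card _)))
  set d := Nat.card (commutator H)
  set i := (commutator H).index
  rw [hH] at hc hb
  have hi : 0 < i := Nat.pos_of_ne_zero Subgroup.index_ne_zero_of_finite
  have hdp : d < p := by
    have hbig : m * (p ^ 2 + p - 1) < p ^ 3 * Nat.card (ConjClasses H) :=
      lt_of_lt_of_le hmany (Nat.mul_le_mul_left _ hcl)
    subst hc
    by_contra hd
    push Not at hd
    have h1 : 1 ≤ p ^ 2 + p := by omega
    zify [h1] at hb hbig hd hi hp2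
    nlinarith [mul_le_mul_of_nonneg_left hb (show (0:ℤ) ≤ p by linarith),
      mul_le_mul_of_nonneg_left hd
        (mul_nonneg hi.le (show (0:ℤ) ≤ p ^ 2 - 1 by nlinarith))]
  have hd1 : d = 1 := by
    by_contra hne
    obtain ⟨q, hq, hqd⟩ := Nat.exists_prime_and_dvd hne
    have := hdd q hq hqd
    have := Nat.le_of_dvd Nat.card_pos hqd
    omega
  have hbot : commutator H = ⊥ := Subgroup.eq_bot_of_card_eq _ hd1
  refine ⟨⟨fun a b => commutatorElement_eq_one_iff_mul_comm.1 (Subgroup.mem_bot.1 (hbot ▸ ?_))⟩⟩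
  rw [commutator_def]
  exact Subgroup.commutator_mem_commutator (Subgroup.mem_top a) (Subgroup.mem_top b)

end Cfsg.Agent.S4105
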