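import Cfsg.Statements.S4106
import Cfsg.Agent.FGSA.ClassCount

set_option autoImplicit false
open Cfsg

namespace Cfsg.Agent.S4106

/-- Let G be a finite group, π a set of primes and m the π-part of the order of G. Then the number of conjugacy classes of G consisting of π-elements (elements whose order is divisible only by primes in π) is at most m. -/
theorem result {G : Type*} [Group G] [Finite G]
    (π : Set ℕ) (hπ : ∀ q ∈ π, q.Prime)
    (m : ℕ) (hm : m ∣ Nat.card G) (hmπ : ∀ q : ℕ, q.Prime → q ∣ m → q ∈ π)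
    (hm' : ∀ q ∈ π, ¬ q ∣ Nat.card G / m) :
    Nat.card {C : ConjClasses G // ∀ q : ℕ, q.Prime → (∃ g : G, ConjClasses.mk g = C ∧ q ∣ orderOf g) → q ∈ π} ≤ m := by
  classical
  set π' : Finset ℕ := (Nat.card G).primeFactors.filter (· ∈ π) with hπ'
  have h1 := CfsgLib.FGSA.card_piClasses_le π'
    (fun s hs => Nat.prime_of_mem_primeFactors (Finset.mem_filter.1 hs).1) G
  have hm0 : 0 < m := Nat.pos_of_dvd_of_pos hm Nat.card_pos
  have hprod : π'.prod (fun s => s ^ (Nat.card G).factorization s) ∣ m := by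
    obtain ⟨c, hc⟩ := hm
    have hc' : Nat.card G / m = c := by rw [hc]; exact Nat.mul_div_cancel_left c hm0
    refine Nat.Coprime.dvd_of_dvd_mul_right (n := c) ?_ ?_
    · refine Nat.Coprime.prod_left fun s hs => ?_
      obtain ⟨hs1, hs2⟩ := Finset.mem_filter.1 hs
      refine Nat.Coprime.pow_left _ ((Nat.prime_of_mem_primeFactors hs1).coprime_iff_not_dvd.2 ?_)
      rw [← hc']
      exact hm' s hs2
    · rw [← hc]
      conv_rhs => rw [← Nat.prod_factorization_pow_eq_self (n := Nat.card G) Nat.card_pos.ne']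
      rw [Finsupp.prod, Nat.support_factorization]
      exact Finset.prod_dvd_prod_of_subset _ _ _ (Finset.filter_subset _ _)
  refine (le_trans ?_ h1).trans (Nat.le_of_dvd hm0 hprod)
  refine Nat.card_le_card_of_injective (fun C => ⟨C.1, fun x hx r hr hd => ?_⟩) fun a b h => ?_
  · refine Finset.mem_filter.2 ⟨?_, C.2 r hr ⟨x, ConjClasses.mem_carrier_iff_mk_eq.1 hx, hd⟩⟩
    exact Nat.mem_primeFactors.2 ⟨hr, hd.trans (orderOf_dvd_natCard x), Nat.card_pos.ne'⟩
  · exact Subtype.ext (by simpa using congrArg Subtype.val h)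

end Cfsg.Agent.S4106
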