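import Cfsg.Statements.S4108
import Cfsg.Agent.Frobenius.Semidirect

set_option autoImplicit false
open Cfsg

namespace Cfsg.Agent.S4108

/-- Let G be a finite group, p a prime and N a proper non-trivial normal p-subgroup such that for every x outside N all elements of the coset xN have the same order as x. Then every non-trivial subgroup H of G of order prime to p acts fixed-point-freely on N: NH is a Frobenius group with complement H and kernel N. -/
theorem result {G : Type*} [Group G] [Finite G] (N : Subgroup G) [N.Normal] (hN1 : N ≠ ⊥) (hN2 : N ≠ ⊤)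
    (heq : ∀ x : G, x ∉ N → ∀ n ∈ N, orderOf (x * n) = orderOf x)
    (p : ℕ) [Fact p.Prime] (hNp : IsPGroup p N) :
    ∀ H : Subgroup G, H ≠ ⊥ → (Nat.card H).Coprime p →
      Cfsg.IsFrobeniusComplement (H.subgroupOf (N ⊔ H)) ∧ Cfsg.frobeniusKernel (H.subgroupOf (N ⊔ H)) = (N.subgroupOf (N ⊔ H) : Set ↥(N ⊔ H)) := by
  intro H hH hcop
  set S := N ⊔ H
  have hdisj : ∀ y ∈ N, y ∈ H → y = 1 := fun y hyN hyH => by
    obtain ⟨k, hk⟩ := IsPGroup.iff_orderOf.1 hNp ⟨y, hyN⟩
    rw [Subgroup.orderOf_mk] at hk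
    rw [← orderOf_eq_one_iff]
    exact Nat.eq_one_of_dvd_coprimes (hcop.pow_right k) (H.orderOf_dvd_natCard hyH) (hk ▸ dvd_rfl)
  have hc : Subgroup.IsComplement' (N.subgroupOf S) (H.subgroupOf S) := by
    refine Subgroup.isComplement'_of_disjoint_and_mul_eq_univ
      (Subgroup.disjoint_def.2 fun {u} h1 h2 => Subtype.ext (hdisj u h1 h2)) (Set.eq_univ_of_forall ?_)
    rintro ⟨u, hu⟩
    have hu' : u ∈ ((N ⊔ H : Subgroup G) : Set G) := hu
    rw [Subgroup.normal_mul] at hu'
    obtain ⟨n, hn, h, hh, rfl⟩ := Set.mem_mul.1 hu'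
    exact Set.mem_mul.2 ⟨⟨n, Subgroup.mem_sup_left hn⟩, hn, ⟨h, Subgroup.mem_sup_right hh⟩, hh, rfl⟩
  have hne : ∀ (A : Subgroup G), A ≤ S → A ≠ ⊥ → A.subgroupOf S ≠ ⊥ := by
    intro A hA hA1 h
    obtain ⟨u, hu, hu1⟩ := A.bot_or_exists_ne_one.resolve_left hA1
    have : (⟨u, hA hu⟩ : ↥S) ∈ A.subgroupOf S := hu
    rw [h, Subgroup.mem_bot] at this
    exact hu1 (congrArg Subtype.val this)
  have hfrob : Cfsg.IsFrobeniusComplement (H.subgroupOf S) := by
    refine CfsgLib.Frobenius.of_fpf hc (hne N le_sup_left hN1) (hne H le_sup_right hH) ?_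
    intro h hh hh1 k hk hcomm
    have hhN : (h : G) ∉ N := fun h' => hh1 (Subtype.ext (hdisj _ h' hh))
    have hcomm' : Commute (h : G) (k : G) := congrArg Subtype.val hcomm
    obtain ⟨j, hj⟩ := IsPGroup.iff_orderOf.1 hNp ⟨(k : G), hk⟩
    rw [← Subgroup.orderOf_coe] at hj
    change orderOf (k : G) = p ^ j at hj
    have hco : (orderOf (h : G)).Coprime (orderOf (k : G)) := by
      rw [hj]
      exact (hcop.coprime_dvd_left (H.orderOf_dvd_natCard hh)).pow_right j
    have h1 := heq (h : G) hhN (k : G) hk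
    rw [hcomm'.orderOf_mul_eq_mul_orderOf_of_coprime hco] at h1
    have h2 : orderOf (k : G) = 1 := Nat.eq_of_mul_eq_mul_left (orderOf_pos (h : G)) (by rw [h1, mul_one])
    exact Subtype.ext (orderOf_eq_one_iff.1 h2)
  exact ⟨hfrob, CfsgLib.Frobenius.kernel_eq hfrob hc⟩

end Cfsg.Agent.S4108
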