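import Cfsg.Statements.S4112
import Cfsg.Agent.FGSB.Small
import Mathlib.GroupTheory.Frattini
import Cfsg.Agent.Solvable.PGroupBasic

set_option autoImplicit false
open Cfsg

namespace Cfsg.Agent.S4112

/-- Let G be a finite group and M ≤ N non-trivial proper normal subgroups such that for every g outside N the conjugacy class of g is a union of cosets of M (equivalently gm is conjugate to g for every m ∈ M). Then (1) and (2) below are equivalent, and they imply (3): (1) every g outside N acts fixed-point-freely on M, that is C_G(x) ≤ N for every x ∈ M, x ≠ 1; (2) the index of N in G is coprime to the order of M; (3) there is a subgroup H of G with HN = G and H ∩ M = 1. -/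
theorem result {G : Type*} [Group G] [Finite G] (N M : Subgroup G) [N.Normal] [M.Normal] (hMN : M ≤ N) (hM1 : M ≠ ⊥) (hN2 : N ≠ ⊤)
    (hcam : ∀ g : G, g ∉ N → ∀ m ∈ M, ∃ x : G, x * g * x⁻¹ = g * m) :
    ((∀ x ∈ M, x ≠ 1 → Subgroup.centralizer ({x} : Set G) ≤ N) ↔ N.index.Coprime (Nat.card M)) ∧
    ((∀ x ∈ M, x ≠ 1 → Subgroup.centralizer ({x} : Set G) ≤ N) → ∃ H : Subgroup G, H ⊔ N = ⊤ ∧ H ⊓ M = ⊥) := by
  classical
  have h21 : N.index.Coprime (Nat.card M) → ∀ x ∈ M, x ≠ 1 → Subgroup.centralizer ({x} : Set G) ≤ N := by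
    intro hcop x hx hx1 g hg
    by_contra hgN
    obtain ⟨a, b, hab, hcp, ha, hb⟩ := CfsgLib.Hall.exists_pi_split (Subgroup.zpowers g) (fun r => r ∣ N.index)
    rw [Nat.card_zpowers] at hab
    set h := g ^ b with hh
    have hhN : h ∉ N := by
      intro hmem
      apply hgN
      rw [← QuotientGroup.eq_one_iff, ← orderOf_eq_one_iff]
      have h1 : orderOf (g : G ⧸ N) ∣ b := orderOf_dvd_of_pow_eq_one (by
        rw [← QuotientGroup.mk_pow, QuotientGroup.eq_one_iff]; exact hmem)
      have h2 : orderOf (g : G ⧸ N) ∣ N.index := orderOf_dvd_natCard _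
      by_contra hne
      obtain ⟨r, hr, hrd⟩ := Nat.exists_prime_and_dvd hne
      exact hb r hr (hrd.trans h1) (hrd.trans h2)
    have hho : orderOf h ∣ a := orderOf_dvd_of_pow_eq_one (by
      rw [hh, ← pow_mul, mul_comm, ← hab, pow_orderOf_eq_one])
    have hco : (orderOf h).Coprime (orderOf x) := by
      refine Nat.coprime_of_dvd fun r hr h1 h2 => ?_
      exact hr.not_dvd_one (hcop ▸ Nat.dvd_gcd (ha r hr (h1.trans hho)) (h2.trans (M.orderOf_dvd_natCard hx)))
    have hcomm : Commute h x := (show Commute g x from Subgroup.mem_centralizer_singleton_iff.1 hg).pow_left b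
    obtain ⟨c, hc⟩ := hcam h hhN x hx
    have h3 : orderOf (h * x) = orderOf h := by
      rw [← hc]; exact MulEquiv.orderOf_eq (MulAut.conj c) h
    rw [hcomm.orderOf_mul_eq_mul_orderOf_of_coprime hco] at h3
    have h4 : orderOf x = 1 := Nat.eq_of_mul_eq_mul_left (orderOf_pos h) (by rw [h3, mul_one])
    exact hx1 (orderOf_eq_one_iff.1 h4)
  have h12 : (∀ x ∈ M, x ≠ 1 → Subgroup.centralizer ({x} : Set G) ≤ N) → N.index.Coprime (Nat.card M) := by
    intro h1
    refine Nat.coprime_of_dvd fun p hp hpi hpM => ?_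
    have := Fact.mk hp
    obtain ⟨P⟩ := (inferInstance : Nonempty (Sylow p G))
    have hPN : ¬ (P : Subgroup G) ≤ N := fun h => P.not_dvd_index (hpi.trans (Subgroup.index_dvd_of_le h))
    obtain ⟨R⟩ := (inferInstance : Nonempty (Sylow p ↥M))
    -- `P` meets `M` nontrivially
    have hPM : (P : Subgroup G) ⊓ M ≠ ⊥ := by
      intro hbot
      obtain ⟨R', hR'⟩ := (R.isPGroup'.map M.subtype).exists_le_sylow
      obtain ⟨c, rfl⟩ := MulAction.exists_smul_eq G P R'
      obtain ⟨k, hk⟩ := IsPGroup.iff_card.1 R.isPGroup'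
      have hk0 : k ≠ 0 := by
        rintro rfl
        rw [R.card_eq_multiplicity, pow_zero] at hk
        exact absurd hk ((Nat.one_lt_pow
          ((Nat.Prime.factorization_pos_of_dvd hp Nat.card_pos.ne' hpM).ne') hp.one_lt).ne')
      obtain ⟨r, hr⟩ := exists_prime_orderOf_dvd_card' (G := (R : Subgroup ↥M)) p (hk ▸ dvd_pow_self p hk0)
      obtain ⟨w, hw, hw'⟩ := hR' (Subgroup.mem_map_of_mem M.subtype r.2)
      change c * w * c⁻¹ = ((r : ↥M) : G) at hw'
      have hwM : w ∈ M := by
        have := Subgroup.Normal.conj_mem ‹M.Normal› _ (r : ↥M).2 c⁻¹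
        rw [← hw'] at this
        simpa [mul_assoc] using this
      have hw1 : w ∈ (P : Subgroup G) ⊓ M := ⟨hw, hwM⟩
      rw [hbot, Subgroup.mem_bot] at hw1
      rw [hw1, mul_one, mul_inv_cancel] at hw'
      have : (r : ↥M) = 1 := Subtype.ext hw'.symm
      rw [← Subgroup.orderOf_coe, this, orderOf_one] at hr
      exact hp.ne_one hr.symm
    set Z := (M.subgroupOf (P : Subgroup G)) with hZ
    have hZne : Z ≠ ⊥ := by
      intro h
      apply hPM
      rw [eq_bot_iff]
      intro u hu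
      have : (⟨u, hu.1⟩ : ↥(P : Subgroup G)) ∈ Z := hu.2
      rw [h, Subgroup.mem_bot] at this
      exact congrArg Subtype.val this
    have := P.isPGroup'.isNilpotent
    obtain ⟨x, hx, hx1⟩ := (Subgroup.bot_or_exists_ne_one _).resolve_left
      (CfsgLib.PGroupBasic.inf_center_ne_bot Z hZne)
    obtain ⟨hxZ, hxc⟩ := Subgroup.mem_inf.1 hx
    apply hPN
    refine le_trans ?_ (h1 (x : G) hxZ (fun h => hx1 (Subtype.ext h)))
    intro g hg
    exact Subgroup.mem_centralizer_singleton_iff.2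
      (congrArg Subtype.val (Subgroup.mem_center_iff.1 hxc ⟨g, hg⟩))
  refine ⟨⟨h12, h21⟩, fun h1 => ?_⟩
  have hcop := h12 h1
  obtain ⟨H, hH, hmin⟩ := Set.exists_min_image {H : Subgroup G | H ⊔ N = ⊤} (fun H => Nat.card H)
    (Set.toFinite _) ⟨⊤, top_sup_eq N⟩
  refine ⟨H, hH, Subgroup.eq_bot_of_card_eq _ ?_⟩
  -- every prime dividing `|H|` divides the index of `N`
  by_contra hne
  obtain ⟨p, hp, hpd⟩ := Nat.exists_prime_and_dvd hne
  have := Fact.mk hp
  have hpi : ¬ p ∣ N.index := fun h =>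
    hp.not_dvd_one (hcop ▸ Nat.dvd_gcd h (hpd.trans (Subgroup.card_dvd_of_le inf_le_right)))
  obtain ⟨Q⟩ := (inferInstance : Nonempty (Sylow p ↥H))
  set F := N.subgroupOf H
  -- a minimal supplement meets `N` inside the Frattini subgroup
  have hFrat : F ≤ frattini ↥H := by
    refine le_iInf₂ fun X hX => ?_
    by_contra hXF
    have htop : X ⊔ F = ⊤ := hX.2 _ (lt_of_le_of_ne le_sup_left (fun h => hXF (h.symm ▸ le_sup_right)))
    have h2 : X.map H.subtype ⊔ N = ⊤ := by
      rw [eq_top_iff, ← hH]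
      refine sup_le (fun u hu => ?_) le_sup_right
      have h3 := Subgroup.map_mono (f := H.subtype) htop.ge (Subgroup.mem_map_of_mem H.subtype (Subgroup.mem_top ⟨u, hu⟩))
      rw [Subgroup.map_sup] at h3
      have hle : F.map H.subtype ≤ N := by
        rintro _ ⟨y, hy, rfl⟩; exact hy
      exact sup_le_sup_left hle _ h3
    have h3 := hmin _ h2
    rw [Subgroup.card_map_of_injective H.subtype_injective] at h3
    exact hX.1 (Subgroup.eq_top_of_le_card _ h3)
  have hQF : (Q : Subgroup ↥H) ≤ F := by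
    intro u hu
    rw [Subgroup.mem_subgroupOf, ← QuotientGroup.eq_one_iff, ← orderOf_eq_one_iff]
    obtain ⟨k, hk⟩ := IsPGroup.iff_orderOf.1 Q.isPGroup' ⟨u, hu⟩
    rw [Subgroup.orderOf_mk] at hk
    refine Nat.eq_one_of_dvd_coprimes ((hp.coprime_iff_not_dvd.2 hpi).pow_left k) ?_ (orderOf_dvd_natCard _)
    rw [← hk]
    exact orderOf_map_dvd ((QuotientGroup.mk' N).comp H.subtype) u
  have hn : (Q : Subgroup ↥H).Normal := by
    have hQΦ : (Q : Subgroup ↥H) ≤ frattini ↥H := hQF.trans hFrat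
    have hnil : Group.IsNilpotent (frattini ↥H) := frattini_nilpotent
    let Q' : Sylow p ↥(frattini ↥H) := Q.subtype hQΦ
    have : (Q' : Subgroup ↥(frattini ↥H)).Normal := inferInstance
    have := Q'.characteristic_of_normal this
    have h4 : ((Q' : Subgroup ↥(frattini ↥H)).map (frattini ↥H).subtype).Normal := inferInstance
    rwa [Sylow.coe_subtype, Subgroup.map_subgroupOf_eq_of_le hQΦ] at h4
  obtain ⟨K, hK⟩ := Subgroup.exists_right_complement'_of_coprime (N := (Q : Subgroup ↥H)) Q.card_coprime_index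
  have hKtop : K ⊔ frattini ↥H = ⊤ := by
    rw [eq_top_iff, ← hK.sup_eq_top, sup_comm K]
    exact sup_le_sup_right (hQF.trans hFrat) K
  have hK1 := frattini_nongenerating hKtop
  have h5 := hK.card_mul
  rw [hK1, Subgroup.card_top] at h5
  have h6 : Nat.card (Q : Subgroup ↥H) = 1 :=
    Nat.eq_of_mul_eq_mul_right (Nat.card_pos (α := ↥H)) (h5.trans (one_mul _).symm)
  rw [Q.card_eq_multiplicity] at h6
  exact absurd h6 (Nat.one_lt_pow ((Nat.Prime.factorization_pos_of_dvd hp Nat.card_pos.ne'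
    (hpd.trans (Subgroup.card_dvd_of_le inf_le_left))).ne') hp.one_lt).ne' 

end Cfsg.Agent.S4112
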