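import Cfsg.Statements.S4113
import Mathlib.Algebra.Group.Subgroup.Pointwise
import Mathlib.Algebra.Group.Subgroup.Finite
import Mathlib.GroupTheory.Subgroup.Centralizer
import Mathlib.Tactic.Group

set_option autoImplicit false
open Cfsg

namespace Cfsg.Agent.S4113

/-- Let G be a finite group, M ≤ N non-trivial proper normal subgroups, and H a subgroup with HM = G and H ∩ M = 1. Then every element of G outside N acts fixed-point-freely on M (C_G(x) ≤ N for every x ∈ M, x ≠ 1) if and only if H ∩ gHg⁻¹ ≤ H ∩ N for every g outside H, with H proper and non-trivial and H ∩ N proper in H. -/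
theorem result {G : Type*} [Group G] [Finite G] (N M : Subgroup G) [N.Normal] [M.Normal] (hMN : M ≤ N) (hM1 : M ≠ ⊥) (hN2 : N ≠ ⊤)
    (H : Subgroup G) (hHM : H ⊔ M = ⊤) (hHM' : H ⊓ M = ⊥) :
    (∀ x ∈ M, x ≠ 1 → Subgroup.centralizer ({x} : Set G) ≤ N) ↔
      (H ≠ ⊥ ∧ H ≠ ⊤ ∧ H ⊓ N < H ∧ ∀ g : G, g ∉ H → H ⊓ H.map (MulAut.conj g).toMonoidHom ≤ N) := by
  classical
  open scoped Pointwise in
  have hprod : ∀ g : G, ∃ m ∈ M, ∃ h ∈ H, g = m * h := by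
    intro g
    have hg : g ∈ (M : Set G) * (H : Set G) := by
      rw [← Subgroup.normal_mul, sup_comm, hHM]; trivial
    obtain ⟨m, hm, h, hh, e⟩ := hg
    exact ⟨m, hm, h, hh, e.symm⟩
  have hdis : ∀ x, x ∈ H → x ∈ M → x = 1 := fun x h1 h2 => Subgroup.mem_bot.1 (hHM' ▸ ⟨h1, h2⟩)
  have hNH : ∀ m ∈ M, ∀ h : G, (m * h ∈ N ↔ h ∈ N) := fun m hm h =>
    Subgroup.mul_mem_cancel_left N (hMN hm)
  constructor
  · intro hfix
    have hHN : ¬ H ≤ N := fun hle => hN2 (top_le_iff.1 (hHM ▸ sup_le hle hMN))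
    refine ⟨fun h => hHN (h ▸ bot_le), fun h => hM1 (by rw [← hHM', h, top_inf_eq]),
      lt_of_le_of_ne inf_le_left fun h => hHN (inf_eq_left.1 h), fun g hg y hy => ?_⟩
    obtain ⟨hyH, y', hy'H, hyy⟩ := hy
    obtain ⟨m, hm, h0, hh0, rfl⟩ := hprod g
    have hm1 : m ≠ 1 := by rintro rfl; exact hg (by rwa [one_mul])
    obtain ⟨y1, hy1, hy1H⟩ : ∃ y1, y1 = h0 * y' * h0⁻¹ ∧ y1 ∈ H :=
      ⟨_, rfl, mul_mem (mul_mem hh0 hy'H) (inv_mem hh0)⟩
    have hy' : y = m * y1 * m⁻¹ := by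
      rw [← hyy, hy1]
      simp [mul_assoc]
    have he : y1⁻¹ * y = 1 := by
      refine hdis _ (mul_mem (inv_mem hy1H) hyH) ?_
      rw [hy', show y1⁻¹ * (m * y1 * m⁻¹) = (y1⁻¹ * m * y1⁻¹⁻¹) * m⁻¹ by group]
      exact mul_mem ((inferInstance : M.Normal).conj_mem m hm y1⁻¹) (inv_mem hm)
    have heq : y1 = y := inv_mul_eq_one.1 he
    rw [heq] at hy'
    refine hfix m hm hm1 (Subgroup.mem_centralizer_singleton_iff.2 ?_)
    conv_lhs => rw [hy']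
    group
  · rintro ⟨-, -, -, hTI⟩ x hx hx1 c hc
    by_contra hcN
    haveI := Fintype.ofFinite G
    let A := {h : H // (h : G) ∉ N} × M
    let B := {g : G // g ∉ N}
    let e : A ≃ B := Equiv.ofBijective (fun a => ⟨(a.2 : G) * (a.1.1 : G), fun h => a.1.2 ((hNH _ a.2.2 _).1 h)⟩) (by
      constructor
      · intro a b hab
        have h : (a.2 : G) * (a.1.1 : G) = (b.2 : G) * (b.1.1 : G) := congrArg Subtype.val hab
        have h1 : ((b.2 : G))⁻¹ * (a.2 : G) = (b.1.1 : G) * (a.1.1 : G)⁻¹ := by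
          rw [inv_mul_eq_iff_eq_mul, ← mul_assoc, ← h, mul_inv_cancel_right]
        have h2 := hdis _ (h1 ▸ mul_mem b.1.1.2 (inv_mem a.1.1.2)) (mul_mem (inv_mem b.2.2) a.2.2)
        rw [h2] at h1
        exact Prod.ext (Subtype.ext (Subtype.ext (mul_inv_eq_one.1 h1.symm).symm)) (Subtype.ext (inv_mul_eq_one.1 h2).symm)
      · intro g
        obtain ⟨m, hm, h, hh, e⟩ := hprod g.1
        exact ⟨(⟨⟨h, hh⟩, fun hn => g.2 (e ▸ (hNH m hm h).2 hn)⟩, ⟨m, hm⟩), Subtype.ext e.symm⟩)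
    let f : A → B := fun a => ⟨(a.2 : G) * (a.1.1 : G) * (a.2 : G)⁻¹, fun h => a.1.2 (by
      have h' : (a.2 : G) * (a.1.1 : G) ∈ N := (Subgroup.mul_mem_cancel_right N (inv_mem (hMN a.2.2))).1 h
      exact (hNH _ a.2.2 _).1 h')⟩
    have hfinj : Function.Injective f := by
      intro a b hab
      have h : (a.2 : G) * (a.1.1 : G) * (a.2 : G)⁻¹ = (b.2 : G) * (b.1.1 : G) * (b.2 : G)⁻¹ :=
        congrArg Subtype.val hab
      have h1 : (a.1.1 : G) = ((a.2 : G)⁻¹ * b.2) * (b.1.1 : G) * ((a.2 : G)⁻¹ * b.2)⁻¹ := by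
        rw [show ((a.2 : G)⁻¹ * b.2) * (b.1.1 : G) * ((a.2 : G)⁻¹ * b.2)⁻¹ =
          (a.2 : G)⁻¹ * ((b.2 : G) * (b.1.1 : G) * (b.2 : G)⁻¹) * a.2 by group, ← h]
        group
      have h2 : (a.2 : G)⁻¹ * b.2 ∈ H := by
        by_contra hg
        exact a.1.2 (hTI _ hg ⟨a.1.1.2, ⟨_, b.1.1.2, h1.symm⟩⟩)
      have h3 : (a.2 : G) = b.2 := inv_mul_eq_one.1 (hdis _ h2 (mul_mem (inv_mem a.2.2) b.2.2))
      rw [h3, inv_mul_cancel, one_mul, inv_one, mul_one] at h1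
      exact Prod.ext (Subtype.ext (Subtype.ext h1)) (Subtype.ext h3)
    have hfsurj : Function.Surjective f :=
      ((Fintype.bijective_iff_injective_and_card f).2 ⟨hfinj, Fintype.card_congr e⟩).2
    obtain ⟨a, ha⟩ := hfsurj ⟨c, hcN⟩
    have hca : (a.2 : G) * (a.1.1 : G) * (a.2 : G)⁻¹ = c := congrArg Subtype.val ha
    obtain ⟨g, hgdef⟩ : ∃ g, g = (a.2 : G)⁻¹ * x * a.2 := ⟨_, rfl⟩
    have hgM : g ∈ M := hgdef ▸ mul_mem (mul_mem (inv_mem a.2.2) hx) a.2.2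
    have hg1 : g ≠ 1 := by
      intro h
      rw [hgdef] at h
      apply hx1
      calc x = (a.2 : G) * ((a.2 : G)⁻¹ * x * a.2) * (a.2 : G)⁻¹ := by group
        _ = 1 := by rw [h]; group
    have hfix : (a.1.1 : G) = g * (a.1.1 : G) * g⁻¹ := by
      have hcx : x * c * x⁻¹ = c := by
        rw [← Subgroup.mem_centralizer_singleton_iff.1 hc, mul_inv_cancel_right]
      calc (a.1.1 : G) = (a.2 : G)⁻¹ * c * a.2 := by rw [← hca]; group
        _ = (a.2 : G)⁻¹ * (x * c * x⁻¹) * a.2 := by rw [hcx]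
        _ = g * (a.1.1 : G) * g⁻¹ := by rw [hgdef, ← hca]; group
    exact a.1.2 (hTI g (fun hgH => hg1 (hdis g hgH hgM)) ⟨a.1.1.2, ⟨_, a.1.1.2, hfix.symm⟩⟩)

end Cfsg.Agent.S4113
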