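import Cfsg.Statements.S4115
import Cfsg.Agent.FGSB.TIHall
import Cfsg.Agent.Char.BrauerSuzukiTransfer
import Cfsg.Agent.Solvable.CoprimeAct
import Mathlib.GroupTheory.SchurZassenhaus
import Mathlib.GroupTheory.Nilpotent

set_option autoImplicit false
universe u
open Cfsg

namespace Cfsg.Agent.S4115

open Subgroup

variable {G : Type*} [Group G] [Finite G] {H : Subgroup G}

omit [Finite G] in
/-- A normal complement inside the normalizer commutes with the subgroup. -/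
theorem commute_of_disjoint {K : Subgroup G} (hK : H ≤ normalizer (K : Set G))
    (hd : K ⊓ H = ⊥) {k h : G} (hk : k ∈ K) (hkN : k ∈ normalizer (H : Set G)) (hh : h ∈ H) :
    k * h = h * k := by
  have h1 : k * h * k⁻¹ * h⁻¹ ∈ H := mul_mem ((mem_normalizer_iff.1 hkN h).1 hh) (inv_mem hh)
  have h2 : k * h * k⁻¹ * h⁻¹ ∈ K := by
    rw [mul_assoc, mul_assoc, ← mul_assoc h]
    exact mul_mem hk ((mem_normalizer_iff.1 (hK hh) _).1 (inv_mem hk))
  have h3 : k * h * k⁻¹ * h⁻¹ ∈ K ⊓ H := ⟨h2, h1⟩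
  rw [hd, mem_bot, mul_inv_eq_one, mul_inv_eq_iff_eq_mul] at h3
  exact h3

/-- Existence of a normal complement. -/
theorem complement (hTI : Cfsg.IsTISubset (H : Set G))
    (hHall : (Nat.card H).Coprime (H.subgroupOf (normalizer (H : Set G))).index)
    (hex : ∃ K : Subgroup (normalizer (H : Set G)), K.Normal ∧
      K.IsComplement' (H.subgroupOf (normalizer (H : Set G)))) :
    ∃ N : Subgroup G, N.Normal ∧ N.IsComplement' H := by
  obtain ⟨K, hKn, hKc⟩ := hex
  set M := normalizer (H : Set G)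
  have hH := CfsgLib.TIHall.hall_of_ti hTI hHall
  obtain ⟨N, hN, hsup, hinf⟩ := CfsgLib.Char.exists_normal_complement_of_fusion hH
    (fun x hx y hy hxy => by
      obtain ⟨g, hg⟩ := isConj_iff.1 hxy
      rcases eq_or_ne x 1 with rfl | hx1
      · exact ⟨1, one_mem _, by rw [← hg]; simp⟩
      have hgM : g ∈ M := CfsgLib.TIHall.mem_normalizer_of_ti hTI hx hx1 (hg ▸ hy)
      obtain ⟨⟨⟨k, hk⟩, ⟨h, hh⟩⟩, hkh⟩ := hKc.2 ⟨g, hgM⟩
      replace hkh : k * h = ⟨g, hgM⟩ := hkh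
      refine ⟨h, mem_subgroupOf.1 hh, ?_⟩
      have hcomm : k * (h * ⟨x, le_normalizer hx⟩ * h⁻¹) = (h * ⟨x, le_normalizer hx⟩ * h⁻¹) * k :=
        commute_of_disjoint (H := H.subgroupOf M) le_normalizer_of_normal
          (disjoint_iff.1 hKc.disjoint) hk
          (le_normalizer_of_normal (H := H.subgroupOf M) (K := ⊤) trivial)
          (mul_mem (mul_mem hh (mem_subgroupOf.2 hx)) (inv_mem hh))
      have e := congrArg Subtype.val hkh
      have e' := congrArg Subtype.val hcomm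
      simp only [Subgroup.coe_mul, InvMemClass.coe_inv] at e e'
      rw [← hg, ← e, show (k : G) * h * x * ((k : G) * h)⁻¹ = (k : G) * ((h : G) * x * (h : G)⁻¹) * (k : G)⁻¹ by
        group, e', mul_inv_cancel_right])
    (fun E p hp hE hcard => by
      obtain ⟨g, hg⟩ := CfsgLib.TIHall.exists_conj_le hH hTI E fun q _ hq => hq.trans hcard
      refine ⟨g⁻¹, ?_⟩
      rintro _ ⟨e, he, rfl⟩
      obtain ⟨h, hh, rfl⟩ := hg he
      simpa [mul_assoc] using hh)
  refine ⟨N, hN, isComplement'_of_disjoint_and_mul_eq_univ (disjoint_iff.2 hinf) ?_⟩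
  rw [← normal_mul, hsup, coe_top]

omit [Finite G] in
/-- Restriction of a normal complement to an intermediate subgroup. -/
theorem restrict {N M : Subgroup G} (hN : N.Normal) (hc : N.IsComplement' H) (hHM : H ≤ M) :
    (N.subgroupOf M).IsComplement' (H.subgroupOf M) := by
  refine isComplement'_of_disjoint_and_mul_eq_univ
    (disjoint_iff.2 ((eq_bot_iff_forall _).2 fun x hx => Subtype.ext ?_)) ?_
  · exact mem_bot.1 (le_of_eq (disjoint_iff.1 hc.disjoint) ⟨mem_subgroupOf.1 hx.1, mem_subgroupOf.1 hx.2⟩)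
  · refine Set.eq_univ_of_forall fun x => ?_
    obtain ⟨⟨⟨n, hn⟩, ⟨h, hh⟩⟩, hnh⟩ := hc.2 (x : G)
    replace hnh : n * h = (x : G) := hnh
    have hnM : n ∈ M := by
      rw [eq_mul_inv_of_mul_eq hnh]; exact mul_mem x.2 (inv_mem (hHM hh))
    exact ⟨⟨n, hnM⟩, mem_subgroupOf.2 hn, ⟨h, hHM hh⟩, mem_subgroupOf.2 hh, Subtype.ext hnh⟩

/-- A `q`-group inside the normal complement on which `H` acts freely modulo a subgroup. -/
theorem exists_section (hTI : Cfsg.IsTISubset (H : Set G))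
    (hHall : (Nat.card H).Coprime H.index) {N : Subgroup G} (hN : N.Normal) (hc : N.IsComplement' H)
    (hnn : ¬ H.Normal) :
    ∃ (Q₀ Q₁ : Subgroup G), Q₀ < Q₁ ∧ Q₁ ≤ N ∧ Q₁ ≤ normalizer (Q₀ : Set G) ∧
      H ≤ normalizer (Q₀ : Set G) ∧ H ≤ normalizer (Q₁ : Set G) ∧ Group.IsSolvable Q₀ ∧
      ∀ h ∈ H, h ≠ 1 → ∀ c ∈ Q₁, c * h = h * c → c ∈ Q₀ := by
  have hidx : N.index = Nat.card H := hc.symm.index_eq_card
  have hNcard : Nat.card N = H.index := hc.index_eq_card.symm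
  set M := normalizer (H : Set G) with hM
  have hHM : H ≤ M := le_normalizer
  have hlt : ¬ N ≤ M := fun h => hnn (normalizer_eq_top_iff.1 (eq_top_iff.2
    (le_trans (le_of_eq hc.sup_eq_top.symm) (sup_le h hHM))))
  obtain ⟨q, hq, k, hk1, hk2⟩ : ∃ q : ℕ, q.Prime ∧ ∃ k, q ^ k ∣ Nat.card N ∧
      ¬ q ^ k ∣ Nat.card (N ⊓ M : Subgroup G) := by
    by_contra hcon
    push Not at hcon
    have h1 : Nat.card N ∣ Nat.card (N ⊓ M : Subgroup G) :=
      (Nat.dvd_iff_prime_pow_dvd_dvd _ _).2 fun q k hq hk => hcon q hq k hk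
    exact hlt ((eq_of_le_of_card_ge (inf_le_left : N ⊓ M ≤ N)
      (Nat.le_of_dvd Nat.card_pos h1)) ▸ inf_le_right)
  haveI := Fact.mk hq
  obtain ⟨Q⟩ : Nonempty (Sylow q N) := inferInstance
  set Q' := (Q : Subgroup N).map N.subtype with hQ'
  have hfr : normalizer (Q' : Set G) ⊔ N = ⊤ := Sylow.normalizer_sup_eq_top Q
  set T := normalizer (Q' : Set G) with hT
  haveI : (N.subgroupOf T).Normal := hN.comap _
  have hdT : Nat.card (N.subgroupOf T) ∣ Nat.card N := by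
    rw [← card_map_of_injective T.subtype_injective, subgroupOf_map_subtype]
    exact card_dvd_of_le inf_le_left
  have hiT : (N.subgroupOf T).index = Nat.card H := by
    rw [← relIndex, ← hidx, ← relIndex_top_right N, ← hfr, relIndex_sup_right]
  obtain ⟨L, hL⟩ := exists_right_complement'_of_coprime (N := N.subgroupOf T) (by
    rw [hiT]; exact (hNcard ▸ hHall.symm).coprime_dvd_left hdT)
  have hLcard : Nat.card (L.map T.subtype) = Nat.card H := by
    rw [card_map_of_injective T.subtype_injective, ← hiT, hL.symm.index_eq_card]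
  obtain ⟨g, hg⟩ := CfsgLib.TIHall.exists_conj_le hHall hTI (L.map T.subtype) fun r _ hr => hLcard ▸ hr
  have hge : H.map (MulAut.conj g).toMonoidHom = L.map T.subtype :=
    (eq_of_le_of_card_ge hg (by
      rw [hLcard, card_map_of_injective (MulAut.conj g).injective])).symm
  -- an invariant Sylow subgroup
  set Q₂ := Q'.map (MulAut.conj g⁻¹).toMonoidHom with hQ₂
  have hHQ₂ : H ≤ normalizer (Q₂ : Set G) := by
    intro h hh
    have h1 : g * h * g⁻¹ ∈ T := (map_subtype_le L) (hge ▸ mem_map_of_mem _ hh)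
    refine mem_normalizer_iff.2 fun y => ?_
    have e : ∀ y, y ∈ Q₂ ↔ g * y * g⁻¹ ∈ Q' := fun y => by
      rw [hQ₂, Subgroup.mem_map_equiv, MulAut.conj_symm_apply, inv_inv]
    rw [e, e, mem_normalizer_iff.1 h1 (g * y * g⁻¹)]
    group
  have hQ₂N : Q₂ ≤ N := by
    rintro _ ⟨y, hy, rfl⟩
    exact hN.conj_mem y (map_subtype_le _ hy) _
  have hQ₂p : IsPGroup q Q₂ := (Q.2.map _).map _
  set Q₀ := Q₂ ⊓ M with hQ₀
  have hHQ₀ : H ≤ normalizer (Q₀ : Set G) := fun h hh => mem_normalizer_iff.2 fun y => by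
    rw [hQ₀, Subgroup.mem_inf, Subgroup.mem_inf, mem_normalizer_iff.1 (hHQ₂ hh) y]
    refine and_congr_right fun _ => ⟨fun hy => mul_mem (mul_mem (hHM hh) hy) (inv_mem (hHM hh)), fun hy => ?_⟩
    simpa [mul_assoc] using mul_mem (mul_mem (inv_mem (hHM hh)) hy) (hHM hh)
  have hQ₀lt : Q₀.subgroupOf Q₂ < ⊤ := by
    refine lt_top_iff_ne_top.2 fun h => hk2 ?_
    have hle : Q₂ ≤ M := fun y hy => by
      have h' : (⟨y, hy⟩ : Q₂) ∈ Q₀.subgroupOf Q₂ := by rw [h]; exact mem_top _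
      exact h'.2
    have h1 : Nat.card Q₂ ∣ Nat.card (N ⊓ M : Subgroup G) := card_dvd_of_le (le_inf hQ₂N hle)
    rw [hQ₂, card_map_of_injective (MulAut.conj g⁻¹).injective, hQ',
      card_map_of_injective N.subtype_injective, Q.card_eq_multiplicity] at h1
    exact (pow_dvd_pow q ((hq.pow_dvd_iff_le_factorization Nat.card_pos.ne').1 hk1)).trans h1
  haveI : Group.IsNilpotent Q₂ := hQ₂p.isNilpotent
  have hnc := normalizerCondition_of_isNilpotent _ hQ₀lt
  obtain ⟨y, hyn, hy⟩ := SetLike.exists_of_lt hnc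
  refine ⟨Q₀, Q₂ ⊓ normalizer (Q₀ : Set G), ?_, inf_le_left.trans hQ₂N, inf_le_right, hHQ₀, ?_, ?_, ?_⟩
  · refine lt_of_le_of_ne (le_inf inf_le_left le_normalizer) fun h => hy ?_
    have hyN : (y : G) ∈ normalizer (Q₀ : Set G) := mem_normalizer_iff.2 fun z => by
      by_cases hz : z ∈ Q₂
      · simpa [mem_subgroupOf] using mem_normalizer_iff.1 hyn ⟨z, hz⟩
      · refine ⟨fun h => absurd h.1 hz, fun h => absurd ?_ hz⟩
        simpa [mul_assoc] using mul_mem (mul_mem (inv_mem y.2) h.1) y.2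
    exact mem_subgroupOf.2 (h ▸ ⟨y.2, hyN⟩)
  · intro h hh
    have h1 : ∀ z, z ∈ normalizer (Q₀ : Set G) ↔ h * z * h⁻¹ ∈ normalizer (Q₀ : Set G) := fun z =>
      ⟨fun hz => mul_mem (mul_mem (hHQ₀ hh) hz) (inv_mem (hHQ₀ hh)),
       fun hz => by simpa [mul_assoc] using mul_mem (mul_mem (inv_mem (hHQ₀ hh)) hz) (hHQ₀ hh)⟩
    refine mem_normalizer_iff.2 fun z => ?_
    rw [Subgroup.mem_inf, Subgroup.mem_inf, mem_normalizer_iff.1 (hHQ₂ hh) z, h1 z]
  · haveI : Group.IsNilpotent Q₀ := (hQ₂p.to_le inf_le_left).isNilpotent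
    infer_instance
  · intro h hh hh1 c hc hch
    exact ⟨hc.1, CfsgLib.TIHall.mem_normalizer_of_ti hTI hh hh1 (by rw [hch, mul_inv_cancel_right]; exact hh)⟩

end Cfsg.Agent.S4115

namespace Cfsg.Agent.S4115

open Subgroup
open scoped Pointwise

/-- Let G be a finite group and H a subgroup that meets each of its conjugates by elements outside N_G(H) trivially and whose order is coprime to its index in N_G(H). Then H has a normal complement in N_G(H) if and only if H has a normal complement in G. Moreover, if H is not normal in G and has a normal complement in N_G(H), then H is isomorphic to a Frobenius complement of some finite Frobenius group. -/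
theorem result {G : Type u} [Group G] [Finite G] (H : Subgroup G)
    (hTI : Cfsg.IsTISubset (H : Set G)) (hHall : (Nat.card H).Coprime (H.subgroupOf (Subgroup.normalizer (H : Set G))).index) :
    ((∃ K : Subgroup (Subgroup.normalizer (H : Set G)), K.Normal ∧ K.IsComplement' (H.subgroupOf (Subgroup.normalizer (H : Set G)))) ↔
      (∃ N : Subgroup G, N.Normal ∧ N.IsComplement' H)) ∧
    (¬ H.Normal → (∃ K : Subgroup (Subgroup.normalizer (H : Set G)), K.Normal ∧ K.IsComplement' (H.subgroupOf (Subgroup.normalizer (H : Set G)))) →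
      ∃ (F : Type u) (_ : Group F) (_ : Finite F) (C : Subgroup F), Cfsg.IsFrobeniusComplement C ∧ Nonempty (H ≃* C)) := by
  classical
  set M := normalizer (H : Set G) with hM
  refine ⟨⟨complement hTI hHall, fun ⟨N, hN, hc⟩ =>
    ⟨N.subgroupOf M, hN.comap _, restrict hN hc le_normalizer⟩⟩, fun hnn hex => ?_⟩
  obtain ⟨N, hN, hc⟩ := complement hTI hHall hex
  have hHall' := CfsgLib.TIHall.hall_of_ti hTI hHall
  obtain ⟨Q₀, Q₁, hlt, hQ₁N, hQ₁, hHQ₀, hHQ₁, hsolv, hfree⟩ := exists_section hTI hHall' hN hc hnn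
  have hHbot : H ≠ ⊥ := fun h => hnn (h ▸ inferInstance)
  have hNH : ∀ x, x ∈ N → x ∈ H → x = 1 := fun x h1 h2 =>
    mem_bot.1 (le_of_eq (disjoint_iff.1 hc.disjoint) ⟨h1, h2⟩)
  set L := Q₁ ⊔ H with hL
  have hLQ₀ : L ≤ normalizer (Q₀ : Set G) := sup_le hQ₁ hHQ₀
  have hQ₀L : Q₀ ≤ L := hlt.le.trans le_sup_left
  haveI : (Q₀.subgroupOf L).Normal := (normal_subgroupOf_iff_le_normalizer hQ₀L).2 hLQ₀
  have hLmem : ∀ x ∈ L, ∃ n ∈ Q₁, ∃ h ∈ H, x = n * h := fun x hx => by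
    rw [hL, ← SetLike.mem_coe, coe_mul_of_right_le_normalizer_left Q₁ H hHQ₁] at hx
    obtain ⟨n, hn, h, hh, rfl⟩ := hx
    exact ⟨n, hn, h, hh, rfl⟩
  let π : L →* L ⧸ Q₀.subgroupOf L := QuotientGroup.mk' _
  have hker : ∀ x : L, π x = 1 ↔ (x : G) ∈ Q₀ := fun x => by
    rw [QuotientGroup.mk'_apply, QuotientGroup.eq_one_iff, mem_subgroupOf]
  let ι : H →* L ⧸ Q₀.subgroupOf L := π.comp (inclusion le_sup_right)
  have hι : Function.Injective ι := (injective_iff_map_eq_one ι).2 fun x hx =>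
    Subtype.ext (hNH _ (hQ₁N (hlt.le ((hker _).1 hx))) x.2)
  refine ⟨L ⧸ Q₀.subgroupOf L, inferInstance, inferInstance, ι.range, ⟨?_, ?_, ?_⟩,
    ⟨MonoidHom.ofInjective hι⟩⟩
  · intro h
    refine hHbot ((eq_bot_iff_forall _).2 fun x hx => ?_)
    have : ι ⟨x, hx⟩ = 1 := mem_bot.1 (h ▸ MonoidHom.mem_range.2 ⟨_, rfl⟩)
    exact congrArg Subtype.val (hι (this.trans (map_one ι).symm))
  · intro h
    obtain ⟨n, hn, hn0⟩ := SetLike.exists_of_lt hlt
    obtain ⟨a, ha⟩ : π ⟨n, le_sup_left (a := Q₁) hn⟩ ∈ ι.range := h ▸ mem_top _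
    have h1 := (hker ((inclusion le_sup_right a)⁻¹ * ⟨n, le_sup_left (a := Q₁) hn⟩)).1 (by
      rw [map_mul, map_inv, show π (inclusion le_sup_right a) = ι a from rfl, ha, inv_mul_cancel])
    have ha' : (a : G) ∈ N := by
      simpa using mul_mem (hQ₁N hn) (inv_mem (hQ₁N (hlt.le h1)))
    have : (a : G) = 1 := hNH _ ha' a.2
    simp [this] at h1
    exact hn0 h1
  · intro g hg
    refine (eq_bot_iff_forall _).2 ?_
    rintro _ ⟨⟨a, rfl⟩, hd⟩
    obtain ⟨x, rfl⟩ := QuotientGroup.mk'_surjective _ g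
    replace hd : ι a ∈ MulAut.conj (π x) • ι.range := hd
    rw [Subgroup.mem_smul_pointwise_iff_exists] at hd
    obtain ⟨_, ⟨b, rfl⟩, hb⟩ := hd
    rw [MulAut.smul_def, MulAut.conj_apply] at hb
    obtain ⟨n, hn, h, hh, hx⟩ := hLmem x x.2
    have hxe : x = ⟨n, le_sup_left (a := Q₁) hn⟩ * inclusion le_sup_right ⟨h, hh⟩ := Subtype.ext hx
    set nL : L := ⟨n, le_sup_left (a := Q₁) hn⟩
    set b' : H := ⟨h, hh⟩ * b * ⟨h, hh⟩⁻¹
    have hb' : π nL * ι b' * (π nL)⁻¹ = ι a := by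
      change π x * ι b * (π x)⁻¹ = ι a at hb
      rw [← hb, hxe, map_mul π, show π (inclusion le_sup_right ⟨h, hh⟩) = ι ⟨h, hh⟩ from rfl]
      simp only [b', map_mul, map_inv]
      group
    by_contra ha1
    have hn0 : n ∉ Q₀ := fun h0 => hg (by
      rw [hxe, map_mul, (hker nL).2 h0, one_mul]
      exact ⟨_, rfl⟩)
    have h2 : n * (b' : G) * n⁻¹ * (a : G)⁻¹ ∈ Q₀ :=
      (hker (nL * inclusion le_sup_right b' * nL⁻¹ * (inclusion le_sup_right a)⁻¹)).1 (by
        rw [map_mul, map_mul, map_mul, map_inv, map_inv]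
        show π nL * ι b' * (π nL)⁻¹ * (ι a)⁻¹ = 1
        rw [hb', mul_inv_cancel])
    have hba : (b' : G) = a := by
      refine eq_of_mul_inv_eq_one (hNH _ ?_ (mul_mem b'.2 (inv_mem a.2)))
      have e : (b' : G) * (a : G)⁻¹ = n⁻¹ * (n * (b' : G) * n⁻¹ * (a : G)⁻¹) * ((a : G) * n * (a : G)⁻¹) := by
        group
      rw [e]
      exact mul_mem (mul_mem (inv_mem (hQ₁N hn)) (hQ₁N (hlt.le h2))) (hN.conj_mem n (hQ₁N hn) _)
    rw [hba] at h2
    have haa : (a : G) ≠ 1 := fun e => ha1 (by rw [Subtype.ext e (a2 := (1 : H)), map_one])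
    have hAQ₁ : zpowers (a : G) ≤ normalizer (Q₁ : Set G) := zpowers_le.2 (hHQ₁ a.2)
    have hcop : (Nat.card (zpowers (a : G))).Coprime (Nat.card Q₁) :=
      (hHall'.coprime_dvd_left (card_dvd_of_le (zpowers_le.2 a.2))).coprime_dvd_right
        ((card_dvd_of_le hQ₁N).trans (dvd_of_eq hc.index_eq_card.symm))
    obtain ⟨c, ⟨hcQ, hcA⟩, hnc⟩ := CfsgLib.CoprimeAct.exists_centralizing_mem_coset hAQ₁ hcop hlt.le
      (zpowers_le.2 (hHQ₀ a.2)) (Or.inr hsolv) hn (by
        intro d hd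
        obtain ⟨j, rfl⟩ := mem_zpowers_iff.1 hd
        -- powers of `a` fix the coset as well
        let S : Subgroup G :=
          { carrier := {d | d ∈ H ∧ n⁻¹ * (d * n * d⁻¹) ∈ Q₀}
            one_mem' := ⟨one_mem _, by simp⟩
            mul_mem' := fun {d e} hd he => ⟨mul_mem hd.1 he.1, by
              have e' : n⁻¹ * (d * e * n * (d * e)⁻¹) =
                  (n⁻¹ * (d * n * d⁻¹)) * (d * (n⁻¹ * (e * n * e⁻¹)) * d⁻¹) := by group
              rw [e']
              exact mul_mem hd.2 ((mem_normalizer_iff.1 (hHQ₀ hd.1) _).1 he.2)⟩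
            inv_mem' := fun {d} hd => ⟨inv_mem hd.1, by
              have e' : n⁻¹ * (d⁻¹ * n * d⁻¹⁻¹) = d⁻¹ * (n⁻¹ * (d * n * d⁻¹))⁻¹ * d⁻¹⁻¹ := by group
              rw [e']
              exact (mem_normalizer_iff.1 (hHQ₀ (inv_mem hd.1)) _).1 (inv_mem hd.2)⟩ }
        have hS : (a : G) ∈ S := ⟨a.2, by
          have e : n⁻¹ * ((a : G) * n * (a : G)⁻¹) =
              n⁻¹ * (n * (a : G) * n⁻¹ * (a : G)⁻¹)⁻¹ * n⁻¹⁻¹ := by group
          rw [e]
          exact (mem_normalizer_iff.1 (hQ₁ (inv_mem hn)) _).1 (inv_mem h2)⟩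
        exact (zpow_mem hS j).2)
    have hcQ₀ : c ∈ Q₀ := hfree a a.2 haa c hcQ
      (mem_centralizer_iff.1 hcA (a : G) (mem_zpowers _)).symm
    refine hn0 ?_
    have := mul_mem hcQ₀ (inv_mem hnc)
    simpa using this

end Cfsg.Agent.S4115
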