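import Cfsg.Statements.S4117
import Cfsg.Agent.Coprime.ZGroup

set_option autoImplicit false
open Cfsg

namespace Cfsg.Agent.S4117

/-- Let A be a finite group acting on the finite group G by automorphisms with the orders of A and G coprime, and suppose every Sylow subgroup of G is cyclic. Then the fixed-point subgroup C_G(A) is a Hall subgroup of G (its order is coprime to its index), the subgroup [G, A] generated by the elements g⁻¹·a(g) is cyclic and normal with [G, A] ∩ C_G(A) = 1 and [G, A]·C_G(A) = G. -/
theorem result {G A : Type*} [Group G] [Finite G] [Group A] [Finite A]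
    [MulDistribMulAction A G] (hcop : (Nat.card A).Coprime (Nat.card G))
    (hcyc : ∀ (p : ℕ) [Fact p.Prime] (P : Sylow p G), IsCyclic (P : Subgroup G)) :
    (Nat.card (MulAction.fixedPoints A G : Set G)).Coprime (Nat.card G / Nat.card (MulAction.fixedPoints A G : Set G)) ∧
    IsCyclic (Subgroup.closure {y : G | ∃ (a : A) (g : G), y = g⁻¹ * a • g}) ∧
    (Subgroup.closure {y : G | ∃ (a : A) (g : G), y = g⁻¹ * a • g}).Normal ∧
    (Subgroup.closure {y : G | ∃ (a : A) (g : G), y = g⁻¹ * a • g} : Set G) ∩ MulAction.fixedPoints A G = {1} ∧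
    Subgroup.closure {y : G | ∃ (a : A) (g : G), y = g⁻¹ * a • g} ⊔ Subgroup.closure (MulAction.fixedPoints A G) = ⊤ := by
  have : IsZGroup G := ⟨fun p hp P => by have := Fact.mk hp; exact hcyc p P⟩
  obtain ⟨h1, h2, h3, h4, -⟩ := CfsgLib.Coprime.zgroup_action (G := G) (A := A) hcop
  set C := FixedPoints.subgroup A G
  have hcard : Nat.card (MulAction.fixedPoints A G : Set G) = Nat.card C := rfl
  refine ⟨?_, h2, CfsgLib.Coprime.actCommutator_normal, ?_, ?_⟩
  · rw [hcard, Nat.div_eq_of_eq_mul_left Nat.card_pos C.index_mul_card.symm]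
    exact h1
  · ext x
    constructor
    · rintro ⟨hx, hx'⟩
      exact Subgroup.mem_bot.1 (h3.le (show x ∈ C ⊓ _ from ⟨hx', hx⟩))
    · rintro rfl
      exact ⟨one_mem _, fun a => smul_one a⟩
  · refine top_unique (h4.symm.le.trans (sup_le ?_ le_sup_left))
    exact le_trans (fun x hx => Subgroup.subset_closure hx) le_sup_right

end Cfsg.Agent.S4117
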