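import Cfsg.Statements.S4118
import Cfsg.Agent.Zassenhaus.Solvable
import Cfsg.Agent.FGSB.TIHall
-- import your own Cfsg.Agent.* helpers here

set_option autoImplicit false
open Cfsg
open scoped commutatorElement

namespace Cfsg.Agent.S4118

/-- Let G be a finite group and H a non-normal subgroup meeting each of its conjugates by elements outside N_G(H) trivially, with the order of H coprime to its index in N_G(H); let π be the set of primes dividing the order of H and suppose G is π-separable (it has a chain of normal subgroups from 1 to G each of whose factors has order divisible only by primes in π or coprime to the order of H). Let O be the largest normal subgroup of G of order coprime to the order of H. Then G = O·N_G(H), O·H is normal in G, and G is solvable if and only if O is solvable and H has no subgroup isomorphic to SL₂(5). -/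
theorem result {G : Type*} [Group G] [Finite G] (H : Subgroup G)
    (hTI : Cfsg.IsTISubset (H : Set G)) (hnn : ¬ H.Normal)
    (hHall : (Nat.card H).Coprime (H.subgroupOf (Subgroup.normalizer (H : Set G))).index)
    (hsep : ∃ (n : ℕ) (M : Fin (n + 1) → Subgroup G), M 0 = ⊥ ∧ M (Fin.last n) = ⊤ ∧ Monotone M ∧ (∀ i, (M i).Normal) ∧
      ∀ i : Fin n, (∀ q : ℕ, q.Prime → q ∣ (M i.castSucc).relIndex (M i.succ) → q ∣ Nat.card H) ∨
        ((M i.castSucc).relIndex (M i.succ)).Coprime (Nat.card H))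
    (O : Subgroup G) (hO : O = sSup {K : Subgroup G | K.Normal ∧ (Nat.card K).Coprime (Nat.card H)}) :
    O ⊔ Subgroup.normalizer (H : Set G) = ⊤ ∧ (O ⊔ H).Normal ∧
    (Group.IsSolvable G ↔ Group.IsSolvable O ∧
      ∀ K : Subgroup G, K ≤ H → ¬ Nonempty (K ≃* Matrix.SpecialLinearGroup (Fin 2) (ZMod 5))) := by
  classical
  set N := Subgroup.normalizer (H : Set G) with hN
  have hHne : H ≠ ⊥ := fun h => hnn (h ▸ inferInstance)
  have hHall' := CfsgLib.TIHall.hall_of_ti hTI hHall
  obtain ⟨hOn, hOc, htop, hOHn⟩ := CfsgLib.TIHall.separable_structure hTI hHne hHall' hsep O hO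
  refine ⟨htop, hOHn, fun hsol => ⟨inferInstance, fun K _ hK => ?_⟩, fun ⟨hOs, hno⟩ => ?_⟩
  · obtain ⟨e⟩ := hK
    exact CfsgLib.Zassenhaus.not_isSolvable_sl
      (Group.isSolvable_of_surjective (f := e.toMonoidHom) e.surjective)
  haveI := hOn
  haveI := hOs
  set C₀ := O ⊓ N with hC₀
  have hOH : O ⊓ H = ⊥ := Subgroup.inf_eq_bot_of_coprime hOc
  have hcent : ∀ c ∈ C₀, ∀ x ∈ H, x * c = c * x := by
    intro c hc x hx
    obtain ⟨hcO, hcN⟩ := Subgroup.mem_inf.1 hc
    have h1 : c * x * c⁻¹ * x⁻¹ ∈ O ⊓ H := by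
      refine Subgroup.mem_inf.2 ⟨?_, mul_mem ((Subgroup.mem_normalizer_iff.1 hcN x).1 hx) (inv_mem hx)⟩
      have h2 := mul_mem hcO (hOn.conj_mem _ (inv_mem hcO) x)
      simpa [mul_assoc] using h2
    rw [hOH, Subgroup.mem_bot, mul_inv_eq_one, mul_inv_eq_iff_eq_mul] at h1
    exact h1.symm
  have hON : ¬ O ≤ C₀ := fun h => hnn (Subgroup.normalizer_eq_top_iff.1 (top_unique
    (htop.symm.le.trans (sup_le (h.trans inf_le_right) le_rfl))))
  -- the last term of the derived series of `O` outside `N`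
  let D : ℕ → Subgroup G := fun n => (derivedSeries O n).map O.subtype
  have hD0 : D 0 = O := by
    show (derivedSeries O 0).map O.subtype = O
    rw [derivedSeries_zero, ← MonoidHom.range_eq_map, Subgroup.range_subtype]
  obtain ⟨n₀, hn₀⟩ := hOs.solvable
  have hex : ∃ n, D n ≤ C₀ := ⟨n₀, by
    show (derivedSeries O n₀).map O.subtype ≤ C₀
    rw [hn₀, Subgroup.map_bot]; exact bot_le⟩
  obtain ⟨n, hn⟩ : ∃ n, Nat.find hex = n + 1 := by
    refine ⟨Nat.find hex - 1, (Nat.sub_add_cancel (Nat.one_le_iff_ne_zero.2 fun h => hON ?_)).symm⟩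
    have := Nat.find_spec hex
    rwa [h, hD0] at this
  have hB1 : ¬ D n ≤ C₀ := Nat.find_min hex (by omega)
  have hB2 : D (n + 1) ≤ C₀ := hn ▸ Nat.find_spec hex
  set B := D n with hB
  have hBO : B ≤ O := Subgroup.map_subtype_le _
  haveI hBn : B.Normal := by
    haveI : (derivedSeries O n).Characteristic := by
      clear hn hB1 hB2 hB B hBO
      induction n with
      | zero => rw [derivedSeries_zero]; infer_instance
      | succ n ih => rw [derivedSeries_succ]; infer_instance
    show ((derivedSeries O n).map O.subtype).Normal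
    infer_instance
  set C₁ := C₀.subgroupOf B with hC₁
  haveI hC₁n : C₁.Normal := by
    have hcomm : ∀ u ∈ B, ∀ v ∈ B, u * v * u⁻¹ * v⁻¹ ∈ C₀ := by
      rintro _ ⟨u, hu, rfl⟩ _ ⟨v, hv, rfl⟩
      refine hB2 ⟨⁅u, v⁆, ?_, rfl⟩
      rw [derivedSeries_succ]
      exact Subgroup.commutator_mem_commutator hu hv
    refine ⟨fun c hc g => ?_⟩
    rw [hC₁, Subgroup.mem_subgroupOf] at hc ⊢
    rw [Subgroup.coe_mul, Subgroup.coe_mul, Subgroup.coe_inv]
    have := mul_mem (hcomm g g.2 c c.2) hc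
    simpa [mul_assoc] using this
  let cj : G →* MulAut B := MulAut.conjNormal
  have hinv : ∀ x : H, C₁.map (cj (x : G)).toMonoidHom = C₁ := fun x => by
    refine le_antisymm ?_ (fun c hc => ⟨c, hc, ?_⟩)
    · rintro _ ⟨c, hc, rfl⟩
      rw [hC₁, SetLike.mem_coe, Subgroup.mem_subgroupOf] at hc
      show (cj (x : G)) c ∈ C₁
      rw [hC₁, Subgroup.mem_subgroupOf]
      show ((cj (x : G) c : B) : G) ∈ C₀
      rw [MulAut.conjNormal_apply, hcent _ hc x x.2, mul_inv_cancel_right]
      exact hc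
    · refine Subtype.ext ?_
      show ((cj (x : G) c : B) : G) = c
      rw [MulAut.conjNormal_apply, hcent _ (Subgroup.mem_subgroupOf.1 hc) x x.2, mul_inv_cancel_right]
  let φ : H →* MulAut (B ⧸ C₁) :=
    { toFun := fun x => QuotientGroup.congr C₁ C₁ (cj (x : G)) (hinv x)
      map_one' := MulEquiv.ext fun q => by
        obtain ⟨b, rfl⟩ := QuotientGroup.mk_surjective q
        show QuotientGroup.mk (cj ((1 : H) : G) b) = QuotientGroup.mk b
        rw [OneMemClass.coe_one, map_one]; rfl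
      map_mul' := fun x y => MulEquiv.ext fun q => by
        obtain ⟨b, rfl⟩ := QuotientGroup.mk_surjective q
        show QuotientGroup.mk (cj ((x * y : H) : G) b) = QuotientGroup.mk (cj (x : G) (cj (y : G) b))
        rw [Subgroup.coe_mul, map_mul]; rfl }
  have hφ : CfsgLib.Frobenius.IsFpf φ := by
    intro x hx q hq
    obtain ⟨u, rfl⟩ := QuotientGroup.mk_surjective q
    change QuotientGroup.mk (cj (x : G) u) = QuotientGroup.mk u at hq
    have hc : (u : G)⁻¹ * ((x : G) * u * (x : G)⁻¹) ∈ C₀ := by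
      have := Subgroup.mem_subgroupOf.1 (QuotientGroup.eq.1 hq.symm)
      simpa [cj] using this
    set c := (u : G)⁻¹ * ((x : G) * u * (x : G)⁻¹) with hcdef
    have hxc := hcent c hc x x.2
    have hpow : ∀ k : ℕ, (x : G) ^ k * u * ((x : G) ^ k)⁻¹ = u * c ^ k := by
      intro k
      induction k with
      | zero => simp
      | succ k ih =>
        have hc' : Commute (x : G) (c ^ k) := (show Commute (x : G) c from hxc).pow_right k
        calc (x : G) ^ (k + 1) * u * ((x : G) ^ (k + 1))⁻¹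
            = x * ((x : G) ^ k * u * ((x : G) ^ k)⁻¹) * (x : G)⁻¹ := by rw [pow_succ']; group
          _ = x * u * (c ^ k * (x : G)⁻¹) := by rw [ih]; group
          _ = x * u * (x : G)⁻¹ * c ^ k := by rw [← hc'.inv_left.eq]; group
          _ = u * c ^ (k + 1) := by
            rw [show (x : G) * u * (x : G)⁻¹ = u * c by rw [hcdef]; group, pow_succ', mul_assoc]
    have hk : c ^ orderOf (x : G) = 1 := by
      have := hpow (orderOf (x : G))
      rwa [pow_orderOf_eq_one, one_mul, inv_one, mul_one, left_eq_mul] at this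
    have hc1 : c = 1 := orderOf_eq_one_iff.1 (Nat.eq_one_of_dvd_coprimes hOc
      (Subgroup.orderOf_dvd_natCard _ hc.1) ((orderOf_dvd_of_pow_eq_one hk).trans
      (Subgroup.orderOf_dvd_natCard _ x.2)))
    rw [QuotientGroup.eq_one_iff, hC₁, Subgroup.mem_subgroupOf]
    refine ⟨hBO u.2, ?_⟩
    refine CfsgLib.TIHall.mem_normalizer_of_ti hTI x.2 (fun h => hx (Subtype.ext h)) ?_
    have e : (u : G) * x * (u : G)⁻¹ = x := by
      rw [hcdef, inv_mul_eq_one] at hc1
      calc (u : G) * x * (u : G)⁻¹ = ((x : G) * u * (x : G)⁻¹) * x * (u : G)⁻¹ := by rw [← hc1]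
        _ = x := by group
    rw [e]; exact x.2
  haveI : Nontrivial (B ⧸ C₁) := by
    obtain ⟨u, hu, hu'⟩ := SetLike.not_le_iff_exists.1 hB1
    exact ⟨⟨QuotientGroup.mk ⟨u, hu⟩, 1, fun h => hu'
      (Subgroup.mem_subgroupOf.1 ((QuotientGroup.eq_one_iff _).1 h))⟩⟩
  haveI : Nontrivial H := (Subgroup.nontrivial_iff_ne_bot H).2 hHne
  obtain ⟨L, _, _, C, hC, ⟨eC⟩, -⟩ := CfsgLib.Frobenius.exists_complement_of_fpf hφ
  obtain ⟨m, τ, hm, hτ⟩ := CfsgLib.Zassenhaus.exists_rep_of_complement hC eC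
  haveI : Nonempty (Fin m) := ⟨⟨0, hm⟩⟩
  have hHs : Group.IsSolvable H := by
    by_contra hns
    obtain ⟨G₀, -, -, S, M, -, -, -, ⟨eS⟩, -⟩ := CfsgLib.Zassenhaus.nonsolvable_structure hτ hns
    exact hno (S.map H.subtype) (Subgroup.map_subtype_le _)
      ⟨(S.equivMapOfInjective H.subtype H.subtype_injective).symm.trans eS⟩
  haveI := hHs
  -- the quotient modulo `O`
  let π := QuotientGroup.mk' O
  set Hb := H.map π with hHb
  haveI hHbn : Hb.Normal := by
    have e : Hb = (O ⊔ H).map π := by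
      rw [Subgroup.map_sup, show O.map π = ⊥ from QuotientGroup.map_mk'_self O, bot_sup_eq]
    rw [e]
    exact hOHn.map π (QuotientGroup.mk'_surjective O)
  have hinj : Function.Injective (π.comp H.subtype) := by
    rw [← MonoidHom.ker_eq_bot_iff, Subgroup.eq_bot_iff_forall]
    intro x hx
    have h1 : (x : G) ∈ O ⊓ H := ⟨(QuotientGroup.eq_one_iff _).1 hx, x.2⟩
    rw [hOH, Subgroup.mem_bot] at h1
    exact Subtype.ext h1
  have eH : Nonempty (H ≃* Hb) := ⟨(MonoidHom.ofInjective hinj).trans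
    (MulEquiv.subgroupCongr (by rw [MonoidHom.range_comp, Subgroup.range_subtype]))⟩
  obtain ⟨eH⟩ := eH
  haveI : Group.IsSolvable Hb := Group.isSolvable_of_surjective (f := eH.toMonoidHom) eH.surjective
  haveI : Group.IsSolvable (MulAut Hb) :=
    (hτ.comp eH.symm.toMonoidHom eH.symm.injective).isSolvable_mulAut
  set Cb := Subgroup.centralizer (Hb : Set (G ⧸ O)) with hCb
  haveI : Cb.Normal := Subgroup.normal_centralizer
  set Z := Hb.subgroupOf Cb with hZ
  have hZcen : ∀ z ∈ Z, ∀ g : Cb, g * z = z * g := fun z hz g =>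
    Subtype.ext ((Subgroup.mem_centralizer_iff.1 g.2 z hz).symm)
  have hcHb : Nat.card Hb = Nat.card H := (Nat.card_congr eH.toEquiv).symm
  have hidx : Hb.index ∣ H.index := H.index_map_dvd (QuotientGroup.mk'_surjective O)
  have hZH : Nat.card Z ∣ Nat.card H := by
    rw [← hcHb]
    refine Subgroup.card_dvd_of_injective
      (MonoidHom.mk' (fun z : Z => (⟨z.1.1, z.2⟩ : Hb)) fun _ _ => rfl) fun a b h => ?_
    exact Subtype.ext (Subtype.ext (congrArg (Subtype.val : Hb → G ⧸ O) h))
  have hZc : (Nat.card Z).Coprime Z.index :=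
    (hHall'.coprime_dvd_left hZH).coprime_dvd_right
      ((Subgroup.relIndex_dvd_index_of_normal Hb Cb).trans hidx)
  obtain ⟨Y, hY⟩ := Subgroup.exists_right_complement'_of_coprime hZc
  have hYcard : Nat.card Y = Z.index := hY.symm.index_eq_card.symm
  haveI hYn : Y.Normal := by
    refine ⟨fun y hy g => ?_⟩
    obtain ⟨⟨⟨z, hz⟩, ⟨w, hw⟩⟩, hzw, -⟩ := Subgroup.isComplement_iff_existsUnique.1 hY g
    simp only at hzw
    have hzc : Commute (w * y * w⁻¹) z := hZcen z hz _
    rw [← hzw, show z * w * y * (z * w)⁻¹ = z * (w * y * w⁻¹) * z⁻¹ by group, ← hzc.eq, mul_inv_cancel_right]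
    exact mul_mem (mul_mem hw hy) (inv_mem hw)
  have hYmem : ∀ y : Cb, y ∈ Y ↔ (orderOf y).Coprime (Nat.card Z) := by
    intro y
    refine ⟨fun hy => ((hYcard ▸ hZc).symm.coprime_dvd_left (Subgroup.orderOf_dvd_natCard _ hy)), fun hy => ?_⟩
    rw [← QuotientGroup.eq_one_iff, ← orderOf_eq_one_iff]
    refine Nat.eq_one_of_dvd_coprimes hy (orderOf_map_dvd (QuotientGroup.mk' Y) y) ?_
    rw [← hY.index_eq_card, Subgroup.index_eq_card]
    exact _root_.orderOf_dvd_natCard _
  set Y' := Y.map Cb.subtype with hY'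
  haveI hY'n : Y'.Normal := by
    refine ⟨?_⟩
    rintro _ ⟨y, hy, rfl⟩ g
    refine ⟨⟨g * y * g⁻¹, (inferInstance : Cb.Normal).conj_mem _ y.2 g⟩, (hYmem _).2 ?_, rfl⟩
    rw [Subgroup.orderOf_mk, show g * (y : G ⧸ O) * g⁻¹ = MulAut.conj g y from rfl, MulEquiv.orderOf_eq,
      Subgroup.orderOf_coe]
    exact (hYmem y).1 hy
  set W := Y'.comap π with hW
  have hYcop : (Nat.card Y').Coprime (Nat.card H) := by
    rw [Subgroup.card_map_of_injective Cb.subtype_injective, hYcard]
    exact hHall'.symm.coprime_dvd_left ((Subgroup.relIndex_dvd_index_of_normal Hb Cb).trans hidx)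
  have hOW : O ≤ W := fun o ho => by
    show (o : G ⧸ O) ∈ Y'
    rw [(QuotientGroup.eq_one_iff o).2 ho]; exact one_mem _
  have hWc : (Nat.card W).Coprime (Nat.card H) := by
    rw [← CfsgLib.TIHall.card_mul_relIndex hOW]
    refine Nat.Coprime.mul_left hOc ?_
    refine hYcop.coprime_dvd_left (dvd_of_eq ?_)
    calc O.relIndex W = ((⊥ : Subgroup (G ⧸ O)).comap π).relIndex W := by
          rw [MonoidHom.comap_bot, QuotientGroup.ker_mk']
      _ = (⊥ : Subgroup (G ⧸ O)).relIndex (W.map π) := Subgroup.relIndex_comap _ _ _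
      _ = Nat.card Y' := by
          rw [Subgroup.map_comap_eq_self_of_surjective (QuotientGroup.mk'_surjective O), Subgroup.relIndex_bot_left]
  have hWO : W ≤ O := by
    rw [hO]
    exact le_sSup (show W ∈ {K : Subgroup G | K.Normal ∧ (Nat.card K).Coprime (Nat.card H)} from
      ⟨inferInstance, hWc⟩)
  have hYbot : ∀ y ∈ Y, y = 1 := by
    intro y hy
    obtain ⟨g, hg⟩ := QuotientGroup.mk'_surjective O (y : G ⧸ O)
    have : g ∈ O := hWO (show π g ∈ Y' from hg ▸ ⟨y, hy, rfl⟩)
    exact Subtype.ext (hg.symm.trans ((QuotientGroup.eq_one_iff g).2 this))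
  haveI : Group.IsSolvable Cb := CfsgLib.Zassenhaus.isSolvable_comm fun a b => by
    obtain ⟨⟨⟨z, hz⟩, ⟨w, hw⟩⟩, hzw, -⟩ := Subgroup.isComplement_iff_existsUnique.1 hY b
    simp only at hzw
    rw [hYbot w hw, mul_one] at hzw
    rw [← hzw]
    exact hZcen z hz a
  haveI : Group.IsSolvable (G ⧸ O) :=
    Group.isSolvable_of_ker_le_range Cb.subtype (MulAut.conjNormal : G ⧸ O →* MulAut Hb) fun g hg => by
      rw [Subgroup.range_subtype]
      refine Subgroup.mem_centralizer_iff.2 fun y hy => ?_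
      have h1 := congrArg Subtype.val (DFunLike.congr_fun (MonoidHom.mem_ker.1 hg) ⟨y, hy⟩)
      rw [MulAut.conjNormal_apply] at h1
      exact (mul_inv_eq_iff_eq_mul.1 h1).symm
  exact (Group.isSolvable_iff_subgroup_quotient O).2 ⟨hOs, inferInstance⟩

end Cfsg.Agent.S4118
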