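import Cfsg.Statements.S4120
import Cfsg.Agent.FrobFix.Main
import Cfsg.Agent.Frobenius.Basic
import Cfsg.Agent.S0042

set_option autoImplicit false
open Cfsg

namespace Cfsg.Agent.S4120

/-- Let the finite group A act faithfully on the finite group G by automorphisms, and suppose A is a Frobenius group with kernel F and complement H such that F fixes only the identity of G. If the fixed-point subgroup C_G(H) is nilpotent, then G is nilpotent. -/
theorem result {G A : Type*} [Group G] [Finite G] [Group A] [Finite A] [MulDistribMulAction A G] [FaithfulSMul A G]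
    (Fk Hc : Subgroup A) [Fk.Normal] (hHc : Cfsg.IsFrobeniusComplement Hc) (hker : Cfsg.frobeniusKernel Hc = (Fk : Set A))
    (hCF : ∀ g : G, (∀ f ∈ Fk, f • g = g) → g = 1) (hnil : Group.IsNilpotent (Subgroup.closure {g : G | ∀ h ∈ Hc, h • g = g})) : Group.IsNilpotent G := by
  obtain ⟨N, hN, -, hNnil⟩ := Cfsg.Agent.S0042.result Hc hHc
  obtain rfl : N = Fk := SetLike.coe_injective (hN.trans hker)
  let φ : A →* MulAut G := MulDistribMulAction.toMulAut A G
  have hfix : Subgroup.closure {g : G | ∀ h ∈ Hc, h • g = g} = CfsgLib.FrobFix.fixS φ Hc := by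
    refine le_antisymm ((Subgroup.closure_le _).2 fun g hg => (CfsgLib.FrobFix.mem_fixS φ).2 hg)
      fun g hg => Subgroup.subset_closure ((CfsgLib.FrobFix.mem_fixS φ).1 hg)
  refine CfsgLib.FrobFix.Hyp.isNilpotent (φ := φ) (F := N) (H := Hc)
    ⟨inferInstance, hNnil, ?_, hCF, hfix ▸ hnil⟩
  intro h hh h1 f hf hc
  have hfH : f ∈ Hc := CfsgLib.Frobenius.centralizer_le hHc hh h1
    (Subgroup.mem_centralizer_singleton_iff.2 (mul_inv_eq_iff_eq_mul.1 hc).symm)
  have hcop : (orderOf f).Coprime (Nat.card Hc) :=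
    (CfsgLib.Frobenius.mem_frobeniusKernel_iff hHc).1 (hker ▸ hf)
  exact orderOf_eq_one_iff.1 (Nat.eq_one_of_dvd_coprimes hcop dvd_rfl
    (Hc.orderOf_coe ⟨f, hfH⟩ ▸ orderOf_dvd_natCard _))

end Cfsg.Agent.S4120
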