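import Cfsg.Statements.S4125
import Cfsg.Agent.PPowOrbit.ClassSizesMain
import Cfsg.Agent.Solvable.Fitting

set_option autoImplicit false
open Cfsg

namespace Cfsg.Agent.S4125

/-- Let G be a finite group and q a prime dividing its order such that every element of q-power order has a conjugacy class of prime-power size. Then G is q-solvable of q-length 1: there are normal subgroups K ≤ L of G with K of order prime to q, L/K a q-group and L of index prime to q. Moreover there is a prime p such that every element of q-power order has a class of p-power size (one prime serving for all of them), and for a Sylow q-subgroup Q: if p = q then Q is normal with a normal complement (a direct factor), while if p ≠ q then Q is abelian, the product of Q with the largest normal p-subgroup O_p(G) is normal in G, and G/O_{q'}(G) is solvable, where O_{q'}(G) is the largest normal subgroup of order prime to q. -/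
theorem result {G : Type*} [Group G] [Finite G] (q : ℕ) [Fact q.Prime] (hq : q ∣ Nat.card G)
    (hBaer : ∀ x : G, (∃ k : ℕ, orderOf x = q ^ k) → ∃ (r : ℕ) (a : ℕ), r.Prime ∧ (Subgroup.centralizer ({x} : Set G)).index = r ^ a) (Q : Sylow q G) :
    (∃ K L : Subgroup G, K.Normal ∧ L.Normal ∧ K ≤ L ∧ (Nat.card K).Coprime q ∧ (∃ m : ℕ, K.relIndex L = q ^ m) ∧ L.index.Coprime q) ∧
    ∃ p : ℕ, p.Prime ∧ (∀ x : G, (∃ k : ℕ, orderOf x = q ^ k) → ∃ a : ℕ, (Subgroup.centralizer ({x} : Set G)).index = p ^ a) ∧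
      (p = q → (Q : Subgroup G).Normal ∧ ∃ N : Subgroup G, N.Normal ∧ N.IsComplement' (Q : Subgroup G)) ∧
      (p ≠ q → IsMulCommutative (Q : Subgroup G) ∧ (Cfsg.pCore p G ⊔ (Q : Subgroup G)).Normal ∧
        ∀ _h : (Cfsg.pPrimeCore q G).Normal, Group.IsSolvable (G ⧸ Cfsg.pPrimeCore q G)) := by
  have hB : CfsgLib.ClassSizes.Hyp q G := hBaer
  refine ⟨CfsgLib.ClassSizes.q_length_one hB, ?_⟩
  set Qs := (Q : Subgroup G)
  have hconj : ∀ x : G, CfsgLib.ClassSizes.IsQ q x → ∃ g : G, g * x * g⁻¹ ∈ Qs := by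
    intro x hx
    obtain ⟨P, hP⟩ := hx.isPGroup.exists_le_sylow
    obtain ⟨g, hg⟩ := MulAction.exists_smul_eq G P Q
    refine ⟨g, ?_⟩
    show g * x * g⁻¹ ∈ (Q : Subgroup G)
    rw [← hg, Sylow.coe_subgroup_smul, Subgroup.mem_pointwise_smul_iff_inv_smul_mem]
    simpa [mul_assoc] using hP (Subgroup.mem_zpowers x)
  -- a centralised normal Sylow subgroup
  have hsplit : ∀ (_ : Qs.Normal),
      (∀ l : ℕ, l.Prime → l ≠ q → ¬ l ∣ (Subgroup.centralizer (Qs : Set G)).index) →
      ∃ p : ℕ, p.Prime ∧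
        (∀ x : G, (∃ k : ℕ, orderOf x = q ^ k) → ∃ a : ℕ, (Subgroup.centralizer ({x} : Set G)).index = p ^ a) ∧
        (p = q → Qs.Normal ∧ ∃ N : Subgroup G, N.Normal ∧ N.IsComplement' Qs) ∧
        (p ≠ q → IsMulCommutative Qs ∧ (Cfsg.pCore p G ⊔ Qs).Normal ∧
          ∀ _h : (Cfsg.pPrimeCore q G).Normal, Group.IsSolvable (G ⧸ Cfsg.pPrimeCore q G)) := by
    intro hn hC
    haveI := hn
    obtain ⟨N, hN, hNc, hNC⟩ := CfsgLib.ClassSizes.exists_normal_complement Q hC
    refine ⟨q, Fact.out, fun x hx => ?_, fun _ => ⟨hn, N, hN, hNc⟩, fun h => (h rfl).elim⟩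
    obtain ⟨g, hg⟩ := hconj x hx
    have hxQ : x ∈ Qs := by
      have := hn.conj_mem _ hg g⁻¹
      simpa [mul_assoc] using this
    have hle : N ≤ Subgroup.centralizer ({x} : Set G) :=
      hNC.trans (Subgroup.centralizer_le (Set.singleton_subset_iff.2 hxQ))
    obtain ⟨m, hm⟩ := Q.2.exists_card_eq
    have h2 := Subgroup.index_dvd_of_le hle
    rw [hNc.symm.index_eq_card, hm] at h2
    obtain ⟨a, -, ha⟩ := (Nat.dvd_prime_pow Fact.out).1 h2
    exact ⟨a, ha⟩
  by_cases hab : IsMulCommutative Qs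
  swap
  · have hn : Qs.Normal := (CfsgLib.ClassSizes.comm_or_normal hB Q).resolve_left hab
    haveI := hn
    refine hsplit hn fun l hl hlq hdvd => ?_
    haveI := Fact.mk hl
    obtain ⟨L⟩ : Nonempty (Sylow l G) := inferInstance
    refine L.not_dvd_index (hdvd.trans (Subgroup.index_dvd_of_le fun h hh => ?_))
    rw [Subgroup.mem_centralizer_iff]
    exact fun z hz => (CfsgLib.ClassSizes.commute_of_normal hB Q hab hlq
      (L.2.to_le (Subgroup.zpowers_le.2 hh)) z hz).symm
  haveI := hab
  have hcomm : ∀ x ∈ Qs, ∀ y ∈ Qs, Commute x y := fun x hx y hy =>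
    congrArg Subtype.val (IsMulCommutative.is_comm.comm (⟨x, hx⟩ : Qs) ⟨y, hy⟩)
  have hcop : ∀ x ∈ Qs, ¬ q ∣ (Subgroup.centralizer ({x} : Set G)).index := fun x hx h =>
    Q.not_dvd_index (h.trans (Subgroup.index_dvd_of_le fun y hy =>
      Subgroup.mem_centralizer_singleton_iff.2 (hcomm y hy x hx).eq))
  by_cases hall : ∀ x ∈ Qs, (Subgroup.centralizer ({x} : Set G)).index = 1
  · have hcen : ∀ x ∈ Qs, ∀ g : G, g * x = x * g := fun x hx g =>
      Subgroup.mem_centralizer_singleton_iff.1
        ((Subgroup.index_eq_one.1 (hall x hx)) ▸ Subgroup.mem_top g)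
    refine hsplit ⟨fun x hx g => ?_⟩ fun l hl _ h => ?_
    · rwa [hcen x hx g, mul_inv_cancel_right]
    · rw [show Subgroup.centralizer (Qs : Set G) = ⊤ from eq_top_iff.2 fun g _ =>
        Subgroup.mem_centralizer_iff.2 fun x hx => (hcen x hx g).symm, Subgroup.index_top] at h
      exact hl.ne_one (Nat.dvd_one.1 h)
  push Not at hall
  obtain ⟨x, hx, hx1⟩ := hall
  obtain ⟨r, a, hr, ha⟩ := hB x (CfsgLib.ClassSizes.isQ_of_mem hx)
  have ha0 : a ≠ 0 := fun h => hx1 (by rw [ha, h, pow_zero])
  have hrq : r ≠ q := fun h => hcop x hx (by rw [ha, h]; exact dvd_pow_self _ ha0)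
  haveI := Fact.mk hr
  have hQ : ∀ y ∈ Qs, ∃ b, (Subgroup.centralizer ({y} : Set G)).index = r ^ b := by
    intro y hy
    obtain ⟨s, b, hs, hb⟩ := hB y (CfsgLib.ClassSizes.isQ_of_mem hy)
    by_cases hb0 : b = 0
    · exact ⟨0, by rw [hb, hb0, pow_zero, pow_zero]⟩
    by_cases hsr : s = r
    · exact ⟨b, hsr ▸ hb⟩
    exfalso
    haveI := Fact.mk hs
    have hsq : s ≠ q := fun h => hcop y hy (by rw [hb, h]; exact dvd_pow_self _ hb0)
    obtain ⟨t, c, ht, hc⟩ := hB (x * y) (CfsgLib.ClassSizes.isQ_of_mem (mul_mem hx hy))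
    have hxy := hcomm x hx y hy
    set Cx := Subgroup.centralizer ({x} : Set G) with hCx
    set Cy := Subgroup.centralizer ({y} : Set G) with hCy
    set Cz := Subgroup.centralizer ({x * y} : Set G) with hCz
    have cop : Cx.index.Coprime Cy.index := by
      rw [ha, hb]; exact ((Nat.coprime_primes hr hs).2 (Ne.symm hsr)).pow a b
    by_cases hc0 : c = 0
    · have htop : Cz = ⊤ := Subgroup.index_eq_one.1 (by rw [hc, hc0, pow_zero])
      have heq : Cx = Cy := by
        ext g
        have hg : g * (x * y) = x * y * g :=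
          Subgroup.mem_centralizer_singleton_iff.1 (htop ▸ Subgroup.mem_top g : g ∈ Cz)
        rw [hCx, hCy, Subgroup.mem_centralizer_singleton_iff, Subgroup.mem_centralizer_singleton_iff]
        constructor
        · intro h
          rw [← mul_assoc, h, mul_assoc, mul_assoc] at hg
          exact mul_left_cancel hg
        · intro h
          rw [mul_assoc x y g, ← h, ← mul_assoc, ← mul_assoc] at hg
          exact mul_right_cancel hg
      rw [heq] at cop
      exact hx1 (heq ▸ (Nat.coprime_self _).1 cop)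
    · have hle : Cx ⊓ Cy ≤ Cz := by
        rintro g ⟨h1, h2⟩
        exact Subgroup.mem_centralizer_singleton_iff.2
          (Commute.mul_right (Subgroup.mem_centralizer_singleton_iff.1 h1 : Commute g x)
            (Subgroup.mem_centralizer_singleton_iff.1 h2 : Commute g y))
      have hinf : (Cx ⊓ Cy).index = Cx.index * Cy.index :=
        le_antisymm (Subgroup.index_inf_le) (Nat.le_of_dvd
          (Nat.pos_of_ne_zero Subgroup.FiniteIndex.index_ne_zero)
          (cop.mul_dvd_of_dvd_of_dvd (Subgroup.index_dvd_of_le inf_le_left)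
            (Subgroup.index_dvd_of_le inf_le_right)))
      have h3 := hinf ▸ Subgroup.index_dvd_of_le hle
      rw [hc, ha, hb] at h3
      rcases ht.dvd_mul.1 ((dvd_pow_self t hc0).trans h3) with h | h
      · have htr := (Nat.prime_dvd_prime_iff_eq ht hr).1 (ht.dvd_of_dvd_pow h)
        exact CfsgLib.ClassSizes.false_of_two_primes (CfsgLib.ClassSizes.isQ_of_mem hy) hxy
          (Ne.symm hsr) hrq hb0 ha hb (htr ▸ hc)
      · have hts := (Nat.prime_dvd_prime_iff_eq ht hs).1 (ht.dvd_of_dvd_pow h)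
        refine CfsgLib.ClassSizes.false_of_two_primes (CfsgLib.ClassSizes.isQ_of_mem hx) hxy.symm
          hsr hsq ha0 hb ha (c := c) ?_
        rw [← hxy.eq, ← hts]
        exact hc
  refine ⟨r, hr, fun z hz => ?_, fun h => absurd h hrq, fun _ => ⟨hab, ?_, fun _ => ?_⟩⟩
  · obtain ⟨g, hg⟩ := hconj z hz
    obtain ⟨b, hb⟩ := hQ _ hg
    exact ⟨b, CfsgLib.ClassSizes.index_centralizer_conj g z ▸ hb⟩
  · set π := QuotientGroup.mk' (Cfsg.pCore r G)
    have hsurj := QuotientGroup.mk'_surjective (Cfsg.pCore r G)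
    have heq : Qs.map π = Cfsg.pCore q (G ⧸ Cfsg.pCore r G) := by
      refine ((Q.mapSurjective hsurj).3 (CfsgLib.Solvable.isPGroup_pCore q) ?_).symm
      rintro _ ⟨y, hy, rfl⟩
      obtain ⟨b, hb⟩ := hQ y hy
      exact CfsgLib.ClassSizes.mem_comap_pCore (CfsgLib.ClassSizes.isQ_of_mem hy) hb
    have hn : ((Qs.map π).comap π).Normal := by
      rw [heq]; exact Subgroup.Normal.comap inferInstance π
    rwa [Subgroup.comap_map_eq, QuotientGroup.ker_mk', sup_comm] at hn
  · set K := Cfsg.pPrimeCore q G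
    set π := QuotientGroup.mk' K
    have hsurj := QuotientGroup.mk'_surjective K
    have heq : Qs.map π = Cfsg.pCore q (G ⧸ K) := by
      refine ((Q.mapSurjective hsurj).3 (CfsgLib.Solvable.isPGroup_pCore q) ?_).symm
      rintro _ ⟨y, hy, rfl⟩
      exact (CfsgLib.ClassSizes.sylow_le_bigL hB Q hy : _)
    haveI hVn : (Qs.map π).Normal := by rw [heq]; infer_instance
    haveI hVc : IsMulCommutative (Qs.map π) := by
      refine ⟨⟨?_⟩⟩
      rintro ⟨_, u, hu, rfl⟩ ⟨_, v, hv, rfl⟩
      exact Subtype.ext ((hcomm u hu v hv).map π).eq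
    have hVi : ¬ q ∣ (Qs.map π).index := fun h =>
      Q.not_dvd_index (h.trans (Subgroup.index_map_dvd _ hsurj))
    refine CfsgLib.ClassSizes.isSolvable_of_selfCentralizing (q := q) (p := r) (Qs.map π) (Q.2.map π) hVi ?_ ?_
    · set V := Qs.map π
      set C := Subgroup.centralizer (V : Set (G ⧸ K))
      intro h hh
      obtain ⟨m, hm⟩ := (Q.2.map π).exists_card_eq
      have hVC : V ≤ C := Subgroup.le_centralizer_iff_isMulCommutative.2 hVc
      obtain ⟨M, hM⟩ := Subgroup.exists_left_complement'_of_coprime (N := V.subgroupOf C) (by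
        rw [Nat.card_congr (Subgroup.subgroupOfEquivOfLe hVC).toEquiv, hm]
        exact Nat.Coprime.coprime_dvd_right (Dvd.intro _ (Subgroup.relIndex_mul_index hVC))
          ((((Fact.out : q.Prime).coprime_iff_not_dvd).2 hVi).pow_left m))
      have hMpow : ∀ y : C, y ^ Nat.card M = 1 → y ∈ M := by
        intro y hy
        obtain ⟨⟨u, v⟩, huv⟩ := hM.2 y
        have hcm : Commute (u : C) (v : C) := Subtype.ext
          ((Subgroup.mem_centralizer_iff.1 (u : C).2 _ v.2).symm)
        have huv' : (u : C) * v = y := huv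
        rw [← huv', hcm.mul_pow] at hy
        have hu : (u : C) ^ Nat.card M = 1 := congrArg Subtype.val (pow_card_eq_one' (x := u))
        rw [hu, one_mul] at hy
        have h1 : orderOf (v : C) ∣ Nat.card M := orderOf_dvd_of_pow_eq_one hy
        have h2 : orderOf (v : C) ∣ q ^ m := by
          rw [← hm, ← Nat.card_congr (Subgroup.subgroupOfEquivOfLe hVC).toEquiv]
          exact Subgroup.orderOf_dvd_natCard _ v.2
        have hcp : (Nat.card M).Coprime (q ^ m) := by
          refine Nat.Coprime.coprime_dvd_left ?_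
            ((((Fact.out : q.Prime).coprime_iff_not_dvd).2 hVi).symm.pow_right m)
          rw [← hM.index_eq_card]
          exact Dvd.intro _ (Subgroup.relIndex_mul_index hVC)
        have := orderOf_eq_one_iff.1 (Nat.eq_one_of_dvd_coprimes hcp h1 h2)
        rw [this, mul_one] at huv'
        exact huv' ▸ u.2
      have hMn : (M.map C.subtype).Normal := ⟨by
        rintro _ ⟨y, hy, rfl⟩ g
        have hgy : g * (y : G ⧸ K) * g⁻¹ ∈ C := (inferInstance : C.Normal).conj_mem _ y.2 g
        refine ⟨⟨_, hgy⟩, hMpow _ (Subtype.ext ?_), rfl⟩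
        rw [SubmonoidClass.coe_pow, OneMemClass.coe_one, conj_pow, ← SubmonoidClass.coe_pow,
          show y ^ Nat.card M = 1 from congrArg Subtype.val (pow_card_eq_one' (x := (⟨y, hy⟩ : M))),
          OneMemClass.coe_one, mul_one, mul_inv_cancel]⟩
      have hMbot : M.map C.subtype = ⊥ := by
        rw [← le_bot_iff, ← CfsgLib.Fitting.pPrimeCore_quotient_eq_bot (G := G) q]
        refine CfsgLib.Solvable.le_pPrimeCore q hMn ?_
        rw [Subgroup.card_map_of_injective C.subtype_injective, ← hM.index_eq_card]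
        exact Nat.Coprime.coprime_dvd_left (Dvd.intro _ (Subgroup.relIndex_mul_index hVC))
          (((Fact.out : q.Prime).coprime_iff_not_dvd).2 hVi).symm
      obtain ⟨⟨u, v⟩, huv⟩ := hM.2 ⟨h, hh⟩
      have hu : ((u : C) : G ⧸ K) = 1 := Subgroup.mem_bot.1 (hMbot ▸ ⟨u, u.2, rfl⟩)
      have e : ((u : C) : G ⧸ K) * ((v : C) : G ⧸ K) = h := congrArg Subtype.val huv
      rw [hu, one_mul] at e
      exact e ▸ v.2
    · rintro _ ⟨y, hy, rfl⟩
      obtain ⟨b, hb⟩ := hQ y hy
      obtain ⟨j, -, hj⟩ := (Nat.dvd_prime_pow hr).1 (hb ▸ CfsgLib.Kazarin.index_map_centralizer π hsurj y)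
      exact ⟨j, hj⟩

end Cfsg.Agent.S4125
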