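import Cfsg.Statements.S4126
import Cfsg.Agent.FGSB.OrderPFix
import Cfsg.Agent.Transfer.Frobenius

set_option autoImplicit false
open Cfsg

namespace Cfsg.Agent.S4126

set_option linter.unusedSectionVars false
open CfsgLib.OrderPFix in
/-- `G = P C(x)` when the class of `x` has `p`-power size. -/
theorem exists_mem_mul {G : Type*} [Group G] [Finite G] {p : ℕ} [Fact p.Prime] {x : G} {a : ℕ}
    (hx : (Subgroup.centralizer ({x} : Set G)).index = p ^ a) (P : Sylow p G) (g : G) :
    ∃ r ∈ (P : Subgroup G), r⁻¹ * g ∈ Subgroup.centralizer ({x} : Set G) := by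
  have hp := (Fact.out : p.Prime)
  set K := Subgroup.centralizer ({x} : Set G)
  obtain ⟨Q⟩ : Nonempty (Sylow p K) := inferInstance
  have hPQ : Nat.card (P : Subgroup G) = p ^ a * Nat.card (Q : Subgroup K) := by
    rw [P.card_eq_multiplicity, Q.card_eq_multiplicity, ← K.index_mul_card, hx,
      Nat.factorization_mul (pow_ne_zero _ hp.ne_zero) Nat.card_pos.ne', Finsupp.add_apply,
      hp.factorization_pow, Finsupp.single_eq_same, pow_add]
  let f : (P : Subgroup G) ⧸ K.subgroupOf P → G ⧸ K := Quotient.map' Subtype.val fun u v h => by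
    rw [QuotientGroup.leftRel_apply] at h ⊢
    exact h
  have hf : Function.Injective f := by
    intro u v
    induction u using QuotientGroup.induction_on
    induction v using QuotientGroup.induction_on
    intro h
    exact QuotientGroup.eq.2 (Subgroup.mem_subgroupOf.2 (QuotientGroup.eq.1 h))
  have hcard : Nat.card (G ⧸ K) ≤ Nat.card ((P : Subgroup G) ⧸ K.subgroupOf P) := by
    change K.index ≤ (K.subgroupOf (P : Subgroup G)).index
    rw [hx]
    have e := (K.subgroupOf (P : Subgroup G)).index_mul_card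
    rw [hPQ] at e
    have hle : Nat.card (K.subgroupOf (P : Subgroup G)) ≤ Nat.card (Q : Subgroup K) := by
      have hm : IsPGroup p ((P : Subgroup G).subgroupOf K) := P.isPGroup'.comap_subtype
      obtain ⟨R, hR⟩ := hm.exists_le_sylow
      rw [← R.card_eq_multiplicity.trans Q.card_eq_multiplicity.symm]
      refine le_trans (le_of_eq ?_) (Subgroup.card_le_of_le hR)
      rw [← Subgroup.card_map_of_injective (f := (P : Subgroup G).subtype) Subtype.val_injective,
        ← Subgroup.card_map_of_injective (f := K.subtype) Subtype.val_injective,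
        Subgroup.subgroupOf_map_subtype, Subgroup.subgroupOf_map_subtype, inf_comm]
    by_contra hlt
    push Not at hlt
    exact absurd e (ne_of_lt (lt_of_le_of_lt (Nat.mul_le_mul_left _ hle)
      (Nat.mul_lt_mul_of_pos_right hlt Nat.card_pos)))
  obtain ⟨u, hu⟩ := (Nat.bijective_iff_injective_and_card f).2
    ⟨hf, le_antisymm (Nat.card_le_card_of_injective f hf) hcard⟩ |>.2 (g : G ⧸ K)
  induction u using QuotientGroup.induction_on with
  | H u => exact ⟨u, u.2, QuotientGroup.eq.1 hu⟩

open scoped commutatorElement in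
/-- A normal `p`-subgroup all of whose elements have classes of `p`-power size is centralised by
the `p'`-elements. -/
theorem commute_of_normal {G : Type*} [Group G] [Finite G] {p : ℕ} [Fact p.Prime] {E : Subgroup G}
    [E.Normal] (hE : IsPGroup p E)
    (h : ∀ e ∈ E, ∃ a : ℕ, (Subgroup.centralizer ({e} : Set G)).index = p ^ a)
    {w : G} (hw : (orderOf w).Coprime p) : ∀ e ∈ E, Commute w e := by
  obtain ⟨P, hP⟩ := hE.exists_le_sylow
  let Z : ℕ → Subgroup G := fun n => E ⊓ Subgroup.upperCentralSeries G n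
  -- the series reaches `E`
  have hstep : ∀ n, Z n = E ∨ Nat.card (Z n) < Nat.card (Z (n + 1)) := by
    intro n
    by_cases hn : Z n = E
    · exact Or.inl hn
    refine Or.inr ?_
    have := P.isPGroup'.isNilpotent
    obtain ⟨c, hc⟩ := Group.IsNilpotent.nilpotent (G := (P : Subgroup G))
    let T : ℕ → Prop := fun i => ∃ e : (P : Subgroup G), (e : G) ∈ E ∧
      e ∈ Subgroup.upperCentralSeries (P : Subgroup G) i ∧ (e : G) ∉ Subgroup.upperCentralSeries G n
    have hT : ∃ i, T i := by
      obtain ⟨e, he, he'⟩ := SetLike.exists_of_lt (lt_of_le_of_ne (inf_le_left : Z n ≤ E) hn)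
      exact ⟨c, ⟨e, hP he⟩, he, by rw [hc]; trivial, fun h' => he' ⟨he, h'⟩⟩
    classical
    obtain ⟨e, heE, hei, hen⟩ := Nat.find_spec hT
    rcases hi : Nat.find hT with _ | i
    · rw [hi, Subgroup.upperCentralSeries_zero, Subgroup.mem_bot] at hei
      exact absurd (hei ▸ one_mem _ : (e : G) ∈ Subgroup.upperCentralSeries G n) hen
    rw [hi, Subgroup.mem_upperCentralSeries_succ_iff] at hei
    have he1 : (e : G) ∈ Subgroup.upperCentralSeries G (n + 1) := by
      rw [Subgroup.mem_upperCentralSeries_succ_iff]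
      intro g
      obtain ⟨a, ha⟩ := h e heE
      obtain ⟨r, hr, hrg⟩ := exists_mem_mul ha P g
      have hk : (r⁻¹ * g) * e = e * (r⁻¹ * g) := Subgroup.mem_centralizer_singleton_iff.1 hrg
      have h2 := hei ⟨r, hr⟩
      by_contra hcon
      refine Nat.find_min hT (hi ▸ Nat.lt_succ_self i : i < Nat.find hT) ⟨_, ?_, h2, ?_⟩
      · have hmem : (e : G) * r * (e : G)⁻¹ * r⁻¹ ∈ E := by
          rw [show (e : G) * r * (e : G)⁻¹ * r⁻¹ = (e : G) * (r * (e : G)⁻¹ * r⁻¹) by group]
          exact mul_mem heE (Subgroup.Normal.conj_mem inferInstance _ (inv_mem heE) r)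
        simpa [commutatorElement_def] using hmem
      · intro hmem
        apply hcon
        have hk' : (r⁻¹ * g) * (e : G)⁻¹ * (r⁻¹ * g)⁻¹ = (e : G)⁻¹ :=
          mul_inv_eq_iff_eq_mul.2 (Commute.inv_right (show Commute (r⁻¹ * g) (e : G) from hk)).eq
        have e1 : (e : G) * g * (e : G)⁻¹ * g⁻¹ =
            (e : G) * r * ((r⁻¹ * g) * (e : G)⁻¹ * (r⁻¹ * g)⁻¹) * r⁻¹ := by group
        rw [hk'] at e1
        simp only [commutatorElement_def] at hmem ⊢
        rw [e1]
        simpa using hmem
    exact Set.ncard_lt_ncard (s := (Z n : Set G)) (t := (Z (n + 1) : Set G))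
      ⟨fun x hx => ⟨hx.1, Subgroup.upperCentralSeries_mono _ n.le_succ hx.2⟩,
        fun h' => hen (h' ⟨heE, he1⟩).2⟩ (Set.toFinite _)
  have hreach : ∀ n, Z n = E ∨ n < Nat.card (Z n) := by
    intro n
    induction n with
    | zero => exact Or.inr Nat.card_pos
    | succ n ih =>
      rcases hstep n with h1 | h1
      · refine Or.inl (le_antisymm inf_le_left ?_)
        calc E = Z n := h1.symm
          _ ≤ Z (n + 1) := inf_le_inf_left _ (Subgroup.upperCentralSeries_mono _ n.le_succ)
      · rcases ih with h2 | h2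
        · refine Or.inl (le_antisymm inf_le_left ?_)
          calc E = Z n := h2.symm
            _ ≤ Z (n + 1) := inf_le_inf_left _ (Subgroup.upperCentralSeries_mono _ n.le_succ)
        · exact Or.inr (lt_of_le_of_lt h2 h1)
  have hN : Z (Nat.card E) = E := (hreach _).resolve_right (not_lt.2 (Subgroup.card_le_of_le inf_le_left))
  -- induction along the series
  have hfix : ∀ n, ∀ e ∈ Z n, Commute w e := by
    intro n
    induction n with
    | zero =>
      intro e he
      replace he := (Subgroup.mem_inf.1 he).2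
      rw [Subgroup.upperCentralSeries_zero, Subgroup.mem_bot] at he
      rw [he]; exact Commute.one_right w
    | succ n ih =>
      intro e he'
      obtain ⟨heE, he⟩ := Subgroup.mem_inf.1 he'
      have h1 : e * w * e⁻¹ * w⁻¹ ∈ Subgroup.upperCentralSeries G n := by
        have := (Subgroup.mem_upperCentralSeries_succ_iff).1 he w
        simpa [commutatorElement_def] using this
      have hc : w * e * w⁻¹ * e⁻¹ ∈ Z n := by
        refine Subgroup.mem_inf.2 ⟨E.mul_mem (Subgroup.Normal.conj_mem inferInstance _ heE w) (inv_mem heE), ?_⟩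
        rw [show w * e * w⁻¹ * e⁻¹ = (e * w * e⁻¹ * w⁻¹)⁻¹ by group]
        exact inv_mem h1
      exact CfsgLib.LocalB.commute_of_stab hE hw hc.1 (ih _ hc)
  exact fun e he => hfix _ e (hN.symm ▸ he)

/-- Let G be a finite group and p a prime. Suppose every element of order p, and when p = 2 also every element of order 4, has a conjugacy class of p-power size. Then G has a normal p-complement. -/
theorem result {G : Type*} [Group G] [Finite G] (p : ℕ) [Fact p.Prime]
    (h : ∀ x : G, (orderOf x = p ∨ (p = 2 ∧ orderOf x = 4)) → ∃ a : ℕ, (Subgroup.centralizer ({x} : Set G)).index = p ^ a) :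
    Cfsg.HasNormalPComplement p G := by
  classical
  have hp := (Fact.out : p.Prime)
  set R := Subgroup.normalClosure {x : G | CfsgLib.OrderPFix.IsSmall p x} with hR
  obtain ⟨P⟩ : Nonempty (Sylow p G) := inferInstance
  have hRP : R ≤ (P : Subgroup G) := by
    refine (Subgroup.closure_le _).2 fun y hy => ?_
    obtain ⟨x, hx, hxy⟩ := Group.mem_conjugatesOfSet_iff.1 hy
    obtain ⟨g, rfl⟩ := isConj_iff.1 hxy
    obtain ⟨a, ha⟩ := h x hx
    obtain ⟨k, hk⟩ : ∃ k, orderOf x = p ^ k := by
      rcases hx with hx | ⟨rfl, hx⟩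
      · exact ⟨1, by rw [hx, pow_one]⟩
      · exact ⟨2, by rw [hx]; rfl⟩
    obtain ⟨Q, hQ⟩ := (IsPGroup.of_card (p := p) (G := Subgroup.zpowers x) (n := k)
      (by rw [Nat.card_zpowers, hk])).exists_le_sylow
    obtain ⟨c, hc⟩ := MulAction.exists_smul_eq G Q P
    obtain ⟨r, hr, hrg⟩ := exists_mem_mul ha P (g * c⁻¹ * c)
    obtain ⟨s, hs, hsc⟩ := exists_mem_mul ha Q c⁻¹
    have hxP : x ∈ (P : Subgroup G) := by
      subst hc
      refine ⟨s * x * s⁻¹, mul_mem (mul_mem hs (hQ (Subgroup.mem_zpowers x))) (inv_mem hs), ?_⟩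
      have hk' := Subgroup.mem_centralizer_singleton_iff.1 hsc
      show c * (s * x * s⁻¹) * c⁻¹ = x
      calc c * (s * x * s⁻¹) * c⁻¹ = (s⁻¹ * c⁻¹)⁻¹ * (x * (s⁻¹ * c⁻¹)) := by group
        _ = x := by rw [← hk', inv_mul_cancel_left]
    rw [inv_mul_cancel_right] at hrg
    have hk' := Subgroup.mem_centralizer_singleton_iff.1 hrg
    rw [show g * x * g⁻¹ = r * ((r⁻¹ * g) * x * (r⁻¹ * g)⁻¹) * r⁻¹ by group, hk', mul_inv_cancel_right]
    exact mul_mem (mul_mem hr hxP) (inv_mem hr)
  have hRp : IsPGroup p R := P.isPGroup'.to_le hRP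
  obtain ⟨C, hCR, hinv, hH, hpow, hcrit⟩ := CfsgLib.OrderPFix.exists_critical_subgroup (p := p) hRp
  have hnR : ∀ g : G, g ∈ Subgroup.normalizer (R : Set G) := fun g => by
    rw [Subgroup.normalizer_eq_top]; trivial
  let E : Subgroup G :=
    { carrier := {x | x ∈ C ∧ x ^ CfsgLib.OrderPFix.small p = 1}
      one_mem' := ⟨one_mem _, one_pow _⟩
      mul_mem' := fun {x y} hx hy => ⟨mul_mem hx.1 hy.1, by
        have := congrArg Subtype.val
          (CfsgLib.OrderPFix.small_pow_mul (p := p) hH hpow ⟨x, hx.1⟩ ⟨y, hy.1⟩)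
        simp only [Subgroup.coe_pow, Subgroup.coe_mul] at this
        rw [this, hx.2, hy.2, one_mul]⟩
      inv_mem' := fun {x} hx => ⟨inv_mem hx.1, by rw [inv_pow, hx.2, inv_one]⟩ }
  have hEn : E.Normal := ⟨fun x hx g => ⟨hinv g (hnR g) x hx.1, by rw [conj_pow, hx.2, mul_one, mul_inv_cancel]⟩⟩
  have hEfix : ∀ w : G, (orderOf w).Coprime p → ∀ e ∈ E, Commute w e := fun w hw =>
    commute_of_normal (E := E) (hRp.to_le fun x hx => hCR hx.1) (fun e he => by
      rcases CfsgLib.OrderPFix.eq_one_or_isSmall he.2 with rfl | h1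
      · exact ⟨0, by rw [pow_zero, Subgroup.index_eq_one, eq_top_iff]; intro g _
                     exact Subgroup.mem_centralizer_singleton_iff.2 (by rw [mul_one, one_mul])⟩
      · exact h e h1) hw
  refine CfsgLib.Fusion.hasNormalPComplement_of_localCondition fun T hT w hwT hw => ?_
  have hwR : ∀ t ∈ R, Commute w t := hcrit w (hnR w) hw
    (CfsgLib.OrderPFix.commute_of_class_two (hRp.to_le hCR) hH hpow hw (hinv w (hnR w)) fun t ht hts => by
      refine hEfix w hw t ⟨ht, ?_⟩
      rcases hts with h1 | ⟨rfl, h1⟩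
      · obtain ⟨m, hm⟩ := CfsgLib.OrderPFix.dvd_small (p := p)
        rw [hm, pow_mul, ← h1, pow_orderOf_eq_one, one_pow]
      · rw [show CfsgLib.OrderPFix.small 2 = 4 from rfl, ← h1, pow_orderOf_eq_one])
  refine Subgroup.mem_centralizer_iff.2 fun t ht => ?_
  exact (CfsgLib.OrderPFix.commute_of_commute_small hT hw hwT
    (fun u _ hus => hwR u (Subgroup.subset_normalClosure hus)) t ht).symm.eq

end Cfsg.Agent.S4126
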