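import Cfsg.Statements.S4130
import Cfsg.Agent.FGSB.SquarefreeStructure
import Cfsg.Agent.Solvable.Supersolvable
import Cfsg.Agent.Solvable.Huppert

set_option autoImplicit false
open scoped commutatorElement
open Cfsg

namespace Cfsg.Agent.S4130

/-- Let G be a finite group all of whose conjugacy class sizes are square-free. Then G is supersolvable, G/F(G) and the derived subgroup G′ are cyclic of square-free order (F(G) the Fitting subgroup, which is normal), F(G) has nilpotency class at most 2, and G is metabelian. -/
theorem result {G : Type*} [Group G] [Finite G]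
    (h : ∀ x : G, Squarefree (Subgroup.centralizer ({x} : Set G)).index) :
    Cfsg.IsSupersolvable G ∧ (Cfsg.fittingSubgroup G).Normal ∧
    (∀ _h : (Cfsg.fittingSubgroup G).Normal, IsCyclic (G ⧸ Cfsg.fittingSubgroup G) ∧ Squarefree (Cfsg.fittingSubgroup G).index) ∧
    IsCyclic (commutator G) ∧ Squarefree (Nat.card (commutator G)) ∧
    Subgroup.upperCentralSeries ↥(Cfsg.fittingSubgroup G) 2 = ⊤ ∧ commutator ↥(commutator G) = ⊥ := by
  classical
  obtain ⟨hFn, hGF, hsq, hFF⟩ := CfsgLib.SquarefreeStructure.fitting_facts h
  set F := Cfsg.fittingSubgroup G with hF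
  have hGnil : Group.IsNilpotent (commutator G) := by
    have : Group.IsNilpotent F := CfsgLib.Solvable.isNilpotent_fittingSubgroup
    exact Group.nilpotent_of_surjective (Subgroup.subgroupOfEquivOfLe hGF).toMonoidHom
      (Subgroup.subgroupOfEquivOfLe hGF).surjective
  have hG'sq : Squarefree (Nat.card (commutator G)) := by
    rw [Nat.squarefree_iff_prime_squarefree]
    intro p hp hd
    have := Fact.mk hp
    set O := Cfsg.pPrimeCore p G
    have hOn : O.Normal := (CfsgLib.Solvable.pPrimeCore_spec p).1
    set f := QuotientGroup.mk' O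
    have hfs : Function.Surjective f := QuotientGroup.mk'_surjective O
    have h1 : Nat.card (commutator (G ⧸ O)) ∣ p := by
      refine CfsgLib.SquarefreeStructure.card_commutator_dvd (fun y => ?_)
        (CfsgLib.Fitting.pPrimeCore_quotient_eq_bot p)
      obtain ⟨x, rfl⟩ := hfs y
      exact (h x).squarefree_of_dvd (CfsgLib.SquarefreeClass.index_centralizer_map_dvd f hfs x)
    have hmap : (commutator G).map f = commutator (G ⧸ O) := by
      rw [_root_.commutator_def, _root_.commutator_def, Subgroup.map_commutator,
        Subgroup.map_top_of_surjective f hfs]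
    have h2 : Nat.card (commutator G) =
        Nat.card ((f.comp (commutator G).subtype).ker) * Nat.card ((f.comp (commutator G).subtype).range) := by
      rw [← Subgroup.index_ker, Subgroup.card_mul_index]
    have h3 : (f.comp (commutator G).subtype).range = commutator (G ⧸ O) := by
      rw [MonoidHom.range_comp, Subgroup.range_subtype, hmap]
    have h4 : (Nat.card ((f.comp (commutator G).subtype).ker)).Coprime (p * p) := by
      refine Nat.Coprime.coprime_dvd_left ?_ ((CfsgLib.Solvable.coprime_card_pPrimeCore p (G := G)).mul_right
        (CfsgLib.Solvable.coprime_card_pPrimeCore p (G := G)))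
      rw [← Subgroup.card_map_of_injective (commutator G).subtype_injective]
      refine Subgroup.card_dvd_of_le ?_
      rintro _ ⟨u, hu, rfl⟩
      exact (QuotientGroup.eq_one_iff _).1 hu
    rw [h2, h3] at hd
    have h5 := (h4.symm.dvd_of_dvd_mul_left hd).trans h1
    have h6 := Nat.le_of_dvd hp.pos h5
    nlinarith [hp.two_le]
  have hG'cyc : IsCyclic (commutator G) := by
    have : IsZGroup (commutator G) := IsZGroup.of_squarefree hG'sq
    infer_instance
  have hquot : Cfsg.IsSupersolvable (G ⧸ commutator G) :=
    CfsgLib.Huppert.supersolvable_of_comm_aux _ (Abelianization G) rfl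
  refine ⟨CfsgLib.Supersolvable.of_cyclic_normal hquot, hFn, fun _ => ⟨?_, hsq⟩, hG'cyc, hG'sq, ?_, ?_⟩
  · have : IsZGroup (G ⧸ F) := IsZGroup.of_squarefree (by rwa [← Subgroup.index_eq_card])
    have : Group.IsNilpotent (G ⧸ F) := by
      let _ : CommGroup (G ⧸ F) :=
        { (inferInstance : Group (G ⧸ F)) with
          mul_comm := fun a b => by
            obtain ⟨a, rfl⟩ := QuotientGroup.mk_surjective a
            obtain ⟨b, rfl⟩ := QuotientGroup.mk_surjective b
            rw [← QuotientGroup.mk_mul, ← QuotientGroup.mk_mul, QuotientGroup.eq]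
            refine hGF ?_
            have h1 : ⁅b⁻¹, a⁻¹⁆ ∈ commutator G :=
              Subgroup.commutator_mem_commutator (Subgroup.mem_top _) (Subgroup.mem_top _)
            simpa [commutatorElement_def, mul_assoc] using h1 }
      infer_instance
    infer_instance
  · refine eq_top_iff.2 fun a _ => ?_
    rw [Subgroup.mem_upperCentralSeries_succ_iff]
    intro b
    rw [Subgroup.upperCentralSeries_one, Subgroup.mem_center_iff]
    intro c
    refine Subtype.ext ?_
    exact Subgroup.mem_center_iff.1 (hFF _ a.2 _ b.2) (c : G)
  · exact CfsgLib.SquarefreeStructure.commutator_eq_bot_of_isCyclic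

end Cfsg.Agent.S4130
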