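import Cfsg.Statements.S4131
import Cfsg.Agent.ClassSizeP.Main
import Cfsg.Agent.ClassSizeP.SolvableCase

set_option autoImplicit false
open Cfsg

namespace Cfsg.Agent.S4131

/-- Let G be a finite group and p the smallest prime dividing its order. Suppose p² does not divide the conjugacy class size of any element whose order is a power of a prime other than p. Then G has a normal p-complement; in particular G is solvable. -/
theorem result {G : Type*} [Group G] [Finite G] (p : ℕ) [Fact p.Prime]
    (hp : p ∣ Nat.card G) (hmin : ∀ r : ℕ, r.Prime → r ∣ Nat.card G → p ≤ r)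
    (h : ∀ x : G, (∃ (r : ℕ) (k : ℕ), r.Prime ∧ r ≠ p ∧ orderOf x = r ^ k) → ¬ p ^ 2 ∣ (Subgroup.centralizer ({x} : Set G)).index) :
    Cfsg.HasNormalPComplement p G ∧ Group.IsSolvable G := by
  by_cases hp2 : p = 2
  · subst hp2
    have h1 := CfsgLib.ClassSizeP.twoNil (G := G) fun y hy hpp => by
      obtain ⟨r, k, hr, hk, he⟩ := (isPrimePow_nat_iff _).1 hpp
      refine fun h4 => h y ⟨r, k, hr, fun e => ?_, he.symm⟩ ((by norm_num : (2 : ℕ) ^ 2 = 4) ▸ h4)
      subst e
      rw [← he] at hy
      exact Nat.not_even_iff_odd.2 hy (Nat.even_pow.2 ⟨even_two, hk.ne'⟩)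
    exact ⟨h1, CfsgLib.ClassSizeP.twoNil_solvable h1⟩
  · have hodd : Odd (Nat.card G) := Nat.not_even_iff_odd.1 fun he => hp2
      (le_antisymm (hmin 2 Nat.prime_two (even_iff_two_dvd.1 he)) (Fact.out : p.Prime).two_le)
    haveI : Group.IsSolvable G := CfsgLib.OddEnd.odd_solvable _ hodd
    exact ⟨CfsgLib.ClassSizeP.pNil_of_solvable hmin h, inferInstance⟩

end Cfsg.Agent.S4131
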