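import Cfsg.Statements.S4132
import Cfsg.Agent.ClassSizeP.Squarefree

set_option autoImplicit false
open Cfsg

namespace Cfsg.Agent.S4132

/-- Let G be a finite group in which every element of prime-power order has a conjugacy class of square-free size. Then G is supersolvable, its third derived subgroup is trivial, G/F(G) is abelian of square-free exponent (a direct product of elementary abelian groups), and the derived subgroup of F(G) has square-free order. -/
theorem result {G : Type*} [Group G] [Finite G]
    (h : ∀ x : G, (∃ (r : ℕ) (k : ℕ), r.Prime ∧ orderOf x = r ^ k) → Squarefree (Subgroup.centralizer ({x} : Set G)).index) :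
    Cfsg.IsSupersolvable G ∧ derivedSeries G 3 = ⊥ ∧
    (∀ _h : (Cfsg.fittingSubgroup G).Normal, IsMulCommutative (G ⧸ Cfsg.fittingSubgroup G) ∧ Squarefree (Monoid.exponent (G ⧸ Cfsg.fittingSubgroup G))) ∧
    Squarefree (Nat.card (commutator ↥(Cfsg.fittingSubgroup G))) := by
  have hG : CfsgLib.ClassSizeP.SquarefreePP G := h
  obtain ⟨hcomm, e, he, hpow⟩ := CfsgLib.ClassSizeP.fitting_quotient hG
  set F := Cfsg.fittingSubgroup G
  have : Group.IsNilpotent F := CfsgLib.Solvable.isNilpotent_fittingSubgroup
  have hFsq := CfsgLib.ClassSizeP.squarefree_commutator (hG.normal F)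
  refine ⟨hG.supersolvable, ?_, fun _ => ⟨?_, ?_⟩, hFsq⟩
  · have h1 : derivedSeries G 1 ≤ F := by
      rw [derivedSeries_succ, derivedSeries_zero, Subgroup.commutator_le]
      exact fun a _ b _ => hcomm a b
    have hcyc : IsCyclic (commutator ↥F) := by
      haveI : IsZGroup (commutator ↥F) := IsZGroup.of_squarefree hFsq
      infer_instance
    have h2 : derivedSeries G 2 ≤ (commutator ↥F).map F.subtype := by
      rw [derivedSeries_succ, _root_.commutator_def, Subgroup.map_commutator,
        ← MonoidHom.range_eq_map, Subgroup.range_subtype]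
      exact Subgroup.commutator_mono h1 h1
    rw [derivedSeries_succ, eq_bot_iff, Subgroup.commutator_le]
    intro a ha b hb
    obtain ⟨x, hx, rfl⟩ := h2 ha
    obtain ⟨y, hy, rfl⟩ := h2 hb
    have hxy : (⟨x, hx⟩ : commutator ↥F) * ⟨y, hy⟩ = ⟨y, hy⟩ * ⟨x, hx⟩ := by
      let _ : CommGroup (commutator ↥F) := IsCyclic.commGroup
      exact mul_comm _ _
    rw [Subgroup.mem_bot, commutatorElement_eq_one_iff_commute]
    exact congrArg (fun z : commutator ↥F => ((z : ↥F) : G)) hxy
  · refine ⟨⟨fun a b => ?_⟩⟩
    obtain ⟨a, rfl⟩ := QuotientGroup.mk_surjective a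
    obtain ⟨b, rfl⟩ := QuotientGroup.mk_surjective b
    rw [← mul_inv_eq_one, ← QuotientGroup.mk_mul, ← QuotientGroup.mk_mul, ← QuotientGroup.mk_inv,
      ← QuotientGroup.mk_mul, QuotientGroup.eq_one_iff, mul_inv_rev, ← mul_assoc]
    exact hcomm a b
  · refine he.squarefree_of_dvd (Monoid.exponent_dvd_of_forall_pow_eq_one fun x => ?_)
    obtain ⟨g, rfl⟩ := QuotientGroup.mk_surjective x
    rw [← QuotientGroup.mk_pow, QuotientGroup.eq_one_iff]
    exact hpow g

end Cfsg.Agent.S4132
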