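import Cfsg.Statements.S4133
import Cfsg.Agent.TwoPowIndex.Complement
import Cfsg.Agent.S4035
import Cfsg.Agent.S0089
import Cfsg.Agent.S0205
import Cfsg.Agent.Char.Orthogonality

/-!
`x` centralizes the perfect residual `K`, and some `y ∈ K` has a class of even size in `K`; the class
of `x * y` then has size divisible by `2 ^ (a + 1)`.
-/

set_option autoImplicit false
set_option linter.style.haveILetI false
open Cfsg Subgroup

namespace Cfsg.Agent.S4133

/-- Let G be a finite group all of whose Sylow subgroups are abelian, and let 2^a be the largest power of 2 dividing the size of any conjugacy class of G. If some element has a conjugacy class of size exactly 2^a, then G is solvable. -/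
theorem result {G : Type*} [Group G] [Finite G]
    (hA : ∀ (p : ℕ) [Fact p.Prime] (P : Sylow p G), IsMulCommutative (P : Subgroup G))
    (a : ℕ) (hmax : ∀ y : G, ¬ 2 ^ (a + 1) ∣ (Subgroup.centralizer ({y} : Set G)).index) (hx : ∃ x : G, (Subgroup.centralizer ({x} : Set G)).index = 2 ^ a) :
    Group.IsSolvable G := by
  classical
  by_contra hns
  haveI : Fact (Nat.Prime 2) := ⟨Nat.prime_two⟩
  -- the perfect residual
  have hex : ∃ m, ∃ n, Nat.card (derivedSeries G n) = m := ⟨_, 0, rfl⟩
  obtain ⟨n, hn⟩ := Nat.find_spec hex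
  set K := derivedSeries G n with hKdef
  haveI hKn : K.Normal := derivedSeries_normal G n
  have hKK : ⁅K, K⁆ = K := by
    refine CfsgLib.Solvable.eq_of_le_of_card_le (commutator_le_right K K) ?_
    rw [hn]
    exact Nat.find_min' hex ⟨n + 1, rfl⟩
  have hperf : commutator K = ⊤ := by
    refine map_injective K.subtype_injective ?_
    rw [map_subtype_commutator, ← MonoidHom.range_eq_map, Subgroup.range_subtype, hKK]
  have hK1 : K ≠ ⊥ := fun h => hns (⟨n, h⟩)
  haveI : Nontrivial K := (Subgroup.nontrivial_iff_ne_bot K).2 hK1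
  -- the Sylow subgroups of `K` are abelian, so `K` has trivial centre
  have hAK : ∀ p : ℕ, p.Prime → ∀ P : Sylow p K, IsMulCommutative P := by
    intro p hp P
    haveI : Fact p.Prime := ⟨hp⟩
    obtain ⟨T, hT⟩ := (P.2.map K.subtype).exists_le_sylow
    refine ⟨⟨fun u v => ?_⟩⟩
    apply Subtype.ext; apply Subtype.ext
    have h := congrArg Subtype.val ((hA p T).is_comm.comm ⟨_, hT (mem_map_of_mem K.subtype u.2)⟩
      ⟨_, hT (mem_map_of_mem K.subtype v.2)⟩)
    simpa using h
  have hZ : center K = ⊥ := by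
    have h := Cfsg.Agent.S0089.result (G := K) hAK
    rwa [hperf, top_inf_eq] at h
  have hA2 : CfsgLib.TwoPowIndex.TwoAbel G := fun P u hu v hv =>
    congrArg Subtype.val ((hA 2 P).is_comm.comm ⟨u, hu⟩ ⟨v, hv⟩)
  -- `x` centralizes `K`
  obtain ⟨x, hx⟩ := hx
  set Cx := centralizer ({x} : Set G)
  have hKx : K ≤ Cx := by
    obtain ⟨j, -, hj⟩ := (Nat.dvd_prime_pow Nat.prime_two).1
      (hx ▸ CfsgLib.Kazarin.relIndex_dvd Cx K)
    exact subgroupOf_eq_top.1
      (CfsgLib.TwoPowIndex.eq_top_of_two_pow_index (hA2.sub K) hperf (Cx.subgroupOf K) hj)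
  -- some element of `K` has a class of even size in `K`
  obtain ⟨y, hy⟩ : ∃ y : K, 2 ∣ (centralizer ({y} : Set K)).index := by
    by_contra hno
    push Not at hno
    obtain ⟨P⟩ := (inferInstance : Nonempty (Sylow 2 K))
    obtain ⟨-, H, hHn, hH2, -, hsup⟩ := Cfsg.Agent.S4035.result (p := 2) (G := K) (fun u _ => by
      have e : (ConjClasses.mk u).carrier.ncard = (centralizer ({u} : Set K)).index := by
        rw [← CfsgLib.Char.card_conj_class, ← Nat.card_coe_set_eq]
        exact Nat.card_congr (Equiv.subtypeEquivRight fun v => by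
          rw [ConjClasses.mem_carrier_iff_mk_eq, ConjClasses.mk_eq_mk_iff_isConj]
          exact isConj_comm)
      rw [e]
      exact hno u) P
    haveI := hHn
    have hH : H = ⊤ := by
      rw [eq_top_iff, ← hperf, _root_.commutator_def, commutator_le]
      intro g₁ _ g₂ _
      obtain ⟨p₁, hp₁, h₁, hh₁, rfl⟩ := mem_sup_of_normal_right.1 (hsup ▸ mem_top g₁)
      obtain ⟨p₂, hp₂, h₂, hh₂, rfl⟩ := mem_sup_of_normal_right.1 (hsup ▸ mem_top g₂)
      rw [← QuotientGroup.eq_one_iff, ← QuotientGroup.mk'_apply, map_commutatorElement, map_mul,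
        map_mul, QuotientGroup.mk'_apply H h₁, QuotientGroup.mk'_apply H h₂,
        (QuotientGroup.eq_one_iff h₁).2 hh₁, (QuotientGroup.eq_one_iff h₂).2 hh₂, mul_one,
        mul_one, commutatorElement_eq_one_iff_mul_comm, ← map_mul, ← map_mul,
        (hA2.sub K) P p₁ hp₁ p₂ hp₂]
    rw [hH, card_top] at hH2
    haveI : Group.IsSolvable K :=
      Cfsg.Agent.S0205.result (Nat.odd_iff.2 (Nat.two_dvd_ne_zero.1 hH2))
    exact (Group.IsSolvable.commutator_lt_top_of_nontrivial K).ne hperf
  -- the class of `x * y`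
  set Cy := centralizer ({(y : G)} : Set G)
  have hCy : Cy.subgroupOf K = centralizer ({y} : Set K) := by
    ext u
    rw [mem_subgroupOf, mem_centralizer_singleton_iff, mem_centralizer_singleton_iff]
    exact ⟨fun h => Subtype.ext h, fun h => congrArg Subtype.val h⟩
  have hcent : centralizer ({x * (y : G)} : Set G) = Cy ⊓ Cx := by
    ext g
    simp only [mem_inf, Cy, Cx, mem_centralizer_singleton_iff]
    constructor
    · intro hg
      set c := x⁻¹ * (g * x * g⁻¹) with hc
      have hc' : c = (y : G) * (g * (y : G) * g⁻¹)⁻¹ := by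
        calc c = x⁻¹ * (g * (x * (y : G))) * ((y : G)⁻¹ * g⁻¹) := by rw [hc]; group
          _ = x⁻¹ * ((x * (y : G)) * g) * ((y : G)⁻¹ * g⁻¹) := by rw [hg]
          _ = _ := by group
      have hcK : c ∈ K := hc' ▸ mul_mem y.2 (Subgroup.inv_mem _ (hKn.conj_mem _ y.2 g))
      have hc1 : c = 1 := by
        have hz : (⟨c, hcK⟩ : K) ∈ center K := mem_center_iff.2 fun k => by
          apply Subtype.ext
          show (k : G) * c = c * k
          have e1 : x * (k : G) = k * x :=
            (mem_centralizer_singleton_iff.1 (hKx k.2)).symm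
          have e2 : x * (g⁻¹ * (k : G) * g) = g⁻¹ * (k : G) * g * x :=
            (mem_centralizer_singleton_iff.1 (hKx (by simpa using hKn.conj_mem _ k.2 g⁻¹))).symm
          calc (k : G) * c = (k * x⁻¹) * (g * x * g⁻¹) := by rw [hc]; group
            _ = (x⁻¹ * k) * (g * x * g⁻¹) := by
                rw [show (k : G) * x⁻¹ = x⁻¹ * k from
                  eq_inv_mul_of_mul_eq (by rw [← mul_assoc, e1, mul_inv_cancel_right])]
            _ = x⁻¹ * g * (g⁻¹ * k * g * x) * g⁻¹ := by group
            _ = x⁻¹ * g * (x * (g⁻¹ * k * g)) * g⁻¹ := by rw [e2]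
            _ = c * k := by rw [hc]; group
        rw [hZ, mem_bot] at hz
        exact congrArg Subtype.val hz
      have hgx : g * x * g⁻¹ = x := (inv_mul_eq_one.1 (hc ▸ hc1)).symm
      have hgy : g * (y : G) * g⁻¹ = y := (mul_inv_eq_one.1 (hc' ▸ hc1)).symm
      exact ⟨mul_inv_eq_iff_eq_mul.1 hgy, mul_inv_eq_iff_eq_mul.1 hgx⟩
    · rintro ⟨h1, h2⟩
      rw [← mul_assoc, h2, mul_assoc, h1, mul_assoc]
  refine hmax (x * (y : G)) ?_
  rw [hcent, ← relIndex_mul_index (inf_le_right : Cy ⊓ Cx ≤ Cx), inf_relIndex_right, hx,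
    pow_succ, mul_comm]
  refine Nat.mul_dvd_mul ?_ dvd_rfl
  have h1 : 2 ∣ Cy.relIndex K := by
    show 2 ∣ (Cy.subgroupOf K).index
    rw [hCy]; exact hy
  have h2 := CfsgLib.Kazarin.relIndex_dvd (Cy.subgroupOf Cx) (K.subgroupOf Cx)
  rw [relIndex_subgroupOf hKx] at h2
  exact h1.trans h2

end Cfsg.Agent.S4133
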