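import Cfsg.Statements.S4135
import Cfsg.Agent.FGSB.SemiregularPair
import Cfsg.Agent.Solvable.Basics
import Cfsg.Agent.Solvable.PGroupBasic
import Mathlib.GroupTheory.Nilpotent
import Mathlib.Tactic

set_option autoImplicit false
open Cfsg

open scoped Pointwise commutatorElement

namespace Cfsg.Agent.S4135

open Subgroup

set_option linter.unusedSectionVars false
set_option linter.style.haveILetI false

variable {G : Type*} [Group G] [Finite G] {N : Subgroup G} {m : ℕ}

/-- The hypothesis on class sizes. -/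
def OneSize (N : Subgroup G) (m : ℕ) : Prop :=
  ∀ x ∈ N, (centralizer ({x} : Set G)).index = 1 ∨ (centralizer ({x} : Set G)).index = m

local notation "cz" a:max => centralizer ({a} : Set _)

theorem mem_cz {a b : G} : b ∈ centralizer ({a} : Set G) ↔ b * a = a * b := mem_centralizer_singleton_iff

theorem center_iff {a : G} : a ∈ center G ↔ (centralizer ({a} : Set G)).index = 1 := by
  rw [index_eq_one, eq_top_iff]
  exact ⟨fun h b _ => mem_cz.2 (mem_center_iff.1 h b), fun h => mem_center_iff.2 fun b => mem_cz.1 (h (mem_top b))⟩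

theorem index_eq (h : OneSize N m) {a : G} (ha : a ∈ N) (hc : a ∉ center G) :
    (centralizer ({a} : Set G)).index = m :=
  (h a ha).resolve_left fun e => hc (center_iff.2 e)

theorem cz_eq (h : OneSize N m) {a b : G} (ha : a ∈ N) (hac : a ∉ center G) (hb : b ∈ N)
    (hbc : b ∉ center G) (hle : centralizer ({a} : Set G) ≤ centralizer ({b} : Set G)) :
    centralizer ({a} : Set G) = centralizer ({b} : Set G) := by
  refine eq_of_le_of_card_ge hle ?_
  have h1 := card_mul_index (centralizer ({a} : Set G))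
  have h2 := card_mul_index (centralizer ({b} : Set G))
  rw [index_eq h ha hac] at h1
  rw [index_eq h hb hbc] at h2
  have hm : 0 < m := index_eq h ha hac ▸ Nat.pos_of_ne_zero index_ne_zero_of_finite
  exact le_of_eq (Nat.eq_of_mul_eq_mul_right hm (h2.trans h1.symm))

theorem cz_pow {a : G} (i : ℤ) : centralizer ({a} : Set G) ≤ centralizer ({a ^ i} : Set G) := fun b hb =>
  mem_cz.2 ((show Commute b a from mem_cz.1 hb).zpow_right i)

theorem cz_mem_zpowers {a b : G} (hb : b ∈ zpowers a) :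
    centralizer ({a} : Set G) ≤ centralizer ({b} : Set G) := by
  obtain ⟨i, rfl⟩ := mem_zpowers_iff.1 hb
  exact cz_pow i

theorem mem_zpowers_mul {a b : G} (hab : Commute a b) (hcop : (orderOf a).Coprime (orderOf b)) :
    a ∈ zpowers (a * b) := by
  obtain ⟨i, hi⟩ := exists_pow_eq_self_of_coprime (x := a) (n := orderOf b) hcop.symm
  have e : (a * b) ^ orderOf b = a ^ orderOf b := by rw [hab.mul_pow, pow_orderOf_eq_one, mul_one]
  have h1 : (a ^ orderOf b) ^ i ∈ zpowers (a * b) := pow_mem (e ▸ pow_mem (mem_zpowers (a * b)) _) i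
  rwa [hi] at h1

/-- Commuting noncentral elements of coprime orders have the same centralizer. -/
theorem cz_coprime (h : OneSize N m) {a b : G} (ha : a ∈ N) (hac : a ∉ center G) (hb : b ∈ N)
    (hbc : b ∉ center G) (hab : Commute a b) (hcop : (orderOf a).Coprime (orderOf b)) :
    centralizer ({a} : Set G) = centralizer ({b} : Set G) := by
  have hA := mem_zpowers_mul hab hcop
  have hB : b ∈ zpowers (a * b) := hab.eq ▸ mem_zpowers_mul hab.symm hcop.symm
  have habc : a * b ∉ center G := fun e => hac ((zpowers_le.2 e) hA)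
  rw [← cz_eq h (mul_mem ha hb) habc ha hac (cz_mem_zpowers hA),
    ← cz_eq h (mul_mem ha hb) habc hb hbc (cz_mem_zpowers hB)]

/-- The `p`-part and the `p'`-part of an element. -/
theorem parts (z : G) (p : ℕ) [hp : Fact p.Prime] : ∃ a b : G, a * b = z ∧ a ∈ zpowers z ∧ b ∈ zpowers z ∧
    (∃ k : ℕ, a ^ p ^ k = 1) ∧ ¬ p ∣ orderOf b := by
  set n := orderOf z
  set q := ordProj[p] n
  set k := ordCompl[p] n
  have hn : n ≠ 0 := (orderOf_pos z).ne'
  have hqk : q * k = n := Nat.ordProj_mul_ordCompl_eq_self _ _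
  have hcop : Nat.Coprime q k := (Nat.coprime_ordCompl hp.out hn).pow_left _
  have hg : (1 : ℤ) = k * q.gcdB k + q * q.gcdA k := by
    rw [add_comm, ← Nat.gcd_eq_gcd_ab, hcop]; rfl
  refine ⟨(z ^ k) ^ q.gcdB k, (z ^ q) ^ q.gcdA k, ?_, zpow_mem (pow_mem (mem_zpowers z) _) _,
    zpow_mem (pow_mem (mem_zpowers z) _) _, ⟨n.factorization p, ?_⟩, fun hd => ?_⟩
  · rw [← zpow_natCast z k, ← zpow_natCast z q, ← zpow_mul, ← zpow_mul, ← zpow_add, ← hg, zpow_one]
  · rw [← zpow_natCast, ← zpow_mul, mul_comm, zpow_mul, zpow_natCast, ← pow_mul, mul_comm, hqk,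
      pow_orderOf_eq_one, one_zpow]
  · refine Nat.not_dvd_ordCompl hp.out hn (hd.trans (orderOf_dvd_iff_pow_eq_one.2 ?_))
    rw [← zpow_natCast, ← zpow_mul, mul_comm, zpow_mul, zpow_natCast, ← pow_mul, hqk, pow_orderOf_eq_one,
      one_zpow]

theorem coprime_order {p : ℕ} [hp : Fact p.Prime] {a b : G} (ha : ∃ k : ℕ, a ^ p ^ k = 1)
    (hb : ¬ p ∣ orderOf b) : (orderOf a).Coprime (orderOf b) := by
  obtain ⟨k, hk⟩ := ha
  exact Nat.Coprime.coprime_dvd_left (orderOf_dvd_iff_pow_eq_one.2 hk)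
    ((hp.out.coprime_iff_not_dvd.2 hb).pow_left k)

/-- A Sylow subgroup meets a normal subgroup in a Sylow subgroup. -/
theorem sylow_inf [N.Normal] {q : ℕ} [hq : Fact q.Prime] (Q : Sylow q G) :
    ∃ S : Sylow q N, (S : Subgroup N).map N.subtype = N ⊓ Q := by
  refine ⟨Sylow.ofCard ((N ⊓ (Q : Subgroup G)).subgroupOf N) ?_, by simp [inf_comm]⟩
  rw [Nat.card_congr (subgroupOfEquivOfLe inf_le_left).toEquiv]
  have hp : IsPGroup q (N ⊓ (Q : Subgroup G) : Subgroup G) := Q.2.to_le inf_le_right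
  obtain ⟨j, hj⟩ := hp.exists_card_eq
  refine le_antisymm (Nat.le_of_dvd (pow_pos hq.out.pos _) ?_) (Nat.le_of_dvd Nat.card_pos ?_)
  · rw [hj]
    exact pow_dvd_pow q ((hq.out.pow_dvd_iff_le_factorization Nat.card_pos.ne').1
      (hj ▸ card_dvd_of_le inf_le_left))
  · have h1 := CfsgLib.Solvable.card_sup_mul_card_inf (A := (Q : Subgroup G)) (K := N)
      (by rw [normalizer_eq_top_iff.2 inferInstance]; exact le_top)
    rw [inf_comm, Q.card_eq_multiplicity] at h1
    have h2 : Nat.card ((Q : Subgroup G) ⊔ N : Subgroup G) ∣ Nat.card G := card_subgroup_dvd_card _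
    have h3 : q ^ (Nat.card G).factorization q * q ^ (Nat.card N).factorization q ∣
        Nat.card G * Nat.card (N ⊓ (Q : Subgroup G) : Subgroup G) := by
      refine (mul_dvd_mul_left _ (Nat.ordProj_dvd (Nat.card N) q)).trans ?_
      rw [← h1]
      exact mul_dvd_mul_right h2 _
    rw [← pow_add, hj] at h3
    have h4 := (hq.out.pow_dvd_iff_le_factorization
      (Nat.mul_ne_zero Nat.card_pos.ne' (pow_ne_zero _ hq.out.ne_zero))).1 h3
    rw [Nat.factorization_mul Nat.card_pos.ne' (pow_ne_zero _ hq.out.ne_zero), Finsupp.add_apply,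
      hq.out.factorization_pow, Finsupp.single_eq_same] at h4
    rw [hj]
    exact pow_dvd_pow q (by omega)

/-- If `q` does not divide `m` then `N` is abelian. -/
theorem abelian_of_not_dvd [N.Normal] (h : OneSize N m) {q : ℕ} [hq : Fact q.Prime] (hqm : ¬ q ∣ m)
    {w : G} (hw : w ∈ N) (hwc : w ∉ center G) (hwq : ∃ k : ℕ, w ^ q ^ k = 1) {y : G} (hy : y ∈ N)
    (hyc : y ∉ center G) (hyq : ¬ q ∣ orderOf y) : IsMulCommutative N := by
  classical
  -- every centralizer contains a Sylow subgroup of `N`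
  have hcont : ∀ z ∈ N, z ∉ center G → ∃ S : Sylow q N,
      (S : Subgroup N).map N.subtype ≤ centralizer ({z} : Set G) := by
    intro z hz hzc
    obtain ⟨P⟩ : Nonempty (Sylow q (centralizer ({z} : Set G))) := inferInstance
    have hcard : Nat.card ((P : Subgroup (centralizer ({z} : Set G))).map
        (centralizer ({z} : Set G)).subtype) = q ^ (Nat.card G).factorization q := by
      rw [card_map_of_injective (centralizer ({z} : Set G)).subtype_injective, P.card_eq_multiplicity,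
        ← card_mul_index (centralizer ({z} : Set G)), index_eq h hz hzc,
        Nat.factorization_mul Nat.card_pos.ne'
          (index_eq h hz hzc ▸ index_ne_zero_of_finite (H := centralizer ({z} : Set G))),
        Finsupp.add_apply, Nat.factorization_eq_zero_of_not_dvd hqm, add_zero]
    obtain ⟨S, hS⟩ := sylow_inf (N := N) (Sylow.ofCard _ hcard)
    exact ⟨S, hS ▸ inf_le_right.trans (map_subtype_le _)⟩
  have hconj : ∀ S T : Sylow q N, ∃ n ∈ N, ∀ v : G, v ∈ (T : Subgroup N).map N.subtype →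
      n⁻¹ * v * n ∈ (S : Subgroup N).map N.subtype := by
    intro S T
    obtain ⟨n, hn⟩ := MulAction.exists_smul_eq N S T
    refine ⟨n, n.2, ?_⟩
    rintro _ ⟨v, hv, rfl⟩
    rw [← hn, SetLike.mem_coe, Sylow.coe_subgroup_smul, Subgroup.mem_smul_pointwise_iff_exists] at hv
    obtain ⟨s, hs, rfl⟩ := hv
    refine ⟨s, hs, ?_⟩
    simp [MulAut.smul_def, MulAut.conj_apply, mul_assoc]
  have hcconj : ∀ (v g : G) (d : G), d ∈ centralizer ({g * v * g⁻¹} : Set G) ↔
      g⁻¹ * d * g ∈ centralizer ({v} : Set G) := by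
    intro v g d
    rw [mem_cz, mem_cz]
    constructor
    · intro e
      calc g⁻¹ * d * g * v = g⁻¹ * (d * (g * v * g⁻¹)) * g := by group
        _ = v * (g⁻¹ * d * g) := by rw [e]; group
    · intro e
      calc d * (g * v * g⁻¹) = g * (g⁻¹ * d * g * v) * g⁻¹ := by group
        _ = g * v * g⁻¹ * d := by rw [e]; group
  have hcenc : ∀ (v g : G), g * v * g⁻¹ ∈ center G → v ∈ center G := fun v g hv => by
    have e : v = g⁻¹ * (g * v * g⁻¹) * g := by group
    rw [e, mem_center_iff.1 hv g⁻¹, inv_mul_cancel_right]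
    exact hv
  -- a distinguished Sylow subgroup
  obtain ⟨S, hS⟩ := hcont y hy hyc
  have hSq : ∀ v ∈ (S : Subgroup N).map N.subtype, ∃ k : ℕ, v ^ q ^ k = 1 := by
    rintro _ ⟨v, hv, rfl⟩
    obtain ⟨k, hk⟩ := S.2 ⟨v, hv⟩
    exact ⟨k, congrArg (fun u : (S : Subgroup N) => ((u : N) : G)) hk⟩
  set C := centralizer ({y} : Set G) with hC
  have hSC : ∀ v ∈ (S : Subgroup N).map N.subtype, v ∉ center G → centralizer ({v} : Set G) = C :=
    fun v hv hvc => cz_coprime h (map_subtype_le _ hv) hvc hy hyc (mem_cz.1 (hS hv))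
      (coprime_order (hSq v hv) hyq)
  -- a noncentral element of `S`
  obtain ⟨k, hwk⟩ := hwq
  have hwp : IsPGroup q (zpowers (⟨w, hw⟩ : N)) := fun v => ⟨k, Subtype.ext (by
    obtain ⟨i, hi⟩ := mem_zpowers_iff.1 v.2
    rw [SubgroupClass.coe_pow, ← hi, ← zpow_natCast, ← zpow_mul, mul_comm, zpow_mul, zpow_natCast,
      show (⟨w, hw⟩ : N) ^ q ^ k = 1 from Subtype.ext hwk, one_zpow]; rfl)⟩
  obtain ⟨Tw, hTw⟩ := hwp.exists_le_sylow
  obtain ⟨nw, hnw, hnw'⟩ := hconj S Tw
  set w₀ := nw⁻¹ * w * nw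
  have hw₀S : w₀ ∈ (S : Subgroup N).map N.subtype := hnw' w ⟨⟨w, hw⟩, hTw (mem_zpowers _), rfl⟩
  have hw₀c : w₀ ∉ center G := fun e => hwc (by
    have := hcenc w nw⁻¹ (by simpa using e)
    exact this)
  -- every centralizer is conjugate to `C` under `N`
  have hall : ∀ z ∈ N, z ∉ center G → ∃ n ∈ N, centralizer ({n⁻¹ * z * n} : Set G) = C := by
    intro z hz hzc
    obtain ⟨a, b, hab, ha, hb, haq, hbq⟩ := parts z q
    have haN : a ∈ N := (zpowers_le.2 hz) ha
    have hbN : b ∈ N := (zpowers_le.2 hz) hb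
    by_cases hac : a ∈ center G
    · have hbc : b ∉ center G := fun e => hzc (hab ▸ mul_mem hac e)
      obtain ⟨T, hT⟩ := hcont b hbN hbc
      obtain ⟨n, hn, hn'⟩ := hconj T S
      refine ⟨n⁻¹, inv_mem hn, ?_⟩
      rw [inv_inv]
      set v := n⁻¹ * w₀ * n
      have hvT := hn' w₀ hw₀S
      have hvN : v ∈ N := map_subtype_le _ hvT
      have hvc : v ∉ center G := fun e => hw₀c (hcenc _ n⁻¹ (by simpa using e))
      obtain ⟨k, hk⟩ := hSq w₀ hw₀S
      have hvq : v ^ q ^ k = 1 := by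
        have e : v = n⁻¹ * w₀ * n⁻¹⁻¹ := by simp [v]
        rw [e, conj_pow, hk]; group
      have h1 : centralizer ({v} : Set G) = centralizer ({b} : Set G) :=
        cz_coprime h hvN hvc hbN hbc (mem_cz.1 (hT hvT)) (coprime_order ⟨k, hvq⟩ hbq)
      have h2 : centralizer ({z} : Set G) = centralizer ({v} : Set G) :=
        (cz_eq h hz hzc hbN hbc (cz_mem_zpowers hb)).trans h1.symm
      ext d
      have e1 := hcconj z n d
      have e2 := hcconj v n d
      rw [show n * v * n⁻¹ = w₀ by simp [v, mul_assoc], hSC w₀ hw₀S hw₀c] at e2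
      rw [e2, e1, h2]
    · obtain ⟨j, hj⟩ := haq
      have hap : IsPGroup q (zpowers (⟨a, haN⟩ : N)) := fun v => ⟨j, Subtype.ext (by
        obtain ⟨i, hi⟩ := mem_zpowers_iff.1 v.2
        rw [SubgroupClass.coe_pow, ← hi, ← zpow_natCast, ← zpow_mul, mul_comm, zpow_mul, zpow_natCast,
          show (⟨a, haN⟩ : N) ^ q ^ j = 1 from Subtype.ext hj, one_zpow]; rfl)⟩
      obtain ⟨T, hT⟩ := hap.exists_le_sylow
      obtain ⟨n, hn, hn'⟩ := hconj S T
      refine ⟨n, hn, ?_⟩
      have haT := hn' a ⟨⟨a, haN⟩, hT (mem_zpowers _), rfl⟩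
      have hanc : n⁻¹ * a * n ∉ center G := fun e => hac (hcenc a n⁻¹ (by simpa using e))
      rw [← hSC _ haT hanc]
      refine cz_eq h (mul_mem (mul_mem (inv_mem hn) hz) hn)
        (fun e => hzc (hcenc z n⁻¹ (by simpa using e))) (map_subtype_le _ haT) hanc ?_
      intro d hd
      have e1 := hcconj z n⁻¹ d
      have e2 := hcconj a n⁻¹ d
      rw [inv_inv] at e1 e2
      exact e2.2 (cz_mem_zpowers ha (e1.1 hd))
  -- the abelian subgroup attached to `C`
  set A := N ⊓ centralizer (C : Set G) with hA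
  have hAle : ∀ a ∈ A, C ≤ centralizer ({a} : Set G) := fun a ha c hc =>
    mem_cz.2 (mem_centralizer_iff.1 (Subgroup.mem_inf.1 ha).2 c hc)
  have hAmem : ∀ a ∈ N, centralizer ({a} : Set G) = C → a ∈ A := fun a ha e =>
    Subgroup.mem_inf.2 ⟨ha, mem_centralizer_iff.2 fun c hc => mem_cz.1 (e ▸ hc)⟩
  have hAC : ∀ a ∈ A, a ∉ center G → centralizer ({a} : Set G) = C := fun a ha hac =>
    (cz_eq h hy hyc (Subgroup.mem_inf.1 ha).1 hac (hAle a ha)).symm
  have hAab : ∀ a ∈ A, ∀ b ∈ A, a * b = b * a := by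
    intro a ha b hb
    by_cases hac : a ∈ center G
    · exact (mem_center_iff.1 hac b).symm
    · have : a ∈ C := hAC a ha hac ▸ mem_cz.2 rfl
      exact mem_cz.1 (hAle b hb this)
  set D := N ⊓ normalizer (C : Set G) with hD
  -- counting
  let U := {z : N // (z : G) ∉ center G}
  let V := {a : A // (a : G) ∉ center G}
  let φ : (N ⧸ D.subgroupOf N) × V → U := fun p =>
    ⟨p.1.out * ⟨p.2.1, (Subgroup.mem_inf.1 p.2.1.2).1⟩ * p.1.out⁻¹, fun e => p.2.2 (hcenc _ (p.1.out : N) (by simpa using e))⟩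
  have hφC : ∀ p d, d ∈ centralizer ({((φ p).1 : G)} : Set G) ↔ ((p.1.out : N) : G)⁻¹ * d * (p.1.out : N) ∈ C := by
    intro p d
    rw [show ((φ p).1 : G) = (p.1.out : N) * (p.2.1 : G) * ((p.1.out : N) : G)⁻¹ by rfl, hcconj,
      hAC _ p.2.1.2 p.2.2]
  have hφ : Function.Bijective φ := by
    refine ⟨fun p p' e => ?_, fun z => ?_⟩
    · have hq' : ∀ d, ((p.1.out : N) : G)⁻¹ * d * (p.1.out : N) ∈ C ↔
          ((p'.1.out : N) : G)⁻¹ * d * (p'.1.out : N) ∈ C := fun d => by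
        rw [← hφC, ← hφC, e]
      have h1 : p.1 = p'.1 := by
        rw [← QuotientGroup.out_eq' p.1, ← QuotientGroup.out_eq' p'.1, QuotientGroup.eq,
          mem_subgroupOf]
        refine Subgroup.mem_inf.2 ⟨Subtype.prop _, mem_normalizer_iff.2 fun c => ?_⟩
        have := hq' ((p'.1.out : N) * c * ((p'.1.out : N) : G)⁻¹)
        push_cast
        simp only [mul_assoc, inv_mul_cancel_left, inv_mul_cancel, mul_one, mul_inv_rev, inv_inv] at this ⊢
        exact this.symm
      obtain ⟨c, a⟩ := p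
      obtain ⟨c', a'⟩ := p'
      subst h1
      have h2 := congrArg (fun u : U => ((u.1 : N) : G)) e
      simp only [φ, Subgroup.coe_mul, InvMemClass.coe_inv] at h2
      exact Prod.ext rfl (Subtype.ext (Subtype.ext (mul_left_cancel (mul_right_cancel h2))))
    · obtain ⟨n, hn, hne⟩ := hall z.1 z.1.2 z.2
      set c := (QuotientGroup.mk ⟨n, hn⟩ : N ⧸ D.subgroupOf N)
      have hd : ((c.out : N) : G)⁻¹ * n ∈ normalizer (C : Set G) := by
        have := QuotientGroup.eq.1 (QuotientGroup.out_eq' c)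
        rw [mem_subgroupOf] at this
        simpa using (Subgroup.mem_inf.1 this).2
      have hzN : ((c.out : N) : G)⁻¹ * z.1 * (c.out : N) ∈ N :=
        mul_mem (mul_mem (inv_mem c.out.2) z.1.2) c.out.2
      have hcz : centralizer ({((c.out : N) : G)⁻¹ * z.1 * (c.out : N)} : Set G) = C := by
        ext d
        have e1 := hcconj (n⁻¹ * z.1 * n) (((c.out : N) : G)⁻¹ * n) d
        rw [show ((c.out : N) : G)⁻¹ * n * (n⁻¹ * (z.1 : G) * n) * (((c.out : N) : G)⁻¹ * n)⁻¹ =
          ((c.out : N) : G)⁻¹ * z.1 * (c.out : N) by group, hne] at e1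
        rw [e1, mem_normalizer_iff.1 (inv_mem hd) d, inv_inv]
      refine ⟨⟨c, ⟨⟨_, hAmem _ hzN hcz⟩, fun e => z.2 (hcenc z.1 ((c.out : N) : G)⁻¹ (by simpa using e))⟩⟩,
        Subtype.ext (Subtype.ext ?_)⟩
      simp only [φ, Subgroup.coe_mul, InvMemClass.coe_inv]
      group
  have hcount := Nat.card_congr (Equiv.ofBijective φ hφ)
  rw [Nat.card_prod] at hcount
  -- compare
  set ζ := Nat.card {z : G // z ∈ N ∧ z ∈ center G}
  have hU : Nat.card U + ζ = Nat.card N := by
    rw [add_comm, ← Nat.card_congr (Equiv.sumCompl (fun z : N => (z : G) ∈ center G)), Nat.card_sum]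
    congr 1
    exact Nat.card_congr ⟨fun z => ⟨⟨z.1, z.2.1⟩, z.2.2⟩, fun z => ⟨z.1.1, z.1.2, z.2⟩, fun z => rfl, fun z => rfl⟩
  have hV : Nat.card V + ζ = Nat.card A := by
    rw [add_comm, ← Nat.card_congr (Equiv.sumCompl (fun z : A => (z : G) ∈ center G)), Nat.card_sum]
    congr 1
    have hmem : ∀ z, z ∈ N → z ∈ center G → z ∈ A := fun z h1 h2 =>
      Subgroup.mem_inf.2 ⟨h1, center_le_centralizer _ h2⟩
    exact Nat.card_congr ⟨fun z => ⟨⟨z.1, hmem _ z.2.1 z.2.2⟩, z.2.2⟩,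
      fun z => ⟨z.1.1, (Subgroup.mem_inf.1 z.1.2).1, z.2⟩, fun z => rfl, fun z => rfl⟩
  have hk : Nat.card (N ⧸ D.subgroupOf N) * Nat.card D = Nat.card N := by
    rw [← Nat.card_congr (subgroupOfEquivOfLe (inf_le_left : D ≤ N)).toEquiv, mul_comm]
    exact card_mul_index _
  have hAD : A ≤ D := fun a ha => Subgroup.mem_inf.2 ⟨(Subgroup.mem_inf.1 ha).1,
    mem_normalizer_iff.2 fun c => by
      have key : ∀ c ∈ C, a * c = c * a := fun c hc => (mem_cz.1 (hAle a ha hc)).symm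
      constructor
      · intro hc; rw [key c hc, mul_inv_cancel_right]; exact hc
      · intro hc
        have e : c = a * c * a⁻¹ := by
          have h2 : a * c = a * (a * c * a⁻¹) := by rw [key _ hc]; group
          exact mul_left_cancel h2
        rwa [e]⟩
  obtain ⟨t, ht⟩ := card_dvd_of_le hAD
  have hzpos : 0 < ζ := Nat.card_pos_iff.2 ⟨⟨⟨1, one_mem _, one_mem _⟩⟩, inferInstance⟩
  have hVpos : 0 < Nat.card V := Nat.card_pos_iff.2
    ⟨⟨⟨⟨y, hAmem y hy rfl⟩, hyc⟩⟩, inferInstance⟩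
  set k := Nat.card (N ⧸ D.subgroupOf N)
  have hkpos : 0 < k := Nat.card_pos
  have hAN : A = N := by
    refine eq_of_le_of_card_ge inf_le_left ?_
    rcases Nat.lt_or_ge t 2 with ht2 | ht2
    · interval_cases t
      · rw [mul_zero] at ht; exact absurd ht Nat.card_pos.ne'
      · rw [mul_one] at ht
        rw [ht, ← hV, ← hU, ← hcount, Nat.mul_add] at hk
        have : k * ζ = 1 * ζ := by omega
        rw [← hU, ← hcount, Nat.eq_of_mul_eq_mul_right hzpos this, one_mul, hV]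
    · have h1 : 2 * (k * Nat.card A) ≤ k * Nat.card D := by
        rw [ht, ← mul_assoc 2, mul_comm 2, mul_assoc]
        exact Nat.mul_le_mul_left _ (by rw [mul_comm]; exact Nat.mul_le_mul_left _ ht2)
      rw [← hV, Nat.mul_add, hk, ← hU, ← hcount] at h1
      have h2 : ζ ≤ k * ζ := Nat.le_mul_of_pos_left _ hkpos
      have h3 : 0 < k * Nat.card V := Nat.mul_pos hkpos hVpos
      omega
  exact ⟨⟨fun a b => Subtype.ext (hAab a (hAN.symm ▸ a.2) b (hAN.symm ▸ b.2))⟩⟩

/-- If `y` is noncentral of order prime to `r`, some noncentral `r`-element commutes with it. -/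
theorem exists_partner [N.Normal] (h : OneSize N m) {r : ℕ} [hr : Fact r.Prime] (R : Sylow r G)
    (hR : ¬ (R : Subgroup G) ≤ center G) (hRN : (R : Subgroup G) ≤ N) {y : G} (hy : y ∈ N)
    (hyc : y ∉ center G) : ∃ x : G, x ∈ N ∧ x ∉ center G ∧ (∃ k : ℕ, x ^ r ^ k = 1) ∧
      x ∈ centralizer ({y} : Set G) := by
  obtain ⟨x₀, hx₀, hx₀c⟩ := SetLike.not_le_iff_exists.1 hR
  obtain ⟨P⟩ : Nonempty (Sylow r (centralizer ({y} : Set G))) := inferInstance
  set P' := (P : Subgroup (centralizer ({y} : Set G))).map (centralizer ({y} : Set G)).subtype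
  have hP' : IsPGroup r P' := P.2.map _
  by_cases hle : P' ≤ center G
  swap
  · obtain ⟨x, hx, hxc⟩ := SetLike.not_le_iff_exists.1 hle
    obtain ⟨Q, hQ⟩ := hP'.exists_le_sylow
    obtain ⟨g, hg⟩ := MulAction.exists_smul_eq G R Q
    obtain ⟨k, hk⟩ := hP' ⟨x, hx⟩
    refine ⟨x, ?_, hxc, ⟨k, congrArg Subtype.val hk⟩, map_subtype_le _ hx⟩
    have hxQ : x ∈ (Q : Subgroup G) := hQ hx
    rw [← hg, Sylow.coe_subgroup_smul, Subgroup.mem_smul_pointwise_iff_exists] at hxQ
    obtain ⟨s, hs, rfl⟩ := hxQ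
    exact (inferInstance : N.Normal).conj_mem s (hRN hs) g
  exfalso
  -- the Sylow subgroup of the centralizer of `x₀` is larger
  set T := zpowers x₀ ⊔ P'
  have hx₀p : IsPGroup r (zpowers x₀) := R.2.to_le (zpowers_le.2 hx₀)
  haveI : P'.Normal := ⟨fun p hp g => by rw [mem_center_iff.1 (hle hp) g, mul_inv_cancel_right]; exact hp⟩
  have hTp : IsPGroup r T := hx₀p.to_sup_of_normal_right hP'
  have hTle : T ≤ centralizer ({x₀} : Set G) := sup_le (zpowers_le.2 (mem_cz.2 rfl))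
    fun p hp => mem_cz.2 (mem_center_iff.1 (hle hp) x₀).symm
  obtain ⟨j, hj⟩ := hTp.exists_card_eq
  have hdvd : Nat.card T ∣ Nat.card P' := by
    rw [card_map_of_injective (centralizer ({y} : Set G)).subtype_injective, P.card_eq_multiplicity, hj]
    refine pow_dvd_pow r ((hr.out.pow_dvd_iff_le_factorization Nat.card_pos.ne').1 ?_)
    have e : Nat.card (centralizer ({y} : Set G)) = Nat.card (centralizer ({x₀} : Set G)) := by
      have h1 := card_mul_index (centralizer ({y} : Set G))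
      have h2 := card_mul_index (centralizer ({x₀} : Set G))
      rw [index_eq h hy hyc] at h1
      rw [index_eq h (hRN hx₀) hx₀c] at h2
      exact Nat.eq_of_mul_eq_mul_right
        (index_eq h hy hyc ▸ Nat.pos_of_ne_zero index_ne_zero_of_finite) (h1.trans h2.symm)
    rw [e, ← hj]
    exact card_dvd_of_le hTle
  have : P' = T := eq_of_le_of_card_ge le_sup_right (Nat.le_of_dvd Nat.card_pos hdvd)
  exact hx₀c (hle (this ▸ mem_sup_left (mem_zpowers x₀)))

/-- The two primes cannot both divide `m`. -/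
theorem not_both [N.Normal] (h : OneSize N m) {r q : ℕ} [hr : Fact r.Prime] [hq : Fact q.Prime] (hrq : r ≠ q)
    (R : Sylow r G) (hR : ¬ (R : Subgroup G) ≤ center G) (hRN : (R : Subgroup G) ≤ N)
    (hrm : r ∣ m) (hqm : q ∣ m) {w : G} (hw : w ∈ N) (hwc : w ∉ center G) (hwq : ∃ k : ℕ, w ^ q ^ k = 1) :
    False := by
  classical
  -- choose `y₀` central modulo the centre in a Sylow subgroup
  obtain ⟨kw, hkw⟩ := hwq
  have hwp : IsPGroup q (zpowers w) := fun v => ⟨kw, Subtype.ext (by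
    obtain ⟨i, hi⟩ := mem_zpowers_iff.1 v.2
    rw [SubgroupClass.coe_pow, ← hi, ← zpow_natCast, ← zpow_mul, mul_comm, zpow_mul, zpow_natCast, hkw,
      one_zpow]; rfl)⟩
  obtain ⟨Q, hwQ⟩ := hwp.exists_le_sylow
  haveI : Group.IsNilpotent (Q : Subgroup G) := Q.2.isNilpotent
  have hex : ∃ i, ∃ v : (Q : Subgroup G), v ∈ Subgroup.upperCentralSeries (Q : Subgroup G) i ∧
      (v : G) ∈ N ∧ (v : G) ∉ center G :=
    ⟨Group.nilpotencyClass (Q : Subgroup G), ⟨w, hwQ (mem_zpowers w)⟩,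
      by rw [Subgroup.upperCentralSeries_nilpotencyClass]; exact mem_top _, hw, hwc⟩
  obtain ⟨y₀, hy₀u, hy₀N, hy₀c⟩ := Nat.find_spec hex
  have hlow : ∀ v : (Q : Subgroup G), (∃ i < Nat.find hex, v ∈ Subgroup.upperCentralSeries (Q : Subgroup G) i) →
      (v : G) ∈ N → (v : G) ∈ center G := fun v ⟨i, hi, hv⟩ hvN =>
    by_contra fun hvc => Nat.find_min hex hi ⟨v, hv, hvN, hvc⟩
  have hcomm : ∀ u : (Q : Subgroup G), ((u : G) * y₀ * (u : G)⁻¹ * (y₀ : G)⁻¹) ∈ center G := by
    intro u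
    rcases Nat.eq_zero_or_pos (Nat.find hex) with h0 | h0
    · rw [h0, Subgroup.upperCentralSeries_zero, mem_bot] at hy₀u
      rw [hy₀u] at hy₀c
      exact absurd (one_mem (center G)) hy₀c
    obtain ⟨i, hi⟩ := Nat.exists_eq_add_of_le h0
    rw [show Nat.find hex = i + 1 by omega, Subgroup.mem_upperCentralSeries_succ_iff] at hy₀u
    have h1 := inv_mem (hy₀u u)
    rw [commutatorElement_inv] at h1
    refine hlow (⁅u, y₀⁆) ⟨i, by omega, h1⟩ ?_
    simp only [commutatorElement_def, Subgroup.coe_mul, InvMemClass.coe_inv]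
    exact mul_mem ((inferInstance : N.Normal).conj_mem _ hy₀N _) (inv_mem hy₀N)
  set C := centralizer ({(y₀ : G)} : Set G) with hC
  obtain ⟨k₀, hk₀⟩ := Q.2 y₀
  have hy₀q : ∃ k : ℕ, (y₀ : G) ^ q ^ k = 1 := ⟨k₀, congrArg Subtype.val hk₀⟩
  have hcopqr : ∀ a b : G, (∃ k : ℕ, a ^ r ^ k = 1) → (∃ k : ℕ, b ^ q ^ k = 1) →
      (orderOf a).Coprime (orderOf b) := fun a b ⟨i, hi⟩ ⟨j, hj⟩ =>
    (((Nat.coprime_primes hr.out hq.out).2 hrq).pow_left i |>.pow_right j).coprime_dvd_left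
      (orderOf_dvd_iff_pow_eq_one.2 hi) |>.coprime_dvd_right (orderOf_dvd_iff_pow_eq_one.2 hj)
  obtain ⟨x₀, hx₀N, hx₀c, hx₀r, hx₀C⟩ := exists_partner h R hR hRN hy₀N hy₀c
  have hx₀eq : centralizer ({x₀} : Set G) = C :=
    cz_coprime h hx₀N hx₀c hy₀N hy₀c (mem_cz.1 hx₀C) (hcopqr _ _ hx₀r hy₀q)
  have hrN : ∀ a : G, (∃ k : ℕ, a ^ r ^ k = 1) → a ∈ N := by
    rintro a ⟨k, hk⟩
    have hap : IsPGroup r (zpowers a) := fun v => ⟨k, Subtype.ext (by
      obtain ⟨i, hi⟩ := mem_zpowers_iff.1 v.2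
      rw [SubgroupClass.coe_pow, ← hi, ← zpow_natCast, ← zpow_mul, mul_comm, zpow_mul, zpow_natCast, hk,
        one_zpow]; rfl)⟩
    obtain ⟨T, hT⟩ := hap.exists_le_sylow
    obtain ⟨g, hg⟩ := MulAction.exists_smul_eq G R T
    have haT : a ∈ (T : Subgroup G) := hT (mem_zpowers a)
    rw [← hg, Sylow.coe_subgroup_smul, Subgroup.mem_smul_pointwise_iff_exists] at haT
    obtain ⟨s, hs, rfl⟩ := haT
    exact (inferInstance : N.Normal).conj_mem s (hRN hs) g
  have hrC : ∀ a : G, (∃ k : ℕ, a ^ r ^ k = 1) → a ∈ C → a ∉ center G → centralizer ({a} : Set G) = C :=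
    fun a har haC hac => cz_coprime h (hrN a har) hac hy₀N hy₀c (mem_cz.1 haC) (hcopqr _ _ har hy₀q)
  have hqC : ∀ a ∈ N, (∃ k : ℕ, a ^ q ^ k = 1) → a ∈ C → a ∉ center G → centralizer ({a} : Set G) = C :=
    fun a ha haq haC hac => by
      rw [← hx₀eq]
      exact (cz_coprime h hx₀N hx₀c ha hac
        (mem_cz.1 (hx₀eq.symm ▸ haC : a ∈ centralizer ({x₀} : Set G))).symm (hcopqr _ _ hx₀r haq)).symm
  -- the two abelian groups
  set A := N ⊓ centralizer (C : Set G) with hA
  have hAle : ∀ a ∈ A, C ≤ centralizer ({a} : Set G) := fun a ha c hc =>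
    mem_cz.2 (mem_centralizer_iff.1 (Subgroup.mem_inf.1 ha).2 c hc)
  have hAmem : ∀ a ∈ N, centralizer ({a} : Set G) = C → a ∈ A := fun a ha e =>
    Subgroup.mem_inf.2 ⟨ha, mem_centralizer_iff.2 fun c hc => mem_cz.1 (e ▸ hc)⟩
  have hAC : A ≤ C := fun a ha => by
    have := mem_cz.1 (hAle a ha (hC ▸ mem_cz.2 rfl : (y₀ : G) ∈ C))
    exact mem_cz.2 this.symm
  have hAab : ∀ a ∈ A, ∀ b ∈ A, a * b = b * a := fun a ha b hb => mem_cz.1 (hAle b hb (hAC ha))
  have hsub : ∀ p : ℕ, ∃ X : Subgroup G, X ≤ A ∧ ∀ a, a ∈ X ↔ a ∈ A ∧ ∃ k : ℕ, a ^ p ^ k = 1 := fun p => by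
    refine ⟨⟨⟨⟨{a | a ∈ A ∧ ∃ k : ℕ, a ^ p ^ k = 1}, ?_⟩, ⟨one_mem _, 0, one_pow _⟩⟩, ?_⟩, fun a ha => ha.1,
      fun a => Iff.rfl⟩
    · rintro a b ⟨ha, i, hi⟩ ⟨hb, j, hj⟩
      refine ⟨mul_mem ha hb, i + j, ?_⟩
      rw [(show Commute a b from hAab a ha b hb).mul_pow, pow_add, pow_mul a, hi, one_pow, one_mul,
        mul_comm, pow_mul, hj, one_pow]
    · rintro a ⟨ha, i, hi⟩
      exact ⟨inv_mem ha, i, by rw [inv_pow, hi, inv_one]⟩
  obtain ⟨X, hXA, hX⟩ := hsub r
  obtain ⟨Y, hYA, hY⟩ := hsub q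
  letI : CommGroup X := { (inferInstance : Group X) with
    mul_comm := fun a b => Subtype.ext (hAab a (hXA a.2) b (hXA b.2)) }
  letI : CommGroup Y := { (inferInstance : Group Y) with
    mul_comm := fun a b => Subtype.ext (hAab a (hYA a.2) b (hYA b.2)) }
  have hXp : IsPGroup r X := fun a => ⟨((hX a).1 a.2).2.choose, Subtype.ext ((hX a).1 a.2).2.choose_spec⟩
  have hYp : IsPGroup q Y := fun a => ⟨((hY a).1 a.2).2.choose, Subtype.ext ((hY a).1 a.2).2.choose_spec⟩
  have hcconj : ∀ (v g d : G), d ∈ centralizer ({g * v * g⁻¹} : Set G) ↔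
      g⁻¹ * d * g ∈ centralizer ({v} : Set G) := by
    intro v g d
    rw [mem_cz, mem_cz]
    constructor
    · intro e
      calc g⁻¹ * d * g * v = g⁻¹ * (d * (g * v * g⁻¹)) * g := by group
        _ = v * (g⁻¹ * d * g) := by rw [e]; group
    · intro e
      calc d * (g * v * g⁻¹) = g * (g⁻¹ * d * g * v) * g⁻¹ := by group
        _ = g * v * g⁻¹ * d := by rw [e]; group
  have hnormA : normalizer (C : Set G) ≤ normalizer (A : Set G) := by
    intro g hg
    have key : ∀ g ∈ normalizer (C : Set G), ∀ a ∈ A, g * a * g⁻¹ ∈ A := fun g hg a ha =>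
      Subgroup.mem_inf.2 ⟨(inferInstance : N.Normal).conj_mem a (Subgroup.mem_inf.1 ha).1 g,
        mem_centralizer_iff.2 fun c hc => mem_cz.1 ((hcconj a g c).2
          (hAle a ha (by simpa using (mem_normalizer_iff.1 (inv_mem hg) c).1 hc)))⟩
    exact mem_normalizer_iff.2 fun a => ⟨key g hg a, fun hga => by simpa [mul_assoc] using key _ (inv_mem hg) _ hga⟩
  have hnorm : ∀ (p : ℕ) (W : Subgroup G), (∀ a, a ∈ W ↔ a ∈ A ∧ ∃ k : ℕ, a ^ p ^ k = 1) →
      normalizer (C : Set G) ≤ normalizer (W : Set G) := by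
    intro p W hW g hg
    refine mem_normalizer_iff.2 fun a => ?_
    rw [hW, hW, ← mem_normalizer_iff.1 (hnormA hg) a]
    refine and_congr_right fun _ => exists_congr fun k => ?_
    rw [conj_pow, mul_inv_eq_one, mul_eq_left]
  set K := N ⊓ normalizer (C : Set G) with hK
  have hKn : K ≤ normalizer (C : Set G) := inf_le_right
  haveI : (C.subgroupOf K).Normal := by
    refine ⟨fun c hc k => ?_⟩
    rw [mem_subgroupOf] at hc ⊢
    exact (mem_normalizer_iff.1 (hKn k.2) _).1 hc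
  have hrho : ∀ (W : Subgroup G) (hW : normalizer (C : Set G) ≤ normalizer (W : Set G)), W ≤ A →
      ∃ ρ : (K ⧸ C.subgroupOf K) →* MulAut W, ∀ (k : K) (a : W), ((ρ (QuotientGroup.mk k) a : W) : G) = k * a * (k : G)⁻¹ := by
    intro W hW hWA
    refine ⟨QuotientGroup.lift _ ((normalizerMonoidHom W).comp (inclusion (hKn.trans hW))) fun k hk => ?_,
      fun k a => rfl⟩
    rw [MonoidHom.mem_ker]
    ext a
    show (k : G) * a * (k : G)⁻¹ = a
    rw [mem_subgroupOf] at hk
    rw [mem_cz.1 (hAle a (hWA a.2) hk), mul_inv_cancel_right]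
  obtain ⟨ρX, hρX⟩ := hrho X (hnorm r X hX) hXA
  obtain ⟨ρY, hρY⟩ := hrho Y (hnorm q Y hY) hYA
  set ZX := (center G).subgroupOf X
  set ZY := (center G).subgroupOf Y
  have hsemi : ∀ (W : Subgroup G) (ρ : (K ⧸ C.subgroupOf K) →* MulAut W),
      (∀ (k : K) (a : W), ((ρ (QuotientGroup.mk k) a : W) : G) = k * a * (k : G)⁻¹) →
      (∀ a ∈ W, a ∉ center G → centralizer ({a} : Set G) = C) →
      CfsgLib.SemiregularPair.Semi ρ ((center G).subgroupOf W) := by
    intro W ρ hρ hWC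
    refine ⟨fun γ z hz => ?_, fun γ hγ a ha => ?_⟩
    · obtain ⟨k, rfl⟩ := QuotientGroup.mk_surjective γ
      exact Subtype.ext (by rw [hρ, mem_center_iff.1 (mem_subgroupOf.1 hz) (k : G), mul_inv_cancel_right])
    · obtain ⟨k, rfl⟩ := QuotientGroup.mk_surjective γ
      rw [mem_subgroupOf]
      by_contra hac
      refine hγ ((QuotientGroup.eq_one_iff k).2 (mem_subgroupOf.2 ?_))
      rw [← hWC a a.2 hac, mem_cz, ← mul_inv_eq_iff_eq_mul, ← hρ, ha]
  have hSX := hsemi X ρX hρX fun a ha hac => hrC a ((hX a).1 ha).2 (hAC (hXA ha)) hac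
  have hSY := hsemi Y ρY hρY fun a ha hac => hqC a (Subgroup.mem_inf.1 (hYA ha)).1 ((hY a).1 ha).2 (hAC (hYA ha)) hac
  have hZX : ZX ≠ ⊤ := fun e => hx₀c (subgroupOf_eq_top.1 e ((hX _).2 ⟨hAmem _ hx₀N hx₀eq, hx₀r⟩))
  have hy₀Y : (y₀ : G) ∈ Y := (hY _).2 ⟨hAmem _ hy₀N rfl, hy₀q⟩
  have hZY : ZY ≠ ⊤ := fun e => hy₀c (subgroupOf_eq_top.1 e hy₀Y)
  -- an element of `Q` outside `C` normalizing `C`
  obtain ⟨u, huQ, huC⟩ : ∃ u ∈ (Q : Subgroup G), u ∉ C := by
    by_contra hcon
    push Not at hcon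
    have h1 : Nat.card (Q : Subgroup G) ∣ Nat.card C := card_dvd_of_le hcon
    rw [Q.card_eq_multiplicity] at h1
    have h2 : q * q ^ (Nat.card G).factorization q ∣ Nat.card G := by
      conv_rhs => rw [← card_mul_index C, index_eq h hy₀N hy₀c, mul_comm]
      exact mul_dvd_mul hqm h1
    rw [← pow_succ', hq.out.pow_dvd_iff_le_factorization Nat.card_pos.ne'] at h2
    omega
  set z := (y₀ : G)⁻¹ * (u * y₀ * u⁻¹) with hzdef
  have hzc : z ∈ center G := by
    have h1 := hcomm ⟨u, huQ⟩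
    have e : z = (y₀ : G)⁻¹ * (u * y₀ * u⁻¹ * (y₀ : G)⁻¹) * (y₀ : G) := by rw [hzdef]; group
    rw [e, mem_center_iff.1 h1, inv_mul_cancel_right]
    exact h1
  have hz1 : z ≠ 1 := fun e => huC (mem_cz.2 (mul_inv_eq_iff_eq_mul.1 (inv_mul_eq_one.1 e).symm))
  have huN : u ∈ normalizer (C : Set G) := mem_normalizer_iff.2 fun c => by
    have e : u * y₀ * u⁻¹ = (y₀ : G) * z := by rw [hzdef]; group
    have h1 := hcconj (y₀ : G) u (u * c * u⁻¹)
    rw [e, show u⁻¹ * (u * c * u⁻¹) * u = c by group] at h1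
    rw [hC, ← h1, mem_cz, mem_cz]
    have hz' : ∀ a : G, a * z = z * a := mem_center_iff.1 hzc
    have hgen : ∀ d a b : G, (∀ a, a * b = b * a) → (d * (a * b) = a * b * d ↔ d * a = a * d) := by
      intro d a b hb
      rw [mul_assoc a b d, ← hb d, ← mul_assoc, ← mul_assoc]
      exact mul_left_inj b
    exact hgen _ _ z hz'
  have huK : u ∈ normalizer (K : Set G) := by
    rw [hK]
    refine mem_normalizer_iff.2 fun a => ?_
    rw [Subgroup.mem_inf, Subgroup.mem_inf]
    refine and_congr ⟨fun ha => (inferInstance : N.Normal).conj_mem a ha u, fun ha => ?_⟩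
      ⟨fun ha => mul_mem (mul_mem huN ha) (inv_mem huN), fun ha => ?_⟩
    · simpa [mul_assoc] using (inferInstance : N.Normal).conj_mem _ ha u⁻¹
    · simpa [mul_assoc] using mul_mem (mul_mem (inv_mem huN) ha) huN
  let βK : K ≃* K := normalizerMonoidHom K ⟨u, huK⟩
  have hβKv : ∀ k : K, ((βK k : K) : G) = u * k * u⁻¹ := fun k => rfl
  let α : (K ⧸ C.subgroupOf K) ≃* (K ⧸ C.subgroupOf K) := QuotientGroup.congr _ _ βK (by
    ext k
    constructor
    · rintro ⟨k', hk', rfl⟩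
      exact mem_subgroupOf.2 ((mem_normalizer_iff.1 huN _).1 (mem_subgroupOf.1 hk'))
    · intro hk
      refine ⟨βK.symm k, mem_subgroupOf.2 ((mem_normalizer_iff.1 huN _).2 ?_), βK.apply_symm_apply k⟩
      rw [← hβKv, MulEquiv.apply_symm_apply]
      exact mem_subgroupOf.1 hk)
  let f : Y ≃* Y := normalizerMonoidHom Y ⟨u, hnorm q Y hY huN⟩
  let g : X ≃* X := normalizerMonoidHom X ⟨u, hnorm r X hX huN⟩
  have hfv : ∀ a : Y, ((f a : Y) : G) = u * a * u⁻¹ := fun a => rfl
  have hgv : ∀ a : X, ((g a : X) : G) = u * a * u⁻¹ := fun a => rfl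
  have hα : ∀ k : K, α (QuotientGroup.mk k) = QuotientGroup.mk (βK k) := fun k => rfl
  -- `r` divides the order of the acting group
  have hr' : r ∣ Nat.card (K ⧸ C.subgroupOf K) := by
    obtain ⟨P⟩ : Nonempty (Sylow r C) := inferInstance
    set P' := (P : Subgroup C).map C.subtype
    have hP'p : IsPGroup r P' := P.2.map _
    obtain ⟨T, hT⟩ := hP'p.exists_le_sylow
    haveI : Group.IsNilpotent (T : Subgroup G) := T.2.isNilpotent
    have hlt : P'.subgroupOf (T : Subgroup G) < ⊤ := by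
      refine lt_top_iff_ne_top.2 fun e => ?_
      have h1 : Nat.card (T : Subgroup G) ∣ Nat.card C :=
        card_dvd_of_le ((subgroupOf_eq_top.1 e).trans (map_subtype_le _))
      rw [T.card_eq_multiplicity] at h1
      have h2 : r * r ^ (Nat.card G).factorization r ∣ Nat.card G := by
        conv_rhs => rw [← card_mul_index C, index_eq h hy₀N hy₀c, mul_comm]
        exact mul_dvd_mul hrm h1
      rw [← pow_succ', hr.out.pow_dvd_iff_le_factorization Nat.card_pos.ne'] at h2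
      omega
    obtain ⟨t, htn, ht⟩ := SetLike.exists_of_lt (normalizerCondition_of_isNilpotent _ hlt)
    obtain ⟨kt, hkt⟩ := T.2 t
    have htr : ∃ k : ℕ, (t : G) ^ r ^ k = 1 := ⟨kt, congrArg Subtype.val hkt⟩
    have hP'r : ∀ a ∈ P', ∃ k : ℕ, a ^ r ^ k = 1 := fun a ha => by
      obtain ⟨k, hk⟩ := hP'p ⟨a, ha⟩
      exact ⟨k, congrArg Subtype.val hk⟩
    -- a noncentral element of `P'`
    obtain ⟨x, hx, hxc⟩ : ∃ x ∈ P', x ∉ center G := by
      have hxp : IsPGroup r (zpowers (⟨x₀, hx₀C⟩ : C)) := by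
        obtain ⟨k, hk⟩ := hx₀r
        exact fun v => ⟨k, Subtype.ext (by
          obtain ⟨i, hi⟩ := mem_zpowers_iff.1 v.2
          rw [SubgroupClass.coe_pow, ← hi, ← zpow_natCast, ← zpow_mul, mul_comm, zpow_mul, zpow_natCast,
            show (⟨x₀, hx₀C⟩ : C) ^ r ^ k = 1 from Subtype.ext hk, one_zpow]; rfl)⟩
      obtain ⟨P₁, hP₁⟩ := hxp.exists_le_sylow
      obtain ⟨c, hc⟩ := MulAction.exists_smul_eq C P P₁
      have hx₁ : (⟨x₀, hx₀C⟩ : C) ∈ (P₁ : Subgroup C) := hP₁ (mem_zpowers _)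
      rw [← hc, Sylow.coe_subgroup_smul, Subgroup.mem_smul_pointwise_iff_exists] at hx₁
      obtain ⟨s, hs, he⟩ := hx₁
      refine ⟨(s : G), ⟨s, hs, rfl⟩, fun e => hx₀c ?_⟩
      have he' : (c : G) * s * (c : G)⁻¹ = x₀ := congrArg Subtype.val he
      rw [← he', mem_center_iff.1 e, mul_inv_cancel_right]
      exact e
    have hconjP : (t : G) * x * (t : G)⁻¹ ∈ P' := by
      have := (mem_normalizer_iff.1 htn ⟨x, hT hx⟩).1 (mem_subgroupOf.2 hx)
      exact mem_subgroupOf.1 this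
    have hconjc : (t : G) * x * (t : G)⁻¹ ∉ center G := fun e => hxc (by
      have e' : x = (t : G)⁻¹ * ((t : G) * x * (t : G)⁻¹) * t := by group
      rw [e', mem_center_iff.1 e (t : G)⁻¹, inv_mul_cancel_right]
      exact e)
    have htC : (t : G) ∈ normalizer (C : Set G) := mem_normalizer_iff.2 fun c => by
      have h1 := hcconj x (t : G) ((t : G) * c * (t : G)⁻¹)
      rw [hrC _ (hP'r _ hconjP) (map_subtype_le _ hconjP) hconjc,
        show (t : G)⁻¹ * ((t : G) * c * (t : G)⁻¹) * t = c by group,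
        hrC x (hP'r x hx) (map_subtype_le _ hx) hxc] at h1
      exact h1.symm
    have htnC : (t : G) ∉ C := by
      intro htC'
      have htp : IsPGroup r (zpowers (⟨t, htC'⟩ : C) ⊔ (P : Subgroup C) : Subgroup C) := by
        refine (IsPGroup.to_sup_of_normal_right' (H := zpowers (⟨t, htC'⟩ : C)) (K := (P : Subgroup C)) ?_ P.2 ?_)
        · intro v
          refine ⟨kt, Subtype.ext ?_⟩
          obtain ⟨i, hi⟩ := mem_zpowers_iff.1 v.2
          rw [SubgroupClass.coe_pow, ← hi, ← zpow_natCast, ← zpow_mul, mul_comm, zpow_mul, zpow_natCast,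
            show (⟨t, htC'⟩ : C) ^ r ^ kt = 1 from Subtype.ext (congrArg (fun v : (T : Subgroup G) => (v : G)) hkt :), one_zpow]
          rfl
        · refine zpowers_le.2 (mem_normalizer_iff.2 fun c => ?_)
          have key := fun (z : G) => mem_normalizer_iff.1 htn
          constructor
          · intro hc
            have h1 : (c : G) ∈ P' := ⟨c, hc, rfl⟩
            have := mem_subgroupOf.1 ((mem_normalizer_iff.1 htn ⟨c, hT h1⟩).1 (mem_subgroupOf.2 h1))
            obtain ⟨d, hd, he⟩ := this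
            rwa [show d = (⟨t, htC'⟩ : C) * c * (⟨t, htC'⟩ : C)⁻¹ from Subtype.ext he] at hd
          · intro hc
            have h1 : (t : G) * c * (t : G)⁻¹ ∈ P' := ⟨_, hc, rfl⟩
            have hcT : (c : G) ∈ (T : Subgroup G) := by
              simpa [mul_assoc] using mul_mem (mul_mem (inv_mem t.2) (hT h1)) t.2
            have := mem_subgroupOf.1 ((mem_normalizer_iff.1 htn ⟨c, hcT⟩).2 (mem_subgroupOf.2 h1))
            obtain ⟨d, hd, he⟩ := this
            rwa [show d = c from Subtype.ext he] at hd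
      exact ht (mem_subgroupOf.2 ⟨⟨t, htC'⟩, (P.3 htp le_sup_right) ▸ mem_sup_left (mem_zpowers _), rfl⟩)
    let tK : K := ⟨t, Subgroup.mem_inf.2 ⟨hrN _ htr, htC⟩⟩
    have h1 : (QuotientGroup.mk tK : K ⧸ C.subgroupOf K) ≠ 1 := fun e =>
      htnC (mem_subgroupOf.1 ((QuotientGroup.eq_one_iff tK).1 e))
    obtain ⟨k, hk⟩ := htr
    have h2 : orderOf (QuotientGroup.mk tK : K ⧸ C.subgroupOf K) ∣ r ^ k :=
      (orderOf_map_dvd (QuotientGroup.mk' _) tK).trans
        (orderOf_dvd_iff_pow_eq_one.2 (Subtype.ext hk))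
    obtain ⟨i, -, hi⟩ := (Nat.dvd_prime_pow hr.out).1 h2
    rcases i with _ | i
    · exact absurd (orderOf_eq_one_iff.1 (hi.trans (pow_zero _))) h1
    · exact (dvd_pow_self r (Nat.succ_ne_zero i)).trans (hi ▸ orderOf_dvd_natCard _)
  have hzY : z ∈ Y := by
    have h1 : u * y₀ * u⁻¹ ∈ Y := (mem_normalizer_iff.1 (hnorm q Y hY huN) _).1 hy₀Y
    exact mul_mem (inv_mem hy₀Y) h1
  refine CfsgLib.SemiregularPair.core hrq hXp hYp ρX ρY ZX ZY hSX hSY hZX hZY α f g ?_ ?_ ?_ ?_
    (y₀ := ⟨y₀, hy₀Y⟩) (z := ⟨z, hzY⟩) (Subtype.ext ?_) (mem_subgroupOf.2 hzc)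
    (fun e => hz1 (congrArg Subtype.val e)) hr'
  · intro γ a
    obtain ⟨k, rfl⟩ := QuotientGroup.mk_surjective γ
    rw [hα]
    refine Subtype.ext ?_
    rw [hfv, hρY, hρY, hβKv, hfv]
    group
  · intro γ a
    obtain ⟨k, rfl⟩ := QuotientGroup.mk_surjective γ
    rw [hα]
    refine Subtype.ext ?_
    rw [hgv, hρX, hρX, hβKv, hgv]
    group
  · intro a ha
    exact Subtype.ext (by rw [hfv, mem_center_iff.1 (mem_subgroupOf.1 ha) u, mul_inv_cancel_right])
  · intro a ha
    exact Subtype.ext (by rw [hgv, mem_center_iff.1 (mem_subgroupOf.1 ha) u, mul_inv_cancel_right])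
  · rw [hfv, Subgroup.coe_mul]
    show u * (y₀ : G) * u⁻¹ = (y₀ : G) * ((y₀ : G)⁻¹ * (u * y₀ * u⁻¹))
    group

/-- The main theorem. -/
theorem main [N.Normal] (h : OneSize N m) {r : ℕ} [hr : Fact r.Prime] (R : Sylow r G)
    (hR : ¬ (R : Subgroup G) ≤ center G) (hRN : (R : Subgroup G) ≤ N) : Group.IsNilpotent N := by
  classical
  by_cases hall : ∀ y ∈ N, ¬ r ∣ orderOf y → y ∈ center G
  · set Z := (center G).subgroupOf N
    haveI : Z.Normal := (inferInstance : (center G).Normal).comap _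
    have hq : IsPGroup r (N ⧸ Z) := by
      intro c
      obtain ⟨z, rfl⟩ := QuotientGroup.mk_surjective c
      obtain ⟨a, b, hab, ha, hb, ⟨k, hk⟩, hbr⟩ := parts (z : G) r
      refine ⟨k, ?_⟩
      rw [← QuotientGroup.mk_pow, QuotientGroup.eq_one_iff, mem_subgroupOf, SubgroupClass.coe_pow]
      have hbc := hall b ((zpowers_le.2 z.2) hb) hbr
      have hcomm : Commute a b := (mem_center_iff.1 hbc a)
      rw [← hab, hcomm.mul_pow, hk, one_mul]
      exact pow_mem hbc _
    haveI := hq.isNilpotent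
    refine _root_.isNilpotent_of_ker_le_center (QuotientGroup.mk' Z) ?_
    rw [QuotientGroup.ker_mk']
    exact fun z hz => mem_center_iff.2 fun w => Subtype.ext (mem_center_iff.1 (mem_subgroupOf.1 hz) w)
  push Not at hall
  obtain ⟨y, hy, hyr, hyc⟩ := hall
  obtain ⟨x, hx, hxc⟩ := SetLike.not_le_iff_exists.1 hR
  obtain ⟨kx, hkx⟩ := R.2 ⟨x, hx⟩
  have hxr : x ^ r ^ kx = 1 := congrArg Subtype.val hkx
  suffices hab : IsMulCommutative N by
    haveI := hab
    letI : CommGroup N := { (inferInstance : Group N) with mul_comm := fun a b => hab.is_comm.comm a b }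
    exact inferInstance
  by_cases hrm : r ∣ m
  swap
  · exact abelian_of_not_dvd h hrm (hRN hx) hxc ⟨kx, hxr⟩ hy hyc hyr
  -- a noncentral element of prime power order prime to `r`
  obtain ⟨q, hq, hqy, w, hwy, hwc, hwq⟩ : ∃ q : ℕ, q.Prime ∧ q ∣ orderOf y ∧ ∃ w ∈ zpowers y, w ∉ center G ∧
      ∃ k : ℕ, w ^ q ^ k = 1 := by
    by_contra hcon
    push Not at hcon
    refine hyc ?_
    set d := orderOf (QuotientGroup.mk y : G ⧸ center G)
    rcases eq_or_ne d 1 with hd | hd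
    · exact (QuotientGroup.eq_one_iff y).1 (orderOf_eq_one_iff.1 hd)
    exfalso
    have hd' : d ∣ orderOf y := orderOf_map_dvd (QuotientGroup.mk' (center G)) y
    set p := d.minFac
    have hp : p.Prime := Nat.minFac_prime hd
    haveI := Fact.mk hp
    have hpy : p ∣ orderOf y := (Nat.minFac_dvd d).trans hd'
    set k := ordCompl[p] (orderOf y)
    have hmem : y ^ k ∈ center G := by
      by_contra hc
      refine hcon p hp hpy (y ^ k) (pow_mem (mem_zpowers y) _) hc ((orderOf y).factorization p) ?_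
      rw [← pow_mul, mul_comm, Nat.ordProj_mul_ordCompl_eq_self, pow_orderOf_eq_one]
    have hdk : d ∣ k := orderOf_dvd_iff_pow_eq_one.2 (by
      rw [← QuotientGroup.mk_pow, QuotientGroup.eq_one_iff]; exact hmem)
    exact Nat.not_dvd_ordCompl hp (orderOf_pos y).ne' ((Nat.minFac_dvd d).trans hdk)
  haveI := Fact.mk hq
  have hrq : r ≠ q := fun e => hyr (e ▸ hqy)
  have hwN : w ∈ N := (zpowers_le.2 hy) hwy
  by_cases hqm : q ∣ m
  · exact (not_both h hrq R hR hRN hrm hqm hwN hwc hwq).elim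
  · refine abelian_of_not_dvd h hqm hwN hwc hwq (hRN hx) hxc fun hd => hrq ?_
    exact ((Nat.prime_dvd_prime_iff_eq hq hr.out).1
      (hq.dvd_of_dvd_pow (hd.trans (orderOf_dvd_iff_pow_eq_one.2 hxr)))).symm

/-- Let G be a finite group, r a prime and R a Sylow r-subgroup of G that is not central, N a normal subgroup of G containing R, and m a natural number such that every element of N has a conjugacy class in G of size 1 or m. Then N is nilpotent. -/
theorem result {G : Type*} [Group G] [Finite G] (r : ℕ) [Fact r.Prime]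
    (R : Sylow r G) (hR : ¬ (R : Subgroup G) ≤ Subgroup.center G) (N : Subgroup G) [N.Normal] (hRN : (R : Subgroup G) ≤ N)
    (m : ℕ) (h : ∀ x ∈ N, (Subgroup.centralizer ({x} : Set G)).index = 1 ∨ (Subgroup.centralizer ({x} : Set G)).index = m) : Group.IsNilpotent N := by
  exact main h R hR hRN

end Cfsg.Agent.S4135
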