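-- Proof of statement S4144.
import Cfsg.Statements.S4144
import Cfsg.Agent.FGSA.MaximalClassPower
import Cfsg.Agent.Solvable.MaximalClass

set_option autoImplicit false
open Cfsg

namespace Cfsg.Agent.S4144

/-- Let X be a finite p-group of order p^n, n ≥ 2, of nilpotency class n − 1 (maximal class), and H any subgroup of X. Then the index in H of the subgroup generated by the p-th powers of elements of H is at most p^p. -/
theorem result {X : Type*} [Group X] [Finite X] {p : ℕ} [Fact p.Prime] (n : ℕ) (hn : 2 ≤ n) (hX : Nat.card X = p ^ n)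
    (hmax : Group.nilpotencyClass X = n - 1) (H : Subgroup X) :
    (Subgroup.closure {y : X | ∃ h ∈ H, y = h ^ p}).relIndex H ≤ p ^ p := by
  classical
  have hp := (Fact.out : p.Prime)
  have hp2 := hp.two_le
  set W := Subgroup.closure {y : X | ∃ h ∈ H, y = h ^ p} with hW
  have hWH : W ≤ H := by
    rw [hW, Subgroup.closure_le]
    rintro _ ⟨h, hh, rfl⟩
    exact pow_mem hh p
  have hcard : ∀ {A B : Subgroup X}, A ≤ B → Nat.card A * A.relIndex B = Nat.card B := by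
    intro A B hAB
    rw [← Nat.card_congr (Subgroup.subgroupOfEquivOfLe hAB).toEquiv]
    exact (A.subgroupOf B).card_mul_index
  suffices hmain : Nat.card H ≤ p ^ p * Nat.card W by
    refine Nat.le_of_mul_le_mul_left ?_ (Nat.card_pos (α := W))
    rw [hcard hWH]; linarith
  have hG : IsPGroup p X := IsPGroup.of_card hX
  have hle : Nat.card H ≤ p ^ n := hX ▸ Subgroup.card_le_card_group H
  rcases Nat.lt_or_ge p n with hpn | hpn
  swap
  · calc Nat.card H ≤ p ^ n := hle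
      _ ≤ p ^ p := Nat.pow_le_pow_right hp.pos hpn
      _ ≤ p ^ p * Nat.card W := Nat.le_mul_of_pos_right _ Nat.card_pos
  haveI := hG.isNilpotent
  have hm : CfsgLib.FGSA.MaxClass.lcs X (n - 2) ≠ ⊥ := fun h => by
    have := (Subgroup.lowerCentralSeries_eq_bot_iff_nilpotencyClass_le).1 h
    omega
  -- the index of an intersection
  have hinf : ∀ {A N K : Subgroup X}, N ≤ K → A ≤ K →
      Nat.card A * Nat.card N ≤ Nat.card K * Nat.card ↥(N ⊓ A) := by
    intro A N K hNK hAK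
    have h1 : N.relIndex A ≤ N.relIndex K := Subgroup.relIndex_le_of_le_right hAK
      Subgroup.index_ne_zero_of_finite
    have h2 := hcard (inf_le_right : N ⊓ A ≤ A)
    rw [Subgroup.inf_relIndex_right] at h2
    calc Nat.card A * Nat.card N = Nat.card ↥(N ⊓ A) * (Nat.card N * N.relIndex A) := by
          rw [← h2]; ring
      _ ≤ Nat.card ↥(N ⊓ A) * (Nat.card N * N.relIndex K) := by gcongr
      _ = Nat.card K * Nat.card ↥(N ⊓ A) := by rw [hcard hNK]; ring
  by_cases hp3 : p = 2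
  · -- a cyclic subgroup of index two
    subst hp3
    obtain ⟨C, hC, hCi⟩ := CfsgLib.MaximalClass.cyclic_index_two n (by omega) hX
      (CfsgLib.MaximalClass.index_commutator_of_class (by omega) hX hmax)
    have hCc := C.card_mul_index
    rw [hCi, hX] at hCc
    haveI : IsCyclic ↥(C ⊓ H : Subgroup X) :=
      isCyclic_of_injective (Subgroup.inclusion (inf_le_left : C ⊓ H ≤ C)) (Subgroup.inclusion_injective _)
    obtain ⟨⟨c, hc⟩, hgen⟩ := IsCyclic.exists_generator (α := ↥(C ⊓ H : Subgroup X))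
    have hord : orderOf c = Nat.card ↥(C ⊓ H : Subgroup X) := by
      rw [← orderOf_eq_card_of_forall_mem_zpowers hgen]
      exact orderOf_injective (C ⊓ H).subtype (Subgroup.subtype_injective _) ⟨c, hc⟩
    have hc2 : orderOf (c ^ 2) ≤ Nat.card W := by
      rw [← Nat.card_zpowers]
      exact Subgroup.card_le_of_le (Subgroup.zpowers_le.2 (Subgroup.subset_closure ⟨c, hc.2, rfl⟩))
    have h1 : orderOf c ≤ 2 * orderOf (c ^ 2) := by
      refine orderOf_le_of_pow_eq_one (Nat.mul_pos two_pos (orderOf_pos _)) ?_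
      rw [pow_mul, pow_orderOf_eq_one]
    have h2 := hinf (le_top : C ≤ ⊤) (le_top : H ≤ ⊤)
    rw [Subgroup.card_top, hX, ← hCc] at h2
    have hpos : 0 < Nat.card C := Nat.card_pos
    have h3 : Nat.card H ≤ 2 * Nat.card ↥(C ⊓ H : Subgroup X) := by
      refine Nat.le_of_mul_le_mul_left ?_ hpos
      calc Nat.card C * Nat.card H = Nat.card H * Nat.card C := by ring
        _ ≤ Nat.card C * 2 * Nat.card ↥(C ⊓ H : Subgroup X) := h2
        _ = _ := by ring
    rw [← hord] at h3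
    norm_num
    omega
  have h3 : 3 ≤ p := by omega
  have hanti : ∀ {a b : ℕ}, a ≤ b → CfsgLib.FGSA.MaxClass.lcs X b ≤ CfsgLib.FGSA.MaxClass.lcs X a := fun h => CfsgLib.FGSA.MaxClassPow.lcs_anti h
  -- descending count along the lower central series
  have key : ∀ d j, 1 ≤ j → n ≤ j + p + d →
      Nat.card ↥(CfsgLib.FGSA.MaxClass.lcs X j ⊓ H) ≤ p ^ (p - 1) * Nat.card ↥(CfsgLib.FGSA.MaxClass.lcs X (j + p - 1) ⊓ W) := by
    intro d
    induction d with
    | zero =>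
      intro j hj hd
      refine le_trans ?_ (Nat.le_mul_of_pos_right _ Nat.card_pos)
      refine (Subgroup.card_le_of_le inf_le_left).trans ?_
      rcases Nat.lt_or_ge j n with hjn | hjn
      · show Nat.card (CfsgLib.FGSA.MaxClass.lcs X j) ≤ _
        rw [CfsgLib.FGSA.MaxClass.card_lcs hG hX hm hj (by omega)]
        exact Nat.pow_le_pow_right hp.pos (by omega)
      · rw [CfsgLib.FGSA.MaxClass.lcs_last hG hX hn hm (by omega), Subgroup.card_bot]
        exact Nat.one_le_pow _ _ hp.pos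
    | succ d ih =>
      intro j hj hd
      rcases Nat.lt_or_ge (j + p + d) n with hlt | hge
      swap
      · exact ih j hj hge
      have hstep := ih (j + 1) (by omega) (by omega)
      rw [show j + 1 + p - 1 = j + p by omega] at hstep
      have hmonoW : CfsgLib.FGSA.MaxClass.lcs X (j + p) ⊓ W ≤ CfsgLib.FGSA.MaxClass.lcs X (j + p - 1) ⊓ W := inf_le_inf_right _ (hanti (by omega))
      by_cases hz : CfsgLib.FGSA.MaxClass.lcs X j ⊓ H ≤ CfsgLib.FGSA.MaxClass.lcs X (j + 1)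
      · calc Nat.card ↥(CfsgLib.FGSA.MaxClass.lcs X j ⊓ H) ≤ Nat.card ↥(CfsgLib.FGSA.MaxClass.lcs X (j + 1) ⊓ H) :=
              Subgroup.card_le_of_le (le_inf hz inf_le_right)
          _ ≤ _ := hstep
          _ ≤ _ := Nat.mul_le_mul_left _ (Subgroup.card_le_of_le hmonoW)
      obtain ⟨z, hzj, hz'⟩ := SetLike.not_le_iff_exists.1 hz
      have hzp : z ^ p ∈ CfsgLib.FGSA.MaxClass.lcs X (j + p - 1) ⊓ W :=
        ⟨CfsgLib.FGSA.MaxClassPow.pow_mem h3 j hj hG hX (by omega) hm z hzj.1,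
          Subgroup.subset_closure ⟨z, hzj.2, rfl⟩⟩
      have hzp' : z ^ p ∉ CfsgLib.FGSA.MaxClass.lcs X (j + p) :=
        CfsgLib.FGSA.MaxClassPow.pow_not_mem h3 j hj hG hX (by omega) hm z hzj.1 hz'
      have hlt' : CfsgLib.FGSA.MaxClass.lcs X (j + p) ⊓ W < CfsgLib.FGSA.MaxClass.lcs X (j + p - 1) ⊓ W :=
        lt_of_le_of_ne hmonoW fun e => hzp' (e.ge hzp).1
      have hW' : p * Nat.card ↥(CfsgLib.FGSA.MaxClass.lcs X (j + p) ⊓ W) ≤ Nat.card ↥(CfsgLib.FGSA.MaxClass.lcs X (j + p - 1) ⊓ W) :=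
        CfsgLib.Uniserial.mul_card_le (hG.to_subgroup ⊤) le_top hlt'
      have hH' : Nat.card ↥(CfsgLib.FGSA.MaxClass.lcs X j ⊓ H) ≤ p * Nat.card ↥(CfsgLib.FGSA.MaxClass.lcs X (j + 1) ⊓ H) := by
        have h1 := hinf (hanti (by omega : j ≤ j + 1)) (inf_le_left : CfsgLib.FGSA.MaxClass.lcs X j ⊓ H ≤ CfsgLib.FGSA.MaxClass.lcs X j)
        rw [← inf_assoc, inf_eq_left.2 (hanti (by omega : j ≤ j + 1)),
          CfsgLib.FGSA.MaxClass.card_lcs hG hX hm (i := j + 1) (by omega) (by omega),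
          CfsgLib.FGSA.MaxClass.card_lcs hG hX hm (i := j) hj (by omega),
          show n - 1 - j = n - 1 - (j + 1) + 1 by omega, pow_succ] at h1
        refine Nat.le_of_mul_le_mul_left ?_ (pow_pos hp.pos (n - 1 - (j + 1)))
        calc p ^ (n - 1 - (j + 1)) * Nat.card ↥(CfsgLib.FGSA.MaxClass.lcs X j ⊓ H)
            = Nat.card ↥(CfsgLib.FGSA.MaxClass.lcs X j ⊓ H) * p ^ (n - 1 - (j + 1)) := by ring
          _ ≤ _ := h1
          _ = _ := by ring
      calc Nat.card ↥(CfsgLib.FGSA.MaxClass.lcs X j ⊓ H) ≤ p * Nat.card ↥(CfsgLib.FGSA.MaxClass.lcs X (j + 1) ⊓ H) := hH'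
        _ ≤ p * (p ^ (p - 1) * Nat.card ↥(CfsgLib.FGSA.MaxClass.lcs X (j + p) ⊓ W)) := Nat.mul_le_mul_left _ hstep
        _ = p ^ (p - 1) * (p * Nat.card ↥(CfsgLib.FGSA.MaxClass.lcs X (j + p) ⊓ W)) := by ring
        _ ≤ _ := Nat.mul_le_mul_left _ hW'
  have h1 := key n 1 le_rfl (by omega)
  rw [show 1 + p - 1 = p by omega] at h1
  have hγ1 : Nat.card (CfsgLib.FGSA.MaxClass.lcs X 1) = p ^ (n - 2) := by
    rw [CfsgLib.FGSA.MaxClass.card_lcs hG hX hm le_rfl (by omega), show n - 1 - 1 = n - 2 by omega]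
  by_cases hH : H = ⊤
  · subst hH
    rw [inf_top_eq, hγ1] at h1
    obtain ⟨hQp, hQn, hQmax⟩ := CfsgLib.FGSA.MaxClass.quotient_max hG hX hm (m := p + 1) (by omega) (by omega)
    obtain ⟨g, hg⟩ := CfsgLib.FGSA.MaxClassPow.exists_pow_ne_one hQp hQn h3 hQmax
    obtain ⟨g, rfl⟩ := QuotientGroup.mk_surjective g
    have hgp : g ^ p ∉ CfsgLib.FGSA.MaxClass.lcs X (p + 1 - 1) := fun h => hg (by
      rw [← QuotientGroup.mk_pow]; exact (QuotientGroup.eq_one_iff _).2 h)
    rw [show p + 1 - 1 = p from rfl] at hgp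
    have hlt : CfsgLib.FGSA.MaxClass.lcs X p ⊓ W < W := lt_of_le_of_ne inf_le_right fun e =>
      hgp (e.ge (Subgroup.subset_closure ⟨g, Subgroup.mem_top g, rfl⟩)).1
    have h2 : p * Nat.card ↥(CfsgLib.FGSA.MaxClass.lcs X p ⊓ W) ≤ Nat.card W :=
      CfsgLib.Uniserial.mul_card_le (hG.to_subgroup ⊤) le_top hlt
    calc Nat.card ↥(⊤ : Subgroup X) = p ^ 2 * p ^ (n - 2) := by
          rw [Subgroup.card_top, hX, ← pow_add, show 2 + (n - 2) = n by omega]
      _ ≤ p ^ 2 * (p ^ (p - 1) * Nat.card ↥(CfsgLib.FGSA.MaxClass.lcs X p ⊓ W)) := Nat.mul_le_mul_left _ h1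
      _ = p ^ p * (p * Nat.card ↥(CfsgLib.FGSA.MaxClass.lcs X p ⊓ W)) := by
          obtain ⟨q, rfl⟩ : ∃ q, p = q + 1 := ⟨p - 1, by omega⟩
          rw [Nat.add_sub_cancel, pow_succ]; ring
      _ ≤ _ := Nat.mul_le_mul_left _ h2
  obtain ⟨M, hM, hHM⟩ := (IsCoatomic.eq_top_or_exists_le_coatom H).resolve_left hH
  have hMn : M.Normal := Subgroup.NormalizerCondition.normal_of_coatom M Group.normalizerCondition_of_isNilpotent hM
  have hγM : CfsgLib.FGSA.MaxClass.lcs X 1 ≤ M := by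
    rcases hM.le_iff.1 (le_sup_left : M ≤ M ⊔ CfsgLib.FGSA.MaxClass.lcs X 1) with h | h
    swap
    · exact sup_eq_left.1 h
    exfalso
    haveI : Nontrivial (X ⧸ M) := QuotientGroup.nontrivial_iff.2 hM.1
    have h4 := CfsgLib.FGSA.Regular.commutator_lt (hG.to_quotient M) (H := ⊤) top_ne_bot
    have h5 := congrArg (Subgroup.map (QuotientGroup.mk' M)) h
    rw [Subgroup.map_sup, QuotientGroup.map_mk'_self, bot_sup_eq,
      Subgroup.map_top_of_surjective _ (QuotientGroup.mk'_surjective M)] at h5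
    refine h4.ne ?_
    calc ⁅(⊤ : Subgroup (X ⧸ M)), ⊤⁆ = (CfsgLib.FGSA.MaxClass.lcs X 1).map (QuotientGroup.mk' M) := by
          show _ = Subgroup.map _ ⁅(⊤ : Subgroup X), ⊤⁆
          rw [Subgroup.map_commutator, Subgroup.map_top_of_surjective _ (QuotientGroup.mk'_surjective M)]
      _ = ⊤ := h5
  have hMcard : p * Nat.card M ≤ p ^ n := by
    rw [← hX, ← Subgroup.card_top (G := X)]
    exact CfsgLib.Uniserial.mul_card_le (hG.to_subgroup ⊤) le_top hM.1.lt_top
  have h4 := hinf hγM hHM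
  rw [hγ1] at h4
  have h5 : Nat.card H ≤ p * Nat.card ↥(CfsgLib.FGSA.MaxClass.lcs X 1 ⊓ H) := by
    refine Nat.le_of_mul_le_mul_left ?_ (pow_pos hp.pos (n - 2))
    calc p ^ (n - 2) * Nat.card H = Nat.card H * p ^ (n - 2) := by ring
      _ ≤ Nat.card M * Nat.card ↥(CfsgLib.FGSA.MaxClass.lcs X 1 ⊓ H) := h4
      _ ≤ p ^ (n - 1) * Nat.card ↥(CfsgLib.FGSA.MaxClass.lcs X 1 ⊓ H) := by
          refine Nat.mul_le_mul_right _ (Nat.le_of_mul_le_mul_left ?_ hp.pos)
          rwa [← pow_succ', show n - 1 + 1 = n by omega]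
      _ = _ := by
          rw [show n - 1 = n - 2 + 1 by omega, pow_succ]; ring
  calc Nat.card H ≤ p * Nat.card ↥(CfsgLib.FGSA.MaxClass.lcs X 1 ⊓ H) := h5
    _ ≤ p * (p ^ (p - 1) * Nat.card ↥(CfsgLib.FGSA.MaxClass.lcs X p ⊓ W)) := Nat.mul_le_mul_left _ h1
    _ = p ^ p * Nat.card ↥(CfsgLib.FGSA.MaxClass.lcs X p ⊓ W) := by
        rw [← mul_assoc, ← pow_succ', Nat.sub_add_cancel hp.pos]
    _ ≤ _ := Nat.mul_le_mul_left _ (Subgroup.card_le_of_le inf_le_right)

end Cfsg.Agent.S4144
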