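import Cfsg.Statements.S4146
import Cfsg.Agent.ConjType.Main
-- import your own Cfsg.Agent.* helpers here

set_option autoImplicit false
open Cfsg

namespace Cfsg.Agent.S4146

/-- Let G be a finite group whose conjugacy class sizes are exactly 1, n, m and nm for coprime integers n, m > 1. Then G is nilpotent and n and m are prime powers. -/
theorem result {G : Type*} [Group G] [Finite G] (n m : ℕ) (hn : 1 < n) (hm : 1 < m) (hcop : n.Coprime m)
    (h : Set.range (fun x : G => (Subgroup.centralizer ({x} : Set G)).index) = ({1, n, m, n * m} : Set ℕ)) :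
    Group.IsNilpotent G ∧ IsPrimePow n ∧ IsPrimePow m := by
  classical
  have hF : CfsgLib.ConjType.Four G n m := by
    have hmem : ∀ k : ℕ, k ∈ Set.range (fun x : G => (Subgroup.centralizer ({x} : Set G)).index) ↔
        k = 1 ∨ k = n ∨ k = m ∨ k = n * m := fun k => by rw [h]; simp
    exact ⟨hn, hm, hcop, fun g => (hmem _).1 ⟨g, rfl⟩, (hmem n).2 (by simp), (hmem m).2 (by simp),
      (hmem (n * m)).2 (by simp)⟩
  exact hF.main

end Cfsg.Agent.S4146
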