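import Cfsg.Statements.S4149
import Cfsg.Agent.FGSA.ClassSizePrimes

set_option autoImplicit false
open Cfsg

namespace Cfsg.Agent.S4149

/-- Let G be a finite group that has a normal p-complement for at most one prime p dividing its order, and let σ be a natural number such that every conjugacy class size of G has at most σ distinct prime divisors. Then the number of primes dividing at least one conjugacy class size of G is at most 2σ. -/
theorem result {G : Type*} [Group G] [Finite G] (σ : ℕ)
    (hσ : ∀ x : G, ((Subgroup.centralizer ({x} : Set G)).index).primeFactors.card ≤ σ)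
    (hnil : ∀ p q : ℕ, p.Prime → q.Prime → p ∣ Nat.card G → q ∣ Nat.card G →
      Cfsg.HasNormalPComplement p G → Cfsg.HasNormalPComplement q G → p = q) :
    Nat.card {p : ℕ | p.Prime ∧ ∃ x : G, p ∣ (Subgroup.centralizer ({x} : Set G)).index} ≤ 2 * σ := by
  classical
  haveI := Fintype.ofFinite G
  set ρ : Set ℕ := {p : ℕ | p.Prime ∧ ∃ x : G, p ∣ (Subgroup.centralizer ({x} : Set G)).index}
    with hρ
  have hsub : ρ ⊆ ↑(Nat.card G).primeFactors := fun p ⟨hp, x, hx⟩ =>
    Finset.mem_coe.2 (Nat.mem_primeFactors.2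
      ⟨hp, hx.trans (Subgroup.index_dvd_card _), Nat.card_pos.ne'⟩)
  have hfin : ρ.Finite := (Finset.finite_toSet _).subset hsub
  set R := hfin.toFinset with hR
  rw [show Nat.card ρ = R.card by rw [Nat.card_coe_set_eq, Set.ncard_eq_toFinset_card ρ hfin]]
  by_contra hlt
  rw [not_le] at hlt
  set T := R.filter (fun p => ¬ Cfsg.HasNormalPComplement p G) with hT
  have hcompl : (R.filter (fun p => Cfsg.HasNormalPComplement p G)).card ≤ 1 := by
    rw [Finset.card_le_one]
    intro a ha b hb
    simp only [Finset.mem_filter, hR, Set.Finite.mem_toFinset] at ha hb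
    obtain ⟨⟨hap, xa, hxa⟩, hac⟩ := ha
    obtain ⟨⟨hbp, xb, hxb⟩, hbc⟩ := hb
    exact hnil a b hap hbp (hxa.trans (Subgroup.index_dvd_card _))
      (hxb.trans (Subgroup.index_dvd_card _)) hac hbc
  have hTcard : 2 * σ ≤ T.card := by
    have h1 := Finset.card_filter_add_card_filter_not (s := R) (fun p => Cfsg.HasNormalPComplement p G)
    rw [← hT] at h1
    omega
  have hσ0 : 0 < σ := by
    have hne : R.Nonempty := Finset.card_pos.1 (by omega)
    obtain ⟨p, hp⟩ := hne
    obtain ⟨hpp, x, hx⟩ := hfin.mem_toFinset.1 hp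
    have hmem : p ∈ ((Subgroup.centralizer ({x} : Set G)).index).primeFactors :=
      Nat.mem_primeFactors.2 ⟨hpp, hx, Subgroup.index_ne_zero_of_finite⟩
    have := hσ x
    have := Finset.card_pos.2 ⟨p, hmem⟩
    omega
  have hlow : T.card * Fintype.card G ≤
      2 * ∑ x : G, (T.filter (fun p => p ∣ (Subgroup.centralizer ({x} : Set G)).index)).card := by
    simp only [Finset.card_filter]
    rw [Finset.sum_comm, Finset.mul_sum, ← smul_eq_mul, ← Finset.sum_const]
    refine Finset.sum_le_sum fun p hp => ?_
    simp only [hT, Finset.mem_filter, hR, Set.Finite.mem_toFinset] at hp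
    haveI : Fact p.Prime := ⟨hp.1.1⟩
    have h1 := CfsgLib.ClassSizePrimes.half_le_card_bad hp.2
    rwa [Nat.card_eq_fintype_card, Nat.card_eq_fintype_card, Fintype.card_subtype,
      Finset.card_filter] at h1
  have hone : (T.filter (fun p => p ∣ (Subgroup.centralizer ({(1 : G)} : Set G)).index)).card = 0 := by
    rw [Finset.card_eq_zero, Finset.filter_eq_empty_iff]
    intro p hp hd
    simp only [hT, Finset.mem_filter, hR, Set.Finite.mem_toFinset] at hp
    have htop : Subgroup.centralizer ({(1 : G)} : Set G) = ⊤ := by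
      ext; simp [Subgroup.mem_centralizer_singleton_iff]
    rw [htop, Subgroup.index_top, Nat.dvd_one] at hd
    exact hp.1.1.ne_one hd
  have hup : ∑ x : G, (T.filter (fun p => p ∣ (Subgroup.centralizer ({x} : Set G)).index)).card <
      ∑ _x : G, σ := by
    refine Finset.sum_lt_sum (fun x _ => ?_) ⟨1, Finset.mem_univ _, by rw [hone]; exact hσ0⟩
    refine le_trans (Finset.card_le_card fun p hp => ?_) (hσ x)
    simp only [hT, Finset.mem_filter, hR, Set.Finite.mem_toFinset] at hp
    exact Nat.mem_primeFactors.2 ⟨hp.1.1.1, hp.2, Subgroup.index_ne_zero_of_finite⟩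
  rw [Finset.sum_const, Finset.card_univ, smul_eq_mul] at hup
  nlinarith

end Cfsg.Agent.S4149
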