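import Cfsg.Statements.S4151
import Cfsg.Agent.FGSB.TIHall
import Cfsg.Agent.Coprime.ZGroup
import Cfsg.Agent.Coprime.Generation
import Cfsg.Agent.InvChar.UniqueInvolution
import Mathlib.Tactic.LinearCombination

set_option autoImplicit false
open Cfsg

namespace Cfsg.Agent.S4151

set_option linter.unusedSectionVars false
open CfsgLib.TIHall

variable {G : Type*} [Group G] [Finite G] {H : Subgroup G}

/-- A TI Hall subgroup of a separable group with abelian Sylow `2`-subgroups has cyclic Sylow subgroups. -/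
theorem isZGroup_of_ti (hTI : Cfsg.IsTISubset (H : Set G)) (hnn : ¬ H.Normal) (O : Subgroup G) [O.Normal]
    (hOc : (Nat.card O).Coprime (Nat.card H)) (hOtop : O ⊔ Subgroup.normalizer (H : Set G) = ⊤)
    (h2 : ∀ P : Sylow 2 H, IsMulCommutative (P : Subgroup H)) : IsZGroup H := by
  refine ⟨fun r hr P => ?_⟩
  have := Fact.mk hr
  rcases CfsgLib.UniqueInvol.cyclic_or_quaternion P.isPGroup' (fun a b ha hb => by
    by_contra hba
    -- an elementary abelian subgroup of order `r²` would make `O` normalise `H`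
    obtain ⟨z, hz, hzab⟩ : ∃ z : (P : Subgroup H), orderOf z = r ∧ ∃ y : (P : Subgroup H),
        orderOf y = r ∧ y ∉ Subgroup.zpowers z ∧ z * y = y * z := by
      have : Nontrivial (P : Subgroup H) := ⟨⟨a, 1, fun h => hr.ne_one (by rw [← ha, h, orderOf_one])⟩⟩
      have := P.isPGroup'.center_nontrivial
      obtain ⟨z₀, hz₀⟩ := exists_ne (1 : Subgroup.center (P : Subgroup H))
      obtain ⟨k, hk⟩ := IsPGroup.iff_orderOf.1 P.isPGroup' (z₀ : (P : Subgroup H))
      have hk0 : k ≠ 0 := fun h => hz₀ (Subtype.ext (orderOf_eq_one_iff.1 (by rw [hk, h, pow_zero])))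
      set z : (P : Subgroup H) := (z₀ : (P : Subgroup H)) ^ r ^ (k - 1)
      have hz : orderOf z = r := by
        rw [orderOf_pow_of_dvd (pow_ne_zero _ hr.ne_zero) (hk ▸ pow_dvd_pow r (Nat.sub_le k 1)), hk,
          Nat.pow_div (Nat.sub_le k 1) hr.pos, Nat.sub_sub_self (Nat.one_le_iff_ne_zero.2 hk0), pow_one]
      have hzc : ∀ y, z * y = y * z := fun y =>
        ((show Commute y (z₀ : (P : Subgroup H)) from Subgroup.mem_center_iff.1 z₀.2 y).pow_right _).eq.symm
      by_cases haz : a ∈ Subgroup.zpowers z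
      · by_cases hbz : b ∈ Subgroup.zpowers z
        · exfalso
          have heq : Subgroup.zpowers a = Subgroup.zpowers z :=
            Subgroup.eq_of_le_of_card_ge (Subgroup.zpowers_le.2 haz) (by rw [Nat.card_zpowers, Nat.card_zpowers, hz, ha])
          exact hba (heq ▸ hbz)
        · exact ⟨z, hz, b, hb, hbz, hzc b⟩
      · exact ⟨z, hz, a, ha, haz, hzc a⟩
    obtain ⟨y, hy, hyz, hzy⟩ := hzab
    let ι : (P : Subgroup H) →* G := H.subtype.comp (P : Subgroup H).subtype
    have hιi : Function.Injective ι := Subtype.val_injective.comp Subtype.val_injective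
    set A := Subgroup.closure ({ι z, ι y} : Set G) with hA
    have hAH : A ≤ H := (Subgroup.closure_le _).2 (by
      rintro _ (rfl | rfl)
      · exact (z : H).2
      · exact (y : H).2)
    have hAc : IsMulCommutative A := Subgroup.isMulCommutative_closure (by
      have h' : ι z * ι y = ι y * ι z := by rw [← map_mul, hzy, map_mul]
      rintro g (rfl | rfl) h (rfl | rfl) <;> first | rfl | exact h' | exact h'.symm)
    let _ : CommGroup A := { (inferInstance : Group A) with mul_comm := fun u v => hAc.1.1 u v }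
    let _ : MulDistribMulAction A O := MulDistribMulAction.compHom O
      ((MulAut.conjNormal : G →* MulAut O).comp A.subtype)
    have hnc : ¬ IsCyclic A := by
      intro hcyc
      have h1 : (Subgroup.zpowers (⟨ι z, Subgroup.subset_closure (Or.inl rfl)⟩ : A)) =
          Subgroup.zpowers (⟨ι y, Subgroup.subset_closure (Or.inr rfl)⟩ : A) := by
        refine CfsgLib.Coprime.subgroup_eq_of_natCard_eq ?_
        rw [Nat.card_zpowers, Nat.card_zpowers, Subgroup.orderOf_mk, Subgroup.orderOf_mk,
          orderOf_injective ι hιi, orderOf_injective ι hιi, hz, hy]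
      obtain ⟨i, hi⟩ := h1.symm.le (Subgroup.mem_zpowers _)
      refine hyz ⟨i, hιi ?_⟩
      show ι (z ^ i) = ι y
      rw [map_zpow]
      exact congrArg Subtype.val hi
    have hgen := CfsgLib.Coprime.closure_fixed_eq_top (A := A) (G := O) hnc
      (hOc.symm.coprime_dvd_left (Subgroup.card_dvd_of_le hAH))
    have hON : O ≤ Subgroup.normalizer (H : Set G) := by
      intro u hu
      have h1 : (⟨u, hu⟩ : O) ∈ Subgroup.closure {g : O | ∃ a : A, a ≠ 1 ∧ a • g = g} := by
        rw [hgen]; trivial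
      refine (show Subgroup.closure {g : O | ∃ a : A, a ≠ 1 ∧ a • g = g} ≤
        (Subgroup.normalizer (H : Set G)).comap O.subtype from ?_) h1
      rw [Subgroup.closure_le]
      rintro g ⟨c, hc1, hc⟩
      have hc' : (c : G) * g * (c : G)⁻¹ = g := congrArg Subtype.val hc
      refine mem_normalizer_of_ti hTI (x := (c : G)) (hAH c.2) (fun h => hc1 (Subtype.ext h)) ?_
      show (g : G) * c * (g : G)⁻¹ ∈ H
      rw [show (g : G) * c * (g : G)⁻¹ = c by
        calc (g : G) * c * (g : G)⁻¹ = ((c : G) * g * (c : G)⁻¹) * c * (g : G)⁻¹ := by rw [hc']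
          _ = c := by group]
      exact hAH c.2
    rw [sup_eq_right.2 hON] at hOtop
    exact hnn (Subgroup.normalizer_eq_top_iff.1 hOtop)) with h | ⟨rfl, n, hn, ⟨e⟩⟩
  · exact h
  · exfalso
    have hcomm := h2 P
    have h1 := e.injective.eq_iff.2 (hcomm.1.1 (e.symm (QuaternionGroup.a 1)) (e.symm (QuaternionGroup.xa 0)))
    simp only [map_mul, MulEquiv.apply_symm_apply, QuaternionGroup.a_mul_xa, QuaternionGroup.xa_mul_a,
      QuaternionGroup.xa.injEq] at h1
    have h2' : (2 : ZMod (2 * 2 ^ n)) = 0 := by linear_combination (-1 : ZMod (2 * 2 ^ n)) * h1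
    have h3 : ((2 : ℕ) : ZMod (2 * 2 ^ n)) = 0 := by exact_mod_cast h2'
    have h4 := Nat.le_of_dvd two_pos ((ZMod.natCast_eq_zero_iff _ _).1 h3)
    have h5 : 2 ≤ 2 ^ n := Nat.le_self_pow (by omega) 2
    omega

/-- Let G be a finite group and H a non-normal subgroup meeting each of its conjugates by elements outside N_G(H) trivially, with the order of H coprime to its index in N_G(H), such that G is π-separable for π the set of primes dividing the order of H (G has a chain of normal subgroups from 1 to G each of whose factors has order divisible only by primes dividing the order of H or coprime to it). Suppose a Sylow 2-subgroup of H is abelian and Q is a complement of H in N_G(H). Then C_H(Q), the subgroup of elements of H commuting with Q, has order coprime to its index in G and has a normal complement in G. -/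
theorem result {G : Type*} [Group G] [Finite G] (H : Subgroup G)
    (hTI : Cfsg.IsTISubset (H : Set G)) (hnn : ¬ H.Normal)
    (hHall : (Nat.card H).Coprime (H.subgroupOf (Subgroup.normalizer (H : Set G))).index)
    (hsep : ∃ (n : ℕ) (M : Fin (n + 1) → Subgroup G), M 0 = ⊥ ∧ M (Fin.last n) = ⊤ ∧ Monotone M ∧ (∀ i, (M i).Normal) ∧
      ∀ i : Fin n, (∀ q : ℕ, q.Prime → q ∣ (M i.castSucc).relIndex (M i.succ) → q ∣ Nat.card H) ∨
        ((M i.castSucc).relIndex (M i.succ)).Coprime (Nat.card H))
    (h2 : ∀ P : Sylow 2 H, IsMulCommutative (P : Subgroup H))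
    (Q : Subgroup G) (hQ : Q ≤ Subgroup.normalizer (H : Set G)) (hQH : Q ⊓ H = ⊥) (hQH' : Q ⊔ H = Subgroup.normalizer (H : Set G)) :
    (Nat.card ↥(H ⊓ Subgroup.centralizer (Q : Set G))).Coprime (H ⊓ Subgroup.centralizer (Q : Set G)).index ∧
    ∃ N : Subgroup G, N.Normal ∧ N.IsComplement' (H ⊓ Subgroup.centralizer (Q : Set G)) := by
  classical
  have hH : H ≠ ⊥ := fun h => hnn (h ▸ inferInstance)
  have hHall' := hall_of_ti hTI hHall
  set N := Subgroup.normalizer (H : Set G) with hN
  obtain ⟨hOn, hOc, hOtop, -⟩ := separable_structure hTI hH hHall' hsep _ rfl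
  set O := sSup {K : Subgroup G | K.Normal ∧ (Nat.card K).Coprime (Nat.card H)} with hOdef
  have hZ : IsZGroup H := isZGroup_of_ti hTI hnn O hOc hOtop h2
  have hQidx : Nat.card Q ∣ (H.subgroupOf N).index := by
    let f : Q → N ⧸ H.subgroupOf N := fun u => QuotientGroup.mk (⟨u, hQ u.2⟩ : N)
    have hf : Function.Injective f := by
      intro u v h
      have h1 : (u : G)⁻¹ * v ∈ Q ⊓ H :=
        Subgroup.mem_inf.2 ⟨mul_mem (inv_mem u.2) v.2, Subgroup.mem_subgroupOf.1 (QuotientGroup.eq.1 h)⟩
      rw [hQH, Subgroup.mem_bot, inv_mul_eq_one] at h1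
      exact Subtype.ext h1
    have := Subgroup.normal_in_normalizer (H := H)
    exact Subgroup.card_dvd_of_injective (MonoidHom.mk' f fun u v => rfl) hf
  have hcop : (Nat.card Q).Coprime (Nat.card H) := (hHall.coprime_dvd_right hQidx).symm
  let _ : MulDistribMulAction Q H := MulDistribMulAction.compHom H
    (H.normalizerMonoidHom.comp (Subgroup.inclusion hQ))
  obtain ⟨hh1, -, -, hh4, hh5⟩ := CfsgLib.Coprime.zgroup_action (G := H) (A := Q) hcop
  set C := H ⊓ Subgroup.centralizer (Q : Set G) with hC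
  have hCmap : (FixedPoints.subgroup Q H).map H.subtype = C := by
    ext x
    constructor
    · rintro ⟨u, hu, rfl⟩
      exact ⟨u.2, Subgroup.mem_centralizer_iff.2 fun q hq =>
        mul_inv_eq_iff_eq_mul.1 (congrArg Subtype.val (hu ⟨q, hq⟩))⟩
    · rintro ⟨hxH, hxQ⟩
      exact ⟨⟨x, hxH⟩, fun q => Subtype.ext (mul_inv_eq_iff_eq_mul.2
        (Subgroup.mem_centralizer_iff.1 hxQ q q.2)), rfl⟩
  set L := (CfsgLib.Coprime.actCommutator H Q).map H.subtype with hL
  have hCcard : Nat.card C = Nat.card (FixedPoints.subgroup Q H) := by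
    rw [← hCmap, Subgroup.card_map_of_injective H.subtype_injective]
  -- `W = Q L` is normal in `N`
  set W := Q ⊔ L with hW
  have hQL : Q ≤ Subgroup.normalizer (L : Set G) := by
    have key : ∀ q : G, q ∈ Q → ∀ x ∈ L, q * x * q⁻¹ ∈ L := by
      rintro q hq _ ⟨u, hu, rfl⟩
      exact ⟨(⟨q, hq⟩ : Q) • u, CfsgLib.Coprime.isInvariant_actCommutator (⟨q, hq⟩ : Q) u hu, rfl⟩
    intro q hq
    refine Subgroup.mem_normalizer_iff.2 fun x => ⟨key q hq x, fun h => ?_⟩
    have := key q⁻¹ (inv_mem hq) _ h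
    simpa [mul_assoc] using this
  have hWN : ∀ g ∈ N, ∀ w ∈ W, g * w * g⁻¹ ∈ W := by
    suffices hle : N ≤ Subgroup.normalizer (W : Set G) from
      fun g hg w hw => (Subgroup.mem_normalizer_iff.1 (hle hg) w).1 hw
    rw [← hQH']
    refine sup_le (le_sup_left.trans Subgroup.le_normalizer) ?_
    have key : ∀ h ∈ H, W ≤ W.comap (MulAut.conj h).toMonoidHom := by
      intro h hh
      rw [hW, sup_le_iff]
      constructor
      · intro q hq
        show h * q * h⁻¹ ∈ Q ⊔ L
        have hm : (⟨h, hh⟩ : H)⁻¹⁻¹ * (⟨q, hq⟩ : Q) • (⟨h, hh⟩ : H)⁻¹ ∈ CfsgLib.Coprime.actCommutator H Q :=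
          CfsgLib.Coprime.inv_mul_smul_mem_actCommutator _ _
        have hm' : h * (q * h⁻¹ * q⁻¹) ∈ L := ⟨_, hm, by
          show (h⁻¹)⁻¹ * (q * h⁻¹ * q⁻¹) = _
          rw [inv_inv]⟩
        rw [show h * q * h⁻¹ = h * (q * h⁻¹ * q⁻¹) * q by group]
        exact mul_mem (Subgroup.mem_sup_right hm') (Subgroup.mem_sup_left hq)
      · rintro _ ⟨u, hu, rfl⟩
        exact Subgroup.mem_sup_right ⟨⟨h, hh⟩ * u * ⟨h, hh⟩⁻¹,
          CfsgLib.Coprime.actCommutator_normal.conj_mem u hu _, rfl⟩
    intro h hh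
    refine Subgroup.mem_normalizer_iff.2 fun w => ⟨fun hw => key h hh hw, fun hw => ?_⟩
    have : h⁻¹ * (h * w * h⁻¹) * h⁻¹⁻¹ ∈ W := key h⁻¹ (inv_mem hh) hw
    simpa [mul_assoc] using this
  set K := O ⊔ W with hK
  have hKn : K.Normal := by
    rw [← Subgroup.normalizer_eq_top_iff, eq_top_iff, ← hOtop]
    refine sup_le (le_sup_left.trans Subgroup.le_normalizer) fun g hg => ?_
    have key : ∀ g ∈ N, K ≤ K.comap (MulAut.conj g).toMonoidHom := by
      intro g hg
      rw [hK, sup_le_iff]
      exact ⟨fun x hx => Subgroup.mem_sup_left (hOn.conj_mem x hx g),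
        fun x hx => Subgroup.mem_sup_right (hWN g hg x hx)⟩
    refine Subgroup.mem_normalizer_iff.2 fun w => ⟨fun hw => key g hg hw, fun hw => ?_⟩
    have : g⁻¹ * (g * w * g⁻¹) * g⁻¹⁻¹ ∈ K := key g⁻¹ (inv_mem hg) hw
    simpa [mul_assoc] using this
  have htop : K ⊔ C = ⊤ := by
    rw [eq_top_iff, ← hOtop]
    refine sup_le (le_sup_left.trans le_sup_left) ?_
    rw [← hN, ← hQH']
    refine sup_le ((le_sup_left.trans le_sup_right).trans le_sup_left) ?_
    have hHeq : H = C ⊔ L := by
      rw [← hCmap, hL, ← Subgroup.map_sup, hh4, ← MonoidHom.range_eq_map, H.range_subtype]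
    rw [hHeq]
    exact sup_le le_sup_right ((le_sup_right.trans le_sup_right).trans le_sup_left)
  have hKC : (Nat.card K).Coprime (Nat.card C) := by
    have hW2 : (Nat.card W).Coprime (Nat.card C) := by
      have hLC : (Nat.card L).Coprime (Nat.card C) := by
        rw [hCcard, hL, Subgroup.card_map_of_injective H.subtype_injective]; exact hh5
      have e : Nat.card W = Nat.card L * L.relIndex W := (card_mul_relIndex le_sup_right).symm
      rw [e]
      refine Nat.Coprime.mul_left hLC ((hcop.coprime_dvd_right (Subgroup.card_dvd_of_le inf_le_left)).coprime_dvd_left ?_)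
      let ψ : Q →* Subgroup.normalizer (L : Set G) ⧸ L.subgroupOf (Subgroup.normalizer (L : Set G)) :=
        (QuotientGroup.mk' _).comp (Subgroup.inclusion hQL)
      have hWn : W ≤ Subgroup.normalizer (L : Set G) := sup_le hQL Subgroup.le_normalizer
      have h1 : L.relIndex W = L.relIndex (Q ⊔ L) := rfl
      rw [h1, Subgroup.relIndex]
      have hsurj : Function.Surjective fun q : Q =>
          (QuotientGroup.mk (⟨q, Subgroup.mem_sup_left q.2⟩ : ↥(Q ⊔ L)) : ↥(Q ⊔ L) ⧸ L.subgroupOf (Q ⊔ L)) := by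
        intro z
        obtain ⟨⟨w, hw⟩, rfl⟩ := QuotientGroup.mk_surjective z
        rw [← SetLike.mem_coe, Subgroup.coe_mul_of_left_le_normalizer_right Q L hQL] at hw
        obtain ⟨q, hq, l, hl, rfl⟩ := hw
        exact ⟨⟨q, hq⟩, QuotientGroup.eq.2 (by rw [Subgroup.mem_subgroupOf]; simpa using hl)⟩
      have hnL : (L.subgroupOf (Q ⊔ L)).Normal := Subgroup.normal_subgroupOf_of_le_normalizer hWn
      rw [Subgroup.index_eq_card]
      exact Subgroup.card_dvd_of_surjective (MonoidHom.mk' _ fun u v => rfl) hsurj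
    rw [show Nat.card K = Nat.card O * O.relIndex K from (card_mul_relIndex le_sup_left).symm]
    refine Nat.Coprime.mul_left (hOc.coprime_dvd_right (Subgroup.card_dvd_of_le inf_le_left))
      (hW2.coprime_dvd_left ?_)
    rw [hK, sup_comm, Subgroup.relIndex_sup_right]
    exact Subgroup.relIndex_dvd_card _ _
  have hcompl : K.IsComplement' C := Subgroup.isComplement'_of_disjoint_and_mul_eq_univ
    (Subgroup.disjoint_of_coprime_natCard hKC) (by rw [← Subgroup.normal_mul, htop, Subgroup.coe_top])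
  refine ⟨?_, K, hKn, hcompl⟩
  rw [hcompl.index_eq_card]
  exact hKC.symm

end Cfsg.Agent.S4151
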