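import Cfsg.Statements.S4152
import Cfsg.Agent.Solvable.Hall
import Mathlib.GroupTheory.GroupAction.Quotient

set_option autoImplicit false
set_option linter.style.haveILetI false
set_option linter.unusedSectionVars false
open Cfsg

namespace Cfsg.Agent.S4152

/-- `g` is an element all of whose prime divisors of the order lie in `π`. -/
def IsPiEl {M : Type*} [Monoid M] (π : Set ℕ) (g : M) : Prop :=
  ∀ q : ℕ, q.Prime → q ∣ orderOf g → q ∈ π

variable {G : Type*} [Group G] [Finite G] (π : Set ℕ)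

theorem exists_split (g : G) : ∃ a b : G, a * b = g ∧ a ∈ Subgroup.zpowers g ∧ b ∈ Subgroup.zpowers g ∧
    IsPiEl π a ∧ ∀ q : ℕ, q.Prime → q ∣ orderOf b → q ∉ π := by
  obtain ⟨m, n, hmn, hcop, hm, hn⟩ := CfsgLib.Hall.exists_pi_split (Subgroup.zpowers g) (· ∈ π)
  rw [Nat.card_zpowers] at hmn
  refine ⟨g ^ ((n : ℤ) * m.gcdB n), g ^ ((m : ℤ) * m.gcdA n), ?_, ⟨_, rfl⟩, ⟨_, rfl⟩,
    fun q hq hd => hm q hq ?_, fun q hq hd => hn q hq ?_⟩
  · rw [← zpow_add, add_comm, ← Nat.gcd_eq_gcd_ab, hcop.gcd_eq_one, Nat.cast_one, zpow_one]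
  · refine hd.trans (orderOf_dvd_of_pow_eq_one ?_)
    rw [← zpow_natCast, ← zpow_mul, show (n : ℤ) * m.gcdB n * m = ((m * n : ℕ) : ℤ) * m.gcdB n by
      push_cast; ring, ← hmn, zpow_mul, zpow_natCast, pow_orderOf_eq_one, one_zpow]
  · refine hd.trans (orderOf_dvd_of_pow_eq_one ?_)
    rw [← zpow_natCast, ← zpow_mul, show (m : ℤ) * m.gcdA n * n = ((m * n : ℕ) : ℤ) * m.gcdA n by
      push_cast; ring, ← hmn, zpow_mul, zpow_natCast, pow_orderOf_eq_one, one_zpow]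

omit [Finite G] in
theorem coprime_of {a b : G} (ha : IsPiEl π a) (hb : ∀ q : ℕ, q.Prime → q ∣ orderOf b → q ∉ π) :
    (orderOf a).Coprime (orderOf b) :=
  Nat.coprime_of_dvd fun q hq h1 h2 => hb q hq h2 (ha q hq h1)

/-- The `π`-part of an element is unique. -/
theorem split_unique {a b a' b' : G} (h : Commute a b) (h' : Commute a' b') (he : a * b = a' * b')
    (ha : IsPiEl π a) (ha' : IsPiEl π a') (hb : ∀ q : ℕ, q.Prime → q ∣ orderOf b → q ∉ π)
    (hb' : ∀ q : ℕ, q.Prime → q ∣ orderOf b' → q ∉ π) : a = a' := by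
  have key : ∀ x y : G, Commute x y → (orderOf x).Coprime (orderOf y) →
      x ∈ Subgroup.zpowers (x * y) := by
    intro x y hc hco
    obtain ⟨k, hk⟩ := exists_pow_eq_self_of_coprime hco.symm
    have e : x ^ orderOf y = (x * y) ^ orderOf y := by rw [hc.mul_pow, pow_orderOf_eq_one, mul_one]
    have : (x ^ orderOf y) ^ k ∈ Subgroup.zpowers (x * y) := by
      rw [e]; exact pow_mem (pow_mem (Subgroup.mem_zpowers _) _) _
    rwa [hk] at this
  have h1 := key a b h (coprime_of π ha hb)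
  have h2 := key a' b' h' (coprime_of π ha' hb')
  rw [← he] at h2
  obtain ⟨i, hi⟩ := h1
  obtain ⟨j, hj⟩ := h2
  simp only at hi hj
  have haa : Commute a a' := by rw [← hi, ← hj]; exact Commute.zpow_zpow_self _ i j
  have hca : Commute a' b := by
    have : Commute (a * b) a' := by rw [← hj]; exact Commute.self_zpow _ j
    have hb1 : b = a⁻¹ * (a * b) := (inv_mul_cancel_left a b).symm
    rw [hb1]
    exact (haa.inv_left.symm).mul_right this.symm
  have hbb : Commute b b' := by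
    have hb2 : b' = a'⁻¹ * (a * b) := by rw [he, inv_mul_cancel_left]
    rw [hb2]
    exact (hca.inv_left.symm).mul_right (h.symm.mul_right rfl)
  have e : a'⁻¹ * a = b' * b⁻¹ := by
    rw [eq_mul_inv_iff_mul_eq, mul_assoc, he, inv_mul_cancel_left]
  have d1 := haa.symm.inv_left.orderOf_mul_dvd_lcm
  have d2 := hbb.symm.inv_right.orderOf_mul_dvd_lcm
  rw [orderOf_inv] at d1 d2
  rw [← e] at d2
  refine (inv_mul_eq_one.1 ((orderOf_eq_one_iff).1 (Nat.eq_one_iff_not_exists_prime_dvd.2 ?_))).symm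
  intro q hq hd
  rcases hq.dvd_lcm.1 (hd.trans d1) with r | r <;> rcases hq.dvd_lcm.1 (hd.trans d2) with s | s
  · exact hb' q hq s (ha' q hq r)
  · exact hb q hq s (ha' q hq r)
  · exact hb' q hq s (ha q hq r)
  · exact hb q hq s (ha q hq r)

/-- Conjugation action of `N` on an invariant set of elements. -/
abbrev conjAction (N : Subgroup G) (S : G → Prop)
    (hS : ∀ n ∈ N, ∀ g, S g → S (n * g * n⁻¹)) : MulAction N {g : G // S g} where
  smul n g := ⟨n * g * (n : G)⁻¹, hS n n.2 g g.2⟩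
  one_smul g := Subtype.ext (show ((1 : N) : G) * g * ((1 : N) : G)⁻¹ = g by simp)
  mul_smul m n g := Subtype.ext (show ((m * n : N) : G) * g * ((m * n : N) : G)⁻¹ =
    m * (n * g * (n : G)⁻¹) * (m : G)⁻¹ by simp [mul_assoc])

omit [Finite G] in
theorem isPiEl_conj {g : G} (h : IsPiEl π g) (n : G) : IsPiEl π (n * g * n⁻¹) := by
  intro q hq hd
  refine h q hq ?_
  rwa [show n * g * n⁻¹ = MulAut.conj n g from rfl, MulEquiv.orderOf_eq] at hd

/-- Burnside's lemma for the conjugation action of `N` on an invariant set. -/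
theorem card_orbits_mul (N : Subgroup G) (S : G → Prop)
    (hS : ∀ n ∈ N, ∀ g, S g → S (n * g * n⁻¹)) :
    letI := conjAction N S hS
    Nat.card (MulAction.orbitRel.Quotient N {g : G // S g}) * Nat.card N =
      Nat.card {z : G × G // S z.1 ∧ z.2 ∈ N ∧ z.2 * z.1 = z.1 * z.2} := by
  letI := conjAction N S hS
  rw [← Nat.card_prod, ← Nat.card_congr (MulAction.sigmaFixedByEquivOrbitsProdGroup N {g : G // S g})]
  refine Nat.card_congr ⟨fun z => ⟨(z.2.1.1, z.1), z.2.1.2, z.1.2, ?_⟩,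
    fun z => ⟨⟨z.1.2, z.2.2.1⟩, ⟨⟨z.1.1, z.2.1⟩, ?_⟩⟩, fun z => rfl, fun z => rfl⟩
  · exact mul_inv_eq_iff_eq_mul.1 (congrArg Subtype.val z.2.2)
  · exact Subtype.ext (mul_inv_eq_iff_eq_mul.2 z.2.2.2)

variable (N : Subgroup G) [N.Normal]

/-- The `N`-orbits of `π`-elements in a coset of `N` are at most as many as in `N`. -/
theorem orbits_coset_le (x : G) :
    letI := conjAction N (fun y => x⁻¹ * y ∈ N ∧ IsPiEl π y)
      (fun n hn g hg => ⟨by
        rw [show x⁻¹ * (n * g * n⁻¹) = x⁻¹ * n * x * (x⁻¹ * g) * n⁻¹ by group]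
        exact N.mul_mem (N.mul_mem (Subgroup.Normal.conj_mem' inferInstance n hn x) hg.1)
          (N.inv_mem hn), isPiEl_conj π hg.2 n⟩)
    Nat.card (MulAction.orbitRel.Quotient N {y : G // x⁻¹ * y ∈ N ∧ IsPiEl π y}) ≤
      Nat.card {C : ConjClasses N //
        ∀ q : ℕ, q.Prime → (∃ g : N, ConjClasses.mk g = C ∧ q ∣ orderOf g) → q ∈ π} := by
  letI iY := conjAction N (fun y => x⁻¹ * y ∈ N ∧ IsPiEl π y)
      (fun n hn g hg => ⟨by
        rw [show x⁻¹ * (n * g * n⁻¹) = x⁻¹ * n * x * (x⁻¹ * g) * n⁻¹ by group]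
        exact N.mul_mem (N.mul_mem (Subgroup.Normal.conj_mem' inferInstance n hn x) hg.1)
          (N.inv_mem hn), isPiEl_conj π hg.2 n⟩)
  let SZ : G → Prop := fun g => g ∈ N ∧ IsPiEl π g
  have hSZ : ∀ n ∈ N, ∀ g, SZ g → SZ (n * g * n⁻¹) :=
    fun n hn g hg => ⟨N.mul_mem (N.mul_mem hn hg.1) (N.inv_mem hn), isPiEl_conj π hg.2 n⟩
  letI iZ := conjAction N SZ hSZ
  -- orbits inside `N` embed in the classes of `N`
  have hcl : Nat.card (MulAction.orbitRel.Quotient N {g : G // SZ g}) ≤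
      Nat.card {C : ConjClasses N //
        ∀ q : ℕ, q.Prime → (∃ g : N, ConjClasses.mk g = C ∧ q ∣ orderOf g) → q ∈ π} := by
    refine Nat.card_le_card_of_injective (fun o => ⟨ConjClasses.mk ⟨o.out.1, o.out.2.1⟩, ?_⟩) ?_
    · rintro q hq ⟨g, hg, hd⟩
      obtain ⟨c, hc⟩ := isConj_iff.1 (ConjClasses.mk_eq_mk_iff_isConj.1 hg)
      refine o.out.2.2 q hq ?_
      rw [← Subgroup.orderOf_mk o.out.1 o.out.2.1, ← hc,
        show c * g * c⁻¹ = MulAut.conj c g from rfl, MulEquiv.orderOf_eq]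
      exact hd
    · intro o o' h
      obtain ⟨c, hc⟩ := isConj_iff.1 (ConjClasses.mk_eq_mk_iff_isConj.1 (congrArg Subtype.val h))
      rw [← o.out_eq, ← o'.out_eq]
      refine (Quotient.sound ?_).symm
      exact ⟨c, Subtype.ext (show (c : G) * o.out.1 * (c : G)⁻¹ = o'.out.1 from congrArg Subtype.val hc)⟩
  refine le_trans ?_ hcl
  refine Nat.le_of_mul_le_mul_right ?_ (Nat.card_pos (α := N))
  rw [card_orbits_mul, card_orbits_mul]
  -- pairs on the coset inject into pairs `(π-element of N, commuting element of the coset)`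
  let W := {z : G × G // SZ z.1 ∧ x⁻¹ * z.2 ∈ N ∧ z.2 * z.1 = z.1 * z.2}
  have hW1 : Nat.card {z : G × G // (x⁻¹ * z.1 ∈ N ∧ IsPiEl π z.1) ∧ z.2 ∈ N ∧ z.2 * z.1 = z.1 * z.2} ≤
      Nat.card W := by
    choose P R hPR hP hR hPπ hRπ using fun c : G => exists_split π c
    have hPN : ∀ c ∈ N, P c ∈ N := fun c hc => Subgroup.zpowers_le.2 hc (hP c)
    have hRN : ∀ c ∈ N, R c ∈ N := fun c hc => Subgroup.zpowers_le.2 hc (hR c)
    have hcomm : ∀ c u : G, Commute u c → ∀ d ∈ Subgroup.zpowers c, Commute u d := by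
      rintro c u h _ ⟨i, rfl⟩
      exact h.zpow_right i
    refine Nat.card_le_card_of_injective (fun z => (⟨(P z.1.2, z.1.1 * R z.1.2),
      ⟨hPN _ z.2.2.1, hPπ _⟩, ?_, ?_⟩ : W)) ?_
    · rw [← mul_assoc]; exact N.mul_mem z.2.1.1 (hRN _ z.2.2.1)
    · have h1 : Commute (P z.1.2) z.1.1 := (hcomm _ _ (show Commute z.1.1 z.1.2 from z.2.2.2.symm) _ (hP _)).symm
      have h2 : Commute (P z.1.2) (R z.1.2) :=
        hcomm _ _ (hcomm _ _ (Commute.refl z.1.2) _ (hP _)).symm _ (hR _)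
      exact (h1.mul_right h2).symm
    · rintro ⟨⟨y, c⟩, hy, hc, hyc⟩ ⟨⟨y', c'⟩, hy', hc', hyc'⟩ h
      have e1 : P c = P c' := congrArg (fun w : W => w.1.1) h
      have e2 : y * R c = y' * R c' := congrArg (fun w : W => w.1.2) h
      obtain rfl : y = y' := split_unique π (hcomm _ _ hyc.symm _ (hR c))
        (hcomm _ _ hyc'.symm _ (hR c')) e2 hy.2 hy'.2 (hRπ c) (hRπ c')
      have e3 : c = c' := by rw [← hPR c, ← hPR c', e1, mul_left_cancel e2]
      subst e3; rfl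
  refine hW1.trans ?_
  have h0 : ∀ g : G, ∃ y : G, (∃ y', x⁻¹ * y' ∈ N ∧ y' * g = g * y') →
      x⁻¹ * y ∈ N ∧ y * g = g * y := fun g => by
    by_cases h : ∃ y', x⁻¹ * y' ∈ N ∧ y' * g = g * y'
    · obtain ⟨y, hy⟩ := h; exact ⟨y, fun _ => hy⟩
    · exact ⟨1, fun h' => absurd h' h⟩
  choose y₀ hy₀ using h0
  refine Nat.card_le_card_of_injective (fun z : W => ⟨(z.1.1, (y₀ z.1.1)⁻¹ * z.1.2), z.2.1, ?_, ?_⟩) ?_
  · have h := (hy₀ z.1.1 ⟨z.1.2, z.2.2⟩).1
    rw [show (y₀ z.1.1)⁻¹ * z.1.2 = (x⁻¹ * y₀ z.1.1)⁻¹ * (x⁻¹ * z.1.2) by group]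
    exact N.mul_mem (N.inv_mem h) z.2.2.1
  · have h : Commute (y₀ z.1.1) z.1.1 := (hy₀ z.1.1 ⟨z.1.2, z.2.2⟩).2
    exact (h.inv_left.mul_left z.2.2.2)
  · rintro ⟨⟨a, b⟩, hz⟩ ⟨⟨a', b'⟩, hz'⟩ h
    simp only [Subtype.mk.injEq, Prod.mk.injEq] at h
    obtain ⟨rfl, h2⟩ := h
    exact Subtype.ext (Prod.ext rfl (mul_left_cancel h2))

/-- Let G be a finite group, N a normal subgroup and π a set of primes. Then the number of conjugacy classes of π-elements of G (elements whose order is divisible only by primes in π) is at most the number of conjugacy classes of π-elements of N (under conjugation by N) times the number of conjugacy classes of π-elements of G/N. -/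
theorem result {G : Type*} [Group G] [Finite G] (N : Subgroup G) [N.Normal] (π : Set ℕ) :
    Nat.card {C : ConjClasses G // ∀ q : ℕ, q.Prime → (∃ g : G, ConjClasses.mk g = C ∧ q ∣ orderOf g) → q ∈ π} ≤ Nat.card {C : ConjClasses N // ∀ q : ℕ, q.Prime → (∃ g : N, ConjClasses.mk g = C ∧ q ∣ orderOf g) → q ∈ π} * Nat.card {C : ConjClasses (G ⧸ N) // ∀ q : ℕ, q.Prime → (∃ g : (G ⧸ N), ConjClasses.mk g = C ∧ q ∣ orderOf g) → q ∈ π} := by
  classical
  have hiff : ∀ (g : G) (C : ConjClasses G), ConjClasses.mk g = C →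
      ((∀ q : ℕ, q.Prime → (∃ h : G, ConjClasses.mk h = C ∧ q ∣ orderOf h) → q ∈ π) ↔ IsPiEl π g) := by
    intro g C hC
    refine ⟨fun h q hq hd => h q hq ⟨g, hC, hd⟩, fun h q hq ⟨u, hu, hd⟩ => ?_⟩
    obtain ⟨c, hc⟩ := isConj_iff.1 (ConjClasses.mk_eq_mk_iff_isConj.1 (hu.trans hC.symm))
    have h' := isPiEl_conj π h c⁻¹
    rw [← hc, show c⁻¹ * (c * u * c⁻¹) * c⁻¹⁻¹ = u by group] at h'
    exact h' q hq hd
  let A := {C : ConjClasses G // ∀ q : ℕ, q.Prime → (∃ g : G, ConjClasses.mk g = C ∧ q ∣ orderOf g) → q ∈ π}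
  let f : A → {C : ConjClasses (G ⧸ N) // ∀ q : ℕ, q.Prime →
      (∃ g : (G ⧸ N), ConjClasses.mk g = C ∧ q ∣ orderOf g) → q ∈ π} := fun C =>
    ⟨ConjClasses.mk ((C.1.out : G) : G ⧸ N), by
      rintro q hq ⟨g, hg, hd⟩
      obtain ⟨c, hc⟩ := isConj_iff.1 (ConjClasses.mk_eq_mk_iff_isConj.1 hg)
      refine (hiff _ _ (Quotient.out_eq C.1)).1 C.2 q hq
        (dvd_trans ?_ (orderOf_map_dvd (QuotientGroup.mk' N) _))
      rw [QuotientGroup.mk'_apply, ← hc, show c * g * c⁻¹ = MulAut.conj c g from rfl,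
        MulEquiv.orderOf_eq]
      exact hd⟩
  have := Fintype.ofFinite A
  have := Fintype.ofFinite {C : ConjClasses (G ⧸ N) // ∀ q : ℕ, q.Prime →
      (∃ g : (G ⧸ N), ConjClasses.mk g = C ∧ q ∣ orderOf g) → q ∈ π}
  rw [← Nat.card_congr (Equiv.sigmaFiberEquiv f), Nat.card_sigma]
  refine le_trans (Finset.sum_le_card_nsmul _ _ (Nat.card {C : ConjClasses N //
    ∀ q : ℕ, q.Prime → (∃ g : N, ConjClasses.mk g = C ∧ q ∣ orderOf g) → q ∈ π}) fun D _ => ?_)
    (by rw [smul_eq_mul, Finset.card_univ, ← Nat.card_eq_fintype_card, mul_comm])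
  obtain ⟨x, hx⟩ := QuotientGroup.mk_surjective D.1.out
  refine le_trans ?_ (orbits_coset_le π N x)
  letI iY := conjAction N (fun y => x⁻¹ * y ∈ N ∧ IsPiEl π y)
      (fun n hn g hg => ⟨by
        rw [show x⁻¹ * (n * g * n⁻¹) = x⁻¹ * n * x * (x⁻¹ * g) * n⁻¹ by group]
        exact N.mul_mem (N.mul_mem (Subgroup.Normal.conj_mem' inferInstance n hn x) hg.1)
          (N.inv_mem hn), isPiEl_conj π hg.2 n⟩)
  have hex : ∀ C : {C : A // f C = D}, ∃ y : {y : G // x⁻¹ * y ∈ N ∧ IsPiEl π y},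
      ConjClasses.mk (y : G) = C.1.1 := by
    intro C
    obtain ⟨c, hc⟩ := isConj_iff.1 (ConjClasses.mk_eq_mk_iff_isConj.1
      ((congrArg Subtype.val C.2).trans (Quotient.out_eq D.1).symm))
    obtain ⟨d, rfl⟩ := QuotientGroup.mk_surjective c
    refine ⟨⟨d * C.1.1.out * d⁻¹, QuotientGroup.eq.1 ?_,
      isPiEl_conj π ((hiff _ _ (Quotient.out_eq C.1.1)).1 C.1.2) d⟩, ?_⟩
    · rw [hx, ← hc]; rfl
    · exact (ConjClasses.mk_eq_mk_iff_isConj.2 (isConj_iff.2 ⟨d, rfl⟩)).symm.trans (Quotient.out_eq C.1.1)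
  choose y hy using hex
  refine Nat.card_le_card_of_injective (fun C => Quotient.mk'' (y C)) fun C C' h => ?_
  obtain ⟨n, hn⟩ := Quotient.exact' h
  refine Subtype.ext (Subtype.ext ?_)
  rw [← hy C, ← hy C']
  refine ConjClasses.mk_eq_mk_iff_isConj.2 (isConj_iff.2 ⟨(n : G)⁻¹, ?_⟩)
  rw [show (y C : G) = (n : G) * (y C' : G) * (n : G)⁻¹ from (congrArg Subtype.val hn).symm]
  group

end Cfsg.Agent.S4152
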