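import Cfsg.Statements.S4153
import Cfsg.Agent.FGSB.Small

set_option autoImplicit false
open Cfsg

namespace Cfsg.Agent.S4153

/-- Let G be a finite group, p a prime, N a normal subgroup, P a Sylow p-subgroup of G and P̄ a Sylow p-subgroup of G/N. Count the elements of p-power order, the identity included. Then (number of such elements of G/N)/#P̄ ≤ (number of such elements of G)/#P, stated as a cross-multiplied inequality, with equality when N is central. -/
theorem result {G : Type*} [Group G] [Finite G] (p : ℕ) [Fact p.Prime] (N : Subgroup G) [N.Normal]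
    (P : Sylow p G) (Pbar : Sylow p (G ⧸ N)) :
    Nat.card {g : (G ⧸ N) // ∃ k : ℕ, orderOf g = p ^ k} * Nat.card (P : Subgroup G) ≤ Nat.card {g : G // ∃ k : ℕ, orderOf g = p ^ k} * Nat.card (Pbar : Subgroup (G ⧸ N)) ∧
    (N ≤ Subgroup.center G → Nat.card {g : (G ⧸ N) // ∃ k : ℕ, orderOf g = p ^ k} * Nat.card (P : Subgroup G) = Nat.card {g : G // ∃ k : ℕ, orderOf g = p ^ k} * Nat.card (Pbar : Subgroup (G ⧸ N))) := by
  classical
  have hp := (Fact.out : p.Prime)
  set f := QuotientGroup.mk' N with hf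
  have hsurj : Function.Surjective f := QuotientGroup.mk'_surjective N
  -- all Sylow subgroups meet `N` in subgroups of the same order `c`
  have hsplit : ∀ R : Sylow p G, Nat.card (R : Subgroup G) =
      Nat.card (Pbar : Subgroup (G ⧸ N)) * Nat.card ↥((R : Subgroup G) ⊓ N) := by
    intro R
    have h1 : Nat.card ((R : Subgroup G).map f) = Nat.card (Pbar : Subgroup (G ⧸ N)) := by
      rw [← Sylow.coe_mapSurjective hsurj, Sylow.card_eq_multiplicity, Pbar.card_eq_multiplicity]
    rw [← h1]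
    let φ := f.subgroupMap (R : Subgroup G)
    rw [← φ.ker.index_mul_card, Subgroup.index_ker]
    congr 1
    · rw [MonoidHom.range_eq_top.2 (f.subgroupMap_surjective _), Subgroup.card_top]
    · refine Nat.card_congr
        { toFun := fun r => ⟨(r : (R : Subgroup G)), ⟨r.1.2, ?_⟩⟩
          invFun := fun r => ⟨⟨r, r.2.1⟩, ?_⟩
          left_inv := fun r => rfl
          right_inv := fun r => rfl }
      · exact (QuotientGroup.eq_one_iff _).1 (congrArg Subtype.val (MonoidHom.mem_ker.1 r.2))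
      · exact MonoidHom.mem_ker.2 (Subtype.ext ((QuotientGroup.eq_one_iff _).2 r.2.2))
  set c := Nat.card ↥((P : Subgroup G) ⊓ N) with hc
  have hPb0 : 0 < Nat.card (Pbar : Subgroup (G ⧸ N)) := Nat.card_pos
  have hcR : ∀ R : Sylow p G, Nat.card ↥((R : Subgroup G) ⊓ N) = c := fun R =>
    Nat.eq_of_mul_eq_mul_left hPb0 (by rw [← hsplit, ← hsplit, R.card_eq_multiplicity, P.card_eq_multiplicity])
  let A := {g : G // ∃ k : ℕ, orderOf g = p ^ k}
  let B := {g : (G ⧸ N) // ∃ k : ℕ, orderOf g = p ^ k}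
  let π : A → B := fun a => ⟨f a, by
    obtain ⟨k, hk⟩ := a.2
    obtain ⟨j, -, hj⟩ := (Nat.dvd_prime_pow hp).1 (hk ▸ orderOf_map_dvd f a.1)
    exact ⟨j, hj⟩⟩
  have hmem : ∀ (R : Sylow p G) (y : G), y ∈ (R : Subgroup G) → ∃ k, orderOf y = p ^ k := fun R y hy => by
    obtain ⟨k, hk⟩ := IsPGroup.iff_orderOf.1 R.isPGroup' ⟨y, hy⟩
    exact ⟨k, by rwa [Subgroup.orderOf_mk] at hk⟩
  have hlift : ∀ b : B, ∃ (R : Sylow p G) (x : G), x ∈ (R : Subgroup G) ∧ f x = b := by
    intro b
    obtain ⟨x, hx, hxp⟩ := CfsgLib.FGSBSmall.exists_pi_lift N (fun r => r = p) b.1 (by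
      obtain ⟨k, hk⟩ := b.2
      intro r hr hd
      exact (Nat.prime_dvd_prime_iff_eq hr hp).1 (hr.dvd_of_dvd_pow (hk ▸ hd)))
    obtain ⟨e, he⟩ : ∃ e, orderOf x = p ^ e :=
      ⟨_, Nat.eq_prime_pow_of_unique_prime_dvd (orderOf_pos x).ne' fun {d} hd hdx => hxp d hd hdx⟩
    obtain ⟨R, hR⟩ := (IsPGroup.of_card (p := p) (G := Subgroup.zpowers x) (n := e)
      (by rw [Nat.card_zpowers, he])).exists_le_sylow
    exact ⟨R, x, hR (Subgroup.mem_zpowers x), hx⟩
  choose R x hxR hxb using hlift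
  let σ : (Σ b : B, ↥((R b : Subgroup G) ⊓ N)) → A := fun z =>
    ⟨x z.1 * z.2, hmem (R z.1) _ (Subgroup.mul_mem _ (hxR z.1) z.2.2.1)⟩
  have hπσ : ∀ z, π (σ z) = z.1 := fun z => Subtype.ext (by
    show f (x z.1 * z.2) = z.1
    rw [map_mul, hxb, show f (z.2 : G) = 1 from (QuotientGroup.eq_one_iff _).2 z.2.2.2, mul_one])
  have hσ : Function.Injective σ := by
    intro u v h
    have h1 : u.1 = v.1 := by rw [← hπσ u, ← hπσ v, h]
    obtain ⟨b, r⟩ := u
    obtain ⟨b', r'⟩ := v
    simp only at h1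
    subst h1
    have h2 : x b * (r : G) = x b * (r' : G) := congrArg Subtype.val h
    exact congrArg (Sigma.mk b) (Subtype.ext (mul_left_cancel h2))
  have hcount : Nat.card (Σ b : B, ↥((R b : Subgroup G) ⊓ N)) = Nat.card B * c := by
    have := Fintype.ofFinite B
    rw [Nat.card_sigma, Finset.sum_congr rfl (fun b _ => hcR (R b)), Finset.sum_const,
      Finset.card_univ, smul_eq_mul, Nat.card_eq_fintype_card]
  have hP := hsplit P
  refine ⟨?_, fun hcen => ?_⟩
  · have hle := Nat.card_le_card_of_injective σ hσ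
    rw [hcount] at hle
    show Nat.card B * _ ≤ Nat.card A * _
    rw [hP, ← hc]
    calc Nat.card B * (Nat.card (Pbar : Subgroup (G ⧸ N)) * c)
        = Nat.card B * c * Nat.card (Pbar : Subgroup (G ⧸ N)) := by ring
      _ ≤ _ := Nat.mul_le_mul_right _ hle
  · have hσs : Function.Surjective σ := by
      intro a
      have hn : (x (π a))⁻¹ * a.1 ∈ N := QuotientGroup.eq.1 (hxb (π a))
      set n := (x (π a))⁻¹ * a.1 with hndef
      obtain ⟨k, hk⟩ := a.2
      obtain ⟨j, hj⟩ := hmem (R (π a)) _ (hxR (π a))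
      have hnp : n ^ p ^ (j + k) = 1 := by
        have hco : Commute (x (π a))⁻¹ a.1 := by
          have h1 : Commute (x (π a))⁻¹ n := Subgroup.mem_center_iff.1 (hcen hn) _
          have h2 : a.1 = x (π a) * n := by rw [hndef]; group
          rw [h2]
          exact ((Commute.refl (x (π a))).inv_left).mul_right h1
        rw [hndef, hco.mul_pow, pow_add, pow_mul, inv_pow, ← hj, pow_orderOf_eq_one, inv_one,
          one_pow, one_mul, mul_comm, pow_mul, ← hk, pow_orderOf_eq_one, one_pow]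
      have hp' : IsPGroup p (Subgroup.zpowers n) := by
        obtain ⟨i, -, hi⟩ := (Nat.dvd_prime_pow hp).1 (orderOf_dvd_of_pow_eq_one hnp)
        exact IsPGroup.of_card (n := i) (by rw [Nat.card_zpowers, hi])
      have : (Subgroup.zpowers n).Normal := ⟨fun w hw g => by
        have hwc : w ∈ Subgroup.center G := Subgroup.zpowers_le.2 (hcen hn) hw
        rw [Subgroup.mem_center_iff.1 hwc g, mul_inv_cancel_right]; exact hw⟩
      have hnR : n ∈ (R (π a) : Subgroup G) := by
        rw [← (R (π a)).3 (IsPGroup.to_sup_of_normal_left hp' (R (π a)).isPGroup') le_sup_right]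
        exact Subgroup.mem_sup_left (Subgroup.mem_zpowers n)
      exact ⟨⟨π a, n, hnR, hn⟩, Subtype.ext (by show x (π a) * n = a.1; rw [hndef]; group)⟩
    have heq := Nat.card_eq_of_bijective σ ⟨hσ, hσs⟩
    rw [hcount] at heq
    show Nat.card B * _ = Nat.card A * _
    rw [hP, ← hc, ← heq]
    ring

end Cfsg.Agent.S4153
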