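import Cfsg.Statements.S4154
import Mathlib.GroupTheory.QuotientGroup.Basic

set_option autoImplicit false
open Cfsg

namespace Cfsg.Agent.S4154

/-- Let G be a finite group and α an automorphism of G such that every element of G is the product of an element fixed by α and an element of the form g⁻¹α(g). If N is a normal α-invariant subgroup, then the automorphism ᾱ induced on G/N has the same property, and every coset fixed by ᾱ contains an element fixed by α (so the fixed points of ᾱ are the images of the fixed points of α). -/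
theorem result {G : Type*} [Group G] [Finite G] (α : MulAut G)
    (hccp : ∀ x : G, ∃ c g : G, α c = c ∧ x = c * (g⁻¹ * α g))
    (N : Subgroup G) [N.Normal] (hN : ∀ n ∈ N, α n ∈ N) :
    (∀ x : G, ∃ c g : G, c⁻¹ * α c ∈ N ∧ x⁻¹ * (c * (g⁻¹ * α g)) ∈ N) ∧
    (∀ x : G, x⁻¹ * α x ∈ N → ∃ c : G, α c = c ∧ c⁻¹ * x ∈ N) := by
  classical
  refine ⟨fun x => ?_, fun x hx => ?_⟩
  · obtain ⟨c, g, hc, rfl⟩ := hccp x
    exact ⟨c, g, by rw [hc, inv_mul_cancel]; exact N.one_mem, by rw [inv_mul_cancel]; exact N.one_mem⟩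
  -- uniqueness of the decomposition, by counting
  let F := {c : G // α c = c}
  let D : Set G := Set.range fun g : G => g⁻¹ * α g
  have hαN : ∀ y, y ∈ N → α y ∈ N := hN
  let β : G ⧸ N →* G ⧸ N := QuotientGroup.map N N α.toMonoidHom fun y hy => hαN y hy
  have hβ : ∀ y : G, β (y : G ⧸ N) = (α y : G ⧸ N) := fun y => rfl
  let F' := {c : G ⧸ N // β c = c}
  let D' : Set (G ⧸ N) := Set.range fun q : G ⧸ N => q⁻¹ * β q
  -- `|F'| |D'| = |G / N|`
  have hfib : Nat.card F' * Nat.card D' = Nat.card (G ⧸ N) := by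
    let K : Subgroup (G ⧸ N) :=
      { carrier := {c | β c = c}
        mul_mem' := fun {a b} (ha : β a = a) (hb : β b = b) => by
          show β (a * b) = a * b
          rw [map_mul, ha, hb]
        one_mem' := map_one β
        inv_mem' := fun {a} (ha : β a = a) => by
          show β a⁻¹ = a⁻¹
          rw [map_inv, ha] }
    have hK : ∀ a b : G ⧸ N, a⁻¹ * β a = b⁻¹ * β b ↔
        (QuotientGroup.rightRel K) a b := by
      intro a b
      rw [QuotientGroup.rightRel_apply]
      show _ ↔ β (b * a⁻¹) = b * a⁻¹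
      rw [map_mul, map_inv, mul_inv_eq_iff_eq_mul, inv_mul_eq_iff_eq_mul]
      constructor
      · intro h; rw [h]; group
      · intro h; rw [h]; group
    have h1 : Nat.card D' = Nat.card (Quotient (QuotientGroup.rightRel K)) := by
      refine (Nat.card_congr (Equiv.ofBijective
        (Quotient.lift (fun q => (⟨q⁻¹ * β q, q, rfl⟩ : D')) fun a b h => Subtype.ext ((hK a b).2 h)) ⟨?_, ?_⟩)).symm
      · rintro ⟨a⟩ ⟨b⟩ h
        exact Quotient.sound ((hK a b).1 (congrArg Subtype.val h))
      · rintro ⟨_, q, rfl⟩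
        exact ⟨⟦q⟧, rfl⟩
    rw [h1, Nat.card_congr (QuotientGroup.quotientRightRelEquivQuotientLeftRel K)]
    exact K.card_mul_index
  -- the images of fixed points times `D'` cover `G / N`
  let I : Set (G ⧸ N) := Set.range fun c : F => (c.1 : G ⧸ N)
  have hcov : Function.Surjective fun z : I × D' => z.1.1 * z.2.1 := by
    intro q
    obtain ⟨y, rfl⟩ := QuotientGroup.mk_surjective q
    obtain ⟨c, g, hc, rfl⟩ := hccp y
    exact ⟨(⟨_, ⟨c, hc⟩, rfl⟩, ⟨_, (g : G ⧸ N), rfl⟩), rfl⟩
  have hle := Nat.card_le_card_of_surjective _ hcov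
  rw [Nat.card_prod, ← hfib] at hle
  have hsub : I ⊆ {c | β c = c} := by
    rintro _ ⟨c, rfl⟩
    show β _ = _
    rw [hβ, c.2]
  have hD0 : 0 < Nat.card D' := by
    have : Nonempty D' := ⟨⟨_, 1, rfl⟩⟩
    exact Nat.card_pos
  have heq : I = {c | β c = c} :=
    Set.eq_of_subset_of_ncard_le hsub (by
      rw [← Nat.card_coe_set_eq, ← Nat.card_coe_set_eq]
      exact Nat.le_of_mul_le_mul_right hle hD0) (Set.toFinite _)
  have hxf : (x : G ⧸ N) ∈ I := by
    rw [heq]
    show β _ = _
    rw [hβ]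
    exact (QuotientGroup.eq.2 hx).symm
  obtain ⟨c, hc⟩ := hxf
  exact ⟨c.1, c.2, QuotientGroup.eq.1 hc⟩

end Cfsg.Agent.S4154
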