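import Cfsg.Statements.S4155
import Cfsg.Agent.FGSB.EqualOrderCosets

set_option autoImplicit false
open Cfsg

namespace Cfsg.Agent.S4155

/-- Let G be a finite group and N a proper non-trivial normal nilpotent subgroup whose order is not a prime power, such that for every x outside N all elements of the coset xN have the same order as x. Then N is the Fitting subgroup of G, and for every prime q every Sylow q-subgroup of G/N is cyclic or generalized quaternion. -/
theorem result {G : Type*} [Group G] [Finite G] (N : Subgroup G) [N.Normal] (hN1 : N ≠ ⊥) (hN2 : N ≠ ⊤)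
    (heq : ∀ x : G, x ∉ N → ∀ n ∈ N, orderOf (x * n) = orderOf x)
    (hnil : Group.IsNilpotent N) (hnpp : ¬ IsPrimePow (Nat.card N)) :
    N = Cfsg.fittingSubgroup G ∧
    ∀ (q : ℕ) [Fact q.Prime] (Q : Sylow q (G ⧸ N)), IsCyclic (Q : Subgroup (G ⧸ N)) ∨ ∃ n : ℕ, Nonempty ((Q : Subgroup (G ⧸ N)) ≃* QuaternionGroup (2 ^ n)) := by
  classical
  have hNF : N ≤ Cfsg.fittingSubgroup G := CfsgLib.Solvable.le_fittingSubgroup inferInstance hnil
  refine ⟨?_, ?_⟩
  · by_contra hne
    have hpp := (CfsgLib.EqualOrder.fitting_dichotomy hN1 heq).2 (lt_of_le_of_ne hNF hne)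
    exact hnpp (hpp.dvd (Subgroup.card_dvd_of_le hNF) fun e => hN1 (Subgroup.card_eq_one.1 e))
  intro q _ Q
  refine (CfsgLib.UniqueInvol.cyclic_or_quaternion Q.2 fun x y hx hy => ?_).imp id ?_
  swap
  · rintro ⟨-, n, -, hn⟩
    exact ⟨n, hn⟩
  -- every element of order q lies in a fixed central subgroup of order q
  haveI : Nontrivial (Q : Subgroup (G ⧸ N)) := ⟨⟨x, 1, fun e => by
    rw [e, orderOf_one] at hx
    exact (Fact.out : q.Prime).ne_one hx.symm⟩⟩
  haveI := Q.2.center_nontrivial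
  obtain ⟨z, hz⟩ : ∃ z : Subgroup.center (Q : Subgroup (G ⧸ N)), orderOf z = q := by
    obtain ⟨k, hk⟩ := (Q.2.to_subgroup (Subgroup.center (Q : Subgroup (G ⧸ N)))).exists_card_eq
    refine exists_prime_orderOf_dvd_card' q ?_
    rcases k with _ | k
    · rw [pow_zero] at hk
      exact absurd hk Finite.one_lt_card.ne'
    · exact hk ▸ dvd_pow_self q k.succ_ne_zero
  have hzo : orderOf ((z : (Q : Subgroup (G ⧸ N))) : G ⧸ N) = q := by
    rw [Subgroup.orderOf_coe, Subgroup.orderOf_coe, hz]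
  have key : ∀ u : (Q : Subgroup (G ⧸ N)), orderOf u = q →
      u ∈ Subgroup.zpowers (z : (Q : Subgroup (G ⧸ N))) := by
    intro u hu
    obtain ⟨i, hi⟩ := Subgroup.mem_zpowers_iff.1 (CfsgLib.EqualOrder.mem_zpowers_of_commute heq hnil hnpp hN1
      (y := (u : G ⧸ N)) (z := ((z : (Q : Subgroup (G ⧸ N))) : G ⧸ N))
      (by rw [Subgroup.orderOf_coe, hu]) hzo
      (congrArg Subtype.val (Subgroup.mem_center_iff.1 z.2 u)).symm)
    exact Subgroup.mem_zpowers_iff.2 ⟨i, Subtype.ext hi⟩
  have hxz : Subgroup.zpowers x = Subgroup.zpowers (z : (Q : Subgroup (G ⧸ N))) := by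
    refine Subgroup.eq_of_le_of_card_ge (Subgroup.zpowers_le.2 (key x hx)) (le_of_eq ?_)
    rw [Nat.card_zpowers, Nat.card_zpowers, hx, Subgroup.orderOf_coe, hz]
  rw [hxz]
  exact key y hy

end Cfsg.Agent.S4155
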