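import Cfsg.Statements.S4157
import Cfsg.Agent.FGSB.KulakoffTwo

set_option autoImplicit false
open Cfsg

namespace Cfsg.Agent.S4157

open Subgroup CfsgLib.KulakoffSharp

universe v

/-- The groups in which the count is `1` instead of `1 + p`. -/
def Low (p m k : ℕ) (G : Type v) [Group G] : Prop :=
  IsCyclic G ∨ (p = 2 ∧ (commutator G).index = 4 ∧ k + 1 < m)

theorem count_cyclic {G : Type v} [Group G] [Finite G] (hc : IsCyclic G) {p m k : ℕ} [hp : Fact p.Prime]
    (hm : Nat.card G = p ^ m) (hk : k ≤ m) : Nat.card {H : Subgroup G // Nat.card H = p ^ k} = 1 := by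
  obtain ⟨c, hc'⟩ := isCyclic_iff_exists_zpowers_eq_top.1 hc
  have hoc : orderOf c = p ^ m := by rw [← Nat.card_zpowers, hc', card_top, hm]
  have h0 : orderOf (c ^ p ^ (m - k)) = p ^ k := by
    rw [orderOf_pow_of_dvd (pow_ne_zero _ hp.out.ne_zero) (hoc ▸ pow_dvd_pow p (Nat.sub_le m k)), hoc,
      Nat.pow_div (Nat.sub_le m k) hp.out.pos]
    congr 1; omega
  have key : ∀ H : {H : Subgroup G // Nat.card H = p ^ k}, H.1 = zpowers (c ^ p ^ (m - k)) := by
    intro H
    refine eq_of_le_of_card_ge (fun x hx => ?_) (by rw [Nat.card_zpowers, h0, H.2])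
    have hxc : x ∈ zpowers c := hc'.symm ▸ mem_top x
    obtain ⟨i, rfl⟩ := mem_powers_iff_mem_zpowers.2 hxc
    have h1 : orderOf c ∣ i * p ^ k := by
      rw [orderOf_dvd_iff_pow_eq_one, pow_mul]
      exact orderOf_dvd_iff_pow_eq_one.1 (H.2 ▸ Subgroup.orderOf_dvd_natCard H.1 hx)
    rw [hoc, ← Nat.sub_add_cancel hk, pow_add] at h1
    obtain ⟨j, rfl⟩ := (mul_dvd_mul_iff_right (pow_ne_zero k hp.out.ne_zero)).1 h1
    exact mem_zpowers_iff.2 ⟨j, by rw [zpow_natCast, ← pow_mul]⟩
  exact Nat.card_eq_one_iff_unique.2 ⟨⟨fun a b => Subtype.ext ((key a).trans (key b).symm)⟩,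
    ⟨⟨_, (Nat.card_zpowers _).trans h0⟩⟩⟩

/-- For odd `p` the number of cyclic maximal subgroups is divisible by `p`. -/
theorem odd_cyclic {G : Type v} [Group G] [Finite G] {p m : ℕ} [hp : Fact p.Prime] (hp2 : p ≠ 2)
    (hm : Nat.card G = p ^ m) (hm3 : 3 ≤ m) (hnc : ¬ IsCyclic G) :
    p ∣ Nat.card {M : Subgroup G // M.index = p ∧ IsCyclic M} := by
  obtain ⟨P⟩ : Nonempty (Sylow p G) := inferInstance
  have hPtop : (P : Subgroup G) = ⊤ := eq_top_of_card_eq _ (by
    rw [P.card_eq_multiplicity, hm, hp.out.factorization_pow, Finsupp.single_eq_same])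
  have hP : ¬ IsCyclic (P : Subgroup G) := by
    rw [hPtop]
    exact fun h => hnc (Subgroup.topEquiv.isCyclic.1 h)
  have h1 := CfsgLib.CyclicCount.dvd_card_orderOf hp2 P hP (m - 1) 1 (by omega) (Nat.coprime_one_right p)
  rw [mul_one] at h1
  have h2 := CfsgLib.CyclicCount.count (⊤ : Subgroup G) (n := p ^ (m - 1)) (pow_pos hp.out.pos _)
  have e1 : {x : G // x ∈ (⊤ : Subgroup G) ∧ orderOf x = p ^ (m - 1)} ≃ {g : G // orderOf g = p ^ (m - 1)} :=
    Equiv.subtypeEquivRight fun x => and_iff_right (mem_top x)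
  have e2 : {C : CfsgLib.CyclicCount.Cyc G (p ^ (m - 1)) // C.1 ≤ ⊤} ≃ {M : Subgroup G // M.index = p ∧ IsCyclic M} :=
    (Equiv.subtypeUnivEquiv fun C => le_top).trans (Equiv.subtypeEquivRight fun M => by
      have h3 := card_mul_index M
      rw [hm, show m = m - 1 + 1 by omega, pow_succ] at h3
      constructor
      · rintro ⟨hc, hM⟩
        rw [hM] at h3
        exact ⟨Nat.eq_of_mul_eq_mul_left (pow_pos hp.out.pos _) h3, hc⟩
      · rintro ⟨hM, hc⟩
        rw [hM] at h3
        exact ⟨hc, Nat.eq_of_mul_eq_mul_right hp.out.pos h3⟩)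
  rw [Nat.card_congr e1, Nat.card_congr e2, Nat.totient_prime_pow hp.out (by omega)] at h2
  rw [h2, show m - 1 = m - 1 - 1 + 1 by omega, pow_succ] at h1
  simp only [Nat.add_sub_cancel] at h1
  set N := Nat.card {M : Subgroup G // M.index = p ∧ IsCyclic M}
  rw [show N * (p ^ (m - 1 - 1) * (p - 1)) = p ^ (m - 1 - 1) * (N * (p - 1)) by ring] at h1
  have h4 := (mul_dvd_mul_iff_left (pow_ne_zero _ hp.out.ne_zero)).1 h1
  exact ((Nat.coprime_self_sub_right hp.out.one_le).2 (Nat.coprime_one_right p)).dvd_of_dvd_mul_right h4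

open scoped Classical in
theorem main (p : ℕ) [hp : Fact p.Prime] : ∀ (m : ℕ) (G : Type v) [Group G] [Finite G], Nat.card G = p ^ m →
    ∀ k, 1 ≤ k → k < m →
      (Nat.card {H : Subgroup G // Nat.card H = p ^ k} : ZMod (p ^ 2)) = if Low p m k G then 1 else 1 + (p : ZMod (p ^ 2)) := by
  intro m
  induction m with
  | zero => intro G _ _ _ k _ hk; omega
  | succ m IH =>
  intro G _ _ hm k hk1 hk2
  have hG : IsPGroup p G := IsPGroup.of_card hm
  by_cases hc : IsCyclic G
  · rw [if_pos (show Low p (m + 1) k G from Or.inl hc), count_cyclic hc hm hk2.le, Nat.cast_one]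
  have hLow : Low p (m + 1) k G ↔ (p = 2 ∧ (commutator G).index = 4 ∧ k + 1 < m + 1) := or_iff_right hc
  rcases Nat.lt_or_ge (k + 1) (m + 1) with hkm | hkm
  swap
  · -- maximal subgroups
    obtain rfl : k = m := by omega
    rw [if_neg (fun h => absurd (hLow.1 h).2.2 (lt_irrefl _)),
      Nat.card_congr (Equiv.subtypeEquivRight (q := fun M : Subgroup G => M.index = p) fun M => ?_)]
    · exact cast_card_maximal hG hc
    · have h := card_mul_index M
      rw [hm, pow_succ] at h
      constructor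
      · intro e; rw [e] at h; exact Nat.eq_of_mul_eq_mul_left (pow_pos hp.out.pos _) h
      · intro e; rw [e] at h; exact Nat.eq_of_mul_eq_mul_right hp.out.pos h
  haveI : Fintype {M : Subgroup G // M.index = p} := Fintype.ofFinite _
  have hid := identity hG hc hm hkm
  have hval : ∀ M : {M : Subgroup G // M.index = p},
      (Nat.card {K : Subgroup M.1 // Nat.card K = p ^ k} : ZMod (p ^ 2)) =
        (1 + (p : ZMod (p ^ 2))) - (p : ZMod (p ^ 2)) * (if Low p m k M.1 then 1 else 0) := by
    intro M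
    have hcard : Nat.card M.1 = p ^ m := by
      have h := card_mul_index M.1
      rw [M.2, hm, pow_succ] at h
      exact Nat.eq_of_mul_eq_mul_right hp.out.pos h
    rw [IH M.1 hcard k hk1 (by omega)]
    split_ifs <;> ring
  rw [Finset.sum_congr rfl fun M _ => hval M, Finset.sum_sub_distrib, Finset.sum_const, Finset.card_univ,
    ← Finset.mul_sum, Finset.sum_boole, ← Fintype.card_subtype, nsmul_eq_mul, ← Nat.card_eq_fintype_card,
    ← Nat.card_eq_fintype_card, cast_card_maximal hG hc,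
    Nat.card_congr (Equiv.subtypeSubtypeEquivSubtypeInter (fun M : Subgroup G => M.index = p) (fun M => Low p m k M))] at hid
  set b := Nat.card {M : Subgroup G // M.index = p ∧ Low p m k M}
  set S := (Nat.card {K : Subgroup G // Nat.card K = p ^ k} : ZMod (p ^ 2))
  have hpp : (p : ZMod (p ^ 2)) * p = 0 := by rw [← Nat.cast_mul, ← pow_two, ZMod.natCast_self]
  have hmain : S = 1 + p - (p : ZMod (p ^ 2)) * b := by linear_combination hid + hpp
  have hzero : p ∣ b → (p : ZMod (p ^ 2)) * b = 0 := by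
    rintro ⟨t, ht⟩
    rw [ht, Nat.cast_mul, ← mul_assoc, hpp, zero_mul]
  by_cases hp2 : p = 2
  swap
  · rw [if_neg (fun h => hp2 (hLow.1 h).1), hmain, hzero, sub_zero]
    have e : b = Nat.card {M : Subgroup G // M.index = p ∧ IsCyclic M} :=
      Nat.card_congr (Equiv.subtypeEquivRight fun M => and_congr_right fun _ => or_iff_left fun h => hp2 h.1)
    exact e ▸ odd_cyclic hp2 hm (by omega) hc
  subst hp2
  have hpar : ((commutator G).index ≠ 4 → Even b) ∧ ((commutator G).index = 4 → Odd b) := by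
    rcases Nat.lt_or_ge (k + 1) m with h | h
    · have e : b = Nat.card {M : Subgroup G // M.index = 2 ∧ Bad2 M} :=
        Nat.card_congr (Equiv.subtypeEquivRight fun M => and_congr_right fun _ =>
          ⟨fun hl => hl.imp id fun hl => hl.2.1, fun hl => hl.imp id fun hl => ⟨rfl, hl, h⟩⟩)
      exact e ▸ parity_bad hm (by omega) hc
    · have e : b = Nat.card {M : Subgroup G // M.index = 2 ∧ IsCyclic M} :=
        Nat.card_congr (Equiv.subtypeEquivRight fun M => and_congr_right fun _ =>
          or_iff_left fun hl => absurd hl.2.2 (not_lt.2 h))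
      exact e ▸ parity_cyclic hm (by omega) hc
  by_cases h4 : (commutator G).index = 4
  · obtain ⟨t, ht⟩ := hpar.2 h4
    rw [if_pos (hLow.2 ⟨rfl, h4, hkm⟩), hmain, ht]
    push_cast at hpp ⊢
    linear_combination (-(t : ZMod (2 ^ 2))) * hpp
  · rw [if_neg (fun h => h4 (hLow.1 h).2.1), hmain, hzero (even_iff_two_dvd.1 (hpar.1 h4)), sub_zero]

/-- Let G be a finite p-group of order p^m that is not cyclic and, when p = 2, not of maximal class (nilpotency class m − 1). Then for every 1 ≤ k < m the number of subgroups of G of order p^k is congruent to 1 + p modulo p². -/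
theorem result {G : Type*} [Group G] [Finite G] {p : ℕ} [Fact p.Prime] (m : ℕ)
    (hG : Nat.card G = p ^ m) (hnc : ¬ IsCyclic G) (h2 : p = 2 → Group.nilpotencyClass G ≠ m - 1)
    (k : ℕ) (hk1 : 1 ≤ k) (hk2 : k < m) :
    Nat.card {H : Subgroup G // Nat.card H = p ^ k} ≡ 1 + p [MOD p ^ 2] := by
  classical
  have h := main p m G hG k hk1 hk2
  rw [if_neg] at h
  · exact (ZMod.natCast_eq_natCast_iff _ _ _).1 (by rw [h]; push_cast; rfl)
  · rintro (hc | ⟨rfl, h4, hlt⟩)
    · exact hnc hc
    · exact h2 rfl (CfsgLib.MaximalClass.class_of_index_commutator m (by omega) hG h4)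

end Cfsg.Agent.S4157
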