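import Cfsg.Statements.S4168
import Mathlib.GroupTheory.Transfer
import Mathlib.GroupTheory.IsPerfect

set_option autoImplicit false
open Cfsg

namespace Cfsg.Agent.S4168

/-- Let L be a finite quasisimple group (perfect with L/Z(L) simple). Then every prime dividing the order of the centre Z(L) also divides the order of L/Z(L). -/
theorem result {L : Type*} [Group L] [Finite L] (hL : Cfsg.IsQuasisimple L)
    (p : ℕ) (hp : p.Prime) (hdiv : p ∣ Nat.card (Subgroup.center L)) : p ∣ (Subgroup.center L).index := by
  have := Fact.mk hp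
  by_contra hnd
  obtain ⟨hperf, hsimple⟩ := hL
  obtain ⟨P⟩ := (inferInstance : Nonempty (Sylow p L))
  set Z := Subgroup.center L
  have hle : (P : Subgroup L) ≤ Z := by
    intro y hy
    rw [← QuotientGroup.eq_one_iff, ← orderOf_eq_one_iff]
    obtain ⟨k, hk⟩ := IsPGroup.iff_orderOf.1 P.isPGroup' ⟨y, hy⟩
    rw [Subgroup.orderOf_mk] at hk
    exact Nat.eq_one_of_dvd_coprimes ((hp.coprime_iff_not_dvd.2 hnd).pow_left k)
      (hk ▸ orderOf_map_dvd (QuotientGroup.mk' Z) y) (orderOf_dvd_natCard _)
  have hN : Subgroup.normalizer ((P : Subgroup L) : Set L) ≤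
      Subgroup.centralizer ((P : Subgroup L) : Set L) := fun w _ =>
    Subgroup.mem_centralizer_iff.2 fun y hy => (Subgroup.mem_center_iff.1 (hle hy) w).symm
  have hnd' : ¬ p ∣ Nat.card (MonoidHom.transferSylow P hN).ker :=
    MonoidHom.not_dvd_card_ker_transferSylow P hN
  have hcompl := MonoidHom.ker_transferSylow_isComplement' P hN
  apply hnd'
  have htop : (MonoidHom.transferSylow P hN).ker = ⊤ := by
    rw [eq_top_iff]
    calc (⊤ : Subgroup L) = commutator L := hperf.commutator_eq_top.symm
      _ ≤ _ := (Subgroup.Normal.quotient_commutative_iff_commutator_le).1 ⟨⟨fun a b => by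
          apply hcompl.symm.QuotientMulEquiv.injective
          rw [map_mul, map_mul]
          apply Subtype.ext
          exact Subgroup.mem_center_iff.1 (hle (hcompl.symm.QuotientMulEquiv b).2) _⟩⟩
  rw [htop, Subgroup.card_top]
  exact hdiv.trans (Subgroup.card_subgroup_dvd_card _)

end Cfsg.Agent.S4168
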