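import Cfsg.Statements.S4169
import Cfsg.Agent.InvChar.UniqueInvolution

set_option autoImplicit false
set_option linter.style.haveILetI false
open Cfsg

namespace Cfsg.Agent.S4169

open Subgroup in
/-- With only one noncentral class size, commutators with a normal abelian subgroup are central:
otherwise the orbit of the commutator misses `1`, so its centralizer is too large. -/
theorem commutator_mem_center {G : Type*} [Group G] [Finite G] (m : ℕ)
    (h : ∀ x : G, (centralizer ({x} : Set G)).index = 1 ∨ (centralizer ({x} : Set G)).index = m)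
    (A : Subgroup G) [hAn : A.Normal] (hA : ∀ x ∈ A, ∀ y ∈ A, x * y = y * x)
    (x a : G) (ha : a ∈ A) : x * a * x⁻¹ * a⁻¹ ∈ center G := by
  classical
  have hcentral : ∀ z : G, (centralizer ({z} : Set G)).index = 1 → z ∈ center G := fun z hz => by
    rw [index_eq_one] at hz
    refine mem_center_iff.2 fun g => ?_
    exact mem_centralizer_singleton_iff.1 (hz ▸ mem_top g)
  set t := x * a * x⁻¹ * a⁻¹ with ht
  by_contra htc
  have ht1 : t ≠ 1 := fun e => htc (e ▸ one_mem _)
  have hxm : (centralizer ({x} : Set G)).index = m := by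
    refine (h x).resolve_left fun e => ht1 ?_
    rw [ht, ← mem_center_iff.1 (hcentral x e) a]; group
  let f : ↥A →* ↥A :=
    { toFun := fun b => ⟨x * (b : G) * x⁻¹ * (b : G)⁻¹, mul_mem (hAn.conj_mem _ b.2 x) (inv_mem b.2)⟩
      map_one' := Subtype.ext (by simp)
      map_mul' := fun b c => Subtype.ext (by
        simp only [Subgroup.coe_mul]
        have h1 := hA _ (mul_mem (hAn.conj_mem _ c.2 x) (inv_mem c.2)) (b : G)⁻¹ (inv_mem b.2)
        calc x * ((b : G) * c) * x⁻¹ * ((b : G) * c)⁻¹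
            = x * b * x⁻¹ * ((x * c * x⁻¹ * (c : G)⁻¹) * (b : G)⁻¹) := by group
          _ = x * b * x⁻¹ * ((b : G)⁻¹ * (x * c * x⁻¹ * (c : G)⁻¹)) := by rw [h1]
          _ = x * b * x⁻¹ * (b : G)⁻¹ * (x * c * x⁻¹ * (c : G)⁻¹) := by group) }
  set C := centralizer ({x} : Set G)
  set T := centralizer ({t} : Set G)
  set D := C ⊓ T
  have htA : t ∈ A := mul_mem (hAn.conj_mem _ ha x) (inv_mem ha)
  have hAT : A ≤ T := fun b hb => mem_centralizer_singleton_iff.2 (hA b hb t htA)
  have hker : f.ker = D.subgroupOf A := by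
    ext b
    rw [MonoidHom.mem_ker, mem_subgroupOf, mem_inf]
    have e : f b = 1 ↔ (b : G) ∈ C := by
      rw [mem_centralizer_singleton_iff, Subtype.ext_iff]
      show x * (b : G) * x⁻¹ * (b : G)⁻¹ = 1 ↔ _
      rw [mul_inv_eq_one, mul_inv_eq_iff_eq_mul]
      exact eq_comm
    exact e.trans ⟨fun hb => ⟨hb, hAT b.2⟩, fun hb => hb.1⟩
  have hconj : ∀ c : ↥C, ∃ b : ↥A, (f b : G) = (c : G) * t * (c : G)⁻¹ := fun c => by
    refine ⟨⟨(c : G) * a * (c : G)⁻¹, hAn.conj_mem a ha c⟩, ?_⟩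
    have hc : (c : G) * x = x * c := mem_centralizer_singleton_iff.1 c.2
    have hc' : x⁻¹ * (c : G) = c * x⁻¹ := by
      rw [eq_mul_inv_iff_mul_eq, mul_assoc, hc, inv_mul_cancel_left]
    show x * ((c : G) * a * (c : G)⁻¹) * x⁻¹ * ((c : G) * a * (c : G)⁻¹)⁻¹ = _
    calc x * ((c : G) * a * (c : G)⁻¹) * x⁻¹ * ((c : G) * a * (c : G)⁻¹)⁻¹
        = (x * c) * a * (c : G)⁻¹ * (x⁻¹ * c) * a⁻¹ * (c : G)⁻¹ := by group
      _ = (c * x) * a * (c : G)⁻¹ * (c * x⁻¹) * a⁻¹ * (c : G)⁻¹ := by rw [hc', hc]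
      _ = c * t * (c : G)⁻¹ := by rw [ht]; group
  let φ : ↥C ⧸ D.subgroupOf C → {y : ↥f.range // y ≠ 1} := fun q =>
    ⟨⟨⟨q.out * t * (q.out : G)⁻¹, hAn.conj_mem t htA _⟩, by
      obtain ⟨b, hb⟩ := hconj q.out
      exact ⟨b, Subtype.ext hb⟩⟩, fun e => by
      have e' : (q.out : G) * t * (q.out : G)⁻¹ = 1 := congrArg (fun y : ↥f.range => ((y : ↥A) : G)) e
      exact ht1 (conj_eq_one_iff.1 e')⟩
  have hφ : Function.Injective φ := by
    intro q r e
    have e' : (q.out : G) * t * (q.out : G)⁻¹ = (r.out : G) * t * (r.out : G)⁻¹ :=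
      congrArg (fun y : {y : ↥f.range // y ≠ 1} => (((y : ↥f.range) : ↥A) : G)) e
    rw [← Quotient.out_eq' q, ← Quotient.out_eq' r]
    refine QuotientGroup.eq.2 ?_
    rw [mem_subgroupOf, mem_inf]
    refine ⟨(q.out⁻¹ * r.out).2, mem_centralizer_singleton_iff.2 ?_⟩
    simp only [Subgroup.coe_mul, Subgroup.coe_inv]
    calc (q.out : G)⁻¹ * r.out * t = (q.out : G)⁻¹ * ((r.out : G) * t * (r.out : G)⁻¹) * r.out := by group
      _ = (q.out : G)⁻¹ * ((q.out : G) * t * (q.out : G)⁻¹) * r.out := by rw [e']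
      _ = t * ((q.out : G)⁻¹ * r.out) := by group
  have h1 : D.relIndex C < D.relIndex A := by
    have e1 : Nat.card ↥f.range = D.relIndex A := by rw [← index_ker, hker]; rfl
    rw [← e1]
    haveI := Fintype.ofFinite ↥f.range
    calc D.relIndex C ≤ Nat.card {y : ↥f.range // y ≠ 1} := Nat.card_le_card_of_injective φ hφ
      _ < Nat.card ↥f.range := by
        rw [Nat.card_eq_fintype_card, Nat.card_eq_fintype_card]
        exact Fintype.card_subtype_lt (x := 1) (fun hne => hne rfl)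
  have h2 : D.relIndex A ≤ D.relIndex T := relIndex_le_of_le_right hAT Subgroup.FiniteIndex.index_ne_zero
  have h5 := relIndex_mul_index (inf_le_left : D ≤ C)
  have h6 := relIndex_mul_index (inf_le_right : D ≤ T)
  have hTm : T.index = m := (h t).resolve_left fun e => htc (hcentral t e)
  rw [hxm] at h5
  rw [hTm] at h6
  have hm0 : 0 < m := Nat.pos_of_ne_zero (hxm ▸ Subgroup.FiniteIndex.index_ne_zero)
  have h7 : D.relIndex C = D.relIndex T := Nat.eq_of_mul_eq_mul_right hm0 (h5.trans h6.symm)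
  omega

open Subgroup in
theorem class_le_three {G : Type*} [Group G] [Finite G] (m : ℕ)
    (h : ∀ x : G, (centralizer ({x} : Set G)).index = 1 ∨ (centralizer ({x} : Set G)).index = m)
    (A : Subgroup G) [hAn : A.Normal] (hA : ∀ x ∈ A, ∀ y ∈ A, x * y = y * x)
    (hC : centralizer (A : Set G) ≤ A) : Subgroup.upperCentralSeries G 3 = ⊤ := by
  have hz : ∀ a ∈ A, ∀ y : G, y * a * y⁻¹ * a⁻¹ ∈ center G := fun a ha y =>
    commutator_mem_center m h A hA y a ha
  have hA2 : A ≤ Subgroup.upperCentralSeries G 2 := fun a ha => by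
    rw [Subgroup.mem_upperCentralSeries_succ_iff]
    intro y
    rw [Subgroup.upperCentralSeries_one]
    have := inv_mem (hz a ha y)
    rwa [show (y * a * y⁻¹ * a⁻¹)⁻¹ = a * y * a⁻¹ * y⁻¹ by group] at this
  have hcomm : ∀ y z : G, y * z * y⁻¹ * z⁻¹ ∈ A := fun y z => hC (mem_centralizer_iff.2 fun a ha => by
    -- `u ↦ u a u⁻¹ a⁻¹` is a homomorphism into the centre
    let ψ : G →* ↥(center G) := MonoidHom.mk' (fun u => ⟨u * a * u⁻¹ * a⁻¹, hz a ha u⟩) fun u v => by
      apply Subtype.ext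
      simp only [Subgroup.coe_mul]
      have hc := mem_center_iff.1 (hz a ha v) u
      calc u * v * a * (u * v)⁻¹ * a⁻¹ = (u * (v * a * v⁻¹ * a⁻¹)) * a * u⁻¹ * a⁻¹ := by group
        _ = ((v * a * v⁻¹ * a⁻¹) * u) * a * u⁻¹ * a⁻¹ := by rw [hc]
        _ = v * a * v⁻¹ * a⁻¹ * (u * a * u⁻¹ * a⁻¹) := by group
        _ = u * a * u⁻¹ * a⁻¹ * (v * a * v⁻¹ * a⁻¹) := (mem_center_iff.1 (hz a ha v) _).symm
    have hk : ψ (y * z * y⁻¹ * z⁻¹) = 1 := by
      rw [map_mul, map_mul, map_mul, map_inv, map_inv,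
        (Subtype.ext (mem_center_iff.1 (ψ z).2 (ψ y : G)) : ψ y * ψ z = ψ z * ψ y)]
      group
    have := congrArg Subtype.val hk
    simp only [ψ, MonoidHom.mk'_apply, OneMemClass.coe_one] at this
    exact (mul_inv_eq_iff_eq_mul.1 (mul_inv_eq_one.1 this)).symm)
  refine eq_top_iff.2 fun y _ => ?_
  rw [Subgroup.mem_upperCentralSeries_succ_iff]
  exact fun z => hA2 (hcomm y z)

/-- Let P be a finite p-group whose conjugacy classes have exactly two sizes (1 and one other value). Then P has nilpotency class at most 3. -/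
theorem result {P : Type*} [Group P] [Finite P] {p : ℕ} [Fact p.Prime] (hP : IsPGroup p P)
    (m : ℕ) (hm : 1 < m) (h : ∀ x : P, (Subgroup.centralizer ({x} : Set P)).index = 1 ∨ (Subgroup.centralizer ({x} : Set P)).index = m) :
    upperCentralSeries P 3 = ⊤ := by
  obtain ⟨A, hAn, hAc, hC⟩ := CfsgLib.UniqueInvol.exists_self_centralizing hP
  exact class_le_three m h A hAc hC

end Cfsg.Agent.S4169
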