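import Cfsg.Statements.S4170
import Cfsg.Agent.SylFix.Bound

set_option autoImplicit false
open scoped Pointwise
open Cfsg

namespace Cfsg.Agent.S4170

/-- Let p be an odd prime and G a nontrivial group of permutations of a finite set Ω that is generated by its elements of p-power order. Then Ω has two disjoint nonempty subsets Δ₁ and Δ₂ such that the index in G of the subgroup of elements mapping Δ₁ onto Δ₁ and Δ₂ onto Δ₂ (and hence also the complement of their union onto itself) is divisible by p. -/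
theorem result {Ω : Type*} [Fintype Ω] (p : ℕ) [Fact p.Prime] (hp : p ≠ 2) (G : Subgroup (Equiv.Perm Ω)) (hG : G ≠ ⊥) (hgen : Subgroup.closure {g : G | ∃ k : ℕ, orderOf g = p ^ k} = ⊤) :
    ∃ Δ₁ Δ₂ : Set Ω, Δ₁.Nonempty ∧ Δ₂.Nonempty ∧ Disjoint Δ₁ Δ₂ ∧ p ∣ (MulAction.stabilizer G Δ₁ ⊓ MulAction.stabilizer G Δ₂).index := by
  classical
  obtain ⟨g, hg, ω, hgω⟩ : ∃ g : G, (∃ k : ℕ, g ^ p ^ k = 1) ∧ ∃ ω : Ω, g • ω ≠ ω := by
    by_contra! hall
    apply hG
    rw [Subgroup.eq_bot_iff_forall]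
    intro x hx
    have h1 : ∀ g : G, g = 1 := fun g => by
      have hmem : g ∈ Subgroup.closure {g : G | ∃ k : ℕ, orderOf g = p ^ k} := by rw [hgen]; exact Subgroup.mem_top g
      refine (Subgroup.closure_le (⊥ : Subgroup G)).2 ?_ hmem
      rintro a ⟨k, hk⟩
      exact Subgroup.mem_bot.2 (eq_of_smul_eq_smul (α := Ω) fun ω => by
        rw [hall a ⟨k, hk ▸ pow_orderOf_eq_one a⟩ ω, one_smul])
    exact congrArg Subtype.val (h1 ⟨x, hx⟩)
  obtain ⟨y, hy, hyω, hyp⟩ := CfsgLib.SylFix.exists_cycle hg hgω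
  have hnj := CfsgLib.SylFix.not_joint_cycle hy hyω hyp
  set O := (fun i : ℕ => y ^ i • ω) '' Set.Iio p with hO
  have hp2 : 2 ≤ p := (Fact.out : p.Prime).two_le
  have hcard : O.ncard ≤ p := (Set.ncard_image_le (Set.toFinite _)).trans
    (by rw [← Finset.coe_Iio, Set.ncard_coe_finset, Nat.card_Iio])
  have hωO : ω ∈ O := ⟨0, by simp; omega, by simp⟩
  have hne : (O \ {ω}).Nonempty := ⟨y • ω, ⟨1, by simp; omega, by simp⟩, hyω⟩
  refine ⟨{ω}, O \ {ω}, Set.singleton_nonempty ω, hne, Set.disjoint_sdiff_right, ?_⟩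
  by_contra hndvd
  set M := MulAction.stabilizer G ({ω} : Set Ω) ⊓ MulAction.stabilizer G (O \ {ω}) with hM
  obtain ⟨Q, hQ⟩ : ∃ Q : Sylow p G, (Q : Subgroup G) ≤ M := by
    obtain ⟨R⟩ : Nonempty (Sylow p M) := inferInstance
    have hR : IsPGroup p ((R : Subgroup M).map M.subtype) := R.2.map _
    have hidx : ¬ p ∣ ((R : Subgroup M).map M.subtype).index := by
      rw [Subgroup.index_map_subtype]
      exact fun h => ((Fact.out : p.Prime).dvd_mul.1 h).elim R.not_dvd_index hndvd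
    refine ⟨hR.toSylow hidx, ?_⟩
    simp only [IsPGroup.toSylow_coe]
    exact Subgroup.map_subtype_le _
  refine hnj ⟨Q, CfsgLib.SylFix.le_flatGrp Q.2 fun a ha q hq => ?_⟩
  have hqω : ∀ q ∈ (Q : Subgroup G), q • ω = ω := fun q hq => by
    have := (hQ hq).1
    simpa [MulAction.mem_stabilizer_iff, Set.smul_set_singleton] using this
  by_cases haω : a = ω
  · subst haω; exact hqω q hq
  have horb : MulAction.orbit (Q : Subgroup G) a ⊆ O \ {ω} := by
    rintro _ ⟨r, rfl⟩
    have : (r : G) • (O \ {ω}) = O \ {ω} := (hQ r.2).2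
    rw [← this]
    exact Set.smul_mem_smul_set ⟨ha, haω⟩
  obtain ⟨k, hk⟩ := Q.2.card_orbit a
  rw [Nat.card_coe_set_eq] at hk
  have hlt : (MulAction.orbit (Q : Subgroup G) a).ncard < p := by
    refine lt_of_le_of_lt (Set.ncard_le_ncard horb) ?_
    rw [Set.ncard_sdiff_singleton_of_mem hωO]
    omega
  rcases k with _ | k
  · obtain ⟨b, hb⟩ := Set.ncard_eq_one.1 (hk.trans (pow_zero p))
    have h1 : q • a ∈ MulAction.orbit (Q : Subgroup G) a := ⟨⟨q, hq⟩, rfl⟩
    have h2 := MulAction.mem_orbit_self (M := (Q : Subgroup G)) a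
    rw [hb, Set.mem_singleton_iff] at h1 h2
    rw [h1, h2]
  · have := Nat.le_self_pow (Nat.succ_ne_zero k) p
    simp only [Nat.succ_eq_add_one] at this
    omega

end Cfsg.Agent.S4170
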