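import Cfsg.Statements.S4172
import Cfsg.Agent.LocalB.Tate
import Cfsg.Agent.Comp.PComponent
import Cfsg.Agent.Comp.Layer
import Cfsg.Agent.Solvable.Fitting
import Cfsg.Agent.Solvable.PGroupBasic
import Mathlib.GroupTheory.Transfer

set_option autoImplicit false
set_option linter.style.haveILetI false
set_option linter.deprecated false
open Cfsg

namespace Cfsg.Agent.S4172

section
open Subgroup
open scoped commutatorElement

variable {G : Type*} [Group G] [Finite G] {p : ℕ} [hp : Fact p.Prime] (P : Sylow p G)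

/-- The Frattini subgroup of `P` as a subgroup of `G`. -/
def frat : Subgroup G := (frattini ↥(P : Subgroup G)).map (P : Subgroup G).subtype

/-- A subnormal `P`-invariant subgroup meeting `P` inside `Φ(P)` is a `p`-group. -/
theorem isPGroup_of_le_frat (hcore : Cfsg.pPrimeCore p G = ⊥) (N : Subgroup G) (hN : N.IsSubnormal)
    (hPN : (P : Subgroup G) ≤ normalizer (N : Set G)) (h : (P : Subgroup G) ⊓ N ≤ frat P) :
    IsPGroup p N := by
  set H := (P : Subgroup G) ⊔ N with hH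
  set PH : Sylow p H := P.subtype le_sup_left
  haveI hNn : (N.subgroupOf H).Normal :=
    (normal_subgroupOf_iff_le_normalizer le_sup_right).2 (sup_le hPN le_normalizer)
  set W := Cfsg.pResidual p H
  have hWN : W ≤ N.subgroupOf H := by
    have hidx : (N.subgroupOf H).index ∣ Nat.card (P : Subgroup G) := by
      have htop : (PH : Subgroup H) ⊔ N.subgroupOf H = ⊤ := by
        refine (map_injective H.subtype_injective) ?_
        rw [Subgroup.map_sup, Sylow.coe_subtype, map_subgroupOf_eq_of_le le_sup_left,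
          map_subgroupOf_eq_of_le le_sup_right, ← MonoidHom.range_eq_map, range_subtype]
      have h1 : (N.subgroupOf H).index ∣ Nat.card (PH : Subgroup H) := by
        rw [← relIndex_top_right, ← htop, relIndex_sup_right]
        exact index_dvd_card _
      rwa [Sylow.coe_subtype, Nat.card_congr (subgroupOfEquivOfLe (le_sup_left : (P : Subgroup G) ≤ H)).toEquiv] at h1
    obtain ⟨k, hk⟩ := IsPGroup.iff_card.1 P.2
    obtain ⟨j, -, hj⟩ := (Nat.dvd_prime_pow hp.out).1 (hk ▸ hidx)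
    exact CfsgLib.PResidual.pResidual_le hj
  let e : ↥(P : Subgroup G) ≃* ↥(PH : Subgroup H) :=
    ((subgroupOfEquivOfLe (le_sup_left : (P : Subgroup G) ≤ H)).symm).trans
      (MulEquiv.subgroupCongr (Sylow.coe_subtype P le_sup_left).symm)
  have hfr : (frattini ↥(P : Subgroup G)).map e.toMonoidHom ≤ frattini ↥(PH : Subgroup H) := by
    refine le_iInf₂ fun M hM => map_le_iff_le_comap.2 (frattini_le_coatom ?_)
    exact (OrderIso.isCoatom_iff e.comapSubgroup M).2 hM
  have hWP : ∀ x : (PH : Subgroup H), (x : H) ∈ W → x = 1 := by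
    refine CfsgLib.LocalB.Tate.inf_pResidual_eq_bot PH fun x hx => ?_
    obtain ⟨y, rfl⟩ := e.surjective x
    have hyN : ((e y : H) : G) ∈ N := mem_subgroupOf.1 (hWN hx)
    have e1 : ((e y : H) : G) = (y : G) := rfl
    rw [e1] at hyN
    obtain ⟨z, hz, hzy⟩ := h ⟨y.2, hyN⟩
    exact hfr ⟨y, (Subtype.ext hzy : z = y) ▸ hz, rfl⟩
  have hWc : (Nat.card W).Coprime p := by
    refine ((hp.out.coprime_iff_not_dvd).2 fun hd => ?_).symm
    obtain ⟨w, hw⟩ := exists_prime_orderOf_dvd_card' p hd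
    have hwH : orderOf (w : H) = p := by rw [orderOf_coe]; exact hw
    have hP : IsPGroup p (zpowers (w : H)) := IsPGroup.of_card (n := 1) (by rw [Nat.card_zpowers, hwH, pow_one])
    obtain ⟨Q, hQ⟩ := hP.exists_le_sylow
    obtain ⟨g, hg⟩ := MulAction.exists_smul_eq H Q PH
    have hmem : g * (w : H) * g⁻¹ ∈ (PH : Subgroup H) := by
      rw [← hg, Sylow.coe_subgroup_smul]
      exact Subgroup.mem_smul_pointwise_iff_exists _ _ _ |>.2 ⟨w, hQ (mem_zpowers _), rfl⟩
    have := hWP ⟨_, hmem⟩ ((inferInstance : W.Normal).conj_mem _ w.2 g)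
    have h1 : (w : H) = 1 := conj_eq_one_iff.1 (congrArg Subtype.val this)
    rw [h1, orderOf_one] at hwH
    exact hp.out.one_lt.ne hwH
  have hW1 : W = ⊥ := by
    have hle : W.map H.subtype ≤ N := fun x ⟨y, hy, hxy⟩ => hxy ▸ mem_subgroupOf.1 (hWN hy)
    haveI : ((W.map H.subtype).subgroupOf N).Normal := by
      refine (normal_subgroupOf_iff_le_normalizer hle).2 (le_trans le_sup_right (b := H) ?_)
      have := le_normalizer_map (H := W) H.subtype
      rwa [normalizer_eq_top, ← MonoidHom.range_eq_map, range_subtype] at this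
    have hsub : (W.map H.subtype).IsSubnormal := by
      have := CfsgLib.Comp.isSubnormal_map_subtype hN (N := (W.map H.subtype).subgroupOf N) this
      rwa [map_subgroupOf_eq_of_le hle] at this
    have := CfsgLib.PComp.subnormal_le_pPrimeCore (p := p) hsub
      (by rwa [card_map_of_injective H.subtype_injective])
    rw [hcore, le_bot_iff] at this
    exact (map_eq_bot_iff_of_injective _ H.subtype_injective).1 this
  intro x
  obtain ⟨k, hk⟩ := CfsgLib.PResidual.isPGroup_quotient_pResidual (p := p) (G := H)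
    (QuotientGroup.mk ⟨(x : G), le_sup_right (a := (P : Subgroup G)) x.2⟩ : ↥H ⧸ W)
  refine ⟨k, ?_⟩
  rw [← QuotientGroup.mk_pow, QuotientGroup.eq_one_iff] at hk
  rw [hW1, mem_bot] at hk
  have h1 := congrArg Subtype.val hk
  exact Subtype.ext (by simpa using h1)

/-- A normal subgroup of `P` outside `Φ(P)` has cyclic quotient. -/
theorem exists_gen (hgen : (frattini ↥(P : Subgroup G)).index = p ^ 2)
    (N : Subgroup G) (hPN : (P : Subgroup G) ≤ normalizer (N : Set G))
    (h : ¬ (P : Subgroup G) ⊓ N ≤ frat P) :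
    ∃ x ∈ (P : Subgroup G), ∀ y ∈ (P : Subgroup G), ∃ k : ℤ, x ^ k * y ∈ N := by
  set Φ := frattini ↥(P : Subgroup G)
  set R := N.subgroupOf (P : Subgroup G)
  haveI : R.Normal := by
    rw [← normalizer_eq_top_iff, eq_top_iff]
    intro g _
    rw [mem_normalizer_iff]
    intro y
    exact mem_normalizer_iff.1 (hPN g.2) (y : G)
  have hRΦ : ¬ R ≤ Φ := fun hle => h fun y hy => ⟨⟨y, hy.1⟩, hle hy.2, rfl⟩
  have hdvd : (R ⊔ Φ).index ∣ p := by
    obtain ⟨j, hj, e⟩ := (Nat.dvd_prime_pow hp.out).1 (hgen ▸ index_dvd_of_le (le_sup_right : Φ ≤ R ⊔ Φ))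
    rcases (show j = 2 ∨ j ≤ 1 by omega) with rfl | hj1
    · refine absurd ?_ hRΦ
      have h1 := relIndex_mul_index (le_sup_right : Φ ≤ R ⊔ Φ)
      rw [e, hgen] at h1
      have := (Nat.mul_eq_right (pow_ne_zero 2 hp.out.ne_zero)).1 h1
      exact le_sup_left.trans (relIndex_eq_one.1 this)
    · exact e ▸ (Nat.pow_dvd_pow p hj1).trans (pow_one p).dvd
  haveI : IsCyclic (↥(P : Subgroup G) ⧸ (R ⊔ Φ)) := by
    rw [index_eq_card] at hdvd
    rcases (Nat.dvd_prime hp.out).1 hdvd with e | e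
    · haveI : Subsingleton (↥(P : Subgroup G) ⧸ (R ⊔ Φ)) := (Nat.card_eq_one_iff_unique.1 e).1
      infer_instance
    · exact isCyclic_of_prime_card e
  obtain ⟨q, hq⟩ := IsCyclic.exists_generator (α := ↥(P : Subgroup G) ⧸ (R ⊔ Φ))
  obtain ⟨x, rfl⟩ := QuotientGroup.mk'_surjective _ q
  have htop : (zpowers x ⊔ R) ⊔ Φ = ⊤ := by
    refine eq_top_iff.2 fun y _ => ?_
    obtain ⟨k, hk⟩ := hq (QuotientGroup.mk y)
    have hk' : (x ^ k)⁻¹ * y ∈ R ⊔ Φ := QuotientGroup.eq.1 hk
    have h1 := mul_mem (mem_sup_left (zpow_mem (mem_zpowers x) k) : x ^ k ∈ zpowers x ⊔ (R ⊔ Φ))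
      (mem_sup_right hk')
    rw [mul_inv_cancel_left] at h1
    rwa [sup_assoc]
  have htop' := frattini_nongenerating htop
  refine ⟨x, x.2, fun y hy => ?_⟩
  obtain ⟨a, ⟨k, rfl⟩, b, hb, e⟩ := mem_sup_of_normal_right.1 (htop'.symm ▸ mem_top (⟨y, hy⟩ : ↥(P : Subgroup G)))
  refine ⟨-k, ?_⟩
  have := congrArg Subtype.val e
  simp only [Subgroup.coe_mul, coe_zpow] at this
  rw [← this, zpow_neg, inv_mul_cancel_left]
  exact hb

theorem commutator_mem_of_gen {N : Subgroup G} (hPN : (P : Subgroup G) ≤ normalizer (N : Set G))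
    {x : G} (hx : x ∈ (P : Subgroup G)) (hgx : ∀ y ∈ (P : Subgroup G), ∃ k : ℤ, x ^ k * y ∈ N)
    {y z : G} (hy : y ∈ (P : Subgroup G)) (hz : z ∈ (P : Subgroup G)) : y * z * y⁻¹ * z⁻¹ ∈ N := by
  obtain ⟨i, hi⟩ := hgx y hy
  obtain ⟨j, hj⟩ := hgx z hz
  have hn : ∀ g ∈ (P : Subgroup G), ∀ n ∈ N, g * n * g⁻¹ ∈ N := fun g hg n h => (mem_normalizer_iff.1 (hPN hg) n).1 h
  set n := x ^ i * y with hn'
  set m := x ^ j * z with hm'
  have e1 : y = x ^ (-i) * n := by rw [hn', zpow_neg, inv_mul_cancel_left]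
  have e2 : z = x ^ (-j) * m := by rw [hm', zpow_neg, inv_mul_cancel_left]
  have hxm : ∀ k : ℤ, ∀ u ∈ N, x ^ k * u * (x ^ k)⁻¹ ∈ N := fun k => hn _ (zpow_mem hx k)
  rw [e1, e2]
  have : x ^ (-i) * n * (x ^ (-j) * m) * (x ^ (-i) * n)⁻¹ * (x ^ (-j) * m)⁻¹ =
      (x ^ (-i) * n * (x ^ (-i))⁻¹) * (x ^ (-i + -j) * (m * n⁻¹) * (x ^ (-i + -j))⁻¹) *
        (x ^ (-j) * m⁻¹ * (x ^ (-j))⁻¹) := by
    simp only [zpow_add, zpow_neg, mul_inv_rev, inv_inv]; group
  rw [this]
  exact mul_mem (mul_mem (hxm _ _ hi) (hxm _ _ (mul_mem hj (inv_mem hi)))) (hxm _ _ (inv_mem hj))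

/-- Two disjoint subgroups of this kind would force `P` to be abelian. -/
theorem false_of_disjoint (hna : ¬ IsMulCommutative (P : Subgroup G))
    (hgen : (frattini ↥(P : Subgroup G)).index = p ^ 2) {N₁ N₂ : Subgroup G}
    (h1 : (P : Subgroup G) ≤ normalizer (N₁ : Set G)) (h2 : (P : Subgroup G) ≤ normalizer (N₂ : Set G))
    (f1 : ¬ (P : Subgroup G) ⊓ N₁ ≤ frat P) (f2 : ¬ (P : Subgroup G) ⊓ N₂ ≤ frat P)
    (hd : N₁ ⊓ N₂ = ⊥) : False := by
  obtain ⟨x₁, hx₁, g₁⟩ := exists_gen P hgen N₁ h1 f1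
  obtain ⟨x₂, hx₂, g₂⟩ := exists_gen P hgen N₂ h2 f2
  refine hna ⟨⟨fun a b => Subtype.ext ?_⟩⟩
  have : (a : G) * b * (a : G)⁻¹ * (b : G)⁻¹ ∈ N₁ ⊓ N₂ :=
    ⟨commutator_mem_of_gen P h1 hx₁ g₁ a.2 b.2, commutator_mem_of_gen P h2 hx₂ g₂ a.2 b.2⟩
  rw [hd, mem_bot] at this
  exact mul_inv_eq_iff_eq_mul.1 (mul_inv_eq_one.1 this)

variable (hcore : Cfsg.pPrimeCore p G = ⊥) (hfrat : (frat P).normalCore = ⊥)
  (hna : ¬ IsMulCommutative (P : Subgroup G)) (hgen : (frattini ↥(P : Subgroup G)).index = p ^ 2)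

include hcore hfrat in
theorem not_le_frat {K : Subgroup G} [hK : K.Normal] (hK1 : K ≠ ⊥) : ¬ (P : Subgroup G) ⊓ K ≤ frat P := by
  intro h
  have hKp := isPGroup_of_le_frat P hcore K hK.isSubnormal le_normalizer_of_normal h
  obtain ⟨Q, hQ⟩ := hKp.exists_le_sylow
  obtain ⟨g, hg⟩ := MulAction.exists_smul_eq G Q P
  have hKP : K ≤ (P : Subgroup G) := fun k hk => by
    rw [← hg, Sylow.coe_subgroup_smul]
    refine Subgroup.mem_smul_pointwise_iff_exists _ _ _ |>.2 ⟨g⁻¹ * k * g, hQ ?_, ?_⟩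
    · have := hK.conj_mem k hk g⁻¹; rwa [inv_inv] at this
    · show g * (g⁻¹ * k * g) * g⁻¹ = k; group
  exact hK1 (le_bot_iff.1 (hfrat ▸ normal_le_normalCore.2 (le_trans (le_inf hKP le_rfl) h)))

include hcore hfrat hna hgen in
theorem inf_ne_bot {K L : Subgroup G} [K.Normal] [L.Normal] (hK : K ≠ ⊥) (hL : L ≠ ⊥) : K ⊓ L ≠ ⊥ :=
  false_of_disjoint P hna hgen le_normalizer_of_normal le_normalizer_of_normal
    (not_le_frat P hcore hfrat hK) (not_le_frat P hcore hfrat hL)

/-- A central element of a perfect group lies in the derived group of a Sylow subgroup. -/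
theorem mem_commutator_sylow {E : Type*} [Group E] [Finite E] (hE : commutator E = ⊤) (Q : Sylow p E)
    {z : E} (hzQ : z ∈ (Q : Subgroup E)) (hz : z ∈ center E) :
    (⟨z, hzQ⟩ : ↥(Q : Subgroup E)) ∈ commutator ↥(Q : Subgroup E) := by
  set ϕ : ↥(Q : Subgroup E) →* Abelianization ↥(Q : Subgroup E) := Abelianization.of
  have key : ∀ (k : ℕ) (g₀ : E), g₀⁻¹ * z ^ k * g₀ ∈ (Q : Subgroup E) → g₀⁻¹ * z ^ k * g₀ = z ^ k :=
    fun k g₀ _ => by rw [mul_assoc, ← mem_center_iff.1 (pow_mem hz k) g₀, inv_mul_cancel_left]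
  have h1 : MonoidHom.transfer ϕ z = 1 :=
    MonoidHom.mem_ker.1 (Abelianization.commutator_subset_ker _ (hE.symm ▸ mem_top z))
  rw [MonoidHom.transfer_eq_pow ϕ z key] at h1
  have h2 : ϕ ⟨z, hzQ⟩ ^ (Q : Subgroup E).index = 1 := by
    rw [← map_pow]; exact h1
  obtain ⟨j, hj⟩ := IsPGroup.iff_orderOf.1 Q.2 ⟨z, hzQ⟩
  obtain ⟨k, -, hk⟩ := (Nat.dvd_prime_pow hp.out).1 (hj ▸ orderOf_map_dvd ϕ (⟨z, hzQ⟩ : ↥(Q : Subgroup E)))
  have h3 : orderOf (ϕ ⟨z, hzQ⟩) = 1 := Nat.eq_one_of_dvd_coprimes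
    (((hp.out.coprime_iff_not_dvd).2 Q.not_dvd_index).pow_left k) hk.dvd (orderOf_dvd_of_pow_eq_one h2)
  exact (QuotientGroup.eq_one_iff _).1 (orderOf_eq_one_iff.1 h3)

include hcore hfrat hna hgen in
theorem layer_eq_bot (hF : Cfsg.fittingSubgroup G ≠ ⊥) [hEn : (Cfsg.layer G).Normal] [(Cfsg.fittingSubgroup G).Normal] :
    Cfsg.layer G = ⊥ := by
  by_contra hE
  refine not_le_frat P hcore hfrat (K := Cfsg.layer G ⊓ Cfsg.fittingSubgroup G)
    (inf_ne_bot P hcore hfrat hna hgen hE hF) ?_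
  rintro z ⟨hzP, hzE, hzF⟩
  set E := Cfsg.layer G
  have hEp : commutator E = ⊤ := (CfsgLib.Comp.layer_isPerfect (G := G)).1
  obtain ⟨Q, hQ⟩ := ((P.2.to_le (inf_le_left : (P : Subgroup G) ⊓ E ≤ _)).comap_of_injective E.subtype
    E.subtype_injective).exists_le_sylow
  have hzc : (⟨z, hzE⟩ : E) ∈ center E := mem_center_iff.2 fun g => Subtype.ext
    (mem_centralizer_iff.1 (CfsgLib.Comp.layer_le_centralizer_fitting g.2) z hzF).symm
  obtain ⟨R, hR⟩ := (Q.2.map E.subtype).exists_le_sylow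
  obtain ⟨g, hg⟩ := MulAction.exists_smul_eq G R P
  have hmem := mem_commutator_sylow hEp Q (hQ ⟨hzP, hzE⟩) hzc
  have hQE : (Q : Subgroup E) = ((P : Subgroup G) ⊓ E).subgroupOf E :=
    by
      symm
      refine eq_of_le_of_card_ge hQ ?_
      have hle : ((Q : Subgroup E).map E.subtype).map (MulAut.conj g).toMonoidHom ≤ (P : Subgroup G) ⊓ E := by
        rintro _ ⟨_, ⟨q, hq, rfl⟩, rfl⟩
        refine ⟨?_, hEn.conj_mem _ q.2 g⟩
        rw [← hg, Sylow.coe_subgroup_smul]
        exact Subgroup.mem_smul_pointwise_iff_exists _ _ _ |>.2 ⟨q, hR ⟨q, hq, rfl⟩, rfl⟩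
      refine le_trans (le_of_eq ?_) ((card_le_of_le hle).trans_eq
        (Nat.card_congr (subgroupOfEquivOfLe (inf_le_right : (P : Subgroup G) ⊓ E ≤ E)).toEquiv).symm)
      rw [card_map_of_injective (MulEquiv.injective _), card_map_of_injective E.subtype_injective]
  let ι : ↥(Q : Subgroup E) →* ↥(P : Subgroup G) :=
    ((E.subtype).comp (Q : Subgroup E).subtype).codRestrict _ fun q => (mem_subgroupOf.1 (hQE.le q.2)).1
  exact ⟨_, (CfsgLib.PGroupBasic.commutator_pow_le_frattini P.2).1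
    (show ι ⟨⟨z, hzE⟩, hQ ⟨hzP, hzE⟩⟩ ∈ commutator ↥(P : Subgroup G) from
      Abelianization.commutator_subset_ker Abelianization.of hmem |> fun _ =>
        (map_commutator (f := ι) ⊤ ⊤).le.trans (commutator_mono le_top le_top) ⟨_, hmem, rfl⟩), rfl⟩

include hcore hfrat hna hgen in
theorem pCore_le (K : Subgroup G) [hK : K.Normal] (hK1 : K ≠ ⊥) [hRn : (Cfsg.pCore p G).Normal]
    (hR1 : Cfsg.pCore p G ≠ ⊥) : Cfsg.pCore p G ≤ K := by
  classical
  set R := Cfsg.pCore p G with hR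
  have hRP : R ≤ (P : Subgroup G) := CfsgLib.Fitting.pCore_le_sylow P
  obtain ⟨hcomm, hpow⟩ := CfsgLib.PGroupBasic.commutator_pow_le_frattini (G := ↥(P : Subgroup G)) P.2
  have hΦ : ∀ T : Subgroup G, T.Normal → T ≤ frat P → T = ⊥ := fun T hT h => by
    haveI := hT
    exact le_bot_iff.1 (hfrat ▸ (normal_le_normalCore (N := T) (H := frat P)).2 h)
  have hab : ∀ a ∈ R, ∀ b ∈ R, a * b = b * a := by
    have h1 : ⁅R, R⁆ = ⊥ := hΦ _ inferInstance (commutator_le.2 fun a ha b hb =>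
      ⟨⁅(⟨a, hRP ha⟩ : ↥(P : Subgroup G)), ⟨b, hRP hb⟩⁆,
        hcomm (commutator_mem_commutator (mem_top _) (mem_top _)), rfl⟩)
    intro a ha b hb
    exact commutatorElement_eq_one_iff_mul_comm.1 (mem_bot.1 (h1 ▸ commutator_mem_commutator ha hb))
  have hexp : ∀ a ∈ R, a ^ p = 1 := by
    have h1 : Subgroup.closure ((fun a => a ^ p) '' (R : Set G)) = ⊥ := by
      refine hΦ _ ⟨fun t ht g => ?_⟩ ((closure_le _).2 ?_)
      · induction ht using closure_induction with
        | mem t ht =>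
          obtain ⟨a, ha, rfl⟩ := ht
          exact subset_closure ⟨g * a * g⁻¹, hRn.conj_mem a ha g, conj_pow⟩
        | one => simp
        | mul a b _ _ iha ihb =>
          have := mul_mem iha ihb
          rwa [show g * a * g⁻¹ * (g * b * g⁻¹) = g * (a * b) * g⁻¹ by group] at this
        | inv a _ ih =>
          have := inv_mem ih
          rwa [show (g * a * g⁻¹)⁻¹ = g * a⁻¹ * g⁻¹ by group] at this
      · rintro _ ⟨a, ha, rfl⟩
        exact ⟨⟨a, hRP ha⟩ ^ p, hpow _, rfl⟩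
    exact fun a ha => mem_bot.1 (h1 ▸ subset_closure ⟨a, ha, rfl⟩)
  set K₀ := K ⊓ R
  have hK0 : K₀ ≠ ⊥ := inf_ne_bot P hcore hfrat hna hgen hK1 hR1
  refine le_trans (fun r hr => ?_) (inf_le_left : K₀ ≤ K)
  by_contra hrK
  obtain ⟨x, hx, hgx⟩ := exists_gen P hgen K₀ le_normalizer_of_normal (not_le_frat P hcore hfrat hK0)
  obtain ⟨i, hi⟩ := hgx r (hRP hr)
  -- a power of `x` in `R` outside `K₀`; it is central in `P`
  set z := x ^ i with hz
  have hzR : z ∈ R := by
    have := mul_mem (mem_inf.1 hi).2 (inv_mem hr)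
    rwa [mul_inv_cancel_right] at this
  have hzK : z ∉ K₀ := fun h => hrK (by
    have := mul_mem (inv_mem h) hi
    rwa [inv_mul_cancel_left] at this)
  have hzP : ∀ y ∈ (P : Subgroup G), y * z * y⁻¹ = z := fun y hy => by
    obtain ⟨j, hj⟩ := hgx y hy
    have e : y = x ^ (-j) * (x ^ j * y) := by rw [zpow_neg, inv_mul_cancel_left]
    have h1 : (x ^ j * y) * z = z * (x ^ j * y) := hab _ (mem_inf.1 hj).2 _ hzR
    rw [e]
    calc x ^ (-j) * (x ^ j * y) * z * (x ^ (-j) * (x ^ j * y))⁻¹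
        = x ^ (-j) * ((x ^ j * y) * z * (x ^ j * y)⁻¹) * (x ^ (-j))⁻¹ := by group
      _ = x ^ (-j) * z * (x ^ (-j))⁻¹ := by rw [h1, mul_inv_cancel_right]
      _ = z := by rw [hz, ← zpow_neg, ← zpow_add, ← zpow_add]; congr 1; omega
  -- modulo `K₀` every element of `R` is a power of `z`
  have hR2 : ∀ s ∈ R, ∃ a : ZMod p, s * (z ^ a.val)⁻¹ ∈ K₀ := by
    intro s hs
    set U := {u ∈ ({u | ∃ k : ℤ, x ^ k = u} : Set G) | u ∈ R}
    obtain ⟨j, hj⟩ := hgx s (hRP hs)
    have hxj : x ^ j ∈ R := by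
      have := mul_mem (mem_inf.1 hj).2 (inv_mem hs)
      rwa [mul_inv_cancel_right] at this
    -- the elements of order dividing `p` of a cyclic group
    have hzo : orderOf z = p := orderOf_eq_prime (hexp z hzR) fun h => hzK (h ▸ one_mem _)
    have : x ^ (-j) ∈ zpowers z := by
      haveI : IsCyclic (zpowers x) := inferInstance
      have hle : zpowers z ≤ zpowers x ⊓ R := le_inf (zpowers_le.2 (zpow_mem (mem_zpowers x) i)) (zpowers_le.2 hzR)
      have hcard : Nat.card ↥(zpowers x ⊓ R) ≤ p := by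
        haveI : IsCyclic ↥(zpowers x ⊓ R) := isCyclic_of_injective (Subgroup.inclusion inf_le_left) (Subgroup.inclusion_injective _)
        obtain ⟨g, hg⟩ := IsCyclic.exists_ofOrder_eq_natCard (α := ↥(zpowers x ⊓ R))
        rw [← hg, ← orderOf_coe]
        exact orderOf_le_of_pow_eq_one hp.out.pos (hexp _ g.2.2)
      have := eq_of_le_of_card_ge hle (by rwa [Nat.card_zpowers, hzo])
      rw [this]
      exact ⟨zpow_mem (mem_zpowers x) _, by rw [zpow_neg]; exact R.inv_mem hxj⟩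
    obtain ⟨a, ha⟩ := this
    refine ⟨(a : ZMod p), ?_⟩
    have e1 : z ^ (a : ZMod p).val = z ^ a := by
      rw [← zpow_natCast, zpow_eq_zpow_iff_modEq, hzo, ← ZMod.intCast_eq_intCast_iff]
      simp
    have e2 : z ^ a = x ^ (-j) := ha
    have e3 : s * (z ^ a)⁻¹ = (z ^ a)⁻¹ * s := hab _ hs _ (inv_mem (zpow_mem hzR a))
    rw [e1, e3, e2, zpow_neg, inv_inv]
    exact hj
  -- averaging over the cosets of `P`
  letI : CommGroup R :=
    { (inferInstance : Group R) with mul_comm := fun a b => Subtype.ext (hab _ a.2 _ b.2) }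
  haveI : (K₀.subgroupOf R).Normal := inferInstance
  let π := QuotientGroup.mk' (K₀.subgroupOf R)
  let cj : G → R →* R := fun g =>
    MonoidHom.mk' (fun s => ⟨g * (s : G) * g⁻¹, hRn.conj_mem _ s.2 g⟩) fun s t =>
      Subtype.ext (by simp only [Subgroup.coe_mul]; group)
  let z' : R := ⟨z, hzR⟩
  have hzπ : ∀ a b : ZMod p, π z' ^ (a * b).val = (π z' ^ a.val) ^ b.val := fun a b => by
    rw [← pow_mul, ZMod.val_mul]
    exact (pow_eq_pow_mod _ (by rw [← map_pow, show z' ^ p = 1 from Subtype.ext (hexp z hzR), map_one])).symm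
  have hscal : ∀ g : G, ∃ a : ZMod p, π (cj g z') = π z' ^ a.val := fun g => by
    obtain ⟨a, ha⟩ := hR2 _ (hRn.conj_mem z hzR g)
    refine ⟨a, ?_⟩
    rw [← map_pow]
    refine QuotientGroup.eq.2 ?_
    rw [mem_subgroupOf]
    have := inv_mem ha
    rw [mul_inv_rev, inv_inv, hab _ (pow_mem hzR _) _ (inv_mem (hRn.conj_mem z hzR g))] at this
    exact this
  choose a ha using hscal
  have hz0 : π z' ≠ 1 := fun h => hzK (mem_subgroupOf.1 ((QuotientGroup.eq_one_iff z').1 h))
  have ha0 : ∀ g, a g ≠ 0 := fun g e => by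
    have h1 := ha g
    rw [e, ZMod.val_zero, pow_zero] at h1
    have h2 : g * z * g⁻¹ ∈ K₀ := (QuotientGroup.eq_one_iff (cj g z')).1 h1
    have h3 := (inferInstance : K₀.Normal).conj_mem _ h2 g⁻¹
    exact hzK (by simpa [mul_assoc] using h3)
  have hzinj : ∀ u v : ZMod p, π z' ^ u.val = π z' ^ v.val → u = v := fun u v h => by
    have ho : orderOf (π z') = p := orderOf_eq_prime
      (by rw [← map_pow, show z' ^ p = 1 from Subtype.ext (hexp z hzR), map_one]) hz0
    rw [pow_eq_pow_iff_modEq, ho, ← ZMod.natCast_eq_natCast_iff, ZMod.natCast_zmod_val, ZMod.natCast_zmod_val] at h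
    exact h
  haveI : Fintype (G ⧸ (P : Subgroup G)) := Fintype.ofFinite _
  have hcoset : ∀ g g' : G, (QuotientGroup.mk g : G ⧸ (P : Subgroup G)) = QuotientGroup.mk g' → cj g z' = cj g' z' := by
    intro g g' h
    refine Subtype.ext ?_
    have h1 := hzP _ (QuotientGroup.eq.1 h)
    show g * z * g⁻¹ = g' * z * g'⁻¹
    calc g * z * g⁻¹ = g * (g⁻¹ * g' * z * (g⁻¹ * g')⁻¹) * g⁻¹ := by rw [h1]
      _ = g' * z * g'⁻¹ := by group
  let w : R := ∏ c : G ⧸ (P : Subgroup G), cj c.out z' ^ ((a c.out)⁻¹).val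
  have hwπ : π w = π z' ^ (P : Subgroup G).index := by
    simp only [w, map_prod, map_pow, ha, ← hzπ]
    simp only [mul_inv_cancel₀ (ha0 _), ZMod.val_one, pow_one, Finset.prod_const, Finset.card_univ]
    rw [← Nat.card_eq_fintype_card]; rfl
  have hw1 : π w ≠ 1 := fun h => by
    rw [hwπ] at h
    have ho : orderOf (π z') = p := orderOf_eq_prime
      (by rw [← map_pow, show z' ^ p = 1 from Subtype.ext (hexp z hzR), map_one]) hz0
    exact P.not_dvd_index (ho.symm.dvd.trans (orderOf_dvd_of_pow_eq_one h))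
  have hwh : ∀ h : G, cj h w = w ^ (a h).val := by
    intro h
    simp only [w, map_prod, map_pow, ← Finset.prod_pow]
    refine Fintype.prod_equiv (MulAction.toPerm h) _ _ fun c => ?_
    set c' := (MulAction.toPerm h : Equiv.Perm (G ⧸ (P : Subgroup G))) c
    have hc' : (QuotientGroup.mk c'.out : G ⧸ (P : Subgroup G)) = QuotientGroup.mk (h * c.out) := by
      rw [QuotientGroup.out_eq', show c' = h • c from rfl]
      conv_lhs => rw [← QuotientGroup.out_eq' c]
      rfl
    have e1 : cj h (cj c.out z') = cj c'.out z' := by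
      rw [hcoset _ _ hc']
      refine Subtype.ext ?_
      show h * ((c.out : G) * z * (c.out : G)⁻¹) * h⁻¹ = h * c.out * z * (h * c.out)⁻¹
      group
    have e2 : a c'.out = a h * a c.out := by
      refine hzinj _ _ ?_
      rw [← ha, hzπ, ← ha, ← e1, ← map_pow, ← map_pow (cj h)]
      have h5 : π (cj c.out z') = π (z' ^ (a c.out).val) := by rw [map_pow, ha]
      have h6 := QuotientGroup.eq.1 h5
      rw [mem_subgroupOf] at h6
      refine QuotientGroup.eq.2 ?_
      rw [mem_subgroupOf]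
      have h7 := (inferInstance : K₀.Normal).conj_mem _ h6 h
      have e3 : (cj h ((cj c.out z')⁻¹ * z' ^ (a c.out).val) : G) ∈ K₀ := h7
      rw [map_mul, map_inv] at e3
      exact e3
    have e4 : ((a c.out)⁻¹ : ZMod p) = (a c'.out)⁻¹ * a h := by
      rw [e2, mul_inv, mul_comm (a h)⁻¹, mul_assoc, inv_mul_cancel₀ (ha0 h), mul_one]
    rw [e1, e4, ← pow_mul, ZMod.val_mul]
    exact (pow_eq_pow_mod _ (Subtype.ext (hexp _ (cj c'.out z').2))).symm
  haveI : (zpowers (w : G)).Normal := by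
    refine ⟨fun t ht g => ?_⟩
    obtain ⟨k, rfl⟩ := ht
    have h1 : g * (w : G) * g⁻¹ = (w : G) ^ (a g).val := congrArg Subtype.val (hwh g)
    show g * (w : G) ^ k * g⁻¹ ∈ _
    rw [← conj_zpow, h1]
    exact zpow_mem (npow_mem_zpowers _ _) k
  refine inf_ne_bot P hcore hfrat hna hgen hK0 (L := zpowers (w : G))
    (fun h => hw1 (by rw [zpowers_eq_bot] at h; rw [show w = 1 from Subtype.ext h, map_one])) ?_
  rw [eq_bot_iff]
  rintro t ⟨ht1, k, rfl⟩
  have h1 : π w ^ k = 1 := by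
    rw [← map_zpow]
    exact (QuotientGroup.eq_one_iff (w ^ k)).2 (show ((w ^ k : R) : G) ∈ K₀ by rw [coe_zpow]; exact ht1)
  have ho : orderOf (π w) = p := orderOf_eq_prime
    (by rw [← map_pow, show w ^ p = 1 from Subtype.ext (hexp _ w.2), map_one]) hw1
  have h2 := orderOf_dvd_iff_zpow_eq_one.2 h1
  rw [ho] at h2
  obtain ⟨j, hj⟩ := h2
  rw [mem_bot]
  show (w : G) ^ k = 1
  rw [hj, zpow_mul, zpow_natCast, hexp _ w.2, one_zpow]

include hcore hfrat hna hgen in
theorem layer_case [hEn : (Cfsg.layer G).Normal] (hF : Cfsg.fittingSubgroup G = ⊥) :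
    (∀ K : Subgroup G, K.Normal → K ≠ ⊥ → Cfsg.layer G ≤ K) ∧
    ∀ K L : Subgroup G, Cfsg.IsComponent K → Cfsg.IsComponent L →
      ∃ x ∈ (P : Subgroup G), L = K.map (MulAut.conj x).toMonoidHom := by
  have habel : ∀ Z : Subgroup G, Z.Normal → (∀ a ∈ Z, ∀ b ∈ Z, a * b = b * a) → Z = ⊥ := fun Z hZ h => by
    haveI : IsMulCommutative Z := ⟨⟨fun a b => Subtype.ext (h _ a.2 _ b.2)⟩⟩
    letI : CommGroup Z := { (inferInstance : Group Z) with mul_comm := fun a b => Subtype.ext (h _ a.2 _ b.2) }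
    exact le_bot_iff.1 (hF ▸ CfsgLib.Comp.le_fitting hZ inferInstance)
  have hcomm : ∀ {K L : Subgroup G}, Cfsg.IsComponent K → Cfsg.IsComponent L → K ≠ L →
      K ≤ centralizer (L : Set G) := fun hK hL hne =>
    CfsgLib.Comp.le_centralizer_of_commutator_eq_bot ((CfsgLib.Comp.component_eq_or_commute hK hL).resolve_left hne)
  -- two commuting parts generating the layer, each normal in it
  have hpart : ∀ A B : Subgroup G, A ≤ centralizer (B : Set G) → A ⊔ B = Cfsg.layer G →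
      A ⊓ B = ⊥ ∧ A.IsSubnormal ∧ B.IsSubnormal := by
    intro A B hAB hsup
    have hBA : B ≤ centralizer (A : Set G) := le_centralizer_iff.1 hAB
    have hcen : A ⊓ B ≤ (center (Cfsg.layer G)).map (Cfsg.layer G).subtype := by
      intro t ht
      have htE : t ∈ Cfsg.layer G := hsup ▸ mem_sup_left ht.1
      refine ⟨⟨t, htE⟩, mem_center_iff.2 fun g => Subtype.ext ?_, rfl⟩
      have hle : Cfsg.layer G ≤ centralizer ({t} : Set G) := by
        rw [← hsup]
        refine sup_le (fun u hu => ?_) (fun u hu => ?_)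
        · exact mem_centralizer_singleton_iff.2 (mem_centralizer_iff.1 (hAB hu) t ht.2).symm
        · exact mem_centralizer_singleton_iff.2 (mem_centralizer_iff.1 (hBA hu) t ht.1).symm
      exact mem_centralizer_singleton_iff.1 (hle g.2)
    have hZn : ((center (Cfsg.layer G)).map (Cfsg.layer G).subtype) = ⊥ := by
      refine habel _ ConjAct.normal_of_characteristic_of_normal ?_
      rintro _ ⟨a, ha, rfl⟩ _ ⟨b, hb, rfl⟩
      exact congrArg Subtype.val (mem_center_iff.1 hb a)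
    have hsn : ∀ S : Subgroup G, S ≤ Cfsg.layer G → Cfsg.layer G ≤ normalizer (S : Set G) → S.IsSubnormal := by
      intro S hS hSn
      have := CfsgLib.Comp.isSubnormal_map_subtype hEn.isSubnormal (N := S.subgroupOf (Cfsg.layer G))
        ((normal_subgroupOf_iff_le_normalizer hS).2 hSn)
      rwa [map_subgroupOf_eq_of_le hS] at this
    refine ⟨le_bot_iff.1 (hcen.trans hZn.le), hsn A (hsup ▸ le_sup_left) ?_, hsn B (hsup ▸ le_sup_right) ?_⟩
    · rw [← hsup]; exact sup_le le_normalizer (hBA.trans (centralizer_le_normalizer _))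
    · rw [← hsup]; exact sup_le (hAB.trans (centralizer_le_normalizer _)) le_normalizer
  refine ⟨fun K hK hK1 => CfsgLib.Comp.layer_le fun L hL => ?_, fun K L hK hL => ?_⟩
  · rcases CfsgLib.Comp.component_le_or_commutator_eq_bot hL hK.isSubnormal with h | h
    · exact h
    · haveI := hK
      have hLK : L ≤ centralizer (K : Set G) := CfsgLib.Comp.le_centralizer_of_commutator_eq_bot h
      refine absurd ?_ (inf_ne_bot P hcore hfrat hna hgen hK1 (L := centralizer (K : Set G))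
        fun e => CfsgLib.Comp.component_ne_bot hL (le_bot_iff.1 (e ▸ hLK)))
      refine habel _ inferInstance fun a ha b hb => ?_
      exact (mem_centralizer_iff.1 hb.2 a ha.1)
  · by_contra hne
    push Not at hne
    set A := sSup {C : Subgroup G | ∃ x ∈ (P : Subgroup G), C = K.map (MulAut.conj x).toMonoidHom}
    set B := sSup {C : Subgroup G | Cfsg.IsComponent C ∧ ∀ x ∈ (P : Subgroup G), C ≠ K.map (MulAut.conj x).toMonoidHom}
    have hAB : A ≤ centralizer (B : Set G) := by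
      refine sSup_le ?_
      rintro C ⟨x, hx, rfl⟩
      rw [le_centralizer_iff]
      refine sSup_le ?_
      rintro D ⟨hD, hDne⟩
      exact hcomm hD (CfsgLib.Comp.component_conj x hK) (hDne x hx)
    have hsup : A ⊔ B = Cfsg.layer G := by
      refine le_antisymm (sup_le (sSup_le ?_) (sSup_le ?_)) (CfsgLib.Comp.layer_le fun C hC => ?_)
      · rintro C ⟨x, _, rfl⟩; exact CfsgLib.Comp.component_le_layer (CfsgLib.Comp.component_conj x hK)
      · rintro C ⟨hC, -⟩; exact CfsgLib.Comp.component_le_layer hC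
      · by_cases h : ∃ x ∈ (P : Subgroup G), C = K.map (MulAut.conj x).toMonoidHom
        · exact le_sup_of_le_left (le_sSup h)
        · push Not at h; exact le_sup_of_le_right (le_sSup ⟨hC, h⟩)
    obtain ⟨hdis, hA, hB⟩ := hpart A B hAB hsup
    have hnorm : ∀ S : Set (Subgroup G), (∀ C ∈ S, ∀ x ∈ (P : Subgroup G), C.map (MulAut.conj x).toMonoidHom ∈ S) →
        (P : Subgroup G) ≤ normalizer ((sSup S : Subgroup G) : Set G) := by
      intro S hS x hx
      rw [mem_normalizer_iff_map_conj_eq]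
      refine eq_of_le_of_card_ge ?_ (card_map_of_injective (MulEquiv.injective _)).ge
      rw [map_le_iff_le_comap]
      exact sSup_le fun C hC => map_le_iff_le_comap.1 (le_sSup (hS C hC x hx))
    have hconj : ∀ (C : Subgroup G) (x y : G), (C.map (MulAut.conj x).toMonoidHom).map (MulAut.conj y).toMonoidHom =
        C.map (MulAut.conj (y * x)).toMonoidHom := fun C x y => by
      rw [map_map, map_mul]; rfl
    have hPA : (P : Subgroup G) ≤ normalizer (A : Set G) := hnorm _ (by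
      rintro C ⟨y, hy, rfl⟩ x hx
      exact ⟨x * y, mul_mem hx hy, hconj K y x⟩)
    have hPB : (P : Subgroup G) ≤ normalizer (B : Set G) := hnorm _ (by
      rintro C ⟨hC, hCne⟩ x hx
      refine ⟨CfsgLib.Comp.component_conj x hC, fun y hy e => hCne (x⁻¹ * y) (mul_mem (inv_mem hx) hy) ?_⟩
      have := congrArg (fun D : Subgroup G => D.map (MulAut.conj x⁻¹).toMonoidHom) e
      simp only [hconj, inv_mul_cancel] at this
      have h1 : C.map (MulAut.conj (1 : G)).toMonoidHom = C := by ext; simp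
      rw [h1] at this
      exact this)
    have hnp : ∀ (C S : Subgroup G), Cfsg.IsComponent C → C ≤ S → S.IsSubnormal →
        (P : Subgroup G) ≤ normalizer (S : Set G) → ¬ (P : Subgroup G) ⊓ S ≤ frat P := by
      intro C S hC hCS hS hPS h
      have := ((isPGroup_of_le_frat P hcore S hS hPS h).to_le hCS).isNilpotent
      exact CfsgLib.Comp.component_not_solvable hC inferInstance
    exact false_of_disjoint P hna hgen hPA hPB
      (hnp K A hK (le_sSup ⟨1, one_mem _, by ext; simp⟩) hA hPA)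
      (hnp L B hL (le_sSup ⟨hL, hne⟩) hB hPB) hdis

include hcore hfrat hna hgen in
theorem main [hFn : (Cfsg.generalizedFittingSubgroup G).Normal] :
    (Cfsg.generalizedFittingSubgroup G ≠ ⊥ ∧ ∀ K : Subgroup G, K.Normal → K ≠ ⊥ → Cfsg.generalizedFittingSubgroup G ≤ K) ∧
      IsCyclic ↥((P : Subgroup G).map (QuotientGroup.mk' (Cfsg.generalizedFittingSubgroup G))) ∧
      (¬ IsMulCommutative (Cfsg.generalizedFittingSubgroup G) → ∀ K L : Subgroup G, Cfsg.IsComponent K → Cfsg.IsComponent L → ∃ x ∈ (P : Subgroup G), L = K.map (MulAut.conj x).toMonoidHom) := by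
  set F := Cfsg.generalizedFittingSubgroup G
  have hF1 : F ≠ ⊥ := fun e => by
    have htop : (⊤ : Subgroup G) ≤ F := le_trans (fun g _ => mem_centralizer_iff.2 fun u hu => by
      rw [SetLike.mem_coe, show Cfsg.generalizedFittingSubgroup G = ⊥ from e, mem_bot] at hu
      rw [hu, one_mul, mul_one]) CfsgLib.Comp.centralizer_Fstar_le
    exact hna ⟨⟨fun a b => Subtype.ext (by
      have h1 : ∀ u : G, u = 1 := fun u => mem_bot.1 (e.le (htop (mem_top u)))
      simp [h1 (a : G), h1 (b : G)])⟩⟩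
  have hfit : Cfsg.fittingSubgroup G = Cfsg.pCore p G := CfsgLib.Fitting.fittingSubgroup_eq_pCore hcore
  have hdef : F = Cfsg.layer G ⊔ Cfsg.fittingSubgroup G := rfl
  haveI hEn : (Cfsg.layer G).Normal := by
    refine ⟨fun x hx g => ?_⟩
    have := CfsgLib.Comp.map_layer_le (MulAut.conj g)
    exact this ⟨x, hx, rfl⟩
  haveI hFitn : (Cfsg.fittingSubgroup G).Normal := by
    refine ⟨fun x hx g => ?_⟩
    exact CfsgLib.Comp.map_fitting_le (MulAut.conj g) ⟨x, hx, rfl⟩
  have key : (∀ K : Subgroup G, K.Normal → K ≠ ⊥ → F ≤ K) ∧ (¬ IsMulCommutative F →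
      ∀ K L : Subgroup G, Cfsg.IsComponent K → Cfsg.IsComponent L →
        ∃ x ∈ (P : Subgroup G), L = K.map (MulAut.conj x).toMonoidHom) := by
    by_cases hF : Cfsg.fittingSubgroup G = ⊥
    · obtain ⟨h1, h2⟩ := layer_case P hcore hfrat hna hgen hF
      refine ⟨fun K hK hK1 => ?_, fun _ => h2⟩
      rw [hdef, hF, sup_bot_eq]
      exact h1 K hK hK1
    · have hE := layer_eq_bot P hcore hfrat hna hgen hF
      haveI : (Cfsg.pCore p G).Normal := hfit ▸ hFitn
      refine ⟨fun K hK hK1 => ?_, fun _ K L hK _ => absurd (le_bot_iff.1 (hE ▸ CfsgLib.Comp.component_le_layer hK)) (CfsgLib.Comp.component_ne_bot hK)⟩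
      haveI := hK
      rw [hdef, hE, bot_sup_eq, hfit]
      exact pCore_le P hcore hfrat hna hgen K hK1 (hfit ▸ hF)
  refine ⟨⟨hF1, key.1⟩, ?_, key.2⟩
  obtain ⟨x, hx, hgx⟩ := exists_gen P hgen F le_normalizer_of_normal (not_le_frat P hcore hfrat hF1)
  refine isCyclic_iff_exists_zpowers_eq_top.2 ⟨⟨QuotientGroup.mk' F x, mem_map_of_mem _ hx⟩, eq_top_iff.2 fun q _ => ?_⟩
  obtain ⟨y, hy, hq⟩ := q.2
  obtain ⟨k, hk⟩ := hgx y hy
  refine ⟨-k, Subtype.ext ?_⟩
  rw [← hq, Subgroup.coe_zpow]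
  show (QuotientGroup.mk' F x) ^ (-k) = _
  rw [← map_zpow]
  refine QuotientGroup.eq.2 ?_
  rwa [zpow_neg, inv_inv]

end

/-- Let p be a prime and G a finite group with a non-commutative Sylow p-subgroup P whose Frattini subgroup has index p² in P (P is generated by two elements). Suppose G has no nontrivial normal subgroup of order prime to p and the Frattini subgroup of P contains no nontrivial normal subgroup of G. Then the generalized Fitting subgroup F*(G) is the unique minimal normal subgroup of G, the image of P in G/F*(G) is cyclic, and if F*(G) is not commutative then P permutes the components of G transitively by conjugation. -/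
theorem result {G : Type*} [Group G] [Finite G] (p : ℕ) [Fact p.Prime] (P : Sylow p G) (hna : ¬ IsMulCommutative (P : Subgroup G)) (hgen : (frattini ↥(P : Subgroup G)).index = p ^ 2) (hcore : Cfsg.pPrimeCore p G = ⊥) (hfrat : ((frattini ↥(P : Subgroup G)).map (P : Subgroup G).subtype).normalCore = ⊥) [hFn : (Cfsg.generalizedFittingSubgroup G).Normal] :
    (Cfsg.generalizedFittingSubgroup G ≠ ⊥ ∧ ∀ K : Subgroup G, K.Normal → K ≠ ⊥ → Cfsg.generalizedFittingSubgroup G ≤ K) ∧
      IsCyclic ↥((P : Subgroup G).map (QuotientGroup.mk' (Cfsg.generalizedFittingSubgroup G))) ∧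
      (¬ IsMulCommutative (Cfsg.generalizedFittingSubgroup G) → ∀ K L : Subgroup G, Cfsg.IsComponent K → Cfsg.IsComponent L → ∃ x ∈ (P : Subgroup G), L = K.map (MulAut.conj x).toMonoidHom) := by
  exact main P hcore hfrat hna hgen

end Cfsg.Agent.S4172
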