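import Cfsg.Statements.S4177
import Mathlib.RepresentationTheory.Invariants

set_option autoImplicit false
open Cfsg

namespace Cfsg.Agent.S4177

/-- Let k be a field whose characteristic does not divide the order of the finite group H (for instance a field of characteristic zero), and ρ a k-linear representation of H on V. Let a be a vector whose H-orbit spans V. Then the space of H-fixed vectors has dimension at most 1, and every vector b whose H-orbit has size coprime to the size of the orbit of a is fixed by H. -/
theorem result {k V H : Type*} [Field k] [AddCommGroup V] [Module k V] [Group H] [Finite H]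
    (hchar : ¬ ringChar k ∣ Nat.card H) (ρ : Representation k H V) (a : V)
    (hspan : Submodule.span k {u : V | ∃ h : H, ρ h a = u} = ⊤) :
    Module.finrank k ρ.invariants ≤ 1 ∧
    ∀ b : V, (Nat.card {u : V | ∃ h : H, ρ h a = u}).Coprime (Nat.card {u : V | ∃ h : H, ρ h b = u}) → ∀ h : H, ρ h b = b := by
  classical
  have := Fintype.ofFinite H
  have hN : (Fintype.card H : k) ≠ 0 := by
    rw [Ne, ringChar.spec, ← Nat.card_eq_fintype_card]
    exact hchar
  let σ : V →ₗ[k] V := ∑ h : H, ρ h
  have hσ : ∀ w, σ w = ∑ h : H, ρ h w := fun w => by simp [σ]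
  have hσh : ∀ (g : H) w, σ (ρ g w) = σ w := fun g w => by
    rw [hσ, hσ]
    refine Fintype.sum_equiv (Equiv.mulRight g) _ _ fun h => ?_
    simp [map_mul]
  have hσa : ∀ w, σ w ∈ Submodule.span k {σ a} := by
    intro w
    have hw : w ∈ Submodule.span k {u : V | ∃ h : H, ρ h a = u} := hspan ▸ Submodule.mem_top
    induction hw using Submodule.span_induction with
    | mem u hu => obtain ⟨h, rfl⟩ := hu; rw [hσh]; exact Submodule.mem_span_singleton_self _
    | zero => rw [map_zero]; exact Submodule.zero_mem _
    | add u v _ _ hu hv => rw [map_add]; exact Submodule.add_mem _ hu hv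
    | smul c u _ hu => rw [map_smul]; exact Submodule.smul_mem _ c hu
  have hsub : ρ.invariants ≤ Submodule.span k {σ a} := by
    intro w hw
    have h1 : σ w = (Fintype.card H : k) • w := by
      rw [hσ, Finset.sum_congr rfl (fun h _ => hw h), Finset.sum_const, Finset.card_univ, Nat.cast_smul_eq_nsmul]
    have h2 := Submodule.smul_mem _ ((Fintype.card H : k))⁻¹ (hσa w)
    rwa [h1, inv_smul_smul₀ hN] at h2
  refine ⟨?_, fun b hcop => ?_⟩
  · refine (Submodule.finrank_mono hsub).trans ?_
    exact (finrank_span_le_card ({σ a} : Set V)).trans (by simp)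
  -- stabilisers of coprime index
  let stab : V → Subgroup H := fun u =>
    { carrier := {h | ρ h u = u}
      mul_mem' := fun {x y} (hx : ρ x u = u) (hy : ρ y u = u) => by
        show ρ (x * y) u = u
        rw [map_mul, Module.End.mul_apply, hy, hx]
      one_mem' := by show ρ 1 u = u; simp
      inv_mem' := fun {x} (hx : ρ x u = u) => by
        show ρ x⁻¹ u = u
        conv_lhs => rw [← hx]
        rw [← Module.End.mul_apply, ← map_mul, inv_mul_cancel, map_one, Module.End.one_apply] }
  have horb : ∀ u, Nat.card {v : V | ∃ h : H, ρ h u = v} = (stab u).index := by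
    intro u
    refine (Nat.card_congr (Equiv.ofBijective (fun q : H ⧸ stab u => Quotient.liftOn' q
      (fun h => (⟨ρ h u, h, rfl⟩ : {v : V | ∃ h : H, ρ h u = v})) fun x y hxy => ?_) ⟨?_, ?_⟩)).symm
    · have h1 : ρ (x⁻¹ * y) u = u := QuotientGroup.leftRel_apply.1 hxy
      apply Subtype.ext
      show ρ x u = ρ y u
      conv_lhs => rw [← h1]
      rw [← Module.End.mul_apply, ← map_mul, mul_inv_cancel_left]
    · intro q q' h
      induction q using Quotient.inductionOn' with | h x => ?_
      induction q' using Quotient.inductionOn' with | h y => ?_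
      refine Quotient.sound' (QuotientGroup.leftRel_apply.2 ?_)
      show ρ (x⁻¹ * y) u = u
      have h' : ρ x u = ρ y u := congrArg Subtype.val h
      rw [map_mul, Module.End.mul_apply, ← h', ← Module.End.mul_apply, ← map_mul, inv_mul_cancel,
        map_one, Module.End.one_apply]
    · rintro ⟨_, h, rfl⟩
      exact ⟨QuotientGroup.mk h, rfl⟩
  rw [horb, horb] at hcop
  set A := stab a
  set B := stab b
  -- `H = B A`
  have hBA : ∀ h : H, ∃ x ∈ B, ∃ y ∈ A, h = x * y := by
    have h1 : A.index * B.index ∣ (A ⊓ B).index :=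
      hcop.mul_dvd_of_dvd_of_dvd (Subgroup.index_dvd_of_le inf_le_left) (Subgroup.index_dvd_of_le inf_le_right)
    have h2 : A.relIndex B * B.index = (A ⊓ B).index := by
      rw [← Subgroup.inf_relIndex_right, Subgroup.relIndex_mul_index inf_le_right]
    have h3 : A.index ≤ A.relIndex B := by
      rw [← h2] at h1
      refine Nat.le_of_dvd ?_ (Nat.dvd_of_mul_dvd_mul_right
        (Nat.pos_of_ne_zero Subgroup.index_ne_zero_of_finite) h1)
      exact Nat.pos_of_ne_zero Subgroup.index_ne_zero_of_finite
    intro h
    let φ : ↥B ⧸ A.subgroupOf B → H ⧸ A := fun q => Quotient.liftOn' q (fun x => ((x : H) : H ⧸ A))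
      fun x y hxy => QuotientGroup.eq.2 (by
        simpa [Subgroup.mem_subgroupOf] using QuotientGroup.leftRel_apply.1 hxy)
    have hφ : Function.Injective φ := by
      intro q q' hq
      induction q using Quotient.inductionOn' with | h x => ?_
      induction q' using Quotient.inductionOn' with | h y => ?_
      refine Quotient.sound' (QuotientGroup.leftRel_apply.2 ?_)
      simpa [Subgroup.mem_subgroupOf] using QuotientGroup.eq.1 hq
    obtain ⟨q, hq⟩ := (hφ.bijective_of_nat_card_le h3).2 (h : H ⧸ A)
    induction q using Quotient.inductionOn' with | h x => ?_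
    exact ⟨x, x.2, (x : H)⁻¹ * h, QuotientGroup.eq.1 hq, (mul_inv_cancel_left _ _).symm⟩
  intro g
  let τ : V →ₗ[k] V := ∑ x : ↥B, ρ (x : H)
  have hτ : ∀ w, τ w = ∑ x : ↥B, ρ (x : H) w := fun w => by simp [τ]
  have hτinv : ∀ (x : H), x ∈ B → ∀ w, τ (ρ x w) = τ w := fun x hx w => by
    rw [hτ, hτ]
    refine Fintype.sum_equiv (Equiv.mulRight (⟨x, hx⟩ : ↥B)) _ _ fun y => ?_
    simp [map_mul]
  have hτinv' : ∀ (x : H), x ∈ B → ∀ w, ρ x (τ w) = τ w := fun x hx w => by
    rw [hτ, map_sum]
    refine Fintype.sum_equiv (Equiv.mulLeft (⟨x, hx⟩ : ↥B)) _ _ fun y => ?_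
    simp [map_mul]
  have horb' : ∀ h, τ (ρ h a) = τ a := by
    intro h
    obtain ⟨x, hx, y, hy, rfl⟩ := hBA h
    rw [map_mul, Module.End.mul_apply, show ρ y a = a from hy, hτinv x hx]
  have hspanτ : ∀ w, τ w ∈ Submodule.span k {τ a} := by
    intro w
    have hw : w ∈ Submodule.span k {u : V | ∃ h : H, ρ h a = u} := hspan ▸ Submodule.mem_top
    induction hw using Submodule.span_induction with
    | mem u hu => obtain ⟨h, rfl⟩ := hu; rw [horb']; exact Submodule.mem_span_singleton_self _
    | zero => rw [map_zero]; exact Submodule.zero_mem _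
    | add u v _ _ hu hv => rw [map_add]; exact Submodule.add_mem _ hu hv
    | smul c u _ hu => rw [map_smul]; exact Submodule.smul_mem _ c hu
  have hB : (Fintype.card ↥B : k) ≠ 0 := by
    intro h0
    apply hN
    obtain ⟨c, hc⟩ := B.card_subgroup_dvd_card
    rw [← Nat.card_eq_fintype_card, hc, Nat.cast_mul, Nat.card_eq_fintype_card, h0, zero_mul]
  -- `τ a` is proportional to `σ a`, hence invariant
  have hσfix : ρ g (σ a) = σ a := by
    rw [hσ, map_sum]
    refine Fintype.sum_equiv (Equiv.mulLeft g) _ _ fun h => ?_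
    simp [map_mul]
  have hfixτ : ρ g (τ a) = τ a := by
    have h1 : (Fintype.card H : k) • τ a = (Fintype.card ↥B : k) • σ a := by
      have e1 : τ (σ a) = (Fintype.card H : k) • τ a := by
        rw [hσ, map_sum, Finset.sum_congr rfl (fun h _ => horb' h), Finset.sum_const,
          Finset.card_univ, Nat.cast_smul_eq_nsmul]
      have e2 : τ (σ a) = (Fintype.card ↥B : k) • σ a := by
        have hfix : ∀ x : ↥B, ρ (x : H) (σ a) = σ a := fun x => by
          rw [hσ, map_sum]
          refine Fintype.sum_equiv (Equiv.mulLeft (x : H)) _ _ fun h => ?_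
          simp [map_mul]
        rw [hτ, Finset.sum_congr rfl (fun x _ => hfix x), Finset.sum_const, Finset.card_univ,
          Nat.cast_smul_eq_nsmul]
      rw [← e1, e2]
    rw [← inv_smul_smul₀ hN (τ a), h1]
    simp only [map_smul, hσfix]
  obtain ⟨c, hc⟩ := Submodule.mem_span_singleton.1 (hspanτ b)
  have hb : τ b = (Fintype.card ↥B : k) • b := by
    rw [hτ, Finset.sum_congr rfl (fun x _ => x.2), Finset.sum_const, Finset.card_univ,
      Nat.cast_smul_eq_nsmul]
  rw [← inv_smul_smul₀ hB b, ← hb, ← hc]
  simp only [map_smul, hfixτ]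

end Cfsg.Agent.S4177
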