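import Cfsg.Statements.S4178
import Mathlib.GroupTheory.Index
import Mathlib.LinearAlgebra.Dimension.RankNullity

set_option autoImplicit false
open Cfsg

namespace Cfsg.Agent.S4178

/-- Let F be a finite field with q elements, V a non-zero finite-dimensional F-space of dimension d, H a group of invertible linear maps of V, and R the subgroup of H generated by the elements of H that fix some non-zero vector (have eigenvalue 1). Then the index of R in H is at most q^d − 1; and if H leaves invariant some proper non-zero subspace, the index is at most q^(d/2) − 1. -/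
theorem result {F V : Type*} [Field F] [Fintype F] [AddCommGroup V] [Module F V] [FiniteDimensional F V] [Nontrivial V]
    (H : Subgroup (V ≃ₗ[F] V)) :
    (Subgroup.closure {h : ↥H | ∃ v : V, v ≠ 0 ∧ (h : V ≃ₗ[F] V) v = v}).index ≤ Fintype.card F ^ Module.finrank F V - 1 ∧
    ((∃ W : Submodule F V, W ≠ ⊥ ∧ W ≠ ⊤ ∧ ∀ h ∈ H, ∀ w ∈ W, h w ∈ W) →
      ((Subgroup.closure {h : ↥H | ∃ v : V, v ≠ 0 ∧ (h : V ≃ₗ[F] V) v = v}).index : ℝ) ≤ Real.sqrt ((Fintype.card F : ℝ) ^ Module.finrank F V) - 1) := by
  classical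
  set R := Subgroup.closure {h : ↥H | ∃ v : V, v ≠ 0 ∧ (h : V ≃ₗ[F] V) v = v} with hR
  have hV : Finite V := Module.finite_of_finite F
  have := Fintype.ofFinite V
  have hidx0 : Nat.card V = Fintype.card F ^ Module.finrank F V := by
    rw [Nat.card_eq_fintype_card, Module.card_eq_pow_finrank (K := F)]
  -- elements outside distinct cosets of `R` move a vector differently, so do they on invariant parts
  have key : ∀ (U : Type _) [Zero U] [Finite U] (u : U) (act : ↥H → U) (_ : ∀ h, act h ≠ 0)
      (_ : ∀ h k, act h = act k → h⁻¹ * k ∈ R), R.index ≤ Nat.card U - 1 := by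
    intro U _ _ u act h0 hcos
    have hinj : Function.Injective (fun q : ↥H ⧸ R => (⟨act q.out, h0 _⟩ : {w : U // w ≠ 0})) := by
      intro a b hab
      rw [← a.out_eq', ← b.out_eq']
      exact QuotientGroup.eq.2 (hcos _ _ (congrArg Subtype.val hab))
    refine (Nat.card_le_card_of_injective _ hinj).trans (le_of_eq ?_)
    have := Fintype.ofFinite U
    rw [Nat.card_eq_fintype_card, Nat.card_eq_fintype_card, Fintype.card_subtype_compl,
      Fintype.card_subtype_eq]
  obtain ⟨v₀, hv₀⟩ := exists_ne (0 : V)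
  refine ⟨?_, ?_⟩
  · rw [← hidx0]
    refine key V v₀ (fun h => (h : V ≃ₗ[F] V) v₀) (fun h h1 => hv₀ ((LinearEquiv.map_eq_zero_iff _).1 h1))
      fun h k hk => Subgroup.subset_closure ⟨v₀, hv₀, ?_⟩
    simp [← hk]
  · rintro ⟨W, hW0, hW1, hinv⟩
    obtain ⟨w₀, hw₀, hw₀0⟩ := (Submodule.ne_bot_iff W).1 hW0
    have h1 : R.index ≤ Nat.card W - 1 := by
      refine key W ⟨w₀, hw₀⟩ (fun h => ⟨(h : V ≃ₗ[F] V) w₀, hinv _ h.2 _ hw₀⟩)
        (fun h h1 => hw₀0 ((LinearEquiv.map_eq_zero_iff (h : V ≃ₗ[F] V)).1 (congrArg Subtype.val h1)))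
        fun h k hk => Subgroup.subset_closure ⟨w₀, hw₀0, ?_⟩
      have hk' := congrArg Subtype.val hk
      simp only at hk'
      simp [← hk']
    obtain ⟨x₀, hx₀⟩ : ∃ x₀ : V, x₀ ∉ W := by
      by_contra h
      push Not at h
      exact hW1 (Submodule.eq_top_iff'.2 h)
    have h2 : R.index ≤ Nat.card (V ⧸ W) - 1 := by
      refine key (V ⧸ W) (Submodule.Quotient.mk x₀) (fun h => Submodule.Quotient.mk ((h : V ≃ₗ[F] V) x₀))
        (fun h h1 => ?_) fun h k hk => ?_
      · rw [Submodule.Quotient.mk_eq_zero] at h1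
        apply hx₀
        have := hinv _ (H.inv_mem h.2) _ h1
        simpa using this
      · rw [Submodule.Quotient.eq] at hk
        set g : ↥H := h⁻¹ * k with hg
        have hgx : (g : V ≃ₗ[F] V) x₀ - x₀ ∈ W := by
          have := hinv _ (H.inv_mem h.2) _ (W.neg_mem hk)
          simpa [hg, map_sub, neg_sub] using this
        -- `g - 1` maps `V` into a proper subspace
        let T : V →ₗ[F] V := ((g : V ≃ₗ[F] V) : V →ₗ[F] V) - LinearMap.id
        by_contra hgR
        have hinjT : Function.Injective T := by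
          rw [← LinearMap.ker_eq_bot, Submodule.eq_bot_iff]
          intro y hy
          by_contra hy0
          refine hgR (Subgroup.subset_closure ⟨y, hy0, ?_⟩)
          simpa [T, sub_eq_zero] using hy
        have hWT : ∀ y ∈ W, T y ∈ W := fun y hy => by
          simpa [T] using W.sub_mem (hinv _ g.2 _ hy) hy
        let TW : W → W := fun y => ⟨T y, hWT y y.2⟩
        have hsurjW : Function.Surjective TW := Finite.injective_iff_surjective.1
          (fun a b hab => Subtype.ext (hinjT (congrArg Subtype.val hab)))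
        obtain ⟨y, hy⟩ := hsurjW ⟨T x₀, by simpa [T] using hgx⟩
        exact hx₀ (hinjT (congrArg Subtype.val hy) ▸ y.2)
    have hprod : Nat.card V = Nat.card W * Nat.card (V ⧸ W) := by
      rw [mul_comm]; exact Submodule.card_eq_card_quotient_mul_card W |>.trans (mul_comm _ _)
    have hq : ((R.index : ℝ) + 1) ^ 2 ≤ (Fintype.card F : ℝ) ^ Module.finrank F V := by
      have h3 : R.index + 1 ≤ Nat.card W := by
        have := Nat.card_pos (α := W); omega
      have h4 : R.index + 1 ≤ Nat.card (V ⧸ W) := by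
        have := Nat.card_pos (α := V ⧸ W); omega
      have h5 : (R.index + 1) ^ 2 ≤ Fintype.card F ^ Module.finrank F V := by
        rw [← hidx0, hprod, pow_two]; exact Nat.mul_le_mul h3 h4
      exact_mod_cast h5
    have hs := Real.sqrt_le_sqrt hq
    rw [Real.sqrt_sq (by positivity)] at hs
    linarith

end Cfsg.Agent.S4178
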