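import Cfsg.Statements.S4186
import Mathlib.GroupTheory.PGroup

set_option autoImplicit false
open Cfsg

namespace Cfsg.Agent.S4186

/-- Let T and X be subgroups of a group with T a finite 2-group normalizing X but not centralizing it. Then some element of T inverts some non-identity element of X under conjugation. -/
theorem result {G : Type*} [Group G] (T X : Subgroup G) [Finite ↥T] (hT : IsPGroup 2 ↥T) (hTN : T ≤ Subgroup.normalizer (X : Set G)) (hTC : ¬ T ≤ Subgroup.centralizer (X : Set G)) : ∃ t ∈ T, ∃ x ∈ X, x ≠ 1 ∧ t * x * t⁻¹ = x⁻¹ := by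
  obtain ⟨t, ht, htC, htC2⟩ : ∃ t ∈ T, t ∉ Subgroup.centralizer (X : Set G) ∧
      t ^ 2 ∈ Subgroup.centralizer (X : Set G) := by
    obtain ⟨t0, ht0, ht0C⟩ := SetLike.not_le_iff_exists.1 hTC
    obtain ⟨k, hk⟩ := hT ⟨t0, ht0⟩
    have hk' : t0 ^ 2 ^ k = 1 := by simpa using congrArg Subtype.val hk
    classical
    have hex : ∃ j, t0 ^ 2 ^ j ∈ Subgroup.centralizer (X : Set G) := ⟨k, hk' ▸ Subgroup.one_mem _⟩
    have hj0 : Nat.find hex ≠ 0 := fun h => by
      have := Nat.find_spec hex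
      rw [h, pow_zero, pow_one] at this
      exact ht0C this
    refine ⟨t0 ^ 2 ^ (Nat.find hex - 1), T.pow_mem ht0 _, Nat.find_min hex (by omega), ?_⟩
    rw [← pow_mul, ← pow_succ, show Nat.find hex - 1 + 1 = Nat.find hex by omega]
    exact Nat.find_spec hex
  obtain ⟨x, hx, hne⟩ : ∃ x ∈ X, t * x ≠ x * t := by
    by_contra h
    push Not at h
    exact htC (Subgroup.mem_centralizer_iff.2 fun y hy => (h y hy).symm)
  refine ⟨t, ht, x⁻¹ * (t * x * t⁻¹), X.mul_mem (X.inv_mem hx)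
    ((Subgroup.mem_normalizer_iff.1 (hTN ht) x).1 hx), fun h => hne ?_, ?_⟩
  · rw [inv_mul_eq_one] at h
    exact (mul_inv_eq_iff_eq_mul.1 h.symm)
  · have h2 : t * t * x = x * (t * t) := by
      have := Subgroup.mem_centralizer_iff.1 htC2 x hx
      rw [pow_two] at this
      exact this.symm
    calc t * (x⁻¹ * (t * x * t⁻¹)) * t⁻¹ = t * x⁻¹ * t⁻¹ * (t * t * x) * (t * t)⁻¹ := by group
      _ = t * x⁻¹ * t⁻¹ * (x * (t * t)) * (t * t)⁻¹ := by rw [h2]
      _ = (x⁻¹ * (t * x * t⁻¹))⁻¹ := by group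

end Cfsg.Agent.S4186
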