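import Cfsg.Statements.S4190
import Cfsg.Agent.FitIndex.Reduction

set_option autoImplicit false
open Cfsg

namespace Cfsg.Agent.S4190

theorem small_primes {p : ℕ} (hp : p.Prime) (h : p < 53) : (p : ℝ) ≤ 9 * Real.logb 2 p := by
  have h1 : 2 ^ ((p + 2) / 3) ≤ p ^ 3 := by
    have := hp.two_le
    interval_cases p <;> first | (exfalso; revert hp; norm_num; done) | norm_num
  have h2 : ((((p + 2) / 3 : ℕ) : ℕ) : ℝ) ≤ Real.logb 2 ((p : ℝ) ^ 3) := by
    rw [Real.le_logb_iff_rpow_le (by norm_num) (pow_pos (by exact_mod_cast hp.pos) 3), Real.rpow_natCast]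
    exact_mod_cast h1
  rw [Real.logb_pow] at h2
  have h3 : (p : ℝ) ≤ 3 * (((p + 2) / 3 : ℕ) : ℝ) := by exact_mod_cast (by omega : p ≤ 3 * ((p + 2) / 3))
  push_cast at h2
  linarith

/-- Let G be a finite solvable group and p a prime dividing the index of the Fitting subgroup of G. Then the number of conjugacy classes of G is at least p/(3·log₂ p). -/
theorem result {G : Type*} [Group G] [Finite G] (hG : Group.IsSolvable G) (p : ℕ) [Fact p.Prime] (hp : p ∣ (Cfsg.fittingSubgroup G).index) : (p : ℝ) / (3 * Real.logb 2 p) ≤ Nat.card (ConjClasses G) := by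
  have hp' := (Fact.out : p.Prime)
  have hL : 0 < Real.logb 2 p := Real.logb_pos (by norm_num) (by exact_mod_cast hp'.one_lt)
  rw [div_le_iff₀ (by positivity)]
  rcases Nat.lt_or_ge p 53 with h | h
  · have h3 : (3 : ℝ) ≤ Nat.card (ConjClasses G) := by
      exact_mod_cast CfsgLib.FitIndex.three_le_classes (G := G) fun e => hp'.ne_one (Nat.dvd_one.1 (e ▸ hp))
    have := small_primes hp' h
    nlinarith
  · have := CfsgLib.FitIndex.class_bound p h G hG hp
    linarith

end Cfsg.Agent.S4190
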