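import Cfsg.Statements.S4192
import Cfsg.Agent.RealGraph.Structure

set_option autoImplicit false
open Cfsg

namespace Cfsg.Agent.S4192

/-- Let G be a finite group; call an element real when it is conjugate to its inverse, and say that the real-class-size graph of a group is disconnected when the primes dividing its real class sizes split into two non-empty disjoint parts with no real class size divisible by a prime from each part. If the real-class-size graph of G is disconnected, then some real class size of G is even, and either the Sylow 2-subgroups of G are normal, or the subgroup K generated by the 2-elements of G (the smallest normal subgroup of odd index) again has a disconnected real-class-size graph and every real class size of K is odd or a power of 2. -/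
theorem result {G : Type*} [Group G] [Finite G] (h : (∃ π₁ π₂ : Set ℕ, π₁.Nonempty ∧ π₂.Nonempty ∧ Disjoint π₁ π₂ ∧ (∀ q ∈ π₁ ∪ π₂, q.Prime ∧ ∃ n ∈ {n : ℕ | ∃ x : G, IsConj x x⁻¹ ∧ (Subgroup.centralizer ({x} : Set G)).index = n}, q ∣ n) ∧ (∀ q : ℕ, q.Prime → (∃ n ∈ {n : ℕ | ∃ x : G, IsConj x x⁻¹ ∧ (Subgroup.centralizer ({x} : Set G)).index = n}, q ∣ n) → q ∈ π₁ ∨ q ∈ π₂) ∧ ∀ a ∈ π₁, ∀ b ∈ π₂, ∀ n ∈ {n : ℕ | ∃ x : G, IsConj x x⁻¹ ∧ (Subgroup.centralizer ({x} : Set G)).index = n}, ¬ (a ∣ n ∧ b ∣ n))) : (∃ n ∈ {n : ℕ | ∃ x : G, IsConj x x⁻¹ ∧ (Subgroup.centralizer ({x} : Set G)).index = n}, 2 ∣ n) ∧ ((∀ P : Sylow 2 G, (P : Subgroup G).Normal) ∨ ((∃ π₁ π₂ : Set ℕ, π₁.Nonempty ∧ π₂.Nonempty ∧ Disjoint π₁ π₂ ∧ (∀ q ∈ π₁ ∪ π₂, q.Prime ∧ ∃ n ∈ {n : ℕ | ∃ x : ↥(Subgroup.closure {g : G | ∃ k : ℕ, orderOf g = 2 ^ k}), IsConj x x⁻¹ ∧ (Subgroup.centralizer ({x}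 : Set ↥(Subgroup.closure {g : G | ∃ k : ℕ, orderOf g = 2 ^ k}))).index = n}, q ∣ n) ∧ (∀ q : ℕ, q.Prime → (∃ n ∈ {n : ℕ | ∃ x : ↥(Subgroup.closure {g : G | ∃ k : ℕ, orderOf g = 2 ^ k}), IsConj x x⁻¹ ∧ (Subgroup.centralizer ({x} : Set ↥(Subgroup.closure {g : G | ∃ k : ℕ, orderOf g = 2 ^ k}))).index = n}, q ∣ n) → q ∈ π₁ ∨ q ∈ π₂) ∧ ∀ a ∈ π₁, ∀ b ∈ π₂, ∀ n ∈ {n : ℕ | ∃ x : ↥(Subgroup.closure {g : G | ∃ k : ℕ, orderOf g = 2 ^ k}), IsConj x x⁻¹ ∧ (Subgroup.centralizer ({x} : Set ↥(Subgroup.closure {g : G | ∃ k : ℕ, orderOf g = 2 ^ k}))).index = n}, ¬ (a ∣ n ∧ b ∣ n)) ∧ ∀ n ∈ {n : ℕ | ∃ x : ↥(Subgroup.closure {g : G | ∃ k : ℕ, orderOf g = 2 ^ k}), IsConj x x⁻¹ ∧ (Subgroup.centralizer ({x} : Set ↥(Subgroup.closure {g : G | ∃ k : ℕ, orderOf g = 2 ^ k}))).index = n}, Odd n ∨ ∃ j : ℕ, n = 2 ^ j)) := by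
  obtain ⟨π₁, π₂, h₁, h₂, hdisj, hsub, hcover, hno⟩ := h
  obtain ⟨A, B, hA0, hB0, hd, hB2, hs, hc, hn⟩ : ∃ A B : Set ℕ, A.Nonempty ∧ B.Nonempty ∧
      Disjoint A B ∧ 2 ∉ B ∧ (∀ q, q ∈ A ∨ q ∈ B → q.Prime ∧ ∃ x : G, IsConj x x⁻¹ ∧
        q ∣ (Subgroup.centralizer ({x} : Set G)).index) ∧
      (∀ q : ℕ, q.Prime → (∃ x : G, IsConj x x⁻¹ ∧
        q ∣ (Subgroup.centralizer ({x} : Set G)).index) → q ∈ A ∨ q ∈ B) ∧
      ∀ a ∈ A, ∀ b ∈ B, ∀ x : G, IsConj x x⁻¹ → ¬ (a ∣ (Subgroup.centralizer ({x} : Set G)).index ∧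
        b ∣ (Subgroup.centralizer ({x} : Set G)).index) := by
    have hs' : ∀ q, q ∈ π₁ ∨ q ∈ π₂ → q.Prime ∧ ∃ x : G, IsConj x x⁻¹ ∧
        q ∣ (Subgroup.centralizer ({x} : Set G)).index := fun q hq => by
      obtain ⟨hp, n, ⟨x, hx, rfl⟩, hqn⟩ := hsub q hq
      exact ⟨hp, x, hx, hqn⟩
    have hc' : ∀ q : ℕ, q.Prime → (∃ x : G, IsConj x x⁻¹ ∧
        q ∣ (Subgroup.centralizer ({x} : Set G)).index) → q ∈ π₁ ∨ q ∈ π₂ :=
      fun q hq ⟨x, hx, hqx⟩ => hcover q hq ⟨_, ⟨x, hx, rfl⟩, hqx⟩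
    by_cases h : 2 ∈ π₂
    · exact ⟨π₂, π₁, h₂, h₁, hdisj.symm, fun h' => Set.disjoint_left.1 hdisj h' h,
        fun q hq => hs' q hq.symm, fun q hq he => (hc' q hq he).symm,
        fun a ha b hb x hx hab => hno b hb a ha _ ⟨x, hx, rfl⟩ ⟨hab.2, hab.1⟩⟩
    · exact ⟨π₁, π₂, h₁, h₂, hdisj, h, hs', hc',
        fun a ha b hb x hx hab => hno a ha b hb _ ⟨x, hx, rfl⟩ hab⟩
  have hUB := CfsgLib.RealGraph.unmixed_of hB2 (fun q hq => (hs q (Or.inr hq)).1) hc hn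
  obtain ⟨b, hb⟩ := hB0
  obtain ⟨-, y, hy, hby⟩ := hs b (Or.inr hb)
  refine ⟨?_, ?_⟩
  · by_cases hA2 : 2 ∈ A
    · obtain ⟨-, x, hx, hx2⟩ := hs 2 (Or.inl hA2)
      exact ⟨_, ⟨x, hx, rfl⟩, hx2⟩
    · obtain ⟨a, ha⟩ := hA0
      obtain ⟨-, w, hw, haw⟩ := hs a (Or.inl ha)
      have hUA := CfsgLib.RealGraph.unmixed_of hA2 (fun q hq => (hs q (Or.inl hq)).1)
        (fun q hq he => (hc q hq he).symm) (fun b hb a ha x hx hab => hn a ha b hb x hx hab.symm)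
      obtain ⟨x, hx, hx2⟩ := CfsgLib.RealGraph.exists_even_size hUA hUB
        (w := w) ⟨hw, a, ha, haw⟩ (y := y) ⟨hy, b, hb, hby⟩ hd
      exact ⟨_, ⟨x, hx, rfl⟩, hx2⟩
  · by_cases hnn : ∀ P : Sylow 2 G, (P : Subgroup G).Normal
    · exact Or.inl hnn
    refine Or.inr ?_
    have hsol := CfsgLib.RealGraph.solvable_of_good hUB (y := y) ⟨hy, b, hb, hby⟩
    have hK := CfsgLib.RealGraph.structure_twoGen hUB (y := y) ⟨hy, b, hb, hby⟩ hsol hnn _ rfl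
    generalize Subgroup.closure {g : G | ∃ k : ℕ, orderOf g = 2 ^ k} = K at hK ⊢
    obtain ⟨⟨u, hu, hue⟩, ⟨v, hv, hvo, hv1⟩, hall⟩ := hK
    refine ⟨⟨{2}, {q | q.Prime ∧ ∃ z : K, IsConj z z⁻¹ ∧
      Odd (Subgroup.centralizer ({z} : Set K)).index ∧
      q ∣ (Subgroup.centralizer ({z} : Set K)).index}, Set.singleton_nonempty 2, ?_, ?_, ?_, ?_, ?_⟩,
      ?_⟩
    · obtain ⟨q, hq, hqv⟩ := Nat.exists_prime_and_dvd hv1
      exact ⟨q, hq, v, hv, hvo, hqv⟩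
    · refine Set.disjoint_singleton_left.2 ?_
      rintro ⟨-, z, -, hzo, hz2⟩
      exact (Nat.not_even_iff_odd.2 hzo) (even_iff_two_dvd.2 hz2)
    · rintro q (rfl | ⟨hq, z, hz, -, hqz⟩)
      · exact ⟨Nat.prime_two, _, ⟨u, hu, rfl⟩, even_iff_two_dvd.1 hue⟩
      · exact ⟨hq, _, ⟨z, hz, rfl⟩, hqz⟩
    · rintro q hq ⟨n, ⟨z, hz, rfl⟩, hqz⟩
      rcases hall z hz with ho | ⟨j, hj⟩
      · exact Or.inr ⟨hq, z, hz, ho, hqz⟩
      · rw [hj] at hqz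
        exact Or.inl (Set.mem_singleton_iff.2
          ((Nat.prime_dvd_prime_iff_eq hq Nat.prime_two).1 (hq.dvd_of_dvd_pow hqz)))
    · rintro a rfl q ⟨hq, z, hz, ho, hqz⟩ n ⟨z', hz', rfl⟩ ⟨h2, hq'⟩
      rcases hall z' hz' with ho' | ⟨j, hj⟩
      · exact (Nat.not_even_iff_odd.2 ho') (even_iff_two_dvd.2 h2)
      · rw [hj] at hq'
        have := (Nat.prime_dvd_prime_iff_eq hq Nat.prime_two).1 (hq.dvd_of_dvd_pow hq')
        subst this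
        exact (Nat.not_even_iff_odd.2 ho) (even_iff_two_dvd.2 hqz)
    · rintro n ⟨z, hz, rfl⟩
      exact hall z hz

end Cfsg.Agent.S4192
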