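import Cfsg.Statements.S4194
import Cfsg.Agent.CentralConj.TwoAbelian

set_option autoImplicit false
open Cfsg

namespace Cfsg.Agent.S4194

/-- A finite group G has commutative Sylow 2-subgroups if and only if every 2-element of G (element of order a power of 2) is 2-central, that is, its centralizer contains a Sylow 2-subgroup of G. -/
theorem result {G : Type*} [Group G] [Finite G] (P : Sylow 2 G) :
    IsMulCommutative (P : Subgroup G) ↔ ∀ x : G, (∃ k : ℕ, orderOf x = 2 ^ k) → (∃ Q : Sylow 2 G, (Q : Subgroup G) ≤ Subgroup.centralizer ({x} : Set G)) := by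
  constructor
  · intro hab x hx
    obtain ⟨k, hk⟩ := hx
    obtain ⟨R, hR⟩ := (IsPGroup.of_card (n := k) (by rw [Nat.card_zpowers, hk]) :
      IsPGroup 2 (Subgroup.zpowers x)).exists_le_sylow
    obtain ⟨g, hg⟩ := MulAction.exists_smul_eq G P R
    refine ⟨R, fun q hq => Subgroup.mem_centralizer_singleton_iff.2 ?_⟩
    have hxR : x ∈ (R : Subgroup G) := hR (Subgroup.mem_zpowers x)
    rw [← hg] at hq hxR
    obtain ⟨a, ha, rfl⟩ := hq
    obtain ⟨b, hb, rfl⟩ := hxR
    show MulAut.conj g a * MulAut.conj g b = MulAut.conj g b * MulAut.conj g a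
    rw [← map_mul, ← map_mul]
    exact congrArg _ (congrArg Subtype.val (hab.is_comm.comm ⟨a, ha⟩ ⟨b, hb⟩))
  · exact fun h => CfsgLib.CentralConj.sylowTwo_comm h P

end Cfsg.Agent.S4194
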