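import Cfsg.Statements.S4195

set_option autoImplicit false
set_option linter.style.haveILetI false
open Cfsg

namespace Cfsg.Agent.S4195

/-- Let x be a non-identity element of a finite group G whose centralizer contains a Sylow 2-subgroup of G. If x is conjugate to its inverse, then x has order 2. -/
theorem result {G : Type*} [Group G] [Finite G] (x : G) (hx : x ≠ 1) (P : Sylow 2 G) (hP : (P : Subgroup G) ≤ Subgroup.centralizer ({x} : Set G)) (hreal : IsConj x x⁻¹) : orderOf x = 2 := by
  classical
  by_contra hne2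
  have hne : x ≠ x⁻¹ := fun h => hne2 (orderOf_eq_prime (by rw [sq]; exact mul_eq_one_iff_eq_inv.2 h) hx)
  have hidx : (Subgroup.centralizer ({x} : Set G)).index =
      Nat.card {y : G // IsConj x y} := by
    have hidx : (Subgroup.centralizer ({x} : Set G)).index =
        (MulAction.stabilizer (ConjAct G) x).index := by
      rw [Subgroup.centralizer_eq_comap_stabilizer]
      exact Subgroup.index_comap_of_surjective (f := (ConjAct.toConjAct (G := G)).toMonoidHom) _
        ConjAct.toConjAct.surjective
    rw [hidx, MulAction.index_stabilizer, ← Nat.card_coe_set_eq]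
    exact Nat.card_congr (Equiv.subtypeEquivRight fun y => by
      rw [ConjAct.mem_orbit_conjAct]; exact isConj_comm)
  have hinv : ∀ y : G, IsConj x y → IsConj x y⁻¹ := fun y hy => by
    obtain ⟨c, rfl⟩ := isConj_iff.1 hy
    exact hreal.trans (isConj_iff.2 ⟨c, by simp [mul_assoc]⟩)
  let ι : Equiv.Perm {y : G // IsConj x y} :=
    { toFun := fun y => ⟨(y : G)⁻¹, hinv _ y.2⟩
      invFun := fun y => ⟨(y : G)⁻¹, hinv _ y.2⟩
      left_inv := fun y => Subtype.ext (inv_inv _)
      right_inv := fun y => Subtype.ext (inv_inv _) }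
  haveI := Fintype.ofFinite G
  have hodd : ¬ 2 ∣ Fintype.card {y : G // IsConj x y} := by
    rw [← Nat.card_eq_fintype_card, ← hidx]
    exact fun h => P.not_dvd_index (h.trans (Subgroup.index_dvd_of_le hP))
  haveI : Fact (Nat.Prime 2) := ⟨Nat.prime_two⟩
  obtain ⟨⟨y, hy⟩, hfix⟩ := Equiv.Perm.exists_fixed_point_of_prime (p := 2) (n := 1) hodd
    (σ := ι) (by ext z; simp [ι, pow_two])
  obtain ⟨c, rfl⟩ := isConj_iff.1 hy
  have : (c * x * c⁻¹)⁻¹ = c * x * c⁻¹ := congrArg Subtype.val hfix
  apply hne
  simpa [mul_assoc] using this.symm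

end Cfsg.Agent.S4195
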