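import Cfsg.Statements.S4196
import Cfsg.Agent.S4195
import Cfsg.Agent.SylowBasic.CentralClass

set_option autoImplicit false
set_option linter.style.haveILetI false
open Cfsg

namespace Cfsg.Agent.S4196

/-- A finite group G has elementary abelian Sylow 2-subgroups (commutative with every element squaring to the identity) if and only if every 2-element of G has a Sylow 2-subgroup in its centralizer and is conjugate to its inverse. -/
theorem result {G : Type*} [Group G] [Finite G] (P : Sylow 2 G) :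
    (IsMulCommutative (P : Subgroup G) ∧ ∀ x ∈ (P : Subgroup G), x ^ 2 = 1) ↔
      ∀ x : G, (∃ k : ℕ, orderOf x = 2 ^ k) → (∃ Q : Sylow 2 G, (Q : Subgroup G) ≤ Subgroup.centralizer ({x} : Set G)) ∧ IsConj x x⁻¹ := by
  haveI : Fact (Nat.Prime 2) := ⟨Nat.prime_two⟩
  constructor
  · rintro ⟨hab, hsq⟩ x ⟨k, hk⟩
    have hZ : IsPGroup 2 (Subgroup.zpowers x) := IsPGroup.of_card (n := k) (by rw [Nat.card_zpowers, hk])
    obtain ⟨Q, hQ⟩ := hZ.exists_le_sylow
    obtain ⟨g, rfl⟩ := MulAction.exists_smul_eq G P Q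
    have hxQ : x ∈ ((g • P : Sylow 2 G) : Subgroup G) := hQ (Subgroup.mem_zpowers x)
    have hmem : ∀ y, y ∈ ((g • P : Sylow 2 G) : Subgroup G) → g⁻¹ * y * g ∈ (P : Subgroup G) := by
      intro y hy
      rw [Sylow.coe_subgroup_smul, Subgroup.mem_pointwise_smul_iff_inv_smul_mem] at hy
      simpa [← map_inv] using hy
    refine ⟨⟨g • P, fun y hy => Subgroup.mem_centralizer_singleton_iff.2 ?_⟩, ?_⟩
    · have := congrArg (fun w => g * w * g⁻¹)
        (setLike_mul_comm (s := (P : Subgroup G)) (hmem y hy) (hmem x hxQ))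
      simpa [mul_assoc] using this
    · have h2 := congrArg (fun w => g * w * g⁻¹) (hsq _ (hmem x hxQ))
      have h3 : x * x = 1 := by simpa [sq, mul_assoc] using h2
      rw [← eq_inv_of_mul_eq_one_left h3]
  · intro h
    have hsq : ∀ x ∈ (P : Subgroup G), x ^ 2 = 1 := by
      intro x hx
      by_cases hx1 : x = 1
      · simp [hx1]
      obtain ⟨k, hk⟩ := P.isPGroup' ⟨x, hx⟩
      obtain ⟨i, -, hi⟩ := (Nat.dvd_prime_pow Nat.prime_two).1 (orderOf_dvd_of_pow_eq_one hk)
      obtain ⟨⟨Q, hQ⟩, hreal⟩ := h x ⟨i, by rw [← hi, Subgroup.orderOf_mk]⟩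
      have := Cfsg.Agent.S4195.result x hx1 Q hQ hreal
      rw [← this]; exact pow_orderOf_eq_one x
    refine ⟨⟨⟨fun a b => Subtype.ext ?_⟩⟩, hsq⟩
    have ha := hsq _ a.2
    have hb := hsq _ b.2
    have hab := hsq _ (mul_mem a.2 b.2)
    rw [sq] at ha hb hab
    show (a : G) * b = b * a
    calc (a : G) * b = ((a : G) * b)⁻¹ := eq_inv_of_mul_eq_one_left hab
      _ = (b : G)⁻¹ * (a : G)⁻¹ := mul_inv_rev _ _
      _ = b * a := by rw [← eq_inv_of_mul_eq_one_left ha, ← eq_inv_of_mul_eq_one_left hb]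

end Cfsg.Agent.S4196
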