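import Cfsg.Statements.S4198
import Mathlib.GroupTheory.Perm.Cycle.Type
import Mathlib.GroupTheory.SpecificGroups.Alternating.Centralizer
import Mathlib.GroupTheory.Perm.Centralizer
import Mathlib.Combinatorics.Enumerative.Partition.Basic

set_option autoImplicit false
set_option linter.style.haveILetI false
open Cfsg

namespace Cfsg.Agent.S4198

theorem card_partition_succ_le (n : ℕ) : Fintype.card (Nat.Partition (n + 1)) ≤ 2 * Fintype.card (Nat.Partition n) := by
  classical
  have hne : ∀ q : Nat.Partition (n + 1), ∃ x, x ∈ q.parts := fun q => by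
    apply Multiset.exists_mem_of_ne_zero
    intro h
    have := q.parts_sum
    rw [h, Multiset.sum_zero] at this
    omega
  let m : Nat.Partition (n + 1) → ℕ := fun q => Nat.find (hne q)
  have hm : ∀ q, m q ∈ q.parts := fun q => Nat.find_spec (hne q)
  have hmin : ∀ q, ∀ x ∈ q.parts, m q ≤ x := fun q x hx => Nat.find_min' (hne q) hx
  have hsum : ∀ q : Nat.Partition (n + 1), m q + (q.parts.erase (m q)).sum = n + 1 := fun q => by
    rw [← Multiset.sum_cons, Multiset.cons_erase (hm q), q.parts_sum]
  let f : Nat.Partition (n + 1) → Bool × Nat.Partition n := fun q =>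
    if h : m q = 1 then (true, ⟨q.parts.erase (m q), fun {i} hi => q.parts_pos (Multiset.mem_of_mem_erase hi), by
      have := hsum q; omega⟩)
    else (false, ⟨(m q - 1) ::ₘ q.parts.erase (m q), fun {i} hi => by
      rcases Multiset.mem_cons.1 hi with rfl | hi
      · have := q.parts_pos (hm q); omega
      · exact q.parts_pos (Multiset.mem_of_mem_erase hi), by
      have := q.parts_pos (hm q)
      have := hsum q
      rw [Multiset.sum_cons]; omega⟩)
  refine (Fintype.card_le_of_injective f fun q q' h => ?_).trans (by simp)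
  have h1 := congrArg Prod.fst h
  have h2 := congrArg (fun z => z.2.parts) h
  have key : m q = m q' → q.parts.erase (m q) = q'.parts.erase (m q') → q = q' := fun e e' => by
    refine Nat.Partition.ext ?_
    rw [← Multiset.cons_erase (hm q), e', e, Multiset.cons_erase (hm q')]
  by_cases hq : m q = 1 <;> by_cases hq' : m q' = 1 <;> simp only [f, hq, hq', dif_pos, dif_neg, not_false_iff] at h1 h2
  · exact key (hq.trans hq'.symm) (by rw [hq, hq']; exact h2)
  · exact absurd h1 (by simp)
  · exact absurd h1 (by simp)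
  · have hlt : ∀ (r : Nat.Partition (n + 1)), m r ≠ 1 → ∀ x ∈ (m r - 1) ::ₘ r.parts.erase (m r), m r - 1 ≤ x := by
      intro r _ x hx
      rcases Multiset.mem_cons.1 hx with rfl | hx
      · exact le_rfl
      · have := hmin r x (Multiset.mem_of_mem_erase hx); omega
    have e1 := hlt q' hq' (m q - 1) (h2 ▸ Multiset.mem_cons_self _ _)
    have e2 := hlt q hq (m q' - 1) (h2 ▸ Multiset.mem_cons_self _ _)
    have e : m q = m q' := by
      have := q.parts_pos (hm q); have := q'.parts_pos (hm q'); omega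
    rw [e] at h2
    exact key e (by rw [e]; exact (Multiset.cons_inj_right _).1 h2)

theorem card_partition_five : Fintype.card (Nat.Partition 5) ≤ 8 := by
  classical
  have hsum : ∀ q : Nat.Partition 5, q.parts.count 1 + q.parts.count 2 * 2 + q.parts.count 3 * 3 +
      q.parts.count 4 * 4 + q.parts.count 5 * 5 = 5 ∧ ∀ i, i = 0 ∨ 5 < i → q.parts.count i = 0 := by
    intro q
    have hle : ∀ i ∈ q.parts, 1 ≤ i ∧ i ≤ 5 := fun i hi => ⟨q.parts_pos hi, by
      have h := Multiset.sum_cons i (q.parts.erase i)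
      rw [Multiset.cons_erase hi, q.parts_sum] at h
      omega⟩
    refine ⟨?_, fun i hi => Multiset.count_eq_zero.2 fun hmem => by have := hle i hmem; omega⟩
    have h := Finset.sum_multiset_count_of_subset q.parts (Finset.range 6) (fun i hi => by
      have := hle i (Multiset.mem_toFinset.1 hi)
      exact Finset.mem_range.2 (by omega))
    rw [q.parts_sum] at h
    simp only [Finset.sum_range_succ, Finset.sum_range_zero, smul_eq_mul] at h
    omega
  let t : Finset (Fin 2 × Fin 2 × Fin 2 × Fin 3 × Fin 6) :=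
    Finset.univ.filter fun c => c.2.2.2.2.val + c.2.2.2.1.val * 2 + c.2.2.1.val * 3 + c.2.1.val * 4 + c.1.val * 5 = 5
  let f : Nat.Partition 5 → t := fun q =>
    ⟨(⟨q.parts.count 5, by have := (hsum q).1; omega⟩, ⟨q.parts.count 4, by have := (hsum q).1; omega⟩,
      ⟨q.parts.count 3, by have := (hsum q).1; omega⟩, ⟨q.parts.count 2, by have := (hsum q).1; omega⟩,
      ⟨q.parts.count 1, by have := (hsum q).1; omega⟩), Finset.mem_filter.2 ⟨Finset.mem_univ _, (hsum q).1⟩⟩
  refine (Fintype.card_le_of_injective f fun q q' h => ?_).trans ?_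
  · refine Nat.Partition.ext (Multiset.ext.2 fun i => ?_)
    simp only [f, Subtype.mk.injEq, Prod.mk.injEq, Fin.mk.injEq] at h
    rcases (show i = 1 ∨ i = 2 ∨ i = 3 ∨ i = 4 ∨ i = 5 ∨ (i = 0 ∨ 5 < i) by omega) with rfl | rfl | rfl | rfl | rfl | h'
    · exact h.2.2.2.2
    · exact h.2.2.2.1
    · exact h.2.2.1
    · exact h.2.1
    · exact h.1
    · rw [(hsum q).2 i h', (hsum q').2 i h']
  · rw [Fintype.card_coe]
    decide +kernel

theorem card_partition_le : ∀ n : ℕ, Fintype.card (Nat.Partition (n + 5)) ≤ 2 ^ (n + 3)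
  | 0 => card_partition_five
  | n + 1 => (card_partition_succ_le (n + 5)).trans (by
      have := card_partition_le n
      rw [show n + 1 + 3 = n + 3 + 1 from rfl, pow_succ]
      omega)

theorem conjClasses_le (n : ℕ) (hn : 5 ≤ n) : Nat.card (ConjClasses (Equiv.Perm (Fin n))) ≤ 2 ^ (n - 2) := by
  classical
  obtain ⟨k, rfl⟩ : ∃ k, n = k + 5 := ⟨n - 5, by omega⟩
  let f : ConjClasses (Equiv.Perm (Fin (k + 5))) → Nat.Partition (Fintype.card (Fin (k + 5))) :=
    Quotient.lift (fun σ => σ.partition) fun a b h => Equiv.Perm.partition_eq_of_isConj.1 h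
  have hf : Function.Injective f := by
    rintro ⟨a⟩ ⟨b⟩ h
    exact Quotient.sound (Equiv.Perm.partition_eq_of_isConj.2 h)
  refine (Nat.card_le_card_of_injective f hf).trans ?_
  rw [Nat.card_eq_fintype_card, Fintype.card_fin]
  exact card_partition_le k

theorem alternating_lt (n : ℕ) (hn : 5 ≤ n) :
    Nat.card (ConjClasses (alternatingGroup (Fin n))) < Nat.card (ConjClasses (Equiv.Perm (Fin n))) := by
  classical
  let A := alternatingGroup (Fin n)
  let π : ConjClasses A → ConjClasses (Equiv.Perm (Fin n)) := ConjClasses.map A.subtype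
  have hπ : ∀ (C C' : ConjClasses A), π C = π C' → C ≠ C' → ∀ (a : A), ConjClasses.mk a = C →
      Subgroup.centralizer {(a : Equiv.Perm (Fin n))} ≤ alternatingGroup (Fin n) ∧
      ∀ C'' : ConjClasses A, π C'' = π C → C'' ≠ C → C'' = C' := by
    rintro C C' hCC hne a rfl
    obtain ⟨b, rfl⟩ := ConjClasses.mk_surjective C'
    have hmk : ∀ u v : A, π (ConjClasses.mk u) = π (ConjClasses.mk v) →
        ∃ c : Equiv.Perm (Fin n), c * (u : Equiv.Perm (Fin n)) * c⁻¹ = v := by
      intro u v h
      exact isConj_iff.1 (ConjClasses.mk_eq_mk_iff_isConj.1 h)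
    have heven : ∀ (u v : A) (c : Equiv.Perm (Fin n)), c ∈ A → c * (u : Equiv.Perm (Fin n)) * c⁻¹ = v →
        ConjClasses.mk u = ConjClasses.mk v := fun u v c hc h =>
      ConjClasses.mk_eq_mk_iff_isConj.2 (isConj_iff.2 ⟨⟨c, hc⟩, Subtype.ext h⟩)
    have hodd : ∀ c d : Equiv.Perm (Fin n), c ∉ A → d ∉ A → c * d ∈ A := by
      intro c d hc hd
      simp only [A, Equiv.Perm.mem_alternatingGroup] at hc hd ⊢
      rw [map_mul, (Int.units_eq_one_or _).resolve_left hc, (Int.units_eq_one_or _).resolve_left hd]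
      decide
    obtain ⟨c, hc⟩ := hmk a b hCC
    have hcA : c ∉ A := fun h => hne (heven a b c h hc)
    refine ⟨fun z hz => ?_, fun C'' h'' hne'' => ?_⟩
    · by_contra hzA
      refine hne (heven a b (c * z) (hodd c z hcA hzA) ?_)
      rw [Subgroup.mem_centralizer_singleton_iff] at hz
      rw [← hc, mul_inv_rev, ← mul_assoc, mul_assoc c z, hz, ← mul_assoc]
      group
    · obtain ⟨d, rfl⟩ := ConjClasses.mk_surjective C''
      obtain ⟨e, he⟩ := hmk d a h''
      have heA : e ∉ A := fun h => hne'' (heven d a e h he)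
      refine heven d b (c * e) (hodd c e hcA heA) ?_
      rw [← hc, ← he]
      group
  -- the odd class attached to a split class
  let ct : ConjClasses (Equiv.Perm (Fin n)) → Multiset ℕ :=
    Quotient.lift (fun σ => σ.cycleType) fun a b h => Equiv.Perm.isConj_iff_cycleType_eq.1 h
  have hctinj : Function.Injective ct := by
    rintro ⟨a⟩ ⟨b⟩ h
    exact Quotient.sound (Equiv.Perm.isConj_iff_cycleType_eq.2 h)
  let Split : Multiset ℕ → Prop := fun m => (∀ c ∈ m, Odd c ∧ 2 ≤ c) ∧ m.Nodup ∧ n ≤ m.sum + 1 ∧ m.sum ≤ n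
  have hmax : ∀ m, Split m → ∃ x ∈ m, 3 ≤ x ∧ ∀ y ∈ m, y ≤ x := by
    intro m hm
    have hne : m.toFinset.Nonempty := by
      rw [Multiset.toFinset_nonempty]
      intro h
      have := hm.2.2.1
      rw [h, Multiset.sum_zero] at this
      omega
    refine ⟨m.toFinset.max' hne, Multiset.mem_toFinset.1 (m.toFinset.max'_mem hne), ?_,
      fun y hy => m.toFinset.le_max' y (Multiset.mem_toFinset.2 hy)⟩
    obtain ⟨⟨q, hq⟩, h2⟩ := hm.1 _ (Multiset.mem_toFinset.1 (m.toFinset.max'_mem hne))
    omega
  let odd : Multiset ℕ → Multiset ℕ := fun m =>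
    if h : Split m then ((hmax m h).choose - 1) ::ₘ m.erase (hmax m h).choose else 0
  have hodd_spec : ∀ m, Split m → ∃ x ∈ m, 3 ≤ x ∧ odd m = (x - 1) ::ₘ m.erase x := fun m h =>
    ⟨_, (hmax m h).choose_spec.1, (hmax m h).choose_spec.2.1, dif_pos h⟩
  have hodd_ex : ∀ m, Split m → Even (m.sum + Multiset.card m) → ∃ σ : Equiv.Perm (Fin n), σ.cycleType = odd m ∧ σ ∉ A := by
    intro m h heven
    obtain ⟨x, hx, hx3, he⟩ := hodd_spec m h
    have hsum : x + (m.erase x).sum = m.sum := by rw [← Multiset.sum_cons, Multiset.cons_erase hx]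
    obtain ⟨σ, hσ⟩ := (Equiv.Perm.exists_with_cycleType_iff (α := Fin n) (m := odd m)).2 (by
      rw [he]
      refine ⟨?_, fun y hy => ?_⟩
      · rw [Fintype.card_fin, Multiset.sum_cons]; have := h.2.2.2; omega
      · rcases Multiset.mem_cons.1 hy with rfl | hy
        · omega
        · exact (h.1 y (Multiset.mem_of_mem_erase hy)).2)
    refine ⟨σ, hσ, fun hA => ?_⟩
    simp only [A, Equiv.Perm.mem_alternatingGroup, Equiv.Perm.sign_of_cycleType, hσ, he] at hA
    rw [neg_one_pow_eq_one_iff_even (by decide), Multiset.sum_cons, Multiset.card_cons,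
      Multiset.card_erase_of_mem hx, Nat.even_iff] at hA
    have := Multiset.card_pos_iff_exists_mem.2 ⟨x, hx⟩
    rw [Nat.even_iff] at heven
    rw [Nat.pred_eq_sub_one] at hA
    omega
  have hodd_inj : ∀ m m', Split m → Split m' → odd m = odd m' → m = m' := by
    intro m m' h h' e
    obtain ⟨x, hx, hx3, hm⟩ := hodd_spec m h
    obtain ⟨x', hx', hx3', hm'⟩ := hodd_spec m' h'
    rw [hm, hm'] at e
    have heq : x = x' := by
      have hmem : x - 1 ∈ (x' - 1) ::ₘ m'.erase x' := e ▸ Multiset.mem_cons_self _ _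
      rcases Multiset.mem_cons.1 hmem with hh | hh
      · omega
      · obtain ⟨⟨q, hq⟩, -⟩ := h.1 x hx
        obtain ⟨⟨r, hr⟩, -⟩ := h'.1 _ (Multiset.mem_of_mem_erase hh)
        omega
    subst heq
    rw [← Multiset.cons_erase hx, (Multiset.cons_inj_right _).1 e, Multiset.cons_erase hx']
  let D0 : ConjClasses A → ConjClasses A := fun C => Function.invFun π (π C)
  have hD0 : ∀ C, π (D0 C) = π C := fun C => Function.invFun_eq ⟨C, rfl⟩
  have hsplit : ∀ C : ConjClasses A, C ≠ D0 C → Split (ct (π C)) ∧ Even ((ct (π C)).sum + Multiset.card (ct (π C))) := by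
    intro C hC
    obtain ⟨a, rfl⟩ := ConjClasses.mk_surjective C
    have h := ((hπ _ _ (hD0 _).symm hC a rfl).1)
    rw [Equiv.Perm.centralizer_le_alternating_iff] at h
    have hev : Even ((a : Equiv.Perm (Fin n)).cycleType.sum + Multiset.card (a : Equiv.Perm (Fin n)).cycleType) := by
      have := a.2
      rw [Equiv.Perm.mem_alternatingGroup, Equiv.Perm.sign_of_cycleType, neg_one_pow_eq_one_iff_even (by decide)] at this
      exact this
    refine ⟨⟨fun c hc => ⟨h.1 c hc, Equiv.Perm.two_le_of_mem_cycleType hc⟩, Multiset.nodup_iff_count_le_one.2 h.2.2, ?_, ?_⟩, hev⟩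
    · have h' := h.2.1
      rw [Fintype.card_fin] at h'
      exact h'
    · show (a : Equiv.Perm (Fin n)).cycleType.sum ≤ n
      rw [Equiv.Perm.sum_cycleType]
      exact (Finset.card_le_univ _).trans (le_of_eq (Fintype.card_fin n))
  let J : ConjClasses A → ConjClasses (Equiv.Perm (Fin n)) := fun C =>
    if h : C = D0 C then π C else ConjClasses.mk (hodd_ex _ (hsplit C h).1 (hsplit C h).2).choose
  have hnotA : ∀ (C : ConjClasses A) (σ : Equiv.Perm (Fin n)), π C = ConjClasses.mk σ → σ ∈ A := by
    intro C σ h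
    obtain ⟨a, rfl⟩ := ConjClasses.mk_surjective C
    obtain ⟨c, hc⟩ := isConj_iff.1 (ConjClasses.mk_eq_mk_iff_isConj.1 h)
    have hc' : c * (a : Equiv.Perm (Fin n)) * c⁻¹ = σ := hc
    rw [← hc']
    exact (inferInstance : A.Normal).conj_mem _ a.2 c
  have hJ2 : ∀ C (h : ¬ C = D0 C), ct (J C) = odd (ct (π C)) ∧ ∀ C' : ConjClasses A, π C' ≠ J C := by
    intro C h
    simp only [J, dif_neg h]
    exact ⟨(hodd_ex _ (hsplit C h).1 (hsplit C h).2).choose_spec.1, fun C' e =>
      (hodd_ex _ (hsplit C h).1 (hsplit C h).2).choose_spec.2 (hnotA C' _ e)⟩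
  have hJinj : Function.Injective J := by
    intro C C' e
    by_cases h : C = D0 C <;> by_cases h' : C' = D0 C'
    · have : π C = π C' := by simpa only [J, dif_pos h, dif_pos h'] using e
      rw [h, h']; exact congrArg (Function.invFun π) this
    · exact absurd (by simpa only [J, dif_pos h] using e) ((hJ2 C' h').2 C)
    · exact absurd (by simpa only [J, dif_pos h'] using e.symm) ((hJ2 C h).2 C')
    · have hp : π C = π C' := hctinj (hodd_inj _ _ (hsplit C h).1 (hsplit C' h').1
        (by rw [← (hJ2 C h).1, ← (hJ2 C' h').1, e]))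
      by_contra hne
      obtain ⟨a, rfl⟩ := ConjClasses.mk_surjective C
      have := (hπ _ _ hp hne a rfl).2 (D0 (ConjClasses.mk a)) (hD0 _) (fun e' => h e'.symm)
      exact h' ((show D0 (ConjClasses.mk a) = D0 C' from congrArg (Function.invFun π) hp).symm.trans this).symm
  have hns : ¬ Function.Surjective J := by
    intro hs
    obtain ⟨τ, hτ⟩ : ∃ τ : Equiv.Perm (Fin n), τ.cycleType = {2} :=
      (Equiv.Perm.exists_with_cycleType_iff (α := Fin n)).2 ⟨by simp; omega, by simp⟩
    have hτA : τ ∉ A := by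
      simp only [A, Equiv.Perm.mem_alternatingGroup, Equiv.Perm.sign_of_cycleType, hτ]
      decide
    obtain ⟨C, hC⟩ := hs (ConjClasses.mk τ)
    by_cases h : C = D0 C
    · exact hτA (hnotA C τ (by simpa only [J, dif_pos h] using hC))
    · have e := (hJ2 C h).1
      rw [hC] at e
      have e' : ({2} : Multiset ℕ) = odd (ct (π C)) := hτ.symm.trans e
      obtain ⟨x, hx, hx3, he⟩ := hodd_spec _ (hsplit C h).1
      rw [he] at e'
      have hc := congrArg Multiset.card e'
      rw [Multiset.card_singleton, Multiset.card_cons] at hc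
      have hs' := congrArg Multiset.sum e'
      rw [Multiset.sum_singleton, Multiset.sum_cons] at hs'
      have hsum : x + ((ct (π C)).erase x).sum = (ct (π C)).sum := by rw [← Multiset.sum_cons, Multiset.cons_erase hx]
      have := (hsplit C h).1.2.2.1
      omega
  exact lt_of_le_of_ne (Nat.card_le_card_of_injective J hJinj) fun e =>
    hns ((Nat.bijective_iff_injective_and_card J).2 ⟨hJinj, e⟩).2

/-- For n ≥ 5 the alternating group of degree n has strictly fewer conjugacy classes than the symmetric group of degree n, and the symmetric group of degree n (whose classes correspond to the partitions of n) has at most 2^(n−2) conjugacy classes. -/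
theorem result (n : ℕ) (hn : 5 ≤ n) : Nat.card (ConjClasses (alternatingGroup (Fin n))) < Nat.card (ConjClasses (Equiv.Perm (Fin n))) ∧ Nat.card (ConjClasses (Equiv.Perm (Fin n))) ≤ 2 ^ (n - 2) := by
  exact ⟨alternating_lt n hn, conjClasses_le n hn⟩

end Cfsg.Agent.S4198
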