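import Cfsg.Statements.S4200
import Mathlib.GroupTheory.GroupAction.CardCommute
import Mathlib.GroupTheory.QuotientGroup.Basic
import Mathlib.GroupTheory.Index
import Mathlib.Algebra.Order.BigOperators.Group.Finset
import Mathlib.Algebra.BigOperators.Ring.Finset
import Mathlib.Data.Finite.Card
import Mathlib.Tactic.Ring
import Mathlib.Tactic.Group

set_option autoImplicit false
set_option linter.style.haveILetI false
open Cfsg

namespace Cfsg.Agent.S4200

/-- Let Y be a subgroup of the finite group X, of index m. Then the numbers of conjugacy classes satisfy k(Y) ≤ m·k(X) and k(X) ≤ m·k(Y), and the second inequality is strict unless Y is normal in X. -/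
theorem result {X : Type*} [Group X] [Finite X] (Y : Subgroup X) : Nat.card (ConjClasses Y) ≤ Y.index * Nat.card (ConjClasses X) ∧ Nat.card (ConjClasses X) ≤ Y.index * Nat.card (ConjClasses Y) ∧ (¬ Y.Normal → Nat.card (ConjClasses X) < Y.index * Nat.card (ConjClasses Y)) := by
  classical
  haveI := Fintype.ofFinite X
  haveI := Fintype.ofFinite Y
  have hX := card_comm_eq_card_conjClasses_mul_card X
  have hY := card_comm_eq_card_conjClasses_mul_card Y
  have hm := Y.card_mul_index
  have hsum : Nat.card {p : X × X // Commute p.1 p.2} = ∑ a, Nat.card {b : X // Commute a b} := by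
    rw [← Nat.card_sigma]
    exact Nat.card_congr (Equiv.subtypeProdEquivSigmaSubtype fun a b => Commute a b)
  have hsumY : Nat.card {p : Y × Y // Commute p.1 p.2} = ∑ a, Nat.card {b : Y // Commute a b} := by
    rw [← Nat.card_sigma]
    exact Nat.card_congr (Equiv.subtypeProdEquivSigmaSubtype fun a b => Commute a b)
  have hswap : ∑ a : X, Nat.card {b : Y // Commute a (b : X)} =
      ∑ y : Y, Nat.card {a : X // Commute (y : X) a} := by
    simp only [Nat.card_eq_fintype_card, Fintype.card_subtype, Finset.card_filter]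
    rw [Finset.sum_comm]
    exact Finset.sum_congr rfl fun y _ => Finset.sum_congr rfl fun a _ => by
      rw [if_congr (Commute.symm_iff) rfl rfl]
  -- fibres of a centralizer over the left cosets
  have hrel : ∀ a : X, Nat.card {b : X // Commute a b} =
      (Y.relIndex (Subgroup.centralizer ({a} : Set X))) * Nat.card {b : Y // Commute a (b : X)} := by
    intro a
    have h1 := (Y.subgroupOf (Subgroup.centralizer ({a} : Set X))).card_mul_index
    have e1 : Nat.card (Subgroup.centralizer ({a} : Set X)) = Nat.card {b : X // Commute a b} :=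
      Nat.card_congr (Equiv.subtypeEquivRight fun b => by
        rw [Subgroup.mem_centralizer_singleton_iff]; exact ⟨fun h => h.symm, fun h => h.eq.symm⟩)
    have e2 : Nat.card (Y.subgroupOf (Subgroup.centralizer ({a} : Set X))) =
        Nat.card {b : Y // Commute a (b : X)} :=
      Nat.card_congr
        { toFun := fun b => ⟨⟨b.1.1, b.2⟩, (Subgroup.mem_centralizer_singleton_iff.1 b.1.2).symm⟩
          invFun := fun b => ⟨⟨b.1.1, Subgroup.mem_centralizer_singleton_iff.2 b.2.eq.symm⟩, b.1.2⟩
          left_inv := fun _ => rfl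
          right_inv := fun _ => rfl }
    rw [← e1, ← e2, ← h1, mul_comm]
    rfl
  have hri : ∀ a : X, Y.relIndex (Subgroup.centralizer ({a} : Set X)) ≤ Y.index := fun a => by
    rw [← Subgroup.relIndex_top_right Y]
    exact Subgroup.relIndex_le_of_le_right le_top (by rw [Subgroup.relIndex_top_right]; exact Y.index_ne_zero_of_finite)
  have hmid : ∀ a : X, Nat.card {b : X // Commute a b} ≤ Y.index * Nat.card {b : Y // Commute a (b : X)} :=
    fun a => (hrel a).trans_le (Nat.mul_le_mul_right _ (hri a))
  have hsubset : Nat.card {p : Y × Y // Commute p.1 p.2} ≤ Nat.card {p : X × X // Commute p.1 p.2} :=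
    Nat.card_le_card_of_injective (fun p => ⟨((p.1.1 : X), (p.1.2 : X)), congrArg Subtype.val p.2⟩)
      (fun p q h => Subtype.ext (Prod.ext
        (Subtype.ext (congrArg (fun t : {p : X × X // Commute p.1 p.2} => t.1.1) h))
        (Subtype.ext (congrArg (fun t : {p : X × X // Commute p.1 p.2} => t.1.2) h))))
  have hcast : ∀ y z : Y, Commute (y : X) (z : X) ↔ Commute y z := fun y z =>
    ⟨fun h => Subtype.ext h.eq, fun h => congrArg Subtype.val h.eq⟩
  have hY2 : ∑ y : Y, Nat.card {b : Y // Commute (y : X) (b : X)} = Nat.card {p : Y × Y // Commute p.1 p.2} := by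
    rw [hsumY]
    exact Finset.sum_congr rfl fun y _ => Nat.card_congr (Equiv.subtypeEquivRight fun z => hcast y z)
  have h1 : ∑ a, Nat.card {b : X // Commute a b} ≤
      Y.index * ∑ y : Y, Nat.card {a : X // Commute (y : X) a} := by
    rw [← hswap, Finset.mul_sum]
    exact Finset.sum_le_sum fun a _ => hmid a
  have h2 : ∑ y : Y, Nat.card {a : X // Commute (y : X) a} ≤
      Y.index * Nat.card {p : Y × Y // Commute p.1 p.2} := by
    rw [← hY2, Finset.mul_sum]
    exact Finset.sum_le_sum fun y _ => hmid y
  refine ⟨?_, ?_, ?_⟩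
  · rw [hX, hY, ← hm] at hsubset
    refine Nat.le_of_mul_le_mul_right (hsubset.trans_eq ?_) (Nat.card_pos (α := Y))
    ring
  · have h3 := h1.trans (Nat.mul_le_mul_left _ h2)
    rw [← hsum, hX, hY, ← hm] at h3
    refine Nat.le_of_mul_le_mul_right (h3.trans_eq ?_)
      (Nat.mul_pos (Nat.card_pos (α := Y)) (Nat.pos_of_ne_zero Y.index_ne_zero_of_finite))
    ring
  · intro hn
    obtain ⟨y, g, hg⟩ : ∃ (y : Y) (g : X), g * y * g⁻¹ ∉ Y := by
      by_contra! hh
      exact hn ⟨fun z hz g => hh ⟨z, hz⟩ g⟩
    have hlt : Y.relIndex (Subgroup.centralizer ({(y : X)} : Set X)) < Y.index := by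
      refine lt_of_le_of_ne (hri _) fun e => hg ?_
      let f := Subgroup.quotientSubgroupOfEmbeddingOfLE (H := Y)
        (le_top : Subgroup.centralizer ({(y : X)} : Set X) ≤ ⊤)
      have hb : Function.Bijective f := by
        haveI := Fintype.ofFinite ((Subgroup.centralizer ({(y : X)} : Set X)) ⧸ Y.subgroupOf (Subgroup.centralizer ({(y : X)} : Set X)))
        haveI := Fintype.ofFinite ((⊤ : Subgroup X) ⧸ Y.subgroupOf ⊤)
        rw [Fintype.bijective_iff_injective_and_card]
        refine ⟨f.injective, ?_⟩
        rw [← Nat.card_eq_fintype_card, ← Nat.card_eq_fintype_card, ← Subgroup.index_eq_card,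
          ← Subgroup.index_eq_card, ← Subgroup.relIndex, ← Subgroup.relIndex, Subgroup.relIndex_top_right, e]
      obtain ⟨u, hu⟩ := hb.2 (⟨g⁻¹, Subgroup.mem_top _⟩ : (⊤ : Subgroup X))
      induction u using QuotientGroup.induction_on with
      | H c =>
        rw [Subgroup.quotientSubgroupOfEmbeddingOfLE_apply_mk, QuotientGroup.eq, Subgroup.mem_subgroupOf] at hu
        have hu' : (c : X)⁻¹ * g⁻¹ ∈ Y := hu
        have hc : (c : X) * y = y * c := Subgroup.mem_centralizer_singleton_iff.1 c.2
        have hid : g * y * g⁻¹ = ((c : X)⁻¹ * g⁻¹)⁻¹ * y * ((c : X)⁻¹ * g⁻¹) := by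
          have : (c : X) * y * (c : X)⁻¹ = y := by rw [hc, mul_inv_cancel_right]
          calc g * y * g⁻¹ = g * ((c : X) * y * (c : X)⁻¹) * g⁻¹ := by rw [this]
            _ = _ := by group
        rw [hid]
        exact mul_mem (mul_mem (inv_mem hu') y.2) hu'
    have h2' : ∑ y : Y, Nat.card {a : X // Commute (y : X) a} <
        Y.index * Nat.card {p : Y × Y // Commute p.1 p.2} := by
      rw [← hY2, Finset.mul_sum]
      refine Finset.sum_lt_sum (fun y _ => hmid y) ⟨y, Finset.mem_univ _, ?_⟩
      rw [hrel]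
      exact Nat.mul_lt_mul_of_pos_right hlt (Nat.card_pos_iff.2 ⟨⟨⟨y, Commute.refl _⟩⟩, inferInstance⟩)
    have h3 := h1.trans_lt ((Nat.mul_lt_mul_left (Nat.pos_of_ne_zero Y.index_ne_zero_of_finite)).2 h2')
    rw [← hsum, hX, hY, ← hm] at h3
    refine Nat.lt_of_mul_lt_mul_right (a := Nat.card Y * Y.index) (h3.trans_eq ?_)
    ring

end Cfsg.Agent.S4200
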