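import Cfsg.Statements.S4201
import Mathlib.GroupTheory.GroupAction.CardCommute
import Mathlib.GroupTheory.QuotientGroup.Basic
import Mathlib.GroupTheory.Index
import Mathlib.Algebra.Order.BigOperators.Group.Finset
import Mathlib.Algebra.BigOperators.Ring.Finset
import Mathlib.Data.Finite.Card
import Mathlib.Tactic.Ring
import Mathlib.Tactic.Group

set_option autoImplicit false
set_option linter.style.haveILetI false
open Cfsg

namespace Cfsg.Agent.S4201

/-- If N is a normal subgroup of the finite group X then k(X) ≤ k(N)·k(X ⧸ N), where k denotes the number of conjugacy classes. -/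
theorem result {X : Type*} [Group X] [Finite X] (N : Subgroup X) [N.Normal] : Nat.card (ConjClasses X) ≤ Nat.card (ConjClasses N) * Nat.card (ConjClasses (X ⧸ N)) := by
  classical
  haveI := Fintype.ofFinite X
  haveI := Fintype.ofFinite (X ⧸ N)
  let π := QuotientGroup.mk' N
  have hX := card_comm_eq_card_conjClasses_mul_card X
  have hN := card_comm_eq_card_conjClasses_mul_card N
  have hQ := card_comm_eq_card_conjClasses_mul_card (X ⧸ N)
  -- centralizer sizes
  let c : X → ℕ := fun a => Nat.card {b : X // Commute a b}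
  let cN : X → ℕ := fun a => Nat.card {n : N // Commute a (n : X)}
  let cQ : X ⧸ N → ℕ := fun u => Nat.card {v : X ⧸ N // Commute u v}
  have hle : ∀ a, c a ≤ cQ (π a) * cN a := by
    intro a
    let f : {b : X // Commute a b} → {v : X ⧸ N // Commute (π a) v} :=
      fun b => ⟨π b, show π a * π b = π b * π a by rw [← map_mul, ← map_mul, b.2.eq]⟩
    have hfib : ∀ v, Nat.card {b // f b = v} ≤ cN a := by
      intro v
      rcases isEmpty_or_nonempty {b // f b = v} with he | ⟨⟨b0, hb0⟩⟩
      · simp
      refine Nat.card_le_card_of_injective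
        (fun b => (⟨⟨(b0 : X)⁻¹ * (b.1 : X), ?_⟩, (b0.2.inv_right).mul_right b.1.2⟩ :
          {n : N // Commute a (n : X)})) ?_
      · rw [← QuotientGroup.eq]
        exact congrArg Subtype.val (hb0.trans b.2.symm)
      · intro b b' h
        exact Subtype.ext (Subtype.ext (mul_left_cancel (congrArg (fun t : {n : N // Commute a (n : X)} => ((t : N) : X)) h)))
    haveI := Fintype.ofFinite {v : X ⧸ N // Commute (π a) v}
    calc c a = Nat.card (Σ v, {b // f b = v}) := (Nat.card_congr (Equiv.sigmaFiberEquiv f)).symm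
      _ = ∑ v, Nat.card {b // f b = v} := Nat.card_sigma
      _ ≤ ∑ _v : {v : X ⧸ N // Commute (π a) v}, cN a := Finset.sum_le_sum fun v _ => hfib v
      _ = cQ (π a) * cN a := by
        rw [Finset.sum_const, smul_eq_mul, Finset.card_univ]
        show _ = Nat.card _ * _
        rw [Nat.card_eq_fintype_card]
  have hcoset : ∀ u : X ⧸ N, ∑ a : {a : X // π a = u}, cN a ≤ Nat.card {p : N × N // Commute p.1 p.2} := by
    intro u
    haveI := Fintype.ofFinite N
    have h1 : ∑ a : {a : X // π a = u}, cN a =
        ∑ n : N, Nat.card {a : {a : X // π a = u} // Commute (a : X) (n : X)} := by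
      simp only [cN, Nat.card_eq_fintype_card, Fintype.card_subtype, Finset.card_filter]
      exact Finset.sum_comm
    have h2 : Nat.card {p : N × N // Commute p.1 p.2} = ∑ n : N, Nat.card {m : N // Commute n m} := by
      rw [← Nat.card_sigma]
      exact Nat.card_congr (Equiv.subtypeProdEquivSigmaSubtype fun n m => Commute n m)
    rw [h1, h2]
    refine Finset.sum_le_sum fun n _ => ?_
    rcases isEmpty_or_nonempty {a : {a : X // π a = u} // Commute (a : X) (n : X)} with he | ⟨⟨⟨a0, ha0⟩, hc0⟩⟩
    · simp
    refine Nat.card_le_card_of_injective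
      (fun a => (⟨⟨a0⁻¹ * (a.1 : X), ?_⟩, Subtype.ext ?_⟩ : {m : N // Commute n m})) ?_
    · rw [← QuotientGroup.eq]
      exact ha0.trans a.1.2.symm
    · exact ((hc0.inv_left).mul_left a.2).symm.eq
    · intro a b h
      exact Subtype.ext (Subtype.ext (mul_left_cancel (congrArg (fun t : {m : N // Commute n m} => ((t : N) : X)) h)))
  have hsum : Nat.card {p : X × X // Commute p.1 p.2} = ∑ a, c a := by
    rw [← Nat.card_sigma]
    exact Nat.card_congr (Equiv.subtypeProdEquivSigmaSubtype fun a b => Commute a b)
  have hsumQ : Nat.card {p : (X ⧸ N) × (X ⧸ N) // Commute p.1 p.2} = ∑ u, cQ u := by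
    rw [← Nat.card_sigma]
    exact Nat.card_congr (Equiv.subtypeProdEquivSigmaSubtype fun a b => Commute a b)
  have key : ∑ a, c a ≤ (∑ u, cQ u) * Nat.card {p : N × N // Commute p.1 p.2} := by
    rw [← Fintype.sum_fiberwise π c, Finset.sum_mul]
    refine Finset.sum_le_sum fun u _ => ?_
    calc ∑ a : {a : X // π a = u}, c a ≤ ∑ a : {a : X // π a = u}, cQ u * cN a :=
          Finset.sum_le_sum fun a _ => by have := hle a; rwa [a.2] at this
      _ = cQ u * ∑ a : {a : X // π a = u}, cN a := (Finset.mul_sum _ _ _).symm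
      _ ≤ _ := Nat.mul_le_mul_left _ (hcoset u)
  rw [← hsum, ← hsumQ, hX, hQ, hN] at key
  refine Nat.le_of_mul_le_mul_right (key.trans_eq ?_) Nat.card_pos
  rw [N.card_eq_card_quotient_mul_card_subgroup]
  ring

end Cfsg.Agent.S4201
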