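import Cfsg.Statements.S4204
import Cfsg.Agent.SeriesComm.Basic

set_option autoImplicit false
set_option linter.style.haveILetI false
open Cfsg

namespace Cfsg.Agent.S4204

/-- If `H` and `K` are normal subgroups of a finite group with `H` nilpotent of class at most `c` and `K` nilpotent of class at most `d` (the terms with index `c`, respectively `d`, of their lower central series are trivial, indices starting at `0`), then `HK` is nilpotent of class at most `c + d`. -/
theorem result {G : Type*} [Group G] [Finite G] (H K : Subgroup G) [H.Normal] [K.Normal] (c d : ℕ) (hH : H.lowerCentralSeries c = ⊥) (hK : K.lowerCentralSeries d = ⊥) : (H ⊔ K).lowerCentralSeries (c + d) = ⊥ := by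
  let h : ℕ → Subgroup G := fun i => match i with
    | 0 => ⊤
    | i + 1 => H.lowerCentralSeries i
  let k : ℕ → Subgroup G := fun i => match i with
    | 0 => ⊤
    | i + 1 => K.lowerCentralSeries i
  have hn : ∀ i, (h i).Normal := fun i => by
    cases i with
    | zero => exact (inferInstance : (⊤ : Subgroup G).Normal)
    | succ i => exact CfsgLib.SeriesComm.lowerCentralSeries_normal H i
  have kn : ∀ i, (k i).Normal := fun i => by
    cases i with
    | zero => exact (inferInstance : (⊤ : Subgroup G).Normal)
    | succ i => exact CfsgLib.SeriesComm.lowerCentralSeries_normal K i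
  have hs : ∀ i, ⁅h i, H⁆ ≤ h (i + 1) := fun i => by
    cases i with
    | zero => exact Subgroup.commutator_le_right _ _
    | succ i => exact le_rfl
  have ks : ∀ i, ⁅k i, K⁆ ≤ k (i + 1) := fun i => by
    cases i with
    | zero => exact Subgroup.commutator_le_right _ _
    | succ i => exact le_rfl
  have anti_h : ∀ i, c + 1 ≤ i → h i = ⊥ := fun i hi => by
    obtain ⟨j, rfl⟩ : ∃ j, i = j + 1 := ⟨i - 1, by omega⟩
    exact le_bot_iff.1 (hH ▸ H.lowerCentralSeries_antitone (by omega : c ≤ j))
  have anti_k : ∀ i, d + 1 ≤ i → k i = ⊥ := fun i hi => by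
    obtain ⟨j, rfl⟩ : ∃ j, i = j + 1 := ⟨i - 1, by omega⟩
    exact le_bot_iff.1 (hK ▸ K.lowerCentralSeries_antitone (by omega : d ≤ j))
  let F : ℕ → Subgroup G := fun n => ⨆ i : Fin (n + 2), h i ⊓ k (n + 1 - i)
  have hF : ∀ n, (F n).Normal := fun n => by
    have : ∀ i : Fin (n + 2), (h i ⊓ k (n + 1 - i)).Normal := fun i => by
      haveI := hn i
      haveI := kn (n + 1 - i)
      infer_instance
    exact Subgroup.iSup_normal _
  have key : ∀ n, (H ⊔ K).lowerCentralSeries n ≤ F n := by
    intro n
    induction n with
    | zero =>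
      refine sup_le (le_iSup_of_le (1 : Fin 2) ?_) (le_iSup_of_le (0 : Fin 2) ?_)
      · exact le_inf (show H ≤ h 1 from le_rfl) (show H ≤ k 0 from le_top)
      · exact le_inf (show K ≤ h 0 from le_top) (show K ≤ k 1 from le_rfl)
    | succ n ih =>
      rw [Subgroup.lowerCentralSeries_succ]
      refine (Subgroup.commutator_mono ih le_rfl).trans ?_
      haveI := hF (n + 1)
      refine CfsgLib.SeriesComm.iSup_commutator_le fun i => ?_
      haveI := hn i
      haveI := kn (n + 1 - i)
      rw [Subgroup.commutator_comm]
      refine CfsgLib.SeriesComm.sup_commutator_le ?_ ?_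
      · rw [Subgroup.commutator_comm]
        refine le_trans ?_ (le_iSup _ (⟨(i : ℕ) + 1, by omega⟩ : Fin (n + 3)))
        refine le_inf ((Subgroup.commutator_mono inf_le_left le_rfl).trans (hs i)) ?_
        refine (Subgroup.commutator_mono inf_le_right le_rfl).trans ?_
        rw [show n + 1 + 1 - ((i : ℕ) + 1) = n + 1 - i by omega]
        exact Subgroup.commutator_le_left _ _
      · rw [Subgroup.commutator_comm]
        refine le_trans ?_ (le_iSup _ (⟨(i : ℕ), by omega⟩ : Fin (n + 3)))
        refine le_inf ((Subgroup.commutator_mono inf_le_left le_rfl).trans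
          (Subgroup.commutator_le_left _ _)) ?_
        refine (Subgroup.commutator_mono inf_le_right le_rfl).trans ?_
        rw [show n + 1 + 1 - (i : ℕ) = (n + 1 - i) + 1 by omega]
        exact ks _
  refine le_bot_iff.1 ((key _).trans (iSup_le fun i => ?_))
  by_cases hi : c + 1 ≤ (i : ℕ)
  · rw [anti_h _ hi, bot_inf_eq]
  · rw [anti_k _ (by omega), inf_bot_eq]

end Cfsg.Agent.S4204
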