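import Cfsg.Statements.S4218
import Cfsg.Agent.PLocal.PConstrained
import Cfsg.Agent.Solvable.CoprimeAct
import Cfsg.Agent.Solvable.PGroupBasic

set_option autoImplicit false
set_option linter.deprecated false
set_option linter.style.haveILetI false
set_option linter.unusedVariables false
open Cfsg
open scoped Pointwise

namespace Cfsg.Agent.S4218

/-- Let `G` be a finite `p`-solvable group, `N₀ = O_{p'}(G)`, `P₁ = O_{p',p}(G)`, and let `F ≤ P₁` be the preimage of the Frattini subgroup of `P₁/N₀`. Then an element `g` of `G` induces the identity on `P₁/F` by conjugation (that is, `g x g⁻¹ x⁻¹ ∈ F` for all `x ∈ P₁`) if and only if `g ∈ P₁`: the group `G/P₁` acts faithfully on `P₁/F`. -/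
theorem result {G : Type*} [Group G] [Finite G] {p : ℕ} [Fact p.Prime] (hG : Cfsg.IsPSolvable p G) (g : G) : (∀ x ∈ Cfsg.pPrimePCore p G, g * x * g⁻¹ * x⁻¹ ∈ ((frattini (↥(Cfsg.pPrimePCore p G) ⧸ (Cfsg.pPrimeCore p G).subgroupOf (Cfsg.pPrimePCore p G))).comap (QuotientGroup.mk' ((Cfsg.pPrimeCore p G).subgroupOf (Cfsg.pPrimePCore p G)))).map (Cfsg.pPrimePCore p G).subtype) ↔ g ∈ Cfsg.pPrimePCore p G := by
  classical
  set N0 := Cfsg.pPrimeCore p G with hN0
  set P1 := Cfsg.pPrimePCore p G with hP1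
  haveI : N0.Normal := CfsgLib.Solvable.pPrimeCore_normal p
  set π := QuotientGroup.mk' N0 with hπ
  set Pb := Cfsg.pCore p (G ⧸ N0) with hPb
  haveI hPbn : Pb.Normal := CfsgLib.Solvable.pCore_normal p
  have hπP : ∀ x : G, x ∈ P1 ↔ π x ∈ Pb := fun x => Iff.rfl
  have hPp : IsPGroup p Pb := CfsgLib.Solvable.isPGroup_pCore p
  let ψ : P1 →* Pb := (π.comp P1.subtype).codRestrict Pb fun x => (hπP x).1 x.2
  have hψs : Function.Surjective ψ := fun y => by
    obtain ⟨x, hx⟩ := QuotientGroup.mk'_surjective N0 y.1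
    exact ⟨⟨x, (hπP x).2 (by rw [show π x = y.1 from hx]; exact y.2)⟩, Subtype.ext hx⟩
  set Nq := N0.subgroupOf P1
  have hker : Nq ≤ ψ.ker := fun x hx =>
    Subtype.ext ((QuotientGroup.eq_one_iff _).2 (Subgroup.mem_subgroupOf.1 hx))
  let ψ' : P1 ⧸ Nq →* Pb := QuotientGroup.lift Nq ψ hker
  have hψ's : Function.Surjective ψ' := fun y => by
    obtain ⟨x, hx⟩ := hψs y
    exact ⟨x, hx⟩
  constructor
  · intro h
    set Φ := (frattini Pb).map Pb.subtype with hΦ
    haveI hΦn : Φ.Normal := inferInstance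
    set π2 := QuotientGroup.mk' Φ
    set C : Subgroup (G ⧸ N0) := (Subgroup.centralizer ((Pb.map π2 : Subgroup _) : Set _)).comap π2 with hC
    haveI hPbn2 : (Pb.map π2).Normal := hPbn.map π2 (QuotientGroup.mk'_surjective _)
    haveI hCn : C.Normal := Subgroup.Normal.comap Subgroup.normal_centralizer π2
    have hCmem : ∀ y ∈ C, ∀ x ∈ Pb, y * x * y⁻¹ * x⁻¹ ∈ Φ := by
      intro y hy x hx
      have hc := Subgroup.mem_centralizer_iff.1 (Subgroup.mem_comap.1 hy) _ (Subgroup.mem_map_of_mem π2 hx)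
      rw [← QuotientGroup.eq_one_iff]
      show π2 (y * x * y⁻¹ * x⁻¹) = 1
      rw [map_mul, map_mul, map_mul, map_inv, map_inv, ← hc]; group
    have hgC : π g ∈ C := by
      rw [hC, Subgroup.mem_comap, Subgroup.mem_centralizer_iff]
      rintro _ ⟨x, hx, rfl⟩
      obtain ⟨x, rfl⟩ := QuotientGroup.mk'_surjective N0 x
      obtain ⟨f, hf, hfe⟩ := h x ((hπP x).2 hx)
      have hfP : (ψ f : G ⧸ N0) ∈ Φ := by
        refine ⟨ψ f, ?_, rfl⟩
        have h1 : QuotientGroup.mk' Nq f ∈ frattini (P1 ⧸ Nq) := hf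
        exact frattini_le_comap_frattini_of_surjective hψ's h1
      have h2 : π (g * x * g⁻¹ * x⁻¹) ∈ Φ := by
        rw [← hfe]; exact hfP
      have h3 : π2 (π (g * x * g⁻¹ * x⁻¹)) = 1 := (QuotientGroup.eq_one_iff _).2 h2
      simp only [map_mul, map_inv] at h3
      rw [mul_inv_eq_one, mul_inv_eq_iff_eq_mul] at h3
      exact h3.symm
    -- the subgroup `C` is a p-group
    have hsc : CfsgLib.PConstrained.SelfCent p (G ⧸ N0) := by
      refine CfsgLib.PConstrained.selfCent_of_pSolvable (CfsgLib.Fitting.pPrimeCore_quotient_eq_bot p) ?_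
      exact CfsgLib.PConstrained.isPSolvable_comap _ (Subgroup.subtype_injective _)
        (CfsgLib.PConstrained.isPSolvable_map π (QuotientGroup.mk'_surjective _) hG)
    have hCp : IsPGroup p C := by
      rw [IsPGroup.iff_card]
      refine ⟨_, Nat.eq_prime_pow_of_unique_prime_dvd Nat.card_pos.ne' ?_⟩
      intro q hq hqd
      by_contra hne
      haveI := Fact.mk hq
      obtain ⟨y, hy⟩ := exists_prime_orderOf_dvd_card' q hqd
      have hyA : Subgroup.zpowers (y : G ⧸ N0) ≤ C := Subgroup.zpowers_le.2 y.2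
      obtain ⟨k, hk⟩ := IsPGroup.iff_card.1 (hPp.to_subgroup (frattini Pb))
      have htriv := CfsgLib.CoprimeAct.trivial_on_frattini_quotient (A := Subgroup.zpowers (y : G ⧸ N0)) (K := Pb)
        Subgroup.le_normalizer_of_normal (by
          rw [Nat.card_zpowers, Subgroup.orderOf_coe, hy, hk]
          exact ((Nat.coprime_primes hq (Fact.out : p.Prime)).2 hne).pow_right k)
        (fun a ha x hx => hCmem a (hyA ha) x hx)
      have hyP : (y : G ⧸ N0) ∈ Pb := hsc (htriv (Subgroup.mem_zpowers _))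
      obtain ⟨j, hj⟩ := IsPGroup.iff_orderOf.1 hPp ⟨y, hyP⟩
      rw [Subgroup.orderOf_mk, Subgroup.orderOf_coe, hy] at hj
      exact hne ((Nat.prime_dvd_prime_iff_eq hq Fact.out).1 (hq.dvd_of_dvd_pow (dvd_of_eq hj)))
    exact (hπP g).2 (CfsgLib.Solvable.le_pCore p hCn hCp hgC)
  · intro hg x hx
    refine ⟨⟨g * x * g⁻¹ * x⁻¹, mul_mem (mul_mem (mul_mem hg hx) (inv_mem hg)) (inv_mem hx)⟩, ?_, rfl⟩
    have hQp : IsPGroup p (P1 ⧸ Nq) := by
      intro y
      obtain ⟨y, rfl⟩ := QuotientGroup.mk'_surjective Nq y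
      obtain ⟨k, hk⟩ := hPp (ψ y)
      refine ⟨k, ?_⟩
      rw [← map_pow]
      refine (QuotientGroup.eq_one_iff _).2 (Subgroup.mem_subgroupOf.2 ?_)
      rw [← QuotientGroup.eq_one_iff]
      show π (((y ^ p ^ k : P1) : G)) = 1
      rw [SubmonoidClass.coe_pow, map_pow]
      exact congrArg Subtype.val hk
    have h1 := (CfsgLib.PGroupBasic.commutator_pow_le_frattini hQp).1
      (Subgroup.commutator_mem_commutator (Subgroup.mem_top (QuotientGroup.mk' Nq ⟨g, hg⟩))
        (Subgroup.mem_top (QuotientGroup.mk' Nq ⟨x, hx⟩)))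
    rw [← map_commutatorElement] at h1
    exact h1


end Cfsg.Agent.S4218
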