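import Cfsg.Statements.S4219
import Mathlib.GroupTheory.GroupAction.MultipleTransitivity
import Mathlib.GroupTheory.Sylow

set_option autoImplicit false
set_option linter.style.haveILetI false
open Cfsg

namespace Cfsg.Agent.S4219

/-- Let a finite group `G` act `t`-fold transitively on a finite set, let `H` be the stabilizer of `t` distinct points and `P` a Sylow `p`-subgroup of `H`. Then the normalizer of `P` in `G` is `t`-fold transitive on the fixed points of `P`: any `t` distinct fixed points of `P` can be carried to any other `t` distinct fixed points of `P` by an element normalizing `P`. -/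
theorem result {G : Type*} [Group G] [Finite G] {α : Type*} [Fintype α] [MulAction G α] {t : ℕ} (hG : MulAction.IsMultiplyPretransitive G α t) (x : Fin t ↪ α) {p : ℕ} [Fact p.Prime] (P : Sylow p (MulAction.stabilizer G x)) (a b : Fin t ↪ α) (ha : ∀ i, a i ∈ MulAction.fixedPoints ((P : Subgroup (MulAction.stabilizer G x)).map (MulAction.stabilizer G x).subtype) α) (hb : ∀ i, b i ∈ MulAction.fixedPoints ((P : Subgroup (MulAction.stabilizer G x)).map (MulAction.stabilizer G x).subtype) α) : ∃ g ∈ Subgroup.normalizer ((((P : Subgroup (MulAction.stabilizer G x)).map (MulAction.stabilizer G x).subtype) : Subgroup G) : Set G), g • a = b := by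
  classical
  haveI : MulAction.IsPretransitive G (Fin t ↪ α) := hG
  set P' : Subgroup G := (P : Subgroup (MulAction.stabilizer G x)).map (MulAction.stabilizer G x).subtype with hP'
  have hfix : ∀ e : Fin t ↪ α, (∀ i, e i ∈ MulAction.fixedPoints P' α) →
      P' ≤ MulAction.stabilizer G e := by
    intro e he q hq
    rw [MulAction.mem_stabilizer_iff]
    ext i
    exact he i ⟨q, hq⟩
  obtain ⟨g0, hg0⟩ := MulAction.exists_smul_eq G a b
  obtain ⟨k, hk⟩ := MulAction.exists_smul_eq G x b
  let c : G → G →* G := fun g => (MulAut.conj g).toMonoidHom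
  have hcard : Nat.card (MulAction.stabilizer G b) = Nat.card (MulAction.stabilizer G x) := by
    rw [← hk, MulAction.stabilizer_smul_eq_stabilizer_map_conj]
    exact Subgroup.card_map_of_injective (MulAut.conj k).injective
  have hB : P' ≤ MulAction.stabilizer G b := hfix b hb
  have hA : P'.map (c g0) ≤ MulAction.stabilizer G b := by
    rw [← hg0, MulAction.stabilizer_smul_eq_stabilizer_map_conj]
    exact Subgroup.map_mono (hfix a ha)
  have hPc : Nat.card P' = p ^ (Nat.card (MulAction.stabilizer G b)).factorization p := by
    rw [hcard, hP', Subgroup.card_map_of_injective (Subgroup.subtype_injective _)]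
    exact P.card_eq_multiplicity
  have hQ1 : Nat.card (P'.subgroupOf (MulAction.stabilizer G b)) =
      p ^ (Nat.card (MulAction.stabilizer G b)).factorization p :=
    (Nat.card_congr (Subgroup.subgroupOfEquivOfLe hB).toEquiv).trans hPc
  have hQ2 : Nat.card ((P'.map (c g0)).subgroupOf (MulAction.stabilizer G b)) =
      p ^ (Nat.card (MulAction.stabilizer G b)).factorization p :=
    (Nat.card_congr (Subgroup.subgroupOfEquivOfLe hA).toEquiv).trans
      ((Subgroup.card_map_of_injective (MulAut.conj g0).injective).trans hPc)
  obtain ⟨h, hh⟩ := MulAction.exists_smul_eq (MulAction.stabilizer G b)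
    (Sylow.ofCard _ hQ2) (Sylow.ofCard _ hQ1)
  have heq : (P'.map (c g0)).map (c h) = P' := by
    refine Subgroup.eq_of_le_of_card_ge ?_ (le_of_eq ?_)
    · rintro _ ⟨z, hz, rfl⟩
      have h1 : h * ⟨z, hA hz⟩ * h⁻¹ ∈
          ((h • Sylow.ofCard _ hQ2 : Sylow p (MulAction.stabilizer G b)) :
            Subgroup (MulAction.stabilizer G b)) := by
        rw [Sylow.coe_subgroup_smul, Sylow.coe_ofCard, Subgroup.mem_pointwise_smul_iff_inv_smul_mem]
        simpa [← map_inv, mul_assoc, Subgroup.mem_subgroupOf] using hz
      rw [hh, Sylow.coe_ofCard, Subgroup.mem_subgroupOf] at h1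
      exact h1
    · have e1 : Nat.card ((P'.map (c g0)).map (c h)) = Nat.card (P'.map (c g0)) :=
        Subgroup.card_map_of_injective (MulAut.conj (h : G)).injective
      have e2 : Nat.card (P'.map (c g0)) = Nat.card P' :=
        Subgroup.card_map_of_injective (MulAut.conj g0).injective
      rw [e1, e2]
  refine ⟨(h : G) * g0, ?_, by rw [mul_smul, hg0]; exact h.2⟩
  rw [Subgroup.mem_normalizer_iff]
  have hcomp : P'.map (c ((h : G) * g0)) = P' := by
    refine Eq.trans ?_ heq
    rw [Subgroup.map_map P' (c h) (c g0)]
    exact congrArg (fun f : G →* G => P'.map f) (MonoidHom.ext fun z => by simp [c, mul_assoc])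
  intro z
  constructor
  · intro hz
    rw [← hcomp]; exact ⟨z, hz, rfl⟩
  · intro hz
    rw [← hcomp] at hz
    obtain ⟨w, hw, he⟩ := hz
    exact (MulAut.conj ((h : G) * g0)).injective he ▸ hw

end Cfsg.Agent.S4219
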