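import Cfsg.Statements.S4221
import Cfsg.Agent.HallFour.Even
import Cfsg.Agent.HallFour.OddLarge
import Cfsg.Agent.HallFour.Eleven

set_option autoImplicit false
open Cfsg

namespace CfsgLib.HallFour

open Equiv MulAction

variable {α : Type*} [Fintype α] [DecidableEq α] {G : Subgroup (Perm α)}

/-- No group of order `7920 * h` on eleven points for `h = 3, 5, 15`. -/
theorem sylow_eleven (hn : Fintype.card α = 11) {h : ℕ} (hh : h = 3 ∨ h = 5 ∨ h = 15)
    (hG : Nat.card G = 7920 * h) : False := by
  haveI : Fact (Nat.Prime 11) := ⟨by norm_num⟩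
  obtain ⟨S⟩ : Nonempty (Sylow 11 G) := inferInstance
  have hfac : (Nat.card G).factorization 11 = 1 := by
    refine le_antisymm ?_ ((Nat.Prime.dvd_iff_one_le_factorization (by norm_num)
      Nat.card_pos.ne').1 (by rw [hG]; omega))
    by_contra hlt
    have h2 := (Nat.Prime.pow_dvd_iff_le_factorization (p := 11) (k := 2) (by norm_num)
      Nat.card_pos.ne').2 (show 2 ≤ (Nat.card G).factorization 11 by omega)
    rw [hG] at h2
    rcases hh with rfl | rfl | rfl <;> norm_num at h2
  have hS : Nat.card (S : Subgroup G) = 11 := by rw [S.card_eq_multiplicity, hfac, pow_one]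
  obtain ⟨⟨q, hqS⟩, hq⟩ := exists_prime_orderOf_dvd_card' (G := (S : Subgroup G)) 11
    (dvd_of_eq hS.symm)
  have hq11 : (q : Perm α) ^ 11 = 1 := by
    have := pow_orderOf_eq_one (⟨q, hqS⟩ : (S : Subgroup G))
    rw [hq] at this
    exact congrArg (fun z : (S : Subgroup G) => ((z : G) : Perm α)) this
  obtain ⟨w, hw⟩ : ∃ w, (q : Perm α) w ≠ w := by
    by_contra h
    push Not at h
    have : (⟨q, hqS⟩ : (S : Subgroup G)) = 1 := Subtype.ext (Subtype.ext (Equiv.ext h))
    rw [this, orderOf_one] at hq
    norm_num at hq
  have hinj := period_prime (by norm_num : Nat.Prime 11) hq11 hw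
  have hsurj : Function.Surjective fun i : Fin 11 => ((q : Perm α) ^ (i : ℕ)) w :=
    ((Fintype.bijective_iff_injective_and_card _).2 ⟨hinj, by simp [hn]⟩).2
  set C := Subgroup.centralizer ((S : Subgroup G) : Set G) with hC
  haveI : IsCyclic (S : Subgroup G) := isCyclic_of_prime_card hS
  have hSC : (S : Subgroup G) ≤ C := by
    letI := IsCyclic.commGroup (α := (S : Subgroup G))
    intro z hz
    rw [hC, Subgroup.mem_centralizer_iff]
    intro y hy
    exact congrArg Subtype.val (mul_comm (⟨y, hy⟩ : (S : Subgroup G)) ⟨z, hz⟩)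
  have hCle : Nat.card C ≤ 11 := by
    have hci : Function.Injective fun c : C => ((c : G) : Perm α) w := by
      intro c d hcd
      apply Subtype.ext; apply Subtype.ext; apply Equiv.ext
      intro z
      obtain ⟨i, rfl⟩ := hsurj z
      have key : ∀ e : C, ((e : G) : Perm α) * (q : Perm α) = (q : Perm α) * ((e : G) : Perm α) :=
        fun e => congrArg Subtype.val ((Subgroup.mem_centralizer_iff.1 e.2) q hqS).symm
      have k : ∀ e : C, ((e : G) : Perm α) (((q : Perm α) ^ (i : ℕ)) w) =
          ((q : Perm α) ^ (i : ℕ)) (((e : G) : Perm α) w) := fun e =>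
        comm_apply (Commute.pow_right (key e) (i : ℕ)).eq w
      show ((c : G) : Perm α) _ = ((d : G) : Perm α) _
      rw [k c, k d]
      exact congrArg _ hcd
    refine (Nat.card_le_card_of_injective _ hci).trans ?_
    rw [Nat.card_eq_fintype_card, hn]
  set N := Subgroup.normalizer ((S : Subgroup G) : Set G) with hN
  have hCN : C ≤ N := fun z hz => Subgroup.centralizer_le_normalizer _ hz
  have hCc : Nat.card C = 11 := le_antisymm hCle (hS ▸ Subgroup.card_le_of_le hSC)
  have hker : Nat.card (Subgroup.normalizerMonoidHom (S : Subgroup G)).ker = 11 := by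
    rw [Subgroup.normalizerMonoidHom_ker,
      Nat.card_congr (Subgroup.subgroupOfEquivOfLe hCN).toEquiv, hCc]
  have hrange : Nat.card (Subgroup.normalizerMonoidHom (S : Subgroup G)).range ∣ 10 := by
    refine (Subgroup.card_subgroup_dvd_card _).trans (dvd_of_eq ?_)
    rw [IsCyclic.card_mulAut, hS, Nat.totient_prime (by norm_num)]
  set d := Nat.card (Subgroup.normalizerMonoidHom (S : Subgroup G)).range with hd
  have hNc : Nat.card N = d * 11 := by
    calc Nat.card N = (Subgroup.normalizerMonoidHom (S : Subgroup G)).ker.index *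
          Nat.card (Subgroup.normalizerMonoidHom (S : Subgroup G)).ker :=
        (Subgroup.index_mul_card _).symm
      _ = d * 11 := by rw [hker, Subgroup.index_ker]
  have hidx : Nat.card (Sylow 11 G) * (d * 11) = 7920 * h := by
    rw [S.card_eq_index_normalizer, ← hNc, ← hG]
    exact Subgroup.index_mul_card N
  have hmod := card_sylow_modEq_one 11 G
  unfold Nat.ModEq at hmod
  have hd10 : d = 1 ∨ d = 2 ∨ d = 5 ∨ d = 10 := by
    have hm : d ∈ Nat.divisors 10 := Nat.mem_divisors.2 ⟨hrange, by norm_num⟩
    rw [show Nat.divisors 10 = {1, 2, 5, 10} by decide] at hm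
    simpa using hm
  rcases hh with rfl | rfl | rfl <;> rcases hd10 with hd' | hd' | hd' | hd' <;>
    rw [hd'] at hidx <;> omega

theorem main (G : Subgroup (Perm α)) (hG : IsMultiplyPretransitive G α 4) (x : Fin 4 ↪ α)
    (hodd : Odd (Nat.card (stabilizer G x))) :
    ((Fintype.card α = 4 ∨ Fintype.card α = 5) ∧ G = ⊤) ∨
      ((Fintype.card α = 6 ∨ Fintype.card α = 7) ∧ G = alternatingGroup α) ∨
      (Fintype.card α = 11 ∧ Nat.card G = 7920) := by
  have h4n : 4 ≤ Fintype.card α := by simpa using Fintype.card_le_of_embedding x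
  have mk : ∀ {a b c d : α}, D4 a b c d → ∃ e : Fin 4 ↪ α,
      e 0 = a ∧ e 1 = b ∧ e 2 = c ∧ e 3 = d := fun {a b c d} h => by
    obtain ⟨h1, h2, h3, h4, h5, h6⟩ := h
    refine ⟨⟨![a, b, c, d], fun i j hij => ?_⟩, rfl, rfl, rfl, rfl⟩
    fin_cases i <;> fin_cases j <;> simp_all
  have htr : ∀ y z : Fin 4 ↪ α, ∃ g : G, g • y = z :=
    isMultiplyPretransitive_iff.1 hG
  haveI := hG
  have H : Hyp G := by
    refine ⟨fun a b c d a' b' c' d' h h' => ?_, fun g hg a b c d h ga gb gc gd => ?_⟩
    · obtain ⟨e, rfl, rfl, rfl, rfl⟩ := mk h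
      obtain ⟨e', rfl, rfl, rfl, rfl⟩ := mk h'
      obtain ⟨g, hg⟩ := htr e e'
      refine ⟨g, g.2, ?_, ?_, ?_, ?_⟩ <;> rw [← hg] <;> rfl
    · obtain ⟨e, rfl, rfl, rfl, rfl⟩ := mk h
      obtain ⟨k, hk⟩ := htr x e
      have hfix : (⟨g, hg⟩ : G) • e = e := by
        ext i
        fin_cases i <;> assumption
      have hmem : k⁻¹ * ⟨g, hg⟩ * k ∈ stabilizer G x := by
        refine mem_stabilizer_iff.2 ?_
        ext i
        have h1 : (k : Perm α) (x i) = e i := congrArg (fun f : Fin 4 ↪ α => f i) hk
        have h2 : g (e i) = e i := congrArg (fun f : Fin 4 ↪ α => f i) hfix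
        show (k : Perm α)⁻¹ (g ((k : Perm α) (x i))) = x i
        rw [h1, h2, ← h1]
        simp
      have h1 : orderOf (k⁻¹ * (⟨g, hg⟩ : G) * k) ∣ Nat.card (stabilizer G x) := by
        have := orderOf_dvd_natCard (⟨_, hmem⟩ : stabilizer G x)
        rwa [← orderOf_injective (stabilizer G x).subtype Subtype.val_injective ⟨_, hmem⟩] at this
      have h2 : orderOf (k⁻¹ * (⟨g, hg⟩ : G) * k) = orderOf g := by
        have e1 := (MulAut.conj k⁻¹).orderOf_eq (⟨g, hg⟩ : G)
        rw [MulAut.conj_apply, inv_inv] at e1
        rw [e1, ← orderOf_injective G.subtype Subtype.val_injective]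
        rfl
      exact hodd.of_dvd_nat (h2 ▸ h1)
  set n := Fintype.card α with hn
  set h := Nat.card (stabilizer G x) with hh
  have hcard : n.descFactorial 4 * h = Nat.card G := by
    have hst : (stabilizer G x).index = n.descFactorial 4 := by
      rw [index_stabilizer]
      refine (congrArg Set.ncard (Set.eq_univ_of_forall fun y => ?_)).trans ?_
      · obtain ⟨g, hg⟩ := htr x y
        exact ⟨g, hg⟩
      · rw [Set.ncard_univ, Nat.card_eq_fintype_card, Fintype.card_embedding_eq, Fintype.card_fin]
    rw [hh, ← Subgroup.index_mul_card (stabilizer G x), hst]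
  have hperm : Nat.card (Perm α) = n.factorial := by
    rw [Nat.card_perm, Nat.card_eq_fintype_card]
  have hdvd : h ∣ (n - 4).factorial := by
    refine Nat.dvd_of_mul_dvd_mul_right (k := n.descFactorial 4)
      (Nat.descFactorial_pos.2 h4n |> fun p => p) ?_
    rw [mul_comm h, hcard, Nat.factorial_mul_descFactorial h4n, ← hperm]
    exact Subgroup.card_subgroup_dvd_card G
  have hidx : G.index * Nat.card G = n.factorial := by rw [Subgroup.index_mul_card, hperm]
  rcases Nat.lt_or_ge n 8 with hsmall | hlarge
  · have hle := Nat.le_of_dvd (Nat.factorial_pos _) hdvd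
    obtain ⟨k, hk⟩ := hodd
    obtain h' | h' | h' | h' : n = 4 ∨ n = 5 ∨ n = 6 ∨ n = 7 := by omega
    · left
      rw [h'] at hle hcard hidx
      norm_num [Nat.descFactorial, Nat.factorial] at hle hcard hidx
      exact ⟨Or.inl h', Subgroup.index_eq_one.1 (by rw [← hcard] at hidx; nlinarith)⟩
    · left
      rw [h'] at hle hcard hidx
      norm_num [Nat.descFactorial, Nat.factorial] at hle hcard hidx
      exact ⟨Or.inr h', Subgroup.index_eq_one.1 (by rw [← hcard] at hidx; nlinarith)⟩
    · right; left
      rw [h'] at hle hcard hidx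
      norm_num [Nat.descFactorial, Nat.factorial] at hle hcard hidx
      have hh1 : h = 1 := by omega
      refine ⟨Or.inl h', Perm.eq_alternatingGroup_of_index_eq_two ?_⟩
      rw [← hcard, hh1] at hidx
      omega
    · right; left
      rw [h'] at hle hcard hidx hdvd
      norm_num [Nat.descFactorial, Nat.factorial] at hle hcard hidx hdvd
      refine ⟨Or.inr h', Perm.eq_alternatingGroup_of_index_eq_two ?_⟩
      have hh3 : h = 1 ∨ h = 3 := by
        have : h ∈ Nat.divisors 6 := Nat.mem_divisors.2 ⟨hdvd, by norm_num⟩
        rw [show Nat.divisors 6 = {1, 2, 3, 6} by decide] at this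
        simp only [Finset.mem_insert, Finset.mem_singleton] at this
        omega
      rcases hh3 with h1 | h1
      · exfalso
        have hi : G.index = 6 := by rw [← hcard, h1] at hidx; omega
        have hkern : G.normalCore.index ≤ 720 := by
          rw [Subgroup.normalCore_eq_ker, Subgroup.index_ker]
          refine (Subgroup.card_le_card_group _).trans ?_
          rw [Nat.card_perm, ← Subgroup.index_eq_card, hi]
          decide
        have hnt : Nontrivial G.normalCore := by
          rw [Subgroup.nontrivial_iff_ne_bot]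
          intro hb
          rw [hb, Subgroup.index_bot, hperm, h'] at hkern
          norm_num [Nat.factorial] at hkern
        have hle' := (Perm.alternatingGroup_le_of_normal
          (by rw [Nat.card_eq_fintype_card]; omega) hnt).trans G.normalCore_le
        haveI : Nontrivial α := Fintype.one_lt_card_iff_nontrivial.1 (by omega)
        have hi2 := Subgroup.index_antitone hle'
        rw [alternatingGroup.index_eq_two, hi] at hi2
        omega
      · rw [← hcard, h1] at hidx
        omega
  · rcases Nat.even_or_odd n with hev | hod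
    · exact (not_even H hlarge hev).elim
    rcases lt_trichotomy n 11 with h9 | h11 | hgt
    · exfalso
      have h9' : n = 9 := by obtain ⟨k, hk⟩ := hod; omega
      obtain ⟨D⟩ := exists_frame H hlarge hod
      obtain ⟨p, -, hp⟩ := Finset.exists_mem_notMem_of_card_lt_card (s := D.S) (t := Finset.univ)
        (by rw [Finset.card_univ, D.card_S]; omega)
      have F := D.four hp
      obtain ⟨d1, d2, d3, d4, d5, d6⟩ := F.d4
      have hsub : ({p, D.u p, D.v p, D.u (D.v p)} : Finset α) ⊆ D.Sᶜ := by
        intro z hz
        simp only [Finset.mem_insert, Finset.mem_singleton] at hz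
        rw [Finset.mem_compl]
        rcases hz with rfl | rfl | rfl | rfl
        · exact hp
        · exact fun h => hp (by simpa [apply_apply D.uu] using (D.eval _ h).1)
        · exact fun h => hp (by simpa [apply_apply D.vv] using (D.eval _ h).2)
        · exact fun h => hp (by
            simpa [apply_apply D.vv, apply_apply D.uu] using (D.eval _ (D.eval _ h).1).2)
      have := Finset.card_le_card hsub
      rw [Finset.card_eq_four.2 ⟨_, _, _, _, d1, d2, d3, d4, d5, d6, rfl⟩, Finset.card_compl,
        D.card_S, ← hn, h9'] at this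
      omega
    · right; right
      refine ⟨h11, ?_⟩
      obtain ⟨a, -, b, -, c, -, d, -, hD⟩ := exists_four (s := (Finset.univ : Finset α))
        (by rw [Finset.card_univ]; omega)
      obtain ⟨e, rfl, rfl, rfl, rfl⟩ := mk hD
      set K : Subgroup (Perm α) := (stabilizer G e).map G.subtype with hK
      have hKmem : ∀ g : Perm α, g ∈ K ↔
          g ∈ G ∧ g (e 0) = e 0 ∧ g (e 1) = e 1 ∧ g (e 2) = e 2 ∧ g (e 3) = e 3 := by
        intro g
        constructor
        · rintro ⟨k, hk, rfl⟩
          have := fun i => congrArg (fun f : Fin 4 ↪ α => f i) (mem_stabilizer_iff.1 hk)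
          exact ⟨k.2, this 0, this 1, this 2, this 3⟩
        · rintro ⟨hg, g0, g1, g2, g3⟩
          refine ⟨⟨g, hg⟩, mem_stabilizer_iff.2 ?_, rfl⟩
          ext i
          fin_cases i <;> assumption
      have hKc : Nat.card K = h := by
        rw [hK, ← Nat.card_congr ((stabilizer G e).equivMapOfInjective _
          (Subgroup.subtype_injective G)).toEquiv]
        obtain ⟨k, rfl⟩ := htr x e
        rw [hh]
        exact (Nat.card_congr (stabilizerEquivStabilizer (rfl : k • x = k • x)).toEquiv).symm
      have hprim : IsPreprimitive G α := by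
        refine isPreprimitive_of_is_two_pretransitive ?_
        exact isMultiplyPretransitive_of_le (n := 4) (by norm_num)
          (by rw [Nat.card_eq_fintype_card]; omega)
      have hd7 : h ∣ 5040 := by rw [h11] at hdvd; exact hdvd
      have h7 := not_seven H h11 hD hKmem (hKc ▸ hd7)
      have h9 := not_nine H hprim h11 hD hKmem (hKc ▸ hd7)
      rw [hKc] at h7 h9
      have hcop : h ∣ 15 := by
        have h2 : Nat.Coprime h 16 := (Nat.Coprime.pow_right 4 (Nat.coprime_two_right.2 hodd) :)
        have h77 : Nat.Coprime h 7 :=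
          Nat.Coprime.symm ((Nat.Prime.coprime_iff_not_dvd (by norm_num)).2 h7)
        have h45 : h ∣ 45 := Nat.Coprime.dvd_of_dvd_mul_right (h2.mul_right h77)
          (hd7.trans (dvd_of_eq (by norm_num)))
        have : h ∈ Nat.divisors 45 := Nat.mem_divisors.2 ⟨h45, by norm_num⟩
        rw [show Nat.divisors 45 = {1, 3, 5, 9, 15, 45} by decide] at this
        simp only [Finset.mem_insert, Finset.mem_singleton] at this
        rcases this with r | r | r | r | r | r <;>
          first | (rw [r]; done) | (rw [r]; norm_num; done) | (rw [r] at h9; norm_num at h9; done)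
      rw [h11] at hcard
      norm_num [Nat.descFactorial] at hcard
      have : h ∈ Nat.divisors 15 := Nat.mem_divisors.2 ⟨hcop, by norm_num⟩
      rw [show Nat.divisors 15 = {1, 3, 5, 15} by decide] at this
      simp only [Finset.mem_insert, Finset.mem_singleton] at this
      rcases this with r | r | r | r
      · rw [← hcard, r]
      all_goals exact (sylow_eleven (G := G) h11 (h := h) (by omega) (by omega)).elim
    · exact (not_large H hod hgt).elim

end CfsgLib.HallFour

namespace Cfsg.Agent.S4221

/-- Let `G` be a `4`-fold transitive permutation group on a finite set of `n` points in which the pointwise stabilizer of some four distinct points has odd order. Then `n = 4` or `n = 5` with `G` the full symmetric group, or `n = 6` or `n = 7` with `G` the alternating group, or `n = 11` and `G` has order `7920`. -/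
theorem result {α : Type*} [Fintype α] [DecidableEq α] (G : Subgroup (Equiv.Perm α)) (hG : MulAction.IsMultiplyPretransitive G α 4) (x : Fin 4 ↪ α) (hodd : Odd (Nat.card (MulAction.stabilizer G x))) : ((Fintype.card α = 4 ∨ Fintype.card α = 5) ∧ G = ⊤) ∨ ((Fintype.card α = 6 ∨ Fintype.card α = 7) ∧ G = alternatingGroup α) ∨ (Fintype.card α = 11 ∧ Nat.card G = 7920) := by
  exact CfsgLib.HallFour.main G hG x hodd

end Cfsg.Agent.S4221
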