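import Cfsg.Statements.S4227
import Cfsg.Agent.FGSA.AbelianSylowLength
import Cfsg.Agent.Char.Burnside
import Cfsg.Agent.Solvable.Fitting

set_option autoImplicit false
set_option linter.deprecated false
set_option linter.style.haveILetI false
set_option linter.unusedVariables false
open Cfsg
open scoped Pointwise

namespace Cfsg.Agent.S4227

/-- A finite group in which every element has order dividing `6` has `2`-length at most `1` and `3`-length at most `1`. -/
theorem result {G : Type*} [Group G] [Finite G] (h : ∀ x : G, x ^ 6 = 1) : Cfsg.PLengthLE 2 1 G ∧ Cfsg.PLengthLE 3 1 G := by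
  classical
  open CfsgLib.FGSA in
  haveI h2f := Fact.mk Nat.prime_two
  haveI h3f := Fact.mk Nat.prime_three
  have hprimes : ∀ q : ℕ, q.Prime → q ∣ Nat.card G → q = 2 ∨ q = 3 := by
    intro q hq hd
    haveI := Fact.mk hq
    obtain ⟨x, hx⟩ := exists_prime_orderOf_dvd_card' q hd
    have h6 : q ∣ 2 * 3 := by rw [← hx]; exact orderOf_dvd_of_pow_eq_one (h x)
    rcases hq.dvd_mul.1 h6 with hh | hh
    · exact Or.inl ((Nat.prime_dvd_prime_iff_eq hq Nat.prime_two).1 hh)
    · exact Or.inr ((Nat.prime_dvd_prime_iff_eq hq Nat.prime_three).1 hh)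
  obtain ⟨a, b, hab⟩ : ∃ a b, Nat.card G = 2 ^ a * 3 ^ b := by
    refine ⟨(Nat.card G).factorization 2, (Nat.card G / 2 ^ (Nat.card G).factorization 2).factorization 3, ?_⟩
    set m := Nat.card G / 2 ^ (Nat.card G).factorization 2 with hm
    have hm0 : m ≠ 0 := (Nat.ordCompl_pos 2 Nat.card_pos.ne').ne'
    have h3 : m = 3 ^ m.primeFactorsList.length := Nat.eq_prime_pow_of_unique_prime_dvd hm0 fun {q} hq hqm => by
      rcases hprimes q hq (hqm.trans (Nat.ordCompl_dvd _ 2)) with rfl | rfl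
      · exact absurd hqm (Nat.not_dvd_ordCompl Nat.prime_two Nat.card_pos.ne')
      · rfl
    have e : m.factorization 3 = m.primeFactorsList.length := by
      conv_lhs => rw [h3]
      simp [Nat.Prime.factorization_pow Nat.prime_three]
    rw [e, ← h3]
    exact (Nat.ordProj_mul_ordCompl_eq_self _ 2).symm
  haveI : Group.IsSolvable G := CfsgLib.Char.isSolvable_of_card_eq 2 3 a b Nat.prime_two Nat.prime_three hab
  have hsq : ∀ K : Subgroup G, IsPGroup 2 K → ∀ y ∈ K, y ^ 2 = 1 := by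
    intro K hK y hy
    obtain ⟨k, hk⟩ := IsPGroup.iff_orderOf.1 hK ⟨y, hy⟩
    rw [Subgroup.orderOf_mk] at hk
    have h1 : orderOf y ∣ Nat.gcd (2 ^ k) (2 * 3) :=
      Nat.dvd_gcd (dvd_of_eq hk) (orderOf_dvd_of_pow_eq_one (h y))
    rw [Nat.Coprime.gcd_mul_right_cancel_right 2 ((by norm_num : Nat.Coprime 3 2).pow_right k)] at h1
    exact orderOf_dvd_iff_pow_eq_one.1 (h1.trans (Nat.gcd_dvd_right _ _))
  have hcomm : ∀ K : Subgroup G, IsPGroup 2 K → ∀ u ∈ K, ∀ v ∈ K, u * v = v * u := by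
    intro K hK u hu v hv
    have e : ∀ g : G, g ∈ K → g⁻¹ = g := fun g hg => inv_eq_of_mul_eq_one_right (show g * g = 1 by rw [← pow_two]; exact hsq K hK g hg)
    calc u * v = (u * v)⁻¹ := (e _ (mul_mem hu hv)).symm
      _ = v⁻¹ * u⁻¹ := mul_inv_rev _ _
      _ = v * u := by rw [e v hv, e u hu]
  obtain ⟨S⟩ := (inferInstance : Nonempty (Sylow 2 G))
  set O := Cfsg.pPrimeCore 2 G with hO
  set W := (S : Subgroup G) ⊔ O
  have hOW : O ≤ W := le_sup_right
  haveI hOn : O.Normal := CfsgLib.Solvable.pPrimeCore_normal 2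
  haveI hWn : W.Normal := CfsgLib.Fitting.sup_pPrimeCore_normal S
    ⟨⟨fun u v => Subtype.ext (hcomm _ S.2 u u.2 v v.2)⟩⟩
  obtain ⟨j, hj⟩ : ∃ j, O.relIndex W = 2 ^ j := by
    have h1 : O.relIndex W = Nat.card ((S : Subgroup G).map (QuotientGroup.mk' O)) := by
      have e := Subgroup.relIndex_ker W (f := QuotientGroup.mk' O)
      rw [QuotientGroup.ker_mk'] at e
      rw [e, Subgroup.map_sup, (Subgroup.map_eq_bot_iff O).2 (QuotientGroup.ker_mk' O).ge, sup_bot_eq]
    obtain ⟨j, hj⟩ := IsPGroup.iff_card.1 (S.2.map (QuotientGroup.mk' O))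
    exact ⟨j, h1.trans hj⟩
  have hWtop : W.index.Coprime 2 :=
    (Nat.Prime.coprime_iff_not_dvd Nat.prime_two).2 (fun hd => S.not_dvd_index (hd.trans (Subgroup.index_dvd_of_le le_sup_left))) |>.symm
  have hU1 : O ≤ CfsgLib.FGSA.PLen.U 2 G 1 := by
    refine CfsgLib.FGSA.PLen.le_succ (j := 0) hOn ?_
    rw [CfsgLib.FGSA.PLen.U_zero, Subgroup.relIndex_bot_left]
    simpa [CfsgLib.FGSA.PLen.Good] using CfsgLib.Solvable.coprime_card_pPrimeCore 2 (G := G)
  have hU2 : W ≤ CfsgLib.FGSA.PLen.U 2 G 2 := by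
    refine CfsgLib.FGSA.PLen.le_succ (j := 1) hWn (CfsgLib.FGSA.PLen.Good.of_dvd (n := O.relIndex W) ?_ (Subgroup.relIndex_dvd_of_le_left _ hU1))
    rw [hj, CfsgLib.FGSA.PLen.Good, if_neg (by decide)]; exact ⟨j, rfl⟩
  refine ⟨?_, ?_⟩
  · show CfsgLib.FGSA.PLen.U 2 G (2 * 1 + 1) = ⊤
    refine top_le_iff.1 (CfsgLib.FGSA.PLen.le_succ (j := 2) inferInstance (CfsgLib.FGSA.PLen.Good.of_dvd (n := W.relIndex ⊤) ?_ (Subgroup.relIndex_dvd_of_le_left _ hU2)))
    rw [Subgroup.relIndex_top_right]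
    rw [CfsgLib.FGSA.PLen.Good, if_pos (by decide)]; exact hWtop
  · have hpow3 : ∀ K : Subgroup G, IsPGroup 3 K → ∀ y ∈ K, y ^ 3 ^ 1 = 1 := by
      intro K hK y hy
      obtain ⟨k, hk⟩ := IsPGroup.iff_orderOf.1 hK ⟨y, hy⟩
      rw [Subgroup.orderOf_mk] at hk
      have h1 : orderOf y ∣ Nat.gcd (3 ^ k) (2 * 3) :=
        Nat.dvd_gcd (dvd_of_eq hk) (orderOf_dvd_of_pow_eq_one (h y))
      rw [Nat.Coprime.gcd_mul_left_cancel_right 3 ((by norm_num : Nat.Coprime 2 3).pow_right k)] at h1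
      rw [pow_one]
      exact orderOf_dvd_iff_pow_eq_one.1 (h1.trans (Nat.gcd_dvd_right _ _))
    refine CfsgLib.FGSA.AbelianSylow.pLengthLE_of_exponent 1 G ?_ ?_ hpow3
    · have h3O : ∃ m, O.relIndex ⊥ = 1 ∧ Nat.card O = 3 ^ m := by
        refine ⟨_, Subgroup.relIndex_bot_right _, Nat.eq_prime_pow_of_unique_prime_dvd Nat.card_pos.ne' ?_⟩
        intro q hq hqd
        refine ((hprimes q hq (hqd.trans O.card_subgroup_dvd_card))).resolve_left ?_
        rintro rfl
        exact (Nat.Prime.coprime_iff_not_dvd Nat.prime_two).1 (CfsgLib.Solvable.coprime_card_pPrimeCore 2).symm hqd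
      obtain ⟨m, -, hm⟩ := h3O
      refine ⟨3, ![⊥, O, W, ⊤], rfl, rfl, ?_, ?_, ?_⟩
      · refine Fin.monotone_iff_le_succ.2 fun i => ?_
        fin_cases i
        exacts [bot_le, hOW, le_top]
      · intro i
        fin_cases i
        exacts [inferInstanceAs (⊥ : Subgroup G).Normal, hOn, hWn, inferInstanceAs (⊤ : Subgroup G).Normal]
      · intro i
        fin_cases i
        · exact Or.inl ⟨m, (Subgroup.relIndex_bot_left O).trans hm⟩
        · right
          show (O.relIndex W).Coprime 3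
          rw [hj]; exact (by norm_num : Nat.Coprime 2 3).pow_left j
        · left
          show ∃ m, W.relIndex ⊤ = 3 ^ m
          rw [Subgroup.relIndex_top_right]
          refine ⟨_, Nat.eq_prime_pow_of_unique_prime_dvd Subgroup.index_ne_zero_of_finite ?_⟩
          intro q hq hqd
          refine ((hprimes q hq (hqd.trans W.index_dvd_card))).resolve_left ?_
          rintro rfl
          exact (Nat.Prime.coprime_iff_not_dvd Nat.prime_two).1 hWtop.symm hqd
    · intro q hq hq3 K hK u hu v hv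
      rcases eq_or_ne q 2 with rfl | hq2
      · exact hcomm K hK u hu v hv
      · have hK1 : ∀ w ∈ K, w = 1 := by
          intro w hw
          haveI := Fact.mk hq
          obtain ⟨k, hk⟩ := IsPGroup.iff_orderOf.1 hK ⟨w, hw⟩
          rw [Subgroup.orderOf_mk] at hk
          rcases Nat.eq_zero_or_pos k with rfl | hk0
          · rwa [pow_zero, orderOf_eq_one_iff] at hk
          · exfalso
            rcases hprimes q hq (((dvd_pow_self q hk0.ne').trans (dvd_of_eq hk.symm)).trans (orderOf_dvd_natCard w)) with rfl | rfl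
            · exact hq2 rfl
            · exact hq3 rfl
        rw [hK1 u hu, hK1 v hv]


end Cfsg.Agent.S4227
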