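import Cfsg.Statements.S4230
import Mathlib.RingTheory.Polynomial.Cyclotomic.Expand
import Mathlib.Data.ZMod.Basic

set_option autoImplicit false
set_option linter.style.haveILetI false
open Cfsg

namespace Cfsg.Agent.S4230

/-- Let p be an odd prime, q a natural number not divisible by p, and e the multiplicative order of q modulo p. For a natural number f, p divides the value at q of the f-th cyclotomic polynomial if and only if f = e·p^j for some j ≥ 0. -/
theorem result (p q f : ℕ) (hp : p.Prime) (hp2 : p ≠ 2) (hpq : ¬ p ∣ q) :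
    ((p : ℤ) ∣ (Polynomial.cyclotomic f ℤ).eval (q : ℤ)) ↔ ∃ j : ℕ, f = orderOf (q : ZMod p) * p ^ j := by
  haveI := Fact.mk hp
  have hq0 : (q : ZMod p) ≠ 0 := by rwa [Ne, ZMod.natCast_eq_zero_iff]
  have hdvd : orderOf (q : ZMod p) ∣ p - 1 := ZMod.orderOf_dvd_card_sub_one hq0
  have hepos : 0 < orderOf (q : ZMod p) := orderOf_pos_iff.2 ((isUnit_iff_ne_zero.2 hq0).isOfFinOrder)
  have hecop : ¬ p ∣ orderOf (q : ZMod p) := fun h => by
    have := Nat.le_of_dvd (by have := hp.two_le; omega) (h.trans hdvd)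
    have := hp.two_le
    omega
  rcases eq_or_ne f 0 with rfl | hf
  · simp only [Polynomial.cyclotomic_zero, Polynomial.eval_one]
    constructor
    · intro h
      exact absurd (Int.ofNat_dvd.1 h) hp.not_dvd_one
    · rintro ⟨j, hj⟩
      exact absurd hj.symm (Nat.mul_ne_zero hepos.ne' (pow_ne_zero _ hp.ne_zero))
  obtain ⟨k, m, hm, rfl⟩ := Nat.exists_eq_pow_mul_and_not_dvd hf p hp.ne_one
  haveI : NeZero (m : ZMod p) := ⟨by rwa [Ne, ZMod.natCast_eq_zero_iff]⟩
  have hroot : ((p : ℤ) ∣ (Polynomial.cyclotomic (p ^ k * m) ℤ).eval (q : ℤ)) ↔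
      IsPrimitiveRoot (q : ZMod p) m := by
    rw [← Polynomial.isRoot_cyclotomic_prime_pow_mul_iff_of_charP (k := k) (p := p),
      ← ZMod.intCast_zmod_eq_zero_iff_dvd, Polynomial.IsRoot.def]
    rw [← Polynomial.map_cyclotomic (p ^ k * m) (Int.castRingHom (ZMod p)), Polynomial.eval_map,
      show (q : ZMod p) = Int.castRingHom (ZMod p) (q : ℤ) by simp, Polynomial.eval₂_at_apply]
    rfl
  rw [hroot]
  constructor
  · intro h
    exact ⟨k, by rw [← h.eq_orderOf, mul_comm]⟩
  · rintro ⟨j, hj⟩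
    have hme : m = orderOf (q : ZMod p) := by
      apply Nat.dvd_antisymm
      · exact Nat.Coprime.dvd_of_dvd_mul_right (Nat.Coprime.pow_right j (Nat.coprime_comm.1 (hp.coprime_iff_not_dvd.2 hm)))
          (Dvd.intro_left (p ^ k) hj)
      · exact Nat.Coprime.dvd_of_dvd_mul_left (Nat.Coprime.pow_right k (Nat.coprime_comm.1 (hp.coprime_iff_not_dvd.2 hecop)))
          (Dvd.intro (p ^ j) hj.symm)
    rw [hme]
    exact IsPrimitiveRoot.orderOf _

end Cfsg.Agent.S4230
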