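import Cfsg.Statements.S4231
import Cfsg.Agent.AutAlt.OddPart

set_option autoImplicit false
open Cfsg

namespace Cfsg.Agent.S4231

/-- Let n ≥ 5 and let G be a group of automorphisms of the alternating group of degree n containing all inner automorphisms. If p ≠ q are primes and G has no element of order pq, then every Sylow p-subgroup of G is abelian or every Sylow q-subgroup of G is abelian. -/
theorem result (n : ℕ) (hn : 5 ≤ n) (G : Subgroup (MulAut (alternatingGroup (Fin n))))
    (hG : (MulAut.conj : alternatingGroup (Fin n) →* MulAut (alternatingGroup (Fin n))).range ≤ G)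
    (p q : ℕ) [Fact p.Prime] [Fact q.Prime] (hpq : p ≠ q) (h : ∀ g : G, orderOf g ≠ p * q) :
    (∀ P : Sylow p G, IsMulCommutative (P : Subgroup G)) ∨ (∀ Q : Sylow q G, IsMulCommutative (Q : Subgroup G)) := by
  have key : ∀ (r : ℕ) [Fact r.Prime], r ≠ 2 → n < r ^ 2 →
      ∀ P : Sylow r G, IsMulCommutative (P : Subgroup G) := by
    intro r _ hr2 hlt P
    have hP : IsPGroup r ((P : Subgroup G).map G.subtype) := P.2.map G.subtype
    have hc := CfsgLib.AutAlt.comm_of_lt_sq hn hr2 hlt _ hP
    refine ⟨⟨fun x y => Subtype.ext (Subtype.ext ?_)⟩⟩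
    exact (congrArg Subtype.val (hc.is_comm.comm ⟨_, Subgroup.mem_map_of_mem G.subtype x.2⟩
      ⟨_, Subgroup.mem_map_of_mem G.subtype y.2⟩) :)
  have hinj : Function.Injective
      ((MulAut.conj : alternatingGroup (Fin n) →* MulAut (alternatingGroup (Fin n))).codRestrict G
        fun g => hG ⟨g, rfl⟩) := by
    intro a b hab
    refine Subtype.ext (CfsgLib.AutAlt.conjNormal_injective hn (MulEquiv.ext fun g => Subtype.ext ?_))
    have := congrArg (fun ψ : G => (((ψ : MulAut (alternatingGroup (Fin n))) g :
      alternatingGroup (Fin n)) : Equiv.Perm (Fin n))) hab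
    exact this
  have hp : p.Prime := Fact.out
  have hq : q.Prime := Fact.out
  by_cases hp2 : p = 2
  · by_cases hlt : n < q ^ 2
    · exact Or.inr (key q (by omega) hlt)
    · obtain ⟨g, hg⟩ := CfsgLib.AutAlt.exists_orderOf_mul hp hq hpq hn (by omega)
        (fun h => absurd hp2 h) (not_lt.1 hlt)
      exact absurd ((orderOf_injective _ hinj g).trans hg) (h _)
  · by_cases hlt : n < p ^ 2
    · exact Or.inl (key p hp2 hlt)
    · by_cases hq2 : q = 2
      · obtain ⟨g, hg⟩ := CfsgLib.AutAlt.exists_orderOf_mul hq hp hpq.symm hn hp2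
          (fun h => absurd hq2 h) (not_lt.1 hlt)
        exact absurd ((orderOf_injective _ hinj g).trans (hg.trans (mul_comm q p))) (h _)
      · by_cases hlt' : n < q ^ 2
        · exact Or.inr (key q hq2 hlt')
        · obtain ⟨g, hg⟩ := CfsgLib.AutAlt.exists_orderOf_mul hp hq hpq hn hq2
            (fun _ => not_lt.1 hlt) (not_lt.1 hlt')
          exact absurd ((orderOf_injective _ hinj g).trans hg) (h _)

end Cfsg.Agent.S4231
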