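import Cfsg.Statements.S4234
import Cfsg.Agent.SmallSimple.PSLThirteen
import Cfsg.Agent.Classical.SylowTwoSL

set_option autoImplicit false
open Cfsg

namespace Cfsg.Agent.S4234

open Subgroup

/-- Pulling maximal normalizers back along a surjection with small kernel. -/
theorem coatom_lift {K P : Type*} [Group K] [Finite K] [Group P] (f : K →* P)
    (hf : Function.Surjective f) (hker : Nat.card f.ker ≤ 2)
    (hinv : ∀ x : K, orderOf x = 2 → x ∈ f.ker)
    (hP : ∀ H : Subgroup P, H ≠ ⊥ → H ≠ ⊤ → IsCoatom (normalizer (H : Set P)))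
    (H : Subgroup K) (hH : ¬ H.Normal) : IsCoatom (normalizer (H : Set K)) := by
  -- the kernel is central
  have hcent : ∀ z ∈ f.ker, ∀ g : K, g * z * g⁻¹ = z := by
    intro z hz g
    by_cases hz1 : z = 1
    · simp [hz1]
    by_contra hne
    have hg : g * z * g⁻¹ ∈ f.ker := (inferInstance : f.ker.Normal).conj_mem z hz g
    have hc : ({1, z, g * z * g⁻¹} : Set K).ncard ≤ (f.ker : Set K).ncard := by
      refine Set.ncard_le_ncard ?_
      rintro w (rfl | rfl | rfl)
      exacts [one_mem _, hz, hg]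
    have h1 : g * z * g⁻¹ ≠ 1 := by simpa using hz1
    rw [Set.ncard_insert_of_notMem (by simp [Ne.symm hz1, Ne.symm h1]), Set.ncard_pair (Ne.symm hne),
      ← Nat.card_coe_set_eq (f.ker : Set K)] at hc
    simp only [SetLike.coe_sort_coe] at hc
    omega
  have hHf : H.map f ≠ ⊥ := by
    intro h
    refine hH ⟨fun n hn g => ?_⟩
    rwa [hcent n ((map_eq_bot_iff H).mp h hn) g]
  have hnorm : normalizer (H : Set K) = (normalizer (H.map f : Set P)).comap f := by
    refine le_antisymm (fun g hg => ?_) (fun g hg => ?_)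
    · exact le_normalizer_map f (mem_map_of_mem f hg)
    have key : ∀ u : K, f u ∈ normalizer (H.map f : Set P) → ∀ h ∈ H, u * h * u⁻¹ ∈ H := by
      intro u hu h hh
      obtain ⟨h', hh', he⟩ := (mem_normalizer_iff.mp hu _).mp (mem_map_of_mem f hh)
      have hz : h'⁻¹ * (u * h * u⁻¹) ∈ f.ker := by
        rw [MonoidHom.mem_ker, map_mul, map_inv, he, map_mul, map_mul, map_inv, inv_mul_cancel]
      by_cases hZ : f.ker ≤ H
      · have := mul_mem hh' (hZ hz)
        rwa [mul_inv_cancel_left] at this
      -- `H` has odd order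
      have hodd : ¬ 2 ∣ Nat.card H := by
        intro h2
        obtain ⟨x, hx⟩ := exists_prime_orderOf_dvd_card' (G := H) 2 h2
        have hx' : orderOf (x : K) = 2 := by rw [Subgroup.orderOf_coe, hx]
        refine hZ (le_of_eq_of_le (eq_of_le_of_card_ge (H := zpowers (x : K))
          (zpowers_le.mpr (hinv _ hx')) (by rw [Nat.card_zpowers, hx']; exact hker)).symm
          (zpowers_le.mpr x.2))
      have hcz : Commute h' (h'⁻¹ * (u * h * u⁻¹)) :=
        mul_inv_eq_iff_eq_mul.mp (hcent _ hz h')
      have he1 : ∀ w ∈ H, w ^ Nat.card H = 1 := fun w hw => by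
        exact orderOf_dvd_iff_pow_eq_one.mp (Subgroup.orderOf_dvd_natCard H hw)
      have hzn : (h'⁻¹ * (u * h * u⁻¹)) ^ Nat.card H = 1 := by
        have : (h' * (h'⁻¹ * (u * h * u⁻¹))) ^ Nat.card H = 1 := by
          rw [mul_inv_cancel_left, conj_pow, he1 h hh]; simp
        rwa [hcz.mul_pow, he1 h' hh', one_mul] at this
      have hz2 : (h'⁻¹ * (u * h * u⁻¹)) ^ Nat.card f.ker = 1 := by
        have := pow_card_eq_one' (x := (⟨_, hz⟩ : f.ker))
        simpa using congrArg Subtype.val this
      have hz1 : h'⁻¹ * (u * h * u⁻¹) = 1 := by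
        have hd := Nat.dvd_gcd (orderOf_dvd_of_pow_eq_one hzn) (orderOf_dvd_of_pow_eq_one hz2)
        have hg1 : (Nat.card H).gcd (Nat.card f.ker) = 1 := by
          have hpos : 0 < Nat.card f.ker := Nat.card_pos
          interval_cases hk : Nat.card f.ker
          · exact Nat.gcd_one_right _
          · exact Nat.coprime_two_right.mpr (Nat.odd_iff.mpr (by omega))
        rw [hg1, Nat.dvd_one, orderOf_eq_one_iff] at hd
        exact hd
      rw [inv_mul_eq_one] at hz1
      exact hz1 ▸ hh'
    rw [mem_comap] at hg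
    rw [mem_normalizer_iff]
    refine fun h => ⟨key g hg h, fun hh => ?_⟩
    have := key g⁻¹ (by rw [map_inv]; exact inv_mem hg) _ hh
    simpa [mul_assoc] using this
  have hHt : H.map f ≠ ⊤ := by
    intro h
    refine hH (normalizer_eq_top_iff.mp ?_)
    rw [hnorm, h, normalizer_eq_top (H := (⊤ : Subgroup P)), comap_top]
  rw [hnorm]
  exact isCoatom_comap_of_surjective hf (hP _ hHf hHt)

/-- Every non-normal subgroup of `PSL₂(13)` or `SL₂(13)` has maximal normalizer. -/
theorem coatom_K {K : Type*} [Group K] [Finite K]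
    (hK : Nonempty (K ≃* Matrix.ProjectiveSpecialLinearGroup (Fin 2) (ZMod 13)) ∨
      Nonempty (K ≃* Matrix.SpecialLinearGroup (Fin 2) (ZMod 13)))
    (H : Subgroup K) (hH : ¬ H.Normal) : IsCoatom (normalizer (H : Set K)) := by
  haveI : Fact (Nat.Prime 13) := ⟨by norm_num⟩
  rcases hK with ⟨⟨e⟩⟩ | ⟨⟨e⟩⟩
  · -- the simple group
    have hne : H ≠ ⊥ ∧ H ≠ ⊤ := by
      constructor <;> rintro rfl <;> exact hH inferInstance
    have h := CfsgLib.PSLThirteen.psl_coatom (H := H.map e.toMonoidHom)
      (fun h => hne.1 (map_injective (f := e.toMonoidHom) e.injective (h.trans (Subgroup.map_bot _).symm)))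
      (fun h => hne.2 (map_injective (f := e.toMonoidHom) e.injective
        (h.trans (map_top_of_surjective _ e.surjective).symm)))
    rw [← map_equiv_normalizer_eq] at h
    exact (OrderIso.isCoatom_iff e.mapSubgroup _).mp h
  · refine coatom_lift ((QuotientGroup.mk' (Subgroup.center
      (Matrix.SpecialLinearGroup (Fin 2) (ZMod 13)))).comp e.toMonoidHom)
      ((QuotientGroup.mk'_surjective _).comp e.surjective) ?_ (fun x hx => ?_)
      (fun _ h1 h2 => CfsgLib.PSLThirteen.psl_coatom h1 h2) H hH
    · rw [← MonoidHom.comap_ker, QuotientGroup.ker_mk']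
      have : Nat.card (Subgroup.center (Matrix.SpecialLinearGroup (Fin 2) (ZMod 13))) ≤ 2 := by
        rw [← SetLike.coe_sort_coe, Nat.card_coe_set_eq]
        refine le_trans (Set.ncard_le_ncard
          (t := {1, CfsgLib.SL2C.negOne (ZMod 13)}) (fun g hg => ?_)) ((Set.ncard_insert_le _ _).trans ?_)
        · exact CfsgLib.SL2C.center_cases hg
        · simp
      refine le_trans (le_of_eq ?_) this
      rw [← card_map_of_injective (f := e.toMonoidHom) e.injective,
        Subgroup.map_comap_eq_self_of_surjective e.surjective]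
    · have hx' : orderOf (e x) = 2 := by
        exact (orderOf_injective e.toMonoidHom e.injective x).trans hx
      have h2 : e x * e x = 1 := by
        have := pow_orderOf_eq_one (e x)
        rwa [hx', pow_two] at this
      rw [MonoidHom.mem_ker, MonoidHom.comp_apply, QuotientGroup.mk'_apply, QuotientGroup.eq_one_iff]
      exact CfsgLib.SL2C.mem_center_of_mul_self (by rw [ZMod.card]; decide) h2

/-- Let K be isomorphic to PSL(2, 13) or to SL(2, 13) and let S be a finite abelian group of order coprime to the order of K. Then in the direct product K × S every subgroup that is not normal has a normalizer that is a maximal subgroup. -/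
theorem result {K S : Type*} [Group K] [CommGroup S] [Finite K] [Finite S]
    (hK : Nonempty (K ≃* Matrix.ProjectiveSpecialLinearGroup (Fin 2) (ZMod 13)) ∨
      Nonempty (K ≃* Matrix.SpecialLinearGroup (Fin 2) (ZMod 13)))
    (hKS : (Nat.card K).Coprime (Nat.card S)) (H : Subgroup (K × S)) (hH : ¬ H.Normal) :
    IsCoatom (Subgroup.normalizer (H : Set (K × S))) := by
  -- coprimality separates the two factors
  obtain ⟨n, hn1, hn2⟩ := Nat.chineseRemainder hKS 1 0
  have hsep : ∀ x ∈ H, (x.1, (1 : S)) ∈ H ∧ ((1 : K), x.2) ∈ H := by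
    intro x hx
    have e1 : x.1 ^ n = x.1 := by
      conv_rhs => rw [← pow_one x.1]
      rw [pow_eq_pow_iff_modEq]
      exact hn1.of_dvd (orderOf_dvd_natCard x.1)
    have e2 : x.2 ^ n = 1 := by
      rw [← orderOf_dvd_iff_pow_eq_one]
      exact (orderOf_dvd_natCard x.2).trans (Nat.modEq_zero_iff_dvd.mp hn2)
    have hp : (x.1, (1 : S)) ∈ H := by
      have := pow_mem hx n
      rwa [show x ^ n = (x.1, (1 : S)) from Prod.ext e1 e2] at this
    refine ⟨hp, ?_⟩
    have := mul_mem (inv_mem hp) hx
    rwa [show ((x.1, (1 : S)) : K × S)⁻¹ * x = ((1 : K), x.2) from Prod.ext (by simp) (by simp)] at this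
  set H1 := H.map (MonoidHom.fst K S) with hH1
  have hH1mem : ∀ k : K, k ∈ H1 ↔ (k, (1 : S)) ∈ H := fun k =>
    ⟨fun ⟨x, hx, hxk⟩ => hxk ▸ (hsep x hx).1, fun hk => ⟨_, hk, rfl⟩⟩
  have hmem : ∀ x : K × S, x ∈ H ↔ x.1 ∈ H1 ∧ ((1 : K), x.2) ∈ H := by
    intro x
    refine ⟨fun hx => ⟨⟨x, hx, rfl⟩, (hsep x hx).2⟩, fun ⟨h1, h2⟩ => ?_⟩
    have := mul_mem ((hH1mem _).mp h1) h2
    rwa [show ((x.1, (1 : S)) : K × S) * ((1 : K), x.2) = x from Prod.ext (by simp) (by simp)] at this
  have hnorm : normalizer (H : Set (K × S)) = (normalizer (H1 : Set K)).comap (MonoidHom.fst K S) := by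
    ext g
    rw [mem_comap, MonoidHom.coe_fst, mem_normalizer_iff, mem_normalizer_iff]
    constructor
    · intro hg k
      have := hg (k, 1)
      rw [hH1mem, hH1mem, this]
      simp [Prod.mul_def]
    · intro hg x
      rw [hmem x, hmem (g * x * g⁻¹), Prod.fst_mul, Prod.fst_mul, Prod.fst_inv, ← hg x.1]
      simp [Prod.snd_mul, mul_comm g.2]
  have hH1n : ¬ H1.Normal := by
    intro hn
    refine hH (normalizer_eq_top_iff.mp ?_)
    rw [hnorm, normalizer_eq_top_iff.mpr hn, comap_top]
  rw [hnorm]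
  exact isCoatom_comap_of_surjective (Prod.fst_surjective) (coatom_K hK H1 hH1n)

end Cfsg.Agent.S4234
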