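import Cfsg.Statements.S4237
import Cfsg.Agent.S4157
import Cfsg.Agent.FGSB.HallReduction

set_option autoImplicit false
open Cfsg

namespace Cfsg.Agent.S4237

/-- Let G be a finite group, p a prime and a a natural number such that p^(a+1) divides the order of G. Then the number of subgroups of G of order p^a is congruent to 1 or to 1 + p modulo p². -/
theorem result {G : Type*} [Group G] [Finite G] (p a : ℕ) (hp : p.Prime) (hdvd : p ^ (a + 1) ∣ Nat.card G) :
    Nat.card {H : Subgroup G // Nat.card H = p ^ a} ≡ 1 [MOD p ^ 2] ∨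
      Nat.card {H : Subgroup G // Nat.card H = p ^ a} ≡ 1 + p [MOD p ^ 2] := by
  classical
  haveI := Fact.mk hp
  obtain ⟨P⟩ : Nonempty (Sylow p G) := inferInstance
  have key := CfsgLib.HallReduction.count_modEq hdvd P
  obtain ⟨n, hn⟩ := IsPGroup.iff_card.1 P.2
  have han : a + 1 ≤ n := by
    refine (Nat.pow_dvd_pow_iff_le_right hp.one_lt).1 ?_
    rw [← hn, show Nat.card (P : Subgroup G) = p ^ (Nat.card G).factorization p from
      Sylow.card_eq_multiplicity P]
    exact pow_dvd_pow p ((hp.pow_dvd_iff_le_factorization Nat.card_pos.ne').1 hdvd)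
  rcases Nat.eq_zero_or_pos a with rfl | ha
  · left
    rw [show Nat.card {H : Subgroup G // Nat.card H = p ^ 0} = 1 from Nat.card_eq_one_iff_unique.2
      ⟨⟨fun H K => Subtype.ext ((Subgroup.eq_bot_of_card_eq _ (H.2.trans (pow_zero p))).trans
        (Subgroup.eq_bot_of_card_eq _ (K.2.trans (pow_zero p))).symm)⟩, ⟨⊥, by simp⟩⟩]
  have h := Cfsg.Agent.S4157.main p n (P : Subgroup G) hn a ha (by omega)
  split_ifs at h with hlow
  · left
    exact key.trans ((ZMod.natCast_eq_natCast_iff _ _ _).1 (by rw [h]; norm_num))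
  · right
    exact key.trans ((ZMod.natCast_eq_natCast_iff _ _ _).1 (by rw [h]; push_cast; rfl))

end Cfsg.Agent.S4237
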