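import Cfsg.Statements.S4238
import Cfsg.Agent.Transfer.Frobenius
import Cfsg.Agent.Solvable.PGroupBasic
import Mathlib.GroupTheory.Exponent

set_option autoImplicit false
open Cfsg
set_option linter.style.haveILetI false

namespace Cfsg.Agent.S4238

open Subgroup

universe u

/-- A `p`-group has an element of order equal to the exponent. -/
theorem exists_orderOf_eq_exponent_of_isPGroup {K : Type u} [Group K] [Finite K] {p : ℕ}
    [Fact p.Prime] (hK : IsPGroup p K) : ∃ k : K, orderOf k = Monoid.exponent K := by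
  obtain ⟨k, hk⟩ := Finite.exists_max (orderOf : K → ℕ)
  refine ⟨k, Nat.dvd_antisymm (Monoid.order_dvd_exponent k)
    (Monoid.exponent_dvd_of_forall_pow_eq_one fun g => orderOf_dvd_iff_pow_eq_one.mp ?_)⟩
  obtain ⟨a, ha⟩ := IsPGroup.iff_orderOf.mp hK g
  obtain ⟨b, hb⟩ := IsPGroup.iff_orderOf.mp hK k
  have := hk g
  rw [ha, hb] at this ⊢
  exact Nat.pow_dvd_pow p ((Nat.pow_le_pow_iff_right (Nat.Prime.one_lt Fact.out)).mp this)

theorem bad_section {G : Type u} [Group G] [Finite G] {p : ℕ} [Fact p.Prime]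
    (h : ∀ (H : Subgroup G) (N : Subgroup H) [N.Normal], Cfsg.pPrimeCore p (H ⧸ N) = ⊥ →
        ∃ k : H ⧸ N, orderOf k = Monoid.exponent (H ⧸ N)) :
    CfsgLib.Fusion.LocalCondition p G := by
  classical
  by_contra hcon
  simp only [CfsgLib.Fusion.LocalCondition, not_forall] at hcon
  obtain ⟨U₀, hU₀, g₀, hg₀, hg₀p, hne₀⟩ := hcon
  have hp : p.Prime := Fact.out
  obtain ⟨U, -, ⟨hU, hUg⟩, hmin⟩ := exists_minimal_le_of_wellFoundedLT
    (fun U : Subgroup G => IsPGroup p U ∧ ∃ g ∈ normalizer (U : Set G), (orderOf g).Coprime p ∧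
      g ∉ centralizer (U : Set G)) U₀ ⟨hU₀, g₀, hg₀, hg₀p, hne₀⟩
  have hex : ∃ n, ∃ g ∈ normalizer (U : Set G), (orderOf g).Coprime p ∧
      g ∉ centralizer (U : Set G) ∧ orderOf g = n := by
    obtain ⟨g, h1, h2, h3⟩ := hUg
    exact ⟨_, g, h1, h2, h3, rfl⟩
  obtain ⟨g, hgN, hgp, hgC, hgn⟩ := Nat.find_spec hex
  have hpowC : ∀ d, 1 < d → d ∣ orderOf g → g ^ d ∈ centralizer (U : Set G) := by
    intro d hd1 hd
    by_contra hc
    have h1 : orderOf (g ^ d) < orderOf g := by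
      rw [orderOf_pow' g (by omega), Nat.gcd_eq_right hd]
      exact Nat.div_lt_self (orderOf_pos g) hd1
    exact Nat.find_min hex (hgn ▸ h1)
      ⟨g ^ d, pow_mem hgN d, hgp.coprime_dvd_left (orderOf_pow_dvd d), hc, rfl⟩
  set q := (orderOf g).minFac
  have hg1 : orderOf g ≠ 1 := fun e => hgC (orderOf_eq_one_iff.mp e ▸ one_mem _)
  have hq : q.Prime := Nat.minFac_prime hg1
  have hqp : q ≠ p := fun e => hp.ne_one (Nat.dvd_one.mp
    (hgp ▸ Nat.dvd_gcd (e ▸ Nat.minFac_dvd _) dvd_rfl))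
  have hgq : g ^ q ∈ centralizer (U : Set G) := hpowC q hq.one_lt (Nat.minFac_dvd _)
  -- proper invariant subgroups are centralised
  have hprop : ∀ V : Subgroup G, V < U → (∀ v ∈ V, g * v * g⁻¹ ∈ V) → ∀ v ∈ V, g * v = v * g := by
    intro V hV hinv v hv
    have hgV : g ∈ normalizer (V : Set G) := by
      refine mem_normalizer_iff.mpr fun w => ⟨hinv w, fun hw => ?_⟩
      have hsurj : ∀ a ∈ V, ∃ b ∈ V, g * b * g⁻¹ = a := fun a ha => by
        obtain ⟨⟨b, hb⟩, hbe⟩ := (Finite.injective_iff_surjective (f := fun b : V =>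
          (⟨g * b * g⁻¹, hinv b b.2⟩ : V))).mp (fun a b e => Subtype.ext (by
            simpa using congrArg Subtype.val e)) ⟨a, ha⟩
        exact ⟨b, hb, congrArg Subtype.val hbe⟩
      obtain ⟨b, hb, hbe⟩ := hsurj _ hw
      exact (mul_left_cancel (mul_right_cancel hbe)) ▸ hb
    by_contra hc
    exact hV.not_ge (hmin ⟨hU.to_le hV.le, g, hgV, hgp,
      fun e => hc (mem_centralizer_iff.mp e v hv).symm⟩ hV.le)
  have hUne : U ≠ ⊥ := by
    intro e
    refine hgC (mem_centralizer_iff.mpr fun a ha => ?_)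
    rw [e, Subgroup.coe_bot, Set.mem_singleton_iff] at ha
    rw [ha, one_mul, mul_one]
  haveI : Nontrivial U := (nontrivial_iff_ne_bot U).mpr hUne
  set F := (frattini U).map U.subtype
  have hFU : F ≤ U := map_subtype_le _
  have hFlt : F < U := by
    refine lt_of_le_of_ne hFU fun e => ?_
    have : (frattini U).map U.subtype = (⊤ : Subgroup U).map U.subtype := by
      rw [← MonoidHom.range_eq_map, range_subtype]; exact e
    obtain ⟨M, hM, -⟩ := (eq_top_or_exists_le_coatom (⊥ : Subgroup U)).resolve_left bot_ne_top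
    exact hM.1 (top_le_iff.mp ((map_injective U.subtype_injective this) ▸ frattini_le_coatom hM))
  obtain ⟨hUcomm, hUpow⟩ := CfsgLib.PGroupBasic.commutator_pow_le_frattini hU
  have hUnorm : ∀ a ∈ normalizer (U : Set G), ∀ f ∈ F, a * f * a⁻¹ ∈ F := by
    rintro a ha _ ⟨f, hf, rfl⟩
    let e : U ≃* U :=
      { toFun := fun v => ⟨a * v * a⁻¹, (mem_normalizer_iff.mp ha _).mp v.2⟩
        invFun := fun v => ⟨a⁻¹ * v * a, (mem_normalizer_iff''.mp ha _).mp v.2⟩
        left_inv := fun v => Subtype.ext (by show a⁻¹ * (a * v * a⁻¹) * a = v; group)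
        right_inv := fun v => Subtype.ext (by show a * (a⁻¹ * v * a) * a⁻¹ = v; group)
        map_mul' := fun v w => Subtype.ext (by
          show a * (v * w : G) * a⁻¹ = a * v * a⁻¹ * (a * w * a⁻¹); group) }
    have hchar : (frattini U).map e.toMonoidHom = frattini U :=
      characteristic_iff_map_eq.mp inferInstance e
    exact ⟨e f, hchar ▸ mem_map_of_mem _ hf, rfl⟩
  have hFfix : ∀ f ∈ F, g * f = f * g := hprop F hFlt (hUnorm g hgN)
  -- the section
  set H := U ⊔ zpowers g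
  have hUH : U ≤ H := le_sup_left
  have hgH : g ∈ H := mem_sup_right (mem_zpowers g)
  have hHN : H ≤ normalizer (U : Set G) := sup_le le_normalizer (zpowers_le.mpr hgN)
  let A : Subgroup H := F.subgroupOf H
  haveI hA : A.Normal := ⟨fun n hn a => hUnorm a (hHN a.2) n hn⟩
  let gH : H := ⟨g, hgH⟩
  have hcen : gH ^ q ∈ center H := by
    have : H ≤ centralizer ({g ^ q} : Set G) := sup_le
      (fun v hv => mem_centralizer_singleton_iff.mpr (mem_centralizer_iff.mp hgq v hv))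
      (zpowers_le.mpr (mem_centralizer_singleton_iff.mpr ((Commute.refl g).pow_right q).eq))
    exact mem_center_iff.mpr fun a => Subtype.ext (mem_centralizer_singleton_iff.mp (this a.2))
  let B : Subgroup H := zpowers (gH ^ q)
  haveI hB : B.Normal := ⟨fun n hn a => by
    rwa [mem_center_iff.mp (zpowers_le.mpr hcen hn) a, mul_inv_cancel_right]⟩
  let π := QuotientGroup.mk' (A ⊔ B)
  have hkey : ∀ u : H, (u : G) ∈ U → π u = 1 → (u : G) ∈ F := by
    intro u hu h1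
    obtain ⟨f, hf, z, hz, rfl⟩ := mem_sup_of_normal_left.mp ((QuotientGroup.eq_one_iff u).mp h1)
    have hzU : (z : G) ∈ U := by
      have := mul_mem (inv_mem (hFU (show (f : G) ∈ F from hf))) hu
      simpa using this
    obtain ⟨j, hj⟩ := mem_zpowers_iff.mp hz
    obtain ⟨k, hk⟩ := IsPGroup.iff_orderOf.mp hU ⟨z, hzU⟩
    rw [← Subgroup.orderOf_coe] at hk
    have hd : orderOf (z : G) ∣ orderOf g := by
      have e : (z : G) = g ^ ((q : ℤ) * j) := by
        rw [← hj, zpow_mul, zpow_natCast]; rfl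
      rw [e, orderOf_dvd_iff_pow_eq_one, ← zpow_natCast, ← zpow_mul, mul_comm, zpow_mul,
        zpow_natCast, pow_orderOf_eq_one, one_zpow]
    have hz1 : (z : G) = 1 := orderOf_eq_one_iff.mp
      (Nat.eq_one_of_dvd_coprimes (hgp.pow_right k) hd (hk ▸ dvd_rfl))
    show (f : G) * z ∈ F
    rw [hz1, mul_one]
    exact hf
  let Ub : Subgroup (H ⧸ (A ⊔ B)) := (U.subgroupOf H).map π
  set x := π gH
  have hUbN : ∀ c ∈ Ub, x * c * x⁻¹ ∈ Ub := by
    rintro _ ⟨u, hu, rfl⟩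
    exact ⟨gH * u * gH⁻¹, (mem_normalizer_iff.mp hgN _).mp hu, by simp [x]⟩
  have hUbc : ∀ c ∈ Ub, ∀ d ∈ Ub, c * d = d * c := by
    rintro _ ⟨c, hc, rfl⟩ _ ⟨d, hd, rfl⟩
    rw [← map_mul, ← map_mul]
    refine QuotientGroup.eq.mpr (mem_sup_left ?_)
    have h1 : (⟨d, hd⟩ : U)⁻¹ * (⟨c, hc⟩ : U)⁻¹ * ⟨d, hd⟩ * ⟨c, hc⟩ ∈ commutator U := by
      have := commutator_mem_commutator (mem_top (⟨d, hd⟩ : U)⁻¹) (mem_top (⟨c, hc⟩ : U)⁻¹)
      rwa [commutatorElement_def, inv_inv, inv_inv, ← _root_.commutator_def] at this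
    show ((c * d)⁻¹ * (d * c) : G) ∈ F
    refine ⟨_, hUcomm h1, ?_⟩
    simp [mul_assoc]
  have hUbp : ∀ c ∈ Ub, c ^ p = 1 := by
    rintro _ ⟨c, hc, rfl⟩
    rw [← map_pow]
    exact (QuotientGroup.eq_one_iff _).mpr (mem_sup_left ⟨_, hUpow ⟨c, hc⟩, rfl⟩)
  let δ : Ub →* Ub := MonoidHom.mk' (fun c => ⟨x * c * x⁻¹ * (c : H ⧸ (A ⊔ B))⁻¹,
      mul_mem (hUbN c c.2) (inv_mem c.2)⟩) fun c d => Subtype.ext (by
    show x * (c * d) * x⁻¹ * ((c : H ⧸ (A ⊔ B)) * d)⁻¹ =
      x * c * x⁻¹ * (c : H ⧸ (A ⊔ B))⁻¹ * (x * d * x⁻¹ * (d : H ⧸ (A ⊔ B))⁻¹)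
    have e := hUbc (c : H ⧸ (A ⊔ B))⁻¹ (inv_mem c.2) (x * d * x⁻¹ * (d : H ⧸ (A ⊔ B))⁻¹)
      (mul_mem (hUbN d d.2) (inv_mem d.2))
    rw [mul_assoc (x * (c : H ⧸ (A ⊔ B)) * x⁻¹), e]
    group)
  have hxq : x ^ q = 1 := by
    rw [← map_pow]; exact (QuotientGroup.eq_one_iff _).mpr (mem_sup_right (mem_zpowers _))
  have hsurj : δ.range = ⊤ := by
    by_contra hr
    let V : Subgroup G := (((δ.range.map Ub.subtype).comap π) ⊓ U.subgroupOf H).map H.subtype
    have hVU : V ≤ U := by rintro _ ⟨v, hv, rfl⟩; exact hv.2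
    have hVlt : V < U := by
      refine lt_of_le_of_ne hVU fun e => hr ((eq_top_iff' _).mpr fun c => ?_)
      obtain ⟨u, hu, huc⟩ := c.2
      obtain ⟨v, hv, hve⟩ := (e ▸ hu : (u : G) ∈ V)
      obtain rfl : v = u := Subtype.ext hve
      obtain ⟨d, hd, hdc⟩ := hv.1
      exact (Subtype.ext (hdc.trans huc) : d = c) ▸ hd
    have hVinv : ∀ v ∈ V, g * v * g⁻¹ ∈ V := by
      rintro _ ⟨v, ⟨hv1, hv2⟩, rfl⟩
      refine ⟨gH * v * gH⁻¹, ⟨?_, (mem_normalizer_iff.mp hgN _).mp hv2⟩, rfl⟩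
      obtain ⟨_, ⟨c, rfl⟩, hc⟩ := hv1
      refine ⟨δ ⟨x * c * x⁻¹, hUbN c c.2⟩, ⟨_, rfl⟩, ?_⟩
      show x * (x * (c : H ⧸ (A ⊔ B)) * x⁻¹) * x⁻¹ * (x * c * x⁻¹)⁻¹ = π (gH * v * gH⁻¹)
      rw [map_mul, map_mul, map_inv, ← hc]
      show _ = x * (x * c * x⁻¹ * (c : H ⧸ (A ⊔ B))⁻¹) * x⁻¹
      group
    have hfix := hprop V hVlt hVinv
    have htriv : ∀ c : Ub, x * c * x⁻¹ = (c : H ⧸ (A ⊔ B)) := by
      intro c
      obtain ⟨u, hu, hue⟩ := (δ c).2
      set d : H ⧸ (A ⊔ B) := (δ c : H ⧸ (A ⊔ B)) with hd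
      have hdfix : x * d * x⁻¹ = d := by
        have hm : (u : G) ∈ V := ⟨u, ⟨⟨δ c, ⟨c, rfl⟩, hue.symm⟩, hu⟩, rfl⟩
        have e := hfix _ hm
        have : gH * u * gH⁻¹ = u := Subtype.ext (mul_inv_eq_iff_eq_mul.mpr e)
        rw [← hue, ← map_inv, ← map_mul, ← map_mul, this]
      have hn : ∀ n : ℕ, x ^ n * c * (x ^ n)⁻¹ = d ^ n * c := by
        intro n
        induction n with
        | zero => simp
        | succ n ih =>
          calc x ^ (n + 1) * c * (x ^ (n + 1))⁻¹ = x * (x ^ n * c * (x ^ n)⁻¹) * x⁻¹ := by group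
            _ = (x * d ^ n * x⁻¹) * (x * c * x⁻¹) := by rw [ih]; group
            _ = d ^ n * (d * c) := by
              rw [← conj_pow, hdfix]
              congr 1
              show x * (c : H ⧸ (A ⊔ B)) * x⁻¹ = x * c * x⁻¹ * (c : H ⧸ (A ⊔ B))⁻¹ * c
              group
            _ = d ^ (n + 1) * c := by rw [pow_succ, mul_assoc]
      have h1 := hn q
      rw [hxq, one_mul, inv_one, mul_one] at h1
      have h2 : d ^ q = 1 := right_eq_mul.mp h1
      have h3 := hUbp d (δ c).2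
      have h4 : d = 1 := by
        have := pow_gcd_eq_one.mpr ⟨h2, h3⟩
        rwa [(Nat.coprime_primes hq hp).mpr hqp, pow_one] at this
      exact mul_inv_eq_one.mp h4
    apply hgC
    refine mem_centralizer_iff.mpr fun u hu => ?_
    have huH : (u : G) ∈ H := hUH hu
    have e := htriv ⟨π ⟨u, huH⟩, ⟨u, huH⟩, hu, rfl⟩
    set f := u⁻¹ * (g * u * g⁻¹) with hf
    have hfF : f ∈ F := hkey (⟨u, huH⟩⁻¹ * (gH * ⟨u, huH⟩ * gH⁻¹))
      (mul_mem (inv_mem hu) ((mem_normalizer_iff.mp hgN _).mp hu)) (by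
        rw [map_mul, map_mul, map_mul, map_inv, map_inv]
        show (π ⟨u, huH⟩)⁻¹ * (x * π ⟨u, huH⟩ * x⁻¹) = 1
        rw [e, inv_mul_cancel])
    have hn : ∀ n : ℕ, g ^ n * u * (g ^ n)⁻¹ = u * f ^ n := by
      intro n
      induction n with
      | zero => simp
      | succ n ih =>
        calc g ^ (n + 1) * u * (g ^ (n + 1))⁻¹ = g * (g ^ n * u * (g ^ n)⁻¹) * g⁻¹ := by group
          _ = (g * u * g⁻¹) * (g * f ^ n * g⁻¹) := by rw [ih]; group
          _ = u * f * f ^ n := by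
            rw [← conj_pow, hFfix f hfF, mul_inv_cancel_right, hf, mul_inv_cancel_left]
          _ = u * f ^ (n + 1) := by rw [pow_succ' f, mul_assoc]
    have h1 := hn (orderOf g)
    rw [pow_orderOf_eq_one, one_mul, inv_one, mul_one, left_eq_mul] at h1
    obtain ⟨k, hk⟩ := IsPGroup.iff_orderOf.mp hU ⟨f, hFU hfF⟩
    rw [← Subgroup.orderOf_coe] at hk
    have hf1 : orderOf f = 1 := Nat.eq_one_of_dvd_coprimes (hgp.pow_right k)
      (orderOf_dvd_iff_pow_eq_one.mpr h1) (hk ▸ dvd_rfl)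
    rw [orderOf_eq_one_iff, hf, inv_mul_eq_one, eq_mul_inv_iff_mul_eq] at hf1
    exact hf1
  have hinj : Function.Injective δ :=
    Finite.injective_iff_surjective.mpr (MonoidHom.range_eq_top.mp hsurj)
  have hfree : ∀ c ∈ Ub, x * c = c * x → c = 1 := by
    intro c hc hcx
    have : δ ⟨c, hc⟩ = 1 := Subtype.ext (show x * c * x⁻¹ * c⁻¹ = 1 by
      rw [hcx, mul_inv_cancel_right, mul_inv_cancel])
    exact congrArg Subtype.val ((injective_iff_map_eq_one δ).mp hinj _ this)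
  obtain ⟨u₁, hu₁, hu₁F⟩ := SetLike.exists_of_lt hFlt
  have hc1 : π ⟨u₁, hUH hu₁⟩ ≠ 1 := fun e => hu₁F (hkey _ hu₁ e)
  have hc1m : π ⟨u₁, hUH hu₁⟩ ∈ Ub := ⟨_, hu₁, rfl⟩
  have hxne : x ≠ 1 := fun e => hc1 (hfree _ hc1m (by rw [e, one_mul, mul_one]))
  have hxord : orderOf x = q := by
    haveI := Fact.mk hq
    exact orderOf_eq_prime hxq hxne
  -- every element is `c * x ^ i`
  haveI hUbn : Ub.Normal := by
    have : (U.subgroupOf H).Normal := ⟨fun n hn a => (mem_normalizer_iff.mp (hHN a.2) _).mp hn⟩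
    exact this.map π (QuotientGroup.mk'_surjective _)
  have hform : ∀ k : H ⧸ (A ⊔ B), ∃ c ∈ Ub, ∃ i : ℤ, k = c * x ^ i := by
    intro k
    obtain ⟨⟨a, ha⟩, rfl⟩ := QuotientGroup.mk'_surjective _ k
    have ha' : a ∈ zpowers g ⊔ U := sup_comm U (zpowers g) ▸ ha
    obtain ⟨_, ⟨i, rfl⟩, u, hu, rfl⟩ := (CfsgLib.Solvable.mem_sup_of_le_normalizer
      (zpowers_le.mpr hgN)).mp ha'
    have e : (⟨g ^ i * u, ha⟩ : H) = gH ^ i * ⟨u, hUH hu⟩ := Subtype.ext (by simp [gH])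
    refine ⟨_, hUbn.conj_mem _ ⟨⟨u, hUH hu⟩, hu, rfl⟩ (x ^ i), i, ?_⟩
    rw [e, map_mul, map_zpow]
    show x ^ i * π ⟨u, hUH hu⟩ = x ^ i * π ⟨u, hUH hu⟩ * (x ^ i)⁻¹ * x ^ i
    rw [inv_mul_cancel_right]
  -- a power of `x` commuting with a nontrivial element of `Ub` is trivial
  have hzfree : ∀ c ∈ Ub, c ≠ 1 → ∀ i : ℤ, x ^ i * c = c * x ^ i → x ^ i = 1 := by
    intro c hc hc1 i hi
    by_contra hne
    apply hc1
    refine hfree c hc ?_
    have hnd : ¬ (q : ℤ) ∣ i := fun hd => hne (by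
      rw [← hxord] at hd; exact orderOf_dvd_iff_zpow_eq_one.mp hd)
    have hco : Int.gcd i q = 1 := by
      rw [Int.gcd_comm]
      exact ((Nat.prime_iff_prime_int.mp hq).coprime_iff_not_dvd.mpr hnd) |> Int.isCoprime_iff_gcd_eq_one.mp
    obtain ⟨a, b, hab⟩ := Int.isCoprime_iff_gcd_eq_one.mpr hco
    have e : x = (x ^ i) ^ a := by
      rw [← zpow_mul]
      conv_lhs => rw [← zpow_one x, ← hab, zpow_add, mul_comm b (q : ℤ), zpow_mul x (q : ℤ),
        zpow_natCast, hxq, one_zpow, mul_one, mul_comm a i]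
    rw [e]
    exact ((show Commute (x ^ i) c from hi).zpow_left a).eq
  have hcore : Cfsg.pPrimeCore p (H ⧸ (A ⊔ B)) = ⊥ := by
    have hLc : (Nat.card (Cfsg.pPrimeCore p (H ⧸ (A ⊔ B)))).Coprime p :=
      CfsgLib.Solvable.coprime_card_pPrimeCore p
    have hdis : ∀ l ∈ Cfsg.pPrimeCore p (H ⧸ (A ⊔ B)), l ∈ Ub → l = 1 := by
      intro l hl hl'
      have h1 := (Cfsg.pPrimeCore p (H ⧸ (A ⊔ B))).orderOf_dvd_natCard hl
      exact orderOf_eq_one_iff.mp (Nat.eq_one_of_dvd_coprimes hLc h1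
        (orderOf_dvd_iff_pow_eq_one.mpr (hUbp l hl')))
    rw [eq_bot_iff]
    intro l hl
    obtain ⟨c, hc, i, rfl⟩ := hform l
    have hcomm : ∀ d ∈ Ub, c * x ^ i * d = d * (c * x ^ i) := by
      intro d hd
      have := hdis (c * x ^ i * d * (c * x ^ i)⁻¹ * d⁻¹) (by
        rw [show c * x ^ i * d * (c * x ^ i)⁻¹ * d⁻¹ =
          c * x ^ i * (d * (c * x ^ i)⁻¹ * d⁻¹) by group]
        exact mul_mem hl (Normal.conj_mem inferInstance _ (inv_mem hl) d))
        (mul_mem (hUbn.conj_mem d hd _) (inv_mem hd))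
      exact mul_inv_eq_iff_eq_mul.mp (mul_inv_eq_one.mp this)
    have hxi : x ^ i = 1 := by
      refine hzfree _ hc1m hc1 i ?_
      have e := hcomm _ hc1m
      set d := π ⟨u₁, hUH hu₁⟩
      rw [mul_assoc, ← mul_assoc d, ← hUbc c hc d hc1m, mul_assoc c d, mul_left_cancel_iff] at e
      exact e
    rw [hxi, mul_one] at hl ⊢
    exact mem_bot.mpr (hdis c hl hc)
  obtain ⟨k, hk⟩ := h H (A ⊔ B) hcore
  have hpk : p ∣ orderOf k := by
    haveI := Fact.mk hp
    rw [hk, ← orderOf_eq_prime (hUbp _ hc1m) hc1]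
    exact Monoid.order_dvd_exponent _
  have hqk : q ∣ orderOf k := by rw [hk, ← hxord]; exact Monoid.order_dvd_exponent _
  set a := k ^ (orderOf k / p)
  set b := k ^ (orderOf k / q)
  have ha : orderOf a = p := orderOf_pow_orderOf_div (orderOf_pos k).ne' hpk
  have hb : orderOf b = q := orderOf_pow_orderOf_div (orderOf_pos k).ne' hqk
  obtain ⟨c, hc, i, hbe⟩ := hform b
  obtain ⟨d, hd, j, hae⟩ := hform a
  -- the element of order `p` lies in `Ub`
  have haU : a ∈ Ub := by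
    have hq' : a ^ q ∈ Ub := by
      refine (QuotientGroup.eq_one_iff _).mp ?_
      rw [QuotientGroup.mk_pow, hae, QuotientGroup.mk_mul, (QuotientGroup.eq_one_iff d).mpr hd,
        one_mul, ← QuotientGroup.mk_pow, ← zpow_natCast (x ^ j), ← zpow_mul, mul_comm j, zpow_mul, zpow_natCast, hxq,
        one_zpow, QuotientGroup.mk_one]
    have hco : (orderOf a).Coprime q := ha ▸ ((Nat.coprime_primes hp hq).mpr (Ne.symm hqp))
    obtain ⟨m, hm⟩ := exists_pow_eq_self_of_coprime hco.symm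
    exact hm ▸ pow_mem hq' m
  have hane : a ≠ 1 := fun e => hp.ne_one (ha ▸ e ▸ orderOf_one)
  have hab : x ^ i * a = a * x ^ i := by
    have e : b * a = a * b := ((Commute.refl k).pow_pow _ _).eq
    rw [hbe, mul_assoc, ← mul_assoc a, ← hUbc c hc a haU, mul_assoc c a, mul_left_cancel_iff] at e
    exact e
  have hxi := hzfree a haU hane i hab
  rw [hxi, mul_one] at hbe
  have := hUbp c hc
  rw [← hbe] at this
  exact hqp ((Nat.prime_dvd_prime_iff_eq hq hp).mp (hb ▸ orderOf_dvd_iff_pow_eq_one.mpr this))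

/-- Let G be a finite group and p a prime. Then G has a normal p-complement if and only if every section K = H/N of G (N a normal subgroup of a subgroup H) whose largest normal subgroup of order prime to p is trivial contains an element whose order equals the exponent of K. -/
theorem result {G : Type*} [Group G] [Finite G] (p : ℕ) [Fact p.Prime] :
    Cfsg.HasNormalPComplement p G ↔
      ∀ (H : Subgroup G) (N : Subgroup H) [N.Normal], Cfsg.pPrimeCore p (H ⧸ N) = ⊥ →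
        ∃ k : H ⧸ N, orderOf k = Monoid.exponent (H ⧸ N) := by
  haveI := Fact.mk (Fact.out : p.Prime)
  refine ⟨fun hG H N hN hcore => ?_, fun h => CfsgLib.Fusion.hasNormalPComplement_of_localCondition
    (bad_section h)⟩
  have hH := CfsgLib.PResidual.hasNormalPComplement_iff.mp
    (CfsgLib.PResidual.hasNormalPComplement_subgroup H hG)
  have hle : Cfsg.pResidual p H ≤ N := by
    have hn : ((Cfsg.pResidual p H).map (QuotientGroup.mk' N)).Normal :=
      Subgroup.Normal.map inferInstance _ (QuotientGroup.mk'_surjective N)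
    have h1 := CfsgLib.Solvable.le_pPrimeCore p hn
      (hH.coprime_dvd_left (Subgroup.card_map_dvd _ _))
    rw [hcore, le_bot_iff, Subgroup.map_eq_bot_iff, QuotientGroup.ker_mk'] at h1
    exact h1
  obtain ⟨k, hk⟩ := CfsgLib.PResidual.exists_index_pResidual (G := H) (p := p)
  obtain ⟨j, _, hj⟩ := (Nat.dvd_prime_pow Fact.out).mp (hk ▸ Subgroup.index_dvd_of_le hle)
  exact exists_orderOf_eq_exponent_of_isPGroup (IsPGroup.of_card hj)

end Cfsg.Agent.S4238
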