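import Cfsg.Statements.S4244
import Mathlib.Tactic.Linarith

set_option autoImplicit false
set_option linter.style.haveILetI false
open Cfsg

namespace Cfsg.Agent.S4244

theorem relIndex_right_normal {G : Type*} [Group G] [Finite G] (A N : Subgroup G) [N.Normal] :
    A.relIndex N ∣ A.index := by
  have h1 : Nat.card ↥(A ⊓ N) * A.relIndex N = Nat.card N := by
    have h := Subgroup.relIndex_mul_relIndex ⊥ (A ⊓ N) N bot_le inf_le_right
    rw [Subgroup.relIndex_bot_left, Subgroup.relIndex_bot_left, Subgroup.inf_relIndex_right] at h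
    exact h
  have h2 : A.relIndex (A ⊔ N) * Nat.card A = Nat.card ↥(A ⊔ N) := by
    have h := Subgroup.relIndex_mul_relIndex ⊥ A (A ⊔ N) bot_le le_sup_left
    rw [Subgroup.relIndex_bot_left, Subgroup.relIndex_bot_left] at h
    rw [mul_comm]; exact h
  have h3 : Nat.card N * Nat.card A = Nat.card ↥(A ⊔ N) * Nat.card ↥(A ⊓ N) := by
    have h4 := Subgroup.relIndex_sup_right (H := A) (K := N)
    have ha := Subgroup.relIndex_mul_relIndex ⊥ N (A ⊔ N) bot_le le_sup_right
    have hb := Subgroup.relIndex_mul_relIndex ⊥ (A ⊓ N) A bot_le inf_le_left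
    rw [Subgroup.relIndex_bot_left, Subgroup.relIndex_bot_left] at ha hb
    rw [h4] at ha
    rw [inf_comm, Subgroup.inf_relIndex_right, inf_comm] at hb
    rw [← ha, ← hb]
    ring
  have h5 : A.relIndex N = A.relIndex (A ⊔ N) := by
    rw [← h1, ← h2] at h3
    apply Nat.eq_of_mul_eq_mul_left (Nat.mul_pos (Nat.card_pos (α := ↥(A ⊓ N))) (Nat.card_pos (α := A)))
    linarith
  rw [h5]
  exact Subgroup.relIndex_dvd_index_of_le le_sup_left

/-- Let H be a subnormal subgroup of a finite group G. Then for every subgroup K of G the index of H ∩ K in H divides the index of K in G. -/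
theorem result {G : Type*} [Group G] [Finite G] (H : Subgroup G) (hH : H.IsSubnormal) (K : Subgroup G) :
    (H ⊓ K).relIndex H ∣ K.index := by
  induction hH generalizing K with
  | top => simp
  | step H L hle hL hN ih =>
    refine dvd_trans ?_ (ih K)
    rw [Subgroup.inf_relIndex_left, Subgroup.inf_relIndex_left]
    have h1 := Cfsg.Agent.S4244.relIndex_right_normal (K.subgroupOf L) (H.subgroupOf L)
    rw [Subgroup.relIndex_subgroupOf hle] at h1
    exact h1

end Cfsg.Agent.S4244
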