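import Cfsg.Statements.S4245
import Cfsg.Agent.Char.Burnside
import Cfsg.Agent.Solvable.Basics
import Mathlib.GroupTheory.Transfer
import Mathlib.GroupTheory.Index

set_option autoImplicit false
set_option linter.style.haveILetI false
open Cfsg

namespace Cfsg.Agent.S4245

universe u

/-- Cyclic normal subgroup with cyclic 2-group quotient. -/
def Good (X : Type u) [Group X] : Prop :=
  ∃ B : Subgroup X, ∃ _ : B.Normal, IsCyclic B ∧ IsCyclic (X ⧸ B) ∧ IsPGroup 2 (X ⧸ B)

theorem good_of_injective {X Y : Type u} [Group X] [Group Y] (f : Y →* X)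
    (hf : Function.Injective f) (h : Good X) : Good Y := by
  obtain ⟨B, hn, hB, hq, h2⟩ := h
  haveI := hn
  let φ : Y ⧸ B.comap f →* X ⧸ B := QuotientGroup.map _ B f le_rfl
  have hφ : Function.Injective φ := by
    rw [injective_iff_map_eq_one]
    intro y
    induction y using QuotientGroup.induction_on with
    | H y =>
      intro hy
      rw [QuotientGroup.map_mk, QuotientGroup.eq_one_iff] at hy
      rw [QuotientGroup.eq_one_iff]
      exact hy
  refine ⟨B.comap f, inferInstance, ?_, isCyclic_of_injective φ hφ, h2.of_injective φ hφ⟩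
  let ψ : B.comap f →* B := f.subgroupComap B
  exact isCyclic_of_injective ψ (fun a b hab => Subtype.ext (hf (congrArg Subtype.val hab)))

theorem good_of_surjective {X Y : Type u} [Group X] [Group Y] (f : X →* Y)
    (hf : Function.Surjective f) (h : Good X) : Good Y := by
  obtain ⟨B, hn, hB, hq, h2⟩ := h
  haveI := hn
  haveI hn' : (B.map f).Normal := hn.map f hf
  let φ : X ⧸ B →* Y ⧸ B.map f := QuotientGroup.map B (B.map f) f (B.le_comap_map f)
  have hφ : Function.Surjective φ := by
    intro y
    induction y using QuotientGroup.induction_on with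
    | H y =>
      obtain ⟨x, rfl⟩ := hf y
      exact ⟨QuotientGroup.mk x, rfl⟩
  refine ⟨B.map f, hn', ?_, isCyclic_of_surjective φ hφ, h2.of_surjective φ hφ⟩
  exact isCyclic_of_surjective (f.subgroupMap B) (f.subgroupMap_surjective B)

theorem relIndex_dvd_index_of_normal_right {G : Type u} [Group G] [Finite G] (A N : Subgroup G)
    [N.Normal] : A.relIndex N ∣ A.index := by
  have h1 : A.relIndex N * Nat.card ↥(A ⊓ N) = Nat.card N := by
    rw [← Subgroup.inf_relIndex_right]
    exact (Subgroup.relIndex_mul_relIndex ⊥ (A ⊓ N) N bot_le inf_le_right) |> fun h => by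
      rw [Subgroup.relIndex_bot_left, Subgroup.relIndex_bot_left] at h
      rw [mul_comm]; exact h
  have h2 := CfsgLib.Solvable.card_sup_mul_card_inf (A := A) (K := N)
    (by rw [Subgroup.normalizer_eq_top]; exact le_top)
  have h3 : Nat.card ↥(A ⊔ N) = Nat.card A * A.relIndex N := by
    apply Nat.eq_of_mul_eq_mul_right (Nat.card_pos (α := ↥(A ⊓ N)))
    rw [h2, mul_assoc, h1]
  have h4 := A.card_mul_index
  rw [← (A ⊔ N).card_mul_index, h3, mul_assoc] at h4
  exact ⟨_, Nat.eq_of_mul_eq_mul_left Nat.card_pos h4⟩

theorem solvable_of_isPGroup {G : Type u} [Group G] [Finite G] {p : ℕ} [Fact p.Prime]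
    (h : IsPGroup p G) : Group.IsSolvable G := by
  haveI := h.isNilpotent
  infer_instance

/-- The simple case. -/
theorem simple_case {G : Type u} [Group G] [Finite G] [IsSimpleGroup G] (A : Subgroup G)
    (hgood : Good A) (p s : ℕ) (hp : p.Prime) (hidx : A.index = p ^ s) :
    Group.IsSolvable G := by
  classical
  haveI := Fact.mk hp
  haveI : Fact (Nat.Prime 2) := ⟨Nat.prime_two⟩
  obtain ⟨B, hn, hB, hq, h2⟩ := hgood
  haveI := hn
  -- a nontrivial element with prime power class size finishes
  have fin : ∀ g : G, g ≠ 1 → ∀ ℓ : ℕ, ℓ.Prime →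
      (∃ k, (Subgroup.centralizer ({g} : Set G)).index ∣ ℓ ^ k) → Group.IsSolvable G := by
    intro g hg ℓ hℓ hk
    obtain ⟨k, hk⟩ := hk
    obtain ⟨i, -, hi⟩ := (Nat.dvd_prime_pow hℓ).1 hk
    haveI : Fact (Nat.card G).Prime := ⟨CfsgLib.Char.prime_card_of_prime_pow_class hℓ hg hi⟩
    haveI := isCyclic_of_prime_card (α := G) rfl
    letI := IsCyclic.commGroup (α := G)
    infer_instance
  obtain ⟨r, hr⟩ : ∃ r, B.index = 2 ^ r := by
    obtain ⟨r, hr⟩ := h2.exists_card_eq
    exact ⟨r, by rw [Subgroup.index_eq_card, hr]⟩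
  by_cases hp2 : p = 2
  · subst hp2
    by_cases hodd : ∃ q, q.Prime ∧ q ≠ 2 ∧ q ∣ Nat.card B
    · obtain ⟨q, hq', hq2, hqd⟩ := hodd
      haveI := Fact.mk hq'
      obtain ⟨x, hx⟩ := exists_prime_orderOf_dvd_card' q hqd
      have hxne : ((x : A) : G) ≠ 1 := by
        intro h
        have : x = 1 := Subtype.ext (Subtype.ext h)
        rw [this, orderOf_one] at hx
        exact hq'.one_lt.ne hx
      refine fin _ hxne 2 Nat.prime_two ⟨s + r, ?_⟩
      have hle : B.map A.subtype ≤ Subgroup.centralizer ({((x : A) : G)} : Set G) := by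
        rintro _ ⟨b, hb, rfl⟩
        rw [Subgroup.mem_centralizer_singleton_iff]
        letI := IsCyclic.commGroup (α := B)
        exact congrArg (fun t : B => ((t : A) : G)) (mul_comm (⟨b, hb⟩ : B) x)
      have := Subgroup.index_dvd_of_le hle
      rw [Subgroup.index_map_subtype, hidx, hr, ← pow_add] at this
      rw [add_comm]
      simpa [mul_comm, add_comm] using this
    · -- G is a 2-group
      push Not at hodd
      obtain ⟨t, hB2⟩ : ∃ t, Nat.card B = 2 ^ t :=
        ⟨_, Nat.eq_prime_pow_of_unique_prime_dvd Nat.card_pos.ne' fun hq hqd => by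
          by_contra hne
          exact hodd _ hq hne hqd⟩
      refine solvable_of_isPGroup (IsPGroup.of_card (p := 2) (n := t + r + s) ?_)
      rw [← A.card_mul_index, ← B.card_mul_index, hB2, hr, hidx, pow_add, pow_add]
  · by_cases hev : 2 ∣ Nat.card B
    · obtain ⟨z, hz⟩ := exists_prime_orderOf_dvd_card' 2 hev
      have hzne : ((z : A) : G) ≠ 1 := by
        intro h
        have : z = 1 := Subtype.ext (Subtype.ext h)
        simp [this] at hz
      refine fin _ hzne p hp ⟨s, ?_⟩
      rw [← hidx]
      apply Subgroup.index_dvd_of_le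
      intro a ha
      rw [Subgroup.mem_centralizer_singleton_iff]
      let w : B := ⟨⟨a, ha⟩ * (z : A) * (⟨a, ha⟩ : A)⁻¹, hn.conj_mem _ z.2 _⟩
      have hw : orderOf w = 2 := by
        have : orderOf (w : A) = orderOf ((z : A)) := (SemiconjBy.orderOf_eq (a := (⟨a, ha⟩ : A))
          (show SemiconjBy (⟨a, ha⟩ : A) (z : A) (w : A) by simp [SemiconjBy, w])).symm
        rw [Subgroup.orderOf_coe, Subgroup.orderOf_coe] at this
        rw [this, hz]
      have hwz : w = z := by
        by_contra hne
        have h3 : ({1, z, w} : Finset B).card = 3 := by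
          have hz1 : z ≠ 1 := fun h => by simp [h] at hz
          have hw1 : w ≠ 1 := fun h => by simp [h] at hw
          rw [Finset.card_eq_three]
          exact ⟨1, z, w, hz1.symm, hw1.symm, Ne.symm hne, rfl⟩
        haveI := Fintype.ofFinite B
        have hle2 := IsCyclic.card_pow_eq_one_le (α := B) (n := 2) two_pos
        have : ({1, z, w} : Finset B) ⊆ Finset.univ.filter fun t => t ^ 2 = 1 := by
          intro t ht
          simp only [Finset.mem_insert, Finset.mem_singleton] at ht
          simp only [Finset.mem_filter, Finset.mem_univ, true_and]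
          rcases ht with rfl | rfl | rfl
          · simp
          · rw [← hz]; exact pow_orderOf_eq_one _
          · rw [← hw]; exact pow_orderOf_eq_one _
        have := Finset.card_le_card this
        omega
      have := congrArg (fun t : B => ((t : A) : G)) hwz
      simp only [w, Subgroup.coe_mul, InvMemClass.coe_inv] at this
      exact mul_inv_eq_iff_eq_mul.1 this
    · -- cyclic Sylow 2-subgroup
      obtain ⟨P⟩ := (inferInstance : Nonempty (Sylow 2 A))
      have hPB : ∀ x : P, (x : A) ∈ B → x = 1 := by
        intro x hx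
        obtain ⟨k, hk⟩ := (P.isPGroup') x
        obtain ⟨i, -, hi⟩ :=
          (Nat.dvd_prime_pow Nat.prime_two).1 (orderOf_dvd_of_pow_eq_one hk)
        have hd : orderOf (x : A) ∣ Nat.card B := Subgroup.orderOf_dvd_natCard B hx
        rw [Subgroup.orderOf_coe, hi] at hd
        rcases i with _ | i
        · exact orderOf_eq_one_iff.1 hi
        · exact absurd ((dvd_pow_self 2 (Nat.succ_ne_zero i)).trans hd) hev
      haveI hPc : IsCyclic P := isCyclic_of_injective
        ((QuotientGroup.mk' B).comp (P : Subgroup A).subtype) (by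
          rw [injective_iff_map_eq_one]
          intro x hx
          exact hPB x ((QuotientGroup.eq_one_iff (x : A)).1 hx))
      have hni : ¬ 2 ∣ ((P : Subgroup A).map A.subtype).index := by
        rw [Subgroup.index_map_subtype, hidx, Nat.prime_two.dvd_mul, not_or]
        exact ⟨P.not_dvd_index, fun h => hp2
          ((Nat.prime_dvd_prime_iff_eq Nat.prime_two hp).1 (Nat.prime_two.dvd_of_dvd_pow h)).symm⟩
      let S : Sylow 2 G := (P.isPGroup'.map A.subtype).toSylow hni
      have hSc : IsCyclic S :=
        isCyclic_of_surjective (A.subtype.subgroupMap (P : Subgroup A))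
          (A.subtype.subgroupMap_surjective _)
      by_cases heG : 2 ∣ Nat.card G
      · have hK := IsCyclic.isComplement' ((Nat.minFac_eq_two_iff _).2 heG) hSc
        set K := (MonoidHom.transferSylow S
          (hSc.normalizer_le_centralizer ((Nat.minFac_eq_two_iff _).2 heG))).ker with hKd
        have hKn : K.Normal := MonoidHom.normal_ker _
        rcases hKn.eq_bot_or_eq_top with h | h
        · rw [h, Subgroup.isComplement'_bot_left] at hK
          refine solvable_of_isPGroup (p := 2) ?_
          exact (hK ▸ S.isPGroup' : IsPGroup 2 (⊤ : Subgroup G)).of_equiv Subgroup.topEquiv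
        · rw [h, Subgroup.isComplement'_top_left] at hK
          have := S.not_dvd_index
          rw [hK, Subgroup.index_bot] at this
          exact absurd heG this
      · -- odd order, `A` is cyclic
        have hr0 : r = 0 := by
          by_contra hr0
          apply heG
          rw [← A.card_mul_index, ← B.card_mul_index, hr]
          exact (dvd_mul_of_dvd_right (dvd_pow_self 2 hr0) _).mul_right _
        have hBt : B = ⊤ := Subgroup.index_eq_one.1 (by rw [hr, hr0, pow_zero])
        by_cases hA1 : Nat.card A = 1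
        · refine solvable_of_isPGroup (IsPGroup.of_card (p := p) (n := s) ?_)
          rw [← A.card_mul_index, hidx, hA1, one_mul]
        haveI : Nontrivial A := Finite.one_lt_card_iff_nontrivial.1
          (lt_of_le_of_ne Nat.card_pos (Ne.symm hA1))
        obtain ⟨a, ha⟩ := exists_ne (1 : A)
        refine fin (a : G) (fun h => ha (Subtype.ext h)) p hp ⟨s, ?_⟩
        rw [← hidx]
        apply Subgroup.index_dvd_of_le
        intro b hb
        rw [Subgroup.mem_centralizer_singleton_iff]
        letI := IsCyclic.commGroup (α := B)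
        exact congrArg (fun t : B => ((t : A) : G))
          (mul_comm (⟨⟨b, hb⟩, hBt ▸ Subgroup.mem_top _⟩ : B) ⟨a, hBt ▸ Subgroup.mem_top _⟩)

theorem aux (n : ℕ) : ∀ (G : Type u) [Group G] [Finite G], Nat.card G = n →
    ∀ (A : Subgroup G) (p s : ℕ), Good A → p.Prime → A.index = p ^ s → Group.IsSolvable G := by
  induction n using Nat.strong_induction_on with
  | _ n ih =>
    intro G _ _ hn A p s hgood hp hidx
    rcases subsingleton_or_nontrivial G with hG | hG
    · infer_instance
    by_cases hs : IsSimpleGroup G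
    · exact simple_case A hgood p s hp hidx
    obtain ⟨N, hN, hN1, hN2⟩ : ∃ N : Subgroup G, N.Normal ∧ N ≠ ⊥ ∧ N ≠ ⊤ := by
      by_contra! h
      exact hs ⟨fun N hN => or_iff_not_imp_left.2 (h N hN)⟩
    haveI := hN
    have hlt1 : Nat.card N < n := hn ▸ lt_of_le_of_ne N.card_le_card_group
      (fun e => hN2 (Subgroup.eq_top_of_card_eq N e))
    have hlt2 : Nat.card (G ⧸ N) < n := by
      rw [← hn, N.card_eq_card_quotient_mul_card_subgroup]
      exact lt_mul_of_one_lt_right Nat.card_pos (N.one_lt_card_iff_ne_bot.2 hN1)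
    haveI : Group.IsSolvable N := by
      obtain ⟨i, -, hi⟩ := (Nat.dvd_prime_pow hp).1 (hidx ▸ relIndex_dvd_index_of_normal_right A N)
      let f : A.subgroupOf N →* A :=
        { toFun := fun x => ⟨((x : N) : G), x.2⟩, map_one' := rfl, map_mul' := fun _ _ => rfl }
      have hf : Function.Injective f := fun a b hab =>
        Subtype.ext (Subtype.ext (congrArg (fun t : A => (t : G)) hab))
      exact ih _ hlt1 N rfl (A.subgroupOf N) p i (good_of_injective f hf hgood) hp hi
    haveI : Group.IsSolvable (G ⧸ N) := by
      obtain ⟨i, -, hi⟩ := (Nat.dvd_prime_pow hp).1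
        (hidx ▸ Subgroup.index_map_dvd A (QuotientGroup.mk'_surjective N))
      exact ih _ hlt2 (G ⧸ N) rfl (A.map (QuotientGroup.mk' N)) p i
        (good_of_surjective _ ((QuotientGroup.mk' N).subgroupMap_surjective A) hgood) hp hi
    exact Group.isSolvable_of_ker_le_range N.subtype (QuotientGroup.mk' N)
      (by rw [QuotientGroup.ker_mk', Subgroup.range_subtype])

/-- Let G be a finite group with a subgroup A of prime-power index. Suppose A has a normal cyclic subgroup B such that A/B is cyclic of order a power of 2. Then G is solvable. -/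
theorem result {G : Type*} [Group G] [Finite G] (A : Subgroup G) (p s : ℕ) (hp : p.Prime) (hA : A.index = p ^ s)
    (B : Subgroup A) [B.Normal] (hB : IsCyclic B) (hAB : IsCyclic (A ⧸ B)) (r : ℕ) (hr : Nat.card (A ⧸ B) = 2 ^ r) :
    Group.IsSolvable G :=
  haveI : Fact (Nat.Prime 2) := ⟨Nat.prime_two⟩
  aux _ G rfl A p s ⟨B, inferInstance, hB, hAB, IsPGroup.of_card hr⟩ hp hA

end Cfsg.Agent.S4245
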