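import Cfsg.Statements.S4252
import Cfsg.Agent.Frobenius.Basic

set_option autoImplicit false
open Cfsg MulAction

namespace Cfsg.Agent.S4252

/-- A transitive, non-regular action in which only the identity fixes two points: point stabilizers are Frobenius complements and the Frobenius kernel is the identity together with the fixed-point-free elements. -/
theorem result {G Ω : Type*} [Group G] [Finite G] [Fintype Ω] [MulAction G Ω] (hΩ : 1 < Fintype.card Ω)
    (htrans : ∀ α β : Ω, ∃ g : G, g • α = β) (hnreg : ∃ g : G, g ≠ 1 ∧ ∃ α : Ω, g • α = α)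
    (hfix : ∀ g : G, g ≠ 1 → ∀ α β : Ω, g • α = α → g • β = β → α = β) (α : Ω) :
    Cfsg.IsFrobeniusComplement (MulAction.stabilizer G α) ∧
      Cfsg.frobeniusKernel (MulAction.stabilizer G α) = {g : G | g = 1 ∨ ∀ ω : Ω, g • ω ≠ ω} := by
  constructor
  · refine ⟨?_, ?_, fun g hg => ?_⟩
    · obtain ⟨x, hx, β, hβ⟩ := hnreg
      obtain ⟨t, rfl⟩ := htrans α β
      intro hb
      have hm : t⁻¹ * x * t ∈ stabilizer G α := by
        rw [mem_stabilizer_iff, mul_smul, mul_smul, hβ, inv_smul_smul]
      rw [hb, Subgroup.mem_bot] at hm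
      exact hx (by simpa [mul_assoc] using congrArg (fun w => t * w * t⁻¹) hm)
    · intro ht
      obtain ⟨β, hβ⟩ := Fintype.exists_ne_of_one_lt_card hΩ α
      obtain ⟨t, rfl⟩ := htrans α β
      have : t ∈ stabilizer G α := by rw [ht]; trivial
      exact hβ this
    · rw [eq_bot_iff]
      rintro x ⟨hx1, hx2⟩
      rw [Subgroup.mem_bot]
      by_contra hx
      have hx2' := CfsgLib.Frobenius.mem_conj_iff.1 hx2
      rw [mem_stabilizer_iff, mul_smul, mul_smul, inv_smul_eq_iff] at hx2'
      exact hg (mem_stabilizer_iff.2 (hfix x hx α (g • α) hx1 hx2').symm)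
  · ext x
    simp only [Cfsg.frobeniusKernel, Set.mem_ofPred_eq, CfsgLib.Frobenius.mem_conj_iff,
      mem_stabilizer_iff]
    constructor
    · rintro (h | h)
      · exact Or.inl h
      · refine Or.inr fun ω hω => ?_
        obtain ⟨t, rfl⟩ := htrans α ω
        exact h t (by rw [mul_smul, mul_smul, hω, inv_smul_smul])
    · rintro (h | h)
      · exact Or.inl h
      · exact Or.inr fun g hg => h (g • α) (by rwa [mul_smul, mul_smul, inv_smul_eq_iff] at hg)

end Cfsg.Agent.S4252
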