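import Cfsg.Statements.S4253
import Cfsg.Agent.Frobenius.Basic

set_option autoImplicit false
open Cfsg

namespace Cfsg.Agent.S4253

/-- For a Frobenius complement, every non-identity element fixes at most one coset. -/
theorem result {G : Type*} [Group G] [Finite G] (H : Subgroup G) (hH : Cfsg.IsFrobeniusComplement H)
    (g : G) (hg : g ≠ 1) (a b : G ⧸ H) (ha : g • a = a) (hb : g • b = b) : a = b := by
  induction a using QuotientGroup.induction_on with
  | H x =>
    induction b using QuotientGroup.induction_on with
    | H y =>
      change ((g * x : G) : G ⧸ H) = x at ha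
      change ((g * y : G) : G ⧸ H) = y at hb
      rw [eq_comm, QuotientGroup.eq] at ha hb
      rw [QuotientGroup.eq]
      exact CfsgLib.Frobenius.inv_mul_mem_of_mem_conj hH hg (by simpa [mul_assoc] using ha)
        (by simpa [mul_assoc] using hb)

end Cfsg.Agent.S4253
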