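import Cfsg.Statements.S4255
import Cfsg.Agent.FGSA.ClassSizeGraph

set_option autoImplicit false
open Cfsg

namespace Cfsg.Agent.S4255

open Subgroup CfsgLib.ClassSizeGraph in
theorem comm_and_no_edge {G : Type*} [Group G] [Finite G] (T : Split G)
    (S : Set ℕ) (hS : ∃ p ∈ S, Vert G p) (hS' : ∃ q ∉ S, Vert G q)
    (hdisc : ∀ p q : ℕ, Vert G p → Vert G q → p ∈ S → q ∉ S → ¬ Adj G p q) :
    (∀ a ∈ T.K, ∀ b ∈ T.K, a * b = b * a) ∧ (∃ b, Vert G b ∧ Bad G b) ∧
      ∀ g b : ℕ, Vert G g → ¬ Bad G g → Vert G b → Bad G b → ¬ Adj G g b := by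
  classical
  obtain ⟨p0, hp0S, hp0⟩ := hS
  obtain ⟨q0, hq0S, hq0⟩ := hS'
  have hside : ∀ p q : ℕ, Vert G p → Vert G q → (p = q ∨ Adj G p q) → (p ∈ S ↔ q ∈ S) := by
    rintro p q hp hq (rfl | h)
    · exact Iff.rfl
    · exact ⟨fun h1 => by_contra fun h2 => hdisc p q hp hq h1 h2 h,
        fun h1 => by_contra fun h2 => hdisc q p hq hp h1 h2 h.symm⟩
  have hgg : ∀ p q : ℕ, Vert G p → ¬ Bad G p → Vert G q → ¬ Bad G q → (p ∈ S ↔ q ∈ S) :=
    fun p q hp hpb hq hqb => hside p q hp hq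
      (or_iff_not_imp_left.2 fun h => adj_good_good hp.1 hq.1 h hpb hqb)
  have hK : ∀ a ∈ T.K, ∀ b ∈ T.K, a * b = b * a := by
    by_contra hK
    have hatt : ∀ a : ℕ, Vert G a → ∃ b, Vert G b ∧ ¬ Bad G b ∧ (a ∈ S ↔ b ∈ S) := by
      intro a ha
      by_cases hab : Bad G a
      · by_contra hcon
        exact hK (T.comm_of_not_adj ha hab fun s hs hsb hadj =>
          hcon ⟨s, hs, hsb, hside a s ha hs (Or.inr hadj)⟩)
      · exact ⟨a, ha, hab, Iff.rfl⟩
    obtain ⟨r, hr, hrb, hrS⟩ := hatt p0 hp0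
    obtain ⟨s, hs, hsb, hsS⟩ := hatt q0 hq0
    exact hq0S (hsS.2 ((hgg r s hr hrb hs hsb).1 (hrS.1 hp0S)))
  have hbb : ∀ p q : ℕ, Vert G p → Bad G p → Vert G q → Bad G q → (p ∈ S ↔ q ∈ S) :=
    fun p q hp hpb hq hqb => hside p q hp hq
      (or_iff_not_imp_left.2 fun h => T.adj_bad_bad hK hp hpb hq hqb h)
  refine ⟨hK, ?_, fun g b hg hgb hb hbb' hadj => hq0S ?_⟩
  · by_contra hno
    exact hq0S ((hgg p0 q0 hp0 (fun h => hno ⟨p0, hp0, h⟩) hq0 (fun h => hno ⟨q0, hq0, h⟩)).1 hp0S)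
  · have hgbS := hside g b hg hb (Or.inr hadj)
    have hall : ∀ v : ℕ, Vert G v → (v ∈ S ↔ g ∈ S) := fun v hv => by
      by_cases hvb : Bad G v
      · exact (hbb v b hv hvb hb hbb').trans hgbS.symm
      · exact hgg v g hv hvb hg hgb
    exact (hall q0 hq0).2 ((hall p0 hp0).1 hp0S)

open Subgroup CfsgLib.ClassSizeGraph in
open scoped Pointwise in
theorem frobenius {G : Type*} [Group G] [Finite G] (T : Split G)
    (hK : ∀ a ∈ T.K, ∀ b ∈ T.K, a * b = b * a) (hb : ∃ b, Vert G b ∧ Bad G b)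
    (hno : ∀ g b : ℕ, Vert G g → ¬ Bad G g → Vert G b → Bad G b → ¬ Adj G g b) :
    ∃ H : Subgroup (G ⧸ center G), Cfsg.IsFrobeniusComplement H ∧ IsMulCommutative H ∧
      ∀ x ∈ Cfsg.frobeniusKernel H, ∀ y ∈ Cfsg.frobeniusKernel H, x * y = y * x := by
  classical
  haveI := T.normal
  obtain ⟨b0, hb0, hb0b⟩ := hb
  haveI : Fact b0.Prime := ⟨hb0.1⟩
  obtain ⟨Q, hQ⟩ := T.exists_sylow_le hb0 hb0b
  have hdisj : ∀ z, z ∈ T.K → z ∈ T.A → z = 1 := fun z h1 h2 => disjoint_def.1 T.compl.disjoint h1 h2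
  have hkill : ∀ a ∈ T.A, ∀ y ∈ T.K, y * a = a * y → a ∉ center G → y ∈ center G := by
    intro a ha y hy hya haZ
    by_contra hyZ
    have hne : ∀ z : G, z ∉ center G → (centralizer ({z} : Set G)).index ≠ 1 := by
      intro z hz h1
      rw [index_eq_one] at h1
      exact hz (mem_center_iff.2 fun g => mem_centralizer_singleton_iff.1 (h1 ▸ mem_top g))
    obtain ⟨s, hs, hsd⟩ := Nat.exists_prime_and_dvd (hne a haZ)
    obtain ⟨q, hq, hqd⟩ := Nat.exists_prime_and_dvd (hne y hyZ)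
    have hAC : T.A ≤ centralizer ({a} : Set G) := fun c hc =>
      mem_centralizer_singleton_iff.2 (T.comm c hc a ha)
    have hKC : T.K ≤ centralizer ({y} : Set G) := fun c hc =>
      mem_centralizer_singleton_iff.2 (hK c hc y hy)
    have hsK : s ∣ Nat.card T.K := hsd.trans ((index_dvd_of_le hAC).trans T.compl.index_eq_card.dvd)
    have hqA : q ∣ Nat.card T.A :=
      hqd.trans ((index_dvd_of_le hKC).trans T.compl.symm.index_eq_card.dvd)
    have hsv : Vert G s := ⟨hs, a, hsd⟩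
    have hsb : ¬ Bad G s := fun h => T.not_dvd s hsv h hsK
    obtain ⟨hqv, hqb⟩ := T.of_dvd q hq hqA
    have hle : centralizer ({y * a} : Set G) ≤
        centralizer ({a} : Set G) ⊓ centralizer ({y} : Set G) := by
      intro c hc
      have h1 : Commute c (y * a) := mem_centralizer_singleton_iff.1 hc
      have h2 : (y * a) ^ Nat.card T.K = a ^ Nat.card T.K := by
        rw [(show Commute y a from hya).mul_pow]
        have h3 : y ^ Nat.card T.K = 1 :=
          orderOf_dvd_iff_pow_eq_one.1 ((orderOf_coe (⟨y, hy⟩ : T.K)).symm ▸ _root_.orderOf_dvd_natCard _)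
        rw [h3, one_mul]
      obtain ⟨m, hm⟩ := exists_pow_eq_self_of_coprime (x := a) (n := Nat.card T.K)
        (T.coprime.of_dvd_right ((orderOf_coe (⟨a, ha⟩ : T.A)).symm ▸ _root_.orderOf_dvd_natCard _))
      have h4 : Commute c a := hm ▸ ((h2 ▸ h1.pow_right _ : Commute c (a ^ Nat.card T.K))).pow_right m
      have h5 : Commute c y := by simpa using h1.mul_right h4.inv_right
      exact ⟨mem_centralizer_singleton_iff.2 h4, mem_centralizer_singleton_iff.2 h5⟩
    refine hno s q hsv hsb hqv hqb (adj_of_dvd hs hq (fun h => hsb (h ▸ hqb)) (g := y * a) ?_ ?_)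
    · exact hsd.trans (index_dvd_of_le (hle.trans inf_le_left))
    · exact hqd.trans (index_dvd_of_le (hle.trans inf_le_right))
  have hpow : ∀ y ∈ T.K, ∀ a ∈ T.A, y * a ∈ center G → y ∈ center G ∧ a ∈ center G := by
    intro y hy a ha hz
    have hc : Commute y a := by
      have h1 := mem_center_iff.1 hz y
      exact mul_left_cancel (h1.trans (mul_assoc y a y))
    obtain ⟨m, hm⟩ := exists_pow_eq_self_of_coprime (x := y) (n := Nat.card T.A)
      (T.coprime.symm.of_dvd_right ((orderOf_coe (⟨y, hy⟩ : T.K)).symm ▸ _root_.orderOf_dvd_natCard _))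
    have h3 : a ^ Nat.card T.A = 1 :=
      orderOf_dvd_iff_pow_eq_one.1 ((orderOf_coe (⟨a, ha⟩ : T.A)).symm ▸ _root_.orderOf_dvd_natCard _)
    have h4 : y ∈ center G := by
      have h5 := pow_mem (pow_mem hz (Nat.card T.A)) m
      rwa [hc.mul_pow, h3, mul_one, hm] at h5
    exact ⟨h4, by simpa using mul_mem (inv_mem h4) hz⟩
  have hconj : ∀ k ∈ T.K, ∀ a ∈ T.A, ∀ a' ∈ T.A,
      a'⁻¹ * (k * a * k⁻¹) ∈ center G → k * a * k⁻¹ = a := by
    intro k hk a ha a' ha' hz
    have hcK : k * a * k⁻¹ * a⁻¹ ∈ T.K := by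
      have := T.K.mul_mem hk (T.normal.conj_mem k⁻¹ (inv_mem hk) a)
      simpa [mul_assoc] using this
    set c := k * a * k⁻¹ * a⁻¹ with hc
    have hz' : c * (a * a'⁻¹) ∈ center G := by
      have h1 : k * a * k⁻¹ * a'⁻¹ = a'⁻¹ * (k * a * k⁻¹) := by
        have h2 := mem_center_iff.1 hz a'
        calc k * a * k⁻¹ * a'⁻¹ = a' * (a'⁻¹ * (k * a * k⁻¹)) * a'⁻¹ := by group
          _ = a'⁻¹ * (k * a * k⁻¹) := by rw [h2]; group
      rw [show c * (a * a'⁻¹) = k * a * k⁻¹ * a'⁻¹ by rw [hc]; group, h1]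
      exact hz
    obtain ⟨hcZ, -⟩ := hpow c hcK _ (mul_mem ha (inv_mem ha')) hz'
    have h6 : k * a * k⁻¹ = c * a := by rw [hc]; group
    have h7 : c ^ orderOf a = 1 := by
      have h8 : (k * a * k⁻¹) ^ orderOf a = 1 := by rw [conj_pow, pow_orderOf_eq_one]; group
      rwa [h6, (show Commute c a from (mem_center_iff.1 hcZ a).symm).mul_pow, pow_orderOf_eq_one,
        mul_one] at h8
    have h9 : c = 1 := by
      rw [← orderOf_eq_one_iff]
      refine Nat.eq_one_of_dvd_coprimes T.coprime ?_ ?_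
      · exact (orderOf_coe (⟨c, hcK⟩ : T.K)).symm ▸ _root_.orderOf_dvd_natCard _
      · exact (orderOf_dvd_of_pow_eq_one h7).trans
          ((orderOf_coe (⟨a, ha⟩ : T.A)).symm ▸ _root_.orderOf_dvd_natCard _)
    rw [h6, h9, one_mul]
  set π : G →* G ⧸ center G := QuotientGroup.mk' (center G) with hπ
  have hker : ∀ {u v : G}, π u = π v → u⁻¹ * v ∈ center G := fun h => QuotientGroup.eq.1 h
  refine ⟨T.A.map π, ⟨?_, ?_, ?_⟩, ?_, ?_⟩
  · intro hbot
    refine T.not_le_centralizer hb0 hQ fun k _ => mem_centralizer_iff.2 fun u hu => ?_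
    have h1 : π u ∈ T.A.map π := mem_map_of_mem π (hQ hu)
    rw [hbot, mem_bot, hπ, QuotientGroup.mk'_apply, QuotientGroup.eq_one_iff] at h1
    exact (mem_center_iff.1 h1 k).symm
  · intro htop
    refine T.not_le_centralizer hb0 hQ fun k _ => mem_centralizer_iff.2 fun u hu => ?_
    obtain ⟨a, ha, hak⟩ := mem_map.1 (htop ▸ mem_top (π k))
    have hz := hker hak
    have h1 := mem_center_iff.1 hz u
    have h2 := T.comm u (hQ hu) a ha
    calc u * k = (u * a) * (a⁻¹ * k) := by group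
      _ = a * (u * (a⁻¹ * k)) := by rw [h2, mul_assoc]
      _ = k * u := by rw [h1]; group
  · intro g hg
    rw [eq_bot_iff]
    intro h hh
    obtain ⟨⟨a, ha, rfl⟩, h2⟩ := hh
    replace h2 : π a ∈ MulAut.conj g • T.A.map π := h2
    obtain ⟨_, ⟨a', ha', rfl⟩, h3⟩ := (Subgroup.mem_smul_pointwise_iff_exists _ _ _).1 h2
    obtain ⟨g0, rfl⟩ := QuotientGroup.mk'_surjective (center G) g
    obtain ⟨k, hk, b, hbA, rfl⟩ := T.exists_mul g0
    have h4 : π a = π (k * a' * k⁻¹) := by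
      rw [← h3, MulAut.smul_def, MulAut.conj_apply]
      have h5 : k * b * a' * (k * b)⁻¹ = k * a' * k⁻¹ := by
        calc k * b * a' * (k * b)⁻¹ = k * (b * a') * b⁻¹ * k⁻¹ := by group
          _ = k * (a' * b) * b⁻¹ * k⁻¹ := by rw [T.comm b hbA a' ha']
          _ = _ := by group
      rw [← h5]; simp only [hπ, map_mul, map_inv]
    rw [mem_bot, h4, hconj k hk a' ha' a ha (hker h4)]
    by_contra hne
    have ha'Z : a' ∉ center G := fun h => hne (by rw [hπ, QuotientGroup.mk'_apply, QuotientGroup.eq_one_iff]; exact h)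
    have h6 := hconj k hk a' ha' a ha (hker h4)
    have hkZ : k ∈ center G := hkill a' ha' k hk (mul_inv_eq_iff_eq_mul.1 h6) ha'Z
    refine hg ⟨b, hbA, ?_⟩
    simp only [hπ, map_mul, QuotientGroup.mk'_apply, (QuotientGroup.eq_one_iff k).2 hkZ, one_mul]
  · exact ⟨⟨by
      rintro ⟨_, a, ha, rfl⟩ ⟨_, b, hb, rfl⟩
      exact Subtype.ext (show π a * π b = π b * π a by rw [← map_mul, ← map_mul, T.comm a ha b hb])⟩⟩
  · have hkerK : ∀ x ∈ Cfsg.frobeniusKernel (T.A.map π), ∃ k ∈ T.K, π k = x := by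
      intro x hx
      rcases hx with rfl | hx
      · exact ⟨1, one_mem _, map_one π⟩
      obtain ⟨x0, rfl⟩ := QuotientGroup.mk'_surjective (center G) x
      obtain ⟨k, hk, a, ha, rfl⟩ := T.exists_mul x0
      by_cases haZ : a ∈ center G
      · exact ⟨k, hk, by simp only [hπ, map_mul, QuotientGroup.mk'_apply, (QuotientGroup.eq_one_iff a).2 haZ, mul_one]⟩
      exfalso
      have hf : ∀ j : T.K, (j : G) * a * (j : G)⁻¹ * a⁻¹ ∈ T.K := fun j => by
        have := T.K.mul_mem j.2 (T.normal.conj_mem (j : G)⁻¹ (inv_mem j.2) a)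
        simpa [mul_assoc] using this
      set D : Subgroup T.K := (center G).subgroupOf T.K with hD
      have hcomm : ∀ u v : T.K, u * v = v * u := fun u v => Subtype.ext (hK u u.2 v v.2)
      let φ : T.K →* T.K ⧸ D :=
        { toFun := fun j => ((⟨(j : G) * a * (j : G)⁻¹ * a⁻¹, hf j⟩ : T.K) : T.K ⧸ D)
          map_one' := by
            rw [QuotientGroup.eq_one_iff, hD, mem_subgroupOf]
            simp
          map_mul' := fun i j => by
            rw [← QuotientGroup.mk_mul]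
            congr 1
            apply Subtype.ext
            simp only [Subgroup.coe_mul]
            calc (i : G) * j * a * ((i : G) * j)⁻¹ * a⁻¹
                = (i : G) * (((j : G) * a * (j : G)⁻¹ * a⁻¹) * (a * (i : G)⁻¹ * a⁻¹)) := by group
              _ = (i : G) * ((a * (i : G)⁻¹ * a⁻¹) * ((j : G) * a * (j : G)⁻¹ * a⁻¹)) := by
                  rw [hK _ (hf j) _ (T.normal.conj_mem _ (inv_mem i.2) a)]
              _ = _ := by group }
      have hφD : ∀ j, φ j = 1 → j ∈ D := by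
        intro j hj
        have hj' : (j : G) * a * (j : G)⁻¹ * a⁻¹ ∈ center G := (QuotientGroup.eq_one_iff (⟨_, hf j⟩ : T.K)).1 hj
        have h1 : a⁻¹ * ((j : G) * a * (j : G)⁻¹) ∈ center G := by
          have h2 := mem_center_iff.1 hj' a
          rw [show a⁻¹ * ((j : G) * a * (j : G)⁻¹) = (j : G) * a * (j : G)⁻¹ * a⁻¹ by
            calc a⁻¹ * ((j : G) * a * (j : G)⁻¹) = a⁻¹ * ((j : G) * a * (j : G)⁻¹ * a⁻¹ * a) := by group
              _ = _ := by rw [← h2]; group]
          exact hj'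
        exact hkill a ha j j.2 (mul_inv_eq_iff_eq_mul.1 (hconj j j.2 a ha a ha h1)) haZ
      have hsurj : Function.Surjective (QuotientGroup.lift D φ (fun j hj => by
          have h1 : (j : G) * a * (j : G)⁻¹ = a := by
            rw [mul_inv_eq_iff_eq_mul]; exact (mem_center_iff.1 hj a).symm
          show ((⟨(j : G) * a * (j : G)⁻¹ * a⁻¹, hf j⟩ : T.K) : T.K ⧸ D) = 1
          rw [QuotientGroup.eq_one_iff, hD, mem_subgroupOf]
          simp [h1])) := by
        refine Finite.injective_iff_surjective.1 ((injective_iff_map_eq_one _).2 fun c hc => ?_)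
        induction c using QuotientGroup.induction_on with
        | H j => exact (QuotientGroup.eq_one_iff j).2 (hφD j hc)
      obtain ⟨c, hc⟩ := hsurj ((⟨k, hk⟩ : T.K) : T.K ⧸ D)
      induction c using QuotientGroup.induction_on with
      | H j =>
        have hc' : ((j : G) * a * (j : G)⁻¹ * a⁻¹)⁻¹ * k ∈ center G := mem_subgroupOf.1
            (QuotientGroup.eq.1 (show ((⟨_, hf j⟩ : T.K) : T.K ⧸ D) = ((⟨k, hk⟩ : T.K) : T.K ⧸ D) from hc))
        apply hx (π (j : G))
        rw [Subgroup.mem_smul_pointwise_iff_exists]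
        refine ⟨π a, mem_map_of_mem π ha, ?_⟩
        rw [MulAut.smul_def, MulAut.conj_apply]
        change π (j : G) * π a * (π (j : G))⁻¹ = π (k * a)
        rw [← map_mul, ← map_inv, ← map_mul, hπ, QuotientGroup.mk'_apply, QuotientGroup.mk'_apply,
          QuotientGroup.eq]
        have h2 := mem_center_iff.1 hc' a⁻¹
        rw [show ((j : G) * a * (j : G)⁻¹)⁻¹ * (k * a)
          = a⁻¹ * (((j : G) * a * (j : G)⁻¹ * a⁻¹)⁻¹ * k) * a by group, h2]
        simpa [mul_assoc] using hc'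
    intro x hx y hy
    obtain ⟨u, hu, rfl⟩ := hkerK x hx
    obtain ⟨v, hv, rfl⟩ := hkerK y hy
    rw [← map_mul, ← map_mul, hK u hu v hv]


/-- Let G be a finite group. Call a prime a vertex if it divides some conjugacy class size of G, and two distinct vertices adjacent if their product divides some class size. Suppose this graph is disconnected: the vertices split into two nonempty parts with no vertex of one part adjacent to a vertex of the other. Then G/Z(G) is a Frobenius group with abelian Frobenius complement and with a Frobenius kernel all of whose elements commute. -/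
theorem result {G : Type*} [Group G] [Finite G] (S : Set ℕ) (hS : ∃ p ∈ S, (p.Prime ∧ ∃ g : G, p ∣ (Subgroup.centralizer ({g} : Set G)).index)) (hS' : ∃ q ∉ S, (q.Prime ∧ ∃ g : G, q ∣ (Subgroup.centralizer ({g} : Set G)).index))
    (hdisc : ∀ p q : ℕ, (p.Prime ∧ ∃ g : G, p ∣ (Subgroup.centralizer ({g} : Set G)).index) → (q.Prime ∧ ∃ g : G, q ∣ (Subgroup.centralizer ({g} : Set G)).index) → p ∈ S → q ∉ S → ¬ (∃ g : G, p * q ∣ (Subgroup.centralizer ({g} : Set G)).index)) :
    ∃ H : Subgroup (G ⧸ Subgroup.center G), Cfsg.IsFrobeniusComplement H ∧ IsMulCommutative H ∧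
      ∀ x ∈ Cfsg.frobeniusKernel H, ∀ y ∈ Cfsg.frobeniusKernel H, x * y = y * x := by
  obtain ⟨T⟩ := CfsgLib.ClassSizeGraph.exists_split (G := G)
  obtain ⟨hK, hb, hno⟩ := comm_and_no_edge T S hS hS' hdisc
  exact frobenius T hK hb hno

end Cfsg.Agent.S4255
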