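import Cfsg.Statements.S4257
import Cfsg.Agent.FGSA.ClassSizeGraph

set_option autoImplicit false
open Cfsg

namespace Cfsg.Agent.S4257

open CfsgLib.ClassSizeGraph in
theorem exists_chain {G : Type*} [Group G] [Finite G]
    (hconn : ∀ S : Set ℕ, (∃ p ∈ S, Vert G p) → (∃ q ∉ S, Vert G q) →
      ∃ p q : ℕ, Vert G p ∧ Vert G q ∧ p ∈ S ∧ q ∉ S ∧ Adj G p q)
    {p q : ℕ} (hp : Vert G p) (hq : Vert G q) :
    ∃ r s : ℕ, Vert G r ∧ Vert G s ∧ (r = p ∨ Adj G p r) ∧ (r = s ∨ Adj G r s) ∧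
      (s = q ∨ Adj G s q) := by
  classical
  obtain ⟨S⟩ := exists_split (G := G)
  by_cases hK : ∀ a ∈ S.K, ∀ b ∈ S.K, a * b = b * a
  · have hbb : ∀ {a b : ℕ}, Vert G a → Bad G a → Vert G b → Bad G b → b = a ∨ Adj G a b :=
      fun ha hab hb hbb => or_iff_not_imp_left.2 fun h => S.adj_bad_bad hK ha hab hb hbb (Ne.symm h)
    have hgg : ∀ {a b : ℕ}, Vert G a → ¬ Bad G a → Vert G b → ¬ Bad G b → b = a ∨ Adj G a b :=
      fun ha hab hb hbb => or_iff_not_imp_left.2 fun h => adj_good_good ha.1 hb.1 (Ne.symm h) hab hbb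
    by_cases hpb : Bad G p <;> by_cases hqb : Bad G q
    · exact ⟨p, p, hp, hp, Or.inl rfl, Or.inl rfl, (hbb hp hpb hq hqb).imp Eq.symm id⟩
    · obtain ⟨r, s, hr, hs, hrS, hsS, hrs⟩ := hconn {n | Bad G n} ⟨p, hpb, hp⟩ ⟨q, hqb, hq⟩
      exact ⟨r, s, hr, hs, hbb hp hpb hr hrS, Or.inr hrs, (hgg hs hsS hq hqb).imp Eq.symm id⟩
    · obtain ⟨r, s, hr, hs, hrS, hsS, hrs⟩ := hconn {n | Bad G n} ⟨q, hqb, hq⟩ ⟨p, hpb, hp⟩
      exact ⟨s, r, hs, hr, hgg hp hpb hs hsS, Or.inr hrs.symm, (hbb hr hrS hq hqb).imp Eq.symm id⟩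
    · exact ⟨p, p, hp, hp, Or.inl rfl, Or.inl rfl, (hgg hp hpb hq hqb).imp Eq.symm id⟩
  · have hatt : ∀ {a : ℕ}, Vert G a → ∃ b, Vert G b ∧ ¬ Bad G b ∧ (b = a ∨ Adj G a b) := by
      intro a ha
      by_cases hab : Bad G a
      · by_contra hcon
        exact hK (S.comm_of_not_adj ha hab fun s hs hsb hadj => hcon ⟨s, hs, hsb, Or.inr hadj⟩)
      · exact ⟨a, ha, hab, Or.inl rfl⟩
    obtain ⟨r, hr, hrb, hpr⟩ := hatt hp
    obtain ⟨s, hs, hsb, hqs⟩ := hatt hq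
    refine ⟨r, s, hr, hs, hpr, ?_, hqs.imp id CfsgLib.ClassSizeGraph.Adj.symm⟩
    exact or_iff_not_imp_left.2 fun h => adj_good_good hr.1 hs.1 h hrb hsb


/-- Let G be a finite group. Call a prime a vertex if it divides some conjugacy class size of G, and two distinct vertices adjacent if their product divides some class size. If this graph is connected, then its diameter is at most 3: any two distinct vertices p and q are adjacent, or joined through one or two intermediate vertices. -/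
theorem result {G : Type*} [Group G] [Finite G]
    (hconn : ∀ S : Set ℕ, (∃ p ∈ S, (p.Prime ∧ ∃ g : G, p ∣ (Subgroup.centralizer ({g} : Set G)).index)) → (∃ q ∉ S, (q.Prime ∧ ∃ g : G, q ∣ (Subgroup.centralizer ({g} : Set G)).index)) →
      ∃ p q : ℕ, (p.Prime ∧ ∃ g : G, p ∣ (Subgroup.centralizer ({g} : Set G)).index) ∧ (q.Prime ∧ ∃ g : G, q ∣ (Subgroup.centralizer ({g} : Set G)).index) ∧ p ∈ S ∧ q ∉ S ∧ (∃ g : G, p * q ∣ (Subgroup.centralizer ({g} : Set G)).index))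
    (p q : ℕ) (hp : (p.Prime ∧ ∃ g : G, p ∣ (Subgroup.centralizer ({g} : Set G)).index)) (hq : (q.Prime ∧ ∃ g : G, q ∣ (Subgroup.centralizer ({g} : Set G)).index)) (hpq : p ≠ q) :
    (∃ g : G, p * q ∣ (Subgroup.centralizer ({g} : Set G)).index) ∨ (∃ r : ℕ, (r.Prime ∧ ∃ g : G, r ∣ (Subgroup.centralizer ({g} : Set G)).index) ∧ r ≠ p ∧ r ≠ q ∧ (∃ g : G, p * r ∣ (Subgroup.centralizer ({g} : Set G)).index) ∧ (∃ g : G, r * q ∣ (Subgroup.centralizer ({g} : Set G)).index)) ∨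
      (∃ r s : ℕ, (r.Prime ∧ ∃ g : G, r ∣ (Subgroup.centralizer ({g} : Set G)).index) ∧ (s.Prime ∧ ∃ g : G, s ∣ (Subgroup.centralizer ({g} : Set G)).index) ∧ r ≠ p ∧ s ≠ q ∧ r ≠ s ∧ r ≠ q ∧ s ≠ p ∧
        (∃ g : G, p * r ∣ (Subgroup.centralizer ({g} : Set G)).index) ∧ (∃ g : G, r * s ∣ (Subgroup.centralizer ({g} : Set G)).index) ∧ (∃ g : G, s * q ∣ (Subgroup.centralizer ({g} : Set G)).index)) := by
  change CfsgLib.ClassSizeGraph.Vert G p at hp
  change CfsgLib.ClassSizeGraph.Vert G q at hq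
  obtain ⟨r, s, hr, hs, h1, h2, h3⟩ := exists_chain hconn hp hq
  by_cases hA : CfsgLib.ClassSizeGraph.Adj G p q
  · exact Or.inl hA
  refine Or.inr ?_
  have hrq : r ≠ q := by
    rintro rfl
    rcases h1 with h | h
    · exact hpq h.symm
    · exact hA h
  have hsp : s ≠ p := by
    rintro rfl
    rcases h3 with h | h
    · exact hpq h
    · exact hA h
  by_cases hrp : r = p
  · subst hrp
    rcases h2 with h | h
    · exact absurd h.symm hsp
    · have hsq : s ≠ q := fun e => hA (e ▸ h)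
      exact Or.inl ⟨s, hs, hsp, hsq, h, h3.resolve_left hsq⟩
  have hpr := h1.resolve_left hrp
  by_cases hsq : s = q
  · subst hsq
    exact Or.inl ⟨r, hr, hrp, hrq, hpr, h2.resolve_left hrq⟩
  by_cases hrs : r = s
  · subst hrs
    exact Or.inl ⟨r, hr, hrp, hrq, hpr, h3.resolve_left hsq⟩
  exact Or.inr ⟨r, s, hr, hs, hrp, hsq, hrs, hrq, hsp, hpr, h2.resolve_left hrs, h3.resolve_left hsq⟩

end Cfsg.Agent.S4257
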