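import Cfsg.Statements.S4261
import Cfsg.Agent.Solvable.Hall
import Mathlib.GroupTheory.Nilpotent

set_option autoImplicit false
set_option linter.style.haveILetI false
open Cfsg

namespace Cfsg.Agent.S4261

/-- Let M be a maximal subgroup of a finite solvable group G such that x^[G : M] lies in M for every x in G. Then M is normal in G. -/
theorem result {G : Type*} [Group G] [Finite G] (hG : Group.IsSolvable G) (M : Subgroup G) (hM : IsCoatom M)
    (hexp : ∀ x : G, x ^ M.index ∈ M) : M.Normal := by
  obtain ⟨q, k, hq, -, hqk⟩ := (isPrimePow_nat_iff _).1 (CfsgLib.Hall.isPrimePow_index_aux _ G rfl hG M hM)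
  haveI := Fact.mk hq
  set R : Subgroup G := Subgroup.closure (Set.range fun x : G => x ^ M.index) with hR
  have hRM : R ≤ M := (Subgroup.closure_le _).2 (by rintro _ ⟨x, rfl⟩; exact hexp x)
  have hRn : R.Normal := by
    refine ⟨fun r hr g => ?_⟩
    have hle : R ≤ R.comap (MulAut.conj g).toMonoidHom := (Subgroup.closure_le _).2 (by
      rintro _ ⟨x, rfl⟩
      exact Subgroup.subset_closure ⟨g * x * g⁻¹, by simp [conj_pow]⟩)
    exact hle hr
  have hp : IsPGroup q (G ⧸ R) := by
    intro y
    induction y using QuotientGroup.induction_on with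
    | H x =>
      refine ⟨k, ?_⟩
      rw [← QuotientGroup.mk_pow, QuotientGroup.eq_one_iff, hqk]
      exact Subgroup.subset_closure ⟨x, rfl⟩
  haveI := hp.isNilpotent
  let π := QuotientGroup.mk' R
  have hcm : (M.map π).comap π = M := by
    rw [Subgroup.comap_map_eq, QuotientGroup.ker_mk', sup_eq_left.2 hRM]
  have hco : IsCoatom (M.map π) := by
    refine ⟨fun h => hM.1 (by rw [← hcm, h, Subgroup.comap_top]), fun K hK => ?_⟩
    have h2 : M < K.comap π := by
      rw [← hcm]
      exact (Subgroup.comap_lt_comap_of_surjective (QuotientGroup.mk'_surjective R)).2 hK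
    exact (Subgroup.comap_injective (QuotientGroup.mk'_surjective R)) (by rw [hM.2 _ h2, Subgroup.comap_top])
  haveI := Subgroup.NormalizerCondition.normal_of_coatom (M.map π) (Group.normalizerCondition_of_isNilpotent) hco
  rw [← hcm]
  infer_instance

end Cfsg.Agent.S4261
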