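import Cfsg.Statements.S4263
import Mathlib.GroupTheory.Sylow
import Mathlib.GroupTheory.Nilpotent
import Mathlib.GroupTheory.NoncommPiCoprod

set_option autoImplicit false
open Cfsg

namespace Cfsg.Agent.S4263

variable {G : Type*} [Group G] [Finite G]

/-- A `p`-element of a normal `p`-subgroup has its `[G:H]`-th power in `H`. -/
theorem pow_index_mem_of_pGroup {p : ℕ} [hp : Fact p.Prime] (C H : Subgroup G) [C.Normal]
    (hC : IsPGroup p C) {y : G} (hy : y ∈ C) : y ^ H.index ∈ H := by
  have hzC : Subgroup.zpowers y ≤ C := Subgroup.zpowers_le.mpr hy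
  have hK : H.relIndex (C ⊔ H) = H.relIndex C := by
    have h1 := Subgroup.relIndex_mul_relIndex (H ⊓ C) H (C ⊔ H) inf_le_left le_sup_right
    have h2 := Subgroup.relIndex_mul_relIndex (H ⊓ C) C (C ⊔ H) inf_le_right le_sup_left
    rw [Subgroup.inf_relIndex_left, ← Subgroup.relIndex_sup_left (K := C) (H := H)] at h1
    rw [Subgroup.inf_relIndex_right] at h2
    rw [← h2, mul_comm] at h1
    exact Nat.eq_of_mul_eq_mul_right (Nat.pos_of_ne_zero (Subgroup.index_ne_zero_of_finite
      (H := C.subgroupOf (C ⊔ H)))) h1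
  have hdvd : H.relIndex C ∣ H.index := by
    rw [← hK, ← Subgroup.relIndex_mul_index (le_sup_right : H ≤ C ⊔ H)]
    exact dvd_mul_right _ _
  obtain ⟨j, hj⟩ := hC.index (H.subgroupOf C)
  obtain ⟨i, hi⟩ := (hC.to_le hzC).index (H.subgroupOf (Subgroup.zpowers y))
  have hle : H.relIndex (Subgroup.zpowers y) ≤ H.relIndex C :=
    Subgroup.relIndex_le_of_le_right hzC (Subgroup.index_ne_zero_of_finite (H := H.subgroupOf C))
  rw [Subgroup.relIndex, Subgroup.relIndex, hi, hj] at hle
  have hij : i ≤ j := (Nat.pow_le_pow_iff_right hp.out.one_lt).mp hle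
  have hk : (H.subgroupOf (Subgroup.zpowers y)).index ∣ H.index := by
    rw [hi]
    exact (pow_dvd_pow p hij).trans (hj ▸ hdvd)
  have hmem := Subgroup.pow_index_mem (H.subgroupOf (Subgroup.zpowers y))
    ⟨y, Subgroup.mem_zpowers y⟩
  obtain ⟨c, hc⟩ := hk
  rw [hc, pow_mul]
  exact H.pow_mem hmem c

theorem fitting_le {x : G} (hx : x ∈ Cfsg.fittingSubgroup G) (H : Subgroup G) :
    x ^ H.index ∈ H := by
  classical
  let ι := {p : ℕ // p ∈ (Nat.card G).primeFactors}
  haveI : ∀ i : ι, Fact i.1.Prime := fun i => ⟨Nat.prime_of_mem_primeFactors i.2⟩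
  let C : ι → Subgroup G := fun i => ((default : Sylow i.1 G) : Subgroup G).normalCore
  have hCp : ∀ i, IsPGroup i.1 (C i) := fun i =>
    (default : Sylow i.1 G).2.to_le (Subgroup.normalCore_le _)
  have hCN : ∀ i, (C i).Normal := fun i => Subgroup.normalCore_normal _
  have hcomm : Pairwise fun i j : ι => ∀ a b : G, a ∈ C i → b ∈ C j → Commute a b := by
    intro i j hij a b ha hb
    exact Subgroup.commute_of_normal_of_disjoint _ _ (hCN i) (hCN j)
      (IsPGroup.disjoint_of_ne i.1 j.1 (fun h => hij (Subtype.ext h)) _ _ (hCp i) (hCp j)) a b ha hb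
  have hE : Cfsg.fittingSubgroup G ≤ ⨆ i, C i := by
    refine sSup_le ?_
    rintro N ⟨hN, hnil⟩
    have h1 : ((⨆ i, C i).subgroupOf N).index = 1 := by
      by_contra hne
      obtain ⟨p, hp, hpd⟩ := Nat.exists_prime_and_dvd hne
      haveI : Fact p.Prime := ⟨hp⟩
      have hpG : p ∣ Nat.card G :=
        (hpd.trans (Subgroup.index_dvd_card _)).trans (Subgroup.card_subgroup_dvd_card N)
      let i : ι := ⟨p, Nat.mem_primeFactors.mpr ⟨hp, hpG, Nat.card_pos.ne'⟩⟩
      let Q : Sylow p N := default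
      haveI hQN : (Q : Subgroup N).Normal := by
        haveI := hnil
        infer_instance
      haveI := Q.characteristic_of_normal hQN
      haveI : ((Q : Subgroup N).map N.subtype).Normal := inferInstance
      have hle : (Q : Subgroup N) ≤ (⨆ i, C i).subgroupOf N := by
        intro q hq
        refine Subgroup.mem_subgroupOf.mpr (Subgroup.mem_iSup_of_mem i ?_)
        have : (Q : Subgroup N).map N.subtype ≤ C i :=
          Subgroup.normal_le_normalCore.mpr
            ((Q.2.map N.subtype).le_sylow_of_normal (default : Sylow p G))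
        exact this ⟨q, hq, rfl⟩
      exact Q.not_dvd_index (hpd.trans (Subgroup.index_dvd_of_le hle))
    intro z hz
    have : (⟨z, hz⟩ : N) ∈ (⨆ i, C i).subgroupOf N := by
      rw [Subgroup.index_eq_one.mp h1]; trivial
    exact this
  have hx' := hE hx
  rw [← Subgroup.noncommPiCoprod_range (hcomm := hcomm)] at hx'
  obtain ⟨v, rfl⟩ := hx'
  rw [← map_pow]
  rw [Subgroup.noncommPiCoprod_apply]
  refine H.noncommProd_mem _ fun i _ => ?_
  haveI := hCN i
  simpa using pow_index_mem_of_pGroup (C i) H (hCp i) (v i).2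

theorem mem_fitting {x : G} (h : ∀ H : Subgroup G, x ^ H.index ∈ H) :
    x ∈ Cfsg.fittingSubgroup G := by
  haveI : (Cfsg.fittingSubgroup G).Normal :=
    Subgroup.sSup_normal _ fun H hH => hH.1
  by_contra hx
  have hne : orderOf (x : G ⧸ Cfsg.fittingSubgroup G) ≠ 1 := by
    rw [ne_eq, orderOf_eq_one_iff, QuotientGroup.eq_one_iff]; exact hx
  obtain ⟨p, hp, hpd⟩ := Nat.exists_prime_and_dvd hne
  haveI : Fact p.Prime := ⟨hp⟩
  let P : Sylow p G := default
  set n := (P : Subgroup G).index with hn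
  have hy : Subgroup.normalClosure {x ^ n} ≤ (P : Subgroup G) := by
    rw [Subgroup.normalClosure, Subgroup.closure_le]
    intro z hz
    obtain ⟨y, hy, hc⟩ := Group.mem_conjugatesOfSet_iff.mp hz
    rw [Set.mem_singleton_iff] at hy
    subst hy
    obtain ⟨c, hc⟩ := isConj_iff.mp hc
    have h1 := h ((c⁻¹ • P : Sylow p G) : Subgroup G)
    have hidx : ((c⁻¹ • P : Sylow p G) : Subgroup G).index = n := by
      rw [hn, Sylow.coe_subgroup_smul]
      exact Subgroup.index_map_equiv _ (MulAut.conj c⁻¹)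
    rw [hidx, Sylow.coe_subgroup_smul, Subgroup.mem_pointwise_smul_iff_inv_smul_mem] at h1
    rw [← hc]
    have h2 : c * x ^ n * c⁻¹ ∈ (P : Subgroup G) := by
      simpa [-Sylow.coe_coe] using h1
    exact h2
  have hmem : x ^ n ∈ Cfsg.fittingSubgroup G :=
    Subgroup.mem_sSup_of_mem (s := Subgroup.normalClosure {x ^ n})
      (show Subgroup.normalClosure {x ^ n} ∈ {N : Subgroup G | N.Normal ∧ Group.IsNilpotent N} from
        ⟨inferInstance, (P.2.to_le hy).isNilpotent⟩)
      (Subgroup.subset_normalClosure (Set.mem_singleton _))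
  have : orderOf (x : G ⧸ Cfsg.fittingSubgroup G) ∣ n :=
    orderOf_dvd_of_pow_eq_one (by rw [← QuotientGroup.mk_pow, QuotientGroup.eq_one_iff]; exact hmem)
  exact P.not_dvd_index (hpd.trans this)

/-- Let G be a finite group. An element x lies in the Fitting subgroup F(G) if and only if, for every subgroup H of G, the power x^[G : H] lies in H. -/
theorem result {G : Type*} [Group G] [Finite G] (x : G) :
    x ∈ Cfsg.fittingSubgroup G ↔ ∀ H : Subgroup G, x ^ H.index ∈ H :=
  ⟨fun hx H => fitting_le hx H, mem_fitting⟩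

end Cfsg.Agent.S4263
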