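import Cfsg.Statements.S4264
import Cfsg.Agent.S4200
import Cfsg.Agent.S4201
import Cfsg.Agent.S4198
import Cfsg.Agent.Perm.OnePointMeet
import Mathlib.GroupTheory.GroupAction.Blocks
import Mathlib.GroupTheory.GroupAction.Primitive
import Mathlib.GroupTheory.GroupAction.Jordan
import Mathlib.Data.Nat.Choose.Bounds

set_option autoImplicit false
set_option linter.style.haveILetI false
open Cfsg
open scoped Pointwise

namespace Cfsg.Agent.S4264

open Equiv MulAction Equiv.Perm

theorem k_of_injective {H : Type*} [Group H] {P : Type*} [Group P] (φ : H →* P)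
    (hφ : Function.Injective φ) : Nat.card (ConjClasses H) = Nat.card (ConjClasses φ.range) := by
  let e := MonoidHom.ofInjective hφ
  refine Nat.card_eq_of_bijective (ConjClasses.map e.toMonoidHom)
    ⟨?_, ConjClasses.map_surjective e.surjective⟩
  rintro ⟨a⟩ ⟨b⟩ h
  have h' := ConjClasses.mk_eq_mk_iff_isConj.1 h
  have := MonoidHom.map_isConj e.symm.toMonoidHom h'
  exact ConjClasses.mk_eq_mk_iff_isConj.2 (by simpa using this)

theorem k_ker_range {H : Type*} [Group H] [Finite H] {P : Type*} [Group P] (φ : H →* P) :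
    Nat.card (ConjClasses H) ≤ Nat.card (ConjClasses φ.ker) * Nat.card (ConjClasses φ.range) := by
  refine (Cfsg.Agent.S4201.result φ.ker).trans (le_of_eq ?_)
  congr 1
  let e := QuotientGroup.quotientKerEquivRange φ
  rw [k_of_injective ((φ.range).subtype.comp e.toMonoidHom)
    (Subtype.val_injective.comp e.injective)]
  have : ((φ.range).subtype.comp e.toMonoidHom).range = φ.range := by
    ext x
    refine ⟨?_, fun hx => ?_⟩
    · rintro ⟨a, rfl⟩
      exact (e a).2
    · obtain ⟨a, ha⟩ := e.surjective ⟨x, hx⟩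
      exact ⟨a, congrArg Subtype.val ha⟩
  rw [this]

/-- The bound, for permutation groups of degree `n`. -/
def Bound (n : ℕ) : Prop :=
  ∀ (Ω : Type) [Fintype Ω], Fintype.card Ω = n → ∀ G : Subgroup (Perm Ω),
    Nat.card (ConjClasses G) * 5 ≤ 5 ^ n

theorem bound_hom {m : ℕ} (hm : Bound m) {H : Type*} [Group H] {Δ : Type} [Fintype Δ]
    (hc : Fintype.card Δ = m) (φ : H →* Perm Δ) :
    Nat.card (ConjClasses φ.range) * 5 ≤ 5 ^ m := hm Δ hc φ.range

/-- Invariant partitions into several parts. -/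
theorem bound_inv (n : ℕ) (ih : ∀ m < n, 1 ≤ m → Bound m) :
    ∀ (r k : ℕ) (Ω : Type) [Fintype Ω], Fintype.card Ω = k → k ≤ n →
    ∀ (H : Type) [Group H] [Finite H] (φ : H →* Perm Ω), Function.Injective φ →
    ∀ (ι : Type) [Fintype ι], Fintype.card ι = r → ∀ f : Ω → ι, Function.Surjective f →
    (∀ h x, f (φ h x) = f x) → (2 ≤ r ∨ k < n) →
    Nat.card (ConjClasses H) * 5 ^ r ≤ 5 ^ k := by
  classical
  intro r
  induction r with
  | zero =>
    intro k Ω _ hk _ H _ _ φ hφ ι _ hι f _ _ _
    haveI : IsEmpty ι := Fintype.card_eq_zero_iff.1 hι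
    haveI : IsEmpty Ω := Function.isEmpty f
    haveI : Subsingleton H := hφ.subsingleton
    haveI : Subsingleton (ConjClasses H) := Quot.Subsingleton
    simp [Nat.card_unique, ← hk]
  | succ r IH =>
    intro k Ω _ hk hkn H _ _ φ hφ ι _ hι f hf hinv hside
    rcases Nat.eq_zero_or_pos r with rfl | hr
    · have hlt : k < n := by omega
      have hpos : 1 ≤ k := by
        obtain ⟨i⟩ : Nonempty ι := Fintype.card_pos_iff.1 (by omega)
        obtain ⟨x, -⟩ := hf i
        rw [← hk]; exact Fintype.card_pos_iff.2 ⟨x⟩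
      rw [k_of_injective φ hφ, pow_one]
      exact bound_hom (ih k hlt hpos) hk φ
    obtain ⟨i⟩ : Nonempty ι := Fintype.card_pos_iff.1 (by omega)
    obtain ⟨j, hj⟩ : ∃ j, j ≠ i := Fintype.exists_ne_of_one_lt_card (by omega) i
    let Δ := {x : Ω // f x = i}
    let Δ' := {x : Ω // ¬ f x = i}
    let ρ : H →* Perm Δ :=
      { toFun := fun h => (φ h).subtypePerm (fun x => by rw [hinv])
        map_one' := Equiv.ext fun x => Subtype.ext (by simp)
        map_mul' := fun a b => Equiv.ext fun x => Subtype.ext (by simp) }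
    let σ : ρ.ker →* Perm Δ' :=
      { toFun := fun h => (φ h.1).subtypePerm (fun x => by rw [hinv])
        map_one' := Equiv.ext fun x => Subtype.ext (by simp)
        map_mul' := fun a b => Equiv.ext fun x => Subtype.ext (by simp) }
    have hσ : Function.Injective σ := by
      intro a b hab
      apply Subtype.ext
      apply hφ
      ext x
      by_cases hx : f x = i
      · have ha := congrArg (fun p : Perm Δ => (p ⟨x, hx⟩).1) (MonoidHom.mem_ker.1 a.2)
        have hb := congrArg (fun p : Perm Δ => (p ⟨x, hx⟩).1) (MonoidHom.mem_ker.1 b.2)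
        exact (show φ a.1 x = x from ha).trans (show φ b.1 x = x from hb).symm
      · exact congrArg (fun p : Perm Δ' => (p ⟨x, hx⟩).1) hab
    have hcards : Fintype.card Δ + Fintype.card Δ' = k := by
      rw [← hk, Fintype.card_subtype_compl]
      exact Nat.add_sub_cancel' (Fintype.card_subtype_le _)
    have hΔ : 1 ≤ Fintype.card Δ := by
      obtain ⟨x, hx⟩ := hf i
      exact Fintype.card_pos_iff.2 ⟨⟨x, hx⟩⟩
    have hΔ' : 1 ≤ Fintype.card Δ' := by
      obtain ⟨x, hx⟩ := hf j
      exact Fintype.card_pos_iff.2 ⟨⟨x, by rw [hx]; exact hj⟩⟩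
    have h1 := bound_hom (ih (Fintype.card Δ) (by omega) hΔ) rfl ρ
    let ι' := {a : ι // ¬ a = i}
    have h2 := IH (Fintype.card Δ') Δ' rfl (by omega) ρ.ker σ hσ ι'
      (by rw [Fintype.card_subtype_compl, Fintype.card_subtype_eq, hι]; omega)
      (fun x => ⟨f x.1, x.2⟩)
      (fun a => by obtain ⟨x, hx⟩ := hf a.1; exact ⟨⟨x, by rw [hx]; exact a.2⟩, Subtype.ext hx⟩)
      (fun h x => Subtype.ext (hinv h.1 x.1)) (Or.inr (by omega))
    calc Nat.card (ConjClasses H) * 5 ^ (r + 1)
        ≤ Nat.card (ConjClasses ρ.ker) * Nat.card (ConjClasses ρ.range) * 5 ^ (r + 1) :=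
          Nat.mul_le_mul_right _ (k_ker_range ρ)
      _ = (Nat.card (ConjClasses ρ.ker) * 5 ^ r) * (Nat.card (ConjClasses ρ.range) * 5) := by ring
      _ ≤ 5 ^ Fintype.card Δ' * 5 ^ Fintype.card Δ := Nat.mul_le_mul h2 h1
      _ = 5 ^ k := by rw [← pow_add]; congr 1; omega

/-- A set of at most half the points with trivial pointwise stabiliser. -/
theorem exists_small_base {α : Type*} [Fintype α] [DecidableEq α] (H : Subgroup (Perm α))
    (hprim : MulAction.IsPreprimitive H α) (hA : ¬ alternatingGroup α ≤ H) :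
    ∃ D : Finset α, 2 * D.card ≤ Fintype.card α ∧
      ∀ g ∈ H, (∀ x ∈ D, g x = x) → g = 1 := by
  classical
  let S : Finset (Finset α) := Finset.univ.filter fun D => ∀ g ∈ H, (∀ x ∈ D, g x = x) → g = 1
  have huniv : Finset.univ ∈ S := by
    simp only [S, Finset.mem_filter, Finset.mem_univ, true_and]
    exact fun g _ hg => Equiv.ext fun x => hg x trivial
  obtain ⟨D, hDS, hmin⟩ := Finset.exists_min_image S Finset.card ⟨_, huniv⟩
  simp only [S, Finset.mem_filter, Finset.mem_univ, true_and] at hDS hmin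
  refine ⟨D, ?_, hDS⟩
  by_contra hlt
  have hcompl : ¬ ∀ g ∈ H, (∀ x ∈ Dᶜ, g x = x) → g = 1 := fun hall => by
    have := hmin _ hall
    rw [Finset.card_compl] at this
    have := D.card_le_univ
    omega
  push Not at hcompl
  obtain ⟨h, hhH, hhfix, hh1⟩ := hcompl
  obtain ⟨d, hd, hhd⟩ : ∃ d ∈ D, h d ≠ d := by
    by_contra hno
    push Not at hno
    exact hh1 (Equiv.ext fun x => if hx : x ∈ D then hno x hx else
      hhfix x (Finset.mem_compl.2 hx))
  have her : ¬ ∀ g ∈ H, (∀ x ∈ D.erase d, g x = x) → g = 1 := fun hall => by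
    have := hmin _ hall
    rw [Finset.card_erase_of_mem hd] at this
    have := Finset.card_pos.2 ⟨d, hd⟩
    omega
  push Not at her
  obtain ⟨g, hgH, hgfix, hg1⟩ := her
  have hgd : g d ≠ d := fun e => hg1 (hDS g hgH fun x hx => by
    by_cases hxd : x = d
    · rw [hxd, e]
    · exact hgfix x (Finset.mem_erase.2 ⟨hxd, hx⟩))
  refine hA (alternatingGroup_le_of_isPreprimitive_of_isThreeCycle_mem hprim
    (CfsgLib.OnePointMeet.isThreeCycle_commutator g h d hgd hhd fun x hgx hhx => ?_)
    (H.mul_mem (H.mul_mem (H.mul_mem hgH hhH) (H.inv_mem hgH)) (H.inv_mem hhH)))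
  by_contra hxd
  by_cases hx : x ∈ D
  · exact hgx (hgfix x (Finset.mem_erase.2 ⟨hxd, hx⟩))
  · exact hhx (hhfix x (Finset.mem_compl.2 hx))

theorem small_fact (n : ℕ) (h1 : 1 ≤ n) (h9 : n ≤ 9) : n.factorial * 5 ≤ 5 ^ n := by
  interval_cases n <;> decide

theorem arith (n d : ℕ) (h : 2 * d ≤ n) : 2 ^ n * 5 ^ d ≤ 5 ^ n := by
  obtain ⟨e, rfl⟩ : ∃ e, n = 2 * d + e := ⟨n - 2 * d, by omega⟩
  calc 2 ^ (2 * d + e) * 5 ^ d = (4 * 5) ^ d * 2 ^ e := by rw [pow_add, pow_mul, mul_pow]; ring
    _ ≤ (5 * 5) ^ d * 5 ^ e :=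
        Nat.mul_le_mul (Nat.pow_le_pow_left (by norm_num) _) (Nat.pow_le_pow_left (by norm_num) _)
    _ = 5 ^ (2 * d + e) := by rw [pow_add, pow_mul]; norm_num

theorem bound_big {Ω : Type} [Fintype Ω] [DecidableEq Ω] (n : ℕ) (hn : Fintype.card Ω = n)
    (h5 : 5 ≤ n) (G : Subgroup (Perm Ω)) (hA : alternatingGroup Ω ≤ G) :
    Nat.card (ConjClasses G) * 5 ≤ 5 ^ n := by
  have h1 := (Cfsg.Agent.S4200.result G).1
  haveI : Nontrivial Ω := Fintype.one_lt_card_iff_nontrivial.1 (by omega)
  have hidx : G.index ≤ 2 := by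
    have := Subgroup.index_antitone hA
    rw [alternatingGroup.index_eq_two] at this
    exact this
  let e : Perm Ω ≃* Perm (Fin n) := (Fintype.equivFinOfCardEq hn).permCongrHom
  have hk : Nat.card (ConjClasses (Perm Ω)) ≤ 2 ^ (n - 2) := by
    refine le_trans ?_ (Cfsg.Agent.S4198.conjClasses_le n h5)
    exact Nat.card_le_card_of_surjective (ConjClasses.map e.symm.toMonoidHom)
      (ConjClasses.map_surjective e.symm.surjective)
  have hp : 2 ^ (n - 2) * 10 ≤ 5 ^ n := by
    obtain ⟨m, rfl⟩ : ∃ m, n = m + 2 := ⟨n - 2, by omega⟩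
    rw [Nat.add_sub_cancel, pow_add]
    exact Nat.mul_le_mul (Nat.pow_le_pow_left (by norm_num) _) (by norm_num)
  have := Nat.mul_le_mul hidx hk
  omega

theorem bound_all : ∀ n, 1 ≤ n → Bound n := by
  classical
  intro n
  induction n using Nat.strong_induction_on with
  | _ n ih =>
  intro hn Ω _ hc G
  have hinj : Function.Injective G.subtype := Subtype.val_injective
  by_cases h9 : n ≤ 9
  · refine le_trans (Nat.mul_le_mul_right 5 ?_) (small_fact n hn h9)
    calc Nat.card (ConjClasses G) ≤ Nat.card G :=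
          Nat.card_le_card_of_surjective _ ConjClasses.mk_surjective
      _ ≤ Nat.card (Perm Ω) := Subgroup.card_le_card_group G
      _ = n.factorial := by rw [Nat.card_perm, Nat.card_eq_fintype_card, hc]
  obtain ⟨x0⟩ : Nonempty Ω := Fintype.card_pos_iff.1 (by omega)
  have five : 5 ≤ 5 ^ 2 := by norm_num
  by_cases htr : MulAction.IsPretransitive G Ω
  swap
  · obtain ⟨y, hy⟩ : ∃ y, y ∉ MulAction.orbit G x0 := by
      by_contra hall
      push Not at hall
      exact htr (MulAction.isPretransitive_iff_orbit_eq_univ x0 |>.2 (Set.eq_univ_of_forall hall))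
    have key := bound_inv n (fun m hm hm1 => ih m hm hm1) 2 n Ω hc le_rfl G G.subtype hinj Bool
      (by simp) (fun x => decide (x ∈ MulAction.orbit G x0))
      (fun b => by
        cases b
        · exact ⟨y, by simp [hy]⟩
        · exact ⟨x0, by simp⟩)
      (fun h x => by
        simp only [decide_eq_decide]
        show h • x ∈ MulAction.orbit G x0 ↔ _
        rw [← MulAction.orbit_eq_iff, ← MulAction.orbit_eq_iff, MulAction.orbit_smul])
      (Or.inl le_rfl)
    refine le_trans (Nat.mul_le_mul_left _ five) key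
  by_cases hpr : MulAction.IsPreprimitive G Ω
  · by_cases hA : alternatingGroup Ω ≤ G
    · exact bound_big n hc (by omega) G hA
    obtain ⟨D, hD, hbase⟩ := exists_small_base G hpr hA
    rw [hc] at hD
    have hDne : D.Nonempty := by
      rw [Finset.nonempty_iff_ne_empty]
      rintro rfl
      obtain ⟨y, hy⟩ := Fintype.exists_ne_of_one_lt_card (show 1 < Fintype.card Ω by omega) x0
      obtain ⟨g, hg⟩ := MulAction.exists_smul_eq G x0 y
      have : (g : Perm Ω) = 1 := hbase g g.2 (by simp)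
      have h1 : (g : Perm Ω) x0 = y := hg
      rw [this] at h1
      exact hy h1.symm
    let St := MulAction.stabilizer G D
    have hSt : ∀ (g : St) (x : Ω), x ∈ D ↔ (g.1 : Perm Ω) x ∈ D := by
      intro g x
      have hg : g.1 • D = D := g.2
      conv_rhs => rw [← hg]
      exact (Finset.smul_mem_smul_finset_iff g.1).symm
    let τ : St →* Perm {x // x ∈ D} :=
      { toFun := fun g => (g.1 : Perm Ω).subtypePerm (fun x => (hSt g x).symm)
        map_one' := Equiv.ext fun x => Subtype.ext (by simp)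
        map_mul' := fun a b => Equiv.ext fun x => Subtype.ext rfl }
    have hτ : Function.Injective τ := by
      rw [injective_iff_map_eq_one]
      intro g hg
      apply Subtype.ext
      apply Subtype.ext
      exact hbase g.1 g.1.2 fun x hx => by
        exact congrArg (fun p : Perm {x // x ∈ D} => (p ⟨x, hx⟩).1) hg
    have hkSt : Nat.card (ConjClasses St) * 5 ≤ 5 ^ D.card := by
      rw [k_of_injective τ hτ]
      exact bound_hom (ih D.card (by omega) (Finset.card_pos.2 hDne)) (Fintype.card_coe D) τ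
    have hidx : St.index ≤ 2 ^ n := by
      rw [MulAction.index_stabilizer, ← hc]
      calc Set.ncard (MulAction.orbit G D) ≤ Set.ncard (Set.univ : Set (Finset Ω)) :=
            Set.ncard_le_ncard (Set.subset_univ _)
        _ = 2 ^ Fintype.card Ω := by rw [Set.ncard_univ, Nat.card_eq_fintype_card, Fintype.card_finset]
    calc Nat.card (ConjClasses G) * 5
        ≤ St.index * Nat.card (ConjClasses St) * 5 :=
          Nat.mul_le_mul_right _ (Cfsg.Agent.S4200.result St).2.1
      _ = St.index * (Nat.card (ConjClasses St) * 5) := mul_assoc _ _ _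
      _ ≤ 2 ^ n * 5 ^ D.card := Nat.mul_le_mul hidx hkSt
      _ ≤ 5 ^ n := arith n D.card hD
  obtain ⟨B, hB, hBnt⟩ : ∃ B : Set Ω, MulAction.IsBlock G B ∧ ¬ MulAction.IsTrivialBlock B := by
    by_contra hno
    push Not at hno
    exact hpr { isTrivialBlock_of_isBlock := fun {B} hB => hno B hB }
  simp only [MulAction.IsTrivialBlock, not_or] at hBnt
  obtain ⟨b1, hb1, b2, hb2, hb12⟩ := Set.not_subsingleton_iff.1 hBnt.1
  let ι := MulAction.orbit G B
  haveI : Fintype ι := Fintype.ofFinite _
  let g0 : Ω → G := fun x => (MulAction.exists_smul_eq G b1 x).choose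
  have hg0 : ∀ x, g0 x • b1 = x := fun x => (MulAction.exists_smul_eq G b1 x).choose_spec
  let f : Ω → ι := fun x => ⟨g0 x • B, g0 x, rfl⟩
  have hfB : ∀ (g : G) x, x ∈ g • B → g0 x • B = g • B := by
    intro g x hx
    by_contra hne
    exact Set.disjoint_left.1 (hB hne) ⟨b1, hb1, hg0 x⟩ hx
  have hfequiv : ∀ (k : G) x, f (k • x) = k • f x := by
    intro k x
    apply Subtype.ext
    show g0 (k • x) • B = k • g0 x • B
    rw [← mul_smul]
    refine hfB _ _ ⟨b1, hb1, ?_⟩
    show (k * g0 x) • b1 = _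
    rw [mul_smul, hg0]
  have hfsurj : Function.Surjective f := by
    rintro ⟨-, g, rfl⟩
    exact ⟨g • b1, Subtype.ext (hfB g _ ⟨b1, hb1, rfl⟩)⟩
  have hlt : Fintype.card ι < n := by
    rw [← hc]
    refine lt_of_le_of_ne (Fintype.card_le_of_surjective f hfsurj) fun he => hb12 ?_
    have hbij : Function.Bijective f := (Fintype.bijective_iff_surjective_and_card f).2 ⟨hfsurj, he.symm⟩
    refine hbij.1 (Subtype.ext ?_)
    show g0 b1 • B = g0 b2 • B
    rw [hfB 1 b1 (by simpa using hb1), hfB 1 b2 (by simpa using hb2)]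
  have h2 : 2 ≤ Fintype.card ι := by
    obtain ⟨y, hy⟩ := (Set.ne_univ_iff_exists_notMem B).1 hBnt.2
    refine Fintype.one_lt_card_iff.2 ⟨f b1, f y, fun he => hy ?_⟩
    have e : g0 b1 • B = g0 y • B := congrArg Subtype.val he
    have hmem : y ∈ g0 b1 • B := by rw [e]; exact ⟨b1, hb1, hg0 y⟩
    rwa [hfB 1 b1 (by simpa using hb1), one_smul] at hmem
  let π := MulAction.toPermHom G ι
  have hker := bound_inv n (fun m hm hm1 => ih m hm hm1) (Fintype.card ι) n Ω hc le_rfl π.ker
    (G.subtype.comp π.ker.subtype) (hinj.comp Subtype.val_injective) ι rfl f hfsurj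
    (fun h x => by
      show f (h.1 • x) = f x
      rw [hfequiv]
      exact congrArg (fun p : Perm ι => p (f x)) (MonoidHom.mem_ker.1 h.2))
    (Or.inl h2)
  have him := bound_hom (ih (Fintype.card ι) hlt (by omega)) rfl π
  calc Nat.card (ConjClasses G) * 5
      ≤ Nat.card (ConjClasses π.ker) * Nat.card (ConjClasses π.range) * 5 :=
        Nat.mul_le_mul_right _ (k_ker_range π)
    _ = Nat.card (ConjClasses π.ker) * (Nat.card (ConjClasses π.range) * 5) := mul_assoc _ _ _
    _ ≤ Nat.card (ConjClasses π.ker) * 5 ^ Fintype.card ι := Nat.mul_le_mul_left _ him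
    _ ≤ 5 ^ n := hker

/-- Let G be a subgroup of the symmetric group of degree d ≥ 1. Then G has at most 5^{d−1} conjugacy classes. -/
theorem result (d : ℕ) (hd : 1 ≤ d) (G : Subgroup (Equiv.Perm (Fin d))) : Nat.card (ConjClasses ↥G) ≤ 5 ^ (d - 1) := by
  have h := bound_all d hd (Fin d) (Fintype.card_fin d) G
  obtain ⟨m, rfl⟩ : ∃ m, d = m + 1 := ⟨d - 1, by omega⟩
  rw [pow_succ] at h
  simpa using Nat.le_of_mul_le_mul_right h (by norm_num)

end Cfsg.Agent.S4264
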