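import Cfsg.Statements.S4265
import Cfsg.Agent.FitMod.Main
import Cfsg.Agent.FitMod.Averaging
import Mathlib.LinearAlgebra.Matrix.ToLin
import Mathlib.Analysis.Complex.Polynomial.Basic

set_option autoImplicit false
open Cfsg

namespace Cfsg.Agent.S4265

/-- Let G be a finite solvable subgroup of GL_r(ℂ), r ≥ 1, with Fitting subgroup F(G) normal in G. Then for every subgroup H of G the quotient H/(H ∩ F(G)) has at most 3^{r−1} conjugacy classes. -/
theorem result (r : ℕ) (hr : 1 ≤ r) (G : Subgroup (GL (Fin r) ℂ)) [Finite ↥G] (hsolv : Group.IsSolvable ↥G) [hF : (Cfsg.fittingSubgroup ↥G).Normal] (H : Subgroup ↥G) : Nat.card (ConjClasses (↥H ⧸ (Cfsg.fittingSubgroup ↥G).subgroupOf H)) ≤ 3 ^ (r - 1) := by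
  let σ : ↥G →* Module.End ℂ (Fin r → ℂ) :=
    (Matrix.toLinAlgEquiv' (R := ℂ) (n := Fin r)).toRingEquiv.toMonoidHom.comp
      ((Units.coeHom (Matrix (Fin r) (Fin r) ℂ)).comp G.subtype)
  have hσ : Function.Injective σ := fun a b h => Subtype.ext (Units.ext
    ((Matrix.toLinAlgEquiv' (R := ℂ) (n := Fin r)).injective h))
  have hcr := CfsgLib.FitMod.isCR_of_card_ne_zero σ (Nat.cast_ne_zero.2 Nat.card_pos.ne')
  have h : CfsgLib.FitMod.FB ↥G r :=
    CfsgLib.FitMod.cr_fit (k := ℂ) (r + 1) r (Nat.lt_succ_self r) ↥G (Fin r → ℂ) σ hσ hsolv hcr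
      (Module.finrank_fin_fun ℂ)
  let f : ↥H →* ↥G ⧸ Cfsg.fittingSubgroup ↥G := (QuotientGroup.mk' _).comp H.subtype
  refine (h.of_injective (QuotientGroup.lift ((Cfsg.fittingSubgroup ↥G).subgroupOf H) f
    fun x hx => (QuotientGroup.eq_one_iff _).2 hx) ?_).k
  refine (injective_iff_map_eq_one _).2 fun y hy => ?_
  obtain ⟨x, rfl⟩ := QuotientGroup.mk'_surjective _ y
  exact (QuotientGroup.eq_one_iff x).2 ((QuotientGroup.eq_one_iff (x : ↥G)).1 hy)

end Cfsg.Agent.S4265
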