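import Cfsg.Statements.S4269
import Cfsg.Agent.Solvable.Basics

set_option autoImplicit false
open Cfsg
open scoped commutatorElement

namespace Cfsg.Agent.S4269

/-- Let G be a finite group, V an abelian normal subgroup and H a subgroup with HV = G. Then H is pronormal in G (H and gHg⁻¹ are conjugate inside the subgroup they generate, for every g) if and only if every H-invariant subgroup U of V satisfies U = N_U(H)·[H, U], that is, U is the join of U ∩ N_G(H) and the commutator subgroup [H, U]. -/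
theorem result {G : Type*} [Group G] [Finite G]
    (V : Subgroup G) [V.Normal] (hV : IsMulCommutative ↥V) (H : Subgroup G) (hHV : H ⊔ V = ⊤) :
    Cfsg.IsPronormal H ↔
      ∀ U : Subgroup G, U ≤ V → (∀ h ∈ H, U.map (MulAut.conj h).toMonoidHom = U) →
        U = (U ⊓ Subgroup.normalizer (H : Set G)) ⊔ ⁅H, U⁆ := by
  have hVc : ∀ a ∈ V, ∀ b ∈ V, a * b = b * a := fun a ha b hb =>
    congrArg Subtype.val (hV.is_comm.comm ⟨a, ha⟩ ⟨b, hb⟩)
  have hconj : ∀ (K : Subgroup G) (a b : G),
      (K.map (MulAut.conj b).toMonoidHom).map (MulAut.conj a).toMonoidHom =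
        K.map (MulAut.conj (a * b)).toMonoidHom := fun K a b => by
    rw [Subgroup.map_map]
    congr 1
    ext y
    show a * (b * y * b⁻¹) * a⁻¹ = a * b * y * (a * b)⁻¹
    group
  have hnormal : ∀ (K : Subgroup G) (a : G),
      a ∈ Subgroup.normalizer (K : Set G) ↔ K.map (MulAut.conj a).toMonoidHom = K := by
    intro K a
    constructor
    · intro ha
      ext y
      constructor
      · rintro ⟨k, hk, rfl⟩
        exact (Subgroup.mem_normalizer_iff.mp ha k).mp hk
      · intro hy
        refine ⟨a⁻¹ * y * a, (Subgroup.mem_normalizer_iff''.mp ha y).mp hy, ?_⟩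
        show a * (a⁻¹ * y * a) * a⁻¹ = y
        group
    · intro e
      refine Subgroup.mem_normalizer_iff.mpr fun y => ⟨fun hy => e ▸ ⟨y, hy, rfl⟩, fun hy => ?_⟩
      obtain ⟨k, hk, hke⟩ := (e.symm ▸ hy : a * y * a⁻¹ ∈ K.map (MulAut.conj a).toMonoidHom)
      have hke' : a * k * a⁻¹ = a * y * a⁻¹ := hke
      exact (mul_left_cancel (mul_right_cancel hke')) ▸ hk
  constructor
  · intro hpro U hUV hinv
    have hHU : H ≤ Subgroup.normalizer (U : Set G) := fun h hh => (hnormal U h).mpr (hinv h hh)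
    have hcU : ⁅H, U⁆ ≤ U := by
      rw [Subgroup.commutator_le]
      intro h hh u hu
      rw [commutatorElement_def]
      exact mul_mem ((Subgroup.mem_normalizer_iff.mp (hHU hh) u).mp hu) (inv_mem hu)
    refine le_antisymm (fun u hu => ?_) (sup_le inf_le_left hcU)
    obtain ⟨x, hx, hxe⟩ := hpro u
    have hHn : H ≤ Subgroup.normalizer ((⁅H, U⁆ : Subgroup G) : Set G) := by
      intro h hh
      refine (hnormal _ h).mpr ?_
      rw [Subgroup.map_commutator, hinv h hh, (hnormal H h).mp (Subgroup.le_normalizer hh)]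
    have hsub : H ⊔ H.map (MulAut.conj u).toMonoidHom ≤ H ⊔ ⁅H, U⁆ := by
      refine sup_le le_sup_left ?_
      rintro _ ⟨h, hh, rfl⟩
      show u * h * u⁻¹ ∈ _
      rw [show u * h * u⁻¹ = ⁅h, u⁆⁻¹ * h by rw [commutatorElement_def]; group]
      exact mul_mem (Subgroup.mem_sup_right (inv_mem (Subgroup.commutator_mem_commutator hh hu)))
        (Subgroup.mem_sup_left hh)
    have hx' : x ∈ H ⊔ ⁅H, U⁆ := hsub hx
    obtain ⟨h, hh, c, hc, rfl⟩ := (CfsgLib.Solvable.mem_sup_of_le_normalizer hHn).mp hx'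
    set c' := h * c * h⁻¹ with hc'
    have hc'm : c' ∈ ⁅H, U⁆ := (Subgroup.mem_normalizer_iff.mp (hHn hh) c).mp hc
    have e : H.map (MulAut.conj u).toMonoidHom = H.map (MulAut.conj c').toMonoidHom := by
      rw [hxe, show h * c = c' * h by rw [hc', inv_mul_cancel_right], ← hconj,
        (hnormal H h).mp (Subgroup.le_normalizer hh)]
    have hn : c'⁻¹ * u ∈ Subgroup.normalizer (H : Set G) := by
      refine (hnormal H _).mpr ?_
      rw [← hconj, e, hconj, inv_mul_cancel]
      ext y; simp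
    rw [show u = c' * (c'⁻¹ * u) by group]
    exact mul_mem (Subgroup.mem_sup_right hc'm)
      (Subgroup.mem_sup_left ⟨U.mul_mem (U.inv_mem (hcU hc'm)) hu, hn⟩)
  · intro hU g
    have hg : g ∈ V ⊔ H := by rw [sup_comm, hHV]; exact Subgroup.mem_top g
    obtain ⟨v, hv, h, hh, rfl⟩ := Subgroup.mem_sup_of_normal_left.mp hg
    rw [← hconj, (hnormal H h).mp (Subgroup.le_normalizer hh)]
    set J := H ⊔ H.map (MulAut.conj v).toMonoidHom
    set U := Subgroup.closure {w : G | ∃ k ∈ H, k * v * k⁻¹ = w} with hUdef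
    have hUV : U ≤ V := (Subgroup.closure_le _).mpr (by
      rintro _ ⟨k, _, rfl⟩; exact Subgroup.Normal.conj_mem inferInstance v hv k)
    have hvU : v ∈ U := Subgroup.subset_closure ⟨1, one_mem _, by group⟩
    have hinv : ∀ k ∈ H, U.map (MulAut.conj k).toMonoidHom = U := by
      have hle : ∀ k ∈ H, U.map (MulAut.conj k).toMonoidHom ≤ U := by
        intro k hk
        rw [hUdef, MonoidHom.map_closure, Subgroup.closure_le]
        rintro _ ⟨_, ⟨l, hl, rfl⟩, rfl⟩
        refine Subgroup.subset_closure ⟨k * l, mul_mem hk hl, ?_⟩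
        show k * l * v * (k * l)⁻¹ = k * (l * v * l⁻¹) * k⁻¹
        group
      intro k hk
      refine le_antisymm (hle k hk) fun y hy => ⟨k⁻¹ * y * k, ?_, ?_⟩
      · have := hle k⁻¹ (inv_mem hk) ⟨y, hy, rfl⟩
        simpa using this
      · show k * (k⁻¹ * y * k) * k⁻¹ = y
        group
    have hJ : ∀ k ∈ H, ∀ w ∈ U, k * w * k⁻¹ * w⁻¹ ∈ J := by
      intro k hk w hw
      revert k
      induction hw using Subgroup.closure_induction with
      | mem w hw =>
        intro k hk
        obtain ⟨l, hl, rfl⟩ := hw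
        have h1 : l⁻¹ * k * l ∈ H := mul_mem (mul_mem (inv_mem hl) hk) hl
        have h2 : v * (l⁻¹ * k * l)⁻¹ * v⁻¹ ∈ J :=
          Subgroup.mem_sup_right ⟨_, inv_mem h1, rfl⟩
        have hlJ : l ∈ J := Subgroup.mem_sup_left hl
        rw [show k * (l * v * l⁻¹) * k⁻¹ * (l * v * l⁻¹)⁻¹ =
          l * ((l⁻¹ * k * l) * (v * (l⁻¹ * k * l)⁻¹ * v⁻¹)) * l⁻¹ by group]
        exact mul_mem (mul_mem hlJ (mul_mem (Subgroup.mem_sup_left h1) h2)) (inv_mem hlJ)
      | one => intro k _; simp
      | mul a b ha hb iha ihb =>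
        intro k hk
        have e := hVc (k * b * k⁻¹ * b⁻¹) (mul_mem
          (Subgroup.Normal.conj_mem inferInstance b (hUV hb) k) (inv_mem (hUV hb))) a⁻¹
          (inv_mem (hUV ha))
        rw [show k * (a * b) * k⁻¹ * (a * b)⁻¹ =
          k * a * k⁻¹ * (k * b * k⁻¹ * b⁻¹ * a⁻¹) by group, e, ← mul_assoc]
        exact mul_mem (iha k hk) (ihb k hk)
      | inv a ha iha =>
        intro k hk
        have e := hVc (k * a⁻¹ * k⁻¹) (Subgroup.Normal.conj_mem inferInstance _ (inv_mem (hUV ha)) k)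
          a (hUV ha)
        rw [inv_inv, e, show a * (k * a⁻¹ * k⁻¹) = (k * a * k⁻¹ * a⁻¹)⁻¹ by group]
        exact inv_mem (iha k hk)
    have hcJ : ⁅H, U⁆ ≤ J := by
      rw [Subgroup.commutator_le]
      intro k hk w hw
      rw [commutatorElement_def]
      exact hJ k hk w hw
    have hcn : (U ⊓ Subgroup.normalizer (H : Set G)) ≤
        Subgroup.normalizer ((⁅H, U⁆ : Subgroup G) : Set G) := by
      intro n hn
      have hcV : ⁅H, U⁆ ≤ V := by
        rw [Subgroup.commutator_le]
        intro k _ w hw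
        rw [commutatorElement_def]
        exact mul_mem (Subgroup.Normal.conj_mem inferInstance w (hUV hw) k) (inv_mem (hUV hw))
      refine Subgroup.centralizer_le_normalizer _ (Subgroup.mem_centralizer_iff.mpr fun y hy => ?_)
      exact hVc y (hcV hy) n (hUV hn.1)
    obtain ⟨n, hn, c, hc, rfl⟩ := (CfsgLib.Solvable.mem_sup_of_le_normalizer hcn).mp
      (hU U hUV hinv ▸ hvU)
    refine ⟨c, hcJ hc, ?_⟩
    have hcU : c ∈ U := by
      have := U.mul_mem (U.inv_mem hn.1) hvU
      rwa [inv_mul_cancel_left] at this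
    rw [hVc n (hUV hn.1) c (hUV hcU), ← hconj, (hnormal H n).mp hn.2]

end Cfsg.Agent.S4269
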