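import Cfsg.Statements.S4271
import Cfsg.Agent.Pronormal.Extension
-- import your own Cfsg.Agent.* helpers here

set_option autoImplicit false
open Cfsg

namespace Cfsg.Agent.S4271

/-- Let p be a prime and G a finite group with a normal subgroup A such that every subgroup of A containing a Sylow p-subgroup of A is pronormal in A, and the Sylow p-subgroups of G/A are self-normalizing. Let T be a Sylow p-subgroup of A. Then every subgroup of G containing a Sylow p-subgroup of G is pronormal in G if and only if every subgroup of N_G(T)/T containing a Sylow p-subgroup of N_G(T)/T is pronormal in N_G(T)/T. (Pronormal: H and gHg⁻¹ are conjugate inside the subgroup they generate, for every g.) -/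
theorem result {G : Type*} [Group G] [Finite G] {p : ℕ} [Fact p.Prime]
    (A : Subgroup G) [A.Normal] (hA : (∀ K : Subgroup ↥A, (∃ P : Sylow p ↥A, (P : Subgroup ↥A) ≤ K) → Cfsg.IsPronormal K))
    (hQ : ∀ P : Sylow p (G ⧸ A), Subgroup.normalizer ((P : Subgroup (G ⧸ A)) : Set (G ⧸ A)) = P)
    (T : Subgroup G) (hT : ∃ P : Sylow p ↥A, (P : Subgroup ↥A).map A.subtype = T) [(T.subgroupOf (Subgroup.normalizer (T : Set G))).Normal] :
    (∀ K : Subgroup G, (∃ P : Sylow p G, (P : Subgroup G) ≤ K) → Cfsg.IsPronormal K) ↔ (∀ K : Subgroup (↥(Subgroup.normalizer (T : Set G)) ⧸ T.subgroupOf (Subgroup.normalizer (T : Set G))), (∃ P : Sylow p (↥(Subgroup.normalizer (T : Set G)) ⧸ T.subgroupOf (Subgroup.normalizer (T : Set G))), (P : Subgroup (↥(Subgroup.normalizer (T : Set G)) ⧸ T.subgroupOf (Subgroup.normalizer (T : Set G)))) ≤ K) → Cfsg.IsPronormal K) := by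
  have hself : ∀ X : Subgroup (G ⧸ A), (∃ P : Sylow p (G ⧸ A), (P : Subgroup (G ⧸ A)) ≤ X) →
      Subgroup.normalizer (X : Set (G ⧸ A)) = X := by
    rintro X ⟨P, hP⟩
    refine le_antisymm (fun x hx => ?_) Subgroup.le_normalizer
    have hxP : ((x • P : Sylow p (G ⧸ A)) : Subgroup (G ⧸ A)) ≤ X := by
      rw [Sylow.coe_subgroup_smul, Subgroup.pointwise_smul_def]
      rintro _ ⟨y, hy, rfl⟩
      exact (Subgroup.mem_normalizer_iff.mp hx y).mp (hP hy)
    obtain ⟨⟨k, hk⟩, hk'⟩ := MulAction.exists_smul_eq X (P.subtype hP) ((x • P).subtype hxP)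
    rw [Sylow.smul_subtype hP ⟨k, hk⟩] at hk'
    have hk2 : x • P = k • P := (Sylow.subtype_injective hk').symm
    have hn : k⁻¹ * x ∈ Subgroup.normalizer ((P : Subgroup (G ⧸ A)) : Set (G ⧸ A)) :=
      Sylow.smul_eq_iff_mem_normalizer.mp (by rw [mul_smul, hk2, inv_smul_smul])
    rw [hQ P] at hn
    simpa using X.mul_mem hk (hP hn)
  have hQ' : CfsgLib.Pronormal.OvergroupsPronormal p (G ⧸ A) := by
    rintro X ⟨P, hP⟩
    exact CfsgLib.Pronormal.isPronormal_of_normalizer_le P hP
      ((hQ P).le.trans (hP.trans Subgroup.le_normalizer))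
  refine (CfsgLib.Pronormal.overgroupsPronormal_iff A hA hQ' T hT).trans ⟨And.left, fun h => ⟨h, ?_⟩⟩
  rintro K ⟨P, hP⟩
  refine le_antisymm (Subgroup.le_normalizer_map _) ?_
  rw [hself _ ⟨P.mapSurjective (QuotientGroup.mk'_surjective A), by
    rw [Sylow.coe_mapSurjective]; exact Subgroup.map_mono hP⟩]
  exact Subgroup.map_mono Subgroup.le_normalizer

end Cfsg.Agent.S4271
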