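import Cfsg.Statements.S4274
import Cfsg.Agent.SmallSimple.SylowCheck
-- import your own Cfsg.Agent.* helpers here

set_option autoImplicit false
open Cfsg

namespace Cfsg.Agent.S4274

open Subgroup CfsgLib
open scoped Pointwise

/-- All divisors of `175560`. -/
def divs : List ℕ :=
  [1, 2, 4, 8].flatMap fun a => [1, 3].flatMap fun b => [1, 5].flatMap fun c => [1, 7].flatMap fun d =>
    [1, 11].flatMap fun e => [1, 19].map fun f => a * b * c * d * e * f

/-- The primes dividing `d` exactly once. -/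
def primes (d : ℕ) : List ℕ := [19, 11, 7, 5, 3, 2].filter fun p => d % p == 0 && d % (p * p) != 0

theorem table : (divs.filter fun d => d % 19 == 0 && d != 175560).all (fun d =>
    SylowCheck.search (divs.filter fun k => d % k == 0) d (primes d) []) = true := by
  decide +kernel

theorem mem_divs {k : ℕ} (h : k ∣ 175560) : k ∈ divs := by
  have h1 : ∀ p : ℕ, p.Prime → ∀ k : ℕ, k.gcd p = 1 ∨ k.gcd p = p := fun p hp k =>
    (Nat.dvd_prime hp).1 (Nat.gcd_dvd_right k p)
  have h2 : k.gcd 8 ∈ [1, 2, 4, 8] := by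
    obtain ⟨i, hi, he⟩ := (Nat.dvd_prime_pow Nat.prime_two).1 (show k.gcd 8 ∣ 2 ^ 3 from Nat.gcd_dvd_right k 8)
    interval_cases i <;> simp [he]
  have hk : k = k.gcd 8 * k.gcd 3 * k.gcd 5 * k.gcd 7 * k.gcd 11 * k.gcd 19 := by
    conv_lhs => rw [← Nat.gcd_eq_left h, show (175560 : ℕ) = 8 * 3 * 5 * 7 * 11 * 19 from rfl]
    rw [Nat.Coprime.gcd_mul _ (by norm_num), Nat.Coprime.gcd_mul _ (by norm_num),
      Nat.Coprime.gcd_mul _ (by norm_num), Nat.Coprime.gcd_mul _ (by norm_num),
      Nat.Coprime.gcd_mul _ (by norm_num)]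
  simp only [divs, List.mem_flatMap, List.mem_map]
  refine ⟨_, h2, k.gcd 3, ?_, k.gcd 5, ?_, k.gcd 7, ?_, k.gcd 11, ?_, k.gcd 19, ?_, hk.symm⟩
  · rcases h1 3 (by norm_num) k with h | h <;> simp [h]
  · rcases h1 5 (by norm_num) k with h | h <;> simp [h]
  · rcases h1 7 (by norm_num) k with h | h <;> simp [h]
  · rcases h1 11 (by norm_num) k with h | h <;> simp [h]
  · rcases h1 19 (by norm_num) k with h | h <;> simp [h]

/-- There is no non-abelian simple group of proper order dividing `175560` and divisible by `19`. -/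
theorem no_simple {X : Type*} [Group X] [Finite X] [IsSimpleGroup X] (hX : ¬ IsMulCommutative X)
    (hd : Nat.card X ∣ 175560) (h19 : 19 ∣ Nat.card X) (hne : Nat.card X ≠ 175560) : False := by
  have ht := table
  simp only [List.all_eq_true, List.mem_filter, Bool.and_eq_true, beq_iff_eq, bne_iff_ne] at ht
  refine SylowCheck.false_of_search hX (divs.filter fun k => Nat.card X % k == 0) ?_ (primes (Nat.card X)) []
    ?_ ?_ (by simp) (ht _ ⟨mem_divs hd, Nat.mod_eq_zero_of_dvd h19, hne⟩)
  · exact fun k hk => List.mem_filter.2 ⟨mem_divs (hk.trans hd), beq_iff_eq.2 (Nat.mod_eq_zero_of_dvd hk)⟩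
  · intro p hp
    simp only [primes, List.mem_filter, Bool.and_eq_true, beq_iff_eq, bne_iff_ne, List.mem_cons,
      List.not_mem_nil, or_false] at hp
    obtain ⟨hp, h1, h2⟩ := hp
    refine ⟨?_, Nat.dvd_of_mod_eq_zero h1, fun h => h2 (Nat.mod_eq_zero_of_dvd (by rwa [← sq]))⟩
    rcases hp with rfl | rfl | rfl | rfl | rfl | rfl <;> norm_num
  · rw [List.map_nil, List.append_nil]
    exact List.Nodup.filter _ (by decide)

/-- A group of order `19` normalising a group of order dividing `9240` centralises it. -/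
theorem centralizes {X : Type*} [Group X] [Finite X] (P N : Subgroup X) [N.Normal] (hP : Nat.card P = 19)
    (hN : Nat.card N ∣ 9240) : P ≤ centralizer (N : Set X) := by
  haveI : Fact (Nat.Prime 19) := ⟨by norm_num⟩
  set K := N ⊓ centralizer (P : Set X) with hK
  have hKN : K ≤ N := inf_le_left
  suffices h : Nat.card N ≤ Nat.card K by
    intro x hx
    rw [mem_centralizer_iff]
    intro y hy
    have hyK : y ∈ K := (eq_of_le_of_card_ge hKN h).symm ▸ hy
    exact ((mem_centralizer_iff.1 hyK.2) x hx).symm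
  refine Nat.le_of_dvd Nat.card_pos ?_
  rw [← Nat.factorization_prime_le_iff_dvd Nat.card_pos.ne' Nat.card_pos.ne']
  intro q hq
  haveI : Fact q.Prime := ⟨hq⟩
  obtain ⟨Q₀⟩ : Nonempty (Sylow q N) := inferInstance
  -- the Sylow subgroups of `N` are permuted by `P`
  have hPp : IsPGroup 19 (MulAut.conjNormal.comp P.subtype : ↥P →* MulAut N).range :=
    (IsPGroup.of_card (n := 1) (G := ↥P) (by rw [hP, pow_one])).of_surjective _
      (MonoidHom.rangeRestrict_surjective _)
  obtain ⟨Q, hQ⟩ := hPp.nonempty_fixed_point_of_prime_not_dvd_card (Sylow q N) (fun h => by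
    have h1 : Nat.card (Sylow q N) ∣ Nat.card N := Q₀.card_dvd_index.trans (Subgroup.index_dvd_card _)
    exact absurd ((h.trans h1).trans hN) (by norm_num))
  set S := (Q : Subgroup N).map N.subtype with hS
  have hSc : Nat.card S = q ^ (Nat.card N).factorization q := by
    rw [hS, card_map_of_injective N.subtype_injective, Q.card_eq_multiplicity]
  have hSn : ∀ x ∈ P, ∀ s ∈ S, x * s * x⁻¹ ∈ S := by
    rintro x hx s ⟨n, hn, rfl⟩
    have hfix := hQ ⟨_, ⟨⟨x, hx⟩, rfl⟩⟩
    refine ⟨MulAut.conjNormal x n, ?_, rfl⟩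
    have hm := Subgroup.smul_mem_pointwise_smul n (MulAut.conjNormal x : MulAut N) (Q : Subgroup N) hn
    have hfix' : (MulAut.conjNormal x : MulAut N) • (Q : Subgroup N) = (Q : Subgroup N) :=
      congrArg (fun R : Sylow q N => (R : Subgroup N)) hfix
    rw [hfix'] at hm
    exact hm
  have hSP : P ≤ normalizer (S : Set X) := fun x hx => mem_normalizer_iff.2 fun s =>
    ⟨hSn x hx s, fun hs => by simpa [mul_assoc] using hSn x⁻¹ (inv_mem hx) _ hs⟩
  have hS11 : Nat.card S ≤ 11 := by
    have h1 : q ^ (Nat.card N).factorization q ∣ 9240 := (Nat.ordProj_dvd _ q).trans hN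
    rw [hSc]
    rcases Nat.eq_zero_or_pos ((Nat.card N).factorization q) with h | h
    · simp [h]
    have hq' : q ∈ Nat.primeFactors 9240 :=
      Nat.mem_primeFactors.2 ⟨hq, (dvd_pow_self q h.ne').trans h1, by norm_num⟩
    refine le_trans (Nat.le_of_dvd (Nat.ordProj_pos _ _) ((Nat.Prime.pow_dvd_iff_dvd_ordProj hq (by norm_num)).1 h1)) ?_
    rw [show Nat.primeFactors 9240 = {2, 3, 5, 7, 11} from by
      rw [show 9240 = 2 ^ 3 * (3 * (5 * (7 * 11))) from rfl]
      repeat rw [Nat.primeFactors_mul (by norm_num) (by norm_num)]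
      rw [Nat.primeFactors_prime_pow (by norm_num) Nat.prime_two]
      repeat rw [Nat.Prime.primeFactors (by norm_num)]
      rfl] at hq'
    simp only [Finset.mem_insert, Finset.mem_singleton] at hq'
    rcases hq' with rfl | rfl | rfl | rfl | rfl <;> decide +kernel
  let ψ : ↥P →* Equiv.Perm S :=
    (MulAut.toPerm S).comp (S.normalizerMonoidHom.comp (Subgroup.inclusion hSP))
  have hψ : ψ = 1 := by
    have h1 : Nat.card ψ.range = 1 := by
      have h2 : Nat.card ψ.range ∣ 19 := hP ▸ Subgroup.card_range_dvd ψ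
      have h3 : Nat.card ψ.range ∣ (Nat.card S).factorial := Nat.card_perm (α := S) ▸ Subgroup.card_subgroup_dvd_card _
      refine ((Nat.dvd_prime (by norm_num)).1 h2).resolve_right fun h => ?_
      rw [h, Nat.Prime.dvd_factorial (by norm_num)] at h3
      omega
    exact MonoidHom.range_eq_bot_iff.1 (Subgroup.card_eq_one.1 h1)
  have hSK : S ≤ K := by
    intro s hs
    refine mem_inf.2 ⟨?_, mem_centralizer_iff.2 fun x hx => ?_⟩
    · obtain ⟨n, -, rfl⟩ := hs; exact n.2
    · have := congrArg Subtype.val (Equiv.Perm.ext_iff.1 (DFunLike.congr_fun hψ ⟨x, hx⟩) ⟨s, hs⟩)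
      exact mul_inv_eq_iff_eq_mul.1 this
  have := Subgroup.card_dvd_of_le hSK
  rw [hSc] at this
  exact (hq.pow_dvd_iff_le_factorization Nat.card_pos.ne').1 this

universe u

/-- The statement for all orders dividing `175560`. -/
theorem key : ∀ n : ℕ, ∀ (X : Type u) [Group X] [Finite X], Nat.card X = n → n ∣ 175560 →
    (IsSimpleGroup X ∧ n = 175560) ∨ ∀ P : Sylow 19 X, (P : Subgroup X).Normal := by
  haveI : Fact (Nat.Prime 19) := ⟨by norm_num⟩
  intro n
  induction n using Nat.strong_induction_on with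
  | _ n ih =>
  intro X _ _ hn hdvd
  by_cases h19 : 19 ∣ n
  swap
  · refine Or.inr fun P => ?_
    have hbot : (P : Subgroup X) = ⊥ := by
      rw [← Subgroup.card_eq_one, P.card_eq_multiplicity, hn,
        Nat.factorization_eq_zero_of_not_dvd h19, pow_zero]
    rw [hbot]; infer_instance
  obtain ⟨m, hm⟩ := h19
  have hm19 : ¬ 19 ∣ m := fun h => by
    have : 19 * 19 ∣ 175560 := (Nat.mul_dvd_mul_left 19 h).trans (hm ▸ hdvd)
    norm_num at this
  have hP : ∀ P : Sylow 19 X, Nat.card (P : Subgroup X) = 19 := fun P =>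
    (SmallSimple.card_sylow_eq P (k := 1) (m := m) (by rw [hn, hm, pow_one]) hm19).trans (pow_one 19)
  -- a normal subgroup with normal Sylow subgroup settles the matter
  have hsub : ∀ M : Subgroup X, M.Normal → M ≠ ⊤ → 19 ∣ Nat.card M →
      ∀ P : Sylow 19 X, (P : Subgroup X).Normal := by
    intro M hM hMt h19M
    have hlt : Nat.card M < n := by
      rw [← hn]
      exact lt_of_le_of_ne (Subgroup.card_le_card_group M) fun h => hMt (Subgroup.eq_top_of_card_eq M h)
    rcases ih _ hlt M rfl ((hn ▸ Subgroup.card_subgroup_dvd_card M).trans hdvd) with ⟨-, h⟩ | h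
    · exact absurd (Nat.le_of_dvd (by norm_num) hdvd) (by omega)
    obtain ⟨R⟩ : Nonempty (Sylow 19 M) := inferInstance
    haveI := h R
    haveI : ((R : Subgroup M)).Characteristic := R.characteristic_of_normal inferInstance
    set R' := (R : Subgroup M).map M.subtype
    haveI : R'.Normal := ConjAct.normal_of_characteristic_of_normal
    have hRc : Nat.card R' = 19 := by
      have hMm : 19 * (Nat.card M / 19) ∣ 19 * m := by
        rw [Nat.mul_div_cancel' h19M, ← hm, ← hn]
        exact Subgroup.card_subgroup_dvd_card M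
      rw [card_map_of_injective M.subtype_injective,
        SmallSimple.card_sylow_eq R (k := 1) (m := Nat.card M / 19)
          (by rw [pow_one, Nat.mul_div_cancel' h19M])
          (fun h => hm19 (h.trans ((Nat.mul_dvd_mul_iff_left (by norm_num : 0 < 19)).1 hMm))), pow_one]
    intro P
    have hRP : R' = P := by
      obtain ⟨Q, hQ⟩ := (IsPGroup.of_card (n := 1) (G := R') (by rw [hRc, pow_one])).exists_le_sylow
      have hQeq : R' = Q := eq_of_le_of_card_ge hQ (by rw [hP, hRc])
      haveI : (Q : Subgroup X).Normal := hQeq ▸ ‹R'.Normal›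
      haveI := Sylow.unique_of_normal Q inferInstance
      rw [hQeq, Subsingleton.elim Q P]
    exact hRP ▸ ‹R'.Normal›
  by_cases hsimp : IsSimpleGroup X
  · by_cases htop : n = 175560
    · exact Or.inl ⟨hsimp, htop⟩
    refine Or.inr fun P => ?_
    by_cases hc : IsMulCommutative X
    · exact ⟨fun x hx g => by rwa [show g * x * g⁻¹ = x from by rw [hc.is_comm.comm g x, mul_inv_cancel_right]]⟩
    · exact (no_simple hc (hn ▸ hdvd) (hn ▸ hm ▸ dvd_mul_right 19 m) (hn ▸ htop)).elim
  refine Or.inr ?_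
  haveI : Nontrivial X := Finite.one_lt_card_iff_nontrivial.1 (by
    rw [hn, hm]; rcases Nat.eq_zero_or_pos m with h | h
    · rw [h, mul_zero] at hm; rw [hm] at hdvd; norm_num at hdvd
    · omega)
  obtain ⟨N, hN, hNb, hNt⟩ : ∃ N : Subgroup X, N.Normal ∧ N ≠ ⊥ ∧ N ≠ ⊤ := by
    by_contra hc
    push Not at hc
    exact hsimp ⟨fun N hN => or_iff_not_imp_left.2 fun h => hc N hN h⟩
  by_cases h19N : 19 ∣ Nat.card N
  · exact hsub N hN hNt h19N
  intro P
  have hlt : Nat.card (X ⧸ N) < n := by
    rw [← hn, card_eq_card_quotient_mul_card_subgroup N]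
    exact lt_mul_of_one_lt_right Nat.card_pos ((Subgroup.one_lt_card_iff_ne_bot N).2 hNb)
  rcases ih _ hlt (X ⧸ N) rfl ((hn ▸ Subgroup.card_quotient_dvd_card N).trans hdvd) with ⟨-, h⟩ | h
  · exact absurd (Nat.le_of_dvd (by norm_num) hdvd) (by omega)
  let Pb := P.mapSurjective (QuotientGroup.mk'_surjective N)
  set M := (Pb : Subgroup (X ⧸ N)).comap (QuotientGroup.mk' N)
  haveI : (Pb : Subgroup (X ⧸ N)).Normal := h Pb
  have hMn : M.Normal := Subgroup.Normal.comap inferInstance _
  have hPM : (P : Subgroup X) ≤ M := fun x hx => ⟨x, hx, rfl⟩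
  by_cases hMt : M = ⊤
  swap
  · exact hsub M hMn hMt (hP P ▸ Subgroup.card_dvd_of_le hPM) P
  have hPN : (P : Subgroup X) ≤ centralizer (N : Set X) := centralizes _ N (hP P) (by
    have h1 : Nat.card N ∣ 19 * 9240 :=
      Dvd.dvd.trans (hn ▸ Subgroup.card_subgroup_dvd_card N) hdvd
    have h2 : (Nat.card N).Coprime 19 := ((Nat.Prime.coprime_iff_not_dvd (by norm_num)).2 h19N).symm
    exact h2.dvd_of_dvd_mul_left h1)
  refine ⟨fun x hx g => ?_⟩
  have hg : g ∈ M := hMt ▸ mem_top g
  obtain ⟨y, hy, hyg⟩ := hg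
  have hn' : y⁻¹ * g ∈ N := QuotientGroup.eq.1 hyg
  have hcn := mem_centralizer_iff.1 (hPN hx) _ hn'
  have : g * x * g⁻¹ = y * x * y⁻¹ := by
    rw [show g = y * (y⁻¹ * g) by group]
    rw [show y * (y⁻¹ * g) * x = y * x * (y⁻¹ * g) by rw [mul_assoc, hcn, ← mul_assoc]]
    group
  rw [this]
  exact mul_mem (mul_mem hy hx) (inv_mem hy)

/-- A finite group of order 175560 = 2³·3·5·7·11·19 is either simple or has a normal Sylow 19-subgroup. -/
theorem result {G : Type*} [Group G] [Finite G] (hG : Nat.card G = 175560) : IsSimpleGroup G ∨ ∀ P : Sylow 19 G, (P : Subgroup G).Normal :=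
  (key _ G hG (dvd_refl _)).imp_left And.left

end Cfsg.Agent.S4274
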