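import Cfsg.Statements.S4275
import Mathlib.GroupTheory.GroupAction.Quotient
import Mathlib.Data.Finite.Prod

set_option autoImplicit false
set_option linter.style.haveILetI false
open Cfsg

namespace Cfsg.Agent.S4275

/-- Let G be a transitive group of permutations of a finite set Ω, let o ∈ Ω, and let α be an automorphism of G. Then α is induced by conjugation by a permutation of Ω normalizing G if and only if the image under α of the stabilizer of o fixes some point of Ω. -/
theorem result {Ω : Type*} [Fintype Ω] (G : Subgroup (Equiv.Perm Ω)) (htr : MulAction.IsPretransitive G Ω) (o : Ω) (α : G ≃* G) : (∃ σ : Equiv.Perm Ω, σ ∈ Subgroup.normalizer (G : Set (Equiv.Perm Ω)) ∧ ∀ g : G, ((α g : G) : Equiv.Perm Ω) = σ * (g : Equiv.Perm Ω) * σ⁻¹) ↔ ∃ ω : Ω, ∀ g ∈ (MulAction.stabilizer G o).map α.toMonoidHom, g • ω = ω := by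
  classical
  haveI := htr
  constructor
  · rintro ⟨σ, -, hσ⟩
    refine ⟨σ o, ?_⟩
    rintro _ ⟨g, hg, rfl⟩
    have hg' : (g : Equiv.Perm Ω) o = o := hg
    show ((α g : G) : Equiv.Perm Ω) (σ o) = σ o
    simp [hσ, hg']
  · rintro ⟨ω, hω⟩
    have hfix : ∀ g : G, g • o = o → α g • ω = ω := fun g hg => hω _ ⟨g, hg, rfl⟩
    have hc : Nat.card (MulAction.stabilizer G o) = Nat.card (MulAction.stabilizer G ω) := by
      have h1 := (MulAction.stabilizer G o).card_mul_index
      have h2 := (MulAction.stabilizer G ω).card_mul_index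
      rw [MulAction.index_stabilizer_of_transitive] at h1 h2
      haveI : Nonempty Ω := ⟨o⟩
      exact Nat.eq_of_mul_eq_mul_right Nat.card_pos (h1.trans h2.symm)
    have heq : (MulAction.stabilizer G o).map α.toMonoidHom = MulAction.stabilizer G ω := by
      refine Subgroup.eq_of_le_of_card_ge (fun g hg => hω g hg) ?_
      rw [Subgroup.card_map_of_injective α.injective, hc]
    choose u hu using fun z => MulAction.exists_smul_eq G o z
    let f : Ω → Ω := fun z => α (u z) • ω
    have hf : ∀ g : G, f (g • o) = α g • ω := fun g => by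
      have h := hfix ((u (g • o))⁻¹ * g) (by rw [mul_smul, inv_smul_eq_iff, hu])
      rw [map_mul, map_inv, mul_smul, inv_smul_eq_iff] at h
      exact h.symm
    have hinj : Function.Injective f := by
      intro a b hab
      have hmem : α ((u b)⁻¹ * u a) ∈ (MulAction.stabilizer G o).map α.toMonoidHom := by
        rw [heq, MulAction.mem_stabilizer_iff, map_mul, map_inv, mul_smul, inv_smul_eq_iff]
        exact hab
      obtain ⟨g, hg, he⟩ := hmem
      rw [α.injective he] at hg
      have hg' : ((u b)⁻¹ * u a) • o = o := hg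
      rw [mul_smul, inv_smul_eq_iff, hu, hu] at hg'
      exact hg'
    let σ : Equiv.Perm Ω := Equiv.ofBijective f ⟨hinj, Finite.injective_iff_surjective.1 hinj⟩
    have key : ∀ g : G, ((α g : G) : Equiv.Perm Ω) = σ * (g : Equiv.Perm Ω) * σ⁻¹ := fun g => by
      rw [eq_mul_inv_iff_mul_eq]
      ext z
      show α g • f z = f (g • z)
      have e : g • z = (g * u z) • o := by rw [mul_smul, hu]
      rw [e, hf, map_mul, mul_smul]
    refine ⟨σ, Subgroup.mem_normalizer_iff.2 fun g => ⟨fun hg => ?_, fun hg => ?_⟩, key⟩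
    · rw [← key ⟨g, hg⟩]; exact (α ⟨g, hg⟩).2
    · have h := key (α.symm ⟨_, hg⟩)
      rw [MulEquiv.apply_symm_apply] at h
      have h2 : g = ((α.symm ⟨_, hg⟩ : G) : Equiv.Perm Ω) := by
        simpa using h
      rw [h2]; exact (α.symm ⟨_, hg⟩).2

end Cfsg.Agent.S4275
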