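import Cfsg.Statements.S4277
import Mathlib

set_option autoImplicit false
open Cfsg

namespace Cfsg.Agent.S4277

open scoped Pointwise commutatorElement

section Centralizer

variable {G : Type*} [Group G] (H : Subgroup G)

/-- The permutation representation on rational functions on the cosets. -/
noncomputable def perm (g : G) : (G ⧸ H → ℚ) →ₗ[ℚ] (G ⧸ H → ℚ) :=
  LinearMap.funLeft ℚ ℚ (fun x => g⁻¹ • x)

theorem perm_apply (g : G) (f : G ⧸ H → ℚ) (x : G ⧸ H) : perm H g f x = f (g⁻¹ • x) := rfl

theorem perm_mul (g h : G) (f : G ⧸ H → ℚ) : perm H (g * h) f = perm H g (perm H h f) := by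
  funext x
  simp only [perm_apply, mul_inv_rev, mul_smul]

theorem perm_one (f : G ⧸ H → ℚ) : perm H 1 f = f := by
  funext x
  simp [perm_apply]

theorem perm_pow (g : G) (i : ℕ) (f : G ⧸ H → ℚ) : (perm H g ^ i) f = perm H (g ^ i) f := by
  induction i generalizing f with
  | zero => simp [perm_one]
  | succ i ih => rw [pow_succ, Module.End.mul_apply, ih, pow_succ, perm_mul]

variable [Fintype (G ⧸ H)]

theorem perm_sum (g : G) (f : G ⧸ H → ℚ) : ∑ x, perm H g f x = ∑ x, f x :=
  Fintype.sum_equiv (MulAction.toPerm g⁻¹) _ _ fun _ => rfl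

/-- The automorphisms centralising a regular `p`-cycle subgroup commute. -/
theorem centralizer_comm [Finite G] [DecidableEq (G ⧸ H)] (p : ℕ) [hp : Fact p.Prime]
    (hidx : Fintype.card (G ⧸ H) = p) (hpH : ¬ p ∣ Nat.card ↥H)
    (hfaith : ∀ g : G, (∀ x : G ⧸ H, g • x = x) → g = 1) (u : G) (hu : orderOf u = p)
    (a b : MulAut G) (ha : a u = u) (hb : b u = u) : a * b = b * a := by
  set U : Module.End ℚ (G ⧸ H → ℚ) := perm H u with hU
  -- `u` moves every point, hence is regular
  have hfree : ∀ (x : G ⧸ H) (i : ℕ), u ^ i • x = x → p ∣ i := by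
    intro x i hix
    obtain ⟨g, rfl⟩ := QuotientGroup.mk_surjective x
    have hmem : g⁻¹ * u ^ i * g ∈ H := by
      have h1 : ((u ^ i * g : G) : G ⧸ H) = (g : G ⧸ H) := hix
      have h2 := QuotientGroup.eq.mp h1.symm
      rwa [← mul_assoc] at h2
    by_contra hi
    have hord : orderOf (g⁻¹ * u ^ i * g) = p := by
      have e : g⁻¹ * u ^ i * g = MulAut.conj g⁻¹ (u ^ i) := by simp
      rw [e, MulEquiv.orderOf_eq, orderOf_pow, hu,
        (Nat.Prime.coprime_iff_not_dvd hp.out).mpr hi, Nat.div_one]
    apply hpH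
    rw [← hord, ← Subgroup.orderOf_mk (g⁻¹ * u ^ i * g) hmem]
    exact orderOf_dvd_natCard _
  let x₀ : G ⧸ H := ((1 : G) : G ⧸ H)
  have hbij : ∀ x : G ⧸ H, Function.Bijective (fun i : Fin p => u ^ (i : ℕ) • x) := by
    intro x
    refine (Fintype.bijective_iff_injective_and_card _).mpr ⟨?_, by rw [Fintype.card_fin, hidx]⟩
    intro i j hij
    have key : ∀ i j : Fin p, (i : ℕ) ≤ j → u ^ (i : ℕ) • x = u ^ (j : ℕ) • x → i = j := by
      intro i j hle hij
      have h1 : u ^ ((j : ℕ) - i) • (u ^ (i : ℕ) • x) = u ^ (i : ℕ) • x := by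
        rw [← mul_smul, ← pow_add, Nat.sub_add_cancel hle, hij]
      have h2 := hfree _ _ h1
      have h3 : (j : ℕ) - i = 0 := Nat.eq_zero_of_dvd_of_lt h2 (by omega)
      exact Fin.ext (by omega)
    rcases le_total (i : ℕ) j with h | h
    · exact key i j h hij
    · exact (key j i h hij.symm).symm
  -- every nonzero sum-zero function generates all of them under `U`
  have hker : ∀ f : G ⧸ H → ℚ, ∑ x, f x = 0 →
      Polynomial.aeval U (Polynomial.cyclotomic p ℚ) f = 0 := by
    intro f hf
    funext x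
    rw [Polynomial.cyclotomic_prime ℚ p, map_sum, LinearMap.sum_apply, Finset.sum_apply]
    simp only [map_pow, Polynomial.aeval_X, hU, perm_pow, perm_apply]
    rw [Finset.sum_range (fun i => f ((u ^ i)⁻¹ • x))]
    have hb' : Function.Bijective (fun i : Fin p => (u ^ (i : ℕ))⁻¹ • x) := by
      refine (Fintype.bijective_iff_injective_and_card _).mpr ⟨?_, by rw [Fintype.card_fin, hidx]⟩
      intro i j hij
      simp only at hij
      have h1 : u ^ (j : ℕ) • x = u ^ (i : ℕ) • x := by
        rw [eq_inv_smul_iff, ← mul_smul, (Commute.pow_pow_self u j i).inv_right.eq, mul_smul,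
          inv_smul_eq_iff] at hij
        exact hij
      exact ((hbij x).1 h1).symm
    exact ((Equiv.ofBijective _ hb').sum_comp (fun y => f y)).trans hf
  have hpos : 0 < p := hp.out.pos
  have hcyc : ∀ f : G ⧸ H → ℚ, ∑ x, f x = 0 → f ≠ 0 → ∀ w : G ⧸ H → ℚ, ∑ x, w x = 0 →
      ∃ r : Polynomial ℚ, w = Polynomial.aeval U r f := by
    intro f hf hf0 w hw
    let V0 : Submodule ℚ (G ⧸ H → ℚ) :=
      LinearMap.ker (∑ x, LinearMap.proj (R := ℚ) (φ := fun _ : G ⧸ H => ℚ) x)
    have hmemV : ∀ v : G ⧸ H → ℚ, v ∈ V0 ↔ ∑ x, v x = 0 := fun v => by simp [V0]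
    have hUV : ∀ (r : Polynomial ℚ), ∑ x, Polynomial.aeval U r f x = 0 := by
      intro r
      induction r using Polynomial.induction_on' with
      | add r s hr hs => simp [map_add, Finset.sum_add_distrib, hr, hs]
      | monomial i c =>
        simp [Polynomial.aeval_monomial, hU, perm_pow, ← Finset.mul_sum, perm_sum, hf]
    let Φ : ↥(Polynomial.degreeLT ℚ (p - 1)) →ₗ[ℚ] ↥V0 :=
      { toFun := fun r => ⟨Polynomial.aeval U (r : Polynomial ℚ) f, (hmemV _).mpr (hUV _)⟩
        map_add' := fun r s => Subtype.ext (by simp [map_add])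
        map_smul' := fun c r => Subtype.ext (by simp [map_smul]) }
    have hΦ : Function.Injective Φ := by
      rw [← LinearMap.ker_eq_bot, LinearMap.ker_eq_bot']
      intro r hr
      have hr0 : Polynomial.aeval U (r : Polynomial ℚ) f = 0 := congrArg Subtype.val hr
      by_contra hne
      have hirr : Irreducible (Polynomial.cyclotomic p ℚ) :=
        Polynomial.cyclotomic.irreducible_rat hpos
      have hndvd : ¬ Polynomial.cyclotomic p ℚ ∣ (r : Polynomial ℚ) := by
        intro hd
        have hr1 : (r : Polynomial ℚ) ≠ 0 := fun h => hne (Subtype.ext h)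
        have h1 := Polynomial.degree_le_of_dvd hd hr1
        have h2 := (Polynomial.mem_degreeLT.mp r.2)
        rw [Polynomial.degree_cyclotomic, Nat.totient_prime hp.out] at h1
        exact absurd (lt_of_le_of_lt h1 h2) (lt_irrefl _)
      obtain ⟨s, t, hst⟩ := (hirr.coprime_iff_not_dvd).mpr hndvd
      apply hf0
      have h1 := congrArg (fun q => Polynomial.aeval U q f) hst
      simp only [map_add, map_mul, map_one, LinearMap.add_apply, Module.End.mul_apply,
        hker f hf, hr0, map_zero, Module.End.one_apply, add_zero] at h1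
      exact h1.symm
    have hdim : Module.finrank ℚ ↥V0 ≤ p - 1 := by
      have hlt : V0 < ⊤ := by
        rw [lt_top_iff_ne_top]
        intro h
        have h1 : Pi.single x₀ (1 : ℚ) ∈ V0 := by rw [h]; trivial
        rw [hmemV, Finset.sum_pi_single'] at h1
        simp at h1
      have := Submodule.finrank_lt hlt.ne
      rw [Module.finrank_pi, hidx] at this
      omega
    haveI : FiniteDimensional ℚ ↥(Polynomial.degreeLT ℚ (p - 1)) :=
      Module.Finite.equiv (Polynomial.degreeLTEquiv ℚ (p - 1)).symm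
    have hsurj : Function.Surjective Φ := by
      refine LinearMap.range_eq_top.mp (Submodule.eq_top_of_finrank_eq (le_antisymm
        (Submodule.finrank_le _) ?_))
      rw [LinearMap.finrank_range_of_inj hΦ,
        LinearEquiv.finrank_eq (Polynomial.degreeLTEquiv ℚ (p - 1)), Module.finrank_fin_fun]
      exact hdim
    obtain ⟨r, hr⟩ := hsurj ⟨w, (hmemV w).mpr hw⟩
    exact ⟨r, (congrArg Subtype.val hr).symm⟩
  let δ : G ⧸ H → ℚ := fun x => (if x = x₀ then 1 else 0) - (1 / p : ℚ)
  have hδ : ∑ x, δ x = 0 := by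
    simp only [δ, Finset.sum_sub_distrib, Finset.sum_ite_eq', Finset.mem_univ, if_true,
      Finset.sum_const, Finset.card_univ, hidx, nsmul_eq_mul]
    field_simp
    ring
  -- an intertwiner for each automorphism fixing `u`
  have hL : ∀ c : MulAut G, c u = u → ∃ L : Module.End ℚ (G ⧸ H → ℚ),
      (∀ g f, L (perm H g f) = perm H (c g) (L f)) ∧
      (∀ f, ∑ x, f x = 0 → ∑ x, L f x = 0) ∧ L δ ≠ 0 := by
    intro c hc
    let K : Subgroup G := H.map c.toMonoidHom
    let O := MulAction.orbit ↥K x₀
    have hO : Nat.card ↥O ≠ p := by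
      intro h
      apply hpH
      rw [← h, show Nat.card ↥H = Nat.card ↥K from
        (Nat.card_congr (H.equivMapOfInjective _ c.injective).toEquiv)]
      rw [Nat.card_coe_set_eq, ← MulAction.index_stabilizer]
      exact Subgroup.index_dvd_card _
    classical
    let w : G ⧸ H → ℚ := fun x => (if x ∈ O then (p : ℚ) else 0) - (Nat.card ↥O : ℚ)
    have hwK : ∀ k ∈ K, perm H k w = w := by
      intro k hk
      funext x
      have : k⁻¹ • x ∈ O ↔ x ∈ O := by
        constructor
        · intro h
          have h' := MulAction.mem_orbit_of_mem_orbit (⟨k, hk⟩ : ↥K) h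
          exact smul_inv_smul k x ▸ h'
        · intro h
          exact MulAction.mem_orbit_of_mem_orbit (⟨k⁻¹, K.inv_mem hk⟩ : ↥K) h
      simp only [perm_apply, w, this]
    have hwsum : ∑ x, w x = 0 := by
      simp only [w, Finset.sum_sub_distrib, Finset.sum_ite, Finset.sum_const_zero, add_zero,
        Finset.sum_const, Finset.card_univ, hidx, nsmul_eq_mul]
      rw [Nat.card_eq_fintype_card, ← Set.toFinset_card]
      have : O.toFinset = Finset.univ.filter (fun x => x ∈ O) := by ext x; simp
      rw [this]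
      ring
    let e : G ⧸ H → G := Quotient.out
    have he : ∀ x, ((e x : G) : G ⧸ H) = x := QuotientGroup.out_eq'
    let L : Module.End ℚ (G ⧸ H → ℚ) :=
      ∑ x, (LinearMap.proj (R := ℚ) (φ := fun _ : G ⧸ H => ℚ) x).smulRight (perm H (c (e x)) w)
    have hLapp : ∀ f, L f = ∑ x, f x • perm H (c (e x)) w := fun f => by
      simp [L, LinearMap.sum_apply]
    have hshift : ∀ (g : G) (y : G ⧸ H),
        perm H (c (e (g • y))) w = perm H (c g) (perm H (c (e y)) w) := by
      intro g y
      rw [← perm_mul, ← map_mul]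
      have hh : (g * e y)⁻¹ * e (g • y) ∈ H := by
        rw [← QuotientGroup.eq, he]
        exact congrArg (fun z => g • z) (he y)
      conv_lhs => rw [show e (g • y) = (g * e y) * ((g * e y)⁻¹ * e (g • y)) by group, map_mul,
        perm_mul, hwK (c ((g * e y)⁻¹ * e (g • y))) (Subgroup.mem_map_of_mem _ hh)]
    have hLeq : ∀ g f, L (perm H g f) = perm H (c g) (L f) := by
      intro g f
      rw [hLapp, hLapp, map_sum]
      refine Fintype.sum_equiv (MulAction.toPerm g⁻¹) _ _ fun x => ?_
      rw [map_smul, MulAction.toPerm_apply, ← hshift, perm_apply, smul_inv_smul]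
    refine ⟨L, hLeq, fun f _ => ?_, ?_⟩
    · simp only [hLapp, Finset.sum_apply, Pi.smul_apply, smul_eq_mul]
      rw [Finset.sum_comm]
      simp only [← Finset.mul_sum, perm_sum, hwsum, mul_zero, Finset.sum_const_zero]
    · have hconst : ∑ x, perm H (c (e x)) w = 0 := by
        set s := ∑ x, perm H (c (e x)) w with hs
        have hinv : ∀ g, perm H (c g) s = s := by
          intro g
          rw [hs, map_sum]
          exact Fintype.sum_equiv (MulAction.toPerm g) _ _ fun x => (hshift g x).symm
        have heq : ∀ x, s x = s x₀ := by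
          intro x
          obtain ⟨g, rfl⟩ := QuotientGroup.mk_surjective x
          have h1 := congrFun (hinv (c.symm g)) ((g : G ⧸ H))
          rw [MulEquiv.apply_symm_apply, perm_apply] at h1
          rw [← h1]
          congr 1
          show ((g⁻¹ * g : G) : G ⧸ H) = _
          rw [inv_mul_cancel]
        have hsum : ∑ x, s x = 0 := by
          simp only [hs, Finset.sum_apply]
          rw [Finset.sum_comm]
          simp only [perm_sum, hwsum, Finset.sum_const_zero]
        funext x
        rw [Finset.sum_congr rfl (fun x _ => heq x), Finset.sum_const, Finset.card_univ, hidx,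
          nsmul_eq_mul] at hsum
        rw [heq x]
        rcases mul_eq_zero.mp hsum with h | h
        · exact absurd (Nat.cast_eq_zero.mp h) hpos.ne'
        · exact h
      intro h0
      rw [hLapp] at h0
      simp only [δ, sub_smul, Finset.sum_sub_distrib, ite_smul, one_smul, zero_smul,
        Finset.sum_ite_eq', Finset.mem_univ, if_true, ← Finset.smul_sum, hconst, smul_zero,
        sub_zero] at h0
      have he0 : c (e x₀) ∈ K := by
        refine Subgroup.mem_map_of_mem _ ?_
        have := QuotientGroup.eq.mp (he x₀).symm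
        simpa using this
      rw [hwK _ he0] at h0
      have h1 := congrFun h0 x₀
      simp only [w, MulAction.mem_orbit_self, O, if_true, Pi.zero_apply, sub_eq_zero,
        Nat.cast_inj] at h1
      exact hO h1.symm
  obtain ⟨A, hA, hA0, hAδ⟩ := hL a ha
  obtain ⟨B, hB, hB0, hBδ⟩ := hL b hb
  have hpoly : ∀ (L : Module.End ℚ (G ⧸ H → ℚ)), Commute L U → ∀ (r : Polynomial ℚ) f,
      L (Polynomial.aeval U r f) = Polynomial.aeval U r (L f) := by
    intro L hLU r f
    induction r using Polynomial.induction_on' with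
    | add r s hr hs => simp [map_add, hr, hs]
    | monomial i q =>
      simp only [Polynomial.aeval_monomial, Module.End.mul_apply, Module.algebraMap_end_apply,
        map_smul]
      congr 1
      exact DFunLike.congr_fun (hLU.pow_right i).eq f
  have hAU : Commute A U := LinearMap.ext fun f => by
    show A (perm H u f) = perm H u (A f)
    rw [hA, ha]
  have hBU : Commute B U := LinearMap.ext fun f => by
    show B (perm H u f) = perm H u (B f)
    rw [hB, hb]
  have hδ0 : δ ≠ 0 := fun h => hAδ (by rw [h, map_zero])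
  obtain ⟨r₁, hr₁⟩ := hcyc δ hδ hδ0 (A δ) (hA0 δ hδ)
  obtain ⟨r₂, hr₂⟩ := hcyc δ hδ hδ0 (B δ) (hB0 δ hδ)
  have hAr : ∀ f, ∑ x, f x = 0 → A f = Polynomial.aeval U r₁ f := by
    intro f hf
    obtain ⟨s, rfl⟩ := hcyc δ hδ hδ0 f hf
    rw [hpoly A hAU, hr₁, ← Module.End.mul_apply, ← Module.End.mul_apply, ← map_mul, ← map_mul,
      mul_comm]
  have hBr : ∀ f, ∑ x, f x = 0 → B f = Polynomial.aeval U r₂ f := by
    intro f hf
    obtain ⟨s, rfl⟩ := hcyc δ hδ hδ0 f hf
    rw [hpoly B hBU, hr₂, ← Module.End.mul_apply, ← Module.End.mul_apply, ← map_mul, ← map_mul,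
      mul_comm]
  have hAB : ∀ f, ∑ x, f x = 0 → A (B f) = B (A f) := by
    intro f hf
    rw [hAr _ (hB0 f hf), hBr _ (hA0 f hf), hBr f hf, hAr f hf, ← Module.End.mul_apply,
      ← Module.End.mul_apply, ← map_mul, ← map_mul, mul_comm]
  -- `A (B δ)` is a nonzero sum-zero function, so generates all of them
  have hinj : ∀ L : Module.End ℚ (G ⧸ H → ℚ), Commute L U → L δ ≠ 0 →
      ∀ f, ∑ x, f x = 0 → L f = 0 → f = 0 := by
    intro L hLU hLδ f hf hLf
    by_contra hf0
    obtain ⟨r, hr⟩ := hcyc f hf hf0 δ hδ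
    apply hLδ
    rw [hr, hpoly L hLU, hLf, map_zero]
  have hne : A (B δ) ≠ 0 := fun h => hBδ (hinj A hAU hAδ _ (hB0 δ hδ) h)
  have hsum : ∑ x, A (B δ) x = 0 := hA0 _ (hB0 δ hδ)
  refine MulEquiv.ext fun g => ?_
  have hact : ∀ w : G ⧸ H → ℚ, ∑ x, w x = 0 →
      perm H ((a * b) g) w = perm H ((b * a) g) w := by
    intro w hw
    obtain ⟨r, rfl⟩ := hcyc _ hsum hne w hw
    set f := Polynomial.aeval U r δ with hf
    have hf0 : ∑ x, f x = 0 := by
      have hr' : ∀ r : Polynomial ℚ, ∑ x, Polynomial.aeval U r δ x = 0 := by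
        intro r
        induction r using Polynomial.induction_on' with
        | add r s hr hs => simp [map_add, Finset.sum_add_distrib, hr, hs]
        | monomial i c =>
          simp [Polynomial.aeval_monomial, hU, perm_pow, ← Finset.mul_sum, perm_sum, hδ]
      exact hr' r
    rw [← hpoly A hAU, ← hpoly B hBU, ← hf]
    calc perm H ((a * b) g) (A (B f)) = A (B (perm H g f)) := by
          rw [hB, hA]; rfl
      _ = B (A (perm H g f)) := hAB _ (by rw [perm_sum]; exact hf0)
      _ = perm H ((b * a) g) (B (A f)) := by rw [hA, hB]; rfl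
      _ = perm H ((b * a) g) (A (B f)) := by rw [hAB f hf0]
  have hz : ((b * a) g)⁻¹ * (a * b) g = 1 := by
    refine hfaith _ fun x => ?_
    set g' := ((b * a) g)⁻¹ * (a * b) g with hg'
    let d : G ⧸ H → ℚ := fun y => (if y = x then 1 else 0) - (1 / p : ℚ)
    have hd : ∑ y, d y = 0 := by
      simp only [d, Finset.sum_sub_distrib, Finset.sum_ite_eq', Finset.mem_univ, if_true,
        Finset.sum_const, Finset.card_univ, hidx, nsmul_eq_mul]
      field_simp
      ring
    have h2 : perm H g' d = d := by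
      rw [hg', perm_mul, hact d hd, ← perm_mul, inv_mul_cancel, perm_one]
    have h3 := congrFun h2 (g' • x)
    rw [perm_apply, inv_smul_smul] at h3
    simp only [d, if_true, sub_left_inj] at h3
    by_contra hx
    rw [if_neg hx] at h3
    exact one_ne_zero h3
  exact (eq_of_inv_mul_eq_one hz).symm

end Centralizer

/-- A case of the Schreier conjecture: if a finite simple group G has a subgroup of prime index, then the outer automorphism group of G is solvable. -/
theorem result {G : Type*} [Group G] [Finite G] [IsSimpleGroup G] (H : Subgroup G) (hH : H.index.Prime) : Group.IsSolvable (Cfsg.Out G) := by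
  classical
  set p := H.index with hpdef
  haveI hpf : Fact p.Prime := ⟨hH⟩
  haveI : Fintype (G ⧸ H) := Fintype.ofFinite _
  have hidx : Fintype.card (G ⧸ H) = p := by rw [hpdef, Subgroup.index, Nat.card_eq_fintype_card]
  have hcore : H.normalCore = ⊥ := by
    rcases (Subgroup.normalCore_normal H).eq_bot_or_eq_top with h | h
    · exact h
    · exfalso
      have hHtop : H = ⊤ := top_le_iff.mp (h ▸ H.normalCore_le)
      rw [hpdef, hHtop, Subgroup.index_top] at hH
      exact Nat.not_prime_one hH
  have hfaith : ∀ g : G, (∀ x : G ⧸ H, g • x = x) → g = 1 := by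
    intro g hg
    have : g ∈ (MulAction.toPermHom G (G ⧸ H)).ker := MonoidHom.mem_ker.mpr (Equiv.ext hg)
    rw [← Subgroup.normalCore_eq_ker, hcore] at this
    exact this
  have hcard : Nat.card ↥H * p = Nat.card G := Subgroup.card_mul_index H
  have hdvd : Nat.card G ∣ p.factorial := by
    have hinj : Function.Injective (MulAction.toPermHom G (G ⧸ H)) := by
      rw [← MonoidHom.ker_eq_bot_iff, ← Subgroup.normalCore_eq_ker, hcore]
    have := Subgroup.card_dvd_of_injective _ hinj
    rwa [Nat.card_perm, show Nat.card (G ⧸ H) = p from rfl] at this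
  have hp2 : ¬ p ^ 2 ∣ Nat.card G := by
    intro h
    have h1 := h.trans hdvd
    rw [← Nat.mul_factorial_pred hH.ne_zero, sq] at h1
    have h2 := Nat.dvd_of_mul_dvd_mul_left hH.pos h1
    have h3 := hH.dvd_factorial.mp h2
    have := hH.pos
    omega
  have hpH : ¬ p ∣ Nat.card ↥H := by
    rintro ⟨k, hk⟩
    exact hp2 ⟨k, by rw [← hcard, hk]; ring⟩
  let P : Sylow p G := default
  have hP : Nat.card ↥(P : Subgroup G) = p := by
    obtain ⟨k, hk⟩ := IsPGroup.iff_card.mp P.isPGroup'
    rcases Nat.lt_or_ge k 2 with h | h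
    · have hpd : p ∣ Nat.card G := ⟨_, (mul_comm _ _).trans hcard |>.symm⟩
      have hk1 : p ∣ Nat.card ↥(P : Subgroup G) := P.dvd_card_of_dvd_card hpd
      interval_cases k
      · rw [hk, pow_zero] at hk1
        exact absurd (Nat.dvd_one.mp hk1) hH.ne_one
      · rw [hk, pow_one]
    · exact absurd (((pow_dvd_pow p h).trans (hk ▸ dvd_rfl)).trans (P : Subgroup G).card_subgroup_dvd_card) hp2
  haveI := isCyclic_of_prime_card hP
  obtain ⟨u, hugen⟩ := IsCyclic.exists_generator (α := ↥(P : Subgroup G))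
  have hu : orderOf (u : G) = p := by
    rw [Subgroup.orderOf_coe, orderOf_eq_card_of_forall_mem_zpowers hugen, hP]
  let N : Subgroup (MulAut G) := MulAction.stabilizer (MulAut G) (P : Subgroup G)
  have hNmap : ∀ a ∈ N, ∀ z ∈ (P : Subgroup G), a z ∈ (P : Subgroup G) := by
    intro a ha z hz
    have : a • z ∈ a • (P : Subgroup G) := Subgroup.smul_mem_pointwise_smul _ _ _ hz
    rw [MulAction.mem_stabilizer_iff.mp ha] at this
    exact this
  have hpow : ∀ a ∈ N, ∃ i : ℤ, ∀ z ∈ (P : Subgroup G), a z = z ^ i := by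
    intro a ha
    obtain ⟨i, hi⟩ := Subgroup.mem_zpowers_iff.mp (hugen ⟨a u, hNmap a ha u u.2⟩)
    refine ⟨i, fun z hz => ?_⟩
    obtain ⟨j, hj⟩ := Subgroup.mem_zpowers_iff.mp (hugen ⟨z, hz⟩)
    have hj' : (u : G) ^ j = z := congrArg Subtype.val hj
    have hi' : (u : G) ^ i = a u := congrArg Subtype.val hi
    rw [← hj', map_zpow, ← hi', ← zpow_mul, ← zpow_mul, mul_comm]
  have hfix : ∀ a ∈ N, ∀ b ∈ N, ⁅a, b⁆ (u : G) = u := by
    intro a ha b hb
    have hz : a⁻¹ (b⁻¹ (u : G)) ∈ (P : Subgroup G) :=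
      hNmap _ (inv_mem ha) _ (hNmap _ (inv_mem hb) _ u.2)
    obtain ⟨i, hi⟩ := hpow a ha
    obtain ⟨j, hj⟩ := hpow b hb
    rw [commutatorElement_def]
    simp only [MulAut.mul_apply]
    have h1 : a (b (a⁻¹ (b⁻¹ (u : G)))) = b (a (a⁻¹ (b⁻¹ (u : G)))) := by
      rw [hi _ (hNmap b hb _ hz), hj _ hz, hi _ hz, hj _ (zpow_mem hz i), ← zpow_mul, ← zpow_mul,
        mul_comm]
    rw [h1, MulAut.apply_inv_self, MulAut.apply_inv_self]
  haveI hsolN : Group.IsSolvable ↥N := by
    refine ⟨2, ?_⟩
    let C : Subgroup ↥N :=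
      { carrier := {a | (a : MulAut G) (u : G) = u}
        mul_mem' := fun {a b} ha hb => by
          show (a : MulAut G) ((b : MulAut G) (u : G)) = u
          rw [hb, ha]
        one_mem' := rfl
        inv_mem' := fun {a} ha => by
          show (a : MulAut G)⁻¹ (u : G) = u
          conv_lhs => rw [← (show (a : MulAut G) (u : G) = u from ha)]
          exact MulAut.inv_apply_self _ _ _ }
    have h1 : derivedSeries ↥N 1 ≤ C := by
      rw [derivedSeries_succ, derivedSeries_zero, Subgroup.commutator_le]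
      intro a _ b _
      exact hfix a a.2 b b.2
    rw [derivedSeries_succ, eq_bot_iff, Subgroup.commutator_le]
    intro a ha b hb
    rw [Subgroup.mem_bot, commutatorElement_eq_one_iff_mul_comm]
    exact Subtype.ext (centralizer_comm H p hidx hpH hfaith (u : G) hu a b (h1 ha) (h1 hb))
  refine Group.isSolvable_of_surjective (f := (QuotientGroup.mk' (Cfsg.Inn G)).comp N.subtype) ?_
  intro x
  obtain ⟨a, rfl⟩ := QuotientGroup.mk_surjective x
  have hcard' : Nat.card ↥(a • (P : Subgroup G)) = p := by
    rw [show Nat.card ↥(a • (P : Subgroup G)) = Nat.card ↥(P : Subgroup G) from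
      (Nat.card_congr (Subgroup.equivSMul a (P : Subgroup G)).toEquiv).symm, hP]
  obtain ⟨Q, hQ⟩ := (IsPGroup.of_card (p := p) (n := 1) (by rw [hcard', pow_one])).exists_le_sylow
  have hQeq : a • (P : Subgroup G) = (Q : Subgroup G) :=
    Subgroup.eq_of_le_of_card_ge hQ (le_of_eq (by
      rw [hcard', Sylow.card_eq_multiplicity Q]
      exact (Sylow.card_eq_multiplicity P).symm.trans hP))
  obtain ⟨g, hg⟩ := MulAction.exists_smul_eq G P Q
  have hg' : MulAut.conj g • (P : Subgroup G) = (Q : Subgroup G) := by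
    rw [← hg]
    rfl
  refine ⟨⟨(MulAut.conj g)⁻¹ * a, ?_⟩, ?_⟩
  · show ((MulAut.conj g)⁻¹ * a) • (P : Subgroup G) = (P : Subgroup G)
    rw [mul_smul, hQeq, ← hg', inv_smul_smul]
  · show QuotientGroup.mk' (Cfsg.Inn G) ((MulAut.conj g)⁻¹ * a) = _
    rw [map_mul, show QuotientGroup.mk' (Cfsg.Inn G) (MulAut.conj g)⁻¹ = 1 from
      (QuotientGroup.eq_one_iff _).mpr (inv_mem ⟨g, rfl⟩), one_mul]
    rfl

end Cfsg.Agent.S4277
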