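import Cfsg.Statements.S4283
import Cfsg.Agent.Frobenius.Basic

set_option autoImplicit false
set_option linter.style.haveILetI false
open Cfsg

namespace Cfsg.Agent.S4283

/-- Let G be a finite group with centre Z and let K, H be abelian subgroups of G containing Z such that G/Z is a Frobenius group with complement H/Z and kernel K/Z. Then the conjugacy class sizes of G are exactly 1, [G : K] and [G : H], and these two indices are coprime. (This is the converse half of the characterization of finite groups whose conjugacy class sizes are exactly 1, m and n with m and n coprime.) -/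
theorem result {G : Type*} [Group G] [Finite G] (K H : Subgroup G) (hZK : Subgroup.center G ≤ K) (hZH : Subgroup.center G ≤ H) (hK : IsMulCommutative K) (hH : IsMulCommutative H) (hFrob : Cfsg.IsFrobeniusComplement (H.map (QuotientGroup.mk' (Subgroup.center G)))) (hker : Cfsg.frobeniusKernel (H.map (QuotientGroup.mk' (Subgroup.center G))) = (K.map (QuotientGroup.mk' (Subgroup.center G)) : Set (G ⧸ Subgroup.center G))) : Set.range (fun x : G => (Subgroup.centralizer ({x} : Set G)).index) = ({1, K.index, H.index} : Set ℕ) ∧ K.index.Coprime H.index := by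
  classical
  set Z := Subgroup.center G
  set π := QuotientGroup.mk' Z with hπ
  set H' := H.map π with hH'
  have hsurj : Function.Surjective π := QuotientGroup.mk'_surjective Z
  have hKc : (K.map π).comap π = K := by rw [Subgroup.comap_map_eq, hπ, QuotientGroup.ker_mk', sup_eq_left.2 hZK]
  have hHc : H'.comap π = H := by rw [hH', Subgroup.comap_map_eq, hπ, QuotientGroup.ker_mk', sup_eq_left.2 hZH]
  have hKi : K.index = (K.map π).index := by
    conv_lhs => rw [← hKc, Subgroup.index_comap_of_surjective _ hsurj]
  have hHi : H.index = H'.index := by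
    conv_lhs => rw [← hHc, Subgroup.index_comap_of_surjective _ hsurj]
  have hKcard : Nat.card (K.map π) = H'.index := by
    rw [← CfsgLib.Frobenius.card_frobeniusKernel hFrob, hker]
    rfl
  have hKbar : (K.map π).index = Nat.card H' := by
    have h1 := (K.map π).card_mul_index
    have h2 := H'.card_mul_index
    rw [hKcard, ← h2, mul_comm] at h1
    exact Nat.eq_of_mul_eq_mul_right (Nat.pos_of_ne_zero H'.index_ne_zero_of_finite) h1
  have habc : ∀ (L : Subgroup G), IsMulCommutative L → ∀ x ∈ L, L ≤ Subgroup.centralizer ({x} : Set G) := by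
    intro L hL x hx l hl
    rw [Subgroup.mem_centralizer_singleton_iff]
    exact setLike_mul_comm (s := L) hl hx
  have hmapC : ∀ (x y : G), y ∈ Subgroup.centralizer ({x} : Set G) →
      π y ∈ Subgroup.centralizer ({π x} : Set (G ⧸ Z)) := by
    intro x y hy
    rw [Subgroup.mem_centralizer_singleton_iff] at hy ⊢
    rw [← map_mul, ← map_mul, hy]
  have hK1 : ∀ x, x ∈ K → x ∉ Z → Subgroup.centralizer ({x} : Set G) = K := by
    intro x hx hxZ
    refine le_antisymm (fun y hy => ?_) (habc K hK x hx)
    have hx' : π x ≠ 1 := fun h => hxZ ((QuotientGroup.eq_one_iff x).1 h)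
    rw [← hKc, Subgroup.mem_comap]
    by_contra hy'
    have hy1 : π y ≠ 1 := fun h => hy' (h ▸ one_mem _)
    obtain ⟨g, hg⟩ : ∃ g, g⁻¹ * π y * g ∈ H' := by
      by_contra! hh
      apply hy'
      rw [← SetLike.mem_coe, ← hker]
      exact Or.inr fun g hg => hh g (CfsgLib.Frobenius.mem_conj_iff.1 hg)
    have hxk : π x ∈ Cfsg.frobeniusKernel H' := by rw [hker]; exact Subgroup.mem_map_of_mem π hx
    rcases hxk with h | h
    · exact hx' h
    · apply h g
      rw [CfsgLib.Frobenius.mem_conj_iff]
      refine CfsgLib.Frobenius.centralizer_le hFrob hg (fun e => hy1 (by simpa [mul_assoc] using congrArg (fun w => g * w * g⁻¹) e)) ?_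
      have hc := Subgroup.mem_centralizer_singleton_iff.1 (hmapC x y hy)
      rw [Subgroup.mem_centralizer_singleton_iff]
      calc g⁻¹ * π x * g * (g⁻¹ * π y * g) = g⁻¹ * (π x * π y) * g := by group
        _ = g⁻¹ * (π y * π x) * g := by rw [hc]
        _ = g⁻¹ * π y * g * (g⁻¹ * π x * g) := by group
  have hH1 : ∀ x, x ∈ H → x ∉ Z → Subgroup.centralizer ({x} : Set G) = H := by
    intro x hx hxZ
    refine le_antisymm (fun y hy => ?_) (habc H hH x hx)
    rw [← hHc, Subgroup.mem_comap]
    exact CfsgLib.Frobenius.centralizer_le hFrob (Subgroup.mem_map_of_mem π hx)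
      (fun h => hxZ ((QuotientGroup.eq_one_iff x).1 h)) (hmapC x y hy)
  refine ⟨?_, ?_⟩
  swap
  · rw [hKi, hKbar, hHi]; exact CfsgLib.Frobenius.coprime_card_index hFrob
  ext n
  simp only [Set.mem_range, Set.mem_insert_iff, Set.mem_singleton_iff]
  constructor
  · rintro ⟨x, rfl⟩
    by_cases hxZ : x ∈ Z
    · left
      rw [Subgroup.index_eq_one, Subgroup.centralizer_eq_top_iff_subset, Set.singleton_subset_iff]
      exact hxZ
    by_cases hxK : x ∈ K
    · exact Or.inr (Or.inl (by rw [hK1 x hxK hxZ]))
    · right; right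
      have hx' : π x ∉ Cfsg.frobeniusKernel H' := by
        rw [hker, SetLike.mem_coe, ← Subgroup.mem_comap, hKc]; exact hxK
      obtain ⟨g, hg⟩ : ∃ g, g⁻¹ * π x * g ∈ H' := by
        by_contra! hh
        exact hx' (Or.inr fun g hg => hh g (CfsgLib.Frobenius.mem_conj_iff.1 hg))
      obtain ⟨g, rfl⟩ := hsurj g
      have hh : g⁻¹ * x * g ∈ H := by
        rw [← hHc, Subgroup.mem_comap, map_mul, map_mul, map_inv]; exact hg
      have hnz : g⁻¹ * x * g ∉ Z := fun h => hxZ (by
        have := (Subgroup.mem_center_iff.1 h) g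
        have e : g * (g⁻¹ * x * g) = x * g := by group
        rw [e] at this
        have e2 : x = g⁻¹ * x * g := mul_right_cancel (this)
        exact e2 ▸ h)
      rw [← hH1 _ hh hnz]
      have e : Subgroup.centralizer ({g⁻¹ * x * g} : Set G) =
          (Subgroup.centralizer ({x} : Set G)).map (MulAut.conj g⁻¹).toMonoidHom := by
        ext y
        rw [Subgroup.mem_map_equiv, Subgroup.mem_centralizer_singleton_iff, Subgroup.mem_centralizer_singleton_iff]
        simp only [map_inv, MulAut.inv_def, MulEquiv.symm_symm, MulAut.conj_apply]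
        constructor
        · intro h
          calc g * y * g⁻¹ * x = g * (y * (g⁻¹ * x * g)) * g⁻¹ := by group
            _ = g * (g⁻¹ * x * g * y) * g⁻¹ := by rw [h]
            _ = x * (g * y * g⁻¹) := by group
        · intro h
          calc y * (g⁻¹ * x * g) = g⁻¹ * (g * y * g⁻¹ * x) * g := by group
            _ = g⁻¹ * (x * (g * y * g⁻¹)) * g := by rw [h]
            _ = g⁻¹ * x * g * y := by group
      rw [e]
      exact (Subgroup.index_map_equiv (Subgroup.centralizer ({x} : Set G)) (MulAut.conj g⁻¹)).symm
  · rintro (rfl | rfl | rfl)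
    · exact ⟨1, by simp⟩
    · obtain ⟨x, hx, hxZ⟩ : ∃ x ∈ K, x ∉ Z := by
        by_contra! hh
        have : K.map π = ⊥ := by rw [Subgroup.map_eq_bot_iff, hπ, QuotientGroup.ker_mk']; exact hh
        rw [this, Subgroup.card_bot] at hKcard
        have := CfsgLib.Frobenius.one_lt_index hFrob
        omega
      exact ⟨x, by rw [hK1 x hx hxZ]⟩
    · obtain ⟨x', hx', hx1⟩ := CfsgLib.Frobenius.exists_ne_one hFrob
      obtain ⟨x, hx, rfl⟩ := hx'
      exact ⟨x, by rw [hH1 x hx fun h => hx1 ((QuotientGroup.eq_one_iff x).2 h)]⟩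

end Cfsg.Agent.S4283
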