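import Cfsg.Statements.S4284
import Cfsg.Agent.CoprimeSizes.PrimePower
import Cfsg.Agent.CoprimeSizes.ComplementCase
import Cfsg.Agent.CoprimeSizes.OtherCase

set_option autoImplicit false
set_option linter.style.haveILetI false
set_option linter.unusedVariables false
open Cfsg

namespace Cfsg.Agent.S4284

/-- Let G be a finite group with no nontrivial abelian direct factor whose conjugacy class sizes are exactly 1, m and m·n with m, n > 1 coprime. Then m is a prime p dividing n − 1; the elements whose class has size 1 or p form an abelian normal subgroup of index p; G has a normal p-complement; and the commutator subgroup of a Sylow p-subgroup of G has order p. -/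
theorem result {G : Type*} [Group G] [Finite G] (hnodf : ∀ A B : Subgroup G, A.Normal → B.Normal → A ⊓ B = ⊥ → A ⊔ B = ⊤ → IsMulCommutative A → A = ⊥) (m n : ℕ) (hm : 1 < m) (hn : 1 < n) (hcop : m.Coprime n) (h : Set.range (fun x : G => (Subgroup.centralizer ({x} : Set G)).index) = ({1, m, m * n} : Set ℕ)) : m.Prime ∧ m ∣ n - 1 ∧ (∃ M : Subgroup G, M.Normal ∧ (M : Set G) = {x : G | (Subgroup.centralizer ({x} : Set G)).index = 1 ∨ (Subgroup.centralizer ({x} : Set G)).index = m} ∧ M.index = m ∧ IsMulCommutative M) ∧ (∃ N : Subgroup G, N.Normal ∧ (Nat.card N).Coprime m ∧ ∃ a : ℕ, N.index = m ^ a) ∧ ∀ P : Sylow m G, Nat.card (commutator (P : Subgroup G)) = m := by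
  have hmem : ∀ v : ℕ, v ∈ ({1, m, m * n} : Set ℕ) → ∃ x : G, CfsgLib.TwoLargest.k x = v := by
    intro v hv
    rw [← h] at hv
    exact hv
  have H : CfsgLib.CoprimeSizes.Hyp G m n := by
    refine ⟨hm, hn, hcop, fun x hx => ?_, hmem m (by simp), hmem (m * n) (by simp)⟩
    have hx' : CfsgLib.TwoLargest.k x ∈ ({1, m, m * n} : Set ℕ) := h ▸ ⟨x, rfl⟩
    exact ((Set.mem_insert_iff.1 hx').resolve_left fun e =>
      hx (CfsgLib.TwoLargest.mem_center_of_k e)).imp id id
  have hs : m.minFac.Prime := Nat.minFac_prime (by omega)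
  haveI := Fact.mk hs
  obtain ⟨e, he⟩ : ∃ e : ℕ, m = m.minFac ^ e := by
    refine ⟨_, Nat.eq_prime_pow_of_unique_prime_dvd (p := m.minFac) (by omega) ?_⟩
    intro d hd hdm
    haveI := Fact.mk hd
    exact H.prime_unique hdm (Nat.minFac_dvd m)
  by_cases hx : ∃ x : G, CfsgLib.CoprimeSizes.IsS m.minFac x ∧ CfsgLib.TwoLargest.k x = m
  · exact H.case_complement he hx
  · exact (H.case_other he fun x hxs hk => hx ⟨x, hxs, hk⟩).elim

end Cfsg.Agent.S4284
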