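import Cfsg.Statements.S4291
import Cfsg.Agent.Zassenhaus.ComplementInsoluble
-- import your own Cfsg.Agent.* helpers here

set_option autoImplicit false
open Cfsg

namespace Cfsg.Agent.S4291

/-- Let G be a finite group that occurs as a Frobenius complement. Then G has exactly one normal subgroup N such that every Sylow subgroup of N is cyclic and the quotient of G by N is trivial or isomorphic to one of the following five groups: the Klein four-group, the alternating group of degree 4, the symmetric group of degree 4, the alternating group of degree 5, the symmetric group of degree 5. (The quotient is described by a surjective homomorphism with kernel N; the Klein four-group is written as the dihedral group of order 4.) -/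
theorem result {G : Type*} [Group G] [Finite G]
    (hFC : (∃ (L : Type) (_ : Group L) (_ : Finite L) (H : Subgroup L), Cfsg.IsFrobeniusComplement H ∧ Nonempty (G ≃* H))) :
    ∃! N : Subgroup G, N.Normal ∧ (∀ (p : ℕ) [Fact p.Prime] (P : Sylow p N), IsCyclic P) ∧
      (N = ⊤ ∨
        (∃ f : G →* DihedralGroup 2, Function.Surjective f ∧ f.ker = N) ∨
        (∃ f : G →* alternatingGroup (Fin 4), Function.Surjective f ∧ f.ker = N) ∨
        (∃ f : G →* Equiv.Perm (Fin 4), Function.Surjective f ∧ f.ker = N) ∨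
        (∃ f : G →* alternatingGroup (Fin 5), Function.Surjective f ∧ f.ker = N) ∨
        (∃ f : G →* Equiv.Perm (Fin 5), Function.Surjective f ∧ f.ker = N)) := by
  classical
  obtain ⟨L, iL, hL, H, hH, ⟨e⟩⟩ := hFC
  letI := iL
  haveI := hL
  obtain ⟨q, hq, W, φ, hqH, hW, hWc, hWq, hφ⟩ := CfsgLib.Frobenius.CharZero.exists_modular hH
  haveI : Nontrivial W := (Subgroup.nontrivial_iff_ne_bot W).2 hW
  have hfpf := hφ.comp e.toMonoidHom e.injective
  have hlike := CfsgLib.ComplType.isLike_of_fpf hfpf
  have fin : ∀ N₀ : Subgroup G, N₀.Normal → IsZGroup N₀ → CfsgLib.ComplType.IsType N₀ →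
      (∀ N : Subgroup G, N.Normal → IsZGroup N → CfsgLib.ComplType.IsType N → N = N₀) →
      ∃! N : Subgroup G, N.Normal ∧ (∀ (p : ℕ) [Fact p.Prime] (P : Sylow p N), IsCyclic P) ∧
      (N = ⊤ ∨
        (∃ f : G →* DihedralGroup 2, Function.Surjective f ∧ f.ker = N) ∨
        (∃ f : G →* alternatingGroup (Fin 4), Function.Surjective f ∧ f.ker = N) ∨
        (∃ f : G →* Equiv.Perm (Fin 4), Function.Surjective f ∧ f.ker = N) ∨
        (∃ f : G →* alternatingGroup (Fin 5), Function.Surjective f ∧ f.ker = N) ∨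
        (∃ f : G →* Equiv.Perm (Fin 5), Function.Surjective f ∧ f.ker = N)) := fun N₀ h1 h2 h3 h4 =>
    ⟨N₀, ⟨h1, fun p hp P => IsZGroup.isZGroup p hp.out P, h3⟩,
      fun N hN => h4 N hN.1 ⟨fun p hp P => by haveI := Fact.mk hp; exact hN.2.1 p P⟩ hN.2.2⟩
  by_cases hs : Group.IsSolvable G
  · haveI := hs
    obtain ⟨N₀, h1, h2, h3, h4⟩ := hlike.solvable_unique
    refine fin N₀ h1 h2 ?_ h4
    rcases h3 with h3 | h3 | h3 | h3
    · exact Or.inl h3
    · exact Or.inr (Or.inl h3)
    · exact Or.inr (Or.inr (Or.inl h3))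
    · exact Or.inr (Or.inr (Or.inr (Or.inl h3)))
  · obtain ⟨d, τ, hd, hτ⟩ := CfsgLib.Zassenhaus.exists_rep_of_complement hH e
    haveI : Nonempty (Fin d) := ⟨⟨0, hd⟩⟩
    obtain ⟨N₀, h1, h2, h3, h4⟩ := CfsgLib.ComplType.insoluble_unique hlike hτ hs
    exact fin N₀ h1 h2 h3 h4

end Cfsg.Agent.S4291
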