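import Cfsg.Statements.S4292
import Cfsg.Agent.Frobenius.Product

set_option autoImplicit false
set_option linter.style.haveILetI false
open Cfsg

namespace Cfsg.Agent.S4292

/-- Let A and B be nontrivial finite groups. Then the direct product A × B occurs as a Frobenius complement if and only if A and B both occur as Frobenius complements and the orders of A and B are coprime. -/
theorem result {A B : Type*} [Group A] [Finite A] [Nontrivial A] [Group B] [Finite B] [Nontrivial B] :
    (∃ (L : Type) (_ : Group L) (_ : Finite L) (H : Subgroup L), Cfsg.IsFrobeniusComplement H ∧ Nonempty ((A × B) ≃* H)) ↔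
    ((∃ (L : Type) (_ : Group L) (_ : Finite L) (H : Subgroup L), Cfsg.IsFrobeniusComplement H ∧ Nonempty (A ≃* H)) ∧
     (∃ (L : Type) (_ : Group L) (_ : Finite L) (H : Subgroup L), Cfsg.IsFrobeniusComplement H ∧ Nonempty (B ≃* H)) ∧
     (Nat.card A).Coprime (Nat.card B)) := by
  constructor
  · rintro ⟨L, _, _, H, hH, ⟨e⟩⟩
    exact ⟨CfsgLib.Frobenius.Product.exists_complement_of_injective hH e (MonoidHom.inl A B)
        (fun a b h => congrArg Prod.fst h),
      CfsgLib.Frobenius.Product.exists_complement_of_injective hH e (MonoidHom.inr A B)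
        (fun a b h => congrArg Prod.snd h),
      CfsgLib.Frobenius.Product.coprime_of_prod hH e⟩
  · rintro ⟨⟨L₁, _, _, H₁, h₁, ⟨e₁⟩⟩, ⟨L₂, _, _, H₂, h₂, ⟨e₂⟩⟩, hco⟩
    exact CfsgLib.Frobenius.Product.exists_complement_prod h₁ e₁ h₂ e₂ hco

end Cfsg.Agent.S4292
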