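import Cfsg.Statements.S4295
import Cfsg.Agent.Frobenius.QuaternionKernel

set_option autoImplicit false
set_option linter.style.haveILetI false
open Cfsg

namespace Cfsg.Agent.S4295

/-- For a natural number m the following are equivalent: (a) some finite group has a Frobenius complement isomorphic to the quaternion group of order 8 whose Frobenius kernel (the identity together with the elements lying in no conjugate of the complement) has exactly m elements; (b) m is an odd perfect square greater than 1. -/
theorem result (m : ℕ) :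
    (∃ (L : Type) (_ : Group L) (_ : Finite L) (H : Subgroup L), Cfsg.IsFrobeniusComplement H ∧
        Nonempty (H ≃* QuaternionGroup 2) ∧ Nat.card (Cfsg.frobeniusKernel H) = m) ↔
    (Odd m ∧ IsSquare m ∧ 1 < m) := by
  constructor
  · rintro ⟨L, _, _, H, hF, ⟨e⟩, rfl⟩
    haveI : Fact (Nat.Prime 2) := ⟨Nat.prime_two⟩
    obtain ⟨P⟩ : Nonempty (Sylow 2 H) := inferInstance
    have hH : Nat.card H = 8 := by
      rw [Nat.card_congr e.toEquiv, Nat.card_eq_fintype_card, QuaternionGroup.card]
    have hP : ¬ IsCyclic P := by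
      intro hc
      haveI := hc
      have h3 : (Nat.card H).factorization 2 = 3 := by
        rw [hH, show (8 : ℕ) = 2 ^ 3 by norm_num, Nat.prime_two.factorization_pow, Finsupp.single_eq_same]
      have ht : (P : Subgroup H) = ⊤ := Subgroup.eq_top_of_card_eq _ (by
        rw [P.card_eq_multiplicity, h3, hH]; norm_num)
      haveI : IsCyclic H := isCyclic_of_surjective (P : Subgroup H).subtype
        (fun x => ⟨⟨x, ht.symm ▸ Subgroup.mem_top x⟩, rfl⟩)
      haveI : IsCyclic (QuaternionGroup 2) := isCyclic_of_surjective e.toMonoidHom e.surjective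
      have hcc := IsCyclic.commGroup (α := QuaternionGroup 2)
      have hcomm : (QuaternionGroup.a 1 : QuaternionGroup 2) * QuaternionGroup.xa 0 =
          QuaternionGroup.xa 0 * QuaternionGroup.a 1 := by
        obtain ⟨g, hg⟩ := IsCyclic.exists_generator (α := QuaternionGroup 2)
        obtain ⟨i, hi⟩ := Subgroup.mem_zpowers_iff.1 (hg (.a 1))
        obtain ⟨j, hj⟩ := Subgroup.mem_zpowers_iff.1 (hg (.xa 0))
        rw [← hi, ← hj, ← zpow_add, ← zpow_add, add_comm]
      exact absurd hcomm (by decide)
    obtain ⟨h1, h2⟩ := CfsgLib.Frobenius.QuatKernel.odd_square_kernel hF 2 P hP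
    refine ⟨h1, h2, ?_⟩
    rw [CfsgLib.Frobenius.card_frobeniusKernel hF]
    exact CfsgLib.Frobenius.one_lt_index hF
  · rintro ⟨ho, ⟨k, rfl⟩, h1⟩
    have hk : Odd k := (Nat.odd_mul.1 ho).1
    have hk1 : 1 < k := by
      by_contra hk1
      interval_cases k <;> simp_all
    obtain ⟨L, hG, hFi, C, hC, he, hc⟩ := CfsgLib.Frobenius.QuatKernel.exists_group k hk hk1
    exact ⟨L, hG, hFi, C, hC, he, hc.trans (sq k)⟩

end Cfsg.Agent.S4295
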