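import Cfsg.Statements.S4297
import Mathlib.GroupTheory.SpecificGroups.Quaternion
import Mathlib.NumberTheory.PrimesCongruentOne
import Mathlib.RingTheory.IntegralDomain
import Mathlib.Tactic.LinearCombination
import Mathlib.Tactic.FinCases
import Cfsg.Agent.Frobenius.Linear

set_option autoImplicit false
set_option linter.style.haveILetI false
open Cfsg

namespace Cfsg.Agent.S4297

/-- Every dicyclic (generalized quaternion type) group of order 4n, n ≥ 2, is a Frobenius complement. -/
theorem result (n : ℕ) (hn : 2 ≤ n) :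
    ∃ (L : Type) (_ : Group L) (_ : Finite L) (H : Subgroup L), Cfsg.IsFrobeniusComplement H ∧ Nonempty (H ≃* QuaternionGroup n) := by
  haveI : NeZero n := ⟨by omega⟩
  haveI : NeZero (2 * n) := ⟨by omega⟩
  obtain ⟨l, hl, hl1, hlm⟩ := Nat.exists_prime_gt_modEq_one (k := 2 * n) (4 * n) (by omega)
  haveI : Fact l.Prime := ⟨hl⟩
  obtain ⟨u, hu⟩ := IsCyclic.exists_ofOrder_eq_natCard (α := (ZMod l)ˣ)
  rw [Nat.card_eq_fintype_card, ZMod.card_units] at hu
  have hd : 2 * n ∣ l - 1 := (Nat.modEq_iff_dvd' hl.one_le).1 hlm.symm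
  set z : (ZMod l)ˣ := u ^ ((l - 1) / (2 * n)) with hz
  have hzo : orderOf z = 2 * n := by
    have h2 := hl.two_le
    rw [hz, orderOf_pow_of_dvd (Nat.div_pos (Nat.le_of_dvd (by omega) hd) (by omega)).ne'
      (by rw [hu]; exact Nat.div_dvd_of_dvd hd), hu, Nat.div_div_self hd (by omega)]
  have hzn : ((z : ZMod l)) ^ n = -1 := by
    have h1 : ((z : ZMod l) ^ n) ^ 2 = 1 := by
      rw [← pow_mul, mul_comm n 2, ← hzo, ← Units.val_pow_eq_pow_val, pow_orderOf_eq_one,
        Units.val_one]
    rcases sq_eq_one_iff.1 h1 with h | h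
    · exfalso
      have h2 : z ^ n = 1 := Units.ext (by rw [Units.val_pow_eq_pow_val, h, Units.val_one])
      have := Nat.le_of_dvd (by omega) (hzo ▸ orderOf_dvd_of_pow_eq_one h2)
      omega
    · exact h
  let χ : ZMod (2 * n) → ZMod l := fun i => ((z ^ i.val : (ZMod l)ˣ) : ZMod l)
  have hχadd : ∀ i j, χ (i + j) = χ i * χ j := by
    intro i j
    simp only [χ, ← Units.val_mul, ← pow_add, ZMod.val_add]
    congr 1
    rw [show (i.val + j.val) % (2 * n) = (i.val + j.val) % orderOf z by rw [hzo]]
    exact pow_mod_orderOf z _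
  have hχ0 : χ 0 = 1 := by simp [χ]
  have hχinv : ∀ i, χ i * χ (-i) = 1 := fun i => by rw [← hχadd, add_neg_cancel, hχ0]
  have hχn : χ (n : ZMod (2 * n)) = -1 := by
    simp only [χ, ZMod.val_natCast, Nat.mod_eq_of_lt (show n < 2 * n by omega),
      Units.val_pow_eq_pow_val, hzn]
  let F : QuaternionGroup n → Matrix (Fin 2) (Fin 2) (ZMod l) := fun g =>
    match g with
    | QuaternionGroup.a i => !![χ i, 0; 0, χ (-i)]
    | QuaternionGroup.xa i => !![0, χ (-i); -χ i, 0]
  let f : QuaternionGroup n →* Matrix (Fin 2) (Fin 2) (ZMod l) :=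
    { toFun := F
      map_one' := by
        show F (QuaternionGroup.a 0) = 1
        simp only [F, neg_zero, hχ0, Matrix.one_fin_two]
      map_mul' := by
        rintro (i | i) (j | j) <;>
          simp only [QuaternionGroup.a_mul_a, QuaternionGroup.a_mul_xa, QuaternionGroup.xa_mul_a,
            QuaternionGroup.xa_mul_xa, F, Matrix.mul_fin_two, sub_eq_add_neg, neg_add, neg_neg,
            hχadd, mul_zero, zero_mul, add_zero, zero_add]
        all_goals
          have h2 : χ (-(n : ZMod (2 * n))) = -1 := by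
            have h3 := hχinv (n : ZMod (2 * n))
            rw [hχn] at h3
            linear_combination -h3
        all_goals
          ext a b
          fin_cases a <;> fin_cases b <;> simp [hχn, h2] <;> ring }
  have hcard : Nat.card (QuaternionGroup n) = 4 * n := by
    rw [Nat.card_eq_fintype_card, QuaternionGroup.card]
  have hnd : ¬ l ∣ Nat.card (QuaternionGroup n) := by
    rw [hcard]
    exact fun h => absurd (Nat.le_of_dvd (by omega) h) (by omega)
  haveI : Nontrivial (QuaternionGroup n) := Finite.one_lt_card_iff_nontrivial.1 (by omega)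
  obtain ⟨L, hG, hFin, C, hC, ⟨e⟩, -⟩ := CfsgLib.Frobenius.exists_complement_of_SL2 l hnd f
    (by
      rintro (i | i)
      · show Matrix.det !![χ i, 0; 0, χ (-i)] = 1
        rw [Matrix.det_fin_two_of, mul_zero, sub_zero, hχinv]
      · show Matrix.det !![0, χ (-i); -χ i, 0] = 1
        rw [Matrix.det_fin_two_of, zero_mul, zero_sub, mul_neg, neg_neg, mul_comm, hχinv])
    (by
      rintro (i | i) h
      · have h1 : χ i = 1 := by simpa [f, F] using congrFun (congrFun h 0) 0
        have h2 : z ^ i.val = 1 := Units.ext h1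
        have h3 := hzo ▸ orderOf_dvd_of_pow_eq_one h2
        have h4 : i = 0 := (ZMod.val_eq_zero i).1 (Nat.eq_zero_of_dvd_of_lt h3 i.val_lt)
        rw [h4, QuaternionGroup.one_def]
      · have h1 : (0 : ZMod l) = 1 := by simpa [f, F] using congrFun (congrFun h 0) 0
        exact absurd h1 zero_ne_one)
  exact ⟨L, hG, hFin, C, hC, ⟨e.symm⟩⟩

end Cfsg.Agent.S4297
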