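import Cfsg.Statements.S4298
import Cfsg.Agent.Frobenius.Linear

set_option autoImplicit false
set_option linter.style.haveILetI false
open Cfsg

namespace Cfsg.Agent.S4298

/-- The elements of `SL(2,3)` as quadruples. -/
def elts : List (ℕ × ℕ × ℕ × ℕ) :=
    [(0, 1, 2, 0), (0, 1, 2, 1), (0, 1, 2, 2), (0, 2, 1, 0), (0, 2, 1, 1), (0, 2, 1, 2), (1,
    0, 0, 1), (1, 0, 1, 1), (1, 0, 2, 1), (1, 1, 0, 1), (1, 1, 1, 2), (1, 1, 2, 0), (1, 2, 0,
    1), (1, 2, 1, 0), (1, 2, 2, 2), (2, 0, 0, 2), (2, 0, 1, 2), (2, 0, 2, 2), (2, 1, 0, 2),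
    (2, 1, 1, 1), (2, 1, 2, 0), (2, 2, 0, 2), (2, 2, 1, 0), (2, 2, 2, 1)]

/-- The images in `SL(2,5)`, indexed by `27a+9b+3c+d`. -/
def table : List (ℕ × ℕ × ℕ × ℕ) :=
    [(0, 0, 0, 0), (0, 0, 0, 0), (0, 0, 0, 0), (0, 0, 0, 0), (0, 0, 0, 0), (0, 0, 0, 0), (0,
    0, 0, 0), (0, 0, 0, 0), (0, 0, 0, 0), (0, 0, 0, 0), (0, 0, 0, 0), (0, 0, 0, 0), (0, 0, 0,
    0), (0, 0, 0, 0), (0, 0, 0, 0), (0, 1, 4, 0), (4, 1, 2, 2), (1, 3, 4, 3), (0, 0, 0, 0),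
    (0, 0, 0, 0), (0, 0, 0, 0), (0, 4, 1, 0), (4, 2, 1, 2), (1, 4, 3, 3), (0, 0, 0, 0), (0, 0,
    0, 0), (0, 0, 0, 0), (0, 0, 0, 0), (1, 0, 0, 1), (0, 0, 0, 0), (0, 0, 0, 0), (1, 1, 2, 3),
    (0, 0, 0, 0), (0, 0, 0, 0), (3, 4, 3, 1), (0, 0, 0, 0), (0, 0, 0, 0), (1, 2, 1, 3), (0, 0,
    0, 0), (0, 0, 0, 0), (0, 0, 0, 0), (2, 0, 0, 3), (2, 3, 4, 4), (0, 0, 0, 0), (0, 0, 0, 0),
    (0, 0, 0, 0), (3, 3, 4, 1), (0, 0, 0, 0), (2, 4, 3, 4), (0, 0, 0, 0), (0, 0, 0, 0), (0, 0,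
    0, 0), (0, 0, 0, 0), (0, 3, 3, 0), (0, 0, 0, 0), (0, 0, 0, 0), (4, 0, 0, 4), (0, 0, 0, 0),
    (0, 0, 0, 0), (2, 1, 2, 4), (0, 0, 0, 0), (0, 0, 0, 0), (4, 4, 3, 2), (0, 0, 0, 0), (0, 0,
    0, 0), (2, 2, 1, 4), (0, 0, 0, 0), (0, 2, 2, 0), (0, 0, 0, 0), (3, 1, 2, 1), (0, 0, 0, 0),
    (0, 0, 0, 0), (0, 0, 0, 0), (0, 0, 0, 0), (4, 3, 4, 2), (3, 2, 1, 1), (0, 0, 0, 0), (0, 0,
    0, 0), (0, 0, 0, 0), (3, 0, 0, 2), (0, 0, 0, 0)]

/-- The image of a quadruple. -/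
def img (x : ℕ × ℕ × ℕ × ℕ) : ℕ × ℕ × ℕ × ℕ :=
  table.getD (27 * x.1 + 9 * x.2.1 + 3 * x.2.2.1 + x.2.2.2) (0, 0, 0, 0)

/-- Multiplication of quadruples modulo `k`. -/
def mulMod (k : ℕ) (x y : ℕ × ℕ × ℕ × ℕ) : ℕ × ℕ × ℕ × ℕ :=
  ((x.1 * y.1 + x.2.1 * y.2.2.1) % k, (x.1 * y.2.1 + x.2.1 * y.2.2.2) % k,
    (x.2.2.1 * y.1 + x.2.2.2 * y.2.2.1) % k, (x.2.2.1 * y.2.1 + x.2.2.2 * y.2.2.2) % k)

theorem img_mul : ∀ x ∈ elts, ∀ y ∈ elts, img (mulMod 3 x y) = mulMod 5 (img x) (img y) := by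
  decide +kernel

theorem img_det : ∀ x ∈ elts, ((img x).1 * (img x).2.2.2 + 4 * ((img x).2.1 * (img x).2.2.1)) % 5 = 1 := by
  decide +kernel

theorem img_inj : ∀ x ∈ elts, ((img x).1 % 5, (img x).2.1 % 5, (img x).2.2.1 % 5, (img x).2.2.2 % 5) =
    (1, 0, 0, 1) → x = (1, 0, 0, 1) := by
  decide +kernel

theorem mem_elts : ∀ a b c d : ZMod 3, a * d - b * c = 1 → (a.val, b.val, c.val, d.val) ∈ elts := by
  decide +kernel

/-- The quadruple of an element of `SL(2,3)`. -/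
def quad (m : Matrix.SpecialLinearGroup (Fin 2) (ZMod 3)) : ℕ × ℕ × ℕ × ℕ :=
  ((m.1 0 0).val, (m.1 0 1).val, (m.1 1 0).val, (m.1 1 1).val)

theorem quad_mem (m : Matrix.SpecialLinearGroup (Fin 2) (ZMod 3)) : quad m ∈ elts := by
  refine mem_elts _ _ _ _ ?_
  have h := m.2
  rwa [Matrix.det_fin_two] at h

theorem quad_mul (m n : Matrix.SpecialLinearGroup (Fin 2) (ZMod 3)) :
    quad (m * n) = mulMod 3 (quad m) (quad n) := by
  have e : ∀ a b c d : ZMod 3, (a * b + c * d).val = (a.val * b.val + c.val * d.val) % 3 := by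
    intro a b c d
    rw [ZMod.val_add, ZMod.val_mul, ZMod.val_mul, ← Nat.add_mod]
  simp only [quad, mulMod, Matrix.SpecialLinearGroup.coe_mul, Matrix.mul_apply, Fin.sum_univ_two, e]

theorem quad_one : quad 1 = (1, 0, 0, 1) := by decide +kernel

/-- The matrix over `ZMod 5` of a quadruple. -/
def toMat (x : ℕ × ℕ × ℕ × ℕ) : Matrix (Fin 2) (Fin 2) (ZMod 5) :=
  !![(x.1 : ZMod 5), (x.2.1 : ZMod 5); (x.2.2.1 : ZMod 5), (x.2.2.2 : ZMod 5)]

theorem toMat_mul (x y : ℕ × ℕ × ℕ × ℕ) : toMat (mulMod 5 x y) = toMat x * toMat y := by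
  simp only [toMat, mulMod, Matrix.mul_fin_two, ZMod.natCast_mod, Nat.cast_add, Nat.cast_mul]

theorem toMat_one : toMat (img (1, 0, 0, 1)) = 1 := by decide +kernel

theorem four_eq : ((4 : ℕ) : ZMod 5) = -1 := by decide +kernel

/-- A nontrivial element. -/
def shear : Matrix.SpecialLinearGroup (Fin 2) (ZMod 3) := ⟨!![1, 1; 0, 1], by decide +kernel⟩

theorem shear_ne : 1 ≠ shear := by decide +kernel

theorem card_sl : Fintype.card (Matrix.SpecialLinearGroup (Fin 2) (ZMod 3)) = 24 := by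
  decide +kernel

/-- SL(2,3) is a Frobenius complement. -/
theorem result :
    ∃ (L : Type) (_ : Group L) (_ : Finite L) (H : Subgroup L), Cfsg.IsFrobeniusComplement H ∧ Nonempty (H ≃* Matrix.SpecialLinearGroup (Fin 2) (ZMod 3)) := by
  haveI : Fact (Nat.Prime 5) := ⟨by norm_num⟩
  haveI : Fact (Nat.Prime 3) := ⟨by norm_num⟩
  let f : Matrix.SpecialLinearGroup (Fin 2) (ZMod 3) →* Matrix (Fin 2) (Fin 2) (ZMod 5) :=
    { toFun := fun m => toMat (img (quad m))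
      map_one' := by
        show toMat (img (quad 1)) = 1
        rw [quad_one, toMat_one]
      map_mul' := fun m n => by
        show toMat (img (quad (m * n))) = _
        rw [quad_mul, img_mul _ (quad_mem m) _ (quad_mem n), toMat_mul] }
  haveI : Nontrivial (Matrix.SpecialLinearGroup (Fin 2) (ZMod 3)) :=
    ⟨⟨1, shear, shear_ne⟩⟩
  have hcard : Nat.card (Matrix.SpecialLinearGroup (Fin 2) (ZMod 3)) = 24 := by
    rw [Nat.card_eq_fintype_card, card_sl]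
  obtain ⟨L, hG, hF, C, hC, ⟨e⟩, -⟩ := CfsgLib.Frobenius.exists_complement_of_SL2 5
    (by rw [hcard]; norm_num) f
    (fun m => by
      have h := img_det _ (quad_mem m)
      have h2 := congrArg (fun k : ℕ => (k : ZMod 5)) h
      simp only [ZMod.natCast_mod, Nat.cast_add, Nat.cast_mul] at h2
      show (toMat (img (quad m))).det = 1
      have h4 := four_eq
      rw [toMat, Matrix.det_fin_two_of]
      rw [h4] at h2
      simpa [sub_eq_add_neg] using h2)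
    (fun m hm => by
      have hv : ∀ k : ℕ, k % 5 = ((k : ZMod 5)).val := fun k => (ZMod.val_natCast 5 k).symm
      have hx := img_inj _ (quad_mem m)
      have e : ∀ i j, toMat (img (quad m)) i j = (1 : Matrix (Fin 2) (Fin 2) (ZMod 5)) i j :=
        fun i j => congrFun (congrFun hm i) j
      have h00 := e 0 0
      have h01 := e 0 1
      have h10 := e 1 0
      have h11 := e 1 1
      simp [toMat] at h00 h01 h10 h11
      have hq := hx (by rw [hv, hv, hv, hv, h00, h01, h10, h11]; rfl)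
      rw [← quad_one] at hq
      simp only [quad, Prod.mk.injEq] at hq
      obtain ⟨q00, q01, q10, q11⟩ := hq
      ext i j
      fin_cases i <;> fin_cases j
      exacts [ZMod.val_injective 3 q00, ZMod.val_injective 3 q01, ZMod.val_injective 3 q10,
        ZMod.val_injective 3 q11])
  exact ⟨L, hG, hF, C, hC, ⟨e.symm⟩⟩

end Cfsg.Agent.S4298
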