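import Cfsg.Statements.S4299
import Mathlib.NumberTheory.PrimesCongruentOne
import Mathlib.RingTheory.IntegralDomain
import Cfsg.Agent.Frobenius.Linear

set_option autoImplicit false
set_option linter.style.haveILetI false
open Cfsg

namespace Cfsg.Agent.S4299

/-- Every nontrivial finite cyclic group is a Frobenius complement. -/
theorem result {C : Type*} [Group C] [Finite C] [IsCyclic C] [Nontrivial C] :
    ∃ (L : Type) (_ : Group L) (_ : Finite L) (H : Subgroup L), Cfsg.IsFrobeniusComplement H ∧ Nonempty (C ≃* H) := by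
  obtain ⟨l, hl, -, hlm⟩ := Nat.exists_prime_gt_modEq_one (k := Nat.card C) 0 Nat.card_pos.ne'
  haveI : Fact l.Prime := ⟨hl⟩
  obtain ⟨g, hg⟩ := IsCyclic.exists_generator (α := (ZMod l)ˣ)
  have hgo : orderOf g = l - 1 := by
    rw [orderOf_eq_card_of_forall_mem_zpowers hg, Nat.card_eq_fintype_card, ZMod.card_units]
  have hd : Nat.card C ∣ l - 1 := (Nat.modEq_iff_dvd' hl.one_le).1 hlm.symm
  set z : (ZMod l)ˣ := g ^ ((l - 1) / Nat.card C)
  have hzo : orderOf z = Nat.card C := by
    have h2 := hl.two_le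
    rw [orderOf_pow_of_dvd (Nat.div_pos (Nat.le_of_dvd (by omega) hd) Nat.card_pos).ne'
      (by rw [hgo]; exact Nat.div_dvd_of_dvd hd), hgo, Nat.div_div_self hd (by omega)]
  let e : C ≃* Subgroup.zpowers z := mulEquivOfCyclicCardEq (by rw [Nat.card_zpowers, hzo])
  let ρ : C →* AddMonoid.End (ZMod l) :=
    { toFun := fun c => AddMonoidHom.mulLeft ((e c : (ZMod l)ˣ) : ZMod l)
      map_one' := by
        refine AddMonoidHom.ext fun v => ?_
        show ((e 1 : (ZMod l)ˣ) : ZMod l) * v = v
        simp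
      map_mul' := fun a b => by
        refine AddMonoidHom.ext fun v => ?_
        show ((e (a * b) : (ZMod l)ˣ) : ZMod l) * v = _ * (_ * v)
        simp [mul_assoc] }
  obtain ⟨L, hG, hF, H, hH, he, -⟩ := CfsgLib.Frobenius.exists_complement_of_addRep ρ
    (fun c hc v hv => by
      by_contra hv0
      have h1 : ((e c : (ZMod l)ˣ) : ZMod l) * v = v := hv
      refine hc (e.injective (Subtype.ext (Units.ext ?_)))
      rw [map_one, Subgroup.coe_one, Units.val_one]
      exact (mul_eq_right₀ hv0).1 h1)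
  exact ⟨L, hG, hF, H, hH, he⟩

end Cfsg.Agent.S4299
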