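import Cfsg.Statements.S4300
import Mathlib.GroupTheory.GroupAction.Primitive
import Mathlib.GroupTheory.Subgroup.Simple

set_option autoImplicit false
set_option linter.style.haveILetI false
open Cfsg

namespace Cfsg.Agent.S4300

/-- Let G act faithfully and primitively on a set X, and suppose the stabilizer of some point is a simple group. Then either G is simple, or G has a normal subgroup, neither trivial nor the whole group, that acts regularly on X (transitively with trivial point stabilizers). -/
theorem result {G : Type*} [Group G] {X : Type*} [MulAction G X] [FaithfulSMul G X]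
    (hprim : MulAction.IsPreprimitive G X) (x : X) (hsimple : IsSimpleGroup (MulAction.stabilizer G x)) :
    IsSimpleGroup G ∨ ∃ N : Subgroup G, N.Normal ∧ N ≠ ⊥ ∧ N ≠ ⊤ ∧
      MulAction.IsPretransitive N X ∧ ∀ y : X, MulAction.stabilizer N y = ⊥ := by
  haveI := hprim
  haveI := hsimple
  haveI : Nontrivial G := (Subtype.val_injective (p := (· ∈ MulAction.stabilizer G x))).nontrivial
  by_cases hs : IsSimpleGroup G
  · exact Or.inl hs
  obtain ⟨N, hN, hN1, hN2⟩ : ∃ N : Subgroup G, N.Normal ∧ N ≠ ⊥ ∧ N ≠ ⊤ := by
    by_contra! h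
    exact hs ⟨fun N hN => or_iff_not_imp_left.2 (h N hN)⟩
  haveI := hN
  have htr : MulAction.IsPretransitive N X := by
    refine MulAction.IsQuasiPreprimitive.isPretransitive_of_normal (G := G) fun h => hN1 ?_
    rw [Subgroup.eq_bot_iff_forall]
    intro n hn
    refine eq_of_smul_eq_smul (α := X) fun y => ?_
    have := (MulAction.mem_fixedPoints.1 (h ▸ Set.mem_univ y : y ∈ MulAction.fixedPoints N X)) ⟨n, hn⟩
    rw [one_smul]; exact this
  have hK : (N.subgroupOf (MulAction.stabilizer G x)).Normal := inferInstance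
  rcases hK.eq_bot_or_eq_top with h | h
  · refine Or.inr ⟨N, hN, hN1, hN2, htr, fun y => ?_⟩
    rw [Subgroup.eq_bot_iff_forall]
    intro n hn
    obtain ⟨k, hk⟩ := MulAction.exists_smul_eq N x y
    have hx' : k⁻¹ * n * k ∈ MulAction.stabilizer N x := by
      rw [MulAction.mem_stabilizer_iff] at hn ⊢
      rw [mul_smul, mul_smul, hk, hn, ← hk, inv_smul_smul]
    have : (⟨((k⁻¹ * n * k : N) : G), hx'⟩ : MulAction.stabilizer G x) ∈
        N.subgroupOf (MulAction.stabilizer G x) := (k⁻¹ * n * k).2
    rw [h, Subgroup.mem_bot] at this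
    have h1 : (k⁻¹ * n * k : N) = 1 := Subtype.ext (congrArg (fun t : MulAction.stabilizer G x => (t : G)) this)
    have h2 : n = k * (k⁻¹ * n * k) * k⁻¹ := by simp [mul_assoc]
    rw [h2, h1]
    simp
  · exfalso
    apply hN2
    rw [Subgroup.subgroupOf_eq_top] at h
    rw [Subgroup.eq_top_iff']
    intro g
    obtain ⟨k, hk⟩ := MulAction.exists_smul_eq N x (g • x)
    have hs : (k : G)⁻¹ * g ∈ MulAction.stabilizer G x := by
      rw [MulAction.mem_stabilizer_iff, mul_smul, ← hk]
      show (k : G)⁻¹ • ((k : G) • x) = x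
      rw [inv_smul_smul]
    have := mul_mem k.2 (h hs)
    rwa [mul_inv_cancel_left] at this

end Cfsg.Agent.S4300
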