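import Cfsg.Statements.S4302
import Cfsg.Agent.FGSA.ThompsonA.AbelianOffender
import Cfsg.Agent.FGSA.ThompsonA.SThreeProduct
import Cfsg.Agent.Kinf.ClassTwoFactor
import Cfsg.Agent.ZJ.ThompsonComplement
import Cfsg.Agent.Solvable.Fitting

set_option autoImplicit false
set_option linter.style.haveILetI false
open Cfsg

namespace Cfsg.Agent.S4302

/-- Let `X` be a finite solvable group whose Fitting subgroup is a 2-group (equivalently `F(X) = O₂(X)`), `T` a Sylow 2-subgroup of `X`, `J(T)` the subgroup generated by the abelian subgroups of `T` of largest order, `C` the largest normal subgroup of `X` centralizing the centre `Z(T)`, and `Y` the normal closure of `J(T)` in `X`. Then `X = C · Y · N_X(J(T))`, and either `Y ≤ C`, or `CY/C` is isomorphic to a direct product of at least one copy of the symmetric group of degree 3. -/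
theorem result {X : Type*} [Group X] [Finite X]
    [Group.IsSolvable X] (hF : Cfsg.fittingSubgroup X = Cfsg.pCore 2 X) (T : Sylow 2 X) :
    ((Subgroup.centralizer (((T : Subgroup X) ⊓ Subgroup.centralizer ((T : Subgroup X) : Set X) : Subgroup X) : Set X)).normalCore
        ⊔ Subgroup.normalClosure (Cfsg.thompsonSubgroupAOf (T : Subgroup X) : Set X)
        ⊔ Subgroup.normalizer (Cfsg.thompsonSubgroupAOf (T : Subgroup X) : Set X) = ⊤) ∧
    (Subgroup.normalClosure (Cfsg.thompsonSubgroupAOf (T : Subgroup X) : Set X)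
        ≤ (Subgroup.centralizer (((T : Subgroup X) ⊓ Subgroup.centralizer ((T : Subgroup X) : Set X) : Subgroup X) : Set X)).normalCore
      ∨ ∃ n : ℕ, 1 ≤ n ∧
        Nonempty (↥(Subgroup.normalClosure (Cfsg.thompsonSubgroupAOf (T : Subgroup X) : Set X)) ⧸
            ((Subgroup.centralizer (((T : Subgroup X) ⊓ Subgroup.centralizer ((T : Subgroup X) : Set X) : Subgroup X) : Set X)).normalCore).subgroupOf
              (Subgroup.normalClosure (Cfsg.thompsonSubgroupAOf (T : Subgroup X) : Set X))
          ≃* (Fin n → Equiv.Perm (Fin 3)))) := by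
  classical
  haveI : Fact (Nat.Prime 2) := ⟨Nat.prime_two⟩
  set J := Cfsg.thompsonSubgroupAOf (T : Subgroup X) with hJ
  set Z := (T : Subgroup X) ⊓ Subgroup.centralizer ((T : Subgroup X) : Set X) with hZ
  set C := (Subgroup.centralizer (Z : Set X)).normalCore with hC
  set Y := Subgroup.normalClosure (J : Set X) with hY
  haveI hYn : Y.Normal := Subgroup.normalClosure_normal
  haveI hCn : C.Normal := Subgroup.normalCore_normal _
  set F := CfsgLib.ZJ.fam (fun A : Subgroup X => IsMulCommutative A) (T : Subgroup X) with hFam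
  have hJfam : J = sSup F := CfsgLib.ZJ.thompsonSubgroupAOf_eq_fam _
  have hJT : J ≤ T := hJfam ▸ sSup_le fun A hA => hA.2.1
  have hJY : J ≤ Y := Subgroup.le_normalClosure
  constructor
  · -- the Frattini argument
    set T0 := (T : Subgroup X) ⊓ Y with hT0
    have hT0p : IsPGroup 2 (T0.subgroupOf Y) :=
      (T.isPGroup'.to_le inf_le_left).of_equiv (Subgroup.subgroupOfEquivOfLe inf_le_right).symm
    obtain ⟨P, hP⟩ := hT0p.exists_le_sylow
    have hPT : (P : Subgroup Y).map Y.subtype = T0 := by
      refine (Subgroup.eq_of_le_of_card_ge ?_ ?_).symm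
      · exact (Subgroup.map_subgroupOf_eq_of_le (inf_le_right : T0 ≤ Y)).symm.le.trans
          (Subgroup.map_mono hP)
      · obtain ⟨Q, hQ⟩ := (P.isPGroup'.map Y.subtype).exists_le_sylow
        obtain ⟨g, hg⟩ := MulAction.exists_smul_eq X Q T
        refine Nat.card_le_card_of_injective
          (fun x => ⟨g * (x : X) * g⁻¹, ?_, hYn.conj_mem _ (Subgroup.map_subtype_le _ x.2) g⟩)
          fun x y h => Subtype.ext (mul_left_cancel (mul_right_cancel (congrArg Subtype.val h)))
        rw [← hg, Sylow.coe_subgroup_smul]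
        exact Subgroup.smul_mem_pointwise_smul _ (MulAut.conj g) _ (hQ x.2)
    have hfr := Sylow.normalizer_sup_eq_top P
    rw [hPT] at hfr
    have hNJ : Subgroup.normalizer (T0 : Set X) ≤ Subgroup.normalizer (J : Set X) := by
      have key : ∀ g ∈ Subgroup.normalizer (T0 : Set X), ∀ x ∈ J, g * x * g⁻¹ ∈ J := by
        intro g hg
        have hle : J ≤ J.comap (MulAut.conj g).toMonoidHom := by
          conv_lhs => rw [hJfam]
          refine sSup_le fun A hA => ?_
          rw [← Subgroup.map_le_iff_le_comap]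
          have hAJ : A ≤ J := hJfam ▸ le_sSup hA
          have hAT0 : A ≤ T0 := le_inf hA.2.1 (hAJ.trans hJY)
          have h1 : A.map (MulAut.conj g).toMonoidHom ≤ T0 := by
            rintro _ ⟨a, ha, rfl⟩
            exact (Subgroup.mem_normalizer_iff.mp hg a).mp (hAT0 ha)
          rw [hJfam]
          refine le_sSup ⟨?_, h1.trans inf_le_left, fun B hB hBT => ?_⟩
          · haveI := hA.1
            exact Subgroup.map_isMulCommutative A _
          · rw [Subgroup.card_map_of_injective (MulAut.conj g).injective]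
            exact hA.2.2 B hB hBT
        exact fun x hx => hle hx
      intro g hg
      refine Subgroup.mem_normalizer_iff.mpr fun x => ⟨key g hg x, fun h => ?_⟩
      have := key g⁻¹ (inv_mem hg) _ h
      simpa [mul_assoc] using this
    rw [eq_top_iff, ← hfr]
    exact sup_le (hNJ.trans le_sup_right) (le_sup_right.trans le_sup_left)
  -- the module
  set Q := Cfsg.pCore 2 X with hQ
  haveI hQn : Q.Normal := CfsgLib.Solvable.pCore_normal 2
  have hQT : Q ≤ T := CfsgLib.Fitting.pCore_le_sylow T
  have hZQ : Z ≤ Q ⊓ Subgroup.centralizer (Q : Set X) := by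
    intro z hz
    have hzc : z ∈ Subgroup.centralizer (Q : Set X) :=
      Subgroup.mem_centralizer_iff.mpr fun q hq => Subgroup.mem_centralizer_iff.mp hz.2 q (hQT hq)
    refine ⟨?_, hzc⟩
    rw [← hF] at hzc ⊢
    exact CfsgLib.Fitting.centralizer_fittingSubgroup_le_of_solvable hzc
  set V := Subgroup.normalClosure (Z : Set X) with hV
  haveI hVn : V.Normal := Subgroup.normalClosure_normal
  haveI hZQn : (Q ⊓ Subgroup.centralizer (Q : Set X)).Normal := Subgroup.normal_inf_normal _ _
  have hVQ : V ≤ Q ⊓ Subgroup.centralizer (Q : Set X) := Subgroup.normalClosure_le_normal hZQ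
  have hVc : ∀ v ∈ V, ∀ w ∈ V, v * w = w * v := fun v hv w hw =>
    Subgroup.mem_centralizer_iff.mp (hVQ hw).2 v (hVQ hv).1
  have hVT : V ≤ T := (hVQ.trans inf_le_left).trans hQT
  have hCV : C = Subgroup.centralizer (V : Set X) := by
    refine le_antisymm (fun c hc => ?_) (Subgroup.normal_le_normalCore.mpr
      (Subgroup.centralizer_le Subgroup.le_normalClosure))
    have h1 : V ≤ Subgroup.centralizer (C : Set X) := Subgroup.normalClosure_le_normal fun z hz =>
      Subgroup.mem_centralizer_iff.mpr fun x hx =>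
        (Subgroup.mem_centralizer_iff.mp (Subgroup.normalCore_le _ hx) z hz).symm
    exact Subgroup.mem_centralizer_iff.mpr fun v hv =>
      (Subgroup.mem_centralizer_iff.mp (h1 hv) c hc).symm
  let W : Subgroup X :=
    { carrier := {z | z ∈ V ∧ z * z = 1}
      one_mem' := ⟨V.one_mem, one_mul 1⟩
      mul_mem' := fun {v w} hv hw => ⟨V.mul_mem hv.1 hw.1, by
        rw [show v * w * (v * w) = v * (w * v) * w by group, hVc w hw.1 v hv.1,
          show v * (v * w) * w = (v * v) * (w * w) by group, hv.2, hw.2, one_mul]⟩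
      inv_mem' := fun {v} hv => ⟨V.inv_mem hv.1, by rw [← mul_inv_rev, hv.2, inv_one]⟩ }
  have hWV : W ≤ V := fun x hx => hx.1
  haveI hWn : W.Normal := ⟨fun n hn g => ⟨hVn.conj_mem n hn.1 g, by
    rw [show g * n * g⁻¹ * (g * n * g⁻¹) = g * (n * n) * g⁻¹ by group, hn.2, mul_one, mul_inv_cancel]⟩⟩
  letI : CommGroup W :=
    { (inferInstance : Group W) with mul_comm := fun a b => Subtype.ext (hVc a a.2.1 b b.2.1) }
  set π : X →* (MulAut.conjNormal (H := W)).range := MulAut.conjNormal.rangeRestrict with hπ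
  set ρ := (MulAut.conjNormal (H := W)).range.subtype with hρdef
  have hρπ : ∀ (x : X) (w : W), ((ρ (π x) w : W) : X) = x * w * x⁻¹ := fun x w =>
    MulAut.conjNormal_apply x w
  have hkW : ∀ x : X, π x = 1 ↔ ∀ w : W, x * (w : X) * x⁻¹ = w := by
    intro x
    constructor
    · intro h w
      rw [← hρπ, h, map_one]
      rfl
    · intro h
      exact Subtype.ext (MulEquiv.ext fun w => Subtype.ext ((hρπ x w).trans (h w)))
  have hQp : IsPGroup 2 Q := CfsgLib.Solvable.isPGroup_pCore 2
  -- odd elements acting trivially on `W` centralize `V`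
  have hodd : ∀ y : X, Odd (orderOf y) → π y = 1 → y ∈ C := by
    intro y hy h1
    rw [hCV]
    refine Subgroup.mem_centralizer_iff.mpr fun v hv => ?_
    obtain ⟨k, hk⟩ := hQp ⟨v, (hVQ hv).1⟩
    refine (mul_inv_eq_iff_eq_mul.mp (CfsgLib.Kinf.fix_of_fix_involutions hVc hy
      (by rw [Subgroup.normalizer_eq_top]; trivial)
      (fun w hw hw2 => (hkW y).mp h1 ⟨w, hw, hw2⟩) k v hv (congrArg Subtype.val hk))).symm
  have hcore : ∀ N : Subgroup X, N.Normal → (∀ y ∈ N, Odd (orderOf y) → π y = 1) → N ≤ C := by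
    intro N hN h
    refine Subgroup.normal_le_normalCore.mpr ?_
    set q := QuotientGroup.mk' C
    have hp : IsPGroup 2 (N.map q) := by
      rintro ⟨_, x, hx, rfl⟩
      refine ⟨(orderOf x).factorization 2, Subtype.ext ?_⟩
      show q x ^ 2 ^ (orderOf x).factorization 2 = 1
      rw [← map_pow]
      refine (QuotientGroup.eq_one_iff _).mpr (hodd _ ?_ (h _ (pow_mem hx _) ?_)) <;>
      · rw [orderOf_pow_of_dvd (pow_ne_zero _ two_ne_zero) (Nat.ordProj_dvd _ 2)]
        exact (Nat.coprime_two_left).mp (Nat.coprime_ordCompl Nat.prime_two (orderOf_pos x).ne')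
    haveI : (N.map q).Normal := hN.map q (QuotientGroup.mk'_surjective C)
    have hNT : N.map q ≤ (T : Subgroup X).map q :=
      fun x hx => CfsgLib.Fitting.pCore_le_sylow (T.mapSurjective (QuotientGroup.mk'_surjective C))
        (CfsgLib.Solvable.le_pCore 2 inferInstance hp hx)
    intro n hn
    obtain ⟨t, ht, htn⟩ := hNT (Subgroup.mem_map_of_mem q hn)
    have hc : t⁻¹ * n ∈ C := QuotientGroup.eq.mp htn
    rw [show n = t * (t⁻¹ * n) by group]
    exact mul_mem (Subgroup.mem_centralizer_iff.mpr fun z hz =>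
      (Subgroup.mem_centralizer_iff.mp hz.2 t ht).symm) (Subgroup.normalCore_le _ hc)
  have hker : π.ker = C := by
    refine le_antisymm (hcore π.ker inferInstance fun y hy _ => hy) fun c hc => ?_
    rw [hCV] at hc
    refine (hkW c).mpr fun w => ?_
    rw [← Subgroup.mem_centralizer_iff.mp hc w w.2.1, mul_inv_cancel_right]
  have hsolv : Group.IsSolvable (MulAut.conjNormal (H := W)).range :=
    Group.isSolvable_of_surjective MulAut.conjNormal.rangeRestrict_surjective
  have hW2 : ∀ w : W, w * w = 1 := fun w => Subtype.ext w.2.2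
  have hρ : Function.Injective ρ := Subgroup.subtype_injective _
  have hO : ∀ N : Subgroup (MulAut.conjNormal (H := W)).range, N.Normal → IsPGroup 2 N → N = ⊥ := by
    intro N hN hNp
    have h1 : N.comap π ≤ C := by
      refine hcore _ (hN.comap π) fun y hy hyo => ?_
      obtain ⟨k, hk⟩ := hNp ⟨π y, hy⟩
      have hd1 : orderOf (π y) ∣ 2 ^ k := orderOf_dvd_of_pow_eq_one (congrArg Subtype.val hk)
      exact orderOf_eq_one_iff.mp (Nat.Coprime.eq_one_of_dvd
        ((Nat.coprime_two_right.mpr (hyo.of_dvd_nat (orderOf_map_dvd π y))).pow_right k) hd1)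
    rw [eq_bot_iff]
    intro z hz
    obtain ⟨x, rfl⟩ := MulAut.conjNormal.rangeRestrict_surjective z
    exact Subgroup.mem_bot.mpr (hker.ge (h1 hz))
  -- each largest abelian subgroup acts as an offender
  have hA : ∀ A ∈ F, A.map π ≤ Subgroup.closure
      {a | a ∈ A.map π ∧ CfsgLib.OddOffender.IsTrans ρ a} := by
    intro A hA
    have hAc : ∀ a ∈ A, ∀ b ∈ A, a * b = b * a := fun a ha b hb =>
      congrArg Subtype.val (hA.1.is_comm.comm ⟨a, ha⟩ ⟨b, hb⟩)
    have hA'c : ∀ a ∈ A.map π, ∀ b ∈ A.map π, a * b = b * a := by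
      rintro _ ⟨a, ha, rfl⟩ _ ⟨b, hb, rfl⟩
      rw [← map_mul, ← map_mul, hAc a ha b hb]
    have hA'p : IsPGroup 2 (A.map π) := (T.isPGroup'.to_le hA.2.1).map π
    have hidx : (CfsgLib.OddOffender.fix ρ ((A.map π : Subgroup _) : Set _)).index ≤
        Nat.card (A.map π) := by
      set fx := CfsgLib.OddOffender.fix ρ ((A.map π : Subgroup _) : Set _) with hfx
      have hAB : IsMulCommutative ↥((A ⊓ C) ⊔ V) := by
        rw [Subgroup.sup_eq_closure]
        refine Subgroup.isMulCommutative_closure ?_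
        rintro a (ha | ha) b (hb | hb)
        · exact hAc a ha.1 b hb.1
        · exact (Subgroup.mem_centralizer_iff.mp (hCV ▸ ha.2) b hb).symm
        · exact Subgroup.mem_centralizer_iff.mp (hCV ▸ hb.2) a ha
        · exact hVc a ha b hb
      have h1 := hA.2.2 _ hAB (sup_le (inf_le_left.trans hA.2.1) hVT)
      have h2 := CfsgLib.Solvable.card_sup_mul_card_inf (A := A ⊓ C) (K := V)
        Subgroup.le_normalizer_of_normal
      have h3 : Nat.card ↥(A ⊓ C ⊓ V) ≤ Nat.card ↥(A ⊓ V) :=
        Subgroup.card_le_of_le (inf_le_inf_right V inf_le_left)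
      have h4 : Nat.card (A.map π) * Nat.card ↥(A ⊓ C) = Nat.card A := by
        have e1 : Nat.card (A.map π) = C.relIndex A := by rw [← Subgroup.relIndex_ker, hker]
        rw [e1, ← Subgroup.relIndex_bot_left (A ⊓ C), ← Subgroup.relIndex_bot_left A, mul_comm,
          ← Subgroup.inf_relIndex_right C A, inf_comm C A]
        exact Subgroup.relIndex_mul_relIndex _ _ _ bot_le inf_le_left
      -- the fixed points in `W`
      have h5 := CfsgLib.Solvable.card_sup_mul_card_inf (A := W) (K := A ⊓ V)
        (by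
          intro w hw
          refine Subgroup.mem_normalizer_iff.mpr fun x => ⟨fun hx => ?_, fun hx => ?_⟩
          · rw [hVc w hw.1 x hx.2, mul_inv_cancel_right]; exact hx
          · have hx' : x ∈ V := by
              have := hVn.conj_mem _ hx.2 w⁻¹
              simpa [mul_assoc] using this
            rwa [hVc w hw.1 x hx', mul_inv_cancel_right] at hx)
      have h6 : Nat.card ↥(W ⊔ A ⊓ V) ≤ Nat.card V :=
        Subgroup.card_le_of_le (sup_le hWV inf_le_right)
      have h7 : Nat.card ↥(W ⊓ (A ⊓ V)) ≤ Nat.card fx := by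
        refine Nat.card_le_card_of_injective (fun u => ⟨⟨(u : X), u.2.1⟩, ?_⟩) fun u v h => ?_
        · rintro _ ⟨a, ha, rfl⟩
          refine Subtype.ext ((hρπ a _).trans ?_)
          show a * (u : X) * a⁻¹ = u
          rw [hAc a ha u u.2.2.1, mul_inv_cancel_right]
        · exact Subtype.ext (congrArg (fun z : fx => ((z : W) : X)) h)
      have h8 := Subgroup.card_mul_index fx
      have hp1 : 0 < Nat.card ↥(A ⊓ C) := Nat.card_pos
      have hp2 : 0 < Nat.card ↥(A ⊓ V) := Nat.card_pos
      have hp3 : 0 < Nat.card fx := Nat.card_pos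
      have h9 : Nat.card ↥(A ⊓ C) * Nat.card V ≤
          Nat.card (A.map π) * Nat.card ↥(A ⊓ C) * Nat.card ↥(A ⊓ V) := by
        rw [h4, ← h2]; exact Nat.mul_le_mul h1 h3
      have h10 : Nat.card V ≤ Nat.card (A.map π) * Nat.card ↥(A ⊓ V) :=
        Nat.le_of_mul_le_mul_left (h9.trans (le_of_eq (by ring))) hp1
      have h11 : Nat.card W * Nat.card ↥(A ⊓ V) ≤ Nat.card V * Nat.card fx := by
        rw [← h5]; exact Nat.mul_le_mul h6 h7
      rw [← h8] at h11
      refine Nat.le_of_mul_le_mul_left (Nat.le_of_mul_le_mul_right (h11.trans ?_) hp2) hp3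
      calc Nat.card V * Nat.card fx ≤ Nat.card (A.map π) * Nat.card ↥(A ⊓ V) * Nat.card fx :=
            Nat.mul_le_mul_right _ h10
        _ = _ := by ring
    exact CfsgLib.OddOffender.le_closure_trans ρ hρ hW2 hO _
      (CfsgLib.AbelOff.elementary_of_index_le ρ hρ hW2 hO hA'c hA'p hidx) hidx
  haveI hYπn : (Y.map π).Normal := hYn.map π MulAut.conjNormal.rangeRestrict_surjective
  set S := {a | a ∈ Y.map π ∧ CfsgLib.OddOffender.IsTrans ρ a} with hS
  have hconj : ∀ g, ∀ a ∈ S, g * a * g⁻¹ ∈ S := fun g a ha => by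
    refine ⟨hYπn.conj_mem a ha.1 g, ?_⟩
    obtain ⟨η, v, h⟩ := CfsgLib.OddOffender.exists_TF ρ hρ hW2 hO ha.2
    exact ((h.conj (hρ := hρ) (hV := hW2) (hO := hO)) g).isTrans (hρ := hρ) (hV := hW2) (hO := hO)
  have hYS : Y.map π = Subgroup.closure S := by
    refine le_antisymm ?_ ((Subgroup.closure_le _).mpr fun a ha => ha.1)
    have hn : (Subgroup.closure S).Normal := ⟨fun x hx g => by
      have hle : Subgroup.closure S ≤ (Subgroup.closure S).comap (MulAut.conj g).toMonoidHom :=
        (Subgroup.closure_le _).mpr fun a ha => Subgroup.subset_closure (hconj g a ha)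
      exact hle hx⟩
    rw [Subgroup.map_le_iff_le_comap]
    haveI := hn.comap π
    refine Subgroup.normalClosure_le_normal fun x hx => ?_
    have hx' : x ∈ sSup F := hJfam ▸ hx
    revert x
    suffices sSup F ≤ (Subgroup.closure S).comap π from fun x _ hx' => this hx'
    refine sSup_le fun A hA' => Subgroup.map_le_iff_le_comap.mp ((hA A hA').trans
      (Subgroup.closure_mono fun a ha => ⟨Subgroup.map_mono ((hJfam ▸ le_sSup hA' : A ≤ J).trans hJY)
        ha.1, ha.2⟩))
  rcases S.eq_empty_or_nonempty with h | h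
  · left
    rw [h, Subgroup.closure_empty] at hYS
    exact ((Subgroup.map_eq_bot_iff _).mp hYS).trans hker.le
  · right
    obtain ⟨n, hn, ⟨e⟩⟩ := CfsgLib.AbelOff.exists_equiv_pi hρ hW2 hO S (fun a ha => ha.2) hconj h
    refine ⟨n, hn, ⟨?_⟩⟩
    have hk : C.subgroupOf Y = (π.subgroupMap Y).ker := by
      ext y
      rw [Subgroup.mem_subgroupOf, MonoidHom.mem_ker, ← hker, MonoidHom.mem_ker]
      exact ⟨fun h => Subtype.ext h, fun h => congrArg Subtype.val h⟩
    exact (((QuotientGroup.quotientMulEquivOfEq hk).trans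
      (QuotientGroup.quotientKerEquivOfSurjective _ (π.subgroupMap_surjective Y))).trans
        (MulEquiv.subgroupCongr hYS)).trans e

end Cfsg.Agent.S4302
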