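import Cfsg.Statements.S4305
import Cfsg.Agent.S3Fpf.Group

set_option autoImplicit false
set_option linter.style.haveILetI false
open Cfsg

namespace Cfsg.Agent.S4305

/-- Let the symmetric group of degree 3 act by automorphisms on a finite solvable group `G` of order prime to 6, so that only the identity of `G` is fixed by all of it. Then the derived subgroup of `G` is nilpotent. -/
theorem result {G : Type*} [Group G] [Finite G] [Group.IsSolvable G]
    [MulDistribMulAction (Equiv.Perm (Fin 3)) G] (hcop : (Nat.card G).Coprime 6)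
    (hfpf : ∀ g : G, (∀ a : Equiv.Perm (Fin 3), a • g = g) → g = 1) :
    Group.IsNilpotent ↥(commutator G) := by
  have hgen : ∀ π : Equiv.Perm (Fin 3), π ∈ Subgroup.closure
      ({finRotate 3, Equiv.swap 0 1} : Set (Equiv.Perm (Fin 3))) := by
    intro π
    have : ∀ π : Equiv.Perm (Fin 3), ∃ i : Fin 3, ∃ j : Fin 2, π = finRotate 3 ^ (i : ℕ) * Equiv.swap 0 1 ^ (j : ℕ) := by
      decide +kernel
    obtain ⟨i, j, rfl⟩ := this π
    exact Subgroup.mul_mem _ (Subgroup.pow_mem _ (Subgroup.subset_closure (by simp)) _)
      (Subgroup.pow_mem _ (Subgroup.subset_closure (by simp)) _)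
  let act : Equiv.Perm (Fin 3) →* MulAut G := MulDistribMulAction.toMulAut (Equiv.Perm (Fin 3)) G
  let T : CfsgLib.S3Fpf.Trio G :=
    { σ := act (finRotate 3)
      τ := act (Equiv.swap 0 1)
      σ3 := fun h => by
        have e : finRotate 3 * finRotate 3 * finRotate 3 = 1 := by decide +kernel
        show finRotate 3 • finRotate 3 • finRotate 3 • h = h
        rw [← mul_smul, ← mul_smul, e, one_smul]
      τ2 := fun h => by
        show Equiv.swap (0 : Fin 3) 1 • Equiv.swap (0 : Fin 3) 1 • h = h
        rw [← mul_smul, Equiv.swap_mul_self, one_smul]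
      τσ := fun h => by
        have e : Equiv.swap (0 : Fin 3) 1 * finRotate 3 = finRotate 3 * (finRotate 3 * Equiv.swap (0 : Fin 3) 1) := by decide +kernel
        show Equiv.swap (0 : Fin 3) 1 • finRotate 3 • h = finRotate 3 • finRotate 3 • Equiv.swap (0 : Fin 3) 1 • h
        rw [← mul_smul, ← mul_smul, ← mul_smul, e, mul_assoc]
      fpf := fun h h1 h2 => hfpf h fun π => by
        have : π ∈ MulAction.stabilizer (Equiv.Perm (Fin 3)) h := by
          refine (Subgroup.closure_le (K := MulAction.stabilizer (Equiv.Perm (Fin 3)) h)).2 ?_ (hgen π)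
          rintro _ (rfl | rfl)
          · exact h1
          · exact h2
        exact this
      cop := hcop }
  exact CfsgLib.S3Fpf.derived_nilpotent _ G T rfl inferInstance

end Cfsg.Agent.S4305
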