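import Cfsg.Statements.S4306
import Cfsg.Agent.PQFpf.Group

set_option autoImplicit false
set_option linter.style.haveILetI false
open Cfsg

namespace Cfsg.Agent.S4306

/-- Let `A` be a non-abelian group of order `pq` with `p, q` distinct primes, acting by automorphisms on a finite solvable group `G` of order prime to `pq`, so that only the identity of `G` is fixed by all of `A`. Then `G` has Fitting height at most 2: there is a normal nilpotent subgroup `F` of `G` with `G/F` nilpotent. -/
theorem result {G A : Type*} [Group G] [Finite G]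
    [Group.IsSolvable G] [Group A] [Finite A] [MulDistribMulAction A G] (p q : ℕ) (hp : p.Prime) (hq : q.Prime) (hpq : p ≠ q)
    (hA : Nat.card A = p * q) (hAna : ¬ IsMulCommutative A) (hcop : (Nat.card G).Coprime (p * q))
    (hfpf : ∀ g : G, (∀ a : A, a • g = g) → g = 1) :
    ∃ F : Subgroup G, ∃ hF : F.Normal, Group.IsNilpotent ↥F ∧ Group.IsNilpotent (G ⧸ F) := by
  classical
  haveI := Fintype.ofFinite A
  have hna : ∃ a b : A, a * b ≠ b * a := by
    by_contra h
    push Not at h
    exact hAna ⟨⟨h⟩⟩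
  have hcopA : (Nat.card G).Coprime (Nat.card A) := hA ▸ hcop
  suffices hF : ∀ P Q : ℕ, P.Prime → Q.Prime → Q < P → Nat.card A = P * Q →
      ∃ F : Subgroup G, ∃ hF : F.Normal, Group.IsNilpotent ↥F ∧ Group.IsNilpotent (G ⧸ F) by
    rcases Nat.lt_or_ge q p with h | h
    · exact hF p q hp hq h hA
    · exact hF q p hq hp (lt_of_le_of_ne h hpq) (hA.trans (mul_comm p q))
  intro P Q hP hQ hlt hcard
  haveI := Fact.mk hP
  obtain ⟨σ, hσ⟩ := exists_prime_orderOf_dvd_card' (G := A) P (hcard ▸ dvd_mul_right P Q)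
  let F : CfsgLib.PQFpf.Acting A := ⟨P, Q, σ, hP, hQ, hlt, hcard, hσ, hna⟩
  obtain ⟨N, hN, -, hN1, hN2⟩ := CfsgLib.PQFpf.fitting_height_two F _ G rfl inferInstance hcopA hfpf
  exact ⟨N, hN, hN1, hN2⟩

end Cfsg.Agent.S4306
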