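-- Proof of statement S4321.
import Cfsg.Statements.S4321
import Cfsg.Agent.FGSA.SingularClassGraph

set_option autoImplicit false
open Cfsg

namespace Cfsg.Agent.S4321

/-- Let `G` be a finite group and `p` a prime not dividing the order of the centre of `G`. Consider the primes dividing the size of some conjugacy class of a `p`-singular element (an element of order divisible by `p`), two of them adjacent when their product divides such a class size. Then any two distinct such primes are joined by a path with at most 3 edges (the graph is connected of diameter at most 3). -/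
theorem result {G : Type*} [Group G] [Finite G] (p : ℕ) [Fact p.Prime]
    (hZ : ¬ p ∣ Nat.card ↥(Subgroup.center G)) (r s : ℕ) (hr : (r.Prime ∧ ∃ x : G, p ∣ orderOf x ∧ r ∣ (Subgroup.centralizer ({x} : Set G)).index)) (hs : (s.Prime ∧ ∃ x : G, p ∣ orderOf x ∧ s ∣ (Subgroup.centralizer ({x} : Set G)).index)) (hrs : r ≠ s) :
    (∃ x : G, p ∣ orderOf x ∧ r * s ∣ (Subgroup.centralizer ({x} : Set G)).index) ∨ (∃ t : ℕ, (t.Prime ∧ ∃ x : G, p ∣ orderOf x ∧ t ∣ (Subgroup.centralizer ({x} : Set G)).index) ∧ t ≠ r ∧ t ≠ s ∧ (∃ x : G, p ∣ orderOf x ∧ r * t ∣ (Subgroup.centralizer ({x} : Set G)).index) ∧ (∃ x : G, p ∣ orderOf x ∧ t * s ∣ (Subgroup.centralizer ({x} : Set G)).index)) ∨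
      (∃ t u : ℕ, (t.Prime ∧ ∃ x : G, p ∣ orderOf x ∧ t ∣ (Subgroup.centralizer ({x} : Set G)).index) ∧ (u.Prime ∧ ∃ x : G, p ∣ orderOf x ∧ u ∣ (Subgroup.centralizer ({x} : Set G)).index) ∧ t ≠ r ∧ u ≠ s ∧ t ≠ u ∧ (∃ x : G, p ∣ orderOf x ∧ r * t ∣ (Subgroup.centralizer ({x} : Set G)).index) ∧ (∃ x : G, p ∣ orderOf x ∧ t * u ∣ (Subgroup.centralizer ({x} : Set G)).index) ∧ (∃ x : G, p ∣ orderOf x ∧ u * s ∣ (Subgroup.centralizer ({x} : Set G)).index)) := by
  obtain ⟨hrp, x, hx, hxr⟩ := hr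
  obtain ⟨hsp, y, hy, hys⟩ := hs
  obtain ⟨t, u, ht, hu, h1, h2, h3⟩ :=
    CfsgLib.SingGraph.near_three hZ hrp hsp hx hxr hy hys
  have hv : ∀ a b : ℕ, b.Prime → a ≠ b → CfsgLib.SingGraph.Near p G a b →
      (b.Prime ∧ ∃ x : G, p ∣ orderOf x ∧ b ∣ (Subgroup.centralizer ({x} : Set G)).index) ∧
      ∃ x : G, p ∣ orderOf x ∧ a * b ∣ (Subgroup.centralizer ({x} : Set G)).index := by
    intro a b hb hab h
    rcases h with h | ⟨w, hw, hd⟩
    · exact absurd h hab
    · exact ⟨⟨hb, w, hw, (dvd_mul_left b a).trans hd⟩, w, hw, hd⟩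
  have two : ∀ t : ℕ, t.Prime → CfsgLib.SingGraph.Near p G r t → CfsgLib.SingGraph.Near p G t s →
      (∃ x : G, p ∣ orderOf x ∧ r * s ∣ (Subgroup.centralizer ({x} : Set G)).index) ∨
        (∃ t : ℕ, (t.Prime ∧ ∃ x : G, p ∣ orderOf x ∧ t ∣ (Subgroup.centralizer ({x} : Set G)).index) ∧ t ≠ r ∧ t ≠ s ∧
          (∃ x : G, p ∣ orderOf x ∧ r * t ∣ (Subgroup.centralizer ({x} : Set G)).index) ∧
          (∃ x : G, p ∣ orderOf x ∧ t * s ∣ (Subgroup.centralizer ({x} : Set G)).index)) := by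
    intro t ht h1 h2
    by_cases htr : t = r
    · subst htr; exact Or.inl (hv t s hsp hrs h2).2
    by_cases hts : t = s
    · subst hts; exact Or.inl (hv r t hsp hrs h1).2
    exact Or.inr ⟨t, (hv r t ht (Ne.symm htr) h1).1, htr, hts, (hv r t ht (Ne.symm htr) h1).2, (hv t s hsp hts h2).2⟩
  by_cases htr : t = r
  · subst htr
    exact (two u hu h2 h3).imp id Or.inl
  by_cases hus : u = s
  · subst hus
    exact (two t ht h1 h2).imp id Or.inl
  by_cases htu : t = u
  · subst htu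
    exact (two t ht h1 h3).imp id Or.inl
  exact Or.inr (Or.inr ⟨t, u, (hv r t ht (Ne.symm htr) h1).1, (hv t u hu htu h2).1, htr, hus, htu,
    (hv r t ht (Ne.symm htr) h1).2, (hv t u hu htu h2).2, (hv u s hsp hus h3).2⟩)

end Cfsg.Agent.S4321
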