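import Cfsg.Statements.S4323
import Cfsg.Agent.AbFix.Main
-- import your own Cfsg.Agent.* helpers here

set_option autoImplicit false
open Cfsg

namespace Cfsg.Agent.S4323

/-- Let `q` be a prime and `A` a non-cyclic group of order `q²` acting by automorphisms on a finite group `G` of order prime to `q`, such that the fixed-point subgroup `C_G(a)` is abelian for every non-identity `a ∈ A`. Then `G` is solvable. -/
theorem result {A G : Type*} [Group A] [Finite A]
    [Group G] [Finite G] [MulDistribMulAction A G] (q : ℕ) (hq : q.Prime) (hA : Nat.card A = q ^ 2) (hnc : ¬ IsCyclic A)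
    (hcop : ¬ q ∣ Nat.card G) (h : ∀ a : A, a ≠ 1 → IsMulCommutative ↥(FixedPoints.subgroup (Subgroup.zpowers a) G)) :
    Group.IsSolvable G := by
  haveI := Fact.mk hq
  let φ := MulDistribMulAction.toMulAut A G
  haveI : Finite (G ⋊[φ] A) := Finite.of_equiv _ SemidirectProduct.equivProd.symm
  have hcomm : ∀ a b : A, a * b = b * a := fun a b =>
    (IsPGroup.isMulCommutative_of_card_eq_prime_sq hA).is_comm.comm a b
  have hexp : ∀ a : A, a ^ q = 1 := by
    intro a
    obtain ⟨i, hi, hai⟩ := (Nat.dvd_prime_pow hq).1 (hA ▸ orderOf_dvd_natCard a)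
    interval_cases i
    · rw [pow_zero, orderOf_eq_one_iff] at hai
      rw [hai, one_pow]
    · rw [pow_one] at hai
      rw [← hai, pow_orderOf_eq_one]
    · exact absurd (isCyclic_of_orderOf_eq_card a (by rw [hai, hA])) hnc
  set AA : Subgroup (G ⋊[φ] A) := (SemidirectProduct.inr : A →* G ⋊[φ] A).range
  set GG : Subgroup (G ⋊[φ] A) := (SemidirectProduct.inl : G →* G ⋊[φ] A).range
  have hGG : Nat.card GG = Nat.card G :=
    (Nat.card_congr (MonoidHom.ofInjective SemidirectProduct.inl_injective).toEquiv).symm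
  have hn : GG.Normal := by
    rw [show GG = (SemidirectProduct.rightHom : G ⋊[φ] A →* A).ker from
      SemidirectProduct.range_inl_eq_ker_rightHom]
    infer_instance
  have hyp : CfsgLib.AbFix.Hyp q AA GG := by
    refine ⟨hq, ⟨⟨⟨?_⟩⟩, ?_⟩, ?_, ?_, by rwa [hGG], ?_⟩
    · rintro ⟨_, a, rfl⟩ ⟨_, b, rfl⟩
      exact Subtype.ext (show SemidirectProduct.inr a * SemidirectProduct.inr b = _ by
        rw [← map_mul, hcomm, map_mul]; rfl)
    · rintro _ ⟨a, rfl⟩
      rw [← map_pow, hexp, map_one]
    · rw [← hA]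
      exact (Nat.card_congr (MonoidHom.ofInjective SemidirectProduct.inr_injective).toEquiv).symm
    · rw [Subgroup.normalizer_eq_top]
      exact le_top
    · rintro _ ⟨a, rfl⟩ ha1 _ ⟨⟨x, rfl⟩, hx⟩ _ ⟨⟨y, rfl⟩, hy⟩
      have ha : a ≠ 1 := fun e => ha1 (by rw [e, map_one])
      have key : ∀ z : G, (SemidirectProduct.inl z : G ⋊[φ] A) ∈
          Subgroup.centralizer {(SemidirectProduct.inr a : G ⋊[φ] A)} →
          z ∈ FixedPoints.subgroup (Subgroup.zpowers a) G := by
        intro z hz
        have h1 : φ a z = z := SemidirectProduct.inl_injective (by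
          rw [SemidirectProduct.inl_aut, ← Subgroup.mem_centralizer_singleton_iff.1 hz, map_inv,
            mul_inv_cancel_right])
        rintro ⟨b, hb⟩
        show b • z = z
        obtain ⟨i, rfl⟩ := Subgroup.mem_zpowers_iff.1 hb
        exact zpow_mem (K := MulAction.stabilizer A z) (show a • z = z from h1) i
      rw [← map_mul, ← map_mul]
      exact congrArg _ (congrArg Subtype.val ((h a ha).is_comm.comm ⟨x, key x hx⟩ ⟨y, key y hy⟩))
  haveI := CfsgLib.AbFix.isSolvable_of_hyp _ _ q AA GG rfl hyp
  exact Group.isSolvable_of_isSolvable_injective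
    (f := (MonoidHom.ofInjective (SemidirectProduct.inl_injective (φ := φ))).toMonoidHom)
    (MulEquiv.injective _)

end Cfsg.Agent.S4323
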