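import Cfsg.Statements.S4325
import Cfsg.Agent.Transpositions.Few

set_option autoImplicit false
set_option linter.style.haveILetI false
open Cfsg

namespace Cfsg.Agent.S4325

/-- Let r be a prime and m a natural number with m + 1 < r, and let π be a set of primes containing every prime below r but not r itself. Then in the symmetric group of degree r any m transpositions generate a π-subgroup, while O_π of the symmetric group is trivial. (So no bound on the number of conjugates that works for all π exists in the π-radical analogue of the Baer–Suzuki Theorem.) -/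
theorem result (r m : ℕ) (hr : r.Prime)
    (hm : m + 1 < r) (π : Set ℕ) (hπ : ∀ q : ℕ, q.Prime → q < r → q ∈ π) (hrπ : r ∉ π)
    (t : Fin m → Equiv.Perm (Fin r)) (ht : ∀ i, (t i).IsSwap) :
    Cfsg.IsPiSubgroup π (Subgroup.closure (Set.range t)) ∧ Cfsg.piCore π (Equiv.Perm (Fin r)) = ⊥ := by
  exact ⟨CfsgLib.Transpositions.pi_of_few hr hm π hπ t ht,
    CfsgLib.Transpositions.piCore_perm_eq_bot hr π hrπ⟩

end Cfsg.Agent.S4325
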