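import Cfsg.Statements.S4326
import Mathlib.GroupTheory.PGroup

set_option autoImplicit false
set_option linter.style.haveILetI false
open Pointwise
open Cfsg

namespace Cfsg.Agent.S4326

/-- Let G be a finite group, p a prime, x an automorphism of G of p-power order and M the subgroup of fixed points of x. Suppose that p divides the index of M and that either M is self-normalizing or M has trivial center. Then some conjugate of M is mapped onto itself by x but is not fixed elementwise by x. -/
theorem result {G : Type*} [Group G] [Finite G]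
    (p : ℕ) [Fact p.Prime] (x : MulAut G) (hx : ∃ k : ℕ, orderOf x = p ^ k) (M : Subgroup G)
    (hM : ∀ g : G, g ∈ M ↔ x g = g) (hp : p ∣ M.index)
    (hself : Subgroup.normalizer (M : Set G) = M ∨ Subgroup.center M = ⊥) :
    ∃ g : G, (∀ y ∈ MulAut.conj g • M, x y ∈ MulAut.conj g • M) ∧ ∃ y ∈ MulAut.conj g • M, x y ≠ y := by
  classical
  have hxM : ∀ m ∈ M, x m = m := fun m hm => (hM m).1 hm
  have hpow : ∀ (y : MulAut G), y ∈ Subgroup.zpowers x → ∀ m ∈ M, y m = m := by
    intro y hy m hm
    have : y ∈ MulAction.stabilizer (MulAut G) m :=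
      (Subgroup.zpowers_le.2 (show x ∈ MulAction.stabilizer (MulAut G) m from hxM m hm)) hy
    exact this
  letI act : MulAction (Subgroup.zpowers x) (G ⧸ M) :=
    { smul := fun y => Quotient.map' (fun g => (y : MulAut G) g) (fun a b hab => by
        rw [QuotientGroup.leftRel_apply] at hab ⊢
        rw [← map_inv, ← map_mul, hpow _ y.2 _ hab]
        exact hab)
      one_smul := fun q => Quotient.inductionOn' q fun g => rfl
      mul_smul := fun y z q => Quotient.inductionOn' q fun g => rfl }
  obtain ⟨k, hk⟩ := hx
  have hP : IsPGroup p (Subgroup.zpowers x) := IsPGroup.of_card (n := k) (by rw [Nat.card_zpowers, hk])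
  have h1 : ((1 : G) : G ⧸ M) ∈ MulAction.fixedPoints (Subgroup.zpowers x) (G ⧸ M) := fun y =>
    congrArg (QuotientGroup.mk (s := M)) (map_one (y : MulAut G))
  obtain ⟨b, hb, hne⟩ := hP.exists_fixed_point_of_prime_dvd_card_of_fixed_point (G ⧸ M)
    (by rwa [← Subgroup.index_eq_card]) h1
  induction b using QuotientGroup.induction_on with
  | H g =>
    have hg : g ∉ M := fun h => hne (QuotientGroup.eq.2 (by simpa using h))
    have hfix : (x g)⁻¹ * g ∈ M :=
      QuotientGroup.eq.1 (show ((x g : G) : G ⧸ M) = (g : G ⧸ M) from hb ⟨x, Subgroup.mem_zpowers x⟩)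
    have mem_iff : ∀ y, y ∈ MulAut.conj g • M ↔ g⁻¹ * y * g ∈ M := fun y => by
      rw [Subgroup.mem_pointwise_smul_iff_inv_smul_mem]; simp [← map_inv]
    refine ⟨g, fun y hy => ?_, ?_⟩
    · rw [mem_iff] at hy ⊢
      have h2 : x (g⁻¹ * y * g) = g⁻¹ * y * g := hxM _ hy
      rw [map_mul, map_mul, map_inv] at h2
      have : g⁻¹ * x y * g = ((x g)⁻¹ * g)⁻¹ * ((x g)⁻¹ * x y * x g) * ((x g)⁻¹ * g) := by group
      rw [this, h2]
      exact mul_mem (mul_mem (inv_mem hfix) hy) hfix
    · by_contra! hall
      have hle : ∀ m ∈ M, g * m * g⁻¹ ∈ M := fun m hm => (hM _).2 (hall _ ((mem_iff _).2 (by simpa [mul_assoc] using hm)))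
      rcases hself with hs | hz
      · apply hg
        rw [← hs]
        haveI : Finite (M : Set G) := Set.toFinite _
        exact Subgroup.mem_normalizer_iff.2 fun m => ⟨hle m, fun h => by
          have hinj : Function.Injective (fun t : M => (⟨g * t * g⁻¹, hle t t.2⟩ : M)) := fun a b hab => by
            have := congrArg Subtype.val hab
            exact Subtype.ext (by simpa using this)
          obtain ⟨t, ht⟩ := (Finite.injective_iff_surjective.1 hinj) ⟨_, h⟩
          have ht' := congrArg Subtype.val ht
          simp only [mul_left_inj, mul_right_inj] at ht'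
          exact ht' ▸ t.2⟩
      · apply hg
        have hc : (⟨(x g)⁻¹ * g, hfix⟩ : M) ∈ Subgroup.center M := by
          rw [Subgroup.mem_center_iff]
          intro m
          have h3 : x g * m * (x g)⁻¹ = g * m * g⁻¹ := by
            have := hxM _ (hle m m.2)
            rwa [map_mul, map_mul, map_inv, hxM _ m.2] at this
          apply Subtype.ext
          show (m : G) * ((x g)⁻¹ * g) = (x g)⁻¹ * g * m
          have h4 : (x g)⁻¹ * g * m = (x g)⁻¹ * (g * m * g⁻¹) * g := by group
          rw [h4, ← h3]
          group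
        rw [hz, Subgroup.mem_bot] at hc
        exact (hM g).2 (inv_mul_eq_one.1 (congrArg Subtype.val hc))

end Cfsg.Agent.S4326
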