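import Cfsg.Statements.S4330
import Cfsg.Agent.SubnormalClass.Main

set_option autoImplicit false
open Pointwise
open Cfsg

namespace Cfsg.Agent.S4330

/-- Let G be a finite solvable group, p an odd prime and A a p-subgroup of G such that every conjugacy class of G contains an element g for which A is subnormal in the subgroup generated by A and its conjugate by g. Then A is contained in O_p(G). (The hypothesis that p is odd is needed.) -/
theorem result {G : Type*} [Group G] [Finite G]
    (hG : Group.IsSolvable G) (p : ℕ) [Fact p.Prime] (hp : p ≠ 2) (A : Subgroup G) (hA : IsPGroup p A)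
    (h : ∀ c : G, ∃ g : G, IsConj c g ∧ (A.subgroupOf (A ⊔ MulAut.conj g • A)).IsSubnormal) :
    A ≤ Cfsg.pCore p G := by
  refine CfsgLib.SubnClass.le_pCore_of_classes hp _ G le_rfl hG A hA fun c => ?_
  obtain ⟨g, hcg, hg⟩ := h c
  refine ⟨g, hcg, ?_⟩
  set B := MulAut.conj g • A with hB
  set J := A ⊔ B with hJ
  have hBp : IsPGroup p B := hA.map _
  have hAp : IsPGroup p (A.subgroupOf J) := IsPGroup.comap_subtype (K := J) hA
  have hBp' : IsPGroup p (B.subgroupOf J) := IsPGroup.comap_subtype (K := J) hBp
  have hle := CfsgLib.SubnormalJoin.le_pCore_of_isSubnormal hg hAp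
  have hsup : IsPGroup p (Cfsg.pCore p J ⊔ B.subgroupOf J : Subgroup J) :=
    (CfsgLib.Solvable.isPGroup_pCore p).to_sup_of_normal_left hBp'
  have htop : Cfsg.pCore p J ⊔ B.subgroupOf J = ⊤ := by
    refine top_le_iff.1 ?_
    have hself : (A ⊔ B).subgroupOf J = ⊤ := Subgroup.subgroupOf_self J
    rw [← hself, Subgroup.subgroupOf_sup le_sup_left le_sup_right]
    exact sup_le_sup hle le_rfl
  rw [htop] at hsup
  exact hsup.of_equiv Subgroup.topEquiv

end Cfsg.Agent.S4330
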