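import Cfsg.Statements.S4342
import Cfsg.Agent.SylowNumber.Basic

set_option autoImplicit false
set_option linter.style.haveILetI false
open Cfsg

namespace Cfsg.Agent.S4342

/-- Let H be a normal subgroup of a finite group G and p a prime not dividing the index of H. Then the number of Sylow p-subgroups of H/Z(H) equals the number of Sylow p-subgroups of G. -/
theorem result {G : Type*} [Group G] [Finite G]
    (p : ℕ) [Fact p.Prime] (H : Subgroup G) [H.Normal] (hp : ¬ p ∣ H.index) :
    Nat.card (Sylow p (H ⧸ Subgroup.center H)) = Nat.card (Sylow p G) := by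
  rw [← CfsgLib.SylowNumber.card_sylow_normal H hp]
  have hf := QuotientGroup.mk'_surjective (Subgroup.center H)
  symm
  refine Nat.card_congr (Equiv.ofBijective (fun P : Sylow p H => P.mapSurjective hf)
    ⟨?_, Sylow.mapSurjective_surjective hf p⟩)
  intro P Q h
  have h1 : (P : Subgroup H).map (QuotientGroup.mk' (Subgroup.center H)) =
      (Q : Subgroup H).map (QuotientGroup.mk' (Subgroup.center H)) := by
    rw [← Sylow.coe_mapSurjective hf P, ← Sylow.coe_mapSurjective hf Q]
    exact congrArg Sylow.toSubgroup h
  have hQ : (Q : Subgroup H) ≤ Subgroup.normalizer (P : Set H) := by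
    intro q hq
    have hq' : QuotientGroup.mk' _ q ∈ (P : Subgroup H).map (QuotientGroup.mk' (Subgroup.center H)) :=
      h1 ▸ Subgroup.mem_map_of_mem _ hq
    obtain ⟨a, ha, haq⟩ := hq'
    obtain ⟨k, hk, rfl⟩ := (QuotientGroup.mk'_eq_mk' _).1 haq
    exact mul_mem (Subgroup.le_normalizer ha) (Subgroup.centralizer_le_normalizer _ (Subgroup.center_le_centralizer _ hk))
  have := Q.2.inf_normalizer_sylow P
  rw [inf_eq_left.2 hQ] at this
  exact Sylow.ext (Q.3 P.2 (this.le.trans inf_le_right))

end Cfsg.Agent.S4342
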