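import Cfsg.Statements.S4343
import Cfsg.Agent.S1009
import Mathlib.GroupTheory.Sylow
import Mathlib.GroupTheory.Subgroup.Simple
import Mathlib.GroupTheory.Commutator.Basic

set_option autoImplicit false
set_option linter.style.haveILetI false
open Cfsg
open scoped commutatorElement

namespace Cfsg.Agent.S4343

/-- Let S be a finite non-abelian simple group and p a prime dividing its order. If S has fewer than p² Sylow p-subgroups, then its Sylow p-subgroups have order p. -/
theorem result {S : Type*} [Group S] [Finite S]
    [IsSimpleGroup S] (hS : ¬ IsMulCommutative S) (p : ℕ) [Fact p.Prime] (hp : p ∣ Nat.card S)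
    (hn : Nat.card (Sylow p S) < p ^ 2) (P : Sylow p S) : Nat.card P = p := by
  classical
  have hp' : p.Prime := Fact.out
  have hinf : ∀ P' Q : Sylow p S, ((P' : Subgroup S) ⊓ Q).relIndex P' < p ^ 2 := by
    intro P' Q
    have h1 : ((P' : Subgroup S) ⊓ Q).relIndex P' = (MulAction.stabilizer (P' : Subgroup S) Q).index := by
      rw [Subgroup.relIndex]
      congr 1
      ext x
      rw [MulAction.mem_stabilizer_iff, Subgroup.mem_subgroupOf, Subgroup.mem_inf]
      have hinv := P'.2.inf_normalizer_sylow Q
      constructor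
      · rintro ⟨-, hx⟩
        rw [Subgroup.smul_def, Sylow.smul_eq_iff_mem_normalizer]
        exact Subgroup.le_normalizer hx
      · intro hx
        rw [Subgroup.smul_def, Sylow.smul_eq_iff_mem_normalizer] at hx
        exact hinv.le ⟨x.2, hx⟩
    rw [h1, MulAction.index_stabilizer, ← Nat.card_coe_set_eq]
    exact lt_of_le_of_lt (Nat.card_le_card_of_injective _ Subtype.val_injective) hn
  have hO : (⨅ R : Sylow p S, (R : Subgroup S)) = ⊥ := by
    haveI hnorm : (⨅ R : Sylow p S, (R : Subgroup S)).Normal := by
      refine ⟨fun n hn g => ?_⟩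
      rw [Subgroup.mem_iInf] at hn ⊢
      intro R
      have := hn (g⁻¹ • R)
      rw [Sylow.coe_subgroup_smul] at this
      obtain ⟨r, hr, hrn⟩ := this
      have : g * n * g⁻¹ = r := by rw [← hrn]; simp [mul_assoc]
      exact this ▸ hr
    refine (Subgroup.Normal.eq_bot_or_eq_top hnorm).resolve_right fun htop => hS ?_
    have hPtop : (P : Subgroup S) = ⊤ := top_le_iff.1 (htop ▸ iInf_le _ P)
    haveI : Nontrivial S := IsSimpleGroup.toNontrivial
    haveI : Group.IsNilpotent S := (P.2.of_equiv ((MulEquiv.subgroupCongr hPtop).trans Subgroup.topEquiv)).isNilpotent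
    haveI := Subgroup.Normal.eq_bot_or_eq_top (inferInstance : (Subgroup.center S).Normal)
    rcases this with hc | hc
    · exact absurd hc (Group.IsNilpotent.center_ne_bot S)
    · exact ⟨⟨fun a b => (Subgroup.mem_center_iff.1 (hc ▸ Subgroup.mem_top a : a ∈ Subgroup.center S) b).symm⟩⟩
  have hab : ∀ P' : Sylow p S, IsMulCommutative (P' : Subgroup S) := by
    intro P'
    refine ⟨⟨fun a b => ?_⟩⟩
    have hmem : ((⁅a, b⁆ : (P' : Subgroup S)) : S) ∈ ⨅ R : Sylow p S, (R : Subgroup S) := by
      rw [Subgroup.mem_iInf]
      intro R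
      set K := ((P' : Subgroup S) ⊓ R).subgroupOf P' with hK
      have hK' : ⁅a, b⁆ ∈ K := by
        obtain ⟨k, hk⟩ := IsPGroup.index P'.2 K
        have hk1 : k ≤ 1 := by
          by_contra hc
          have : p ^ 2 ≤ p ^ k := Nat.pow_le_pow_right hp'.pos (by omega)
          have h' := hinf P' R
          rw [Subgroup.relIndex, hk] at h'
          omega
        interval_cases k
        · have hKtop : K = ⊤ := Subgroup.index_eq_one.1 (by simpa using hk)
          rw [hKtop]; trivial
        · haveI : Group.IsNilpotent (P' : Subgroup S) := P'.2.isNilpotent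
          have hidx : K.index = p := by simpa using hk
          haveI hKn : K.Normal := by
            refine Subgroup.normal_of_index_eq_minFac_card ?_
            obtain ⟨m, hm⟩ := P'.2.exists_card_eq
            have hm0 : m ≠ 0 := by
              rintro rfl
              have := K.index_dvd_card
              rw [hidx, hm, pow_zero, Nat.dvd_one] at this
              exact hp'.ne_one this
            rw [hidx, hm, Nat.pow_minFac hm0, hp'.minFac_eq]
          haveI : Fact (Nat.card ((P' : Subgroup S) ⧸ K)).Prime := ⟨by rw [← K.index_eq_card, hidx]; exact hp'⟩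
          have hcy : IsCyclic ((P' : Subgroup S) ⧸ K) := isCyclic_of_prime_card rfl
          rw [← QuotientGroup.eq_one_iff, ← QuotientGroup.mk'_apply, map_commutatorElement,
            commutatorElement_eq_one_iff_mul_comm]
          obtain ⟨c, hc⟩ := hcy.exists_generator
          obtain ⟨i, hi⟩ := hc (QuotientGroup.mk' K a)
          obtain ⟨j, hj⟩ := hc (QuotientGroup.mk' K b)
          rw [← hi, ← hj]
          exact ((Commute.refl c).zpow_zpow i j).eq
      exact (Subgroup.mem_subgroupOf.1 hK').2
    rw [hO, Subgroup.mem_bot, OneMemClass.coe_eq_one, commutatorElement_eq_one_iff_mul_comm] at hmem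
    exact hmem
  obtain ⟨P', Q, hPQ⟩ := Cfsg.Agent.S1009.result p hab
  have h := hinf P' Q
  rw [hPQ, hO, Subgroup.relIndex_bot_left, P'.card_eq_multiplicity, ← P.card_eq_multiplicity] at h
  obtain ⟨k, hk⟩ := P.2.exists_card_eq
  rw [hk] at h ⊢
  have hk2 : k < 2 := (Nat.pow_lt_pow_iff_right hp'.one_lt).1 h
  interval_cases k
  · exfalso
    have h1 := P.dvd_card_of_dvd_card hp
    rw [hk, pow_zero, Nat.dvd_one] at h1
    exact hp'.ne_one h1
  · exact pow_one p

end Cfsg.Agent.S4343
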