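import Cfsg.Statements.S4344
import Cfsg.Agent.SylowBasic.CentralClass
import Mathlib.GroupTheory.SpecificGroups.Cyclic
import Mathlib.GroupTheory.Subgroup.Simple

set_option autoImplicit false
set_option linter.style.haveILetI false
open Cfsg

namespace Cfsg.Agent.S4344

/-- Let S be a finite non-abelian simple group, M a maximal subgroup of S and C a cyclic normal subgroup of M. If a Sylow p-subgroup P of S (for a prime p dividing the order of S) is contained in C, then the number of Sylow p-subgroups of S equals the index of M. -/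
theorem result {S : Type*} [Group S] [Finite S]
    [IsSimpleGroup S] (hS : ¬ IsMulCommutative S) (p : ℕ) [Fact p.Prime] (hp : p ∣ Nat.card S)
    (M : Subgroup S) (hM : IsCoatom M) (C : Subgroup S) (hCM : C ≤ M) (hCn : (C.subgroupOf M).Normal)
    (hC : IsCyclic C) (P : Sylow p S) (hP : (P : Subgroup S) ≤ C) :
    Nat.card (Sylow p S) = M.index := by
  haveI := hC
  letI := IsCyclic.commGroup (α := C)
  have hcomm : ∀ a ∈ C, ∀ b ∈ C, a * b = b * a := fun a ha b hb =>
    congrArg Subtype.val (mul_comm (⟨a, ha⟩ : C) ⟨b, hb⟩)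
  have key : ∀ m ∈ M, ∀ y ∈ (P : Subgroup S), m * y * m⁻¹ ∈ (P : Subgroup S) := by
    intro m hm y hy
    have hyC := hP hy
    have hc : m * y * m⁻¹ ∈ C := hCn.conj_mem ⟨y, hCM hyC⟩ hyC ⟨m, hm⟩
    refine CfsgLib.SylowBasic.mem_sylow_of_centralizes P ?_ (Subgroup.mem_centralizer_iff.2 fun z hz => hcomm z (hP hz) _ hc)
    obtain ⟨k, hk⟩ := P.isPGroup' ⟨y, hy⟩
    obtain ⟨i, -, hi⟩ := (Nat.dvd_prime_pow (Fact.out : p.Prime)).1 (orderOf_dvd_of_pow_eq_one hk)
    refine ⟨i, ?_⟩
    rw [← hi, Subgroup.orderOf_mk]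
    exact (SemiconjBy.orderOf_eq m (by simp [SemiconjBy, mul_assoc])).symm
  have hle : M ≤ Subgroup.normalizer ((P : Subgroup S) : Set S) := fun m hm =>
    Subgroup.mem_normalizer_iff.2 fun y => ⟨key m hm y, fun h => by
      simpa [mul_assoc] using key m⁻¹ (inv_mem hm) _ h⟩
  rw [P.card_eq_index_normalizer]
  rcases hM.le_iff.1 hle with h | h
  · exfalso
    have : (P : Subgroup S).Normal := Subgroup.normalizer_eq_top_iff.1 h
    rcases this.eq_bot_or_eq_top with h' | h'
    · exact P.ne_bot_of_dvd_card hp h'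
    · exact hM.1 (top_le_iff.1 (h' ▸ hP.trans hCM))
  · exact congrArg Subgroup.index h

end Cfsg.Agent.S4344
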