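import Cfsg.Statements.S4347

set_option autoImplicit false
set_option linter.style.haveILetI false
open Cfsg

namespace Cfsg.Agent.S4347

/-- Let G be a finite group and p a prime. Say a Sylow p-subgroup Q is redundant when every element of p-power order lies in some Sylow p-subgroup other than Q. Then G has no redundant Sylow p-subgroup if and only if some element of p-power order lies in exactly one Sylow p-subgroup. -/
theorem result {G : Type*} [Group G] [Finite G]
    (p : ℕ) [Fact p.Prime] :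
    (¬ ∃ Q : Sylow p G, ∀ x : G, (∃ k : ℕ, orderOf x = p ^ k) → ∃ P : Sylow p G, P ≠ Q ∧ x ∈ P) ↔
      ∃ x : G, (∃ k : ℕ, orderOf x = p ^ k) ∧ ∃! P : Sylow p G, x ∈ P := by
  constructor
  · intro h
    push Not at h
    obtain ⟨x, hx, hu⟩ := h default
    have hZ : IsPGroup p (Subgroup.zpowers x) := by
      obtain ⟨k, hk⟩ := hx
      exact IsPGroup.of_card (n := k) (by rw [Nat.card_zpowers, hk])
    obtain ⟨P, hP⟩ := hZ.exists_le_sylow
    refine ⟨x, hx, P, hP (Subgroup.mem_zpowers x), fun P' hP' => ?_⟩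
    have h1 : ∀ R : Sylow p G, x ∈ R → R = default := fun R hR => by
      by_contra hne; exact hu R hne hR
    rw [h1 P' hP', h1 P (hP (Subgroup.mem_zpowers x))]
  · rintro ⟨x, ⟨k, hk⟩, P0, hxP, hu⟩ ⟨Q, hQ⟩
    obtain ⟨g, rfl⟩ := MulAction.exists_smul_eq G P0 Q
    have ho : orderOf (g * x * g⁻¹) = p ^ k := by
      rw [← hk]; exact (SemiconjBy.orderOf_eq g (by simp [SemiconjBy, mul_assoc])).symm
    obtain ⟨P, hne, hP⟩ := hQ (g * x * g⁻¹) ⟨k, ho⟩
    have hmem : x ∈ (g⁻¹ • P : Sylow p G) := by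
      show x ∈ ((g⁻¹ • P : Sylow p G) : Subgroup G)
      rw [Sylow.coe_subgroup_smul, Subgroup.mem_pointwise_smul_iff_inv_smul_mem]
      simpa [← map_inv] using (show g * x * g⁻¹ ∈ (P : Subgroup G) from hP)
    exact hne (by rw [← hu _ hmem, smul_inv_smul])

end Cfsg.Agent.S4347
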