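import Cfsg.Statements.S4348

set_option autoImplicit false
set_option linter.style.haveILetI false
open Cfsg

namespace Cfsg.Agent.S4348

/-- Let G be a finite group, p a prime and P a Sylow p-subgroup of G, and let O_p(G) be the largest normal p-subgroup of G. If P/O_p(G) is cyclic, then some element of p-power order of G lies in exactly one Sylow p-subgroup. -/
theorem result {G : Type*} [Group G] [Finite G]
    (p : ℕ) [Fact p.Prime] (P : Sylow p G)
    [hn : ((Cfsg.pCore p G).subgroupOf (P : Subgroup G)).Normal]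
    (hc : IsCyclic ((P : Subgroup G) ⧸ (Cfsg.pCore p G).subgroupOf (P : Subgroup G))) :
    ∃ x : G, (∃ k : ℕ, orderOf x = p ^ k) ∧ ∃! Q : Sylow p G, x ∈ Q := by
  obtain ⟨q, hq⟩ := hc.exists_generator
  induction q using QuotientGroup.induction_on with
  | H x =>
    refine ⟨(x : G), ?_, P, x.2, fun Q hQ => ?_⟩
    · obtain ⟨k, hk⟩ := P.isPGroup' x
      obtain ⟨i, -, hi⟩ := (Nat.dvd_prime_pow (Fact.out : p.Prime)).1 (orderOf_dvd_of_pow_eq_one hk)
      exact ⟨i, by rw [Subgroup.orderOf_coe, hi]⟩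
    have hcore : Cfsg.pCore p G ≤ (Q : Subgroup G) := by
      refine sSup_le ?_
      rintro N ⟨hN, hNp⟩
      haveI := hN
      have := Q.3 (Q.2.to_sup_of_normal_right hNp) le_sup_left
      rw [← this]; exact le_sup_right
    apply Sylow.ext
    refine (P.3 Q.2 ?_)
    intro y hy
    obtain ⟨n, hn⟩ := Subgroup.mem_zpowers_iff.1 (hq (QuotientGroup.mk (⟨y, hy⟩ : (P : Subgroup G))))
    rw [← QuotientGroup.mk_zpow, QuotientGroup.eq, Subgroup.mem_subgroupOf] at hn
    have h1 : ((x : G) ^ n) * (((x : G) ^ n)⁻¹ * y) ∈ (Q : Subgroup G) :=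
      mul_mem (zpow_mem hQ n) (hcore (by simpa using hn))
    rwa [mul_inv_cancel_left] at h1

end Cfsg.Agent.S4348
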