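import Cfsg.Statements.S4354
import Cfsg.Agent.SylowBasic.CentralClass

set_option autoImplicit false
open Cfsg

namespace Cfsg.Agent.S4354

/-- A group minimal among those with non-abelian Sylow p-subgroups and all p-elements of p'-class size is simple. -/
theorem result {G : Type*} [Group G] [Finite G]
    (p : ℕ) [Fact p.Prime] (h : ((∃ P : Sylow p G, ¬ IsMulCommutative P) ∧ ∀ x : G, (∃ k : ℕ, orderOf x = p ^ k) → ¬ p ∣ (Subgroup.centralizer ({x} : Set G)).index))
    (hmin : ∀ (N : Subgroup G) [N.Normal], N ≠ ⊥ → N ≠ ⊤ →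
      ¬ ((∃ P : Sylow p N, ¬ IsMulCommutative P) ∧ ∀ x : N, (∃ k : ℕ, orderOf x = p ^ k) → ¬ p ∣ (Subgroup.centralizer ({x} : Set N)).index) ∧
      ¬ ((∃ P : Sylow p (G ⧸ N), ¬ IsMulCommutative P) ∧ ∀ x : (G ⧸ N), (∃ k : ℕ, orderOf x = p ^ k) → ¬ p ∣ (Subgroup.centralizer ({x} : Set (G ⧸ N))).index)) :
    IsSimpleGroup G := by
  obtain ⟨⟨P, hP⟩, hcl⟩ := h
  have hG : Nontrivial G := by
    by_contra hne
    rw [not_nontrivial_iff_subsingleton] at hne
    exact hP ⟨⟨fun a b => Subsingleton.elim _ _⟩⟩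
  refine { toNontrivial := hG, eq_bot_or_eq_top_of_normal := fun N hN => ?_ }
  by_contra hcon
  rw [not_or] at hcon
  obtain ⟨h1, h2⟩ := hmin N hcon.1 hcon.2
  have hsN : ∀ R : Sylow p N, IsMulCommutative R := by
    by_contra hne
    rw [not_forall] at hne
    refine h1 ⟨hne, fun x hx => ?_⟩
    obtain ⟨k, hk⟩ := hx
    have hx' := hcl (x : G) ⟨k, by rwa [Subgroup.orderOf_coe]⟩
    refine fun hd => hx' (hd.trans ?_)
    have e : Subgroup.centralizer ({x} : Set N) =
        (Subgroup.centralizer ({(x : G)} : Set G)).subgroupOf N := by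
      ext y
      rw [Subgroup.mem_subgroupOf, Subgroup.mem_centralizer_singleton_iff,
        Subgroup.mem_centralizer_singleton_iff, ← Subgroup.coe_mul, ← Subgroup.coe_mul,
        Subtype.coe_inj]
    rw [e]
    set C := Subgroup.centralizer ({(x : G)} : Set G)
    show C.relIndex N ∣ C.index
    have a1 := Subgroup.relIndex_mul_relIndex (C ⊓ N) C (N ⊔ C) inf_le_left le_sup_right
    have a2 := Subgroup.relIndex_mul_relIndex (C ⊓ N) N (N ⊔ C) inf_le_right le_sup_left
    rw [Subgroup.inf_relIndex_left, ← Subgroup.relIndex_sup_left (K := N) (H := C)] at a1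
    rw [Subgroup.inf_relIndex_right, ← a1, mul_comm] at a2
    rw [Nat.eq_of_mul_eq_mul_left (Nat.pos_of_ne_zero (Subgroup.index_ne_zero_of_finite
      (H := N.subgroupOf (N ⊔ C)))) a2, ← Subgroup.relIndex_mul_index (le_sup_right : C ≤ N ⊔ C)]
    exact dvd_mul_right _ _
  have hsQ : ∀ R : Sylow p (G ⧸ N), IsMulCommutative R := by
    by_contra hne
    rw [not_forall] at hne
    refine h2 ⟨hne, fun x hx => ?_⟩
    obtain ⟨k, hk⟩ := hx
    obtain ⟨R, hR⟩ := (IsPGroup.of_card (p := p) (n := k)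
      (show Nat.card (Subgroup.zpowers x) = p ^ k by rw [Nat.card_zpowers, hk])).exists_le_sylow
    obtain ⟨R₀, rfl⟩ := Sylow.mapSurjective_surjective (QuotientGroup.mk'_surjective N) p R
    have hxR : x ∈ (R₀ : Subgroup G).map (QuotientGroup.mk' N) := by
      have := hR (Subgroup.mem_zpowers x)
      rwa [Sylow.coe_mapSurjective] at this
    obtain ⟨r, hr, rfl⟩ := hxR
    obtain ⟨j, hj⟩ := IsPGroup.iff_orderOf.mp R₀.2 ⟨r, hr⟩
    refine fun hd => hcl r ⟨j, by simpa [← Subgroup.orderOf_coe] using hj⟩ (hd.trans ?_)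
    refine dvd_trans (Subgroup.index_dvd_of_le
      (H := (Subgroup.centralizer ({r} : Set G)).map (QuotientGroup.mk' N)) ?_)
      (Subgroup.index_map_dvd _ (QuotientGroup.mk'_surjective N))
    rintro _ ⟨c, hc, rfl⟩
    simp only [SetLike.mem_coe, Subgroup.mem_centralizer_iff, Set.mem_singleton_iff,
      forall_eq] at hc ⊢
    rw [← map_mul, ← map_mul, hc]
  have hab : IsMulCommutative ((P : Subgroup G).map (QuotientGroup.mk' N)) := by
    have := hsQ (P.mapSurjective (QuotientGroup.mk'_surjective N))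
    change IsMulCommutative ((P.mapSurjective (QuotientGroup.mk'_surjective N) : Sylow p (G ⧸ N)) : Subgroup (G ⧸ N)) at this
    rwa [Sylow.coe_mapSurjective] at this
  obtain ⟨R, hR⟩ := (P.2.comap_subtype (K := N)).exists_le_sylow
  refine hP ⟨⟨fun a b => Subtype.ext ?_⟩⟩
  obtain ⟨z, hzP, hzc, hzN⟩ := CfsgLib.SylowBasic.exists_central_mul P N hab hcl a.2
  obtain ⟨w, hwP, hwc, hwN⟩ := CfsgLib.SylowBasic.exists_central_mul P N hab hcl b.2
  set u := z⁻¹ * (a : G) with hu
  set v := w⁻¹ * (b : G) with hv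
  have huP : u ∈ (P : Subgroup G) := mul_mem (inv_mem hzP) a.2
  have hvP : v ∈ (P : Subgroup G) := mul_mem (inv_mem hwP) b.2
  haveI := hsN R
  have huv : u * v = v * u :=
    congrArg (fun q : (R : Subgroup N) => ((q : N) : G))
      (IsMulCommutative.is_comm.comm (⟨⟨u, hzN⟩, hR huP⟩ : (R : Subgroup N)) ⟨⟨v, hwN⟩, hR hvP⟩)
  have hz : ∀ q ∈ (P : Subgroup G), Commute q z := fun q hq =>
    Subgroup.mem_centralizer_iff.mp hzc q hq
  have hw : ∀ q ∈ (P : Subgroup G), Commute q w := fun q hq =>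
    Subgroup.mem_centralizer_iff.mp hwc q hq
  have ea : (a : G) = z * u := by rw [hu]; group
  have eb : (b : G) = w * v := by rw [hv]; group
  show (a : G) * (b : G) = (b : G) * (a : G)
  rw [ea, eb]
  exact (((hw z hzP).mul_left (hw u huP)).mul_right
    ((hz v hvP).symm.mul_left (show Commute u v from huv))).eq

end Cfsg.Agent.S4354
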