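import Cfsg.Statements.S4355
import Cfsg.Agent.CentralConj.TwoAbelian

set_option autoImplicit false
open Cfsg

namespace Cfsg.Agent.S4355

/-- If every element of 2-power order of a finite group has a conjugacy class of odd size, then the Sylow 2-subgroups of the group are abelian. -/
theorem result {G : Type*} [Group G] [Finite G]
    (h : ∀ x : G, (∃ k : ℕ, orderOf x = 2 ^ k) → ¬ 2 ∣ (Subgroup.centralizer ({x} : Set G)).index) (P : Sylow 2 G) :
    IsMulCommutative P := by
  apply CfsgLib.CentralConj.sylowTwo_comm (fun x hx => ?_) P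
  obtain ⟨R⟩ := Sylow.nonempty (p := 2) (G := ↥(Subgroup.centralizer ({x} : Set G)))
  obtain ⟨Q, hQ⟩ := (R.2.map (Subgroup.centralizer ({x} : Set G)).subtype).exists_le_sylow
  refine ⟨Q, ?_⟩
  -- a Sylow 2-subgroup of the centralizer is one of the group
  have hle := Subgroup.map_subtype_le (R : Subgroup ↥(Subgroup.centralizer ({x} : Set G)))
  have hidx : ¬ 2 ∣ ((R : Subgroup _).map (Subgroup.centralizer ({x} : Set G)).subtype).index := by
    rw [Subgroup.index_map_subtype, Nat.Prime.dvd_mul Nat.prime_two]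
    exact not_or.2 ⟨R.not_dvd_index, h x hx⟩
  have hrel : ((R : Subgroup _).map (Subgroup.centralizer ({x} : Set G)).subtype).relIndex Q = 1 := by
    obtain ⟨k, hk⟩ := IsPGroup.iff_card.1 Q.2
    have h1 : ((R : Subgroup _).map (Subgroup.centralizer ({x} : Set G)).subtype).relIndex Q ∣ 2 ^ k := by
      rw [← hk]; exact Subgroup.relIndex_dvd_card _ _
    obtain ⟨j, -, hj⟩ := (Nat.dvd_prime_pow Nat.prime_two).1 h1
    rcases Nat.eq_zero_or_pos j with rfl | hpos
    · simpa using hj
    · exact absurd ((dvd_pow_self 2 hpos.ne').trans (hj ▸ Subgroup.relIndex_dvd_index_of_le hQ)) hidx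
  exact (Subgroup.relIndex_eq_one.1 hrel).trans hle

end Cfsg.Agent.S4355
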