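import Cfsg.Statements.S4358
import Cfsg.Agent.MonomialSylow.Redundant

set_option autoImplicit false
open Cfsg

namespace Cfsg.Agent.S4358

/-- Let p be an odd prime and F a finite field with q elements such that p divides q - 1 but p² does not. Then GL(p, F) has a Sylow p-subgroup Q such that every element of p-power order lies in some Sylow p-subgroup other than Q (a redundant Sylow p-subgroup). -/
theorem result {F : Type*} [Field F] [Fintype F] (p : ℕ) [Fact p.Prime]
    (hp : p ≠ 2) (h1 : p ∣ Fintype.card F - 1) (h2 : ¬ p ^ 2 ∣ Fintype.card F - 1) :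
    ∃ Q : Sylow p (Matrix.GeneralLinearGroup (Fin p) F), ∀ x : Matrix.GeneralLinearGroup (Fin p) F,
      (∃ k : ℕ, orderOf x = p ^ k) → ∃ P : Sylow p (Matrix.GeneralLinearGroup (Fin p) F), P ≠ Q ∧ x ∈ P := by
  classical
  have hω : ∃ ω : F, ω ^ p = 1 ∧ ω ≠ 1 := by
    by_contra! h
    have hsub : Subsingleton {x : F // x ^ p = 1} :=
      ⟨fun a b => Subtype.ext ((h a.1 a.2).trans (h b.1 b.2).symm)⟩
    have := CfsgLib.MonomialSylow.card_roots (F := F) (p := p) h1
    rw [Nat.card_eq_one_iff_unique.2 ⟨hsub, ⟨⟨1, one_pow p⟩⟩⟩] at this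
    exact (Fact.out : p.Prime).ne_one this.symm
  obtain ⟨ω, hω, hω1⟩ := hω
  let Q : Sylow p (GL (Fin p) F) := Sylow.ofCard (CfsgLib.MonomialSylow.monGroup F p) (by
    rw [CfsgLib.MonomialSylow.card_monGroup h1, CfsgLib.MonomialSylow.factorization_card_gl h1 h2 hp])
  have hQ : ∀ g, g ∈ Q ↔ g ∈ CfsgLib.MonomialSylow.monGroup F p := fun g => Iff.rfl
  have hmem : ∀ (g y : GL (Fin p) F) (P : Sylow p (GL (Fin p) F)), y ∈ g • P ↔ g⁻¹ * y * g ∈ P := by
    intro g y P
    show y ∈ ((g • P : Sylow p (GL (Fin p) F)) : Subgroup (GL (Fin p) F)) ↔ _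
    rw [Sylow.coe_subgroup_smul, Subgroup.mem_pointwise_smul_iff_inv_smul_mem]
    simp only [MulAut.smul_def, MulAut.inv_def, MulAut.conj_symm_apply]
    rfl
  have hmove : ∀ (z : GL (Fin p) F) (a b i : Fin p), a ≠ b →
      (z : Matrix (Fin p) (Fin p) F) i a ≠ 0 → (z : Matrix (Fin p) (Fin p) F) i b ≠ 0 → z • Q ≠ Q := by
    intro z a b i hab ha hb heq
    refine CfsgLib.MonomialSylow.not_normalizes hp hω hω1 (z := z) (fun g hg => ?_) hab ha hb
    have : z * g * z⁻¹ ∈ z • Q := by
      rw [hmem]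
      simpa [mul_assoc] using (hQ g).2 hg
    rw [heq] at this
    exact (hQ _).1 this
  have hcomm : ∀ (z y : GL (Fin p) F), Commute z y → y ∈ Q → y ∈ z • Q := by
    intro z y hzy hy
    rw [hmem, mul_assoc, ← hzy.eq, ← mul_assoc, inv_mul_cancel, one_mul]
    exact hy
  refine ⟨Q, fun x hx => ?_⟩
  obtain ⟨n, hn⟩ := hx
  obtain ⟨P, hP⟩ := (IsPGroup.of_card (p := p) (n := n) (G := Subgroup.zpowers x)
    (by rw [Nat.card_zpowers, hn])).exists_le_sylow
  have hxP : x ∈ P := hP (Subgroup.mem_zpowers x)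
  by_cases hPQ : P = Q
  swap
  · exact ⟨P, hPQ, hxP⟩
  subst hPQ
  obtain ⟨d, k, hxd, hd⟩ := (hQ x).1 hxP
  by_cases hk : k = 0
  swap
  · obtain ⟨z, hz, a, b, hab, ha, hb⟩ := CfsgLib.MonomialSylow.exists_centralizing h1 h2 hp hxd hd hk
    exact ⟨z • Q, hmove z a b 0 hab ha hb, hcomm z x hz hxP⟩
  subst hk
  by_cases hinj : Function.Injective d
  · obtain ⟨V, C', X', hC', hX', hC, he⟩ := CfsgLib.MonomialSylow.conj_vandermonde hd hinj
    have hxX : x = X' := Units.ext (hxd.trans hX'.symm)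
    have h10 : (1 : Fin p) ≠ 0 := fun h => by
      have := congrArg Fin.val h
      rw [Fin.val_one', Nat.mod_eq_of_lt (Fact.out : p.Prime).one_lt] at this
      exact one_ne_zero this
    obtain ⟨z, hz, a, b, hab, ha, hb⟩ :=
      CfsgLib.MonomialSylow.exists_centralizing h1 h2 hp hC (fun _ => one_pow _) h10
    have hx1 : x ∈ V⁻¹ • Q := by
      rw [hmem, hxX, he]
      simpa [mul_assoc] using (hQ C').2 hC'
    have hx2 : x ∈ V⁻¹ • z • Q := by
      rw [hmem, hxX, he]
      simpa [mul_assoc] using hcomm z C' hz ((hQ C').2 hC')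
    by_cases h : V⁻¹ • Q = Q
    · refine ⟨V⁻¹ • z • Q, fun e => hmove z a b 0 hab ha hb ?_, hx2⟩
      exact MulAction.injective V⁻¹ (e.trans h.symm)
    · exact ⟨V⁻¹ • Q, h, hx1⟩
  · obtain ⟨i, j, hij, hne⟩ : ∃ i j, d i = d j ∧ i ≠ j := by
      simpa [Function.Injective] using hinj
    let z : GL (Fin p) F := Matrix.GeneralLinearGroup.mkOfDetNeZero (Matrix.transvection i j (1 : F))
      (by rw [Matrix.det_transvection_of_ne i j hne]; exact one_ne_zero)
    have hcz : Commute z x := by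
      refine Units.ext ?_
      show Matrix.transvection i j (1 : F) * (x : Matrix (Fin p) (Fin p) F) = (x : Matrix (Fin p) (Fin p) F) * Matrix.transvection i j (1 : F)
      have hdiag : (x : Matrix (Fin p) (Fin p) F) = Matrix.diagonal d := by
        rw [hxd]
        ext r c
        by_cases h : r = c <;> simp [CfsgLib.MonomialSylow.mon, h, Matrix.diagonal, eq_comm]
      rw [hdiag]
      ext r c
      rw [Matrix.mul_diagonal, Matrix.diagonal_mul]
      by_cases h : r = c
      · subst h; ring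
      by_cases h' : r = i ∧ c = j
      · obtain ⟨rfl, rfl⟩ := h'
        rw [hij]; ring
      · have : Matrix.transvection i j (1 : F) r c = 0 := by
          simp only [Matrix.transvection, Matrix.add_apply, Matrix.one_apply_ne h, zero_add, Matrix.single_apply]
          rw [if_neg fun e => h' ⟨e.1.symm, e.2.symm⟩]
        rw [this, zero_mul, mul_zero]
    refine ⟨z • Q, hmove z i j i hne ?_ ?_, hcomm z x hcz hxP⟩
    · show Matrix.transvection i j (1 : F) i i ≠ 0
      simp [Matrix.transvection, hne.symm]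
    · show Matrix.transvection i j (1 : F) i j ≠ 0
      simp [Matrix.transvection, hne]

end Cfsg.Agent.S4358
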