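import Cfsg.Statements.S4359
import Cfsg.Agent.ConjChain.Bound

set_option autoImplicit false
-- import your own Cfsg.Agent.* helpers here

set_option autoImplicit false
open Pointwise
open Cfsg

namespace Cfsg.Agent.S4359

/-- Let P be a subgroup of a finite group G and g an element such that P ∩ g⁻¹Pg is a normal subgroup of prime index p in g⁻¹Pg. Let n ≥ 1 and let K be the subgroup generated by P and its conjugates g⁻ⁱPgⁱ for i ≤ n. Suppose that g normalizes no non-identity normal subgroup of P and that P meets the center of K trivially. Then the order of P is pᵗ for some t with 1 ≤ t ≤ 3n and t ≠ 3n - 1. -/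
theorem result {G : Type*} [Group G] [Finite G]
    (P : Subgroup G) (g : G) (p : ℕ) (hp : p.Prime)
    (hN : ((P ⊓ MulAut.conj g⁻¹ • P).subgroupOf (MulAut.conj g⁻¹ • P)).Normal)
    (hidx : (P ⊓ MulAut.conj g⁻¹ • P).relIndex (MulAut.conj g⁻¹ • P) = p)
    (n : ℕ) (hn : 1 ≤ n) (K : Subgroup G) (hK : K = ⨆ i ∈ Finset.range (n + 1), MulAut.conj (g ^ i)⁻¹ • P)
    (h1 : ∀ Q : Subgroup G, Q ≤ P → (Q.subgroupOf P).Normal → MulAut.conj g • Q = Q → Q = ⊥)
    (h2 : P ⊓ (Subgroup.center K).map K.subtype = ⊥) :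
    ∃ t : ℕ, Nat.card P = p ^ t ∧ 1 ≤ t ∧ t ≤ 3 * n ∧ t ≠ 3 * n - 1 := by
  classical
  obtain ⟨x0, t, ht, hC, hP⟩ := CfsgLib.ConjChain.exists_chain P g p hp hN hidx h1
  have hPK : ∀ i : ℕ, i ≤ n → MulAut.conj (g ^ i)⁻¹ • P = CfsgLib.ConjChain.S g x0 i t := by
    intro i _
    rw [hP]
    have h := CfsgLib.ConjChain.smul_S g x0 (i : ℤ) 0 t
    rwa [zpow_natCast, zero_add] at h
  have hPle : P ≤ K := by
    rw [hK]
    refine le_iSup₂_of_le 0 (Finset.mem_range.2 (by omega)) ?_
    simp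
  have hKle : ∀ y : G, (∀ i : ℤ, 0 ≤ i → i < n + t → Commute y (CfsgLib.ConjChain.x g x0 i)) →
      ∀ v ∈ K, Commute y v := by
    intro y hy v hv
    have : K ≤ Subgroup.centralizer ({y} : Set G) := by
      rw [hK]
      refine iSup₂_le fun i hi => ?_
      rw [hPK i (by simpa [Nat.lt_succ_iff] using hi)]
      intro w hw
      refine Subgroup.mem_centralizer_singleton_iff.2 (CfsgLib.ConjChain.commute_of_mem ?_ hw).symm.eq
      intro j hj hj'
      exact hy j (by omega) (by simp at hi; omega)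
    exact (Subgroup.mem_centralizer_singleton_iff.1 (this hv)).symm
  have key : ∀ k : ℕ, 1 ≤ k → k ≤ t →
      (∀ d : ℕ, d < k → Commute (CfsgLib.ConjChain.x g x0 0) (CfsgLib.ConjChain.x g x0 d)) →
      2 * k ≤ t + n := by
    intro k hk1 hkt hk
    by_contra hcon
    set j : ℤ := (t : ℤ) + n - k with hj
    have hyP : CfsgLib.ConjChain.x g x0 j ∈ P := hP ▸ CfsgLib.ConjChain.x_mem_S (by omega) (by omega)
    have hmem : CfsgLib.ConjChain.x g x0 j ∈ P ⊓ (Subgroup.center K).map K.subtype := by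
      refine ⟨hyP, ⟨⟨_, hPle hyP⟩, Subgroup.mem_center_iff.2 fun v => Subtype.ext ?_, rfl⟩⟩
      have h := hKle (CfsgLib.ConjChain.x g x0 j)
        (fun i hi hi' => CfsgLib.ConjChain.commute_x k hk j i (by omega) (by omega)) _ v.2
      exact h.eq.symm
    rw [h2, Subgroup.mem_bot] at hmem
    exact hC.x_ne_one ht j hmem
  refine ⟨t, by rw [hP]; exact hC.card_eq 0 t le_rfl, ht, ?_⟩
  by_cases hex : ∃ d : ℕ, d < t ∧
      ¬ Commute (CfsgLib.ConjChain.x g x0 0) (CfsgLib.ConjChain.x g x0 d)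
  · obtain ⟨hkt, hnot⟩ := Nat.find_spec hex
    set k := Nat.find hex with hkdef
    have hk : ∀ d : ℕ, d < k →
        Commute (CfsgLib.ConjChain.x g x0 0) (CfsgLib.ConjChain.x g x0 d) := fun d hd => by
      have h := Nat.find_min hex hd
      by_contra hc
      exact h ⟨by omega, hc⟩
    have hk1 : 1 ≤ k := by
      rcases Nat.eq_zero_or_pos k with h | h
      · rw [h] at hnot
        exact absurd (Commute.refl _) hnot
      · exact h
    have h3 := hC.two_mul_le hk1 hkt hk hnot
    have h4 := key k hk1 (by omega) hk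
    omega
  · push Not at hex
    have h4 := key t ht le_rfl hex
    omega

end Cfsg.Agent.S4359
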