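import Cfsg.Statements.S4363
import Cfsg.Agent.Turull.Main
import Cfsg.Agent.Turull.TowerExist

set_option autoImplicit false
open Cfsg

namespace Cfsg.Agent.S4363

/-- Let G be a finite solvable group and σ an automorphism of G of prime order r not dividing the order of G, with fixed-point subgroup C. Then the Fitting height of G exceeds that of C by at most 2: if C has a chain of normal subgroups 1 = C₀ ≤ ⋯ ≤ Cₙ = C with nilpotent factors, then G has such a chain of length n + 2. -/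
theorem result {G : Type*} [Group G] [Finite G]
    (hG : Group.IsSolvable G) (σ : MulAut G) (r : ℕ) (hr : r.Prime) (hσ : orderOf σ = r) (hcop : ¬ r ∣ Nat.card G)
    (C : Subgroup G) (hC : ∀ g : G, g ∈ C ↔ σ g = g) (n : ℕ) (hn : (∃ F : Fin (n + 1) → Subgroup ↥C, F 0 = ⊥ ∧ F (Fin.last n) = ⊤ ∧ Monotone F ∧ (∀ i, (F i).Normal) ∧ ∀ i : Fin n, ∃ k : ℕ, (F i.succ).lowerCentralSeries k ≤ F i.castSucc)) :
    (∃ F : Fin ((n + 2) + 1) → Subgroup G, F 0 = ⊥ ∧ F (Fin.last (n + 2)) = ⊤ ∧ Monotone F ∧ (∀ i, (F i).Normal) ∧ ∀ i : Fin (n + 2), ∃ k : ℕ, (F i.succ).lowerCentralSeries k ≤ F i.castSucc) := by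
  obtain ⟨F, h0, hl, -, -, hstep⟩ := hn
  have hCbot := CfsgLib.SFTCor.iter_eq_bot_of_chain F h0 hl hstep
  refine CfsgLib.SFTCor.exists_chain (n := n + 2) ?_
  by_contra hne
  haveI := hG
  have hfo : IsOfFinOrder σ := orderOf_pos_iff.1 (hσ.symm ▸ hr.pos)
  have hcard : Nat.card (Subgroup.zpowers σ) = r := by rw [Nat.card_zpowers, hσ]
  haveI : Finite (Subgroup.zpowers σ) := Nat.finite_of_card_ne_zero (by rw [hcard]; exact hr.ne_zero)
  haveI : Group.IsSolvable (Subgroup.zpowers σ) := inferInstance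
  have hcop' : (Nat.card (Subgroup.zpowers σ)).Coprime (Nat.card G) := by
    rw [hcard]; exact (Nat.Prime.coprime_iff_not_dvd hr).2 hcop
  obtain ⟨P, p, hP, -⟩ :=
    CfsgLib.Turull.exists_tower (A := Subgroup.zpowers σ) (n + 2) G hcop' hG hne
  obtain ⟨Q, hQ⟩ := CfsgLib.Turull.exists_good hP
  let a : Subgroup.zpowers σ := ⟨σ, Subgroup.mem_zpowers σ⟩
  have hA : CfsgLib.Turull.CyclicOp G a r :=
    { prime := hr
      pow_eq := Subtype.ext (by show σ ^ r = 1; rw [← hσ]; exact pow_orderOf_eq_one σ)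
      gen := fun b => by
        obtain ⟨j, hj⟩ := hfo.mem_powers_iff_mem_zpowers.2 b.2
        exact ⟨j, Subtype.ext hj⟩
      cop := hcop }
  have hfix : (CfsgLib.Turull.fixBy a : Subgroup G) = C := by
    ext g
    rw [CfsgLib.Turull.mem_fixBy, hC]
    exact Iff.rfl
  have h := hQ.height_fixed hA hcop' (by omega)
  rw [show n + 2 + 1 - 3 = n by omega, hfix] at h
  exact h hCbot

end Cfsg.Agent.S4363
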