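import Cfsg.Statements.S4369
import Cfsg.Agent.MinNonCA.Forward
import Cfsg.Agent.MinNonCA.Converse

set_option autoImplicit false
open Cfsg

namespace Cfsg.Agent.S4369

/-- Call a group a CA-group when the centralizer of every non-central element is abelian. A finite group G is non-solvable, is not a CA-group, and has all its proper subgroups CA-groups, if and only if G is isomorphic to PSL(2, q) where q > 5 is a prime with 16 not dividing q² - 1, or q = 3ᵖ or q = 5ᵖ for an odd prime p. -/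
theorem result {G : Type*} [Group G] [Finite G] :
    (¬ Group.IsSolvable G ∧ ¬ (∀ x : G, x ∉ Subgroup.center G → IsMulCommutative (Subgroup.centralizer ({x} : Set G))) ∧ ∀ H : Subgroup G, H ≠ ⊤ → (∀ x : H, x ∉ Subgroup.center H → IsMulCommutative (Subgroup.centralizer ({x} : Set H)))) ↔
      ∃ (F : Type) (_ : Field F) (_ : Fintype F), Nonempty (G ≃* Matrix.ProjectiveSpecialLinearGroup (Fin 2) F) ∧
        (((Fintype.card F).Prime ∧ 5 < Fintype.card F ∧ ¬ 16 ∣ Fintype.card F ^ 2 - 1) ∨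
         (∃ p : ℕ, p.Prime ∧ p ≠ 2 ∧ (Fintype.card F = 3 ^ p ∨ Fintype.card F = 5 ^ p))) := by
  constructor
  · rintro ⟨hns, hnca, hH⟩
    exact CfsgLib.MinNonCA.forward
      ⟨hns, fun H hne => CfsgLib.MinNonCA.caon_iff.2 (CfsgLib.MinNonCA.ca_iff.2 (hH H hne))⟩
      (fun h => hnca (CfsgLib.MinNonCA.ca_iff.1 h))
  · rintro ⟨F, _, _, ⟨e⟩, h⟩
    obtain ⟨hns, hnca, hsub⟩ := CfsgLib.MinNonCA.converse h
    refine ⟨fun hs => hns ?_, fun hc => hnca (CfsgLib.MinNonCA.ca_of_mulEquiv e
      (CfsgLib.MinNonCA.ca_iff.2 hc)), fun H hne => CfsgLib.MinNonCA.ca_iff.1 ?_⟩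
    · haveI := hs
      exact Group.isSolvable_of_surjective (f := e.toMonoidHom) e.surjective
    · refine CfsgLib.MinNonCA.ca_of_mulEquiv (e.subgroupMap H).symm (hsub _ fun htop => hne ?_)
      refine (Subgroup.eq_top_iff' H).2 fun g => ?_
      obtain ⟨k, hk, hkg⟩ : e g ∈ H.map e.toMonoidHom := htop ▸ Subgroup.mem_top _
      rwa [← e.injective hkg]

end Cfsg.Agent.S4369
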