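import Cfsg.Statements.S4370
import Cfsg.Agent.CyclicCentralizers.Basic

set_option autoImplicit false
set_option linter.style.haveILetI false
open Cfsg

namespace Cfsg.Agent.S4370

/-- Let G be a finite non-abelian nilpotent group. Then the centralizer of every non-central element of G is cyclic if and only if G is isomorphic to the direct product of a generalized quaternion group and a cyclic group of odd order. -/
theorem result {G : Type*} [Group G] [Finite G] (hG : Group.IsNilpotent G)
    (hna : ¬ IsMulCommutative G) :
    (∀ x : G, x ∉ Subgroup.center G → IsCyclic (Subgroup.centralizer ({x} : Set G))) ↔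
      ∃ (k m : ℕ), 1 ≤ k ∧ Odd m ∧ Nonempty (G ≃* QuaternionGroup (2 ^ k) × Multiplicative (ZMod m)) := by
  haveI := hG
  refine ⟨fun h => CfsgLib.CyclicCentralizers.exists_equiv hna h, ?_⟩
  rintro ⟨k, m, -, hm, ⟨e⟩⟩ x hx
  have hx' : e x ∉ Subgroup.center _ := fun hc => hx (Subgroup.mem_center_iff.2 fun g =>
    e.injective (by rw [map_mul, map_mul]; exact Subgroup.mem_center_iff.1 hc (e g)))
  haveI := CfsgLib.CyclicCentralizers.isCyclic_centralizer_prod hm (e x) hx'
  exact isCyclic_of_injective
    ({ toFun := fun y => ⟨e (y : G), Subgroup.mem_centralizer_singleton_iff.2 (by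
          rw [← map_mul, ← map_mul, Subgroup.mem_centralizer_singleton_iff.1 y.2])⟩
       map_one' := Subtype.ext (map_one e)
       map_mul' := fun a b => Subtype.ext (map_mul e _ _) } :
      Subgroup.centralizer ({x} : Set G) →* Subgroup.centralizer ({e x} : Set (QuaternionGroup (2 ^ k) × Multiplicative (ZMod m))))
    (fun a b h => Subtype.ext (e.injective (congrArg Subtype.val h)))

end Cfsg.Agent.S4370
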