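import Cfsg.Statements.S4371
import Cfsg.Agent.PrimePairs.CITMain
import Cfsg.Agent.PrimePairs.Hyp
-- import your own Cfsg.Agent.* helpers here

set_option autoImplicit false
open Cfsg

namespace Cfsg.Agent.S4371

/-- Let G be a finite non-solvable group in which no prime divides three pairwise distinct element orders. Then one of the following holds, where 'a product of at most two primes' always counts primes with multiplicity: the quotient of G by its largest normal 2-subgroup is isomorphic to PSL(2, q) with q = 2ᶠ ≥ 4 and each of q + 1, q - 1 a product of at most two primes; G is isomorphic to PSL(2, q) with q > 5, q ≡ 3 or 5 (mod 8) and each of (q + 1)/2, (q - 1)/2 a product of at most two primes; G is isomorphic to PSL(2, 7), PSL(2, 9) or PSL(3, 4); or G is simple of order q²(q² + 1)(q - 1), the order of the Suzuki group Sz(q), where q = 2²ⁿ⁺¹ ≥ 8, and each of q - 1, q - r + 1, q + r + 1 (r = 2ⁿ⁺¹) is a product of at most two primes.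 -/
theorem result {G : Type*} [Group G] [Finite G]
    (hG : ¬ Group.IsSolvable G) (h3 : (∀ p : ℕ, p.Prime → ∀ a b c : G, orderOf a ≠ orderOf b → orderOf b ≠ orderOf c → orderOf a ≠ orderOf c → ¬ (p ∣ orderOf a ∧ p ∣ orderOf b ∧ p ∣ orderOf c))) :
    (∃ (F : Type) (_ : Field F) (_ : Fintype F), CharP F 2 ∧ 4 ≤ Fintype.card F ∧
        (Fintype.card F + 1).primeFactorsList.length ≤ 2 ∧ (Fintype.card F - 1).primeFactorsList.length ≤ 2 ∧
        Nonempty (G ⧸ Cfsg.pCore 2 G ≃* Matrix.ProjectiveSpecialLinearGroup (Fin 2) F)) ∨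
    (∃ (F : Type) (_ : Field F) (_ : Fintype F), 5 < Fintype.card F ∧ (Fintype.card F % 8 = 3 ∨ Fintype.card F % 8 = 5) ∧
        ((Fintype.card F + 1) / 2).primeFactorsList.length ≤ 2 ∧ ((Fintype.card F - 1) / 2).primeFactorsList.length ≤ 2 ∧
        Nonempty (G ≃* Matrix.ProjectiveSpecialLinearGroup (Fin 2) F)) ∨
    (∃ (F : Type) (_ : Field F) (_ : Fintype F), (Fintype.card F = 7 ∨ Fintype.card F = 9) ∧
        Nonempty (G ≃* Matrix.ProjectiveSpecialLinearGroup (Fin 2) F)) ∨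
    (∃ (F : Type) (_ : Field F) (_ : Fintype F), Fintype.card F = 4 ∧ Nonempty (G ≃* Matrix.ProjectiveSpecialLinearGroup (Fin 3) F)) ∨
    (∃ n : ℕ, 1 ≤ n ∧ IsSimpleGroup G ∧ Nat.card G = (2 ^ (2 * n + 1)) ^ 2 * ((2 ^ (2 * n + 1)) ^ 2 + 1) * (2 ^ (2 * n + 1) - 1) ∧
        (2 ^ (2 * n + 1) - 1).primeFactorsList.length ≤ 2 ∧ (2 ^ (2 * n + 1) - 2 ^ (n + 1) + 1).primeFactorsList.length ≤ 2 ∧
        (2 ^ (2 * n + 1) + 2 ^ (n + 1) + 1).primeFactorsList.length ≤ 2) := by
  rcases CfsgLib.PrimePairs.Cond.dichotomy (G := G) h3 with hcit | ⟨p, hp, x, hx⟩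
  · exact CfsgLib.PrimePairs.cit_main hG hcit h3
  · have hncit : ¬ CfsgLib.CIT.IsCIT G := fun hc =>
      CfsgLib.CITGraph.no_two_mul hc hp.prime hp.odd ⟨x, hx⟩
    obtain ⟨F, hf, hfi, hodd, hq, ⟨e⟩⟩ := CfsgLib.PrimePairs.hyp_main hp hG hncit
    letI := hf; letI := hfi
    obtain ⟨⟨a, ha⟩, ⟨b, hb⟩⟩ := CfsgLib.PrimePairs.exists_orders_odd e hodd
    have hp3 := hp.two_lt
    have hp2 : p % 2 = 1 := Nat.odd_iff.1 (hp.prime.odd_of_ne_two hp.odd)
    refine Or.inr (Or.inl ⟨F, hf, hfi, by omega, by omega, ?_, ?_, ⟨e⟩⟩)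
    · exact hb ▸ CfsgLib.PrimePairs.Cond.factors h3 b
    · exact ha ▸ CfsgLib.PrimePairs.Cond.factors h3 a

end Cfsg.Agent.S4371
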