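import Cfsg.Statements.S4374
import Cfsg.Agent.SolvBase.Main

set_option autoImplicit false
open Cfsg

namespace Cfsg.Agent.S4374

/-- Let the finite solvable group A act faithfully on the finite additive group V by group automorphisms, completely reducibly (every A-invariant subgroup has an A-invariant complement). Then there are v₁, v₂, v₃ ∈ V such that only the identity of A fixes all three. -/
theorem result {A V : Type*} [Group A] [Finite A]
    [AddCommGroup V] [Finite V] [DistribMulAction A V] [FaithfulSMul A V] (hA : Group.IsSolvable A)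
    (hcr : (∀ U : AddSubgroup V, (∀ a : A, ∀ v ∈ U, a • v ∈ U) → ∃ W : AddSubgroup V, (∀ a : A, ∀ w ∈ W, a • w ∈ W) ∧ U ⊓ W = ⊥ ∧ U ⊔ W = ⊤)) :
    ∃ v₁ v₂ v₃ : V, ∀ a : A, a • v₁ = v₁ → a • v₂ = v₂ → a • v₃ = v₃ → a = 1 := by
  let ρ : A →* CfsgLib.OddBase.Aut V := (DistribMulAction.toAddMonoidEnd A V).toHomUnits
  have hρ : ∀ (a : A) (v : V), ρ a • v = a • v := fun a v => rfl
  have hinj : Function.Injective ρ := fun a b h => eq_of_smul_eq_smul fun v => by
    rw [← hρ, ← hρ, h]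
  obtain ⟨⟨v1, v2, v3⟩, h⟩ := CfsgLib.SolvBase.triGood _ V rfl ρ.range
    (CfsgLib.OddBase.solvable_range ρ hA) (fun U hU => by
      obtain ⟨W, hW, h1, h2⟩ := hcr U fun a v hv => hρ a v ▸ hU _ ⟨a, rfl⟩ v hv
      refine ⟨W, ?_, h1, h2⟩
      rintro _ ⟨a, rfl⟩ w hw
      exact (hρ a w).symm ▸ hW a w hw)
  exact ⟨v1, v2, v3, fun a h1 h2 h3 => hinj
    ((h _ ⟨a, rfl⟩ ((hρ a v1).trans h1) ((hρ a v2).trans h2) ((hρ a v3).trans h3)).trans
      (map_one ρ).symm)⟩

end Cfsg.Agent.S4374
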