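import Cfsg.Statements.S4377
import Mathlib.Data.Fintype.Card

set_option autoImplicit false
set_option linter.style.haveILetI false
open Cfsg

namespace Cfsg.Agent.S4377

/-- Two finite groups have the same number of elements of each order if and only if, for every n, they have the same number of elements g with gⁿ = 1. -/
theorem result {G H : Type*} [Group G] [Finite G] [Group H] [Finite H] :
    (∀ n : ℕ, Nat.card {g : G // orderOf g = n} = Nat.card {h : H // orderOf h = n}) ↔
      ∀ n : ℕ, Nat.card {g : G // g ^ n = 1} = Nat.card {h : H // h ^ n = 1} := by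
  classical
  haveI := Fintype.ofFinite G
  haveI := Fintype.ofFinite H
  constructor
  · intro h n
    have e1 : ∀ d : ℕ, {g : G // orderOf g = d} ≃ {x : H // orderOf x = d} := fun d =>
      (Finite.card_eq.1 (h d)).some
    let E : G ≃ H := (Equiv.sigmaFiberEquiv (fun g : G => orderOf g)).symm.trans
      ((Equiv.sigmaCongrRight e1).trans (Equiv.sigmaFiberEquiv (fun x : H => orderOf x)))
    have hE : ∀ g, orderOf (E g) = orderOf g := fun g => (e1 (orderOf g) ⟨g, rfl⟩).2
    refine Nat.card_congr (E.subtypeEquiv fun g => ?_)
    rw [← orderOf_dvd_iff_pow_eq_one, ← orderOf_dvd_iff_pow_eq_one, hE]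
  · intro h n
    induction n using Nat.strong_induction_on with
    | _ n ih =>
      rcases Nat.eq_zero_or_pos n with rfl | hn
      · rw [Nat.card_eq_zero.2 (Or.inl ?_), Nat.card_eq_zero.2 (Or.inl ?_)]
        · exact ⟨fun x => (orderOf_pos x.1).ne' x.2⟩
        · exact ⟨fun x => (orderOf_pos x.1).ne' x.2⟩
      have key : ∀ (X : Type _) [Group X] [Fintype X], Nat.card {g : X // g ^ n = 1} =
          ∑ d ∈ n.divisors, Nat.card {g : X // orderOf g = d} := by
        intro X _ _
        simp only [Nat.card_eq_fintype_card, Fintype.card_subtype]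
        exact (sum_card_orderOf_eq_card_pow_eq_one hn.ne').symm
      have key' : Nat.card {x : H // x ^ n = 1} =
          ∑ d ∈ n.divisors, Nat.card {x : H // orderOf x = d} := by
        simp only [Nat.card_eq_fintype_card, Fintype.card_subtype]
        exact (sum_card_orderOf_eq_card_pow_eq_one hn.ne').symm
      have := h n
      rw [key G, key', ← Finset.add_sum_erase _ _ (Nat.mem_divisors_self n hn.ne'),
        ← Finset.add_sum_erase _ _ (Nat.mem_divisors_self n hn.ne'),
        Finset.sum_congr rfl fun d hd => ih d (lt_of_le_of_ne
          (Nat.divisor_le (Finset.mem_of_mem_erase hd)) (Finset.ne_of_mem_erase hd))] at this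
      omega

end Cfsg.Agent.S4377
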