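import Cfsg.Statements.S4381
import Cfsg.Agent.Solvable.CoprimeAct
import Cfsg.Agent.FGSA.InvariantComplement
import Cfsg.Agent.FGSB.SquareCount

set_option autoImplicit false
open Pointwise
open Cfsg

namespace Cfsg.Agent.S4381

open Subgroup CfsgLib.Coprime in
theorem exists_invariant_sylow' {A G : Type*} [Group A] [Finite A] [Group G] [Finite G]
    [MulDistribMulAction A G] (hcop : (Nat.card A).Coprime (Nat.card G))
    (hsol : Group.IsSolvable A ∨ Group.IsSolvable G) (p : ℕ) [Fact p.Prime] :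
    ∃ P : Sylow p G, IsInvariant A (P : Subgroup G) := by
  let φ : A →* MulAut G := MulDistribMulAction.toMulAut A G
  let X := G ⋊[φ] A
  haveI : Finite X := Finite.of_equiv _ (SemidirectProduct.equivProd (φ := φ)).symm
  set K : Subgroup X := (SemidirectProduct.inl : G →* X).range
  set A' : Subgroup X := (SemidirectProduct.inr : A →* X).range
  have hK : Nat.card K = Nat.card G :=
    Nat.card_congr (MonoidHom.ofInjective SemidirectProduct.inl_injective).symm.toEquiv
  have hA : Nat.card A' = Nat.card A :=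
    Nat.card_congr (MonoidHom.ofInjective SemidirectProduct.inr_injective).symm.toEquiv
  have hn : A' ≤ normalizer (K : Set X) := by
    haveI : K.Normal := by
      show (SemidirectProduct.inl : G →* X).range.Normal
      rw [SemidirectProduct.range_inl_eq_ker_rightHom]
      infer_instance
    rw [normalizer_eq_top]
    exact le_top
  have hsol' : Group.IsSolvable A' ∨ Group.IsSolvable K := hsol.imp
    (fun h => by
      haveI := h
      exact Group.isSolvable_of_surjective
        (MonoidHom.ofInjective (SemidirectProduct.inr_injective (φ := φ))).surjective)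
    (fun h => by
      haveI := h
      exact Group.isSolvable_of_surjective
        (MonoidHom.ofInjective (SemidirectProduct.inl_injective (φ := φ))).surjective)
  obtain ⟨P, hP⟩ := CfsgLib.CoprimeAct.exists_invariant_sylow hn (hA ▸ hK ▸ hcop) hsol' p
  let e : G ≃* ↥K := MonoidHom.ofInjective (SemidirectProduct.inl_injective (φ := φ))
  refine ⟨P.comapOfInjective e.toMonoidHom e.injective (fun x _ => e.surjective x), ?_⟩
  intro a g hg
  change e g ∈ (P : Subgroup K) at hg
  change e (a • g) ∈ (P : Subgroup K)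
  have h1 : (SemidirectProduct.inl g : X) ∈ (P : Subgroup K).map K.subtype := ⟨e g, hg, rfl⟩
  have h2 := (mem_normalizer_iff.1 (hP ⟨a, rfl⟩ : SemidirectProduct.inr a ∈ _) _).1 h1
  rw [← map_inv, ← SemidirectProduct.inl_aut] at h2
  obtain ⟨y, hy, hy'⟩ := h2
  have : y = e (a • g) := Subtype.ext hy'
  exact this ▸ hy

open Subgroup CfsgLib.Coprime in
theorem exists_maxInvariant {A G : Type*} [Group A] [Group G] [Finite G] [MulDistribMulAction A G]
    {H : Subgroup G} (hH : H ≠ ⊤) (hI : IsInvariant A H) :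
    ∃ M : Subgroup G, H ≤ M ∧ (M ≠ ⊤ ∧ (∀ a : A, ∀ x ∈ M, a • x ∈ M) ∧
      ∀ L : Subgroup G, M < L → (∀ a : A, ∀ x ∈ L, a • x ∈ L) → L = ⊤) := by
  obtain ⟨M, hHM, hM⟩ := Finite.exists_le_maximal
    (p := fun X : Subgroup G => X ≠ ⊤ ∧ IsInvariant A X) (a := H) ⟨hH, hI⟩
  exact ⟨M, hHM, hM.prop.1, hM.prop.2, fun L hL hLi => by_contra fun hne =>
    hL.not_ge (hM.2 ⟨hne, hLi⟩ hL.le)⟩


/-- Let the finite group A act by automorphisms on the finite group G with the orders of A and G coprime, and assume that A or G is solvable. Call a proper A-invariant subgroup of G maximal A-invariant when no A-invariant subgroup lies strictly between it and G. Then all maximal A-invariant subgroups of G are conjugate under elements of the fixed-point subgroup C_G(A) if and only if G is a p-group for some prime p and A leaves invariant no subgroup strictly between the Frattini subgroup of G and G. In that case, if G is nontrivial, the Frattini subgroup is the only maximal A-invariant subgroup (a trivial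 G has none). -/
theorem result {A G : Type*} [Group A] [Finite A]
    [Group G] [Finite G] [MulDistribMulAction A G] (hcop : (Nat.card A).Coprime (Nat.card G)) (hsol : Group.IsSolvable A ∨ Group.IsSolvable G) :
    ((∀ M N : Subgroup G, (M ≠ ⊤ ∧ (∀ a : A, ∀ x ∈ M, a • x ∈ M) ∧ ∀ L : Subgroup G, M < L → (∀ a : A, ∀ x ∈ L, a • x ∈ L) → L = ⊤) → (N ≠ ⊤ ∧ (∀ a : A, ∀ x ∈ N, a • x ∈ N) ∧ ∀ L : Subgroup G, N < L → (∀ a : A, ∀ x ∈ L, a • x ∈ L) → L = ⊤) →
        ∃ c : G, (∀ a : A, a • c = c) ∧ N = MulAut.conj c • M) ↔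
      ((∃ p : ℕ, p.Prime ∧ IsPGroup p G) ∧ ∀ L : Subgroup G, frattini G < L → (∀ a : A, ∀ x ∈ L, a • x ∈ L) → L = ⊤)) ∧
    (((∃ p : ℕ, p.Prime ∧ IsPGroup p G) ∧ ∀ L : Subgroup G, frattini G < L → (∀ a : A, ∀ x ∈ L, a • x ∈ L) → L = ⊤) →
      ∀ M : Subgroup G, (M ≠ ⊤ ∧ (∀ a : A, ∀ x ∈ M, a • x ∈ M) ∧ ∀ L : Subgroup G, M < L → (∀ a : A, ∀ x ∈ L, a • x ∈ L) → L = ⊤) ↔ (M = frattini G ∧ M ≠ ⊤)) := by
  have hfr : ∀ a : A, ∀ x ∈ frattini G, a • x ∈ frattini G :=
    fun a x hx => CfsgLib.Coprime.IsInvariant.of_characteristic (A := A) (frattini G) a x hx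
  have hmax : ((∃ p : ℕ, p.Prime ∧ IsPGroup p G) ∧ ∀ L : Subgroup G, frattini G < L →
      (∀ a : A, ∀ x ∈ L, a • x ∈ L) → L = ⊤) →
      ∀ M : Subgroup G, (M ≠ ⊤ ∧ (∀ a : A, ∀ x ∈ M, a • x ∈ M) ∧ ∀ L : Subgroup G, M < L →
        (∀ a : A, ∀ x ∈ L, a • x ∈ L) → L = ⊤) ↔ (M = frattini G ∧ M ≠ ⊤) := by
    rintro ⟨-, hL⟩ M
    constructor
    · rintro ⟨h1, h2, h3⟩
      refine ⟨le_antisymm ?_ ?_, h1⟩
      · by_contra hle
        have hlt : frattini G < M ⊔ frattini G := lt_of_le_of_ne le_sup_right fun e =>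
          hle (e ▸ le_sup_left)
        exact h1 (frattini_nongenerating (hL _ hlt (CfsgLib.Coprime.IsInvariant.sup h2 hfr)))
      · by_contra hle
        have hlt : M < M ⊔ frattini G := lt_of_le_of_ne le_sup_left fun e =>
          hle (e ▸ le_sup_right)
        exact h1 (frattini_nongenerating (h3 _ hlt (CfsgLib.Coprime.IsInvariant.sup h2 hfr)))
    · rintro ⟨rfl, h⟩
      exact ⟨h, hfr, hL⟩
  refine ⟨⟨fun hconj => ?_, fun h M N hM hN => ?_⟩, hmax⟩
  swap
  · obtain ⟨rfl, -⟩ := (hmax h M).1 hM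
    obtain ⟨rfl, -⟩ := (hmax h N).1 hN
    exact ⟨1, fun a => smul_one a, by rw [map_one, one_smul]⟩
  by_cases hG : Nat.card G = 1
  · refine ⟨⟨2, Nat.prime_two, IsPGroup.of_card (n := 0) (by simpa using hG)⟩, fun L hL _ => ?_⟩
    haveI := (Nat.card_eq_one_iff_unique.1 hG).1
    exact Subsingleton.elim _ _
  obtain ⟨p, hp, hpG⟩ := Nat.exists_prime_and_dvd hG
  haveI := Fact.mk hp
  have hGp : IsPGroup p G := by
    obtain ⟨P, hP⟩ := exists_invariant_sylow' hcop hsol p
    by_cases hPt : (P : Subgroup G) = ⊤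
    · have := P.2; rw [hPt] at this; exact this.of_equiv Subgroup.topEquiv
    exfalso
    obtain ⟨M, hPM, hM⟩ := exists_maxInvariant hPt hP
    refine hM.1 (Subgroup.eq_top_of_card_eq M (Nat.dvd_antisymm (Subgroup.card_subgroup_dvd_card M) ?_))
    rw [← Nat.factorization_prime_le_iff_dvd (Nat.card_pos).ne' (Nat.card_pos).ne']
    intro q hq
    haveI := Fact.mk hq
    obtain ⟨Q, hQ⟩ := exists_invariant_sylow' hcop hsol q
    have hkey : ∀ N : Subgroup G, (Q : Subgroup G) ≤ N →
        (Nat.card G).factorization q ≤ (Nat.card N).factorization q := by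
      intro N hN
      have h := Subgroup.card_dvd_of_le hN
      rw [Q.card_eq_multiplicity] at h
      exact (hq.pow_dvd_iff_le_factorization Nat.card_pos.ne').1 h
    by_cases hQt : (Q : Subgroup G) = ⊤
    · have hqG : IsPGroup q G := by have := Q.2; rw [hQt] at this; exact this.of_equiv Subgroup.topEquiv
      rcases hqG.card_eq_or_dvd with h1 | -
      · exact absurd h1 hG
      have hpq : p = q := by
        obtain ⟨n, hn⟩ := IsPGroup.iff_card.1 hqG
        exact (Nat.prime_dvd_prime_iff_eq hp hq).1 (hp.dvd_of_dvd_pow (hn ▸ hpG))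
      subst hpq
      exfalso
      refine hPt (Subgroup.eq_top_of_card_eq _ ?_)
      obtain ⟨n, hn⟩ := IsPGroup.iff_card.1 hqG
      rw [P.card_eq_multiplicity, hn, Nat.factorization_pow, Finsupp.smul_apply,
        hp.factorization_self, smul_eq_mul, mul_one]
    obtain ⟨N, hQN, hN⟩ := exists_maxInvariant hQt hQ
    obtain ⟨c, -, hc⟩ := hconj N M hN hM
    have h := hkey N hQN
    rw [hc, Nat.card_congr (Subgroup.equivSMul (MulAut.conj c) N).toEquiv.symm]
    exact h
  refine ⟨⟨p, hp, hGp⟩, fun L hL hLi => ?_⟩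
  by_contra hLt
  obtain ⟨M, hLM, hM⟩ := exists_maxInvariant hLt hLi
  have hMn : M.Normal := by
    refine Subgroup.normalizer_eq_top_iff.1 (hM.2.2 _ ?_ ?_)
    · haveI := hGp.isNilpotent
      exact Group.normalizerCondition_of_isNilpotent (G := G) M (lt_top_iff_ne_top.2 hM.1)
    · intro a x hx
      rw [Subgroup.mem_normalizer_iff] at hx ⊢
      intro y
      constructor
      · intro hy
        have := hM.2.1 a _ ((hx _).1 (hM.2.1 a⁻¹ y hy))
        simpa [smul_mul', smul_inv'] using this
      · intro hy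
        have h1 := hM.2.1 a⁻¹ _ hy
        rw [smul_mul', smul_mul', smul_inv', inv_smul_smul] at h1
        simpa using hM.2.1 a _ ((hx _).2 h1)
  -- a second maximal invariant subgroup from Maschke on the Frattini quotient
  haveI : (frattini G).Normal := inferInstance
  obtain ⟨hpow, hcomm⟩ := CfsgLib.FSCount.quotient_frattini_facts hGp
  have hab : (∀ u v : G ⧸ frattini G, u * v = v * u) ∧ ∀ u : G ⧸ frattini G, u ^ p = 1 :=
    ⟨fun u v => (Subgroup.Normal.quotient_commutative_iff_commutator_le.2 hcomm).is_comm.comm u v,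
      fun u => QuotientGroup.induction_on u fun g => (QuotientGroup.eq_one_iff _).2 (hpow g)⟩
  let _ : CommGroup (G ⧸ frattini G) :=
    { (inferInstance : Group (G ⧸ frattini G)) with mul_comm := hab.1 }
  have hΦinv : ∀ a : A, frattini G ≤ (frattini G).comap (MulDistribMulAction.toMonoidHom G a) :=
    fun a x hx => hfr a x hx
  let _ : MulDistribMulAction A (G ⧸ frattini G) :=
    { smul := fun a => QuotientGroup.map _ _ (MulDistribMulAction.toMonoidHom G a) (hΦinv a)
      one_smul := fun q => QuotientGroup.induction_on q fun g => congrArg _ (one_smul A g)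
      mul_smul := fun a b q => QuotientGroup.induction_on q fun g => congrArg _ (mul_smul a b g)
      smul_one := fun a => map_one _
      smul_mul := fun a u v => map_mul _ u v }
  set π := QuotientGroup.mk' (frattini G)
  obtain ⟨C, hC, hC1, hC2⟩ := CfsgLib.InvariantComplement.exists_invariant_compl (X := A)
    (A := G ⧸ frattini G) (p := p) (hcop.coprime_dvd_right (Subgroup.card_quotient_dvd_card _))
    (n := 0) (fun q => by rw [zero_add, pow_one]; exact hab.2 q) (L.map π)
    (by rintro a _ ⟨l, hl, rfl⟩; exact ⟨a • l, hLi a l hl, rfl⟩)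
    (fun k _ h => ⟨1, one_mem _, by rw [one_pow]; simpa using h.symm⟩)
  have hCi : CfsgLib.Coprime.IsInvariant A (C.comap π) := fun a x hx => hC a _ hx
  have hne : C.comap π ≠ ⊤ := by
    intro h
    have hCt : C = ⊤ := by
      rw [← Subgroup.map_comap_eq_self_of_surjective (QuotientGroup.mk'_surjective _) C, h,
        Subgroup.map_top_of_surjective _ (QuotientGroup.mk'_surjective _)]
    rw [hCt, top_inf_eq] at hC1
    refine hL.not_ge fun l hl => (QuotientGroup.eq_one_iff l).1 ?_
    have : π l ∈ L.map π := ⟨l, hl, rfl⟩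
    rwa [hC1, Subgroup.mem_bot] at this
  obtain ⟨N, hCN, hN⟩ := exists_maxInvariant hne hCi
  obtain ⟨c, -, hc⟩ := hconj M N hM hN
  have hNM : N = M := by
    rw [hc]
    haveI := hMn
    exact Subgroup.Normal.conj_smul_eq_self c M
  refine hM.1 (eq_top_iff.2 fun g _ => ?_)
  obtain ⟨u, hu, _, ⟨l, hl, rfl⟩, huv⟩ := Subgroup.mem_sup.1
    (show π g ∈ C ⊔ L.map π by rw [hC2]; exact Subgroup.mem_top _)
  have hgl : π (g * l⁻¹) = u := by rw [map_mul, ← huv, map_inv, mul_inv_cancel_right]
  have h1 : g * l⁻¹ ∈ M := hNM ▸ hCN (show π (g * l⁻¹) ∈ C by rw [hgl]; exact hu)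
  simpa using mul_mem h1 (hLM hl)

end Cfsg.Agent.S4381
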