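import Cfsg.Statements.S4385
import Cfsg.Agent.DihedralEdge.Final
import Cfsg.Agent.Solvable.Fitting

set_option autoImplicit false
open Pointwise
open Cfsg

namespace Cfsg.Agent.S4385

/-- Let H be a subgroup of a finite group G whose largest normal 2-subgroup O_2(H) is nontrivial and such that H/O_2(H) is a dihedral group of order at least 4. Let P be a Sylow 2-subgroup of H and S a Sylow 2-subgroup of G containing P. Suppose y ∈ S lies outside P, normalizes P, has y² in the product of P with the centralizer of P in G, and normalizes no non-identity normal subgroup of H contained in P. Then P has order 4, 8 or 16, and H modulo its largest normal subgroup of odd order is isomorphic to the four-group, to the symmetric group of degree 4, or to the direct product of the symmetric group of degree 4 with a group of order 2. -/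
theorem result {G : Type*} [Group G] [Finite G]
    (H : Subgroup G) (hO : Cfsg.pCore 2 ↥H ≠ ⊥) (n : ℕ) (hn : 2 ≤ n) (hdih : Nonempty (↥H ⧸ Cfsg.pCore 2 ↥H ≃* DihedralGroup n))
    (P : Subgroup G) (hPH : P ≤ H) (hP : IsPGroup 2 P) (hPsyl : ¬ 2 ∣ P.relIndex H)
    (S : Sylow 2 G) (hPS : P ≤ (S : Subgroup G)) (y : G) (hyS : y ∈ (S : Subgroup G)) (hyP : y ∉ P)
    (hy2 : y ^ 2 ∈ P ⊔ Subgroup.centralizer (P : Set G)) (hyN : MulAut.conj y • P = P)
    (hyQ : ∀ Q : Subgroup G, Q ≤ P → (Q.subgroupOf H).Normal → MulAut.conj y • Q = Q → Q = ⊥) :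
    (Nat.card P = 4 ∨ Nat.card P = 8 ∨ Nat.card P = 16) ∧
    (Nonempty (↥H ⧸ Cfsg.oddCore ↥H ≃* Multiplicative (ZMod 2) × Multiplicative (ZMod 2)) ∨
     Nonempty (↥H ⧸ Cfsg.oddCore ↥H ≃* Equiv.Perm (Fin 4)) ∨
     Nonempty (↥H ⧸ Cfsg.oddCore ↥H ≃* Equiv.Perm (Fin 4) × Multiplicative (ZMod 2))) := by
  haveI : Fact (Nat.Prime 2) := ⟨Nat.prime_two⟩
  haveI : NeZero n := ⟨by omega⟩
  obtain ⟨e⟩ := hdih
  set Qh := Cfsg.pCore 2 H with hQh
  haveI hQhn : Qh.Normal := (CfsgLib.Solvable.pCore_spec 2).1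
  have hQh2 : IsPGroup 2 Qh := CfsgLib.Solvable.isPGroup_pCore 2
  let π : H →* DihedralGroup n := e.toMonoidHom.comp (QuotientGroup.mk' Qh)
  have hπ : Function.Surjective π := e.surjective.comp (QuotientGroup.mk'_surjective Qh)
  have hker : ∀ x : H, π x = 1 ↔ x ∈ Qh := fun x => by
    show e (QuotientGroup.mk' Qh x) = 1 ↔ _
    rw [MulEquiv.map_eq_one_iff]; exact QuotientGroup.eq_one_iff x
  -- the modulus is odd
  have hnodd : Odd n := by
    rw [← Nat.not_even_iff_odd]
    rintro ⟨m, hm⟩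
    have hm1 : (m : ZMod n) ≠ 0 := fun h => by
      rw [ZMod.natCast_eq_zero_iff] at h
      have := Nat.le_of_dvd (by omega) h
      omega
    have hneg : -(m : ZMod n) = m := by
      rw [neg_eq_iff_add_eq_zero, ← Nat.cast_add, ZMod.natCast_eq_zero_iff, hm]
    set R : Subgroup (DihedralGroup n) := Subgroup.zpowers (DihedralGroup.r (m : ZMod n))
    have hRc : ∀ g : DihedralGroup n,
        g * DihedralGroup.r (m : ZMod n) = DihedralGroup.r (m : ZMod n) * g := by
      rintro (i | i)
      · rw [DihedralGroup.r_mul_r, DihedralGroup.r_mul_r, add_comm]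
      · rw [DihedralGroup.sr_mul_r, DihedralGroup.r_mul_sr, sub_eq_add_neg, hneg]
    have hR2 : IsPGroup 2 R := IsPGroup.of_card (p := 2) (n := 1) (by
      rw [Nat.card_zpowers, pow_one]
      refine orderOf_eq_prime ?_ (fun h => hm1 (DihedralGroup.r.inj h))
      rw [pow_two, DihedralGroup.r_mul_r, DihedralGroup.one_def, ← Nat.cast_add, ← hm,
        ZMod.natCast_self])
    haveI : R.Normal := ⟨fun x hx g => by
      obtain ⟨k, rfl⟩ := Subgroup.mem_zpowers_iff.1 hx
      rw [← conj_zpow, hRc, mul_inv_cancel_right]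
      exact Subgroup.zpow_mem _ (Subgroup.mem_zpowers _) k⟩
    have hle : R.comap π ≤ Qh := CfsgLib.Solvable.le_pCore 2 inferInstance
      (hR2.comap_of_ker_isPGroup π (hQh2.to_le fun x hx => (hker x).1 hx))
    obtain ⟨x, hx⟩ := hπ (DihedralGroup.r (m : ZMod n))
    have h1 : π x = 1 := (hker x).2 (hle (by
      show π x ∈ R; rw [hx]; exact Subgroup.mem_zpowers _))
    rw [hx] at h1
    exact hm1 (DihedralGroup.r.inj h1)
  -- two-subgroups of the quotient
  have htwo : ∀ T : Subgroup H, IsPGroup 2 T → ∀ a ∈ T, ∀ b ∈ T, a ∉ Qh → b ∉ Qh → a * b ∈ Qh := by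
    intro T hT a ha b hb ha' hb'
    obtain ⟨k, hk⟩ := IsPGroup.iff_card.1 (hT.map π)
    have hd : 2 ^ k ∣ 2 * n := by
      rw [← DihedralGroup.nat_card, ← hk]; exact Subgroup.card_subgroup_dvd_card _
    have hk1 : k ≤ 1 := by
      by_contra hgt
      have h4 : 2 ^ 2 ∣ 2 * n := (pow_dvd_pow 2 (by omega)).trans hd
      have : 2 ∣ n := Nat.dvd_of_mul_dvd_mul_left two_pos (by simpa [pow_two] using h4)
      exact Nat.not_even_iff_odd.2 hnodd (even_iff_two_dvd.2 this)
    have hcard : Nat.card (T.map π) ≤ 2 := by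
      rw [hk]; exact (Nat.pow_le_pow_right two_pos hk1).trans (by norm_num)
    by_contra hab
    have hinj : Function.Injective ![(1 : T.map π), ⟨π a, Subgroup.mem_map_of_mem π ha⟩,
        ⟨π (a * b), Subgroup.mem_map_of_mem π (mul_mem ha hb)⟩] := by
      intro i j hij
      have h2 := congrArg Subtype.val hij
      have na : π a ≠ 1 := fun h => ha' ((hker a).1 h)
      have nb : π b ≠ 1 := fun h => hb' ((hker b).1 h)
      have nab : π (a * b) ≠ 1 := fun h => hab ((hker _).1 h)
      have nd : π a ≠ π (a * b) := fun h => nb (by rw [map_mul] at h; simpa using h)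
      fin_cases i <;> fin_cases j <;> simp [na, nab, nd, na.symm, nab.symm, nd.symm, -map_mul] at h2 ⊢
    have := Nat.card_le_card_of_injective _ hinj
    rw [Nat.card_fin] at this
    omega
  set Q := Qh.map H.subtype with hQ
  have hQmem : ∀ x : H, (x : G) ∈ Q ↔ x ∈ Qh := fun x =>
    Subgroup.mem_map_iff_mem H.subtype_injective
  have hP2 : IsPGroup 2 (P.subgroupOf H) := IsPGroup.of_equiv hP (Subgroup.subgroupOfEquivOfLe hPH).symm
  let SP : Sylow 2 H := hP2.toSylow hPsyl
  have hSP : (SP : Subgroup H) = P.subgroupOf H := rfl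
  have hQhP : Qh ≤ P.subgroupOf H := CfsgLib.Fitting.pCore_le_sylow SP
  have hQP : Q ≤ P := by
    rintro _ ⟨x, hx, rfl⟩; exact hQhP hx
  have hQne : Q ≠ ⊥ := fun h =>
    hO ((Subgroup.map_eq_bot_iff_of_injective _ H.subtype_injective).1 h)
  have hQn : H ≤ Subgroup.normalizer (Q : Set G) := by
    intro h hh
    refine CfsgLib.DihedralEdge.mem_normalizer_of_cj ?_
    ext x
    rw [CfsgLib.DihedralEdge.mem_cj]
    constructor
    · intro hx
      have hxH : x ∈ H := by
        have := mul_mem (mul_mem hh (hPH (hQP hx))) (inv_mem hh)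
        simpa [mul_assoc] using this
      have := hQhn.conj_mem _ ((hQmem ⟨h⁻¹ * x * h, hPH (hQP hx)⟩).1 hx) ⟨h, hh⟩
      exact (hQmem ⟨x, hxH⟩).2 (by convert this using 1; ext; simp [mul_assoc])
    · intro hx
      have hxH : x ∈ H := hPH (hQP hx)
      have := hQhn.conj_mem _ ((hQmem ⟨x, hxH⟩).1 hx) ⟨h⁻¹, inv_mem hh⟩
      exact (hQmem ⟨h⁻¹ * x * h, mul_mem (mul_mem (inv_mem hh) hxH) hh⟩).2
        (by convert this using 1; ext; simp [mul_assoc])
  -- an element outside the kernel
  obtain ⟨t, htP, i, hti⟩ : ∃ t : H, (t : G) ∈ P ∧ ∃ i, π t = DihedralGroup.sr i := by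
    obtain ⟨u, hu⟩ := hπ (DihedralGroup.sr 0)
    obtain ⟨k, hk⟩ := exists_prime_orderOf_dvd_card' 2
      (show 2 ∣ Nat.card (H ⧸ Qh) by rw [Nat.card_congr e.toEquiv, DihedralGroup.nat_card]; exact dvd_mul_right 2 n)
    have h1 : ¬ (P.subgroupOf H) ≤ Qh := fun h => by
      have := Subgroup.index_dvd_of_le h
      rw [Subgroup.index_eq_card, Nat.card_congr e.toEquiv, DihedralGroup.nat_card] at this
      exact hPsyl ((dvd_mul_right 2 n).trans this)
    obtain ⟨t, ht, htQ⟩ := SetLike.not_le_iff_exists.1 h1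
    refine ⟨t, ht, ?_⟩
    obtain ⟨k', hk'⟩ := IsPGroup.iff_orderOf.1 hP2 ⟨t, ht⟩
    rw [Subgroup.orderOf_mk] at hk'
    cases hπt : π t with
    | sr i => exact ⟨i, rfl⟩
    | r i =>
      exfalso
      have hd1 : orderOf (π t) ∣ 2 ^ k' := hk' ▸ orderOf_map_dvd π t
      have hd2 : orderOf (π t) ∣ n := by
        refine orderOf_dvd_of_pow_eq_one ?_
        rw [hπt, DihedralGroup.r_pow, DihedralGroup.one_def, ZMod.natCast_self, mul_zero]
      exact htQ ((hker t).1 (orderOf_eq_one_iff.1 (Nat.eq_one_of_dvd_coprimes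
        ((Nat.coprime_two_left.2 hnodd).pow_left k') hd1 hd2)))
  have htQ : (t : G) ∉ Q := fun h => by
    have := (hker t).2 ((hQmem t).1 h)
    rw [hti, DihedralGroup.one_def] at this
    cases this
  have hTwoG : ∀ T : Subgroup G, T ≤ H → IsPGroup 2 T → ∀ a ∈ T, ∀ b ∈ T, a ∉ Q → b ∉ Q →
      a * b ∈ Q := fun T hTH hT a ha b hb ha' hb' =>
    (hQmem (⟨a, hTH ha⟩ * ⟨b, hTH hb⟩ : H)).2 (htwo (T.subgroupOf H)
      (IsPGroup.of_equiv hT (Subgroup.subgroupOfEquivOfLe hTH).symm) ⟨a, hTH ha⟩ ha ⟨b, hTH hb⟩ hb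
      (fun h => ha' ((hQmem _).2 h)) (fun h => hb' ((hQmem _).2 h)))
  have hcardP : Nat.card P = 2 * Nat.card Q :=
    CfsgLib.DihedralEdge.card_eq_two_mul hQP ⟨t, htP, htQ⟩
      fun a ha b hb ha' hb' => hTwoG P hPH hP a ha b hb ha' hb'
  obtain ⟨p0, hp0, c0, hc0, hy0⟩ := (CfsgLib.Solvable.mem_sup_of_le_normalizer
    (fun g hg => Subgroup.mem_normalizer_iff.2 fun x => by
      have key : ∀ w ∈ P, ∀ z ∈ Subgroup.centralizer (P : Set G),
          w * z * w⁻¹ ∈ Subgroup.centralizer (P : Set G) := fun w hw z hz =>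
        Subgroup.mem_centralizer_iff.2 fun m hm => by
          have h1 := Subgroup.mem_centralizer_iff.1 hz (w⁻¹ * m * w) (mul_mem (mul_mem (inv_mem hw) hm) hw)
          calc m * (w * z * w⁻¹) = w * ((w⁻¹ * m * w) * z) * w⁻¹ := by group
            _ = w * (z * (w⁻¹ * m * w)) * w⁻¹ := by rw [h1]
            _ = w * z * w⁻¹ * m := by group
      exact ⟨key g hg x, fun hx => by simpa [mul_assoc] using key g⁻¹ (inv_mem hg) _ hx⟩ :
      P ≤ Subgroup.normalizer ((Subgroup.centralizer (P : Set G)) : Set G))).1 hy2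
  have hcjP : CfsgLib.DihedralEdge.cj y P = P := by
    conv_rhs => rw [← hyN]
    ext x
    rw [CfsgLib.DihedralEdge.mem_cj, Subgroup.mem_pointwise_smul_iff_inv_smul_mem]
    simp [MulAut.smul_def, MulAut.conj_symm_apply]
  let D : CfsgLib.DihedralEdge.Data G :=
    { H := H
      P := P
      Q := Q
      y := y
      hQP := hQP
      hPH := hPH
      hQn := hQn
      hP2 := hP
      hQne := hQne
      hidx := by
        have e1 := Subgroup.relIndex_mul_relIndex ⊥ Q P bot_le hQP
        rw [Subgroup.relIndex_bot_left, Subgroup.relIndex_bot_left, hcardP, mul_comm 2] at e1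
        exact Nat.eq_of_mul_eq_mul_left Nat.card_pos e1
      two := hTwoG
      sylow := fun x hx hx2 => by
        obtain ⟨R, hR⟩ := (IsPGroup.of_equiv hx2 (Subgroup.subgroupOfEquivOfLe
          (Subgroup.zpowers_le.2 hx)).symm).exists_le_sylow
        obtain ⟨h, hh⟩ := MulAction.exists_smul_eq H SP R
        refine ⟨h, h.2, ?_⟩
        have hmem : (⟨x, hx⟩ : H) ∈ (R : Subgroup H) := hR (Subgroup.mem_zpowers x)
        rw [← hh] at hmem
        obtain ⟨p, hp, hpe⟩ := hmem
        rw [CfsgLib.DihedralEdge.mem_cj]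
        have : (h : G) * p * (h : G)⁻¹ = x := congrArg Subtype.val hpe
        rw [← this]
        simpa [mul_assoc] using (show (p : G) ∈ P from hp)
      exists_gen := by
        set K0 := (n + 1) / 2
        have h2k : (2 : ZMod n) * (K0 : ZMod n) = 1 := by
          obtain ⟨m, hm⟩ := hnodd
          have hk : 2 * K0 = n + 1 := by omega
          rw [← Nat.cast_ofNat, ← Nat.cast_mul, hk, Nat.cast_add, ZMod.natCast_self, zero_add, Nat.cast_one]
        obtain ⟨h, hh⟩ := hπ (DihedralGroup.r (K0 : ZMod n))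
        refine ⟨h, h.2, le_antisymm (sup_le hPH fun x hx => ?_) fun x hx => ?_⟩
        · have := mul_mem (mul_mem h.2 (hPH (CfsgLib.DihedralEdge.mem_cj.1 hx))) (inv_mem h.2)
          simpa [mul_assoc] using this
        set L := (P ⊔ CfsgLib.DihedralEdge.cj (h : G) P).subgroupOf H
        have ht1 : t ∈ L := Subgroup.mem_subgroupOf.2 (Subgroup.mem_sup_left htP)
        have ht2 : h * t * h⁻¹ ∈ L := Subgroup.mem_subgroupOf.2 (Subgroup.mem_sup_right
          (CfsgLib.DihedralEdge.conj_mem_cj.2 htP))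
        have hs : π (h * t * h⁻¹) = DihedralGroup.sr (i - 1) := by
          rw [map_mul, map_mul, map_inv, hh, hti, DihedralGroup.inv_r, DihedralGroup.r_mul_sr,
            DihedralGroup.sr_mul_r]
          congr 1
          rw [← h2k, two_mul]; ring
        have hr : π (t * (h * t * h⁻¹)) = DihedralGroup.r (-1) := by
          rw [map_mul, hs, hti, DihedralGroup.sr_mul_sr]
          congr 1; ring
        have hrot : ∀ j : ZMod n, DihedralGroup.r j ∈ L.map π := fun j => by
          obtain ⟨m, hm⟩ := ZMod.intCast_surjective (-j)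
          have h1 : DihedralGroup.r (-1 : ZMod n) ^ m ∈ L.map π :=
            Subgroup.zpow_mem _ (hr ▸ Subgroup.mem_map_of_mem π (mul_mem ht1 ht2)) m
          rwa [DihedralGroup.r_zpow, hm, mul_neg, neg_mul, one_mul, neg_neg] at h1
        have htop : ∀ g, g ∈ L.map π := by
          rintro (j | j)
          · exact hrot j
          · have := mul_mem (hti ▸ Subgroup.mem_map_of_mem π ht1) (hrot (j - i))
            rwa [DihedralGroup.sr_mul_r, add_sub_cancel] at this
        obtain ⟨l, hl, hlx⟩ := htop (π ⟨x, hx⟩)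
        have hq : l⁻¹ * (⟨x, hx⟩ : H) ∈ Qh := (hker _).1 (by rw [map_mul, map_inv, hlx, inv_mul_cancel])
        have := mul_mem (Subgroup.mem_subgroupOf.1 hl)
          (Subgroup.mem_sup_left (hQhP hq) : ((l⁻¹ * ⟨x, hx⟩ : H) : G) ∈ P ⊔ CfsgLib.DihedralEdge.cj (h : G) P)
        simpa using this
      hyP := hcjP
      hy2 := ⟨p0, hp0, c0, hc0, by rw [← pow_two]; exact hy0.symm⟩
      core := fun L hL hLn hLy => hyQ L hL
        ((Subgroup.normal_subgroupOf_iff_le_normalizer (hL.trans hPH)).2 hLn) (by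
          conv_rhs => rw [← hLy]
          ext x
          rw [CfsgLib.DihedralEdge.mem_cj, Subgroup.mem_pointwise_smul_iff_inv_smul_mem]
          simp [MulAut.smul_def, MulAut.conj_symm_apply]) }
  exact D.conclusion SP hSP

end Cfsg.Agent.S4385
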