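import Cfsg.Statements.S4387
import Mathlib.GroupTheory.GroupAction.Quotient
import Mathlib.GroupTheory.SpecificGroups.Cyclic

set_option autoImplicit false
set_option linter.style.haveILetI false
open Pointwise
open Cfsg

namespace Cfsg.Agent.S4387

/-- Let G be a non-trivial finite group in which any two maximal subgroups are conjugate. Then G is cyclic of prime-power order. -/
theorem result {G : Type*} [Group G] [Finite G] [Nontrivial G]
    (h : ∀ M N : Subgroup G, IsCoatom M → IsCoatom N → ∃ g : G, N = MulAut.conj g • M) :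
    IsCyclic G ∧ IsPrimePow (Nat.card G) := by
  classical
  obtain ⟨M, hM, -⟩ := (eq_top_or_exists_le_coatom (⊥ : Subgroup G)).resolve_left bot_ne_top
  haveI := Fintype.ofFinite G
  obtain ⟨x, hx⟩ : ∃ x : G, ∀ g : G, g⁻¹ * x * g ∉ M := by
    by_contra! hall
    haveI := Fintype.ofFinite (G ⧸ M)
    haveI := Fintype.ofFinite (MulAction.orbitRel.Quotient G (G ⧸ M))
    haveI : ∀ g : G, Fintype (MulAction.fixedBy (G ⧸ M) g) := fun g => Fintype.ofFinite _
    have h1 := MulAction.sum_card_fixedBy_eq_card_orbits_mul_card_group G (G ⧸ M)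
    haveI : Subsingleton (MulAction.orbitRel.Quotient G (G ⧸ M)) :=
      ⟨fun a b => Quotient.inductionOn₂' a b fun u v => Quotient.sound' (MulAction.exists_smul_eq G v u)⟩
    have h2 : Fintype.card (MulAction.orbitRel.Quotient G (G ⧸ M)) ≤ 1 := Fintype.card_le_one_iff_subsingleton.2 inferInstance
    have h3 : ∑ _g : G, 1 < ∑ g : G, Fintype.card (MulAction.fixedBy (G ⧸ M) g) := by
      refine Finset.sum_lt_sum (fun g _ => ?_) ⟨1, Finset.mem_univ _, ?_⟩
      · obtain ⟨a, ha⟩ := hall g
        refine Fintype.card_pos_iff.2 ⟨⟨(a : G ⧸ M), ?_⟩⟩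
        show g • (a : G ⧸ M) = a
        rw [MulAction.Quotient.smul_coe, smul_eq_mul, QuotientGroup.eq]
        have := M.inv_mem ha
        simpa [mul_assoc] using this
      · have hidx : 1 < M.index := M.one_lt_index_of_ne_top hM.1
        have : Fintype.card (MulAction.fixedBy (G ⧸ M) (1 : G)) = M.index := by
          rw [Subgroup.index, ← Nat.card_eq_fintype_card]
          exact Nat.card_congr (Equiv.subtypeUnivEquiv fun z => one_smul G z)
        omega
    rw [Finset.sum_const, Finset.card_univ, smul_eq_mul, mul_one, h1] at h3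
    exact absurd h3 (not_lt.2 ((Nat.mul_le_mul_right (Fintype.card G) h2).trans_eq (one_mul _)))
  have htop : Subgroup.zpowers x = ⊤ := by
    by_contra hne
    obtain ⟨N, hN, hle⟩ := (eq_top_or_exists_le_coatom _).resolve_left hne
    obtain ⟨g, rfl⟩ := h M N hM hN
    apply hx g
    have := hle (Subgroup.mem_zpowers x)
    rw [Subgroup.mem_pointwise_smul_iff_inv_smul_mem] at this
    simpa [← map_inv] using this
  haveI hcyc : IsCyclic G := ⟨⟨x, fun y => Subgroup.mem_zpowers_iff.1 (by rw [htop]; exact Subgroup.mem_top y)⟩⟩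
  refine ⟨hcyc, ?_⟩
  have hox : orderOf x = Nat.card G := by rw [← Nat.card_zpowers, htop, Subgroup.card_top]
  have key : ∀ p, p.Prime → p ∣ Nat.card G → M.index = p := by
    intro p hp hpd
    have hidx : (Subgroup.zpowers (x ^ p)).index = p := by
      have h1 := (Subgroup.zpowers (x ^ p)).card_mul_index
      rw [Nat.card_zpowers, orderOf_pow, hox, Nat.gcd_eq_right hpd] at h1
      obtain ⟨m, hm⟩ := hpd
      rw [hm, Nat.mul_div_cancel_left _ hp.pos] at h1
      have hm0 : 0 < m := by
        rcases Nat.eq_zero_or_pos m with rfl | h0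
        · simp at hm
        · exact h0
      exact Nat.eq_of_mul_eq_mul_left hm0 (by rw [h1, mul_comm])
    have hco : IsCoatom (Subgroup.zpowers (x ^ p)) := by
      refine ⟨fun e => hp.one_lt.ne' (by rw [← hidx, e, Subgroup.index_top]), fun K hK => ?_⟩
      have hd := Subgroup.index_dvd_of_le hK.le
      rw [hidx] at hd
      rcases (Nat.dvd_prime hp).1 hd with h1 | h1
      · exact Subgroup.index_eq_one.1 h1
      · exfalso
        have h2 := Subgroup.relIndex_mul_index hK.le
        rw [hidx, h1] at h2
        have h3 : (Subgroup.zpowers (x ^ p)).relIndex K = 1 :=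
          Nat.eq_of_mul_eq_mul_right hp.pos (by omega)
        exact hK.not_ge (Subgroup.relIndex_eq_one.1 h3)
    obtain ⟨g, hg⟩ := h M _ hM hco
    letI := IsCyclic.commGroup (α := G)
    have : MulAut.conj g • M = M := by
      ext y
      rw [Subgroup.mem_pointwise_smul_iff_inv_smul_mem]
      simp [← map_inv, mul_comm, mul_left_comm]
    rw [← hidx, hg, this]
  rw [isPrimePow_iff_unique_prime_dvd]
  obtain ⟨p, hp, hpd⟩ := Nat.exists_prime_and_dvd (Finite.one_lt_card (α := G)).ne'
  exact ⟨p, ⟨hp, hpd⟩, fun q hq => (key q hq.1 hq.2).symm.trans (key p hp hpd)⟩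

end Cfsg.Agent.S4387
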