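-- Proof of statement S4394.
import Cfsg.Statements.S4394
import Cfsg.Agent.Solvable.SchmidtSylowLength

set_option autoImplicit false
open Cfsg

namespace Cfsg.Agent.S4394

/-- Let X be a finite minimal non-nilpotent group (not nilpotent, every proper subgroup nilpotent) with a nontrivial normal Sylow p-subgroup P. If G is a finite p-solvable group whose Sylow p-subgroups are isomorphic to P, then G has p-length at most 1. -/
theorem result {G X : Type*} [Group G] [Finite G] [Group X] [Finite X] (p : ℕ) [Fact p.Prime]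
    (hX : Cfsg.IsMinimalNonNilpotent X) (P : Sylow p X) (hPn : (P : Subgroup X).Normal) (hP1 : (P : Subgroup X) ≠ ⊥)
    (hG : Cfsg.IsPSolvable p G) (Q : Sylow p G) (hQ : Nonempty (↥(Q : Subgroup G) ≃* ↥(P : Subgroup X))) : Cfsg.PLengthLE p 1 G := by
    classical
    set N := Cfsg.pPrimeCore p G with hN
    haveI : N.Normal := CfsgLib.Solvable.pPrimeCore_normal p
    set π := QuotientGroup.mk' N with hπ
    have hπs := QuotientGroup.mk'_surjective N
    let Q' : Sylow p (G ⧸ N) := Q.mapSurjective hπs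
    have hinj : Function.Injective (π.comp (Q : Subgroup G).subtype) := by
      rw [← MonoidHom.ker_eq_bot_iff, eq_bot_iff]
      intro x hx
      have hxN : (x : G) ∈ N := (QuotientGroup.eq_one_iff _).1 hx
      have hd : (Q : Subgroup G) ⊓ N = ⊥ := Subgroup.inf_eq_bot_of_coprime (by
        obtain ⟨k, hk⟩ := IsPGroup.iff_card.1 Q.2
        rw [hk]
        exact (CfsgLib.Solvable.coprime_card_pPrimeCore p).symm.pow_left k)
      have hmem := Subgroup.mem_inf.2 ⟨x.2, hxN⟩
      rw [hd, Subgroup.mem_bot] at hmem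
      exact Subgroup.mem_bot.2 (Subtype.ext hmem)
    obtain ⟨e⟩ := hQ
    have hrange : (π.comp (Q : Subgroup G).subtype).range = (Q' : Subgroup (G ⧸ N)) := by
      rw [MonoidHom.range_eq_map, ← Subgroup.map_map, ← MonoidHom.range_eq_map, Subgroup.range_subtype]
      rfl
    let e' : ↥(P : Subgroup X) ≃* ↥(Q' : Subgroup (G ⧸ N)) :=
      e.symm.trans ((MonoidHom.ofInjective hinj).trans (MulEquiv.subgroupCongr hrange))
    have h0 : Cfsg.pPrimeCore p (G ⧸ N) = ⊥ := CfsgLib.Fitting.pPrimeCore_quotient_eq_bot p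
    have hs := CfsgLib.PConstrained.isPSolvable_map π hπs hG
    have hle : (Q' : Subgroup (G ⧸ N)) ≤ Cfsg.pCore p (G ⧸ N) := by
      rcases CfsgLib.SchmidtLength.schmidtType_of_minimal hX P hPn hP1 with hab | hT
      · intro x hx
        refine CfsgLib.PConstrained.selfCent_of_pSolvable h0
          (CfsgLib.PConstrained.isPSolvable_comap (Subgroup.subtype _) (Subgroup.subtype_injective _) hs)
          (Subgroup.mem_centralizer_iff.2 fun y hy => ?_)
        have h := hab.is_comm.comm (e'.symm ⟨y, CfsgLib.Fitting.pCore_le_sylow Q' hy⟩)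
          (e'.symm ⟨x, hx⟩)
        rw [← map_mul, ← map_mul, e'.symm.injective.eq_iff] at h
        exact congrArg Subtype.val h
      · exact CfsgLib.SchmidtLength.sylow_le_pCore h0 hs Q' (hT.of_equiv e')
    have h1 : Cfsg.PLengthLE p 1 (G ⧸ N) := by
      have hn : (Cfsg.pCore p (G ⧸ N)).Normal := CfsgLib.Solvable.pCore_normal p
      have hU2 : Cfsg.pCore p (G ⧸ N) ≤ CfsgLib.FGSA.PLen.U p (G ⧸ N) 2 := by
        refine CfsgLib.FGSA.PLen.le_succ hn ?_
        refine CfsgLib.FGSA.PLen.Good.of_dvd (n := Nat.card (Cfsg.pCore p (G ⧸ N))) ?_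
          (Subgroup.relIndex_dvd_card _ _)
        exact IsPGroup.iff_card.1 (CfsgLib.Solvable.isPGroup_pCore p)
      refine top_le_iff.1 (CfsgLib.FGSA.PLen.le_succ (j := 2) (inferInstance : (⊤ : Subgroup (G ⧸ N)).Normal) ?_)
      rw [Subgroup.relIndex_top_right]
      show Nat.Coprime _ p
      exact ((Nat.Prime.coprime_iff_not_dvd Fact.out).2 fun hd =>
        Q'.not_dvd_index (hd.trans (Subgroup.index_dvd_of_le (hle.trans hU2)))).symm
    have h2 : Cfsg.PLengthLE p 0 N := CfsgLib.FGSA.PLen.pLengthLE_zero_of_coprime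
      (CfsgLib.Solvable.coprime_card_pPrimeCore p)
    exact CfsgLib.FGSA.PLen.pLengthLE_add N h2 h1

end Cfsg.Agent.S4394
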