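import Cfsg.Statements.S4395
import Cfsg.Agent.SchmidtUniversal.FieldData
import Cfsg.Agent.S0132
import Cfsg.Agent.S3736
-- import your own Cfsg.Agent.* helpers here

set_option autoImplicit false
universe u
open Cfsg

namespace Cfsg.Agent.S4395

open Finset Subgroup Polynomial CfsgLib.SchmidtUniversal
open scoped commutatorElement

/-- Normal `p`-complements transfer along isomorphisms between universes. -/
theorem transfer_complement.{v, w} {p : ℕ} [Fact p.Prime] {A : Type v} {B : Type w} [Group A] [Group B]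
    [Finite A] [Finite B] (f : A ≃* B) (hB : Cfsg.HasNormalPComplement p B) :
    Cfsg.HasNormalPComplement p A := by
  have hp : p.Prime := Fact.out
  obtain ⟨P, N, hN, hc⟩ := hB
  obtain ⟨k, hk⟩ := P.isPGroup'.exists_card_eq
  refine complement_of_index (N.comap (f : A →* B)) inferInstance ?_ (k := k) ?_
  · intro hd
    rw [Subgroup.comap_equiv_eq_map_symm, Subgroup.card_map_of_injective f.symm.injective] at hd
    have h1 := N.card_mul_index
    have h2 : p ^ (k + 1) ∣ Nat.card B := by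
      rw [← h1, hc.symm.index_eq_card, hk, pow_succ, mul_comm]
      exact Nat.mul_dvd_mul_right hd _
    have h3 := P.pow_dvd_card_of_pow_dvd_card h2
    rw [hk] at h3
    exact absurd (Nat.le_of_dvd (pow_pos hp.pos k) h3)
      (not_le.2 (Nat.pow_lt_pow_right hp.one_lt (by omega)))
  · rw [Subgroup.index_comap_of_surjective _ f.surjective, hc.symm.index_eq_card, hk]

/-- The facts used about a minimal non-`p`-nilpotent group of order `p ^ t * q ^ r`. -/
theorem exists_gens {p q r t : ℕ} [Fact p.Prime] [Fact q.Prime] (hpq : p ≠ q) {X : Type u} [Group X]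
    [Finite X] (hX : ¬ Cfsg.HasNormalPComplement p X)
    (hmin : ∀ K : Subgroup X, K ≠ ⊤ → Cfsg.HasNormalPComplement p ↥K)
    (hc : Nat.card X = p ^ t * q ^ r) {K : Type} [Field K] [Finite K] [Algebra (ZMod p) K] {ζ : K}
    (hζ : orderOf ζ = q) :
    ∃ (x y : X) (Φ : Subgroup X), Φ ≤ Subgroup.center X ∧ y ^ q ^ r = 1 ∧
      (∀ i j : ℤ, ⁅orb y x i, orb y x j⁆ ∈ Φ) ∧ x ^ p ∈ Φ ∧
      ((List.range ((minpoly (ZMod p) ζ).natDegree + 1)).map fun i : ℕ =>
        orb y x i ^ ((minpoly (ZMod p) ζ).coeff i).val).prod ∈ Φ ∧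
      (∀ H : Subgroup X, y ∈ H → y * x * y⁻¹ * x⁻¹ ∈ H → H = ⊤) ∧
      Subgroup.zpowers y ≠ ⊤ := by
  classical
  have hp : p.Prime := Fact.out
  have hq : q.Prime := Fact.out
  have hcop : Nat.Coprime p q := (Nat.coprime_primes hp hq).2 hpq
  obtain ⟨P⟩ : Nonempty (Sylow p X) := inferInstance
  obtain ⟨Q⟩ : Nonempty (Sylow q X) := inferInstance
  have hPn : (P : Subgroup X).Normal := (Cfsg.Agent.S0132.result hX hmin).2.2 P
  have hPc : Nat.card (P : Subgroup X) = p ^ t := by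
    rw [P.card_eq_multiplicity, hc, Nat.factorization_mul (pow_ne_zero _ hp.ne_zero)
      (pow_ne_zero _ hq.ne_zero), hp.factorization_pow, hq.factorization_pow]
    simp [hpq]
  have hQc : Nat.card (Q : Subgroup X) = q ^ r := by
    rw [Q.card_eq_multiplicity, hc, Nat.factorization_mul (pow_ne_zero _ hp.ne_zero)
      (pow_ne_zero _ hq.ne_zero), hp.factorization_pow, hq.factorization_pow]
    simp [hpq.symm]
  have hcPQ : (Nat.card (Q : Subgroup X)).Coprime (Nat.card (P : Subgroup X)) := by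
    rw [hPc, hQc]; exact (hcop.symm).pow r t
  have hQPn : ∀ R : Subgroup X, R ≤ Subgroup.normalizer ((P : Subgroup X) : Set X) := fun R => by
    rw [Subgroup.normalizer_eq_top]; exact le_top
  -- proper products commute
  have key : ∀ U R : Subgroup X, U ≤ (P : Subgroup X) → R ≤ (Q : Subgroup X) →
      R ≤ Subgroup.normalizer (U : Set X) → Nat.card U * Nat.card R < Nat.card X →
        ⁅U, R⁆ = ⊥ := by
    intro U R hU hR hRU hlt
    have hne : U ⊔ R ≠ ⊤ := by
      intro h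
      have h1 : Nat.card (U ⊔ R : Subgroup X) ≤ Nat.card (U × R) := by
        refine Nat.card_le_card_of_surjective
          (fun z => (⟨z.1 * z.2, mul_mem (Subgroup.mem_sup_left z.1.2)
            (Subgroup.mem_sup_right z.2.2)⟩ : (U ⊔ R : Subgroup X))) ?_
        rintro ⟨z, hz⟩
        have hz' : z ∈ ((U ⊔ R : Subgroup X) : Set X) := hz
        rw [Subgroup.coe_mul_of_right_le_normalizer_left U R hRU] at hz'
        obtain ⟨a, ha, b, hb, rfl⟩ := hz'
        exact ⟨(⟨a, ha⟩, ⟨b, hb⟩), rfl⟩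
      rw [h, Subgroup.card_top, Nat.card_prod] at h1
      omega
    obtain ⟨P', N, hN, hcpl⟩ := hmin _ hne
    obtain ⟨k, hk⟩ := P'.isPGroup'.exists_card_eq
    have hi : N.index = p ^ k := hk ▸ hcpl.symm.index_eq_card
    rw [eq_bot_iff, Subgroup.commutator_le]
    intro u hu v hv
    rw [Subgroup.mem_bot]
    obtain ⟨u', hu'⟩ : ∃ u' : (U ⊔ R : Subgroup X), (u' : X) = u :=
      ⟨⟨u, Subgroup.mem_sup_left hu⟩, rfl⟩
    obtain ⟨v', hv'⟩ : ∃ v' : (U ⊔ R : Subgroup X), (v' : X) = v :=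
      ⟨⟨v, Subgroup.mem_sup_right hv⟩, rfl⟩
    have hvN : v' ∈ N := by
      rw [← QuotientGroup.eq_one_iff, ← orderOf_eq_one_iff]
      refine Nat.eq_one_of_dvd_coprimes (hcop.pow k r) ?_ ?_
      · rw [← hi, Subgroup.index_eq_card]; exact orderOf_dvd_natCard _
      · refine (orderOf_map_dvd (QuotientGroup.mk' N) v').trans ?_
        rw [← Subgroup.orderOf_coe, hv', ← hQc]
        exact Subgroup.orderOf_dvd_natCard _ (hR hv)
    have hwN : ⁅u', v'⁆ ∈ N := by
      rw [commutatorElement_def]; exact mul_mem (hN.conj_mem _ hvN _) (inv_mem hvN)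
    have hwP : ⁅u, v⁆ ∈ (P : Subgroup X) := by
      rw [commutatorElement_def, show u * v * u⁻¹ * v⁻¹ = u * (v * u⁻¹ * v⁻¹) by group]
      exact mul_mem (hU hu) (hPn.conj_mem _ (inv_mem (hU hu)) _)
    have hcn : ¬ p ∣ Nat.card N := by
      intro hd
      have h1 := N.card_mul_index
      have h2 : p ^ (k + 1) ∣ Nat.card (U ⊔ R : Subgroup X) := by
        rw [← h1, hi, pow_succ, mul_comm]; exact Nat.mul_dvd_mul_right hd _
      have h3 := P'.pow_dvd_card_of_pow_dvd_card h2
      rw [hk] at h3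
      exact absurd (Nat.le_of_dvd (pow_pos hp.pos k) h3)
        (not_le.2 (Nat.pow_lt_pow_right hp.one_lt (by omega)))
    rw [← orderOf_eq_one_iff]
    refine Nat.eq_one_of_dvd_coprimes (((hp.coprime_iff_not_dvd.2 hcn).pow_left t)) ?_ ?_
    · rw [← hPc]; exact Subgroup.orderOf_dvd_natCard _ hwP
    · have e : ((⁅u', v'⁆ : (U ⊔ R : Subgroup X)) : X) = ⁅u, v⁆ := by
        rw [← hu', ← hv']; rfl
      rw [← e, Subgroup.orderOf_coe]
      exact Subgroup.orderOf_dvd_natCard _ hwN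
  have hPQ : (P : Subgroup X) ⊔ (Q : Subgroup X) = ⊤ := by
    refine Subgroup.eq_top_of_card_eq _ (Nat.dvd_antisymm (Subgroup.card_subgroup_dvd_card _) ?_)
    rw [hc, ← hPc, ← hQc]
    exact hcPQ.symm.mul_dvd_of_dvd_of_dvd (Subgroup.card_dvd_of_le le_sup_left)
      (Subgroup.card_dvd_of_le le_sup_right)
  have hnt : ⁅(P : Subgroup X), (Q : Subgroup X)⁆ ≠ ⊥ := by
    intro h0
    have hQn : (Q : Subgroup X).Normal := by
      rw [← Subgroup.normalizer_eq_top_iff, eq_top_iff, ← hPQ]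
      refine sup_le ?_ Subgroup.le_normalizer
      exact (Subgroup.commutator_eq_bot_iff_le_centralizer.1 h0).trans
        (Subgroup.centralizer_le_normalizer _)
    refine hX ⟨P, Q, hQn, Subgroup.isComplement'_of_coprime ?_ hcPQ⟩
    rw [hc, ← hPc, ← hQc, mul_comm]
  have hminU : ∀ U : Subgroup X, U < (P : Subgroup X) →
      (Q : Subgroup X) ≤ Subgroup.normalizer (U : Set X) → ⁅U, (Q : Subgroup X)⁆ = ⊥ := by
    intro U hU hUQ
    refine key U _ hU.le le_rfl hUQ ?_
    rw [hc, ← hPc, ← hQc]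
    refine Nat.mul_lt_mul_of_pos_right ?_ Nat.card_pos
    exact Set.ncard_lt_ncard (SetLike.coe_ssubset_coe.2 hU) (Set.toFinite _)
  have hR : ∀ R : Subgroup X, R < (Q : Subgroup X) → ⁅(P : Subgroup X), R⁆ = ⊥ := by
    intro R hR
    refine key _ R le_rfl hR.le (hQPn R) ?_
    rw [hc, ← hPc, ← hQc]
    refine Nat.mul_lt_mul_of_pos_left ?_ Nat.card_pos
    exact Set.ncard_lt_ncard (SetLike.coe_ssubset_coe.2 hR) (Set.toFinite _)
  obtain ⟨hcomm, hstr, hirr, -⟩ := Cfsg.Agent.S3736.result (p := p) (Q : Subgroup X)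
    (Q : Subgroup X) (P : Subgroup X) P.isPGroup' (hQPn _) le_rfl Subgroup.le_normalizer
    (by rw [hQc]; exact hcop.symm.pow_left r) hnt hminU
  obtain ⟨y, hyQ⟩ : ∃ y : X, Subgroup.zpowers y = (Q : Subgroup X) := by
    by_contra hno
    push Not at hno
    refine hnt (Subgroup.commutator_eq_bot_iff_le_centralizer.2 fun u hu => ?_)
    rw [Subgroup.mem_centralizer_iff]
    intro v hv
    have h1 := Subgroup.commutator_eq_bot_iff_le_centralizer.1
      (hR _ (lt_of_le_of_ne (Subgroup.zpowers_le.2 hv) (hno v))) hu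
    exact Subgroup.mem_centralizer_iff.1 h1 v (Subgroup.mem_zpowers v)
  have hPne : (P : Subgroup X) ≠ ⊥ := fun h => hnt (by rw [h, Subgroup.commutator_bot_left])
  obtain ⟨Φ, hΦ⟩ : ∃ Φ, (frattini ↥(P : Subgroup X)).map (P : Subgroup X).subtype = Φ := ⟨_, rfl⟩
  rw [hΦ] at hirr
  have hPp := P.isPGroup'
  have hfr : frattini ↥(P : Subgroup X) ≠ ⊤ := fun h => by
    haveI := (Subgroup.nontrivial_iff_ne_bot _).2 hPne
    exact bot_ne_top (frattini_nongenerating
      (show (⊥ : Subgroup (P : Subgroup X)) ⊔ frattini ↥(P : Subgroup X) = ⊤ by rw [bot_sup_eq, h]))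
  have hΦP : Φ < (P : Subgroup X) := by
    refine lt_of_le_of_ne (hΦ ▸ Subgroup.map_subtype_le _) fun h => hfr ?_
    refine Subgroup.map_injective (P : Subgroup X).subtype_injective ?_
    rw [hΦ, h, ← MonoidHom.range_eq_map, Subgroup.range_subtype]
  have hΦQ : (Q : Subgroup X) ≤ Subgroup.normalizer (Φ : Set X) :=
    (hQPn _).trans (hΦ ▸ Cfsg.Agent.S3736.normalizer_le_normalizer_map _ _ inferInstance)
  have hΦc : Φ ≤ Subgroup.center X := by
    intro u hu
    rw [Subgroup.mem_center_iff]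
    intro g
    have hg : g ∈ Subgroup.centralizer ({u} : Set X) := by
      suffices h : (P : Subgroup X) ⊔ (Q : Subgroup X) ≤ Subgroup.centralizer ({u} : Set X) from
        h (hPQ ▸ Subgroup.mem_top g)
      refine sup_le (fun v hv => ?_) (fun v hv => ?_) <;>
        rw [Subgroup.mem_centralizer_singleton_iff]
      · rcases hstr with he | hs
        · exact congrArg Subtype.val (he.1.is_comm.comm (⟨v, hv⟩ : (P : Subgroup X))
            ⟨u, hΦP.le hu⟩)
        · rw [← hΦ, hs.2.1] at hu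
          obtain ⟨u', hu', rfl⟩ := hu
          exact congrArg Subtype.val (Subgroup.mem_center_iff.1 hu' (⟨v, hv⟩ : (P : Subgroup X)))
      · exact Subgroup.mem_centralizer_iff.1
          (Subgroup.commutator_eq_bot_iff_le_centralizer.1 (hminU Φ hΦP hΦQ) hu) v hv
    exact Subgroup.mem_centralizer_singleton_iff.1 hg
  have hfrl := CfsgLib.PGroupBasic.commutator_pow_le_frattini hPp
  have hcommP : ∀ u ∈ (P : Subgroup X), ∀ v ∈ (P : Subgroup X), ⁅u, v⁆ ∈ Φ := fun u hu v hv =>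
    hΦ ▸ ⟨⁅(⟨u, hu⟩ : (P : Subgroup X)), ⟨v, hv⟩⁆, hfrl.1 (Subgroup.commutator_mem_commutator
      (Subgroup.mem_top _) (Subgroup.mem_top _)), rfl⟩
  have hpowP : ∀ u ∈ (P : Subgroup X), u ^ p ∈ Φ := fun u hu =>
    hΦ ▸ ⟨_, hfrl.2 ⟨u, hu⟩, rfl⟩
  -- the quotient by the central subgroup
  haveI hΦn : Φ.Normal := ⟨fun u hu g => by
    rw [Subgroup.mem_center_iff.1 (hΦc hu) g, mul_inv_cancel_right]; exact hu⟩
  obtain ⟨π, hπ⟩ : ∃ π : X →* X ⧸ Φ, ∀ z, π z = QuotientGroup.mk z := ⟨QuotientGroup.mk' Φ, fun _ => rfl⟩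
  have hπker : ∀ z, π z = 1 ↔ z ∈ Φ := fun z => by rw [hπ, QuotientGroup.eq_one_iff]
  obtain ⟨Pb, hPb⟩ : ∃ Pb, (P : Subgroup X).map π = Pb := ⟨_, rfl⟩
  have hPbn : ∀ z : X, ∀ w ∈ Pb, π z * w * (π z)⁻¹ ∈ Pb := by
    intro z w hw
    obtain ⟨u, hu, rfl⟩ : w ∈ (P : Subgroup X).map π := hPb.symm ▸ hw
    rw [← hPb, ← map_inv, ← map_mul, ← map_mul]
    exact ⟨_, hPn.conj_mem u hu z, rfl⟩
  letI : CommGroup Pb :=
    { (inferInstance : Group Pb) with
      mul_comm := by
        rintro ⟨u, hu⟩ ⟨v, hv⟩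
        refine Subtype.ext ?_
        obtain ⟨u, hu', rfl⟩ : u ∈ (P : Subgroup X).map π := hPb.symm ▸ hu
        obtain ⟨v, hv', rfl⟩ : v ∈ (P : Subgroup X).map π := hPb.symm ▸ hv
        show π u * π v = π v * π u
        exact (commutatorElement_eq_one_iff_commute.1
          (by rw [← map_commutatorElement, hπker]; exact hcommP u hu' v hv')) }
  have hPb0 : ∀ z : Additive Pb, p • z = 0 := fun z => by
    refine Additive.toMul.injective (Subtype.ext ?_)
    rw [toMul_nsmul]
    obtain ⟨u, hu, hu'⟩ : ((Additive.toMul z : Pb) : X ⧸ Φ) ∈ (P : Subgroup X).map π :=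
      hPb.symm ▸ (Additive.toMul z : Pb).2
    rw [Subgroup.coe_pow, ← hu', ← map_pow, (hπker _).2 (hpowP u hu)]
    rfl
  letI : Module (ZMod p) (Additive Pb) := AddCommGroup.zmodModule (n := p) hPb0
  obtain ⟨T, hT⟩ : ∃ T : Module.End (ZMod p) (Additive Pb), ∀ z,
      ((Additive.toMul (T z) : Pb) : X ⧸ Φ) = π y * ((Additive.toMul z : Pb) : X ⧸ Φ) * (π y)⁻¹ :=
    ⟨(AddMonoidHom.toZModLinearMap p (M := Additive Pb) (M₁ := Additive Pb)
      { toFun := fun z => Additive.ofMul ⟨_, hPbn y _ (Additive.toMul z : Pb).2⟩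
        map_zero' := Additive.toMul.injective (Subtype.ext (by simp))
        map_add' := fun z w => Additive.toMul.injective (Subtype.ext (by
          simp only [toMul_add, toMul_ofMul, Subgroup.coe_mul]; group)) }), fun _ => rfl⟩
  have hTpow : ∀ (m : ℕ) z, ((Additive.toMul ((T ^ m) z) : Pb) : X ⧸ Φ) =
      π (y ^ m) * ((Additive.toMul z : Pb) : X ⧸ Φ) * (π (y ^ m))⁻¹ := by
    intro m
    induction m with
    | zero => intro z; simp
    | succ m ih =>
      intro z
      rw [pow_succ', Module.End.mul_apply, hT, ih, pow_succ' y, map_mul]; group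
  have hrpos : r ≠ 0 := by
    intro h0
    refine hnt ?_
    have hQb : (Q : Subgroup X) = ⊥ := Subgroup.eq_bot_of_card_eq _ (by rw [hQc, h0, pow_zero])
    rw [hQb, Subgroup.commutator_bot_right]
  have hyo : orderOf y = q ^ r := by rw [← Nat.card_zpowers, hyQ, hQc]
  have hTq : T ^ q = 1 := by
    refine LinearMap.ext fun z => Additive.toMul.injective (Subtype.ext ?_)
    obtain ⟨u, hu, hu'⟩ : ((Additive.toMul z : Pb) : X ⧸ Φ) ∈ (P : Subgroup X).map π :=
      hPb.symm ▸ (Additive.toMul z : Pb).2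
    have hlt : Subgroup.zpowers (y ^ q) < (Q : Subgroup X) := by
      refine lt_of_le_of_ne (hyQ ▸ Subgroup.zpowers_le.2 (pow_mem (Subgroup.mem_zpowers y) q))
        fun h => ?_
      have h1 := congrArg (fun H : Subgroup X => Nat.card H) h
      simp only [Nat.card_zpowers, hQc, orderOf_pow y, hyo] at h1
      have hqd : q ∣ q ^ r := dvd_pow_self q hrpos
      rw [Nat.gcd_eq_right hqd] at h1
      exact absurd h1 (Nat.div_lt_self (pow_pos hq.pos r) hq.one_lt).ne
    have h2 := Subgroup.mem_centralizer_iff.1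
      (Subgroup.commutator_eq_bot_iff_le_centralizer.1 (hR _ hlt) hu) _ (Subgroup.mem_zpowers _)
    rw [hTpow, Module.End.one_apply, ← hu', ← map_inv, ← map_mul, ← map_mul, h2,
      mul_inv_cancel_right]
  have hT1 : T ≠ 1 := by
    intro h1
    refine absurd ?_ hΦP.not_ge
    rw [← hcomm, Subgroup.commutator_le]
    intro u hu v hv
    rw [← hyQ, ← IsOfFinOrder.mem_powers_iff_mem_zpowers (isOfFinOrder_of_finite y)] at hv
    obtain ⟨m, rfl⟩ := hv
    have h2 := hTpow m (Additive.ofMul (⟨π u, hPb ▸ ⟨u, hu, rfl⟩⟩ : Pb))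
    rw [h1, one_pow, Module.End.one_apply, toMul_ofMul, ← map_inv, ← map_mul, ← map_mul] at h2
    rw [← hπker, map_commutatorElement, commutatorElement_eq_one_iff_commute]
    simp only [map_mul, map_inv] at h2
    exact (eq_mul_inv_iff_mul_eq.1 h2).trans rfl
  have hirrT : ∀ M : Submodule (ZMod p) (Additive Pb), (∀ v ∈ M, T v ∈ M) → M = ⊥ ∨ M = ⊤ := by
    intro M hM
    obtain ⟨U, hU⟩ : ∃ U : Subgroup X, ∀ u, u ∈ U ↔ ∃ hu : π u ∈ Pb,
        u ∈ (P : Subgroup X) ∧ Additive.ofMul (⟨π u, hu⟩ : Pb) ∈ M :=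
      ⟨{ carrier := {u | ∃ hu : π u ∈ Pb, u ∈ (P : Subgroup X) ∧ Additive.ofMul (⟨π u, hu⟩ : Pb) ∈ M}
         one_mem' := ⟨by simp, one_mem _, by
           convert M.zero_mem using 1
           exact Additive.toMul.injective (Subtype.ext (by simp))⟩
         mul_mem' := by
           rintro u v ⟨hu, hu1, hu2⟩ ⟨hv, hv1, hv2⟩
           refine ⟨by rw [map_mul]; exact mul_mem hu hv, mul_mem hu1 hv1, ?_⟩
           convert M.add_mem hu2 hv2 using 1
           exact Additive.toMul.injective (Subtype.ext (by simp))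
         inv_mem' := by
           rintro u ⟨hu, hu1, hu2⟩
           refine ⟨by rw [map_inv]; exact inv_mem hu, inv_mem hu1, ?_⟩
           convert M.neg_mem hu2 using 1
           exact Additive.toMul.injective (Subtype.ext (by simp)) }, fun _ => Iff.rfl⟩
    have hΦU : Φ ≤ U := fun u hu => (hU u).2 ⟨by rw [(hπker u).2 hu]; exact one_mem _,
      hΦP.le hu, by
        convert M.zero_mem using 1
        exact Additive.toMul.injective (Subtype.ext (by simp [(hπker u).2 hu]))⟩
    have hUP : U ≤ (P : Subgroup X) := fun u hu => ((hU u).1 hu).2.1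
    have hUQ : (Q : Subgroup X) ≤ Subgroup.normalizer (U : Set X) := by
      rw [← hyQ, Subgroup.zpowers_le, Subgroup.mem_normalizer_iff_map_conj_eq]
      refine Subgroup.eq_of_le_of_card_ge ?_
        (Subgroup.card_map_of_injective (MulAut.conj y).injective).ge
      rintro _ ⟨u, hu, rfl⟩
      obtain ⟨hu0, hu1, hu2⟩ := (hU u).1 hu
      have h3 : π (y * u * y⁻¹) ∈ Pb := by
        rw [map_mul, map_mul, map_inv]; exact hPbn y _ hu0
      show y * u * y⁻¹ ∈ U
      refine (hU _).2 ⟨h3, hPn.conj_mem u hu1 y, ?_⟩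
      convert hM _ hu2 using 1
      refine Additive.toMul.injective (Subtype.ext ?_)
      rw [hT]; simp
    rcases hirr U hΦU hUP hUQ with h | h
    · left
      refine eq_bot_iff.2 fun z hz => ?_
      obtain ⟨u, hu, hu'⟩ : ((Additive.toMul z : Pb) : X ⧸ Φ) ∈ (P : Subgroup X).map π :=
        hPb.symm ▸ (Additive.toMul z : Pb).2
      have h1 : u ∈ U := (hU u).2 ⟨hPb ▸ ⟨u, hu, rfl⟩, hu, by
        convert hz using 1
        exact Additive.toMul.injective (Subtype.ext hu')⟩
      rw [h, ← hπker] at h1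
      rw [Submodule.mem_bot]
      exact Additive.toMul.injective (Subtype.ext (hu'.symm.trans h1))
    · right
      refine eq_top_iff.2 fun z _ => ?_
      obtain ⟨u, hu, hu'⟩ : ((Additive.toMul z : Pb) : X ⧸ Φ) ∈ (P : Subgroup X).map π :=
        hPb.symm ▸ (Additive.toMul z : Pb).2
      obtain ⟨_, _, h2⟩ := (hU u).1 (h.symm ▸ hu)
      convert h2 using 1
      exact Additive.toMul.injective (Subtype.ext hu'.symm)
  obtain ⟨k, hkq, hkf, hkfix⟩ := exists_power_root hζ T hTq hT1 hirrT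
  obtain ⟨x, hxP, hxΦ⟩ := SetLike.exists_of_lt hΦP
  obtain ⟨xb, hxb⟩ : ∃ xb : Additive Pb, ((Additive.toMul xb : Pb) : X ⧸ Φ) = π x :=
    ⟨Additive.ofMul ⟨π x, hPb ▸ ⟨x, hxP, rfl⟩⟩, rfl⟩
  have horbP : ∀ i, orb (y ^ k) x i ∈ (P : Subgroup X) := fun i => hPn.conj_mem x hxP _
  have hyk : Subgroup.zpowers (y ^ k) = (Q : Subgroup X) := by
    refine Subgroup.eq_of_le_of_card_ge
      (hyQ ▸ Subgroup.zpowers_le.2 (pow_mem (Subgroup.mem_zpowers y) k)) ?_
    rw [hQc, Nat.card_zpowers, Nat.Coprime.orderOf_pow (by rw [hyo]; exact hkq.symm.pow_left r), hyo]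
  refine ⟨x, y ^ k, Φ, hΦc, ?_, fun i j => hcommP _ (horbP i) _ (horbP j), hpowP x hxP, ?_, ?_, ?_⟩
  · rw [← pow_mul, mul_comm, pow_mul, ← hyo, pow_orderOf_eq_one, one_pow]
  · have hlist : ∀ m : ℕ, π ((List.range m).map fun i : ℕ =>
        orb (y ^ k) x i ^ ((minpoly (ZMod p) ζ).coeff i).val).prod =
        ((Additive.toMul (∑ i ∈ Finset.range m, (minpoly (ZMod p) ζ).coeff i • (((T ^ k) ^ i) xb)) : Pb) : X ⧸ Φ) := by
      intro m
      induction m with
      | zero => simp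
      | succ m ih =>
        rw [List.range_succ, List.map_append, List.prod_append, List.map_singleton,
          List.prod_singleton, map_mul, ih, Finset.sum_range_succ, toMul_add, Subgroup.coe_mul]
        congr 1
        conv_rhs => rw [← ZMod.natCast_zmod_val ((minpoly (ZMod p) ζ).coeff m), Nat.cast_smul_eq_nsmul,
          toMul_nsmul]
        rw [Subgroup.coe_pow, map_pow, ← pow_mul T, hTpow, hxb, orb, zpow_natCast, map_mul, map_mul,
          map_inv, pow_mul]
    rw [← hπker, hlist]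
    have h1 : (aeval (T ^ k) (minpoly (ZMod p) ζ)) xb = 0 := by rw [hkf, LinearMap.zero_apply]
    rw [aeval_eq_sum_range, LinearMap.sum_apply] at h1
    simp only [LinearMap.smul_apply] at h1
    rw [h1]
    rfl
  · intro H hy hx'
    have hQH : (Q : Subgroup X) ≤ H := hyk ▸ Subgroup.zpowers_le.2 hy
    obtain ⟨w, hw⟩ : ∃ w, y ^ k * x * (y ^ k)⁻¹ * x⁻¹ = w := ⟨_, rfl⟩
    rw [hw] at hx'
    have hwP : w ∈ (P : Subgroup X) := hw ▸ mul_mem (hPn.conj_mem x hxP _) (inv_mem hxP)
    have hwΦ : w ∉ Φ := by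
      intro h
      rw [← hπker, ← hw, map_mul, mul_eq_one_iff_eq_inv, map_inv, inv_inv] at h
      have h1 : (T ^ k) xb = xb := Additive.toMul.injective (Subtype.ext (by
        rw [hTpow, hxb]
        simpa [map_mul] using h))
      have h2 := hkfix _ h1
      refine hxΦ ((hπker x).1 ?_)
      rw [← hxb, h2]; rfl
    obtain ⟨V, hV⟩ : ∃ V, H ⊓ (P : Subgroup X) = V := ⟨_, rfl⟩
    have hVP : V ≤ (P : Subgroup X) := hV ▸ inf_le_right
    have hVQ : (Q : Subgroup X) ≤ Subgroup.normalizer (V : Set X) := hV ▸ fun u hu => by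
      rw [Subgroup.mem_normalizer_iff]
      refine fun z => ⟨fun hz => ⟨H.mul_mem (H.mul_mem (hQH hu) hz.1) (H.inv_mem (hQH hu)),
        hPn.conj_mem z hz.2 u⟩, fun hz => ⟨?_, ?_⟩⟩
      · have := H.mul_mem (H.mul_mem (H.inv_mem (hQH hu)) hz.1) (hQH hu)
        simpa [mul_assoc] using this
      · have : z ∈ (P : Subgroup X) := by
          simpa [mul_assoc] using hPn.conj_mem _ hz.2 u⁻¹
        exact this
    have hVΦ : V ⊔ Φ = (P : Subgroup X) := by
      refine (hirr (V ⊔ Φ) le_sup_right (sup_le hVP hΦP.le) ?_).resolve_left fun h => hwΦ ?_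
      · refine (le_inf hVQ hΦQ).trans fun u hu => ?_
        rw [Subgroup.mem_normalizer_iff_map_conj_eq, Subgroup.map_sup,
          Subgroup.mem_normalizer_iff_map_conj_eq.1 hu.1,
          Subgroup.mem_normalizer_iff_map_conj_eq.1 hu.2]
      · exact h ▸ Subgroup.mem_sup_left (hV ▸ ⟨hx', hwP⟩)
    have hVtop : V.subgroupOf (P : Subgroup X) ⊔ frattini ↥(P : Subgroup X) = ⊤ := by
      refine Subgroup.map_injective (P : Subgroup X).subtype_injective ?_
      rw [Subgroup.map_sup, Subgroup.map_subgroupOf_eq_of_le hVP, hΦ, hVΦ,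
        ← MonoidHom.range_eq_map, Subgroup.range_subtype]
    have hPH : (P : Subgroup X) ≤ H := fun u hu => by
      have h1 : (⟨u, hu⟩ : (P : Subgroup X)) ∈ V.subgroupOf (P : Subgroup X) := by
        rw [frattini_nongenerating hVtop]; exact Subgroup.mem_top _
      rw [Subgroup.mem_subgroupOf, ← hV] at h1
      exact h1.1
    rw [← top_le_iff, ← hPQ]
    exact sup_le hPH hQH
  · rw [hyk]
    intro h
    rw [h, sup_top_eq] at hPQ
    have h1 := congrArg (fun H : Subgroup X => Nat.card H) h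
    simp only [hQc, Subgroup.card_top, hc] at h1
    refine hPne (Subgroup.eq_bot_of_card_eq _ ?_)
    rw [hPc]
    exact Nat.eq_of_mul_eq_mul_right (pow_pos hq.pos r) (by rw [one_mul]; exact h1.symm)


/-- Let p ≠ q be primes, r ≥ 1, a the multiplicative order of p modulo q, and a₀ = a when a is odd, a₀ = 3a/2 when a is even. Call a finite group minimal non-p-nilpotent when it has no normal p-complement but every proper subgroup has one. Then there is a minimal non-p-nilpotent group G₀ of order p^a₀ · q^r such that every minimal non-p-nilpotent group of order p^t · q^r (any t) is a quotient of G₀ by a central subgroup. -/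
theorem result (p q r : ℕ) [Fact p.Prime] [Fact q.Prime] (hpq : p ≠ q) (hr : 1 ≤ r) (a a₀ : ℕ)
    (ha : a = orderOf (p : ZMod q)) (ha₀ : a₀ = if a % 2 = 1 then a else 3 * a / 2) :
    ∃ (G₀ : Type u) (_ : Group G₀) (_ : Finite G₀),
      (¬ Cfsg.HasNormalPComplement p G₀ ∧ ∀ K : Subgroup G₀, K ≠ ⊤ → Cfsg.HasNormalPComplement p ↥K) ∧ Nat.card G₀ = p ^ a₀ * q ^ r ∧
      ∀ (X : Type u) [Group X] [Finite X], (¬ Cfsg.HasNormalPComplement p X ∧ ∀ K : Subgroup X, K ≠ ⊤ → Cfsg.HasNormalPComplement p ↥K) →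
        (∃ t : ℕ, Nat.card X = p ^ t * q ^ r) → ∃ φ : G₀ →* X, Function.Surjective φ ∧ φ.ker ≤ Subgroup.center G₀ := by
  classical
  have hp : p.Prime := Fact.out
  have hq : q.Prime := Fact.out
  obtain ⟨K, iK, iKf, iKa, ζ, h, F, hζ, hK, hW, ha0, hgen, hdeg, hcond⟩ :=
    exists_data hpq ha
  rw [← ha₀] at ha0
  haveI : CharP K p := charP_of_injective_algebraMap (algebraMap (ZMod p) K).injective p
  haveI : NeZero (q ^ r) := ⟨pow_ne_zero _ hq.ne_zero⟩
  haveI : NeZero p := ⟨hp.ne_zero⟩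
  have hint : IsIntegral (ZMod p) ζ := .of_finite (ZMod p) ζ
  have hn : ζ ^ q ^ r = 1 := orderOf_dvd_iff_pow_eq_one.1 (by rw [hζ]; exact dvd_pow_self q (by omega))
  have hζ0 : ζ ≠ 0 := fun e => by
    rw [e, zero_pow (pow_ne_zero _ hq.ne_zero)] at hn; exact zero_ne_one hn
  let G₀ := Grp F (q ^ r) hζ0 hn
  have hcard : Nat.card G₀ = p ^ a₀ * q ^ r := by
    rw [card_grp, hK, hW, ← pow_add, ha0]
  obtain ⟨hno, hsub⟩ := minimal F (q ^ r) hζ0 hn (r := r) rfl hpq hζ hK hW hgen
  have e : ULift.{u} G₀ ≃* G₀ := MulEquiv.ulift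
  refine ⟨ULift.{u} G₀, inferInstance, inferInstance, ⟨fun hc => hno (transfer_complement e.symm hc), ?_⟩,
    (Nat.card_congr e.toEquiv).trans hcard, ?_⟩
  · intro H hH
    refine transfer_complement (e.subgroupMap H) (hsub _ fun htop => hH ?_)
    exact Subgroup.map_injective e.injective (htop.trans
      (Subgroup.map_top_of_surjective e.toMonoidHom e.surjective).symm)
  intro X _ _ hX hXt
  obtain ⟨t, ht⟩ := hXt
  obtain ⟨x, y, Φ, hΦc, hyq, hcm, hxp, hrel, hgenX, hyne⟩ := exists_gens hpq hX.1 hX.2 ht hζ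
  rw [hdeg] at hrel
  obtain ⟨xx, hxx⟩ : ∃ xx : G₀ × X, xx = (gx F (q ^ r) hζ0 hn, x) := ⟨_, rfl⟩
  obtain ⟨yy, hyy⟩ : ∃ yy : G₀ × X, yy = (gy F (q ^ r) hζ0 hn, y) := ⟨_, rfl⟩
  have horb : ∀ i, orb yy xx i =
      (orb (gy F (q ^ r) hζ0 hn) (gx F (q ^ r) hζ0 hn) i, orb y x i) := fun i => by
    rw [hxx, hyy]; rfl
  have hcenter : ∀ g : G₀, g ∈ Subgroup.center G₀ → ∀ z ∈ Φ, (g, z) ∈ Subgroup.center (G₀ × X) :=
    fun g hg z hz => Subgroup.mem_center_iff.2 fun w =>
      Prod.ext (Subgroup.mem_center_iff.1 hg w.1) (Subgroup.mem_center_iff.1 (hΦc hz) w.2)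
  obtain ⟨H, hyH, hxH, hHc⟩ := bound p xx yy a h (q ^ r)
    (fun i => (minpoly (ZMod p) ζ).coeff i)
    (by rw [← hdeg]; exact (minpoly.monic hint).coeff_natDegree) (pow_pos hq.pos r)
    (by rw [hyy]; exact Prod.ext (gy_pow F _ hζ0 hn) hyq)
    (fun i j => by
      rw [horb, horb]
      exact hcenter _ (hyps_comm F _ hζ0 hn i j) _ (hcm i j))
    (by rw [hxx]; exact hcenter _ (hyps_pow F _ hζ0 hn) _ hxp)
    (by
      have hlist : ∀ m : ℕ, ((List.range m).map fun i : ℕ =>
          orb yy xx i ^ ((minpoly (ZMod p) ζ).coeff i).val).prod =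
          (((List.range m).map fun i : ℕ => orb (gy F (q ^ r) hζ0 hn) (gx F (q ^ r) hζ0 hn) i ^
              ((minpoly (ZMod p) ζ).coeff i).val).prod,
            ((List.range m).map fun i : ℕ => orb y x i ^ ((minpoly (ZMod p) ζ).coeff i).val).prod) := by
        intro m
        induction m with
        | zero => rfl
        | succ m ih =>
          rw [List.range_succ, List.map_append, List.prod_append, ih]
          simp only [List.map_append, List.prod_append, List.map_singleton,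
            List.prod_singleton, horb, Prod.pow_mk, Prod.mk_mul_mk]
      rw [hlist]
      refine hcenter _ (hyps_rel F _ hζ0 hn (fun i => (minpoly (ZMod p) ζ).coeff i) a ?_) _ hrel
      have h1 := minpoly.aeval (ZMod p) ζ
      rw [aeval_eq_sum_range, hdeg] at h1
      refine Eq.trans (Finset.sum_congr rfl fun i _ => ?_) h1
      rw [Algebra.smul_def, ← map_natCast (algebraMap (ZMod p) K), ZMod.natCast_zmod_val])
    hcond
  subst hxx hyy
  obtain ⟨f₁, hf₁⟩ : ∃ f₁ : H →* G₀, f₁ = (MonoidHom.fst G₀ X).comp H.subtype := ⟨_, rfl⟩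
  obtain ⟨f₂, hf₂⟩ : ∃ f₂ : H →* X, f₂ = (MonoidHom.snd G₀ X).comp H.subtype := ⟨_, rfl⟩
  have hs1 : Function.Surjective f₁ := by
    rw [← MonoidHom.range_eq_top]
    refine eq_top_of F (q ^ r) hζ0 hn hgen _ (gy F (q ^ r) hζ0 hn)
      ⟨⟨_, hyH⟩, by rw [hf₁]; rfl⟩ (by rw [gy, SemidirectProduct.right_inr])
      ((⟨ζ, 0⟩ : Heis F) * (⟨1, 0⟩ : Heis F)⁻¹) ⟨⟨_, hxH⟩, ?_⟩ ?_
    · have e1 := orb_nat F (q ^ r) hζ0 hn 1
      rw [orb, pow_one, Nat.cast_one, zpow_one] at e1
      rw [hf₁, map_mul, map_inv, ← e1]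
      rfl
    · rw [Heis.mul_fst, Heis.inv_fst, ← sub_eq_add_neg, sub_ne_zero]
      show ζ ≠ 1
      intro h1
      rw [h1, orderOf_one] at hζ
      exact hq.one_lt.ne hζ
  have hs2 : Function.Surjective f₂ := by
    rw [← MonoidHom.range_eq_top]
    refine hgenX _ ⟨⟨_, hyH⟩, by rw [hf₂]; rfl⟩ ⟨⟨_, hxH⟩, ?_⟩
    rw [hf₂]; rfl
  have hbij : Function.Bijective f₁ := by
    refine (Nat.bijective_iff_surjective_and_card f₁).2 ⟨hs1, le_antisymm ?_ ?_⟩
    · refine hHc.trans ?_
      rw [hcard, ha0]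
    · exact Nat.card_le_card_of_surjective f₁ hs1
  let f := MulEquiv.ofBijective f₁ hbij
  obtain ⟨φ, hφ⟩ : ∃ φ : G₀ →* X, φ = f₂.comp f.symm.toMonoidHom := ⟨_, rfl⟩
  have hφs : Function.Surjective φ := hφ ▸ hs2.comp f.symm.surjective
  have hφy : φ (gy F (q ^ r) hζ0 hn) = y := by
    have h1 : f ⟨_, hyH⟩ = gy F (q ^ r) hζ0 hn := by
      show f₁ _ = _; rw [hf₁]; rfl
    rw [hφ, MonoidHom.comp_apply, ← h1, MulEquiv.toMonoidHom_eq_coe, MonoidHom.coe_coe,
      MulEquiv.symm_apply_apply, hf₂]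
    rfl
  have hkerφ : φ.ker ≤ Subgroup.center G₀ := by
    intro g hg
    have hgr : g.right = 1 := by
      rw [← orderOf_eq_one_iff]
      have h1 : orderOf g ∣ p ^ (a + h) := by
        have h2 := φ.ker.card_mul_index
        rw [Subgroup.index_ker, MonoidHom.range_eq_top.2 hφs, Subgroup.card_top, ht, hcard, ← ha0,
          ← mul_assoc] at h2
        have h3 := Nat.eq_of_mul_eq_mul_right (pow_pos hq.pos r) h2
        exact (Subgroup.orderOf_dvd_natCard _ hg).trans (h3 ▸ dvd_mul_right _ _)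
      refine Nat.eq_one_of_dvd_coprimes (((Nat.coprime_primes hp hq).2 hpq).pow (a + h) r)
        ((orderOf_map_dvd SemidirectProduct.rightHom g).trans h1) ?_
      have h4 := orderOf_dvd_natCard (SemidirectProduct.rightHom g)
      rwa [Nat.card_congr Multiplicative.toAdd, Nat.card_zmod] at h4
    have hge : g = SemidirectProduct.inl g.left := SemidirectProduct.ext (by simp) (by simp [hgr])
    by_cases h0 : g.left.fst = 0
    · rw [hge]; exact inl_central F _ hζ0 hn h0
    exfalso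
    refine hyne ?_
    have htop : φ.ker ⊔ Subgroup.zpowers (gy F (q ^ r) hζ0 hn) = ⊤ := by
      refine eq_top_of F (q ^ r) hζ0 hn hgen _ _ (Subgroup.mem_sup_right (Subgroup.mem_zpowers _))
        (by rw [gy, SemidirectProduct.right_inr]) g.left ?_ h0
      rw [← hge]; exact Subgroup.mem_sup_left hg
    have h1 := congrArg (Subgroup.map φ) htop
    rw [Subgroup.map_sup, (Subgroup.map_eq_bot_iff _).2 le_rfl, bot_sup_eq, MonoidHom.map_zpowers,
      hφy, Subgroup.map_top_of_surjective φ hφs] at h1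
    exact h1
  refine ⟨φ.comp e.toMonoidHom, hφs.comp e.surjective, fun g hg => ?_⟩
  rw [Subgroup.mem_center_iff]
  intro z
  refine e.injective ?_
  rw [map_mul, map_mul]
  exact Subgroup.mem_center_iff.1 (hkerφ hg) (e z)

end Cfsg.Agent.S4395
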