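import Cfsg.Statements.S4396
import Cfsg.Agent.FrobFree.Main

set_option autoImplicit false
open Cfsg

namespace Cfsg.Agent.S4396

open Cfsg.Agent.FrobFree
open scoped Pointwise

/-- In a finite nilpotent group there is an automorphism-invariant normal subgroup of order invertible in
`k`, such that a vector fixed by it and nonzero gives a nonzero vector fixed by everything. -/
theorem invertible_part {k V G : Type*} [Field k] [AddCommGroup V] [Module k V] [Group G] [Finite G]
    [Group.IsNilpotent G] (ρ : G →* Module.End k V) (hCF : ∀ v, (∀ g, ρ g v = v) → v = 0) :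
    ∃ K : Subgroup G, (Nat.card K : k) ≠ 0 ∧ (∀ φ : G ≃* G, ∀ x ∈ K, φ x ∈ K) ∧
      ∀ v, (∀ g ∈ K, ρ g v = v) → v = 0 := by
  classical
  by_cases hG : (Nat.card G : k) ≠ 0
  · exact ⟨⊤, by rwa [Nat.card_congr Subgroup.topEquiv.toEquiv], fun _ _ _ => Subgroup.mem_top _,
      fun v hv => hCF v fun g => hv g (Subgroup.mem_top g)⟩
  push Not at hG
  obtain ⟨p, hcp⟩ := CharP.exists k
  have hpd : p ∣ Nat.card G := (CharP.cast_eq_zero_iff k p _).mp hG
  have hp : p.Prime := (CharP.char_is_prime_or_zero k p).resolve_right fun h0 => by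
    subst h0; exact (Nat.card_pos (α := G)).ne' (Nat.eq_zero_of_zero_dvd hpd)
  haveI : Fact p.Prime := ⟨hp⟩
  obtain ⟨K, ⟨hKn, hKp⟩, hKmax⟩ := Set.exists_max_image {A : Subgroup G | A.Normal ∧ ¬ p ∣ Nat.card A}
    (fun A => Nat.card A) (Set.toFinite _) ⟨⊥, inferInstance, by simp [hp.ne_one]⟩
  have hle : ∀ A : Subgroup G, A.Normal → ¬ p ∣ Nat.card A → A ≤ K := by
    intro A hA hAp
    haveI := hA; haveI := hKn
    have hdvd : Nat.card (A ⊔ K : Subgroup G) ∣ Nat.card K * Nat.card A := by
      have h1 := Subgroup.relIndex_mul_relIndex (⊥ : Subgroup G) K (A ⊔ K) bot_le le_sup_right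
      rw [Subgroup.relIndex_bot_left, Subgroup.relIndex_bot_left, Subgroup.relIndex_sup_right] at h1
      rw [← h1]
      exact mul_dvd_mul_left _ (Subgroup.relIndex_dvd_card K A)
    have hmem : (A ⊔ K).Normal ∧ ¬ p ∣ Nat.card (A ⊔ K : Subgroup G) :=
      ⟨inferInstance, fun h => (hp.dvd_mul.mp (h.trans hdvd)).elim hKp hAp⟩
    exact sup_eq_right.mp (Subgroup.eq_of_le_of_card_ge le_sup_right (hKmax _ hmem)).symm
  refine ⟨K, fun h => hKp ((CharP.cast_eq_zero_iff k p _).mp h), ?_, ?_⟩
  · intro φ x hx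
    haveI := hKn
    exact hle (K.map φ.toMonoidHom) (Subgroup.Normal.map inferInstance _ φ.surjective)
      (by rwa [Subgroup.card_map_of_injective φ.injective]) (Subgroup.mem_map_of_mem _ hx)
  intro v hv
  by_contra hv0
  obtain ⟨P⟩ : Nonempty (Sylow p G) := inferInstance
  have htop : (P : Subgroup G) ⊔ K = ⊤ := by
    by_contra hne
    obtain ⟨q, hq, hqd⟩ := Nat.exists_prime_and_dvd (fun h => hne (Subgroup.index_eq_one.mp h))
    haveI : Fact q.Prime := ⟨hq⟩
    obtain ⟨Q⟩ : Nonempty (Sylow q G) := inferInstance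
    have hQn : (Q : Subgroup G).Normal := inferInstance
    refine Q.not_dvd_index (hqd.trans (Subgroup.index_dvd_of_le ?_))
    by_cases hqp : q = p
    · subst hqp
      haveI := hQn
      haveI := Sylow.unique_of_normal Q hQn
      rw [Subsingleton.elim Q P]
      exact le_sup_left
    · refine le_trans (hle _ hQn fun h => ?_) le_sup_right
      obtain ⟨n, hn⟩ := Q.isPGroup'.exists_card_eq
      rw [hn] at h
      exact hqp ((Nat.prime_dvd_prime_iff_eq hp hq).mp (hp.dvd_of_dvd_pow h)).symm
  letI : Algebra (ZMod p) k := ZMod.algebra k p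
  letI : Module (ZMod p) V := Module.compHom V (algebraMap (ZMod p) k)
  let S : Submodule (ZMod p) V := Submodule.span (ZMod p) (Set.range fun g => ρ g v)
  have hsm : ∀ (c : ZMod p) (w : V), c • w = (algebraMap (ZMod p) k c) • w := fun c w => rfl
  have hS : ∀ g, ∀ w ∈ S, ρ g w ∈ S := by
    intro g w hw
    refine Submodule.span_induction ?_ ?_ ?_ ?_ hw
    · rintro _ ⟨h, rfl⟩
      exact Submodule.subset_span ⟨g * h, by simp [map_mul]⟩
    · simp
    · intro a b _ _ ha hb
      rw [map_add]; exact add_mem ha hb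
    · intro c a _ ha
      rw [hsm, map_smul, ← hsm]; exact S.smul_mem c ha
  have hfixK : ∀ g ∈ K, ∀ w ∈ S, ρ g w = w := by
    intro g hg w hw
    refine Submodule.span_induction ?_ ?_ ?_ ?_ hw
    · rintro _ ⟨h, rfl⟩
      have hconj : h⁻¹ * g * h ∈ K := by simpa using hKn.conj_mem g hg h⁻¹
      calc ρ g (ρ h v) = ρ (g * h) v := by rw [map_mul]; rfl
        _ = ρ (h * (h⁻¹ * g * h)) v := by rw [show h * (h⁻¹ * g * h) = g * h by group]
        _ = ρ h (ρ (h⁻¹ * g * h) v) := by rw [map_mul]; rfl
        _ = ρ h v := by rw [hv _ hconj]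
    · simp
    · intro a b _ _ ha hb
      rw [map_add, ha, hb]
    · intro c a _ ha
      rw [hsm, map_smul, ha]
  haveI : Module.Finite (ZMod p) S := Module.Finite.span_of_finite (ZMod p) (Set.finite_range _)
  haveI : Finite S := Module.finite_of_finite (ZMod p)
  letI : MulAction P S :=
    { smul := fun g w => ⟨ρ (g : G) w, hS _ _ w.2⟩
      one_smul := fun w => Subtype.ext (show ρ ((1 : P) : G) (w : V) = w by simp)
      mul_smul := fun a b w => Subtype.ext (show ρ ((a * b : P) : G) (w : V) = ρ (a : G) (ρ (b : G) w) by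
        simp) }
  have hpd' : p ∣ Nat.card S := by
    have hord : addOrderOf (⟨v, Submodule.subset_span ⟨1, by simp⟩⟩ : S) = p := by
      refine addOrderOf_eq_prime ?_ fun h => hv0 (congrArg Subtype.val h)
      rw [← Nat.cast_smul_eq_nsmul (ZMod p), ZMod.natCast_self, zero_smul]
    have := addOrderOf_dvd_natCard (⟨v, Submodule.subset_span ⟨1, by simp⟩⟩ : S)
    rwa [hord] at this
  obtain ⟨w, hw, hw0⟩ := P.isPGroup'.exists_fixed_point_of_prime_dvd_card_of_fixed_point S hpd'
    (a := (0 : S)) (fun g => Subtype.ext (show ρ (g : G) 0 = 0 by simp))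
  apply hw0
  refine Subtype.ext (hCF _ fun g => ?_).symm
  have hg : g ∈ (P : Subgroup G) ⊔ K := htop ▸ Subgroup.mem_top g
  haveI := hKn
  obtain ⟨a, ha, b, hb, rfl⟩ := Subgroup.mem_sup_of_normal_right.mp hg
  rw [map_mul, Module.End.mul_apply, hfixK b hb _ w.2]
  exact congrArg Subtype.val (hw ⟨a, ha⟩)

/-- Let the finite group A act faithfully and linearly on a finite-dimensional vector space V over a field k, and suppose A is a Frobenius group with nilpotent kernel F (every Frobenius kernel is nilpotent) and complement H such that F fixes no nonzero vector. Then V is free as a module for H: there is a subspace W with V the direct sum of the translates hW, h ∈ H. (No assumption on the characteristic of k.) -/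
theorem result {k V A : Type*} [Field k] [AddCommGroup V] [Module k V] [FiniteDimensional k V] [Group A] [Finite A] [DecidableEq A]
    (ρ : Representation k A V) (hρ : Function.Injective ρ)
    (Fk Hc : Subgroup A) [Fk.Normal] (hHc : Cfsg.IsFrobeniusComplement Hc) (hker : Cfsg.frobeniusKernel Hc = (Fk : Set A)) (hnil : Group.IsNilpotent ↥Fk)
    (hCF : ∀ v : V, (∀ f ∈ Fk, ρ f v = v) → v = 0) :
    ∃ W : Submodule k V, DirectSum.IsInternal (fun h : ↥Hc => W.map (ρ (h : A))) := by
  classical
  haveI := hnil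
  let φ : Hc →* MulAut Fk := MulAut.conjNormal.comp Hc.subtype
  have hfpf : ∀ h n, φ h n = n → h = 1 ∨ n = 1 := by
    intro h f hf
    have hf' : (h : A) * f * (h : A)⁻¹ = f := by
      simpa [φ, MulAut.conjNormal_apply] using congrArg Subtype.val hf
    by_cases hfH : (f : A) ∈ Hc
    · right
      have : (f : A) ∈ frobeniusKernel Hc := hker ▸ f.2
      rcases this with h1 | h1
      · exact Subtype.ext h1
      · exact absurd (by simpa using hfH) (h1 1)
    · left
      have hcomm : (f : A) * h * (f : A)⁻¹ = h := by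
        rw [mul_inv_eq_iff_eq_mul]; exact (mul_inv_eq_iff_eq_mul.mp hf').symm
      have h2 : (h : A) ∈ MulAut.conj (f : A) • Hc := by
        rw [Subgroup.mem_pointwise_smul_iff_inv_smul_mem]
        convert h.2 using 1
        simp only [MulAut.smul_def, ← map_inv, MulAut.conj_apply, inv_inv]
        conv_lhs => rw [← hcomm]
        group
      have := (hHc.2.2 _ hfH).le ⟨h.2, h2⟩
      exact Subtype.ext (Subgroup.mem_bot.mp this)
  obtain ⟨K, hK, hKinv, hKfix⟩ := invertible_part (ρ.comp Fk.subtype)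
    (fun v hv => hCF v fun f hf => hv ⟨f, hf⟩)
  haveI : Fintype K := Fintype.ofFinite _
  haveI : Fintype Hc := Fintype.ofFinite _
  let φK0 : Hc → (K ≃* K) := fun h =>
    { toFun := fun x => ⟨φ h x, hKinv (φ h) x x.2⟩
      invFun := fun x => ⟨φ h⁻¹ x, hKinv (φ h⁻¹) x x.2⟩
      left_inv := fun x => Subtype.ext (by simp)
      right_inv := fun x => Subtype.ext (by simp)
      map_mul' := fun a b => Subtype.ext (by simp) }
  let φK : Hc →* MulAut K :=
    { toFun := φK0
      map_one' := MulEquiv.ext fun x => Subtype.ext (by simp [φK0])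
      map_mul' := fun a b => MulEquiv.ext fun x => Subtype.ext (by simp [φK0]) }
  haveI : Fintype (⊤ : Subgroup K) := Fintype.ofFinite _
  obtain ⟨e, he⟩ := splits_solvable (k := k) (V := V) (N := K)
    (by rwa [← Nat.card_eq_fintype_card])
    ((ρ.comp Fk.subtype).comp K.subtype) (ρ.comp Hc.subtype) φK
    (fun h x => by
      show ρ (h : A) * ρ ((x : Fk) : A) = ρ ((φ h x : Fk) : A) * ρ (h : A)
      rw [← map_mul, ← map_mul]
      simp [φ, MulAut.conjNormal_apply, mul_assoc])
    (fun h x hx => (hfpf h x (congrArg Subtype.val hx)).imp id fun h1 => Subtype.ext h1)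
    ⊤ (fun _ _ _ => Subgroup.mem_top _)
  set σ := ρ.comp Hc.subtype with hσ
  have havg : avg (((ρ.comp Fk.subtype).comp K.subtype).comp (⊤ : Subgroup K).subtype) = 0 := by
    refine LinearMap.ext fun v => hKfix _ fun g hg => ?_
    exact LinearMap.congr_fun (avg_absorb (((ρ.comp Fk.subtype).comp K.subtype).comp
      (⊤ : Subgroup K).subtype) ⟨⟨g, hg⟩, Subgroup.mem_top _⟩).1 v
  rw [havg, sub_zero] at he
  refine ⟨LinearMap.range e, ?_⟩
  set E : Hc → Module.End k V := fun h => σ h * e * σ h⁻¹ with hE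
  have hW : ∀ h : Hc, (LinearMap.range e).map (ρ (h : A)) = LinearMap.range (E h) := by
    intro h
    apply le_antisymm
    · rintro _ ⟨_, ⟨v, rfl⟩, rfl⟩
      refine ⟨σ h v, ?_⟩
      show (σ h * e * σ h⁻¹) (σ h v) = σ h (e v)
      rw [← Module.End.mul_apply, mul_assoc, ← map_mul, inv_mul_cancel, map_one, mul_one]; rfl
    · rintro _ ⟨v, rfl⟩
      exact ⟨_, ⟨σ h⁻¹ v, rfl⟩, rfl⟩
  rw [DirectSum.isInternal_submodule_iff_iSupIndep_and_iSup_eq_top]
  simp only [hW]
  constructor
  · intro h
    rw [Submodule.disjoint_def]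
    rintro _ ⟨v, rfl⟩ hx
    have hker : (⨆ j, ⨆ (_ : j ≠ h), LinearMap.range (E j)) ≤ LinearMap.ker (E h) := by
      refine iSup_le fun j => iSup_le fun hj => ?_
      rintro _ ⟨w, rfl⟩
      exact LinearMap.congr_fun ((he.2 h).2 j (Ne.symm hj)) w
    have h1 := hker hx
    rw [LinearMap.mem_ker] at h1
    rw [← (LinearMap.congr_fun (he.2 h).1 v)]
    exact h1
  · rw [eq_top_iff]
    intro v _
    have : v = ∑ h, E h v := by
      rw [← LinearMap.sum_apply]
      exact (LinearMap.congr_fun he.1 v).symm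
    rw [this]
    exact Submodule.sum_mem _ fun h _ => Submodule.mem_iSup_of_mem h ⟨v, rfl⟩

end Cfsg.Agent.S4396
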