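import Cfsg.Statements.S4400
import Cfsg.Agent.Solvable.SectionalFour

set_option autoImplicit false
set_option linter.deprecated false
set_option linter.style.haveILetI false
set_option linter.unusedVariables false
open Cfsg
open scoped Pointwise

namespace Cfsg.Agent.S4400

/-- Let S be a finite 2-group of sectional 2-rank at most 4, and let P and Q be normal non-abelian subgroups of S whose centres have order 2 and are different. Then P and Q commute elementwise and intersect trivially, and PQ contains its own centralizer in S. -/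
theorem result {S : Type*} [Group S] [Finite S] (h2 : IsPGroup 2 S) (hr : Cfsg.SectionalPRankLE 2 4 S)
    (P Q : Subgroup S) [P.Normal] [Q.Normal] (hP : ¬ IsMulCommutative ↥P) (hQ : ¬ IsMulCommutative ↥Q)
    (hZP : Nat.card ↥(Subgroup.center ↥P) = 2) (hZQ : Nat.card ↥(Subgroup.center ↥Q) = 2)
    (hne : (Subgroup.center ↥P).map P.subtype ≠ (Subgroup.center ↥Q).map Q.subtype) :
    ⁅P, Q⁆ = ⊥ ∧ P ⊓ Q = ⊥ ∧ Subgroup.centralizer ((P ⊔ Q : Subgroup S) : Set S) ≤ P ⊔ Q := by
  obtain ⟨z, hz, ez⟩ := CfsgLib.SectionalFour.SmallCentre.of_card hP hZP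
  obtain ⟨w, hw, ew⟩ := CfsgLib.SectionalFour.SmallCentre.of_card hQ hZQ
  obtain ⟨hbot, hc⟩ := CfsgLib.SectionalFour.disjoint_commute h2 hz hw
    (fun e => hne (by rw [ez, ew, e])) Subgroup.le_normalizer_of_normal Subgroup.le_normalizer_of_normal
  refine ⟨le_bot_iff.1 (Subgroup.commutator_le.2 fun x hx y hy => ?_), hbot,
    CfsgLib.SectionalFour.centralizer_sup_le h2 hr hz hw hbot hc⟩
  exact Subgroup.mem_bot.2 (commutatorElement_eq_one_iff_mul_comm.2 (hc x hx y hy).eq)


end Cfsg.Agent.S4400
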