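import Cfsg.Statements.S4402
import Cfsg.Agent.DWrTwo.Main

set_option autoImplicit false
set_option linter.style.haveILetI false
open Cfsg

namespace Cfsg.Agent.S4402

/-- Let S be a finite 2-group of sectional 2-rank at most 4 and P a proper subgroup isomorphic to the wreath product of the dihedral group of order 8 by a group of order 2 (equivalently, to a Sylow 2-subgroup of the symmetric group of degree 8; order 128). Then Z(S) = Z(P) has order 2, P has index 2 in its normalizer N_S(P), N_S(P)/Z(S) is again isomorphic to that wreath product, and every elementary abelian subgroup V of order 16 that is normal in P satisfies N_S(V) = P. -/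
theorem result {S : Type*} [Group S] [Finite S] (h2 : IsPGroup 2 S) (hr : Cfsg.SectionalPRankLE 2 4 S)
    (P : Subgroup S) (hPlt : P ≠ ⊤) (hP : ∃ T : Sylow 2 (Equiv.Perm (Fin 8)), Nonempty (↥P ≃* ↥(T : Subgroup (Equiv.Perm (Fin 8))))) :
    Subgroup.center S = (Subgroup.center ↥P).map P.subtype ∧ Nat.card ↥(Subgroup.center S) = 2 ∧
    P.relIndex (Subgroup.normalizer (P : Set S)) = 2 ∧
    (∃ (_ : ((Subgroup.center S).subgroupOf (Subgroup.normalizer (P : Set S))).Normal) (T : Sylow 2 (Equiv.Perm (Fin 8))),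
      Nonempty (↥(Subgroup.normalizer (P : Set S)) ⧸ (Subgroup.center S).subgroupOf (Subgroup.normalizer (P : Set S)) ≃*
        ↥(T : Subgroup (Equiv.Perm (Fin 8))))) ∧
    ∀ V : Subgroup S, V ≤ P → (∀ g ∈ P, ∀ v ∈ V, g * v * g⁻¹ ∈ V) → Cfsg.IsElementaryAbelian 2 V → Nat.card ↥V = 16 →
      Subgroup.normalizer (V : Set S) = P := by
  classical
  obtain ⟨T, ⟨eP⟩⟩ := hP
  obtain ⟨eT⟩ := CfsgLib.DWrTwo.nonempty_equiv T
  let e : CfsgLib.DWrTwo.W8 ≃* P := eT.trans eP.symm
  let E : CfsgLib.DWrTwo.Emb S :=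
    ⟨P.subtype.comp e.toMonoidHom, fun x y h => e.injective (Subtype.ext h), h2, hr⟩
  have hER : E.R = P := by
    ext s
    exact ⟨fun ⟨x, hx⟩ => hx ▸ (e x).2, fun hs => ⟨e.symm ⟨s, hs⟩, by simp [E]⟩⟩
  have hne : E.R ≠ ⊤ := by rw [hER]; exact hPlt
  have hpre : ∀ x : P, E.ι (e.symm x) = x := fun x => by simp [E]
  have hZ1 : E.ι CfsgLib.DWrTwo.Zd ≠ 1 := fun h => absurd
    (E.inj (h.trans (map_one E.ι).symm)) (by decide +kernel)
  haveI : Nontrivial S := ⟨⟨_, _, hZ1⟩⟩
  have hZ : ∀ x, x ∈ Subgroup.center S ↔ x = 1 ∨ x = E.ι CfsgLib.DWrTwo.Zd :=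
    CfsgLib.DWrTwo.center_eq E
  refine ⟨?_, ?_, ?_, ?_, ?_⟩
  · ext x
    rw [hZ, Subgroup.mem_map]
    constructor
    · intro h
      refine ⟨⟨x, ?_⟩, Subgroup.mem_center_iff.2 fun g => Subtype.ext ?_, rfl⟩
      · rcases h with rfl | rfl
        · exact one_mem _
        · exact (e _).2
      · exact Subgroup.mem_center_iff.1 ((hZ x).2 h) g
    · rintro ⟨y, hy, rfl⟩
      have hc : ∀ w, e.symm y * w = w * e.symm y := fun w => by
        have h := Subgroup.mem_center_iff.1 hy (e w)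
        apply e.injective
        rw [map_mul, map_mul, e.apply_symm_apply]
        exact h.symm
      rcases CfsgLib.DWrTwo.central (e.symm y) (hc _) (hc _) (hc _) with h | h
      · left
        show (y : S) = 1
        rw [← hpre y, h, map_one]
      · right
        show (y : S) = _
        rw [← hpre y, h]
  · rw [Nat.card_eq_two_iff]
    refine ⟨⟨1, one_mem _⟩, ⟨E.ι CfsgLib.DWrTwo.Zd, (hZ _).2 (Or.inr rfl)⟩,
      fun h => hZ1 (congrArg Subtype.val h).symm, Set.eq_univ_of_forall ?_⟩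
    rintro ⟨x, hx⟩
    rcases (hZ x).1 hx with h | h <;> simp [h]
  · rw [← hER]
    exact CfsgLib.DWrTwo.relIndex_two E hne
  · rw [← hER]
    have hn : ((Subgroup.center S).subgroupOf (Subgroup.normalizer (E.R : Set S))).Normal :=
      inferInstance
    obtain ⟨T₀⟩ : Nonempty (Sylow 2 (Equiv.Perm (Fin 8))) := inferInstance
    obtain ⟨q⟩ := CfsgLib.DWrTwo.quotient_equiv E hne (hn0 := hn)
    obtain ⟨e₀⟩ := CfsgLib.DWrTwo.nonempty_equiv T₀
    exact ⟨hn, T₀, ⟨q.symm.trans e₀⟩⟩
  · intro V hVP hVn hVE hV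
    haveI := hVE.1
    have hVmap : (V.comap E.ι).map E.ι = V := by
      rw [Subgroup.map_comap_eq, show E.ι.range = P from hER, inf_eq_right.2 hVP]
    have hcard : Nat.card (V.comap E.ι) = 16 := by
      rw [← Subgroup.card_map_of_injective E.inj, hVmap, hV]
    have h := CfsgLib.DWrTwo.eq_four (V.comap E.ι)
      (fun g x hx => by
        show E.ι (g * x * g⁻¹) ∈ V
        rw [map_mul, map_mul, map_inv]
        exact hVn _ (hER ▸ ⟨g, rfl⟩) _ hx)
      (fun x hx y hy => E.inj (by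
        rw [map_mul, map_mul]
        exact congrArg Subtype.val (hVE.1.is_comm.comm ⟨_, hx⟩ ⟨_, hy⟩)))
      (fun x hx => E.inj (by rw [map_mul, map_one, ← pow_two]; exact hVE.2 _ hx)) hcard
    rw [← hVmap, ← hER]
    rcases h with h | h <;> rw [h]
    · exact CfsgLib.DWrTwo.normalizer_four E 0 (Or.inl rfl)
    · exact CfsgLib.DWrTwo.normalizer_four E 1 (Or.inr rfl)

end Cfsg.Agent.S4402
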