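import Cfsg.Statements.S4405
import Cfsg.Agent.Solvable.Fitting
import Cfsg.Agent.Char.Burnside
import Cfsg.Agent.Solvable.PGroupBasic

set_option autoImplicit false
set_option linter.deprecated false
set_option linter.style.haveILetI false
set_option linter.unusedVariables false
open Cfsg
open scoped Pointwise

namespace Cfsg.Agent.S4405

open scoped commutatorElement

/-- Let G be a finite group of order 320 = 64·5 whose largest normal 2-subgroup H = O₂(G) equals the Fitting subgroup F(G) and is extraspecial of order 32 containing no elementary abelian subgroup of order 8 (so H is the central product of a quaternion group and a dihedral group of order 8). If T is an involution of G outside H whose centralizer in H contains an elementary abelian subgroup of order 4, then C_H(T) itself is elementary abelian of order 4. -/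
theorem result {G : Type*} [Group G] [Finite G]
    (hG : Nat.card G = 320) (hHF : Cfsg.pCore 2 G = Cfsg.fittingSubgroup G)
    (hex : Cfsg.IsExtraspecial 2 ↥(Cfsg.pCore 2 G)) (h32 : Nat.card ↥(Cfsg.pCore 2 G) = 32)
    (hminus : ∀ A : Subgroup G, A ≤ Cfsg.pCore 2 G → Cfsg.IsElementaryAbelian 2 A → Nat.card ↥A ≤ 4)
    (T : G) (hT : orderOf T = 2) (hTH : T ∉ Cfsg.pCore 2 G)
    (V : Subgroup G) (hV : V ≤ Cfsg.pCore 2 G ⊓ Subgroup.centralizer ({T} : Set G)) (hV4 : Nat.card ↥V = 4) (hVe : Cfsg.IsElementaryAbelian 2 V) :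
    Nat.card ↥(Cfsg.pCore 2 G ⊓ Subgroup.centralizer ({T} : Set G)) = 4 ∧
      Cfsg.IsElementaryAbelian 2 (Cfsg.pCore 2 G ⊓ Subgroup.centralizer ({T} : Set G)) := by
  classical
  haveI : Group.IsSolvable G :=
    CfsgLib.Char.isSolvable_of_card_eq 2 5 6 1 Nat.prime_two (by norm_num) (by rw [hG]; norm_num)
  have hF := CfsgLib.Fitting.centralizer_fittingSubgroup_le_of_solvable (G := G)
  rw [← hHF] at hF
  set H := Cfsg.pCore 2 G with hH
  haveI hHn : H.Normal := CfsgLib.Solvable.pCore_normal (G := G) (p := 2)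
  -- the centre of `H`
  set Z := (Subgroup.center H).map H.subtype with hZ
  have hZc : Nat.card Z = 2 := by
    rw [hZ, Subgroup.card_map_of_injective H.subtype_injective]; exact hex.2
  haveI hZn : Z.Normal := inferInstance
  have hZcen : ∀ g : G, ∀ z ∈ Z, g * z * g⁻¹ = z := by
    intro g z hz
    by_cases h1 : z = 1
    · rw [h1]; group
    · haveI : Finite Z := inferInstance
      obtain ⟨u, v, -, huv⟩ := Nat.card_eq_two_iff.1 hZc
      have hall : ∀ a b : Z, a ≠ 1 → b ≠ 1 → a = b := by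
        intro a b ha hb
        have ha' : a ∈ ({u, v} : Set Z) := huv ▸ Set.mem_univ a
        have hb' : b ∈ ({u, v} : Set Z) := huv ▸ Set.mem_univ b
        have h1' : (1 : Z) ∈ ({u, v} : Set Z) := huv ▸ Set.mem_univ 1
        rcases ha' with rfl | rfl <;> rcases hb' with rfl | rfl <;> rcases h1' with h | h <;>
          first | rfl | exact absurd h.symm ha | exact absurd h.symm hb
      have := hall ⟨g * z * g⁻¹, hZn.conj_mem z hz g⟩ ⟨z, hz⟩
        (fun e => h1 (by simpa using congrArg Subtype.val e)) (fun e => h1 (congrArg Subtype.val e))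
      exact congrArg Subtype.val this
  have hZH : Z ≤ H := Subgroup.map_subtype_le _
  have hZmem : ∀ c ∈ H, (∀ y ∈ H, y * c = c * y) → c ∈ Z := fun c hc h =>
    ⟨⟨c, hc⟩, Subgroup.mem_center_iff.2 fun y => Subtype.ext (h y y.2), rfl⟩
  have hsq : ∀ z ∈ Z, z * z = 1 := fun z hz => by
    have h2 : orderOf (⟨z, hz⟩ : Z) ∣ 2 := hZc ▸ orderOf_dvd_natCard _
    have := congrArg Subtype.val (orderOf_dvd_iff_pow_eq_one.1 h2)
    simpa [pow_two] using this
  -- an element of order five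
  haveI : Fact (Nat.Prime 5) := ⟨by norm_num⟩
  obtain ⟨σ, hσ⟩ := exists_prime_orderOf_dvd_card' (G := G) 5 ⟨64, by rw [hG]⟩
  have hσH : σ ∉ H := fun h => by
    have h1 : orderOf (⟨σ, h⟩ : H) ∣ 32 := h32 ▸ orderOf_dvd_natCard _
    rw [← Subgroup.orderOf_coe] at h1; simp only [hσ] at h1; omega
  -- its centralizer in `H` is the centre
  set Cσ := H ⊓ Subgroup.centralizer ({σ} : Set G) with hCσ
  have hCσc : Nat.card Cσ = 2 := by
    have hC : Cσ ≤ H := inf_le_left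
    let φ : MulAut H := MulAut.conjNormal σ
    haveI : IsPGroup 5 ↥(Subgroup.zpowers φ) := by
      refine IsPGroup.of_card_dvd_pow (n := 1) ?_
      rw [Nat.card_zpowers, pow_one, ← hσ]
      exact orderOf_map_dvd MulAut.conjNormal σ
    have hmod := IsPGroup.card_modEq_card_fixedPoints this (α := H)
    have hfix : Nat.card (MulAction.fixedPoints ↥(Subgroup.zpowers φ) H) = Nat.card Cσ := by
      refine Nat.card_congr ⟨fun x => ⟨(x.1 : G), x.1.2, ?_⟩, fun x => ⟨⟨x.1, x.2.1⟩, ?_⟩,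
        fun x => rfl, fun x => rfl⟩
      · have h : φ x.1 = x.1 := x.2 ⟨φ, Subgroup.mem_zpowers φ⟩
        have h' : σ * (x.1 : G) * σ⁻¹ = (x.1 : G) := congrArg Subtype.val h
        exact Subgroup.mem_centralizer_singleton_iff.2 (mul_inv_eq_iff_eq_mul.1 h').symm
      · rintro ⟨ψ, i, rfl⟩
        show (φ ^ i) (⟨x.1, x.2.1⟩ : H) = ⟨x.1, x.2.1⟩
        have hx := Subgroup.mem_centralizer_singleton_iff.1 x.2.2
        apply Subtype.ext
        simp only [φ, ← map_zpow, MulAut.conjNormal_apply]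
        rw [((Commute.symm (show Commute x.1 σ from hx)).zpow_left i).eq, mul_inv_cancel_right]
    rw [h32, hfix] at hmod
    have hd : Nat.card Cσ ∣ 32 := h32 ▸ Subgroup.card_dvd_of_le hC
    have hne : Nat.card Cσ ≠ 32 := fun e => hσH (by
      have hCH : Cσ = H := CfsgLib.Solvable.eq_of_le_of_card_le hC (le_of_eq (h32.trans e.symm))
      apply hF
      exact Subgroup.mem_centralizer_iff.2 fun h hh =>
        Subgroup.mem_centralizer_singleton_iff.1 (hCH.ge hh).2)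
    have hb : Nat.card Cσ ≤ 32 := Nat.le_of_dvd (by norm_num) hd
    unfold Nat.ModEq at hmod
    generalize Nat.card Cσ = n at *
    interval_cases n <;> omega
  have hCσZ : Cσ = Z := by
    refine (CfsgLib.Solvable.eq_of_le_of_card_le ?_ (hCσc.trans hZc.symm).le).symm
    exact fun z hz => ⟨hZH hz, Subgroup.mem_centralizer_singleton_iff.2
      (mul_inv_eq_iff_eq_mul.1 (hZcen σ z hz)).symm⟩
  -- the elements of `H` fixed by `T` modulo `Z`
  have hnn : ∀ g : G, ∀ x ∈ H, g * x * g⁻¹ ∈ H := fun g x hx => hHn.conj_mem x hx g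
  let D : Subgroup G :=
    { carrier := {x | x ∈ H ∧ x⁻¹ * (T * x * T⁻¹) ∈ Z}
      one_mem' := ⟨one_mem _, by simp⟩
      mul_mem' := fun {a b} ha hb => ⟨mul_mem ha.1 hb.1, by
        have e : (a * b)⁻¹ * (T * (a * b) * T⁻¹) =
            (b⁻¹ * (a⁻¹ * (T * a * T⁻¹)) * b⁻¹⁻¹) * (b⁻¹ * (T * b * T⁻¹)) := by group
        rw [e, hZcen _ _ ha.2]; exact mul_mem ha.2 hb.2⟩
      inv_mem' := fun {a} ha => ⟨inv_mem ha.1, by
        have e : a⁻¹⁻¹ * (T * a⁻¹ * T⁻¹) = (a * (a⁻¹ * (T * a * T⁻¹)) * a⁻¹)⁻¹ := by group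
        rw [e, hZcen _ _ ha.2]; exact inv_mem ha.2⟩ }
  have hDH : D ≤ H := fun x hx => hx.1
  have hZD : Z ≤ D := fun z hz => ⟨hZH hz, by rw [hZcen T z hz, inv_mul_cancel]; exact one_mem _⟩
  set π := QuotientGroup.mk' H with hπ
  have hker : ∀ g, π g = 1 ↔ g ∈ H := fun g => QuotientGroup.eq_one_iff g
  have hq10 : Nat.card (G ⧸ H) = 10 := by
    have := Subgroup.card_eq_card_quotient_mul_card_subgroup H
    rw [hG, h32] at this; omega
  have hTT : T * T = 1 := by rw [← pow_two, ← hT, pow_orderOf_eq_one]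
  have hπT : orderOf (π T) = 2 := orderOf_eq_prime (by rw [← map_pow, pow_two, hTT, map_one])
    fun h => hTH ((hker T).1 h)
  have hπσ : orderOf (π σ) = 5 := orderOf_eq_prime (by rw [← map_pow, ← hσ, pow_orderOf_eq_one, map_one])
    fun h => hσH ((hker σ).1 h)
  have hncomm : ¬ Commute (π T) (π σ) := by
    intro hc
    have hgen : Subgroup.zpowers (π T * π σ) = ⊤ := by
      apply Subgroup.eq_top_of_card_eq
      rw [Nat.card_zpowers, hc.orderOf_mul_eq_mul_orderOf_of_coprime (by rw [hπT, hπσ]; norm_num),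
        hπT, hπσ, hq10]
    haveI : (Subgroup.zpowers (π T)).Normal := ⟨by
      rintro _ ⟨i, rfl⟩ g
      obtain ⟨j, rfl⟩ := Subgroup.mem_zpowers_iff.1 (hgen.ge (Subgroup.mem_top g))
      have h1 : Commute ((π T * π σ) ^ j) ((π T) ^ i) :=
        (((Commute.refl (π T)).mul_left hc.symm).zpow_left j).zpow_right i
      rw [h1.eq, mul_inv_cancel_right]; exact ⟨i, rfl⟩⟩
    set K := (Subgroup.zpowers (π T)).comap π with hK
    haveI : K.Normal := Subgroup.Normal.comap inferInstance π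
    have hKc : Nat.card K = 2 ^ 6 := by
      have h1 := Subgroup.relIndex_comap ⊥ π K
      rw [MonoidHom.comap_bot, QuotientGroup.ker_mk', hK,
        Subgroup.map_comap_eq_self_of_surjective (QuotientGroup.mk'_surjective H),
        Subgroup.relIndex_bot_left, Nat.card_zpowers, hπT] at h1
      have h2 := Subgroup.relIndex_mul_relIndex ⊥ H K bot_le
        (fun x hx => by show π x ∈ Subgroup.zpowers (π T); rw [(hker x).2 hx]; exact one_mem _)
      rw [Subgroup.relIndex_bot_left, Subgroup.relIndex_bot_left, h1, h32] at h2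
      rw [← h2]; norm_num
    exact hTH (CfsgLib.Solvable.le_pCore (p := 2) (G := G) inferInstance (IsPGroup.of_card hKc)
      (Subgroup.mem_zpowers (π T)))
  have hinv : π T * π σ * (π T)⁻¹ = (π σ)⁻¹ := by
    have hidx : (Subgroup.zpowers (π σ)).index = 2 := by
      have := (Subgroup.zpowers (π σ)).card_mul_index
      rw [Nat.card_zpowers, hπσ, hq10] at this; omega
    haveI := Subgroup.normal_of_index_eq_two hidx
    obtain ⟨k, hk⟩ := Subgroup.mem_zpowers_iff.1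
      (Subgroup.Normal.conj_mem inferInstance (π σ) (Subgroup.mem_zpowers _) (π T))
    have h2 : (π σ) ^ (k * k) = π σ := by
      have e2 : π T * π σ ^ k * (π T)⁻¹ = π σ ^ (k * k) := by
        rw [← conj_zpow, ← hk, ← zpow_mul]
      rw [← e2, hk, show π T * (π T * π σ * (π T)⁻¹) * (π T)⁻¹ =
        (π T * π T) * π σ * (π T * π T)⁻¹ by group, ← map_mul, hTT, map_one]; group
    have h3 : (5 : ℤ) ∣ (k * k - 1) := by
      rw [show (5 : ℤ) = ((orderOf (π σ) : ℕ) : ℤ) by rw [hπσ]; rfl, orderOf_dvd_iff_zpow_eq_one,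
        zpow_sub_one, h2, mul_inv_cancel]
    have h4 : (5 : ℤ) ∣ (k - 1) * (k + 1) := by
      rwa [show (k - 1) * (k + 1) = k * k - 1 by ring]
    rcases (Int.prime_iff_natAbs_prime.2 (by norm_num : (5 : ℤ).natAbs.Prime)).dvd_or_dvd h4 with h | h
    · exfalso
      rw [show (5 : ℤ) = ((orderOf (π σ) : ℕ) : ℤ) by rw [hπσ]; rfl, orderOf_dvd_iff_zpow_eq_one,
        zpow_sub_one, mul_inv_eq_one] at h
      exact hncomm (mul_inv_eq_iff_eq_mul.1 (hk.symm.trans h))
    · rw [show (5 : ℤ) = ((orderOf (π σ) : ℕ) : ℤ) by rw [hπσ]; rfl, orderOf_dvd_iff_zpow_eq_one,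
        zpow_add_one, mul_eq_one_iff_eq_inv] at h
      rw [← hk, h]
  obtain ⟨h0, hh0, e0⟩ : ∃ h0 ∈ H, T * σ * T⁻¹ = σ⁻¹ * h0 := by
    refine ⟨σ * (T * σ * T⁻¹), (hker _).1 ?_, by group⟩
    rw [map_mul, map_mul, map_mul, map_inv, hinv, mul_inv_cancel]
  -- conjugation by `H` is trivial modulo `Z`
  have hHZ : ∀ a ∈ H, ∀ x ∈ H, x⁻¹ * (a * x * a⁻¹) ∈ Z := fun a ha x hx => by
    have h1 : ⁅(⟨x, hx⟩ : H)⁻¹, (⟨a, ha⟩ : H)⁆ ∈ Subgroup.center H :=
      hex.1.2.2 ▸ Subgroup.commutator_mem_commutator (Subgroup.mem_top _) (Subgroup.mem_top _)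
    refine ⟨_, h1, ?_⟩
    simp [commutatorElement_def]; group
  have hinter : D ⊓ D.comap (MulAut.conj σ).toMonoidHom ≤ Z := by
    rintro x ⟨hx, hx'⟩
    have hx2 : σ * x * σ⁻¹ ∈ D := hx'
    -- `σ²` fixes `x` modulo `Z`
    obtain ⟨hxH, hxT⟩ := hx
    set y := σ * x * σ⁻¹ with hy
    set a := x⁻¹ * (T * x * T⁻¹) with ha
    have e1 : T * y * T⁻¹ = σ⁻¹ * (h0 * (T * x * T⁻¹) * h0⁻¹) * σ := by
      rw [hy, show T * (σ * x * σ⁻¹) * T⁻¹ =
        (T * σ * T⁻¹) * (T * x * T⁻¹) * (T * σ * T⁻¹)⁻¹ by group, e0]; group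
    set b := x⁻¹ * (h0 * x * h0⁻¹) with hb
    have hbZ : b ∈ Z := hHZ h0 hh0 x hxH
    have e2 : h0 * (T * x * T⁻¹) * h0⁻¹ = x * (b * a) := by
      rw [show T * x * T⁻¹ = x * a by rw [ha]; group, show h0 * (x * a) * h0⁻¹ =
        (h0 * x * h0⁻¹) * (h0 * a * h0⁻¹) by group, hZcen h0 a hxT, hb]; group
    set c := y⁻¹ * (T * y * T⁻¹) with hcd
    have e3 : σ⁻¹ * x * σ * (b * a) = σ * x * σ⁻¹ * c := by
      have := hZcen σ⁻¹ (b * a) (mul_mem hbZ hxT)
      rw [inv_inv] at this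
      rw [hcd, e1, e2, hy]
      calc σ⁻¹ * x * σ * (b * a) = σ⁻¹ * x * σ * (σ⁻¹ * (b * a) * σ) := by rw [this]
        _ = _ := by group
    set d := c * (b * a)⁻¹ with hdd
    have hdZ : d ∈ Z := mul_mem hx2.2 (inv_mem (mul_mem hbZ hxT))
    -- `σ²` moves `x` by `d`
    have e4 : σ * σ * x * (σ * σ)⁻¹ = x * d⁻¹ := by
      have e5 : σ⁻¹ * x * σ = σ * x * σ⁻¹ * d := by rw [hdd, ← mul_assoc, ← e3]; group
      have e6 := congrArg (fun g => σ * g * σ⁻¹) e5
      rw [show σ * (σ⁻¹ * x * σ) * σ⁻¹ = x by group,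
        show σ * (σ * x * σ⁻¹ * d) * σ⁻¹ = (σ * σ * x * (σ * σ)⁻¹) * (σ * d * σ⁻¹) by group,
        hZcen σ d hdZ] at e6
      rw [eq_mul_inv_iff_mul_eq]; exact e6.symm
    have e7 : ∀ n : ℕ, (σ * σ) ^ n * x * ((σ * σ) ^ n)⁻¹ = x * d⁻¹ ^ n := by
      intro n
      induction n with
      | zero => simp
      | succ n ih =>
        rw [pow_succ' (σ * σ), show σ * σ * (σ * σ) ^ n * x * (σ * σ * (σ * σ) ^ n)⁻¹ =
          σ * σ * ((σ * σ) ^ n * x * ((σ * σ) ^ n)⁻¹) * (σ * σ)⁻¹ by simp only [mul_inv_rev, mul_assoc], ih,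
          show σ * σ * (x * d⁻¹ ^ n) * (σ * σ)⁻¹ =
            (σ * σ * x * (σ * σ)⁻¹) * (σ * σ * d⁻¹ ^ n * (σ * σ)⁻¹) by group, e4,
          hZcen _ _ (pow_mem (inv_mem hdZ) n), mul_assoc, ← pow_succ']
    have hd1 : d = 1 := by
      have h5 := e7 5
      rw [← pow_two σ, ← pow_mul, show 2 * 5 = 5 * 2 from rfl, pow_mul, ← hσ,
        pow_orderOf_eq_one, one_pow, one_mul, inv_one, mul_one, hσ, eq_comm, mul_eq_left] at h5
      rwa [show (5 : ℕ) = 2 * 2 + 1 from rfl, pow_succ, pow_mul, pow_two d⁻¹,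
        hsq _ (inv_mem hdZ), one_pow, one_mul, inv_eq_one] at h5
    have e8 : (σ * σ) ^ 3 * x * ((σ * σ) ^ 3)⁻¹ = x := by rw [e7, hd1]; simp
    have e9 : (σ * σ) ^ 3 = σ := by
      rw [← pow_two, ← pow_mul, show 2 * 3 = 5 + 1 from rfl, pow_succ, ← hσ, pow_orderOf_eq_one, one_mul]
    rw [e9] at e8
    exact hCσZ.le ⟨hxH, Subgroup.mem_centralizer_singleton_iff.2 (mul_inv_eq_iff_eq_mul.1 e8).symm⟩
  -- counting
  set D' := D.comap (MulAut.conj σ).toMonoidHom with hD'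
  have hD'H : D' ≤ H := fun x hx => by
    have := hnn σ⁻¹ _ (hDH (Subgroup.mem_comap.1 hx))
    simpa [mul_assoc] using this
  have hD'c : Nat.card D' = Nat.card D := by
    refine Nat.card_congr ⟨fun x => ⟨σ * x.1 * σ⁻¹, x.2⟩,
      fun x => ⟨σ⁻¹ * x.1 * σ, Subgroup.mem_comap.2 (by simp [mul_assoc])⟩,
      fun x => Subtype.ext (by simp [mul_assoc]), fun x => Subtype.ext (by simp [mul_assoc])⟩
  have hdH : Nat.card D ∣ 32 := h32 ▸ Subgroup.card_dvd_of_le hDH
  have hup : Nat.card D * Nat.card D ≤ 64 := by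
    have h1 := Subgroup.relIndex_mul_relIndex ⊥ (D ⊓ D') D bot_le inf_le_left
    have h2 := Subgroup.relIndex_mul_relIndex ⊥ D' H bot_le hD'H
    rw [Subgroup.relIndex_bot_left, Subgroup.relIndex_bot_left] at h1 h2
    have h3 : (D ⊓ D').relIndex D ≤ D'.relIndex H := by
      rw [Subgroup.inf_relIndex_left]
      exact Subgroup.relIndex_le_of_le_right hDH (by
        intro e
        rw [e, mul_zero] at h2
        exact absurd h2 (by rw [h32]; norm_num))
    have h4 : Nat.card ↥(D ⊓ D') ≤ 2 := hZc ▸ Subgroup.card_le_of_le hinter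
    rw [hD'c, h32] at h2
    calc Nat.card D * Nat.card D = Nat.card ↥(D ⊓ D') * (D ⊓ D').relIndex D * Nat.card D := by rw [h1]
      _ ≤ 2 * D'.relIndex H * Nat.card D := Nat.mul_le_mul_right _ (Nat.mul_le_mul h4 h3)
      _ = 2 * (Nat.card D * D'.relIndex H) := by ring
      _ = 64 := by rw [h2]
  -- the map `x ↦ [x, T] Z`
  have hsqH : ∀ x ∈ H, x * x ∈ Z := fun x hx => by
    obtain ⟨hp, hfr, -⟩ := hex.1
    have h1 := (CfsgLib.PGroupBasic.commutator_pow_le_frattini (p := 2) hp).2 ⟨x, hx⟩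
    rw [hfr] at h1
    exact ⟨_, h1, by simp [pow_two]⟩
  have hfD : ∀ x ∈ H, x⁻¹ * (T * x * T⁻¹) ∈ D := fun x hx => by
    have hw : x⁻¹ * (T * x * T⁻¹) ∈ H := mul_mem (inv_mem hx) (hnn T x hx)
    refine ⟨hw, ?_⟩
    set w := x⁻¹ * (T * x * T⁻¹) with hwd
    have e : T * w * T⁻¹ = w⁻¹ := by
      rw [hwd, show T * (x⁻¹ * (T * x * T⁻¹)) * T⁻¹ = T * x⁻¹ * T⁻¹ * ((T * T) * x * (T * T)⁻¹) by group,
        hTT]; group
    rw [e, show w⁻¹ * w⁻¹ = (w * w)⁻¹ by group]
    exact inv_mem (hsqH w hw)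
  let ψ : H →* H ⧸ (Z.subgroupOf H) :=
    { toFun := fun x => QuotientGroup.mk (⟨x.1⁻¹ * (T * x.1 * T⁻¹),
        mul_mem (inv_mem x.2) (hnn T x.1 x.2)⟩ : H)
      map_one' := (QuotientGroup.eq_one_iff _).2 (Subgroup.mem_subgroupOf.2 (by simp))
      map_mul' := fun a b => by
        rw [← QuotientGroup.mk_mul, QuotientGroup.eq, Subgroup.mem_subgroupOf]
        show ((a.1 * b.1)⁻¹ * (T * (a.1 * b.1) * T⁻¹))⁻¹ *
          (a.1⁻¹ * (T * a.1 * T⁻¹) * (b.1⁻¹ * (T * b.1 * T⁻¹))) ∈ Z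
        set u := a.1⁻¹ * (T * a.1 * T⁻¹) with hu
        have hu' : u ∈ H := mul_mem (inv_mem a.2) (hnn T a.1 a.2)
        rw [show (a.1 * b.1)⁻¹ * (T * (a.1 * b.1) * T⁻¹) = b.1⁻¹ * u * b.1 * (b.1⁻¹ * (T * b.1 * T⁻¹)) by
          rw [hu]; group]
        set v := b.1⁻¹ * (T * b.1 * T⁻¹) with hv
        rw [show (b.1⁻¹ * u * b.1 * v)⁻¹ * (u * v) = v⁻¹ * ((b.1⁻¹ * u⁻¹ * b.1) * u) * v by group]
        have h1 := hHZ b.1⁻¹ (inv_mem b.2) u⁻¹ (inv_mem hu')
        rw [inv_inv, inv_inv] at h1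
        have h2 := hZn.conj_mem _ h1 u⁻¹
        rw [show u⁻¹ * (u * (b.1⁻¹ * u⁻¹ * b.1)) * u⁻¹⁻¹ = (b.1⁻¹ * u⁻¹ * b.1) * u by group] at h2
        have := hZn.conj_mem _ h2 v⁻¹
        rwa [inv_inv] at this }
  haveI hZHn : (Z.subgroupOf H).Normal := inferInstance
  have hker' : ψ.ker = D.subgroupOf H := by
    ext x
    rw [MonoidHom.mem_ker, Subgroup.mem_subgroupOf]
    show QuotientGroup.mk _ = 1 ↔ _
    rw [QuotientGroup.eq_one_iff, Subgroup.mem_subgroupOf]
    exact ⟨fun h => ⟨x.2, h⟩, fun h => h.2⟩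
  set DQ := (D.subgroupOf H).map (QuotientGroup.mk' (Z.subgroupOf H)) with hDQ
  have hrange : ψ.range ≤ DQ := by
    rintro _ ⟨x, rfl⟩
    exact ⟨_, Subgroup.mem_subgroupOf.2 (hfD x.1 x.2), rfl⟩
  have cD : Nat.card (D.subgroupOf H) = Nat.card D :=
    Nat.card_congr (Subgroup.subgroupOfEquivOfLe hDH).toEquiv
  have e1 : Nat.card D * Nat.card ψ.range = 32 := by
    rw [← Subgroup.index_ker, hker', ← cD, Subgroup.card_mul_index, h32]
  have e2 : Nat.card DQ * 2 = Nat.card D := by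
    have h1 := Subgroup.relIndex_comap ⊥ (QuotientGroup.mk' (Z.subgroupOf H)) (D.subgroupOf H)
    rw [MonoidHom.comap_bot, QuotientGroup.ker_mk', Subgroup.relIndex_bot_left, ← hDQ,
      Subgroup.relIndex_subgroupOf hDH] at h1
    rw [← h1, mul_comm, ← hZc, ← Subgroup.relIndex_bot_left, ← Subgroup.relIndex_bot_left]
    exact Subgroup.relIndex_mul_relIndex ⊥ Z D bot_le hZD
  have hle := Subgroup.card_le_of_le hrange
  have hD8 : Nat.card D = 8 := by
    have hb : Nat.card D ≤ 32 := Nat.le_of_dvd (by norm_num) hdH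
    have e3 : 64 ≤ Nat.card D * Nat.card D := by
      have : Nat.card D * Nat.card ψ.range * 2 ≤ Nat.card D * (Nat.card DQ * 2) := by
        rw [mul_assoc]; exact Nat.mul_le_mul_left _ (Nat.mul_le_mul_right 2 hle)
      rw [e1, e2] at this; omega
    generalize Nat.card D = n at *
    interval_cases n <;> omega
  have hrangeeq : ψ.range = DQ := CfsgLib.Solvable.eq_of_le_of_card_le hrange (by
    rw [hD8] at e1 e2; omega)
  -- the centralizer of `T`
  set C := H ⊓ Subgroup.centralizer ({T} : Set G) with hC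
  have hCD : C ≤ D := fun x hx => ⟨hx.1, by
    have hx2 := Subgroup.mem_centralizer_singleton_iff.1 hx.2
    rw [← hx2, mul_inv_cancel_right, inv_mul_cancel]; exact one_mem _⟩
  have hne : C ≠ D := by
    intro e
    have hfix : ∀ d ∈ D, T * d * T⁻¹ = d := fun d hd => by
      rw [← Subgroup.mem_centralizer_singleton_iff.1 (e.ge hd).2, mul_inv_cancel_right]
    have hsq2 : ∀ d ∈ D, d ^ 2 = 1 := by
      intro d hd
      have hm : QuotientGroup.mk' (Z.subgroupOf H) (⟨d, hDH hd⟩ : H) ∈ ψ.range :=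
        hrangeeq.ge ⟨⟨d, hDH hd⟩, hd, rfl⟩
      obtain ⟨x, hx⟩ := hm
      have hx' := Subgroup.mem_subgroupOf.1 (QuotientGroup.eq.1 (show QuotientGroup.mk _ = QuotientGroup.mk _ from hx))
      set w := x.1⁻¹ * (T * x.1 * T⁻¹) with hw
      have hwD : w ∈ D := hfD x.1 x.2
      have hz : w⁻¹ * d ∈ Z := hx'
      have e' : T * w * T⁻¹ = w⁻¹ := by
        rw [hw, show T * (x.1⁻¹ * (T * x.1 * T⁻¹)) * T⁻¹ =
          T * x.1⁻¹ * T⁻¹ * ((T * T) * x.1 * (T * T)⁻¹) by group, hTT]; group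
      rw [hfix w hwD] at e'
      have hw2 : w * w = 1 := mul_eq_one_iff_eq_inv.2 e'
      have hzw := mul_inv_eq_iff_eq_mul.1 (hZcen w _ hz)
      calc d ^ 2 = w * ((w⁻¹ * d) * w) * (w⁻¹ * d) := by rw [pow_two]; group
        _ = w * (w * (w⁻¹ * d)) * (w⁻¹ * d) := by rw [hzw]
        _ = (w * w) * ((w⁻¹ * d) * (w⁻¹ * d)) := by simp only [mul_assoc]
        _ = 1 := by rw [hsq _ hz, hw2, one_mul]
    have hab : IsMulCommutative D := ⟨⟨fun u v => Subtype.ext (by
      have hu := hsq2 u.1 u.2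
      have hv := hsq2 v.1 v.2
      have huv := hsq2 _ (mul_mem u.2 v.2)
      rw [pow_two] at hu hv huv
      show u.1 * v.1 = v.1 * u.1
      calc u.1 * v.1 = (u.1 * v.1)⁻¹ := (inv_eq_of_mul_eq_one_right huv).symm
        _ = v.1⁻¹ * u.1⁻¹ := mul_inv_rev _ _
        _ = v.1 * u.1 := by rw [inv_eq_of_mul_eq_one_right hu, inv_eq_of_mul_eq_one_right hv])⟩⟩
    have := hminus D hDH ⟨hab, hsq2⟩
    omega
  have hC4 : Nat.card C = 4 := by
    have h1 : Nat.card C ∣ 8 := hD8 ▸ Subgroup.card_dvd_of_le hCD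
    have h2 : 4 ≤ Nat.card C := hV4 ▸ Subgroup.card_le_of_le hV
    have h3 : Nat.card C ≠ 8 := fun h =>
      hne (CfsgLib.Solvable.eq_of_le_of_card_le hCD (by omega))
    have := Nat.le_of_dvd (by norm_num) h1
    generalize Nat.card C = n at *
    interval_cases n <;> omega
  refine ⟨hC4, ?_⟩
  rw [← CfsgLib.Solvable.eq_of_le_of_card_le hV (by omega)]
  exact hVe


end Cfsg.Agent.S4405
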