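import Cfsg.Statements.S4407

set_option autoImplicit false
open Cfsg

namespace Cfsg.Agent.S4407

section
variable {S M : Type*} [Group S] [Finite S] [AddCommGroup M] [Module (ZMod 2) M]
  (ρ : Representation (ZMod 2) S M)

lemma act (g h : S) (v : M) : ρ g (ρ h v) = ρ (g * h) v := by
  rw [map_mul]; rfl

lemma swapped {g h g' h' : S} (e : g * h = g' * h') (v : M) : ρ g (ρ h v) = ρ g' (ρ h' v) := by
  rw [act, act, e]

lemma add_self' (v : M) : v + v = 0 := by
  rw [← two_smul (ZMod 2) v, show (2 : ZMod 2) = 0 from by decide, zero_smul]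

/-- an involution fixes a nonzero vector of each nonzero invariant set closed under addition -/
lemma exists_fixed {t : S} (ht : t * t = 1) {v : M} (hv : v ≠ 0) :
    (ρ t v = v) ∨ (v + ρ t v ≠ 0 ∧ ρ t (v + ρ t v) = v + ρ t v) := by
  by_cases h : v + ρ t v = 0
  · left
    calc ρ t v = (v + v) + ρ t v := by rw [add_self' v, zero_add]
      _ = v := by rw [add_assoc, h, add_zero]
  · right
    refine ⟨h, ?_⟩
    rw [map_add, act, ht, map_one, Module.End.one_apply, add_comm]

theorem key (a b r s : S) (ha : a ^ 3 = 1) (hb : b ^ 3 = 1) (hab : a * b = b * a)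
    (hra : r * a = b * r) (hrb : r * b = a⁻¹ * r) (hsa : s * a = a * s) (hsb : s * b = b⁻¹ * s)
    (hr : r ^ 4 = 1) (hs : s * s = 1) (hsr : s * r * s = r⁻¹)
    (hgen : Subgroup.closure ({a, b, r, s} : Set S) = ⊤)
    (hirr : ∀ N : Submodule (ZMod 2) M, (∀ g : S, ∀ m ∈ N, ρ g m ∈ N) → N = ⊥ ∨ N = ⊤)
    (hfix : ∀ v, ρ a v = v → ρ b v = v → v = 0)
    (hv : ∃ v, v ≠ 0 ∧ ρ a v = v) :
    Nat.card M = 16 ∧ (∃ v₁ v₂ : M, v₁ ≠ v₂ ∧ v₁ ≠ 0 ∧ v₂ ≠ 0 ∧ ρ (r * r) v₁ = v₁ ∧ ρ s v₁ = v₁ ∧
        ρ (r * r) v₂ = v₂ ∧ ρ s v₂ = v₂) ∧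
      Nat.card {v : M // ρ (r * r) v = v ∧ ρ (s * r) v = v} = 2 := by
  classical
  -- relations
  have hrb' : r * b⁻¹ = a * r := by
    rw [mul_inv_eq_iff_eq_mul, mul_assoc, hrb, mul_inv_cancel_left]
  have hra' : r * a⁻¹ = b⁻¹ * r := by
    rw [mul_inv_eq_iff_eq_mul, mul_assoc, hra, inv_mul_cancel_left]
  have hza : r * r * a = a⁻¹ * (r * r) := by rw [mul_assoc, hra, ← mul_assoc, hrb, mul_assoc]
  have hzb : r * r * b = b⁻¹ * (r * r) := by rw [mul_assoc, hrb, ← mul_assoc, hra', mul_assoc]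
  have hzz : r * r * (r * r) = 1 := by rw [← hr]; simp [pow_succ, mul_assoc]
  have hsr' : s * r = r⁻¹ * s := by
    rw [← hsr, mul_assoc (s * r), hs, mul_one]
  have hsz : s * (r * r) = r * r * s := by
    have h1 : s * (r * r) = r⁻¹ * r⁻¹ * s := by
      rw [← mul_assoc, hsr', mul_assoc, hsr', ← mul_assoc]
    rw [h1, show r⁻¹ * r⁻¹ = r * r from ?_]
    rw [← mul_inv_rev]; exact inv_eq_of_mul_eq_one_right hzz
  have hszz : s * (r * r) * (s * (r * r)) = 1 := by
    rw [mul_assoc s, ← mul_assoc (r * r) s, ← hsz, mul_assoc s, hzz, mul_one, hs]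
  have hza' : r * r * a⁻¹ = a * (r * r) := by
    rw [mul_inv_eq_iff_eq_mul, mul_assoc a, hza, mul_inv_cancel_left]
  -- a vector fixed by `a`, `s` and the central involution
  obtain ⟨v, hv0, hva⟩ := hv
  have hinv : ∀ g : S, ∀ x : M, ρ g x = x → ρ g⁻¹ x = x := by
    intro g x hx
    conv_lhs => rw [← hx]
    rw [act, inv_mul_cancel, map_one, Module.End.one_apply]
  have hta : ∀ x : M, ρ a x = x → ρ a (ρ (s * (r * r)) x) = ρ (s * (r * r)) x := by
    intro x hx
    rw [swapped ρ (g' := s * (r * r)) (h' := a⁻¹), hinv a x hx]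
    rw [mul_assoc s (r * r), hza', ← mul_assoc s a, hsa, mul_assoc]
  have hzA : ∀ x : M, ρ a x = x → ρ a (ρ (r * r) x) = ρ (r * r) x := by
    intro x hx
    rw [swapped ρ (g' := r * r) (h' := a⁻¹) (hza'.symm), hinv a x hx]
  obtain ⟨v₁, hv₁0, hv₁a, hv₁t⟩ : ∃ v₁, v₁ ≠ 0 ∧ ρ a v₁ = v₁ ∧ ρ (s * (r * r)) v₁ = v₁ := by
    rcases exists_fixed ρ hszz hv0 with h | ⟨h0, h⟩
    · exact ⟨v, hv0, hva, h⟩
    · exact ⟨_, h0, by rw [map_add, hva, hta v hva], h⟩
  obtain ⟨w, hw0, hwa, hwt, hwz⟩ : ∃ w, w ≠ 0 ∧ ρ a w = w ∧ ρ (s * (r * r)) w = w ∧ ρ (r * r) w = w := by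
    rcases exists_fixed ρ hzz hv₁0 with h | ⟨h0, h⟩
    · exact ⟨v₁, hv₁0, hv₁a, hv₁t, h⟩
    · refine ⟨_, h0, by rw [map_add, hv₁a, hzA v₁ hv₁a], ?_, h⟩
      rw [map_add, hv₁t, swapped ρ (g' := r * r) (h' := s * (r * r)), hv₁t]
      rw [← mul_assoc (r * r) s, ← hsz]
  have hws : ρ s w = w := by
    conv_rhs => rw [← hwt]
    rw [show ρ (s * (r * r)) w = ρ s (ρ (r * r) w) from (act ρ _ _ _).symm, hwz]
  have hwai := hinv a w hwa
  have hbb : ρ b⁻¹ w = w + ρ b w := by
    have hb' : b⁻¹ = b * b := inv_eq_of_mul_eq_one_right (by rw [← hb]; simp [pow_succ, mul_assoc])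
    have h0 : w + ρ b w + ρ (b * b) w = 0 := by
      apply hfix
      · rw [map_add, map_add, hwa, swapped ρ hab, hwa, act, ← mul_assoc, hab, mul_assoc, hab,
          ← mul_assoc, ← act ρ (b * b) a w, hwa]
      · rw [map_add, map_add, act, act, show b * (b * b) = 1 from by rw [← hb]; simp [pow_succ, mul_assoc], map_one,
          Module.End.one_apply]
        abel
    rw [hb']
    calc ρ (b * b) w = ρ (b * b) w + ((w + ρ b w) + (w + ρ b w)) := by rw [add_self', add_zero]
      _ = _ := by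
        have : ρ (b * b) w + (w + ρ b w) = 0 := by rw [add_comm]; exact h0
        rw [← add_assoc, this, zero_add]
  set e₁ := w
  set e₂ := ρ b w
  set e₃ := ρ r w
  set e₄ := ρ r (ρ b w)
  -- the action
  have a₂ : ρ a e₂ = e₂ := by
    show ρ a (ρ b w) = _
    rw [swapped ρ hab, hwa]
  have a₃ : ρ a e₃ = e₃ + e₄ := by
    show ρ a (ρ r w) = _
    rw [swapped ρ hrb'.symm, hbb, map_add]
  have a₄ : ρ a e₄ = e₃ := by
    show ρ a (ρ r (ρ b w)) = _
    rw [swapped ρ hrb'.symm, act ρ b⁻¹, inv_mul_cancel, map_one, Module.End.one_apply]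
  have b₂ : ρ b e₂ = e₁ + e₂ := by
    show ρ b (ρ b w) = _
    rw [← hbb, act, inv_eq_of_mul_eq_one_right (show b * (b * b) = 1 from by rw [← hb]; simp [pow_succ, mul_assoc])]
  have b₃ : ρ b e₃ = e₃ := by
    show ρ b (ρ r w) = _
    rw [swapped ρ hra.symm, hwa]
  have b₄ : ρ b e₄ = e₄ := by
    show ρ b (ρ r (ρ b w)) = _
    rw [swapped ρ hra.symm, a₂]
  have z₂ : ρ (r * r) e₂ = e₁ + e₂ := by
    show ρ (r * r) (ρ b w) = _
    rw [swapped ρ hzb, hwz, hbb]
  have z₃ : ρ (r * r) e₃ = e₃ := by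
    show ρ (r * r) (ρ r w) = _
    rw [swapped ρ (show r * r * r = r * (r * r) from mul_assoc r r r), hwz]
  have z₄ : ρ (r * r) e₄ = e₃ + e₄ := by
    show ρ (r * r) (ρ r (ρ b w)) = _
    rw [swapped ρ (show r * r * r = r * (r * r) from mul_assoc r r r), z₂, map_add]
  have r₃ : ρ r e₃ = e₁ := by
    show ρ r (ρ r w) = _
    rw [act, hwz]
  have r₄ : ρ r e₄ = e₁ + e₂ := by
    show ρ r (ρ r (ρ b w)) = _
    rw [act, z₂]
  have hsr2 : s * r = r * (r * r * s) := by
    rw [hsr', inv_eq_of_mul_eq_one_right (show r * (r * (r * r)) = 1 from by rw [← hr]; simp [pow_succ, mul_assoc])]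
    simp [mul_assoc]
  have s₂ : ρ s e₂ = e₁ + e₂ := by
    show ρ s (ρ b w) = _
    rw [swapped ρ hsb, hws, hbb]
  have s₃ : ρ s e₃ = e₃ := by
    show ρ s (ρ r w) = _
    rw [swapped ρ hsr2, ← act ρ (r * r) s, hws, hwz]
  have s₄ : ρ s e₄ = e₄ := by
    show ρ s (ρ r (ρ b w)) = _
    rw [swapped ρ hsr2, ← act ρ (r * r) s, s₂, map_add, hwz, z₂, ← add_assoc, add_self', zero_add]
  -- coordinates
  let L : (Fin 4 → ZMod 2) →ₗ[ZMod 2] M := Fintype.linearCombination (ZMod 2) ![e₁, e₂, e₃, e₄]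
  have hL : ∀ x, L x = x 0 • e₁ + x 1 • e₂ + x 2 • e₃ + x 3 • e₄ := by
    intro x; simp [L, Fintype.linearCombination_apply, Fin.sum_univ_four]
  have hsurj : LinearMap.range L = ⊤ := by
    have hmem : ∀ x : M, (∃ c, x = L c) → x ∈ LinearMap.range L := fun x ⟨c, hc⟩ => ⟨c, hc.symm⟩
    have hg : ∀ g ∈ ({a, b, r, s} : Set S), ∀ x ∈ LinearMap.range L, ρ g x ∈ LinearMap.range L := by
      rintro g hg _ ⟨c, rfl⟩
      apply hmem
      rcases hg with rfl | rfl | rfl | rfl
      · exact ⟨![c 0, c 1, c 2 + c 3, c 2], by simp only [hL, map_add, map_smul, hwa, a₂, a₃, a₄, Matrix.cons_val]; module⟩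
      · exact ⟨![c 1, c 0 + c 1, c 2, c 3], by simp only [hL, map_add, map_smul, b₂, b₃, b₄, Matrix.cons_val]; module⟩
      · exact ⟨![c 2 + c 3, c 3, c 0, c 1], by simp only [hL, map_add, map_smul, r₃, r₄, Matrix.cons_val]; module⟩
      · exact ⟨![c 0 + c 1, c 1, c 2, c 3], by simp only [hL, map_add, map_smul, hws, s₂, s₃, s₄, Matrix.cons_val]; module⟩
    have hall : ∀ g : S, ∀ x ∈ LinearMap.range L, ρ g x ∈ LinearMap.range L := by
      intro g
      have hg' : g ∈ Submonoid.closure ({a, b, r, s} : Set S) := by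
        rw [← Subgroup.closure_toSubmonoid_of_finite, hgen]; exact Submonoid.mem_top g
      induction hg' using Submonoid.closure_induction with
      | mem x hx => exact hg x hx
      | one => intro x hx; rwa [map_one, Module.End.one_apply]
      | mul x y _ _ hx hy => intro v hv; rw [← act]; exact hx _ (hy v hv)
    refine (hirr _ hall).resolve_left fun h => hw0 ?_
    have : L ![1, 0, 0, 0] ∈ LinearMap.range L := ⟨_, rfl⟩
    rw [h, Submodule.mem_bot, hL] at this
    simpa using this
  have hne : ρ b w ≠ w := fun h => hw0 (hfix w hwa h)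
  have hb0 : ρ b w ≠ 0 := fun h => hw0 (by
    have := congrArg (ρ b⁻¹) h
    rwa [act, inv_mul_cancel, map_one, Module.End.one_apply, map_zero] at this)
  have hind : ∀ x y : ZMod 2, x • w + y • ρ b w = 0 → x = 0 ∧ y = 0 := by
    intro x y h
    have hxy : ∀ t : ZMod 2, t = 0 ∨ t = 1 := by decide
    rcases hxy x with rfl | rfl <;> rcases hxy y with rfl | rfl <;>
      simp only [zero_smul, one_smul, zero_add, add_zero] at h
    · exact ⟨rfl, rfl⟩
    · exact absurd h hb0
    · exact absurd h hw0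
    · refine absurd ?_ hne
      calc ρ b w = (w + w) + ρ b w := by rw [add_self', zero_add]
        _ = w := by rw [add_assoc, h, add_zero]
  have hinj : Function.Injective L := by
    rw [← LinearMap.ker_eq_bot, LinearMap.ker_eq_bot']
    intro x hx
    rw [hL] at hx
    set p := x 0 • e₁ + x 1 • e₂ with hp
    set q := x 2 • e₃ + x 3 • e₄ with hq
    have hpq : p = q := by
      calc p = p + (q + q) := by rw [add_self', add_zero]
        _ = q := by rw [← add_assoc, show p + q = 0 from by rw [← hx, hp, hq]; abel, zero_add]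
    have hp0 : p = 0 := by
      apply hfix
      · rw [hp]; simp only [map_add, map_smul, hwa, a₂]
      · rw [hpq, hq]; simp only [map_add, map_smul, b₃, b₄]
    obtain ⟨h0, h1⟩ := hind (x 0) (x 1) hp0
    have hq0 : ρ r (x 2 • w + x 3 • ρ b w) = 0 := by
      rw [map_add, map_smul, map_smul]; exact hpq.symm.trans hp0
    obtain ⟨h2, h3⟩ := hind (x 2) (x 3) (by
      have := congrArg (ρ r⁻¹) hq0
      rwa [act, inv_mul_cancel, map_one, Module.End.one_apply, map_zero] at this)
    ext i; fin_cases i <;> assumption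
  let E := LinearEquiv.ofBijective L ⟨hinj, LinearMap.range_eq_top.1 hsurj⟩
  have hcard : Nat.card M = 16 := by
    rw [← Nat.card_congr E.toEquiv, Nat.card_eq_fintype_card]; simp
  refine ⟨hcard, ⟨e₁, e₃, ?_, hw0, ?_, hwz, hws, z₃, s₃⟩, ?_⟩
  · intro h
    have := @hinj ![1, 0, 0, 0] ![0, 0, 1, 0] (by rw [hL, hL]; simp only [Matrix.cons_val, zero_smul, one_smul, zero_add, add_zero]; exact h)
    exact absurd (congrFun this 0) (by decide)
  · intro h
    have := @hinj ![0, 0, 1, 0] 0 (by rw [hL, map_zero]; simp only [Matrix.cons_val, zero_smul, one_smul, zero_add, add_zero]; exact h)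
    exact absurd (congrFun this 2) (by decide)
  · have hz : ∀ x, ρ (r * r) (L x) = L ![x 0 + x 1, x 1, x 2 + x 3, x 3] := by
      intro x; simp only [hL, map_add, map_smul, hwz, z₂, z₃, z₄, Matrix.cons_val]; module
    have hr' : ∀ x, ρ r (L x) = L ![x 2 + x 3, x 3, x 0, x 1] := by
      intro x; simp only [hL, map_add, map_smul, r₃, r₄, Matrix.cons_val]; module
    have hs' : ∀ x, ρ s (L x) = L ![x 0 + x 1, x 1, x 2, x 3] := by
      intro x; simp only [hL, map_add, map_smul, hws, s₂, s₃, s₄, Matrix.cons_val]; module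
    have e : {x : Fin 4 → ZMod 2 // (![x 0 + x 1, x 1, x 2 + x 3, x 3] : Fin 4 → ZMod 2) = x ∧
        (![x 2 + x 3 + x 3, x 3, x 0, x 1] : Fin 4 → ZMod 2) = x} ≃ {v : M // ρ (r * r) v = v ∧ ρ (s * r) v = v} :=
      E.toEquiv.subtypeEquiv fun x => by
        show _ ↔ ρ (r * r) (L x) = L x ∧ ρ (s * r) (L x) = L x
        rw [hz, show ρ (s * r) (L x) = ρ s (ρ r (L x)) from (act ρ _ _ _).symm, hr', hs']
        simp only [Matrix.cons_val, hinj.eq_iff]
    rw [← Nat.card_congr e, Nat.card_eq_fintype_card]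
    decide

end

/-- the dihedral Klein subgroups -/
def klein (i : ZMod 4) : Subgroup (DihedralGroup 4) where
  carrier := {x | x = 1 ∨ x = DihedralGroup.r 2 ∨ x = DihedralGroup.sr i ∨ x = DihedralGroup.sr (i + 2)}
  one_mem' := Or.inl rfl
  mul_mem' := by
    have h : ∀ i : ZMod 4, ∀ x y : DihedralGroup 4,
        (x = 1 ∨ x = DihedralGroup.r 2 ∨ x = DihedralGroup.sr i ∨ x = DihedralGroup.sr (i + 2)) →
        (y = 1 ∨ y = DihedralGroup.r 2 ∨ y = DihedralGroup.sr i ∨ y = DihedralGroup.sr (i + 2)) →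
        (x * y = 1 ∨ x * y = DihedralGroup.r 2 ∨ x * y = DihedralGroup.sr i ∨ x * y = DihedralGroup.sr (i + 2)) := by
      decide
    exact fun {x y} hx hy => h i x y hx hy
  inv_mem' := by
    have h : ∀ i : ZMod 4, ∀ x : DihedralGroup 4,
        (x = 1 ∨ x = DihedralGroup.r 2 ∨ x = DihedralGroup.sr i ∨ x = DihedralGroup.sr (i + 2)) →
        (x⁻¹ = 1 ∨ x⁻¹ = DihedralGroup.r 2 ∨ x⁻¹ = DihedralGroup.sr i ∨ x⁻¹ = DihedralGroup.sr (i + 2)) := by
      decide
    exact fun {x} hx => h i x hx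

lemma klein_card (i : ZMod 4) : Nat.card (klein i) = 4 := by
  rw [Nat.subtype_card (Finset.univ.filter fun x =>
    x = 1 ∨ x = DihedralGroup.r 2 ∨ x = DihedralGroup.sr i ∨ x = DihedralGroup.sr (i + 2)) (fun x => by simp; rfl)]
  revert i; decide

lemma four_eq_klein (B : Subgroup (DihedralGroup 4)) (hc : Nat.card B = 4) (h2 : ∀ x ∈ B, x ^ 2 = 1) :
    ∃ i, B = klein i := by
  by_cases h : ∃ i, DihedralGroup.sr i ∈ B
  · obtain ⟨i, hi⟩ := h
    refine ⟨i, Subgroup.eq_of_le_of_card_ge (fun x hx => ?_) (by rw [hc, klein_card])⟩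
    have dec : ∀ (i : ZMod 4) (x : DihedralGroup 4), x ^ 2 = 1 → (x * DihedralGroup.sr i) ^ 2 = 1 →
        (x = 1 ∨ x = DihedralGroup.r 2 ∨ x = DihedralGroup.sr i ∨ x = DihedralGroup.sr (i + 2)) := by
      decide
    exact dec i x (h2 x hx) (h2 _ (mul_mem hx hi))
  · push Not at h
    exfalso
    have hle : B ≤ Subgroup.closure {DihedralGroup.r 2} := by
      intro x hx
      cases x with
      | r j =>
        have dec : ∀ j : ZMod 4, (DihedralGroup.r j) ^ 2 = 1 → j = 0 ∨ j = 2 := by decide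
        rcases dec j (h2 _ hx) with rfl | rfl
        · exact one_mem _
        · exact Subgroup.subset_closure rfl
      | sr j => exact absurd hx (h j)
    have h1 := Subgroup.card_le_of_le hle
    rw [← Subgroup.zpowers_eq_closure, Nat.card_zpowers, hc] at h1
    have : orderOf (DihedralGroup.r (n := 4) 2) ≤ 2 :=
      orderOf_le_of_pow_eq_one (by norm_num) (by decide)
    omega

end Cfsg.Agent.S4407

namespace Cfsg.Agent.S4407

/-- Let S be a finite group with a normal elementary abelian subgroup A of order 9 that is self-centralizing (C_S(A) = A), and a dihedral subgroup X of order 8 with S = AX. Let M be a finite-dimensional module for S over the field with two elements that is faithful and irreducible. Then M has 16 elements, and X contains exactly one subgroup B of order 4 and exponent 2 whose fixed points on M form a subspace with exactly 2 elements (equivalently, M is free of rank one over the group algebra of B). -/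
theorem result {S : Type*} [Group S] [Finite S]
    (A : Subgroup S) [A.Normal] (hA : Cfsg.IsElementaryAbelian 3 A) (hA9 : Nat.card ↥A = 9)
    (hAC : Subgroup.centralizer (A : Set S) = A) (X : Subgroup S) (hX : Nonempty (↥X ≃* DihedralGroup 4)) (hAX : A ⊔ X = ⊤)
    {M : Type*} [AddCommGroup M] [Module (ZMod 2) M] [Finite M] (ρ : Representation (ZMod 2) S M)
    (hfaith : Function.Injective ρ)
    (hirr : ∀ N : Submodule (ZMod 2) M, (∀ s : S, ∀ m ∈ N, ρ s m ∈ N) → N = ⊥ ∨ N = ⊤) (hM : Nontrivial M) :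
    Nat.card M = 16 ∧
      ∃! B : Subgroup S, B ≤ X ∧ Nat.card ↥B = 4 ∧ (∀ b ∈ B, b ^ 2 = 1) ∧
        Nat.card {m : M // ∀ b ∈ B, ρ b m = m} = 2 := by
  classical
  obtain ⟨e⟩ := hX
  have hcom : ∀ x ∈ A, ∀ y ∈ A, x * y = y * x := fun x hx y hy =>
    congrArg Subtype.val (hA.1.is_comm.comm (⟨x, hx⟩ : A) ⟨y, hy⟩)
  have h3 := hA.2
  have hconj : ∀ g : S, ∀ x ∈ A, g * x * g⁻¹ ∈ A := fun g x hx => Subgroup.Normal.conj_mem inferInstance x hx g
  let ι : DihedralGroup 4 →* S := X.subtype.comp e.symm.toMonoidHom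
  have hι : Function.Injective ι := X.subtype_injective.comp e.symm.injective
  have hιX : ∀ g ∈ X, ∃ d, ι d = g := fun g hg => ⟨e ⟨g, hg⟩, by simp [ι]⟩
  have hιA : ∀ d, ι d ∈ A → d = 1 := by
    intro d hd
    apply hι
    rw [map_one]
    have hd8 : ι d ^ 8 = 1 := by
      rw [← map_pow, show (8 : ℕ) = Fintype.card (DihedralGroup 4) by rw [DihedralGroup.card], pow_card_eq_one, map_one]
    calc ι d = (ι d ^ 3) ^ 3 * (ι d ^ 8)⁻¹ := by group
      _ = 1 := by rw [h3 _ hd, hd8]; simp
  set r := ι (DihedralGroup.r 1) with hrdef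
  set z := r * r with hzdef
  have hz : z = ι (DihedralGroup.r 2) := by rw [hzdef, hrdef, ← map_mul]; rfl
  clear_value z r
  haveI := Fintype.ofFinite A
  -- the central involution inverts `A`
  have hzA : ∀ x ∈ A, z * x * z⁻¹ = x⁻¹ := by
    have hzz : z * z = 1 := by
      rw [hz, ← map_mul, ← map_one ι]; exact congrArg ι (by decide)
    have hfix : ∀ x ∈ A, z * x * z⁻¹ = x → x = 1 := by
      by_contra hcon
      push Not at hcon
      obtain ⟨x, hx, hzx, hx1⟩ := hcon
      obtain ⟨q, hq, hqz⟩ : ∃ q ∈ A, z * q * z⁻¹ ≠ q := by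
        by_contra h
        push Not at h
        have : z ∈ A := by
          rw [← hAC, Subgroup.mem_centralizer_iff]
          exact fun y hy => (mul_inv_eq_iff_eq_mul.1 (h y hy)).symm
        rw [hz] at this
        exact absurd (hιA _ this) (by decide)
      set d := q⁻¹ * (z * q * z⁻¹) with hd
      have hdA : d ∈ A := mul_mem (inv_mem hq) (hconj z q hq)
      have hdz : z * d * z⁻¹ = d⁻¹ := by
        rw [hd, mul_inv_rev, inv_inv]
        calc z * (q⁻¹ * (z * q * z⁻¹)) * z⁻¹ = (z * q⁻¹ * z⁻¹) * ((z * z) * q * (z * z)⁻¹) := by group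
          _ = _ := by rw [hzz]; group
      have hd1 : d ≠ 1 := fun h => hqz (by rw [hd] at h; exact (inv_mul_eq_one.1 h).symm)
      -- every element of `A` is `x ^ i * d ^ j`
      let P : ZMod 3 × ZMod 3 → A := fun t =>
        ⟨x ^ t.1.val * d ^ t.2.val, mul_mem (pow_mem hx _) (pow_mem hdA _)⟩
      have hsepx : ∀ i : ZMod 3, x ^ i.val = 1 → i = 0 := by
        intro i hi
        have := orderOf_dvd_of_pow_eq_one hi
        rw [orderOf_eq_prime (h3 x hx) hx1] at this
        exact (ZMod.val_eq_zero i).1 (Nat.eq_zero_of_dvd_of_lt this (ZMod.val_lt i))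
      have hsepd : ∀ i : ZMod 3, d ^ i.val = 1 → i = 0 := by
        intro i hi
        have := orderOf_dvd_of_pow_eq_one hi
        rw [orderOf_eq_prime (h3 d hdA) hd1] at this
        exact (ZMod.val_eq_zero i).1 (Nat.eq_zero_of_dvd_of_lt this (ZMod.val_lt i))
      have hzpow : ∀ i j : ℕ, z * (x ^ i * d ^ j) * z⁻¹ = x ^ i * (d ^ j)⁻¹ := by
        intro i j
        calc z * (x ^ i * d ^ j) * z⁻¹ = (z * x * z⁻¹) ^ i * (z * d * z⁻¹) ^ j := by
              rw [conj_pow, conj_pow]; group
          _ = _ := by rw [hzx, hdz, inv_pow]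
      have hsurjP : Function.Surjective P := by
        refine ((Fintype.bijective_iff_injective_and_card P).2 ⟨?_, ?_⟩).2
        · rintro ⟨i, j⟩ ⟨i', j'⟩ h
          have h' : x ^ i.val * d ^ j.val = x ^ i'.val * d ^ j'.val := congrArg Subtype.val h
          have h'' : x ^ i.val * (d ^ j.val)⁻¹ = x ^ i'.val * (d ^ j'.val)⁻¹ := by
            rw [← hzpow, ← hzpow, h']
          have hdd : d ^ j.val * d ^ j.val = d ^ j'.val * d ^ j'.val := by
            calc d ^ j.val * d ^ j.val = (x ^ i.val * (d ^ j.val)⁻¹)⁻¹ * (x ^ i.val * d ^ j.val) := by group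
              _ = _ := by rw [h'', h']; group
          have hj : d ^ j.val = d ^ j'.val := by
            have k : ∀ n : ℕ, d ^ n = (d ^ n * d ^ n) * (d ^ n * d ^ n) := by
              intro n
              rw [← pow_add, ← pow_add, show n + n + (n + n) = 3 * n + n by ring, pow_add, pow_mul, h3 d hdA, one_pow, one_mul]
            rw [k, hdd, ← k]
          rw [hj, mul_left_inj] at h'
          have sep : ∀ (y : S), y ^ 3 = 1 → y ≠ 1 → ∀ i i' : ZMod 3, y ^ i.val = y ^ i'.val → i = i' := by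
            intro y hy hy1 i i' he
            rw [pow_eq_pow_iff_modEq, orderOf_eq_prime hy hy1] at he
            exact ZMod.val_injective 3 (he.eq_of_lt_of_lt (ZMod.val_lt i) (ZMod.val_lt i'))
          rw [sep x (h3 x hx) hx1 i i' h', sep d (h3 d hdA) hd1 j j' hj]
        · rw [Fintype.card_prod, ZMod.card, ← Nat.card_eq_fintype_card, hA9]
      have hrz : r * z = z * r := by rw [hzdef]; group
      -- `r` preserves both lines, so its square centralizes `d`
      obtain ⟨⟨i, j⟩, hij⟩ := hsurjP ⟨r * d * r⁻¹, hconj r d hdA⟩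
      have hij' : x ^ i.val * d ^ j.val = r * d * r⁻¹ := congrArg Subtype.val hij
      have hi : x ^ i.val = 1 := by
        have h1 : z * (r * d * r⁻¹) * z⁻¹ = (r * d * r⁻¹)⁻¹ := by
          calc z * (r * d * r⁻¹) * z⁻¹ = (r * z) * d * (r * z)⁻¹ := by rw [hrz]; group
            _ = r * (z * d * z⁻¹) * r⁻¹ := by group
            _ = _ := by rw [hdz]; group
        rw [← hij', hzpow, mul_inv_rev, hcom _ (inv_mem (pow_mem hdA _)) _ (inv_mem (pow_mem hx _)), mul_left_inj] at h1
        have h2 : x ^ i.val * x ^ i.val = 1 := mul_eq_one_iff_eq_inv.2 h1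
        calc x ^ i.val = (x ^ i.val * x ^ i.val) * (x ^ i.val * x ^ i.val) * ((x ^ 3) ^ i.val)⁻¹ := by
              rw [← pow_mul]; group
          _ = 1 := by rw [h2, h3 x hx]; simp
      rw [hi, one_mul] at hij'
      have h5 : z * d * z⁻¹ = d ^ (j.val * j.val) := by
        calc z * d * z⁻¹ = r * (r * d * r⁻¹) * r⁻¹ := by rw [hzdef]; group
          _ = (r * d * r⁻¹) ^ j.val := by rw [conj_pow, hij']
          _ = _ := by rw [← hij', pow_mul]
      have hj : j.val * j.val % 3 ≠ 2 := by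
        have : ∀ j : ZMod 3, j.val * j.val % 3 ≠ 2 := by decide
        exact this j
      apply hj
      have h6 : d ^ (j.val * j.val) = d ^ 2 := by
        rw [← h5, hdz]; exact inv_eq_of_mul_eq_one_right (by rw [← pow_succ', h3 d hdA])
      rw [pow_eq_pow_iff_modEq, orderOf_eq_prime (h3 d hdA) hd1] at h6
      exact h6
    intro x hx
    have h := hfix (x * (z * x * z⁻¹)) (mul_mem hx (hconj z x hx)) (by
      calc z * (x * (z * x * z⁻¹)) * z⁻¹ = (z * x * z⁻¹) * ((z * z) * x * (z * z)⁻¹) := by group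
        _ = _ := by rw [hzz, inv_one, mul_one, one_mul]; exact hcom _ (hconj z x hx) _ hx)
    exact (mul_eq_one_iff_inv_eq.1 h).symm
  -- a reflection and its lines
  set s := ι (DihedralGroup.sr 0) with hsdef
  have hrel : ∀ d d' : DihedralGroup 4, d = d' → ι d = ι d' := fun _ _ h => congrArg ι h
  have hs : s * s = 1 := by rw [hsdef, ← map_mul, ← map_one ι]; exact congrArg ι (by decide)
  have hr : r ^ 4 = 1 := by rw [hrdef, ← map_pow, ← map_one ι]; exact congrArg ι (by decide)
  have hsr : s * r * s = r⁻¹ := by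
    rw [hsdef, hrdef, ← map_mul, ← map_mul, ← map_inv]; exact congrArg ι (by decide)
  have hsi : s⁻¹ = s := inv_eq_of_mul_eq_one_right hs
  obtain ⟨a, haA, ha1, hsa⟩ : ∃ a ∈ A, a ≠ 1 ∧ s * a = a * s := by
    by_contra h
    push Not at h
    have hinv : ∀ x ∈ A, s * x * s⁻¹ = x⁻¹ := by
      intro x hx
      by_contra hx'
      apply h (x * (s * x * s⁻¹)) (mul_mem hx (hconj s x hx))
        (fun e => hx' (mul_eq_one_iff_inv_eq.1 e).symm)
      calc s * (x * (s * x * s⁻¹)) = (s * x * s⁻¹) * ((s * s) * x) * (s * s)⁻¹ * s := by group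
        _ = _ := by
          rw [hs, inv_one, mul_one, one_mul, hcom _ (hconj s x hx) _ hx]
    have hsz : s * z ∈ A := by
      rw [← hAC, Subgroup.mem_centralizer_iff]
      intro y hy
      refine (mul_inv_eq_iff_eq_mul.1 ?_).symm
      calc s * z * y * (s * z)⁻¹ = s * (z * y * z⁻¹) * s⁻¹ := by group
        _ = y := by rw [hzA y hy, hinv _ (inv_mem hy), inv_inv]
    rw [hsdef, hz, ← map_mul] at hsz
    exact absurd (hιA _ hsz) (by decide)
  set b := r * a * r⁻¹ with hbdef
  have hbA : b ∈ A := hconj r a haA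
  have hb1 : b ≠ 1 := fun h => ha1 (by simpa [hbdef] using h)
  clear_value b
  have hra : r * a = b * r := by rw [hbdef]; group
  have hrb : r * b = a⁻¹ * r := by
    rw [← hzA a haA, hzdef, hbdef]; group
  have hsb : s * b = b⁻¹ * s := by
    refine mul_inv_eq_iff_eq_mul.1 ?_
    calc s * b * s⁻¹ = (s * r * s) * (s⁻¹ * a * s) * (s * r * s)⁻¹ := by rw [hbdef]; group
      _ = r⁻¹ * a * r := by rw [hsr, inv_inv, mul_assoc s⁻¹ a s, ← hsa, inv_mul_cancel_left]
      _ = (r * r)⁻¹ * b * (r * r) := by rw [hbdef]; group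
      _ = z * b * z⁻¹ := by
        have : (r * r)⁻¹ = r * r := inv_eq_of_mul_eq_one_right (by rw [← hr]; simp [pow_succ, mul_assoc])
        conv_lhs => rw [this]
        rw [hzdef, this]
      _ = b⁻¹ := hzA b hbA
  have hab := hcom a haA b hbA
  -- `A` is generated by `a` and `b`
  let P : ZMod 3 × ZMod 3 → A := fun t =>
    ⟨a ^ t.1.val * b ^ t.2.val, mul_mem (pow_mem haA _) (pow_mem hbA _)⟩
  have hPsurj : Function.Surjective P := by
    refine ((Fintype.bijective_iff_injective_and_card P).2 ⟨?_, ?_⟩).2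
    · rintro ⟨i, j⟩ ⟨i', j'⟩ h
      have h' : a ^ i.val * b ^ j.val = a ^ i'.val * b ^ j'.val := congrArg Subtype.val h
      have hsconj : ∀ m n : ℕ, s * (a ^ m * b ^ n) * s⁻¹ = a ^ m * (b ^ n)⁻¹ := by
        intro m n
        calc s * (a ^ m * b ^ n) * s⁻¹ = (s * a * s⁻¹) ^ m * (s * b * s⁻¹) ^ n := by
              rw [conj_pow, conj_pow]; group
          _ = _ := by rw [hsa, mul_inv_cancel_right, hsb, mul_inv_cancel_right, inv_pow]
      have h'' : a ^ i.val * (b ^ j.val)⁻¹ = a ^ i'.val * (b ^ j'.val)⁻¹ := by rw [← hsconj, ← hsconj, h']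
      have hdd : b ^ j.val * b ^ j.val = b ^ j'.val * b ^ j'.val := by
        calc b ^ j.val * b ^ j.val = (a ^ i.val * (b ^ j.val)⁻¹)⁻¹ * (a ^ i.val * b ^ j.val) := by group
          _ = _ := by rw [h'', h']; group
      have hj : b ^ j.val = b ^ j'.val := by
        have k : ∀ n : ℕ, b ^ n = (b ^ n * b ^ n) * (b ^ n * b ^ n) := by
          intro n
          rw [← pow_add, ← pow_add, show n + n + (n + n) = 3 * n + n by ring, pow_add, pow_mul, h3 b hbA, one_pow, one_mul]
        rw [k, hdd, ← k]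
      rw [hj, mul_left_inj] at h'
      have sep : ∀ (y : S), y ^ 3 = 1 → y ≠ 1 → ∀ i i' : ZMod 3, y ^ i.val = y ^ i'.val → i = i' := by
        intro y hy hy1 i i' he
        rw [pow_eq_pow_iff_modEq, orderOf_eq_prime hy hy1] at he
        exact ZMod.val_injective 3 (he.eq_of_lt_of_lt (ZMod.val_lt i) (ZMod.val_lt i'))
      rw [sep a (h3 a haA) ha1 i i' h', sep b (h3 b hbA) hb1 j j' hj]
    · rw [Fintype.card_prod, ZMod.card, ← Nat.card_eq_fintype_card, hA9]
  have hAle : ∀ H : Subgroup S, a ∈ H → b ∈ H → A ≤ H := by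
    intro H ha hb x hx
    obtain ⟨t, ht⟩ := hPsurj ⟨x, hx⟩
    rw [show x = a ^ t.1.val * b ^ t.2.val from (congrArg Subtype.val ht).symm]
    exact mul_mem (pow_mem ha _) (pow_mem hb _)
  have hXle : ∀ H : Subgroup S, r ∈ H → ι (DihedralGroup.sr 0) ∈ H → X ≤ H := by
    intro H hr hs x hx
    obtain ⟨d, rfl⟩ := hιX x hx
    have hk : ∀ k : ZMod 4, ι (DihedralGroup.r k) ∈ H := by
      intro k
      have : DihedralGroup.r k = DihedralGroup.r 1 ^ k.val := by rw [DihedralGroup.r_one_pow, ZMod.natCast_zmod_val]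
      rw [this, map_pow, ← hrdef]; exact pow_mem hr _
    cases d with
    | r k => exact hk k
    | sr k =>
      rw [show DihedralGroup.sr k = DihedralGroup.sr 0 * DihedralGroup.r k by rw [DihedralGroup.sr_mul_r, zero_add], map_mul]
      exact mul_mem hs (hk k)
  -- no vector is fixed by all of `A`
  have hfix : ∀ v, ρ a v = v → ρ b v = v → v = 0 := by
    let N : Submodule (ZMod 2) M :=
      { carrier := {v | ∀ x ∈ A, ρ x v = v}
        add_mem' := fun hu hv x hx => by rw [map_add, hu x hx, hv x hx]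
        zero_mem' := fun x _ => map_zero _
        smul_mem' := fun c v hv x hx => by rw [map_smul, hv x hx] }
    intro v hva hvb
    have hN : ∀ g : S, ∀ m ∈ N, ρ g m ∈ N := by
      intro g m hm x hx
      rw [swapped ρ (g' := g) (h' := g⁻¹ * x * g) (by group), hm _ (by simpa using hconj g⁻¹ x hx)]
    have hvN : v ∈ N := by
      let H : Subgroup S :=
        { carrier := {g | ρ g v = v}
          one_mem' := by simp
          mul_mem' := fun {g h} (hg : ρ g v = v) (hh : ρ h v = v) => by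
            show ρ (g * h) v = v
            rw [← act, hh, hg]
          inv_mem' := fun {g} (hg : ρ g v = v) => by
            show ρ g⁻¹ v = v
            conv_lhs => rw [← hg]
            rw [act, inv_mul_cancel, map_one, Module.End.one_apply] }
      exact fun x hx => hAle H hva hvb hx
    rcases hirr N hN with h | h
    · rw [h] at hvN; exact hvN
    · exact absurd (hfaith (LinearMap.ext fun m => by
        rw [map_one, Module.End.one_apply]
        exact (h ▸ Submodule.mem_top : m ∈ N) a haA)) ha1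
  have hri : r * b⁻¹ = a * r := by
    rw [mul_inv_eq_iff_eq_mul, mul_assoc, hrb, mul_inv_cancel_left]
  have hrab : r * (a * b⁻¹) = b * a * r := by
    rw [← mul_assoc, hra, mul_assoc b r, hri, ← mul_assoc]
  -- some line has a fixed vector
  have hex : (∃ v, v ≠ 0 ∧ ρ a v = v) ∨ (∃ v, v ≠ 0 ∧ ρ (a * b⁻¹) v = v) := by
    obtain ⟨v, hv⟩ := exists_ne (0 : M)
    by_contra hcon
    push Not at hcon
    obtain ⟨hA1, hA2⟩ := hcon
    have z0 : ∀ g : S, g ^ 3 = 1 → (∀ u, u ≠ 0 → ρ g u ≠ u) → ρ g (ρ g v) = v + ρ g v := by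
      intro g hg hne
      have h0 : v + ρ g v + ρ g (ρ g v) = 0 := by
        by_contra h
        apply hne _ h
        rw [map_add, map_add, act ρ g g, act ρ g (g * g), show g * (g * g) = 1 from by rw [← hg]; simp [pow_succ, mul_assoc],
          map_one, Module.End.one_apply]
        abel
      calc ρ g (ρ g v) = ((v + ρ g v) + (v + ρ g v)) + ρ g (ρ g v) := by rw [add_self', zero_add]
        _ = (v + ρ g v) + (v + ρ g v + ρ g (ρ g v)) := by abel
        _ = _ := by rw [h0, add_zero]
    have hA3 : ∀ u, u ≠ 0 → ρ b u ≠ u := by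
      intro u hu h
      apply hA1 (ρ r⁻¹ u)
      · intro h0
        apply hu
        have := congrArg (ρ r) h0
        rwa [act, mul_inv_cancel, map_one, Module.End.one_apply, map_zero] at this
      · rw [swapped ρ (g' := r⁻¹) (h' := b) (by rw [hbdef]; group), h]
    have hA4 : ∀ u, u ≠ 0 → ρ (a * b) u ≠ u := by
      intro u hu h
      apply hA2 (ρ r⁻¹ u)
      · intro h0
        apply hu
        have := congrArg (ρ r) h0
        rwa [act, mul_inv_cancel, map_one, Module.End.one_apply, map_zero] at this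
      · rw [swapped ρ (g' := r⁻¹) (h' := a * b), h]
        rw [eq_inv_mul_iff_mul_eq, ← mul_assoc r, mul_inv_eq_iff_eq_mul, hrab, hcom _ haA _ hbA]
    have e1 := z0 a (h3 a haA) hA1
    have e2 := z0 b (h3 b hbA) hA3
    have e3 := z0 (a * b) (h3 _ (mul_mem haA hbA)) hA4
    have e4 := z0 (a * b⁻¹) (h3 _ (mul_mem haA (inv_mem hbA))) hA2
    apply hv
    have hSum : v = 0 := by
      have hbi : b⁻¹ = b * b := inv_eq_of_mul_eq_one_right (by rw [← h3 b hbA]; simp [pow_succ, mul_assoc])
      have hsum : ρ (a * a) v + ρ (b * b) v + ρ (a * a * (b * b)) v + ρ (a * a * b) v +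
          ρ a v + ρ b v + ρ (a * b) v + ρ (a * (b * b)) v + v = 0 := by
        apply hfix
        · simp only [map_add, act]
          rw [show a * (a * a) = 1 from by rw [← h3 a haA]; simp [pow_succ, mul_assoc],
            show a * (a * a * (b * b)) = b * b from by rw [← mul_assoc, show a * (a * a) = 1 from by rw [← h3 a haA]; simp [pow_succ, mul_assoc], one_mul],
            show a * (a * a * b) = b from by rw [← mul_assoc, show a * (a * a) = 1 from by rw [← h3 a haA]; simp [pow_succ, mul_assoc], one_mul],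
            ← mul_assoc a a b, ← mul_assoc a a (b * b), map_one, Module.End.one_apply]
          abel
        · have c : ∀ n, b * (a ^ n) = a ^ n * b := fun n => ((Commute.pow_left hab n).eq).symm
          simp only [map_add, act]
          rw [show b * a = a * b from hab.symm, show b * (a * a) = a * a * b from by rw [← pow_two]; exact c 2,
            show b * (b * b) = 1 from by rw [← h3 b hbA]; simp [pow_succ, mul_assoc],
            show b * (a * a * (b * b)) = a * a from by
              rw [← mul_assoc, ← pow_two, c 2, mul_assoc, show b * (b * b) = 1 from by rw [← h3 b hbA]; simp [pow_succ, mul_assoc], mul_one],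
            show b * (a * a * b) = a * a * (b * b) from by rw [← mul_assoc, ← pow_two a, c 2, mul_assoc],
            show b * (a * b) = a * (b * b) from by rw [← mul_assoc, ← hab, mul_assoc],
            show b * (a * (b * b)) = a from by
              rw [← mul_assoc, ← hab, mul_assoc, show b * (b * b) = 1 from by rw [← h3 b hbA]; simp [pow_succ, mul_assoc], mul_one],
            map_one, Module.End.one_apply]
          abel
      rw [act] at e1 e2 e3 e4
      rw [Commute.mul_mul_mul_comm (show Commute b a from hab.symm)] at e3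
      rw [hbi, Commute.mul_mul_mul_comm (show Commute (b * b) a from
          Commute.mul_left (hab.symm : Commute b a) (hab.symm : Commute b a)),
        show b * b * (b * b) = b from by
          rw [show b * b * (b * b) = b ^ 3 * b by simp [pow_succ, mul_assoc], h3 b hbA, one_mul]] at e4
      rw [e1, e2, e3, e4] at hsum
      have h2 := fun u : M => add_self' u
      calc v = (v + v) + (v + v) + (ρ a v + ρ a v) + (ρ b v + ρ b v) + (ρ (a * b) v + ρ (a * b) v) +
          (ρ (a * (b * b)) v + ρ (a * (b * b)) v) + v := by simp only [h2, zero_add]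
        _ = _ := by rw [← hsum]; abel
    exact hSum
  have hBmap : ∀ i, (∀ x ∈ (klein i).map ι, x ^ 2 = 1) ∧ Nat.card ((klein i).map ι) = 4 ∧ (klein i).map ι ≤ X := by
    intro i
    refine ⟨?_, by rw [Subgroup.card_map_of_injective hι, klein_card], ?_⟩
    · rintro _ ⟨d, hd, rfl⟩
      have dec : ∀ i : ZMod 4, ∀ d : DihedralGroup 4, (d = 1 ∨ d = DihedralGroup.r 2 ∨ d = DihedralGroup.sr i ∨ d = DihedralGroup.sr (i + 2)) → d ^ 2 = 1 := by decide
      rw [← map_pow, dec i d hd, map_one]
    · rintro _ ⟨d, _, rfl⟩; exact (e.symm d).2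
  -- fixed points of the Klein subgroups
  have hBfix : ∀ i v, (∀ x ∈ (klein i).map ι, ρ x v = v) ↔ ρ z v = v ∧ ρ (ι (DihedralGroup.sr i)) v = v := by
    intro i v
    constructor
    · intro h
      exact ⟨by rw [hz]; exact h _ ⟨_, Or.inr (Or.inl rfl), rfl⟩, h _ ⟨_, Or.inr (Or.inr (Or.inl rfl)), rfl⟩⟩
    · rintro ⟨h1, h2⟩ _ ⟨d, hd, rfl⟩
      rw [hz] at h1
      rcases hd with rfl | rfl | rfl | rfl
      · simp
      · exact h1
      · exact h2
      · rw [show DihedralGroup.sr (i + 2) = DihedralGroup.sr i * DihedralGroup.r 2 from (DihedralGroup.sr_mul_r _ _).symm,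
          map_mul, ← act, h1, h2]
  have hgen : ∀ a' b' s' : S, a ∈ Subgroup.closure ({a', b', r, s'} : Set S) → b ∈ Subgroup.closure ({a', b', r, s'} : Set S) →
      s ∈ Subgroup.closure ({a', b', r, s'} : Set S) → Subgroup.closure ({a', b', r, s'} : Set S) = ⊤ := by
    intro a' b' s' h1 h2 h4
    rw [eq_top_iff, ← hAX]
    exact sup_le (hAle _ h1 h2) (hXle _ (Subgroup.subset_closure (by simp)) h4)
  -- conclusion from a good labelling
  suffices h : Nat.card M = 16 ∧ ∃ i : ZMod 4,
      Nat.card {v : M // ρ z v = v ∧ ρ (ι (DihedralGroup.sr i)) v = v} = 2 ∧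
      ∃ v₁ v₂ : M, v₁ ≠ v₂ ∧ v₁ ≠ 0 ∧ v₂ ≠ 0 ∧ ρ z v₁ = v₁ ∧ ρ (ι (DihedralGroup.sr (i + 1))) v₁ = v₁ ∧
        ρ z v₂ = v₂ ∧ ρ (ι (DihedralGroup.sr (i + 1))) v₂ = v₂ by
    obtain ⟨h16, i, hi, v₁, v₂, n12, n1, n2, p1, p2, p3, p4⟩ := h
    refine ⟨h16, (klein i).map ι, ⟨(hBmap i).2.2, (hBmap i).2.1, (hBmap i).1, ?_⟩, ?_⟩
    · exact (Nat.card_congr (Equiv.subtypeEquivRight fun v => hBfix i v)).trans hi
    · rintro B ⟨hBX, hB4, hB2, hBc⟩
      have hBr : B ≤ ι.range := fun x hx => hιX x (hBX hx)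
      have hBe : (B.comap ι).map ι = B := Subgroup.map_comap_eq_self hBr
      obtain ⟨k, hk⟩ := four_eq_klein (B.comap ι)
        ((Subgroup.card_map_of_injective (K := B.comap ι) hι).symm.trans (by rw [hBe]; exact hB4))
        (fun d hd => hι (by rw [map_pow, map_one]; exact hB2 _ hd))
      rw [hk] at hBe
      subst hBe
      have dec : ∀ i k : ZMod 4, k = i ∨ k = i + 2 ∨ k = i + 1 ∨ k = i + 3 := by decide
      have hsame : ∀ j : ZMod 4, klein (j + 2) = klein j := by
        intro j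
        have dec' : ∀ (j : ZMod 4) (d : DihedralGroup 4),
            (d = 1 ∨ d = DihedralGroup.r 2 ∨ d = DihedralGroup.sr (j + 2) ∨ d = DihedralGroup.sr (j + 2 + 2)) ↔
            (d = 1 ∨ d = DihedralGroup.r 2 ∨ d = DihedralGroup.sr j ∨ d = DihedralGroup.sr (j + 2)) := by decide
        exact Subgroup.ext fun d => dec' j d
      have hbad : k = i + 1 ∨ k = i + 3 → False := by
        intro hk'
        have hk2 : klein k = klein (i + 1) := by
          rcases hk' with rfl | rfl
          · rfl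
          · rw [show i + 3 = i + 1 + 2 from by ring, hsame]
        rw [hk2] at hBc
        have hf : ∀ v, (∀ x ∈ (klein (i + 1)).map ι, ρ x v = v) ↔ _ := hBfix (i + 1)
        rw [Nat.card_congr (Equiv.subtypeEquivRight hf)] at hBc
        let f : Fin 3 → {v : M // ρ z v = v ∧ ρ (ι (DihedralGroup.sr (i + 1))) v = v} :=
          ![⟨0, map_zero _, map_zero _⟩, ⟨v₁, p1, p2⟩, ⟨v₂, p3, p4⟩]
        have hf3 : Function.Injective f := by
          intro x y hxy
          fin_cases x <;> fin_cases y <;> simp [f] at hxy ⊢ <;>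
            first | exact n1 hxy | exact n1 hxy.symm | exact n2 hxy | exact n2 hxy.symm | exact n12 hxy | exact n12 hxy.symm
        have := Nat.card_le_card_of_injective f hf3
        rw [Nat.card_fin, hBc] at this
        omega
      rcases dec i k with rfl | rfl | hk' | hk'
      · rfl
      · rw [hsame]
      · exact (hbad (Or.inl hk')).elim
      · exact (hbad (Or.inr hk')).elim
  have hsrk : ∀ k : ZMod 4, ι (DihedralGroup.sr k) * r = ι (DihedralGroup.sr (k + 1)) := by
    intro k; rw [hrdef, ← map_mul, DihedralGroup.sr_mul_r]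
  rcases hex with hv | hv
  · obtain ⟨h16, ⟨v₁, v₂, n12, n1, n2, p1, p2, p3, p4⟩, hc⟩ :=
      key ρ a b r s (h3 a haA) (h3 b hbA) hab hra hrb hsa hsb hr hs hsr
        (hgen a b s (Subgroup.subset_closure (by simp)) (Subgroup.subset_closure (by simp)) (Subgroup.subset_closure (by simp)))
        hirr hfix hv
    rw [← hzdef] at p1 p3 hc
    rw [hsdef] at p2 p4 hc
    refine ⟨h16, 1, ?_, v₁, v₂, n12, n1, n2, p1, ?_, p3, ?_⟩
    · rw [show (1 : ZMod 4) = 0 + 1 from by decide, ← hsrk]; exact hc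
    · rw [show DihedralGroup.sr ((1 : ZMod 4) + 1) = DihedralGroup.sr 0 * DihedralGroup.r 2 from by decide, map_mul, ← hz, ← act, p1, p2]
    · rw [show DihedralGroup.sr ((1 : ZMod 4) + 1) = DihedralGroup.sr 0 * DihedralGroup.r 2 from by decide, map_mul, ← hz, ← act, p3, p4]
  · set a' := a * b⁻¹ with ha'
    set b' := b * a with hb'
    have ha'A : a' ∈ A := mul_mem haA (inv_mem hbA)
    have hb'A : b' ∈ A := mul_mem hbA haA
    have hrb' : r * b' = a'⁻¹ * r := by
      rw [ha', hb', ← mul_assoc, hrb, mul_assoc, hra, ← mul_assoc, mul_inv_rev, inv_inv,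
        hcom _ hbA _ (inv_mem haA)]
    have hs' : ι (DihedralGroup.sr 1) = s * r := by
      rw [hsrk, zero_add]
    have hsbi : s * b⁻¹ = b * s := by
      rw [mul_inv_eq_iff_eq_mul, mul_assoc, hsb, mul_inv_cancel_left]
    have hsa' : s * r * a' = a' * (s * r) := by
      rw [mul_assoc, hrab, ← mul_assoc, ← mul_assoc s b a, hsb, mul_assoc b⁻¹ s a, hsa, ← mul_assoc,
        ha', hcom _ (inv_mem hbA) _ haA, mul_assoc]
    have hsb' : s * r * b' = b'⁻¹ * (s * r) := by
      have h1 : a'⁻¹ = a⁻¹ * b := by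
        rw [ha', mul_inv_rev, inv_inv, hcom _ hbA _ (inv_mem haA)]
      calc s * r * b' = s * (r * b') := mul_assoc _ _ _
        _ = s * a'⁻¹ * r := by rw [hrb', ← mul_assoc]
        _ = a⁻¹ * b⁻¹ * s * r := by
          rw [h1, ← mul_assoc s, show s * a⁻¹ = a⁻¹ * s from (Commute.inv_right (a := s) (b := a) hsa).eq,
            mul_assoc a⁻¹ s b, hsb, ← mul_assoc]
        _ = _ := by rw [hb', mul_inv_rev, mul_assoc]
    have hsrs : s * r * (s * r) = 1 := by
      rw [← mul_assoc, hsr, inv_mul_cancel]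
    have hsrr : s * r * r * (s * r) = r⁻¹ := by
      rw [← hs', hrdef, ← map_mul, ← map_mul, ← map_inv]; exact congrArg ι (by decide)
    have haH : a ∈ Subgroup.closure ({a', b', r, s * r} : Set S) := by
      have h1 : (a' * b') ^ 2 = a := by
        rw [ha', hb', show a * b⁻¹ * (b * a) = a ^ 2 by simp [pow_two, mul_assoc], ← pow_mul,
          show (2 * 2 : ℕ) = 3 + 1 from rfl, pow_succ, h3 a haA, one_mul]
      exact (congrArg (· ∈ Subgroup.closure ({a', b', r, s * r} : Set S)) h1).mp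
        (pow_mem (mul_mem (Subgroup.subset_closure (by simp)) (Subgroup.subset_closure (by simp))) 2)
    have hfix' : ∀ v, ρ a' v = v → ρ b' v = v → v = 0 := by
      intro v h1 h2
      have ha2 : ρ (a * a) v = v := by
        rw [show a * a = a' * b' by rw [ha', hb']; simp [mul_assoc], ← act, h2, h1]
      have hav : ρ a v = v := by
        rw [show a = (a * a) * (a * a) by rw [show a * a * (a * a) = a ^ 3 * a by simp [pow_succ, mul_assoc], h3 a haA, one_mul],
          ← act, ha2, ha2]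
      apply hfix v hav
      calc ρ b v = ρ b (ρ a v) := by rw [hav]
        _ = v := by rw [act]; exact h2
    obtain ⟨h16, ⟨v₁, v₂, n12, n1, n2, p1, p2, p3, p4⟩, hc⟩ :=
      key ρ a' b' r (s * r) (h3 a' ha'A) (h3 b' hb'A) (hcom _ ha'A _ hb'A) hrab hrb' hsa' hsb' hr hsrs hsrr
        (hgen a' b' (s * r) haH (by
            rw [show b = b' * a⁻¹ by rw [hb']; group]
            exact mul_mem (Subgroup.subset_closure (by simp)) (inv_mem haH)) (by
            rw [show s = s * r * r⁻¹ by group]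
            exact mul_mem (Subgroup.subset_closure (by simp)) (inv_mem (Subgroup.subset_closure (by simp)))))
        hirr hfix' hv
    rw [← hzdef] at p1 p3 hc
    refine ⟨h16, 2, ?_, v₁, v₂, n12, n1, n2, p1, ?_, p3, ?_⟩
    · rw [show (2 : ZMod 4) = 1 + 1 from by decide, ← hsrk, hs']; exact hc
    · rw [show DihedralGroup.sr ((2 : ZMod 4) + 1) = DihedralGroup.sr 1 * DihedralGroup.r 2 from by decide, map_mul, ← hz, ← act, p1, hs', p2]
    · rw [show DihedralGroup.sr ((2 : ZMod 4) + 1) = DihedralGroup.sr 1 * DihedralGroup.r 2 from by decide, map_mul, ← hz, ← act, p3, hs', p4]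

end Cfsg.Agent.S4407
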