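import Cfsg.Statements.S4409
import Cfsg.Agent.Solvable.LackEight
import Cfsg.Agent.Solvable.Fitting
import Cfsg.Agent.Solvable.Hall
import Cfsg.Agent.AutFrattini.Basic
import Cfsg.Agent.Unitary.ThreeTwo
import Cfsg.Agent.FGSA.Extraspecial

set_option autoImplicit false
set_option linter.style.haveILetI false
open Cfsg Subgroup CfsgLib

namespace Cfsg.Agent.S4409

universe u

private theorem lack_map {S : Type u} [Group S] {H : Subgroup S} {K : Subgroup H}
    (h : LackEight.Lack (K.map H.subtype)) : LackEight.Lack K := by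
  intro B hB hBc hB8
  haveI := hBc
  let e := B.equivMapOfInjective H.subtype H.subtype_injective
  have hcomm : IsMulCommutative ↥(B.map H.subtype) := ⟨⟨fun a b => by
    apply e.symm.injective
    rw [map_mul, map_mul]; exact hBc.is_comm.comm _ _⟩⟩
  haveI := h _ (map_mono hB) hcomm (by rw [card_map_of_injective H.subtype_injective, hB8])
  exact isCyclic_of_surjective e.symm e.symm.surjective

/-- An automorphism group bound: the index of the centralizer of a small normal 2-group. -/
private theorem index_centralizer_dvd {S : Type u} [Group S] [Finite S] (P : Subgroup S) [P.Normal]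
    {n : ℕ} (hP : Nat.card P = 2 ^ n) (hr : (frattini P).index = 2 ^ 2) :
    (centralizer (P : Set S)).index ∣ 2 ^ (2 * (n - 2)) * 6 := by
  have hker : (MulAut.conjNormal : S →* MulAut P).ker = centralizer (P : Set S) := by
    ext x
    rw [MonoidHom.mem_ker, mem_centralizer_iff]
    constructor
    · intro h m hm
      have := congrArg (fun φ : MulAut P => ((φ ⟨m, hm⟩ : P) : S)) h
      simp only [MulAut.conjNormal_apply, MulAut.one_apply] at this
      exact (mul_inv_eq_iff_eq_mul.1 this).symm
    · intro h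
      ext m
      simp only [MulAut.conjNormal_apply, MulAut.one_apply]
      rw [← h m m.2, mul_inv_cancel_right]
  rw [← hker, index_ker]
  refine (card_subgroup_dvd_card _).trans ?_
  haveI : Fact (Nat.Prime 2) := ⟨Nat.prime_two⟩
  simpa [Finset.prod_range_succ] using AutFrattini.card_mulAut_dvd hP hr

private theorem index_frattini_eq_four {P : Type u} [Group P] [Finite P] (hP : IsPGroup 2 P)
    {W : Subgroup P} [W.Normal] (hW : W.index = 4) (hWF : W ≤ frattini P)
    (hsq : ∀ y : P, y * y ∈ W) : (frattini P).index = 2 ^ 2 := by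
  haveI : Fact (Nat.Prime 2) := ⟨Nat.prime_two⟩
  have hcomm : _root_.commutator P ≤ W := by
    refine Normal.quotient_commutative_iff_commutator_le.1 ⟨⟨fun a b => ?_⟩⟩
    have h2 : ∀ q : P ⧸ W, q * q = 1 := fun q => QuotientGroup.induction_on q fun y =>
      (QuotientGroup.eq_one_iff (y * y)).2 (hsq y)
    calc a * b = a * ((a * b) * (a * b)) * b := by rw [h2, mul_one]
      _ = (a * a) * (b * a) * (b * b) := by group
      _ = _ := by rw [h2, h2, one_mul, mul_one]
  rw [le_antisymm (PGroupBasic.frattini_le_of_elementary (p := 2) W hcomm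
    fun y => by rw [pow_two]; exact hsq y) hWF, hW]
  norm_num

/-- A group with selfcentralizing four or quaternion core has no abelian subgroup of order eight. -/
private theorem not_fourCore {S : Type u} [Group S] [Finite S] {P A : Subgroup S} [P.Normal]
    (hC : centralizer (P : Set S) ≤ P) (hP : LackEight.IsFour P ∨ LackEight.IsQEight P)
    (hAc : IsMulCommutative A) (hA : ¬ IsCyclic A) (hA8 : Nat.card A = 8) : False := by
  haveI : Fact (Nat.Prime 2) := ⟨Nat.prime_two⟩
  have hcomm : ∀ a ∈ A, ∀ b ∈ A, a * b = b * a := fun a ha b hb =>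
    congrArg Subtype.val (hAc.is_comm.comm ⟨a, ha⟩ ⟨b, hb⟩)
  have hAN : A ≤ normalizer (P : Set S) := le_normalizer_of_normal
  have hSdvd : Nat.card S = Nat.card (centralizer (P : Set S)) *
      (centralizer (P : Set S)).index := (card_mul_index _).symm
  have hsup := Solvable.card_sup_mul_card_inf hAN
  have hP2 : IsPGroup 2 P := by
    rcases hP with h | h
    · exact IsPGroup.of_card (p := 2) (n := 2) (by rw [h.1]; norm_num)
    · exact IsPGroup.of_card (p := 2) (n := 3) (by rw [h.1]; norm_num)
  have hA2 : IsPGroup 2 A := IsPGroup.of_card (p := 2) (n := 3) (by rw [hA8]; norm_num)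
  obtain ⟨e, he⟩ := IsPGroup.iff_card.1 (hA2.to_sup_of_normal_right hP2)
  rcases hP with h | h
  · -- a four group
    have hPc : ∀ a b : P, a * b = b * a := fun a b => by
      calc a * b = a * ((a * b) * (a * b)) * b := by rw [h.2, mul_one]
        _ = (a * a) * (b * a) * (b * b) := by group
        _ = _ := by rw [h.2, h.2, one_mul, mul_one]
    have hPC : P ≤ centralizer (P : Set S) := fun a ha => mem_centralizer_iff.2 fun b hb =>
      congrArg Subtype.val (hPc ⟨b, hb⟩ ⟨a, ha⟩)
    have hnc : ¬ IsCyclic P := LackEight.not_isCyclic_of_exponent (e := 2) (by norm_num)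
      (by rw [h.1]; norm_num) fun y => by rw [pow_two]; exact h.2 y
    have hr := index_frattini_eq_four hP2 (W := (⊥ : Subgroup P)) (by rw [index_bot, h.1]) bot_le
      (fun y => by rw [mem_bot]; exact h.2 y)
    have hd : Nat.card S ∣ 24 := by
      have := index_centralizer_dvd P (n := 2) (by rw [h.1]; norm_num) hr
      rw [hSdvd, le_antisymm hC hPC, h.1]
      rw [le_antisymm hC hPC] at this
      exact (Nat.mul_dvd_mul_left 4 (this.trans (dvd_refl _))).trans (by norm_num)
    have h8 : 2 ^ e ∣ 8 := by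
      have : 2 ^ e ∣ 24 := he ▸ (card_subgroup_dvd_card _).trans hd
      exact (Nat.Coprime.pow_left e (by norm_num : Nat.Coprime 2 3)).dvd_of_dvd_mul_right
        (show 2 ^ e ∣ 8 * 3 from this)
    have hle : A ⊔ P = A := (Solvable.eq_of_le_of_card_le le_sup_left (by
      rw [he, hA8]; exact Nat.le_of_dvd (by norm_num) h8)).symm
    have hPA : P ≤ A := hle ▸ le_sup_right
    have hAP : A ≤ P := fun a ha => hC (mem_centralizer_iff.2 fun b hb => hcomm b (hPA hb) a ha)
    have := card_le_of_le hAP
    rw [hA8, h.1] at this; omega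
  · -- a quaternion group
    obtain ⟨z, i0, j0, hzP, hi0P, hj0P, hz1, hz2, hi0, hij0, huniq, hgen0⟩ :=
      LackEight.qEight_data h
    have hij : i0 * j0 ≠ j0 * i0 := hij0
    have h4 : ∀ y ∈ P, y * y * (y * y) = 1 := fun y hy => by
      have := congrArg Subtype.val (LackEight.isPGroup_orderOf h.1 (⟨y, hy⟩ : P) fun hc =>
        hij (congrArg Subtype.val (hc.commGroup.mul_comm ⟨i0, hi0P⟩ ⟨j0, hj0P⟩)))
      rw [LackEight.pow_four'] at this; exact this
    have hsqz : ∀ y ∈ P, y * y = 1 ∨ y * y = z := fun y hy => huniq _ (mul_mem hy hy) (h4 y hy)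
    have hCZ : Nat.card (centralizer (P : Set S)) ∣ 2 := by
      have hle : centralizer (P : Set S) ≤ zpowers z := fun c hc => by
        have hcP := hC hc
        rcases hsqz c hcP with h1 | h1
        · rcases huniq c hcP h1 with rfl | rfl <;> simp
        · exfalso
          have hci : i0 * c = c * i0 := mem_centralizer_iff.1 hc i0 hi0P
          have hcj : j0 * c = c * j0 := mem_centralizer_iff.1 hc j0 hj0P
          have hsq : (i0 * c) * (i0 * c) = 1 := by
            calc (i0 * c) * (i0 * c) = i0 * (c * i0) * c := by group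
              _ = (i0 * i0) * (c * c) := by rw [← hci]; group
              _ = 1 := by rw [hi0, h1, hz2]
          have hzc : z * j0 = j0 * z := by
            rw [← h1, mul_assoc, ← hcj, ← mul_assoc, ← hcj, mul_assoc]
          rcases huniq _ (mul_mem hi0P hcP) hsq with e' | e'
          · have : i0 = c⁻¹ := eq_inv_of_mul_eq_one_left e'
            exact hij (by rw [this]; exact (Commute.inv_left (show Commute c j0 from hcj.symm)).eq)
          · have : i0 = z * c⁻¹ := eq_mul_inv_of_mul_eq e'
            exact hij (by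
              rw [this]
              exact ((show Commute z j0 from hzc).mul_left
                (Commute.inv_left (show Commute c j0 from hcj.symm))).eq)
      refine (card_dvd_of_le hle).trans ?_
      rw [Nat.card_zpowers]
      exact orderOf_dvd_of_pow_eq_one (by rw [pow_two, hz2])
    have hnc : ¬ IsCyclic P := fun hc =>
      hij (congrArg Subtype.val (hc.commGroup.mul_comm ⟨i0, hi0P⟩ ⟨j0, hj0P⟩))
    have hzc : ∀ g : P, g * ⟨z, hzP⟩ * g⁻¹ = ⟨z, hzP⟩ := fun g => by
      refine (huniq _ (mul_mem (mul_mem g.2 hzP) (inv_mem g.2)) ?_).elim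
        (fun e' => absurd (by simpa using e') hz1) fun e' => Subtype.ext e'
      calc (g : S) * z * (g : S)⁻¹ * ((g : S) * z * (g : S)⁻¹) = g * (z * z) * (g : S)⁻¹ := by group
        _ = 1 := by rw [hz2, mul_one, mul_inv_cancel]
    haveI : (zpowers (⟨z, hzP⟩ : P)).Normal := ⟨fun w hw g => by
      obtain ⟨k, rfl⟩ := mem_zpowers_iff.1 hw
      rw [← conj_zpow, hzc]; exact zpow_mem (mem_zpowers _) k⟩
    have hr := index_frattini_eq_four hP2 (W := zpowers (⟨z, hzP⟩ : P)) (by
      have := (zpowers (⟨z, hzP⟩ : P)).card_mul_index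
      rw [Nat.card_zpowers, h.1, orderOf_eq_prime (p := 2) (by
        rw [pow_two]; exact Subtype.ext hz2) fun e' => hz1 (congrArg Subtype.val e')] at this
      omega) (zpowers_le.2 (by
        have h2 := (PGroupBasic.commutator_pow_le_frattini hP2).2 ⟨i0, hi0P⟩
        rwa [pow_two, show (⟨i0, hi0P⟩ : P) * ⟨i0, hi0P⟩ = ⟨z, hzP⟩ from Subtype.ext hi0] at h2))
      (fun y => by
        rcases hsqz y y.2 with e' | e'
        · rw [show y * y = 1 from Subtype.ext e']; exact one_mem _
        · rw [show y * y = ⟨z, hzP⟩ from Subtype.ext e']; exact mem_zpowers _)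
    have hd : Nat.card S ∣ 48 := by
      rw [hSdvd]
      exact (mul_dvd_mul hCZ ((index_centralizer_dvd P (n := 3) (by rw [h.1]; norm_num) hr))).trans
        (by norm_num)
    have h16 : 2 ^ e ∣ 16 := by
      have : 2 ^ e ∣ 48 := he ▸ (card_subgroup_dvd_card _).trans hd
      exact (Nat.Coprime.pow_left e (by norm_num : Nat.Coprime 2 3)).dvd_of_dvd_mul_right
        (show 2 ^ e ∣ 16 * 3 from this)
    rw [he, hA8, h.1] at hsup
    have hI4 : 4 ≤ Nat.card ↥(A ⊓ P) := by
      have := Nat.le_of_dvd (by norm_num) h16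
      nlinarith [Nat.card_pos (α := ↥(A ⊓ P))]
    have hIne : A ⊓ P ≠ P := fun e' => by
      have hPA : P ≤ A := e' ▸ inf_le_left
      exact hij (hcomm _ (hPA hi0P) _ (hPA hj0P))
    -- an element of order four common to A and P
    obtain ⟨i, hi, hiz⟩ : ∃ i ∈ A ⊓ P, i * i = z := by
      by_contra hno
      push Not at hno
      have hsub : A ⊓ P ≤ zpowers z := fun w hw => by
        rcases huniq w hw.2 ((hsqz w hw.2).resolve_right (hno w hw)) with rfl | rfl <;> simp
      have := card_le_of_le hsub
      rw [Nat.card_zpowers] at this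
      have := Nat.le_of_dvd two_pos (orderOf_dvd_of_pow_eq_one (by rw [pow_two, hz2] : z ^ 2 = 1))
      omega
    -- an outside involution in A
    obtain ⟨t, htA, htP, ht⟩ : ∃ t ∈ A, t ∉ P ∧ t * t = 1 := by
      obtain ⟨b, hbA, hbP⟩ : ∃ b ∈ A, b ∉ P := by
        by_contra hno
        push Not at hno
        exact hIne (inf_eq_right.2 (Solvable.eq_of_le_of_card_le hno (by rw [h.1, hA8])).ge)
      have hord : ∀ a ∈ A, a * a * (a * a) = 1 := fun a ha => by
        have := congrArg Subtype.val (LackEight.isPGroup_orderOf hA8 (⟨a, ha⟩ : A) hA)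
        rw [LackEight.pow_four'] at this; exact this
      have hbb : b * b ∈ A ⊓ P := by
        refine ⟨mul_mem hbA hbA, ?_⟩
        by_contra hbbP
        have hq : ∀ (w : A), w ^ ((A ⊓ P).relIndex A) ∈ (A ⊓ P).subgroupOf A := fun w => by
          haveI : ((A ⊓ P).subgroupOf A).Normal :=
            ⟨fun n hn g => by rwa [hAc.is_comm.comm g n, mul_inv_cancel_right]⟩
          exact pow_index_mem _ w
        have hidx : (A ⊓ P).relIndex A ∣ 2 := by
          have h1 := relIndex_mul_relIndex ⊥ (A ⊓ P) A bot_le inf_le_left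
          rw [relIndex_bot_left, relIndex_bot_left, hA8] at h1
          obtain ⟨m, hm⟩ := IsPGroup.iff_card.1 (hA2.to_le (inf_le_left : A ⊓ P ≤ A))
          rw [hm] at h1 hI4
          have hm2 : 2 ≤ m := by
            by_contra hh
            have := Nat.pow_le_pow_right two_pos (show m ≤ 1 by omega)
            omega
          have h4d : 4 ∣ 2 ^ m := pow_dvd_pow 2 hm2
          obtain ⟨c, hc⟩ := h4d
          rw [hc] at h1
          exact ⟨c, by nlinarith⟩
        obtain ⟨c, hc⟩ := hidx
        have h1 := pow_mem (hq ⟨b, hbA⟩) c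
        rw [← pow_mul, ← hc, mem_subgroupOf] at h1
        exact hbbP (by simpa [pow_two] using h1.2)
      have hbi : b * i = i * b := hcomm _ hbA _ hi.1
      have hb2 : b * b * (b * b) = 1 := hord b hbA
      rcases huniq _ hbb.2 hb2 with e' | e'
      · exact ⟨b, hbA, hbP, e'⟩
      · refine ⟨b * i, mul_mem hbA hi.1, fun hh => hbP (by simpa using mul_mem hh (inv_mem hi.2)), ?_⟩
        calc b * i * (b * i) = b * (i * b) * i := by group
          _ = (b * b) * (i * i) := by rw [← hbi]; group
          _ = 1 := by rw [e', hiz, hz2]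
    have hti : t * i = i * t := hcomm _ htA _ hi.1
    have hiI : zpowers i ≤ P := by simpa using hi.2
    have hio : Nat.card (zpowers i) = 4 := by
      rw [Nat.card_zpowers]
      exact orderOf_eq_prime_pow (p := 2) (n := 1)
        (by rw [pow_one, pow_two, hiz]; exact hz1)
        (by rw [show 2 ^ (1 + 1) = 4 by norm_num, LackEight.pow_four', hiz, hz2])
    obtain ⟨j, hjP, hjI⟩ : ∃ j ∈ P, j ∉ zpowers i := by
      by_contra hno
      push Not at hno
      have := card_le_of_le (show P ≤ zpowers i from hno)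
      rw [h.1, hio] at this; omega
    have hgen : zpowers i ⊔ zpowers j = P := by
      refine Solvable.eq_of_le_of_card_le (sup_le hiI (by simpa using hjP)) ?_
      have hlt := Solvable.card_lt_of_lt (lt_of_le_of_ne
        (le_sup_left : zpowers i ≤ zpowers i ⊔ zpowers j) fun e' => hjI (e' ▸ mem_sup_right (mem_zpowers j)))
      have hd' : Nat.card ↥(zpowers i ⊔ zpowers j) ∣ 8 :=
        h.1 ▸ card_dvd_of_le (sup_le hiI (by simpa using hjP))
      rw [hio] at hlt
      rw [h.1]
      have := Nat.le_of_dvd (by norm_num) hd'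
      generalize Nat.card ↥(zpowers i ⊔ zpowers j) = m at *
      interval_cases m <;> omega
    -- i and j anticommute
    have hidx : ((zpowers i).subgroupOf P).index = 2 := by
      have h1 := relIndex_mul_relIndex ⊥ (zpowers i) P bot_le hiI
      rw [relIndex_bot_left, relIndex_bot_left, hio, h.1] at h1
      show (zpowers i).relIndex P = 2
      omega
    have hcen : ∀ g : S, g * i = i * g → g * j = j * g → g ∈ centralizer (P : Set S) :=
      fun g h1 h2 => mem_centralizer_iff.2 fun w hw => by
        have : zpowers i ⊔ zpowers j ≤ centralizer {g} :=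
          sup_le (zpowers_le.2 (mem_centralizer_singleton_iff.2 h1.symm))
            (zpowers_le.2 (mem_centralizer_singleton_iff.2 h2.symm))
        exact mem_centralizer_singleton_iff.1 (this (hgen.symm ▸ hw))
    have hji : i * j * i⁻¹ = j * z := by
      have hne : i * j ≠ j * i := fun hcm => by
        have hle : P ≤ centralizer (P : Set S) := hgen ▸ sup_le
          (zpowers_le.2 (hgen.symm ▸ hcen i rfl hcm))
          (zpowers_le.2 (hgen.symm ▸ hcen j hcm.symm rfl))
        have := Nat.le_of_dvd two_pos ((card_dvd_of_le hle).trans hCZ)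
        rw [h.1] at this; omega
      have hu : i * j * i⁻¹ * j⁻¹ ∈ P := mul_mem (mul_mem (mul_mem hi.2 hjP) (inv_mem hi.2)) (inv_mem hjP)
      have hZ : _root_.commutator P ≤ zpowers (⟨z, hzP⟩ : P) := by
        refine Normal.quotient_commutative_iff_commutator_le.1 ⟨⟨fun a b => ?_⟩⟩
        have h2 : ∀ q : P ⧸ zpowers (⟨z, hzP⟩ : P), q * q = 1 := fun q =>
          QuotientGroup.induction_on q fun y => (QuotientGroup.eq_one_iff (y * y)).2 (by
            rcases hsqz y y.2 with e' | e'
            · rw [show y * y = 1 from Subtype.ext e']; exact one_mem _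
            · rw [show y * y = ⟨z, hzP⟩ from Subtype.ext e']; exact mem_zpowers _)
        calc a * b = a * ((a * b) * (a * b)) * b := by rw [h2, mul_one]
          _ = (a * a) * (b * a) * (b * b) := by group
          _ = _ := by rw [h2, h2, one_mul, mul_one]
      obtain ⟨k, hk⟩ := mem_zpowers_iff.1 (hZ (commutator_mem_commutator
        (mem_top (⟨i, hi.2⟩ : P)) (mem_top (⟨j, hjP⟩ : P))))
      have hk' : z ^ k = i * j * i⁻¹ * j⁻¹ := congrArg Subtype.val hk
      have hzj : Commute z j := by
        have := congrArg Subtype.val (hzc ⟨j, hjP⟩)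
        exact (mul_inv_eq_iff_eq_mul.1 (show j * z * j⁻¹ = z from this)).symm
      rcases Int.even_or_odd' k with ⟨l, rfl | rfl⟩
      · rw [zpow_mul, zpow_two, hz2, one_zpow] at hk'
        exact absurd (mul_inv_eq_iff_eq_mul.1 (mul_inv_eq_one.1 hk'.symm)) hne
      · rw [zpow_add, zpow_mul, zpow_two, hz2, one_zpow, one_mul, zpow_one] at hk'
        rw [← hzj.eq, hk', inv_mul_cancel_right]
    have htn : t⁻¹ = t := inv_eq_of_mul_eq_one_right ht
    have hconj : ∀ w ∈ P, t * w * t ∈ P := fun w hw => by
      have := ‹P.Normal›.conj_mem w hw t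
      rwa [htn] at this
    have hfix : t * i * t = i := by rw [hti, mul_assoc, ht, mul_one]
    set u := t * j * t with hu
    have huP : u ∈ P := hconj j hjP
    have huI : u ∉ zpowers i := fun hmem => hjI (by
      obtain ⟨k, hk⟩ := mem_zpowers_iff.1 hmem
      refine ⟨k, ?_⟩
      have hck : Commute t (i ^ k) := (show Commute t i from hti).zpow_right k
      calc i ^ k = i ^ k * (t * t) := by rw [ht, mul_one]
        _ = t * (i ^ k) * t := by rw [← mul_assoc, ← hck.eq]
        _ = t * t * j * (t * t) := by rw [hk, hu]; group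
        _ = j := by rw [ht, one_mul, mul_one])
    have hju : j⁻¹ * u ∈ zpowers i := by
      have := (mul_mem_iff_of_index_two hidx (a := (⟨j⁻¹, inv_mem hjP⟩ : P)) (b := ⟨u, huP⟩))
      rw [mem_subgroupOf, mem_subgroupOf, mem_subgroupOf] at this
      exact this.2 (iff_of_false (fun hh => hjI (by simpa using inv_mem hh)) huI)
    obtain ⟨k, hk⟩ := mem_zpowers_iff.1 hju
    have huu : u = j * i ^ k := by rw [hk, mul_inv_cancel_left]
    have hback : t * u * t = j := by rw [hu]; calc _ = t * t * j * (t * t) := by group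
      _ = j := by rw [ht, one_mul, mul_one]
    have hk2 : i ^ k * i ^ k = 1 := by
      have hck : Commute t (i ^ k) := (show Commute t i from hti).zpow_right k
      have : j * i ^ k * i ^ k = j := by
        calc j * i ^ k * i ^ k = u * i ^ k := by rw [huu]
          _ = t * (j * i ^ k) * t := by
            rw [hu]
            calc t * j * t * i ^ k = t * j * (t * i ^ k) := by group
              _ = _ := by rw [hck.eq]; group
          _ = j := by rw [← huu]; exact hback
      rwa [mul_assoc, mul_eq_left] at this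
    rcases huniq _ (P.zpow_mem hi.2 k) hk2 with e' | e'
    · rw [e', mul_one] at huu
      refine htP (hC (hcen t hti ?_))
      calc t * j = t * j * (t * t) := by rw [ht, mul_one]
        _ = u * t := by rw [hu]; group
        _ = j * t := by rw [huu]
    · rw [e'] at huu
      suffices hcm : t * i ∈ P from htP (by simpa using mul_mem hcm (P.inv_mem hi.2))
      refine hC (hcen (t * i) (by rw [← mul_assoc i, ← hti]) ?_)
      calc t * i * j = t * (i * j * i⁻¹) * i := by group
        _ = t * (j * z) * (t * t) * i := by rw [hji, ht, mul_one]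
        _ = t * u * t * (t * i) := by rw [huu]; group
        _ = j * (t * i) := by rw [hback]

/-- Let S be a finite solvable group with O_{2'}(S) = 1 that contains a non-cyclic abelian subgroup of order 8, while no proper subgroup of S of 2-power index contains one. Then a Sylow 2-subgroup X of S is normal in S, and one of the following holds: X is abelian; X is extraspecial of order at least 32; X has a generalized quaternion subgroup X₀ of index 2 with X = X₀·C_X(X₀); or X is special with centre of order 4. -/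
theorem result {S : Type*} [Group S] [Finite S]
    [Group.IsSolvable S] (hO : Cfsg.pPrimeCore 2 S = ⊥)
    (h8 : ∃ A : Subgroup S, IsMulCommutative ↥A ∧ ¬ IsCyclic ↥A ∧ Nat.card ↥A = 8)
    (hmin : ∀ R : Subgroup S, R ≠ ⊤ → (∃ k : ℕ, R.index = 2 ^ k) →
      ¬ ∃ A : Subgroup S, A ≤ R ∧ IsMulCommutative ↥A ∧ ¬ IsCyclic ↥A ∧ Nat.card ↥A = 8)
    (X : Sylow 2 S) :
    (X : Subgroup S).Normal ∧
      (IsMulCommutative ↥X ∨
        (Cfsg.IsExtraspecial 2 ↥X ∧ 32 ≤ Nat.card ↥X) ∨
        (∃ (X₀ : Subgroup S) (k : ℕ), X₀ ≤ (X : Subgroup S) ∧ X₀.relIndex (X : Subgroup S) = 2 ∧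
          Nonempty (↥X₀ ≃* QuaternionGroup (2 ^ (k + 1))) ∧ X₀ ⊔ ((X : Subgroup S) ⊓ Subgroup.centralizer (X₀ : Set S)) = (X : Subgroup S)) ∨
        (Cfsg.IsSpecial 2 ↥X ∧ Nat.card ↥(Subgroup.center ↥X) = 4)) := by
  haveI : Fact (Nat.Prime 2) := ⟨Nat.prime_two⟩
  obtain ⟨A, hAc, hAn, hA8⟩ := h8
  haveI hPn : (Cfsg.pCore 2 S).Normal := (Solvable.pCore_spec 2).1
  have hP2 : IsPGroup 2 (Cfsg.pCore 2 S) := Solvable.isPGroup_pCore 2
  have hC := Fitting.centralizer_pCore_le hO
  set P := Cfsg.pCore 2 S with hPdef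
  -- the core has an abelian subgroup of order eight
  have hPnl : ¬ LackEight.Lack P := by
    intro hL
    by_cases hS : IsPGroup 2 S
    · have htop : P = ⊤ := top_le_iff.1 (Solvable.le_pCore 2 inferInstance
        (hS.to_subgroup ⊤))
      exact hAn (hL A (htop ▸ le_top) hAc hA8)
    · obtain ⟨q, hq, hqd, hq2⟩ : ∃ q : ℕ, q.Prime ∧ q ∣ Nat.card S ∧ q ≠ 2 := by
        by_contra hno
        push Not at hno
        exact hS (IsPGroup.of_card (n := _) (Nat.eq_prime_pow_of_unique_prime_dvd
          Nat.card_pos.ne' fun {d} hd hdd => hno d hd hdd))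
      haveI : Fact q.Prime := ⟨hq⟩
      obtain ⟨y, hy⟩ := exists_prime_orderOf_dvd_card' q hqd
      letI : MulDistribMulAction (zpowers y) P :=
        MulDistribMulAction.compHom _ ((MulAut.conjNormal (H := P)).comp (zpowers y).subtype)
      have hodd : Odd (Nat.card (zpowers y)) := by
        rw [Nat.card_zpowers, hy]; exact hq.odd_of_ne_two hq2
      have hne : ¬ ∀ (a : zpowers y) (x : P), a • x = x := fun hall => by
        have hyP : y ∈ P := hC (mem_centralizer_iff.2 fun m hm => by
          have e : y * m * y⁻¹ = m := congrArg Subtype.val (hall ⟨y, mem_zpowers y⟩ ⟨m, hm⟩)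
          exact (mul_inv_eq_iff_eq_mul.1 e).symm)
        obtain ⟨k, hk⟩ := IsPGroup.iff_orderOf.1 hP2 ⟨y, hyP⟩
        rw [orderOf_mk, hy] at hk
        exact hq2 ((Nat.prime_dvd_prime_iff_eq hq Nat.prime_two).1
          (hq.dvd_of_dvd_pow (by rw [← hk] : q ∣ 2 ^ k)))
      have hL' : LackEight.Lack (⊤ : Subgroup P) := lack_map (fun B hB =>
        hL B (hB.trans (map_subtype_le _)))
      exact not_fourCore hC (LackEight.four_or_qEight _ P le_rfl hP2 (zpowers y) hodd hne hL')
        hAc hAn hA8
  obtain ⟨B, hBP, hBc, hB8, hBn⟩ : ∃ B ≤ P, IsMulCommutative B ∧ Nat.card B = 8 ∧ ¬ IsCyclic B := by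
    by_contra hno
    push Not at hno
    exact hPnl hno
  -- a Hall complement and normality
  have hab : Nat.card S = (X : Subgroup S).index * Nat.card X := by
    rw [mul_comm]; exact (card_mul_index _).symm
  obtain ⟨H, hH, -⟩ := Hall.hall hab (X.card_coprime_index).symm
  obtain ⟨x, hx⟩ := IsPGroup.iff_card.1 X.2
  have hxodd : Odd (Nat.card H) := by
    rw [hH, Nat.odd_iff]
    have := X.not_dvd_index
    omega
  have hHidx : H.index = 2 ^ x := by
    have e := H.card_mul_index
    rw [hH, hab, ← hx] at *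
    exact Nat.eq_of_mul_eq_mul_left (hH ▸ Nat.card_pos) e
  have hpow : ∀ R : Subgroup S, H ≤ R → ∃ k : ℕ, R.index = 2 ^ k := fun R hR =>
    ((Nat.dvd_prime_pow Nat.prime_two).1 (hHidx ▸ index_dvd_of_le hR)).imp fun k hk => hk.2
  have hsupB : ∀ R : Subgroup S, H ≤ R → B ≤ R → R = ⊤ := fun R hR hB => by
    by_contra hne
    exact hmin R hne (hpow R hR) ⟨B, hB, hBc, hBn, hB8⟩
  have hPX : P ≤ (X : Subgroup S) := Fitting.pCore_le_sylow X
  have hXP : (X : Subgroup S) = P := by
    refine (Solvable.eq_of_le_of_card_le hPX ?_).symm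
    have htop := hsupB (H ⊔ P) le_sup_left (hBP.trans le_sup_right)
    have hd := Solvable.card_sup_dvd (le_normalizer_of_normal : H ≤ normalizer (P : Set S))
    rw [htop, card_top, hab, hH] at hd
    exact Nat.le_of_dvd Nat.card_pos (Nat.dvd_of_mul_dvd_mul_left (hH ▸ Nat.card_pos) hd)
  haveI hXn : (X : Subgroup S).Normal := hXP.symm ▸ hPn
  refine ⟨hXn, ?_⟩
  by_cases hH1 : H = ⊥
  · left
    have hall : ∀ R : Subgroup S, B ≤ R → R = ⊤ := fun R hR => hsupB R (hH1 ▸ bot_le) hR
    have hBtop := hall B le_rfl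
    exact ⟨⟨fun a b => Subtype.ext (show (a : S) * b = b * a from congrArg Subtype.val
      (hBc.is_comm.comm ⟨a, hBtop ▸ mem_top _⟩ ⟨b, hBtop ▸ mem_top _⟩))⟩⟩
  letI : MulDistribMulAction H (X : Subgroup S) :=
    MulDistribMulAction.compHom _ ((MulAut.conjNormal (H := (X : Subgroup S))).comp H.subtype)
  have hne : ¬ ∀ (a : H) (y : (X : Subgroup S)), a • y = y := fun hall => hH1 <| by
    have hle : H ≤ P := fun a ha => hC (mem_centralizer_iff.2 fun m hm => by
      have e : a * m * a⁻¹ = m :=
        congrArg Subtype.val (hall ⟨a, ha⟩ ⟨m, hXP.symm ▸ hm⟩)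
      exact (mul_inv_eq_iff_eq_mul.1 e).symm)
    obtain ⟨k, hk⟩ := IsPGroup.iff_card.1 (hP2.to_le hle)
    rcases Nat.eq_zero_or_pos k with rfl | hk0
    · exact card_eq_one.1 hk
    · rw [hk, Nat.odd_iff] at hxodd
      have := dvd_pow_self 2 hk0.ne'
      omega
  have hlack : ∀ K : Subgroup (X : Subgroup S), Coprime.IsInvariant H K → K ≠ ⊤ →
      LackEight.Lack K := fun K hK hKt => lack_map fun C hC' hCc hC8 => by
    by_contra hCn
    set K' := K.map (X : Subgroup S).subtype with hK'
    have hN : H ≤ normalizer (K' : Set S) := by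
      have hmem : ∀ a ∈ H, ∀ m ∈ K', a * m * a⁻¹ ∈ K' := fun a ha m hm => by
        obtain ⟨k, hk, rfl⟩ := hm
        exact ⟨(⟨a, ha⟩ : H) • k, hK _ k hk, rfl⟩
      exact fun a ha => mem_normalizer_iff.2 fun u => ⟨hmem a ha u, fun hu => by
        simpa [mul_assoc] using hmem a⁻¹ (H.inv_mem ha) _ hu⟩
    refine hmin (H ⊔ K') (fun htop => hKt ?_) (hpow _ le_sup_left)
      ⟨C, hC'.trans le_sup_right, hCc, hCn, hC8⟩
    refine Solvable.eq_of_le_of_card_le le_top ?_
    have hd := Solvable.card_sup_dvd hN
    rw [htop, card_top, hab, hH, hK', card_map_of_injective (X : Subgroup S).subtype_injective] at hd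
    rw [card_top]
    exact Nat.le_of_dvd Nat.card_pos (Nat.dvd_of_mul_dvd_mul_left (hH ▸ Nat.card_pos) hd)
  have haux : ∀ K : Subgroup (X : Subgroup S), Coprime.IsInvariant H K → K ≠ ⊤ →
      (¬ ∀ a : H, ∀ k ∈ K, a • k = k) → LackEight.IsFour K ∨ LackEight.IsQEight K := by
    intro K hK hKt hKne
    letI := LackEight.resAction hK
    refine LackEight.four_or_qEight _ K le_rfl (X.2.to_subgroup K) H hxodd
      (fun hall => hKne fun a k hk => congrArg Subtype.val (hall a ⟨k, hk⟩)) ?_
    exact lack_map fun C hC' => hlack K hK hKt C (hC'.trans (map_subtype_le _))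
  rcases LackEight.gen X.2 hxodd hne hlack haux with hab' | ⟨⟨D, hD, hDi, hDC⟩, -⟩ | ⟨hsp, hc, -⟩
  · exact Or.inl hab'
  · right; right; left
    refine ⟨D.map (X : Subgroup S).subtype, 0, map_subtype_le D, ?_, ?_, ?_⟩
    · show ((D.map (X : Subgroup S).subtype).subgroupOf (X : Subgroup S)).index = 2
      rw [subgroupOf, comap_map_eq_self_of_injective (X : Subgroup S).subtype_injective, hDi]
    · obtain ⟨h8', hna, z, hz1, hz2, huniq⟩ := hD
      obtain ⟨e⟩ := CfsgLib.Unitary.nonempty_mulEquiv_quaternion h8'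
        (fun y => LackEight.isPGroup_orderOf h8' y fun hc => hna ⟨⟨hc.commGroup.mul_comm⟩⟩)
        (fun a b ha hb ha1 hb1 => ((huniq a (by rw [← pow_two]; exact ha)).resolve_left ha1).trans
          ((huniq b (by rw [← pow_two]; exact hb)).resolve_left hb1).symm)
      exact ⟨((D.equivMapOfInjective _ (X : Subgroup S).subtype_injective).symm).trans e⟩
    · refine le_antisymm (sup_le (map_subtype_le D) inf_le_left) fun y hy => ?_
      have hm : (⟨y, hy⟩ : (X : Subgroup S)) ∈ D ⊔ centralizer (D : Set (X : Subgroup S)) :=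
        hDC.symm ▸ mem_top _
      have h2 := mem_map_of_mem (X : Subgroup S).subtype hm
      rw [Subgroup.map_sup] at h2
      have hle : (centralizer (D : Set (X : Subgroup S))).map (X : Subgroup S).subtype ≤
          (X : Subgroup S) ⊓ centralizer (D.map (X : Subgroup S).subtype : Set S) := by
        rintro _ ⟨c, hc, rfl⟩
        refine ⟨c.2, mem_centralizer_iff.2 ?_⟩
        rintro _ ⟨d, hd, rfl⟩
        exact congrArg Subtype.val (mem_centralizer_iff.1 hc d hd)
      exact (sup_le_sup le_rfl hle) h2
  · rcases hc with hc2 | hc4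
    · right; left
      have hex : Cfsg.IsExtraspecial 2 (X : Subgroup S) := ⟨hsp, hc2⟩
      refine ⟨hex, ?_⟩
      obtain ⟨n, hn, hcard⟩ := CfsgLib.Extraspecial.card_eq hex
      rcases eq_or_lt_of_le hn with rfl | hn2
      · exfalso
        have hBX : B = (X : Subgroup S) := Solvable.eq_of_le_of_card_le (hBP.trans hXP.ge)
          (by rw [hB8, hcard]; norm_num)
        subst hBX
        have htop : center (X : Subgroup S) = ⊤ := top_le_iff.1 fun a _ =>
          mem_center_iff.2 fun b => hBc.is_comm.comm b a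
        rw [htop, card_top, hB8] at hc2
        omega
      · exact hcard ▸ (show 32 = 2 ^ 5 by norm_num) ▸ Nat.pow_le_pow_right two_pos (by omega)
    · exact Or.inr (Or.inr (Or.inr ⟨hsp, hc4⟩))

end Cfsg.Agent.S4409
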