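import Cfsg.Statements.S4410
import Cfsg.Agent.Solvable.Fitting
import Cfsg.Agent.FGSA.TransvectionQuartic

set_option autoImplicit false
open Cfsg

namespace Cfsg.Agent.S4410

/-- Let V be a finite-dimensional vector space over the field with two elements and S a solvable group of linear automorphisms of V with O₂(S) = 1. If P ∈ S has order 4 and (P − 1)³ = 0 on V, then the image of (P − 1)² has at least 4 elements; equivalently, in the decomposition of V into indecomposable modules for the cyclic group generated by P, at least two summands have dimension 3. -/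
theorem result
    {V : Type*} [AddCommGroup V] [Module (ZMod 2) V] [Finite V]
    (S : Subgroup (V ≃ₗ[ZMod 2] V)) (hS : Group.IsSolvable ↥S) (hO2 : Cfsg.pCore 2 ↥S = ⊥)
    (P : V ≃ₗ[ZMod 2] V) (hPS : P ∈ S) (hP4 : orderOf P = 4)
    (hcub : ((P : V →ₗ[ZMod 2] V) - LinearMap.id) ^ 3 = 0) :
    4 ≤ Nat.card ↥(LinearMap.range (((P : V →ₗ[ZMod 2] V) - LinearMap.id) ^ 2)) := by
  classical
  haveI : Finite (V ≃ₗ[ZMod 2] V) :=
    Finite.of_injective (fun e => (e : V → V)) DFunLike.coe_injective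
  by_contra hlt
  push Not at hlt
  let N : V →ₗ[ZMod 2] V := (P : V →ₗ[ZMod 2] V) - LinearMap.id
  let R := LinearMap.range (N ^ 2)
  have hdd : ∀ x : V, x + x = 0 := fun x => by
    rw [← two_smul (ZMod 2) x, show (2 : ZMod 2) = 0 from rfl, zero_smul]
  have hN : ∀ x, N x = P x + x := fun x => by
    show P x - x = P x + x
    rw [sub_eq_add_neg, neg_eq_of_add_eq_zero_left (hdd x)]
  have hN2 : ∀ x, (N ^ 2) x = P (P x) + x := fun x => by
    rw [pow_two, Module.End.mul_apply, hN, hN, map_add]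
    calc P (P x) + P x + (P x + x) = P (P x) + (P x + P x) + x := by abel
      _ = _ := by rw [hdd, add_zero]
  obtain ⟨x₀, hx₀⟩ : ∃ x, (N ^ 2) x ≠ 0 := by
    by_contra hall
    simp only [not_exists, not_not] at hall
    have h2 : P ^ 2 = 1 := by
      refine LinearEquiv.ext fun x => ?_
      have := hall x
      rw [hN2] at this
      rw [pow_two]
      show P (P x) = x
      exact (eq_neg_of_add_eq_zero_left this).trans (neg_eq_of_add_eq_zero_left (hdd x))
    have := orderOf_dvd_of_pow_eq_one h2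
    rw [hP4] at this
    norm_num at this
  obtain ⟨v, hvdef⟩ : ∃ v, (N ^ 2) x₀ = v := ⟨_, rfl⟩
  rw [hvdef] at hx₀
  have hvR : v ∈ R := hvdef ▸ LinearMap.mem_range_self _ x₀
  have hrange : ∀ y ∈ R, y = 0 ∨ y = v := by
    intro y hy
    by_contra hne
    simp only [not_or] at hne
    have h4 : 4 ≤ Nat.card R := by
      haveI := Fintype.ofFinite R
      have hdv : (2 : ℕ) ∣ Nat.card R := by
        have h := orderOf_dvd_natCard (Multiplicative.ofAdd (⟨v, hvR⟩ : R))
        rwa [orderOf_eq_prime (p := 2) (by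
          apply Multiplicative.toAdd.injective
          show (2 : ℕ) • (⟨v, hvR⟩ : R) = 0
          exact Subtype.ext (by show (2 : ℕ) • v = 0; rw [two_nsmul, hdd])) (by
          intro e
          exact hx₀ (congrArg (fun z : Multiplicative R => ((Multiplicative.toAdd z : R) : V)) e)),
          Nat.card_congr Multiplicative.toAdd] at h
      have : 2 < Nat.card R := by
        rw [Nat.card_eq_fintype_card, Fintype.two_lt_card_iff]
        exact ⟨0, ⟨v, hvR⟩, ⟨y, hy⟩, fun e => hx₀ (congrArg Subtype.val e).symm,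
          fun e => hne.1 (congrArg Subtype.val e).symm, fun e => hne.2 (congrArg Subtype.val e).symm⟩
      omega
    exact absurd h4 (not_le.2 hlt)
  set t : V ≃ₗ[ZMod 2] V := P * P with ht
  have htd : ∀ x, t x = x ∨ t x = x + v := by
    intro x
    have e : t x = (N ^ 2) x + x := by
      rw [hN2, add_assoc, hdd, add_zero]; rfl
    rcases hrange _ (LinearMap.mem_range_self (N ^ 2) x) with h | h
    · left; rw [e, h, zero_add]
    · right; rw [e, h, add_comm]
  have hPv : P v = v := by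
    have h : P v = (N ^ 2) (P x₀) := by rw [← hvdef, hN2, hN2, map_add]
    rcases hrange (P v) (h ▸ LinearMap.mem_range_self _ _) with h | h
    · exact absurd ((LinearEquiv.map_eq_zero_iff P).1 h) hx₀
    · exact h
  have htv : t v = v := by show P (P v) = v; rw [hPv, hPv]
  have ht1 : t ≠ 1 := by
    intro e
    have h : t x₀ = x₀ := by rw [e]; rfl
    apply hx₀
    rw [← hvdef, hN2, show P (P x₀) = x₀ from h, hdd]
  have htS : t ∈ S := mul_mem hPS hPS
  have htt : t * t = 1 := by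
    rw [ht, ← pow_two, ← pow_two, ← pow_mul, show 2 * 2 = orderOf P by rw [hP4]]
    exact pow_orderOf_eq_one P
  obtain ⟨r, r₀, hr, hx⟩ : ∃ r : Nat.Primes, ∃ x ∈ Cfsg.pCore (r : ℕ) ↥S, x * ⟨t, htS⟩ ≠ ⟨t, htS⟩ * x := by
    by_contra hall
    simp only [not_exists, not_and, not_not] at hall
    haveI := hS
    have hmem : (⟨t, htS⟩ : S) ∈ Subgroup.centralizer (Cfsg.fittingSubgroup ↥S : Set S) := by
      rw [CfsgLib.Solvable.fittingSubgroup_eq_iSup_pCore, Subgroup.mem_centralizer_iff]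
      intro y hy
      have hle : (⨆ q : Nat.Primes, Cfsg.pCore (q : ℕ) ↥S) ≤ Subgroup.centralizer {(⟨t, htS⟩ : S)} :=
        iSup_le fun q z hz => Subgroup.mem_centralizer_singleton_iff.2 (hall q z hz)
      exact Subgroup.mem_centralizer_singleton_iff.1 (hle hy)
    have hF := CfsgLib.Fitting.centralizer_fittingSubgroup_le_of_solvable hmem
    have hnil : Group.IsNilpotent (Cfsg.fittingSubgroup ↥S) := CfsgLib.Solvable.isNilpotent_fittingSubgroup
    haveI : Fact (Nat.Prime 2) := ⟨Nat.prime_two⟩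
    obtain ⟨Q⟩ := (inferInstance : Nonempty (Sylow 2 (Cfsg.fittingSubgroup ↥S)))
    haveI := hnil
    haveI : (Q : Subgroup (Cfsg.fittingSubgroup ↥S)).Characteristic :=
      Sylow.characteristic_of_normal Q inferInstance
    have hle : (Q : Subgroup (Cfsg.fittingSubgroup ↥S)).map (Cfsg.fittingSubgroup ↥S).subtype ≤ ⊥ :=
      hO2 ▸ CfsgLib.Solvable.le_pCore 2 inferInstance (Q.2.map _)
    have hQ : (Q : Subgroup (Cfsg.fittingSubgroup ↥S)) = ⊥ :=
      (Subgroup.map_eq_bot_iff_of_injective _ (Subgroup.subtype_injective _)).1 (le_bot_iff.1 hle)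
    have ho : orderOf (⟨⟨t, htS⟩, hF⟩ : Cfsg.fittingSubgroup ↥S) = 2 :=
      orderOf_eq_prime (Subtype.ext (Subtype.ext (by rw [pow_two]; exact htt)))
        fun e => ht1 (congrArg (fun z : Cfsg.fittingSubgroup ↥S => ((z : S) : V ≃ₗ[ZMod 2] V)) e)
    have hd : 2 ∣ Nat.card (Cfsg.fittingSubgroup ↥S) := (dvd_of_eq ho.symm).trans (orderOf_dvd_natCard _)
    have h1 := Q.dvd_card_of_dvd_card hd
    rw [hQ, Subgroup.card_bot] at h1
    omega
  haveI : Fact (r : ℕ).Prime := ⟨r.2⟩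
  have hodd : ∀ g : S, g ∈ Cfsg.pCore (r : ℕ) ↥S → Odd (orderOf (g : V ≃ₗ[ZMod 2] V)) := by
    have hr2 : (r : ℕ) ≠ 2 := by
      intro e
      rw [e, hO2, Subgroup.mem_bot] at hr
      exact hx (by rw [hr, one_mul, mul_one])
    intro g hg
    obtain ⟨k, hk⟩ := IsPGroup.iff_orderOf.1 (CfsgLib.Solvable.isPGroup_pCore (r : ℕ)) ⟨g, hg⟩
    rw [← Subgroup.orderOf_coe] at hk
    rw [Subgroup.orderOf_coe, hk]
    exact (r.2.odd_of_ne_two hr2).pow
  obtain ⟨q, hqd⟩ : ∃ q : V ≃ₗ[ZMod 2] V, q = (r₀ : S) := ⟨_, rfl⟩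
  let s : V ≃ₗ[ZMod 2] V := q * t * q⁻¹
  let w := q v
  have hss : s * s = 1 := by
    show q * t * q⁻¹ * (q * t * q⁻¹) = 1
    rw [show q * t * q⁻¹ * (q * t * q⁻¹) = q * (t * t) * q⁻¹ by group, htt, mul_one, mul_inv_cancel]
  have hsd : ∀ x, s x = x ∨ s x = x + w := fun x => by
    have e : s x = q (t (q.symm x)) := rfl
    rcases htd (q.symm x) with h | h
    · left; rw [e, h, LinearEquiv.apply_symm_apply]
    · right; rw [e, h, map_add, LinearEquiv.apply_symm_apply]
  have hsw : s w = w := by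
    show q (t (q.symm (q v))) = q v
    rw [LinearEquiv.symm_apply_apply, htv]
  haveI hrn : (Cfsg.pCore (r : ℕ) ↥S).Normal := CfsgLib.Solvable.pCore_normal _
  let cS : S := r₀ * ⟨t, htS⟩ * r₀⁻¹ * ⟨t, htS⟩
  have htinv : (⟨t, htS⟩ : S) * ⟨t, htS⟩ = 1 := Subtype.ext htt
  have hcS : cS ∈ Cfsg.pCore (r : ℕ) ↥S := by
    have h1 := hrn.conj_mem _ (inv_mem hr) ⟨t, htS⟩
    have h2 := mul_mem hr h1
    rw [inv_eq_of_mul_eq_one_left htinv] at h2
    convert h2 using 1
    show r₀ * ⟨t, htS⟩ * r₀⁻¹ * ⟨t, htS⟩ = _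
    group
  have hc : s * t = (cS : V ≃ₗ[ZMod 2] V) := by
    show q * t * q⁻¹ * t = _
    rw [hqd]; rfl
  have hst : s ≠ t := by
    intro e
    refine hx (Subtype.ext ?_)
    show (r₀ : V ≃ₗ[ZMod 2] V) * t = t * (r₀ : V ≃ₗ[ZMod 2] V)
    rw [← hqd]
    exact mul_inv_eq_iff_eq_mul.1 e
  obtain ⟨K, hK⟩ : ∃ K : Subgroup (V ≃ₗ[ZMod 2] V), K = (Cfsg.pCore (r : ℕ) ↥S).map S.subtype := ⟨_, rfl⟩
  have hKodd : ∀ g ∈ K, Odd (orderOf g) := by
    intro g hg
    rw [hK, Subgroup.mem_map] at hg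
    obtain ⟨g', hg', e⟩ := hg
    rw [← e]
    exact hodd g' hg'
  have hKP : ∀ g ∈ K, P * g * P⁻¹ ∈ K := by
    intro g hg
    rw [hK, Subgroup.mem_map] at hg ⊢
    obtain ⟨g', hg', e⟩ := hg
    refine ⟨(⟨P, hPS⟩ : S) * g' * (⟨P, hPS⟩ : S)⁻¹, Subgroup.Normal.conj_mem hrn g' hg' (⟨P, hPS⟩ : S), ?_⟩
    rw [map_mul, map_mul, map_inv, e]
    rfl
  have hKc : s * t ∈ K := by
    rw [hK, Subgroup.mem_map]
    exact ⟨cS, hcS, hc.symm⟩
  clear_value t
  clear_value s
  clear_value w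
  exact CfsgLib.TransvectionQuartic.false_of_data K hKodd v hx₀ hdd P hPv ht htt hss htd htv hsd hsw hst hKP hKc

end Cfsg.Agent.S4410
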