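import Cfsg.Statements.S4412
import Cfsg.Agent.Solvable.EightOnOdd

set_option autoImplicit false
set_option linter.deprecated false
set_option linter.style.haveILetI false
set_option linter.unusedVariables false
open Cfsg
open scoped Pointwise

namespace Cfsg.Agent.S4412

/-- Let p be an odd prime, P a finite p-group and I an elementary abelian subgroup of order 8 of Aut(P). Call T ∈ I, T ≠ 1, broad when its fixed-point subgroup C_P(T) is not cyclic. Suppose I has a proper subgroup I₀ containing no broad element such that the product of any two broad elements lies in I₀. Then P is abelian of rank exactly 3 (generated by three elements but not by two), there are exactly three broad elements and they generate I, and I₀ is exactly the set of products of two broad elements. -/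
theorem result
    {P : Type*} [Group P] [Finite P] (p : ℕ) (hp : p.Prime) (hp2 : p ≠ 2) (hP : IsPGroup p P)
    (I : Subgroup (MulAut P)) (hI : Cfsg.IsElementaryAbelian 2 I) (hI8 : Nat.card ↥I = 8)
    (I₀ : Subgroup (MulAut P)) (hI₀ : I₀ < I)
    (hdisj : ∀ T ∈ I₀, T ≠ 1 → ∃ g : P, ∀ x : P, (T x = x ↔ x ∈ Subgroup.zpowers g))
    (hprod : ∀ T ∈ I, ∀ T' ∈ I, T ≠ 1 → T' ≠ 1 → (¬ ∃ g : P, ∀ x : P, (T x = x ↔ x ∈ Subgroup.zpowers g)) →
      (¬ ∃ g : P, ∀ x : P, (T' x = x ↔ x ∈ Subgroup.zpowers g)) → T * T' ∈ I₀) :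
    IsMulCommutative P ∧ (∃ a b c : P, Subgroup.closure {a, b, c} = ⊤) ∧ (¬ ∃ a b : P, Subgroup.closure {a, b} = ⊤) ∧
      Nat.card {T : MulAut P // T ∈ I ∧ T ≠ 1 ∧ ¬ ∃ g : P, ∀ x : P, (T x = x ↔ x ∈ Subgroup.zpowers g)} = 3 ∧
      Subgroup.closure {T : MulAut P | T ∈ I ∧ T ≠ 1 ∧ ¬ ∃ g : P, ∀ x : P, (T x = x ↔ x ∈ Subgroup.zpowers g)} = I ∧
      (I₀ : Set (MulAut P)) = {S : MulAut P | ∃ T T' : MulAut P, T ∈ I ∧ T' ∈ I ∧ T ≠ 1 ∧ T' ≠ 1 ∧
        (¬ ∃ g : P, ∀ x : P, (T x = x ↔ x ∈ Subgroup.zpowers g)) ∧ (¬ ∃ g : P, ∀ x : P, (T' x = x ↔ x ∈ Subgroup.zpowers g)) ∧ S = T * T'} := by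
  haveI : Fact p.Prime := ⟨hp⟩
  obtain ⟨e, x, hc, hgen, hnot, hinj, hB, hcl, hI0⟩ :=
    CfsgLib.EightOnOdd.main p hp2 hP I hI hI8 I₀ hI₀ (fun T hT hT1 hb => hb (hdisj T hT hT1)) hprod
  have hB' : {T : MulAut P | T ∈ I ∧ T ≠ 1 ∧ ¬ ∃ g : P, ∀ x : P, (T x = x ↔ x ∈ Subgroup.zpowers g)} =
      Set.range e := hB
  refine ⟨hc, ⟨x 0, x 1, x 2, ?_⟩, hnot, ?_, by rw [hB']; exact hcl, ?_⟩
  · rw [← hgen]
    congr 1
    ext z
    simp [Fin.exists_fin_succ, eq_comm]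
  · rw [show Nat.card {T : MulAut P // T ∈ I ∧ T ≠ 1 ∧ ¬ ∃ g : P, ∀ x : P, (T x = x ↔ x ∈ Subgroup.zpowers g)} =
      Nat.card ↥(Set.range e) from Nat.card_congr (Equiv.setCongr hB'), Nat.card_range_of_injective hinj,
      Nat.card_fin]
  · rw [hI0]
    ext S
    constructor
    · rintro ⟨i, j, rfl⟩
      obtain ⟨a1, a2, a3⟩ := hB'.ge ⟨i, rfl⟩
      obtain ⟨b1, b2, b3⟩ := hB'.ge ⟨j, rfl⟩
      exact ⟨e i, e j, a1, b1, a2, b2, a3, b3, rfl⟩
    · rintro ⟨T, T', a1, b1, a2, b2, a3, b3, rfl⟩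
      obtain ⟨i, rfl⟩ := hB'.le ⟨a1, a2, a3⟩
      obtain ⟨j, rfl⟩ := hB'.le ⟨b1, b2, b3⟩
      exact ⟨i, j, rfl⟩


end Cfsg.Agent.S4412
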