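import Cfsg.Statements.S4414
import Mathlib

set_option autoImplicit false
open Cfsg

namespace Cfsg.Agent.S4414

open scoped TensorProduct Pointwise

section Weights

variable {K : Type*} [Field K] {V : Type*} [AddCommGroup V] [Module K V] {S : Type*} [Group S]

/-- The conjugation action on the characters of a normal subgroup. -/
@[reducible] noncomputable def charAct (P : Subgroup S) [P.Normal] : MulAction S (↥P →* Kˣ) where
  smul s χ := χ.comp (MulAut.conjNormal s⁻¹).toMonoidHom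
  one_smul χ := by
    show χ.comp (MulAut.conjNormal (1 : S)⁻¹).toMonoidHom = χ
    ext a
    simp
  mul_smul s t χ := by
    show χ.comp (MulAut.conjNormal (s * t)⁻¹).toMonoidHom =
      (χ.comp (MulAut.conjNormal t⁻¹).toMonoidHom).comp (MulAut.conjNormal s⁻¹).toMonoidHom
    ext a
    simp only [MonoidHom.comp_apply, MulEquiv.coe_toMonoidHom, mul_inv_rev, map_mul,
      MulAut.mul_apply]

attribute [local instance] charAct

variable (ρ : Representation K S V) {P : Subgroup S} [Fintype ↥P]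

/-- A multiple of the projection onto the weight space of a character. -/
noncomputable def proj (χ : ↥P →* Kˣ) : V →ₗ[K] V :=
  ∑ a : ↥P, ((χ a⁻¹ : Kˣ) : K) • ρ (a : S)

theorem proj_apply (χ : ↥P →* Kˣ) (v : V) :
    proj ρ χ v = ∑ a : ↥P, ((χ a⁻¹ : Kˣ) : K) • ρ (a : S) v := by
  simp [proj]

theorem rho_proj (χ : ↥P →* Kˣ) (b : ↥P) (v : V) :
    ρ (b : S) (proj ρ χ v) = ((χ b : Kˣ) : K) • proj ρ χ v := by
  rw [proj_apply, map_sum, Finset.smul_sum]
  refine Fintype.sum_equiv (Equiv.mulLeft b) _ _ fun a => ?_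
  simp only [Equiv.coe_mulLeft, map_smul, smul_smul, Subgroup.coe_mul, map_mul, Module.End.mul_apply]
  congr 1
  rw [← Units.val_mul, mul_inv_rev, map_mul, mul_comm (χ a⁻¹), ← mul_assoc, ← map_mul,
    mul_inv_cancel, map_one, one_mul]

theorem conj_proj [P.Normal] (χ : ↥P →* Kˣ) (s : S) (v : V) :
    ρ s (proj ρ χ v) = proj ρ (s • χ) (ρ s v) := by
  rw [proj_apply, map_sum, proj_apply]
  refine Fintype.sum_equiv (MulAut.conjNormal s).toEquiv _ _ fun a => ?_
  rw [map_smul]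
  show _ = ((χ (MulAut.conjNormal s⁻¹ ((MulAut.conjNormal s a)⁻¹)) : Kˣ) : K) •
    ρ ((MulAut.conjNormal s a : ↥P) : S) (ρ s v)
  rw [MulAut.conjNormal_apply, ← map_inv, ← MulAut.mul_apply, ← map_mul, inv_mul_cancel, map_one,
    MulAut.one_apply]
  congr 1
  rw [← Module.End.mul_apply, ← Module.End.mul_apply, ← map_mul, ← map_mul]
  congr 2
  group

theorem proj_proj (χ ψ : ↥P →* Kˣ) (v : V) :
    (χ ≠ ψ → proj ρ ψ (proj ρ χ v) = 0) ∧
      proj ρ χ (proj ρ χ v) = (Fintype.card ↥P : K) • proj ρ χ v := by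
  have h : ∀ ψ : ↥P →* Kˣ, proj ρ ψ (proj ρ χ v) =
      (∑ a : ↥P, ((Units.coeHom K).comp (ψ⁻¹ * χ)) a) • proj ρ χ v := fun ψ => by
    rw [proj_apply ρ ψ, Finset.sum_smul]
    refine Finset.sum_congr rfl fun a _ => ?_
    rw [rho_proj, smul_smul]
    congr 1
    simp
  constructor
  · intro hne
    rw [h, sum_hom_units_eq_zero, zero_smul]
    intro h1
    apply hne
    have : ψ⁻¹ * χ = 1 := by
      ext a
      exact DFunLike.congr_fun h1 a
    exact (inv_mul_eq_one.mp this).symm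
  · rw [h]
    simp

/-- Every vector with all weight components zero is zero, in odd order over characteristic two. -/
theorem exists_proj_ne_zero [Finite K] [CharP K 2] (hodd : Odd (Fintype.card ↥P))
    (hsep : ∀ a : ↥P, a ≠ 1 → ∃ χ : ↥P →* Kˣ, χ a ≠ 1) {v : V} (hv : v ≠ 0) :
    ∃ χ : ↥P →* Kˣ, proj ρ χ v ≠ 0 := by
  classical
  haveI : Fintype (↥P →* Kˣ) := Fintype.ofFinite _
  by_contra hall
  push_neg at hall
  have h0 : ∑ χ : ↥P →* Kˣ, proj ρ χ v = 0 := Finset.sum_eq_zero fun χ _ => hall χ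
  simp only [proj_apply] at h0
  rw [Finset.sum_comm, Finset.sum_eq_single (1 : ↥P)] at h0
  · simp only [inv_one, map_one, Units.val_one, one_smul, OneMemClass.coe_one, Module.End.one_apply,
      Finset.sum_const, Finset.card_univ] at h0
    rw [← Nat.cast_smul_eq_nsmul K, smul_eq_zero] at h0
    rcases h0 with h0 | h0
    · rw [CharP.cast_eq_zero_iff K 2] at h0
      haveI : Fact (Nat.Prime 2) := ⟨Nat.prime_two⟩
      obtain ⟨g, hg⟩ := exists_prime_orderOf_dvd_card 2 h0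
      have this : 2 ∣ Fintype.card ↥P := by
        rw [← hg]
        refine orderOf_dvd_iff_pow_eq_one.mpr (MonoidHom.ext fun a => ?_)
        simp [← map_pow]
      exact Nat.not_even_iff_odd.mpr hodd (even_iff_two_dvd.mpr this)
    · exact hv h0
  · intro a _ ha
    rw [← Finset.sum_smul]
    convert zero_smul K (ρ (a : S) v)
    obtain ⟨φ, hφ⟩ := hsep a⁻¹ (inv_ne_one.mpr ha)
    have key : ((φ a⁻¹ : Kˣ) : K) * ∑ χ : ↥P →* Kˣ, ((χ a⁻¹ : Kˣ) : K) =
        ∑ χ : ↥P →* Kˣ, ((χ a⁻¹ : Kˣ) : K) := by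
      rw [Finset.mul_sum]
      exact Fintype.sum_equiv (Equiv.mulLeft φ) _ _ fun χ => by simp
    have : (((φ a⁻¹ : Kˣ) : K) - 1) * ∑ χ : ↥P →* Kˣ, ((χ a⁻¹ : Kˣ) : K) = 0 := by
      rw [sub_mul, key, one_mul, sub_self]
    rcases mul_eq_zero.mp this with h | h
    · exact absurd (Units.ext (sub_eq_zero.mp h)) hφ
    · exact h
  · intro h; exact absurd (Finset.mem_univ _) h

/-- Each orbit of weights of a 2-subgroup carries a nonzero fixed vector. -/
theorem exists_fixed_on_orbit [Finite V] [Finite K] [CharP K 2] [P.Normal]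
    (hodd : Odd (Fintype.card ↥P)) (hsep : ∀ a : ↥P, a ≠ 1 → ∃ χ : ↥P →* Kˣ, χ a ≠ 1)
    (T : Subgroup S) (hT : IsPGroup 2 ↥T) {χ : ↥P →* Kˣ} (hχ : ∃ w, proj ρ χ w ≠ 0) :
    ∃ v : V, (∀ t ∈ T, ρ t v = v) ∧ ∀ ψ, proj ρ ψ v ≠ 0 ↔ ψ ∈ MulAction.orbit ↥T χ := by
  obtain ⟨w, hw⟩ := hχ
  let O := MulAction.orbit ↥T χ
  let U : Submodule K V :=
    { carrier := {v | ∀ ψ, ψ ∉ O → proj ρ ψ v = 0}
      add_mem' := fun ha hb ψ hψ => by rw [map_add, ha ψ hψ, hb ψ hψ, add_zero]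
      zero_mem' := fun ψ _ => map_zero _
      smul_mem' := fun c a ha ψ hψ => by rw [map_smul, ha ψ hψ, smul_zero] }
  have hinv : ∀ t : ↥T, ∀ v ∈ U, ρ (t : S) v ∈ U := by
    intro t v hv ψ hψ
    have h1 : ψ = (t : S) • ((t : S)⁻¹ • ψ) := (smul_inv_smul _ _).symm
    rw [h1, ← conj_proj, hv _ ?_, map_zero]
    intro hmem
    apply hψ
    rw [h1]
    exact MulAction.mem_orbit_of_mem_orbit t hmem
  letI : MulAction ↥T ↥U :=
    { smul := fun t v => ⟨ρ (t : S) v, hinv t v v.2⟩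
      one_smul := fun v => Subtype.ext (by show ρ ((1 : ↥T) : S) (v : V) = v; simp)
      mul_smul := fun a b v => Subtype.ext (by
        show ρ ((a * b : ↥T) : S) (v : V) = ρ (a : S) (ρ (b : S) (v : V))
        simp [map_mul]) }
  have hu : proj ρ χ w ∈ U := fun ψ hψ =>
    (proj_proj ρ χ ψ w).1 (fun h => hψ (h ▸ MulAction.mem_orbit_self χ))
  have hdvd : 2 ∣ Nat.card ↥U := by
    have h2 : addOrderOf (⟨proj ρ χ w, hu⟩ : ↥U) = 2 := by
      haveI : Fact (Nat.Prime 2) := ⟨Nat.prime_two⟩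
      refine addOrderOf_eq_prime (Subtype.ext ?_) (fun h => hw (congrArg Subtype.val h))
      show (2 : ℕ) • proj ρ χ w = 0
      rw [← Nat.cast_smul_eq_nsmul K, CharP.cast_eq_zero, zero_smul]
    rw [← h2]
    exact addOrderOf_dvd_natCard _
  have h0 : (0 : ↥U) ∈ MulAction.fixedPoints ↥T ↥U := fun t => Subtype.ext (map_zero (ρ (t : S)))
  haveI : Fact (Nat.Prime 2) := ⟨Nat.prime_two⟩
  obtain ⟨v, hv, hne⟩ := hT.exists_fixed_point_of_prime_dvd_card_of_fixed_point ↥U hdvd h0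
  have hfix : ∀ t ∈ T, ρ t (v : V) = v := fun t ht => congrArg Subtype.val (hv ⟨t, ht⟩)
  refine ⟨v, hfix, fun ψ => ⟨fun h => by_contra fun hψ => h (v.2 ψ hψ), fun hψ hz => ?_⟩⟩
  obtain ⟨φ, hφ⟩ := exists_proj_ne_zero ρ hodd hsep (v := (v : V))
    (fun h => hne (Subtype.ext h.symm))
  have hφO : φ ∈ O := by_contra fun h => hφ (v.2 φ h)
  have : φ ∈ MulAction.orbit ↥T ψ := (MulAction.orbit_eq_iff.mpr hψ).symm ▸ hφO
  obtain ⟨t, rfl⟩ := this
  apply hφ
  show proj ρ ((t : S) • ψ) (v : V) = 0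
  rw [← hfix t t.2, ← conj_proj, hz, map_zero]

/-- The weight computation behind the statement. -/
theorem weights [Finite S] [Finite V] [Finite K] [CharP K 2] [P.Normal] (hodd : Odd (Fintype.card ↥P))
    (hsep : ∀ a : ↥P, a ≠ 1 → ∃ χ : ↥P →* Kˣ, χ a ≠ 1) [Nontrivial V]
    (hP0 : ∀ v : V, (∀ a : ↥P, ρ (a : S) v = v) → v = 0)
    (T : Subgroup S) (hT : IsPGroup 2 ↥T) (Q : Subgroup S) (q : ℕ) [Fact q.Prime] (hq2 : q ≠ 2)
    (hQ : Nat.card ↥Q = q) (hPQ : ⁅P, Q⁆ = P) :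
    Nat.card K ^ 2 ≤ Nat.card {v : V // ∀ t ∈ T, ρ t v = v} ∧
      (Nat.card {v : V // ∀ t ∈ T, ρ t v = v} = Nat.card K ^ 2 →
        ¬ ∀ x ∈ Q, ∀ v : V, (∀ t ∈ T, ρ t v = v) → ∀ t ∈ T, ρ t (ρ x v) = ρ x v) := by
  classical
  set X : Set (↥P →* Kˣ) := {χ | ∃ w, proj ρ χ w ≠ 0} with hX
  have hXinv : ∀ (s : S) χ, χ ∈ X → s • χ ∈ X := by
    rintro s χ ⟨w, hw⟩
    refine ⟨ρ s w, ?_⟩
    rw [← conj_proj]
    intro h
    apply hw
    have := congrArg (ρ s⁻¹) h
    rwa [map_zero, ← Module.End.mul_apply, ← map_mul, inv_mul_cancel, map_one,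
      Module.End.one_apply] at this
  have hX1 : (1 : ↥P →* Kˣ) ∉ X := by
    rintro ⟨w, hw⟩
    exact hw (hP0 _ fun a => by rw [rho_proj]; simp)
  have hfp : ∀ χ ∈ X, ¬ ∀ x ∈ Q, x • χ = χ := by
    intro χ hχ hall
    apply hX1
    have hle : P ≤ χ.ker.map P.subtype := by
      conv_lhs => rw [← hPQ]
      refine Subgroup.commutator_le.mpr fun a ha x hx => ?_
      have hmem : a * x * a⁻¹ * x⁻¹ ∈ P := by
        have := (inferInstance : P.Normal).conj_mem _ (P.inv_mem ha) x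
        have h2 := P.mul_mem ha this
        simpa [mul_assoc] using h2
      refine ⟨⟨_, hmem⟩, ?_, by simp [commutatorElement_def]⟩
      rw [SetLike.mem_coe, MonoidHom.mem_ker]
      have h3 : (x • χ) ⟨a, ha⟩⁻¹ = χ ⟨a, ha⟩⁻¹ := by rw [hall x hx]
      have e : (⟨a * x * a⁻¹ * x⁻¹, hmem⟩ : ↥P) =
          ⟨a, ha⟩ * MulAut.conjNormal x (⟨a, ha⟩⁻¹) := Subtype.ext (by simp [mul_assoc])
      rw [e, map_mul]
      have h4 : χ (MulAut.conjNormal x⁻¹⁻¹ ⟨a, ha⟩⁻¹) = χ ⟨a, ha⟩⁻¹ := by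
        have h5 := hall x⁻¹ (Q.inv_mem hx)
        exact DFunLike.congr_fun h5 _
      rw [inv_inv] at h4
      rw [h4, map_inv, mul_inv_cancel]
    have h1 : χ = 1 := by
      ext a
      obtain ⟨b, hb, hba⟩ := hle a.2
      have : b = a := Subtype.ext hba
      subst this
      rw [MonoidHom.mem_ker.mp hb]
      rfl
    exact h1 ▸ hχ
  have hQgen : ∀ x ∈ Q, x ≠ 1 → Subgroup.zpowers x = Q := fun x hx h1 =>
    Subgroup.eq_of_le_of_card_ge (Subgroup.zpowers_le.mpr hx) (by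
      rw [hQ, Nat.card_zpowers]
      exact (orderOf_eq_prime (by
        have h6 : (⟨x, hx⟩ : ↥Q) ^ Nat.card ↥Q = 1 := pow_card_eq_one'
        rw [hQ] at h6
        exact congrArg Subtype.val h6) h1).ge)
  obtain ⟨y, hy1⟩ : ∃ y : ↥Q, y ≠ 1 := by
    haveI : Nontrivial ↥Q := by
      rw [← Finite.one_lt_card_iff_nontrivial, hQ]; exact (Fact.out : q.Prime).one_lt
    exact exists_ne 1
  have hy : (y : S) ≠ 1 := fun h => hy1 (Subtype.ext h)
  have hOno : ∀ χ ∈ X, (y : S) • MulAction.orbit ↥T χ ≠ MulAction.orbit ↥T χ := by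
    intro χ hχ hO
    set O := MulAction.orbit ↥T χ
    have hst : Q ≤ MulAction.stabilizer S O := by
      rw [← hQgen y y.2 hy, Subgroup.zpowers_le]; exact hO
    letI : MulAction ↥Q ↥O :=
      { smul := fun x z => ⟨(x : S) • (z : ↥P →* Kˣ), by
          exact (MulAction.mem_stabilizer_iff.mp (hst x.2)).subset (Set.smul_mem_smul_set z.2)⟩
        one_smul := fun z => Subtype.ext (one_smul S (z : ↥P →* Kˣ))
        mul_smul := fun a b z => Subtype.ext (mul_smul (a : S) (b : S) (z : ↥P →* Kˣ)) }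
    have hQp : IsPGroup q ↥Q := IsPGroup.of_card (n := 1) (by rw [hQ, pow_one])
    have hmod := hQp.card_modEq_card_fixedPoints (↥O)
    have h0 : Nat.card ↥(MulAction.fixedPoints ↥Q ↥O) = 0 := by
      rw [Nat.card_eq_zero]
      left
      refine ⟨fun z => ?_⟩
      obtain ⟨⟨z, t, rfl⟩, hz⟩ := z
      exact hfp _ (hXinv (t : S) χ hχ) fun x hx => congrArg Subtype.val (hz ⟨x, hx⟩)
    rw [h0] at hmod
    have hdvd : q ∣ Nat.card ↥O := Nat.modEq_zero_iff_dvd.mp hmod
    obtain ⟨k, hk⟩ := (IsPGroup.iff_card.mp hT)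
    have h2 : Nat.card ↥O ∣ 2 ^ k := by
      rw [Nat.card_coe_set_eq, ← MulAction.index_stabilizer, ← hk]
      exact Subgroup.index_dvd_card _
    exact hq2 ((Nat.prime_dvd_prime_iff_eq Fact.out Nat.prime_two).mp
      ((Fact.out : q.Prime).dvd_of_dvd_pow (hdvd.trans h2)))
  obtain ⟨v₀, hv₀⟩ := exists_ne (0 : V)
  obtain ⟨χ₁, hχ₁⟩ := exists_proj_ne_zero ρ hodd hsep hv₀
  have hχ₁X : χ₁ ∈ X := ⟨v₀, hχ₁⟩
  set O₁ := MulAction.orbit ↥T χ₁
  obtain ⟨χ₂, hχ₂X, hχ₂O⟩ : ∃ χ₂ ∈ X, χ₂ ∉ O₁ := by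
    by_contra h
    push_neg at h
    apply hOno χ₁ hχ₁X
    haveI : Finite (↥P →* Kˣ) := inferInstance
    refine Set.eq_of_subset_of_ncard_le ?_ ?_ (Set.toFinite _)
    · rintro z ⟨z', ⟨t, rfl⟩, rfl⟩
      exact h _ (hXinv _ _ (hXinv _ _ hχ₁X))
    · rw [Set.ncard_smul_set]
  set O₂ := MulAction.orbit ↥T χ₂
  have hdisj : ∀ ψ, ψ ∈ O₁ → ψ ∉ O₂ := fun ψ h1 h2 => hχ₂O (by
    show χ₂ ∈ O₁
    rw [show O₁ = O₂ from (MulAction.orbit_eq_iff.mpr h1).symm.trans (MulAction.orbit_eq_iff.mpr h2)]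
    exact MulAction.mem_orbit_self _)
  obtain ⟨v₁, hf₁, hs₁⟩ := exists_fixed_on_orbit ρ hodd hsep T hT hχ₁X
  obtain ⟨v₂, hf₂, hs₂⟩ := exists_fixed_on_orbit ρ hodd hsep T hT hχ₂X
  let f : K × K → {v : V // ∀ t ∈ T, ρ t v = v} := fun c =>
    ⟨c.1 • v₁ + c.2 • v₂, fun t ht => by rw [map_add, map_smul, map_smul, hf₁ t ht, hf₂ t ht]⟩
  have hcomp₁ : ∀ (c d : K) ψ, ψ ∈ O₁ → proj ρ ψ (c • v₁ + d • v₂) = c • proj ρ ψ v₁ := by
    intro c d ψ hψ
    have : proj ρ ψ v₂ = 0 := by_contra fun h => hdisj ψ hψ ((hs₂ ψ).mp h)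
    rw [map_add, map_smul, map_smul, this, smul_zero, add_zero]
  have hcomp₂ : ∀ (c d : K) ψ, ψ ∈ O₂ → proj ρ ψ (c • v₁ + d • v₂) = d • proj ρ ψ v₂ := by
    intro c d ψ hψ
    have : proj ρ ψ v₁ = 0 := by_contra fun h => hdisj ψ ((hs₁ ψ).mp h) hψ
    rw [map_add, map_smul, map_smul, this, smul_zero, zero_add]
  have hinj : Function.Injective f := by
    intro c d hcd
    have h := congrArg Subtype.val hcd
    simp only [f] at h
    refine Prod.ext ?_ ?_
    · have := congrArg (proj ρ χ₁) h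
      rw [hcomp₁ _ _ _ (MulAction.mem_orbit_self _), hcomp₁ _ _ _ (MulAction.mem_orbit_self _)] at this
      exact smul_left_injective K ((hs₁ χ₁).mpr (MulAction.mem_orbit_self _)) this
    · have := congrArg (proj ρ χ₂) h
      rw [hcomp₂ _ _ _ (MulAction.mem_orbit_self _), hcomp₂ _ _ _ (MulAction.mem_orbit_self _)] at this
      exact smul_left_injective K ((hs₂ χ₂).mpr (MulAction.mem_orbit_self _)) this
  have hcardKK : Nat.card (K × K) = Nat.card K ^ 2 := by rw [Nat.card_prod, sq]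
  refine ⟨hcardKK ▸ Nat.card_le_card_of_injective f hinj, fun hcard hinv => ?_⟩
  have hbij : Function.Bijective f :=
    (Nat.bijective_iff_injective_and_card f).mpr ⟨hinj, by rw [hcardKK, hcard]⟩
  have hswap : ∀ (v : V) (O O' : Set (↥P →* Kˣ)), (∀ ψ, proj ρ ψ v ≠ 0 ↔ ψ ∈ O) →
      ∀ ψ, proj ρ ψ (ρ (y : S) v) ≠ 0 ↔ ψ ∈ (y : S) • O := by
    intro v O O' hv ψ
    rw [Set.mem_smul_set_iff_inv_smul_mem, ← hv]
    conv_lhs => rw [← smul_inv_smul (y : S) ψ, ← conj_proj]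
    refine ⟨fun h h0 => h (by rw [h0, map_zero]), fun h h0 => h ?_⟩
    have := congrArg (ρ (y : S)⁻¹) h0
    rwa [map_zero, ← Module.End.mul_apply, ← map_mul, inv_mul_cancel, map_one,
      Module.End.one_apply] at this
  have hstep : ∀ (v : V) χ, χ ∈ X → (χ = χ₁ ∨ χ = χ₂) → (∀ t ∈ T, ρ t v = v) →
      (∀ ψ, proj ρ ψ v ≠ 0 ↔ ψ ∈ MulAction.orbit ↥T χ) →
      ((y : S) • MulAction.orbit ↥T χ = O₁ ∧ χ = χ₂) ∨
        ((y : S) • MulAction.orbit ↥T χ = O₂ ∧ χ = χ₁) := by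
    intro v χ hχ hor hf hs
    obtain ⟨⟨c, d⟩, hcd⟩ := hbij.2 ⟨ρ (y : S) v, hinv y y.2 v hf⟩
    have hval : c • v₁ + d • v₂ = ρ (y : S) v := congrArg Subtype.val hcd
    have hs' := hswap v _ O₁ hs
    rw [← hval] at hs'
    have hcard : ∀ A, A = (y : S) • MulAction.orbit ↥T χ → A.ncard = (MulAction.orbit ↥T χ).ncard := by
      rintro A rfl; rw [Set.ncard_smul_set]
    by_cases hc : c = 0
    · have hd : d ≠ 0 := by
        intro hd
        have hy0 : ∀ ψ : ↥P →* Kˣ, proj ρ ψ (c • v₁ + d • v₂) = 0 := fun ψ => by simp [hc, hd]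
        exact (hs' ((y : S) • χ)).mpr (Set.smul_mem_smul_set (MulAction.mem_orbit_self _)) (hy0 _)
      have he : (y : S) • MulAction.orbit ↥T χ = O₂ := by
        ext ψ
        rw [← hs', hc, zero_smul, zero_add, map_smul, ne_eq, smul_eq_zero, not_or]
        exact ⟨fun h => (hs₂ ψ).mp h.2, fun h => ⟨hd, (hs₂ ψ).mpr h⟩⟩
      rcases hor with rfl | rfl
      · exact Or.inr ⟨he, rfl⟩
      · exact absurd he (hOno _ hχ)
    · have h1 : O₁ ⊆ (y : S) • MulAction.orbit ↥T χ := fun ψ hψ => (hs' ψ).mp (by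
        rw [hcomp₁ _ _ _ hψ]; exact smul_ne_zero hc ((hs₁ ψ).mpr hψ))
      by_cases hd : d = 0
      · have he : (y : S) • MulAction.orbit ↥T χ = O₁ := by
          ext ψ
          rw [← hs', hd, zero_smul, add_zero, map_smul, ne_eq, smul_eq_zero, not_or]
          exact ⟨fun h => (hs₁ ψ).mp h.2, fun h => ⟨hc, (hs₁ ψ).mpr h⟩⟩
        rcases hor with rfl | rfl
        · exact absurd he (hOno _ hχ)
        · exact Or.inl ⟨he, rfl⟩
      · have h2 : O₂ ⊆ (y : S) • MulAction.orbit ↥T χ := fun ψ hψ => (hs' ψ).mp (by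
          rw [hcomp₂ _ _ _ hψ]; exact smul_ne_zero hd ((hs₂ ψ).mpr hψ))
        exfalso
        have h12 := Set.ncard_le_ncard (Set.union_subset h1 h2) (Set.toFinite _)
        rw [Set.ncard_union_eq (Set.disjoint_left.mpr hdisj) (Set.toFinite _) (Set.toFinite _),
          hcard _ rfl] at h12
        have p1 : 0 < O₁.ncard := (Set.ncard_pos (Set.toFinite _)).mpr ⟨χ₁, MulAction.mem_orbit_self _⟩
        have p2 : 0 < O₂.ncard := (Set.ncard_pos (Set.toFinite _)).mpr ⟨χ₂, MulAction.mem_orbit_self _⟩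
        rcases hor with rfl | rfl
        · exact absurd h12 (by show ¬ O₁.ncard + O₂.ncard ≤ O₁.ncard; omega)
        · exact absurd h12 (by show ¬ O₁.ncard + O₂.ncard ≤ O₂.ncard; omega)
  have hne12 : χ₁ ≠ χ₂ := fun h => hχ₂O (h ▸ MulAction.mem_orbit_self _)
  have e1 : (y : S) • O₁ = O₂ := by
    rcases hstep v₁ χ₁ hχ₁X (Or.inl rfl) hf₁ hs₁ with ⟨_, h⟩ | ⟨h, _⟩
    · exact absurd h hne12
    · exact h
  have e2 : (y : S) • O₂ = O₁ := by
    rcases hstep v₂ χ₂ hχ₂X (Or.inr rfl) hf₂ hs₂ with ⟨h, _⟩ | ⟨_, h⟩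
    · exact h
    · exact absurd h.symm hne12
  apply hOno χ₁ hχ₁X
  have hyq : (y : S) ^ q = 1 := by
    have h6 : y ^ Nat.card ↥Q = 1 := pow_card_eq_one'
    rw [hQ] at h6
    exact congrArg Subtype.val h6
  have h2 : (y : S) ^ 2 ∈ MulAction.stabilizer S O₁ := by
    rw [MulAction.mem_stabilizer_iff, sq, mul_smul, e1, e2]
  obtain ⟨j, hj⟩ := (Fact.out : q.Prime).odd_of_ne_two hq2
  have h3 : (y : S) ∈ MulAction.stabilizer S O₁ := by
    have : (y : S) = ((y : S) ^ 2) ^ (j + 1) := by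
      rw [← pow_mul, show 2 * (j + 1) = q + 1 by omega, pow_succ, hyq, one_mul]
    rw [this]
    exact pow_mem h2 _
  exact h3

end Weights

section BaseChange

variable {R : Type*} [Monoid R] {E : Type*} [AddCommGroup E] [Module (ZMod 2) E]

/-- Extension of scalars of a representation over the field with two elements. -/
noncomputable def extend (K : Type*) [Field K] [Algebra (ZMod 2) K]
    (ρ : Representation (ZMod 2) R E) : Representation K R (K ⊗[ZMod 2] E) where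
  toFun s := (ρ s).baseChange K
  map_one' := by rw [map_one]; exact LinearMap.baseChange_id
  map_mul' s t := by rw [map_mul]; exact LinearMap.baseChange_comp _ _

theorem coords_extend {K : Type*} [Field K] [Algebra (ZMod 2) K] {ι : Type*} [DecidableEq ι]
    (b : Module.Basis ι (ZMod 2) K) (ρ : Representation (ZMod 2) R E) (s : R)
    (u : K ⊗[ZMod 2] E) (i : ι) :
    TensorProduct.equivFinsuppOfBasisLeft b (extend K ρ s u) i =
      ρ s (TensorProduct.equivFinsuppOfBasisLeft b u i) := by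
  induction u using TensorProduct.induction_on with
  | zero => simp
  | tmul k e => simp [extend, map_smul]
  | add a c ha hc => simp only [map_add, Finsupp.add_apply, ha, hc]

end BaseChange

/-- Let S be a finite solvable group whose order is divisible only by the primes 2, p, q (p, q distinct odd primes), with a Sylow system S₂, S_p, S_q (pairwise permutable Sylow subgroups) such that: S_p is a minimal normal subgroup of S of order p or p²; S_q has order q and [S_p, S_q] = S_p; and O₂(S) = 1. Let E be an irreducible module for S over the field with two elements on which S_p acts faithfully, and E₀ the subspace of fixed points of S₂. Then either E₀ has at least 8 elements, or E₀ has exactly 4 elements and S_q does not leave E₀ invariant. -/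
theorem result {S : Type*} [Group S] [Finite S]
    [Group.IsSolvable S] (p q : ℕ) (hp : p.Prime) (hq : q.Prime) (hp2 : p ≠ 2) (hq2 : q ≠ 2) (hpq : p ≠ q)
    (hπ : ∀ r : ℕ, r.Prime → r ∣ Nat.card S → r = 2 ∨ r = p ∨ r = q)
    (S₂ : Sylow 2 S) (Sp : Sylow p S) (Sq : Sylow q S)
    (h2q : Nat.card ↥((S₂ : Subgroup S) ⊔ (Sq : Subgroup S)) = Nat.card ↥S₂ * Nat.card ↥Sq)
    (h2p : Nat.card ↥((S₂ : Subgroup S) ⊔ (Sp : Subgroup S)) = Nat.card ↥S₂ * Nat.card ↥Sp)
    (hpq' : Nat.card ↥((Sp : Subgroup S) ⊔ (Sq : Subgroup S)) = Nat.card ↥Sp * Nat.card ↥Sq)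
    (hSpN : (Sp : Subgroup S).Normal) (hSpmin : ∀ N : Subgroup S, N.Normal → N ≤ (Sp : Subgroup S) → N = ⊥ ∨ N = (Sp : Subgroup S))
    (hSpcard : Nat.card ↥Sp = p ∨ Nat.card ↥Sp = p ^ 2)
    (hSq : Nat.card ↥Sq = q) (hcomm : ⁅(Sp : Subgroup S), (Sq : Subgroup S)⁆ = (Sp : Subgroup S))
    (hO2 : Cfsg.pCore 2 S = ⊥)
    {E : Type*} [AddCommGroup E] [Module (ZMod 2) E] [Finite E] (ρ : Representation (ZMod 2) S E) (hE : Nontrivial E)
    (hirr : ∀ N : Submodule (ZMod 2) E, (∀ s : S, ∀ m ∈ N, ρ s m ∈ N) → N = ⊥ ∨ N = ⊤)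
    (hfaith : ∀ x ∈ (Sp : Subgroup S), ρ x = 1 → x = 1) :
    8 ≤ Nat.card {v : E // ∀ s ∈ (S₂ : Subgroup S), ρ s v = v} ∨
      (Nat.card {v : E // ∀ s ∈ (S₂ : Subgroup S), ρ s v = v} = 4 ∧
        ∃ x ∈ (Sq : Subgroup S), ∃ v : E, (∀ s ∈ (S₂ : Subgroup S), ρ s v = v) ∧ ¬ ∀ s ∈ (S₂ : Subgroup S), ρ s (ρ x v) = ρ x v) := by
  classical
  haveI := Fact.mk hp
  haveI := Fact.mk hq
  haveI := hSpN
  set P : Subgroup S := (Sp : Subgroup S) with hPdef
  have hPc : IsMulCommutative ↥P := by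
    rcases hSpcard with h | h
    · haveI := isCyclic_of_prime_card h
      exact IsCyclic.isMulCommutative
    · exact ⟨⟨fun a b => IsPGroup.commutative_of_card_eq_prime_sq h a b⟩⟩
  letI : CommGroup ↥P := { (inferInstance : Group ↥P) with mul_comm := hPc.is_comm.comm }
  haveI : Fintype ↥P := Fintype.ofFinite _
  set N := Fintype.card ↥P with hN
  have hNp : N = p ∨ N = p ^ 2 := by
    rw [hN, ← Nat.card_eq_fintype_card]; exact hSpcard
  have hNodd : Odd N := by
    rcases hNp with h | h <;> rw [h]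
    · exact hp.odd_of_ne_two hp2
    · exact (hp.odd_of_ne_two hp2).pow
  have hN1 : 1 < N := by
    rcases hNp with h | h <;> rw [h]
    · exact hp.one_lt
    · exact Nat.one_lt_pow two_ne_zero hp.one_lt
  haveI : Fact (Nat.Prime 2) := ⟨Nat.prime_two⟩
  set n := N.totient with hndef
  have hn : n ≠ 0 := (Nat.totient_pos.mpr (by omega)).ne'
  set K := GaloisField 2 n
  have hKcard : Nat.card K = 2 ^ n := GaloisField.card 2 n hn
  haveI : Finite K := inferInstance
  haveI : NeZero (Monoid.exponent ↥P) := ⟨Monoid.exponent_ne_zero_of_finite⟩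
  have hdvd : N ∣ 2 ^ n - 1 :=
    (Nat.modEq_iff_dvd' Nat.one_le_two_pow).mp
      (Nat.ModEq.pow_totient (hNodd.coprime_two_left)).symm
  haveI : HasEnoughRootsOfUnity K (Monoid.exponent ↥P) := by
    refine ⟨?_, inferInstance⟩
    obtain ⟨g, hg⟩ := IsCyclic.exists_ofOrder_eq_natCard (α := Kˣ)
    have hg' : orderOf g = 2 ^ n - 1 := by rw [hg, Nat.card_units, hKcard]
    have he : Monoid.exponent ↥P ∣ 2 ^ n - 1 := Group.exponent_dvd_card.trans hdvd
    obtain ⟨c, hc⟩ := he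
    have hpos : 2 ^ n - 1 ≠ 0 := by
      have : 2 ≤ 2 ^ n := Nat.le_self_pow hn 2
      omega
    have hc0 : c ≠ 0 := by rintro rfl; simp at hc; exact hpos (by omega)
    refine ⟨((g ^ c : Kˣ) : K), IsPrimitiveRoot.coe_units_iff.mpr ?_⟩
    have : orderOf (g ^ c) = Monoid.exponent ↥P := by
      rw [orderOf_pow' _ hc0, hg', hc, Nat.gcd_eq_right (dvd_mul_left c _),
        Nat.mul_div_cancel _ (Nat.pos_of_ne_zero hc0)]
    rw [← this]
    exact IsPrimitiveRoot.orderOf _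
  let b := Module.finBasisOfFinrankEq (ZMod 2) K (GaloisField.finrank 2 hn)
  let Φ := TensorProduct.equivFinsuppOfBasisLeft (N := E) b
  haveI : Finite (K ⊗[ZMod 2] E) := Finite.of_injective (fun u => (Φ u : Fin n → E))
    (fun u v h => Φ.injective (DFunLike.coe_injective h))
  have hnoP : ∀ v : E, (∀ a : ↥P, ρ (a : S) v = v) → v = 0 := by
    let N₀ : Submodule (ZMod 2) E :=
      { carrier := {v | ∀ a : ↥P, ρ (a : S) v = v}
        add_mem' := fun ha hb a => by rw [map_add, ha a, hb a]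
        zero_mem' := fun a => map_zero _
        smul_mem' := fun c v hv a => by rw [map_smul, hv a] }
    have hinv : ∀ s : S, ∀ m ∈ N₀, ρ s m ∈ N₀ := by
      intro s m hm a
      have h1 := hm (MulAut.conjNormal s⁻¹ a)
      rw [MulAut.conjNormal_apply, inv_inv, map_mul, map_mul, Module.End.mul_apply,
        Module.End.mul_apply] at h1
      have h2 := congrArg (ρ s) h1
      rw [← Module.End.mul_apply, ← map_mul, mul_inv_cancel, map_one, Module.End.one_apply] at h2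
      exact h2
    rcases hirr N₀ hinv with h | h
    · intro v hv
      have : v ∈ N₀ := hv
      rw [h] at this
      exact this
    · exfalso
      haveI : Nontrivial ↥P := Fintype.one_lt_card_iff_nontrivial.mp hN1
      obtain ⟨a, ha⟩ := exists_ne (1 : ↥P)
      apply ha
      refine Subtype.ext (hfaith a a.2 (LinearMap.ext fun v => ?_))
      have : v ∈ N₀ := by rw [h]; trivial
      simpa using this a
  let ρK : Representation K S (K ⊗[ZMod 2] E) := extend K ρ
  have hfix : ∀ (H : Subgroup S) (u : K ⊗[ZMod 2] E),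
      (∀ s ∈ H, ρK s u = u) ↔ ∀ i, ∀ s ∈ H, ρ s (Φ u i) = Φ u i := by
    intro H u
    constructor
    · intro h i s hs
      rw [← coords_extend b ρ s u i]
      exact congrArg (fun w => Φ w i) (h s hs)
    · intro h s hs
      apply Φ.injective
      ext i
      rw [coords_extend b ρ s u i]
      exact h i s hs
  haveI : Nontrivial (K ⊗[ZMod 2] E) := by
    obtain ⟨e, he⟩ := exists_ne (0 : E)
    haveI : Nonempty (Fin n) := ⟨⟨0, Nat.pos_of_ne_zero hn⟩⟩
    refine ⟨⟨Φ.symm (Finsupp.single (Classical.arbitrary _) e), 0, fun h => he ?_⟩⟩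
    have := congrArg Φ h
    rw [LinearEquiv.apply_symm_apply, map_zero] at this
    exact Finsupp.single_eq_zero.mp this
  obtain ⟨hge, hnot⟩ := weights ρK (P := P) hNodd
    (fun a ha => CommGroup.exists_apply_ne_one_of_hasEnoughRootsOfUnity ↥P K ha)
    (fun v hv => Φ.injective (by
      ext i
      rw [map_zero, Finsupp.zero_apply]
      exact hnoP _ fun a => (hfix P v).mp (fun s hs => hv ⟨s, hs⟩) i a a.2))
    (S₂ : Subgroup S) S₂.isPGroup' (Sq : Subgroup S) q hq2 hSq hcomm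
  let e0 : {v : K ⊗[ZMod 2] E // ∀ t ∈ (S₂ : Subgroup S), ρK t v = v} ≃
      (Fin n → {v : E // ∀ s ∈ (S₂ : Subgroup S), ρ s v = v}) :=
    { toFun := fun u i => ⟨Φ u.1 i, (hfix _ u.1).mp u.2 i⟩
      invFun := fun g => ⟨Φ.symm (Finsupp.equivFunOnFinite.symm fun i => (g i).1),
        (hfix _ _).mpr fun i => by
          rw [LinearEquiv.apply_symm_apply]
          simpa using (g i).2⟩
      left_inv := fun u => Subtype.ext (Φ.injective (by ext i; simp))
      right_inv := fun g => funext fun i => Subtype.ext (by simp) }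
  rw [Nat.card_congr e0, Nat.card_fun, Nat.card_fin, hKcard] at hge hnot
  let E₀ : Submodule (ZMod 2) E :=
    { carrier := {v | ∀ s ∈ (S₂ : Subgroup S), ρ s v = v}
      add_mem' := fun ha hb s hs => by rw [map_add, ha s hs, hb s hs]
      zero_mem' := fun s _ => map_zero _
      smul_mem' := fun c v hv s hs => by rw [map_smul, hv s hs] }
  obtain ⟨k, hk⟩ : ∃ k, Nat.card {v : E // ∀ s ∈ (S₂ : Subgroup S), ρ s v = v} = 2 ^ k := by
    refine ⟨Module.finrank (ZMod 2) ↥E₀, ?_⟩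
    have h := Module.natCard_eq_pow_finrank (K := ZMod 2) (V := ↥E₀)
    rw [Nat.card_zmod] at h
    exact h
  rw [hk, ← pow_mul, ← pow_mul] at hge hnot
  have h2k : 2 ≤ k := by
    have := (Nat.pow_le_pow_iff_right (by norm_num : 1 < 2)).mp hge
    by_contra h
    push_neg at h
    have : k * n ≤ 1 * n := Nat.mul_le_mul_right n (by omega)
    omega
  rcases Nat.lt_or_ge k 3 with h3 | h3
  · right
    have hk2 : k = 2 := by omega
    refine ⟨by rw [hk, hk2]; norm_num, ?_⟩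
    by_contra hcon
    push_neg at hcon
    refine hnot (by rw [hk2, mul_comm]) fun x hx v hv => (hfix _ _).mpr fun i s hs => ?_
    rw [coords_extend b ρ x v i]
    exact hcon x hx _ (fun s hs => (hfix _ v).mp hv i s hs) s hs
  · left
    rw [hk]
    calc 8 = 2 ^ 3 := by norm_num
      _ ≤ 2 ^ k := Nat.pow_le_pow_right (by norm_num) h3

end Cfsg.Agent.S4414
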