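import Cfsg.Statements.S4415
import Cfsg.Agent.CubicBlock.Main

set_option autoImplicit false
open Cfsg

namespace Cfsg.Agent.S4415

/-- Let S be a finite solvable group acting faithfully on a finite-dimensional space E over the field with three elements, with O₃(S) = 1. Let B ≤ S have order 3 and suppose: E = E₀ ⊕ E₁ with B fixing E₁ pointwise, E₀ B-invariant of order 27 and indecomposable under B (a generator of B has a single Jordan block on E₀); B normalizes but does not centralize some subgroup Q of S that is elementary abelian of order 4; and B is the centre of a Sylow 3-subgroup of S. Put R = [O_{3'}(S), B]. Then R is elementary abelian of order 4 or extraspecial of order 32 containing an elementary abelian subgroup of order 8 (a central product of two quaternion groups), and E is the direct sum of a subspace fixed pointwise by R and an RB-invariant subspace on which the subgroup RB acts faithfully and irreducibly.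 -/
theorem result {S : Type*} [Group S] [Finite S]
    [Group.IsSolvable S] {E : Type*} [AddCommGroup E] [Module (ZMod 3) E] [Finite E] (ρ : Representation (ZMod 3) S E)
    (hfaith : Function.Injective ρ) (hO3 : Cfsg.pCore 3 S = ⊥)
    (B : Subgroup S) (hB : Nat.card ↥B = 3) (b : S) (hb : Subgroup.zpowers b = B)
    (E₀ E₁ : Submodule (ZMod 3) E) (hE01 : E₀ ⊓ E₁ = ⊥) (hE01' : E₀ ⊔ E₁ = ⊤)
    (hE1 : ∀ v ∈ E₁, ρ b v = v) (hE0inv : ∀ v ∈ E₀, ρ b v ∈ E₀) (hE0 : Nat.card ↥E₀ = 27)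
    (hind : ∃ v ∈ E₀, ρ b (ρ b v - v) - (ρ b v - v) ≠ 0)
    (Q : Subgroup S) (hQ : Cfsg.IsElementaryAbelian 2 Q) (hQ4 : Nat.card ↥Q = 4)
    (hBQ : B ≤ Subgroup.normalizer (Q : Set S)) (hBQ' : ¬ B ≤ Subgroup.centralizer (Q : Set S))
    (P : Sylow 3 S) (hBZ : (Subgroup.center ↥(P : Subgroup S)).map (P : Subgroup S).subtype = B) :
    ((Cfsg.IsElementaryAbelian 2 ⁅Cfsg.pPrimeCore 3 S, B⁆ ∧ Nat.card ↥⁅Cfsg.pPrimeCore 3 S, B⁆ = 4) ∨
      (Cfsg.IsExtraspecial 2 ↥⁅Cfsg.pPrimeCore 3 S, B⁆ ∧ Nat.card ↥⁅Cfsg.pPrimeCore 3 S, B⁆ = 32 ∧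
        ∃ A : Subgroup S, A ≤ ⁅Cfsg.pPrimeCore 3 S, B⁆ ∧ Cfsg.IsElementaryAbelian 2 A ∧ Nat.card ↥A = 8)) ∧
    ∃ F₀ F₁ : Submodule (ZMod 3) E, F₀ ⊓ F₁ = ⊥ ∧ F₀ ⊔ F₁ = ⊤ ∧
      (∀ r ∈ ⁅Cfsg.pPrimeCore 3 S, B⁆, ∀ v ∈ F₁, ρ r v = v) ∧ (∀ r ∈ ⁅Cfsg.pPrimeCore 3 S, B⁆ ⊔ B, ∀ v ∈ F₀, ρ r v ∈ F₀) ∧
      (∀ r ∈ ⁅Cfsg.pPrimeCore 3 S, B⁆ ⊔ B, (∀ v ∈ F₀, ρ r v = v) → r = 1) ∧
      (∀ N : Submodule (ZMod 3) E, N ≤ F₀ → (∀ r ∈ ⁅Cfsg.pPrimeCore 3 S, B⁆ ⊔ B, ∀ v ∈ N, ρ r v ∈ N) → N = ⊥ ∨ N = F₀) := by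
  classical
  haveI : Module.Finite (ZMod 3) E := Module.Finite.of_finite
  subst hb
  haveI : Fact (Nat.Prime 2) := ⟨Nat.prime_two⟩
  haveI : Fact (Nat.Prime 3) := ⟨Nat.prime_three⟩
  have hb3 : b ^ 3 = 1 := by rw [← hB, Nat.card_zpowers]; exact pow_orderOf_eq_one b
  have hfr : Module.finrank (ZMod 3) E₀ = 3 := by
    have h := Module.natCard_eq_pow_finrank (K := ZMod 3) (V := E₀)
    rw [hE0, Nat.card_zmod] at h
    exact (Nat.pow_right_injective (le_of_lt (by norm_num : 2 < 3)) (h.symm.trans (by norm_num : (27:ℕ) = 3 ^ 3)))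
  obtain ⟨v, hv, hv'⟩ := hind
  have hd3 : ∀ u, (ρ b - 1) ((ρ b - 1) ((ρ b - 1) u)) = 0 := by
    intro u
    have h : ρ b (ρ b (ρ b u)) = u := by
      rw [← CfsgLib.CubicBlock.rho_mul, ← CfsgLib.CubicBlock.rho_mul, ← pow_three', hb3,
        CfsgLib.CubicBlock.rho_one]
    simp only [CfsgLib.CubicBlock.d_apply, map_sub]
    rw [h]
    calc u - ρ b (ρ b u) - (ρ b (ρ b u) - ρ b u) - (ρ b (ρ b u) - ρ b u - (ρ b u - u))
        = (ρ b u + ρ b u + ρ b u) - (ρ b (ρ b u) + ρ b (ρ b u) + ρ b (ρ b u)) := by abel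
      _ = 0 := by rw [CfsgLib.CubicBlock.three, CfsgLib.CubicBlock.three, sub_zero]
  -- the range lies in a proper subspace of the block
  let dd : E₀ →ₗ[ZMod 3] E₀ := (ρ b - 1).restrict (fun u hu => by
    rw [CfsgLib.CubicBlock.d_apply]; exact E₀.sub_mem (hE0inv u hu) hu)
  have hker : LinearMap.ker dd ≠ ⊥ := by
    intro h
    apply hv'
    have h0 := hd3 v
    have hinj := LinearMap.ker_eq_bot.1 h
    let v' : E₀ := ⟨v, hv⟩
    have h1 : dd (dd (dd v')) = 0 := Subtype.ext h0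
    have h2 : dd (dd v') = 0 := hinj (h1.trans (map_zero dd).symm)
    have := congrArg Subtype.val h2
    simpa [dd, v', CfsgLib.CubicBlock.d_apply, LinearMap.restrict_apply, map_sub] using this
  have hrank : Module.finrank (ZMod 3) (LinearMap.range (ρ b - 1)) ≤ 2 := by
    have hle : LinearMap.range (ρ b - 1) ≤ (LinearMap.range dd).map E₀.subtype := by
      rintro _ ⟨u, rfl⟩
      obtain ⟨x, hx, y, hy, rfl⟩ :=
        Submodule.mem_sup.1 (hE01' ▸ Submodule.mem_top (x := u) : u ∈ E₀ ⊔ E₁)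
      refine ⟨dd ⟨x, hx⟩, ⟨_, rfl⟩, ?_⟩
      show (ρ b - 1) x = (ρ b - 1) (x + y)
      rw [map_add, CfsgLib.CubicBlock.d_apply y, hE1 y hy, sub_self, add_zero]
    have h1 := LinearMap.finrank_range_add_finrank_ker dd
    have h2 : 0 < Module.finrank (ZMod 3) (LinearMap.ker dd) :=
      Nat.pos_of_ne_zero fun h => hker (Submodule.finrank_eq_zero.1 h)
    have h3 := (Submodule.finrank_mono hle).trans (Submodule.finrank_map_le _ _)
    omega
  have H : CfsgLib.CubicBlock.Hyp ρ b :=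
    ⟨hfaith, hb3, hrank, v, by simpa [CfsgLib.CubicBlock.d_apply, map_sub] using hv'⟩
  -- the four group
  obtain ⟨g, hgQ, hgb⟩ : ∃ g ∈ Q, b * g * b⁻¹ ≠ g := by
    by_contra hno
    push Not at hno
    refine hBQ' (Subgroup.zpowers_le.2 (Subgroup.mem_centralizer_iff.2 fun x hx => ?_))
    exact ((mul_inv_eq_iff_eq_mul.1 (hno x hx))).symm
  have hconjQ : ∀ x ∈ Q, b * x * b⁻¹ ∈ Q := fun x hx =>
    (Subgroup.mem_normalizer_iff.1 (hBQ (Subgroup.mem_zpowers b)) x).1 hx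
  have hsq : ∀ x ∈ Q, x * x = 1 := fun x hx => by rw [← pow_two]; exact hQ.2 x hx
  have hg1 : g ≠ 1 := by rintro rfl; exact hgb (by simp)
  set g1 := b * g * b⁻¹ with hg1d
  set g2 := b * g1 * b⁻¹ with hg2d
  have hg1Q : g1 ∈ Q := hconjQ g hgQ
  have hg2Q : g2 ∈ Q := hconjQ g1 hg1Q
  have hg11 : g1 ≠ 1 := fun e => hg1 (by
    calc g = b⁻¹ * g1 * b := by rw [hg1d]; group
      _ = 1 := by rw [e, mul_one, inv_mul_cancel])
  have hmul : g * g1 ≠ 1 := fun e => hgb
    ((eq_inv_of_mul_eq_one_right e).trans (inv_eq_of_mul_eq_one_left (hsq g hgQ)))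
  have hall : ∀ x ∈ Q, x = 1 ∨ x = g ∨ x = g1 ∨ x = g * g1 := by
    intro x hx
    by_contra hno
    push Not at hno
    obtain ⟨n1, n2, n3, n4⟩ := hno
    have hsub : (({1, g, g1, g * g1, x} : Finset S) : Set S) ⊆ Q := by
      intro y hy
      simp only [Finset.coe_insert, Finset.coe_singleton, Set.mem_insert_iff,
        Set.mem_singleton_iff] at hy
      rcases hy with rfl | rfl | rfl | rfl | rfl
      exacts [one_mem Q, hgQ, hg1Q, mul_mem hgQ hg1Q, hx]
    have h := Set.ncard_le_ncard hsub (Set.toFinite _)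
    rw [Set.ncard_coe_finset, ← Nat.card_coe_set_eq, show Nat.card (Q : Set S) = 4 from hQ4] at h
    rw [Finset.card_insert_of_notMem, Finset.card_insert_of_notMem, Finset.card_insert_of_notMem,
      Finset.card_insert_of_notMem, Finset.card_singleton] at h
    · omega
    · simpa using n4.symm
    · simp only [Finset.mem_insert, Finset.mem_singleton, not_or]
      exact ⟨fun e => hg1 (mul_eq_right.1 e.symm), n3.symm⟩
    · simp only [Finset.mem_insert, Finset.mem_singleton, not_or]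
      exact ⟨hgb.symm, fun e => hg11 (mul_eq_left.1 e.symm), n2.symm⟩
    · simp only [Finset.mem_insert, Finset.mem_singleton, not_or]
      exact ⟨hg1.symm, hg11.symm, hmul.symm, n1.symm⟩
  have F : CfsgLib.CubicBlock.Four b g := by
    refine CfsgLib.CubicBlock.four_mk hb3 (hsq g hgQ) ?_ hg1
    show g * g1 * g2 = 1
    rcases hall g2 hg2Q with h | h | h | h
    · exact absurd (show g1 = 1 from
        (conj_eq_one_iff (a := b)).1 (by rw [← h, hg2d])) hg11
    · exfalso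
      have h3 := CfsgLib.CubicBlock.conj_cube hb3 g
      rw [← hg1d, ← hg2d, h] at h3
      exact hgb h3
    · exfalso
      refine hgb ?_
      calc g1 = b⁻¹ * g2 * b := by rw [hg2d]; group
        _ = b⁻¹ * g1 * b := by rw [h]
        _ = g := by rw [hg1d]; group
    · rw [h, hsq _ (mul_mem hgQ hg1Q)]
  rcases CfsgLib.CubicBlock.main H hO3 F with ⟨g', F', h⟩ | ⟨hc, hex, hA, hblk⟩
  · rw [h]
    exact ⟨Or.inl ⟨(CfsgLib.CubicBlock.card_fourGroup H F').2,
      (CfsgLib.CubicBlock.card_fourGroup H F').1⟩, F'.block H⟩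
  · exact ⟨Or.inr ⟨hex, hc, hA⟩, hblk⟩

end Cfsg.Agent.S4415
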