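import Cfsg.Statements.S4420
import Mathlib.GroupTheory.Nilpotent
import Mathlib.GroupTheory.PGroup
import Mathlib.GroupTheory.Index

set_option autoImplicit false
set_option linter.style.haveILetI false
open Cfsg

namespace Cfsg.Agent.S4420

/-- Structure of groups in which every element outside some proper subgroup has square 1. Let H be a finite group with a proper subgroup A such that every element outside A has square 1. Then H has an abelian normal subgroup B of index 2 such that every element outside B is an involution inverting every element of B; and if H is not an elementary abelian 2-group, B is the only abelian normal subgroup of index 2 with this property. -/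
theorem result {H : Type*} [Group H] [Finite H] (A : Subgroup H) (hA : A ≠ ⊤) (hD : ∀ x : H, x ∉ A → x ^ 2 = 1) :
    ∃ B : Subgroup H, B.Normal ∧ IsMulCommutative ↥B ∧ B.index = 2 ∧
      (∀ x : H, x ∉ B → x ^ 2 = 1 ∧ ∀ b ∈ B, x * b * x⁻¹ = b⁻¹) ∧
      (¬ (IsMulCommutative H ∧ ∀ x : H, x ^ 2 = 1) →
        ∀ B' : Subgroup H, B'.Normal → IsMulCommutative ↥B' → B'.index = 2 →
          (∀ x : H, x ∉ B' → x ^ 2 = 1 ∧ ∀ b ∈ B', x * b * x⁻¹ = b⁻¹) → B' = B) := by
  classical
  have hinvA : ∀ x, x ∉ A → ∀ a ∈ A, x * a * x⁻¹ = a⁻¹ := by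
    intro x hx a ha
    have hxa : x * a ∉ A := fun h => hx (by simpa using mul_mem h (inv_mem ha))
    have h1 := hD _ hxa
    have h2 := hD x hx
    rw [sq] at h1 h2
    rw [← eq_inv_of_mul_eq_one_left h2]
    exact eq_inv_of_mul_eq_one_left (by simpa [mul_assoc] using h1)
  obtain ⟨x0, hx0⟩ : ∃ x, x ∉ A := by
    by_contra! h
    exact hA ((Subgroup.eq_top_iff' A).2 h)
  have hAab : ∀ a ∈ A, ∀ b ∈ A, a * b = b * a := by
    intro a ha b hb
    have h1 := hinvA x0 hx0 (a * b) (mul_mem ha hb)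
    have h2 : x0 * (a * b) * x0⁻¹ = (x0 * a * x0⁻¹) * (x0 * b * x0⁻¹) := by group
    rw [h1, hinvA x0 hx0 a ha, hinvA x0 hx0 b hb, mul_inv_rev] at h2
    have := congrArg (·⁻¹) h2
    simpa using this
  by_cases hE : ∀ x : H, x ^ 2 = 1
  · have hcomm : ∀ a b : H, a * b = b * a := by
      intro a b
      have ha := hE a; have hb := hE b; have hab := hE (a * b)
      rw [sq] at ha hb hab
      calc a * b = (a * b)⁻¹ := eq_inv_of_mul_eq_one_left hab
        _ = b⁻¹ * a⁻¹ := mul_inv_rev _ _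
        _ = b * a := by rw [← eq_inv_of_mul_eq_one_left ha, ← eq_inv_of_mul_eq_one_left hb]
    haveI : Fact (Nat.Prime 2) := ⟨Nat.prime_two⟩
    have hp : IsPGroup 2 H := fun g => ⟨1, by rw [pow_one]; exact hE g⟩
    obtain ⟨M, hM, -⟩ := (eq_top_or_exists_le_coatom A).resolve_left hA
    have hMn : M.Normal := ⟨fun m hm g => by rwa [hcomm g m, mul_inv_cancel_right]⟩
    obtain ⟨c, hc⟩ : ∃ c, c ∉ M := by
      by_contra! h
      exact hM.1 ((Subgroup.eq_top_iff' M).2 h)
    have hidx : M.index = 2 := by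
      rw [Subgroup.index_eq_two_iff]
      refine ⟨c, fun b => ?_⟩
      have hsup := hM.2 (M ⊔ Subgroup.zpowers c) (lt_of_le_of_ne le_sup_left (fun e => hc (e ▸ Subgroup.mem_sup_right (Subgroup.mem_zpowers c))))
      haveI := hMn
      have hb : b ∈ M ⊔ Subgroup.zpowers c := hsup ▸ Subgroup.mem_top b
      rw [← SetLike.mem_coe, Subgroup.normal_mul] at hb
      obtain ⟨m, hm, z, hz, rfl⟩ := Set.mem_mul.1 hb
      have hc2 : c * c = 1 := by rw [← sq]; exact hE c
      have hc2' : c ^ (2 : ℤ) = 1 := by rw [zpow_ofNat]; exact hE c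
      obtain ⟨i, hi⟩ := Subgroup.mem_zpowers_iff.1 hz
      rcases Int.even_or_odd' i with ⟨j, rfl | rfl⟩
      · rw [zpow_mul, hc2', one_zpow] at hi
        subst hi
        refine Or.inr ⟨by rwa [mul_one], fun h => hc ?_⟩
        have h3 := mul_mem (inv_mem hm) h
        rwa [mul_one, inv_mul_cancel_left] at h3
      · rw [zpow_add, zpow_mul, hc2', one_zpow, zpow_one, one_mul] at hi
        subst hi
        refine Or.inl ⟨by rwa [mul_assoc, hc2, mul_one], fun h => hc ?_⟩
        have h3 := mul_mem (inv_mem hm) h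
        rwa [inv_mul_cancel_left] at h3
    refine ⟨M, hMn, ⟨⟨fun a b => Subtype.ext (hcomm a b)⟩⟩, hidx, fun x _ => ⟨hE x, fun b _ => ?_⟩,
      fun h => absurd ⟨⟨⟨hcomm⟩⟩, hE⟩ h⟩
    rw [hcomm x b, mul_inv_cancel_right]
    exact eq_inv_of_mul_eq_one_left (by rw [← sq]; exact hE b)
  push Not at hE
  obtain ⟨a0, ha0⟩ := hE
  have ha0A : a0 ∈ A := by by_contra h; exact ha0 (hD _ h)
  have hprod : ∀ x y, x ∉ A → y ∉ A → x * y ∈ A := by
    intro x y hx hy
    by_contra hxy
    have h1 := hinvA _ hxy a0 ha0A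
    have h2 : x * y * a0 * (x * y)⁻¹ = x * (y * a0 * y⁻¹) * x⁻¹ := by group
    rw [h1, hinvA y hy a0 ha0A, hinvA x hx _ (inv_mem ha0A), inv_inv] at h2
    exact ha0 (by rw [sq]; nth_rewrite 1 [← h2]; exact inv_mul_cancel a0)
  have hidx : A.index = 2 := by
    rw [Subgroup.index_eq_two_iff]
    refine ⟨x0, fun b => ?_⟩
    by_cases hb : b ∈ A
    · exact Or.inr ⟨hb, fun h => hx0 (by simpa using mul_mem (inv_mem hb) h)⟩
    · exact Or.inl ⟨hprod b x0 hb hx0, hb⟩
  refine ⟨A, Subgroup.normal_of_index_eq_two hidx, ⟨⟨fun a b => Subtype.ext (hAab a a.2 b b.2)⟩⟩,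
    hidx, fun x hx => ⟨hD x hx, hinvA x hx⟩, fun _ B' _ hB'c hB'i hB' => ?_⟩
  by_contra hne
  obtain ⟨x, hxA, hxB⟩ : ∃ x ∈ A, x ∉ B' := by
    by_contra! hle
    have h := Subgroup.relIndex_mul_index (show A ≤ B' from hle)
    rw [hidx, hB'i] at h
    exact hne (le_antisymm (Subgroup.relIndex_eq_one.1 (by omega)) hle)
  apply ha0
  by_cases haB : a0 ∈ B'
  · have h1 := (hB' x hxB).2 a0 haB
    rw [hAab x hxA a0 ha0A, mul_inv_cancel_right] at h1
    rw [sq]; nth_rewrite 1 [h1]; exact inv_mul_cancel a0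
  · exact (hB' a0 haB).1

end Cfsg.Agent.S4420
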