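import Cfsg.Statements.S4421

set_option autoImplicit false
set_option linter.style.haveILetI false
open Cfsg

namespace Cfsg.Agent.S4421

/-- A factorization of a normalizer from two-step control of fusion. Let `G` be a finite group and `A ≤ S ≤ H` subgroups of `G` such that: (i) `S` controls the `G`-fusion of `A` in the sense that every `G`-conjugate of `A` lying in `S` is an `S`-conjugate of `A`; (ii) `H` controls the `G`-fusion of `S` in the same sense; (iii) every conjugate of `S` by an element of the normalizer of `A` lies in `H`. Then `N_G(A) = N_H(A) · (N_G(S) ∩ N_G(A))`: every element of the normalizer of `A` is a product of an element of `H` normalizing `A` and an element normalizing both `S` and `A`. -/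
theorem result {G : Type*} [Group G] [Finite G] (A S H : Subgroup G)
    (hAS : A ≤ S) (hSH : S ≤ H)
    (h1 : ∀ g : G, A.map (MulAut.conj g).toMonoidHom ≤ S → ∃ s ∈ S, A.map (MulAut.conj g).toMonoidHom = A.map (MulAut.conj s).toMonoidHom)
    (h2 : ∀ g : G, S.map (MulAut.conj g).toMonoidHom ≤ H → ∃ y ∈ H, S.map (MulAut.conj g).toMonoidHom = S.map (MulAut.conj y).toMonoidHom)
    (h3 : ∀ x ∈ Subgroup.normalizer (A : Set G), S.map (MulAut.conj x).toMonoidHom ≤ H) :
    ∀ x ∈ Subgroup.normalizer (A : Set G), ∃ y ∈ H ⊓ Subgroup.normalizer (A : Set G),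
      ∃ z ∈ Subgroup.normalizer (S : Set G) ⊓ Subgroup.normalizer (A : Set G), x = y * z := by
  intro x hx
  set c : G → G →* G := fun g => (MulAut.conj g).toMonoidHom with hc
  have comp : ∀ (B : Subgroup G) (a b : G), B.map (c (a * b)) = (B.map (c b)).map (c a) := by
    intro B a b
    rw [Subgroup.map_map]
    congr 1
    ext t
    simp [hc, mul_assoc]
  have norm : ∀ (B : Subgroup G) (g : G),
      g ∈ Subgroup.normalizer (B : Set G) ↔ B.map (c g) = B := by
    intro B g
    rw [Subgroup.mem_normalizer_iff]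
    constructor
    · intro h
      ext t
      constructor
      · rintro ⟨b, hb, rfl⟩
        exact (h b).1 hb
      · intro ht
        exact ⟨g⁻¹ * t * g, (h _).2 (by simpa [mul_assoc] using ht), by simp [hc, mul_assoc]⟩
    · intro h b
      constructor
      · intro hb
        rw [← h]; exact ⟨b, hb, rfl⟩
      · intro hb
        rw [← h] at hb
        obtain ⟨b', hb', he⟩ := hb
        have : b' = b := (MulAut.conj g).injective he
        exact this ▸ hb'
  have hone : ∀ B : Subgroup G, B.map (c 1) = B := by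
    intro B
    rw [show c 1 = MonoidHom.id G by ext t; simp [hc], Subgroup.map_id]
  obtain ⟨y, hy, hSy⟩ := h2 x (h3 x hx)
  have hz0 : S.map (c (y⁻¹ * x)) = S := by
    rw [comp, hSy, ← comp, inv_mul_cancel, hone]
  have hAx : A.map (c x) = A := (norm A x).1 hx
  have hAy : A.map (c y⁻¹) = A.map (c (y⁻¹ * x)) := by rw [comp, hAx]
  obtain ⟨s, hs, hAs⟩ := h1 y⁻¹ (hAy ▸ hz0 ▸ Subgroup.map_mono hAS)
  have hys : y * s ∈ Subgroup.normalizer (A : Set G) := by
    rw [norm, comp, ← hAs, ← comp, mul_inv_cancel, hone]
  refine ⟨y * s, Subgroup.mem_inf.2 ⟨mul_mem hy (hSH hs), hys⟩, (y * s)⁻¹ * x,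
    Subgroup.mem_inf.2 ⟨?_, mul_mem (inv_mem hys) hx⟩, by group⟩
  rw [mul_inv_rev, mul_assoc]
  exact mul_mem (inv_mem (Subgroup.le_normalizer hs)) ((norm S _).2 hz0)

end Cfsg.Agent.S4421
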