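import Cfsg.Statements.S4422
import Mathlib.Data.ZMod.Basic
import Mathlib.Algebra.Field.ZMod
import Mathlib.FieldTheory.Finite.Basic

set_option autoImplicit false
set_option linter.style.haveILetI false
open Cfsg

namespace Cfsg.Agent.S4422

/-- Primitive divisors of `q^e - 1` are congruent to 1 modulo `e`. Let `q ≥ 2` and `e ≥ 1` be natural numbers and let `m` be a divisor of `q^e - 1` that is coprime to `q^i - 1` for every `1 ≤ i < e` (so `m` divides the primitive part of `q^e - 1`, the largest such divisor). Then `m ≡ 1 (mod e)`. -/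
theorem result (q e m : ℕ) (hq : 2 ≤ q) (he : 1 ≤ e)
    (hm : m ∣ q ^ e - 1) (hcop : ∀ i : ℕ, 1 ≤ i → i < e → Nat.Coprime m (q ^ i - 1)) :
    m % e = 1 % e := by
  have hpos : 0 < q ^ e - 1 := by
    have : q ^ 1 ≤ q ^ e := Nat.pow_le_pow_right (by omega) he
    rw [pow_one] at this; omega
  have key : ∀ l, l.Prime → l ∣ m → l % e = 1 % e := by
    intro l hl hlm
    haveI := Fact.mk hl
    have h1 : (q : ZMod l) ^ e = 1 := by
      have h := (ZMod.natCast_eq_zero_iff (q ^ e - 1) l).2 (hlm.trans hm)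
      rw [Nat.cast_sub (Nat.one_le_pow _ _ (by omega)), Nat.cast_pow, Nat.cast_one, sub_eq_zero] at h
      exact h
    have hq0 : (q : ZMod l) ≠ 0 := fun h => by
      rw [h, zero_pow (by omega)] at h1; exact zero_ne_one h1
    have hpo : 0 < orderOf (q : ZMod l) :=
      orderOf_pos_iff.2 ((isOfFinOrder_iff_pow_eq_one).2 ⟨e, he, h1⟩)
    have hord : orderOf (q : ZMod l) = e := by
      by_contra hne
      have hlt : orderOf (q : ZMod l) < e :=
        lt_of_le_of_ne (Nat.le_of_dvd he (orderOf_dvd_of_pow_eq_one h1)) hne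
      have h2 : l ∣ q ^ orderOf (q : ZMod l) - 1 := by
        rw [← ZMod.natCast_eq_zero_iff, Nat.cast_sub (Nat.one_le_pow _ _ (by omega)),
          Nat.cast_pow, Nat.cast_one, pow_orderOf_eq_one, sub_self]
      exact hl.not_dvd_one ((Nat.dvd_gcd hlm h2).trans (hcop _ hpo hlt).dvd)
    have hd : e ∣ l - 1 := hord ▸ ZMod.orderOf_dvd_card_sub_one hq0
    exact ((Nat.modEq_iff_dvd' hl.one_lt.le).2 hd).symm
  have hm0 : m ≠ 0 := fun h => by rw [h, zero_dvd_iff] at hm; omega
  clear hm hcop
  induction m using Nat.recOnMul with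
  | zero => exact absurd rfl hm0
  | one => rfl
  | prime l hl => exact key l hl dvd_rfl
  | mul a b iha ihb =>
    have ha := iha (fun l hl h => key l hl (h.mul_right b)) (fun h => hm0 (by simp [h]))
    have hb := ihb (fun l hl h => key l hl (h.mul_left a)) (fun h => hm0 (by simp [h]))
    rw [Nat.mul_mod, ha, hb, ← Nat.mul_mod, one_mul]

end Cfsg.Agent.S4422
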