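import Cfsg.Statements.S4425
import Cfsg.Agent.Blocks.Integrality

set_option autoImplicit false
open Cfsg

namespace Cfsg.Agent.S4425

/-- Let χ be an irreducible character of the finite group G, p a prime, p^a the p-part of the order of G and p^b the p-part of the degree χ(1). Let χ̃ be the class function equal to p^a · χ on p-regular elements and zero on p-singular elements. Then p^(−b) · χ̃ is a generalized character of G, while p^(−(b+1)) · χ̃ is not. -/
theorem result {G : Type*} [Group G] [Finite G] (p : ℕ) [Fact p.Prime] (χ : Cfsg.IrrCharacter G) : Cfsg.IsGeneralizedCharacter G (fun x : G => if p ∣ orderOf x then (0 : ℂ) else ((p ^ ((Nat.card G).factorization p - (Cfsg.charDegree (χ : G → ℂ)).factorization p) : ℕ) : ℂ) * (χ : G → ℂ) x) ∧ ¬ Cfsg.IsGeneralizedCharacter G (fun x : G => if p ∣ orderOf x then (0 : ℂ) else ((p ^ (Nat.card G).factorization p : ℕ) : ℂ) / ((p ^ ((Cfsg.charDegree (χ : G → ℂ)).factorization p + 1) : ℕ) : ℂ) * (χ : G → ℂ) x) := by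
  classical
  haveI := Fintype.ofFinite G
  have hp : p.Prime := Fact.out
  obtain ⟨hd, hpos⟩ := CfsgLib.Block.Chr.irr_one χ
  have hba : (Cfsg.charDegree (χ : G → ℂ)).factorization p ≤ (Nat.card G).factorization p :=
    (Nat.factorization_le_iff_dvd hpos.ne' Nat.card_pos.ne').2
      (CfsgLib.Block.charDegree_dvd_card χ) p
  refine ⟨?_, ?_⟩
  · refine CfsgLib.Char.isGeneralized_of_classInner_int ?_ fun ψ hψ => ?_
    · intro g x
      have ho : orderOf (x * g * x⁻¹) = orderOf g :=
        orderOf_injective (MulAut.conj x).toMonoidHom (MulAut.conj x).injective g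
      simp only [ho, CfsgLib.Block.Chr.isClassFunction_irr χ g x]
    · obtain ⟨z, hz⟩ := CfsgLib.Block.exists_int_regPart hp χ ⟨ψ, hψ⟩
      refine ⟨z, ?_⟩
      have hf : (fun x : G => if p ∣ orderOf x then (0 : ℂ) else
          ((p ^ ((Nat.card G).factorization p - (Cfsg.charDegree (χ : G → ℂ)).factorization p) : ℕ) : ℂ) *
            (χ : G → ℂ) x) =
          ((p ^ ((Nat.card G).factorization p - (Cfsg.charDegree (χ : G → ℂ)).factorization p) : ℕ) : ℂ)
            • CfsgLib.Block.regPart p (χ : G → ℂ) := by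
        ext x
        rw [Pi.smul_apply, smul_eq_mul]
        by_cases h : p ∣ orderOf x
        · rw [if_pos h, CfsgLib.Block.regPart_of_dvd h, mul_zero]
        · rw [if_neg h, CfsgLib.Block.regPart_of_not_dvd h]
      rw [hf, CfsgLib.Char.classInner_smul_left, hz]
  · intro hgen
    obtain ⟨P⟩ : Nonempty (Sylow p G) := inferInstance
    haveI : Fintype ↥(P : Subgroup G) := Fintype.ofFinite _
    obtain ⟨n, hn⟩ := CfsgLib.Char.IsGeneralized.exists_classInner_eq_int
      (CfsgLib.Char.IsGeneralized.restrict hgen (P : Subgroup G)) CfsgLib.Char.isGeneralized_one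
    rw [Cfsg.classInner, Finset.sum_eq_single (1 : ↥(P : Subgroup G))] at hn
    rotate_left
    · intro u _ hu
      have hsing : p ∣ orderOf (u : G) := by
        obtain ⟨k, hk⟩ := IsPGroup.iff_orderOf.1 P.isPGroup' u
        rw [← Subgroup.orderOf_coe] at hk
        rcases Nat.eq_zero_or_pos k with rfl | hk0
        · rw [pow_zero, orderOf_eq_one_iff] at hk
          exact absurd (Subtype.ext hk) hu
        · rw [hk]; exact dvd_pow_self p hk0.ne'
      rw [if_pos hsing, zero_mul]
    · simp
    rw [if_neg (by rw [OneMemClass.coe_one, orderOf_one]; exact hp.not_dvd_one),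
      OneMemClass.coe_one, hd, map_one, mul_one, P.card_eq_multiplicity] at hn
    obtain ⟨r, hr⟩ : p ^ (Cfsg.charDegree (χ : G → ℂ)).factorization p ∣
        Cfsg.charDegree (χ : G → ℂ) := Nat.ordProj_dvd _ _
    generalize hb : (Cfsg.charDegree (χ : G → ℂ)).factorization p = b at hn hr
    generalize ha : (Nat.card G).factorization p = a at hn
    have hA : ((p ^ a : ℕ) : ℂ) ≠ 0 := Nat.cast_ne_zero.2 (pow_ne_zero _ hp.ne_zero)
    have hB : ((p ^ (b + 1) : ℕ) : ℂ) ≠ 0 := Nat.cast_ne_zero.2 (pow_ne_zero _ hp.ne_zero)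
    have h2 : (Cfsg.charDegree (χ : G → ℂ) : ℂ) = (n : ℂ) * ((p ^ (b + 1) : ℕ) : ℂ) := by
      rw [← hn]; field_simp
    have h3 : (Cfsg.charDegree (χ : G → ℂ) : ℤ) = n * ((p ^ (b + 1) : ℕ) : ℤ) := by
      exact_mod_cast h2
    have h4 : p ^ (b + 1) ∣ Cfsg.charDegree (χ : G → ℂ) :=
      Int.natCast_dvd_natCast.1 (Dvd.intro_left n h3.symm)
    have h5 := (hp.pow_dvd_iff_le_factorization hpos.ne').1 h4
    omega

end Cfsg.Agent.S4425
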