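import Cfsg.Statements.S4426
import Cfsg.Agent.Blocks.BrauerFeit

set_option autoImplicit false
open Cfsg

namespace Cfsg.Agent.S4426

/-- Let χ be an irreducible character in the p-block B of the finite group G (relative to a maximal ideal M of the algebraic integers containing p), let p^a be the p-part of the order of G, and let χ̃ be the class function equal to p^a · χ on p-regular elements and zero elsewhere. For ξ ∈ B the inner product [χ̃, ξ] is an integer. The following are equivalent: (a) χ has height zero in B; (b) for some ξ ∈ B the integer [χ̃, ξ] is nonzero and the exact power of p dividing it equals the exact power of p dividing ξ(1); (c) the same holds for every ξ ∈ B. -/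
theorem result {G : Type*} [Group G] [Fintype G] (p : ℕ) [Fact p.Prime] (M : Ideal Cfsg.AlgInt) (hM : Cfsg.IsPModular p M) (B : Set (Cfsg.IrrCharacter G)) (hB : Cfsg.IsPBlock M B) (χ : Cfsg.IrrCharacter G) (hχ : χ ∈ B) : (Cfsg.blockHeight p B (χ : G → ℂ) = 0 ↔ ∃ ξ ∈ B, ∃ n : ℤ, Cfsg.classInner (fun x : G => if p ∣ orderOf x then (0 : ℂ) else ((p ^ (Nat.card G).factorization p : ℕ) : ℂ) * (χ : G → ℂ) x) (ξ : G → ℂ) = (n : ℂ) ∧ n ≠ 0 ∧ padicValInt p n = (Cfsg.charDegree (ξ : G → ℂ)).factorization p) ∧ (Cfsg.blockHeight p B (χ : G → ℂ) = 0 ↔ ∀ ξ ∈ B, ∃ n : ℤ, Cfsg.classInner (fun x : G => if p ∣ orderOf x then (0 : ℂ) else ((p ^ (Nat.card G).factorization p : ℕ) : ℂ) * (χ : G → ℂ) x) (ξ : G → ℂ) = (n : ℂ) ∧ n ≠ 0 ∧ padicValInt p n = (Cfsg.charDegree (ξ : G → ℂ)).factorization p) := by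
  classical
  haveI := hM.2.1.isPrime
  have key : ∀ ξ : Cfsg.IrrCharacter G, Cfsg.classInner (fun x : G => if p ∣ orderOf x then (0 : ℂ)
      else ((p ^ (Nat.card G).factorization p : ℕ) : ℂ) * (χ : G → ℂ) x) (ξ : G → ℂ) =
      (CfsgLib.Block.regInt p χ ξ : ℂ) := by
    intro ξ
    rw [CfsgLib.Block.regInt_spec, ← CfsgLib.Char.classInner_smul_left]
    congr 1
    funext x
    simp [CfsgLib.Block.regPart, mul_ite]
  have hval : ∀ ξ ∈ B, Cfsg.blockHeight p B (χ : G → ℂ) = 0 →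
      CfsgLib.Block.regInt p χ ξ ≠ 0 ∧ padicValInt p (CfsgLib.Block.regInt p χ ξ) =
        (Cfsg.charDegree (ξ : G → ℂ)).factorization p := by
    intro ξ hξ h0
    have hne := CfsgLib.Block.regInt_ne_zero hM hB hχ hξ h0
    refine ⟨hne, le_antisymm ?_ ?_⟩
    · by_contra hlt
      exact (CfsgLib.Block.pow_succ_dvd_regInt_iff hM hB hχ hξ).1
        ((padicValInt_dvd_iff _ _).2 (Or.inr (Nat.lt_of_not_le hlt))) h0
    · rcases (padicValInt_dvd_iff _ _).1 (CfsgLib.Block.pow_dvd_regInt hM χ ξ) with h | h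
      · exact absurd h hne
      · exact h
  have hback : ∀ ξ ∈ B, ∀ n : ℤ, Cfsg.classInner (fun x : G => if p ∣ orderOf x then (0 : ℂ)
      else ((p ^ (Nat.card G).factorization p : ℕ) : ℂ) * (χ : G → ℂ) x) (ξ : G → ℂ) = (n : ℂ) →
      n ≠ 0 → padicValInt p n = (Cfsg.charDegree (ξ : G → ℂ)).factorization p →
      Cfsg.blockHeight p B (χ : G → ℂ) = 0 := by
    intro ξ hξ n hn hn0 hv
    have hn' : CfsgLib.Block.regInt p χ ξ = n := by exact_mod_cast (key ξ).symm.trans hn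
    by_contra h0
    rcases (padicValInt_dvd_iff _ _).1
      ((CfsgLib.Block.pow_succ_dvd_regInt_iff hM hB hχ hξ).2 h0) with h | h
    · exact hn0 (hn'.symm.trans h)
    · rw [hn', hv] at h
      omega
  refine ⟨⟨fun h0 => ?_, ?_⟩, ⟨fun h0 ξ hξ => ?_, fun h => ?_⟩⟩
  · exact ⟨χ, hχ, _, key χ, hval χ hχ h0⟩
  · rintro ⟨ξ, hξ, n, hn, hn0, hv⟩
    exact hback ξ hξ n hn hn0 hv
  · exact ⟨_, key ξ, hval ξ hξ h0⟩
  · obtain ⟨n, hn, hn0, hv⟩ := h χ hχ
    exact hback χ hχ n hn hn0 hv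

end Cfsg.Agent.S4426
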