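import Cfsg.Statements.S4428
import Cfsg.Agent.Blocks.BlockSize

set_option autoImplicit false
open Cfsg

namespace Cfsg.Agent.S4428

/-- Let χ be an irreducible character of height zero in the p-block B of the finite group G (relative to a maximal ideal M of the algebraic integers containing p). Let x be a p-element of G with centralizer C, and let b be a block of C that induces B. Form the class function ϑ(c) = χ(x c) on C and its b-part (the sum over ψ ∈ b of the inner product of ϑ with ψ, times ψ). Then the b-part of ϑ does not vanish identically on the p-regular elements of C. (Compare the second main Theorem, which gives vanishing when b does not induce B.) -/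
theorem result {G : Type*} [Group G] [Finite G] (p : ℕ) [Fact p.Prime] (M : Ideal Cfsg.AlgInt) (hM : Cfsg.IsPModular p M) (B : Set (Cfsg.IrrCharacter G)) (hB : Cfsg.IsPBlock M B) (χ : Cfsg.IrrCharacter G) (hχ : χ ∈ B) (h0 : Cfsg.blockHeight p B (χ : G → ℂ) = 0) (x : G) (hx : ∃ k : ℕ, orderOf x = p ^ k) (b : Set (Cfsg.IrrCharacter (Subgroup.centralizer ({x} : Set G)))) (hb : Cfsg.IsInducedBlock M (Subgroup.centralizer ({x} : Set G)) b B) : ∃ y : Subgroup.centralizer ({x} : Set G), ¬ p ∣ orderOf y ∧ Cfsg.blockPart b (fun c : Subgroup.centralizer ({x} : Set G) => (χ : G → ℂ) (x * (c : G))) y ≠ 0 := by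
  classical
  haveI := hM.2.1.isPrime
  haveI := Fintype.ofFinite G
  haveI := Fintype.ofFinite (Subgroup.centralizer ({x} : Set G))
  letI := CfsgLib.Block.Chr.irrFintype (G := (Subgroup.centralizer ({x} : Set G)))
  obtain ⟨k, hk⟩ := hx
  have hxC : x ∈ (Subgroup.centralizer ({x} : Set G)) := Subgroup.mem_centralizer_singleton_iff.2 rfl
  have hxcen : (⟨x, hxC⟩ : (Subgroup.centralizer ({x} : Set G))) ∈ Subgroup.center (Subgroup.centralizer ({x} : Set G)) := Subgroup.mem_center_iff.2 fun g =>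
    Subtype.ext (Subgroup.mem_centralizer_singleton_iff.1 g.2)
  set θ : (Subgroup.centralizer ({x} : Set G)) → ℂ := fun c => (χ : G → ℂ) c with hθ
  have hθc : Cfsg.IsCharacter (Subgroup.centralizer ({x} : Set G)) θ :=
    CfsgLib.Char.IsCharacter.restrict (CfsgLib.Block.Chr.isCharacter_irr χ) (Subgroup.centralizer ({x} : Set G))
  choose n hn using fun ψ : Cfsg.IrrCharacter (Subgroup.centralizer ({x} : Set G)) =>
    CfsgLib.Char.IsCharacter.exists_classInner_eq_natCast hθc ψ.2
  set ε : Cfsg.IrrCharacter (Subgroup.centralizer ({x} : Set G)) → ℂ := fun ψ => Cfsg.centralChar (ψ : (Subgroup.centralizer ({x} : Set G)) → ℂ) ⟨x, hxC⟩ with hε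
  have hexp : ∀ c : (Subgroup.centralizer ({x} : Set G)), (χ : G → ℂ) (x * (c : G)) =
      ∑ ψ : Cfsg.IrrCharacter (Subgroup.centralizer ({x} : Set G)), (n ψ : ℂ) * ε ψ * (ψ : (Subgroup.centralizer ({x} : Set G)) → ℂ) c := by
    intro c
    have h := CfsgLib.Block.Chr.classFun_expand
      (CfsgLib.Char.IsCharacter.isClassFunction hθc) (⟨x, hxC⟩ * c)
    rw [show θ (⟨x, hxC⟩ * c) = (χ : G → ℂ) (x * (c : G)) from rfl] at h
    rw [h]
    exact Finset.sum_congr rfl fun ψ _ => by
      rw [hn ψ, CfsgLib.Block.irr_central_mul ψ hxcen, mul_assoc]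
  have hinner : ∀ ψ : Cfsg.IrrCharacter (Subgroup.centralizer ({x} : Set G)),
      Cfsg.classInner (fun c : (Subgroup.centralizer ({x} : Set G)) => (χ : G → ℂ) (x * (c : G))) (ψ : (Subgroup.centralizer ({x} : Set G)) → ℂ) = (n ψ : ℂ) * ε ψ := by
    intro ψ
    rw [show (fun c : (Subgroup.centralizer ({x} : Set G)) => (χ : G → ℂ) (x * (c : G))) =
      ∑ φ : Cfsg.IrrCharacter (Subgroup.centralizer ({x} : Set G)), ((n φ : ℂ) * ε φ) • (φ : (Subgroup.centralizer ({x} : Set G)) → ℂ) from funext fun c => by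
        rw [hexp c]; simp [Finset.sum_apply], CfsgLib.Char.classInner_sum_left]
    simp [CfsgLib.Char.classInner_smul_left, CfsgLib.Block.Chr.classInner_irr]
  obtain ⟨ξ, hξ⟩ := CfsgLib.Block.exists_mem_block hb.1
  by_contra hno
  push Not at hno
  have hzero : ∑ ψ ∈ Finset.univ.filter (· ∈ b),
      (n ψ : ℂ) * ε ψ * CfsgLib.Block.heightForm p ψ ξ = 0 := by
    have h1 : ∑ c : (Subgroup.centralizer ({x} : Set G)), CfsgLib.Block.regPart p
        (fun c => ∑ ψ ∈ Finset.univ.filter (· ∈ b), (n ψ : ℂ) * ε ψ * (ψ : (Subgroup.centralizer ({x} : Set G)) → ℂ) c) c *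
          starRingEnd ℂ ((ξ : (Subgroup.centralizer ({x} : Set G)) → ℂ) c) = 0 := by
      refine Finset.sum_eq_zero fun c _ => ?_
      by_cases hc : p ∣ orderOf c
      · rw [CfsgLib.Block.regPart_of_dvd hc, zero_mul]
      · rw [CfsgLib.Block.regPart_of_not_dvd hc]
        have h := hno c hc
        rw [CfsgLib.Block.blockPart_eq_sum_inner] at h
        simp only [hinner] at h
        rw [h, zero_mul]
    have h2 : ∀ ψ : Cfsg.IrrCharacter (Subgroup.centralizer ({x} : Set G)), (Nat.card (Subgroup.centralizer ({x} : Set G)) : ℂ) *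
        Cfsg.classInner (CfsgLib.Block.regPart p (ψ : (Subgroup.centralizer ({x} : Set G)) → ℂ)) (ξ : (Subgroup.centralizer ({x} : Set G)) → ℂ) =
          (Cfsg.charDegree (ξ : (Subgroup.centralizer ({x} : Set G)) → ℂ) : ℂ) * CfsgLib.Block.heightForm p ψ ξ := by
      intro ψ
      rw [← CfsgLib.Block.mul_regInt, CfsgLib.Block.regInt_spec, ← mul_assoc, ← Nat.cast_mul,
        mul_comm (Nat.card (Subgroup.centralizer ({x} : Set G)) / _), Nat.ordProj_mul_ordCompl_eq_self]
    have hd : (Cfsg.charDegree (ξ : (Subgroup.centralizer ({x} : Set G)) → ℂ) : ℂ) ≠ 0 :=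
      Nat.cast_ne_zero.2 (CfsgLib.Block.Chr.irr_one ξ).2.ne'
    refine mul_left_cancel₀ hd ?_
    rw [mul_zero, Finset.mul_sum, ← h1]
    rw [Finset.sum_congr rfl fun ψ _ => show _ = (n ψ : ℂ) * ε ψ *
      ((Nat.card (Subgroup.centralizer ({x} : Set G)) : ℂ) * Cfsg.classInner
        (CfsgLib.Block.regPart p (ψ : (Subgroup.centralizer ({x} : Set G)) → ℂ))
        (ξ : (Subgroup.centralizer ({x} : Set G)) → ℂ)) by rw [h2]; ring]
    simp only [CfsgLib.Char.sum_eq_card_mul_classInner]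
    rw [show CfsgLib.Block.regPart p (fun c => ∑ ψ ∈ Finset.univ.filter (· ∈ b),
        (n ψ : ℂ) * ε ψ * (ψ : (Subgroup.centralizer ({x} : Set G)) → ℂ) c) = ∑ ψ ∈ Finset.univ.filter (· ∈ b),
        ((n ψ : ℂ) * ε ψ) • CfsgLib.Block.regPart p (ψ : (Subgroup.centralizer ({x} : Set G)) → ℂ) from funext fun c => by
      by_cases hc : p ∣ orderOf c <;> simp [CfsgLib.Block.regPart, hc, Finset.sum_apply],
      CfsgLib.Char.classInner_sum_left, Finset.mul_sum]
    simp only [CfsgLib.Char.classInner_smul_left]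
    exact Finset.sum_congr rfl fun ψ _ => by ring
  refine (CfsgLib.Block.induced_iff_unit hM hB hχ h0 hb hξ).1 rfl ?_
  rw [CfsgLib.Block.omega_resFun_regConj]
  have hconj : ∀ ψ : Cfsg.IrrCharacter (Subgroup.centralizer ({x} : Set G)), starRingEnd ℂ (Cfsg.classInner θ (ψ : (Subgroup.centralizer ({x} : Set G)) → ℂ)) = (n ψ : ℂ) :=
    fun ψ => by rw [hn ψ, map_natCast]
  have hall : ∑ ψ : Cfsg.IrrCharacter (Subgroup.centralizer ({x} : Set G)), (n ψ : ℂ) * CfsgLib.Block.heightForm p ψ ξ =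
      ∑ ψ ∈ Finset.univ.filter (· ∈ b), (n ψ : ℂ) * CfsgLib.Block.heightForm p ψ ξ := by
    rw [Finset.sum_filter]
    refine Finset.sum_congr rfl fun ψ _ => ?_
    split_ifs with hψ
    · rfl
    · rw [CfsgLib.Block.heightForm_eq_zero hM (CfsgLib.Block.isPBlock_blockOf ψ)
        (CfsgLib.Block.mem_blockOf_self ψ) (fun h => hψ ((CfsgLib.Block.sameBlock_iff_mem hb.1 hξ).2
          (CfsgLib.Block.sameBlock_symm h))), mul_zero]
  simp only [hθ] at hconj
  simp only [hconj]
  rw [hall, ← sub_zero (Finset.sum _ _)]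
  nth_rewrite 1 [← hzero]
  rw [← Finset.sum_sub_distrib]
  refine CfsgLib.Block.memLocalIdeal_sum fun ψ _ => ?_
  rw [show (n ψ : ℂ) * CfsgLib.Block.heightForm p ψ ξ -
      (n ψ : ℂ) * ε ψ * CfsgLib.Block.heightForm p ψ ξ =
      -((n ψ : ℂ) * CfsgLib.Block.heightForm p ψ ξ * (ε ψ - 1)) by ring]
  exact CfsgLib.Block.memLocalIdeal_neg (CfsgLib.Block.memLocalIdeal_mul_left
    (CfsgLib.Block.memLocalRing_mul (CfsgLib.Block.natCast_mem_localRing _)
      (CfsgLib.Block.heightForm_mem ψ ξ))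
    (CfsgLib.Block.centralChar_cong_one hM ψ hxcen ⟨k, by rw [← hk, ← Subgroup.orderOf_coe]⟩))

end Cfsg.Agent.S4428
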