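import Cfsg.Statements.S4429
import Cfsg.Agent.SmallSimple.Degrees7920

set_option autoImplicit false
open Cfsg

namespace Cfsg.Agent.S4429

/-- Let G be a simple group of order 7920. Then G has exactly ten irreducible complex characters, and their degrees, listed with multiplicity, are 1, 10, 10, 10, 11, 16, 16, 44, 45, 55: for every natural number n, the number of irreducible characters of degree n is 1 if n ∈ {1, 11, 44, 45, 55}, 3 if n = 10, 2 if n = 16, and 0 otherwise. -/
theorem result {G : Type*} [Group G] [Finite G] [IsSimpleGroup G] (hG : Nat.card G = 7920) : Nat.card (Cfsg.IrrCharacter G) = 10 ∧ ∀ n : ℕ, Nat.card {χ : Cfsg.IrrCharacter G // Cfsg.charDegree (χ : G → ℂ) = n} = (if n = 1 ∨ n = 11 ∨ n = 44 ∨ n = 45 ∨ n = 55 then 1 else if n = 10 then 3 else if n = 16 then 2 else 0) := by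
  classical
  have hdeg := CfsgLib.Degrees7920.degrees hG
  set F := CfsgLib.Char.irrFinset G
  have hmem : ∀ χ : G → ℂ, χ ∈ F ↔ Cfsg.IsIrrCharacter G χ := fun χ => CfsgLib.Char.mem_irrFinset
  refine ⟨?_, fun n => ?_⟩
  · rw [Nat.subtype_card F hmem]
    have := congrArg Multiset.card hdeg
    simpa using this
  · rw [Nat.card_congr (Equiv.subtypeSubtypeEquivSubtypeInter
      (fun χ : G → ℂ => Cfsg.IsIrrCharacter G χ) (fun χ => Cfsg.charDegree χ = n)),
      Nat.subtype_card (F.filter fun χ => Cfsg.charDegree χ = n)
        (fun χ => by rw [Finset.mem_filter, hmem])]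
    have hc : (F.filter fun χ => Cfsg.charDegree χ = n).card =
        (F.val.map Cfsg.charDegree).count n := by
      rw [Multiset.count_map, Finset.card_def, Finset.filter_val]
      congr 2
      funext χ
      exact propext eq_comm
    rw [hc, hdeg, Multiset.coe_count]
    simp only [List.count_cons, List.count_nil, beq_iff_eq]
    split_ifs <;> omega

end Cfsg.Agent.S4429
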