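import Cfsg.Statements.S4431
import Cfsg.Agent.Blocks.BlockSize

set_option autoImplicit false
open Cfsg

namespace Cfsg.Agent.S4431

/-- Let H be a subgroup of the finite group G and b a block of H whose induced block B₀ in G is defined (relative to a maximal ideal M of the algebraic integers containing p). Let χ be an irreducible character of G, ψ ∈ b, and let η be the class function on H equal to p^a · χ on the p-regular elements of H and zero elsewhere, p^a being the p-part of the order of H. Then (a) if χ ∉ B₀, the number [η, ψ]/ψ(1) lies in the local ideal at M; (b) if χ ∈ B₀ has height zero, it does not. -/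
theorem result {G : Type*} [Group G] [Fintype G] (p : ℕ) [Fact p.Prime] (M : Ideal Cfsg.AlgInt) (hM : Cfsg.IsPModular p M) (H : Subgroup G) [Fintype H] (b : Set (Cfsg.IrrCharacter H)) (B₀ : Set (Cfsg.IrrCharacter G)) (hind : Cfsg.IsInducedBlock M H b B₀) (χ : Cfsg.IrrCharacter G) (ψ : Cfsg.IrrCharacter H) (hψ : ψ ∈ b) : (χ ∉ B₀ → Cfsg.MemLocalIdeal M (Cfsg.classInner (fun h : H => if p ∣ orderOf h then (0 : ℂ) else ((p ^ (Nat.card H).factorization p : ℕ) : ℂ) * (χ : G → ℂ) h) (ψ : H → ℂ) / (ψ : H → ℂ) 1)) ∧ (χ ∈ B₀ → Cfsg.blockHeight p B₀ (χ : G → ℂ) = 0 → ¬ Cfsg.MemLocalIdeal M (Cfsg.classInner (fun h : H => if p ∣ orderOf h then (0 : ℂ) else ((p ^ (Nat.card H).factorization p : ℕ) : ℂ) * (χ : G → ℂ) h) (ψ : H → ℂ) / (ψ : H → ℂ) 1)) := by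
  classical
  haveI := hM.2.1.isPrime
  haveI : Fact p.Prime := ⟨hM.1⟩
  letI := CfsgLib.Block.Chr.irrFintype (G := H)
  set w := CfsgLib.Block.omega (ψ : H → ℂ) (CfsgLib.Block.resFun H
    (CfsgLib.Block.regPart p fun g => starRingEnd ℂ ((χ : G → ℂ) g))) with hw
  have hreal : starRingEnd ℂ w = w := by
    have hθc : Cfsg.IsCharacter H (fun h : H => (χ : G → ℂ) h) :=
      CfsgLib.Char.IsCharacter.restrict (CfsgLib.Block.Chr.isCharacter_irr χ) H
    rw [hw, CfsgLib.Block.omega_resFun_regConj, map_sum]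
    refine Finset.sum_congr rfl fun φ _ => ?_
    obtain ⟨m, hm⟩ := CfsgLib.Char.IsCharacter.exists_classInner_eq_natCast hθc φ.2
    have hd : (Cfsg.charDegree (ψ : H → ℂ) : ℂ) ≠ 0 :=
      Nat.cast_ne_zero.2 (CfsgLib.Block.Chr.irr_one ψ).2.ne'
    have hf : CfsgLib.Block.heightForm p φ ψ =
        ((Nat.card H / p ^ (Nat.card H).factorization p : ℕ) : ℂ) *
          (CfsgLib.Block.regInt p φ ψ : ℂ) / (Cfsg.charDegree (ψ : H → ℂ) : ℂ) := by
      rw [CfsgLib.Block.mul_regInt, mul_div_cancel_left₀ _ hd]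
    rw [hm, hf]
    simp
  have key : Cfsg.classInner (fun h : H => if p ∣ orderOf h then (0 : ℂ) else
      ((p ^ (Nat.card H).factorization p : ℕ) : ℂ) * (χ : G → ℂ) h) (ψ : H → ℂ) / (ψ : H → ℂ) 1 =
      ((p ^ (Nat.card H).factorization p : ℕ) : ℂ) / (Nat.card H : ℂ) * w := by
    rw [← hreal]
    simp only [hw, CfsgLib.Block.omega, Cfsg.classInner, map_div₀, map_sum, map_mul]
    rw [show starRingEnd ℂ ((ψ : H → ℂ) 1) = (ψ : H → ℂ) 1 by
      rw [(CfsgLib.Block.Chr.irr_one ψ).1, map_natCast], Finset.mul_sum, Finset.sum_div,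
      Finset.sum_div, Finset.mul_sum]
    refine Finset.sum_congr rfl fun h _ => ?_
    simp only [CfsgLib.Block.resFun, CfsgLib.Block.regPart, Subgroup.orderOf_coe]
    split_ifs
    · simp
    · simp only [Complex.conj_conj]; ring
  have hc := CfsgLib.Block.pow_factorization_unit (M := M) hM (Nat.card_pos (α := H)).ne'
  rw [key]
  constructor
  · intro hχ
    refine CfsgLib.Block.memLocalIdeal_mul_left hc ?_
    obtain ⟨χ₀, hχ₀⟩ := CfsgLib.Block.exists_mem_block hind.2.1
    have h := CfsgLib.Block.induced_cong H (hind.2.2 ψ hψ χ₀ hχ₀)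
      (CfsgLib.Block.isIntClass_regConj (M := M) (p := p) χ)
    have h0 : CfsgLib.Block.omega (χ₀ : G → ℂ)
        (CfsgLib.Block.regPart p fun g => starRingEnd ℂ ((χ : G → ℂ) g)) = 0 :=
      CfsgLib.Block.heightForm_eq_zero hM (CfsgLib.Block.isPBlock_blockOf χ)
        (CfsgLib.Block.mem_blockOf_self χ) fun h' => hχ ((CfsgLib.Block.sameBlock_iff_mem hind.2.1 hχ₀).2
          (CfsgLib.Block.sameBlock_symm h'))
    rwa [h0, sub_zero] at h
  · intro hχ h0
    refine CfsgLib.Block.not_memLocalIdeal_mul hc ?_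
      ((CfsgLib.Block.induced_iff_unit hM hind.2.1 hχ h0 hind hψ).1 rfl)
    intro hI
    have hne : ((p ^ (Nat.card H).factorization p : ℕ) : ℂ) ≠ 0 :=
      Nat.cast_ne_zero.2 (pow_ne_zero _ hM.1.ne_zero)
    have h1 : ((Nat.card H / p ^ (Nat.card H).factorization p : ℕ) : ℂ) *
        (((p ^ (Nat.card H).factorization p : ℕ) : ℂ) / (Nat.card H : ℂ)) = 1 := by
      rw [← mul_div_assoc, ← Nat.cast_mul, mul_comm (Nat.card H / _),
        Nat.ordProj_mul_ordCompl_eq_self, div_self (Nat.cast_ne_zero.2 Nat.card_pos.ne')]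
    exact CfsgLib.Block.not_memLocalIdeal_one (M := M)
      (h1 ▸ CfsgLib.Block.memLocalIdeal_mul_left (CfsgLib.Block.natCast_mem_localRing _) hI)

end Cfsg.Agent.S4431
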