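import Cfsg.Statements.S4435
import Cfsg.Agent.Blocks.StabilizerCorr

set_option autoImplicit false
open Cfsg

namespace Cfsg.Agent.S4435

/-- Let N be a normal subgroup of the finite group G, b a block of N (relative to a maximal ideal M of the algebraic integers containing p), and T the stabilizer of b in G (the elements g such that conjugating any member of b by g gives a member of b); N ≤ T. Say that a block of T (or of G) covers b when some member has a constituent in b on restriction to N. Then: (i) every block B′ of T covering b induces a block B of G, B covers b, every ψ ∈ B′ induces to an irreducible character of G, and B consists exactly of the characters induced from members of B′; (ii) distinct blocks of T covering b induce distinct blocks of G; (iii) every block of G covering b is induced by some block of T covering b. -/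
theorem result {G : Type*} [Group G] [Fintype G] (p : ℕ) [Fact p.Prime] (M : Ideal Cfsg.AlgInt) (hM : Cfsg.IsPModular p M) (N : Subgroup G) [hN : N.Normal] [Fintype N] (b : Set (Cfsg.IrrCharacter N)) (hb : Cfsg.IsPBlock M b) (T : Subgroup G) [Fintype T] (hT : ∀ g : G, g ∈ T ↔ ∀ θ ∈ b, ∀ θ' : Cfsg.IrrCharacter N, (∀ n : N, (θ' : N → ℂ) n = (θ : N → ℂ) ⟨g * n * g⁻¹, hN.conj_mem n n.2 g⟩) → θ' ∈ b) (hNT : N ≤ T) : (∀ B' : Set (Cfsg.IrrCharacter T), Cfsg.IsPBlock M B' → (∃ ψ ∈ B', ∃ θ ∈ b, Cfsg.classInner (fun n : N => (ψ : T → ℂ) ⟨(n : G), hNT n.2⟩) (θ : N → ℂ) ≠ 0) → ∃ B : Set (Cfsg.IrrCharacter G), Cfsg.IsInducedBlock M T B' B ∧ (∃ χ ∈ B, ∃ θ ∈ b, Cfsg.classInner (fun n : N => (χ : G → ℂ) n) (θ : N → ℂ) ≠ 0) ∧ (∀ ψ ∈ B', Cfsg.IsIrrCharacter G (Cfsg.indFun T (ψ : T → ℂ))) ∧ ∀ χ : Cfsg.IrrCharacter G, χ ∈ B ↔ ∃ ψ ∈ B', (χ : G → ℂ) = Cfsg.indFun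 T (ψ : T → ℂ)) ∧ (∀ B'₁ B'₂ : Set (Cfsg.IrrCharacter T), Cfsg.IsPBlock M B'₁ → Cfsg.IsPBlock M B'₂ → (∃ ψ ∈ B'₁, ∃ θ ∈ b, Cfsg.classInner (fun n : N => (ψ : T → ℂ) ⟨(n : G), hNT n.2⟩) (θ : N → ℂ) ≠ 0) → (∃ ψ ∈ B'₂, ∃ θ ∈ b, Cfsg.classInner (fun n : N => (ψ : T → ℂ) ⟨(n : G), hNT n.2⟩) (θ : N → ℂ) ≠ 0) → ∀ B : Set (Cfsg.IrrCharacter G), Cfsg.IsInducedBlock M T B'₁ B → Cfsg.IsInducedBlock M T B'₂ B → B'₁ = B'₂) ∧ (∀ B : Set (Cfsg.IrrCharacter G), Cfsg.IsPBlock M B → (∃ χ ∈ B, ∃ θ ∈ b, Cfsg.classInner (fun n : N => (χ : G → ℂ) n) (θ : N → ℂ) ≠ 0) → ∃ B' : Set (Cfsg.IrrCharacter T), Cfsg.IsPBlock M B' ∧ (∃ ψ ∈ B', ∃ θ ∈ b, Cfsg.classInner (fun n : N => (ψ : T → ℂ) ⟨(n : G), hNT n.2⟩) (θ : N → ℂ) ≠ 0) ∧ Cfsg.IsInducedBlock M T B' B) := by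
  classical
  haveI := hM.2.1.isPrime
  have hS := CfsgLib.Block.isStab_of_iff hb hT
  refine ⟨fun B' hB' hcov => ?_, fun B'₁ B'₂ hB₁ hB₂ hcov₁ hcov₂ B hind₁ hind₂ => ?_,
    fun B hB hcov => ?_⟩
  · obtain ⟨B, hind, hBb, h₁, h₂⟩ := CfsgLib.Block.stab_block_correspond hb hS hNT hB' hcov
    refine ⟨B, hind, hBb, fun ψ hψ => ?_, fun χ => ⟨h₂ χ, fun ⟨ψ, hψ, h⟩ => ?_⟩⟩
    · obtain ⟨χ, -, h⟩ := h₁ ψ hψ
      exact h ▸ χ.2
    · exact CfsgLib.Block.mem_induced_of_indFun hind hψ h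
  · obtain ⟨ψ₁, hψ₁, θ₁, hθ₁, hc₁⟩ := hcov₁
    obtain ⟨ψ₂, hψ₂, θ₂, hθ₂, hc₂⟩ := hcov₂
    obtain ⟨χ₁, h₁, -⟩ := CfsgLib.Block.stab_indFun hS hNT hθ₁ hc₁
    obtain ⟨χ₂, h₂, -⟩ := CfsgLib.Block.stab_indFun hS hNT hθ₂ hc₂
    have hsb := CfsgLib.Block.sameBlock_of_indFun hb hS hNT h₁ h₂ ⟨θ₁, hθ₁, hc₁⟩ ⟨θ₂, hθ₂, hc₂⟩
      (CfsgLib.Block.sameBlock_of_mem hind₁.2.1
        (CfsgLib.Block.mem_induced_of_indFun hind₁ hψ₁ h₁)
        (CfsgLib.Block.mem_induced_of_indFun hind₂ hψ₂ h₂))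
    exact CfsgLib.Block.block_eq_of_common hB₁ hB₂
      ((CfsgLib.Block.sameBlock_iff_mem hB₁ hψ₁).2 hsb) hψ₂
  · obtain ⟨χ, hχ, θ, hθ, hc⟩ := hcov
    obtain ⟨ψ, h, hcψ⟩ := CfsgLib.Block.exists_stab_inducing hS hNT hθ hc
    have hB' := CfsgLib.Block.isPBlock_blockOf (M := M) ψ
    refine ⟨_, hB', ⟨ψ, CfsgLib.Block.mem_blockOf_self ψ, θ, hθ, hcψ⟩, ?_⟩
    obtain ⟨B₁, hind, -⟩ := CfsgLib.Block.stab_block_correspond hb hS hNT hB'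
      ⟨ψ, CfsgLib.Block.mem_blockOf_self ψ, θ, hθ, hcψ⟩
    rwa [CfsgLib.Block.block_eq_of_common hB hind.2.1 hχ
      (CfsgLib.Block.mem_induced_of_indFun hind (CfsgLib.Block.mem_blockOf_self ψ) h)]

end Cfsg.Agent.S4435
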