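import Cfsg.Statements.S4440
import Cfsg.Agent.BlocksB.PSolvableIdempotent

set_option autoImplicit false
open Cfsg

namespace Cfsg.Agent.S4440

/-- Let G be a finite p-solvable group and fix a maximal ideal M of the algebraic integers containing p. Let U be a set of irreducible characters of G such that the class function Σ_{χ ∈ U} χ(1)·χ vanishes at every p-singular element of G. Then U is a union of p-blocks: if χ ∈ U and ψ lies in the same block as χ, then ψ ∈ U. -/
theorem result {G : Type*} [Group G] [Finite G] (p : ℕ) [Fact p.Prime] (M : Ideal Cfsg.AlgInt) (hM : Cfsg.IsPModular p M) (hsolv : Cfsg.IsPSolvable p G) (U : Set (Cfsg.IrrCharacter G)) (hU : ∀ x : G, p ∣ orderOf x → ∑ᶠ χ ∈ U, (χ : G → ℂ) 1 * (χ : G → ℂ) x = 0) (χ : Cfsg.IrrCharacter G) (hχ : χ ∈ U) (ψ : Cfsg.IrrCharacter G) (hψ : Cfsg.SameBlock M (χ : G → ℂ) (ψ : G → ℂ)) : ψ ∈ U := by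
  classical
  haveI := Fintype.ofFinite G
  haveI := hM.2.1.isPrime
  letI := CfsgLib.Block.Chr.irrFintype (G := G)
  have hz : ∀ x : G, p ∣ orderOf x → Cfsg.blockCoeff U x = 0 := fun x hx => by
    have h := congrArg (starRingEnd ℂ) (hU x hx)
    rw [finsum_mem_eq_sum_of_inter_support_eq (t := Finset.univ.filter (· ∈ U)) _ (by ext; simp),
      map_sum, map_zero] at h
    rw [CfsgLib.Block.blockCoeff_eq_sum]
    refine mul_eq_zero_of_right _ (Eq.trans ?_ h)
    refine Finset.sum_congr rfl fun φ _ => ?_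
    rw [map_mul, (CfsgLib.Block.Chr.irr_one φ).1, map_natCast]
  exact CfsgLib.Block.blockOf_subset_of_integral
    (CfsgLib.Block.CentralIdem.idem_mem_local hM _ G rfl hsolv _
      (CfsgLib.Block.isClassFunction_blockCoeff U) (CfsgLib.Block.conv_blockCoeff_self U) hz)
    hχ hψ

end Cfsg.Agent.S4440
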