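import Cfsg.Statements.S4441
import Cfsg.Agent.BlocksB.Cyclic.PrimeOrder

set_option autoImplicit false
open Cfsg

namespace Cfsg.Agent.S4441

/-- Let p be an odd prime and G a finite group whose Sylow p-subgroup P has order p; let C = C_G(P), N = N_G(P), e the index of C in N and t = (p − 1)/e; fix a maximal ideal M of the algebraic integers containing p and let B₀ be the principal block. Then B₀ is the disjoint union of a set X of e characters and a set Y of t characters such that: each χ ∈ X has a sign ε_χ with χ(1) ≡ ε_χ (mod p) and χ(x y) = ε_χ for every non-identity x ∈ P and every p-regular y ∈ C; all members of Y agree on the p-regular elements of G; there is one sign ε with θ(1) ≡ ε e (mod p) for every θ ∈ Y; and for every θ ∈ Y and every p-regular g, ε θ(g) = Σ_{χ ∈ X} ε_χ χ(g). -/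
theorem result {G : Type*} [Group G] [Fintype G] (p : ℕ) [Fact p.Prime] (M : Ideal Cfsg.AlgInt) (hM : Cfsg.IsPModular p M) (hodd : p ≠ 2) (P : Sylow p G) (hP : Nat.card P = p) (e : ℕ) (he : (Subgroup.centralizer ((P : Subgroup G) : Set G)).relIndex (Subgroup.normalizer ((P : Subgroup G) : Set G)) = e) : ∃ X Y : Set (Cfsg.IrrCharacter G), Cfsg.principalBlock M G = X ∪ Y ∧ Disjoint X Y ∧ Nat.card X = e ∧ Nat.card Y = (p - 1) / e ∧ ∃ (εX : Cfsg.IrrCharacter G → ℤ) (ε : ℤ), (∀ χ ∈ X, (εX χ = 1 ∨ εX χ = -1) ∧ (Cfsg.charDegree (χ : G → ℂ) : ℤ) ≡ εX χ [ZMOD p] ∧ ∀ x : G, x ∈ (P : Subgroup G) → x ≠ 1 → ∀ y : G, y ∈ Subgroup.centralizer ((P : Subgroup G) : Set G) → ¬ p ∣ orderOf y → (χ : G → ℂ) (x * y) = (εX χ : ℂ)) ∧ (ε = 1 ∨ ε = -1) ∧ (∀ θ ∈ Y, (Cfsg.charDegree (θ : G → ℂ) : ℤ) ≡ ε * (e : ℤ) [ZMOD p]) ∧ (∀ θ ∈ Y, ∀ θ' ∈ Y, ∀ g : G, ¬ p ∣ orderOf g → (θ : G → ℂ) g = (θ' : G → ℂ) g) ∧ ∀ θ ∈ Y, ∀ g : G, ¬ p ∣ orderOf g → (ε : ℂ) *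 (θ : G → ℂ) g = ∑ᶠ χ ∈ X, (εX χ : ℂ) * (χ : G → ℂ) g := by
  haveI := hM.2.1.isPrime
  haveI := CfsgLib.Block.charP_residue hM
  letI := CfsgLib.Block.Chr.irrFintype (G := G)
  haveI : Fintype (principalBlock M G) := Fintype.ofFinite _
  classical
  obtain ⟨X, εX, ε, hX, hY, h1, hε, h2, h3, h4⟩ :=
    CfsgLib.Cyclic.principal_prime_order hM P hP he
  have hcard : ∀ s : Finset (principalBlock M G), Nat.card (Subtype.val '' (s : Set (principalBlock M G))) = s.card :=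
    fun s => by
      rw [Nat.card_image_of_injective Subtype.val_injective, Nat.card_eq_fintype_card]
      simp
  have he0 : 0 < e := by
    rw [← he]; exact Nat.pos_of_ne_zero Subgroup.index_ne_zero_of_finite
  refine ⟨Subtype.val '' (X : Set (principalBlock M G)),
    Subtype.val '' ((Xᶜ : Finset (principalBlock M G)) : Set (principalBlock M G)), ?_, ?_,
    (hcard X).trans hX, ?_,
    fun χ => if h : χ ∈ principalBlock M G then εX ⟨χ, h⟩ else 1, ε, ?_, hε, ?_, ?_, ?_⟩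
  · ext χ
    constructor
    · intro hχ
      by_cases h : (⟨χ, hχ⟩ : principalBlock M G) ∈ X
      · exact Or.inl ⟨_, h, rfl⟩
      · exact Or.inr ⟨⟨χ, hχ⟩, Finset.mem_coe.2 (Finset.mem_compl.2 h), rfl⟩
    · rintro (⟨x, -, rfl⟩ | ⟨x, -, rfl⟩) <;> exact x.2
  · rw [Set.disjoint_image_iff Subtype.val_injective, Finset.disjoint_coe]
    exact disjoint_compl_right
  · rw [hcard, ← hY, Nat.add_sub_cancel, Nat.mul_div_cancel_left _ he0]
  · rintro _ ⟨x, hx, rfl⟩
    simp only [dif_pos x.2, Subtype.coe_eta]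
    exact h1 x hx
  · rintro _ ⟨y, hy, rfl⟩
    exact h2 y (Finset.mem_compl.1 hy)
  · rintro _ ⟨y, hy, rfl⟩ _ ⟨y', hy', rfl⟩ g hg
    exact h3 y y' (Finset.mem_compl.1 hy) (Finset.mem_compl.1 hy') g hg
  · rintro _ ⟨y, hy, rfl⟩ g hg
    rw [finsum_mem_image Subtype.val_injective.injOn, finsum_mem_coe_finset]
    convert h4 y (Finset.mem_compl.1 hy) g hg using 2 with x
    simp only [dif_pos x.2, Subtype.coe_eta]

end Cfsg.Agent.S4441
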