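import Cfsg.Statements.S4442
import Cfsg.Agent.BlocksB.Cyclic.DefectOne

set_option autoImplicit false
open Cfsg

namespace Cfsg.Agent.S4442

/-- Blocks of defect one. Let p be an odd prime and G a finite group whose Sylow p-subgroup P has order p; let C = C_G(P) and N = N_G(P), and fix a maximal ideal M of the algebraic integers containing p. Let B be a block of G with defect group P, b a block of C inducing B, and θ the member of b having P in its kernel (there is exactly one). Let T be the stabilizer of θ in N (the elements g ∈ N with θ(g c g⁻¹) = θ(c) for all c ∈ C) and e the index of C in T. Then e divides p − 1 and B contains exactly e + (p − 1)/e irreducible characters. Moreover B is the disjoint union of a set X of e characters and a set Y of (p − 1)/e characters such that, with f the index of C in N: every χ ∈ X has χ(1) ≡ ±(f/e)·θ(1) (mod p), there is one sign ε with ψ(1) ≡ ε f θ(1) (mod p) for all ψ ∈ Y, and all members of Y agree on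 the p-regular elements of G. -/
theorem result {G : Type*} [Group G] [Finite G] (p : ℕ) [Fact p.Prime] (M : Ideal Cfsg.AlgInt) (hM : Cfsg.IsPModular p M) (hodd : p ≠ 2) (P : Sylow p G) (hP : Nat.card P = p) (B : Set (Cfsg.IrrCharacter G)) (hB : Cfsg.IsPBlock M B) (hBP : Cfsg.IsDefectGroup p M B P) (b : Set (Cfsg.IrrCharacter (Subgroup.centralizer ((P : Subgroup G) : Set G)))) (hind : Cfsg.IsInducedBlock M (Subgroup.centralizer ((P : Subgroup G) : Set G)) b B) (θ : Cfsg.IrrCharacter (Subgroup.centralizer ((P : Subgroup G) : Set G))) (hθ : θ ∈ b) (hθP : ∀ x : Subgroup.centralizer ((P : Subgroup G) : Set G), (x : G) ∈ (P : Subgroup G) → (θ : Subgroup.centralizer ((P : Subgroup G) : Set G) → ℂ) x = (θ : Subgroup.centralizer ((P : Subgroup G) : Set G) → ℂ) 1) (T : Subgroup G) (hT : ∀ g : G, g ∈ T ↔ (g ∈ Subgroup.normalizer ((P : Subgroup G) : Set G) ∧ ∀ c c' : Subgroup.centralizer ((P : Subgroup G) : Set G), (c' : G) = g * c * g⁻¹ → (θ : Subgroup.centralizer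 ((P : Subgroup G) : Set G) → ℂ) c' = (θ : Subgroup.centralizer ((P : Subgroup G) : Set G) → ℂ) c)) (e f : ℕ) (he : (Subgroup.centralizer ((P : Subgroup G) : Set G)).relIndex T = e) (hf : (Subgroup.centralizer ((P : Subgroup G) : Set G)).relIndex (Subgroup.normalizer ((P : Subgroup G) : Set G)) = f) : e ∣ p - 1 ∧ Nat.card B = e + (p - 1) / e ∧ ∃ X Y : Set (Cfsg.IrrCharacter G), B = X ∪ Y ∧ Disjoint X Y ∧ Nat.card X = e ∧ Nat.card Y = (p - 1) / e ∧ (∀ χ ∈ X, (Cfsg.charDegree (χ : G → ℂ) : ℤ) ≡ ((f / e * Cfsg.charDegree (θ : Subgroup.centralizer ((P : Subgroup G) : Set G) → ℂ) : ℕ) : ℤ) [ZMOD p] ∨ (Cfsg.charDegree (χ : G → ℂ) : ℤ) ≡ -((f / e * Cfsg.charDegree (θ : Subgroup.centralizer ((P : Subgroup G) : Set G) → ℂ) : ℕ) : ℤ) [ZMOD p]) ∧ (∃ ε : ℤ, (ε = 1 ∨ ε = -1) ∧ ∀ ψ ∈ Y, (Cfsg.charDegree (ψ : G → ℂ) : ℤ) ≡ ε * ((f * Cfsg.charDegree (θ : Subgroup.centralizer ((P : Subgroup G) : Set G) → ℂ) : ℕ) : ℤ) [ZMOD p]) ∧ ∀ ψ ∈ Y, ∀ ψ' ∈ Y, ∀ g : G, ¬ p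 ∣ orderOf g → (ψ : G → ℂ) g = (ψ' : G → ℂ) g := by
  haveI := hM.2.1.isPrime
  haveI := CfsgLib.Block.charP_residue hM
  haveI := Fintype.ofFinite G
  letI := CfsgLib.Block.Chr.irrFintype (G := G)
  haveI : Fintype B := Fintype.ofFinite B
  haveI := Fintype.ofFinite (P : Subgroup G)
  haveI := Fintype.ofFinite (Subgroup.centralizer ((P : Subgroup G) : Set G))
  classical
  have hp : p.Prime := Fact.out
  haveI : IsCyclic (P : Subgroup G) := isCyclic_of_prime_card hP
  have hP1 : (P : Subgroup G) ≠ ⊥ := fun h => by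
    have h' : Nat.card (P : Subgroup G) = p := hP
    rw [h, Subgroup.card_bot] at h'
    exact hp.ne_one h'.symm
  have hN : (Nat.card G).factorization p = 1 := by
    have h := P.card_eq_multiplicity
    rw [show Nat.card (P : Subgroup G) = p from hP] at h
    exact (Nat.pow_eq_self_iff hp.one_lt).1 h.symm
  obtain ⟨t, n, S⟩ := CfsgLib.Cyclic.exists_cycData hM hB hBP inferInstance hP1 hind
  obtain ⟨m, V⟩ := S.exists_cycVals
  obtain ⟨χ₀, hχ₀, -⟩ := CfsgLib.Block.exists_height_zero hM hB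
  obtain ⟨-, X, δ, δ₀, rep, Tr, -⟩ := CfsgLib.Cyclic.exists_tree S V ⟨χ₀, hχ₀⟩
  set st := CfsgLib.BrauerPairs.stab (P : Subgroup G)
    (CfsgLib.BrauerPairs.idemIn M (Subgroup.centralizer ((P : Subgroup G) : Set G)) b)
  have hTst : T = st := by
    ext g
    rw [hT]
    exact ⟨fun h => (CfsgLib.Cyclic.stab_eq_of_canonical hM S hP hN hθ hθP h.1).2 h.2,
      fun h => ⟨h.1, (CfsgLib.Cyclic.stab_eq_of_canonical hM S hP hN hθ hθP h.1).1 h⟩⟩
  have hen : n = e := by rw [S.n_eq, ← he, hTst]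
  subst hen
  have hfe : f / n = st.relIndex (Subgroup.normalizer ((P : Subgroup G) : Set G)) := by
    rw [← hf, ← Subgroup.relIndex_mul_relIndex (Subgroup.centralizer ((P : Subgroup G) : Set G)) st
      (Subgroup.normalizer ((P : Subgroup G) : Set G))
      (CfsgLib.BrauerPairs.centralizer_le_stab S.pair) (fun g hg => hg.1), ← S.n_eq,
      Nat.mul_div_cancel_left _ S.n_pos]
  have hfn : f = n * st.relIndex (Subgroup.normalizer ((P : Subgroup G) : Set G)) := by
    rw [← hf, ← Subgroup.relIndex_mul_relIndex (Subgroup.centralizer ((P : Subgroup G) : Set G)) st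
      (Subgroup.normalizer ((P : Subgroup G) : Set G))
      (CfsgLib.BrauerPairs.centralizer_le_stab S.pair) (fun g hg => hg.1), ← S.n_eq]
  have hcard : ∀ s : Finset B, Nat.card (Subtype.val '' (s : Set B)) = s.card := fun s => by
    rw [Nat.card_image_of_injective Subtype.val_injective, Nat.card_eq_fintype_card]
    simp
  have hY : (Xᶜ).card = (p - 1) / n := by
    have h := Tr.card_Y
    rw [show Nat.card (P : Subgroup G) = p from hP] at h
    rw [← h, Nat.add_sub_cancel, Nat.mul_div_cancel_left _ S.n_pos]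
  refine ⟨S.n_dvd, ?_, Subtype.val '' (X : Set B), Subtype.val '' ((Xᶜ : Finset B) : Set B),
    ?_, ?_, (hcard X).trans Tr.card_X, (hcard _).trans hY, ?_, ?_, ?_⟩
  · rw [Nat.card_eq_fintype_card, ← Finset.card_add_card_compl X, Tr.card_X, hY]
  · ext χ
    constructor
    · intro hχ
      by_cases h : (⟨χ, hχ⟩ : B) ∈ X
      · exact Or.inl ⟨_, h, rfl⟩
      · exact Or.inr ⟨⟨χ, hχ⟩, Finset.mem_coe.2 (Finset.mem_compl.2 h), rfl⟩
    · rintro (⟨x, -, rfl⟩ | ⟨x, -, rfl⟩) <;> exact x.2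
  · rw [Set.disjoint_image_iff Subtype.val_injective, Finset.disjoint_coe]
    exact disjoint_compl_right
  · rintro _ ⟨x, hx, rfl⟩
    rw [hfe, Nat.cast_mul]
    exact CfsgLib.Cyclic.degree_cong hM S hP hN V Tr hθ hx
  · obtain ⟨x₁, hx₁⟩ := Finset.card_pos.1 (Tr.card_X ▸ S.n_pos : 0 < X.card)
    obtain ⟨s, hs, hc⟩ : ∃ s : ℤ, (s = 1 ∨ s = -1) ∧ CfsgLib.Cyclic.deg x₁.1 ≡
        s * ((st.relIndex (Subgroup.normalizer ((P : Subgroup G) : Set G)) : ℤ) *
          Cfsg.charDegree (θ : Subgroup.centralizer ((P : Subgroup G) : Set G) → ℂ)) [ZMOD p] := by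
      rcases CfsgLib.Cyclic.degree_cong hM S hP hN V Tr hθ hx₁ with h | h
      · exact ⟨1, Or.inl rfl, by rwa [one_mul]⟩
      · exact ⟨-1, Or.inr rfl, by rwa [neg_one_mul]⟩
    refine ⟨-(δ₀ * δ x₁ * s), ?_, ?_⟩
    · rcases Tr.sign₀ with e1 | e1 <;> rcases Tr.sign x₁ hx₁ with e2 | e2 <;>
        rcases hs with e3 | e3 <;> simp [e1, e2, e3]
    rintro _ ⟨y, hy, rfl⟩
    have hpN : (p : ℤ) ∣ (p : ℤ) ^ (Nat.card G).factorization p := by rw [hN, pow_one]
    refine ((Tr.cong_Y V hx₁ (Finset.mem_compl.1 hy)).of_dvd hpN).trans ?_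
    refine ((hc.mul_left _).neg).trans ?_
    rw [hfn]
    push_cast
    ring_nf
    exact Int.ModEq.refl _
  · rintro _ ⟨y, hy, rfl⟩ _ ⟨y', hy', rfl⟩ g hg
    exact Tr.agree V (Finset.mem_compl.1 hy) (Finset.mem_compl.1 hy') hg

end Cfsg.Agent.S4442
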