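import Cfsg.Statements.S4444
import Cfsg.Agent.GlaubermanCorr.Main

set_option autoImplicit false
open Cfsg

namespace Cfsg.Agent.S4444

/-- The Glauberman correspondence for a p-group of operators. Inside a finite group Γ let S normalise G with the orders of G and S coprime, S a p-group, and let C = G ⊓ C(S) be the fixed points. Call an irreducible character χ of G S-invariant when χ(s g s⁻¹) = χ(g) for s ∈ S, g ∈ G. Then: (i) for every S-invariant χ there is exactly one irreducible character β of C whose multiplicity [χ_C, β] in the restriction of χ is not divisible by p; (ii) that multiplicity is ≡ 1 or ≡ −1 (mod p); (iii) distinct S-invariant χ give distinct β; (iv) every irreducible character of C arises in this way. So χ ↦ β is a bijection from the S-invariant irreducible characters of G onto the irreducible characters of C. -/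
theorem result {Γ : Type*} [Group Γ] [Fintype Γ] (G S : Subgroup Γ) [Fintype G] (hnorm : ∀ s ∈ S, ∀ g ∈ G, s * g * s⁻¹ ∈ G) (hcop : (Nat.card G).Coprime (Nat.card S)) (p : ℕ) (hp : p.Prime) (hS : IsPGroup p S) (C : Subgroup Γ) [Fintype C] (hC : C = G ⊓ Subgroup.centralizer (S : Set Γ)) (hCG : C ≤ G) : (∀ χ : Cfsg.IrrCharacter G, (∀ s ∈ S, ∀ g g' : G, (g' : Γ) = s * g * s⁻¹ → (χ : G → ℂ) g' = (χ : G → ℂ) g) → ∃! β : Cfsg.IrrCharacter C, ∃ m : ℕ, Cfsg.classInner (fun c : C => (χ : G → ℂ) ⟨c, hCG c.2⟩) (β : C → ℂ) = (m : ℂ) ∧ ¬ p ∣ m) ∧ (∀ χ : Cfsg.IrrCharacter G, (∀ s ∈ S, ∀ g g' : G, (g' : Γ) = s * g * s⁻¹ → (χ : G → ℂ) g' = (χ : G → ℂ) g) → ∀ β : Cfsg.IrrCharacter C, ∀ m : ℕ, Cfsg.classInner (fun c : C => (χ : G → ℂ) ⟨c, hCG c.2⟩) (β : C → ℂ) = (m : ℂ) → ¬ p ∣ m → ((m : ℤ) ≡ 1 [ZMOD p] ∨ (m : ℤ) ≡ -1 [ZMOD p])) ∧ (∀ χ χ' : Cfsg.IrrCharacter G, (∀ s ∈ S, ∀ g g' : G, (g'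 : Γ) = s * g * s⁻¹ → (χ : G → ℂ) g' = (χ : G → ℂ) g) → (∀ s ∈ S, ∀ g g' : G, (g' : Γ) = s * g * s⁻¹ → (χ' : G → ℂ) g' = (χ' : G → ℂ) g) → ∀ β : Cfsg.IrrCharacter C, ∀ m m' : ℕ, Cfsg.classInner (fun c : C => (χ : G → ℂ) ⟨c, hCG c.2⟩) (β : C → ℂ) = (m : ℂ) → ¬ p ∣ m → Cfsg.classInner (fun c : C => (χ' : G → ℂ) ⟨c, hCG c.2⟩) (β : C → ℂ) = (m' : ℂ) → ¬ p ∣ m' → χ = χ') ∧ (∀ β : Cfsg.IrrCharacter C, ∃ χ : Cfsg.IrrCharacter G, (∀ s ∈ S, ∀ g g' : G, (g' : Γ) = s * g * s⁻¹ → (χ : G → ℂ) g' = (χ : G → ℂ) g) ∧ ∃ m : ℕ, Cfsg.classInner (fun c : C => (χ : G → ℂ) ⟨c, hCG c.2⟩) (β : C → ℂ) = (m : ℂ) ∧ ¬ p ∣ m) := by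
  classical
  have := Fact.mk hp
  have hCS : ∀ k, k ∈ C ↔ k ∈ G ∧ ∀ y ∈ S, y * k * y⁻¹ * k⁻¹ ∈ (⊥ : Subgroup Γ) := fun k => by
    simp only [hC, Subgroup.mem_inf, Subgroup.mem_centralizer_iff, SetLike.mem_coe, Subgroup.mem_bot,
      mul_inv_eq_one, mul_inv_eq_iff_eq_mul, one_mul]
  have hinvC : ∀ β : IrrCharacter ↥C, CfsgLib.GlaubermanCorr.Inv C S (β : ↥C → ℂ) := fun β y hy k k' e => by
    have : k' = k := Subtype.ext (by
      rw [e]; exact mul_inv_eq_one.mp (Subgroup.mem_bot.mp (((hCS k).mp k.2).2 y hy)))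
    rw [this]
  suffices h : ∃ f : {χ : IrrCharacter ↥G // CfsgLib.GlaubermanCorr.Inv G S (χ : ↥G → ℂ)} →
      {ξ : IrrCharacter ↥C // CfsgLib.GlaubermanCorr.Inv C S (ξ : ↥C → ℂ)},
      Function.Bijective f ∧ ∀ χ ξ, ∃ m : ℕ,
        classInner (fun c : ↥C => (χ.1 : ↥G → ℂ) ⟨c, hCG c.2⟩) (ξ.1 : ↥C → ℂ) = (m : ℂ) ∧
        (ξ = f χ → (m : ZMod p) ^ 2 = 1) ∧ (ξ ≠ f χ → (m : ZMod p) = 0) by
    obtain ⟨f, hf, hm⟩ := h
    have key : ∀ (χ : IrrCharacter ↥G) hχ (β : IrrCharacter ↥C) (m : ℕ), classInner (fun c : ↥C => (χ : ↥G → ℂ) ⟨c, hCG c.2⟩) (β : ↥C → ℂ) = (m : ℂ) →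
        (¬ p ∣ m ↔ β = (f ⟨χ, hχ⟩).1) ∧ (¬ p ∣ m → (m : ZMod p) = 1 ∨ (m : ZMod p) = -1) := by
      intro χ hχ β m hβ
      obtain ⟨n, h1, h2, h3⟩ := hm ⟨χ, hχ⟩ ⟨β, hinvC β⟩
      obtain rfl : m = n := by have := hβ.symm.trans h1; exact_mod_cast this
      refine ⟨⟨fun h => ?_, fun h hd => ?_⟩, fun h => sq_eq_one_iff.mp (h2 (by_contra fun h' => ?_))⟩
      · by_contra h'
        exact h ((ZMod.natCast_eq_zero_iff m p).mp (h3 fun e => h' (congrArg Subtype.val e)))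
      · have := h2 (Subtype.ext h)
        rw [(ZMod.natCast_eq_zero_iff m p).mpr hd] at this
        simp at this
      · exact h ((ZMod.natCast_eq_zero_iff m p).mp (h3 h'))
    refine ⟨fun χ hχ => ?_, fun χ hχ β m h1 h2 => ?_, fun χ χ' hχ hχ' β m m' h1 h2 h3 h4 => ?_, fun β => ?_⟩
    · obtain ⟨m, h1, -, -⟩ := hm ⟨χ, hχ⟩ (f ⟨χ, hχ⟩)
      refine ⟨(f ⟨χ, hχ⟩).1, ⟨m, h1, ((key χ hχ _ m h1).1).mpr rfl⟩, ?_⟩
      rintro β ⟨n, hn, hn'⟩
      exact ((key χ hχ β n hn).1).mp hn'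
    · rcases (key χ hχ β m h1).2 h2 with h | h
      · exact Or.inl ((ZMod.intCast_eq_intCast_iff _ _ p).mp (by simpa using h))
      · exact Or.inr ((ZMod.intCast_eq_intCast_iff _ _ p).mp (by simpa using h))
    · have e := (((key χ hχ β m h1).1).mp h2).symm.trans (((key χ' hχ' β m' h3).1).mp h4)
      exact congrArg Subtype.val (hf.1 (Subtype.ext e))
    · obtain ⟨χ, hχ⟩ := hf.2 ⟨β, hinvC β⟩
      obtain ⟨m, h1, -, -⟩ := hm χ (f χ)
      rw [hχ] at h1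
      exact ⟨χ.1, χ.2, m, h1, ((key χ.1 χ.2 β m h1).1).mpr (congrArg Subtype.val hχ).symm⟩
  by_cases hbot : S = ⊥
  · subst hbot
    obtain rfl : C = G := by rw [hC]; ext; simp [Subgroup.mem_centralizer_iff]
    refine ⟨id, Function.bijective_id, fun χ ψ => ⟨if ψ = χ then 1 else 0, ?_, fun h => ?_, fun h => ?_⟩⟩
    · rw [CfsgLib.GlaubermanCorr.classInner_congr_sum]
      change classInner (χ.1 : ↥C → ℂ) (ψ.1 : ↥C → ℂ) = _
      split_ifs with h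
      · subst h; rw [CfsgLib.Char.IsIrrCharacter.classInner_self ψ.1.2, Nat.cast_one]
      · rw [CfsgLib.Char.IsIrrCharacter.classInner_of_ne χ.1.2 ψ.1.2
          (fun e => h (Subtype.ext (Subtype.ext e.symm))), Nat.cast_zero]
    · simp [show ψ = χ from h]
    · simp [show ψ ≠ χ from h]
  · have hnd : ¬ p ∣ (⊥ : Subgroup Γ).relIndex G := by
      rw [Subgroup.relIndex_bot_left]
      intro hd
      have hne : Nat.card ↥S ≠ 1 := fun h => hbot (Subgroup.eq_bot_of_card_eq S h)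
      obtain ⟨k, hk⟩ := IsPGroup.iff_card.mp hS
      have hdS : p ∣ Nat.card ↥S := by
        rw [hk]
        exact dvd_pow_self p (fun h => hne (by rw [hk, h, pow_zero]))
      exact hp.not_dvd_one (hcop.gcd_eq_one ▸ Nat.dvd_gcd hd hdS)
    exact CfsgLib.GlaubermanCorr.exists_correspondence hS bot_le
      (fun k _ q hq => by rw [Subgroup.mem_bot] at hq ⊢; simp [hq]) IsPGroup.of_bot hnd hnorm hCG hCS

end Cfsg.Agent.S4444
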