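import Cfsg.Statements.S4446
import Cfsg.Agent.GlaubermanCorr.CyclicMain

set_option autoImplicit false
open Cfsg

namespace Cfsg.Agent.S4446

/-- Let the finite group Γ be generated by a normal subgroup G and a cyclic subgroup S of coprime orders, C = G ⊓ C(S), and let χ be an S-invariant irreducible character of G with canonical extension χ̂ to Γ (the extension whose determinantal order is coprime to the order of S). Then there are exactly one irreducible character β of C and one sign ε such that χ̂(c s) = ε β(c) for every c ∈ C and every generator s of S; this β is a constituent of the restriction of χ to C; distinct S-invariant χ give distinct β; and every irreducible character of C arises in this way. -/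
theorem result {Γ : Type*} [Group Γ] [Fintype Γ] (G S : Subgroup Γ) [Fintype G] (hnorm : ∀ s ∈ S, ∀ g ∈ G, s * g * s⁻¹ ∈ G) (hcop : (Nat.card G).Coprime (Nat.card S)) (htop : G ⊔ S = ⊤) (hcyc : IsCyclic S) (C : Subgroup Γ) [Fintype C] (hC : C = G ⊓ Subgroup.centralizer (S : Set Γ)) (hCG : C ≤ G) : (∀ (χ : Cfsg.IrrCharacter G) (χh : Cfsg.IrrCharacter Γ), (∀ s ∈ S, ∀ g g' : G, (g' : Γ) = s * g * s⁻¹ → (χ : G → ℂ) g' = (χ : G → ℂ) g) → (∀ g : G, (χh : Γ → ℂ) g = (χ : G → ℂ) g) → (Cfsg.detOrder (χh : Γ → ℂ)).Coprime (Nat.card S) → (∃! βε : Cfsg.IrrCharacter C × ℤ, (βε.2 = 1 ∨ βε.2 = -1) ∧ ∀ c : C, ∀ s : Γ, Subgroup.zpowers s = S → (χh : Γ → ℂ) ((c : Γ) * s) = (βε.2 : ℂ) * (βε.1 : C → ℂ) c) ∧ ∀ β : Cfsg.IrrCharacter C, ∀ ε : ℤ, (ε = 1 ∨ ε = -1) → (∀ c : C, ∀ s : Γ, Subgroup.zpowers s = S → (χh : Γ → ℂ) ((c : Γ) * s) = (ε : ℂ) * (β : C → ℂ) c) → Cfsg.classInner (fun c : C => (χ : G → ℂ) ⟨c,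 hCG c.2⟩) (β : C → ℂ) ≠ 0) ∧ (∀ (χ χ' : Cfsg.IrrCharacter G) (χh χh' : Cfsg.IrrCharacter Γ), (∀ s ∈ S, ∀ g g' : G, (g' : Γ) = s * g * s⁻¹ → (χ : G → ℂ) g' = (χ : G → ℂ) g) → (∀ s ∈ S, ∀ g g' : G, (g' : Γ) = s * g * s⁻¹ → (χ' : G → ℂ) g' = (χ' : G → ℂ) g) → (∀ g : G, (χh : Γ → ℂ) g = (χ : G → ℂ) g) → (∀ g : G, (χh' : Γ → ℂ) g = (χ' : G → ℂ) g) → (Cfsg.detOrder (χh : Γ → ℂ)).Coprime (Nat.card S) → (Cfsg.detOrder (χh' : Γ → ℂ)).Coprime (Nat.card S) → ∀ β : Cfsg.IrrCharacter C, ∀ ε ε' : ℤ, (ε = 1 ∨ ε = -1) → (ε' = 1 ∨ ε' = -1) → (∀ c : C, ∀ s : Γ, Subgroup.zpowers s = S → (χh : Γ → ℂ) ((c : Γ) * s) = (ε : ℂ) * (β : C → ℂ) c) → (∀ c : C, ∀ s : Γ, Subgroup.zpowers s = S → (χh' : Γ → ℂ) ((c : Γ) * s) = (ε' : ℂ) * (β : C → ℂ) c) → χ = χ') ∧ (∀ β : Cfsg.IrrCharacter C, ∃ (χ : Cfsg.IrrCharacter G) (χh : Cfsg.IrrCharacter Γ) (ε : ℤ), (∀ s ∈ S, ∀ g g' : G, (g' : Γ) = s * g * s⁻¹ → (χ : G → ℂ) g'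 = (χ : G → ℂ) g) ∧ (∀ g : G, (χh : Γ → ℂ) g = (χ : G → ℂ) g) ∧ (Cfsg.detOrder (χh : Γ → ℂ)).Coprime (Nat.card S) ∧ (ε = 1 ∨ ε = -1) ∧ ∀ c : C, ∀ s : Γ, Subgroup.zpowers s = S → (χh : Γ → ℂ) ((c : Γ) * s) = (ε : ℂ) * (β : C → ℂ) c) := by
  classical
  obtain ⟨⟨s, hsS⟩, hgen⟩ := hcyc.exists_generator
  have hS : Subgroup.zpowers s = S := le_antisymm (Subgroup.zpowers_le.mpr hsS) fun x hx => by
    obtain ⟨k, hk⟩ := Subgroup.mem_zpowers_iff.mp (hgen ⟨x, hx⟩)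
    exact Subgroup.mem_zpowers_iff.mpr ⟨k, congrArg Subtype.val hk⟩
  have : G.Normal := by
    rw [← Subgroup.normalizer_eq_top_iff, eq_top_iff, ← htop]
    exact sup_le Subgroup.le_normalizer fun y hy => Subgroup.mem_normalizer_fintype (hnorm y hy)
  set q := Nat.card ↥S with hq
  have hord : orderOf s = q := by rw [hq, ← hS, Nat.card_zpowers]
  have : NeZero q := ⟨Nat.card_pos.ne'⟩
  have h : CfsgLib.GlaubermanCorr.CopSetup G s q C := by
    refine ⟨hord, hcop, fun g => ?_, fun k => ?_⟩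
    · obtain ⟨a, ha, b, hb, rfl⟩ := Subgroup.mem_sup_of_normal_left.mp (htop ▸ Subgroup.mem_top g)
      obtain ⟨i, rfl⟩ := mem_powers_iff_mem_zpowers.mpr (hS.symm ▸ hb : b ∈ Subgroup.zpowers s)
      exact ⟨a, ha, i, rfl⟩
    · rw [hC, Subgroup.mem_inf, Subgroup.mem_centralizer_iff]
      refine and_congr_right fun _ => ⟨fun hk => hk s hsS, fun hk y hy => ?_⟩
      obtain ⟨j, rfl⟩ := Subgroup.mem_zpowers_iff.mp (hS.symm ▸ hy : y ∈ Subgroup.zpowers s)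
      exact (Commute.zpow_left hk j).eq
  have hgens : ∀ t : Γ, Subgroup.zpowers t = S → ∃ j : ℕ, j.Coprime q ∧ t = s ^ j := by
    intro t ht
    obtain ⟨j, rfl⟩ := mem_powers_iff_mem_zpowers.mpr
      (show t ∈ Subgroup.zpowers s by rw [hS, ← ht]; exact Subgroup.mem_zpowers t)
    refine ⟨j, ?_, rfl⟩
    have h1 : orderOf (s ^ j) = q := by rw [← Nat.card_zpowers, hq]; exact congrArg (fun H : Subgroup Γ => Nat.card ↥H) ht
    rw [orderOf_pow, hord, Nat.div_eq_self] at h1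
    rcases h1 with h1 | h1
    · exact absurd h1 (NeZero.ne q)
    · rw [Nat.coprime_comm]; exact h1
  have hcan : ∀ (χ : Cfsg.IrrCharacter G) (χh : Cfsg.IrrCharacter Γ), (∀ g : G, (χh : Γ → ℂ) g = (χ : G → ℂ) g) →
      (Cfsg.detOrder (χh : Γ → ℂ)).Coprime q → CfsgLib.GlaubermanCorr.IsCan G s (χh : Γ → ℂ) := fun χ χh he hd =>
    ⟨χh.2, by simp only [he]; exact χ.2, h.det_of_coprime (CfsgLib.Char.IsIrrCharacter.isCharacter χh.2) hd⟩
  refine ⟨fun χ χh _ he hd => ?_, fun χ χ' χh χh' _ _ he he' hd hd' β ε ε' hε hε' h1 h2 => ?_, fun β => ?_⟩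
  · have hc := hcan χ χh he hd
    obtain ⟨β, ε, hε, hval, hne⟩ := h.exists_value hc
    have huniq : ∀ (β' : IrrCharacter C) (ε' : ℤ), (ε' = 1 ∨ ε' = -1) →
        (∀ c : C, ∀ t : Γ, Subgroup.zpowers t = S → (χh : Γ → ℂ) ((c : Γ) * t) = (ε' : ℂ) * (β' : C → ℂ) c) →
        β' = β ∧ ε' = ε := by
      intro β' ε' hε' hv'
      have heq : ∀ c : C, (ε' : ℂ) * (β' : C → ℂ) c = (ε : ℂ) * (β : C → ℂ) c := fun c => by
        rw [← hv' c s hS]; simpa using hval c 1 (Nat.coprime_one_left q)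
      have hi : classInner ((ε' : ℂ) • (β' : C → ℂ)) (β : C → ℂ) = classInner ((ε : ℂ) • (β : C → ℂ)) (β : C → ℂ) :=
        congrArg (fun φ => classInner φ (β : C → ℂ)) (funext heq)
      rw [CfsgLib.Char.classInner_smul_left, CfsgLib.Char.classInner_smul_left,
        CfsgLib.Char.IsIrrCharacter.classInner_eq β'.2 β.2, CfsgLib.Char.IsIrrCharacter.classInner_self β.2] at hi
      by_cases hb : β' = β
      · subst hb
        rw [if_pos rfl, mul_one, mul_one, Int.cast_inj] at hi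
        exact ⟨rfl, hi⟩
      · rw [if_neg (fun e => hb (Subtype.ext e)), mul_zero, mul_one] at hi
        rcases hε with rfl | rfl <;> simp at hi
    refine ⟨⟨(β, ε), ⟨hε, fun c t ht => ?_⟩, ?_⟩, fun β' ε' hε' hv' => ?_⟩
    · obtain ⟨j, hj, rfl⟩ := hgens t ht
      exact hval c j hj
    · rintro ⟨β', ε'⟩ ⟨hε', hv'⟩
      obtain ⟨rfl, rfl⟩ := huniq β' ε' hε' hv'
      rfl
    · obtain ⟨rfl, -⟩ := huniq β' ε' hε' hv'
      convert hne using 2
      funext c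
      exact (he ⟨c, hCG c.2⟩).symm
  · have := h.eq_of_value (hcan χ χh he hd) (hcan χ' χh' he' hd') hε hε' (fun c => h1 c s hS) (fun c => h2 c s hS)
    refine Subtype.ext (funext fun g => ?_)
    rw [← he, ← he', this]
  · obtain ⟨η, ε, hη, hinv, hε, hval⟩ := h.exists_of_char β
    refine ⟨⟨_, hη.res⟩, ⟨η, hη.irr⟩, ε, fun t ht g g' e => ?_, fun g => rfl,
      h.coprime_of_det (CfsgLib.Char.IsIrrCharacter.isCharacter hη.irr) hη.det, hε, fun c t ht => ?_⟩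
    · change η g' = η g
      rw [e]
      exact CfsgLib.Char.IsIrrCharacter.isClassFunction hη.irr g t
    · obtain ⟨j, hj, rfl⟩ := hgens t ht
      exact hval c j hj

end Cfsg.Agent.S4446
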