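import Cfsg.Statements.S4447
import Cfsg.Agent.Solvable.Glauberman
import Cfsg.Agent.Char.SolvableLayer
-- import your own Cfsg.Agent.* helpers here

set_option autoImplicit false
open Cfsg

namespace Cfsg.Agent.S4447

/-- Inside a finite group Γ let S normalise G and also normalise a normal subgroup N of G, with the order of S coprime to the index of N in G and S or G/N solvable. Then for every S-invariant irreducible character χ of G, the restriction of χ to N has an S-invariant irreducible constituent. -/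
theorem result {Γ : Type*} [Group Γ] [Fintype Γ] (G S N : Subgroup Γ) [Fintype G] [Fintype N] (hnorm : ∀ s ∈ S, ∀ g ∈ G, s * g * s⁻¹ ∈ G) (hNG : N ≤ G) [hNn : (N.subgroupOf G).Normal] (hNS : ∀ s ∈ S, ∀ n ∈ N, s * n * s⁻¹ ∈ N) (hcop : (N.relIndex G).Coprime (Nat.card S)) (hsolv : Group.IsSolvable S ∨ Group.IsSolvable (G ⧸ N.subgroupOf G)) (χ : Cfsg.IrrCharacter G) (hinv : (∀ s ∈ S, ∀ g g' : G, (g' : Γ) = s * g * s⁻¹ → (χ : G → ℂ) g' = (χ : G → ℂ) g)) : ∃ θ : Cfsg.IrrCharacter N, Cfsg.classInner (fun n : N => (χ : G → ℂ) ⟨n, hNG n.2⟩) (θ : N → ℂ) ≠ 0 ∧ (∀ s ∈ S, ∀ g g' : N, (g' : Γ) = s * g * s⁻¹ → (θ : N → ℂ) g' = (θ : N → ℂ) g) := by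
  classical
  obtain ⟨P, hP⟩ : ∃ P, Subgroup.normalizer (N : Set Γ) = P := ⟨_, rfl⟩
  have hPN : P ≤ Subgroup.normalizer (N : Set Γ) := hP.ge
  have hGP : G ≤ P := hP ▸ (Subgroup.normal_subgroupOf_iff_le_normalizer hNG).1 hNn
  have hNP : N ≤ P := hNG.trans hGP
  have hSN : S ≤ Subgroup.normalizer (N : Set Γ) := fun s hs => Subgroup.mem_normalizer_iff.2
    fun n => ⟨hNS s hs n, fun h => by simpa [mul_assoc] using hNS _ (S.inv_mem hs) _ h⟩
  have hSG : S ≤ Subgroup.normalizer (G : Set Γ) := fun s hs => Subgroup.mem_normalizer_iff.2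
    fun n => ⟨hnorm s hs n, fun h => by simpa [mul_assoc] using hnorm _ (S.inv_mem hs) _ h⟩
  have hSP : S ≤ P := hP ▸ hSN
  haveI : (N.subgroupOf P).Normal := (Subgroup.normal_subgroupOf_iff_le_normalizer hNP).2 hPN
  obtain ⟨ρ, hρ⟩ : ∃ ρ : ↥P →* Equiv.Perm (IrrCharacter N), ∀ y θ,
      ρ y θ = (CfsgLib.GlaubermanCorr.charAction hPN).smul y θ :=
    ⟨@MulAction.toPermHom ↥P (IrrCharacter N) _ (CfsgLib.GlaubermanCorr.charAction hPN),
      fun _ _ => rfl⟩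
  have hker : N.subgroupOf P ≤ ρ.ker := fun y hy => by
    refine MonoidHom.mem_ker.2 (Equiv.ext fun θ => ?_)
    rw [hρ, Equiv.Perm.one_apply]
    refine Subtype.ext (funext fun h => ?_)
    exact CfsgLib.GlaubermanCorr.inv_of_isClassFunction_mem
      (N.inv_mem (Subgroup.mem_subgroupOf.1 hy)) (CfsgLib.Char.IsIrrCharacter.isClassFunction θ.2)
      h _ rfl
  obtain ⟨σ, hσ⟩ : ∃ σ : ↥P ⧸ N.subgroupOf P →* Equiv.Perm (IrrCharacter N), ∀ y : ↥P,
      σ (QuotientGroup.mk y) = ρ y := ⟨QuotientGroup.lift _ ρ hker, fun _ => rfl⟩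
  letI : MulAction (↥P ⧸ N.subgroupOf P) (IrrCharacter N) := MulAction.compHom _ σ
  have hsmul : ∀ (y : ↥P) (θ : IrrCharacter N), (QuotientGroup.mk y : ↥P ⧸ N.subgroupOf P) • θ
      = (CfsgLib.GlaubermanCorr.charAction hPN).smul y θ :=
    fun y θ => (Equiv.congr_fun (hσ y) θ).trans (hρ y θ)
  obtain ⟨K, hK⟩ : ∃ K, (G.subgroupOf P).map (QuotientGroup.mk' (N.subgroupOf P)) = K := ⟨_, rfl⟩
  obtain ⟨A, hA⟩ : ∃ A, (S.subgroupOf P).map (QuotientGroup.mk' (N.subgroupOf P)) = A := ⟨_, rfl⟩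
  have hKc : Nat.card K = N.relIndex G := by
    rw [← hK, ← Subgroup.relIndex_ker, QuotientGroup.ker_mk', Subgroup.relIndex_subgroupOf hGP]
  have hAc : Nat.card A ∣ Nat.card S := by
    rw [← hA, ← Nat.card_congr (Subgroup.subgroupOfEquivOfLe hSP).toEquiv]
    exact Subgroup.card_map_dvd (S.subgroupOf P) _
  have hAK : A ≤ Subgroup.normalizer (K : Set (↥P ⧸ N.subgroupOf P)) := by
    rw [← hA, ← hK]
    rintro _ ⟨a, ha, rfl⟩
    exact Subgroup.le_normalizer_map _ ⟨a, Subgroup.mem_normalizer_iff.2 fun h => by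
      rw [Subgroup.mem_subgroupOf, Subgroup.mem_subgroupOf]
      exact Subgroup.mem_normalizer_iff.1 (hSG (Subgroup.mem_subgroupOf.1 ha)) h, rfl⟩
  have hsol : Group.IsSolvable A ∨ Group.IsSolvable K := by
    rcases hsolv with h | h
    · left
      haveI := h
      haveI : Group.IsSolvable (S.subgroupOf P) :=
        Group.isSolvable_of_isSolvable_injective (f := (Subgroup.subgroupOfEquivOfLe hSP).toMonoidHom)
          (Subgroup.subgroupOfEquivOfLe hSP).injective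
      subst hA
      exact Group.isSolvable_of_surjective
        (f := (QuotientGroup.mk' (N.subgroupOf P)).subgroupMap (S.subgroupOf P))
        (MonoidHom.subgroupMap_surjective _ _)
    · right
      haveI := h
      obtain ⟨f, hf⟩ : ∃ f : ↥G →* ↥P ⧸ N.subgroupOf P, ∀ g, f g =
          QuotientGroup.mk ⟨g, hGP g.2⟩ :=
        ⟨(QuotientGroup.mk' (N.subgroupOf P)).comp (Subgroup.inclusion hGP), fun _ => rfl⟩
      have hrange : ∀ g, f g ∈ K := fun g => hK ▸ ⟨⟨g, hGP g.2⟩, g.2, (hf g).symm⟩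
      refine Group.isSolvable_of_surjective (f := QuotientGroup.lift (N.subgroupOf G)
        (f.codRestrict K hrange) fun g hg => ?_) ?_
      · exact MonoidHom.mem_ker.2 (Subtype.ext ((hf g).trans
          ((QuotientGroup.eq_one_iff _).2 (Subgroup.mem_subgroupOf.2 (Subgroup.mem_subgroupOf.1 hg :)))))
      · rintro ⟨x, hx⟩
        obtain ⟨y, hy, rfl⟩ := hK.symm ▸ hx
        exact ⟨QuotientGroup.mk ⟨y.1, hy⟩, Subtype.ext (hf _)⟩
  have hχc := CfsgLib.Char.IsIrrCharacter.isClassFunction χ.2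
  have hPG : ∀ (Q : Subgroup Γ) (hQ : Q ≤ P), Q ≤ Subgroup.normalizer (G : Set Γ) →
      (∀ x ∈ Q, CfsgLib.GlaubermanCorr.InvBy G x (χ : G → ℂ)) → ∀ (x : Γ) (hx : x ∈ Q)
      (θ : IrrCharacter N), classInner (fun n : N => (χ : G → ℂ) ⟨n, hNG n.2⟩) (θ : N → ℂ) ≠ 0 →
      classInner (fun n : N => (χ : G → ℂ) ⟨n, hNG n.2⟩)
        (((QuotientGroup.mk ⟨x, hQ hx⟩ : ↥P ⧸ N.subgroupOf P) • θ : IrrCharacter N) : N → ℂ) ≠ 0 := by
    intro Q hQ hQG hQi x hx θ hθ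
    have h1 := CfsgLib.GlaubermanCorr.classInner_charAction hNG hQG (hQ.trans hPN) ⟨x, hx⟩ χ θ
    rw [show (CfsgLib.GlaubermanCorr.charAction hQG).smul ⟨x, hx⟩ χ = χ from
      (CfsgLib.GlaubermanCorr.charAction_fixed hQG χ).2 hQi ⟨x, hx⟩] at h1
    rw [hsmul, show ((CfsgLib.GlaubermanCorr.charAction hPN).smul ⟨x, hQ hx⟩ θ : IrrCharacter N) =
      (CfsgLib.GlaubermanCorr.charAction (hQ.trans hPN)).smul ⟨x, hx⟩ θ from rfl, h1]
    exact hθ
  obtain ⟨θ, hθ, hfix⟩ := CfsgLib.SZ.exists_fixed hAK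
    (hKc ▸ hcop.symm.coprime_dvd_left hAc) hsol
    {θ : IrrCharacter N | classInner (fun n : N => (χ : G → ℂ) ⟨n, hNG n.2⟩) (θ : N → ℂ) ≠ 0}
    (by
      obtain ⟨ψ, hψ, h⟩ := CfsgLib.Char.IsCharacter.exists_constituent
        (CfsgLib.Char.IsCharacter.comp (CfsgLib.Char.IsIrrCharacter.isCharacter χ.2)
          (Subgroup.inclusion hNG))
        (fun h0 => CfsgLib.Char.IsIrrCharacter.apply_one_ne_zero χ.2 (by
          simpa using congrFun h0 1))
      exact ⟨⟨ψ, hψ⟩, h⟩)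
    (by
      intro a ha θ hθ
      obtain ⟨y, hy, rfl⟩ := hA.symm ▸ ha
      exact hPG S hSP hSG hinv y hy θ hθ)
    (by
      intro θ hθ ψ hψ
      have hcon : ∀ φ : IrrCharacter N,
          classInner (fun n : N => (χ : G → ℂ) ⟨n, hNG n.2⟩) (φ : N → ℂ) ≠ 0 →
          classInner (fun x : N.subgroupOf G => (χ : G → ℂ) x)
            (CfsgLib.Char.pullBack (T := G) (φ : N → ℂ)) ≠ 0 := fun φ h => by
        rw [← CfsgLib.Char.classInner_pullBack hNG] at h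
        exact h
      obtain ⟨g, hg⟩ := CfsgLib.Char.mem_conjOrbit.1 (CfsgLib.Char.mem_conjOrbit_of_constituent χ.2
        (CfsgLib.Char.isIrrCharacter_pullBack hNG θ.2) (CfsgLib.Char.isIrrCharacter_pullBack hNG ψ.2)
        (hcon θ hθ) (hcon ψ hψ))
      refine ⟨QuotientGroup.mk ⟨g⁻¹, hGP (G.inv_mem g.2)⟩,
        hK ▸ ⟨⟨g⁻¹, hGP (G.inv_mem g.2)⟩, G.inv_mem g.2, rfl⟩, ?_⟩
      rw [hsmul]
      refine Subtype.ext (funext fun n => ?_)
      refine Eq.trans ?_ (congrFun hg ⟨⟨n, hNG n.2⟩, n.2⟩).symm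
      exact congrArg (θ : N → ℂ) (Subtype.ext (by
        simp [CfsgLib.GlaubermanCorr.conjSub_coe])))
    (by
      intro k hk θ hθ
      obtain ⟨y, hy, rfl⟩ := hK.symm ▸ hk
      exact hPG G hGP Subgroup.le_normalizer
        (fun x hx => CfsgLib.GlaubermanCorr.inv_of_isClassFunction_mem hx hχc) y hy θ hθ)
  refine ⟨θ, hθ, fun s hs g g' hg => ?_⟩
  have h1 := hfix (QuotientGroup.mk ⟨s, hSP hs⟩) (hA ▸ ⟨⟨s, hSP hs⟩, hs, rfl⟩)
  rw [hsmul] at h1
  refine ((congrFun (congrArg Subtype.val h1) g').symm).trans ?_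
  exact congrArg (θ : N → ℂ) (Subtype.ext (by
    simp [CfsgLib.GlaubermanCorr.conjSub_coe, hg, mul_assoc]))

end Cfsg.Agent.S4447
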