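import Cfsg.Statements.S4448
import Cfsg.Agent.Char.SolvableLayer
-- import your own Cfsg.Agent.* helpers here

set_option autoImplicit false
open Cfsg

namespace Cfsg.Agent.S4448

/-- Inside a finite group Γ let S normalise G and also normalise a normal subgroup N of G, with the order of S coprime to the index of N in G and G/N solvable. Then for every S-invariant irreducible character ϑ of N, the induced character ϑ^G has an S-invariant irreducible constituent. -/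
theorem result {Γ : Type*} [Group Γ] [Fintype Γ] (G S N : Subgroup Γ) [Fintype G] [Fintype N] (hnorm : ∀ s ∈ S, ∀ g ∈ G, s * g * s⁻¹ ∈ G) (hNG : N ≤ G) [hNn : (N.subgroupOf G).Normal] (hNS : ∀ s ∈ S, ∀ n ∈ N, s * n * s⁻¹ ∈ N) (hcop : (N.relIndex G).Coprime (Nat.card S)) (hsolv : Group.IsSolvable (G ⧸ N.subgroupOf G)) (θ : Cfsg.IrrCharacter N) (hinv : (∀ s ∈ S, ∀ g g' : N, (g' : Γ) = s * g * s⁻¹ → (θ : N → ℂ) g' = (θ : N → ℂ) g)) : ∃ χ : Cfsg.IrrCharacter G, Cfsg.classInner (fun n : N => (χ : G → ℂ) ⟨n, hNG n.2⟩) (θ : N → ℂ) ≠ 0 ∧ (∀ s ∈ S, ∀ g g' : G, (g' : Γ) = s * g * s⁻¹ → (χ : G → ℂ) g' = (χ : G → ℂ) g) := by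
  classical
  obtain ⟨Δ, hΔ⟩ : ∃ Δ, G ⊔ S = Δ := ⟨_, rfl⟩
  have hGΔ : G ≤ Δ := hΔ ▸ le_sup_left
  have hSΔ : S ≤ Δ := hΔ ▸ le_sup_right
  have hNΔ : N ≤ Δ := hNG.trans hGΔ
  have hKn : (G.subgroupOf Δ).Normal := (Subgroup.normal_subgroupOf_iff_le_normalizer hGΔ).2
    (hΔ ▸ sup_le Subgroup.le_normalizer fun s hs => Subgroup.mem_normalizer_iff.2
      fun n => ⟨hnorm s hs n, fun h => by simpa [mul_assoc] using hnorm _ (S.inv_mem hs) _ h⟩)
  have hNn' : (N.subgroupOf Δ).Normal := (Subgroup.normal_subgroupOf_iff_le_normalizer hNΔ).2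
    (hΔ ▸ sup_le ((Subgroup.normal_subgroupOf_iff_le_normalizer hNG).1 hNn)
      fun s hs => Subgroup.mem_normalizer_iff.2
      fun n => ⟨hNS s hs n, fun h => by simpa [mul_assoc] using hNS _ (S.inv_mem hs) _ h⟩)
  obtain ⟨eG, heG⟩ : ∃ e : ↥(G.subgroupOf Δ) ≃* ↥G, ∀ x, ((e x : G) : Γ) = ((x : Δ) : Γ) :=
    ⟨Subgroup.subgroupOfEquivOfLe hGΔ, fun _ => rfl⟩
  obtain ⟨eN, heN⟩ : ∃ e : ↥(N.subgroupOf Δ) ≃* ↥N, ∀ x, ((e x : N) : Γ) = ((x : Δ) : Γ) :=
    ⟨Subgroup.subgroupOfEquivOfLe hNΔ, fun _ => rfl⟩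
  haveI := Fintype.ofFinite ↥Δ
  haveI := Fintype.ofFinite ↥(G.subgroupOf Δ)
  haveI := Fintype.ofFinite ↥(N.subgroupOf Δ)
  have hle : N.subgroupOf Δ ≤ G.subgroupOf Δ := fun x hx =>
    Subgroup.mem_subgroupOf.2 (hNG (Subgroup.mem_subgroupOf.1 hx))
  have hidx : (N.subgroupOf Δ).relIndex (G.subgroupOf Δ) = N.relIndex G :=
    Subgroup.relIndex_subgroupOf hGΔ
  have hsol' : Group.IsSolvable
      (↥(G.subgroupOf Δ) ⧸ (N.subgroupOf Δ).subgroupOf (G.subgroupOf Δ)) := by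
    haveI := hsolv
    refine Group.isSolvable_of_surjective (f := QuotientGroup.map (N.subgroupOf G)
      ((N.subgroupOf Δ).subgroupOf (G.subgroupOf Δ)) eG.symm.toMonoidHom fun x hx => ?_) fun y => ?_
    · simp only [Subgroup.mem_comap, Subgroup.mem_subgroupOf] at hx ⊢
      rw [← heG]
      simpa using hx
    · obtain ⟨k, rfl⟩ := QuotientGroup.mk_surjective y
      exact ⟨QuotientGroup.mk (eG k), by simp⟩
  have hUK : S.subgroupOf Δ ⊓ G.subgroupOf Δ ≤ N.subgroupOf Δ := fun x hx => by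
    have h1 := Subgroup.mem_subgroupOf.1 hx.1
    have h2 := Subgroup.mem_subgroupOf.1 hx.2
    refine Subgroup.mem_subgroupOf.2 ?_
    have h3 : ((x : Γ)) ^ Nat.card S = 1 := by
      have := pow_card_eq_one' (G := ↥S) (x := ⟨x, h1⟩)
      exact congrArg Subtype.val this
    have h4 : (QuotientGroup.mk (⟨x, h2⟩ : G) : ↥G ⧸ N.subgroupOf G) = 1 := by
      refine orderOf_eq_one_iff.1 (Nat.eq_one_of_dvd_coprimes hcop
        (orderOf_dvd_natCard _) (orderOf_dvd_of_pow_eq_one ?_))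
      rw [← QuotientGroup.mk_pow, show (⟨x, h2⟩ : G) ^ Nat.card S = 1 from Subtype.ext h3,
        QuotientGroup.mk_one]
    exact Subgroup.mem_subgroupOf.1 ((QuotientGroup.eq_one_iff (⟨x, h2⟩ : G)).1 h4)
  have hcop' : ((N.subgroupOf Δ).relIndex (S.subgroupOf Δ)).Coprime
      ((N.subgroupOf Δ).relIndex (G.subgroupOf Δ)) := by
    rw [hidx]
    refine hcop.symm.coprime_dvd_left ?_
    rw [← Nat.card_congr (Subgroup.subgroupOfEquivOfLe hSΔ).toEquiv]
    exact Subgroup.index_dvd_card _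
  obtain ⟨χ, hχ, hχU⟩ := CfsgLib.Char.Layer.exists_invariant_solvable_aux _ (G.subgroupOf Δ)
    (N.subgroupOf Δ) (S.subgroupOf Δ) hKn hNn' hle rfl hsol' hUK hcop'
    ⟨fun x => (θ : N → ℂ) (eN x),
      CfsgLib.Char.IsIrrCharacter.comp_surjective θ.2 eN.toMonoidHom eN.surjective⟩
    (fun u hu k k' hk => hinv u.1 (Subgroup.mem_subgroupOf.1 hu) (eN k) (eN k') (by
      rw [heN, heN, hk]; rfl))
  refine ⟨⟨fun g => (χ : ↥(G.subgroupOf Δ) → ℂ) (eG.symm g),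
    CfsgLib.Char.IsIrrCharacter.comp_surjective χ.2 eG.symm.toMonoidHom eG.symm.surjective⟩,
    ?_, ?_⟩
  · rw [← CfsgLib.GlaubermanCorr.classInner_comp_equiv eN]
    convert hχ using 3
    rename_i x
    exact congrArg (χ : ↥(G.subgroupOf Δ) → ℂ) (eG.injective (Subtype.ext (by simp [heG, heN])))
  · intro s hs g g' hg
    refine hχU ⟨s, hSΔ hs⟩ (Subgroup.mem_subgroupOf.2 hs) (eG.symm g) (eG.symm g') (Subtype.ext ?_)
    have e1 := heG (eG.symm g)
    have e2 := heG (eG.symm g')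
    simp only [MulEquiv.apply_symm_apply] at e1 e2
    simp [← e1, ← e2, hg]

end Cfsg.Agent.S4448
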