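import Cfsg.Statements.S4450
import Cfsg.Agent.Char.LayerIntertwiners
import Cfsg.Agent.Char.SolvableLayer

set_option autoImplicit false
open Cfsg

namespace Cfsg.Agent.S4450

/-- Let N ≤ G be normal subgroups of the finite group Γ with the index of G in Γ coprime to the index of N in G, and Γ/G or G/N solvable. Then for every irreducible character ϑ of N invariant under conjugation by Γ, the induced character ϑ^G has an irreducible constituent invariant under conjugation by Γ. -/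
theorem result {Γ : Type*} [Group Γ] [Fintype Γ] (G N : Subgroup Γ) [hG : G.Normal] [hN : N.Normal] [Fintype G] [Fintype N] (hNG : N ≤ G) (hcop : (G.index).Coprime (N.relIndex G)) (hsolv : Group.IsSolvable (Γ ⧸ G) ∨ Group.IsSolvable (G ⧸ N.subgroupOf G)) (θ : Cfsg.IrrCharacter N) (hinv : ∀ (x : Γ) (n : N), (θ : N → ℂ) ⟨x * n * x⁻¹, hN.conj_mem n n.2 x⟩ = (θ : N → ℂ) n) : ∃ χ : Cfsg.IrrCharacter G, Cfsg.classInner (fun n : N => (χ : G → ℂ) ⟨n, hNG n.2⟩) (θ : N → ℂ) ≠ 0 ∧ ∀ (x : Γ) (g : G), (χ : G → ℂ) ⟨x * g * x⁻¹, hG.conj_mem g g.2 x⟩ = (χ : G → ℂ) g := by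
  classical
  rcases hsolv with hsolv | hsolv
  · obtain ⟨d, σ, hσ, hσθ⟩ := θ.2
    haveI := hσ
    have hinv' : ∀ x : Γ, CfsgLib.Char.conjOn x σ.character = σ.character := by
      rw [hσθ]; exact fun x => funext (hinv x)
    obtain ⟨χ, hχ, c, hc, hres, hfix⟩ :=
      CfsgLib.Char.Layer.exists_invariant_of_rep G N σ hNG hcop hsolv hinv'
    refine ⟨⟨χ, hχ⟩, ?_, hfix⟩
    rw [show (fun n : N => χ ⟨n, hNG n.2⟩) = c • (θ : N → ℂ) from
        funext fun n => by rw [hres, hσθ]; rfl,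
      CfsgLib.Char.classInner_smul_left, CfsgLib.Char.IsIrrCharacter.classInner_self θ.2, mul_one]
    exact hc
  · obtain ⟨Gb, hGb⟩ : ∃ Gb, G.map (QuotientGroup.mk' N) = Gb := ⟨_, rfl⟩
    haveI : Gb.Normal := hGb ▸ hG.map _ (QuotientGroup.mk'_surjective N)
    have hcard : Nat.card Gb = N.relIndex G := by
      rw [← hGb, ← Subgroup.relIndex_ker, QuotientGroup.ker_mk']
    have hidx : Gb.index = G.index := by
      rw [← hGb, Subgroup.index_map_eq _ (QuotientGroup.mk'_surjective N)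
        (by rwa [QuotientGroup.ker_mk'])]
    obtain ⟨Ub, hUb⟩ := Subgroup.exists_right_complement'_of_coprime (N := Gb)
      (by rw [hcard, hidx]; exact hcop.symm)
    obtain ⟨U, hU⟩ : ∃ U, Ub.comap (QuotientGroup.mk' N) = U := ⟨_, rfl⟩
    have hUG : U ⊓ G ≤ N := fun x hx => by
      refine (QuotientGroup.eq_one_iff x).1 (Subgroup.disjoint_def.1 hUb.disjoint ?_ ?_)
      · exact hGb ▸ ⟨x, hx.2, rfl⟩
      · exact (hU ▸ hx.1 : x ∈ Ub.comap (QuotientGroup.mk' N))
    have hrel : N.relIndex U = G.index := by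
      rw [show N.relIndex U = Nat.card (U.map (QuotientGroup.mk' N)) by
        rw [← Subgroup.relIndex_ker, QuotientGroup.ker_mk'], ← hU,
        Subgroup.map_comap_eq_self_of_surjective (QuotientGroup.mk'_surjective N), ← hidx,
        hUb.symm.index_eq_card]
    obtain ⟨χ, hχ, hχU⟩ := CfsgLib.Char.Layer.exists_invariant_solvable_aux _ G N U hG hN hNG rfl
      hsolv hUG (by rw [hrel]; exact hcop) θ
      (fun u _ n n' hn => by rw [← hinv u n]; exact congrArg _ (Subtype.ext hn))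
    refine ⟨χ, fun h0 => hχ (by convert h0), fun x g => ?_⟩
    obtain ⟨⟨⟨a, ha⟩, b, hb⟩, hab⟩ := hUb.2 (QuotientGroup.mk' N x)
    obtain ⟨g₀, hg₀, rfl⟩ := (hGb ▸ ha : a ∈ G.map (QuotientGroup.mk' N))
    have hu : g₀⁻¹ * x ∈ U := by
      rw [← hU, Subgroup.mem_comap, map_mul, map_inv, ← hab]
      simpa using hb
    have h1 := hχU _ hu g ⟨_, hG.conj_mem g g.2 (g₀⁻¹ * x)⟩ rfl
    have h2 := CfsgLib.Char.IsIrrCharacter.isClassFunction χ.2
      ⟨g₀⁻¹ * x * g * (g₀⁻¹ * x)⁻¹, hG.conj_mem g g.2 (g₀⁻¹ * x)⟩ ⟨g₀, hg₀⟩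
    rw [h1] at h2
    rw [← h2]
    exact congrArg _ (Subtype.ext (by simp [mul_assoc]))

end Cfsg.Agent.S4450
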