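import Cfsg.Statements.S4451
import Cfsg.Agent.GlaubermanCorr.CyclicMain

set_option autoImplicit false
open Cfsg

namespace Cfsg.Agent.S4451

/-- Let the finite group Γ be generated by a normal subgroup G and a cyclic subgroup S of coprime orders such that every non-identity element of S has the same centraliser C = G ⊓ C(S) in G. Let χ be an S-invariant irreducible character of G, χ̂ its canonical extension to Γ (determinantal order coprime to the order of S), and β the irreducible character of C with χ̂(c s) = ε₀ β(c) for c ∈ C and generators s of S (ε₀ = ±1). Then there are a sign ε = ±1, which may differ from ε₀, and a linear character μ of S with μ² = 1, such that: (a) χ̂(c x) = ε β(c) μ(x) for all c ∈ C and all x ∈ S other than 1; (b) the restriction of χ to C equals |S|·ϑ + ε β for some character ϑ of C or ϑ = 0; (c) |S| divides χ(1) − ε β(1). -/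
theorem result {Γ : Type*} [Group Γ] [Fintype Γ] (G S : Subgroup Γ) [Fintype G] (hnorm : ∀ s ∈ S, ∀ g ∈ G, s * g * s⁻¹ ∈ G) (hcop : (Nat.card G).Coprime (Nat.card S)) (htop : G ⊔ S = ⊤) (hcyc : IsCyclic S) (C : Subgroup Γ) [Fintype C] (hC : C = G ⊓ Subgroup.centralizer (S : Set Γ)) (hCG : C ≤ G) (hfpf : ∀ x ∈ S, x ≠ 1 → G ⊓ Subgroup.centralizer ({x} : Set Γ) = C) (χ : Cfsg.IrrCharacter G) (hinv : (∀ s ∈ S, ∀ g g' : G, (g' : Γ) = s * g * s⁻¹ → (χ : G → ℂ) g' = (χ : G → ℂ) g)) (χh : Cfsg.IrrCharacter Γ) (hext : (∀ g : G, (χh : Γ → ℂ) g = (χ : G → ℂ) g)) (hdet : (Cfsg.detOrder (χh : Γ → ℂ)).Coprime (Nat.card S)) (β : Cfsg.IrrCharacter C) (ε₀ : ℤ) (hε₀ : ε₀ = 1 ∨ ε₀ = -1) (hβ : ∀ c : C, ∀ s : Γ, Subgroup.zpowers s = S → (χh : Γ → ℂ) ((c : Γ) * s) = (ε₀ : ℂ) * (β : C → ℂ) c) : ∃ ε : ℤ, (ε = 1 ∨ ε = -1) ∧ (∃ μ : S → ℂ, Cfsg.IsCharacter S μ ∧ μ 1 = 1 ∧ (∀ x : S, μ x * μ x = 1) ∧ ∀ c : C, ∀ x : S, x ≠ 1 → (χh : Γ →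 ℂ) ((c : Γ) * x) = (ε : ℂ) * (β : C → ℂ) c * μ x) ∧ (∃ ϑ : C → ℂ, Cfsg.IsCharacter C ϑ ∧ (fun c : C => (χ : G → ℂ) ⟨c, hCG c.2⟩) = fun c => (Nat.card S : ℂ) * ϑ c + (ε : ℂ) * (β : C → ℂ) c) ∧ (Nat.card S : ℤ) ∣ (Cfsg.charDegree (χ : G → ℂ) : ℤ) - ε * (Cfsg.charDegree (β : C → ℂ) : ℤ) := by
  classical
  obtain ⟨⟨s, hsS⟩, hgen⟩ := hcyc.exists_generator
  have hS : Subgroup.zpowers s = S := le_antisymm (Subgroup.zpowers_le.mpr hsS) fun x hx => by
    obtain ⟨k, hk⟩ := Subgroup.mem_zpowers_iff.mp (hgen ⟨x, hx⟩)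
    exact Subgroup.mem_zpowers_iff.mpr ⟨k, congrArg Subtype.val hk⟩
  have : G.Normal := by
    rw [← Subgroup.normalizer_eq_top_iff, eq_top_iff, ← htop]
    exact sup_le Subgroup.le_normalizer fun y hy => Subgroup.mem_normalizer_fintype (hnorm y hy)
  set q := Nat.card ↥S with hq
  have hord : orderOf s = q := by rw [hq, ← hS, Nat.card_zpowers]
  have : NeZero q := ⟨Nat.card_pos.ne'⟩
  have h : CfsgLib.GlaubermanCorr.CopSetup G s q C := by
    refine ⟨hord, hcop, fun g => ?_, fun k => ?_⟩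
    · obtain ⟨a, ha, b, hb, rfl⟩ := Subgroup.mem_sup_of_normal_left.mp (htop ▸ Subgroup.mem_top g)
      obtain ⟨i, rfl⟩ := mem_powers_iff_mem_zpowers.mpr (hS.symm ▸ hb : b ∈ Subgroup.zpowers s)
      exact ⟨a, ha, i, rfl⟩
    · rw [hC, Subgroup.mem_inf, Subgroup.mem_centralizer_iff]
      refine and_congr_right fun _ => ⟨fun hk => hk s hsS, fun hk y hy => ?_⟩
      obtain ⟨j, rfl⟩ := Subgroup.mem_zpowers_iff.mp (hS.symm ▸ hy : y ∈ Subgroup.zpowers s)
      exact (Commute.zpow_left hk j).eq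
  have hgens : ∀ t : Γ, Subgroup.zpowers t = S → ∃ j : ℕ, j.Coprime q ∧ t = s ^ j := by
    intro t ht
    obtain ⟨j, rfl⟩ := mem_powers_iff_mem_zpowers.mpr
      (show t ∈ Subgroup.zpowers s by rw [hS, ← ht]; exact Subgroup.mem_zpowers t)
    refine ⟨j, ?_, rfl⟩
    have h1 : orderOf (s ^ j) = q := by rw [← Nat.card_zpowers, hq]; exact congrArg (fun H : Subgroup Γ => Nat.card ↥H) ht
    rw [orderOf_pow, hord, Nat.div_eq_self] at h1
    rcases h1 with h1 | h1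
    · exact absurd h1 (NeZero.ne q)
    · rw [Nat.coprime_comm]; exact h1
  have hcan : ∀ (χ : Cfsg.IrrCharacter G) (χh : Cfsg.IrrCharacter Γ), (∀ g : G, (χh : Γ → ℂ) g = (χ : G → ℂ) g) →
      (Cfsg.detOrder (χh : Γ → ℂ)).Coprime q → CfsgLib.GlaubermanCorr.IsCan G s (χh : Γ → ℂ) := fun χ χh he hd =>
    ⟨χh.2, by simp only [he]; exact χ.2, h.det_of_coprime (CfsgLib.Char.IsIrrCharacter.isCharacter χh.2) hd⟩
  have hc := hcan χ χh hext hdet
  have hres : (fun c : C => (χ : G → ℂ) ⟨c, hCG c.2⟩) = fun c : C => (χh : Γ → ℂ) c :=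
    funext fun c => (hext ⟨c, hCG c.2⟩).symm
  have h1deg : ∀ {H : Type _} [Group H] {φ : H → ℂ}, IsCharacter H φ → φ 1 = (charDegree φ : ℂ) := fun hφ =>
    CfsgLib.GlaubermanCorr.cast_charDegree hφ
  rcases (show q = 1 ∨ 2 ≤ q by have := NeZero.ne q; omega) with hq1 | hq2
  · have hs1 : s = 1 := orderOf_eq_one_iff.mp (hord.trans hq1)
    subst hs1
    have hCeq : C = G := le_antisymm hCG fun a ha => (h.memC a).mpr ⟨ha, by simp⟩
    subst hCeq
    have hval : ∀ c : C, (χ : C → ℂ) c = (ε₀ : ℂ) * (β : C → ℂ) c := fun c => by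
      rw [← hβ c 1 hS, mul_one, hext]
    have hε : ε₀ = 1 := by
      rcases hε₀ with rfl | rfl
      · rfl
      · exfalso
        have hi : classInner (χ : C → ℂ) (β : C → ℂ) = -1 := by
          rw [show (χ : C → ℂ) = ((-1 : ℤ) : ℂ) • (β : C → ℂ) from funext hval,
            CfsgLib.Char.classInner_smul_left, CfsgLib.Char.IsIrrCharacter.classInner_self β.2]
          simp
        obtain ⟨n, hn⟩ := CfsgLib.Char.IsCharacter.exists_classInner_eq_natCast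
          (CfsgLib.Char.IsIrrCharacter.isCharacter χ.2) β.2
        rw [hn] at hi
        have hi' : ((n : ℤ) : ℂ) = ((-1 : ℤ) : ℂ) := by push_cast; exact hi
        have := Int.cast_injective hi'
        omega
    subst hε
    have hχβ : χ = β := Subtype.ext (funext fun c => by simpa using hval c)
    refine ⟨1, Or.inl rfl, ⟨fun _ => 1, ?_, rfl, fun _ => one_mul 1, fun c x hx => ?_⟩,
      ⟨0, CfsgLib.Char.isCharacter_zero, ?_⟩, ?_⟩
    · simpa using CfsgLib.Char.isCharacter_ofHom (1 : ↥S →* ℂˣ)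
    · exact absurd (Subtype.ext (Subgroup.mem_bot.mp (by
        rw [← Subgroup.zpowers_one_eq_bot, hS]; exact x.2))) hx
    · funext c; rw [hχβ]; simp
    · rw [hq1, Nat.cast_one]; exact one_dvd _
  have hfpf' : ∀ i : ZMod q, i ≠ 0 → ∀ a ∈ G, Commute a (s ^ i.val) → a ∈ C := by
    intro i hi a ha hca
    rw [← hfpf (s ^ i.val) (hS ▸ Subgroup.npow_mem_zpowers s _) (fun e => hi ?_), Subgroup.mem_inf,
      Subgroup.mem_centralizer_singleton_iff]
    · exact ⟨ha, hca.eq⟩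
    · have := orderOf_dvd_of_pow_eq_one e
      rw [hord] at this
      exact (ZMod.val_eq_zero i).mp (Nat.eq_zero_of_dvd_of_lt this i.val_lt)
  obtain ⟨ε, δ, ϑ, hε, hδ, hδq, hϑ, hval, hsum⟩ := h.fpf_value hq2 hfpf' hc hε₀ (fun c => hβ c s hS)
  let u : ℂˣ := Units.mk0 δ (by rcases hδ with rfl | rfl <;> norm_num)
  have hu : orderOf u ∣ orderOf (⟨s, hsS⟩ : ↥S) := by
    rw [Subgroup.orderOf_mk, hord]
    exact orderOf_dvd_of_pow_eq_one (Units.ext (by simp [u, hδq]))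
  let μ := monoidHomOfForallMemZpowers hgen hu
  have hμs : μ ⟨s, hsS⟩ = u := monoidHomOfForallMemZpowers_apply_gen hgen hu
  have hμ : ∀ x : S, ∃ j : ℕ, (x : Γ) = s ^ j ∧ (μ x : ℂ) = δ ^ j := by
    intro x
    obtain ⟨j, rfl⟩ := mem_powers_iff_mem_zpowers.mpr (hgen x)
    exact ⟨j, rfl, by rw [map_pow, hμs, Units.val_pow_eq_pow_val]; rfl⟩
  refine ⟨ε, hε, ⟨fun x => (μ x : ℂ), CfsgLib.Char.isCharacter_ofHom μ, by simp, fun x => ?_, fun c x hx => ?_⟩,
    ⟨ϑ, hϑ, by rw [hres]; exact hsum⟩, ?_⟩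
  · obtain ⟨j, -, hj⟩ := hμ x
    beta_reduce
    rw [hj, ← mul_pow]
    rcases hδ with rfl | rfl <;> norm_num
  · obtain ⟨j, hj, hj'⟩ := hμ x
    beta_reduce
    have hi : (j : ZMod q) ≠ 0 := fun e => hx (Subtype.ext (by
      obtain ⟨k, rfl⟩ := (ZMod.natCast_eq_zero_iff j q).mp e
      rw [hj, pow_mul, ← hord, pow_orderOf_eq_one, one_pow]; rfl))
    have h2 := hval (j : ZMod q) hi c
    rw [ZMod.val_natCast] at h2
    rw [hj, hj', ← pow_mod_orderOf s j, hord, h2, ← pow_eq_pow_mod j hδq]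
    ring
  · have h2 := congrFun hsum 1
    rw [show (((1 : C) : Γ)) = ((1 : G) : Γ) from rfl, hext, h1deg (CfsgLib.Char.IsIrrCharacter.isCharacter χ.2),
      h1deg hϑ, h1deg (CfsgLib.Char.IsIrrCharacter.isCharacter β.2)] at h2
    refine ⟨(charDegree ϑ : ℤ), Int.cast_injective (α := ℂ) ?_⟩
    push_cast
    linear_combination h2

end Cfsg.Agent.S4451
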