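import Cfsg.Statements.S4452
import Cfsg.Agent.Char.CoprimeComplement
import Cfsg.Agent.GlaubermanCorr.Solvable
import Cfsg.Agent.Blocks.FullDefect

set_option autoImplicit false
open Cfsg

namespace Cfsg.Agent.S4452

/-- Let the finite group G be the product of a normal subgroup K and a solvable subgroup H of coprime orders, and let N = N_G(H). Then the number of irreducible characters of G of degree coprime to the order of H equals the number of irreducible characters of N of degree coprime to the order of H. (The two sets are in fact in a canonical bijection; only the equality of their sizes is stated here.) -/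
theorem result {G : Type*} [Group G] [Finite G] (K H : Subgroup G) [K.Normal] (hKH : K ⊔ H = ⊤) (hcop : (Nat.card K).Coprime (Nat.card H)) (hsolv : Group.IsSolvable H) : Nat.card {χ : Cfsg.IrrCharacter G // (Cfsg.charDegree (χ : G → ℂ)).Coprime (Nat.card H)} = Nat.card {η : Cfsg.IrrCharacter (Subgroup.normalizer (H : Set G)) // (Cfsg.charDegree (η : Subgroup.normalizer (H : Set G) → ℂ)).Coprime (Nat.card H)} := by
  classical
  haveI := Fintype.ofFinite G
  obtain ⟨Nn, hNn⟩ : ∃ Nn, Subgroup.normalizer (H : Set G) = Nn := ⟨_, rfl⟩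
  rw [hNn]
  obtain ⟨C, hC⟩ : ∃ C, K ⊓ Nn = C := ⟨_, rfl⟩
  have hdisj : K ⊓ H = ⊥ := Subgroup.inf_eq_bot_of_coprime hcop
  have hHN : H ≤ Nn := hNn ▸ Subgroup.le_normalizer
  have hCmem : ∀ k, k ∈ C ↔ k ∈ K ∧ ∀ y ∈ H, y * k = k * y := by
    intro k
    rw [← hC, Subgroup.mem_inf, ← hNn]
    refine and_congr_right fun hk => ⟨fun hn y hy => ?_, fun h => ?_⟩
    · have h1 : k * y * k⁻¹ * y⁻¹ ∈ K ⊓ H := by
        refine ⟨?_, H.mul_mem ((Subgroup.mem_normalizer_iff.1 hn y).1 hy) (H.inv_mem hy)⟩
        rw [show k * y * k⁻¹ * y⁻¹ = k * (y * k⁻¹ * y⁻¹) by group]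
        exact K.mul_mem hk (Subgroup.Normal.conj_mem inferInstance _ (K.inv_mem hk) y)
      rw [hdisj, Subgroup.mem_bot, mul_inv_eq_one, mul_inv_eq_iff_eq_mul] at h1
      exact h1.symm
    · rw [Subgroup.mem_normalizer_iff]
      intro y
      constructor
      · intro hy; rwa [← h y hy, mul_inv_cancel_right]
      · intro hy
        have h2 := h _ hy
        simp only [inv_mul_cancel_right] at h2
        exact (congrArg (· ∈ H) (mul_left_cancel h2)).mpr hy
  -- the two layers
  have hKidx : K.index = Nat.card H := by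
    have hc : Subgroup.IsComplement' K H := Subgroup.isComplement'_of_disjoint_and_mul_eq_univ
      (disjoint_iff.2 hdisj) (by rw [← Subgroup.normal_mul, hKH, Subgroup.coe_top])
    exact hc.symm.index_eq_card
  haveI : (K.subgroupOf Nn).Normal := Subgroup.normal_subgroupOf
  have hKN : Nn.subgroupOf Nn = ⊤ := Subgroup.subgroupOf_self Nn
  have hsupN : K.subgroupOf Nn ⊔ H.subgroupOf Nn = ⊤ := by
    rw [eq_top_iff]
    rintro ⟨g, hg⟩ -
    obtain ⟨k, hk, h, hh, rfl⟩ := Subgroup.mem_sup_of_normal_left.1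
      (hKH ▸ Subgroup.mem_top g : g ∈ K ⊔ H)
    have hkN : k ∈ Nn := by simpa using Nn.mul_mem hg (Nn.inv_mem (hHN hh))
    exact Subgroup.mem_sup_of_normal_left.2 ⟨⟨k, hkN⟩, Subgroup.mem_subgroupOf.2 hk, ⟨h, hHN hh⟩,
      Subgroup.mem_subgroupOf.2 hh, rfl⟩
  have hdisjN : K.subgroupOf Nn ⊓ H.subgroupOf Nn = ⊥ := by
    rw [eq_bot_iff]
    intro x hx
    have h1 : (x : G) ∈ K ⊓ H := ⟨Subgroup.mem_subgroupOf.1 hx.1, Subgroup.mem_subgroupOf.1 hx.2⟩
    rw [hdisj, Subgroup.mem_bot] at h1
    exact Subgroup.mem_bot.2 (Subtype.ext h1)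
  have hcardHN : Nat.card (H.subgroupOf Nn) = Nat.card H :=
    Nat.card_congr (Subgroup.subgroupOfEquivOfLe hHN).toEquiv
  have hKdvd : Nat.card (K.subgroupOf Nn) ∣ Nat.card K := by
    rw [← Subgroup.card_map_of_injective Nn.subtype_injective, Subgroup.subgroupOf_map_subtype]
    exact Subgroup.card_dvd_of_le inf_le_left
  have hcopN : (Nat.card (K.subgroupOf Nn)).Coprime (Nat.card (H.subgroupOf Nn)) := by
    rw [hcardHN]; exact hcop.coprime_dvd_left hKdvd
  have hKNidx : (K.subgroupOf Nn).index = Nat.card H := by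
    have hc : Subgroup.IsComplement' (K.subgroupOf Nn) (H.subgroupOf Nn) :=
      Subgroup.isComplement'_of_disjoint_and_mul_eq_univ (disjoint_iff.2 hdisjN)
        (by rw [← Subgroup.normal_mul, hsupN, Subgroup.coe_top])
    rw [hc.symm.index_eq_card, hcardHN]
  have h1 := CfsgLib.Char.card_degree_coprime_index K (by rw [hKidx]; exact hcop)
  have h2 := CfsgLib.Char.card_degree_coprime_index (K.subgroupOf Nn)
    (by rw [hKNidx]; exact hcop.coprime_dvd_left hKdvd)
  rw [hKidx] at h1
  rw [hKNidx] at h2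
  rw [h1, h2]
  congr 1
  · -- invariant characters
    haveI := Fintype.ofFinite K
    haveI := Fintype.ofFinite C
    obtain ⟨f, hf, -⟩ := CfsgLib.GlaubermanCorr.exists_equivariant hsolv
      (fun y _ k hk => Subgroup.Normal.conj_mem inferInstance k hk y) hcop hCmem
    have eC : C ≃* K.subgroupOf Nn :=
      ((MulEquiv.subgroupCongr (show (K.subgroupOf Nn).map Nn.subtype = C by
        rw [Subgroup.subgroupOf_map_subtype, hC])).symm.trans
          ((K.subgroupOf Nn).equivMapOfInjective _ Nn.subtype_injective).symm)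
    have hleft : Nat.card {θ : Cfsg.IrrCharacter K //
          ∀ g : G, CfsgLib.Char.conjOn g (θ : K → ℂ) = θ} =
        Nat.card {θ : Cfsg.IrrCharacter K // CfsgLib.GlaubermanCorr.Inv K H (θ : K → ℂ)} := by
      refine Nat.card_congr (Equiv.subtypeEquivRight fun θ => ⟨fun h y _ k k' hk => ?_, fun h g => ?_⟩)
      · refine Eq.trans (congrArg (θ : K → ℂ) (Subtype.ext hk)) (congrFun (h y) k)
      · obtain ⟨k, hk, y, hy, rfl⟩ := Subgroup.mem_sup_of_normal_left.1
          (hKH ▸ Subgroup.mem_top g : g ∈ K ⊔ H)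
        rw [← CfsgLib.Char.conjOn_conjOn]
        have hkθ : CfsgLib.Char.conjOn k (θ : K → ℂ) = θ :=
          (CfsgLib.Char.mem_inertia _ _).1 (CfsgLib.Char.le_inertia
            (CfsgLib.Char.IsIrrCharacter.isClassFunction θ.2) hk)
        rw [hkθ]
        funext n
        exact h y hy n _ rfl
    have hright : Nat.card {θ : Cfsg.IrrCharacter (K.subgroupOf Nn) //
          ∀ g : Nn, CfsgLib.Char.conjOn g (θ : K.subgroupOf Nn → ℂ) = θ} =
        Nat.card (Cfsg.IrrCharacter C) := by
      rw [Nat.card_congr (Equiv.subtypeUnivEquiv fun θ g => ?_)]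
      · exact Nat.card_congr
          { toFun := CfsgLib.Block.irrComp eC
            invFun := CfsgLib.Block.irrComp eC.symm
            left_inv := CfsgLib.Block.irrComp_symm eC
            right_inv := CfsgLib.Block.irrComp_symm' eC }
      · obtain ⟨k, hk, y, hy, rfl⟩ := Subgroup.mem_sup_of_normal_left.1
          (hsupN ▸ Subgroup.mem_top g : g ∈ K.subgroupOf Nn ⊔ H.subgroupOf Nn)
        rw [← CfsgLib.Char.conjOn_conjOn]
        have hkθ : CfsgLib.Char.conjOn k (θ : K.subgroupOf Nn → ℂ) = θ :=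
          (CfsgLib.Char.mem_inertia _ _).1 (CfsgLib.Char.le_inertia
            (CfsgLib.Char.IsIrrCharacter.isClassFunction θ.2) hk)
        rw [hkθ]
        funext n
        refine congrArg (θ : K.subgroupOf Nn → ℂ) (Subtype.ext (Subtype.ext ?_))
        have h3 := ((hCmem _).1 (hC ▸ ⟨Subgroup.mem_subgroupOf.1 n.2, n.1.2⟩ :
          ((n : Nn) : G) ∈ C)).2 _ (Subgroup.mem_subgroupOf.1 hy)
        show (y : G) * ((n : Nn) : G) * (y : G)⁻¹ = ((n : Nn) : G)
        rw [h3, mul_inv_cancel_right]
    rw [hleft, hright]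
    exact Nat.card_eq_of_bijective f hf
  · rw [CfsgLib.Char.card_hom_trivial_eq K H hKH hdisj,
      CfsgLib.Char.card_hom_trivial_eq _ _ hsupN hdisjN]
    let e := Subgroup.subgroupOfEquivOfLe hHN
    exact Nat.card_congr
      { toFun := fun m => m.comp e.toMonoidHom
        invFun := fun m => m.comp e.symm.toMonoidHom
        left_inv := fun m => MonoidHom.ext fun x => congrArg m (e.apply_symm_apply x)
        right_inv := fun m => MonoidHom.ext fun x => congrArg m (e.symm_apply_apply x) }

end Cfsg.Agent.S4452
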