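import Cfsg.Statements.S4453
import Cfsg.Agent.Char.SplitGlobal
import Cfsg.Agent.Coprime.Basic

set_option autoImplicit false
open Cfsg

namespace Cfsg.Agent.S4453

/-- Inside a finite group Γ let S normalise the solvable subgroup G of odd order with the orders of G and S coprime, let C = G ⊓ C(S), and let L ≤ K be S-invariant normal subgroups of G with K/L abelian, G = KC and H = LC (so C ≤ H ≤ G). Then for each S-invariant irreducible character χ of G there is exactly one S-invariant irreducible character ψ of H whose multiplicity in the restriction of χ to H is odd, and χ ↦ ψ is a bijection from the S-invariant irreducible characters of G onto those of H (distinct χ give distinct ψ, and every S-invariant ψ arises). -/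
theorem result {Γ : Type*} [Group Γ] [Fintype Γ] (G S : Subgroup Γ) [Fintype G] (hnorm : ∀ s ∈ S, ∀ g ∈ G, s * g * s⁻¹ ∈ G) (hcop : (Nat.card G).Coprime (Nat.card S)) (hGsolv : Group.IsSolvable G) (hodd : Odd (Nat.card G)) (C : Subgroup Γ) [Fintype C] (hC : C = G ⊓ Subgroup.centralizer (S : Set Γ)) (hCG : C ≤ G) (K L H : Subgroup Γ) [Fintype H] (hLK : L ≤ K) (hKG : K ≤ G) (hKn : ∀ g ∈ G, ∀ k ∈ K, g * k * g⁻¹ ∈ K) (hLn : ∀ g ∈ G, ∀ l ∈ L, g * l * g⁻¹ ∈ L) (hKS : ∀ s ∈ S, ∀ k ∈ K, s * k * s⁻¹ ∈ K) (hLS : ∀ s ∈ S, ∀ l ∈ L, s * l * s⁻¹ ∈ L) (hab : ∀ a ∈ K, ∀ b ∈ K, a * b * a⁻¹ * b⁻¹ ∈ L) (hGKC : K ⊔ C = G) (hH : H = L ⊔ C) (hHG : H ≤ G) : (∀ χ : Cfsg.IrrCharacter G, (∀ s ∈ S, ∀ g g' : G, (g' : Γ) = s * g * s⁻¹ → (χ : G → ℂ) g' = (χ : G → ℂ) g) → ∃! ψ : Cfsg.IrrCharacter H, (∀ s ∈ S, ∀ g g' : H, (g' : Γ) = s * g * s⁻¹ → (ψ : H → ℂ) g' = (ψ : H → ℂ) g) ∧ ∃ m : ℕ, Cfsg.classInner (fun h : H => (χ : G →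 ℂ) ⟨h, hHG h.2⟩) (ψ : H → ℂ) = (m : ℂ) ∧ Odd m) ∧ (∀ χ χ' : Cfsg.IrrCharacter G, (∀ s ∈ S, ∀ g g' : G, (g' : Γ) = s * g * s⁻¹ → (χ : G → ℂ) g' = (χ : G → ℂ) g) → (∀ s ∈ S, ∀ g g' : G, (g' : Γ) = s * g * s⁻¹ → (χ' : G → ℂ) g' = (χ' : G → ℂ) g) → ∀ ψ : Cfsg.IrrCharacter H, (∀ s ∈ S, ∀ g g' : H, (g' : Γ) = s * g * s⁻¹ → (ψ : H → ℂ) g' = (ψ : H → ℂ) g) → ∀ m m' : ℕ, Cfsg.classInner (fun h : H => (χ : G → ℂ) ⟨h, hHG h.2⟩) (ψ : H → ℂ) = (m : ℂ) → Odd m → Cfsg.classInner (fun h : H => (χ' : G → ℂ) ⟨h, hHG h.2⟩) (ψ : H → ℂ) = (m' : ℂ) → Odd m' → χ = χ') ∧ (∀ ψ : Cfsg.IrrCharacter H, (∀ s ∈ S, ∀ g g' : H, (g' : Γ) = s * g * s⁻¹ → (ψ : H → ℂ) g' = (ψ : H → ℂ) g) → ∃ χ : Cfsg.IrrCharacter G, (∀ s ∈ S, ∀ g g' : G, (g' : Γ) = s * g * s⁻¹ → (χ : G → ℂ) g' = (χ : G → ℂ) g) ∧ ∃ m : ℕ, Cfsg.classInner (fun h : H => (χ : G → ℂ) ⟨h, hHG h.2⟩) (ψ : H → ℂ) = (m : ℂ) ∧ Odd m) := by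
  classical
  haveI := hGsolv
  let act : S →* MulAut G :=
    { toFun := fun s =>
        { toFun := fun g => ⟨(s : Γ) * g * (s : Γ)⁻¹, hnorm s s.2 g g.2⟩
          invFun := fun g => ⟨((s⁻¹ : S) : Γ) * g * ((s⁻¹ : S) : Γ)⁻¹,
            hnorm _ (s⁻¹).2 g g.2⟩
          left_inv := fun g => Subtype.ext (by simp [mul_assoc])
          right_inv := fun g => Subtype.ext (by simp [mul_assoc])
          map_mul' := fun a b => Subtype.ext (by simp [mul_assoc]) }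
      map_one' := MulEquiv.ext fun g => Subtype.ext (by simp)
      map_mul' := fun s t => MulEquiv.ext fun g => Subtype.ext (by simp [mul_assoc]) }
  have hact : ∀ (s : S) (g : G), ((act s g : G) : Γ) = (s : Γ) * g * (s : Γ)⁻¹ := fun _ _ => rfl
  have hLG : L ≤ G := hLK.trans hKG
  have hKn' : (K.subgroupOf G).Normal := ⟨fun k hk g => hKn g g.2 k hk⟩
  have hLn' : (L.subgroupOf G).Normal := ⟨fun l hl g => hLn g g.2 l hl⟩
  have hmemH : ∀ h : G, h ∈ H.subgroupOf G ↔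
      ∃ l ∈ L.subgroupOf G, ∃ c ∈ C.subgroupOf G, l * c = h := fun h => by
    rw [hH, Subgroup.subgroupOf_sup hLG hCG]
    exact Subgroup.mem_sup_of_normal_left
  have hprod : ∀ g : G, ∃ k ∈ K.subgroupOf G, ∃ c ∈ C.subgroupOf G, k * c = g := fun g => by
    refine Subgroup.mem_sup_of_normal_left.1 ?_
    rw [← Subgroup.subgroupOf_sup hKG hCG, hGKC]
    exact g.2
  have hL1 : L.subgroupOf G ≤ K.subgroupOf G ⊓ H.subgroupOf G := fun l hl =>
    ⟨hLK hl, (hmemH l).2 ⟨l, hl, 1, one_mem _, mul_one l⟩⟩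
  have hCH : C.subgroupOf G ≤ H.subgroupOf G := fun c hc =>
    (hmemH c).2 ⟨1, one_mem _, c, hc, one_mul c⟩
  have hfix : ∀ (c : G), c ∈ C.subgroupOf G ↔ ∀ s : S, act s c = c := fun c => by
    rw [Subgroup.mem_subgroupOf, hC, Subgroup.mem_inf, Subgroup.mem_centralizer_iff]
    constructor
    · intro h s
      exact Subtype.ext (by rw [hact, h.2 s s.2, mul_inv_cancel_right])
    · intro h
      refine ⟨c.2, fun s hs => ?_⟩
      exact mul_inv_eq_iff_eq_mul.1 (congrArg Subtype.val (h ⟨s, hs⟩))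
  have hinvH : ∀ (s : S) (h : G), h ∈ H.subgroupOf G → act s h ∈ H.subgroupOf G := fun s h hh => by
    obtain ⟨l, hl, c, hc, rfl⟩ := (hmemH h).1 hh
    rw [map_mul, (hfix c).1 hc s]
    exact (hmemH _).2 ⟨_, show act s l ∈ L.subgroupOf G from hLS s s.2 l hl, c, hc, rfl⟩
  let X : CfsgLib.Char.SplitCorr.Ctx G S :=
    { K := K.subgroupOf G
      L := K.subgroupOf G ⊓ H.subgroupOf G
      H := H.subgroupOf G
      C := C.subgroupOf G
      act := act
      normK := hKn'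
      normL := ⟨fun x hx g => by
        obtain ⟨k, hk, c, hc, rfl⟩ := hprod g
        have hy : c * x * c⁻¹ ∈ K.subgroupOf G ⊓ H.subgroupOf G :=
          ⟨hKn'.conj_mem x hx.1 c, (H.subgroupOf G).mul_mem ((H.subgroupOf G).mul_mem (hCH hc) hx.2)
            ((H.subgroupOf G).inv_mem (hCH hc))⟩
        have hcomm : k * (c * x * c⁻¹) * k⁻¹ * (c * x * c⁻¹)⁻¹ ∈ L.subgroupOf G :=
          hab k hk ((c * x * c⁻¹ : G) : Γ) hy.1
        have h := (K.subgroupOf G ⊓ H.subgroupOf G).mul_mem (hL1 hcomm) hy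
        rw [inv_mul_cancel_right] at h
        simpa [mul_assoc] using h⟩
      le := inf_le_left
      comm := fun a ha b hb => hL1 (hab a ha b hb)
      prod := hprod
      memH := fun h => by
        constructor
        · intro hh
          obtain ⟨l, hl, c, hc, e⟩ := (hmemH h).1 hh
          exact ⟨l, hL1 hl, c, hc, e⟩
        · rintro ⟨l, hl, c, hc, rfl⟩
          exact (H.subgroupOf G).mul_mem hl.2 (hCH hc)
      inter := fun h h1 h2 => ⟨h2, h1⟩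
      fixC := fun s c hc => (hfix c).1 hc s
      invK := fun s k hk => hKS s s.2 k hk
      invL := fun s l hl => ⟨hKS s s.2 l hl.1, hinvH s l hl.2⟩
      fixDual := fun lam h1 h2 => by
        refine MonoidHom.ext fun k => ?_
        letI := MulDistribMulAction.compHom G act
        let M : Subgroup G := lam.ker.map (K.subgroupOf G).subtype
        haveI : Group.IsSolvable M := Group.isSolvable_of_isSolvable_injective M.subtype_injective
        obtain ⟨c, hc, hkc⟩ := CfsgLib.Coprime.exists_fixed_mem_coset_of_isSolvable' (A := S) M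
          (fun s n hn => by
            obtain ⟨x, hx, rfl⟩ := Subgroup.mem_map.1 hn
            exact Subgroup.mem_map.2 ⟨_, MonoidHom.mem_ker.2 ((h2 s x).trans (MonoidHom.mem_ker.1 hx)),
              rfl⟩)
          (hcop.symm.coprime_dvd_right (Subgroup.card_subgroup_dvd_card M)) (k : G) fun s => by
            refine Subgroup.mem_map.2 ⟨k⁻¹ * CfsgLib.Char.SplitCorr.subAut act (K.subgroupOf G)
              (fun s k hk => hKS s s.2 k hk) s k, ?_, rfl⟩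
            rw [MonoidHom.mem_ker, map_mul, map_inv, h2 s k, inv_mul_cancel]
        obtain ⟨x, hx, hxk⟩ := Subgroup.mem_map.1 hkc
        have hcK : c ∈ K.subgroupOf G := by
          have h := (K.subgroupOf G).mul_mem k.2 x.2
          rwa [show ((x : K.subgroupOf G) : G) = (k : G)⁻¹ * c from hxk, mul_inv_cancel_left] at h
        have h3 := h1 (k * x) (by
          rw [Subgroup.coe_mul, show ((x : K.subgroupOf G) : G) = (k : G)⁻¹ * c from hxk,
            mul_inv_cancel_left]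
          exact ⟨hcK, hCH ((hfix c).2 hc)⟩)
        rwa [map_mul, MonoidHom.mem_ker.1 hx, mul_one] at h3
      odd := hodd
      coprime := hcop }
  letI : Fintype X.K := Fintype.ofFinite _
  letI : Fintype X.L := Fintype.ofFinite _
  letI : Fintype X.H := Fintype.ofFinite _
  letI : Fintype S := Fintype.ofFinite _
  obtain ⟨hA, hB, hS⟩ := X.main
  let e : X.H ≃* H := Subgroup.subgroupOfEquivOfLe hHG
  have hup : ∀ ψ : H → ℂ, IsIrrCharacter H ψ → IsIrrCharacter X.H fun h => ψ (e h) :=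
    fun ψ h => CfsgLib.Char.IsIrrCharacter.comp_surjective h e.toMonoidHom e.surjective
  have hdown : ∀ ψ : X.H → ℂ, IsIrrCharacter X.H ψ → IsIrrCharacter H fun h => ψ (e.symm h) :=
    fun ψ h => CfsgLib.Char.IsIrrCharacter.comp_surjective h e.symm.toMonoidHom e.symm.surjective
  have hGS : ∀ χ : G → ℂ,
      (∀ s ∈ S, ∀ g g' : G, (g' : Γ) = s * g * s⁻¹ → χ g' = χ g) ↔
        ∀ s g, χ (X.act s g) = χ g := fun χ =>
    ⟨fun h s g => h s s.2 g _ rfl, fun h s hs g g' hg => by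
      rw [← h ⟨s, hs⟩ g, show g' = X.act ⟨s, hs⟩ g from Subtype.ext hg]⟩
  have hHS : ∀ ψ : H → ℂ,
      (∀ s ∈ S, ∀ g g' : H, (g' : Γ) = s * g * s⁻¹ → ψ g' = ψ g) ↔
        ∀ s h, ψ (e (X.actH s h)) = ψ (e h) := fun ψ =>
    ⟨fun h s x => h s s.2 _ _ rfl, fun h s hs g g' hg => by
      have h1 := h ⟨s, hs⟩ (e.symm g)
      rw [e.apply_symm_apply] at h1
      rw [← h1, show g' = e (X.actH ⟨s, hs⟩ (e.symm g)) from Subtype.ext hg]⟩
  have hin : ∀ (χ : G → ℂ) (ψ : H → ℂ), classInner (X.resH χ) (fun h => ψ (e h)) =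
      classInner (fun h : H => χ ⟨h, hHG h.2⟩) ψ := fun χ ψ =>
    CfsgLib.Char.classInner_comp_mulEquiv e (fun h : H => χ ⟨h, hHG h.2⟩) ψ
  refine ⟨fun χ hχ => ?_, fun χ χ' hχ hχ' ψ hψ m m' hm hmo hm' hmo' => ?_, fun ψ hψ => ?_⟩
  · obtain ⟨ψ, hψ, hψS, ⟨m, hm, hmo⟩, hu⟩ := hA χ χ.2 ((hGS _).1 hχ)
    have he : (fun h => (fun x => ψ (e.symm x)) (e h)) = ψ := funext fun h => by simp
    refine ⟨⟨_, hdown ψ hψ⟩, ⟨(hHS _).2 fun s h => ?_, m, ?_, hmo⟩, ?_⟩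
    · simpa using hψS s h
    · rw [← hin, he]
      exact hm
    · rintro ⟨ψ', hψ'⟩ ⟨hψS', m', hm', hmo'⟩
      have h := hu (fun h => ψ' (e h)) (hup ψ' hψ') ((hHS ψ').1 hψS')
        ⟨m', (hin _ _).trans hm', hmo'⟩
      exact Subtype.ext (funext fun x => by simpa using congrFun h (e.symm x))
  · exact Subtype.ext (hB χ χ' χ.2 ((hGS _).1 hχ) χ'.2 ((hGS _).1 hχ') (fun h => ψ.1 (e h))
      (hup _ ψ.2) ((hHS _).1 hψ) ⟨m, (hin _ _).trans hm, hmo⟩ ⟨m', (hin _ _).trans hm', hmo'⟩)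
  · obtain ⟨χ, hχ, hχS, m, hm, hmo⟩ := hS (fun h => ψ.1 (e h)) (hup _ ψ.2) ((hHS _).1 hψ)
    exact ⟨⟨χ, hχ⟩, (hGS χ).2 hχS, m, (hin _ _).symm.trans hm, hmo⟩

end Cfsg.Agent.S4453
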