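import Cfsg.Statements.S4458
import Cfsg.Agent.Char.TwoDegrees
-- import your own Cfsg.Agent.* helpers here

set_option autoImplicit false
open Cfsg

namespace Cfsg.Agent.S4458

/-- If a finite group has exactly two irreducible character degrees, 1 and m with m ≠ 1, then its commutator subgroup is abelian. -/
theorem result {G : Type*} [Group G] [Finite G] (m : ℕ) (hcd : ∀ χ : Cfsg.IrrCharacter G, Cfsg.charDegree (χ : G → ℂ) = 1 ∨ Cfsg.charDegree (χ : G → ℂ) = m) (hm : ∃ χ : Cfsg.IrrCharacter G, Cfsg.charDegree (χ : G → ℂ) = m) (hm1 : m ≠ 1) : ∀ a ∈ commutator G, ∀ b ∈ commutator G, a * b = b * a := by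
  haveI := Fintype.ofFinite G
  have hdeg : ∀ f : G → ℂ, Cfsg.IsIrrCharacter G f → f 1 = (Cfsg.charDegree f : ℂ) := fun f hf => by
    obtain ⟨d, -, hd⟩ := CfsgLib.Char.IsIrrCharacter.exists_degree hf
    show f 1 = ((⌊(f 1).re⌋₊ : ℕ) : ℂ)
    rw [hd, Complex.natCast_re, Nat.floor_natCast]
  obtain ⟨χ, hχ⟩ := hm
  have hm0 : 0 < m := by
    obtain ⟨d, hd0, hd⟩ := CfsgLib.Char.IsIrrCharacter.exists_degree χ.2
    have h1 := hdeg _ χ.2
    rw [hd, Nat.cast_inj] at h1
    omega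
  refine CfsgLib.Char.TwoDegrees.commutator_abelian (fun f hf => ?_) hm1 hm0
  rcases hcd ⟨f, hf⟩ with h | h
  · exact Or.inl (by rw [hdeg f hf, h, Nat.cast_one])
  · exact Or.inr (by rw [hdeg f hf, h])

end Cfsg.Agent.S4458
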