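import Cfsg.Statements.S4459
import Cfsg.Agent.Char.DegreesPrime
-- import your own Cfsg.Agent.* helpers here

set_option autoImplicit false
open Cfsg

namespace Cfsg.Agent.S4459

/-- Let G be a non-abelian finite group and p a prime. Then the irreducible character degrees of G are exactly 1 and p if and only if either G has an abelian normal subgroup of index p or the centre of G has index p³. -/
theorem result {G : Type*} [Group G] [Finite G] (hG : ∃ a b : G, a * b ≠ b * a) (p : ℕ) (hp : p.Prime) : ((∀ χ : Cfsg.IrrCharacter G, Cfsg.charDegree (χ : G → ℂ) = 1 ∨ Cfsg.charDegree (χ : G → ℂ) = p) ∧ ∃ χ : Cfsg.IrrCharacter G, Cfsg.charDegree (χ : G → ℂ) = p) ↔ ((∃ A : Subgroup G, A.Normal ∧ (∀ a ∈ A, ∀ b ∈ A, a * b = b * a) ∧ A.index = p) ∨ (Subgroup.center G).index = p ^ 3) := by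
  classical
  haveI := Fintype.ofFinite G
  haveI := Fact.mk hp
  have hdeg : ∀ f : G → ℂ, Cfsg.IsIrrCharacter G f → f 1 = (Cfsg.charDegree f : ℂ) := fun f hf => by
    obtain ⟨d, -, hd⟩ := CfsgLib.Char.IsIrrCharacter.exists_degree hf
    show f 1 = ((⌊(f 1).re⌋₊ : ℕ) : ℂ)
    rw [hd, Complex.natCast_re, Nat.floor_natCast]
  constructor
  · rintro ⟨h, -⟩
    refine CfsgLib.Char.DegreesPrime.abelian_index_or_center hG fun f hf => ?_
    rcases h ⟨f, hf⟩ with h1 | h1
    · exact Or.inl (by rw [hdeg f hf, h1, Nat.cast_one])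
    · exact Or.inr (by rw [hdeg f hf, h1])
  · intro hcase
    have hbound : ∀ χ : Cfsg.IrrCharacter G, Cfsg.charDegree (χ : G → ℂ) = 1 ∨
        Cfsg.charDegree (χ : G → ℂ) = p := by
      intro χ
      obtain ⟨n, ρ, hρ, hρχ⟩ := χ.2
      haveI := hρ
      have hn : Cfsg.charDegree (χ : G → ℂ) = n := by
        show ⌊((χ : G → ℂ) 1).re⌋₊ = n
        rw [← hρχ, ρ.char_one, Module.finrank_fin_fun, Complex.natCast_re, Nat.floor_natCast]
      rw [hn]
      rcases hcase with ⟨A, hA, hab, hAi⟩ | hZ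
      · haveI := hA
        have h := CfsgLib.Char.finrank_dvd_index_of_abelian ρ A hab
        rw [Module.finrank_fin_fun, hAi] at h
        exact (Nat.dvd_prime hp).1 h
      · have h := CfsgLib.Char.finrank_dvd_index_center ρ
        rw [Module.finrank_fin_fun, hZ] at h
        obtain ⟨i, -, rfl⟩ := (Nat.dvd_prime_pow hp).1 h
        have hsq := CfsgLib.Char.IsIrrCharacter.degree_sq_mul_le χ.2 (B := ⊥) (C := ⊤)
          (D := Subgroup.center G) le_top (fun d hd c _ => by
            rw [Subgroup.mem_bot, ← Subgroup.mem_center_iff.1 hd c, mul_inv_cancel_right,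
              mul_inv_cancel])
          (fun b hb => by rw [Subgroup.mem_bot.1 hb])
        rw [← hρχ, ρ.char_one, Module.finrank_fin_fun, Complex.norm_natCast, Subgroup.card_top,
          ← (Subgroup.center G).card_mul_index, hZ, Nat.cast_mul] at hsq
        have hz : (0 : ℝ) < (Nat.card (Subgroup.center G) : ℝ) := Nat.cast_pos.2 Nat.card_pos
        have hle : ((p ^ i) ^ 2 : ℕ) ≤ p ^ 3 := by
          have h' : (((p ^ i : ℕ) : ℝ)) ^ 2 ≤ ((p ^ 3 : ℕ) : ℝ) := by
            have hp3 : (0 : ℝ) < ((p ^ 3 : ℕ) : ℝ) := Nat.cast_pos.2 (pow_pos hp.pos 3)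
            refine le_of_mul_le_mul_right ?_ (mul_pos (mul_pos hz hz) hp3)
            linarith [hsq]
          exact_mod_cast h'
        rw [← pow_mul] at hle
        have h2 := (Nat.pow_le_pow_iff_right hp.one_lt).1 hle
        have : i ≤ 1 := by omega
        interval_cases i
        · exact Or.inl (pow_zero p)
        · exact Or.inr (pow_one p)
    refine ⟨hbound, ?_⟩
    by_contra hno
    push Not at hno
    obtain ⟨a, b, hne⟩ := hG
    refine hne (CfsgLib.Char.abelian_iff_degree_one.2 (fun f hf => ?_) a b)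
    rw [hdeg f hf, (hbound ⟨f, hf⟩).resolve_right (hno ⟨f, hf⟩), Nat.cast_one]

end Cfsg.Agent.S4459
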