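import Cfsg.Statements.S4460
import Cfsg.Agent.Char.ThreeDegrees
import Cfsg.Agent.Char.PrimeDegrees

set_option autoImplicit false
open Cfsg

namespace Cfsg.Agent.S4460

/-- A finite group with exactly three distinct irreducible character degrees is solvable of derived length at most 3: its third derived subgroup is trivial. -/
theorem result {G : Type*} [Group G] [Finite G] (hcd : Nat.card {n : ℕ // ∃ χ : Cfsg.IrrCharacter G, Cfsg.charDegree (χ : G → ℂ) = n} = 3) : derivedSeries G 3 = ⊥ := by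
  classical
  haveI := Fintype.ofFinite G
  set S : Set ℕ := {n : ℕ | ∃ χ : Cfsg.IrrCharacter G, Cfsg.charDegree (χ : G → ℂ) = n} with hS
  have hfin : S.Finite := Set.finite_coe_iff.1 (Nat.finite_of_card_ne_zero (show Nat.card S ≠ 0 by
    rw [show Nat.card S = 3 from hcd]; norm_num))
  have h1 : (1 : ℕ) ∈ S := ⟨⟨_, CfsgLib.Char.isIrrCharacter_one⟩,
    CfsgLib.Char.PrimeDeg.charDegree_natCast (by simp)⟩
  have hc : (S \ {1}).ncard = 2 := by
    rw [Set.ncard_sdiff_singleton_of_mem h1, ← Nat.card_coe_set_eq, show Nat.card S = 3 from hcd]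
  obtain ⟨a, b, -, hab⟩ := Set.ncard_eq_two.1 hc
  refine CfsgLib.Char.ThreeDeg.derived_three _ G rfl a b fun f hf => ?_
  obtain ⟨m, -, hm⟩ := CfsgLib.Char.IsIrrCharacter.exists_degree hf
  have hmS : m ∈ S := ⟨⟨f, hf⟩, CfsgLib.Char.PrimeDeg.charDegree_natCast hm⟩
  rw [hm]
  by_cases h : m = 1
  · left; rw [h, Nat.cast_one]
  · right
    have : m ∈ S \ {1} := ⟨hmS, h⟩
    rw [hab] at this
    rcases this with h | h
    · left; rw [h]
    · right; rw [Set.mem_singleton_iff.1 h]

end Cfsg.Agent.S4460
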