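-- Proof of statement S4462.
import Cfsg.Statements.S4462
import Cfsg.Agent.Char.Garrison

set_option autoImplicit false
open Cfsg

namespace Cfsg.Agent.S4462

/-- Let G be a finite solvable group with exactly n distinct irreducible character degrees. Then G has normal subgroups 1 = N₀ ≤ N₁ ≤ ⋯ ≤ Nₙ = G with every quotient N_{i+1}/N_i nilpotent (the nilpotent length of G is at most n). -/
theorem result {G : Type*} [Group G] [Finite G] (hsolv : Group.IsSolvable G) (n : ℕ) (hcd : Nat.card {d : ℕ // ∃ χ : Cfsg.IrrCharacter G, Cfsg.charDegree (χ : G → ℂ) = d} = n) : ∃ N : Fin (n + 1) → Subgroup G, N 0 = ⊥ ∧ N (Fin.last n) = ⊤ ∧ Monotone N ∧ (∀ i, (N i).Normal) ∧ ∀ i : Fin n, ∀ h : (N i.castSucc).subgroupOf (N i.succ) |>.Normal, Group.IsNilpotent (↥(N i.succ) ⧸ (N i.castSucc).subgroupOf (N i.succ)) := by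
    have h : (CfsgLib.Char.Garrison.degSet G).ncard ≤ n := by
      rw [← Nat.card_coe_set_eq]
      exact hcd.le
    obtain ⟨N, h0, hn, hm, hnorm, hnil⟩ := CfsgLib.Char.Garrison.exists_chain n G hsolv h
    refine ⟨fun i => N i, h0, hn, fun a b hab => hm hab, fun i => hnorm i, fun i hi => ?_⟩
    obtain ⟨c, hc⟩ := hnil i
    haveI := hi
    rw [Subgroup.nilpotent_iff_lowerCentralSeries]
    refine ⟨c, ?_⟩
    rw [← Subgroup.map_top_of_surjective _ (QuotientGroup.mk'_surjective _),
      ← Subgroup.map_lowerCentralSeries, Subgroup.map_eq_bot_iff, QuotientGroup.ker_mk']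
    intro x hx
    have h2 : (x : G) ∈ ((⊤ : Subgroup ↥(N i.succ)).lowerCentralSeries c).map
        (N i.succ).subtype := ⟨x, hx, rfl⟩
    rw [Subgroup.top_subtype_lowerCentralSeries] at h2
    exact Subgroup.mem_subgroupOf.2 (hc h2)

end Cfsg.Agent.S4462
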