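import Cfsg.Statements.S4466
import Cfsg.Agent.SmallDegree.PrimeDegrees

set_option autoImplicit false
open Cfsg

namespace Cfsg.Agent.S4466

/-- If every irreducible character of the finite group G of degree greater than one has prime degree, then G is solvable. -/
theorem result {G : Type*} [Group G] [Finite G] (h : ∀ χ : Cfsg.IrrCharacter G, Cfsg.charDegree (χ : G → ℂ) ≠ 1 → (Cfsg.charDegree (χ : G → ℂ)).Prime) : Group.IsSolvable G := by
  refine CfsgLib.PrimeDegrees.main (Nat.card G) G le_rfl fun χ hχ d hd => ?_
  have hc : Cfsg.charDegree χ = d := by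
    rw [Cfsg.charDegree, hd, Complex.natCast_re, Nat.floor_natCast]
  have := h ⟨χ, hχ⟩
  rw [hc] at this
  exact (em (d = 1)).imp_right this

end Cfsg.Agent.S4466
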