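import Cfsg.Statements.S4471
import Cfsg.Agent.BelowTwoP.Main

set_option autoImplicit false
set_option linter.style.haveILetI false
open Cfsg

namespace Cfsg.Agent.S4471

/-- Let p ≥ 7 be a prime and let the finite group G have a faithful irreducible character of degree n with n < 2p and n ≠ p. If the Sylow p-subgroups of G are non-abelian then p² does not divide the index of O_p(G) in G; consequently, in every case G/O_p(G) has abelian Sylow p-subgroups. -/
theorem result {G : Type*} [Group G] [Finite G] (χ : Cfsg.IrrCharacter G) (hfaith : ∀ g : G, (χ : G → ℂ) g = (χ : G → ℂ) 1 → g = 1) (n : ℕ) (hn : Cfsg.charDegree (χ : G → ℂ) = n) (p : ℕ) (hp : p.Prime) (h7 : 7 ≤ p) (hn2 : n < 2 * p) (hnp : n ≠ p) : ((∃ P : Sylow p G, ∃ x ∈ (P : Subgroup G), ∃ y ∈ (P : Subgroup G), x * y ≠ y * x) → ¬ p ^ 2 ∣ (Cfsg.pCore p G).index) ∧ ∀ Q : Sylow p (G ⧸ Cfsg.pCore p G), ∀ x ∈ (Q : Subgroup (G ⧸ Cfsg.pCore p G)), ∀ y ∈ (Q : Subgroup (G ⧸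 Cfsg.pCore p G)), x * y = y * x := by
  classical
  letI : Fintype G := Fintype.ofFinite G
  haveI : Fact p.Prime := ⟨hp⟩
  have hn1 : (χ : G → ℂ) 1 = n := by
    obtain ⟨d, -, hd⟩ := CfsgLib.Char.IsIrrCharacter.exists_degree χ.2
    rw [← hn, Cfsg.charDegree, hd, Complex.natCast_re, Nat.floor_natCast]
  have hmain : (∃ P : Sylow p G, ∃ x ∈ (P : Subgroup G), ∃ y ∈ (P : Subgroup G), x * y ≠ y * x) →
      ¬ p ^ 2 ∣ (Cfsg.pCore p G).index := fun ⟨P, hP⟩ =>
    CfsgLib.BelowTwoP.not_sq_dvd_index h7 χ.2 hfaith hn1 hn2 hnp P hP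
  refine ⟨hmain, fun Q => ?_⟩
  by_cases hall : ∃ P : Sylow p G, ∃ x ∈ (P : Subgroup G), ∃ y ∈ (P : Subgroup G), x * y ≠ y * x
  · have hnd := hmain hall
    obtain ⟨i, hi⟩ := Q.2.exists_card_eq
    have hdvd : Nat.card (Q : Subgroup (G ⧸ Cfsg.pCore p G)) ∣ (Cfsg.pCore p G).index :=
      Subgroup.card_subgroup_dvd_card _
    rw [hi] at hdvd
    have hi1 : i ≤ 1 := by
      by_contra hlt
      exact hnd ((pow_dvd_pow p (by omega)).trans hdvd)
    haveI : IsCyclic (Q : Subgroup (G ⧸ Cfsg.pCore p G)) := by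
      rcases i with _ | _ | i
      · haveI : Subsingleton (Q : Subgroup (G ⧸ Cfsg.pCore p G)) :=
          (Nat.card_eq_one_iff_unique.1 (by rw [hi, pow_zero])).1
        exact isCyclic_of_subsingleton
      · exact isCyclic_of_prime_card (p := p) (by rw [hi, pow_one])
      · omega
    intro x hx y hy
    exact congrArg Subtype.val
      (IsCyclic.isMulCommutative.is_comm.comm (⟨x, hx⟩ : (Q : Subgroup (G ⧸ Cfsg.pCore p G))) ⟨y, hy⟩)
  · obtain ⟨P, rfl⟩ := Sylow.mapSurjective_surjective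
      (QuotientGroup.mk'_surjective (Cfsg.pCore p G)) p Q
    rintro x ⟨a, ha, rfl⟩ y ⟨b, hb, rfl⟩
    rw [← map_mul, ← map_mul]
    exact congrArg _ (not_not.1 fun hne => hall ⟨P, a, ha, b, hb, hne⟩)

end Cfsg.Agent.S4471
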