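import Cfsg.Statements.S4474
import Cfsg.Agent.BlocksB.InvariantBilinear
import Cfsg.Agent.Char.FrobeniusSchur

set_option autoImplicit false
open Cfsg

namespace Cfsg.Agent.S4474

/-- Let χ be an irreducible character of the finite group G. Then the Frobenius–Schur indicator of χ (the average over s ∈ G of χ(s²)) equals 1 if and only if χ is afforded by a real representation: there is a representation of G on a real coordinate space whose trace function, viewed in ℂ, is χ. -/
theorem result {G : Type*} [Group G] [Fintype G] (χ : Cfsg.IrrCharacter G) : ((Nat.card G : ℂ)⁻¹ * ∑ s : G, (χ : G → ℂ) (s * s)) = 1 ↔ ∃ (n : ℕ) (ρ : Representation ℝ G (Fin n → ℝ)), ∀ g : G, ((LinearMap.trace ℝ (Fin n → ℝ) (ρ g) : ℝ) : ℂ) = (χ : G → ℂ) g := by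
  classical
  obtain ⟨χ, hχ⟩ := χ
  obtain ⟨n, ρ, hirr, rfl⟩ := hχ
  haveI := hirr
  show ((Nat.card G : ℂ)⁻¹ * ∑ s : G, ρ.character (s * s)) = 1 ↔ _
  constructor
  · intro hν
    have hreal : ∀ g, (ρ.character g).im = 0 := by
      rcases CfsgLib.Char.IsIrrCharacter.fs_indicator (G := G) (χ := ρ.character) ⟨n, ρ, hirr, rfl⟩ with
        ⟨-, h0⟩ | ⟨hreal, -⟩
      · rw [h0] at hν; exact absurd hν zero_ne_one
      · exact hreal
    obtain ⟨P, Q, hPQ, hQP, hfix⟩ := CfsgLib.Char.RealForm.exists_real_form ρ hreal hν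
    let Y : G → Matrix (Fin n) (Fin n) ℂ := fun g => Q * CfsgLib.Char.RealForm.mat ρ g * P
    let Z : G → Matrix (Fin n) (Fin n) ℝ := fun g => (Y g).map Complex.re
    have hZY : ∀ g, (Z g).map Complex.ofRealHom = Y g := fun g => by
      ext i j
      have h := congrFun (congrFun (hfix g) i) j
      exact Complex.conj_eq_iff_re.1 h
    have hinj : Function.Injective
        (Complex.ofRealHom.mapMatrix : Matrix (Fin n) (Fin n) ℝ →+* Matrix (Fin n) (Fin n) ℂ) :=
      fun A B h => Matrix.ext fun i j => Complex.ofReal_injective (congrFun (congrFun h i) j)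
    have hY1 : Y 1 = 1 := by simp [Y, hQP]
    have hYm : ∀ g h, Y (g * h) = Y g * Y h := fun g h => by
      calc Y (g * h) = Q * CfsgLib.Char.RealForm.mat ρ g * (P * Q) *
            (CfsgLib.Char.RealForm.mat ρ h * P) := by
            simp only [Y, map_mul, hPQ, mul_one, mul_assoc]
        _ = Y g * Y h := by simp only [Y, mul_assoc]
    refine ⟨n,
      { toFun := fun g => Matrix.toLin' (Z g)
        map_one' := ?_
        map_mul' := fun g h => ?_ }, fun g => ?_⟩
    · have h1 : Z 1 = 1 := hinj (by rw [map_one]; exact (hZY 1).trans hY1)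
      rw [h1, Matrix.toLin'_one]; rfl
    · have h1 : Z (g * h) = Z g * Z h := hinj (by
        rw [map_mul]
        exact ((hZY _).trans (hYm g h)).trans (congrArg₂ (· * ·) (hZY g).symm (hZY h).symm))
      rw [h1, Matrix.toLin'_mul]; rfl
    · show ((LinearMap.trace ℝ (Fin n → ℝ) (Matrix.toLin' (Z g)) : ℝ) : ℂ) = ρ.character g
      rw [Matrix.trace_toLin'_eq]
      calc (((Z g).trace : ℝ) : ℂ) = ((Z g).map Complex.ofRealHom).trace :=
            by simp [Matrix.trace, Matrix.diag]
        _ = ρ.character g := by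
          rw [hZY, Matrix.trace_mul_cycle, hPQ, one_mul, CfsgLib.Char.RealForm.trace_mat]
  · rintro ⟨m, τ, hτ⟩
    replace hτ : ∀ g : G,
        ((LinearMap.trace ℝ (Fin m → ℝ) (τ g) : ℝ) : ℂ) = ρ.character g := hτ
    have hreal : ∀ g, (ρ.character g).im = 0 := fun g => by rw [← hτ g]; exact Complex.ofReal_im _
    let W : G →* Matrix (Fin m) (Fin m) ℝ :=
      { toFun := fun g => LinearMap.toMatrix' (τ g)
        map_one' := by rw [map_one, Module.End.one_eq_id, LinearMap.toMatrix'_id]
        map_mul' := fun g h => by rw [map_mul, Module.End.mul_eq_comp, LinearMap.toMatrix'_comp] }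
    let X : G →* Matrix (Fin m) (Fin m) ℂ :=
      (Complex.ofRealHom.mapMatrix : Matrix (Fin m) (Fin m) ℝ →+* _).toMonoidHom.comp W
    have hch : (CfsgLib.Char.RealForm.repOf X).character = ρ.character := funext fun g => by
      rw [CfsgLib.Char.RealForm.character_repOf, ← hτ g,
        LinearMap.trace_eq_matrix_trace ℝ (Pi.basisFun ℝ (Fin m)), LinearMap.toMatrix_eq_toMatrix']
      simp [X, W, Matrix.trace, Matrix.diag]
    obtain ⟨e⟩ := CfsgLib.Char.equiv_of_character_eq ρ (CfsgLib.Char.RealForm.repOf X) hch.symm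
    haveI := CfsgLib.Char.isIrreducible_of_equiv e
    set ν := (Nat.card G : ℂ)⁻¹ * ∑ s : G, ρ.character (s * s) with hν
    let M : Matrix (Fin m) (Fin m) ℂ := ∑ g : G, (X g).transpose * X g
    have hinv : ∀ h, (X h).transpose * M * X h = M := fun h => by
      simp only [M, Finset.mul_sum, Finset.sum_mul]
      refine Fintype.sum_equiv (Equiv.mulRight h) _ _ fun g => ?_
      simp only [Equiv.coe_mulRight, map_mul, Matrix.transpose_mul, mul_assoc]
    have key := CfsgLib.Char.RealForm.transpose_eq_indicator_smul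
      (CfsgLib.Char.RealForm.repOf X) (by rw [hch]; exact hreal) M
      (by simpa only [CfsgLib.Char.RealForm.mat_repOf] using hinv)
    rw [hch, ← hν] at key
    have hsymM : M.transpose = M := by
      simp [M, Matrix.transpose_sum]
    rw [hsymM] at key
    have hm : 0 < m := by
      simpa using CfsgLib.Char.finrank_pos_of_isIrreducible (CfsgLib.Char.RealForm.repOf X)
    let i : Fin m := ⟨0, hm⟩
    have hMi : M i i ≠ 0 := by
      have e1 : M i i = ((∑ g : G, ∑ j, W g j i * W g j i : ℝ) : ℂ) := by
        simp [M, X, Matrix.sum_apply, Matrix.mul_apply]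
      rw [e1, Ne, Complex.ofReal_eq_zero]
      intro h0
      have h1 := (Finset.sum_eq_zero_iff_of_nonneg fun g _ =>
        Finset.sum_nonneg fun j _ => mul_self_nonneg (W g j i)).1 h0 1 (Finset.mem_univ _)
      have h2 := (Finset.sum_eq_zero_iff_of_nonneg fun j _ =>
        mul_self_nonneg (W 1 j i)).1 h1 i (Finset.mem_univ _)
      simp at h2
    have hk := congrFun (congrFun key i) i
    rw [Matrix.smul_apply, smul_eq_mul] at hk
    exact mul_right_cancel₀ hMi (by rw [one_mul]; exact hk.symm)

end Cfsg.Agent.S4474
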