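import Cfsg.Statements.S4476
import Cfsg.Agent.FGSB.SquareCount
import Cfsg.Agent.Char.FrobeniusSchur
import Cfsg.Agent.Blocks.CharExtra
import Mathlib.Algebra.Order.BigOperators.Ring.Finset
import Mathlib.Algebra.Order.Chebyshev
import Mathlib.GroupTheory.Perm.Cycle.Type

set_option autoImplicit false
open Cfsg

namespace Cfsg.Agent.S4476

/-- Let G be a finite group of even order g with exactly t involutions, and put α = (g − 1)/t (a rational number). Then (a) some non-identity element x of G has at most α² conjugates; and (b) some non-principal real-valued irreducible character of G has degree at most α. -/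
theorem result {G : Type*} [Group G] [Fintype G] (heven : Even (Nat.card G)) (t : ℕ) (ht : Nat.card {x : G // orderOf x = 2} = t) : (∃ x : G, x ≠ 1 ∧ ((Subgroup.centralizer ({x} : Set G)).index : ℚ) ≤ (((Nat.card G : ℚ) - 1) / t) ^ 2) ∧ ∃ χ : Cfsg.IrrCharacter G, (χ : G → ℂ) ≠ (fun _ => 1) ∧ (∀ g : G, ((χ : G → ℂ) g).im = 0) ∧ (Cfsg.charDegree (χ : G → ℂ) : ℚ) ≤ ((Nat.card G : ℚ) - 1) / t := by
  classical
  have hone : Cfsg.IsIrrCharacter G (fun _ => (1 : ℂ)) := by
    simpa using CfsgLib.Char.isIrrCharacter_ofHom (1 : G →* ℂˣ)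
  set one : G → ℂ := fun _ => 1 with hone'
  have hmem1 := CfsgLib.Char.mem_irrFinset.2 hone
  set R := (CfsgLib.Char.irrFinset G).filter (fun χ => χ ≠ one ∧ ∀ g, (χ g).im = 0) with hR
  let d : (G → ℂ) → ℝ := fun χ => (χ 1).re
  have hd : ∀ χ ∈ CfsgLib.Char.irrFinset G, χ 1 = (d χ : ℂ) ∧ 1 ≤ d χ := fun χ hχ => by
    obtain ⟨n, hn, h⟩ := CfsgLib.Char.IsIrrCharacter.exists_degree (CfsgLib.Char.mem_irrFinset.1 hχ)
    refine ⟨by simp [d, h], ?_⟩
    simp only [d, h, Complex.natCast_re]
    exact_mod_cast hn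
  have hRsub : R ⊆ (CfsgLib.Char.irrFinset G).erase one := fun χ hχ => by
    rw [hR, Finset.mem_filter] at hχ
    exact Finset.mem_erase.2 ⟨hχ.2.1, hχ.1⟩
  -- the number of involutions
  have ht2 : (Finset.univ.filter fun x : G => orderOf x = 2).card = t := by
    rw [← ht, Nat.card_eq_fintype_card, Fintype.card_subtype]
  obtain ⟨x₀, hx₀⟩ := exists_prime_orderOf_dvd_card' (G := G) 2 (even_iff_two_dvd.1 heven)
  have htpos : 0 < t := ht2 ▸ Finset.card_pos.2 ⟨x₀, by simp [hx₀]⟩
  have hsq : Nat.card {x : G // x ^ 2 = 1} = t + 1 := by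
    rw [Nat.card_eq_fintype_card, Fintype.card_subtype, ← ht2]
    have : (Finset.univ.filter fun x : G => x ^ 2 = 1) =
        insert 1 (Finset.univ.filter fun x : G => orderOf x = 2) := by
      ext x
      simp only [Finset.mem_filter, Finset.mem_univ, true_and, Finset.mem_insert]
      constructor
      · intro h
        by_cases h1 : x = 1
        · exact Or.inl h1
        · exact Or.inr (orderOf_eq_prime h h1)
      · rintro (rfl | h)
        · exact one_pow 2
        · rw [← h]; exact pow_orderOf_eq_one x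
    rw [this, Finset.card_insert_of_notMem (by simp)]
  have hcount : (t : ℝ) ≤ ∑ χ ∈ R, d χ := by
    have h := congrArg Complex.re (CfsgLib.FSCount.card_sq_eq_one (G := G))
    rw [hsq, Complex.natCast_re, Complex.re_sum, ← Finset.add_sum_erase _ _ hmem1] at h
    have h1 : (CfsgLib.FSCount.fsInd one * one 1).re = 1 := by
      simp [CfsgLib.FSCount.fsInd, one]
    rw [h1] at h
    push_cast at h
    have hsub := Finset.sum_subset (f := fun χ => (CfsgLib.FSCount.fsInd χ * χ 1).re) hRsub
      fun χ hχ hχR => ?_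
    · have hle : ∑ χ ∈ R, (CfsgLib.FSCount.fsInd χ * χ 1).re ≤ ∑ χ ∈ R, d χ := by
        refine Finset.sum_le_sum fun χ hχ => ?_
        have hχ' := (Finset.mem_erase.1 (hRsub hχ)).2
        rcases CfsgLib.Char.IsIrrCharacter.fs_indicator (CfsgLib.Char.mem_irrFinset.1 hχ') with
          ⟨-, h0⟩ | ⟨-, h0 | ⟨h0, -⟩⟩
        · simp only [CfsgLib.FSCount.fsInd, h0, zero_mul, Complex.zero_re]
          linarith [(hd χ hχ').2]
        · rw [CfsgLib.FSCount.fsInd, h0]; simp [d]
        · simp only [CfsgLib.FSCount.fsInd, h0, neg_mul, one_mul, Complex.neg_re]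
          linarith [(hd χ hχ').2]
      linarith
    · obtain ⟨hne, hχ'⟩ := Finset.mem_erase.1 hχ
      rcases CfsgLib.Char.IsIrrCharacter.fs_indicator (CfsgLib.Char.mem_irrFinset.1 hχ') with
        ⟨-, h0⟩ | ⟨h0, -⟩
      · rw [CfsgLib.FSCount.fsInd, h0]; simp
      · exact absurd (Finset.mem_filter.2 ⟨hχ', hne, h0⟩) hχR
  have hsquares : ∑ χ ∈ R, d χ ^ 2 ≤ (Nat.card G : ℝ) - 1 := by
    have h := congrArg Complex.re (CfsgLib.Char.sum_degree_sq (G := G))
    rw [Complex.natCast_re, Complex.re_sum, ← Finset.add_sum_erase _ _ hmem1] at h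
    have h1 : ((one 1) ^ 2).re = 1 := by simp [one]
    rw [h1] at h
    have h2 : ∑ χ ∈ R, d χ ^ 2 ≤ ∑ χ ∈ (CfsgLib.Char.irrFinset G).erase one, d χ ^ 2 :=
      Finset.sum_le_sum_of_subset_of_nonneg hRsub fun χ _ _ => sq_nonneg _
    have h3 : ∑ χ ∈ (CfsgLib.Char.irrFinset G).erase one, d χ ^ 2 =
        ∑ χ ∈ (CfsgLib.Char.irrFinset G).erase one, (χ 1 ^ 2).re :=
      Finset.sum_congr rfl fun χ hχ => by
        rw [(hd χ (Finset.mem_erase.1 hχ).2).1, ← Complex.ofReal_pow, Complex.ofReal_re]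
    linarith
  set g : ℝ := (Nat.card G : ℝ) with hg
  have hg2 : 2 ≤ g := by
    rw [hg]; exact_mod_cast Nat.le_of_dvd Nat.card_pos (even_iff_two_dvd.1 heven)
  have htR : (0 : ℝ) < t := by exact_mod_cast htpos
  set α : ℝ := (g - 1) / t with hα
  have hαpos : 0 < α := div_pos (by linarith) htR
  have hαt : α * t = g - 1 := div_mul_cancel₀ _ htR.ne'
  have hRne : R.Nonempty := by
    rw [Finset.nonempty_iff_ne_empty]
    intro h0
    rw [h0, Finset.sum_empty] at hcount
    linarith
  constructor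
  · by_contra! hall
    have hall' : ∀ y : G, y ≠ 1 →
        α ^ 2 < ((Subgroup.centralizer ({y} : Set G)).index : ℝ) := fun y hy => by
      have := (Rat.cast_lt (K := ℝ)).2 (hall y hy)
      push_cast at this
      exact this
    letI := Fintype.ofFinite (ConjClasses G)
    letI := CfsgLib.Block.Chr.irrFintype (G := G)
    set E := (Finset.univ : Finset (ConjClasses G)).erase (ConjClasses.mk 1) with hE
    have hRE : R.card ≤ E.card := by
      refine (Finset.card_le_card hRsub).trans_eq ?_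
      rw [Finset.card_erase_of_mem hmem1, Finset.card_erase_of_mem (Finset.mem_univ _),
        ← CfsgLib.Char.card_irr, CfsgLib.Char.card_irr_eq_card_conjClasses, Finset.card_univ,
        Nat.card_eq_fintype_card]
    have hgsum : ((Finset.univ.erase (1 : G)).card : ℝ) = g - 1 := by
      rw [Finset.card_erase_of_mem (Finset.mem_univ 1), Finset.card_univ, hg,
        ← Nat.card_eq_fintype_card, Nat.cast_sub Nat.card_pos, Nat.cast_one]
    have hsplit : ((Finset.univ.erase (1 : G)).card : ℝ) =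
        ∑ C ∈ E, (((Finset.univ.erase (1 : G)).filter fun y => ConjClasses.mk y = C).card : ℝ) := by
      rw [← Nat.cast_sum]
      congr 1
      refine Finset.card_eq_sum_card_fiberwise fun y hy => Finset.mem_erase.2 ⟨fun h => ?_,
        Finset.mem_univ _⟩
      exact (Finset.mem_erase.1 hy).1
        (isConj_one_right.1 (ConjClasses.mk_eq_mk_iff_isConj.1 h).symm)
    have hCne : ∀ C ∈ E, C.out ≠ 1 := fun C hC h => (Finset.mem_erase.1 hC).1 (by
      rw [← h]; exact (Quotient.out_eq C).symm)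
    have hclass : ∀ C ∈ E, ((Finset.univ.erase (1 : G)).filter fun y => ConjClasses.mk y = C).card =
        (Subgroup.centralizer ({C.out} : Set G)).index := by
      intro C hC
      rw [← CfsgLib.Block.Chr.card_class C.out]
      congr 1
      ext y
      simp only [Finset.mem_filter, Finset.mem_erase, Finset.mem_univ, and_true, true_and]
      constructor
      · rintro ⟨-, h⟩
        exact ConjClasses.mk_eq_mk_iff_isConj.1 ((Quotient.out_eq C).trans h.symm)
      · intro h
        refine ⟨fun h1 => hCne C hC ?_, (ConjClasses.mk_eq_mk_iff_isConj.2 h).symm.trans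
          (Quotient.out_eq C)⟩
        subst h1
        exact isConj_one_left.1 h
    have hlow : (E.card : ℝ) * α ^ 2 < g - 1 := by
      rw [← hgsum, hsplit, Finset.sum_congr rfl fun C hC => congrArg Nat.cast (hclass C hC),
        ← nsmul_eq_mul, ← Finset.sum_const]
      refine Finset.sum_lt_sum_of_nonempty ?_ fun C hC => hall' _ (hCne C hC)
      exact Finset.card_pos.1 (lt_of_lt_of_le (Finset.card_pos.2 hRne) hRE)
    have hcs : (t : ℝ) ^ 2 ≤ (E.card : ℝ) * (g - 1) := by
      calc (t : ℝ) ^ 2 ≤ (∑ χ ∈ R, d χ) ^ 2 := pow_le_pow_left₀ htR.le hcount 2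
        _ ≤ (R.card : ℝ) * ∑ χ ∈ R, d χ ^ 2 := sq_sum_le_card_mul_sum_sq
        _ ≤ (E.card : ℝ) * (g - 1) := by
          refine mul_le_mul (Nat.cast_le.2 hRE) hsquares (Finset.sum_nonneg fun χ _ => sq_nonneg _)
            (Nat.cast_nonneg _)
    nlinarith [mul_le_mul_of_nonneg_right hcs (sq_nonneg α), mul_lt_mul_of_pos_left hlow
      (show (0 : ℝ) < g - 1 by linarith), hαt]
  · by_contra hno
    push Not at hno
    have hall : ∀ χ ∈ R, α < d χ := fun χ hχ => by
      obtain ⟨hχ', hne, him⟩ := Finset.mem_filter.1 hχ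
      have h := (Rat.cast_lt (K := ℝ)).2 (hno ⟨χ, CfsgLib.Char.mem_irrFinset.1 hχ'⟩ hne him)
      push_cast at h
      obtain ⟨h1, -⟩ := CfsgLib.Block.Chr.irr_one ⟨χ, CfsgLib.Char.mem_irrFinset.1 hχ'⟩
      calc α < (Cfsg.charDegree χ : ℝ) := h
        _ = d χ := by simp only [d]; rw [show χ 1 = (Cfsg.charDegree χ : ℂ) from h1, Complex.natCast_re]
    have h1 : α * ∑ χ ∈ R, d χ < ∑ χ ∈ R, d χ ^ 2 := by
      rw [Finset.mul_sum]
      refine Finset.sum_lt_sum_of_nonempty hRne fun χ hχ => ?_
      have := hall χ hχ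
      rw [sq]
      exact mul_lt_mul_of_pos_right this (lt_trans hαpos this)
    nlinarith [mul_le_mul_of_nonneg_left hcount hαpos.le]

end Cfsg.Agent.S4476
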