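import Cfsg.Statements.S4478
import Cfsg.Agent.Blocks.DefectZeroVanish
import Cfsg.Agent.Char.FrobeniusSchur
import Cfsg.Agent.Blocks.Principal
import Mathlib.GroupTheory.Perm.Cycle.Type

set_option autoImplicit false
open Cfsg

namespace Cfsg.Agent.S4478

/-- Let G be a finite group of even order and χ an irreducible character of G whose degree x is divisible by the full power of 2 dividing the order of G and, for every odd prime p such that G has an element of order 2p, by the full power of p dividing the order of G. Then all involutions of G are conjugate, the centralizer of every involution has order exactly x with x coprime to its index, and the Frobenius–Schur indicator of χ equals 1. -/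
theorem result {G : Type*} [Group G] [Fintype G] (heven : Even (Nat.card G)) (χ : Cfsg.IrrCharacter G) (h2 : 2 ^ (Nat.card G).factorization 2 ∣ Cfsg.charDegree (χ : G → ℂ)) (hp : ∀ p : ℕ, p.Prime → p ≠ 2 → (∃ g : G, orderOf g = 2 * p) → p ^ (Nat.card G).factorization p ∣ Cfsg.charDegree (χ : G → ℂ)) : (∀ s t : G, orderOf s = 2 → orderOf t = 2 → IsConj s t) ∧ (∀ s : G, orderOf s = 2 → Nat.card (Subgroup.centralizer ({s} : Set G)) = Cfsg.charDegree (χ : G → ℂ) ∧ (Nat.card (Subgroup.centralizer ({s} : Set G))).Coprime (Subgroup.centralizer ({s} : Set G)).index) ∧ (Nat.card G : ℂ)⁻¹ * ∑ g : G, (χ : G → ℂ) (g * g) = 1 := by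
  classical
  set x := Cfsg.charDegree (χ : G → ℂ) with hxdef
  have hxpos : 0 < x := (CfsgLib.Block.Chr.irr_one χ).2
  have hfull : ∀ q : ℕ, q.Prime → (q = 2 ∨ ∃ g : G, orderOf g = 2 * q) →
      q ^ (Nat.card G).factorization q ∣ x := by
    rintro q hq (rfl | hg)
    · exact h2
    · by_cases h : q = 2
      · exact h ▸ h2
      · exact hp q hq h hg
  have hvan : ∀ q : ℕ, q.Prime → (q = 2 ∨ ∃ g : G, orderOf g = 2 * q) → ∀ g : G, q ∣ orderOf g →
      (χ : G → ℂ) g = 0 :=
    fun q hq hπ g hg => CfsgLib.Block.eq_zero_of_defectZero hq χ (hfull q hq hπ) hg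
  have hG2 : 2 ∣ Nat.card G := even_iff_two_dvd.1 heven
  have hx2 : 2 ∣ x :=
    (dvd_pow_self 2 (Nat.prime_two.factorization_pos_of_dvd Nat.card_pos.ne' hG2).ne').trans h2
  -- the value of the indicator
  set O : Finset G := Finset.univ.filter fun g => ¬ 2 ∣ orderOf g with hO
  set T : Finset G := Finset.univ.filter fun g => orderOf g = 2 with hT
  have hsq : ∀ g : G, g ∉ O → g ∉ T → (χ : G → ℂ) (g * g) = 0 := by
    intro g hgO hgT
    simp only [hO, hT, Finset.mem_filter, Finset.mem_univ, true_and, not_not] at hgO hgT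
    obtain ⟨m, hm⟩ := hgO
    have ho : orderOf (g * g) = m := by
      rw [← pow_two, orderOf_pow_of_dvd two_ne_zero ⟨m, hm⟩, hm, Nat.mul_div_cancel_left m two_pos]
    have hm1 : m ≠ 1 := fun h => hgT (by rw [hm, h])
    obtain ⟨q, hq, hqm⟩ := Nat.exists_prime_and_dvd hm1
    refine hvan q hq (Or.inr ?_) _ (ho.symm ▸ hqm)
    obtain ⟨l, rfl⟩ := hqm
    refine ⟨g ^ l, ?_⟩
    have hl : l ≠ 0 := fun h => by simp [h, (orderOf_pos g).ne'] at hm
    rw [orderOf_pow_of_dvd hl ⟨2 * q, by rw [hm]; ring⟩, hm,
      show 2 * (q * l) = (2 * q) * l by ring, Nat.mul_div_cancel _ (Nat.pos_of_ne_zero hl)]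
  have hdisj : Disjoint O T := Finset.disjoint_filter.2 fun g _ h1 h2' => h1 (h2' ▸ dvd_rfl)
  have hsum0 : ∑ g : G, (χ : G → ℂ) g = 0 := by
    have h := CfsgLib.Block.Chr.classInner_irr χ (CfsgLib.Block.oneIrr G)
    have hne : χ ≠ CfsgLib.Block.oneIrr G := fun he => by
      have h1 := (CfsgLib.Block.Chr.irr_one χ).1
      rw [show (χ : G → ℂ) 1 = 1 by rw [he]; rfl, ← hxdef] at h1
      have : x = 1 := by exact_mod_cast h1.symm
      omega
    rw [if_neg hne, Cfsg.classInner] at h
    simpa [Nat.card_pos.ne'] using h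
  have hOsum : ∑ g ∈ O, (χ : G → ℂ) (g * g) = 0 := by
    have h1 : ∑ g ∈ O, (χ : G → ℂ) g = 0 := by
      rw [← hsum0]
      exact Finset.sum_subset (Finset.subset_univ O) fun g _ hg =>
        hvan 2 Nat.prime_two (Or.inl rfl) g (by_contra fun h => hg (by simp [hO, Nat.two_dvd_ne_zero.1 h, h]))
    have hmaps : ∀ g ∈ O, g * g ∈ O := fun g hg => by
      simp only [hO, Finset.mem_filter, Finset.mem_univ, true_and] at hg ⊢
      exact fun h => hg (h.trans (by rw [← pow_two]; exact orderOf_pow_dvd 2))
    have hinj : Set.InjOn (fun g : G => g * g) O := by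
      intro a ha b hb hab
      simp only [hO, Finset.coe_filter, Finset.mem_univ, true_and, Set.mem_setOf_eq] at ha hb
      have hcop : Nat.Coprime 2 (orderOf a * orderOf b) :=
        Nat.prime_two.coprime_iff_not_dvd.2 fun h => (Nat.prime_two.dvd_mul.1 h).elim ha hb
      obtain ⟨m, hm⟩ : ∃ m, orderOf a * orderOf b = 2 * m + 1 := by
        have h2n := Nat.prime_two.coprime_iff_not_dvd.1 hcop
        exact ⟨(orderOf a * orderOf b) / 2, by omega⟩
      have e : ∀ c : G, c ^ (orderOf a * orderOf b) = 1 → c = (c * c) ^ (m + 1) := fun c hc => by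
        rw [← pow_two, ← pow_mul, show 2 * (m + 1) = (2 * m + 1) + 1 by ring, pow_succ, ← hm, hc,
          one_mul]
      rw [e a (by rw [pow_mul, pow_orderOf_eq_one, one_pow]),
        e b (by rw [mul_comm, pow_mul, pow_orderOf_eq_one, one_pow]), show a * a = b * b from hab]
    rw [← h1]
    exact Finset.sum_bij (fun g _ => g * g) hmaps (fun a ha b hb h => hinj ha hb h)
      (fun b hb => by
        obtain ⟨a, ha, hab⟩ := Finset.surj_on_of_inj_on_of_card_le (fun g _ => g * g) hmaps
          (fun a b ha hb h => hinj ha hb h) le_rfl b hb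
        exact ⟨a, ha, hab.symm⟩)
      (fun _ _ => rfl)
  have hind : ∑ g : G, (χ : G → ℂ) (g * g) = (T.card : ℂ) * (x : ℂ) := by
    rw [← Finset.sum_subset (Finset.subset_univ (O ∪ T)) fun g _ hg =>
        hsq g (fun h => hg (Finset.mem_union_left _ h)) (fun h => hg (Finset.mem_union_right _ h)),
      Finset.sum_union hdisj, hOsum, zero_add, ← nsmul_eq_mul, ← Finset.sum_const]
    refine Finset.sum_congr rfl fun g hg => ?_
    simp only [hT, Finset.mem_filter, Finset.mem_univ, true_and] at hg
    rw [show g * g = 1 by rw [← pow_two, ← hg, pow_orderOf_eq_one], (CfsgLib.Block.Chr.irr_one χ).1]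
  obtain ⟨t₀, ht₀⟩ := exists_prime_orderOf_dvd_card' (G := G) 2 hG2
  have hTpos : 0 < T.card := Finset.card_pos.2 ⟨t₀, by simp [hT, ht₀]⟩
  have hG0 : (Nat.card G : ℂ) ≠ 0 := Nat.cast_ne_zero.2 Nat.card_pos.ne'
  have hν : (Nat.card G : ℂ)⁻¹ * ∑ g : G, (χ : G → ℂ) (g * g) = 1 := by
    have hne : (Nat.card G : ℂ)⁻¹ * ∑ g : G, (χ : G → ℂ) (g * g) ≠ 0 := by
      rw [hind]
      exact mul_ne_zero (inv_ne_zero hG0)
        (mul_ne_zero (Nat.cast_ne_zero.2 hTpos.ne') (Nat.cast_ne_zero.2 hxpos.ne'))
    rcases CfsgLib.Char.IsIrrCharacter.fs_indicator χ.2 with ⟨-, h0⟩ | ⟨-, h1 | ⟨h1, -⟩⟩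
    · exact absurd h0 hne
    · exact h1
    · rw [hind] at h1
      have h3 : ((Nat.card G : ℝ)⁻¹ * ((T.card : ℝ) * (x : ℝ))) = -1 := by
        apply Complex.ofReal_injective
        push_cast
        exact h1
      have h4 : (0 : ℝ) ≤ (Nat.card G : ℝ)⁻¹ * ((T.card : ℝ) * (x : ℝ)) := by positivity
      linarith
  have hcount : T.card * x = Nat.card G := by
    have h := hν
    rw [hind] at h
    field_simp at h
    exact_mod_cast h
  have hcx : ∀ s : G, orderOf s = 2 →
      Nat.card (Subgroup.centralizer ({s} : Set G)) ∣ x ∧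
        ∀ q : ℕ, q.Prime → q ∣ Nat.card (Subgroup.centralizer ({s} : Set G)) →
          q ^ (Nat.card G).factorization q ∣ x := by
    intro s hs
    set C := Subgroup.centralizer ({s} : Set G) with hC
    have hπ : ∀ q : ℕ, q.Prime → q ∣ Nat.card C → q ^ (Nat.card G).factorization q ∣ x := by
      intro q hq hd
      refine hfull q hq ?_
      by_cases hq2 : q = 2
      · exact Or.inl hq2
      · haveI := Fact.mk hq
        obtain ⟨y, hy⟩ := exists_prime_orderOf_dvd_card' (G := C) q hd
        refine Or.inr ⟨s * (y : G), ?_⟩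
        have hc : Commute s (y : G) := (Subgroup.mem_centralizer_singleton_iff.1 y.2).symm
        rw [hc.orderOf_mul_eq_mul_orderOf_of_coprime (by
          rw [hs, Subgroup.orderOf_coe, hy]; exact (Nat.coprime_primes Nat.prime_two hq).2 (Ne.symm hq2)),
          hs, Subgroup.orderOf_coe, hy]
    refine ⟨(Nat.dvd_iff_prime_pow_dvd_dvd x _).2 fun q k hq hk => ?_, hπ⟩
    rcases Nat.eq_zero_or_pos k with rfl | hk0
    · simp
    · refine (Nat.pow_dvd_pow q ?_).trans (hπ q hq ((dvd_pow_self q hk0.ne').trans hk))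
      exact (hq.pow_dvd_iff_le_factorization Nat.card_pos.ne').1
        (hk.trans (Subgroup.card_subgroup_dvd_card C))
  -- every class has at least `card T` elements
  have hclass : ∀ s : G, orderOf s = 2 →
      T.card ≤ (Finset.univ.filter (IsConj s)).card ∧
        Nat.card (Subgroup.centralizer ({s} : Set G)) = x ∧
          Finset.univ.filter (IsConj s) = T := by
    intro s hs
    set C := Subgroup.centralizer ({s} : Set G) with hC
    have hle : Nat.card C ≤ x := Nat.le_of_dvd hxpos (hcx s hs).1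
    have hci := C.card_mul_index
    have hsub : Finset.univ.filter (IsConj s) ⊆ T := fun y hy => by
      obtain ⟨a, rfl⟩ := isConj_iff.1 (Finset.mem_filter.1 hy).2
      simp only [hT, Finset.mem_filter, Finset.mem_univ, true_and]
      rw [← hs]
      exact (MulAut.conj a).orderOf_eq s
    have hidx : (Finset.univ.filter (IsConj s)).card = C.index := CfsgLib.Block.Chr.card_class s
    have hcardle := Finset.card_le_card hsub
    rw [hidx] at hcardle
    have h3 : Nat.card C * C.index = T.card * x := by rw [hci, hcount]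
    have hge : T.card ≤ C.index := by
      by_contra hlt
      push Not at hlt
      have : Nat.card C * C.index < T.card * x := by
        calc Nat.card C * C.index ≤ x * C.index := Nat.mul_le_mul_right _ hle
          _ < x * T.card := Nat.mul_lt_mul_of_pos_left hlt hxpos
          _ = T.card * x := mul_comm _ _
      omega
    have heq : C.index = T.card := le_antisymm hcardle hge
    refine ⟨hidx ▸ hge, ?_, Finset.eq_of_subset_of_card_le hsub (hidx ▸ hge)⟩
    rw [heq, mul_comm T.card] at h3
    exact Nat.eq_of_mul_eq_mul_right hTpos h3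
  refine ⟨fun s t hs ht => ?_, fun s hs => ⟨(hclass s hs).2.1, ?_⟩, hν⟩
  · have : t ∈ Finset.univ.filter (IsConj s) := by
      rw [(hclass s hs).2.2]; simp [hT, ht]
    exact (Finset.mem_filter.1 this).2
  · set C := Subgroup.centralizer ({s} : Set G) with hC
    refine Nat.coprime_of_dvd fun q hq hqC hqi => ?_
    have h1 := (hcx s hs).2 q hq hqC
    rw [← (hclass s hs).2.1] at h1
    have h3 : q ^ ((Nat.card G).factorization q + 1) ∣ Nat.card G := by
      rw [pow_succ]
      exact (Nat.mul_dvd_mul h1 hqi).trans (dvd_of_eq C.card_mul_index)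
    exact Nat.pow_succ_factorization_not_dvd Nat.card_pos.ne' hq h3

end Cfsg.Agent.S4478
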