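import Cfsg.Statements.S4483
import Cfsg.Agent.Blocks.BrauerFeit

set_option autoImplicit false
open Cfsg

namespace Cfsg.Agent.S4483

/-- Let G be a finite group of order 2^n·g₀ with g₀ odd, and M a maximal ideal of the algebraic integers containing 2. Every real-valued irreducible character of G of odd degree lies in the principal 2-block; consequently G has at most 2^(2n) real-valued irreducible characters of odd degree. -/
theorem result {G : Type*} [Group G] [Finite G] (M : Ideal Cfsg.AlgInt) (hM : Cfsg.IsPModular 2 M) : (∀ χ : Cfsg.IrrCharacter G, (∀ g : G, ((χ : G → ℂ) g).im = 0) → Odd (Cfsg.charDegree (χ : G → ℂ)) → χ ∈ Cfsg.principalBlock M G) ∧ Nat.card {χ : Cfsg.IrrCharacter G // (∀ g : G, ((χ : G → ℂ) g).im = 0) ∧ Odd (Cfsg.charDegree (χ : G → ℂ))} ≤ 2 ^ (2 * (Nat.card G).factorization 2) := by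
  classical
  haveI := Fintype.ofFinite G
  haveI := hM.2.1.isPrime
  haveI : Fact (Nat.Prime 2) := ⟨Nat.prime_two⟩
  have hmem : ∀ χ : Cfsg.IrrCharacter G, (∀ g : G, ((χ : G → ℂ) g).im = 0) →
      Odd (Cfsg.charDegree (χ : G → ℂ)) → χ ∈ Cfsg.principalBlock M G := by
    intro χ hreal hodd
    by_contra hne
    have h0 := CfsgLib.Block.classInner_regPart_eq_zero hM χ (CfsgLib.Block.oneIrr G)
      fun h => hne (CfsgLib.Block.sameBlock_symm h)
    rw [CfsgLib.Block.classInner_regPart, mul_eq_zero] at h0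
    have hsum := h0.resolve_left (inv_ne_zero (Nat.cast_ne_zero.2 Nat.card_pos.ne'))
    simp only [CfsgLib.Block.oneIrr_apply, map_one, mul_one] at hsum
    haveI : CharP (CfsgLib.Block.Residue M) 2 := CfsgLib.Block.charP_residue hM
    let f : G → CfsgLib.Block.Residue M := fun g =>
      CfsgLib.Block.res M ⟨(χ : G → ℂ) g, CfsgLib.Block.irr_mem χ g⟩
    have hinv : ∀ g : G, f g⁻¹ = f g := fun g => by
      refine congrArg (CfsgLib.Block.res M) (Subtype.ext ?_)
      show (χ : G → ℂ) g⁻¹ = (χ : G → ℂ) g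
      rw [← CfsgLib.Block.Chr.conj_irr, Complex.conj_eq_iff_im.2 (hreal g)]
    have hsum' : ∑ g ∈ Finset.univ.filter (fun g : G => ¬ 2 ∣ orderOf g), f g = 0 := by
      simp only [f, ← map_sum]
      rw [CfsgLib.Block.res_eq_zero_iff]
      push_cast
      rw [hsum]
      exact CfsgLib.Block.memLocalIdeal_zero
    rw [← Finset.add_sum_erase _ _ (show (1 : G) ∈ Finset.univ.filter
      (fun g : G => ¬ 2 ∣ orderOf g) by simp)] at hsum'
    have hrest : ∑ g ∈ (Finset.univ.filter (fun g : G => ¬ 2 ∣ orderOf g)).erase 1, f g = 0 := by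
      refine Finset.sum_involution (fun g _ => g⁻¹) (fun g _ => ?_) (fun g hg _ hfix => ?_)
        (fun g hg => ?_) (fun g _ => inv_inv g)
      · rw [hinv]
        exact CharTwo.add_self_eq_zero _
      · simp only [Finset.mem_erase, Finset.mem_filter, Finset.mem_univ, true_and] at hg
        refine hg.2 ?_
        have h2 : g ^ 2 = 1 := by
          rw [sq]; nth_rewrite 1 [← hfix]; exact inv_mul_cancel g
        rw [orderOf_eq_prime h2 hg.1]
      · simp only [Finset.mem_erase, Finset.mem_filter, Finset.mem_univ, true_and, ne_eq,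
          inv_eq_one, orderOf_inv] at hg ⊢
        exact hg
    rw [hrest, add_zero] at hsum'
    have h2 := CfsgLib.Block.res_eq_zero_iff.1 hsum'
    simp only [(CfsgLib.Block.Chr.irr_one χ).1] at h2
    rw [CfsgLib.Block.memLocalIdeal_natCast_iff hM] at h2
    exact (Nat.not_even_iff_odd.2 hodd) (even_iff_two_dvd.2 h2)
  refine ⟨hmem, ?_⟩
  letI := CfsgLib.Block.Chr.irrFintype (G := G)
  have hle : Nat.card {χ : Cfsg.IrrCharacter G // (∀ g : G, ((χ : G → ℂ) g).im = 0) ∧
      Odd (Cfsg.charDegree (χ : G → ℂ))} ≤ Nat.card (Cfsg.principalBlock M G) :=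
    Nat.card_le_card_of_injective (fun χ => ⟨χ.1, hmem χ.1 χ.2.1 χ.2.2⟩)
      (fun a b h => Subtype.ext (congrArg Subtype.val h :))
  have hBF := CfsgLib.Block.brauer_feit hM (CfsgLib.Block.isPBlock_principalBlock (G := G))
  have hmono : 2 ^ (2 * Cfsg.blockDefect 2 (Cfsg.principalBlock M G)) ≤
      2 ^ (2 * (Nat.card G).factorization 2) :=
    Nat.pow_le_pow_right two_pos (Nat.mul_le_mul_left 2 (CfsgLib.Block.blockDefect_le _))
  rcases Nat.eq_zero_or_pos ((Nat.card G).factorization 2) with h | h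
  · simp only [h, mul_zero, pow_zero] at hmono ⊢
    omega
  · have : 4 ≤ 2 ^ (2 * (Nat.card G).factorization 2) :=
      (show 4 = 2 ^ 2 by rfl) ▸ Nat.pow_le_pow_right two_pos (by omega)
    omega

end Cfsg.Agent.S4483
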