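import Cfsg.Statements.S4484
import Cfsg.Agent.BlichfeldtArc
import Cfsg.Agent.Char.Central
import Cfsg.Agent.Blocks.Congr
import Cfsg.Agent.BlocksB.PrincipalColumns
-- import your own Cfsg.Agent.* helpers here

set_option autoImplicit false
open Cfsg

namespace Cfsg.Agent.S4484

/-- A refinement of Burnside's result on simple groups of order divisible by only two primes. Let G be a finite simple group of order p^a · q^b · g₀ with p, q distinct primes, a > 0, g₀ coprime to p and q, and the order of G different from p. Then g₀ − 1 > log p / log 6, that is 6^(g₀ − 1) > p. -/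
theorem result {G : Type*} [Group G] [Finite G] [IsSimpleGroup G] (p q a b g₀ : ℕ) (hp : p.Prime) (hq : q.Prime) (hpq : p ≠ q) (ha : 0 < a) (hg : Nat.card G = p ^ a * q ^ b * g₀) (hcop : ¬ p ∣ g₀) (hcoq : ¬ q ∣ g₀) (hne : Nat.card G ≠ p) : p < 6 ^ (g₀ - 1) := by
  classical
  haveI : Fintype G := Fintype.ofFinite G
  haveI hpF : Fact p.Prime := ⟨hp⟩
  by_contra hcon
  push Not at hcon
  have hpdvd : p ∣ Nat.card G := by
    rw [hg]; exact ((dvd_pow_self p ha.ne').mul_right _).mul_right _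
  have hna : ¬ ∀ x y : G, x * y = y * x := by
    intro hab
    letI : CommGroup G := { ‹Group G› with mul_comm := hab }
    have h1 : (Nat.card G).Prime := IsSimpleGroup.prime_card
    exact hne ((Nat.prime_dvd_prime_iff_eq hp h1).1 hpdvd).symm
  have hg0 : g₀ ≠ 0 := fun h => hcop (h ▸ dvd_zero p)
  have hg1 : g₀ ≠ 1 := by
    intro h
    rw [h, mul_one] at hg
    have hsol := CfsgLib.Char.isSolvable_of_card_eq p q a b hp hq hg
    exact hna ((IsSimpleGroup.comm_iff_isSolvable (G := G)).2 hsol)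
  have hlt : g₀ < p := by
    have h1 : g₀ ≤ 6 ^ (g₀ - 1) := by
      have := Nat.lt_pow_self (n := g₀ - 1) (show 1 < 6 by norm_num)
      omega
    exact lt_of_le_of_ne (h1.trans hcon) fun h => hcop (h ▸ dvd_rfl)
  -- an element of order `p` in the centre of a Sylow subgroup
  obtain ⟨P⟩ : Nonempty (Sylow p G) := inferInstance
  haveI hPnt : Nontrivial (P : Subgroup G) := by
    rw [← Finite.one_lt_card_iff_nontrivial]
    exact lt_of_lt_of_le hp.one_lt (Nat.le_of_dvd Nat.card_pos (P.dvd_card_of_dvd_card hpdvd))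
  obtain ⟨z, hz⟩ : ∃ z : Subgroup.center (P : Subgroup G), orderOf z = p := by
    haveI := P.isPGroup'.center_nontrivial
    refine exists_prime_orderOf_dvd_card' p ?_
    obtain ⟨k, hk⟩ := (P.isPGroup'.to_subgroup (Subgroup.center (P : Subgroup G))).exists_card_eq
    rw [hk]
    exact dvd_pow_self p fun h0 => by
      rw [h0, pow_zero] at hk
      exact absurd hk (Finite.one_lt_card).ne'
  obtain ⟨x, hx⟩ : ∃ x : G, ((z : (P : Subgroup G)) : G) = x := ⟨_, rfl⟩
  have hxo : orderOf x = p := by rw [← hx, Subgroup.orderOf_coe, Subgroup.orderOf_coe, hz]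
  have hx1 : x ≠ 1 := fun h => by rw [h, orderOf_one] at hxo; exact hp.ne_one hxo.symm
  have hindex : ∀ t : ℕ, ¬ p ∣ (Subgroup.centralizer ({x ^ t} : Set G)).index := by
    intro t hdvd
    have hle : (P : Subgroup G) ≤ Subgroup.centralizer ({x ^ t} : Set G) := by
      intro u hu
      rw [Subgroup.mem_centralizer_singleton_iff]
      have h1 : Commute (⟨u, hu⟩ : (P : Subgroup G)) (z : (P : Subgroup G)) :=
        Subgroup.mem_center_iff.1 z.2 ⟨u, hu⟩
      have h2 : Commute u x := hx ▸ h1.map (P : Subgroup G).subtype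
      exact (h2.pow_right t).eq
    exact P.not_dvd_index (hdvd.trans (Subgroup.index_dvd_of_le hle))
  -- a character of the principal block
  obtain ⟨M, hM⟩ := CfsgLib.Block.exists_isPModular hp
  haveI := hM.2.1.isPrime
  letI := CfsgLib.Block.Chr.irrFintype (G := G)
  have horth := CfsgLib.BlockB.sum_principal_eq_zero hM (y := x) (k := 1) (by rw [pow_one, hxo])
    (fun χ : Cfsg.IrrCharacter G => (χ : G → ℂ) 1) (fun s _ hps => by
      refine CfsgLib.BlockB.sum_irr_mul_eq_zero fun hc => ?_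
      rw [inv_one, isConj_one_left] at hc
      exact hps (by rw [eq_inv_of_mul_eq_one_right hc, orderOf_inv, hxo]))
  obtain ⟨χ, hχB, hχ1, hχq⟩ : ∃ χ : Cfsg.IrrCharacter G, χ ∈ Cfsg.principalBlock M G ∧
      χ ≠ CfsgLib.Block.oneIrr G ∧
      ¬ IsIntegral ℤ ((χ : G → ℂ) x * (χ : G → ℂ) 1 / (q : ℂ)) := by
    by_contra hno
    push Not at hno
    have hmem : CfsgLib.Block.oneIrr G ∈
        Finset.univ.filter (· ∈ Cfsg.principalBlock M G) :=
      Finset.mem_filter.2 ⟨Finset.mem_univ _, CfsgLib.Block.oneIrr_mem_principalBlock⟩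
    rw [← Finset.add_sum_erase _ _ hmem] at horth
    simp only [CfsgLib.Block.oneIrr_apply, mul_one] at horth
    have h1 : IsIntegral ℤ ((∑ χ ∈ (Finset.univ.filter (· ∈ Cfsg.principalBlock M G)).erase
        (CfsgLib.Block.oneIrr G), (χ : G → ℂ) x * (χ : G → ℂ) 1) / (q : ℂ)) := by
      rw [Finset.sum_div]
      refine IsIntegral.sum _ fun χ hχ => ?_
      rw [Finset.mem_erase, Finset.mem_filter] at hχ
      exact hno χ hχ.2.2 hχ.1
    rw [eq_neg_of_add_eq_zero_right horth] at h1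
    have h2 : IsIntegral ℤ ((1 : ℕ) / (q : ℂ)) := by simpa [neg_div] using h1.neg
    exact hq.not_dvd_one (CfsgLib.Char.dvd_of_isIntegral_div hq.ne_zero h2)
  obtain ⟨d, hd, hd0⟩ : ∃ d : ℕ, (χ : G → ℂ) 1 = d ∧ 0 < d :=
    ⟨_, (CfsgLib.Block.Chr.irr_one χ).1, (CfsgLib.Block.Chr.irr_one χ).2⟩
  have hqd : ¬ q ∣ d := by
    rintro ⟨m, hm⟩
    refine hχq ?_
    rw [hd, hm, Nat.cast_mul, show (χ : G → ℂ) x * ((q : ℂ) * (m : ℂ)) / (q : ℂ) =
      (χ : G → ℂ) x * (m : ℂ) by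
        have : (q : ℂ) ≠ 0 := Nat.cast_ne_zero.2 hq.ne_zero
        field_simp]
    exact (CfsgLib.Char.IsCharacter.isIntegral (CfsgLib.Block.Chr.isCharacter_irr χ) x).mul
      (isIntegral_algebraMap (x := (m : ℤ)))
  obtain ⟨j, e, he, hje⟩ := Nat.exists_eq_pow_mul_and_not_dvd hd0.ne' p hp.ne_one
  have hepos : 0 < e := Nat.pos_of_ne_zero fun h => he (h ▸ dvd_zero p)
  have heg : e ∣ g₀ := by
    have h1 : e ∣ p ^ a * q ^ b * g₀ :=
      hg ▸ (Dvd.intro_left _ hje.symm).trans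
        (CfsgLib.Char.IsIrrCharacter.degree_dvd_card χ.2 hd)
    have h2 : Nat.Coprime e (p ^ a * q ^ b) := Nat.Coprime.mul_right
      ((hp.coprime_iff_not_dvd.2 he).symm.pow_right a)
      ((hq.coprime_iff_not_dvd.2 fun h => hqd (h.trans (Dvd.intro_left _ hje.symm))).symm.pow_right b)
    exact h2.dvd_of_dvd_mul_left h1
  have hele : e ≤ g₀ := Nat.le_of_dvd (Nat.pos_of_ne_zero hg0) heg
  have hpC : (p : ℂ) ≠ 0 := Nat.cast_ne_zero.2 hp.ne_zero
  have heC : (e : ℂ) ≠ 0 := Nat.cast_ne_zero.2 hepos.ne'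
  -- the values at the powers of `x` are `p ^ j` times integers congruent to `e`
  have hval : ∀ t : ℕ, Cfsg.MemLocalIdeal M ((χ : G → ℂ) (x ^ t) / (p : ℂ) ^ j - (e : ℂ)) := by
    intro t
    obtain ⟨K, hK⟩ : ∃ K, (Subgroup.centralizer ({x ^ t} : Set G)).index = K := ⟨_, rfl⟩
    have hKp : ¬ p ∣ K := hK ▸ hindex t
    have hKC : (K : ℂ) ≠ 0 := Nat.cast_ne_zero.2 fun h => hKp (h ▸ dvd_zero p)
    have h1 : Cfsg.MemLocalIdeal M (Cfsg.centralChar (fun _ : G => (1 : ℂ)) (x ^ t) -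
        Cfsg.centralChar (χ : G → ℂ) (x ^ t)) := hχB (x ^ t)
    have h2 := CfsgLib.Block.memLocalIdeal_mul_left
      (CfsgLib.Block.memLocalRing_mul (CfsgLib.Block.natCast_mem_localRing (M := M) e)
        (CfsgLib.Block.memLocalRing_natCast_inv hM hKp))
      (CfsgLib.Block.memLocalIdeal_sub_comm h1)
    convert h2 using 1
    rw [Cfsg.centralChar, Cfsg.centralChar, hK, hd, hje]
    push_cast
    field_simp
  -- the eigenvalue multiplicities
  obtain ⟨n, ρ, hρ, hχρ⟩ := χ.2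
  have hn : n = d := by
    have h1 := congrFun hχρ.symm 1
    rw [hd, ρ.char_one, Module.finrank_fin_fun] at h1
    exact_mod_cast h1.symm
  have hnt : ρ.character ≠ fun _ => 1 := fun h => hχ1 (Subtype.ext (hχρ.symm.trans h))
  have hμ0 : ∀ μ ∈ CfsgLib.Char.SmallArc.roots x, μ ^ p = 1 := fun μ hμ => by
    rw [← hxo]; exact CfsgLib.Char.SmallArc.mem_roots.1 hμ
  choose! m hm hmpos using fun μ (hμ : μ ∈ CfsgLib.Char.SmallArc.roots x) =>
    CfsgLib.BlichfeldtArc.exists_mult ρ x hμ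
  have hdiv : ∀ μ ∈ CfsgLib.Char.SmallArc.roots x, p ^ j ∣ m μ := by
    intro μ hμ
    have htr : (p : ℂ) * (m μ : ℂ) / (p : ℂ) ^ j =
        ∑ t ∈ Finset.range p, μ⁻¹ ^ t * ((χ : G → ℂ) (x ^ t) / (p : ℂ) ^ j) := by
      have h1 := hm μ hμ
      rw [CfsgLib.Char.SmallArc.trace_proj, hxo, hχρ] at h1
      rw [← h1, ← mul_assoc, mul_inv_cancel₀ hpC, one_mul, Finset.sum_div]
      exact Finset.sum_congr rfl fun t _ => mul_div_assoc _ _ _
    have hμinv : μ⁻¹ ^ p = 1 := by rw [inv_pow, hμ0 μ hμ, inv_one]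
    have hμi : IsIntegral ℤ μ⁻¹ := IsIntegral.of_pow hp.pos (by rw [hμinv]; exact isIntegral_one)
    have hμ1 : ∀ t : ℕ, Cfsg.MemLocalIdeal M (μ⁻¹ ^ t - 1) := by
      intro t
      have h1 := CfsgLib.Block.res_eq_one_of_pow_eq_one hM
        (z := (⟨μ⁻¹, CfsgLib.Block.integral_mem_localRing hμi⟩ : CfsgLib.Block.localRing M) ^ t)
        (n := 1) (Subtype.ext (by
          push_cast
          rw [pow_one, ← pow_mul, mul_comm, pow_mul, hμinv, one_pow]))
      rw [← map_one (CfsgLib.Block.res M), CfsgLib.Block.res_eq_iff] at h1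
      simpa using h1
    have hsum : Cfsg.MemLocalIdeal M (∑ t ∈ Finset.range p,
        (μ⁻¹ ^ t * ((χ : G → ℂ) (x ^ t) / (p : ℂ) ^ j) - (e : ℂ))) := by
      refine CfsgLib.Block.memLocalIdeal_sum fun t _ => ?_
      rw [show μ⁻¹ ^ t * ((χ : G → ℂ) (x ^ t) / (p : ℂ) ^ j) - (e : ℂ) =
        μ⁻¹ ^ t * ((χ : G → ℂ) (x ^ t) / (p : ℂ) ^ j - (e : ℂ)) + (e : ℂ) * (μ⁻¹ ^ t - 1) by ring]
      exact CfsgLib.Block.memLocalIdeal_add
        (CfsgLib.Block.memLocalIdeal_mul_left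
          (CfsgLib.Block.memLocalRing_of_isIntegral (hμi.pow t)) (hval t))
        (CfsgLib.Block.memLocalIdeal_mul_left (CfsgLib.Block.natCast_mem_localRing e) (hμ1 t))
    rw [Finset.sum_sub_distrib, ← htr, Finset.sum_const, Finset.card_range, nsmul_eq_mul] at hsum
    have h2 : Cfsg.MemLocalIdeal M ((((p * m μ : ℕ) : ℤ) : ℂ) / (p : ℂ) ^ j) := by
      have h3 := CfsgLib.Block.memLocalIdeal_add hsum
        (CfsgLib.Block.memLocalIdeal_mul_right (CfsgLib.Block.memLocalIdeal_p hM)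
          (CfsgLib.Block.natCast_mem_localRing (M := M) e))
      rw [sub_add_cancel] at h3
      push_cast
      exact h3
    have h4 := CfsgLib.Block.pow_succ_dvd_of_memLocalIdeal hM h2
    have h5 : p * p ^ j ∣ p * m μ := by rw [← pow_succ']; exact_mod_cast h4
    exact Nat.dvd_of_mul_dvd_mul_left hp.pos h5
  -- few eigenvalues
  obtain ⟨S, hS⟩ : ∃ S, (CfsgLib.Char.SmallArc.roots x).filter
      (CfsgLib.Char.SmallArc.IsEigen ρ x) = S := ⟨_, rfl⟩
  have hsumn : ∑ μ ∈ CfsgLib.Char.SmallArc.roots x, m μ = n := by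
    have h1 := CfsgLib.BlichfeldtArc.sum_trace_proj ρ x
    rw [Finset.sum_congr rfl hm, ← Nat.cast_sum, Nat.cast_inj] at h1
    exact h1
  have hcard : S.card ≤ g₀ := by
    have h1 : p ^ j * S.card ≤ p ^ j * e := by
      calc p ^ j * S.card = ∑ μ ∈ S, p ^ j := by rw [Finset.sum_const, smul_eq_mul, mul_comm]
        _ ≤ ∑ μ ∈ S, m μ := Finset.sum_le_sum fun μ hμ => by
            rw [← hS, Finset.mem_filter] at hμ
            exact Nat.le_of_dvd (hmpos μ hμ.1 hμ.2) (hdiv μ hμ.1)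
        _ ≤ ∑ μ ∈ CfsgLib.Char.SmallArc.roots x, m μ :=
            Finset.sum_le_sum_of_subset (hS ▸ Finset.filter_subset _ _)
        _ = p ^ j * e := by rw [hsumn, hn, hje]
    exact (Nat.le_of_mul_le_mul_left h1 (pow_pos hp.pos j)).trans hele
  obtain ⟨ε, hε⟩ : ∃ ε, CfsgLib.Char.SmallArc.IsEigen ρ x ε := by
    by_contra hno
    push Not at hno
    refine hd0.ne' (hn ▸ ?_)
    rw [← hsumn]
    refine Finset.sum_eq_zero fun μ hμ => ?_
    have h0 : CfsgLib.Char.SmallArc.proj ρ x μ = 0 := LinearMap.ext fun v => by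
      rw [LinearMap.zero_apply]
      by_contra hv
      exact hno μ ⟨_, hv, CfsgLib.Char.SmallArc.rep_proj_apply ρ x hμ v⟩
    have h1 := hm μ hμ
    rw [h0, map_zero] at h1
    exact_mod_cast h1.symm
  have hεS : ε ∈ S := hS ▸ Finset.mem_filter.2 ⟨CfsgLib.Char.SmallArc.eigen_mem_roots ρ hε, hε⟩
  -- the pigeon hole
  obtain ⟨t, t', htt, hcell⟩ : ∃ t t' : Fin p, t ≠ t' ∧
      ∀ μ : ↥(S.erase ε), CfsgLib.BlichfeldtArc.cell (((μ : ℂ) / ε) ^ (t : ℕ)) =
        CfsgLib.BlichfeldtArc.cell (((μ : ℂ) / ε) ^ (t' : ℕ)) := by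
    have hlt' : 6 ^ (S.erase ε).card < p := by
      have h1 : (S.erase ε).card ≤ g₀ - 1 := by
        rw [Finset.card_erase_of_mem hεS]; omega
      refine lt_of_le_of_ne ((Nat.pow_le_pow_right (by norm_num) h1).trans hcon) fun h => ?_
      rcases Nat.eq_zero_or_pos (S.erase ε).card with h0 | h0
      · rw [h0, pow_zero] at h; exact hp.ne_one h.symm
      · have h6 : 6 ∣ p := h ▸ dvd_pow_self 6 h0.ne'
        rcases hp.eq_one_or_self_of_dvd 6 h6 with h7 | h7
        · norm_num at h7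
        · rw [← h7] at hp; norm_num at hp
    obtain ⟨t, t', h1, h2⟩ := Fintype.exists_ne_map_eq_of_card_lt
      (fun t : Fin p => fun μ : ↥(S.erase ε) =>
        CfsgLib.BlichfeldtArc.cell (((μ : ℂ) / ε) ^ (t : ℕ)))
      (by simpa using hlt')
    exact ⟨t, t', h1, congrFun h2⟩
  wlog htlt : (t' : ℕ) < t generalizing t t'
  · exact this t' t htt.symm (fun μ => (hcell μ).symm)
      (lt_of_le_of_ne (not_lt.1 htlt) (Fin.val_ne_of_ne htt))
  haveI := hρ
  refine CfsgLib.BlichfeldtArc.false_of_arc ρ hna hnt (g := x ^ ((t : ℕ) - t')) ?_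
    (CfsgLib.BlichfeldtArc.isEigen_pow ρ x _ hε) ?_
  · intro h
    have h1 := orderOf_dvd_of_pow_eq_one h
    rw [hxo] at h1
    have := Nat.le_of_dvd (by omega) h1
    have := t.isLt
    omega
  intro ν hν
  obtain ⟨μ, hμ, rfl⟩ := CfsgLib.BlichfeldtArc.eigen_pow ρ x _ hν
  by_cases hme : μ = ε
  · rw [hme, sub_self, norm_zero]; exact one_pos
  have hnorm : ∀ ζ, CfsgLib.Char.SmallArc.IsEigen ρ x ζ → ‖ζ‖ = 1 := fun ζ hζ =>
    Complex.norm_eq_one_of_pow_eq_one
      (hμ0 _ (CfsgLib.Char.SmallArc.eigen_mem_roots ρ hζ)) hp.ne_zero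
  have hε0 : ε ≠ 0 := fun h => by
    have := hnorm ε hε
    rw [h, norm_zero] at this
    exact zero_ne_one this
  have hμS : μ ∈ S.erase ε := Finset.mem_erase.2
    ⟨hme, hS ▸ Finset.mem_filter.2 ⟨CfsgLib.Char.SmallArc.eigen_mem_roots ρ hμ, hμ⟩⟩
  obtain ⟨w, hw⟩ : ∃ w, μ / ε = w := ⟨_, rfl⟩
  have hw1 : ‖w‖ = 1 := by rw [← hw, norm_div, hnorm μ hμ, hnorm ε hε, div_one]
  obtain ⟨s, hs⟩ : ∃ s, (t : ℕ) - t' = s := ⟨_, rfl⟩
  have hts : (t : ℕ) = t' + s := by omega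
  have h1 := CfsgLib.BlichfeldtArc.dist_lt_of_cell_eq (z := w ^ (t' : ℕ)) (z' := w ^ (t : ℕ))
    (by rw [norm_pow, hw1, one_pow]) (by rw [norm_pow, hw1, one_pow])
    (hw ▸ (hcell ⟨μ, hμS⟩).symm)
  rw [hts, pow_add, show w ^ (t' : ℕ) * w ^ s - w ^ (t' : ℕ) = w ^ (t' : ℕ) * (w ^ s - 1) by ring,
    norm_mul, norm_pow, hw1, one_pow, one_mul] at h1
  rw [hs, show μ ^ s - ε ^ s = ε ^ s * (w ^ s - 1) by
    rw [← hw, div_pow]; field_simp, norm_mul, norm_pow, hnorm ε hε, one_pow, one_mul]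
  exact h1

end Cfsg.Agent.S4484
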