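import Cfsg.Statements.S4488
import Cfsg.Agent.SchurBound.RationalPGroup

set_option autoImplicit false
open Cfsg

namespace Cfsg.Agent.S4488

/-- Let the finite group G have a faithful p-rational character χ of degree n (all values of χ lie in the field generated over ℚ by a root of unity of order prime to p), and let p^a be the order of a Sylow p-subgroup of G. Then a ≤ Σ_{i ≥ 0} ⌊n / ((p − 1)·p^i)⌋ (a finite sum; the terms vanish once (p − 1)p^i > n). -/
theorem result {G : Type*} [Group G] [Finite G] (p : ℕ) (hp : p.Prime) (χ : G → ℂ) (hχ : Cfsg.IsCharacter G χ) (hfaith : ∀ g : G, χ g = χ 1 → g = 1) (hrat : (∃ r : ℕ, 0 < r ∧ ¬ p ∣ r ∧ ∀ g : G, χ g ∈ IntermediateField.adjoin ℚ ({Complex.exp (2 * Real.pi * Complex.I / r)} : Set ℂ))) (n : ℕ) (hn : Cfsg.charDegree χ = n) : (Nat.card G).factorization p ≤ ∑ i ∈ Finset.range (n + 1), n / ((p - 1) * p ^ i) := by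
  haveI := Fact.mk hp
  classical
  obtain ⟨r, hr, hpr, hmem⟩ := hrat
  have hn' : χ 1 = (n : ℂ) := by
    obtain ⟨m, ρ, rfl⟩ := id hχ
    rw [← hn, Cfsg.charDegree, ρ.char_one, Complex.natCast_re, Nat.floor_natCast]
  obtain ⟨P⟩ : Nonempty (Sylow p G) := inferInstance
  have hle : (Nat.card G).factorization p ≤ (Nat.card (P : Subgroup G)).factorization p := by
    rw [P.card_eq_multiplicity, Nat.factorization_pow, Finsupp.smul_apply, hp.factorization_self,
      smul_eq_mul, mul_one]
  refine hle.trans (CfsgLib.SchurBound.card_factorization_le P.isPGroup'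
    (CfsgLib.Char.IsCharacter.restrict hχ (P : Subgroup G))
    (fun g hg => Subtype.ext (hfaith _ hg)) hn' fun g m hm => ?_)
  obtain ⟨a, ha⟩ := P.isPGroup' g
  obtain ⟨k, -, hk⟩ := (Nat.dvd_prime_pow hp).1 (orderOf_dvd_of_pow_eq_one ha)
  show χ ((g ^ m : (P : Subgroup G)) : G) = χ g
  rw [SubgroupClass.coe_pow]
  exact CfsgLib.SchurBound.apply_pow_eq hχ hr hpr hmem (by rw [Subgroup.orderOf_coe, hk]) hm

end Cfsg.Agent.S4488
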