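import Cfsg.Statements.S4490
import Cfsg.Agent.Blocks.BlockCount
import Cfsg.Agent.Blocks.Principal
import Cfsg.Agent.Blocks.BrauerFeit
import Cfsg.Agent.FGSB.RealOdd

set_option autoImplicit false
open Cfsg

namespace Cfsg.Agent.S4490

/-- Let G be a finite group and M a maximal ideal of the algebraic integers containing 2. Every 2-block B of G whose defect groups are the Sylow 2-subgroups of G (a block of full defect) and which is not the principal block is different from its complex-conjugate block, the block formed by the complex conjugates of the members of B. -/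
theorem result {G : Type*} [Group G] [Finite G] (M : Ideal Cfsg.AlgInt) (hM : Cfsg.IsPModular 2 M) (B : Set (Cfsg.IrrCharacter G)) (hB : Cfsg.IsPBlock M B) (P : Sylow 2 G) (hfull : Cfsg.IsDefectGroup 2 M B (P : Subgroup G)) (hnp : B ≠ Cfsg.principalBlock M G) : {ψ : Cfsg.IrrCharacter G | ∃ χ ∈ B, (ψ : G → ℂ) = fun g => (starRingEnd ℂ) ((χ : G → ℂ) g)} ≠ B := by
  classical
  haveI := Fintype.ofFinite G
  haveI := hM.2.1.isPrime
  haveI : Fact (Nat.Prime 2) := ⟨Nat.prime_two⟩
  letI := CfsgLib.Block.Chr.irrFintype (G := G)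
  haveI := CfsgLib.Block.charP_residue hM
  intro hEq
  set B₁ := Cfsg.principalBlock M G
  have hB₁ : Cfsg.IsPBlock M B₁ := CfsgLib.Block.isPBlock_principalBlock
  have h1mem : CfsgLib.Block.oneIrr G ∈ B₁ := CfsgLib.Block.oneIrr_mem_principalBlock
  set a := (Nat.card G).factorization 2
  have hd₁ : Cfsg.blockDefect 2 B₁ = a := by
    have h := CfsgLib.Block.degree_ge hM hB₁ h1mem
    rw [show Cfsg.charDegree ((CfsgLib.Block.oneIrr G : Cfsg.IrrCharacter G) : G → ℂ) = 1 by
      simp [Cfsg.charDegree, CfsgLib.Block.oneIrr_coe]] at h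
    simp only [Nat.factorization_one, Finsupp.coe_zero, Pi.zero_apply] at h
    have := CfsgLib.Block.blockDefect_le (p := 2) B₁
    omega
  have hd : Cfsg.blockDefect 2 B = a :=
    Nat.pow_right_injective le_rfl
      ((CfsgLib.Block.card_defectGroup hM hB hfull).symm.trans P.card_eq_multiplicity)
  obtain ⟨χ, hχ⟩ := CfsgLib.Block.exists_mem_block hB
  have hbar : ∀ φ ∈ B, ∀ ψ : Cfsg.IrrCharacter G,
      (ψ : G → ℂ) = (fun g => starRingEnd ℂ ((φ : G → ℂ) g)) → ψ ∈ B :=
    fun φ hφ ψ hψ => hEq ▸ ⟨φ, hφ, hψ⟩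
  let σ : Cfsg.IrrCharacter G → Cfsg.IrrCharacter G :=
    fun φ => ⟨_, CfsgLib.Char.IsIrrCharacter.conj φ.2⟩
  have hσσ : ∀ φ, σ (σ φ) = φ := fun φ => Subtype.ext (funext fun g => Complex.conj_conj _)
  have hσ : ∀ φ ∈ B, σ φ ∈ B := fun φ hφ => hbar φ hφ (σ φ) rfl
  have hesymm : ∀ g : G, Cfsg.blockCoeff B g⁻¹ = Cfsg.blockCoeff B g := by
    intro g
    rw [CfsgLib.Block.blockCoeff_eq_sum, CfsgLib.Block.blockCoeff_eq_sum]
    congr 1
    refine Finset.sum_bij' (fun φ _ => σ φ) (fun φ _ => σ φ)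
      (fun φ hφ => Finset.mem_filter.2 ⟨Finset.mem_univ _, hσ φ (Finset.mem_filter.1 hφ).2⟩)
      (fun φ hφ => Finset.mem_filter.2 ⟨Finset.mem_univ _, hσ φ (Finset.mem_filter.1 hφ).2⟩)
      (fun φ _ => hσσ φ) (fun φ _ => hσσ φ) fun φ _ => ?_
    show _ = starRingEnd ℂ ((φ : G → ℂ) 1) * starRingEnd ℂ (starRingEnd ℂ ((φ : G → ℂ) g))
    rw [CfsgLib.Block.Chr.conj_irr, inv_inv, (CfsgLib.Block.Chr.irr_one φ).1, map_natCast,
      Complex.conj_conj]
  set L : G → ℂ := fun g => Cfsg.centralChar (χ : G → ℂ) g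
  set L₁ : G → ℂ := fun g =>
    Cfsg.centralChar ((CfsgLib.Block.oneIrr G : Cfsg.IrrCharacter G) : G → ℂ) g
  have hconjinv : ∀ {g h : G}, IsConj g h → IsConj g⁻¹ h⁻¹ := by
    intro g h hgh
    obtain ⟨c, rfl⟩ := isConj_iff.1 hgh
    exact isConj_iff.2 ⟨c, by group⟩
  have hcenInv : ∀ g : G, Subgroup.centralizer ({g⁻¹} : Set G) = Subgroup.centralizer ({g} : Set G) := by
    intro g
    ext c
    simp only [Subgroup.mem_centralizer_singleton_iff]
    exact ⟨fun h => by simpa using (Commute.inv_right (show Commute c g⁻¹ from h)).eq,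
      fun h => (Commute.inv_right (show Commute c g from h)).eq⟩
  have hLsymm : ∀ g : G, Cfsg.MemLocalIdeal M (L g⁻¹ - L g) := by
    intro g
    have h := CfsgLib.Block.sameBlock_of_mem hB (hσ χ hχ) hχ g
    have e : Cfsg.centralChar ((σ χ : Cfsg.IrrCharacter G) : G → ℂ) g = L g⁻¹ := by
      simp only [L, σ, Cfsg.centralChar, hcenInv, CfsgLib.Block.Chr.conj_irr, inv_one]
    rwa [e] at h
  set T : ConjClasses G → ℂ := fun C => Cfsg.blockCoeff B C.out * (L₁ C.out - L C.out)
  have hT : ∀ C, Cfsg.MemLocalRing M (T C) := fun C => CfsgLib.Block.memLocalRing_mul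
    (CfsgLib.Block.blockCoeff_mem hB _) (CfsgLib.Block.memLocalRing_sub
      (CfsgLib.Block.centralChar_mem _ _) (CfsgLib.Block.centralChar_mem _ _))
  have hcls : ∀ (φ : Cfsg.IrrCharacter G) {g h : G}, IsConj g h →
      Cfsg.centralChar (φ : G → ℂ) g = Cfsg.centralChar (φ : G → ℂ) h := by
    intro φ g h hgh
    rw [← CfsgLib.Block.omega_classInd, ← CfsgLib.Block.omega_classInd]
    congr 1
    funext u
    by_cases hu : IsConj g u
    · rw [CfsgLib.Block.classInd_of_isConj hu, CfsgLib.Block.classInd_of_isConj (hgh.symm.trans hu)]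
    · rw [CfsgLib.Block.classInd_of_not_isConj hu,
        CfsgLib.Block.classInd_of_not_isConj fun h' => hu (hgh.trans h')]
  let ι : ConjClasses G → ConjClasses G := fun C => ConjClasses.mk (C.out)⁻¹
  have hout : ∀ g : G, IsConj (ConjClasses.mk g).out g := fun g =>
    ConjClasses.mk_eq_mk_iff_isConj.1 (Quotient.out_eq (ConjClasses.mk g))
  have hιι : ∀ C, ι (ι C) = C := by
    intro C
    conv_rhs => rw [← Quotient.out_eq C]
    exact ConjClasses.mk_eq_mk_iff_isConj.2 (by simpa using hconjinv (hout (C.out)⁻¹))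
  have hTι : ∀ C, Cfsg.MemLocalIdeal M (T (ι C) - T C) := by
    intro C
    have hc : IsConj (ι C).out (C.out)⁻¹ := hout _
    have he : Cfsg.blockCoeff B (ι C).out = Cfsg.blockCoeff B C.out := by
      rw [CfsgLib.Char.IsClassFunction.apply_eq_of_isConj
        (CfsgLib.Block.isClassFunction_blockCoeff B) hc, hesymm]
    have h1 : L₁ (C.out)⁻¹ = L₁ C.out := by
      simp only [L₁, Cfsg.centralChar, hcenInv, CfsgLib.Block.oneIrr_coe]
    have : T (ι C) - T C = - (Cfsg.blockCoeff B C.out * (L (C.out)⁻¹ - L C.out)) := by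
      simp only [T, he]
      rw [show L (ι C).out = L (C.out)⁻¹ from hcls χ hc,
        show L₁ (ι C).out = L₁ (C.out)⁻¹ from hcls _ hc, h1]
      ring
    rw [this]
    exact CfsgLib.Block.memLocalIdeal_neg (CfsgLib.Block.memLocalIdeal_mul_left
      (CfsgLib.Block.blockCoeff_mem hB _) (hLsymm _))
  let r : ConjClasses G → CfsgLib.Block.Residue M :=
    fun C => CfsgLib.Block.res M ⟨T C, hT C⟩
  have hfix : ∀ C, ι C = C → r C = 0 := by
    intro C hC
    refine CfsgLib.Block.res_eq_zero_iff.2 ?_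
    show Cfsg.MemLocalIdeal M (T C)
    set g := C.out
    by_cases hne : 2 ∣ orderOf g ∨ CfsgLib.Block.classDefect 2 g < a
    · have h2 : 2 ∣ orderOf g ∨ Cfsg.blockDefect 2 B < CfsgLib.Block.classDefect 2 g ∨
          CfsgLib.Block.classDefect 2 g < a := hne.imp_right Or.inr
      have t1 := CfsgLib.Block.term_cong_zero hM hB hB₁ h1mem (h := g) (by rw [hd₁]; exact h2)
      have t2 := CfsgLib.Block.term_cong_zero hM hB hB hχ (h := g)
        (h2.imp_right (Or.imp_right fun h => by rw [hd]; exact h))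
      simpa [T, mul_sub] using CfsgLib.Block.memLocalIdeal_sub t1 t2
    push Not at hne
    have hreal : IsConj g g⁻¹ := by
      refine ConjClasses.mk_eq_mk_iff_isConj.1 ?_
      show ConjClasses.mk C.out = _
      rw [show ConjClasses.mk C.out = C from Quotient.out_eq C]
      exact hC.symm
    obtain ⟨S⟩ : Nonempty (Sylow 2 (Subgroup.centralizer ({g} : Set G))) := inferInstance
    have hS : Nat.card ((S : Subgroup (Subgroup.centralizer ({g} : Set G))).map (Subgroup.centralizer ({g} : Set G)).subtype) = 2 ^ a := by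
      rw [← Nat.card_congr ((S : Subgroup (Subgroup.centralizer ({g} : Set G))).equivMapOfInjective _
        (Subgroup.subtype_injective _)).toEquiv, S.card_eq_multiplicity]
      congr 1
      exact le_antisymm (CfsgLib.Block.centralizer_factorization_le g) hne.2
    have hg1 : g = 1 := by
      refine CfsgLib.RealOdd.eq_one_of_centralizes (Sylow.ofCard _ hS) ?_
        (Nat.not_even_iff_odd.1 fun h => hne.1 (even_iff_two_dvd.1 h)) hreal
      rw [Sylow.coe_ofCard]
      exact CfsgLib.Block.le_centralizer_singleton.1 (Subgroup.map_subtype_le _)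
    have hz : T C = 0 := by
      simp only [T, show C.out = 1 from hg1, L, L₁, Cfsg.centralChar]
      rw [mul_div_assoc, mul_div_assoc, div_self (CfsgLib.Block.Chr.irr_one_ne_zero χ),
        div_self (CfsgLib.Block.Chr.irr_one_ne_zero _)]
      ring
    rw [hz]
    exact CfsgLib.Block.memLocalIdeal_zero
  have hsum : ∑ C : ConjClasses G, r C = 0 := by
    refine Finset.sum_involution (fun C _ => ι C) (fun C _ => ?_) (fun C _ hC h => hC (hfix C h))
      (fun C _ => Finset.mem_univ _) (fun C _ => hιι C)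
    have : r (ι C) = r C := CfsgLib.Block.res_eq_iff.2 (hTι C)
    rw [this]
    exact CharTwo.add_self_eq_zero _
  have hI : Cfsg.MemLocalIdeal M (∑ C : ConjClasses G, T C) := by
    rw [← map_sum] at hsum
    have h := CfsgLib.Block.res_eq_zero_iff.1 hsum
    rwa [show ((∑ C, (⟨T C, hT C⟩ : CfsgLib.Block.localRing M) : CfsgLib.Block.localRing M) : ℂ) =
      ∑ C, T C from map_sum (CfsgLib.Block.localRing M).subtype _ _] at h
  have he := CfsgLib.Block.isClassFunction_blockCoeff (G := G) B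
  have htot : ∑ C : ConjClasses G, T C = -1 := by
    simp only [T, mul_sub, Finset.sum_sub_distrib]
    have e1 := CfsgLib.Block.omega_eq_sum_classes (CfsgLib.Block.oneIrr G) he
    have e2 := CfsgLib.Block.omega_eq_sum_classes χ he
    rw [CfsgLib.Block.omega_blockCoeff, if_neg fun h => hnp
      (CfsgLib.Block.block_eq_of_common hB hB₁ h h1mem)] at e1
    rw [CfsgLib.Block.omega_blockCoeff, if_pos hχ] at e2
    rw [← e1, ← e2]
    ring
  rw [htot] at hI
  exact CfsgLib.Block.not_memLocalIdeal_one (M := M) (neg_neg (1 : ℂ) ▸ CfsgLib.Block.memLocalIdeal_neg hI)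

end Cfsg.Agent.S4490
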