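import Cfsg.Statements.S4495
import Cfsg.Agent.BlocksB.SelfCentralizingPrime

set_option autoImplicit false
open Cfsg

namespace Cfsg.Agent.S4495

/-- Let the finite group G contain an element x of prime order p with C_G(x) = ⟨x⟩, and let t be the number of conjugacy classes of elements of order p. If t ≠ p − 1 then the commutator subgroup has index at most (p − 1)/t; if t = p − 1 it has index exactly p. -/
theorem result {G : Type*} [Group G] [Finite G] (p : ℕ) (hp : p.Prime) (x : G) (hx : orderOf x = p) (hC : Subgroup.centralizer ({x} : Set G) = Subgroup.zpowers x) (t : ℕ) (ht : Nat.card {C : ConjClasses G // ∃ g ∈ C.carrier, orderOf g = p} = t) : (t ≠ p - 1 → (commutator G).index * t ≤ p - 1) ∧ (t = p - 1 → (commutator G).index = p) := by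
  haveI : Fact p.Prime := ⟨hp⟩
  have h := CfsgLib.SelfCentPrime.classes_mul_relIndex hx hC ht
  refine ⟨fun hne => ?_, fun he => ?_⟩
  · have hq : (Subgroup.zpowers x).relIndex (Subgroup.normalizer (Subgroup.zpowers x : Set G)) ≠ 1 :=
      fun h1 => hne (by rwa [h1, mul_one] at h)
    calc (commutator G).index * t
        ≤ (Subgroup.zpowers x).relIndex (Subgroup.normalizer (Subgroup.zpowers x : Set G)) * t :=
          Nat.mul_le_mul_right t (CfsgLib.SelfCentPrime.index_commutator_le hx hC hq)
      _ = p - 1 := by rw [mul_comm]; exact h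
  · refine (CfsgLib.SelfCentPrime.complement_eq_commutator hx hC ?_).2
    have h2 := hp.two_le
    exact Nat.eq_of_mul_eq_mul_left (n := t) (by omega) (by rw [mul_one, h, he])

end Cfsg.Agent.S4495
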