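import Cfsg.Statements.S4498
import Cfsg.Agent.Blocks.Principal

set_option autoImplicit false
open Cfsg

namespace Cfsg.Agent.S4498

/-- Let p and q be distinct primes dividing the order of the finite group G, and suppose G has no element of order p·q. Fix maximal ideals M_p over p and M_q over q of the algebraic integers. Then the principal p-block and the principal q-block of G have a non-principal irreducible character in common. -/
theorem result {G : Type*} [Group G] [Finite G] (p q : ℕ) [Fact p.Prime] [Fact q.Prime] (hpq : p ≠ q) (hp : p ∣ Nat.card G) (hq : q ∣ Nat.card G) (hno : ∀ g : G, orderOf g ≠ p * q) (Mp Mq : Ideal Cfsg.AlgInt) (hMp : Cfsg.IsPModular p Mp) (hMq : Cfsg.IsPModular q Mq) : ∃ χ : Cfsg.IrrCharacter G, (χ : G → ℂ) ≠ (fun _ => 1) ∧ χ ∈ Cfsg.principalBlock Mp G ∧ χ ∈ Cfsg.principalBlock Mq G := by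
  classical
  haveI := Fintype.ofFinite G
  letI := CfsgLib.Block.Chr.irrFintype (G := G)
  haveI := hMp.2.1.isPrime
  haveI := hMq.2.1.isPrime
  by_contra hne
  push Not at hne
  let one : G → ℂ := fun _ => 1
  have hside : ∀ (r : ℕ) (M : Ideal Cfsg.AlgInt), Cfsg.IsPModular r M → M.IsPrime →
      CfsgLib.Block.regPart r one =
        Cfsg.blockPart (Cfsg.principalBlock M G) (CfsgLib.Block.regPart r one) := by
    intro r M hM hMi
    haveI := hMi
    rw [CfsgLib.Block.blockPart_regPart hM CfsgLib.Block.isPBlock_principalBlock]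
    have hb : Cfsg.blockPart (Cfsg.principalBlock M G) one = one := by
      have h := CfsgLib.Block.blockPart_irr (Cfsg.principalBlock M G) (CfsgLib.Block.oneIrr G)
      rw [if_pos CfsgLib.Block.oneIrr_mem_principalBlock] at h
      exact h
    rw [hb]
  have hFp := hside p Mp hMp inferInstance
  have hFq := hside q Mq hMq inferInstance
  let Rp : ℕ := (Finset.univ.filter (fun g : G => ¬ p ∣ orderOf g)).card
  let Rq : ℕ := (Finset.univ.filter (fun g : G => ¬ q ∣ orderOf g)).card
  let Rpq : ℕ := (Finset.univ.filter (fun g : G => ¬ p ∣ orderOf g ∧ ¬ q ∣ orderOf g)).card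
  have hone : ∀ r : ℕ, Cfsg.classInner (CfsgLib.Block.regPart r one) one =
      (Nat.card G : ℂ)⁻¹ * ((Finset.univ.filter (fun g : G => ¬ r ∣ orderOf g)).card : ℂ) := by
    intro r
    rw [CfsgLib.Block.classInner_regPart]
    simp [one]
  have hinner : Cfsg.classInner (CfsgLib.Block.regPart p one) (CfsgLib.Block.regPart q one) =
      ((Nat.card G : ℂ)⁻¹ * (Rp : ℂ)) * ((Nat.card G : ℂ)⁻¹ * (Rq : ℂ)) := by
    conv_lhs => rw [hFp]
    have hstep : Cfsg.classInner (Cfsg.blockPart (Cfsg.principalBlock Mp G)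
        (CfsgLib.Block.regPart p one)) (CfsgLib.Block.regPart q one) =
        ∑ χ ∈ Finset.univ.filter (· ∈ Cfsg.principalBlock Mp G),
          Cfsg.classInner (CfsgLib.Block.regPart p one) (χ : G → ℂ) *
            Cfsg.classInner (χ : G → ℂ) (CfsgLib.Block.regPart q one) := by
      simp only [Cfsg.classInner, CfsgLib.Block.blockPart_eq_sum_inner, Finset.sum_mul,
        Finset.mul_sum]
      rw [Finset.sum_comm]
      exact Finset.sum_congr rfl fun χ _ => Finset.sum_congr rfl fun g _ =>
        Finset.sum_congr rfl fun z _ => by ring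
    rw [hstep, Finset.sum_eq_single (CfsgLib.Block.oneIrr G)]
    · rw [← CfsgLib.Block.classInner_conj_symm (CfsgLib.Block.regPart q one)
        (CfsgLib.Block.oneIrr G : G → ℂ)]
      simp only [CfsgLib.Block.oneIrr_coe]
      rw [hone p, hone q, map_mul, map_inv₀, map_natCast, map_natCast]
    · intro χ hχ hχ1
      have hχ' : χ ∉ Cfsg.principalBlock Mq G := by
        refine hne χ (fun hc => hχ1 (Subtype.ext hc)) (Finset.mem_filter.1 hχ).2
      rw [← CfsgLib.Block.classInner_conj_symm (CfsgLib.Block.regPart q one) (χ : G → ℂ), hFq,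
        CfsgLib.Block.classInner_blockPart, if_neg hχ', map_zero, mul_zero]
    · intro h
      exact absurd (Finset.mem_filter.2 ⟨Finset.mem_univ _,
        CfsgLib.Block.oneIrr_mem_principalBlock⟩) h
  have hinner2 : Cfsg.classInner (CfsgLib.Block.regPart p one) (CfsgLib.Block.regPart q one) =
      (Nat.card G : ℂ)⁻¹ * (Rpq : ℂ) := by
    rw [CfsgLib.Block.classInner_regPart]
    congr 1
    simp only [one, CfsgLib.Block.regPart, apply_ite (starRingEnd ℂ), map_zero, map_one, one_mul]
    rw [Finset.sum_ite, Finset.sum_const_zero, zero_add, Finset.sum_const, Finset.filter_filter,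
      nsmul_one]
  have hn : (Nat.card G : ℂ) ≠ 0 := Nat.cast_ne_zero.2 Nat.card_pos.ne'
  have heq : Rpq * Nat.card G = Rp * Rq := by
    have h := hinner.symm.trans hinner2
    field_simp at h
    exact_mod_cast (show (Rpq : ℂ) * (Nat.card G : ℂ) = (Rp : ℂ) * (Rq : ℂ) by
      rw [mul_comm (Rpq : ℂ)]; linear_combination -h)
  have hsum : Rp + Rq = Nat.card G + Rpq := by
    have hu : Finset.univ.filter (fun g : G => ¬ p ∣ orderOf g) ∪
        Finset.univ.filter (fun g : G => ¬ q ∣ orderOf g) = Finset.univ := by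
      refine Finset.eq_univ_of_forall fun g => ?_
      simp only [Finset.mem_union, Finset.mem_filter, Finset.mem_univ, true_and]
      by_contra hc
      push Not at hc
      obtain ⟨n, hn'⟩ : p * q ∣ orderOf g :=
        Nat.Coprime.mul_dvd_of_dvd_of_dvd
          ((Nat.coprime_primes Fact.out Fact.out).2 hpq) hc.1 hc.2
      have hn0 : n ≠ 0 := fun h0 => (orderOf_pos g).ne' (by rw [hn', h0, mul_zero])
      exact hno (g ^ n) (by
        rw [orderOf_pow' g hn0, hn', Nat.gcd_eq_right (Dvd.intro_left _ rfl),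
          Nat.mul_div_cancel _ (Nat.pos_of_ne_zero hn0)])
    have h := Finset.card_union_add_card_inter (Finset.univ.filter (fun g : G => ¬ p ∣ orderOf g))
      (Finset.univ.filter (fun g : G => ¬ q ∣ orderOf g))
    rw [hu, ← Finset.filter_and, Finset.card_univ, ← Nat.card_eq_fintype_card] at h
    exact h.symm
  have hlt : ∀ r : ℕ, r.Prime → r ∣ Nat.card G →
      (Finset.univ.filter (fun g : G => ¬ r ∣ orderOf g)).card < Nat.card G := by
    intro r hr hrG
    haveI := Fact.mk hr
    obtain ⟨x, hx⟩ := exists_prime_orderOf_dvd_card' r hrG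
    rw [Nat.card_eq_fintype_card]
    exact Finset.card_lt_card ⟨Finset.subset_univ _, fun hs => by
      have := (Finset.mem_filter.1 (hs (Finset.mem_univ x))).2
      exact this (hx ▸ dvd_rfl)⟩
  have h1 : Rp < Nat.card G := hlt p Fact.out hp
  have h2 : Rq < Nat.card G := hlt q Fact.out hq
  obtain ⟨a, ha⟩ := Nat.exists_eq_add_of_lt h1
  obtain ⟨b, hb⟩ := Nat.exists_eq_add_of_lt h2
  nlinarith

end Cfsg.Agent.S4498
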