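import Cfsg.Statements.S4504
import Cfsg.Agent.HalfDegree.Main

set_option linter.style.haveILetI false

set_option autoImplicit false
open Cfsg

namespace Cfsg.Agent.S4504

/-- Let G be a finite group whose order is divisible by the prime p exactly once and which has no normal subgroup of order p. If G has a faithful character of degree exactly (p − 1)/2, then G modulo its centre is isomorphic to PSL(2, p). -/
theorem result {G : Type*} [Group G] [Finite G] (p : ℕ) (hp : p.Prime) (hdiv : p ∣ Nat.card G) (hsq : ¬ p ^ 2 ∣ Nat.card G) (hnn : ∀ H : Subgroup G, H.Normal → Nat.card H ≠ p) (χ : G → ℂ) (hχ : Cfsg.IsCharacter G χ) (hfaith : ∀ g : G, χ g = χ 1 → g = 1) (hdeg : 2 * Cfsg.charDegree χ + 1 = p) : Nonempty ((G ⧸ Subgroup.center G) ≃* Matrix.ProjectiveSpecialLinearGroup (Fin 2) (ZMod p)) := by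
  classical
  haveI := Fact.mk hp
  obtain ⟨n, σ, rfl⟩ := hχ
  have hn : σ.character 1 = (n : ℂ) := by rw [Representation.char_one, Module.finrank_fin_fun]
  have hd : Cfsg.charDegree σ.character = n := by
    rw [Cfsg.charDegree, hn, Complex.natCast_re, Nat.floor_natCast]
  rw [hd] at hdeg
  obtain ⟨x, hx⟩ := exists_prime_orderOf_dvd_card' p hdiv
  have hinj : Function.Injective σ := by
    refine (injective_iff_map_eq_one _).2 fun g hg => hfaith g ?_
    rw [Representation.character, Representation.character, hg, map_one σ]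
  refine CfsgLib.HalfDegree.psl (x := x) (σ := σ) ⟨hsq, hx, hnn, hinj, hdeg, ?_⟩
  by_contra hlt
  have hn1 : n ≤ 1 := by omega
  -- degree at most one: the group is abelian
  have hcomm : ∀ a b : G, a * b = b * a := fun a b => hinj (by
    rw [map_mul, map_mul]
    apply LinearMap.toMatrix'.injective
    rw [Module.End.mul_eq_comp, Module.End.mul_eq_comp, LinearMap.toMatrix'_comp,
      LinearMap.toMatrix'_comp]
    ext i j
    haveI : Subsingleton (Fin n) := Fin.subsingleton_iff_le_one.2 hn1
    rw [Matrix.mul_apply, Matrix.mul_apply]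
    refine Finset.sum_congr rfl fun l _ => ?_
    rw [Subsingleton.elim l i, Subsingleton.elim j i, mul_comm])
  refine hnn (Subgroup.zpowers x) ⟨fun y hy g => ?_⟩ (by rw [Nat.card_zpowers, hx])
  rwa [hcomm g y, mul_inv_cancel_right]

end Cfsg.Agent.S4504
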