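import Cfsg.Statements.S4505
import Cfsg.Agent.Blocks.BlockCount

set_option autoImplicit false
open Cfsg

namespace Cfsg.Agent.S4505

/-- Let G be a finite group, p a prime and M a maximal ideal of the algebraic integers containing p. For every σ, the number of p-blocks of defect exactly σ is at most the number of conjugacy classes of p-regular elements whose centralizer has order divisible by p^σ but not by p^(σ+1). -/
theorem result {G : Type*} [Group G] [Finite G] (p : ℕ) [Fact p.Prime] (M : Ideal Cfsg.AlgInt) (hM : Cfsg.IsPModular p M) (σ : ℕ) : Nat.card {B : Set (Cfsg.IrrCharacter G) // Cfsg.IsPBlock M B ∧ Cfsg.blockDefect p B = σ} ≤ Nat.card {C : ConjClasses G // ∃ g : G, ConjClasses.mk g = C ∧ ¬ p ∣ orderOf g ∧ (Nat.card (Subgroup.centralizer ({g} : Set G))).factorization p = σ} := by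
  classical
  haveI := Fintype.ofFinite G
  haveI := hM.2.1.isPrime
  refine CfsgLib.Block.card_blocks_le _ (fun B hB => hB.1) _ ?_
  intro B hB B' hB' ψ hψ C hC
  refine CfsgLib.Block.term_cong_zero hM hB.1 hB'.1 hψ ?_
  by_contra hcon
  simp only [not_or, not_lt] at hcon
  obtain ⟨h1, h2, h3⟩ := hcon
  have hb := hB.2
  have hb' := hB'.2
  refine hC ⟨C.out, Quotient.out_eq C, h1, ?_⟩
  show CfsgLib.Block.classDefect p C.out = _
  omega

end Cfsg.Agent.S4505
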