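import Cfsg.Statements.S4507
import Cfsg.Agent.BlocksB.PConjugate

set_option autoImplicit false
open Cfsg

namespace Cfsg.Agent.S4507

/-- Let G be a finite group whose order g is divisible by the prime p exactly once, g′ = g/p, and fix a maximal ideal M of the algebraic integers containing p. Call two irreducible characters p-conjugate when a field automorphism of ℂ fixing the g′-th roots of unity carries one to the other. Let B be a p-block of positive defect (its defect group is a Sylow p-subgroup). Then B contains a subset Y (the exceptional family) such that: Y is a full p-conjugacy class (its members are pairwise p-conjugate and every p-conjugate of a member of Y lies in Y); every member of B outside Y is p-conjugate only to itself; the size t of Y divides p − 1 and B has exactly t + (p − 1)/t members; and there are signs δ_χ = ±1 (χ ∈ B) such that for every p-regular element x and every θ ∈ Y, Σ_{χ ∈ B ∖ Y} δ_χ χ(x) + δ_θ θ(x) = 0. -/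
theorem result {G : Type*} [Group G] [Finite G] (p : ℕ) [Fact p.Prime] (M : Ideal Cfsg.AlgInt) (hM : Cfsg.IsPModular p M) (hdiv : p ∣ Nat.card G) (hsq : ¬ p ^ 2 ∣ Nat.card G) (B : Set (Cfsg.IrrCharacter G)) (hB : Cfsg.IsPBlock M B) (hd : 0 < Cfsg.blockDefect p B) : ∃ Y : Set (Cfsg.IrrCharacter G), Y ⊆ B ∧ Y.Nonempty ∧ (∀ θ ∈ Y, ∀ ψ : Cfsg.IrrCharacter G, (∃ σ : ℂ ≃+* ℂ, σ (Complex.exp (2 * Real.pi * Complex.I / ((Nat.card G / p ^ (Nat.card G).factorization p) : ℕ))) = Complex.exp (2 * Real.pi * Complex.I / ((Nat.card G / p ^ (Nat.card G).factorization p) : ℕ)) ∧ (ψ : G → ℂ) = fun g => σ ((θ : G → ℂ) g)) ↔ ψ ∈ Y) ∧ (∀ χ ∈ B, χ ∉ Y → ∀ ψ : Cfsg.IrrCharacter G, (∃ σ : ℂ ≃+* ℂ, σ (Complex.exp (2 * Real.pi * Complex.I / ((Nat.card G / p ^ (Nat.card G).factorization p) : ℕ))) = Complex.exp (2 * Real.pi * Complex.I / ((Nat.card G / p ^ (Nat.card G).factorization p) : ℕ)) ∧ (ψ : G → ℂ) = fun g => σ ((χ : G → ℂ) g)) → ψ = χ) ∧ Nat.card Y ∣ p - 1 ∧ Nat.card B =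 Nat.card Y + (p - 1) / Nat.card Y ∧ ∃ δ : Cfsg.IrrCharacter G → ℤ, (∀ χ ∈ B, δ χ = 1 ∨ δ χ = -1) ∧ ∀ x : G, ¬ p ∣ orderOf x → ∀ θ ∈ Y, (∑ᶠ χ ∈ B \ Y, (δ χ : ℂ) * (χ : G → ℂ) x) + (δ θ : ℂ) * (θ : G → ℂ) x = 0 := by
  classical
  haveI := hM.2.1.isPrime
  haveI := CfsgLib.Block.charP_residue hM
  haveI := Fintype.ofFinite G
  have hp : p.Prime := Fact.out
  have hN : (Nat.card G).factorization p = 1 := by
    have h1 := (hp.dvd_iff_one_le_factorization Nat.card_pos.ne').1 hdiv
    have h2 : ¬ 2 ≤ (Nat.card G).factorization p := fun h =>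
      hsq ((hp.pow_dvd_iff_le_factorization Nat.card_pos.ne').2 h)
    omega
  rw [hN, pow_one]
  set g' := Nat.card G / p with hg'
  have hG : g' * p = Nat.card G := Nat.div_mul_cancel hdiv
  have hg0 : g' ≠ 0 := fun h => by rw [h, zero_mul] at hG; exact Nat.card_pos.ne hG
  have hcop : g'.Coprime p := Nat.Coprime.symm ((hp.coprime_iff_not_dvd).2 fun h =>
    hsq (by rw [pow_two, ← hG]; exact mul_dvd_mul_right h p))
  obtain ⟨P, c, t, n, hP, S⟩ := CfsgLib.PConj.exists_setup hM hB hd hN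
  haveI := Fintype.ofFinite P
  obtain ⟨r, hr1, hr2, hgen⟩ := CfsgLib.PConj.exists_gen hcop
  rw [hG] at hr2
  have hreg : ∀ g : G, ¬ p ∣ orderOf g → g ^ r = g := fun g hg => by
    conv_rhs => rw [← pow_one g]
    refine pow_eq_pow_iff_modEq.2 (hr1.of_dvd ?_)
    refine (Nat.Coprime.symm ((hp.coprime_iff_not_dvd).2 hg)).dvd_of_dvd_mul_right ?_
    rw [hG]
    exact orderOf_dvd_natCard g
  obtain ⟨Y, δ, hYB, hY, hBY, hstab, hfix, htrans, hδ, hrel⟩ :=
    CfsgLib.PConj.exists_family S hP hN hr2 hreg hgen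
  have hiter : ∀ (j : ℕ) (χ : IrrCharacter G) (g : G),
      ((CfsgLib.PConj.powIrr hr2)^[j] χ : G → ℂ) g = (χ : G → ℂ) (g ^ r ^ j) := by
    intro j
    induction j with
    | zero => intro χ g; simp
    | succ j ih =>
      intro χ g
      rw [Function.iterate_succ_apply', CfsgLib.PConj.powIrr_apply, ih, ← pow_mul, pow_succ',
        mul_comm]
  -- a conjugate is an iterate of the power map
  have hconj : ∀ (χ ψ : IrrCharacter G), (∃ σ : ℂ ≃+* ℂ,
      σ (Complex.exp (2 * Real.pi * Complex.I / (g' : ℕ))) =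
        Complex.exp (2 * Real.pi * Complex.I / (g' : ℕ)) ∧
      (ψ : G → ℂ) = fun g => σ ((χ : G → ℂ) g)) ↔
      ∃ j, ψ = (CfsgLib.PConj.powIrr hr2)^[j] χ := by
    intro χ ψ
    constructor
    · rintro ⟨σ, hσ, hψ⟩
      obtain ⟨k, hk1, hk2, hk3⟩ := CfsgLib.PConj.exists_exponent (p := p) hg0 σ hσ
      obtain ⟨j, hj⟩ := hgen k (Nat.Coprime.coprime_dvd_right (dvd_mul_left p g') hk2)
      refine ⟨j, Subtype.ext (funext fun g => ?_)⟩
      rw [hiter, hψ]
      show σ _ = _
      rw [CfsgLib.Char.IsCharacter.map_ringEquiv_eq_pow (CfsgLib.Char.IsIrrCharacter.isCharacter χ.2) σ (t := k) (g := g)]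
      · refine congrArg (χ : G → ℂ) ((pow_eq_pow_iff_modEq (x := g)).2 (Nat.ModEq.of_dvd ?_ (CfsgLib.PConj.modEq_of_both hcop
          (hk1.trans ((hr1.pow j).trans (by rw [one_pow])).symm) hj.symm)))
        rw [hG]
        exact orderOf_dvd_natCard g
      · intro z hz
        refine hk3 z ?_
        rw [hG]
        exact orderOf_dvd_iff_pow_eq_one.1 ((orderOf_dvd_of_pow_eq_one hz).trans
          (orderOf_dvd_natCard g))
    · rintro ⟨j, rfl⟩
      obtain ⟨σ, hσ⟩ := CfsgLib.Char.exists_ringEquiv_pow (n := Nat.card G) (t := r ^ j)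
        Nat.card_pos (hr2.pow_left j)
      refine ⟨σ, ?_, funext fun g => ?_⟩
      · have hζ := Complex.isPrimitiveRoot_exp g' hg0
        rw [hσ _ (by rw [← hG, pow_mul, hζ.pow_eq_one, one_pow])]
        refine ((pow_eq_pow_mod (r ^ j) hζ.pow_eq_one).trans ?_)
        rw [show r ^ j % g' = 1 % g' from (hr1.pow j).trans (by rw [one_pow])]
        rw [← pow_eq_pow_mod 1 hζ.pow_eq_one, pow_one]
      · rw [hiter, CfsgLib.Char.IsCharacter.map_ringEquiv_eq_pow (CfsgLib.Char.IsIrrCharacter.isCharacter χ.2) σ (t := r ^ j)]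
        intro z hz
        refine hσ z ?_
        exact orderOf_dvd_iff_pow_eq_one.1 ((orderOf_dvd_of_pow_eq_one hz).trans
          (orderOf_dvd_natCard g))
  haveI := CfsgLib.Char.finite_irrCharacter G
  have hne : Y.Nonempty := by
    rw [← Set.nonempty_coe_sort, ← not_isEmpty_iff]
    intro h
    rw [Nat.card_of_isEmpty, mul_zero] at hY
    have := hp.two_le
    omega
  have hYpos : 0 < Nat.card Y := by
    haveI := hne.to_subtype
    exact Nat.card_pos
  refine ⟨Y, hYB, hne, fun θ hθ ψ => ?_, fun χ hχ hn ψ h => ?_, Dvd.intro_left n hY, ?_, δ, hδ, hrel⟩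
  · rw [hconj]
    constructor
    · rintro ⟨j, rfl⟩
      induction j with
      | zero => exact hθ
      | succ j ih => rw [Function.iterate_succ_apply']; exact hstab _ ih
    · intro hψ
      obtain ⟨j, hj⟩ := htrans θ hθ ψ hψ
      exact ⟨j, hj.symm⟩
  · obtain ⟨j, rfl⟩ := (hconj χ ψ).1 h
    exact Function.iterate_fixed (hfix χ hχ hn) j
  · rw [hBY, ← hY, Nat.mul_div_cancel _ hYpos]

end Cfsg.Agent.S4507
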