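import Cfsg.Statements.S4508
import Cfsg.Agent.BlocksB.SelfCentralizingDegree

set_option autoImplicit false
set_option linter.style.haveILetI false
open Cfsg

namespace Cfsg.Agent.S4508

/-- Let the finite group G contain an element x of prime order p with C_G(x) = ⟨x⟩, and let t be the number of conjugacy classes of elements of order p. If G has an irreducible character of degree p − 1, then t is even or the commutator subgroup has even index. -/
theorem result {G : Type*} [Group G] [Finite G] (p : ℕ) (hp : p.Prime) (x : G) (hx : orderOf x = p) (hC : Subgroup.centralizer ({x} : Set G) = Subgroup.zpowers x) (t : ℕ) (ht : Nat.card {C : ConjClasses G // ∃ g ∈ C.carrier, orderOf g = p} = t) (χ : Cfsg.IrrCharacter G) (hχ : Cfsg.charDegree (χ : G → ℂ) + 1 = p) : Even t ∨ Even (commutator G).index := by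
  classical
  haveI : Fact p.Prime := ⟨hp⟩
  haveI := Fintype.ofFinite G
  have h := CfsgLib.SelfCentPrime.classes_mul_relIndex hx hC ht
  by_cases hte : Even t
  · exact Or.inl hte
  refine Or.inr ?_
  have hto : Odd t := Nat.not_even_iff_odd.1 hte
  set q := (Subgroup.zpowers x).relIndex (Subgroup.normalizer (Subgroup.zpowers x : Set G)) with hq
  have hp2 := hp.two_le
  rcases hp.eq_two_or_odd' with h2 | hodd
  · have htq : t * q = 1 := by omega
    rw [mul_eq_one] at htq
    have := (CfsgLib.SelfCentPrime.complement_eq_commutator hx hC htq.2).2
    rw [this, h2]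
    exact even_two
  · have hqe : Even q := by
      rcases Nat.even_mul.1 (show Even (t * q) by rw [h]; exact Nat.Odd.sub_odd hodd odd_one) with h' | h'
      · exact absurd h' hte
      · exact h'
    obtain ⟨D, g, hg⟩ :=
      CfsgLib.SelfCentPrime.exists_hom_eq_neg_one hx hC hqe hto h χ hχ
    have hle : commutator G ≤ D.ker := Abelianization.commutator_subset_ker D
    have h1 : D g ^ (commutator G).index = 1 := by
      rw [← map_pow]
      exact hle (Subgroup.pow_index_mem (commutator G) g)
    have h1' := congrArg Units.val h1
    rw [Units.val_pow_eq_pow_val, hg, Units.val_one] at h1'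
    by_contra hne
    rw [(Nat.not_even_iff_odd.1 hne).neg_one_pow] at h1'
    norm_num at h1' 

end Cfsg.Agent.S4508
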