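import Cfsg.Statements.S4509
import Cfsg.Agent.BlocksB.SelfCentralizingDerived

set_option autoImplicit false
open Cfsg

namespace Cfsg.Agent.S4509

/-- Let the finite group G contain an element x of prime order p with C_G(x) = ⟨x⟩; let t be the number of conjugacy classes of elements of order p and 1 + n·p the number of subgroups of order p. Then G has a normal subgroup of order 1 + n·p if and only if either t = p − 1, or t < p − 1 and G″ ≠ G′. Moreover, if t = p − 1 then G′ has order 1 + n·p and G/G′ is cyclic of order p; and if t < p − 1 and G″ ≠ G′ then G″ has order 1 + n·p and G′ has order p·(1 + n·p). -/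
theorem result {G : Type*} [Group G] [Finite G] (p : ℕ) (hp : p.Prime) (x : G) (hx : orderOf x = p) (hC : Subgroup.centralizer ({x} : Set G) = Subgroup.zpowers x) (t : ℕ) (ht : Nat.card {C : ConjClasses G // ∃ g ∈ C.carrier, orderOf g = p} = t) (n : ℕ) (hn : Nat.card {H : Subgroup G // Nat.card H = p} = 1 + n * p) : ((∃ S : Subgroup G, S.Normal ∧ Nat.card S = 1 + n * p) ↔ (t = p - 1 ∨ (t < p - 1 ∧ derivedSeries G 2 ≠ derivedSeries G 1))) ∧ (t = p - 1 → Nat.card (commutator G) = 1 + n * p ∧ IsCyclic (G ⧸ commutator G) ∧ (commutator G).index = p) ∧ (t < p - 1 → derivedSeries G 2 ≠ derivedSeries G 1 → Nat.card (derivedSeries G 2) = 1 + n * p ∧ Nat.card (commutator G) = p * (1 + n * p)) := by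
  haveI : Fact p.Prime := ⟨hp⟩
  have h := CfsgLib.SelfCentPrime.classes_mul_relIndex hx hC ht
  set q := (Subgroup.zpowers x).relIndex (Subgroup.normalizer (Subgroup.zpowers x : Set G)) with hq
  have hp2 := hp.two_le
  have hq0 : 0 < q := Nat.pos_of_ne_zero fun h0 => by rw [h0, mul_zero] at h; omega
  have hq1 : t = p - 1 → q = 1 := fun he =>
    Nat.eq_of_mul_eq_mul_left (n := t) (by omega) (by rw [mul_one, h, he])
  have hqne : t < p - 1 → q ≠ 1 := fun hlt h1 => by rw [h1, mul_one] at h; omega
  have hA : t = p - 1 → Nat.card (commutator G) = 1 + n * p ∧ IsCyclic (G ⧸ commutator G) ∧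
      (commutator G).index = p := by
    intro he
    obtain ⟨-, hidx⟩ := CfsgLib.SelfCentPrime.complement_eq_commutator hx hC (hq1 he)
    refine ⟨?_, isCyclic_of_prime_card (p := p) (by rw [← Subgroup.index_eq_card]; exact hidx), hidx⟩
    have h1 := (Subgroup.normalizer (Subgroup.zpowers x : Set G)).card_mul_index
    rw [CfsgLib.SelfCentPrime.card_normalizer hx hC, ← hq, hq1 he, mul_one,
      ← CfsgLib.SelfCentPrime.card_subgroups_eq hx hC, hn, ← (commutator G).card_mul_index, hidx,
      mul_comm (Nat.card _)] at h1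
    exact (Nat.eq_of_mul_eq_mul_left hp.pos h1).symm
  have hB : t < p - 1 → derivedSeries G 2 ≠ derivedSeries G 1 →
      Nat.card (derivedSeries G 2) = 1 + n * p ∧ Nat.card (commutator G) = p * (1 + n * p) :=
    fun hlt hd => by
      have := CfsgLib.SelfCentPrime.card_derived_of_ne_one hx hC (hqne hlt) hd
      rwa [hn] at this
  refine ⟨⟨?_, ?_⟩, hA, hB⟩
  · rintro ⟨S, hS, hcard⟩
    have hle : t ≤ p - 1 := h ▸ Nat.le_mul_of_pos_right t hq0
    rcases lt_or_eq_of_le hle with hlt | he
    · refine Or.inr ⟨hlt, ?_⟩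
      have hSp : ¬ p ∣ Nat.card S := fun hd => by
        rw [hcard, Nat.dvd_add_left (dvd_mul_left p n)] at hd
        exact hp.not_dvd_one hd
      haveI := hS
      exact CfsgLib.SelfCentPrime.derived_ne_of_normal hx hC S hSp (hcard.trans hn.symm) (hqne hlt)
    · exact Or.inl he
  · rintro (he | ⟨hlt, hd⟩)
    · exact ⟨_, inferInstance, (hA he).1⟩
    · exact ⟨_, derivedSeries_normal G 2, (hB hlt hd).1⟩

end Cfsg.Agent.S4509
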