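import Cfsg.Statements.S4517
import Cfsg.Agent.Blocks.BlockCount
import Cfsg.Agent.Blocks.Principal
import Cfsg.Agent.Blocks.BrauerFeit
import Cfsg.Agent.FGSB.RealOdd

set_option autoImplicit false
open Cfsg

namespace Cfsg.Agent.S4517

/-- Let G be a finite group, M a maximal ideal of the algebraic integers containing 2, and k a natural number coprime to the order of G with g ^ k = g⁻¹ for every element g of odd order (so that g ↦ g ^ k induces a field automorphism of the character values inverting the roots of unity of odd order). If B is a 2-block of full defect (its defect equals the exponent of 2 in the order of G) that is stable under χ ↦ χ ∘ (· ^ k), then B is the principal 2-block. -/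
theorem result {G : Type*} [Group G] [Finite G] (M : Ideal Cfsg.AlgInt) (hM : Cfsg.IsPModular 2 M) (k : ℕ) (hk : Nat.Coprime k (Nat.card G)) (hk₂ : ∀ g : G, Odd (orderOf g) → g ^ k = g⁻¹) (B : Set (Cfsg.IrrCharacter G)) (hB : Cfsg.IsPBlock M B) (hdef : Cfsg.blockDefect 2 B = (Nat.card G).factorization 2) (hstab : ∀ χ ∈ B, ∃ ψ ∈ B, ∀ g : G, (ψ : G → ℂ) g = (χ : G → ℂ) (g ^ k)) : B = Cfsg.principalBlock M G := by
  classical
  haveI := Fintype.ofFinite G
  haveI := hM.2.1.isPrime
  haveI : Fact (Nat.Prime 2) := ⟨Nat.prime_two⟩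
  letI := CfsgLib.Block.Chr.irrFintype (G := G)
  haveI := CfsgLib.Block.charP_residue hM
  by_contra hnp
  set B₁ := Cfsg.principalBlock M G
  have hB₁ : Cfsg.IsPBlock M B₁ := CfsgLib.Block.isPBlock_principalBlock
  have h1mem : CfsgLib.Block.oneIrr G ∈ B₁ := CfsgLib.Block.oneIrr_mem_principalBlock
  set a := (Nat.card G).factorization 2
  have hd₁ : Cfsg.blockDefect 2 B₁ = a := by
    have h := CfsgLib.Block.degree_ge hM hB₁ h1mem
    rw [show Cfsg.charDegree ((CfsgLib.Block.oneIrr G : Cfsg.IrrCharacter G) : G → ℂ) = 1 by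
      simp [Cfsg.charDegree, CfsgLib.Block.oneIrr_coe]] at h
    simp only [Nat.factorization_one, Finsupp.coe_zero, Pi.zero_apply] at h
    have := CfsgLib.Block.blockDefect_le (p := 2) B₁
    omega
  have hd : Cfsg.blockDefect 2 B = a := hdef
  obtain ⟨χ, hχ⟩ := CfsgLib.Block.exists_mem_block hB
  choose f hfB hf using hstab
  have hfreg : ∀ φ (hφ : φ ∈ B) (g : G), ¬ 2 ∣ orderOf g →
      ((f φ hφ : Cfsg.IrrCharacter G) : G → ℂ) g = (φ : G → ℂ) g⁻¹ := fun φ hφ g hg => by
    rw [hf φ hφ, hk₂ g (Nat.not_even_iff_odd.1 fun h => hg (even_iff_two_dvd.1 h))]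
  have hf1 : ∀ φ (hφ : φ ∈ B), ((f φ hφ : Cfsg.IrrCharacter G) : G → ℂ) 1 = (φ : G → ℂ) 1 :=
    fun φ hφ => by rw [hf φ hφ, one_pow]
  have hpsurj : ∀ h : G, ∃ g : G, g ^ k = h := fun h =>
    ⟨(powCoprime (G := G) hk.symm).symm h, (powCoprime (G := G) hk.symm).apply_symm_apply h⟩
  let F : {φ // φ ∈ B} → {φ // φ ∈ B} := fun φ => ⟨f φ.1 φ.2, hfB φ.1 φ.2⟩
  have hFinj : Function.Injective F := by
    intro φ ψ h
    refine Subtype.ext (Subtype.ext (funext fun h' => ?_))
    obtain ⟨g, rfl⟩ := hpsurj h'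
    rw [← hf φ.1 φ.2, ← hf ψ.1 ψ.2, show f φ.1 φ.2 = f ψ.1 ψ.2 from congrArg Subtype.val h]
  haveI : Fintype {φ // φ ∈ B} := Fintype.ofFinite _
  have hesymm : ∀ g : G, Cfsg.blockCoeff B g⁻¹ = Cfsg.blockCoeff B g := by
    intro g
    by_cases hg : 2 ∣ orderOf g
    · rw [CfsgLib.Block.blockCoeff_eq_zero_of_singular hM hB (by rwa [orderOf_inv]),
        CfsgLib.Block.blockCoeff_eq_zero_of_singular hM hB hg]
    rw [CfsgLib.Block.blockCoeff_eq_sum, CfsgLib.Block.blockCoeff_eq_sum]
    congr 1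
    rw [Finset.sum_subtype _ (p := (· ∈ B)) (by simp), Finset.sum_subtype _ (p := (· ∈ B)) (by simp)]
    conv_rhs => rw [← Equiv.sum_comp (Equiv.ofBijective F (Finite.injective_iff_bijective.1 hFinj))]
    refine Finset.sum_congr rfl fun φ _ => ?_
    show _ = ((f φ.1 φ.2 : Cfsg.IrrCharacter G) : G → ℂ) 1 * _
    rw [hf1, Equiv.ofBijective_apply, show (F φ).1 = f φ.1 φ.2 from rfl, hfreg _ _ g hg]
  set L : G → ℂ := fun g => Cfsg.centralChar (χ : G → ℂ) g
  set L₁ : G → ℂ := fun g =>
    Cfsg.centralChar ((CfsgLib.Block.oneIrr G : Cfsg.IrrCharacter G) : G → ℂ) g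
  have hconjinv : ∀ {g h : G}, IsConj g h → IsConj g⁻¹ h⁻¹ := by
    intro g h hgh
    obtain ⟨c, rfl⟩ := isConj_iff.1 hgh
    exact isConj_iff.2 ⟨c, by group⟩
  have hcenInv : ∀ g : G, Subgroup.centralizer ({g⁻¹} : Set G) = Subgroup.centralizer ({g} : Set G) := by
    intro g
    ext c
    simp only [Subgroup.mem_centralizer_singleton_iff]
    exact ⟨fun h => by simpa using (Commute.inv_right (show Commute c g⁻¹ from h)).eq,
      fun h => (Commute.inv_right (show Commute c g from h)).eq⟩
  have hLsymm : ∀ g : G, ¬ 2 ∣ orderOf g → Cfsg.MemLocalIdeal M (L g⁻¹ - L g) := by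
    intro g hg
    have h := CfsgLib.Block.sameBlock_of_mem hB (hfB χ hχ) hχ g
    have e : Cfsg.centralChar ((f χ hχ : Cfsg.IrrCharacter G) : G → ℂ) g = L g⁻¹ := by
      simp only [L, Cfsg.centralChar, hcenInv]
      rw [hfreg χ hχ g hg, hf1]
    rwa [e] at h
  set T : ConjClasses G → ℂ := fun C => Cfsg.blockCoeff B C.out * (L₁ C.out - L C.out)
  have hT : ∀ C, Cfsg.MemLocalRing M (T C) := fun C => CfsgLib.Block.memLocalRing_mul
    (CfsgLib.Block.blockCoeff_mem hB _) (CfsgLib.Block.memLocalRing_sub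
      (CfsgLib.Block.centralChar_mem _ _) (CfsgLib.Block.centralChar_mem _ _))
  have hcls : ∀ (φ : Cfsg.IrrCharacter G) {g h : G}, IsConj g h →
      Cfsg.centralChar (φ : G → ℂ) g = Cfsg.centralChar (φ : G → ℂ) h := by
    intro φ g h hgh
    rw [← CfsgLib.Block.omega_classInd, ← CfsgLib.Block.omega_classInd]
    congr 1
    funext u
    by_cases hu : IsConj g u
    · rw [CfsgLib.Block.classInd_of_isConj hu, CfsgLib.Block.classInd_of_isConj (hgh.symm.trans hu)]
    · rw [CfsgLib.Block.classInd_of_not_isConj hu,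
        CfsgLib.Block.classInd_of_not_isConj fun h' => hu (hgh.trans h')]
  let ι : ConjClasses G → ConjClasses G := fun C => ConjClasses.mk (C.out)⁻¹
  have hout : ∀ g : G, IsConj (ConjClasses.mk g).out g := fun g =>
    ConjClasses.mk_eq_mk_iff_isConj.1 (Quotient.out_eq (ConjClasses.mk g))
  have hιι : ∀ C, ι (ι C) = C := by
    intro C
    conv_rhs => rw [← Quotient.out_eq C]
    exact ConjClasses.mk_eq_mk_iff_isConj.2 (by simpa using hconjinv (hout (C.out)⁻¹))
  have hTι : ∀ C, Cfsg.MemLocalIdeal M (T (ι C) - T C) := by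
    intro C
    have hc : IsConj (ι C).out (C.out)⁻¹ := hout _
    have he : Cfsg.blockCoeff B (ι C).out = Cfsg.blockCoeff B C.out := by
      rw [CfsgLib.Char.IsClassFunction.apply_eq_of_isConj
        (CfsgLib.Block.isClassFunction_blockCoeff B) hc, hesymm]
    have h1 : L₁ (C.out)⁻¹ = L₁ C.out := by
      simp only [L₁, Cfsg.centralChar, hcenInv, CfsgLib.Block.oneIrr_coe]
    have : T (ι C) - T C = - (Cfsg.blockCoeff B C.out * (L (C.out)⁻¹ - L C.out)) := by
      simp only [T, he]
      rw [show L (ι C).out = L (C.out)⁻¹ from hcls χ hc,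
        show L₁ (ι C).out = L₁ (C.out)⁻¹ from hcls _ hc, h1]
      ring
    rw [this]
    by_cases hC : 2 ∣ orderOf C.out
    · rw [CfsgLib.Block.blockCoeff_eq_zero_of_singular hM hB hC, zero_mul, neg_zero]
      exact CfsgLib.Block.memLocalIdeal_zero
    exact CfsgLib.Block.memLocalIdeal_neg (CfsgLib.Block.memLocalIdeal_mul_left
      (CfsgLib.Block.blockCoeff_mem hB _) (hLsymm _ hC))
  let r : ConjClasses G → CfsgLib.Block.Residue M :=
    fun C => CfsgLib.Block.res M ⟨T C, hT C⟩
  have hfix : ∀ C, ι C = C → r C = 0 := by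
    intro C hC
    refine CfsgLib.Block.res_eq_zero_iff.2 ?_
    show Cfsg.MemLocalIdeal M (T C)
    set g := C.out
    by_cases hne : 2 ∣ orderOf g ∨ CfsgLib.Block.classDefect 2 g < a
    · have h2 : 2 ∣ orderOf g ∨ Cfsg.blockDefect 2 B < CfsgLib.Block.classDefect 2 g ∨
          CfsgLib.Block.classDefect 2 g < a := hne.imp_right Or.inr
      have t1 := CfsgLib.Block.term_cong_zero hM hB hB₁ h1mem (h := g) (by rw [hd₁]; exact h2)
      have t2 := CfsgLib.Block.term_cong_zero hM hB hB hχ (h := g)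
        (h2.imp_right (Or.imp_right fun h => by rw [hd]; exact h))
      simpa [T, mul_sub] using CfsgLib.Block.memLocalIdeal_sub t1 t2
    push Not at hne
    have hreal : IsConj g g⁻¹ := by
      refine ConjClasses.mk_eq_mk_iff_isConj.1 ?_
      show ConjClasses.mk C.out = _
      rw [show ConjClasses.mk C.out = C from Quotient.out_eq C]
      exact hC.symm
    obtain ⟨S⟩ : Nonempty (Sylow 2 (Subgroup.centralizer ({g} : Set G))) := inferInstance
    have hS : Nat.card ((S : Subgroup (Subgroup.centralizer ({g} : Set G))).map (Subgroup.centralizer ({g} : Set G)).subtype) = 2 ^ a := by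
      rw [← Nat.card_congr ((S : Subgroup (Subgroup.centralizer ({g} : Set G))).equivMapOfInjective _
        (Subgroup.subtype_injective _)).toEquiv, S.card_eq_multiplicity]
      congr 1
      exact le_antisymm (CfsgLib.Block.centralizer_factorization_le g) hne.2
    have hg1 : g = 1 := by
      refine CfsgLib.RealOdd.eq_one_of_centralizes (Sylow.ofCard _ hS) ?_
        (Nat.not_even_iff_odd.1 fun h => hne.1 (even_iff_two_dvd.1 h)) hreal
      rw [Sylow.coe_ofCard]
      exact CfsgLib.Block.le_centralizer_singleton.1 (Subgroup.map_subtype_le _)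
    have hz : T C = 0 := by
      simp only [T, show C.out = 1 from hg1, L, L₁, Cfsg.centralChar]
      rw [mul_div_assoc, mul_div_assoc, div_self (CfsgLib.Block.Chr.irr_one_ne_zero χ),
        div_self (CfsgLib.Block.Chr.irr_one_ne_zero _)]
      ring
    rw [hz]
    exact CfsgLib.Block.memLocalIdeal_zero
  have hsum : ∑ C : ConjClasses G, r C = 0 := by
    refine Finset.sum_involution (fun C _ => ι C) (fun C _ => ?_) (fun C _ hC h => hC (hfix C h))
      (fun C _ => Finset.mem_univ _) (fun C _ => hιι C)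
    have : r (ι C) = r C := CfsgLib.Block.res_eq_iff.2 (hTι C)
    rw [this]
    exact CharTwo.add_self_eq_zero _
  have hI : Cfsg.MemLocalIdeal M (∑ C : ConjClasses G, T C) := by
    rw [← map_sum] at hsum
    have h := CfsgLib.Block.res_eq_zero_iff.1 hsum
    rwa [show ((∑ C, (⟨T C, hT C⟩ : CfsgLib.Block.localRing M) : CfsgLib.Block.localRing M) : ℂ) =
      ∑ C, T C from map_sum (CfsgLib.Block.localRing M).subtype _ _] at h
  have he := CfsgLib.Block.isClassFunction_blockCoeff (G := G) B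
  have htot : ∑ C : ConjClasses G, T C = -1 := by
    simp only [T, mul_sub, Finset.sum_sub_distrib]
    have e1 := CfsgLib.Block.omega_eq_sum_classes (CfsgLib.Block.oneIrr G) he
    have e2 := CfsgLib.Block.omega_eq_sum_classes χ he
    rw [CfsgLib.Block.omega_blockCoeff, if_neg fun h => hnp
      (CfsgLib.Block.block_eq_of_common hB hB₁ h h1mem)] at e1
    rw [CfsgLib.Block.omega_blockCoeff, if_pos hχ] at e2
    rw [← e1, ← e2]
    ring
  rw [htot] at hI
  exact CfsgLib.Block.not_memLocalIdeal_one (M := M) (neg_neg (1 : ℂ) ▸ CfsgLib.Block.memLocalIdeal_neg hI)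

end Cfsg.Agent.S4517
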