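import Cfsg.Statements.S4518
import Cfsg.Agent.Char.PowTwist
-- import your own Cfsg.Agent.* helpers here

set_option autoImplicit false
open Cfsg

namespace Cfsg.Agent.S4518

/-- Let N be a normal subgroup of the finite group G whose index is not divisible by the prime p, and let k be coprime to the order of G with k ^ (p ^ e) ≡ 1 modulo the order of G for some e (so g ↦ g ^ k induces a field automorphism of p-power order on character values). If an irreducible character χ of G satisfies χ (g ^ k) = χ g for all g, then every irreducible constituent θ of the restriction of χ to N satisfies θ (n ^ k) = θ n for all n. -/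
theorem result {G : Type*} [Group G] [Fintype G] (p : ℕ) [Fact p.Prime] (N : Subgroup G) [N.Normal] [Fintype N] (hidx : ¬ p ∣ N.index) (k e : ℕ) (hk : Nat.Coprime k (Nat.card G)) (hke : k ^ (p ^ e) ≡ 1 [MOD Nat.card G]) (χ : Cfsg.IrrCharacter G) (hχ : ∀ g : G, (χ : G → ℂ) (g ^ k) = (χ : G → ℂ) g) (θ : Cfsg.IrrCharacter N) (hθ : Cfsg.classInner (fun n : N => (χ : G → ℂ) n) (θ : N → ℂ) ≠ 0) : ∀ n : N, (θ : N → ℂ) (n ^ k) = (θ : N → ℂ) n := by
  classical
  have hkN : k.Coprime (Nat.card N) := hk.coprime_dvd_right N.card_subgroup_dvd_card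
  obtain ⟨π, hπ, hπa⟩ := CfsgLib.Char.PowTwist.exists_powPerm (G := ↥N) hkN
    (hke.of_dvd N.card_subgroup_dvd_card)
  let P : Cfsg.IrrCharacter N → Prop := fun η =>
    Cfsg.classInner (fun n : N => (χ : G → ℂ) n) (η : N → ℂ) ≠ 0
  have hP : ∀ η, P (π η) ↔ P η := by
    intro η
    have h := CfsgLib.Char.PowTwist.classInner_pow hkN (fun n : N => (χ : G → ℂ) n) (η : N → ℂ)
    rw [show (fun n : N => (fun m : N => (χ : G → ℂ) m) (n ^ k)) = fun n : N => (χ : G → ℂ) n from
      funext fun n => (congrArg (χ : G → ℂ) (Subgroup.coe_pow N n k)).trans (hχ n),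
      ← show ((π η : Cfsg.IrrCharacter N) : N → ℂ) = fun n => (η : N → ℂ) (n ^ k) from
        funext (hπa η)] at h
    simp only [P, h]
  haveI := CfsgLib.Char.finite_irrCharacter (↥N)
  haveI := Fintype.ofFinite {η // P η}
  obtain ⟨π', hπ'⟩ : ∃ π' : Equiv.Perm {η // P η}, π' = π.subtypePerm hP := ⟨_, rfl⟩
  have hπ'e : π' ^ (p ^ e) = 1 := by
    rw [hπ', Equiv.Perm.subtypePerm_pow]
    ext η
    simp [hπ]
  have hmem : ∀ f : N → ℂ, f ∈ CfsgLib.Char.conjOrbit (G := G) (θ : N → ℂ) ↔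
      ∃ η : {η // P η}, ((η : Cfsg.IrrCharacter N) : N → ℂ) = f := by
    intro f
    constructor
    · intro hf
      obtain ⟨g, rfl⟩ := CfsgLib.Char.mem_conjOrbit.1 hf
      refine ⟨⟨⟨_, CfsgLib.Char.isIrrCharacter_conjOn θ.2 g⟩, ?_⟩, rfl⟩
      show Cfsg.classInner _ _ ≠ 0
      rwa [CfsgLib.Char.classInner_restrict_conjOn
        (CfsgLib.Char.IsIrrCharacter.isClassFunction χ.2)]
    · rintro ⟨⟨η, hη⟩, rfl⟩
      exact CfsgLib.Char.mem_conjOrbit_of_constituent χ.2 θ.2 η.2 hθ hη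
  have hcard : Fintype.card {η // P η} = (CfsgLib.Char.inertia (G := G) (θ : N → ℂ)).index := by
    rw [← CfsgLib.Char.card_conjOrbit, ← Finset.card_univ]
    refine Finset.card_bij (fun η _ => ((η : Cfsg.IrrCharacter N) : N → ℂ))
      (fun η _ => (hmem _).2 ⟨η, rfl⟩) (fun η _ η' _ h => Subtype.ext (Subtype.ext h)) fun f hf => ?_
    obtain ⟨η, hη⟩ := (hmem f).1 hf
    exact ⟨η, Finset.mem_univ _, hη⟩
  have hsum := CfsgLib.Char.PowTwist.sum_eq_sum_fixed_perm π' e hπ'e (fun _ => (1 : ZMod p))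
    fun _ => rfl
  rw [Finset.sum_const, Finset.card_univ, hcard, nsmul_one] at hsum
  obtain ⟨⟨η, hη⟩, hfix, -⟩ := Finset.exists_ne_zero_of_sum_ne_zero (hsum ▸ fun h =>
    hidx (((ZMod.natCast_eq_zero_iff _ p).1 h).trans (Subgroup.index_dvd_of_le
      (CfsgLib.Char.le_inertia (CfsgLib.Char.IsIrrCharacter.isClassFunction θ.2)))))
  have hηfix : ∀ n : N, (η : N → ℂ) (n ^ k) = (η : N → ℂ) n := by
    intro n
    have h := (Finset.mem_filter.1 hfix).2
    rw [hπ'] at h
    rw [← hπa, show π η = η from congrArg Subtype.val h]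
  obtain ⟨g, hg⟩ := CfsgLib.Char.mem_conjOrbit.1
    (CfsgLib.Char.mem_conjOrbit_of_constituent χ.2 η.2 θ.2 hη hθ)
  intro n
  rw [hg, CfsgLib.Char.conjOn_apply, CfsgLib.Char.conjOn_apply, ← hηfix ⟨g * n * g⁻¹, _⟩]
  refine congrArg (η : N → ℂ) (Subtype.ext ?_)
  simp only [Subgroup.coe_pow, conj_pow]

end Cfsg.Agent.S4518
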