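import Cfsg.Statements.S4519
import Cfsg.Agent.Char.PowTwist
-- import your own Cfsg.Agent.* helpers here

set_option autoImplicit false
open Cfsg

namespace Cfsg.Agent.S4519

/-- Let N be a normal subgroup of odd index in the finite group G, and let k be coprime to the order of G with k ^ (2 ^ e) ≡ 1 modulo the order of G for some e and g ^ k = g⁻¹ for every element g of odd order (so g ↦ g ^ k induces a field automorphism of 2-power order inverting the roots of unity of odd order). If an irreducible character θ of N satisfies θ (n ^ k) = θ n for all n, then there is exactly one irreducible character χ of G with θ a constituent of its restriction to N and χ (g ^ k) = χ g for all g; moreover, if θ is invariant under conjugation by G, that χ restricts to θ. -/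
theorem result {G : Type*} [Group G] [Fintype G] (N : Subgroup G) [hN : N.Normal] [Fintype N] (hidx : Odd N.index) (k e : ℕ) (hk : Nat.Coprime k (Nat.card G)) (hke : k ^ (2 ^ e) ≡ 1 [MOD Nat.card G]) (hk₂ : ∀ g : G, Odd (orderOf g) → g ^ k = g⁻¹) (θ : Cfsg.IrrCharacter N) (hθ : ∀ n : N, (θ : N → ℂ) (n ^ k) = (θ : N → ℂ) n) : ∃ χ : Cfsg.IrrCharacter G, (Cfsg.classInner (fun n : N => (χ : G → ℂ) n) (θ : N → ℂ) ≠ 0 ∧ (∀ g : G, (χ : G → ℂ) (g ^ k) = (χ : G → ℂ) g) ∧ ((∀ g : G, ∀ n : N, (θ : N → ℂ) ⟨g * n * g⁻¹, hN.conj_mem n n.2 g⟩ = (θ : N → ℂ) n) → ∀ n : N, (χ : G → ℂ) n = (θ : N → ℂ) n)) ∧ ∀ χ' : Cfsg.IrrCharacter G, Cfsg.classInner (fun n : N => (χ' : G → ℂ) n) (θ : N → ℂ) ≠ 0 → (∀ g : G, (χ' : G → ℂ) (g ^ k) = (χ' : G → ℂ) g) → χ' = χ := by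
  classical
  have hkm : N.index ∣ k + 1 := by
    refine CfsgLib.Char.PowTwist.dvd_succ hidx (fun q hq hqm => ?_) (hke.of_dvd N.index_dvd_card)
    haveI := Fact.mk hq
    obtain ⟨g, hg⟩ := exists_prime_orderOf_dvd_card' (G := G) q (hqm.trans N.index_dvd_card)
    have hodd : Odd q := Odd.of_dvd_nat hidx hqm
    rw [← hg]
    refine orderOf_dvd_of_pow_eq_one ?_
    rw [pow_succ, hk₂ g (by rwa [hg]), inv_mul_cancel]
  have huniq : ∀ {χ χ' : Cfsg.IrrCharacter G},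
      Cfsg.classInner (fun n : N => (χ : G → ℂ) n) (θ : N → ℂ) ≠ 0 →
      (∀ g : G, (χ : G → ℂ) (g ^ k) = (χ : G → ℂ) g) →
      Cfsg.classInner (fun n : N => (χ' : G → ℂ) n) (θ : N → ℂ) ≠ 0 →
      (∀ g : G, (χ' : G → ℂ) (g ^ k) = (χ' : G → ℂ) g) → χ' = χ :=
    fun {χ χ'} h1 h2 h1' h2' => Subtype.ext
      (CfsgLib.Char.PowTwist.eq_of_fixed hk hidx hkm χ'.2 χ.2 h2' h2 θ.2 h1' h1)
  by_cases hinv : ∀ g : G, ∀ n : N,
      (θ : N → ℂ) ⟨g * n * g⁻¹, hN.conj_mem n n.2 g⟩ = (θ : N → ℂ) n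
  · obtain ⟨χ, hχ, hext, hfix⟩ := CfsgLib.Char.PowTwist.exists_fixed_extension hk hidx hkm θ.2 hθ
      fun g => funext (hinv g)
    have hne : Cfsg.classInner (fun n : N => χ n) (θ : N → ℂ) ≠ 0 := by
      rw [funext hext, CfsgLib.Char.IsIrrCharacter.classInner_self θ.2]
      exact one_ne_zero
    exact ⟨⟨χ, hχ⟩, ⟨hne, hfix, fun _ => hext⟩, fun χ' h1 h2 => huniq hne hfix h1 h2⟩
  · obtain ⟨χ, hχ, hne, hfix⟩ := CfsgLib.Char.PowTwist.exists_fixed hk hidx hke θ.2 hθ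
    exact ⟨⟨χ, hχ⟩, ⟨hne, hfix, fun h => absurd h hinv⟩, fun χ' h1 h2 => huniq hne hfix h1 h2⟩

end Cfsg.Agent.S4519
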