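import Cfsg.Statements.S4520
import Cfsg.Agent.Blocks.AlperinIso
import Cfsg.Agent.Blocks.PrincipalCoeff
import Cfsg.Agent.Blocks.BrauerFeit
import Cfsg.Agent.BrauerPairs.CoverDefect

set_option autoImplicit false
open Cfsg

namespace Cfsg.Agent.S4520

open Finset CfsgLib.Block CfsgLib.Block.Chr

/-- A block of full `2`-defect with a member real on regular elements is the principal block. -/
theorem eq_principal {G : Type*} [Group G] [Fintype G] {M : Ideal Cfsg.AlgInt} [M.IsPrime]
    (hM : Cfsg.IsPModular 2 M) {B : Set (IrrCharacter G)} (hB : IsPBlock M B)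
    {χ η : IrrCharacter G} (hχ : χ ∈ B) (hη : η ∈ B) (hodd : Odd (charDegree (η : G → ℂ)))
    (hreal : ∀ g : G, ¬ 2 ∣ orderOf g → (χ : G → ℂ) g⁻¹ = (χ : G → ℂ) g) :
    η ∈ principalBlock M G := by
  classical
  haveI : CharP (Residue M) 2 := charP_residue hM
  by_contra hne
  have h0 := classInner_regPart_eq_zero hM η (oneIrr G) fun h => hne (sameBlock_symm h)
  rw [classInner_regPart, mul_eq_zero] at h0
  have hsum := h0.resolve_left (inv_ne_zero (Nat.cast_ne_zero.2 Nat.card_pos.ne'))
  simp only [oneIrr_apply, map_one, mul_one] at hsum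
  let K : G → ℕ := fun g => (Subgroup.centralizer ({g} : Set G)).index
  have hKinv : ∀ g, K g⁻¹ = K g := fun g => by
    show (Subgroup.centralizer ({g⁻¹} : Set G)).index = _
    congr 1
    ext y
    rw [Subgroup.mem_centralizer_singleton_iff, Subgroup.mem_centralizer_singleton_iff]
    exact ⟨fun h => by simpa using (Commute.inv_right (show Commute y g⁻¹ from h)).eq,
      fun h => (Commute.inv_right (show Commute y g from h)).eq⟩
  have hKconj : ∀ g x, K (x * g * x⁻¹) = K g := fun g x => by
    show (Subgroup.centralizer ({x * g * x⁻¹} : Set G)).index = _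
    rw [show Subgroup.centralizer ({x * g * x⁻¹} : Set G) =
      (Subgroup.centralizer ({g} : Set G)).map ((MulAut.conj x) : G ≃* G).toMonoidHom from ?_]
    · exact Subgroup.index_map_equiv _ (MulAut.conj x)
    ext y
    rw [Subgroup.mem_map_equiv, Subgroup.mem_centralizer_singleton_iff,
      Subgroup.mem_centralizer_singleton_iff]
    constructor
    · intro h
      have := congrArg (MulAut.conj x).symm h
      simpa [mul_assoc] using this
    · intro h
      have := congrArg (MulAut.conj x) h
      simpa [mul_assoc] using this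
  -- classes of even length contribute nothing
  have heven : MemLocalIdeal M
      (∑ g : G, if ¬ 2 ∣ orderOf g ∧ 2 ∣ K g then (η : G → ℂ) g else 0) := by
    haveI : Fintype (ConjClasses G) := Fintype.ofFinite _
    rw [sum_eq_sum_classes _ fun g x => by
      simp only [hKconj, isClassFunction_irr η g x,
        show orderOf (x * g * x⁻¹) = orderOf g from (MulAut.conj x).orderOf_eq g]]
    refine memLocalIdeal_sum fun C _ => ?_
    split_ifs with h
    · exact memLocalIdeal_mul_right ((memLocalIdeal_natCast_iff hM).2 h.2) (irr_mem η _)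
    · rw [mul_zero]; exact memLocalIdeal_zero
  -- on classes of odd length the values are symmetric
  have hsymm : ∀ g : G, ¬ 2 ∣ orderOf g → ¬ 2 ∣ K g →
      MemLocalIdeal M ((η : G → ℂ) g⁻¹ - (η : G → ℂ) g) := by
    intro g hg hKg
    have h1 : MemLocalIdeal M (centralChar (η : G → ℂ) g⁻¹ - centralChar (η : G → ℂ) g) := by
      refine memLocalIdeal_sub_trans (sameBlock_of_mem hB hη hχ g⁻¹) ?_
      rw [show centralChar (χ : G → ℂ) g⁻¹ = centralChar (χ : G → ℂ) g by
        simp only [centralChar]
        rw [show (Subgroup.centralizer ({g⁻¹} : Set G)).index =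
          (Subgroup.centralizer ({g} : Set G)).index from hKinv g, hreal g hg]]
      exact sameBlock_of_mem hB hχ hη g
    have h2 : MemLocalIdeal M
        ((centralChar (η : G → ℂ) g⁻¹ - centralChar (η : G → ℂ) g) * (η : G → ℂ) 1) :=
      memLocalIdeal_mul_right h1 (irr_mem η 1)
    rw [centralChar, centralChar, sub_mul, div_mul_cancel₀ _ (irr_one_ne_zero η),
      div_mul_cancel₀ _ (irr_one_ne_zero η),
      show ((Subgroup.centralizer ({g⁻¹} : Set G)).index : ℂ) = (K g : ℂ) from
        congrArg Nat.cast (hKinv g), ← mul_sub] at h2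
    have h3 := memLocalIdeal_mul_left (memLocalRing_natCast_inv hM hKg) h2
    rwa [← mul_assoc, inv_mul_cancel₀ (Nat.cast_ne_zero.2 fun h => hKg (by simp [h])),
      one_mul] at h3
  let f : G → Residue M := fun g =>
    if ¬ 2 ∣ orderOf g ∧ ¬ 2 ∣ K g then res M ⟨(η : G → ℂ) g, irr_mem η g⟩ else 0
  have hinv : ∀ g : G, f g⁻¹ = f g := fun g => by
    simp only [f, orderOf_inv, hKinv]
    split_ifs with h
    · exact res_eq_iff.2 (hsymm g h.1 h.2)
    · rfl
  have hrest : ∑ g ∈ univ.erase (1 : G), f g = 0 := by
    refine sum_involution (fun g _ => g⁻¹) (fun g _ => ?_) (fun g hg hne hfix => ?_)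
      (fun g hg => ?_) (fun g _ => inv_inv g)
    · rw [hinv]; exact CharTwo.add_self_eq_zero _
    · have h2 : g ^ 2 = 1 := by
        rw [sq]; nth_rewrite 1 [← hfix]; exact inv_mul_cancel g
      refine hne ?_
      simp [f, orderOf_eq_prime h2 (ne_of_mem_erase hg)]
    · exact mem_erase.2 ⟨inv_ne_one.2 (ne_of_mem_erase hg), mem_univ _⟩
  have hodd' : MemLocalIdeal M
      ((∑ g : G, if ¬ 2 ∣ orderOf g ∧ ¬ 2 ∣ K g then (η : G → ℂ) g else 0) - (η : G → ℂ) 1) := by
    let r : G → localRing M := fun g =>
      if ¬ 2 ∣ orderOf g ∧ ¬ 2 ∣ K g then ⟨(η : G → ℂ) g, irr_mem η g⟩ else 0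
    have hr : ∀ g, res M (r g) = f g := fun g => by
      simp only [r, f]; split_ifs <;> simp
    have h1 : (¬ 2 ∣ orderOf (1 : G) ∧ ¬ 2 ∣ K (1 : G)) := by
      refine ⟨by simp, ?_⟩
      rw [show K (1 : G) = 1 from Subgroup.index_eq_one.2 (by
        rw [eq_top_iff]; intro y _; simp [Subgroup.mem_centralizer_singleton_iff])]
      decide
    have h : res M (∑ g, r g) = res M (r 1) := by
      rw [map_sum, sum_congr rfl fun g _ => hr g, ← add_sum_erase _ _ (mem_univ (1 : G)), hrest,
        add_zero, hr]
    rw [res_eq_iff] at h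
    convert h using 2
    · rw [AddSubmonoidClass.coe_finsetSum]
      exact sum_congr rfl fun g _ => by simp only [r]; split_ifs <;> rfl
    · simp only [r, if_pos h1]
  have hsplit : ∑ g ∈ univ.filter (fun g : G => ¬ 2 ∣ orderOf g), (η : G → ℂ) g =
      (∑ g : G, if ¬ 2 ∣ orderOf g ∧ 2 ∣ K g then (η : G → ℂ) g else 0) +
      (∑ g : G, if ¬ 2 ∣ orderOf g ∧ ¬ 2 ∣ K g then (η : G → ℂ) g else 0) := by
    rw [← sum_add_distrib, sum_filter]
    refine sum_congr rfl fun g _ => ?_
    by_cases h1 : 2 ∣ orderOf g <;> by_cases h2 : 2 ∣ K g <;> simp [h1, h2]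
  rw [hsum] at hsplit
  have h5 := memLocalIdeal_sub heven (memLocalIdeal_neg hodd')
  rw [sub_neg_eq_add, ← add_sub_assoc, ← hsplit, zero_sub] at h5
  have h6 := memLocalIdeal_neg h5
  rw [neg_neg, (irr_one η).1, memLocalIdeal_natCast_iff hM] at h6
  exact (Nat.not_even_iff_odd.2 hodd) (even_iff_two_dvd.2 h6)


/-- Let N be a normal subgroup of odd index in the finite group G, M a maximal ideal of the algebraic integers containing 2, and k coprime to the order of G with k ^ (2 ^ e) ≡ 1 modulo the order of G for some e and g ^ k = g⁻¹ for every element g of odd order. Let θ be an irreducible character of N and χ an irreducible character of G over θ, both unchanged by composing with g ↦ g ^ k. Then χ lies in the principal 2-block of G if and only if θ lies in the principal 2-block of N. -/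
theorem result {G : Type*} [Group G] [Fintype G] (M : Ideal Cfsg.AlgInt) (hM : Cfsg.IsPModular 2 M) (N : Subgroup G) [N.Normal] [Fintype N] (hidx : Odd N.index) (k e : ℕ) (hk : Nat.Coprime k (Nat.card G)) (hke : k ^ (2 ^ e) ≡ 1 [MOD Nat.card G]) (hk₂ : ∀ g : G, Odd (orderOf g) → g ^ k = g⁻¹) (θ : Cfsg.IrrCharacter N) (hθ : ∀ n : N, (θ : N → ℂ) (n ^ k) = (θ : N → ℂ) n) (χ : Cfsg.IrrCharacter G) (hχ : ∀ g : G, (χ : G → ℂ) (g ^ k) = (χ : G → ℂ) g) (hover : Cfsg.classInner (fun n : N => (χ : G → ℂ) n) (θ : N → ℂ) ≠ 0) : χ ∈ Cfsg.principalBlock M G ↔ θ ∈ Cfsg.principalBlock M N := by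
  classical
  haveI := hM.2.1.isPrime
  haveI : Fact (Nat.Prime 2) := ⟨Nat.prime_two⟩
  constructor
  · intro h
    obtain ⟨g, η, hη, he⟩ := mem_orbitUnion_of_covering (isPBlock_principalBlock (M := M))
      (isPBlock_principalBlock (M := M)) oneIrr_mem_principalBlock h oneIrr_mem_principalBlock
      CfsgLib.Block.Alperin.one_over_one hover
    rw [he]
    refine (sameBlock_iff_mem isPBlock_principalBlock oneIrr_mem_principalBlock).2 ?_
    have h := sameBlock_conjIrr (M := M) g
      (sameBlock_of_mem isPBlock_principalBlock oneIrr_mem_principalBlock hη)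
    rwa [show conjIrr g (oneIrr N) = oneIrr N from Subtype.ext rfl] at h
  · intro hθb
    have hB := isPBlock_blockOf (M := M) χ
    have hb := isPBlock_principalBlock (M := M) (G := N)
    obtain ⟨D, hD⟩ := exists_defectGroup (p := 2) hb hM
    have hDQ : (D.map N.subtype).subgroupOf N = D :=
      Subgroup.comap_map_eq_self_of_injective N.subtype_injective D
    obtain ⟨P, hP, hPN⟩ := CfsgLib.BrauerPairs.exists_defectGroup_inf_eq hM hB hb
      (mem_blockOf_self χ) hθb hover (Subgroup.map_subtype_le D) (hDQ.symm ▸ hD)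
    have hcard : Nat.card D = 2 ^ (Nat.card N).factorization 2 := by
      rw [card_defectGroup hM hb hD, blockDefect]
      have h1 : sInf ((fun ξ : IrrCharacter N => (charDegree (ξ : N → ℂ)).factorization 2) ''
          principalBlock M N) = 0 :=
        Nat.sInf_eq_zero.2 (Or.inl ⟨oneIrr N, oneIrr_mem_principalBlock, by
          simp [charDegree]⟩)
      rw [h1, Nat.sub_zero]
    have hle : (Nat.card N).factorization 2 ≤ blockDefect 2 (blockOf M (χ : G → ℂ)) := by
      have h1 : Nat.card (D.map N.subtype) ≤ Nat.card P :=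
        Subgroup.card_le_of_le (hPN ▸ inf_le_left)
      rw [Subgroup.card_map_of_injective N.subtype_injective, hcard,
        card_defectGroup hM hB hP] at h1
      exact (Nat.pow_le_pow_iff_right one_lt_two).1 h1
    have hfac : (Nat.card G).factorization 2 = (Nat.card N).factorization 2 := by
      rw [← N.card_mul_index, Nat.factorization_mul Nat.card_pos.ne' Subgroup.index_ne_zero_of_finite,
        Finsupp.add_apply, Nat.factorization_eq_zero_of_not_dvd (n := N.index)
          (fun h => Nat.not_even_iff_odd.2 hidx (even_iff_two_dvd.2 h)), add_zero]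
    obtain ⟨η, hη, hh⟩ := exists_height_zero hM hB
    have hodd : Odd (charDegree (η : G → ℂ)) := by
      have h2 : (charDegree (η : G → ℂ)).factorization 2 = 0 := by
        rw [blockHeight] at hh
        rw [blockDefect] at hle
        have h3 : (charDegree (η : G → ℂ)).factorization 2 ≤ (Nat.card G).factorization 2 :=
          (Nat.factorization_le_iff_dvd (irr_one η).2.ne' Nat.card_pos.ne').2
            (charDegree_dvd_card η) 2
        omega
      rcases (Nat.factorization_eq_zero_iff _ _).1 h2 with h | h | h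
      · exact absurd Nat.prime_two h
      · exact Nat.not_even_iff_odd.1 fun he => h (even_iff_two_dvd.1 he)
      · exact absurd h (irr_one η).2.ne'
    have hreal : ∀ g : G, ¬ 2 ∣ orderOf g → (χ : G → ℂ) g⁻¹ = (χ : G → ℂ) g := fun g hg => by
      rw [← hk₂ g (Nat.not_even_iff_odd.1 fun he => hg (even_iff_two_dvd.1 he))]
      exact hχ g
    have hηp := eq_principal hM hB (mem_blockOf_self χ) hη hodd hreal
    rw [show principalBlock M G = blockOf M (χ : G → ℂ) from
      block_eq_of_common isPBlock_principalBlock hB hηp hη]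
    exact mem_blockOf_self χ

end Cfsg.Agent.S4520
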