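import Cfsg.Statements.S4521
import Cfsg.Agent.BlocksB.CentralProductPrincipal

set_option autoImplicit false
open Cfsg

namespace Cfsg.Agent.S4521

/-- Let the finite group G be generated by subgroups U₁ and U₂ that commute elementwise and whose intersection is a p-group, and let M be a maximal ideal of the algebraic integers containing the prime p. If the irreducible character χ of G has the irreducible constituents ψ₁ on U₁ and ψ₂ on U₂, then χ lies in the principal block of G if and only if ψ₁ and ψ₂ lie in the principal blocks of U₁ and U₂. -/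
theorem result {G : Type*} [Group G] [Fintype G] (p : ℕ) [Fact p.Prime] (M : Ideal Cfsg.AlgInt) (hM : Cfsg.IsPModular p M) (U₁ U₂ : Subgroup G) [Fintype U₁] [Fintype U₂] (hcomm : ∀ u ∈ U₁, ∀ v ∈ U₂, u * v = v * u) (hgen : U₁ ⊔ U₂ = ⊤) (hZ : IsPGroup p ↥(U₁ ⊓ U₂)) (χ : Cfsg.IrrCharacter G) (ψ₁ : Cfsg.IrrCharacter U₁) (ψ₂ : Cfsg.IrrCharacter U₂) (h₁ : Cfsg.classInner (fun u : U₁ => (χ : G → ℂ) u) (ψ₁ : U₁ → ℂ) ≠ 0) (h₂ : Cfsg.classInner (fun u : U₂ => (χ : G → ℂ) u) (ψ₂ : U₂ → ℂ) ≠ 0) : χ ∈ Cfsg.principalBlock M G ↔ (ψ₁ ∈ Cfsg.principalBlock M U₁ ∧ ψ₂ ∈ Cfsg.principalBlock M U₂) := by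
  classical
  haveI := hM.2.1.isPrime
  have hU₁ := CfsgLib.Block.CentralProd.conj_like hcomm hgen
  have hU₂ := CfsgLib.Block.CentralProd.conj_like (U₁ := U₂) (U₂ := U₁)
    (fun a ha b hb => (hcomm b hb a ha).symm) (by rw [sup_comm]; exact hgen)
  constructor
  · intro h
    refine ⟨fun u => ?_, fun u => ?_⟩
    · rw [← CfsgLib.Block.CentralProd.centralChar_one_eq hU₁,
        ← CfsgLib.Block.CentralProd.centralChar_eq hU₁ χ ψ₁ h₁]
      exact h _
    · rw [← CfsgLib.Block.CentralProd.centralChar_one_eq hU₂,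
        ← CfsgLib.Block.CentralProd.centralChar_eq hU₂ χ ψ₂ h₂]
      exact h _
  · rintro ⟨hb₁, hb₂⟩
    refine CfsgLib.Block.sameBlock_of_regular hM (CfsgLib.Block.oneIrr G) χ fun g hg => ?_
    obtain ⟨a, ha, b, hb, hab⟩ := CfsgLib.Block.CentralProd.exists_mul_eq hcomm hgen g
    obtain ⟨k, hk, hak, hbk⟩ := CfsgLib.Block.CentralProd.exists_regular_decomp
      (Fact.out : p.Prime) hg hab (hcomm a ha b hb)
    have hau := U₁.pow_mem ha k
    have hbv := U₂.pow_mem hb k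
    have hmul : ∀ φ : Cfsg.IrrCharacter G, Cfsg.centralChar (φ : G → ℂ) g =
        Cfsg.centralChar (φ : G → ℂ) (a ^ k) * Cfsg.centralChar (φ : G → ℂ) (b ^ k) := fun φ => by
      rw [← hk, ← CfsgLib.Block.omega_classInd φ,
        ← CfsgLib.Block.CentralProd.classInd_mul hcomm hgen hZ hau hbv hak,
        CfsgLib.Block.omega_conv φ (CfsgLib.Block.isClassFunction_classInd _),
        CfsgLib.Block.omega_classInd, CfsgLib.Block.omega_classInd]
    have e1 : Cfsg.MemLocalIdeal M (Cfsg.centralChar (fun _ : G => (1 : ℂ)) (a ^ k) -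
        Cfsg.centralChar (χ : G → ℂ) (a ^ k)) := by
      rw [CfsgLib.Block.CentralProd.centralChar_one_eq hU₁ ⟨_, hau⟩,
        CfsgLib.Block.CentralProd.centralChar_eq hU₁ χ ψ₁ h₁ ⟨_, hau⟩]
      exact hb₁ _
    have e2 : Cfsg.MemLocalIdeal M (Cfsg.centralChar (fun _ : G => (1 : ℂ)) (b ^ k) -
        Cfsg.centralChar (χ : G → ℂ) (b ^ k)) := by
      rw [CfsgLib.Block.CentralProd.centralChar_one_eq hU₂ ⟨_, hbv⟩,
        CfsgLib.Block.CentralProd.centralChar_eq hU₂ χ ψ₂ h₂ ⟨_, hbv⟩]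
      exact hb₂ _
    rw [hmul, hmul, show ∀ x y z w : ℂ, x * y - z * w = (x - z) * y + z * (y - w) from
      fun x y z w => by ring]
    exact CfsgLib.Block.memLocalIdeal_add
      (CfsgLib.Block.memLocalIdeal_mul_right e1 (CfsgLib.Block.centralChar_mem _ _))
      (CfsgLib.Block.memLocalIdeal_mul_left (CfsgLib.Block.centralChar_mem χ _) e2)

end Cfsg.Agent.S4521
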