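import Cfsg.Statements.S4538
import Cfsg.Agent.Blocks.SpecialLinearFull
import Cfsg.Agent.GLn.SteinbergSL
import Cfsg.Agent.StDefZero.SpecialLinear
import Cfsg.Agent.StDefZero.Unit
import Cfsg.Agent.BlocksB.Star.Lift

set_option autoImplicit false
open Cfsg

namespace Cfsg.Agent.S4538

/-- Let F be a finite field of characteristic p and n ≥ 2. Relative to a maximal ideal M of the algebraic integers containing p, the group SL(n, F) has exactly one p-block of defect zero, and every other p-block has full defect (its defect equals the exponent of p in the order of the group, so its defect groups are Sylow p-subgroups). -/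
theorem result {F : Type*} [Field F] [Fintype F] (n : ℕ) (hn : 2 ≤ n) (p : ℕ) [Fact p.Prime] [CharP F p] (M : Ideal Cfsg.AlgInt) (hM : Cfsg.IsPModular p M) : Nat.card {B : Set (Cfsg.IrrCharacter (Matrix.SpecialLinearGroup (Fin n) F)) // Cfsg.IsPBlock M B ∧ Cfsg.blockDefect p B = 0} = 1 ∧ ∀ B : Set (Cfsg.IrrCharacter (Matrix.SpecialLinearGroup (Fin n) F)), Cfsg.IsPBlock M B → Cfsg.blockDefect p B = 0 ∨ Cfsg.blockDefect p B = (Nat.card (Matrix.SpecialLinearGroup (Fin n) F)).factorization p := by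
  classical
  haveI : NeZero n := ⟨by omega⟩
  haveI : M.IsPrime := CfsgLib.Block.isPrime_of_isPModular hM
  haveI : CharP (CfsgLib.Block.Residue M) p := CfsgLib.Block.charP_residue hM
  letI : Fintype (Matrix.SpecialLinearGroup (Fin n) F) := Fintype.ofFinite _
  obtain ⟨S, hS1, -⟩ := CfsgLib.GLn.exists_steinberg_SL (n := n) (F := F) p
  set v := (Nat.card (Matrix.SpecialLinearGroup (Fin n) F)).factorization p
  have hSdeg : Cfsg.charDegree (S : Matrix.SpecialLinearGroup (Fin n) F → ℂ) = p ^ v := by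
    rw [Cfsg.charDegree, hS1, Complex.natCast_re, Nat.floor_natCast]
  have hSfull : CfsgLib.DefectZero.HasFullDegree p S := dvd_of_eq hSdeg.symm
  obtain ⟨Fr, hFr⟩ := CfsgLib.DefectZero.SpecialLinear.exists_frame (n := n) (F := F)
  haveI : Fintype Fr.U := Fintype.ofFinite _
  have hU : IsPGroup p Fr.U := hFr ▸ CfsgLib.DefectZero.SpecialLinear.isPGroup_upperU p
  have huniq : ∀ χ : Cfsg.IrrCharacter (Matrix.SpecialLinearGroup (Fin n) F),
      CfsgLib.DefectZero.HasFullDegree p χ → χ = S := by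
    intro χ hχ
    by_contra hne
    obtain ⟨y, hy⟩ := CfsgLib.DefectZero.unit_eq_sum hM hχ
    obtain ⟨y', hy'⟩ := CfsgLib.DefectZero.unit_eq_sum hM hSfull
    refine Fr.unique hU hy hy' (CfsgLib.DefectZero.unit_comm χ) (CfsgLib.DefectZero.unit_comm S)
      ?_ ?_ (CfsgLib.DefectZero.unit_ne_zero hM hχ) (CfsgLib.DefectZero.unit_ne_zero hM hSfull) ?_
    · rw [CfsgLib.DefectZero.unit_mul hM hχ hχ, if_pos rfl]
    · rw [CfsgLib.DefectZero.unit_mul hM hSfull hSfull, if_pos rfl]
    · rw [CfsgLib.DefectZero.unit_mul hM hSfull hχ, if_neg (Ne.symm hne)]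
  have hblock : Cfsg.blockOf M (S : Matrix.SpecialLinearGroup (Fin n) F → ℂ) = {S} :=
    Set.Subset.antisymm
      (CfsgLib.Block.blockOf_subset_of_integral
        (CfsgLib.DefectZero.isIntClass_singleton hM hSfull).2 (Set.mem_singleton S))
      (Set.singleton_subset_iff.2 (CfsgLib.Block.mem_blockOf_self S))
  have hzero : ∀ B : Set (Cfsg.IrrCharacter (Matrix.SpecialLinearGroup (Fin n) F)),
      Cfsg.IsPBlock M B → Cfsg.blockDefect p B = 0 → B = {S} := by
    intro B hB h0
    obtain ⟨χ, hχ⟩ := CfsgLib.Block.exists_mem_block hB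
    have hfull : CfsgLib.DefectZero.HasFullDegree p χ :=
      ((Fact.out : p.Prime).pow_dvd_iff_le_factorization (CfsgLib.Block.Chr.irr_one χ).2.ne').2
        ((Nat.sub_eq_zero_iff_le.1 h0).trans (Nat.sInf_le ⟨χ, hχ, rfl⟩))
    rw [CfsgLib.Block.eq_blockOf_of_mem hB hχ, huniq χ hfull, hblock]
  have hSB : Cfsg.IsPBlock M ({S} : Set (Cfsg.IrrCharacter (Matrix.SpecialLinearGroup (Fin n) F))) :=
    ⟨S, hblock.symm⟩
  have hS0 : Cfsg.blockDefect p
      ({S} : Set (Cfsg.IrrCharacter (Matrix.SpecialLinearGroup (Fin n) F))) = 0 := by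
    rw [Cfsg.blockDefect, Set.image_singleton, csInf_singleton, hSdeg,
      (Fact.out : p.Prime).factorization_pow, Finsupp.single_eq_same, Nat.sub_self]
  refine ⟨?_, fun B hB => CfsgLib.Block.SpecialLinearFull.blockDefect_zero_or_full p hM hB⟩
  rw [Nat.card_eq_one_iff_unique]
  exact ⟨⟨fun a b => Subtype.ext ((hzero _ a.2.1 a.2.2).trans (hzero _ b.2.1 b.2.2).symm)⟩,
    ⟨⟨_, hSB, hS0⟩⟩⟩

end Cfsg.Agent.S4538
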