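import Cfsg.Statements.S4540
import Cfsg.Agent.BlocksB.TwoSubsection
import Cfsg.Agent.Blocks.Heights

set_option autoImplicit false
open Cfsg

namespace Cfsg.Agent.S4540

/-- Let B be a 2-block of the finite group G (relative to a maximal ideal M of the algebraic integers containing 2) of defect d with defect group D. Let z be an element of D commuting with every element of D, and let b be a block of the centralizer C of z with defect group D that induces B (a major subsection (z, b)). If b has 2-regular rank at most three, then 3·k(B) ≤ 3·k₀(B) + 2·Σ 2 ^ h(χ), where k(B) is the number of members of B, k₀(B) the number of members of height zero, and the sum runs over the members χ of B of positive height h(χ); this bound is at most 3·2 ^ d, so in particular B contains at most 2 ^ d irreducible characters. -/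
theorem result {G : Type*} [Group G] [Finite G] (M : Ideal Cfsg.AlgInt) (hM : Cfsg.IsPModular 2 M) (B : Set (Cfsg.IrrCharacter G)) (hB : Cfsg.IsPBlock M B) (D : Subgroup G) (hD : Cfsg.IsDefectGroup 2 M B D) (z : G) (hzD : z ∈ D) (hzc : ∀ d ∈ D, d * z = z * d) (b : Set (Cfsg.IrrCharacter ↥(Subgroup.centralizer ({z} : Set G)))) (hb : Cfsg.IsInducedBlock M (Subgroup.centralizer ({z} : Set G)) b B) (hbD : Cfsg.IsDefectGroup 2 M b (D.subgroupOf (Subgroup.centralizer ({z} : Set G)))) (hl : Cfsg.blockRank 2 b ≤ 3) : 3 * Nat.card B ≤ 3 * Nat.card {χ : Cfsg.IrrCharacter G // χ ∈ B ∧ Cfsg.blockHeight 2 B (χ : G → ℂ) = 0} + 2 * (∑ᶠ χ ∈ {χ : Cfsg.IrrCharacter G | χ ∈ B ∧ 1 ≤ Cfsg.blockHeight 2 B (χ : G → ℂ)}, 2 ^ Cfsg.blockHeight 2 B (χ : G → ℂ)) ∧ 3 * Nat.card {χ : Cfsg.IrrCharacter G // χ ∈ B ∧ Cfsg.blockHeight 2 B (χ : G → ℂ) = 0} + 2 * (∑ᶠ χ ∈ {χ : Cfsg.IrrCharacter G | χ ∈ B ∧ 1 ≤ Cfsg.blockHeight 2 B (χ : G → ℂ)}, 2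 ^ Cfsg.blockHeight 2 B (χ : G → ℂ)) ≤ 3 * 2 ^ Cfsg.blockDefect 2 B := by
  classical
  haveI : Fintype G := Fintype.ofFinite G
  haveI : M.IsPrime := hM.2.1.isPrime
  haveI : Fact (Nat.Prime 2) := ⟨Nat.prime_two⟩
  letI := CfsgLib.Block.Chr.irrFintype (G := G)
  haveI := Fintype.ofFinite (Subgroup.centralizer ({z} : Set G))
  have hPD : IsPGroup 2 D := IsPGroup.of_card (CfsgLib.Block.card_defectGroup hM hB hD)
  obtain ⟨k, hk⟩ := IsPGroup.iff_orderOf.1 hPD ⟨z, hzD⟩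
  rw [Subgroup.orderOf_mk] at hk
  have hle : D ≤ Subgroup.centralizer ({z} : Set G) := fun d hd =>
    Subgroup.mem_centralizer_singleton_iff.2 (hzc d hd)
  have hcard : Nat.card (D.subgroupOf (Subgroup.centralizer ({z} : Set G))) = Nat.card D :=
    Nat.card_congr (Subgroup.subgroupOfEquivOfLe hle).toEquiv
  have hbd : Cfsg.blockDefect 2 b = Cfsg.blockDefect 2 B := by
    rw [CfsgLib.Block.card_defectGroup hM hb.1 hbD, CfsgLib.Block.card_defectGroup hM hB hD] at hcard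
    exact Nat.pow_right_injective le_rfl hcard
  obtain ⟨T⟩ := CfsgLib.BlockB.exists_twoData hM rfl hk hb
  set h : Cfsg.IrrCharacter G → ℕ := fun χ => Cfsg.blockHeight 2 B (χ : G → ℂ) with hdef
  set S := Finset.univ.filter (· ∈ B) with hS
  set S0 := S.filter fun χ => h χ = 0
  set S1 := S.filter fun χ => ¬ h χ = 0
  have hk0 : Nat.card {χ : Cfsg.IrrCharacter G // χ ∈ B ∧ Cfsg.blockHeight 2 B (χ : G → ℂ) = 0} =
      S0.card := by
    rw [Nat.card_eq_fintype_card, Fintype.card_subtype, ← Finset.filter_filter]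
  have hsum : (∑ᶠ χ ∈ {χ : Cfsg.IrrCharacter G | χ ∈ B ∧ 1 ≤ Cfsg.blockHeight 2 B (χ : G → ℂ)},
      2 ^ Cfsg.blockHeight 2 B (χ : G → ℂ)) = ∑ χ ∈ S1, 2 ^ h χ := by
    refine finsum_mem_eq_sum_of_inter_support_eq _ ?_
    ext χ
    simp [S1, S, h, Nat.one_le_iff_ne_zero]
  have hkB : Nat.card B = S0.card + S1.card := by
    rw [Finset.card_filter_add_card_filter_not, Nat.card_eq_fintype_card, Fintype.card_subtype]
  rw [hk0, hsum, hkB]
  constructor
  · have : 3 * S1.card ≤ 2 * ∑ χ ∈ S1, 2 ^ h χ := by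
      rw [Finset.mul_sum, mul_comm, ← smul_eq_mul, ← Finset.sum_const]
      refine Finset.sum_le_sum fun χ hχ => ?_
      have h1 : 2 ^ 1 ≤ 2 ^ h χ :=
        Nat.pow_le_pow_right two_pos (Nat.one_le_iff_ne_zero.2 (Finset.mem_filter.1 hχ).2)
      omega
    omega
  suffices hZ : 3 * (S0.card : ℤ) + 2 * ∑ χ ∈ S1, (2 : ℤ) ^ h χ ≤ 3 * 2 ^ Cfsg.blockDefect 2 B by
    exact_mod_cast hZ
  have hmem : ∀ χ ∈ S, χ ∈ B := fun χ hχ => (Finset.mem_filter.1 hχ).2
  by_cases hex : ∃ χ ∈ S0, T.T χ = 1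
  · obtain ⟨χ, hχ, hT⟩ := hex
    obtain ⟨hχS, hχ0⟩ := Finset.mem_filter.1 hχ
    have hoff := T.offdiag_le hM (hmem χ hχS) (S.erase χ)
      (fun ψ hψ => hmem ψ (Finset.mem_of_mem_erase hψ)) (Finset.notMem_erase χ S) h
      (fun ψ hψ i => (T.major hbd i ψ (hmem ψ (Finset.mem_of_mem_erase hψ)) χ (hmem χ hχS)).2.1 hχ0)
      (fun ψ hψ i => (T.major hbd i ψ (hmem ψ (Finset.mem_of_mem_erase hψ)) χ (hmem χ hχS)).1)
    rw [hT, hbd, mul_one, mul_one] at hoff
    have htot := Finset.sum_erase_add S (fun ψ => (4 : ℤ) ^ h ψ) hχS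
    rw [hχ0, pow_zero, ← Finset.sum_filter_add_sum_filter_not S fun ψ => h ψ = 0] at htot
    have h0 : ∑ ψ ∈ S0, (4 : ℤ) ^ h ψ = (S0.card : ℤ) := by
      rw [Finset.sum_congr rfl fun ψ hψ => show (4 : ℤ) ^ h ψ = 1 by
        rw [(Finset.mem_filter.1 hψ).2, pow_zero]]
      simp
    have h1 : 2 * ∑ ψ ∈ S1, (2 : ℤ) ^ h ψ ≤ 3 * ∑ ψ ∈ S1, (4 : ℤ) ^ h ψ := by
      rw [Finset.mul_sum, Finset.mul_sum]
      refine Finset.sum_le_sum fun ψ _ => ?_
      have h2 : (2 : ℤ) ^ h ψ ≤ 4 ^ h ψ := pow_le_pow_left₀ (by norm_num) (by norm_num) _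
      have h3 : (0 : ℤ) ≤ 4 ^ h ψ := by positivity
      linarith
    linarith
  · push Not at hex
    have hT := T.sum_T
    rw [hbd] at hT
    have h0 : 3 * (S0.card : ℤ) ≤ ∑ χ ∈ S0, T.T χ := by
      rw [mul_comm, ← nsmul_eq_mul, ← Finset.sum_const]
      refine Finset.sum_le_sum fun χ hχ => ?_
      obtain ⟨hχS, hχ0⟩ := Finset.mem_filter.1 hχ
      have hp := T.T_pos hM (hmem χ hχS) hχ0
      have hodd := T.odd χ (hmem χ hχS) hχ0
      have hne := hex χ hχ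
      omega
    have h1 : 2 * ∑ χ ∈ S1, (2 : ℤ) ^ h χ ≤ ∑ χ ∈ S1, T.T χ := by
      rw [Finset.mul_sum]
      refine Finset.sum_le_sum fun χ hχ => ?_
      obtain ⟨hχS, hχ0⟩ := Finset.mem_filter.1 hχ
      exact T.T_ge hM hbd (hmem χ hχS) hχ0
    have hl' : (Cfsg.blockRank 2 b : ℤ) ≤ 3 := by exact_mod_cast hl
    have hle3 : ∑ χ ∈ S, T.T χ ≤ 3 * 2 ^ Cfsg.blockDefect 2 B := by
      rw [hT]
      nlinarith [show (0 : ℤ) < 2 ^ Cfsg.blockDefect 2 B by positivity]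
    rw [← Finset.sum_filter_add_sum_filter_not S fun χ => h χ = 0] at hle3
    linarith

end Cfsg.Agent.S4540
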