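import Cfsg.Statements.S4541
import Cfsg.Agent.BlocksB.TwoSubsection

set_option autoImplicit false
open Cfsg

namespace Cfsg.Agent.S4541

/-- Let B be a 2-block of the finite group G (relative to a maximal ideal M of the algebraic integers containing 2), u a 2-element, and b a block of the centralizer of u inducing B (a subsection (u, b)), of defect q and 2-regular rank l; write s for the integer square root of l and k₀(B) for the number of members of B of height zero. If s is odd then k₀(B) ≤ s·2 ^ q, and otherwise (s + 1)·k₀(B) ≤ l·2 ^ q; in particular k₀(B) ≤ 2 ^ q when l ≤ 3. -/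
theorem result {G : Type*} [Group G] [Finite G] (M : Ideal Cfsg.AlgInt) (hM : Cfsg.IsPModular 2 M) (B : Set (Cfsg.IrrCharacter G)) (hB : Cfsg.IsPBlock M B) (u : G) (hu : ∃ j : ℕ, orderOf u = 2 ^ j) (b : Set (Cfsg.IrrCharacter ↥(Subgroup.centralizer ({u} : Set G)))) (hb : Cfsg.IsInducedBlock M (Subgroup.centralizer ({u} : Set G)) b B) : (Odd (Nat.sqrt (Cfsg.blockRank 2 b)) → Nat.card {χ : Cfsg.IrrCharacter G // χ ∈ B ∧ Cfsg.blockHeight 2 B (χ : G → ℂ) = 0} ≤ Nat.sqrt (Cfsg.blockRank 2 b) * 2 ^ Cfsg.blockDefect 2 b) ∧ (¬ Odd (Nat.sqrt (Cfsg.blockRank 2 b)) → (Nat.sqrt (Cfsg.blockRank 2 b) + 1) * Nat.card {χ : Cfsg.IrrCharacter G // χ ∈ B ∧ Cfsg.blockHeight 2 B (χ : G → ℂ) = 0} ≤ Cfsg.blockRank 2 b * 2 ^ Cfsg.blockDefect 2 b) ∧ (Cfsg.blockRank 2 b ≤ 3 → Nat.card {χ : Cfsg.IrrCharacter G // χ ∈ B ∧ Cfsg.blockHeight 2 B (χ : G → ℂ) = 0} ≤ 2 ^ Cfsg.blockDefect 2 b) := by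
  classical
  haveI : Fintype G := Fintype.ofFinite G
  haveI : M.IsPrime := hM.2.1.isPrime
  haveI : Fact (Nat.Prime 2) := ⟨Nat.prime_two⟩
  letI := CfsgLib.Block.Chr.irrFintype (G := G)
  haveI := Fintype.ofFinite (Subgroup.centralizer ({u} : Set G))
  obtain ⟨j, hj⟩ := hu
  obtain ⟨T⟩ := CfsgLib.BlockB.exists_twoData hM rfl hj hb
  set l := Cfsg.blockRank 2 b
  set s := Nat.sqrt l
  set q := Cfsg.blockDefect 2 b
  set S0 := Finset.univ.filter fun χ : Cfsg.IrrCharacter G =>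
    χ ∈ B ∧ Cfsg.blockHeight 2 B (χ : G → ℂ) = 0
  have hk0 : Nat.card {χ : Cfsg.IrrCharacter G // χ ∈ B ∧ Cfsg.blockHeight 2 B (χ : G → ℂ) = 0} =
      S0.card := by
    rw [Nat.card_eq_fintype_card, Fintype.card_subtype]
  rw [hk0]
  obtain ⟨φ, hφ, hφ0⟩ := CfsgLib.Block.exists_height_zero hM hB
  have hne : S0.Nonempty := ⟨φ, Finset.mem_filter.2 ⟨Finset.mem_univ φ, hφ, hφ0⟩⟩
  obtain ⟨χ, hχ, hmin⟩ := S0.exists_min_image T.T hne
  obtain ⟨-, hχB, hχ0⟩ := Finset.mem_filter.1 hχ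
  have hoff := T.offdiag_le hM hχB (S0.erase χ)
    (fun ψ hψ => (Finset.mem_filter.1 (Finset.mem_of_mem_erase hψ)).2.1)
    (Finset.notMem_erase χ S0) (fun _ => 0)
    (fun ψ hψ i h0 => by
      obtain ⟨-, h1, h2⟩ := Finset.mem_filter.1 (Finset.mem_of_mem_erase hψ)
      exact T.unit i ψ h1 χ hχB h2 hχ0 (h0.symm ▸ CfsgLib.Block.memLocalIdeal_zero))
    (fun ψ _ i => by rw [pow_zero, div_one]; exact T.integral i ψ χ)
  simp only [pow_zero, Finset.sum_const, nsmul_eq_mul, mul_one] at hoff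
  rw [Finset.card_erase_of_mem hχ, Nat.cast_sub (Finset.card_pos.2 hne), Nat.cast_one] at hoff
  have htr : (S0.card : ℤ) * T.T χ ≤ 2 ^ q * (l : ℤ) := by
    rw [← T.sum_T]
    refine le_trans ?_ (Finset.sum_le_sum_of_subset_of_nonneg (s := S0) ?_ ?_)
    · rw [← nsmul_eq_mul, ← Finset.sum_const]
      exact Finset.sum_le_sum fun ψ hψ => hmin ψ hψ
    · exact fun ψ hψ => Finset.mem_filter.2 ⟨Finset.mem_univ ψ, (Finset.mem_filter.1 hψ).2.1⟩
    · intro ψ hψ _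
      obtain ⟨i⟩ := T.nonempty
      have hpos : ∀ i, 0 ≤ T.a i ψ := fun i => by
        have h1 : (0 : ℝ) ≤ ∑ φ' ∈ Finset.univ.filter (· ∈ B), ‖T.m i ψ φ'‖ ^ 2 :=
          Finset.sum_nonneg fun _ _ => sq_nonneg _
        rw [T.row_real] at h1
        exact nonneg_of_mul_nonneg_right h1 (by positivity)
      have h2 := Finset.sum_nonneg (s := Finset.univ) fun i _ => hpos i
      rw [T.sum_a] at h2
      have : (0 : ℝ) ≤ (T.T ψ : ℝ) :=
        nonneg_of_mul_nonneg_right h2 (Nat.cast_pos.2 Fintype.card_pos)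
      exact_mod_cast this
  have hT1 := T.T_pos hM hχB hχ0
  have hodd := T.odd χ hχB hχ0
  have hsl : (s : ℤ) * s ≤ l := by exact_mod_cast Nat.sqrt_le l
  have hls : (l : ℤ) + 1 ≤ (s + 1) * (s + 1) := by exact_mod_cast Nat.lt_succ_sqrt l
  have hq : (0 : ℤ) < 2 ^ q := by positivity
  have hk : (0 : ℤ) ≤ (S0.card : ℤ) := Nat.cast_nonneg _
  have hsmall : T.T χ ≤ s → (S0.card : ℤ) ≤ 2 ^ q * T.T χ := fun _ => by nlinarith
  have hA : Odd s → (S0.card : ℤ) ≤ s * 2 ^ q := fun hs => by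
    rcases le_or_gt (T.T χ) (s : ℤ) with h | h
    · nlinarith [hsmall h]
    · have h2 : (s : ℤ) + 2 ≤ T.T χ := by
        obtain ⟨c, hc⟩ := hs
        have hcz : (s : ℤ) = 2 * c + 1 := by exact_mod_cast hc
        omega
      have h3 : (S0.card : ℤ) * ((s : ℤ) + 2) ≤ (s : ℤ) * 2 ^ q * ((s : ℤ) + 2) := by nlinarith
      exact le_of_mul_le_mul_right h3 (by linarith)
  have hB' : ¬ Odd s → ((s : ℤ) + 1) * (S0.card : ℤ) ≤ (l : ℤ) * 2 ^ q := fun hs => by
    rcases le_or_gt (T.T χ) (s : ℤ) with h | h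
    · have h2 : T.T χ ≤ (s : ℤ) - 1 := by
        obtain ⟨c, hc⟩ := Nat.not_odd_iff_even.1 hs
        have hcz : (s : ℤ) = c + c := by exact_mod_cast hc
        omega
      have h3 : (S0.card : ℤ) ≤ 2 ^ q * ((s : ℤ) - 1) := by nlinarith [hsmall h]
      nlinarith [mul_le_mul_of_nonneg_left h3 (show (0 : ℤ) ≤ (s : ℤ) + 1 by linarith)]
    · nlinarith
  refine ⟨fun hs => by exact_mod_cast hA hs, fun hs => by exact_mod_cast hB' hs, fun hl3 => ?_⟩
  have hs1 : s ≤ 1 := Nat.le_of_lt_succ (Nat.sqrt_lt.2 (by omega))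
  rcases Nat.le_one_iff_eq_zero_or_eq_one.1 hs1 with h0 | h1
  · have h := hB' (by rw [h0]; decide)
    have hl0 : (l : ℤ) = 0 := by rw [h0] at hls; push_cast at hls; linarith [Int.natCast_nonneg l]
    rw [h0, hl0] at h
    push_cast at h
    have : (S0.card : ℤ) ≤ 2 ^ q := by linarith
    exact_mod_cast this
  · have h := hA (by rw [h1]; decide)
    rw [h1] at h
    push_cast at h
    rw [one_mul] at h
    exact_mod_cast h

end Cfsg.Agent.S4541
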