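import Cfsg.Statements.S4549
import Cfsg.Agent.Blocks.PrincipalCoeff
import Cfsg.Agent.Char.TwoClass
import Cfsg.Agent.Char.Linear
import Cfsg.Agent.Char.Induction
import Cfsg.Agent.Char.PowTwist
import Cfsg.Agent.Solvable.PGroupBasic
import Cfsg.Agent.Transfer.Tate
import Cfsg.Agent.LocalB.Tate

set_option autoImplicit false
open Cfsg

namespace Cfsg.Agent.S4549

open CfsgLib.Block CfsgLib.Block.Chr CfsgLib.Char
open scoped ComplexConjugate

/-- An exponent with two-power order modulo the group order inducing the same power map. -/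
theorem exists_exponent {G : Type*} [Group G] [Finite G] (k : ℕ)
    (hk₁ : ∀ g : G, (∃ j : ℕ, orderOf g = 2 ^ j) → g ^ k = g ^ 3)
    (hk₂ : ∀ g : G, Odd (orderOf g) → g ^ k = g) :
    ∃ k' e : ℕ, k'.Coprime (Nat.card G) ∧ k' ^ (2 ^ e) ≡ 1 [MOD Nat.card G] ∧
      ∀ g : G, g ^ k' = g ^ k := by
  obtain ⟨a, m, hm, hG⟩ := Nat.exists_eq_two_pow_mul_odd (Nat.card_pos (α := G)).ne'
  have hcop : (2 ^ a).Coprime m := Nat.Coprime.pow_left a hm.coprime_two_left
  obtain ⟨k', h3, h1⟩ := Nat.chineseRemainder hcop 3 1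
  have h32 : Nat.Coprime 3 (2 ^ a) := Nat.Coprime.pow_right a (by norm_num)
  refine ⟨k', a, ?_, ?_, fun g => ?_⟩
  · rw [hG, Nat.coprime_mul_iff_right]
    exact ⟨h3.gcd_eq.trans h32, h1.gcd_eq.trans (Nat.gcd_one_left m)⟩
  · rw [hG]
    refine (Nat.modEq_and_modEq_iff_modEq_mul hcop).1 ⟨?_, by simpa using h1.pow (2 ^ a)⟩
    refine (h3.pow (2 ^ a)).trans ?_
    rcases a with _ | a
    · exact Nat.modEq_one
    · have h := (Nat.ModEq.pow_totient h32).pow 2
      rw [one_pow, ← pow_mul, Nat.totient_prime_pow_succ Nat.prime_two,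
        show (2 : ℕ) - 1 = 1 from rfl, mul_one, ← pow_succ] at h
      exact h
  · have hg : g ^ (2 ^ a * m) = 1 := hG ▸ pow_card_eq_one'
    have hA : (g ^ m) ^ k = (g ^ m) ^ k' := by
      have h : (g ^ m) ^ (2 ^ a) = 1 := by rw [← pow_mul, mul_comm, hg]
      obtain ⟨j, -, hj⟩ := (Nat.dvd_prime_pow Nat.prime_two).1 (orderOf_dvd_of_pow_eq_one h)
      rw [hk₁ _ ⟨j, hj⟩]
      exact (pow_eq_pow_iff_modEq.2 (h3.of_dvd (orderOf_dvd_of_pow_eq_one h))).symm
    have hB : (g ^ 2 ^ a) ^ k = (g ^ 2 ^ a) ^ k' := by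
      have h : (g ^ 2 ^ a) ^ m = 1 := by rw [← pow_mul, hg]
      rw [hk₂ _ (hm.of_dvd_nat (orderOf_dvd_of_pow_eq_one h))]
      refine (pow_one _).symm.trans ?_
      exact (pow_eq_pow_iff_modEq.2 (h1.of_dvd (orderOf_dvd_of_pow_eq_one h))).symm
    have hz : ∀ n : ℕ, (g ^ n) ^ k = (g ^ n) ^ k' → ((g ^ k)⁻¹ * g ^ k') ^ n = 1 := by
      intro n hn
      rw [(((Commute.refl g).pow_pow k k').inv_left).mul_pow, inv_pow, ← pow_mul, ← pow_mul,
        mul_comm k n, mul_comm k' n, pow_mul, pow_mul, hn, inv_mul_cancel]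
    have ho : orderOf ((g ^ k)⁻¹ * g ^ k') = 1 := Nat.eq_one_of_dvd_coprimes hcop
      (orderOf_dvd_of_pow_eq_one (hz _ hB)) (orderOf_dvd_of_pow_eq_one (hz _ hA))
    exact (inv_mul_eq_one.1 (orderOf_eq_one_iff.1 ho)).symm

/-- A sign character of a Sylow two-subgroup extends. -/
theorem exists_extension {G : Type*} [Group G] [Fintype G]
    (M : Ideal AlgInt) [M.IsPrime] (hM : IsPModular 2 M) (k e : ℕ)
    (hk : k.Coprime (Nat.card G)) (hke : k ^ (2 ^ e) ≡ 1 [MOD Nat.card G])
    (hdeg : ∀ χ : IrrCharacter G, χ ∈ principalBlock M G → Odd (charDegree (χ : G → ℂ)) →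
      (∀ g : G, (χ : G → ℂ) (g ^ k) = (χ : G → ℂ) g) → charDegree (χ : G → ℂ) = 1)
    (P : Sylow 2 G) (lam : (P : Subgroup G) →* ℂˣ) (hlam : ∀ x, lam x ^ 2 = 1) :
    ∃ μ : G →* ℂˣ, ∀ x : (P : Subgroup G), μ x = lam x := by
  classical
  have : Fact (Nat.Prime 2) := ⟨Nat.prime_two⟩
  let := irrFintype (G := G)
  have hp : Nat.Prime 2 := Nat.prime_two
  set B := principalBlock M G with hBdef
  have hB : IsPBlock M B := isPBlock_principalBlock
  set θ := indFun (P : Subgroup G) (fun x => (lam x : ℂ)) with hθ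
  -- the value of the block part at the identity
  have h1 : blockPart B θ 1 = θ 1 * blockCoeff B (1 : G) := by
    rw [blockPart_eq_sum, Finset.mul_sum, Finset.sum_eq_single (1 : G)]
    · rw [blockCoeff_eq_sum]; ring
    · intro z _ hz
      by_cases hs : 2 ∣ orderOf z
      · have h := blockCoeff_eq_zero_of_singular hM hB hs
        rw [blockCoeff_eq_sum] at h
        rw [mul_left_comm, h, mul_zero]
      · have hzero : θ z = 0 := by
          refine indFun_eq_zero _ fun x hx => hz ?_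
          obtain ⟨k, hk⟩ := IsPGroup.iff_orderOf.1 P.2 ⟨_, hx⟩
          rw [← Subgroup.orderOf_coe] at hk
          have ho : orderOf (x⁻¹ * z * x) = orderOf z := by
            have := orderOf_injective (MulAut.conj x⁻¹).toMonoidHom (MulAut.conj x⁻¹).injective z
            simpa using this
          simp only at hk
          rw [ho] at hk
          rcases Nat.eq_zero_or_pos k with rfl | hk0
          · exact orderOf_eq_one_iff.1 (by simpa using hk)
          · exact absurd (hk ▸ dvd_pow_self 2 hk0.ne') hs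
        rw [hzero, zero_mul, mul_zero]
    · simp
  have hθ1 : θ 1 = ((P : Subgroup G).index : ℂ) := by
    rw [hθ, indFun_one]; simp
  -- the coefficient at the identity is a unit
  have hcoeff : ¬ MemLocalIdeal M (blockCoeff B (1 : G)) := by
    intro hb
    have hR : ¬ MemLocalIdeal M ((Nat.card {y : G // ¬ 2 ∣ orderOf y}) : ℂ) := by
      rw [Nat.card_eq_fintype_card, Fintype.card_subtype]; exact card_regular_unit hM
    have hcount : Nat.card {xy : G × G // (∃ k : ℕ, orderOf xy.1 = 2 ^ k) ∧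
        ¬ 2 ∣ orderOf xy.2 ∧ xy.1 * xy.2 = 1} = 1 := by
      rw [Nat.card_eq_one_iff_unique]
      refine ⟨⟨fun a b => Subtype.ext ?_⟩, ⟨⟨(1, 1), ⟨0, by simp⟩, by simpa using hp.ne_one,
        by simp⟩⟩⟩
      have key : ∀ c : {xy : G × G // (∃ k : ℕ, orderOf xy.1 = 2 ^ k) ∧
          ¬ 2 ∣ orderOf xy.2 ∧ xy.1 * xy.2 = 1}, c.1 = (1, 1) := by
        rintro ⟨⟨x, y⟩, ⟨k, hk⟩, hy, hxy⟩
        simp only at hk hy hxy
        obtain rfl := eq_inv_of_mul_eq_one_left hxy
        rw [orderOf_inv] at hk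
        rcases Nat.eq_zero_or_pos k with rfl | hk0
        · rw [pow_zero, orderOf_eq_one_iff] at hk; simp [hk]
        · exact absurd (hk ▸ dvd_pow_self 2 hk0.ne') hy
      rw [key a, key b]
    have h := principal_coeff_cong hM (g := (1 : G)) (by simpa using hp.ne_one)
    rw [hcount, Nat.cast_one] at h
    have h2 := memLocalIdeal_sub hb h
    rw [sub_sub_cancel] at h2
    have h3 := memLocalIdeal_mul_left (natCast_mem_localRing (M := M)
      (Nat.card {y : G // ¬ 2 ∣ orderOf y})) h2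
    rw [mul_one_div_cancel (ne_zero_of_not_memLocalIdeal hR)] at h3
    exact not_memLocalIdeal_one h3
  have hidx : ¬ MemLocalIdeal M (((P : Subgroup G).index : ℂ)) := fun h =>
    P.not_dvd_index ((memLocalIdeal_natCast_iff hM).1 h)
  have hlamch : IsCharacter (P : Subgroup G) (fun x => (lam x : ℂ)) :=
    IsIrrCharacter.isCharacter (isIrrCharacter_ofHom lam)
  have hnat : ∀ χ : IrrCharacter G, ∃ n : ℕ, classInner θ (χ : G → ℂ) = (n : ℂ) := fun χ =>
    IsCharacter.exists_classInner_eq_natCast' (CfsgLib.Char.IsCharacter.indFun hlamch) (isCharacter_irr χ)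
  obtain ⟨π, hπ, hπa⟩ := PowTwist.exists_powPerm hk hke
  -- the induced character is fixed by the power map
  have hθk : (fun g => θ (g ^ k)) = θ := by
    funext g
    rw [hθ, indFun_def, indFun_def]
    congr 1
    refine Finset.sum_congr rfl fun x _ => ?_
    have hconj : x⁻¹ * g ^ k * x = (x⁻¹ * g * x) ^ k := by simpa using (conj_pow (a := x⁻¹) (b := g) (i := k)).symm
    rw [hconj]
    generalize x⁻¹ * g * x = y
    simp only [extendByZero_eq]
    by_cases hy : y ∈ (P : Subgroup G)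
    · rw [dif_pos (pow_mem hy k), dif_pos hy]
      congr 1
      change lam (⟨y, hy⟩ ^ k) = _
      rw [map_pow]
      rcases Nat.even_or_odd k with hev | ⟨j, hj⟩
      · obtain ⟨i, hi⟩ := IsPGroup.iff_card.1 P.2
        have h := (hk.coprime_dvd_right (P : Subgroup G).card_subgroup_dvd_card)
        rw [hi] at h
        rcases i with _ | i
        · have h1 := Subgroup.eq_bot_of_card_eq _ (hi.trans (pow_zero 2))
          have : (⟨y, hy⟩ : (P : Subgroup G)) = 1 :=
            Subtype.ext (Subgroup.mem_bot.1 (h1 ▸ hy))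
          rw [this, map_one, one_pow]
        · exact absurd (Nat.coprime_two_right.1 ((Nat.coprime_pow_right_iff i.succ_pos _ _).1 h))
            (Nat.not_odd_iff_even.2 hev)
      · rw [hj, pow_succ, pow_mul, hlam, one_pow, one_mul]
    · rw [dif_neg hy, dif_neg fun h => hy ?_]
      have hc : k.Coprime (orderOf y) := hk.coprime_dvd_right (orderOf_dvd_natCard y)
      obtain ⟨j, hj⟩ := exists_pow_eq_self_of_coprime hc
      exact hj ▸ pow_mem h j
  -- the principal block is stable
  have hBπ : ∀ χ : IrrCharacter G, χ ∈ B → π χ ∈ B := by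
    intro χ hχ g
    have hcen : Subgroup.centralizer ({g ^ k} : Set G) = Subgroup.centralizer ({g} : Set G) := by
      obtain ⟨j, hj⟩ := exists_pow_eq_self_of_coprime (hk.coprime_dvd_right (orderOf_dvd_natCard g))
      ext x
      simp only [Subgroup.mem_centralizer_singleton_iff]
      exact ⟨fun h => hj ▸ Commute.pow_right h j, fun h => Commute.pow_right h k⟩
    have h := hχ (g ^ k)
    simp only [centralChar, hcen] at h
    simpa only [centralChar, hπa, one_pow] using h
  have hπdeg : ∀ χ : IrrCharacter G, charDegree (π χ : G → ℂ) = charDegree (χ : G → ℂ) :=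
    fun χ => by simp only [charDegree, hπa, one_pow]
  choose n hn using hnat
  have hnπ : ∀ χ, n (π χ) = n χ := fun χ => by
    have h : classInner θ (π χ : G → ℂ) = classInner θ (χ : G → ℂ) := by
      conv_lhs => rw [← hθk, show (π χ : G → ℂ) = fun g => (χ : G → ℂ) (g ^ k) from funext (hπa χ)]
      exact PowTwist.classInner_pow hk _ _
    rw [hn, hn, Nat.cast_inj] at h
    exact h
  have hexists : ∃ χ ∈ B, (∀ g, (χ : G → ℂ) (g ^ k) = (χ : G → ℂ) g) ∧
      Odd (charDegree (χ : G → ℂ)) ∧ classInner θ (χ : G → ℂ) ≠ 0 := by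
    let := Fintype.ofFinite {χ : IrrCharacter G // χ ∈ B}
    have hBiff : ∀ χ, π χ ∈ B ↔ χ ∈ B := by
      intro χ
      refine ⟨fun h => ?_, hBπ χ⟩
      have hit : ∀ j : ℕ, (π ^ j) (π χ) ∈ B := by
        intro j
        induction j with
        | zero => simpa using h
        | succ j ih => rw [pow_succ', Equiv.Perm.mul_apply]; exact hBπ _ ih
      have h' := hit (2 ^ e - 1)
      rwa [← Equiv.Perm.mul_apply, ← pow_succ, Nat.sub_add_cancel Nat.one_le_two_pow, hπ,
        Equiv.Perm.one_apply] at h'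
    obtain ⟨π', hπ'⟩ : ∃ π' : Equiv.Perm {χ // χ ∈ B}, π' = π.subtypePerm hBiff := ⟨_, rfl⟩
    have hπ'e : π' ^ (2 ^ e) = 1 := by
      rw [hπ', Equiv.Perm.subtypePerm_pow]
      ext η
      simp [hπ]
    have hsum := PowTwist.sum_eq_sum_fixed_perm π' e hπ'e
      (fun χ => ((n χ.1 * charDegree (χ.1 : G → ℂ) : ℕ) : ZMod 2))
      fun χ => by rw [hπ', Equiv.Perm.subtypePerm_apply, hnπ, hπdeg]
    have hne : (∑ χ : {χ // χ ∈ B}, ((n χ.1 * charDegree (χ.1 : G → ℂ) : ℕ) : ZMod 2)) ≠ 0 := by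
      intro h0
      rw [← Nat.cast_sum, ZMod.natCast_eq_zero_iff] at h0
      have hmem := (memLocalIdeal_natCast_iff hM).2 h0
      have heq : blockPart B θ 1 =
          ((∑ χ : {χ // χ ∈ B}, n χ.1 * charDegree (χ.1 : G → ℂ) : ℕ) : ℂ) := by
        rw [blockPart_eq_sum_inner, Nat.cast_sum, Finset.sum_subtype (p := fun χ => χ ∈ B) _
          (fun χ => by simp)]
        refine Finset.sum_congr rfl fun χ _ => ?_
        rw [hn, (irr_one _).1, Nat.cast_mul]
      rw [← heq, h1, hθ1] at hmem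
      exact not_memLocalIdeal_mul (natCast_mem_localRing _) hidx hcoeff hmem
    obtain ⟨χ, hχ, hχne⟩ := Finset.exists_ne_zero_of_sum_ne_zero (hsum ▸ hne)
    have hodd := Nat.odd_mul.1 (ZMod.natCast_ne_zero_iff_odd.1 hχne)
    refine ⟨χ.1, χ.2, fun g => ?_, hodd.2, ?_⟩
    · have h := (Finset.mem_filter.1 hχ).2
      rw [hπ'] at h
      rw [← hπa, show π χ.1 = χ.1 from congrArg Subtype.val h]
    · rw [hn, Nat.cast_ne_zero]
      exact hodd.1.pos.ne'
  obtain ⟨χ, hχB, hχk, hχd, hχθ⟩ := hexists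
  have hχ1 : (χ : G → ℂ) 1 = 1 := by
    rw [(irr_one χ).1, hdeg χ hχB hχd hχk, Nat.cast_one]
  obtain ⟨μ, hμ⟩ := IsCharacter.exists_hom (IsIrrCharacter.isCharacter χ.2) hχ1
  refine ⟨μ, ?_⟩
  rw [hθ, classInner_indFun _ (isClassFunction_irr χ)] at hχθ
  let ψ : (P : Subgroup G) →* ℂˣ := μ.comp (P : Subgroup G).subtype
  have h' := classInner_irr (⟨_, isIrrCharacter_ofHom lam⟩ : IrrCharacter (P : Subgroup G))
    ⟨_, isIrrCharacter_ofHom ψ⟩
  by_contra hne
  rw [if_neg (fun h => hne fun x => Units.ext (congrFun (congrArg Subtype.val h) x).symm)] at h'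
  apply hχθ
  rw [← h']
  simp [hμ, ψ]

/-- Let G be a finite group and M a maximal ideal of the algebraic integers containing 2. Let k be a natural number with g ^ k = g ^ 3 for every 2-element g and g ^ k = g for every element g of odd order (such k exist); an irreducible character χ is unchanged by g ↦ g ^ k exactly when it is fixed by the field automorphism that cubes the 2-power roots of unity and fixes the roots of unity of odd order. Then G has a normal 2-complement if and only if every member χ of the principal 2-block of odd degree with χ (g ^ k) = χ g for all g has degree one. -/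
theorem result {G : Type*} [Group G] [Finite G] (M : Ideal Cfsg.AlgInt) (hM : Cfsg.IsPModular 2 M) (k : ℕ) (hk₁ : ∀ g : G, (∃ j : ℕ, orderOf g = 2 ^ j) → g ^ k = g ^ 3) (hk₂ : ∀ g : G, Odd (orderOf g) → g ^ k = g) : Cfsg.HasNormalPComplement 2 G ↔ ∀ χ ∈ Cfsg.principalBlock M G, Odd (Cfsg.charDegree (χ : G → ℂ)) → (∀ g : G, (χ : G → ℂ) (g ^ k) = (χ : G → ℂ) g) → Cfsg.charDegree (χ : G → ℂ) = 1 := by
  classical
  have := Fintype.ofFinite G
  have : M.IsPrime := hM.2.1.isPrime
  have : Fact (Nat.Prime 2) := ⟨Nat.prime_two⟩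
  obtain ⟨k', e, hk', hke, hkk⟩ := exists_exponent k hk₁ hk₂
  constructor
  · rintro ⟨P, N, hN, hNP⟩ χ hχ hodd -
    obtain ⟨hc, i, hi⟩ := CfsgLib.PResidual.card_coprime_of_isComplement' P hNP
    have := hN
    rw [principalBlock_of_complement hM N (Nat.prime_two.coprime_iff_not_dvd.1 hc.symm) ⟨i, hi⟩] at hχ
    obtain ⟨σ, hσ, hχσ⟩ := TwoClass.exists_deflate χ.2 hχ
    have := Fintype.ofFinite (G ⧸ N)
    have hdvd := charDegree_dvd_card (⟨σ, hσ⟩ : IrrCharacter (G ⧸ N))
    rw [← Subgroup.index_eq_card, hi, Nat.dvd_prime_pow Nat.prime_two] at hdvd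
    obtain ⟨j, -, hj⟩ := hdvd
    have e : charDegree (χ : G → ℂ) = charDegree σ := by
      simp only [charDegree, hχσ, QuotientGroup.mk_one]
    rw [e, hj] at hodd ⊢
    rcases Nat.eq_zero_or_pos j with rfl | hj0
    · rfl
    · exact absurd hodd (Nat.not_odd_iff_even.2 ((Nat.even_pow).2 ⟨even_two, hj0.ne'⟩))
  · intro hlin
    obtain ⟨P⟩ : Nonempty (Sylow 2 G) := inferInstance
    have hdeg : ∀ χ : IrrCharacter G, χ ∈ principalBlock M G → Odd (charDegree (χ : G → ℂ)) →
        (∀ g : G, (χ : G → ℂ) (g ^ k') = (χ : G → ℂ) g) → charDegree (χ : G → ℂ) = 1 :=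
      fun χ hχ ho hf => hlin χ hχ ho fun g => hkk g ▸ hf g
    have hfr : ∀ x : (P : Subgroup G), (x : G) ∈ Cfsg.pResidual 2 G →
        x ∈ frattini (P : Subgroup G) := by
      intro x hx
      by_contra hxf
      obtain ⟨C, hC, hxC⟩ : ∃ C : Subgroup (P : Subgroup G), IsCoatom C ∧ x ∉ C := by
        by_contra hne
        push Not at hne
        exact hxf (Subgroup.mem_iInf.2 fun C => Subgroup.mem_iInf.2 fun hC => hne C hC)
      obtain ⟨-, hCi⟩ := CfsgLib.PGroupBasic.coatom_normal_index P.2 hC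
      let lam : (P : Subgroup G) →* ℂˣ := MonoidHom.mk' (fun y => if y ∈ C then 1 else -1)
        fun a b => by
          have h := Subgroup.mul_mem_iff_of_index_two hCi (a := a) (b := b)
          by_cases ha : a ∈ C <;> by_cases hb : b ∈ C <;> simp [ha, hb, h]
      obtain ⟨μ, hμ⟩ := exists_extension M hM k' e hk' hke hdeg P lam
        fun y => by simp only [lam, MonoidHom.mk'_apply]; split_ifs <;> simp
      obtain ⟨a, m, hm, hG⟩ := Nat.exists_eq_two_pow_mul_odd (Nat.card_pos (α := G)).ne'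
      have hker : Cfsg.pResidual 2 G ≤ (μ ^ m).ker := by
        rw [Cfsg.pResidual, Subgroup.closure_le]
        intro g hg
        have hgm : orderOf g ∣ m := (Nat.Coprime.pow_right a hg).dvd_of_dvd_mul_left
          (hG ▸ orderOf_dvd_natCard g)
        rw [SetLike.mem_coe, MonoidHom.mem_ker, MonoidHom.pow_apply, ← map_pow,
          orderOf_dvd_iff_pow_eq_one.1 hgm, map_one]
      have h1 := hker hx
      rw [MonoidHom.mem_ker, MonoidHom.pow_apply, hμ] at h1
      simp only [lam, MonoidHom.mk'_apply, if_neg hxC, hm.neg_one_pow] at h1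
      have h2 := congrArg Units.val h1
      norm_num at h2
    have hbot := CfsgLib.LocalB.Tate.inf_pResidual_eq_bot P hfr
    rw [CfsgLib.PResidual.hasNormalPComplement_iff]
    refine CfsgLib.PResidual.coprime_of_not_dvd Nat.prime_two fun hdvd => ?_
    obtain ⟨g, hg⟩ := exists_prime_orderOf_dvd_card' (G := Cfsg.pResidual 2 G) 2 hdvd
    have hgp : IsPGroup 2 (Subgroup.zpowers (g : G)) :=
      IsPGroup.of_card (n := 1) (by rw [Nat.card_zpowers, pow_one, Subgroup.orderOf_coe, hg])
    obtain ⟨Q, hQ⟩ := hgp.exists_le_sylow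
    obtain ⟨c, hc⟩ := MulAction.exists_smul_eq G Q P
    have h1 : c * g * c⁻¹ ∈ (P : Subgroup G) := by
      rw [← hc, Sylow.coe_subgroup_smul]
      exact Subgroup.smul_mem_pointwise_smul (g : G) (MulAut.conj c) (Q : Subgroup G)
        (hQ (Subgroup.mem_zpowers _))
    have h2 : c * g * c⁻¹ = 1 := congrArg Subtype.val
      (hbot ⟨_, h1⟩ (Subgroup.Normal.conj_mem inferInstance _ g.2 c))
    rw [conj_eq_one_iff] at h2
    rw [← Subgroup.orderOf_coe, h2, orderOf_one] at hg
    exact Nat.prime_two.ne_one hg.symm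

end Cfsg.Agent.S4549
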