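import Cfsg.Statements.S4551
import Cfsg.Agent.Blocks.AlperinIso

set_option autoImplicit false
open Cfsg

namespace Cfsg.Agent.S4551

/-- Let N be a normal subgroup of the finite group G of index prime to p, P a Sylow p-subgroup of G with G = N·C_G(P), and M a maximal ideal of the algebraic integers containing p. Then restriction to N is a bijection from the principal p-block of G onto the principal p-block of N: every member of the principal block of G restricts to a member of the principal block of N, and every member of the principal block of N is the restriction of exactly one member of the principal block of G. -/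
theorem result {G : Type*} [Group G] [Finite G] (p : ℕ) [Fact p.Prime] (M : Ideal Cfsg.AlgInt) (hM : Cfsg.IsPModular p M) (N : Subgroup G) [N.Normal] (hidx : ¬ p ∣ N.index) (P : Sylow p G) (hsup : N ⊔ Subgroup.centralizer ((P : Subgroup G) : Set G) = ⊤) : (∀ χ ∈ Cfsg.principalBlock M G, ∃ θ ∈ Cfsg.principalBlock M ↥N, ∀ n : N, (χ : G → ℂ) n = (θ : N → ℂ) n) ∧ ∀ θ ∈ Cfsg.principalBlock M ↥N, ∃! χ : Cfsg.IrrCharacter G, χ ∈ Cfsg.principalBlock M G ∧ ∀ n : N, (χ : G → ℂ) n = (θ : N → ℂ) n := by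
  classical
  haveI := hM.2.1.isPrime
  haveI := Fintype.ofFinite G
  haveI := Fintype.ofFinite N
  have hPN : (P : Subgroup G) ≤ N := by
    intro x hx
    obtain ⟨k, hk⟩ := IsPGroup.iff_orderOf.1 P.isPGroup' ⟨x, hx⟩
    rw [Subgroup.orderOf_mk] at hk
    rw [← QuotientGroup.eq_one_iff]
    have h1 : orderOf (x : G ⧸ N) ∣ p ^ k := hk ▸ orderOf_map_dvd (QuotientGroup.mk' N) x
    have h2 : orderOf (x : G ⧸ N) ∣ N.index := orderOf_dvd_natCard _
    exact orderOf_eq_one_iff.1 (Nat.eq_one_of_dvd_coprimes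
      (Nat.Coprime.pow_left k ((Fact.out : p.Prime).coprime_iff_not_dvd.2 hidx)) h1 h2)
  have hmap : ((P.subtype hPN : Subgroup N).map N.subtype : Subgroup G) = (P : Subgroup G) := by
    rw [Sylow.coe_subtype, Subgroup.map_subgroupOf_eq_of_le hPN]
  have hsup' : N ⊔ Subgroup.centralizer
      (((P.subtype hPN : Subgroup N).map N.subtype : Subgroup G) : Set G) = ⊤ := by
    rw [hmap]; exact hsup
  have hcov : ∀ g : G, ∃ a ∈ N, ∃ c : G,
      (∀ u : (P.subtype hPN : Subgroup N), ((u : N) : G) * c = c * ((u : N) : G)) ∧ a * c = g := by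
    intro g
    obtain ⟨a, ha, c, hc, h⟩ := Subgroup.mem_sup_of_normal_left.1
      (hsup' ▸ Subgroup.mem_top g : g ∈ N ⊔ _)
    exact ⟨a, ha, c, fun u => Subgroup.mem_centralizer_iff.1 hc _ ⟨u.1, u.2, rfl⟩, h⟩
  refine ⟨fun χ hχ => ?_, fun θ hθ => ?_⟩
  · obtain ⟨θ, hθ, hc⟩ := CfsgLib.Block.Alperin.exists_principal_constituent (N := N) hχ
    obtain ⟨ψ, hψ, hres⟩ :=
      CfsgLib.Block.Alperin.exists_principal_extension hM hidx (P.subtype hPN) hsup' hθ
    obtain rfl := CfsgLib.Block.Alperin.eq_extension hM hidx (P.subtype hPN) hcov hψ hres hχ hc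
    exact ⟨θ, hθ, hres⟩
  · obtain ⟨ψ, hψ, hres⟩ :=
      CfsgLib.Block.Alperin.exists_principal_extension hM hidx (P.subtype hPN) hsup' hθ
    refine ⟨ψ, ⟨hψ, hres⟩, fun χ hχ => ?_⟩
    refine CfsgLib.Block.Alperin.eq_extension hM hidx (P.subtype hPN) hcov hψ hres hχ.1 ?_
    rw [show (fun a : N => (χ : G → ℂ) a) = (θ : N → ℂ) from funext hχ.2,
      CfsgLib.Char.IsIrrCharacter.classInner_self θ.2]
    exact one_ne_zero

end Cfsg.Agent.S4551
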