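import Cfsg.Statements.S4558
import Cfsg.Agent.Blocks.Congr

set_option autoImplicit false
open Cfsg

namespace Cfsg.Agent.S4558

/-- Let χ be a character of the finite group G and g an element of p-power order for the prime p. If χ g = 0, then p divides the degree of χ. -/
theorem result {G : Type*} [Group G] [Finite G] (p : ℕ) [Fact p.Prime] (χ : G → ℂ) (hχ : Cfsg.IsCharacter G χ) (g : G) (hg : ∃ j : ℕ, orderOf g = p ^ j) (h0 : χ g = 0) : p ∣ Cfsg.charDegree χ := by
  classical
  obtain ⟨M, hM⟩ := CfsgLib.Block.exists_isPModular (Fact.out : p.Prime)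
  haveI := hM.2.1.isPrime
  obtain ⟨j, hj⟩ := hg
  obtain ⟨n, hn⟩ := CfsgLib.Char.IsCharacter.exists_degree hχ
  have hd : Cfsg.charDegree χ = n := by
    rw [Cfsg.charDegree, hn]; simp
  have h := CfsgLib.Block.char_cong_pPart hM hχ (Commute.one_right g) (n := j)
    (hj ▸ pow_orderOf_eq_one g) (m := 1) hM.1.not_dvd_one (one_pow 1)
  rw [mul_one, h0, hn] at h
  rw [hd, ← CfsgLib.Block.memLocalIdeal_natCast_iff hM]
  simpa using CfsgLib.Block.memLocalIdeal_neg h

end Cfsg.Agent.S4558
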