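import Cfsg.Statements.S4563
import Cfsg.Agent.RamifiedFrobenius.Regular
import Cfsg.Agent.Solvable.Criteria

set_option autoImplicit false
open Cfsg

namespace Cfsg.Agent.S4563

/-- Let χ be an irreducible character of the finite group H that is fully ramified over the normal subgroup Z: the restriction of χ to Z is e times an irreducible character of Z with e ^ 2 equal to the index of Z. If K is a proper normal subgroup of H containing Z and χ is induced from a character of K, then H/K is solvable; in particular, if K is solvable then so is H. -/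
theorem result {H : Type*} [Group H] [Fintype H] (Z : Subgroup H) [Z.Normal] (χ : Cfsg.IrrCharacter H) (hfr : ∃ (θ : Cfsg.IrrCharacter ↥Z) (e : ℕ), e ^ 2 = Z.index ∧ ∀ z : ↥Z, (χ : H → ℂ) z = (e : ℂ) * (θ : ↥Z → ℂ) z) (K : Subgroup H) [K.Normal] [Fintype K] (hZK : Z ≤ K) (hK : K ≠ ⊤) (φ : ↥K → ℂ) (hφ : Cfsg.IsCharacter ↥K φ) (hind : Cfsg.indFun K φ = (χ : H → ℂ)) : Group.IsSolvable (H ⧸ K) ∧ (Group.IsSolvable ↥K → Group.IsSolvable H) := by
  classical
  obtain ⟨θ, e, he, hres⟩ := hfr
  haveI := Fintype.ofFinite Z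
  have hI : CfsgLib.Char.inertia (θ : ↥Z → ℂ) = ⊤ := by
    have he0 : (e : ℂ) ≠ 0 := fun h => by
      have h' : e = 0 := by exact_mod_cast h
      rw [h', zero_pow two_ne_zero] at he
      exact Subgroup.index_ne_zero_of_finite he.symm
    refine CfsgLib.Char.inertia_eq_top fun g n => ?_
    refine mul_left_cancel₀ he0 ?_
    rw [← hres, ← hres]
    exact CfsgLib.Char.IsIrrCharacter.isClassFunction χ.2 (n : H) g
  have hsol : Group.IsSolvable (H ⧸ K) := by
    refine CfsgLib.Criteria.complements_aux _ (H ⧸ K) rfl fun p hp => ?_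
    haveI := Fact.mk hp
    obtain ⟨P⟩ : Nonempty (Sylow p H) := inferInstance
    exact CfsgLib.RamifiedSylow.complement_of_induced θ.2 hI χ.2 he hres hZK hφ hind P
  refine ⟨hsol, fun hK' => ?_⟩
  exact (Group.isSolvable_iff_subgroup_quotient K).2 ⟨hK', hsol⟩

end Cfsg.Agent.S4563
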