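import Cfsg.Statements.S4564
import Cfsg.Agent.RamifiedFrobenius.Regular

set_option autoImplicit false
open Cfsg

namespace Cfsg.Agent.S4564

/-- Let χ be an irreducible character of the finite group H that is fully ramified over the normal subgroup Z: the restriction of χ to Z is e times an irreducible character of Z with e ^ 2 equal to the index of Z. Let K be a normal subgroup of H containing Z and P a cyclic Sylow p-subgroup of H/K. Then P has a complement in H/K: a subgroup meeting P trivially whose product with P is the whole group. -/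
theorem result {H : Type*} [Group H] [Finite H] (Z : Subgroup H) [Z.Normal] (χ : Cfsg.IrrCharacter H) (hfr : ∃ (θ : Cfsg.IrrCharacter ↥Z) (e : ℕ), e ^ 2 = Z.index ∧ ∀ z : ↥Z, (χ : H → ℂ) z = (e : ℂ) * (θ : ↥Z → ℂ) z) (K : Subgroup H) [K.Normal] (hZK : Z ≤ K) (p : ℕ) [Fact p.Prime] (P : Sylow p (H ⧸ K)) (hcyc : IsCyclic P) : ∃ M : Subgroup (H ⧸ K), M.IsComplement' (P : Subgroup (H ⧸ K)) := by
  classical
  obtain ⟨θ, e, he, hres⟩ := hfr
  haveI := Fintype.ofFinite H
  haveI := Fintype.ofFinite Z
  have hI : CfsgLib.Char.inertia (θ : ↥Z → ℂ) = ⊤ := by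
    have he0 : (e : ℂ) ≠ 0 := fun h => by
      have h' : e = 0 := by exact_mod_cast h
      rw [h', zero_pow two_ne_zero] at he
      exact Subgroup.index_ne_zero_of_finite he.symm
    refine CfsgLib.Char.inertia_eq_top fun g n => ?_
    refine mul_left_cancel₀ he0 ?_
    rw [← hres, ← hres]
    exact CfsgLib.Char.IsIrrCharacter.isClassFunction χ.2 (n : H) g
  obtain ⟨Q, hQ⟩ := Sylow.mapSurjective_surjective (QuotientGroup.mk'_surjective K) p P
  have hQ' : (Q : Subgroup H).map (QuotientGroup.mk' K) = (P : Subgroup (H ⧸ K)) := by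
    rw [← Sylow.coe_mapSurjective (QuotientGroup.mk'_surjective K) Q, hQ]
  obtain ⟨S, hS⟩ := CfsgLib.RamifiedSylow.complement_of_cyclic θ.2 hI χ.2 he hres hZK Q (hQ'.symm ▸ hcyc)
  have hpow : 0 < p ^ (Nat.card (H ⧸ K)).factorization p := pow_pos (Fact.out : p.Prime).pos _
  have hcS := S.card_mul_index
  have hcP := P.card_eq_multiplicity
  have hPi := (P : Subgroup (H ⧸ K)).card_mul_index
  have hcard : Nat.card S = (P : Subgroup (H ⧸ K)).index := by
    refine Nat.eq_of_mul_eq_mul_left hpow ?_
    rw [← hcP, hPi, mul_comm, hcP, ← hS, hcS]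
  refine ⟨S, Subgroup.isComplement'_of_coprime ?_ ?_⟩
  · rw [← hcS, hS, ← hcP]
  · rw [hcard, hcP]
    exact (((Fact.out : p.Prime).coprime_iff_not_dvd.2 P.not_dvd_index).pow_left _).symm

end Cfsg.Agent.S4564
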