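import Cfsg.Statements.S4565
import Cfsg.Agent.Char.NormalSub
import Cfsg.Agent.S0886

set_option autoImplicit false
open Cfsg
open scoped ComplexConjugate
open CfsgLib.Char

namespace Cfsg.Agent.S4565

/-- Let χ be an irreducible character of the finite group H that is fully ramified over the normal subgroup Z: the restriction of χ to Z is e times an irreducible character of Z with e ^ 2 equal to the index of Z. If Z ≠ H, then H/Z has no cyclic subgroup that is its own centralizer. -/
theorem result {H : Type*} [Group H] [Finite H] (Z : Subgroup H) [Z.Normal] (χ : Cfsg.IrrCharacter H) (hfr : ∃ (θ : Cfsg.IrrCharacter ↥Z) (e : ℕ), e ^ 2 = Z.index ∧ ∀ z : ↥Z, (χ : H → ℂ) z = (e : ℂ) * (θ : ↥Z → ℂ) z) (hZ : Z ≠ ⊤) (C : Subgroup (H ⧸ Z)) (hC : IsCyclic C) : Subgroup.centralizer (C : Set (H ⧸ Z)) ≠ C := by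
  classical
  intro heq
  haveI : Fintype H := Fintype.ofFinite H
  haveI : Fintype ↥Z := Fintype.ofFinite _
  obtain ⟨x', hx'⟩ := hC.exists_generator
  obtain ⟨x, hx⟩ := QuotientGroup.mk_surjective (x' : H ⧸ Z)
  have hCgen : ∀ c ∈ C, ∃ i : ℤ, (x : H ⧸ Z) ^ i = c := fun c hc => by
    obtain ⟨i, hi⟩ := hx' ⟨c, hc⟩
    exact ⟨i, by rw [hx, ← Subgroup.coe_zpow]; exact congrArg Subtype.val hi⟩
  have hxC : (x : H ⧸ Z) ∈ C := hx ▸ x'.2
  have hcent : ∀ g : H, g⁻¹ * x * g * x⁻¹ ∈ Z → (g : H ⧸ Z) ∈ C := by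
    intro g hg
    rw [← heq, Subgroup.mem_centralizer_iff]
    intro c hc
    obtain ⟨i, rfl⟩ := hCgen c hc
    have h1 : Commute (x : H ⧸ Z) (g : H ⧸ Z) := by
      rw [← QuotientGroup.eq_one_iff] at hg
      simp only [QuotientGroup.mk_mul, QuotientGroup.mk_inv] at hg
      rw [mul_inv_eq_one] at hg
      show (x : H ⧸ Z) * g = g * x
      calc (x : H ⧸ Z) * g = g * ((g : H ⧸ Z)⁻¹ * x * g) := by group
        _ = g * x := by rw [hg]
    exact (h1.zpow_left i).eq
  obtain ⟨θ, e, he, hres⟩ := hfr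
  have hres' : (fun n : Z => (χ : H → ℂ) n) = (e : ℂ) • (θ : Z → ℂ) := funext hres
  have he0 : (e : ℂ) ≠ 0 := by
    intro h
    have : e = 0 := by exact_mod_cast h
    rw [this, zero_pow two_ne_zero] at he
    exact Z.index_ne_zero_of_finite he.symm
  have hcon : Cfsg.classInner (fun n : Z => (χ : H → ℂ) n) (θ : Z → ℂ) ≠ 0 := by
    rw [hres', classInner_smul_left, IsIrrCharacter.classInner_self θ.2, mul_one]
    exact he0
  obtain ⟨tA, tB⟩ := fully_ramified_tfae χ.2 θ.2 hcon
  obtain ⟨hvan, hI⟩ := tA.1 ⟨e, hres', he⟩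
  obtain ⟨-, honly⟩ := tB.1 ⟨e, hres', he⟩
  have hinvZ : ∀ (g : H) (n : Z), (θ : Z → ℂ) ⟨g * n * g⁻¹, Subgroup.Normal.conj_mem inferInstance (n : H) n.2 g⟩ = (θ : Z → ℂ) n :=
    fun g n => (mem_inertia_iff (θ : Z → ℂ) g).1 (hI ▸ Subgroup.mem_top g) n
  -- the preimage of `C`
  set D : Subgroup H := C.comap (QuotientGroup.mk' Z) with hD
  have hZD : Z ≤ D := fun z hz => by
    show (z : H ⧸ Z) ∈ C
    rw [(QuotientGroup.eq_one_iff z).2 hz]; exact one_mem C
  have hxD : x ∈ D := hxC
  haveI : Fintype ↥D := Fintype.ofFinite _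
  set N : Subgroup D := Z.subgroupOf D with hN
  haveI : N.Normal := inferInstance
  haveI : Fintype ↥N := Fintype.ofFinite _
  have hcycD : IsCyclic (D ⧸ N) := by
    refine ⟨⟨((⟨x, hxD⟩ : D) : D ⧸ N), fun q => ?_⟩⟩
    obtain ⟨g, rfl⟩ := QuotientGroup.mk_surjective q
    obtain ⟨i, hi⟩ := hCgen _ g.2
    refine ⟨i, ?_⟩
    show ((⟨x, hxD⟩ : D) : D ⧸ N) ^ i = _
    rw [← QuotientGroup.mk_zpow, QuotientGroup.eq]
    show (((⟨x, hxD⟩ : D) ^ i)⁻¹ * g : D).1 ∈ Z
    rw [← QuotientGroup.eq_one_iff]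
    show (((x ^ i)⁻¹ * (g : H) : H) : H ⧸ Z) = 1
    rw [QuotientGroup.mk_mul, QuotientGroup.mk_inv, QuotientGroup.mk_zpow, hi, QuotientGroup.mk'_apply,
      inv_mul_cancel]
  let eN : N ≃* Z := Subgroup.subgroupOfEquivOfLe hZD
  let ϑ : N → ℂ := fun n => (θ : Z → ℂ) (eN n)
  have hϑ : Cfsg.IsIrrCharacter N ϑ := IsIrrCharacter.comp_surjective θ.2 eN.toMonoidHom eN.surjective
  obtain ⟨ψ, hψ, hψres⟩ := Cfsg.Agent.S0886.result N hcycD ϑ hϑ fun g n => hinvZ (g : H) (eN n)
  have hψcl := IsIrrCharacter.isClassFunction hψ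
  have hψN : Cfsg.IsIrrCharacter N (fun n : N => ψ n) := by rw [funext hψres]; exact hϑ
  -- `ψ` on the coset of `x`, cut off
  let f : D → ℂ := fun d => if (d : H) * x⁻¹ ∈ Z then ψ d else 0
  have hf : ∀ (n : N), f ((n : D) * ⟨x, hxD⟩) = ψ ((n : D) * ⟨x, hxD⟩) := fun n => by
    refine if_pos ?_
    show ((n : D) : H) * x * x⁻¹ ∈ Z
    rw [mul_inv_cancel_right]; exact n.2
  have horth : ∀ φ : H → ℂ, Cfsg.IsIrrCharacter H φ →
      Cfsg.classInner f (fun d : D => φ d) = 0 := by
    intro φ hφ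
    rw [classInner_def, mul_eq_zero]
    right
    have hsum : ∑ d : D, f d * conj (φ d) =
        ∑ n : N, ψ ((n : D) * ⟨x, hxD⟩) * conj (φ (((n : D) * ⟨x, hxD⟩ : D) : H)) := by
      refine (Finset.sum_of_injOn (fun n : N => (n : D) * ⟨x, hxD⟩) ?_ ?_ ?_ ?_).symm
      · intro a _ b _ h; exact Subtype.ext (mul_right_cancel h)
      · exact fun _ _ => Finset.mem_univ _
      · intro d _ hd
        rw [show f d = 0 from if_neg fun h => hd ⟨⟨d * (⟨x, hxD⟩ : D)⁻¹, h⟩, Finset.mem_univ _, by simp⟩,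
          zero_mul]
      · intro n _
        rw [hf]
    rw [hsum]
    by_cases hφχ : φ = (χ : H → ℂ)
    · refine Finset.sum_eq_zero fun n _ => ?_
      subst hφχ
      rw [hvan _ fun h => ?_, map_zero, mul_zero]
      refine hZ ?_
      have hx1 : (x : H ⧸ Z) = 1 := (QuotientGroup.eq_one_iff x).2 (by
        simpa using mul_mem (inv_mem n.2 : ((n : D) : H)⁻¹ ∈ Z) h)
      rw [eq_top_iff]
      intro g _
      obtain ⟨i, hi⟩ := hCgen _ (hcent g (by
        rw [← QuotientGroup.eq_one_iff]; simp [hx1]))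
      exact (QuotientGroup.eq_one_iff g).1 (by rw [← hi, hx1, one_zpow])
    · have hφ0 : Cfsg.classInner (fun n : Z => φ n) (θ : Z → ℂ) = 0 := by
        by_contra h
        exact hφχ (honly φ hφ
          ((classInner_indFun_ne_zero_iff (IsIrrCharacter.isClassFunction hφ) _).2 h))
      have hφD : Cfsg.IsCharacter D (fun d : D => φ d) :=
        IsCharacter.restrict (IsIrrCharacter.isCharacter hφ) D
      have hsumN : Cfsg.classInner (fun n : N => φ ((n : D) : H)) (fun n : N => ψ n) = 0 := by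
        rw [← hφ0, funext hψres, classInner_def, classInner_def, Nat.card_congr eN.toEquiv]
        congr 1
        exact Fintype.sum_equiv eN.toEquiv _ _ fun n => rfl
      have hexp := eq_sum_irr (IsCharacter.isClassFunction hφD)
      choose! k hk using fun ρ (hρ : ρ ∈ irrFinset (G := D)) =>
        IsCharacter.exists_classInner_eq_natCast hφD (mem_irrFinset.1 hρ)
      choose! m hm using fun ρ (hρ : ρ ∈ irrFinset (G := D)) =>
        IsCharacter.exists_classInner_eq_natCast
          (IsCharacter.restrict (IsIrrCharacter.isCharacter (mem_irrFinset.1 hρ)) N) hψN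
      have hkm : ∑ ρ ∈ irrFinset (G := D), k ρ * m ρ = 0 := by
        have h1 : (fun n : N => φ ((n : D) : H)) =
            ∑ ρ ∈ irrFinset (G := D), (k ρ : ℂ) • (fun n : N => ρ n) := by
          funext n
          have := congrFun hexp (n : D)
          simp only [Finset.sum_apply, Pi.smul_apply] at this ⊢
          rw [this]
          exact Finset.sum_congr rfl fun ρ hρ => by rw [hk ρ hρ]
        rw [h1, classInner_sum_left] at hsumN
        rw [Finset.sum_congr rfl fun ρ hρ => show Cfsg.classInner ((k ρ : ℂ) • fun n : N => ρ n)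
            (fun n : N => ψ n) = ((k ρ * m ρ : ℕ) : ℂ) by
          rw [classInner_smul_left, hm ρ hρ, Nat.cast_mul]] at hsumN
        exact_mod_cast hsumN
      calc ∑ n : N, ψ ((n : D) * ⟨x, hxD⟩) * conj (φ (((n : D) * ⟨x, hxD⟩ : D) : H))
          = conj (∑ n : N, φ (((n : D) * ⟨x, hxD⟩ : D) : H) * conj (ψ ((n : D) * ⟨x, hxD⟩))) := by
            rw [map_sum]
            exact Finset.sum_congr rfl fun n _ => by rw [map_mul, Complex.conj_conj, mul_comm]
        _ = conj (∑ ρ ∈ irrFinset (G := D), (k ρ : ℂ) *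
              ∑ n : N, ρ ((n : D) * ⟨x, hxD⟩) * conj (ψ ((n : D) * ⟨x, hxD⟩))) := by
            congr 1
            simp only [Finset.mul_sum]
            rw [Finset.sum_comm]
            refine Finset.sum_congr rfl fun n _ => ?_
            have h2 := congrFun hexp ((n : D) * ⟨x, hxD⟩)
            simp only [Finset.sum_apply, Pi.smul_apply, smul_eq_mul] at h2
            rw [h2, Finset.sum_mul]
            exact Finset.sum_congr rfl fun ρ hρ => by rw [hk ρ hρ, mul_assoc]
        _ = 0 := by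
            rw [Finset.sum_eq_zero fun ρ hρ => ?_, map_zero]
            rcases Nat.mul_eq_zero.1 (Finset.sum_eq_zero_iff.1 hkm ρ hρ) with h | h
            · rw [h, Nat.cast_zero, zero_mul]
            · have h3 := congrFun ((cosetAverage_spec hψ hψN (mem_irrFinset.1 hρ)).2.1
                (by rw [hm ρ hρ, h, Nat.cast_zero])) ⟨x, hxD⟩
              simp only [Pi.zero_apply, mul_eq_zero, inv_eq_zero] at h3
              rw [h3.resolve_left (by exact_mod_cast Nat.card_pos.ne'), mul_zero]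
  have hF : Cfsg.indFun D f = 0 := eq_zero_of_classInner_eq_zero (isClassFunction_indFun D f)
    fun φ hφ => by
      rw [classInner_indFun f (IsIrrCharacter.isClassFunction hφ), ← classInner_conj, map_eq_zero]
      have := horth φ hφ
      rw [← classInner_conj, map_eq_zero] at this
      exact this
  -- the value of the induced function on the coset
  have hzero : ∀ n : N, ψ ((n : D) * ⟨x, hxD⟩) = 0 := by
    intro n
    set y : D := (n : D) * ⟨x, hxD⟩ with hy
    have h0 := congrFun hF (y : H)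
    rw [Pi.zero_apply, Cfsg.indFun, mul_eq_zero] at h0
    have h0' := h0.resolve_left (inv_ne_zero (by exact_mod_cast Nat.card_pos.ne'))
    have hval : ∀ g : H, Cfsg.extendByZero D f (g⁻¹ * y * g) = if g ∈ D then ψ y else 0 := by
      intro g
      by_cases hg : g ∈ D
      · rw [if_pos hg, Cfsg.extendByZero]
        have : g⁻¹ * (y : H) * g = (((⟨g, hg⟩ : D)⁻¹ * y * ⟨g, hg⟩ : D) : H) := rfl
        rw [this, Subtype.val_injective.extend_apply]
        have hmem : (((⟨g, hg⟩ : D)⁻¹ * y * ⟨g, hg⟩ : D) : H) * x⁻¹ ∈ Z := by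
          rw [← QuotientGroup.eq_one_iff]
          have hcm : Commute (g : H ⧸ Z) (x : H ⧸ Z) := by
            obtain ⟨i, hi⟩ := hCgen _ hg
            rw [show (g : H ⧸ Z) = QuotientGroup.mk' Z g from rfl, ← hi]
            exact (Commute.refl _).zpow_left i
          show ((g⁻¹ * (((n : D) : H) * x) * g * x⁻¹ : H) : H ⧸ Z) = 1
          rw [QuotientGroup.mk_mul, QuotientGroup.mk_mul, QuotientGroup.mk_mul, QuotientGroup.mk_mul,
            QuotientGroup.mk_inv, QuotientGroup.mk_inv, (QuotientGroup.eq_one_iff ((n : D) : H)).2 n.2,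
            one_mul, mul_assoc (g : H ⧸ Z)⁻¹ _ (g : H ⧸ Z), ← hcm.eq, inv_mul_cancel_left, mul_inv_cancel]
        show (if _ then _ else _) = _
        rw [if_pos hmem]
        have h4 := hψcl y (⟨g, hg⟩ : D)⁻¹
        rwa [inv_inv] at h4
      · rw [if_neg hg, Cfsg.extendByZero]
        by_cases hd : g⁻¹ * (y : H) * g ∈ D
        · rw [show g⁻¹ * (y : H) * g = ((⟨_, hd⟩ : D) : H) from rfl, Subtype.val_injective.extend_apply]
          refine if_neg fun h => hg (hcent g ?_)
          rw [← QuotientGroup.eq_one_iff] at h ⊢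
          simp only [hy, Subgroup.coe_mul, QuotientGroup.mk_mul, QuotientGroup.mk_inv,
            (QuotientGroup.eq_one_iff ((n : D) : H)).2 n.2, one_mul] at h ⊢
          exact h
        · rw [Function.extend_apply' _ _ _ (by rintro ⟨⟨a, ha⟩, rfl⟩; exact hd ha), Pi.zero_apply]
    rw [Finset.sum_congr rfl fun g _ => hval g, Finset.sum_ite, Finset.sum_const_zero, add_zero,
      Finset.sum_const, smul_eq_zero] at h0'
    refine h0'.resolve_left ?_
    exact Finset.card_ne_zero.2 ⟨1, by simp⟩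
  have h1 := congrFun ((cosetAverage_spec hψ hψN hψ).2.2 rfl) ⟨x, hxD⟩
  simp only [hzero, zero_mul, Finset.sum_const_zero, mul_zero] at h1
  exact zero_ne_one h1

end Cfsg.Agent.S4565
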