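import Cfsg.Statements.S4566
import Cfsg.Agent.Char.GaloisConjugateDegrees
import Cfsg.Agent.Char.CyclicFamily

set_option autoImplicit false
open Cfsg
open scoped commutatorElement

namespace Cfsg.Agent.S4566

/-- Let N be a central subgroup of the finite group G, ψ a faithful irreducible (hence degree-one) character of N, and χ an irreducible character of G whose restriction to N contains ψ. If g ∈ G and some x ∈ G has commutator x⁻¹ g⁻¹ x g in N but different from 1, then χ g = 0. -/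
theorem result {G : Type*} [Group G] [Fintype G] (N : Subgroup G) [Fintype N] (hN : N ≤ Subgroup.center G) (ψ : Cfsg.IrrCharacter ↥N) (hfaith : ∀ n : ↥N, (ψ : ↥N → ℂ) n = (ψ : ↥N → ℂ) 1 → n = 1) (χ : Cfsg.IrrCharacter G) (hover : Cfsg.classInner (fun n : ↥N => (χ : G → ℂ) n) (ψ : ↥N → ℂ) ≠ 0) (g x : G) (hcomm : x⁻¹ * g⁻¹ * x * g ∈ N) (hne : x⁻¹ * g⁻¹ * x * g ≠ 1) : (χ : G → ℂ) g = 0 := by
  classical
  obtain ⟨lam, hlam⟩ := CfsgLib.EqualDegree.exists_central_hom χ.2
  have hψc := CfsgLib.Char.IsIrrCharacter.isCharacter ψ.2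
  have hψ1 : (ψ : ↥N → ℂ) 1 = 1 := CfsgLib.Char.IsIrrCharacter.apply_one_eq_one_of_commutators ψ.2
    fun a b => by
      have e : ⁅a, b⁆ = 1 := by
        rw [commutatorElement_eq_one_iff_mul_comm]
        exact Subtype.ext (Subgroup.mem_center_iff.mp (hN b.2) a)
      rw [← commutatorElement_def, e]
  obtain ⟨μ, hμ⟩ := CfsgLib.Char.IsCharacter.exists_hom hψc hψ1
  let ω : ↥N →* ℂˣ := lam.comp (Subgroup.inclusion hN)
  have hω : ω = μ := by
    by_contra hne
    apply hover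
    have e : (fun n : ↥N => (χ : G → ℂ) n) = fun n => (χ : G → ℂ) 1 * CfsgLib.Char.homFun ω n := by
      funext n
      have := hlam 1 (Subgroup.inclusion hN n)
      rw [Subgroup.coe_inclusion, one_mul] at this
      rw [this, mul_comm]; rfl
    have h0 := CfsgLib.Char.classInner_homFun ω μ
    rw [if_neg hne] at h0
    rw [e, hμ]
    simp only [Cfsg.classInner, CfsgLib.Char.homFun, mul_assoc, ← Finset.mul_sum] at h0 ⊢
    rw [mul_left_comm, h0, mul_zero]
  set c : ↥N := ⟨x⁻¹ * g⁻¹ * x * g, hcomm⟩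
  have hc : (ω c⁻¹ : ℂ) ≠ 1 := by
    intro h1
    refine hne ?_
    have h2 := hfaith c⁻¹ (by rw [hψ1, hμ]; exact hω ▸ h1)
    exact congrArg Subtype.val (inv_eq_one.mp h2)
  have h1 : (χ : G → ℂ) (g * ((c⁻¹ : ↥N) : G)) = (ω c⁻¹ : ℂ) * (χ : G → ℂ) g :=
    hlam g (Subgroup.inclusion hN c⁻¹)
  have h2 : (χ : G → ℂ) (x⁻¹ * g * x) = (χ : G → ℂ) g := by
    have := CfsgLib.Char.IsCharacter.isClassFunction
      (CfsgLib.Char.IsIrrCharacter.isCharacter χ.2) g x⁻¹
    rwa [inv_inv] at this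
  rw [show g * ((c⁻¹ : ↥N) : G) = x⁻¹ * g * x by simp [c, mul_assoc], h2] at h1
  by_contra h0
  exact hc (mul_right_cancel₀ h0 (h1.symm.trans (one_mul _).symm))

end Cfsg.Agent.S4566
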