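import Cfsg.Statements.S4567
import Cfsg.Agent.Char.BrauerPerm
import Cfsg.Agent.Char.DegreeSums
-- import your own Cfsg.Agent.* helpers here

set_option autoImplicit false
open Cfsg

namespace Cfsg.Agent.S4567

open CfsgLib.Char
open scoped ComplexConjugate

/-- Central elements act on a character by a scalar. -/
private theorem central_apply {G : Type*} [Group G] {χ : G → ℂ} (hχ : Cfsg.IsIrrCharacter G χ)
    {n : G} (hn : n ∈ Subgroup.center G) (g : G) : χ 1 * χ (g * n) = χ n * χ g := by
  obtain ⟨m, ρ, hρ, rfl⟩ := hχ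
  have h := eq_smul_one_of_commute ρ (ρ n) fun x => by
    rw [← map_mul, ← map_mul, Subgroup.mem_center_iff.1 hn x]
  have hd : (Module.finrank ℂ (Fin m → ℂ) : ℂ) ≠ 0 := by
    exact_mod_cast (finrank_pos_of_isIrreducible ρ).ne'
  have h2 : ρ.character (g * n) =
      LinearMap.trace ℂ _ (ρ n) / (Module.finrank ℂ (Fin m → ℂ) : ℂ) * ρ.character g := by
    show LinearMap.trace ℂ _ (ρ (g * n)) = _
    rw [map_mul, h, mul_smul_comm, mul_one, map_smul, smul_eq_mul, ← h]
    rfl
  rw [h2, ρ.char_one]
  show _ * (ρ.character n / _ * ρ.character g) = _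
  field_simp

/-- The classes of a finite group with a class-invariant property, counted through centralizers. -/
private theorem card_classes {Q : Type*} [Group Q] [Fintype Q] (P : Q → Prop) [DecidablePred P]
    (hP : ∀ a b : Q, IsConj a b → P a → P b) :
    ∑ q ∈ Finset.univ.filter P, Nat.card (Subgroup.centralizer ({q} : Set Q)) =
      Nat.card Q * Nat.card {C : ConjClasses Q // ∃ q, ConjClasses.mk q = C ∧ P q} := by
  classical
  haveI : Fintype (ConjClasses Q) := Fintype.ofFinite _
  rw [Nat.card_eq_fintype_card (α := {C : ConjClasses Q // ∃ q, ConjClasses.mk q = C ∧ P q}),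
    Fintype.card_subtype, mul_comm, ← smul_eq_mul, ← Finset.sum_const,
    ← Finset.sum_fiberwise_of_maps_to (g := ConjClasses.mk)
      (t := Finset.univ.filter fun C : ConjClasses Q => ∃ q, ConjClasses.mk q = C ∧ P q)
      fun q hq => Finset.mem_filter.2 ⟨Finset.mem_univ _, q, rfl, (Finset.mem_filter.1 hq).2⟩]
  refine Finset.sum_congr rfl fun C hC => ?_
  obtain ⟨-, q₀, hq₀, hPq⟩ := Finset.mem_filter.1 hC
  have hout : ConjClasses.mk C.out = C := Quotient.out_eq C
  have hconst : ∀ q ∈ (Finset.univ.filter P).filter (fun q => ConjClasses.mk q = C),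
      Nat.card (Subgroup.centralizer ({q} : Set Q)) =
        Nat.card (Subgroup.centralizer ({C.out} : Set Q)) := by
    intro q hq
    have hconj : IsConj q C.out := ConjClasses.mk_eq_mk_iff_isConj.1
      ((Finset.mem_filter.1 hq).2.trans hout.symm)
    have h1 := card_conj_class_mul_card_centralizer q
    have h2 := card_conj_class_mul_card_centralizer C.out
    have h3 : Nat.card {x : Q // IsConj q x} = Nat.card {x : Q // IsConj C.out x} :=
      Nat.card_congr (Equiv.subtypeEquivRight fun x =>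
        ⟨fun h => hconj.symm.trans h, fun h => hconj.trans h⟩)
    rw [h3, ← h2] at h1
    haveI : Nonempty {x : Q // IsConj C.out x} := ⟨⟨C.out, IsConj.refl _⟩⟩
    exact Nat.eq_of_mul_eq_mul_left Nat.card_pos h1
  rw [Finset.sum_congr rfl hconst, Finset.sum_const, smul_eq_mul, ← card_conj_class_fiber C,
    Nat.card_eq_fintype_card (α := {g : Q // ConjClasses.mk g = C}), Fintype.card_subtype]
  congr 2
  ext q
  simp only [Finset.mem_filter, Finset.mem_univ, true_and, and_iff_right_iff_imp]
  exact fun h => hP q₀ q (ConjClasses.mk_eq_mk_iff_isConj.1 (hq₀.trans h.symm)) hPq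

/-- Let N be a central subgroup of the finite group G and ψ a faithful irreducible (hence degree-one) character of N. Call a coset g N special when every x ∈ G whose commutator x⁻¹ g⁻¹ x g lies in N actually commutes with g (this depends only on the coset). Then the number of irreducible characters of G whose restriction to N contains ψ equals the number of conjugacy classes of G/N consisting of special cosets. -/
theorem result {G : Type*} [Group G] [Fintype G] (N : Subgroup G) [N.Normal] [Fintype N] (hN : N ≤ Subgroup.center G) (ψ : Cfsg.IrrCharacter ↥N) (hfaith : ∀ n : ↥N, (ψ : ↥N → ℂ) n = (ψ : ↥N → ℂ) 1 → n = 1) : Nat.card {χ : Cfsg.IrrCharacter G // Cfsg.classInner (fun n : ↥N => (χ : G → ℂ) n) (ψ : ↥N → ℂ) ≠ 0} = Nat.card {C : ConjClasses (G ⧸ N) // ∃ g : G, ConjClasses.mk (g : G ⧸ N) = C ∧ ∀ x : G, x⁻¹ * g⁻¹ * x * g ∈ N → x * g = g * x} := by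
  classical
  have hN0 : (Nat.card N : ℂ) ≠ 0 := Nat.cast_ne_zero.2 Nat.card_pos.ne'
  have hG0 : (Nat.card G : ℂ) ≠ 0 := Nat.cast_ne_zero.2 Nat.card_pos.ne'
  obtain ⟨lam, hlam⟩ : ∃ lam : N →* ℂˣ, (ψ : N → ℂ) = fun n => (lam n : ℂ) :=
    IsCharacter.exists_hom (IsIrrCharacter.isCharacter ψ.2) (IsIrrCharacter.apply_one_eq_one ψ.2
      fun a b => Subtype.ext (Subgroup.mem_center_iff.1 (hN b.2) a))
  have hlam_inj : ∀ n : N, (lam n : ℂ) = 1 → n = 1 := fun n hn =>
    hfaith n (by rw [hlam]; simpa using hn)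
  set S := (irrFinset G).filter
    (fun χ => Cfsg.classInner (fun n : N => χ n) (ψ : N → ℂ) ≠ 0) with hS
  have hcard : Nat.card {χ : Cfsg.IrrCharacter G //
      Cfsg.classInner (fun n : N => (χ : G → ℂ) n) (ψ : N → ℂ) ≠ 0} = S.card := by
    rw [← Fintype.card_coe, ← Nat.card_eq_fintype_card]
    exact Nat.card_congr
      { toFun := fun χ => ⟨χ.1.1, Finset.mem_filter.2 ⟨mem_irrFinset.2 χ.1.2, χ.2⟩⟩
        invFun := fun θ => ⟨⟨θ.1, mem_irrFinset.1 (Finset.mem_filter.1 θ.2).1⟩,
          (Finset.mem_filter.1 θ.2).2⟩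
        left_inv := fun _ => rfl
        right_inv := fun _ => rfl }
  -- the twisted value sum selects the characters over `ψ`
  have hsel : ∀ χ ∈ irrFinset G, ∀ g : G,
      ∑ n : N, conj (lam n : ℂ) * χ (g * n) = if χ ∈ S then (Nat.card N : ℂ) * χ g else 0 := by
    intro χ hχ g
    have hχ' := mem_irrFinset.1 hχ
    have hd := IsIrrCharacter.apply_one_ne_zero hχ'
    refine mul_left_cancel₀ hd ?_
    rw [Finset.mul_sum, Finset.sum_congr rfl fun n _ => by
      rw [mul_left_comm, central_apply hχ' (hN n.2) g, ← mul_assoc], ← Finset.sum_mul]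
    set s := ∑ n : N, conj (lam n : ℂ) * χ n with hs
    have hinner : Cfsg.classInner (fun n : N => χ n) (ψ : N → ℂ) = (Nat.card N : ℂ)⁻¹ * s := by
      rw [classInner_def, hs, hlam]
      congr 1
      exact Finset.sum_congr rfl fun n _ => mul_comm _ _
    by_cases hmem : χ ∈ S
    · rw [if_pos hmem]
      have hs0 : s ≠ 0 := fun h0 => (Finset.mem_filter.1 hmem).2 (by rw [hinner, h0, mul_zero])
      have hval : ∀ m : N, χ m = χ 1 * (lam m : ℂ) := by
        intro m
        have h1 : χ 1 * s = conj (lam m : ℂ) * χ m * s := by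
          conv_lhs => rw [hs, ← Equiv.sum_comp (Equiv.mulLeft m)]
          rw [Finset.mul_sum, hs, Finset.mul_sum]
          refine Finset.sum_congr rfl fun n _ => ?_
          rw [Equiv.coe_mulLeft, map_mul, Units.val_mul, map_mul, Subgroup.coe_mul,
            mul_left_comm, central_apply hχ' (hN n.2) (m : G)]
          ring
        have h2 := mul_right_cancel₀ hs0 h1
        rw [h2, conj_eq_inv_hom, mul_comm _ (χ (m : G)), mul_assoc, ← Units.val_mul, ← map_mul,
          inv_mul_cancel, map_one, Units.val_one, mul_one]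
      have h3 : s = (Nat.card N : ℂ) * χ 1 := by
        rw [hs, Finset.sum_congr rfl (g := fun _ => χ 1) fun n _ => by
          rw [hval n, mul_left_comm, conj_eq_inv_hom, ← Units.val_mul, ← map_mul, inv_mul_cancel,
            map_one, Units.val_one, mul_one]]
        rw [Finset.sum_const, Finset.card_univ, nsmul_eq_mul, Nat.card_eq_fintype_card]
      rw [h3]; ring
    · rw [if_neg hmem, mul_zero]
      have : Cfsg.classInner (fun n : N => χ n) (ψ : N → ℂ) = 0 := by
        by_contra h0
        exact hmem (Finset.mem_filter.2 ⟨hχ, h0⟩)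
      rw [hinner, mul_eq_zero] at this
      rw [this.resolve_left (inv_ne_zero hN0), zero_mul]
  let special : G → Prop := fun g => ∀ x : G, x⁻¹ * g⁻¹ * x * g ∈ N → x * g = g * x
  have hcent : ∀ (g : G) (n : N), Nat.card (Subgroup.centralizer ({g * n} : Set G)) =
      Nat.card (Subgroup.centralizer ({g} : Set G)) := by
    intro g n
    have : Subgroup.centralizer ({g * n} : Set G) = Subgroup.centralizer ({g} : Set G) := by
      ext x
      have hxn := Subgroup.mem_center_iff.1 (hN n.2) x
      rw [Subgroup.mem_centralizer_singleton_iff, Subgroup.mem_centralizer_singleton_iff,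
        ← mul_assoc, mul_assoc g (n : G) x, ← hxn, ← mul_assoc, mul_left_inj]
    rw [this]
  have hcol : ∀ g : G, (Nat.card N : ℂ) * ∑ χ ∈ S, χ g * conj (χ g) =
      if special g then (Nat.card (Subgroup.centralizer ({g} : Set G)) : ℂ) else 0 := by
    intro g
    have h1 : (Nat.card N : ℂ) * ∑ χ ∈ S, χ g * conj (χ g) = ∑ n : N,
        conj (lam n : ℂ) * (if IsConj (g * n) g then
          (Nat.card (Subgroup.centralizer ({g} : Set G)) : ℂ) else 0) := by
      calc (Nat.card N : ℂ) * ∑ χ ∈ S, χ g * conj (χ g)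
          = ∑ χ ∈ irrFinset G, (∑ n : N, conj (lam n : ℂ) * χ (g * n)) * conj (χ g) := by
            rw [Finset.mul_sum, hS, Finset.sum_filter]
            refine Finset.sum_congr rfl fun χ hχ => ?_
            rw [hsel χ hχ g, hS]
            simp only [Finset.mem_filter, hχ, true_and]
            split_ifs
            · ring
            · rw [zero_mul]
        _ = ∑ n : N, conj (lam n : ℂ) * ∑ χ ∈ irrFinset G, χ (g * n) * conj (χ g) := by
            simp only [Finset.sum_mul, Finset.mul_sum, mul_assoc]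
            exact Finset.sum_comm
        _ = _ := Finset.sum_congr rfl fun n _ => by rw [sum_irr_mul_conj, hcent]
    rw [h1]
    by_cases hsp : special g
    · rw [if_pos hsp, Finset.sum_eq_single (1 : N)]
      · rw [map_one, Units.val_one, map_one, one_mul, if_pos]
        rw [Subgroup.coe_one, mul_one]
      · intro n _ hn
        rw [if_neg, mul_zero]
        intro hc
        obtain ⟨x, hx⟩ := isConj_iff.1 hc.symm
        have hmem : (x⁻¹)⁻¹ * g⁻¹ * x⁻¹ * g ∈ N := by
          have e : (x⁻¹)⁻¹ * g⁻¹ * x⁻¹ * g = ((x * g * x⁻¹)⁻¹) * g := by group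
          rw [e, hx, mul_inv_rev, mul_assoc, inv_mul_cancel, mul_one]
          exact N.inv_mem n.2
        have h2 := hsp x⁻¹ hmem
        have h3 : x * g * x⁻¹ = g := by
          rw [mul_assoc, ← h2, mul_inv_cancel_left]
        rw [h3] at hx
        exact hn (Subtype.ext (mul_eq_left.1 hx.symm))
      · exact fun h => absurd (Finset.mem_univ _) h
    · rw [if_neg hsp]
      obtain ⟨x, hx, hxne⟩ : ∃ x : G, x⁻¹ * g⁻¹ * x * g ∈ N ∧ x * g ≠ g * x := by
        by_contra! hno
        exact hsp hno
      set m : N := ⟨_, hx⟩ with hm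
      have hgm : IsConj (g * m) g := by
        refine isConj_iff.2 ⟨x⁻¹, ?_⟩
        have hc := Subgroup.mem_center_iff.1 (hN hx) (x⁻¹ * g)
        rw [hm]
        show x⁻¹ * (g * (x⁻¹ * g⁻¹ * x * g)) * x⁻¹⁻¹ = g
        calc x⁻¹ * (g * (x⁻¹ * g⁻¹ * x * g)) * x⁻¹⁻¹
            = (x⁻¹ * g) * (x⁻¹ * g⁻¹ * x * g) * x := by group
          _ = (x⁻¹ * g⁻¹ * x * g) * (x⁻¹ * g) * x := by rw [hc]
          _ = x⁻¹ * g⁻¹ * x * g * x⁻¹ * g * x := by group
          _ = g := by
            have hc' := Subgroup.mem_center_iff.1 (hN hx) (g * x⁻¹)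
            calc x⁻¹ * g⁻¹ * x * g * x⁻¹ * g * x
                = (x⁻¹ * g⁻¹ * x * g) * (x⁻¹ * g * x) := by group
              _ = (x⁻¹ * g * x) * (x⁻¹ * g⁻¹ * x * g) :=
                (Subgroup.mem_center_iff.1 (hN hx) _).symm
              _ = g := by group
      have hm1 : (lam m : ℂ) ≠ 1 := fun h => by
        have h2 : x⁻¹ * g⁻¹ * x * g = 1 := congrArg Subtype.val (hlam_inj m h)
        apply hxne
        calc x * g = g * x * (x⁻¹ * g⁻¹ * x * g) := by group
          _ = g * x := by rw [h2, mul_one]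
      set f : N → ℂ := fun n => conj (lam n : ℂ) * (if IsConj (g * n) g then
          (Nat.card (Subgroup.centralizer ({g} : Set G)) : ℂ) else 0) with hf
      have hshift : ∀ n : N, f (m * n) = conj (lam m : ℂ) * f n := by
        intro n
        have hn : ∀ a b : G, IsConj a b → IsConj (a * n) (b * n) := by
          intro a b hab
          obtain ⟨c, rfl⟩ := isConj_iff.1 hab
          refine isConj_iff.2 ⟨c, ?_⟩
          have := Subgroup.mem_center_iff.1 (hN n.2) c⁻¹
          calc c * (a * n) * c⁻¹ = c * a * ((n : G) * c⁻¹) := by group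
            _ = c * a * (c⁻¹ * n) := by rw [this]
            _ = _ := by group
        have h4 : IsConj (g * (m * n : N)) (g * n) := by
          rw [Subgroup.coe_mul, ← mul_assoc]
          exact hn _ _ hgm
        simp only [hf, map_mul, Units.val_mul]
        rw [mul_assoc]
        congr 2
        exact if_congr ⟨fun h => h4.symm.trans h, fun h => h4.trans h⟩ rfl rfl
      have htot : ∑ n : N, f n = conj (lam m : ℂ) * ∑ n : N, f n := by
        rw [Finset.mul_sum, ← Finset.sum_congr rfl fun n _ => hshift n]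
        exact (Equiv.sum_comp (Equiv.mulLeft m) f).symm
      have h5 : (1 - conj (lam m : ℂ)) * ∑ n : N, f n = 0 := by
        rw [sub_mul, one_mul, ← htot, sub_self]
      exact (mul_eq_zero.1 h5).resolve_left fun h6 => hm1 (by
        have h7 := congrArg conj (sub_eq_zero.1 h6)
        rw [Complex.conj_conj, map_one] at h7
        exact h7.symm)
  -- double counting
  have htotal : (Nat.card N : ℂ) * ((S.card : ℂ) * Nat.card G) =
      ∑ g ∈ Finset.univ.filter special, (Nat.card (Subgroup.centralizer ({g} : Set G)) : ℂ) := by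
    rw [Finset.sum_filter, ← Finset.sum_congr rfl fun g _ => hcol g, ← Finset.mul_sum,
      Finset.sum_comm]
    congr 1
    rw [← nsmul_eq_mul, ← Finset.sum_const]
    refine Finset.sum_congr rfl fun χ hχ => ?_
    have h1 := IsIrrCharacter.classInner_self (mem_irrFinset.1 (Finset.mem_filter.1 hχ).1)
    rw [classInner_def, inv_mul_eq_one₀ hG0] at h1
    exact h1
  haveI := Fintype.ofFinite (G ⧸ N)
  let P : G ⧸ N → Prop := fun q => ∃ g : G, (g : G ⧸ N) = q ∧ special g
  have hspN : ∀ (g : G) (n : N), special g → special (g * n) := by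
    intro g n hg x hx
    have hc := Subgroup.mem_center_iff.1 (hN n.2)
    have e : x⁻¹ * (g * n)⁻¹ * x * (g * n) = x⁻¹ * g⁻¹ * x * g := by
      calc x⁻¹ * (g * n)⁻¹ * x * (g * n)
          = x⁻¹ * (n : G)⁻¹ * (g⁻¹ * x * g * (n : G)) := by group
        _ = x⁻¹ * (n : G)⁻¹ * ((n : G) * (g⁻¹ * x * g)) := by rw [hc (g⁻¹ * x * g)]
        _ = _ := by group
    rw [e] at hx
    rw [← mul_assoc, hg x hx, mul_assoc, hc x, ← mul_assoc]
  have hP : ∀ g : G, P (g : G ⧸ N) ↔ special g := fun g => ⟨fun ⟨g', hg', hsp⟩ => by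
    have := hspN g' ⟨g'⁻¹ * g, QuotientGroup.eq.1 hg'⟩ hsp
    simpa using this, fun h => ⟨g, rfl, h⟩⟩
  have hlift : ∀ g : G, special g → Nat.card (Subgroup.centralizer ({g} : Set G)) =
      Nat.card N * Nat.card (Subgroup.centralizer ({(g : G ⧸ N)} : Set (G ⧸ N))) := by
    intro g hg
    have heq : Subgroup.centralizer ({g} : Set G) =
        (Subgroup.centralizer ({(g : G ⧸ N)} : Set (G ⧸ N))).comap (QuotientGroup.mk' N) := by
      ext x
      rw [Subgroup.mem_comap, Subgroup.mem_centralizer_singleton_iff,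
        Subgroup.mem_centralizer_singleton_iff, QuotientGroup.mk'_apply, ← QuotientGroup.mk_mul,
        ← QuotientGroup.mk_mul]
      refine ⟨fun h => by rw [h], fun h => ?_⟩
      refine hg x ?_
      have := QuotientGroup.eq.1 h.symm
      rwa [mul_inv_rev, ← mul_assoc] at this
    rw [heq]
    exact QuotientGroup.card_preimage_mk N
      ((Subgroup.centralizer ({(g : G ⧸ N)} : Set (G ⧸ N))) : Set (G ⧸ N))
  have hfib : ∑ g ∈ Finset.univ.filter special, Nat.card (Subgroup.centralizer ({g} : Set G)) =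
      Nat.card N * Nat.card N *
        ∑ q ∈ Finset.univ.filter P, Nat.card (Subgroup.centralizer ({q} : Set (G ⧸ N))) := by
    rw [Finset.mul_sum, ← Finset.sum_fiberwise_of_maps_to
      (g := fun g : G => (g : G ⧸ N)) (t := Finset.univ.filter P)
      fun g hg => Finset.mem_filter.2 ⟨Finset.mem_univ _, (hP g).2 (Finset.mem_filter.1 hg).2⟩]
    refine Finset.sum_congr rfl fun q hq => ?_
    obtain ⟨g₀, rfl⟩ := QuotientGroup.mk_surjective q
    have hg₀ := (hP g₀).1 (Finset.mem_filter.1 hq).2
    rw [Finset.sum_congr rfl (g := fun _ => Nat.card N *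
      Nat.card (Subgroup.centralizer ({(g₀ : G ⧸ N)} : Set (G ⧸ N)))) fun g hg => by
        obtain ⟨hg1, hg2⟩ := Finset.mem_filter.1 hg
        rw [hlift g (Finset.mem_filter.1 hg1).2, hg2], Finset.sum_const, smul_eq_mul, mul_assoc]
    congr 1
    rw [Finset.filter_filter, ← Fintype.card_subtype, ← Nat.card_eq_fintype_card]
    exact Nat.card_congr
      { toFun := fun g => ⟨g₀⁻¹ * g.1, QuotientGroup.eq.1 g.2.2.symm⟩
        invFun := fun n => ⟨g₀ * n, hspN g₀ n hg₀, by
          rw [QuotientGroup.mk_mul_of_mem _ n.2]⟩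
        left_inv := fun g => Subtype.ext (mul_inv_cancel_left _ _)
        right_inv := fun n => Subtype.ext (inv_mul_cancel_left _ _) }
  rw [hcard, Nat.card_congr (Equiv.subtypeEquivRight (q := fun C : ConjClasses (G ⧸ N) =>
    ∃ q, ConjClasses.mk q = C ∧ P q) fun C => ⟨fun ⟨g, hg, hsp⟩ => ⟨g, hg, g, rfl, hsp⟩,
      fun ⟨q, hq, g, hg, hsp⟩ => ⟨g, hg ▸ hq, hsp⟩⟩)]
  have hcl := card_classes P fun a b hab ⟨g, hg, hsp⟩ => by
    obtain ⟨c, rfl⟩ := isConj_iff.1 hab
    obtain ⟨c, rfl⟩ := QuotientGroup.mk_surjective c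
    refine ⟨c * g * c⁻¹, by rw [← hg]; rfl, fun x hx => ?_⟩
    have h1 : (c⁻¹ * x * c)⁻¹ * g⁻¹ * (c⁻¹ * x * c) * g ∈ N := by
      have := (inferInstance : N.Normal).conj_mem _ hx c⁻¹
      have e : (c⁻¹ * x * c)⁻¹ * g⁻¹ * (c⁻¹ * x * c) * g =
          c⁻¹ * (x⁻¹ * (c * g * c⁻¹)⁻¹ * x * (c * g * c⁻¹)) * c⁻¹⁻¹ := by group
      rwa [e]
    have h2 := congrArg (fun w => c * w * c⁻¹) (hsp _ h1)
    calc x * (c * g * c⁻¹) = c * (c⁻¹ * x * c * g) * c⁻¹ := by group
      _ = c * (g * (c⁻¹ * x * c)) * c⁻¹ := h2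
      _ = _ := by group
  rw [hcl] at hfib
  have hnat : Nat.card N * (S.card * Nat.card G) = Nat.card N * Nat.card N *
      (Nat.card (G ⧸ N) * Nat.card {C : ConjClasses (G ⧸ N) // ∃ q, ConjClasses.mk q = C ∧ P q}) := by
    have h := htotal
    rw [← Nat.cast_sum, hfib] at h
    exact_mod_cast h
  rw [Subgroup.card_eq_card_quotient_mul_card_subgroup N] at hnat
  have hpos : 0 < Nat.card N * Nat.card N * Nat.card (G ⧸ N) := by
    have := Nat.card_pos (α := N)
    have := Nat.card_pos (α := G ⧸ N)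
    positivity
  exact Nat.eq_of_mul_eq_mul_left hpos (by linarith)

end Cfsg.Agent.S4567
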