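import Cfsg.Statements.S4570
import Cfsg.Agent.BlocksB.RankOneInvolution.Main
-- import your own Cfsg.Agent.* helpers here

set_option autoImplicit false
open Cfsg

namespace Cfsg.Agent.S4570

/-- Let G be a finite group with a commutative Sylow 2-subgroup P and M a maximal ideal of the algebraic integers containing 2, and suppose some involution x of G has the property that the principal 2-block of its centralizer has 2-regular rank one. If P has order 8 then the principal 2-block of G contains exactly 8 irreducible characters, and if P has order 16 it contains 8 or 16. -/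
theorem result {G : Type*} [Group G] [Finite G] (M : Ideal Cfsg.AlgInt) (hM : Cfsg.IsPModular 2 M) (P : Sylow 2 G) (hab : IsMulCommutative P) (x : G) (hx : orderOf x = 2) (hl : Cfsg.blockRank 2 (Cfsg.principalBlock M ↥(Subgroup.centralizer ({x} : Set G))) = 1) : (Nat.card P = 8 → Nat.card (Cfsg.principalBlock M G) = 8) ∧ (Nat.card P = 16 → Nat.card (Cfsg.principalBlock M G) = 8 ∨ Nat.card (Cfsg.principalBlock M G) = 16) := by
  haveI : Fact (Nat.Prime 2) := ⟨Nat.prime_two⟩
  haveI := hM.2.1.isPrime
  haveI := Fintype.ofFinite G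
  haveI : IsMulCommutative (P : Subgroup G) := hab
  obtain ⟨S, hS⟩ := (IsPGroup.of_card (p := 2) (n := 1)
    (show Nat.card (Subgroup.zpowers x) = 2 ^ 1 by rw [Nat.card_zpowers, hx, pow_one])).exists_le_sylow
  obtain ⟨g, hg⟩ := MulAction.exists_smul_eq G S P
  have hyP : g * x * g⁻¹ ∈ (P : Subgroup G) := by
    have h1 : g * x * g⁻¹ ∈ ((g • S : Sylow 2 G) : Subgroup G) := by
      rw [Sylow.coe_subgroup_smul, Subgroup.pointwise_smul_def]
      exact ⟨x, hS (Subgroup.mem_zpowers x), by simp⟩
    rwa [hg] at h1
  have hy : orderOf (g * x * g⁻¹) = 2 := by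
    rw [show g * x * g⁻¹ = (MulAut.conj g) x from rfl, MulEquiv.orderOf_eq]; exact hx
  have hnpc : Cfsg.HasNormalPComplement 2
      ↥(Subgroup.centralizer ({g * x * g⁻¹} : Set G)) := by
    refine CfsgLib.PResidual.hasNormalPComplement_of_injective
      (MonoidHom.mk' (fun c : Subgroup.centralizer ({g * x * g⁻¹} : Set G) =>
        (⟨g⁻¹ * c * g, by
          refine Subgroup.mem_centralizer_singleton_iff.2 ?_
          have h1 := Subgroup.mem_centralizer_singleton_iff.1 c.2
          calc g⁻¹ * (c : G) * g * x = g⁻¹ * ((c : G) * (g * x * g⁻¹)) * g := by group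
            _ = g⁻¹ * ((g * x * g⁻¹) * (c : G)) * g := by rw [h1]
            _ = _ := by group⟩ : Subgroup.centralizer ({x} : Set G)))
        fun a b => Subtype.ext (by
          show g⁻¹ * ((a : G) * b) * g = g⁻¹ * (a : G) * g * (g⁻¹ * (b : G) * g)
          group)) ?_ (CfsgLib.GapOne.hnpc_of_blockRank_one hM hl)
    intro a b he
    exact Subtype.ext (mul_left_cancel (mul_right_cancel
      (congrArg Subtype.val he : g⁻¹ * (a : G) * g = g⁻¹ * (b : G) * g)))
  exact CfsgLib.AbTwoOne.card_principal hM P hy hyP hnpc

end Cfsg.Agent.S4570
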