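import Cfsg.Statements.S4574
import Cfsg.Agent.Char.CosetSquare
import Cfsg.Agent.BlocksB.ClassSum

set_option autoImplicit false
open Cfsg

namespace Cfsg.Agent.S4574

/-- Let χ be an irreducible character of the finite group G, of degree d, and let Z(χ) be the set of elements g with |χ g| = d (the centre of χ). Then χ vanishes on at least (d ^ 2 - 1) · |Z(χ)| elements of G, with equality when every value |χ g| is 0, 1 or d. -/
theorem result {G : Type*} [Group G] [Fintype G] [DecidableEq G] (χ : G → ℂ) (hχ : Cfsg.IsIrrCharacter G χ) : (Cfsg.charDegree χ ^ 2 - 1) * (Finset.univ.filter (fun g : G => ‖χ g‖ = (Cfsg.charDegree χ : ℝ))).card ≤ (Finset.univ.filter (fun g : G => χ g = 0)).card ∧ ((∀ g : G, ‖χ g‖ = 0 ∨ ‖χ g‖ = 1 ∨ ‖χ g‖ = (Cfsg.charDegree χ : ℝ)) → (Cfsg.charDegree χ ^ 2 - 1) * (Finset.univ.filter (fun g : G => ‖χ g‖ = (Cfsg.charDegree χ : ℝ))).card = (Finset.univ.filter (fun g : G => χ g = 0)).card) := by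
  classical
  have hc := CfsgLib.Char.IsIrrCharacter.isCharacter hχ
  obtain ⟨d, hd1, hd, hdeg⟩ : ∃ d : ℕ, 1 ≤ d ∧ χ 1 = d ∧ Cfsg.charDegree χ = d := by
    obtain ⟨hd, hpos⟩ := CfsgLib.BlocksB.charDegree_spec hχ
    exact ⟨_, hpos, hd, rfl⟩
  rw [hdeg]
  let T : Finset G := Finset.univ.filter fun g => χ g ≠ 0 ∧ ‖χ g‖ ≠ (d : ℝ)
  have hstable : ∀ t : ℕ, t.Coprime (Nat.card G) → ∀ g ∈ T, g ^ t ∈ T := by
    intro t ht g hg
    simp only [T, Finset.mem_filter, Finset.mem_univ, true_and] at hg ⊢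
    obtain ⟨σ, hσ⟩ := CfsgLib.Char.exists_ringEquiv_pow (Nat.card_pos (α := G)) ht
    have e := CfsgLib.Char.IsCharacter.map_eq_pow_card hc σ hσ
    refine ⟨fun h => hg.1 (σ.injective ((e g).trans (h.trans (map_zero σ).symm))), fun h => hg.2 ?_⟩
    have hinv : σ (χ g⁻¹) = χ (g ^ t)⁻¹ := by rw [e, inv_pow]
    rw [CfsgLib.Char.IsIrrCharacter.apply_inv hχ, CfsgLib.Char.IsIrrCharacter.apply_inv hχ] at hinv
    have hsq : ((‖χ g‖ : ℂ)) ^ 2 = ((d : ℂ)) ^ 2 := by
      refine σ.injective ?_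
      rw [← Complex.mul_conj', map_mul, e, hinv, Complex.mul_conj', h, map_pow, map_natCast]
      norm_num
    have hsq' : ‖χ g‖ ^ 2 = (d : ℝ) ^ 2 := by exact_mod_cast hsq
    exact (pow_left_inj₀ (norm_nonneg _) (Nat.cast_nonneg d) two_ne_zero).mp hsq'
  have hlow : (T.card : ℝ) ≤ ∑ g ∈ T, ‖χ g‖ ^ 2 :=
    CfsgLib.Char.card_le_sum_norm_pow T χ 2 (fun g _ => CfsgLib.Char.IsCharacter.isIntegral hc g)
      (fun g hg => (Finset.mem_filter.1 hg).2.1) (CfsgLib.Char.prod_fixed_of_stable hc T hstable)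
  set Z := Finset.univ.filter (fun g : G => ‖χ g‖ = (d : ℝ)) with hZ
  set N := Finset.univ.filter (fun g : G => χ g = 0) with hN
  have hsplit : ∀ f : G → ℝ, ∑ g, f g = ∑ g ∈ Z, f g + ∑ g ∈ N, f g + ∑ g ∈ T, f g := by
    intro f
    rw [← Finset.sum_filter_add_sum_filter_not Finset.univ (fun g => ‖χ g‖ = (d : ℝ)),
      ← Finset.sum_filter_add_sum_filter_not (Finset.univ.filter fun g => ¬‖χ g‖ = (d : ℝ))
        (fun g => χ g = 0), Finset.filter_filter, Finset.filter_filter, ← hZ, ← add_assoc]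
    congr 2
    · refine Finset.sum_congr (Finset.ext fun g => ?_) fun g _ => rfl
      simp only [hN, Finset.mem_filter, Finset.mem_univ, true_and, and_iff_right_iff_imp]
      intro h0 h1
      rw [h0, norm_zero] at h1
      have : (1 : ℝ) ≤ d := by exact_mod_cast hd1
      linarith
    · refine Finset.ext fun g => ?_
      simp [T, and_comm]
  have hG := hsplit fun _ => (1 : ℝ)
  have hS := hsplit fun g => ‖χ g‖ ^ 2
  rw [CfsgLib.Char.sum_norm_sq_eq hχ, Finset.sum_congr rfl (fun g hg => by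
      rw [(Finset.mem_filter.1 hg).2] : ∀ g ∈ Z, ‖χ g‖ ^ 2 = (d : ℝ) ^ 2),
    Finset.sum_congr rfl (fun g hg => by
      rw [(Finset.mem_filter.1 hg).2, norm_zero, zero_pow two_ne_zero] :
      ∀ g ∈ N, ‖χ g‖ ^ 2 = (0 : ℝ))] at hS
  simp only [Finset.sum_const, nsmul_eq_mul, mul_zero, mul_one, add_zero, Finset.card_univ,
    ← Nat.card_eq_fintype_card] at hS hG
  have hd2 : 1 ≤ d ^ 2 := Nat.one_le_pow _ _ hd1
  refine ⟨?_, fun hall => ?_⟩
  · rify [hd2]
    nlinarith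
  · have hT : ∑ g ∈ T, ‖χ g‖ ^ 2 = T.card := by
      rw [Finset.sum_congr rfl (fun g hg => ?_ : ∀ g ∈ T, ‖χ g‖ ^ 2 = (1 : ℝ))]
      · simp
      · obtain ⟨h0, hne⟩ := (Finset.mem_filter.1 hg).2
        rcases hall g with h | h | h
        · exact absurd (norm_eq_zero.mp h) h0
        · rw [h, one_pow]
        · exact absurd (hdeg ▸ h) hne
    rw [hT] at hS
    rify [hd2]
    nlinarith

end Cfsg.Agent.S4574
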