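import Cfsg.Statements.S4575
import Cfsg.Agent.BlocksB.ThreeDefect

set_option autoImplicit false
open Cfsg

namespace Cfsg.Agent.S4575

/-- Let B be a 2-block of the finite group G (relative to a maximal ideal M of the algebraic integers containing 2) of defect d with defect group D. Let z be an element of D commuting with every element of D, and let b be a block of the centralizer of z with defect group D that induces B (a major subsection (z, b)). If the number of irreducible characters in B exceeds the 2-regular rank of b by at most three, then B contains at most 2 ^ d irreducible characters. -/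
theorem result {G : Type*} [Group G] [Finite G] (M : Ideal Cfsg.AlgInt) (hM : Cfsg.IsPModular 2 M) (B : Set (Cfsg.IrrCharacter G)) (hB : Cfsg.IsPBlock M B) (D : Subgroup G) (hD : Cfsg.IsDefectGroup 2 M B D) (z : G) (hzD : z ∈ D) (hzc : ∀ d ∈ D, d * z = z * d) (b : Set (Cfsg.IrrCharacter ↥(Subgroup.centralizer ({z} : Set G)))) (hb : Cfsg.IsInducedBlock M (Subgroup.centralizer ({z} : Set G)) b B) (hbD : Cfsg.IsDefectGroup 2 M b (D.subgroupOf (Subgroup.centralizer ({z} : Set G)))) (h : Nat.card B ≤ Cfsg.blockRank 2 b + 3) : Nat.card B ≤ 2 ^ Cfsg.blockDefect 2 B := by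
  haveI := Fintype.ofFinite G
  haveI := hM.2.1.isPrime
  haveI : Fact (Nat.Prime 2) := ⟨Nat.prime_two⟩
  haveI : Fintype (Subgroup.centralizer ({z} : Set G)) := Fintype.ofFinite _
  have hcardD := CfsgLib.Block.card_defectGroup hM hB hD
  have hle : D ≤ Subgroup.centralizer ({z} : Set G) := fun x hx => by
    rw [Subgroup.mem_centralizer_singleton_iff]
    exact hzc x hx
  have hcardb := CfsgLib.Block.card_defectGroup hM hb.1 hbD
  rw [Nat.card_congr (Subgroup.subgroupOfEquivOfLe hle).toEquiv, hcardD] at hcardb
  have hord : orderOf z ∣ 2 ^ Cfsg.blockDefect 2 B := by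
    rw [← hcardD, ← Subgroup.orderOf_mk (H := D) (a := z) hzD]
    exact orderOf_dvd_natCard _
  obtain ⟨k, -, hk⟩ := (Nat.dvd_prime_pow Nat.prime_two).1 hord
  exact CfsgLib.BlockB.card_le_pow_three_defect hM rfl hk hb
    (Nat.pow_right_injective le_rfl hcardb).symm h

end Cfsg.Agent.S4575
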