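import Cfsg.Statements.S4580
import Cfsg.Agent.BlocksB.RealOddPrincipal

set_option autoImplicit false
open Cfsg

namespace Cfsg.Agent.S4580

/-- Let N be a normal subgroup of the finite group G, M a maximal ideal of the algebraic integers containing 2, and θ a real-valued irreducible character of N of odd degree that extends to G (some irreducible character of G restricts to θ). Then θ has an extension to G lying in the principal 2-block of G. -/
theorem result {G : Type*} [Group G] [Finite G] (N : Subgroup G) [N.Normal] (M : Ideal Cfsg.AlgInt) (hM : Cfsg.IsPModular 2 M) (θ : Cfsg.IrrCharacter N) (hreal : ∀ n : N, ((θ : N → ℂ) n).im = 0) (hodd : Odd (Cfsg.charDegree (θ : N → ℂ))) (hext : ∃ η : Cfsg.IrrCharacter G, ∀ n : N, (η : G → ℂ) n = (θ : N → ℂ) n) :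
    ∃ η : Cfsg.IrrCharacter G, (∀ n : N, (η : G → ℂ) n = (θ : N → ℂ) n) ∧ η ∈ Cfsg.principalBlock M G := by
  haveI := Fintype.ofFinite G
  haveI := hM.2.1.isPrime
  classical
  obtain ⟨η, hη⟩ := hext
  obtain ⟨lam, hlamN, hlam⟩ := CfsgLib.BlockB.exists_conj_eq_mul_hom hreal hη
  set a := (Nat.card G).factorization 2 with hadef
  set o := Nat.card G / 2 ^ a with hodef
  have hno : 2 ^ a * o = Nat.card G := Nat.ordProj_mul_ordCompl_eq_self _ _
  obtain ⟨i, hi⟩ : Odd o := by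
    rw [← Nat.not_even_iff_odd, even_iff_two_dvd]
    exact Nat.not_dvd_ordCompl Nat.prime_two Nat.card_pos.ne'
  let η' : Cfsg.IrrCharacter G := ⟨_, CfsgLib.Char.IsIrrCharacter.mul_hom η.2 (lam ^ (i + 1))⟩
  have hrestr : ∀ n : N, (η' : G → ℂ) n = (θ : N → ℂ) n := by
    intro n
    show (η : G → ℂ) n * (((lam ^ (i + 1)) (n : G) : ℂˣ) : ℂ) = _
    rw [MonoidHom.pow_apply, hlamN _ n.2, one_pow, Units.val_one, mul_one, hη]
  refine ⟨η', hrestr, CfsgLib.BlockB.mem_principalBlock_of_real_mod hM ?_ ?_⟩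
  · have h1 : (Cfsg.charDegree (η' : G → ℂ) : ℂ) = (Cfsg.charDegree (θ : N → ℂ) : ℂ) := by
      rw [← (CfsgLib.Block.Chr.irr_one η').1, ← (CfsgLib.Block.Chr.irr_one θ).1]
      exact hrestr 1
    rwa [Nat.cast_injective h1]
  · intro g
    set L : ℂˣ := lam g with hL
    have hpow : (L⁻¹ ^ o) ^ 2 ^ a = 1 := by
      rw [← pow_mul, mul_comm, hno, inv_pow, hL, ← map_pow, pow_card_eq_one', map_one, inv_one]
    have hval : (η' : G → ℂ) g⁻¹ = (η' : G → ℂ) g * ((L⁻¹ ^ o : ℂˣ) : ℂ) := by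
      show (η : G → ℂ) g⁻¹ * (((lam ^ (i + 1)) g⁻¹ : ℂˣ) : ℂ) =
        (η : G → ℂ) g * (((lam ^ (i + 1)) g : ℂˣ) : ℂ) * ((L⁻¹ ^ o : ℂˣ) : ℂ)
      rw [hlam, mul_assoc, mul_assoc, ← Units.val_mul, ← Units.val_mul, MonoidHom.pow_apply,
        MonoidHom.pow_apply, map_inv, ← hL, hi]
      congr 2
      calc L * L⁻¹ ^ (i + 1) = L ^ (i + 1) * (L⁻¹ ^ (i + 1) * L⁻¹ ^ i) := by
            rw [← mul_assoc, ← mul_pow, mul_inv_cancel, one_pow, one_mul]
            rw [pow_succ L⁻¹, ← mul_assoc, mul_comm L, mul_assoc, mul_inv_cancel, mul_one]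
        _ = L ^ (i + 1) * L⁻¹ ^ (2 * i + 1) := by rw [← pow_add]; ring_nf
    have hint : IsIntegral ℤ ((L⁻¹ ^ o : ℂˣ) : ℂ) := by
      refine IsIntegral.of_pow (pow_pos two_pos a) ?_
      rw [← Units.val_pow_eq_pow_val, hpow, Units.val_one]
      exact isIntegral_one
    have hres := CfsgLib.Block.res_eq_one_of_pow_eq_one hM
      (z := (⟨((L⁻¹ ^ o : ℂˣ) : ℂ), CfsgLib.Block.memLocalRing_of_isIntegral hint⟩ :
        CfsgLib.Block.localRing M)) (n := a)
      (Subtype.ext (by simpa using congrArg (fun u : ℂˣ => (u : ℂ)) hpow))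
    have h1 : Cfsg.MemLocalIdeal M (((L⁻¹ ^ o : ℂˣ) : ℂ) - 1) := by
      simpa using CfsgLib.Block.res_eq_iff.1 (hres.trans (map_one (CfsgLib.Block.res M)).symm)
    rw [hval]
    simpa [mul_sub] using
      CfsgLib.Block.memLocalIdeal_mul_left (CfsgLib.Block.irr_mem η' g) h1

end Cfsg.Agent.S4580
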