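import Cfsg.Statements.S4582
import Mathlib.GroupTheory.Transfer
import Mathlib.GroupTheory.Abelianization.Finite

set_option autoImplicit false
open Cfsg
set_option linter.style.haveILetI false

namespace Cfsg.Agent.S4582

open scoped commutatorElement

theorem key {G : Type*} [Group G] [Finite G] (N H : Subgroup G) [N.Normal] (htop : N ⊔ H = ⊤)
    (hH : IsPGroup 2 H) (hidx : Odd H.index)
    (hP : ∀ x : H, x ^ 2 ∈ N.subgroupOf H ⊔ commutator H)
    (hQ : ∀ x : H, (x : G) ∈ N → x ^ 2 ∈ commutator H)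
    (hodd : Odd (Nat.card (Abelianization N))) (x : H) : x ^ 2 ∈ commutator H := by
  classical
  let φ : H →* Abelianization H := Abelianization.of
  have hφ : ∀ y : H, φ y = 1 ↔ y ∈ commutator H := fun y => by
    rw [← Abelianization.ker_of H, MonoidHom.mem_ker]
  haveI : H.FiniteIndex := inferInstance
  let T := MonoidHom.transfer φ
  have h2 : ∀ a : Abelianization H, ∀ k : ℕ, Odd k → a ^ k = 1 → a = 1 := by
    intro a k hk hak
    obtain ⟨y, rfl⟩ := QuotientGroup.mk'_surjective (commutator H) a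
    obtain ⟨m, hm⟩ := IsPGroup.iff_orderOf.mp hH y
    have h1 : orderOf (φ y) ∣ 2 ^ m := hm ▸ orderOf_map_dvd φ y
    exact orderOf_eq_one_iff.mp (Nat.eq_one_of_dvd_coprimes
      ((Nat.coprime_two_left.mpr hk).pow_left m) h1 (orderOf_dvd_iff_pow_eq_one.mpr hak))
  have hTN : ∀ n ∈ N, T n = 1 := by
    intro n hn
    refine h2 _ _ hodd ?_
    have e : T n = Abelianization.lift (T.comp N.subtype) (Abelianization.of ⟨n, hn⟩) := by
      rw [Abelianization.lift_apply_of]; rfl
    rw [e, ← map_pow, pow_card_eq_one', map_one]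
  have hTsq : T ((x : G) ^ 2) = 1 := by
    have hle : N.subgroupOf H ⊔ commutator H ≤ (T.comp H.subtype).ker :=
      sup_le (fun y hy => hTN _ hy) (Abelianization.commutator_subset_ker (T.comp H.subtype))
    have h := hle (hP x)
    rw [MonoidHom.mem_ker, MonoidHom.comp_apply, Subgroup.coe_subtype, SubmonoidClass.coe_pow] at h
    exact h
  haveI := Fintype.ofFinite (Quotient (MulAction.orbitRel (Subgroup.zpowers (x : G)) (G ⧸ H)))
  haveI := H.fintypeQuotientOfFiniteIndex
  have hT := MonoidHom.transfer_eq_prod_quotient_orbitRel_zpowers_quot φ (x : G)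
  have hterm : ∀ (l : ℕ) (g : G) (h : g⁻¹ * (x : G) ^ l * g ∈ H),
      φ ⟨g⁻¹ * (x : G) ^ l * g, h⟩ ^ 2 = (φ x ^ 2) ^ l := by
    intro l g hg
    obtain ⟨n, hn, k, hk, rfl⟩ :=
      Subgroup.mem_sup_of_normal_left.mp (htop ▸ Subgroup.mem_top g : g ∈ N ⊔ H)
    set y : H := ⟨(n * k)⁻¹ * (x : G) ^ l * (n * k), hg⟩
    set k' : H := ⟨k, hk⟩
    set q := y * (k'⁻¹ * x ^ l * k')⁻¹ with hq
    have hqN : (q : G) ∈ N := by
      show (n * k)⁻¹ * (x : G) ^ l * (n * k) * (k⁻¹ * (x : G) ^ l * k)⁻¹ ∈ N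
      rw [show (n * k)⁻¹ * (x : G) ^ l * (n * k) * (k⁻¹ * (x : G) ^ l * k)⁻¹ =
        k⁻¹ * (n⁻¹ * ((x : G) ^ l * n * ((x : G) ^ l)⁻¹)) * k⁻¹⁻¹ by group]
      exact Subgroup.Normal.conj_mem inferInstance _
        (mul_mem (inv_mem hn) (Subgroup.Normal.conj_mem inferInstance _ hn _)) _
    have e : φ y = φ q * φ x ^ l := by
      rw [hq, map_mul, map_inv, map_mul, map_mul, map_inv, map_pow]
      rw [mul_comm (φ k')⁻¹, mul_assoc (φ x ^ l), inv_mul_cancel, mul_one, inv_mul_cancel_right]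
    have hq2 : φ q ^ 2 = 1 := by rw [← map_pow]; exact (hφ _).mpr (hQ q hqN)
    rw [e, mul_pow, hq2, one_mul, ← pow_mul, ← pow_mul, mul_comm]
  have hfin : (φ x ^ 2) ^ H.index = 1 := by
    rw [Subgroup.index_eq_sum_minimalPeriod H (x : G), ← Finset.prod_pow_eq_pow_sum]
    rw [map_pow] at hTsq
    show _ = (1 : Abelianization H)
    have hT' : T (x : G) ^ 2 = 1 := hTsq
    rw [show T (x : G) = _ from hT, ← Finset.prod_pow] at hT'
    refine Eq.trans (Finset.prod_congr rfl fun q _ => ?_) hT'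
    exact (hterm _ _ _).symm
  exact (hφ _).mp (by rw [map_pow]; exact h2 _ _ hidx hfin)

/-- Let N be a normal subgroup of the finite group G, P a Sylow 2-subgroup of G and Q = P ∩ N. Suppose that P/QP' and Q/Q' are elementary abelian (every square of an element of P lies in the subgroup generated by Q and the derived subgroup of P, and every square of an element of Q lies in the derived subgroup of Q), and that the commutator factor group N/N' has odd order. Then P/P' is elementary abelian. -/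
theorem result {G : Type*} [Group G] [Finite G] (N : Subgroup G) [N.Normal] (P : Sylow 2 G)
    (hP : ∀ x ∈ (P : Subgroup G), x ^ 2 ∈ ((P : Subgroup G) ⊓ N) ⊔ ⁅(P : Subgroup G), (P : Subgroup G)⁆)
    (hQ : ∀ x ∈ (P : Subgroup G) ⊓ N, x ^ 2 ∈ ⁅(P : Subgroup G) ⊓ N, (P : Subgroup G) ⊓ N⁆)
    (hodd : Odd (Nat.card (Abelianization N))) :
    ∀ x ∈ (P : Subgroup G), x ^ 2 ∈ ⁅(P : Subgroup G), (P : Subgroup G)⁆ := by
  intro x hx
  haveI := Fact.mk Nat.prime_two
  set K := N ⊔ (P : Subgroup G)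
  have hNK : N ≤ K := le_sup_left
  have hPK : (P : Subgroup G) ≤ K := le_sup_right
  have hcm : (commutator ((P : Subgroup G).subgroupOf K)).map
      (K.subtype.comp ((P : Subgroup G).subgroupOf K).subtype) = ⁅(P : Subgroup G), (P : Subgroup G)⁆ := by
    rw [← Subgroup.map_map, Subgroup.map_subtype_commutator, Subgroup.map_commutator,
      Subgroup.map_subgroupOf_eq_of_le hPK]
  let f : ((P : Subgroup G).subgroupOf K) →* G := K.subtype.comp ((P : Subgroup G).subgroupOf K).subtype
  have hf : Function.Injective f :=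
    K.subtype_injective.comp ((P : Subgroup G).subgroupOf K).subtype_injective
  have hb : ∀ y : (P : Subgroup G).subgroupOf K,
      y ∈ commutator ((P : Subgroup G).subgroupOf K) ↔ f y ∈ ⁅(P : Subgroup G), (P : Subgroup G)⁆ :=
    fun y => by rw [← hcm]; exact (Subgroup.mem_map_iff_mem hf).symm
  have hmapQ : ((N.subgroupOf K).subgroupOf ((P : Subgroup G).subgroupOf K)).map f = (P : Subgroup G) ⊓ N := by
    ext z
    constructor
    · rintro ⟨y, hy, rfl⟩; exact ⟨y.2, hy⟩
    · rintro ⟨h1, h2⟩; exact ⟨⟨⟨z, hPK h1⟩, h1⟩, h2, rfl⟩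
  have h := key (N.subgroupOf K) ((P : Subgroup G).subgroupOf K)
    (by rw [← Subgroup.subgroupOf_sup hNK hPK]; exact Subgroup.subgroupOf_self K)
    (P.2.comap_subtype)
    (by
      rw [Nat.odd_iff, ← Nat.two_dvd_ne_zero]
      exact fun hd => P.not_dvd_index (hd.trans (Subgroup.relIndex_dvd_index_of_le hPK)))
    (fun y => by
      rw [← Subgroup.mem_map_iff_mem hf, Subgroup.map_sup, hmapQ, map_pow, hcm]
      exact hP (f y) y.2)
    (fun y hy => by
      rw [hb, map_pow]
      exact Subgroup.commutator_mono inf_le_left inf_le_left (hQ (f y) ⟨y.2, hy⟩))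
    (by rw [Nat.card_congr (Subgroup.subgroupOfEquivOfLe hNK).abelianizationCongr.toEquiv]; exact hodd)
    ⟨⟨x, hPK hx⟩, hx⟩
  rw [hb, map_pow] at h
  exact h

end Cfsg.Agent.S4582
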