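import Cfsg.Statements.S4585
import Cfsg.Agent.BlocksB.PFour

set_option autoImplicit false
open Cfsg

namespace Cfsg.Agent.S4585

/-- Let p be a prime and P a group of order p^4. Then P' has index p^2 in P if and only if P has maximal nilpotency class, that is, nilpotency class exactly 3. -/
theorem result {P : Type*} [Group P] [Finite P] (p : ℕ) [Fact p.Prime] (hP : Nat.card P = p ^ 4) :
    (commutator P).index = p ^ 2 ↔ Group.nilpotencyClass P = 3 := by
  classical
  have hp : p.Prime := Fact.out
  have hPg : IsPGroup p P := IsPGroup.of_card hP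
  haveI : Group.IsNilpotent P := hPg.isNilpotent
  have hidx := Subgroup.card_mul_index (commutator P)
  rw [hP] at hidx
  let L := fun k => (⊤ : Subgroup P).lowerCentralSeries k
  have h1 : L 1 = commutator P := Subgroup.top_lowerCentralSeries_one
  -- the index of the derived subgroup is at least `p²`
  have hge : p ^ 2 ≤ (commutator P).index := by
    by_contra hlt
    have hlt := not_le.mp hlt
    obtain ⟨k, -, hk⟩ := (Nat.dvd_prime_pow hp).mp (Dvd.intro_left _ hidx : (commutator P).index ∣ p ^ 4)
    have hk2 : k < 2 := (Nat.pow_lt_pow_iff_right hp.one_lt).mp (hk ▸ hlt)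
    have hcyc : IsCyclic (P ⧸ commutator P) := by
      interval_cases k
      · haveI : Subsingleton (P ⧸ commutator P) :=
          QuotientGroup.subsingleton_iff.mpr (Subgroup.index_eq_one.mp (by simpa using hk))
        exact isCyclic_of_subsingleton
      · exact isCyclic_of_prime_card (p := p) (by simpa [Subgroup.index] using hk)
    -- a nilpotent group with cyclic abelianization is abelian
    obtain ⟨g, hg⟩ := hcyc.exists_generator
    obtain ⟨x, rfl⟩ := QuotientGroup.mk_surjective g
    have htop : Subgroup.zpowers x ⊔ commutator P = ⊤ := by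
      rw [eq_top_iff]
      intro a _
      obtain ⟨n, hn⟩ := hg (a : P ⧸ commutator P)
      have : (x ^ n)⁻¹ * a ∈ commutator P := by
        rw [← QuotientGroup.eq]; simpa using hn
      have := mul_mem ((le_sup_left : _ ≤ Subgroup.zpowers x ⊔ commutator P)
        (Subgroup.zpow_mem _ (Subgroup.mem_zpowers x) n))
        ((le_sup_right : _ ≤ Subgroup.zpowers x ⊔ commutator P) this)
      simpa using this
    have hfr : Subgroup.zpowers x = ⊤ := by
      have hnc : NormalizerCondition P := normalizerCondition_of_isNilpotent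
      by_contra hne
      obtain ⟨M, hM, hle⟩ := (IsCoatomic.eq_top_or_exists_le_coatom
        (Subgroup.zpowers x)).resolve_left hne
      haveI hMn : M.Normal := Subgroup.NormalizerCondition.normal_of_coatom M hnc hM
      have hMc : commutator P ≤ M := by
        obtain ⟨q, hq⟩ : ∃ a : P, a ∉ M := by
          by_contra hall; exact hM.1 (eq_top_iff.mpr fun a _ => by simpa using not_exists.mp hall a)
        have hgen : M ⊔ Subgroup.zpowers q = ⊤ :=
          hM.2 _ (lt_of_le_of_ne le_sup_left fun e => hq (e ▸ (le_sup_right : _ ≤ M ⊔ _)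
            (Subgroup.mem_zpowers q)))
        haveI : IsCyclic (P ⧸ M) := by
          refine ⟨⟨(q : P ⧸ M), fun z => ?_⟩⟩
          obtain ⟨a, rfl⟩ := QuotientGroup.mk_surjective z
          have : (a : P ⧸ M) ∈ (M ⊔ Subgroup.zpowers q).map (QuotientGroup.mk' M) :=
            ⟨a, hgen ▸ Subgroup.mem_top a, rfl⟩
          rw [Subgroup.map_sup, QuotientGroup.map_mk'_self, bot_sup_eq, MonoidHom.map_zpowers] at this
          exact this
        have : IsMulCommutative (P ⧸ M) := inferInstance
        rw [commutator_def, Subgroup.commutator_le]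
        intro a _ b _
        rw [← QuotientGroup.eq_one_iff, commutatorElement_def]
        have hc := this.is_comm.comm (a : P ⧸ M) (b : P ⧸ M)
        simp [hc]
      exact hM.1 (eq_top_iff.mpr (htop ▸ sup_le hle hMc))
    have hbot : commutator P = ⊥ := by
      rw [commutator_eq_bot_iff]
      refine ⟨⟨fun a b => ?_⟩⟩
      obtain ⟨m, rfl⟩ := Subgroup.mem_zpowers_iff.mp (hfr ▸ Subgroup.mem_top a)
      obtain ⟨n, rfl⟩ := Subgroup.mem_zpowers_iff.mp (hfr ▸ Subgroup.mem_top b)
      rw [← zpow_add, ← zpow_add, add_comm]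
    rw [hbot, Subgroup.index_bot, hP] at hk
    have := Nat.pow_right_injective hp.two_le hk
    omega
  have hDne : ∀ k, L k ≠ ⊥ → L (k + 1) < L k := fun k hk => by
    refine lt_of_le_of_ne (Subgroup.lowerCentralSeries_antitone _ k.le_succ) fun e => hk ?_
    have hstab : ∀ m, k ≤ m → L m = L k := by
      intro m hm
      induction m, hm using Nat.le_induction with
      | base => rfl
      | succ m _ ih =>
        show ⁅(⊤ : Subgroup P).lowerCentralSeries m, (⊤ : Subgroup P)⁆ = L k
        rw [show (⊤ : Subgroup P).lowerCentralSeries m = L k from ih]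
        exact e
    obtain ⟨n, hn⟩ := (Subgroup.nilpotent_iff_lowerCentralSeries (G := P)).mp inferInstance
    exact (hstab (max k n) (le_max_left _ _)).symm.trans
      (le_bot_iff.mp (hn ▸ Subgroup.lowerCentralSeries_antitone _ (le_max_right k n)))
  constructor
  · intro hi
    have hD : Nat.card (commutator P) = p ^ 2 := by
      rw [hi, show p ^ 4 = p ^ 2 * p ^ 2 by ring] at hidx
      exact Nat.eq_of_mul_eq_mul_right (pow_pos hp.pos 2) hidx
    have h2ne : L 2 ≠ ⊥ := by
      intro h2
      have hZ : commutator P ≤ Subgroup.center P := by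
        have h2' : ⁅commutator P, (⊤ : Subgroup P)⁆ = ⊥ := h1 ▸ h2
        rw [Subgroup.commutator_eq_bot_iff_le_centralizer] at h2'
        simpa [Subgroup.centralizer_univ] using h2'
      have hzd : (Subgroup.center P).index ∣ p ^ 2 := hi ▸ Subgroup.index_dvd_of_le hZ
      obtain ⟨k, hk, hk'⟩ := (Nat.dvd_prime_pow hp).mp hzd
      interval_cases k
      · have htop := Subgroup.index_eq_one.mp (by simpa using hk')
        rw [← commutator_eq_bot_iff_center_eq_top] at htop
        rw [htop, Subgroup.card_bot] at hD
        exact (Nat.one_lt_pow two_ne_zero hp.one_lt).ne hD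
      · exact CfsgLib.PFour.center_index_ne_prime (P := P) (p := p) (by simpa using hk')
      · rw [CfsgLib.PFour.card_commutator_of_center_index_sq hPg hk'] at hD
        exact absurd hD (by nlinarith [hp.two_le])
    have h3 : L 3 = ⊥ := by
      by_contra h3
      have hlt := hDne 1 (h1 ▸ fun e => by
        rw [e, Subgroup.card_bot] at hD; exact (Nat.one_lt_pow two_ne_zero hp.one_lt).ne hD)
      have hlt2 := hDne 2 h2ne
      have hlt3 : ⊥ < L 3 := bot_lt_iff_ne_bot.mpr h3
      have e1 := CfsgLib.PFour.card_mul_le_of_lt hPg hlt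
      have e2 := CfsgLib.PFour.card_mul_le_of_lt hPg hlt2
      have e3 := CfsgLib.PFour.card_mul_le_of_lt hPg hlt3
      rw [h1, hD] at e1
      rw [Subgroup.card_bot, mul_one] at e3
      simp only [show 1 + 1 = 2 from rfl, show 2 + 1 = 3 from rfl] at e1 e2
      have : p * (p * p) ≤ p ^ 2 := le_trans (Nat.mul_le_mul_left _
        (le_trans (Nat.mul_le_mul_left _ e3) e2)) e1
      nlinarith [hp.two_le]
    have hle : Group.nilpotencyClass P ≤ 3 :=
      Subgroup.lowerCentralSeries_eq_bot_iff_nilpotencyClass_le.mp h3
    have hgt : ¬ Group.nilpotencyClass P ≤ 2 := fun hle' =>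
      h2ne (Subgroup.lowerCentralSeries_eq_bot_iff_nilpotencyClass_le.mpr hle')
    omega
  · intro hcl
    have h2ne : L 2 ≠ ⊥ := fun h2 => by
      have := Subgroup.lowerCentralSeries_eq_bot_iff_nilpotencyClass_le.mp h2
      omega
    have h1ne : L 1 ≠ ⊥ := fun e => h2ne (le_bot_iff.mp
      (e ▸ Subgroup.lowerCentralSeries_antitone _ (by norm_num : 1 ≤ 2)))
    have e1 := CfsgLib.PFour.card_mul_le_of_lt hPg (hDne 1 h1ne)
    have e2 := CfsgLib.PFour.card_mul_le_of_lt hPg (bot_lt_iff_ne_bot.mpr h2ne)
    rw [h1] at e1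
    rw [Subgroup.card_bot, mul_one] at e2
    simp only [show 1 + 1 = 2 from rfl] at e1
    have hD : p ^ 2 ≤ Nat.card (commutator P) := by
      rw [sq]; exact le_trans (Nat.mul_le_mul_left p e2) e1
    apply le_antisymm _ hge
    have : p ^ 2 * (commutator P).index ≤ p ^ 2 * p ^ 2 := by
      calc _ ≤ Nat.card (commutator P) * (commutator P).index := Nat.mul_le_mul_right _ hD
        _ = p ^ 2 * p ^ 2 := by rw [hidx]; ring
    exact Nat.le_of_mul_le_mul_left this (pow_pos hp.pos 2)

end Cfsg.Agent.S4585
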