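import Cfsg.Statements.S4586
import Mathlib.GroupTheory.Abelianization.Defs
import Mathlib.GroupTheory.Commutator.Finite

set_option autoImplicit false
open Cfsg
set_option linter.style.haveILetI false

namespace Cfsg.Agent.S4586

open Subgroup
open scoped commutatorElement

theorem card_eq {P : Type*} [Group P] [Finite P] (p : ℕ) (hp : p.Prime) (N : Subgroup P) [N.Normal]
    (hN : N.index = p) {x : P} (hx : x ∉ N) :
    (commutator P).index = p ^ 2 ↔
      Nat.card {n : N // x * n * x⁻¹ * (n : P)⁻¹ ∈ (commutator N).map N.subtype} = p * Nat.card (commutator N) := by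
  haveI := Fact.mk hp
  set D := (commutator N).map N.subtype with hD
  haveI hDn : D.Normal := by rw [hD, map_subtype_commutator]; infer_instance
  let π := QuotientGroup.mk' D
  have hDN : D ≤ N := map_subtype_le _
  have hab : ∀ a ∈ N, ∀ b ∈ N, π a * π b = π b * π a := fun a ha b hb => by
    rw [← map_mul, ← map_mul]
    refine QuotientGroup.eq.mpr ?_
    rw [hD, map_subtype_commutator]
    have h := commutator_mem_commutator (inv_mem hb) (inv_mem ha)
    rw [commutatorElement_def, inv_inv, inv_inv] at h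
    rwa [show (a * b)⁻¹ * (b * a) = b⁻¹ * a⁻¹ * b * a by group]
  have hcm : ∀ n : N, x * n * x⁻¹ * (n : P)⁻¹ ∈ N := fun n =>
    mul_mem (Normal.conj_mem inferInstance _ n.2 x) (inv_mem n.2)
  let δ : N →* P ⧸ D := MonoidHom.mk' (fun n => π (x * n * x⁻¹ * (n : P)⁻¹)) fun a b => by
    have e := hab _ (inv_mem a.2) _ (hcm b)
    calc π (x * (a * b : P) * x⁻¹ * ((a * b : P))⁻¹)
        = π (x * a * x⁻¹) * (π (x * b * x⁻¹ * (b : P)⁻¹) * π (a : P)⁻¹) := by
          rw [← map_mul, ← map_mul]; congr 1; group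
      _ = π (x * a * x⁻¹ * (a : P)⁻¹) * π (x * b * x⁻¹ * (b : P)⁻¹) := by
          rw [← e, map_mul π (x * a * x⁻¹) (a : P)⁻¹, ← mul_assoc (π (x * a * x⁻¹))]
  have hker : Nat.card δ.ker =
      Nat.card {n : N // x * n * x⁻¹ * (n : P)⁻¹ ∈ (commutator N).map N.subtype} :=
    Nat.card_congr (Equiv.subtypeEquivRight fun n => by
      show π (x * n * x⁻¹ * (n : P)⁻¹) = 1 ↔ _
      exact QuotientGroup.eq_one_iff _)
  -- every element is `n * x ^ i`
  have hgen : ∀ g : P, ∃ i : ℤ, g * x ^ (-i) ∈ N := fun g => by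
    obtain ⟨i, hi⟩ := mem_zpowers_of_prime_card (show Nat.card (P ⧸ N) = p from hN)
      (fun h => hx ((QuotientGroup.eq_one_iff x).mp h)) (g' := (g : P ⧸ N))
    exact ⟨i, (QuotientGroup.eq_one_iff _).mp (by
      rw [QuotientGroup.mk_mul, QuotientGroup.mk_zpow, ← hi, zpow_neg, mul_inv_cancel])⟩
  set R := δ.range
  have hxR : ∀ (i : ℤ) (n : N), π (x ^ i * n * (x ^ i)⁻¹ * (n : P)⁻¹) ∈ R := by
    intro i
    induction i using Int.induction_on with
    | zero => intro n; simp [one_mem]
    | succ i ih =>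
      intro n
      have h1 : π (x ^ ((i : ℤ) + 1) * n * (x ^ ((i : ℤ) + 1))⁻¹ * (n : P)⁻¹) =
          δ ⟨x ^ (i : ℤ) * n * (x ^ (i : ℤ))⁻¹, Normal.conj_mem inferInstance _ n.2 _⟩ *
            π (x ^ (i : ℤ) * n * (x ^ (i : ℤ))⁻¹ * (n : P)⁻¹) := by
        show _ = π _ * _
        rw [← map_mul, add_comm, zpow_one_add]
        congr 1
        group
      rw [h1]
      exact mul_mem ⟨_, rfl⟩ (ih n)
    | pred i ih =>
      intro n
      set m : N := ⟨x ^ (-(i : ℤ) - 1) * n * (x ^ (-(i : ℤ) - 1))⁻¹, Normal.conj_mem inferInstance _ n.2 _⟩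
      have h1 : π (x ^ (-(i : ℤ) - 1) * n * (x ^ (-(i : ℤ) - 1))⁻¹ * (n : P)⁻¹) =
          (δ m)⁻¹ * π (x ^ (-(i : ℤ)) * n * (x ^ (-(i : ℤ)))⁻¹ * (n : P)⁻¹) := by
        show _ = (π _)⁻¹ * _
        rw [← map_inv, ← map_mul]
        congr 1
        simp only [m]
        group
      rw [h1]
      exact mul_mem (inv_mem ⟨m, rfl⟩) (ih n)
  have hR : (commutator P).map π = R := by
    refine le_antisymm ?_ ?_
    · rw [_root_.commutator_def, map_commutator, Subgroup.commutator_le]
      rintro _ ⟨a, -, rfl⟩ _ ⟨b, -, rfl⟩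
      obtain ⟨i, hi⟩ := hgen a
      obtain ⟨j, hj⟩ := hgen b
      set m := a * x ^ (-i)
      set k := b * x ^ (-j)
      have ha : a = m * x ^ i := by simp [m]
      have hb : b = k * x ^ j := by simp [k]
      set u := x ^ i * k * (x ^ i)⁻¹ * k⁻¹
      set v := x ^ j * m * (x ^ j)⁻¹ * m⁻¹
      have hu : u ∈ N := mul_mem (Normal.conj_mem inferInstance _ hj _) (inv_mem hj)
      have hv : v ∈ N := mul_mem (Normal.conj_mem inferInstance _ hi _) (inv_mem hi)
      have e : ⁅π a, π b⁆ = π u * (π v)⁻¹ := by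
        rw [← map_commutatorElement, commutatorElement_def, ha, hb,
          show m * x ^ i * (k * x ^ j) * (m * x ^ i)⁻¹ * (k * x ^ j)⁻¹ =
            m * u * k * (v * m)⁻¹ * k⁻¹ by simp only [u, v]; group]
        simp only [map_mul, map_inv, mul_inv_rev]
        have c1 := hab m hi u hu
        have c2 := hab m hi k hj
        have c3 := hab k hj v hv
        calc π m * π u * π k * ((π m)⁻¹ * (π v)⁻¹) * (π k)⁻¹
            = π u * (π m * π k) * (π m)⁻¹ * ((π v)⁻¹ * (π k)⁻¹) := by rw [c1]; group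
          _ = π u * π k * ((π v)⁻¹ * (π k)⁻¹) := by rw [c2]; group
          _ = π u * (π v)⁻¹ := by
            rw [← mul_inv_rev, c3, mul_inv_rev]; group
      rw [e]
      exact mul_mem (hxR i ⟨k, hj⟩) (inv_mem (hxR j ⟨m, hi⟩))
    · rintro _ ⟨n, rfl⟩
      exact ⟨_, commutator_mem_commutator (mem_top x) (mem_top (n : P)), rfl⟩
  have hDle : D ≤ commutator P := by
    rw [hD, map_subtype_commutator]
    exact commutator_mono le_top le_top
  have hmap : Nat.card ((commutator P).map π) * Nat.card D = Nat.card (commutator P) := by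
    have h := ((π.domRestrict (commutator P)).ker).card_mul_index
    rw [Subgroup.index_ker, MonoidHom.domRestrict_range, MonoidHom.ker_domRestrict,
      QuotientGroup.ker_mk', Nat.card_congr (subgroupOfEquivOfLe hDle).toEquiv] at h
    rw [← h, mul_comm]
  have hδ := δ.ker.card_mul_index
  rw [index_ker] at hδ
  have hDc : Nat.card D = Nat.card (commutator N) := card_map_of_injective N.subtype_injective
  have h1 := (commutator P).card_mul_index
  have h2 := N.card_mul_index
  rw [hN] at h2
  rw [hR] at hmap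
  rw [← hker, ← hDc]
  change Nat.card δ.ker * Nat.card R = _ at hδ
  have key : (commutator P).index * Nat.card D = p * Nat.card δ.ker := by
    refine Nat.eq_of_mul_eq_mul_left (Nat.card_pos (α := R)) ?_
    calc Nat.card R * ((commutator P).index * Nat.card D) =
        Nat.card (commutator P) * (commutator P).index := by rw [← hmap]; ring
      _ = Nat.card R * (p * Nat.card δ.ker) := by rw [h1, ← h2, ← hδ]; ring
  constructor <;> intro h
  · rw [h] at key
    refine Nat.eq_of_mul_eq_mul_left hp.pos (key.symm.trans (by ring))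
  · refine Nat.eq_of_mul_eq_mul_right (Nat.card_pos (α := D)) (key.trans (by rw [h]; ring))

/-- Let p be a prime, P a finite p-group and N a normal subgroup of P of index p. For x ∈ P write c(x) for the number of elements n of N whose commutator x n x⁻¹ n⁻¹ lies in the derived subgroup N' (so c(x)/#N' is the order of the centralizer of x acting on N/N'). Then [P : P'] = p² if and only if c(x) = p·#N' for every x ∈ P outside N, and also if and only if c(x) = p·#N' for some x ∈ P outside N. -/
theorem result {P : Type*} [Group P] [Finite P] (p : ℕ) [Fact p.Prime] (hP : IsPGroup p P) (N : Subgroup P) [N.Normal] (hN : N.index = p) :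
    ((commutator P).index = p ^ 2 ↔ ∀ x : P, x ∉ N →
        Nat.card {n : N // x * n * x⁻¹ * (n : P)⁻¹ ∈ (commutator N).map N.subtype} = p * Nat.card (commutator N)) ∧
    ((commutator P).index = p ^ 2 ↔ ∃ x : P, x ∉ N ∧
        Nat.card {n : N // x * n * x⁻¹ * (n : P)⁻¹ ∈ (commutator N).map N.subtype} = p * Nat.card (commutator N)) := by
  have hp : p.Prime := Fact.out
  obtain ⟨x, hx⟩ : ∃ x, x ∉ N := by
    by_contra h
    push Not at h
    exact hp.ne_one (hN ▸ index_eq_one.mpr ((eq_top_iff' N).mpr h))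
  exact ⟨⟨fun h y hy => (card_eq p hp N hN hy).mp h, fun h => (card_eq p hp N hN hx).mpr (h x hx)⟩,
    ⟨fun h => ⟨x, hx, (card_eq p hp N hN hx).mp h⟩,
      fun ⟨y, hy, h⟩ => (card_eq p hp N hN hy).mpr h⟩⟩

end Cfsg.Agent.S4586
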