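import Cfsg.Statements.S4604
import Cfsg.Agent.Blocks.Congr
import Cfsg.Agent.Char.IntegralBrauer
import Mathlib.Algebra.CharP.Quotient
import Mathlib.Algebra.CharP.Lemmas
-- import your own Cfsg.Agent.* helpers here

set_option autoImplicit false
open Cfsg

namespace Cfsg.Agent.S4604

open CfsgLib.Char CfsgLib.Block

/-- The iterated Frobenius congruence for character values, modulo `p` itself. -/
private theorem pow_cong {G : Type*} [Group G] [Finite G] {χ : G → ℂ} (hχ : Cfsg.IsCharacter G χ)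
    {p : ℕ} [Fact p.Prime] (e : ℕ) (g : G) :
    ∃ γ : Cfsg.AlgInt, χ g ^ p ^ e - χ (g ^ p ^ e) = (p : ℂ) * (γ : ℂ) := by
  classical
  obtain ⟨s, -, hs, hk⟩ := IsCharacter.exists_roots hχ g
  obtain ⟨t, rfl⟩ : ∃ t : Multiset Cfsg.AlgInt, t.map Subtype.val = s := by
    refine ⟨s.attach.map fun z => (⟨z.1, isIntegral_of_pow_eq_one (orderOf_pos g) (hs z.1 z.2)⟩ :
      Cfsg.AlgInt), ?_⟩
    rw [Multiset.map_map]
    exact s.attach_map_val
  have hnu : (p : Cfsg.AlgInt) ∈ nonunits Cfsg.AlgInt := by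
    obtain ⟨M, -, hM, hpM⟩ := exists_isPModular (Fact.out : p.Prime)
    exact fun hu => hM.ne_top (Ideal.eq_top_of_isUnit_mem M hpM hu)
  haveI := CharP.quotient Cfsg.AlgInt p hnu
  have hmem : t.sum ^ p ^ e - (t.map fun z => z ^ p ^ e).sum ∈
      Ideal.span ({(p : Cfsg.AlgInt)} : Set Cfsg.AlgInt) := by
    rw [← Ideal.Quotient.eq, map_pow, map_multiset_sum, map_multiset_sum,
      multiset_sum_pow_char_pow, Multiset.map_map, Multiset.map_map]
    refine congrArg Multiset.sum (Multiset.map_congr rfl fun z _ => ?_)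
    simp
  obtain ⟨γ, hγ⟩ := Ideal.mem_span_singleton.1 hmem
  refine ⟨γ, ?_⟩
  have hsum : ∀ u : Multiset Cfsg.AlgInt, (u.map Subtype.val).sum = ((u.sum : Cfsg.AlgInt) : ℂ) :=
    fun u => (map_multiset_sum Cfsg.AlgInt.val u).symm
  have h1 : χ g = ((t.sum : Cfsg.AlgInt) : ℂ) := by
    have := hk 1
    simp only [pow_one, Multiset.map_id'] at this
    rw [this, hsum]
  have h2 : χ (g ^ p ^ e) = (((t.map fun z => z ^ p ^ e).sum : Cfsg.AlgInt) : ℂ) := by
    rw [hk (p ^ e), ← hsum, Multiset.map_map, Multiset.map_map]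
    refine congrArg Multiset.sum (Multiset.map_congr rfl fun z _ => ?_)
    simp
  have := congrArg (Subtype.val : Cfsg.AlgInt → ℂ) hγ
  rw [AddSubgroupClass.coe_sub, MulMemClass.coe_mul, SubmonoidClass.coe_pow] at this
  rw [h1, h2, this]
  norm_cast

/-- Let G be a finite group, p a prime and p^a the p-part of the order of G. Let x, y ∈ G and let x′, y′ be their p-regular parts: x′ has order prime to p, commutes with x·x′⁻¹, and x·x′⁻¹ has p-power order (likewise for y). Then x′ and y′ are conjugate in G if and only if for every irreducible character χ of G the algebraic integer χ(x)^(p^a) − χ(y)^(p^a) is p times an algebraic integer. -/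
theorem result {G : Type*} [Group G] [Finite G] (p : ℕ) [Fact p.Prime] (x y x' y' : G)
    (hx : (∃ k : ℕ, orderOf (x * x'⁻¹) = p ^ k) ∧ Commute (x * x'⁻¹) x' ∧ ¬ p ∣ orderOf x')
    (hy : (∃ k : ℕ, orderOf (y * y'⁻¹) = p ^ k) ∧ Commute (y * y'⁻¹) y' ∧ ¬ p ∣ orderOf y') :
    IsConj x' y' ↔ ∀ χ : Cfsg.IrrCharacter G, ∃ γ : Cfsg.AlgInt,
      (χ : G → ℂ) x ^ (p ^ (Nat.card G).factorization p) - (χ : G → ℂ) y ^ (p ^ (Nat.card G).factorization p) = (p : ℂ) * (γ : ℂ) := by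
  classical
  haveI := Fintype.ofFinite G
  have hp : p.Prime := Fact.out
  set a := (Nat.card G).factorization p with ha
  set q := p ^ a with hq
  -- the powers only see the regular parts
  have hred : ∀ z z' : G, (∃ k : ℕ, orderOf (z * z'⁻¹) = p ^ k) → Commute (z * z'⁻¹) z' →
      z ^ q = z' ^ q := by
    rintro z z' ⟨k, hk⟩ hc
    have hu : (z * z'⁻¹) ^ q = 1 := by
      refine orderOf_dvd_iff_pow_eq_one.1 ?_
      rw [hk, hq, ha]
      refine Nat.pow_dvd_pow p ((hp.pow_dvd_iff_le_factorization Nat.card_pos.ne').1 ?_)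
      exact hk ▸ orderOf_dvd_natCard _
    have := hc.mul_pow q
    rwa [inv_mul_cancel_right, hu, one_mul] at this
  have hxq := hred x x' hx.1 hx.2.1
  have hyq := hred y y' hy.1 hy.2.1
  constructor
  · intro hconj χ
    obtain ⟨γ₁, h1⟩ := pow_cong (IsIrrCharacter.isCharacter χ.2) a x (p := p)
    obtain ⟨γ₂, h2⟩ := pow_cong (IsIrrCharacter.isCharacter χ.2) a y (p := p)
    obtain ⟨c, hc⟩ := isConj_iff.1 hconj
    have h3 : (χ : G → ℂ) (x ^ q) = (χ : G → ℂ) (y ^ q) := by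
      rw [hxq, hyq, ← hc, conj_pow, IsIrrCharacter.isClassFunction χ.2]
    refine ⟨γ₁ - γ₂, ?_⟩
    rw [show (χ : G → ℂ) x ^ q - (χ : G → ℂ) y ^ q = ((χ : G → ℂ) x ^ q - (χ : G → ℂ) (x ^ q)) -
      ((χ : G → ℂ) y ^ q - (χ : G → ℂ) (y ^ q)) by rw [h3]; ring, h1, h2]
    push_cast
    ring
  · intro h
    obtain ⟨M, hM⟩ := exists_isPModular hp
    haveI := isPrime_of_isPModular hM
    have hreg : ∀ z : G, ¬ p ∣ orderOf z → ¬ p ∣ orderOf (z ^ q) := fun z hz hd =>
      hz (hd.trans (orderOf_pow_dvd q))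
    have hconj : IsConj (x' ^ q) (y' ^ q) := by
      refine isConj_of_cong hM (hreg x' hx.2.2) (hreg y' hy.2.2) fun χ hχ => ?_
      obtain ⟨γ₁, h1⟩ := pow_cong (IsIrrCharacter.isCharacter hχ) a x (p := p)
      obtain ⟨γ₂, h2⟩ := pow_cong (IsIrrCharacter.isCharacter hχ) a y (p := p)
      obtain ⟨γ, h3⟩ : ∃ γ : Cfsg.AlgInt, χ x ^ q - χ y ^ q = (p : ℂ) * (γ : ℂ) := h ⟨χ, hχ⟩
      rw [← hq, hxq] at h1
      rw [← hq, hyq] at h2
      refine ⟨(p : Cfsg.AlgInt) * (γ - γ₁ + γ₂), 1, M.mul_mem_right _ hM.2.2,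
        fun h1 => hM.2.1.ne_top (M.eq_top_iff_one.2 h1), ?_⟩
      push_cast
      rw [div_one]
      linear_combination -h3 + h1 - h2
    obtain ⟨k, -, hk1⟩ : ∃ k : ℕ, k ≡ 0 [MOD 1] ∧
        q * k ≡ 1 [MOD orderOf x' * orderOf y'] := by
      have hcop : q.Coprime (orderOf x' * orderOf y') :=
        ((hp.coprime_iff_not_dvd.2 hx.2.2).mul_right (hp.coprime_iff_not_dvd.2 hy.2.2)).pow_left a
      obtain ⟨k, -, hk⟩ := Nat.exists_mul_mod_eq_of_coprime 1 hcop
        (Nat.mul_ne_zero (orderOf_pos x').ne' (orderOf_pos y').ne')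
      exact ⟨k, Nat.modEq_one, hk⟩
    have hback : ∀ z : G, orderOf z ∣ orderOf x' * orderOf y' → (z ^ q) ^ k = z := fun z hz => by
      rw [← pow_mul, pow_eq_pow_iff_modEq.2 (hk1.of_dvd hz), pow_one]
    obtain ⟨c, hc⟩ := isConj_iff.1 hconj
    refine isConj_iff.2 ⟨c, ?_⟩
    rw [← hback x' (dvd_mul_right _ _), ← hback y' (dvd_mul_left _ _), ← hc, conj_pow]

end Cfsg.Agent.S4604
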