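import Cfsg.Statements.S4607
import Cfsg.Agent.BlocksB.DefectCount
import Cfsg.Agent.BlocksB.TwoCharacters.Main

set_option autoImplicit false
open Cfsg

namespace Cfsg.Agent.S4607

/-- Let G be a finite group, p a prime, M a maximal ideal of the algebraic integers containing p, and B a p-block of G with defect group D. Then B contains exactly two irreducible characters if and only if D has order 2. -/
theorem result {G : Type*} [Group G] [Finite G] (p : ℕ) [Fact p.Prime] (M : Ideal Cfsg.AlgInt) (hM : Cfsg.IsPModular p M) (B : Set (Cfsg.IrrCharacter G)) (hB : Cfsg.IsPBlock M B) (D : Subgroup G) (hD : Cfsg.IsDefectGroup p M B D) : Nat.card B = 2 ↔ Nat.card D = 2 := by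
  classical
  haveI := Fintype.ofFinite G
  haveI := hM.2.1.isPrime
  haveI := CfsgLib.Block.charP_residue hM
  haveI : Fintype B := Fintype.ofFinite B
  have hcard := CfsgLib.Block.card_defectGroup hM hB hD
  refine ⟨fun hk => ?_, fun h2 => ?_⟩
  · obtain ⟨rfl, hd⟩ := CfsgLib.TwoChars.defect_of_card_two hM hB hk
    rw [hcard, hd, pow_one]
  · rw [hcard] at h2
    have hp := (Fact.out : p.Prime)
    have hd : Cfsg.blockDefect p B ≠ 0 := fun h => by rw [h, pow_zero] at h2; omega
    have hp2 : p = 2 := by
      have h := (dvd_pow_self p hd).trans h2.dvd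
      exact (Nat.prime_dvd_prime_iff_eq hp Nat.prime_two).1 h
    subst hp2
    have hd1 : Cfsg.blockDefect 2 B = 1 := by
      have := Nat.pow_right_injective (le_refl 2) (h2.trans (pow_one 2).symm)
      exact this
    have hle := (CfsgLib.BlockB.card_le_pow_defect hM _ hB hd1).1 (by omega)
    rw [pow_one] at hle
    obtain ⟨χ, hχ⟩ := CfsgLib.Block.exists_mem_block hB
    haveI : Nonempty B := ⟨⟨χ, hχ⟩⟩
    have hpos : 0 < Nat.card B := Nat.card_pos
    by_contra hne
    have h1 : Nat.card B = 1 := by omega
    have hr := CfsgLib.BlockB.blockRank_le_card (p := 2) hM hB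
    refine hd (CfsgLib.BlockB.defect_zero_of_rank_eq hM hB ?_)
    have hr0 : Cfsg.blockRank 2 B ≠ 0 := by
      intro h
      rw [Cfsg.blockRank, Submodule.finrank_eq_zero, Submodule.span_eq_bot] at h
      have h1 := congrFun (h _ ⟨χ, hχ, rfl⟩) 1
      simp only [CfsgLib.Block.pRegularPart_eq] at h1
      rw [CfsgLib.Block.regPart_of_not_dvd (by rw [orderOf_one]; omega), Pi.zero_apply] at h1
      exact CfsgLib.Block.Chr.irr_one_ne_zero χ h1
    omega

end Cfsg.Agent.S4607
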