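import Cfsg.Statements.S4609
import Cfsg.Agent.BlocksB.ThreeNormal.Reduce
import Cfsg.Agent.BlocksB.QuotientDefect
import Cfsg.Agent.BlocksB.InducedDefect
import Cfsg.Agent.BlocksB.RegRank
import Cfsg.Agent.BlocksB.Cyclic.Main
import Cfsg.Agent.Solvable.PGroupBasic

set_option autoImplicit false
set_option linter.style.haveILetI false
open Cfsg

namespace Cfsg.Agent.S4609

open scoped commutatorElement

/-- Let G be a finite group, p a prime, M a maximal ideal of the algebraic integers containing p, and B a p-block of G with defect group D containing exactly three irreducible characters. Suppose the number of height-zero characters of B equals the number of height-zero characters of its Brauer correspondent b, the block of N_G(D) with defect group D inducing B (as the Alperin–McKay conjecture predicts). Then D has order 3. -/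
theorem result {G : Type*} [Group G] [Finite G] (p : ℕ) [Fact p.Prime] (M : Ideal Cfsg.AlgInt) (hM : Cfsg.IsPModular p M) (B : Set (Cfsg.IrrCharacter G)) (hB : Cfsg.IsPBlock M B) (D : Subgroup G) (hD : Cfsg.IsDefectGroup p M B D) (hk : Nat.card B = 3)
    (b : Set (Cfsg.IrrCharacter (Subgroup.normalizer (D : Set G)))) (hbB : Cfsg.IsInducedBlock M (Subgroup.normalizer (D : Set G)) b B)
    (hbD : Cfsg.IsDefectGroup p M b (D.subgroupOf (Subgroup.normalizer (D : Set G))))
    (hAM : Nat.card {χ : Cfsg.IrrCharacter G // χ ∈ B ∧ Cfsg.blockHeight p B (χ : G → ℂ) = 0} =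
           Nat.card {ψ : Cfsg.IrrCharacter (Subgroup.normalizer (D : Set G)) // ψ ∈ b ∧ Cfsg.blockHeight p b (ψ : Subgroup.normalizer (D : Set G) → ℂ) = 0}) :
    Nat.card D = 3 := by
  classical
  haveI := hM.2.1.isPrime
  haveI := CfsgLib.Block.charP_residue hM
  haveI := Fintype.ofFinite G
  haveI : Finite (Cfsg.IrrCharacter G) := CfsgLib.Char.finite_irrCharacter G
  have hp : p.Prime := Fact.out
  have hcard := CfsgLib.Block.card_defectGroup hM hB hD
  have hdef : blockDefect p B ≠ 0 := fun h0 => by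
    have := (CfsgLib.BlockB.card_and_rank_of_defect_zero hM hB h0).1
    omega
  -- the correspondent has at most three characters of height zero
  have hDN : D ≤ Subgroup.normalizer (D : Set G) := Subgroup.le_normalizer
  have hnorm : (D.subgroupOf (Subgroup.normalizer (D : Set G))).Normal :=
    Subgroup.normal_in_normalizer
  revert b hbB hbD hAM hnorm hDN
  generalize Subgroup.normalizer (D : Set G) = N
  intro b hbB hbD hAM hDN hnorm
  haveI : Fintype N := Fintype.ofFinite _
  haveI : Finite (Cfsg.IrrCharacter N) := CfsgLib.Char.finite_irrCharacter N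
  have hb3 : Nat.card {ψ : Cfsg.IrrCharacter N //
      ψ ∈ b ∧ Cfsg.blockHeight p b (ψ : N → ℂ) = 0} ≤ 3 := by
    rw [← hAM, ← hk]
    exact Nat.card_le_card_of_injective (fun χ => (⟨χ.1, χ.2.1⟩ : B)) fun χ χ' h =>
      Subtype.ext (congrArg (fun x : B => x.1) h)
  -- the Frattini quotient of the defect group
  have hbB' : IsPBlock M b := hbB.1
  let D' : Subgroup N := D.subgroupOf N
  haveI hD'n : D'.Normal := hnorm
  have hD'p : IsPGroup p D' := CfsgLib.Block.isPGroup_defectGroup hbD
  let K : Subgroup N := (frattini D').map D'.subtype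
  haveI : K.Normal := ConjAct.normal_of_characteristic_of_normal
  have hKD : K ≤ D' := Subgroup.map_subtype_le _
  have hKp : IsPGroup p K := hD'p.to_le hKD
  obtain ⟨hcomm, hpow⟩ := CfsgLib.PGroupBasic.commutator_pow_le_frattini hD'p
  obtain ⟨Bb, hBb, hinfl, hDef⟩ := CfsgLib.Block.Quot.exists_block_map_defectGroup hM hKp hbB'
  haveI : Fintype (N ⧸ K) := Fintype.ofFinite _
  let V : Subgroup (N ⧸ K) := D'.map (QuotientGroup.mk' K)
  haveI : V.Normal := Subgroup.Normal.map hD'n _ (QuotientGroup.mk'_surjective K)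
  have hV : IsDefectGroup p M Bb V := (hDef V).2 ⟨D', hbD, rfl⟩
  have hVab : ∀ a ∈ V, ∀ c ∈ V, a * c = c * a := by
    rintro _ ⟨a, ha, rfl⟩ _ ⟨c, hc, rfl⟩
    rw [← map_mul, ← map_mul, QuotientGroup.mk'_eq_mk']
    refine ⟨(a * c)⁻¹ * (c * a), ?_, mul_inv_cancel_left _ _⟩
    refine ⟨((⟨a, ha⟩ : D') * ⟨c, hc⟩)⁻¹ * (⟨c, hc⟩ * ⟨a, ha⟩), hcomm ?_, rfl⟩
    rw [mul_inv_rev, show (⟨c, hc⟩ : D')⁻¹ * (⟨a, ha⟩ : D')⁻¹ * (⟨c, hc⟩ * ⟨a, ha⟩) =
      ⁅(⟨c, hc⟩ : D')⁻¹, (⟨a, ha⟩ : D')⁻¹⁆ by simp only [commutatorElement_def, inv_inv, mul_assoc]]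
    exact Subgroup.commutator_mem_commutator (Subgroup.mem_top _) (Subgroup.mem_top _)
  have hVexp : ∀ a ∈ V, a ^ p = 1 := by
    rintro _ ⟨a, ha, rfl⟩
    rw [← map_pow]
    exact (QuotientGroup.eq_one_iff _).2 ⟨(⟨a, ha⟩ : D') ^ p, hpow _, rfl⟩
  -- inflations have height zero
  have hh0 : ∀ φ ∈ Bb, blockHeight p b (CfsgLib.Block.Quot.inflIrr φ : N → ℂ) = 0 := by
    intro φ hφ
    have hz := (CfsgLib.Block.abelian_iff_height_zero hM hBb V hV).1 hVab φ hφ
    have h1 := CfsgLib.Block.factorization_degree hM hBb hφ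
    have h2 := CfsgLib.Block.factorization_degree hM hbB' (hinfl φ hφ)
    have e : charDegree (CfsgLib.Block.Quot.inflIrr φ : N → ℂ) = charDegree (φ : N ⧸ K → ℂ) := by
      simp only [charDegree, CfsgLib.Block.Quot.inflIrr, Function.comp_apply, QuotientGroup.mk_one]
    rw [e, h1, hz] at h2
    have c1 : (Nat.card D').factorization p = blockDefect p b := by
      rw [CfsgLib.Block.card_defectGroup hM hbB' hbD, hp.factorization_pow, Finsupp.single_eq_same]
    have c2 : (Nat.card V).factorization p = blockDefect p Bb := by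
      rw [CfsgLib.Block.card_defectGroup hM hBb hV, hp.factorization_pow, Finsupp.single_eq_same]
    have c3 : Nat.card D' = Nat.card V * Nat.card K := by
      let π := (QuotientGroup.mk' K).comp D'.subtype
      have e1 : π.range = V := by rw [MonoidHom.range_comp, Subgroup.range_subtype]
      have e2 : π.ker = K.subgroupOf D' := by
        rw [← MonoidHom.comap_ker, QuotientGroup.ker_mk']
        rfl
      rw [← Subgroup.card_mul_index π.ker, Subgroup.index_ker, e1, e2,
        Nat.card_congr (Subgroup.subgroupOfEquivOfLe hKD).toEquiv, mul_comm]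
    have c4 := congrArg (fun m : ℕ => m.factorization p) c3
    have c5 := congrArg (fun m : ℕ => m.factorization p)
      (Subgroup.card_eq_card_quotient_mul_card_subgroup K)
    simp only [Nat.factorization_mul Nat.card_pos.ne' Nat.card_pos.ne', Finsupp.add_apply]
      at c4 c5
    have h3 := CfsgLib.Block.blockDefect_le (p := p) b
    have h4 := CfsgLib.Block.blockDefect_le (p := p) Bb
    omega
  have hBb3 : Nat.card Bb ≤ 3 := by
    refine le_trans (Nat.card_le_card_of_injective
      (fun φ : Bb => (⟨CfsgLib.Block.Quot.inflIrr φ.1, hinfl _ φ.2, hh0 _ φ.2⟩ :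
        {ψ : Cfsg.IrrCharacter N // ψ ∈ b ∧ Cfsg.blockHeight p b (ψ : N → ℂ) = 0}))
      fun φ φ' h => ?_) hb3
    refine Subtype.ext (Subtype.ext (funext fun q => ?_))
    obtain ⟨g, rfl⟩ := QuotientGroup.mk_surjective q
    exact congrFun (congrArg Subtype.val (congrArg Subtype.val h)) g
  have hVcyc : IsCyclic V :=
    CfsgLib.ThreeNormal.isCyclic_of_card_le_three hM V hVab hVexp hBb hV hBb3
  -- hence the defect group is cyclic
  have hD'cyc : IsCyclic D' := by
    obtain ⟨⟨_, x, hx, rfl⟩, hgen⟩ := hVcyc.exists_generator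
    refine ⟨⟨⟨x, hx⟩, fun y => show y ∈ Subgroup.zpowers (⟨x, hx⟩ : D') from ?_⟩⟩
    have htop : Subgroup.zpowers (⟨x, hx⟩ : D') ⊔ frattini D' = ⊤ := by
      refine eq_top_iff.2 fun z _ => ?_
      obtain ⟨i, hi⟩ := Subgroup.mem_zpowers_iff.1
        (hgen ⟨QuotientGroup.mk' K z.1, z.1, z.2, rfl⟩)
      have hi' : QuotientGroup.mk' K (x ^ i) = QuotientGroup.mk' K z.1 := by
        rw [map_zpow]
        exact congrArg Subtype.val hi
      obtain ⟨w, ⟨w', hw', rfl⟩, hwe⟩ := (QuotientGroup.mk'_eq_mk' K).1 hi'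
      have : (⟨x, hx⟩ : D') ^ i * w' = z := Subtype.ext (by simpa using hwe)
      exact this ▸ Subgroup.mul_mem_sup (Subgroup.zpow_mem_zpowers _ i) hw'
    rw [frattini_nongenerating htop]
    exact Subgroup.mem_top y
  have hDcyc : IsCyclic D :=
    isCyclic_of_surjective (Subgroup.subgroupOfEquivOfLe hDN)
      (Subgroup.subgroupOfEquivOfLe hDN).surjective
  -- cyclic defect
  haveI : Fintype (Subgroup.centralizer (D : Set G)) := Fintype.ofFinite _
  haveI := Fintype.ofFinite D
  letI := CfsgLib.Block.Chr.irrFintype (G := G)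
  haveI : Fintype B := Fintype.ofFinite B
  have hD1 : D ≠ ⊥ := fun h => by
    rw [h, Subgroup.card_bot] at hcard
    exact absurd hcard.symm (Nat.one_lt_pow hdef hp.one_lt).ne'
  have hDC : D ≤ Subgroup.centralizer (D : Set G) := fun u hu =>
    Subgroup.mem_centralizer_iff.2 fun v hv =>
      CfsgLib.Cyclic.commute_of_cyclic hDcyc v hv u hu
  obtain ⟨c, hc, -⟩ := CfsgLib.BlockB.exists_induced_of_central hM hB hD le_rfl hDC
  obtain ⟨t, n, S⟩ := CfsgLib.Cyclic.exists_cycData hM hB hD hDcyc hD1 hc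
  obtain ⟨m, W⟩ := S.exists_cycVals
  obtain ⟨χ₀, hχ₀, -⟩ := CfsgLib.Block.exists_height_zero hM hB
  obtain ⟨-, X, δ, δ₀, rep, Tr, -⟩ := CfsgLib.Cyclic.exists_tree S W ⟨χ₀, hχ₀⟩
  have h1 := Tr.card_Y
  have h2 := Tr.card_X
  have h3 := Finset.card_add_card_compl X
  rw [← Nat.card_eq_fintype_card, hk] at h3
  have h4 : 1 < Nat.card D := hcard ▸ Nat.one_lt_pow hdef hp.one_lt
  have h5 := S.n_pos
  have h6 : n ≤ 3 := by omega
  interval_cases n <;> omega

end Cfsg.Agent.S4609
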