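import Cfsg.Statements.S4611
import Cfsg.Agent.Blocks.PSolvablePrincipal
import Cfsg.Agent.Char.PPrimeKernel

set_option autoImplicit false
set_option linter.style.haveILetI false
open Cfsg

namespace Cfsg.Agent.S4611

/-- For solvable G and a nonempty set π of prime divisors of #G, the principal blocks B₀(p), p ∈ π, meet in the trivial character alone iff G is generated by the O_{p′}(G), p ∈ π. -/
theorem result {G : Type*} [Group G] [Finite G] [Group.IsSolvable G] (π : Set ℕ) (hπ : ∀ p ∈ π, p.Prime ∧ p ∣ Nat.card G) (hne : π.Nonempty) (M : ℕ → Ideal Cfsg.AlgInt) (hM : ∀ p ∈ π, Cfsg.IsPModular p (M p)) :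
    (∀ χ : Cfsg.IrrCharacter G, (∀ p ∈ π, χ ∈ Cfsg.principalBlock (M p) G) → (χ : G → ℂ) = fun _ => 1) ↔
      ⨆ p ∈ π, Cfsg.pPrimeCore p G = ⊤ := by
  classical
  haveI := Fintype.ofFinite G
  have hmem : ∀ p ∈ π, ∀ χ : Cfsg.IrrCharacter G, χ ∈ Cfsg.principalBlock (M p) G ↔
      ∀ k ∈ Cfsg.pPrimeCore p G, (χ : G → ℂ) k = (χ : G → ℂ) 1 := fun p hp => by
    haveI := Fact.mk (hπ p hp).1
    haveI := (hM p hp).2.1.isPrime
    exact (CfsgLib.Block.principalBlock_of_constrained (hM p hp)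
      CfsgLib.Block.selfCent_quotient_of_solvable).1
  constructor
  · intro h
    by_contra hT
    set T := ⨆ p ∈ π, Cfsg.pPrimeCore p G with hTdef
    haveI : T.Normal := Subgroup.biSup_normal π _ fun p _ => CfsgLib.Solvable.pPrimeCore_normal p
    obtain ⟨f, hf, hf1⟩ := CfsgLib.Char.PPrimeKernel.exists_ne_one (A := G ⧸ T) (by
      rw [← Subgroup.index_eq_card]; exact fun e => hT (Subgroup.index_eq_one.1 e))
    refine hf1 (funext fun a => ?_)
    obtain ⟨g, rfl⟩ := QuotientGroup.mk'_surjective T a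
    refine congrFun (h ⟨_, CfsgLib.Char.IsIrrCharacter.comp_surjective hf (QuotientGroup.mk' T)
      (QuotientGroup.mk'_surjective T)⟩ fun p hp => (hmem p hp _).2 fun k hk => ?_) g
    show f (QuotientGroup.mk' T k) = f (QuotientGroup.mk' T 1)
    rw [map_one, QuotientGroup.mk'_apply,
      (QuotientGroup.eq_one_iff k).2
        (show k ∈ T from (le_iSup₂ (f := fun q (_ : q ∈ π) => Cfsg.pPrimeCore q G) p hp) hk)]
  · intro hT χ hχ
    set W := CfsgLib.Char.kerSubgroup (CfsgLib.Char.IsIrrCharacter.isCharacter χ.2)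
    have hW : W = ⊤ := top_le_iff.1 (hT.ge.trans (iSup₂_le fun p hp k hk =>
      (CfsgLib.Char.mem_kerSubgroup _ _).2 ((hmem p hp χ).1 (hχ p hp) k hk)))
    have hconst : ∀ g : G, (χ : G → ℂ) g = (χ : G → ℂ) 1 := fun g =>
      (CfsgLib.Char.mem_kerSubgroup _ _).1 (hW ▸ Subgroup.mem_top g)
    have h1 := CfsgLib.Block.Chr.classInner_irr χ χ
    rw [if_pos rfl, CfsgLib.Char.classInner_def] at h1
    simp only [hconst, Finset.sum_const, Finset.card_univ, nsmul_eq_mul,
      (CfsgLib.Block.Chr.irr_one χ).1, Complex.conj_natCast, ← Nat.card_eq_fintype_card] at h1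
    rw [inv_mul_cancel_left₀ (Nat.cast_ne_zero.2 Nat.card_pos.ne')] at h1
    have h2 : Cfsg.charDegree (χ : G → ℂ) = 1 := Nat.eq_one_of_mul_eq_one_right (by exact_mod_cast h1)
    exact funext fun g => by rw [hconst g, (CfsgLib.Block.Chr.irr_one χ).1, h2, Nat.cast_one]

end Cfsg.Agent.S4611
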