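import Cfsg.Statements.S4620
import Cfsg.Agent.Solvable.Basics

set_option autoImplicit false
set_option linter.style.haveILetI false

open Subgroup Pointwise

namespace Cfsg.Agent.S4620

set_option linter.unusedSectionVars false

variable {H : Type*} [Group H] [Finite H] {p : ℕ} [Fact p.Prime]

theorem pCore_char : (Cfsg.pCore p H).Characteristic :=
  characteristic_iff_map_le.2 fun φ => by
    haveI := CfsgLib.Solvable.pCore_normal (G := H) p
    exact CfsgLib.Solvable.le_pCore p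
      (Normal.map inferInstance φ.toMonoidHom φ.surjective)
      ((CfsgLib.Solvable.isPGroup_pCore p).map _)

theorem pPrimeCore_char : (Cfsg.pPrimeCore p H).Characteristic :=
  characteristic_iff_map_le.2 fun φ => by
    haveI := CfsgLib.Solvable.pPrimeCore_normal (G := H) p
    exact CfsgLib.Solvable.le_pPrimeCore p
      (Normal.map inferInstance φ.toMonoidHom φ.surjective)
      (by rw [card_map_of_injective φ.injective]; exact CfsgLib.Solvable.coprime_card_pPrimeCore p)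

theorem cores_of_normal (hOp : Cfsg.pCore p H = ⊥) (hOp' : Cfsg.pPrimeCore p H = ⊥)
    (N : Subgroup H) [N.Normal] : Cfsg.pCore p N = ⊥ ∧ Cfsg.pPrimeCore p N = ⊥ := by
  haveI := pCore_char (H := N) (p := p)
  haveI := pPrimeCore_char (H := N) (p := p)
  constructor
  · rw [← map_eq_bot_iff_of_injective _ N.subtype_injective, ← le_bot_iff, ← hOp]
    exact CfsgLib.Solvable.le_pCore p inferInstance ((CfsgLib.Solvable.isPGroup_pCore p).map _)
  · rw [← map_eq_bot_iff_of_injective _ N.subtype_injective, ← le_bot_iff, ← hOp']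
    exact CfsgLib.Solvable.le_pPrimeCore p inferInstance
      (by rw [card_map_of_injective N.subtype_injective]; exact CfsgLib.Solvable.coprime_card_pPrimeCore p)

theorem exists_pElement {K : Subgroup H} [K.Normal] (hOp' : Cfsg.pPrimeCore p H = ⊥) (hK : K ≠ ⊥)
    (P : Sylow p H) : ∃ x ∈ (P : Subgroup H), x ∈ K ∧ x ≠ 1 := by
  have hd : p ∣ Nat.card K := by
    by_contra h
    exact hK (le_bot_iff.1 (hOp' ▸ CfsgLib.Solvable.le_pPrimeCore p inferInstance
      ((Fact.out : p.Prime).coprime_iff_not_dvd.2 h).symm))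
  obtain ⟨x, hx⟩ := exists_prime_orderOf_dvd_card' (G := K) p hd
  have hxp : IsPGroup p (zpowers (x : H)) :=
    IsPGroup.of_card (n := 1) (by rw [Nat.card_zpowers, orderOf_coe, hx, pow_one])
  obtain ⟨S, hS⟩ := hxp.exists_le_sylow
  obtain ⟨g, hg⟩ := MulAction.exists_smul_eq H S P
  refine ⟨g * x * g⁻¹, ?_, ‹K.Normal›.conj_mem _ x.2 g, fun h => ?_⟩
  · rw [← hg, Sylow.coe_subgroup_smul]
    exact smul_mem_pointwise_smul _ (MulAut.conj g) _ (hS (mem_zpowers _))
  · have : x = 1 := Subtype.ext (conj_eq_one_iff.1 h)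
    rw [this, orderOf_one] at hx
    exact (Fact.out : p.Prime).ne_one hx.symm

/-- Two nontrivial normal subgroups meet nontrivially. -/
theorem inf_ne_bot (hOp : Cfsg.pCore p H = ⊥) (hOp' : Cfsg.pPrimeCore p H = ⊥) (P : Sylow p H)
    (hTI : ∀ S T : Sylow p H, ∀ x : H, x ∈ (S : Subgroup H) → x ∈ (T : Subgroup H) → x ≠ 1 → S = T)
    {K L : Subgroup H} [hKn : K.Normal] [hLn : L.Normal] (hK : K ≠ ⊥) (hL : L ≠ ⊥) : K ⊓ L ≠ ⊥ := by
  intro hd
  obtain ⟨x, hxP, hxK, hx1⟩ := exists_pElement hOp' hK P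
  have hLN : L ≤ normalizer ((P : Subgroup H) : Set H) := by
    intro l hl
    have hc : Commute x l := commute_of_normal_of_disjoint K L hKn hLn (disjoint_iff.2 hd) x l hxK hl
    refine Sylow.smul_eq_iff_mem_normalizer.1 ?_
    refine hTI _ P x ?_ hxP hx1
    rw [Sylow.coe_subgroup_smul]
    have h : x = MulAut.conj l • x := by
      rw [MulAut.smul_def, MulAut.conj_apply, ← hc.eq, mul_assoc, mul_inv_cancel, mul_one]
    rw [h]
    exact smul_mem_pointwise_smul _ (MulAut.conj l) _ hxP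
  refine hL (le_bot_iff.1 ?_)
  have hn : ((P : Subgroup H) ⊓ L).Normal := ⟨fun y hy g => by
    have hyL : g * y * g⁻¹ ∈ L := hLn.conj_mem _ hy.2 g
    have hy' : g * y * g⁻¹ ∈ ((g • P : Sylow p H) : Subgroup H) := by
      rw [Sylow.coe_subgroup_smul]
      exact smul_mem_pointwise_smul _ (MulAut.conj g) _ hy.1
    have h1 := IsPGroup.inf_normalizer_sylow (g • P : Sylow p H).2 P
    exact ⟨(h1.le ⟨hy', hLN hyL⟩).2, hyL⟩⟩
  have hbot : (P : Subgroup H) ⊓ L = ⊥ :=
    le_bot_iff.1 (hOp ▸ CfsgLib.Solvable.le_pCore p hn (P.2.to_le inf_le_left))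
  obtain ⟨y, hyP, hyL, hy1⟩ := exists_pElement hOp' hL P
  exact absurd (mem_bot.1 (hbot.le ⟨hyP, hyL⟩)) hy1

theorem exists_unique_minimal [Nontrivial H] (hOp : Cfsg.pCore p H = ⊥)
    (hOp' : Cfsg.pPrimeCore p H = ⊥) (P : Sylow p H)
    (hTI : ∀ S T : Sylow p H, ∀ x : H, x ∈ (S : Subgroup H) → x ∈ (T : Subgroup H) → x ≠ 1 → S = T) :
    ∃ N : Subgroup H, N.Normal ∧ N ≠ ⊥ ∧ ∀ K : Subgroup H, K.Normal → K ≠ ⊥ → N ≤ K := by
  obtain ⟨M, hMn, hM, -, hmin⟩ :=
    CfsgLib.Solvable.exists_minimal_normal_le (N := (⊤ : Subgroup H)) bot_ne_top.symm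
  refine ⟨M, hMn, hM, fun K hKn hK => ?_⟩
  haveI := hMn; haveI := hKn
  rcases hmin (M ⊓ K) inferInstance inf_le_left with h | h
  · exact absurd h (inf_ne_bot hOp hOp' P hTI hM hK)
  · exact h.ge.trans inf_le_right

theorem result {H : Type*} [Group H] [Finite H] (p : ℕ) [Fact p.Prime] (hOp : Cfsg.pCore p H = ⊥) (hOp' : Cfsg.pPrimeCore p H = ⊥) (P : Sylow p H) (hP1 : (P : Subgroup H) ≠ ⊥)
    (hTI : ∀ g : H, g ∉ Subgroup.normalizer ((P : Subgroup H) : Set H) → (P : Subgroup H) ⊓ (MulAut.conj g • (P : Subgroup H)) = ⊥) :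
    ∃ N : Subgroup H, N.Normal ∧ N ≠ ⊥ ∧ (∀ K : Subgroup H, K.Normal → K ≠ ⊥ → N ≤ K) ∧
      IsSimpleGroup N ∧ ¬ IsMulCommutative N ∧ Subgroup.centralizer (N : Set H) = ⊥ ∧
      ∀ Q : Sylow p N, (Q : Subgroup N) ≠ ⊥ ∧
        ∀ n : N, n ∉ Subgroup.normalizer ((Q : Subgroup N) : Set N) → (Q : Subgroup N) ⊓ (MulAut.conj n • (Q : Subgroup N)) = ⊥ := by
  haveI : Nontrivial H := by
    obtain ⟨x, -, hx⟩ := (P : Subgroup H).bot_or_exists_ne_one.resolve_left hP1
    exact ⟨⟨x, 1, hx⟩⟩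
  have hTI' : ∀ S T : Sylow p H, ∀ x : H, x ∈ (S : Subgroup H) → x ∈ (T : Subgroup H) → x ≠ 1 →
      S = T := by
    intro S T x hS hT hx
    obtain ⟨a, rfl⟩ := MulAction.exists_smul_eq H P S
    obtain ⟨b, rfl⟩ := MulAction.exists_smul_eq H P T
    rw [Sylow.coe_subgroup_smul, mem_pointwise_smul_iff_inv_smul_mem] at hS hT
    have hm : a⁻¹ * b ∈ normalizer ((P : Subgroup H) : Set H) := by
      by_contra h
      have : (MulAut.conj a)⁻¹ • x ∈ (P : Subgroup H) ⊓ MulAut.conj (a⁻¹ * b) • (P : Subgroup H) := by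
        refine mem_inf.2 ⟨hS, ?_⟩
        rw [mem_pointwise_smul_iff_inv_smul_mem]
        convert hT using 1
        simp [MulAut.smul_def, mul_assoc]
      rw [hTI _ h, mem_bot, inv_smul_eq_iff, smul_one] at this
      exact hx this
    have hm' : (a⁻¹ * b) • P = P := Sylow.smul_eq_iff_mem_normalizer.2 hm
    rw [mul_smul, inv_smul_eq_iff] at hm'
    exact hm'.symm
  obtain ⟨N, hNn, hN, huniq⟩ := exists_unique_minimal hOp hOp' P hTI'
  haveI := hNn
  obtain ⟨hc, hc'⟩ := cores_of_normal hOp hOp' N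
  have hTIN : ∀ S T : Sylow p N, ∀ x : N, x ∈ (S : Subgroup N) → x ∈ (T : Subgroup N) → x ≠ 1 →
      S = T := by
    intro S T x hS hT hx
    obtain ⟨S', hS'⟩ := S.exists_comap_subtype_eq
    obtain ⟨T', hT'⟩ := T.exists_comap_subtype_eq
    have := hTI' S' T' x (by rw [← hS'] at hS; exact hS) (by rw [← hT'] at hT; exact hT)
      (fun h => hx (Subtype.ext h))
    exact Sylow.ext (by rw [← hS', ← hT', this])
  haveI hNnt : Nontrivial N := (nontrivial_iff_ne_bot N).2 hN
  have hsimple : IsSimpleGroup N := by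
    obtain ⟨L, hLn, hL, hLu⟩ := exists_unique_minimal hc hc' (default : Sylow p N) hTIN
    haveI := hLn
    haveI : L.Characteristic := characteristic_iff_le_map.2 fun φ => hLu _
      (Normal.map hLn φ.toMonoidHom φ.surjective)
      (by rw [Ne, map_eq_bot_iff_of_injective _ φ.injective]; exact hL)
    have hLT : L = ⊤ := by
      have := huniq (L.map N.subtype) inferInstance
        (by rw [Ne, map_eq_bot_iff_of_injective _ N.subtype_injective]; exact hL)
      refine eq_top_iff.2 fun x _ => ?_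
      obtain ⟨y, hy, e⟩ := this x.2
      exact Subtype.ext (a1 := y) (a2 := x) e ▸ hy
    exact ⟨fun K hK => (eq_or_ne K ⊥).imp id fun h => top_unique (hLT ▸ hLu K hK h)⟩
  have hnc : ¬ IsMulCommutative N := by
    intro hcom
    obtain ⟨x, hxP, hxN, hx1⟩ := exists_pElement hOp' hN P
    have hb : (P : Subgroup H).subgroupOf N = ⊥ := by
      rw [← le_bot_iff, ← hc]
      exact CfsgLib.Solvable.le_pCore p ⟨fun a ha b => by
        rwa [hcom.is_comm.comm b a, mul_assoc, mul_inv_cancel, mul_one]⟩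
        (P.2.comap_of_injective N.subtype N.subtype_injective)
    exact hx1 (congrArg Subtype.val (mem_bot.1 (hb.le (mem_subgroupOf.2 hxP : ⟨x, hxN⟩ ∈ _))))
  refine ⟨N, hNn, hN, huniq, hsimple, hnc, ?_, fun Q => ⟨?_, fun n hn => ?_⟩⟩
  · by_contra h
    haveI : (centralizer (N : Set H)).Normal := inferInstance
    exact hnc (le_centralizer_iff_isMulCommutative.1 (huniq _ inferInstance h))
  · intro h
    obtain ⟨x, hxQ, -, hx1⟩ := exists_pElement (K := (⊤ : Subgroup N)) hc' top_ne_bot Q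
    exact hx1 (mem_bot.1 (h.le hxQ))
  · refine (eq_bot_iff_forall _).2 fun x hx => ?_
    by_contra h
    exact hn (Sylow.smul_eq_iff_mem_normalizer.1 (hTIN _ Q x
      (by rw [Sylow.coe_subgroup_smul]; exact hx.2) hx.1 h))

end Cfsg.Agent.S4620
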