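import Cfsg.Statements.S4634
import Cfsg.Agent.BlocksB.Cyclic.Frobenius

set_option autoImplicit false
open Cfsg

namespace Cfsg.Agent.S4634

/-- Let B be a block of the finite group G relative to a maximal ideal M of the algebraic integers containing the prime p, with a nontrivial cyclic defect group P, let c be a block of C_G(P) inducing B, T the stabilizer of c in N_G(P) and e the index of C_G(P) in T. Let F be any finite group of order #P · e having a cyclic subgroup Q of order #P that is its own centralizer (F is then the semidirect product of Q by a cyclic group of order e acting faithfully). Then there is a perfect isometry from the set of all irreducible characters of F onto B whose signs agree on all the characters of F that do not contain Q in their kernel. -/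
theorem result {G : Type*} [Group G] [Finite G] (p : ℕ) [Fact p.Prime] (M : Ideal Cfsg.AlgInt) (hM : Cfsg.IsPModular p M) (B : Set (Cfsg.IrrCharacter G)) (hB : Cfsg.IsPBlock M B) (P : Subgroup G) (hPD : Cfsg.IsDefectGroup p M B P) (hP1 : P ≠ ⊥) (hcyc : IsCyclic P) (c : Set (Cfsg.IrrCharacter (Subgroup.centralizer (P : Set G)))) (hc : Cfsg.IsInducedBlock M (Subgroup.centralizer (P : Set G)) c B) (T : Subgroup G) (hT : ∀ g : G, g ∈ T ↔ (g ∈ Subgroup.normalizer (P : Set G) ∧ Cfsg.StabilizesBlock (Subgroup.centralizer (P : Set G)) c g)) (e : ℕ) (he : (Subgroup.centralizer (P : Set G)).relIndex T = e) (F : Type*) [Group F] [Finite F] (hF : Nat.card F = Nat.card P * e) (Q : Subgroup F) (hQ : IsCyclic Q) (hQcard : Nat.card Q = Nat.card P) (hQC : Subgroup.centralizer (Q : Set F) = Q) : ∃ (I : Cfsg.IrrCharacter F → Cfsg.IrrCharacter G) (ε : Cfsg.IrrCharacter F → ℤ), Cfsg.IsPerfectIsometry p M (Set.univ : Set (Cfsg.IrrCharacter F)) B I ε ∧ ∀ η η' : Cfsg.IrrCharacter F, (∃ x ∈ Q,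 (η : F → ℂ) x ≠ (η : F → ℂ) 1) → (∃ x ∈ Q, (η' : F → ℂ) x ≠ (η' : F → ℂ) 1) → ε η = ε η' := by
  haveI := hM.2.1.isPrime
  haveI := CfsgLib.Block.charP_residue hM
  haveI := Fintype.ofFinite G
  haveI := Fintype.ofFinite F
  haveI := Fintype.ofFinite P
  haveI := Fintype.ofFinite Q
  letI := CfsgLib.Block.Chr.irrFintype (G := G)
  letI := CfsgLib.Block.Chr.irrFintype (G := F)
  haveI : Fintype B := Fintype.ofFinite B
  haveI : Fintype (principalBlock M F) := Fintype.ofFinite _
  classical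
  obtain ⟨t, n, S⟩ := CfsgLib.Cyclic.exists_cycData hM hB hPD hcyc hP1 hc
  have hen : n = e := by
    rw [S.n_eq, ← he, CfsgLib.Cyclic.stab_eq_of_mem_iff hM hc.1 T hT]
  subst hen
  obtain ⟨a, ha⟩ := IsPGroup.iff_card.mp S.pair.1
  have hQp : IsPGroup p Q := IsPGroup.of_card (hQcard.trans ha)
  have hQ1 : Q ≠ ⊥ := fun h => hP1 (Subgroup.card_eq_one.1 (by
    rw [← hQcard, h, Subgroup.card_bot]))
  obtain ⟨hnorm, hall, t', S'⟩ := CfsgLib.Cyclic.exists_cycData_frobenius hM Q hQp hQ hQ1 hQC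
    S.n_dvd (by rw [hF, hQcard])
  haveI := hnorm
  obtain ⟨m, V⟩ := S.exists_cycVals
  obtain ⟨m', V'⟩ := S'.exists_cycVals
  obtain ⟨χ₀, hχ₀, -⟩ := CfsgLib.Block.exists_height_zero hM hB
  obtain ⟨-, X, δ, δ₀, rep, Tr, -⟩ := CfsgLib.Cyclic.exists_tree S V ⟨χ₀, hχ₀⟩
  set one : principalBlock M F :=
    ⟨CfsgLib.BrauerPairs.trivIrr F, CfsgLib.BrauerPairs.trivIrr_mem_principal⟩ with hone
  obtain ⟨-, X', δ', δ₀', rep', Tr', hx₀⟩ := CfsgLib.Cyclic.exists_tree S' V' one
  obtain ⟨eqv, I, ε, hX, hIε, hperf⟩ := CfsgLib.Cyclic.exists_perfect_isometry V V' Tr Tr'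
    (haveI := hQ; haveI := hcyc; mulEquivOfCyclicCardEq hQcard)
  rw [hall] at hperf
  refine ⟨I, ε, hperf, fun η η' h h' => ?_⟩
  set a : principalBlock M F := ⟨η, hall.ge (Set.mem_univ η)⟩
  set b : principalBlock M F := ⟨η', hall.ge (Set.mem_univ η')⟩
  rw [show ε η = _ from (hIε a).2, show ε η' = _ from (hIε b).2]
  by_cases hab : a = b
  · rw [hab]
  by_cases hn : n = 1
  · subst hn
    have key : ∀ z : principalBlock M F,
        CfsgLib.Cyclic.isoSign X' δ δ' δ₀ δ₀' eqv z = δ₀ * δ₀' := fun z => by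
      unfold CfsgLib.Cyclic.isoSign
      split_ifs with hz
      · rw [Tr.sign_of_index_one ((hX z).1 hz), Tr'.sign_of_index_one hz, neg_mul_neg]
      · rfl
    rw [key, key]
  · have hone' : ∀ g : F, ((one : IrrCharacter F) : F → ℂ) g = 1 := fun g => rfl
    have hmem := CfsgLib.Cyclic.frobenius_one_mem V' Tr' hone' hx₀ hQC hn
    have ha' : a ∉ X' := fun hm => CfsgLib.Cyclic.frobenius_unique hQC V' Tr'
      (by rw [hF, hQcard]) hone' hmem hm hab h h'
    have hb' : b ∉ X' := fun hm => CfsgLib.Cyclic.frobenius_unique hQC V' Tr'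
      (by rw [hF, hQcard]) hone' hmem hm (Ne.symm hab) h' h
    unfold CfsgLib.Cyclic.isoSign
    rw [if_neg ha', if_neg hb']

end Cfsg.Agent.S4634
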