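import Cfsg.Statements.S4635
import Cfsg.Agent.BlocksB.Cyclic.Correspondent

set_option autoImplicit false
open Cfsg

namespace Cfsg.Agent.S4635

/-- Let B be a block of the finite group G relative to a maximal ideal M of the algebraic integers containing the prime p, with a nontrivial cyclic defect group P; let Z be the subgroup of order p of P and H = N_G(Z), which contains N_G(P). Let c be the block of H with defect group P that induces B. Then B and c contain the same number of irreducible characters, have the same p-regular rank, and there is a perfect isometry from c onto B. -/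
theorem result {G : Type*} [Group G] [Finite G] (p : ℕ) [Fact p.Prime] (M : Ideal Cfsg.AlgInt) (hM : Cfsg.IsPModular p M) (B : Set (Cfsg.IrrCharacter G)) (hB : Cfsg.IsPBlock M B) (P : Subgroup G) (hPD : Cfsg.IsDefectGroup p M B P) (hP1 : P ≠ ⊥) (hcyc : IsCyclic P) (Z : Subgroup G) (hZ : Z ≤ P) (hZcard : Nat.card Z = p) (H : Subgroup G) (hH : H = Subgroup.normalizer (Z : Set G)) (c : Set (Cfsg.IrrCharacter H)) (hcD : Cfsg.IsDefectGroup p M c (P.subgroupOf H)) (hc : Cfsg.IsInducedBlock M H c B) : Nat.card c = Nat.card B ∧ Cfsg.blockRank p c = Cfsg.blockRank p B ∧ ∃ (I : Cfsg.IrrCharacter H → Cfsg.IrrCharacter G) (ε : Cfsg.IrrCharacter H → ℤ), Cfsg.IsPerfectIsometry p M c B I ε := by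
  haveI := hM.2.1.isPrime
  haveI := CfsgLib.Block.charP_residue hM
  haveI := Fintype.ofFinite G
  haveI := Fintype.ofFinite H
  haveI := Fintype.ofFinite P
  haveI := Fintype.ofFinite (P.subgroupOf H)
  letI := CfsgLib.Block.Chr.irrFintype (G := G)
  letI := CfsgLib.Block.Chr.irrFintype (G := H)
  haveI : Fintype B := Fintype.ofFinite B
  haveI : Fintype c := Fintype.ofFinite c
  classical
  obtain ⟨z, hz, hzo, hZeq⟩ : ∃ z ∈ P, orderOf z = p ∧ Subgroup.zpowers z = Z := by
    haveI : IsCyclic Z := isCyclic_of_prime_card hZcard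
    obtain ⟨g, hg⟩ := IsCyclic.exists_generator (α := Z)
    have hgen : Subgroup.zpowers (g : G) = Z := by
      refine le_antisymm (Subgroup.zpowers_le.2 g.2) fun x hx => ?_
      obtain ⟨i, hi⟩ := Subgroup.mem_zpowers_iff.1 (hg ⟨x, hx⟩)
      exact Subgroup.mem_zpowers_iff.2 ⟨i, congrArg Subtype.val hi⟩
    exact ⟨g, hZ g.2, by rw [← Nat.card_zpowers, hgen, hZcard], hgen⟩
  have hconj : ∀ g ∈ Subgroup.normalizer (P : Set G), ∀ w ∈ Z, g * w * g⁻¹ ∈ Z := by
    intro g hg w hw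
    have h1 : g * z * g⁻¹ ∈ P := (Subgroup.mem_normalizer_iff.1 hg z).1 hz
    have h2 := CfsgLib.Cyclic.zpowers_eq_of_card hcyc h1 hz
      (orderOf_injective (MulAut.conj g).toMonoidHom (MulAut.conj g).injective z)
    rw [← hZeq] at hw
    obtain ⟨i, rfl⟩ := Subgroup.mem_zpowers_iff.1 hw
    rw [← hZeq, ← h2, ← conj_zpow]
    exact Subgroup.zpow_mem_zpowers _ i
  have hNH : Subgroup.normalizer (P : Set G) ≤ H := fun g hg => by
    rw [hH, Subgroup.mem_normalizer_iff]
    intro w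
    refine ⟨hconj g hg w, fun hw => ?_⟩
    have h := hconj g⁻¹ (inv_mem hg) _ hw
    simpa [mul_assoc] using h
  have hPH : P ≤ H := Subgroup.le_normalizer.trans hNH
  obtain ⟨b, b', n, t, t', S, S'⟩ :=
    CfsgLib.Cyclic.exists_cycData_correspondent hM hPD hcyc hP1 hPH hNH hcD hc
  obtain ⟨m, V⟩ := S.exists_cycVals
  obtain ⟨m', V'⟩ := S'.exists_cycVals
  obtain ⟨χ₀, hχ₀, -⟩ := CfsgLib.Block.exists_height_zero hM hB
  obtain ⟨χ₁, hχ₁, -⟩ := CfsgLib.Block.exists_height_zero hM hc.1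
  obtain ⟨hr, X, δ, δ₀, rep, Tr, -⟩ := CfsgLib.Cyclic.exists_tree S V ⟨χ₀, hχ₀⟩
  obtain ⟨hr', X', δ', δ₀', rep', Tr', -⟩ := CfsgLib.Cyclic.exists_tree S' V' ⟨χ₁, hχ₁⟩
  obtain ⟨e, I, ε, -, -, hperf⟩ := CfsgLib.Cyclic.exists_perfect_isometry V V' Tr Tr'
    (Subgroup.subgroupOfEquivOfLe hPH)
  exact ⟨Nat.card_congr e, hr'.trans hr.symm, I, ε, hperf⟩

end Cfsg.Agent.S4635
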