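import Cfsg.Statements.S4636
-- import your own Cfsg.Agent.* helpers here

set_option autoImplicit false
open scoped Pointwise
open Cfsg

namespace Cfsg.Agent.S4636

/-- Let P be a nontrivial cyclic p-subgroup of the finite group G and Z its subgroup of order p. For every x outside N_G(Z), P meets its conjugate xPx⁻¹ trivially; consequently N_G(Q) ≤ N_G(Z) for every nontrivial subgroup Q of P. -/
theorem result {G : Type*} [Group G] [Finite G] (p : ℕ) [Fact p.Prime] (P : Subgroup G) (hP : IsPGroup p P) (hP1 : P ≠ ⊥) (hcyc : IsCyclic P) (Z : Subgroup G) (hZ : Z ≤ P) (hZcard : Nat.card Z = p) : (∀ x : G, x ∉ Subgroup.normalizer (Z : Set G) → P ⊓ MulAut.conj x • P = ⊥) ∧ ∀ Q : Subgroup G, Q ≤ P → Q ≠ ⊥ → Subgroup.normalizer (Q : Set G) ≤ Subgroup.normalizer (Z : Set G) := by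
  classical
  have hp : p.Prime := Fact.out
  haveI : IsCyclic P := hcyc
  -- every nontrivial subgroup of `P` contains `Z`
  have key : ∀ Q : Subgroup G, Q ≤ P → Q ≠ ⊥ → Z ≤ Q := by
    intro Q hQP hQ1
    obtain ⟨k, hk⟩ := (IsPGroup.iff_card.mp (hP.to_le hQP))
    have hk0 : k ≠ 0 := by
      rintro rfl
      exact hQ1 (Subgroup.eq_bot_of_card_eq Q (by simpa using hk))
    have hpQ : p ∣ Nat.card Q := hk ▸ dvd_pow_self p hk0
    obtain ⟨q, hq⟩ := exists_prime_orderOf_dvd_card' p hpQ
    have hR : Subgroup.zpowers (q : G) ≤ P := by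
      rw [Subgroup.zpowers_le]; exact hQP q.2
    have hRc : Nat.card (Subgroup.zpowers (q : G)) = p := by
      rw [Nat.card_zpowers, Subgroup.orderOf_coe, hq]
    have hcard : Nat.card ((Subgroup.zpowers (q : G)).subgroupOf P) =
        Nat.card (Z.subgroupOf P) := by
      rw [Nat.card_congr (Subgroup.subgroupOfEquivOfLe hR).toEquiv,
        Nat.card_congr (Subgroup.subgroupOfEquivOfLe hZ).toEquiv, hRc, hZcard]
    have heq : (Subgroup.zpowers (q : G)).subgroupOf P = Z.subgroupOf P := by
      haveI : Fintype P := Fintype.ofFinite P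
      have hle : (Finset.univ.filter fun a : P => a ^ p = 1).card ≤ p :=
        IsCyclic.card_pow_eq_one_le hp.pos
      have aux : ∀ A : Subgroup P, Nat.card A = p →
          ∀ a : P, a ∈ A ↔ a ∈ Finset.univ.filter fun a : P => a ^ p = 1 := by
        intro A hA a
        have hsub : (Finset.univ.filter fun a : P => a ∈ A) ⊆
            Finset.univ.filter fun a : P => a ^ p = 1 := by
          intro b hb
          simp only [Finset.mem_filter, Finset.mem_univ, true_and] at hb ⊢
          have := pow_card_eq_one' (x := (⟨b, hb⟩ : A))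
          rw [hA] at this
          exact congrArg Subtype.val this
        have hc : (Finset.univ.filter fun a : P => a ∈ A).card = p := by
          rw [← hA, Nat.card_eq_fintype_card, Fintype.card_subtype]
        rw [← Finset.eq_of_subset_of_card_le hsub (hc.symm ▸ hle)]
        simp
      have hRc' : Nat.card ((Subgroup.zpowers (q : G)).subgroupOf P) = p := by
        rw [Nat.card_congr (Subgroup.subgroupOfEquivOfLe hR).toEquiv, hRc]
      ext a
      rw [aux _ hRc' a, aux _ (hcard ▸ hRc') a]
    rw [Subgroup.subgroupOf_inj, inf_eq_left.mpr hR, inf_eq_left.mpr hZ] at heq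
    rw [← heq, Subgroup.zpowers_le]
    exact q.2
  have key2 : ∀ g : G, MulAut.conj g • Z ≤ P → g ∈ Subgroup.normalizer (Z : Set G) := by
    intro g hg
    have hc : Nat.card (MulAut.conj g • Z : Subgroup G) = p := by
      rw [← hZcard]
      exact (Nat.card_congr (Subgroup.equivSMul (MulAut.conj g) Z).toEquiv).symm
    have hne : MulAut.conj g • Z ≠ ⊥ := by
      intro h; rw [h] at hc; simp at hc; exact hp.one_lt.ne hc
    have hle := key _ hg hne
    have heq : Z = MulAut.conj g • Z := Subgroup.eq_of_le_of_card_ge hle (by rw [hc, hZcard])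
    rw [Subgroup.mem_normalizer_iff_map_conj_eq]
    exact heq.symm
  refine ⟨?_, ?_⟩
  · intro x hx
    by_contra hne
    have hle := key _ inf_le_left hne
    have h2 : MulAut.conj x⁻¹ • Z ≤ P := by
      have := Subgroup.pointwise_smul_le_pointwise_smul_iff (a := MulAut.conj x⁻¹) |>.mpr
        (hle.trans inf_le_right)
      simpa [smul_smul] using this
    exact hx (by simpa using inv_mem (key2 _ h2))
  · intro Q hQP hQ1 g hg
    apply key2
    intro y hy
    obtain ⟨z, hz, rfl⟩ := hy
    exact hQP ((Subgroup.mem_normalizer_iff.mp hg z).mp (key Q hQP hQ1 hz))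

end Cfsg.Agent.S4636
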