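import Cfsg.Statements.S4637
import Cfsg.Agent.BlocksB.KleinDefect.Relations
import Cfsg.Agent.BlocksB.Cyclic.Main

set_option autoImplicit false
open Cfsg

namespace Cfsg.Agent.S4637

/-- Let B be a block of the finite group G relative to a maximal ideal M of the algebraic integers containing 2, with a Klein four defect group P. Let c be a block of C_G(P) inducing B, T the stabilizer of c in N_G(P) and e the index of C_G(P) in T (the inertial index). Then e is 1 or 3, B contains exactly four irreducible characters, and the 2-regular rank of B (its number of irreducible Brauer characters) equals e. -/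
theorem result {G : Type*} [Group G] [Finite G] (M : Ideal Cfsg.AlgInt) (hM : Cfsg.IsPModular 2 M) (B : Set (Cfsg.IrrCharacter G)) (hB : Cfsg.IsPBlock M B) (P : Subgroup G) (hPD : Cfsg.IsDefectGroup 2 M B P) (hV : IsKleinFour P) (c : Set (Cfsg.IrrCharacter (Subgroup.centralizer (P : Set G)))) (hc : Cfsg.IsInducedBlock M (Subgroup.centralizer (P : Set G)) c B) (T : Subgroup G) (hT : ∀ g : G, g ∈ T ↔ (g ∈ Subgroup.normalizer (P : Set G) ∧ Cfsg.StabilizesBlock (Subgroup.centralizer (P : Set G)) c g)) (e : ℕ) (he : (Subgroup.centralizer (P : Set G)).relIndex T = e) : (e = 1 ∨ e = 3) ∧ Nat.card B = 4 ∧ Cfsg.blockRank 2 B = e := by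
  haveI := hM.2.1.isPrime
  haveI : Fact (Nat.Prime 2) := ⟨Nat.prime_two⟩
  haveI := CfsgLib.Block.charP_residue hM
  haveI := Fintype.ofFinite G
  haveI := Fintype.ofFinite P
  letI := CfsgLib.Block.Chr.irrFintype (G := G)
  haveI : Fintype B := Fintype.ofFinite B
  classical
  set n := (Subgroup.centralizer (P : Set G)).relIndex
    (CfsgLib.BrauerPairs.stab P (CfsgLib.BrauerPairs.idemIn M (Subgroup.centralizer (P : Set G)) c))
  have S : CfsgLib.KleinDefect.KleinData (M := M) B P c n := ⟨hM, hB, hPD, hV, hc, rfl⟩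
  have hen : n = e := by
    rw [S.n_eq, ← he, CfsgLib.Cyclic.stab_eq_of_mem_iff hM hc.1 T hT]
  obtain ⟨a, V, hpm⟩ := S.exists_kleinVals
  have hk := V.card_block S hpm
  have hr := V.card_relation S
  rw [S.card_P, hk] at hr
  rw [← hen]
  refine ⟨S.n_cases, hk, ?_⟩
  rcases S.n_cases with h | h <;> rw [h] at hr ⊢ <;> omega

end Cfsg.Agent.S4637
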