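import Cfsg.Statements.S4641
import Cfsg.Agent.Blocks.Decomposition
import Cfsg.Agent.Blocks.BlockSize

set_option linter.style.haveILetI false

set_option autoImplicit false
open Cfsg

namespace Cfsg.Agent.S4641

/-- Let B be a block of the finite group G relative to a maximal ideal M of the algebraic integers containing the prime p, let p^a be the p-part of the order of G and p^d the order of a defect group D of B, and let g be the greatest common divisor of the degrees of the members of B. Then the p-part of g is exactly p^(a−d), and writing g = p^(a−d)·u there is a positive integer v, prime to p and at least the p-regular rank of B (its number of irreducible Brauer characters), with Σ_{χ ∈ B} χ(1)² = p^(2a−d)·u²·v. -/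
theorem result {G : Type*} [Group G] [Finite G] (p : ℕ) [Fact p.Prime] (M : Ideal Cfsg.AlgInt) (hM : Cfsg.IsPModular p M) (B : Set (Cfsg.IrrCharacter G)) (hB : Cfsg.IsPBlock M B) (D : Subgroup G) (hD : Cfsg.IsDefectGroup p M B D) (a d : ℕ) (ha : (Nat.card G).factorization p = a) (hd : Nat.card D = p ^ d) (g : ℕ) (hg1 : ∀ χ ∈ B, g ∣ Cfsg.charDegree (χ : G → ℂ)) (hg2 : ∀ g' : ℕ, (∀ χ ∈ B, g' ∣ Cfsg.charDegree (χ : G → ℂ)) → g' ∣ g) : g.factorization p = a - d ∧ ∃ v : ℕ, 0 < v ∧ ¬ p ∣ v ∧ Cfsg.blockRank p B ≤ v ∧ ∑ᶠ χ ∈ B, Cfsg.charDegree (χ : G → ℂ) ^ 2 = p ^ (2 * a - d) * (g / p ^ (a - d)) ^ 2 * v := by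
  classical
  letI := Fintype.ofFinite G
  haveI := hM.2.1.isPrime
  haveI : CharP (CfsgLib.Block.Residue M) p := CfsgLib.Block.charP_residue hM
  letI := CfsgLib.Block.Chr.irrFintype (G := G)
  have hp : p.Prime := hM.1
  have hdB : d = blockDefect p B :=
    Nat.pow_right_injective hp.two_le (hd.symm.trans (CfsgLib.Block.card_defectGroup hM hB hD))
  have hda : d ≤ a := by rw [hdB, ← ha]; exact CfsgLib.Block.blockDefect_le B
  obtain ⟨χ₀, hχ₀, h0⟩ := CfsgLib.Block.exists_height_zero hM hB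
  have hdeg : ∀ χ : IrrCharacter G, (χ : G → ℂ) 1 = (charDegree (χ : G → ℂ) : ℂ) ∧
      0 < charDegree (χ : G → ℂ) := fun χ => CfsgLib.Block.Chr.irr_one χ
  have hfac : ∀ χ ∈ B, (charDegree (χ : G → ℂ)).factorization p =
      a - d + blockHeight p B (χ : G → ℂ) := fun χ hχ => by
    rw [CfsgLib.Block.factorization_degree hM hB hχ, ha, hdB]
  have hpg : p ^ (a - d) ∣ g := hg2 _ fun χ hχ =>
    (hp.pow_dvd_iff_le_factorization (hdeg χ).2.ne').2 (by rw [hfac χ hχ]; omega)
  have hg0 : g ≠ 0 := fun h => (hdeg χ₀).2.ne' (zero_dvd_iff.1 (h ▸ hg1 χ₀ hχ₀))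
  have hgp : g.factorization p = a - d := by
    refine le_antisymm ?_ ((hp.pow_dvd_iff_le_factorization hg0).1 hpg)
    have h := (Nat.factorization_le_iff_dvd hg0 (hdeg χ₀).2.ne').2 (hg1 χ₀ hχ₀) p
    rw [hfac χ₀ hχ₀, h0] at h
    omega
  refine ⟨hgp, ?_⟩
  set u := g / p ^ (a - d) with hu
  have hgu : p ^ (a - d) * u = g := Nat.mul_div_cancel' hpg
  have hpu : ¬ p ∣ u := by rw [hu, ← hgp]; exact Nat.not_dvd_ordCompl hp hg0
  have hu0 : u ≠ 0 := fun h => hg0 (by rw [← hgu, h, mul_zero])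
  haveI : Fintype (CfsgLib.BrauerBasis.bsetB p M B) :=
    (CfsgLib.BrauerBasis.finite_bsetB hM B).fintype
  obtain ⟨D', hdec, hvan⟩ := CfsgLib.BrauerBasis.exists_decomposition hM hB
  have hsum : ∀ {α : Type} [AddCommMonoid α] (F : IrrCharacter G → α),
      ∑ᶠ χ ∈ B, F χ = ∑ χ ∈ Finset.univ.filter (· ∈ B), F χ := fun F => by
    rw [finsum_mem_eq_sum_of_inter_support_eq (t := Finset.univ.filter (· ∈ B)) _ (by ext; simp)]
  have hone : ¬ p ∣ orderOf (1 : G) := by rw [orderOf_one]; exact hp.not_dvd_one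
  -- the degrees of the Brauer characters
  have hβ : ∀ β : CfsgLib.BrauerBasis.bsetB p M B, ∃ k : ℕ, 0 < k ∧
      (β : G → ℂ) 1 = ((g * k : ℕ) : ℂ) := by
    intro β
    obtain ⟨m, hm, -, hf⟩ := β.2
    haveI := CfsgLib.BrauerBasis.finiteDimensional_quot (M := M) m
    haveI := isSimpleModule_iff_isCoatom.2 hm
    haveI := IsSimpleModule.nontrivial (MonoidAlgebra (CfsgLib.Block.Residue M) G)
      (MonoidAlgebra (CfsgLib.Block.Residue M) G ⧸ m)
    have h1 := (congrFun hf 1).symm.trans (CfsgLib.BrauerBasis.bchar_one hM _)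
    set w := Module.finrank (CfsgLib.Block.Residue M)
      (MonoidAlgebra (CfsgLib.Block.Residue M) G ⧸ m)
    obtain ⟨n, hn⟩ := CfsgLib.BrauerBasis.exists_int_combination hM hB β.2
    have h2 := hn 1 hone
    rw [h1, hsum fun χ => (n χ : ℂ) * (χ : G → ℂ) 1] at h2
    have h3 : (w : ℤ) = ∑ χ ∈ Finset.univ.filter (· ∈ B),
        n χ * (charDegree (χ : G → ℂ) : ℤ) := by
      have h4 : ((w : ℤ) : ℂ) = ((∑ χ ∈ Finset.univ.filter (· ∈ B),
          n χ * (charDegree (χ : G → ℂ) : ℤ) : ℤ) : ℂ) := by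
        push_cast
        rw [h2]
        exact Finset.sum_congr rfl fun χ _ => by rw [(hdeg χ).1]
      exact_mod_cast h4
    have hgw : g ∣ w := Int.natCast_dvd_natCast.1 (h3 ▸ Finset.dvd_sum fun χ hχ =>
      dvd_mul_of_dvd_right (Int.natCast_dvd_natCast.2 (hg1 χ (Finset.mem_filter.1 hχ).2)) _)
    obtain ⟨k, hk⟩ := hgw
    have hw : 0 < w := Module.finrank_pos
    exact ⟨k, Nat.pos_of_ne_zero fun h => by rw [hk, h, mul_zero] at hw; omega, by rw [h1, hk]⟩
  choose k hk0 hk using hβ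
  -- the degrees of the projective characters
  have hΦ : ∀ β : CfsgLib.BrauerBasis.bsetB p M B, ∃ k' : ℕ, 0 < k' ∧
      ∑ χ ∈ Finset.univ.filter (· ∈ B), D' χ β * charDegree (χ : G → ℂ) = p ^ a * u * k' := by
    intro β
    set N := ∑ χ ∈ Finset.univ.filter (· ∈ B), D' χ β * charDegree (χ : G → ℂ)
    have hNu : u ∣ N := Finset.dvd_sum fun χ hχ => dvd_mul_of_dvd_right
      ((Dvd.intro_left _ hgu).trans (hg1 χ (Finset.mem_filter.1 hχ).2)) _
    have hNp : p ^ a ∣ N := by
      obtain ⟨P⟩ : Nonempty (Sylow p G) := inferInstance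
      let Ψ : G → ℂ := ∑ χ ∈ Finset.univ.filter (· ∈ B), ((D' χ β : ℤ) : ℂ) • (χ : G → ℂ)
      have hΨ : IsGeneralizedCharacter G Ψ := CfsgLib.Char.isGeneralized_sum _ fun χ _ =>
        CfsgLib.Char.IsGeneralized.intCast_smul (CfsgLib.Char.IsIrrCharacter.isGeneralized χ.2) _
      haveI : Fintype (P : Subgroup G) := Fintype.ofFinite _
      obtain ⟨z, hz⟩ := CfsgLib.Char.IsGeneralized.exists_classInner_eq_int
        (CfsgLib.Char.IsGeneralized.comp hΨ (P : Subgroup G).subtype)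
        (CfsgLib.Char.isGeneralized_one (G := (P : Subgroup G)))
      rw [CfsgLib.Char.classInner_def, Fintype.sum_eq_single 1] at hz
      · have hP : Nat.card (P : Subgroup G) = p ^ a := by rw [P.card_eq_multiplicity, ha]
        have hN : Ψ 1 = ((N : ℤ) : ℂ) := by
          simp only [Ψ, N, Finset.sum_apply, Pi.smul_apply, smul_eq_mul, (hdeg _).1]
          push_cast
          rfl
        simp only [map_one, mul_one] at hz
        have hp0 : ((p ^ a : ℕ) : ℂ) ≠ 0 := Nat.cast_ne_zero.2 (pow_ne_zero _ hp.ne_zero)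
        rw [hN, hP,
          inv_mul_eq_iff_eq_mul₀ hp0] at hz
        have hz' : (N : ℤ) = ((p ^ a : ℕ) : ℤ) * z := by exact_mod_cast hz
        exact Int.natCast_dvd_natCast.1 (hz' ▸ dvd_mul_right _ _)
      · intro x hx
        obtain ⟨j, hj⟩ := IsPGroup.iff_orderOf.1 P.isPGroup' x
        have hd' : p ∣ orderOf (x : G) := by
          rw [Subgroup.orderOf_coe, hj]
          refine dvd_pow_self p fun h => hx ?_
          rw [h, pow_zero] at hj
          exact orderOf_eq_one_iff.1 hj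
        have h := hvan β x hd'
        rw [hsum fun χ => (D' χ β : ℂ) * (χ : G → ℂ) (x : G)] at h
        simp only [Ψ, Subgroup.coe_subtype, Finset.sum_apply, Pi.smul_apply, smul_eq_mul,
          Int.cast_natCast, h, zero_mul]
    obtain ⟨k', hk'⟩ := Nat.Coprime.mul_dvd_of_dvd_of_dvd
      ((hp.coprime_iff_not_dvd.2 hpu).pow_left a) hNp hNu
    refine ⟨k', Nat.pos_of_ne_zero fun h => ?_, hk'⟩
    rw [h, mul_zero, Finset.sum_eq_zero_iff] at hk'
    have hall : ∀ χ ∈ B, D' χ β = 0 := fun χ hχ =>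
      (Nat.mul_eq_zero.1 (hk' χ (Finset.mem_filter.2 ⟨Finset.mem_univ _, hχ⟩))).resolve_right
        (hdeg χ).2.ne'
    have hle : Submodule.span ℂ (CfsgLib.BrauerBasis.bsetB p M B) ≤
        Submodule.span ℂ (CfsgLib.BrauerBasis.bsetB p M B \ {(β : G → ℂ)}) := by
      rw [CfsgLib.BrauerBasis.span_bsetB hM hB, Submodule.span_le]
      rintro _ ⟨χ, hχ, rfl⟩
      show CfsgLib.Block.regPart p (χ : G → ℂ) ∈ _
      rw [hdec χ hχ]
      refine Submodule.sum_mem _ fun γ _ => ?_
      by_cases hγ : γ = β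
      · rw [hγ, hall χ hχ, Nat.cast_zero, zero_smul]; exact Submodule.zero_mem _
      · exact Submodule.smul_mem _ _ (Submodule.subset_span
          ⟨γ.2, fun h => hγ (Subtype.ext h)⟩)
    exact (CfsgLib.BrauerBasis.mem_of_mem_span hM
      (Set.sdiff_subset.trans (CfsgLib.BrauerBasis.bsetB_subset B))
      (CfsgLib.BrauerBasis.bsetB_subset B β.2) (hle (Submodule.subset_span β.2))).2 rfl
  choose k' hk'0 hk' using hΦ
  set v := ∑ β, k β * k' β
  have htot : ∑ᶠ χ ∈ B, charDegree (χ : G → ℂ) ^ 2 = p ^ (2 * a - d) * u ^ 2 * v := by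
    apply Nat.cast_injective (R := ℂ)
    rw [hsum fun χ => charDegree (χ : G → ℂ) ^ 2]
    push_cast
    have e : ∀ χ ∈ Finset.univ.filter (· ∈ B), ((charDegree (χ : G → ℂ) : ℂ)) ^ 2 =
        ∑ β, ((g * k β : ℕ) : ℂ) * ((D' χ β : ℂ) * (charDegree (χ : G → ℂ) : ℂ)) := by
      intro χ hχ
      have h := congrFun (hdec χ (Finset.mem_filter.1 hχ).2) 1
      rw [CfsgLib.Block.regPart_of_not_dvd hone, (hdeg χ).1, Finset.sum_apply] at h
      rw [sq]
      nth_rewrite 1 [h]
      rw [Finset.sum_mul]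
      exact Finset.sum_congr rfl fun β _ => by rw [Pi.smul_apply, smul_eq_mul, hk]; ring
    rw [Finset.sum_congr rfl e, Finset.sum_comm]
    simp only [v, ← Finset.mul_sum]
    push_cast
    rw [Finset.mul_sum]
    refine Finset.sum_congr rfl fun β _ => ?_
    have h := congrArg (Nat.cast (R := ℂ)) (hk' β)
    push_cast at h
    rw [h, ← hgu]
    push_cast
    rw [show 2 * a - d = a - d + a by omega, pow_add]
    ring
  have hl : blockRank p B ≤ v := by
    rw [← CfsgLib.BrauerBasis.card_bsetB hM hB, Fintype.card_eq_sum_ones]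
    exact Finset.sum_le_sum fun β _ => Nat.mul_pos (hk0 β) (hk'0 β)
  have hv : v ≠ 0 := by
    intro h
    rw [h, mul_zero, hsum fun χ => charDegree (χ : G → ℂ) ^ 2, Finset.sum_eq_zero_iff] at htot
    exact (pow_pos (hdeg χ₀).2 2).ne' (htot χ₀ (Finset.mem_filter.2 ⟨Finset.mem_univ _, hχ₀⟩))
  refine ⟨v, Nat.pos_of_ne_zero hv, fun h => ?_, hl, htot⟩
  have h1 := CfsgLib.Block.sum_degree_sq_factorization hM hB
  rw [htot, ha, ← hdB, Nat.factorization_mul (Nat.mul_ne_zero (pow_ne_zero _ hp.ne_zero)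
    (pow_ne_zero _ hu0)) hv, Nat.factorization_mul (pow_ne_zero _ hp.ne_zero) (pow_ne_zero _ hu0),
    Finsupp.add_apply, Finsupp.add_apply, hp.factorization_pow, Finsupp.single_eq_same] at h1
  have h2 := hp.factorization_pos_of_dvd hv h
  omega

end Cfsg.Agent.S4641
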