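import Cfsg.Statements.S4642
import Cfsg.Agent.Blocks.PrincipalType

set_option autoImplicit false
open Cfsg

namespace Cfsg.Agent.S4642

/-- Let G be a finite group, p a prime, M a maximal ideal of the algebraic integers containing p, K the largest normal subgroup of G of order prime to p, and L the preimage in G of the largest normal p-subgroup of G/K. Let Q be a Sylow p-subgroup of L and suppose C_G(Q) ≤ L. Let θ be an irreducible character of K invariant under conjugation by every element of G, and let B be the set of irreducible characters of G whose restriction to K contains θ. Then B is a block of G, every Sylow p-subgroup of G is a defect group of B, and B is of principal type: for every p-subgroup R of G exactly one block of C_G(R) induces B. -/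
theorem result {G : Type*} [Group G] [Fintype G] (p : ℕ) [Fact p.Prime] (M : Ideal Cfsg.AlgInt) (hM : Cfsg.IsPModular p M) (K : Subgroup G) (hK : K = Cfsg.pPrimeCore p G) [Fintype K] (L : Subgroup G) (hL : L = Cfsg.pPrimePCore p G) (Q : Subgroup G) (hQL : Q ≤ L) (hQp : IsPGroup p Q) (hQS : ¬ p ∣ Q.relIndex L) (hCQ : Subgroup.centralizer (Q : Set G) ≤ L) (θ : Cfsg.IrrCharacter K) (hθ : ∀ g : G, Cfsg.IsConjCharOf K g (θ : K → ℂ) (θ : K → ℂ)) (B : Set (Cfsg.IrrCharacter G)) (hBdef : ∀ χ : Cfsg.IrrCharacter G, χ ∈ B ↔ Cfsg.classInner (fun k : K => (χ : G → ℂ) k) (θ : K → ℂ) ≠ 0) : Cfsg.IsPBlock M B ∧ (∀ S : Sylow p G, Cfsg.IsDefectGroup p M B S) ∧ ∀ R : Subgroup G, IsPGroup p R → ∃! f : Set (Cfsg.IrrCharacter (Subgroup.centralizer (R : Set G))), Cfsg.IsInducedBlock M (Subgroup.centralizer (R : Set G)) f B := by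
  classical
  haveI := hM.2.1.isPrime
  haveI : K.Normal := hK ▸ CfsgLib.Solvable.pPrimeCore_normal p
  have hQ'p : IsPGroup p (Q.subgroupOf L) := hQp.of_equiv (Subgroup.subgroupOfEquivOfLe hQL).symm
  subst hL
  set S : Sylow p ↥(Cfsg.pPrimePCore p G) := hQ'p.toSylow hQS with hS
  have hsc : CfsgLib.PConstrained.SelfCent p (G ⧸ Cfsg.pPrimeCore p G) := by
    refine CfsgLib.PConstrained.isPConstrained_iff.1 fun P => ?_
    obtain ⟨l, hl⟩ := MulAction.exists_smul_eq ↥(Cfsg.pPrimePCore p G) S P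
    intro x hx
    haveI : (Cfsg.pPrimePCore p G).Normal :=
      (CfsgLib.Solvable.pCore_normal (G := G ⧸ Cfsg.pPrimeCore p G) p).comap _
    have h : (l : G)⁻¹ * x * (l : G) ∈ Cfsg.pPrimePCore p G := by
      refine hCQ (Subgroup.mem_centralizer_iff.2 fun q hq => ?_)
      have hq' : MulAut.conj l • (⟨q, hQL hq⟩ : ↥(Cfsg.pPrimePCore p G)) ∈
          ((l • S : Sylow p _) : Subgroup _) :=
        Subgroup.smul_mem_pointwise_smul _ (MulAut.conj l) _ (by
          rw [hS]; exact hq)
      rw [hl] at hq'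
      have h1 : ((l : G) * q * (l : G)⁻¹) * x = x * ((l : G) * q * (l : G)⁻¹) :=
        Subgroup.mem_centralizer_iff.1 hx _ ⟨_, hq', rfl⟩
      calc q * ((l : G)⁻¹ * x * l) = (l : G)⁻¹ * (((l : G) * q * (l : G)⁻¹) * x) * l := by group
        _ = (l : G)⁻¹ * (x * ((l : G) * q * (l : G)⁻¹)) * l := by rw [h1]
        _ = _ := by group
    have := mul_mem (mul_mem l.2 h) (inv_mem l.2)
    simpa [mul_assoc] using this
  have hndK : ¬ p ∣ Nat.card K := fun h =>
    (Fact.out : p.Prime).ne_one (Nat.eq_one_of_dvd_coprimes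
      (hK ▸ CfsgLib.Solvable.coprime_card_pPrimeCore p) h dvd_rfl)
  have hinv : ∀ g : G, CfsgLib.Block.conjIrr g θ = θ := fun g =>
    Subtype.ext (funext fun k => by
      rw [CfsgLib.Block.conjIrr_coe, CfsgLib.Char.conjOn_apply]
      exact hθ g k _ rfl)
  obtain ⟨B₁, hB₁, hiff, hsyl, -⟩ := CfsgLib.Block.block_over_invariant hM hndK
    (CfsgLib.PConstrained.SelfCent.of_equiv (QuotientGroup.quotientMulEquivOfEq hK.symm) hsc) hinv
  obtain rfl : B = B₁ := Set.ext fun χ => (hBdef χ).trans (hiff χ).symm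
  exact ⟨hB₁, hsyl, fun R hR => CfsgLib.Block.principal_type hM hK hsc hinv hB₁ hiff hR⟩

end Cfsg.Agent.S4642
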