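import Cfsg.Statements.S4682
import Cfsg.Agent.BrauerPairs.NilpotentBridge

set_option autoImplicit false
open Cfsg

namespace Cfsg.Agent.S4682

/-- Fix a prime p and a maximal ideal M of the algebraic integers containing p, a p-block B of the finite group G with maximal Brauer pair (P, e), P abelian, and a Brauer pair (Q, f) ≤ (P, e). Let T_Q be the stabilizer of f in N_G(Q) and T_P the stabilizer of e in N_G(P). Then every element of T_Q is a product of an element of T_P and an element of C_G(Q); and the index of C_G(Q) in T_Q equals the index of T_P ∩ C_G(Q) in T_P ∩ N_G(Q). -/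
theorem result {G : Type*} [Group G] [Fintype G] (p : ℕ) [Fact p.Prime] (M : Ideal Cfsg.AlgInt) (hM : Cfsg.IsPModular p M) (B : Set (Cfsg.IrrCharacter G)) (P : Subgroup G) (e : Set (Cfsg.IrrCharacter (Subgroup.centralizer (P : Set G)))) (hmax : Cfsg.IsMaximalBrauerPair p M B P e) (hab : ∀ x ∈ P, ∀ y ∈ P, x * y = y * x) (Q : Subgroup G) (f : Set (Cfsg.IrrCharacter (Subgroup.centralizer (Q : Set G)))) (hQP : Q ≤ P) (hf : Cfsg.IsPBlock M f) (hle : Cfsg.SubpairLE p M Q f P e) (TQ : Subgroup G) (hTQ : ∀ y : G, y ∈ TQ ↔ y ∈ Subgroup.normalizer (Q : Set G) ∧ Cfsg.StabilizesBlock (Subgroup.centralizer (Q : Set G)) f y) (TP : Subgroup G) (hTP : ∀ y : G, y ∈ TP ↔ y ∈ Subgroup.normalizer (P : Set G) ∧ Cfsg.StabilizesBlock (Subgroup.centralizer (P : Set G)) e y) : (∀ x ∈ TQ, ∃ y ∈ TP, ∃ c ∈ Subgroup.centralizer (Q : Set G), x = y * c) ∧ ((Subgroup.centralizer (Q : Set G)).subgroupOf TQ).index = ((TP ⊓ Subgroup.centralizer (Q : Set G)).subgroupOf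 (TP ⊓ Subgroup.normalizer (Q : Set G))).index := by
  haveI := CfsgLib.Block.isPrime_of_isPModular hM
  haveI := CfsgLib.Block.charP_residue hM
  obtain ⟨hP, hb, hmx⟩ := CfsgLib.BrauerPairs.maxPair_data hM hmax
  have hple := CfsgLib.BrauerPairs.ple_of_subpairLE hM hmax hle
  have hQ := CfsgLib.BrauerPairs.PLE.isPair hple hP
  have hsQ := CfsgLib.BrauerPairs.stab_eq hM hf hTQ
  have hsP := CfsgLib.BrauerPairs.stab_eq hM hmax.1.1.2 hTP
  have h1 : ∀ x ∈ TQ, ∃ y ∈ TP, ∃ c ∈ Subgroup.centralizer (Q : Set G), x = y * c := by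
    intro x hx
    rw [← hsQ] at hx
    obtain ⟨y, hy, hrest⟩ := CfsgLib.BrauerPairs.exists_stab_top_mul hP hb hmx hab hple hx
    exact ⟨y, hsP ▸ hy, hrest⟩
  refine ⟨h1, ?_⟩
  set C := Subgroup.centralizer (Q : Set G) with hC
  set A := TP ⊓ Subgroup.normalizer (Q : Set G) with hA
  have hCT : C ≤ TQ := hsQ ▸ CfsgLib.BrauerPairs.centralizer_le_stab hQ
  have hAT : A ≤ TQ := by
    rw [hA, ← hsP, ← hsQ]; exact CfsgLib.BrauerPairs.stab_top_inf_le hP hple
  haveI : (C.subgroupOf TQ).Normal := (Subgroup.normal_subgroupOf_iff_le_normalizer hCT).mpr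
    (fun x hx => CfsgLib.BrauerPairs.map_normalizer_centralizer ((hTQ x).mp hx).1)
  have hCN : C ≤ Subgroup.normalizer (Q : Set G) :=
    CfsgLib.BrauerPairs.centralizer_le_normalizer Q
  have hsup : A.subgroupOf TQ ⊔ C.subgroupOf TQ = ⊤ := by
    rw [eq_top_iff]
    rintro ⟨x, hx⟩ -
    obtain ⟨y, hy, c, hc, rfl⟩ := h1 x hx
    have hyN : y ∈ Subgroup.normalizer (Q : Set G) := by
      simpa using mul_mem ((hTQ _).mp hx).1 (inv_mem (hCN hc))
    have hyA : y ∈ A := ⟨hy, hyN⟩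
    have : (⟨y * c, hx⟩ : TQ) = ⟨y, hAT hyA⟩ * ⟨c, hCT hc⟩ := rfl
    rw [this]
    exact mul_mem (Subgroup.mem_sup_left hyA) (Subgroup.mem_sup_right hc)
  have h2 : (C.subgroupOf TQ).index = C.relIndex A := by
    rw [← Subgroup.relIndex_top_right, ← hsup, Subgroup.relIndex_sup_right,
      Subgroup.relIndex_subgroupOf hAT]
  have h3 : TP ⊓ C = A ⊓ C := by
    rw [hA, inf_assoc, inf_eq_right.mpr hCN]
  rw [h2, h3]
  show _ = (A ⊓ C).relIndex A
  rw [inf_comm, Subgroup.inf_relIndex_right]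

end Cfsg.Agent.S4682
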