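import Cfsg.Statements.S4689
import Cfsg.Agent.BlocksB.Star.Nilpotent

set_option autoImplicit false
open Cfsg

namespace Cfsg.Agent.S4689

/-- Fix a prime p and a maximal ideal M of the algebraic integers containing p, and a nilpotent p-block B of the finite group G. Then B has p-regular rank one (a single irreducible Brauer character), and some χ₀ ∈ B restricts to that Brauer character: every χ ∈ B agrees on the p-regular elements with a natural-number multiple of χ₀. -/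
theorem result {G : Type*} [Group G] [Fintype G] (p : ℕ) [Fact p.Prime] (M : Ideal Cfsg.AlgInt) (hM : Cfsg.IsPModular p M) (B : Set (Cfsg.IrrCharacter G)) (hnil : Cfsg.IsNilpotentBlock p M B) : Cfsg.blockRank p B = 1 ∧ ∃ χ₀ ∈ B, ∀ χ ∈ B, ∃ d : ℕ, ∀ x : G, Cfsg.pRegularPart p (χ : G → ℂ) x = (d : ℂ) * Cfsg.pRegularPart p (χ₀ : G → ℂ) x := by
  classical
  haveI := hM.2.1.isPrime
  haveI := CfsgLib.Block.charP_residue hM
  obtain ⟨hB, hn⟩ := (CfsgLib.BrauerPairs.isNilpotentBlock_iff hM).mp hnil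
  have hb := CfsgLib.BrauerPairs.isBlk_idem hM hB
  obtain ⟨D, hD⟩ := CfsgLib.Block.exists_defectGroup hB hM
  obtain ⟨e, hmax⟩ := CfsgLib.BrauerPairs.exists_isMaxPair hb
    (CfsgLib.BrauerPairs.isDef_of_isDefectGroup hM hB hD)
  obtain ⟨χ₀, hχ₀, -, Φ, hΦ⟩ := CfsgLib.BlockStar.exists_generating hM hB hn hmax
  have hall : ∀ χ ∈ B, ∃ d : ℕ, ∀ x : G, Cfsg.pRegularPart p (χ : G → ℂ) x =
      (d : ℂ) * Cfsg.pRegularPart p (χ₀ : G → ℂ) x := by
    intro χ hχ
    refine ⟨Cfsg.charDegree ((Φ.symm ⟨χ, hχ⟩ : Cfsg.IrrCharacter D) : D → ℂ), fun x => ?_⟩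
    have h := hΦ (Φ.symm ⟨χ, hχ⟩) x
    rw [Equiv.apply_symm_apply] at h
    unfold Cfsg.pRegularPart
    split_ifs with hx
    · exact h hx
    · simp
  refine ⟨?_, χ₀, hχ₀, hall⟩
  have hne : Cfsg.pRegularPart p (χ₀ : G → ℂ) ≠ 0 := by
    intro h
    have h1 := congrFun h 1
    rw [Cfsg.pRegularPart, if_pos (show Cfsg.IsPRegular p (1 : G) by
      rw [Cfsg.IsPRegular, orderOf_one]; exact hM.1.not_dvd_one)] at h1
    exact CfsgLib.Block.Chr.irr_one_ne_zero χ₀ h1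
  rw [Cfsg.blockRank, show Submodule.span ℂ
      ((fun χ : Cfsg.IrrCharacter G => Cfsg.pRegularPart p (χ : G → ℂ)) '' B) =
      Submodule.span ℂ {Cfsg.pRegularPart p (χ₀ : G → ℂ)} from ?_, finrank_span_singleton hne]
  refine le_antisymm (Submodule.span_le.2 ?_) (Submodule.span_mono ?_)
  · rintro _ ⟨χ, hχ, rfl⟩
    obtain ⟨d, hd⟩ := hall χ hχ
    exact Submodule.mem_span_singleton.2 ⟨(d : ℂ), funext fun x => (hd x).symm⟩
  · exact Set.singleton_subset_iff.2 ⟨χ₀, hχ₀, rfl⟩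

end Cfsg.Agent.S4689
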