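import Cfsg.Statements.S4645
import Cfsg.Agent.BlocksB.InertialAbelian
import Cfsg.Agent.S4682
import Cfsg.Agent.S4689

set_option autoImplicit false
open Cfsg

namespace Cfsg.Agent.S4645

/-- Let B be a block of the finite group G relative to a maximal ideal M of the algebraic integers containing the prime p, with a nontrivial cyclic defect group P; let c be a block of C_G(P) inducing B and T the stabilizer of c in N_G(P). Let Q be a nontrivial subgroup of P (so C_G(P) ≤ C_G(Q)), f the block of C_G(Q) induced by c inside C_G(Q), and T' the stabilizer of f in N_G(Q). Then T' = T·C_G(Q), the index of C_G(Q) in T' equals the index of C_G(P) in T, f has p-regular rank 1, and f is a nilpotent block of C_G(Q). -/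
theorem result {G : Type*} [Group G] [Finite G] (p : ℕ) [Fact p.Prime] (M : Ideal Cfsg.AlgInt) (hM : Cfsg.IsPModular p M) (B : Set (Cfsg.IrrCharacter G)) (hB : Cfsg.IsPBlock M B) (P : Subgroup G) (hPD : Cfsg.IsDefectGroup p M B P) (hP1 : P ≠ ⊥) (hcyc : IsCyclic P) (c : Set (Cfsg.IrrCharacter (Subgroup.centralizer (P : Set G)))) (hc : Cfsg.IsInducedBlock M (Subgroup.centralizer (P : Set G)) c B) (T : Subgroup G) (hT : ∀ g : G, g ∈ T ↔ (g ∈ Subgroup.normalizer (P : Set G) ∧ Cfsg.StabilizesBlock (Subgroup.centralizer (P : Set G)) c g)) (Q : Subgroup G) (hQP : Q ≤ P) (hQ1 : Q ≠ ⊥) (f : Set (Cfsg.IrrCharacter (Subgroup.centralizer (Q : Set G)))) (hf : Cfsg.IsInducedBlockIn M (Subgroup.centralizer (Q : Set G)) (Subgroup.centralizer (P : Set G)) c f) (T' : Subgroup G) (hT' : ∀ g : G, g ∈ T' ↔ (g ∈ Subgroup.normalizer (Q : Set G) ∧ Cfsg.StabilizesBlock (Subgroup.centralizer (Q : Set G)) f g)) : T' = T ⊔ Subgroup.centralizer (Q : Set G) ∧ (Subgroup.centralizer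 (Q : Set G)).relIndex T' = (Subgroup.centralizer (P : Set G)).relIndex T ∧ Cfsg.blockRank p f = 1 ∧ Cfsg.IsNilpotentBlock p M f := by
  cases nonempty_fintype G
  haveI := hM.2.1.isPrime
  haveI := CfsgLib.Block.charP_residue hM
  have hab : ∀ a ∈ P, ∀ b ∈ P, a * b = b * a := by
    letI := hcyc.commGroup
    exact fun a ha b hb => congrArg Subtype.val (mul_comm (⟨a, ha⟩ : P) ⟨b, hb⟩)
  obtain ⟨hP, hmax⟩ := CfsgLib.Inertial.maxPair_of_induced hM hB hPD hab hc
  have hsT := CfsgLib.BrauerPairs.stab_eq hM hc.1 hT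
  have hsT' := CfsgLib.BrauerPairs.stab_eq hM hf.2.1 hT'
  have hple := CfsgLib.Inertial.ple_of_inducedIn hM hP hab hQP hf
  have hQpair := CfsgLib.BrauerPairs.PLE.isPair hple hP
  have hTN : T ≤ Subgroup.normalizer (Q : Set G) :=
    hsT ▸ CfsgLib.Inertial.le_normalizer_of_cyclic hcyc hQP
  have hfree := CfsgLib.Inertial.free_of_cyclic hM hB hP hmax hcyc
  rw [hsT] at hfree
  obtain ⟨x, hxQ, hx1⟩ := Subgroup.bot_or_exists_ne_one Q |>.resolve_left hQ1
  have hfreeQ : ∀ t ∈ T, t ∈ Subgroup.centralizer (Q : Set G) →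
      t ∈ Subgroup.centralizer (P : Set G) := fun t ht htQ => hfree t ht x (hQP hxQ) hx1 (by
    rw [← Subgroup.mem_centralizer_iff.mp htQ x hxQ, mul_inv_cancel_right])
  have hCC : Subgroup.centralizer (P : Set G) ≤ Subgroup.centralizer (Q : Set G) :=
    Subgroup.centralizer_le (SetLike.coe_subset_coe.mpr hQP)
  have hCT : Subgroup.centralizer (P : Set G) ≤ T :=
    hsT ▸ CfsgLib.BrauerPairs.centralizer_le_stab hP
  have hbp : Cfsg.IsBrauerPair p M P c := ⟨hP.1, hc.1⟩
  have hmaxB : Cfsg.IsMaximalBrauerPair p M B P c :=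
    (CfsgLib.BrauerPairs.isMaximalBrauerPair_iff hM).mpr ⟨hbp, hB, hmax⟩
  obtain ⟨hdec, hidx⟩ := Cfsg.Agent.S4682.result p M hM B P c hmaxB hab Q f hQP hf.2.1
    ((CfsgLib.BrauerPairs.subpairLE_iff hM hbp).mpr ⟨⟨hQpair.1, hf.2.1⟩, hple⟩) T' hT' T hT
  have hnil : Cfsg.IsNilpotentBlock p M f :=
    CfsgLib.Inertial.isNilpotentBlock_local hM hB hP hmax hab hQP
      (by rw [hsT]; exact hfreeQ) hf
  refine ⟨le_antisymm (fun t ht => ?_) (sup_le ?_ ?_), ?_, ?_, hnil⟩
  · obtain ⟨y, hy, d, hd, rfl⟩ := hdec t ht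
    exact Subgroup.mul_mem_sup hy hd
  · have h := CfsgLib.BrauerPairs.stab_top_inf_le hP hple
    rw [hsT, hsT', inf_eq_left.mpr hTN] at h
    exact h
  · rw [← hsT']; exact CfsgLib.BrauerPairs.centralizer_le_stab hQpair
  · have h3 : T ⊓ Subgroup.centralizer (Q : Set G) = Subgroup.centralizer (P : Set G) :=
      le_antisymm (fun t ht => hfreeQ t ht.1 ht.2) (le_inf hCT hCC)
    rw [inf_eq_left.mpr hTN, h3] at hidx
    exact hidx
  · haveI := Fintype.ofFinite (Subgroup.centralizer (Q : Set G))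
    exact (Cfsg.Agent.S4689.result p M hM f hnil).1

end Cfsg.Agent.S4645
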