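import Cfsg.Statements.S4646
import Cfsg.Agent.S4691
import Cfsg.Agent.BlocksB.RankOne
import Cfsg.Agent.Blocks.PrincipalCoeff
import Cfsg.Agent.Char.Kernel

set_option autoImplicit false
open Cfsg

namespace Cfsg.Agent.S4646

/-- For a finite group G, a prime p and a maximal ideal M of the algebraic integers containing p: the principal block of G is nilpotent if and only if its p-regular rank is 1 (the trivial Brauer character is its only irreducible Brauer character). -/
theorem result {G : Type*} [Group G] [Finite G] (p : ℕ) [Fact p.Prime] (M : Ideal Cfsg.AlgInt) (hM : Cfsg.IsPModular p M) : Cfsg.IsNilpotentBlock p M (Cfsg.principalBlock M G) ↔ Cfsg.blockRank p (Cfsg.principalBlock M G) = 1 := by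
  classical
  haveI := Fintype.ofFinite G
  haveI := hM.2.1.isPrime
  letI := CfsgLib.Block.Chr.irrFintype (G := G)
  rw [← Cfsg.Agent.S4691.result p M hM]
  have hp : p.Prime := hM.1
  have hB : Cfsg.IsPBlock M (Cfsg.principalBlock M G) := CfsgLib.Block.isPBlock_principalBlock
  have h1B : CfsgLib.Block.oneIrr G ∈ Cfsg.principalBlock M G := CfsgLib.Block.oneIrr_mem_principalBlock
  constructor
  · rintro ⟨P, N, hNn, hNP⟩
    haveI := hNn
    have hcard := hNP.card_mul
    obtain ⟨n, hn⟩ := IsPGroup.iff_card.1 P.isPGroup'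
    have hidx : N.index = p ^ n := by
      have h := N.card_mul_index
      rw [← hcard, hn] at h
      exact Nat.eq_of_mul_eq_mul_left Nat.card_pos h
    have hNp : ¬ p ∣ Nat.card N := by
      intro hd
      have h1 := P.not_dvd_index
      rw [hNP.index_eq_card] at h1
      exact h1 hd
    have hset := CfsgLib.Block.principalBlock_of_complement hM N hNp ⟨n, hidx⟩
    have hreg : ∀ g : G, ¬ p ∣ orderOf g → g ∈ N := by
      intro g hg
      rw [← QuotientGroup.eq_one_iff (N := N), ← orderOf_eq_one_iff]
      refine Nat.eq_one_of_dvd_coprimes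
        (Nat.Coprime.pow_right n (hp.coprime_iff_not_dvd.2 hg).symm)
        (orderOf_map_dvd (QuotientGroup.mk' N) g) ?_
      rw [← hidx]
      exact orderOf_dvd_natCard _
    refine le_antisymm ?_ (Nat.one_le_iff_ne_zero.2 fun hz => ?_)
    · have hle : Submodule.span ℂ ((fun χ : Cfsg.IrrCharacter G => Cfsg.pRegularPart p (χ : G → ℂ)) ''
          Cfsg.principalBlock M G) ≤
          Submodule.span ℂ ({Cfsg.pRegularPart p fun _ : G => (1 : ℂ)} : Set (G → ℂ)) := by
        refine Submodule.span_le.2 ?_
        rintro _ ⟨χ, hχ, rfl⟩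
        refine Submodule.mem_span_singleton.2 ⟨(χ : G → ℂ) 1, funext fun g => ?_⟩
        simp only [Pi.smul_apply, smul_eq_mul, CfsgLib.BlockB.pRegularPart_eq]
        by_cases hg : p ∣ orderOf g
        · rw [CfsgLib.Block.regPart_of_dvd hg, CfsgLib.Block.regPart_of_dvd hg, mul_zero]
        · rw [hset] at hχ
          rw [CfsgLib.Block.regPart_of_not_dvd hg, CfsgLib.Block.regPart_of_not_dvd hg, mul_one,
            hχ g (hreg g hg)]
      refine (Submodule.finrank_mono hle).trans ((finrank_span_le_card _).trans ?_)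
      simp
    · rw [Cfsg.blockRank, Submodule.finrank_eq_zero, Submodule.span_eq_bot] at hz
      have := congrFun (hz _ ⟨_, h1B, rfl⟩) 1
      simp [CfsgLib.BlockB.pRegularPart_eq, CfsgLib.Block.regPart, hp.ne_one] at this
  · intro hl
    obtain ⟨φ, d, -, hval, -⟩ := CfsgLib.BlockB.rank_one_decomposition hM hB hl
    have hone : Cfsg.IsPRegular p (1 : G) := by simp [Cfsg.IsPRegular, hp.ne_one]
    have hconst : ∀ χ ∈ Cfsg.principalBlock M G, ∀ g : G, Cfsg.IsPRegular p g →
        (χ : G → ℂ) g = (χ : G → ℂ) 1 := by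
      intro χ hχ g hg
      have e1 := hval _ h1B g hg
      have e2 := hval _ h1B 1 hone
      rw [CfsgLib.Block.oneIrr_apply] at e1 e2
      have hd : (d (CfsgLib.Block.oneIrr G) : ℂ) ≠ 0 := fun h => by simp [h] at e1
      have hφ : φ g = φ 1 := mul_left_cancel₀ hd (e1.symm.trans e2)
      rw [hval χ hχ g hg, hval χ hχ 1 hone, hφ]
    let N : Subgroup G := ⨅ χ : {χ : Cfsg.IrrCharacter G // χ ∈ Cfsg.principalBlock M G},
      CfsgLib.Char.kerSubgroup (CfsgLib.Block.Chr.isCharacter_irr χ.1)
    have hmem : ∀ g, g ∈ N ↔ ∀ χ ∈ Cfsg.principalBlock M G, (χ : G → ℂ) g = (χ : G → ℂ) 1 := by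
      intro g
      simp [N, Subgroup.mem_iInf]
    have hNn : N.Normal := Subgroup.normal_iInf_normal fun χ => CfsgLib.Char.kerSubgroup_normal _
    have hNp : ¬ p ∣ Nat.card N := by
      intro hd
      haveI := Fintype.ofFinite N
      obtain ⟨y, hy⟩ := exists_prime_orderOf_dvd_card' p hd
      have hyG : orderOf (y : G) = p := by rw [Subgroup.orderOf_coe, hy]
      have h := CfsgLib.Block.weak_orth (B := Cfsg.principalBlock M G) hM
        (CfsgLib.Block.isIntClass_blockCoeff hB) (g := (1 : G)) (h := (y : G))
        (by simp [hp.ne_one]) (by rw [hyG])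
      rw [Finset.sum_congr rfl fun χ hχ => by
        rw [(hmem (y : G)).1 y.2 χ (Finset.mem_filter.1 hχ).2, (CfsgLib.Block.Chr.irr_one χ).1,
          Complex.conj_natCast, ← Nat.cast_mul], ← Nat.cast_sum, Nat.cast_eq_zero,
        Finset.sum_eq_zero_iff] at h
      have := h _ (Finset.mem_filter.2 ⟨Finset.mem_univ _, h1B⟩)
      simp [Cfsg.charDegree] at this
    obtain ⟨P⟩ : Nonempty (Sylow p G) := inferInstance
    refine ⟨P, N, hNn, ?_⟩
    have hdvd : (P : Subgroup G).index ∣ Nat.card N := by
      rw [← Nat.factorization_le_iff_dvd (P : Subgroup G).index_ne_zero_of_finite Nat.card_pos.ne']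
      intro q
      by_cases hq : q.Prime
      · by_cases hqp : q = p
        · subst hqp
          rw [Nat.factorization_eq_zero_of_not_dvd P.not_dvd_index]
          exact Nat.zero_le _
        · haveI : Fact q.Prime := ⟨hq⟩
          obtain ⟨Q⟩ : Nonempty (Sylow q G) := inferInstance
          have hQN : (Q : Subgroup G) ≤ N := by
            intro g hg
            rw [hmem]
            intro χ hχ
            refine hconst χ hχ g ?_
            obtain ⟨k, hk⟩ := IsPGroup.iff_orderOf.1 Q.isPGroup' ⟨g, hg⟩
            rw [Cfsg.IsPRegular, ← Subgroup.orderOf_mk (a := g) hg, hk]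
            exact fun h => hqp ((Nat.prime_dvd_prime_iff_eq hp hq).1 (hp.dvd_of_dvd_pow h)).symm
          have h1 := (Nat.factorization_le_iff_dvd Nat.card_pos.ne' Nat.card_pos.ne').2
            (Subgroup.card_dvd_of_le hQN) q
          refine le_trans ?_ h1
          rw [Q.card_eq_multiplicity, hq.factorization_pow, Finsupp.single_eq_same]
          exact (Nat.factorization_le_iff_dvd (P : Subgroup G).index_ne_zero_of_finite
            Nat.card_pos.ne').2 (P : Subgroup G).index_dvd_card q
      · simp [Nat.factorization_eq_zero_of_not_prime _ hq]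
    have hcop : Nat.Coprime (Nat.card N) (Nat.card P) := by
      rw [P.card_eq_multiplicity]
      exact Nat.Coprime.pow_right _ (hp.coprime_iff_not_dvd.2 hNp).symm
    refine Subgroup.isComplement'_of_coprime (le_antisymm ?_ ?_) hcop
    · refine Nat.le_of_dvd Nat.card_pos ?_
      exact hcop.mul_dvd_of_dvd_of_dvd (Subgroup.card_subgroup_dvd_card _)
        (Subgroup.card_subgroup_dvd_card _)
    · calc Nat.card G = (P : Subgroup G).index * Nat.card P :=
            (Subgroup.index_mul_card _).symm
        _ ≤ Nat.card N * Nat.card P := Nat.mul_le_mul_right _ (Nat.le_of_dvd Nat.card_pos hdvd)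

end Cfsg.Agent.S4646
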