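import Cfsg.Statements.S4650
import Cfsg.Agent.BlocksB.InertialAbelian

set_option autoImplicit false
open Cfsg

namespace Cfsg.Agent.S4650

/-- Let B be a block of the finite group G relative to a maximal ideal M of the algebraic integers containing the prime p, with a nontrivial commutative defect group P; let c be a block of C_G(P) inducing B and T the stabilizer of c in N_G(P). Then T/C_G(P) acts freely on the non-identity elements of P (an element of T fixing a non-identity element of P under conjugation lies in C_G(P)) if and only if, for every nontrivial subgroup Q of P, the block of C_G(Q) induced by c inside C_G(Q) is a nilpotent block of C_G(Q). -/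
theorem result {G : Type*} [Group G] [Finite G] (p : ℕ) [Fact p.Prime] (M : Ideal Cfsg.AlgInt) (hM : Cfsg.IsPModular p M) (B : Set (Cfsg.IrrCharacter G)) (hB : Cfsg.IsPBlock M B) (P : Subgroup G) (hPD : Cfsg.IsDefectGroup p M B P) (hPab : ∀ x ∈ P, ∀ y ∈ P, x * y = y * x) (hP1 : P ≠ ⊥) (c : Set (Cfsg.IrrCharacter (Subgroup.centralizer (P : Set G)))) (hc : Cfsg.IsInducedBlock M (Subgroup.centralizer (P : Set G)) c B) (T : Subgroup G) (hT : ∀ g : G, g ∈ T ↔ (g ∈ Subgroup.normalizer (P : Set G) ∧ Cfsg.StabilizesBlock (Subgroup.centralizer (P : Set G)) c g)) : (∀ g ∈ T, ∀ x ∈ P, x ≠ 1 → g * x * g⁻¹ = x → g ∈ Subgroup.centralizer (P : Set G)) ↔ ∀ Q : Subgroup G, Q ≤ P → Q ≠ ⊥ → ∀ f : Set (Cfsg.IrrCharacter (Subgroup.centralizer (Q : Set G))), Cfsg.IsInducedBlockIn M (Subgroup.centralizer (Q : Set G)) (Subgroup.centralizer (P : Set G)) c f → Cfsg.IsNilpotentBlock p M f := by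
  cases nonempty_fintype G
  haveI := hM.2.1.isPrime
  haveI := CfsgLib.Block.charP_residue hM
  obtain ⟨hP, hmax⟩ := CfsgLib.Inertial.maxPair_of_induced hM hB hPD hPab hc
  obtain rfl : _ = T := CfsgLib.BrauerPairs.stab_eq hM hc.1 hT
  constructor
  · intro hfree Q hQP hQ1 f hf
    refine CfsgLib.Inertial.isNilpotentBlock_local hM hB hP hmax hPab hQP
      (fun t ht htQ => ?_) hf
    obtain ⟨x, hx, hx1⟩ := Subgroup.bot_or_exists_ne_one Q |>.resolve_left hQ1
    refine hfree t ht x (hQP hx) hx1 ?_
    rw [← Subgroup.mem_centralizer_iff.mp htQ x hx, mul_inv_cancel_right]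
  · intro hnil t ht x hx hx1 hfix
    have hQP : Subgroup.zpowers x ≤ P := Subgroup.zpowers_le.mpr hx
    have htQ : t ∈ Subgroup.centralizer ((Subgroup.zpowers x : Subgroup G) : Set G) := by
      refine Subgroup.mem_centralizer_iff.mpr fun y hy => ?_
      obtain ⟨i, rfl⟩ := hy
      exact ((show Commute t x from mul_inv_eq_iff_eq_mul.mp hfix).zpow_right i).eq.symm
    obtain ⟨f, hf⟩ := CfsgLib.Inertial.exists_inducedIn hM hP.1 hc.1 hPab hQP
    have hn := hnil (Subgroup.zpowers x) hQP (by simpa using hx1) f hf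
    haveI := Fintype.ofFinite (Subgroup.centralizer ((Subgroup.zpowers x : Subgroup G) : Set G))
    obtain ⟨e', hemb, hP', hmax'⟩ := CfsgLib.Inertial.local_maxPair hM hB hP hmax hPab hQP hf
    have hle := (CfsgLib.BrauerPairs.isNil_iff_of_abelian hP'
      (CfsgLib.BrauerPairs.isBlk_idem hM hf.2.1) hmax'
      (fun a ha b hb => Subtype.ext (hPab _ ha _ hb))
      (fun R f' h => CfsgLib.BrauerPairs.isSplit_of_isPair hM R f' h)).mp
      ((CfsgLib.BrauerPairs.isNilpotentBlock_iff hM).mp hn).2
    have htC : (⟨t, htQ⟩ : ↥(Subgroup.centralizer ((Subgroup.zpowers x : Subgroup G) : Set G))) ∈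
        CfsgLib.BrauerPairs.stab
          (P.subgroupOf (Subgroup.centralizer ((Subgroup.zpowers x : Subgroup G) : Set G))) e' := by
      refine ⟨?_, ?_⟩
      · rw [Subgroup.mem_normalizer_iff]
        exact fun y => Subgroup.mem_normalizer_iff.mp ht.1 (y : G)
      · apply CfsgLib.BrauerPairs.emb_injective
        rw [← CfsgLib.BrauerPairs.cj_emb, hemb]
        exact ht.2
    refine Subgroup.mem_centralizer_iff.mpr fun y hy => ?_
    have hyC : y ∈ Subgroup.centralizer ((Subgroup.zpowers x : Subgroup G) : Set G) :=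
      Subgroup.mem_centralizer_iff.mpr fun z hz => hPab z (hQP hz) y hy
    exact congrArg Subtype.val (Subgroup.mem_centralizer_iff.mp (hle htC) ⟨y, hyC⟩ hy)

end Cfsg.Agent.S4650
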