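import Cfsg.Statements.S4661
import Cfsg.Agent.BrauerPairs.LocalBridge

set_option autoImplicit false
open Cfsg

namespace Cfsg.Agent.S4661

/-- Fix a prime p and a maximal ideal M of the algebraic integers containing p. Let (P, e) be a maximal Brauer pair of the p-block B of the finite group G, Q ≤ P, and f the p-block of C_G(Q) with (Q, f) ≤ (P, e). Then C_P(Q) is contained in a defect group of f (as a block of the group C_G(Q)); and for some x in G the conjugate pair (x Q x⁻¹, conjugate of f) again lies below (P, e) and C_P(x Q x⁻¹) is a defect group of the conjugate of f in C_G(x Q x⁻¹). -/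
theorem result {G : Type*} [Group G] [Fintype G] (p : ℕ) [Fact p.Prime] (M : Ideal Cfsg.AlgInt) (hM : Cfsg.IsPModular p M) (B : Set (Cfsg.IrrCharacter G)) (P Q : Subgroup G) (e : Set (Cfsg.IrrCharacter (Subgroup.centralizer (P : Set G)))) (f : Set (Cfsg.IrrCharacter (Subgroup.centralizer (Q : Set G)))) (hmax : Cfsg.IsMaximalBrauerPair p M B P e) (hQP : Q ≤ P) (hf : Cfsg.IsPBlock M f) (hle : Cfsg.SubpairLE p M Q f P e) : (∃ D : Subgroup (Subgroup.centralizer (Q : Set G)), Cfsg.IsDefectGroup p M f D ∧ (P ⊓ Subgroup.centralizer (Q : Set G)).subgroupOf (Subgroup.centralizer (Q : Set G)) ≤ D) ∧ ∃ x : G, Cfsg.SubpairLE p M (Q.map (MulAut.conj x).toMonoidHom) (Cfsg.conjBlock Q x f) P e ∧ Cfsg.IsDefectGroup p M (Cfsg.conjBlock Q x f) ((P ⊓ Subgroup.centralizer ((Q.map (MulAut.conj x).toMonoidHom) : Set G)).subgroupOf (Subgroup.centralizer ((Q.map (MulAut.conj x).toMonoidHom) : Set G))) := by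
  haveI := CfsgLib.Block.isPrime_of_isPModular hM
  haveI := CfsgLib.Block.charP_residue hM
  classical
  obtain ⟨hPe, hB, hmaxP⟩ := (CfsgLib.BrauerPairs.isMaximalBrauerPair_iff hM).mp hmax
  obtain ⟨hQf, hple⟩ := (CfsgLib.BrauerPairs.subpairLE_iff hM hPe).mp hle
  have hP := CfsgLib.BrauerPairs.isPair_toPair hM hPe
  have hblk := CfsgLib.BrauerPairs.isBlk_idemIn hM hf
  have hCN := CfsgLib.BrauerPairs.centralizer_le_normalizer Q
  constructor
  · obtain ⟨D, hD, hle'⟩ := CfsgLib.BrauerPairs.exists_isDefMax_ge hblk le_rfl Subgroup.le_normalizer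
      (R := P ⊓ Subgroup.centralizer (Q : Set G)) (hPe.1.to_le inf_le_left) inf_le_right
      (CfsgLib.BrauerPairs.br_inf_ne_zero hP hple (inf_le_inf_left _ hCN))
    refine ⟨D.subgroupOf _, (CfsgLib.BrauerPairs.isDefectGroup_sub_iff_of_le hM _ hf hD.2.1).mpr hD, ?_⟩
    exact Subgroup.comap_mono hle'
  · obtain ⟨x, hx, hdef⟩ := CfsgLib.BrauerPairs.exists_conj_isDefMax
      (CfsgLib.BrauerPairs.isBlk_idem hM hB) hmaxP hple le_rfl hCN hblk.fixBy
    refine ⟨x, (CfsgLib.BrauerPairs.subpairLE_iff hM hPe).mpr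
      ⟨CfsgLib.BrauerPairs.isBrauerPair_conjBlock hQf x, ?_⟩, ?_⟩
    · rw [← CfsgLib.BrauerPairs.cjPair_toPair]; exact hx
    · rw [CfsgLib.BrauerPairs.map_conj_centralizer, ← CfsgLib.BrauerPairs.idemIn_conjBlock] at hdef
      exact (CfsgLib.BrauerPairs.isDefectGroup_sub_iff_of_le hM _
        (CfsgLib.BrauerPairs.isPBlock_conjBlock Q x hf) inf_le_right).mpr hdef

end Cfsg.Agent.S4661
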