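import Cfsg.Statements.S4662
import Cfsg.Agent.BrauerPairs.LocalBridge

set_option autoImplicit false
open Cfsg

namespace Cfsg.Agent.S4662

/-- Fix a prime p and a maximal ideal M of the algebraic integers containing p. Let (P, e) be a maximal Brauer pair of the p-block B of the finite group G, Q ≤ P, and f the p-block of C_G(Q) with (Q, f) ≤ (P, e). Let T be the stabilizer of f in N_G(Q). Then the idempotent of f is a block idempotent of T, and N_P(Q) is contained in a defect group of that block of T; moreover for some x in G the conjugate pair (x Q x⁻¹, conjugate of f) again lies below (P, e) and, with T' the stabilizer of the conjugate of f in N_G(x Q x⁻¹), N_P(x Q x⁻¹) is a defect group of the block of T' whose idempotent is that of the conjugate of f. -/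
theorem result {G : Type*} [Group G] [Fintype G] (p : ℕ) [Fact p.Prime] (M : Ideal Cfsg.AlgInt) (hM : Cfsg.IsPModular p M) (B : Set (Cfsg.IrrCharacter G)) (P Q : Subgroup G) (e : Set (Cfsg.IrrCharacter (Subgroup.centralizer (P : Set G)))) (f : Set (Cfsg.IrrCharacter (Subgroup.centralizer (Q : Set G)))) (hmax : Cfsg.IsMaximalBrauerPair p M B P e) (hQP : Q ≤ P) (hf : Cfsg.IsPBlock M f) (hle : Cfsg.SubpairLE p M Q f P e) (T : Subgroup G) (hT : ∀ y : G, y ∈ T ↔ y ∈ Subgroup.normalizer (Q : Set G) ∧ Cfsg.StabilizesBlock (Subgroup.centralizer (Q : Set G)) f y) : (∃ F : Set (Cfsg.IrrCharacter T), Cfsg.IsPBlock M F ∧ (∀ t : T, Cfsg.blockCoeff F t = Cfsg.subgroupBlockCoeff (Subgroup.centralizer (Q : Set G)) f (t : G)) ∧ ∃ D : Subgroup T, Cfsg.IsDefectGroup p M F D ∧ (P ⊓ Subgroup.normalizer (Q : Set G)).subgroupOf T ≤ D) ∧ ∃ x : G, Cfsg.SubpairLE p M (Q.map (MulAut.conj x).toMonoidHom) (Cfsg.conjBlock Q x f) P e ∧ ∀ (T' : Subgroup G), (∀ y :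 G, y ∈ T' ↔ y ∈ Subgroup.normalizer ((Q.map (MulAut.conj x).toMonoidHom) : Set G) ∧ Cfsg.StabilizesBlock (Subgroup.centralizer ((Q.map (MulAut.conj x).toMonoidHom) : Set G)) (Cfsg.conjBlock Q x f) y) → ∃ F' : Set (Cfsg.IrrCharacter T'), Cfsg.IsPBlock M F' ∧ (∀ t : T', Cfsg.blockCoeff F' t = Cfsg.subgroupBlockCoeff (Subgroup.centralizer ((Q.map (MulAut.conj x).toMonoidHom) : Set G)) (Cfsg.conjBlock Q x f) (t : G)) ∧ Cfsg.IsDefectGroup p M F' ((P ⊓ Subgroup.normalizer ((Q.map (MulAut.conj x).toMonoidHom) : Set G)).subgroupOf T') := by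
  haveI := CfsgLib.Block.isPrime_of_isPModular hM
  haveI := CfsgLib.Block.charP_residue hM
  obtain ⟨hPe, hB, hmaxP⟩ := (CfsgLib.BrauerPairs.isMaximalBrauerPair_iff hM).mp hmax
  obtain ⟨hQf, hple⟩ := (CfsgLib.BrauerPairs.subpairLE_iff hM hPe).mp hle
  have hP := CfsgLib.BrauerPairs.isPair_toPair hM hPe
  have hblk := CfsgLib.BrauerPairs.isBlk_idemIn hM hf
  obtain ⟨hQT, hCT, hTN, hfix⟩ := CfsgLib.BrauerPairs.stabilizer_props hM hf hQf.1 hT
  constructor
  · have hblkT := CfsgLib.BrauerPairs.IsBlk.of_stable hQf.1 hQT hTN hCT hblk hfix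
    obtain ⟨F, hF, hco, hid⟩ := CfsgLib.BrauerPairs.exists_block_of_stable hM hCT hf
      (fun t ht => ((hT t).mp ht).2) hblkT
    have hPN : P ⊓ Subgroup.normalizer (Q : Set G) ≤ T := fun y hy => (hT y).mpr
      ⟨hy.2, (CfsgLib.BrauerPairs.stabilizesBlock_iff hM hf).mpr
        ⟨CfsgLib.BrauerPairs.map_normalizer_centralizer hy.2,
          CfsgLib.BrauerPairs.fixBy_inf_normalizer hP hple y hy⟩⟩
    obtain ⟨D, hD, hle'⟩ := CfsgLib.BrauerPairs.exists_isDefMax_ge hblkT le_rfl Subgroup.le_normalizer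
      (R := P ⊓ Subgroup.normalizer (Q : Set G)) (hPe.1.to_le inf_le_left) hPN
      (CfsgLib.BrauerPairs.br_inf_ne_zero hP hple le_rfl)
    refine ⟨F, hF, hco, D.subgroupOf T, ?_, Subgroup.comap_mono hle'⟩
    rw [CfsgLib.BrauerPairs.isDefectGroup_sub_iff_of_le hM _ hF hD.2.1, hid]
    exact hD
  · obtain ⟨x, hx, hdef⟩ := CfsgLib.BrauerPairs.exists_conj_isDefMax
      (CfsgLib.BrauerPairs.isBlk_idem hM hB) hmaxP hple hCT hTN hfix
    have hQ' := CfsgLib.BrauerPairs.isBrauerPair_conjBlock hQf x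
    rw [show (Q, CfsgLib.BrauerPairs.idemIn M _ f) = CfsgLib.BrauerPairs.toPair M Q f from rfl,
      CfsgLib.BrauerPairs.cjPair_toPair] at hx
    refine ⟨x, (CfsgLib.BrauerPairs.subpairLE_iff hM hPe).mpr ⟨hQ', hx⟩, fun T' hT' => ?_⟩
    obtain ⟨hQT', hCT', hTN', hfix'⟩ := CfsgLib.BrauerPairs.stabilizer_props hM hQ'.2 hQ'.1 hT'
    have heqT : T' = T.map (MulAut.conj x).toMonoidHom := by
      ext y
      rw [hT', CfsgLib.BrauerPairs.mem_map_stabilizer_iff hM hf hT]
    obtain ⟨F', hF', hco', hid'⟩ := CfsgLib.BrauerPairs.exists_block_of_stable hM hCT' hQ'.2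
      (fun t ht => ((hT' t).mp ht).2)
      (CfsgLib.BrauerPairs.IsBlk.of_stable hQ'.1 hQT' hTN' hCT'
        (CfsgLib.BrauerPairs.isBlk_idemIn hM hQ'.2) hfix')
    refine ⟨F', hF', hco', ?_⟩
    have hinf : P ⊓ T' = P ⊓ Subgroup.normalizer
        ((Q.map (MulAut.conj x).toMonoidHom : Subgroup G) : Set G) :=
      le_antisymm (inf_le_inf_left _ hTN') (le_inf inf_le_left fun y hy => (hT' y).mpr
        ⟨hy.2, (CfsgLib.BrauerPairs.stabilizesBlock_iff hM hQ'.2).mpr
          ⟨CfsgLib.BrauerPairs.map_normalizer_centralizer hy.2,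
            CfsgLib.BrauerPairs.fixBy_inf_normalizer hP hx y hy⟩⟩)
    rw [← hinf, CfsgLib.BrauerPairs.isDefectGroup_sub_iff_of_le hM _ hF' inf_le_right, hid',
      CfsgLib.BrauerPairs.idemIn_conjBlock, heqT]
    exact hdef

end Cfsg.Agent.S4662
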