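import Cfsg.Statements.S4664
import Cfsg.Agent.Blocks.Regular
import Cfsg.Agent.Char.Values
import Mathlib.RingTheory.RootsOfUnity.Complex
import Mathlib.FieldTheory.IntermediateField.Adjoin.Basic

set_option autoImplicit false
open Cfsg

namespace Cfsg.Agent.S4664

/-- Fix a prime p and a maximal ideal M of the algebraic integers containing p, and let B be a p-block of the finite group G. Let m be the p'-part of the order of G and η = exp(2πi/m). Then every coefficient of the idempotent of B lies in the cyclotomic field ℚ(η). -/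
theorem result {G : Type*} [Group G] [Fintype G] (p : ℕ) [Fact p.Prime] (M : Ideal Cfsg.AlgInt) (hM : Cfsg.IsPModular p M) (B : Set (Cfsg.IrrCharacter G)) (hB : Cfsg.IsPBlock M B) (g : G) : Cfsg.blockCoeff B g ∈ IntermediateField.adjoin ℚ ({Complex.exp (2 * Real.pi * Complex.I / ((Nat.card G / p ^ (Nat.card G).factorization p : ℕ) : ℂ))} : Set ℂ) := by
  classical
  haveI := CfsgLib.Block.isPrime_of_isPModular hM
  letI := CfsgLib.Block.Chr.irrFintype (G := G)
  set m := Nat.card G / p ^ (Nat.card G).factorization p with hm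
  set K := IntermediateField.adjoin ℚ
    ({Complex.exp (2 * Real.pi * Complex.I / (m : ℂ))} : Set ℂ) with hK
  by_cases hg : p ∣ orderOf g
  · rw [CfsgLib.Block.blockCoeff_eq_zero_of_singular hM hB hg]; exact K.zero_mem
  have hm0 : m ≠ 0 := (Nat.ordCompl_pos p Nat.card_pos.ne').ne'
  have hprim := Complex.isPrimitiveRoot_exp m hm0
  have hdvd : orderOf g ∣ m :=
    (Nat.Coprime.pow_right _ ((Fact.out : p.Prime).coprime_iff_not_dvd.2 hg).symm).dvd_of_dvd_mul_left
      (by rw [hm, Nat.ordProj_mul_ordCompl_eq_self]; exact orderOf_dvd_natCard g)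
  have hroot : ∀ z : ℂ, z ^ m = 1 → z ∈ K := by
    intro z hz
    haveI : NeZero m := ⟨hm0⟩
    obtain ⟨i, -, rfl⟩ := hprim.eq_pow_of_pow_eq_one hz
    exact pow_mem (show Complex.exp (2 * Real.pi * Complex.I / (m : ℂ)) ∈ K from IntermediateField.mem_adjoin_simple_self ℚ _) i
  have hinv : ∀ ψ : Cfsg.IrrCharacter G, starRingEnd ℂ ((ψ : G → ℂ) g) ∈ K := by
    intro ψ
    rw [CfsgLib.Block.Chr.conj_irr]
    obtain ⟨s, -, hs, hk⟩ := CfsgLib.Char.IsCharacter.exists_roots
      (CfsgLib.Block.Chr.isCharacter_irr ψ) g⁻¹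
    have h1 := hk 1
    simp only [pow_one, Multiset.map_id'] at h1
    rw [h1]
    refine Multiset.sum_induction (fun z => z ∈ K) s (fun a b ha hb => add_mem ha hb) K.zero_mem
      fun z hz => hroot z ?_
    obtain ⟨c, hc⟩ := hdvd
    rw [hc, pow_mul, ← orderOf_inv g, hs z hz, one_pow]
  rw [CfsgLib.Block.blockCoeff_eq_sum]
  refine mul_mem (inv_mem (natCast_mem K _)) (sum_mem fun ψ _ => mul_mem ?_ (hinv ψ))
  rw [(CfsgLib.Block.Chr.irr_one ψ).1]
  exact natCast_mem K _

end Cfsg.Agent.S4664
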