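import Cfsg.Statements.S4665
import Cfsg.Agent.BlocksB.RegRank
import Cfsg.Agent.Char.Generalized

set_option autoImplicit false
open Cfsg

namespace Cfsg.Agent.S4665

/-- Fix a prime p, a maximal ideal M of the algebraic integers containing p, and a p-block B of the finite group G, and let p^a be the p-part of the order of G. Let χ be an integer combination of the irreducible characters in B. If the function that agrees with χ on p-regular elements and vanishes on p-singular elements is again an integer combination of the irreducible characters in B, then p^a divides χ(1). -/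
theorem result {G : Type*} [Group G] [Fintype G] (p : ℕ) [Fact p.Prime] (M : Ideal Cfsg.AlgInt) (hM : Cfsg.IsPModular p M) (B : Set (Cfsg.IrrCharacter G)) (hB : Cfsg.IsPBlock M B) (χ : G → ℂ) (hχ : (∃ n : Cfsg.IrrCharacter G → ℤ, ∀ g : G, χ g = ∑ᶠ ψ ∈ B, (n ψ : ℂ) * (ψ : G → ℂ) g)) (h0 : (∃ n : Cfsg.IrrCharacter G → ℤ, ∀ g : G, Cfsg.pRegularPart p χ g = ∑ᶠ ψ ∈ B, (n ψ : ℂ) * (ψ : G → ℂ) g)) : ∃ k : ℤ, χ 1 = (p ^ (Nat.card G).factorization p : ℂ) * k := by
  classical
  letI := CfsgLib.Block.Chr.irrFintype (G := G)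
  obtain ⟨n, hn⟩ := h0
  set f := Cfsg.pRegularPart p χ with hf
  have hgen : Cfsg.IsGeneralizedCharacter G f := by
    have heq : f = ∑ ψ ∈ (Finset.univ.filter (· ∈ B) : Finset (Cfsg.IrrCharacter G)),
        (n ψ : ℂ) • (ψ : G → ℂ) := by
      funext g
      rw [hn g, finsum_mem_eq_sum_of_inter_support_eq (t := Finset.univ.filter (· ∈ B)) _
        (by ext; simp), Finset.sum_apply]
      rfl
    rw [heq]
    exact CfsgLib.Char.isGeneralized_sum _ fun ψ _ =>
      CfsgLib.Char.IsGeneralized.intCast_smul (CfsgLib.Char.IsIrrCharacter.isGeneralized ψ.2) _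
  obtain ⟨P⟩ := (inferInstance : Nonempty (Sylow p G))
  haveI := Fintype.ofFinite ((P : Subgroup G))
  obtain ⟨k, hk⟩ := CfsgLib.Char.IsGeneralized.exists_classInner_eq_int
    (CfsgLib.Char.IsGeneralized.restrict hgen (P : Subgroup G))
    (CfsgLib.Char.isGeneralized_one (G := ↥(P : Subgroup G)))
  have h1 : ∀ g : G, ¬ Cfsg.IsPRegular p g → f g = 0 := fun g hg => by
    rw [hf, Cfsg.pRegularPart, if_neg hg]
  have h2 : f 1 = χ 1 := by
    rw [hf, Cfsg.pRegularPart, if_pos (show Cfsg.IsPRegular p (1 : G) by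
      rw [Cfsg.IsPRegular, orderOf_one]; exact (Fact.out : p.Prime).not_dvd_one)]
  refine ⟨k, ?_⟩
  rw [Cfsg.classInner, Finset.sum_eq_single (1 : (P : Subgroup G))] at hk
  · simp only [map_one, mul_one, OneMemClass.coe_one, h2] at hk
    rw [inv_mul_eq_iff_eq_mul₀ (Nat.cast_ne_zero.2 Nat.card_pos.ne'), P.card_eq_multiplicity,
      Nat.cast_pow] at hk
    exact hk
  · intro x _ hx
    rw [h1 x fun hreg => hx ?_, zero_mul]
    obtain ⟨j, hj⟩ := IsPGroup.iff_orderOf.mp P.isPGroup' x
    rw [← orderOf_eq_one_iff, hj]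
    rcases j with _ | j
    · exact pow_zero p
    · exact absurd (by rw [Subgroup.orderOf_coe, hj]; exact dvd_pow_self p (Nat.succ_ne_zero j)) hreg
  · simp

end Cfsg.Agent.S4665
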