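import Cfsg.Statements.S4670
import Cfsg.Agent.BrauerPairs.LocalBridge
import Cfsg.Agent.BrauerPairs.FirstMain

set_option autoImplicit false
open Cfsg

namespace Cfsg.Agent.S4670

/-- Fix a prime p and a maximal ideal M of the algebraic integers containing p. Let P be a p-subgroup of the finite group G and H a subgroup containing N_G(P). For every p-block B of G with defect group P there is exactly one p-block c of H with defect group P whose idempotent agrees with that of B, modulo the local ideal at M, at every element of C_G(P) (their Brauer-map images at P coincide); and every p-block c of H with defect group P arises in this way from exactly one such B. This is the Brauer correspondence over H. -/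
theorem result {G : Type*} [Group G] [Fintype G] (p : ℕ) [Fact p.Prime] (M : Ideal Cfsg.AlgInt) (hM : Cfsg.IsPModular p M) (P H : Subgroup G) (hP : IsPGroup p P) (hH : Subgroup.normalizer (P : Set G) ≤ H) : (∀ B : Set (Cfsg.IrrCharacter G), Cfsg.IsPBlock M B → Cfsg.IsDefectGroup p M B P → ∃! c : Set (Cfsg.IrrCharacter H), Cfsg.IsPBlock M c ∧ Cfsg.IsDefectGroup p M c (P.subgroupOf H) ∧ ∀ x : G, x ∈ Subgroup.centralizer (P : Set G) → Cfsg.MemLocalIdeal M (Cfsg.blockCoeff B x - Cfsg.subgroupBlockCoeff H c x)) ∧ (∀ c : Set (Cfsg.IrrCharacter H), Cfsg.IsPBlock M c → Cfsg.IsDefectGroup p M c (P.subgroupOf H) → ∃! B : Set (Cfsg.IrrCharacter G), Cfsg.IsPBlock M B ∧ Cfsg.IsDefectGroup p M B P ∧ ∀ x : G, x ∈ Subgroup.centralizer (P : Set G) → Cfsg.MemLocalIdeal M (Cfsg.blockCoeff B x - Cfsg.subgroupBlockCoeff H c x)) := by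
  haveI := CfsgLib.Block.isPrime_of_isPModular hM
  haveI := CfsgLib.Block.charP_residue hM
  classical
  have hPH : P ≤ H := Subgroup.le_normalizer.trans hH
  have hPN : Subgroup.normalizer (P : Set G) ≤ (⊤ : Subgroup G) := le_top
  -- translation of the defect conditions
  have hdefc : ∀ c : Set (Cfsg.IrrCharacter H), Cfsg.IsPBlock M c →
      (Cfsg.IsDefectGroup p M c (P.subgroupOf H) ↔
        CfsgLib.BrauerPairs.IsDefect p H H (CfsgLib.BrauerPairs.idemIn M H c) P) := by
    intro c hc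
    rw [CfsgLib.BrauerPairs.isDefectGroup_sub_iff_of_le hM H hc hPH,
      CfsgLib.BrauerPairs.isDefect_iff_isDefMax (CfsgLib.BrauerPairs.isBlk_idemIn hM hc) le_rfl
        Subgroup.le_normalizer]
  have hcong : ∀ B : Set (Cfsg.IrrCharacter G), Cfsg.IsPBlock M B →
      ∀ c : Set (Cfsg.IrrCharacter H), Cfsg.IsPBlock M c →
      ((∀ x : G, x ∈ Subgroup.centralizer (P : Set G) →
          Cfsg.MemLocalIdeal M (Cfsg.blockCoeff B x - Cfsg.subgroupBlockCoeff H c x)) ↔
        CfsgLib.BrauerPairs.br P (CfsgLib.BrauerPairs.idem M B) =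
          CfsgLib.BrauerPairs.br P (CfsgLib.BrauerPairs.idemIn M H c)) := by
    intro B hB c hc
    have key : ∀ x, CfsgLib.BrauerPairs.red M (Cfsg.blockCoeff B x) =
        CfsgLib.BrauerPairs.red M (Cfsg.subgroupBlockCoeff H c x) ↔
        Cfsg.MemLocalIdeal M (Cfsg.blockCoeff B x - Cfsg.subgroupBlockCoeff H c x) := fun x =>
      CfsgLib.BrauerPairs.red_eq_iff (CfsgLib.Block.blockCoeff_mem hB x)
        (CfsgLib.BrauerPairs.memLocalRing_subgroupBlockCoeff hc x)
    constructor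
    · intro h
      refine CfsgLib.BrauerPairs.coeff_ext fun x => ?_
      rw [CfsgLib.BrauerPairs.coeff_br, CfsgLib.BrauerPairs.coeff_br]
      split_ifs with hx
      · rw [CfsgLib.BrauerPairs.idem, CfsgLib.BrauerPairs.coeff_redFun,
          CfsgLib.BrauerPairs.coeff_idemIn, key]
        exact h x hx
      · rfl
    · intro h x hx
      rw [← key]
      have := congrArg (fun a => a.coeff x) h
      simpa [CfsgLib.BrauerPairs.coeff_br_of_mem _ hx, CfsgLib.BrauerPairs.idem] using this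
  refine ⟨fun B hB hd => ?_, fun c hc hd => ?_⟩
  · obtain ⟨h1, h2⟩ := CfsgLib.BrauerPairs.br_isPrimIdem hPN
      (CfsgLib.BrauerPairs.isBlk_idem hM hB) ((CfsgLib.BrauerPairs.isDefectGroup_iff hM hB).mp hd)
    obtain ⟨f, ⟨hf1, hf2, hf3⟩, hu⟩ := CfsgLib.BrauerPairs.existsUnique_of_prim hH h1 h2
    obtain ⟨c, hc, rfl⟩ := CfsgLib.BrauerPairs.exists_idemIn_eq hM hf1
    refine ⟨c, ⟨hc, (hdefc c hc).mpr hf2, (hcong B hB c hc).mpr hf3.symm⟩, ?_⟩
    rintro c' ⟨hc', hd', hx⟩
    exact CfsgLib.BrauerPairs.idemIn_injective hc' hc (hu _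
      ⟨CfsgLib.BrauerPairs.isBlk_idemIn hM hc', (hdefc c' hc').mp hd',
        ((hcong B hB c' hc').mp hx).symm⟩)
  · obtain ⟨h1, h2⟩ := CfsgLib.BrauerPairs.br_isPrimIdem hH
      (CfsgLib.BrauerPairs.isBlk_idemIn hM hc) ((hdefc c hc).mp hd)
    obtain ⟨f, ⟨hf1, hf2, hf3⟩, hu⟩ := CfsgLib.BrauerPairs.existsUnique_of_prim hPN h1 h2
    obtain ⟨B, hB, rfl⟩ := CfsgLib.BrauerPairs.exists_idem_eq hM hf1
    refine ⟨B, ⟨hB, (CfsgLib.BrauerPairs.isDefectGroup_iff hM hB).mpr hf2,
      (hcong B hB c hc).mpr hf3⟩, ?_⟩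
    rintro B' ⟨hB', hd', hx⟩
    exact CfsgLib.BrauerPairs.idem_injective hB' hB (hu _
      ⟨CfsgLib.BrauerPairs.isBlk_idem hM hB', (CfsgLib.BrauerPairs.isDefectGroup_iff hM hB').mp hd',
        (hcong B' hB' c hc).mp hx⟩)

end Cfsg.Agent.S4670
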