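import Cfsg.Statements.S4671
import Cfsg.Agent.BlocksB.NormalCoverBlocks

set_option autoImplicit false
open Cfsg

namespace Cfsg.Agent.S4671

/-- Fix a prime p and a maximal ideal M of the algebraic integers containing p. Let N be a normal subgroup of the finite group G, B a p-block of G and P a defect group of B. Then there is a p-block c of N, stable under conjugation by P and covered by B (some member of B has a constituent in c on restriction to N), such that P ∩ N is a defect group of c. -/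
theorem result {G : Type*} [Group G] [Fintype G] (p : ℕ) [Fact p.Prime] (M : Ideal Cfsg.AlgInt) (hM : Cfsg.IsPModular p M) (N : Subgroup G) [N.Normal] [Fintype N] (B : Set (Cfsg.IrrCharacter G)) (hB : Cfsg.IsPBlock M B) (P : Subgroup G) (hP : Cfsg.IsDefectGroup p M B P) : ∃ c : Set (Cfsg.IrrCharacter N), Cfsg.IsPBlock M c ∧ (∀ x ∈ P, Cfsg.StabilizesBlock N c x) ∧ (∃ χ ∈ B, ∃ θ ∈ c, Cfsg.classInner (fun n : N => (χ : G → ℂ) n) (θ : N → ℂ) ≠ 0) ∧ Cfsg.IsDefectGroup p M c ((P ⊓ N).subgroupOf N) := by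
  classical
  haveI := hM.2.1.isPrime
  haveI := CfsgLib.Block.charP_residue hM
  have hdef := CfsgLib.BrauerPairs.isDef_of_isDefectGroup hM hB hP
  obtain ⟨d, hd, hfix, hne, hbr⟩ :=
    CfsgLib.BlockB.exists_fixed_covered (N := N) hM hB hdef.1 hdef.2.2.2
  refine ⟨d, hd, fun x hx => ?_, CfsgLib.BlockB.covered_of_mul_ne_zero hM hB hd hne, ?_⟩
  · exact (CfsgLib.BrauerPairs.stabilizesBlock_iff hM hd).2
      ⟨by rw [Subgroup.normalizer_eq_top]; trivial, hfix x hx⟩
  · refine (CfsgLib.BrauerPairs.isDefectGroup_sub_iff_of_le hM N hd inf_le_right).2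
      ⟨hdef.1.to_le inf_le_left, inf_le_right, fun h => hbr ?_, fun Q hQ hQN hbrQ => ?_⟩
    · rw [← CfsgLib.BrauerPairs.br_br_of_le (inf_le_left : P ⊓ N ≤ P), h, map_zero]
    · obtain ⟨x, -, hx⟩ := hdef.exists_conj_le hQ le_top
        (CfsgLib.BlockB.br_idem_ne_zero_of_covered hM hB
          (CfsgLib.BrauerPairs.isBlk_idemIn hM hd) hne hQ hQN hbrQ)
      rw [← Subgroup.card_map_of_injective (K := Q) (f := (MulAut.conj x).toMonoidHom)
        (MulEquiv.injective _)]
      refine Subgroup.card_le_of_le (le_inf hx ?_)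
      rintro _ ⟨q, hq, rfl⟩
      exact Subgroup.Normal.conj_mem ‹_› q (hQN hq) x

end Cfsg.Agent.S4671
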