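import Cfsg.Statements.S4672
import Cfsg.Agent.BlocksB.NormalCoverBlocks

set_option autoImplicit false
open Cfsg

namespace Cfsg.Agent.S4672

/-- Fix a prime p and a maximal ideal M of the algebraic integers containing p. Let N be a normal subgroup of the finite group G of p-power index and c a p-block of N stable under conjugation by G. Then the idempotent of c is a block idempotent of G: there is a p-block B of G whose idempotent coefficients agree with those of c on N and vanish off N; and for every defect group P of such a block B, G = NP and P ∩ N is a defect group of c. -/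
theorem result {G : Type*} [Group G] [Fintype G] (p : ℕ) [Fact p.Prime] (M : Ideal Cfsg.AlgInt) (hM : Cfsg.IsPModular p M) (N : Subgroup G) [N.Normal] (hN : ∃ k : ℕ, N.index = p ^ k) (c : Set (Cfsg.IrrCharacter N)) (hc : Cfsg.IsPBlock M c) (hst : ∀ x : G, Cfsg.StabilizesBlock N c x) : (∃ B : Set (Cfsg.IrrCharacter G), Cfsg.IsPBlock M B ∧ ∀ g : G, Cfsg.blockCoeff B g = Cfsg.subgroupBlockCoeff N c g) ∧ ∀ B : Set (Cfsg.IrrCharacter G), Cfsg.IsPBlock M B → (∀ g : G, Cfsg.blockCoeff B g = Cfsg.subgroupBlockCoeff N c g) → ∀ P : Subgroup G, Cfsg.IsDefectGroup p M B P → N ⊔ P = ⊤ ∧ Cfsg.IsDefectGroup p M c ((P ⊓ N).subgroupOf N) := by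
  classical
  haveI := hM.2.1.isPrime
  haveI := CfsgLib.Block.charP_residue hM
  haveI := Fintype.ofFinite N
  obtain ⟨j, hj⟩ := hN
  have hblk := CfsgLib.BrauerPairs.isBlk_idemIn hM hc
  have hfix : CfsgLib.BrauerPairs.FixBy (⊤ : Subgroup G) (CfsgLib.BrauerPairs.idemIn M N c) :=
    fun x _ => ((CfsgLib.BrauerPairs.stabilizesBlock_iff hM hc).1 (hst x)).2
  set e := CfsgLib.BrauerPairs.idemIn M N c with he
  have hsupp : ∀ f ∈ CfsgLib.BrauerPairs.alg (CfsgLib.Block.Residue M) (⊤ : Subgroup G) ⊤,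
      f * f = f → CfsgLib.BrauerPairs.SuppIn N f := fun f hf hff => by
    haveI : (N.subgroupOf (⊤ : Subgroup G)).Normal := Subgroup.Normal.subgroupOf ‹_› _
    refine CfsgLib.BlockB.suppIn_of_idem_ppower hM (j := j) ?_ hf hff
    exact (show (N.subgroupOf ⊤).index = N.relIndex ⊤ from rfl).trans
      ((Subgroup.relIndex_top_right N).trans hj)
  have hblkG : CfsgLib.BrauerPairs.IsBlk (CfsgLib.Block.Residue M) (⊤ : Subgroup G) e :=
    ⟨⟨CfsgLib.BrauerPairs.suppIn_top _, hfix⟩, hblk.ne_zero, hblk.idem, fun f hf hff =>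
      hblk.mul_eq_zero_or ⟨hsupp f hf hff, hf.2.mono le_top⟩ hff⟩
  obtain ⟨B, hB, hBe⟩ := CfsgLib.BrauerPairs.exists_idem_eq hM hblkG
  have hcoef : ∀ g : G, blockCoeff B g = subgroupBlockCoeff N c g := by
    let θ : G → ℂ := fun g => subgroupBlockCoeff N c g
    suffices θ = blockCoeff B from fun g => (congrFun this g).symm
    have hcl : IsClassFunction G θ := by
      intro g x
      obtain ⟨hN', hs⟩ := hst x
      have hH := CfsgLib.BrauerPairs.mem_normalizer_iff_conjEquiv.mp hN'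
      obtain ⟨χ, hχ⟩ := CfsgLib.Block.exists_mem_block hc
      obtain ⟨χ', hχ', hcc⟩ := hs χ hχ
      rw [CfsgLib.BrauerPairs.isConjCharOf_iff hH] at hcc
      subst hcc
      have hmap : CfsgLib.BrauerPairs.mapSet (CfsgLib.BrauerPairs.conjEquiv hH) c = c :=
        CfsgLib.Block.block_eq_of_common (CfsgLib.BrauerPairs.isPBlock_mapSet _ hc) hc
          ⟨χ, hχ, rfl⟩ hχ'
      have h1 := CfsgLib.BrauerPairs.subgroupBlockCoeff_conj hH c (x * g * x⁻¹)
      rw [hmap, show x⁻¹ * (x * g * x⁻¹) * x = g by group] at h1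
      exact h1
    refine CfsgLib.BrauerPairs.eq_blockCoeff_of_idem hB
      ⟨hcl, fun g => CfsgLib.BrauerPairs.memLocalRing_subgroupBlockCoeff hc g⟩ ?_ ?_
    · funext x
      show ∑ g : G, θ g * θ (g⁻¹ * x) = θ x
      rw [CfsgLib.Block.sum_eq_sum_subgroup N _ fun g hg => by
        simp only [θ, CfsgLib.BrauerPairs.subgroupBlockCoeff_not_mem c hg, zero_mul]]
      by_cases hx : x ∈ N
      · obtain ⟨y, rfl⟩ : ∃ y : N, (y : G) = x := ⟨⟨x, hx⟩, rfl⟩
        have h1 := congrFun (CfsgLib.Block.conv_blockCoeff_self c) y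
        simp only [θ, ← Subgroup.coe_inv, ← Subgroup.coe_mul,
          CfsgLib.BrauerPairs.subgroupBlockCoeff_coe]
        exact h1
      · rw [show θ x = 0 from CfsgLib.BrauerPairs.subgroupBlockCoeff_not_mem c hx]
        refine Finset.sum_eq_zero fun g _ => mul_eq_zero_of_right _ ?_
        refine CfsgLib.BrauerPairs.subgroupBlockCoeff_not_mem c fun h => hx ?_
        simpa using N.mul_mem g.2 h
    · rw [hBe]
      exact CfsgLib.BrauerPairs.coeff_ext fun g => by
        simp [θ, he]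
  refine ⟨⟨B, hB, hcoef⟩, fun B' hB' hcoef' P hP => ?_⟩
  have hidem : CfsgLib.BrauerPairs.idem M B' = e :=
    CfsgLib.BrauerPairs.coeff_ext fun g => by
      simp [CfsgLib.BrauerPairs.idem, he, hcoef' g]
  have hdef := CfsgLib.BrauerPairs.isDef_of_isDefectGroup hM hB' hP
  rw [hidem] at hdef
  obtain ⟨hPp, -, ⟨a, ha, hea⟩, hbrP⟩ := hdef
  refine ⟨?_, ?_⟩
  · -- truncate the trace to `N`
    let a' := CfsgLib.BrauerPairs.ofFun fun g : G => if g ∈ N then a.coeff g else 0
    have ha'N : CfsgLib.BrauerPairs.SuppIn N a' := fun g hg => by simp [a', hg]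
    have ha'P : CfsgLib.BrauerPairs.FixBy P a' :=
      CfsgLib.BrauerPairs.fixBy_of_coeff fun t ht g => by
        have h1 : t⁻¹ * g * t ∈ N ↔ g ∈ N :=
          ⟨fun h => by simpa [mul_assoc] using Subgroup.Normal.conj_mem ‹_› _ h t,
            fun h => by simpa using Subgroup.Normal.conj_mem ‹_› _ h t⁻¹⟩
        simp [a', h1, ha.2.coeff_eq ht g]
    have hea' : e = CfsgLib.BrauerPairs.tr P ⊤ a' := by
      haveI : Fintype ((⊤ : Subgroup G) ⧸ P.subgroupOf ⊤) := Fintype.ofFinite _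
      refine CfsgLib.BrauerPairs.coeff_ext fun g => ?_
      rw [CfsgLib.BrauerPairs.tr_apply, MonoidAlgebra.coeff_sum, Finsupp.finsetSum_apply]
      by_cases hg : g ∈ N
      · conv_lhs => rw [hea, CfsgLib.BrauerPairs.tr_apply, MonoidAlgebra.coeff_sum,
          Finsupp.finsetSum_apply]
        refine Finset.sum_congr rfl fun q _ => ?_
        rw [CfsgLib.BrauerPairs.coeff_cj, CfsgLib.BrauerPairs.coeff_cj]
        have h1 : ((q.out : (⊤ : Subgroup G)) : G)⁻¹ * g * ((q.out : (⊤ : Subgroup G)) : G) ∈ N := by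
          simpa using Subgroup.Normal.conj_mem ‹_› g hg ((q.out : (⊤ : Subgroup G)) : G)⁻¹
        simp [a', h1]
      · rw [hblk.suppIn g hg]
        refine (Finset.sum_eq_zero fun q _ => ?_).symm
        rw [CfsgLib.BrauerPairs.coeff_cj]
        refine ha'N _ fun h => hg ?_
        simpa [mul_assoc] using Subgroup.Normal.conj_mem ‹_› _ h ((q.out : (⊤ : Subgroup G)) : G)
    have hD : CfsgLib.BrauerPairs.IsDefect p N ⊤ e P :=
      ⟨hPp, le_top, ⟨a', ⟨ha'N, ha'P⟩, hea'⟩, hbrP⟩
    have hnd := CfsgLib.BrauerPairs.not_dvd_relIndex hblk hfix le_top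
      (by rw [Subgroup.normalizer_eq_top]) (CfsgLib.BrauerPairs.isSplit_of_isBlk hM N hblk) hD
    rw [Subgroup.relIndex_top_right] at hnd
    obtain ⟨i, -, hi⟩ := (Nat.dvd_prime_pow Fact.out).1
      (hj ▸ Subgroup.index_dvd_of_le (le_sup_right : N ≤ P ⊔ N))
    rcases i with _ | i
    · rw [sup_comm, ← Subgroup.index_eq_one, hi, pow_zero]
    · exact absurd (hi ▸ dvd_pow_self p i.succ_ne_zero) hnd
  · refine (CfsgLib.BrauerPairs.isDefectGroup_sub_iff_of_le hM N hc inf_le_right).2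
      ⟨hPp.to_le inf_le_left, inf_le_right, fun h => hbrP ?_, fun Q hQ hQN hbrQ => ?_⟩
    · rw [← CfsgLib.BrauerPairs.br_br_of_le (inf_le_left : P ⊓ N ≤ P), he, h, map_zero]
    · obtain ⟨x, -, hx⟩ :=
        (show CfsgLib.BrauerPairs.IsDef p e P from
          ⟨hPp, le_top, ⟨a, ha, hea⟩, hbrP⟩).exists_conj_le hQ le_top hbrQ
      rw [← Subgroup.card_map_of_injective (K := Q) (f := (MulAut.conj x).toMonoidHom)
        (MulEquiv.injective _)]
      refine Subgroup.card_le_of_le (le_inf hx ?_)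
      rintro _ ⟨q, hq, rfl⟩
      exact Subgroup.Normal.conj_mem ‹_› q (hQN hq) x

end Cfsg.Agent.S4672
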