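import Cfsg.Statements.S4673
import Cfsg.Agent.BlocksB.NormalCoverBlocks

set_option autoImplicit false
open Cfsg

namespace Cfsg.Agent.S4673

/-- Fix a prime p and a maximal ideal M of the algebraic integers containing p. Let N ≤ L be normal subgroups of the finite group G with L/N a p-group, let B be a p-block of G covering the p-block c of N (some member of B has a constituent in c on restriction to N), and suppose that N contains a defect group of B. Then the stabilizer T of c in G satisfies T ∩ L = N. -/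
theorem result {G : Type*} [Group G] [Fintype G] (p : ℕ) [Fact p.Prime] (M : Ideal Cfsg.AlgInt) (hM : Cfsg.IsPModular p M) (N L : Subgroup G) [N.Normal] [L.Normal] [Fintype N] (hNL : N ≤ L) (hLN : ∃ k : ℕ, (N.subgroupOf L).index = p ^ k) (B : Set (Cfsg.IrrCharacter G)) (hB : Cfsg.IsPBlock M B) (c : Set (Cfsg.IrrCharacter N)) (hc : Cfsg.IsPBlock M c) (hcov : (∃ χ ∈ B, ∃ θ ∈ c, Cfsg.classInner (fun n : N => (χ : G → ℂ) n) (θ : N → ℂ) ≠ 0)) (hD : ∃ D : Subgroup G, Cfsg.IsDefectGroup p M B D ∧ D ≤ N) (T : Subgroup G) (hT : ∀ x : G, x ∈ T ↔ Cfsg.StabilizesBlock N c x) : T ⊓ L = N := by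
  classical
  haveI := hM.2.1.isPrime
  haveI := CfsgLib.Block.charP_residue hM
  obtain ⟨χ, hχ, θ, hθ, hcov'⟩ := hcov
  obtain ⟨D, hD, hDN⟩ := hD
  obtain ⟨j, hj⟩ := hLN
  have hblk := CfsgLib.BrauerPairs.isBlk_idemIn hM hc
  have hne := CfsgLib.BlockB.mul_idemIn_ne_zero_of_covered hM hB hc hχ hθ hcov'
  set e := CfsgLib.BrauerPairs.idemIn M N c with he
  have hNtop : ∀ x : G, x ∈ Subgroup.normalizer (N : Set G) := fun x => by
    rw [Subgroup.normalizer_eq_top]; trivial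
  have hTfix : CfsgLib.BrauerPairs.FixBy T e := fun x hx =>
    ((CfsgLib.BrauerPairs.stabilizesBlock_iff hM hc).1 ((hT x).1 hx)).2
  have hNT : N ≤ T := fun x hx => (hT x).2
    ((CfsgLib.BrauerPairs.stabilizesBlock_iff hM hc).2 ⟨hNtop x, hblk.fixBy x hx⟩)
  refine le_antisymm ?_ (le_inf hNT hNL)
  set L' := T ⊓ L with hL'
  have hNL' : N ≤ L' := le_inf hNT hNL
  have hL'N : L' ≤ Subgroup.normalizer (N : Set G) := fun x _ => hNtop x
  have hfix' : CfsgLib.BrauerPairs.FixBy L' e := hTfix.mono inf_le_left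
  obtain ⟨R, hR⟩ := CfsgLib.BrauerPairs.exists_isDefect (p := p) (hblk.prim hNL' hfix') hNL' hL'N
  have hnd := CfsgLib.BrauerPairs.not_dvd_relIndex hblk hfix' hNL' hL'N
    (CfsgLib.BrauerPairs.isSplit_of_isBlk hM N hblk) hR
  -- the orbit sum under `L`
  haveI : (N.subgroupOf L).Normal := Subgroup.Normal.subgroupOf ‹_› _
  have hS := CfsgLib.BrauerPairs.alg_comm (k := CfsgLib.Block.Residue M) (le_refl N)
  set O := (Finset.univ : Finset L).image fun l : L =>
    CfsgLib.BrauerPairs.cj (CfsgLib.Block.Residue M) (l : G) e with hO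
  have hOblk : ∀ f ∈ O, CfsgLib.BrauerPairs.IsBlk (CfsgLib.Block.Residue M) N f := fun f hf => by
    obtain ⟨l, -, rfl⟩ := Finset.mem_image.1 hf
    exact hblk.cj_of_mem (hNtop _)
  have heO : e ∈ O := Finset.mem_image.2 ⟨1, Finset.mem_univ _, by simp⟩
  set s := ∑ f ∈ O, f with hs
  have hse : s * e = e := by
    rw [hs, Finset.sum_mul, Finset.sum_eq_single_of_mem e heO fun f hf hne' =>
      (hOblk f hf).mul_eq_zero_of_ne hS hblk hne', hblk.idem]
  have hsmem : s ∈ CfsgLib.BrauerPairs.alg (CfsgLib.Block.Residue M) L L := by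
    refine ⟨CfsgLib.BrauerPairs.suppIn_sum _ _ fun f hf => (hOblk f hf).suppIn.mono hNL, ?_⟩
    intro t ht
    rw [hs, map_sum]
    refine Finset.sum_bij' (fun f _ => CfsgLib.BrauerPairs.cj (CfsgLib.Block.Residue M) t f)
      (fun f _ => CfsgLib.BrauerPairs.cj (CfsgLib.Block.Residue M) t⁻¹ f) ?_ ?_
      (fun f _ => CfsgLib.BrauerPairs.cj_inv_cj t f) (fun f _ => CfsgLib.BrauerPairs.cj_cj_inv t f)
      (fun f _ => rfl)
    · intro f hf
      obtain ⟨l, -, rfl⟩ := Finset.mem_image.1 hf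
      exact Finset.mem_image.2 ⟨⟨t, ht⟩ * l, Finset.mem_univ _, by
        rw [← CfsgLib.BrauerPairs.cj_mul]; rfl⟩
    · intro f hf
      obtain ⟨l, -, rfl⟩ := Finset.mem_image.1 hf
      exact Finset.mem_image.2 ⟨⟨t, ht⟩⁻¹ * l, Finset.mem_univ _, by
        rw [← CfsgLib.BrauerPairs.cj_mul]; rfl⟩
  have hss : s * s = s := by
    conv_lhs => rw [hs]; arg 1; rw [← hs]
    rw [Finset.mul_sum]
    refine Finset.sum_congr rfl fun f hf => ?_
    rw [hs, Finset.sum_mul, Finset.sum_eq_single_of_mem f hf fun f' hf' hne' =>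
      (hOblk f' hf').mul_eq_zero_of_ne hS (hOblk f hf) hne', (hOblk f hf).idem]
  have hsblk : CfsgLib.BrauerPairs.IsBlk (CfsgLib.Block.Residue M) L s := by
    refine ⟨hsmem, fun h0 => hblk.ne_zero (by rw [← hse, h0, zero_mul]), hss, fun f hf hff => ?_⟩
    have hfN := CfsgLib.BlockB.suppIn_of_idem_ppower hM hj hf hff
    have hfmem : f ∈ CfsgLib.BrauerPairs.alg (CfsgLib.Block.Residue M) N N :=
      ⟨hfN, hf.2.mono hNL⟩
    rcases hblk.mul_eq_zero_or hfmem hff with h | h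
    · left
      rw [hs, Finset.sum_mul]
      refine Finset.sum_eq_zero fun g hg => ?_
      obtain ⟨l, -, rfl⟩ := Finset.mem_image.1 hg
      rw [← hf.2 (l : G) l.2, ← map_mul, h, map_zero]
    · right
      rw [hs, Finset.sum_mul]
      refine Finset.sum_congr rfl fun g hg => ?_
      obtain ⟨l, -, rfl⟩ := Finset.mem_image.1 hg
      rw [← hf.2 (l : G) l.2, ← map_mul, h]
  have hRL : R ≤ L := hR.2.1.trans inf_le_right
  have hbrs : CfsgLib.BrauerPairs.br R s ≠ 0 := fun h0 => hR.2.2.2 (by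
    rw [← hse, CfsgLib.BrauerPairs.br_mul hR.1 (hsmem.2.mono hRL) (hfix'.mono hR.2.1), h0,
      zero_mul])
  have hbrB := CfsgLib.BlockB.br_idem_ne_zero_of_covered hM hB hsblk
    (fun h0 => hne (by rw [← hse, ← mul_assoc, h0, zero_mul])) hR.1 hRL hbrs
  obtain ⟨x, -, hx⟩ :=
    (CfsgLib.BrauerPairs.isDef_of_isDefectGroup hM hB hD).exists_conj_le hR.1 le_top hbrB
  have hRN : R ≤ N := fun r hr => by
    have h1 := Subgroup.Normal.conj_mem (H := N) ‹_› _ (hDN (hx ⟨r, hr, rfl⟩)) x⁻¹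
    simpa [mul_assoc] using h1
  rw [sup_eq_right.2 hRN] at hnd
  have hdvd : N.relIndex L' ∣ p ^ j := by
    rw [← hj]
    exact ⟨L'.relIndex L, (Subgroup.relIndex_mul_relIndex N L' L hNL' inf_le_right).symm⟩
  obtain ⟨i, -, hi⟩ := (Nat.dvd_prime_pow Fact.out).1 hdvd
  rcases i with _ | i
  · exact Subgroup.relIndex_eq_one.1 (by rw [hi, pow_zero])
  · exact absurd (hi ▸ dvd_pow_self p i.succ_ne_zero) hnd

end Cfsg.Agent.S4673
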