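import Cfsg.Statements.S4674
import Cfsg.Agent.BlocksB.HarrisKnorr

set_option autoImplicit false
open Cfsg

namespace Cfsg.Agent.S4674

/-- Fix a prime p and a maximal ideal M of the algebraic integers containing p. Let N be a normal subgroup of the finite group G, Q a p-subgroup of N, H = N_G(Q) and L = H ∩ N = N_N(Q). Let d be a p-block of N with defect group Q and e the p-block of L with defect group Q that induces d inside N (its Brauer correspondent). Then block induction from H to G is a bijection from the p-blocks of H covering e onto the p-blocks of G covering d: every block of H covering e induces exactly one block of G, and that block covers d; and every block of G covering d is induced by exactly one block of H covering e. -/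
theorem result {G : Type*} [Group G] [Fintype G] (p : ℕ) [Fact p.Prime] (M : Ideal Cfsg.AlgInt) (hM : Cfsg.IsPModular p M) (N : Subgroup G) [N.Normal] [Fintype N] (Q : Subgroup G) (hQ : IsPGroup p Q) (hQN : Q ≤ N) [Fintype ↥(Subgroup.normalizer (Q : Set G) ⊓ N)] (d : Set (Cfsg.IrrCharacter N)) (hd : Cfsg.IsPBlock M d) (hdQ : Cfsg.IsDefectGroup p M d (Q.subgroupOf N)) (e : Set (Cfsg.IrrCharacter ↥(Subgroup.normalizer (Q : Set G) ⊓ N))) (he : Cfsg.IsPBlock M e) (heQ : Cfsg.IsDefectGroup p M e (Q.subgroupOf (Subgroup.normalizer (Q : Set G) ⊓ N))) (hed : Cfsg.IsInducedBlockIn M N (Subgroup.normalizer (Q : Set G) ⊓ N) e d) : (∀ c : Set (Cfsg.IrrCharacter ↥(Subgroup.normalizer (Q : Set G))), Cfsg.IsPBlock M c → (∃ ψ ∈ c, ∃ ξ ∈ e, Cfsg.classInner (fun l : ↥(Subgroup.normalizer (Q : Set G) ⊓ N) => (ψ : ↥(Subgroup.normalizer (Q : Set G)) → ℂ) (Subgroup.inclusion inf_le_left l)) (ξ : ↥(Subgroup.normalizer (Q : Set G) ⊓ N) → ℂ) ≠ 0) → ∃! B :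 Set (Cfsg.IrrCharacter G), Cfsg.IsInducedBlock M (Subgroup.normalizer (Q : Set G)) c B ∧ (∃ χ ∈ B, ∃ θ ∈ d, Cfsg.classInner (fun n : N => (χ : G → ℂ) n) (θ : N → ℂ) ≠ 0)) ∧ (∀ B : Set (Cfsg.IrrCharacter G), Cfsg.IsPBlock M B → (∃ χ ∈ B, ∃ θ ∈ d, Cfsg.classInner (fun n : N => (χ : G → ℂ) n) (θ : N → ℂ) ≠ 0) → ∃! c : Set (Cfsg.IrrCharacter ↥(Subgroup.normalizer (Q : Set G))), (Cfsg.IsPBlock M c ∧ ∃ ψ ∈ c, ∃ ξ ∈ e, Cfsg.classInner (fun l : ↥(Subgroup.normalizer (Q : Set G) ⊓ N) => (ψ : ↥(Subgroup.normalizer (Q : Set G)) → ℂ) (Subgroup.inclusion inf_le_left l)) (ξ : ↥(Subgroup.normalizer (Q : Set G) ⊓ N) → ℂ) ≠ 0) ∧ Cfsg.IsInducedBlock M (Subgroup.normalizer (Q : Set G)) c B) := by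
  classical
  haveI := hM.2.1.isPrime
  haveI := CfsgLib.Block.charP_residue hM
  haveI := Fintype.ofFinite (Subgroup.normalizer (Q : Set G))
  haveI : (((Subgroup.normalizer (Q : Set G)) ⊓ N).subgroupOf (Subgroup.normalizer (Q : Set G))).Normal := by
    refine (Subgroup.normal_subgroupOf_iff_le_normalizer inf_le_left).2 fun x hx => ?_
    rw [Subgroup.mem_normalizer_iff]
    intro w
    have h1 : w ∈ (Subgroup.normalizer (Q : Set G)) ↔ x * w * x⁻¹ ∈ (Subgroup.normalizer (Q : Set G)) :=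
      ⟨fun h => (Subgroup.normalizer (Q : Set G)).mul_mem ((Subgroup.normalizer (Q : Set G)).mul_mem hx h) ((Subgroup.normalizer (Q : Set G)).inv_mem hx), fun h => by
        simpa [mul_assoc] using (Subgroup.normalizer (Q : Set G)).mul_mem ((Subgroup.normalizer (Q : Set G)).mul_mem ((Subgroup.normalizer (Q : Set G)).inv_mem hx) h) hx⟩
    have h2 : w ∈ N ↔ x * w * x⁻¹ ∈ N :=
      ⟨fun h => Subgroup.Normal.conj_mem ‹_› _ h x,
        fun h => by simpa [mul_assoc] using Subgroup.Normal.conj_mem ‹_› _ h x⁻¹⟩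
    simp only [Subgroup.mem_inf, h1, h2]
  let k := CfsgLib.Block.Residue M
  have hQH : Q ≤ (Subgroup.normalizer (Q : Set G)) := Subgroup.le_normalizer
  have hCH : Subgroup.centralizer (Q : Set G) ≤ (Subgroup.normalizer (Q : Set G)) := CfsgLib.BrauerPairs.centralizer_le_normalizer Q
  have heQ' := (CfsgLib.BrauerPairs.isDefectGroup_sub_iff_of_le hM ((Subgroup.normalizer (Q : Set G)) ⊓ N) he
    (le_inf hQH hQN)).1 heQ
  have hdQ' := (CfsgLib.BrauerPairs.isDefectGroup_sub_iff_of_le hM N hd hQN).1 hdQ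
  have hbrd := CfsgLib.BlockB.br_idemIn_eq_of_inducedIn hM hQN hQ rfl hdQ hed
  set δ := CfsgLib.BrauerPairs.idemIn M N d
  set ε := CfsgLib.BrauerPairs.idemIn M ((Subgroup.normalizer (Q : Set G)) ⊓ N) e
  have hδ := CfsgLib.BrauerPairs.isBlk_idemIn hM hd
  have hS := CfsgLib.BrauerPairs.alg_comm (k := k) (le_refl (Subgroup.normalizer (Q : Set G)))
  have hmemB : ∀ B : Set (IrrCharacter G),
      CfsgLib.BrauerPairs.br Q (CfsgLib.BrauerPairs.idem M B) ∈ CfsgLib.BrauerPairs.alg k (Subgroup.normalizer (Q : Set G)) (Subgroup.normalizer (Q : Set G)) :=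
    fun B => ⟨(CfsgLib.BrauerPairs.suppIn_br _).mono hCH, CfsgLib.BrauerPairs.fixBy_br
      ((CfsgLib.BrauerPairs.idem_mem B).2.mono le_top) le_rfl⟩
  have hbrBδ : ∀ B : Set (IrrCharacter G),
      CfsgLib.BrauerPairs.br Q (CfsgLib.BrauerPairs.idem M B * δ) =
        CfsgLib.BrauerPairs.br Q (CfsgLib.BrauerPairs.idem M B) * ε := fun B => by
    rw [CfsgLib.BrauerPairs.br_mul hQ ((CfsgLib.BrauerPairs.idem_mem B).2.mono le_top)
      (hδ.fixBy.mono hQN), hbrd]
  constructor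
  · intro c hc hcov
    have hce := (CfsgLib.BlockB.cover_iff hM inf_le_left hc he).1 hcov
    obtain ⟨B, hB⟩ := CfsgLib.Block.exists_induced hM hQ hQH hCH le_rfl hc
    have hu := (CfsgLib.BlockB.induced_iff_br hM hQ hQH hCH le_rfl hc hB.2.1).1 hB
    refine ⟨B, ⟨hB, CfsgLib.BlockB.covered_of_mul_ne_zero hM hB.2.1 hd fun h0 => hce ?_⟩,
      fun B' hB' => ?_⟩
    · rw [← hu, hS _ (hmemB B) _ (CfsgLib.BrauerPairs.isBlk_idemIn hM hc).mem, mul_assoc,
        ← hbrBδ, h0, map_zero, mul_zero]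
    · by_contra hne
      refine (CfsgLib.BrauerPairs.isBlk_idemIn hM hc).ne_zero ?_
      have hu' := (CfsgLib.BlockB.induced_iff_br hM hQ hQH hCH le_rfl hc hB'.1.2.1).1 hB'.1
      have h0 := (CfsgLib.BrauerPairs.isBlk_idem hM hB'.1.2.1).mul_eq_zero_of_ne
        (CfsgLib.BrauerPairs.alg_comm le_rfl) (CfsgLib.BrauerPairs.isBlk_idem hM hB.2.1)
        fun h => hne (CfsgLib.BrauerPairs.idem_injective hB'.1.2.1 hB.2.1 h)
      calc CfsgLib.BrauerPairs.idemIn M (Subgroup.normalizer (Q : Set G)) c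
          = CfsgLib.BrauerPairs.br Q (CfsgLib.BrauerPairs.idem M B') *
            (CfsgLib.BrauerPairs.br Q (CfsgLib.BrauerPairs.idem M B) *
              CfsgLib.BrauerPairs.idemIn M (Subgroup.normalizer (Q : Set G)) c) := by rw [hu, hu']
        _ = 0 := by
          rw [← mul_assoc, ← CfsgLib.BrauerPairs.br_mul hQ
            ((CfsgLib.BrauerPairs.idem_mem B').2.mono le_top)
            ((CfsgLib.BrauerPairs.idem_mem B).2.mono le_top), h0, map_zero, zero_mul]
  · intro B hB hcov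
    obtain ⟨χ, hχ, θ, hθ, hcov'⟩ := hcov
    have hne := CfsgLib.BlockB.mul_idemIn_ne_zero_of_covered hM hB hd hχ hθ hcov'
    have hfB : CfsgLib.BrauerPairs.FixBy N (CfsgLib.BrauerPairs.idem M B) :=
      (CfsgLib.BrauerPairs.idem_mem B).2.mono le_top
    have hcomm : δ * CfsgLib.BrauerPairs.idem M B = CfsgLib.BrauerPairs.idem M B * δ :=
      CfsgLib.BrauerPairs.alg_commute le_rfl hδ.suppIn hfB
    have hbr0 : CfsgLib.BrauerPairs.br Q (CfsgLib.BrauerPairs.idem M B) * ε ≠ 0 := by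
      rw [← hbrBδ]
      refine CfsgLib.BlockB.br_ne_zero_of_covered hQ hQN hδ hdQ'.2.2.1
        (fun t ht => by rw [map_mul, hfB t ht, hδ.fixBy t ht]) ?_ (by rw [mul_assoc, hδ.idem]) hne
      rw [mul_assoc, ← mul_assoc δ, hcomm, mul_assoc _ δ δ, hδ.idem, ← mul_assoc,
        CfsgLib.BrauerPairs.idem_idem hB]
    obtain ⟨u, hu, hune⟩ := CfsgLib.BrauerPairs.exists_prim_mul_ne_zero hS hbr0
    rw [← mul_assoc] at hune
    have hmul : u * CfsgLib.BrauerPairs.br Q (CfsgLib.BrauerPairs.idem M B) = u :=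
      hu.mul_eq_self (hmemB B) (CfsgLib.BrauerPairs.br_idem hQ (CfsgLib.BrauerPairs.idem_idem hB)
        ((CfsgLib.BrauerPairs.idem_mem B).2.mono le_top)) (left_ne_zero_of_mul hune)
    rw [hmul] at hune
    obtain ⟨c, hc, rfl⟩ := CfsgLib.BrauerPairs.exists_idemIn_eq hM hu
    have hind := (CfsgLib.BlockB.induced_iff_br hM hQ hQH hCH le_rfl hc hB).2
      (by rw [hS _ (hmemB B) _ hu.mem]; exact hmul)
    refine ⟨c, ⟨⟨hc, (CfsgLib.BlockB.cover_iff hM inf_le_left hc he).2 hune⟩, hind⟩,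
      fun c' hc' => ?_⟩
    exact CfsgLib.BlockB.eq_of_induced_of_covering hM hQN hQ rfl rfl he heQ' hc'.2 hind
      ((CfsgLib.BlockB.cover_iff hM inf_le_left hc'.1.1 he).1 hc'.1.2) hune

end Cfsg.Agent.S4674
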