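import Cfsg.Statements.S4679
import Cfsg.Agent.BrauerPairs.FusionBridge

set_option autoImplicit false
open Cfsg

namespace Cfsg.Agent.S4679

/-- Fix a prime p and a maximal ideal M of the algebraic integers containing p, a p-block B of the finite group G with maximal Brauer pair (P, e), its fusion system F on P, a Brauer pair (Q, f) ≤ (P, e), and let T be the stabilizer of f in N_G(Q). Then Q is fully normalized in F if and only if N_P(Q) is a defect group of the block of T whose idempotent is that of f. -/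
theorem result {G : Type*} [Group G] [Fintype G] (p : ℕ) [Fact p.Prime] (M : Ideal Cfsg.AlgInt) (hM : Cfsg.IsPModular p M) (B : Set (Cfsg.IrrCharacter G)) (P : Subgroup G) (e : Set (Cfsg.IrrCharacter (Subgroup.centralizer (P : Set G)))) (hmax : Cfsg.IsMaximalBrauerPair p M B P e) (F : Cfsg.FusionSystem P) (hF : Cfsg.IsBlockFusionSystemOn p M B P e F) (Q : Subgroup G) (f : Set (Cfsg.IrrCharacter (Subgroup.centralizer (Q : Set G)))) (hQP : Q ≤ P) (hf : Cfsg.IsPBlock M f) (hle : Cfsg.SubpairLE p M Q f P e) (T : Subgroup G) (hT : ∀ y : G, y ∈ T ↔ y ∈ Subgroup.normalizer (Q : Set G) ∧ Cfsg.StabilizesBlock (Subgroup.centralizer (Q : Set G)) f y) : F.IsFullyNormalized Q ↔ ∃ F' : Set (Cfsg.IrrCharacter T), Cfsg.IsPBlock M F' ∧ (∀ t : T, Cfsg.blockCoeff F' t = Cfsg.subgroupBlockCoeff (Subgroup.centralizer (Q : Set G)) f (t : G)) ∧ Cfsg.IsDefectGroup p M F' ((P ⊓ Subgroup.normalizer (Q : Set G)).subgroupOf T) := by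
  haveI := CfsgLib.Block.isPrime_of_isPModular hM
  haveI := CfsgLib.Block.charP_residue hM
  obtain ⟨hP, hb, hmx⟩ := CfsgLib.BrauerPairs.maxPair_data hM hmax
  have hple := CfsgLib.BrauerPairs.ple_of_subpairLE hM hmax hle
  have hQ := CfsgLib.BrauerPairs.PLE.isPair hple hP
  obtain ⟨hQT, hCT, hTN, hfix⟩ := CfsgLib.BrauerPairs.stabilizer_props hM hf hQ.1 hT
  have hst := CfsgLib.BrauerPairs.stab_eq hM hf hT
  have hPT : P ⊓ Subgroup.normalizer (Q : Set G) ≤ T :=
    hst ▸ CfsgLib.BrauerPairs.inf_normalizer_le_stab hP hple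
  obtain ⟨F', hF', hcoef, hid⟩ := CfsgLib.BrauerPairs.exists_block_of_stable hM hCT hf
    (fun t ht => ((hT t).mp ht).2) (hQ.2.of_stable hQ.1 hQT hTN hCT hfix)
  rw [CfsgLib.BrauerPairs.eq_blockSystem hM hmax hF,
    CfsgLib.BrauerPairs.fullyNormalized_iff _ hb hmx hple, hst]
  constructor
  · intro h
    refine ⟨F', hF', hcoef, ?_⟩
    rw [CfsgLib.BrauerPairs.isDefectGroup_sub_iff_of_le hM _ hF' hPT, hid]
    exact h
  · rintro ⟨F'', hF'', hcoef', hdef⟩
    have h2 : CfsgLib.BrauerPairs.idemIn M T F'' = CfsgLib.BrauerPairs.idemIn M T F' := by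
      refine CfsgLib.BrauerPairs.coeff_ext fun g => ?_
      rw [CfsgLib.BrauerPairs.coeff_idemIn, CfsgLib.BrauerPairs.coeff_idemIn]
      by_cases hg : g ∈ T
      · obtain ⟨g, rfl⟩ : ∃ g' : T, (g' : G) = g := ⟨⟨g, hg⟩, rfl⟩
        rw [CfsgLib.BrauerPairs.subgroupBlockCoeff_coe, CfsgLib.BrauerPairs.subgroupBlockCoeff_coe,
          hcoef', hcoef]
      · rw [CfsgLib.BrauerPairs.subgroupBlockCoeff_not_mem _ hg,
          CfsgLib.BrauerPairs.subgroupBlockCoeff_not_mem _ hg]
    rw [CfsgLib.BrauerPairs.isDefectGroup_sub_iff_of_le hM _ hF'' hPT, h2, hid] at hdef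
    exact hdef

end Cfsg.Agent.S4679
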