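import Cfsg.Statements.S4681
import Cfsg.Agent.BrauerPairs.PrincipalBridge

set_option autoImplicit false
open Cfsg

namespace Cfsg.Agent.S4681

/-- Fix a prime p and a maximal ideal M of the algebraic integers containing p. Let B₀ be the principal p-block of the finite group G, P a Sylow p-subgroup and e₀ the principal p-block of C_G(P). Then (P, e₀) is a maximal Brauer pair of B₀, and the fusion system of B₀ on (P, e₀) is the fusion system of G on P: its maps from each subgroup of P are exactly the conjugation maps into P by elements of G. -/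
theorem result {G : Type*} [Group G] [Fintype G] (p : ℕ) [Fact p.Prime] (M : Ideal Cfsg.AlgInt) (hM : Cfsg.IsPModular p M) (S : Sylow p G) : Cfsg.IsMaximalBrauerPair p M (Cfsg.principalBlock M G) (S : Subgroup G) (Cfsg.principalBlock M (Subgroup.centralizer ((S : Subgroup G) : Set G))) ∧ ∀ F : Cfsg.FusionSystem (S : Subgroup G), Cfsg.IsBlockFusionSystemOn p M (Cfsg.principalBlock M G) (S : Subgroup G) (Cfsg.principalBlock M (Subgroup.centralizer ((S : Subgroup G) : Set G))) F → ∀ Q : Subgroup G, F.Hom Q = (Cfsg.groupFusionSystem (S : Subgroup G)).Hom Q := by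
  haveI := CfsgLib.Block.isPrime_of_isPModular hM
  haveI := CfsgLib.Block.charP_residue hM
  have hmax := CfsgLib.BrauerPairs.isMaximalBrauerPair_principal hM S
  refine ⟨hmax, fun F hF Q => Set.ext fun φ => ?_⟩
  rw [hF.2 Q φ]
  constructor
  · rintro ⟨hQ, g, hg, hgS, -⟩
    exact ⟨hQ, fun x => hgS ⟨x, x.2, (hg x).symm⟩, g, hg⟩
  · rintro ⟨hQ, hφ, g, hg⟩
    have hgS : Q.map (MulAut.conj g).toMonoidHom ≤ (S : Subgroup G) := by
      rintro _ ⟨x, hx, rfl⟩
      have := hφ ⟨x, hx⟩
      rwa [hg] at this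
    have hS := hmax.1.1
    refine ⟨hQ, g, hg, hgS, Cfsg.principalBlock M _, ?_, ?_⟩
    · rw [CfsgLib.BrauerPairs.subpairLE_iff hM hS]
      refine ⟨⟨S.isPGroup'.to_le hQ, CfsgLib.BrauerPairs.isPBlock_principal⟩, ?_⟩
      rw [CfsgLib.BrauerPairs.toPair, CfsgLib.BrauerPairs.toPair,
        CfsgLib.BrauerPairs.idemIn_principal hM, CfsgLib.BrauerPairs.idemIn_principal hM]
      exact CfsgLib.BrauerPairs.ple_prin S.isPGroup' hQ
    · rw [CfsgLib.BrauerPairs.subpairLE_iff hM hS]
      refine ⟨CfsgLib.BrauerPairs.isBrauerPair_conjBlock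
        ⟨S.isPGroup'.to_le hQ, CfsgLib.BrauerPairs.isPBlock_principal⟩ g, ?_⟩
      rw [CfsgLib.BrauerPairs.toPair, CfsgLib.BrauerPairs.toPair,
        CfsgLib.BrauerPairs.idemIn_conjBlock, CfsgLib.BrauerPairs.idemIn_principal hM,
        CfsgLib.BrauerPairs.idemIn_principal hM]
      have h1 : CfsgLib.BrauerPairs.IsBlk (CfsgLib.Block.Residue M)
          (Subgroup.centralizer ((Q.map (MulAut.conj g).toMonoidHom : Subgroup G) : Set G))
          (CfsgLib.BrauerPairs.cj (CfsgLib.Block.Residue M) g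
            (CfsgLib.BrauerPairs.prin _ (Subgroup.centralizer (Q : Set G)))) := by
        rw [← CfsgLib.BrauerPairs.map_conj_centralizer]
        exact (CfsgLib.BrauerPairs.isBlk_prin _).cj g
      rw [h1.eq_prin_of_aug (by
        rw [CfsgLib.BrauerPairs.aug_cj, CfsgLib.BrauerPairs.aug_prin]; exact one_ne_zero)]
      exact CfsgLib.BrauerPairs.ple_prin S.isPGroup' hgS

end Cfsg.Agent.S4681
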