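import Cfsg.Statements.S4685
import Cfsg.Agent.BlocksB.Star.Focal

set_option autoImplicit false
open Cfsg

namespace Cfsg.Agent.S4685

/-- Fix a prime p and a maximal ideal M of the algebraic integers containing p, a p-block B of the finite group G with maximal Brauer pair (P, e) and fusion system F on P. Then for every h the number of irreducible characters of height h in B is divisible by the index of Z(P) ∩ foc(F) in Z(P), where foc(F) is the focal subgroup of F. -/
theorem result {G : Type*} [Group G] [Fintype G] (p : ℕ) [Fact p.Prime] (M : Ideal Cfsg.AlgInt) (hM : Cfsg.IsPModular p M) (B : Set (Cfsg.IrrCharacter G)) (P : Subgroup G) (e : Set (Cfsg.IrrCharacter (Subgroup.centralizer (P : Set G)))) (hmax : Cfsg.IsMaximalBrauerPair p M B P e) (F : Cfsg.FusionSystem P) (hF : Cfsg.IsBlockFusionSystemOn p M B P e F) (h : ℕ) : ((P ⊓ Subgroup.centralizer (P : Set G) ⊓ F.focalSubgroup).subgroupOf (P ⊓ Subgroup.centralizer (P : Set G))).index ∣ Nat.card {χ : Cfsg.IrrCharacter G // χ ∈ B ∧ Cfsg.blockHeight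 p B (χ : G → ℂ) = h} := by
  classical
  haveI := hM.2.1.isPrime
  haveI := CfsgLib.Block.charP_residue hM
  obtain ⟨hP, -, hmx⟩ := CfsgLib.BrauerPairs.maxPair_data hM hmax
  obtain rfl := CfsgLib.BrauerPairs.eq_blockSystem hM hmax hF
  obtain ⟨hN, hcomm⟩ := CfsgLib.BlockStar.focal_data hP
  haveI := Subgroup.Normal.of_commutator_le (G := P) hcomm
  have hz : (Subgroup.center P).map P.subtype = P ⊓ Subgroup.centralizer (P : Set G) := by
    ext x
    rw [Subgroup.mem_map, Subgroup.mem_inf, Subgroup.mem_centralizer_iff]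
    constructor
    · rintro ⟨y, hy, rfl⟩
      exact ⟨y.2, fun v hv => congrArg Subtype.val (Subgroup.mem_center_iff.1 hy ⟨v, hv⟩)⟩
    · rintro ⟨hx, hc⟩
      exact ⟨⟨x, hx⟩, Subgroup.mem_center_iff.2 fun v => Subtype.ext (hc v v.2), rfl⟩
  have h2 := CfsgLib.BlockStar.relIndex_dvd_card_height hM hmax.1.2.1 hmx hN hcomm h
  rw [Subgroup.subgroupOf, Subgroup.relIndex_comap, hz, ← Subgroup.inf_relIndex_left] at h2
  exact h2

end Cfsg.Agent.S4685
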