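import Cfsg.Statements.S4688
import Cfsg.Agent.BrauerPairs.NilpotentBridge

set_option autoImplicit false
open Cfsg

namespace Cfsg.Agent.S4688

/-- Fix a prime p and a maximal ideal M of the algebraic integers containing p, and a nilpotent p-block B of the finite group G with maximal Brauer pair (P, e). Then for every Brauer pair (Q, f) of B, f is a nilpotent block of C_G(Q); and if moreover (Q, f) ≤ (P, e), then C_P(Q) is a defect group of f as a block of C_G(Q). -/
theorem result {G : Type*} [Group G] [Fintype G] (p : ℕ) [Fact p.Prime] (M : Ideal Cfsg.AlgInt) (hM : Cfsg.IsPModular p M) (B : Set (Cfsg.IrrCharacter G)) (P : Subgroup G) (e : Set (Cfsg.IrrCharacter (Subgroup.centralizer (P : Set G)))) (hmax : Cfsg.IsMaximalBrauerPair p M B P e) (hnil : Cfsg.IsNilpotentBlock p M B) (Q : Subgroup G) (f : Set (Cfsg.IrrCharacter (Subgroup.centralizer (Q : Set G)))) (hQf : Cfsg.IsBrauerPairOf p M B Q f) : Cfsg.IsNilpotentBlock p M f ∧ (Cfsg.SubpairLE p M Q f P e → Cfsg.IsDefectGroup p M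 f ((P ⊓ Subgroup.centralizer (Q : Set G)).subgroupOf (Subgroup.centralizer (Q : Set G)))) := by
  haveI := CfsgLib.Block.isPrime_of_isPModular hM
  haveI := CfsgLib.Block.charP_residue hM
  haveI := Fintype.ofFinite (Subgroup.centralizer (Q : Set G))
  obtain ⟨hP, hb, hmx⟩ := CfsgLib.BrauerPairs.maxPair_data hM hmax
  obtain ⟨hB, hn⟩ := (CfsgLib.BrauerPairs.isNilpotentBlock_iff hM).mp hnil
  obtain ⟨hf, -, hpair⟩ := (CfsgLib.BrauerPairs.isBrauerPairOf_iff hM).mp hQf
  constructor
  · rw [CfsgLib.BrauerPairs.isNilpotentBlock_iff hM]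
    refine ⟨hf.2, ?_⟩
    rw [← CfsgLib.BrauerPairs.restr_idemIn]
    exact CfsgLib.BrauerPairs.isNil_restr hb hn hpair
  · intro hle
    rw [CfsgLib.BrauerPairs.isDefectGroup_sub_iff_of_le hM _ hf.2 inf_le_right]
    have hple := CfsgLib.BrauerPairs.ple_of_subpairLE hM hmax hle
    exact (CfsgLib.BrauerPairs.fullyCentralized_iff hP hb hmx hple).mp
      (CfsgLib.BrauerPairs.fullyCentralized_of_inner hP (CfsgLib.BrauerPairs.inner_of_isNil hP hb hmx
        hn fun R f h => CfsgLib.BrauerPairs.isSplit_of_isPair hM R f h) hple.le)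

end Cfsg.Agent.S4688
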