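import Cfsg.Statements.S4690
import Cfsg.Agent.BlocksB.Star.Nilpotent

set_option autoImplicit false
open Cfsg

namespace Cfsg.Agent.S4690

/-- Fix a prime p and a maximal ideal M of the algebraic integers containing p, and a nilpotent p-block B of the finite group G with defect group P. Then there is a bijection from B onto the irreducible characters of P carrying the height of each χ ∈ B to the exponent of p in the degree of its image. -/
theorem result {G : Type*} [Group G] [Fintype G] (p : ℕ) [Fact p.Prime] (M : Ideal Cfsg.AlgInt) (hM : Cfsg.IsPModular p M) (B : Set (Cfsg.IrrCharacter G)) (hnil : Cfsg.IsNilpotentBlock p M B) (P : Subgroup G) (hP : Cfsg.IsDefectGroup p M B P) : ∃ Φ : B ≃ Cfsg.IrrCharacter P, ∀ χ : B, Cfsg.blockHeight p B ((χ : Cfsg.IrrCharacter G) : G → ℂ) = (Cfsg.charDegree ((Φ χ : Cfsg.IrrCharacter P) : P → ℂ)).factorization p := by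
  classical
  haveI := hM.2.1.isPrime
  haveI := CfsgLib.Block.charP_residue hM
  obtain ⟨hB, hn⟩ := (CfsgLib.BrauerPairs.isNilpotentBlock_iff hM).mp hnil
  obtain ⟨e, hmax⟩ := CfsgLib.BrauerPairs.exists_isMaxPair (CfsgLib.BrauerPairs.isBlk_idem hM hB)
    (CfsgLib.BrauerPairs.isDef_of_isDefectGroup hM hB hP)
  obtain ⟨χ₀, hχ₀, h0, Φ, hΦ⟩ := CfsgLib.BlockStar.exists_generating hM hB hn hmax
  refine ⟨Φ.symm, fun χ => ?_⟩
  set ζ := Φ.symm χ with hζ
  have hdeg : Cfsg.charDegree ((χ : Cfsg.IrrCharacter G) : G → ℂ) =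
      Cfsg.charDegree (ζ : P → ℂ) * Cfsg.charDegree (χ₀ : G → ℂ) := by
    have h := hΦ ζ 1 (by rw [orderOf_one]; exact hM.1.not_dvd_one)
    rw [hζ, Equiv.apply_symm_apply, (CfsgLib.Block.Chr.irr_one _).1,
      (CfsgLib.Block.Chr.irr_one χ₀).1] at h
    exact_mod_cast h
  haveI : Fintype P := Fintype.ofFinite P
  unfold Cfsg.blockHeight at h0 ⊢
  rw [hdeg, Nat.factorization_mul (CfsgLib.Block.Chr.irr_one ζ).2.ne'
    (CfsgLib.Block.Chr.irr_one χ₀).2.ne', Finsupp.add_apply]
  have hle : sInf ((fun ψ : Cfsg.IrrCharacter G => (Cfsg.charDegree (ψ : G → ℂ)).factorization p) '' B) ≤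
      (Cfsg.charDegree (χ₀ : G → ℂ)).factorization p :=
    Nat.sInf_le ⟨χ₀, hχ₀, rfl⟩
  omega

end Cfsg.Agent.S4690
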