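import Cfsg.Statements.S4692
import Cfsg.Agent.BlocksB.NilpotentExtension

set_option autoImplicit false
open Cfsg

namespace Cfsg.Agent.S4692

/-- Fix a prime p and a maximal ideal M of the algebraic integers containing p. Let N be a normal subgroup of p-power index in the finite group G and c a p-block of N stable under conjugation by G, and let B be the p-block of G whose idempotent is that of c (it exists and is unique). Then c is nilpotent as a block of N if and only if B is nilpotent as a block of G. -/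
theorem result {G : Type*} [Group G] [Fintype G] (p : ℕ) [Fact p.Prime] (M : Ideal Cfsg.AlgInt) (hM : Cfsg.IsPModular p M) (N : Subgroup G) [N.Normal] (hN : ∃ k : ℕ, N.index = p ^ k) (c : Set (Cfsg.IrrCharacter N)) (hc : Cfsg.IsPBlock M c) (hst : ∀ x : G, Cfsg.StabilizesBlock N c x) (B : Set (Cfsg.IrrCharacter G)) (hB : Cfsg.IsPBlock M B) (hBc : ∀ g : G, Cfsg.blockCoeff B g = Cfsg.subgroupBlockCoeff N c g) : Cfsg.IsNilpotentBlock p M c ↔ Cfsg.IsNilpotentBlock p M B := by
  classical
  haveI := hM.2.1.isPrime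
  haveI := CfsgLib.Block.charP_residue hM
  haveI := Fintype.ofFinite N
  obtain ⟨j, hj⟩ := hN
  have hs : CfsgLib.BlockB.IdemSupp (CfsgLib.Block.Residue M) N := by
    intro L f hf hff
    haveI : ((L ⊓ N).subgroupOf L).Normal :=
      (Subgroup.normal_subgroupOf_iff_le_normalizer inf_le_left).2
        (CfsgLib.BlockB.inf_le_normalizer L)
    have hdvd : ((L ⊓ N).subgroupOf L).index ∣ p ^ j := by
      rw [← hj, show ((L ⊓ N).subgroupOf L).index = N.relIndex L from Subgroup.inf_relIndex_left L N]
      exact Subgroup.relIndex_dvd_index_of_normal N L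
    obtain ⟨i, -, hi⟩ := (Nat.dvd_prime_pow Fact.out).1 hdvd
    exact CfsgLib.BlockB.suppIn_of_idem_ppower hM hi hf hff
  have hidem : CfsgLib.BrauerPairs.idem M B = CfsgLib.BrauerPairs.idemIn M N c :=
    CfsgLib.BrauerPairs.coeff_ext fun g => by simp [CfsgLib.BrauerPairs.idem, hBc g]
  have hblk := CfsgLib.BrauerPairs.isBlk_idem hM hB
  rw [hidem] at hblk
  have hcN := (CfsgLib.BrauerPairs.isBlk_idemIn hM hc).suppIn
  have key := CfsgLib.BlockB.isNil_iff_restr hs hj hblk hcN
  rw [CfsgLib.BrauerPairs.restr_idemIn] at key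
  rw [CfsgLib.BrauerPairs.isNilpotentBlock_iff hM, CfsgLib.BrauerPairs.isNilpotentBlock_iff hM,
    hidem, key]
  exact ⟨fun h => ⟨hB, h.2⟩, fun h => ⟨hc, h.2⟩⟩

end Cfsg.Agent.S4692
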