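import Cfsg.Statements.S4693
import Cfsg.Agent.BrauerPairs.NilpotentBridge

set_option autoImplicit false
open Cfsg

namespace Cfsg.Agent.S4693

/-- Fix a prime p and a maximal ideal M of the algebraic integers containing p, a p-block B of the finite group G with maximal Brauer pair (P, e) and fusion system F on P, and a Brauer pair (Q, f) ≤ (P, e) with Q centric in F. Suppose every element of G normalizes Q and stabilizes f. Then the idempotent of B agrees with that of f modulo M at every element of G, and f is the idempotent of a nilpotent block of Q·C_G(Q): some p-block of Q·C_G(Q) has the idempotent coefficients of f and is nilpotent. -/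
theorem result {G : Type*} [Group G] [Fintype G] (p : ℕ) [Fact p.Prime] (M : Ideal Cfsg.AlgInt) (hM : Cfsg.IsPModular p M) (B : Set (Cfsg.IrrCharacter G)) (P : Subgroup G) (e : Set (Cfsg.IrrCharacter (Subgroup.centralizer (P : Set G)))) (hmax : Cfsg.IsMaximalBrauerPair p M B P e) (F : Cfsg.FusionSystem P) (hF : Cfsg.IsBlockFusionSystemOn p M B P e F) (Q : Subgroup G) (f : Set (Cfsg.IrrCharacter (Subgroup.centralizer (Q : Set G)))) (hQP : Q ≤ P) (hf : Cfsg.IsPBlock M f) (hle : Cfsg.SubpairLE p M Q f P e) (hcen : F.IsCentric Q) (hG : ∀ x : G, x ∈ Subgroup.normalizer (Q : Set G) ∧ Cfsg.StabilizesBlock (Subgroup.centralizer (Q : Set G)) f x) : (∀ g : G, Cfsg.MemLocalIdeal M (Cfsg.blockCoeff B g - Cfsg.subgroupBlockCoeff (Subgroup.centralizer (Q : Set G)) f g)) ∧ ∃ F' : Set (Cfsg.IrrCharacter ↥(Q ⊔ Subgroup.centralizer (Q : Set G))), Cfsg.IsPBlock M F' ∧ (∀ t : ↥(Q ⊔ Subgroup.centralizer (Q : Set G)), Cfsg.blockCoeff F' t = Cfsg.subgroupBlockCoeff (Subgroup.centralizer (Q : Set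 G)) f (t : G)) ∧ Cfsg.IsNilpotentBlock p M F' := by
  haveI := CfsgLib.Block.isPrime_of_isPModular hM
  haveI := CfsgLib.Block.charP_residue hM
  obtain ⟨hP, hb, hmx⟩ := CfsgLib.BrauerPairs.maxPair_data hM hmax
  have hple := CfsgLib.BrauerPairs.ple_of_subpairLE hM hmax hle
  have hQ := CfsgLib.BrauerPairs.PLE.isPair hple hP
  have hpair := (CfsgLib.BrauerPairs.isPairOf_iff_of_ple hb hple hP).mpr hmx.1
  have htopN : (⊤ : Subgroup G) ≤ Subgroup.normalizer (Q : Set G) := fun x _ => (hG x).1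
  have hfix : CfsgLib.BrauerPairs.FixBy (⊤ : Subgroup G)
      (CfsgLib.BrauerPairs.idemIn M (Subgroup.centralizer (Q : Set G)) f) := fun x _ =>
    ((CfsgLib.BrauerPairs.stabilizesBlock_iff hM hf).mp (hG x).2).2
  have hftop := hQ.2.of_stable hQ.1 le_top htopN le_top hfix
  have heq : CfsgLib.BrauerPairs.idem M B =
      CfsgLib.BrauerPairs.idemIn M (Subgroup.centralizer (Q : Set G)) f := by
    by_contra hne
    refine hftop.ne_zero ?_
    have h1 := CfsgLib.BrauerPairs.br_eq_self_of_idem hQ.1 le_top htopN hb.mem hb.idem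
    have h2 := hpair.2
    rw [h1] at h2
    rw [← h2]
    exact hb.mul_eq_zero_of_ne (CfsgLib.BrauerPairs.alg_comm le_rfl) hftop hne
  constructor
  · intro g
    have h1 := congrArg (fun a => a.coeff g) heq
    simp only [CfsgLib.BrauerPairs.idem, CfsgLib.BrauerPairs.coeff_redFun,
      CfsgLib.BrauerPairs.coeff_idemIn] at h1
    exact (CfsgLib.BrauerPairs.red_eq_iff (CfsgLib.Block.blockCoeff_mem hmax.1.2.1 g)
      (CfsgLib.BrauerPairs.memLocalRing_subgroupBlockCoeff hf g)).mp h1
  · have hLN : Q ⊔ Subgroup.centralizer (Q : Set G) ≤ Subgroup.normalizer (Q : Set G) :=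
      fun x _ => (hG x).1
    obtain ⟨F', hF', hcoef, hid⟩ := CfsgLib.BrauerPairs.exists_block_of_stable hM
      (le_sup_right : _ ≤ Q ⊔ Subgroup.centralizer (Q : Set G)) hf (fun t _ => (hG t).2)
      (hQ.2.of_stable hQ.1 le_sup_left hLN le_sup_right (hfix.mono le_top))
    haveI := Fintype.ofFinite (Q ⊔ Subgroup.centralizer (Q : Set G) : Subgroup G)
    refine ⟨F', hF', hcoef, (CfsgLib.BrauerPairs.isNilpotentBlock_iff hM).mpr ⟨hF', ?_⟩⟩
    rw [← CfsgLib.BrauerPairs.restr_idemIn, hid]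
    rw [CfsgLib.BrauerPairs.eq_blockSystem hM hmax hF] at hcen
    exact CfsgLib.BrauerPairs.isNil_of_centric hQ
      ((CfsgLib.BrauerPairs.centric_iff hP hb hmx hple).mp hcen) rfl

end Cfsg.Agent.S4693
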