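import Cfsg.Statements.S4694
import Cfsg.Agent.BlocksB.Weights

set_option autoImplicit false
open Cfsg

namespace Cfsg.Agent.S4694

/-- Fix a prime p and a maximal ideal M of the algebraic integers containing p, a p-block B of the finite group G and a Brauer pair (Q, e) of B. Let T be the stabilizer of e in N_G(Q) and suppose that (Q, e) carries a weight: the block of T whose idempotent is that of e contains an irreducible character χ that is constant on the cosets of Q and whose degree has p-part equal to the p-part of the index of Q in T. Then Z(Q) is a defect group of e as a block of C_G(Q), and Q is the largest normal p-subgroup of T: every p-subgroup of T normalized by T lies in Q. -/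
theorem result {G : Type*} [Group G] [Fintype G] (p : ℕ) [Fact p.Prime] (M : Ideal Cfsg.AlgInt) (hM : Cfsg.IsPModular p M) (B : Set (Cfsg.IrrCharacter G)) (Q : Subgroup G) (e : Set (Cfsg.IrrCharacter (Subgroup.centralizer (Q : Set G)))) (hQe : Cfsg.IsBrauerPairOf p M B Q e) (T : Subgroup G) (hT : ∀ y : G, y ∈ T ↔ y ∈ Subgroup.normalizer (Q : Set G) ∧ Cfsg.StabilizesBlock (Subgroup.centralizer (Q : Set G)) e y) (F' : Set (Cfsg.IrrCharacter T)) (hF' : Cfsg.IsPBlock M F') (hF'e : ∀ t : T, Cfsg.blockCoeff F' t = Cfsg.subgroupBlockCoeff (Subgroup.centralizer (Q : Set G)) e (t : G)) (χ : Cfsg.IrrCharacter T) (hχ : χ ∈ F') (hχQ : ∀ q : G, q ∈ Q → ∀ t : T, ∀ t' : T, (t' : G) = q * (t : G) → (χ : T → ℂ) t' = (χ : T → ℂ) t) (hdeg : (Cfsg.charDegree (χ : T → ℂ)).factorization p + (Nat.card Q).factorization p = (Nat.card T).factorization p) : Cfsg.IsDefectGroup p M e ((Q ⊓ Subgroup.centralizer (Q : Set G)).subgroupOf (Subgroup.centralizer (Q : Set G))) ∧ ∀ R : Subgroup G, R ≤ T → IsPGroup p R → (∀ t ∈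 T, t ∈ Subgroup.normalizer (R : Set G)) → R ≤ Q := by
  classical
  haveI := hM.2.1.isPrime
  haveI := CfsgLib.Block.charP_residue hM
  have hp : p.Prime := hM.1
  have he := hQe.1.2
  have hQp : IsPGroup p Q := hQe.1.1
  obtain ⟨hQT, hCT, hTN, -⟩ := CfsgLib.BrauerPairs.stabilizer_props hM he hQp hT
  haveI := Fintype.ofFinite T
  haveI := Fintype.ofFinite (Subgroup.centralizer (Q : Set G))
  set Q' := Q.subgroupOf T
  set C' := (Subgroup.centralizer (Q : Set G)).subgroupOf T with hC'
  haveI := Fintype.ofFinite C'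
  haveI hQn : Q'.Normal := (Subgroup.normal_subgroupOf_iff_le_normalizer hQT).2 hTN
  haveI hCn : C'.Normal := (Subgroup.normal_subgroupOf_iff_le_normalizer hCT).2
    (hTN.trans CfsgLib.BrauerPairs.map_normalizer_centralizer)
  have hcardQ : Nat.card Q' = Nat.card Q :=
    Nat.card_congr (Subgroup.subgroupOfEquivOfLe hQT).toEquiv
  have hker : ∀ q ∈ Q', (χ : T → ℂ) q = (χ : T → ℂ) 1 := fun q hq =>
    hχQ q hq 1 q (by simp)
  have hdeg' : (charDegree (χ : T → ℂ)).factorization p + (Nat.card Q').factorization p =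
      (Nat.card T).factorization p := by rw [hcardQ]; exact hdeg
  refine ⟨?_, fun R hRT hR hTR => ?_⟩
  swap
  · haveI : (R.subgroupOf T).Normal :=
      (Subgroup.normal_subgroupOf_iff_le_normalizer hRT).2 fun t ht => hTR t ht
    have h := CfsgLib.BlockB.le_of_weight hp
      (hQp.of_equiv (Subgroup.subgroupOfEquivOfLe hQT).symm)
      (hR.of_equiv (Subgroup.subgroupOfEquivOfLe hRT).symm) hker hdeg' (R := R.subgroupOf T)
    exact fun r hr => h (x := ⟨r, hRT hr⟩) hr
  obtain ⟨θ', hθ'c, hθ'ker, hθ'deg⟩ :=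
    CfsgLib.BlockB.exists_constituent_of_weight hp (Q := Q') (C := C') hker hdeg'
  let φ : (Subgroup.centralizer (Q : Set G)) ≃* C' := (Subgroup.subgroupOfEquivOfLe hCT).symm
  set e' := CfsgLib.BrauerPairs.mapSet φ e
  have he' : IsPBlock M e' := CfsgLib.BrauerPairs.isPBlock_mapSet φ he
  have hres : ∀ c : C', blockCoeff F' (c : T) = blockCoeff e' c := by
    intro c
    obtain ⟨c, rfl⟩ := φ.surjective c
    rw [hF'e, CfsgLib.BrauerPairs.blockCoeff_map]
    exact CfsgLib.BrauerPairs.subgroupBlockCoeff_coe e c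
  have hmem : θ' ∈ e' := by
    have h := CfsgLib.Block.omega_eq_of_constituent hθ'c
      (CfsgLib.Block.isClassFunction_blockCoeff F') fun g hg => by
        rw [hF'e]
        exact CfsgLib.BrauerPairs.subgroupBlockCoeff_not_mem e hg
    rw [CfsgLib.Block.omega_blockCoeff, if_pos hχ,
      show CfsgLib.Block.resFun C' (blockCoeff F') = blockCoeff e' from funext hres,
      CfsgLib.Block.omega_blockCoeff] at h
    by_contra hn
    rw [if_neg hn] at h
    exact one_ne_zero h
  obtain ⟨θ, hθ, rfl⟩ := hmem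
  set Z := (Q ⊓ (Subgroup.centralizer (Q : Set G))).subgroupOf (Subgroup.centralizer (Q : Set G)) with hZ
  have hZc : Z ≤ Subgroup.center (Subgroup.centralizer (Q : Set G)) := fun z hz => Subgroup.mem_center_iff.2 fun c => Subtype.ext
    ((Subgroup.mem_centralizer_iff.1 c.2 z (Subgroup.mem_subgroupOf.1 hz).1).symm)
  haveI : Z.Normal := ⟨fun z hz x => by
    rw [Subgroup.mem_center_iff.1 (hZc hz) x, mul_inv_cancel_right]; exact hz⟩
  have hZp : IsPGroup p Z :=
    (hQp.to_le inf_le_left).of_equiv (Subgroup.subgroupOfEquivOfLe inf_le_right).symm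
  have hZcard : Nat.card Z = Nat.card ↥(Q ⊓ (Subgroup.centralizer (Q : Set G))) :=
    Nat.card_congr (Subgroup.subgroupOfEquivOfLe inf_le_right).toEquiv
  have hQC : Nat.card ↥(Q' ⊓ C') = Nat.card ↥(Q ⊓ (Subgroup.centralizer (Q : Set G))) := by
    rw [show Q' ⊓ C' = (Q ⊓ (Subgroup.centralizer (Q : Set G))).subgroupOf T from rfl]
    exact Nat.card_congr (Subgroup.subgroupOfEquivOfLe (inf_le_right.trans hCT)).toEquiv
  have hdθ : charDegree (CfsgLib.BrauerPairs.mapChar φ θ : C' → ℂ) = charDegree (θ : (Subgroup.centralizer (Q : Set G)) → ℂ) := by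
    simp [charDegree]
  have hd := CfsgLib.Block.blockDefect_of_central_quotient hM he Z hZc hZp hθ (fun u hu => by
    have h := hθ'ker (φ u) (Subgroup.mem_subgroupOf.2 (Subgroup.mem_subgroupOf.1 hu).1)
    simpa using h) (by
      rw [hZcard, ← hQC, ← hdθ, hθ'deg]
      exact congrArg (fun n : ℕ => n.factorization p) (Nat.card_congr φ.toEquiv.symm))
  obtain ⟨D, hD⟩ := CfsgLib.Block.exists_defectGroup he hM
  have hle := CfsgLib.Block.normal_le_defectGroup hM he hD Z hZp
  have heq : Z = D := Subgroup.eq_of_le_of_card_ge hle (le_of_eq (by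
    obtain ⟨j, hj⟩ := IsPGroup.iff_card.1 hZp
    rw [CfsgLib.Block.card_defectGroup hM he hD, hd, hj, Nat.Prime.factorization_pow hp,
      Finsupp.single_eq_same]))
  show IsDefectGroup p M e Z
  rw [heq]
  exact hD

end Cfsg.Agent.S4694
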