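import Cfsg.Statements.S4696
import Cfsg.Agent.BlocksB.Cyclic.Main

set_option autoImplicit false
open Cfsg

namespace Cfsg.Agent.S4696

/-- Let p be a prime, M a maximal ideal of the algebraic integers containing p, and B a p-block of the finite group G whose defect group D is cyclic of order p^a with a ≥ 1. Let C = C_G(D), let b be a block of C inducing B, let T be the stabilizer of b in N_G(D) (the elements g of N_G(D) such that the g-conjugate of every member of b is again in b), and let e be the index of C in T (the inertial index of B). Then e divides p − 1, every irreducible character in B has height zero, and B is the disjoint union of a set X of e characters and a set Y of (p^a − 1)/e characters, the members of Y agreeing on p-regular elements, for which there are signs δ_χ = ±1 (χ ∈ X) and δ₀ = ±1 such that: for every ψ ∈ Y and every p-regular g, δ₀ ψ(g) + Σ_{χ ∈ X} δ_χ χ(g)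 = 0; for all χ, χ' ∈ X the integers δ_χ χ(1) and δ_χ' χ'(1) are congruent modulo p^a; and for ψ ∈ Y and χ ∈ X, ψ(1) ≡ −e δ₀ δ_χ χ(1) modulo p^a. -/
theorem result {G : Type*} [Group G] [Finite G] (p : ℕ) [Fact p.Prime] (M : Ideal Cfsg.AlgInt) (hM : Cfsg.IsPModular p M) (D : Subgroup G) (hD : IsCyclic D) (a : ℕ) (ha : 1 ≤ a) (hDa : Nat.card D = p ^ a) (B : Set (Cfsg.IrrCharacter G)) (hB : Cfsg.IsPBlock M B) (hBD : Cfsg.IsDefectGroup p M B D) (b : Set (Cfsg.IrrCharacter (Subgroup.centralizer (D : Set G)))) (hind : Cfsg.IsInducedBlock M (Subgroup.centralizer (D : Set G)) b B) (T : Subgroup G) (hT : ∀ g : G, g ∈ T ↔ (g ∈ Subgroup.normalizer (D : Set G) ∧ ∀ θ ∈ b, ∀ θ' : Cfsg.IrrCharacter (Subgroup.centralizer (D : Set G)), (∀ h h' : Subgroup.centralizer (D : Set G), (h' : G) = g * h * g⁻¹ → (θ' : Subgroup.centralizer (D : Set G) → ℂ) h' = (θ : Subgroup.centralizer (D : Set G) → ℂ) h) → θ'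 ∈ b)) (e : ℕ) (he : (Subgroup.centralizer (D : Set G)).relIndex T = e) : e ∣ p - 1 ∧ (∀ χ ∈ B, Cfsg.blockHeight p B (χ : G → ℂ) = 0) ∧ ∃ X Y : Set (Cfsg.IrrCharacter G), B = X ∪ Y ∧ Disjoint X Y ∧ Nat.card X = e ∧ Nat.card Y = (p ^ a - 1) / e ∧ (∀ ψ ∈ Y, ∀ ψ' ∈ Y, ∀ g : G, ¬ p ∣ orderOf g → (ψ : G → ℂ) g = (ψ' : G → ℂ) g) ∧ ∃ (δ : Cfsg.IrrCharacter G → ℤ) (δ₀ : ℤ), (∀ χ ∈ X, δ χ = 1 ∨ δ χ = -1) ∧ (δ₀ = 1 ∨ δ₀ = -1) ∧ (∀ ψ ∈ Y, ∀ g : G, ¬ p ∣ orderOf g → (δ₀ : ℂ) * (ψ : G → ℂ) g + ∑ᶠ χ ∈ X, (δ χ : ℂ) * (χ : G → ℂ) g = 0) ∧ (∀ χ ∈ X, ∀ χ' ∈ X, δ χ * (Cfsg.charDegree (χ : G → ℂ) : ℤ) ≡ δ χ' * (Cfsg.charDegree (χ' : G → ℂ) : ℤ) [ZMOD (p : ℤ) ^ a]) ∧ (∀ ψ ∈ Y, ∀ χ ∈ X, (Cfsg.charDegree (ψ : G → ℂ) : ℤ) ≡ -((e : ℤ) * δ₀ * δ χ * (Cfsg.charDegree (χ : G → ℂ) : ℤ)) [ZMOD (p : ℤ) ^ a]) := by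
  haveI := hM.2.1.isPrime
  haveI := CfsgLib.Block.charP_residue hM
  haveI := Fintype.ofFinite G
  haveI := Fintype.ofFinite D
  letI := CfsgLib.Block.Chr.irrFintype (G := G)
  haveI : Fintype B := Fintype.ofFinite B
  classical
  have hD1 : D ≠ ⊥ := fun h => by
    rw [h, Subgroup.card_bot] at hDa
    exact absurd hDa.symm (Nat.one_lt_pow (by omega) (Fact.out : p.Prime).one_lt).ne'
  obtain ⟨t, n, S⟩ := CfsgLib.Cyclic.exists_cycData hM hB hBD hD hD1 hind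
  obtain ⟨m, V⟩ := S.exists_cycVals
  obtain ⟨χ₀, hχ₀, -⟩ := CfsgLib.Block.exists_height_zero hM hB
  obtain ⟨-, X, δ, δ₀, rep, Tr, -⟩ := CfsgLib.Cyclic.exists_tree S V ⟨χ₀, hχ₀⟩
  have hen : n = e := by
    rw [S.n_eq, ← he, CfsgLib.Cyclic.stab_eq_of_mem_iff' hM hind.1 T hT]
  subst hen
  have haN : a ≤ (Nat.card G).factorization p :=
    ((Fact.out : p.Prime).pow_dvd_iff_le_factorization Nat.card_pos.ne').1
      (hDa ▸ Subgroup.card_subgroup_dvd_card D)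
  have hcard : ∀ s : Finset B, Nat.card (Subtype.val '' (s : Set B)) = s.card := fun s => by
    rw [Nat.card_image_of_injective Subtype.val_injective, Nat.card_eq_fintype_card]
    simp
  refine ⟨S.n_dvd, fun χ hχ => Tr.height_zero V ⟨χ, hχ⟩, Subtype.val '' (X : Set B),
    Subtype.val '' ((Xᶜ : Finset B) : Set B), ?_, ?_, (hcard X).trans Tr.card_X, ?_, ?_,
    fun χ => if h : χ ∈ B then δ ⟨χ, h⟩ else 1, δ₀, ?_, Tr.sign₀, ?_, ?_, ?_⟩
  · ext χ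
    constructor
    · intro hχ
      by_cases h : (⟨χ, hχ⟩ : B) ∈ X
      · exact Or.inl ⟨_, h, rfl⟩
      · exact Or.inr ⟨⟨χ, hχ⟩, Finset.mem_coe.2 (Finset.mem_compl.2 h), rfl⟩
    · rintro (⟨x, -, rfl⟩ | ⟨x, -, rfl⟩) <;> exact x.2
  · rw [Set.disjoint_image_iff Subtype.val_injective, Finset.disjoint_coe]
    exact disjoint_compl_right
  · have h := Tr.card_Y
    rw [hDa] at h
    rw [hcard, ← h, Nat.add_sub_cancel, Nat.mul_div_cancel_left _ S.n_pos]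
  · rintro _ ⟨y, hy, rfl⟩ _ ⟨y', hy', rfl⟩ g hg
    exact Tr.agree V (Finset.mem_compl.1 hy) (Finset.mem_compl.1 hy') hg
  · rintro _ ⟨x, hx, rfl⟩
    simp only [dif_pos x.2, Subtype.coe_eta]
    exact Tr.sign x hx
  · rintro _ ⟨y, hy, rfl⟩ g hg
    rw [finsum_mem_image Subtype.val_injective.injOn, finsum_mem_coe_finset]
    convert Tr.reg y (Finset.mem_compl.1 hy) g hg using 3 with x
    simp only [dif_pos x.2, Subtype.coe_eta]
  · rintro _ ⟨x, hx, rfl⟩ _ ⟨x', hx', rfl⟩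
    simp only [dif_pos x.2, dif_pos x'.2, Subtype.coe_eta]
    exact (Tr.cong_X V hx hx').of_dvd (pow_dvd_pow _ haN)
  · rintro _ ⟨y, hy, rfl⟩ _ ⟨x, hx, rfl⟩
    simp only [dif_pos x.2, Subtype.coe_eta]
    exact (Tr.cong_Y V hx (Finset.mem_compl.1 hy)).of_dvd (pow_dvd_pow _ haN)

end Cfsg.Agent.S4696
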