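import Cfsg.Statements.S4699
import Mathlib.RepresentationTheory.Irreducible
import Mathlib.GroupTheory.SpecificGroups.Cyclic
import Mathlib.Algebra.CharP.Lemmas
import Mathlib.LinearAlgebra.FiniteDimensional.Lemmas
import Mathlib.Tactic.NoncommRing
import Mathlib.Algebra.CharP.Algebra

set_option autoImplicit false
open Cfsg

namespace Cfsg.Agent.S4699

set_option linter.style.haveILetI false

open Finset

section ringLemma

variable {F : Type*} [Field F] {R : Type*} [Ring R] [Algebra F R]

/-- The orbit sum of conjugation by a unipotent element of `p`-power order has a high power of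
`X - 1` as a left factor. -/
theorem exists_orbitSum_eq {p n e d : ℕ} [Fact p.Prime] [CharP F p] {X X' : R} (h1 : X * X' = 1)
    (h2 : X' * X = 1) (hd : (X - 1) ^ d = 0) (he : e + 1 + d ≤ p ^ n) (A : R) :
    ∃ Z, ∑ i ∈ range (p ^ n), X ^ i * A * X' ^ i = (X - 1) ^ (e + 1) * Z := by
  set T := X - 1 with hT
  set S : ℕ → AddSubgroup R := fun k =>
    AddSubgroup.closure {M | ∃ i j B, k ≤ i + j ∧ M = T ^ i * B * T ^ j} with hS
  set s : Module.End F R := LinearMap.mulLeft F X ∘ₗ LinearMap.mulRight F X' with hs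
  have hsA : ∀ i : ℕ, (s ^ i) A = X ^ i * A * X' ^ i := fun i => by
    induction i with
    | zero => simp
    | succ i ih =>
      rw [pow_succ', Module.End.mul_apply, ih, hs, LinearMap.comp_apply, LinearMap.mulRight_apply,
        LinearMap.mulLeft_apply, pow_succ' X, pow_succ X']
      noncomm_ring
  have hTX' : Commute T X' := ((show Commute X X' from h1.trans h2.symm).sub_left (Commute.one_left _))
  have hstep : ∀ (k : ℕ) (M : R), M ∈ S k → (s - 1) M ∈ S (k + 1) := by
    intro k M hM
    induction hM using AddSubgroup.closure_induction with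
    | mem M hM =>
      obtain ⟨i, j, B, hk, rfl⟩ := hM
      have e1 : (s - 1) (T ^ i * B * T ^ j) = (T * (T ^ i * B * T ^ j)) * X' -
          (T ^ i * B * T ^ j) * T * X' := by
        rw [LinearMap.sub_apply, Module.End.one_apply, hs, LinearMap.comp_apply,
          LinearMap.mulRight_apply, LinearMap.mulLeft_apply, hT, mul_sub _ X, sub_mul X, one_mul,
          mul_one, sub_mul, sub_mul, mul_assoc _ X X', h1, mul_one, mul_assoc X]
        abel
      have hc : ∀ l, T ^ l * X' = X' * T ^ l := fun l => (hTX'.pow_left l).eq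
      rw [e1]
      refine sub_mem (AddSubgroup.subset_closure ⟨i + 1, j, B * X', by omega, ?_⟩)
        (AddSubgroup.subset_closure ⟨i, j + 1, B * X', by omega, ?_⟩)
      · rw [pow_succ']
        simp only [mul_assoc]
        rw [hc j]
      · simp only [pow_succ, mul_assoc]
        rw [hTX'.eq, ← mul_assoc (T ^ j) X', hc j, mul_assoc]
    | zero => rw [map_zero]; exact zero_mem _
    | add _ _ _ _ ha hb => rw [map_add]; exact add_mem ha hb
    | neg _ _ ha => rw [map_neg]; exact neg_mem ha
  have hiter : ∀ k : ℕ, ((s - 1) ^ k) A ∈ S k := fun k => by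
    induction k with
    | zero =>
      rw [pow_zero, Module.End.one_apply]
      exact AddSubgroup.subset_closure ⟨0, 0, A, le_rfl, by simp⟩
    | succ k ih => rw [pow_succ', Module.End.mul_apply]; exact hstep k _ ih
  have hpoly : ∑ i ∈ range (p ^ n), (Polynomial.X : Polynomial F) ^ i =
      (Polynomial.X - 1) ^ (p ^ n - 1) := by
    have hpos : 0 < p ^ n := pow_pos (Fact.out : p.Prime).pos n
    refine mul_right_cancel₀ (b := (Polynomial.X : Polynomial F) - 1)
      (by simpa using Polynomial.X_sub_C_ne_zero (1 : F)) ?_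
    rw [geom_sum_mul, ← pow_succ, Nat.sub_add_cancel hpos, sub_pow_char_pow, one_pow]
  have hsum : ∑ i ∈ range (p ^ n), X ^ i * A * X' ^ i = ((s - 1) ^ (p ^ n - 1)) A := by
    have h := congrArg (Polynomial.aeval s) hpoly
    simp only [map_sum, map_pow, Polynomial.aeval_X, map_sub, map_one] at h
    rw [← h, LinearMap.sum_apply]
    exact (Finset.sum_congr rfl fun i _ => hsA i).symm
  rw [hsum]
  have hmem := hiter (p ^ n - 1)
  generalize ((s - 1) ^ (p ^ n - 1)) A = M at hmem ⊢
  induction hmem using AddSubgroup.closure_induction with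
  | mem M hM =>
    obtain ⟨i, j, B, hk, rfl⟩ := hM
    by_cases hi : e + 1 ≤ i
    · exact ⟨T ^ (i - (e + 1)) * B * T ^ j, by
        rw [← mul_assoc, ← mul_assoc, ← pow_add, Nat.add_sub_cancel' hi]⟩
    · refine ⟨0, ?_⟩
      rw [show j = d + (j - d) by omega, pow_add, hd, zero_mul, mul_zero, mul_zero]
  | zero => exact ⟨0, (mul_zero _).symm⟩
  | add _ _ _ _ ha hb =>
    obtain ⟨Z, hZ⟩ := ha
    obtain ⟨W, hW⟩ := hb
    exact ⟨Z + W, by rw [hZ, hW, mul_add]⟩
  | neg _ _ ha =>
    obtain ⟨Z, hZ⟩ := ha
    exact ⟨-Z, by rw [hZ, mul_neg]⟩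

end ringLemma

/-- Let p be a prime and G a finite group whose Sylow p-subgroup P is cyclic of order p^n with n ≥ 2 and meets every other Sylow p-subgroup trivially. Then every faithful irreducible representation of G on a finite-dimensional space over a finite field of characteristic p has dimension at least p^n − (p − 1). -/
theorem result {G : Type*} [Group G] [Finite G] (p : ℕ) [Fact p.Prime] (P : Sylow p G) (hcyc : IsCyclic P) (n : ℕ) (hn : 2 ≤ n) (hPn : Nat.card P = p ^ n) (hTI : ∀ Q : Sylow p G, Q ≠ P → (P : Subgroup G) ⊓ (Q : Subgroup G) = ⊥) (F : Type*) [Field F] [Finite F] [CharP F p] (V : Type*) [AddCommGroup V] [Module F V] [FiniteDimensional F V] (ρ : Representation F G V) (hfaith : Function.Injective ρ) (hirr : ρ.IsIrreducible) : p ^ n - (p - 1) ≤ Module.finrank F V := by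
  classical
  obtain ⟨x, hx⟩ := hcyc.exists_generator
  letI : CommGroup ↥(P : Subgroup G) := hcyc.commGroup
  have hp : p.Prime := Fact.out
  haveI : Fintype G := Fintype.ofFinite G
  by_contra hcon
  set d := Module.finrank F V
  set N := Subgroup.normalizer ((P : Subgroup G) : Set G) with hN
  set α := (P : Subgroup G).normalizerMonoidHom with hα
  set S : Finset ↥(P : Subgroup G) := Finset.univ.image fun m : N => α m x with hS
  set e := S.card with he
  -- the size of the orbit of the generator
  have hle : e ≤ p - 1 := by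
    have h1 : e ≤ Nat.card α.range := by
      rw [he, hS, Nat.card_eq_fintype_card, ← Finset.card_univ]
      refine le_trans (le_of_eq ?_) (Finset.card_image_le (f := fun β : α.range => (β : MulAut _) x))
      congr 1
      ext y
      simp only [Finset.mem_image, Finset.mem_univ, true_and]
      exact ⟨fun ⟨m, hm⟩ => ⟨⟨α m, m, rfl⟩, hm⟩, fun ⟨⟨_, m, hm⟩, hy⟩ => ⟨m, hm ▸ hy⟩⟩
    refine h1.trans (Nat.le_of_dvd (by have := hp.two_le; omega) ?_)
    have h2 : Nat.card α.range ∣ p ^ (n - 1) * (p - 1) := by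
      have := Subgroup.card_subgroup_dvd_card α.range
      rwa [IsCyclic.card_mulAut, hPn, Nat.totient_prime_pow hp (by omega)] at this
    refine Nat.Coprime.dvd_of_dvd_mul_left ?_ h2
    refine Nat.Coprime.pow_right _ ((hp.coprime_iff_not_dvd).2 fun hdvd => ?_).symm
    have hker : (P : Subgroup G).subgroupOf N ≤ α.ker := fun u hu => by
      refine MulEquiv.ext fun v => Subtype.ext ?_
      rw [Subgroup.normalizerMonoidHom_apply_apply_coe]
      have := congrArg Subtype.val (mul_comm (⟨(u : G), hu⟩ : ↥(P : Subgroup G)) v)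
      simp only [Subgroup.coe_mul] at this
      rw [this, mul_inv_cancel_right]
      rfl
    rw [← Subgroup.index_ker] at hdvd
    have h3 := Subgroup.relIndex_mul_index (Subgroup.le_normalizer (H := (P : Subgroup G)))
    exact P.not_dvd_index (dvd_trans hdvd ((Subgroup.index_dvd_of_le hker).trans
      (by rw [← h3]; exact dvd_mul_right _ _)))
  -- notation
  set X : Module.End F V := ρ (x : G) with hX
  set X' : Module.End F V := ρ ((x : G)⁻¹) with hX'
  set T := X - 1 with hT
  have hXX' : X * X' = 1 := by rw [hX, hX', ← map_mul, mul_inv_cancel, map_one]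
  have hX'X : X' * X = 1 := by rw [hX, hX', ← map_mul, inv_mul_cancel, map_one]
  have hxo : orderOf x = p ^ n := by rw [orderOf_eq_card_of_forall_mem_zpowers hx, hPn]
  haveI : Nontrivial (Subrepresentation ρ) := hirr.toNontrivial
  have hVne : ∃ v : V, v ≠ 0 := by
    by_contra hall
    simp only [not_exists, not_not] at hall
    refine bot_ne_top (α := Subrepresentation ρ) (Subrepresentation.toSubmodule_injective ?_)
    exact Submodule.ext fun v => by simp [hall v]
  haveI : Nontrivial V := by obtain ⟨v, hv⟩ := hVne; exact ⟨v, 0, hv⟩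
  haveI : CharP (Module.End F V) p :=
    charP_of_injective_algebraMap (algebraMap F (Module.End F V)).injective p
  have hpow : ∀ k : ℕ, T ^ p ^ k = ρ (((x ^ p ^ k : ↥(P : Subgroup G)) : G)) - 1 := fun k => by
    rw [hT, sub_pow_char_pow_of_commute _ _ (Commute.one_right _), one_pow, Subgroup.coe_pow,
      map_pow]
  have hTq : T ^ p ^ n = 0 := by
    rw [hpow, show x ^ p ^ n = 1 by rw [← hxo]; exact pow_orderOf_eq_one x,
      Subgroup.coe_one, map_one, sub_self]
  have hTd : T ^ d = 0 := by
    have h := Module.End.ker_pow_eq_ker_pow_finrank_of_le (f := T) (m := p ^ n) (by omega)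
    rw [hTq, LinearMap.ker_zero] at h
    exact LinearMap.ker_eq_top.1 h.symm
  have hTe : T ^ e ≠ 0 := fun h0 => by
    have hle' : e ≤ p ^ (n - 1) :=
      hle.trans ((Nat.sub_le _ _).trans (Nat.le_self_pow (by omega) p))
    have h1 : T ^ p ^ (n - 1) = 0 := pow_eq_zero_of_le hle' h0
    rw [hpow, sub_eq_zero, ← map_one ρ] at h1
    have h2 : x ^ p ^ (n - 1) = 1 := Subtype.ext (hfaith h1)
    have h3 := Nat.le_of_dvd (pow_pos hp.pos _) (hxo ▸ orderOf_dvd_of_pow_eq_one h2)
    exact absurd h3 (not_le.2 (Nat.pow_lt_pow_right hp.one_lt (by omega)))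
  -- the invariant element
  set L : MonoidAlgebra F ↥(P : Subgroup G) →ₐ[F] Module.End F V :=
    MonoidAlgebra.lift F (Module.End F V) ↥(P : Subgroup G) (MonoidHom.comp ρ (P : Subgroup G).subtype)
  have hL : ∀ y : ↥(P : Subgroup G), L (MonoidAlgebra.single y 1) = ρ (y : G) := fun y => by
    simp [L, MonoidAlgebra.lift_single]
  set a : MonoidAlgebra F ↥(P : Subgroup G) :=
    ∏ y ∈ S, (MonoidAlgebra.single y 1 - 1) with ha
  set φ := L a with hφ
  have hinv : ∀ m : N, ρ (m : G) * φ = φ * ρ (m : G) := by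
    intro m
    have h1 : ∀ b, ρ (m : G) * L b =
        L (MonoidAlgebra.domCongr F F (α m) b) * ρ (m : G) := by
      intro b
      induction b using MonoidAlgebra.induction_linear with
      | zero => simp
      | add u v hu hv => simp [mul_add, add_mul, hu, hv]
      | single y c =>
        rw [show MonoidAlgebra.single y c = c • MonoidAlgebra.single y (1 : F) by
          rw [MonoidAlgebra.smul_single', mul_one]]
        simp only [map_smul, mul_smul_comm, smul_mul_assoc]
        congr 1
        rw [hL, show MonoidAlgebra.domCongr F F (α m) (MonoidAlgebra.single y 1) =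
          MonoidAlgebra.single (α m y) 1 by simp [MonoidAlgebra.domCongr], hL,
          Subgroup.normalizerMonoidHom_apply_apply_coe, ← map_mul, ← map_mul, inv_mul_cancel_right]
    have h2 : MonoidAlgebra.domCongr F F (α m) a = a := by
      rw [ha, map_prod]
      refine Finset.prod_bij (fun y _ => α m y) (fun y hy => ?_)
        (fun y _ z _ h => (α m).injective h) (fun y hy => ?_) (fun y _ => ?_)
      · simp only [hS, Finset.mem_image, Finset.mem_univ, true_and] at hy ⊢
        obtain ⟨m', rfl⟩ := hy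
        exact ⟨m * m', by rw [map_mul]; rfl⟩
      · simp only [hS, Finset.mem_image, Finset.mem_univ, true_and] at hy
        obtain ⟨m', rfl⟩ := hy
        refine ⟨α (m⁻¹ * m') x, Finset.mem_image.2 ⟨_, Finset.mem_univ _, rfl⟩, ?_⟩
        rw [← MulAut.mul_apply, ← map_mul, mul_inv_cancel_left]
      · simp [MonoidAlgebra.domCongr, MonoidAlgebra.one_def]
    rw [hφ, h1, h2]
  have hW : ∃ W, T ^ e = φ * W := by
    have hdvd : a ∣ (MonoidAlgebra.single x (1 : F) - 1) ^ e := by
      rw [he, ha, ← Finset.prod_const]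
      refine Finset.prod_dvd_prod_of_dvd _ _ fun y hy => ?_
      simp only [hS, Finset.mem_image, Finset.mem_univ, true_and] at hy
      obtain ⟨m, rfl⟩ := hy
      obtain ⟨k, hk⟩ : α m⁻¹ x ∈ Submonoid.powers x := mem_powers_iff_mem_zpowers.2 (hx _)
      have hxk : x = α m x ^ k := by
        rw [← map_pow, show x ^ k = α m⁻¹ x from hk, ← MulAut.mul_apply, ← map_mul,
          mul_inv_cancel, map_one, MulAut.one_apply]
      have e1 : MonoidAlgebra.single x (1 : F) = MonoidAlgebra.single (α m x) 1 ^ k := by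
        rw [MonoidAlgebra.single_pow, one_pow, ← hxk]
      rw [e1]
      exact sub_one_dvd_pow_sub_one _ _
    obtain ⟨w, hw⟩ := hdvd
    refine ⟨L w, ?_⟩
    rw [hφ, ← map_mul, ← hw, map_pow, map_sub, hL, map_one]
  have hφ0 : ∃ Z₀, φ = T * Z₀ := by
    have hd1 : MonoidAlgebra.single x (1 : F) - 1 ∣ a := by
      have hxS : x ∈ S := by
        rw [hS, Finset.mem_image]
        exact ⟨1, Finset.mem_univ _, by rw [map_one, MulAut.one_apply]⟩
      exact Finset.dvd_prod_of_mem _ hxS
    obtain ⟨b, hb⟩ := hd1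
    exact ⟨L b, by rw [hφ, hb, map_mul, map_sub, hL, map_one]⟩
  -- the transfer
  let c : G → Module.End F V := fun g => ρ g * φ * ρ g⁻¹
  have hc : ∀ (g : G) (m : N), c (g * m) = c g := fun g m => by
    simp only [c, map_mul, mul_inv_rev]
    rw [mul_assoc (ρ g) (ρ (m : G)) φ, hinv m]
    simp only [mul_assoc]
    rw [← mul_assoc (ρ (m : G)) (ρ (m : G)⁻¹), ← map_mul, mul_inv_cancel, map_one, one_mul]
  let C : G ⧸ N → Module.End F V := fun q => c q.out
  have hC : ∀ g : G, C (g : G ⧸ N) = c g := fun g => by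
    obtain ⟨m, hm⟩ := QuotientGroup.mk_out_eq_mul N g
    simp only [C, hm, hc]
  have hCs : ∀ (g : G) (q : G ⧸ N), C (g • q) = ρ g * C q * ρ g⁻¹ := fun g q => by
    obtain ⟨h, rfl⟩ := QuotientGroup.mk_surjective q
    rw [MulAction.Quotient.smul_mk, hC, hC, smul_eq_mul]
    simp only [c, map_mul, mul_inv_rev]
    simp only [mul_assoc]
  set Φ := ∑ q : G ⧸ N, C q with hΦ
  have hΦG : ∀ g : G, ρ g * Φ * ρ g⁻¹ = Φ := fun g => by
    rw [hΦ, Finset.mul_sum, Finset.sum_mul]
    simp only [← hCs]
    exact Fintype.sum_equiv (MulAction.toPerm g) _ _ fun q => rfl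
  set q₀ : G ⧸ N := ((1 : G) : G ⧸ N)
  have hfree : ∀ (u : ↥(P : Subgroup G)) (q : G ⧸ N), q ≠ q₀ → (u : G) • q = q → u = 1 := by
    intro u q hq huq
    obtain ⟨g, rfl⟩ := QuotientGroup.mk_surjective q
    rw [MulAction.Quotient.smul_mk, smul_eq_mul, QuotientGroup.eq] at huq
    have hgN : g ∉ N := fun h => hq (QuotientGroup.eq.2 (by simpa using h))
    have hQne : g • P ≠ P := fun h => hgN (Sylow.smul_eq_iff_mem_normalizer.1 h)
    -- a `p`-element of the normalizer lies in `P`
    have hmem : g⁻¹ * (u : G) * g ∈ (P : Subgroup G) := by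
      have hin : g⁻¹ * (u : G) * g ∈ N := by
        have := inv_mem huq
        simpa [mul_assoc] using this
      obtain ⟨k, hk⟩ := P.isPGroup' u
      have hz : IsPGroup p (Subgroup.zpowers (g⁻¹ * (u : G) * g)) := by
        have hord : orderOf (g⁻¹ * (u : G) * g) ∣ p ^ k := by
          refine orderOf_dvd_of_pow_eq_one ?_
          have := congrArg Subtype.val hk
          rw [show g⁻¹ * (u : G) * g = g⁻¹ * (u : G) * (g⁻¹)⁻¹ by rw [inv_inv], conj_pow]
          simp only [Subgroup.coe_pow, Subgroup.coe_one] at this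
          rw [this, mul_one, mul_inv_cancel]
        obtain ⟨j, -, hj⟩ := (Nat.dvd_prime_pow hp).1 hord
        exact IsPGroup.of_card (n := j) (by rw [Nat.card_zpowers, hj])
      have hsup : IsPGroup p (Subgroup.zpowers (g⁻¹ * (u : G) * g) ⊔ (P : Subgroup G) :
          Subgroup G) :=
        hz.to_sup_of_normal_right' P.isPGroup' (Subgroup.zpowers_le.2 hin)
      have := P.is_maximal' hsup le_sup_right
      exact this.le (Subgroup.mem_sup_left (Subgroup.mem_zpowers _))
    have huQ : (u : G) ∈ ((g • P : Sylow p G) : Subgroup G) := by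
      rw [Sylow.coe_subgroup_smul]
      have := Subgroup.smul_mem_pointwise_smul _ (MulAut.conj g) (P : Subgroup G) hmem
      simpa [mul_assoc] using this
    have := (hTI _ hQne).le ⟨u.2, huQ⟩
    exact Subtype.ext (Subgroup.mem_bot.1 this)
  have hfix : ∀ u : ↥(P : Subgroup G), (u : G) • q₀ = q₀ := fun u => by
    rw [MulAction.Quotient.smul_mk, smul_eq_mul, QuotientGroup.eq]
    simpa [hN] using inv_mem (Subgroup.le_normalizer u.2)
  have hrest : ∃ Z, ∑ q ∈ Finset.univ.erase q₀, C q = T ^ (e + 1) * Z := by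
    let cls : G ⧸ N → Quotient (MulAction.orbitRel ↥(P : Subgroup G) (G ⧸ N)) := Quotient.mk _
    rw [← Finset.sum_fiberwise (Finset.univ.erase q₀) cls]
    suffices h : ∀ w, ∃ Z, ∑ q ∈ (Finset.univ.erase q₀).filter (fun q => cls q = w), C q =
        T ^ (e + 1) * Z by
      choose Z hZ using h
      exact ⟨∑ w, Z w, by rw [Finset.mul_sum]; exact Finset.sum_congr rfl fun w _ => hZ w⟩
    intro w
    rcases Finset.eq_empty_or_nonempty ((Finset.univ.erase q₀).filter (fun q => cls q = w)) with
      hE | ⟨r, hr⟩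
    · exact ⟨0, by rw [hE, Finset.sum_empty, mul_zero]⟩
    simp only [Finset.mem_filter, Finset.mem_erase, Finset.mem_univ, and_true] at hr
    obtain ⟨hr0, rfl⟩ := hr
    have hsum : ∑ q ∈ (Finset.univ.erase q₀).filter (fun q => cls q = cls r), C q =
        ∑ i ∈ Finset.range (p ^ n), X ^ i * C r * X' ^ i := by
      symm
      refine Finset.sum_bij (fun i _ => ((x ^ i : ↥(P : Subgroup G)) : G) • r) (fun i _ => ?_)
        (fun i hi j hj hij => ?_) (fun q hq => ?_) (fun i _ => ?_)
      · simp only [Finset.mem_filter, Finset.mem_erase, Finset.mem_univ, and_true]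
        refine ⟨fun h => hr0 ?_, Quotient.sound ⟨x ^ i, rfl⟩⟩
        have h' : r = (((x ^ i : ↥(P : Subgroup G)) : G))⁻¹ • q₀ := by rw [← h, inv_smul_smul]
        rw [h', ← Subgroup.coe_inv, hfix]
      · have h := hfree ((x ^ j)⁻¹ * x ^ i) r hr0 (by
          rw [Subgroup.coe_mul, Subgroup.coe_inv, mul_smul, hij, inv_smul_smul])
        rw [inv_mul_eq_one] at h
        exact pow_injOn_Iio_orderOf (x := x) (by simpa [hxo] using hi) (by simpa [hxo] using hj)
          h.symm
      · simp only [Finset.mem_filter, Finset.mem_erase, Finset.mem_univ, and_true] at hq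
        obtain ⟨u, hu⟩ : q ∈ MulAction.orbit ↥(P : Subgroup G) r := Quotient.exact hq.2
        obtain ⟨i, hi, rfl⟩ : ∃ i < p ^ n, x ^ i = u := by
          obtain ⟨i, hi⟩ : u ∈ Submonoid.powers x := mem_powers_iff_mem_zpowers.2 (hx u)
          exact ⟨i % p ^ n, Nat.mod_lt _ (pow_pos hp.pos n), by
            rw [← hxo, pow_mod_orderOf]; exact hi⟩
        exact ⟨i, Finset.mem_range.2 hi, hu⟩
      · rw [hCs, Subgroup.coe_pow, map_pow, ← inv_pow, map_pow]
    rw [hsum]
    exact exists_orbitSum_eq (F := F) hXX' hX'X hTd (by omega) (C r)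
  obtain ⟨Z, hZ⟩ := hrest
  have hsplit : Φ = φ + T ^ (e + 1) * Z := by
    rw [hΦ, ← Finset.add_sum_erase _ _ (Finset.mem_univ q₀), hZ, hC]
    simp [c]
  obtain ⟨Z₀, hZ₀⟩ := hφ0
  have hrange : LinearMap.range Φ ≤ LinearMap.range T := by
    rintro _ ⟨v, rfl⟩
    refine ⟨(Z₀ + T ^ e * Z) v, ?_⟩
    rw [hsplit, hZ₀, ← Module.End.mul_apply, mul_add, pow_succ', mul_assoc T]
  let U : Subrepresentation ρ := ⟨LinearMap.range Φ, fun g v hv => by
    obtain ⟨w, rfl⟩ := hv
    refine ⟨ρ g w, ?_⟩
    have h := congrArg (fun f : Module.End F V => f (ρ g w)) (hΦG g)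
    simp only [Module.End.mul_apply] at h
    rw [← h, ← Module.End.mul_apply (ρ g⁻¹), ← map_mul, inv_mul_cancel, map_one,
      Module.End.one_apply]⟩
  have hΦ0 : Φ = 0 := by
    rcases hirr.eq_bot_or_eq_top U with hU | hU
    · exact LinearMap.range_eq_bot.1 (congrArg Subrepresentation.toSubmodule hU)
    · exfalso
      have htop : LinearMap.range T = ⊤ := top_le_iff.1 (le_trans
        (le_of_eq (congrArg Subrepresentation.toSubmodule hU).symm) hrange)
      have hsurj : Function.Surjective T := LinearMap.range_eq_top.1 htop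
      have hs2 := hsurj.iterate (p ^ n)
      rw [← Module.End.coe_pow, hTq] at hs2
      obtain ⟨v, hv⟩ := exists_ne (0 : V)
      obtain ⟨w, hw⟩ := hs2 v
      exact hv hw.symm
  obtain ⟨W, hW⟩ := hW
  have hkey : T ^ e = T ^ (e + 1) * (-(Z * W)) := by
    rw [hW, show φ = -(T ^ (e + 1) * Z) from eq_neg_of_add_eq_zero_left (hsplit ▸ hΦ0)]
    noncomm_ring
  have hex : ∃ m, T ^ m = 0 := ⟨d, hTd⟩
  set m := Nat.find hex with hm
  have hmz : T ^ m = 0 := Nat.find_spec hex
  have hem : e < m := by
    by_contra h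
    exact hTe (pow_eq_zero_of_le (not_lt.1 h) hmz)
  refine Nat.find_min hex (show m - 1 < Nat.find hex by omega) ?_
  calc T ^ (m - 1) = T ^ (m - 1 - e) * T ^ e := by rw [← pow_add]; congr 1; omega
    _ = T ^ m * (-(Z * W)) := by
      rw [hkey, ← mul_assoc, ← pow_add]; congr 2; omega
    _ = 0 := by rw [hmz, zero_mul]

end Cfsg.Agent.S4699
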