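import Cfsg.Statements.S4702
import Cfsg.Agent.S0727
import Cfsg.Agent.Perm.SharplyTwo

set_option autoImplicit false
open Cfsg

namespace Cfsg.Agent.S4702

/-- Let G be a triply transitive permutation group on a finite set of odd size m ≥ 3 in which only the identity fixes three or more points. Then m = 2^a + 1 for some a ≥ 1 and G is isomorphic to SL(2, 2^a). -/
theorem result {α : Type*} [Fintype α] [DecidableEq α] (hm : 3 ≤ Fintype.card α) (hodd : Odd (Fintype.card α)) (G : Subgroup (Equiv.Perm α)) (h3 : MulAction.IsMultiplyPretransitive G α 3) (hfix : ∀ g : G, 3 ≤ Nat.card (MulAction.fixedBy α g) → g = 1) : ∃ a : ℕ, 1 ≤ a ∧ Fintype.card α = 2 ^ a + 1 ∧ ∃ (F : Type) (_ : Field F) (_ : Fintype F), Fintype.card F = 2 ^ a ∧ Nonempty (G ≃* Matrix.SpecialLinearGroup (Fin 2) F) := by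
  classical
  have hsharp : ∀ x : Fin 3 ↪ α, MulAction.stabilizer G x = ⊥ := by
    intro x
    rw [eq_bot_iff]
    intro g hg
    rw [Subgroup.mem_bot]
    refine hfix g ?_
    have h := MulAction.mem_stabilizer_iff.1 hg
    have hfx : ∀ i, x i ∈ MulAction.fixedBy α g := fun i => by
      show g • x i = x i
      exact congrArg (fun e : Fin 3 ↪ α => e i) h
    calc 3 = Nat.card (Fin 3) := by simp
      _ ≤ _ := Nat.card_le_card_of_injective (fun i => (⟨x i, hfx i⟩ : MulAction.fixedBy α g))
        (fun i j hij => x.injective (congrArg Subtype.val hij))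
  haveI := h3
  haveI : MulAction.IsPretransitive G α := by
    haveI : MulAction.IsMultiplyPretransitive G α 2 :=
      MulAction.isMultiplyPretransitive_of_le (n := 3) (by norm_num) (by rw [Nat.card_eq_fintype_card]; exact hm)
    exact MulAction.isPretransitive_of_is_two_pretransitive
  obtain ⟨u⟩ : Nonempty α := Fintype.card_pos_iff.1 (by omega)
  haveI : MulAction.IsMultiplyPretransitive (MulAction.stabilizer G u) (SubMulAction.ofStabilizer G u) 2 :=
    SubMulAction.ofStabilizer.isMultiplyPretransitive.1 h3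
  have hsharp2 : ∀ x : Fin 2 ↪ SubMulAction.ofStabilizer G u,
      MulAction.stabilizer (MulAction.stabilizer G u) x = ⊥ := by
    intro x
    rw [eq_bot_iff]
    intro g hg
    rw [Subgroup.mem_bot]
    apply Subtype.ext
    have h := MulAction.mem_stabilizer_iff.1 hg
    have hne : ∀ i, ((x i : SubMulAction.ofStabilizer G u) : α) ≠ u := fun i => (x i).2
    have hfx : ∀ i, (g : G) • ((x i : SubMulAction.ofStabilizer G u) : α) = x i := fun i =>
      congrArg (fun e : Fin 2 ↪ SubMulAction.ofStabilizer G u => ((e i : SubMulAction.ofStabilizer G u) : α)) h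
    refine hfix (g : G) ?_
    let y : Fin 3 → MulAction.fixedBy α (g : G) := Fin.cons ⟨u, MulAction.mem_stabilizer_iff.1 g.2⟩
      (fun i => ⟨(x i : α), hfx i⟩)
    calc 3 = Nat.card (Fin 3) := by simp
      _ ≤ _ := Nat.card_le_card_of_injective y (by
        refine Fin.cons_injective_iff.2 ⟨?_, fun i j hij => x.injective (Subtype.ext (congrArg Subtype.val hij :))⟩
        rintro ⟨i, hi⟩
        exact hne i (congrArg Subtype.val hi :))
  have hn : Nat.card (SubMulAction.ofStabilizer G u) + 1 = Fintype.card α := by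
    rw [SubMulAction.nat_card_ofStabilizer_add_one_eq, Nat.card_eq_fintype_card]
  obtain ⟨q, j, K, hq, hj, hα, -⟩ := CfsgLib.SharplyTwo.exists_kernel hsharp2 (by omega)
  have hq2 : q = 2 := by
    have heven : Even (q ^ j) := by
      rw [← hα]
      rcases hodd with ⟨t, ht⟩
      exact ⟨t, by omega⟩
    exact ((Nat.prime_dvd_prime_iff_eq Nat.prime_two hq).1
      (Nat.prime_two.dvd_of_dvd_pow (even_iff_two_dvd.1 heven))).symm
  subst hq2
  have hcard : Fintype.card α = 2 ^ j + 1 := by omega
  obtain ⟨F, hFf, hFt, hFc, ⟨e⟩⟩ := Cfsg.Agent.S0727.result hj hcard G h3 hsharp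
  refine ⟨j, hj, hcard, F, hFf, hFt, hFc, ?_⟩
  haveI : CharP F 2 := by
    obtain ⟨q, hq⟩ := CharP.exists F
    haveI := hq
    obtain ⟨n, hqp, hn⟩ := FiniteField.card F q
    have h2 : q ∣ 2 ^ j := by rw [← hFc, hn]; exact dvd_pow_self q n.2.ne'
    rw [(Nat.prime_dvd_prime_iff_eq hqp Nat.prime_two).1 (hqp.dvd_of_dvd_pow h2)] at hq
    exact hq
  have hroots : ∀ r : Fˣ, ∃ k : Fˣ, k ^ Fintype.card (Fin 2) = r := by
    intro r
    obtain ⟨c, hc⟩ := (frobeniusEquiv F 2).surjective (r : F)
    have hc' : c ^ 2 = (r : F) := hc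
    have hc0 : c ≠ 0 := fun h => r.ne_zero (by rw [← hc', h]; simp)
    exact ⟨Units.mk0 c hc0, Units.ext (by simpa using hc')⟩
  have hcen : Subgroup.center (Matrix.SpecialLinearGroup (Fin 2) F) = ⊥ := by
    rw [eq_bot_iff]
    intro A hA
    obtain ⟨r, hr, hA'⟩ := Matrix.SpecialLinearGroup.mem_center_iff.1 hA
    have hr1 : r = 1 := by
      have h : frobenius F 2 r = frobenius F 2 1 := by
        simp only [frobenius_def, one_pow]
        simpa using hr
      exact (frobenius F 2).injective h
    rw [Subgroup.mem_bot]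
    apply Subtype.ext
    rw [← hA', hr1]
    simp
  let f : Matrix.SpecialLinearGroup (Fin 2) F →* Matrix.ProjGenLinGroup (Fin 2) F :=
    Matrix.SpecialLinearGroup.toPGL
  have hf : Function.Bijective f := by
    refine ⟨(MonoidHom.ker_eq_bot_iff f).1 ?_, fun y => ?_⟩
    · show (Matrix.SpecialLinearGroup.toPGL (n := Fin 2) (R := F)).ker = ⊥
      rw [Matrix.SpecialLinearGroup.toPGL_ker, hcen]
    · obtain ⟨z, hz⟩ := Matrix.ProjectiveSpecialLinearGroup.toPGL_surj_of_roots hroots y
      induction z using QuotientGroup.induction_on with | H z => exact ⟨z, hz⟩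
  exact ⟨e.trans (MulEquiv.ofBijective f hf).symm⟩

end Cfsg.Agent.S4702
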