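import Cfsg.Statements.S4708
import Cfsg.Agent.Blocks.Principal
import Cfsg.Agent.Blocks.Cover
import Cfsg.Agent.BrauerPairs.CoveredBlock
import Cfsg.Agent.Blocks.AlperinIso
import Cfsg.Agent.Char.Induction

set_option autoImplicit false
set_option linter.style.haveILetI false
open Cfsg Finset CfsgLib.Block CfsgLib.Block.Chr CfsgLib.Char

namespace Cfsg.Agent.S4708

/-- For H ⊴ G, the sum λ of squared degrees over the principal p-block satisfies λ(H) ≤ λ(G) ≤ [G:H]·λ(H). -/
theorem result {G : Type*} [Group G] [Finite G] (p : ℕ) [Fact p.Prime] (M : Ideal Cfsg.AlgInt) (hM : Cfsg.IsPModular p M) (H : Subgroup G) [H.Normal] : (∑ᶠ θ ∈ Cfsg.principalBlock M H, Cfsg.charDegree (θ : H → ℂ) ^ 2) ≤ (∑ᶠ χ ∈ Cfsg.principalBlock M G, Cfsg.charDegree (χ : G → ℂ) ^ 2) ∧ (∑ᶠ χ ∈ Cfsg.principalBlock M G, Cfsg.charDegree (χ : G → ℂ) ^ 2) ≤ H.index * ∑ᶠ θ ∈ Cfsg.principalBlock M H, Cfsg.charDegree (θ : H → ℂ) ^ 2 := by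
  classical
  haveI := Fintype.ofFinite G
  haveI : Fintype H := Fintype.ofFinite H
  haveI := hM.2.1.isPrime
  letI := irrFintype (G := G)
  letI := irrFintype (G := H)
  set B := Cfsg.principalBlock M G
  set b := Cfsg.principalBlock M H
  rw [finsum_set_eq b, finsum_set_eq B]
  have hex : ∀ (χ : IrrCharacter G) (θ : IrrCharacter H), ∃ m : ℕ,
      classInner (fun a : H => (χ : G → ℂ) a) (θ : H → ℂ) = m := fun χ θ =>
    IsCharacter.exists_classInner_eq_natCast
      (IsCharacter.restrict (IsIrrCharacter.isCharacter χ.2) H) θ.2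
  choose m hm using hex
  let dG : IrrCharacter G → ℕ := fun χ => Cfsg.charDegree (χ : G → ℂ)
  let dH : IrrCharacter H → ℕ := fun θ => Cfsg.charDegree (θ : H → ℂ)
  have hmem : ∀ χ ∈ B, ∀ θ : IrrCharacter H, m χ θ ≠ 0 → θ ∈ b := by
    intro χ hχ θ hne
    obtain ⟨g, η, hη, he⟩ := mem_orbitUnion_of_covering (isPBlock_principalBlock (M := M))
      (isPBlock_principalBlock (M := M)) oneIrr_mem_principalBlock hχ oneIrr_mem_principalBlock
      Alperin.one_over_one (ψ := θ) (by rw [hm]; exact_mod_cast hne)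
    rw [he]
    refine (sameBlock_iff_mem isPBlock_principalBlock oneIrr_mem_principalBlock).2 ?_
    have h := sameBlock_conjIrr (M := M) g
      (sameBlock_of_mem isPBlock_principalBlock oneIrr_mem_principalBlock hη)
    rwa [show conjIrr g (oneIrr H) = oneIrr H from Subtype.ext rfl] at h
  have hres : ∀ χ : IrrCharacter G, dG χ = ∑ θ, m χ θ * dH θ := by
    intro χ
    have h := classFun_expand (IsCharacter.isClassFunction
      (IsCharacter.restrict (IsIrrCharacter.isCharacter χ.2) H)) (1 : H)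
    simp only [hm, (irr_one _).1, OneMemClass.coe_one] at h
    exact_mod_cast h
  have hind : ∀ θ : IrrCharacter H, ∑ χ, m χ θ * dG χ = H.index * dH θ := by
    intro θ
    have h := classFun_expand (isClassFunction_indFun H (θ : H → ℂ)) (1 : G)
    have e : ∀ χ : IrrCharacter G, classInner (Cfsg.indFun H (θ : H → ℂ)) (χ : G → ℂ) = m χ θ :=
      fun χ => by
        rw [classInner_indFun _ (isClassFunction_irr χ), ← classInner_conj_symm, hm, Complex.conj_natCast]
    simp only [e, indFun_one, (irr_one _).1] at h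
    exact_mod_cast h.symm
  have key : ∑ χ ∈ univ.filter (· ∈ B), dG χ ^ 2 =
      ∑ θ ∈ univ.filter (· ∈ b), dH θ * ∑ χ ∈ univ.filter (· ∈ B), m χ θ * dG χ := by
    have h1 : ∀ χ ∈ univ.filter (· ∈ B), dG χ ^ 2 =
        ∑ θ ∈ univ.filter (· ∈ b), dH θ * (m χ θ * dG χ) := by
      intro χ hχ
      rw [sum_subset (subset_univ _) fun θ _ hθ => ?_]
      · rw [sq]
        conv_lhs => arg 1; rw [hres χ]
        rw [sum_mul]
        exact sum_congr rfl fun θ _ => by ring
      · have : m χ θ = 0 := by_contra fun h => hθ (mem_filter.2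
          ⟨mem_univ _, hmem χ (mem_filter.1 hχ).2 θ h⟩)
        rw [this, zero_mul, mul_zero]
    rw [sum_congr rfl h1, sum_comm]
    exact sum_congr rfl fun θ _ => by rw [mul_sum]
  refine ⟨?_, ?_⟩
  · show ∑ θ ∈ univ.filter (· ∈ b), dH θ ^ 2 ≤ ∑ χ ∈ univ.filter (· ∈ B), dG χ ^ 2
    rw [key]
    refine sum_le_sum fun θ hθ => ?_
    rw [sq]
    refine Nat.mul_le_mul le_rfl ?_
    obtain ⟨χ, hχ, hc⟩ := CfsgLib.BrauerPairs.exists_over_of_covers hM
      (isPBlock_principalBlock (M := M)) (isPBlock_principalBlock (M := M))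
      oneIrr_mem_principalBlock oneIrr_mem_principalBlock (Alperin.one_over_one (G := G))
      (mem_filter.1 hθ).2
    have h0 : 1 ≤ m χ θ := Nat.one_le_iff_ne_zero.2 fun h => hc (by rw [hm, h, Nat.cast_zero])
    have h1 : dH θ ≤ dG χ := by
      rw [hres χ]
      exact le_trans (Nat.le_mul_of_pos_left _ h0)
        (single_le_sum (f := fun η => m χ η * dH η) (fun _ _ => Nat.zero_le _) (mem_univ θ))
    exact le_trans (h1.trans (Nat.le_mul_of_pos_left _ h0))
      (single_le_sum (f := fun ψ => m ψ θ * dG ψ) (fun _ _ => Nat.zero_le _)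
        (mem_filter.2 ⟨mem_univ _, hχ⟩))
  · show ∑ χ ∈ univ.filter (· ∈ B), dG χ ^ 2 ≤ H.index * ∑ θ ∈ univ.filter (· ∈ b), dH θ ^ 2
    rw [key, mul_sum]
    refine sum_le_sum fun θ _ => ?_
    refine le_trans (Nat.mul_le_mul le_rfl
      ((sum_le_sum_of_subset (subset_univ _)).trans (hind θ).le)) (le_of_eq (by ring))

end Cfsg.Agent.S4708
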