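import Cfsg.Statements.S4709
import Cfsg.Agent.BlocksB.FrobeniusSylow.Main

set_option autoImplicit false
open Cfsg

namespace Cfsg.Agent.S4709

/-- Let p be a prime, M a maximal ideal of the algebraic integers containing p, and G a finite group with a nontrivial abelian Sylow p-subgroup P; put N = N_G(P), C = C_G(P). Suppose N/C is cyclic of order m with 1 < m < #P − 1 (C has index m in N and N is generated by C and one element), and C_G(y) ∩ N = C for every non-identity y ∈ P. Put r = (#P − 1)/m. Then there is s ≤ m such that the principal p-block is the disjoint union of a set X of s characters containing the principal character and a set Y of r characters, with integers a_χ ≠ 0 (χ ∈ X), d and a sign δ = ±1, such that: every χ ∈ X takes the value a_χ at every element whose p-part is a non-identity element of P; there is a map ζ from the non-principal linear characters ψ of P onto Y, constant on N-conjugacy classes,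 with ζ_ψ(z) = d + δ·Σ ψ'(y) for every z whose p-part y is a non-identity element of P, the sum running over the N-conjugates ψ' of ψ; (d − δ)^2 + (r − 1) d^2 + Σ_{χ ∈ X} a_χ^2 = m + 1; all members of Y agree on p-regular elements; and (r d − δ) η(g) + Σ_{χ ∈ X} a_χ χ(g) = 0 for every η ∈ Y and every p-regular g. -/
theorem result {G : Type*} [Group G] [Finite G] (p : ℕ) [Fact p.Prime] (M : Ideal Cfsg.AlgInt) (hM : Cfsg.IsPModular p M) (P : Sylow p G) (hab : IsMulCommutative P) (hP1 : Nat.card P ≠ 1) (m : ℕ) (hm1 : 1 < m) (hm2 : m + 1 < Nat.card P) (hCN : (Subgroup.centralizer ((P : Subgroup G) : Set G)).relIndex (Subgroup.normalizer ((P : Subgroup G) : Set G)) = m) (hcyc : ∃ g : G, g ∈ Subgroup.normalizer ((P : Subgroup G) : Set G) ∧ Subgroup.centralizer ((P : Subgroup G) : Set G) ⊔ Subgroup.zpowers g = Subgroup.normalizer ((P : Subgroup G) : Set G)) (hfrob : ∀ y : G, y ∈ (P : Subgroup G) → y ≠ 1 → Subgroup.centralizer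 ({y} : Set G) ⊓ Subgroup.normalizer ((P : Subgroup G) : Set G) = Subgroup.centralizer ((P : Subgroup G) : Set G)) : ∃ (s : ℕ) (X Y : Set (Cfsg.IrrCharacter G)), s ≤ m ∧ Cfsg.principalBlock M G = X ∪ Y ∧ Disjoint X Y ∧ Nat.card X = s ∧ Nat.card Y = (Nat.card P - 1) / m ∧ (∃ χ₁ ∈ X, (χ₁ : G → ℂ) = fun _ => 1) ∧ ∃ (a : Cfsg.IrrCharacter G → ℤ) (d δ : ℤ) (ζ : (↥(P : Subgroup G) →* ℂˣ) → Cfsg.IrrCharacter G), (δ = 1 ∨ δ = -1) ∧ (∀ χ ∈ X, a χ ≠ 0 ∧ ∀ z y : G, Cfsg.IsPPart p z y → y ∈ (P : Subgroup G) → y ≠ 1 → (χ : G → ℂ) z = (a χ : ℂ)) ∧ (∀ ψ : ↥(P : Subgroup G) →* ℂˣ, ψ ≠ 1 → ζ ψ ∈ Y) ∧ (∀ η ∈ Y, ∃ ψ : ↥(P : Subgroup G) →* ℂˣ, ψ ≠ 1 ∧ ζ ψ = η) ∧ (∀ ψ ψ' : ↥(P : Subgroup G) →* ℂˣ, ψ ≠ 1 → (∃ n : G, n ∈ Subgroup.normalizer ((P : Subgroup G) : Set G) ∧ ∀ w w' : ↥(P : Subgroup G), (w' : G) = n * w * n⁻¹ → ψ' w' = ψ w) → ζ ψ' = ζ ψ) ∧ (∀ ψ : ↥(P : Subgroup G) →* ℂˣ, ψ ≠ 1 → ∀ (z : G) (y : ↥(P : Subgroup G)), Cfsg.IsPPart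 p z (y : G) → (y : G) ≠ 1 → (ζ ψ : G → ℂ) z = (d : ℂ) + (δ : ℂ) * ∑ᶠ ψ' ∈ {ψ' : ↥(P : Subgroup G) →* ℂˣ | ∃ n : G, n ∈ Subgroup.normalizer ((P : Subgroup G) : Set G) ∧ ∀ w w' : ↥(P : Subgroup G), (w' : G) = n * w * n⁻¹ → ψ' w' = ψ w}, ((ψ' y : ℂˣ) : ℂ)) ∧ ((d - δ) ^ 2 + ((Nat.card P - 1) / m - 1 : ℤ) * d ^ 2 + ∑ᶠ χ ∈ X, a χ ^ 2 = (m : ℤ) + 1) ∧ (∀ η ∈ Y, ∀ η' ∈ Y, ∀ g : G, ¬ p ∣ orderOf g → (η : G → ℂ) g = (η' : G → ℂ) g) ∧ (∀ η ∈ Y, ∀ g : G, ¬ p ∣ orderOf g → ((((Nat.card P - 1) / m : ℕ) : ℂ) * d - δ) * (η : G → ℂ) g + ∑ᶠ χ ∈ X, (a χ : ℂ) * (χ : G → ℂ) g = 0) := by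
  haveI := hM.2.1.isPrime
  haveI := Fintype.ofFinite G
  haveI := Fintype.ofFinite (P : Subgroup G)
  letI := CfsgLib.Block.Chr.irrFintype (G := G)
  haveI : Fintype (principalBlock M G) := Fintype.ofFinite _
  classical
  obtain ⟨g, hg, hgen⟩ := hcyc
  have F : CfsgLib.FrobeniusSylow.FrobData P g m := ⟨hab, hg, hgen, hCN, hfrob⟩
  set one : principalBlock M G := ⟨CfsgLib.Block.oneIrr G, CfsgLib.Block.sameBlock_refl _⟩
  have hone : ∀ x : G, ((one : IrrCharacter G) : G → ℂ) x = 1 := fun x => rfl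
  obtain ⟨Y, rep, c, δ, S, hδ, honeY, hS1, hcard, hY, hX, horb, hnorm, hreg⟩ :=
    F.exists_structure hM hm2 hone
  have hr : (Nat.card (P : Subgroup G) - 1) / m = Y.card := by
    rw [← hcard, Nat.add_sub_cancel, Nat.mul_div_cancel_left _ (by omega : 0 < m)]
  have hset : ∀ s : Finset (principalBlock M G),
      Nat.card (Subtype.val '' (s : Set (principalBlock M G))) = s.card := fun s => by
    rw [Nat.card_image_of_injective Subtype.val_injective, Nat.card_eq_fintype_card]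
    simp
  have hY1 : 1 ≤ Y.card := by
    rcases Nat.eq_zero_or_pos Y.card with h | h
    · rw [h, mul_zero] at hcard; omega
    · exact h
  have hagree : ∀ y ∈ Y, ∀ y' ∈ Y, ∀ x : G, ¬ p ∣ orderOf x →
      ((y : IrrCharacter G) : G → ℂ) x = ((y' : IrrCharacter G) : G → ℂ) x := by
    intro y hy y' hy' x hx
    have h0 : (δ : ℂ) ≠ 0 := by rcases hδ with e | e <;> simp [e]
    refine mul_left_cancel₀ h0 ?_
    linear_combination hreg y hy x hx - hreg y' hy' x hx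
  let ζ : ((P : Subgroup G) →* ℂˣ) → IrrCharacter G := fun ψ =>
    if h : ψ = 1 then one.1 else ((horb ψ h).choose).1
  have hζ : ∀ ψ, ∀ h : ψ ≠ 1, ζ ψ = ((horb ψ h).choose).1 := fun ψ h => dif_neg h
  refine ⟨Yᶜ.card, Subtype.val '' ((Yᶜ : Finset (principalBlock M G)) : Set (principalBlock M G)),
    Subtype.val '' (Y : Set (principalBlock M G)), ?_, ?_, ?_, hset _, (hset _).trans hr.symm,
    ⟨one.1, ⟨one, Finset.mem_coe.2 (Finset.mem_compl.2 honeY), rfl⟩, funext hone⟩,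
    fun χ => if h : χ ∈ principalBlock M G then -S ⟨χ, h⟩ else 0, -c, δ, ζ, hδ, ?_, ?_, ?_, ?_, ?_, ?_,
    ?_, ?_⟩
  · have h1 : (Yᶜ.card : ℤ) ≤ ∑ x ∈ Yᶜ, S x ^ 2 := by
      simpa using Finset.card_nsmul_le_sum Yᶜ (fun x => S x ^ 2) 1 fun x hx => by
        have := (hX x (Finset.mem_compl.1 hx)).1
        have h2 : 0 < S x ^ 2 := by positivity
        omega
    have h2 : 1 ≤ (c + δ) ^ 2 + ((Y.card : ℤ) - 1) * c ^ 2 := by
      have hY2 : (2 : ℤ) ≤ (Y.card : ℤ) := by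
        rcases Nat.lt_or_ge Y.card 2 with h | h
        · have : m * Y.card ≤ m * 1 := Nat.mul_le_mul_left m (by omega)
          omega
        · exact_mod_cast h
      by_cases hc : c = 0
      · rcases hδ with e | e <;> simp [hc, e]
      · have h3 : 0 < c ^ 2 := by positivity
        nlinarith [sq_nonneg (c + δ)]
    omega
  · ext χ
    constructor
    · intro hχ
      by_cases h : (⟨χ, hχ⟩ : principalBlock M G) ∈ Y
      · exact Or.inr ⟨_, h, rfl⟩
      · exact Or.inl ⟨⟨χ, hχ⟩, Finset.mem_coe.2 (Finset.mem_compl.2 h), rfl⟩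
    · rintro (⟨x, -, rfl⟩ | ⟨x, -, rfl⟩) <;> exact x.2
  · rw [Set.disjoint_image_iff Subtype.val_injective, Finset.disjoint_coe]
    exact disjoint_compl_left
  · rintro _ ⟨x, hx, rfl⟩
    obtain ⟨hS0, hv⟩ := hX x (Finset.mem_compl.1 hx)
    simp only [dif_pos x.2, Subtype.coe_eta]
    refine ⟨neg_ne_zero.2 hS0, fun z y hzy hy hy1 => ?_⟩
    rw [F.apply_eq_of_pPart hM x.2 hzy hy hy1,
      show (y : G) = ((⟨y, hy⟩ : (P : Subgroup G)) : G) from rfl,
      hv _ fun h => hy1 (congrArg Subtype.val h)]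
    push_cast
    rfl
  · intro ψ hψ
    rw [hζ ψ hψ]
    exact ⟨_, (horb ψ hψ).choose_spec.1.1, rfl⟩
  · rintro _ ⟨y, hy, rfl⟩
    have hne := (hY y hy).1
    refine ⟨rep y, hne, ?_⟩
    rw [hζ _ hne]
    exact congrArg Subtype.val ((horb _ hne).choose_spec.2 y
      ⟨hy, 0, by omega, MonoidHom.ext fun w => congrArg (rep y) (F.act_zero w).symm⟩).symm
  · intro ψ ψ' hψ h
    obtain ⟨l, hl, rfl⟩ := F.mem_conj_iff.1 h
    have hne := F.comp_act_ne_one hψ l
    rw [hζ _ hne, hζ _ hψ]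
    obtain ⟨hy, j, hj, he⟩ := (horb ψ hψ).choose_spec.1
    exact congrArg Subtype.val ((horb _ hne).choose_spec.2 _
      ⟨hy, (F.exists_translate_iff he).1 ⟨l, hl, rfl⟩⟩).symm
  · intro ψ hψ z y hzy hy1
    obtain ⟨hy, j, hj, he⟩ := (horb ψ hψ).choose_spec.1
    have hy1' : y ≠ 1 := fun h => hy1 (congrArg Subtype.val h)
    rw [hζ ψ hψ, F.apply_eq_of_pPart hM (horb ψ hψ).choose.2 hzy y.2 hy1,
      (hY _ hy).2 y hy1', F.finsum_conj (hY _ hy).1 he y]
    push_cast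
    rfl
  · rw [finsum_mem_image Subtype.val_injective.injOn, finsum_mem_coe_finset,
      Finset.sum_congr rfl (g := fun x => S x ^ 2) fun x _ => by
        simp only [dif_pos x.2, Subtype.coe_eta, neg_sq]]
    have h1 : (((Nat.card (P : Subgroup G) : ℤ) - 1) / (m : ℤ)) = (Y.card : ℤ) := by
      rw [← hcard]
      push_cast
      rw [add_sub_cancel_right, Int.mul_ediv_cancel_left _ (by omega : (m : ℤ) ≠ 0)]
    rw [h1]
    linear_combination hnorm
  · rintro _ ⟨y, hy, rfl⟩ _ ⟨y', hy', rfl⟩ x hx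
    exact hagree y hy y' hy' x hx
  · rintro _ ⟨y, hy, rfl⟩ x hx
    rw [finsum_mem_image Subtype.val_injective.injOn, finsum_mem_coe_finset,
      Finset.sum_congr rfl (g := fun z => -((S z : ℂ) * ((z : IrrCharacter G) : G → ℂ) x))
        fun z _ => by simp only [dif_pos z.2, Subtype.coe_eta, Int.cast_neg, neg_mul],
      Finset.sum_neg_distrib, hr]
    have h := hreg y hy x hx
    rw [Finset.sum_congr rfl fun z hz => hagree z hz y hy x hx, Finset.sum_const, nsmul_eq_mul] at h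
    push_cast
    linear_combination -h

end Cfsg.Agent.S4709
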