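import Cfsg.Statements.S4711
import Cfsg.Agent.FGSB.BlockDim
import Cfsg.Agent.FGSA.PLengthSeries
import Cfsg.Agent.OddLocal.CoprimeSupplement
import Cfsg.Agent.Blocks.PSolvablePrincipal
import Cfsg.Agent.Char.TwoClass

set_option autoImplicit false
open Cfsg

namespace Cfsg.Agent.S4711

/-- Let p be a prime, M a maximal ideal of the algebraic integers containing p, G a finite group, P a Sylow p-subgroup and N = N_G(P). Then G has p-length 1 (G = O_{p',p,p'}(G)) if and only if every irreducible character in the principal p-block of G restricts to an irreducible character of N. -/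
theorem result {G : Type*} [Group G] [Finite G] (p : ℕ) [Fact p.Prime] (M : Ideal Cfsg.AlgInt) (hM : Cfsg.IsPModular p M) (P : Sylow p G) : Cfsg.PLengthLE p 1 G ↔ ∀ χ ∈ Cfsg.principalBlock M G, Cfsg.IsIrrCharacter ↥(Subgroup.normalizer ((P : Subgroup G) : Set G)) (fun n : ↥(Subgroup.normalizer ((P : Subgroup G) : Set G)) => (χ : G → ℂ) n) := by
  classical
  haveI := Fintype.ofFinite G
  haveI := hM.2.1
  constructor
  · intro hlen χ hχ
    haveI : ((Cfsg.upperPSeries p G 1).1).Normal := Cfsg.upperPSeries_normal p G 1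
    haveI : ((Cfsg.upperPSeries p G 2).1).Normal := Cfsg.upperPSeries_normal p G 2
    have hps : Cfsg.IsPSolvable p G := by
      refine ⟨3, fun i => (Cfsg.upperPSeries p G i.val).1, rfl, hlen,
        fun i j hij => CfsgLib.FGSA.PLen.U_mono (p := p) (G := G) hij,
        fun i => Cfsg.upperPSeries_normal p G _, fun i => ?_⟩
      have h := CfsgLib.FGSA.PLen.good_factor (G := G) (p := p) i.val
      unfold CfsgLib.FGSA.PLen.Good at h
      split at h
      · exact Or.inr h
      · exact Or.inl h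
    obtain ⟨O, hO, hOc, hJ, -⟩ := CfsgLib.OddLocal.Supp.exists_data hlen P
    haveI := hJ
    haveI := CfsgLib.Solvable.pPrimeCore_normal (G := G) p
    have hker := ((CfsgLib.Block.principalBlock_of_constrained hM
      (CfsgLib.Block.selfCent_quotient_of_pSolvable hps)).1 χ).1 hχ
    obtain ⟨σ, hσ, hχσ⟩ := CfsgLib.Char.TwoClass.exists_deflate χ.2 hker
    have htop : Cfsg.pPrimeCore p G ⊔ Subgroup.normalizer ((P : Subgroup G) : Set G) = ⊤ := by
      refine eq_top_iff.2 ?_
      have h1 := Sylow.normalizer_sup_eq_top (P.subtype (le_sup_right :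
        (P : Subgroup G) ≤ O ⊔ (P : Subgroup G)))
      rw [Sylow.coe_subtype, Subgroup.map_subgroupOf_eq_of_le
        (le_sup_right : (P : Subgroup G) ≤ O ⊔ (P : Subgroup G))] at h1
      rw [← h1]
      exact sup_le le_sup_right (sup_le_sup (CfsgLib.Solvable.le_pPrimeCore p hO hOc)
        Subgroup.le_normalizer)
    rw [hχσ]
    refine CfsgLib.Char.IsIrrCharacter.comp_surjective hσ
      ((QuotientGroup.mk' (Cfsg.pPrimeCore p G)).comp
        (Subgroup.normalizer ((P : Subgroup G) : Set G)).subtype) fun y => ?_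
    obtain ⟨g, rfl⟩ := QuotientGroup.mk'_surjective (Cfsg.pPrimeCore p G) y
    obtain ⟨k, hk, n, hn, rfl⟩ := Subgroup.mem_sup_of_normal_left.1
      (htop.symm ▸ Subgroup.mem_top g)
    refine ⟨⟨n, hn⟩, ?_⟩
    rw [MonoidHom.comp_apply, map_mul, QuotientGroup.mk'_apply, QuotientGroup.mk'_apply,
      QuotientGroup.mk'_apply, (QuotientGroup.eq_one_iff k).2 hk, one_mul]
    rfl
  · intro h
    obtain ⟨H, K, hH, hK, hKH, hHi, hKp, hrel⟩ := CfsgLib.BlockDim.exists_series hM P h
    have h1 : K ≤ CfsgLib.FGSA.PLen.U p G 1 := CfsgLib.FGSA.PLen.le_succ (j := 0) hK (by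
      rw [CfsgLib.FGSA.PLen.U_zero, Subgroup.relIndex_bot_left, CfsgLib.FGSA.PLen.Good,
        if_pos (by decide : Even 0)]
      exact ((Fact.out : p.Prime).coprime_iff_not_dvd.2 hKp).symm)
    have h2 : H ≤ CfsgLib.FGSA.PLen.U p G 2 := CfsgLib.FGSA.PLen.le_succ (j := 1) hH (by
      refine CfsgLib.FGSA.PLen.Good.of_dvd ?_ (Subgroup.relIndex_dvd_of_le_left _ h1)
      rw [CfsgLib.FGSA.PLen.Good, if_neg (by decide : ¬ Even 1), hrel]
      exact IsPGroup.iff_card.1 P.2)
    exact top_le_iff.1 (CfsgLib.FGSA.PLen.le_succ (j := 2) (W := ⊤) inferInstance (by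
      rw [CfsgLib.FGSA.PLen.Good, if_pos (by decide : Even 2), Subgroup.relIndex_top_right]
      exact ((Fact.out : p.Prime).coprime_iff_not_dvd.2 hHi).symm.coprime_dvd_left
        (Subgroup.index_dvd_of_le h2)))

end Cfsg.Agent.S4711
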