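import Cfsg.Statements.S4712
import Cfsg.Agent.Blocks.GaloisSection

set_option linter.style.haveILetI false
set_option autoImplicit false
open Cfsg

namespace Cfsg.Agent.S4712

/-- Let p be an odd prime, M a maximal ideal of the algebraic integers containing p, G a finite group of order n with p-part p^a, and B a p-block of G. Call an irreducible character χ p-rational when χ(g^k) = χ(g) for every g and every k coprime to n with k ≡ 1 modulo n/p^a (χ is fixed by the Galois automorphisms fixing the roots of unity of order prime to p). Then the number of p-rational irreducible characters in B is at least the p-regular rank of B (the number of irreducible Brauer characters in B). -/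
theorem result {G : Type*} [Group G] [Finite G] (p : ℕ) [Fact p.Prime] (hodd : p ≠ 2) (M : Ideal Cfsg.AlgInt) (hM : Cfsg.IsPModular p M) (B : Set (Cfsg.IrrCharacter G)) (hB : Cfsg.IsPBlock M B) : Cfsg.blockRank p B ≤ Nat.card {χ : Cfsg.IrrCharacter G // χ ∈ B ∧ ∀ k : ℕ, Nat.Coprime k (Nat.card G) → k ≡ 1 [MOD Nat.card G / p ^ (Nat.card G).factorization p] → ∀ g : G, (χ : G → ℂ) (g ^ k) = (χ : G → ℂ) g} := by
  classical
  letI := Fintype.ofFinite G
  haveI := hM.2.1.isPrime
  obtain ⟨k₀, hc, hk, hgen⟩ := CfsgLib.GaloisSection.exists_generator (p := p) hodd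
    (Nat.card_pos (α := G)).ne'
  refine (CfsgLib.GaloisSection.blockRank_le_fixed hM hB hc hk).trans
    (Nat.card_le_card_of_injective (fun χ => ⟨χ.1, χ.2.1, fun k hk hk' g => ?_⟩) fun χ ψ h =>
      Subtype.ext (Subtype.mk.inj h))
  obtain ⟨i, hi⟩ := hgen k hk hk'
  rw [pow_eq_pow_iff_modEq.2 (hi.of_dvd (orderOf_dvd_natCard g))]
  clear hi
  induction i with
  | zero => rw [pow_zero, pow_one]
  | succ i ih => rw [pow_succ, pow_mul, χ.2.2, ih]

end Cfsg.Agent.S4712
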