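import Cfsg.Statements.S4713
import Cfsg.Agent.Char.DegreesPrime
import Cfsg.Agent.Char.TwoDegrees
import Cfsg.Agent.Char.Inflation
import Cfsg.Agent.Char.BrauerPerm
import Cfsg.Agent.Char.DegreeRatio
import Cfsg.Agent.Char.CoprimeComplement
import Cfsg.Agent.FGSA.AbelianSylowLength
import Cfsg.Agent.FGSB.Small
import Cfsg.Agent.Solvable.Basics

set_option autoImplicit false
open Cfsg

namespace Cfsg.Agent.S4713

open CfsgLib.Char
open scoped commutatorElement

universe u

/-- A group all of whose irreducible characters are linear is abelian. -/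
theorem comm_of_linear {A : Type u} [Group A] [Finite A]
    (h : ∀ χ : A → ℂ, Cfsg.IsIrrCharacter A χ → χ 1 = 1) (x y : A) : x * y = y * x := by
  classical
  haveI := Fintype.ofFinite A
  rw [← commutatorElement_eq_one_iff_mul_comm]
  by_contra hne
  have h1 := congrFun (leftRegular_eq_sum (G := A)) ⁅x, y⁆
  rw [leftRegular_character, if_neg hne, Finset.sum_apply,
    Finset.sum_congr rfl (g := fun χ => χ 1 ^ 2) fun χ hχ => by
      obtain ⟨lam, rfl⟩ := IsCharacter.exists_hom
        (IsIrrCharacter.isCharacter (mem_irrFinset.1 hχ)) (h χ (mem_irrFinset.1 hχ))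
      rw [Pi.smul_apply, map_commutatorElement,
        commutatorElement_eq_one_iff_commute.2 (Commute.all _ _)]
      simp, sum_degree_sq] at h1
  exact Nat.cast_ne_zero.2 Nat.card_pos.ne' h1.symm

/-- A coprime p-group fixing every irreducible character centralises. -/
theorem centralizes_of_fixed {G : Type u} [Group G] [Finite G] {p : ℕ} [Fact p.Prime] (N : Subgroup G)
    [hN : N.Normal] (hpN : ¬ p ∣ Nat.card N) (S : Subgroup G) (hS : IsPGroup p S)
    (hfix : ∀ θ : N → ℂ, Cfsg.IsIrrCharacter N θ → ∀ x ∈ S, conjOn x θ = θ) :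
    ∀ n : N, ∀ x ∈ S, x * (n : G) = (n : G) * x := by
  classical
  haveI := Fintype.ofFinite G
  haveI : Finite (Cfsg.IrrCharacter N) := Finite.of_injective
    (fun χ => (⟨χ.1, mem_irrFinset.2 χ.2⟩ : irrFinset (G := N))) fun a b h => Subtype.ext (congrArg (·.1) h)
  have hcls : ∀ x ∈ S, ∀ n : N, IsConj n (MulAut.conjNormal x n) := by
    intro x hx n
    have key := card_fixed_irr_aut (G := N) (MulAut.conjNormal x)
    have h1 : Nat.card {χ : Cfsg.IrrCharacter N // (χ : N → ℂ) ∘ (MulAut.conjNormal x : N ≃* N) = χ} =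
        Nat.card (ConjClasses N) := by
      rw [← card_irr_eq_card_conjClasses]
      exact Nat.card_congr (Equiv.subtypeUnivEquiv fun χ => (conjOn_eq_comp x χ.1).symm.trans (hfix χ.1 χ.2 x hx))
    rw [h1] at key
    have hall : ∀ C : ConjClasses N, ConjClasses.map (MulAut.conjNormal x : N ≃* N).toMonoidHom C = C := by
      intro C
      have hb := (Nat.bijective_iff_injective_and_card (Subtype.val : {C : ConjClasses N //
        ConjClasses.map (MulAut.conjNormal x : N ≃* N).toMonoidHom C = C} → ConjClasses N)).2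
        ⟨Subtype.val_injective, key⟩
      obtain ⟨⟨D, hD⟩, rfl⟩ := hb.2 C
      exact hD
    exact (ConjClasses.mk_eq_mk_iff_isConj.1 (hall (ConjClasses.mk n))).symm
  let M : Subgroup N := (Subgroup.centralizer (S : Set G)).comap N.subtype
  suffices hM : M = ⊤ by
    intro n x hx
    exact (hM ▸ Subgroup.mem_top n : n ∈ M) x hx
  refine CfsgLib.FGSBSmall.eq_top_of_conj_cover fun n => ?_
  letI : MulAction S {m : N // IsConj n m} :=
    { smul := fun s m => ⟨MulAut.conjNormal (s : G) m.1, m.2.trans (hcls s s.2 m.1)⟩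
      one_smul := fun m => Subtype.ext (by
        show MulAut.conjNormal ((1 : S) : G) m.1 = m.1
        simp)
      mul_smul := fun a b m => Subtype.ext (by
        show MulAut.conjNormal ((a * b : S) : G) m.1 = MulAut.conjNormal (a : G) (MulAut.conjNormal (b : G) m.1)
        rw [Subgroup.coe_mul, map_mul, MulAut.mul_apply]) }
  have hnd : ¬ p ∣ Nat.card {m : N // IsConj n m} := by
    intro hd
    refine hpN (hd.trans ?_)
    have e : Nat.card {m : N // IsConj n m} = (MulAction.stabilizer (ConjAct N) n).index := by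
      rw [MulAction.index_stabilizer, ← Nat.card_coe_set_eq]
      refine Nat.card_congr (Equiv.subtypeEquivRight fun m => ?_)
      rw [ConjAct.mem_orbit_conjAct]
      exact isConj_comm
    rw [e]
    exact (Subgroup.index_dvd_card _).trans (dvd_of_eq (Nat.card_congr (ConjAct.toConjAct (G := N)).toEquiv).symm)
  obtain ⟨m, hm⟩ := hS.nonempty_fixed_point_of_prime_not_dvd_card _ hnd
  obtain ⟨c, hc⟩ := isConj_iff.1 m.2
  refine ⟨c⁻¹, ?_⟩
  rw [inv_inv, hc]
  intro x hx
  have h := congrArg (fun q : {m : N // IsConj n m} => ((q.1 : N) : G)) (hm ⟨x, hx⟩)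
  change x * (m.1 : G) * x⁻¹ = (m.1 : G) at h
  exact mul_inv_eq_iff_eq_mul.1 h

/-- No degree divisible by p: the Sylow subgroup is normal. -/
theorem exists_sylow {p : ℕ} [Fact p.Prime] (n : ℕ) :
    ∀ (G : Type u) [Group G] [Finite G], Nat.card G = n → Cfsg.IsPSolvable p G →
      (∀ χ : G → ℂ, Cfsg.IsIrrCharacter G χ → ∀ m : ℕ, χ 1 = m → ¬ p ∣ m) →
      ∃ P : Subgroup G, P.Normal ∧ IsPGroup p P ∧ ¬ p ∣ P.index := by
  classical
  induction n using Nat.strong_induction_on with | _ n ih => ?_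
  intro G _ _ hn hsolv hdeg
  haveI := Fintype.ofFinite G
  have hp : p.Prime := Fact.out
  cases subsingleton_or_nontrivial G with
  | inl h => exact ⟨⊤, inferInstance, fun g => ⟨0, Subsingleton.elim _ _⟩, by simp [hp.ne_one]⟩
  | inr h =>
  obtain ⟨N, hN, hN1, hNcase⟩ : ∃ N : Subgroup G, N.Normal ∧ N ≠ ⊥ ∧ (IsPGroup p N ∨ ¬ p ∣ Nat.card N) := by
    rcases CfsgLib.PConstrained.exists_core_ne_bot hsolv with h | h
    · exact ⟨_, CfsgLib.Solvable.pCore_normal (G := G) p, h, Or.inl (CfsgLib.Solvable.isPGroup_pCore p)⟩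
    · exact ⟨_, CfsgLib.Solvable.pPrimeCore_normal (G := G) p, h, Or.inr
        (hp.coprime_iff_not_dvd.1 (CfsgLib.Solvable.coprime_card_pPrimeCore p).symm)⟩
  haveI := hN
  haveI := Fintype.ofFinite N
  have hlt : Nat.card (G ⧸ N) < n := by
    rw [← hn, ← Subgroup.index_eq_card, ← N.card_mul_index]
    exact lt_mul_left (Nat.pos_of_ne_zero Subgroup.index_ne_zero_of_finite)
      ((N.one_lt_card_iff_ne_bot).2 hN1)
  obtain ⟨Q, hQn, hQp, hQi⟩ := ih _ hlt (G ⧸ N) rfl
    (CfsgLib.PConstrained.isPSolvable_map _ (QuotientGroup.mk'_surjective N) hsolv) fun σ hσ m hm =>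
    hdeg _ (IsIrrCharacter.inflate N hσ) m (by rw [← hm]; simp [CfsgLib.Char.inflate])
  obtain ⟨H, hH⟩ : ∃ H, Q.comap (QuotientGroup.mk' N) = H := ⟨_, rfl⟩
  haveI : H.Normal := hH ▸ hQn.comap _
  have hHi : ¬ p ∣ H.index := by
    rwa [← hH, Subgroup.index_comap_of_surjective _ (QuotientGroup.mk'_surjective N)]
  have hNH : N ≤ H := hH ▸ fun x hx => by
    rw [Subgroup.mem_comap, QuotientGroup.mk'_apply, (QuotientGroup.eq_one_iff x).2 hx]
    exact one_mem Q
  obtain ⟨k, hk⟩ : ∃ k, N.relIndex H = p ^ k := by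
    obtain ⟨k, hk⟩ := IsPGroup.iff_card.1 hQp
    refine ⟨k, ?_⟩
    rw [← hk, ← Subgroup.map_comap_eq_self_of_surjective (QuotientGroup.mk'_surjective N) Q, hH,
      ← Subgroup.relIndex_ker, QuotientGroup.ker_mk']
  rcases hNcase with hNp | hpN
  · obtain ⟨a, ha⟩ := IsPGroup.iff_card.1 hNp
    refine ⟨H, inferInstance, IsPGroup.of_card (n := a + k) ?_, hHi⟩
    rw [← Subgroup.relIndex_bot_left H, ← Subgroup.relIndex_mul_relIndex ⊥ N H bot_le hNH,
      Subgroup.relIndex_bot_left, hk, ha, pow_add]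
  obtain ⟨S⟩ : Nonempty (Sylow p G) := inferInstance
  have hSH : (S : Subgroup G) ≤ H := by
    obtain ⟨a, ha⟩ := IsPGroup.iff_card.1 S.2
    obtain ⟨j, -, hj⟩ := (Nat.dvd_prime_pow hp).1
      (ha ▸ Subgroup.index_dvd_card (H.subgroupOf (S : Subgroup G)))
    rcases Nat.eq_zero_or_pos j with rfl | hj0
    · exact Subgroup.relIndex_eq_one.1 hj
    · refine absurd ((dvd_pow_self p hj0.ne').trans ?_) hHi
      rw [← hj]
      exact Subgroup.relIndex_dvd_index_of_normal H (S : Subgroup G)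
  have hHle : H ≤ N ⊔ (S : Subgroup G) := by
    refine Subgroup.relIndex_eq_one.1 (Nat.eq_one_of_dvd_coprimes ?_
      (Subgroup.relIndex_dvd_of_le_left H le_sup_left) (Subgroup.relIndex_dvd_of_le_left H le_sup_right))
    rw [hk]
    refine Nat.Coprime.pow_left k (hp.coprime_iff_not_dvd.2 fun hd => S.not_dvd_index ?_)
    rw [← Subgroup.relIndex_mul_index hSH]
    exact hd.mul_right _
  have hfix : ∀ θ : N → ℂ, Cfsg.IsIrrCharacter N θ → ∀ x ∈ (S : Subgroup G), conjOn x θ = θ := by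
    intro θ hθ x hx
    obtain ⟨F, hF, hFc⟩ := DegreesPrime.exists_over N hθ
    obtain ⟨D, -, hD⟩ := IsIrrCharacter.exists_degree hF
    obtain ⟨d, -, hd⟩ := IsIrrCharacter.exists_degree hθ
    obtain ⟨e, he⟩ := IsCharacter.exists_classInner_eq_natCast
      (IsCharacter.restrict (IsIrrCharacter.isCharacter hF) N) hθ
    have h := degree_eq_mul hF hθ hFc
    rw [he, hD, hd, ← Nat.cast_mul, ← Nat.cast_mul, Nat.cast_inj] at h
    have hI : ¬ p ∣ (inertia (G := G) θ).index := fun hh =>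
      hdeg F hF D hD (h ▸ (hh.mul_left e).mul_right d)
    have hrel : (inertia (G := G) θ).relIndex H = 1 := by
      have hN' : N ≤ inertia (G := G) θ := le_inertia (IsIrrCharacter.isClassFunction hθ)
      obtain ⟨j, -, hj⟩ := (Nat.dvd_prime_pow hp).1
        (hk ▸ Subgroup.relIndex_dvd_of_le_left H hN' : (inertia (G := G) θ).relIndex H ∣ p ^ k)
      rcases Nat.eq_zero_or_pos j with rfl | hj0
      · exact hj
      · have e1 := Subgroup.relIndex_mul_index (show inertia (G := G) θ ⊓ H ≤ H from inf_le_right)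
        have e2 := Subgroup.relIndex_mul_index (show inertia (G := G) θ ⊓ H ≤ inertia (G := G) θ from inf_le_left)
        rw [Subgroup.inf_relIndex_right] at e1
        rw [Subgroup.inf_relIndex_left] at e2
        have hd2 : p ∣ H.relIndex (inertia (G := G) θ) * (inertia (G := G) θ).index :=
          e2 ▸ e1 ▸ hj ▸ (dvd_pow_self p hj0.ne').mul_right _
        rcases hp.dvd_mul.1 hd2 with hd2 | hd2
        · exact absurd (hd2.trans (Subgroup.relIndex_dvd_index_of_normal H (inertia (G := G) θ))) hHi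
        · exact absurd hd2 hI
    exact (mem_inertia θ x).1 (Subgroup.relIndex_eq_one.1 hrel (hSH hx))
  have hcentral := centralizes_of_fixed N hpN (S : Subgroup G) S.2 hfix
  refine ⟨S, ⟨fun x hx g => ?_⟩, S.2, S.not_dvd_index⟩
  obtain ⟨m, hm, y, hy, hmy⟩ := Subgroup.mem_sup_of_normal_left.1
    (hHle (Subgroup.Normal.conj_mem inferInstance x (hSH hx) g))
  have hcm : Commute m y := (hcentral ⟨m, hm⟩ y hy).symm
  obtain ⟨a, ha⟩ := IsPGroup.iff_card.1 S.2
  have hpow : ∀ z ∈ (S : Subgroup G), z ^ p ^ a = 1 := fun z hz => by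
    rw [← ha, ← orderOf_dvd_iff_pow_eq_one]
    exact Subgroup.orderOf_dvd_natCard _ hz
  have h1 : m ^ p ^ a = 1 := by
    have h2 : (g * x * g⁻¹) ^ p ^ a = 1 := by rw [conj_pow, hpow x hx, mul_one, mul_inv_cancel]
    rwa [← hmy, hcm.mul_pow, hpow y hy, mul_one] at h2
  have h3 : m = 1 := orderOf_eq_one_iff.1 (Nat.eq_one_of_dvd_coprimes
    ((hp.coprime_iff_not_dvd.2 hpN).pow_left a) (orderOf_dvd_of_pow_eq_one h1)
    (Subgroup.orderOf_dvd_natCard _ hm))
  rw [← hmy, h3, one_mul]
  exact hy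


/-- Let p be a prime and G a finite p-solvable group. Then G has a normal abelian Sylow p-subgroup if and only if the degree of every irreducible character of G is prime to p. -/
theorem result {G : Type*} [Group G] [Finite G] (p : ℕ) [Fact p.Prime] (hsolv : Cfsg.IsPSolvable p G) (P : Sylow p G) : ((P : Subgroup G).Normal ∧ IsMulCommutative P) ↔ ∀ χ : Cfsg.IrrCharacter G, ¬ p ∣ Cfsg.charDegree (χ : G → ℂ) := by
  classical
  haveI := Fintype.ofFinite G
  have hp : p.Prime := Fact.out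
  constructor
  · rintro ⟨hPn, hPc⟩ χ hd
    obtain ⟨V, ρ, hρ, hχ⟩ := χ.2
    haveI := hPn
    haveI := hρ
    have h := finrank_dvd_index_of_abelian ρ (P : Subgroup G) fun a ha b hb =>
      congrArg Subtype.val (hPc.is_comm.comm ⟨a, ha⟩ ⟨b, hb⟩)
    rw [Cfsg.charDegree, ← hχ, ρ.char_one, Complex.natCast_re, Nat.floor_natCast] at hd
    exact P.not_dvd_index (hd.trans h)
  · intro hdeg
    have hdeg' : ∀ χ : G → ℂ, Cfsg.IsIrrCharacter G χ → ∀ m : ℕ, χ 1 = m → ¬ p ∣ m := fun χ hχ m hm hd =>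
      hdeg ⟨χ, hχ⟩ (by rwa [charDegree_eq_natCast hm])
    obtain ⟨Q, hQn, hQp, hQi⟩ := exists_sylow _ G rfl hsolv hdeg'
    haveI := hQn
    haveI := Fintype.ofFinite Q
    obtain ⟨T, hT⟩ : ∃ T : Sylow p G, (T : Subgroup G) = Q := ⟨hQp.toSylow hQi, rfl⟩
    haveI : (T : Subgroup G).Normal := hT ▸ hQn
    haveI := T.unique_of_normal inferInstance
    obtain rfl : P = T := Subsingleton.elim P T
    rw [hT]
    refine ⟨hQn, ⟨⟨fun a b => comm_of_linear (A := Q) (fun θ hθ => ?_) a b⟩⟩⟩
    obtain ⟨d, -, hd⟩ := IsIrrCharacter.exists_degree hθ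
    obtain ⟨f, hf, hfc⟩ := DegreesPrime.exists_over Q hθ
    obtain ⟨m, -, hm⟩ := IsIrrCharacter.exists_degree hf
    obtain ⟨k, hk⟩ := IsPGroup.iff_card.1 hQp
    obtain ⟨j, -, rfl⟩ := (Nat.dvd_prime_pow hp).1 (hk ▸ IsIrrCharacter.degree_dvd_card hθ hd)
    rcases Nat.eq_zero_or_pos j with rfl | hj
    · simpa using hd
    · exact absurd ((dvd_pow_self p hj.ne').trans (TwoDegrees.degree_dvd hf hθ hfc hm hd))
        (hdeg' f hf m hm)

end Cfsg.Agent.S4713
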