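import Cfsg.Statements.S4714
import Cfsg.Agent.BlocksB.CentralizerDefect.Main

set_option autoImplicit false
open Cfsg

namespace Cfsg.Agent.S4714

/-- Let p be a prime, M a maximal ideal of the algebraic integers containing p, D a p-subgroup of the finite group G with G = D·C_G(D), and B a p-block with defect group D. Let χ be a member of B having D in its kernel (there is exactly one, the canonical character of B). Then the irreducible characters in B are exactly the functions θ on G for which there is an irreducible character ζ of D such that θ(yx) = ζ(y)χ(x) whenever y ∈ D, x has order prime to p and x commutes with y, and θ(z) = 0 whenever the p-part of z does not lie in D. -/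
theorem result {G : Type*} [Group G] [Finite G] (p : ℕ) [Fact p.Prime] (M : Ideal Cfsg.AlgInt) (hM : Cfsg.IsPModular p M) (D : Subgroup G) (hD : IsPGroup p D) (hG : D ⊔ Subgroup.centralizer (D : Set G) = ⊤) (B : Set (Cfsg.IrrCharacter G)) (hB : Cfsg.IsPBlock M B) (hBD : Cfsg.IsDefectGroup p M B D) (χ : Cfsg.IrrCharacter G) (hχ : χ ∈ B) (hχD : ∀ y ∈ D, (χ : G → ℂ) y = (χ : G → ℂ) 1) : (∀ θ : Cfsg.IrrCharacter G, θ ∈ B ↔ ∃ ζ : Cfsg.IrrCharacter D, (∀ (y : D) (x : G), ¬ p ∣ orderOf x → Commute (y : G) x → (θ : G → ℂ) ((y : G) * x) = (ζ : D → ℂ) y * (χ : G → ℂ) x) ∧ (∀ z : G, (∀ y : G, Cfsg.IsPPart p z y → y ∉ D) → (θ : G → ℂ) z = 0)) ∧ ∀ ζ : Cfsg.IrrCharacter D, ∃ θ ∈ B, (∀ (y : D) (x : G), ¬ p ∣ orderOf x → Commute (y : G) x → (θ : G → ℂ) ((y : G) * x) = (ζ : D → ℂ) y * (χ : G → ℂ) x) ∧ (∀ z : G, (∀ y : G, Cfsg.IsPPart p z y → y ∉ D) → (θ : G → ℂ) z = 0) := by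
  classical
  haveI := Fintype.ofFinite G
  haveI := Fintype.ofFinite D
  haveI : M.IsPrime := hM.2.1.isPrime
  have S := CfsgLib.CentralizerDefect.setting_of_defectGroup hM hD hG hB hBD hχ hχD
  have hmem : ∀ ζ : Cfsg.IrrCharacter D, CfsgLib.CentralizerDefect.thetaIrr S ζ ∈ B := by
    intro ζ
    rw [CfsgLib.Block.eq_blockOf_of_mem hB hχ]
    exact CfsgLib.CentralizerDefect.sameBlock_theta hM S ζ
  have hprop : ∀ ζ : Cfsg.IrrCharacter D,
      (∀ (y : D) (x : G), ¬ p ∣ orderOf x → Commute (y : G) x →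
        (CfsgLib.CentralizerDefect.thetaIrr S ζ : G → ℂ) ((y : G) * x) = (ζ : D → ℂ) y * (χ : G → ℂ) x) ∧
      (∀ z : G, (∀ y : G, Cfsg.IsPPart p z y → y ∉ D) →
        (CfsgLib.CentralizerDefect.thetaIrr S ζ : G → ℂ) z = 0) :=
    fun ζ => ⟨fun y x hx hc => CfsgLib.CentralizerDefect.theta_mul χ S.pgroup _ y hx hc,
      fun z hz => CfsgLib.CentralizerDefect.theta_eq_zero _ (hz _ (CfsgLib.CentralizerDefect.xp_spec z))⟩
  refine ⟨fun θ => ⟨fun hθ => ?_, ?_⟩, fun ζ => ⟨_, hmem ζ, hprop ζ⟩⟩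
  · obtain ⟨ζ, rfl⟩ := CfsgLib.CentralizerDefect.exists_eq_theta hM S
      (CfsgLib.Block.sameBlock_of_mem hB hχ hθ)
    exact ⟨ζ, hprop ζ⟩
  · rintro ⟨ζ, h1, h2⟩
    have heq : θ = CfsgLib.CentralizerDefect.thetaIrr S ζ := by
      apply Subtype.ext
      funext z
      by_cases h : CfsgLib.CentralizerDefect.xp p z ∈ D
      · obtain ⟨h3, h4⟩ := hprop ζ
        have e := CfsgLib.CentralizerDefect.mul_eq (p := p) z
        have hr := CfsgLib.CentralizerDefect.rp_reg (p := p) z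
        have hc := CfsgLib.CentralizerDefect.commute_parts (p := p) z
        rw [← e]
        exact (h1 ⟨_, h⟩ _ hr hc).trans (h3 ⟨_, h⟩ _ hr hc).symm
      · have h5 : ∀ y : G, Cfsg.IsPPart p z y → y ∉ D := fun y hy => by
          rw [← CfsgLib.CentralizerDefect.xp_eq hy]; exact h
        exact (h2 z h5).trans ((hprop ζ).2 z h5).symm
    rw [heq]
    exact hmem ζ

end Cfsg.Agent.S4714
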