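import Cfsg.Statements.S4715
import Cfsg.Agent.BlocksB.HeightBound.Bound

set_option autoImplicit false
open Cfsg

namespace Cfsg.Agent.S4715

/-- Let p be a prime, M a maximal ideal of the algebraic integers containing p, B a p-block of the finite group G with defect group D of order p^d, H = D·C_G(D), b a block of H inducing B, T the stabilizer of b in N_G(D) and e = [T : H] the inertial index of B; let n be the integer with p^n ≤ e < p^(n+1) and p^c the order of the centre of D. Then every irreducible character in B has height h with h + c ≤ n + d. -/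
theorem result {G : Type*} [Group G] [Finite G] (p : ℕ) [Fact p.Prime] (M : Ideal Cfsg.AlgInt) (hM : Cfsg.IsPModular p M) (B : Set (Cfsg.IrrCharacter G)) (hB : Cfsg.IsPBlock M B) (D : Subgroup G) (hBD : Cfsg.IsDefectGroup p M B D) (d : ℕ) (hDd : Nat.card D = p ^ d) (H : Subgroup G) (hH : H = D ⊔ Subgroup.centralizer (D : Set G)) (b : Set (Cfsg.IrrCharacter H)) (hind : Cfsg.IsInducedBlock M H b B) (T : Subgroup G) (hT : ∀ g : G, g ∈ T ↔ (g ∈ Subgroup.normalizer (D : Set G) ∧ ∀ θ ∈ b, ∀ θ' : Cfsg.IrrCharacter H, (∀ h h' : H, (h' : G) = g * h * g⁻¹ → (θ' : H → ℂ) h' = (θ : H → ℂ) h) → θ' ∈ b)) (e : ℕ) (he : H.relIndex T = e) (n : ℕ) (hn : p ^ n ≤ e ∧ e < p ^ (n + 1)) (c : ℕ) (hc : Nat.card (Subgroup.center D) = p ^ c) : ∀ χ ∈ B, Cfsg.blockHeight p B (χ : G → ℂ) + c ≤ n + d := by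
  haveI := hM.2.1.isPrime
  haveI := CfsgLib.Block.charP_residue hM
  haveI := Fintype.ofFinite G
  classical
  intro χ hχ
  have hmax := CfsgLib.HeightBound.maxPair_of_sup hM hB hBD hH hind
  have hTs := CfsgLib.HeightBound.stab_eq_of_sup hM hH hind.1 T hT
  have hLT : H ≤ CfsgLib.BrauerPairs.stab D (CfsgLib.BrauerPairs.idemIn M H b) := by
    refine hH.le.trans ?_
    exact sup_le (CfsgLib.BrauerPairs.le_stab hmax.1.1) (CfsgLib.BrauerPairs.centralizer_le_stab hmax.1.1)
  have key := CfsgLib.HeightBound.pow_height_mul_center_le hM hB hmax hLT hH hχ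
  rw [← hTs, he, hc] at key
  have hd : Cfsg.blockDefect p B = d := by
    have := CfsgLib.Block.card_defectGroup hM hB hBD
    rw [hDd] at this
    exact (Nat.pow_right_injective (Fact.out : p.Prime).two_le this).symm
  rw [hd, ← pow_add] at key
  have hlt : p ^ (Cfsg.blockHeight p B (χ : G → ℂ) + c) < p ^ (n + 1 + d) := by
    refine lt_of_le_of_lt key ?_
    rw [pow_add p (n + 1) d]
    exact Nat.mul_lt_mul_of_pos_right hn.2 (pow_pos (Fact.out : p.Prime).pos _)
  have := (Nat.pow_lt_pow_iff_right (Fact.out : p.Prime).one_lt).1 hlt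
  omega

end Cfsg.Agent.S4715
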