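import Cfsg.Statements.S4717
import Cfsg.Agent.BlocksB.InducedDefect
import Cfsg.Agent.Blocks.LocalPrincipal

set_option autoImplicit false
open Cfsg

namespace Cfsg.Agent.S4717

/-- Let p be a prime, M a maximal ideal of the algebraic integers containing p, and r a natural number; say that a finite group X has deficiency class r when X has no non-principal p-block of defect ≥ r. If G has deficiency class r then so does the centralizer of every p-element of G; conversely, if r > 0 and the centralizer of every element of order p has deficiency class r, then G has deficiency class r. -/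
theorem result {G : Type*} [Group G] [Finite G] (p : ℕ) [Fact p.Prime] (M : Ideal Cfsg.AlgInt) (hM : Cfsg.IsPModular p M) (r : ℕ) : ((∀ B' : Set (Cfsg.IrrCharacter G), Cfsg.IsPBlock M B' → B' ≠ Cfsg.principalBlock M G → Cfsg.blockDefect p B' < r) → ∀ y : G, (∃ k : ℕ, orderOf y = p ^ k) → (∀ B' : Set (Cfsg.IrrCharacter ↥(Subgroup.centralizer ({y} : Set G))), Cfsg.IsPBlock M B' → B' ≠ Cfsg.principalBlock M ↥(Subgroup.centralizer ({y} : Set G)) → Cfsg.blockDefect p B' < r)) ∧ (0 < r → (∀ y : G, orderOf y = p → (∀ B' : Set (Cfsg.IrrCharacter ↥(Subgroup.centralizer ({y} : Set G))), Cfsg.IsPBlock M B' → B' ≠ Cfsg.principalBlock M ↥(Subgroup.centralizer ({y} : Set G)) → Cfsg.blockDefect p B' < r)) → (∀ B' : Set (Cfsg.IrrCharacter G), Cfsg.IsPBlock M B' → B' ≠ Cfsg.principalBlock M G → Cfsg.blockDefect p B' < r)) := by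
  classical
  haveI := Fintype.ofFinite G
  haveI := hM.2.1.isPrime
  refine ⟨fun hG y ⟨k, hk⟩ B' hB' hne => ?_, fun hr hC B hB hne => ?_⟩
  · haveI : Fintype (Subgroup.centralizer ({y} : Set G)) := Fintype.ofFinite _
    obtain ⟨B, hind⟩ := CfsgLib.Block.centralizer_induced hM hk hB'
    refine lt_of_le_of_lt (CfsgLib.BlockB.blockDefect_le_of_induced hM (Q := Subgroup.zpowers y)
      (IsPGroup.of_card (n := k) (by rw [Nat.card_zpowers, hk]))
      (CfsgLib.BlockB.centralizer_zpowers_eq y).symm
      (Subgroup.zpowers_le.2 (Subgroup.mem_centralizer_singleton_iff.2 rfl)) hind)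
      (hG B hind.2.1 fun h => hne ?_)
    exact (CfsgLib.Block.third_main hM ⟨B, hind⟩).1 (h ▸ hind)
  · by_contra hge
    push Not at hge
    obtain ⟨D, hD⟩ := CfsgLib.Block.exists_defectGroup hB hM
    have hcard := CfsgLib.Block.card_defectGroup hM hB hD
    have hDp := CfsgLib.Block.isPGroup_defectGroup hD
    haveI : Nontrivial D := Finite.one_lt_card_iff_nontrivial.1 (by
      rw [hcard]; exact Nat.one_lt_pow (by omega) hM.1.one_lt)
    haveI := hDp.center_nontrivial
    obtain ⟨j, hj0, hj⟩ := (hDp.to_subgroup (Subgroup.center D)).nontrivial_iff_card.1 inferInstance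
    haveI := Fintype.ofFinite (Subgroup.center D)
    obtain ⟨z, hz⟩ := exists_prime_orderOf_dvd_card' p (G := Subgroup.center D)
      (hj ▸ dvd_pow_self p hj0.ne')
    set y : G := ((z : D) : G)
    have hy : orderOf y = p := by rw [Subgroup.orderOf_coe, Subgroup.orderOf_coe, hz]
    haveI : Fintype (Subgroup.centralizer (Subgroup.zpowers y : Set G)) := Fintype.ofFinite _
    have hDy : D ≤ Subgroup.centralizer (Subgroup.zpowers y : Set G) := by
      intro d hd
      rw [CfsgLib.BlockB.centralizer_zpowers_eq, Subgroup.mem_centralizer_singleton_iff]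
      exact congrArg (Subtype.val : D → G) (Subgroup.mem_center_iff.1 z.2 ⟨d, hd⟩)
    obtain ⟨b, hind, hbd⟩ := CfsgLib.BlockB.exists_induced_of_central hM hB hD
      (Subgroup.zpowers_le.2 (z : D).2) hDy
    have key : ∀ H : Subgroup G, H = Subgroup.centralizer ({y} : Set G) →
        ∀ b : Set (Cfsg.IrrCharacter H), Cfsg.IsInducedBlock M H b B →
          Cfsg.blockDefect p b < r := by
      rintro H rfl b hind
      haveI : Fintype (Subgroup.centralizer ({y} : Set G)) := Fintype.ofFinite _
      refine hC y hy b hind.1 fun h => hne ?_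
      have h2 := (CfsgLib.Block.third_main hM ⟨B, hind⟩).2 h
      exact CfsgLib.Block.induced_unique hind h2
    have := key _ (CfsgLib.BlockB.centralizer_zpowers_eq y) b hind
    omega

end Cfsg.Agent.S4717
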