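import Cfsg.Statements.S4723
import Cfsg.Agent.StableHeightZero.Main

set_option autoImplicit false
open Cfsg

namespace Cfsg.Agent.S4723

/-- Let p be a prime, M a maximal ideal of the algebraic integers containing p, H a normal subgroup of the finite group G and b a p-block of H. Let T be the stabilizer of b in G. Then b contains a character θ of height zero whose own stabilizer in G (the elements g with θ(g h g⁻¹) = θ(h) for all h ∈ H) has index prime to p in T, i.e. contains a Sylow p-subgroup of T. -/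
theorem result {G : Type*} [Group G] [Finite G] (p : ℕ) [Fact p.Prime] (M : Ideal Cfsg.AlgInt) (hM : Cfsg.IsPModular p M) (H : Subgroup G) [H.Normal] (b : Set (Cfsg.IrrCharacter ↥H)) (hb : Cfsg.IsPBlock M b) (T : Subgroup G) (hT : (∀ g : G, g ∈ T ↔ ∀ θ ∈ b, ∀ θ' : Cfsg.IrrCharacter ↥H, (∀ h h' : ↥H, (h' : G) = g * h * g⁻¹ → (θ' : ↥H → ℂ) h' = (θ : ↥H → ℂ) h) → θ' ∈ b)) : ∃ θ ∈ b, Cfsg.blockHeight p b (θ : ↥H → ℂ) = 0 ∧ ∃ S : Subgroup G, S ≤ T ∧ (∀ g : G, g ∈ S ↔ (g ∈ T ∧ ∀ h h' : ↥H, (h' : G) = g * h * g⁻¹ → (θ : ↥H → ℂ) h' = (θ : ↥H → ℂ) h)) ∧ ¬ p ∣ S.relIndex T := by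
  classical
  haveI := Fintype.ofFinite G
  haveI := Fintype.ofFinite H
  haveI := hM.2.1.isPrime
  have hconj : ∀ (g : G) (θ θ' : Cfsg.IrrCharacter ↥H),
      (∀ h h' : ↥H, (h' : G) = g * h * g⁻¹ → (θ' : ↥H → ℂ) h' = (θ : ↥H → ℂ) h) ↔
        θ' = CfsgLib.Block.conjIrr g⁻¹ θ := fun g θ θ' => by
    refine ⟨fun h => Subtype.ext (funext fun n => ?_), ?_⟩
    · refine h ⟨g⁻¹ * n * g⁻¹⁻¹, (inferInstance : H.Normal).conj_mem n n.2 g⁻¹⟩ n ?_
      simp only
      group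
    · rintro rfl h h' e
      refine congrArg (θ : ↥H → ℂ) (Subtype.ext ?_)
      simp only [e]
      group
  have hT' : ∀ g : G, g ∈ T ↔ ∀ θ ∈ b, CfsgLib.Block.conjIrr g θ ∈ b := fun g => by
    rw [← T.inv_mem_iff, hT]
    refine forall₂_congr fun θ _ => ⟨fun h => ?_, fun h θ' he => ?_⟩
    · exact h _ ((hconj g⁻¹ θ _).2 (by rw [inv_inv]))
    · rw [(hconj g⁻¹ θ θ').1 he, inv_inv]
      exact h
  have hS : CfsgLib.Block.IsStab b T := CfsgLib.Block.isStab_of_iff hb fun g => by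
    rw [hT' g]
    refine forall₂_congr fun θ _ => ⟨fun h θ' he => ?_, fun h => h _ fun n => rfl⟩
    rwa [show θ' = CfsgLib.Block.conjIrr g θ from Subtype.ext (funext he)]
  have hHT : H ≤ T := fun n hn => (hT' n).2 fun θ hθ => by
    have h1 : CfsgLib.Block.conjIrr n θ = θ := Subtype.ext
      (CfsgLib.Char.le_inertia (CfsgLib.Block.Chr.isClassFunction_irr θ) hn)
    rwa [h1]
  obtain ⟨θ, hθ, h0, hidx⟩ := CfsgLib.StableHeightZero.exists_of_stab hM hb hS hHT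
  refine ⟨θ, hθ, h0, T ⊓ CfsgLib.Char.inertia (θ : ↥H → ℂ), inf_le_left, fun g => ?_, ?_⟩
  · rw [Subgroup.mem_inf, CfsgLib.Char.mem_inertia]
    refine and_congr_right fun _ => ⟨fun h n n' e => ?_, fun h => funext fun n => h n _ rfl⟩
    rw [← congrFun h n]
    exact congrArg (θ : ↥H → ℂ) (Subtype.ext e)
  · rwa [Subgroup.inf_relIndex_left]

end Cfsg.Agent.S4723
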