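import Cfsg.Statements.S4725
import Cfsg.Agent.Blocks.BlockSize
import Cfsg.Agent.Blocks.Heights
import Cfsg.Agent.Blocks.Correspond

set_option autoImplicit false
open Cfsg

namespace Cfsg.Agent.S4725

/-- Let p be a prime, M a maximal ideal of the algebraic integers containing p, H a subgroup of the finite group G, and b a p-block of H inducing the p-block B of G, with b and B of the same defect. Then for every height-zero ζ ∈ b there is a height-zero χ ∈ B whose multiplicity in the character induced from ζ is not divisible by p. -/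
theorem result {G : Type*} [Group G] [Fintype G] (p : ℕ) [Fact p.Prime] (M : Ideal Cfsg.AlgInt) (hM : Cfsg.IsPModular p M) (H : Subgroup G) (b : Set (Cfsg.IrrCharacter ↥H)) (B : Set (Cfsg.IrrCharacter G)) (hind : Cfsg.IsInducedBlock M H b B) (hdef : Cfsg.blockDefect p b = Cfsg.blockDefect p B) (ζ : Cfsg.IrrCharacter ↥H) (hζ : ζ ∈ b) (hζ0 : Cfsg.blockHeight p b (ζ : ↥H → ℂ) = 0) : ∃ χ ∈ B, Cfsg.blockHeight p B (χ : G → ℂ) = 0 ∧ ∃ a : ℕ, Cfsg.classInner (Cfsg.indFun H (ζ : ↥H → ℂ)) (χ : G → ℂ) = (a : ℂ) ∧ ¬ p ∣ a := by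
  classical
  haveI := hM.2.1.isPrime
  haveI := Fintype.ofFinite H
  letI := CfsgLib.Block.Chr.irrFintype (G := G)
  obtain ⟨hb, hB, hcong⟩ := hind
  obtain ⟨n, hn1, hn2, hdeg⟩ := CfsgLib.Block.blockPart_indFun_one H ζ B
  have hω := CfsgLib.Block.omega_res_blockCoeff (B' := B) ⟨hb, hB, hcong⟩ hζ hB
  rw [if_pos rfl] at hω
  have hωr : MemLocalRing M (CfsgLib.Block.omega (ζ : H → ℂ)
      (CfsgLib.Block.resFun H (blockCoeff B))) :=
    CfsgLib.Block.omega_mem ζ (CfsgLib.Block.isIntClass_resFun H (CfsgLib.Block.isIntClass_blockCoeff hB))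
  have hωu : ¬ MemLocalIdeal M (CfsgLib.Block.omega (ζ : H → ℂ)
      (CfsgLib.Block.resFun H (blockCoeff B))) := fun h => by
    have h1 := CfsgLib.Block.memLocalIdeal_sub h hω
    rw [sub_sub_cancel] at h1
    exact CfsgLib.Block.not_memLocalIdeal_one h1
  obtain ⟨hn0, hnv⟩ := (CfsgLib.Block.factorization_of_ratio hM hdeg hωr hn2).2 hωu
  have hchar := CfsgLib.Char.IsCharacter.indFun (G := G) (H := H) (CfsgLib.Block.Chr.isCharacter_irr ζ)
  choose m hm using fun χ : IrrCharacter G =>
    CfsgLib.Char.IsCharacter.exists_classInner_eq_natCast hchar χ.2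
  have hsum : n = ∑ χ ∈ Finset.univ.filter (· ∈ B), m χ * charDegree (χ : G → ℂ) := by
    have h1 : (n : ℂ) = ((∑ χ ∈ Finset.univ.filter (· ∈ B), m χ * charDegree (χ : G → ℂ) : ℕ) : ℂ) := by
      rw [← hn1, CfsgLib.Block.blockPart_eq_sum_inner]
      push_cast
      exact Finset.sum_congr rfl fun χ _ => by rw [hm χ, (CfsgLib.Block.Chr.irr_one χ).1]
    exact_mod_cast h1
  have hind1 : charDegree (indFun H (ζ : H → ℂ)) = H.index * charDegree (ζ : H → ℂ) := by
    have h1 : indFun H (ζ : H → ℂ) 1 = ((H.index * charDegree (ζ : H → ℂ) : ℕ) : ℂ) := by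
      rw [CfsgLib.Char.indFun_one, (CfsgLib.Block.Chr.irr_one ζ).1, Nat.cast_mul]
    rw [charDegree, h1, Complex.natCast_re, Nat.floor_natCast]
  have hp : p.Prime := hM.1
  obtain ⟨yB, hyB⟩ := CfsgLib.Block.exists_defectGroup hB hM
  obtain ⟨g, hg, -⟩ := hyB
  obtain ⟨yb, hyb⟩ := CfsgLib.Block.exists_defectGroup hb hM
  obtain ⟨h, hh, -⟩ := hyb
  have hζv : (charDegree (ζ : H → ℂ)).factorization p =
      (Nat.card H).factorization p - blockDefect p b := by
    rw [CfsgLib.Block.blockDefect_eq hM hb hh]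
    exact (CfsgLib.Block.degree_eq_iff hM hh hζ).2
      ((CfsgLib.Block.blockHeight_eq_zero_iff hM hb hh hζ).1 hζ0)
  have hdH : blockDefect p b ≤ (Nat.card H).factorization p := by
    rw [CfsgLib.Block.blockDefect_eq hM hb hh]
    exact CfsgLib.Block.centralizer_factorization_le h
  have hnv' : n.factorization p = (Nat.card G).factorization p - blockDefect p B := by
    rw [hnv, hind1, Nat.factorization_mul Subgroup.index_ne_zero_of_finite
      (CfsgLib.Block.Chr.irr_one ζ).2.ne', Finsupp.add_apply, hζv, ← hdef]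
    have hG : (Nat.card G).factorization p = (Nat.card H).factorization p + H.index.factorization p := by
      rw [← H.card_mul_index, Nat.factorization_mul Nat.card_pos.ne'
        Subgroup.index_ne_zero_of_finite, Finsupp.add_apply]
    omega
  set e := (Nat.card G).factorization p - blockDefect p B with he
  have hex : ∃ χ ∈ B, ¬ p ^ (e + 1) ∣ m χ * charDegree (χ : G → ℂ) := by
    by_contra hcon
    push Not at hcon
    have h1 : p ^ (e + 1) ∣ n := hsum ▸ Finset.dvd_sum fun χ hχ =>
      hcon χ (Finset.mem_filter.1 hχ).2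
    have := (hp.pow_dvd_iff_le_factorization hn0).1 h1
    omega
  obtain ⟨χ, hχ, hndvd⟩ := hex
  have hle : e ≤ (charDegree (χ : G → ℂ)).factorization p := by
    rw [he, CfsgLib.Block.blockDefect_eq hM hB hg]
    exact CfsgLib.Block.defect_le_degree hM hg hχ
  have hdvd : p ^ e ∣ charDegree (χ : G → ℂ) :=
    (hp.pow_dvd_iff_le_factorization (CfsgLib.Block.Chr.irr_one χ).2.ne').2 hle
  refine ⟨χ, hχ, ?_, m χ, hm χ, fun hd => hndvd ?_⟩
  · refine (CfsgLib.Block.blockHeight_eq_zero_iff hM hB hg hχ).2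
      ((CfsgLib.Block.degree_eq_iff hM hg hχ).1 ?_)
    rw [← CfsgLib.Block.blockDefect_eq hM hB hg, ← he]
    refine le_antisymm ?_ hle
    by_contra hlt
    exact hndvd (((hp.pow_dvd_iff_le_factorization (CfsgLib.Block.Chr.irr_one χ).2.ne').2
      (by omega)).mul_left _)
  · rw [pow_succ']
    exact mul_dvd_mul hd hdvd

end Cfsg.Agent.S4725
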