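import Cfsg.Statements.S4726
import Cfsg.Agent.BlocksB.InducedCentral

set_option autoImplicit false
open Cfsg

namespace Cfsg.Agent.S4726

/-- Let p be a prime, M a maximal ideal of the algebraic integers containing p, H a subgroup of the finite group G and b a p-block of H with defect group D₀ such that C_G(D₀) ≤ H. Then b induces a block of G, and for every block B of G induced by b there is a defect group D of B with Z(D) ≤ Z(D₀) ≤ D₀ ≤ D (as subgroups of G). In particular, if the defect groups of B are abelian then D₀ is a defect group of B. -/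
theorem result {G : Type*} [Group G] [Finite G] (p : ℕ) [Fact p.Prime] (M : Ideal Cfsg.AlgInt) (hM : Cfsg.IsPModular p M) (H : Subgroup G) (b : Set (Cfsg.IrrCharacter ↥H)) (hb : Cfsg.IsPBlock M b) (D₀ : Subgroup ↥H) (hD₀ : Cfsg.IsDefectGroup p M b D₀) (hC : Subgroup.centralizer ((D₀.map H.subtype : Subgroup G) : Set G) ≤ H) : Cfsg.InducedBlockDefined M H b ∧ ∀ B : Set (Cfsg.IrrCharacter G), Cfsg.IsInducedBlock M H b B → (∃ D : Subgroup G, Cfsg.IsDefectGroup p M B D ∧ (Subgroup.center ↥D).map D.subtype ≤ ((Subgroup.center ↥D₀).map D₀.subtype).map H.subtype ∧ ((Subgroup.center ↥D₀).map D₀.subtype).map H.subtype ≤ D₀.map H.subtype ∧ D₀.map H.subtype ≤ D) ∧ (∀ D : Subgroup G, Cfsg.IsDefectGroup p M B D → IsMulCommutative ↥D → Cfsg.IsDefectGroup p M B (D₀.map H.subtype)) := by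
  classical
  letI := Fintype.ofFinite G
  haveI := hM.2.1.isPrime
  haveI := Fintype.ofFinite H
  refine ⟨CfsgLib.BlockB.exists_induced_of_centralizer_le hM H hb hD₀ hC, fun B hB => ?_⟩
  obtain ⟨R, hR, hDR, hz⟩ := CfsgLib.BlockB.exists_defectGroup_center_le hM H hB hD₀ hC
  refine ⟨⟨R, hR, ?_, ?_, hDR⟩, fun D hD hab => ?_⟩
  · rintro z ⟨z', hz', rfl⟩
    have hzR : (z' : G) ∈ R := z'.2
    have hzc : ∀ r ∈ R, r * (z' : G) = (z' : G) * r := fun r hr =>
      congrArg (Subtype.val : R → G) (Subgroup.mem_center_iff.1 hz' ⟨r, hr⟩)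
    obtain ⟨d, hd, he⟩ := hz _ hzR hzc
    refine ⟨d, ⟨⟨d, hd⟩, Subgroup.mem_center_iff.2 fun e => ?_, rfl⟩, he⟩
    refine Subtype.ext (Subtype.ext ?_)
    have h1 := hzc _ (hDR (Subgroup.mem_map_of_mem H.subtype e.2))
    rw [← he] at h1
    simpa using h1
  · exact Subgroup.map_mono (Subgroup.map_subtype_le _)
  · haveI := CfsgLib.Block.charP_residue hM
    obtain ⟨x, -, hx⟩ := (CfsgLib.BrauerPairs.isDef_of_isDefectGroup hM hB.2.1 hD).conj
      (CfsgLib.BrauerPairs.isDef_of_isDefectGroup hM hB.2.1 hR)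
    have hRD : R ≤ D₀.map H.subtype := by
      intro r hr
      refine hz r hr fun r' hr' => ?_
      have h1 : (MulAut.conj x).toMonoidHom r' ∈ D := hx ▸ Subgroup.mem_map_of_mem _ hr'
      have h2 : (MulAut.conj x).toMonoidHom r ∈ D := hx ▸ Subgroup.mem_map_of_mem _ hr
      have h3 := congrArg (Subtype.val : D → G)
        (IsMulCommutative.is_comm.comm (⟨_, h1⟩ : D) ⟨_, h2⟩)
      apply (MulAut.conj x).injective
      simpa using h3
    rwa [le_antisymm hDR hRD]

end Cfsg.Agent.S4726
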