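import Cfsg.Statements.S4727
import Cfsg.Agent.BlocksB.PiKernel
import Cfsg.Agent.Blocks.SecondMain

set_option autoImplicit false
open Cfsg

namespace Cfsg.Agent.S4727

/-- Let p be a prime, π a set of primes containing p, M a maximal ideal of the algebraic integers containing p, and B a p-block of the finite group G with defect group D; let B₁ be the block of N_G(D) with defect group D that induces B (the Brauer correspondent of B). Suppose every element of O_π'(N_G(D)), the largest normal subgroup of N_G(D) whose order has no prime divisor in π, lies in the kernel of every member of B₁. If y is a p-element whose centralizer C has a normal Hall π'-subgroup (every element of C whose order has no prime divisor in π lies in O_π'(C)), then χ(y x) = χ(y) for every χ ∈ B and every x ∈ C whose order has no prime divisor in π. -/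
theorem result {G : Type*} [Group G] [Finite G] (p : ℕ) [Fact p.Prime] (M : Ideal Cfsg.AlgInt) (hM : Cfsg.IsPModular p M) (π : Set ℕ) (hpπ : p ∈ π) (B : Set (Cfsg.IrrCharacter G)) (hB : Cfsg.IsPBlock M B) (D : Subgroup G) (hBD : Cfsg.IsDefectGroup p M B D) (B₁ : Set (Cfsg.IrrCharacter ↥(Subgroup.normalizer (D : Set G)))) (hB₁ : Cfsg.IsInducedBlock M (Subgroup.normalizer (D : Set G)) B₁ B) (hB₁D : Cfsg.IsDefectGroup p M B₁ (D.subgroupOf (Subgroup.normalizer (D : Set G)))) (hker : ∀ n : ↥(Subgroup.normalizer (D : Set G)), n ∈ Cfsg.piCore {q | q ∉ π} ↥(Subgroup.normalizer (D : Set G)) → n ∈ Cfsg.blockKer B₁) (y : G) (hy : ∃ k : ℕ, orderOf y = p ^ k) (hC : ∀ x : ↥(Subgroup.centralizer ({y} : Set G)), (∀ q : ℕ, q.Prime → q ∣ orderOf x → q ∉ π) → x ∈ Cfsg.piCore {q | q ∉ π} ↥(Subgroup.centralizer ({y} : Set G))) : ∀ χ ∈ B, ∀ x : G, x ∈ Subgroup.centralizer ({y} : Set G) → (∀ q : ℕ, q.Prime → q ∣ orderOf x → q ∉ π) → (χ : G → ℂ) (y * x) = (χ : G → ℂ) y := by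
  classical
  letI := Fintype.ofFinite G
  haveI := hM.2.1.isPrime
  haveI := CfsgLib.Block.charP_residue hM
  intro χ hχ x hx hxπ
  have hσ : p ∉ {q : ℕ | q ∉ π} := fun h => h hpπ
  obtain ⟨f₁, hmax, hiff⟩ := CfsgLib.BlockB.exists_maxPair_ker_iff hM hσ hBD hB₁ hB₁D
  have hblkB := CfsgLib.BrauerPairs.isBlk_idem hM hB
  obtain ⟨k, hk⟩ := hy
  set C := Subgroup.centralizer ({y} : Set G) with hCdef
  haveI := Fintype.ofFinite C
  letI := CfsgLib.Block.Chr.irrFintype (G := C)
  have hQ : IsPGroup p (Subgroup.zpowers y) :=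
    IsPGroup.of_card (n := k) (by rw [Nat.card_zpowers, hk])
  have hCQ := CfsgLib.BlockB.centralizer_zpowers_coe y
  rw [← hCdef] at hCQ
  have hyC : y ∈ C := Subgroup.mem_centralizer_singleton_iff.2 rfl
  have hQC : Subgroup.zpowers y ≤ C := Subgroup.zpowers_le.2 hyC
  let x' : C := ⟨x, hx⟩
  have hx'K : x' ∈ Cfsg.piCore {q | q ∉ π} C :=
    hC x' fun q hq hd => hxπ q hq (by simpa [x'] using hd)
  have hK := (CfsgLib.BlockB.mem_piCore_iff x').1 hx'K
  have hxp : ¬ p ∣ orderOf x' := fun hd =>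
    hxπ p Fact.out (by simpa [x'] using hd) hpπ
  -- a block of the centralizer inducing `B` has the core in its kernel
  have key : ∀ b : Set (IrrCharacter C), IsInducedBlock M C b B →
      ∀ ξ ∈ b, (ξ : C → ℂ) x' = (ξ : C → ℂ) 1 := by
    intro b hb ξ hξ
    have hblk := CfsgLib.BrauerPairs.isBlk_idemIn hM hb.1
    have hbr : CfsgLib.BrauerPairs.br (Subgroup.zpowers y) (CfsgLib.BrauerPairs.idemIn M C b) =
        CfsgLib.BrauerPairs.idemIn M C b :=
      CfsgLib.BrauerPairs.br_eq_self (by rw [hCQ]; exact hblk.suppIn)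
    have hpair := CfsgLib.BlockB.isPairOf_of_induced_sub (f := CfsgLib.BrauerPairs.idemIn M C b)
      hM hQ hQC hCQ.le hb (by rw [hCQ]; exact hblk) (by rw [hbr, hblk.idem])
    have hkills := CfsgLib.BlockB.kills_of_max hblkB hmax hσ (hiff.2 hker) hpair
    simp only [CfsgLib.BlockB.Kills, hCQ] at hkills
    exact (CfsgLib.BlockB.avg_mul_idemIn_iff hM hb.1 (CfsgLib.BlockB.piCoreOf_le C)
      (CfsgLib.BlockB.le_normalizer_piCoreOf C)
      (CfsgLib.BlockB.natCard_piCoreOf_ne_zero hσ le_rfl)).1 hkills ξ hξ x' hK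
  set θ : C → ℂ := fun c => (χ : G → ℂ) (y * (c : G)) with hθdef
  have hθ : IsClassFunction C θ := by
    intro c v
    have hv : Commute y (v : G) := (Subgroup.mem_centralizer_singleton_iff.1 v.2).symm
    show (χ : G → ℂ) (y * ((v * c * v⁻¹ : C) : G)) = (χ : G → ℂ) (y * (c : G))
    rw [← CfsgLib.Block.Chr.isClassFunction_irr χ (y * (c : G)) (v : G)]
    push_cast
    refine congrArg (χ : G → ℂ) ?_
    calc y * ((v : G) * c * (v : G)⁻¹) = (y * (v : G)) * c * (v : G)⁻¹ := by group
      _ = (v : G) * (y * c) * (v : G)⁻¹ := by rw [hv.eq]; group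
  -- the part of a block of the centralizer at `x'` and at `1`
  have hpart : ∀ b : Set (IrrCharacter C), IsPBlock M b →
      blockPart b θ x' = blockPart b θ 1 := by
    intro b hb
    by_cases hind : IsInducedBlock M C b B
    · rw [CfsgLib.Block.blockPart_eq_sum_inner, CfsgLib.Block.blockPart_eq_sum_inner]
      refine Finset.sum_congr rfl fun ξ hξ => ?_
      rw [key b hind ξ (Finset.mem_filter.1 hξ).2]
    · rw [CfsgLib.Block.blockPart_eq_zero_of_not_induced hM hk hB hχ hb hind x' hxp,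
        CfsgLib.Block.blockPart_eq_zero_of_not_induced hM hk hB hχ hb hind 1
          (by rw [orderOf_one]; exact (Fact.out : p.Prime).not_dvd_one)]
  have hsum : ∀ c : C, θ c = ∑ b ∈ Finset.univ.image
      (fun ξ : IrrCharacter C => Cfsg.blockOf M (ξ : C → ℂ)), blockPart b θ c := by
    intro c
    conv_lhs => rw [CfsgLib.Block.Chr.classFun_expand hθ]
    rw [← Finset.sum_fiberwise_of_maps_to
      (g := fun ξ : IrrCharacter C => Cfsg.blockOf M (ξ : C → ℂ))
      (fun ξ _ => Finset.mem_image.2 ⟨ξ, Finset.mem_univ ξ, rfl⟩)]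
    refine Finset.sum_congr rfl fun b hb => ?_
    obtain ⟨ξ₀, -, rfl⟩ := Finset.mem_image.1 hb
    rw [CfsgLib.Block.blockPart_eq_sum_inner]
    refine Finset.sum_congr (Finset.ext fun ξ => ?_) fun ξ _ => rfl
    simp only [Finset.mem_filter, Finset.mem_univ, true_and]
    exact ⟨fun h => h ▸ CfsgLib.Block.mem_blockOf_self ξ, fun h =>
      CfsgLib.Block.block_eq_of_common (CfsgLib.Block.isPBlock_blockOf ξ)
        (CfsgLib.Block.isPBlock_blockOf ξ₀) (CfsgLib.Block.mem_blockOf_self ξ) h⟩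
  have h1 : θ x' = θ 1 := by
    rw [hsum x', hsum 1]
    refine Finset.sum_congr rfl fun b hb => hpart b ?_
    obtain ⟨ξ₀, -, rfl⟩ := Finset.mem_image.1 hb
    exact CfsgLib.Block.isPBlock_blockOf ξ₀
  simpa [hθdef, x'] using h1

end Cfsg.Agent.S4727
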