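import Cfsg.Statements.S4728
import Cfsg.Agent.BlocksB.PiKernel
import Cfsg.Agent.Blocks.SecondMain

set_option autoImplicit false
open Cfsg

namespace Cfsg.Agent.S4728

/-- Let p be a prime, π a set of primes containing p, M a maximal ideal of the algebraic integers containing p, B a p-block of the finite group G with defect group D, and B₁ the block of N_G(D) with defect group D inducing B. Let D₀ be a p-subgroup, H₀ = D₀·C_G(D₀), and b a block of H₀ inducing B. Write O_π'(X) for the largest normal subgroup of X whose order has no prime divisor in π. Suppose that O_π'(C_G(D₀)) is a normal Hall π'-subgroup of C_G(D₀) (it contains every element of C_G(D₀) whose order has no prime divisor in π) and that every element of it lies in the kernel of every member of b. Then every element of O_π'(N_G(D)) lies in the kernel of every member of B₁. -/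
theorem result {G : Type*} [Group G] [Finite G] (p : ℕ) [Fact p.Prime] (M : Ideal Cfsg.AlgInt) (hM : Cfsg.IsPModular p M) (π : Set ℕ) (hpπ : p ∈ π) (B : Set (Cfsg.IrrCharacter G)) (hB : Cfsg.IsPBlock M B) (D : Subgroup G) (hBD : Cfsg.IsDefectGroup p M B D) (B₁ : Set (Cfsg.IrrCharacter ↥(Subgroup.normalizer (D : Set G)))) (hB₁ : Cfsg.IsInducedBlock M (Subgroup.normalizer (D : Set G)) B₁ B) (hB₁D : Cfsg.IsDefectGroup p M B₁ (D.subgroupOf (Subgroup.normalizer (D : Set G)))) (D₀ : Subgroup G) (hD₀ : IsPGroup p D₀) (H₀ : Subgroup G) (hH₀ : H₀ = D₀ ⊔ Subgroup.centralizer (D₀ : Set G)) (b : Set (Cfsg.IrrCharacter ↥H₀)) (hb : Cfsg.IsInducedBlock M H₀ b B) (hcompl : ∀ x : ↥(Subgroup.centralizer (D₀ : Set G)), (∀ q : ℕ, q.Prime → q ∣ orderOf x → q ∉ π) → x ∈ Cfsg.piCore {q | q ∉ π} ↥(Subgroup.centralizer (D₀ : Set G))) (hkerb : ∀ x : ↥(Subgroup.centralizer (D₀ : Set G)), x ∈ Cfsg.piCore {q | q ∉ π} ↥(Subgroup.centralizer (D₀ : Set G)) → ∀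 θ ∈ b, ∀ h : ↥H₀, (h : G) = (x : G) → (θ : ↥H₀ → ℂ) h = (θ : ↥H₀ → ℂ) 1) : ∀ n : ↥(Subgroup.normalizer (D : Set G)), n ∈ Cfsg.piCore {q | q ∉ π} ↥(Subgroup.normalizer (D : Set G)) → n ∈ Cfsg.blockKer B₁ := by
  classical
  letI := Fintype.ofFinite G
  haveI := hM.2.1.isPrime
  haveI := CfsgLib.Block.charP_residue hM
  have hσ : p ∉ {q : ℕ | q ∉ π} := fun h => h hpπ
  obtain ⟨f₁, hmax, hiff⟩ := CfsgLib.BlockB.exists_maxPair_ker_iff hM hσ hBD hB₁ hB₁D
  apply hiff.1
  haveI := Fintype.ofFinite H₀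
  have hblkB := CfsgLib.BrauerPairs.isBlk_idem hM hB
  have hDH : D₀ ≤ H₀ := hH₀ ▸ le_sup_left
  have hCH : Subgroup.centralizer (D₀ : Set G) ≤ H₀ := hH₀ ▸ le_sup_right
  have hHN : H₀ ≤ Subgroup.normalizer (D₀ : Set G) :=
    hH₀ ▸ sup_le Subgroup.le_normalizer (CfsgLib.BrauerPairs.centralizer_le_normalizer D₀)
  have hblk := CfsgLib.BrauerPairs.isBlk_idemIn hM hb.1
  have hbru := CfsgLib.BrauerPairs.br_eq_self_of_idem hD₀ hDH hHN hblk.mem hblk.idem
  set u := CfsgLib.BrauerPairs.idemIn M H₀ b with hu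
  have huC : u ∈ CfsgLib.BrauerPairs.alg (CfsgLib.Block.Residue M)
      (Subgroup.centralizer (D₀ : Set G)) (Subgroup.centralizer (D₀ : Set G)) :=
    ⟨hbru ▸ CfsgLib.BrauerPairs.suppIn_br u, hblk.fixBy.mono hCH⟩
  obtain ⟨f, hf, hfu⟩ := CfsgLib.BlockB.exists_blk_below huC hblk.idem hblk.ne_zero
  have hpair := CfsgLib.BlockB.isPairOf_of_induced_sub hM hD₀ hDH hCH hb hf (by rw [← hu, hbru]; exact hfu)
  refine CfsgLib.BlockB.kills_max_of_pair hblkB hmax hσ hpair
    (CfsgLib.BlockB.hallCore_of_piCore hcompl) ?_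
  have hKN : H₀ ≤ Subgroup.normalizer
      (piCoreOf {q | q ∉ π} (Subgroup.centralizer (D₀ : Set G)) : Set G) :=
    CfsgLib.BlockB.normalizer_le_normalizer_piCoreOf
      (hHN.trans CfsgLib.BrauerPairs.map_normalizer_centralizer)
  have hav := (CfsgLib.BlockB.avg_mul_idemIn_iff hM hb.1
    ((CfsgLib.BlockB.piCoreOf_le _).trans hCH) hKN
    (CfsgLib.BlockB.natCard_piCoreOf_ne_zero hσ le_rfl)).2 fun ξ hξ n hn =>
      hkerb ⟨n, CfsgLib.BlockB.piCoreOf_le _ hn⟩
        ((CfsgLib.BlockB.mem_piCore_iff _).2 hn) ξ hξ n rfl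
  show _ * f = f
  rw [← hfu, ← mul_assoc]
  exact congrArg (· * f) hav

end Cfsg.Agent.S4728
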