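import Cfsg.Statements.S4730
import Cfsg.Agent.Blocks.Heights
import Cfsg.Agent.Char.Burnside

set_option autoImplicit false
open Cfsg

namespace Cfsg.Agent.S4730

/-- Let p be a prime, M a maximal ideal of the algebraic integers containing p, and G a finite group with trivial centre, Sylow p-subgroup P of order p^a and centre Z(P) of order p^b. If χ is a faithful irreducible character of G whose degree is a power of p, then the p-block of χ has defect at most a − b; in particular, if P is abelian then χ lies in a block of defect zero. -/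
theorem result {G : Type*} [Group G] [Finite G] (p : ℕ) [Fact p.Prime] (M : Ideal Cfsg.AlgInt) (hM : Cfsg.IsPModular p M) (hZ : Subgroup.center G = ⊥) (P : Sylow p G) (a b : ℕ) (ha : Nat.card P = p ^ a) (hb : Nat.card (Subgroup.center ↥(P : Subgroup G)) = p ^ b) (χ : Cfsg.IrrCharacter G) (hfaith : ∀ g : G, (χ : G → ℂ) g = (χ : G → ℂ) 1 → g = 1) (n : ℕ) (hdeg : Cfsg.charDegree (χ : G → ℂ) = p ^ n) : Cfsg.blockDefect p (Cfsg.blockOf M (χ : G → ℂ)) ≤ a - b ∧ (IsMulCommutative ↥(P : Subgroup G) → Cfsg.blockDefect p (Cfsg.blockOf M (χ : G → ℂ)) = 0) := by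
  haveI := Fintype.ofFinite G
  haveI := hM.2.1.isPrime
  classical
  have hp : p.Prime := Fact.out
  set Z : Subgroup G := (Subgroup.center ↥(P : Subgroup G)).map (P : Subgroup G).subtype with hZdef
  have hZc : Nat.card Z = p ^ b := by
    rw [hZdef, Subgroup.card_map_of_injective (P : Subgroup G).subtype_injective, hb]
  have hidx : ∀ z ∈ Z, ¬ p ∣ (Subgroup.centralizer ({z} : Set G)).index := by
    rintro z ⟨w, hw, rfl⟩ hdvd
    have hle : (P : Subgroup G) ≤
        Subgroup.centralizer ({(P : Subgroup G).subtype w} : Set G) := by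
      intro x hx
      rw [Subgroup.mem_centralizer_singleton_iff]
      exact congrArg Subtype.val (Subgroup.mem_center_iff.1 hw ⟨x, hx⟩)
    exact P.not_dvd_index (hdvd.trans (Subgroup.index_dvd_of_le hle))
  have hzero : ∀ z ∈ Z, z ≠ 1 → (χ : G → ℂ) z = 0 := by
    intro z hz hz1
    obtain ⟨m, ρ, hρ, hρχ⟩ := χ.2
    replace hρχ := hρχ.symm
    haveI := hρ
    rw [hρχ]
    have hdim : Module.finrank ℂ (Fin m → ℂ) = p ^ n := by
      have h1 := (CfsgLib.Block.Chr.irr_one χ).1
      rw [hdeg, hρχ, ρ.char_one] at h1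
      exact_mod_cast h1
    have hcop : Nat.Coprime (Module.finrank ℂ (Fin m → ℂ))
        (Subgroup.centralizer ({z} : Set G)).index := by
      rw [hdim]
      exact ((hp.coprime_iff_not_dvd.2 (hidx z hz))).pow_left n
    refine (CfsgLib.Char.char_eq_zero_or_norm_eq ρ z hcop).resolve_right fun hn => hz1 ?_
    obtain ⟨w, hw⟩ := (CfsgLib.Char.norm_character_eq_iff ρ z).1 hn
    have hmem : z ∈ Subgroup.center G := by
      rw [Subgroup.mem_center_iff]
      intro g
      have h1 : ρ (g * z * g⁻¹ * z⁻¹) = 1 := by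
        have hc : ρ (g * z) = ρ (z * g) := by
          rw [map_mul, map_mul, hw]
          ext v
          simp
        have h3 : g * z * g⁻¹ * z⁻¹ = g * z * (g⁻¹ * z⁻¹) := mul_assoc _ _ _
        have h4 : z * g * (g⁻¹ * z⁻¹) = 1 := by group
        rw [h3, map_mul, hc, ← map_mul, h4, map_one]
      have h2 : g * z * g⁻¹ * z⁻¹ = 1 := hfaith _ (by
        rw [hρχ]
        simp only [Representation.character, h1, map_one])
      calc g * z = g * z * g⁻¹ * z⁻¹ * (z * g) := by group
        _ = z * g := by rw [h2, one_mul]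
    rw [hZ, Subgroup.mem_bot] at hmem
    exact hmem
  have key : ∀ ψ ∈ Cfsg.blockOf M (χ : G → ℂ),
      b ≤ (Cfsg.charDegree (ψ : G → ℂ)).factorization p := by
    intro ψ hψ
    by_contra hlt
    push Not at hlt
    haveI : Fintype Z := Fintype.ofFinite _
    obtain ⟨k, hk⟩ := CfsgLib.Char.IsCharacter.exists_classInner_eq_natCast'
      (CfsgLib.Char.IsCharacter.restrict (CfsgLib.Block.Chr.isCharacter_irr ψ) Z)
      (CfsgLib.Char.isCharacter_one (G := Z))
    rw [Cfsg.classInner] at hk
    simp only [map_one, mul_one] at hk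
    rw [inv_mul_eq_iff_eq_mul₀ (Nat.cast_ne_zero.2 Nat.card_pos.ne'), hZc, Nat.cast_pow] at hk
    have hψ1 := (CfsgLib.Block.Chr.irr_one ψ)
    set d := Cfsg.charDegree (ψ : G → ℂ) with hd
    have hsmall : ∀ z : Z, z ≠ 1 → Cfsg.MemLocalIdeal M ((ψ : G → ℂ) z / (d : ℂ)) := by
      intro z hz1
      have hχz : (χ : G → ℂ) z = 0 := hzero _ z.2 fun h => hz1 (Subtype.ext h)
      have hc := hψ (z : G)
      simp only [Cfsg.centralChar, hχz, mul_zero, zero_div, zero_sub] at hc
      have hc' := CfsgLib.Block.memLocalIdeal_mul_left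
        (CfsgLib.Block.memLocalRing_natCast_inv hM (hidx _ z.2)) (CfsgLib.Block.memLocalIdeal_neg hc)
      rw [neg_neg, hψ1.1, mul_div_assoc, inv_mul_cancel_left₀] at hc'
      · exact hc'
      · exact Nat.cast_ne_zero.2 Subgroup.index_ne_zero_of_finite
    have hA : Cfsg.MemLocalIdeal M ((∑ z : Z, (ψ : G → ℂ) z) / (d : ℂ) - 1) := by
      rw [← Finset.add_sum_erase _ _ (Finset.mem_univ (1 : Z)), add_div, Subgroup.coe_one,
        hψ1.1, div_self (Nat.cast_ne_zero.2 hψ1.2.ne'), add_sub_cancel_left, Finset.sum_div]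
      exact CfsgLib.Block.memLocalIdeal_sum fun z hz => hsmall z (Finset.ne_of_mem_erase hz)
    have hB : Cfsg.MemLocalIdeal M ((∑ z : Z, (ψ : G → ℂ) z) / (d : ℂ)) := by
      have hr : ¬ p ∣ d / p ^ d.factorization p := Nat.not_dvd_ordCompl hp hψ1.2.ne'
      have hds : (d : ℂ) = (p : ℂ) ^ d.factorization p * ((d / p ^ d.factorization p : ℕ) : ℂ) := by
        rw [← Nat.cast_pow, ← Nat.cast_mul, Nat.mul_div_cancel' (Nat.ordProj_dvd d p)]
      obtain ⟨e, he⟩ := Nat.exists_eq_add_of_lt hlt
      have heq : (∑ z : Z, (ψ : G → ℂ) z) / (d : ℂ) =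
          (p : ℂ) * ((p : ℂ) ^ e * (k : ℂ) * ((d / p ^ d.factorization p : ℕ) : ℂ)⁻¹) := by
        rw [show (∑ z : Z, (ψ : G → ℂ) z) = (p : ℂ) ^ b * (k : ℂ) from hk, hds, he]
        have : (p : ℂ) ≠ 0 := Nat.cast_ne_zero.2 hp.ne_zero
        field_simp
        ring
      rw [heq]
      exact CfsgLib.Block.memLocalIdeal_mul_right (CfsgLib.Block.memLocalIdeal_p hM)
        (CfsgLib.Block.memLocalRing_mul (CfsgLib.Block.memLocalRing_mul
          (CfsgLib.Block.memLocalRing_of_isIntegral (by
            exact_mod_cast isIntegral_natCast (p ^ e)))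
          (CfsgLib.Block.memLocalRing_of_isIntegral (isIntegral_natCast k)))
          (CfsgLib.Block.memLocalRing_natCast_inv hM hr))
    exact CfsgLib.Block.not_memLocalIdeal_one (by
      simpa using CfsgLib.Block.memLocalIdeal_sub hB hA)
  have hfac : (Nat.card G).factorization p = a := by
    have := P.card_eq_multiplicity
    rw [ha] at this
    exact (Nat.pow_right_injective hp.two_le this).symm
  have hmain : Cfsg.blockDefect p (Cfsg.blockOf M (χ : G → ℂ)) ≤ a - b := by
    rw [Cfsg.blockDefect, hfac]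
    refine Nat.sub_le_sub_left (le_csInf
      (Set.Nonempty.image _ ⟨χ, CfsgLib.Block.mem_blockOf_self χ⟩) ?_) a
    rintro _ ⟨ψ, hψ, rfl⟩
    exact key ψ hψ
  refine ⟨hmain, fun hc => ?_⟩
  haveI := hc
  have htop : Subgroup.center ↥(P : Subgroup G) = ⊤ := by
    ext x
    simp only [Subgroup.mem_center_iff, Subgroup.mem_top, iff_true]
    exact fun g => mul_comm' g x
  rw [htop, Subgroup.card_top, ha] at hb
  have hab := Nat.pow_right_injective hp.two_le hb
  omega

end Cfsg.Agent.S4730
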