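import Cfsg.Statements.S4731
import Cfsg.Agent.Blocks.Regular
import Cfsg.Agent.Blocks.Principal

set_option autoImplicit false
open Cfsg

namespace Cfsg.Agent.S4731

/-- Let p ≠ q be primes, M_p and M_q maximal ideals of the algebraic integers containing p and q respectively, and G a finite group with no element of order pq; let q^b be the q-part of the order of G. For a p-block B_p (relative to M_p), a q-block B_q (relative to M_q) and a p-singular element y, the sum of χ(1)χ(y) over the irreducible characters χ lying in both B_p and B_q is q^b times an algebraic integer. -/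
theorem result {G : Type*} [Group G] [Finite G] (p q : ℕ) [Fact p.Prime] [Fact q.Prime] (hpq : p ≠ q) (Mp Mq : Ideal Cfsg.AlgInt) (hMp : Cfsg.IsPModular p Mp) (hMq : Cfsg.IsPModular q Mq) (hno : ∀ g : G, orderOf g ≠ p * q) (b : ℕ) (hb : (Nat.card G).factorization q = b) (Bp : Set (Cfsg.IrrCharacter G)) (hBp : Cfsg.IsPBlock Mp Bp) (Bq : Set (Cfsg.IrrCharacter G)) (hBq : Cfsg.IsPBlock Mq Bq) (y : G) (hy : p ∣ orderOf y) : ∃ ω : Cfsg.AlgInt, ∑ᶠ χ ∈ Bp ∩ Bq, (Cfsg.charDegree (χ : G → ℂ) : ℂ) * (χ : G → ℂ) y = (q : ℂ) ^ b * (ω : ℂ) := by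
  haveI := Fintype.ofFinite G
  haveI := hMp.2.1.isPrime
  haveI := hMq.2.1.isPrime
  classical
  letI := CfsgLib.Block.Chr.irrFintype (G := G)
  set f : G → ℂ := fun g => ∑ χ ∈ Finset.univ.filter (· ∈ Bp),
    (χ : G → ℂ) g * (χ : G → ℂ) y with hf
  set F : G → ℂ := fun g => ∑ χ ∈ Finset.univ.filter (· ∈ Bp ∩ Bq),
    (χ : G → ℂ) g * (χ : G → ℂ) y with hF
  have hfreg : CfsgLib.Block.regPart q f = f := by
    funext g
    by_cases hg : q ∣ orderOf g
    · rw [CfsgLib.Block.regPart_of_dvd hg]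
      have hpg : ¬ p ∣ orderOf g := by
        intro h
        have hd : p * q ∣ orderOf g := ((Nat.coprime_primes (Fact.out : p.Prime)
          (Fact.out : q.Prime)).2 hpq).mul_dvd_of_dvd_of_dvd h hg
        exact hno _ (orderOf_pow_orderOf_div (orderOf_pos g).ne' hd)
      have h := CfsgLib.Block.weak_orth hMp (CfsgLib.Block.isIntClass_blockCoeff hBp)
        (g := g) (h := y⁻¹) hpg (by rwa [orderOf_inv])
      simpa [hf, CfsgLib.Block.Chr.conj_irr] using h.symm
    · exact CfsgLib.Block.regPart_of_not_dvd hg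
  have hinner : ∀ ψ : Cfsg.IrrCharacter G, Cfsg.classInner f (ψ : G → ℂ) =
      if ψ ∈ Bp then (ψ : G → ℂ) y else 0 := by
    intro ψ
    have h1 : Cfsg.classInner f (ψ : G → ℂ) = ∑ χ ∈ Finset.univ.filter (· ∈ Bp),
        (χ : G → ℂ) y * Cfsg.classInner (χ : G → ℂ) (ψ : G → ℂ) := by
      simp only [hf, Cfsg.classInner, Finset.sum_mul, Finset.mul_sum]
      rw [Finset.sum_comm]
      exact Finset.sum_congr rfl fun χ _ => Finset.sum_congr rfl fun g _ => by ring
    rw [h1]
    simp only [CfsgLib.Block.Chr.classInner_irr, mul_ite, mul_one, mul_zero, Finset.sum_ite_eq',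
      Finset.mem_filter, Finset.mem_univ, true_and]
  have hFeq : Cfsg.blockPart Bq f = F := by
    funext g
    rw [CfsgLib.Block.blockPart_eq_sum_inner, Finset.sum_filter, hF]
    simp only [Finset.sum_filter, hinner, Set.mem_inter_iff]
    exact Finset.sum_congr rfl fun χ _ => by
      by_cases h1 : χ ∈ Bp <;> by_cases h2 : χ ∈ Bq <;> simp [h1, h2, mul_comm]
  have hFzero : ∀ g : G, q ∣ orderOf g → F g = 0 := by
    intro g hg
    rw [← hFeq, ← hfreg, CfsgLib.Block.blockPart_regPart hMq hBq,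
      CfsgLib.Block.regPart_of_dvd hg]
  obtain ⟨Q⟩ : Nonempty (Sylow q G) := inferInstance
  haveI : Fintype (Q : Subgroup G) := Fintype.ofFinite _
  have hQc : Nat.card (Q : Subgroup G) = q ^ b := by rw [Q.card_eq_multiplicity, hb]
  choose k hk using fun χ : Cfsg.IrrCharacter G =>
    CfsgLib.Char.IsCharacter.exists_classInner_eq_natCast'
      (CfsgLib.Char.IsCharacter.restrict (CfsgLib.Block.Chr.isCharacter_irr χ) (Q : Subgroup G))
      (CfsgLib.Char.isCharacter_one (G := (Q : Subgroup G)))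
  simp only [Cfsg.classInner, map_one, mul_one] at hk
  have hint : IsIntegral ℤ (∑ χ ∈ Finset.univ.filter (· ∈ Bp ∩ Bq),
      (k χ : ℂ) * (χ : G → ℂ) y) :=
    IsIntegral.sum _ fun χ _ => (isIntegral_natCast (k χ)).mul
      (CfsgLib.Char.IsCharacter.isIntegral (CfsgLib.Block.Chr.isCharacter_irr χ) y)
  refine ⟨⟨_, CfsgLib.Block.mem_algInt_iff.2 hint⟩, ?_⟩
  rw [CfsgLib.Block.finsum_set_eq, Finset.mul_sum]
  have hq0 : (Nat.card (Q : Subgroup G) : ℂ) ≠ 0 := Nat.cast_ne_zero.2 Nat.card_pos.ne'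
  have hsum : ∑ x : (Q : Subgroup G), F x = F 1 := by
    rw [← Finset.add_sum_erase _ _ (Finset.mem_univ (1 : (Q : Subgroup G)))]
    rw [Finset.sum_eq_zero fun x hx => ?_, add_zero, Subgroup.coe_one]
    refine hFzero _ ?_
    obtain ⟨j, hj⟩ := IsPGroup.iff_orderOf.1 Q.isPGroup' x
    rw [Subgroup.orderOf_coe, hj]
    refine dvd_pow_self q fun h0 => Finset.ne_of_mem_erase hx ?_
    rw [h0, pow_zero, orderOf_eq_one_iff] at hj
    exact hj
  have hF1 : F 1 = ∑ χ ∈ Finset.univ.filter (· ∈ Bp ∩ Bq),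
      (Cfsg.charDegree (χ : G → ℂ) : ℂ) * (χ : G → ℂ) y :=
    Finset.sum_congr rfl fun χ _ => by rw [(CfsgLib.Block.Chr.irr_one χ).1]
  rw [← hF1, ← hsum]
  simp only [hF]
  rw [Finset.sum_comm]
  refine Finset.sum_congr rfl fun χ _ => ?_
  rw [← Finset.sum_mul, ← hk χ, ← mul_assoc, ← mul_assoc, ← Nat.cast_pow, ← hQc,
    mul_inv_cancel₀ hq0, one_mul]

end Cfsg.Agent.S4731
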