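import Cfsg.Statements.S4734
import Cfsg.Agent.BlocksB.PiKernel
import Cfsg.Agent.Blocks.SecondMain

set_option autoImplicit false
open Cfsg

namespace Cfsg.Agent.S4734

/-- Let p be a prime, π a set of primes containing p, M a maximal ideal of the algebraic integers containing p, B a p-block of the finite group G with defect group D, and B₁ the block of N_G(D) with defect group D inducing B. Write O_π'(X) for the largest normal subgroup of X whose order has no prime divisor in π, and suppose every element of O_π'(N_G(D)) lies in the kernel of every member of B₁. Let G₀ be a subgroup and B₀ a block of G₀ with defect group D₀ such that C_G(D₀) ≤ G₀ and B₀ induces B. Then every element of O_π'(G₀) lies in the kernel of every member of B₀. -/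
theorem result {G : Type*} [Group G] [Finite G] (p : ℕ) [Fact p.Prime] (M : Ideal Cfsg.AlgInt) (hM : Cfsg.IsPModular p M) (π : Set ℕ) (hpπ : p ∈ π) (B : Set (Cfsg.IrrCharacter G)) (hB : Cfsg.IsPBlock M B) (D : Subgroup G) (hBD : Cfsg.IsDefectGroup p M B D) (B₁ : Set (Cfsg.IrrCharacter ↥(Subgroup.normalizer (D : Set G)))) (hB₁ : Cfsg.IsInducedBlock M (Subgroup.normalizer (D : Set G)) B₁ B) (hB₁D : Cfsg.IsDefectGroup p M B₁ (D.subgroupOf (Subgroup.normalizer (D : Set G)))) (hker : ∀ n : ↥(Subgroup.normalizer (D : Set G)), n ∈ Cfsg.piCore {q | q ∉ π} ↥(Subgroup.normalizer (D : Set G)) → n ∈ Cfsg.blockKer B₁) (G₀ : Subgroup G) (B₀ : Set (Cfsg.IrrCharacter ↥G₀)) (hB₀ : Cfsg.IsInducedBlock M G₀ B₀ B) (D₀ : Subgroup ↥G₀) (hD₀ : Cfsg.IsDefectGroup p M B₀ D₀) (hC : Subgroup.centralizer ((D₀.map G₀.subtype : Subgroup G) : Set G) ≤ G₀) : ∀ x : ↥G₀, x ∈ Cfsg.piCore {q | q ∉ π} ↥G₀ → x ∈ Cfsg.blockKer B₀ := by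
  classical
  letI := Fintype.ofFinite G
  haveI := hM.2.1.isPrime
  haveI := CfsgLib.Block.charP_residue hM
  have hσ : p ∉ {q : ℕ | q ∉ π} := fun h => h hpπ
  obtain ⟨f₁, hmax, hiff⟩ := CfsgLib.BlockB.exists_maxPair_ker_iff hM hσ hBD hB₁ hB₁D
  haveI := Fintype.ofFinite G₀
  have hblkB := CfsgLib.BrauerPairs.isBlk_idem hM hB
  obtain ⟨hD, hDG, hne, -⟩ :=
    (CfsgLib.BrauerPairs.isDefectGroup_sub_iff hM G₀ hB₀.1 D₀).1 hD₀
  have hblk := CfsgLib.BrauerPairs.isBlk_idemIn hM hB₀.1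
  set u := CfsgLib.BrauerPairs.idemIn M G₀ B₀ with hu
  set D' := D₀.map G₀.subtype
  obtain ⟨f, hf, hfu⟩ := CfsgLib.BlockB.exists_blk_below
    (a := CfsgLib.BrauerPairs.br D' u) (Q := D')
    ⟨CfsgLib.BrauerPairs.suppIn_br u, CfsgLib.BrauerPairs.fixBy_br (hblk.fixBy.mono hC)
      (CfsgLib.BrauerPairs.centralizer_le_normalizer D')⟩
    (CfsgLib.BrauerPairs.br_idem hD hblk.idem (hblk.fixBy.mono hDG)) hne
  have hpair := CfsgLib.BlockB.isPairOf_of_induced_sub hM hD hDG hC hB₀ hf hfu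
  have hkills := CfsgLib.BlockB.kills_of_max hblkB hmax hσ (hiff.2 hker) hpair
  set K := piCoreOf {q : ℕ | q ∉ π} G₀ with hK
  have h0 : (Nat.card K : CfsgLib.Block.Residue M) ≠ 0 :=
    CfsgLib.BlockB.natCard_piCoreOf_ne_zero hσ le_rfl
  have hKG : G₀ ≤ Subgroup.normalizer (K : Set G) := CfsgLib.BlockB.le_normalizer_piCoreOf G₀
  have hav : CfsgLib.BlockB.avg (CfsgLib.Block.Residue M) K ∈ _ :=
    CfsgLib.BlockB.avg_mem_alg (CfsgLib.BlockB.piCoreOf_le G₀) hKG
  have hmulu : CfsgLib.BlockB.avg (CfsgLib.Block.Residue M) K * u = u := by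
    rw [CfsgLib.BrauerPairs.alg_comm (k := CfsgLib.Block.Residue M) le_rfl _ hav _ hblk.mem]
    refine (hblk.mul_eq_zero_or hav (CfsgLib.BlockB.mul_self_avg h0)).resolve_left fun hz => ?_
    have hle : K ⊓ Subgroup.centralizer (D' : Set G) ≤
        piCoreOf {q : ℕ | q ∉ π} (Subgroup.centralizer (D' : Set G)) := by
      refine CfsgLib.BlockB.le_piCoreOf inf_le_right ?_ fun q hq hd =>
        CfsgLib.BlockB.prime_dvd_piCoreOf G₀ q hq
          (hd.trans (Subgroup.card_dvd_of_le inf_le_left))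
      intro c hc
      rw [Subgroup.mem_normalizer_iff]
      intro z
      have h1 := Subgroup.mem_normalizer_iff.1 (hKG (hC hc)) z
      simp only [Subgroup.mem_inf, h1]
      exact and_congr_right fun _ =>
        ⟨fun hz => mul_mem (mul_mem hc hz) (inv_mem hc),
          fun hz => by simpa [mul_assoc] using mul_mem (mul_mem (inv_mem hc) hz) hc⟩
    have h1 := hkills.mono hσ hle
    have hzero : CfsgLib.BrauerPairs.br D' (CfsgLib.BlockB.avg (CfsgLib.Block.Residue M) K) *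
        CfsgLib.BrauerPairs.br D' u = 0 := by
      rw [← CfsgLib.BrauerPairs.br_mul hD (hav.2.mono hDG) (hblk.fixBy.mono hDG),
        CfsgLib.BrauerPairs.alg_comm (k := CfsgLib.Block.Residue M) le_rfl _ hav _ hblk.mem, hz,
        map_zero]
    rw [CfsgLib.BlockB.br_avg hD (hDG.trans hKG) h0] at hzero
    refine hf.ne_zero ?_
    calc f = CfsgLib.BlockB.avg (CfsgLib.Block.Residue M) (K ⊓ Subgroup.centralizer (D' : Set G)) *
          f := h1.symm
      _ = CfsgLib.BlockB.avg (CfsgLib.Block.Residue M) (K ⊓ Subgroup.centralizer (D' : Set G)) *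
          (CfsgLib.BrauerPairs.br D' u * f) := by rw [hfu]
      _ = 0 := by rw [← mul_assoc, hzero, zero_mul]
  have hk := (CfsgLib.BlockB.avg_mul_idemIn_iff hM hB₀.1 (CfsgLib.BlockB.piCoreOf_le G₀) hKG h0).1
    hmulu
  exact fun x hx ξ hξ => hk ξ hξ x ((CfsgLib.BlockB.mem_piCore_iff x).1 hx)

end Cfsg.Agent.S4734
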