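import Cfsg.Statements.S4735
import Cfsg.Agent.BlocksB.PrincipalNorm

set_option autoImplicit false
open Cfsg

namespace Cfsg.Agent.S4735

/-- Let p be a prime, M a maximal ideal of the algebraic integers containing p, G a finite group, H = O_p'(G) and Ḡ = G/H. For x ∈ G write λ(G, x) for the sum of |χ(x)|^2 over the irreducible characters χ in the principal p-block of G. Then λ(G, x) is a positive integer, λ(G, x) = λ(Ḡ, x̄) where x̄ is the image of x, and λ(G, x) ≤ #C_Ḡ(x̄). Moreover λ(G, 1) = [G : H] if and only if the principal block is the only p-block of Ḡ. -/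
theorem result {G : Type*} [Group G] [Finite G] (p : ℕ) [Fact p.Prime] (M : Ideal Cfsg.AlgInt) (hM : Cfsg.IsPModular p M) (x : G) : (∃ n : ℕ, 0 < n ∧ ∑ᶠ χ ∈ Cfsg.principalBlock M G, Complex.normSq ((χ : G → ℂ) x) = n) ∧ ∑ᶠ χ ∈ Cfsg.principalBlock M G, Complex.normSq ((χ : G → ℂ) x) = ∑ᶠ ψ ∈ Cfsg.principalBlock M (G ⧸ Cfsg.pPrimeCore p G), Complex.normSq ((ψ : G ⧸ Cfsg.pPrimeCore p G → ℂ) (QuotientGroup.mk x)) ∧ ∑ᶠ χ ∈ Cfsg.principalBlock M G, Complex.normSq ((χ : G → ℂ) x) ≤ (Nat.card ↥(Subgroup.centralizer ({(QuotientGroup.mk x : G ⧸ Cfsg.pPrimeCore p G)} : Set (G ⧸ Cfsg.pPrimeCore p G))) : ℝ) ∧ ((∑ᶠ χ ∈ Cfsg.principalBlock M G, Cfsg.charDegree (χ : G → ℂ) ^ 2) = (Cfsg.pPrimeCore p G).index ↔ ∀ B : Set (Cfsg.IrrCharacter (G ⧸ Cfsg.pPrimeCore p G)), Cfsg.IsPBlock M B → B = Cfsg.principalBlock M (G ⧸ Cfsg.pPrimeCore p G)) := by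
  classical
  haveI := hM.2.1.isPrime
  haveI := Fintype.ofFinite G
  letI := CfsgLib.Block.Chr.irrFintype (G := G)
  set H := Cfsg.pPrimeCore p G with hH
  haveI := Fintype.ofFinite (G ⧸ H)
  letI := CfsgLib.Block.Chr.irrFintype (G := G ⧸ H)
  have hp : p.Prime := Fact.out
  have hN : ¬ p ∣ Nat.card H := fun h =>
    hp.one_lt.ne' (Nat.eq_one_of_dvd_coprimes (CfsgLib.Solvable.coprime_card_pPrimeCore (p := p)) h dvd_rfl)
  have h1 := CfsgLib.PrincipalNorm.sum_quotient hM H hN (fun f => Complex.normSq (f x))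
  have h2 := CfsgLib.PrincipalNorm.sum_quotient hM H hN (fun f => Cfsg.charDegree f ^ 2)
  refine ⟨CfsgLib.PrincipalNorm.exists_nat hM x, h1, ?_, ?_⟩
  · rw [h1]
    exact CfsgLib.PrincipalNorm.normSq_le (QuotientGroup.mk x)
  · rw [h2, show H.index = Nat.card (G ⧸ H) from rfl]
    exact CfsgLib.PrincipalNorm.sum_sq_eq_iff (G := G ⧸ H)

end Cfsg.Agent.S4735
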