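import Cfsg.Statements.S4736
import Cfsg.Agent.Blocks.PSolvablePrincipal
import Cfsg.Agent.BlocksB.QuotientDefect
import Cfsg.Agent.S4713

set_option autoImplicit false
set_option linter.style.haveILetI false
open Cfsg

namespace Cfsg.Agent.S4736

/-- In a p-solvable group, the Sylow p-subgroups are abelian if and only if every character of the principal p-block has height zero. -/
theorem result {G : Type*} [Group G] [Finite G] (p : ℕ) [Fact p.Prime] (M : Ideal Cfsg.AlgInt) (hM : Cfsg.IsPModular p M) (hsolv : Cfsg.IsPSolvable p G) (P : Sylow p G) : IsMulCommutative P ↔ ∀ χ ∈ Cfsg.principalBlock M G, Cfsg.blockHeight p (Cfsg.principalBlock M G) (χ : G → ℂ) = 0 := by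
  classical
  haveI := Fintype.ofFinite G
  haveI := hM.2.1.isPrime
  haveI : (Cfsg.pPrimeCore p G).Normal := CfsgLib.Solvable.pPrimeCore_normal p
  haveI : Fintype (G ⧸ Cfsg.pPrimeCore p G) := Fintype.ofFinite _
  have hp : p.Prime := Fact.out
  set K := Cfsg.pPrimeCore p G with hK
  set π := QuotientGroup.mk' K with hπ
  have hsurj : Function.Surjective π := QuotientGroup.mk'_surjective K
  obtain ⟨hmem, -⟩ := CfsgLib.Block.principalBlock_of_constrained hM
    (CfsgLib.Block.selfCent_quotient_of_pSolvable hsolv)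
  have hone : (0 : ℕ) ∈ (fun ψ : Cfsg.IrrCharacter G => (Cfsg.charDegree (ψ : G → ℂ)).factorization p) '' Cfsg.principalBlock M G :=
    ⟨CfsgLib.Block.oneIrr G, CfsgLib.Block.oneIrr_mem_principalBlock, by
      simp [Cfsg.charDegree]⟩
  have hh : ∀ χ : Cfsg.IrrCharacter G, Cfsg.blockHeight p (Cfsg.principalBlock M G) (χ : G → ℂ) = 0 ↔
      ¬ p ∣ Cfsg.charDegree (χ : G → ℂ) := by
    intro χ
    rw [Cfsg.blockHeight, Nat.sInf_eq_zero.2 (Or.inl hone), Nat.sub_zero,
      Nat.factorization_eq_zero_iff]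
    have h0 := (CfsgLib.Block.Chr.irr_one χ).2
    simp [hp, h0.ne']
  have hq := Cfsg.Agent.S4713.result p (CfsgLib.PConstrained.isPSolvable_map π hsurj hsolv)
    (P.mapSurjective hsurj)
  have hker : ∀ x ∈ (P : Subgroup G), π x = 1 → x = 1 := by
    intro x hx h1
    obtain ⟨k, hk⟩ := IsPGroup.iff_orderOf.1 P.2 ⟨x, hx⟩
    rw [Subgroup.orderOf_mk] at hk
    refine orderOf_eq_one_iff.1 (Nat.eq_one_of_dvd_coprimes
      ((CfsgLib.Solvable.coprime_card_pPrimeCore (G := G) p).pow_right k) ?_ hk.dvd)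
    exact Subgroup.orderOf_dvd_natCard _ ((QuotientGroup.eq_one_iff x).1 h1)
  have hcoe : ((P.mapSurjective hsurj : Sylow p (G ⧸ K)) : Subgroup (G ⧸ K)) =
      (P : Subgroup G).map π := Sylow.coe_mapSurjective hsurj P
  constructor
  · intro hP χ hχ
    rw [hh]
    obtain ⟨φ, hφ⟩ := CfsgLib.Block.exists_quotient_irr K χ ((hmem χ).1 hχ)
    have hPb : IsMulCommutative (P.mapSurjective hsurj : Sylow p (G ⧸ K)) := ⟨⟨fun a b => by
      obtain ⟨x, hx, hxa⟩ := hcoe.le a.2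
      obtain ⟨y, hy, hyb⟩ := hcoe.le b.2
      refine Subtype.ext ?_
      show (a : G ⧸ K) * b = b * a
      rw [← hxa, ← hyb, ← map_mul, ← map_mul,
        show x * y = y * x from congrArg Subtype.val (hP.is_comm.comm ⟨x, hx⟩ ⟨y, hy⟩)]⟩⟩
    have hle : Cfsg.pCore p (G ⧸ K) ≤ (P.mapSurjective hsurj : Subgroup (G ⧸ K)) :=
      CfsgLib.Fitting.pCore_le_sylow _
    have heq : ((P.mapSurjective hsurj : Sylow p (G ⧸ K)) : Subgroup (G ⧸ K)) =
        Cfsg.pCore p (G ⧸ K) := by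
      refine le_antisymm (fun a ha => ?_) hle
      refine CfsgLib.Block.selfCent_quotient_of_pSolvable hsolv (Subgroup.mem_centralizer_iff.2
        fun b hb => ?_)
      exact congrArg Subtype.val (hPb.is_comm.comm ⟨b, hle hb⟩ ⟨a, ha⟩)
    have := hq.1 ⟨heq ▸ CfsgLib.Solvable.pCore_normal p, hPb⟩ φ
    have e : Cfsg.charDegree (χ : G → ℂ) = Cfsg.charDegree (φ : G ⧸ K → ℂ) := by
      rw [Cfsg.charDegree, Cfsg.charDegree, hφ 1, QuotientGroup.mk_one]
    rwa [e]
  · intro h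
    have hd : ∀ φ : Cfsg.IrrCharacter (G ⧸ K), ¬ p ∣ Cfsg.charDegree (φ : G ⧸ K → ℂ) := by
      intro φ
      have h1 := (hh (CfsgLib.Block.Quot.inflIrr φ)).1 (h _ ((hmem _).2 fun k hk => ?_))
      · exact h1
      · show (φ : G ⧸ K → ℂ) (k : G ⧸ K) = (φ : G ⧸ K → ℂ) ((1 : G) : G ⧸ K)
        rw [(QuotientGroup.eq_one_iff k).2 hk, QuotientGroup.mk_one]
    obtain ⟨-, hc⟩ := hq.2 hd
    refine ⟨⟨fun a b => Subtype.ext ?_⟩⟩
    have h2 : π ((a : G) * b) = π ((b : G) * a) := by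
      rw [map_mul, map_mul]
      exact congrArg Subtype.val (hc.is_comm.comm ⟨π a, hcoe.ge ⟨a, a.2, rfl⟩⟩ ⟨π b, hcoe.ge ⟨b, b.2, rfl⟩⟩)
    show (a : G) * b = b * a
    have h3 := hker _ (Subgroup.mul_mem _ (Subgroup.mul_mem _ a.2 b.2)
      (Subgroup.inv_mem _ (Subgroup.mul_mem _ b.2 a.2))) (by rw [map_mul, map_inv, h2, mul_inv_cancel])
    exact mul_inv_eq_one.1 h3

end Cfsg.Agent.S4736
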