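import Cfsg.Statements.S4737
import Cfsg.Agent.BlocksB.OrderThree

set_option autoImplicit false
open Cfsg

namespace Cfsg.Agent.S4737

/-- Let G be a finite group of order divisible by 6. Then the number of irreducible characters of G whose degree has the same 2-part as the order of G (the characters of 2-defect zero, each forming a 2-block of defect zero on its own) is at least the number of conjugacy classes of elements of order 3 that normalize no nontrivial 2-subgroup of G. In particular G has a 2-block of defect zero as soon as some element of order 3 normalizes no nontrivial 2-subgroup. -/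
theorem result {G : Type*} [Group G] [Finite G] (h6 : 6 ∣ Nat.card G) : Nat.card {C : ConjClasses G // ∃ g ∈ C.carrier, orderOf g = 3 ∧ ∀ Q : Subgroup G, IsPGroup 2 ↥Q → g ∈ Subgroup.normalizer (Q : Set G) → Q = ⊥} ≤ Nat.card {χ : Cfsg.IrrCharacter G // (Cfsg.charDegree (χ : G → ℂ)).factorization 2 = (Nat.card G).factorization 2} := by
  classical
  have : Fintype {C : ConjClasses G // ∃ g ∈ C.carrier, orderOf g = 3 ∧
      ∀ Q : Subgroup G, IsPGroup 2 ↥Q → g ∈ Subgroup.normalizer (Q : Set G) → Q = ⊥} :=
    Fintype.ofFinite _
  rw [Nat.card_eq_fintype_card]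
  refine CfsgLib.BlocksB.card_class_le_card_defectZero
    (fun C : {C : ConjClasses G // ∃ g ∈ C.carrier, orderOf g = 3 ∧
      ∀ Q : Subgroup G, IsPGroup 2 ↥Q → g ∈ Subgroup.normalizer (Q : Set G) → Q = ⊥} => C.2.choose)
    (fun i j h => ?_) (fun i => ?_) (fun i => i.2.choose_spec.2.2) (fun i => ?_)
  · refine Subtype.ext ?_
    rw [← ConjClasses.mem_carrier_iff_mk_eq.mp i.2.choose_spec.1,
      ← ConjClasses.mem_carrier_iff_mk_eq.mp j.2.choose_spec.1]
    exact ConjClasses.mk_eq_mk_iff_isConj.mpr h
  · have h3 := pow_orderOf_eq_one i.2.choose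
    rw [i.2.choose_spec.2.1, pow_succ, pow_two] at h3
    exact h3
  · intro h1
    have h3 := i.2.choose_spec.2.1
    rw [h1, orderOf_one] at h3
    omega

end Cfsg.Agent.S4737
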