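import Cfsg.Statements.S4738
import Cfsg.Agent.BlocksB.OddCentralizer

set_option autoImplicit false
open Cfsg

namespace Cfsg.Agent.S4738

/-- Let p be an odd prime and G a finite group of even order containing no element of order 2p. Then either G has an irreducible character of p-defect zero (its degree has the same p-part as the order of G), or every Sylow p-subgroup of G is abelian and all involutions of G are conjugate. -/
theorem result {G : Type*} [Group G] [Finite G] (p : ℕ) [Fact p.Prime] (hp2 : p ≠ 2) (hG : Even (Nat.card G)) (h2p : ∀ g : G, orderOf g ≠ 2 * p) : (∃ χ : Cfsg.IrrCharacter G, (Cfsg.charDegree (χ : G → ℂ)).factorization p = (Nat.card G).factorization p) ∨ ((∀ P : Sylow p G, IsMulCommutative ↥(P : Subgroup G)) ∧ ∀ s t : G, orderOf s = 2 → orderOf t = 2 → IsConj s t) := by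
  by_cases hno : ∃ χ : Cfsg.IrrCharacter G,
      (Cfsg.charDegree (χ : G → ℂ)).factorization p = (Nat.card G).factorization p
  · exact Or.inl hno
  have hpG : p ∣ Nat.card G := by
    by_contra h
    refine hno ⟨⟨fun _ => 1, CfsgLib.Char.isIrrCharacter_one⟩, ?_⟩
    simp [Cfsg.charDegree, Nat.factorization_eq_zero_of_not_dvd h]
  have hC : ∀ g : G, g ≠ 1 → (∃ k : ℕ, orderOf g = p ^ k) →
      Odd (Nat.card (Subgroup.centralizer ({g} : Set G))) := by
    intro g hg1 hgp
    rw [← Nat.not_even_iff_odd, even_iff_two_dvd]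
    intro hdvd
    obtain ⟨t, ht⟩ := exists_prime_orderOf_dvd_card' 2 hdvd
    obtain ⟨k, hk⟩ := hgp
    have hk0 : 1 ≤ k := by
      rcases k with _ | k
      · rw [pow_zero, orderOf_eq_one_iff] at hk; exact absurd hk hg1
      · omega
    have ht' : orderOf (t : G) = 2 := by rw [Subgroup.orderOf_coe, ht]
    have hgp' : orderOf (g ^ p ^ (k - 1)) = p := by
      rw [orderOf_pow' _ (pow_ne_zero _ (Fact.out : p.Prime).ne_zero), hk,
        Nat.gcd_eq_right (Nat.pow_dvd_pow p (by omega)), Nat.pow_div (by omega)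
        (Fact.out : p.Prime).pos, show k - (k - 1) = 1 by omega, pow_one]
    have hcomm : Commute (t : G) (g ^ p ^ (k - 1)) :=
      Commute.pow_right (Subgroup.mem_centralizer_singleton_iff.mp t.2) _
    exact h2p _ ((hcomm.orderOf_mul_eq_mul_orderOf_of_coprime (by
      rw [ht', hgp']; exact (Nat.coprime_primes Nat.prime_two Fact.out).mpr hp2.symm)).trans
        (by rw [ht', hgp']))
  obtain ⟨x, hx⟩ := exists_prime_orderOf_dvd_card' 2 hG.two_dvd
  refine Or.inr ⟨fun P => ?_, fun s t hs ht => ?_⟩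
  · obtain ⟨u, -, hinv⟩ := CfsgLib.BlocksB.exists_conj_inverts p hpG hC hno x hx P
    exact CfsgLib.BlocksB.isMulCommutative_of_inverted hinv
  · let P : Sylow p G := default
    obtain ⟨a, ha, hainv⟩ := CfsgLib.BlocksB.exists_conj_inverts p hpG hC hno s hs P
    obtain ⟨b, hb, hbinv⟩ := CfsgLib.BlocksB.exists_conj_inverts p hpG hC hno t ht P
    refine ha.trans (IsConj.trans ?_ hb.symm)
    have hinvol : ∀ s w : G, orderOf s = 2 → IsConj s w → w * w = 1 := by
      intro s w hs hw
      obtain ⟨d, rfl⟩ := isConj_iff.mp hw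
      have : s * s = 1 := by rw [← pow_two, ← hs]; exact pow_orderOf_eq_one s
      calc d * s * d⁻¹ * (d * s * d⁻¹) = d * (s * s) * d⁻¹ := by group
        _ = 1 := by rw [this]; group
    have haa := hinvol s a hs ha
    have hbb := hinvol t b ht hb
    have ha' : a⁻¹ = a := inv_eq_of_mul_eq_one_right haa
    have hb' : b⁻¹ = b := inv_eq_of_mul_eq_one_right hbb
    haveI : Nontrivial (P : Subgroup G) := by
      rw [Subgroup.nontrivial_iff_ne_bot]
      exact P.ne_bot_of_dvd_card hpG
    obtain ⟨⟨z, hz⟩, hz1⟩ := exists_ne (1 : (P : Subgroup G))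
    obtain ⟨k, hk⟩ := IsPGroup.iff_orderOf.mp P.isPGroup' ⟨z, hz⟩
    have hodd := hC z (fun h => hz1 (Subtype.ext h)) ⟨k, by rw [← hk, ← Subgroup.orderOf_coe]⟩
    set c := a * b with hc
    have hcz : c ∈ Subgroup.centralizer ({z} : Set G) := by
      have h1 : b * z * b⁻¹ = z⁻¹ := hbinv z hz
      have h2 : a * z⁻¹ * a⁻¹ = z := by rw [hainv _ (inv_mem hz), inv_inv]
      rw [Subgroup.mem_centralizer_singleton_iff, hc]
      calc a * b * z = a * (b * z * b⁻¹) * a⁻¹ * (a * b) := by group
        _ = z * (a * b) := by rw [h1, h2]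
    have hmo : Odd (orderOf c) := hodd.of_dvd_nat (Subgroup.orderOf_dvd_natCard _ hcz)
    obtain ⟨m, hm⟩ := hmo
    -- `d = c ^ (m + 1)` squares to `c` and is inverted by `a`
    set d := c ^ (m + 1) with hd
    have hdd : d * d = c := by
      rw [hd, ← pow_add, show m + 1 + (m + 1) = orderOf c + 1 by omega, pow_succ,
        pow_orderOf_eq_one, one_mul]
    have hac : a * c * a⁻¹ = c⁻¹ := by
      rw [hc, mul_inv_rev, hb', ha', ← mul_assoc a a b, haa, one_mul]
    have had : a * d * a⁻¹ = d⁻¹ := by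
      rw [hd, ← conj_pow, hac, inv_pow]
    refine isConj_iff.mpr ⟨d⁻¹, ?_⟩
    rw [inv_inv]
    calc d⁻¹ * a * d = a * d * a⁻¹ * a * d := by rw [had]
      _ = a * (d * d) := by group
      _ = b := by rw [hdd, hc, ← mul_assoc, haa, one_mul]

end Cfsg.Agent.S4738
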