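import Cfsg.Statements.S4740
import Cfsg.Agent.BlocksB.OddCentralizer

set_option autoImplicit false
open Cfsg

namespace Cfsg.Agent.S4740

/-- Let p be an odd prime, G a finite group of even order, x an involution of G and P a subgroup of G of order p ^ c such that no conjugate of x inverts a non-identity element of P. If p ^ a is the p-part of the order of C_G(x), then some irreducible character of G has degree divisible by p ^ (c - a). -/
theorem result {G : Type*} [Group G] [Finite G] (p : ℕ) [Fact p.Prime] (hp2 : p ≠ 2) (hG : Even (Nat.card G)) (x : G) (hx : orderOf x = 2) (P : Subgroup G) (c : ℕ) (hP : Nat.card ↥P = p ^ c) (hinv : ∀ g : G, IsConj x g → ∀ z ∈ P, z ≠ 1 → g * z * g⁻¹ ≠ z⁻¹) (a : ℕ) (ha : (Nat.card ↥(Subgroup.centralizer ({x} : Set G))).factorization p = a) : ∃ χ : Cfsg.IrrCharacter G, p ^ (c - a) ∣ Cfsg.charDegree (χ : G → ℂ) := by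
  subst ha
  refine CfsgLib.BlocksB.exists_pow_dvd_charDegree p x P c hP fun u v hu hv huv => ?_
  by_contra hne
  have hinvol : ∀ w, IsConj x w → w * w = 1 := fun w hw => by
    obtain ⟨d, rfl⟩ := isConj_iff.mp hw
    have : x * x = 1 := by rw [← pow_two, ← hx]; exact pow_orderOf_eq_one x
    calc d * x * d⁻¹ * (d * x * d⁻¹) = d * (x * x) * d⁻¹ := by group
      _ = 1 := by rw [this]; group
  refine hinv u hu _ huv (fun h => hne (mul_inv_eq_one.mp h)) ?_
  rw [inv_eq_of_mul_eq_one_right (hinvol u hu), inv_eq_of_mul_eq_one_right (hinvol v hv),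
    mul_inv_rev, inv_eq_of_mul_eq_one_right (hinvol u hu),
    inv_eq_of_mul_eq_one_right (hinvol v hv), ← mul_assoc u u v, hinvol u hu, one_mul]

end Cfsg.Agent.S4740
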