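import Cfsg.Statements.S4742
import Cfsg.Agent.BlocksB.OddCentralizer

set_option autoImplicit false
open Cfsg

namespace Cfsg.Agent.S4742

/-- Let p ≠ q be primes dividing the order of the finite group G, and suppose the centralizer of every non-identity p-element of G has order prime to q. Then either G has an irreducible character of p-defect zero, or for every non-identity q-element z of G there are conjugates g, h of z such that g h⁻¹ is a non-identity p-element. -/
theorem result {G : Type*} [Group G] [Finite G] (p q : ℕ) [Fact p.Prime] [Fact q.Prime] (hppq : p ≠ q) (hpG : p ∣ Nat.card G) (hqG : q ∣ Nat.card G) (hC : ∀ g : G, g ≠ 1 → (∃ k : ℕ, orderOf g = p ^ k) → ¬ q ∣ Nat.card ↥(Subgroup.centralizer ({g} : Set G))) : (∃ χ : Cfsg.IrrCharacter G, (Cfsg.charDegree (χ : G → ℂ)).factorization p = (Nat.card G).factorization p) ∨ ∀ z : G, z ≠ 1 → (∃ k : ℕ, orderOf z = q ^ k) → ∃ g h : G, IsConj z g ∧ IsConj z h ∧ g * h⁻¹ ≠ 1 ∧ ∃ k : ℕ, orderOf (g * h⁻¹) = p ^ k := by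
  by_cases hno : ∃ χ : Cfsg.IrrCharacter G,
      (Cfsg.charDegree (χ : G → ℂ)).factorization p = (Nat.card G).factorization p
  · exact Or.inl hno
  refine Or.inr fun z hz1 hzq => ?_
  obtain ⟨u, v, hu, hv, hne, hmem⟩ := (CfsgLib.BlocksB.exists_dz_or_pair p z
    (CfsgLib.BlocksB.not_dvd_centralizer_symm hC z hz1 hzq) default).resolve_left hno
  obtain ⟨k, hk⟩ := IsPGroup.iff_orderOf.mp (default : Sylow p G).isPGroup' ⟨_, hmem⟩
  exact ⟨u, v, hu, hv, fun h => hne (mul_inv_eq_one.mp h), k, by
    rw [← hk, ← Subgroup.orderOf_coe]⟩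

end Cfsg.Agent.S4742
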