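import Cfsg.Statements.S4743
import Cfsg.Agent.BlocksB.OddCentralizer

set_option autoImplicit false
open Cfsg

namespace Cfsg.Agent.S4743

/-- Let p ≠ q be primes dividing the order of the finite group G, suppose the centralizer of every non-identity p-element has order prime to q, and suppose G is p-solvable or q-solvable. Then G has an irreducible character of p-defect zero or an irreducible character of q-defect zero. -/
theorem result {G : Type*} [Group G] [Finite G] (p q : ℕ) [Fact p.Prime] [Fact q.Prime] (hppq : p ≠ q) (hpG : p ∣ Nat.card G) (hqG : q ∣ Nat.card G) (hC : ∀ g : G, g ≠ 1 → (∃ k : ℕ, orderOf g = p ^ k) → ¬ q ∣ Nat.card ↥(Subgroup.centralizer ({g} : Set G))) (hsolv : Cfsg.IsPSolvable p G ∨ Cfsg.IsPSolvable q G) : (∃ χ : Cfsg.IrrCharacter G, (Cfsg.charDegree (χ : G → ℂ)).factorization p = (Nat.card G).factorization p) ∨ (∃ χ : Cfsg.IrrCharacter G, (Cfsg.charDegree (χ : G → ℂ)).factorization q = (Nat.card G).factorization q) := by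
  by_contra hno
  rw [not_or] at hno
  obtain ⟨hp', hq'⟩ := hno
  -- a normal subgroup whose order is divisible by exactly one of `p`, `q` gives a defect zero
  have key : ∀ (p q : ℕ) [Fact p.Prime] [Fact q.Prime],
      (∀ g : G, g ≠ 1 → (∃ k : ℕ, orderOf g = p ^ k) →
        ¬ q ∣ Nat.card ↥(Subgroup.centralizer ({g} : Set G))) →
      ∀ N : Subgroup G, N.Normal → q ∣ Nat.card N → ¬ p ∣ Nat.card N →
      ∃ χ : Cfsg.IrrCharacter G,
        (Cfsg.charDegree (χ : G → ℂ)).factorization p = (Nat.card G).factorization p := by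
    intro p q _ _ hC N hN hqN hpN
    by_contra hno
    obtain ⟨z, hz⟩ := exists_prime_orderOf_dvd_card' q hqN
    have hz' : orderOf (z : G) = q := by rw [Subgroup.orderOf_coe, hz]
    have hz1 : (z : G) ≠ 1 := fun h => by
      rw [h, orderOf_one] at hz'; exact (Fact.out : q.Prime).ne_one hz'.symm
    obtain ⟨u, v, hu, hv, hne, hmem⟩ := (CfsgLib.BlocksB.exists_dz_or_pair p (z : G)
      (CfsgLib.BlocksB.not_dvd_centralizer_symm hC _ hz1 ⟨1, by rw [hz', pow_one]⟩)
      default).resolve_left hno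
    obtain ⟨k, hk⟩ := IsPGroup.iff_orderOf.mp (default : Sylow p G).isPGroup' ⟨_, hmem⟩
    rw [← Subgroup.orderOf_coe] at hk
    simp only at hk
    obtain ⟨a, rfl⟩ := isConj_iff.mp hu
    obtain ⟨b, rfl⟩ := isConj_iff.mp hv
    have hd := Subgroup.orderOf_dvd_natCard N
      (mul_mem (hN.conj_mem _ z.2 a) (inv_mem (hN.conj_mem _ z.2 b)))
    rw [hk] at hd
    rcases k with _ | k
    · rw [pow_zero, orderOf_eq_one_iff, mul_inv_eq_one] at hk; exact hne hk
    · exact hpN ((dvd_pow_self p k.succ_ne_zero).trans hd)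
  have hsymm : ∀ g : G, g ≠ 1 → (∃ k : ℕ, orderOf g = q ^ k) →
      ¬ p ∣ Nat.card ↥(Subgroup.centralizer ({g} : Set G)) :=
    fun g h1 h2 => CfsgLib.BlocksB.not_dvd_centralizer_symm hC g h1 h2
  suffices h : ∃ N : Subgroup G, N.Normal ∧
      ((q ∣ Nat.card N ∧ ¬ p ∣ Nat.card N) ∨ (p ∣ Nat.card N ∧ ¬ q ∣ Nat.card N)) by
    obtain ⟨N, hN, ⟨h1, h2⟩ | ⟨h1, h2⟩⟩ := h
    · exact hp' (key p q hC N hN h1 h2)
    · exact hq' (key q p hsymm N hN h1 h2)
  have main : ∀ (r s : ℕ), r.Prime → s.Prime → r ≠ s → r ∣ Nat.card G → Cfsg.IsPSolvable r G →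
      ∃ N : Subgroup G, N.Normal ∧
      ((s ∣ Nat.card N ∧ ¬ r ∣ Nat.card N) ∨ (r ∣ Nat.card N ∧ ¬ s ∣ Nat.card N)) := by
    intro r s hr hs hrs hrG ⟨n, H, h0, htop, hmono, hnorm, hfac⟩
    classical
    have hex : ∃ i : ℕ, ∃ hi : i < n + 1, r ∣ Nat.card (H ⟨i, hi⟩) ∨ s ∣ Nat.card (H ⟨i, hi⟩) :=
      ⟨n, n.lt_succ_self, Or.inl (by
        rw [show (⟨n, n.lt_succ_self⟩ : Fin (n + 1)) = Fin.last n from rfl, htop,
          Subgroup.card_top]; exact hrG)⟩
    obtain ⟨hi, hdiv⟩ := Nat.find_spec hex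
    rcases hf : Nat.find hex with _ | j
    · exfalso
      simp only [hf] at hdiv
      rw [show (⟨0, by omega⟩ : Fin (n + 1)) = 0 from rfl, h0, Subgroup.card_bot] at hdiv
      rcases hdiv with h | h
      · exact hr.one_lt.ne' (Nat.dvd_one.mp h)
      · exact hs.one_lt.ne' (Nat.dvd_one.mp h)
    · have hmin := Nat.find_min hex (m := j) (by omega)
      simp only [hf] at hdiv hi
      have hj : j < n := by omega
      push Not at hmin
      obtain ⟨hr0, hs0⟩ := hmin (by omega)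
      refine ⟨_, hnorm ⟨j + 1, hi⟩, ?_⟩
      have hle : H (Fin.castSucc ⟨j, hj⟩) ≤ H (Fin.succ ⟨j, hj⟩) :=
        hmono (Fin.castSucc_lt_succ).le
      have hcard := Subgroup.card_mul_index ((H (Fin.castSucc ⟨j, hj⟩)).subgroupOf
        (H (Fin.succ ⟨j, hj⟩)))
      rw [Nat.card_congr (Subgroup.subgroupOfEquivOfLe hle).toEquiv] at hcard
      change Nat.card (H ⟨j, by omega⟩) * (H (Fin.castSucc ⟨j, hj⟩)).relIndex
        (H (Fin.succ ⟨j, hj⟩)) = Nat.card (H ⟨j + 1, hi⟩) at hcard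
      rcases hfac ⟨j, hj⟩ with ⟨m, hm⟩ | hcop
      · rw [hm] at hcard
        have hns : ¬ s ∣ Nat.card (H ⟨j + 1, hi⟩) := by
          rw [← hcard]
          intro h
          rcases hs.dvd_mul.mp h with h | h
          · exact hs0 h
          · exact hrs ((Nat.prime_dvd_prime_iff_eq hs hr).mp (hs.dvd_of_dvd_pow h)).symm
        exact Or.inr ⟨hdiv.resolve_right hns, hns⟩
      · have hnr : ¬ r ∣ Nat.card (H ⟨j + 1, hi⟩) := by
          rw [← hcard]
          intro h
          rcases hr.dvd_mul.mp h with h | h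
          · exact hr0 h
          · exact (hr.coprime_iff_not_dvd.mp hcop.symm) h
        exact Or.inl ⟨hdiv.resolve_left hnr, hnr⟩
  rcases hsolv with h | h
  · exact main p q Fact.out Fact.out hppq hpG h
  · obtain ⟨N, hN, hh⟩ := main q p Fact.out Fact.out hppq.symm hqG h
    exact ⟨N, hN, hh.symm⟩

end Cfsg.Agent.S4743
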