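import Cfsg.Statements.S4744
import Cfsg.Agent.BlocksB.OddCentralizer

set_option autoImplicit false
open Cfsg

namespace Cfsg.Agent.S4744

/-- Let p be an odd prime and G a finite group of even order divisible by p in which the centralizer of every non-identity p-element has odd order. Then either G has an irreducible character of p-defect zero, or the normalizer of every Sylow p-subgroup P of G has even order and P is abelian. -/
theorem result {G : Type*} [Group G] [Finite G] (p : ℕ) [Fact p.Prime] (hp2 : p ≠ 2) (hpG : p ∣ Nat.card G) (h2G : 2 ∣ Nat.card G) (hC : ∀ g : G, g ≠ 1 → (∃ k : ℕ, orderOf g = p ^ k) → Odd (Nat.card ↥(Subgroup.centralizer ({g} : Set G)))) : (∃ χ : Cfsg.IrrCharacter G, (Cfsg.charDegree (χ : G → ℂ)).factorization p = (Nat.card G).factorization p) ∨ ∀ P : Sylow p G, Even (Nat.card ↥(Subgroup.normalizer ((P : Subgroup G) : Set G))) ∧ IsMulCommutative ↥(P : Subgroup G) := by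
  by_cases hno : ∃ χ : Cfsg.IrrCharacter G,
      (Cfsg.charDegree (χ : G → ℂ)).factorization p = (Nat.card G).factorization p
  · exact Or.inl hno
  refine Or.inr fun P => ?_
  obtain ⟨x, hx⟩ := exists_prime_orderOf_dvd_card' 2 h2G
  obtain ⟨u, hu, hinv⟩ := CfsgLib.BlocksB.exists_conj_inverts p hpG hC hno x hx P
  refine ⟨?_, CfsgLib.BlocksB.isMulCommutative_of_inverted hinv⟩
  have hmem : u ∈ Subgroup.normalizer ((P : Subgroup G) : Set G) := by
    rw [Subgroup.mem_normalizer_iff]
    refine fun q => ⟨fun hq => hinv q hq ▸ inv_mem hq, fun hq => ?_⟩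
    have h2 := hinv _ hq
    obtain ⟨c, rfl⟩ := isConj_iff.mp hu
    have hxx : x * x = 1 := by rw [← pow_two, ← hx]; exact pow_orderOf_eq_one x
    have : c * x * c⁻¹ * (c * x * c⁻¹ * q * (c * x * c⁻¹)⁻¹) * (c * x * c⁻¹)⁻¹ = q := by
      have e : c * x * c⁻¹ * (c * x * c⁻¹) = 1 := by
        calc c * x * c⁻¹ * (c * x * c⁻¹) = c * (x * x) * c⁻¹ := by group
          _ = 1 := by rw [hxx]; group
      calc c * x * c⁻¹ * (c * x * c⁻¹ * q * (c * x * c⁻¹)⁻¹) * (c * x * c⁻¹)⁻¹
          = (c * x * c⁻¹ * (c * x * c⁻¹)) * q * (c * x * c⁻¹ * (c * x * c⁻¹))⁻¹ := by group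
        _ = q := by rw [e, one_mul, inv_one, mul_one]
    rw [this] at h2
    rw [h2]; exact inv_mem hq
  have hdvd := Subgroup.orderOf_dvd_natCard _ hmem
  obtain ⟨c, rfl⟩ := isConj_iff.mp hu
  rw [show c * x * c⁻¹ = MulAut.conj c x from rfl, MulEquiv.orderOf_eq, hx] at hdvd
  exact even_iff_two_dvd.mpr hdvd

end Cfsg.Agent.S4744
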