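-- Proof of statement S4746.
import Cfsg.Statements.S4746
import Cfsg.Agent.Char.OddCentralizerParity
import Cfsg.Agent.Char.CoprimeComplement

set_option autoImplicit false
open Cfsg

namespace Cfsg.Agent.S4746

/-- Let p be an odd prime and G a finite group of even order divisible by p in which the centralizer of every non-identity p-element has odd order. Then G has an irreducible character of p-defect zero or an irreducible character of even degree. -/
theorem result {G : Type*} [Group G] [Finite G] (p : ℕ) [Fact p.Prime] (hp2 : p ≠ 2) (hpG : p ∣ Nat.card G) (h2G : 2 ∣ Nat.card G) (hC : ∀ g : G, g ≠ 1 → (∃ k : ℕ, orderOf g = p ^ k) → Odd (Nat.card ↥(Subgroup.centralizer ({g} : Set G)))) : (∃ χ : Cfsg.IrrCharacter G, (Cfsg.charDegree (χ : G → ℂ)).factorization p = (Nat.card G).factorization p) ∨ ∃ χ : Cfsg.IrrCharacter G, Even (Cfsg.charDegree (χ : G → ℂ)) := by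
  classical
  have hp := (Fact.out : p.Prime)
  by_cases hreal : ∃ g : G, g ≠ 1 ∧ (∃ k : ℕ, orderOf g = p ^ k) ∧ IsConj g g⁻¹
  · obtain ⟨g, hg1, hk, hr⟩ := hreal
    obtain ⟨χ, k, hχ, h1⟩ := CfsgLib.Char.exists_even_degree_of_real hg1 hr (hC g hg1 hk)
    refine Or.inr ⟨⟨χ, hχ⟩, k, ?_⟩
    rw [CfsgLib.Char.charDegree_eq_natCast h1]
    omega
  · push Not at hreal
    obtain ⟨t, ht⟩ := exists_prime_orderOf_dvd_card' 2 h2G
    have hCt : ¬ p ∣ Nat.card (Subgroup.centralizer ({t} : Set G)) := by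
      intro h
      obtain ⟨⟨y, hy⟩, hyo⟩ := exists_prime_orderOf_dvd_card' p h
      have hyo' : orderOf y = p := by rw [← hyo, ← Subgroup.orderOf_coe]
      have hy1 : y ≠ 1 := fun h => hp.one_lt.ne' (by rw [← hyo', h, orderOf_one])
      have hodd := hC y hy1 ⟨1, by rw [hyo', pow_one]⟩
      have htc : t ∈ Subgroup.centralizer ({y} : Set G) := by
        rw [Subgroup.mem_centralizer_singleton_iff] at hy ⊢
        exact hy.symm
      have h2 : 2 ∣ Nat.card (Subgroup.centralizer ({y} : Set G)) := by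
        rw [← ht, show orderOf t = orderOf (⟨t, htc⟩ : Subgroup.centralizer ({y} : Set G)) from (Subgroup.orderOf_coe ⟨t, htc⟩)]
        exact orderOf_dvd_natCard _
      exact Nat.not_even_iff_odd.2 hodd (even_iff_two_dvd.2 h2)
    obtain ⟨χ, n, hχ, h1, hn⟩ := CfsgLib.Char.exists_defect_zero_of_not_real hpG ht
      (fun g hg1 hk => hreal g hg1 hk) hCt
    refine Or.inl ⟨⟨χ, hχ⟩, ?_⟩
    rw [CfsgLib.Char.charDegree_eq_natCast h1, hn]

end Cfsg.Agent.S4746
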