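import Cfsg.Statements.S4750
import Cfsg.Agent.TISmall.Main
import Cfsg.Agent.Char.Products

set_option autoImplicit false
open scoped Pointwise
open Cfsg

namespace Cfsg.Agent.S4750

/-- Let P be a Sylow p-subgroup of the finite group G that meets each conjugate g P g⁻¹ with g outside N_G(P) trivially, χ a character of G with χ(1)² ≤ |P|, and H a subgroup of G containing N_G(P). Then the inner product of χ with itself over G equals the inner product over H of the restriction of χ to H. -/
theorem result {G : Type*} [Group G] [Fintype G] [DecidableEq G] (p : ℕ) [Fact p.Prime] (P : Sylow p G) (hTI : ∀ g : G, g ∉ Subgroup.normalizer ((P : Subgroup G) : Set G) → (P : Subgroup G) ⊓ (MulAut.conj g • (P : Subgroup G)) = ⊥) (χ : G → ℂ) (hχ : Cfsg.IsCharacter G χ) (hdeg : Cfsg.charDegree χ ^ 2 ≤ Nat.card ↥(P : Subgroup G)) (H : Subgroup G) [Fintype ↥H] (hH : Subgroup.normalizer ((P : Subgroup G) : Set G) ≤ H) : Cfsg.classInner χ χ = Cfsg.classInner (fun h : ↥H => χ h) (fun h : ↥H => χ h) := by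
  classical
  set θ : G → ℂ := fun g => χ g * (starRingEnd ℂ) (χ g) with hθdef
  have hθ : Cfsg.IsCharacter G θ := CfsgLib.Char.IsCharacter.mul hχ (CfsgLib.Char.IsCharacter.conj hχ)
  obtain ⟨d, hd⟩ := CfsgLib.Char.IsCharacter.exists_degree hχ
  have hdd : Cfsg.charDegree χ = d := by simp [Cfsg.charDegree, hd]
  rw [hdd] at hdeg
  have hθ1 : θ 1 = ((d * d : ℕ) : ℂ) := by simp [θ, hd]
  have hG : Cfsg.classInner χ χ = Cfsg.classInner θ fun _ => 1 := by simp [θ, Cfsg.classInner]
  have hH' : Cfsg.classInner (fun h : H => χ h) (fun h : H => χ h) =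
      Cfsg.classInner (fun h : H => θ h) fun _ => 1 := by simp [θ, Cfsg.classInner]
  rw [hG, hH']
  rcases Nat.eq_zero_or_pos d with rfl | hd0
  · have hz : χ = 0 := CfsgLib.Char.IsCharacter.eq_zero_of_apply_one hχ (by simp [hd])
    have : θ = 0 := by funext g; simp [θ, hz]
    simp [this, Cfsg.classInner]
  have hne : Cfsg.classInner θ (fun _ => 1) ≠ 0 := by
    rw [← hG]
    intro h0
    have hsum : ∑ g : G, Complex.normSq (χ g) = 0 := by
      rw [Cfsg.classInner, mul_eq_zero] at h0
      rcases h0 with h0 | h0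
      · simp at h0
      · simp only [Complex.mul_conj, ← Complex.ofReal_sum] at h0
        exact_mod_cast h0
    have h1 := (Finset.sum_eq_zero_iff_of_nonneg fun g _ => Complex.normSq_nonneg _).1 hsum 1
      (Finset.mem_univ _)
    rw [Complex.normSq_eq_zero, hd] at h1
    exact hd0.ne' (by exact_mod_cast h1)
  have hθ' := CfsgLib.Char.IsCharacter.sub_irr hθ CfsgLib.Char.isIrrCharacter_one hne
  have hfree : ∀ g : G, g ∉ H → ∀ x ∈ (P : Subgroup G), g⁻¹ * x * g ∈ H → x = 1 := by
    intro g hg x hx hm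
    let Q : Sylow p H := P.subtype (Subgroup.le_normalizer.trans hH)
    obtain ⟨k, hk⟩ := IsPGroup.iff_orderOf.1 P.isPGroup' ⟨x, hx⟩
    rw [← Subgroup.orderOf_coe] at hk
    obtain ⟨R, hR⟩ := (IsPGroup.of_card (p := p) (n := k)
      (show Nat.card (Subgroup.zpowers (⟨g⁻¹ * x * g, hm⟩ : H)) = p ^ k by
        rw [Nat.card_zpowers, ← Subgroup.orderOf_coe]
        show orderOf (g⁻¹ * x * g : G) = p ^ k
        rw [show (g⁻¹ * x * g : G) = MulAut.conj g⁻¹ x by simp, MulEquiv.orderOf_eq]
        exact hk)).exists_le_sylow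
    obtain ⟨h, hh⟩ := MulAction.exists_smul_eq H Q R
    rw [← hh] at hR
    obtain ⟨y, hy, hy'⟩ := hR (Subgroup.mem_zpowers _)
    have hy2 : (h : G) * (y : G) * (h : G)⁻¹ = g⁻¹ * x * g := congrArg Subtype.val hy'
    by_cases hN : (g * (h : G)) ∈ Subgroup.normalizer ((P : Subgroup G) : Set G)
    · exact absurd (by simpa using H.mul_mem (hH hN) (H.inv_mem h.2)) hg
    · have hbot := hTI _ hN
      have hmem : x ∈ (P : Subgroup G) ⊓ (MulAut.conj (g * (h : G)) • (P : Subgroup G)) := by
        refine ⟨hx, (y : G), Subgroup.mem_subgroupOf.1 hy, ?_⟩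
        show g * (h : G) * (y : G) * (g * (h : G))⁻¹ = x
        calc g * (h : G) * (y : G) * (g * (h : G))⁻¹ = g * ((h : G) * y * (h : G)⁻¹) * g⁻¹ := by group
          _ = x := by rw [hy2]; group
      rw [hbot] at hmem
      exact hmem
  have key := CfsgLib.TISmall.classInner_one_eq (P : Subgroup G) H P.isPGroup'
    (Subgroup.le_normalizer.trans hH) hfree hθ' (by
      rw [Pi.sub_apply, hθ1, Complex.sub_re, Complex.natCast_re, Complex.one_re]
      have hle : ((d * d : ℕ) : ℝ) ≤ Nat.card (P : Subgroup G) := by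
        rw [← pow_two]; exact_mod_cast hdeg
      linarith)
  simp only [Cfsg.classInner, map_one, mul_one, Pi.sub_apply, Finset.sum_sub_distrib, mul_sub,
    Finset.sum_const, Finset.card_univ, nsmul_eq_mul, ← Nat.card_eq_fintype_card] at key ⊢
  rw [inv_mul_cancel₀ (by exact_mod_cast Nat.card_pos.ne'),
    inv_mul_cancel₀ (by exact_mod_cast Nat.card_pos.ne')] at key
  exact (sub_left_inj.1 key).symm

end Cfsg.Agent.S4750
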