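-- Proof of statement S4751.
import Cfsg.Statements.S4751
import Cfsg.Agent.Char.RootSingularFour
import Cfsg.Agent.Solvable.Fitting

set_option autoImplicit false
open Cfsg

namespace Cfsg.Agent.S4751

/-- Let χ be a faithful, non-linear irreducible character of the finite group G (χ g = χ 1 only for g = 1, χ 1 ≠ 1) whose value at every element of order divisible by p is a root of unity, and suppose P = O_p(G) ≠ 1. Then either P is an elementary abelian Sylow p-subgroup of G, C_G(P) is the internal direct product of P and Z(G), G acts transitively by conjugation on the non-principal linear characters of P, and χ 1 = |P| − 1; or p = 2 and G is the internal direct product of a subgroup isomorphic to the symmetric group S₄ and the centre Z(G), which has odd order. -/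
theorem result {G : Type*} [Group G] [Finite G] (p : ℕ) [Fact p.Prime] (χ : Cfsg.IrrCharacter G) (hfaith : ∀ g : G, (χ : G → ℂ) g = (χ : G → ℂ) 1 → g = 1) (hnl : (χ : G → ℂ) 1 ≠ 1) (hroot : ∀ g : G, p ∣ orderOf g → ∃ n : ℕ, 0 < n ∧ ((χ : G → ℂ) g) ^ n = 1) (hP : Cfsg.pCore p G ≠ ⊥) : ((Nat.card ↥(Cfsg.pCore p G)).factorization p = (Nat.card G).factorization p ∧ Cfsg.IsElementaryAbelian p (Cfsg.pCore p G) ∧ Subgroup.centralizer ((Cfsg.pCore p G : Subgroup G) : Set G) = Cfsg.pCore p G ⊔ Subgroup.center G ∧ Cfsg.pCore p G ⊓ Subgroup.center G = ⊥ ∧ (∀ lam mu : ↥(Cfsg.pCore p G) → ℂ, Cfsg.IsCharacter ↥(Cfsg.pCore p G) lam → lam 1 = 1 → lam ≠ (fun _ => (1 : ℂ)) → Cfsg.IsCharacter ↥(Cfsg.pCore p G) mu → mu 1 = 1 → mu ≠ (fun _ => (1 : ℂ)) → ∃ g : G, ∀ (x : G) (hx : x ∈ Cfsg.pCore p G) (hgx : g * x * g⁻¹ ∈ Cfsg.pCore p G), mu ⟨x, hx⟩ = lam ⟨g * x * g⁻¹, hgx⟩) ∧ (χ : G → ℂ) 1 = (Nat.card ↥(Cfsg.pCore p G) : ℂ) - 1) ∨ (p = 2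 ∧ Odd (Nat.card ↥(Subgroup.center G)) ∧ ∃ H : Subgroup G, Nonempty (↥H ≃* Equiv.Perm (Fin 4)) ∧ H ⊓ Subgroup.center G = ⊥ ∧ H ⊔ Subgroup.center G = ⊤) := by
  classical
  haveI := Fintype.ofFinite G
  obtain ⟨P, hPdef⟩ : ∃ P, P = Cfsg.pCore p G := ⟨_, rfl⟩
  rw [← hPdef] at hP ⊢
  haveI hPn : P.Normal := hPdef ▸ inferInstance
  haveI := Fintype.ofFinite P
  have hPp : IsPGroup p P := hPdef ▸ CfsgLib.Solvable.isPGroup_pCore p
  have H : CfsgLib.Char.RootSingular.Hyp p (χ : G → ℂ) P :=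
    { irr := χ.2, faith := hfaith, nl := hnl, pgroup := hPp, ne_bot := hP
      root := fun g hg => by
        obtain ⟨n, hn, h⟩ := hroot g hg
        exact Complex.norm_eq_one_of_pow_eq_one h hn.ne' }
  have hmax : ∀ K : Subgroup G, K.Normal → IsPGroup p K → K ≤ P := fun K hK hKp =>
    hPdef ▸ CfsgLib.Solvable.le_pCore p hK hKp
  obtain ⟨S⟩ : Nonempty (Sylow p G) := inferInstance
  have hPS : P ≤ (S : Subgroup G) := hPdef ▸ CfsgLib.Fitting.pCore_le_sylow S
  by_cases hS : (S : Subgroup G) = P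
  swap
  · right
    exact CfsgLib.Char.RootSingular.sylow_dichotomy H hmax S hPS hS
  left
  obtain ⟨θ, -, hab, hdeg, -, -, htrans⟩ := CfsgLib.Char.RootSingular.exists_data H
  obtain ⟨hC, hPZ⟩ := CfsgLib.Char.RootSingular.centralizer_eq H hmax
  refine ⟨?_, ⟨⟨⟨hab⟩⟩, fun a ha => ?_⟩, hC, hPZ, ?_, ?_⟩
  · rw [← hS, S.card_eq_multiplicity, (Fact.out : p.Prime).factorization_pow, Finsupp.single_eq_same]
  · exact congrArg Subtype.val (CfsgLib.Char.RootSingular.exponent_eq H (u := ⟨a, ha⟩))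
  · intro lam mu hlam hlam1 hlamne hmu hmu1 hmune
    obtain ⟨l, rfl⟩ := CfsgLib.Char.IsCharacter.exists_hom hlam hlam1
    obtain ⟨m, rfl⟩ := CfsgLib.Char.IsCharacter.exists_hom hmu hmu1
    obtain ⟨a, ha⟩ := CfsgLib.Char.mem_conjOrbit.1
      (htrans l fun e => hlamne (funext fun n => by rw [e]; simp))
    obtain ⟨b, hb⟩ := CfsgLib.Char.mem_conjOrbit.1
      (htrans m fun e => hmune (funext fun n => by rw [e]; simp))
    refine ⟨a⁻¹ * b, fun y hy hgy => ?_⟩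
    refine (congrFun hb ⟨y, hy⟩).trans (Eq.trans ?_ (congrFun ha ⟨_, hgy⟩).symm)
    rw [CfsgLib.Char.conjOn_apply, CfsgLib.Char.conjOn_apply]
    congr 2
    apply Subtype.ext
    show b * y * b⁻¹ = a * (a⁻¹ * b * y * (a⁻¹ * b)⁻¹) * a⁻¹
    group
  · rw [hdeg, Nat.cast_sub Nat.card_pos, Nat.cast_one]

end Cfsg.Agent.S4751
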