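import Cfsg.Statements.S4755
import Cfsg.Agent.Char.ClassPairAverage
import Cfsg.Agent.Char.DegreeSums
-- import your own Cfsg.Agent.* helpers here

set_option autoImplicit false
open Cfsg

namespace Cfsg.Agent.S4755

open CfsgLib.Char
open scoped commutatorElement ComplexConjugate

/-- Let x, y be non-identity elements of the finite group G such that χ(x' y') = χ(x') χ(y') for all conjugates x' of x, y' of y and every irreducible character χ. Then the conjugacy class of x y is the set of all products of a conjugate of x with a conjugate of y; every irreducible character of degree greater than 1 vanishes at x y; and the conjugacy class of x y is the coset of the commutator subgroup containing x y. -/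
theorem result {G : Type*} [Group G] [Finite G] (x y : G) (hx : x ≠ 1) (hy : y ≠ 1) (h : ∀ (a b : G) (χ : Cfsg.IrrCharacter G), (χ : G → ℂ) (a * x * a⁻¹ * (b * y * b⁻¹)) = (χ : G → ℂ) (a * x * a⁻¹) * (χ : G → ℂ) (b * y * b⁻¹)) : (∀ z : G, IsConj (x * y) z ↔ ∃ a b : G, z = a * x * a⁻¹ * (b * y * b⁻¹)) ∧ (∀ χ : Cfsg.IrrCharacter G, (χ : G → ℂ) 1 ≠ 1 → (χ : G → ℂ) (x * y) = 0) ∧ (∀ z : G, IsConj (x * y) z ↔ (x * y)⁻¹ * z ∈ commutator G) := by
  classical
  have hconst : ∀ (a b : G) (χ : G → ℂ), Cfsg.IsIrrCharacter G χ →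
      χ (a * x * a⁻¹ * (b * y * b⁻¹)) = χ x * χ y := by
    intro a b χ hχ
    have : χ (a * x * a⁻¹ * (b * y * b⁻¹)) = χ (a * x * a⁻¹) * χ (b * y * b⁻¹) := h a b ⟨χ, hχ⟩
    rwa [IsIrrCharacter.isClassFunction hχ x a, IsIrrCharacter.isClassFunction hχ y b] at this
  have hxy : ∀ (χ : G → ℂ), Cfsg.IsIrrCharacter G χ → χ (x * y) = χ x * χ y := fun χ hχ => by
    simpa using hconst 1 1 χ hχ
  have hclass : ∀ z : G, IsConj (x * y) z ↔ ∃ a b : G, z = a * x * a⁻¹ * (b * y * b⁻¹) := by
    intro z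
    constructor
    · intro hz
      obtain ⟨c, rfl⟩ := isConj_iff.1 hz
      exact ⟨c, c, by group⟩
    · rintro ⟨a, b, rfl⟩
      exact (isConj_iff_irr_eq _ _).2 fun χ hχ => by rw [hxy χ hχ, hconst a b χ hχ]
  have hvan : ∀ χ : G → ℂ, Cfsg.IsIrrCharacter G χ → χ 1 ≠ 1 → χ (x * y) = 0 := by
    intro χ hχ h1
    have h2 := mul_eq_of_const hχ x y fun a b => hconst a b χ hχ
    rw [hxy χ hχ]
    have h3 : (χ 1 - 1) * (χ x * χ y) = 0 := by rw [sub_mul, one_mul, h2, sub_self]
    exact (mul_eq_zero.1 h3).resolve_left (sub_ne_zero.2 h1)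
  refine ⟨hclass, fun χ hχ => hvan _ χ.2 hχ, fun z => ?_⟩
  have hsub : ∀ w : G, IsConj (x * y) w → (x * y)⁻¹ * w ∈ commutator G := by
    intro w hw
    obtain ⟨c, rfl⟩ := isConj_iff.1 hw
    have : (x * y)⁻¹ * (c * (x * y) * c⁻¹) = ⁅(x * y)⁻¹, c⁆ := by
      rw [commutatorElement_def]; group
    rw [this]
    exact Subgroup.commutator_mem_commutator (Subgroup.mem_top _) (Subgroup.mem_top _)
  refine ⟨hsub z, fun hz => ?_⟩
  -- the class fills the coset
  have horth := sum_irr_mul_conj (x * y) (x * y)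
  rw [if_pos (IsConj.refl _)] at horth
  have hterm : ∀ θ ∈ irrFinset G, θ (x * y) * conj (θ (x * y)) =
      if cdeg θ = 1 then (1 : ℂ) else 0 := by
    intro θ hθ
    have hθ' := mem_irrFinset.1 hθ
    split_ifs with hd
    · obtain ⟨lam, rfl⟩ := IsCharacter.exists_hom (IsIrrCharacter.isCharacter hθ')
        (by rw [irr_apply_one_eq_cdeg hθ', hd, Nat.cast_one])
      rw [conj_eq_inv_hom, ← Units.val_mul, ← map_mul, mul_inv_cancel, map_one, Units.val_one]
    · rw [hvan θ hθ' fun h1 => hd (by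
        rw [irr_apply_one_eq_cdeg hθ'] at h1
        exact_mod_cast h1), zero_mul]
  rw [Finset.sum_congr rfl hterm, Finset.sum_boole, card_filter_cdeg_one, Nat.cast_inj] at horth
  have hcard := card_conj_class_mul_card_centralizer (x * y)
  rw [← horth, ← (commutator G).card_mul_index] at hcard
  have hcard' := Nat.eq_of_mul_eq_mul_right
    (Nat.pos_of_ne_zero Subgroup.index_ne_zero_of_finite) hcard
  let f : {w : G // IsConj (x * y) w} → commutator G := fun w => ⟨(x * y)⁻¹ * w, hsub w w.2⟩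
  have hf : Function.Injective f := fun u v huv =>
    Subtype.ext (mul_left_cancel (congrArg Subtype.val huv))
  obtain ⟨w, hw⟩ := ((Nat.bijective_iff_injective_and_card f).2 ⟨hf, hcard'⟩).2 ⟨_, hz⟩
  have : (w : G) = z := mul_left_cancel (congrArg Subtype.val hw)
  exact this ▸ w.2

end Cfsg.Agent.S4755
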