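-- Proof of statement S4756.
import Cfsg.Statements.S4756
import Cfsg.Agent.Char.MultiplicativeCoprime

set_option autoImplicit false
open Cfsg

namespace Cfsg.Agent.S4756

/-- For a finite group G the following are equivalent. (1) χ(x y) = χ(x) χ(y) for every irreducible character χ and all non-identity elements x, y of prime power orders for two different primes. (2) G is a p-group for some prime p, or G is abelian, or for some prime p: G = A P with P a normal Sylow p-subgroup and A a nontrivial cyclic subgroup of order prime to p such that, with C = C_P(A) and D = [A, P], one has P = C D, C abelian, D normal in G, C ∩ D = 1, and A acts fixed-point-freely on D (no non-identity element of A centralizes a non-identity element of D). -/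
theorem result {G : Type*} [Group G] [Finite G] : (∀ (x y : G) (χ : Cfsg.IrrCharacter G), x ≠ 1 → y ≠ 1 → (∃ p q a b : ℕ, p.Prime ∧ q.Prime ∧ p ≠ q ∧ orderOf x = p ^ a ∧ orderOf y = q ^ b) → (χ : G → ℂ) (x * y) = (χ : G → ℂ) x * (χ : G → ℂ) y) ↔ ((∃ p : ℕ, p.Prime ∧ IsPGroup p G) ∨ IsMulCommutative G ∨ ∃ (p : ℕ) (_ : Fact p.Prime) (P : Sylow p G) (A : Subgroup G), (P : Subgroup G).Normal ∧ IsCyclic ↥A ∧ A ≠ ⊥ ∧ (Nat.card ↥A).Coprime p ∧ A ⊔ (P : Subgroup G) = ⊤ ∧ IsMulCommutative ↥((P : Subgroup G) ⊓ Subgroup.centralizer (A : Set G)) ∧ (⁅A, (P : Subgroup G)⁆).Normal ∧ ((P : Subgroup G) ⊓ Subgroup.centralizer (A : Set G)) ⊔ ⁅A, (P : Subgroup G)⁆ = (P : Subgroup G) ∧ ((P : Subgroup G) ⊓ Subgroup.centralizer (A : Set G)) ⊓ ⁅A, (P : Subgroup G)⁆ = ⊥ ∧ ∀ a ∈ A, a ≠ 1 → ∀ d ∈ ⁅A, (P : Subgroup G)⁆, a * d = d * a → d = 1) := by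
  classical
  constructor
  · intro h
    by_cases hnp : ∃ p : ℕ, p.Prime ∧ IsPGroup p G
    · exact Or.inl hnp
    by_cases hna : IsMulCommutative G
    · exact Or.inr (Or.inl hna)
    exact Or.inr (Or.inr (CfsgLib.Char.MultCoprime.structure_of_mult
      (fun x y χ hxy => h x y χ hxy.1 hxy.2.1 hxy.2.2) hnp hna))
  · rintro h x y χ hx hy hxy
    rcases h with ⟨p, hp, hP⟩ | hc | ⟨p, hp, P, A, hPn, hAc, hA1, hAp, hsup, hCc, hDn, hCD, hinf, hfpf⟩
    · exfalso
      haveI := Fact.mk hp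
      obtain ⟨r, s, a, b, hr, hs, hrs, hox, hoy⟩ := hxy
      have key : ∀ {v : G} {t l : ℕ}, t.Prime → v ≠ 1 → orderOf v = t ^ l → t = p := by
        intro v t l ht hv ho
        obtain ⟨n, hn⟩ := IsPGroup.iff_orderOf.1 hP v
        have hl : l ≠ 0 := fun e => hv (orderOf_eq_one_iff.1 (by rw [ho, e, pow_zero]))
        exact (Nat.prime_dvd_prime_iff_eq ht hp).1 (ht.dvd_of_dvd_pow (hn ▸ ho ▸ dvd_pow_self t hl))
      exact hrs ((key hr hx hox).trans (key hs hy hoy).symm)
    · obtain ⟨l, hl⟩ := CfsgLib.Char.IsCharacter.exists_hom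
        (CfsgLib.Char.IsIrrCharacter.isCharacter χ.2)
        (CfsgLib.Char.IsIrrCharacter.apply_one_eq_one χ.2 fun a b => hc.is_comm.comm a b)
      rw [hl]
      simp
    · haveI := hPn
      haveI := hDn
      exact CfsgLib.Char.MultCoprime.mult_of_structure P A _ _ hAc hAp hsup le_rfl hCc hCD hinf hfpf
        ⟨hx, hy, hxy⟩ χ

end Cfsg.Agent.S4756
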