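import Cfsg.Statements.S4762
import Cfsg.Agent.Char.DegreeSums
import Cfsg.Agent.Char.Central
import Cfsg.Agent.Char.NilpotentSplit
import Cfsg.Agent.Solvable.PGroupBasic

set_option autoImplicit false
open Cfsg

namespace Cfsg.Agent.S4762

open CfsgLib.Char Subgroup
open scoped commutatorElement

universe u

private theorem cdeg_eq {G : Type u} [Group G] (χ : G → ℂ) : Cfsg.charDegree χ = cdeg χ := rfl

private theorem cdeg_dvd {G : Type u} [Group G] [Finite G] {χ : G → ℂ} (h : Cfsg.IsIrrCharacter G χ) :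
    cdeg χ ∣ Nat.card G :=
  IsIrrCharacter.degree_dvd_card h (irr_apply_one_eq_cdeg h)

private theorem extraspecial_iff {P : Type u} [Group P] [Finite P] {p : ℕ} [Fact p.Prime]
    (hP : IsPGroup p P) :
    Nat.card {χ : Cfsg.IrrCharacter P // p ∣ Cfsg.charDegree (χ : P → ℂ)} = 1 ↔
      p = 2 ∧ Cfsg.IsExtraspecial 2 P := by
  classical
  haveI := Fintype.ofFinite P
  -- a degree is one or divisible by p
  have hdeg : ∀ χ : P → ℂ, Cfsg.IsIrrCharacter P χ → (p ∣ cdeg χ ↔ cdeg χ ≠ 1) := fun χ h => by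
    obtain ⟨n, hn⟩ := IsPGroup.iff_card.1 hP
    obtain ⟨k, -, hk⟩ := (Nat.dvd_prime_pow Fact.out).1 (hn ▸ cdeg_dvd h)
    rw [hk]
    rcases Nat.eq_zero_or_pos k with rfl | hk0
    · simp [(Fact.out : p.Prime).ne_one]
    · exact iff_of_true (dvd_pow_self p hk0.ne') (Nat.one_lt_pow hk0.ne' (Fact.out : p.Prime).one_lt).ne'
  set S := (irrFinset P).filter (fun θ => ¬ cdeg θ = 1) with hS
  have hcard : Nat.card {χ : Cfsg.IrrCharacter P // p ∣ Cfsg.charDegree (χ : P → ℂ)} = S.card := by
    rw [← Fintype.card_coe, ← Nat.card_eq_fintype_card]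
    refine Nat.card_congr
      { toFun := fun χ => ⟨χ.1.1, Finset.mem_filter.2 ⟨mem_irrFinset.2 χ.1.2, (hdeg _ χ.1.2).1 χ.2⟩⟩
        invFun := fun θ => ⟨⟨θ.1, mem_irrFinset.1 (Finset.mem_filter.1 θ.2).1⟩,
          (hdeg _ (mem_irrFinset.1 (Finset.mem_filter.1 θ.2).1)).2 (Finset.mem_filter.1 θ.2).2⟩
        left_inv := fun _ => rfl
        right_inv := fun _ => rfl }
  have hsum : (commutator P).index + ∑ θ ∈ S, cdeg θ ^ 2 = Nat.card P := by
    rw [← sum_cdeg_sq, ← card_filter_cdeg_one,
      ← Finset.sum_filter_add_sum_filter_not (irrFinset P) (fun θ => cdeg θ = 1)]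
    congr 1
    rw [Finset.card_eq_sum_ones]
    exact Finset.sum_congr rfl fun θ hθ => by rw [(Finset.mem_filter.1 hθ).2, one_pow]
  rw [hcard]
  constructor
  · intro h1
    obtain ⟨θ, hθ⟩ := Finset.card_eq_one.1 h1
    rw [hθ, Finset.sum_singleton] at hsum
    have hθS : θ ∈ S := by rw [hθ]; exact Finset.mem_singleton_self θ
    have hθirr := mem_irrFinset.1 (Finset.mem_filter.1 hθS).1
    obtain ⟨n, hn⟩ := IsPGroup.iff_card.1 hP
    obtain ⟨k, -, hk⟩ := (Nat.dvd_prime_pow Fact.out).1 (hn ▸ cdeg_dvd hθirr)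
    obtain ⟨a, ha⟩ := IsPGroup.iff_card.1 (hP.to_subgroup (commutator P))
    have hidx := (commutator P).card_mul_index
    obtain ⟨i, hi⟩ := hP.index (commutator P)
    rw [hk, ← hidx, ha, hi, ← pow_mul] at hsum
    have hp := (Fact.out : p.Prime)
    have hidvd : p ^ i ∣ p ^ (k * 2) :=
      (Nat.dvd_add_right (dvd_refl (p ^ i))).1 (hsum ▸ dvd_mul_left _ _)
    obtain ⟨j, hj⟩ := Nat.le.dest ((Nat.pow_dvd_pow_iff_le_right hp.one_lt).1 hidvd)
    rw [← hj, pow_add] at hsum
    have hsum' : 1 + p ^ j = p ^ a :=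
      Nat.eq_of_mul_eq_mul_left (pow_pos hp.pos i) (by rw [mul_add, mul_one, hsum, mul_comm])
    have ha0 : a ≠ 0 := by
      rintro rfl
      have := pow_pos hp.pos j
      rw [pow_zero] at hsum'
      omega
    have hj0 : j = 0 := by
      by_contra hj0
      exact hp.not_dvd_one ((Nat.dvd_add_left (dvd_pow_self p hj0)).1 (hsum' ▸ dvd_pow_self p ha0))
    subst hj0
    have hp2 : p = 2 := by
      have : p ∣ 2 := by rw [show 2 = p ^ a by rw [← hsum']; rfl]; exact dvd_pow_self p ha0
      exact (Nat.prime_dvd_prime_iff_eq hp Nat.prime_two).1 this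
    subst hp2
    refine ⟨rfl, ?_⟩
    have hG2 : Nat.card (commutator P) = 2 := by rw [ha, ← hsum']; norm_num
    have hd2 : cdeg θ ^ 2 * 2 = Nat.card P := by
      rw [hk, ← pow_mul, ← hj, add_zero, ← hidx, hi, hG2, mul_comm]
    have hZle : Nat.card (center P) ≤ 2 := by
      have := cdeg_sq_mul_card_center_le hθirr
      rw [← hd2] at this
      exact Nat.le_of_mul_le_mul_left this
        (pow_pos (cdeg_pos hθirr) 2)
    have hcle : commutator P ≤ center P := by
      intro c hc
      refine mem_center_iff.2 fun g => ?_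
      have hmem : g * c * g⁻¹ ∈ commutator P := (inferInstance : (commutator P).Normal).conj_mem c hc g
      by_cases hc1 : c = 1
      · rw [hc1, mul_one, one_mul]
      have hne : g * c * g⁻¹ ≠ 1 := fun h => hc1 (conj_eq_one_iff.1 h)
      obtain ⟨u, v, huv, heq⟩ := Nat.card_eq_two_iff.1 hG2
      have hall : ∀ w : commutator P, w ≠ 1 → w = ⟨c, hc⟩ := fun w hw => by
        have h1 : ∀ z : commutator P, z = u ∨ z = v := fun z => by
          have : z ∈ ({u, v} : Set (commutator P)) := heq ▸ Set.mem_univ z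
          simpa using this
        have hc1' : (⟨c, hc⟩ : commutator P) ≠ 1 := fun h => hc1 (congrArg Subtype.val h)
        rcases h1 w with e1 | e1 <;> rcases h1 ⟨c, hc⟩ with e2 | e2 <;> rcases h1 1 with e3 | e3 <;>
          first
          | exact e1.trans e2.symm
          | exact absurd (e1.trans e3.symm) hw
          | exact absurd (e2.trans e3.symm) hc1'
      have := congrArg Subtype.val (hall ⟨_, hmem⟩ fun h => hne (congrArg Subtype.val h))
      exact mul_inv_eq_iff_eq_mul.1 this
    have hceq : commutator P = center P :=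
      CfsgLib.Solvable.eq_of_le_of_card_le hcle (by rw [hG2]; exact hZle)
    have hZ2 : Nat.card (center P) = 2 := by rw [← hceq, hG2]
    refine ⟨⟨hP, le_antisymm ?_ ?_, hceq⟩, hZ2⟩
    · refine CfsgLib.PGroupBasic.frattini_le_of_elementary (p := 2) _ hceq.le fun x => ?_
      refine mem_center_iff.2 fun g => ?_
      have hcz : ⁅x, g⁆ ∈ center P :=
        hcle (commutator_mem_commutator (mem_top x) (mem_top g))
      have h2 : ⁅x, g⁆ * ⁅x, g⁆ = 1 := by
        have h3 : (⟨⁅x, g⁆, hcz⟩ : center P) ^ 2 = 1 := hZ2 ▸ pow_card_eq_one'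
        rw [← pow_two]; exact congrArg Subtype.val h3
      have e : x ^ 2 * g * (x ^ 2)⁻¹ * g⁻¹ = (x * ⁅x, g⁆ * x⁻¹) * ⁅x, g⁆ := by
        rw [commutatorElement_def, pow_two]; group
      rw [mem_center_iff.1 hcz x, mul_inv_cancel_right, h2] at e
      exact (mul_inv_eq_iff_eq_mul.1 (mul_inv_eq_one.1 e)).symm
    · rw [← hceq]
      exact (CfsgLib.PGroupBasic.commutator_pow_le_frattini hP).1
  · rintro ⟨rfl, ⟨⟨-, -, hcomm⟩, hZ2⟩⟩
    have hk : Nat.card (Cfsg.IrrCharacter P) = (commutator P).index + 1 := by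
      rw [card_irr_eq_card_conjClasses, hcomm, Subgroup.index,
        ← Finite.card_option (α := P ⧸ center P)]
      haveI : Finite (ConjClasses P) := Quotient.finite _
      obtain ⟨z, hz, hz1⟩ := (center P).ne_bot_iff_exists_ne_one.1
        (fun h => by rw [h, Subgroup.card_bot] at hZ2; omega) |> fun ⟨a, b⟩ =>
          (⟨a.1, a.2, fun h => b (Subtype.ext h)⟩ : ∃ z ∈ center P, z ≠ (1 : P))
      have hZ : ∀ c ∈ center P, c = 1 ∨ c = z := fun c hc => by
        obtain ⟨a, b, -, heq⟩ := Nat.card_eq_two_iff.1 hZ2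
        have h1 : ∀ w : center P, w = a ∨ w = b := fun w => by
          have : w ∈ ({a, b} : Set (center P)) := heq ▸ Set.mem_univ w
          simpa using this
        rcases h1 ⟨c, hc⟩ with e1 | e1 <;> rcases h1 ⟨z, hz⟩ with e2 | e2 <;>
          rcases h1 1 with e3 | e3 <;>
          first
          | exact Or.inl (congrArg Subtype.val (e1.trans e3.symm))
          | exact Or.inr (congrArg Subtype.val (e1.trans e2.symm))
          | exact absurd (congrArg Subtype.val (e2.trans e3.symm)) hz1
      have hconj : ∀ u v : P, IsConj u v → (u : P ⧸ center P) = (v : P ⧸ center P) := by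
        intro u v h
        obtain ⟨c, rfl⟩ := isConj_iff.1 h
        refine QuotientGroup.eq.2 ?_
        have : ⁅u⁻¹, c⁆ ∈ center P :=
          hcomm ▸ commutator_mem_commutator (mem_top u⁻¹) (mem_top c)
        rw [commutatorElement_def, inv_inv] at this
        simpa [mul_assoc] using this
      symm
      refine Nat.card_eq_of_bijective (fun o => o.elim (ConjClasses.mk z) fun q =>
        if q = 1 then ConjClasses.mk 1 else ConjClasses.mk q.out) ⟨?_, ?_⟩
      · have hout : ∀ (c : P), c ∈ center P → ∀ q : P ⧸ center P, q ≠ 1 → ¬ IsConj c q.out :=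
          fun c hc q hq h => hq (by
            rw [← Quotient.out_eq q]
            exact ((QuotientGroup.eq_one_iff c).2 hc ▸ (hconj c q.out h).symm :))
        have hz0 : ¬ IsConj z 1 := fun h => hz1 (isConj_one_left.1 h)
        rintro (_ | q) (_ | q') h <;> simp only [Option.elim] at h
        · rfl
        · exfalso
          split_ifs at h with hq
          · exact hz0 (ConjClasses.mk_eq_mk_iff_isConj.1 h)
          · exact hout z hz q' hq (ConjClasses.mk_eq_mk_iff_isConj.1 h)
        · exfalso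
          split_ifs at h with hq
          · exact hz0 (ConjClasses.mk_eq_mk_iff_isConj.1 h).symm
          · exact hout z hz q hq (ConjClasses.mk_eq_mk_iff_isConj.1 h).symm
        · split_ifs at h with hq hq' hq'
          · rw [hq, hq']
          · exact absurd (ConjClasses.mk_eq_mk_iff_isConj.1 h) (hout 1 (one_mem _) q' hq')
          · exact absurd (ConjClasses.mk_eq_mk_iff_isConj.1 h).symm (hout 1 (one_mem _) q hq)
          · have e := hconj _ _ (ConjClasses.mk_eq_mk_iff_isConj.1 h)
            rw [QuotientGroup.out_eq', QuotientGroup.out_eq'] at e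
            rw [e]
      · intro C
        obtain ⟨g, rfl⟩ := C.exists_rep
        by_cases hg : g ∈ center P
        · rcases hZ g hg with rfl | rfl
          · exact ⟨some 1, by simp⟩
          · exact ⟨none, rfl⟩
        refine ⟨some (g : P ⧸ center P), ?_⟩
        have hne : (g : P ⧸ center P) ≠ 1 := fun h => hg ((QuotientGroup.eq_one_iff g).1 h)
        simp only [Option.elim, if_neg hne]
        refine ConjClasses.mk_eq_mk_iff_isConj.2 ?_
        obtain ⟨⟨c, hc⟩, he⟩ := QuotientGroup.mk_out_eq_mul (center P) g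
        rw [he]
        rcases hZ c hc with hc' | hc' <;> subst c
        · show IsConj (g * 1) g
          rw [mul_one]
        · obtain ⟨h, hh⟩ : ∃ h, h * g ≠ g * h := by
            by_contra hno; push Not at hno; exact hg (mem_center_iff.2 hno)
          have hzc : ⁅h, g⁆ = z := (hZ _ (hcomm ▸ commutator_mem_commutator (mem_top h)
            (mem_top g))).resolve_left fun e => hh (commutatorElement_eq_one_iff_mul_comm.1 e)
          refine (isConj_iff.2 ⟨h, ?_⟩).symm
          show h * g * h⁻¹ = g * z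
          rw [mem_center_iff.1 hz g, ← hzc, commutatorElement_def, inv_mul_cancel_right]
    rw [card_irr, ← Finset.card_filter_add_card_filter_not (fun θ => cdeg θ = 1),
      card_filter_cdeg_one] at hk
    rw [hS]
    omega


/-- Let p be a prime and G a finite nilpotent group. Then G has exactly one irreducible complex character of degree divisible by p if and only if p = 2 and G is an extraspecial 2-group. -/
theorem result {G : Type*} [Group G] [Finite G] [Group.IsNilpotent G] (p : ℕ) [Fact p.Prime] : Nat.card {χ : Cfsg.IrrCharacter G // p ∣ Cfsg.charDegree (χ : G → ℂ)} = 1 ↔ (p = 2 ∧ Cfsg.IsExtraspecial 2 G) := by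
  by_cases hG : IsPGroup p G
  · exact extraspecial_iff hG
  refine ⟨fun h => ?_, fun h => absurd (h.1 ▸ h.2.1.1) hG⟩
  exfalso
  obtain ⟨R, C, f, hR, hndvd, -, -, -⟩ := exists_nilpotent_split (H := G) p
  obtain ⟨⟨χ, hdvd⟩, hall⟩ := (Nat.card_eq_one_iff_exists.1 h)
  obtain ⟨α, β, hα, hβ, hχ⟩ := exists_splitChar f χ.2
  apply hG
  have huniq : ∀ β' : C → ℂ, Cfsg.IsIrrCharacter C β' → β' = β := by
    intro β' hβ'
    have hpα : p ∣ cdeg α := by
      have h1 : p ∣ cdeg α * cdeg β := by rw [← cdeg_splitChar f hα hβ, ← hχ]; exact hdvd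
      exact ((Fact.out : p.Prime).dvd_mul.1 h1).resolve_right fun hb =>
        hndvd (hb.trans (cdeg_dvd hβ))
    have := hall ⟨⟨splitChar f α β', isIrr_splitChar f hα hβ'⟩, by
      show p ∣ cdeg (splitChar f α β')
      rw [cdeg_splitChar f hα hβ']
      exact hpα.mul_right _⟩
    have e : splitChar f α β' = splitChar f α β :=
      (congrArg (fun x : {χ : Cfsg.IrrCharacter G // p ∣ Cfsg.charDegree (χ : G → ℂ)} => x.1.1)
        this).trans hχ
    exact (splitChar_injective f hα hβ' hα hβ e).2
  have hC1 : Subsingleton C := by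
    refine ⟨fun a b => ?_⟩
    have h1 : IsConj (a * b⁻¹) 1 := (isConj_iff_irr_eq _ _).2 fun γ hγ => by
      rw [huniq γ hγ, ← huniq _ isIrrCharacter_one]
    exact mul_inv_eq_one.1 (isConj_one_left.1 h1)
  refine hR.of_surjective (f.toMonoidHom.comp (MonoidHom.inl R C)) fun g => ?_
  obtain ⟨⟨a, b⟩, rfl⟩ := f.surjective g
  exact ⟨a, by rw [Subsingleton.elim b 1]; rfl⟩

end Cfsg.Agent.S4762
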