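-- Proof of statement S4763.
import Cfsg.Statements.S4763
import Cfsg.Agent.Char.PComplementClassCount

set_option autoImplicit false
open Cfsg

namespace Cfsg.Agent.S4763

/-- Let p be a prime and G a finite group that is not nilpotent and has a normal p-complement (a normal subgroup of order prime to p and index a power of p). If G has exactly one irreducible complex character of degree divisible by p, then G has exactly one conjugacy class whose size is divisible by p. -/
theorem result {G : Type*} [Group G] [Finite G] (p : ℕ) [Fact p.Prime] (hnil : ¬ Group.IsNilpotent G) (N : Subgroup G) [N.Normal] (hN : (Nat.card N).Coprime p) (hidx : ∃ k : ℕ, N.index = p ^ k) (hone : Nat.card {χ : Cfsg.IrrCharacter G // p ∣ Cfsg.charDegree (χ : G → ℂ)} = 1) : Nat.card {C : ConjClasses G // p ∣ Nat.card C.carrier} = 1 := by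
  classical
  obtain ⟨k, hk⟩ := hidx
  have hp : p.Prime := Fact.out
  have hcop : (Nat.card N).Coprime N.index := hk ▸ hN.pow_right k
  haveI : Finite (Cfsg.IrrCharacter G) := CfsgLib.Char.finite_irrCharacter G
  haveI := Fintype.ofFinite G
  have hN1 : N ≠ ⊥ := fun h => hnil ((IsPGroup.of_card (n := k) (by
    rw [← hk, h, Subgroup.index_bot])).isNilpotent)
  have hk0 : k ≠ 0 := by
    rintro rfl
    obtain ⟨⟨χ, hχ⟩, -⟩ := Nat.card_eq_one_iff_exists.1 hone
    have htop : N = ⊤ := Subgroup.index_eq_one.1 (by rw [hk, pow_zero])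
    rw [htop, Subgroup.card_top] at hN
    exact hp.not_dvd_one (hN ▸ Nat.dvd_gcd (hχ.trans
      (CfsgLib.Char.IsIrrCharacter.degree_dvd_card χ.2
        (CfsgLib.Char.PComplementCount.charDegree_spec' χ.2))) dvd_rfl)
  have hab := CfsgLib.Char.PComplementCount.quotient_comm (p := p) hcop ⟨k, hk⟩ hN1 hone
  obtain ⟨P⟩ : Nonempty (Sylow p G) := inferInstance
  obtain ⟨m, hm⟩ := IsPGroup.iff_card.1 P.2
  have hcardP : Nat.card (P : Subgroup G) = N.index := by
    have h1 := (P : Subgroup G).card_mul_index
    have h2 := N.card_mul_index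
    refine Nat.dvd_antisymm ?_ ?_
    · refine Nat.Coprime.dvd_of_dvd_mul_left ?_ (h2.symm ▸ (P : Subgroup G).card_subgroup_dvd_card)
      exact hm ▸ (hN.symm.pow_left m)
    · rw [hk]
      refine Nat.Coprime.dvd_of_dvd_mul_right
        ((hp.coprime_iff_not_dvd.2 P.not_dvd_index).pow_left k) (h1.symm ▸ ?_)
      exact hk ▸ N.index_dvd_card
  have hC : N.IsComplement' (P : Subgroup G) :=
    Subgroup.isComplement'_of_coprime (by rw [hcardP, N.card_mul_index]) (hcardP ▸ hcop)
  have heq := CfsgLib.Char.PComplementCount.card_degree_le_card_class hk0 hk hcop hC hab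
  have h1 := Nat.card_congr (Equiv.sumCompl (fun χ : Cfsg.IrrCharacter G =>
    p ∣ Cfsg.charDegree (χ : G → ℂ)))
  have h2 := Nat.card_congr (Equiv.sumCompl (fun c : ConjClasses G => p ∣ Nat.card c.carrier))
  rw [Nat.card_sum] at h1 h2
  rw [CfsgLib.Char.card_irr_eq_card_conjClasses, hone, heq] at h1
  omega

end Cfsg.Agent.S4763
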