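import Cfsg.Statements.S4775
import Cfsg.Agent.Suzuki.Chars.Degrees
import Cfsg.Agent.Suzuki.LieModel
-- import your own Cfsg.Agent.* helpers here

set_option autoImplicit false
open Cfsg

namespace Cfsg.Agent.S4775

/-- Let F be a finite field with q = 2^(2m+1) ≥ 8 elements and let S be isomorphic to the Suzuki group over F. Then the vertices of the character degree graph of S are 2 and the primes dividing (q − 1)(q² + 1); the primes dividing (q − 1)(q² + 1) are pairwise adjacent, and 2 is adjacent exactly to the primes dividing q − 1. -/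
theorem result (F : Type*) [Field F] [Fintype F] (m : ℕ) (hm : 1 ≤ m) (q : ℕ) (hq : Fintype.card F = q) (hqm : q = 2 ^ (2 * m + 1)) {S : Type*} [Group S] [Finite S] (hS : Nonempty (S ≃* ↥(Cfsg.Lie.Sz F (2 ^ (m + 1))))) : Cfsg.degreePrimes S = {r : ℕ | r.Prime ∧ (r = 2 ∨ r ∣ (q - 1) * (q ^ 2 + 1))} ∧ ∀ r s : ℕ, (Cfsg.degreeGraph S).Adj r s ↔ (r ≠ s ∧ r.Prime ∧ s.Prime ∧ ((r ∣ (q - 1) * (q ^ 2 + 1) ∧ s ∣ (q - 1) * (q ^ 2 + 1)) ∨ (r = 2 ∧ s ∣ q - 1) ∨ (s = 2 ∧ r ∣ q - 1))) := by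
  subst hq
  have h := CfsgLib.Suzuki.isSzField_of_card hm hqm
  obtain ⟨e0⟩ := hS
  have hd := CfsgLib.Suzuki.charDegrees_eq h (e0.trans (CfsgLib.Suzuki.lieEquiv h).symm)
  rw [Nat.card_eq_fintype_card] at hd
  set q := Fintype.card F with hqdef
  set k₁ := 2 ^ (2 * m + 1) + 2 ^ (m + 1) + 1 with hk₁
  set k₂ := 2 ^ (2 * m + 1) - 2 ^ (m + 1) + 1 with hk₂
  obtain ⟨t, ht⟩ : ∃ t, t = 2 ^ m := ⟨_, rfl⟩
  have h2t : 2 ≤ t := by rw [ht]; simpa using Nat.pow_le_pow_right (by norm_num : 0 < 2) hm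
  have e1 : 2 ^ (m + 1) = 2 * t := by rw [ht, pow_succ, mul_comm]
  have e2 : 2 ^ (2 * m + 1) = 2 * (t * t) := by rw [ht, pow_succ, two_mul, pow_add]; ring
  have hq : q = 2 * (t * t) := by rw [hqm, e2]
  have hqsucc : q ^ 2 + 1 = k₁ * k₂ := by
    rw [hk₁, hk₂, e1, e2, hq]
    obtain ⟨j, rfl⟩ : ∃ j, t = j + 1 := ⟨t - 1, by omega⟩
    rw [show 2 * ((j + 1) * (j + 1)) = 2 * j * j + 2 * j + 2 * (j + 1) by ring, Nat.add_sub_cancel]
    ring
  have h2t' : 2 ∣ t := by rw [ht]; exact dvd_pow_self 2 (by omega)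
  have htpow : ∀ r : ℕ, r.Prime → r ∣ t → r = 2 := fun r hr hrt =>
    (Nat.prime_dvd_prime_iff_eq hr Nat.prime_two).1 (hr.dvd_of_dvd_pow (ht ▸ hrt))
  have hqpow : ∀ r : ℕ, r.Prime → r ∣ q ^ 2 → r = 2 := fun r hr hrq => by
    rw [hqm] at hrq
    exact (Nat.prime_dvd_prime_iff_eq hr Nat.prime_two).1
      (hr.dvd_of_dvd_pow (hr.dvd_of_dvd_pow hrq))
  have mem : ∀ d, d ∈ Cfsg.charDegrees S ↔
      d = 1 ∨ d = q ^ 2 ∨ d = q ^ 2 + 1 ∨ d = (q - 1) * k₂ ∨ d = (q - 1) * k₁ ∨ d = (q - 1) * t := by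
    intro d
    rw [hd, ht]
    simp only [Set.mem_insert_iff, Set.mem_singleton_iff]
  have dbig : ∀ d, d = q ^ 2 + 1 ∨ d = (q - 1) * k₂ ∨ d = (q - 1) * k₁ →
      d ∣ (q - 1) * (q ^ 2 + 1) := by
    rintro d (rfl | rfl | rfl)
    · exact dvd_mul_left _ _
    · exact mul_dvd_mul_left _ (hqsucc ▸ dvd_mul_left _ _)
    · exact mul_dvd_mul_left _ (hqsucc ▸ dvd_mul_right _ _)
  refine ⟨?_, fun r s => ?_⟩
  · ext r
    simp only [Cfsg.degreePrimes, Set.mem_setOf_eq, mem]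
    refine and_congr_right fun hr => ⟨?_, ?_⟩
    · rintro ⟨d, hd', hrd⟩
      rcases hd' with rfl | rfl | hd' | hd' | hd' | rfl
      · exact absurd (Nat.dvd_one.1 hrd) hr.ne_one
      · exact Or.inl (hqpow r hr hrd)
      · exact Or.inr (hrd.trans (dbig d (Or.inl hd')))
      · exact Or.inr (hrd.trans (dbig d (Or.inr (Or.inl hd'))))
      · exact Or.inr (hrd.trans (dbig d (Or.inr (Or.inr hd'))))
      · rcases hr.dvd_mul.1 hrd with hh | hh
        · exact Or.inr (dvd_mul_of_dvd_left hh _)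
        · exact Or.inl (htpow r hr hh)
    · rintro (rfl | hh)
      · exact ⟨(q - 1) * t, by tauto, dvd_mul_of_dvd_right h2t' _⟩
      · rcases hr.dvd_mul.1 hh with hh | hh
        · exact ⟨(q - 1) * t, by tauto, dvd_mul_of_dvd_left hh _⟩
        · exact ⟨q ^ 2 + 1, by tauto, hh⟩
  · simp only [Cfsg.degreeGraph, mem]
    refine and_congr_right fun hne => and_congr_right fun hr => and_congr_right fun hs => ⟨?_, ?_⟩
    · rintro ⟨d, hd', hrsd⟩
      have hrd : r ∣ d := (dvd_mul_right r s).trans hrsd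
      have hsd : s ∣ d := (dvd_mul_left s r).trans hrsd
      rcases hd' with rfl | rfl | hd' | hd' | hd' | rfl
      · exact absurd (Nat.dvd_one.1 hrd) hr.ne_one
      · exact absurd ((hqpow r hr hrd).trans (hqpow s hs hsd).symm) hne
      · exact Or.inl ⟨hrd.trans (dbig d (Or.inl hd')), hsd.trans (dbig d (Or.inl hd'))⟩
      · exact Or.inl ⟨hrd.trans (dbig d (Or.inr (Or.inl hd'))),
          hsd.trans (dbig d (Or.inr (Or.inl hd')))⟩
      · exact Or.inl ⟨hrd.trans (dbig d (Or.inr (Or.inr hd'))),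
          hsd.trans (dbig d (Or.inr (Or.inr hd')))⟩
      · rcases hr.dvd_mul.1 hrd with a | a <;> rcases hs.dvd_mul.1 hsd with b | b
        · exact Or.inl ⟨dvd_mul_of_dvd_left a _, dvd_mul_of_dvd_left b _⟩
        · exact Or.inr (Or.inr ⟨htpow s hs b, a⟩)
        · exact Or.inr (Or.inl ⟨htpow r hr a, b⟩)
        · exact absurd ((htpow r hr a).trans (htpow s hs b).symm) hne
    · have cop : Nat.Coprime r s := (Nat.coprime_primes hr hs).2 hne
      have pick : ∀ a b : ℕ, r ∣ a → s ∣ b → r * s ∣ a * b := fun a b => mul_dvd_mul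
      rintro (⟨ha, hb⟩ | ⟨rfl, hb⟩ | ⟨rfl, ha⟩)
      · rcases hr.dvd_mul.1 ha with a | a <;> rcases hs.dvd_mul.1 hb with b | b
        · exact ⟨(q - 1) * t, by tauto, dvd_mul_of_dvd_left (cop.mul_dvd_of_dvd_of_dvd a b) _⟩
        · rw [hqsucc] at b
          rcases hs.dvd_mul.1 b with b | b
          · exact ⟨(q - 1) * k₁, by tauto, pick _ _ a b⟩
          · exact ⟨(q - 1) * k₂, by tauto, pick _ _ a b⟩
        · rw [hqsucc] at a
          rcases hr.dvd_mul.1 a with a | a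
          · exact ⟨(q - 1) * k₁, by tauto, mul_comm (q - 1) k₁ ▸ pick _ _ a b⟩
          · exact ⟨(q - 1) * k₂, by tauto, mul_comm (q - 1) k₂ ▸ pick _ _ a b⟩
        · exact ⟨q ^ 2 + 1, by tauto, cop.mul_dvd_of_dvd_of_dvd a b⟩
      · exact ⟨(q - 1) * t, by tauto, mul_comm (q - 1) t ▸ pick _ _ h2t' hb⟩
      · exact ⟨(q - 1) * t, by tauto, pick _ _ ha h2t'⟩

end Cfsg.Agent.S4775
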