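import Cfsg.Statements.S4776
import Cfsg.Agent.RelDegGraph.Main
-- import your own Cfsg.Agent.* helpers here

set_option autoImplicit false
open Cfsg

namespace Cfsg.Agent.S4776

/-- Let N be a normal subgroup of the finite group G that is not perfect and is contained in the derived subgroup of G. Consider the common-divisor graph on the relative degree set cd(G|N) (the degrees of the irreducible complex characters of G whose kernel does not contain N; two distinct degrees adjacent when they have a common divisor greater than one). Then this graph has at most two connected components; and if a, b ∈ cd(G|N) lie in different components, then one of a, b is coprime to the index m of the derived subgroup of N in N while the other is divisible by every prime divisor of m. -/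
theorem result {G : Type*} [Group G] [Finite G] (N : Subgroup G) [N.Normal] (hN : ⁅N, N⁆ < N) (hNG : N ≤ commutator G) : Nat.card (Cfsg.commonDivisorGraph.induce (Cfsg.relCharDegrees N)).ConnectedComponent ≤ 2 ∧ ∀ (a b : ℕ) (ha : a ∈ Cfsg.relCharDegrees N) (hb : b ∈ Cfsg.relCharDegrees N), ¬ (Cfsg.commonDivisorGraph.induce (Cfsg.relCharDegrees N)).Reachable ⟨a, ha⟩ ⟨b, hb⟩ → (Nat.Coprime a (⁅N, N⁆.relIndex N) ∧ ∀ r : ℕ, r.Prime → r ∣ ⁅N, N⁆.relIndex N → r ∣ b) ∨ (Nat.Coprime b (⁅N, N⁆.relIndex N) ∧ ∀ r : ℕ, r.Prime → r ∣ ⁅N, N⁆.relIndex N → r ∣ a) := by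
  exact ⟨CfsgLib.RelDeg.components_le_two hN hNG, CfsgLib.RelDeg.separation hN hNG⟩

end Cfsg.Agent.S4776
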