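import Cfsg.Statements.S4784
import Cfsg.Agent.Char.OddIndexReal
import Cfsg.Agent.Char.FrobeniusSchur
import Cfsg.Agent.Blocks.Principal
import Cfsg.Agent.Char.Induction

set_option autoImplicit false
open Cfsg

namespace Cfsg.Agent.S4784

/-- Let H be a subgroup of the finite group G and consider the permutation character of G on the cosets of H (the function induced from the principal character of H). Then exactly one irreducible constituent of it is real-valued with Frobenius–Schur indicator +1 (namely the principal character) if and only if the normal core of H has odd index in G. -/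
theorem result {G : Type*} [Group G] [Fintype G] (H : Subgroup G) : Nat.card {χ : Cfsg.IrrCharacter G // Cfsg.classInner (Cfsg.indFun H (fun _ : H => (1 : ℂ))) (χ : G → ℂ) ≠ 0 ∧ (∀ g : G, (starRingEnd ℂ) ((χ : G → ℂ) g) = (χ : G → ℂ) g) ∧ (Nat.card G : ℂ)⁻¹ * ∑ g : G, (χ : G → ℂ) (g * g) = 1} = 1 ↔ Odd H.normalCore.index := by
  classical
  letI := CfsgLib.Block.Chr.irrFintype (G := G)
  haveI : Fintype H := Fintype.ofFinite _
  set π := Cfsg.indFun H (fun _ : H => (1 : ℂ)) with hπ
  have hπc : Cfsg.IsCharacter G π :=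
    CfsgLib.Char.IsCharacter.indFun (CfsgLib.Char.isCharacter_one (G := H))
  choose m hm using fun χ : Cfsg.IrrCharacter G =>
    CfsgLib.Char.IsCharacter.exists_classInner_eq_natCast hπc χ.2
  set ν : Cfsg.IrrCharacter G → ℂ := fun χ =>
    (Nat.card G : ℂ)⁻¹ * ∑ g : G, (χ : G → ℂ) (g * g) with hν
  -- the indicator sum counts the square roots of the elements of `H`
  have hsum : ∑ χ : Cfsg.IrrCharacter G, (m χ : ℂ) * ν χ =
      (Nat.card H : ℂ)⁻¹ * ((Finset.univ.filter fun g : G => g * g ∈ H).card : ℂ) := by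
    have h1 : ∑ χ : Cfsg.IrrCharacter G, (m χ : ℂ) * ν χ =
        (Nat.card G : ℂ)⁻¹ * ∑ g : G, π (g * g) := by
      simp only [hν, Finset.mul_sum]
      rw [Finset.sum_comm]
      refine Finset.sum_congr rfl fun g _ => ?_
      rw [CfsgLib.Block.Chr.classFun_expand (θ := π)
        (CfsgLib.Char.isClassFunction_indFun H (fun _ : H => (1 : ℂ))) (g * g), Finset.mul_sum]
      exact Finset.sum_congr rfl fun χ _ => by rw [hm]; ring
    rw [h1]
    simp only [hπ, CfsgLib.Char.indFun_def]
    rw [← Finset.mul_sum, Finset.sum_comm]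
    have hx : ∀ x : G, ∑ g : G, Cfsg.extendByZero H (fun _ : H => (1 : ℂ)) (x⁻¹ * (g * g) * x) =
        ((Finset.univ.filter fun g : G => g * g ∈ H).card : ℂ) := by
      intro x
      rw [Finset.card_filter, Nat.cast_sum]
      refine Fintype.sum_equiv (MulAut.conj x⁻¹).toEquiv _ _ fun g => ?_
      have e : (MulAut.conj x⁻¹).toEquiv g * (MulAut.conj x⁻¹).toEquiv g = x⁻¹ * (g * g) * x := by
        simp [mul_assoc]
      rw [e]
      by_cases hg : x⁻¹ * (g * g) * x ∈ H
      · rw [CfsgLib.Char.extendByZero_of_mem _ hg, if_pos hg, Nat.cast_one]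
      · rw [CfsgLib.Char.extendByZero_of_not_mem _ hg, if_neg hg, Nat.cast_zero]
    rw [Finset.sum_congr rfl fun x _ => hx x, Finset.sum_const, Finset.card_univ, nsmul_eq_mul,
      ← Nat.card_eq_fintype_card, mul_left_comm (Nat.card H : ℂ)⁻¹,
      inv_mul_cancel_left₀ (Nat.cast_ne_zero.2 Nat.card_pos.ne')]
  -- the principal character
  have hone : Cfsg.classInner π (CfsgLib.Block.oneIrr G : G → ℂ) = 1 := by
    rw [CfsgLib.Block.oneIrr_coe, hπ,
      CfsgLib.Char.classInner_indFun _ (fun _ _ => rfl)]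
    simp [CfsgLib.Char.classInner_def]
  have hm1 : (m (CfsgLib.Block.oneIrr G) : ℂ) = 1 := by rw [← hm, hone]
  have hν1 : ν (CfsgLib.Block.oneIrr G) = 1 := by
    simp [hν, CfsgLib.Block.oneIrr_coe]
  set Q : Cfsg.IrrCharacter G → Prop := fun χ =>
    Cfsg.classInner π (χ : G → ℂ) ≠ 0 ∧
      (∀ g : G, (starRingEnd ℂ) ((χ : G → ℂ) g) = (χ : G → ℂ) g) ∧ ν χ = 1 with hQ
  have hQ1 : Q (CfsgLib.Block.oneIrr G) :=
    ⟨by rw [hone]; exact one_ne_zero, fun g => by simp [CfsgLib.Block.oneIrr_coe], hν1⟩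
  change Nat.card {χ // Q χ} = 1 ↔ _
  constructor
  · intro hcard
    haveI : Subsingleton {χ // Q χ} := (Nat.card_eq_one_iff_unique.1 hcard).1
    by_contra hev
    rw [Nat.not_odd_iff_even, even_iff_two_dvd, Subgroup.index_eq_card] at hev
    obtain ⟨x, hx⟩ := exists_prime_orderOf_dvd_card' 2 hev
    obtain ⟨g, rfl⟩ := QuotientGroup.mk_surjective x
    have hgN : g ∉ H.normalCore := fun h => by
      rw [(QuotientGroup.eq_one_iff g).2 h, orderOf_one] at hx
      norm_num at hx
    have hg2 : g * g ∈ H.normalCore := by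
      rw [← QuotientGroup.eq_one_iff, QuotientGroup.mk_mul, ← sq, ← hx, pow_orderOf_eq_one]
    obtain ⟨c, hc⟩ : ∃ c : G, c * g * c⁻¹ ∉ H := by
      by_contra! h
      exact hgN h
    have hlt : Nat.card H < (Finset.univ.filter fun g : G => g * g ∈ H).card := by
      rw [Nat.card_eq_fintype_card, ← Fintype.card_coe]
      refine Fintype.card_lt_of_injective_of_notMem
        (fun h : H => (⟨(h : G), Finset.mem_filter.2 ⟨Finset.mem_univ _, H.mul_mem h.2 h.2⟩⟩ :
          {z // z ∈ Finset.univ.filter fun g : G => g * g ∈ H}))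
        (fun a b hab => by simpa using hab)
        (b := ⟨c * g * c⁻¹, Finset.mem_filter.2 ⟨Finset.mem_univ _, ?_⟩⟩) ?_
      · have := hg2 c
        simpa [mul_assoc] using this
      · rintro ⟨h, hh⟩
        have e : (h : G) = c * g * c⁻¹ := congrArg Subtype.val hh
        exact hc (e ▸ h.2)
    have hle : (∑ χ : Cfsg.IrrCharacter G, (m χ : ℂ) * ν χ).re ≤ 1 := by
      rw [Complex.re_sum, ← Finset.add_sum_erase _ _
        (Finset.mem_univ (CfsgLib.Block.oneIrr G)), hm1, hν1]
      simp only [mul_one, Complex.one_re, add_le_iff_nonpos_right]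
      refine Finset.sum_nonpos fun χ hχ => ?_
      by_cases hm0 : m χ = 0
      · simp [hm0]
      rcases CfsgLib.Char.IsIrrCharacter.fs_indicator χ.2 with ⟨-, h⟩ | ⟨hr, h | ⟨h, -⟩⟩
      · rw [show ν χ = 0 from h]; simp
      · exfalso
        have hQχ : Q χ := ⟨by rw [hm]; exact Nat.cast_ne_zero.2 hm0,
          fun g => Complex.conj_eq_iff_im.2 (hr g), h⟩
        exact Finset.ne_of_mem_erase hχ
          (congrArg Subtype.val (Subsingleton.elim (⟨χ, hQχ⟩ : {χ // Q χ}) ⟨_, hQ1⟩))
      · rw [show ν χ = -1 from h]; simp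
    rw [hsum] at hle
    have h2 : ((Nat.card H : ℂ)⁻¹ * ((Finset.univ.filter fun g : G => g * g ∈ H).card : ℂ)).re =
        ((Finset.univ.filter fun g : G => g * g ∈ H).card : ℝ) / (Nat.card H : ℝ) := by
      rw [← Complex.ofReal_natCast, ← Complex.ofReal_natCast, ← Complex.ofReal_inv,
        ← Complex.ofReal_mul, Complex.ofReal_re]
      ring
    rw [h2, div_le_one (Nat.cast_pos.2 Nat.card_pos)] at hle
    exact absurd (Nat.cast_le.1 hle) (not_le.2 hlt)
  · intro hodd
    refine Nat.card_eq_one_iff_exists.2 ⟨⟨_, hQ1⟩, ?_⟩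
    rintro ⟨χ, hχ0, hr, -⟩
    refine Subtype.ext (Subtype.ext ?_)
    show (χ : G → ℂ) = fun _ => 1
    refine CfsgLib.Char.OddIndex.eq_one_of_real hodd χ.2 ?_ (fun g => Complex.conj_eq_iff_im.1 (hr g))
    refine (CfsgLib.Block.sum_eq_zero_or_ker χ H.normalCore).resolve_left fun h0 => hχ0 ?_
    rw [hπ, CfsgLib.Char.classInner_indFun _ (CfsgLib.Block.Chr.isClassFunction_irr χ),
      CfsgLib.Char.classInner_def]
    simp only [one_mul]
    rw [← map_sum]
    suffices h : (∑ h : H, (χ : G → ℂ) h) = 0 by rw [h, map_zero, mul_zero]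
    have hN0 : ((Finset.univ.filter (· ∈ H.normalCore)).card : ℂ) ≠ 0 :=
      Nat.cast_ne_zero.2 (Finset.card_pos.2 ⟨1, by simp [H.normalCore.one_mem]⟩).ne'
    have hz : ∀ k : G, ∑ n ∈ Finset.univ.filter (· ∈ H.normalCore), (χ : G → ℂ) (n * k) = 0 := by
      intro k
      have ha : Cfsg.IsClassFunction G (fun g => if g ∈ H.normalCore then (1 : ℂ) else 0) := by
        intro g x
        have hiff : x * g * x⁻¹ ∈ H.normalCore ↔ g ∈ H.normalCore :=
          ⟨fun h => by simpa [mul_assoc] using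
            (H.normalCore_normal).conj_mem _ h x⁻¹,
          fun h => (H.normalCore_normal).conj_mem _ h x⟩
        simp only [hiff]
      have h := CfsgLib.Block.Chr.class_mul χ ha (fun l => if l = k then 1 else 0)
      simp only [mul_ite, mul_one, mul_zero, ite_mul, one_mul, zero_mul, Finset.sum_ite_eq',
        Finset.mem_univ, if_true] at h
      rw [← Finset.sum_filter, ← Finset.sum_filter, h0, zero_mul, mul_eq_zero] at h
      exact h.resolve_right (CfsgLib.Block.Chr.irr_one_ne_zero χ)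
    have hcomm : ∑ h : H, ∑ n ∈ Finset.univ.filter (· ∈ H.normalCore), (χ : G → ℂ) (n * h) = 0 :=
      Finset.sum_eq_zero fun h _ => hz h
    rw [Finset.sum_comm] at hcomm
    have hshift : ∀ n ∈ Finset.univ.filter (· ∈ H.normalCore),
        ∑ h : H, (χ : G → ℂ) (n * h) = ∑ h : H, (χ : G → ℂ) h := by
      intro n hn
      exact Fintype.sum_equiv (Equiv.mulLeft (⟨n, H.normalCore_le (Finset.mem_filter.1 hn).2⟩ : H))
        _ _ fun h => rfl
    rw [Finset.sum_congr rfl hshift, Finset.sum_const, nsmul_eq_mul] at hcomm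
    exact (mul_eq_zero.1 hcomm).resolve_left hN0

end Cfsg.Agent.S4784
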