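import Cfsg.Statements.S4796
import Cfsg.Agent.Char.PrimeCodegree
import Cfsg.Agent.Frobenius.Basic
import Mathlib.GroupTheory.SchurZassenhaus

set_option autoImplicit false
open Cfsg

namespace Cfsg.Agent.S4796

/-- Let G be a finite group with a faithful irreducible complex character χ whose codegree #G / χ(1) is a prime p (for a faithful character the kernel is trivial, so the codegree is #G / χ(1)). Then either G is cyclic of order p, or G is a Frobenius group whose Frobenius kernel has order p: some proper non-trivial subgroup H satisfies H ∩ gHg⁻¹ = 1 for every element g outside H, and the set of elements lying in no conjugate of H, together with the identity, has exactly p elements. -/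
theorem result {G : Type*} [Group G] [Finite G] (χ : Cfsg.IrrCharacter G) (hfaith : ∀ g : G, (χ : G → ℂ) g = (χ : G → ℂ) 1 → g = 1) (p : ℕ) (hp : p.Prime) (hcod : Nat.card G = p * Cfsg.charDegree (χ : G → ℂ)) : (IsCyclic G ∧ Nat.card G = p) ∨ ∃ H : Subgroup G, Cfsg.IsFrobeniusComplement H ∧ Nat.card ↥(Cfsg.frobeniusKernel H) = p := by
  classical
  obtain ⟨P, hPn, hP, hidx, hcop, hcent⟩ :=
    CfsgLib.Char.PrimeCodegree.exists_selfcentralizing χ.2 hp hcod
  haveI := Fact.mk hp
  rcases eq_or_ne P ⊤ with rfl | hPt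
  · rw [Subgroup.card_top] at hP
    exact Or.inl ⟨isCyclic_of_prime_card hP, hP⟩
  refine Or.inr ?_
  haveI := hPn
  obtain ⟨H, hH⟩ := Subgroup.exists_left_complement'_of_coprime (N := P) (hP.symm ▸ hcop)
  have hHidx : H.index = p := by rw [hH.symm.index_eq_card, hP]
  have hfrob : Cfsg.IsFrobeniusComplement H := by
    refine ⟨fun h => hPt ?_, fun h => ?_, fun g hg => ?_⟩
    · subst h
      have := hH.index_eq_card
      rw [Subgroup.card_bot] at this
      exact Subgroup.index_eq_one.1 this
    · subst h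
      rw [Subgroup.index_top] at hHidx
      exact hp.one_lt.ne hHidx
    · rw [eq_bot_iff]
      rintro x ⟨hx, hx'⟩
      obtain ⟨⟨⟨k, hk⟩, ⟨n, hn⟩⟩, hkn⟩ := hH.surjective g
      simp only at hkn
      subst hkn
      have hn1 : n ≠ 1 := fun h => hg (by rw [h, mul_one]; exact hk)
      obtain ⟨y, hy, hyx⟩ := hx'
      simp only [MulDistribMulAction.toMonoidEnd_apply, MulDistribMulAction.toMonoidHom_apply,
        MulAut.smul_def, MulAut.conj_apply] at hyx
      have hz : k⁻¹ * x * k ∈ H := H.mul_mem (H.mul_mem (H.inv_mem hk) hx) hk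
      have he : k⁻¹ * x * k = n * y * n⁻¹ := by rw [← hyx]; group
      have hc : n * y * n⁻¹ * y⁻¹ ∈ H ⊓ P := ⟨H.mul_mem (he ▸ hz) (H.inv_mem hy), by
        have : n * y * n⁻¹ * y⁻¹ = n * (y * n⁻¹ * y⁻¹) := by group
        rw [this]
        exact P.mul_mem hn (hPn.conj_mem _ (P.inv_mem hn) y)⟩
      rw [hH.disjoint.eq_bot, Subgroup.mem_bot] at hc
      have hcomm : n * y = y * n := mul_inv_eq_iff_eq_mul.1 (mul_inv_eq_one.1 hc)
      have hyP : y ∈ P := hcent y fun z hz' => by
        have hzn : z ∈ Subgroup.zpowers n := by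
          have htop : Subgroup.zpowers (⟨n, hn⟩ : P) = ⊤ :=
            zpowers_eq_top_of_prime_card hP (fun h => hn1 (congrArg Subtype.val h))
          obtain ⟨i, hi⟩ := Subgroup.mem_zpowers_iff.1 (htop ▸ Subgroup.mem_top (⟨z, hz'⟩ : P))
          exact ⟨i, by simpa using congrArg Subtype.val hi⟩
        obtain ⟨i, rfl⟩ := hzn
        exact ((Commute.zpow_left hcomm i).eq).symm
      have hy1 : y ∈ H ⊓ P := ⟨hy, hyP⟩
      rw [hH.disjoint.eq_bot, Subgroup.mem_bot] at hy1
      rw [Subgroup.mem_bot, ← hyx, hy1]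
      group
  exact ⟨H, hfrob, (CfsgLib.Frobenius.card_frobeniusKernel hfrob).trans hHidx⟩

end Cfsg.Agent.S4796
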