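import Cfsg.Statements.S4797
import Cfsg.Agent.Char.PrimeCodegree
import Cfsg.Agent.Char.Linear
import Cfsg.Agent.Blocks.Principal

set_option autoImplicit false
open Cfsg

namespace Cfsg.Agent.S4797

/-- The codegree of an irreducible complex character χ of a finite group G is [G : ker χ] / χ(1), where ker χ is the set of elements at which χ takes the value χ(1). A non-trivial finite group is perfect if and only if no irreducible complex character of it has prime codegree. -/
theorem result {G : Type*} [Group G] [Finite G] [Nontrivial G] : commutator G = ⊤ ↔ ∀ χ : Cfsg.IrrCharacter G, ¬ ((Nat.card G / (Nat.card {g : G // (χ : G → ℂ) g = (χ : G → ℂ) 1} * Cfsg.charDegree (χ : G → ℂ)))).Prime := by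
  classical
  constructor
  · intro hperf χ hprime
    have hχc := CfsgLib.Char.IsIrrCharacter.isCharacter χ.2
    obtain ⟨K, hKdef⟩ : ∃ K, K = CfsgLib.Char.kerSubgroup hχc := ⟨_, rfl⟩
    have hK : ∀ g, g ∈ K ↔ (χ : G → ℂ) g = (χ : G → ℂ) 1 := fun g => hKdef ▸ Iff.rfl
    haveI : K.Normal := hKdef ▸ CfsgLib.Char.kerSubgroup_normal hχc
    obtain ⟨n, ρ, hρ, hρχ⟩ := χ.2
    have hker : K ≤ ρ.ker := fun g hg =>
      CfsgLib.Char.apply_eq_one_of_character_eq ρ (by
        rw [hρχ, (hK g).1 hg, ← ρ.char_one, hρχ])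
    obtain ⟨σ, hσ⟩ : ∃ σ : Representation ℂ (G ⧸ K) (Fin n → ℂ), σ.comp (QuotientGroup.mk' K) = ρ :=
      ⟨QuotientGroup.lift K ρ hker, MonoidHom.ext fun g => rfl⟩
    have hσi : σ.IsIrreducible := CfsgLib.Block.isIrreducible_of_comp (QuotientGroup.mk' K)
      (QuotientGroup.mk'_surjective K) σ (by rw [hσ]; exact hρ)
    have hdeg : Cfsg.charDegree σ.character = Cfsg.charDegree (χ : G → ℂ) := by
      rw [Cfsg.charDegree, Cfsg.charDegree, ← hρχ, σ.char_one, ρ.char_one]
    haveI := Fintype.ofFinite (G ⧸ K)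
    obtain ⟨e, hdvd⟩ := CfsgLib.BlocksB.charDegree_dvd
      (χ := σ.character) ⟨n, σ, hσi, rfl⟩
    obtain ⟨-, hdpos⟩ := CfsgLib.BlocksB.charDegree_spec χ.2
    rw [hdeg] at hdvd
    have hcq : Nat.card (G ⧸ K) * Nat.card K = Nat.card G :=
      K.card_eq_card_quotient_mul_card_subgroup.symm
    have hset : Nat.card {g : G // (χ : G → ℂ) g = (χ : G → ℂ) 1} = Nat.card K :=
      Nat.card_congr (Equiv.subtypeEquivRight fun g => (hK g).symm)
    rw [hset, ← hcq, mul_comm (Nat.card K), Nat.mul_div_mul_right _ _ Nat.card_pos, hdvd,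
      Nat.mul_div_cancel_left _ hdpos] at hprime
    obtain ⟨P, hPn, hP, -, -, hcent⟩ := CfsgLib.Char.PrimeCodegree.exists_selfcentralizing
      (χ := σ.character) ⟨n, σ, hσi, rfl⟩ hprime (by rw [hdvd, hdeg, mul_comm])
    haveI := hPn
    haveI := Fact.mk hprime
    have hcyc : IsCyclic P := isCyclic_of_prime_card hP
    have hperf' : commutator (G ⧸ K) = ⊤ := by
      rw [eq_top_iff]
      rintro x -
      obtain ⟨g, rfl⟩ := QuotientGroup.mk'_surjective K x
      have := hperf ▸ Subgroup.mem_top g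
      have hm := Subgroup.map_commutator (⊤ : Subgroup G) ⊤ (QuotientGroup.mk' K)
      rw [Subgroup.map_top_of_surjective _ (QuotientGroup.mk'_surjective K)] at hm
      rw [commutator_def, ← hm]
      exact Subgroup.mem_map_of_mem _ this
    have habel : ∀ a b : MulAut P, a * b = b * a := fun a b => by
      letI := (hcyc.mulAutMulEquiv P).toEquiv
      apply (hcyc.mulAutMulEquiv P).injective
      rw [map_mul, map_mul, mul_comm]
    have hcentral : P = ⊤ := by
      rw [eq_top_iff]
      intro x _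
      have hle : commutator (G ⧸ K) ≤ (MulAut.conjNormal (H := P)).ker := by
        rw [commutator_def, Subgroup.commutator_le]
        intro a _ b _
        rw [MonoidHom.mem_ker, map_commutatorElement, commutatorElement_eq_one_iff_mul_comm]
        exact habel _ _
      refine hcent x fun y hy => ?_
      have h1 : MulAut.conjNormal x = (1 : MulAut P) := hle (hperf' ▸ Subgroup.mem_top x)
      have h2 : x * y * x⁻¹ = y := by
        simpa using congrArg (fun f : MulAut P => ((f ⟨y, hy⟩ : P) : G ⧸ K)) h1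
      exact mul_inv_eq_iff_eq_mul.1 h2
    subst hcentral
    rw [Subgroup.card_top] at hP
    have hcycQ : IsCyclic (G ⧸ K) := isCyclic_of_prime_card hP
    have hbot : commutator (G ⧸ K) = ⊥ := by
      rw [commutator_def, eq_bot_iff, Subgroup.commutator_le]
      intro a _ b _
      letI := hcycQ.commGroup
      rw [Subgroup.mem_bot, commutatorElement_eq_one_iff_mul_comm]
      exact mul_comm a b
    rw [hbot] at hperf'
    haveI : Nontrivial (G ⧸ K) := Finite.one_lt_card_iff_nontrivial.1 (hP ▸ hprime.one_lt)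
    exact bot_ne_top hperf'
  · intro h
    by_contra hne
    obtain ⟨g, hg⟩ : ∃ g, g ∉ commutator G := not_forall.1 (mt (Subgroup.eq_top_iff' _).2 hne)
    obtain ⟨lam, hlam⟩ := CfsgLib.Char.exists_hom_ne_one hg
    have hcard1 : Nat.card lam.range ≠ 1 := by
      rw [Ne, ← Subgroup.eq_bot_iff_card, MonoidHom.range_eq_bot_iff]
      exact fun h1 => hlam (by rw [h1, MonoidHom.one_apply])
    haveI : Finite lam.range := Finite.of_surjective _ lam.rangeRestrict_surjective
    obtain ⟨p, hp, m, hm⟩ := Nat.exists_prime_and_dvd hcard1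
    have hm0 : 0 < m := Nat.pos_of_ne_zero fun h0 => by
      rw [h0, mul_zero] at hm; exact Nat.card_pos.ne' hm
    haveI : IsCyclic lam.range := isCyclic_of_subgroup_isDomain ((Units.coeHom ℂ).comp lam.range.subtype)
      (Units.val_injective.comp Subtype.val_injective)
    have hord : ∃ z ∈ lam.range, orderOf z = Nat.card lam.range := by
      obtain ⟨z, hz⟩ := IsCyclic.exists_ofOrder_eq_natCard (α := lam.range)
      exact ⟨z, z.2, by rw [← hz, Subgroup.orderOf_coe]⟩
    obtain ⟨z, ⟨x, rfl⟩, hz⟩ := hord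
    let mu : G →* ℂˣ := lam ^ m
    have hrange : Nat.card mu.range = p := by
      have h1 : mu.range = Subgroup.zpowers ((lam x) ^ m) := by
        have hlr : lam.range = Subgroup.zpowers (lam x) := by
          refine (Subgroup.eq_of_le_of_card_ge (Subgroup.zpowers_le.2 (MonoidHom.mem_range.2 ⟨x, rfl⟩)) ?_).symm
          rw [Nat.card_zpowers, hz]
        refine le_antisymm ?_ (Subgroup.zpowers_le.2 (MonoidHom.mem_range.2 ⟨x, rfl⟩))
        rintro _ ⟨y, rfl⟩
        have hy : lam y ∈ lam.range := ⟨y, rfl⟩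
        rw [hlr] at hy
        obtain ⟨i, hi⟩ := Subgroup.mem_zpowers_iff.1 hy
        refine Subgroup.mem_zpowers_iff.2 ⟨i, ?_⟩
        change ((lam x) ^ m) ^ i = (lam y) ^ m
        rw [← hi, ← zpow_natCast, ← zpow_natCast, ← zpow_mul, ← zpow_mul, mul_comm]
      rw [h1, Nat.card_zpowers, orderOf_pow' _ hm0.ne', hz, hm, Nat.gcd_mul_left_left,
        Nat.mul_div_cancel _ hm0]
    have hset : Nat.card {y : G // ((mu y : ℂˣ) : ℂ) = ((mu 1 : ℂˣ) : ℂ)} = Nat.card mu.ker :=
      Nat.card_congr (Equiv.subtypeEquivRight fun y => by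
        rw [map_one, MonoidHom.mem_ker, Units.val_inj])
    refine h ⟨fun y => (mu y : ℂ), CfsgLib.Char.isIrrCharacter_ofHom mu⟩ ?_
    have hd : Cfsg.charDegree (fun y => (mu y : ℂ)) = 1 := by simp [Cfsg.charDegree]
    simp only [hset, hd, mul_one]
    rw [← mu.ker.index_mul_card, Nat.mul_div_cancel _ Nat.card_pos, Subgroup.index_ker, hrange]
    exact hp

end Cfsg.Agent.S4797
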