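import Cfsg.Statements.S4798
import Cfsg.Agent.Char.Constituents
import Cfsg.Agent.Char.DegreeRatio
import Cfsg.Agent.BlocksB.ClassSum

set_option autoImplicit false
open Cfsg

namespace Cfsg.Agent.S4798

open CfsgLib CfsgLib.Char

theorem exists_small_constituent {G : Type*} [Group G] [Fintype G] (p : ℕ) [Fact p.Prime]
    (P : Subgroup G) [Fintype P] (hP : IsPGroup p P) (hi : ¬ p ∣ P.index) {χ : G → ℂ}
    (hχ : Cfsg.IsCharacter G χ) {b : ℕ} (h1 : χ 1 = (P.index * p ^ b : ℕ)) :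
    ∃ θ : P → ℂ, Cfsg.IsIrrCharacter P θ ∧ Cfsg.classInner (fun h : P => χ h) θ ≠ 0 ∧
      ∃ c, c ≤ b ∧ θ 1 = (p ^ c : ℕ) := by
  classical
  have hres : Cfsg.IsCharacter P (fun h : P => χ h) := IsCharacter.comp hχ P.subtype
  by_contra! hall
  have hterm : ∀ θ ∈ irrFinset P, ∃ n : ℕ,
      Cfsg.classInner (fun h : P => χ h) θ * θ 1 = ((p ^ (b + 1) * n : ℕ) : ℂ) := by
    intro θ hθ
    obtain ⟨m, hm⟩ := IsCharacter.exists_classInner_eq_natCast hres (mem_irrFinset.1 hθ)
    rcases Nat.eq_zero_or_pos m with rfl | hm0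
    · exact ⟨0, by simp [hm]⟩
    obtain ⟨hd, -⟩ := BlocksB.charDegree_spec (mem_irrFinset.1 hθ)
    obtain ⟨a, ha⟩ := IsPGroup.iff_card.1 hP
    obtain ⟨c, -, hc⟩ := (Nat.dvd_prime_pow (Fact.out : p.Prime)).1
      (ha ▸ BlocksB.charDegree_dvd (mem_irrFinset.1 hθ))
    have hne : Cfsg.classInner (fun h : P => χ h) θ ≠ 0 := by
      rw [hm]; exact_mod_cast hm0.ne'
    have hbc : b < c := by
      by_contra hcb
      exact hall θ (mem_irrFinset.1 hθ) hne c (not_lt.1 hcb) (by rw [hd, hc])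
    refine ⟨m * p ^ (c - (b + 1)), ?_⟩
    rw [hm, hd, hc, ← Nat.cast_mul]
    congr 1
    rw [mul_left_comm, ← pow_add, Nat.add_sub_cancel' (Nat.succ_le_of_lt hbc)]
  choose! n hn using hterm
  have h2 := congrFun (eq_sum_irr (IsCharacter.isClassFunction hres)) 1
  simp only [Finset.sum_apply, Pi.smul_apply, smul_eq_mul, Finset.sum_congr rfl hn,
    ← Nat.cast_sum, OneMemClass.coe_one, h1, Nat.cast_inj, ← Finset.mul_sum, pow_succ] at h2
  refine hi ⟨∑ x ∈ irrFinset P, n x, Nat.eq_of_mul_eq_mul_left (pow_pos (Fact.out : p.Prime).pos b) ?_⟩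
  rw [← mul_assoc, ← h2, mul_comm]

/-- Let p be a prime and χ a faithful irreducible complex character of the finite group G (χ(g) = χ(1) only for g = 1), so that its codegree is #G / χ(1). Then #G / χ(1) is a power of p if and only if χ is induced from a character of a Sylow p-subgroup of G. -/
theorem result {G : Type*} [Group G] [Fintype G] (p : ℕ) [Fact p.Prime] (χ : Cfsg.IrrCharacter G) (hfaith : ∀ g : G, (χ : G → ℂ) g = (χ : G → ℂ) 1 → g = 1) : (∃ k : ℕ, Nat.card G = p ^ k * Cfsg.charDegree (χ : G → ℂ)) ↔ ∃ (P : Sylow p G) (θ : ↥(P : Subgroup G) → ℂ), Cfsg.IsCharacter ↥(P : Subgroup G) θ ∧ (χ : G → ℂ) = Cfsg.indFun (P : Subgroup G) θ := by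
  classical
  constructor
  · rintro ⟨k, hk⟩
    obtain ⟨P⟩ : Nonempty (Sylow p G) := inferInstance
    obtain ⟨a, ha⟩ := IsPGroup.iff_card.1 P.2
    have hp : p.Prime := Fact.out
    have hi : ¬ p ∣ (P : Subgroup G).index := P.not_dvd_index
    obtain ⟨hd, -⟩ := BlocksB.charDegree_spec χ.2
    have hcard : p ^ a * (P : Subgroup G).index = p ^ k * Cfsg.charDegree (χ : G → ℂ) := by
      rw [← ha, Subgroup.card_mul_index, hk]
    have hka : k ≤ a := by
      by_contra hlt
      obtain ⟨d, rfl⟩ := Nat.exists_eq_add_of_le (not_le.1 hlt).le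
      rw [pow_add, mul_assoc] at hcard
      have := Nat.eq_of_mul_eq_mul_left (pow_pos hp.pos a) hcard
      exact hi (this ▸ (dvd_pow_self p (by omega)).mul_right _)
    obtain ⟨b, rfl⟩ := Nat.exists_eq_add_of_le hka
    rw [pow_add, mul_assoc] at hcard
    have hdeg : (χ : G → ℂ) 1 = (((P : Subgroup G).index * p ^ b : ℕ) : ℂ) := by
      rw [hd, ← Nat.eq_of_mul_eq_mul_left (pow_pos hp.pos k) hcard, mul_comm]
    have hχc := IsIrrCharacter.isCharacter χ.2
    obtain ⟨θ, hθ, hne, c, hcb, hθ1⟩ := exists_small_constituent p (P : Subgroup G) P.2 hi hχc hdeg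
    have hθc := IsIrrCharacter.isCharacter hθ
    have hind := IsCharacter.indFun (H := (P : Subgroup G)) hθc
    have hne' : Cfsg.classInner (Cfsg.indFun (P : Subgroup G) θ) (χ : G → ℂ) ≠ 0 := by
      rw [classInner_indFun θ (IsIrrCharacter.isClassFunction χ.2), ← classInner_conj]
      simpa using hne
    refine ⟨P, θ, hθc, (IsCharacter.eq_of_constituent hind χ.2 hne' ?_).symm⟩
    have hle := IsCharacter.re_constituent_le hind χ.2 hne'
    rw [indFun_one, hθ1, hdeg] at hle ⊢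
    rw [← Nat.cast_mul] at hle ⊢
    rw [Complex.natCast_re, Complex.natCast_re, Nat.cast_le] at hle
    exact congrArg _ (le_antisymm (Nat.mul_le_mul_left _ (Nat.pow_le_pow_right hp.pos hcb)) hle)
  · rintro ⟨P, θ, hθ, hχ⟩
    obtain ⟨a, ha⟩ := IsPGroup.iff_card.1 P.2
    obtain ⟨m, hm⟩ := IsCharacter.exists_degree hθ
    have hdeg : Cfsg.charDegree (χ : G → ℂ) = (P : Subgroup G).index * m := by
      rw [Cfsg.charDegree, hχ, indFun_one, hm, ← Nat.cast_mul, Complex.natCast_re,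
        Nat.floor_natCast]
    have hdvd := BlocksB.charDegree_dvd χ.2
    rw [← Subgroup.card_mul_index (P : Subgroup G), hdeg, mul_comm (Nat.card _)] at hdvd
    have hm' : m ∣ p ^ a := ha ▸ Nat.dvd_of_mul_dvd_mul_left
      (Nat.pos_of_ne_zero Subgroup.index_ne_zero_of_finite) hdvd
    obtain ⟨c, hca, rfl⟩ := (Nat.dvd_prime_pow (Fact.out : p.Prime)).1 hm'
    refine ⟨a - c, ?_⟩
    rw [hdeg, mul_comm _ (p ^ c), ← mul_assoc, ← pow_add, Nat.sub_add_cancel hca, ← ha,
      Subgroup.card_mul_index]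

end Cfsg.Agent.S4798
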