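import Cfsg.Statements.S4801
import Cfsg.Agent.Char.ScalarIndex
import Cfsg.Agent.Char.Kernel
import Cfsg.Agent.Char.Orthogonality
import Cfsg.Agent.Blocks.CharExtra

set_option autoImplicit false
open Cfsg

namespace Cfsg.Agent.S4801

/-- The codegree of an irreducible complex character χ of a finite group G is [G : ker χ] / χ(1), where ker χ is the set of elements at which χ takes the value χ(1). Let S be a finite simple group and G a finite group such that every codegree of an irreducible character of S is a codegree of an irreducible character of G. Then the order of S divides the order of G. -/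
theorem result {S : Type*} [Group S] [Finite S] (hS : IsSimpleGroup S) {G : Type*} [Group G] [Finite G] (hsub : ∀ χ : Cfsg.IrrCharacter S, ∃ ψ : Cfsg.IrrCharacter G, (Nat.card S / (Nat.card {g : S // (χ : S → ℂ) g = (χ : S → ℂ) 1} * Cfsg.charDegree (χ : S → ℂ))) = (Nat.card G / (Nat.card {g : G // (ψ : G → ℂ) g = (ψ : G → ℂ) 1} * Cfsg.charDegree (ψ : G → ℂ)))) : Nat.card S ∣ Nat.card G := by
  classical
  have := Fintype.ofFinite S
  have key : ∀ ψ : Cfsg.IrrCharacter G,
      Nat.card {g : G // (ψ : G → ℂ) g = (ψ : G → ℂ) 1} * Cfsg.charDegree (ψ : G → ℂ) ∣ Nat.card G := by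
    intro χ
    obtain ⟨n, ρ, hρ, hχ⟩ := χ.2
    have hd : Cfsg.charDegree (χ : G → ℂ) = Module.finrank ℂ (Fin n → ℂ) := by
      rw [Cfsg.charDegree, ← hχ, ρ.char_one, Complex.natCast_re, Nat.floor_natCast]
    let K := CfsgLib.Char.kerSubgroup (CfsgLib.Char.IsIrrCharacter.isCharacter χ.2)
    have hle : K ≤ CfsgLib.Char.scalarSubgroup ρ := fun g hg A => by
      have h1 : (χ : G → ℂ) g = (χ : G → ℂ) 1 := hg
      rw [← hχ] at h1
      rw [CfsgLib.Char.apply_eq_one_of_character_eq ρ (by rw [h1, ρ.char_one])]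
      exact Commute.one_left A
    rw [← K.card_mul_index, hd]
    exact mul_dvd_mul_left (Nat.card K)
      ((CfsgLib.Char.finrank_dvd_index_scalarSubgroup ρ).trans (Subgroup.index_dvd_of_le hle))
  refine (Nat.dvd_iff_prime_pow_dvd_dvd (Nat.card G) (Nat.card S)).mpr fun r a hr hra => ?_
  rcases Nat.eq_zero_or_pos a with rfl | ha
  · simp
  have hrS : r ∣ Nat.card S := (dvd_pow_self r ha.ne').trans hra
  let hFI := Fintype.ofFinite (Cfsg.IrrCharacter S)
  let one : Cfsg.IrrCharacter S := ⟨fun _ => 1, CfsgLib.Char.isIrrCharacter_one⟩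
  obtain ⟨χ, hχ1, hrd⟩ : ∃ χ : Cfsg.IrrCharacter S, χ ≠ one ∧ ¬ r ∣ Cfsg.charDegree (χ : S → ℂ) := by
    by_contra hno
    push Not at hno
    have hall : ∑ χ : Cfsg.IrrCharacter S, Cfsg.charDegree (χ : S → ℂ) ^ 2 = Nat.card S := by
      apply Nat.cast_injective (R := ℂ)
      rw [Nat.cast_sum, ← CfsgLib.Char.sum_degree_sq,
        Finset.sum_subtype (F := hFI) (CfsgLib.Char.irrFinset S) (fun _ => CfsgLib.Char.mem_irrFinset)]
      exact Finset.sum_congr rfl fun χ _ => by rw [(CfsgLib.Block.Chr.irr_one χ).1, Nat.cast_pow]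
    rw [← Finset.add_sum_erase _ _ (Finset.mem_univ one), show Cfsg.charDegree (one : S → ℂ) = 1 by
      simp [one, Cfsg.charDegree], one_pow] at hall
    have hd2 : r ∣ ∑ χ ∈ Finset.univ.erase one, Cfsg.charDegree (χ : S → ℂ) ^ 2 :=
      Finset.dvd_sum fun χ hχ => dvd_pow (hno χ (Finset.mem_erase.mp hχ).1) two_ne_zero
    exact hr.not_dvd_one ((Nat.dvd_add_left hd2).mp (hall ▸ hrS))
  have hker : Nat.card {g : S // (χ : S → ℂ) g = (χ : S → ℂ) 1} = 1 := by
    let K := CfsgLib.Char.kerSubgroup (CfsgLib.Char.IsIrrCharacter.isCharacter χ.2)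
    have hn : K.Normal := CfsgLib.Char.kerSubgroup_normal _
    rcases hS.eq_bot_or_eq_top_of_normal K hn with hK | hK
    · exact (show Nat.card K = 1 by rw [hK, Subgroup.card_bot])
    · exfalso
      refine hχ1 (Subtype.ext ?_)
      have hconst : ∀ g, (χ : S → ℂ) g = (χ : S → ℂ) 1 := fun g => by
        have : g ∈ K := hK ▸ Subgroup.mem_top g
        exact this
      have h1 := CfsgLib.Char.IsIrrCharacter.classInner_self χ.2
      simp only [Cfsg.classInner, hconst, Finset.sum_const, Finset.card_univ, nsmul_eq_mul, ← Nat.card_eq_fintype_card] at h1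
      rw [← mul_assoc, inv_mul_cancel₀ (Nat.cast_ne_zero.mpr Nat.card_pos.ne'), one_mul,
        (CfsgLib.Block.Chr.irr_one χ).1, Complex.conj_natCast, ← Nat.cast_mul, Nat.cast_eq_one] at h1
      funext g
      rw [hconst, (CfsgLib.Block.Chr.irr_one χ).1, Nat.eq_one_of_mul_eq_one_right h1, Nat.cast_one]
  obtain ⟨ψ, hψ⟩ := hsub χ
  rw [hker, one_mul] at hψ
  have hdS : Cfsg.charDegree (χ : S → ℂ) ∣ Nat.card S :=
    CfsgLib.Char.IsIrrCharacter.degree_dvd_card χ.2 (CfsgLib.Block.Chr.irr_one χ).1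
  have h2 : r ^ a ∣ Nat.card S / Cfsg.charDegree (χ : S → ℂ) := by
    rw [← Nat.mul_div_cancel' hdS] at hra
    exact (Nat.Coprime.pow_left a (hr.coprime_iff_not_dvd.mpr hrd)).dvd_of_dvd_mul_left hra
  exact (hψ ▸ h2).trans (Nat.div_dvd_of_dvd (key ψ))

end Cfsg.Agent.S4801
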