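import Cfsg.Statements.S4802
import Cfsg.Agent.Blocks.Principal

set_option autoImplicit false
open Cfsg

namespace Cfsg.Agent.S4802

/-- Let N < M be normal subgroups of the finite group G and g ∈ M ∖ N. Then the conjugacy class of g is exactly M ∖ N if and only if every irreducible complex character of G whose kernel contains N takes the same value at all elements of M ∖ N, and every irreducible complex character of G whose kernel does not contain N vanishes at g. -/
theorem result {G : Type*} [Group G] [Finite G] (N M : Subgroup G) [N.Normal] [M.Normal] (hNM : N < M) (g : G) (hgM : g ∈ M) (hgN : g ∉ N) : {h : G | IsConj g h} = (M : Set G) \ (N : Set G) ↔ ((∀ χ : Cfsg.IrrCharacter G, (∀ x ∈ N, (χ : G → ℂ) x = (χ : G → ℂ) 1) → ∀ x ∈ M, x ∉ N → ∀ y ∈ M, y ∉ N → (χ : G → ℂ) x = (χ : G → ℂ) y) ∧ (∀ χ : Cfsg.IrrCharacter G, (∃ x ∈ N, (χ : G → ℂ) x ≠ (χ : G → ℂ) 1) → (χ : G → ℂ) g = 0)) := by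
  classical
  have := Fintype.ofFinite G
  let hFI := Fintype.ofFinite (Cfsg.IrrCharacter G)
  constructor
  · intro hcl
    have hconj : ∀ x ∈ M, x ∉ N → IsConj g x := fun x hx hx' => by
      have : x ∈ {h : G | IsConj g h} := by rw [hcl]; exact ⟨hx, hx'⟩
      exact this
    refine ⟨fun χ _ x hx hx' y hy hy' => CfsgLib.Char.IsClassFunction.apply_eq_of_isConj
      (CfsgLib.Char.IsIrrCharacter.isClassFunction χ.2) ((hconj x hx hx').symm.trans (hconj y hy hy')), fun χ hχ => ?_⟩
    obtain ⟨x, hx, hxne⟩ := hχ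
    have hN := (CfsgLib.Block.sum_eq_zero_or_ker χ N).resolve_right fun h => hxne (h x hx)
    have hM := (CfsgLib.Block.sum_eq_zero_or_ker χ M).resolve_right fun h => hxne (h x (hNM.le hx))
    have hsub : Finset.univ.filter (· ∈ N) ⊆ Finset.univ.filter (· ∈ M) :=
      fun z hz => Finset.mem_filter.mpr ⟨Finset.mem_univ _, hNM.le (Finset.mem_filter.mp hz).2⟩
    rw [← Finset.sum_sdiff hsub, hN, add_zero, Finset.sum_congr rfl (g := fun _ => (χ : G → ℂ) g) fun z hz => by
      obtain ⟨h1, h2⟩ := Finset.mem_sdiff.mp hz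
      exact (CfsgLib.Char.IsClassFunction.apply_eq_of_isConj (CfsgLib.Char.IsIrrCharacter.isClassFunction χ.2)
        (hconj z (Finset.mem_filter.mp h1).2 fun hn => h2 (Finset.mem_filter.mpr ⟨Finset.mem_univ _, hn⟩))).symm,
      Finset.sum_const, nsmul_eq_mul, mul_eq_zero] at hM
    refine hM.resolve_left (Nat.cast_ne_zero.mpr (Finset.card_ne_zero.mpr ⟨g, ?_⟩))
    simp [hgM, hgN]
  · rintro ⟨hA, hB⟩
    refine Set.ext fun y => ⟨fun hy => ?_, fun ⟨hyM, hyN⟩ => ?_⟩
    · obtain ⟨c, rfl⟩ := isConj_iff.mp hy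
      refine ⟨‹M.Normal›.conj_mem g hgM c, fun hn => hgN ?_⟩
      have := ‹N.Normal›.conj_mem _ hn c⁻¹
      simpa [mul_assoc] using this
    · show IsConj g y
      by_contra hno
      have h0 := CfsgLib.Char.sum_irr_mul_conj g y
      rw [if_neg hno, Finset.sum_subtype (F := hFI) (CfsgLib.Char.irrFinset G) (fun _ => CfsgLib.Char.mem_irrFinset)] at h0
      have hterm : ∀ χ : Cfsg.IrrCharacter G, (χ : G → ℂ) g * (starRingEnd ℂ) ((χ : G → ℂ) y) =
          ((Complex.normSq ((χ : G → ℂ) g) : ℝ) : ℂ) := fun χ => by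
        by_cases hk : ∀ x ∈ N, (χ : G → ℂ) x = (χ : G → ℂ) 1
        · rw [hA χ hk y hyM hyN g hgM hgN, Complex.mul_conj]
        · push Not at hk
          simp [hB χ hk]
      simp only [hterm, ← Complex.ofReal_sum, Complex.ofReal_eq_zero] at h0
      have h1 := (Finset.sum_eq_zero_iff_of_nonneg fun χ _ => Complex.normSq_nonneg _).mp h0
        (CfsgLib.Block.oneIrr G) (Finset.mem_univ _)
      simp at h1

end Cfsg.Agent.S4802
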