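import Cfsg.Statements.S4805
import Cfsg.Agent.OneNonvanishing.CharPart
import Cfsg.Agent.OneNonvanishing.Main

set_option autoImplicit false
open Cfsg

namespace Cfsg.Agent.S4805

/-- Let G be a finite group, g an element outside the centre of G, and χ an irreducible complex character of degree greater than one with χ(g) ≠ 0 such that every other irreducible character of degree greater than one vanishes at g. Then g lies in the derived subgroup G′ and χ(g) = −[G : G′]/χ(1); G′ is the union of the kernel of χ (the elements where χ takes the value χ(1)) and the conjugacy class of g, and χ vanishes outside G′; every irreducible character of degree greater than one whose kernel contains that of χ equals χ; and G is solvable. -/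
theorem result {G : Type*} [Group G] [Finite G] (g : G) (hg : g ∉ Subgroup.center G) (χ : Cfsg.IrrCharacter G) (hχ1 : Cfsg.charDegree (χ : G → ℂ) ≠ 1) (hχg : (χ : G → ℂ) g ≠ 0) (hother : ∀ ψ : Cfsg.IrrCharacter G, Cfsg.charDegree (ψ : G → ℂ) ≠ 1 → ψ ≠ χ → (ψ : G → ℂ) g = 0) : g ∈ commutator G ∧ (χ : G → ℂ) g = -(((commutator G).index : ℂ) / (χ : G → ℂ) 1) ∧ ((commutator G : Set G) = {x : G | (χ : G → ℂ) x = (χ : G → ℂ) 1} ∪ {h : G | IsConj g h}) ∧ (∀ x : G, x ∉ commutator G → (χ : G → ℂ) x = 0) ∧ (∀ ψ : Cfsg.IrrCharacter G, Cfsg.charDegree (ψ : G → ℂ) ≠ 1 → (∀ x : G, (χ : G → ℂ) x = (χ : G → ℂ) 1 → (ψ : G → ℂ) x = (ψ : G → ℂ) 1) → ψ = χ) ∧ Group.IsSolvable G := by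
  classical
  have hg1 : g ≠ 1 := fun h => hg (h ▸ one_mem _)
  have hn : CfsgLib.Char.cdeg (χ : G → ℂ) ≠ 1 := hχ1
  have hoth : ∀ ψ, Cfsg.IsIrrCharacter G ψ → CfsgLib.Char.cdeg ψ ≠ 1 → ψ ≠ (χ : G → ℂ) → ψ g = 0 :=
    fun ψ hψ h1 h2 => hother ⟨ψ, hψ⟩ h1 fun he => h2 (congrArg Subtype.val he)
  have hD := CfsgLib.OneNonvanishing.mem_commutator χ.2 hn hoth hχg
  have hker := CfsgLib.OneNonvanishing.mem_kernel_iff χ.2 hn hoth hχg hg1
  refine ⟨hD, CfsgLib.OneNonvanishing.apply_g χ.2 hn hoth hχg hg1, ?_,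
    fun x hx => CfsgLib.OneNonvanishing.apply_eq_zero χ.2 hn hoth hχg hx,
    fun ψ h1 h2 => Subtype.ext
      (CfsgLib.OneNonvanishing.unique_over_kernel χ.2 hn hoth hχg hg1 ψ.2 h1 h2), ?_⟩
  · ext x
    constructor
    · intro hx
      by_cases hc : IsConj g x
      · exact Or.inr hc
      · exact Or.inl ((hker x).2 ⟨hx, hc⟩)
    · rintro (hx | hx)
      · exact ((hker x).1 hx).1
      · obtain ⟨y, rfl⟩ := isConj_iff.1 hx
        exact (Subgroup.commutator_normal ⊤ ⊤).conj_mem g hD y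
  · obtain ⟨K, hK⟩ : ∃ K : Subgroup G, K = CfsgLib.Char.kerSubgroup
        (CfsgLib.Char.IsIrrCharacter.isCharacter χ.2) := ⟨_, rfl⟩
    haveI : K.Normal := hK ▸ CfsgLib.Char.kerSubgroup_normal _
    have hmem : ∀ x, x ∈ K ↔ (χ : G → ℂ) x = (χ : G → ℂ) 1 := fun x => by
      rw [hK, CfsgLib.Char.mem_kerSubgroup]
    refine CfsgLib.OneNonvanishing.Config.isSolvable (g := g) (K := K)
      ⟨fun x hx => ((hker x).1 ((hmem x).1 hx)).1, hD,
        fun hx => ((hker g).1 ((hmem g).1 hx)).2 (IsConj.refl g),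
        fun x hx hxK => by_contra fun hc => hxK ((hmem x).2 ((hker x).2 ⟨hx, hc⟩)),
        fun z hz => CfsgLib.OneNonvanishing.central_mod_kernel χ.2 hn hoth hχg fun y => ?_,
        (CfsgLib.OneNonvanishing.card_facts χ.2 hn hoth hχg hg1 K hmem).1⟩
    exact (hmem _).1 (hz y)

end Cfsg.Agent.S4805
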