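import Cfsg.Statements.S4807
import Cfsg.Agent.PPrimeCount.Main

set_option autoImplicit false
open Cfsg

namespace CfsgLib.PPrimeCount

universe u

variable {G : Type u} [Group G] [Fintype G]

open scoped Classical in
/-- The condition of lying over `ν`, written as a sum. -/
theorem finsum_ne_zero_iff {L H : Subgroup G} [Fintype ↥L] (hLH : L ≤ H) (χ : ↥H → ℂ) (ν : ↥L → ℂ) :
    (∑ᶠ l : ↥L, χ (Subgroup.inclusion hLH l) * (starRingEnd ℂ) (ν l)) ≠ 0 ↔
      classInner (res L χ) ν ≠ 0 := by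
  rw [finsum_eq_sum_of_fintype]
  have h : ∑ l : ↥L, χ (Subgroup.inclusion hLH l) * (starRingEnd ℂ) (ν l) =
      (Nat.card ↥L : ℂ) * classInner (res L χ) ν := by
    rw [← CfsgLib.Char.sum_eq_card_mul_classInner, res_eq hLH]
    rfl
  rw [h, mul_ne_zero_iff]
  exact ⟨fun h => h.2, fun h => ⟨Nat.cast_ne_zero.mpr Nat.card_pos.ne', h⟩⟩

/-- Irreducible characters of the whole group seen on its top subgroup. -/
noncomputable def topEquiv : IrrCharacter G ≃ IrrCharacter ↥(⊤ : Subgroup G) where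
  toFun χ := ⟨fun x => (χ : G → ℂ) (x : G),
    CfsgLib.Char.IsIrrCharacter.comp_surjective χ.2 ((Subgroup.topEquiv (G := G)).toMonoidHom) ((Subgroup.topEquiv (G := G)).surjective)⟩
  invFun ψ := ⟨fun g => (ψ : ↥(⊤ : Subgroup G) → ℂ) ⟨g, Subgroup.mem_top g⟩,
    CfsgLib.Char.IsIrrCharacter.comp_surjective ψ.2 ((Subgroup.topEquiv (G := G)).symm.toMonoidHom)
      ((Subgroup.topEquiv (G := G)).symm.surjective)⟩
  left_inv _ := rfl
  right_inv _ := rfl

end CfsgLib.PPrimeCount

namespace Cfsg.Agent.S4807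

open CfsgLib.PPrimeCount

/-- Let p be a prime and G a finite p-solvable group, L a normal subgroup of G, S a Sylow p-subgroup of G and P the subgroup generated by L and S (so P/L is a Sylow p-subgroup of G/L), and let ν be an irreducible complex character of L that is invariant under conjugation by every element of P. Let N be the normalizer of P in G (it contains L). Then the number of irreducible characters of G of degree prime to p lying over ν (restriction to L not orthogonal to ν) equals the number of irreducible characters of N of degree prime to p lying over ν. -/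
theorem result {G : Type*} [Group G] [Finite G] (p : ℕ) [Fact p.Prime] (hG : Cfsg.IsPSolvable p G) (L : Subgroup G) [L.Normal] (S : Sylow p G) (P : Subgroup G) (hP : P = L ⊔ (S : Subgroup G)) (hLN : L ≤ (Subgroup.normalizer ((P : Subgroup G) : Set G))) (ν : Cfsg.IrrCharacter ↥L) (hν : ∀ x ∈ P, Cfsg.IsConjCharOf L x (ν : ↥L → ℂ) (ν : ↥L → ℂ)) : Nat.card {χ : Cfsg.IrrCharacter G // ¬ p ∣ Cfsg.charDegree (χ : G → ℂ) ∧ (∑ᶠ l : ↥L, (χ : G → ℂ) (l : G) * (starRingEnd ℂ) ((ν : ↥L → ℂ) l)) ≠ 0} = Nat.card {ψ : Cfsg.IrrCharacter ↥(Subgroup.normalizer ((P : Subgroup G) : Set G)) // ¬ p ∣ Cfsg.charDegree (ψ : ↥(Subgroup.normalizer ((P : Subgroup G) : Set G)) → ℂ) ∧ (∑ᶠ l : ↥L, (ψ : ↥(Subgroup.normalizer ((P : Subgroup G) : Set G)) → ℂ) (Subgroup.inclusion hLN l) * (starRingEnd ℂ) ((ν : ↥L → ℂ) l)) ≠ 0} := by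
  classical
  subst hP
  have := Fintype.ofFinite G
  have hsyl : ¬ p ∣ (S : Subgroup G).relIndex ⊤ := by
    rw [Subgroup.relIndex_top_right]
    exact S.not_dvd_index
  have hmain := pCount_eq_aux hG S.isPGroup' _ L ⊤ rfl le_top le_top hsyl
    (fun h _ l hl => Subgroup.Normal.conj_mem inferInstance l hl h) (ν : ↥L → ℂ) ν.2
    (fun s hs k k' e => hν s (Subgroup.mem_sup_right hs) k k' e)
  rw [top_inf_eq, pCount_def, pCount_def] at hmain
  refine (Nat.card_congr ?_).trans (hmain.trans (Nat.card_congr ?_))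
  · refine CfsgLib.PPrimeCount.topEquiv.subtypeEquiv fun χ => and_congr ?_ ?_
    · rw [show Cfsg.charDegree (χ : G → ℂ) =
        Cfsg.charDegree (CfsgLib.PPrimeCount.topEquiv χ : ↥(⊤ : Subgroup G) → ℂ) from rfl]
    · have hf : (fun l : ↥L => (χ : G → ℂ) (l : G) * (starRingEnd ℂ) ((ν : ↥L → ℂ) l)) =
          fun l : ↥L => (CfsgLib.PPrimeCount.topEquiv χ : ↥(⊤ : Subgroup G) → ℂ)
            (Subgroup.inclusion (le_top : L ≤ ⊤) l) * (starRingEnd ℂ) ((ν : ↥L → ℂ) l) := funext fun _ => rfl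
      rw [hf]
      exact finsum_ne_zero_iff le_top _ _
  · exact Equiv.subtypeEquivRight fun ψ =>
      and_congr Iff.rfl (finsum_ne_zero_iff hLN _ _).symm

end Cfsg.Agent.S4807
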