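import Cfsg.Statements.S4808
import Cfsg.Agent.Char.ScalarIndex
import Cfsg.Agent.Char.Kernel
import Cfsg.Agent.Blocks.Principal
import Cfsg.Agent.Char.Induction

set_option autoImplicit false
open Cfsg

namespace Cfsg.Agent.S4808

/-- The codegree of an irreducible complex character χ of a finite group G is [G : ker χ] / χ(1), where ker χ is the set of elements at which χ takes the value χ(1). A prime divides the order of G if and only if it divides the codegree of some irreducible complex character of G. -/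
theorem result {G : Type*} [Group G] [Finite G] (p : ℕ) (hp : p.Prime) : p ∣ Nat.card G ↔ ∃ χ : Cfsg.IrrCharacter G, p ∣ (Nat.card G / (Nat.card {g : G // (χ : G → ℂ) g = (χ : G → ℂ) 1} * Cfsg.charDegree (χ : G → ℂ))) := by
  classical
  have := Fintype.ofFinite G
  have key : ∀ χ : Cfsg.IrrCharacter G,
      Nat.card {g : G // (χ : G → ℂ) g = (χ : G → ℂ) 1} * Cfsg.charDegree (χ : G → ℂ) ∣ Nat.card G := by
    intro χ
    obtain ⟨n, ρ, hρ, hχ⟩ := χ.2
    have hd : Cfsg.charDegree (χ : G → ℂ) = Module.finrank ℂ (Fin n → ℂ) := by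
      rw [Cfsg.charDegree, ← hχ, ρ.char_one, Complex.natCast_re, Nat.floor_natCast]
    let K := CfsgLib.Char.kerSubgroup (CfsgLib.Char.IsIrrCharacter.isCharacter χ.2)
    have hle : K ≤ CfsgLib.Char.scalarSubgroup ρ := fun g hg A => by
      have h1 : (χ : G → ℂ) g = (χ : G → ℂ) 1 := hg
      rw [← hχ] at h1
      rw [CfsgLib.Char.apply_eq_one_of_character_eq ρ (by rw [h1, ρ.char_one])]
      exact Commute.one_left A
    have h2 := (CfsgLib.Char.finrank_dvd_index_scalarSubgroup ρ).trans (Subgroup.index_dvd_of_le hle)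
    rw [← K.card_mul_index, hd]
    exact mul_dvd_mul_left (Nat.card K) h2
  constructor
  · intro hpG
    by_contra hno
    push Not at hno
    obtain ⟨P⟩ : Nonempty (Sylow p G) := inferInstance
    have := Fact.mk hp
    set R := Subgroup.normalClosure ((P : Subgroup G) : Set G)
    have hPR : (P : Subgroup G) ≤ R := Subgroup.subset_normalClosure
    have hidx : ¬ p ∣ R.index := fun h => P.not_dvd_index (h.trans (Subgroup.index_dvd_of_le hPR))
    let hFI := Fintype.ofFinite (Cfsg.IrrCharacter G)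
    have hsq : ∀ T : Finset (Cfsg.IrrCharacter G),
        ∑ χ ∈ T, (χ : G → ℂ) 1 ^ 2 = ((∑ χ ∈ T, Cfsg.charDegree (χ : G → ℂ) ^ 2 : ℕ) : ℂ) := fun T => by
      rw [Nat.cast_sum]
      exact Finset.sum_congr rfl fun χ _ => by rw [(CfsgLib.Block.Chr.irr_one χ).1, Nat.cast_pow]
    have hall : ∑ χ : Cfsg.IrrCharacter G, Cfsg.charDegree (χ : G → ℂ) ^ 2 = Nat.card G := by
      apply Nat.cast_injective (R := ℂ)
      rw [← hsq, ← CfsgLib.Char.sum_degree_sq]
      exact (Finset.sum_subtype (F := hFI) (CfsgLib.Char.irrFinset G) (fun _ => CfsgLib.Char.mem_irrFinset)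
        (fun χ => χ 1 ^ 2)).symm
    set T := Finset.univ.filter fun χ : Cfsg.IrrCharacter G => ∀ n ∈ R, (χ : G → ℂ) n = (χ : G → ℂ) 1
    have hker : ∑ χ ∈ T, Cfsg.charDegree (χ : G → ℂ) ^ 2 = R.index := by
      have h1 := CfsgLib.Block.blockCoeff_normal R (1 : G)
      rw [if_pos R.one_mem, CfsgLib.Block.blockCoeff_eq_sum,
        inv_mul_eq_iff_eq_mul₀ (Nat.cast_ne_zero.mpr Nat.card_pos.ne'), ← div_eq_mul_inv,
        CfsgLib.Char.card_div_card_subgroup] at h1
      apply Nat.cast_injective (R := ℂ)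
      rw [← h1, ← hsq]
      refine Finset.sum_congr (by ext χ; simp [T]) fun χ _ => ?_
      rw [(CfsgLib.Block.Chr.irr_one χ).1, Complex.conj_natCast, sq]
    have hdvd : ∀ χ ∈ Finset.univ \ T, p ∣ Cfsg.charDegree (χ : G → ℂ) ^ 2 := by
      intro χ hχ
      refine dvd_pow ?_ two_ne_zero
      by_contra hpd
      refine (Finset.mem_sdiff.mp hχ).2 (Finset.mem_filter.mpr ⟨Finset.mem_univ _, ?_⟩)
      let K := CfsgLib.Char.kerSubgroup (CfsgLib.Char.IsIrrCharacter.isCharacter χ.2)
      have : K.Normal := CfsgLib.Char.kerSubgroup_normal _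
      have hc := hno χ
      have hk := key χ
      obtain ⟨e, he⟩ := hk
      have hpos : 0 < Nat.card {g : G // (χ : G → ℂ) g = (χ : G → ℂ) 1} * Cfsg.charDegree (χ : G → ℂ) :=
        Nat.pos_of_ne_zero fun h0 => by rw [h0, zero_mul] at he; exact Nat.card_pos.ne' he
      rw [he, Nat.mul_div_cancel_left _ hpos] at hc
      have hKidx : ¬ p ∣ K.index := by
        have : K.index = Cfsg.charDegree (χ : G → ℂ) * e := by
          apply Nat.eq_of_mul_eq_mul_left (Nat.card_pos (α := K))
          rw [K.card_mul_index, he, mul_assoc]; rfl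
        rw [this, hp.dvd_mul]; tauto
      have hPK : (P : Subgroup G) ≤ K := fun x hx => by
        rw [← QuotientGroup.eq_one_iff]
        obtain ⟨j, hj⟩ := P.isPGroup' ⟨x, hx⟩
        have h1 : (x : G ⧸ K) ^ p ^ j = 1 := by
          rw [← QuotientGroup.mk_pow, show x ^ p ^ j = 1 from congrArg Subtype.val hj, QuotientGroup.mk_one]
        exact orderOf_eq_one_iff.mp (Nat.eq_one_of_dvd_coprimes
          (Nat.Coprime.pow_left j (hp.coprime_iff_not_dvd.mpr hKidx)) (orderOf_dvd_of_pow_eq_one h1)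
          (orderOf_dvd_natCard _))
      exact fun n hn => Subgroup.normalClosure_le_normal hPK hn
    have hsplit := Finset.sum_sdiff (Finset.subset_univ T) (f := fun χ : Cfsg.IrrCharacter G => Cfsg.charDegree (χ : G → ℂ) ^ 2)
    rw [hall, hker] at hsplit
    exact hidx ((Nat.dvd_add_right (Finset.dvd_sum hdvd)).mp (hsplit ▸ hpG))
  · rintro ⟨χ, h⟩
    exact h.trans (Nat.div_dvd_of_dvd (key χ))

end Cfsg.Agent.S4808
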