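import Cfsg.Statements.S4811
import Cfsg.Agent.Char.PrimeDegrees

set_option autoImplicit false
open Cfsg

namespace Cfsg.Agent.S4811

/-- For every finite solvable group G the character degree graph of G (vertices: the primes dividing some irreducible complex character degree; edges: distinct primes whose product divides some degree) has at most two connected components. -/
theorem result {G : Type*} [Group G] [Finite G] [Group.IsSolvable G] : Nat.card ((Cfsg.degreeGraph G).induce (Cfsg.degreePrimes G)).ConnectedComponent ≤ 2 := by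
  classical
  haveI := Fintype.ofFinite G
  by_cases hG : commutator G = ⊥
  · haveI : IsEmpty ↥(Cfsg.degreePrimes G) := ⟨fun ⟨p, hp, d, hd, hpd⟩ => by
      obtain ⟨χ, hχ, hχd⟩ := CfsgLib.Char.PrimeDeg.mem_charDegrees.1 hd
      have h1 := CfsgLib.Char.abelian_iff_degree_one.1 (fun a b => by
        rw [← commutatorElement_eq_one_iff_mul_comm, ← Subgroup.mem_bot, ← hG]
        exact Subgroup.commutator_mem_commutator (Subgroup.mem_top a) (Subgroup.mem_top b)) χ hχ
      rw [hχd, Nat.cast_eq_one] at h1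
      exact hp.ne_one (Nat.dvd_one.1 (h1 ▸ hpd))⟩
    haveI : IsEmpty ((Cfsg.degreeGraph G).induce (Cfsg.degreePrimes G)).ConnectedComponent :=
      ⟨fun c => SimpleGraph.ConnectedComponent.ind (β := fun _ => False) (fun v => isEmptyElim v) c⟩
    rw [Nat.card_of_isEmpty]
    norm_num
  obtain ⟨s, f, hs, hf1, hf, hrel⟩ := CfsgLib.Char.PrimeDeg.exists_two hG
  set Γ := (Cfsg.degreeGraph G).induce (Cfsg.degreePrimes G)
  have hu : f.minFac ∈ Cfsg.degreePrimes G := ⟨Nat.minFac_prime (by omega), f, hf, f.minFac_dvd⟩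
  have hedge : ∀ a b : ↥(Cfsg.degreePrimes G), (a : ℕ) ≠ b → (∃ d ∈ Cfsg.charDegrees G, (a : ℕ) * b ∣ d) →
      Γ.connectedComponentMk a = Γ.connectedComponentMk b := fun a b hne hd =>
    SimpleGraph.ConnectedComponent.eq.2 (SimpleGraph.Adj.reachable
      (show Γ.Adj a b from ⟨hne, a.2.1, b.2.1, hd⟩))
  let g : Fin 2 → Γ.ConnectedComponent := ![Γ.connectedComponentMk ⟨_, hu⟩,
    if h : s ∈ Cfsg.degreePrimes G then Γ.connectedComponentMk ⟨s, h⟩ else Γ.connectedComponentMk ⟨_, hu⟩]
  have hg : Function.Surjective g := fun c => by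
    induction c using SimpleGraph.ConnectedComponent.ind with
    | _ t =>
      obtain ⟨t, ht⟩ := t
      rcases hrel t ht.1 ht.2 with rfl | ⟨d, hd, htd⟩ | htf | ⟨d, hd, htd⟩
      · exact ⟨1, by simp [g, ht]⟩
      · have hsV : s ∈ Cfsg.degreePrimes G := ⟨hs, d, hd, (dvd_mul_left s t).trans htd⟩
        refine ⟨1, ?_⟩
        simp only [g, Matrix.cons_val_one, Matrix.cons_val_fin_one, dif_pos hsV]
        rcases eq_or_ne s t with rfl | hne
        · rfl
        · exact (hedge ⟨t, ht⟩ ⟨s, hsV⟩ (Ne.symm hne) ⟨d, hd, htd⟩).symm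
      · refine ⟨0, ?_⟩
        simp only [g, Matrix.cons_val_zero]
        rcases eq_or_ne f.minFac t with rfl | hne
        · rfl
        · exact hedge ⟨_, hu⟩ ⟨t, ht⟩ hne ⟨f, hf, Nat.Coprime.mul_dvd_of_dvd_of_dvd
            ((Nat.coprime_primes hu.1 ht.1).2 hne) f.minFac_dvd htf⟩
      · refine ⟨0, ?_⟩
        simp only [g, Matrix.cons_val_zero]
        rcases eq_or_ne f.minFac t with rfl | hne
        · rfl
        · exact hedge ⟨_, hu⟩ ⟨t, ht⟩ hne ⟨d, hd, (Nat.mul_dvd_mul_right f.minFac_dvd t).trans htd⟩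
  simpa using Nat.card_le_card_of_surjective g hg

end Cfsg.Agent.S4811
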