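import Cfsg.Statements.S4813
import Cfsg.Agent.Char.PrimeDegrees

set_option autoImplicit false
open Cfsg

namespace Cfsg.Agent.S4813

/-- If every irreducible complex character of the finite group G of degree greater than one has prime degree, then G has at most three distinct irreducible character degrees. -/
theorem result {G : Type*} [Group G] [Finite G] (hprime : ∀ d ∈ Cfsg.charDegrees G, d = 1 ∨ d.Prime) : Nat.card ↥(Cfsg.charDegrees G) ≤ 3 := by
  classical
  haveI := CfsgLib.Char.PrimeDeg.isSolvable_of_prime_degrees hprime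
  haveI := Fintype.ofFinite G
  suffices h : ∃ a b : ℕ, Cfsg.charDegrees G ⊆ {1, a, b} by
    obtain ⟨a, b, h⟩ := h
    rw [Nat.card_coe_set_eq]
    refine (Set.ncard_le_ncard h (Set.toFinite _)).trans ?_
    refine (Set.ncard_insert_le _ _).trans ?_
    have := Set.ncard_insert_le a ({b} : Set ℕ)
    rw [Set.ncard_singleton] at this
    omega
  by_cases hG : commutator G = ⊥
  · refine ⟨1, 1, fun d hd => Or.inl ?_⟩
    obtain ⟨χ, hχ, hχd⟩ := CfsgLib.Char.PrimeDeg.mem_charDegrees.1 hd
    have h1 := CfsgLib.Char.abelian_iff_degree_one.1 (fun a b => by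
      rw [← commutatorElement_eq_one_iff_mul_comm, ← Subgroup.mem_bot, ← hG]
      exact Subgroup.commutator_mem_commutator (Subgroup.mem_top a) (Subgroup.mem_top b)) χ hχ
    rw [hχd, Nat.cast_eq_one] at h1
    exact h1
  obtain ⟨s, f, hs, hf1, hf, hrel⟩ := CfsgLib.Char.PrimeDeg.exists_two hG
  have hfp : f.Prime := (hprime f hf).resolve_left (by omega)
  refine ⟨s, f, fun d hd => ?_⟩
  rcases hprime d hd with rfl | hdp
  · exact Or.inl rfl
  rcases hrel d hdp ⟨d, hd, dvd_rfl⟩ with h | ⟨e, he, hde⟩ | h | ⟨e, he, hde⟩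
  · exact Or.inr (Or.inl h)
  · exfalso
    rcases hprime e he with rfl | hep
    · exact hdp.ne_one (Nat.eq_one_of_mul_eq_one_right (Nat.dvd_one.1 hde))
    · exact Nat.not_prime_mul hdp.ne_one hs.ne_one (by
        rwa [(Nat.dvd_prime hep).1 hde |>.resolve_left (fun h => hdp.ne_one (Nat.eq_one_of_mul_eq_one_right h))])
  · exact Or.inr (Or.inr (Set.mem_singleton_iff.2 ((Nat.prime_dvd_prime_iff_eq hdp hfp).1 h)))
  · exfalso
    rcases hprime e he with rfl | hep
    · exact hfp.ne_one (Nat.eq_one_of_mul_eq_one_right (Nat.dvd_one.1 hde))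
    · exact Nat.not_prime_mul hfp.ne_one hdp.ne_one (by
        rwa [(Nat.dvd_prime hep).1 hde |>.resolve_left (fun h => hfp.ne_one (Nat.eq_one_of_mul_eq_one_right h))])

end Cfsg.Agent.S4813
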