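import Cfsg.Statements.S4814
import Mathlib.Algebra.Order.Chebyshev
import Cfsg.Agent.Char.Commutator

set_option autoImplicit false
open Cfsg

namespace Cfsg.Agent.S4814

/-- Let G be a finite group such that the sum, over the irreducible complex characters χ of G, of 1/χ(1)² is less than 2. Then every element of G is a product of two commutators. -/
theorem result {G : Type*} [Group G] [Finite G]
    (h : ∑ᶠ χ : Cfsg.IrrCharacter G, 1 / ‖(χ : G → ℂ) 1‖ ^ 2 < (2 : ℝ)) (g : G) :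
    ∃ a b c d : G, (a * b * a⁻¹ * b⁻¹) * (c * d * c⁻¹ * d⁻¹) = g := by
  classical
  have := Fintype.ofFinite G
  have hG : (0 : ℝ) < (Nat.card G : ℝ) := Nat.cast_pos.mpr Nat.card_pos
  let N : G → ℕ := fun z => Nat.card {xy : G × G // xy.1 * xy.2 * xy.1⁻¹ * xy.2⁻¹ = z}
  set S : ℝ := ∑ χ ∈ CfsgLib.Char.irrFinset G, 1 / ‖χ 1‖ ^ 2 with hS
  have hS2 : S < 2 := by rwa [CfsgLib.Char.finsum_irr (fun χ => 1 / ‖χ 1‖ ^ 2)] at h
  have hsum : ∑ z, (N z : ℝ) = (Nat.card G : ℝ) ^ 2 := by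
    have : ∑ z, N z = Nat.card G ^ 2 := by
      rw [← Nat.card_sigma, Nat.card_congr (Equiv.sigmaFiberEquiv fun xy : G × G => xy.1 * xy.2 * xy.1⁻¹ * xy.2⁻¹),
        Nat.card_prod, sq]
    exact_mod_cast this
  have hsq : ∑ z, (N z : ℝ) ^ 2 = (Nat.card G : ℝ) ^ 3 * S := by
    apply Complex.ofReal_injective
    let c : (G → ℂ) → ℂ := fun χ => (χ 1)⁻¹
    have hN : ∀ z, (N z : ℂ) = (Nat.card G : ℂ) * (∑ χ ∈ CfsgLib.Char.irrFinset G, c χ • χ) z := fun z => by
      rw [CfsgLib.Char.card_commutator_eq, Finset.sum_apply]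
      exact congrArg _ (Finset.sum_congr rfl fun χ _ => by simp [c, div_eq_inv_mul])
    set φ := ∑ χ ∈ CfsgLib.Char.irrFinset G, c χ • χ
    have hnorm : Cfsg.classInner φ φ = (S : ℂ) := by
      rw [CfsgLib.Char.classInner_eq_sum_irr (CfsgLib.Char.isClassFunction_sum c), hS]
      push_cast
      refine Finset.sum_congr rfl fun χ hχ => ?_
      obtain ⟨n, -, hn⟩ := CfsgLib.Char.IsIrrCharacter.exists_degree (CfsgLib.Char.mem_irrFinset.mp hχ)
      rw [CfsgLib.Char.classInner_sum_smul_irr c (CfsgLib.Char.mem_irrFinset.mp hχ)]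
      simp only [c, hn, map_inv₀, Complex.conj_natCast, Complex.norm_natCast, Complex.ofReal_natCast]
      ring
    rw [Cfsg.classInner, inv_mul_eq_iff_eq_mul₀ (Nat.cast_ne_zero.mpr Nat.card_pos.ne')] at hnorm
    push_cast
    calc ∑ z, (N z : ℂ) ^ 2 = ∑ z, (N z : ℂ) * (starRingEnd ℂ) (N z : ℂ) := by simp [sq]
      _ = (Nat.card G : ℂ) ^ 2 * ∑ z, φ z * (starRingEnd ℂ) (φ z) := by
        rw [Finset.mul_sum]
        refine Finset.sum_congr rfl fun z _ => ?_
        rw [hN z, map_mul, Complex.conj_natCast]; ring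
      _ = (Nat.card G : ℂ) ^ 3 * (S : ℂ) := by rw [hnorm]; ring
  set A := Finset.univ.filter fun z => N z ≠ 0
  have hA : (Nat.card G : ℝ) < 2 * (A.card : ℝ) := by
    have hcs := sq_sum_le_card_mul_sum_sq (s := A) (f := fun z => (N z : ℝ))
    have e1 : ∑ z ∈ A, (N z : ℝ) = ∑ z, (N z : ℝ) :=
      Finset.sum_subset (Finset.subset_univ _) fun z _ hz => by simpa [A] using hz
    have e2 : ∑ z ∈ A, (N z : ℝ) ^ 2 ≤ ∑ z, (N z : ℝ) ^ 2 :=
      Finset.sum_le_univ_sum_of_nonneg fun z => sq_nonneg _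
    rw [e1, hsum] at hcs
    rw [hsq] at e2
    have h3 : (Nat.card G : ℝ) ^ 3 * (Nat.card G : ℝ) ≤ (Nat.card G : ℝ) ^ 3 * (A.card * S) := by
      calc (Nat.card G : ℝ) ^ 3 * (Nat.card G : ℝ) = ((Nat.card G : ℝ) ^ 2) ^ 2 := by ring
        _ ≤ (A.card : ℝ) * ∑ z ∈ A, (N z : ℝ) ^ 2 := hcs
        _ ≤ (A.card : ℝ) * ((Nat.card G : ℝ) ^ 3 * S) := by gcongr
        _ = (Nat.card G : ℝ) ^ 3 * (A.card * S) := by ring
    have h4 := le_of_mul_le_mul_left h3 (pow_pos hG 3)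
    have hA0 : (0 : ℝ) < A.card := by
      rcases (Nat.cast_nonneg A.card : (0 : ℝ) ≤ A.card).lt_or_eq with h0 | h0
      · exact h0
      · rw [← h0, zero_mul] at h4; linarith
    nlinarith
  set B := A.image fun b => g * b⁻¹
  have hB : B.card = A.card := Finset.card_image_of_injective _ fun a b e => by simpa using e
  obtain ⟨a, ha⟩ : (A ∩ B).Nonempty := by
    rw [Finset.nonempty_iff_ne_empty]
    intro he
    have h1 := Finset.card_union_add_card_inter A B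
    have h2 := Finset.card_le_univ (A ∪ B)
    rw [he, Finset.card_empty, hB] at h1
    rw [← Nat.card_eq_fintype_card] at h2
    have : (2 * A.card : ℕ) ≤ Nat.card G := by omega
    have : (2 : ℝ) * A.card ≤ Nat.card G := by exact_mod_cast this
    linarith
  obtain ⟨haA, haB⟩ := Finset.mem_inter.mp ha
  obtain ⟨b, hbA, hab⟩ := Finset.mem_image.mp haB
  have hex : ∀ z ∈ A, ∃ x y : G, x * y * x⁻¹ * y⁻¹ = z := fun z hz => by
    obtain ⟨⟨⟨x, y⟩, hxy⟩⟩ := (Nat.card_ne_zero.mp (Finset.mem_filter.mp hz).2).1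
    exact ⟨x, y, hxy⟩
  obtain ⟨x, y, hxy⟩ := hex a haA
  obtain ⟨u, v, huv⟩ := hex b hbA
  exact ⟨x, y, u, v, by rw [hxy, huv, ← hab]; group⟩

end Cfsg.Agent.S4814
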