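import Cfsg.Statements.S4825
import Cfsg.Agent.Blocks.Principal
import Cfsg.Agent.Blocks.Congr
import Cfsg.Agent.Char.DegreeRatio
import Cfsg.Agent.BlocksB.ClassSum

set_option autoImplicit false
open Cfsg

namespace Cfsg.Agent.S4825

/-- Let p be a prime, G a finite group with Sylow p-subgroup P, M a maximal ideal of the algebraic integers containing p, and B a p-block of G with defect group P. Let N be a normal subgroup of G not containing P and θ an irreducible character of N. Then the number of irreducible characters in B of degree prime to p lying over θ (having θ as a constituent on restriction to N) is either 0 or at least 2, and when p ≤ 3 it is divisible by p. -/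
theorem result {G : Type*} [Group G] [Fintype G] (p : ℕ) [Fact p.Prime] (P : Sylow p G) (M : Ideal Cfsg.AlgInt) (hM : Cfsg.IsPModular p M) (B : Set (Cfsg.IrrCharacter G)) (hB : Cfsg.IsPBlock M B) (hBP : Cfsg.IsDefectGroup p M B P) (N : Subgroup G) [N.Normal] [Fintype N] (hPN : ¬ (P : Subgroup G) ≤ N) (θ : Cfsg.IrrCharacter N) :
    (Nat.card {χ : Cfsg.IrrCharacter G // χ ∈ B ∧ ¬ p ∣ Cfsg.charDegree (χ : G → ℂ) ∧ Cfsg.classInner (fun n : N => (χ : G → ℂ) n) (θ : N → ℂ) ≠ 0} = 0 ∨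
      2 ≤ Nat.card {χ : Cfsg.IrrCharacter G // χ ∈ B ∧ ¬ p ∣ Cfsg.charDegree (χ : G → ℂ) ∧ Cfsg.classInner (fun n : N => (χ : G → ℂ) n) (θ : N → ℂ) ≠ 0}) ∧
    (p ≤ 3 → p ∣ Nat.card {χ : Cfsg.IrrCharacter G // χ ∈ B ∧ ¬ p ∣ Cfsg.charDegree (χ : G → ℂ) ∧ Cfsg.classInner (fun n : N => (χ : G → ℂ) n) (θ : N → ℂ) ≠ 0}) := by
  classical
  have hp : p.Prime := Fact.out
  letI := CfsgLib.Block.Chr.irrFintype (G := G)
  haveI := hM.2.1.isPrime
  obtain ⟨u, huP, huN⟩ := SetLike.not_le_iff_exists.1 hPN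
  obtain ⟨k, hk⟩ := IsPGroup.iff_orderOf.1 P.2 ⟨u, huP⟩
  rw [Subgroup.orderOf_mk] at hk
  have hu : Cfsg.IsPPart p u u :=
    ⟨1, mul_one u, Commute.one_right u, ⟨k, hk⟩, by rw [orderOf_one]; exact hp.not_dvd_one⟩
  -- the block part of the induced character vanishes at `u`
  have hzero : Cfsg.blockPart B (Cfsg.indFun N (θ : N → ℂ)) u = 0 := by
    rw [CfsgLib.Block.blockPart_eq_sum, Finset.sum_eq_zero, mul_zero]
    intro w _
    obtain ⟨a, b, hab, hc, _, _, _, hb, ha, haz, _⟩ := CfsgLib.Block.exists_pPart hM.1 w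
    have hw : Cfsg.IsPPart p w a := ⟨b, hab, hc, ha, hb⟩
    by_cases hua : IsConj u a
    · rw [CfsgLib.Char.indFun_eq_zero_of_normal _ (fun hwN => huN ?_), zero_mul]
      obtain ⟨c, hc'⟩ := isConj_iff.1 hua
      have haN : a ∈ N := Subgroup.zpowers_le.2 hwN haz
      have : u = c⁻¹ * a * (c⁻¹)⁻¹ := by rw [← hc']; group
      rw [this]
      exact (inferInstance : N.Normal).conj_mem _ haN _
    · rw [CfsgLib.Block.block_orth hM (CfsgLib.Block.isIntClass_blockCoeff hB) hu hw hua, mul_zero]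
  -- multiplicities
  have hmul : ∀ χ : Cfsg.IrrCharacter G, ∃ m : ℕ,
      Cfsg.classInner (fun n : N => (χ : G → ℂ) n) (θ : N → ℂ) = m := fun χ =>
    CfsgLib.Char.IsCharacter.exists_classInner_eq_natCast
      (CfsgLib.Char.IsCharacter.restrict (CfsgLib.Char.IsIrrCharacter.isCharacter χ.2) N) θ.2
  choose m hm using hmul
  obtain ⟨c, hcdef⟩ : ∃ c, c = (CfsgLib.Char.inertia (θ : N → ℂ)).index *
      Cfsg.charDegree (θ : N → ℂ) := ⟨_, rfl⟩
  have hdeg : ∀ χ : Cfsg.IrrCharacter G, m χ ≠ 0 → Cfsg.charDegree (χ : G → ℂ) = m χ * c := by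
    intro χ hχ
    have h := CfsgLib.Char.degree_eq_mul χ.2 θ.2 (by rw [hm χ]; exact_mod_cast hχ)
    rw [(CfsgLib.BlocksB.charDegree_spec χ.2).1, (CfsgLib.BlocksB.charDegree_spec θ.2).1, hm χ,
      ← Nat.cast_mul, ← Nat.cast_mul, Nat.cast_inj, mul_assoc, ← hcdef] at h
    exact h
  obtain ⟨T, hT⟩ : ∃ T : Finset (Cfsg.IrrCharacter G), T = Finset.univ.filter fun χ =>
      χ ∈ B ∧ ¬ p ∣ Cfsg.charDegree (χ : G → ℂ) ∧
        Cfsg.classInner (fun n : N => (χ : G → ℂ) n) (θ : N → ℂ) ≠ 0 := ⟨_, rfl⟩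
  have hcard : Nat.card {χ : Cfsg.IrrCharacter G // χ ∈ B ∧ ¬ p ∣ Cfsg.charDegree (χ : G → ℂ) ∧
      Cfsg.classInner (fun n : N => (χ : G → ℂ) n) (θ : N → ℂ) ≠ 0} = T.card := by
    rw [Nat.card_eq_fintype_card, Fintype.card_subtype, hT]
  rw [hcard]
  rcases T.eq_empty_or_nonempty with hT0 | ⟨χ₀, hχ₀⟩
  · simp [hT0]
  -- the key congruence
  have hmem : ∀ χ ∈ T, χ ∈ B ∧ m χ ≠ 0 ∧ ¬ p ∣ Cfsg.charDegree (χ : G → ℂ) := fun χ hχ => by
    rw [hT, Finset.mem_filter] at hχ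
    exact ⟨hχ.2.1, fun h => hχ.2.2.2 (by rw [hm χ, h, Nat.cast_zero]), hχ.2.2.1⟩
  have hc0 : ¬ p ∣ c := fun h =>
    (hmem χ₀ hχ₀).2.2 (hdeg χ₀ (hmem χ₀ hχ₀).2.1 ▸ h.mul_left _)
  have hsum : p ∣ ∑ χ ∈ Finset.univ.filter (· ∈ B), m χ * Cfsg.charDegree (χ : G → ℂ) := by
    rw [← CfsgLib.Block.memLocalIdeal_natCast_iff hM, Nat.cast_sum]
    rw [CfsgLib.Block.blockPart_eq_sum_inner] at hzero
    have hterm : ∀ χ : Cfsg.IrrCharacter G,
        Cfsg.classInner (Cfsg.indFun N (θ : N → ℂ)) (χ : G → ℂ) = (m χ : ℂ) := fun χ => by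
      rw [CfsgLib.Char.classInner_indFun _ (CfsgLib.Char.IsIrrCharacter.isClassFunction χ.2),
        ← CfsgLib.Char.classInner_conj, hm χ, Complex.conj_natCast]
    simp only [hterm] at hzero
    rw [← sub_zero (∑ x ∈ Finset.univ.filter (· ∈ B),
      ((m x * Cfsg.charDegree (x : G → ℂ) : ℕ) : ℂ)), ← hzero, ← Finset.sum_sub_distrib]
    refine CfsgLib.Block.memLocalIdeal_sum fun χ _ => ?_
    rw [Nat.cast_mul, ← mul_sub]
    refine CfsgLib.Block.memLocalIdeal_mul_left (CfsgLib.Block.natCast_mem_localRing _) ?_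
    rw [← (CfsgLib.BlocksB.charDegree_spec χ.2).1]
    refine CfsgLib.Block.memLocalIdeal_sub_comm ?_
    have := CfsgLib.Block.char_cong_pPart hM (CfsgLib.Char.IsIrrCharacter.isCharacter χ.2)
      (Commute.one_right u) (n := k) (hk ▸ pow_orderOf_eq_one u) hp.not_dvd_one (one_pow 1)
    simpa using this
  have hfin : ((∑ χ ∈ T, m χ ^ 2 : ℕ) : ZMod p) = 0 := by
    rw [← ZMod.natCast_eq_zero_iff, Nat.cast_sum] at hsum
    have h2 : ∑ χ ∈ Finset.univ.filter (· ∈ B), ((m χ * Cfsg.charDegree (χ : G → ℂ) : ℕ) : ZMod p)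
        = (c : ZMod p) * ∑ χ ∈ T, ((m χ ^ 2 : ℕ) : ZMod p) := by
      rw [Finset.mul_sum]
      refine (Finset.sum_subset ?_ ?_).symm.trans (Finset.sum_congr rfl fun χ hχ => ?_)
      · exact fun χ hχ => by simpa using (hmem χ hχ).1
      · intro χ hχ hnT
        rcases Nat.eq_zero_or_pos (m χ) with h0 | h0
        · simp [h0]
        · have hpd : p ∣ Cfsg.charDegree (χ : G → ℂ) := by
            by_contra h
            refine hnT ?_
            rw [hT, Finset.mem_filter]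
            exact ⟨Finset.mem_univ χ, (Finset.mem_filter.1 hχ).2, h,
              by rw [hm χ]; exact_mod_cast h0.ne'⟩
          rw [ZMod.natCast_eq_zero_iff]
          exact hpd.mul_left _
      · rw [hdeg χ (hmem χ hχ).2.1]
        push_cast
        ring
    rw [h2, mul_eq_zero, ZMod.natCast_eq_zero_iff, or_iff_right hc0] at hsum
    rw [Nat.cast_sum]
    exact hsum
  have hprime : ∀ χ ∈ T, ¬ p ∣ m χ := fun χ hχ h =>
    (hmem χ hχ).2.2 (hdeg χ (hmem χ hχ).2.1 ▸ h.mul_right c)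
  refine ⟨Or.inr ?_, fun hp3 => ?_⟩
  · by_contra h
    have h1 : T.card = 1 := by have := Finset.card_pos.2 ⟨χ₀, hχ₀⟩; omega
    obtain ⟨χ, rfl⟩ := Finset.card_eq_one.1 h1
    rw [Finset.sum_singleton, ZMod.natCast_eq_zero_iff] at hfin
    exact hprime χ (Finset.mem_singleton_self χ) (hp.dvd_of_dvd_pow hfin)
  · have h1 : ∀ χ ∈ T, ((m χ ^ 2 : ℕ) : ZMod p) = 1 := by
      intro χ hχ
      have hne : (m χ : ZMod p) ≠ 0 := by
        rw [Ne, ZMod.natCast_eq_zero_iff]; exact hprime χ hχ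
      have h2 := ZMod.pow_card_sub_one_eq_one hne
      rw [Nat.cast_pow]
      interval_cases p
      · exact absurd hp Nat.not_prime_zero
      · exact absurd hp Nat.not_prime_one
      · simp only [Nat.add_one_sub_one, pow_one] at h2
        rw [h2, one_pow]
      · exact h2
    rw [Nat.cast_sum, Finset.sum_congr rfl h1, Finset.sum_const, nsmul_eq_mul, mul_one,
      ZMod.natCast_eq_zero_iff] at hfin
    exact hfin

end Cfsg.Agent.S4825
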