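import Cfsg.Statements.S4828
import Cfsg.Agent.BrauerPairs.MaxCriterion
import Cfsg.Agent.Blocks.CentralDefect
-- import your own Cfsg.Agent.* helpers here

set_option autoImplicit false
open Cfsg

namespace Cfsg.Agent.S4828

/-- Let p be a prime, M a maximal ideal of the algebraic integers containing p, and (Q, e) a Brauer pair of the finite group G (Q a p-subgroup, e a block of C_G(Q)). Then (Q, e) is a maximal Brauer pair of some block of G if and only if e contains an irreducible character θ such that θ takes the value θ(1) at every element of Z(Q) = Q ∩ C_G(Q), the p-part of θ(1) times the p-part of the order of Z(Q) equals the p-part of the order of C_G(Q) (θ has defect zero as a character of C_G(Q)/Z(Q)), and every element of N_G(Q) of p-power order that stabilizes e lies in Q·C_G(Q) (the stabilizer of e in N_G(Q) has index prime to p over Q·C_G(Q)). -/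
theorem result {G : Type*} [Group G] [Finite G] (p : ℕ) [Fact p.Prime] (M : Ideal Cfsg.AlgInt) (hM : Cfsg.IsPModular p M) (Q : Subgroup G) (e : Set (Cfsg.IrrCharacter (Subgroup.centralizer (Q : Set G)))) (he : Cfsg.IsBrauerPair p M Q e) :
    (∃ B : Set (Cfsg.IrrCharacter G), Cfsg.IsMaximalBrauerPair p M B Q e) ↔
      ∃ θ ∈ e, (∀ z : Subgroup.centralizer (Q : Set G), (z : G) ∈ Q → (θ : Subgroup.centralizer (Q : Set G) → ℂ) z = (θ : Subgroup.centralizer (Q : Set G) → ℂ) 1) ∧
        (Cfsg.charDegree (θ : Subgroup.centralizer (Q : Set G) → ℂ)).factorization p + (Nat.card ↥(Q ⊓ Subgroup.centralizer (Q : Set G))).factorization p = (Nat.card (Subgroup.centralizer (Q : Set G))).factorization p ∧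
        (∀ g : G, g ∈ Subgroup.normalizer (Q : Set G) → Cfsg.StabilizesBlock (Subgroup.centralizer (Q : Set G)) e g → (∃ k : ℕ, orderOf g = p ^ k) → g ∈ Q ⊔ Subgroup.centralizer (Q : Set G)) := by
  classical
  haveI := Fintype.ofFinite G
  haveI := CfsgLib.Block.isPrime_of_isPModular hM
  haveI := CfsgLib.Block.charP_residue hM
  obtain ⟨hQ, he'⟩ := he
  haveI := Fintype.ofFinite (Subgroup.centralizer (Q : Set G))
  obtain ⟨Z, hZdef⟩ : ∃ Z, Z = (Q ⊓ Subgroup.centralizer (Q : Set G)).subgroupOf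
      (Subgroup.centralizer (Q : Set G)) := ⟨_, rfl⟩
  have hZmem : ∀ z, z ∈ Z ↔ (z : G) ∈ Q := fun z => by
    rw [hZdef, Subgroup.mem_subgroupOf, Subgroup.mem_inf]
    exact ⟨fun h => h.1, fun h => ⟨h, z.2⟩⟩
  have hZc : Z ≤ Subgroup.center (Subgroup.centralizer (Q : Set G)) := fun z hz =>
    Subgroup.mem_center_iff.2 fun c => Subtype.ext
      ((Subgroup.mem_centralizer_iff.1 c.2 _ ((hZmem z).1 hz)).symm)
  haveI : Z.Normal := ⟨fun z hz c => by
    rwa [Subgroup.mem_center_iff.1 (hZc hz) c, mul_inv_cancel_right]⟩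
  have hZp : IsPGroup p Z := by
    rw [hZdef]
    exact (hQ.to_le inf_le_left).of_equiv (Subgroup.subgroupOfEquivOfLe inf_le_right).symm
  have hcardZ : Nat.card Z = Nat.card ↥(Q ⊓ Subgroup.centralizer (Q : Set G)) := by
    rw [hZdef]
    exact Nat.card_congr (Subgroup.subgroupOfEquivOfLe inf_le_right).toEquiv
  have hQf : CfsgLib.BrauerPairs.IsPair p
      (Q, CfsgLib.BrauerPairs.idemIn M (Subgroup.centralizer (Q : Set G)) e) :=
    ⟨hQ, CfsgLib.BrauerPairs.isBlk_idemIn hM he'⟩
  have hiff : CfsgLib.BrauerPairs.IsDefMax p (Subgroup.centralizer (Q : Set G))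
        (CfsgLib.BrauerPairs.idemIn M (Subgroup.centralizer (Q : Set G)) e)
        (Q ⊓ Subgroup.centralizer (Q : Set G)) ↔ Cfsg.IsDefectGroup p M e Z := by
    rw [hZdef, CfsgLib.BrauerPairs.isDefectGroup_sub_iff_of_le hM _ he' inf_le_right]
  have hstab : ∀ g : G, g ∈ CfsgLib.BrauerPairs.stab Q
      (CfsgLib.BrauerPairs.idemIn M (Subgroup.centralizer (Q : Set G)) e) ↔
      g ∈ Subgroup.normalizer (Q : Set G) ∧
        Cfsg.StabilizesBlock (Subgroup.centralizer (Q : Set G)) e g := fun g => by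
    rw [CfsgLib.BrauerPairs.stabilizesBlock_iff hM he']
    exact ⟨fun h => ⟨h.1, CfsgLib.BrauerPairs.map_normalizer_centralizer h.1, h.2⟩,
      fun h => ⟨h.1, h.2.2⟩⟩
  constructor
  · rintro ⟨B, hB⟩
    obtain ⟨-, hB1, hmax⟩ := (CfsgLib.BrauerPairs.isMaximalBrauerPair_iff hM).1 hB
    have hd : CfsgLib.BrauerPairs.IsDefMax p (CfsgLib.BrauerPairs.stab Q
        (CfsgLib.BrauerPairs.idemIn M (Subgroup.centralizer (Q : Set G)) e))
        (CfsgLib.BrauerPairs.idemIn M (Subgroup.centralizer (Q : Set G)) e) Q :=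
      CfsgLib.BrauerPairs.isDefMax_stab_of_isMaxPair (CfsgLib.BrauerPairs.isBlk_idem hM hB1) hmax
    have hD := hiff.1 (CfsgLib.BrauerPairs.isDefMax_centralizer hQf hd)
    obtain ⟨θ, hθ, hker⟩ := CfsgLib.Block.exists_ker_mem_block hM he' Z hZp
    refine ⟨θ, hθ, fun z hz => hker z ((hZmem z).2 hz), ?_, fun g hgN hgs hgp =>
      CfsgLib.BrauerPairs.mem_sup_of_isDefMax_stab hM he' hQ hd ((hstab g).2 ⟨hgN, hgs⟩) hgp⟩
    obtain ⟨y, hy, P, hP⟩ := hD
    have hlow := CfsgLib.Block.defect_le_degree hM hy hθ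
    have hD' : Cfsg.IsDefectGroup p M e Z := ⟨y, hy, P, hP⟩
    have hcard := CfsgLib.Block.card_defectGroup hM he' hD'
    rw [CfsgLib.Block.blockDefect_eq hM he' hy] at hcard
    obtain ⟨φ, hφ⟩ := CfsgLib.Block.exists_quotient_irr Z θ hker
    haveI := Fintype.ofFinite (Subgroup.centralizer (Q : Set G) ⧸ Z)
    have hdvd := CfsgLib.Block.charDegree_dvd_card φ
    have hdeg : Cfsg.charDegree (φ : (Subgroup.centralizer (Q : Set G)) ⧸ Z → ℂ) =
        Cfsg.charDegree (θ : Subgroup.centralizer (Q : Set G) → ℂ) := by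
      unfold Cfsg.charDegree
      rw [hφ 1]
      rfl
    rw [hdeg, ← Subgroup.index_eq_card] at hdvd
    have hup := (Nat.factorization_le_iff_dvd (CfsgLib.Block.Chr.irr_one θ).2.ne'
      Subgroup.index_ne_zero_of_finite).2 hdvd p
    have hsum : (Nat.card (Subgroup.centralizer (Q : Set G))).factorization p =
        (Nat.card Z).factorization p + Z.index.factorization p := by
      rw [← Subgroup.card_mul_index Z, Nat.factorization_mul Nat.card_pos.ne'
        Subgroup.index_ne_zero_of_finite, Finsupp.add_apply]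
    have hz : (Nat.card Z).factorization p = (Nat.card (Subgroup.centralizer
        ({y} : Set (Subgroup.centralizer (Q : Set G))))).factorization p := by
      rw [hcard, (Fact.out : p.Prime).factorization_pow, Finsupp.single_eq_same]
    have hle := CfsgLib.Block.centralizer_factorization_le (p := p) y
    rw [← hcardZ]
    omega
  · rintro ⟨θ, hθ, hker, hdeg, hidx⟩
    rw [← hcardZ] at hdeg
    have hdef := CfsgLib.Block.blockDefect_of_central_quotient hM he' Z hZc hZp hθ
      (fun u hu => hker u ((hZmem u).1 hu)) hdeg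
    obtain ⟨y, hy⟩ := CfsgLib.Block.exists_isDefectClass (M := M) he'
    obtain ⟨P⟩ : Nonempty (Sylow p (Subgroup.centralizer
        ({y} : Set (Subgroup.centralizer (Q : Set G))))) := inferInstance
    have hD0 : Cfsg.IsDefectGroup p M e ((P : Subgroup _).map
        (Subgroup.centralizer ({y} : Set (Subgroup.centralizer (Q : Set G)))).subtype) :=
      ⟨y, hy, P, rfl⟩
    have hle := CfsgLib.Block.normal_le_defectGroup hM he' hD0 Z hZp
    have hD : Cfsg.IsDefectGroup p M e Z := by
      rwa [Subgroup.eq_of_le_of_card_ge hle (le_of_eq ?_)]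
      obtain ⟨n, hn⟩ := IsPGroup.iff_card.1 hZp
      rw [CfsgLib.Block.card_defectGroup hM he' hD0, hdef, hn,
        (Fact.out : p.Prime).factorization_pow, Finsupp.single_eq_same]
    have hd := CfsgLib.BrauerPairs.isDefMax_stab hQf (hiff.2 hD) fun x hx hxp =>
      hidx x ((hstab x).1 hx).1 ((hstab x).1 hx).2 hxp
    obtain ⟨b, hb, hmax⟩ := CfsgLib.BrauerPairs.exists_isMaxPair_of_isDefMax hQf hd
    obtain ⟨B, hB, rfl⟩ := CfsgLib.BrauerPairs.exists_idem_eq hM hb
    exact ⟨B, (CfsgLib.BrauerPairs.isMaximalBrauerPair_iff hM).2 ⟨⟨hQ, he'⟩, hB, hmax⟩⟩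

end Cfsg.Agent.S4828
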