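import Cfsg.Statements.S4839
import Cfsg.Agent.Char.TwoClassCore
import Cfsg.Agent.Frobenius.Semidirect
import Mathlib.GroupTheory.SchurZassenhaus
-- import your own Cfsg.Agent.* helpers here

set_option autoImplicit false
open Cfsg

namespace Cfsg.Agent.S4839

/-- Let G be a finite group of order greater than 2 with an irreducible character χ nonzero on exactly two conjugacy classes, and let N be the normal p-subgroup of elements where χ is nonzero. Then N is the whole p-core O_p(G) if and only if G is a doubly transitive Frobenius group with kernel N: G has a Frobenius complement H whose Frobenius kernel is N and whose order is one less than that of N. -/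
theorem result {G : Type*} [Group G] [Finite G] (hG : 2 < Nat.card G) (χ : Cfsg.IrrCharacter G) (hχ : Nat.card {C : ConjClasses G // ∃ g ∈ C.carrier, (χ : G → ℂ) g ≠ 0} = 2) (p : ℕ) [Fact p.Prime] (N : Subgroup G) [N.Normal] (hN : ∀ g : G, g ∈ N ↔ (χ : G → ℂ) g ≠ 0) (hNp : IsPGroup p N) (hN1 : N ≠ ⊥) :
    N = Cfsg.pCore p G ↔ ∃ H : Subgroup G, Cfsg.IsFrobeniusComplement H ∧ Cfsg.frobeniusKernel H = (N : Set G) ∧ Nat.card H + 1 = Nat.card N := by
  classical
  obtain ⟨N', x, m, D⟩ := CfsgLib.Char.TwoClass.exists_data hG χ hχ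
  obtain rfl := D.unique hN
  have hN2 : 1 < Nat.card N := Finite.one_lt_card_iff_nontrivial.2
    ((Subgroup.nontrivial_iff_ne_bot N).2 hN1)
  obtain ⟨n, hn⟩ := IsPGroup.iff_card.1 hNp
  have hcop : (Nat.card N).Coprime (Nat.card N - 1) := by
    have h := Nat.coprime_self_add_right (m := Nat.card N - 1) (n := 1)
    rw [Nat.sub_add_cancel hN2.le] at h
    exact (h.2 (Nat.coprime_one_right _)).symm
  constructor
  · intro h
    have hm := D.m_eq_one_of_eq_pCore χ.2 hNp h
    have hidx : N.index = Nat.card N - 1 := by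
      have h1 := Subgroup.index_mul_card N
      rw [D.card, hm, one_mul, one_mul, mul_comm] at h1
      exact Nat.eq_of_mul_eq_mul_left Nat.card_pos h1
    obtain ⟨H, hH⟩ := Subgroup.exists_right_complement'_of_coprime (N := N)
      (by rw [hidx]; exact hcop)
    have hcardH : Nat.card H = Nat.card N - 1 := by rw [← hH.symm.index_eq_card, hidx]
    refine ⟨H, ?_, ?_, by omega⟩
    · refine CfsgLib.Frobenius.of_fpf hH hN1 (fun hb => ?_) fun a ha ha1 k hk hc => ?_
      · rw [hb, Subgroup.card_bot] at hcardH
        have : Nat.card G ≤ 2 := by rw [D.card, hm, one_mul, one_mul]; rw [← hcardH]; omega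
        omega
      · by_contra hk1
        refine ha1 (D.eq_one_of_commute χ.2 hNp hk hk1 hc fun hd => ?_)
        have h2 := hd.trans (Subgroup.orderOf_dvd_natCard H ha)
        rw [hcardH] at h2
        have hn0 : n ≠ 0 := fun h0 => by rw [hn, h0, pow_zero] at hN2; omega
        exact (Fact.out : p.Prime).not_dvd_one
          (hcop ▸ Nat.dvd_gcd (hn ▸ dvd_pow_self p hn0) h2)
    · refine CfsgLib.Frobenius.kernel_eq ?_ hH
      refine CfsgLib.Frobenius.of_fpf hH hN1 (fun hb => ?_) fun a ha ha1 k hk hc => ?_
      · rw [hb, Subgroup.card_bot] at hcardH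
        have : Nat.card G ≤ 2 := by rw [D.card, hm, one_mul, one_mul]; rw [← hcardH]; omega
        omega
      · by_contra hk1
        refine ha1 (D.eq_one_of_commute χ.2 hNp hk hk1 hc fun hd => ?_)
        have h2 := hd.trans (Subgroup.orderOf_dvd_natCard H ha)
        rw [hcardH] at h2
        have hn0 : n ≠ 0 := fun h0 => by rw [hn, h0, pow_zero] at hN2; omega
        exact (Fact.out : p.Prime).not_dvd_one
          (hcop ▸ Nat.dvd_gcd (hn ▸ dvd_pow_self p hn0) h2)
  · rintro ⟨H, hH, hker, hcard⟩
    have hidx : H.index = Nat.card N := by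
      rw [← CfsgLib.Frobenius.card_frobeniusKernel hH, hker]
      rfl
    have hG' : Nat.card G = Nat.card H * Nat.card N := by rw [← hidx, Subgroup.card_mul_index]
    refine le_antisymm (CfsgLib.Solvable.le_pCore p inferInstance hNp) ?_
    obtain ⟨a, ha⟩ := IsPGroup.iff_card.1 (CfsgLib.Solvable.isPGroup_pCore (G := G) p)
    have hd : Nat.card (Cfsg.pCore p G) ∣ Nat.card N := by
      have hc : (Nat.card (Cfsg.pCore p G)).Coprime (Nat.card H) := by
        have hn0 : n ≠ 0 := fun h0 => by rw [hn, h0, pow_zero] at hN2; omega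
        rw [ha]
        refine Nat.Coprime.pow_left a ((Fact.out : p.Prime).coprime_iff_not_dvd.2 fun hd => ?_)
        rw [show Nat.card H = Nat.card N - 1 by omega] at hd
        exact (Fact.out : p.Prime).not_dvd_one (hcop ▸ Nat.dvd_gcd (hn ▸ dvd_pow_self p hn0) hd)
      exact hc.dvd_of_dvd_mul_left (hG' ▸ Subgroup.card_subgroup_dvd_card _)
    exact ((Subgroup.eq_of_le_of_card_ge (CfsgLib.Solvable.le_pCore p inferInstance hNp)
      (Nat.le_of_dvd Nat.card_pos hd)).ge)

end Cfsg.Agent.S4839
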