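-- Proof of statement S4840.
import Cfsg.Statements.S4840
import Cfsg.Agent.Char.TwoClassCore
import Cfsg.Agent.Char.TwoClassSolvable

set_option autoImplicit false
open Cfsg

namespace Cfsg.Agent.S4840

/-- Let G be a finite solvable group of order greater than 2 with an irreducible character nonzero on exactly two conjugacy classes. Then there is exactly one prime p with O_p(G) ≠ 1, and the quotient G/O_p(G) has a normal p-complement and commutative Sylow p-subgroups. -/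
theorem result {G : Type*} [Group G] [Finite G] [hs : Group.IsSolvable G] (hG : 2 < Nat.card G) (χ : Cfsg.IrrCharacter G) (hχ : Nat.card {C : ConjClasses G // ∃ g ∈ C.carrier, (χ : G → ℂ) g ≠ 0} = 2) :
    ∃ p : ℕ, p.Prime ∧ (∀ q : ℕ, q.Prime → (Cfsg.pCore q G ≠ ⊥ ↔ q = p)) ∧
      Cfsg.HasNormalPComplement p (G ⧸ Cfsg.pCore p G) ∧ ∀ Q : Sylow p (G ⧸ Cfsg.pCore p G), IsMulCommutative (Q : Subgroup (G ⧸ Cfsg.pCore p G)) := by
  classical
  obtain ⟨N, x, m, D⟩ := CfsgLib.Char.TwoClass.exists_data hG χ hχ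
  haveI hNn := D.normal
  obtain ⟨p, hp, hNp, hel⟩ := D.exists_prime
  haveI := Fact.mk hp
  have hcores : ∀ q : ℕ, q.Prime → (Cfsg.pCore q G ≠ ⊥ ↔ q = p) := by
    intro q hq
    haveI := Fact.mk hq
    refine ⟨fun h => ?_, ?_⟩
    · have hle := D.minimal (Cfsg.pCore q G) inferInstance h
      obtain ⟨k, hk⟩ := IsPGroup.iff_card.1 (CfsgLib.Solvable.isPGroup_pCore (G := G) q)
      obtain ⟨l, hl⟩ := IsPGroup.iff_card.1 hNp
      have hl0 : l ≠ 0 := fun e => D.ne_bot (Subgroup.card_eq_one.1 (by rw [hl, e, pow_zero]))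
      have := Subgroup.card_dvd_of_le hle
      rw [hk, hl] at this
      exact ((Nat.prime_dvd_prime_iff_eq hp hq).1 (hp.dvd_of_dvd_pow
        ((dvd_pow_self p hl0).trans this))).symm
    · rintro rfl h
      exact D.ne_bot (eq_bot_iff.2 (h ▸ CfsgLib.Solvable.le_pCore q hNn hNp))
  refine ⟨p, hp, hcores, ?_⟩
  obtain ⟨O, hO⟩ : ∃ O, O = Cfsg.pCore p G := ⟨_, rfl⟩
  have hON : ∀ o ∈ O, ∀ w ∈ N, o * w = w * o := by
    intro o ho w hw
    rcases eq_or_ne w 1 with rfl | hw1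
    · simp
    obtain ⟨P, hP⟩ := D.exists_sylow_centralizer χ.2 hNp hw hw1
    have : o ∈ Subgroup.centralizer ({w} : Set G) :=
      hP ▸ CfsgLib.Fitting.pCore_le_sylow P (hO ▸ ho)
    exact Subgroup.mem_centralizer_singleton_iff.1 this
  haveI hOn : (Cfsg.pCore p G).Normal := inferInstance
  have hker : Cfsg.pCore p G ≤ (MulAut.conjNormal : G →* MulAut N).ker := fun o ho => by
    refine MonoidHom.mem_ker.2 (MulEquiv.ext fun w => Subtype.ext ?_)
    rw [MulAut.conjNormal_apply, MulAut.one_apply, hON o (hO ▸ ho) w w.2, mul_inv_cancel_right]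
  let φ : G ⧸ Cfsg.pCore p G →* MulAut N := QuotientGroup.lift _ MulAut.conjNormal hker
  have hfix : ∀ (g : G) (w : N), φ (g : G ⧸ Cfsg.pCore p G) w = w ↔ g * w = w * g := by
    intro g w
    rw [← mul_inv_eq_iff_eq_mul, Subtype.ext_iff]
    exact Iff.rfl
  have hφ : Function.Injective φ := by
    refine (injective_iff_map_eq_one φ).2 fun a ha => ?_
    obtain ⟨g, rfl⟩ := QuotientGroup.mk_surjective a
    rw [QuotientGroup.eq_one_iff]
    refine D.centralizer_le_pCore χ.2 hNp (Subgroup.mem_centralizer_iff.2 fun w hw => ?_)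
    exact ((hfix g ⟨w, hw⟩).1 (by rw [ha]; rfl)).symm
  have hstab : ∀ (a : G ⧸ Cfsg.pCore p G) (w : N), w ≠ 1 → φ a w = w → ∃ k : ℕ, a ^ p ^ k = 1 := by
    intro a w hw ha
    obtain ⟨g, rfl⟩ := QuotientGroup.mk_surjective a
    obtain ⟨k, hk⟩ := D.isPGroup_centralizer_singleton χ.2 hNp w.2 (fun e => hw (Subtype.ext e))
      ⟨g, Subgroup.mem_centralizer_singleton_iff.2 ((hfix g w).1 ha)⟩
    refine ⟨k, ?_⟩
    have hk' : g ^ p ^ k = 1 := by simpa using congrArg Subtype.val hk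
    rw [← QuotientGroup.mk_pow, hk']
    rfl
  have hcore : Cfsg.pCore p (G ⧸ Cfsg.pCore p G) = ⊥ := by
    rw [eq_bot_iff]
    intro a ha
    obtain ⟨g, rfl⟩ := QuotientGroup.mk_surjective a
    refine Subgroup.mem_bot.2 ((QuotientGroup.eq_one_iff g).2 ?_)
    have hle : (Cfsg.pCore p (G ⧸ Cfsg.pCore p G)).comap (QuotientGroup.mk' (Cfsg.pCore p G)) ≤
        Cfsg.pCore p G := by
      refine CfsgLib.Solvable.le_pCore p inferInstance ?_
      refine (CfsgLib.Solvable.isPGroup_pCore p).comap_of_ker_isPGroup _ ?_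
      rw [QuotientGroup.ker_mk']
      exact CfsgLib.Solvable.isPGroup_pCore p
    exact hle ha
  obtain ⟨n, hn⟩ := IsPGroup.iff_card.1 hNp
  have hn0 : n ≠ 0 := fun e => D.ne_bot (Subgroup.card_eq_one.1 (by rw [hn, e, pow_zero]))
  obtain ⟨e, he⟩ := D.exists_pow χ.2 hNp
  obtain ⟨k, hk⟩ := IsPGroup.iff_card.1 (CfsgLib.Solvable.isPGroup_pCore (G := G) p)
  have hGc : Nat.card (G ⧸ Cfsg.pCore p G) * p ^ k = p ^ (e + e + n) * (p ^ n - 1) := by
    rw [← hk, ← Subgroup.card_eq_card_quotient_mul_card_subgroup, D.card, he, hn, ← pow_add, ← pow_add]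
  have hdvd : p ^ n - 1 ∣ Nat.card (G ⧸ Cfsg.pCore p G) := by
    refine Nat.Coprime.dvd_of_dvd_mul_right (n := p ^ (k)) ?_ (by rw [hGc]; exact dvd_mul_left _ _)
    refine Nat.Coprime.pow_right k (hp.coprime_iff_not_dvd.2 fun h => ?_).symm
    have h1 : p ∣ p ^ n := dvd_pow_self p hn0
    have := Nat.dvd_sub h1 h
    rw [Nat.sub_sub_self (Nat.one_le_pow _ _ hp.pos)] at this
    exact hp.not_dvd_one this
  refine CfsgLib.Char.TwoClassSolv.of_not_dvd_card_commutator
    (CfsgLib.Char.TwoClassSolv.not_dvd_card_commutator (V := N) hn0 hn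
      (fun a b => hel.1.is_comm.comm a b) (fun w => Subtype.ext (by simpa using hel.2 w w.2))
      φ hφ hcore hstab hdvd fun h2 h3 h => ?_)
  subst h2 h3
  have h1 : 16 ∣ 3 ^ (e + e + 2) * 8 := by
    rw [show (8 : ℕ) = 3 ^ 2 - 1 from rfl, ← hGc]
    exact h.mul_right _
  have h2 : (16 : ℕ).Coprime (3 ^ (e + e + 2)) := Nat.Coprime.pow_right _ (by norm_num)
  have := h2.dvd_of_dvd_mul_left h1
  norm_num at this

end Cfsg.Agent.S4840
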