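import Cfsg.Statements.S4843
import Cfsg.Agent.Char.GaloisTwist
import Cfsg.Agent.Char.CliffordCorrespondence
import Cfsg.Agent.Char.Constituents
import Cfsg.Agent.KGV.Basic
import Cfsg.Agent.Solvable.PGroupBasic
import Cfsg.Agent.Comp.Fitting

set_option autoImplicit false
open Cfsg

namespace Cfsg.Agent.S4843

open CfsgLib.Char
open scoped ComplexConjugate

theorem classInner_self_ne_zero {G : Type*} [Group G] [Fintype G] {φ : G → ℂ} (h : φ 1 ≠ 0) :
    Cfsg.classInner φ φ ≠ 0 := fun h0 => h (by rw [classInner_self_eq_zero h0]; rfl)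

variable {G : Type*} [Group G] [Fintype G] {χ : G → ℂ} {σ : ℂ ≃+* ℂ}

/-- The character is not induced from a proper subgroup. -/
theorem not_induced (hχ : IsIrrCharacter G χ)
    (hΦ : IsIrrCharacter G (χ * fun g => σ (χ g))) {T : Subgroup G} [Fintype T]
    (hT : T ≠ ⊤) {ψ : T → ℂ} (hψ : IsIrrCharacter T ψ) (hind : indFun T ψ = χ) : False := by
  classical
  have hχc := IsIrrCharacter.isCharacter hχ
  set ψ' : T → ℂ := fun t => σ (ψ t) with hψ'def
  have hψ' : IsIrrCharacter T ψ' := IsIrrCharacter.map_ringEquiv hψ σ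
  have hχ' : IsIrrCharacter G (fun g => σ (χ g)) := IsIrrCharacter.map_ringEquiv hχ σ
  have hext : ∀ g, extendByZero T ψ' g = σ (extendByZero T ψ g) := fun g => by
    by_cases hg : g ∈ T
    · rw [extendByZero_of_mem _ hg, extendByZero_of_mem _ hg]
    · rw [extendByZero_of_not_mem _ hg, extendByZero_of_not_mem _ hg, map_zero]
  have hind' : indFun T ψ' = fun g => σ (χ g) := by
    funext g
    rw [← hind]
    simp only [indFun_def, hext, map_mul, map_inv₀, map_natCast, map_sum]
  have h1 : classInner (fun t : T => χ t) ψ ≠ 0 := by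
    rw [← classInner_indFun_right (IsIrrCharacter.isClassFunction hχ), hind,
      IsIrrCharacter.classInner_self hχ]
    exact one_ne_zero
  have h2 : classInner (fun t : T => σ (χ t)) ψ' ≠ 0 := by
    rw [← classInner_indFun_right (IsIrrCharacter.isClassFunction hχ'), hind',
      IsIrrCharacter.classInner_self hχ']
    exact one_ne_zero
  have hα := IsCharacter.sub_irr (IsCharacter.restrict hχc T) hψ h1
  have hβ := IsCharacter.sub_irr
    (IsCharacter.restrict (IsIrrCharacter.isCharacter hχ') T) hψ' h2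
  set α : T → ℂ := (fun t : T => χ t) - ψ with hαdef
  set β : T → ℂ := (fun t : T => σ (χ t)) - ψ' with hβdef
  have hw : IsCharacter T (ψ * ψ') :=
    IsCharacter.mul (IsIrrCharacter.isCharacter hψ) (IsIrrCharacter.isCharacter hψ')
  have hrest : IsCharacter T (ψ * β + α * ψ' + α * β) :=
    IsCharacter.add (IsCharacter.add (IsCharacter.mul (IsIrrCharacter.isCharacter hψ) hβ)
      (IsCharacter.mul hα (IsIrrCharacter.isCharacter hψ'))) (IsCharacter.mul hα hβ)
  have hdec : (fun t : T => (χ * fun g => σ (χ g)) t) =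
      ψ * ψ' + (ψ * β + α * ψ' + α * β) := by
    funext t
    simp only [hαdef, hβdef, Pi.mul_apply, Pi.add_apply, Pi.sub_apply]
    ring
  have hne : classInner (indFun T (ψ * ψ')) (χ * fun g => σ (χ g)) ≠ 0 := by
    rw [classInner_indFun _ (IsIrrCharacter.isClassFunction hΦ), hdec, classInner_add_right]
    obtain ⟨a, ha⟩ := IsCharacter.exists_classInner_eq_natCast' hw hw
    obtain ⟨b, hb⟩ := IsCharacter.exists_classInner_eq_natCast' hw hrest
    have ha0 : a ≠ 0 := fun h0 => classInner_self_ne_zero (φ := ψ * ψ')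
      (mul_ne_zero (IsIrrCharacter.apply_one_ne_zero hψ) (IsIrrCharacter.apply_one_ne_zero hψ'))
      (by rw [ha, h0, Nat.cast_zero])
    rw [ha, hb, ← Nat.cast_add, Nat.cast_ne_zero]
    omega
  have hle := IsCharacter.re_constituent_le (IsCharacter.indFun hw) hΦ hne
  obtain ⟨d, hd0, hd⟩ := IsIrrCharacter.exists_degree hψ
  have hidx : 1 < T.index := by
    have := Subgroup.index_ne_zero_of_finite (H := T)
    have : T.index ≠ 1 := fun h => hT (Subgroup.index_eq_one.1 h)
    omega
  rw [indFun_one, Pi.mul_apply, ← hind, Pi.mul_apply] at hle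
  simp only [hψ'def, indFun_one, hd, map_mul, map_natCast, ← Nat.cast_mul, Complex.natCast_re,
    Nat.cast_le] at hle
  have h4 : T.index * (d * d) < T.index * (d * d) * T.index :=
    lt_mul_of_one_lt_right (Nat.mul_pos (by omega) (Nat.mul_pos (Nat.pos_of_ne_zero hd0.ne') (Nat.pos_of_ne_zero hd0.ne'))) hidx
  have h5 : T.index * d * (T.index * d) = T.index * (d * d) * T.index := by ring
  omega

/-- Abelian normal subgroups are central. -/
theorem abelian_normal_le_center (hχ : IsIrrCharacter G χ)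
    (hfaith : ∀ g : G, χ g = χ 1 → g = 1) (hΦ : IsIrrCharacter G (χ * fun g => σ (χ g)))
    (A : Subgroup G) [A.Normal] (hA : ∀ a b : A, a * b = b * a) : A ≤ Subgroup.center G := by
  classical
  have := Fintype.ofFinite A
  obtain ⟨θ, hθ, hc⟩ := exists_constituent_restrict (N := A) hχ
  obtain ⟨lam, rfl⟩ := IsCharacter.exists_hom (IsIrrCharacter.isCharacter hθ)
    (IsIrrCharacter.apply_one_eq_one hθ hA)
  set T := inertia (N := A) (fun a => (lam a : ℂ)) with hTdef
  by_cases hT : T = ⊤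
  · intro a ha
    refine Subgroup.mem_center_iff.2 fun g => ?_
    have hg := (mem_inertia_iff (N := A) (fun a => (lam a : ℂ)) g).1 (show g ∈ T by rw [hT]; exact Subgroup.mem_top g)
      ⟨a, ha⟩
    simp only at hg
    have hb : g * a * g⁻¹ * a⁻¹ ∈ A :=
      mul_mem (Subgroup.Normal.conj_mem ‹A.Normal› a ha g) (inv_mem ha)
    have h1 : lam ⟨g * a * g⁻¹ * a⁻¹, hb⟩ = 1 := by
      rw [show (⟨g * a * g⁻¹ * a⁻¹, hb⟩ : A) =
        ⟨g * a * g⁻¹, Subgroup.Normal.conj_mem ‹A.Normal› a ha g⟩ * ⟨a, ha⟩⁻¹ from rfl,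
        map_mul, map_inv, Units.ext hg, mul_inv_cancel]
    have horb : conjOrbit (N := A) (fun a => (lam a : ℂ)) = {fun a => (lam a : ℂ)} := by
      ext φ
      rw [mem_conjOrbit, Finset.mem_singleton]
      refine ⟨?_, fun h => ⟨1, by rw [h, conjOn_one]⟩⟩
      rintro ⟨x, rfl⟩
      exact (mem_inertia _ x).1 (show x ∈ T by rw [hT]; exact Subgroup.mem_top x)
    have hres := restrict_eq_smul_sum hχ hθ hc
    rw [horb, Finset.sum_singleton] at hres
    have h2 := congrFun hres ⟨_, hb⟩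
    have h3 := congrFun hres 1
    simp only [Pi.smul_apply, smul_eq_mul, h1, map_one, Units.val_one, OneMemClass.coe_one] at h2 h3
    have h4 := hfaith _ (h2.trans h3.symm)
    rw [mul_inv_eq_one, mul_inv_eq_iff_eq_mul] at h4
    exact h4
  · exfalso
    have hle : A ≤ T := le_inertia (IsIrrCharacter.isClassFunction hθ)
    have := Fintype.ofFinite T
    obtain ⟨ψ, hψ, hind, -⟩ := exists_indFun_eq_of_inertia hle hθ hTdef.symm hχ hc
    exact not_induced hχ hΦ hT hψ hind

/-- No normal subgroup properly above the centre has commutators and centre in the centre. -/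
theorem le_center_of_class_two (hχ : IsIrrCharacter G χ)
    (hfaith : ∀ g : G, χ g = χ 1 → g = 1) {k : ℕ} (hk : k.Coprime (Nat.card G))
    (hσ : ∀ g, σ (χ g) = χ (g ^ k)) (hΦ : IsIrrCharacter G (χ * fun g => σ (χ g)))
    (N : Subgroup G) [N.Normal] [Fintype N]
    (hcen : ∀ x ∈ N, (∀ y ∈ N, x * y = y * x) → x ∈ Subgroup.center G)
    (hcomm : ∀ x ∈ N, ∀ y ∈ N, x⁻¹ * y * x * y⁻¹ ∈ Subgroup.center G) :
    N ≤ Subgroup.center G := by
  classical
  intro x hx
  by_contra hxZ
  have hχc := IsIrrCharacter.isCharacter hχ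
  have hχ1 := IsIrrCharacter.apply_one_ne_zero hχ
  -- the central character
  choose w _ hw using fun z : Subgroup.center G => CfsgLib.KGV.exists_central_scalar hχ z.2
  have hw1 : w 1 = 1 := by
    have := hw 1 1
    simp only [OneMemClass.coe_one, mul_one] at this
    exact (mul_eq_right₀ hχ1).1 this.symm
  have hwmul : ∀ z z', w (z * z') = w z * w z' := fun z z' => by
    have h1 := hw (z * z') 1
    rw [Subgroup.coe_mul, one_mul, hw z', ← one_mul (z : G), hw z, ← mul_assoc] at h1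
    rw [mul_comm (w z)]
    exact (mul_right_cancel₀ hχ1 h1).symm
  have hwinj : ∀ z, w z = 1 → z = 1 := fun z hz => by
    have h1 := hw z 1
    rw [hz, one_mul, one_mul] at h1
    exact Subtype.ext (hfaith _ h1)
  let ω : Subgroup.center G →* ℂˣ := MonoidHom.toHomUnits
    { toFun := w, map_one' := hw1, map_mul' := hwmul }
  have hωv : ∀ z, (ω z : ℂ) = w z := fun z => rfl
  -- the stabilizer of the coset of `x`
  let S : Subgroup G :=
    { carrier := {g | x⁻¹ * g * x * g⁻¹ ∈ Subgroup.center G}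
      one_mem' := by simp
      mul_mem' := fun {g h} hg hh => by
        have e : x⁻¹ * (g * h) * x * (g * h)⁻¹ =
            (x⁻¹ * g * x * g⁻¹) * (x⁻¹ * h * x * h⁻¹) := by
          calc x⁻¹ * (g * h) * x * (g * h)⁻¹
              = (x⁻¹ * g * x) * (x⁻¹ * h * x * h⁻¹) * g⁻¹ := by group
            _ = (x⁻¹ * g * x) * g⁻¹ * (x⁻¹ * h * x * h⁻¹) := by
              rw [mul_assoc _ _ g⁻¹, ← Subgroup.mem_center_iff.1 hh g⁻¹, ← mul_assoc]
        show x⁻¹ * (g * h) * x * (g * h)⁻¹ ∈ Subgroup.center G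
        rw [e]
        exact mul_mem hg hh
      inv_mem' := fun {g} hg => by
        have e : x⁻¹ * g⁻¹ * x * g⁻¹⁻¹ = g⁻¹ * (x⁻¹ * g * x * g⁻¹)⁻¹ * g := by group
        show x⁻¹ * g⁻¹ * x * g⁻¹⁻¹ ∈ Subgroup.center G
        rw [e, mul_assoc, ← Subgroup.mem_center_iff.1 (inv_mem hg) g, ← mul_assoc, inv_mul_cancel,
          one_mul]
        exact inv_mem hg }
  let z : S → Subgroup.center G := fun g => ⟨x⁻¹ * g * x * (g : G)⁻¹, g.2⟩
  have hzmul : ∀ g h : S, z (g * h) = z g * z h := fun g h => Subtype.ext (by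
    show x⁻¹ * ((g : G) * h) * x * ((g : G) * h)⁻¹ =
      (x⁻¹ * g * x * (g : G)⁻¹) * (x⁻¹ * h * x * (h : G)⁻¹)
    calc x⁻¹ * ((g : G) * h) * x * ((g : G) * h)⁻¹
        = (x⁻¹ * (g : G) * x) * (x⁻¹ * h * x * (h : G)⁻¹) * (g : G)⁻¹ := by group
      _ = (x⁻¹ * (g : G) * x) * (g : G)⁻¹ * (x⁻¹ * h * x * (h : G)⁻¹) := by
        rw [mul_assoc _ _ (g : G)⁻¹, ← Subgroup.mem_center_iff.1 h.2 (g : G)⁻¹, ← mul_assoc])
  let c : S →* ℂˣ := MonoidHom.mk' (fun g => ω (z g)) fun g h => by rw [hzmul, map_mul]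
  have hNS : N ≤ S := fun y hy => hcomm x hx y hy
  have hθhom : IsIrrCharacter N (fun n : N => (c (Subgroup.inclusion hNS n) : ℂ)) :=
    isIrrCharacter_ofHom (c.comp (Subgroup.inclusion hNS))
  set θ : N → ℂ := fun n : N => (c (Subgroup.inclusion hNS n) : ℂ) with hθdef
  have hinj : ∀ a b, w a = w b → a = b := fun a b h => mul_inv_eq_one.1 (hwinj _ (by
    rw [hwmul, h, ← hwmul, mul_inv_cancel, hw1]))
  have hinertia : inertia θ = S := by
    ext g
    rw [mem_inertia_iff]
    constructor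
    · intro hg
      have hgx : g⁻¹ * x * g ∈ N := by simpa using Subgroup.Normal.conj_mem ‹N.Normal› x hx g⁻¹
      have key : ∀ n ∈ N, Commute (g⁻¹ * x * g * x⁻¹) n := fun n hn => by
        have h1 : x⁻¹ * (g * n * g⁻¹) * x * (g * n * g⁻¹)⁻¹ = x⁻¹ * n * x * n⁻¹ :=
          congrArg Subtype.val (hinj _ _ (hg ⟨n, hn⟩))
        have hz := hcomm x hx n hn
        have h2 : (g⁻¹ * x * g)⁻¹ * n * (g⁻¹ * x * g) * n⁻¹ = x⁻¹ * n * x * n⁻¹ := by
          calc (g⁻¹ * x * g)⁻¹ * n * (g⁻¹ * x * g) * n⁻¹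
              = g⁻¹ * (x⁻¹ * (g * n * g⁻¹) * x * (g * n * g⁻¹)⁻¹) * g := by group
            _ = x⁻¹ * n * x * n⁻¹ := by
              rw [h1, Subgroup.mem_center_iff.1 hz g⁻¹, inv_mul_cancel_right]
        show g⁻¹ * x * g * x⁻¹ * n = n * (g⁻¹ * x * g * x⁻¹)
        rw [mul_left_inj] at h2
        calc g⁻¹ * x * g * x⁻¹ * n
            = (g⁻¹ * x * g) * (x⁻¹ * n * x) * x⁻¹ := by group
          _ = (g⁻¹ * x * g) * ((g⁻¹ * x * g)⁻¹ * n * (g⁻¹ * x * g)) * x⁻¹ := by rw [h2]
          _ = n * (g⁻¹ * x * g * x⁻¹) := by group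
      have hmem : g⁻¹ * x * g * x⁻¹ ∈ Subgroup.center G :=
        hcen _ (mul_mem hgx (inv_mem hx)) key
      have hg' : g⁻¹ ∈ S := by
        show x⁻¹ * g⁻¹ * x * g⁻¹⁻¹ ∈ Subgroup.center G
        have e : x⁻¹ * g⁻¹ * x * g⁻¹⁻¹ = x⁻¹ * (g⁻¹ * x * g * x⁻¹) * x := by group
        rw [e, Subgroup.mem_center_iff.1 hmem x⁻¹, inv_mul_cancel_right]
        exact hmem
      exact inv_inv g ▸ S.inv_mem hg'
    · intro hg n
      have e : Subgroup.inclusion hNS
          ⟨g * n * g⁻¹, Subgroup.Normal.conj_mem ‹N.Normal› _ n.2 g⟩ =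
          (⟨g, hg⟩ : S) * Subgroup.inclusion hNS n * (⟨g, hg⟩ : S)⁻¹ := rfl
      simp only [hθdef, e, map_mul, map_inv, mul_inv_cancel_comm]
  have := Fintype.ofFinite S
  have hcirr : IsIrrCharacter S (fun s => (c s : ℂ)) := isIrrCharacter_ofHom c
  obtain ⟨hI, -⟩ := isIrrCharacter_indFun_of_inertia hNS hθhom hinertia hcirr (by
    show classInner θ θ ≠ 0
    rw [IsIrrCharacter.classInner_self hθhom]; exact one_ne_zero)
  -- it is not the principal character
  have hI1 : indFun S (fun s => (c s : ℂ)) ≠ fun _ => 1 := by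
    intro h
    have h1 := classInner_indFun (H := S) (fun s => (c s : ℂ))
      (IsIrrCharacter.isClassFunction (isIrrCharacter_one (G := G)))
    rw [h, classInner_one_one] at h1
    have h2 : (fun s : S => (c s : ℂ)) ≠ fun _ => 1 := by
      intro h3
      apply hxZ
      refine hcen x hx fun y hy => ?_
      have h4 : z ⟨y, hNS hy⟩ = 1 := hwinj _ (congrFun h3 ⟨y, hNS hy⟩)
      have h5 : x⁻¹ * y * x * y⁻¹ = 1 := congrArg Subtype.val h4
      rw [mul_inv_eq_one, mul_assoc, inv_mul_eq_iff_eq_mul] at h5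
      exact h5.symm
    rw [IsIrrCharacter.classInner_of_ne hcirr isIrrCharacter_one h2] at h1
    exact one_ne_zero h1
  -- both squared norms contain it
  have hfix : ∀ g : S, χ g ≠ 0 → (c g : ℂ) = 1 := fun g hg => by
    have h1 : x⁻¹ * (g : G) * x = (g : G) * (z g : G) := by
      rw [Subgroup.mem_center_iff.1 (z g).2 g]
      show x⁻¹ * (g : G) * x = x⁻¹ * g * x * (g : G)⁻¹ * g
      group
    have h2 : χ (x⁻¹ * (g : G) * x) = χ g := by
      have := IsIrrCharacter.isClassFunction hχ g x⁻¹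
      rwa [inv_inv] at this
    rw [h1, hw] at h2
    exact (mul_eq_right₀ hg).1 h2
  set χ' : G → ℂ := fun g => σ (χ g) with hχ'def
  have hχ'irr : IsIrrCharacter G χ' := IsIrrCharacter.map_ringEquiv hχ σ
  have hfix' : ∀ g : S, χ' g ≠ 0 → (c g : ℂ) = 1 := fun g hg => by
    have hne : χ ((g ^ k : S) : G) ≠ 0 := by
      rw [SubmonoidClass.coe_pow, ← hσ]; exact hg
    have h1 : c g ^ k = 1 := by rw [← map_pow]; exact Units.ext (hfix _ hne)
    have h2 : c g ^ Nat.card G = 1 := by
      rw [← map_pow, show g ^ Nat.card G = 1 from Subtype.ext (by simp), map_one]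
    have h3 : c g ^ Nat.gcd k (Nat.card G) = 1 := pow_gcd_eq_one.2 ⟨h1, h2⟩
    rw [hk.gcd_eq_one, pow_one] at h3
    rw [h3, Units.val_one]
  have hcont : ∀ φ : G → ℂ, IsIrrCharacter G φ → (∀ g : S, φ g ≠ 0 → (c g : ℂ) = 1) →
      classInner (φ * fun g => conj (φ g)) (indFun S (fun s => (c s : ℂ))) ≠ 0 := by
    intro φ hφ hf
    have hcl : IsClassFunction G (φ * fun g => conj (φ g)) := fun a b => by
      simp only [Pi.mul_apply, IsIrrCharacter.isClassFunction hφ a b]
    rw [classInner_indFun_right hcl]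
    have e : classInner (fun s : S => (φ * fun g => conj (φ g)) s) (fun s => (c s : ℂ)) =
        classInner (fun s : S => φ s) (fun s : S => φ s) := by
      rw [classInner_def, classInner_def]
      congr 1
      refine Finset.sum_congr rfl fun s _ => ?_
      by_cases hs : φ s = 0
      · simp [hs]
      · rw [hf s hs]; simp
    rw [e]
    exact classInner_self_ne_zero (φ := fun s : S => φ s) (IsIrrCharacter.apply_one_ne_zero hφ)
  have hsq : ∀ φ : G → ℂ, IsIrrCharacter G φ → (∀ g : S, φ g ≠ 0 → (c g : ℂ) = 1) →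
      IsCharacter G ((φ * fun g => conj (φ g)) - fun _ => 1) ∧
        classInner ((φ * fun g => conj (φ g)) - fun _ => 1) (fun _ => 1) = 0 ∧
        classInner ((φ * fun g => conj (φ g)) - fun _ => 1)
          (indFun S (fun s => (c s : ℂ))) ≠ 0 := by
    intro φ hφ hf
    have hch : IsCharacter G (φ * fun g => conj (φ g)) :=
      IsCharacter.mul (IsIrrCharacter.isCharacter hφ)
        (IsCharacter.conj (IsIrrCharacter.isCharacter hφ))
    have hone : classInner (φ * fun g => conj (φ g)) (fun _ : G => 1) = 1 := by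
      refine Eq.trans ?_ (IsIrrCharacter.classInner_self hφ)
      rw [classInner_def, classInner_def]
      simp
    refine ⟨IsCharacter.sub_irr hch isIrrCharacter_one (by rw [hone]; exact one_ne_zero), ?_, ?_⟩
    · rw [classInner_sub_left, hone, classInner_one_one, sub_self]
    · rw [classInner_sub_left, IsIrrCharacter.classInner_of_ne isIrrCharacter_one hI hI1.symm,
        sub_zero]
      exact hcont φ hφ hf
  obtain ⟨ha, ha1, haI⟩ := hsq χ hχ hfix
  obtain ⟨hb, hb1, hbI⟩ := hsq χ' hχ'irr hfix'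
  set a := (χ * fun g => conj (χ g)) - fun _ => (1 : ℂ) with hadef
  set b := (χ' * fun g => conj (χ' g)) - fun _ => (1 : ℂ) with hbdef
  have hab := IsCharacter.classInner_ne_zero_of_common ha hb hI haI hbI
  apply hab
  have h1 : classInner (a + fun _ => 1) (b + fun _ => 1) = 1 := by
    refine Eq.trans ?_ (IsIrrCharacter.classInner_self hΦ)
    rw [classInner_def, classInner_def]
    congr 1
    refine Finset.sum_congr rfl fun g _ => ?_
    simp only [hadef, hbdef, Pi.add_apply, Pi.sub_apply, Pi.mul_apply, map_add, map_sub, map_mul,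
      Complex.conj_conj, map_one, sub_add_cancel]
    ring
  have hb1' : classInner (fun _ : G => (1 : ℂ)) b = 0 := by
    rw [← classInner_conj, hb1, map_zero]
  rw [classInner_add_left, classInner_add_right, classInner_add_right, ha1, hb1',
    classInner_one_one] at h1
  linear_combination h1

/-- Let G be a finite group with a faithful irreducible character χ (taking the value χ(1) only at the identity) and let k be prime to the order of G, so that g ↦ χ(g^k) is a Galois conjugate of χ. If the pointwise product g ↦ χ(g)·χ(g^k) is again an irreducible character, then the Fitting subgroup of G equals its centre. -/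
theorem result {G : Type*} [Group G] [Finite G] (χ : Cfsg.IrrCharacter G) (hfaith : ∀ g : G, (χ : G → ℂ) g = (χ : G → ℂ) 1 → g = 1) (k : ℕ) (hk : Nat.Coprime k (Nat.card G)) (hirr : Cfsg.IsIrrCharacter G (fun g => (χ : G → ℂ) g * (χ : G → ℂ) (g ^ k))) : Cfsg.fittingSubgroup G = Subgroup.center G := by
  classical
  have := Fintype.ofFinite G
  obtain ⟨σ, hσ0⟩ := exists_ringEquiv_pow (Nat.card_pos (α := G)) hk
  have hσ : ∀ g, σ ((χ : G → ℂ) g) = (χ : G → ℂ) (g ^ k) := fun g =>
    IsCharacter.map_ringEquiv_eq_pow (IsIrrCharacter.isCharacter χ.2) σ fun z hz =>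
      hσ0 z (by obtain ⟨t, ht⟩ := orderOf_dvd_natCard g; rw [ht, pow_mul, hz, one_pow])
  have hΦ : IsIrrCharacter G ((χ : G → ℂ) * fun g => σ ((χ : G → ℂ) g)) := by
    rw [show ((χ : G → ℂ) * fun g => σ ((χ : G → ℂ) g)) =
      fun g => (χ : G → ℂ) g * (χ : G → ℂ) (g ^ k) from funext fun g => by simp [hσ]]
    exact hirr
  have hZF : Subgroup.center G ≤ Cfsg.fittingSubgroup G :=
    CfsgLib.Solvable.le_fittingSubgroup inferInstance (by
      let : CommGroup (Subgroup.center G) :=
        { (inferInstance : Group (Subgroup.center G)) with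
          mul_comm := fun a b => Subtype.ext (Subgroup.mem_center_iff.1 b.2 a) }
      exact CommGroup.isNilpotent)
  refine le_antisymm ?_ hZF
  set F := Cfsg.fittingSubgroup G with hF
  let N : Subgroup G := F ⊓ (Subgroup.centralizer
    ((F.map (QuotientGroup.mk' (Subgroup.center G)) : Subgroup (G ⧸ Subgroup.center G)) :
      Set (G ⧸ Subgroup.center G))).comap (QuotientGroup.mk' (Subgroup.center G))
  have : (F.map (QuotientGroup.mk' (Subgroup.center G))).Normal :=
    Subgroup.Normal.map inferInstance _ (QuotientGroup.mk'_surjective _)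
  have hmemN : ∀ x, x ∈ N ↔ x ∈ F ∧ ∀ y ∈ F, x⁻¹ * y * x * y⁻¹ ∈ Subgroup.center G := by
    intro x
    simp only [N, Subgroup.mem_inf, Subgroup.mem_comap, Subgroup.mem_centralizer_iff,
      Subgroup.coe_map, Set.forall_mem_image, SetLike.mem_coe, QuotientGroup.mk'_apply]
    refine and_congr_right fun _ => forall₂_congr fun y _ => ?_
    rw [← QuotientGroup.eq_one_iff (N := Subgroup.center G), QuotientGroup.mk_mul,
      QuotientGroup.mk_mul, QuotientGroup.mk_mul, QuotientGroup.mk_inv, QuotientGroup.mk_inv,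
      mul_inv_eq_one, mul_assoc, inv_mul_eq_iff_eq_mul]
  have hNn : N.Normal := by infer_instance
  have := Fintype.ofFinite N
  have hNZ : N ≤ Subgroup.center G := by
    refine le_center_of_class_two χ.2 hfaith hk hσ hΦ N (fun x hx hxy => ?_)
      (fun x hx y hy => ((hmemN x).1 hx).2 y ((hmemN y).1 hy).1)
    have : ((Subgroup.center N).map N.subtype).Normal := inferInstance
    refine abelian_normal_le_center χ.2 hfaith hΦ ((Subgroup.center N).map N.subtype) ?_
      ⟨⟨x, hx⟩, Subgroup.mem_center_iff.2 fun y => Subtype.ext (hxy y y.2).symm, rfl⟩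
    rintro ⟨_, a, ha, rfl⟩ ⟨_, b, hb, rfl⟩
    exact Subtype.ext (congrArg N.subtype (Subgroup.mem_center_iff.1 hb a))
  by_contra hFZ
  have : Group.IsNilpotent F := CfsgLib.Comp.fitting_isNilpotent
  set K := (Subgroup.center G).subgroupOf F
  have : Nontrivial (F ⧸ K) := by
    rw [QuotientGroup.nontrivial_iff]
    exact fun h => hFZ (Subgroup.subgroupOf_eq_top.1 h)
  obtain ⟨q, hq, hq1⟩ := (Subgroup.ne_bot_iff_exists_ne_one.1
    (CfsgLib.PGroupBasic.inf_center_ne_bot (⊤ : Subgroup (F ⧸ K)) top_ne_bot) |>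
    fun ⟨q, hq⟩ => (⟨(q : F ⧸ K), q.2.2, fun h => hq (Subtype.ext h)⟩ :
      ∃ q : F ⧸ K, q ∈ Subgroup.center (F ⧸ K) ∧ q ≠ 1))
  obtain ⟨⟨x, hxF⟩, rfl⟩ := QuotientGroup.mk_surjective q
  apply hq1
  rw [QuotientGroup.eq_one_iff, Subgroup.mem_subgroupOf]
  refine hNZ ((hmemN x).2 ⟨hxF, fun y hy => ?_⟩)
  have h1 := Subgroup.mem_center_iff.1 hq (QuotientGroup.mk (⟨y, hy⟩ : F))
  rw [← QuotientGroup.mk_mul, ← QuotientGroup.mk_mul, QuotientGroup.eq,
    Subgroup.mem_subgroupOf] at h1
  simp only [Subgroup.coe_mul, Subgroup.coe_inv, mul_inv_rev] at h1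
  have e : x⁻¹ * y * x * y⁻¹ = y * (y⁻¹ * x⁻¹ * y * x)⁻¹⁻¹ * y⁻¹ := by group
  rw [e, inv_inv]
  refine Subgroup.Normal.conj_mem inferInstance _ ?_ y
  have h2 : y⁻¹ * x⁻¹ * y * x = (x⁻¹ * y⁻¹ * (x * y))⁻¹ := by group
  rw [h2]
  refine inv_mem ?_
  have h3 : x⁻¹ * y⁻¹ * (x * y) = x⁻¹ * y⁻¹ * x * y := by group
  simpa [mul_assoc] using h1

end Cfsg.Agent.S4843
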