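import Cfsg.Statements.S4845
import Cfsg.Agent.Char.GaloisConjugateDegrees

set_option autoImplicit false
open Cfsg

namespace Cfsg.Agent.S4845

/-- Let p be a prime and P a finite non-commutative p-group. Then every two irreducible characters of P of the same degree greater than 1 are Galois conjugate (one is obtained from the other by composing with g ↦ g^k for some k prime to the order of P) if and only if the centre of P is cyclic and the derived subgroup of P has order p. -/
theorem result {P : Type*} [Group P] [Finite P] (p : ℕ) [Fact p.Prime] (hP : IsPGroup p P) (hna : ¬ IsMulCommutative P) :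
    (∀ χ ψ : Cfsg.IrrCharacter P, Cfsg.charDegree (χ : P → ℂ) ≠ 1 → Cfsg.charDegree (χ : P → ℂ) = Cfsg.charDegree (ψ : P → ℂ) → ∃ k : ℕ, Nat.Coprime k (Nat.card P) ∧ ∀ g : P, (ψ : P → ℂ) g = (χ : P → ℂ) (g ^ k)) ↔
      (IsCyclic (Subgroup.center P) ∧ Nat.card (commutator P) = p) := by
  classical
  have hdeg : ∀ φ : P → ℂ, Cfsg.IsIrrCharacter P φ → φ 1 = (Cfsg.charDegree φ : ℂ) := fun φ hφ => by
    obtain ⟨d, -, hd⟩ := CfsgLib.Char.IsIrrCharacter.exists_degree hφ
    rw [Cfsg.charDegree, hd, Complex.natCast_re, Nat.floor_natCast]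
  refine ⟨fun h => CfsgLib.EqualDegree.structure_of_sameKer hP hna ?_, fun h χ ψ hχ1 hd => ?_⟩
  · intro χ ψ hχ hψ h1 h2 g hg
    have h2' : Cfsg.charDegree χ = Cfsg.charDegree ψ := by
      rw [Cfsg.charDegree, Cfsg.charDegree, h2]
    have h1' : Cfsg.charDegree χ ≠ 1 := fun e => h1 (by rw [hdeg χ hχ, e, Nat.cast_one])
    obtain ⟨k, -, hk⟩ := h ⟨χ, hχ⟩ ⟨ψ, hψ⟩ h1' h2'
    have hmem := (CfsgLib.Char.mem_kerSubgroup (CfsgLib.Char.IsIrrCharacter.isCharacter hχ) _).1
      (pow_mem ((CfsgLib.Char.mem_kerSubgroup (CfsgLib.Char.IsIrrCharacter.isCharacter hχ) g).2 hg) k)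
    simp only at hk
    rw [hk g, hk 1, one_pow]
    exact hmem
  · refine CfsgLib.EqualDegree.exists_power_conjugate hP h.2 h.1 χ.2 ψ.2 (fun e => hχ1 ?_) ?_
    · rw [Cfsg.charDegree, e, Complex.one_re, Nat.floor_one]
    · rw [hdeg _ χ.2, hdeg _ ψ.2, hd]

end Cfsg.Agent.S4845
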