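import Cfsg.Statements.S4847
import Cfsg.Agent.PalfyThree.Reduction

set_option autoImplicit false
open Cfsg

namespace Cfsg.Agent.S4847

/-- Let G be a finite solvable group and p, q, r three distinct primes each dividing the degree of some irreducible character of G. Then for some two of them the product divides the degree of some irreducible character of G (the character degree graph of a solvable group has no three pairwise non-adjacent vertices). -/
theorem result {G : Type*} [Group G] [Finite G] [hs : Group.IsSolvable G] (p q r : ℕ) (hp : p.Prime) (hq : q.Prime) (hr : r.Prime) (hpq : p ≠ q) (hqr : q ≠ r) (hpr : p ≠ r)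
    (hpd : ∃ χ : Cfsg.IrrCharacter G, p ∣ Cfsg.charDegree (χ : G → ℂ)) (hqd : ∃ χ : Cfsg.IrrCharacter G, q ∣ Cfsg.charDegree (χ : G → ℂ)) (hrd : ∃ χ : Cfsg.IrrCharacter G, r ∣ Cfsg.charDegree (χ : G → ℂ)) :
    (∃ χ : Cfsg.IrrCharacter G, p * q ∣ Cfsg.charDegree (χ : G → ℂ)) ∨ (∃ χ : Cfsg.IrrCharacter G, q * r ∣ Cfsg.charDegree (χ : G → ℂ)) ∨ (∃ χ : Cfsg.IrrCharacter G, p * r ∣ Cfsg.charDegree (χ : G → ℂ)) := by
  haveI := Fintype.ofFinite G
  have key : ∀ {a : ℕ}, (∃ χ : Cfsg.IrrCharacter G, a ∣ Cfsg.charDegree (χ : G → ℂ)) ↔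
      ¬ CfsgLib.PalfyThree.NoDeg G a := by
    intro a
    constructor
    · rintro ⟨χ, hχ⟩ h
      obtain ⟨d, -, hd⟩ := CfsgLib.Char.IsIrrCharacter.exists_degree χ.2
      exact h _ χ.2 d hd (by rwa [CfsgLib.Char.charDegree_eq_natCast hd] at hχ)
    · intro h
      by_contra! hno
      exact h fun f hf d hd ha => hno ⟨f, hf⟩ (by rwa [CfsgLib.Char.charDegree_eq_natCast hd])
  rw [key] at hpd hqd hrd
  rw [key, key, key]
  by_contra! h
  exact CfsgLib.PalfyThree.false_of_three _ G rfl hs p q r hp hq hr hpq hqr hpr hpd hqd hrd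
    h.1 h.2.1 h.2.2

end Cfsg.Agent.S4847
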