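import Cfsg.Statements.S4850
import Cfsg.Agent.Vanishing.OneOrder
import Cfsg.Agent.CharP.FrakH

set_option autoImplicit false
open Cfsg

namespace Cfsg.Agent.S4850

/-- Let p be a prime and G a finite solvable group whose vanishing elements (elements at which some irreducible character is zero) of order divisible by p all have the same order, with at least one such element. Let P be a Sylow p-subgroup of G. Then the derived subgroup of P is subnormal in G and the image of P in G/O_p(G) is cyclic. -/
theorem result {G : Type*} [Group G] [Finite G] [hs : Group.IsSolvable G] (p : ℕ) [Fact p.Prime] (b : ℕ) (hvo : {n : ℕ | p ∣ n ∧ ∃ (g : G) (χ : Cfsg.IrrCharacter G), orderOf g = n ∧ (χ : G → ℂ) g = 0} = {b}) (P : Sylow p G) :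
    ((commutator ↥(P : Subgroup G)).map (P : Subgroup G).subtype).IsSubnormal ∧ IsCyclic ↥((P : Subgroup G).map (QuotientGroup.mk' (Cfsg.pCore p G))) := by
  classical
  have hp : p.Prime := Fact.out
  set O := Cfsg.pCore p G with hO
  haveI hOn : O.Normal := (CfsgLib.Solvable.pCore_spec p).1
  have hOp : IsPGroup p O := (CfsgLib.Solvable.pCore_spec p).2
  have hall : ∀ g : G, CfsgLib.Vanishing.PV p g → orderOf g = b := by
    rintro g ⟨hg, χ, hχ, h0⟩
    have : orderOf g ∈ ({b} : Set ℕ) := hvo ▸ ⟨hg, g, ⟨χ, hχ⟩, rfl, h0⟩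
    exact this
  set Q := (P : Subgroup G).map (QuotientGroup.mk' O) with hQ
  have hcard : Nat.card Q ≤ p := by
    by_cases hP : (P : Subgroup G) ≤ O
    · rw [hQ, (Subgroup.map_eq_bot_iff _).2 (by rw [QuotientGroup.ker_mk']; exact hP), Subgroup.card_bot]
      exact hp.one_lt.le
    obtain ⟨u, hu, i, hi⟩ : ∃ u : G, CfsgLib.Vanishing.PV p u ∧ ∃ i, orderOf u = p ^ i := by
      by_contra hno
      exact hP (CfsgLib.Vanishing.le_pCore_of_no_p_element _ G rfl hs
        (fun x hx hxi => hno ⟨x, hx, hxi⟩) P)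
    have hI : ∀ x : G, CfsgLib.Vanishing.PV p x → ∃ j, orderOf x = p ^ j := fun x hx =>
      ⟨i, by rw [hall x hx, ← hall u hu, hi]⟩
    have hII : ∀ x : G, CfsgLib.Vanishing.PV p x → ¬ CfsgLib.Vanishing.PV p (x ^ p) := by
      intro x hx hxp
      have h1 := hall _ hxp
      rw [orderOf_pow_of_dvd hp.ne_zero hx.1, hall x hx] at h1
      have hb : 0 < b := hall x hx ▸ orderOf_pos x
      exact (Nat.div_lt_self hb hp.one_lt).ne h1
    have h := CfsgLib.Vanishing.card_le_of_p_elements _ G rfl hs hI hII P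
    rw [CfsgLib.Vanishing.card_sylow_eq P O,
      inf_eq_left.2 (CfsgLib.Fitting.pCore_le_sylow P), mul_comm p] at h
    exact Nat.le_of_mul_le_mul_left h Nat.card_pos
  have hcyc : IsCyclic Q := by
    obtain ⟨k, hk⟩ := IsPGroup.iff_card.1 (P.isPGroup'.map (QuotientGroup.mk' O))
    have hdvd : Nat.card Q ∣ p := by
      rw [hQ, hk]
      rw [hQ, hk] at hcard
      have hk1 : k ≤ 1 := (Nat.pow_le_pow_iff_right hp.one_lt).1 (by rwa [pow_one])
      simpa using pow_dvd_pow p hk1
    rcases (Nat.dvd_prime hp).1 hdvd with h | h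
    · haveI : Subsingleton Q := (Nat.card_eq_one_iff_unique.1 h).1
      infer_instance
    · exact isCyclic_of_prime_card h
  refine ⟨?_, hcyc⟩
  have hle : (commutator ↥(P : Subgroup G)).map (P : Subgroup G).subtype ≤ O := by
    rw [Subgroup.map_subtype_commutator, Subgroup.commutator_le]
    intro x hx y hy
    rw [← QuotientGroup.eq_one_iff, ← QuotientGroup.mk'_apply, map_commutatorElement,
      commutatorElement_eq_one_iff_mul_comm]
    letI := IsCyclic.commGroup (α := Q)
    exact congrArg Subtype.val (mul_comm (⟨_, Subgroup.mem_map_of_mem _ hx⟩ : Q) ⟨_, Subgroup.mem_map_of_mem _ hy⟩)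
  haveI : Group.IsNilpotent O := hOp.isNilpotent
  exact Subgroup.IsSubnormal.trans hle (CfsgLib.FrakM.isSubnormal_of_nilpotent _) (Subgroup.Normal.isSubnormal inferInstance)

end Cfsg.Agent.S4850
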