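import Cfsg.Statements.S4859
import Cfsg.Agent.Char.FrobeniusSchur

set_option autoImplicit false
open Cfsg

namespace Cfsg.Agent.S4859

open CfsgLib.Char
open scoped ComplexConjugate

theorem exists_real_ne_zero {G : Type*} [Group G] [Fintype G] (g : G)
    (hg : ∀ u : G, ¬ IsConj (u * u) g) :
    ∃ χ : Cfsg.IrrCharacter G, ¬ ((χ : G → ℂ) = fun _ => (1 : ℂ)) ∧
      (∀ h : G, ((χ : G → ℂ) h).im = 0) ∧ (χ : G → ℂ) g ≠ 0 := by
  classical
  have hsum : ∑ χ ∈ irrFinset G,
      ((Nat.card G : ℂ)⁻¹ * ∑ x : G, χ (x * x)) * conj (χ g) = 0 := by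
    simp only [Finset.mul_sum, Finset.sum_mul, mul_assoc]
    rw [Finset.sum_comm]
    refine Finset.sum_eq_zero fun x _ => ?_
    rw [← Finset.mul_sum, sum_irr_mul_conj, if_neg (hg x), mul_zero]
  rw [← Finset.add_sum_erase _ _ (mem_irrFinset.2 (isIrrCharacter_one (G := G)))] at hsum
  have h1 : ((Nat.card G : ℂ)⁻¹ * ∑ _x : G, (1 : ℂ)) * conj (1 : ℂ) = 1 := by
    rw [map_one, mul_one, Finset.sum_const, nsmul_eq_mul, mul_one, Finset.card_univ,
      ← Nat.card_eq_fintype_card, inv_mul_cancel₀ (by exact_mod_cast Nat.card_pos.ne')]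
  rw [h1] at hsum
  by_contra hnone
  rw [Finset.sum_eq_zero fun χ hχ => ?_, add_zero] at hsum
  · exact one_ne_zero hsum
  · obtain ⟨hne, hirr⟩ := Finset.mem_erase.1 hχ
    rcases IsIrrCharacter.fs_indicator (mem_irrFinset.1 hirr) with ⟨-, h0⟩ | ⟨hreal, -⟩
    · rw [h0, zero_mul]
    · have : χ g = 0 := by
        by_contra hz
        exact hnone ⟨⟨χ, mem_irrFinset.1 hirr⟩, hne, hreal, hz⟩
      rw [this, map_zero, mul_zero]

/-- Let p be an odd prime, G a finite group and x an element of G whose order is a power of p (possibly 1) and whose centralizer has even order. Let y be a 2-element of the centralizer of x whose order is largest among the 2-elements of that centralizer. Then x * y is not a square in G, and some non-principal real-valued irreducible character of G does not vanish at x * y. -/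
theorem result {G : Type*} [Group G] [Finite G] (p : ℕ) [Fact p.Prime] (hp : p ≠ 2) (x : G) (hx : ∃ k : ℕ, orderOf x = p ^ k) (heven : Even (Nat.card (Subgroup.centralizer ({x} : Set G)))) (y : G) (hy : y ∈ Subgroup.centralizer ({x} : Set G)) (hy2 : ∃ k : ℕ, orderOf y = 2 ^ k) (hmax : ∀ z ∈ Subgroup.centralizer ({x} : Set G), (∃ k : ℕ, orderOf z = 2 ^ k) → orderOf z ≤ orderOf y) : (¬ ∃ u : G, u * u = x * y) ∧ ∃ χ : Cfsg.IrrCharacter G, ¬ ((χ : G → ℂ) = fun _ => (1 : ℂ)) ∧ (∀ g : G, ((χ : G → ℂ) g).im = 0) ∧ (χ : G → ℂ) (x * y) ≠ 0 := by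
  haveI := Fintype.ofFinite G
  obtain ⟨k, hk⟩ := hx
  obtain ⟨l, hl⟩ := hy2
  have hp' : p.Prime := Fact.out
  have hcop : Nat.Coprime (p ^ k) 2 :=
    Nat.Coprime.pow_left k ((Nat.coprime_primes hp' Nat.prime_two).2 hp)
  have hl0 : l ≠ 0 := by
    intro h0
    obtain ⟨⟨t, ht⟩, hto⟩ := exists_prime_orderOf_dvd_card' 2 heven.two_dvd
    rw [Subgroup.orderOf_mk] at hto
    have := hmax t ht ⟨1, by rw [hto, pow_one]⟩
    rw [hto, hl, h0] at this
    omega
  have hxy : Commute x y := (Subgroup.mem_centralizer_singleton_iff.1 hy).symm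
  have hnot : ∀ u : G, u * u ≠ x * y := by
    intro u hu
    have hux : Commute u (x ^ 2 ^ l) := by
      have h1 : Commute u ((x * y) ^ 2 ^ l) := by
        rw [← hu]
        exact ((Commute.refl u).mul_right (Commute.refl u)).pow_right _
      rwa [hxy.mul_pow, ← hl, pow_orderOf_eq_one y, hl, mul_one] at h1
    obtain ⟨i, hi⟩ := exists_pow_eq_self_of_coprime (x := x) (n := 2 ^ l)
      (hk ▸ (Nat.coprime_comm.1 (Nat.Coprime.pow_right l hcop)))
    have hux' : Commute u x := hi ▸ hux.pow_right i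
    have hz : (u ^ p ^ k) ^ 2 = y ^ p ^ k := by
      rw [← pow_mul, mul_comm, pow_mul, sq, hu, hxy.mul_pow, ← hk, pow_orderOf_eq_one, one_mul]
    have hyo : orderOf (y ^ p ^ k) = 2 ^ l := by
      rw [Nat.Coprime.orderOf_pow (hl ▸ (Nat.Coprime.pow_left l (Nat.coprime_comm.1 hcop))), hl]
    have hzo : orderOf (u ^ p ^ k) = 2 ^ (l + 1) := by
      refine orderOf_eq_prime_pow (fun h => ?_) ?_
      · have h2 : (y ^ p ^ k) ^ 2 ^ (l - 1) = 1 := by
          rw [← hz, ← pow_mul, ← pow_succ', Nat.sub_add_cancel (Nat.pos_of_ne_zero hl0), h]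
        have := Nat.le_of_dvd (by positivity) (orderOf_dvd_of_pow_eq_one h2)
        rw [hyo, Nat.pow_le_pow_iff_right (by norm_num)] at this
        omega
      · rw [pow_succ', pow_mul, hz, ← hyo, pow_orderOf_eq_one]
    have := hmax (u ^ p ^ k)
      (Subgroup.mem_centralizer_singleton_iff.2 (hux'.pow_left _).eq) ⟨l + 1, hzo⟩
    rw [hzo, hl, Nat.pow_le_pow_iff_right (by norm_num)] at this
    omega
  refine ⟨fun ⟨u, hu⟩ => hnot u hu, exists_real_ne_zero (x * y) fun u hu => ?_⟩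
  obtain ⟨c, hc⟩ := isConj_iff.1 hu
  exact hnot (c * u * c⁻¹) (by rw [← hc]; group)

end Cfsg.Agent.S4859
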