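import Cfsg.Statements.S4870
import Cfsg.Agent.Char.LinearTwist

set_option autoImplicit false
open Cfsg

namespace Cfsg.Agent.S4870

/-- Let G be a finite group with a non-abelian minimal normal subgroup N, and let φ be an irreducible complex character of N with stabilizer I in G (the elements g with φ(g n g⁻¹) = φ(n) for all n ∈ N) such that φ extends to an irreducible character of I. Put d = φ(1)·[G : I]. Then the number of linear characters of G is at most [G : I] times the number of irreducible characters of G of degree d. -/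
theorem result {G : Type*} [Group G] [Finite G] (N : Subgroup G) (hN : N.Normal) (hN1 : N ≠ ⊥) (hmin : ∀ M : Subgroup G, M.Normal → M ≤ N → M = ⊥ ∨ M = N) (hna : ¬ IsMulCommutative ↥N) (φ : Cfsg.IrrCharacter ↥N) (I : Subgroup G) (hI : ∀ g : G, g ∈ I ↔ ∀ n n' : ↥N, (n' : G) = g * (n : G) * g⁻¹ → (φ : ↥N → ℂ) n' = (φ : ↥N → ℂ) n) (hNI : N ≤ I) (hext : ∃ ψ : Cfsg.IrrCharacter ↥I, ∀ n : ↥N, (ψ : ↥I → ℂ) (Subgroup.inclusion hNI n) = (φ : ↥N → ℂ) n) : Nat.card {χ : Cfsg.IrrCharacter G // Cfsg.charDegree (χ : G → ℂ) = 1} ≤ I.index * Nat.card {χ : Cfsg.IrrCharacter G // Cfsg.charDegree (χ : G → ℂ) = Cfsg.charDegree (φ : ↥N → ℂ) * I.index} := by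
  classical
  haveI := Fintype.ofFinite G
  haveI := hN
  haveI : Fintype I := Fintype.ofFinite I
  haveI : Finite (Cfsg.IrrCharacter G) := CfsgLib.Char.finite_irrCharacter G
  have hNc := CfsgLib.Char.le_commutator_of_minimal hN hmin hna
  have hIe : CfsgLib.Char.inertia (φ : N → ℂ) = I := by
    ext g
    rw [CfsgLib.Char.mem_inertia_iff, hI]
    refine ⟨fun h n n' hn => ?_, fun h n => h n _ rfl⟩
    rw [← h n]
    exact congrArg _ (Subtype.ext hn)
  obtain ⟨ψ, hψe⟩ := hext
  obtain ⟨hind, hfib⟩ := CfsgLib.Char.twist_data hNI φ.2 hIe ψ.2 hψe hNc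
  have hdeg : ∀ lam : G →* ℂˣ,
      Cfsg.charDegree (Cfsg.indFun I (ψ : I → ℂ) * fun g => (lam g : ℂ)) =
        Cfsg.charDegree (φ : N → ℂ) * I.index := by
    intro lam
    have h1 : (ψ : I → ℂ) 1 = (φ : N → ℂ) 1 := by rw [← hψe 1, map_one]
    rw [Cfsg.charDegree, Pi.mul_apply, map_one, Units.val_one, mul_one, CfsgLib.Char.indFun_one,
      h1, (CfsgLib.BlocksB.charDegree_spec φ.2).1, ← Nat.cast_mul, Complex.natCast_re,
      Nat.floor_natCast, mul_comm]
  have hcount := CfsgLib.Char.card_le_index_mul I (fun _ => True)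
    (β := {χ : Cfsg.IrrCharacter G // Cfsg.charDegree (χ : G → ℂ) =
      Cfsg.charDegree (φ : N → ℂ) * I.index})
    (fun a => ⟨⟨_, CfsgLib.Char.IsIrrCharacter.mul_hom hind a.1⟩, hdeg a.1⟩)
    fun a b h => hfib a.1 b.1 (congrArg (fun c => (c.1 : G → ℂ)) h)
  refine le_trans (le_of_eq ?_) hcount
  rw [Nat.card_congr (Equiv.subtypeUnivEquiv fun _ => trivial),
    Nat.card_congr (CfsgLib.Char.linearCharEquiv (G := G))]
  refine Nat.card_congr (Equiv.subtypeEquivRight fun χ => ?_)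
  rw [(CfsgLib.BlocksB.charDegree_spec χ.2).1, Nat.cast_eq_one]

end Cfsg.Agent.S4870
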