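import Cfsg.Statements.S4872
import Cfsg.Agent.Char.SkewFixed
import Cfsg.Agent.Char.DegreeRatio
import Cfsg.Agent.Blocks.DefectZeroVanish

set_option autoImplicit false
open Cfsg

namespace Cfsg.Agent.S4872

open CfsgLib.Char
open scoped ComplexConjugate

/-- The number of fixed points of a Sylow 2-subgroup in the induced character is odd. -/
theorem exists_odd_fixed {G : Type*} [Group G] [Fintype G] (N : Subgroup G) [N.Normal]
    [Fintype N] (h2 : IsPGroup 2 (G ⧸ N)) (φ : Cfsg.IrrCharacter N)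
    (hdef : 2 ^ (Nat.card N).factorization 2 ∣ Cfsg.charDegree (φ : N → ℂ))
    (P : Sylow 2 G) [Fintype (P : Subgroup G)] :
    ∃ k : ℕ, Odd k ∧ Cfsg.classInner (fun y : (P : Subgroup G) => Cfsg.indFun N (φ : N → ℂ) y)
      (fun _ => (1 : ℂ)) = (k : ℂ) := by
  classical
  obtain ⟨hd1, hd2⟩ := CfsgLib.Block.Chr.irr_one φ
  obtain ⟨b, hb⟩ := IsPGroup.iff_card.1 h2
  have hidx : N.index = 2 ^ b := by rw [Subgroup.index_eq_card, hb]
  have hdvd : Cfsg.charDegree (φ : N → ℂ) ∣ Nat.card N := CfsgLib.Block.charDegree_dvd_card φ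
  obtain ⟨k, hk⟩ := hdef
  have hkodd : Odd k := by
    rw [← Nat.not_even_iff_odd, even_iff_two_dvd]
    intro hk2
    obtain ⟨j, rfl⟩ := hk2
    rw [← mul_assoc, ← pow_succ] at hk
    have : 2 ^ ((Nat.card N).factorization 2 + 1) ∣ Nat.card N :=
      (hk ▸ dvd_mul_right _ j).trans hdvd
    exact Nat.pow_succ_factorization_not_dvd Nat.card_pos.ne' Nat.prime_two this
  refine ⟨k, hkodd, ?_⟩
  have hval : ∀ y : (P : Subgroup G), y ≠ 1 → Cfsg.indFun N (φ : N → ℂ) y = 0 := by
    intro y hy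
    by_cases hyN : (y : G) ∈ N
    · rw [show (y : G) = ((⟨y, hyN⟩ : N) : G) from rfl, indFun_apply_normal,
        Finset.sum_eq_zero, mul_zero]
      intro x _
      refine CfsgLib.Block.eq_zero_of_defectZero Nat.prime_two φ
        (by rw [hk]; exact dvd_mul_right _ _) ?_
      obtain ⟨j, hj⟩ := IsPGroup.iff_orderOf.1 P.2 y
      have ho : orderOf (⟨x * y * x⁻¹, (inferInstance : N.Normal).conj_mem _ hyN x⟩ : N) =
          orderOf y := by
        rw [← Subgroup.orderOf_coe, ← Subgroup.orderOf_coe y]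
        exact orderOf_injective (MulAut.conj x).toMonoidHom (MulAut.conj x).injective (y : G)
      rw [ho, hj]
      refine dvd_pow_self 2 fun h0 => hy ?_
      rw [← orderOf_eq_one_iff, hj, h0, pow_zero]
    · exact indFun_eq_zero_of_normal _ hyN
  rw [classInner_def, Finset.sum_eq_single (1 : (P : Subgroup G))
    (fun y _ hy => by rw [hval y hy, zero_mul]) (fun h => absurd (Finset.mem_univ _) h),
    map_one, mul_one, OneMemClass.coe_one, indFun_one, hd1, hidx, hk]
  have hcard : Nat.card (P : Subgroup G) = 2 ^ b * 2 ^ (Nat.card N).factorization 2 := by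
    rw [P.card_eq_multiplicity, ← pow_add, ← N.index_mul_card, hidx,
      Nat.factorization_mul (pow_ne_zero _ two_ne_zero) Nat.card_pos.ne', Finsupp.add_apply,
      Nat.prime_two.factorization_pow, Finsupp.single_eq_same]
  rw [hcard]
  push_cast
  field_simp

/-- Let N be a normal subgroup of the finite group G with G/N a 2-group, and let φ be an irreducible complex character of N of 2-defect zero (the 2-part of #N divides φ(1)) whose complex conjugate is G-conjugate to φ. Then some irreducible character of G with Frobenius–Schur indicator +1 contains φ with multiplicity exactly one on restriction to N. -/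
theorem result {G : Type*} [Group G] [Finite G] (N : Subgroup G) [N.Normal] (h2 : IsPGroup 2 (G ⧸ N)) (φ : Cfsg.IrrCharacter ↥N) (hdef : 2 ^ (Nat.card ↥N).factorization 2 ∣ Cfsg.charDegree (φ : ↥N → ℂ)) (hconj : ∃ g : G, ∀ n n' : ↥N, (n' : G) = g * (n : G) * g⁻¹ → (φ : ↥N → ℂ) n' = (starRingEnd ℂ) ((φ : ↥N → ℂ) n)) : ∃ χ : Cfsg.IrrCharacter G, (Nat.card G : ℂ)⁻¹ * ∑ᶠ g : G, (χ : G → ℂ) (g * g) = 1 ∧ (Nat.card ↥N : ℂ)⁻¹ * ∑ᶠ n : ↥N, (χ : G → ℂ) n * (starRingEnd ℂ) ((φ : ↥N → ℂ) n) = 1 := by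
  classical
  haveI := Fintype.ofFinite G
  haveI : Fintype N := Fintype.ofFinite N
  haveI : Fact (Nat.Prime 2) := ⟨Nat.prime_two⟩
  simp only [finsum_eq_sum_of_fintype]
  obtain ⟨P⟩ : Nonempty (Sylow 2 G) := inferInstance
  haveI : Fintype (P : Subgroup G) := Fintype.ofFinite _
  obtain ⟨k, hkodd, hk⟩ := exists_odd_fixed N h2 φ hdef P
  obtain ⟨F, hF⟩ : ∃ F, F = Cfsg.indFun N (φ : N → ℂ) := ⟨_, rfl⟩
  have hFc : Cfsg.IsCharacter G F := hF ▸ IsCharacter.indFun (IsIrrCharacter.isCharacter φ.2)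
  have hFreal : ∀ g, conj (F g) = F g := by
    obtain ⟨c, hc⟩ := hconj
    intro g
    rw [hF]
    by_cases hg : g ∈ N
    · rw [show g = ((⟨g, hg⟩ : N) : G) from rfl, indFun_apply_normal]
      simp only [map_mul, map_inv₀, Complex.conj_natCast, map_sum]
      congr 1
      refine Fintype.sum_equiv (Equiv.mulLeft c) _ _ fun x => ?_
      rw [← hc _ ⟨(c * x) * g * (c * x)⁻¹, (inferInstance : N.Normal).conj_mem _ hg _⟩
        (by simp [mul_assoc])]
      rfl
    · rw [indFun_eq_zero_of_normal _ hg, map_zero]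
  rw [← hF] at hk
  have hexp : ∑ χ ∈ irrFinset G, Cfsg.classInner F χ *
      Cfsg.classInner (fun y : (P : Subgroup G) => χ y) (fun _ => (1 : ℂ)) = (k : ℂ) := by
    rw [← hk]
    conv_rhs => rw [eq_sum_irr (IsCharacter.isClassFunction hFc)]
    simp only [classInner_def, Finset.sum_apply, Pi.smul_apply, smul_eq_mul, Finset.mul_sum,
      Finset.sum_mul]
    rw [Finset.sum_comm]
    exact Finset.sum_congr rfl fun y _ => Finset.sum_congr rfl fun χ _ => Finset.sum_congr rfl fun z _ => by ring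
  have hnat : ∀ χ ∈ irrFinset G, ∃ a : ℕ, ∃ r : ℕ, Cfsg.classInner F χ = a ∧
      Cfsg.classInner (fun y : (P : Subgroup G) => χ y) (fun _ => (1 : ℂ)) = r ∧
      Cfsg.classInner F (fun g => conj (χ g)) = a ∧
      Cfsg.classInner (fun y : (P : Subgroup G) => conj (χ y)) (fun _ => (1 : ℂ)) = r := by
    intro χ hχ
    have hχ' := mem_irrFinset.1 hχ
    obtain ⟨a, ha⟩ := IsCharacter.exists_classInner_eq_natCast hFc hχ'
    obtain ⟨r, hr⟩ := IsCharacter.exists_classInner_eq_natCast'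
      (IsCharacter.restrict (IsIrrCharacter.isCharacter hχ') (P : Subgroup G)) isCharacter_one
    refine ⟨a, r, ha, hr, ?_, ?_⟩
    · have : Cfsg.classInner F (fun g => conj (χ g)) = Cfsg.classInner χ F := by
        rw [← classInner_conj_conj F χ]
        exact congrArg (fun f => Cfsg.classInner f _) (funext fun g => (hFreal g).symm)
      rw [this, ← classInner_conj, ha, Complex.conj_natCast]
    · have : Cfsg.classInner (fun y : (P : Subgroup G) => conj (χ y)) (fun _ => (1 : ℂ)) =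
          conj (Cfsg.classInner (fun y : (P : Subgroup G) => χ y) (fun _ => (1 : ℂ))) := by
        simp [classInner_def, map_sum]
      rw [this, hr, Complex.conj_natCast]
  choose! a r har using hnat
  have hconjmem : ∀ χ ∈ irrFinset G, (fun g => conj (χ g)) ∈ irrFinset G := fun χ hχ =>
    mem_irrFinset.2 (IsIrrCharacter.conj (mem_irrFinset.1 hχ))
  have hpair : ∀ χ ∈ irrFinset G, a (fun g => conj (χ g)) * r (fun g => conj (χ g)) = a χ * r χ := by
    intro χ hχ
    have h1 := (har χ hχ).2.2.1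
    have h2' := (har χ hχ).2.2.2
    rw [(har _ (hconjmem χ hχ)).1, Nat.cast_inj] at h1
    rw [(har _ (hconjmem χ hχ)).2.1, Nat.cast_inj] at h2'
    rw [h1, h2']
  obtain ⟨χ, hχ, hfix, hodd⟩ : ∃ χ ∈ irrFinset G, (fun g => conj (χ g)) = χ ∧ Odd (a χ * r χ) := by
    by_contra hnone
    have hk2 : ((∑ χ ∈ irrFinset G, a χ * r χ : ℕ) : ZMod 2) = 0 := by
      rw [Nat.cast_sum]
      refine Finset.sum_involution (fun χ _ => fun g => conj (χ g)) (fun χ hχ => ?_)
        (fun χ hχ hne0 h => hne0 ?_) hconjmem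
        (fun χ hχ => funext fun g => Complex.conj_conj _)
      · rw [hpair χ hχ, CharTwo.add_self_eq_zero]
      · rw [ZMod.natCast_eq_zero_iff_even, ← Nat.not_odd_iff_even]
        exact fun ho => hnone ⟨χ, hχ, h, ho⟩
    have : (∑ χ ∈ irrFinset G, a χ * r χ) = k := by
      rw [← Nat.cast_inj (R := ℂ), ← hexp, Nat.cast_sum]
      exact Finset.sum_congr rfl fun χ hχ => by rw [Nat.cast_mul, (har χ hχ).1, (har χ hχ).2.1]
    rw [this, ZMod.natCast_eq_zero_iff_even] at hk2
    exact Nat.not_even_iff_odd.2 hkodd hk2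
  have hχ' := mem_irrFinset.1 hχ
  obtain ⟨hao, hro⟩ := Nat.odd_mul.1 hodd
  have hν := IsIrrCharacter.indicator_eq_one_of_odd_fixed hχ'
    (fun g => Complex.conj_eq_iff_im.1 (congrFun hfix g)) (P : Subgroup G) (har χ hχ).2.1 hro
  have hm : Cfsg.classInner (fun n : N => χ n) (φ : N → ℂ) = a χ := by
    rw [← classInner_conj, ← classInner_indFun _ (IsIrrCharacter.isClassFunction hχ'), ← hF,
      (har χ hχ).1, Complex.conj_natCast]
  have ha0 : a χ ≠ 0 := fun h => by simp [h] at hao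
  have hne : Cfsg.classInner (fun n : N => χ n) (φ : N → ℂ) ≠ 0 := by
    rw [hm]; exact_mod_cast ha0
  have ha1 : a χ = 1 := by
    obtain ⟨j, hj, hj1⟩ := exists_degree_ratio hχ' φ.2 hne
    have h1 := degree_eq_mul hχ' φ.2 hne
    rw [hj1, hm, ← Nat.cast_mul] at h1
    have h2' := mul_right_cancel₀ (IsIrrCharacter.apply_one_ne_zero φ.2) h1
    rw [Nat.cast_inj] at h2'
    obtain ⟨b, hb⟩ := IsPGroup.iff_card.1 h2
    rw [Subgroup.index_eq_card, hb, h2'] at hj
    obtain ⟨i, -, hi⟩ := (Nat.dvd_prime_pow Nat.prime_two).1 ((dvd_mul_right _ _).trans hj)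
    rcases Nat.eq_zero_or_pos i with rfl | hi0
    · rw [hi, pow_zero]
    · rw [hi, Nat.odd_pow_iff hi0.ne'] at hao
      exact absurd hao (by decide)
  refine ⟨⟨χ, hχ'⟩, hν, ?_⟩
  rw [ha1, Nat.cast_one, classInner_def] at hm
  exact hm

end Cfsg.Agent.S4872
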