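import Cfsg.Statements.S4873
import Cfsg.Agent.Char.OddIndexReal

set_option autoImplicit false
open Cfsg

namespace Cfsg.Agent.S4873

/-- Let N be a normal subgroup of odd index in the finite group G. Then every irreducible complex character of N with Frobenius–Schur indicator +1 lies under exactly one irreducible character of G with Frobenius–Schur indicator +1. -/
theorem result {G : Type*} [Group G] [Finite G] (N : Subgroup G) [N.Normal] (hodd : Odd N.index) (φ : Cfsg.IrrCharacter ↥N) (hφ : (Nat.card ↥N : ℂ)⁻¹ * ∑ᶠ g : ↥N, (φ : ↥N → ℂ) (g * g) = 1) : ∃! χ : Cfsg.IrrCharacter G, (Nat.card G : ℂ)⁻¹ * ∑ᶠ g : G, (χ : G → ℂ) (g * g) = 1 ∧ (∑ᶠ n : ↥N, (χ : G → ℂ) n * (starRingEnd ℂ) ((φ : ↥N → ℂ) n)) ≠ 0 := by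
  classical
  haveI := Fintype.ofFinite G
  haveI : Fintype N := Fintype.ofFinite N
  simp only [finsum_eq_sum_of_fintype] at hφ ⊢
  have hiff : ∀ χ : G → ℂ, (∑ n : N, χ n * (starRingEnd ℂ) ((φ : N → ℂ) n) ≠ 0) ↔
      Cfsg.classInner (fun n : N => χ n) (φ : N → ℂ) ≠ 0 := fun χ => by
    rw [CfsgLib.Char.classInner_def]
    simp
  simp only [hiff]
  -- real characters over φ are unique
  have huniq : ∀ χ ψ : Cfsg.IrrCharacter G,
      (∀ g, ((χ : G → ℂ) g).im = 0) → (∀ g, ((ψ : G → ℂ) g).im = 0) →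
      Cfsg.classInner (fun n : N => (χ : G → ℂ) n) (φ : N → ℂ) ≠ 0 →
      Cfsg.classInner (fun n : N => (ψ : G → ℂ) n) (φ : N → ℂ) ≠ 0 → χ = ψ :=
    fun χ ψ h1 h2 h3 h4 => Subtype.ext
      (CfsgLib.Char.OddIndex.eq_of_real hodd χ.2 ψ.2 h1 h2 φ.2 h3 h4)
  have hreal : ∀ χ : G → ℂ, Cfsg.IsIrrCharacter G χ →
      (Nat.card G : ℂ)⁻¹ * ∑ g : G, χ (g * g) ≠ 0 → ∀ g, (χ g).im = 0 := fun χ hχ h => by
    rcases CfsgLib.Char.IsIrrCharacter.fs_indicator hχ with ⟨-, h0⟩ | ⟨hr, -⟩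
    · exact absurd h0 h
    · exact hr
  -- the indicator sum
  have hind := CfsgLib.Char.OddIndex.indicator_indFun hodd (φ : N → ℂ)
  rw [hφ] at hind
  have hexp : ∀ x : G, Cfsg.indFun N (φ : N → ℂ) x =
      ∑ χ ∈ CfsgLib.Char.irrFinset G,
        Cfsg.classInner (Cfsg.indFun N (φ : N → ℂ)) χ * χ x := fun x => by
    conv_lhs => rw [CfsgLib.Char.eq_sum_irr (CfsgLib.Char.isClassFunction_indFun N (φ : N → ℂ))]
    simp [Finset.sum_apply]
  simp only [hexp, Finset.mul_sum] at hind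
  rw [Finset.sum_comm] at hind
  obtain ⟨χ, hχmem, hχne⟩ := Finset.exists_ne_zero_of_sum_ne_zero (hind ▸ one_ne_zero)
  have hsingle : ∀ ξ ∈ CfsgLib.Char.irrFinset G, ξ ≠ χ →
      ∑ g : G, (Nat.card G : ℂ)⁻¹ *
        (Cfsg.classInner (Cfsg.indFun N (φ : N → ℂ)) ξ * ξ (g * g)) = 0 := by
    intro ξ hξ hne
    by_contra h
    simp only [mul_left_comm _ (Cfsg.classInner _ _), ← Finset.mul_sum, mul_eq_zero, not_or] at h
    have hh := hχne
    simp only [mul_left_comm _ (Cfsg.classInner _ _), ← Finset.mul_sum] at hh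
    rw [mul_ne_zero_iff] at hh
    have hξ' := CfsgLib.Char.mem_irrFinset.1 hξ
    have hχ' := CfsgLib.Char.mem_irrFinset.1 hχmem
    have key : ∀ θ : G → ℂ, Cfsg.IsIrrCharacter G θ →
        Cfsg.classInner (Cfsg.indFun N (φ : N → ℂ)) θ ≠ 0 →
        Cfsg.classInner (fun n : N => θ n) (φ : N → ℂ) ≠ 0 := fun θ hθ h0 h1 => h0 <| by
      rw [CfsgLib.Char.classInner_indFun _ (CfsgLib.Char.IsIrrCharacter.isClassFunction hθ),
        ← CfsgLib.Char.classInner_conj, h1, map_zero]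
    exact hne (congrArg Subtype.val (huniq ⟨ξ, hξ'⟩ ⟨χ, hχ'⟩ (hreal ξ hξ' (mul_ne_zero_iff.2 h.2))
      (hreal χ hχ' hh.2) (key ξ hξ' h.1) (key χ hχ' hh.1)))
  rw [Finset.sum_eq_single χ hsingle fun h => absurd hχmem h] at hind
  simp only [mul_left_comm _ (Cfsg.classInner _ _), ← Finset.mul_sum] at hind hχne
  rw [mul_ne_zero_iff] at hχne
  have hχ' := CfsgLib.Char.mem_irrFinset.1 hχmem
  obtain ⟨k, hk⟩ := CfsgLib.Char.IsCharacter.exists_classInner_eq_natCast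
    (CfsgLib.Char.IsCharacter.indFun (H := N) (CfsgLib.Char.IsIrrCharacter.isCharacter φ.2)) hχ'
  have hν : (Nat.card G : ℂ)⁻¹ * ∑ g : G, χ (g * g) = 1 := by
    rcases CfsgLib.Char.IsIrrCharacter.fs_indicator hχ' with ⟨-, h⟩ | ⟨-, h | ⟨h, -⟩⟩
    · exact absurd h hχne.2
    · exact h
    · rw [h, hk] at hind
      have := congrArg Complex.re hind
      simp at this
      have : (0 : ℝ) ≤ k := Nat.cast_nonneg k
      linarith
  have hχN : Cfsg.classInner (fun n : N => χ n) (φ : N → ℂ) ≠ 0 := fun h1 => hχne.1 <| by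
    rw [CfsgLib.Char.classInner_indFun _ (CfsgLib.Char.IsIrrCharacter.isClassFunction hχ'),
      ← CfsgLib.Char.classInner_conj, h1, map_zero]
  refine ⟨⟨χ, hχ'⟩, ⟨hν, hχN⟩, fun ψ hψ => ?_⟩
  exact huniq ψ ⟨χ, hχ'⟩ (hreal _ ψ.2 (by rw [hψ.1]; exact one_ne_zero))
    (hreal χ hχ' (by rw [hν]; exact one_ne_zero)) hψ.2 hχN

end Cfsg.Agent.S4873
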