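import Cfsg.Statements.S4885
import Cfsg.Agent.FGSB.EqualPrimeDegree

set_option autoImplicit false
open Cfsg

namespace Cfsg.Agent.S4885

/-- Let p and q be primes dividing the order of the finite group G, and suppose G is p-solvable and q-solvable. Fix maximal ideals of the algebraic integers containing p and q, defining the principal p-block and the principal q-block. If the irreducible characters of degree prime to p in the principal p-block are exactly the irreducible characters of degree prime to q in the principal q-block, then p = q. -/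
theorem result {G : Type*} [Group G] [Finite G] (p q : ℕ) [Fact p.Prime] [Fact q.Prime] (hp : p ∣ Nat.card G) (hq : q ∣ Nat.card G) (hps : Cfsg.IsPSolvable p G) (hqs : Cfsg.IsPSolvable q G) (Mp Mq : Ideal Cfsg.AlgInt) (hMp : Cfsg.IsPModular p Mp) (hMq : Cfsg.IsPModular q Mq) (h : ∀ χ : Cfsg.IrrCharacter G, (χ ∈ Cfsg.principalBlock Mp G ∧ ¬ p ∣ Cfsg.charDegree (χ : G → ℂ)) ↔ (χ ∈ Cfsg.principalBlock Mq G ∧ ¬ q ∣ Cfsg.charDegree (χ : G → ℂ))) : p = q := by
  classical
  haveI := Fintype.ofFinite G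
  haveI := hMp.2.1
  haveI := hMq.2.1
  have hBp := (CfsgLib.Block.principalBlock_of_constrained hMp
    (CfsgLib.Block.selfCent_quotient_of_pSolvable hps)).1
  have hBq := (CfsgLib.Block.principalBlock_of_constrained hMq
    (CfsgLib.Block.selfCent_quotient_of_pSolvable hqs)).1
  by_contra hpq
  obtain ⟨N, hN⟩ : ∃ N, Cfsg.pPrimeCore p G = N := ⟨_, rfl⟩
  obtain ⟨M, hM⟩ : ∃ M, Cfsg.pPrimeCore q G = M := ⟨_, rfl⟩
  obtain ⟨L, hL⟩ : ∃ L, M ⊓ N = L := ⟨_, rfl⟩
  haveI : N.Normal := hN ▸ CfsgLib.Solvable.pPrimeCore_normal p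
  haveI : M.Normal := hM ▸ CfsgLib.Solvable.pPrimeCore_normal q
  haveI : L.Normal := hL ▸ inferInstance
  have hNp : ¬ p ∣ Nat.card N := fun hd => (Fact.out : p.Prime).ne_one (Nat.eq_one_of_dvd_coprimes
    (hN ▸ CfsgLib.Solvable.coprime_card_pPrimeCore p) hd dvd_rfl)
  have hMq' : ¬ q ∣ Nat.card M := fun hd => (Fact.out : q.Prime).ne_one (Nat.eq_one_of_dvd_coprimes
    (hM ▸ CfsgLib.Solvable.coprime_card_pPrimeCore q) hd dvd_rfl)
  obtain ⟨P⟩ : Nonempty (Sylow p G) := inferInstance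
  obtain ⟨Q⟩ : Nonempty (Sylow q G) := inferInstance
  have hkM := CfsgLib.EqualPrimeDegree.image_data P N M L
    (fun S hS hc => hN ▸ CfsgLib.Solvable.le_pPrimeCore p hS hc) hNp hL
    fun χ hχ hd => hM ▸ (hBq χ).1 ((h χ).1 ⟨(hBp χ).2 (hN ▸ hχ), hd⟩).1
  have hkN := CfsgLib.EqualPrimeDegree.image_data Q M N L
    (fun S hS hc => hM ▸ CfsgLib.Solvable.le_pPrimeCore q hS hc) hMq' (inf_comm M N ▸ hL)
    fun χ hχ hd => hN ▸ (hBp χ).1 ((h χ).2 ⟨(hBq χ).2 (hM ▸ hχ), hd⟩).1
  have hLtop : L ≠ ⊤ := fun ht => hNp (by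
    rw [top_le_iff.1 (ht ▸ hL ▸ inf_le_right : ⊤ ≤ N), Subgroup.card_top]; exact hp)
  haveI : Nontrivial (G ⧸ L) := QuotientGroup.nontrivial_iff.2 hLtop
  haveI := (inferInstance : M.Normal).map (QuotientGroup.mk' L) (QuotientGroup.mk'_surjective L)
  haveI := (inferInstance : N.Normal).map (QuotientGroup.mk' L) (QuotientGroup.mk'_surjective L)
  exact CfsgLib.EqualPrimeDegree.not_isPSolvable_of_frattini hpq
    (CfsgLib.PConstrained.isPSolvable_map _ (QuotientGroup.mk'_surjective L) hps)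
    (CfsgLib.PConstrained.isPSolvable_map _ (QuotientGroup.mk'_surjective L) hqs)
    hkM.1 hkN.1
    (CfsgLib.EqualPrimeDegree.le_map_of_coprime L M (hL ▸ inf_le_left) hM.symm)
    (CfsgLib.EqualPrimeDegree.le_map_of_coprime L N (hL ▸ inf_le_right) hN.symm)
    (sup_le hkM.2 hkN.2)

end Cfsg.Agent.S4885
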