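import Cfsg.Statements.S4886
import Cfsg.Agent.FGSB.CrossDegree

set_option autoImplicit false
open Cfsg

namespace Cfsg.Agent.S4886

/-- Let p ≠ q be primes and G a finite group that is p-solvable and q-solvable. Fix maximal ideals of the algebraic integers containing p and q, defining the principal p-block and the principal q-block. Then every irreducible character of degree prime to p in the principal p-block has degree prime to q and every irreducible character of degree prime to q in the principal q-block has degree prime to p, if and only if some Sylow p-subgroup of G commutes elementwise with some Sylow q-subgroup. -/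
theorem result {G : Type*} [Group G] [Finite G] (p q : ℕ) [Fact p.Prime] [Fact q.Prime] (hpq : p ≠ q) (Mp Mq : Ideal Cfsg.AlgInt) (hMp : Cfsg.IsPModular p Mp) (hMq : Cfsg.IsPModular q Mq) (hps : Cfsg.IsPSolvable p G) (hqs : Cfsg.IsPSolvable q G) : ((∀ χ : Cfsg.IrrCharacter G, χ ∈ Cfsg.principalBlock Mp G → ¬ p ∣ Cfsg.charDegree (χ : G → ℂ) → ¬ q ∣ Cfsg.charDegree (χ : G → ℂ)) ∧ (∀ χ : Cfsg.IrrCharacter G, χ ∈ Cfsg.principalBlock Mq G → ¬ q ∣ Cfsg.charDegree (χ : G → ℂ) → ¬ p ∣ Cfsg.charDegree (χ : G → ℂ))) ↔ ∃ (P : Sylow p G) (Q : Sylow q G), ∀ x ∈ (P : Subgroup G), ∀ y ∈ (Q : Subgroup G), x * y = y * x := by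
  classical
  haveI := Fintype.ofFinite G
  haveI := hMp.2.1
  haveI := hMq.2.1
  haveI := CfsgLib.Solvable.pPrimeCore_normal (G := G) p
  haveI := CfsgLib.Solvable.pPrimeCore_normal (G := G) q
  have hBp := (CfsgLib.Block.principalBlock_of_constrained hMp
    (CfsgLib.Block.selfCent_quotient_of_pSolvable hps)).1
  have hBq := (CfsgLib.Block.principalBlock_of_constrained hMq
    (CfsgLib.Block.selfCent_quotient_of_pSolvable hqs)).1
  -- the conditions say that the cores have index prime to the other prime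
  have key : ∀ (r s : ℕ) [Fact r.Prime] [Fact s.Prime], r ≠ s → Cfsg.IsPSolvable r G →
      Cfsg.IsPSolvable s G →
      (∀ χ : Cfsg.IrrCharacter G, (∀ k ∈ Cfsg.pPrimeCore r G, (χ : G → ℂ) k = (χ : G → ℂ) 1) →
        ¬ r ∣ Cfsg.charDegree (χ : G → ℂ) → ¬ s ∣ Cfsg.charDegree (χ : G → ℂ)) →
      ¬ s ∣ (Cfsg.pPrimeCore r G).index := by
    intro r s _ _ hrs hr hs hχ
    haveI := CfsgLib.Solvable.pPrimeCore_normal (G := G) r
    have hsur := QuotientGroup.mk'_surjective (Cfsg.pPrimeCore r G)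
    rw [Subgroup.index_eq_card]
    refine CfsgLib.CrossDegree.not_dvd_card hrs (CfsgLib.PConstrained.isPSolvable_map _ hsur hr)
      (CfsgLib.PConstrained.isPSolvable_map _ hsur hs)
      (CfsgLib.Fitting.pPrimeCore_quotient_eq_bot r) fun σ hσ => ?_
    refine hχ ⟨_, CfsgLib.Char.IsIrrCharacter.comp_surjective σ.2 _ hsur⟩ (fun k hk => ?_) hσ
    exact congrArg (σ : G ⧸ Cfsg.pPrimeCore r G → ℂ) ((QuotientGroup.eq_one_iff k).2 hk)
  constructor
  · rintro ⟨h1, h2⟩
    have hqN := key p q hpq hps hqs fun χ hχ => h1 χ ((hBp χ).2 hχ)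
    have hpM := key q p hpq.symm hqs hps fun χ hχ => h2 χ ((hBq χ).2 hχ)
    obtain ⟨P⟩ : Nonempty (Sylow p G) := inferInstance
    have hpN : ¬ p ∣ Nat.card (Cfsg.pPrimeCore p G) := fun hd => (Fact.out : p.Prime).ne_one
      (Nat.eq_one_of_dvd_coprimes (CfsgLib.Solvable.coprime_card_pPrimeCore p) hd dvd_rfl)
    obtain ⟨Q, hQN, hQq, hQrel, hPQ⟩ := CfsgLib.CrossDegree.exists_invSylow (q := q) P.2
      (by rw [Subgroup.normalizer_eq_top_iff.2
        (inferInstance : (Cfsg.pPrimeCore p G).Normal)]; exact le_top) hpN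
    have hQi : ¬ q ∣ Q.index := fun hd => by
      rw [← Subgroup.relIndex_mul_index hQN] at hd
      exact ((Fact.out : q.Prime).dvd_mul.1 hd).elim hQrel hqN
    refine ⟨P, hQq.toSylow hQi, fun x hx y hy => ?_⟩
    have hPM : (P : Subgroup G) ≤ Cfsg.pPrimeCore q G := by
      rw [← Subgroup.relIndex_eq_one]
      obtain ⟨a, ha⟩ := IsPGroup.iff_card.1 P.2
      exact Nat.eq_one_of_dvd_coprimes
        (((Fact.out : p.Prime).coprime_iff_not_dvd.2 hpM).pow_left a)
        (ha ▸ Subgroup.index_dvd_card ((Cfsg.pPrimeCore q G).subgroupOf (P : Subgroup G)))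
        (Subgroup.relIndex_dvd_index_of_normal _ _)
    have hy' : y ∈ Q := hy
    have hin : x * y * x⁻¹ * y⁻¹ ∈ Q ⊓ Cfsg.pPrimeCore q G := by
      refine Subgroup.mem_inf.2 ⟨Q.mul_mem
        ((Subgroup.mem_normalizer_iff.1 (hPQ hx) y).1 hy') (Q.inv_mem hy'), ?_⟩
      rw [show x * y * x⁻¹ * y⁻¹ = x * (y * x⁻¹ * y⁻¹) by group]
      exact Subgroup.mul_mem _ (hPM hx)
        ((inferInstance : (Cfsg.pPrimeCore q G).Normal).conj_mem _ (inv_mem (hPM hx)) y)
    obtain ⟨b, hb⟩ := IsPGroup.iff_card.1 hQq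
    rw [Subgroup.inf_eq_bot_of_coprime (hb ▸
      ((CfsgLib.Solvable.coprime_card_pPrimeCore q).symm.pow_left b)), Subgroup.mem_bot,
      mul_inv_eq_one, mul_inv_eq_iff_eq_mul] at hin
    exact hin
  · rintro ⟨P, Q, hPQ⟩
    -- a Sylow subgroup centralizing another one lies in the core
    have side : ∀ (r s : ℕ) [Fact r.Prime] [Fact s.Prime], r ≠ s → Cfsg.IsPSolvable r G →
        ∀ (R : Sylow r G) (S : Sylow s G), (∀ x ∈ (R : Subgroup G), ∀ y ∈ (S : Subgroup G),
          x * y = y * x) → ∀ χ : Cfsg.IrrCharacter G,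
        (∀ k ∈ Cfsg.pPrimeCore r G, (χ : G → ℂ) k = (χ : G → ℂ) 1) →
          ¬ s ∣ Cfsg.charDegree (χ : G → ℂ) := by
      intro r s _ _ hrs hr R S hRS χ hχ
      haveI := CfsgLib.Solvable.pPrimeCore_normal (G := G) r
      have hsur := QuotientGroup.mk'_surjective (Cfsg.pPrimeCore r G)
      have hsc := CfsgLib.Block.selfCent_quotient_of_pSolvable (G := G) hr
      have hS : (S : Subgroup G) ≤ Cfsg.pPrimeCore r G := by
        intro y hy
        have h1 : ((y : G) : G ⧸ Cfsg.pPrimeCore r G) ∈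
            Cfsg.pCore r (G ⧸ Cfsg.pPrimeCore r G) := by
          refine hsc (Subgroup.mem_centralizer_iff.2 fun z hz => ?_)
          have hz' := CfsgLib.Fitting.pCore_le_sylow (R.mapSurjective hsur) hz
          rw [Sylow.coe_mapSurjective] at hz'
          obtain ⟨x, hx, rfl⟩ := hz'
          exact congrArg (QuotientGroup.mk' (Cfsg.pPrimeCore r G)) (hRS x hx y hy)
        obtain ⟨a, ha⟩ := IsPGroup.iff_card.1
          (CfsgLib.Solvable.isPGroup_pCore (G := G ⧸ Cfsg.pPrimeCore r G) r)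
        obtain ⟨b, hb⟩ := IsPGroup.iff_card.1 S.2
        refine (QuotientGroup.eq_one_iff y).1 (orderOf_eq_one_iff.1 (Nat.eq_one_of_dvd_coprimes
          (Nat.Coprime.pow a b ((Nat.coprime_primes Fact.out Fact.out).2 hrs)) ?_ ?_))
        · rw [← ha]; exact Subgroup.orderOf_dvd_natCard _ h1
        · exact (orderOf_map_dvd (QuotientGroup.mk' (Cfsg.pPrimeCore r G)) y).trans
            (hb ▸ Subgroup.orderOf_dvd_natCard _ hy)
      obtain ⟨σ, hσ, hχσ⟩ := CfsgLib.Char.TwoClass.exists_deflate χ.2 hχ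
      obtain ⟨d, -, hd⟩ := CfsgLib.Char.IsIrrCharacter.exists_degree χ.2
      rw [CfsgLib.Char.charDegree_eq_natCast hd]
      intro hsd
      have hd' : σ 1 = (d : ℂ) := by rw [← hd, congrFun hχσ 1]; rfl
      have h2 := hsd.trans (CfsgLib.Char.IsIrrCharacter.degree_dvd_card hσ hd')
      rw [← Subgroup.index_eq_card] at h2
      exact S.not_dvd_index (h2.trans (Subgroup.index_dvd_of_le hS))
    exact ⟨fun χ hχ _ => side p q hpq hps P Q hPQ χ ((hBp χ).1 hχ),
      fun χ hχ _ => side q p hpq.symm hqs Q P (fun y hy x hx => (hPQ x hx y hy).symm) χ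
        ((hBq χ).1 hχ)⟩

end Cfsg.Agent.S4886
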