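import Cfsg.Statements.S4911
import Cfsg.Agent.GlaubermanCorr.Solvable
import Cfsg.Agent.GlaubermanCorr.Perm

set_option autoImplicit false
open Cfsg

namespace Cfsg.Agent.S4911

/-- Let P and K be subgroups of a finite group with P a p-group normalizing K and K of order prime to p. Then the number of P-invariant real-valued irreducible complex characters of K equals the number of conjugacy classes of K that are real (closed under inversion) and P-invariant. Moreover, if every real-valued irreducible character of K is P-invariant, then every real element of K (one conjugate in K to its inverse) is conjugate in K to an element centralized by P. -/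
theorem result {G : Type*} [Group G] [Finite G] (p : ℕ) [Fact p.Prime] (P K : Subgroup G) (hP : IsPGroup p ↥P) (hK : ¬ p ∣ Nat.card ↥K) (hPK : P ≤ Subgroup.normalizer (K : Set G)) : Nat.card {θ : Cfsg.IrrCharacter ↥K // (∀ k : ↥K, ((θ : ↥K → ℂ) k).im = 0) ∧ (∀ x ∈ P, ∀ k k' : ↥K, (k' : G) = x * (k : G) * x⁻¹ → (θ : ↥K → ℂ) k' = (θ : ↥K → ℂ) k)} = Nat.card {c : ConjClasses ↥K // (∀ k : ↥K, ConjClasses.mk k = c → IsConj k k⁻¹) ∧ ∀ k : ↥K, ConjClasses.mk k = c → ∀ x ∈ P, ∀ k' : ↥K, (k' : G) = x * (k : G) * x⁻¹ → ConjClasses.mk k' = c} ∧ ((∀ θ : Cfsg.IrrCharacter ↥K, (∀ k : ↥K, ((θ : ↥K → ℂ) k).im = 0) → (∀ x ∈ P, ∀ k k' : ↥K, (k' : G) = x * (k : G) * x⁻¹ → (θ : ↥K → ℂ) k' = (θ : ↥K → ℂ) k)) → ∀ k : ↥K, IsConj k k⁻¹ → ∃ k' : ↥K, IsConj k k' ∧ ∀ x ∈ P, x * (k' : G) * x⁻¹ = (k' : G)) := by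
  classical
  have := Fintype.ofFinite G
  have hp : p.Prime := Fact.out
  set C := K ⊓ Subgroup.centralizer (P : Set G)
  have hC : ∀ k, k ∈ C ↔ k ∈ K ∧ ∀ y ∈ P, y * k = k * y := fun k => by
    simp [C, Subgroup.mem_inf, Subgroup.mem_centralizer_iff]
  have hCK : C ≤ K := inf_le_left
  have hPK' : ∀ y ∈ P, ∀ k ∈ K, y * k * y⁻¹ ∈ K := fun y hy k hk =>
    (Subgroup.mem_normalizer_iff.mp (hPK hy) k).mp hk
  have hcop : (Nat.card ↥K).Coprime (Nat.card ↥P) := by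
    obtain ⟨a, ha⟩ := IsPGroup.iff_card.mp hP
    rw [ha]; exact Nat.Coprime.pow_right a (hp.coprime_iff_not_dvd.mpr hK).symm
  have hsol : Group.IsSolvable ↥P := by
    have : Group.IsNilpotent ↥P := hP.isNilpotent
    infer_instance
  have hC' : ∀ k, k ∈ C ↔ k ∈ K ∧ ∀ y ∈ P, y * k * y⁻¹ * k⁻¹ ∈ (⊥ : Subgroup G) := fun k => by
    simp only [hC, Subgroup.mem_bot, mul_inv_eq_one, mul_inv_eq_iff_eq_mul, one_mul]
  obtain ⟨f, hf, hm⟩ := CfsgLib.GlaubermanCorr.exists_correspondence hP bot_le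
    (fun k _ q hq => by rw [Subgroup.mem_bot] at hq ⊢; simp [hq]) IsPGroup.of_bot
    (by rw [Subgroup.relIndex_bot_left]; exact hK) hPK' hCK hC'
  have hinvC : ∀ β : IrrCharacter ↥C, CfsgLib.GlaubermanCorr.Inv C P (β : ↥C → ℂ) := fun β y hy k k' e => by
    rw [show k' = k from Subtype.ext (by rw [e, ((hC k).mp k.2).2 y hy]; simp)]
  -- complex conjugation
  let cK : IrrCharacter ↥K → IrrCharacter ↥K := fun χ => ⟨_, CfsgLib.Char.IsIrrCharacter.conj χ.2⟩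
  let cC : IrrCharacter ↥C → IrrCharacter ↥C := fun χ => ⟨_, CfsgLib.Char.IsIrrCharacter.conj χ.2⟩
  have hcK : ∀ χ : IrrCharacter ↥K, cK χ = χ ↔ ∀ k, ((χ : ↥K → ℂ) k).im = 0 := fun χ =>
    ⟨fun h k => Complex.conj_eq_iff_im.mp (congrArg (fun ψ : IrrCharacter ↥K => (ψ : ↥K → ℂ) k) h),
      fun h => Subtype.ext (funext fun k => Complex.conj_eq_iff_im.mpr (h k))⟩
  have hcC : ∀ χ : IrrCharacter ↥C, cC χ = χ ↔ ∀ k, ((χ : ↥C → ℂ) k).im = 0 := fun χ =>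
    ⟨fun h k => Complex.conj_eq_iff_im.mp (congrArg (fun ψ : IrrCharacter ↥C => (ψ : ↥C → ℂ) k) h),
      fun h => Subtype.ext (funext fun k => Complex.conj_eq_iff_im.mpr (h k))⟩
  let cK' : {χ : IrrCharacter ↥K // CfsgLib.GlaubermanCorr.Inv K P (χ : ↥K → ℂ)} →
      {χ : IrrCharacter ↥K // CfsgLib.GlaubermanCorr.Inv K P (χ : ↥K → ℂ)} := fun χ =>
    ⟨cK χ.1, fun y hy k k' e => congrArg (starRingEnd ℂ) (χ.2 y hy k k' e)⟩
  have hcomm : ∀ χ, (f (cK' χ)).1 = cC (f χ).1 := by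
    intro χ
    obtain ⟨m, h1, h2, -⟩ := hm χ (f χ)
    obtain ⟨n, k1, -, k3⟩ := hm (cK' χ) ⟨cC (f χ).1, hinvC _⟩
    by_contra hne
    have h0 := k3 fun e => hne (congrArg Subtype.val e).symm
    have e1 : (n : ℂ) = m := by
      rw [← k1, ← Complex.conj_natCast m, ← h1, CfsgLib.Char.classInner_conj]
      exact CfsgLib.Char.classInner_conj_conj _ _
    have e2 : n = m := by exact_mod_cast e1
    have := h2 rfl
    rw [← e2, h0] at this
    simp at this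
  have hreal : Nat.card {θ : IrrCharacter ↥K // (∀ k : ↥K, ((θ : ↥K → ℂ) k).im = 0) ∧
        CfsgLib.GlaubermanCorr.Inv K P (θ : ↥K → ℂ)} =
      Nat.card {ξ : IrrCharacter ↥C // ∀ k : ↥C, ((ξ : ↥C → ℂ) k).im = 0} := by
    refine Nat.card_eq_of_bijective (fun θ => ⟨(f ⟨θ.1, θ.2.2⟩).1, (hcC _).mp ?_⟩) ⟨fun a b h => ?_, fun ξ => ?_⟩
    · rw [← hcomm]
      exact congrArg (fun χ => (f χ).1) (Subtype.ext ((hcK θ.1).mpr θ.2.1))
    · have h' := congrArg Subtype.val h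
      exact Subtype.ext (congrArg Subtype.val (hf.1 (Subtype.ext h')) :)
    · obtain ⟨χ, hχ⟩ := hf.2 ⟨ξ.1, hinvC _⟩
      have hr : cK' χ = χ := hf.1 (Subtype.ext (by rw [hcomm, hχ]; exact (hcC ξ.1).mpr ξ.2))
      exact ⟨⟨χ.1, (hcK χ.1).mp (congrArg Subtype.val hr), χ.2⟩, Subtype.ext (congrArg Subtype.val hχ :)⟩
  obtain ⟨e, he, hemk⟩ := CfsgLib.GlaubermanCorr.exists_class_equiv hsol hPK' hcop hC
  have hkey : ∀ c : ↥C, IsConj c c⁻¹ ↔ IsConj (⟨(c : G), hCK c.2⟩ : ↥K) (⟨(c : G), hCK c.2⟩ : ↥K)⁻¹ := fun c => by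
    rw [← ConjClasses.mk_eq_mk_iff_isConj, ← ConjClasses.mk_eq_mk_iff_isConj]
    refine ⟨fun h => ?_, fun h => he.1 (Subtype.ext ?_)⟩
    · exact (hemk c).symm.trans ((congrArg (fun q => (e q).1) h).trans (hemk c⁻¹))
    · exact (hemk c).trans (h.trans (hemk c⁻¹).symm)
  have hrealK : ∀ k l : ↥K, IsConj k l → IsConj k k⁻¹ → IsConj l l⁻¹ := fun k l hkl hk => by
    obtain ⟨a, rfl⟩ := isConj_iff.mp hkl
    obtain ⟨b, hb⟩ := isConj_iff.mp hk
    refine isConj_iff.mpr ⟨a * b * a⁻¹, ?_⟩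
    rw [show (a * k * a⁻¹)⁻¹ = a * k⁻¹ * a⁻¹ by group, ← hb]
    group
  have hclass : Nat.card {c : ConjClasses ↥C // ∀ g, ConjClasses.mk g = c → IsConj g g⁻¹} =
      Nat.card {c : ConjClasses ↥K // (∀ k : ↥K, ConjClasses.mk k = c → IsConj k k⁻¹) ∧ ∀ k : ↥K,
        ConjClasses.mk k = c → ∀ x ∈ P, ∀ k' : ↥K, (k' : G) = x * (k : G) * x⁻¹ → ConjClasses.mk k' = c} := by
    refine Nat.card_eq_of_bijective (fun c => ⟨(e c.1).1, ?_, fun k hk x hx k' h' => (e c.1).2 x hx k k' h' hk⟩)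
      ⟨fun a b h => ?_, fun c => ?_⟩
    · intro k hk
      obtain ⟨c0, hc0⟩ := ConjClasses.mk_surjective c.1
      rw [← hc0, hemk] at hk
      exact hrealK _ _ (ConjClasses.mk_eq_mk_iff_isConj.mp hk).symm ((hkey c0).mp (c.2 c0 hc0))
    · have h' := congrArg Subtype.val h
      exact Subtype.ext (he.1 (Subtype.ext h'))
    · obtain ⟨q, hq⟩ := he.2 ⟨c.1, fun x hx k k' h' hk => c.2.2 k hk x hx k' h'⟩
      refine ⟨⟨q, fun g hg => (hkey g).mpr (c.2.1 _ ?_)⟩, Subtype.ext (congrArg Subtype.val hq :)⟩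
      rw [← hemk, hg]; exact congrArg Subtype.val hq
  have hmain := hreal.trans (CfsgLib.GlaubermanCorr.card_real_irr.trans hclass)
  refine ⟨hmain, fun hall k hk => ?_⟩
  have h1 : Nat.card {θ : IrrCharacter ↥K // (∀ k : ↥K, ((θ : ↥K → ℂ) k).im = 0) ∧
        CfsgLib.GlaubermanCorr.Inv K P (θ : ↥K → ℂ)} =
      Nat.card {θ : IrrCharacter ↥K // ∀ k : ↥K, ((θ : ↥K → ℂ) k).im = 0} :=
    Nat.card_congr (Equiv.subtypeEquivRight fun θ => ⟨And.left, fun h => ⟨h, hall θ h⟩⟩)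
  rw [h1, CfsgLib.GlaubermanCorr.card_real_irr] at hmain
  let ι : {c : ConjClasses ↥K // (∀ k : ↥K, ConjClasses.mk k = c → IsConj k k⁻¹) ∧ ∀ k : ↥K,
      ConjClasses.mk k = c → ∀ x ∈ P, ∀ k' : ↥K, (k' : G) = x * (k : G) * x⁻¹ → ConjClasses.mk k' = c} →
      {c : ConjClasses ↥K // ∀ g, ConjClasses.mk g = c → IsConj g g⁻¹} := fun c => ⟨c.1, c.2.1⟩
  have hι : Function.Bijective ι := (Nat.bijective_iff_injective_and_card ι).mpr
    ⟨fun a b h => Subtype.ext (congrArg Subtype.val h :), hmain.symm⟩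
  obtain ⟨c, hc⟩ := hι.2 ⟨ConjClasses.mk k, fun g hg => hrealK _ _ (ConjClasses.mk_eq_mk_iff_isConj.mp hg).symm hk⟩
  obtain ⟨q, hq⟩ := he.2 ⟨c.1, fun x hx k k' h' hk => c.2.2 k hk x hx k' h'⟩
  obtain ⟨c0, rfl⟩ := ConjClasses.mk_surjective q
  refine ⟨⟨(c0 : G), hCK c0.2⟩, ConjClasses.mk_eq_mk_iff_isConj.mp ?_, fun x hx => ?_⟩
  · rw [← hemk, hq]; exact (congrArg Subtype.val hc).symm
  · exact mul_inv_eq_iff_eq_mul.mpr (((hC c0).mp c0.2).2 x hx)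

end Cfsg.Agent.S4911
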