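import Cfsg.Statements.S4912
import Cfsg.Agent.Char.LinearTwist

set_option autoImplicit false
open Cfsg

namespace Cfsg.Agent.S4912

/-- Let G be a finite group with a non-abelian minimal normal subgroup N, and let φ be an irreducible complex character of N with stabilizer I in G such that φ extends to an irreducible character of I with Frobenius–Schur indicator +1. Put d = φ(1)·[G : I]. Then the number of linear characters of G with Frobenius–Schur indicator +1 is at most [G : I] times the number of irreducible characters of G of degree d with Frobenius–Schur indicator +1. -/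
theorem result {G : Type*} [Group G] [Finite G] (N : Subgroup G) (hN : N.Normal) (hN1 : N ≠ ⊥) (hmin : ∀ M : Subgroup G, M.Normal → M ≤ N → M = ⊥ ∨ M = N) (hna : ¬ IsMulCommutative ↥N) (φ : Cfsg.IrrCharacter ↥N) (I : Subgroup G) (hI : ∀ g : G, g ∈ I ↔ ∀ n n' : ↥N, (n' : G) = g * (n : G) * g⁻¹ → (φ : ↥N → ℂ) n' = (φ : ↥N → ℂ) n) (hNI : N ≤ I) (hext : ∃ ψ : Cfsg.IrrCharacter ↥I, (Nat.card ↥I : ℂ)⁻¹ * ∑ᶠ g : ↥I, (ψ : ↥I → ℂ) (g * g) = 1 ∧ ∀ n : ↥N, (ψ : ↥I → ℂ) (Subgroup.inclusion hNI n) = (φ : ↥N → ℂ) n) : Nat.card {χ : Cfsg.IrrCharacter G // Cfsg.charDegree (χ : G → ℂ) = 1 ∧ (Nat.card G : ℂ)⁻¹ * ∑ᶠ g : G, (χ : G → ℂ) (g * g) = 1} ≤ I.index * Nat.card {χ : Cfsg.IrrCharacter G // Cfsg.charDegree (χ : G → ℂ) = Cfsg.charDegree (φ : ↥N → ℂ) * I.index ∧ (Nat.card G : ℂ)⁻¹ * ∑ᶠ g : G, (χ : G → ℂ) (g * g) = 1} := by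
  classical
  haveI := Fintype.ofFinite G
  haveI := hN
  haveI : Fintype I := Fintype.ofFinite I
  haveI : Finite (Cfsg.IrrCharacter G) := CfsgLib.Char.finite_irrCharacter G
  have hNc := CfsgLib.Char.le_commutator_of_minimal hN hmin hna
  have hIe : CfsgLib.Char.inertia (φ : N → ℂ) = I := by
    ext g
    rw [CfsgLib.Char.mem_inertia_iff, hI]
    refine ⟨fun h n n' hn => ?_, fun h n => h n _ rfl⟩
    rw [← h n]
    exact congrArg _ (Subtype.ext hn)
  simp only [finsum_eq_sum_of_fintype] at hext ⊢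
  obtain ⟨ψ, hψν, hψe⟩ := hext
  obtain ⟨hind, hfib⟩ := CfsgLib.Char.twist_data hNI φ.2 hIe ψ.2 hψe hNc
  have hdeg : ∀ lam : G →* ℂˣ,
      Cfsg.charDegree (Cfsg.indFun I (ψ : I → ℂ) * fun g => (lam g : ℂ)) =
        Cfsg.charDegree (φ : N → ℂ) * I.index := by
    intro lam
    have h1 : (ψ : I → ℂ) 1 = (φ : N → ℂ) 1 := by rw [← hψe 1, map_one]
    rw [Cfsg.charDegree, Pi.mul_apply, map_one, Units.val_one, mul_one, CfsgLib.Char.indFun_one,
      h1, (CfsgLib.BlocksB.charDegree_spec φ.2).1, ← Nat.cast_mul, Complex.natCast_re,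
      Nat.floor_natCast, mul_comm]
  have hψr : ∀ g, ((ψ : I → ℂ) g).im = 0 := by
    rcases CfsgLib.Char.IsIrrCharacter.fs_indicator ψ.2 with ⟨-, h0⟩ | ⟨hr, -⟩
    · exact absurd (h0.symm.trans hψν) zero_ne_one
    · exact hr
  have hindr : ∀ g, (Cfsg.indFun I (ψ : I → ℂ) g).im = 0 := fun g => by
    rw [← Complex.conj_eq_iff_im, CfsgLib.Char.indFun_def, map_mul, map_inv₀,
      Complex.conj_natCast, map_sum]
    congr 1
    refine Finset.sum_congr rfl fun x _ => ?_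
    rw [CfsgLib.Char.extendByZero_eq]
    split_ifs with h
    · exact Complex.conj_eq_iff_im.2 (hψr _)
    · exact map_zero _
  have hmult : Cfsg.classInner (fun h : I => Cfsg.indFun I (ψ : I → ℂ) h) (ψ : I → ℂ) =
      ((1 : ℕ) : ℂ) := by
    rw [← CfsgLib.Char.classInner_indFun_right
      (CfsgLib.Char.IsIrrCharacter.isClassFunction hind),
      CfsgLib.Char.IsIrrCharacter.classInner_self hind, Nat.cast_one]
  have hν := CfsgLib.Char.indicator_mul_eq_one_of_odd hind ψ.2 hindr hψr hmult odd_one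
  rw [hψν, mul_one] at hν
  have hsq : ∀ (lam : G →* ℂˣ), (Nat.card G : ℂ)⁻¹ * ∑ g : G, (lam (g * g) : ℂ) = 1 →
      ∀ g, (lam (g * g) : ℂ) = 1 := by
    intro lam h g
    rcases CfsgLib.Char.IsIrrCharacter.fs_indicator (CfsgLib.Char.isIrrCharacter_ofHom lam) with
      ⟨-, h0⟩ | ⟨hr, -⟩
    · exact absurd (h0.symm.trans h) zero_ne_one
    · rw [map_mul, Units.val_mul]
      nth_rewrite 2 [← Complex.conj_eq_iff_im.2 (hr g)]
      rw [CfsgLib.Char.conj_eq_inv_hom, ← Units.val_mul, ← map_mul, mul_inv_cancel, map_one,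
        Units.val_one]
  have hνl : ∀ lam : G →* ℂˣ, (Nat.card G : ℂ)⁻¹ * ∑ g : G, (lam (g * g) : ℂ) = 1 →
      (Nat.card G : ℂ)⁻¹ * ∑ g : G,
        (Cfsg.indFun I (ψ : I → ℂ) * fun g => (lam g : ℂ)) (g * g) = 1 := fun lam h => by
    rw [← hν]
    simp only [Pi.mul_apply, hsq lam h, mul_one]
  have hcount := CfsgLib.Char.card_le_index_mul I
    (fun lam => (Nat.card G : ℂ)⁻¹ * ∑ g : G, (lam (g * g) : ℂ) = 1)
    (β := {χ : Cfsg.IrrCharacter G // Cfsg.charDegree (χ : G → ℂ) =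
      Cfsg.charDegree (φ : N → ℂ) * I.index ∧
      (Nat.card G : ℂ)⁻¹ * ∑ g : G, (χ : G → ℂ) (g * g) = 1})
    (fun a => ⟨⟨_, CfsgLib.Char.IsIrrCharacter.mul_hom hind a.1⟩, hdeg a.1, hνl a.1 a.2⟩)
    fun a b h => hfib a.1 b.1 (congrArg (fun c => (c.1 : G → ℂ)) h)
  refine le_trans (le_of_eq ?_) hcount
  symm
  refine (Nat.card_congr ((CfsgLib.Char.linearCharEquiv (G := G)).subtypeEquiv
    (q := fun χ => (Nat.card G : ℂ)⁻¹ * ∑ g : G, (χ.1 : G → ℂ) (g * g) = 1) fun lam => Iff.rfl)).trans ?_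
  refine (Nat.card_congr (Equiv.subtypeSubtypeEquivSubtypeInter _
    (fun χ : Cfsg.IrrCharacter G =>
      (Nat.card G : ℂ)⁻¹ * ∑ g : G, (χ : G → ℂ) (g * g) = 1))).trans ?_
  refine Nat.card_congr (Equiv.subtypeEquivRight fun χ => ?_)
  rw [(CfsgLib.BlocksB.charDegree_spec χ.2).1, Nat.cast_eq_one]

end Cfsg.Agent.S4912
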