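import Cfsg.Statements.S4914
import Cfsg.Agent.GlaubermanCorr.Main

set_option autoImplicit false
open Cfsg

namespace Cfsg.Agent.S4914

/-- Let P and K be subgroups of a finite group G with P a p-group normalizing K, and suppose K has a normal Sylow p-subgroup Q. Let C be the subgroup of those k ∈ K whose commutator with every element of P lies in Q (so that C/Q is the fixed-point subgroup of P on K/Q). Then there is a bijection f from the P-invariant irreducible complex characters of K onto the P-invariant irreducible complex characters of C such that, for every P-invariant irreducible character χ of K, the multiplicity of f(χ) in the restriction of χ to C is a natural number congruent to 1 or to −1 modulo p, every other P-invariant irreducible character of C occurs in that restriction with multiplicity divisible by p, and the degrees of χ and f(χ) are congruent modulo p up to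 sign. -/
theorem result {G : Type*} [Group G] [Finite G] (p : ℕ) [Fact p.Prime] (P K Q C : Subgroup G) (hP : IsPGroup p ↥P) (hPK : P ≤ Subgroup.normalizer (K : Set G)) (hQK : Q ≤ K) (hQn : ∀ k ∈ K, ∀ q ∈ Q, k * q * k⁻¹ ∈ Q) (hQp : ∃ a : ℕ, Nat.card ↥Q = p ^ a) (hQsyl : ¬ p ∣ Q.relIndex K) (hCK : C ≤ K) (hC : ∀ k : G, k ∈ C ↔ (k ∈ K ∧ ∀ x ∈ P, x * k * x⁻¹ * k⁻¹ ∈ Q)) : ∃ f : {χ : Cfsg.IrrCharacter ↥K // (∀ x ∈ P, ∀ k k' : ↥K, (k' : G) = x * (k : G) * x⁻¹ → (χ : ↥K → ℂ) k' = (χ : ↥K → ℂ) k)} → {ξ : Cfsg.IrrCharacter ↥C // (∀ x ∈ P, ∀ k k' : ↥C, (k' : G) = x * (k : G) * x⁻¹ → (ξ : ↥C → ℂ) k' = (ξ : ↥C → ℂ) k)}, Function.Bijective f ∧ ∀ χ, (∀ ξ : {ξ : Cfsg.IrrCharacter ↥C // (∀ x ∈ P, ∀ k k' : ↥C, (k' : G) = x * (k : G) * x⁻¹ → (ξ : ↥C → ℂ) k' = (ξ : ↥C → ℂ) k)}, ∃ m : ℕ, (Nat.card ↥C : ℂ)⁻¹ * ∑ᶠ c : ↥C, (χ.1 : ↥K → ℂ) (Subgroup.inclusion hCK c) * (starRingEnd ℂ) ((ξ.1 : ↥C → ℂ) c)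 = (m : ℂ) ∧ (ξ = f χ → ((m : ZMod p) = 1 ∨ (m : ZMod p) = -1)) ∧ (ξ ≠ f χ → p ∣ m)) ∧ ((Cfsg.charDegree ((f χ).1 : ↥C → ℂ) : ZMod p) = (Cfsg.charDegree (χ.1 : ↥K → ℂ) : ZMod p) ∨ (Cfsg.charDegree ((f χ).1 : ↥C → ℂ) : ZMod p) = -(Cfsg.charDegree (χ.1 : ↥K → ℂ) : ZMod p)) := by
  classical
  have := Fintype.ofFinite G
  have hPK' : ∀ y ∈ P, ∀ k ∈ K, y * k * y⁻¹ ∈ K := fun y hy k hk =>
    (Subgroup.mem_normalizer_iff.mp (hPK hy) k).mp hk
  have hQp' : IsPGroup p ↥Q := hQp.elim fun a ha => IsPGroup.of_card ha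
  obtain ⟨f, hf, hm⟩ := CfsgLib.GlaubermanCorr.exists_correspondence hP hQK hQn hQp' hQsyl hPK' hCK hC
  have hQC : Q ≤ C := fun q hq => (hC q).mpr ⟨hQK hq, fun x hx => by
    obtain ⟨e, he⟩ := hQp' ⟨q, hq⟩
    refine mul_mem (CfsgLib.GlaubermanCorr.mem_of_pow_eq_one hQn hQsyl (hPK' x hx q (hQK hq)) (e := e) ?_) (inv_mem hq)
    rw [conj_pow, show q ^ p ^ e = 1 from congrArg Subtype.val he, mul_one, mul_inv_cancel]⟩
  have hPC : ∀ y ∈ P, ∀ k ∈ C, y * k * y⁻¹ ∈ C := fun y hy k hk => by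
    have h2 := mul_mem (hQC (((hC k).mp hk).2 y hy)) hk
    simpa using h2
  refine ⟨f, hf, fun χ => ⟨fun ξ => ?_, ?_⟩⟩
  · obtain ⟨m, h1, h2, h3⟩ := hm χ ξ
    refine ⟨m, ?_, fun h => sq_eq_one_iff.mp (h2 h), fun h => (ZMod.natCast_eq_zero_iff m p).mp (h3 h)⟩
    rw [← h1, finsum_eq_sum_of_fintype]
    rfl
  · obtain ⟨m, h1, h2, -⟩ := hm χ (f χ)
    have := CfsgLib.GlaubermanCorr.degree_congr hP hPK' hPC hCK χ.1 χ.2 (f χ).1 (f χ).2 (fun ξ hξ hne => by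
      obtain ⟨n, hn, -, hn0⟩ := hm χ ⟨ξ, hξ⟩
      exact ⟨n, hn, hn0 fun h => hne (congrArg Subtype.val h)⟩) m h1
    rw [this]
    rcases sq_eq_one_iff.mp (h2 rfl) with h | h <;> simp [h]

end Cfsg.Agent.S4914
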