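import Cfsg.Statements.S4916
import Cfsg.Agent.Blocks.Principal

set_option autoImplicit false
open Cfsg

namespace Cfsg.Agent.S4916

/-- Let G be a finite group, p a prime and M a maximal ideal of the algebraic integers containing p. Then the principal character is the only irreducible character of degree prime to p in the principal p-block of G if and only if p does not divide the order of G. -/
theorem result {G : Type*} [Group G] [Finite G] (p : ℕ) [Fact p.Prime] (M : Ideal Cfsg.AlgInt) (hM : Cfsg.IsPModular p M) : (∀ χ : Cfsg.IrrCharacter G, χ ∈ Cfsg.principalBlock M G → ¬ p ∣ Cfsg.charDegree (χ : G → ℂ) → (χ : G → ℂ) = fun _ => (1 : ℂ)) ↔ ¬ p ∣ Nat.card G := by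
  classical
  have := Fintype.ofFinite G
  have : M.IsPrime := hM.2.1.isPrime
  let hFI := Fintype.ofFinite (Cfsg.IrrCharacter G)
  constructor
  · intro h hpG
    have hB := CfsgLib.Block.isIntClass_blockCoeff (CfsgLib.Block.isPBlock_principalBlock (G := G) (M := M))
    have h1 : Cfsg.MemLocalRing M (Cfsg.blockCoeff (Cfsg.principalBlock M G) (1 : G)) := hB.2 1
    rw [CfsgLib.Block.blockCoeff_eq_sum] at h1
    have h2 := CfsgLib.Block.memLocalIdeal_mul_left h1 ((CfsgLib.Block.memLocalIdeal_natCast_iff hM).mpr hpG)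
    rw [mul_right_comm, inv_mul_cancel₀ (Nat.cast_ne_zero.mpr Nat.card_pos.ne'), one_mul] at h2
    have hsum : ∑ χ ∈ Finset.univ.filter (· ∈ Cfsg.principalBlock M G), (χ : G → ℂ) 1 * (starRingEnd ℂ) ((χ : G → ℂ) 1) =
        ((∑ χ ∈ Finset.univ.filter (· ∈ Cfsg.principalBlock M G), Cfsg.charDegree (χ : G → ℂ) ^ 2 : ℕ) : ℂ) := by
      rw [Nat.cast_sum]
      exact Finset.sum_congr rfl fun χ _ => by rw [(CfsgLib.Block.Chr.irr_one χ).1, Complex.conj_natCast, Nat.cast_pow, sq]
    rw [hsum, CfsgLib.Block.memLocalIdeal_natCast_iff hM] at h2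
    rw [← Finset.add_sum_erase _ _ (Finset.mem_filter.mpr
      ⟨Finset.mem_univ (CfsgLib.Block.oneIrr G), CfsgLib.Block.oneIrr_mem_principalBlock⟩)] at h2
    have hd : p ∣ ∑ χ ∈ (Finset.univ.filter (· ∈ Cfsg.principalBlock M G)).erase (CfsgLib.Block.oneIrr G),
        Cfsg.charDegree (χ : G → ℂ) ^ 2 := Finset.dvd_sum fun χ hχ => by
      obtain ⟨hne, hmem⟩ := Finset.mem_erase.mp hχ
      refine dvd_pow ?_ two_ne_zero
      by_contra hpd
      exact hne (Subtype.ext (h χ (Finset.mem_filter.mp hmem).2 hpd))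
    have h3 := (Nat.dvd_add_left hd).mp h2
    rw [show Cfsg.charDegree ((CfsgLib.Block.oneIrr G) : G → ℂ) = 1 by simp [Cfsg.charDegree], one_pow] at h3
    exact (Fact.out : p.Prime).not_dvd_one h3
  · intro hpG χ hχ _
    rw [CfsgLib.Block.principalBlock_of_complement hM ⊤ (by rwa [Subgroup.card_top]) ⟨0, by simp⟩] at hχ
    have hconst : ∀ g, (χ : G → ℂ) g = (χ : G → ℂ) 1 := fun g => hχ g (Subgroup.mem_top g)
    have h1 := CfsgLib.Char.IsIrrCharacter.classInner_self χ.2
    simp only [Cfsg.classInner, hconst, Finset.sum_const, Finset.card_univ, nsmul_eq_mul, ← Nat.card_eq_fintype_card] at h1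
    rw [← mul_assoc, inv_mul_cancel₀ (Nat.cast_ne_zero.mpr Nat.card_pos.ne'), one_mul,
      (CfsgLib.Block.Chr.irr_one χ).1, Complex.conj_natCast, ← Nat.cast_mul, Nat.cast_eq_one] at h1
    funext g
    rw [hconst, (CfsgLib.Block.Chr.irr_one χ).1, Nat.eq_one_of_mul_eq_one_right h1, Nat.cast_one]

end Cfsg.Agent.S4916
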