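import Cfsg.Statements.S4949
import Cfsg.Agent.SymBlocks.AltDefect
import Cfsg.Agent.SymBlocks.AltMain

set_option autoImplicit false
open Cfsg

namespace Cfsg.Agent.S4949

/-- Let n be a natural number, p a prime, M a maximal ideal of the algebraic integers containing p, B a p-block of the alternating group of degree n and D a defect group of B. Then either B contains an irreducible character of height 1 and D has an irreducible complex character of degree p, or every irreducible character of B has height zero and D is commutative (so the least positive height in B and the least positive exponent of a character degree of D are both 1 or both absent). -/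
theorem result (n : ℕ) (p : ℕ) [Fact p.Prime] (M : Ideal Cfsg.AlgInt) (hM : Cfsg.IsPModular p M) (B : Set (Cfsg.IrrCharacter ↥(alternatingGroup (Fin n)))) (hB : Cfsg.IsPBlock M B) (D : Subgroup ↥(alternatingGroup (Fin n))) (hD : Cfsg.IsDefectGroup p M B D) :
    ((∃ χ : Cfsg.IrrCharacter ↥(alternatingGroup (Fin n)), χ ∈ B ∧ Cfsg.blockHeight p B (χ : ↥(alternatingGroup (Fin n)) → ℂ) = 1) ∧ (∃ φ : Cfsg.IrrCharacter ↥D, Cfsg.charDegree (φ : ↥D → ℂ) = p)) ∨
    ((∀ χ : Cfsg.IrrCharacter ↥(alternatingGroup (Fin n)), χ ∈ B → Cfsg.blockHeight p B (χ : ↥(alternatingGroup (Fin n)) → ℂ) = 0) ∧ IsMulCommutative D) := by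
  classical
  haveI : M.IsPrime := hM.2.1.isPrime
  haveI : Fintype (alternatingGroup (Fin n)) := Fintype.ofFinite _
  have hp := (Fact.out : p.Prime)
  rcases subsingleton_or_nontrivial (Fin n) with hn | hn
  · haveI : Subsingleton (alternatingGroup (Fin n)) :=
      ⟨fun a b => Subtype.ext (Equiv.ext fun z => Subsingleton.elim _ _)⟩
    refine Or.inr ⟨fun χ _ => ?_, ⟨⟨fun a b => Subsingleton.elim _ _⟩⟩⟩
    have h := CfsgLib.Block.charDegree_dvd_card χ
    rw [Nat.card_of_subsingleton (1 : alternatingGroup (Fin n)), Nat.dvd_one] at h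
    rw [blockHeight, h]
    simp
  obtain ⟨θ, hθb⟩ := CfsgLib.Block.exists_mem_block hB
  obtain ⟨χ, hθ⟩ := CfsgLib.SymBlocks.exists_constituent_above θ
  obtain ⟨r, x, hr, hstrict, hχ⟩ := CfsgLib.SymBlocks.exists_expo (N := p * n) hp.pos
    CfsgLib.SymBlocks.le_mul_self_prime χ
  obtain ⟨m, ε, hne⟩ := CfsgLib.SymBlocks.exists_cycles hr hstrict hχ
  by_cases hsmall : (p ≠ 2 ∧ CfsgLib.SymBlocks.wt r x < p) ∨ (p = 2 ∧ CfsgLib.SymBlocks.wt r x ≤ 2)
  · obtain ⟨hh, hd, hd2⟩ := CfsgLib.SymBlocks.heights_small hM hB hθb hθ hr hχ hsmall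
    refine Or.inr ⟨hh, ?_⟩
    by_cases h2 : p = 2
    · exact CfsgLib.SymBlocks.isMulCommutative_of_defect_le_two hM hB hD (hd2 h2)
    · exact CfsgLib.SymBlocks.isMulCommutative_of_card_le hM h2 hB hD hθb hθ ε hne hd
  · have hw : p ≤ CfsgLib.SymBlocks.wt r x ∧ 3 ≤ CfsgLib.SymBlocks.wt r x := by
      have := hp.two_le
      omega
    obtain ⟨⟨ξ, hξ, hξ1⟩, hd⟩ :=
      CfsgLib.SymBlocks.heights_large hM hB hθb hθ hr hstrict hχ hw.1 hw.2
    exact Or.inl ⟨⟨ξ, hξ, hξ1⟩,
      CfsgLib.SymBlocks.exists_deg_defectGroup hM hB hD hθb hθ ε hne hw.1 hw.2 hd⟩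

end Cfsg.Agent.S4949
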