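import Cfsg.Statements.S4956
import Mathlib.GroupTheory.CommutingProbability
import Mathlib.GroupTheory.Coset.Card
import Mathlib.Algebra.Group.Subgroup.Basic
import Mathlib.Tactic.Group
import Mathlib.Tactic.Ring

set_option autoImplicit false
open Cfsg

namespace Cfsg.Agent.S4956

open Subgroup in
/-- The number of pairs of elements of the abelian coprime module killed by the commutation map. -/
theorem card_fibre {X : Type*} [Group X] [Finite X] (V : Subgroup X) [V.Normal]
    (hab : ∀ a ∈ V, ∀ b ∈ V, a * b = b * a) (G : Subgroup X)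
    (hcop : (Nat.card V).Coprime (Nat.card G)) (g h : X) (hg : g ∈ G) (hh : h ∈ G) :
    Nat.card {p : V × V // (p.1 : X) * (g * p.2 * g⁻¹) = p.2 * (h * p.1 * h⁻¹)} =
      Nat.card V * Nat.card {c : V // g * (c : X) = c * g ∧ h * (c : X) = c * h} := by
  classical
  let _ : CommGroup ↥V :=
    { (inferInstance : Group ↥V) with
      mul_comm := fun a b => Subtype.ext (hab a a.2 b b.2) }
  let σ : X → ↥V →* ↥V := fun x => ((MulAut.conjNormal x : MulAut ↥V)).toMonoidHom
  have σv : ∀ (x : X) (v : ↥V), ((σ x v : ↥V) : X) = x * v * x⁻¹ := fun x v => by simp [σ]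
  have σmul : ∀ (x y : X) (v : ↥V), σ (x * y) v = σ x (σ y v) := fun x y v =>
    Subtype.ext (by simp only [σv]; group)
  have σone : ∀ v : ↥V, σ 1 v = v := fun v => Subtype.ext (by simp [σv])
  let f : ↥V × ↥V →* ↥V :=
    MonoidHom.mk' (fun p => (p.1 / σ h p.1) * (σ g p.2 / p.2))
      (fun p q => by simp only [Prod.fst_mul, Prod.snd_mul, map_mul, mul_div_mul_comm, mul_mul_mul_comm])
  have hker : ∀ p : ↥V × ↥V, p ∈ f.ker ↔
      (p.1 : X) * (g * p.2 * g⁻¹) = p.2 * (h * p.1 * h⁻¹) := by
    intro p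
    rw [MonoidHom.mem_ker]
    change (p.1 / σ h p.1) * (σ g p.2 / p.2) = 1 ↔ _
    rw [div_mul_div_comm, div_eq_one, Subtype.ext_iff, Subgroup.coe_mul, Subgroup.coe_mul, σv, σv,
      hab _ (‹V.Normal›.conj_mem _ p.1.2 h) _ p.2.2]
  let A : Subgroup X := closure {g, h}
  have hAG : A ≤ G := (closure_le G).mpr (by
    rintro x (rfl | rfl)
    exacts [hg, hh])
  have hcopA : (Nat.card ↥V).Coprime (Nat.card ↥A) :=
    Nat.Coprime.coprime_dvd_right (card_dvd_of_le hAG) hcop
  have _ : Fintype ↥A := Fintype.ofFinite _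
  let e : ↥V →* ↥V :=
    MonoidHom.mk' (fun v => ∏ a : ↥A, σ a v)
      (fun v w => by simp [map_mul, Finset.prod_mul_distrib])
  have heinv : ∀ (a : X), a ∈ A → ∀ v, e (σ a v) = e v := by
    intro a ha v
    change ∏ b : ↥A, σ b (σ a v) = ∏ b : ↥A, σ b v
    exact Fintype.prod_equiv (Equiv.mulRight (⟨a, ha⟩ : ↥A)) _ _ (fun b => (σmul _ _ _).symm)
  have heinv' : ∀ (a : X), a ∈ A → ∀ v, σ a (e v) = e v := by
    intro a ha v
    change σ a (∏ b : ↥A, σ b v) = ∏ b : ↥A, σ b v
    rw [map_prod]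
    exact Fintype.prod_equiv (Equiv.mulLeft (⟨a, ha⟩ : ↥A)) _ _ (fun b => (σmul _ _ _).symm)
  have hgA : g ∈ A := subset_closure (Or.inl rfl)
  have hhA : h ∈ A := subset_closure (Or.inr rfl)
  have hS : ∀ a ∈ A, ∀ v, v / σ a v ∈ f.range := by
    intro a ha
    induction ha using closure_induction with
    | mem x hx =>
      intro v
      rcases hx with rfl | rfl
      · exact ⟨(1, v⁻¹), by simp [f, div_eq_mul_inv, mul_comm]⟩
      · exact ⟨(v, 1), by simp [f]⟩
    | one => intro v; simp [σone]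
    | mul x y _ _ hx hy =>
      intro v
      rw [σmul, ← div_mul_div_cancel v (σ y v) (σ x (σ y v))]
      exact mul_mem (hy v) (hx _)
    | inv x _ hx =>
      intro v
      have := inv_mem (hx (σ x⁻¹ v))
      rwa [← σmul, mul_inv_cancel, σone, inv_div] at this
  have hrange : f.range = e.ker := by
    apply le_antisymm
    · rintro _ ⟨p, rfl⟩
      rw [MonoidHom.mem_ker]
      change e ((p.1 / σ h p.1) * (σ g p.2 / p.2)) = 1
      simp [heinv h hhA, heinv g hgA]
    · intro v hv
      have hpow : v ^ Nat.card ↥A ∈ f.range := by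
        have : v ^ Nat.card ↥A = ∏ a : ↥A, v / σ a v := by
          rw [Finset.prod_div_distrib, show (∏ a : ↥A, σ a v) = 1 from hv, div_one,
            Finset.prod_const, Finset.card_univ, Nat.card_eq_fintype_card]
        rw [this]
        exact prod_mem (fun a _ => hS a a.2 v)
      obtain ⟨w, hw⟩ := (powCoprime hcopA).surjective v
      obtain ⟨k, hk⟩ := (Nat.coprime_comm.mp hcopA).coprime_dvd_right (orderOf_dvd_natCard v)
        |> exists_pow_eq_self_of_coprime
      rw [← hk]
      exact pow_mem hpow k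
  have herange : Nat.card ↥e.range =
      Nat.card {c : ↥V // g * (c : X) = c * g ∧ h * (c : X) = c * h} := by
    apply Nat.card_congr (Equiv.subtypeEquivRight (fun c => ?_))
    constructor
    · rintro ⟨v, rfl⟩
      constructor
      · have := congrArg Subtype.val (heinv' g hgA v)
        rw [σv] at this
        exact mul_inv_eq_iff_eq_mul.mp this
      · have := congrArg Subtype.val (heinv' h hhA v)
        rw [σv] at this
        exact mul_inv_eq_iff_eq_mul.mp this
    · rintro ⟨h1, h2⟩
      have hfix : ∀ a ∈ A, σ a c = c := by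
        intro a ha
        induction ha using closure_induction with
        | mem x hx =>
          rcases hx with rfl | rfl
          · exact Subtype.ext (by rw [σv, mul_inv_eq_iff_eq_mul]; exact h1)
          · exact Subtype.ext (by rw [σv, mul_inv_eq_iff_eq_mul]; exact h2)
        | one => exact σone c
        | mul x y _ _ hx hy => rw [σmul, hy, hx]
        | inv x _ hx =>
          conv_lhs => rw [← hx]
          rw [← σmul, inv_mul_cancel, σone]
      obtain ⟨w, hw⟩ := (powCoprime hcopA).surjective c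
      have hwfix : ∀ a ∈ A, σ a w = w := by
        intro a ha
        apply (powCoprime hcopA).injective
        change (σ a w) ^ Nat.card ↥A = w ^ Nat.card ↥A
        rw [← map_pow, show w ^ Nat.card ↥A = c from hw, hfix a ha]
      refine ⟨w, ?_⟩
      change ∏ a : ↥A, σ a w = c
      rw [Finset.prod_congr rfl (fun (a : ↥A) _ => hwfix a a.2), Finset.prod_const, Finset.card_univ,
        ← Nat.card_eq_fintype_card]
      exact hw
  have hf := f.ker.card_eq_card_quotient_mul_card_subgroup
  have he := e.ker.card_eq_card_quotient_mul_card_subgroup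
  rw [Nat.card_congr (QuotientGroup.quotientKerEquivRange f).toEquiv, Nat.card_prod, hrange] at hf
  rw [Nat.card_congr (QuotientGroup.quotientKerEquivRange e).toEquiv, herange] at he
  rw [← Nat.card_congr (Equiv.subtypeEquivRight hker)]
  have hpos : 0 < Nat.card ↥e.ker := Nat.card_pos
  apply Nat.eq_of_mul_eq_mul_left hpos
  calc Nat.card ↥e.ker * Nat.card ↥f.ker = Nat.card ↥V * Nat.card ↥V := hf.symm
    _ = _ := by rw [he]; ring

/-- Let X be a finite group, V an abelian normal subgroup of X (any two elements of V commute) and G a complement to V in X whose order is coprime to that of V. Let S be a set of representatives of the orbits of G on V under conjugation: S lies in V and every element of V is conjugate under G to exactly one member of S. Then the number of conjugacy classes of X equals the sum, over s in S, of the number of conjugacy classes of the centralizer of s in G. -/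
theorem result {X : Type*} [Group X] [Finite X] (V : Subgroup X) [V.Normal] (hab : ∀ a ∈ V, ∀ b ∈ V, a * b = b * a) (G : Subgroup X) (hGV : Subgroup.IsComplement' V G) (hcop : (Nat.card V).Coprime (Nat.card G)) (S : Finset X) (hSV : ∀ s ∈ S, s ∈ V) (hrep : ∀ v ∈ V, ∃! s, s ∈ S ∧ ∃ g ∈ G, g * v * g⁻¹ = s) : Nat.card (ConjClasses X) = ∑ s ∈ S, Nat.card (ConjClasses ↥(G ⊓ Subgroup.centralizer ({s} : Set X))) := by
  classical
  have _ : Fintype X := Fintype.ofFinite _
  let CP : Subgroup X → Type _ := fun H => {p : ↥H × ↥H // Commute p.1 p.2}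
  have hbij : Function.Bijective (fun p : ↥V × ↥G => (p.1 : X) * p.2) := hGV
  let E : ↥V × ↥G ≃ X := Equiv.ofBijective _ hbij
  have hE : ∀ p, E p = (p.1 : X) * p.2 := fun _ => rfl
  have hproj : ∀ (v w : ↥V) (g h : ↥G), (Commute ((v : X) * g) ((w : X) * h) ↔
      (Commute g h ∧ (v : X) * (g * w * (g : X)⁻¹) = w * (h * v * (h : X)⁻¹))) := by
    intro v w g h
    have e1 : (v : X) * g * ((w : X) * h) = E (v * ⟨_, ‹V.Normal›.conj_mem _ w.2 g⟩, g * h) := by
      simp only [hE, Subgroup.coe_mul]; group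
    have e2 : (w : X) * h * ((v : X) * g) = E (w * ⟨_, ‹V.Normal›.conj_mem _ v.2 h⟩, h * g) := by
      simp only [hE, Subgroup.coe_mul]; group
    unfold Commute SemiconjBy
    rw [e1, e2, E.apply_eq_iff_eq, Prod.ext_iff, Subtype.ext_iff, and_comm]
    simp only [Subgroup.coe_mul]
  have hX : Nat.card {p : X × X // Commute p.1 p.2} =
      ∑ gh : CP G, Nat.card ↥V * Nat.card {c : ↥V // (gh.1.1 : X) * (c : X) = c * gh.1.1 ∧ (gh.1.2 : X) * (c : X) = c * gh.1.2} := by
    rw [Finset.sum_congr rfl (fun gh _ => (card_fibre V hab G hcop _ _ gh.1.1.2 gh.1.2.2).symm),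
      ← Nat.card_sigma]
    refine (Nat.card_congr (Equiv.ofBijective (fun q => ⟨(E (q.2.1.1, q.1.1.1), E (q.2.1.2, q.1.1.2)),
      (hproj _ _ _ _).mpr ⟨q.1.2, q.2.2⟩⟩) ⟨?_, ?_⟩)).symm
    · rintro ⟨⟨⟨g, h⟩, _⟩, ⟨⟨v, w⟩, _⟩⟩ ⟨⟨⟨g', h'⟩, _⟩, ⟨⟨v', w'⟩, _⟩⟩ hq
      obtain ⟨a, b⟩ := Prod.ext_iff.mp (congrArg Subtype.val hq)
      have a' := E.injective a
      have b' := E.injective b
      simp only [Prod.mk.injEq] at a' b'
      obtain ⟨rfl, rfl⟩ := a'
      obtain ⟨rfl, rfl⟩ := b'
      rfl
    · rintro ⟨⟨x, y⟩, hxy⟩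
      obtain ⟨⟨v, g⟩, rfl⟩ := E.surjective x
      obtain ⟨⟨w, h⟩, rfl⟩ := E.surjective y
      have := (hproj v w g h).mp hxy
      exact ⟨⟨⟨(g, h), this.1⟩, ⟨(v, w), this.2⟩⟩, rfl⟩
  let m : ↥V → ℕ := fun v => Nat.card {gh : CP G // (gh.1.1 : X) * (v : X) = v * gh.1.1 ∧ (gh.1.2 : X) * (v : X) = v * gh.1.2}
  have hswap : ∑ gh : CP G, Nat.card {c : ↥V // (gh.1.1 : X) * (c : X) = c * gh.1.1 ∧ (gh.1.2 : X) * (c : X) = c * gh.1.2} = ∑ v : ↥V, m v := by
    simp only [m, ← Nat.card_sigma]
    exact Nat.card_congr ⟨fun q => ⟨q.2.1, q.1, q.2.2⟩, fun q => ⟨q.2.1, q.1, q.2.2⟩, fun _ => rfl, fun _ => rfl⟩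
  have hm : ∀ v : ↥V, m v = Nat.card (ConjClasses ↥(G ⊓ Subgroup.centralizer ({(v : X)} : Set X))) *
      Nat.card ↥(G ⊓ Subgroup.centralizer ({(v : X)} : Set X)) := by
    intro v
    rw [← card_comm_eq_card_conjClasses_mul_card]
    refine Nat.card_congr
      { toFun := fun q => ⟨(⟨_, q.1.1.1.2, Subgroup.mem_centralizer_singleton_iff.mpr q.2.1⟩,
            ⟨_, q.1.1.2.2, Subgroup.mem_centralizer_singleton_iff.mpr q.2.2⟩), ?_⟩
        invFun := fun p => ⟨⟨(⟨_, p.1.1.2.1⟩, ⟨_, p.1.2.2.1⟩), ?_⟩,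
            Subgroup.mem_centralizer_singleton_iff.mp p.1.1.2.2,
            Subgroup.mem_centralizer_singleton_iff.mp p.1.2.2.2⟩
        left_inv := fun _ => rfl
        right_inv := fun _ => rfl }
    · exact Subtype.ext (congrArg (Subtype.val : ↥G → X) q.1.2)
    · exact Subtype.ext (congrArg (Subtype.val : ↥(G ⊓ _) → X) p.2)
  choose rep hrep' huniq using fun v : ↥V => hrep v v.2
  have horb : ∀ s ∈ S, ∑ v ∈ Finset.univ.filter (fun v : ↥V => rep v = s), m v =
      Nat.card G * Nat.card (ConjClasses ↥(G ⊓ Subgroup.centralizer ({s} : Set X))) := by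
    intro s hs
    let s' : ↥V := ⟨s, hSV s hs⟩
    let _ : MulAction ↥G ↥V := MulAction.compHom ↥V ((MulAut.conjNormal : X →* MulAut ↥V).comp G.subtype)
    have hsm : ∀ (g : ↥G) (v : ↥V), ((g • v : ↥V) : X) = g * v * (g : X)⁻¹ := fun g v =>
      MulAut.conjNormal_apply (g : X) v
    have hmem : ∀ v : ↥V, rep v = s ↔ v ∈ MulAction.orbit ↥G s' := by
      intro v
      constructor
      · intro h
        obtain ⟨g, hg, hgv⟩ := (hrep' v).2
        refine ⟨(⟨g, hg⟩ : ↥G)⁻¹, Subtype.ext ?_⟩
        simp only [hsm, Subgroup.coe_inv, inv_inv, s']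
        rw [← h, ← hgv]; group
      · rintro ⟨g, rfl⟩
        refine (huniq _ s ⟨hs, (g : X)⁻¹, inv_mem g.2, ?_⟩).symm
        simp only [hsm, s']; group
    have hconst : ∀ g : ↥G, m (g • s') = m s' := by
      intro g
      let cG : ↥G × ↥G ≃ ↥G × ↥G := Equiv.prodCongr (MulAut.conj g).toEquiv (MulAut.conj g).toEquiv
      refine (Nat.card_congr (Equiv.subtypeEquiv (Equiv.subtypeEquiv cG (fun p => ?_)) (fun q => ?_))).symm
      · exact ⟨fun h => Commute.map h (MulAut.conj g),
          fun h => by simpa [cG, mul_assoc] using Commute.map h (MulAut.conj g).symm⟩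
      · simp only [cG, hsm, Equiv.subtypeEquiv_apply, Equiv.prodCongr_apply, Prod.map, MulEquiv.toEquiv_eq_coe,
          MulEquiv.coe_toEquiv, MulAut.conj_apply, Subgroup.coe_mul, Subgroup.coe_inv]
        simp only [mul_assoc, inv_mul_cancel_left, mul_right_inj]
        simp only [← mul_assoc, mul_left_inj]
    have hstab : Nat.card (MulAction.stabilizer ↥G s') =
        Nat.card ↥(G ⊓ Subgroup.centralizer ({s} : Set X)) := by
      refine Nat.card_congr
        { toFun := fun g => ⟨g.1.1, g.1.2, Subgroup.mem_centralizer_singleton_iff.mpr ?_⟩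
          invFun := fun g => ⟨⟨g.1, g.2.1⟩, ?_⟩
          left_inv := fun _ => rfl
          right_inv := fun _ => rfl }
      · have := congrArg Subtype.val (MulAction.mem_stabilizer_iff.mp g.2)
        rw [hsm] at this
        exact mul_inv_eq_iff_eq_mul.mp this
      · rw [MulAction.mem_stabilizer_iff]
        apply Subtype.ext
        rw [hsm, mul_inv_eq_iff_eq_mul]
        exact Subgroup.mem_centralizer_singleton_iff.mp g.2.2
    rw [Finset.sum_congr rfl (g := fun _ => m s') (fun v hv => ?_), Finset.sum_const, smul_eq_mul]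
    swap
    · obtain ⟨g, rfl⟩ := (hmem v).mp (Finset.mem_filter.mp hv).2
      exact hconst g
    have hcard : (Finset.univ.filter (fun v : ↥V => rep v = s)).card = Nat.card (MulAction.orbit ↥G s') := by
      rw [Nat.card_eq_fintype_card, ← Set.toFinset_card]
      congr 1; ext v; simp [hmem]
    have horbstab : Nat.card (MulAction.orbit ↥G s') * Nat.card (MulAction.stabilizer ↥G s') = Nat.card ↥G := by
      rw [← Nat.card_prod]
      exact Nat.card_congr (MulAction.orbitProdStabilizerEquivGroup ↥G s')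
    rw [hcard, hm, ← horbstab, hstab]
    ring
  have hsum : ∑ v : ↥V, m v = Nat.card G * ∑ s ∈ S, Nat.card (ConjClasses ↥(G ⊓ Subgroup.centralizer ({s} : Set X))) := by
    rw [Finset.mul_sum, ← Finset.sum_fiberwise_of_maps_to (g := rep) (t := S) (fun v _ => (hrep' v).1)]
    exact Finset.sum_congr rfl horb
  have key := card_comm_eq_card_conjClasses_mul_card X
  rw [hX, ← Finset.mul_sum, hswap, hsum, ← hGV.card_mul_card] at key
  refine (Nat.eq_of_mul_eq_mul_right (m := Nat.card ↥V * Nat.card ↥G) (Nat.mul_pos Nat.card_pos Nat.card_pos) ?_).symm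
  rw [← key]; ring

end Cfsg.Agent.S4956
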