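import Cfsg.Statements.S4966
import Mathlib.RepresentationTheory.Maschke
import Mathlib.RepresentationTheory.Subrepresentation
import Mathlib.RingTheory.Artinian.Module
import Mathlib.LinearAlgebra.BilinearForm.Properties
import Mathlib.LinearAlgebra.Dual.Lemmas

set_option autoImplicit false
open Cfsg

namespace Cfsg.Agent.S4966

open Module

section

variable {F : Type*} [Field F] {G : Type*} [Group G]
variable {V : Type*} [AddCommGroup V] [Module F V] [FiniteDimensional F V]
  {ρ : Representation F G V} {B : LinearMap.BilinForm F V}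

theorem surjective_of_sepLeft (h : B.SeparatingLeft) : Function.Surjective B :=
  (LinearMap.injective_iff_surjective_of_finrank_eq_finrank
    Subspace.dual_finrank_eq.symm).1 (by
      rw [← LinearMap.ker_eq_bot]
      exact LinearMap.separatingLeft_iff_ker_eq_bot.1 h)

theorem sepRight_of_sepLeft (h : B.SeparatingLeft) : B.SeparatingRight := fun y hy => by
  refine (Module.forall_dual_apply_eq_zero_iff F y).1 fun φ => ?_
  obtain ⟨x, rfl⟩ := surjective_of_sepLeft h φ
  exact hy x

theorem rho_cancel (g : G) (v : V) : ρ g (ρ g⁻¹ v) = v := by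
  rw [← Module.End.mul_apply, ← map_mul, mul_inv_cancel, map_one, Module.End.one_apply]

theorem inv_apply (hBinv : ∀ g x y, B (ρ g x) (ρ g y) = B x y) (g : G) (x y : V) :
    B (ρ g x) y = B x (ρ g⁻¹ y) := by
  conv_lhs => rw [← rho_cancel (ρ := ρ) g y]
  rw [hBinv]

/-- Projections along invariant complements commute with the group. -/
theorem projection_comm {P Q : Submodule F V} (h : IsCompl P Q)
    (hP : ∀ g, ∀ v ∈ P, ρ g v ∈ P) (hQ : ∀ g, ∀ v ∈ Q, ρ g v ∈ Q) (g : G) (v : V) :
    P.projection Q h (ρ g v) = ρ g (P.projection Q h v) := by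
  conv_lhs => rw [← Submodule.projection_add_projection_eq_self h v, map_add, map_add]
  rw [Submodule.projection_apply_of_mem_left h (hP g _ (Submodule.projection_apply_mem h v)),
    Submodule.projection_apply_of_mem_right h (hQ g _ (Submodule.projection_apply_mem h.symm v)),
    add_zero]

theorem exists_invariant_compl [Finite G] [NeZero (Nat.card G : F)] {P : Submodule F V}
    (hP : ∀ g, ∀ v ∈ P, ρ g v ∈ P) :
    ∃ Q : Submodule F V, IsCompl P Q ∧ ∀ g, ∀ v ∈ Q, ρ g v ∈ Q := by
  obtain ⟨Q, hQ⟩ := exists_isCompl (⟨P, fun g v hv => hP g v hv⟩ : Subrepresentation ρ)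
  refine ⟨Q.toSubmodule, ⟨?_, ?_⟩, fun g v hv => Q.apply_mem_toSubmodule g hv⟩
  · rw [disjoint_iff]
    exact congrArg Subrepresentation.toSubmodule hQ.inf_eq_bot
  · rw [codisjoint_iff]
    exact congrArg Subrepresentation.toSubmodule hQ.sup_eq_top

/-- The data of the operator `N` with `B x (N y) = B x y + B y x`. -/
theorem exists_N (hB : B.Nondegenerate) (hBinv : ∀ g x y, B (ρ g x) (ρ g y) = B x y) :
    ∃ N T : Module.End F V, (∀ x y, B x (N y) = B x y + B y x) ∧ (∀ y, N y = y + T y) ∧
      (∀ x y, B x (T y) = B y x) ∧ Function.Bijective T ∧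
      (∀ g y, N (ρ g y) = ρ g (N y)) ∧ ∀ (n : ℕ) x y, B ((N ^ n) x) ((T ^ n) y) = B x ((N ^ n) y) := by
  let T : Module.End F V :=
    ((LinearMap.BilinForm.toDual B.flip hB.flip).symm : Dual F V →ₗ[F] V).comp B
  have hT : ∀ x y, B x (T y) = B y x := fun x y => by
    have := LinearMap.BilinForm.apply_toDual_symm_apply (hB := hB.flip) (B y) x
    exact this
  have hTinj : Function.Injective T := by
    rw [← LinearMap.ker_eq_bot, Submodule.eq_bot_iff]
    intro y hy
    refine hB.1 y fun x => ?_
    rw [← hT, LinearMap.mem_ker.1 hy, map_zero]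
  let N : Module.End F V := 1 + T
  have hN : ∀ y, N y = y + T y := fun y => rfl
  have hBN : ∀ x y, B x (N y) = B x y + B y x := fun x y => by rw [hN, map_add, hT]
  refine ⟨N, T, hBN, hN, hT, ⟨hTinj, LinearMap.injective_iff_surjective.1 hTinj⟩, fun g y => ?_,
    fun n => ?_⟩
  · refine sub_eq_zero.1 (hB.2 _ fun x => ?_)
    rw [map_sub, hBN, sub_eq_zero]
    conv_rhs => rw [← rho_cancel (ρ := ρ) g x]
    conv_lhs => rw [← rho_cancel (ρ := ρ) g x]
    rw [hBinv, hBinv, hBinv, hBN]
  · have h1 : ∀ x y, B (N x) (T y) = B x (N y) := fun x y => by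
      rw [hT, hBN, hBN, add_comm]
    induction n with
    | zero => intros; simp
    | succ n ih =>
      intro x y
      rw [pow_succ' T n, pow_succ' N n, Module.End.mul_apply, Module.End.mul_apply, h1]
      have hcomm : N ((T ^ n) y) = (T ^ n) (N y) := by
        have : Commute N (T ^ n) := ((Commute.one_left T).add_left (Commute.refl T)).pow_right n
        exact LinearMap.congr_fun this.eq y
      rw [hcomm, ih, ← Module.End.mul_apply, (Commute.pow_self N n).eq]

/-- The Fitting decomposition of `N` is orthogonal. -/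
theorem exists_fitting (hB : B.Nondegenerate) {N T : Module.End F V}
    (hN : ∀ y, N y = y + T y) (hT : ∀ x y, B x (T y) = B y x) (hTb : Function.Bijective T)
    (hpow : ∀ (n : ℕ) x y, B ((N ^ n) x) ((T ^ n) y) = B x ((N ^ n) y))
    (hcomm : ∀ g y, N (ρ g y) = ρ g (N y)) :
    ∃ n : ℕ, 0 < n ∧ ∃ U W : Submodule F V, U = LinearMap.ker (N ^ n) ∧
      W = LinearMap.range (N ^ n) ∧ IsCompl U W ∧
      (∀ g, ∀ u ∈ U, ρ g u ∈ U) ∧ (∀ g, ∀ w ∈ W, ρ g w ∈ W) ∧
      (∀ u ∈ U, ∀ w ∈ W, B u w = 0 ∧ B w u = 0) ∧
      (∀ x ∈ U, (∀ y ∈ U, B x y = 0) → x = 0) ∧ (∀ x ∈ W, (∀ y ∈ W, B x y = 0) → x = 0) ∧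
      (∀ w ∈ W, ∃ z ∈ W, N z = w) := by
  obtain ⟨n, hn⟩ := Filter.eventually_atTop.1 (LinearMap.eventually_isCompl_ker_pow_range_pow N)
  set m := n + 1
  have hcompl := hn m (Nat.le_succ n)
  have hcm : ∀ (k : ℕ) g y, (N ^ k) (ρ g y) = ρ g ((N ^ k) y) := by
    intro k g
    induction k with
    | zero => intro y; simp
    | succ k ih => intro y; rw [pow_succ, Module.End.mul_apply, Module.End.mul_apply, hcomm, ih]
  have hTN : ∀ k : ℕ, Commute (N ^ k) T := fun k => by
    refine Commute.pow_left ?_ k
    exact LinearMap.ext fun y => by simp [Module.End.mul_apply, hN, map_add]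
  have hTU : ∀ u ∈ LinearMap.ker (N ^ m), ∀ k : ℕ, (T ^ k) u ∈ LinearMap.ker (N ^ m) := by
    intro u hu k
    rw [LinearMap.mem_ker, ← Module.End.mul_apply, ((hTN m).pow_right k).eq, Module.End.mul_apply,
      LinearMap.mem_ker.1 hu, map_zero]
  have hWU : ∀ u ∈ LinearMap.ker (N ^ m), ∀ w ∈ LinearMap.range (N ^ m), B w u = 0 := by
    rintro u hu _ ⟨z, rfl⟩
    have hTm : Function.Bijective (T ^ m) := by rw [Module.End.coe_pow]; exact hTb.iterate m
    obtain ⟨y, rfl⟩ := hTm.2 u
    have hy : (N ^ m) y = 0 := hTm.1 (by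
      rw [map_zero, ← Module.End.mul_apply, ← ((hTN m).pow_right m).eq, Module.End.mul_apply,
        LinearMap.mem_ker.1 hu])
    rw [hpow, hy, map_zero]
  have horth : ∀ u ∈ LinearMap.ker (N ^ m), ∀ w ∈ LinearMap.range (N ^ m),
      B u w = 0 ∧ B w u = 0 := fun u hu w hw => by
    refine ⟨?_, hWU u hu w hw⟩
    rw [← hT]
    have := hTU u hu 1
    rw [pow_one] at this
    exact hWU _ this w hw
  have hsplit : ∀ v, ∃ u ∈ LinearMap.ker (N ^ m), ∃ w ∈ LinearMap.range (N ^ m), u + w = v :=
    fun v => Submodule.mem_sup.1 (hcompl.sup_eq_top ▸ Submodule.mem_top)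
  refine ⟨m, Nat.succ_pos n, _, _, rfl, rfl, hcompl, ?_, ?_, horth, ?_, ?_, ?_⟩
  · intro g u hu; rw [LinearMap.mem_ker, hcm, LinearMap.mem_ker.1 hu, map_zero]
  · rintro g _ ⟨z, rfl⟩; exact ⟨ρ g z, hcm m g z⟩
  · intro x hx h
    refine hB.1 x fun v => ?_
    obtain ⟨u, hu, w, hw, rfl⟩ := hsplit v
    rw [map_add, h u hu, (horth x hx w hw).1, add_zero]
  · intro x hx h
    refine hB.1 x fun v => ?_
    obtain ⟨u, hu, w, hw, rfl⟩ := hsplit v
    rw [map_add, h w hw, (horth u hu x hx).2, add_zero]
  · rintro _ ⟨v, rfl⟩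
    obtain ⟨u, hu, _, ⟨z, rfl⟩, hv⟩ := hsplit v
    refine ⟨(N ^ m) ((N ^ n) z), ⟨_, rfl⟩, ?_⟩
    rw [← hv, map_add, LinearMap.mem_ker.1 hu, zero_add]
    simp only [← Module.End.mul_apply, ← pow_succ', ← pow_add, m]
    congr 2

end

universe uF uG uV

/-- In characteristic two a module without fixed points and with an invariant form carries an
alternating one. -/
theorem exists_alt {F : Type uF} [Field F] [CharP F 2] {G : Type uG} [Group G]
    [Fintype G] [NeZero (Nat.card G : F)] (d : ℕ) :
    ∀ (V : Type uV) [AddCommGroup V] [Module F V] [FiniteDimensional F V], finrank F V = d →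
      ∀ (ρ : Representation F G V) (B : LinearMap.BilinForm F V), B.Nondegenerate →
      (∀ g x y, B (ρ g x) (ρ g y) = B x y) → (∀ v, (∀ g, ρ g v = v) → v = 0) →
      ∃ A : LinearMap.BilinForm F V, (∀ x, A x x = 0) ∧
        (∀ g x y, A (ρ g x) (ρ g y) = A x y) ∧ A.SeparatingLeft := by
  induction d using Nat.strong_induction_on with
  | _ d ih =>
  intro V _ _ _ hd ρ B hB hBinv hfix
  obtain ⟨N, T, hBN, hN, hT, hTb, hcomm, hpow⟩ := exists_N hB hBinv
  have h2 : ∀ a : F, a + a = 0 := CharTwo.add_self_eq_zero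
  have hcm : ∀ (k : ℕ) g y, (N ^ k) (ρ g y) = ρ g ((N ^ k) y) := by
    intro k g
    induction k with
    | zero => intro y; simp
    | succ k ih => intro y; rw [pow_succ, Module.End.mul_apply, Module.End.mul_apply, hcomm, ih]
  by_cases hN0 : ∀ y, N y = 0
  · -- a symmetric form is alternating
    have hsymm : ∀ x y, B x y = B y x := fun x y => by
      have := hBN x y
      rw [hN0, map_zero] at this
      exact CharTwo.add_eq_zero.1 this.symm
    let Z : Submodule F V :=
      { carrier := {x | B x x = 0}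
        zero_mem' := by simp
        add_mem' := fun {a b} ha hb => by
          show B (a + b) (a + b) = 0
          simp only [map_add, LinearMap.add_apply, (show B a a = 0 from ha),
            (show B b b = 0 from hb),
            hsymm b a, zero_add, add_zero, h2]
        smul_mem' := fun c x hx => by
          show B (c • x) (c • x) = 0
          simp only [map_smul, LinearMap.smul_apply, (show B x x = 0 from hx), smul_zero] }
    refine ⟨B, fun x => ?_, hBinv, hB.1⟩
    have hgen : ∀ g, ρ g x - x ∈ Z := fun g => by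
      show B (ρ g x - x) (ρ g x - x) = 0
      simp only [map_sub, LinearMap.sub_apply, hBinv, hsymm x (ρ g x)]
      linear_combination h2 (B x x) - h2 (B (ρ g x) x)
    have hsum : ∑ g, (ρ g x - x) ∈ Z := Submodule.sum_mem Z fun g _ => hgen g
    have havg : ∑ g, ρ g x = 0 := hfix _ fun k => by
      rw [map_sum]
      refine Fintype.sum_equiv (Equiv.mulLeft k) _ _ fun g => ?_
      rw [Equiv.coe_mulLeft, map_mul, Module.End.mul_apply]
    rw [Finset.sum_sub_distrib, havg, zero_sub, Finset.sum_const, Finset.card_univ, neg_mem_iff,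
      ← Nat.card_eq_fintype_card, ← Nat.cast_smul_eq_nsmul F] at hsum
    have := Z.smul_mem ((Nat.card G : F)⁻¹) hsum
    rwa [smul_smul, inv_mul_cancel₀ (NeZero.ne _), one_smul] at this
  -- a nonzero invariant piece with both forms
  obtain ⟨X, hX0, hXinv, hXB, A, hA1, hA2, hA3⟩ : ∃ X : Submodule F V, X ≠ ⊥ ∧
      (∀ g, ∀ x ∈ X, ρ g x ∈ X) ∧ (∀ x ∈ X, (∀ y ∈ X, B x y = 0) → x = 0) ∧
      ∃ A : LinearMap.BilinForm F V, (∀ x ∈ X, A x x = 0) ∧
        (∀ g x y, A (ρ g x) (ρ g y) = A x y) ∧ (∀ x ∈ X, (∀ y ∈ X, A x y = 0) → x = 0) := by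
    obtain ⟨n, hn0, U, W, hU, hW, hcompl, -, hWinv, -, -, hWB, hWsurj⟩ :=
      exists_fitting hB hN hT hTb hpow hcomm
    by_cases hW0 : W ≠ ⊥
    · refine ⟨W, hW0, hWinv, hWB, B + B.flip, fun x _ => ?_, fun g x y => ?_, fun x hx h => ?_⟩
      · simp [h2]
      · simp [hBinv]
      · refine hWB x hx fun y hy => ?_
        obtain ⟨z, hz, rfl⟩ := hWsurj y hy
        rw [hBN]; exact h z hz
    push Not at hW0
    rw [hW, LinearMap.range_eq_bot] at hW0
    have hex : ∃ k, N ^ k = 0 := ⟨n, hW0⟩
    classical
    obtain ⟨m, hm⟩ : ∃ m, Nat.find hex = m + 1 := ⟨Nat.find hex - 1, by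
      have : Nat.find hex ≠ 0 := fun h0 => by
        have h1 := Nat.find_spec hex
        rw [h0, pow_zero] at h1
        exact hN0 fun y => by
          rw [show N y = (1 : Module.End F V) (N y) from rfl, h1]; rfl
      omega⟩
    have hm1 : N ^ (m + 1) = 0 := hm ▸ Nat.find_spec hex
    have hmne : N ^ m ≠ 0 := Nat.find_min hex (by omega)
    have hm0 : m ≠ 0 := fun h0 => hN0 fun y => by
      rw [h0, zero_add, pow_one] at hm1; rw [hm1]; rfl
    have hNN : ∀ v, (N ^ m) ((N ^ m) v) = 0 := fun v => by
      rw [← Module.End.mul_apply, ← pow_add, show m + m = (m - 1) + (m + 1) by omega, pow_add, hm1,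
        mul_zero]
      rfl
    set K := LinearMap.ker (N ^ m) with hKdef
    have hKinv : ∀ g, ∀ v ∈ K, ρ g v ∈ K := fun g v hv => by
      rw [LinearMap.mem_ker, hcm, LinearMap.mem_ker.1 hv, map_zero]
    obtain ⟨C, hKC, hCinv⟩ := exists_invariant_compl hKinv
    set P := C.projection K hKC.symm with hPdef
    have hP1 : ∀ c ∈ C, P c = c := fun c hc => Submodule.projection_apply_of_mem_left _ hc
    have hP2 : ∀ k ∈ K, P k = 0 := fun k hk => Submodule.projection_apply_of_mem_right _ hk
    have hNP : ∀ v, (N ^ m) (P v) = (N ^ m) v := fun v => by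
      have := Submodule.projection_add_projection_eq_self hKC.symm v
      conv_rhs => rw [← this, map_add]
      rw [LinearMap.mem_ker.1 (Submodule.projection_apply_mem hKC v), add_zero]
    have hTm : Function.Surjective (T ^ m) := by
      rw [Module.End.coe_pow]; exact (hTb.iterate m).2
    have hleft : ∀ c ∈ C, (∀ c' ∈ C, B c ((N ^ m) c') = 0) → c = 0 := fun c hc h => by
      have h1 : (N ^ m) c = 0 := hB.1 _ fun v => by
        obtain ⟨w, rfl⟩ := hTm v
        rw [hpow, ← hNP w]
        exact h _ (Submodule.projection_apply_mem _ _)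
      exact Submodule.disjoint_def.1 hKC.disjoint c h1 hc
    have hright : ∀ c ∈ C, (∀ c' ∈ C, B c' ((N ^ m) c) = 0) → (N ^ m) c = 0 := fun c hc h => by
      refine hB.2 _ fun v => ?_
      have := Submodule.projection_add_projection_eq_self hKC.symm v
      rw [← this, map_add, LinearMap.add_apply, h _ (Submodule.projection_apply_mem _ _), zero_add,
        ← hpow, LinearMap.mem_ker.1 (Submodule.projection_apply_mem hKC v), map_zero,
        LinearMap.zero_apply]
    let X : Submodule F V := C ⊔ C.map (N ^ m)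
    have hmem : ∀ x ∈ X, ∃ c ∈ C, ∃ d ∈ C, x = c + (N ^ m) d := fun x hx => by
      obtain ⟨c, hc, _, ⟨d, hd, rfl⟩, rfl⟩ := Submodule.mem_sup.1 hx
      exact ⟨c, hc, d, hd, rfl⟩
    have hPX : ∀ c ∈ C, ∀ d : V, P (c + (N ^ m) d) = c := fun c hc d => by
      rw [map_add, hP1 c hc, hP2 _ (LinearMap.mem_ker.2 (hNN d)), add_zero]
    let H : LinearMap.BilinForm F V := B.compl₁₂ P (LinearMap.id - P)
    have hH : ∀ x y, H x y = B (P x) (y - P y) := fun x y => rfl
    refine ⟨X, fun h0 => hmne ?_, fun g x hx => ?_, fun x hx h => ?_, H + H.flip, fun x _ => ?_,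
      fun g x y => ?_, fun x hx h => ?_⟩
    · refine LinearMap.ext fun v => ?_
      have : P v ∈ X := Submodule.mem_sup_left (Submodule.projection_apply_mem _ _)
      rw [h0, Submodule.mem_bot] at this
      rw [← hNP, this, map_zero]
      rfl
    · obtain ⟨c, hc, d, hd, rfl⟩ := hmem x hx
      rw [map_add, ← hcm]
      exact Submodule.add_mem_sup (hCinv g c hc) ⟨_, hCinv g d hd, rfl⟩
    · obtain ⟨c, hc, d, hd, rfl⟩ := hmem x hx
      have hNd : ∀ w, B ((N ^ m) d) ((N ^ m) w) = 0 := fun w => by
        obtain ⟨u, rfl⟩ := hTm w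
        have hc' : (N ^ m) ((T ^ m) u) = (T ^ m) ((N ^ m) u) := by
          have : Commute (N ^ m) (T ^ m) := (Commute.pow_left (LinearMap.ext fun y => by
            simp [Module.End.mul_apply, hN, map_add] : Commute N T) m).pow_right m
          exact LinearMap.congr_fun this.eq u
        rw [hc', hpow, hNN, map_zero]
      have hc0 : c = 0 := hleft c hc fun c' hc' => by
        have := h _ (Submodule.mem_sup_right ⟨c', hc', rfl⟩)
        rwa [map_add, LinearMap.add_apply, hNd, add_zero] at this
      subst hc0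
      rw [zero_add] at h ⊢
      refine hB.1 _ fun v => ?_
      have := Submodule.projection_add_projection_eq_self hKC.symm v
      rw [← this, map_add, h _ (Submodule.mem_sup_left (Submodule.projection_apply_mem _ _)),
        zero_add]
      obtain ⟨y, hy⟩ := hTm (K.projection C hKC v)
      rw [← hy, hpow]
      have : (N ^ m) y = 0 := by
        refine (show Function.Injective (T ^ m) by rw [Module.End.coe_pow]; exact (hTb.iterate m).1) ?_
        have hc' : (T ^ m) ((N ^ m) y) = (N ^ m) ((T ^ m) y) := by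
          have : Commute (N ^ m) (T ^ m) := (Commute.pow_left (LinearMap.ext fun y => by
            simp [Module.End.mul_apply, hN, map_add] : Commute N T) m).pow_right m
          exact (LinearMap.congr_fun this.eq y).symm
        rw [hc', hy, map_zero]
        exact LinearMap.mem_ker.1 (Submodule.projection_apply_mem hKC v)
      rw [this, map_zero]
    · simp [h2]
    · simp only [LinearMap.add_apply, LinearMap.BilinForm.flip_apply, hH,
        projection_comm hKC.symm hCinv hKinv, hPdef, ← map_sub, hBinv]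
    · obtain ⟨c, hc, d, hd, rfl⟩ := hmem x hx
      have h1 : (N ^ m) d = 0 := hright d hd fun c' hc' => by
        have := h c' (Submodule.mem_sup_left hc')
        simp only [LinearMap.add_apply, LinearMap.BilinForm.flip_apply, hH, hPX c hc, hP1 c' hc',
          sub_self, map_zero, add_sub_cancel_left, zero_add] at this
        exact this
      rw [h1, add_zero] at h ⊢
      refine hleft c hc fun c' hc' => ?_
      have := h _ (Submodule.mem_sup_right ⟨c', hc', rfl⟩)
      simp only [LinearMap.add_apply, LinearMap.BilinForm.flip_apply, hH, hP1 c hc, sub_self,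
        hP2 _ (LinearMap.mem_ker.2 (hNN c')), sub_zero, map_zero, LinearMap.zero_apply,
        add_zero] at this
      exact this
  -- the orthogonal complement
  have hXsurj : Function.Surjective (B.compl₁₂ X.subtype X.subtype : LinearMap.BilinForm F X) :=
    surjective_of_sepLeft fun x hx =>
      Subtype.ext (hXB x x.2 fun y hy => hx ⟨y, hy⟩)
  have hXflip : Function.Surjective (B.compl₁₂ X.subtype X.subtype : LinearMap.BilinForm F X).flip :=
    surjective_of_sepLeft fun x hx => sepRight_of_sepLeft
      (B := (B.compl₁₂ X.subtype X.subtype : LinearMap.BilinForm F X))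
      (fun x hx => Subtype.ext (hXB x x.2 fun y hy => hx ⟨y, hy⟩)) x hx
  let Y : Submodule F V := LinearMap.ker ((B.flip).compl₂ X.subtype)
  have hY : ∀ y, y ∈ Y ↔ ∀ x ∈ X, B x y = 0 := fun y => by
    simp [Y, LinearMap.mem_ker, LinearMap.ext_iff]
  have hcompl : IsCompl X Y := by
    refine ⟨Submodule.disjoint_def.2 fun x hx hy => ?_, codisjoint_iff.2 (eq_top_iff.2 fun v _ => ?_)⟩
    · have h1 : (⟨x, hx⟩ : X) = 0 := sepRight_of_sepLeft
        (B := (B.compl₁₂ X.subtype X.subtype : LinearMap.BilinForm F X))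
        (fun x hx => Subtype.ext (hXB x x.2 fun y hy => hx ⟨y, hy⟩)) _
        (fun z => (hY x).1 hy z z.2)
      exact congrArg Subtype.val h1
    · obtain ⟨x, hx⟩ := hXflip ((B.flip v).comp X.subtype)
      refine Submodule.mem_sup.2 ⟨x, x.2, v - x, (hY _).2 fun z hz => ?_, add_sub_cancel _ _⟩
      have : B z x = B z v := LinearMap.congr_fun hx ⟨z, hz⟩
      rw [map_sub, this, sub_self]
  have hYinv : ∀ g, ∀ y ∈ Y, ρ g y ∈ Y := fun g y hy => (hY _).2 fun x hx => by
    rw [← rho_cancel (ρ := ρ) g x, hBinv]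
    exact (hY y).1 hy _ (hXinv _ x hx)
  have hYB : ∀ y ∈ Y, (∀ z ∈ Y, B y z = 0) → y = 0 := fun y hy h => by
    obtain ⟨x, hx⟩ := hXsurj ((B y).comp X.subtype)
    have h1 : y - x = 0 := hB.1 _ fun v => by
      obtain ⟨a, ha, b, hb, rfl⟩ := Submodule.mem_sup.1
        (hcompl.sup_eq_top ▸ Submodule.mem_top (x := v))
      have := LinearMap.congr_fun hx ⟨a, ha⟩
      simp only [LinearMap.compl₁₂_apply, Submodule.coe_subtype, LinearMap.comp_apply] at this
      rw [map_sub, LinearMap.sub_apply, map_add, map_add, this, h b hb, (hY b).1 hb x x.2,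
        add_zero, sub_self]
    rw [sub_eq_zero] at h1
    exact Submodule.disjoint_def.1 hcompl.disjoint y (h1 ▸ x.2) hy
  have hlt : finrank F Y < d := by
    rw [← hd]
    refine Submodule.finrank_lt fun h => hX0 ?_
    rw [← hcompl.inf_eq_bot, h, inf_top_eq]
  let ρY : Representation F G Y :=
    (⟨Y, fun g v hv => hYinv g v hv⟩ : Subrepresentation ρ).toRepresentation
  have hρY : ∀ g (y : Y), (ρY g y : V) = ρ g y := fun g y => rfl
  have hBYl : (B.compl₁₂ Y.subtype Y.subtype : LinearMap.BilinForm F Y).SeparatingLeft :=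
    fun y hy => Subtype.ext (hYB y y.2 fun z hz => hy ⟨z, hz⟩)
  obtain ⟨A', hA'1, hA'2, hA'3⟩ := ih _ hlt Y rfl ρY (B.compl₁₂ Y.subtype Y.subtype)
    ⟨hBYl, sepRight_of_sepLeft hBYl⟩ (fun g x y => hBinv g x y)
    (fun y hy => Subtype.ext (hfix y fun g => congrArg Subtype.val (hy g)))
  let π := X.projection Y hcompl
  let π' := Y.projectionOnto X hcompl.symm
  have hπ' : ∀ g v, π' (ρ g v) = ρY g (π' v) := fun g v => Subtype.ext (by
    rw [hρY, Submodule.coe_projectionOnto_apply, Submodule.coe_projectionOnto_apply,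
      projection_comm hcompl.symm hYinv hXinv])
  refine ⟨A.compl₁₂ π π + A'.compl₁₂ π' π', fun x => ?_, fun g x y => ?_, fun x hx => ?_⟩
  · simp only [LinearMap.add_apply, LinearMap.compl₁₂_apply, hA'1, add_zero]
    exact hA1 _ (Submodule.projection_apply_mem _ _)
  · simp only [LinearMap.add_apply, LinearMap.compl₁₂_apply, hπ', hA'2, π,
      projection_comm hcompl hXinv hYinv, hA2]
  · have h1 : π x = 0 := hA3 _ (Submodule.projection_apply_mem _ _) fun y hy => by
      have := hx y
      simp only [LinearMap.add_apply, LinearMap.compl₁₂_apply, π, π',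
        Submodule.projection_apply_of_mem_left hcompl hy,
        Submodule.projectionOnto_apply_of_mem_right hcompl.symm hy, map_zero, add_zero] at this
      exact this
    have h2 : π' x = 0 := hA'3 _ fun y => by
      have := hx y
      simp only [LinearMap.add_apply, LinearMap.compl₁₂_apply, π, π',
        Submodule.projection_apply_right, Submodule.projectionOnto_apply_left, map_zero,
        zero_add] at this
      exact this
    have h3 := Submodule.projection_add_projection_eq_self hcompl x
    rw [show X.projection Y hcompl x = 0 from h1,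
      show Y.projection X hcompl.symm x = 0 from congrArg Subtype.val h2, add_zero] at h3
    exact h3.symm

/-- Let F be a finite field of characteristic p, G a finite group of order prime to p, and V a finite-dimensional representation of G over F carrying a nondegenerate G-invariant bilinear form (equivalently, V is self-dual). Then V is the direct sum of two G-invariant subspaces U and W such that U carries a G-invariant alternating bilinear form that is nondegenerate on U and W carries a G-invariant symmetric bilinear form that is nondegenerate on W; moreover when p = 2 the decomposition can be chosen with G acting trivially on W. -/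
theorem result {F : Type*} [Field F] [Fintype F] (p : ℕ) [Fact p.Prime] [CharP F p] {G : Type*} [Group G] [Finite G] (hcop : ¬ p ∣ Nat.card G) {V : Type*} [AddCommGroup V] [Module F V] [FiniteDimensional F V] (ρ : Representation F G V) (B : LinearMap.BilinForm F V) (hB : B.Nondegenerate) (hBinv : ∀ g : G, ∀ x y : V, B (ρ g x) (ρ g y) = B x y) : ∃ U W : Submodule F V, IsCompl U W ∧ (∀ g : G, ∀ u ∈ U, ρ g u ∈ U) ∧ (∀ g : G, ∀ w ∈ W, ρ g w ∈ W) ∧ (∃ A : LinearMap.BilinForm F V, (∀ x : V, A x x = 0) ∧ (∀ g : G, ∀ x ∈ U, ∀ y ∈ U, A (ρ g x) (ρ g y) = A x y) ∧ (∀ x ∈ U, (∀ y ∈ U, A x y = 0) → x = 0)) ∧ (∃ S : LinearMap.BilinForm F V, (∀ x y : V, S x y = S y x) ∧ (∀ g : G, ∀ x ∈ W, ∀ y ∈ W, S (ρ g x) (ρ g y) = S x y) ∧ (∀ x ∈ W, (∀ y ∈ W, S x y = 0) → x = 0)) ∧ (p = 2 → ∀ g : G, ∀ w ∈ W, ρ g w = w) := by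
  classical
  have := Fintype.ofFinite G
  have hne : NeZero (Nat.card G : F) := ⟨fun h => hcop ((CharP.cast_eq_zero_iff F p _).1 h)⟩
  by_cases hp2 : p = 2
  · subst hp2
    -- fixed points and their complement
    let e : V →ₗ[F] V := (Nat.card G : F)⁻¹ • ∑ g, ρ g
    have hfix : ∀ g v, ρ g (e v) = e v := fun g v => by
      simp only [e, LinearMap.smul_apply, LinearMap.sum_apply, map_smul, map_sum]
      congr 1
      refine Fintype.sum_equiv (Equiv.mulLeft g) _ _ fun k => ?_
      rw [Equiv.coe_mulLeft, map_mul, Module.End.mul_apply]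
    have hid : ∀ v, (∀ g, ρ g v = v) → e v = v := fun v hv => by
      simp only [e, LinearMap.smul_apply, LinearMap.sum_apply, hv, Finset.sum_const,
        Finset.card_univ, ← Nat.card_eq_fintype_card]
      rw [← Nat.cast_smul_eq_nsmul F, smul_smul, inv_mul_cancel₀ (NeZero.ne _), one_smul]
    have heinv : ∀ g v, e (ρ g v) = e v := fun g v => by
      simp only [e, LinearMap.smul_apply, LinearMap.sum_apply]
      congr 1
      refine Fintype.sum_equiv (Equiv.mulRight g) _ _ fun k => ?_
      rw [Equiv.coe_mulRight, map_mul, Module.End.mul_apply]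
    let U := LinearMap.ker e
    let W := LinearMap.range e
    have hcompl : IsCompl U W := by
      refine ⟨Submodule.disjoint_def.2 ?_, codisjoint_iff.2 (eq_top_iff.2 fun v _ => ?_)⟩
      · rintro _ hu ⟨v, rfl⟩
        rw [← hid (e v) (hfix · v)]
        exact LinearMap.mem_ker.1 hu
      · refine Submodule.mem_sup.2 ⟨v - e v, ?_, e v, ⟨v, rfl⟩, sub_add_cancel _ _⟩
        rw [LinearMap.mem_ker, map_sub, hid (e v) (hfix · v), sub_self]
    have horth : ∀ u ∈ U, ∀ w ∈ W, B u w = 0 := by
      rintro u hu _ ⟨v, rfl⟩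
      have h1 : ∀ g, B (ρ g u) (e v) = B u (e v) := fun g => by
        conv_lhs => rw [← hfix g v]
        rw [hBinv]
      have h2 : B (e u) (e v) = B u (e v) := by
        conv_lhs => rw [show e u = (Nat.card G : F)⁻¹ • ∑ g, ρ g u by simp [e]]
        rw [map_smul, map_sum, LinearMap.smul_apply, LinearMap.sum_apply,
          Finset.sum_congr rfl fun g _ => h1 g, Finset.sum_const, Finset.card_univ,
          ← Nat.card_eq_fintype_card, ← Nat.cast_smul_eq_nsmul F, smul_smul,
          inv_mul_cancel₀ (NeZero.ne _), one_smul]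
      rw [← h2, LinearMap.mem_ker.1 hu, map_zero, LinearMap.zero_apply]
    have hUinv : ∀ g, ∀ u ∈ U, ρ g u ∈ U := fun g u hu => by
      rw [LinearMap.mem_ker, heinv]; exact LinearMap.mem_ker.1 hu
    let ρU : Representation F G U :=
      (⟨U, fun g v hv => hUinv g v hv⟩ : Subrepresentation ρ).toRepresentation
    have hρU : ∀ g (u : U), (ρU g u : V) = ρ g u := fun g u => rfl
    have hBU : (B.compl₁₂ U.subtype U.subtype : LinearMap.BilinForm F U).SeparatingLeft :=
      fun u hu => Subtype.ext (hB.1 u fun v => by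
        obtain ⟨a, ha, b, hb, rfl⟩ := Submodule.mem_sup.1
          (hcompl.sup_eq_top ▸ Submodule.mem_top (x := v))
        rw [map_add, horth u u.2 b hb, add_zero]
        exact hu ⟨a, ha⟩)
    obtain ⟨A, hA1, hA2, hA3⟩ := exists_alt (F := F) (G := G) _ U rfl ρU
      (B.compl₁₂ U.subtype U.subtype) ⟨hBU, sepRight_of_sepLeft hBU⟩ (fun g x y => hBinv g x y)
      (fun u hu => Subtype.ext (by
        rw [← hid u fun g => congrArg Subtype.val (hu g)]
        exact LinearMap.mem_ker.1 u.2))
    have hWfix : ∀ g, ∀ w ∈ W, ρ g w = w := by rintro g _ ⟨v, rfl⟩; exact hfix g v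
    let b := Module.finBasis F W
    let f := b.equivFun.toLinearMap.comp (W.projectionOnto U hcompl.symm)
    refine ⟨U, W, hcompl, hUinv, fun g w hw => by rw [hWfix g w hw]; exact hw,
      ⟨A.compl₁₂ (U.projectionOnto W hcompl) (U.projectionOnto W hcompl), fun x => hA1 _,
        fun g x hx y hy => ?_, fun x hx h => ?_⟩,
      ⟨∑ i, LinearMap.BilinForm.linMulLin ((LinearMap.proj i).comp f) ((LinearMap.proj i).comp f),
        fun x y => ?_, fun g x hx y hy => by rw [hWfix g x hx, hWfix g y hy], fun x hx h => ?_⟩,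
      fun _ => hWfix⟩
    · simp only [LinearMap.compl₁₂_apply,
        Submodule.projectionOnto_apply_of_mem_left hcompl hx,
        Submodule.projectionOnto_apply_of_mem_left hcompl hy,
        Submodule.projectionOnto_apply_of_mem_left hcompl (hUinv g x hx),
        Submodule.projectionOnto_apply_of_mem_left hcompl (hUinv g y hy)]
      exact hA2 g ⟨x, hx⟩ ⟨y, hy⟩
    · have := hA3 ⟨x, hx⟩ fun y => by
        have := h y y.2
        simpa [LinearMap.compl₁₂_apply, Submodule.projectionOnto_apply_of_mem_left hcompl hx,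
          Submodule.projectionOnto_apply_of_mem_left hcompl y.2] using this
      exact congrArg Subtype.val this
    · simp only [LinearMap.sum_apply, LinearMap.BilinForm.linMulLin_apply]
      exact Finset.sum_congr rfl fun i _ => mul_comm _ _
    · have hx0 : b.equivFun ⟨x, hx⟩ = 0 := by
        funext i
        have := h (b i : V) (b i).2
        simp [f, Submodule.projectionOnto_apply_of_mem_left hcompl.symm hx,
          Pi.single_apply, Finsupp.single_apply] at this
        simpa using this
      rw [LinearEquiv.map_eq_zero_iff] at hx0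
      exact congrArg Subtype.val hx0
  · obtain ⟨N, T, hBN, hN, hT, hTb, hcomm, hpow⟩ := exists_N hB hBinv
    obtain ⟨n, hn0, U, W, hU, hW, hcompl, hUinv, hWinv, horth, hUB, hWB, hWsurj⟩ :=
      exists_fitting hB hN hT hTb hpow hcomm
    have h2 : (2 : F) ≠ 0 := fun h => hp2 (((Nat.prime_dvd_prime_iff_eq Fact.out Nat.prime_two).1
      ((CharP.cast_eq_zero_iff F p 2).1 (by exact_mod_cast h))))
    refine ⟨U, W, hcompl, hUinv, hWinv, ⟨B - B.flip, fun x => ?_, fun g x _ y _ => ?_, fun x hx h => ?_⟩,
      ⟨B + B.flip, fun x y => ?_, fun g x _ y _ => ?_, fun x hx h => ?_⟩, fun h => absurd h hp2⟩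
    · simp
    · simp [hBinv]
    · refine hUB x hx fun y hy => ?_
      -- `1 - T = 2 - N` is bijective on `U`
      let L : Module.End F V := (2 : F) • 1 - N
      have hLU : ∀ u ∈ U, L u ∈ U := fun u hu => by
        rw [hU, LinearMap.mem_ker] at hu ⊢
        simp only [L, LinearMap.sub_apply, LinearMap.smul_apply, Module.End.one_apply, map_sub,
          map_smul, hu, smul_zero, zero_sub, neg_eq_zero]
        rw [← Module.End.mul_apply, ← pow_succ, pow_succ', Module.End.mul_apply, hu, map_zero]
      have hLinj : Function.Injective (L.restrict hLU) := by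
        rw [← LinearMap.ker_eq_bot, Submodule.eq_bot_iff]
        intro u hu
        have h0 : L u = 0 := congrArg Subtype.val (LinearMap.mem_ker.1 hu)
        simp only [L, LinearMap.sub_apply, LinearMap.smul_apply, Module.End.one_apply,
          sub_eq_zero] at h0
        have hk : ∀ k : ℕ, (N ^ k) (u : V) = (2 : F) ^ k • (u : V) := fun k => by
          induction k with
          | zero => simp
          | succ k ih => rw [pow_succ, Module.End.mul_apply, ← h0, map_smul, ih, smul_smul,
              pow_succ, mul_comm]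
        have hu0 : (N ^ n) (u : V) = 0 := by
          have hmem : ∀ w : V, w ∈ U → (N ^ n) w = 0 := fun w hw => by rw [hU] at hw; exact LinearMap.mem_ker.1 hw
          exact hmem _ u.2
        rw [hk] at hu0
        exact Subtype.ext ((smul_eq_zero.1 hu0).resolve_left (pow_ne_zero _ h2))
      obtain ⟨⟨z, hz⟩, hzy⟩ := LinearMap.injective_iff_surjective.1 hLinj ⟨y, hy⟩
      rw [show y = L z from (congrArg Subtype.val hzy).symm]
      have := h z hz
      simp only [LinearMap.sub_apply, LinearMap.BilinForm.flip_apply] at this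
      simp only [L, LinearMap.sub_apply, LinearMap.smul_apply, Module.End.one_apply, map_sub,
        map_smul, hBN, smul_eq_mul]
      linear_combination this
    · simp [add_comm]
    · simp [hBinv]
    · refine hWB x hx fun y hy => ?_
      obtain ⟨z, hz, rfl⟩ := hWsurj y hy
      rw [hBN]
      exact h z hz

end Cfsg.Agent.S4966
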