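import Cfsg.Statements.S4959
import Cfsg.Agent.KGV.Basic
import Cfsg.Agent.KGV.WeilPiece
import Cfsg.Agent.Blocks.Regular
import Cfsg.Agent.Solvable.Basics
import Cfsg.Agent.S4966
import Cfsg.Agent.ZJ.ConjModule
import Mathlib.GroupTheory.CommutingProbability

set_option autoImplicit false
open Cfsg

namespace Cfsg.Agent.S4959

open CfsgLib.Char CfsgLib.KGV CfsgLib.Block Finset
open scoped ComplexConjugate

/-- The action on an invariant subspace. -/
@[reducible] def subAction {p : ℕ} {H : Type*} [Group H] {V : Type*} [AddCommGroup V]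
    [Module (ZMod p) V] (ρ : Representation (ZMod p) H V) (W : Submodule (ZMod p) V)
    (hW : ∀ h, ∀ w ∈ W, ρ h w ∈ W) : DistribMulAction H W where
  smul h w := ⟨ρ h w, hW h w w.2⟩
  one_smul w := Subtype.ext (by show ρ 1 (w : V) = w; simp)
  mul_smul g h w := Subtype.ext (by show ρ (g * h) (w : V) = ρ g (ρ h w); simp)
  smul_zero h := Subtype.ext (by show ρ h 0 = 0; simp)
  smul_add h v w := Subtype.ext (by show ρ h ((v : V) + w) = ρ h v + ρ h w; simp)

/-- The properties of a family of weights of a module. -/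
def IsWeight (p : ℕ) {H : Type*} [Group H] [Fintype H] {V : Type*} [AddCommGroup V]
    [Module (ZMod p) V] (ρ : Representation (ZMod p) H V) (W : Submodule (ZMod p) V)
    (f : (ZMod p)ˣ → H → ℂ) : Prop :=
  (∀ t, IntCoeff (f t)) ∧ (∀ t h, IsIntegral ℤ (f t h)) ∧
    (∀ t h, ‖f t h‖ ^ 2 * (Nat.card {x : W // ρ h (x : V) = x} : ℝ) = (Nat.card W : ℝ)) ∧
    (∀ t, f t 1 = 1) ∧
    (∀ (M : Ideal Cfsg.AlgInt), Cfsg.IsPModular p M → ∀ t h, ¬ (∀ x ∈ W, ρ h x = x) →
      Cfsg.MemLocalIdeal M (f t h)) ∧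
    (∀ σ : ℂ ≃+* ℂ, ∃ u : (ZMod p)ˣ, ∀ t h, σ (f t h) = f (u * t) h)

variable {p : ℕ} [Fact p.Prime] {H : Type*} [Group H] [Fintype H] {V : Type*} [AddCommGroup V]
  [Fintype V] [Module (ZMod p) V] (ρ : Representation (ZMod p) H V)

/-- The additive pairing of a bilinear form on a subspace. -/
def pairing (S : LinearMap.BilinForm (ZMod p) V) (W : Submodule (ZMod p) V) :
    W →+ W →+ ZMod p :=
  AddMonoidHom.mk' (fun x => AddMonoidHom.mk' (fun y => S (x : V) (y : V))
    (fun a b => by simp)) (fun a b => by ext; simp)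

theorem exists_weight_symm (hcop : ¬ p ∣ Nat.card H) (W : Submodule (ZMod p) V)
    (hW : ∀ h, ∀ w ∈ W, ρ h w ∈ W) (S : LinearMap.BilinForm (ZMod p) V)
    (hS : ∀ x ∈ W, ∀ y ∈ W, S x y = S y x)
    (hSinv : ∀ h, ∀ x ∈ W, ∀ y ∈ W, S (ρ h x) (ρ h y) = S x y)
    (hSnd : ∀ x ∈ W, (∀ y ∈ W, S x y = 0) → x = 0) : ∃ f, IsWeight p ρ W f := by
  classical
  let : DistribMulAction H W := subAction ρ W hW
  have := Fintype.ofFinite W
  have hU : ∀ x : W, p • x = 0 := fun x => ZModModule.char_nsmul_eq_zero p x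
  obtain ⟨f, h1, h2, h3, h4, h5, h6⟩ := exists_gauss (H := H) (U := W) hcop hU (pairing S W)
    (fun x y => hS x x.2 y y.2) (fun h x y => hSinv h x x.2 y y.2)
    (fun x hx => Subtype.ext (hSnd x x.2 fun y hy => hx ⟨y, hy⟩))
  refine ⟨f, h1, h2, fun t h => ?_, fun t => h4 t 1 (one_smul H),
    fun M hM t h hne => h5 M hM t h fun hx => hne fun x hxW => congrArg Subtype.val (hx ⟨x, hxW⟩),
    h6⟩
  rw [← h3 t h]
  congr 2
  exact Nat.card_congr (Equiv.subtypeEquivRight fun x => (Subtype.ext_iff (a1 := h • x) (a2 := x)).symm)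

theorem exists_weight_alt (hcop : ¬ p ∣ Nat.card H) (W : Submodule (ZMod p) V)
    (hW : ∀ h, ∀ w ∈ W, ρ h w ∈ W) (A : LinearMap.BilinForm (ZMod p) V) (hA : ∀ x, A x x = 0)
    (hAinv : ∀ h, ∀ x ∈ W, ∀ y ∈ W, A (ρ h x) (ρ h y) = A x y)
    (hAnd : ∀ x ∈ W, (∀ y ∈ W, A x y = 0) → x = 0) : ∃ f, IsWeight p ρ W f := by
  classical
  by_cases hp2 : p = 2
  · subst hp2
    refine exists_weight_symm ρ hcop W hW A (fun x _ y _ => ?_) hAinv hAnd
    have := hA (x + y)
    simp only [map_add, LinearMap.add_apply, hA, zero_add, add_zero] at this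
    exact CharTwo.add_eq_zero.1 (by rw [add_comm]; exact this)
  let : DistribMulAction H W := subAction ρ W hW
  have := Fintype.ofFinite W
  have hU : ∀ x : W, p • x = 0 := fun x => ZModModule.char_nsmul_eq_zero p x
  obtain ⟨f, h1, h2, h3, h4, h5, h6⟩ := exists_weil (H := H) (U := W) hcop hp2 hU (pairing A W)
    (fun x => hA x) (fun h x y => hAinv h x x.2 y y.2)
    (fun x hx => Subtype.ext (hAnd x x.2 fun y hy => hx ⟨y, hy⟩))
  refine ⟨fun _ => f, fun _ => h1, fun _ => h2, fun t h => ?_, fun _ => h4,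
    fun M hM t h hne => h5 M hM h fun hx => hne fun x hxW => congrArg Subtype.val (hx ⟨x, hxW⟩),
    fun σ => ⟨1, fun t h => h6 σ h⟩⟩
  rw [← h3 h]
  congr 2
  exact Nat.card_congr (Equiv.subtypeEquivRight fun x => (Subtype.ext_iff (a1 := h • x) (a2 := x)).symm)

/-- A coprime module with a nondegenerate invariant form has a family of weights. -/
theorem exists_family (hcop : ¬ p ∣ Nat.card H) (B : LinearMap.BilinForm (ZMod p) V)
    (hBinv : ∀ h x y, B (ρ h x) (ρ h y) = B x y) (hBnd : ∀ x, (∀ y, B x y = 0) → x = 0)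
    (hfaith : ∀ h, (∀ x, ρ h x = x) → h = 1) :
    ∃ f : (ZMod p)ˣ × (ZMod p)ˣ → H → ℂ, (∀ t, IntCoeff (f t)) ∧ (∀ t, f t 1 = 1) ∧
      (∀ (M : Ideal Cfsg.AlgInt), Cfsg.IsPModular p M → ∀ t h, h ≠ 1 →
        Cfsg.MemLocalIdeal M (f t h)) ∧
      (∀ t h, ‖f t h‖ ^ 2 * (Nat.card {x : V // ρ h x = x} : ℝ) = (Nat.card V : ℝ)) ∧
      (∀ σ : ℂ ≃+* ℂ, ∃ u : (ZMod p)ˣ × (ZMod p)ˣ, ∀ t h, σ (f t h) = f (u * t) h) := by
  classical
  have : Module.Finite (ZMod p) V := Module.Finite.of_finite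
  have hl : B.SeparatingLeft := hBnd
  obtain ⟨U, W, hUW, hUinv, hWinv, ⟨A, hA, hAinv, hAnd⟩, ⟨S, hS, hSinv, hSnd⟩, -⟩ :=
    Cfsg.Agent.S4966.result p hcop ρ B ⟨hl, Cfsg.Agent.S4966.sepRight_of_sepLeft hl⟩ hBinv
  obtain ⟨fU, u1, u2, u3, u4, u5, u6⟩ := exists_weight_alt ρ hcop U hUinv A hA hAinv hAnd
  obtain ⟨fW, w1, w2, w3, w4, w5, w6⟩ :=
    exists_weight_symm ρ hcop W hWinv S (fun x _ y _ => hS x y) hSinv hSnd
  refine ⟨fun t => fU t.1 * fW t.2, fun t => (u1 t.1).mul (w1 t.2), fun t => ?_,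
    fun M hM t h hne => ?_, fun t h => ?_, fun σ => ?_⟩
  · simp only [Pi.mul_apply, u4, w4, one_mul]
  · haveI : M.IsPrime := hM.2.1.isPrime
    by_cases hU : ∀ x ∈ U, ρ h x = x
    · refine memLocalIdeal_mul_left (integral_mem_localRing (u2 t.1 h)) (w5 M hM t.2 h fun hW => ?_)
      refine hne (hfaith h fun x => ?_)
      obtain ⟨a, ha, b, hb, rfl⟩ := Submodule.mem_sup.1
        (hUW.sup_eq_top ▸ Submodule.mem_top (x := x))
      rw [map_add, hU a ha, hW b hb]
    · exact memLocalIdeal_mul_right (u5 M hM t.1 h hU) (integral_mem_localRing (w2 t.2 h))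
  · let e := Submodule.prodEquivOfIsCompl U W hUW
    have h1 : Nat.card V = Nat.card U * Nat.card W := by
      rw [← Nat.card_prod, Nat.card_congr e.toEquiv]
    have h2 : Nat.card {x : V // ρ h x = x} =
        Nat.card {x : U // ρ h (x : V) = x} * Nat.card {x : W // ρ h (x : V) = x} := by
      rw [← Nat.card_prod, Nat.card_congr (β := {x : U × W // ρ h (e x) = e x})
        (e.toEquiv.subtypeEquiv (fun x => Iff.rfl)).symm]
      refine Nat.card_congr
        { toFun := fun x => (⟨x.1.1, ?_⟩, ⟨x.1.2, ?_⟩)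
          invFun := fun x => ⟨(x.1.1, x.2.1), ?_⟩
          left_inv := fun x => rfl
          right_inv := fun x => rfl }
      · have hx := x.2
        simp only [e, Submodule.coe_prodEquivOfIsCompl', map_add] at hx
        have : e (⟨ρ h x.1.1, hUinv h _ x.1.1.2⟩, ⟨ρ h x.1.2, hWinv h _ x.1.2.2⟩) = e x.1 := by
          simpa [e, Submodule.coe_prodEquivOfIsCompl'] using hx
        exact congrArg (fun z : U × W => (z.1 : V)) (e.injective this)
      · have hx := x.2
        simp only [e, Submodule.coe_prodEquivOfIsCompl', map_add] at hx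
        have : e (⟨ρ h x.1.1, hUinv h _ x.1.1.2⟩, ⟨ρ h x.1.2, hWinv h _ x.1.2.2⟩) = e x.1 := by
          simpa [e, Submodule.coe_prodEquivOfIsCompl'] using hx
        exact congrArg (fun z : U × W => (z.2 : V)) (e.injective this)
      · simp [e, x.1.2, x.2.2]
    simp only [Pi.mul_apply]
    rw [h1, h2, norm_mul, mul_pow, Nat.cast_mul, Nat.cast_mul,
      mul_mul_mul_comm, u3, w3]
  · obtain ⟨a, ha⟩ := u6 σ
    obtain ⟨b, hb⟩ := w6 σ
    exact ⟨(a, b), fun t h => by simp [ha, hb]⟩

section Main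

variable {X : Type*} [Group X] [Fintype X]

theorem apply_not_mem {V : Subgroup X} [V.Normal] (hVp : IsPGroup p V) (hidx : ¬ p ∣ V.index)
    (hab : ∀ a ∈ V, ∀ b ∈ V, a * b = b * a) {M : Ideal Cfsg.AlgInt} (hM : Cfsg.IsPModular p M)
    {χ : X → ℂ} (hχ : Cfsg.IsIrrCharacter X χ) {v : X} (hv : v ∈ V) :
    ¬ Cfsg.MemLocalIdeal M (χ v) := by
  classical
  haveI : M.IsPrime := hM.2.1.isPrime
  have := Fintype.ofFinite V
  obtain ⟨θ, hθ, hc⟩ := exists_constituent_restrict (N := V) hχ
  obtain ⟨k, hk, hk1⟩ := exists_degree_ratio hχ hθ hc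
  have hθ1 : θ 1 = 1 :=
    IsIrrCharacter.apply_one_eq_one hθ fun a b => Subtype.ext (hab a a.2 b b.2)
  rw [hθ1, mul_one] at hk1
  obtain ⟨n, hn⟩ := hVp ⟨v, hv⟩
  have hn' : v ^ p ^ n = 1 := by simpa using congrArg Subtype.val hn
  have h := CfsgLib.Block.char_cong_pPart hM (IsIrrCharacter.isCharacter hχ) (Commute.one_right v)
    hn' (Fact.out : p.Prime).not_dvd_one (one_pow 1)
  intro h0
  rw [mul_one, hk1] at h
  have h2 := memLocalIdeal_sub h0 h
  rw [sub_sub_cancel] at h2
  exact hidx (((memLocalIdeal_natCast_iff hM).1 h2).trans hk)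

theorem card_conjClasses_le_of_family {V : Subgroup X} [V.Normal] (hVp : IsPGroup p V)
    (hidx : ¬ p ∣ V.index) (hab : ∀ a ∈ V, ∀ b ∈ V, a * b = b * a) {v : X} (hv : v ∈ V)
    (D : Subgroup X) [Fintype D] (hD : ∀ d ∈ D, d * v = v * d) (hcop : ¬ p ∣ Nat.card D)
    {T : Type*} [Fintype T] [Nonempty T] (f : T → D → ℂ) (hf : ∀ t, IntCoeff (f t))
    (hf1 : ∀ t, f t 1 = 1)
    (hfM : ∀ (M : Ideal Cfsg.AlgInt), Cfsg.IsPModular p M → ∀ t d, d ≠ 1 →
      Cfsg.MemLocalIdeal M (f t d))
    (hfn : ∀ t (d : D), ‖f t d‖ ^ 2 *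
      (Nat.card (Subgroup.centralizer ({(d : X) * v} : Set X)) : ℝ) ≤
        (Nat.card V : ℝ) * (Nat.card (Subgroup.centralizer ({d} : Set D)) : ℝ))
    (hgal : ∀ σ : ℂ ≃+* ℂ, ∃ π : T → T, Function.Injective π ∧
      ∀ t d, σ (f t d) = f (π t) d) :
    Nat.card (ConjClasses X) ≤ Nat.card V := by
  classical
  have hp : p.Prime := Fact.out
  obtain ⟨M, hM⟩ := exists_isPModular hp
  haveI : M.IsPrime := hM.2.1.isPrime
  obtain ⟨Y, hY⟩ : ∃ Y, Y = Subgroup.centralizer ({v} : Set X) := ⟨_, rfl⟩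
  have hDY : D ≤ Y := fun d hd => hY ▸ Subgroup.mem_centralizer_singleton_iff.2 (hD d hd)
  have hvY : v ∈ Y := hY ▸ Subgroup.mem_centralizer_singleton_iff.2 rfl
  have hvc : (⟨v, hvY⟩ : Y) ∈ Subgroup.center Y := Subgroup.mem_center_iff.2 fun g => by
    have hg := g.2
    simp only [hY] at hg
    exact Subtype.ext (Subgroup.mem_centralizer_singleton_iff.1 hg)
  have := Fintype.ofFinite Y
  -- the coefficient functions
  let F : (X → ℂ) → T → D → ℂ := fun χ t d => χ ((d : X) * v) * f t d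
  have hF : ∀ χ ∈ irrFinset X, ∀ t, IntCoeff (F χ t) := by
    intro χ hχ t
    have hres := IsCharacter.restrict (IsIrrCharacter.isCharacter (mem_irrFinset.1 hχ)) Y
    have hcolumn : IntCoeff fun d : D => χ ((d : X) * v) := by
      choose! c hcint hc using fun φ (hφ : φ ∈ irrFinset Y) =>
        exists_central_scalar (mem_irrFinset.1 hφ) hvc
      have heq : (fun d : D => χ ((d : X) * v)) = fun d : D => ∑ φ ∈ irrFinset Y,
          (Cfsg.classInner (fun y : Y => χ y) φ * c φ) * φ (Subgroup.inclusion hDY d) := by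
        funext d
        have := congrFun (eq_sum_irr (IsCharacter.isClassFunction hres))
          (Subgroup.inclusion hDY d * ⟨v, hvY⟩)
        simp only [Finset.sum_apply, Pi.smul_apply, smul_eq_mul, Subgroup.coe_mul,
          Subgroup.coe_inclusion] at this
        rw [this]
        exact Finset.sum_congr rfl fun φ hφ => by rw [hc φ hφ, mul_assoc]
      rw [heq]
      suffices ∀ s ⊆ irrFinset Y, IntCoeff fun d : D => ∑ φ ∈ s,
          (Cfsg.classInner (fun y : Y => χ y) φ * c φ) * φ (Subgroup.inclusion hDY d) from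
        this _ subset_rfl
      intro s
      induction s using Finset.induction_on with
      | empty => intro _; simpa using IntCoeff.const (H := D) isIntegral_zero
      | insert a s ha ih =>
        intro hsub
        rw [Finset.insert_subset_iff] at hsub
        obtain ⟨n, hn⟩ := IsCharacter.exists_classInner_eq_natCast hres (mem_irrFinset.1 hsub.1)
        simp only [Finset.sum_insert ha]
        exact ((IntCoeff.of_isCharacter (IsCharacter.comp (IsIrrCharacter.isCharacter
          (mem_irrFinset.1 hsub.1)) (Subgroup.inclusion hDY))).smul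
            ((hn ▸ isIntegral_natCast' n).mul (hcint a hsub.1))).add (ih hsub.2)
    exact hcolumn.mul (hf t)
  let s : Finset ((X → ℂ) × (D → ℂ) × T) := irrFinset X ×ˢ (irrFinset D ×ˢ univ)
  let a : (X → ℂ) × (D → ℂ) × T → ℂ := fun i => Cfsg.classInner (F i.1 i.2.2) i.2.1
  have hmem : ∀ i, i ∈ s ↔ i.1 ∈ irrFinset X ∧ i.2.1 ∈ irrFinset D := fun i => by simp [s]
  have hint : ∀ i ∈ s, IsIntegral ℤ (a i) := fun i hi =>
    (hF _ ((hmem i).1 hi).1 _).2 _ (mem_irrFinset.1 ((hmem i).1 hi).2)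
  have hne : ∀ i ∈ s, a i ≠ 0 := by
    rintro ⟨χ, η, t⟩ hi h0
    obtain ⟨hχ, hη⟩ := (hmem _).1 hi
    have hη' := IsIrrCharacter.isCharacter (mem_irrFinset.1 hη)
    have h1 : ∑ d : D, F χ t d * conj (η d) = 0 := by
      rw [show a (χ, η, t) = Cfsg.classInner (F χ t) η from rfl, classInner_def, mul_eq_zero] at h0
      exact h0.resolve_left (inv_ne_zero (Nat.cast_ne_zero.2 Nat.card_pos.ne'))
    rw [← Finset.add_sum_erase _ _ (Finset.mem_univ (1 : D))] at h1
    have h2 : Cfsg.MemLocalIdeal M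
        (∑ d ∈ (univ : Finset D).erase 1, F χ t d * conj (η d)) := by
      refine memLocalIdeal_sum fun d hd => ?_
      refine memLocalIdeal_mul_right (memLocalIdeal_mul_left ?_ (hfM M hM t d (Finset.mem_erase.1 hd).1)) ?_
      · exact integral_mem_localRing (IsCharacter.isIntegral
          (IsIrrCharacter.isCharacter (mem_irrFinset.1 hχ)) _)
      · rw [← IsCharacter.apply_inv hη']
        exact integral_mem_localRing (IsCharacter.isIntegral hη' _)
    have h3 : Cfsg.MemLocalIdeal M (F χ t 1 * conj (η 1)) := by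
      rw [eq_neg_of_add_eq_zero_left h1]
      exact memLocalIdeal_neg h2
    simp only [F, OneMemClass.coe_one, one_mul, hf1, mul_one] at h3
    obtain ⟨n, -, hn⟩ := IsIrrCharacter.exists_degree (mem_irrFinset.1 hη)
    simp only at hn
    rw [hn, Complex.conj_natCast] at h3
    refine not_memLocalIdeal_mul (integral_mem_localRing (IsCharacter.isIntegral
      (IsIrrCharacter.isCharacter (mem_irrFinset.1 hχ)) v))
      (apply_not_mem hVp hidx hab hM (mem_irrFinset.1 hχ) hv) (fun h4 => hcop ?_) h3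
    have h5 := charDegree_dvd_card (⟨η, mem_irrFinset.1 hη⟩ : Cfsg.IrrCharacter D)
    rw [show Cfsg.charDegree η = n by simp [Cfsg.charDegree, hn]] at h5
    exact ((memLocalIdeal_natCast_iff hM).1 h4).trans h5
  have hfix : ∀ σ : ℂ ≃+* ℂ, σ (∏ i ∈ s, a i) = ∏ i ∈ s, a i := by
    intro σ
    obtain ⟨π, hπ, hπf⟩ := hgal σ
    let τ : (X → ℂ) × (D → ℂ) × T → (X → ℂ) × (D → ℂ) × T :=
      fun i => (fun g => σ (i.1 g), fun d => σ (i.2.1 d), π i.2.2)
    have hτ : Function.Injective τ := fun i j h => by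
      simp only [τ, Prod.mk.injEq, funext_iff, EmbeddingLike.apply_eq_iff_eq] at h
      exact Prod.ext (funext h.1) (Prod.ext (funext h.2.1) (hπ h.2.2))
    have hτs : ∀ i ∈ s, τ i ∈ s := fun i hi => (hmem _).2
      ⟨mem_irrFinset.2 (IsIrrCharacter.map_ringEquiv (mem_irrFinset.1 ((hmem i).1 hi).1) σ),
       mem_irrFinset.2 (IsIrrCharacter.map_ringEquiv (mem_irrFinset.1 ((hmem i).1 hi).2) σ)⟩
    have himg : s.image τ = s := Finset.eq_of_subset_of_card_le (Finset.image_subset_iff.2 hτs)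
      (Finset.card_image_of_injective s hτ).ge
    have hτa : ∀ i ∈ s, σ (a i) = a (τ i) := fun i hi => by
      have h1 := IsIrrCharacter.isCharacter (mem_irrFinset.1 ((hmem i).1 hi).2)
      have h2 := IsIrrCharacter.isCharacter
        (IsIrrCharacter.map_ringEquiv (mem_irrFinset.1 ((hmem i).1 hi).2) σ)
      simp only [a, τ, F, classInner_def, map_mul, map_inv₀, map_natCast, map_sum, hπf,
        ← IsCharacter.apply_inv h1, ← IsCharacter.apply_inv h2]
    rw [map_prod, Finset.prod_congr rfl hτa]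
    conv_rhs => rw [← himg]
    rw [Finset.prod_image fun i _ j _ h => hτ h]
  have h1 := card_le_sum_norm_pow s a 2 hint hne hfix
  -- the upper bound
  have hparseval : ∀ χ ∈ irrFinset X, ∀ t, ∑ η ∈ irrFinset D, ‖a (χ, η, t)‖ ^ 2 =
      (Nat.card D : ℝ)⁻¹ * ∑ d : D, ‖χ ((d : X) * v)‖ ^ 2 * ‖f t d‖ ^ 2 := by
    intro χ hχ t
    have h2 := classInner_eq_sum_irr (hF χ hχ t).1 (F χ t)
    rw [CfsgLib.Char.classInner_self] at h2
    simp only [Complex.mul_conj', ← Complex.ofReal_pow, ← Complex.ofReal_sum,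
      Complex.ofReal_inj] at h2
    refine Eq.trans h2.symm ?_
    congr 1
    exact Finset.sum_congr rfl fun d _ => by simp only [F, norm_mul, mul_pow]
  have hkD : ∑ d : D, (Nat.card (Subgroup.centralizer ({d} : Set D)) : ℝ) =
      (Nat.card (ConjClasses D) : ℝ) * (Nat.card D : ℝ) := by
    rw [← Nat.cast_sum, ← Nat.cast_mul, Nat.cast_inj, ← card_comm_eq_card_conjClasses_mul_card,
      Nat.card_congr (β := Σ d : D, {e : D // Commute d e})
        (Equiv.subtypeProdEquivSigmaSubtype fun d e => Commute d e), Nat.card_sigma]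
    exact Finset.sum_congr rfl fun d _ => Nat.card_congr (Equiv.subtypeEquivRight fun e => by
      rw [Subgroup.mem_centralizer_singleton_iff]; exact eq_comm)
  have h2 : ∑ i ∈ s, ‖a i‖ ^ 2 ≤
      (Fintype.card T : ℝ) * ((Nat.card V : ℝ) * (Nat.card (ConjClasses D) : ℝ)) := by
    rw [Finset.sum_product, Finset.sum_congr rfl fun χ hχ => Finset.sum_product_right _ _ _]
    rw [Finset.sum_congr rfl fun χ hχ => Finset.sum_congr rfl fun t _ => hparseval χ hχ t,
      Finset.sum_comm]
    refine (Finset.sum_le_card_nsmul _ _ ((Nat.card V : ℝ) * (Nat.card (ConjClasses D) : ℝ))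
      fun t _ => ?_).trans (le_of_eq (by rw [Finset.card_univ, nsmul_eq_mul]))
    rw [← Finset.mul_sum, Finset.sum_comm,
      Finset.sum_congr rfl fun d _ => by rw [← Finset.sum_mul, sum_norm_sq_column],
      inv_mul_le_iff₀ (by exact_mod_cast Nat.card_pos)]
    calc _ ≤ ∑ d : D, (Nat.card V : ℝ) *
          (Nat.card (Subgroup.centralizer ({d} : Set D)) : ℝ) :=
        Finset.sum_le_sum fun d _ => by rw [mul_comm]; exact hfn t d
      _ = _ := by rw [← Finset.mul_sum, hkD]; ring
  have hs : s.card = Nat.card (ConjClasses X) * (Nat.card (ConjClasses D) * Fintype.card T) := by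
    rw [Finset.card_product, Finset.card_product, ← card_irr_eq_card_conjClasses, card_irr,
      ← card_irr_eq_card_conjClasses, card_irr, Finset.card_univ]
  rw [hs] at h1
  push_cast at h1
  have h3 := h1.trans h2
  have hkpos : (0 : ℝ) < (Nat.card (ConjClasses D) : ℝ) * (Fintype.card T : ℝ) := by
    refine mul_pos ?_ (by exact_mod_cast Fintype.card_pos)
    exact_mod_cast Nat.card_pos
  have h4 : (Nat.card (ConjClasses X) : ℝ) ≤ (Nat.card V : ℝ) := by
    refine le_of_mul_le_mul_right ?_ hkpos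
    linarith
  exact_mod_cast h4

end Main

/-- Let X be a finite group and V a normal subgroup of X in which every element has order dividing the prime p, whose index in X is prime to p and which is its own centralizer in X; so V is an elementary abelian normal Sylow p-subgroup, and any complement G to V in X is a group of order prime to p acting faithfully on the vector space V by conjugation (the coprime linear setting of the k(GV) problem). Let G be a complement to V in X, let v be in V and let H be the centralizer of v in G. Suppose there is a subgroup U of V normalized by H, on which H acts faithfully, and carrying an H-invariant bi-additive pairing β with values in the integers modulo p that is nondegenerate on U (equivalently: the restriction of the module V to H has a faithful self-dual submodule; such a v is called a real vector for G). Then the number of conjugacy classes of X is at most the order of V (the real-vector criterion for the k(GV) problem). The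 pairing is given as a function on X whose relevant values are those on pairs from U. -/
theorem result {X : Type*} [Group X] [Finite X] (p : ℕ) [Fact p.Prime] (V : Subgroup X) [V.Normal] (hVexp : ∀ v ∈ V, v ^ p = 1) (hidx : ¬ p ∣ V.index) (hself : Subgroup.centralizer (V : Set X) = V) (G : Subgroup X) (hGV : Subgroup.IsComplement' V G) (v : X) (hv : v ∈ V) (U : Subgroup X) (hUV : U ≤ V) (hUinv : ∀ h ∈ G, h * v * h⁻¹ = v → ∀ u ∈ U, h * u * h⁻¹ ∈ U) (hUfaith : ∀ h ∈ G, h * v * h⁻¹ = v → (∀ u ∈ U, h * u * h⁻¹ = u) → h = 1) (β : X → X → ZMod p) (hβl : ∀ u ∈ U, ∀ u' ∈ U, ∀ w ∈ U, β (u * u') w = β u w + β u' w) (hβr : ∀ u ∈ U, ∀ w ∈ U, ∀ w' ∈ U, β u (w * w') = β u w + β u w') (hβinv : ∀ h ∈ G, h * v * h⁻¹ = v → ∀ u ∈ U, ∀ w ∈ U, β (h * u * h⁻¹) (h * w * h⁻¹) = β u w) (hβnd : ∀ u ∈ U, (∀ w ∈ U, β u w = 0) → u = 1) : Nat.card (ConjClasses X) ≤ Nat.card V := by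
  classical
  have := Fintype.ofFinite X
  have hp : p.Prime := Fact.out
  have hab : ∀ a ∈ V, ∀ b ∈ V, a * b = b * a := fun a ha b hb => by
    have : b ∈ Subgroup.centralizer (V : Set X) := hself.symm ▸ hb
    exact Subgroup.mem_centralizer_iff.1 this a ha
  have hVp : IsPGroup p V := fun x => ⟨1, Subtype.ext (by simpa using hVexp x x.2)⟩
  have hcardG : Nat.card G = V.index := hGV.symm.index_eq_card.symm
  obtain ⟨D, hDdef⟩ : ∃ D, D = G ⊓ Subgroup.centralizer ({v} : Set X) := ⟨_, rfl⟩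
  have hD : ∀ d ∈ D, d ∈ G ∧ d * v * d⁻¹ = v := fun d hd => by
    rw [hDdef] at hd
    exact ⟨hd.1, by rw [mul_inv_eq_iff_eq_mul]; exact Subgroup.mem_centralizer_singleton_iff.1 hd.2⟩
  have hDv : ∀ d ∈ D, d * v = v * d := fun d hd => mul_inv_eq_iff_eq_mul.1 (hD d hd).2
  have := Fintype.ofFinite D
  have hcop : ¬ p ∣ Nat.card D := fun h => hidx (hcardG ▸ h.trans
    (Subgroup.card_dvd_of_le (hDdef ▸ inf_le_left)))
  have hUel : Cfsg.IsElementaryAbelian p U :=
    ⟨⟨⟨fun a b => Subtype.ext (hab a (hUV a.2) b (hUV b.2))⟩⟩, fun a ha => hVexp a (hUV ha)⟩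
  have := Fintype.ofFinite (CfsgLib.ZJ.ElabMod U hUel)
  have hnormU : D ≤ Subgroup.normalizer (U : Set X) := fun d hd =>
    Subgroup.mem_normalizer_iff.2 fun n => by
      refine ⟨hUinv d (hD d hd).1 (hD d hd).2 n, fun hn => ?_⟩
      have := hUinv d⁻¹ (G.inv_mem (hD d hd).1) (hD d⁻¹ (D.inv_mem hd)).2 _ hn
      simpa [mul_assoc] using this
  let ρ : Representation (ZMod p) D (CfsgLib.ZJ.ElabMod U hUel) :=
    (CfsgLib.ZJ.conjEnd hUel).comp (Subgroup.inclusion hnormU)
  have hρ : ∀ (d : D) (u : CfsgLib.ZJ.ElabMod U hUel), ((CfsgLib.ZJ.ofVec hUel (ρ d u) : U) : X) =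
      (d : X) * (CfsgLib.ZJ.ofVec hUel u : U) * (d : X)⁻¹ := fun d u => rfl
  let val : CfsgLib.ZJ.ElabMod U hUel → X := fun u => (CfsgLib.ZJ.ofVec hUel u : U)
  have hval : ∀ u, val u ∈ U := fun u => (CfsgLib.ZJ.ofVec hUel u).2
  have hvalinj : Function.Injective val := fun a b h =>
    CfsgLib.ZJ.ofVec_injective hUel (Subtype.ext h)
  let B : LinearMap.BilinForm (ZMod p) (CfsgLib.ZJ.ElabMod U hUel) :=
    (AddMonoidHom.mk' (fun x => (AddMonoidHom.mk' (fun y => β (val x) (val y))
        (fun a b => hβr _ (hval x) _ (hval a) _ (hval b))).toZModLinearMap p)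
      (fun a b => LinearMap.ext fun y => hβl _ (hval a) _ (hval b) _ (hval y))).toZModLinearMap p
  obtain ⟨f, f1, f2, f3, f4, f5⟩ := exists_family ρ hcop B
    (fun d x y => hβinv d (hD d d.2).1 (hD d d.2).2 _ (hval x) _ (hval y))
    (fun x hx => hvalinj (hβnd _ (hval x) fun w hw => hx (CfsgLib.ZJ.toVec hUel ⟨w, hw⟩)))
    (fun d hd => Subtype.ext (hUfaith d (hD d d.2).1 (hD d d.2).2 fun u hu =>
      congrArg val (hd (CfsgLib.ZJ.toVec hUel ⟨u, hu⟩))))
  refine card_conjClasses_le_of_family hVp hidx hab hv D hDv hcop f f1 f2 f3 (fun t d => ?_)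
    fun σ => ?_
  swap
  · obtain ⟨u, hu⟩ := f5 σ
    exact ⟨fun t => u * t, mul_right_injective u, hu⟩
  -- the centralizer of `d v`
  obtain ⟨P, hP⟩ : ∃ P, P = V ⊓ Subgroup.centralizer ({(d : X)} : Set X) := ⟨_, rfl⟩
  have hpow : ∀ y ∈ Subgroup.centralizer ({(d : X) * v} : Set X), Commute y d ∧ Commute y v := by
    intro y hy
    have hy' : Commute y ((d : X) * v) := Subgroup.mem_centralizer_singleton_iff.1 hy
    have h1 : Commute y ((d : X) ^ p) := by
      have h := hy'.pow_right p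
      rwa [(show Commute (d : X) v from hDv d d.2).mul_pow, hVexp v hv, mul_one] at h
    obtain ⟨m, hm⟩ := exists_pow_eq_self_of_coprime (x := (d : X)) (n := p) (by
      rw [Subgroup.orderOf_coe]
      exact Nat.Coprime.coprime_dvd_right (orderOf_dvd_natCard d) (hp.coprime_iff_not_dvd.2 hcop))
    have h2 : Commute y (d : X) := hm ▸ h1.pow_right m
    refine ⟨h2, ?_⟩
    have := h2.inv_right.mul_right hy'
    rwa [inv_mul_cancel_left] at this
  have hcard : Nat.card (Subgroup.centralizer ({(d : X) * v} : Set X)) ≤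
      Nat.card P * Nat.card (Subgroup.centralizer ({d} : Set D)) := by
    rw [← Nat.card_prod]
    have key : ∀ y : Subgroup.centralizer ({(d : X) * v} : Set X),
        ∃ z : P × Subgroup.centralizer ({d} : Set D), ((z.1 : X) * ((z.2 : D) : X)) = y := by
      intro y
      obtain ⟨⟨a, g⟩, hag⟩ := hGV.surjective (y : X)
      have hag' : (a : X) * (g : X) = y := hag
      obtain ⟨hyd, hyv⟩ := hpow y y.2
      have hgv : Commute (g : X) v := by
        rw [show (g : X) = (a : X)⁻¹ * y by rw [← hag']; group]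
        exact ((show Commute (a : X) v from hab a a.2 v hv).inv_left).mul_left hyv
      have hgd : Commute (g : X) d := by
        have hmem : (g : X) * d * (g : X)⁻¹ * (d : X)⁻¹ ∈ V ⊓ G := by
          refine Subgroup.mem_inf.2 ⟨?_, mul_mem (mul_mem (mul_mem g.2 (hD d d.2).1) (inv_mem g.2))
            (inv_mem (hD d d.2).1)⟩
          have h1 : (a : X) * (g : X) * d = d * ((a : X) * g) := by rw [hag']; exact hyd
          have e : (g : X) * d * (g : X)⁻¹ * (d : X)⁻¹ =
              (a : X)⁻¹ * ((d : X) * a * (d : X)⁻¹) := by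
            calc (g : X) * d * (g : X)⁻¹ * (d : X)⁻¹
                = (a : X)⁻¹ * ((a : X) * g * d) * (g : X)⁻¹ * (d : X)⁻¹ := by group
              _ = (a : X)⁻¹ * (d * ((a : X) * g)) * (g : X)⁻¹ * (d : X)⁻¹ := by rw [h1]
              _ = _ := by group
          rw [e]
          exact mul_mem (inv_mem a.2) (Subgroup.Normal.conj_mem ‹V.Normal› _ a.2 d)
        rw [hGV.disjoint.eq_bot, Subgroup.mem_bot, mul_inv_eq_one, mul_inv_eq_iff_eq_mul] at hmem
        exact hmem
      have had : Commute (a : X) d := by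
        rw [show (a : X) = y * (g : X)⁻¹ by rw [← hag']; group]
        exact hyd.mul_left hgd.inv_left
      have hgD : (g : X) ∈ D := by
        rw [hDdef]; exact ⟨g.2, Subgroup.mem_centralizer_singleton_iff.2 hgv⟩
      exact ⟨(⟨a, by rw [hP]; exact ⟨a.2, Subgroup.mem_centralizer_singleton_iff.2 had⟩⟩,
        ⟨⟨g, hgD⟩, Subgroup.mem_centralizer_singleton_iff.2 (Subtype.ext hgd)⟩), hag'⟩
    choose z hz using key
    exact Nat.card_le_card_of_injective z fun y y' h => Subtype.ext (by rw [← hz y, ← hz y', h])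
  have hsub : Nat.card P * Nat.card U ≤
      Nat.card V * Nat.card (P ⊓ U : Subgroup X) := by
    have hPV : P ≤ V := hP ▸ inf_le_left
    have hnorm : P ≤ Subgroup.normalizer (U : Set X) := fun a ha =>
      Subgroup.mem_normalizer_iff.2 fun n => by
        constructor
        · intro hn
          rwa [hab a (hPV ha) n (hUV hn), mul_inv_cancel_right]
        · intro hn
          have h1 := hUV hn
          have h2 : n ∈ V := by
            have := mul_mem (mul_mem (inv_mem (hPV ha)) h1) (hPV ha)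
            simpa [mul_assoc] using this
          rwa [hab a (hPV ha) n h2, mul_inv_cancel_right] at hn
    rw [← CfsgLib.Solvable.card_sup_mul_card_inf hnorm]
    exact Nat.mul_le_mul_right _ (Nat.le_of_dvd Nat.card_pos
      (Subgroup.card_dvd_of_le (sup_le hPV hUV)))
  have hfixed : Nat.card {x : CfsgLib.ZJ.ElabMod U hUel // ρ d x = x} =
      Nat.card (P ⊓ U : Subgroup X) :=
    Nat.card_congr
      { toFun := fun x => ⟨val x.1, ⟨by
            rw [hP]
            refine ⟨hUV (hval _), Subgroup.mem_centralizer_singleton_iff.2 ?_⟩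
            exact (mul_inv_eq_iff_eq_mul.1 (congrArg val x.2 : (d : X) * val x.1 * (d : X)⁻¹ = val x.1)).symm,
            hval _⟩⟩
        invFun := fun u => ⟨CfsgLib.ZJ.toVec hUel ⟨(u : X), u.2.2⟩, hvalinj (by
          have hu : (u : X) ∈ V ⊓ Subgroup.centralizer ({(d : X)} : Set X) :=
            (SetLike.ext_iff.1 hP _).1 u.2.1
          show (d : X) * (u : X) * (d : X)⁻¹ = u
          rw [mul_inv_eq_iff_eq_mul]
          exact (Subgroup.mem_centralizer_singleton_iff.1 hu.2).symm)⟩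
        left_inv := fun x => rfl
        right_inv := fun u => rfl }
  have h4 := f4 t d
  rw [hfixed, show Nat.card (CfsgLib.ZJ.ElabMod U hUel) = Nat.card U from rfl] at h4
  have hR1 : (Nat.card (Subgroup.centralizer ({(d : X) * v} : Set X)) : ℝ) ≤
      (Nat.card P : ℝ) * (Nat.card (Subgroup.centralizer ({d} : Set D)) : ℝ) := by
    exact_mod_cast hcard
  have hR2 : (Nat.card P : ℝ) * (Nat.card U : ℝ) ≤
      (Nat.card V : ℝ) * (Nat.card (P ⊓ U : Subgroup X) : ℝ) := by exact_mod_cast hsub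
  have hpos : (0 : ℝ) < (Nat.card (P ⊓ U : Subgroup X) : ℝ) := by exact_mod_cast Nat.card_pos
  refine (mul_le_mul_of_nonneg_left hR1 (sq_nonneg _)).trans ?_
  rw [← mul_assoc]
  refine mul_le_mul_of_nonneg_right ?_ (Nat.cast_nonneg _)
  refine le_of_mul_le_mul_right ?_ hpos
  calc ‖f t d‖ ^ 2 * (Nat.card P : ℝ) * (Nat.card (P ⊓ U : Subgroup X) : ℝ)
      = (Nat.card P : ℝ) * (Nat.card U : ℝ) := by rw [← h4]; ring
    _ ≤ _ := hR2

end Cfsg.Agent.S4959
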