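import Cfsg.Statements.S4964
import Cfsg.Agent.Blocks.NormalSub
import Cfsg.Agent.Blocks.Regular
import Cfsg.Agent.Char.Inflation
import Cfsg.Agent.FGSB.PRegClass
import Cfsg.Agent.Solvable.CoprimeAct
import Cfsg.Agent.Solvable.PGroupBasic

set_option autoImplicit false
open Cfsg

namespace Cfsg.Agent.S4964

open CfsgLib.Block CfsgLib.Block.Chr CfsgLib.Char Finset

/-- A regular class centralized by a normal `p`-subgroup maps bijectively to the quotient. -/
theorem centralChar_comp_mk {G : Type*} [Group G] [Fintype G] {p : ℕ} [hp : Fact p.Prime]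
    (N : Subgroup G) [N.Normal] (hN : IsPGroup p N) [Fintype (G ⧸ N)] (φ : IrrCharacter (G ⧸ N))
    (θ : IrrCharacter G) (hθ : (θ : G → ℂ) = (φ : G ⧸ N → ℂ) ∘ QuotientGroup.mk) {g : G}
    (hg : ¬ p ∣ orderOf g) (hcent : ∀ d ∈ N, Commute g d) :
    centralChar (θ : G → ℂ) g = centralChar (φ : G ⧸ N → ℂ) (g : G ⧸ N) := by
  classical
  rw [centralChar, centralChar, ← sum_class_eq (isClassFunction_irr θ) g,
    ← sum_class_eq (isClassFunction_irr φ) (g : G ⧸ N), hθ]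
  simp only [Function.comp_apply, QuotientGroup.mk_one]
  congr 1
  refine sum_bij (fun x _ => (x : G ⧸ N)) (fun x hx => ?_) (fun x hx y hy hxy => ?_)
    (fun q hq => ?_) (fun x _ => rfl)
  · exact mem_filter.2 ⟨mem_univ _, (QuotientGroup.mk' N).map_isConj (mem_filter.1 hx).2⟩
  · obtain ⟨c, hc⟩ := isConj_iff.1 (mem_filter.1 hx).2
    obtain ⟨e, he⟩ := isConj_iff.1 (mem_filter.1 hy).2
    have hd : x⁻¹ * y ∈ N := QuotientGroup.eq.1 hxy
    have hcomm : Commute x (x⁻¹ * y) := by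
      have h := hcent _ (Subgroup.Normal.conj_mem ‹N.Normal› _ hd c⁻¹)
      rw [inv_inv] at h
      rw [← hc] at h ⊢
      have h2 := h.map (MulAut.conj c).toMonoidHom
      simp only [MulEquiv.coe_toMonoidHom, MulAut.conj_apply] at h2
      convert h2 using 1
      group
    have ho : ∀ u z : G, orderOf (u * z * u⁻¹) = orderOf z := fun u z =>
      orderOf_injective (MulAut.conj u).toMonoidHom (MulAut.conj u).injective z
    have h1 : x ^ orderOf g = 1 := by rw [← ho c g, hc, pow_orderOf_eq_one]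
    have h2 : y ^ orderOf g = 1 := by rw [← ho e g, he, pow_orderOf_eq_one]
    rw [show y = x * (x⁻¹ * y) by group, hcomm.mul_pow, h1, one_mul] at h2
    obtain ⟨k, hk⟩ := IsPGroup.iff_orderOf.1 hN ⟨_, hd⟩
    rw [Subgroup.orderOf_mk] at hk
    have hdvd := orderOf_dvd_of_pow_eq_one h2
    rw [hk] at hdvd
    rcases Nat.eq_zero_or_pos k with rfl | hk0
    · rw [pow_zero, orderOf_eq_one_iff, inv_mul_eq_one] at hk; exact hk
    · exact absurd ((dvd_pow_self p hk0.ne').trans hdvd) hg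
  · obtain ⟨c, hc⟩ := isConj_iff.1 (mem_filter.1 hq).2
    obtain ⟨c, rfl⟩ := QuotientGroup.mk_surjective c
    refine ⟨c * g * c⁻¹, mem_filter.2 ⟨mem_univ _, isConj_iff.2 ⟨c, rfl⟩⟩, ?_⟩
    rw [← hc]; rfl

theorem commute_of_mk {G : Type*} [Group G] [Finite G] {p : ℕ} [hp : Fact p.Prime]
    (D : Subgroup G) [D.Normal] (hD : IsPGroup p D) {g : G} (hg : ¬ p ∣ orderOf g)
    (h : (g : G ⧸ ⁅D, D⁆) ∈ Subgroup.centralizer
      ((D.map (QuotientGroup.mk' ⁅D, D⁆) : Subgroup (G ⧸ ⁅D, D⁆)) : Set (G ⧸ ⁅D, D⁆))) :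
    g ∈ Subgroup.centralizer (D : Set G) := by
  refine CfsgLib.CoprimeAct.trivial_on_frattini_quotient (A := Subgroup.zpowers g) (K := D)
    (Subgroup.le_normalizer_of_normal) ?_ (fun a ha k hk => ?_) (Subgroup.mem_zpowers g)
  · obtain ⟨k, hk⟩ := IsPGroup.iff_card.1 (hD.to_subgroup (frattini D))
    rw [Nat.card_zpowers, hk]
    exact ((hp.out.coprime_iff_not_dvd.2 hg).symm).pow_right k
  · have ha' : Subgroup.zpowers g ≤ (Subgroup.centralizer
        ((D.map (QuotientGroup.mk' ⁅D, D⁆) : Subgroup (G ⧸ ⁅D, D⁆)) : Set (G ⧸ ⁅D, D⁆))).comap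
        (QuotientGroup.mk' ⁅D, D⁆) := Subgroup.zpowers_le.2 h
    have h1 := Subgroup.mem_centralizer_iff.1 (ha' ha) _ ⟨k, hk, rfl⟩
    have h2 : a * k * a⁻¹ * k⁻¹ ∈ ⁅D, D⁆ := by
      rw [← QuotientGroup.eq_one_iff]
      simp only [QuotientGroup.mk'_apply] at h1
      simp only [QuotientGroup.mk_mul, QuotientGroup.mk_inv, ← h1]
      group
    rw [← Subgroup.map_subtype_commutator] at h2
    exact Subgroup.map_mono (CfsgLib.PGroupBasic.commutator_pow_le_frattini hD).1 h2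

/-- Let D be a normal p-subgroup of the finite group G, let D′ be its commutator subgroup (normal in G), and fix a maximal ideal M of the algebraic integers containing p. Then (i) two irreducible characters of G ⧸ D′ lie in the same p-block if and only if their inflations to G do, and (ii) every p-block of G contains the inflation of some irreducible character of G ⧸ D′; so inflation induces a bijection between the p-blocks of G ⧸ D′ and the p-blocks of G. -/
theorem result {G : Type*} [Group G] [Finite G] (p : ℕ) [Fact p.Prime] (M : Ideal Cfsg.AlgInt) (hM : Cfsg.IsPModular p M) (D : Subgroup G) [D.Normal] (hD : IsPGroup p D) : (∀ χ ψ : Cfsg.IrrCharacter (G ⧸ ⁅D, D⁆), Cfsg.SameBlock M (χ : G ⧸ ⁅D, D⁆ → ℂ) (ψ : G ⧸ ⁅D, D⁆ → ℂ) ↔ Cfsg.SameBlock M ((χ : G ⧸ ⁅D, D⁆ → ℂ) ∘ QuotientGroup.mk) ((ψ : G ⧸ ⁅D, D⁆ → ℂ) ∘ QuotientGroup.mk)) ∧ ∀ B : Set (Cfsg.IrrCharacter G), Cfsg.IsPBlock M B → ∃ χ : Cfsg.IrrCharacter (G ⧸ ⁅D, D⁆),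 ∃ θ ∈ B, (θ : G → ℂ) = (χ : G ⧸ ⁅D, D⁆ → ℂ) ∘ QuotientGroup.mk := by
  classical
  have := Fintype.ofFinite G
  have := Fintype.ofFinite (G ⧸ ⁅D, D⁆)
  have : M.IsPrime := hM.2.1.isPrime
  have hp : p.Prime := Fact.out
  have hN : IsPGroup p ↥⁅D, D⁆ := hD.to_le (Subgroup.commutator_le_self D)
  refine ⟨fun φ ψ => ?_, fun B hB => ?_⟩
  · let θ : IrrCharacter G := ⟨_, IsIrrCharacter.inflate ⁅D, D⁆ φ.2⟩
    let η : IrrCharacter G := ⟨_, IsIrrCharacter.inflate ⁅D, D⁆ ψ.2⟩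
    show SameBlock M (φ : G ⧸ ⁅D, D⁆ → ℂ) (ψ : G ⧸ ⁅D, D⁆ → ℂ) ↔
      SameBlock M (θ : G → ℂ) (η : G → ℂ)
    have hval : ∀ g : G, ¬ p ∣ orderOf g → g ∈ Subgroup.centralizer (D : Set G) →
        centralChar (θ : G → ℂ) g - centralChar (η : G → ℂ) g =
        centralChar (φ : G ⧸ ⁅D, D⁆ → ℂ) (g : G ⧸ ⁅D, D⁆) -
          centralChar (ψ : G ⧸ ⁅D, D⁆ → ℂ) (g : G ⧸ ⁅D, D⁆) := by
      intro g hg hc
      have hc' : ∀ d ∈ ⁅D, D⁆, Commute g d := fun d hd =>
        (Subgroup.mem_centralizer_iff.1 hc d (Subgroup.commutator_le_self D hd)).symm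
      rw [centralChar_comp_mk _ hN φ θ rfl hg hc', centralChar_comp_mk _ hN ψ η rfl hg hc']
    constructor
    · intro h
      refine sameBlock_of_regular hM θ η fun g hg => ?_
      by_cases hc : g ∈ Subgroup.centralizer (D : Set G)
      · rw [hval g hg hc]; exact h _
      · exact memLocalIdeal_sub (centralChar_mem_ideal_of_normal hM D hD θ hc)
          (centralChar_mem_ideal_of_normal hM D hD η hc)
    · intro h
      refine sameBlock_of_regular hM φ ψ fun q hq => ?_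
      obtain ⟨g, hg', rfl⟩ := CfsgLib.PRegClass.exists_regular_lift ⁅D, D⁆ hp q
        (hp.coprime_iff_not_dvd.2 hq).symm
      have hg : ¬ p ∣ orderOf g := hp.coprime_iff_not_dvd.1 hg'.symm
      by_cases hc : (g : G ⧸ ⁅D, D⁆) ∈ Subgroup.centralizer
        ((D.map (QuotientGroup.mk' ⁅D, D⁆) : Subgroup (G ⧸ ⁅D, D⁆)) : Set (G ⧸ ⁅D, D⁆))
      · rw [← hval g hg (commute_of_mk D hD hg hc)]; exact h g
      · have hn : (D.map (QuotientGroup.mk' ⁅D, D⁆)).Normal :=
          Subgroup.Normal.map ‹D.Normal› _ (QuotientGroup.mk'_surjective _)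
        exact memLocalIdeal_sub (centralChar_mem_ideal_of_normal hM _ (hD.map _) φ hc)
          (centralChar_mem_ideal_of_normal hM _ (hD.map _) ψ hc)
  · obtain ⟨θ, hθ, hker⟩ := exists_ker_mem_block hM hB ⁅D, D⁆ hN
    obtain ⟨φ, hφ⟩ := exists_quotient_irr ⁅D, D⁆ θ hker
    exact ⟨φ, θ, hθ, funext hφ⟩

end Cfsg.Agent.S4964
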