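import Cfsg.Statements.S4965
import Mathlib.GroupTheory.CommutingProbability
import Mathlib.GroupTheory.Coset.Card
import Mathlib.Tactic.Group

set_option autoImplicit false
open Cfsg

namespace Cfsg.Agent.S4965

/-- Let X be a finite group with an abelian normal subgroup V (any two elements of V commute), and let φ be the action of X ⧸ V on V induced by conjugation (well defined because V is abelian; the hypothesis hφ says that the class of x acts as conjugation by x). Then X has at most as many conjugacy classes as the semidirect product of V by X ⧸ V formed with this action: the split extension has the largest class number among extensions with the given action. -/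
theorem result {X : Type*} [Group X] [Finite X] (V : Subgroup X) [V.Normal] (hab : ∀ a ∈ V, ∀ b ∈ V, a * b = b * a) (φ : X ⧸ V →* MulAut ↥V) (hφ : ∀ (x : X) (v : ↥V), ((φ (QuotientGroup.mk x) v : ↥V) : X) = x * v * x⁻¹) : Nat.card (ConjClasses X) ≤ Nat.card (ConjClasses (SemidirectProduct ↥V (X ⧸ V) φ)) := by
  classical
  set Q := X ⧸ V
  set Y := SemidirectProduct ↥V Q φ
  haveI : Finite Y := Finite.of_equiv _ SemidirectProduct.equivProd.symm
  have hcardY : Nat.card Y = Nat.card X := by
    rw [Nat.card_congr (SemidirectProduct.equivProd (φ := φ)), Nat.card_prod]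
    rw [mul_comm, ← Subgroup.card_eq_card_quotient_mul_card_subgroup V]
  -- a commuting lift of each pair of cosets having one
  let P := {p : X × X // Commute p.1 p.2}
  let π : P → Q × Q := fun p => (QuotientGroup.mk p.1.1, QuotientGroup.mk p.1.2)
  let r : P → P := fun p =>
    Classical.choose (⟨p, rfl⟩ : ∃ q : P, π q = π p)
  have hr : ∀ p, π (r p) = π p := fun p =>
    Classical.choose_spec (⟨p, rfl⟩ : ∃ q : P, π q = π p)
  have hrconst : ∀ p p', π p = π p' → r p = r p' := by
    intro p p' h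
    simp only [r]
    congr! 2
    rw [h]
  have hmem : ∀ a b : X, (QuotientGroup.mk a : Q) = QuotientGroup.mk b → b * a⁻¹ ∈ V := by
    intro a b h
    rw [← QuotientGroup.eq_one_iff, QuotientGroup.mk_mul, QuotientGroup.mk_inv, h,
      mul_inv_cancel]
  have h1 : ∀ p : P, p.1.1 * (r p).1.1⁻¹ ∈ V := fun p => hmem _ _ (congrArg Prod.fst (hr p))
  have h2 : ∀ p : P, p.1.2 * (r p).1.2⁻¹ ∈ V := fun p => hmem _ _ (congrArg Prod.snd (hr p))
  let f : P → Y × Y := fun p =>
    (⟨⟨_, h1 p⟩, (π p).1⟩, ⟨⟨_, h2 p⟩, (π p).2⟩)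
  have hf : ∀ p, Commute (f p).1 (f p).2 := by
    intro p
    have e1 := congrArg Prod.fst (hr p)
    have e2 := congrArg Prod.snd (hr p)
    have hc : (r p).1.1 * (r p).1.2 = (r p).1.2 * (r p).1.1 := (r p).2
    have hp : p.1.1 * p.1.2 = p.1.2 * p.1.1 := p.2
    apply SemidirectProduct.ext
    · apply Subtype.ext
      change p.1.1 * (r p).1.1⁻¹ * ((φ (π p).1 ⟨_, h2 p⟩ : ↥V) : X) =
        p.1.2 * (r p).1.2⁻¹ * ((φ (π p).2 ⟨_, h1 p⟩ : ↥V) : X)
      rw [← e1, ← e2, hφ, hφ]
      have : (r p).1.1⁻¹ * (r p).1.2⁻¹ = (r p).1.2⁻¹ * (r p).1.1⁻¹ := by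
        rw [← mul_inv_rev, ← mul_inv_rev, hc]
      calc p.1.1 * (r p).1.1⁻¹ * ((r p).1.1 * (p.1.2 * (r p).1.2⁻¹) * (r p).1.1⁻¹)
          = (p.1.1 * p.1.2) * ((r p).1.2⁻¹ * (r p).1.1⁻¹) := by group
        _ = (p.1.2 * p.1.1) * ((r p).1.1⁻¹ * (r p).1.2⁻¹) := by rw [hp, this]
        _ = _ := by group
    · change (π p).1 * (π p).2 = (π p).2 * (π p).1
      exact congrArg (QuotientGroup.mk : X → Q) hp
  let F : P → {q : Y × Y // Commute q.1 q.2} := fun p => ⟨f p, hf p⟩
  have hinj : Function.Injective F := by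
    intro p p' h
    have hq : f p = f p' := congrArg Subtype.val h
    have hπ : π p = π p' := Prod.ext (congrArg (fun y => y.1.right) hq) (congrArg (fun y => y.2.right) hq)
    have hrr := hrconst p p' hπ
    have a1 : p.1.1 * (r p).1.1⁻¹ = p'.1.1 * (r p').1.1⁻¹ := congrArg (fun y => (y.1.left : X)) hq
    have a2 : p.1.2 * (r p).1.2⁻¹ = p'.1.2 * (r p').1.2⁻¹ := congrArg (fun y => (y.2.left : X)) hq
    rw [hrr] at a1 a2
    exact Subtype.ext (Prod.ext (mul_right_cancel a1) (mul_right_cancel a2))
  have hle := Nat.card_le_card_of_injective F hinj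
  rw [card_comm_eq_card_conjClasses_mul_card, card_comm_eq_card_conjClasses_mul_card, hcardY] at hle
  exact Nat.le_of_mul_le_mul_right hle Nat.card_pos

end Cfsg.Agent.S4965
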