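import Cfsg.Statements.S4967
import Mathlib.FieldTheory.Finite.Basic
import Mathlib.RingTheory.IntegralDomain

set_option autoImplicit false
open Cfsg

namespace Cfsg.Agent.S4967

open Module

theorem core {F : Type*} [Field F] [Fintype F] {H : Type*} [CommGroup H] [Finite H] {V : Type*}
    [AddCommGroup V] [Module F V] [FiniteDimensional F V] [Nontrivial V] (ρ : Representation F H V)
    (hfaith : Function.Injective ρ)
    (hirr : ∀ U : Submodule F V, (∀ h : H, ∀ u ∈ U, ρ h u ∈ U) → U = ⊥ ∨ U = ⊤) :
    ((∃ B : LinearMap.BilinForm F V, B.Nondegenerate ∧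
        ∀ h : H, ∀ x y : V, B (ρ h x) (ρ h y) = B x y) →
      (finrank F V = 1 → Nat.card H ≤ 2) ∧ (2 ≤ finrank F V → Even (finrank F V) ∧
        Nat.card H ∣ Fintype.card F ^ (finrank F V / 2) + 1)) ∧
    (Even (finrank F V) → Nat.card H ∣ Fintype.card F ^ (finrank F V / 2) + 1 →
      ∃ B : LinearMap.BilinForm F V, B.Nondegenerate ∧
        ∀ h : H, ∀ x y : V, B (ρ h x) (ρ h y) = B x y) := by
  classical
  have : Finite V := Module.finite_of_finite F
  have : Finite (Module.End F V) :=
    Finite.of_injective (fun f => (f : V → V)) DFunLike.coe_injective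
  have hcomm : ∀ a ∈ Set.range ρ, ∀ b ∈ Set.range ρ, a * b = b * a := by
    rintro _ ⟨a, rfl⟩ _ ⟨b, rfl⟩
    rw [← map_mul, ← map_mul, mul_comm]
  set A := Algebra.adjoin F (Set.range ρ) with hA
  have hmc : IsMulCommutative A := Algebra.isMulCommutative_adjoin F hcomm
  let : CommRing A := { (inferInstance : Ring A) with mul_comm := fun a b => hmc.is_comm.comm a b }
  let gen : H →* A :=
    { toFun := fun h => ⟨ρ h, Algebra.subset_adjoin ⟨h, rfl⟩⟩
      map_one' := Subtype.ext (map_one ρ)
      map_mul' := fun a b => Subtype.ext (map_mul ρ a b) }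
  have hgen : Function.Injective gen := fun a b h => hfaith (congrArg Subtype.val h)
  have hcommA : ∀ (a : A) (h : H) (x : V), (a : Module.End F V) (ρ h x) = ρ h ((a : Module.End F V) x) := by
    intro a h x
    have e := congrArg (fun t : A => (t : Module.End F V) x) (mul_comm a (gen h))
    exact e
  have hker : ∀ a : A, a ≠ 0 → Function.Injective (a : Module.End F V) := by
    intro a ha
    rcases hirr (LinearMap.ker (a : Module.End F V)) (fun h u hu => by
      rw [LinearMap.mem_ker] at hu ⊢; rw [hcommA, hu, map_zero]) with h | h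
    · exact LinearMap.ker_eq_bot.1 h
    · exact absurd (Subtype.ext (LinearMap.ker_eq_top.1 h)) ha
  have : NoZeroDivisors A := ⟨fun {a b} hab => by
    by_contra! hne
    apply hne.2
    apply Subtype.ext
    refine LinearMap.ext fun x => hker a hne.1 ?_
    have := congrArg (fun t : A => (t : Module.End F V) x) hab
    simpa using this⟩
  have : Nontrivial A := ⟨⟨0, 1, fun h => by
    obtain ⟨x, hx⟩ := exists_ne (0 : V)
    exact hx (by simpa using (congrArg (fun t : A => (t : Module.End F V) x) h).symm)⟩⟩
  have : IsDomain A := NoZeroDivisors.to_isDomain A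
  have : IsCyclic H := isCyclic_of_injective_ringHom gen hgen
  let : Field A := (Finite.isField_of_domain A).toField
  obtain ⟨v, hv⟩ := exists_ne (0 : V)
  let e : A →ₗ[F] V := (LinearMap.applyₗ v).comp A.val.toLinearMap
  have hev : ∀ a : A, e a = (a : Module.End F V) v := fun a => rfl
  have hegen : ∀ h a, e (gen h * a) = ρ h (e a) := fun h a => rfl
  have he : Function.Bijective e := by
    constructor
    · rw [← LinearMap.ker_eq_bot, Submodule.eq_bot_iff]
      intro a ha
      by_contra hne
      exact hv (hker a hne (by rw [← hev, LinearMap.mem_ker.1 ha, map_zero]))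
    · rw [← LinearMap.range_eq_top]
      refine (hirr _ fun h u hu => ?_).resolve_left fun hb => hv ?_
      · obtain ⟨a, rfl⟩ := hu; exact ⟨gen h * a, hegen h a⟩
      · have : e 1 ∈ LinearMap.range e := ⟨1, rfl⟩
        rw [hb, Submodule.mem_bot] at this
        simpa [hev] using this
  let eq : A ≃ₗ[F] V := LinearEquiv.ofBijective e he
  have hn : finrank F A = finrank F V := eq.finrank_eq
  set r := Fintype.card F
  obtain ⟨g, hg⟩ := IsCyclic.exists_generator (α := H)
  have hcard : orderOf g = Nat.card H := orderOf_eq_card_of_forall_mem_zpowers hg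
  let fr : A ≃ₐ[F] A := FiniteField.frobeniusAlgEquivOfAlgebraic F A
  have hfr : ∀ (j : ℕ) (a : A), (fr ^ j) a = a ^ r ^ j := fun j a => by
    rw [AlgEquiv.coe_pow]
    exact congrFun (FiniteField.coe_frobeniusAlgEquivOfAlgebraic_iterate F A j) a
  constructor
  · rintro ⟨B, ⟨hBl, hBr⟩, hBinv⟩
    have hex : ∀ a ∈ A, ∃ b ∈ A, ∀ x y, B (b x) y = B x (a y) := by
      intro a ha
      induction ha using Algebra.adjoin_induction with
      | mem a ha =>
        obtain ⟨h, rfl⟩ := ha
        refine ⟨ρ h⁻¹, Algebra.subset_adjoin ⟨h⁻¹, rfl⟩, fun x y => ?_⟩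
        rw [← hBinv h, ← Module.End.mul_apply, ← map_mul, mul_inv_cancel, map_one,
          Module.End.one_apply]
      | algebraMap c =>
        exact ⟨algebraMap F _ c, A.algebraMap_mem c, fun x y => by
          simp [Module.algebraMap_end_apply]⟩
      | add a b _ _ ha hb =>
        obtain ⟨a', ha', ha''⟩ := ha
        obtain ⟨b', hb', hb''⟩ := hb
        exact ⟨a' + b', add_mem ha' hb', fun x y => by simp [ha'', hb'']⟩
      | mul a b _ _ ha hb =>
        obtain ⟨a', ha', ha''⟩ := ha
        obtain ⟨b', hb', hb''⟩ := hb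
        exact ⟨b' * a', mul_mem hb' ha', fun x y => by
          simp [Module.End.mul_apply, ha'', hb'']⟩
    have hex' : ∀ a : A, ∃ b : A, ∀ x y,
        B ((b : Module.End F V) x) y = B x ((a : Module.End F V) y) := fun a => by
      obtain ⟨b, hb, hb'⟩ := hex a a.2; exact ⟨⟨b, hb⟩, hb'⟩
    choose s hs using hex'
    have huniq : ∀ a b : A, (∀ x y, B ((b : Module.End F V) x) y = B x ((a : Module.End F V) y)) →
        b = s a := fun a b h => Subtype.ext <| LinearMap.ext fun x => sub_eq_zero.1 <| hBl _ fun y => by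
      rw [map_sub, LinearMap.sub_apply, h, hs, sub_self]
    let σ : A →ₐ[F] A :=
      { toFun := s
        map_one' := (huniq 1 1 fun x y => by simp).symm
        map_mul' := fun a b => (huniq _ _ fun x y => by
          rw [mul_comm (s a) (s b)]; simp [Module.End.mul_apply, hs]).symm
        map_zero' := (huniq 0 0 fun x y => by simp).symm
        map_add' := fun a b => (huniq _ _ fun x y => by simp [hs]).symm
        commutes' := fun c => (huniq _ _ fun x y => by simp [Module.algebraMap_end_apply]).symm }
    have hσ : ∀ h : H, σ (gen h) = gen h⁻¹ := fun h => (huniq _ _ fun x y => by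
      show B (ρ h⁻¹ x) y = B x (ρ h y)
      rw [← hBinv h, ← Module.End.mul_apply, ← map_mul, mul_inv_cancel, map_one,
        Module.End.one_apply]).symm
    obtain ⟨⟨j, hj⟩, hjσ⟩ := (FiniteField.bijective_frobeniusAlgEquivOfAlgebraic_pow F A).2
      (AlgEquiv.ofBijective σ ⟨σ.toRingHom.injective, Finite.injective_iff_surjective.1 σ.toRingHom.injective⟩)
    have hjσ' : ∀ a, σ a = a ^ r ^ j := fun a => by rw [← hfr]; exact (AlgEquiv.congr_fun hjσ a).symm
    have hsq : ∀ a : A, σ (σ a) = a := by
      rintro ⟨a, ha⟩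
      induction ha using Algebra.adjoin_induction with
      | mem a ha =>
        obtain ⟨h, rfl⟩ := ha
        show σ (σ (gen h)) = gen h
        rw [hσ, hσ, inv_inv]
      | algebraMap c => exact (congrArg σ (σ.commutes c)).trans (σ.commutes c)
      | add a b ha hb iha ihb =>
        show σ (σ (⟨a, ha⟩ + ⟨b, hb⟩ : A)) = _
        rw [map_add, map_add, iha, ihb]; rfl
      | mul a b ha hb iha ihb =>
        show σ (σ (⟨a, ha⟩ * ⟨b, hb⟩ : A)) = _
        rw [map_mul, map_mul, iha, ihb]; rfl
    have hdvd : finrank F A ∣ 2 * j := by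
      rw [← FiniteField.orderOf_frobeniusAlgEquivOfAlgebraic F A]
      refine orderOf_dvd_of_pow_eq_one (AlgEquiv.ext fun a => ?_)
      rw [two_mul, pow_add, AlgEquiv.mul_apply]
      show (fr ^ j) ((fr ^ j) a) = a
      rw [hfr, hfr, ← hjσ', ← hjσ', hsq]
    have hpow : g ^ (r ^ j + 1) = 1 := hgen (by
      rw [map_pow, pow_succ, ← hjσ', hσ, ← map_mul, inv_mul_cancel])
    have hzero : j = 0 → finrank F A = 1 := by
      intro hj0
      have hle : A ≤ ⊥ := by
        refine Algebra.adjoin_le ?_
        rintro _ ⟨h, rfl⟩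
        have h1 : gen h * gen h = 1 := by
          calc gen h * gen h = σ (gen h) * gen h := by rw [hjσ', hj0, pow_zero, pow_one]
            _ = 1 := by rw [hσ, ← map_mul, inv_mul_cancel, map_one]
        rcases mul_self_eq_one_iff.1 h1 with h2 | h2
        · rw [show ρ h = 1 from congrArg Subtype.val h2]
          exact one_mem _
        · rw [show ρ h = -1 from congrArg Subtype.val h2]
          exact neg_mem (one_mem _)
      exact (Subalgebra.equivOfEq A ⊥ (le_bot_iff.1 hle)).toLinearEquiv.finrank_eq.trans
        Subalgebra.finrank_bot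
    refine ⟨fun h1 => ?_, fun h2 => ?_⟩
    · have hj0 : j = 0 := by omega
      rw [hj0, pow_zero] at hpow
      rw [← hcard]
      exact Nat.le_of_dvd two_pos (orderOf_dvd_of_pow_eq_one hpow)
    · have hj0 : j ≠ 0 := fun h0 => by have := hzero h0; omega
      obtain ⟨m, hm⟩ := hdvd
      have hm1 : m = 1 := by
        rcases Nat.lt_or_ge m 2 with h | h
        · rcases Nat.eq_zero_or_pos m with rfl | h' <;> omega
        · have := Nat.mul_le_mul_left (finrank F A) h; omega
      subst hm1
      refine ⟨⟨j, by omega⟩, ?_⟩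
      rw [show finrank F V / 2 = j by omega, ← hcard]
      exact orderOf_dvd_of_pow_eq_one hpow
  · intro hev hdvd
    set j := finrank F V / 2
    let σ : A →ₐ[F] A := (fr ^ j).toAlgHom
    have hσ : ∀ h, σ (gen h) * gen h = 1 := fun h => by
      show (fr ^ j) (gen h) * gen h = 1
      rw [hfr, ← pow_succ, ← map_pow]
      obtain ⟨t, ht⟩ := hdvd
      rw [ht, pow_mul, pow_card_eq_one', one_pow, map_one]
    obtain ⟨lam, hlam⟩ : ∃ lam : A →ₗ[F] F, lam 1 = 1 := by
      obtain ⟨lam, hlam⟩ := LinearMap.exists_leftInverse_of_injective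
        (Algebra.linearMap F A) (LinearMap.ker_eq_bot.2 (algebraMap F A).injective)
      exact ⟨lam, by simpa using LinearMap.congr_fun hlam 1⟩
    let B : LinearMap.BilinForm F V :=
      ((LinearMap.mul F A).compl₁₂ (σ.toLinearMap.comp eq.symm.toLinearMap)
        eq.symm.toLinearMap).compr₂ lam
    have hBval : ∀ a b : A, B (eq a) (eq b) = lam (σ a * b) := fun a b => by simp [B]
    refine ⟨B, ⟨?_, ?_⟩, fun h x y => ?_⟩
    · intro x hx
      obtain ⟨a, rfl⟩ := eq.surjective x
      by_contra hne
      have ha : σ a ≠ 0 := fun h0 => hne (by rw [σ.toRingHom.injective (h0.trans σ.map_zero.symm), map_zero])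
      have := hx (eq (σ a)⁻¹)
      rw [hBval, mul_inv_cancel₀ ha, hlam] at this
      exact one_ne_zero this
    · intro y hy
      obtain ⟨b, rfl⟩ := eq.surjective y
      by_contra hne
      have hb : b ≠ 0 := fun h0 => hne (by rw [h0, map_zero])
      have := hy (eq ((fr ^ j).symm b⁻¹))
      rw [hBval, show σ ((fr ^ j).symm b⁻¹) = b⁻¹ from (fr ^ j).apply_symm_apply _,
        inv_mul_cancel₀ hb, hlam] at this
      exact one_ne_zero this
    · obtain ⟨a, rfl⟩ := eq.surjective x
      obtain ⟨b, rfl⟩ := eq.surjective y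
      rw [show ρ h (eq a) = eq (gen h * a) from rfl, show ρ h (eq b) = eq (gen h * b) from rfl,
        hBval, hBval, map_mul σ, mul_mul_mul_comm, hσ, one_mul]

/-- Let F be a finite field with r elements and of characteristic p, H a finite abelian group of order prime to p, and V a faithful irreducible representation of H over F of dimension n (faithful: distinct elements act differently; irreducible: the only H-invariant subspaces are 0 and V). Call V self-dual when it carries a nondegenerate H-invariant bilinear form. If n = 1 and V is self-dual then H has order at most 2. If n ≥ 2 then V is self-dual if and only if n is even and the order of H divides r^(n/2) + 1. -/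
theorem result {F : Type*} [Field F] [Fintype F] (p : ℕ) [Fact p.Prime] [CharP F p] {H : Type*} [CommGroup H] [Finite H] (hcop : ¬ p ∣ Nat.card H) {V : Type*} [AddCommGroup V] [Module F V] [FiniteDimensional F V] (ρ : Representation F H V) (hfaith : Function.Injective ρ) (hirr : ∀ U : Submodule F V, (∀ h : H, ∀ u ∈ U, ρ h u ∈ U) → U = ⊥ ∨ U = ⊤) : (Module.finrank F V = 1 → (∃ B : LinearMap.BilinForm F V, B.Nondegenerate ∧ ∀ h : H, ∀ x y : V, B (ρ h x) (ρ h y) = B x y) → Nat.card H ≤ 2) ∧ (2 ≤ Module.finrank F V → ((∃ B : LinearMap.BilinForm F V, B.Nondegenerate ∧ ∀ h : H, ∀ x y : V, B (ρ h x) (ρ h y) = B x y) ↔ (Even (Module.finrank F V) ∧ Nat.card H ∣ Fintype.card F ^ (Module.finrank F V / 2) + 1))) := by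
  refine ⟨fun h1 hB => ?_, fun h2 => ?_⟩
  · have : Nontrivial V := Module.nontrivial_of_finrank_eq_succ h1
    exact ((core ρ hfaith hirr).1 hB).1 h1
  · have : Nontrivial V := Module.nontrivial_of_finrank_pos (R := F) (by omega)
    exact ⟨fun hB => ((core ρ hfaith hirr).1 hB).2 h2, fun h => (core ρ hfaith hirr).2 h.1 h.2⟩

end Cfsg.Agent.S4967
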