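import Cfsg.Statements.S4969
import Mathlib.Algebra.Order.Chebyshev
import Cfsg.Agent.Char.Orthogonality

set_option autoImplicit false
open Cfsg

namespace Cfsg.Agent.S4969

/-- Let G be a finite group with k conjugacy classes, g ∈ G, and N > 0. Then the sum over the irreducible complex characters χ of G with χ(1) ≥ N of |χ(g)|/χ(1) is at most √(k · #C_G(g)) / N. -/
theorem result {G : Type*} [Group G] [Finite G] (g : G) (N : ℝ) (hN : 0 < N) :
    ∑ᶠ χ : Cfsg.IrrCharacter G, (if N ≤ ‖(χ : G → ℂ) 1‖ then ‖(χ : G → ℂ) g‖ / ‖(χ : G → ℂ) 1‖ else 0) ≤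
      Real.sqrt ((Nat.card (ConjClasses G) : ℝ) * (Nat.card ↥(Subgroup.centralizer ({g} : Set G)) : ℝ)) / N := by
  classical
  have := Fintype.ofFinite G
  rw [CfsgLib.Char.finsum_irr (fun χ => if N ≤ ‖χ 1‖ then ‖χ g‖ / ‖χ 1‖ else 0)]
  set I := CfsgLib.Char.irrFinset G
  have hsq : ∑ χ ∈ I, ‖χ g‖ ^ 2 = (Nat.card ↥(Subgroup.centralizer ({g} : Set G)) : ℝ) := by
    have h := CfsgLib.Char.sum_irr_mul_conj g g
    rw [if_pos (IsConj.refl g)] at h
    apply Complex.ofReal_injective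
    push_cast
    rw [← h]
    exact Finset.sum_congr rfl fun χ _ => (Complex.mul_conj' _).symm
  have hk : (I.card : ℝ) = (Nat.card (ConjClasses G) : ℝ) := by
    rw [← CfsgLib.Char.card_irr, CfsgLib.Char.card_irr_eq_card_conjClasses]
  have h1 : ∑ χ ∈ I, ‖χ g‖ ≤ Real.sqrt ((Nat.card (ConjClasses G) : ℝ) * (Nat.card ↥(Subgroup.centralizer ({g} : Set G)) : ℝ)) := by
    apply Real.le_sqrt_of_sq_le
    rw [← hk, ← hsq]
    exact sq_sum_le_card_mul_sum_sq
  refine le_trans ?_ (div_le_div_of_nonneg_right h1 hN.le)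
  rw [Finset.sum_div]
  refine Finset.sum_le_sum fun χ _ => ?_
  split_ifs with h
  · exact div_le_div_of_nonneg_left (norm_nonneg _) hN h
  · positivity

end Cfsg.Agent.S4969
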