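import Cfsg.Statements.S4989
import Cfsg.Agent.Char.CosetSquare

set_option autoImplicit false
open Cfsg

namespace Cfsg.Agent.S4989

/-- Let H be a subgroup of the finite group G and χ an irreducible complex character of G. Then the inner product of the restriction of χ to H with itself, (1/#H)·Σ_{h ∈ H} |χ(h)|², is at most 1 + #(Z ∖ H)/#H, where Z is the set of zeros of χ in G. -/
theorem result {G : Type*} [Group G] [Finite G] (H : Subgroup G) (χ : Cfsg.IrrCharacter G) : (Nat.card ↥H : ℝ)⁻¹ * ∑ᶠ h : ↥H, ‖(χ : G → ℂ) h‖ ^ 2 ≤ 1 + (Set.ncard ({x : G | (χ : G → ℂ) x = 0} \ (H : Set G)) : ℝ) / (Nat.card ↥H : ℝ) := by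
  classical
  haveI := Fintype.ofFinite G
  haveI : Fintype H := Fintype.ofFinite H
  have hpos : (0 : ℝ) < Nat.card H := by exact_mod_cast Nat.card_pos
  have h := CfsgLib.Char.sum_norm_sq_restrict_le χ.2 H
  have hcard : ((Finset.univ.filter (· ∈ H)).card : ℝ) = Nat.card H := by
    rw [Nat.card_eq_fintype_card, ← Fintype.card_subtype]
  rw [hcard, Finset.sum_subtype (p := fun g => g ∈ H) _ (fun g => by simp) (fun g => ‖(χ : G → ℂ) g‖ ^ 2)] at h
  rw [finsum_eq_sum_of_fintype]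
  calc (Nat.card H : ℝ)⁻¹ * ∑ g : H, ‖(χ : G → ℂ) g‖ ^ 2
      ≤ (Nat.card H : ℝ)⁻¹ * ((Nat.card H : ℝ) +
          (Set.ncard ({x : G | (χ : G → ℂ) x = 0} \ (H : Set G)) : ℝ)) :=
        mul_le_mul_of_nonneg_left h (inv_nonneg.2 hpos.le)
    _ = _ := by rw [mul_add, inv_mul_cancel₀ hpos.ne', inv_mul_eq_div]

end Cfsg.Agent.S4989
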