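import Cfsg.Statements.S4997
import Cfsg.Agent.Vanishing.OneClass

set_option autoImplicit false
open Cfsg

namespace Cfsg.Agent.S4997

/-- Let p be an odd prime and G a finite solvable group with exactly one conjugacy class consisting of vanishing elements (elements at which some irreducible complex character is zero) of order divisible by p. Let P be a Sylow p-subgroup of G. Then the order of P is at most p times the order of the largest normal p-subgroup of G. -/
theorem result {G : Type*} [Group G] [Finite G] (hsolv : Group.IsSolvable G) (p : ℕ) [Fact p.Prime] (hp : p ≠ 2) (h1 : Set.ncard {C : ConjClasses G | (∀ g ∈ C.carrier, ∃ χ : Cfsg.IrrCharacter G, (χ : G → ℂ) g = 0) ∧ ∃ g ∈ C.carrier, p ∣ orderOf g} = 1) (P : Sylow p G) : Nat.card ↥(P : Subgroup G) ≤ p * Nat.card ↥(Cfsg.pCore p G) := by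
  classical
  refine ((CfsgLib.Vanishing.main (p := p) _ G rfl hsolv).2 fun x y hx hy => ?_) P
  have hmem : ∀ z : G, CfsgLib.Vanishing.PV p z → ConjClasses.mk z ∈ {C : ConjClasses G |
      (∀ g ∈ C.carrier, ∃ χ : Cfsg.IrrCharacter G, (χ : G → ℂ) g = 0) ∧ ∃ g ∈ C.carrier, p ∣ orderOf g} := by
    rintro z ⟨hz, χ, hχ, h0⟩
    refine ⟨fun g hg => ⟨⟨χ, hχ⟩, ?_⟩, z, ConjClasses.mem_carrier_mk, hz⟩
    obtain ⟨c, hc⟩ := isConj_iff.1 (ConjClasses.mk_eq_mk_iff_isConj.1 (ConjClasses.mem_carrier_iff_mk_eq.1 hg))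
    show χ g = 0
    rw [← CfsgLib.Char.IsIrrCharacter.isClassFunction hχ g c, hc]
    exact h0
  obtain ⟨C, hC⟩ := Set.ncard_eq_one.1 h1
  have hx' := hmem x hx
  have hy' := hmem y hy
  rw [hC, Set.mem_singleton_iff] at hx' hy'
  exact ConjClasses.mk_eq_mk_iff_isConj.1 (hx'.trans hy'.symm)

end Cfsg.Agent.S4997
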