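import Cfsg.Statements.S5015
import Cfsg.Agent.RootSubgroups.RankOne

set_option autoImplicit false
open Cfsg

namespace Cfsg.Agent.S5015

/-- Let a group Y act doubly transitively on a set Ω with at least three points, and suppose that the stabilizer of a point α contains a nilpotent subgroup A, normalized by that stabilizer, which acts regularly on the points other than α. Then for any y in Y moving α, the subgroups A and y A y⁻¹ are the unipotent subgroups of a rank one group, and the normal closure of A in Y (the subgroup generated by all conjugates of A) is generated by A and y A y⁻¹ alone. -/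
theorem result {Y Ω : Type*} [Group Y] [MulAction Y Ω]
    (h2 : MulAction.IsMultiplyPretransitive Y Ω 2) (hΩ : 3 ≤ ENat.card Ω) (α : Ω) (A : Subgroup Y)
    (hA : A ≤ MulAction.stabilizer Y α) (hAn : ∀ y ∈ MulAction.stabilizer Y α, Cfsg.conjBy A y = A)
    (hnil : Group.IsNilpotent A) (hreg : ∀ β γ : Ω, β ≠ α → γ ≠ α → ∃! a : Y, a ∈ A ∧ a • β = γ)
    (y : Y) (hy : y ∉ MulAction.stabilizer Y α) :
    Cfsg.IsRankOnePair A (Cfsg.conjBy A y) ∧ Subgroup.normalClosure (A : Set Y) = A ⊔ Cfsg.conjBy A y := by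
  have hfix : ∀ g h : Y, g • α = h • α → conjBy A g = conjBy A h := by
    intro g h he
    have : h⁻¹ * g ∈ MulAction.stabilizer Y α := by
      rw [MulAction.mem_stabilizer_iff, mul_smul, he, inv_smul_smul]
    have := hAn _ this
    rw [← mul_inv_cancel_left h g, ← CfsgLib.RankOne.conjBy_conjBy, this]
  set β := y • α with hβdef
  have hβ : β ≠ α := fun he => hy he
  have hreg1 : ∀ {a : Y} {γ : Ω}, a ∈ A → γ ≠ α → a • γ = γ → a = 1 := by
    intro a γ ha hγ he
    exact (hreg γ γ hγ hγ).unique ⟨ha, he⟩ ⟨one_mem _, one_smul _ _⟩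
  have hAfix : ∀ a ∈ A, a • α = α := fun a ha => hA ha
  have hA_ne : ∀ {a : Y} {γ : Ω}, a ∈ A → γ ≠ α → a • γ ≠ α := by
    intro a γ ha hγ he
    exact hγ (smul_left_cancel a (he.trans (hAfix a ha).symm))
  set B := conjBy A y with hBdef
  have hBmem : ∀ {b : Y}, b ∈ B ↔ y⁻¹ * b * y ∈ A := CfsgLib.RankOne.mem_conjBy
  have hBfix : ∀ b ∈ B, b • β = β := by
    intro b hb
    have := hAfix _ (hBmem.1 hb)
    rw [hβdef]
    rw [mul_assoc, mul_smul, inv_smul_eq_iff, mul_smul] at this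
    exact this
  have hBreg : ∀ {γ δ : Ω}, γ ≠ β → δ ≠ β → ∃ b ∈ B, b • γ = δ := by
    intro γ δ hγ hδ
    have h1 : y⁻¹ • γ ≠ α := fun he => hγ (by rw [hβdef, ← he, smul_inv_smul])
    have h2 : y⁻¹ • δ ≠ α := fun he => hδ (by rw [hβdef, ← he, smul_inv_smul])
    obtain ⟨a, ha, he⟩ := (hreg _ _ h1 h2).exists
    refine ⟨y * a * y⁻¹, CfsgLib.RankOne.conj_mem_conjBy ha, ?_⟩
    rw [mul_smul, mul_smul, he, smul_inv_smul]
  have hBreg1 : ∀ {b : Y}, b ∈ B → b • α = α → b = 1 := by
    intro b hb he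
    have h1 : y⁻¹ • α ≠ α := fun h' => hβ (by rw [hβdef]; nth_rewrite 1 [← h']; rw [smul_inv_smul])
    have h2 := hreg1 (hBmem.1 hb) h1 (by rw [← mul_smul, mul_inv_cancel_right, mul_smul, he])
    simpa [mul_assoc, mul_inv_eq_one, inv_mul_eq_one, eq_comm] using
      congrArg (fun z => y * z * y⁻¹) h2
  have h3 : ∃ γ : Ω, γ ≠ α ∧ γ ≠ β := by
    by_contra hc
    push Not at hc
    have hsub : (Set.univ : Set Ω) ⊆ {α, β} := fun γ _ => by
      by_cases hγ : γ = α
      · exact Or.inl hγ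
      · exact Or.inr (hc γ hγ)
    have := (Set.encard_mono hsub).trans_eq (Set.encard_pair hβ.symm)
    rw [Set.encard_univ] at this
    exact absurd (hΩ.trans this) (by norm_num)
  have hne : A ≠ B := by
    intro he
    obtain ⟨γ, hγα, hγβ⟩ := h3
    obtain ⟨a, ha, hae⟩ := (hreg β γ hβ hγα).exists
    exact hγβ (hae.symm.trans (hBfix a (he ▸ ha)))
  have hnB : Group.IsNilpotent B :=
    Group.nilpotent_of_surjective ((MulAut.conj y).toMonoidHom.subgroupMap A)
      (MonoidHom.subgroupMap_surjective _ A)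
  have hkey : ∀ a b : Y, b⁻¹ • α = a⁻¹ • β → conjBy A b⁻¹ = conjBy B a⁻¹ := by
    intro a b he
    rw [hBdef, CfsgLib.RankOne.conjBy_conjBy]
    exact hfix _ _ (by rw [mul_smul, ← hβdef]; exact he)
  refine ⟨⟨hne, hnil, hnB, ?_, ?_⟩, ?_⟩
  · intro a ha ha1
    have h1 : a⁻¹ • β ≠ β := fun he => ha1 (inv_eq_one.1 (hreg1 (inv_mem ha) hβ he))
    obtain ⟨b, hb, he⟩ := hBreg h1 (δ := α) hβ.symm
    have hbα : b⁻¹ • α = a⁻¹ • β := by rw [inv_smul_eq_iff, he]
    refine ⟨b, hb, ?_, hkey a b hbα⟩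
    rintro rfl
    rw [inv_one, one_smul] at hbα
    exact hA_ne (inv_mem ha) hβ hbα.symm
  · intro b hb hb1
    have h1 : b⁻¹ • α ≠ α := fun he => hb1 (inv_eq_one.1 (hBreg1 (inv_mem hb) he))
    obtain ⟨a, ha, he⟩ := (hreg β (b⁻¹ • α) hβ h1).exists
    refine ⟨a⁻¹, inv_mem ha, ?_, (hkey a⁻¹ b (by rw [inv_inv, he])).symm⟩
    intro h'
    rw [inv_eq_one] at h'
    rw [h', one_smul] at he
    have := hBfix _ (inv_mem hb)
    exact hβ (MulAction.injective b⁻¹ (this.trans he))
  · refine le_antisymm ?_ (sup_le Subgroup.le_normalClosure ?_)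
    · rw [Subgroup.normalClosure, Subgroup.closure_le]
      intro z hz
      obtain ⟨a, ha, hz'⟩ := Group.mem_conjugatesOfSet_iff.1 hz
      obtain ⟨g, rfl⟩ := isConj_iff.1 hz'
      show g * a * g⁻¹ ∈ A ⊔ B
      have hg : g * a * g⁻¹ ∈ conjBy A g := CfsgLib.RankOne.conj_mem_conjBy ha
      by_cases hgα : g • α = α
      · rw [hAn g hgα] at hg
        exact Subgroup.mem_sup_left hg
      · obtain ⟨c, hc, hce⟩ := (hreg β (g • α) hβ hgα).exists
        rw [hfix g (c * y) (by rw [mul_smul, ← hβdef, hce]), ← CfsgLib.RankOne.conjBy_conjBy, ← hBdef,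
          CfsgLib.RankOne.mem_conjBy] at hg
        have : g * a * g⁻¹ = c * (c⁻¹ * (g * a * g⁻¹) * c) * c⁻¹ := by group
        rw [this]
        exact mul_mem (mul_mem (Subgroup.mem_sup_left hc) (Subgroup.mem_sup_right hg))
          (inv_mem (Subgroup.mem_sup_left hc))
    · intro z hz
      have := Subgroup.normalClosure_normal.conj_mem _ (Subgroup.le_normalClosure (hBmem.1 hz)) y
      simpa [mul_assoc] using this

end Cfsg.Agent.S5015
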