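import Cfsg.Statements.S5026
import Cfsg.Agent.RootSubgroups.Containment
-- import your own Cfsg.Agent.* helpers here

set_option autoImplicit false
open Cfsg

namespace Cfsg.Agent.S5026

/-- Let S be a degenerate set of abstract root subgroups of G (a set of abstract transvection groups) and let a, b be commuting non-identity elements of members of S with a b ≠ 1. Then the members of S centralizing a b are exactly those centralizing both a and b. -/
theorem result {G : Type*} [Group G] {S : Set (Subgroup G)} (hS : Cfsg.IsRootSubgroupSet S) (hdeg : Cfsg.IsDegenerateRootSet S)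
    {a b : G} (ha : a ∈ Cfsg.rootElements S) (hb : b ∈ Cfsg.rootElements S) (hab : a * b = b * a) (hab1 : a * b ≠ 1) :
    Cfsg.centralizingMembers S (Subgroup.zpowers (a * b)) =
      Cfsg.centralizingMembers S (Subgroup.zpowers a) ∩ Cfsg.centralizingMembers S (Subgroup.zpowers b) := by
  obtain ⟨ha1, A, hA, haA⟩ := ha
  obtain ⟨hb1, B, hB, hbB⟩ := hb
  ext C
  have key : ∀ {x : G}, C ∈ centralizingMembers S (Subgroup.zpowers x) ↔ C ∈ S ∧ ∀ c ∈ C, c * x = x * c := by
    intro x
    refine and_congr_right fun _ => ⟨fun h c hc => ?_, fun h c hc => ?_⟩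
    · exact (Subgroup.mem_centralizer_iff.1 (h hc) x (Subgroup.mem_zpowers x)).symm
    · refine Subgroup.mem_centralizer_iff.2 fun y hy => ?_
      obtain ⟨n, rfl⟩ := Subgroup.mem_zpowers_iff.1 hy
      exact ((show Commute c x from h c hc).zpow_right n).symm
  rw [Set.mem_inter_iff, key, key, key]
  refine ⟨fun h => ?_, fun h => ⟨h.1.1, fun c hc => ?_⟩⟩
  · refine ⟨⟨h.1, CfsgLib.RootSubgroups.commute_of_commute_mul hS hdeg hA hB haA ha1 hbB hab hab1 h.1 h.2⟩,
      ⟨h.1, CfsgLib.RootSubgroups.commute_of_commute_mul hS hdeg hB hA hbB hb1 haA hab.symm (hab ▸ hab1) h.1 ?_⟩⟩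
    intro c hc
    rw [← hab]
    exact h.2 c hc
  · exact Commute.mul_right (h.1.2 c hc) (h.2.2 c hc)

end Cfsg.Agent.S5026
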