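import Cfsg.Statements.S5027
import Cfsg.Agent.RootSubgroups.Containment
-- import your own Cfsg.Agent.* helpers here

set_option autoImplicit false
open Cfsg

namespace Cfsg.Agent.S5027

/-- Let S be a set of abstract root subgroups of G such that every member of S has a rank one partner in S (the graph of rank one pairs on S has no isolated vertex). Then the second centre of G equals its centre. -/
theorem result {G : Type*} [Group G] {S : Set (Subgroup G)} (hS : Cfsg.IsRootSubgroupSet S)
    (hF : ∀ A ∈ S, ¬ Cfsg.IsIsolatedIn (Cfsg.FAdj S) S A) : Subgroup.upperCentralSeries G 2 = Subgroup.center G := by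
  refine le_antisymm (fun x hx => ?_) ?_
  · rw [Subgroup.mem_center_iff]
    suffices hle : (⨆ A ∈ S, A) ≤ Subgroup.centralizer {x} by
      intro g
      exact Subgroup.mem_centralizer_singleton_iff.1 (hle (hS.generates ▸ Subgroup.mem_top g))
    refine iSup₂_le fun A hA a ha => ?_
    rw [Subgroup.mem_centralizer_singleton_iff]
    obtain ⟨B, hB, hAB⟩ := CfsgLib.RootSubgroups.exists_partner_of_not_isolated hA (hF A hA)
    rw [show (2 : ℕ) = 1 + 1 from rfl, Subgroup.mem_upperCentralSeries_succ_iff] at hx
    have hz : x * a * x⁻¹ * a⁻¹ ∈ Subgroup.center G := by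
      simpa [commutatorElement_def] using hx a
    by_cases ha1 : a = 1
    · rw [ha1, one_mul, mul_one]
    have hm : x * a * x⁻¹ * a⁻¹ * a = x * a * x⁻¹ := inv_mul_cancel_right _ _
    have := CfsgLib.RootSubgroups.eq_one_of_translate hS hA hB hAB
      (fun y _ => ((Subgroup.mem_center_iff.1 hz) y).symm) ha ha1 (hS.conj_mem A hA x)
      (by rw [hm]; exact CfsgLib.RankOne.conj_mem_conjBy ha)
      (by rw [hm]; exact fun e => ha1 (conj_eq_one_iff.1 e))
    calc a * x = (x * a * x⁻¹ * a⁻¹) * (a * x) := by rw [this, one_mul]
      _ = x * a := by group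
  · rw [← Subgroup.upperCentralSeries_one G]
    exact Subgroup.upperCentralSeries_mono G (by norm_num)

end Cfsg.Agent.S5027
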