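import Cfsg.Statements.S5029
import Cfsg.Agent.RootSubgroups.Lines
-- import your own Cfsg.Agent.* helpers here

set_option autoImplicit false
open Cfsg

namespace Cfsg.Agent.S5029

/-- Let S be a set of abstract root subgroups of G, A ∈ S having a rank one partner in S, and B ∈ S with C = ⁅A, B⁆ ∈ S. Then the members of S contained in AC are the conjugates of A by elements of B together with C, they partition AC, the members of S inside AC partition AC so that A is a line partner of C, and for every non-identity a ∈ A the map b ↦ a⁻¹ b⁻¹ a b is an isomorphism from B onto C. -/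
theorem result {G : Type*} [Group G] {S : Set (Subgroup G)} (hS : Cfsg.IsRootSubgroupSet S)
    {A B : Subgroup G} (hA : ¬ Cfsg.IsIsolatedIn (Cfsg.FAdj S) S A) (hAS : A ∈ S) (hB : B ∈ S) (hC : ⁅A, B⁆ ∈ S) :
    Cfsg.membersIn S (A ⊔ ⁅A, B⁆) = (fun b : G => Cfsg.conjBy A b) '' (B : Set G) ∪ {⁅A, B⁆} ∧
    Cfsg.IsSubgroupPartition (A ⊔ ⁅A, B⁆) (Cfsg.membersIn S (A ⊔ ⁅A, B⁆)) ∧
    A ∈ Cfsg.linePartners S ⁅A, B⁆ ∧
    ∀ a ∈ A, a ≠ 1 → ∃ φ : ↥B ≃* ↥⁅A, B⁆, ∀ b : ↥B, (φ b : G) = a⁻¹ * (b : G)⁻¹ * a * b := by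
  obtain ⟨P, hP, hAP⟩ := CfsgLib.RootSubgroups.exists_partner_of_not_isolated hAS hA
  have h := CfsgLib.RootSubgroups.commutatorCase_of_mem hS hAS hB hC
  have hpart := CfsgLib.RootSubgroups.members_partition hS hAS hP hAP h
  refine ⟨CfsgLib.RootSubgroups.membersIn_eq hS hAS hP hAP h, hpart, ⟨⟨hAS,
    (CfsgLib.RootSubgroups.CommCase.ne_left hS h).symm, ?_⟩, ?_⟩, fun a ha ha1 => ?_⟩
  · refine eq_bot_iff.2 (Subgroup.commutator_le.2 fun c hc x hx => Subgroup.mem_bot.2 ?_)
    exact commutatorElement_eq_one_iff_commute.2 (CfsgLib.RootSubgroups.CommCase.central_left h hc hx)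
  · rw [sup_comm]; exact hpart
  let f := CfsgLib.RootSubgroups.commHom h ha
  have hinj : Function.Injective f := (injective_iff_map_eq_one f).2 fun b hb =>
    Subtype.ext (CfsgLib.RootSubgroups.CommCase.injective hS hAS hP hAP h ha ha1 b.2 hb)
  refine ⟨(MonoidHom.ofInjective hinj).trans
    (MulEquiv.subgroupCongr (CfsgLib.RootSubgroups.commHom_range h ha ha1)), fun b => ?_⟩
  show CfsgLib.RootSubgroups.commHom h ha b = _
  simp only [CfsgLib.RootSubgroups.commHom, MonoidHom.mk'_apply]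
  rw [← CfsgLib.RootSubgroups.CommCase.neg_neg h ha b.2, commutatorElement_def, inv_inv, inv_inv]

end Cfsg.Agent.S5029
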