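import Cfsg.Statements.S5031
import Cfsg.Agent.RootSubgroups.Lines
-- import your own Cfsg.Agent.* helpers here

set_option autoImplicit false
open Cfsg

namespace Cfsg.Agent.S5031

/-- Let S be a set of abstract root subgroups of G and let A, B ∈ S lie in different connected components of the graph of rank one pairs on S, each component having more than one member. Then B is not a line partner of A. -/
theorem result {G : Type*} [Group G] {S : Set (Subgroup G)} (hS : Cfsg.IsRootSubgroupSet S)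
    {A B : Subgroup G} (hA : A ∈ S) (hB : B ∈ S)
    (hne : Cfsg.componentOf (Cfsg.FAdj S) S A ≠ Cfsg.componentOf (Cfsg.FAdj S) S B)
    (hA2 : ∃ A' ∈ Cfsg.componentOf (Cfsg.FAdj S) S A, A' ≠ A) (hB2 : ∃ B' ∈ Cfsg.componentOf (Cfsg.FAdj S) S B, B' ≠ B) :
    B ∉ Cfsg.linePartners S A := by
  rintro ⟨⟨-, hBA, hcomm⟩, hpart⟩
  have hpartner : ∀ {X : Subgroup G}, X ∈ S → (∃ Y ∈ componentOf (FAdj S) S X, Y ≠ X) →
      ∃ Y ∈ S, IsRankOnePair X Y := by
    rintro X hX ⟨Y, ⟨-, hY⟩, hYX⟩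
    rcases hY.cases_head with e | ⟨Z, hXZ, -⟩
    · exact absurd e.symm hYX
    · exact ⟨Z, hXZ.2.1, hXZ.2.2⟩
  obtain ⟨P, hP, hAP⟩ := hpartner hA hA2
  obtain ⟨Q, hQ, hBQ⟩ := hpartner hB hB2
  obtain ⟨a, ha, ha1⟩ := CfsgLib.RankOne.exists_ne_one_left hAP
  obtain ⟨b, hb, hb1⟩ := CfsgLib.RankOne.exists_ne_one_left hBQ
  refine hBA (CfsgLib.RootSubgroups.member_eq_of_common hS hA hP hAP hB ha ?_ ha1)
  by_contra haB
  have hab1 : a * b ≠ 1 := fun e => haB (eq_inv_of_mul_eq_one_left e ▸ inv_mem hb)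
  obtain ⟨D, hD, habD⟩ := hpart.2.1 (a * b) (mul_mem (Subgroup.mem_sup_left ha) (Subgroup.mem_sup_right hb)) hab1
  have hreach := CfsgLib.RootSubgroups.reach_of_line hS hA hB hP hQ hD.1 hAP hBQ hcomm ha ha1 hb hb1 habD
  refine hne (Set.ext fun Z => ?_)
  exact ⟨fun hZ => ⟨hZ.1, (CfsgLib.RootSubgroups.reach_symm hreach).trans hZ.2⟩,
    fun hZ => ⟨hZ.1, hreach.trans hZ.2⟩⟩

end Cfsg.Agent.S5031
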