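import Cfsg.Statements.S5032
import Cfsg.Agent.RootSubgroups.Lines
-- import your own Cfsg.Agent.* helpers here

set_option autoImplicit false
open Cfsg

namespace Cfsg.Agent.S5032

/-- Let S be a set of abstract root subgroups of G with more than one member. Then the graph of rank one pairs on S is connected if and only if S is a single conjugacy class of G and some member of S has a rank one partner in S. -/
theorem result {G : Type*} [Group G] {S : Set (Subgroup G)} (hS : Cfsg.IsRootSubgroupSet S) (h2 : ∃ A ∈ S, ∃ B ∈ S, A ≠ B) :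
    Cfsg.IsConnectedFamily (Cfsg.FAdj S) S ↔
      (Cfsg.IsConjClassOfSubgroups S ∧ ∃ A ∈ S, ¬ Cfsg.IsIsolatedIn (Cfsg.FAdj S) S A) := by
  refine ⟨fun hc => ?_, fun h => CfsgLib.RootSubgroups.connected_of_class hS h.1 h.2⟩
  obtain ⟨A, hA, -⟩ := id h2
  refine ⟨⟨⟨A, hA⟩, fun X hX Y hY => CfsgLib.RootSubgroups.conjugate_of_connected hc hX hY⟩, A, hA, fun hiso => ?_⟩
  obtain ⟨B, hB, hAB⟩ := CfsgLib.RootSubgroups.exists_partner h2 hc hA
  exact (hiso.2 B).1 ⟨hA, hB, hAB⟩

end Cfsg.Agent.S5032
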