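import Cfsg.Statements.S5043
import Cfsg.Agent.RootSubgroups.LinearRootsRank

set_option autoImplicit false
open Matrix
open Cfsg

namespace Cfsg.Agent.S5043

open CfsgLib.RootInv.Tv (rk tv IsTv)
open CfsgLib.LinRoot

variable {k : Type*} [Field k] {ι : Type*} [Fintype ι] [DecidableEq ι]

/-- The coercion to matrices. -/
def toMat : Matrix.SpecialLinearGroup ι k →* Matrix ι ι k where
  toFun g := g
  map_one' := Matrix.SpecialLinearGroup.coe_one
  map_mul' g h := Matrix.SpecialLinearGroup.coe_mul g h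

theorem toMat_inj : Function.Injective (toMat (k := k) (ι := ι)) := fun _ _ h => Subtype.ext h

/-- The roots. -/
def roots : Set (Matrix ι ι k) := {X | ∃ v φ : ι → k, φ ⬝ᵥ v = 0 ∧ v ≠ 0 ∧ φ ≠ 0 ∧ X = rk v φ}

theorem isRoot {X : Matrix ι ι k} (hX : X ∈ roots) : IsRoot (k := k) toMat X := by
  obtain ⟨v, φ, h, hv, hφ, rfl⟩ := hX
  refine ⟨by rw [rk_mul_rk, h, zero_smul], CfsgLib.RootInv.Tv.rk_ne_zero hv hφ, fun c => ⟨tv (c • v) φ
    (by rw [dotProduct_smul, h, smul_zero]), ?_⟩⟩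
  show (1 : Matrix ι ι k) + rk (c • v) φ = _
  rw [rk, Matrix.smul_vecMulVec]

theorem pair {X Y : Matrix ι ι k} (hX : X ∈ roots) (hY : Y ∈ roots) : Pair k roots X Y := by
  obtain ⟨v, φ, h, hv, hφ, rfl⟩ := hX
  obtain ⟨w, ψ, h', hw, hψ, rfl⟩ := hY
  by_cases ha : φ ⬝ᵥ w = 0
  · by_cases hb : ψ ⬝ᵥ v = 0
    · exact .comm (by rw [rk_mul_rk, rk_mul_rk, ha, hb, zero_smul, zero_smul])
    · refine .commutator (-(ψ ⬝ᵥ v)) (rk w φ) (by rw [rk_triple, ha, zero_mul, zero_smul])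
        (by rw [rk_triple, ha, mul_zero, zero_smul]) ?_ ⟨w, φ, ha, hw, hφ, rfl⟩ ?_
      · rw [rk_mul_rk, rk_mul_rk, ha, zero_smul]
        exact (smul_ne_zero' hb (CfsgLib.RootInv.Tv.rk_ne_zero hw hφ)).symm
      · rw [rk_mul_rk, rk_mul_rk, ha, zero_smul, zero_sub, neg_smul]
  · by_cases hb : ψ ⬝ᵥ v = 0
    · refine .commutator (φ ⬝ᵥ w) (rk v ψ) (by rw [rk_triple, hb, mul_zero, zero_smul])
        (by rw [rk_triple, hb, zero_mul, zero_smul]) ?_ ⟨v, ψ, hb, hv, hψ, rfl⟩ ?_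
      · rw [rk_mul_rk, rk_mul_rk, hb, zero_smul]
        exact smul_ne_zero' ha (CfsgLib.RootInv.Tv.rk_ne_zero hv hψ)
      · rw [rk_mul_rk, rk_mul_rk, hb, zero_smul, sub_zero]
    · exact .rankOne _ (mul_ne_zero ha hb) (rk_triple v φ w ψ)
        (by rw [rk_triple, mul_comm (ψ ⬝ᵥ v)])

theorem adj {v φ w ψ : ι → k} (hX : rk v φ ∈ roots) (hY : rk w ψ ∈ roots) (ha : φ ⬝ᵥ w ≠ 0)
    (hb : ψ ⬝ᵥ v ≠ 0) : rk v φ ∈ roots ∧ rk w ψ ∈ roots ∧
      ∃ l : k, l ≠ 0 ∧ rk v φ * rk w ψ * rk v φ = l • rk v φ ∧ rk w ψ * rk v φ * rk w ψ = l • rk w ψ :=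
  ⟨hX, hY, _, mul_ne_zero ha hb, rk_triple v φ w ψ, by rw [rk_triple, mul_comm (ψ ⬝ᵥ v)]⟩

theorem path {X Y : Matrix ι ι k} (hX : X ∈ roots) (hY : Y ∈ roots) : Relation.ReflTransGen
    (fun X Y => X ∈ roots ∧ Y ∈ roots ∧ ∃ l : k, l ≠ 0 ∧ X * Y * X = l • X ∧ Y * X * Y = l • Y) X Y := by
  obtain ⟨v, φ, h, hv, hφ, rfl⟩ := hX
  obtain ⟨w, ψ, h', hw, hψ, rfl⟩ := hY
  obtain ⟨u, hu1, hu2⟩ := exists_dot_both_ne φ ψ hφ hψ
  have hu : u ≠ 0 := fun e => hu1 (by rw [e, dotProduct_zero])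
  have hout : ∀ {φ v : ι → k}, φ ⬝ᵥ v = 0 → v ≠ 0 → φ ⬝ᵥ u ≠ 0 → v ∉ Submodule.span k {u} := by
    intro φ v h hv hu hm
    obtain ⟨c, rfl⟩ := Submodule.mem_span_singleton.1 hm
    rw [dotProduct_smul, smul_eq_mul] at h
    exact hv (by rw [(mul_eq_zero.1 h).resolve_right hu, zero_smul])
  obtain ⟨χ, hχ, hχv, hχw⟩ := exists_dot_annihilating u v w (hout h hv hu1) (hout h' hw hu2)
  have hM : rk u χ ∈ roots := ⟨u, χ, hχ, hu, fun e => hχv (by rw [e, zero_dotProduct]), rfl⟩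
  exact .head (adj ⟨v, φ, h, hv, hφ, rfl⟩ hM hu1 hχv)
    (.single (adj hM ⟨w, ψ, h', hw, hψ, rfl⟩ hχw hu2))

theorem set_eq (i₀ i₁ i₂ : ι) (h01 : i₀ ≠ i₁) (h02 : i₀ ≠ i₂) (h12 : i₁ ≠ i₂) :
    {A : Subgroup (Matrix.SpecialLinearGroup ι k) | ∃ g : Matrix.SpecialLinearGroup ι k,
      A = Cfsg.conjBy (Subgroup.closure {t : Matrix.SpecialLinearGroup ι k |
        ∃ c : k, (t : Matrix ι ι k) = Matrix.transvection i₀ i₁ c}) g} = T (k := k) toMat '' roots := by
  have hstd : Subgroup.closure {t : Matrix.SpecialLinearGroup ι k |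
      ∃ c : k, (t : Matrix ι ι k) = Matrix.transvection i₀ i₁ c} = T (k := k) toMat (rk (Pi.single i₀ 1) (Pi.single i₁ 1)) := by
    unfold CfsgLib.LinRoot.T
    congr 1
    ext t
    refine exists_congr fun c => ?_
    rw [Matrix.transvection, rk, ← Matrix.single_eq_single_vecMulVec_single, Matrix.smul_single, smul_eq_mul, mul_one]
    rfl
  have hroot : rk (Pi.single i₀ (1 : k)) (Pi.single i₁ 1) ∈ roots :=
    ⟨_, _, by simp [h01.symm], by simp, by simp, rfl⟩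
  rw [hstd]
  ext A
  constructor
  · rintro ⟨g, rfl⟩
    rw [conjBy_T toMat_inj (isRoot hroot).sq]
    refine ⟨_, ?_, rfl⟩
    have e : toMat g⁻¹ * toMat g = (1 : Matrix ι ι k) := by rw [← map_mul, inv_mul_cancel, map_one]
    refine ⟨toMat g *ᵥ Pi.single i₀ 1, Pi.single i₁ 1 ᵥ* toMat g⁻¹, ?_, ?_, ?_, ?_⟩
    · rw [← Matrix.dotProduct_mulVec, Matrix.mulVec_mulVec, e, Matrix.one_mulVec]; simp [h01.symm]
    · intro e'
      have := congrArg (fun x => toMat g⁻¹ *ᵥ x) e'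
      simp only [Matrix.mulVec_mulVec, e, Matrix.one_mulVec, Matrix.mulVec_zero] at this
      simp at this
    · intro e'
      have := congrArg (fun x => x ᵥ* toMat g) e'
      simp only [Matrix.vecMul_vecMul, e, Matrix.vecMul_one, Matrix.zero_vecMul] at this
      simp at this
    · rw [rk, Matrix.mul_vecMulVec, Matrix.vecMulVec_mul]
  · rintro ⟨X, ⟨v, φ, h, hv, hφ, rfl⟩, rfl⟩
    obtain ⟨g, hg⟩ := CfsgLib.RootInv.Tv.exists_conj_std h01 h02 h12 ⟨v, φ, h, hv, hφ, rfl⟩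
    refine ⟨g, ?_⟩
    rw [conjBy_T toMat_inj (isRoot hroot).sq]
    congr 1
    have e2 : toMat g * toMat g⁻¹ = (1 : Matrix ι ι k) := by rw [← map_mul, mul_inv_cancel, map_one]
    have := congrArg (fun x => toMat x) hg
    simp only [map_mul] at this
    change (1 : Matrix ι ι k) + rk v φ = toMat g * Matrix.transvection i₀ i₁ 1 * toMat g⁻¹ at this
    rw [Matrix.transvection, mul_add, mul_one, add_mul, e2, add_right_inj] at this
    rw [this, rk, Matrix.single_eq_single_vecMulVec_single]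

theorem gen [Nontrivial ι] : (⨆ A ∈ T (k := k) toMat '' (roots : Set (Matrix ι ι k)), A) = ⊤ := by
  refine (Subgroup.eq_top_iff' _).2 fun g => ?_
  induction g using CfsgLib.Linear.transvection_induction with
  | htransvec i j h c =>
    have hr : rk (Pi.single i (1 : k)) (Pi.single j 1) ∈ roots :=
      ⟨_, _, by simp [h.symm], by simp, by simp, rfl⟩
    have h5 := @T_le_iSup k _ (Matrix ι ι k) _ _ (Matrix.SpecialLinearGroup ι k) _ toMat
    have h6 : T (k := k) toMat (rk (Pi.single i (1 : k)) (Pi.single j 1)) ≤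
        ⨆ A ∈ T (k := k) toMat '' (roots : Set (Matrix ι ι k)), A := h5 hr
    apply h6
    unfold CfsgLib.LinRoot.T
    refine Subgroup.subset_closure ⟨c, ?_⟩
    show Matrix.transvection i j c = _
    rw [rk, ← Matrix.single_eq_single_vecMulVec_single, Matrix.smul_single, smul_eq_mul, mul_one]
    rfl
  | hmul a b ha hb => exact mul_mem ha hb

/-- Let k be a field and n a natural number. In SL_{n+3}(k) (so in every dimension at least 3) the conjugates of the root subgroup of elementary transvections 1 + c E₁₂ (c ∈ k) — that is, the groups of transvections attached to an incident point–hyperplane pair — form a non-degenerate class of abstract k-root subgroups of SL_{n+3}(k) whose graph of rank one pairs is connected. -/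
theorem result (k : Type*) [Field k] (n : ℕ) :
    Cfsg.IsRootSubgroupClass {A : Subgroup (Matrix.SpecialLinearGroup (Fin (n + 3)) k) |
        ∃ g : Matrix.SpecialLinearGroup (Fin (n + 3)) k,
          A = Cfsg.conjBy (Subgroup.closure {t : Matrix.SpecialLinearGroup (Fin (n + 3)) k |
            ∃ c : k, (t : Matrix (Fin (n + 3)) (Fin (n + 3)) k) = Matrix.transvection 0 1 c}) g} ∧
    Cfsg.IsNondegenerateRootSet {A : Subgroup (Matrix.SpecialLinearGroup (Fin (n + 3)) k) |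
        ∃ g : Matrix.SpecialLinearGroup (Fin (n + 3)) k,
          A = Cfsg.conjBy (Subgroup.closure {t : Matrix.SpecialLinearGroup (Fin (n + 3)) k |
            ∃ c : k, (t : Matrix (Fin (n + 3)) (Fin (n + 3)) k) = Matrix.transvection 0 1 c}) g} ∧
    Cfsg.IsKRootSubgroupSet k {A : Subgroup (Matrix.SpecialLinearGroup (Fin (n + 3)) k) |
        ∃ g : Matrix.SpecialLinearGroup (Fin (n + 3)) k,
          A = Cfsg.conjBy (Subgroup.closure {t : Matrix.SpecialLinearGroup (Fin (n + 3)) k |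
            ∃ c : k, (t : Matrix (Fin (n + 3)) (Fin (n + 3)) k) = Matrix.transvection 0 1 c}) g} ∧
    Cfsg.IsConnectedFamily (Cfsg.FAdj {A : Subgroup (Matrix.SpecialLinearGroup (Fin (n + 3)) k) |
        ∃ g : Matrix.SpecialLinearGroup (Fin (n + 3)) k,
          A = Cfsg.conjBy (Subgroup.closure {t : Matrix.SpecialLinearGroup (Fin (n + 3)) k |
            ∃ c : k, (t : Matrix (Fin (n + 3)) (Fin (n + 3)) k) = Matrix.transvection 0 1 c}) g})
      {A : Subgroup (Matrix.SpecialLinearGroup (Fin (n + 3)) k) |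
        ∃ g : Matrix.SpecialLinearGroup (Fin (n + 3)) k,
          A = Cfsg.conjBy (Subgroup.closure {t : Matrix.SpecialLinearGroup (Fin (n + 3)) k |
            ∃ c : k, (t : Matrix (Fin (n + 3)) (Fin (n + 3)) k) = Matrix.transvection 0 1 c}) g} := by
  have h01 : (0 : Fin (n + 3)) ≠ 1 := by simp [Fin.ext_iff]
  have h02 : (0 : Fin (n + 3)) ≠ 2 := by simp [Fin.ext_iff, Nat.mod_eq_of_lt (show 2 < n + 3 by omega)]
  have h12 : (1 : Fin (n + 3)) ≠ 2 := by simp [Fin.ext_iff, Nat.mod_eq_of_lt (show 2 < n + 3 by omega)]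
  rw [set_eq 0 1 2 h01 h02 h12]
  have hr := fun (X : Matrix (Fin (n + 3)) (Fin (n + 3)) k) (h : X ∈ roots) => isRoot h
  have hK : Cfsg.IsKRootSubgroupSet k (CfsgLib.LinRoot.T (k := k) toMat '' (roots : Set (Matrix (Fin (n + 3)) (Fin (n + 3)) k))) := by
    refine kRootSet toMat_inj hr rfl ?_ gen (fun X hX Y hY => pair hX hY)
    intro X hX g
    have := Set.mem_image_of_mem (CfsgLib.LinRoot.T (k := k) toMat) hX
    rw [← set_eq 0 1 2 h01 h02 h12] at this ⊢
    obtain ⟨g', hg'⟩ := this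
    exact ⟨g * g', by rw [hg', CfsgLib.RankOne.conjBy_conjBy]⟩
  have hc := connected toMat_inj hr rfl (fun X hX Y hY => path hX hY)
  let e : Fin (n + 3) → Fin (n + 3) → Matrix (Fin (n + 3)) (Fin (n + 3)) k := fun i j => rk (Pi.single i 1) (Pi.single j 1)
  have he : ∀ i j, i ≠ j → e i j ∈ roots := fun i j h => ⟨_, _, by simp [h.symm], by simp, by simp, rfl⟩
  have hne : (CfsgLib.LinRoot.T (k := k) toMat '' (roots : Set (Matrix (Fin (n + 3)) (Fin (n + 3)) k))).Nonempty :=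
    ⟨_, Set.mem_image_of_mem _ (he 0 1 h01)⟩
  refine ⟨⟨hK.1, conjClass_of_connected hne hc⟩, ⟨?_, ?_, ?_⟩, hK, hc⟩
  · refine ⟨_, Set.mem_image_of_mem _ (he 0 1 h01), _, Set.mem_image_of_mem _ (he 0 2 h02), fun h => ?_,
      commute_T toMat_inj (hr _ (he _ _ h01)).sq (hr _ (he _ _ h02)).sq ?_⟩
    · obtain ⟨g, hg, hge, -⟩ := exists_ne_one (hr _ (he 0 2 h02))
      rw [← h] at hg
      obtain ⟨c, hc⟩ := (mem_T (hr _ (he _ _ h01)).sq).1 hg
      rw [hge, add_right_inj] at hc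
      have := congrFun (congrFun hc 0) 2
      simp [e, rk, Matrix.vecMulVec_apply, h12, h02, h01, h12.symm] at this
    · simp [e, rk_mul_rk, h01.symm, h02.symm]
  · exact ⟨_, Set.mem_image_of_mem _ (he 0 1 h01), _, Set.mem_image_of_mem _ (he 1 0 h01.symm),
      (rankOne_of toMat_inj (hr _ (he _ _ h01)) (hr _ (he _ _ h01.symm)) (l := 1) one_ne_zero
        (by simp [e, rk_triple]) (by simp [e, rk_triple])).1⟩
  · have h1 : e 0 1 * e 1 2 * e 0 1 = 0 := by simp [e, rk_triple, h02, h02.symm]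
    have h2 : e 1 2 * e 0 1 * e 1 2 = 0 := by simp [e, rk_triple, h02, h02.symm]
    have h3 : e 0 1 * e 1 2 - e 1 2 * e 0 1 = e 0 2 := by simp [e, rk_mul_rk, h02, h02.symm]
    exact ⟨_, Set.mem_image_of_mem _ (he 0 1 h01), _, Set.mem_image_of_mem _ (he 1 2 h12),
      commutatorCase_of toMat_inj (hr _ (he _ _ h01)) (hr _ (he _ _ h12)) h1 h2
        (h3 ▸ hr _ (he 0 2 h02)) (h3 ▸ Set.mem_image_of_mem _ (he 0 2 h02))⟩

end Cfsg.Agent.S5043
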