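import Cfsg.Statements.S5058
import Cfsg.Agent.RootSubgroups.Transvections
-- import your own Cfsg.Agent.* helpers here

set_option autoImplicit false
open Matrix
open Cfsg

namespace Cfsg.Agent.S5058

/-- Let F be a finite field of characteristic 2 and n a natural number. Then the transvections of SL_{n+3}(F) (so in every dimension at least 3) (the conjugates of the elementary matrices 1 + c E₁₂, c ≠ 0) form a class of root involutions of SL_{n+3}(F); when F has two elements they form a class of {3,4}⁺-transpositions (every product of odd order has order 1 or 3). -/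
theorem result (F : Type*) [Field F] [Fintype F] [CharP F 2] (n : ℕ) :
    Cfsg.IsRootInvolutionClass {t : Matrix.SpecialLinearGroup (Fin (n + 3)) F | ∃ c : F, c ≠ 0 ∧
        ∃ g : Matrix.SpecialLinearGroup (Fin (n + 3)) F, ((g⁻¹ * t * g : Matrix.SpecialLinearGroup (Fin (n + 3)) F) :
          Matrix (Fin (n + 3)) (Fin (n + 3)) F) = Matrix.transvection 0 1 c} ∧
    (Fintype.card F = 2 → Cfsg.IsThreeFourPlusTranspositionSet {t : Matrix.SpecialLinearGroup (Fin (n + 3)) F | ∃ c : F, c ≠ 0 ∧
        ∃ g : Matrix.SpecialLinearGroup (Fin (n + 3)) F, ((g⁻¹ * t * g : Matrix.SpecialLinearGroup (Fin (n + 3)) F) :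
          Matrix (Fin (n + 3)) (Fin (n + 3)) F) = Matrix.transvection 0 1 c}) := by
  have h01 : (0 : Fin (n + 3)) ≠ 1 := by simp
  have h02 : (0 : Fin (n + 3)) ≠ 2 := by simp [Fin.ext_iff, Nat.mod_eq_of_lt (show 2 < n + 3 by omega)]
  have h12 : (1 : Fin (n + 3)) ≠ 2 := by simp [Fin.ext_iff, Nat.mod_eq_of_lt (show 2 < n + 3 by omega)]
  have hset : {t : Matrix.SpecialLinearGroup (Fin (n + 3)) F | ∃ c : F, c ≠ 0 ∧
        ∃ g : Matrix.SpecialLinearGroup (Fin (n + 3)) F, ((g⁻¹ * t * g : Matrix.SpecialLinearGroup (Fin (n + 3)) F) :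
          Matrix (Fin (n + 3)) (Fin (n + 3)) F) = Matrix.transvection 0 1 c} =
      {t | CfsgLib.RootInv.Tv.IsTv t} := by
    ext t
    constructor
    · rintro ⟨c, hc, g, hg⟩
      have e : g⁻¹ * t * g = Matrix.SpecialLinearGroup.transvection h01 c := Subtype.ext hg
      have h := CfsgLib.RootInv.Tv.isTv_conj (CfsgLib.RootInv.Tv.isTv_transvection h01 hc) g
      rw [← e] at h
      simpa [mul_assoc] using h
    · intro ht
      obtain ⟨g, rfl⟩ := CfsgLib.RootInv.Tv.exists_conj_std h01 h02 h12 ht
      refine ⟨1, one_ne_zero, g, ?_⟩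
      rw [show g⁻¹ * (g * Matrix.SpecialLinearGroup.transvection h01 (1 : F) * g⁻¹) * g =
        Matrix.SpecialLinearGroup.transvection h01 (1 : F) by group]
      rfl
  rw [hset]
  exact CfsgLib.RootInv.Tv.main F n

end Cfsg.Agent.S5058
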