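import Cfsg.Statements.S5059
import Cfsg.Agent.QuadPairs.Root
-- import your own Cfsg.Agent.* helpers here

set_option autoImplicit false
universe u
open Cfsg

namespace Cfsg.Agent.S5059

/-- Let k be a field of characteristic not 2 with k not of order 3, M a finite-dimensional k-vector space and G ≤ GL(M) such that (G, M) is a quadratic pair (M irreducible for G, and G generated by its quadratically acting elements σ whose scalar family 1 + c(σ − 1), c ∈ k, lies in G). Write 𝒬_d for the quadratic elements of G of minimal commutator rank, E(σ) for the subgroup generated by the members of 𝒬_d with the same fixed space and commutator space as σ, and Σ for the set of these subgroups. Then for σ ∈ 𝒬_d the subgroup E(σ) consists exactly of those members together with the identity, it is abelian, and if k has prime characteristic p every element of E(σ) has order dividing p. -/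
theorem result {k : Type u} [Field k] (hk2 : ringChar k ≠ 2) (hk3 : Nat.card k ≠ 3)
    {M : Type u} [AddCommGroup M] [Module k M] [FiniteDimensional k M]
    {G : Subgroup (LinearMap.GeneralLinearGroup k M)} (hG : Cfsg.IsQuadraticPair G)
    {σ : LinearMap.GeneralLinearGroup k M} (hσ : σ ∈ Cfsg.minimalQuadraticElements G) :
    (Cfsg.sameActionSubgroup G σ : Set (LinearMap.GeneralLinearGroup k M)) = Cfsg.sameActionClass G σ ∪ {1} ∧
    IsMulCommutative ↥(Cfsg.sameActionSubgroup G σ) ∧
    (∀ p : ℕ, p.Prime → ringChar k = p → ∀ x ∈ Cfsg.sameActionSubgroup G σ, x ^ p = 1) := by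
  have h := CfsgLib.QP.mem_minimal_iff.1 hσ
  refine ⟨?_, CfsgLib.QP.isMulCommutative_sameAction h, fun p hp hkp x hx => ?_⟩
  · ext x
    constructor
    · intro hx
      by_cases h1 : x = 1
      · exact Or.inr h1
      · have hV := (CfsgLib.QP.mem_sameActionSubgroup h).1 hx
        obtain ⟨hm, hk, hr⟩ := h.of_mem_rootSpace hV (fun e => h1 (Units.ext (sub_eq_zero.1 e)))
        exact Or.inl ⟨CfsgLib.QP.mem_minimal_iff.2 hm, hk, hr⟩
    · rintro (hx | hx)
      · exact Subgroup.subset_closure hx
      · rw [Set.mem_singleton_iff.1 hx]; exact one_mem _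
  · have hV := (CfsgLib.QP.mem_sameActionSubgroup h).1 hx
    set N := (x : Module.End k M) - 1 with hN
    have hNN : N * N = 0 := CfsgLib.QP.mul_eq_zero_of_mem hV hV
    have hpow : ∀ n : ℕ, (x : Module.End k M) ^ n = 1 + (n : k) • N := by
      intro n
      induction n with
      | zero => simp
      | succ n ih =>
        rw [pow_succ, ih, show (x : Module.End k M) = 1 + N by rw [hN, add_sub_cancel]]
        rw [mul_add, mul_one, add_mul, one_mul, smul_mul_assoc, hNN, smul_zero, add_zero, Nat.cast_succ,
          add_smul, one_smul]
        abel
    have : CharP k p := hkp ▸ ringChar.charP k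
    apply Units.ext
    rw [Units.val_pow_eq_pow_val, hpow, CharP.cast_eq_zero, zero_smul, add_zero, Units.val_one]

end Cfsg.Agent.S5059
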