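import Cfsg.Statements.S5060
import Cfsg.Agent.QuadPairs.Dickson
-- import your own Cfsg.Agent.* helpers here

set_option autoImplicit false
open Cfsg

namespace Cfsg.Agent.S5060

/-- Let k ⊆ K be fields with the characteristic of k not 2 and k not of order 3, and let α ∈ K be a non-zero element algebraic over k. Then the subgroup of SL₂(K) generated by the upper unitriangular matrices with entry c and the lower unitriangular matrices with entry cα, c ranging over k, is exactly the group of matrices of SL₂(K) with all entries in k(α). -/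
theorem result {k K : Type*} [Field k] [Field K] [Algebra k K] (hk2 : ringChar k ≠ 2) (hk3 : Nat.card k ≠ 3)
    (α : K) (hα : IsAlgebraic k α) (hα0 : α ≠ 0) :
    (Subgroup.closure ({g : Matrix.SpecialLinearGroup (Fin 2) K | ∃ c : k, (g : Matrix (Fin 2) (Fin 2) K) = !![1, algebraMap k K c; 0, 1]} ∪
        {g : Matrix.SpecialLinearGroup (Fin 2) K | ∃ c : k, (g : Matrix (Fin 2) (Fin 2) K) = !![1, 0; algebraMap k K c * α, 1]}) :
      Set (Matrix.SpecialLinearGroup (Fin 2) K)) =
    {g : Matrix.SpecialLinearGroup (Fin 2) K | ∀ i j : Fin 2, (g : Matrix (Fin 2) (Fin 2) K) i j ∈ IntermediateField.adjoin k ({α} : Set K)} := by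
  classical
  have h2 := CfsgLib.QP.two_ne_zero_of_ringChar hk2
  have hint : IsIntegral k α := hα.isIntegral
  have : FiniteDimensional k ↥(IntermediateField.adjoin k ({α} : Set K)) :=
    IntermediateField.adjoin.finiteDimensional hint
  set L := IntermediateField.adjoin k ({α} : Set K) with hL
  let a : L := ⟨α, IntermediateField.mem_adjoin_simple_self k α⟩
  have ha : IsUnit a := isUnit_iff_ne_zero.2 fun e => hα0 (congrArg Subtype.val e)
  let pb := IntermediateField.adjoin.powerBasis hint
  have htop : Algebra.adjoin k ({a} : Set L) = ⊤ := pb.adjoin_gen_eq_top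
  have hfull := CfsgLib.QP.gen_contains h2 hk3 ha htop
  have htop' : CfsgLib.QP.gen k a = ⊤ := by
    rw [eq_top_iff, ← CfsgLib.SL2Pair.sup_eq_top]
    refine sup_le (fun x hx => ?_) (fun x hx => ?_)
    · obtain ⟨c, rfl⟩ := CfsgLib.SL2Pair.mem_lower.1 hx
      exact (hfull c).2
    · obtain ⟨c, rfl⟩ := CfsgLib.SL2Pair.mem_upper.1 hx
      exact (hfull c).1
  have hmap : (CfsgLib.QP.gen k a).map (Matrix.SpecialLinearGroup.map (L.val : L →+* K)) =
      CfsgLib.QP.gen k α := CfsgLib.QP.map_gen L.val a
  rw [htop', ← MonoidHom.range_eq_map] at hmap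
  have hset : ({g : Matrix.SpecialLinearGroup (Fin 2) K | ∃ c : k, (g : Matrix (Fin 2) (Fin 2) K) = !![1, algebraMap k K c; 0, 1]} ∪
      {g : Matrix.SpecialLinearGroup (Fin 2) K | ∃ c : k, (g : Matrix (Fin 2) (Fin 2) K) = !![1, 0; algebraMap k K c * α, 1]}) =
      ({g | ∃ c : k, g = CfsgLib.QP.up (algebraMap k K c)} ∪ {g | ∃ c : k, g = CfsgLib.QP.low (c • α)}) := by
    congr 1 <;> ext g <;> refine exists_congr fun c => ?_
    · rw [← CfsgLib.QP.up_coe]; exact Subtype.ext_iff.symm
    · rw [Algebra.smul_def, ← CfsgLib.QP.low_coe]; exact Subtype.ext_iff.symm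
  rw [hset]
  show (CfsgLib.QP.gen k α : Set (Matrix.SpecialLinearGroup (Fin 2) K)) = _
  rw [← hmap]
  ext g
  simp only [SetLike.mem_coe, MonoidHom.mem_range, Set.mem_ofPred_eq]
  constructor
  · rintro ⟨x, rfl⟩ i j
    exact (x.1 i j).2
  · intro hg
    refine ⟨⟨fun i j => ⟨g.1 i j, hg i j⟩, ?_⟩, ?_⟩
    · apply L.val.injective
      have : (L.val : L →+* K).mapMatrix (fun i j => (⟨g.1 i j, hg i j⟩ : L)) = g.1 := by
        ext i j; rfl
      show (L.val : L →+* K) _ = (L.val : L →+* K) 1
      refine (RingHom.map_det _ _).trans ?_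
      rw [this, map_one]
      exact g.2
    · apply Subtype.ext
      ext i j
      rfl

end Cfsg.Agent.S5060
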