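import Cfsg.Statements.S5064
import Cfsg.Agent.QuadPairs.Special
-- import your own Cfsg.Agent.* helpers here

set_option autoImplicit false
universe u
open Cfsg

namespace Cfsg.Agent.S5064

/-- Let k be a field of characteristic not 2 with k not of order 3, M a finite-dimensional k-vector space and G ≤ GL(M) such that (G, M) is a quadratic pair (M irreducible for G, and G generated by its quadratically acting elements σ whose scalar family 1 + c(σ − 1), c ∈ k, lies in G). Write 𝒬_d for the quadratic elements of G of minimal commutator rank, E(σ) for the subgroup generated by the members of 𝒬_d with the same fixed space and commutator space as σ, and Σ for the set of these subgroups. If σ, τ ∈ 𝒬_d and the subgroup H generated by their two scalar families does not act unipotently on M, then H is isomorphic to SL₂ over a simple algebraic extension k(λ) of k. -/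
theorem result {k : Type u} [Field k] (hk2 : ringChar k ≠ 2) (hk3 : Nat.card k ≠ 3)
    {M : Type u} [AddCommGroup M] [Module k M] [FiniteDimensional k M]
    {G : Subgroup (LinearMap.GeneralLinearGroup k M)} (hG : Cfsg.IsQuadraticPair G)
    {σ τ : LinearMap.GeneralLinearGroup k M} (hσ : σ ∈ Cfsg.minimalQuadraticElements G) (hτ : τ ∈ Cfsg.minimalQuadraticElements G)
    (hH : ¬ Cfsg.IsUnipotentOn (Subgroup.closure (Cfsg.scalarFamily σ ∪ Cfsg.scalarFamily τ))) :
    ∃ (K : Type u) (_ : Field K) (_ : Algebra k K) (lam : K), IsAlgebraic k lam ∧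
      IntermediateField.adjoin k ({lam} : Set K) = ⊤ ∧
      Nonempty (↥(Subgroup.closure (Cfsg.scalarFamily σ ∪ Cfsg.scalarFamily τ)) ≃* Matrix.SpecialLinearGroup (Fin 2) K) := by
  classical
  have h2 := CfsgLib.QP.two_ne_zero_of_ringChar hk2
  have h1 := CfsgLib.QP.mem_minimal_iff.1 hσ
  have h1' := CfsgLib.QP.mem_minimal_iff.1 hτ
  have hne : ((σ : Module.End k M) - 1) * ((τ : Module.End k M) - 1) * ((σ : Module.End k M) - 1) ≠ 0 := by
    intro e
    refine hH (CfsgLib.QP.isUnipotentOn_of_not_opposite h1 h1' h2 hk3 e ((Subgroup.closure_le _).2 ?_))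
    rintro x (hx | hx)
    · exact Subgroup.mem_sup_left (CfsgLib.QP.scalarFamily_subset h1 hx)
    · exact Subgroup.mem_sup_right (CfsgLib.QP.scalarFamily_subset h1' hx)
  obtain ⟨K, _, _, _, D, hadj, heS, heT, hkS, hkT, -⟩ := CfsgLib.QP.exists_corner_field h1 h1' h2 hk3 hne
  refine ⟨K, inferInstance, inferInstance, D.α, (Algebra.IsAlgebraic.isAlgebraic D.α), ?_, ⟨?_⟩⟩
  · refine eq_top_iff.2 fun x _ => ?_
    exact IntermediateField.algebra_adjoin_le_adjoin k ({D.α} : Set K) (hadj ▸ Algebra.mem_top)
  · have hr := CfsgLib.QP.pairGrp_eq_range D h2 hk3 hadj heS heT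
    rw [CfsgLib.QP.pairGrp, ← CfsgLib.QP.scalarFamily_eq, ← CfsgLib.QP.scalarFamily_eq] at hr
    exact ((MonoidHom.ofInjective (CfsgLib.QP.homU_injective D heS heT hkS hkT)).trans
      (MulEquiv.subgroupCongr hr.symm)).symm

end Cfsg.Agent.S5064
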