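import Cfsg.Statements.S5066
import Cfsg.Agent.QuadPairs.Commutators
-- import your own Cfsg.Agent.* helpers here

set_option autoImplicit false
universe u
open Cfsg

namespace Cfsg.Agent.S5066

/-- Let k be a field of characteristic not 2 with k not of order 3, M a finite-dimensional k-vector space and G ≤ GL(M) such that (G, M) is a quadratic pair (M irreducible for G, and G generated by its quadratically acting elements σ whose scalar family 1 + c(σ − 1), c ∈ k, lies in G). Write 𝒬_d for the quadratic elements of G of minimal commutator rank, E(σ) for the subgroup generated by the members of 𝒬_d with the same fixed space and commutator space as σ, and Σ for the set of these subgroups. Let E, F ∈ Σ generate a subgroup that is nilpotent of class exactly two. Then D = ⁅E, F⁆ belongs to Σ, equals the subgroup generated by the commutators of e with F, and also of E with f, for every non-identity e ∈ E, f ∈ F, and ⟨E, F⟩ lies in U(D), the set of elements g of G normalizing D with (g − 1)M inside the fixed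 space of D, (g − 1) mapping that fixed space into the commutator space of D, and g acting trivially on the commutator space of D. -/
theorem result {k : Type u} [Field k] (hk2 : ringChar k ≠ 2) (hk3 : Nat.card k ≠ 3)
    {M : Type u} [AddCommGroup M] [Module k M] [FiniteDimensional k M]
    {G : Subgroup (LinearMap.GeneralLinearGroup k M)} (hG : Cfsg.IsQuadraticPair G)
    {E F : Subgroup (LinearMap.GeneralLinearGroup k M)} (hE : E ∈ Cfsg.quadraticRootSubgroups G) (hF : F ∈ Cfsg.quadraticRootSubgroups G)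
    (h2 : ⁅E ⊔ F, E ⊔ F⁆ ≠ ⊥ ∧ ⁅⁅E ⊔ F, E ⊔ F⁆, E ⊔ F⁆ = ⊥) :
    ⁅E, F⁆ ∈ Cfsg.quadraticRootSubgroups G ∧
    (∀ e ∈ E, e ≠ 1 → Subgroup.closure ((fun f : LinearMap.GeneralLinearGroup k M => e * f * e⁻¹ * f⁻¹) '' (F : Set (LinearMap.GeneralLinearGroup k M))) = ⁅E, F⁆) ∧
    (∀ f ∈ F, f ≠ 1 → Subgroup.closure ((fun e : LinearMap.GeneralLinearGroup k M => e * f * e⁻¹ * f⁻¹) '' (E : Set (LinearMap.GeneralLinearGroup k M))) = ⁅E, F⁆) ∧
    ((E ⊔ F : Subgroup (LinearMap.GeneralLinearGroup k M)) : Set (LinearMap.GeneralLinearGroup k M)) ⊆ Cfsg.quadraticUnipotentCore G ⁅E, F⁆ := by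
  have hk2' := CfsgLib.QP.two_ne_zero_of_ringChar hk2
  have hopp := CfsgLib.QP.hasOpposites hk2' hk3 hG.1
  obtain ⟨σ, hσ, rfl⟩ := hE
  obtain ⟨τ, hτ, rfl⟩ := hF
  have h1 := CfsgLib.QP.mem_minimal_iff.1 hσ
  have h1' := CfsgLib.QP.mem_minimal_iff.1 hτ
  have hp := CfsgLib.QP.uniPair_of h1 h1' hk2' hk3 (CfsgLib.QP.not_opposite_of_class_two h1 h1' hk2' hk3 h2.2)
  by_cases h0 : CfsgLib.QP.br ((σ : Module.End k M) - 1) ((τ : Module.End k M) - 1) = 0
  · have hb := CfsgLib.QP.commutator_eq_bot h1 h1' hk2' hk3 hopp hp h0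
    refine absurd (eq_bot_iff.2 (CfsgLib.QP.commutator_sup_le_of_central ?_ ?_ ?_ ?_)) h2.1
    · intro a ha a' ha'
      have := congrArg Subtype.val ((CfsgLib.QP.isMulCommutative_sameAction h1).is_comm.comm ⟨a, ha⟩ ⟨a', ha'⟩)
      simp only [Subgroup.coe_mul] at this
      simp [this]
    · intro a ha a' ha'
      have := congrArg Subtype.val ((CfsgLib.QP.isMulCommutative_sameAction h1').is_comm.comm ⟨a, ha⟩ ⟨a', ha'⟩)
      simp only [Subgroup.coe_mul] at this
      simp [this]
    · intro a ha b hb'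
      rw [← commutatorElement_def, ← hb]
      exact Subgroup.commutator_mem_commutator ha hb'
    · intro c hc x _
      rw [Subgroup.mem_bot.1 hc, one_mul, mul_one]
  · obtain ⟨r1, r2, r3, -, -, r4⟩ := CfsgLib.QP.unipotent_pair_commutator h1 h1' hk2' hk3 hopp hp h0
    exact ⟨r1, r2, r3, r4⟩

end Cfsg.Agent.S5066
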