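import Cfsg.Statements.S5067
-- import your own Cfsg.Agent.* helpers here

set_option autoImplicit false
open Cfsg commutatorElement

namespace Cfsg.Agent.S5067

/-- Let P be a non-abelian nilpotent p-group (every element of p-power order; P possibly infinite) generated by two abelian subgroups E and F. Then the normal closure of E in P, and likewise that of F, has nilpotency class strictly smaller than that of P. -/
theorem result {P : Type*} [Group P] {p : ℕ} [Fact p.Prime] (hP : IsPGroup p P) [Group.IsNilpotent P]
    (hna : ¬ IsMulCommutative P) {E F : Subgroup P} (hE : IsMulCommutative ↥E) (hF : IsMulCommutative ↥F) (hgen : E ⊔ F = ⊤) :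
    Group.nilpotencyClass ↥(Subgroup.normalClosure (E : Set P)) < Group.nilpotencyClass P ∧
    Group.nilpotencyClass ↥(Subgroup.normalClosure (F : Set P)) < Group.nilpotencyClass P := by
  suffices key : ∀ E : Subgroup P, IsMulCommutative ↥E →
      Group.nilpotencyClass ↥(Subgroup.normalClosure (E : Set P)) < Group.nilpotencyClass P from
    ⟨key E hE, key F hF⟩
  intro E hE
  set c := Group.nilpotencyClass P with hc
  have hL := Subgroup.lowerCentralSeries_nilpotencyClass (G := P)
  rw [← hc] at hL
  have hcomm : _root_.commutator P ≠ ⊥ := fun h => hna ⟨⟨fun a b => by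
    have : ⁅a, b⁆ ∈ _root_.commutator P :=
      Subgroup.commutator_mem_commutator (Subgroup.mem_top a) (Subgroup.mem_top b)
    rw [h, Subgroup.mem_bot] at this
    exact commutatorElement_eq_one_iff_commute.1 this⟩⟩
  have hc2 : 2 ≤ c := by
    by_contra hlt
    apply hcomm
    rw [← Subgroup.top_lowerCentralSeries_one, eq_bot_iff, ← hL]
    exact Subgroup.lowerCentralSeries_antitone _ (by omega)
  let C : ℕ → Subgroup P := fun n => (⊤ : Subgroup P).lowerCentralSeries n
  set H : Subgroup P := E ⊔ _root_.commutator P with hH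
  have hnc : Subgroup.normalClosure (E : Set P) ≤ H := by
    have : H.Normal := ⟨fun x hx g => by
      have h : ⁅g, x⁆ ∈ H := Subgroup.mem_sup_right
        (Subgroup.commutator_mem_commutator (Subgroup.mem_top g) (Subgroup.mem_top x))
      have h' := mul_mem h hx
      rwa [commutatorElement_def, inv_mul_cancel_right] at h'⟩
    exact Subgroup.normalClosure_le_normal (fun x hx => Subgroup.mem_sup_left hx)
  have hHH : ⁅H, H⁆ ≤ C 2 := by
    have : (C 2).Normal := inferInstanceAs ((⊤ : Subgroup P).lowerCentralSeries 2).Normal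
    have hC : ∀ y ∈ _root_.commutator P, ∀ x : P, ⁅y, x⁆ ∈ C 2 := fun y hy x => by
      show ⁅y, x⁆ ∈ (⊤ : Subgroup P).lowerCentralSeries 2
      rw [Subgroup.lowerCentralSeries_succ, Subgroup.top_lowerCentralSeries_one]
      exact Subgroup.commutator_mem_commutator hy (Subgroup.mem_top x)
    let q := QuotientGroup.mk' (C 2)
    have hq : ∀ {u : P}, u ∈ C 2 → q u = 1 := fun hu => (QuotientGroup.eq_one_iff _).2 hu
    have hcen : (_root_.commutator P).map q ≤ Subgroup.center (P ⧸ C 2) := by
      rintro _ ⟨y, hy, rfl⟩
      rw [Subgroup.mem_center_iff]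
      intro g
      obtain ⟨x, rfl⟩ := QuotientGroup.mk'_surjective (C 2) g
      have h := hq (hC y hy x)
      rw [map_commutatorElement, commutatorElement_eq_one_iff_commute] at h
      exact h.symm
    have hab : H.map q ≤ Subgroup.centralizer (H.map q : Set (P ⧸ C 2)) := by
      rw [Subgroup.le_centralizer_iff]
      conv_lhs => rw [hH, Subgroup.map_sup]
      refine sup_le ?_ (hcen.trans (Subgroup.center_le_centralizer _))
      rw [Subgroup.le_centralizer_iff, hH, Subgroup.map_sup]
      refine sup_le ?_ (hcen.trans (Subgroup.center_le_centralizer _))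
      rintro _ ⟨a, ha, rfl⟩
      rw [Subgroup.mem_centralizer_iff]
      rintro _ ⟨b, hb, rfl⟩
      rw [← map_mul, ← map_mul]
      exact congrArg q (congrArg Subtype.val (hE.is_comm.comm (⟨b, hb⟩ : E) ⟨a, ha⟩))
    rw [Subgroup.commutator_le]
    intro a ha b hb
    apply (QuotientGroup.eq_one_iff _).1
    show q ⁅a, b⁆ = 1
    rw [map_commutatorElement, commutatorElement_eq_one_iff_commute]
    exact (Subgroup.mem_centralizer_iff.1 (hab ⟨a, ha, rfl⟩) (q b) ⟨b, hb, rfl⟩).symm
  have hstep : ∀ i, H.lowerCentralSeries (i + 1) ≤ C (i + 2) := by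
    intro i
    induction i with
    | zero => exact hHH
    | succ i ih =>
      rw [Subgroup.lowerCentralSeries_succ]
      show _ ≤ (⊤ : Subgroup P).lowerCentralSeries (i + 2 + 1)
      rw [Subgroup.lowerCentralSeries_succ]
      exact Subgroup.commutator_mono ih le_top
  have hmono : ∀ (N : Subgroup P), N ≤ H → ∀ n, N.lowerCentralSeries n ≤ H.lowerCentralSeries n := by
    intro N hN n
    induction n with
    | zero => exact hN
    | succ n ih => exact Subgroup.commutator_mono ih hN
  set N := Subgroup.normalClosure (E : Set P)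
  have hbot : (⊤ : Subgroup ↥N).lowerCentralSeries (c - 1) = ⊥ := by
    apply Subgroup.map_injective N.subtype_injective
    rw [Subgroup.top_subtype_lowerCentralSeries, Subgroup.map_bot, eq_bot_iff, ← hL]
    refine (hmono N hnc _).trans ?_
    obtain ⟨d, hd⟩ : ∃ d, c = d + 2 := ⟨c - 2, by omega⟩
    rw [hd, show d + 2 - 1 = d + 1 by omega]
    exact hstep d
  have := Subgroup.lowerCentralSeries_eq_bot_iff_nilpotencyClass_le.1 hbot
  omega

end Cfsg.Agent.S5067
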