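import Cfsg.Statements.S5069
import Cfsg.Agent.QuadPairs.Decompose
-- import your own Cfsg.Agent.* helpers here

set_option autoImplicit false
universe u
open Cfsg

namespace Cfsg.Agent.S5069

/-- Let k be a field of characteristic not 2 with k not of order 3, M a finite-dimensional k-vector space and G ≤ GL(M) such that (G, M) is a quadratic pair (M irreducible for G, and G generated by its quadratically acting elements σ whose scalar family 1 + c(σ − 1), c ∈ k, lies in G). Write 𝒬_d for the quadratic elements of G of minimal commutator rank, E(σ) for the subgroup generated by the members of 𝒬_d with the same fixed space and commutator space as σ, and Σ for the set of these subgroups. Then Σ is a disjoint union of finitely many parts Σ₁, …, Σ_r such that the subgroups G_i generated by the Σ_i commute pairwise, each G_i is quasisimple, and inside G_i the members of Σ_i form a class of abstract root subgroups in which every rank one pair A, B contains subgroups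 A₀ ≤ A, B₀ ≤ B generating an image of SL₂(k₁) with central kernel on unitriangular subgroups for some field k₁ with at least four elements. -/
theorem result {k : Type u} [Field k] (hk2 : ringChar k ≠ 2) (hk3 : Nat.card k ≠ 3)
    {M : Type u} [AddCommGroup M] [Module k M] [FiniteDimensional k M]
    {G : Subgroup (LinearMap.GeneralLinearGroup k M)} (hG : Cfsg.IsQuadraticPair G) :
    ∃ (r : ℕ) (part : Fin r → Set (Subgroup (LinearMap.GeneralLinearGroup k M))),
      (⋃ i, part i) = Cfsg.quadraticRootSubgroups G ∧ (∀ i j, i ≠ j → Disjoint (part i) (part j)) ∧ (∀ i, (part i).Nonempty) ∧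
      (∀ i j, i ≠ j → ⁅(⨆ A ∈ part i, A), (⨆ A ∈ part j, A)⁆ = ⊥) ∧
      (∀ i, Cfsg.IsQuasisimple ↥(⨆ A ∈ part i, A) ∧
        Cfsg.IsRootSubgroupClass ((fun A : Subgroup (LinearMap.GeneralLinearGroup k M) => A.subgroupOf (⨆ B ∈ part i, B)) '' (part i)) ∧
        ∀ A ∈ part i, ∀ B ∈ Cfsg.rankOnePartners (part i) A, ∃ A₀ B₀ : Subgroup (LinearMap.GeneralLinearGroup k M), A₀ ≤ A ∧ B₀ ≤ B ∧
          ∃ (k₁ : Type u) (_ : Field k₁), 3 < ENat.card k₁ ∧ Cfsg.IsPSL2PairOver k₁ A₀ B₀) := by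
  have h2 := CfsgLib.QP.two_ne_zero_of_ringChar hk2
  have hH := CfsgLib.QP.radFree_of_irreducible hG.1
  have hopp := hH.hasOpposites h2 hk3
  obtain ⟨r, R, hR, hRne, hRall⟩ := CfsgLib.QP.exists_components hopp h2 hk3
  refine ⟨r, fun i => CfsgLib.QP.part G (R i), ?_, ?_, ?_, ?_, fun i => ⟨?_, ?_, ?_⟩⟩
  · refine Set.Subset.antisymm (Set.iUnion_subset fun i => CfsgLib.QP.part_subset) ?_
    rintro A ⟨σ, hσ, rfl⟩
    obtain ⟨i, hi⟩ := hRall _ (CfsgLib.QP.mem_minimal_iff.1 hσ)
    exact Set.mem_iUnion.2 ⟨i, σ, CfsgLib.QP.mem_minimal_iff.1 hσ, hi, rfl⟩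
  · intro i j hij
    rw [Set.disjoint_left]
    rintro A ⟨σ, hσ, hcσ, rfl⟩ ⟨τ, hτ, hcτ, he⟩
    have hmem : τ ∈ Cfsg.sameActionSubgroup G σ :=
      he ▸ (CfsgLib.QP.mem_sameActionSubgroup hτ).2 (CfsgLib.QP.mem_rootSpace_self hτ.toIsRoot)
    exact hRne i j hij ((hcσ.trans (CfsgLib.QP.conn_of_mem_rootSpace hσ hopp h2 hk3
      ((CfsgLib.QP.mem_sameActionSubgroup hσ).1 hmem) hτ.ne)).trans (hcτ.symm h2 hk3))
  · intro i
    obtain ⟨σ, -, hσ⟩ := (hR i).toIsRoot.exists_elem
    exact ⟨_, σ, hσ.symm ▸ hR i, hσ.symm ▸ Relation.ReflTransGen.refl, rfl⟩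
  · intro i j hij
    exact CfsgLib.QP.commutator_comp_eq_bot hopp h2 hk3 (hRne i j hij)
  · exact CfsgLib.QP.isQuasisimple_comp (hR i) hH
      ((CfsgLib.QP.top_isLevel hG).conjBy_comp_eq hH (hR i) h2 hk3) h2 hk3
  · exact CfsgLib.QP.part_class (hR i) hopp h2 hk3
  · rintro A ⟨σ, hσ, -, rfl⟩ B ⟨⟨τ, hτ, -, rfl⟩, hAB⟩
    rcases CfsgLib.QP.sigma_pair h2 hk3 hopp hσ hτ with ⟨-, -, h⟩ | ⟨h, -⟩
    · exact absurd hAB h
    · exact CfsgLib.QP.exists_psl2 hσ hτ h2 hk3 h

end Cfsg.Agent.S5069
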