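import Cfsg.Statements.S5070
import Cfsg.Agent.RootSubgroups.LinearRootsRank
import Cfsg.Agent.Classical.SymplecticBasic

set_option autoImplicit false
open Matrix
open Cfsg

namespace Cfsg.Agent.S5070

open CfsgLib.RootInv.Tv (rk)
open CfsgLib.LinRoot CfsgLib.Symp

variable {F : Type*} [Field F] {l : Type*} [Fintype l] [DecidableEq l]

/-- The coercion to matrices. -/
def toMat : ↥(Matrix.symplecticGroup l F) →* Matrix (l ⊕ l) (l ⊕ l) F := (Matrix.symplecticGroup l F).subtype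

theorem toMat_inj : Function.Injective (toMat (F := F) (l := l)) := Subtype.val_injective

/-- The root attached to `p`. -/
def X (p : l ⊕ l → F) : Matrix (l ⊕ l) (l ⊕ l) F := rk p (Matrix.J l F *ᵥ p)

theorem dot_J (p w : l ⊕ l → F) : (Matrix.J l F *ᵥ p) ⬝ᵥ w = form w p := dotProduct_comm _ _

/-- The roots. -/
def roots : Set (Matrix (l ⊕ l) (l ⊕ l) F) := {Y | ∃ p : l ⊕ l → F, p ≠ 0 ∧ Y = X p}

theorem J_ne {p : l ⊕ l → F} (hp : p ≠ 0) : Matrix.J l F *ᵥ p ≠ 0 := fun e =>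
  hp (eq_zero_of_form_eq_zero fun u => by rw [form, e, dotProduct_zero])

theorem toMat_tv (p : l ⊕ l → F) (c : F) : toMat (tv p c) = 1 + c • X p := rfl

theorem isRoot {Y : Matrix (l ⊕ l) (l ⊕ l) F} (hY : Y ∈ roots) : IsRoot (k := F) toMat Y := by
  obtain ⟨p, hp, rfl⟩ := hY
  exact ⟨by rw [X, rk_mul_rk, dot_J, form_self, zero_smul],
    CfsgLib.RootInv.Tv.rk_ne_zero hp (J_ne hp), fun c => ⟨tv p c, toMat_tv p c⟩⟩

theorem triple (p r : l ⊕ l → F) : X p * X r * X p = (form r p * form p r) • X p := by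
  rw [X, X, rk_triple, dot_J, dot_J]

theorem pair {Y Z : Matrix (l ⊕ l) (l ⊕ l) F} (hY : Y ∈ roots) (hZ : Z ∈ roots) :
    Y * Z = Z * Y ∨ ∃ a : F, a ≠ 0 ∧ Y * Z * Y = a • Y ∧ Z * Y * Z = a • Z := by
  obtain ⟨p, -, rfl⟩ := hY
  obtain ⟨r, -, rfl⟩ := hZ
  by_cases h : form r p = 0
  · left
    rw [X, X, rk_mul_rk, rk_mul_rk, dot_J, dot_J, form_swap p r, h, neg_zero, zero_smul, zero_smul]
  · exact Or.inr ⟨_, mul_ne_zero h (by rw [form_swap p r, neg_ne_zero]; exact h), triple p r,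
      by rw [triple, mul_comm]⟩

theorem set_eq (m : ℕ) : {A : Subgroup ↥(Matrix.symplecticGroup (Fin (m + 1)) F) |
    ∃ p : Fin (m + 1) ⊕ Fin (m + 1) → F, p ≠ 0 ∧
      A = Subgroup.closure {g : ↥(Matrix.symplecticGroup (Fin (m + 1)) F) | ∃ c : F, ∀ v : Fin (m + 1) ⊕ Fin (m + 1) → F,
        (g : Matrix (Fin (m + 1) ⊕ Fin (m + 1)) (Fin (m + 1) ⊕ Fin (m + 1)) F) *ᵥ v =
          v + (c * (v ⬝ᵥ (Matrix.J (Fin (m + 1)) F *ᵥ p))) • p}} = T (k := F) toMat '' roots := by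
  have key : ∀ p : Fin (m + 1) ⊕ Fin (m + 1) → F,
      Subgroup.closure {g : ↥(Matrix.symplecticGroup (Fin (m + 1)) F) | ∃ c : F, ∀ v : Fin (m + 1) ⊕ Fin (m + 1) → F,
        (g : Matrix (Fin (m + 1) ⊕ Fin (m + 1)) (Fin (m + 1) ⊕ Fin (m + 1)) F) *ᵥ v =
          v + (c * (v ⬝ᵥ (Matrix.J (Fin (m + 1)) F *ᵥ p))) • p} = T (k := F) toMat (X p) := by
    intro p
    unfold CfsgLib.LinRoot.T
    congr 1
    ext g
    refine exists_congr fun c => ?_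
    constructor
    · intro h
      exact Matrix.ext_iff_mulVec.2 fun v => (h v).trans (tvMat_mulVec p c v).symm
    · intro h v
      show toMat g *ᵥ v = _
      rw [h]
      exact tvMat_mulVec p c v
  ext A
  constructor
  · rintro ⟨p, hp, rfl⟩; rw [key]; exact ⟨_, ⟨p, hp, rfl⟩, rfl⟩
  · rintro ⟨_, ⟨p, hp, rfl⟩, rfl⟩; exact ⟨p, hp, (key p).symm⟩

theorem conj_mem {p : l ⊕ l → F} (hp : p ≠ 0) (g : ↥(Matrix.symplecticGroup l F)) :
    Cfsg.conjBy (T (k := F) toMat (X p)) g ∈ T (k := F) toMat '' roots := by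
  rw [conjBy_T toMat_inj (isRoot ⟨p, hp, rfl⟩).sq]
  have hgp : g • p ≠ 0 := fun e => hp (by
    rw [← inv_smul_smul g p, e]; exact Matrix.mulVec_zero _)
  refine ⟨_, ⟨g • p, hgp, rfl⟩, ?_⟩
  congr 1
  have e : toMat g * toMat g⁻¹ = (1 : Matrix (l ⊕ l) (l ⊕ l) F) := by rw [← map_mul, mul_inv_cancel, map_one]
  have h : toMat g * (1 + (1 : F) • X p) * toMat g⁻¹ = 1 + (1 : F) • X (g • p) := by
    rw [← toMat_tv, ← map_mul, ← map_mul, tv_conj, toMat_tv]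
  rw [one_smul, one_smul, mul_add, mul_one, add_mul, e, add_right_inj] at h
  exact h.symm

theorem gen : (⨆ A ∈ T (k := F) toMat '' (roots : Set (Matrix (l ⊕ l) (l ⊕ l) F)), A) = ⊤ := by
  rw [eq_top_iff, ← tvGroup_eq_top, tvGroup, Subgroup.closure_le]
  rintro _ ⟨w, -, c, rfl⟩
  rcases eq_or_ne w 0 with rfl | hw
  · have : tv (0 : l ⊕ l → F) c = 1 := by
      have h2 := tv_smul_vec (0 : l ⊕ l → F) (0 : F) c
      rwa [smul_zero, zero_pow two_ne_zero, zero_mul, tv_zero] at h2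
    rw [this]; exact one_mem _
  · have h5 := @T_le_iSup F _ (Matrix (l ⊕ l) (l ⊕ l) F) _ _ ↥(Matrix.symplecticGroup l F) _ toMat roots (X w) ⟨w, hw, rfl⟩
    exact h5 (Subgroup.subset_closure ⟨c, toMat_tv w c⟩)

theorem path {Y Z : Matrix (l ⊕ l) (l ⊕ l) F} (hY : Y ∈ roots) (hZ : Z ∈ roots) : Relation.ReflTransGen
    (fun Y Z => Y ∈ roots ∧ Z ∈ roots ∧ ∃ a : F, a ≠ 0 ∧ Y * Z * Y = a • Y ∧ Z * Y * Z = a • Z) Y Z := by
  obtain ⟨p, hp, rfl⟩ := hY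
  obtain ⟨r, hr, rfl⟩ := hZ
  obtain ⟨u, hu1, hu2⟩ := exists_dot_both_ne _ _ (J_ne hp) (J_ne hr)
  rw [dot_J] at hu1 hu2
  have hu : u ≠ 0 := fun e => hu1 (by rw [e, form_zero_left])
  have step : ∀ {a b : l ⊕ l → F}, a ≠ 0 → b ≠ 0 → form a b ≠ 0 → X a ∈ roots ∧ X b ∈ roots ∧
      ∃ c : F, c ≠ 0 ∧ X a * X b * X a = c • X a ∧ X b * X a * X b = c • X b := fun {a b} ha hb h =>
    ⟨⟨a, ha, rfl⟩, ⟨b, hb, rfl⟩, _, mul_ne_zero (by rw [form_swap b a, neg_ne_zero]; exact h) h,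
      triple a b, by rw [triple, mul_comm]⟩
  exact .head (step hp hu (by rw [form_swap p u, neg_ne_zero]; exact hu1)) (.single (step hu hr hu2))

/-- Let F be a field, m a natural number and V = F^{2(m+1)} with the standard non-degenerate alternating form f(u, v) = uᵀ J v. For a non-zero vector p let T(p) be the group of symplectic transvections v ↦ v + c f(v, p) p, c ∈ F. Then the subgroups T(p), p ≠ 0, generate the symplectic group Sp_{2(m+1)}(F) and form a degenerate class of abstract F-root subgroups of it (any two of them either commute elementwise or are the unipotent subgroups of a rank one group that is an image of SL₂(F) with central kernel, never the commutator case), and their graph of rank one pairs is connected. -/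
theorem result (F : Type*) [Field F] (m : ℕ) :
    Cfsg.IsRootSubgroupClass {A : Subgroup ↥(Matrix.symplecticGroup (Fin (m + 1)) F) | ∃ p : Fin (m + 1) ⊕ Fin (m + 1) → F, p ≠ 0 ∧
        A = Subgroup.closure {g : ↥(Matrix.symplecticGroup (Fin (m + 1)) F) | ∃ c : F, ∀ v : Fin (m + 1) ⊕ Fin (m + 1) → F,
          (g : Matrix (Fin (m + 1) ⊕ Fin (m + 1)) (Fin (m + 1) ⊕ Fin (m + 1)) F) *ᵥ v =
            v + (c * (v ⬝ᵥ (Matrix.J (Fin (m + 1)) F *ᵥ p))) • p}} ∧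
    Cfsg.IsDegenerateRootSet {A : Subgroup ↥(Matrix.symplecticGroup (Fin (m + 1)) F) | ∃ p : Fin (m + 1) ⊕ Fin (m + 1) → F, p ≠ 0 ∧
        A = Subgroup.closure {g : ↥(Matrix.symplecticGroup (Fin (m + 1)) F) | ∃ c : F, ∀ v : Fin (m + 1) ⊕ Fin (m + 1) → F,
          (g : Matrix (Fin (m + 1) ⊕ Fin (m + 1)) (Fin (m + 1) ⊕ Fin (m + 1)) F) *ᵥ v =
            v + (c * (v ⬝ᵥ (Matrix.J (Fin (m + 1)) F *ᵥ p))) • p}} ∧
    Cfsg.IsKRootSubgroupSet F {A : Subgroup ↥(Matrix.symplecticGroup (Fin (m + 1)) F) | ∃ p : Fin (m + 1) ⊕ Fin (m + 1) → F, p ≠ 0 ∧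
        A = Subgroup.closure {g : ↥(Matrix.symplecticGroup (Fin (m + 1)) F) | ∃ c : F, ∀ v : Fin (m + 1) ⊕ Fin (m + 1) → F,
          (g : Matrix (Fin (m + 1) ⊕ Fin (m + 1)) (Fin (m + 1) ⊕ Fin (m + 1)) F) *ᵥ v =
            v + (c * (v ⬝ᵥ (Matrix.J (Fin (m + 1)) F *ᵥ p))) • p}} ∧
    Cfsg.IsConnectedFamily (Cfsg.FAdj {A : Subgroup ↥(Matrix.symplecticGroup (Fin (m + 1)) F) | ∃ p : Fin (m + 1) ⊕ Fin (m + 1) → F, p ≠ 0 ∧
        A = Subgroup.closure {g : ↥(Matrix.symplecticGroup (Fin (m + 1)) F) | ∃ c : F, ∀ v : Fin (m + 1) ⊕ Fin (m + 1) → F,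
          (g : Matrix (Fin (m + 1) ⊕ Fin (m + 1)) (Fin (m + 1) ⊕ Fin (m + 1)) F) *ᵥ v =
            v + (c * (v ⬝ᵥ (Matrix.J (Fin (m + 1)) F *ᵥ p))) • p}})
      {A : Subgroup ↥(Matrix.symplecticGroup (Fin (m + 1)) F) | ∃ p : Fin (m + 1) ⊕ Fin (m + 1) → F, p ≠ 0 ∧
        A = Subgroup.closure {g : ↥(Matrix.symplecticGroup (Fin (m + 1)) F) | ∃ c : F, ∀ v : Fin (m + 1) ⊕ Fin (m + 1) → F,
          (g : Matrix (Fin (m + 1) ⊕ Fin (m + 1)) (Fin (m + 1) ⊕ Fin (m + 1)) F) *ᵥ v =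
            v + (c * (v ⬝ᵥ (Matrix.J (Fin (m + 1)) F *ᵥ p))) • p}} := by
  rw [set_eq]
  have hr := fun (Y : Matrix (Fin (m + 1) ⊕ Fin (m + 1)) (Fin (m + 1) ⊕ Fin (m + 1)) F) (h : Y ∈ roots) => isRoot h
  have hc := connected toMat_inj hr rfl (fun Y hY Z hZ => path hY hZ)
  have hK : Cfsg.IsKRootSubgroupSet F (CfsgLib.LinRoot.T (k := F) toMat ''
      (roots : Set (Matrix (Fin (m + 1) ⊕ Fin (m + 1)) (Fin (m + 1) ⊕ Fin (m + 1)) F))) := by
    refine kRootSet toMat_inj hr rfl ?_ gen ?_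
    · rintro _ ⟨p, hp, rfl⟩ g
      exact conj_mem hp g
    · intro Y hY Z hZ
      rcases pair hY hZ with h | ⟨a, ha, h1, h2⟩
      · exact .comm h
      · exact .rankOne a ha h1 h2
  have hp : (Pi.single (Sum.inl 0) 1 : Fin (m + 1) ⊕ Fin (m + 1) → F) ≠ 0 := by simp
  exact ⟨⟨hK.1, conjClass_of_connected ⟨_, Set.mem_image_of_mem _ ⟨_, hp, rfl⟩⟩ hc⟩,
    degenerate toMat_inj hr rfl (fun Y hY Z hZ => pair hY hZ), hK, hc⟩

end Cfsg.Agent.S5070
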