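import Cfsg.Statements.S5071
import Cfsg.Agent.RootSubgroups.LinearRootsRank
import Cfsg.Agent.Unitary.Simple
import Cfsg.Agent.Unitary.Two

set_option autoImplicit false
open Matrix
open Cfsg

namespace Cfsg.Agent.S5071

open CfsgLib.RootInv.Tv (rk)
open CfsgLib.LinRoot CfsgLib.Unitary CfsgLib.Forms

variable {F : Type*} [Field F] {q n : ℕ}

/-- The coercion to matrices. -/
def toMat : ↥(Cfsg.SU n F q) →* Matrix (Fin n) (Fin n) F where
  toFun g := suMat g
  map_one' := rfl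
  map_mul' _ _ := rfl

theorem toMat_inj : Function.Injective (toMat (F := F) (q := q) (n := n)) :=
  fun _ _ h => Subtype.ext (Subtype.ext h)

/-- The root attached to `p`. -/
def X (q : ℕ) (δ : F) (p : Fin n → F) : Matrix (Fin n) (Fin n) F := δ • rk p (fun j => p j ^ q)

theorem dot_frob (p w : Fin n → F) : (fun j => p j ^ q) ⬝ᵥ w = Cfsg.hermForm n F q w p :=
  dotProduct_comm _ _

/-- The roots. -/
def roots (q : ℕ) (δ : F) : Set (Matrix (Fin n) (Fin n) F) :=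
  {Y | ∃ p : Fin n → F, p ≠ 0 ∧ Cfsg.hermForm n F q p p = 0 ∧ Y = X q δ p}

/-- The transvection group with centre `p`. -/
def TG (q : ℕ) (p : Fin n → F) : Subgroup ↥(Cfsg.SU n F q) :=
  Subgroup.closure {g : ↥(Cfsg.SU n F q) |
    (∀ v : Fin n → F, ∃ c : F, ((g : Matrix.SpecialLinearGroup (Fin n) F) : Matrix (Fin n) (Fin n) F) *ᵥ v = v + c • p) ∧
    ∀ v : Fin n → F, Cfsg.hermForm n F q v p = 0 →
      ((g : Matrix.SpecialLinearGroup (Fin n) F) : Matrix (Fin n) (Fin n) F) *ᵥ v = v}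

/-- A field of `q` elements inside `F`, and a skew element. -/
structure Sub (L : Type) [Field L] [Algebra L F] (q : ℕ) (δ : F) : Prop where
  fixed : ∀ a : L, algebraMap L F a ^ q = algebraMap L F a
  surj : ∀ c : F, c ^ q = c → ∃ a : L, algebraMap L F a = c
  ne : δ ≠ 0
  skew : δ + δ ^ q = 0

variable {L : Type} [Field L] [Algebra L F] {δ : F}

theorem smul_X (a : L) (p : Fin n → F) :
    a • X q δ p = (algebraMap L F a * δ) • rk p (fun j => p j ^ q) := by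
  rw [X, ← algebraMap_smul F a, smul_smul]

theorem utv_eq (a : L) (p : Fin n → F) :
    Cfsg.unitaryTransvection n q p (algebraMap L F a * δ) = 1 + a • X q δ p := by
  rw [smul_X]; rfl

variable [Finite F] (hF : Nat.card F = q ^ 2) (hs : Sub L q δ)

theorem frob_ne {p : Fin n → F} (hp : p ≠ 0) : (fun j => p j ^ q) ≠ 0 := fun e =>
  hp (funext fun j => eq_zero_of_pow_eq_zero (congrFun e j))

include hF hs in
theorem isRoot {Y : Matrix (Fin n) (Fin n) F} (hY : Y ∈ roots q δ) : IsRoot (k := L) (toMat (q := q)) Y := by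
  obtain ⟨p, hp, hpp, rfl⟩ := hY
  refine ⟨?_, ?_, fun a => ?_⟩
  · rw [X, smul_mul_assoc, mul_smul_comm, rk_mul_rk, dot_frob, hpp, zero_smul, smul_zero, smul_zero]
  · rw [X, smul_ne_zero_iff]
    exact ⟨hs.ne, CfsgLib.RootInv.Tv.rk_ne_zero hp (frob_ne hp)⟩
  · have hc : algebraMap L F a * δ + (algebraMap L F a * δ) ^ q = 0 := by
      rw [mul_pow, hs.fixed, ← mul_add, hs.skew, mul_zero]
    exact ⟨suTv n p _ hpp hc hF, utv_eq a p⟩

include hF hs in
theorem TG_eq {p : Fin n → F} (hp : p ≠ 0) (hpp : Cfsg.hermForm n F q p p = 0) :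
    TG q p = T (k := L) (toMat (q := q)) (X q δ p) := by
  unfold TG CfsgLib.LinRoot.T
  congr 1
  ext g
  constructor
  · rintro ⟨hmove, hfix⟩
    obtain ⟨u, hu⟩ : ∃ u, Cfsg.hermForm n F q u p = 1 := by
      obtain ⟨u, hu⟩ : ∃ u, Cfsg.hermForm n F q u p ≠ 0 := by
        by_contra hc; push Not at hc; exact hp (uForm_nondeg hF n p hc)
      exact ⟨(Cfsg.hermForm n F q u p)⁻¹ • u, by rw [herm_smul_left, inv_mul_cancel₀ hu]⟩
    obtain ⟨c, hc⟩ := hmove u
    have hg : toMat g = Cfsg.unitaryTransvection n q p c := by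
      refine Matrix.ext_iff_mulVec.2 fun v => ?_
      rw [utv_mulVec]
      set a := Cfsg.hermForm n F q v p
      have h0 : Cfsg.hermForm n F q (v + (-a) • u) p = 0 := by
        rw [herm_add_left, herm_smul_left, hu]; ring
      have h1 : toMat g *ᵥ (v + (-a) • u) = v + (-a) • u := hfix _ h0
      have h2 : toMat g *ᵥ u = u + c • p := hc
      rw [Matrix.mulVec_add, Matrix.mulVec_smul, h2] at h1
      calc toMat g *ᵥ v = toMat g *ᵥ v + (-a) • (u + c • p) - (-a) • (u + c • p) := by abel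
        _ = v + (c * a) • p := by rw [h1]; module
    have hskew : c + c ^ q = 0 := (utv_preserves_iff hF hp hpp c).1 fun x y => by
      rw [← hg]; exact g.2 x y
    obtain ⟨a, ha⟩ := hs.surj (c * δ⁻¹) (by
      rw [mul_pow, inv_pow, eq_neg_of_add_eq_zero_right hskew, eq_neg_of_add_eq_zero_right hs.skew,
        inv_neg, neg_mul_neg])
    refine ⟨a, ?_⟩
    rw [← utv_eq, ha, inv_mul_cancel_right₀ hs.ne]
    exact hg
  · rintro ⟨a, ha⟩
    rw [← utv_eq] at ha
    refine ⟨fun v => ⟨algebraMap L F a * δ * Cfsg.hermForm n F q v p, ?_⟩, fun v hv => ?_⟩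
    · show toMat g *ᵥ v = _
      rw [ha, utv_mulVec]
    · show toMat g *ᵥ v = v
      rw [ha, utv_mulVec, hv, mul_zero, zero_smul, add_zero]

include hF hs in
theorem adj {p r : Fin n → F} (h : Cfsg.hermForm n F q r p ≠ 0) :
    ∃ l : L, l ≠ 0 ∧ X q δ p * X q δ r * X q δ p = l • X q δ p ∧ X q δ r * X q δ p * X q δ r = l • X q δ r := by
  set a := Cfsg.hermForm n F q r p
  have hb : Cfsg.hermForm n F q p r = a ^ q := herm_swap hF r p
  obtain ⟨l, hl⟩ := hs.surj (δ * δ * (a * a ^ q)) (by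
    rw [mul_pow, mul_pow, mul_pow, pow_q_q hF, eq_neg_of_add_eq_zero_right hs.skew]; ring)
  have tri : ∀ (x y : Fin n → F), Cfsg.hermForm n F q y x * Cfsg.hermForm n F q x y = a * a ^ q →
      X q δ x * X q δ y * X q δ x = l • X q δ x := by
    intro x y e
    rw [smul_X, hl]
    simp only [X, smul_mul_assoc, mul_smul_comm, rk_triple, dot_frob, smul_smul, e]
    congr 1; ring
  refine ⟨l, fun e => ?_, tri p r (by rw [hb]), tri r p (by rw [hb, mul_comm])⟩
  rw [e, map_zero] at hl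
  exact mul_ne_zero (mul_ne_zero hs.ne hs.ne) (mul_ne_zero h (pow_ne_zero _ h)) hl.symm

include hF hs in
theorem pair {Y Z : Matrix (Fin n) (Fin n) F} (hY : Y ∈ roots q δ) (hZ : Z ∈ roots q δ) :
    Y * Z = Z * Y ∨ ∃ a : L, a ≠ 0 ∧ Y * Z * Y = a • Y ∧ Z * Y * Z = a • Z := by
  obtain ⟨p, -, -, rfl⟩ := hY
  obtain ⟨r, -, -, rfl⟩ := hZ
  by_cases h : Cfsg.hermForm n F q r p = 0
  · left
    have h' : Cfsg.hermForm n F q p r = 0 := by
      rw [herm_swap hF r p, h]; exact zero_pow (by have := two_le_q hF; omega)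
    simp only [X, smul_mul_assoc, mul_smul_comm, rk_mul_rk, dot_frob, h, h', zero_smul, smul_zero]
  · exact Or.inr (adj hF hs h)

include hF hs in
theorem path {Y Z : Matrix (Fin n) (Fin n) F} (hY : Y ∈ roots q δ) (hZ : Z ∈ roots q δ) : Relation.ReflTransGen
    (fun Y Z => Y ∈ roots q δ ∧ Z ∈ roots q δ ∧ ∃ a : L, a ≠ 0 ∧ Y * Z * Y = a • Y ∧ Z * Y * Z = a • Z) Y Z := by
  obtain ⟨p, hp, hpp, rfl⟩ := hY
  obtain ⟨s, hs0, hss, rfl⟩ := hZ
  by_cases h : Cfsg.hermForm n F q s p = 0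
  · obtain ⟨u, hu1, hu2⟩ := exists_dot_both_ne _ _ (frob_ne (q := q) hp) (frob_ne (q := q) hs0)
    rw [dot_frob] at hu1 hu2
    have hpu : Cfsg.hermForm n F q p u ≠ 0 := by
      rw [herm_swap hF u p]; exact pow_ne_zero _ hu1
    obtain ⟨t, ht⟩ := exists_root hF (herm_self_fixed hF u)
    set x := t / Cfsg.hermForm n F q p u with hx
    have hxt : x * Cfsg.hermForm n F q p u = t := div_mul_cancel₀ _ hpu
    have hps : Cfsg.hermForm n F q p s = 0 := by
      rw [herm_swap hF s p, h]; exact zero_pow (by have := two_le_q hF; omega)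
    set r := u + x • p with hr
    have hrp : Cfsg.hermForm n F q r p = Cfsg.hermForm n F q u p := by
      rw [hr, herm_add_left, herm_smul_left, hpp, mul_zero, add_zero]
    have hrs : Cfsg.hermForm n F q r s = Cfsg.hermForm n F q u s := by
      rw [hr, herm_add_left, herm_smul_left, hps, mul_zero, add_zero]
    have hrr : Cfsg.hermForm n F q r r = 0 := by
      rw [hr]
      simp only [herm_add_left, herm_smul_left, herm_add_right hF, herm_smul_right hF, hpp]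
      rw [herm_swap hF p u, hxt]
      simp only [mul_zero, add_zero]
      rw [← mul_pow, hxt]
      linear_combination ht
    have hr0 : r ≠ 0 := fun e => hu1 (by rw [← hrp, e]; simp [Cfsg.hermForm])
    exact .head ⟨⟨p, hp, hpp, rfl⟩, ⟨r, hr0, hrr, rfl⟩, adj hF hs (by rwa [hrp])⟩
      (.single ⟨⟨r, hr0, hrr, rfl⟩, ⟨s, hs0, hss, rfl⟩, adj hF hs (by
        rw [herm_swap hF r s, hrs]; exact pow_ne_zero _ hu2)⟩)
  · exact .single ⟨⟨p, hp, hpp, rfl⟩, ⟨s, hs0, hss, rfl⟩, adj hF hs h⟩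

theorem exists_sub : ∀ (_ : Nat.card F = q ^ 2), ∃ (L : Type) (_ : Field L) (_ : Fintype L) (_ : Algebra L F) (δ : F),
    Fintype.card L = q ∧ Sub L q δ := by
  intro hF
  obtain ⟨p, k, hcp, hp, hqk⟩ := exists_charP_pow hF
  haveI : Fact p.Prime := ⟨hp⟩
  have hk : k ≠ 0 := fun e => by
    have := two_le_q hF
    rw [hqk, e, pow_zero] at this
    omega
  haveI := Fintype.ofFinite (GaloisField p k)
  have hcard : Nat.card (GaloisField p k) = q := by rw [GaloisField.card p k hk, hqk]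
  obtain ⟨ι, hι⟩ := exists_subfield_hom hF hcard
  obtain ⟨δ, hδ, hδt⟩ := exists_skew hF
  letI := ι.toAlgebra
  refine ⟨GaloisField p k, inferInstance, inferInstance, ι.toAlgebra, δ,
    by rw [← Nat.card_eq_fintype_card, hcard], hι, fun c hc => ?_, hδ, hδt⟩
  have hq := two_le_q hF
  classical
  let f : Polynomial F := Polynomial.X ^ q - Polynomial.X
  have hf : f ≠ 0 := FiniteField.X_pow_card_sub_X_ne_zero F (by omega)
  have hdeg : f.natDegree = q := FiniteField.X_pow_card_sub_X_natDegree_eq F (by omega)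
  have hmem : ∀ y : F, y ^ q = y → y ∈ f.roots.toFinset := fun y hy => by
    rw [Multiset.mem_toFinset, Polynomial.mem_roots hf]
    simp [f, hy, sub_eq_zero]
  have himg : Finset.univ.image ι = f.roots.toFinset := by
    refine Finset.eq_of_subset_of_card_le (fun y hy => ?_) ?_
    · obtain ⟨a, -, rfl⟩ := Finset.mem_image.1 hy
      exact hmem _ (hι a)
    · rw [Finset.card_image_of_injective _ ι.injective, Finset.card_univ, ← Nat.card_eq_fintype_card, hcard]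
      exact (Multiset.toFinset_card_le _).trans ((Polynomial.card_roots' f).trans hdeg.le)
  obtain ⟨a, -, ha⟩ := Finset.mem_image.1 (himg ▸ hmem c hc)
  exact ⟨a, ha⟩

theorem X_conj {m : ℕ} (g : ↥(Cfsg.SU m F q)) (p : Fin m → F) (hpp : Cfsg.hermForm m F q p p = 0)
    (hF : Nat.card F = q ^ 2) (hs : Sub L q δ) :
    toMat g * X q δ p * toMat g⁻¹ = X q δ (suMat g *ᵥ p) := by
  have hc : δ + δ ^ q = 0 := hs.skew
  have e : toMat g * toMat g⁻¹ = (1 : Matrix (Fin m) (Fin m) F) := by rw [← map_mul, mul_inv_cancel, map_one]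
  have h : toMat g * Cfsg.unitaryTransvection m q p δ * toMat g⁻¹ =
      Cfsg.unitaryTransvection m q (suMat g *ᵥ p) δ := utv_conj g (A := suTv m p δ hpp hc hF) rfl
  rw [Cfsg.unitaryTransvection, Cfsg.unitaryTransvection, mul_add, mul_one, add_mul, e, add_right_inj] at h
  exact h

/-- Let F be a finite field with q² elements, n a natural number, and h the Hermitian form Σ uᵢ vᵢ^q on F^{n+2}. For a non-zero isotropic vector p let T(p) be the group of unitary transvections with centre ⟨p⟩: the elements of SU_{n+2}(q) moving every vector by a multiple of p and fixing every vector perpendicular to p. Let Σ be the set of these T(p) and G₀ the subgroup they generate. Then, viewed inside G₀, the members of Σ form a degenerate class of abstract k-root subgroups of G₀ for some field k with q elements (any two commute or are the unipotent subgroups of a rank one group that is an image of SL₂(k) with central kernel, never the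 commutator case), and their graph of rank one pairs is connected. -/
theorem result (F : Type*) [Field F] [Fintype F] (q n : ℕ) (hF : Fintype.card F = q ^ 2) :
    Cfsg.IsRootSubgroupClass ((fun A : Subgroup ↥(Cfsg.SU (n + 2) F q) => A.subgroupOf (⨆ B ∈ {A : Subgroup ↥(Cfsg.SU (n + 2) F q) | ∃ p : Fin (n + 2) → F, p ≠ 0 ∧ Cfsg.hermForm (n + 2) F q p p = 0 ∧
          A = Subgroup.closure {g : ↥(Cfsg.SU (n + 2) F q) |
            (∀ v : Fin (n + 2) → F, ∃ c : F, ((g : Matrix.SpecialLinearGroup (Fin (n + 2)) F) : Matrix (Fin (n + 2)) (Fin (n + 2)) F) *ᵥ v = v + c • p) ∧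
            ∀ v : Fin (n + 2) → F, Cfsg.hermForm (n + 2) F q v p = 0 →
              ((g : Matrix.SpecialLinearGroup (Fin (n + 2)) F) : Matrix (Fin (n + 2)) (Fin (n + 2)) F) *ᵥ v = v}}, B)) ''
      {A : Subgroup ↥(Cfsg.SU (n + 2) F q) | ∃ p : Fin (n + 2) → F, p ≠ 0 ∧ Cfsg.hermForm (n + 2) F q p p = 0 ∧
          A = Subgroup.closure {g : ↥(Cfsg.SU (n + 2) F q) |
            (∀ v : Fin (n + 2) → F, ∃ c : F, ((g : Matrix.SpecialLinearGroup (Fin (n + 2)) F) : Matrix (Fin (n + 2)) (Fin (n + 2)) F) *ᵥ v = v + c • p) ∧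
            ∀ v : Fin (n + 2) → F, Cfsg.hermForm (n + 2) F q v p = 0 →
              ((g : Matrix.SpecialLinearGroup (Fin (n + 2)) F) : Matrix (Fin (n + 2)) (Fin (n + 2)) F) *ᵥ v = v}}) ∧
    Cfsg.IsDegenerateRootSet ((fun A : Subgroup ↥(Cfsg.SU (n + 2) F q) => A.subgroupOf (⨆ B ∈ {A : Subgroup ↥(Cfsg.SU (n + 2) F q) | ∃ p : Fin (n + 2) → F, p ≠ 0 ∧ Cfsg.hermForm (n + 2) F q p p = 0 ∧
          A = Subgroup.closure {g : ↥(Cfsg.SU (n + 2) F q) |
            (∀ v : Fin (n + 2) → F, ∃ c : F, ((g : Matrix.SpecialLinearGroup (Fin (n + 2)) F) : Matrix (Fin (n + 2)) (Fin (n + 2)) F) *ᵥ v = v + c • p) ∧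
            ∀ v : Fin (n + 2) → F, Cfsg.hermForm (n + 2) F q v p = 0 →
              ((g : Matrix.SpecialLinearGroup (Fin (n + 2)) F) : Matrix (Fin (n + 2)) (Fin (n + 2)) F) *ᵥ v = v}}, B)) ''
      {A : Subgroup ↥(Cfsg.SU (n + 2) F q) | ∃ p : Fin (n + 2) → F, p ≠ 0 ∧ Cfsg.hermForm (n + 2) F q p p = 0 ∧
          A = Subgroup.closure {g : ↥(Cfsg.SU (n + 2) F q) |
            (∀ v : Fin (n + 2) → F, ∃ c : F, ((g : Matrix.SpecialLinearGroup (Fin (n + 2)) F) : Matrix (Fin (n + 2)) (Fin (n + 2)) F) *ᵥ v = v + c • p) ∧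
            ∀ v : Fin (n + 2) → F, Cfsg.hermForm (n + 2) F q v p = 0 →
              ((g : Matrix.SpecialLinearGroup (Fin (n + 2)) F) : Matrix (Fin (n + 2)) (Fin (n + 2)) F) *ᵥ v = v}}) ∧
    (∃ (L : Type) (_ : Field L) (_ : Fintype L), Fintype.card L = q ∧ Cfsg.IsKRootSubgroupSet L ((fun A : Subgroup ↥(Cfsg.SU (n + 2) F q) => A.subgroupOf (⨆ B ∈ {A : Subgroup ↥(Cfsg.SU (n + 2) F q) | ∃ p : Fin (n + 2) → F, p ≠ 0 ∧ Cfsg.hermForm (n + 2) F q p p = 0 ∧
          A = Subgroup.closure {g : ↥(Cfsg.SU (n + 2) F q) |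
            (∀ v : Fin (n + 2) → F, ∃ c : F, ((g : Matrix.SpecialLinearGroup (Fin (n + 2)) F) : Matrix (Fin (n + 2)) (Fin (n + 2)) F) *ᵥ v = v + c • p) ∧
            ∀ v : Fin (n + 2) → F, Cfsg.hermForm (n + 2) F q v p = 0 →
              ((g : Matrix.SpecialLinearGroup (Fin (n + 2)) F) : Matrix (Fin (n + 2)) (Fin (n + 2)) F) *ᵥ v = v}}, B)) ''
      {A : Subgroup ↥(Cfsg.SU (n + 2) F q) | ∃ p : Fin (n + 2) → F, p ≠ 0 ∧ Cfsg.hermForm (n + 2) F q p p = 0 ∧
          A = Subgroup.closure {g : ↥(Cfsg.SU (n + 2) F q) |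
            (∀ v : Fin (n + 2) → F, ∃ c : F, ((g : Matrix.SpecialLinearGroup (Fin (n + 2)) F) : Matrix (Fin (n + 2)) (Fin (n + 2)) F) *ᵥ v = v + c • p) ∧
            ∀ v : Fin (n + 2) → F, Cfsg.hermForm (n + 2) F q v p = 0 →
              ((g : Matrix.SpecialLinearGroup (Fin (n + 2)) F) : Matrix (Fin (n + 2)) (Fin (n + 2)) F) *ᵥ v = v}})) ∧
    Cfsg.IsConnectedFamily (Cfsg.FAdj ((fun A : Subgroup ↥(Cfsg.SU (n + 2) F q) => A.subgroupOf (⨆ B ∈ {A : Subgroup ↥(Cfsg.SU (n + 2) F q) | ∃ p : Fin (n + 2) → F, p ≠ 0 ∧ Cfsg.hermForm (n + 2) F q p p = 0 ∧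
          A = Subgroup.closure {g : ↥(Cfsg.SU (n + 2) F q) |
            (∀ v : Fin (n + 2) → F, ∃ c : F, ((g : Matrix.SpecialLinearGroup (Fin (n + 2)) F) : Matrix (Fin (n + 2)) (Fin (n + 2)) F) *ᵥ v = v + c • p) ∧
            ∀ v : Fin (n + 2) → F, Cfsg.hermForm (n + 2) F q v p = 0 →
              ((g : Matrix.SpecialLinearGroup (Fin (n + 2)) F) : Matrix (Fin (n + 2)) (Fin (n + 2)) F) *ᵥ v = v}}, B)) ''
      {A : Subgroup ↥(Cfsg.SU (n + 2) F q) | ∃ p : Fin (n + 2) → F, p ≠ 0 ∧ Cfsg.hermForm (n + 2) F q p p = 0 ∧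
          A = Subgroup.closure {g : ↥(Cfsg.SU (n + 2) F q) |
            (∀ v : Fin (n + 2) → F, ∃ c : F, ((g : Matrix.SpecialLinearGroup (Fin (n + 2)) F) : Matrix (Fin (n + 2)) (Fin (n + 2)) F) *ᵥ v = v + c • p) ∧
            ∀ v : Fin (n + 2) → F, Cfsg.hermForm (n + 2) F q v p = 0 →
              ((g : Matrix.SpecialLinearGroup (Fin (n + 2)) F) : Matrix (Fin (n + 2)) (Fin (n + 2)) F) *ᵥ v = v}})) ((fun A : Subgroup ↥(Cfsg.SU (n + 2) F q) => A.subgroupOf (⨆ B ∈ {A : Subgroup ↥(Cfsg.SU (n + 2) F q) | ∃ p : Fin (n + 2) → F, p ≠ 0 ∧ Cfsg.hermForm (n + 2) F q p p = 0 ∧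
          A = Subgroup.closure {g : ↥(Cfsg.SU (n + 2) F q) |
            (∀ v : Fin (n + 2) → F, ∃ c : F, ((g : Matrix.SpecialLinearGroup (Fin (n + 2)) F) : Matrix (Fin (n + 2)) (Fin (n + 2)) F) *ᵥ v = v + c • p) ∧
            ∀ v : Fin (n + 2) → F, Cfsg.hermForm (n + 2) F q v p = 0 →
              ((g : Matrix.SpecialLinearGroup (Fin (n + 2)) F) : Matrix (Fin (n + 2)) (Fin (n + 2)) F) *ᵥ v = v}}, B)) ''
      {A : Subgroup ↥(Cfsg.SU (n + 2) F q) | ∃ p : Fin (n + 2) → F, p ≠ 0 ∧ Cfsg.hermForm (n + 2) F q p p = 0 ∧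
          A = Subgroup.closure {g : ↥(Cfsg.SU (n + 2) F q) |
            (∀ v : Fin (n + 2) → F, ∃ c : F, ((g : Matrix.SpecialLinearGroup (Fin (n + 2)) F) : Matrix (Fin (n + 2)) (Fin (n + 2)) F) *ᵥ v = v + c • p) ∧
            ∀ v : Fin (n + 2) → F, Cfsg.hermForm (n + 2) F q v p = 0 →
              ((g : Matrix.SpecialLinearGroup (Fin (n + 2)) F) : Matrix (Fin (n + 2)) (Fin (n + 2)) F) *ᵥ v = v}}) := by
  have hF' : Nat.card F = q ^ 2 := by rw [Nat.card_eq_fintype_card, hF]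
  obtain ⟨L, hL, hfin, halg, δ, hcard, hs⟩ := exists_sub hF'
  let S₀ : Set (Subgroup ↥(Cfsg.SU (n + 2) F q)) := {A | ∃ p : Fin (n + 2) → F, p ≠ 0 ∧
    Cfsg.hermForm (n + 2) F q p p = 0 ∧ A = TG q p}
  let G₀ := ⨆ B ∈ S₀, B
  let ι : ↥G₀ →* Matrix (Fin (n + 2)) (Fin (n + 2)) F := (toMat (q := q)).comp G₀.subtype
  show Cfsg.IsRootSubgroupClass ((fun A => A.subgroupOf G₀) '' S₀) ∧
    Cfsg.IsDegenerateRootSet ((fun A => A.subgroupOf G₀) '' S₀) ∧
    (∃ (M : Type) (_ : Field M) (_ : Fintype M), Fintype.card M = q ∧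
      Cfsg.IsKRootSubgroupSet M ((fun A => A.subgroupOf G₀) '' S₀)) ∧
    Cfsg.IsConnectedFamily (Cfsg.FAdj ((fun A => A.subgroupOf G₀) '' S₀)) ((fun A => A.subgroupOf G₀) '' S₀)
  have hι : Function.Injective ι := toMat_inj.comp Subtype.val_injective
  have hle : ∀ p : Fin (n + 2) → F, p ≠ 0 → Cfsg.hermForm (n + 2) F q p p = 0 → TG q p ≤ G₀ := fun p hp hpp =>
    le_iSup₂ (f := fun B (_ : B ∈ S₀) => B) (TG q p) ⟨p, hp, hpp, rfl⟩
  have hr : ∀ Y ∈ roots (n := n + 2) q δ, IsRoot (k := L) ι Y := by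
    rintro Y ⟨p, hp, hpp, rfl⟩
    exact (isRoot hF' hs ⟨p, hp, hpp, rfl⟩).restrict ((TG_eq hF' hs hp hpp).symm.le.trans (hle p hp hpp))
  have hS : (fun A => A.subgroupOf G₀) '' S₀ = CfsgLib.LinRoot.T (k := L) ι '' roots q δ := by
    ext A
    constructor
    · rintro ⟨_, ⟨p, hp, hpp, rfl⟩, rfl⟩
      refine ⟨_, ⟨p, hp, hpp, rfl⟩, ?_⟩
      show _ = (TG q p).subgroupOf G₀
      rw [TG_eq hF' hs hp hpp, T_subgroupOf (isRoot hF' hs ⟨p, hp, hpp, rfl⟩).sq]
    · rintro ⟨_, ⟨p, hp, hpp, rfl⟩, rfl⟩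
      refine ⟨_, ⟨p, hp, hpp, rfl⟩, ?_⟩
      show (TG q p).subgroupOf G₀ = _
      rw [TG_eq hF' hs hp hpp, T_subgroupOf (isRoot hF' hs ⟨p, hp, hpp, rfl⟩).sq]
  have hK : Cfsg.IsKRootSubgroupSet L ((fun A => A.subgroupOf G₀) '' S₀) := by
    refine kRootSet hι hr hS ?_ (iSup_subgroupOf S₀) ?_
    · rintro Y ⟨p, hp, hpp, rfl⟩ g
      rw [conjBy_T hι (isRoot hF' hs ⟨p, hp, hpp, rfl⟩).sq, hS]
      refine ⟨_, ⟨suMat (g : ↥(Cfsg.SU (n + 2) F q)) *ᵥ p, ?_, ?_, rfl⟩, ?_⟩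
      · intro e
        apply hp
        have := congrArg (fun v => suMat (g : ↥(Cfsg.SU (n + 2) F q))⁻¹ *ᵥ v) e
        simp only [Matrix.mulVec_mulVec, ← suMat_mul, inv_mul_cancel, suMat_one, Matrix.one_mulVec,
          Matrix.mulVec_zero] at this
        exact this
      · exact ((g : ↥(Cfsg.SU (n + 2) F q)).2 p p).trans hpp
      · congr 1
        exact (X_conj (g : ↥(Cfsg.SU (n + 2) F q)) p hpp hF' hs).symm
    · intro Y hY Z hZ
      rcases pair hF' hs hY hZ with h | ⟨a, ha, h1, h2⟩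
      · exact .comm h
      · exact .rankOne a ha h1 h2
  have hc := connected hι hr hS (fun Y hY Z hZ => path hF' hs hY hZ)
  obtain ⟨a, ha⟩ := CfsgLib.Unitary.exists_norm_eq hF' (μ := -1) (by
    rw [← CfsgLib.Forms.frobQ_apply hF', map_neg, map_one])
  let p : Fin (n + 2) → F := Fin.cons 1 (Fin.cons a 0)
  have hp : p ≠ 0 := fun e => one_ne_zero (congrFun e 0)
  have hpp : Cfsg.hermForm (n + 2) F q p p = 0 := by
    show Cfsg.hermForm (n + 1 + 1) F q (Fin.cons 1 (Fin.cons a 0)) (Fin.cons 1 (Fin.cons a 0)) = 0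
    rw [herm_cons, herm_cons, one_pow, mul_one, ← pow_succ', ha]
    simp [Cfsg.hermForm]
  refine ⟨⟨hK.1, conjClass_of_connected ⟨_, ⟨_, ⟨p, hp, hpp, rfl⟩, rfl⟩⟩ hc⟩,
    degenerate hι hr hS (fun Y hY Z hZ => pair hF' hs hY hZ), ⟨L, hL, hfin, hcard, hK⟩, hc⟩

end Cfsg.Agent.S5071
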