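import Cfsg.Statements.S5072
import Cfsg.Agent.RootSubgroups.LinearRootsRank

set_option autoImplicit false
open Matrix
open Cfsg

namespace Cfsg.Agent.S5072

open CfsgLib.RootInv.Tv (rk)
open CfsgLib.LinRoot

variable {F : Type*} [Field F] {N : ℕ}

/-- Swap of the two halves. -/
def sw (v : Fin N ⊕ Fin N → F) : Fin N ⊕ Fin N → F := fun i => v i.swap

/-- The polar form. -/
def bt (u v : Fin N ⊕ Fin N → F) : F := sw u ⬝ᵥ v

theorem bt_eq (u v : Fin N ⊕ Fin N → F) :
    bt u v = ∑ i, (u (.inr i) * v (.inl i) + u (.inl i) * v (.inr i)) := by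
  simp [bt, sw, dotProduct, Fintype.sum_sum_type, Finset.sum_add_distrib]

theorem bt_comm (u v : Fin N ⊕ Fin N → F) : bt u v = bt v u := by
  rw [bt_eq, bt_eq]; exact Finset.sum_congr rfl fun i _ => by ring

theorem bt_add_right (u v w : Fin N ⊕ Fin N → F) : bt u (v + w) = bt u v + bt u w := dotProduct_add _ _ _

theorem bt_smul_right (c : F) (u v : Fin N ⊕ Fin N → F) : bt u (c • v) = c * bt u v := dotProduct_smul _ _ _

theorem bt_add_left (u v w : Fin N ⊕ Fin N → F) : bt (u + v) w = bt u w + bt v w := by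
  rw [bt_comm, bt_add_right, bt_comm w, bt_comm w]

theorem bt_smul_left (c : F) (u v : Fin N ⊕ Fin N → F) : bt (c • u) v = c * bt u v := by
  rw [bt_comm, bt_smul_right, bt_comm]

theorem bt_zero_left (v : Fin N ⊕ Fin N → F) : bt 0 v = 0 := by rw [bt_eq]; simp

theorem q_add (u v : Fin N ⊕ Fin N → F) : Cfsg.quadFormPlus N F (u + v) =
    Cfsg.quadFormPlus N F u + Cfsg.quadFormPlus N F v + bt u v := by
  simp only [Cfsg.quadFormPlus, bt_eq, Pi.add_apply, ← Finset.sum_add_distrib]
  exact Finset.sum_congr rfl fun i _ => by ring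

theorem q_smul (c : F) (u : Fin N ⊕ Fin N → F) :
    Cfsg.quadFormPlus N F (c • u) = c * c * Cfsg.quadFormPlus N F u := by
  simp only [Cfsg.quadFormPlus, Pi.smul_apply, smul_eq_mul, Finset.mul_sum]
  exact Finset.sum_congr rfl fun i _ => by ring

theorem bt_self (u : Fin N ⊕ Fin N → F) : bt u u = 2 * Cfsg.quadFormPlus N F u := by
  simp only [Cfsg.quadFormPlus, bt_eq, Finset.mul_sum]
  exact Finset.sum_congr rfl fun i _ => by ring

theorem eq_zero_of_bt {u : Fin N ⊕ Fin N → F} (h : ∀ v, bt u v = 0) : u = 0 := by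
  ext i
  have := h (Pi.single i.swap 1)
  simpa [bt, sw] using this

theorem sw_ne {u : Fin N ⊕ Fin N → F} (h : u ≠ 0) : sw u ≠ 0 := fun e =>
  h (eq_zero_of_bt fun v => by rw [bt, e, zero_dotProduct])

/-- `p`, `r` span a singular line or less. -/
structure Sing (p r : Fin N ⊕ Fin N → F) : Prop where
  left : Cfsg.quadFormPlus N F p = 0
  right : Cfsg.quadFormPlus N F r = 0
  perp : bt p r = 0

theorem Sing.swap {p r : Fin N ⊕ Fin N → F} (h : Sing p r) : Sing r p :=
  ⟨h.right, h.left, by rw [bt_comm]; exact h.perp⟩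

theorem sing_iff {p r : Fin N ⊕ Fin N → F} : Sing p r ↔ Cfsg.quadFormPlus N F p = 0 ∧
    Cfsg.quadFormPlus N F r = 0 ∧ Cfsg.quadFormPlus N F (p + r) = 0 := by
  rw [q_add]
  exact ⟨fun ⟨a, b, c⟩ => ⟨a, b, by rw [a, b, c]; ring⟩, fun ⟨a, b, c⟩ => ⟨a, b, by
    rwa [a, b, zero_add, zero_add] at c⟩⟩

/-- The root `v ↦ β(r,v) p - β(p,v) r`. -/
def X (p r : Fin N ⊕ Fin N → F) : Matrix (Fin N ⊕ Fin N) (Fin N ⊕ Fin N) F := rk p (sw r) - rk r (sw p)

theorem X_mulVec (p r v : Fin N ⊕ Fin N → F) : X p r *ᵥ v = bt r v • p - bt p v • r := by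
  rw [X, Matrix.sub_mulVec]
  simp only [rk, Matrix.vecMulVec_mulVec, op_smul_eq_smul]
  rfl

theorem X_swap (p r : Fin N ⊕ Fin N → F) : X r p = -X p r := by rw [X, X, neg_sub]

theorem X_smul (c : F) (p r : Fin N ⊕ Fin N → F) : X (c • p) r = X p (c • r) := by
  refine Matrix.ext_iff_mulVec.2 fun v => ?_
  rw [X_mulVec, X_mulVec, bt_smul_left, bt_smul_left]
  module

theorem X_self_smul (c : F) (p : Fin N ⊕ Fin N → F) : X p (c • p) = 0 := by
  refine Matrix.ext_iff_mulVec.2 fun v => ?_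
  rw [X_mulVec, bt_smul_left, Matrix.zero_mulVec]
  module

theorem X_ne {p r : Fin N ⊕ Fin N → F} (h : LinearIndependent F ![p, r]) : X p r ≠ 0 := by
  intro e
  have h' := LinearIndependent.pair_iff.1 h
  obtain ⟨v, hv⟩ : ∃ v, bt p v ≠ 0 := by
    by_contra hc; push Not at hc
    exact h.ne_zero 0 (eq_zero_of_bt hc)
  have := X_mulVec p r v
  rw [e, Matrix.zero_mulVec, sub_eq_add_neg, ← neg_smul] at this
  exact hv (neg_eq_zero.1 (h' _ _ this.symm).2)

theorem li_of_X_ne {p r : Fin N ⊕ Fin N → F} (h : X p r ≠ 0) : LinearIndependent F ![p, r] := by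
  rw [LinearIndependent.pair_iff]
  intro a b hab
  by_contra hne
  apply h
  by_cases hb : b = 0
  · have ha : a ≠ 0 := fun e => hne ⟨e, hb⟩
    rw [hb, zero_smul, add_zero] at hab
    rw [(smul_eq_zero.1 hab).resolve_left ha]
    exact Matrix.ext_iff_mulVec.2 fun v => by rw [X_mulVec, bt_zero_left]; simp
  · have : r = (-(b⁻¹ * a)) • p := by
      have h2 : b • r = (-a) • p := by rw [neg_smul]; exact eq_neg_of_add_eq_zero_right hab
      calc r = b⁻¹ • b • r := by rw [smul_smul, inv_mul_cancel₀ hb, one_smul]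
        _ = _ := by rw [h2, smul_smul, mul_neg]
    rw [this]; exact X_self_smul _ _

theorem sing_X_sq {p r : Fin N ⊕ Fin N → F} (h : Sing p r) : X p r * X p r = 0 := by
  refine Matrix.ext_iff_mulVec.2 fun v => ?_
  rw [← Matrix.mulVec_mulVec, Matrix.zero_mulVec, X_mulVec p r v, sub_eq_add_neg, ← neg_smul,
    Matrix.mulVec_add, Matrix.mulVec_smul, Matrix.mulVec_smul, X_mulVec, X_mulVec]
  simp only [bt_self, h.left, h.right, bt_comm r p, h.perp, mul_zero, zero_smul, sub_zero, smul_zero, add_zero]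

theorem isom_smul {p r : Fin N ⊕ Fin N → F} (h : Sing p r) (c : F) (v : Fin N ⊕ Fin N → F) :
    Cfsg.quadFormPlus N F ((1 + c • X p r) *ᵥ v) = Cfsg.quadFormPlus N F v := by
  rw [Matrix.add_mulVec, Matrix.one_mulVec, Matrix.smul_mulVec, X_mulVec, sub_eq_add_neg, ← neg_smul]
  simp only [q_add, q_smul, bt_add_right, bt_smul_right, bt_smul_left, h.left, h.right, h.perp]
  rw [bt_comm v p, bt_comm v r]
  ring

/-- The coercion to matrices. -/
def toMat : ↥(Cfsg.isometryGroup F (Cfsg.quadFormPlus N F)) →* Matrix (Fin N ⊕ Fin N) (Fin N ⊕ Fin N) F :=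
  (Units.coeHom _).comp (Cfsg.isometryGroup F (Cfsg.quadFormPlus N F)).subtype

theorem toMat_inj : Function.Injective (toMat (F := F) (N := N)) :=
  Units.val_injective.comp Subtype.val_injective

theorem isom_q (g : ↥(Cfsg.isometryGroup F (Cfsg.quadFormPlus N F))) (v : Fin N ⊕ Fin N → F) :
    Cfsg.quadFormPlus N F (toMat g *ᵥ v) = Cfsg.quadFormPlus N F v := g.2 v v

theorem isom_bt (g : ↥(Cfsg.isometryGroup F (Cfsg.quadFormPlus N F))) (u v : Fin N ⊕ Fin N → F) :
    bt (toMat g *ᵥ u) (toMat g *ᵥ v) = bt u v := by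
  have h1 := q_add (toMat g *ᵥ u) (toMat g *ᵥ v)
  rw [← Matrix.mulVec_add, isom_q, isom_q, isom_q, q_add] at h1
  exact (add_left_cancel h1).symm

/-- The roots. -/
def roots : Set (Matrix (Fin N ⊕ Fin N) (Fin N ⊕ Fin N) F) :=
  {Y | ∃ p r, Sing p r ∧ LinearIndependent F ![p, r] ∧ Y = X p r}

theorem isRoot {Y : Matrix (Fin N ⊕ Fin N) (Fin N ⊕ Fin N) F} (hY : Y ∈ roots) :
    IsRoot (k := F) toMat Y := by
  obtain ⟨p, r, hs, hli, rfl⟩ := hY
  refine ⟨sing_X_sq hs, X_ne hli, fun c => ?_⟩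
  have e : ∀ c : F, (1 + c • X p r) * (1 + (-c) • X p r) = 1 := fun c => by
    rw [add_mul_add (sing_X_sq hs), add_neg_cancel, zero_smul, add_zero]
  exact ⟨⟨⟨1 + c • X p r, 1 + (-c) • X p r, e c, by simpa using e (-c)⟩,
    fun v _ => isom_smul hs c v⟩, rfl⟩

/-- The Siegel transvection group of the line of `p`, `r`. -/
def TG (p r : Fin N ⊕ Fin N → F) : Subgroup ↥(Cfsg.isometryGroup F (Cfsg.quadFormPlus N F)) :=
  Subgroup.closure {σ | ∀ v : Fin N ⊕ Fin N → F,
    Cfsg.quadFormPlus N F (v + p) - Cfsg.quadFormPlus N F v - Cfsg.quadFormPlus N F p = 0 →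
    Cfsg.quadFormPlus N F (v + r) - Cfsg.quadFormPlus N F v - Cfsg.quadFormPlus N F r = 0 →
      ((σ : Matrix.GeneralLinearGroup (Fin N ⊕ Fin N) F) : Matrix (Fin N ⊕ Fin N) (Fin N ⊕ Fin N) F) *ᵥ v = v}

theorem TG_eq {p r : Fin N ⊕ Fin N → F} (hs : Sing p r) (hli : LinearIndependent F ![p, r]) :
    TG p r = T (k := F) toMat (X p r) := by
  unfold TG CfsgLib.LinRoot.T
  congr 1
  ext g
  simp only [Set.mem_setOf_eq, q_add, add_sub_cancel_left]
  constructor
  · intro hfix
    have hfix' : ∀ v, bt p v = 0 → bt r v = 0 → toMat g *ᵥ v = v := fun v h1 h2 =>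
      hfix v (by rw [bt_comm, h1]; ring) (by rw [bt_comm, h2]; ring)
    obtain ⟨u, hu1, hu2, w, hw1, hw2⟩ : ∃ u, bt p u = 1 ∧ bt r u = 0 ∧ ∃ w, bt p w = 0 ∧ bt r w = 1 := by
      let f : (Fin N ⊕ Fin N → F) →ₗ[F] (Fin 2 → F) := Matrix.mulVecLin (Matrix.of ![sw p, sw r])
      have hli' : LinearIndependent F ![sw p, sw r] := by
        rw [LinearIndependent.pair_iff]
        intro a b hab
        refine (LinearIndependent.pair_iff.1 hli) a b (eq_zero_of_bt fun v => ?_)
        have := congrArg (fun x => x ⬝ᵥ v) hab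
        rw [bt_add_left, bt_smul_left, bt_smul_left]
        simpa [add_dotProduct, smul_dotProduct, bt] using this
      have hrank : (Matrix.of ![sw p, sw r]).rank = 2 := by
        simpa using LinearIndependent.rank_matrix (M := Matrix.of ![sw p, sw r]) hli'
      have hsurj : Function.Surjective f := by
        rw [← LinearMap.range_eq_top]
        apply Submodule.eq_top_of_finrank_eq
        rw [Module.finrank_pi, Fintype.card_fin]
        exact hrank
      obtain ⟨u, hu⟩ := hsurj ![1, 0]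
      obtain ⟨w, hw⟩ := hsurj ![0, 1]
      exact ⟨u, congrFun hu 0, congrFun hu 1, w, congrFun hw 0, congrFun hw 1⟩
    set a := toMat g *ᵥ u - u with ha
    set b := toMat g *ᵥ w - w with hb
    have hgu : toMat g *ᵥ u = u + a := by rw [ha]; abel
    have hgw : toMat g *ᵥ w = w + b := by rw [hb]; abel
    have hdec : ∀ v, toMat g *ᵥ v = v + bt p v • a + bt r v • b := fun v => by
      have h0 := hfix' (v - bt p v • u - bt r v • w)
        (by simp only [sub_eq_add_neg, ← neg_smul, bt_add_right, bt_smul_right, hu1, hw1]; ring)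
        (by simp only [sub_eq_add_neg, ← neg_smul, bt_add_right, bt_smul_right, hu2, hw2]; ring)
      rw [Matrix.mulVec_sub, Matrix.mulVec_sub, Matrix.mulVec_smul, Matrix.mulVec_smul, hgu, hgw] at h0
      calc toMat g *ᵥ v = toMat g *ᵥ v - bt p v • (u + a) - bt r v • (w + b)
            + (bt p v • (u + a) + bt r v • (w + b)) := by abel
        _ = _ := by rw [h0]; module
    have hspan : ∀ x, toMat g *ᵥ x - x = bt (toMat g *ᵥ x - x) u • p + bt (toMat g *ᵥ x - x) w • r := by
      intro x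
      set d := toMat g *ᵥ x - x with hd
      refine sub_eq_zero.1 (eq_zero_of_bt fun z => ?_)
      set z₀ := z + (-bt p z) • u + (-bt r z) • w with hz0
      have h0 : toMat g *ᵥ z₀ = z₀ := hfix' z₀
        (by simp only [hz0, bt_add_right, bt_smul_right, hu1, hw1]; ring)
        (by simp only [hz0, bt_add_right, bt_smul_right, hu2, hw2]; ring)
      have h1 : bt d z₀ = 0 := by
        have := isom_bt g x z₀
        rw [h0] at this
        rw [hd, sub_eq_add_neg, ← neg_one_smul F x, bt_add_left, bt_smul_left, this]; ring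
      rw [hz0] at h1
      simp only [bt_add_right, bt_smul_right] at h1
      rw [sub_eq_add_neg, ← neg_one_smul F (bt d u • p + bt d w • r)]
      simp only [bt_add_left, bt_smul_left]
      linear_combination h1
    have hA : a = bt a u • p + bt a w • r := hspan u
    have hB : b = bt b u • p + bt b w • r := hspan w
    have e1 : bt a u = 0 := by
      have := isom_q g u
      rw [hgu, hA] at this
      simp only [q_add, q_smul, bt_add_right, bt_smul_right, bt_smul_left, hs.left, hs.right, hs.perp,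
        bt_comm u p, bt_comm u r, hu1, hu2] at this
      linear_combination this
    have e2 : bt b w = 0 := by
      have := isom_q g w
      rw [hgw, hB] at this
      simp only [q_add, q_smul, bt_add_right, bt_smul_right, bt_smul_left, hs.left, hs.right, hs.perp,
        bt_comm w p, bt_comm w r, hw1, hw2] at this
      linear_combination this
    rw [e1, zero_smul, zero_add] at hA
    rw [e2, zero_smul, add_zero] at hB
    have e3 : bt a w + bt b u = 0 := by
      have := isom_bt g u w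
      rw [hgu, hgw, hA, hB] at this
      simp only [bt_add_left, bt_add_right, bt_smul_left, bt_smul_right, bt_comm r p, hs.perp, bt_comm u p,
        hu1, hw2] at this
      linear_combination this
    obtain ⟨β, hβ⟩ : ∃ β, bt b u = β := ⟨_, rfl⟩
    obtain ⟨γ, hγ⟩ : ∃ γ, bt a w = γ := ⟨_, rfl⟩
    rw [hβ] at hB e3
    rw [hγ] at hA e3
    refine ⟨β, Matrix.ext_iff_mulVec.2 fun v => ?_⟩
    rw [Matrix.add_mulVec, Matrix.one_mulVec, Matrix.smul_mulVec, X_mulVec, hdec, hA, hB,
      eq_neg_of_add_eq_zero_left e3]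
    module
  · rintro ⟨c, hc⟩ v h1 h2
    show toMat g *ᵥ v = v
    have h1' : bt p v = 0 := by rw [bt_comm]; linear_combination h1
    have h2' : bt r v = 0 := by rw [bt_comm]; linear_combination h2
    rw [hc, Matrix.add_mulVec, Matrix.one_mulVec, Matrix.smul_mulVec, X_mulVec, h1', h2']
    simp

/-- The determinant of the pairing between two lines. -/
def opp (p r p' r' : Fin N ⊕ Fin N → F) : F := bt p r' * bt r p' - bt p p' * bt r r'

theorem triple {p r p' r' : Fin N ⊕ Fin N → F} :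
    X p r * X p' r' * X p r = opp p r p' r' • X p r := by
  refine Matrix.ext_iff_mulVec.2 fun v => ?_
  simp only [← Matrix.mulVec_mulVec, Matrix.smul_mulVec, X_mulVec, sub_eq_add_neg, ← neg_smul,
    bt_add_right, bt_smul_right, opp, bt_comm p' p, bt_comm p' r, bt_comm r' p, bt_comm r' r]
  module

theorem prod_rankOne {p r p' r' : Fin N ⊕ Fin N → F} {α γ σ τ : F} (ha : bt p p' = α * σ) (hb : bt p r' = α * τ)
    (hc : bt r p' = γ * σ) (hd : bt r r' = γ * τ) :
    X p r * X p' r' - X p' r' * X p r = X (γ • p + (-α) • r) (σ • r' + (-τ) • p') := by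
  refine Matrix.ext_iff_mulVec.2 fun v => ?_
  rw [Matrix.sub_mulVec]
  simp only [← Matrix.mulVec_mulVec, X_mulVec, sub_eq_add_neg, ← neg_smul, bt_add_left,
    bt_add_right, bt_smul_left, bt_smul_right, bt_comm p' p, bt_comm p' r, bt_comm r' p, bt_comm r' r, ha, hb, hc, hd]
  module

theorem pair {Y Z : Matrix (Fin N ⊕ Fin N) (Fin N ⊕ Fin N) F} (hY : Y ∈ roots) (hZ : Z ∈ roots) :
    Pair F roots Y Z := by
  obtain ⟨p, r, hs, hli, rfl⟩ := hY
  obtain ⟨p', r', hs', hli', rfl⟩ := hZ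
  have hsym : opp p' r' p r = opp p r p' r' := by
    simp only [opp, bt_comm p' p, bt_comm p' r, bt_comm r' p, bt_comm r' r]; ring
  by_cases hl : opp p r p' r' = 0
  · obtain ⟨α, γ, σ, τ, ha, hb, hc, hd⟩ : ∃ α γ σ τ, bt p p' = α * σ ∧ bt p r' = α * τ ∧
        bt r p' = γ * σ ∧ bt r r' = γ * τ := by
      have h : bt p r' * bt r p' = bt p p' * bt r r' := sub_eq_zero.1 hl
      by_cases ha : bt p p' = 0
      · rw [ha, zero_mul, mul_eq_zero] at h
        rcases h with h | h
        · exact ⟨0, 1, bt r p', bt r r', by simp [ha], by simp [h], by simp, by simp⟩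
        · exact ⟨bt p r', bt r r', 0, 1, by simp [ha], by simp, by simp [h], by simp⟩
      · refine ⟨1, bt r p' / bt p p', bt p p', bt p r', by simp, by simp, (div_mul_cancel₀ _ ha).symm, ?_⟩
        field_simp
        linear_combination -h
    have hZ := prod_rankOne ha hb hc hd
    by_cases h0 : X p r * X p' r' = X p' r' * X p r
    · exact .comm h0
    · have hne : X (γ • p + (-α) • r) (σ • r' + (-τ) • p') ≠ 0 := hZ ▸ sub_ne_zero.2 h0
      refine .commutator 1 _ (by rw [triple, hl, zero_smul]) (by rw [triple, hsym, hl, zero_smul]) h0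
        ⟨_, _, ⟨?_, ?_, ?_⟩, li_of_X_ne hne, rfl⟩ (by rw [one_smul]; exact hZ)
      · simp only [q_add, q_smul, bt_smul_left, bt_smul_right, hs.left, hs.right, hs.perp]; ring
      · simp only [q_add, q_smul, bt_smul_left, bt_smul_right, hs'.left, hs'.right, bt_comm r' p', hs'.perp]; ring
      · simp only [bt_add_left, bt_add_right, bt_smul_left, bt_smul_right, ha, hb, hc, hd]; ring
  · exact .rankOne _ hl triple (by rw [triple, hsym])

/-- Connection of two roots. -/
abbrev Conn (Y Z : Matrix (Fin N ⊕ Fin N) (Fin N ⊕ Fin N) F) : Prop := Relation.ReflTransGen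
    (fun Y Z => Y ∈ roots ∧ Z ∈ roots ∧ ∃ a : F, a ≠ 0 ∧ Y * Z * Y = a • Y ∧ Z * Y * Z = a • Z) Y Z

theorem adj {p r p' r' : Fin N ⊕ Fin N → F} (hs : Sing p r) (hli : LinearIndependent F ![p, r])
    (hs' : Sing p' r') (hli' : LinearIndependent F ![p', r']) (h : opp p r p' r' ≠ 0) :
    X p r ∈ roots ∧ X p' r' ∈ roots ∧
      ∃ a : F, a ≠ 0 ∧ X p r * X p' r' * X p r = a • X p r ∧ X p' r' * X p r * X p' r' = a • X p' r' :=
  ⟨⟨p, r, hs, hli, rfl⟩, ⟨p', r', hs', hli', rfl⟩, _, h, triple, by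
    rw [triple]; congr 1
    simp only [opp, bt_comm p' p, bt_comm p' r, bt_comm r' p, bt_comm r' r]; ring⟩

theorem exists_kernel {k : ℕ} (hk : k < N) (f : Fin k → Fin N ⊕ Fin N → F) :
    ∃ v : Fin N ⊕ Fin N → F, v ≠ 0 ∧ Cfsg.quadFormPlus N F v = 0 ∧ ∀ i, bt (f i) v = 0 := by
  let φ : (Fin N → F) →ₗ[F] (Fin k → F) :=
    Matrix.mulVecLin (Matrix.of fun i j => sw (f i) (Sum.inl j))
  have hker : LinearMap.ker φ ≠ ⊥ := LinearMap.ker_ne_bot_of_finrank_lt (by simpa using hk)
  obtain ⟨x, hx, hx0⟩ := (Submodule.ne_bot_iff _).1 hker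
  refine ⟨Sum.elim x 0, fun e => hx0 (funext fun j => congrFun e (Sum.inl j)), by simp [Cfsg.quadFormPlus],
    fun i => ?_⟩
  have : φ x i = 0 := by rw [LinearMap.mem_ker.1 hx]; rfl
  rw [← this]
  simp [bt, dotProduct, Fintype.sum_sum_type, φ, Matrix.mulVec]

theorem exists_opp (hN : 3 ≤ N) {p s r : Fin N ⊕ Fin N → F} (hp : Sing p r) (hpl : LinearIndependent F ![p, r])
    (hs : Sing s r) (hsl : LinearIndependent F ![s, r]) :
    ∃ t r', Sing t r' ∧ LinearIndependent F ![t, r'] ∧ opp p r t r' ≠ 0 ∧ opp s r t r' ≠ 0 := by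
  have hr0 : r ≠ 0 := hpl.ne_zero 1
  obtain ⟨r', hr1, hr2⟩ : ∃ r', bt r r' = 1 ∧ Cfsg.quadFormPlus N F r' = 0 := by
    obtain ⟨u, hu⟩ : ∃ u, bt r u ≠ 0 := by
      by_contra hc; push Not at hc; exact hr0 (eq_zero_of_bt hc)
    obtain ⟨u', h1⟩ : ∃ u', bt r u' = 1 := ⟨(bt r u)⁻¹ • u, by rw [bt_smul_right, inv_mul_cancel₀ hu]⟩
    refine ⟨u' + (-Cfsg.quadFormPlus N F u') • r, ?_, ?_⟩
    · rw [bt_add_right, bt_smul_right, h1, bt_self, hp.right]; ring
    · rw [q_add, q_smul, bt_smul_right, bt_comm u' r, h1, hp.right]; ring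
  have hrr : bt r r = 0 := by rw [bt_self, hp.right, mul_zero]
  have hr'r' : bt r' r' = 0 := by rw [bt_self, hr2, mul_zero]
  set P := p + (-bt p r') • r with hP
  set S := s + (-bt s r') • r with hS
  have hPr : bt P r = 0 := by rw [hP, bt_add_left, bt_smul_left, hrr, hp.perp]; ring
  have hPr' : bt P r' = 0 := by rw [hP, bt_add_left, bt_smul_left, hr1]; ring
  have hSr : bt S r = 0 := by rw [hS, bt_add_left, bt_smul_left, hrr, hs.perp]; ring
  have hSr' : bt S r' = 0 := by rw [hS, bt_add_left, bt_smul_left, hr1]; ring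
  have hQP : Cfsg.quadFormPlus N F P = 0 := by rw [hP, q_add, q_smul, bt_smul_right, hp.left, hp.right, hp.perp]; ring
  have hQS : Cfsg.quadFormPlus N F S = 0 := by rw [hS, q_add, q_smul, bt_smul_right, hs.left, hs.right, hs.perp]; ring
  have hne : ∀ x : Fin N ⊕ Fin N → F, LinearIndependent F ![x, r] → ∀ c : F, x + c • r ≠ 0 := fun x hx c e =>
    one_ne_zero ((LinearIndependent.pair_iff.1 hx) 1 c (by rw [one_smul]; exact e)).1
  obtain ⟨t, htr, htr', htQ, htP, htS⟩ : ∃ t, bt r t = 0 ∧ bt r' t = 0 ∧ Cfsg.quadFormPlus N F t = 0 ∧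
      bt P t ≠ 0 ∧ bt S t ≠ 0 := by
    by_cases hc : bt P S = 0
    · obtain ⟨u₀, hu1, hu2⟩ := exists_dot_both_ne _ _ (sw_ne (hne p hpl (-bt p r'))) (sw_ne (hne s hsl (-bt s r')))
      change bt P u₀ ≠ 0 at hu1
      change bt S u₀ ≠ 0 at hu2
      set u := u₀ + (-bt r' u₀) • r + (-bt r u₀) • r' with hu
      have e1 : bt r u = 0 := by rw [hu]; simp only [bt_add_right, bt_smul_right, hrr, hr1]; ring
      have e2 : bt r' u = 0 := by rw [hu]; simp only [bt_add_right, bt_smul_right, bt_comm r' r, hr1, hr'r']; ring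
      have e3 : bt P u = bt P u₀ := by rw [hu]; simp only [bt_add_right, bt_smul_right, hPr, hPr']; ring
      have e4 : bt S u = bt S u₀ := by rw [hu]; simp only [bt_add_right, bt_smul_right, hSr, hSr']; ring
      refine ⟨u + (-(Cfsg.quadFormPlus N F u / bt P u₀)) • P, ?_, ?_, ?_, ?_, ?_⟩
      · rw [bt_add_right, bt_smul_right, e1, bt_comm r P, hPr]; ring
      · rw [bt_add_right, bt_smul_right, e2, bt_comm r' P, hPr']; ring
      · rw [q_add, q_smul, bt_smul_right, bt_comm u P, e3, hQP]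
        linear_combination -(div_mul_cancel₀ (Cfsg.quadFormPlus N F u) hu1)
      · rw [bt_add_right, bt_smul_right, e3, bt_self, hQP, mul_zero, mul_zero, add_zero]; exact hu1
      · rw [bt_add_right, bt_smul_right, e4, bt_comm S P, hc, mul_zero, add_zero]; exact hu2
    · obtain ⟨w, hw1, hw2, hw3, hw4, hw⟩ : ∃ w, bt r w = 0 ∧ bt r' w = 0 ∧ bt P w = 0 ∧ bt S w = 0 ∧
          Cfsg.quadFormPlus N F w ≠ 0 := by
        by_contra hall
        push Not at hall
        have hker : LinearMap.ker (Matrix.mulVecLin (Matrix.of ![sw r, sw r', sw P, sw S])) ≠ ⊥ :=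
          LinearMap.ker_ne_bot_of_finrank_lt (by simp; omega)
        obtain ⟨x, hx, hx0⟩ := (Submodule.ne_bot_iff _).1 hker
        have hx' := congrFun (LinearMap.mem_ker.1 hx)
        have x1 : bt r x = 0 := hx' 0
        have x2 : bt r' x = 0 := hx' 1
        have x3 : bt P x = 0 := hx' 2
        have x4 : bt S x = 0 := hx' 3
        refine hx0 (eq_zero_of_bt fun z => ?_)
        set z' := z + (-bt r' z) • r + (-bt r z) • r' + (-(bt S z / bt P S)) • P + (-(bt P z / bt P S)) • S with hz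
        have hPP : bt P P = 0 := by rw [bt_self, hQP, mul_zero]
        have hSS : bt S S = 0 := by rw [bt_self, hQS, mul_zero]
        have z1 : bt r z' = 0 := by
          rw [hz]; simp only [bt_add_right, bt_smul_right, hrr, hr1, bt_comm r P, hPr, bt_comm r S, hSr]; ring
        have z2 : bt r' z' = 0 := by
          rw [hz]; simp only [bt_add_right, bt_smul_right, bt_comm r' r, hr1, hr'r', bt_comm r' P, hPr', bt_comm r' S, hSr']
          ring
        have z3 : bt P z' = 0 := by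
          rw [hz]; simp only [bt_add_right, bt_smul_right, hPr, hPr', hPP]
          field_simp; ring
        have z4 : bt S z' = 0 := by
          rw [hz]; simp only [bt_add_right, bt_smul_right, hSr, hSr', hSS, bt_comm S P]
          field_simp; ring
        have h1 := hall x x1 x2 x3 x4
        have h2 := hall z' z1 z2 z3 z4
        have h3 := hall (x + z') (by rw [bt_add_right, x1, z1, add_zero]) (by rw [bt_add_right, x2, z2, add_zero])
          (by rw [bt_add_right, x3, z3, add_zero]) (by rw [bt_add_right, x4, z4, add_zero])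
        rw [q_add, h1, h2, hz] at h3
        simp only [bt_add_right, bt_smul_right, bt_comm x r, bt_comm x r', bt_comm x P, bt_comm x S, x1, x2, x3, x4] at h3
        linear_combination h3
      refine ⟨(1 : F) • S + (-(Cfsg.quadFormPlus N F w / bt P S)) • P + w, ?_, ?_, ?_, ?_, ?_⟩
      · simp only [bt_add_right, bt_smul_right, bt_comm r S, hSr, bt_comm r P, hPr, hw1]; ring
      · simp only [bt_add_right, bt_smul_right, bt_comm r' S, hSr', bt_comm r' P, hPr', hw2]; ring
      · simp only [q_add, q_smul, bt_add_left, bt_smul_left, bt_smul_right, hQS, hQP, hw3, hw4, bt_comm S P]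
        field_simp; ring
      · simp only [bt_add_right, bt_smul_right, bt_self P, hQP, hw3]
        simpa using hc
      · simp only [bt_add_right, bt_smul_right, bt_self S, hQS, hw4, bt_comm S P]
        field_simp
        simp [hw]
  have e : ∀ x : Fin N ⊕ Fin N → F, bt (x + (-bt x r') • r) t = bt x t := fun x => by
    rw [bt_add_left, bt_smul_left, htr]; ring
  rw [hP, e] at htP
  rw [hS, e] at htS
  refine ⟨t, r', ⟨htQ, hr2, by rw [bt_comm]; exact htr'⟩, ?_, ?_, ?_⟩
  · rw [LinearIndependent.pair_iff]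
    intro a b hab
    have h1 := congrArg (bt r) hab
    have h2 := congrArg (bt p) hab
    simp only [bt_add_right, bt_smul_right, htr, hr1] at h1 h2
    have hz : ∀ x : Fin N ⊕ Fin N → F, bt x 0 = 0 := fun x => by rw [bt_comm, bt_zero_left]
    rw [hz, mul_zero, zero_add, mul_one] at h1
    subst h1
    rw [hz, zero_mul, add_zero] at h2
    exact ⟨(mul_eq_zero.1 h2).resolve_right htP, rfl⟩
  · rw [opp, htr, hr1, mul_zero, mul_one, zero_sub, neg_ne_zero]; exact htP
  · rw [opp, htr, hr1, mul_zero, mul_one, zero_sub, neg_ne_zero]; exact htS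

theorem conn_share (hN : 3 ≤ N) {p s r : Fin N ⊕ Fin N → F} (hp : Sing p r) (hpl : LinearIndependent F ![p, r])
    (hs : Sing s r) (hsl : LinearIndependent F ![s, r]) : Conn (X p r) (X s r) := by
  obtain ⟨t, r', ht, htl, h1, h2⟩ := exists_opp hN hp hpl hs hsl
  refine .head (adj hp hpl ht htl h1) (.single (adj ht htl hs hsl ?_))
  simp only [opp, bt_comm t, bt_comm r'] at h2 ⊢
  exact fun e => h2 (by linear_combination e)

theorem li_swap {p r : Fin N ⊕ Fin N → F} (h : LinearIndependent F ![p, r]) : LinearIndependent F ![r, p] :=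
  LinearIndependent.pair_symm_iff.1 h

theorem conn_swap (hN : 3 ≤ N) {p r : Fin N ⊕ Fin N → F} (hp : Sing p r) (hpl : LinearIndependent F ![p, r]) :
    Conn (X p r) (X r p) := by
  obtain ⟨t, r', ht, htl, h1, -⟩ := exists_opp hN hp hpl hp hpl
  refine .head (adj hp hpl ht htl h1) (.single (adj ht htl hp.swap (li_swap hpl) ?_))
  simp only [opp, bt_comm t, bt_comm r'] at h1 ⊢
  exact fun e => h1 (by linear_combination -e)

theorem path (hN : 3 ≤ N) {Y Z : Matrix (Fin N ⊕ Fin N) (Fin N ⊕ Fin N) F} (hY : Y ∈ roots) (hZ : Z ∈ roots) :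
    Conn Y Z := by
  obtain ⟨p, r, hp, hpl, rfl⟩ := hY
  obtain ⟨s, w, hs, hsl, rfl⟩ := hZ
  refine (conn_swap hN hp hpl).trans ?_
  by_cases hps : LinearIndependent F ![p, s]
  · by_cases hc : bt p s = 0
    · have h : Sing s p := ⟨hs.left, hp.left, by rw [bt_comm]; exact hc⟩
      exact (conn_share hN hp.swap (li_swap hpl) h (li_swap hps)).trans
        ((conn_swap hN h (li_swap hps)).trans
          ((conn_share hN h.swap hps hs.swap (li_swap hsl)).trans (conn_swap hN hs.swap (li_swap hsl))))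
    · obtain ⟨t, ht0, htQ, ht⟩ := exists_kernel (k := 2) (by omega) ![p, s]
      have htp : bt p t = 0 := ht 0
      have hts : bt s t = 0 := ht 1
      have h1 : Sing t p := ⟨htQ, hp.left, by rw [bt_comm]; exact htp⟩
      have h2 : Sing t s := ⟨htQ, hs.left, by rw [bt_comm]; exact hts⟩
      have l1 : LinearIndependent F ![t, p] := by
        rw [LinearIndependent.pair_iff]
        intro a b hab
        have e := congrArg (bt s) hab
        simp only [bt_add_right, bt_smul_right, hts, mul_zero, zero_add, bt_comm s p] at e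
        have hb : b = 0 := (mul_eq_zero.1 (e.trans (by rw [bt_comm, bt_zero_left]))).resolve_right hc
        subst hb
        rw [zero_smul, add_zero] at hab
        exact ⟨(smul_eq_zero.1 hab).resolve_right ht0, rfl⟩
      have l2 : LinearIndependent F ![t, s] := by
        rw [LinearIndependent.pair_iff]
        intro a b hab
        have e := congrArg (bt p) hab
        simp only [bt_add_right, bt_smul_right, htp, mul_zero, zero_add] at e
        have hb : b = 0 := (mul_eq_zero.1 (e.trans (by rw [bt_comm, bt_zero_left]))).resolve_right hc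
        subst hb
        rw [zero_smul, add_zero] at hab
        exact ⟨(smul_eq_zero.1 hab).resolve_right ht0, rfl⟩
      exact (conn_share hN hp.swap (li_swap hpl) h1 l1).trans ((conn_swap hN h1 l1).trans
        ((conn_share hN h1.swap (li_swap l1) h2.swap (li_swap l2)).trans ((conn_swap hN h2.swap (li_swap l2)).trans
          ((conn_share hN h2 l2 hs.swap (li_swap hsl)).trans (conn_swap hN hs.swap (li_swap hsl))))))
  · obtain ⟨a, rfl⟩ : ∃ a : F, s = a • p := by
      rw [LinearIndependent.pair_iff] at hps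
      push Not at hps
      obtain ⟨a, b, hab, hne⟩ := hps
      have hb : b ≠ 0 := fun e => by
        subst e
        rw [zero_smul, add_zero] at hab
        exact hne ((smul_eq_zero.1 hab).resolve_right (hpl.ne_zero 0)) rfl
      refine ⟨-(b⁻¹ * a), ?_⟩
      have h2 : b • s = (-a) • p := by rw [neg_smul]; exact eq_neg_of_add_eq_zero_right hab
      calc s = b⁻¹ • b • s := by rw [smul_smul, inv_mul_cancel₀ hb, one_smul]
        _ = _ := by rw [h2, smul_smul, mul_neg]
    have hw : X (a • p) w = X p (a • w) := X_smul a p w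
    have hl : LinearIndependent F ![p, a • w] := li_of_X_ne (hw ▸ X_ne hsl)
    have h : Sing p (a • w) := ⟨hp.left, by rw [q_smul, hs.right, mul_zero],
      by rw [bt_smul_right, ← bt_smul_left]; exact hs.perp⟩
    rw [hw]
    exact (conn_share hN hp.swap (li_swap hpl) h.swap (li_swap hl)).trans (conn_swap hN h.swap (li_swap hl))

theorem conj_X (g : ↥(Cfsg.isometryGroup F (Cfsg.quadFormPlus N F))) (p r : Fin N ⊕ Fin N → F) :
    toMat g * X p r * toMat g⁻¹ = X (toMat g *ᵥ p) (toMat g *ᵥ r) := by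
  have e : toMat g * toMat g⁻¹ = 1 := by rw [← map_mul, mul_inv_cancel, map_one]
  refine Matrix.ext_iff_mulVec.2 fun v => ?_
  rw [← Matrix.mulVec_mulVec, ← Matrix.mulVec_mulVec, X_mulVec, X_mulVec, Matrix.mulVec_sub, Matrix.mulVec_smul,
    Matrix.mulVec_smul]
  conv_rhs => rw [← Matrix.one_mulVec v, ← e, ← Matrix.mulVec_mulVec, isom_bt, isom_bt]

/-- Let F be a field, m a natural number and V = F^{2(m+3)} with the hyperbolic quadratic form q(x, y) = Σ xᵢ yᵢ (non-degenerate, Witt index m + 3 ≥ 3). For a singular line ℓ (a 2-dimensional subspace on which q vanishes) let T(ℓ) be the group of isometries of q fixing every vector of ℓ^⊥ (the Siegel transvection group of ℓ), let Σ be the set of these groups and G₀ the subgroup they generate. Then, viewed inside G₀, the members of Σ form a set of abstract F-root subgroups of G₀ (any two commute, or are the unipotent subgroups of a rank one group that is an image of SL₂(F) with central kernel, or satisfy the commutator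 case), and their graph of rank one pairs is connected. -/
theorem result (F : Type*) [Field F] (m : ℕ) :
    Cfsg.IsKRootSubgroupSet F ((fun A : Subgroup ↥(Cfsg.isometryGroup F (Cfsg.quadFormPlus (m + 3) F)) => A.subgroupOf (⨆ B ∈ {A : Subgroup ↥(Cfsg.isometryGroup F (Cfsg.quadFormPlus (m + 3) F)) | ∃ p r : Fin (m + 3) ⊕ Fin (m + 3) → F, LinearIndependent F ![p, r] ∧
          Cfsg.quadFormPlus (m + 3) F p = 0 ∧ Cfsg.quadFormPlus (m + 3) F r = 0 ∧
          Cfsg.quadFormPlus (m + 3) F (p + r) = 0 ∧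
          A = Subgroup.closure {σ : ↥(Cfsg.isometryGroup F (Cfsg.quadFormPlus (m + 3) F)) | ∀ v : Fin (m + 3) ⊕ Fin (m + 3) → F,
            Cfsg.quadFormPlus (m + 3) F (v + p) - Cfsg.quadFormPlus (m + 3) F v - Cfsg.quadFormPlus (m + 3) F p = 0 →
            Cfsg.quadFormPlus (m + 3) F (v + r) - Cfsg.quadFormPlus (m + 3) F v - Cfsg.quadFormPlus (m + 3) F r = 0 →
              ((σ : Matrix.GeneralLinearGroup (Fin (m + 3) ⊕ Fin (m + 3)) F) : Matrix (Fin (m + 3) ⊕ Fin (m + 3)) (Fin (m + 3) ⊕ Fin (m + 3)) F) *ᵥ v = v}}, B)) ''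
      {A : Subgroup ↥(Cfsg.isometryGroup F (Cfsg.quadFormPlus (m + 3) F)) | ∃ p r : Fin (m + 3) ⊕ Fin (m + 3) → F, LinearIndependent F ![p, r] ∧
          Cfsg.quadFormPlus (m + 3) F p = 0 ∧ Cfsg.quadFormPlus (m + 3) F r = 0 ∧
          Cfsg.quadFormPlus (m + 3) F (p + r) = 0 ∧
          A = Subgroup.closure {σ : ↥(Cfsg.isometryGroup F (Cfsg.quadFormPlus (m + 3) F)) | ∀ v : Fin (m + 3) ⊕ Fin (m + 3) → F,
            Cfsg.quadFormPlus (m + 3) F (v + p) - Cfsg.quadFormPlus (m + 3) F v - Cfsg.quadFormPlus (m + 3) F p = 0 →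
            Cfsg.quadFormPlus (m + 3) F (v + r) - Cfsg.quadFormPlus (m + 3) F v - Cfsg.quadFormPlus (m + 3) F r = 0 →
              ((σ : Matrix.GeneralLinearGroup (Fin (m + 3) ⊕ Fin (m + 3)) F) : Matrix (Fin (m + 3) ⊕ Fin (m + 3)) (Fin (m + 3) ⊕ Fin (m + 3)) F) *ᵥ v = v}}) ∧
    Cfsg.IsConnectedFamily (Cfsg.FAdj {A : Subgroup ↥(Cfsg.isometryGroup F (Cfsg.quadFormPlus (m + 3) F)) | ∃ p r : Fin (m + 3) ⊕ Fin (m + 3) → F, LinearIndependent F ![p, r] ∧
          Cfsg.quadFormPlus (m + 3) F p = 0 ∧ Cfsg.quadFormPlus (m + 3) F r = 0 ∧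
          Cfsg.quadFormPlus (m + 3) F (p + r) = 0 ∧
          A = Subgroup.closure {σ : ↥(Cfsg.isometryGroup F (Cfsg.quadFormPlus (m + 3) F)) | ∀ v : Fin (m + 3) ⊕ Fin (m + 3) → F,
            Cfsg.quadFormPlus (m + 3) F (v + p) - Cfsg.quadFormPlus (m + 3) F v - Cfsg.quadFormPlus (m + 3) F p = 0 →
            Cfsg.quadFormPlus (m + 3) F (v + r) - Cfsg.quadFormPlus (m + 3) F v - Cfsg.quadFormPlus (m + 3) F r = 0 →
              ((σ : Matrix.GeneralLinearGroup (Fin (m + 3) ⊕ Fin (m + 3)) F) : Matrix (Fin (m + 3) ⊕ Fin (m + 3)) (Fin (m + 3) ⊕ Fin (m + 3)) F) *ᵥ v = v}})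
      {A : Subgroup ↥(Cfsg.isometryGroup F (Cfsg.quadFormPlus (m + 3) F)) | ∃ p r : Fin (m + 3) ⊕ Fin (m + 3) → F, LinearIndependent F ![p, r] ∧
          Cfsg.quadFormPlus (m + 3) F p = 0 ∧ Cfsg.quadFormPlus (m + 3) F r = 0 ∧
          Cfsg.quadFormPlus (m + 3) F (p + r) = 0 ∧
          A = Subgroup.closure {σ : ↥(Cfsg.isometryGroup F (Cfsg.quadFormPlus (m + 3) F)) | ∀ v : Fin (m + 3) ⊕ Fin (m + 3) → F,
            Cfsg.quadFormPlus (m + 3) F (v + p) - Cfsg.quadFormPlus (m + 3) F v - Cfsg.quadFormPlus (m + 3) F p = 0 →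
            Cfsg.quadFormPlus (m + 3) F (v + r) - Cfsg.quadFormPlus (m + 3) F v - Cfsg.quadFormPlus (m + 3) F r = 0 →
              ((σ : Matrix.GeneralLinearGroup (Fin (m + 3) ⊕ Fin (m + 3)) F) : Matrix (Fin (m + 3) ⊕ Fin (m + 3)) (Fin (m + 3) ⊕ Fin (m + 3)) F) *ᵥ v = v}} := by
  let S₀ : Set (Subgroup ↥(Cfsg.isometryGroup F (Cfsg.quadFormPlus (m + 3) F))) :=
    {A | ∃ p r : Fin (m + 3) ⊕ Fin (m + 3) → F, LinearIndependent F ![p, r] ∧
      Cfsg.quadFormPlus (m + 3) F p = 0 ∧ Cfsg.quadFormPlus (m + 3) F r = 0 ∧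
      Cfsg.quadFormPlus (m + 3) F (p + r) = 0 ∧ A = TG p r}
  let G₀ := ⨆ B ∈ S₀, B
  let ι : ↥G₀ →* Matrix (Fin (m + 3) ⊕ Fin (m + 3)) (Fin (m + 3) ⊕ Fin (m + 3)) F := toMat.comp G₀.subtype
  show Cfsg.IsKRootSubgroupSet F ((fun A => A.subgroupOf G₀) '' S₀) ∧ Cfsg.IsConnectedFamily (Cfsg.FAdj S₀) S₀
  have hS₀ : S₀ = CfsgLib.LinRoot.T (k := F) toMat '' roots := by
    ext A
    constructor
    · rintro ⟨p, r, hli, h1, h2, h3, rfl⟩
      exact ⟨_, ⟨p, r, sing_iff.2 ⟨h1, h2, h3⟩, hli, rfl⟩, (TG_eq (sing_iff.2 ⟨h1, h2, h3⟩) hli).symm⟩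
    · rintro ⟨_, ⟨p, r, hs, hli, rfl⟩, rfl⟩
      obtain ⟨h1, h2, h3⟩ := sing_iff.1 hs
      exact ⟨p, r, hli, h1, h2, h3, (TG_eq hs hli).symm⟩
  have hN : 3 ≤ m + 3 := by omega
  refine ⟨?_, connected toMat_inj (fun Y hY => isRoot hY) hS₀ (fun Y hY Z hZ => path hN hY hZ)⟩
  have hι : Function.Injective ι := toMat_inj.comp Subtype.val_injective
  have hr : ∀ Y ∈ roots (N := m + 3), IsRoot (k := F) ι Y := by
    intro Y hY
    refine (isRoot hY).restrict ?_
    have : CfsgLib.LinRoot.T (k := F) toMat Y ∈ S₀ := hS₀ ▸ Set.mem_image_of_mem _ hY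
    exact le_iSup₂ (f := fun B (_ : B ∈ S₀) => B) _ this
  have hS : (fun A => A.subgroupOf G₀) '' S₀ = CfsgLib.LinRoot.T (k := F) ι '' roots := by
    rw [hS₀, Set.image_image]
    exact Set.image_congr fun Y hY => T_subgroupOf (isRoot hY).sq G₀
  refine kRootSet hι hr hS ?_ (iSup_subgroupOf S₀) (fun Y hY Z hZ => pair hY hZ)
  rintro Y ⟨p, r, hs, hli, rfl⟩ g
  rw [conjBy_T hι (sing_X_sq hs), hS]
  set g' : ↥(Cfsg.isometryGroup F (Cfsg.quadFormPlus (m + 3) F)) := (g : ↥(Cfsg.isometryGroup F (Cfsg.quadFormPlus (m + 3) F))) with hg'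
  refine ⟨_, ⟨toMat g' *ᵥ p, toMat g' *ᵥ r, ⟨by rw [isom_q]; exact hs.left, by rw [isom_q]; exact hs.right,
    by rw [isom_bt]; exact hs.perp⟩, ?_, rfl⟩, ?_⟩
  · apply li_of_X_ne
    rw [← conj_X]
    intro e
    apply X_ne hli
    have h2 := congrArg (fun M => toMat g'⁻¹ * M * toMat g') e
    have e1 : toMat g'⁻¹ * toMat g' = 1 := by rw [← map_mul, inv_mul_cancel, map_one]
    rw [show toMat g'⁻¹ * (toMat g' * X p r * toMat g'⁻¹) * toMat g' = (toMat g'⁻¹ * toMat g') * X p r * (toMat g'⁻¹ * toMat g') by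
      simp only [mul_assoc], e1, one_mul, mul_one, mul_zero, zero_mul] at h2
    exact h2
  · congr 1
    exact (conj_X g' p r).symm

end Cfsg.Agent.S5072
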