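import Cfsg.Statements.S5075
import Cfsg.Agent.McLaughlin.Main

set_option autoImplicit false
open Cfsg

namespace Cfsg.Agent.S5075

/-- The representation for a component, or for the empty padding component. -/
lemma rep_option {p : ℕ} [Fact p.Prime] {V : Type*} [AddCommGroup V] [Module (ZMod p) V] [Finite V]
    {H : Subgroup (V ≃ₗ[ZMod p] V)} (hB : ∀ q : CfsgLib.McL.Classes H, CfsgLib.McL.Block (CfsgLib.McL.comp q))
    (i : Option (CfsgLib.McL.Classes H)) :
    let K : Subgroup (V ≃ₗ[ZMod p] V) := i.elim ⊥ (fun q => CfsgLib.McL.comp q)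
    let W : Submodule (ZMod p) V := i.elim ⊥ (fun q => CfsgLib.McL.centres (CfsgLib.McL.comp q))
    ∃ ρ : ↥K →* (↥W ≃ₗ[ZMod p] ↥W),
        (∀ (h : ↥K) (v : ↥W), ((ρ h v : ↥W) : V) = (h : V ≃ₗ[ZMod p] V) (v : V)) ∧
        ((ρ.range : Set (↥W ≃ₗ[ZMod p] ↥W)) =
            {f : ↥W ≃ₗ[ZMod p] ↥W | LinearMap.det (f : ↥W →ₗ[ZMod p] ↥W) = 1} ∨
          ∃ B : LinearMap.BilinForm (ZMod p) ↥W, B.IsAlt ∧ B.Nondegenerate ∧
            (ρ.range : Set (↥W ≃ₗ[ZMod p] ↥W)) =
              {f : ↥W ≃ₗ[ZMod p] ↥W | ∀ x y, B (f x) (f y) = B x y}) := by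
  cases i with
  | none =>
    intro K W
    haveI : Subsingleton ↥W := ⟨fun x y => Subtype.ext
      (((Submodule.mem_bot _).1 x.2).trans ((Submodule.mem_bot _).1 y.2).symm)⟩
    refine ⟨1, fun h v => ?_, Or.inl ?_⟩
    · have h1 : (v : V) = 0 := (Submodule.mem_bot _).1 v.2
      simp [h1]
    · refine Set.ext fun f => ⟨fun _ => ?_, fun _ => ⟨1, LinearEquiv.ext fun x => Subsingleton.elim _ _⟩⟩
      have : (f : ↥W →ₗ[ZMod p] ↥W) = LinearMap.id := LinearMap.ext fun x => Subsingleton.elim _ _
      change LinearMap.det (f : ↥W →ₗ[ZMod p] ↥W) = 1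
      rw [this, LinearMap.det_id]
  | some q => exact CfsgLib.McL.exists_rep (hB q)

/-- Let p be an odd prime, V a finite-dimensional vector space over the field with p elements, and H a group of linear automorphisms of V generated by transvections (elements of order p fixing a hyperplane pointwise) and having no nontrivial normal p-subgroup. Then for some n ≥ 1 there are a decomposition V = V₀ ⊕ V₁ ⊕ ⋯ ⊕ Vₙ into H-invariant subspaces and a decomposition of H as the internal direct product of normal subgroups H₁, …, Hₙ such that Hⱼ acts trivially on every Vᵢ with i ≠ j, and Hⱼ induces on Vⱼ exactly the special linear group of Vⱼ or exactly the isometry group of a non-degenerate alternating form on Vⱼ. -/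
theorem result {p : ℕ} [Fact p.Prime] (hp : Odd p) {V : Type*} [AddCommGroup V] [Module (ZMod p) V] [Finite V]
    (H : Subgroup (V ≃ₗ[ZMod p] V)) (T : Set (V ≃ₗ[ZMod p] V)) (hHT : H = Subgroup.closure T)
    (hT : ∀ t ∈ T, orderOf t = p ∧
      Module.finrank (ZMod p) ↥(LinearMap.ker ((t : V →ₗ[ZMod p] V) - LinearMap.id)) + 1 =
        Module.finrank (ZMod p) V)
    (hOp : Cfsg.pCore p ↥H = ⊥) :
    ∃ (n : ℕ) (W : Fin (n + 1) → Submodule (ZMod p) V) (K : Fin n → Subgroup (V ≃ₗ[ZMod p] V)),
      1 ≤ n ∧ DirectSum.IsInternal W ∧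
      (∀ h ∈ H, ∀ i, (W i).map (h : V →ₗ[ZMod p] V) = W i) ∧
      (∀ j, K j ≤ H ∧ ((K j).subgroupOf H).Normal) ∧ ⨆ j, K j = H ∧
      (∀ j, K j ⊓ (⨆ j' ∈ {j' : Fin n | j' ≠ j}, K j') = ⊥) ∧
      (∀ j j', j ≠ j' → ∀ a ∈ K j, ∀ b ∈ K j', a * b = b * a) ∧
      (∀ j, ∀ h ∈ K j, ∀ i : Fin (n + 1), i ≠ j.succ → ∀ v ∈ W i, h v = v) ∧
      (∀ j, ∃ ρ : ↥(K j) →* (↥(W j.succ) ≃ₗ[ZMod p] ↥(W j.succ)),
        (∀ (h : ↥(K j)) (v : ↥(W j.succ)), ((ρ h v : ↥(W j.succ)) : V) = (h : V ≃ₗ[ZMod p] V) (v : V)) ∧
        ((ρ.range : Set (↥(W j.succ) ≃ₗ[ZMod p] ↥(W j.succ))) =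
            {f : ↥(W j.succ) ≃ₗ[ZMod p] ↥(W j.succ) | LinearMap.det (f : ↥(W j.succ) →ₗ[ZMod p] ↥(W j.succ)) = 1} ∨
          ∃ B : LinearMap.BilinForm (ZMod p) ↥(W j.succ), B.IsAlt ∧ B.Nondegenerate ∧
            (ρ.range : Set (↥(W j.succ) ≃ₗ[ZMod p] ↥(W j.succ))) = {f : ↥(W j.succ) ≃ₗ[ZMod p] ↥(W j.succ) | ∀ x y, B (f x) (f y) = B x y})) := by
  classical
  haveI : Finite (V ≃ₗ[ZMod p] V) := CfsgLib.McL.finite_equiv
  haveI : Finite (Module.Dual (ZMod p) V) := Module.finite_of_finite (ZMod p)
  have hp3 : 3 ≤ p := by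
    have h2 := (Fact.out : p.Prime).two_le
    obtain ⟨k, hk⟩ := hp
    omega
  have hgen := CfsgLib.McL.le_closure_pairs hHT fun t ht =>
    CfsgLib.McL.exists_pair_of_transvection (hT t ht).1 (hT t ht).2
  haveI : Fintype (CfsgLib.McL.Classes H) := Fintype.ofFinite _
  obtain ⟨hind, hsup⟩ := CfsgLib.McL.isInternal_parts hgen hp3 hOp
  let W₀ : Submodule (ZMod p) V := ⨅ q : CfsgLib.McL.Classes H, CfsgLib.McL.axker (CfsgLib.McL.comp q)
  let part : Option (CfsgLib.McL.Classes H) → Submodule (ZMod p) V := fun i =>
    i.elim W₀ (fun q => CfsgLib.McL.centres (CfsgLib.McL.comp q))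
  let U : Option (CfsgLib.McL.Classes H) → Submodule (ZMod p) V := fun i =>
    i.elim ⊥ (fun q => CfsgLib.McL.centres (CfsgLib.McL.comp q))
  let Kc : Option (CfsgLib.McL.Classes H) → Subgroup (V ≃ₗ[ZMod p] V) := fun i =>
    i.elim ⊥ (fun q => CfsgLib.McL.comp q)
  let n := Fintype.card (Option (CfsgLib.McL.Classes H))
  let e : Fin n ≃ Option (CfsgLib.McL.Classes H) := (Fintype.equivFin _).symm
  let W : Fin (n + 1) → Submodule (ZMod p) V := Fin.cons W₀ (fun j => U (e j))
  have hW0 : W 0 = W₀ := rfl
  have hWs : ∀ j : Fin n, W j.succ = U (e j) := fun j => Fin.cons_succ _ _ j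
  have hn : 1 ≤ n := Fintype.card_pos
  -- membership of the parts
  have hfixU : ∀ q, ∀ h ∈ CfsgLib.McL.comp q, ∀ x ∈ CfsgLib.McL.axker (CfsgLib.McL.comp q), h x = x :=
    fun q h hh x hx => CfsgLib.McL.fix_axker (CfsgLib.McL.block_comp hgen hp3 hOp q) hh hx
  have hother : ∀ q, ∀ i : Fin (n + 1), (∀ j : Fin n, i = j.succ → e j ≠ some q) →
      W i ≤ CfsgLib.McL.axker (CfsgLib.McL.comp q) := by
    intro q i hi
    induction i using Fin.cases with
    | zero => rw [hW0]; exact iInf_le (fun r => CfsgLib.McL.axker (CfsgLib.McL.comp r)) q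
    | succ j =>
      rw [hWs]
      cases hj : e j with
      | none => exact bot_le
      | some r => exact CfsgLib.McL.centres_le_axker hgen hp3 hOp fun er => hi j rfl (by rw [hj, er])
  have hK : ∀ j, Kc (e j) ≤ H := fun j => by
    cases e j with
    | none => exact bot_le
    | some q => exact CfsgLib.McL.comp_le q
  refine ⟨n, W, fun j => Kc (e j), hn, ?_, ?_, fun j => ⟨hK j, ?_⟩, ?_, ?_, ?_, ?_, ?_⟩
  · -- internal direct sum
    refine DirectSum.isInternal_submodule_of_iSupIndep_of_iSup_eq_top ?_ ?_
    · let g : Fin (n + 1) → Option (CfsgLib.McL.Classes H) := Fin.cons none (fun j => e j)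
      have hWg : ∀ i, W i ≤ part (g i) := fun i => by
        induction i using Fin.cases with
        | zero => exact le_rfl
        | succ j =>
          rw [hWs, show g j.succ = e j from Fin.cons_succ _ _ j]
          cases e j with
          | none => exact bot_le
          | some q => exact le_rfl
      have hinj : ∀ i i', W i ≠ ⊥ → W i' ≠ ⊥ → g i = g i' → i = i' := by
        intro i i' h1 h2 hg
        induction i using Fin.cases with
        | zero =>
          induction i' using Fin.cases with
          | zero => rfl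
          | succ j =>
            have : e j = none := hg.symm
            exact absurd (by rw [hWs, this]; rfl) h2
        | succ j =>
          induction i' using Fin.cases with
          | zero =>
            have : e j = none := hg
            exact absurd (by rw [hWs, this]; rfl) h1
          | succ j' =>
            have : e j = e j' := hg
            rw [e.injective this]
      rw [iSupIndep_def]
      intro i
      by_cases hi : W i = ⊥
      · rw [hi]; exact disjoint_bot_left
      refine (iSupIndep_def.1 hind (g i)).mono (hWg i) (iSup₂_le fun i' hne => ?_)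
      by_cases hi' : W i' = ⊥
      · rw [hi']; exact bot_le
      exact (hWg i').trans (le_iSup₂ (f := fun j (_ : j ≠ g i) => part j) (g i')
        fun hg => hne (hinj i' i hi' hi hg))
    · refine top_le_iff.1 (le_of_eq_of_le hsup.symm (iSup_le fun i => ?_))
      cases i with
      | none => exact le_iSup W 0
      | some q =>
        refine le_trans (le_of_eq ?_) (le_iSup W (e.symm (some q)).succ)
        rw [hWs, Equiv.apply_symm_apply]
        rfl
  · -- invariance
    intro h hh i
    induction i using Fin.cases with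
    | zero =>
      rw [hW0]
      have hfix : ∀ x ∈ W₀, h x = x := by
        intro x hx
        have hh' := hgen hh
        clear hh
        induction hh' using Subgroup.closure_induction with
        | mem y hy =>
          obtain ⟨z, rfl⟩ := hy
          exact hfixU (Quot.mk _ z) _ (Subgroup.subset_closure ⟨z, rfl, rfl⟩) x
            ((Submodule.mem_iInf _).1 hx _)
        | one => rfl
        | mul a b _ _ iha ihb => rw [LinearEquiv.mul_apply, ihb, iha]
        | inv a _ iha =>
          change a.symm x = x
          exact a.symm_apply_eq.2 iha.symm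
      ext x
      constructor
      · rintro ⟨y, hy, rfl⟩
        rw [LinearEquiv.coe_coe, hfix y hy]
        exact hy
      · exact fun hx => ⟨x, hx, hfix x hx⟩
    | succ j =>
      rw [hWs]
      cases e j with
      | none => exact Submodule.map_bot _
      | some q => exact CfsgLib.McL.map_centres hgen hh q
  · -- normality
    change ((Kc (e j)).subgroupOf H).Normal
    cases e j with
    | none => exact ⟨fun g hg k => by
        have hg' : g = 1 := Subtype.ext (Subgroup.mem_bot.1 hg)
        rw [hg', mul_one, mul_inv_cancel]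
        exact Subgroup.one_mem _⟩
    | some q => exact CfsgLib.McL.normal_comp hgen q
  · -- generation
    refine le_antisymm (iSup_le hK) (hgen.trans ((Subgroup.closure_le _).2 ?_))
    rintro _ ⟨z, rfl⟩
    refine (le_iSup (fun j => Kc (e j)) (e.symm (some (Quot.mk _ z)))) ?_
    simp only [Equiv.apply_symm_apply]
    exact Subgroup.subset_closure ⟨z, rfl, rfl⟩
  · -- independence
    intro j
    change Kc (e j) ⊓ _ = ⊥
    cases hj : e j with
    | none => exact bot_inf_eq _
    | some q =>
      rw [Subgroup.eq_bot_iff_forall]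
      rintro g ⟨hg, hg'⟩
      have hfix : ∀ u ∈ CfsgLib.McL.centres (CfsgLib.McL.comp q), g u = u := by
        intro u hu
        let S : Subgroup (V ≃ₗ[ZMod p] V) :=
          { carrier := {k | k u = u}
            one_mem' := rfl
            mul_mem' := fun {a b} ha hb => show a (b u) = u by
              rw [show b u = u from hb, show a u = u from ha]
            inv_mem' := fun {a} ha => show a.symm u = u from a.symm_apply_eq.2 (show a u = u from ha).symm }
        have hle : (⨆ j' ∈ {j' : Fin n | j' ≠ j}, Kc (e j')) ≤ S := by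
          refine iSup₂_le fun j' hj' => ?_
          cases hj'' : e j' with
          | none => exact bot_le
          | some r =>
            have hne : q ≠ r := fun er => hj' (e.injective (by rw [hj'', hj, er]))
            exact fun k hk => hfixU r k hk u (CfsgLib.McL.centres_le_axker hgen hp3 hOp hne hu)
        exact hle hg'
      refine LinearEquiv.ext fun x => ?_
      have hB := CfsgLib.McL.block_comp hgen hp3 hOp q
      obtain ⟨u, hu, w, hw, rfl⟩ := Submodule.mem_sup.1
        ((CfsgLib.McL.isCompl_centres_axker hB).sup_eq_top ▸ Submodule.mem_top :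
          x ∈ CfsgLib.McL.centres (CfsgLib.McL.comp q) ⊔ CfsgLib.McL.axker (CfsgLib.McL.comp q))
      rw [map_add, hfix u hu, hfixU q g hg w hw]
      rfl
  · -- commuting
    intro j j' hne a ha b hb
    cases hj : e j with
    | none =>
      simp only [hj, Kc] at ha
      rw [Subgroup.mem_bot.1 ha, one_mul, mul_one]
    | some q =>
      cases hj' : e j' with
      | none =>
        simp only [hj', Kc] at hb
        rw [Subgroup.mem_bot.1 hb, one_mul, mul_one]
      | some r =>
        simp only [hj, Kc] at ha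
        simp only [hj', Kc] at hb
        exact (CfsgLib.McL.commute_comp (fun er => hne (e.injective (by rw [hj, hj', er]))) ha hb).eq
  · -- supports
    intro j h hh i hi v hv
    cases hj : e j with
    | none =>
      simp only [hj, Kc] at hh
      rw [Subgroup.mem_bot.1 hh]
      rfl
    | some q =>
      simp only [hj, Kc] at hh
      exact hfixU q h hh v (hother q i (fun j' e' h' => hi (by rw [e', e.injective (h'.trans hj.symm)])) hv)
  · -- induced groups
    intro j
    rw [hWs]
    exact rep_option (fun q => CfsgLib.McL.block_comp hgen hp3 hOp q) (e j)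

end Cfsg.Agent.S5075
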