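import Cfsg.Statements.S5083
import Cfsg.Agent.Fusion.Alperin

set_option autoImplicit false
open Cfsg Cfsg.FusionSystem CfsgLib.Fusion

namespace Cfsg.Agent.S5083

/-- If F is a saturated fusion system over a finite p-group S in which Aut_F(P) is a p-group for every P ≤ S, then F is the inner fusion system of S (all its maps are conjugations by elements of S). -/
theorem result {Ω : Type*} [Group Ω] {S : Subgroup Ω} [Finite S] (p : ℕ) [Fact p.Prime] (hS : IsPGroup p S) (F : Cfsg.FusionSystem S) (hF : F.IsSaturated p) (h : ∀ P : Subgroup Ω, P ≤ S → IsPGroup p (F.autGroup P)) : F = Cfsg.innerFusionSystem S := by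
  refine le_antisymm' (alperin_saturated p hS hF _ ?_) (inner_le F)
  have hfin : ∀ P : Subgroup Ω, P ≤ S → Finite (MulAut P) := fun P hP => by
    have := finite_of_le hP
    exact finite_mulAut
  rintro P (rfl | hP)
  · obtain ⟨⟨-, R, hR⟩, -⟩ := good_of_fullyNormalized p hS hF isFullyNormalized_S
    have htop : (⊤ : Subgroup (F.autGroup P)) = R :=
      R.3 ((h P le_rfl).of_equiv Subgroup.topEquiv.symm) le_top
    rw [hR] at htop
    intro α hα
    exact autInducedBy_le_autGroup le_rfl
      (Subgroup.mem_subgroupOf.1 (htop.le (Subgroup.mem_top (⟨α, hα⟩ : F.autGroup P))))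
  · exfalso
    obtain ⟨hc, -, hn, Y, hY⟩ := hP
    have := hfin P hc.1
    have hX : IsPGroup p (F.autGroup P ⧸ (Inn P).subgroupOf (F.autGroup P)) := (h P hc.1).to_quotient _
    have hle := CfsgLib.Solvable.le_pCore p
      (N := (⊤ : Subgroup (F.autGroup P ⧸ (Inn P).subgroupOf (F.autGroup P))))
      inferInstance (hX.of_equiv Subgroup.topEquiv.symm)
    rw [pCore_eq_bot_of_stronglyPEmbedded p hY, le_bot_iff, ← Subgroup.card_eq_one,
      Subgroup.card_top] at hle
    have h1 := hY.1
    rw [hle, Nat.dvd_one] at h1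
    exact (Fact.out : p.Prime).ne_one h1

end Cfsg.Agent.S5083
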