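import Cfsg.Statements.S5087
import Cfsg.Agent.Fusion.NormalCriteria

set_option autoImplicit false
open Cfsg Cfsg.FusionSystem CfsgLib.Fusion

namespace Cfsg.Agent.S5087

/-- In a saturated fusion system over a finite p-group S, a subgroup Q is normal in the system if and only if every subgroup P that equals S or is essential contains Q and every element of Aut_F(P) maps Q onto itself. -/
theorem result {Ω : Type*} [Group Ω] {S : Subgroup Ω} [Finite S] (p : ℕ) [Fact p.Prime] (hS : IsPGroup p S) (F : Cfsg.FusionSystem S) (hF : F.IsSaturated p) (Q : Subgroup Ω) : F.IsNormal Q ↔ ∀ P : Subgroup Ω, (P = S ∨ F.IsEssential p P) → (Q ≤ P ∧ ∀ α ∈ F.autGroup P, (Q.subgroupOf P).map α.toMonoidHom = Q.subgroupOf P) := by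
  constructor
  · intro h P hP
    have hsc := stronglyClosed_of_isNormal h
    have hPS : P ≤ S := by
      rcases hP with rfl | hP
      exacts [le_rfl, hP.1.1]
    have hQP : Q ≤ P := by
      rcases hP with rfl | hP
      exacts [h.1, le_essential p hS h hP]
    refine ⟨hQP, fun α hα => ?_⟩
    ext x
    constructor
    · rintro ⟨y, hy, rfl⟩
      exact le_of_stronglyClosed_aut hsc hPS hα y hy
    · intro hx
      exact ⟨α⁻¹ x, le_of_stronglyClosed_aut hsc hPS (inv_mem hα) x hx, MulAut.apply_inv_self _ _ _⟩
  · intro h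
    refine isNormal_of_essential p hS hF (fun P hP => (h P hP).1) fun P hP α hα x hx => ?_
    exact ((h P hP).2 α hα).le ⟨x, hx, rfl⟩

end Cfsg.Agent.S5087
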