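import Cfsg.Statements.S5088
import Cfsg.Agent.Fusion.NormalCriteria

set_option autoImplicit false
open Cfsg Cfsg.FusionSystem CfsgLib.Fusion

namespace Cfsg.Agent.S5088

/-- In a saturated fusion system over a finite p-group, a subgroup Q is normal in the system if and only if there is a chain of subgroups 1 = Q₀ ≤ Q₁ ≤ ⋯ ≤ Qₙ = Q such that each Qᵢ with i ≥ 1 is strongly closed in the system and [Q, Qᵢ] ≤ Qᵢ₋₁. -/
theorem result {Ω : Type*} [Group Ω] {S : Subgroup Ω} [Finite S] (p : ℕ) [Fact p.Prime] (hS : IsPGroup p S) (F : Cfsg.FusionSystem S) (hF : F.IsSaturated p) (Q : Subgroup Ω) : F.IsNormal Q ↔ ∃ (n : ℕ) (Qs : Fin (n + 1) → Subgroup Ω), Qs 0 = ⊥ ∧ Qs (Fin.last n) = Q ∧ Monotone Qs ∧ ∀ i : Fin n, F.StronglyClosed (Qs i.succ) ∧ ⁅Q, Qs i.succ⁆ ≤ Qs (Fin.castSucc i) := by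
  constructor
  · intro h
    obtain ⟨n, C, h0, hn, hm, hc, hC⟩ := exists_series p hS h
    refine ⟨n, C, h0, hn, hm, fun i => ⟨stronglyClosed_of_isNormal (hC _), ?_⟩⟩
    rw [Subgroup.commutator_comm]
    exact hc i
  · rintro ⟨n, C, h0, hn, hm, hC⟩
    have hsc := stronglyClosed_of_succ h0 fun i => (hC i).1
    refine isNormal_of_series p hS hF (hn ▸ hsc (Fin.last n)) C h0 hn (fun i => ?_) hm
      fun i => weaklyClosed_of_stronglyClosed (hsc _)
    rw [Subgroup.commutator_comm]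
    exact (hC i).2

end Cfsg.Agent.S5088
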