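import Cfsg.Statements.S5092
import Cfsg.Agent.Fusion.FocalClosure

set_option autoImplicit false
open Cfsg Cfsg.FusionSystem CfsgLib.Fusion

namespace Cfsg.Agent.S5092

/-- For a saturated fusion system over a finite p-group S, the focal subgroup is the product of the hyperfocal subgroup and the derived subgroup of S. -/
theorem result {Ω : Type*} [Group Ω] {S : Subgroup Ω} [Finite S] (p : ℕ) [Fact p.Prime] (hS : IsPGroup p S) (F : Cfsg.FusionSystem S) (hF : F.IsSaturated p) : F.focalSubgroup = F.hyperfocalSubgroup p ⊔ ⁅(S : Subgroup Ω), (S : Subgroup Ω)⁆ := by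
  refine le_antisymm ?_ (sup_le ?_ commutator_le_focal)
  · exact focalSubgroup_le_of_pResidual p hS hF le_sup_right fun P hP α hα x =>
      Subgroup.mem_sup_left (Subgroup.subset_closure ⟨P, α, x, (by
        rcases hP with rfl | hP
        · exact le_rfl
        · exact hP.1.1), hα, rfl⟩)
  · refine (Subgroup.closure_le _).2 ?_
    rintro _ ⟨P, α, x, hP, -, rfl⟩
    exact Subgroup.subset_closure ⟨P, _, x, (autGroup_carrier hP).1 α.2, rfl⟩

end Cfsg.Agent.S5092
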