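import Cfsg.Statements.S5094
import Cfsg.Agent.Fusion.NormalCriteria
import Cfsg.Agent.Fusion.GroupSystem
import Cfsg.Agent.Invol.CentralWeak

set_option autoImplicit false
open Cfsg Cfsg.FusionSystem CfsgLib.Fusion

namespace Cfsg.Agent.S5094

/-- Glauberman's Z*-Theorem in fusion language: for a finite group G with Sylow 2-subgroup S, the centre of the fusion system of G on S is the set of elements of S whose image in G/O(G) is central, O(G) being the largest normal subgroup of odd order. -/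
theorem result {G : Type*} [Group G] [Finite G] (S : Sylow 2 G) : (Cfsg.groupFusionSystem (S : Subgroup G)).center = (S : Subgroup G) ⊓ (Subgroup.center (G ⧸ Cfsg.oddCore G)).comap (QuotientGroup.mk' (Cfsg.oddCore G)) := by
  haveI : Fact (Nat.Prime 2) := ⟨Nat.prime_two⟩
  set F := groupFusionSystem (S : Subgroup G)
  have hF := groupFusion_saturated S
  refine le_antisymm ?_ (le_center (isCentral_of_fixed 2 S.2 hF inf_le_left ?_))
  · intro x hx
    refine Subgroup.mem_inf.2 ⟨center_le_S hx, ?_⟩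
    have hal : ∀ i : ℕ, CfsgLib.CentralWeak.Alone (S : Subgroup G) (x ^ i) := fun i g hg => by
      have hi := pow_mem hx i
      have hφ : conjHom (Subgroup.zpowers (x ^ i)) g ∈ F.Hom (Subgroup.zpowers (x ^ i)) := by
        refine ⟨Subgroup.zpowers_le.2 (center_le_S hi), fun y => ?_, g, fun y => rfl⟩
        obtain ⟨j, hj⟩ := Subgroup.mem_zpowers_iff.1 y.2
        show g * (y : G) * g⁻¹ ∈ (S : Subgroup G)
        rw [← hj, ← conj_zpow]
        exact zpow_mem hg j
      exact isCentral_fix isCentral_center hφ ⟨x ^ i, Subgroup.mem_zpowers _⟩ hi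
    obtain ⟨k, hk⟩ := S.2 ⟨x, center_le_S hx⟩
    have key := CfsgLib.CentralWeak.comm_mem_oddCore k S x (center_le_S hx) (congrArg Subtype.val hk) hal
    refine Subgroup.mem_center_iff.2 fun y => ?_
    obtain ⟨g, rfl⟩ := QuotientGroup.mk'_surjective _ y
    have h1 : QuotientGroup.mk' (oddCore G) (g * x * g⁻¹ * x⁻¹) = 1 := (QuotientGroup.eq_one_iff _).2 (key g)
    rw [map_mul, map_mul, map_mul, map_inv, map_inv, mul_inv_eq_one, mul_inv_eq_iff_eq_mul] at h1
    exact h1
  · rintro x ⟨hxS, hxc⟩ y ⟨φ, ⟨-, hφS, g, hg⟩, rfl⟩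
    rw [hg]
    have hg' := hφS ⟨x, Subgroup.mem_zpowers x⟩
    rw [hg] at hg'
    have h1 : QuotientGroup.mk' (oddCore G) (g * x * g⁻¹ * x⁻¹) = 1 := by
      rw [map_mul, map_mul, map_mul, map_inv, map_inv, Subgroup.mem_center_iff.1 hxc _,
        mul_inv_cancel_right, mul_inv_cancel]
    have h2 : g * x * g⁻¹ * x⁻¹ ∈ oddCore G := (QuotientGroup.eq_one_iff _).1 h1
    have hodd : Odd (Nat.card (oddCore G)) := CfsgLib.IsoApps.odd_oddCore
    have hdis : (S : Subgroup G) ⊓ oddCore G = ⊥ := disjoint_iff.1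
      (Subgroup.disjoint_of_coprime_natCard ((S.2.card_eq_or_dvd).elim (fun h => by rw [h]; exact Nat.coprime_one_left _) fun h => ?_))
    · exact mul_inv_eq_one.1 (Subgroup.mem_bot.1 (hdis ▸ Subgroup.mem_inf.2 ⟨mul_mem hg' (inv_mem hxS), h2⟩))
    · obtain ⟨n, hn⟩ := IsPGroup.iff_card.1 S.2
      rw [hn]
      exact (Nat.coprime_two_left.2 hodd).pow_left n

end Cfsg.Agent.S5094
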