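import Cfsg.Statements.S5102
import Cfsg.Agent.Fusion.GroupSystem
import Cfsg.Agent.Fusion.Local

set_option autoImplicit false
open Cfsg Cfsg.FusionSystem CfsgLib.Fusion

namespace Cfsg.Agent.S5102

/-- A normal p-subgroup of a finite group G is normal in the fusion system of G on a Sylow p-subgroup. -/
theorem result {G : Type*} [Group G] [Finite G] (p : ℕ) [Fact p.Prime] (S : Sylow p G) (R : Subgroup G) [R.Normal] (hR : IsPGroup p R) : (Cfsg.groupFusionSystem (S : Subgroup G)).IsNormal R := by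
  have hRS : R ≤ (S : Subgroup G) := by
    obtain ⟨T, hT⟩ := hR.exists_le_sylow
    obtain ⟨g, hg⟩ := MulAction.exists_smul_eq G T S
    intro x hx
    rw [← hg, Sylow.coe_subgroup_smul]
    refine ⟨g⁻¹ * x * g, hT ?_, by simp [MulAut.conj_apply, mul_assoc]⟩
    simpa using Subgroup.Normal.conj_mem inferInstance x hx g⁻¹
  refine ⟨hRS, fun P φ hφ => ?_⟩
  obtain ⟨g, hg⟩ := hφ.2.2
  refine ⟨conjHom (P ⊔ R) g, conjHom_mem_groupFusion (sup_le hφ.1 hRS) fun x hx => ?_,
    fun x => (hg x).symm, ?_⟩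
  · have hmem : (P ⊔ R).map (MulAut.conj g).toMonoidHom ≤ (S : Subgroup G) := by
      rw [Subgroup.map_sup, sup_le_iff]
      constructor
      · rw [← range_eq_map_conj hg]
        exact range_le_S hφ
      · rintro _ ⟨y, hy, rfl⟩
        exact hRS (Subgroup.Normal.conj_mem inferInstance y hy g)
    exact hmem ⟨x, hx, rfl⟩
  · ext y
    rw [mem_map_subgroupOf]
    constructor
    · rintro ⟨x, -, hxR, rfl⟩
      exact Subgroup.Normal.conj_mem inferInstance x hxR g
    · intro hy
      have hm : g⁻¹ * y * g ∈ R := by simpa using Subgroup.Normal.conj_mem inferInstance y hy g⁻¹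
      exact ⟨_, le_sup_right (a := P) hm, hm, by simp [mul_assoc]⟩

end Cfsg.Agent.S5102
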