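import Cfsg.Statements.S5104
import Cfsg.Agent.Fusion.Saturation

set_option autoImplicit false
open Cfsg Cfsg.FusionSystem CfsgLib.Fusion

namespace Cfsg.Agent.S5104

/-- In a saturated fusion system over a finite p-group S, a fully centralized subgroup U with C_S(U) ≤ U is centric. -/
theorem result {Ω : Type*} [Group Ω] {S : Subgroup Ω} [Finite S] (p : ℕ) [Fact p.Prime] (hS : IsPGroup p S) (F : Cfsg.FusionSystem S) (hF : F.IsSaturated p) (U : Subgroup Ω) (hU : F.IsFullyCentralized U) (hC : Cfsg.FusionSystem.centralizerIn S U ≤ U) : F.IsCentric U := by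
  refine ⟨hU.1, fun Q hQ => ?_⟩
  have hQS : Q ≤ S := IsConj.le_right hQ
  obtain ⟨φ, hφ, rfl⟩ := hQ
  have h1 : Nat.card (centralizerIn S φ.range) ≤ Nat.card (centralizerIn S U) :=
    hU.2 _ ⟨φ, hφ, rfl⟩
  have himg : ∀ g (hg : g ∈ centralizerIn S U), φ ⟨g, hC hg⟩ ∈ centralizerIn S φ.range := by
    intro g hg
    have := map_mem_centralizerIn hφ (P := U) le_rfl hg (hC hg)
    rwa [map_subgroupOf_self] at this
  have h2 := (card_le_card_map (centralizerIn_le_S φ.range) (F.injective_of_mem hφ) hC himg).2 h1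
  intro y hy
  obtain ⟨g, hg, rfl⟩ := h2 y hy
  exact ⟨_, rfl⟩

end Cfsg.Agent.S5104
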