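import Cfsg.Statements.S5106
import Cfsg.Agent.Fusion.NormalCriteria

set_option autoImplicit false
open Cfsg Cfsg.FusionSystem CfsgLib.Fusion

namespace Cfsg.Agent.S5106

/-- In a saturated fusion system over a finite p-group S, a subgroup R ≤ S is normal in the system if and only if every map of the system whose source is a subgroup of R is the restriction of an element of Aut_F(R). -/
theorem result {Ω : Type*} [Group Ω] {S : Subgroup Ω} [Finite S] (p : ℕ) [Fact p.Prime] (hS : IsPGroup p S) (F : Cfsg.FusionSystem S) (hF : F.IsSaturated p) (R : Subgroup Ω) (hRS : R ≤ S) : F.IsNormal R ↔ ∀ (P : Subgroup Ω) (hPR : P ≤ R) (φ : P →* Ω), φ ∈ F.Hom P → ∃ α ∈ F.autGroup R, ∀ x : P, ((α (Subgroup.inclusion hPR x) : R) : Ω) = φ x := by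
  constructor
  · intro h P hPR φ hφ
    obtain ⟨ψ, hψ, he, hm⟩ := h.2 P φ hφ
    have hβ : ψ.comp (Subgroup.inclusion le_sup_right) ∈ F.Hom R := restrict_mem hψ le_sup_right
    exact ⟨_, autOfRange_mem hβ ((range_restrict ψ le_sup_right).trans hm),
      fun x => (apply_congr ψ rfl).trans (he x)⟩
  · exact isNormal_of_extends p hS hF hRS

end Cfsg.Agent.S5106
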