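import Cfsg.Statements.S5107
import Cfsg.Agent.Fusion.GroupSystem
import Cfsg.Agent.Fusion.NormalCriteria
import Cfsg.Agent.Fusion.SolvableSystem

set_option autoImplicit false
open Cfsg Cfsg.FusionSystem CfsgLib.Fusion

namespace Cfsg.Agent.S5107

/-- If a Sylow p-subgroup S of a finite group G has nilpotency class at most two and its centre is strongly closed in S with respect to G, then every map of the fusion system of G on S is conjugation by an element of N_G(S), and S is the largest subgroup normal in that fusion system. -/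
theorem result {G : Type*} [Group G] [Finite G] (p : ℕ) [Fact p.Prime] (S : Sylow p G) (hcl : ⁅(S : Subgroup G), (S : Subgroup G)⁆ ≤ (S : Subgroup G) ⊓ Subgroup.centralizer ((S : Subgroup G) : Set G)) (hZ : Cfsg.IsStronglyClosed ((S : Subgroup G) ⊓ Subgroup.centralizer ((S : Subgroup G) : Set G)) (S : Subgroup G)) : (∀ (P : Subgroup G) (φ : P →* G), φ ∈ (Cfsg.groupFusionSystem (S : Subgroup G)).Hom P → ∃ g ∈ Subgroup.normalizer ((S : Subgroup G) : Set G), ∀ x : P, φ x = g * (x : G) * g⁻¹) ∧ (Cfsg.groupFusionSystem (S : Subgroup G)).core = S := by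
  set F := Cfsg.groupFusionSystem (S : Subgroup G) with hFdef
  have hF : F.IsSaturated p := groupFusion_saturated S
  set Z := (S : Subgroup G) ⊓ Subgroup.centralizer ((S : Subgroup G) : Set G) with hZdef
  have hZsc : F.StronglyClosed Z := by
    refine ⟨inf_le_left, fun R hR φ hφ x => ?_⟩
    obtain ⟨-, hφS, g, hg⟩ := hφ
    have hgS := hφS x
    rw [hg] at hgS ⊢
    exact hZ.2 _ (hR x.2) g hgS
  have hn : F.IsNormal (S : Subgroup G) := by
    refine isNormal_of_series p S.isPGroup' hF stronglyClosed_self (n := 2)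
      ![⊥, Z, (S : Subgroup G)] rfl rfl ?_ ?_ ?_
    · intro i
      fin_cases i
      · show ⁅Z, (S : Subgroup G)⁆ ≤ ⊥
        rw [Subgroup.commutator_le]
        intro a ha b hb
        rw [Subgroup.mem_bot, commutatorElement_eq_one_iff_mul_comm]
        exact (Subgroup.mem_centralizer_iff.1 ha.2 b hb).symm
      · exact hcl
    · intro i j hij
      fin_cases i <;> fin_cases j <;>
        first | exact le_rfl | exact bot_le | exact inf_le_left | exact absurd hij (by decide)
    · intro i
      fin_cases i
      exacts [weaklyClosed_of_stronglyClosed stronglyClosed_bot, weaklyClosed_of_stronglyClosed hZsc]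
  refine ⟨fun P φ hφ => ?_, le_antisymm core_le_S (le_core hn)⟩
  obtain ⟨ψ, hψ, he, hm⟩ := hn.2 P φ hφ
  obtain ⟨-, hψS, g, hg⟩ := hψ
  refine ⟨g, mem_normalizer_of_conj_mem (S := (S : Subgroup G)) le_rfl fun x hx => ?_, fun x => ?_⟩
  · have h := hψS ⟨x, Subgroup.mem_sup_right hx⟩
    rwa [hg] at h
  · rw [← he x, hg]; rfl

end Cfsg.Agent.S5107
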