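import Cfsg.Statements.S5112
import Cfsg.Agent.Fusion.Alperin

set_option autoImplicit false
open Cfsg Cfsg.FusionSystem CfsgLib.Fusion

namespace Cfsg.Agent.S5112

/-- A group with a cyclic subgroup of index two generated by an element whose order occurs only
inside that subgroup has a 2-group of automorphisms when the order is a power of two. -/
private theorem autCore {X : Type*} [Group X] [Finite X] (x : X) (k : ℕ) (hk : 1 ≤ k)
    (hx : orderOf x = 2 ^ k) (hidx : (Subgroup.zpowers x).index = 2)
    (hout : ∀ g : X, g ∉ Subgroup.zpowers x → orderOf g ≠ 2 ^ k) : IsPGroup 2 (MulAut X) := by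
  intro φ
  refine ⟨2 * k, ?_⟩
  have hφx : φ x ∈ Subgroup.zpowers x := by
    by_contra h
    exact hout _ h (by rw [MulEquiv.orderOf_eq, hx])
  obtain ⟨i, hi⟩ := mem_powers_iff_mem_zpowers.mpr hφx
  simp only at hi
  have hit : ∀ j : ℕ, (φ ^ j) x = x ^ i ^ j := by
    intro j
    induction j with
    | zero => simp
    | succ j ih => rw [pow_succ', MulAut.mul_apply, ih, map_pow, ← hi, ← pow_mul, pow_succ']
  have hodd : Nat.Coprime i (2 ^ k) := by
    have h1 : orderOf (x ^ i) = 2 ^ k := by rw [hi, MulEquiv.orderOf_eq, hx]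
    rw [orderOf_pow, hx] at h1
    have h2 : Nat.gcd (2 ^ k) i = 1 := by
      have hd : Nat.gcd (2 ^ k) i ∣ 2 ^ k := Nat.gcd_dvd_left _ _
      have h3 := Nat.div_mul_cancel hd
      rw [h1] at h3
      exact Nat.eq_of_mul_eq_mul_left (Nat.two_pow_pos k) (by rw [h3, mul_one])
    exact Nat.coprime_comm.mp h2
  set ψ := φ ^ (2 ^ k) with hψ
  have hψx : ψ x = x := by
    rw [hψ, hit]
    conv_rhs => rw [← pow_one x]
    rw [pow_eq_pow_iff_modEq, hx]
    have h1 := (Nat.ModEq.pow_totient hodd).pow 2
    rw [one_pow, ← pow_mul, Nat.totient_prime_pow Nat.prime_two hk] at h1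
    rwa [show 2 ^ (k - 1) * (2 - 1) * 2 = 2 ^ k by
      rw [show (2 : ℕ) - 1 = 1 from rfl, mul_one, ← pow_succ, Nat.sub_add_cancel hk]] at h1
  have hψz : ∀ z ∈ Subgroup.zpowers x, ψ z = z := by
    rintro _ ⟨j, rfl⟩
    simp [map_zpow, hψx]
  have hfix : ∀ g : X, (ψ ^ (2 ^ k)) g = g := by
    intro g
    have hd : g⁻¹ * ψ g ∈ Subgroup.zpowers x := by
      rw [Subgroup.mul_mem_iff_of_index_two hidx, inv_mem_iff]
      refine ⟨fun h => by rw [hψz g h]; exact h, fun h => ?_⟩
      have h2 := hψz _ h
      rwa [ψ.injective h2] at h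
    obtain ⟨j, hj⟩ := mem_powers_iff_mem_zpowers.mpr hd
    simp only at hj
    have hg : ψ g = g * x ^ j := by rw [hj, mul_inv_cancel_left]
    have : ∀ m : ℕ, (ψ ^ m) g = g * x ^ (m * j) := by
      intro m
      induction m with
      | zero => simp
      | succ m ih =>
        rw [pow_succ', MulAut.mul_apply, ih, map_mul, map_pow, hψx, hg, mul_assoc, ← pow_add,
          add_one_mul, add_comm]
    rw [this, pow_mul, ← hx, pow_orderOf_eq_one, one_pow, mul_one]
  ext g
  rw [MulAut.one_apply, two_mul, pow_add, pow_mul, ← hψ]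
  exact hfix g

/-- If S is a dihedral or generalized quaternion 2-group of order at least 16, then in every saturated fusion system over S (at the prime 2) the automorphism group Aut_F(S) consists of the inner automorphisms of S. -/
theorem result {Ω : Type*} [Group Ω] {S : Subgroup Ω} [Finite S] (n : ℕ) (hn : 4 ≤ n) (hshape : Nonempty (S ≃* DihedralGroup (2 ^ (n - 1))) ∨ Nonempty (S ≃* QuaternionGroup (2 ^ (n - 2)))) (F : Cfsg.FusionSystem S) (hF : F.IsSaturated 2) : F.autGroup S = Cfsg.Inn S := by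
  have key : IsPGroup 2 (MulAut ↥S) := by
    rcases hshape with ⟨⟨e⟩⟩ | ⟨⟨e⟩⟩
    · haveI : NeZero (2 ^ (n - 1)) := ⟨by positivity⟩
      have hx : orderOf (e.symm (DihedralGroup.r 1)) = 2 ^ (n - 1) := by
        rw [MulEquiv.orderOf_eq, DihedralGroup.orderOf_r_one]
      refine autCore _ (n - 1) (by omega) hx ?_ ?_
      · have h1 := Subgroup.card_mul_index (Subgroup.zpowers (e.symm (DihedralGroup.r 1)))
        rw [Nat.card_zpowers, hx, Nat.card_congr e.toEquiv, DihedralGroup.nat_card, mul_comm 2] at h1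
        exact Nat.eq_of_mul_eq_mul_left (by positivity) h1
      · intro g hg hgo
        rcases hge : e g with i | i
        · exact hg ⟨(i.val : ℤ), e.injective (by simp [hge])⟩
        · have h3 := MulEquiv.orderOf_eq e g
          rw [hge, DihedralGroup.orderOf_sr, hgo] at h3
          have : 2 ^ 2 ≤ 2 ^ (n - 1) := Nat.pow_le_pow_right two_pos (by omega)
          omega
    · haveI : NeZero (2 ^ (n - 2)) := ⟨by positivity⟩
      have hx : orderOf (e.symm (QuaternionGroup.a 1)) = 2 ^ (n - 1) := by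
        rw [MulEquiv.orderOf_eq, QuaternionGroup.orderOf_a_one, ← pow_succ']
        congr 1
        omega
      refine autCore _ (n - 1) (by omega) hx ?_ ?_
      · have h1 := Subgroup.card_mul_index (Subgroup.zpowers (e.symm (QuaternionGroup.a 1)))
        rw [Nat.card_zpowers, hx, Nat.card_congr e.toEquiv, Nat.card_eq_fintype_card,
          QuaternionGroup.card, show 4 * 2 ^ (n - 2) = 2 ^ (n - 1) * 2 by
            rw [show n - 1 = n - 2 + 1 by omega, pow_succ]; ring] at h1
        exact Nat.eq_of_mul_eq_mul_left (by positivity) h1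
      · intro g hg hgo
        rcases hge : e g with i | i
        · exact hg ⟨(i.val : ℤ), e.injective (by rw [map_zpow, e.apply_symm_apply, zpow_natCast, QuaternionGroup.a_one_pow, ZMod.natCast_zmod_val, hge])⟩
        · have h3 := MulEquiv.orderOf_eq e g
          rw [hge, QuaternionGroup.orderOf_xa, hgo] at h3
          have : 2 ^ 3 ≤ 2 ^ (n - 1) := Nat.pow_le_pow_right two_pos (by omega)
          omega
  haveI : Fact (Nat.Prime 2) := ⟨Nat.prime_two⟩
  have hS : IsPGroup 2 ↥S := by
    rcases hshape with ⟨⟨e⟩⟩ | ⟨⟨e⟩⟩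
    · haveI : NeZero (2 ^ (n - 1)) := ⟨by positivity⟩
      exact IsPGroup.of_card (n := n) (by
        rw [Nat.card_congr e.toEquiv, DihedralGroup.nat_card, ← pow_succ']
        congr 1
        omega)
    · haveI : NeZero (2 ^ (n - 2)) := ⟨by positivity⟩
      exact IsPGroup.of_card (n := n) (by
        rw [Nat.card_congr e.toEquiv, Nat.card_eq_fintype_card, QuaternionGroup.card,
          show n = n - 2 + 2 by omega, pow_add]
        simp [mul_comm])
  obtain ⟨⟨-, R, hR⟩, -⟩ := good_of_fullyNormalized 2 hS hF isFullyNormalized_S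
  refine le_antisymm (fun β hβ => ?_) (inn_le_autGroup le_rfl)
  have hR' : (R : Subgroup (F.autGroup S)) = ⊤ :=
    (R.3 (Q := ⊤) ((key.to_subgroup (F.autGroup S)).of_equiv Subgroup.topEquiv.symm) le_top).symm
  have : (⟨β, hβ⟩ : F.autGroup S) ∈ (R : Subgroup (F.autGroup S)) := hR'.symm ▸ Subgroup.mem_top _
  rw [hR] at this
  rw [inn_eq_autInducedBy]
  exact this

end Cfsg.Agent.S5112
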