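import Cfsg.Statements.S5118
import Cfsg.Agent.Fusion.Realized

set_option autoImplicit false
open Cfsg Cfsg.FusionSystem CfsgLib.Fusion

namespace Cfsg.Agent.S5118

/-- For a finite group G with Sylow p-subgroup S and a normal subgroup H, the fusion system of H on S ∩ H is a normal subsystem of the fusion system of G on S. -/
theorem result {G : Type*} [Group G] [Finite G] (p : ℕ) [Fact p.Prime] (S : Sylow p G) (H : Subgroup G) [H.Normal] : (Cfsg.fusionSystemOfSubgroup H ((S : Subgroup G) ⊓ H) inf_le_right).IsNormalIn (Cfsg.groupFusionSystem (S : Subgroup G)) p := by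
  classical
  set T := (S : Subgroup G) ⊓ H with hT
  set F := groupFusionSystem (S : Subgroup G) with hF
  set E := Cfsg.fusionSystemOfSubgroup H T inf_le_right with hE
  have hFsat : F.IsSaturated p := groupFusion_saturated S
  have hTS : T ≤ S := inf_le_left
  have hTp : IsPGroup p T := S.2.to_le hTS
  have hST : SylowIn p (S : Subgroup G) ⊤ := ⟨le_top, S.subtype le_top, rfl⟩
  have hsylT : SylowIn p T H := hST.inf_normal le_top
    (fun g _ => by rw [Subgroup.normalizer_eq_top]; trivial)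
  have hsub : E.IsSubsystemOf F := fun P φ hφ => by
    obtain ⟨hP, hv, g, -, hg⟩ := hφ
    exact ⟨hP.trans hTS, fun x => hTS (hv x), g, hg⟩
  have hEsat : E.IsSaturated p := by
    obtain ⟨R, hR⟩ := hsylT.2
    refine saturated_of_realized (ι := Subgroup.inclusion hsylT.1) p hTp
      ⟨Subgroup.inclusion_injective _, fun P hP φ hφ => ⟨?_, ?_⟩⟩ R ?_
    · rintro ⟨-, -, g, hgH, hg⟩
      exact ⟨⟨g, hgH⟩, fun x => Subtype.ext (hg x)⟩
    · rintro ⟨g, hg⟩
      exact ⟨hP, hφ, g, g.2, fun x => congrArg Subtype.val (hg x)⟩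
    · rw [hR]
      ext x
      constructor
      · intro hx; exact ⟨⟨x, hx⟩, rfl⟩
      · rintro ⟨y, rfl⟩; exact y.2
  have hclosed : F.StronglyClosed T := ⟨hTS, fun P hP φ hφ x => ⟨apply_mem_S hφ x, by
    obtain ⟨g, hg⟩ := hφ.2.2
    rw [hg x]
    exact Subgroup.Normal.conj_mem inferInstance _ (hP x.2).2 g⟩⟩
  have hautF : F.autGroup T = autInducedBy ⊤ T := autGroup_groupFusion hTS
  refine ⟨⟨hEsat, hFsat, hsub, hclosed, ?_, ?_⟩, ?_⟩
  · intro P hPT φ hφ α hα
    obtain ⟨n, -, hn⟩ := mem_autInducedBy.1 (hautF ▸ hα)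
    obtain ⟨-, hφT, g, hgH, hg⟩ := hφ
    have hnN := mem_normalizer_of_aut hn
    refine ⟨conjHom _ (n * g * n⁻¹), ⟨?_, ?_, n * g * n⁻¹,
      Subgroup.Normal.conj_mem inferInstance g hgH n, fun _ => rfl⟩, fun x hφx hαx => ?_⟩
    · rintro _ ⟨y, -, rfl⟩
      exact (α y).2
    · rintro ⟨_, y, hy, rfl⟩
      show n * g * n⁻¹ * ((α y : T) : G) * (n * g * n⁻¹)⁻¹ ∈ T
      rw [hn y]
      have h1 := (Subgroup.mem_normalizer_iff.1 hnN _).1 (hφT ⟨y, hy⟩)
      rw [hg] at h1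
      rwa [show n * g * n⁻¹ * (n * (y : G) * n⁻¹) * (n * g * n⁻¹)⁻¹ = n * (g * y * g⁻¹) * n⁻¹ by group]
    · show n * g * n⁻¹ * ((α ⟨x, hPT x.2⟩ : T) : G) * (n * g * n⁻¹)⁻¹ = _
      rw [hn, hn]
      show _ = n * φ x * n⁻¹
      rw [hg]
      group
  · intro P hPT φ hφ
    obtain ⟨-, hφS, g, hg⟩ := hφ
    obtain ⟨h, hh, hconj⟩ := hsylT.exists_conj_le (hTp.map (MulAut.conj g).toMonoidHom)
      (U := T.map (MulAut.conj g).toMonoidHom) (by
        rintro _ ⟨y, hy, rfl⟩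
        exact Subgroup.Normal.conj_mem inferInstance _ hy.2 g)
    have hnN : h * g ∈ Subgroup.normalizer (T : Set G) := mem_normalizer_of_conj_mem le_rfl fun y hy => by
      have := hconj _ ⟨y, hy, rfl⟩
      simpa [mul_assoc] using this
    set n := h * g
    let α : MulAut T := conjAut ⊤ T ⟨n, trivial, hnN⟩
    have hαv : ∀ y : T, ((α y : T) : G) = n * y * n⁻¹ := fun y => rfl
    have hin : ∀ x : P, n⁻¹ * (g * x * g⁻¹) * n ∈ T := fun x => by
      refine (Subgroup.mem_normalizer_iff''.1 hnN _).1 ?_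
      rw [← hg]
      exact ⟨hφS x, by rw [hg]; exact Subgroup.Normal.conj_mem inferInstance _ (hPT x.2).2 g⟩
    refine ⟨α, hautF ▸ mem_autInducedBy.2 ⟨n, trivial, hαv⟩, conjHom P (n⁻¹ * g),
      ⟨hPT, fun x => ?_, n⁻¹ * g, ?_, fun _ => rfl⟩, fun x hx => ?_⟩
    · show n⁻¹ * g * x * (n⁻¹ * g)⁻¹ ∈ T
      have := hin x
      rwa [show n⁻¹ * g * x * (n⁻¹ * g)⁻¹ = n⁻¹ * (g * x * g⁻¹) * n by group]
    · rw [show n⁻¹ * g = g⁻¹ * h⁻¹ * g⁻¹⁻¹ by simp only [n]; group]
      exact Subgroup.Normal.conj_mem inferInstance _ (Subgroup.inv_mem _ hh) g⁻¹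
    · rw [hαv, hg]
      show _ = n * (n⁻¹ * g * x * (n⁻¹ * g)⁻¹) * n⁻¹
      group
  · intro α hα
    obtain ⟨-, -, g, hgH, hg⟩ := (autGroup_carrier (F := E) le_rfl).1 hα
    have hgN : g ∈ Subgroup.normalizer (T : Set G) := mem_normalizer_of_aut (α := α) fun y => hg y
    set C := Subgroup.centralizer (T : Set G) with hC
    set CS := centralizerIn (S : Subgroup G) T with hCS
    have hCn : ∀ a ∈ Subgroup.normalizer (T : Set G), ∀ y ∈ C, a * y * a⁻¹ ∈ C := by
      intro a ha y hy u hu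
      have h2 := hy _ ((Subgroup.mem_normalizer_iff''.1 ha u).1 hu)
      calc u * (a * y * a⁻¹) = a * ((a⁻¹ * u * a) * y) * a⁻¹ := by group
        _ = a * (y * (a⁻¹ * u * a)) * a⁻¹ := by rw [h2]
        _ = a * y * a⁻¹ * u := by group
    have hTfn : F.IsFullyNormalized T := by
      refine ⟨hTS, fun Q hQ => ?_⟩
      have e : normalizerIn (S : Subgroup G) T = S :=
        le_antisymm (normalizerIn_le_S T) fun s hs => ⟨hs, stronglyClosed_normal_in_S hclosed hs⟩
      rw [e]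
      exact card_le_of_le le_rfl (normalizerIn_le_S Q)
    have hsylC : SylowIn p CS C :=
      sylowIn_centralizer_of_normalizer ((fullyNormalized_iff_sylowIn S hTS).1 hTfn)
    have hCH : C ≤ Subgroup.normalizer ((H ⊓ C : Subgroup G) : Set G) := fun a ha => by
      rw [Subgroup.mem_normalizer_iff]
      intro u
      refine ⟨fun hu => ⟨Subgroup.Normal.conj_mem inferInstance _ hu.1 a,
        mul_mem (mul_mem ha hu.2) (Subgroup.inv_mem _ ha)⟩, fun hu => ?_⟩
      have h1 := Subgroup.Normal.conj_mem inferInstance _ hu.1 a⁻¹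
      have h2 := mul_mem (mul_mem (Subgroup.inv_mem _ ha) hu.2) ha
      simp only [mul_assoc, inv_mul_cancel_left, inv_inv, inv_mul_cancel, mul_one] at h1 h2
      exact ⟨h1, h2⟩
    set L := CS ⊔ (H ⊓ C) with hL
    have hLC : L ≤ C := sup_le hsylC.1 inf_le_right
    have hsylL : SylowIn p CS L := by
      obtain ⟨A, hA1, hA⟩ := exists_sylowIn (p := p) hsylC.isPGroup (le_sup_left : CS ≤ L)
      rwa [hsylC.eq_of_le hA.isPGroup hA1 (hA.1.trans hLC)] at hA
    obtain ⟨l, hl, hlconj⟩ := hsylL.exists_conj_le ((hsylC.isPGroup).map (MulAut.conj g).toMonoidHom)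
      (U := CS.map (MulAut.conj g).toMonoidHom) (by
        rintro _ ⟨y, hy, rfl⟩
        show g * y * g⁻¹ ∈ L
        rw [show g * y * g⁻¹ = (g * y * g⁻¹ * y⁻¹) * y by group]
        refine mul_mem (Subgroup.mem_sup_right ⟨?_, mul_mem (hCn g hgN y hy.2) (Subgroup.inv_mem _ hy.2)⟩)
          (Subgroup.mem_sup_left hy)
        rw [show g * y * g⁻¹ * y⁻¹ = g * (y * g⁻¹ * y⁻¹) by group]
        exact mul_mem hgH (Subgroup.Normal.conj_mem inferInstance _ (Subgroup.inv_mem _ hgH) y))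
    have hl' : l ∈ ((CS ⊔ (H ⊓ C) : Subgroup G) : Set G) := hl
    rw [Subgroup.coe_mul_of_left_le_normalizer_right CS (H ⊓ C) (hsylC.1.trans hCH)] at hl'
    obtain ⟨s, hs, c, hc, rfl⟩ := hl'
    set n := c * g with hn
    have hnH : n ∈ H := mul_mem hc.1 hgH
    have hnT : ∀ x : T, n * x * n⁻¹ = ((α x : T) : G) := fun x => by
      have h1 : ((α x : T) : G) = g * x * g⁻¹ := hg x
      rw [h1, hn, show c * g * (x : G) * (c * g)⁻¹ = c * (g * x * g⁻¹) * c⁻¹ by group]
      have := hc.2 (g * x * g⁻¹) ((Subgroup.mem_normalizer_iff.1 hgN x).1 x.2)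
      rw [← this, mul_inv_cancel_right]
    have hnCS : ∀ y ∈ CS, n * y * n⁻¹ ∈ CS := fun y hy => by
      have h1 := hlconj _ ⟨y, hy, rfl⟩
      have h2 := mul_mem (mul_mem (Subgroup.inv_mem _ hs) h1) hs
      simp only [MulEquiv.coe_toMonoidHom, MulAut.conj_apply] at h2
      rw [hn]
      convert h2 using 1
      group
    set M := T ⊔ CS with hM
    have hnM : n ∈ Subgroup.normalizer (M : Set G) := by
      refine mem_normalizer_of_conj_mem (S := (S : Subgroup G)) (sup_le hTS (centralizerIn_le_S T)) ?_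
      intro x hx
      have hle : M ≤ M.comap (MulAut.conj n).toMonoidHom := sup_le
        (fun u hu => Subgroup.mem_sup_left (show n * u * n⁻¹ ∈ T by rw [hnT ⟨u, hu⟩]; exact (α _).2))
        (fun u hu => Subgroup.mem_sup_right (hnCS u hu))
      exact hle hx
    let β : MulAut M := conjAut ⊤ M ⟨n, trivial, hnM⟩
    have hMS : M ≤ S := sup_le hTS (centralizerIn_le_S T)
    have hMaut : F.autGroup M = autInducedBy ⊤ M := autGroup_groupFusion hMS
    refine ⟨β, hMaut ▸ mem_autInducedBy.2 ⟨n, trivial, fun _ => rfl⟩, fun x => hnT x, fun y hy => ?_⟩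
    show (y : G)⁻¹ * (n * y * n⁻¹) ∈ T ⊓ C
    refine ⟨⟨mul_mem (Subgroup.inv_mem _ hy.1) (hnCS y hy).1, ?_⟩, mul_mem (Subgroup.inv_mem _ hy.2) (hnCS y hy).2⟩
    rw [show (y : G)⁻¹ * (n * y * n⁻¹) = ((y : G)⁻¹ * n * (y : G)⁻¹⁻¹) * n⁻¹ by group]
    exact mul_mem (Subgroup.Normal.conj_mem inferInstance _ hnH _) (Subgroup.inv_mem _ hnH)

end Cfsg.Agent.S5118
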