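import Cfsg.Statements.S5342
import Cfsg.Agent.Fusion.ModelGroup
import Cfsg.Agent.Fusion.Realized
import Cfsg.Agent.Fusion.NormalCriteria

set_option autoImplicit false
open Cfsg Cfsg.FusionSystem CfsgLib.Fusion

namespace Cfsg.Agent.S5342

universe u

theorem map_mem_of_sc {Ω : Type*} [Group Ω] {S U : Subgroup Ω} {F : Cfsg.FusionSystem S}
    (hU : F.StronglyClosed U) {N : Subgroup Ω} {ψ : N →* Ω} (hψ : ψ ∈ F.Hom N) (x : N)
    (hx : (x : Ω) ∈ U) : ψ x ∈ U :=
  hU.2 _ (Subgroup.zpowers_le.2 hx) _ (restrict_mem hψ (Subgroup.zpowers_le.2 x.2))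
    ⟨x, Subgroup.mem_zpowers _⟩

theorem constrained_of_normal {Ω : Type u} [Group Ω] {S U : Subgroup Ω} [Finite S] [Finite U] (p : ℕ)
    [Fact p.Prime] (hS : IsPGroup p S) (F : Cfsg.FusionSystem S) (hF : F.IsConstrained p)
    (D : Cfsg.FusionSystem U) (hD : D.IsWeaklyNormalIn F p) : D.IsConstrained p := by
  classical
  obtain ⟨hFsat, Q, hQn, hQc⟩ := hF
  obtain ⟨hDsat, -, hinv⟩ := hD
  obtain ⟨hsub, hU, -, -⟩ := hinv
  have hUS : U ≤ S := hU.1
  obtain ⟨G, _, ι, hm⟩ := exists_model p hS hFsat hQn hQc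
  obtain ⟨hfin, hr, ⟨T, hT⟩, hC⟩ := id hm
  set O' := pCore p G with hO'
  have hO'n : O'.Normal := (CfsgLib.Solvable.pCore_spec (G := G) p).1
  have hO'r : O' ≤ ι.range := pCore_le_range p T hT
  set O := preimg ι O' with hO
  have hOn : F.IsNormal O := isNormal_preimg_of_normal hr hO'n hO'r
  have hOc : F.IsCentric O := isCentric_preimg_pCore p hm
  set R := O ⊓ U with hR
  have hRsc : D.StronglyClosed R := ⟨inf_le_right, fun P hP φ hφ x =>
    ⟨(stronglyClosed_of_isNormal hOn).2 P (hP.trans inf_le_left) φ (hsub P hφ) x,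
      apply_mem_S hφ x⟩⟩
  -- `R` contains its centralizer in `U`
  have hRc : ∀ x ∈ U, (∀ r ∈ R, r * x = x * r) → x ∈ R := by
    intro x hxU hxR
    set R' := img ι R with hR'
    have hmemR : ∀ (z : S), (z : Ω) ∈ R → ι z ∈ R' := fun z hz => apply_mem_img (ι := ι) hz
    have hR'n : R'.Normal := ⟨by
      rintro _ ⟨z, hz, rfl⟩ g
      have hzO : ι z ∈ O' := (mem_preimg.1 hz.1).2
      obtain ⟨φ, hφ, hφv⟩ := exists_realized_hom hr hOn.1 (g := g) fun y =>
        hO'r (hO'n.conj_mem _ (mem_preimg.1 y.2).2 g)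
      have h2 := hφv ⟨(z : Ω), hz.1⟩
      refine ⟨⟨φ ⟨(z : Ω), hz.1⟩, apply_mem_S hφ _⟩, ⟨?_, ?_⟩, h2⟩
      · exact (stronglyClosed_of_isNormal hOn).2 O le_rfl φ hφ _
      · have hle : Subgroup.zpowers (z : Ω) ≤ O := Subgroup.zpowers_le.2 hz.1
        exact hU.2 _ (Subgroup.zpowers_le.2 hz.2) _ (restrict_mem hφ hle)
          ⟨z, Subgroup.mem_zpowers _⟩⟩
    set π := QuotientGroup.mk' R' with hπ
    let K : Subgroup G := Subgroup.centralizer (R' : Set G) ⊓
      (Subgroup.centralizer ((O'.map π : Subgroup (G ⧸ R')) : Set (G ⧸ R'))).comap π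
    have hcn : ∀ {H : Type u} [Group H] (N : Subgroup H), N.Normal →
        (Subgroup.centralizer (N : Set H)).Normal := fun N hN => ⟨fun a ha g =>
      Subgroup.mem_centralizer_iff.2 fun y hy => by
        have h1 := Subgroup.mem_centralizer_iff.1 ha (g⁻¹ * y * g)
          (by simpa using hN.conj_mem y hy g⁻¹)
        calc y * (g * a * g⁻¹) = g * ((g⁻¹ * y * g) * a) * g⁻¹ := by group
          _ = g * (a * (g⁻¹ * y * g)) * g⁻¹ := by rw [h1]
          _ = g * a * g⁻¹ * y := by group⟩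
    have hKn : K.Normal := by
      have h1 := hcn R' hR'n
      have h2 := (hcn _ (hO'n.map π (QuotientGroup.mk'_surjective _))).comap π
      exact ⟨fun a ha g => ⟨h1.conj_mem a ha.1 g, h2.conj_mem a ha.2 g⟩⟩
    have hO'p : IsPGroup p O' := CfsgLib.Solvable.isPGroup_pCore p
    have hR'O : R' ≤ O' := by
      rintro _ ⟨z, hz, rfl⟩
      exact (mem_preimg.1 hz.1).2
    have hKp : IsPGroup p K := by
      rintro ⟨k, hk1, hk2⟩
      let γ : MulAut O' := MulAut.conjNormal k
      have hfix : ∀ y : O', (γ ^ (1 * Nat.card (R'.subgroupOf O'))) y = y := fun y =>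
        pow_mul_fix γ (B := ⊤) (C := R'.subgroupOf O') (fun u _ => by
            rw [Subgroup.mem_subgroupOf]
            show (u : G)⁻¹ * ((γ u : O') : G) ∈ R'
            rw [MulAut.conjNormal_apply, ← QuotientGroup.eq_one_iff]
            have h := Subgroup.mem_centralizer_iff.1 hk2 (π (u : G)) ⟨u, u.2, rfl⟩
            show π ((u : G)⁻¹ * (k * u * k⁻¹)) = 1
            rw [map_mul, map_mul, map_mul, map_inv, map_inv, ← h]
            group)
          (fun u hu => by
            rw [Subgroup.mem_subgroupOf, MulAut.conjNormal_apply]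
            exact hR'n.conj_mem _ hu k)
          (fun u hu => Subtype.ext (by
            rw [pow_one, MulAut.conjNormal_apply, ← Subgroup.mem_centralizer_iff.1 hk1 (u : G) hu,
              mul_inv_cancel_right]))
          y trivial
      obtain ⟨a, ha⟩ := IsPGroup.iff_card.1 (hO'p.to_subgroup (R'.subgroupOf O'))
      have hkc : k ^ p ^ a ∈ O' := hC (Subgroup.mem_centralizer_iff.2 fun y hy => by
        have h1 := hfix ⟨y, hy⟩
        rw [one_mul, ha, show γ ^ p ^ a = MulAut.conjNormal (k ^ p ^ a) from (map_pow _ _ _).symm] at h1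
        have h2 : k ^ p ^ a * y * (k ^ p ^ a)⁻¹ = y := by
          have := congrArg Subtype.val h1
          rwa [MulAut.conjNormal_apply] at this
        calc y * k ^ p ^ a = k ^ p ^ a * y * (k ^ p ^ a)⁻¹ * k ^ p ^ a := by rw [h2]
          _ = k ^ p ^ a * y := by group)
      obtain ⟨b, hb⟩ := hO'p ⟨_, hkc⟩
      refine ⟨a + b, Subtype.ext ?_⟩
      have := congrArg Subtype.val hb
      simpa [pow_add, pow_mul] using this
    have hKO : K ≤ O' := CfsgLib.Solvable.le_pCore p hKn hKp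
    refine ⟨mem_preimg.2 ⟨hUS hxU, hKO ⟨?_, ?_⟩⟩, hxU⟩
    · refine Subgroup.mem_centralizer_iff.2 ?_
      rintro _ ⟨z, hz, rfl⟩
      rw [← map_mul, ← map_mul]
      exact congrArg ι (Subtype.ext (hxR z hz))
    · refine Subgroup.mem_centralizer_iff.2 ?_
      rintro _ ⟨_, hy, rfl⟩
      obtain ⟨z, rfl⟩ := hO'r hy
      rw [← map_mul, ← map_mul]
      refine QuotientGroup.eq.2 ?_
      show (ι (z * ⟨x, hUS hxU⟩))⁻¹ * (ι ⟨x, hUS hxU⟩ * ι z) ∈ _
      rw [← map_mul, ← map_inv, ← map_mul]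
      refine hmemR _ ?_
      have hzO : (z : Ω) ∈ O := mem_preimg.2 ⟨z.2, hy⟩
      have hxN : x ∈ Subgroup.normalizer (O : Set Ω) := normal_S_le_normalizer hOn (hUS hxU)
      have hzN : (z : Ω) ∈ Subgroup.normalizer (U : Set Ω) := stronglyClosed_normal_in_S hU z.2
      show ((z : Ω) * x)⁻¹ * (x * (z : Ω)) ∈ R
      refine ⟨?_, ?_⟩
      · rw [show ((z : Ω) * x)⁻¹ * (x * (z : Ω)) = x⁻¹ * (z : Ω)⁻¹ * x * z by group]
        exact mul_mem ((Subgroup.mem_normalizer_iff''.1 hxN _).1 (Subgroup.inv_mem _ hzO)) hzO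
      · rw [show ((z : Ω) * x)⁻¹ * (x * (z : Ω)) = x⁻¹ * ((z : Ω)⁻¹ * x * z) by group]
        exact mul_mem (Subgroup.inv_mem _ hxU) ((Subgroup.mem_normalizer_iff''.1 hzN _).1 hxU)
  have hDc : D.IsCentric R := by
    refine ⟨inf_le_right, fun P hP => ?_⟩
    obtain ⟨φ, hφ, rfl⟩ := hP
    rw [(weaklyClosed_of_stronglyClosed hRsc).2 φ hφ]
    intro x hx
    exact hRc x hx.1 fun r hr' => hx.2 r hr'
  refine ⟨hDsat, R, isNormal_of_stronglyClosed p (hS.to_le hUS) hDsat hRsc fun P hP => ?_, hDc⟩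
  -- every essential subgroup contains `R`
  have hc := hP.1
  have hPU : P ≤ U := hc.1
  have hrad := isRadical_of_essential p (hS.to_le hUS) hP
  refine le_of_normalizer_le p (hS.to_le hUS) hPU inf_le_right
    (hPU.trans (stronglyClosed_normal_in_S hRsc)) ?_
  intro g hgR hgN
  have hle : autInducedBy R P ≤ Inn P := by
    refine le_inn_of_radical p hrad
      ((autInducedBy_mono inf_le_right P).trans (autInducedBy_le_autGroup hPU)) (fun α hα γ hγ => ?_)
      fun γ hγ => ?_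
    · obtain ⟨q, hq, hq'⟩ := mem_autInducedBy.1 hγ
      obtain ⟨ψ, hψ, he, hmap⟩ := hOn.2 P _ (hsub P ((autGroup_carrier hPU).1 hα))
      have hq1 : q ∈ P ⊔ O := Subgroup.mem_sup_right hq.1
      refine mem_autInducedBy.2 ⟨ψ ⟨q, hq1⟩,
        ⟨hmap.le (apply_mem_map_subgroupOf ψ (x := ⟨q, hq1⟩) hq.1),
          map_mem_of_sc hU hψ ⟨q, hq1⟩ hq.2⟩, fun x => ?_⟩
      obtain ⟨z, rfl⟩ := α.surjective x
      simp only [MulAut.mul_apply, MulAut.inv_apply_self]
      have e1 := he z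
      have e2 := he (γ z)
      simp only [MonoidHom.comp_apply, Subgroup.coe_subtype, MulEquiv.coe_toMonoidHom] at e1 e2
      rw [← e1, ← e2, ← map_inv, ← map_mul, ← map_mul]
      exact apply_congr ψ (hq' z)
    · obtain ⟨k, hk⟩ := isPGroup_autInducedBy (hS.to_le hUS) P
        ⟨γ, autInducedBy_mono inf_le_right P hγ⟩
      exact ⟨k, congrArg Subtype.val hk⟩
  exact (inn_mem_iff hc hgR.2 fun x => rfl).1
    (hle (mem_autInducedBy.2 ⟨g, hgR, fun _ => rfl⟩) :
      conjAut U P ⟨g, hgR.2, hgN⟩ ∈ Inn P)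


/-- Let F be a constrained saturated fusion system over a finite p-group S. Then every subsystem of F that is subnormal in F (reached from F by a finite chain of successive normal subsystems) is constrained. -/
theorem result {Ω : Type*} [Group Ω] {S : Subgroup Ω} [Finite S] (p : ℕ) [Fact p.Prime] (hS : IsPGroup p S) (F : Cfsg.FusionSystem S) (hF : F.IsConstrained p) {T : Subgroup Ω} (E : Cfsg.FusionSystem T) (hE : E.IsSubnormalIn F p) : E.IsConstrained p := by
  have hfp : Finite S ∧ p.Prime := ⟨inferInstance, Fact.out⟩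
  revert hF hS hfp
  induction hE with
  | refl F p => exact fun _ hF _ => hF
  | @step U S₁ E₁ D F₁ p₁ hED hDF ih =>
    intro hS hF hfp
    have := hfp.1
    have : Fact p₁.Prime := ⟨hfp.2⟩
    have hUS : U ≤ S₁ := hDF.1.2.2.2.1.1
    have : Finite U := finite_of_le hUS
    exact ih (hS.to_le hUS) (constrained_of_normal p₁ hS F₁ hF D hDF.1) ⟨‹Finite U›, hfp.2⟩

end Cfsg.Agent.S5342
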