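import Cfsg.Statements.S5115
import Cfsg.Agent.Fusion.Realized
import Cfsg.Agent.S5118
import Cfsg.Agent.S5342

set_option autoImplicit false
open Cfsg Cfsg.FusionSystem CfsgLib.Fusion

namespace Cfsg.Agent.S5115

/-- The group system on the image of a realization of a constrained system is constrained. -/
theorem constrained_img {Ω : Type*} [Group Ω] {S : Subgroup Ω} {G : Type*} [Group G] [Finite G]
    [Finite S] (p : ℕ) [Fact p.Prime] {F : Cfsg.FusionSystem S} (hF : F.IsConstrained p)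
    {ι : S →* G} (h : F.IsRealizedBy ι) (T : Sylow p G) (hT : (T : Subgroup G) = ι.range) :
    (Cfsg.groupFusionSystem (T : Subgroup G)).IsConstrained p := by
  obtain ⟨-, Q, ⟨hQS, hQn⟩, -, hQc⟩ := hF
  refine ⟨groupFusion_saturated T, img ι Q, ⟨hT ▸ img_le_range Q, fun U χ hχ => ?_⟩,
    hT ▸ img_le_range Q, fun U hU => ?_⟩
  · obtain ⟨hUT, hχT, g, hg⟩ := hχ
    have hUr : U ≤ ι.range := hUT.trans hT.le
    have hP : preimg ι U ≤ S := preimg_le U
    have hval : ∀ x : preimg ι U, ι ⟨x, hP x.2⟩ ∈ U := fun x => by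
      obtain ⟨_, hx⟩ := mem_preimg.1 x.2
      exact hx
    obtain ⟨φ, hφ, hφe⟩ := exists_realized_hom h hP (g := g) fun x => by
      rw [← hT, ← hg ⟨_, hval x⟩]; exact hχT _
    obtain ⟨ψ, hψ, hψe, hψQ⟩ := hQn _ φ hφ
    obtain ⟨g', hg'⟩ := realized_hom h hψ
    have hPQ := le_of_mem_hom hψ
    have himg : ∀ y ∈ U ⊔ img ι Q, ∃ x : ↥(preimg ι U ⊔ Q),
        ι ⟨x, hPQ x.2⟩ = y := by
      have : U ⊔ img ι Q ≤ img ι (preimg ι U ⊔ Q) := by
        refine sup_le ?_ ?_
        · conv_lhs => rw [← img_preimg hUr]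
          exact Subgroup.map_mono (Subgroup.comap_mono le_sup_left)
        · exact Subgroup.map_mono (Subgroup.comap_mono le_sup_right)
      intro y hy
      obtain ⟨s, hs, hsy⟩ := this hy
      exact ⟨⟨_, hs⟩, hsy⟩
    refine ⟨conjHom _ g', conjHom_mem_groupFusion (sup_le hUT (hT ▸ img_le_range Q)) ?_, ?_, ?_⟩
    · intro y hy
      obtain ⟨x, rfl⟩ := himg y hy
      rw [← hg' x, hT]
      exact ⟨_, rfl⟩
    · intro u
      obtain ⟨s, hs⟩ := hUr u.2
      have hx : (s : Ω) ∈ preimg ι U := mem_preimg.2 ⟨s.2, hs ▸ u.2⟩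
      have h1 := hg' ⟨_, Subgroup.mem_sup_left (T := Q) hx⟩
      have h2 := hφe ⟨_, hx⟩
      have h3 : ψ ⟨_, Subgroup.mem_sup_left (T := Q) hx⟩ = φ ⟨_, hx⟩ := hψe ⟨_, hx⟩
      show g' * (u : G) * g'⁻¹ = χ u
      rw [hg u, ← hs]
      refine h1.symm.trans (Eq.trans ?_ h2)
      exact congrArg ι (Subtype.ext h3)
    · ext y
      rw [mem_map_subgroupOf]
      constructor
      · rintro ⟨_, hu, ⟨q, hq, rfl⟩, rfl⟩
        have h1 := hg' ⟨_, Subgroup.mem_sup_right (S := preimg ι U) hq⟩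
        show g' * ι q * g'⁻¹ ∈ img ι Q
        rw [← show _ = g' * ι q * g'⁻¹ from h1]
        refine apply_mem_img ?_
        exact hψQ.le (apply_mem_map_subgroupOf ψ (x := ⟨_, Subgroup.mem_sup_right hq⟩) hq)
      · rintro ⟨q, hq, rfl⟩
        obtain ⟨x, hx, hxQ, hxq⟩ := mem_map_subgroupOf.1 (hψQ.ge hq)
        have hiQ : ι ⟨x, hPQ hx⟩ ∈ img ι Q := apply_mem_img hxQ
        refine ⟨_, Subgroup.mem_sup_right hiQ, hiQ, ?_⟩
        show g' * ι ⟨x, hPQ hx⟩ * g'⁻¹ = ι q
        rw [← hg' ⟨x, hx⟩]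
        exact congrArg ι (Subtype.ext hxq)
  · obtain ⟨hQT, hUT, g, hgU⟩ := isConj_groupFusion.1 hU
    obtain ⟨φ, hφ, hφe⟩ := exists_realized_hom h hQS (g := g) fun x => by
      rw [← hT]
      exact hUT (hgU ▸ ⟨_, apply_mem_img (ι := ι) (x := ⟨x, hQS x.2⟩) x.2, rfl⟩)
    have hc := hQc φ.range ⟨φ, hφ, rfl⟩
    rw [← hgU, realized_img_range hQS (apply_mem_S hφ) hφe]
    intro y hy
    obtain ⟨hyT, hyC⟩ := mem_centralizerIn.1 hy
    obtain ⟨s, rfl⟩ := hT.le hyT
    refine apply_mem_img (hc (mem_centralizerIn.2 ⟨s.2, fun z hz => ?_⟩))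
    have h1 := hyC (ι ⟨z, range_le_S hφ hz⟩) (apply_mem_img hz)
    rw [← map_mul, ← map_mul] at h1
    exact congrArg Subtype.val (h.1 h1)

/-- The system of a subnormal subgroup, step by step. -/
theorem exists_sylow_constrained {G : Type*} [Group G] [Finite G] (S : Sylow 2 G)
    (hF : (Cfsg.groupFusionSystem (S : Subgroup G)).IsConstrained 2) {H : Subgroup G}
    (hH : H.IsSubnormal) :
    ∃ T : Sylow 2 H, (T : Subgroup H) = (S : Subgroup G).subgroupOf H ∧
      (Cfsg.groupFusionSystem (T : Subgroup H)).IsConstrained 2 := by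
  induction hH with
  | top =>
    obtain ⟨T, hT⟩ : ∃ T : Sylow 2 (⊤ : Subgroup G),
        (T : Subgroup (⊤ : Subgroup G)) = (S : Subgroup G).subgroupOf ⊤ := ⟨S.subtype le_top, rfl⟩
    refine ⟨T, hT, constrained_img 2 hF (ι := (Subgroup.topEquiv (G := G)).symm.toMonoidHom.comp
      (S : Subgroup G).subtype) ⟨Subgroup.topEquiv.symm.injective.comp Subtype.val_injective,
        fun P hP φ hφ => ⟨?_, ?_⟩⟩ T ?_⟩
    · rintro ⟨-, -, g, hg⟩
      exact ⟨⟨g, trivial⟩, fun x => Subtype.ext (hg x)⟩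
    · rintro ⟨g, hg⟩
      exact ⟨hP, hφ, (g : G), fun x => congrArg Subtype.val (hg x)⟩
    · rw [hT]
      ext x
      exact ⟨fun hx => ⟨⟨x, hx⟩, rfl⟩, by rintro ⟨y, rfl⟩; exact y.2⟩
  | step H K hHK _ hN ih =>
    obtain ⟨T, hT, hTc⟩ := ih
    have := hN
    let T₁ := (T : Subgroup K) ⊓ H.subgroupOf K
    have hnorm := S5118.result 2 T (H.subgroupOf K)
    have hcon := S5342.result 2 T.2 _ hTc
      (Cfsg.fusionSystemOfSubgroup (H.subgroupOf K) T₁ inf_le_right)
      (Cfsg.FusionSystem.IsSubnormalIn.step (Cfsg.FusionSystem.IsSubnormalIn.refl _ _) hnorm)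
    have hsyl : SylowIn 2 T₁ (H.subgroupOf K) :=
      SylowIn.inf_normal (L := (⊤ : Subgroup K)) ⟨le_top, T.subtype le_top, rfl⟩ le_top
        fun g _ => by rw [Subgroup.normalizer_eq_top]; trivial
    obtain ⟨-, R, hR⟩ := hsyl
    let e : (H.subgroupOf K) ≃* H := Subgroup.subgroupOfEquivOfLe hHK
    obtain ⟨R', hR'⟩ : ∃ R' : Sylow 2 H, (R' : Subgroup H) = (R : Subgroup _).map e.toMonoidHom :=
      ⟨R.mapSurjective (f := e.toMonoidHom) e.surjective, Sylow.coe_mapSurjective ..⟩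
    have hR'S : (R' : Subgroup H) = (S : Subgroup G).subgroupOf H := by
      rw [hR', hR]
      ext x
      constructor
      · rintro ⟨y, hy, rfl⟩
        have hy' : (y : K) ∈ (T : Subgroup K) := hy.1
        rw [hT] at hy'
        exact hy'
      · intro hx
        refine ⟨e.symm x, ⟨?_, (e.symm x).2⟩, e.apply_symm_apply x⟩
        show ((e.symm x : H.subgroupOf K) : K) ∈ (T : Subgroup K)
        rw [hT]
        exact hx
    refine ⟨R', hR'S, constrained_img 2 hcon
      (ι := e.toMonoidHom.comp (Subgroup.inclusion (inf_le_right : T₁ ≤ H.subgroupOf K)))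
      ⟨e.injective.comp (Subgroup.inclusion_injective _), fun P hP φ hφ => ⟨?_, ?_⟩⟩ R' ?_⟩
    · rintro ⟨-, -, g, hg, he⟩
      refine ⟨e ⟨g, hg⟩, fun x => ?_⟩
      show e (Subgroup.inclusion _ _) = e ⟨g, hg⟩ * e (Subgroup.inclusion _ _) * (e ⟨g, hg⟩)⁻¹
      rw [← map_inv, ← map_mul, ← map_mul]
      exact congrArg e (Subtype.ext (he x))
    · rintro ⟨g, hg⟩
      refine ⟨hP, hφ, _, (e.symm g).2, fun x => ?_⟩
      have h1 := congrArg e.symm (hg x)
      simp only [map_mul, map_inv, MonoidHom.comp_apply, MulEquiv.coe_toMonoidHom,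
        MulEquiv.symm_apply_apply] at h1
      exact congrArg Subtype.val h1
    · rw [hR', hR]
      ext x
      constructor
      · rintro ⟨y, hy, rfl⟩
        exact ⟨⟨(y : K), hy⟩, rfl⟩
      · rintro ⟨y, rfl⟩
        exact ⟨⟨(y : K), y.2.2⟩, y.2, rfl⟩

/-- If the 2-fusion system of a finite group G on a Sylow 2-subgroup S is constrained, then for every subnormal subgroup H of G the 2-fusion system of H on S ∩ H is constrained. -/
theorem result {G : Type*} [Group G] [Finite G] (S : Sylow 2 G) (hF : (Cfsg.groupFusionSystem (S : Subgroup G)).IsConstrained 2) (H : Subgroup G) (hH : H.IsSubnormal) : (Cfsg.groupFusionSystem ((S : Subgroup G).subgroupOf H)).IsConstrained 2 := by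
  obtain ⟨T, hT, hc⟩ := exists_sylow_constrained S hF hH
  rw [← hT]
  exact hc

end Cfsg.Agent.S5115
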