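import Cfsg.Statements.S5123
import Cfsg.Agent.Fusion.GroupSystem

set_option autoImplicit false
open Cfsg Cfsg.FusionSystem CfsgLib.Fusion

namespace Cfsg.Agent.S5123

/-- Let G be a finite group with Sylow p-subgroup S, P, Q ≤ S and g ∈ G with gPg⁻¹ = Q, and suppose N_S(Q) is a Sylow p-subgroup of N_G(Q). Let N be the set of x ∈ N_S(P) with gxg⁻¹ ∈ N_S(Q)C_G(Q). Then some h ∈ C_G(Q) satisfies (hg)N(hg)⁻¹ ≤ S. -/
theorem result {G : Type*} [Group G] [Finite G] (p : ℕ) [Fact p.Prime] (S : Sylow p G) (P Q : Subgroup G) (hP : P ≤ S) (hQ : Q ≤ S) (g : G) (hg : P.map (MulAut.conj g).toMonoidHom = Q) (hN : (∃ R : Sylow p ↥(Subgroup.normalizer (Q : Set G)), (R : Subgroup ↥(Subgroup.normalizer (Q : Set G))) = (Cfsg.FusionSystem.normalizerIn (S : Subgroup G) Q).subgroupOf (Subgroup.normalizer (Q : Set G)))) : ∃ h ∈ Subgroup.centralizer (Q : Set G), ((Cfsg.FusionSystem.normalizerIn (S : Subgroup G) P) ⊓ (Cfsg.FusionSystem.normalizerIn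 (S : Subgroup G) Q ⊔ Subgroup.centralizer (Q : Set G)).comap (MulAut.conj g).toMonoidHom).map (MulAut.conj (h * g)).toMonoidHom ≤ S := by
  have hQn : SylowIn p (normalizerIn (S : Subgroup G) Q) (Subgroup.normalizer (Q : Set G)) :=
    ⟨inf_le_right, hN⟩
  obtain ⟨c, hc, hcU⟩ := exists_centralizer_conj S.2 (sylowIn_centralizer_of_normalizer hQn)
    (U := (normalizerIn (S : Subgroup G) P ⊓ (normalizerIn (S : Subgroup G) Q ⊔
      Subgroup.centralizer (Q : Set G)).comap (MulAut.conj g).toMonoidHom).map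
        (MulAut.conj g).toMonoidHom)
    ((S.2.to_le (inf_le_left.trans (normalizerIn_le_S P))).map _)
    ((Subgroup.map_mono inf_le_right).trans (Subgroup.map_comap_le _ _))
  refine ⟨c, hc, ?_⟩
  rintro _ ⟨x, hx, rfl⟩
  have h1 := (hcU _ ⟨x, hx, rfl⟩).1
  rw [MulEquiv.coe_toMonoidHom, MulAut.conj_apply] at h1 ⊢
  have e : c * g * x * (c * g)⁻¹ = c * (g * x * g⁻¹) * c⁻¹ := by group
  rw [e]
  exact h1

end Cfsg.Agent.S5123
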