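import Cfsg.Statements.S5127
import Cfsg.Agent.Fusion.NormalCentralizer

set_option autoImplicit false
open Cfsg CfsgLib.NormCent

namespace Cfsg.Agent.S5127

/-- The centralizer C_S(E) of a normal subsystem E exists and is strongly closed. -/
theorem result {Ω : Type*} [Group Ω] {S : Subgroup Ω} [Finite S] (p : ℕ) [Fact p.Prime] (hS : IsPGroup p S) (F : Cfsg.FusionSystem S) (hF : F.IsSaturated p) {T : Subgroup Ω} (E : Cfsg.FusionSystem T) (hE : E.IsNormalIn F p) : ∃ C : Subgroup Ω, C ≤ Cfsg.FusionSystem.centralizerIn S T ∧ (∀ P : Subgroup Ω, E.Hom P ⊆ F.centralizerHom C P) ∧ (∀ Y : Subgroup Ω, Y ≤ Cfsg.FusionSystem.centralizerIn S T → (∀ P : Subgroup Ω, E.Hom P ⊆ F.centralizerHom Y P) → Y ≤ C) ∧ F.StronglyClosed C := by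
  refine ⟨centSub F E, centSub_le, fun P => hom_le_sup p hS hE P centSub_le le_rfl, fun Y hY h => ?_,
    stronglyClosed_centSub p hS hE⟩
  exact fun y hy => Subgroup.subset_closure ⟨hY hy, fun P => (h P).trans
    (centralizerHom_mono (Subgroup.zpowers_le.2 hy))⟩

end Cfsg.Agent.S5127
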