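import Cfsg.Statements.S5133
import Cfsg.Agent.Fusion.Factor

set_option autoImplicit false
open Cfsg Cfsg.FusionSystem CfsgLib.Fusion

namespace Cfsg.Agent.S5133

/-- Let F be a saturated fusion system over a finite p-group S, F' a fusion system over S', and α : S → S' a surjective morphism of fusion systems from F to F' (α maps S onto S' and every map of F' with source P' ≤ S' is induced along α by a map of F on the full preimage of P'). Then F' is saturated. -/
theorem result {Ω : Type*} [Group Ω] {S : Subgroup Ω} [Finite S] (p : ℕ) [Fact p.Prime] (hS : IsPGroup p S) (F : Cfsg.FusionSystem S) (hF : F.IsSaturated p) {Ω' : Type*} [Group Ω'] {S' : Subgroup Ω'} (F' : Cfsg.FusionSystem S') (α : S →* Ω') (hα : F.IsSurjectiveMorphism F' α) : F'.IsSaturated p := by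
  obtain ⟨⟨hmem, hmor⟩, hr, hsurj⟩ := hα
  let T : Subgroup Ω := α.ker.map S.subtype
  have hk : ∀ s : S, α s = 1 ↔ (s : Ω) ∈ T := fun s =>
    ⟨fun h => ⟨s, h, rfl⟩, fun ⟨t, ht, hts⟩ => Subtype.ext hts ▸ ht⟩
  have hT : F.StronglyClosed T := by
    refine ⟨Subgroup.map_subtype_le _, fun P hP φ hφ x => ?_⟩
    obtain ⟨φ', hφ', h⟩ := hmor P φ hφ
    have hxS : (x : Ω) ∈ S := le_of_mem_hom hφ x.2
    have hxI : α ⟨x, hxS⟩ ∈ imageAlong α P := apply_mem_img (ι := α) (x := ⟨x, hxS⟩) x.2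
    have h1 := induced_apply h x (hP := hxS) (hφ := apply_mem_S hφ x) (hP' := hxI)
    refine (hk ⟨φ x, apply_mem_S hφ x⟩).1 (h1.symm.trans ?_)
    rw [show (⟨α ⟨x, hxS⟩, hxI⟩ : imageAlong α P) = 1 from Subtype.ext ((hk _).2 (hP x.2)), map_one]
  have hE : F.IsFactorSystem T α F' := by
    refine ⟨hT.1, hk, hr, fun P' φ' => ⟨fun h => ⟨le_of_mem_hom h, hsurj P' (le_of_mem_hom h) φ' h⟩, ?_⟩⟩
    rintro ⟨hP', φ, hφ, h⟩
    obtain ⟨φ'', hφ'', h'⟩ := hmor _ φ hφ
    have e : imageAlong α (preimageAlong α P') = P' := img_preimg (hP'.trans hr.ge)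
    have main : ∀ Q : Subgroup Ω', imageAlong α (preimageAlong α P') = Q → ∀ ψ : Q →* Ω',
        InducedAlong α φ ψ → ψ ∈ F'.Hom Q := by
      rintro Q rfl ψ hψ
      exact (induced_ext rfl hψ h' : ψ = φ'') ▸ hφ''
    exact main P' e φ' h
  exact factor_saturated hT hE p hS hF

end Cfsg.Agent.S5133
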