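import Cfsg.Statements.S5135
import Cfsg.Agent.Fusion.Factor

set_option autoImplicit false
open Cfsg Cfsg.FusionSystem CfsgLib.Fusion

namespace Cfsg.Agent.S5135

/-- Let G be a finite group, S a Sylow p-subgroup and H a normal subgroup of G. Then the fusion system of G/H on the image SH/H of S is the factor system of the fusion system of G on S modulo S ∩ H, read through the quotient map restricted to S: for each subgroup P' of SH/H, the conjugation maps by elements of G/H defined on P' with values in SH/H are exactly the homomorphisms induced by the conjugation maps by elements of G defined on the full preimage of P' in S with values in S. -/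
theorem result {G : Type*} [Group G] [Finite G] (p : ℕ) [Fact p.Prime] (S : Sylow p G) (H : Subgroup G) [H.Normal] : (Cfsg.groupFusionSystem (S : Subgroup G)).IsFactorSystem ((S : Subgroup G) ⊓ H) ((QuotientGroup.mk' H).comp (S : Subgroup G).subtype) (Cfsg.groupFusionSystem ((S : Subgroup G).map (QuotientGroup.mk' H))) := by
  set θ := (QuotientGroup.mk' H).comp (S : Subgroup G).subtype with hθdef
  have hθ : ∀ (x : G) (hx : x ∈ (S : Subgroup G)), θ ⟨x, hx⟩ = (x : G ⧸ H) := fun x hx => rfl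
  refine ⟨inf_le_left, fun s => ?_, ?_, fun P' φ' => ⟨?_, ?_⟩⟩
  · exact (QuotientGroup.eq_one_iff (s : G)).trans ⟨fun h => ⟨s.2, h⟩, fun h => h.2⟩
  · rw [hθdef, MonoidHom.range_comp, Subgroup.range_subtype]
  · rintro ⟨hP', hval, gb, hg⟩
    obtain ⟨g, rfl⟩ := QuotientGroup.mk_surjective gb
    have hPS : preimg θ P' ≤ (S : Subgroup G) := preimg_le P'
    set Y : Subgroup G := φ'.range.comap (QuotientGroup.mk' H)
    have hY : H ≤ Y := fun x hx => by
      show (x : G ⧸ H) ∈ φ'.range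
      rw [(QuotientGroup.eq_one_iff x).2 hx]
      exact one_mem _
    -- `Q = S ∩ Y` is Sylow in `Q H`
    set Q : Subgroup G := (S : Subgroup G) ⊓ Y
    have hn : Q ≤ Subgroup.normalizer (H : Set G) := fun x _ => by
      rw [Subgroup.normalizer_eq_top_iff.2 inferInstance]; trivial
    have hsH : SylowIn p ((S : Subgroup G) ⊓ H) H :=
      SylowIn.inf_normal (L := ⊤) ⟨le_top, S.subtype le_top, Sylow.coe_subtype _ _⟩ le_top
        (by rw [Subgroup.normalizer_eq_top_iff.2 inferInstance])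
    have hQH : Q ⊓ H = (S : Subgroup G) ⊓ H :=
      le_antisymm (inf_le_inf_right H inf_le_left) fun x hx => ⟨⟨hx.1, hY hx.2⟩, hx.2⟩
    have hQ : SylowIn p Q (Q ⊔ H) :=
      SylowIn.sup_normal (S.2.to_le inf_le_left) hn (hQH.symm ▸ hsH)
    -- the image of the preimage lies in `Q H`
    have hU : (preimg θ P').map (MulAut.conj g).toMonoidHom ≤ Q ⊔ H := by
      rintro _ ⟨x, hx, rfl⟩
      obtain ⟨hxS, hxP⟩ := mem_preimg.1 hx
      obtain ⟨t, ht, hte⟩ := hval ⟨_, hxP⟩
      have htQ : t ∈ Q := ⟨ht, ⟨_, hte.symm⟩⟩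
      have h1 : t⁻¹ * (g * x * g⁻¹) ∈ H := by
        refine (QuotientGroup.eq_one_iff _).1 ?_
        have h2 := hte.trans (hg ⟨_, hxP⟩)
        simp only [QuotientGroup.mk'_apply, hθ] at h2
        rw [QuotientGroup.mk_mul, QuotientGroup.mk_inv, h2, QuotientGroup.mk_mul,
          QuotientGroup.mk_mul, QuotientGroup.mk_inv, inv_mul_cancel]
      show g * x * g⁻¹ ∈ _
      rw [show g * x * g⁻¹ = t * (t⁻¹ * (g * x * g⁻¹)) by group]
      exact mul_mem (Subgroup.mem_sup_left htQ) (Subgroup.mem_sup_right h1)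
    obtain ⟨m, hm, hmU⟩ := hQ.exists_conj_le ((S.2.to_le hPS).map _) hU
    have hm' : m ∈ ((Q ⊔ H : Subgroup G) : Set G) := hm
    rw [Subgroup.coe_mul_of_left_le_normalizer_right Q H hn] at hm'
    obtain ⟨q, hq, k, hk, rfl⟩ := hm'
    have hmem : ∀ x ∈ preimg θ P', (k * g) * x * (k * g)⁻¹ ∈ (S : Subgroup G) := by
      intro x hx
      have h1 := mul_mem (mul_mem (inv_mem hq) (hmU _ ⟨x, hx, rfl⟩)) hq
      have h2 : q⁻¹ * (q * k * (g * x * g⁻¹) * (q * k)⁻¹) * q = (k * g) * x * (k * g)⁻¹ := by group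
      exact (h2 ▸ h1).1
    refine ⟨hP', conjHom _ (k * g), conjHom_mem_groupFusion hPS hmem, hPS, fun x => hmem x x.2,
      fun x => (mem_preimg.1 x.2).2, fun x => ?_⟩
    rw [hg]
    show (g : G ⧸ H) * ((x : G) : G ⧸ H) * (g : G ⧸ H)⁻¹ = (((k * g) * x * (k * g)⁻¹ : G) : G ⧸ H)
    rw [QuotientGroup.mk_mul, QuotientGroup.mk_mul, QuotientGroup.mk_inv, QuotientGroup.mk_mul,
      (QuotientGroup.eq_one_iff k).2 hk, one_mul]
  · rintro ⟨hP', φ, hφ, h⟩
    obtain ⟨g, hg⟩ := hφ.2.2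
    have key : ∀ x : P', ∃ (y : G) (hy : y ∈ preimg θ P'), (x : G ⧸ H) = (y : G ⧸ H) ∧
        φ' x = ((φ ⟨y, hy⟩ : G) : G ⧸ H) := by
      intro x
      obtain ⟨y, hy, hyx⟩ := hP' x.2
      have hy' : y ∈ preimg θ P' := mem_preimg.2 ⟨hy, Set.mem_of_eq_of_mem hyx x.2⟩
      refine ⟨y, hy', hyx.symm, ?_⟩
      refine (apply_congr φ' (y := ⟨θ ⟨y, hy⟩, (mem_preimg.1 hy').2⟩) hyx.symm).trans ?_
      exact induced_apply h ⟨y, hy'⟩ (hφ := apply_mem_S hφ _)
    refine ⟨hP', fun x => ?_, (g : G ⧸ H), fun x => ?_⟩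
    · obtain ⟨y, hy, -, h2⟩ := key x
      rw [h2]
      exact ⟨_, apply_mem_S hφ _, rfl⟩
    · obtain ⟨y, hy, h1, h2⟩ := key x
      rw [h2, hg, h1]
      rfl

end Cfsg.Agent.S5135
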