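import Cfsg.Statements.S5138
import Cfsg.Agent.Fusion.Meet.NormalProd

set_option autoImplicit false
open Cfsg Cfsg.FusionSystem CfsgLib.Fusion CfsgLib.Meet

namespace Cfsg.Agent.S5138

/-- Let F be a saturated fusion system over a finite p-group S and E₁, E₂ normal subsystems over T₁, T₂ with [T₁, T₂] = 1. Then there is a normal subsystem of F over T₁T₂ which, if moreover T₁ ∩ T₂ lies in the centre of E₁ and in the centre of E₂, is a central product of E₁ and E₂ (the factor system of a direct product of E₁ and E₂ modulo a subgroup of its centre meeting both factors trivially). -/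
theorem result {Ω : Type*} [Group Ω] {S : Subgroup Ω} [Finite S] (p : ℕ) [Fact p.Prime] (hS : IsPGroup p S) (F : Cfsg.FusionSystem S) (hF : F.IsSaturated p) {T₁ T₂ : Subgroup Ω} (E₁ : Cfsg.FusionSystem T₁) (E₂ : Cfsg.FusionSystem T₂) (hE₁ : E₁.IsNormalIn F p) (hE₂ : E₂.IsNormalIn F p) (hc : ⁅T₁, T₂⁆ = ⊥) : ∃ D : Cfsg.FusionSystem (T₁ ⊔ T₂), D.IsNormalIn F p ∧ (T₁ ⊓ T₂ ≤ E₁.center → T₁ ⊓ T₂ ≤ E₂.center → Cfsg.FusionSystem.IsCentralProductOf E₁ E₂ D) := by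
  have hcomm : ∀ a ∈ T₁, ∀ b ∈ T₂, a * b = b * a := fun a ha b hb =>
    commutatorElement_eq_one_iff_commute.1
      (Subgroup.mem_bot.1 (hc ▸ Subgroup.commutator_mem_commutator ha hb))
  have hT₁ : T₁ ≤ S := hE₁.1.2.2.2.1.1
  have hT₂ : T₂ ≤ S := hE₂.1.2.2.2.1.1
  haveI : Finite T₁ := finite_of_le hT₁
  haveI : Finite T₂ := finite_of_le hT₂
  by_cases h : T₁ ⊓ T₂ ≤ E₁.center ∧ T₁ ⊓ T₂ ≤ E₂.center
  · obtain ⟨D, hD⟩ := exists_isCentralProductOf hcomm h.1 h.2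
    exact ⟨D, cprod_normal hS hE₁ hE₂ (CPData.of_isCentralProductOf hD)
      (saturated_of_centralProduct (isPGroup_of_le hS hT₁) (isPGroup_of_le hS hT₂) hE₁.1.1
        hE₂.1.1 hD), fun _ _ => hD⟩
  · obtain ⟨_, _, D, -, -, -, -, -, hD⟩ := exists_normal_product hS hE₁ hE₂ hcomm
    exact ⟨D, hD, fun a b => absurd ⟨a, b⟩ h⟩

end Cfsg.Agent.S5138
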