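import Cfsg.Statements.S5139
import Cfsg.Agent.Fusion.Realized
import Cfsg.Agent.Fusion.Alperin
import Cfsg.Agent.CharP.PIrreducible
import Cfsg.Agent.S5093

set_option autoImplicit false
open Cfsg Cfsg.FusionSystem CfsgLib.Fusion

namespace Cfsg.Agent.S5139

theorem pResidual_normal_aux {G : Type*} [Group G] {p : ℕ} : (Cfsg.pResidual p G).Normal := by
  refine ⟨fun n hn g => ?_⟩
  have hle : Cfsg.pResidual p G ≤ (Cfsg.pResidual p G).comap (MulAut.conj g).toMonoidHom := by
    refine (Subgroup.closure_le _).2 fun y hy => Subgroup.subset_closure ?_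
    show Nat.Coprime (orderOf (g * y * g⁻¹)) p
    rwa [show g * y * g⁻¹ = MulAut.conj g y from rfl, MulEquiv.orderOf_eq]
  exact hle hn


/-- Saturated subsystems of `p`-power index over the same subgroup contain one another. -/
theorem hom_subset_of_pPowerIndex {Ω : Type*} [Group Ω] {S T : Subgroup Ω} [Finite T] (p : ℕ) [Fact p.Prime]
    (hT : IsPGroup p T) {F : FusionSystem S} {E₁ E₂ : FusionSystem T} (h₁ : E₁.IsSubsystemOf F)
    (hsat : E₁.IsSaturated p) (h₂ : E₂.HasPPowerIndexIn F p) (P : Subgroup Ω) :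
    E₁.Hom P ⊆ E₂.Hom P := by
  refine alperin_saturated p hT hsat E₂ (fun Q hQ => ?_) P
  have hQfn : E₁.IsFullyNormalized Q := by
    rcases hQ with rfl | hQ
    · exact isFullyNormalized_S
    · exact hQ.2.1
  have hfin := finite_of_le hQfn.1
  have := finite_mulAut (P := Q)
  obtain ⟨-, R, hR⟩ := (good_of_fullyNormalized p hT hsat hQfn).1
  intro α hα
  have hmem : (⟨α, hα⟩ : E₁.autGroup Q) ∈ Cfsg.pResidual p (E₁.autGroup Q) ⊔ (R : Subgroup (E₁.autGroup Q)) := by
    rw [CfsgLib.CharP.pResidual_sup_sylow]; exact Subgroup.mem_top _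
  have hle : (Cfsg.pResidual p (E₁.autGroup Q) ⊔ (R : Subgroup (E₁.autGroup Q))).map (E₁.autGroup Q).subtype ≤
      E₂.autGroup Q := by
    rw [Subgroup.map_sup]
    refine sup_le ?_ ?_
    · rw [Cfsg.pResidual, MonoidHom.map_closure, Subgroup.closure_le]
      rintro _ ⟨β, hβ, rfl⟩
      have hβF : (β : MulAut Q) ∈ F.autGroup Q := autGroup_mono' h₁ Q β.2
      refine h₂.2.2 Q hQfn.1 ⟨⟨β, hβF⟩, Subgroup.subset_closure ?_, rfl⟩
      show Nat.Coprime (orderOf (⟨(β : MulAut Q), hβF⟩ : F.autGroup Q)) p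
      rw [← orderOf_injective (F.autGroup Q).subtype (F.autGroup Q).subtype_injective]
      show Nat.Coprime (orderOf (β : MulAut Q)) p
      rw [Subgroup.orderOf_coe]
      exact hβ
    · rintro _ ⟨β, hβ, rfl⟩
      rw [hR] at hβ
      exact autInducedBy_le_autGroup hQfn.1 hβ
  exact hle ⟨_, hmem, rfl⟩


/-- Let G be a finite group with Sylow p-subgroup S and O^p(G) the subgroup generated by the elements of order prime to p. Then the p-residual subsystem of the fusion system of G on S — the saturated subsystem of p-power index over the hyperfocal subgroup — is the fusion system of O^p(G) on S ∩ O^p(G): its maps are exactly the conjugation maps by elements of O^p(G) between subgroups of S ∩ O^p(G). -/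
theorem result {G : Type*} [Group G] [Finite G] (p : ℕ) [Fact p.Prime] (S : Sylow p G) (E : Cfsg.FusionSystem ((Cfsg.groupFusionSystem (S : Subgroup G)).hyperfocalSubgroup p)) (hE : (Cfsg.groupFusionSystem (S : Subgroup G)).IsPResidual p E) : ∃ h : (S : Subgroup G) ⊓ Cfsg.pResidual p G ≤ Cfsg.pResidual p G, ∀ P : Subgroup G, E.Hom P = (Cfsg.fusionSystemOfSubgroup (Cfsg.pResidual p G) ((S : Subgroup G) ⊓ Cfsg.pResidual p G) h).Hom P := by
  classical
  refine ⟨inf_le_right, fun P => ?_⟩
  let F := groupFusionSystem (S : Subgroup G)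
  set H := Cfsg.pResidual p G with hH
  have hyp : F.hyperfocalSubgroup p = (S : Subgroup G) ⊓ H := Cfsg.Agent.S5093.result p S
  set E' := Cfsg.fusionSystemOfSubgroup H ((S : Subgroup G) ⊓ H) inf_le_right with hE'
  have hTp : IsPGroup p ((S : Subgroup G) ⊓ H : Subgroup G) := S.2.to_le inf_le_left
  haveI hHn : H.Normal := pResidual_normal_aux
  have hST : SylowIn p (S : Subgroup G) ⊤ := ⟨le_top, S.subtype le_top, rfl⟩
  have hsylT : SylowIn p ((S : Subgroup G) ⊓ H) H := hST.inf_normal le_top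
    (fun g _ => by rw [Subgroup.normalizer_eq_top]; trivial)
  have hsat' : E'.IsSaturated p := by
    obtain ⟨R, hR⟩ := hsylT.2
    refine saturated_of_realized (ι := Subgroup.inclusion hsylT.1) p hTp
      ⟨Subgroup.inclusion_injective _, fun P hP φ hφ => ⟨?_, ?_⟩⟩ R ?_
    · rintro ⟨-, -, g, hgH, hg⟩
      exact ⟨⟨g, hgH⟩, fun x => Subtype.ext (hg x)⟩
    · rintro ⟨g, hg⟩
      exact ⟨hP, hφ, g, g.2, fun x => congrArg Subtype.val (hg x)⟩
    · rw [hR]
      ext x
      constructor
      · intro hx; exact ⟨⟨x, hx⟩, rfl⟩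
      · rintro ⟨y, rfl⟩; exact y.2
  have hsub' : E'.IsSubsystemOf F := fun P φ hφ => by
    obtain ⟨hP, hv, g, -, hg⟩ := hφ
    exact ⟨hP.trans inf_le_left, fun x => (hv x).1, g, hg⟩
  have hidx' : E'.HasPPowerIndexIn F p := by
    refine ⟨hsub', hyp.le, fun Q hQ => ?_⟩
    rw [Cfsg.pResidual, MonoidHom.map_closure, Subgroup.closure_le]
    rintro _ ⟨β, hβ, rfl⟩
    obtain ⟨-, -, g, hg⟩ := (autGroup_carrier (hQ.trans inf_le_left)).1 β.2
    have hg' : ∀ x : Q, (((β : MulAut Q) x : Q) : G) = g * x * g⁻¹ := hg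
    -- replace the conjugating element by its p'-part
    obtain ⟨k, m, hm, hkm⟩ := Nat.exists_eq_pow_mul_and_not_dvd (orderOf_pos g).ne' p (Fact.out : p.Prime).ne_one
    have hcop : (p ^ k).Coprime (orderOf β) := (Nat.Coprime.pow_right k hβ).symm
    obtain ⟨a, ha⟩ := exists_pow_eq_self_of_coprime hcop
    have hpw : ∀ (i : ℕ) (x : Q), ((((β : MulAut Q) ^ i) x : Q) : G) = g ^ i * x * (g ^ i)⁻¹ := by
      intro i
      induction i with
      | zero => intro x; simp
      | succ i ih =>
        intro x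
        rw [pow_succ, MulAut.mul_apply, ih, hg', pow_succ]
        group
    have hmem : (g ^ p ^ k) ^ a ∈ H := by
      refine H.pow_mem (Subgroup.subset_closure ?_) a
      show Nat.Coprime (orderOf (g ^ p ^ k)) p
      rw [orderOf_pow_of_dvd (pow_ne_zero _ (Fact.out : p.Prime).ne_zero) ⟨m, hkm⟩, hkm,
        Nat.mul_div_cancel_left _ (pow_pos (Fact.out : p.Prime).pos k)]
      exact ((Fact.out : p.Prime).coprime_iff_not_dvd.2 hm).symm
    show (β : MulAut Q) ∈ E'.autGroup Q
    rw [autGroup_carrier hQ]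
    refine ⟨hQ, fun x => hQ ((β : MulAut Q) x).2, (g ^ p ^ k) ^ a, hmem, fun x => ?_⟩
    show (((β : MulAut Q) x : Q) : G) = _
    rw [← pow_mul, ← hpw]
    congr 2
    rw [pow_mul]
    exact (congrArg Subtype.val ha).symm
  -- transport along the equality of the two subgroups
  have key : ∀ T : Subgroup G, T = (S : Subgroup G) ⊓ H → ∀ D : FusionSystem T, D.IsSaturated p →
      D.HasPPowerIndexIn F p → D.Hom P = E'.Hom P := by
    rintro T rfl D hD hDi
    exact Set.Subset.antisymm (hom_subset_of_pPowerIndex p hTp hDi.1 hD hidx' P)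
      (hom_subset_of_pPowerIndex p hTp hsub' hsat' hDi P)
  exact key _ hyp E hE.1 hE.2

end Cfsg.Agent.S5139
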