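import Cfsg.Statements.S5150
import Cfsg.Agent.Fusion.CoreCentralizesComponents

set_option autoImplicit false
open Cfsg Cfsg.FusionSystem CfsgLib.Fusion CfsgLib.CoreComp

namespace Cfsg.Agent.S5150

/-- O_p(F) centralizes the layer E(F). -/
theorem result {Ω : Type*} [Group Ω] {S : Subgroup Ω} [Finite S] (p : ℕ) [Fact p.Prime] (hS : IsPGroup p S) (F : Cfsg.FusionSystem S) (hF : F.IsSaturated p) {T : Subgroup Ω} (E : Cfsg.FusionSystem T) (hE : E.IsLayerOf F p) (P : Subgroup Ω) : E.Hom P ⊆ F.centralizerHom F.core P :=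
  hE.2.2 _ _ (centSystem_normal p hS hF isNormal_core)
    (fun U C hC Q => quasisimple_centralizes p hS hC.1 hC.2 isNormal_core Q) P

end Cfsg.Agent.S5150
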