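import Cfsg.Statements.S5153
import Cfsg.Agent.Fusion.Invariant

set_option autoImplicit false
open Cfsg Cfsg.FusionSystem CfsgLib.Fusion

namespace Cfsg.Agent.S5153

theorem subnormal_fullyNormalized {Ω : Type*} [Group Ω] {T S : Subgroup Ω}
    {E : Cfsg.FusionSystem T} {F : Cfsg.FusionSystem S} {p : ℕ} (hE : E.IsSubnormalIn F p) :
    Finite S → Fact p.Prime → IsPGroup p S → F.IsSaturated p →
      T ≤ S ∧ ∀ P : Subgroup Ω, P ≤ T → F.IsFullyNormalized P → E.IsFullyNormalized P := by
  induction hE with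
  | refl => exact fun _ _ _ _ => ⟨le_rfl, fun P _ hP => hP⟩
  | step hsn hn ih =>
    intro _ hp hS hF
    have hU := le_of_subsystem hn.1.2.2.1
    obtain ⟨hTU, ihh⟩ := ih (finite_of_le hU) hp (hS.to_le hU) hn.1.1
    exact ⟨hTU.trans hU, fun P hPT hP => ihh P hPT
      (fullyNormalized_sub _ hS hF hn.1.2.2.2.1 hn.1.2.2.1 (hPT.trans hTU) hP)⟩

/-- Let F be a saturated fusion system over a finite p-group S and E a subnormal subsystem of F over T. Then every subgroup of T that is fully normalized in F is fully normalized in E. -/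
theorem result {Ω : Type*} [Group Ω] {S : Subgroup Ω} [Finite S] (p : ℕ) [Fact p.Prime] (hS : IsPGroup p S) (F : Cfsg.FusionSystem S) (hF : F.IsSaturated p) {T : Subgroup Ω} (E : Cfsg.FusionSystem T) (hE : E.IsSubnormalIn F p) (P : Subgroup Ω) (hPT : P ≤ T) (hP : F.IsFullyNormalized P) : E.IsFullyNormalized P := by
  exact (subnormal_fullyNormalized hE inferInstance inferInstance hS hF).2 P hPT hP

end Cfsg.Agent.S5153
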