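import Cfsg.Statements.S5155
import Cfsg.Agent.Fusion.CentralizerSystem

set_option autoImplicit false
open Cfsg

namespace Cfsg.Agent.S5155

/-- Let F be a saturated fusion system over a finite p-group S, E a normal subsystem over T, and Y the largest subgroup of C_S(T) such that E is a subsystem of the centralizer system of Y (every map of E extends to a map of F fixing Y elementwise). Then there is a normal subsystem of F over Y that is a subsystem of the centralizer system of T. -/
theorem result {Ω : Type*} [Group Ω] {S : Subgroup Ω} [Finite S] (p : ℕ) [Fact p.Prime] (hS : IsPGroup p S) (F : Cfsg.FusionSystem S) (hF : F.IsSaturated p) {T : Subgroup Ω} (E : Cfsg.FusionSystem T) (hE : E.IsNormalIn F p) (Y : Subgroup Ω) (hY : Y ≤ Cfsg.FusionSystem.centralizerIn S T) (hEY : ∀ P : Subgroup Ω, E.Hom P ⊆ F.centralizerHom Y P) (hmax : ∀ Y' : Subgroup Ω, Y' ≤ Cfsg.FusionSystem.centralizerIn S T → (∀ P : Subgroup Ω, E.Hom P ⊆ F.centralizerHom Y' P) → Y' ≤ Y) : ∃ D : Cfsg.FusionSystem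 Y, D.IsNormalIn F p ∧ ∀ P : Subgroup Ω, D.Hom P ⊆ F.centralizerHom T P := by
  have hT : F.StronglyClosed T := hE.1.2.2.2.1
  have hYeq : CfsgLib.NormCent.centSub F E = Y := le_antisymm
    (hmax _ CfsgLib.NormCent.centSub_le fun P =>
      CfsgLib.NormCent.hom_le_sup p hS hE P CfsgLib.NormCent.centSub_le le_rfl)
    fun y hy => Subgroup.subset_closure ⟨hY hy, fun P => (hEY P).trans
      (CfsgLib.NormCent.centralizerHom_mono (Subgroup.zpowers_le.2 hy))⟩
  have hYsc : F.StronglyClosed Y := hYeq ▸ CfsgLib.NormCent.stronglyClosed_centSub p hS hE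
  have hfoc : (CfsgLib.Fusion.centSystem F T hT.1).focalSubgroup ≤ Y := by
    refine hmax _ ((Subgroup.closure_le _).2 ?_) fun P =>
      CfsgLib.FocCent.hom_le_centralizerHom p hS hE hT.1 P
    rintro _ ⟨U, φ₀, u, hφ₀, rfl⟩
    exact mul_mem (inv_mem (hφ₀.2.1 u.2)) (hφ₀.2.2.1 u)
  obtain ⟨D, hD, hDC⟩ := CfsgLib.CentSys.exists_normal p hS hF hT hYsc hY hfoc
  exact ⟨D, hD, hDC⟩

end Cfsg.Agent.S5155
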