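import Cfsg.Statements.S5160
import Cfsg.Agent.Fusion.GroupSystem
import Cfsg.Agent.Fusion.Invariant

set_option autoImplicit false
open Cfsg Cfsg.FusionSystem CfsgLib.Fusion

namespace Cfsg.Agent.S5160

/-- Let G be a finite group with nontrivial Sylow p-subgroup S and F its fusion system on S. Suppose (a) no nontrivial proper subgroup of S is strongly closed in F, and (b) the automorphisms of S induced by G are generated by those induced, for R running over the fully normalized radical centric subgroups of F, by the subgroup of N_G(R) generated by its elements of p-power order. Then F is simple. -/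
theorem result {G : Type*} [Group G] [Finite G] (p : ℕ) [Fact p.Prime] (S : Sylow p G) (hS1 : (S : Subgroup G) ≠ ⊥) (ha : ∀ T : Subgroup G, (Cfsg.groupFusionSystem (S : Subgroup G)).StronglyClosed T → T = ⊥ ∨ T = (S : Subgroup G)) (hb : Cfsg.autInducedBy ⊤ (S : Subgroup G) = ⨆ (R : Subgroup G) (_ : (Cfsg.groupFusionSystem (S : Subgroup G)).IsFullyNormalized R ∧ (Cfsg.groupFusionSystem (S : Subgroup G)).IsRadical p R ∧ (Cfsg.groupFusionSystem (S : Subgroup G)).IsCentric R), Cfsg.autInducedBy (Subgroup.closure {g : G | g ∈ Subgroup.normalizer (R : Set G) ∧ ∃ k : ℕ, orderOf g = p ^ k}) (S : Subgroup G)) : (Cfsg.groupFusionSystem (S : Subgroup G)).IsSimple p := by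
  have hF := groupFusion_saturated S
  refine isSimple_of p hF hS1 ha fun E hE hEi => ?_
  rw [autGroup_groupFusion le_rfl, hb]
  refine iSup_le fun R => iSup_le fun hR => ?_
  have hRS : R ≤ (S : Subgroup G) := hR.1.1
  intro α hα
  obtain ⟨g, hg, hgα⟩ := mem_autInducedBy.1 hα
  let A : Subgroup G := {
    carrier := {g : G | g ∈ Subgroup.normalizer (R : Set G) ∧
      ∀ β : MulAut R, (∀ x : R, ((β x : R) : G) = g * x * g⁻¹) → β ∈ E.autGroup R}
    one_mem' := ⟨one_mem _, fun β hβ => by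
      have : β = 1 := MulEquiv.ext fun x => Subtype.ext (by rw [hβ x]; simp)
      rw [this]; exact one_mem _⟩
    mul_mem' := by
      rintro a b ⟨ha, ha'⟩ ⟨hb, hb'⟩
      refine ⟨mul_mem ha hb, fun β hβ => ?_⟩
      have : β = conjAut ⊤ R ⟨a, trivial, ha⟩ * conjAut ⊤ R ⟨b, trivial, hb⟩ :=
        MulEquiv.ext fun x => Subtype.ext (by rw [hβ x]; simp [mul_assoc])
      rw [this]
      exact mul_mem (ha' _ fun x => rfl) (hb' _ fun x => rfl)
    inv_mem' := by
      rintro a ⟨ha, ha'⟩
      refine ⟨inv_mem ha, fun β hβ => ?_⟩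
      have : β = (conjAut ⊤ R ⟨a, trivial, ha⟩)⁻¹ :=
        MulEquiv.ext fun x => Subtype.ext (by rw [hβ x, ← map_inv]; rfl)
      rw [this]
      exact inv_mem (ha' _ fun x => rfl) }
  have hgA : g ∈ A := by
    refine (Subgroup.closure_le A).2 ?_ hg
    rintro x ⟨hxN, k, hk⟩
    refine ⟨hxN, fun β hβ => ?_⟩
    refine pElement_mem_of_invariant p S.2 hF hEi hRS ?_ ⟨k, ?_⟩
    · rw [autGroup_groupFusion hRS]
      exact mem_autInducedBy.2 ⟨x, trivial, hβ⟩
    · have : β = conjAut ⊤ R ⟨x, trivial, hxN⟩ := MulEquiv.ext fun y => Subtype.ext (hβ y)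
      rw [this, ← map_pow]
      have hx1 : (⟨x, trivial, hxN⟩ : ↥((⊤ : Subgroup G) ⊓ Subgroup.normalizer (R : Set G))) ^ p ^ k = 1 :=
        Subtype.ext (show x ^ p ^ k = 1 by rw [← hk, pow_orderOf_eq_one])
      rw [hx1, map_one]
  obtain ⟨hgN, hgE⟩ := hgA
  refine (autGroup_carrier le_rfl).2 (mem_of_restrict_centric p S.2 hF hE hEi.1 ?_ hRS hR.2.2 ?_)
  · exact ⟨le_rfl, fun x => (α x).2, g, hgα⟩
  · refine restrict_mem_of_eq
      ((autGroup_carrier hRS).1 (hgE (conjAut ⊤ R ⟨g, trivial, hgN⟩) fun x => rfl)) le_rfl fun x => ?_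
    exact hgα _

end Cfsg.Agent.S5160
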