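import Cfsg.Statements.S5162
import Cfsg.Agent.Fusion.Meet.NormalProd

set_option autoImplicit false
open Cfsg Cfsg.FusionSystem CfsgLib.Fusion CfsgLib.Meet

namespace Cfsg.Agent.S5162

/-- Let F be a saturated fusion system over a finite p-group S that is a central product of two saturated subsystems F₁ (over S₁) and F₂ (over S₂) inside S. Then every component of F is a component of F₁ or a component of F₂. -/
theorem result {Ω : Type*} [Group Ω] {S : Subgroup Ω} [Finite S] (p : ℕ) [Fact p.Prime] (hS : IsPGroup p S) (F : Cfsg.FusionSystem S) (hF : F.IsSaturated p) {S₁ S₂ : Subgroup Ω} (F₁ : Cfsg.FusionSystem S₁) (F₂ : Cfsg.FusionSystem S₂) (h₁ : F₁.IsSaturated p) (h₂ : F₂.IsSaturated p) (h₁F : F₁.IsSubsystemOf F) (h₂F : F₂.IsSubsystemOf F) (hc : Cfsg.FusionSystem.IsCentralProductOf F₁ F₂ F) {T : Subgroup Ω} (C : Cfsg.FusionSystem T) (hC : C.IsComponentIn F p) : C.IsComponentIn F₁ p ∨ C.IsComponentIn F₂ p := by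
  haveI : Finite S₁ := finite_of_le (le_of_subsystem h₁F)
  haveI : Finite S₂ := finite_of_le (le_of_subsystem h₂F)
  have hcp := CPData.of_isCentralProductOf hc
  have hn₁ := hcp.normal_of_factor hF (isNormalIn_self h₁)
  have hn₂ := hcp.symm.normal_of_factor hF (isNormalIn_self h₂)
  rcases component_dichotomy hS hC hn₁.1 with hl₁ | hc₁
  · exact Or.inl (component_of_le hS hC hn₁.1 hl₁)
  rcases component_dichotomy hS hC hn₂.1 with hl₂ | hc₂
  · exact Or.inr (component_of_le hS hC hn₂.1 hl₂)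
  have hTS : T ≤ S := (CfsgLib.Meet.subnormal_le hC.1).1
  haveI : Finite T := finite_of_le hTS
  refine absurd ⟨⟨fun a b => Subtype.ext ?_⟩⟩
    (not_abelian_of_quasisimple p (isPGroup_of_le hS hTS) hC.2)
  obtain ⟨u, hu, v, hv, huv⟩ := hcp.exists_ab (hTS b.2)
  have ha₁ := ((hc₁ T (subtype_mem (F := C) le_rfl)).2.1 a.2).2 u hu
  have ha₂ := ((hc₂ T (subtype_mem (F := C) le_rfl)).2.1 a.2).2 v hv
  show (a : Ω) * b = b * a
  rw [huv, ← mul_assoc, ← ha₁, mul_assoc, ← ha₂, mul_assoc]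

end Cfsg.Agent.S5162
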