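import Cfsg.Statements.S5178
import Cfsg.Agent.Fusion.ExtraspecialIndexP

set_option autoImplicit false
universe u
open Cfsg Cfsg.FusionSystem CfsgLib.Fusion

namespace Cfsg.Agent.S5178

/-- Let p be an odd prime, S a finite p-group containing an extraspecial subgroup Q of index p, and F a saturated fusion system over S whose largest subgroup normal in F is trivial. Then the centre of S equals the centre of Q. -/
theorem result {Ω : Type u} [Group Ω] {S : Subgroup Ω} [Finite S] (p : ℕ) [Fact p.Prime] (hp : Odd p) (hS : IsPGroup p S)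
    (Q : Subgroup Ω) (hQS : Q ≤ S) (hQ : Cfsg.IsExtraspecial p ↥Q) (hQi : (Q.subgroupOf S).index = p)
    (F : Cfsg.FusionSystem S) (hF : F.IsSaturated p) (hO : F.core = ⊥) :
    S ⊓ Subgroup.centralizer (S : Set Ω) = Q ⊓ Subgroup.centralizer (Q : Set Ω) := by
  have hp2 : p ≠ 2 := fun h => absurd (h ▸ hp) (by decide)
  have hQn : (Q.subgroupOf S).Normal := by
    refine Subgroup.normal_of_index_eq_minFac_card ?_
    obtain ⟨n, hn⟩ := IsPGroup.iff_card.1 hS
    have hd : p ∣ Nat.card S := by
      conv_lhs => rw [← hQi]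
      exact Subgroup.index_dvd_card _
    rw [hn] at hd ⊢
    have hn0 : n ≠ 0 := by
      rintro rfl
      simp [(Fact.out : p.Prime).ne_one] at hd
    rw [Nat.pow_minFac hn0, (Fact.out : p.Prime).minFac_eq, hQi]
  refine le_antisymm (fun z hz => ?_) fun z hz => ?_
  · have h := ExtraspecialIndexP.centre_eq hS hQS hQ hp2 hQi hQn hF hO hz
    exact ⟨ExtraspecialIndexP.zQ_le h, Subgroup.mem_centralizer_iff.2 (ExtraspecialIndexP.comm_of_mem_zQ h)⟩
  · exact ⟨hQS hz.1, Subgroup.mem_centralizer_iff.2 fun s hs => ExtraspecialIndexP.central hS hQS hQ hQn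
      (ExtraspecialIndexP.mem_zQ_of_comm hz.1 (Subgroup.mem_centralizer_iff.1 hz.2)) hs⟩

end Cfsg.Agent.S5178
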