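import Cfsg.Statements.S5179
import Cfsg.Agent.Fusion.ExtraspecialIndexP

set_option autoImplicit false
universe u
open Cfsg Cfsg.FusionSystem CfsgLib.Fusion

namespace Cfsg.Agent.S5179

/-- Let p be an odd prime, S a finite p-group of order at least p⁶ containing an extraspecial subgroup Q of index p, and F a saturated fusion system over S whose largest subgroup normal in F is trivial. Then no proper subgroup of Q is essential in F: an essential subgroup of F contained in Q equals Q. -/
theorem result {Ω : Type u} [Group Ω] {S : Subgroup Ω} [Finite S] (p : ℕ) [Fact p.Prime] (hp : Odd p) (hS : IsPGroup p S)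
    (Q : Subgroup Ω) (hQS : Q ≤ S) (hQ : Cfsg.IsExtraspecial p ↥Q) (hQi : (Q.subgroupOf S).index = p)
    (h6 : p ^ 6 ≤ Nat.card S)
    (F : Cfsg.FusionSystem S) (hF : F.IsSaturated p) (hO : F.core = ⊥)
    (E : Subgroup Ω) (hEQ : E ≤ Q) (hE : F.IsEssential p E) : E = Q := by
  have hQn : (Q.subgroupOf S).Normal := by
    refine Subgroup.normal_of_index_eq_minFac_card ?_
    obtain ⟨n, hn⟩ := IsPGroup.iff_card.1 hS
    have hd : p ∣ Nat.card S := by
      conv_lhs => rw [← hQi]
      exact Subgroup.index_dvd_card _
    rw [hn] at hd ⊢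
    have hn0 : n ≠ 0 := by
      rintro rfl
      simp [(Fact.out : p.Prime).ne_one] at hd
    rw [Nat.pow_minFac hn0, (Fact.out : p.Prime).minFac_eq, hQi]
  exact ExtraspecialIndexP.essential_inside hS hQS hQ hQi hQn h6 hF hEQ hE

end Cfsg.Agent.S5179
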