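import Cfsg.Statements.S5180
import Cfsg.Agent.Fusion.RankThree.Irreducible
import Cfsg.Agent.Fusion.RankThree.Final
-- import your own Cfsg.Agent.* helpers here

set_option autoImplicit false
universe u
open Cfsg CfsgLib.Fusion CfsgLib.Fusion.RankThree

namespace Cfsg.Agent.S5180

/-- Let p ≥ 5 be a prime, S a finite p-group of sectional p-rank exactly 3, and F a saturated fusion system over S. Then every essential subgroup E of F that needs three generators (the Frattini quotient E/Φ(E) has order p³) is normal in S. -/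
theorem result {Ω : Type u} [Group Ω] {S : Subgroup Ω} [Finite S] (p : ℕ) [Fact p.Prime] (hp : 5 ≤ p) (hS : IsPGroup p S) (hsr : Cfsg.SectionalPRankLE p 3 ↥S ∧ ¬ Cfsg.SectionalPRankLE p 2 ↥S)
    (F : Cfsg.FusionSystem S) (hF : F.IsSaturated p) (E : Subgroup Ω) (hE : F.IsEssential p E)
    (hrk : (frattini ↥E).index = p ^ 3) : S ≤ Subgroup.normalizer (E : Set Ω) := by
  by_contra hcon
  have hN : Cfsg.FusionSystem.normalizerIn S E < S :=
    lt_of_le_of_ne (normalizerIn_le_S E) fun h => hcon fun s hs => (h.ge hs).2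
  obtain ⟨g, hg, hgN⟩ := SetLike.exists_of_lt (lt_normalizerIn p hS le_rfl hN)
  have hgN' : ∀ x ∈ Cfsg.FusionSystem.normalizerIn S E,
      g * x * g⁻¹ ∈ Cfsg.FusionSystem.normalizerIn S E :=
    fun x hx => (Subgroup.mem_normalizer_iff.1 hg.2 x).1 hx
  obtain ⟨e, he, hge⟩ : ∃ e ∈ E, g * e * g⁻¹ ∉ E := by
    by_contra h
    push Not at h
    exact hgN ⟨hg.1, mem_normalizer_of_conj_mem hE.1.1 h⟩
  by_cases hirr : IsIrredTop F E
  · exact irreducible_false hS (by omega) hE hrk hsr.1 hirr hgN' he hge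
  · simp only [IsIrredTop] at hirr
    push Not at hirr
    obtain ⟨L, hL, hinv, hne, hnt⟩ := hirr
    obtain ⟨d⟩ := exists_split hS hF hp hE hrk
      ⟨L, lt_of_le_of_ne hL (Ne.symm hne), lt_top_iff_ne_top.2 hnt, hinv⟩
    exact split_false hS hF hp hE hrk hsr.1 d hg.1 hgN' he hge

end Cfsg.Agent.S5180
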