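import Cfsg.Statements.S5181
import Cfsg.Agent.Fusion.TwoInvariant.Core
import Cfsg.Agent.Fusion.TwoInvariant.SympModel
import Cfsg.Agent.Fusion.TwoInvariant.Twist
set_option linter.style.haveILetI false

set_option autoImplicit false
universe u
open Cfsg

namespace Cfsg.Agent.S5181

open Subgroup CfsgLib.Fusion CfsgLib.Fusion.TwoInvariant

/-- The side of a normal essential subgroup over its stabiliser. -/
theorem exists_side {Ω : Type u} [Group Ω] {S : Subgroup Ω} [Finite S] {p : ℕ} [Fact p.Prime]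
    {F : Cfsg.FusionSystem S} (hS : IsPGroup p S) (hF : F.IsSaturated p) (hp2 : p ≠ 2)
    (hsr : Cfsg.SectionalPRankLE p 3 S) {Q : Subgroup Ω} (hQ : F.IsEssential p Q)
    (hN : S ≤ normalizer (Q : Set Ω)) :
    ∃ σ : Side p (stabAut F (Q.subgroupOf S)) (Q.subgroupOf S) (F.autGroup Q), ¬ σ.Deg := by
  haveI hn : (Q.subgroupOf S).Normal :=
    ⟨fun n hn g => (Subgroup.mem_normalizer_iff.1 (hN g.2) (n : Ω)).1 hn⟩
  have hinner : ∀ g : S, MulAut.conj g ∈ stabAut F (Q.subgroupOf S) := fun g =>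
    ⟨autInducedBy_le_autGroup le_rfl (mem_autInducedBy.2 ⟨g, g.2, fun _ => rfl⟩), by
      refine eq_of_le_of_card_ge ?_ (card_map_of_injective (MulAut.conj g).injective).ge
      rintro _ ⟨v, hv, rfl⟩
      exact hn.conj_mem v hv g⟩
  exact ⟨sideOf hS hF hp2 hsr hQ hN _ (fun β hβ => hβ.1) hinner
    (fun β hβ v hv => hβ.2.le ⟨v, hv, rfl⟩) (fun β hβ h => ⟨hβ, by
      refine eq_of_le_of_card_ge ?_ (card_map_of_injective β.injective).ge
      rintro _ ⟨v, hv, rfl⟩
      exact h v hv⟩), sideOf_not_deg hS hF hp2 hsr hQ hN _ _ _ _ _⟩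

/-- Let p be an odd prime, S a finite p-group of sectional p-rank exactly 3, and F a saturated fusion system over S whose largest subgroup normal in F is trivial. Then either S is isomorphic to a Sylow p-subgroup of Sp(4,p), or some essential subgroup of F is not normal in S. -/
theorem result {Ω : Type u} [Group Ω] {S : Subgroup Ω} [Finite S] (p : ℕ) [Fact p.Prime] (hp : Odd p) (hS : IsPGroup p S) (hsr : Cfsg.SectionalPRankLE p 3 ↥S ∧ ¬ Cfsg.SectionalPRankLE p 2 ↥S)
    (F : Cfsg.FusionSystem S) (hF : F.IsSaturated p) (hO : F.core = ⊥) :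
    (∃ P : Sylow p ↥(Matrix.symplecticGroup (Fin 2) (ZMod p)),
        Nonempty (↥S ≃* ↥(P : Subgroup ↥(Matrix.symplecticGroup (Fin 2) (ZMod p))))) ∨
      ∃ E : Subgroup Ω, F.IsEssential p E ∧ ¬ S ≤ Subgroup.normalizer (E : Set Ω) := by
  have hp2 : p ≠ 2 := fun h => by subst h; exact absurd hp (by decide)
  by_contra hno
  obtain ⟨hno₁, hno₂⟩ := not_or.1 hno
  have hnorm : ∀ Q : Subgroup Ω, F.IsEssential p Q → S ≤ normalizer (Q : Set Ω) := fun Q hQ =>
    by_contra fun h => hno₂ ⟨Q, hQ, h⟩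
  -- an essential subgroup exists
  obtain ⟨E, hE⟩ : ∃ E : Subgroup Ω, F.IsEssential p E := by
    by_contra hnone
    rw [not_exists] at hnone
    have h : F.IsNormal S := isNormal_of_essential p hS hF
      (fun P hP => (hP.resolve_right (hnone P)).ge)
      (fun P hP α _ x _ => (hP.resolve_right (hnone P)).le (α x).2)
    have hSb : S = ⊥ := le_bot_iff.1 (hO ▸ le_core h)
    subst hSb
    refine hsr.2 fun H N _ A _ _ => ?_
    rw [Nat.card_of_subsingleton (1 : A)]
    exact Nat.one_le_pow _ _ (Fact.out (p := p.Prime)).pos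
  have hex : ∃ Q : Subgroup Ω, F.IsEssential p Q := ⟨E, hE⟩
  obtain ⟨s₁, hd₁⟩ := exists_side hS hF hp2 hsr.1 hE (hnorm E hE)
  have := finite_of_le hE.1.1
  have : Finite (MulAut E) := finite_mulAut
  -- two sides are impossible
  have hfin : ∀ {B' : Subgroup (MulAut S)} {E' : Subgroup S} {X' : Type u} [Group X'] [Finite X']
      (s₂ : Side p B' E' X'), ¬ s₂.Deg → E.subgroupOf S ≠ E' → B' ≤ F.autGroup S → False := by
    intro B' E' X' _ _ s₂ hd₂ hne hB'
    let P : Setup p (stabAut F (E.subgroupOf S)) B' (E.subgroupOf S) E' (F.autGroup E) X' :=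
      { s₁ := s₁
        s₂ := s₂
        ne := hne
        hG := hS
        odd := hp2
        rank := hsr.1
        cop := (coprimary_autGroup hS hF).mono (sup_le (fun β hβ => hβ.1) hB')
        nd₁ := hd₁
        nd₂ := hd₂ }
    rcases P.reduce hsr.2 with ⟨hmax, h | h⟩ | ⟨T, hT⟩
    · exact hno₁ h.nonempty_equiv_sylow
    · exact hno₁ h.nonempty_equiv_sylow
    · exact false_of_residue hS hF hp2 hsr.1 hO P hT hex
  by_cases h2 : ∃ E' : Subgroup Ω, F.IsEssential p E' ∧ E' ≠ E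
  · obtain ⟨E', hE', hne⟩ := h2
    obtain ⟨s₂, hd₂⟩ := exists_side hS hF hp2 hsr.1 hE' (hnorm E' hE')
    have := finite_of_le hE'.1.1
    have : Finite (MulAut E') := finite_mulAut
    refine hfin s₂ hd₂ (fun h => hne ?_) fun β hβ => hβ.1
    rw [Subgroup.subgroupOf_inj, inf_eq_left.2 hE.1.1, inf_eq_left.2 hE'.1.1] at h
    exact h.symm
  have hone : ∀ Q : Subgroup Ω, F.IsEssential p Q → Q = E := fun Q hQ =>
    by_contra fun h => h2 ⟨Q, hQ, h⟩
  by_cases h3 : ∀ γ ∈ F.autGroup S, ∀ x : S, (x : Ω) ∈ E → ((γ x : S) : Ω) ∈ E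
  · have h : F.IsNormal E := isNormal_of_essential p hS hF
      (fun Q hQ => hQ.elim (fun e => e ▸ hE.1.1) fun hQ => (hone Q hQ).ge)
      (fun Q hQ α hα x hx => by
        rcases hQ with rfl | hQ
        · exact h3 α hα x hx
        · exact (hone Q hQ).le (α x).2)
    have hEb : E = ⊥ := le_bot_iff.1 (hO ▸ le_core h)
    refine (essential_lt p hS hF hE).not_ge fun x hx => ?_
    exact hE.1.2 E (isConj_refl hE.1.1) (mem_inf.2 ⟨hx, mem_centralizer_iff.2 fun v hv => by
      rw [hEb] at hv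
      rw [mem_bot.1 hv, one_mul, mul_one]⟩)
  simp only [not_forall] at h3
  obtain ⟨γ, hγ, x, hx, hγx⟩ := h3
  refine hfin (s₁.twist γ) (s₁.twist_not_deg γ hd₁) (fun h => hγx ?_) ?_
  · exact h.ge (mem_map_of_mem _ hx)
  · rintro _ ⟨β, hβ, rfl⟩
    exact mul_mem (mul_mem hγ hβ.1) (inv_mem hγ)

end Cfsg.Agent.S5181
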