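import Cfsg.Statements.S5189
import Cfsg.Agent.Fusion.TwoInvariant.Core
import Cfsg.Agent.Fusion.TwoInvariant.SympModel
set_option linter.style.haveILetI false

set_option autoImplicit false
universe u
open Cfsg

namespace Cfsg.Agent.S5189

open Subgroup CfsgLib.Fusion.TwoInvariant

theorem elementary_of_elem {Ω : Type u} [Group Ω] {S : Subgroup Ω} {p : ℕ} {E : Subgroup Ω} (hES : E ≤ S)
    (h : Elem p (E.subgroupOf S)) : Cfsg.IsElementaryAbelian p E :=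
  ⟨⟨⟨fun a b => Subtype.ext (congrArg Subtype.val
    (h.1 ⟨a, hES a.2⟩ a.2 ⟨b, hES b.2⟩ b.2).eq :)⟩⟩, fun a ha => congrArg Subtype.val (h.2 ⟨a, hES ha⟩ ha)⟩

theorem conclude {Ω : Type u} [Group Ω] {S : Subgroup Ω} [Finite S] {p : ℕ} [Fact p.Prime]
    {B B' : Subgroup (MulAut S)} {A C : Subgroup Ω} (hA : A ≤ S) (hC : C ≤ S) {X₁ X₂ : Type*} [Group X₁]
    [Group X₂] [Finite X₁] [Finite X₂] {P : Pair p B B' (A.subgroupOf S) (C.subgroupOf S) X₁ X₂}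
    (h : P.Symp) :
    Cfsg.IsExtraspecial p ↥C ∧ Nat.card C = p ^ 3 ∧ (∀ x ∈ C, x ^ p = 1) ∧
      Cfsg.IsElementaryAbelian p A ∧ Nat.card A = p ^ 3 := by
  have := CfsgLib.Fusion.finite_of_le hC
  obtain ⟨h1, h2, h3⟩ := h.extraspecial (Subgroup.inclusion hC) (Subgroup.inclusion_injective hC)
    (by ext v; exact ⟨fun ⟨c, e⟩ => e ▸ c.2, fun hv => ⟨⟨v, hv⟩, rfl⟩⟩)
  refine ⟨h1, h2, fun x hx => congrArg Subtype.val (h3 ⟨x, hx⟩), elementary_of_elem hA h.elem₁, ?_⟩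
  rw [← Nat.card_congr (Subgroup.subgroupOfEquivOfLe hA).toEquiv, h.card₁']

/-- Let p be an odd prime, S a finite p-group of sectional p-rank exactly 3, and F a saturated fusion system over S whose largest subgroup normal in F is trivial. Suppose S has two distinct essential subgroups E₁, E₂ each of which is invariant under every F-automorphism of S. Then S is isomorphic to a Sylow p-subgroup of Sp(4,p), and one of E₁, E₂ is extraspecial of order p³ and exponent p while the other is elementary abelian of order p³. -/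
theorem result {Ω : Type u} [Group Ω] {S : Subgroup Ω} [Finite S] (p : ℕ) [Fact p.Prime] (hp : Odd p) (hS : IsPGroup p S)
    (hsr : Cfsg.SectionalPRankLE p 3 ↥S ∧ ¬ Cfsg.SectionalPRankLE p 2 ↥S)
    (F : Cfsg.FusionSystem S) (hF : F.IsSaturated p) (hO : F.core = ⊥)
    (E₁ E₂ : Subgroup Ω) (hne : E₁ ≠ E₂) (hE₁ : F.IsEssential p E₁) (hE₂ : F.IsEssential p E₂)
    (hc₁ : (∀ φ : MulAut ↥S, φ ∈ F.autGroup S → (E₁.subgroupOf S).map φ.toMonoidHom = E₁.subgroupOf S))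
    (hc₂ : (∀ φ : MulAut ↥S, φ ∈ F.autGroup S → (E₂.subgroupOf S).map φ.toMonoidHom = E₂.subgroupOf S)) :
    (∃ P : Sylow p ↥(Matrix.symplecticGroup (Fin 2) (ZMod p)),
        Nonempty (↥S ≃* ↥(P : Subgroup ↥(Matrix.symplecticGroup (Fin 2) (ZMod p))))) ∧
      ((Cfsg.IsExtraspecial p ↥E₁ ∧ Nat.card E₁ = p ^ 3 ∧ (∀ x ∈ E₁, x ^ p = 1) ∧
          Cfsg.IsElementaryAbelian p E₂ ∧ Nat.card E₂ = p ^ 3) ∨
        (Cfsg.IsExtraspecial p ↥E₂ ∧ Nat.card E₂ = p ^ 3 ∧ (∀ x ∈ E₂, x ^ p = 1) ∧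
          Cfsg.IsElementaryAbelian p E₁ ∧ Nat.card E₁ = p ^ 3)) := by
  have hp2 : p ≠ 2 := fun h => by subst h; exact absurd hp (by decide)
  have hinner : ∀ g : S, MulAut.conj g ∈ F.autGroup S := fun g =>
    CfsgLib.Fusion.autInducedBy_le_autGroup le_rfl
      (CfsgLib.Fusion.mem_autInducedBy.2 ⟨g, g.2, fun _ => rfl⟩)
  have hnorm : ∀ E : Subgroup Ω, E ≤ S → (∀ φ : MulAut ↥S, φ ∈ F.autGroup S →
      (E.subgroupOf S).map φ.toMonoidHom = E.subgroupOf S) → S ≤ normalizer (E : Set Ω) := by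
    intro E hE hc
    haveI : (E.subgroupOf S).Normal := ⟨fun n hn g => (hc _ (hinner g)).le ⟨n, hn, rfl⟩⟩
    exact normalizer_of_normal hE
  have hres : ∀ E : Subgroup Ω, (∀ φ : MulAut ↥S, φ ∈ F.autGroup S →
      (E.subgroupOf S).map φ.toMonoidHom = E.subgroupOf S) → ∀ β ∈ F.autGroup S,
        ∀ x : S, (x : Ω) ∈ E → ((β x : S) : Ω) ∈ E :=
    fun E hc β hβ x hx => (hc β hβ).le ⟨x, hx, rfl⟩
  have := CfsgLib.Fusion.finite_of_le hE₁.1.1
  have := CfsgLib.Fusion.finite_of_le hE₂.1.1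
  have : Finite (MulAut E₁) := CfsgLib.Fusion.finite_mulAut
  have : Finite (MulAut E₂) := CfsgLib.Fusion.finite_mulAut
  let P : Setup p (F.autGroup S) (F.autGroup S) (E₁.subgroupOf S) (E₂.subgroupOf S) (F.autGroup E₁) (F.autGroup E₂) :=
    { s₁ := sideOf hS hF hp2 hsr.1 hE₁ (hnorm E₁ hE₁.1.1 hc₁) _ le_rfl hinner (hres E₁ hc₁)
        fun β hβ _ => hβ
      s₂ := sideOf hS hF hp2 hsr.1 hE₂ (hnorm E₂ hE₂.1.1 hc₂) _ le_rfl hinner (hres E₂ hc₂)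
        fun β hβ _ => hβ
      ne := fun h => hne (by
        rwa [Subgroup.subgroupOf_inj, inf_eq_left.2 hE₁.1.1, inf_eq_left.2 hE₂.1.1] at h)
      hG := hS
      odd := hp2
      rank := hsr.1
      cop := by rw [sup_idem]; exact coprimary_autGroup hS hF
      nd₁ := sideOf_not_deg hS hF hp2 hsr.1 hE₁ (hnorm E₁ hE₁.1.1 hc₁) _ le_rfl hinner (hres E₁ hc₁)
        fun β hβ _ => hβ
      nd₂ := sideOf_not_deg hS hF hp2 hsr.1 hE₂ (hnorm E₂ hE₂.1.1 hc₂) _ le_rfl hinner (hres E₂ hc₂)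
        fun β hβ _ => hβ }
  rcases P.reduce hsr.2 with ⟨hmax, h | h⟩ | ⟨T, hT⟩
  · exact ⟨h.nonempty_equiv_sylow, Or.inr (conclude hE₁.1.1 hE₂.1.1 h)⟩
  · exact ⟨h.nonempty_equiv_sylow, Or.inl (conclude hE₂.1.1 hE₁.1.1 h)⟩
  · exact (false_of_residue hS hF hp2 hsr.1 hO P hT ⟨E₁, hE₁⟩).elim

end Cfsg.Agent.S5189
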