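import Cfsg.Statements.S5191
import Cfsg.Agent.Functor.Fusion

set_option autoImplicit false
open Cfsg
open scoped CfsgLib.Functor

namespace Cfsg.Agent.S5191

/-- Fusion in a finite group G and in its quotient by O_{p'}(G) agree. Let S be a Sylow p-subgroup of G, N = O_{p'}(G) and P ≤ S. If an element of G/N conjugates the image of P into the image of S, then some element g of G conjugates P into S and induces the same map on P modulo N. (Together with the injectivity of S → G/N this says that g ↦ gN induces an isomorphism of the fusion system of G on S with that of G/N on SN/N.) -/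
theorem result {G : Type*} [Group G] [Finite G] {p : ℕ} [Fact p.Prime]
    [hN : (Cfsg.pPrimeCore p G).Normal] (S : Sylow p G) (P : Subgroup G) (hP : P ≤ (S : Subgroup G))
    (γ : G ⧸ Cfsg.pPrimeCore p G)
    (hγ : ∀ x ∈ P, γ * QuotientGroup.mk x * γ⁻¹ ∈ ((S : Subgroup G).map (QuotientGroup.mk' (Cfsg.pPrimeCore p G)))) :
    ∃ g : G, ∀ x ∈ P, g * x * g⁻¹ ∈ S ∧
      (QuotientGroup.mk (g * x * g⁻¹) : G ⧸ Cfsg.pPrimeCore p G) = γ * QuotientGroup.mk x * γ⁻¹ := by
  obtain ⟨g₀, rfl⟩ := QuotientGroup.mk_surjective γ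
  set K := ((S : Subgroup G).map (QuotientGroup.mk' (Cfsg.pPrimeCore p G))).comap (QuotientGroup.mk' (Cfsg.pPrimeCore p G)) with hK
  have hSK : (S : Subgroup G) ≤ K := Subgroup.le_comap_map _ _
  have hPK : g₀ ⋆ P ≤ K := CfsgLib.Functor.cj_le_iff.2 fun x hx => Subgroup.mem_comap.2 (by rw [map_mul, map_mul, map_inv]; exact hγ x hx)
  obtain ⟨n, hn, hnS⟩ := ((CfsgLib.Functor.isSylowIn_top S).of_le hSK le_top).exists_cj_le
    (CfsgLib.Functor.isPGroup_cj g₀ (S.2.to_le hP)) hPK
  obtain ⟨s, hs, hse⟩ := hn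
  refine ⟨s⁻¹ * n * g₀, fun x hx => ⟨?_, ?_⟩⟩
  · rw [CfsgLib.Functor.cj_cj] at hnS
    have := hnS (CfsgLib.Functor.conj_mem_cj (g := n * g₀) hx)
    rw [show s⁻¹ * n * g₀ * x * (s⁻¹ * n * g₀)⁻¹ = s⁻¹ * (n * g₀ * x * (n * g₀)⁻¹) * s by group]
    exact (S : Subgroup G).mul_mem ((S : Subgroup G).mul_mem ((S : Subgroup G).inv_mem hs) this) hs
  · simp only [QuotientGroup.mk'_apply] at hse
    simp only [QuotientGroup.mk_mul, QuotientGroup.mk_inv, hse, inv_mul_cancel_left, mul_inv_rev]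
    group

end Cfsg.Agent.S5191
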