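import Cfsg.Statements.S5195
import Cfsg.Agent.Fusion.InnerAut

set_option autoImplicit false
open Cfsg Cfsg.FusionSystem CfsgLib.Fusion

namespace Cfsg.Agent.S5195

/-- A strengthened Frobenius normal p-complement criterion for fusion systems. Let F be a saturated fusion system over a finite p-group S such that p is odd or F is S₄-free (the symmetric group of degree 4 is not involved in any model of the normalizer system of a fully normalized F-centric subgroup). If Aut_F(Q) is a p-group for every nontrivial characteristic subgroup Q of S, then F is the inner fusion system of S. -/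
theorem result {Ω : Type*} [Group Ω] {S : Subgroup Ω} [Finite S] (p : ℕ) [Fact p.Prime] (hS : IsPGroup p S) (F : Cfsg.FusionSystem S) (hF : F.IsSaturated p) (hp : p ≠ 2 ∨ F.IsSectionFree p (Equiv.Perm (Fin 4))) (h : ∀ Q : Subgroup Ω, Q ≤ S → Q ≠ ⊥ → (Q.subgroupOf S).Characteristic → IsPGroup p (F.autGroup Q)) : ∀ P : Subgroup Ω, F.Hom P = (Cfsg.innerFusionSystem S).Hom P := by
  refine isInner_iff.1 ?_
  by_cases hne : S = ⊥
  · intro P φ hφ
    refine ⟨1, one_mem _, fun x => ?_⟩
    have h1 : φ x = 1 := Subgroup.mem_bot.1 (hne ▸ apply_mem_S hφ x)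
    have h2 : (x : Ω) = 1 := Subgroup.mem_bot.1 (hne ▸ le_of_mem_hom hφ x.2)
    rw [h1, h2]; group
  have hall := innerAt_of_char_aut p (criterionThompson p) hS hF hp
    fun Q hQ hQ1 => h Q hQ.1 hQ1 (characteristic_of_isCharIn hQ)
  have hloc := thompsonLoc_of_char p hS hne fun Q hQ hQ1 => hall _ Q rfl hQ hQ1
  exact isInner_of_thompson p hS hF hp hloc.1 hloc.2

end Cfsg.Agent.S5195
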