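import Cfsg.Statements.S5196
import Cfsg.Agent.Fusion.CentralControlApps

set_option autoImplicit false
universe u
open Cfsg Cfsg.FusionSystem CfsgLib.Fusion

namespace Cfsg.Agent.S5196

/-- Let p be an odd prime and W a positive characteristic p-functor: W assigns to every finite p-group Q (in a fixed universe) a subgroup W(Q), nontrivial when Q is, carried to W(R) by every isomorphism Q ≅ R; assume also Z(Q) ≤ W(Q) for every finite p-group Q. Suppose W satisfies the local condition: for every finite group G with Sylow p-subgroup P, O_p(G) ∩ Z(G) = O_p(G) ∩ Z(N_G(W(P))). Then W controls weak closure of elements in every saturated fusion system F over a finite p-group S: the centre of the normalizer fusion system of W(S) in F equals the centre of F. (For p = 2 no functor satisfies the local condition, so p is taken odd.) -/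
theorem result {p : ℕ} [Fact p.Prime] (hp : p ≠ 2) (W : ∀ (Q : Type u) [Group Q], Subgroup Q) (hW1 : ∀ (Q : Type u) [Group Q] [Finite Q], IsPGroup p Q → Nontrivial Q → W Q ≠ ⊥) (hW2 : ∀ (Q R : Type u) [Group Q] [Group R] [Finite Q], IsPGroup p Q → ∀ φ : Q ≃* R, (W Q).map φ.toMonoidHom = W R) (hWZ : ∀ (Q : Type u) [Group Q] [Finite Q], IsPGroup p Q → Subgroup.center Q ≤ W Q) (hC : ∀ (G : Type u) [Group G] [Finite G] (P : Sylow p G), Cfsg.pCore p G ⊓ Subgroup.center G = Cfsg.pCore p G ⊓ (Subgroup.center ↥(Subgroup.normalizer (((W ↥(P : Subgroup G)).map (P : Subgroup G).subtype : Subgroup G) : Set G))).map (Subgroup.normalizer (((W ↥(P : Subgroup G)).map (P : Subgroup G).subtype : Subgroup G) : Set G)).subtype) {Ω : Type u} [Group Ω] {S : Subgroup Ω} [Finite S] (hS : IsPGroup p S) (F : Cfsg.FusionSystem S) (hF : F.IsSaturated p) (N : Cfsg.FusionSystem (Cfsg.FusionSystem.normalizerIn S ((W ↥S).map S.subtype))) (hN : F.IsNormalizerSystem ((W ↥S).map S.subtype) N) : N.center = F.center := by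
  have hch : IsCharIn S (wOf W S) := isCharIn_map fun a => hW2 _ _ hS a
  have := finite_of_le (normalizerIn_le_S (S := S) (wOf W S))
  let C : CentralControl.{u} p :=
    { W := W
      map := hW2
      center_le := hWZ
      Adm := fun {Ω} _ S z => z ∈ S ⊓ Subgroup.centralizer (S : Set Ω)
      Good := fun {Ω} _ {S} _ => True
      adm_mem := fun h => h
      adm_mono := fun h hV hZ => ⟨hZ h, Subgroup.centralizer_le hV h.2⟩
      good_normalizer := fun _ _ _ _ _ _ _ _ => trivial
      grp := fun {Ω} _ {S} _ F G _ ι Q z hS _ hz hQ hQc hm T hT hfix g => by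
        have := hm.1
        obtain ⟨hT1, hTc, hzO⟩ := central_of_model hm T hT hz.2
        have hzN : ι z ∈ Subgroup.normalizer
            (((W ↥(T : Subgroup G)).map (T : Subgroup G).subtype : Subgroup G) : Set G) :=
          centralizer_le_normalizer' _ (Subgroup.centralizer_le (Subgroup.map_subtype_le _) hTc)
        have h1 : ι z ∈ pCore p G ⊓ Subgroup.center G := by
          rw [hC G T]
          exact ⟨hzO, ⟨ι z, hzN⟩, Subgroup.mem_center_iff.2 fun n => Subtype.ext (hfix n n.2), rfl⟩
        exact Subgroup.mem_center_iff.1 h1.2 g }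
  refine le_antisymm (fun z hz => ?_) (center_le_normalizer_center hN hch)
  refine C.mem_center hS hF trivial hN hz ?_
  refine Subgroup.mem_inf.2 ⟨(center_le_S hz).1, Subgroup.mem_centralizer_iff.2 fun s hs => ?_⟩
  exact center_commutes hN hch hz hs

end Cfsg.Agent.S5196
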