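import Cfsg.Statements.S5198
import Cfsg.Agent.Fusion.Factor
import Cfsg.Agent.Transfer.PResidual

set_option autoImplicit false
open Cfsg Cfsg.FusionSystem CfsgLib.Fusion

namespace Cfsg.Agent.S5198

/-- Let F be a saturated fusion system over a finite p-group S and T a subgroup of S strongly closed in F (so T is normal in S). Then every element x of the hyperfocal subgroup of F acts on T by conjugation as an element of O^p(Aut_F(T))·Inn(T): there is an automorphism of T in the subgroup generated by the elements of Aut_F(T) of order prime to p together with the inner automorphisms of T that agrees with conjugation by x. -/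
theorem result {Ω : Type*} [Group Ω] {S : Subgroup Ω} [Finite S] (p : ℕ) [Fact p.Prime] (hS : IsPGroup p S) (F : Cfsg.FusionSystem S) (hF : F.IsSaturated p) (T : Subgroup Ω) (hT : F.StronglyClosed T) : ∀ x ∈ F.hyperfocalSubgroup p, ∃ α ∈ ((Cfsg.pResidual p ↥(F.autGroup T)).map (F.autGroup T).subtype ⊔ Cfsg.Inn ↥T : Subgroup (MulAut ↥T)), ∀ t : ↥T, ((α t : ↥T) : Ω) = x * (t : Ω) * x⁻¹ := by
  classical
  have hTn : S ≤ Subgroup.normalizer (T : Set Ω) := stronglyClosed_normal_in_S hT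
  have hfin := finite_of_le hT.1
  have := finite_mulAut (P := T)
  haveI hTnS : (T.subgroupOf S).Normal := ⟨fun n hn s => by
    show (s : Ω) * n * (s : Ω)⁻¹ ∈ T
    exact (Subgroup.mem_normalizer_iff.1 (hTn s.2) _).1 hn⟩
  let θ : S →* S ⧸ T.subgroupOf S := QuotientGroup.mk' _
  have hk : ∀ s : S, θ s = 1 ↔ (s : Ω) ∈ T := fun s => QuotientGroup.eq_one_iff s
  have hr : θ.range = ⊤ := MonoidHom.range_eq_top.2 (QuotientGroup.mk'_surjective _)
  set E := factorSystem hT hk hr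
  have hE : F.IsFactorSystem T θ E := factorSystem_spec hT hk hr
  -- the action on `T`, modulo the residual and the inner automorphisms
  let A : Subgroup (MulAut T) := F.autGroup T
  let μ₀ : S →* MulAut T :=
    (conjAut S T).comp ((Subgroup.inclusion (le_inf le_rfl hTn)))
  have hμ : ∀ (s : S) (t : T), ((μ₀ s t : T) : Ω) = s * (t : Ω) * (s : Ω)⁻¹ := fun s t => rfl
  have hμA : ∀ s, μ₀ s ∈ A := fun s =>
    autInducedBy_le_autGroup hT.1 (mem_autInducedBy.2 ⟨s, s.2, hμ s⟩)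
  let μ : S →* A := μ₀.codRestrict A hμA
  haveI hInnN : (Inn T).Normal := ⟨fun a ha g => by
    obtain ⟨t, rfl⟩ := ha
    exact ⟨g t, MulEquiv.ext fun y => by simp [MulAut.inv_def]⟩⟩
  set X : Subgroup A := Cfsg.pResidual p A ⊔ (Inn T).subgroupOf A with hX
  haveI : X.Normal := inferInstance
  let π : A →* A ⧸ X := QuotientGroup.mk' X
  let ν : S →* A ⧸ X := π.comp μ
  have hνT : ∀ s : S, (s : Ω) ∈ T → ν s = 1 := fun s hs => by
    refine (QuotientGroup.eq_one_iff _).2 (Subgroup.mem_sup_right ?_)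
    exact ⟨⟨s, hs⟩, MulEquiv.ext fun y => Subtype.ext (by
      rw [MulAut.conj_apply]; exact (hμ s y).symm)⟩
  -- every map of the system is a conjugation modulo `X`
  have hmap : ∀ {P : Subgroup Ω} {φ : P →* Ω} (hφ : φ ∈ F.Hom P), ∃ γ : A, ∀ x : P,
      ν ⟨φ x, apply_mem_S hφ x⟩ = π γ * ν ⟨x, le_of_mem_hom hφ x.2⟩ * (π γ)⁻¹ := by
    intro P φ hφ
    obtain ⟨φ', hφ', hPS, hφS, hm, hφx⟩ := induces_of_mem hT hE p hS hF hφ
    obtain ⟨-, ψ, hψ, hind⟩ := (hE.2.2.2 _ φ').1 hφ'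
    let R := preimageAlong θ (img θ P)
    have hRS : R ≤ S := le_of_mem_hom hψ
    have hPR : P ≤ R := fun x hx => by
      exact mem_preimg.2 ⟨hPS hx, apply_mem_img (ι := θ) (x := ⟨x, hPS hx⟩) hx⟩
    have hTR : T ≤ R := fun x hx => mem_preimg.2 ⟨hT.1 hx, by
      rw [(hk ⟨x, hT.1 hx⟩).2 hx]; exact one_mem _⟩
    have hψT : (T.subgroupOf R).map ψ = T := map_ker_eq hT hψ hTR
    have hr' : (ψ.comp (Subgroup.inclusion hTR)).range = T := by
      rw [range_restrict ψ hTR]; exact hψT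
    let γ : A := ⟨autOfRange _ (F.injective_of_mem (restrict_mem hψ hTR)) hr',
      autOfRange_mem (restrict_mem hψ hTR) hr'⟩
    have hγ : ∀ t : T, (((γ : MulAut T) t : T) : Ω) = ψ (Subgroup.inclusion hTR t) := fun t => rfl
    refine ⟨γ, fun x => ?_⟩
    have hxR : (x : Ω) ∈ R := hPR x.2
    set a : S := ⟨ψ ⟨x, hxR⟩, apply_mem_S hψ _⟩ with ha
    have hmul : μ a = γ * μ ⟨x, hPS x.2⟩ * γ⁻¹ := by
      rw [eq_mul_inv_iff_mul_eq]
      refine Subtype.ext (MulEquiv.ext fun t => Subtype.ext ?_)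
      show ((μ₀ a ((γ : MulAut T) t) : T) : Ω) = (((γ : MulAut T) (μ₀ ⟨x, hPS x.2⟩ t) : T) : Ω)
      rw [hμ, hγ, hγ]
      show ψ ⟨x, hxR⟩ * ψ (Subgroup.inclusion hTR t) * (ψ ⟨x, hxR⟩)⁻¹ = _
      rw [← map_inv, ← map_mul, ← map_mul]
      exact congrArg ψ (Subtype.ext (hμ ⟨x, hPS x.2⟩ t).symm)
    have hcong : θ a = θ ⟨φ x, hφS x⟩ :=
      (induced_apply hind ⟨x, hxR⟩).symm.trans (hφx x)
    have h1 : ν (a⁻¹ * ⟨φ x, hφS x⟩) = 1 := hνT _ ((hk _).1 (by
      rw [map_mul, map_inv, hcong, inv_mul_cancel]))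
    rw [map_mul, map_inv, inv_mul_eq_one] at h1
    rw [← h1]
    show π (μ a) = _
    rw [hmul, map_mul, map_mul, map_inv]
    rfl
  have hresX : ∀ γ : A, Nat.Coprime (orderOf γ) p → π γ = 1 := fun γ hγ =>
    (QuotientGroup.eq_one_iff _).2 (Subgroup.mem_sup_left (Subgroup.subset_closure hγ))
  intro x hx
  suffices h : ∃ hxS : x ∈ S, ν ⟨x, hxS⟩ = 1 by
    obtain ⟨hxS, h⟩ := h
    have hmem : μ₀ ⟨x, hxS⟩ ∈ X.map A.subtype := ⟨_, (QuotientGroup.eq_one_iff _).1 h, rfl⟩
    rw [hX, Subgroup.map_sup] at hmem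
    exact ⟨μ₀ ⟨x, hxS⟩, (sup_le le_sup_left ((Subgroup.map_comap_le _ _).trans le_sup_right)) hmem,
      fun t => hμ _ t⟩
  unfold Cfsg.FusionSystem.hyperfocalSubgroup at hx
  induction hx using Subgroup.closure_induction with
  | one => exact ⟨one_mem S, map_one ν⟩
  | mul a b _ _ iha ihb =>
    obtain ⟨ha, ha'⟩ := iha
    obtain ⟨hb, hb'⟩ := ihb
    exact ⟨mul_mem ha hb, (map_mul ν ⟨a, ha⟩ ⟨b, hb⟩).trans (by rw [ha', hb', one_mul])⟩
  | inv a _ iha =>
    obtain ⟨ha, ha'⟩ := iha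
    exact ⟨Subgroup.inv_mem _ ha, (map_inv ν ⟨a, ha⟩).trans (by rw [ha', inv_one])⟩
  | mem y hy =>
    obtain ⟨P, α, z, hP, hα, rfl⟩ := hy
    have hzS : ∀ w : P, (w : Ω) ∈ S := fun w => hP w.2
    refine ⟨mul_mem (Subgroup.inv_mem _ (hzS z)) (hzS _), ?_⟩
    suffices hfix : ∀ w : P, ν ⟨_, hzS ((α : MulAut P) w)⟩ = ν ⟨w, hzS w⟩ by
      exact (map_mul ν (⟨z, hzS z⟩ : S)⁻¹ ⟨_, hzS ((α : MulAut P) z)⟩).trans
        (by rw [map_inv, hfix z, inv_mul_cancel])
    unfold Cfsg.pResidual at hα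
    induction hα using Subgroup.closure_induction with
    | one => intro w; rfl
    | mul a b _ _ iha ihb => intro w; exact (iha _).trans (ihb w)
    | inv a _ iha =>
      intro w
      have h1 := iha (((a : MulAut P))⁻¹ w)
      simp only [MulAut.apply_inv_self] at h1
      exact h1.symm
    | mem β hβ =>
      intro w
      obtain ⟨γ, hγ⟩ := hmap ((autGroup_carrier hP).1 β.2)
      obtain ⟨k, m, hm, hkm⟩ :=
        Nat.exists_eq_pow_mul_and_not_dvd (orderOf_pos γ).ne' p (Fact.out : p.Prime).ne_one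
      obtain ⟨a, ha⟩ := exists_pow_eq_self_of_coprime
        (show (p ^ k).Coprime (orderOf β) from (Nat.Coprime.pow_right k hβ).symm)
      have hpow : ∀ (i : ℕ) (v : P), ν ⟨_, hzS (((β : MulAut P) ^ i) v)⟩ =
          (π γ) ^ i * ν ⟨v, hzS v⟩ * ((π γ) ^ i)⁻¹ := by
        intro i
        induction i with
        | zero =>
          intro v
          rw [pow_zero (π γ), one_mul, inv_one, mul_one]
          rfl
        | succ i ih =>
          intro v
          refine Eq.trans (b := π γ * ν ⟨_, hzS (((β : MulAut P) ^ i) v)⟩ * (π γ)⁻¹) ?_ ?_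
          · refine Eq.trans ?_ (hγ (((β : MulAut P) ^ i) v))
            refine congrArg ν (Subtype.ext ?_)
            show (((((β : MulAut P) ^ (i + 1)) v) : P) : Ω) = _
            rw [pow_succ', MulAut.mul_apply]
            rfl
          · rw [ih v, pow_succ']
            group
      have hone : π γ ^ (p ^ k * a) = 1 := by
        rw [pow_mul, ← map_pow, hresX, one_pow]
        rw [orderOf_pow_of_dvd (pow_ne_zero _ (Fact.out : p.Prime).ne_zero) ⟨m, hkm⟩, hkm,
          Nat.mul_div_cancel_left _ (pow_pos (Fact.out : p.Prime).pos k)]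
        exact ((Fact.out : p.Prime).coprime_iff_not_dvd.2 hm).symm
      have hb : (β : MulAut P) ^ (p ^ k * a) = β := by
        rw [pow_mul]; exact congrArg Subtype.val ha
      have h2 := hpow (p ^ k * a) w
      rw [hone, one_mul, inv_one, mul_one] at h2
      refine Eq.trans ?_ h2
      exact congrArg ν (Subtype.ext (by rw [hb]))

end Cfsg.Agent.S5198
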