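import Cfsg.Statements.S5200
import Cfsg.Agent.Fusion.NormalCentral.Main
-- import your own Cfsg.Agent.* helpers here

set_option autoImplicit false
open Cfsg
open scoped commutatorElement

namespace Cfsg.Agent.S5200

/-- Let F be a saturated fusion system over a finite p-group S and E a normal subsystem of F over T whose centralizer in S lies in T: every subgroup Y of C_S(T) such that E is contained in the centralizer fusion system of Y in F satisfies Y ≤ T. Then T·C_S(T)/T is abelian (the commutator subgroup of T·C_S(T) lies in T), and if p is odd then C_S(T) ≤ T. -/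
theorem result {Ω : Type*} [Group Ω] {S : Subgroup Ω} [Finite S] (p : ℕ) [Fact p.Prime] (hS : IsPGroup p S) (F : Cfsg.FusionSystem S) (hF : F.IsSaturated p) {T : Subgroup Ω} (E : Cfsg.FusionSystem T) (hE : E.IsNormalIn F p) (hCE : ∀ Y : Subgroup Ω, Y ≤ Cfsg.FusionSystem.centralizerIn S T → (∀ C : Cfsg.FusionSystem (Cfsg.FusionSystem.centralizerIn S Y), F.IsCentralizerSystem Y C → E.IsSubsystemOf C) → Y ≤ T) : ⁅T ⊔ Cfsg.FusionSystem.centralizerIn S T, T ⊔ Cfsg.FusionSystem.centralizerIn S T⁆ ≤ T ∧ (p ≠ 2 → Cfsg.FusionSystem.centralizerIn S T ≤ T) := by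
  have hTS : T ≤ S := CfsgLib.Fusion.le_of_subsystem hE.1.2.2.1
  set C := Cfsg.FusionSystem.centralizerIn S T with hCdef
  set X := (CfsgLib.Fusion.centSystem F T hTS).focalSubgroup with hX
  have hXC : X ≤ C := (Subgroup.closure_le _).2 (by
    rintro _ ⟨U, φ, u, hφ, rfl⟩
    exact mul_mem (inv_mem (hφ.2.1 u.2)) (hφ.2.2.1 u))
  have hfoc : X ≤ T := hCE X hXC fun D hD P φ hφ => by
    rw [hD]
    exact CfsgLib.FocCent.hom_le_centralizerHom p hS hE hTS P hφ
  have hcomm : ∀ u ∈ C, ∀ v ∈ C, ⁅u, v⁆ ∈ T := fun u hu v hv => by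
    have h : v⁻¹ * (u * v * u⁻¹) ∈ T := hfoc (Subgroup.subset_closure
      ⟨C, conjHom C u, ⟨v, hv⟩, (CfsgLib.Fusion.centSystem F T hTS).conj_mem le_rfl hu,
        rfl⟩)
    rw [commutatorElement_def, show u * v * u⁻¹ * v⁻¹ = v * (v⁻¹ * (u * v * u⁻¹)) * v⁻¹ by group,
      ← hv.2 _ h, mul_inv_cancel_right]
    exact h
  refine ⟨?_, fun hp c hc => ?_⟩
  · have hTC : C ≤ Subgroup.normalizer (T : Set Ω) := fun x hx =>
      CfsgLib.Fusion.centralizer_le_normalizer' T hx.2
    refine Subgroup.commutator_le.2 fun a ha b hb => ?_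
    rw [← SetLike.mem_coe, Subgroup.coe_mul_of_right_le_normalizer_left T C hTC] at ha hb
    obtain ⟨t, ht, u, hu, rfl⟩ := ha
    obtain ⟨s, hs, v, hv, rfl⟩ := hb
    have e : ⁅t * u, s * v⁆ = ⁅t, s⁆ * ⁅u, v⁆ := by
      have h1 : Commute u s := (hu.2 s hs).symm
      have h2 : Commute v t := (hv.2 t ht).symm
      have h3 : Commute u t := (hu.2 t ht).symm
      have h4 : Commute v s := (hv.2 s hs).symm
      simp only [commutatorElement_def, mul_inv_rev]
      calc t * u * (s * v) * (u⁻¹ * t⁻¹) * (v⁻¹ * s⁻¹)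
          = t * (u * s) * v * u⁻¹ * t⁻¹ * v⁻¹ * s⁻¹ := by group
        _ = t * s * (u * v * u⁻¹ * t⁻¹) * v⁻¹ * s⁻¹ := by rw [h1.eq]; group
        _ = t * s * t⁻¹ * (u * v * u⁻¹ * v⁻¹ * s⁻¹) := by
            rw [(((h3.mul_left h2).mul_left h3.inv_left).inv_right).eq]; group
        _ = t * s * t⁻¹ * s⁻¹ * (u * v * u⁻¹ * v⁻¹) := by
            rw [((((h1.mul_left h4).mul_left h1.inv_left).mul_left h4.inv_left).inv_right).eq]; group
    rw [e, commutatorElement_def]
    exact mul_mem (mul_mem (mul_mem (mul_mem ht hs) (inv_mem ht)) (inv_mem hs)) (hcomm u hu v hv)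
  · obtain ⟨z, hz, hcz, hcE⟩ :=
      CfsgLib.NormalCentral.exists_mul_centralizes hp hS hF hE hc hfoc
    have h1 := hCE (Subgroup.zpowers (c * z)) (Subgroup.zpowers_le.2 hcz) fun D hD P φ hφ => by
      rw [hD]; exact hcE P φ hφ
    have h2 := h1 (Subgroup.mem_zpowers (c * z))
    simpa using mul_mem h2 (inv_mem hz)

end Cfsg.Agent.S5200
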