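import Cfsg.Statements.S5201
import Cfsg.Agent.Fusion.SolvIndex.Main
-- import your own Cfsg.Agent.* helpers here

set_option autoImplicit false
open Cfsg

namespace Cfsg.Agent.S5201

/-- A reduction to normal subsystems. Let F be a saturated fusion system over a finite p-group S and E a normal subsystem of F over T whose centralizer in S lies in T (every subgroup Y of C_S(T) with E contained in the centralizer fusion system of Y in F satisfies Y ≤ T), and suppose Aut_F(T)/Aut_E(T) is p-solvable. Then F and E have the same residual limit: if F∞ is the residual limit of F (reached by alternately passing to the p-residual and the p'-residual subsystem until nothing changes) and E∞ that of E, then F∞ and E∞ have the same maps. -/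
theorem result {Ω : Type*} [Group Ω] {S : Subgroup Ω} [Finite S] (p : ℕ) [Fact p.Prime] (hS : IsPGroup p S) (F : Cfsg.FusionSystem S) (hF : F.IsSaturated p) {T : Subgroup Ω} (E : Cfsg.FusionSystem T) (hE : E.IsNormalIn F p) (hCE : ∀ Y : Subgroup Ω, Y ≤ Cfsg.FusionSystem.centralizerIn S T → (∀ C : Cfsg.FusionSystem (Cfsg.FusionSystem.centralizerIn S Y), F.IsCentralizerSystem Y C → E.IsSubsystemOf C) → Y ≤ T) [hn : ((E.autGroup T).subgroupOf (F.autGroup T)).Normal] (hsolv : Cfsg.IsPSolvable p (↥(F.autGroup T) ⧸ (E.autGroup T).subgroupOf (F.autGroup T))) {U V : Subgroup Ω} (Finf : Cfsg.FusionSystem U) (hFinf : Finf.IsResidualLimitOf F p) (Einf : Cfsg.FusionSystem V) (hEinf : Einf.IsResidualLimitOf E p) : ∀ P : Subgroup Ω, Finf.Hom P = Einf.Hom P := by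
  have hTS : T ≤ S := CfsgLib.Fusion.le_of_subsystem hE.1.2.2.1
  haveI := CfsgLib.Fusion.finite_of_le hTS
  haveI : Finite (MulAut T) := CfsgLib.Fusion.finite_mulAut
  set C := Cfsg.FusionSystem.centralizerIn S T with hCdef
  set X := (CfsgLib.Fusion.centSystem F T hTS).focalSubgroup with hX
  have hXC : X ≤ C := (Subgroup.closure_le _).2 (by
    rintro _ ⟨U, φ, u, hφ, rfl⟩
    exact mul_mem (inv_mem (hφ.2.1 u.2)) (hφ.2.2.1 u))
  have hfoc : X ≤ T := hCE X hXC fun D hD P φ hφ => by
    rw [hD]
    exact CfsgLib.FocCent.hom_le_centralizerHom p hS hE hTS P hφ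
  exact (CfsgLib.SolvIndex.sameLimit_of_layered hS hE
    (CfsgLib.SolvIndex.fixTrivial_of_focal hTS hfoc)
    (CfsgLib.SolvIndex.layered_of_pSolvable p (CfsgLib.Fusion.autGroup_mono' hE.1.2.2.1 T) hsolv)
    hFinf hEinf).2

end Cfsg.Agent.S5201
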