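import Cfsg.Statements.S5202
import Cfsg.Agent.Fusion.SolvIndex.Descent
-- import your own Cfsg.Agent.* helpers here

set_option autoImplicit false
open Cfsg

namespace Cfsg.Agent.S5202

/-- Let F be a saturated fusion system over a finite p-group S and E a normal subsystem of F over T such that Aut_F(T)/Aut_E(T) is p-solvable. Then there is a normal subsystem F₀ of F over T·C_S(T) containing E, with Aut_{F₀}(T) = Aut_E(T), containing every residual limit of F, and whose residual limits have the same maps as those of F. -/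
theorem result {Ω : Type*} [Group Ω] {S : Subgroup Ω} [Finite S] (p : ℕ) [Fact p.Prime] (hS : IsPGroup p S) (F : Cfsg.FusionSystem S) (hF : F.IsSaturated p) {T : Subgroup Ω} (E : Cfsg.FusionSystem T) (hE : E.IsNormalIn F p) [hn : ((E.autGroup T).subgroupOf (F.autGroup T)).Normal] (hsolv : Cfsg.IsPSolvable p (↥(F.autGroup T) ⧸ (E.autGroup T).subgroupOf (F.autGroup T))) : ∃ F₀ : Cfsg.FusionSystem (T ⊔ Cfsg.FusionSystem.centralizerIn S T), F₀.IsNormalIn F p ∧ E.IsSubsystemOf F₀ ∧ F₀.autGroup T = E.autGroup T ∧ ∀ {U : Subgroup Ω} (Finf : Cfsg.FusionSystem U), Finf.IsResidualLimitOf F p → Finf.IsSubsystemOf F₀ ∧ ∀ {V : Subgroup Ω} (L : Cfsg.FusionSystem V), L.IsResidualLimitOf F₀ p → ∀ P : Subgroup Ω, L.Hom P = Finf.Hom P := by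
  have hTS : T ≤ S := CfsgLib.Fusion.le_of_subsystem hE.1.2.2.1
  haveI := CfsgLib.Fusion.finite_of_le hTS
  haveI : Finite (MulAut T) := CfsgLib.Fusion.finite_mulAut
  obtain ⟨F₀, hF₀, heq⟩ := CfsgLib.SolvIndex.exists_reduced hS hE
    (CfsgLib.SolvIndex.layered_of_pSolvable p (CfsgLib.Fusion.autGroup_mono' hE.1.2.2.1 T) hsolv)
  refine ⟨F₀, hF₀.normal, hF₀.sub, heq, fun {U} Finf hFinf => ?_⟩
  have hle : T ⊔ Cfsg.FusionSystem.centralizerIn S T ≤ S :=
    sup_le hTS (CfsgLib.Fusion.centralizerIn_le_S T)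
  haveI := CfsgLib.Fusion.finite_of_le hle
  obtain ⟨W, B, hB⟩ := CfsgLib.SolvIndex.exists_limit (CfsgLib.Fusion.isPGroup_of_le hS hle)
    hF₀.normal.1.1
  refine ⟨fun P φ hφ => CfsgLib.SolvIndex.limit_sub hB P ?_, fun {V} L hL P => ?_⟩
  · rwa [← (hF₀.limit Finf B hFinf hB).2 P]
  · exact ((hF₀.limit Finf L hFinf hL).2 P).symm

end Cfsg.Agent.S5202
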