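import Cfsg.Statements.S5204
import Cfsg.Agent.Fusion.InnerZJ

set_option autoImplicit false
open Cfsg Cfsg.FusionSystem CfsgLib.Fusion

namespace Cfsg.Agent.S5204

/-- The Glauberman–Thompson normal p-complement criterion for fusion systems, p odd. Let F be a saturated fusion system over a finite p-group S with p odd, and let Z(J(S)) be the centre of the subgroup generated by the abelian subgroups of S of largest order. Then F is the inner fusion system of S if and only if the normalizer fusion system of Z(J(S)) in F is the inner fusion system of N_S(Z(J(S))) = S. -/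
theorem result {Ω : Type*} [Group Ω] {S : Subgroup Ω} [Finite S] (p : ℕ) [Fact p.Prime] (hS : IsPGroup p S) (F : Cfsg.FusionSystem S) (hF : F.IsSaturated p) (hp : p ≠ 2) : (∀ P : Subgroup Ω, F.Hom P = (Cfsg.innerFusionSystem S).Hom P) ↔ ∀ N : Cfsg.FusionSystem (Cfsg.FusionSystem.normalizerIn S (Cfsg.centerThompsonAOf S)), F.IsNormalizerSystem (Cfsg.centerThompsonAOf S) N → ∀ P : Subgroup Ω, N.Hom P = (Cfsg.innerFusionSystem (Cfsg.FusionSystem.normalizerIn S (Cfsg.centerThompsonAOf S))).Hom P := by
  have hW : centerThompsonAOf S ≤ S := isCharIn_centerThompsonAOf.1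
  rw [← innerAt_iff hW, ← isInner_iff]
  exact ⟨fun h => innerAt_of_isInner h _, isInner_of_centerThompson p hp hS hF⟩

end Cfsg.Agent.S5204
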