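import Cfsg.Statements.S5206
import Cfsg.Agent.Fusion.QdLocal
import Cfsg.Agent.Fusion.ModelGroup
import Cfsg.Agent.Fusion.LocalSaturation

set_option autoImplicit false
universe u
open Cfsg Cfsg.FusionSystem CfsgLib.Fusion

namespace Cfsg.Agent.S5206

/-- Let p be an odd prime, G a finite group and P a Sylow p-subgroup of G. Then the fusion system of G on P is Qd(p)-free (Qd(p), the natural semidirect product of an elementary abelian group of order p² by SL₂(p), is not involved in any model of the normalizer system of a fully normalized centric subgroup) if and only if Qd(p) is not involved in G. -/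
theorem result {G : Type u} [Group G] [Finite G] {p : ℕ} [Fact p.Prime] (hp : p ≠ 2) (P : Sylow p G) : (Cfsg.groupFusionSystem (P : Subgroup G)).IsSectionFree p ↥(Cfsg.qd p) ↔ ¬ Cfsg.Involves ↥(Cfsg.qd p) G := by
  set F := groupFusionSystem (P : Subgroup G)
  have hF := groupFusion_saturated P
  constructor
  · intro hfree hinv
    obtain ⟨Q, hQp, hQc, hQinv⟩ := exists_centric_local hp hinv
    -- the properties pass to conjugates
    have hconj : ∀ g : G, (∀ x ∈ Subgroup.centralizer ((Q.map (MulAut.conj g).toMonoidHom : Subgroup G) : Set G),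
        (∃ j : ℕ, x ^ p ^ j = 1) → x ∈ Q.map (MulAut.conj g).toMonoidHom) ∧
        Cfsg.Involves ↥(Cfsg.qd p) ↥(Subgroup.normalizer ((Q.map (MulAut.conj g).toMonoidHom : Subgroup G) : Set G)) := by
      intro g
      refine ⟨fun x hx ⟨j, hj⟩ => ⟨g⁻¹ * x * g, hQc _ ?_ ⟨j, ?_⟩, ?_⟩, ?_⟩
      · intro q hq
        have h1 := hx _ ⟨q, hq, rfl⟩
        simp only [MulEquiv.coe_toMonoidHom, MulAut.conj_apply] at h1
        calc q * (g⁻¹ * x * g) = g⁻¹ * ((g * q * g⁻¹) * x) * g := by group
          _ = g⁻¹ * (x * (g * q * g⁻¹)) * g := by rw [h1]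
          _ = g⁻¹ * x * g * q := by group
      · rw [show g⁻¹ * x * g = g⁻¹ * x * g⁻¹⁻¹ by rw [inv_inv], conj_pow, hj, mul_one, mul_inv_cancel]
      · show g * (g⁻¹ * x * g) * g⁻¹ = x
        group
      · obtain ⟨K, f, hf⟩ := CfsgLib.ZJ.exists_surjective_of_involves hQinv
        refine CfsgLib.ZJ.involves_of_hom ⊤ (((MulAut.conj g⁻¹).subgroupMap _).toMonoidHom.comp
          Subgroup.topEquiv.toMonoidHom) ((MulEquiv.surjective _).comp (MulEquiv.surjective _)) ?_
        have e : (Subgroup.normalizer ((Q.map (MulAut.conj g).toMonoidHom : Subgroup G) : Set G)).map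
            (MulAut.conj g⁻¹ : G ≃* G).toMonoidHom = Subgroup.normalizer (Q : Set G) := by
          rw [← CfsgLib.Functor.cj_normalizer, CfsgLib.Functor.cj_inv_cj]
        exact e.symm ▸ hQinv
    obtain ⟨P', hP'⟩ := hQp.exists_le_sylow
    obtain ⟨g₀, hg₀⟩ := MulAction.exists_smul_eq G P' P
    have hQ₁ : Q.map (MulAut.conj g₀).toMonoidHom ≤ (P : Subgroup G) := by
      rw [← hg₀, Sylow.coe_subgroup_smul]
      exact Subgroup.map_mono hP'
    obtain ⟨Q₂, hQ₂, hfn⟩ := exists_fullyNormalized F hQ₁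
    have hQ₂c : F.IsCentric Q₂ := by
      refine ⟨hfn.1, fun R hR x hx => ?_⟩
      obtain ⟨-, -, g, rfl⟩ := isConj_groupFusion.1 (isConj_trans hQ₂ hR)
      obtain ⟨j, hj⟩ := P.2 ⟨x, hx.1⟩
      have h1 := (hconj (g * g₀)).1 x
      rw [← CfsgLib.Functor.cj_cj] at h1
      exact h1 hx.2 ⟨j, congrArg Subtype.val hj⟩
    obtain ⟨-, -, g, rfl⟩ := isConj_groupFusion.1 hQ₂
    have hinv₂ : Cfsg.Involves ↥(Cfsg.qd p)
        ↥(Subgroup.normalizer (((Q.map (MulAut.conj g₀).toMonoidHom).map (MulAut.conj g).toMonoidHom : Subgroup G) : Set G)) := by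
      have h1 := (hconj (g * g₀)).2
      rw [← CfsgLib.Functor.cj_cj] at h1
      exact h1
    set Q₂ := (Q.map (MulAut.conj g₀).toMonoidHom).map (MulAut.conj g).toMonoidHom
    have hspec := normSystem_spec F Q₂ hfn.1
    have := finite_of_le (normalizerIn_le_S (S := (P : Subgroup G)) Q₂)
    have hU := P.2.to_le (normalizerIn_le_S (S := (P : Subgroup G)) Q₂)
    obtain ⟨L, hL, ι, hm⟩ := exists_model p hU (normalizerSystem_saturated p P.2 hF hfn hspec)
      (isNormal_normalizerSystem hfn.1 hspec) (isCentric_normalizerSystem hQ₂c hspec)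
    obtain ⟨f, hf, hker⟩ := exists_hom_normalizer_model P hfn hQ₂c hspec hm
    exact hfree Q₂ hfn hQ₂c _ hspec L ι hm (involves_qd_image f hker hinv₂)
  · intro hno Q hfn hQc N hN L _ ι hm hinv
    obtain ⟨f, hf, -⟩ := exists_hom_normalizer_model P hfn hQc hN hm
    exact hno (CfsgLib.ZJ.involves_of_subgroup _ (CfsgLib.ZJ.involves_of_hom ⊤
      (f.comp Subgroup.topEquiv.toMonoidHom) (hf.comp (MulEquiv.surjective _)) hinv))

end Cfsg.Agent.S5206
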