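import Cfsg.Statements.S5212
import Cfsg.Agent.Fusion.MetacyclicTwo
import Cfsg.Agent.Fusion.MetacyclicAut
import Cfsg.Agent.Fusion.InnerCriterion

set_option autoImplicit false
open Cfsg Cfsg.FusionSystem CfsgLib.Fusion

namespace Cfsg.Agent.S5212

/-- Let S be a finite metacyclic 2-group that is not homocyclic abelian (a direct product of cyclic groups of one common order), not dihedral, not semidihedral and not generalized quaternion. Then every saturated fusion system over S is the inner fusion system of S. -/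
theorem result {Ω : Type*} [Group Ω] {S : Subgroup Ω} [Finite S] (hS : IsPGroup 2 S) (F : Cfsg.FusionSystem S) (hF : F.IsSaturated 2) (hm : Cfsg.IsMetacyclic ↥S) (hh : ¬ ∃ n k : ℕ, Nonempty (↥S ≃* Multiplicative (Fin k → ZMod (2 ^ n)))) (hd : ¬ ∃ m : ℕ, Nonempty (↥S ≃* DihedralGroup m)) (hq : ¬ ∃ m : ℕ, Nonempty (↥S ≃* QuaternionGroup m)) (hsd : ¬ Cfsg.IsQuasiDihedral ↥S) : ∀ P : Subgroup Ω, F.Hom P = (Cfsg.innerFusionSystem S).Hom P := by
  have hdsq : ¬ CfsgLib.TwoMax.DSQ S := by
    rintro (⟨k, h⟩ | ⟨k, hcard, a, b, ha, hb, hab⟩ | ⟨k, h⟩)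
    · exact hd ⟨_, h⟩
    · exact hsd ⟨k + 3, by omega, hcard, a, b, ha, hb, hab⟩
    · exact hq ⟨_, h⟩
  have hn : F.IsNormal S := isNormal_of_metacyclic_two hS hF stronglyClosed_self hm hdsq
  have hA : IsPGroup 2 (MulAut S) := by
    by_contra hA
    rcases CfsgLib.MetacyclicAut.quaternion_or_homocyclic hS hm hA with h | ⟨n, ⟨e⟩⟩
    · exact hq ⟨_, h⟩
    · let f : Multiplicative (ZMod (2 ^ n)) × Multiplicative (ZMod (2 ^ n)) ≃*
          Multiplicative (Fin 2 → ZMod (2 ^ n)) :=
        { toFun := fun a => Multiplicative.ofAdd ![a.1.toAdd, a.2.toAdd]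
          invFun := fun v => (Multiplicative.ofAdd (v.toAdd 0), Multiplicative.ofAdd (v.toAdd 1))
          left_inv := fun a => by simp
          right_inv := fun v => by
            refine Multiplicative.toAdd.injective (funext fun i => ?_)
            fin_cases i <;> simp
          map_mul' := fun a b => by
            refine Multiplicative.toAdd.injective (funext fun i => ?_)
            fin_cases i <;> simp }
      exact hh ⟨n, 2, ⟨e.trans f⟩⟩
  refine isInner_iff.1 fun P φ hφ => ?_
  obtain ⟨ψ, hψ, he, hm'⟩ := hn.2 P φ hφ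
  let β := ψ.comp (Subgroup.inclusion (le_sup_right : S ≤ P ⊔ S))
  have hβ : β ∈ F.Hom S := restrict_mem hψ le_sup_right
  have hβr : β.range = S := (range_restrict ψ le_sup_right).trans hm'
  obtain ⟨g, hg, hgx⟩ := aut_S_inner 2 hS hF (hA.to_subgroup _) (autOfRange_mem hβ hβr)
  refine ⟨g, hg, fun x => ?_⟩
  rw [← he x, ← hgx ⟨x, le_of_mem_hom hφ x.2⟩, coe_autOfRange]
  exact apply_congr ψ rfl

end Cfsg.Agent.S5212
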