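import Cfsg.Statements.S5214
import Cfsg.Agent.Recog.SuzukiHigman
import Cfsg.Agent.Fusion.ShearEmbedded

set_option autoImplicit false
open Cfsg Cfsg.FusionSystem CfsgLib.Fusion
open scoped commutatorElement

namespace Cfsg.Agent.S5214

/-- Let S be a Suzuki 2-group (a finite nonabelian 2-group with more than one involution admitting a cyclic group of automorphisms permuting its involutions regularly). Then S is normal in every saturated fusion system over S (such a group is resistant). -/
theorem result {Ω : Type*} [Group Ω] {S : Subgroup Ω} [Finite S] (hS : IsPGroup 2 S) (F : Cfsg.FusionSystem S) (hF : F.IsSaturated 2) (hsz : Cfsg.IsSuzukiTwoGroup ↥S) : F.IsNormal S := by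
  obtain ⟨hfin, h2, hne, htwo, K, hK, hreg⟩ := hsz
  obtain ⟨α, hα⟩ := CfsgLib.Recog.SuzukiTwo.exists_trans K hreg
  have hiff := fun x : ↥S => CfsgLib.Recog.SuzukiTwo.center_iff h2 hα hne (x := x)
  have hcomm := CfsgLib.Recog.SuzukiTwo.comm_central h2 hα hne htwo
  haveI : Fact (Nat.Prime 2) := ⟨Nat.prime_two⟩
  refine isNormal_of_essential 2 hS hF (fun P hP => ?_) fun P hP β _ x _ => ?_
  · rcases hP with rfl | hP
    · exact le_rfl
    exfalso
    have hlt := essential_lt 2 hS hF hP
    obtain ⟨g, hg, hgP⟩ := SetLike.exists_of_lt (lt_normalizerIn 2 hS le_rfl hlt)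
    refine hgP ?_
    have hPS := hP.1.1
    let Z : Subgroup P :=
      ((Subgroup.center ↥S).map S.subtype).subgroupOf P
    have hmemZ : ∀ x : P, x ∈ Z ↔ x * x = 1 := by
      intro x
      constructor
      · rintro ⟨y, hy, hyx⟩
        apply Subtype.ext
        rw [Subgroup.coe_mul, Subgroup.coe_one]
        have h := congrArg Subtype.val ((hiff y).1 hy)
        rw [Subgroup.coe_mul, Subgroup.coe_one] at h
        change (y : Ω) = (x : Ω) at hyx
        rwa [hyx] at h
      · intro hx
        exact ⟨⟨x, hPS x.2⟩, (hiff _).2 (Subtype.ext (show (x : Ω) * x = 1 from congrArg Subtype.val hx)), rfl⟩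
    refine mem_of_central_chain hS hP Z (fun β _ x hx => ?_) hg (fun x hx => ?_) fun x => ?_
    · rw [hmemZ] at hx ⊢
      rw [← map_mul, hx, map_one]
    · apply Subtype.ext
      rw [coe_conjAut]
      obtain ⟨y, hy, hyx⟩ := hx
      change (y : Ω) = (x : Ω) at hyx
      have h := congrArg Subtype.val (Subgroup.mem_center_iff.1 hy ⟨g, hg.1⟩)
      rw [← hyx]
      change g * (y : Ω) * g⁻¹ = y
      change g * (y : Ω) = (y : Ω) * g at h
      rw [h, mul_inv_cancel_right]
    · have h := hcomm (⟨x, hPS x.2⟩ : ↥S)⁻¹ ⟨g, hg.1⟩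
      refine ⟨_, h, ?_⟩
      change ((⁅(⟨x, hPS x.2⟩ : ↥S)⁻¹, ⟨g, hg.1⟩⁆ : ↥S) : Ω) = _
      simp [commutatorElement_def, mul_assoc]
  · rcases hP with rfl | hP
    · exact (β x).2
    · exact hP.1.1 (β x).2

end Cfsg.Agent.S5214
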