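import Cfsg.Statements.S5224
import Cfsg.Agent.Fusion.Tate
import Cfsg.Agent.Solvable.PGroupBasic

set_option autoImplicit false
open Cfsg Cfsg.FusionSystem CfsgLib.Fusion
open scoped commutatorElement

namespace Cfsg.Agent.S5224

/-- Tate's Theorem for fusion systems. Let F be a saturated fusion system over a finite p-group S and H a saturated fusion system over S contained in F. Then the following are equivalent: the elementary focal subgroups Φ(S)·foc agree for F and H; the focal subgroups of F and H agree; the hyperfocal subgroups of F and H agree. -/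
theorem result {Ω : Type*} [Group Ω] {S : Subgroup Ω} [Finite S] (p : ℕ) [Fact p.Prime] (hS : IsPGroup p S) (F : Cfsg.FusionSystem S) (hF : F.IsSaturated p) (H : Cfsg.FusionSystem S) (hH : H.IsSaturated p) (hHF : H.IsSubsystemOf F) : (((frattini ↥S).map S.subtype ⊔ F.focalSubgroup) = ((frattini ↥S).map S.subtype ⊔ H.focalSubgroup) ↔ F.focalSubgroup = H.focalSubgroup) ∧ (F.focalSubgroup = H.focalSubgroup ↔ F.hyperfocalSubgroup p = H.hyperfocalSubgroup p) := by
  have hle : ∀ P, H.Hom P ⊆ F.Hom P := hHF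
  have hfmono : H.focalSubgroup ≤ F.focalSubgroup := Subgroup.closure_mono fun y ⟨P, φ, x, hφ, hy⟩ =>
    ⟨P, φ, x, hle P hφ, hy⟩
  have hamono : ∀ P : Subgroup Ω, H.autGroup P ≤ F.autGroup P := fun P =>
    Subgroup.closure_mono fun α hα => hle P hα
  have hhmono : H.hyperfocalSubgroup p ≤ F.hyperfocalSubgroup p := by
    refine Subgroup.closure_mono ?_
    rintro y ⟨P, α, x, hP, hα, hy⟩
    have : Finite P := finite_of_le hP
    have : Finite (MulAut P) := finite_mulAut
    exact ⟨P, Subgroup.inclusion (hamono P) α, x, hP,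
      CfsgLib.PResidual.map_pResidual_le (Subgroup.inclusion (hamono P)) ⟨α, hα, rfl⟩, hy⟩
  have hfocH : ∀ (G : Cfsg.FusionSystem S), G.IsSaturated p →
      G.focalSubgroup = G.hyperfocalSubgroup p ⊔ ⁅S, S⁆ := fun G hG => by
    refine le_antisymm ?_ (sup_le ?_ commutator_le_focal)
    · exact focalSubgroup_le_of_pResidual p hS hG le_sup_right fun P hP α hα x =>
        Subgroup.mem_sup_left (Subgroup.subset_closure ⟨P, α, x, (by
          rcases hP with rfl | hP
          · exact le_rfl
          · exact hP.1.1), hα, rfl⟩)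
    · refine (Subgroup.closure_le _).2 ?_
      rintro _ ⟨P, α, x, hP, -, rfl⟩
      exact Subgroup.subset_closure ⟨P, _, x, (autGroup_carrier hP).1 α.2, rfl⟩
  have hTate : ((frattini ↥S).map S.subtype ⊔ F.focalSubgroup) =
      ((frattini ↥S).map S.subtype ⊔ H.focalSubgroup) →
      F.hyperfocalSubgroup p = H.hyperfocalSubgroup p := by
    intro heq
    by_contra hne
    set T := F.hyperfocalSubgroup p
    set U := H.hyperfocalSubgroup p
    have hTS : T ≤ S := hyperfocalSubgroup_le_S p
    have hTn : S ≤ Subgroup.normalizer (T : Set Ω) := le_normalizer_hyperfocal p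
    have hUn : S ≤ Subgroup.normalizer (U : Set Ω) := le_normalizer_hyperfocal p
    have hUS : U ≤ S := hhmono.trans hTS
    -- a central maximal subgroup of `T` above `U`
    have : (U.subgroupOf S).Normal := ⟨fun x hx g => (Subgroup.mem_normalizer_iff.1 (hUn g.2) x).1 hx⟩
    let π : S →* S ⧸ U.subgroupOf S := QuotientGroup.mk' _
    set Tb := (T.subgroupOf S).map π
    have : (T.subgroupOf S).Normal := ⟨fun x hx g => (Subgroup.mem_normalizer_iff.1 (hTn g.2) x).1 hx⟩
    have : Tb.Normal := Subgroup.Normal.map inferInstance π (QuotientGroup.mk'_surjective _)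
    have hTb : Tb ≠ ⊥ := by
      intro hb
      refine hne (le_antisymm (fun x hx => ?_) hhmono)
      have h1 : π ⟨x, hTS hx⟩ ∈ Tb := ⟨_, hx, rfl⟩
      rw [hb, Subgroup.mem_bot] at h1
      exact (QuotientGroup.eq_one_iff (⟨x, hTS hx⟩ : S)).1 h1
    obtain ⟨Mb, hMT, hcM, hcard⟩ := exists_central_index (hS.of_surjective π (QuotientGroup.mk'_surjective _)) hTb
    set T' : Subgroup Ω := (Mb.comap π).map S.subtype with hT'def
    have hUT' : U ≤ T' := fun x hx => ⟨⟨x, hUS hx⟩, by
      show π ⟨x, hUS hx⟩ ∈ Mb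
      rw [show π ⟨x, hUS hx⟩ = 1 from (QuotientGroup.eq_one_iff (⟨x, hUS hx⟩ : S)).2 hx]
      exact one_mem _, rfl⟩
    have hT'T : T' ≤ T := by
      rintro _ ⟨x, hx, rfl⟩
      obtain ⟨y, hy, hyx⟩ := hMT hx
      have h1 : (y⁻¹ * x : S) ∈ U.subgroupOf S := QuotientGroup.eq.1 hyx
      have h2 := mul_mem (Subgroup.mem_subgroupOf.1 hy) (hhmono (Subgroup.mem_subgroupOf.1 h1))
      simpa using h2
    have hc : ⁅T, S⁆ ≤ T' := by
      rw [Subgroup.commutator_le]
      intro a ha b hb
      refine ⟨⁅(⟨a, hTS ha⟩ : S), ⟨b, hb⟩⁆, ?_, rfl⟩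
      show π _ ∈ Mb
      rw [map_commutatorElement]
      exact hcM (Subgroup.commutator_mem_commutator ⟨⟨a, hTS ha⟩, ha, rfl⟩ (Subgroup.mem_top _))
    have hidx : p * Nat.card T' = Nat.card T := by
      have hk : π.ker = U.subgroupOf S := QuotientGroup.ker_mk' _
      have hc : ∀ V : Subgroup S, π.ker ≤ V → Nat.card V = Nat.card (V.map π) * Nat.card π.ker := by
        intro V hV
        rw [← (π.ker.subgroupOf V).card_mul_index, Nat.card_congr (Subgroup.subgroupOfEquivOfLe hV).toEquiv,
          mul_comm, ← show (π.comp V.subtype).ker = π.ker.subgroupOf V from rfl, Subgroup.index_ker,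
          MonoidHom.range_comp, Subgroup.range_subtype]
      have h1 : π.ker ≤ Mb.comap π := Subgroup.ker_le_comap π Mb
      have h2 : π.ker ≤ T.subgroupOf S := by
        rw [hk]; exact fun x hx => hhmono hx
      rw [hT'def, ← Nat.card_congr ((Mb.comap π).equivMapOfInjective _ S.subtype_injective).toEquiv,
        ← Nat.card_congr (Subgroup.subgroupOfEquivOfLe hTS).toEquiv, hc _ h1, hc _ h2,
        Subgroup.map_comap_eq_self_of_surjective (QuotientGroup.mk'_surjective _), ← mul_assoc, hcard]
    obtain ⟨K, hΦK, hK⟩ := exists_frattini_le_inf_eq p hS hF hTn le_rfl hTS hT'T hc hidx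
    have hcK : ⁅S, S⁆ ≤ K.map S.subtype := by
      rw [← S.map_subtype_commutator]
      exact Subgroup.map_mono ((CfsgLib.PGroupBasic.commutator_pow_le_frattini hS).1.trans hΦK)
    have hUK : U ≤ K.map S.subtype := fun x hx => (hK.ge ⟨hhmono hx, hUT' hx⟩).2
    have hTK : T ≤ K.map S.subtype :=
      ((le_sup_left.trans (hfocH F hF).ge).trans le_sup_right).trans (heq.le.trans
        (sup_le (Subgroup.map_mono hΦK) ((hfocH H hH).le.trans (sup_le hUK hcK))))
    have hTT' : T ≤ T' := (le_inf le_rfl hTK).trans (hK.le.trans inf_le_right)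
    have h1 : Nat.card T' = Nat.card T := by rw [le_antisymm hT'T hTT']
    rw [h1] at hidx
    have := finite_of_le hTS
    exact absurd hidx (ne_of_gt (lt_mul_of_one_lt_left Nat.card_pos (Fact.out : p.Prime).one_lt))
  refine ⟨⟨fun h => ?_, fun h => by rw [h]⟩, ⟨fun h => hTate (by rw [h]), fun h => ?_⟩⟩
  · rw [hfocH F hF, hfocH H hH, hTate h]
  · rw [hfocH F hF, hfocH H hH, h]

end Cfsg.Agent.S5224
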