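import Cfsg.Statements.S5225
import Cfsg.Agent.Fusion.Yoshida

set_option autoImplicit false
open Cfsg Cfsg.FusionSystem CfsgLib.Fusion

namespace Cfsg.Agent.S5225

/-- Yoshida's Theorem for fusion systems. Let F be a saturated fusion system over a finite p-group S and N the normalizer fusion system of S in F. If the focal subgroups of F and N differ (N does not control transfer in F), then S has a quotient isomorphic to the wreath product C_p ≀ C_p (realised as a Sylow p-subgroup of the symmetric group of degree p²). -/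
theorem result {Ω : Type*} [Group Ω] {S : Subgroup Ω} [Finite S] (p : ℕ) [Fact p.Prime] (hS : IsPGroup p S) (F : Cfsg.FusionSystem S) (hF : F.IsSaturated p) (N : Cfsg.FusionSystem (Cfsg.FusionSystem.normalizerIn S S)) (hN : F.IsNormalizerSystem S N) (hne : N.focalSubgroup ≠ F.focalSubgroup) : ∃ (W : Sylow p (Equiv.Perm (Fin (p ^ 2)))) (f : ↥S →* ↥(W : Subgroup (Equiv.Perm (Fin (p ^ 2))))), Function.Surjective f := by
  have hNS : FusionSystem.normalizerIn S S = S := le_antisymm (normalizerIn_le_S S) (le_normalizerIn le_rfl)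
  refine exists_wreath_of_focal_ne p hS hF ?_ ?_ hne fun φ hφ y => ?_
  · exact le_trans (Subgroup.commutator_mono hNS.ge hNS.ge) (commutator_le_focal (F := N))
  · refine (Subgroup.closure_le _).2 ?_
    rintro _ ⟨P, φ, x, hφ, rfl⟩
    exact Subgroup.subset_closure ⟨P, φ, x, ((hN P).le hφ).1, rfl⟩
  · have hr : φ.range = S := eq_of_le_of_card_le le_rfl (range_le_S hφ) (card_range hφ).ge
    have hsub : S ⊔ S ≤ S := sup_le le_rfl le_rfl
    refine Subgroup.subset_closure ⟨S, φ, y, (hN S).ge ⟨hφ, hNS.ge,
      fun x => hNS.ge (apply_mem_S hφ x), φ.comp (Subgroup.inclusion hsub), restrict_mem hφ hsub,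
      fun x => rfl, ?_⟩, rfl⟩
    rw [map_subgroupOf_congr (ψ := φ.comp (Subgroup.inclusion hsub)) (χ := φ) le_sup_right
      le_rfl fun _ _ => rfl, map_subgroupOf_self, hr]

end Cfsg.Agent.S5225
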