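import Cfsg.Statements.S5238
import Cfsg.Agent.PearlMC.Element
import Cfsg.Agent.PearlMC.Power

set_option autoImplicit false
open Cfsg

namespace Cfsg.Agent.S5238

open Subgroup

/-- Let p be an odd prime and F a saturated fusion system over a finite p-group S having a pearl: an F-essential subgroup E that is elementary abelian of order p² or nonabelian of order p³. Then S has maximal nilpotency class (if S has order pⁿ with n ≥ 3, the term of index n − 2 of its lower central series, counting S itself as the term of index 0, is nontrivial), and every subgroup of S can be generated by at most p elements (the sectional rank of S is at most p). -/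
theorem result {Ω : Type*} [Group Ω] {S : Subgroup Ω} [Finite S] (p : ℕ) [Fact p.Prime] (hS : IsPGroup p S) (F : Cfsg.FusionSystem S) (hF : F.IsSaturated p) (hp : p ≠ 2) (E : Subgroup Ω) (hE : F.IsEssential p E) (hpearl : (Nat.card E = p ^ 2 ∧ ∀ x ∈ E, x ^ p = 1 ∧ IsMulCommutative ↥E) ∨ (Nat.card E = p ^ 3 ∧ ¬ IsMulCommutative ↥E)) : (∀ n : ℕ, Nat.card S = p ^ n → 3 ≤ n → Subgroup.lowerCentralSeries S (n - 2) ≠ ⊥) ∧ ∀ H : Subgroup Ω, H ≤ S → ∃ T : Finset Ω, T.card ≤ p ∧ Subgroup.closure (T : Set Ω) = H := by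
  classical
  have hES : E ≤ S := hE.1.1
  have hconj : F.IsConj E E := ⟨Cfsg.conjHom E 1, F.conj_mem hES (one_mem S), by
    ext y
    simp [Cfsg.conjHom]⟩
  have hcen := hE.1.2 E hconj
  set E' : Subgroup S := E.subgroupOf S with hE'
  have hC : ∀ y : S, (∀ e ∈ E', e * y = y * e) → y ∈ E' := fun y hy =>
    mem_subgroupOf.2 (hcen ⟨y.2, mem_centralizer_iff.2 fun e he =>
      congrArg Subtype.val (hy ⟨e, hES he⟩ (mem_subgroupOf.2 he))⟩)
  have hcard : Nat.card E' = Nat.card E :=
    Nat.card_congr (Subgroup.subgroupOfEquivOfLe hES).toEquiv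
  obtain ⟨x, hx⟩ : ∃ x : S, CfsgLib.PearlMC.Slim p x := by
    rcases hpearl with ⟨h2, hab⟩ | ⟨h3, hnab⟩
    · have hcomm := (hab 1 (one_mem E)).2
      have hab' : ∀ a ∈ E', ∀ b ∈ E', a * b = b * a := fun a ha b hb => Subtype.ext
        (by
          have h := congrArg Subtype.val (hcomm.is_comm.comm ⟨(a : Ω), mem_subgroupOf.1 ha⟩
            ⟨(b : Ω), mem_subgroupOf.1 hb⟩)
          simpa using h)
      exact CfsgLib.PearlMC.exists_slim_abelian hS hC hab' (hcard.trans h2)
    · refine CfsgLib.PearlMC.exists_slim_extraspecial hS hC (hcard.trans h3) fun hall => hnab ?_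
      exact ⟨⟨fun a b => Subtype.ext (by
        have h := congrArg Subtype.val (hall ⟨(a : Ω), hES a.2⟩ (mem_subgroupOf.2 a.2)
          ⟨(b : Ω), hES b.2⟩ (mem_subgroupOf.2 b.2))
        simpa using h)⟩⟩
  refine ⟨fun n hn h3 hbot => ?_, fun H hH => ?_⟩
  · refine hx.gam_ne_bot hn (k := n - 2) (by omega) ?_
    refine (Subgroup.map_eq_bot_iff_of_injective _ S.subtype_injective).1 ?_
    rw [CfsgLib.PearlMC.gam, Subgroup.top_subtype_lowerCentralSeries]
    exact hbot
  · obtain ⟨T, hT, hTH⟩ := hx.generators hp (H.subgroupOf S)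
    refine ⟨T.image S.subtype, Finset.card_image_le.trans hT, ?_⟩
    rw [Finset.coe_image, ← MonoidHom.map_closure, hTH, Subgroup.map_subgroupOf_eq_of_le hH]

end Cfsg.Agent.S5238
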