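import Cfsg.Statements.S5239
import Cfsg.Agent.PearlMC.Element
import Cfsg.Agent.PearlMC.Three
import Cfsg.Agent.PearlMC.Pearl

set_option autoImplicit false
open Cfsg

namespace Cfsg.Agent.S5239

open Subgroup

/-- Let F be a saturated fusion system over a finite 3-group S having a pearl: an F-essential subgroup E that is elementary abelian of order 9 or nonabelian of order 27. Then either S is extraspecial of order 27 and exponent 3, or S has order at least 81 and every subgroup of S can be generated by at most two elements, or S is isomorphic to the wreath product C₃ ≀ C₃ (a Sylow 3-subgroup of the symmetric group of degree 9). -/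
theorem result {Ω : Type*} [Group Ω] {S : Subgroup Ω} [Finite S] (hS : IsPGroup 3 S) (F : Cfsg.FusionSystem S) (hF : F.IsSaturated 3) [Fact (Nat.Prime 3)] (E : Subgroup Ω) (hE : F.IsEssential 3 E) (hpearl : (Nat.card E = 9 ∧ ∀ x ∈ E, x ^ 3 = 1 ∧ IsMulCommutative ↥E) ∨ (Nat.card E = 27 ∧ ¬ IsMulCommutative ↥E)) : (Cfsg.IsExtraspecial 3 ↥S ∧ Nat.card S = 27 ∧ Monoid.exponent ↥S = 3) ∨ (81 ≤ Nat.card S ∧ ∀ H : Subgroup Ω, H ≤ S → ∃ T : Finset Ω, T.card ≤ 2 ∧ Subgroup.closure (T : Set Ω) = H) ∨ (∃ W : Sylow 3 (Equiv.Perm (Fin 9)), Nonempty (↥S ≃* ↥(W : Subgroup (Equiv.Perm (Fin 9))))) := by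
  classical
  have hES : E ≤ S := hE.1.1
  haveI := CfsgLib.Fusion.finite_of_le hES
  have hconj : F.IsConj E E := ⟨Cfsg.conjHom E 1, F.conj_mem hES (one_mem S), by
    ext y
    simp [Cfsg.conjHom]⟩
  have hcen := hE.1.2 E hconj
  set E' : Subgroup S := E.subgroupOf S with hE'
  have hC : ∀ y : S, (∀ e ∈ E', e * y = y * e) → y ∈ E' := fun y hy =>
    mem_subgroupOf.2 (hcen ⟨y.2, mem_centralizer_iff.2 fun e he =>
      congrArg Subtype.val (hy ⟨e, hES he⟩ (mem_subgroupOf.2 he))⟩)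
  have hcard : Nat.card E' = Nat.card E :=
    Nat.card_congr (Subgroup.subgroupOfEquivOfLe hES).toEquiv
  obtain ⟨x, hx⟩ : ∃ x : S, CfsgLib.PearlMC.Slim 3 x := by
    rcases hpearl with ⟨h2, hab⟩ | ⟨h3, hnab⟩
    · have hcomm := (hab 1 (one_mem E)).2
      have hab' : ∀ a ∈ E', ∀ b ∈ E', a * b = b * a := fun a ha b hb => Subtype.ext (by
        have h := congrArg Subtype.val (hcomm.is_comm.comm ⟨(a : Ω), mem_subgroupOf.1 ha⟩
          ⟨(b : Ω), mem_subgroupOf.1 hb⟩)
        simpa using h)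
      exact CfsgLib.PearlMC.exists_slim_abelian hS hC hab' (hcard.trans h2)
    · refine CfsgLib.PearlMC.exists_slim_extraspecial hS hC (hcard.trans h3) fun hall => hnab ?_
      exact ⟨⟨fun a b => Subtype.ext (by
        have h := congrArg Subtype.val (hall ⟨(a : Ω), hES a.2⟩ (mem_subgroupOf.2 a.2)
          ⟨(b : Ω), hES b.2⟩ (mem_subgroupOf.2 b.2))
        simpa using h)⟩⟩
  have hne := CfsgLib.PearlMC.ne_of_essential 3 hS hF hE
  obtain ⟨n, hn⟩ := IsPGroup.iff_card.1 hS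
  have hlt : Nat.card E < Nat.card S :=
    lt_of_le_of_ne (Subgroup.card_le_of_le hES) fun h => hne (Subgroup.eq_of_le_of_card_ge hES h.ge)
  have h9 : 9 ≤ Nat.card E := by rcases hpearl with ⟨h, -⟩ | ⟨h, -⟩ <;> omega
  have h3 : 3 ≤ n := by
    by_contra h
    have : 3 ^ n ≤ 3 ^ 2 := Nat.pow_le_pow_right (by norm_num) (by omega)
    omega
  have lift : (∀ H : Subgroup S, ∃ U : Finset S, U.card ≤ 2 ∧ closure (U : Set S) = H) →
      ∀ H : Subgroup Ω, H ≤ S → ∃ T : Finset Ω, T.card ≤ 2 ∧ closure (T : Set Ω) = H := by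
    intro h H hH
    obtain ⟨U, hU, hUH⟩ := h (H.subgroupOf S)
    refine ⟨U.image S.subtype, Finset.card_image_le.trans hU, ?_⟩
    rw [Finset.coe_image, ← MonoidHom.map_closure, hUH, Subgroup.map_subgroupOf_eq_of_le hH]
  rcases (show n = 3 ∨ n = 4 ∨ 5 ≤ n by omega) with rfl | rfl | h5
  · refine Or.inl ⟨CfsgLib.PearlMC.isExtraspecial_of_slim hx hn, hn, ?_⟩
    have hE9 : Nat.card E = 9 := by
      rcases hpearl with ⟨h, -⟩ | ⟨h, -⟩
      · exact h
      · omega
    have hexpE : ∀ e : E, e ^ 3 = 1 := fun e => by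
      rcases hpearl with ⟨-, hab⟩ | ⟨h, -⟩
      · exact Subtype.ext (hab e e.2).1
      · omega
    have hg := CfsgLib.PearlMC.exponent_three hS hF hE hE9 hexpE hx hn
    refine Nat.dvd_antisymm (Monoid.exponent_dvd_of_forall_pow_eq_one hg) ?_
    haveI : Nontrivial S := Finite.one_lt_card_iff_nontrivial.1 (by rw [hn]; norm_num)
    obtain ⟨g, hg1⟩ := exists_ne (1 : S)
    rw [← orderOf_eq_prime (hg g) hg1]
    exact Monoid.order_dvd_exponent g
  · rcases CfsgLib.PearlMC.four_cases hx hn with h | h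
    · exact Or.inr (Or.inl ⟨by rw [hn]; norm_num, lift h⟩)
    · exact Or.inr (Or.inr h)
  · obtain ⟨a, ha⟩ := CfsgLib.PearlMC.exists_two hx hn h5
    refine Or.inr (Or.inl ⟨?_, lift ha.generators⟩)
    rw [hn]
    calc 81 = 3 ^ 4 := by norm_num
      _ ≤ 3 ^ n := Nat.pow_le_pow_right (by norm_num) (by omega)

end Cfsg.Agent.S5239
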