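import Cfsg.Statements.S5246
import Cfsg.Agent.Fusion.PStableGroup

set_option autoImplicit false
open Cfsg Cfsg.FusionSystem
open scoped commutatorElement

namespace Cfsg.Agent.S5246

/-- Let p be an odd prime, G a finite group and P a Sylow p-subgroup. Call a fusion system F p-stable when, for every fully normalized subgroup Q and every χ ∈ Aut_F(Q) acting quadratically on Q (that is, χ fixes a⁻¹χ(a) for every a ∈ Q; equivalently χ(a⁻¹)·a·χ(a⁻¹)·χ(χ(a)) = 1), χ lies in O_p(Aut_F(Q)). Then G is p-stable in the normalizer form (for every p-subgroup Q and x ∈ N_G(Q) with [Q, x, x] = 1, the image of x lies in O_p(N_G(Q)/C_G(Q))) if and only if the fusion system of G on P is p-stable. -/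
theorem result {Ω : Type*} [Group Ω] [Finite Ω] {p : ℕ} [Fact p.Prime] (hp : p ≠ 2) (P : Sylow p Ω) : Cfsg.IsNormalizerPStable p Ω ↔ (∀ Q : Subgroup Ω, (Cfsg.groupFusionSystem (P : Subgroup Ω)).IsFullyNormalized Q → ∀ χ : MulAut ↥Q, χ ∈ (Cfsg.groupFusionSystem (P : Subgroup Ω)).autGroup Q → (∀ a : ↥Q, (χ a⁻¹) * a * (χ a⁻¹) * (χ (χ a)) = 1) → χ ∈ ((Cfsg.pCore p ↥((Cfsg.groupFusionSystem (P : Subgroup Ω)).autGroup Q)).map ((Cfsg.groupFusionSystem (P : Subgroup Ω)).autGroup Q).subtype : Subgroup (MulAut ↥Q))) := by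
  constructor
  swap
  · exact fun h => CfsgLib.Fusion.isNormalizerPStable_of_fusion P h
  intro hst Q hQ χ hχ hquad
  set A := (groupFusionSystem (P : Subgroup Ω)).autGroup Q with hA
  have hAe : A = autInducedBy ⊤ Q := CfsgLib.Fusion.autGroup_groupFusion hQ.1
  obtain ⟨g, -, hg⟩ := CfsgLib.Fusion.mem_autInducedBy.1 (hAe ▸ hχ)
  have hgN : g ∈ Subgroup.normalizer (Q : Set Ω) := CfsgLib.Fusion.mem_normalizer_of_aut hg
  have hfix : ∀ (i : ℕ) (a : Q), g * ((a : Ω)⁻¹ * (g ^ i * a * (g ^ i)⁻¹)) * g⁻¹ =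
      (a : Ω)⁻¹ * (g ^ i * a * (g ^ i)⁻¹) := by
    intro i
    induction i with
    | zero => intro a; simp
    | succ i ih =>
      intro a
      have hb : g ^ i * a * (g ^ i)⁻¹ ∈ Q :=
        (Subgroup.mem_normalizer_iff.1 ((Subgroup.normalizer (Q : Set Ω)).pow_mem hgN i) _).1 a.2
      set b : Q := ⟨g ^ i * a * (g ^ i)⁻¹, hb⟩ with hbdef
      have h1 := congrArg Subtype.val (hquad b)
      simp only [Subgroup.coe_mul, hg, Subgroup.coe_inv, map_inv, Subgroup.coe_one] at h1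
      have h2 : g * ((b : Ω)⁻¹ * (g * b * g⁻¹)) * g⁻¹ = (b : Ω)⁻¹ * (g * b * g⁻¹) := by
        have h3 := eq_inv_of_mul_eq_one_left (show (g * (b : Ω) * g⁻¹)⁻¹ * b *
          (g * ((b : Ω)⁻¹ * (g * b * g⁻¹)) * g⁻¹) = 1 by rw [← h1]; group)
        calc g * ((b : Ω)⁻¹ * (g * b * g⁻¹)) * g⁻¹
            = ((g * (b : Ω) * g⁻¹)⁻¹ * b)⁻¹ * 1 := by rw [h3, inv_inv, mul_one]
          _ = (b : Ω)⁻¹ * (g * b * g⁻¹) := by group
      have e : (a : Ω)⁻¹ * (g ^ (i + 1) * a * (g ^ (i + 1))⁻¹) =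
          ((a : Ω)⁻¹ * (g ^ i * a * (g ^ i)⁻¹)) * ((b : Ω)⁻¹ * (g * b * g⁻¹)) := by
        rw [hbdef, pow_succ']
        group
      rw [e, show ∀ u v : Ω, g * (u * v) * g⁻¹ = (g * u * g⁻¹) * (g * v * g⁻¹) from fun u v => by group,
        ih a, h2]
  have hq : ⁅⁅Q, Subgroup.zpowers g⁆, Subgroup.zpowers g⁆ = ⊥ := by
    rw [Subgroup.commutator_eq_bot_iff_le_centralizer, Subgroup.commutator_le]
    intro v hv w hw
    rw [← mem_powers_iff_mem_zpowers] at hw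
    obtain ⟨i, rfl⟩ := hw
    rw [Subgroup.mem_centralizer_iff]
    intro u hu
    obtain ⟨j, rfl⟩ := Subgroup.mem_zpowers_iff.1 hu
    have hcomm : Commute g ⁅v, g ^ i⁆ := by
      have h := hfix i ⟨v⁻¹, inv_mem hv⟩
      have e : ⁅v, g ^ i⁆ = (v⁻¹)⁻¹ * (g ^ i * v⁻¹ * (g ^ i)⁻¹) := by
        rw [commutatorElement_def]; group
      rw [e]
      exact mul_inv_eq_iff_eq_mul.1 h
    exact (hcomm.zpow_left j).eq
  set N := Subgroup.normalizer (Q : Set Ω) with hN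
  obtain ⟨L, hLn, hgL, hLp⟩ := (CfsgLib.ZJ.pcoreMod_iff _ _).2 (hst Q (P.2.to_le hQ.1) g hgN hq)
  let ρ₀ : N →* MulAut Q :=
    (CfsgLib.Fusion.conjAut ⊤ Q).comp (N.subtype.codRestrict (⊤ ⊓ N) fun n => ⟨trivial, n.2⟩)
  have hρA : ∀ n, ρ₀ n ∈ A := fun n =>
    hAe ▸ CfsgLib.Fusion.mem_autInducedBy.2 ⟨_, trivial, fun _ => rfl⟩
  let ρ : N →* A := ρ₀.codRestrict A hρA
  have hρval : ∀ (n : N) (q : Q), (((ρ n : MulAut Q) q : Q) : Ω) = (n : Ω) * q * (n : Ω)⁻¹ :=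
    fun n q => rfl
  have hρg : (ρ ⟨g, hgN⟩ : MulAut Q) = χ := MulEquiv.ext fun q => Subtype.ext ((hρval _ q).trans (hg q).symm)
  have hsurj : Function.Surjective ρ := by
    rintro ⟨α, hα⟩
    obtain ⟨m, -, hm⟩ := CfsgLib.Fusion.mem_autInducedBy.1 (hAe ▸ hα)
    exact ⟨⟨m, CfsgLib.Fusion.mem_normalizer_of_aut hm⟩,
      Subtype.ext (MulEquiv.ext fun q => Subtype.ext ((hρval _ q).trans (hm q).symm))⟩
  have hLA : IsPGroup p (L.map ρ) := by
    rintro ⟨_, n, hn, rfl⟩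
    obtain ⟨k, hk⟩ := hLp n hn
    refine ⟨k, Subtype.ext ?_⟩
    show (ρ n) ^ p ^ k = 1
    rw [← map_pow]
    refine Subtype.ext (MulEquiv.ext fun q => Subtype.ext ?_)
    rw [hρval]
    have := Subgroup.mem_centralizer_iff.1 (Subgroup.mem_subgroupOf.1 hk) q q.2
    rw [← this, mul_inv_cancel_right]
    rfl
  have hle := CfsgLib.Solvable.le_pCore p (hLn.map ρ hsurj) hLA
  exact ⟨ρ ⟨g, hgN⟩, hle ⟨_, hgL, rfl⟩, hρg⟩

end Cfsg.Agent.S5246
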