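import Cfsg.Statements.S5247
import Cfsg.Agent.Fusion.Local
import Cfsg.Agent.Fusion.Saturation
import Cfsg.Agent.Solvable.Basics

set_option autoImplicit false
open Cfsg Cfsg.FusionSystem CfsgLib.Fusion

namespace Cfsg.Agent.S5247

theorem mem_pCore_of_hom {p : ℕ} {A B : Type*} [Group A] [Group B] [Finite A] [Finite B] (f : A →* B)
    (hf : Function.Injective f) {a : A} (h : f a ∈ Cfsg.pCore p B) : a ∈ Cfsg.pCore p A :=
  CfsgLib.Solvable.le_pCore p ((CfsgLib.Solvable.pCore_normal (G := B) p).comap f)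
    ((CfsgLib.Solvable.isPGroup_pCore p (G := B)).comap_of_injective f hf) h

theorem mem_map_pCore_of_le {p : ℕ} {M : Type*} [Group M] [Finite M] {A B : Subgroup M} (h : A ≤ B)
    {x : M} (hx : x ∈ A) (hB : x ∈ (Cfsg.pCore p B).map B.subtype) : x ∈ (Cfsg.pCore p A).map A.subtype := by
  obtain ⟨b, hb, hbx⟩ := hB
  refine ⟨⟨x, hx⟩, mem_pCore_of_hom (Subgroup.inclusion h) (Subgroup.inclusion_injective h) ?_, rfl⟩
  rwa [show Subgroup.inclusion h ⟨x, hx⟩ = b from Subtype.ext hbx.symm]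

/-- A quadratic automorphism of a finite group has order dividing the order of the group. -/
theorem quad_pow {Q : Type*} [Group Q] [Finite Q] (χ : MulAut Q)
    (h : ∀ a : Q, (χ a⁻¹) * a * (χ a⁻¹) * (χ (χ a)) = 1) : χ ^ Nat.card Q = 1 := by
  have hfix : ∀ a : Q, χ (a⁻¹ * χ a) = a⁻¹ * χ a := fun a => by
    have h3 := eq_inv_of_mul_eq_one_left (show (χ a)⁻¹ * a * χ (a⁻¹ * χ a) = 1 by
      rw [← h a, map_mul, map_inv, mul_assoc (_ * a)])
    calc χ (a⁻¹ * χ a) = ((χ a)⁻¹ * a)⁻¹ := by rw [h3, inv_inv]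
      _ = a⁻¹ * χ a := by group
  have hpow : ∀ (i : ℕ) (a : Q), (χ ^ i) a = a * (a⁻¹ * χ a) ^ i := by
    intro i
    induction i with
    | zero => intro a; simp
    | succ i ih =>
      intro a
      rw [pow_succ', MulAut.mul_apply, ih a, map_mul, map_pow, hfix a, pow_succ' (a⁻¹ * χ a) i,
        ← mul_assoc, mul_inv_cancel_left]
  refine MulEquiv.ext fun a => ?_
  rw [hpow, pow_card_eq_one', mul_one]
  rfl


/-- Let p be an odd prime and F a saturated fusion system over a finite p-group S. Call a fusion system E (over any subgroup) p-stable when, for every fully E-normalized subgroup Q and every χ ∈ Aut_E(Q) with χ(a⁻¹)·a·χ(a⁻¹)·χ(χ(a)) = 1 for all a ∈ Q (χ acts quadratically), χ lies in O_p(Aut_E(Q)). Then F is p-stable if and only if every normalizer fusion system N_F(R) of every non-cyclic fully F-normalized subgroup R of S is p-stable. -/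
theorem result {Ω : Type*} [Group Ω] {S : Subgroup Ω} [Finite S] (p : ℕ) [Fact p.Prime] (hS : IsPGroup p S) (F : Cfsg.FusionSystem S) (hF : F.IsSaturated p) (hp : p ≠ 2) : (∀ Q : Subgroup Ω, F.IsFullyNormalized Q → ∀ χ : MulAut ↥Q, χ ∈ F.autGroup Q → (∀ a : ↥Q, (χ a⁻¹) * a * (χ a⁻¹) * (χ (χ a)) = 1) → χ ∈ ((Cfsg.pCore p ↥(F.autGroup Q)).map (F.autGroup Q).subtype : Subgroup (MulAut ↥Q))) ↔ ∀ R : Subgroup Ω, F.IsFullyNormalized R → ¬ IsCyclic ↥R → ∀ N : Cfsg.FusionSystem (Cfsg.FusionSystem.normalizerIn S R), F.IsNormalizerSystem R N → (∀ Q : Subgroup Ω, N.IsFullyNormalized Q → ∀ χ : MulAut ↥Q, χ ∈ N.autGroup Q → (∀ a : ↥Q, (χ a⁻¹) * a * (χ a⁻¹) * (χ (χ a)) = 1) → χ ∈ ((Cfsg.pCore p ↥(N.autGroup Q)).map (N.autGroup Q).subtype : Subgroup (MulAut ↥Q))) := by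
  classical
  have hcomm : ∀ (Q : Subgroup Ω), Q ≤ S → ∀ χ ∈ F.autGroup Q,
      (∀ a : ↥Q, (χ a⁻¹) * a * (χ a⁻¹) * (χ (χ a)) = 1) → (∀ β ∈ F.autGroup Q, β * χ = χ * β) →
      χ ∈ ((Cfsg.pCore p ↥(F.autGroup Q)).map (F.autGroup Q).subtype : Subgroup (MulAut ↥Q)) := by
    intro Q hQ χ hχ hq hc
    have := finite_of_le hQ
    have := finite_mulAut (P := Q)
    refine ⟨⟨χ, hχ⟩, CfsgLib.Solvable.le_pCore p (N := Subgroup.zpowers (⟨χ, hχ⟩ : F.autGroup Q)) ?_ ?_
      (Subgroup.mem_zpowers _), rfl⟩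
    · refine ⟨fun n hn g => ?_⟩
      obtain ⟨i, rfl⟩ := Subgroup.mem_zpowers_iff.1 hn
      have : Commute g (⟨χ, hχ⟩ : F.autGroup Q) := Subtype.ext (hc g g.2)
      rw [(this.zpow_right i).eq, mul_inv_cancel_right]
      exact Subgroup.zpow_mem_zpowers _ _
    · obtain ⟨k, hk⟩ := IsPGroup.iff_card.1 (isPGroup_of_le hS hQ)
      rintro ⟨n, hn⟩
      obtain ⟨i, rfl⟩ := Subgroup.mem_zpowers_iff.1 hn
      refine ⟨k, Subtype.ext ?_⟩
      show ((⟨χ, hχ⟩ : F.autGroup Q) ^ i) ^ p ^ k = 1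
      rw [← zpow_natCast, ← zpow_mul, mul_comm, zpow_mul, zpow_natCast,
        show (⟨χ, hχ⟩ : F.autGroup Q) ^ p ^ k = 1 from Subtype.ext (hk ▸ quad_pow χ hq), one_zpow]
  constructor
  · intro hst R hR hnc N hN Q hQ χ hχ hquad
    have hQS : Q ≤ S := hQ.1.trans (normalizerIn_le_S R)
    have := finite_of_le hQS
    have := finite_mulAut (P := Q)
    have hsub : N.autGroup Q ≤ F.autGroup Q :=
      autGroup_mono' (fun P φ hφ => ((hN P) ▸ hφ).1) Q
    refine mem_map_pCore_of_le hsub hχ ?_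
    obtain ⟨Q', hQ', hQ'n⟩ := exists_fullyNormalized F hQS
    obtain ⟨φ, hφ, hr⟩ := hQ'
    let e : Q ≃* Q' := isoRange φ (F.injective_of_mem hφ) hr
    have hmap := map_autGroup_iso hQS hφ e (fun x => coe_isoRange φ _ hr x)
    have := finite_of_le hQ'n.1
    have := finite_mulAut (P := Q')
    have hχ' : MulAut.congr e χ ∈ F.autGroup Q' := hmap ▸ ⟨χ, hsub hχ, rfl⟩
    obtain ⟨c, hc, hce⟩ := hst Q' hQ'n (MulAut.congr e χ) hχ' fun a => by
      have h := congrArg e (hquad (e.symm a))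
      simp only [map_mul, map_one] at h
      have hce : ∀ b, MulAut.congr e χ b = e (χ (e.symm b)) := fun b => rfl
      rw [hce, hce (MulAut.congr e χ a), hce a, map_inv e.symm, MulEquiv.symm_apply_apply]
      rwa [MulEquiv.apply_symm_apply] at h
    refine ⟨⟨χ, hsub hχ⟩, ?_, rfl⟩
    let f : F.autGroup Q →* F.autGroup Q' :=
      (((MulAut.congr e).toMonoidHom).comp (F.autGroup Q).subtype).codRestrict _
        fun a => hmap ▸ ⟨a, a.2, rfl⟩
    refine mem_pCore_of_hom f (fun a b h => Subtype.ext ((MulAut.congr e).injective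
      (congrArg Subtype.val h))) ?_
    rwa [show f ⟨χ, hsub hχ⟩ = c from Subtype.ext hce.symm]
  · intro hst Q hQ χ hχ hquad
    by_cases hcyc : IsCyclic Q
    · refine hcomm Q hQ.1 χ hχ hquad fun β _ => ?_
      obtain ⟨a, ha⟩ := hcyc.exists_generator
      have key : ∀ α : MulAut Q, ∃ i : ℤ, ∀ x : Q, α x = x ^ i := fun α => by
        obtain ⟨i, hi⟩ := Subgroup.mem_zpowers_iff.1 (ha (α a))
        refine ⟨i, fun x => ?_⟩
        obtain ⟨j, rfl⟩ := Subgroup.mem_zpowers_iff.1 (ha x)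
        rw [map_zpow, ← hi, ← zpow_mul, ← zpow_mul, mul_comm]
      obtain ⟨i, hi⟩ := key χ
      obtain ⟨j, hj⟩ := key β
      refine MulEquiv.ext fun x => ?_
      rw [MulAut.mul_apply, MulAut.mul_apply, hi x, hj, hi, hj x, ← zpow_mul, ← zpow_mul, mul_comm]
    · set N := normSystem F Q hQ.1
      have hN := normSystem_spec F Q hQ.1
      have hQN : Q ≤ normalizerIn S Q := le_normalizerIn hQ.1
      have hfn : N.IsFullyNormalized Q := by
        refine ⟨hQN, fun P hP => ?_⟩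
        obtain ⟨φ, hφ, rfl⟩ := hP
        have hφ' := (hN Q) ▸ hφ
        obtain ⟨-, -, -, ψ, hψ, he, hm⟩ := hφ'
        have hr : φ.range = Q := by
          refine Eq.trans ?_ hm
          ext y
          constructor
          · rintro ⟨x, rfl⟩
            exact ⟨Subgroup.inclusion le_sup_left x, x.2, he x⟩
          · rintro ⟨x, hx, rfl⟩
            exact ⟨⟨x, hx⟩, (he ⟨x, hx⟩).symm.trans (apply_congr ψ rfl)⟩
        exact le_of_eq (congrArg (fun T : Subgroup Ω => Nat.card (normalizerIn (normalizerIn S Q) T)) hr)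
      have := finite_of_le hQ.1
      have hsub : F.autGroup Q ≤ N.autGroup Q := fun α hα => by
        rw [autGroup_carrier hQN, hN Q]
        have h := (autGroup_carrier hQ.1).1 hα
        refine ⟨h, hQN, fun x => hQN (α x).2,
          (Q.subtype.comp α.toMonoidHom).comp (Subgroup.inclusion (sup_le le_rfl le_rfl)),
          restrict_mem h _, fun x => rfl, ?_⟩
        ext y
        constructor
        · rintro ⟨x, -, rfl⟩
          exact (α _).2
        · intro hy
          refine ⟨Subgroup.inclusion le_sup_left (α.symm ⟨y, hy⟩), (α.symm ⟨y, hy⟩).2, ?_⟩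
          exact congrArg Subtype.val (α.apply_symm_apply ⟨y, hy⟩)
      have := finite_mulAut (P := Q)
      exact mem_map_pCore_of_le hsub hχ (hst Q hQ hcyc N hN Q hfn χ (hsub hχ) hquad)

end Cfsg.Agent.S5247
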