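import Cfsg.Statements.S5254
import Cfsg.Agent.Fusion.AbelianIndexEssential

set_option autoImplicit false
open Cfsg Cfsg.FusionSystem CfsgLib.Fusion

namespace Cfsg.Agent.S5254

/-- Let p be an odd prime, S a finite nonabelian p-group with a unique abelian subgroup A of index p, and F a saturated fusion system over S. Then every F-essential subgroup P is A, or Z(S)⟨x⟩ for some x ∈ S outside A, or (when the second centre Z₂(S) lies in A) Z₂(S)⟨x⟩ for some x ∈ S outside A; and P has index p in its normalizer in S. -/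
theorem result {Ω : Type*} [Group Ω] {S : Subgroup Ω} [Finite S] (p : ℕ) [Fact p.Prime] (hS : IsPGroup p S) (F : Cfsg.FusionSystem S) (hF : F.IsSaturated p) (hp : p ≠ 2) (hna : ¬ IsMulCommutative ↥S) (A : Subgroup Ω) (hA : A ≤ S ∧ IsMulCommutative ↥A ∧ (A.subgroupOf S).index = p) (huniq : ∀ B : Subgroup Ω, B ≤ S → IsMulCommutative ↥B → (B.subgroupOf S).index = p → B = A) (P : Subgroup Ω) (hP : F.IsEssential p P) : (P = A ∨ (∃ x ∈ S, x ∉ A ∧ P = (S ⊓ Subgroup.centralizer (S : Set Ω)) ⊔ Subgroup.zpowers x) ∨ (((upperCentralSeries ↥S 2).map S.subtype) ≤ A ∧ ∃ x ∈ S, x ∉ A ∧ P = ((upperCentralSeries ↥S 2).map S.subtype) ⊔ Subgroup.zpowers x)) ∧ (P.subgroupOf (S ⊓ Subgroup.normalizer (P : Set Ω))).index = p := by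
  obtain ⟨hAS, hab, hidx⟩ := hA
  have hs : AbelianIndex.Setup p S A := ⟨hS, hAS,
    fun a ha b hb => congrArg Subtype.val (hab.is_comm.comm ⟨a, ha⟩ ⟨b, hb⟩), hidx,
    fun h => hna ⟨⟨fun a b => Subtype.ext (h a a.2 b b.2)⟩⟩⟩
  by_cases hPA : P = A
  · refine ⟨Or.inl hPA, ?_⟩
    have hn : S ≤ Subgroup.normalizer (A : Set Ω) := fun s h =>
      mem_normalizer_of_conj_mem hAS fun a ha => AbelianIndex.conj_mem hs h ha
    rw [hPA, inf_eq_left.2 hn]
    exact hidx
  · obtain ⟨h1, h2⟩ := AbelianIndex.essential_list hs hF huniq hP hPA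
    exact ⟨Or.inr h1, h2⟩

end Cfsg.Agent.S5254
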