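import Cfsg.Statements.S5256
import Cfsg.Agent.Fusion.Tate
import Cfsg.Agent.Fusion.Factor

set_option autoImplicit false
open Cfsg Cfsg.FusionSystem CfsgLib.Fusion

namespace Cfsg.Agent.S5256

/-- Let F be a saturated fusion system over a finite p-group S, T a subgroup of S strongly closed in F, and E a factor system F/T realised along a homomorphism θ of S with kernel T. Then the hyperfocal subgroup of E is the image under θ of the hyperfocal subgroup of F (hyp(F/T) = T·hyp(F)/T). -/
theorem result {Ω : Type*} [Group Ω] {S : Subgroup Ω} [Finite S] (p : ℕ) [Fact p.Prime] (hS : IsPGroup p S) (F : Cfsg.FusionSystem S) (hF : F.IsSaturated p) (T : Subgroup Ω) (hT : F.StronglyClosed T) {Ω' : Type*} [Group Ω'] {S' : Subgroup Ω'} (θ : ↥S →* Ω') (E : Cfsg.FusionSystem S') (hE : F.IsFactorSystem T θ E) : E.hyperfocalSubgroup p = ((F.hyperfocalSubgroup p).subgroupOf S).map θ := by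
  obtain ⟨-, hk, hr, -⟩ := id hE
  set U := F.hyperfocalSubgroup p
  have hUS : U ≤ S := hyperfocalSubgroup_le_S p
  refine le_antisymm ?_ ?_
  · refine (Subgroup.closure_le _).2 ?_
    rintro _ ⟨P', β, y, hP', hβ, rfl⟩
    have : Finite S' := hr ▸ Finite.of_surjective _ θ.rangeRestrict_surjective
    have : Finite P' := finite_of_le hP'
    have : Finite (MulAut P') := finite_mulAut
    have hUn : ∀ (s : S) (v : Ω'), v ∈ (U.subgroupOf S).map θ →
        θ s * v * (θ s)⁻¹ ∈ (U.subgroupOf S).map θ := by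
      rintro s _ ⟨u, hu, rfl⟩
      refine ⟨s * u * s⁻¹, (Subgroup.mem_normalizer_iff.1 (le_normalizer_hyperfocal (F := F) p s.2) u).1 hu, ?_⟩
      rw [map_mul, map_mul, map_inv]
    let M : Subgroup (E.autGroup P') :=
      { carrier := {γ | ∀ x : P', (x : Ω')⁻¹ * ((γ : MulAut P') x : P') ∈ (U.subgroupOf S).map θ}
        one_mem' := fun x => by simp
        mul_mem' := fun {a b} ha hb x => by
          have := mul_mem (hb x) (ha ((b : MulAut P') x))
          simpa [mul_assoc] using this
        inv_mem' := fun {a} ha x => by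
          simpa using inv_mem (ha ((a : MulAut P')⁻¹ x)) }
    refine (show Cfsg.pResidual p (E.autGroup P') ≤ M from ?_) hβ y
    rw [Cfsg.pResidual, Subgroup.closure_le]
    intro γ hγ z
    obtain ⟨χ, hχ, hi⟩ := exists_lift_hom hE ((autGroup_carrier hP').1 γ.2)
    obtain ⟨s, hs, hsx⟩ := exists_inner_mod p hS hF (le_normalizer_hyperfocal p) le_rfl hχ
    set s' : S := ⟨s, hs⟩
    have hone : ∀ x : P', (θ s' * (x : Ω') * (θ s')⁻¹)⁻¹ * ((γ : MulAut P') x : P') ∈
        (U.subgroupOf S).map θ := by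
      intro x
      obtain ⟨v, hv⟩ := hr.ge (hP' x.2)
      have hvP : (v : Ω) ∈ preimg θ P' := mem_preimg.2 ⟨v.2, hv ▸ x.2⟩
      refine ⟨(s' * v * s'⁻¹)⁻¹ * ⟨χ ⟨v, hvP⟩, apply_mem_S hχ _⟩,
        Subgroup.mem_subgroupOf.2 (hsx ⟨v, hvP⟩), ?_⟩
      rw [map_mul, map_inv, map_mul, map_mul, map_inv, hv, ← induced_apply hi ⟨v, hvP⟩
        (hP := v.2) (hP' := (mem_preimg.1 hvP).2)]
      exact congrArg (_ * ·) (congrArg (fun t : P' => (((γ : MulAut P') t : P') : Ω')) (Subtype.ext hv))
    have hpow : ∀ (k : ℕ) (x : P'), (θ (s' ^ k) * (x : Ω') * (θ (s' ^ k))⁻¹)⁻¹ *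
        ((((γ : MulAut P') ^ k) x : P') : Ω') ∈ (U.subgroupOf S).map θ := by
      intro k
      induction k with
      | zero => intro x; simp
      | succ k ih =>
        intro x
        have h1 := hUn s' _ (ih x)
        have h2 := mul_mem h1 (hone (((γ : MulAut P') ^ k) x))
        rw [pow_succ', pow_succ', MulAut.mul_apply, map_mul]
        simpa [mul_assoc] using h2
    have hcomm : (θ s' * (z : Ω') * (θ s')⁻¹)⁻¹ * z ∈ (U.subgroupOf S).map θ := by
      obtain ⟨e, he⟩ := hS s'
      obtain ⟨j, hj⟩ := exists_pow_eq_self_of_coprime (n := orderOf γ) (x := s')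
        ((Nat.Coprime.pow_right e hγ).coprime_dvd_right (orderOf_dvd_of_pow_eq_one he))
      let C : Subgroup S :=
        { carrier := {t | (θ t * (z : Ω') * (θ t)⁻¹)⁻¹ * z ∈ (U.subgroupOf S).map θ}
          one_mem' := by
            show (θ 1 * (z : Ω') * (θ 1)⁻¹)⁻¹ * z ∈ (U.subgroupOf S).map θ
            rw [map_one, one_mul, inv_one, mul_one, inv_mul_cancel]
            exact one_mem _
          mul_mem' := fun {a b} ha hb => by
            have := mul_mem (hUn a _ hb) ha
            simpa [mul_assoc] using this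
          inv_mem' := fun {a} ha => by
            have := hUn a⁻¹ _ (Subgroup.inv_mem _ ha)
            simpa [mul_assoc] using this }
      have h1 : s' ^ orderOf γ ∈ C := by
        have h2 := hpow (orderOf γ) z
        have e1 : (γ : MulAut P') ^ orderOf γ = 1 := by
          rw [← SubmonoidClass.coe_pow, pow_orderOf_eq_one]; rfl
        rw [e1] at h2
        exact h2
      exact (hj ▸ pow_mem h1 j : s' ∈ C)
    have h3 := mul_mem (Subgroup.inv_mem _ hcomm) (hone z)
    simpa [mul_assoc] using h3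
  · have hle : U ≤ ((E.hyperfocalSubgroup p).comap θ).map S.subtype := by
      refine (Subgroup.closure_le _).2 ?_
      rintro _ ⟨P, α, x, hP, hα, rfl⟩
      have hmem : ∀ (β : MulAut P) (x : P), (x : Ω)⁻¹ * (β x : P) ∈ S := fun β x =>
        mul_mem (Subgroup.inv_mem _ (hP x.2)) (hP (β x).2)
      refine ⟨⟨_, hmem α x⟩, ?_, rfl⟩
      let M : Subgroup (F.autGroup P) :=
        { carrier := {γ | ∀ x : P, θ ⟨_, hmem γ x⟩ ∈ E.hyperfocalSubgroup p}
          one_mem' := fun x => by
            rw [show (⟨_, hmem ((1 : F.autGroup P) : MulAut P) x⟩ : S) = 1 from Subtype.ext (by simp), map_one]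
            exact one_mem _
          mul_mem' := fun {a b} ha hb x => by
            have h1 := mul_mem (hb x) (ha ((b : MulAut P) x))
            rw [← map_mul] at h1
            refine Set.mem_of_eq_of_mem (congrArg θ (Subtype.ext ?_)) h1
            simp [mul_assoc]
          inv_mem' := fun {a} ha x => by
            have h1 := inv_mem (ha ((a : MulAut P)⁻¹ x))
            rw [← map_inv] at h1
            refine Set.mem_of_eq_of_mem (congrArg θ (Subtype.ext ?_)) h1
            simp }
      refine (show Cfsg.pResidual p (F.autGroup P) ≤ M from ?_) hα x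
      rw [Cfsg.pResidual, Subgroup.closure_le]
      intro γ hγ z
      obtain ⟨φ', hφ', hi⟩ := induces_of_mem hT hE p hS hF ((autGroup_carrier hP).1 γ.2)
      have hval : ∀ (w : P), φ' ⟨θ ⟨w, hP w.2⟩, apply_mem_img (ι := θ) (x := ⟨w, hP w.2⟩) w.2⟩ =
          θ ⟨((γ : MulAut P) w : P), hP ((γ : MulAut P) w).2⟩ := fun w => induced_apply hi w
      have hr' : φ'.range = img θ P := by
        ext y
        constructor
        · rintro ⟨⟨_, w, hw, rfl⟩, rfl⟩
          exact Set.mem_of_eq_of_mem (hval ⟨w, hw⟩) (apply_mem_img (ι := θ) ((γ : MulAut P) ⟨w, hw⟩).2)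
        · rintro ⟨w, hw, rfl⟩
          obtain ⟨v, hv⟩ := (γ : MulAut P).surjective ⟨w, hw⟩
          exact ⟨_, (hval v).trans (congrArg θ (Subtype.ext (by rw [hv])))⟩
      have hinj := E.injective_of_mem hφ'
      let γ' : E.autGroup (img θ P) := ⟨autOfRange φ' hinj hr', autOfRange_mem hφ' hr'⟩
      have hpw : ∀ (k : ℕ) (w : P),
          (((γ' : MulAut (img θ P)) ^ k) ⟨θ ⟨w, hP w.2⟩, apply_mem_img (ι := θ) (x := ⟨w, hP w.2⟩) w.2⟩ : img θ P) =
          (⟨θ ⟨_, hP (((γ : MulAut P) ^ k) w).2⟩, apply_mem_img (ι := θ) (((γ : MulAut P) ^ k) w).2⟩ : img θ P) := by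
        intro k
        induction k with
        | zero => intro w; rfl
        | succ k ih =>
          intro w
          refine Subtype.ext ?_
          rw [pow_succ', MulAut.mul_apply, ih]
          exact (hval _).trans (by simp [pow_succ'])
      have hdvd : orderOf γ' ∣ orderOf γ := by
        refine orderOf_dvd_of_pow_eq_one (Subtype.ext (MulEquiv.ext ?_))
        rintro ⟨_, w, hw, rfl⟩
        rw [SubmonoidClass.coe_pow]
        refine (hpw (orderOf γ) ⟨w, hw⟩).trans ?_
        have e1 : (γ : MulAut P) ^ orderOf γ = 1 := by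
          rw [← SubmonoidClass.coe_pow, pow_orderOf_eq_one]; rfl
        refine Subtype.ext (congrArg θ (Subtype.ext ?_))
        show ((((γ : MulAut P) ^ orderOf γ) ⟨w, hw⟩ : P) : Ω) = w
        rw [e1]; rfl
      refine Subgroup.subset_closure ⟨img θ P, γ',
        ⟨θ ⟨z, hP z.2⟩, apply_mem_img (ι := θ) (x := ⟨z, hP z.2⟩) z.2⟩, (img_le_range P).trans hr.le,
        Subgroup.subset_closure (Nat.Coprime.coprime_dvd_left hdvd hγ), ?_⟩
      show _ = (θ ⟨z, hP z.2⟩)⁻¹ * φ' ⟨θ ⟨z, hP z.2⟩, _⟩
      rw [hval z, ← map_inv, ← map_mul]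
      rfl
    rintro _ ⟨u, hu, rfl⟩
    obtain ⟨v, hv, hvu⟩ := hle (Subgroup.mem_subgroupOf.1 hu)
    exact Subtype.ext hvu ▸ hv

end Cfsg.Agent.S5256
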