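import Cfsg.Statements.S5264
import Cfsg.Agent.Fusion.OrderFive.Fourth
import Cfsg.Agent.Fusion.OrderFive.Cube
import Cfsg.Agent.Fusion.OrderFive.Pearl

set_option autoImplicit false
open Cfsg

namespace Cfsg.Agent.S5264

open Cfsg.FusionSystem CfsgLib.Fusion CfsgLib.OrderFive

/-- Let p be an odd prime other than 7, S a finite p-group of order p^5, and F a saturated fusion system over S with no nontrivial normal subgroup and with hyperfocal subgroup equal to S (so F is its own p-residual subsystem). Then S has an abelian subgroup of index p. -/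
theorem result {Ω : Type*} [Group Ω] {S : Subgroup Ω} [Finite S] (p : ℕ) [Fact p.Prime] (hS : IsPGroup p ↥S) (F : Cfsg.FusionSystem S) (hF : F.IsSaturated p) (hp : p ≠ 2) (hp7 : p ≠ 7) (hcard : Nat.card S = p ^ 5) (hcore : F.core = ⊥) (hhyp : F.hyperfocalSubgroup p = S) : ∃ A : Subgroup Ω, A ≤ S ∧ IsMulCommutative ↥A ∧ (A.subgroupOf S).index = p := by
  classical
  by_contra hA
  have hp' := (Fact.out : p.Prime)
  have hlt := hp'.one_lt
  have hna : ¬ ∃ B : Subgroup S, (∀ a ∈ B, ∀ b ∈ B, a * b = b * a) ∧ B.index = p := by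
    rintro ⟨B, hB, hBi⟩
    refine hA ⟨B.map S.subtype, Subgroup.map_subtype_le B, ⟨⟨?_⟩⟩, ?_⟩
    · rintro ⟨_, a, ha, rfl⟩ ⟨_, b, hb, rfl⟩
      exact Subtype.ext (congrArg Subtype.val (hB a ha b hb) :)
    · rw [Subgroup.subgroupOf, Subgroup.comap_map_eq_self_of_injective S.subtype_injective, hBi]
  have hno4 : ∀ R : Subgroup Ω, F.IsEssential p R → Nat.card R ≠ p ^ 4 := fun R hR h =>
    no_essential_fourth hS hF hp hcard hhyp hna hR h
  by_cases hex : ∃ E, F.IsEssential p E
  swap
  · have hn := isNormal_of_stronglyClosed p hS hF stronglyClosed_self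
      fun P hP => absurd ⟨P, hP⟩ hex
    have h1 : S ≤ ⊥ := hcore ▸ le_core hn
    rw [le_bot_iff] at h1
    rw [h1, Subgroup.card_bot] at hcard
    exact absurd hcard.symm (Nat.one_lt_pow (by norm_num) hlt).ne'
  obtain ⟨E, hE⟩ := hex
  have hES := hE.1.1
  have := finite_of_le hES
  have hEp := isPGroup_of_le hS hES
  obtain ⟨n, hn⟩ := hEp.exists_card_eq
  have hEcard : Nat.card E < p ^ 5 := by
    rw [← hcard]
    exact lt_of_le_of_ne (Nat.le_of_dvd Nat.card_pos (Subgroup.card_dvd_of_le hES)) fun h =>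
      (essential_lt p hS hF hE).ne (eq_of_le_of_card_le le_rfl hES h.ge)
  have hn5 : n < 5 := (Nat.pow_lt_pow_iff_right hlt).1 (hn ▸ hEcard)
  rcases (show n = 4 ∨ n = 3 ∨ n = 2 ∨ n ≤ 1 by omega) with rfl | rfl | rfl | hn1
  · exact hno4 E hE hn
  · rcases essential_of_card_cube p hS hF hE hn with hel | ⟨-, hes, -⟩ | ⟨h2, -⟩
    · exact no_essential_cube hS hF hp hcard hhyp hna hno4 hE hn (fun a b => hel.1.is_comm.comm a b)
        hel.2
    · refine no_pearl hS hF hp hp7 hcard hhyp hna hno4 hE (Or.inr ⟨hn, fun hall => ?_⟩)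
      have hc := hes.2
      rw [Subgroup.center_eq_top_iff.2 ⟨⟨hall⟩⟩, Subgroup.card_top, hn] at hc
      exact absurd (Nat.pow_right_injective hlt.nat_succ_le (hc.trans (pow_one p).symm)) (by norm_num)
    · exact hp h2
  · exact no_pearl hS hF hp hp7 hcard hhyp hna hno4 hE (Or.inl hn)
  · have : Nontrivial S := Finite.one_lt_card_iff_nontrivial.1
      (hcard ▸ Nat.one_lt_pow (by norm_num) hlt)
    have := hS.center_nontrivial
    obtain ⟨⟨⟨z, hzS⟩, hzc⟩, hz⟩ := exists_ne (1 : Subgroup.center S)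
    have hzc' : ∀ s ∈ S, s * z = z * s := fun s hs =>
      congrArg Subtype.val (Subgroup.mem_center_iff.1 hzc ⟨s, hs⟩)
    have hzE : z ∈ E := centralizer_mem_of_centric hE.1 hzS fun x hx => hzc' x (hES hx)
    have hz1 : (⟨z, hzE⟩ : E) ≠ 1 := fun h =>
      hz (Subtype.ext (Subtype.ext ((congrArg Subtype.val h :) : z = 1)))
    have hn1' : n = 1 := by
      rcases Nat.le_one_iff_eq_zero_or_eq_one.1 hn1 with rfl | h
      · rw [pow_zero] at hn
        have := (Nat.card_eq_one_iff_unique.1 hn).1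
        exact absurd (Subsingleton.elim _ _) hz1
      · exact h
    rw [hn1', pow_one] at hn
    have hSE : S ≤ E := fun s hs => centralizer_mem_of_centric hE.1 hs fun x hx => by
      obtain ⟨k, hk⟩ := mem_zpowers_of_prime_card hn (g := ⟨z, hzE⟩) hz1 (g' := ⟨x, hx⟩)
      have hk' : z ^ k = x := congrArg Subtype.val hk
      rw [← hk']
      exact ((show Commute s z from hzc' s hs).zpow_right k).eq.symm
    exact absurd (le_antisymm hES hSE) (essential_lt p hS hF hE).ne

end Cfsg.Agent.S5264
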