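import Cfsg.Statements.S5271
import Cfsg.Agent.Fusion.WeaklyEmbedded

set_option autoImplicit false
open Cfsg Cfsg.FusionSystem CfsgLib.Fusion CfsgLib.Fusion.WeakEmb

namespace Cfsg.Agent.S5271

/-- A nilpotency criterion for fusion systems. Let F be a saturated fusion system over a finite p-group S of order at least p². Call a subgroup Q of S weakly embedded in F when there is a subgroup P of S strongly closed in F such that both the product QP and the intersection Q ∩ P are strongly closed in F. Then F is the inner fusion system of S if and only if there is a subgroup D of S with 1 < D < S such that every subgroup of S of the same order as D is weakly embedded in F and, for every fully normalized subgroup H of S of that order, the normalizer fusion system of H in F is the inner fusion system of N_S(H). -/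
theorem result {Ω : Type*} [Group Ω] {S : Subgroup Ω} [Finite S] (p : ℕ) [Fact p.Prime] (hS : IsPGroup p ↥S) (F : Cfsg.FusionSystem S) (hF : F.IsSaturated p) (hcard : p ^ 2 ≤ Nat.card S) : (∀ P : Subgroup Ω, F.Hom P = (Cfsg.innerFusionSystem S).Hom P) ↔ ∃ D : Subgroup Ω, ⊥ < D ∧ D < S ∧ (∀ Q : Subgroup Ω, Q ≤ S → Nat.card ↥Q = Nat.card ↥D → ∃ P : Subgroup Ω, F.StronglyClosed P ∧ F.StronglyClosed (Q ⊔ P) ∧ F.StronglyClosed (Q ⊓ P)) ∧ (∀ H : Subgroup Ω, F.IsFullyNormalized H → Nat.card ↥H = Nat.card ↥D → ∀ N : Cfsg.FusionSystem (Cfsg.FusionSystem.normalizerIn S H), F.IsNormalizerSystem H N → ∀ P : Subgroup Ω, N.Hom P = (Cfsg.innerFusionSystem (Cfsg.FusionSystem.normalizerIn S H)).Hom P) := by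
  have hp := (Fact.out : p.Prime)
  obtain ⟨n, hn⟩ := hS.exists_card_eq
  have hn2 : 2 ≤ n := by rwa [hn, Nat.pow_le_pow_iff_right hp.one_lt] at hcard
  constructor
  · intro hinn
    have hI : IsInner F := isInner_iff.2 hinn
    obtain ⟨D, -, hD, hDc⟩ := exists_between p hS (bot_le : ⊥ ≤ S) le_rfl (k := n - 1)
      (by simp; exact Nat.one_le_pow _ _ hp.pos) (hn ▸ Nat.pow_le_pow_right hp.pos (by omega))
    refine ⟨D, bot_lt_iff_ne_bot.2 fun h => ?_, lt_of_le_of_ne hD fun h => ?_,
      fun Q hQ hc => ?_, fun H hH _ => (innerAt_iff hH.1).1 (innerAt_of_isInner hI H)⟩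
    · rw [h, Subgroup.card_bot] at hDc
      exact (Nat.one_lt_pow (by omega : n - 1 ≠ 0) hp.one_lt).ne hDc
    · rw [h, hn] at hDc
      exact (Nat.pow_lt_pow_right hp.one_lt (by omega : n - 1 < n)).ne' hDc
    · have hQc : Nat.card (Q.subgroupOf S) = p ^ (n - 1) := by
        rw [Nat.card_congr (Subgroup.subgroupOfEquivOfLe hQ).toEquiv, hc, hDc]
      have hidx : (Q.subgroupOf S).index = p := by
        have h1 := Subgroup.card_mul_index (Q.subgroupOf S)
        rw [hQc, hn] at h1
        refine Nat.eq_of_mul_eq_mul_left (pow_pos hp.pos (n - 1)) (h1.trans ?_)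
        rw [← pow_succ]
        congr 1; omega
      have hco : IsCoatom (Q.subgroupOf S) := by
        refine ⟨fun h => by rw [h, Subgroup.index_top] at hidx; exact hp.ne_one hidx.symm,
          fun K hK => ?_⟩
        have h2 := Subgroup.index_dvd_of_le hK.le
        rw [hidx] at h2
        rcases (Nat.dvd_prime hp).1 h2 with h | h
        · exact Subgroup.index_eq_one.1 h
        · exfalso
          have hlt := Subgroup.index_strictAnti hK
          omega
      have hQn := (CfsgLib.PGroupBasic.coatom_normal_index hS hco).1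
      have hQsc : F.StronglyClosed Q := by
        refine ⟨hQ, fun R hR φ hφ x => ?_⟩
        obtain ⟨g, hg, hgx⟩ := hI R φ hφ
        rw [hgx x]
        exact hQn.conj_mem ⟨x, hQ (hR x.2)⟩ (hR x.2) ⟨g, hg⟩
      exact ⟨Q, hQsc, by rwa [sup_idem], by rwa [inf_idem]⟩
  · rintro ⟨D, hD0, hDS, hemb, hinn⟩
    have := finite_of_le hDS.le
    obtain ⟨k, hk⟩ := (isPGroup_of_le hS hDS.le).exists_card_eq
    have hk0 : 0 < k := by
      rcases Nat.eq_zero_or_pos k with rfl | h
      · exact absurd (Subgroup.card_eq_one.1 (hk.trans (pow_zero p))) hD0.ne'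
      · exact h
    have hkS : p ^ k < Nat.card S := hk ▸ lt_of_le_of_ne (card_le_of_le le_rfl hDS.le)
      fun h => hDS.ne (eq_of_le_of_card_le le_rfl hDS.le h.ge)
    rw [hk] at hemb hinn
    have hno := noCop_one p (Nat.card S) rfl hS F hF k hk0 hkS hemb
      (noCop_of_innerAt p hS hF hemb fun H hH hc => (innerAt_iff hH.1).2 (hinn H hH hc))
    refine isInner_of_no_coprime p hS hF fun P hP α hα hco => hno P hP ?_ α hα hco
    have := finite_of_le hP
    exact Nat.card_pos

end Cfsg.Agent.S5271
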