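import Cfsg.Prelude.Def_FusionSystem
import Cfsg.Agent.Fusion.Factor
import Cfsg.Agent.Fusion.NormalCriteria
import Cfsg.Agent.Fusion.SmallEssential

set_option autoImplicit false
open Cfsg

namespace Cfsg.Agent.S5274

universe v

open CfsgLib.Fusion Cfsg.FusionSystem

/-- No element conjugate to a central one is inverted unless it squares to one. -/
theorem sq_eq_one_of_inverted {Ω : Type v} [Group Ω] {S : Subgroup Ω} [Finite S]
    (hS : IsPGroup 2 ↥S) (F : FusionSystem S) (hF : F.IsSaturated 2)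
    (h : ∀ x ∈ S, ∃ z ∈ S ⊓ Subgroup.centralizer (S : Set Ω), F.IsConjElt x z)
    {u s : Ω} (hu : u ∈ S) (hs : s ∈ S) (hinv : s * u * s⁻¹ = u⁻¹) : u * u = 1 := by
  haveI : Fact (Nat.Prime 2) := ⟨Nat.prime_two⟩
  obtain ⟨z, hz, φ, hφ, hφz⟩ := h u hu
  have hUS : Subgroup.zpowers u ≤ S := (le_of_mem_hom hφ)
  set Q := φ.range with hQ
  have hQS : Q ≤ S := range_le_S hφ
  have hcen : ∀ y ∈ Q, ∀ t ∈ S, t * y = y * t := by
    rintro _ ⟨⟨w, n, hn⟩, rfl⟩ t ht
    have e : (⟨w, n, hn⟩ : Subgroup.zpowers u) = (⟨u, Subgroup.mem_zpowers u⟩ : Subgroup.zpowers u) ^ n :=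
      Subtype.ext (by simpa using hn.symm)
    rw [e, map_zpow, hφz]
    have hc : Commute t z := Subgroup.mem_centralizer_iff.1 hz.2 t ht
    exact hc.zpow_right n
  have hnorm : normalizerIn S Q = S := by
    refine le_antisymm (normalizerIn_le_S Q) fun t ht => ⟨ht, mem_normalizer_of_conj_mem hQS ?_⟩
    intro y hy
    rw [hcen y hy t ht, mul_inv_cancel_right]
    exact hy
  have hfn : F.IsFullyNormalized Q := by
    refine ⟨hQS, fun R _ => ?_⟩
    rw [hnorm]
    exact card_le_of_le le_rfl (normalizerIn_le_S R)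
  obtain ⟨-, R, hR⟩ := (good_of_fullyNormalized 2 hS hF hfn).1
  have hbot : autInducedBy S Q = ⊥ := by
    rw [eq_bot_iff]
    intro α hα
    obtain ⟨g, hg, hgx⟩ := mem_autInducedBy.1 hα
    refine Subgroup.mem_bot.2 (MulEquiv.ext fun y => Subtype.ext ?_)
    rw [hgx y, hcen y y.2 g hg, mul_inv_cancel_right]
    rfl
  -- the inversion on `Q`
  obtain ⟨ψ, hψ, hψr, h1, h2⟩ := exists_inv hφ hQ.symm
  have hψU : ∀ y : Q, ψ y ∈ Subgroup.zpowers u := fun y => hψr ▸ ⟨y, rfl⟩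
  have hc : conjHom (Subgroup.zpowers u) s ∈ F.Hom (Subgroup.zpowers u) := F.conj_mem hUS hs
  have hcU : ∀ w : Subgroup.zpowers u, conjHom (Subgroup.zpowers u) s w = ((w⁻¹ : Subgroup.zpowers u) : Ω) := by
    rintro ⟨w, n, rfl⟩
    rw [conjHom_apply]
    show s * u ^ n * s⁻¹ = (u ^ n)⁻¹
    rw [← conj_zpow, hinv, inv_zpow]
  let γ : Q →* Ω := (φ.comp ((conjHom (Subgroup.zpowers u) s).codRestrict _
    (fun w => by rw [hcU]; exact SetLike.coe_mem _))).comp (ψ.codRestrict _ hψU)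
  have hγ : γ ∈ F.Hom Q := F.comp_mem hψ (F.comp_mem hc hφ _) hψU
  have hγinv : ∀ y : Q, γ y = ((y : Ω))⁻¹ := by
    intro y
    have e : (conjHom (Subgroup.zpowers u) s).codRestrict (Subgroup.zpowers u)
        (fun w => by rw [hcU]; exact SetLike.coe_mem _) (ψ.codRestrict _ hψU y) =
        (ψ.codRestrict _ hψU y)⁻¹ := Subtype.ext (hcU _)
    show φ _ = _
    rw [e, map_inv]
    exact congrArg (·⁻¹) (h2 y (hψU y))
  have hcomm : ∀ a b : Q, a * b = b * a := fun a b =>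
    Subtype.ext (hcen b b.2 a (hQS a.2))
  let α : MulAut Q :=
    { toEquiv := Equiv.inv Q
      map_mul' := fun a b => by
        show (a * b)⁻¹ = a⁻¹ * b⁻¹
        rw [mul_inv_rev, hcomm] }
  have hα : α ∈ F.autGroup Q := by
    refine (autGroup_carrier hQS).2 ?_
    refine restrict_mem_of_eq hγ le_rfl fun y => ?_
    show ((y⁻¹ : Q) : Ω) = _
    rw [Subgroup.coe_inv]
    exact (hγinv _).symm
  haveI : Finite Q := finite_of_le hQS
  haveI : Finite (MulAut Q) := finite_mulAut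
  have hodd : ¬ 2 ∣ Nat.card (F.autGroup Q) := by
    have hd := R.not_dvd_index
    rw [hR, hbot, Subgroup.bot_subgroupOf, Subgroup.index_bot] at hd
    exact hd
  have hsq : (⟨α, hα⟩ : F.autGroup Q) ^ 2 = 1 :=
    Subtype.ext (MulEquiv.ext fun y => by
      show ((y⁻¹)⁻¹ : Q) = y
      rw [inv_inv])
  have h1' : (⟨α, hα⟩ : F.autGroup Q) = 1 := by
    rcases (Nat.dvd_prime Nat.prime_two).1 (orderOf_dvd_of_pow_eq_one hsq) with ho | ho
    · exact orderOf_eq_one_iff.1 ho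
    · exact (hodd (ho ▸ orderOf_dvd_natCard _)).elim
  have hu0 : (⟨u, Subgroup.mem_zpowers u⟩ : Subgroup.zpowers u) * ⟨u, Subgroup.mem_zpowers u⟩ = 1 := by
    apply F.injective_of_mem hφ
    rw [map_mul, map_one, hφz]
    have hzQ : z ∈ Q := hφz ▸ ⟨_, rfl⟩
    have e := congrArg (fun a : F.autGroup Q => (((a : MulAut Q) ⟨z, hzQ⟩ : Q) : Ω)) h1'
    have e' : z⁻¹ = z := e
    calc z * z = z⁻¹ * z := by rw [e']
      _ = 1 := inv_mul_cancel z
  exact congrArg Subtype.val hu0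

theorem isMulCommutative_aux : ∀ (n : ℕ) {Ω : Type v} [Group Ω] {S : Subgroup Ω} [Finite S],
    Nat.card S ≤ n → IsPGroup 2 ↥S → ∀ F : FusionSystem S, F.IsSaturated 2 →
    (∀ x ∈ S, ∃ z ∈ S ⊓ Subgroup.centralizer (S : Set Ω), F.IsConjElt x z) →
    ∀ a ∈ S, ∀ b ∈ S, a * b = b * a := by
  intro n
  induction n with
  | zero =>
    intro Ω _ S _ hn
    exact absurd hn (Nat.not_le.2 Nat.card_pos)
  | succ n ih =>
  intro Ω _ S _ hn hS F hF h
  haveI : Fact (Nat.Prime 2) := ⟨Nat.prime_two⟩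
  by_cases hone : S = ⊥
  · subst hone
    intro a ha b hb
    rw [Subgroup.mem_bot.1 ha, Subgroup.mem_bot.1 hb]
  -- the involutions form a subgroup
  let A : Subgroup Ω :=
    { carrier := {x | x ∈ S ∧ x * x = 1}
      one_mem' := ⟨S.one_mem, one_mul 1⟩
      inv_mem' := fun {x} hx => ⟨S.inv_mem hx.1, by rw [← mul_inv_rev, hx.2, inv_one]⟩
      mul_mem' := fun {x y} hx hy => by
        refine ⟨S.mul_mem hx.1 hy.1, sq_eq_one_of_inverted hS F hF h (S.mul_mem hx.1 hy.1) hx.1 ?_⟩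
        have ex : x⁻¹ = x := inv_eq_of_mul_eq_one_right hx.2
        have ey : y⁻¹ = y := inv_eq_of_mul_eq_one_right hy.2
        rw [mul_inv_rev, ex, ey, ← mul_assoc, hx.2, one_mul] }
  have hAmem : ∀ x, x ∈ A ↔ x ∈ S ∧ x * x = 1 := fun x => Iff.rfl
  have hAS : A ≤ S := fun x hx => hx.1
  have hAab : IsMulCommutative A := ⟨⟨fun a b => Subtype.ext (by
    have ha := inv_eq_of_mul_eq_one_right a.2.2
    have hb := inv_eq_of_mul_eq_one_right b.2.2
    have hab := inv_eq_of_mul_eq_one_right (A.mul_mem a.2 b.2).2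
    show (a : Ω) * b = b * a
    rw [← hab, mul_inv_rev, ha, hb])⟩⟩
  have hAsc : F.StronglyClosed A := by
    refine ⟨hAS, fun R hR φ hφ x => ⟨apply_mem_S hφ x, ?_⟩⟩
    have hx : x * x = 1 := Subtype.ext (hR x.2).2
    rw [← map_mul, hx, map_one]
  have hAn : F.IsNormal A := isNormal_of_abelian 2 hS hF hAsc hAab
  -- lift conjugations to `A`
  have hlift : ∀ x ∈ S, ∃ z ∈ S ⊓ Subgroup.centralizer (S : Set Ω),
      ∃ ψ ∈ F.Hom (Subgroup.zpowers x ⊔ A),
        ψ ⟨x, le_sup_left (a := Subgroup.zpowers x) (Subgroup.mem_zpowers x)⟩ = z ∧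
        (A.subgroupOf (Subgroup.zpowers x ⊔ A)).map ψ = A := by
    intro x hx
    obtain ⟨z, hz, φ, hφ, hφz⟩ := h x hx
    obtain ⟨ψ, hψ, h1, h2⟩ := hAn.2 _ φ hφ
    exact ⟨z, hz, ψ, hψ, (h1 ⟨x, Subgroup.mem_zpowers x⟩).trans hφz, h2⟩
  -- the involutions are central
  have hAcen : ∀ a ∈ A, ∀ x ∈ S, x * a = a * x := by
    intro a ha x hx
    obtain ⟨z, hz, ψ, hψ, hxz, hmap⟩ := hlift x hx
    have hx' : x ∈ Subgroup.zpowers x ⊔ A := Subgroup.mem_sup_left (Subgroup.mem_zpowers x)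
    have ha' : a ∈ Subgroup.zpowers x ⊔ A := Subgroup.mem_sup_right ha
    have e : (⟨x, hx'⟩ : ↥(Subgroup.zpowers x ⊔ A)) * ⟨a, ha'⟩ = ⟨a, ha'⟩ * ⟨x, hx'⟩ := by
      apply F.injective_of_mem hψ
      rw [map_mul, map_mul, show ψ ⟨x, hx'⟩ = z from hxz]
      exact (Subgroup.mem_centralizer_iff.1 hz.2 _ (apply_mem_S hψ _)).symm
    exact congrArg Subtype.val e
  -- the factor system
  haveI hTn : (A.subgroupOf S).Normal := ⟨fun a ha g => by
    rw [Subgroup.mem_subgroupOf] at ha ⊢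
    have e : ((g * a * g⁻¹ : S) : Ω) = a := by
      simp only [Subgroup.coe_mul, Subgroup.coe_inv]
      rw [hAcen _ ha g g.2, mul_inv_cancel_right]
    rw [e]; exact ha⟩
  let θ : S →* S ⧸ A.subgroupOf S := QuotientGroup.mk' _
  have hk : ∀ s : S, θ s = 1 ↔ (s : Ω) ∈ A := fun s =>
    (QuotientGroup.eq_one_iff s).trans Subgroup.mem_subgroupOf
  have hr : θ.range = ⊤ := MonoidHom.range_eq_top.2 (QuotientGroup.mk'_surjective _)
  have hE := factorSystem_spec (F := F) hAsc hk hr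
  set E := factorSystem (F := F) hAsc hk hr with hEdef
  have hEsat := factor_saturated hAsc hE 2 hS hF
  have hA1 : A ≠ ⊥ := by
    intro hA
    obtain ⟨k, hk⟩ := IsPGroup.iff_card.1 hS
    have hk0 : k ≠ 0 := fun h0 => hone (Subgroup.eq_bot_of_card_eq S (by rw [hk, h0, pow_zero]))
    obtain ⟨y, hy⟩ := exists_prime_orderOf_dvd_card' (G := S) 2 (hk ▸ dvd_pow_self 2 hk0)
    have hy2 : y * y = 1 := by rw [← sq, ← hy, pow_orderOf_eq_one]
    have : (y : Ω) ∈ A := ⟨y.2, congrArg Subtype.val hy2⟩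
    rw [hA, Subgroup.mem_bot] at this
    have : y = 1 := Subtype.ext this
    rw [this, orderOf_one] at hy
    exact absurd hy (by norm_num)
  have hcard : Nat.card (⊤ : Subgroup (S ⧸ A.subgroupOf S)) ≤ n := by
    rw [Subgroup.card_top]
    have h1 := Subgroup.card_eq_card_quotient_mul_card_subgroup (A.subgroupOf S)
    have h2 : 1 < Nat.card (A.subgroupOf S) := by
      rw [Nat.card_congr (Subgroup.subgroupOfEquivOfLe hAS).toEquiv]
      haveI : Finite A := finite_of_le hAS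
      exact (Subgroup.one_lt_card_iff_ne_bot A).2 hA1
    have h3 : 0 < Nat.card (S ⧸ A.subgroupOf S) := Nat.card_pos
    nlinarith
  have hSbar : IsPGroup 2 ↥(⊤ : Subgroup (S ⧸ A.subgroupOf S)) :=
    (hS.to_quotient (A.subgroupOf S)).to_subgroup ⊤
  have hhyp : ∀ x ∈ (⊤ : Subgroup (S ⧸ A.subgroupOf S)),
      ∃ z ∈ (⊤ : Subgroup (S ⧸ A.subgroupOf S)) ⊓ Subgroup.centralizer ((⊤ : Subgroup (S ⧸ A.subgroupOf S)) : Set _),
        E.IsConjElt x z := by
    intro x _
    obtain ⟨s, rfl⟩ := QuotientGroup.mk'_surjective _ x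
    obtain ⟨z, hz, ψ, hψ, hsz, -⟩ := hlift s s.2
    obtain ⟨ψ', hψ', hind⟩ := exists_factor_hom hAsc hE hψ le_sup_right rfl
    have hs' : (s : Ω) ∈ Subgroup.zpowers (s : Ω) ⊔ A := Subgroup.mem_sup_left (Subgroup.mem_zpowers _)
    have hle : Subgroup.zpowers (θ s) ≤ img θ (Subgroup.zpowers (s : Ω) ⊔ A) :=
      Subgroup.zpowers_le.2 (apply_mem_img hs')
    refine ⟨θ ⟨z, hz.1⟩, ⟨trivial, Subgroup.mem_centralizer_iff.2 fun y _ => ?_⟩,
      ψ'.comp (Subgroup.inclusion hle), restrict_mem hψ' hle, ?_⟩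
    · obtain ⟨t, rfl⟩ := QuotientGroup.mk'_surjective _ y
      show θ t * θ ⟨z, hz.1⟩ = θ ⟨z, hz.1⟩ * θ t
      rw [← map_mul, ← map_mul]
      exact congrArg θ (Subtype.ext (Subgroup.mem_centralizer_iff.1 hz.2 t t.2))
    · obtain ⟨hP, hφS, hP', he⟩ := hind
      have e := he ⟨s, hs'⟩
      refine (Eq.trans ?_ e).trans (congrArg θ (Subtype.ext hsz))
      rfl
  have hder : ∀ a ∈ S, ∀ b ∈ S, a * b * a⁻¹ * b⁻¹ ∈ A := by
    intro a ha b hb
    have e := ih hcard hSbar E hEsat hhyp (θ ⟨a, ha⟩) trivial (θ ⟨b, hb⟩) trivial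
    have : θ (⟨a, ha⟩ * ⟨b, hb⟩ * ⟨a, ha⟩⁻¹ * ⟨b, hb⟩⁻¹) = 1 := by
      simp only [map_mul, map_inv, e]
      group
    exact (hk _).1 this
  -- there is no essential subgroup
  have hess : ∀ Q : Subgroup Ω, ¬ F.IsEssential 2 Q := by
    intro Q hQ
    have hlt := essential_lt 2 hS hF hQ
    have hc := hQ.1
    have hAQ : A ≤ Q := by
      intro a ha
      refine hc.2 Q (isConj_refl hc.1) ⟨hAS ha, Subgroup.mem_centralizer_iff.2 fun y hy => ?_⟩
      exact hAcen a ha y (hc.1 hy)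
    refine hlt.not_ge fun g hg => ?_
    have hgN : g ∈ normalizerIn S Q := by
      refine ⟨hg, mem_normalizer_of_conj_mem hc.1 fun y hy => ?_⟩
      have := Q.mul_mem (hAQ (hder g hg y (hc.1 hy))) hy
      rwa [inv_mul_cancel_right] at this
    refine mem_of_chain 2 hS hc (isRadical_of_essential 2 hS hQ) (m := 1) ![A.subgroupOf Q, ⊤] rfl
      ?_ { carrier := {γ : MulAut Q | ∀ x ∈ A.subgroupOf Q, γ x = x}
           one_mem' := fun x _ => rfl
           mul_mem' := fun {a b} ha hb x hx => by rw [MulAut.mul_apply, hb x hx, ha x hx]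
           inv_mem' := fun {a} ha x hx => by
             conv_lhs => rw [← ha x hx]
             exact a.symm_apply_apply x } ?_ ?_ hgN ?_ ?_
    · intro α hα i x hx
      fin_cases i
      · show α x ∈ A.subgroupOf Q
        rw [Subgroup.mem_subgroupOf]
        have hm : (A.subgroupOf Q).map Q.subtype ≤ A := by
          rintro _ ⟨y, hy, rfl⟩; exact hy
        have := hAsc.2 A le_rfl _ (restrict_mem ((autGroup_carrier hc.1).1 hα) hAQ) ⟨(x : Ω), hx⟩
        exact this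
      · exact Subgroup.mem_top _
    · intro α hα γ hγA hγ x hx
      show α (γ (α⁻¹ x)) = x
      rw [hγ]
      · exact α.apply_symm_apply x
      · rw [Subgroup.mem_subgroupOf]
        exact hAsc.2 A le_rfl _ (restrict_mem ((autGroup_carrier hc.1).1 (inv_mem hα)) hAQ)
          ⟨(x : Ω), hx⟩
    · intro γ _ hγ
      exact ⟨0, fun x hx => by rw [pow_zero, pow_one]; exact hγ x hx⟩
    · intro i x _
      fin_cases i
      show x⁻¹ * conjAut S Q ⟨g, hgN⟩ x ∈ A.subgroupOf Q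
      rw [Subgroup.mem_subgroupOf]
      simp only [Subgroup.coe_mul, Subgroup.coe_inv, coe_conjAut]
      have hxS : (x : Ω) ∈ S := hc.1 x.2
      have hm := hder _ (S.inv_mem hxS) g hg
      rwa [inv_inv, mul_assoc, mul_assoc, ← mul_assoc g] at hm
    · intro x hx
      refine Subtype.ext ?_
      rw [coe_conjAut]
      show g * (x : Ω) * g⁻¹ = x
      rw [hAcen (x : Ω) hx g hg, mul_inv_cancel_right]
  have hSn : F.IsNormal S := by
    refine isNormal_of_essential 2 hS hF (fun P hP => ?_) fun P hP α _ x _ => ?_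
    · rcases hP with rfl | hP
      exacts [le_rfl, (hess P hP).elim]
    · rcases hP with rfl | hP
      exacts [(α x).2, (hess P hP).elim]
  intro a ha b hb
  obtain ⟨z, hz, φ, hφ, hφz⟩ := h a ha
  obtain ⟨ψ, hψ, h1, h2⟩ := hSn.2 _ φ hφ
  have ha' : a ∈ Subgroup.zpowers a ⊔ S := Subgroup.mem_sup_right ha
  have hb' : b ∈ Subgroup.zpowers a ⊔ S := Subgroup.mem_sup_right hb
  have e : (⟨a, ha'⟩ : ↥(Subgroup.zpowers a ⊔ S)) * ⟨b, hb'⟩ = ⟨b, hb'⟩ * ⟨a, ha'⟩ := by
    apply F.injective_of_mem hψ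
    have hh : ψ ⟨a, ha'⟩ = z := (h1 ⟨a, Subgroup.mem_zpowers a⟩).trans hφz
    rw [map_mul, map_mul, hh]
    exact (Subgroup.mem_centralizer_iff.1 hz.2 _ (apply_mem_S hψ _)).symm
  exact congrArg Subtype.val e

/-- Let F be a saturated fusion system over a finite 2-group S. Suppose that every element of S is F-conjugate to an element of the centre Z(S) (some map of F defined on the cyclic subgroup it generates sends it into Z(S)). Then S is abelian. -/
theorem result {Ω : Type*} [Group Ω] {S : Subgroup Ω} [Finite S] (hS : IsPGroup 2 ↥S) (F : Cfsg.FusionSystem S) (hF : F.IsSaturated 2) (h : ∀ x ∈ S, ∃ z ∈ S ⊓ Subgroup.centralizer (S : Set Ω), F.IsConjElt x z) : IsMulCommutative ↥S := by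
  exact ⟨⟨fun a b => Subtype.ext
    (isMulCommutative_aux (Nat.card S) le_rfl hS F hF h a a.2 b b.2)⟩⟩

end Cfsg.Agent.S5274
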