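import Cfsg.Statements.S5276
import Cfsg.Agent.Fusion.Tate
import Cfsg.Agent.Fusion.AbelianSystem
import Cfsg.Agent.Fusion.InnerFrattini
import Cfsg.Agent.Solvable.PGroupBasic

set_option autoImplicit false
open Cfsg Cfsg.FusionSystem CfsgLib.Fusion

namespace Cfsg.Agent.S5276

/-- Let p be a prime and F a saturated fusion system over a finite p-group S. Then F is the inner fusion system of S if and only if the normalizer fusion system of S itself in F is the inner fusion system (equivalently, Aut_F(S) is induced by S) and the Frattini subgroup Φ(S) is strongly closed in F. -/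
theorem result {Ω : Type*} [Group Ω] {S : Subgroup Ω} [Finite S] (p : ℕ) [Fact p.Prime] (hS : IsPGroup p ↥S) (F : Cfsg.FusionSystem S) (hF : F.IsSaturated p) : (∀ P : Subgroup Ω, F.Hom P = (Cfsg.innerFusionSystem S).Hom P) ↔ (∀ N : Cfsg.FusionSystem (Cfsg.FusionSystem.normalizerIn S S), F.IsNormalizerSystem S N → ∀ P : Subgroup Ω, N.Hom P = (Cfsg.innerFusionSystem (Cfsg.FusionSystem.normalizerIn S S)).Hom P) ∧ F.StronglyClosed ((frattini ↥S).map S.subtype) := by
  have hNS : FusionSystem.normalizerIn S S = S := le_antisymm (normalizerIn_le_S S) (le_normalizerIn le_rfl)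
  constructor
  · intro h
    refine ⟨fun N hN P => ?_, Subgroup.map_subtype_le _, fun R hR φ hφ x => ?_⟩
    · ext φ
      rw [hN P]
      constructor
      · rintro ⟨hφ, hP, -, -⟩
        rw [h P] at hφ
        obtain ⟨-, g, hg, hgx⟩ := hφ
        exact ⟨hP, g, hNS.ge hg, hgx⟩
      · rintro ⟨hP, g, hg, hgx⟩
        have hPS : P ≤ S := hP.trans hNS.le
        have hgS : g ∈ S := hNS.le hg
        refine ⟨(h P).ge ⟨hPS, g, hgS, hgx⟩, hP, fun x => hNS.ge ?_, conjHom (P ⊔ S) g,
          F.conj_mem (sup_le hPS le_rfl) hgS, fun x => (hgx x).symm, ?_⟩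
        · rw [hgx x]; exact mul_mem (mul_mem hgS (hPS x.2)) (Subgroup.inv_mem _ hgS)
        · refine eq_of_le_of_card_le le_rfl ?_
            (card_map_subgroupOf (F.injective_of_mem (F.conj_mem (sup_le hPS le_rfl) hgS))
              le_sup_right).ge
          intro y hy
          obtain ⟨w, hw, hwS, rfl⟩ := mem_map_subgroupOf.1 hy
          exact mul_mem (mul_mem hgS hwS) (Subgroup.inv_mem _ hgS)
    · rw [h R] at hφ
      obtain ⟨-, g, hg, hgx⟩ := hφ
      obtain ⟨w, hw, hwe⟩ := hR x.2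
      refine ⟨⟨g, hg⟩ * w * ⟨g, hg⟩⁻¹, (inferInstance : (frattini S).Normal).conj_mem w hw _, ?_⟩
      rw [hgx x, ← hwe]; rfl
  rintro ⟨hN, hΦ⟩
  have hautS : ∀ α ∈ F.autGroup S, ∃ g ∈ S, ∀ x : S, ((α x : S) : Ω) = g * (x : Ω) * g⁻¹ := by
    intro α hα
    have hmem : S.subtype.comp α.toMonoidHom ∈ (normSystem F S le_rfl).Hom S := by
      have hsub : S ⊔ S ≤ S := sup_le le_rfl le_rfl
      refine ⟨(autGroup_carrier le_rfl).1 hα, hNS.ge, fun x => hNS.ge (α x).2,
        (S.subtype.comp α.toMonoidHom).comp (Subgroup.inclusion hsub),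
        restrict_mem ((autGroup_carrier le_rfl).1 hα) hsub, fun x => rfl, ?_⟩
      rw [map_subgroupOf_congr (ψ := (S.subtype.comp α.toMonoidHom).comp (Subgroup.inclusion hsub))
        (χ := S.subtype.comp α.toMonoidHom) le_sup_right le_rfl fun _ _ => rfl, map_subgroupOf_self,
        range_subtype_comp]
    rw [hN _ (normSystem_spec F S le_rfl) S] at hmem
    obtain ⟨-, g, hg, hgx⟩ := hmem
    exact ⟨g, hNS.le hg, hgx⟩
  set T : Subgroup Ω := (frattini S).map S.subtype with hTdef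
  have hTn : (T.subgroupOf S).Normal := by
    rw [hTdef, show ((frattini S).map S.subtype).subgroupOf S = frattini S from
      Subgroup.comap_map_eq_self_of_injective S.subtype_injective _]
    infer_instance
  let θ : S →* S ⧸ T.subgroupOf S := QuotientGroup.mk' _
  have hk : ∀ s : S, θ s = 1 ↔ (s : Ω) ∈ T := fun s => QuotientGroup.eq_one_iff s
  have hr : θ.range = ⊤ := MonoidHom.range_eq_top.2 (QuotientGroup.mk'_surjective _)
  have hcomm : commutator S ≤ T.subgroupOf S := fun x hx => Subgroup.mem_subgroupOf.2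
    ⟨x, (CfsgLib.PGroupBasic.commutator_pow_le_frattini hS).1 hx, rfl⟩
  have hab : ∀ a b : S ⧸ T.subgroupOf S, a * b = b * a := by
    intro a b
    obtain ⟨x, rfl⟩ := QuotientGroup.mk'_surjective _ a
    obtain ⟨y, rfl⟩ := QuotientGroup.mk'_surjective _ b
    rw [← map_mul, ← map_mul]
    refine QuotientGroup.eq.2 (hcomm ?_)
    have h1 := Subgroup.commutator_mem_commutator (Subgroup.mem_top y⁻¹) (Subgroup.mem_top x⁻¹)
    rw [commutatorElement_def] at h1
    rw [commutator_def]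
    simpa [mul_assoc] using h1
  set S₁ := (⊤ : Subgroup (S ⧸ T.subgroupOf S))
  let E := factorSystem hΦ hk hr
  have hE : F.IsFactorSystem T θ E := factorSystem_spec hΦ hk hr
  have hpT : IsPGroup p S₁ := (hS.of_surjective θ (QuotientGroup.mk'_surjective _)).to_subgroup ⊤
  have hfoc : F.focalSubgroup ≤ T := by
    refine (Subgroup.closure_le _).2 ?_
    rintro _ ⟨P, φ, x, hφ, rfl⟩
    obtain ⟨φ', hφ', hi⟩ := induces_of_mem hΦ hE p hS hF hφ
    obtain ⟨a, ha, hax⟩ := exists_aut_extend_of_abelian p hpT (factor_saturated hΦ hE p hS hF)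
      (fun u _ v _ => hab u v) hφ'
    obtain ⟨χ, hχ, hχi⟩ := exists_lift_hom hE ((autGroup_carrier le_rfl).1 ha)
    have hpre : S ≤ preimg θ S₁ := fun y hy => mem_preimg.2 ⟨hy, Subgroup.mem_top _⟩
    have hres := restrict_mem hχ hpre
    have hres_r : (χ.comp (Subgroup.inclusion hpre)).range = S :=
      eq_of_le_of_card_le le_rfl (range_le_S hres) (card_range hres).ge
    obtain ⟨g, hg, hgx⟩ := hautS _ (autOfRange_mem hres hres_r)
    set s : S := ⟨x, le_of_mem_hom hφ x.2⟩
    have h1 : φ' ⟨θ s, apply_mem_img (ι := θ) x.2⟩ = θ ⟨φ x, apply_mem_S hφ x⟩ := induced_apply hi x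
    have h2 : (((a ⟨θ s, Subgroup.mem_top _⟩ : S₁)) : S ⧸ T.subgroupOf S) =
        θ ⟨χ ⟨s, hpre s.2⟩, apply_mem_S hχ _⟩ := induced_apply hχi ⟨s, hpre s.2⟩
    have h3 : θ ⟨χ ⟨s, hpre s.2⟩, apply_mem_S hχ _⟩ = θ (⟨g, hg⟩ * s * ⟨g, hg⟩⁻¹) :=
      congrArg θ (Subtype.ext (hgx s))
    have h4 : θ ⟨φ x, apply_mem_S hφ x⟩ = θ s := by
      rw [← h1, ← hax ⟨θ s, apply_mem_img (ι := θ) x.2⟩, h2, h3, map_mul, map_mul, map_inv,
        hab (θ ⟨g, hg⟩), mul_inv_cancel_right]
    exact (hk (s⁻¹ * ⟨φ x, apply_mem_S hφ x⟩)).1 (by rw [map_mul, map_inv, h4, inv_mul_cancel])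
  have hhf : F.hyperfocalSubgroup p ≤ F.focalSubgroup := by
    refine (Subgroup.closure_le _).2 ?_
    rintro _ ⟨P, α, x, hP, -, rfl⟩
    exact Subgroup.subset_closure ⟨P, _, x, (autGroup_carrier hP).1 α.2, rfl⟩
  have hbot := hyperfocal_eq_bot_of_le_frattini p hS hF (hhf.trans hfoc)
  have hle : F ≤ innerFusionSystem S := by
    refine alperin_saturated p hS hF _ fun Y hY => ?_
    have hYS : Y ≤ S := by
      rcases hY with rfl | h
      exacts [le_rfl, h.1.1]
    refine autGroup_le_of_pResidual p hS hF hY (fun α hα => ?_) fun α hα => ?_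
    · obtain ⟨g, hg, hga⟩ := mem_autInducedBy.1 hα
      exact Subgroup.subset_closure ⟨hYS, g, hg, hga⟩
    · refine Subgroup.subset_closure ⟨hYS, 1, one_mem _, fun x => ?_⟩
      have h1 : (x : Ω)⁻¹ * ((α : MulAut Y) x : Y) ∈ F.hyperfocalSubgroup p :=
        Subgroup.subset_closure ⟨Y, α, x, hYS, hα, rfl⟩
      rw [hbot, Subgroup.mem_bot, inv_mul_eq_one] at h1
      simpa using h1.symm
  intro P
  exact Set.Subset.antisymm (hle P) (inner_le F P)

end Cfsg.Agent.S5276
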