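import Cfsg.Statements.S5289
import Cfsg.Agent.Fusion.RankTwoResistant

set_option autoImplicit false
open Cfsg Cfsg.FusionSystem CfsgLib.Fusion

namespace Cfsg.Agent.S5289

/-- Let p ≥ 5 be a prime and S a finite p-group of p-rank two (it has an elementary abelian subgroup of order p² and none of order p³) which is not the extraspecial group of order p³ and exponent p. Then S is resistant: for every saturated fusion system F over S, S is normal in F, that is, every map of F extends to an F-automorphism of S. -/
theorem result {Ω : Type*} [Group Ω] {S : Subgroup Ω} [Finite S] (p : ℕ) [Fact p.Prime] (hS : IsPGroup p S)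
    (F : Cfsg.FusionSystem S) (hF : F.IsSaturated p)
    (hp : 5 ≤ p)
    (hrank2 : ∃ E : Subgroup Ω, E ≤ S ∧ Cfsg.IsElementaryAbelian p E ∧ Nat.card E = p ^ 2)
    (hrank3 : ∀ E : Subgroup Ω, E ≤ S → Cfsg.IsElementaryAbelian p E → Nat.card E ≤ p ^ 2)
    (hnotE : ¬ (Nat.card S = p ^ 3 ∧ Monoid.exponent ↥S = p)) : F.IsNormal S := by
  refine isNormal_of_essential p hS hF (fun P hP => ?_) fun P hP α hα x hx => ?_
  · rcases hP with rfl | hP
    · exact le_rfl
    · exact (not_essential_of_rank_two hS hF hp hrank3 hnotE hP).elim
  · rcases hP with rfl | hP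
    · exact (α x).2
    · exact (not_essential_of_rank_two hS hF hp hrank3 hnotE hP).elim

end Cfsg.Agent.S5289
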