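import Cfsg.Statements.S5290
import Cfsg.Agent.Fusion.Quasisimple
import Cfsg.Agent.Fusion.NormalCriteria

open Cfsg.FusionSystem CfsgLib.Fusion

set_option autoImplicit false
open Cfsg

namespace Cfsg.Agent.S5290

/-- Let F be a saturated fusion system over a finite p-group S and Q a subgroup of S. Then Q is normal in F (F = N_F(Q)) if and only if the inner fusion system of Q, consisting of the conjugations by elements of Q on subgroups of Q, is a weakly normal subsystem of F (both saturated, Q strongly closed, invariant under F-conjugation, with the Frattini property). -/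
theorem result {Ω : Type*} [Group Ω] {S : Subgroup Ω} [Finite S] (p : ℕ) [Fact p.Prime] (hS : IsPGroup p S)
    (F : Cfsg.FusionSystem S) (hF : F.IsSaturated p)
    (Q : Subgroup Ω) (hQ : Q ≤ S) :
    F.IsNormal Q ↔ (Cfsg.innerFusionSystem Q).IsWeaklyNormalIn F p := by
  constructor
  · intro hN
    haveI := finite_of_le hQ
    refine ⟨innerSystem_saturated p (isPGroup_of_le hS hQ), hF, ⟨fun P φ hφ => ?_,
      stronglyClosed_of_isNormal hN, fun P hPQ φ hφ α hα => ?_, fun P hPQ φ hφ => ?_⟩⟩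
    · obtain ⟨hP, g, hg, he⟩ := hφ
      exact conj_mem_of_eq (hP.trans hQ) (hQ hg) he
    · obtain ⟨-, g, hg, he⟩ := hφ
      refine ⟨conjHom _ ((α ⟨g, hg⟩ : Q) : Ω), ⟨?_, _, (α ⟨g, hg⟩).2, fun _ => rfl⟩, fun x hφx hαx => ?_⟩
      · rintro _ ⟨y, -, rfl⟩
        exact (α y).2
      · show ((α ⟨g, hg⟩ : Q) : Ω) * ((α ⟨x, hPQ x.2⟩ : Q) : Ω) * ((α ⟨g, hg⟩ : Q) : Ω)⁻¹ = _
        rw [← InvMemClass.coe_inv, ← map_inv, ← Subgroup.coe_mul, ← map_mul, ← Subgroup.coe_mul,
          ← map_mul]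
        exact congrArg (fun z : Q => ((α z : Q) : Ω)) (Subtype.ext (he x).symm)
    · obtain ⟨ψ, hψ, he, hmap⟩ := hN.2 P φ hφ
      have hr : (ψ.comp (Subgroup.inclusion (le_sup_right : Q ≤ P ⊔ Q))).range = Q := by
        rw [← MonoidHom.map_range, Subgroup.inclusion_range]
        exact hmap
      refine ⟨_, autOfRange_mem (restrict_mem hψ (le_sup_right : Q ≤ P ⊔ Q)) hr, P.subtype,
        ⟨hPQ, 1, one_mem _, fun x => by simp⟩, fun x hx => ?_⟩
      exact (he x).symm.trans (apply_congr ψ rfl)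
  · rintro ⟨-, -, -, -, -, hfrat⟩
    refine isNormal_of_extends p hS hF hQ fun P hPQ φ hφ => ?_
    obtain ⟨α, hα, φ₀, ⟨-, g, hg, he⟩, hφe⟩ := hfrat P hPQ φ hφ
    have hgN : g ∈ normalizerIn S Q := ⟨hQ hg, Subgroup.le_normalizer hg⟩
    refine ⟨α * conjAut S Q ⟨g, hgN⟩, mul_mem hα
      (autInducedBy_le_autGroup hQ (mem_autInducedBy.2 ⟨g, hQ hg, fun _ => rfl⟩)), fun x => ?_⟩
    have hm : φ₀ x ∈ Q := (he x).symm ▸ mul_mem (mul_mem hg (hPQ x.2)) (inv_mem hg)
    rw [MulAut.mul_apply, hφe x hm]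
    exact congrArg (fun z : Q => ((α z : Q) : Ω)) (Subtype.ext (he x).symm)

end Cfsg.Agent.S5290
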