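import Cfsg.Statements.S5295
import Cfsg.Agent.S5193
import Cfsg.Agent.Fusion.CenterFactor
import Cfsg.Agent.Fusion.LocalSaturation

set_option autoImplicit false
universe u
open Cfsg Cfsg.FusionSystem CfsgLib.Fusion

namespace Cfsg.Agent.S5295

/-- Let F be a saturated fusion system over a finite p-group S with p odd. Then the centre Z(F) of F is a direct factor of Z(S): there is a subgroup K of Z(S) with Z(F) ∩ K = 1 and Z(F)K = Z(S). (At the prime 2 this can fail.) -/
theorem result {Ω : Type u} [Group Ω] {S : Subgroup Ω} [Finite S] (p : ℕ) [Fact p.Prime] (hp : p ≠ 2) (hS : IsPGroup p S)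
    (F : Cfsg.FusionSystem S) (hF : F.IsSaturated p) :
    ∃ K : Subgroup Ω, K ≤ (S ⊓ Subgroup.centralizer (S : Set Ω)) ∧ F.center ⊓ K = ⊥ ∧ F.center ⊔ K = (S ⊓ Subgroup.centralizer (S : Set Ω)) := by
  set J := Cfsg.thompsonSubgroupAOf S
  have hch : IsCharIn S J := isCharIn_thompsonAOf
  have hNS : normalizerIn S J = S := hch.normalizerIn_eq
  have hfn : F.IsFullyNormalized J := ⟨hch.1, fun U _ => by
    rw [hNS]; exact card_le_of_le le_rfl (normalizerIn_le_S U)⟩
  let N := normSystem F J hch.1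
  have hN : F.IsNormalizerSystem J N := normSystem_spec F J hch.1
  have hNc : N.center = F.center := (Cfsg.Agent.S5193.result p hS F hF N hN).2 (Or.inl hp)
  haveI : Finite ↥(normalizerIn S J) := finite_of_le (normalizerIn_le_S J)
  have hZJ : normalizerIn S J ⊓ Subgroup.centralizer ((normalizerIn S J : Subgroup Ω) : Set Ω) ≤ J := by
    rw [hNS]
    intro z hz
    exact ⟨⟨z, hz.1⟩, center_le_thompsonA (Subgroup.mem_center_iff.2 fun g =>
      Subtype.ext (Subgroup.mem_centralizer_iff.1 hz.2 g g.2)), rfl⟩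
  obtain ⟨K, h1, h2, h3⟩ := exists_center_compl p (isPGroup_of_le hS (normalizerIn_le_S J))
    (normalizerSystem_saturated p hS hF hfn hN) (isNormal_normalizerSystem hch.1 hN) hZJ
  rw [hNc] at h2 h3
  rw [hNS] at h1 h3
  exact ⟨K, h1, h2, h3⟩

end Cfsg.Agent.S5295
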