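import Cfsg.Statements.S5299
import Cfsg.Agent.Fusion.Basic
import Cfsg.Agent.ZJ.Involve
import Cfsg.Agent.Functor.Fusion

set_option autoImplicit false
universe u
open Cfsg Cfsg.FusionSystem CfsgLib.Fusion

namespace Cfsg.Agent.S5299

/-- Let F be a saturated fusion system over a finite p-group S, H a finite group and Q a p-subgroup of H. If Q is not involved in S (no section of S is isomorphic to Q), then F is H-free: H is involved in no model of the normalizer system of a fully normalized centric subgroup. -/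
theorem result {Ω : Type u} [Group Ω] {S : Subgroup Ω} [Finite S] (p : ℕ) [Fact p.Prime] (hS : IsPGroup p S)
    (F : Cfsg.FusionSystem S) (hF : F.IsSaturated p) (H : Type*) [Group H] [Finite H] (Q : Subgroup H) (hQ : IsPGroup p Q)
    (hfree : ¬ Cfsg.Involves (↥Q) (↥S)) : F.IsSectionFree p H := by
  intro R hR hRc N hN L _ ι hι hH
  refine hfree ?_
  obtain ⟨K, f, hf⟩ := CfsgLib.ZJ.exists_surjective_of_involves hH
  haveI : Finite L := hι.1
  obtain ⟨P₀, hP₀⟩ := hι.2.2.1
  obtain ⟨T⟩ := Sylow.nonempty (p := p) (G := ↥(Q.comap f))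
  let f' : ↥(Q.comap f) →* ↥Q := f.subgroupComap Q
  have hf' : Function.Surjective f' := f.subgroupComap_surjective_of_surjective Q hf
  have hTQ : (T.mapSurjective hf' : Subgroup ↥Q) = ⊤ :=
    ((T.mapSurjective hf').3 (Q := ⊤) (hQ.of_equiv Subgroup.topEquiv.symm) le_top).symm
  let incl : ↥(T : Subgroup ↥(Q.comap f)) →* L := K.subtype.comp ((Q.comap f).subtype.comp (T : Subgroup ↥(Q.comap f)).subtype)
  have hincl : Function.Injective incl := K.subtype_injective.comp ((Q.comap f).subtype_injective.comp (T : Subgroup ↥(Q.comap f)).subtype_injective)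
  obtain ⟨n, -, hn⟩ := (CfsgLib.Functor.isSylowIn_top P₀).exists_cj_le (T.2.of_surjective incl.rangeRestrict incl.rangeRestrict_surjective) le_top
  rw [hP₀] at hn
  let j : ↥(T : Subgroup ↥(Q.comap f)) →* ↥S :=
    (Subgroup.inclusion (normalizerIn_le_S R)).comp ((MonoidHom.ofInjective hι.2.1.1).symm.toMonoidHom.comp
      (((MulAut.conj n).toMonoidHom.comp incl).codRestrict ι.range fun x => hn ⟨incl x, ⟨x, rfl⟩, rfl⟩))
  have hj : Function.Injective j := fun a b h => by
    have h2 := Subgroup.inclusion_injective (normalizerIn_le_S R) h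
    exact hincl ((MulAut.conj n).injective (congrArg Subtype.val ((MonoidHom.ofInjective hι.2.1.1).symm.injective h2)))
  refine CfsgLib.ZJ.involves_of_surjective j.range
    ((f'.comp (T : Subgroup ↥(Q.comap f)).subtype).comp (MonoidHom.ofInjective hj).symm.toMonoidHom)
    (Function.Surjective.comp (g := ⇑(f'.comp (T : Subgroup ↥(Q.comap f)).subtype)) ?_ (MonoidHom.ofInjective hj).symm.surjective)
  intro q
  have hq : q ∈ (T.mapSurjective hf' : Subgroup ↥Q) := hTQ ▸ Subgroup.mem_top q
  obtain ⟨t, ht, rfl⟩ := hq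
  exact ⟨⟨t, ht⟩, rfl⟩

end Cfsg.Agent.S5299
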