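import Cfsg.Statements.S5306
import Cfsg.Agent.Kinf.SylowExercises
import Cfsg.Agent.PLocal.Thompson

set_option autoImplicit false
open Cfsg
open scoped CfsgLib.Functor

namespace Cfsg.Agent.S5306

/-- Let P be a Sylow p-subgroup of the finite group X and J = J(P) its Thompson subgroup (generated by the elementary abelian subgroups of P of largest order). If x and y lie in the centre of J and y = g x g⁻¹ for some g in X, then y = n x n⁻¹ for some n in the normalizer N_X(J). -/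
theorem result {X : Type*} [Group X] [Finite X] (p : ℕ) [Fact p.Prime] (P : Sylow p X) (J : Subgroup X) (hJ : J = Cfsg.thompsonSubgroupOf p (P : Subgroup X))
    (x y : X) (hx : x ∈ J ∧ ∀ j ∈ J, Commute j x) (hy : y ∈ J ∧ ∀ j ∈ J, Commute j y) (g : X) (hg : g * x * g⁻¹ = y) :
    ∃ n ∈ Subgroup.normalizer (J : Set X), n * x * n⁻¹ = y := by
  subst hJ
  have hle : ∀ h : X, Cfsg.thompsonSubgroupOf p (P : Subgroup X) ≤ h ⋆ (P : Subgroup X) →
      h ⋆ Cfsg.thompsonSubgroupOf p (P : Subgroup X) = Cfsg.thompsonSubgroupOf p (P : Subgroup X) := by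
    intro h hh
    have e : h ⋆ Cfsg.thompsonSubgroupOf p (P : Subgroup X) = Cfsg.thompsonSubgroupOf p (h ⋆ (P : Subgroup X)) :=
      CfsgLib.Thompson.map_thompsonSubgroupOf (MulAut.conj h) _
    refine (CfsgLib.Functor.eq_of_le_of_card_le' ?_ (CfsgLib.Functor.card_cj _ _).le).symm
    rw [e, CfsgLib.Thompson.thompsonSubgroupOf_eq, CfsgLib.Thompson.thompsonSubgroupOf_eq]
    refine sSup_le fun A hA => le_sSup ⟨?_, hA.2.1, fun B hB hB' => ?_⟩
    · exact le_trans (le_trans (le_sSup hA) (CfsgLib.Thompson.thompsonSubgroupOf_eq (p := p) _).ge) hh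
    · rw [← CfsgLib.Functor.card_cj h⁻¹ B]
      refine hA.2.2 _ ?_ (CfsgLib.Thompson.elab_map _ hB')
      exact CfsgLib.Functor.cj_le_iff'.2 (by simpa using hB)
  set J := Cfsg.thompsonSubgroupOf p (P : Subgroup X) with hJ
  have hJP : J ≤ (P : Subgroup X) := CfsgLib.Thompson.thompsonSubgroupOf_le _
  set C := Subgroup.centralizer ({y} : Set X) with hC
  have h1 : J ≤ C := fun j hj => Subgroup.mem_centralizer_singleton_iff.2 (hy.2 j hj).eq
  have h2 : g ⋆ J ≤ C := CfsgLib.Functor.cj_le_iff.2 fun j hj => Subgroup.mem_centralizer_singleton_iff.2 (by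
    rw [← hg, show g * j * g⁻¹ * (g * x * g⁻¹) = g * (j * x) * g⁻¹ by group, (hx.2 j hj).eq]
    group)
  obtain ⟨R, hR, hJR⟩ := CfsgLib.Functor.exists_sylowIn_ge (p := p) (P.2.to_le hJP) h1
  obtain ⟨c, hc, hcR⟩ := hR.exists_cj_le (CfsgLib.Functor.isPGroup_cj g (P.2.to_le hJP)) h2
  obtain ⟨h, hh⟩ := CfsgLib.Kinf.exists_le_cj P hR.isPGroup
  rw [CfsgLib.Functor.cj_cj] at hcR
  have e1 : h ⋆ J = J := hle h (hJR.trans hh)
  have e2 : ((c * g)⁻¹ * h) ⋆ J = J := hle _ (by
    rw [← CfsgLib.Functor.cj_cj]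
    exact CfsgLib.Functor.cj_le_iff'.1 (hcR.trans hh))
  rw [← CfsgLib.Functor.cj_cj, e1] at e2
  refine ⟨c * g, ?_, ?_⟩
  · have := CfsgLib.Functor.mem_normalizer_iff_cj.2 e2
    simpa using (Subgroup.normalizer (J : Set X)).inv_mem this
  · have hk : c * y = y * c := Subgroup.mem_centralizer_singleton_iff.1 hc
    rw [show c * g * x * (c * g)⁻¹ = c * (g * x * g⁻¹) * c⁻¹ by group, hg, hk, mul_inv_cancel_right]

end Cfsg.Agent.S5306
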