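import Cfsg.Statements.S5309
import Cfsg.Agent.Fusion.GenFitting

set_option autoImplicit false
open Cfsg

namespace Cfsg.Agent.S5309

/-- Self-centralizing property of the generalized Fitting subsystem. Let F be a saturated fusion system over a finite p-group S and D a generalized Fitting subsystem of F, over U. Then the centre of D is the largest subgroup Y of C_S(U) centralized by D in F, in the sense that every map of D extends to a map of F fixing Y elementwise: the centre of D is such a subgroup, and every such Y lies in the centre of D. -/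
theorem result {Ω : Type*} [Group Ω] {S : Subgroup Ω} [Finite S] (p : ℕ) [Fact p.Prime] (hS : IsPGroup p S) (F : Cfsg.FusionSystem S) (hF : F.IsSaturated p)
    {U : Subgroup Ω} (D : Cfsg.FusionSystem U) (hD : D.IsGeneralizedFittingOf F p) :
    (D.center ≤ Cfsg.FusionSystem.centralizerIn S U ∧ ∀ P : Subgroup Ω, D.Hom P ⊆ F.centralizerHom D.center P) ∧
      ∀ Y : Subgroup Ω, Y ≤ Cfsg.FusionSystem.centralizerIn S U →
        (∀ P : Subgroup Ω, D.Hom P ⊆ F.centralizerHom Y P) → Y ≤ D.center := by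
  classical
  obtain ⟨T, E, hE, D₀, hprod, Z, θ, hZ, -, -, hθ₁, hθ₂, hfac⟩ := hD
  have hQ : F.IsNormal F.core := CfsgLib.Fusion.isNormal_core
  have hQS : F.core ≤ S := hQ.1
  have hTS : T ≤ S := hE.1.1.2.2.2.1.1
  haveI : Finite F.core := CfsgLib.Fusion.finite_of_le hQS
  haveI : Finite T := CfsgLib.Fusion.finite_of_le hTS
  haveI : Finite (F.core.prod T) := Finite.of_equiv _ (Subgroup.prodEquiv F.core T).symm.toEquiv
  have hEQ : ∀ P : Subgroup Ω, E.Hom P ⊆ F.centralizerHom F.core P := fun P =>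
    hE.2.2 _ _ (CfsgLib.CoreComp.centSystem_normal p hS hF hQ)
      (fun V C hC R => CfsgLib.CoreComp.quasisimple_centralizes p hS hC.1 hC.2 hQ R) P
  have hUS : U ≤ S := CfsgLib.GenFitting.le_of_both hθ₁ hθ₂ hfac hQS hTS
  have hQU : F.core ≤ U := CfsgLib.GenFitting.core_le hθ₁ hfac
  have hTU : T ≤ U := CfsgLib.GenFitting.layer_le hθ₂ hfac
  haveI : Finite U := CfsgLib.Fusion.finite_of_le hUS
  have hDF : ∀ P : Subgroup Ω, D.Hom P ⊆ F.Hom P :=
    CfsgLib.GenFitting.hom_le hprod hθ₁ hθ₂ hfac hQS hEQ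
  refine ⟨⟨fun y hy => CfsgLib.Fusion.mem_centralizerIn.2
    ⟨hUS (CfsgLib.Fusion.center_le_S hy), fun u hu => D.center_le_centralizer hy u hu⟩,
    fun P φ hφ => ?_⟩, fun Y hY hDY => ?_⟩
  · obtain ⟨ψ, hψ, he, hf⟩ := CfsgLib.Fusion.isCentral_center.2 P φ hφ
    have hUC : ∀ u ∈ U, u ∈ FusionSystem.centralizerIn S D.center := fun u hu =>
      CfsgLib.Fusion.mem_centralizerIn.2
        ⟨hUS hu, fun z hz => (D.center_le_centralizer hz u hu).symm⟩
    exact ⟨hDF P hφ, fun x hx => hUC x (CfsgLib.Fusion.le_of_mem_hom hφ hx),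
      fun x => hUC _ (CfsgLib.Fusion.apply_mem_S hφ x), ψ, hDF _ hψ, he, hf⟩
  · refine CfsgLib.GenFitting.le_center_of_le hprod hθ₁ hθ₂ hZ hfac ?_
      fun y hy u hu => (hY hy).2 u hu
    refine CfsgLib.GenFitting.le_core_of_centralizes p hS hF hE
      (hY.trans (CfsgLib.NormCent.centralizerIn_anti hTU)) (fun y hy x hx => (hY hy).2 x (hQU hx))
      fun P φ hφ => hDY P (CfsgLib.GenFitting.layer_hom_le hprod hθ₂ hZ hfac P hφ)

end Cfsg.Agent.S5309
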