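import Cfsg.Statements.S5310
import Cfsg.Agent.Fusion.ComponentExists
import Cfsg.Agent.Fusion.Product

set_option autoImplicit false
open Cfsg Cfsg.FusionSystem CfsgLib.Fusion

namespace Cfsg.Agent.S5310

/-- A saturated fusion system F over a finite p-group S is constrained (its largest normal subgroup O_p(F) is centric) if and only if the inner fusion system of O_p(F) is itself a generalized Fitting subsystem of F (that is, F*(F) = O_p(F)). -/
theorem result {Ω : Type*} [Group Ω] {S : Subgroup Ω} [Finite S] (p : ℕ) [Fact p.Prime] (hS : IsPGroup p S) (F : Cfsg.FusionSystem S) (hF : F.IsSaturated p) :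
    F.IsConstrained p ↔ (Cfsg.innerFusionSystem F.core).IsGeneralizedFittingOf F p := by
  have hcS : F.core ≤ S := (isNormal_core (F := F)).1
  refine ⟨fun h => ?_, fun ⟨T, E, hE, D₀, hD₀, Z, θ, hZ, hZ₁, hZ₂, hθ₁, hθ₂, hfac⟩ => ?_⟩
  · refine ⟨⊥, innerFusionSystem ⊥, ⟨CfsgLib.CoreComp.inner_normal p hS hF isNormal_bot,
      fun U C hC => (CfsgLib.CompExists.no_component_of_constrained hS h hC).elim,
      fun R D hD hcont P φ hφ => ?_⟩, ?_⟩
    · obtain ⟨hP, g, hg, he⟩ := hφ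
      obtain rfl : g = 1 := Subgroup.mem_bot.1 hg
      rw [show φ = P.subtype from MonoidHom.ext fun x => (he x).trans (by simp)]
      exact subtype_mem (hP.trans bot_le)
    refine ⟨prodSystem _ _, prodSystem_spec _ _, ⊥,
      (MonoidHom.fst Ω Ω).comp (F.core.prod (⊥ : Subgroup Ω)).subtype, bot_le, bot_inf_eq _,
      bot_inf_eq _, fun x hx => rfl, fun y hy => (Subgroup.mem_bot.1 hy.2).symm, bot_le,
      fun s => ?_, ?_, fun P' φ' => ?_⟩
    · refine ⟨fun hs => Subgroup.mem_bot.2 (Prod.ext hs (Subgroup.mem_bot.1 s.2.2)), fun hs => ?_⟩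
      exact congrArg Prod.fst (Subgroup.mem_bot.1 hs)
    · ext y
      exact ⟨fun ⟨s, hs⟩ => hs ▸ s.2.1, fun hy => ⟨⟨(y, 1), hy, one_mem _⟩, rfl⟩⟩
    have hmem : ∀ {Q' : Subgroup Ω} {x : Ω × Ω}, x ∈ preimageAlong
        ((MonoidHom.fst Ω Ω).comp (F.core.prod (⊥ : Subgroup Ω)).subtype) Q' ↔
          x ∈ F.core.prod (⊥ : Subgroup Ω) ∧ x.1 ∈ Q' := fun {Q' x} =>
      ⟨fun ⟨s, hs, e⟩ => e ▸ ⟨s.2, hs⟩, fun ⟨h₁, h₂⟩ => ⟨⟨x, h₁⟩, h₂, rfl⟩⟩
    constructor
    · rintro ⟨hP', g, hg, he⟩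
      refine ⟨hP', conjHom _ (g, 1), (prodSystem _ _).conj_mem (fun x hx => (hmem.1 hx).1)
        ⟨hg, one_mem _⟩, fun x hx => (hmem.1 hx).1, fun x => ?_, fun x => (hmem.1 x.2).2, fun x => ?_⟩
      · exact ⟨mul_mem (mul_mem hg (hmem.1 x.2).1.1) (Subgroup.inv_mem _ hg),
          mul_mem (mul_mem (one_mem _) (hmem.1 x.2).1.2) (Subgroup.inv_mem _ (one_mem _))⟩
      · exact he _
    · rintro ⟨hP', φ, hφ, hP, hφS, hP'', he⟩
      obtain ⟨-, φ₁, ⟨-, g, hg, hg₁⟩, φ₂, -, hpair⟩ := hφ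
      refine ⟨hP', g, hg, fun y => ?_⟩
      have hy : (((y : Ω), 1) : Ω × Ω) ∈ preimageAlong
          ((MonoidHom.fst Ω Ω).comp (F.core.prod (⊥ : Subgroup Ω)).subtype) P' :=
        hmem.2 ⟨⟨hP' y.2, one_mem _⟩, y.2⟩
      refine (he ⟨_, hy⟩).trans ?_
      show (φ ⟨_, hy⟩).1 = _
      rw [hpair ⟨_, hy⟩ (fst_mem_map hy) (snd_mem_map hy)]
      exact hg₁ _
  · have hTc : T ≤ F.core := fun y hy => hfac.2.2.1.le ⟨_, hθ₂ y ⟨one_mem _, hy⟩⟩
    by_contra hnc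
    obtain ⟨U, C, hC⟩ := CfsgLib.CompExists.exists_component hS hF hnc
    have hUT : U ≤ T := le_of_mem_hom (hE.2.1 U C hC U (subtype_mem le_rfl))
    have hUS : U ≤ S := hUT.trans (hTc.trans hcS)
    haveI : Finite U := finite_of_le hUS
    have hUC : U ≤ centralizerIn S F.core :=
      (CfsgLib.CoreComp.quasisimple_centralizes p hS hC.1 hC.2 isNormal_core U (subtype_mem le_rfl)).2.1
    refine not_abelian_of_quasisimple p (isPGroup_of_le hS hUS) hC.2
      ⟨⟨fun a b => Subtype.ext ?_⟩⟩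
    exact ((hUC a.2).2 b (hTc (hUT b.2))).symm

end Cfsg.Agent.S5310
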