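import Cfsg.Statements.S5311
import Cfsg.Agent.Fusion.TransportNormal

set_option autoImplicit false
open Cfsg

namespace Cfsg.Agent.S5311

open Cfsg Cfsg.FusionSystem CfsgLib.Fusion in
/-- An automorphism of `S` as a transport. -/
noncomputable def trOfAut {Ω : Type*} [Group Ω] {S : Subgroup Ω} (α : ↥S ≃* ↥S) : Tr S S := by
  classical
  exact
  { f := fun x => if h : x ∈ S then (α ⟨x, h⟩ : Ω) else 1
    g := fun x => if h : x ∈ S then (α.symm ⟨x, h⟩ : Ω) else 1
    f_mem := fun x hx => by simp [dif_pos hx]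
    g_mem := fun x hx => by simp [dif_pos hx]
    gf := fun x hx => by simp [dif_pos hx]
    fg := fun x hx => by simp [dif_pos hx]
    f_mul := fun x hx y hy => by
      simp only [dif_pos hx, dif_pos hy, dif_pos (mul_mem hx hy)]
      rw [← Subgroup.coe_mul, ← map_mul]
      rfl }

open Cfsg Cfsg.FusionSystem CfsgLib.Fusion in
theorem trOfAut_f {Ω : Type*} [Group Ω] {S : Subgroup Ω} (α : ↥S ≃* ↥S) {x : Ω} (hx : x ∈ S) :
    (trOfAut α).f x = (α ⟨x, hx⟩ : Ω) := by
  simp [trOfAut, dif_pos hx]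

open Cfsg Cfsg.FusionSystem CfsgLib.Fusion in
theorem imageAlong_eq_im {Ω : Type*} [Group Ω] {S : Subgroup Ω} (α : ↥S ≃* ↥S) (P : Subgroup Ω) :
    imageAlong (S.subtype.comp α.toMonoidHom) P = (trOfAut α).im P := by
  ext y
  constructor
  · rintro ⟨x, hx, rfl⟩
    refine ⟨(α x).2, ?_⟩
    show (trOfAut α).g (α x : Ω) ∈ P
    rw [← trOfAut_f α x.2, (trOfAut α).gf _ x.2]
    exact hx
  · intro hy
    refine ⟨⟨(trOfAut α).g y, (trOfAut α).g_mem y hy.1⟩, hy.2, ?_⟩
    exact (trOfAut_f α _).symm.trans ((trOfAut α).fg y hy.1)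

open Cfsg Cfsg.FusionSystem CfsgLib.Fusion in
theorem fwd_of_isMorphism {Ω : Type*} [Group Ω] {S : Subgroup Ω} {F : FusionSystem S} {α : ↥S ≃* ↥S}
    (hα : F.IsMorphism F (S.subtype.comp α.toMonoidHom)) : (trOfAut α).Fwd F F := by
  intro P φ hφ
  obtain ⟨φ', hφ', hP, hφS, hm, hind⟩ := hα.2 P φ hφ
  refine ⟨φ'.comp (Subgroup.inclusion (imageAlong_eq_im α P).ge),
    restrict_mem_of_eq hφ' (imageAlong_eq_im α P).ge fun _ => rfl, fun x hx hx' => ?_⟩
  rw [trOfAut_f α (hφS ⟨x, hx⟩)]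
  refine Eq.trans ?_ (hind ⟨x, hx⟩)
  exact apply_congr φ' (trOfAut_f α (hP hx))

open Cfsg.FusionSystem CfsgLib.Fusion in
/-- The layer of a saturated fusion system F over a finite p-group S is characteristic in F: for every automorphism α of S that is an automorphism of F (α and its inverse are morphisms from F to F) and every layer E of F over T, α carries T onto T and, for every map φ of E with source P, the map induced by α on α(P) (that is, α ∘ φ ∘ α⁻¹) is a map of E. -/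
theorem result {Ω : Type*} [Group Ω] {S : Subgroup Ω} [Finite S] (p : ℕ) [Fact p.Prime] (hS : IsPGroup p S) (F : Cfsg.FusionSystem S) (hF : F.IsSaturated p)
    (α : ↥S ≃* ↥S) (hα : F.IsMorphism F (S.subtype.comp α.toMonoidHom))
    (hα' : F.IsMorphism F (S.subtype.comp α.symm.toMonoidHom))
    {T : Subgroup Ω} (E : Cfsg.FusionSystem T) (hE : E.IsLayerOf F p) :
    Cfsg.FusionSystem.imageAlong (S.subtype.comp α.toMonoidHom) T = T ∧
      ∀ (P : Subgroup Ω) (φ : ↥P →* Ω), φ ∈ E.Hom P →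
        ∀ φ' : ↥(Cfsg.FusionSystem.imageAlong (S.subtype.comp α.toMonoidHom) P) →* Ω,
          Cfsg.FusionSystem.InducedAlong (S.subtype.comp α.toMonoidHom) φ φ' →
            φ' ∈ E.Hom (Cfsg.FusionSystem.imageAlong (S.subtype.comp α.toMonoidHom) P) := by
  have c : (trOfAut α).Corr F F := ⟨fwd_of_isMorphism hα, by
    have h := fwd_of_isMorphism hα'
    intro P φ hφ
    exact h P φ hφ⟩
  obtain ⟨hn, hcomp, hmin⟩ := hE
  obtain ⟨hT, h1⟩ := Tr.layer_subsystem c hn hcomp hmin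
  obtain ⟨_, h2⟩ := Tr.layer_subsystem c.symm hn hcomp hmin
  have hT1 : T ≤ (trOfAut α).im T := le_of_mem_hom (h1 T (subtype_mem le_rfl))
  have hT2 : T ≤ (trOfAut α).symm.im T := le_of_mem_hom (h2 T (subtype_mem le_rfl))
  have hTT : (trOfAut α).im T = T :=
    le_antisymm (((trOfAut α).im_mono hT2).trans ((trOfAut α).im_symm_im hT).le) hT1
  refine ⟨(imageAlong_eq_im α T).trans hTT, fun P φ hφ φ' hind => ?_⟩
  obtain ⟨ψ, hψ, he⟩ := ((trOfAut α).symm.rel_mapSub hT E).symm.fwd (h2 P hφ)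
    (P' := imageAlong (S.subtype.comp α.toMonoidHom) P) (imageAlong_eq_im α P).symm
  refine restrict_mem_of_eq hψ le_rfl fun y => ?_
  obtain ⟨hP, hφS, hm, hi⟩ := hind
  obtain ⟨x, hx, hxy⟩ := (trOfAut α).exists_of_mem_im hP ((imageAlong_eq_im α P).le y.2)
  have hfx : (trOfAut α).f x ∈ imageAlong (S.subtype.comp α.toMonoidHom) P := hxy ▸ y.2
  obtain rfl : y = ⟨(trOfAut α).f x, hfx⟩ := Subtype.ext hxy.symm
  refine ((apply_congr φ' (trOfAut_f α (hP hx))).trans (hi ⟨x, hx⟩)).trans ?_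
  refine ((trOfAut_f α (hφS ⟨x, hx⟩)).symm).trans ?_
  exact (he x hx hfx).symm

end Cfsg.Agent.S5311
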