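import Cfsg.Statements.S5312
import Cfsg.Agent.Fusion.Meet.CompNormal

set_option autoImplicit false
open Cfsg Cfsg.FusionSystem CfsgLib.Fusion CfsgLib.Meet

namespace Cfsg.Agent.S5312

/-- Let F be a saturated fusion system over a finite p-group S. Every component C of F is a normal subsystem of every generalized Fitting subsystem of F. -/
theorem result {Ω : Type*} [Group Ω] {S : Subgroup Ω} [Finite S] (p : ℕ) [Fact p.Prime] (hS : IsPGroup p S) (F : Cfsg.FusionSystem S) (hF : F.IsSaturated p)
    {T : Subgroup Ω} (C : Cfsg.FusionSystem T) (hC : C.IsComponentIn F p)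
    {U : Subgroup Ω} (D : Cfsg.FusionSystem U) (hD : D.IsGeneralizedFittingOf F p) : C.IsNormalIn D p := by
  obtain ⟨V, E, ⟨hE, hEcomp, hEmin⟩, hcp'⟩ := hD
  obtain ⟨R, K, hK, hgood⟩ := exists_all_normal hS hF
  haveI : Finite R := finite_of_le hK.1.2.2.2.1.1
  have hV : V ≤ S := hE.1.2.2.2.1.1
  have hEK : E.IsSubsystemOf K := hEmin R K hK fun X D' hD' =>
    component_le hD' hS hK.1 (hgood X D' hD').1
  have hCE : C.IsNormalIn E p := normal_between (isPGroup_of_le hS hK.1.2.2.2.1.1) hC.2
    (hgood T C hC).2 hE.1.1 hEK (hEcomp T C hC)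
  haveI : Finite F.core := finite_of_le core_le_S
  haveI : Finite V := finite_of_le hV
  have hcp := CPData.of_isCentralProductOf hcp'
  have hUS : U ≤ S := hcp.sup.le.trans (sup_le core_le_S hV)
  haveI : Finite U := finite_of_le hUS
  have hcore : IsPGroup p F.core := isPGroup_of_le hS core_le_S
  exact hcp.symm.normal_of_factor (saturated_of_centralProduct hcore (isPGroup_of_le hS hV)
    (innerSystem_saturated p hcore) hE.1.1 hcp') hCE

end Cfsg.Agent.S5312
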