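import Cfsg.Statements.S5316
import Cfsg.Agent.MaxClassEss.Bridge

set_option autoImplicit false
open Cfsg

namespace Cfsg.Agent.S5316

/-- Let p ≥ 5 be a prime, S a finite p-group of maximal class of order p^n with n ≥ 5 (nilpotency class n − 1), F a saturated fusion system over S, and E an F-essential subgroup that is not a pearl (not elementary abelian of order p² and not extraspecial of order p³ and exponent p). Then E has order at least p⁴. -/
theorem result {Ω : Type*} [Group Ω] {S : Subgroup Ω} [Finite S] (p : ℕ) [Fact p.Prime] (hp : 5 ≤ p) (hS : IsPGroup p ↥S) (n : ℕ) (hn : Nat.card S = p ^ n) (h5 : 5 ≤ n)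
    (hmax : Subgroup.lowerCentralSeries S (n - 2) ≠ ⊥) (F : Cfsg.FusionSystem S) (hF : F.IsSaturated p)
    (E : Subgroup Ω) (hE : F.IsEssential p E)
    (hnp : ¬ ((Nat.card ↥E = p ^ 2 ∧ Cfsg.IsElementaryAbelian p E) ∨ (Nat.card ↥E = p ^ 3 ∧ Cfsg.IsExtraspecial p ↥E ∧ Monoid.exponent ↥E = p))) :
    p ^ 4 ≤ Nat.card ↥E := by
  haveI : Finite E := CfsgLib.Fusion.finite_of_le hE.1.1
  have hp' := (Fact.out : p.Prime)
  have hlt := CfsgLib.Fusion.essential_lt p hS hF hE
  obtain ⟨k, hk⟩ := IsPGroup.iff_card.1 (CfsgLib.Fusion.isPGroup_of_le hS hE.1.1)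
  rw [hk]
  refine Nat.pow_le_pow_right hp'.pos ?_
  by_contra hk4
  rcases (show k ≤ 1 ∨ k = 2 ∨ k = 3 by omega) with hk1 | rfl | rfl
  · -- a subgroup of order at most `p` is not centric
    haveI : Nontrivial S := (Subgroup.nontrivial_iff_ne_bot S).2 fun h => by
      rw [h] at hlt
      exact not_lt_bot hlt
    have hzE : (Subgroup.center S).map S.subtype ≤ E := by
      rintro _ ⟨z, hz, rfl⟩
      exact CfsgLib.Fusion.centralizer_mem_of_centric hE.1 z.2 fun x hx =>
        congrArg Subtype.val (Subgroup.mem_center_iff.1 hz ⟨x, hE.1.1 hx⟩)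
    have hz : Nat.card (Subgroup.center S) = p := by
      rw [(CfsgLib.Fusion.MaximalClass.card_upper hS hn (by omega) ?_).1]
      intro h
      refine hmax ?_
      rw [← Subgroup.top_subtype_lowerCentralSeries, h, Subgroup.map_bot]
    have he : (Subgroup.center S).map S.subtype = E := by
      refine Subgroup.eq_of_le_of_card_ge hzE ?_
      rw [Subgroup.card_map_of_injective S.subtype_injective, hz, hk]
      calc p ^ k ≤ p ^ 1 := Nat.pow_le_pow_right hp'.pos hk1
        _ = p := pow_one p
    refine hlt.not_ge fun g hg => CfsgLib.Fusion.centralizer_mem_of_centric hE.1 hg fun x hx => ?_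
    rw [← he] at hx
    obtain ⟨z, hz', rfl⟩ := hx
    exact congrArg Subtype.val (Subgroup.mem_center_iff.1 hz' ⟨g, hg⟩).symm
  · exact hnp (Or.inl ⟨hk, (CfsgLib.Fusion.essential_of_card_sq p hS hF hE hk).1⟩)
  rcases CfsgLib.Fusion.essential_of_card_cube p hS hF hE hk with hel | ⟨-, hx, hexp⟩ | ⟨h2, -⟩
  · have hab : ∀ a b : E, a * b = b * a := hel.1.is_comm.comm
    have hN := CfsgLib.MaxClassEss.card_autInduced_eq hS hF hE hab hk hel.2
    have hs : CfsgLib.MaxClassEss.Setup p n (E.subgroupOf S) :=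
      { pG := hS
        cardG := hn
        n5 := h5
        p5 := hp
        max := fun h => hmax (by
          rw [← Subgroup.top_subtype_lowerCentralSeries,
            show (⊤ : Subgroup S).lowerCentralSeries (n - 2) = ⊥ from h, Subgroup.map_bot])
        cardE := by rw [Nat.card_congr (Subgroup.subgroupOfEquivOfLe hE.1.1).toEquiv, hk]
        expE := fun x hx => Subtype.ext (by simpa using hel.2 x (Subgroup.mem_subgroupOf.1 hx))
        soft := CfsgLib.MaxClassEss.soft_of_conj hS hE.1 hE.2.1 hab hk hN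
          (CfsgLib.Fusion.isConj_refl hE.1.1) }
    exact hs.absurd_system (CfsgLib.MaxClassEss.isSys_autSys hS hE.1 hE.2.1 hab hk hN hF)
      fun L μ hμ => CfsgLib.MaxClassEss.exists_base hS hF hE hab hs L μ hμ
  · refine hnp (Or.inr ⟨hk, hx, ?_⟩)
    refine ((Nat.dvd_prime hp').1 (Monoid.exponent_dvd_of_forall_pow_eq_one
      fun x : E => Subtype.ext (by simpa using hexp x x.2))).resolve_left fun h1 => ?_
    haveI : Subsingleton E := Monoid.exp_eq_one_iff.1 h1
    rw [Nat.card_of_subsingleton (1 : E)] at hk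
    exact absurd hk.symm (Nat.one_lt_pow (by omega) hp'.one_lt).ne'
  · omega

end Cfsg.Agent.S5316
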