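import Cfsg.Statements.S5340
import Cfsg.Agent.Fusion.Invariant

set_option autoImplicit false
open Cfsg Cfsg.FusionSystem CfsgLib.Fusion

namespace Cfsg.Agent.S5340

/-- Let F be a saturated fusion system over a nontrivial finite p-group S such that S is generated by its elements of order p, any two subgroups of S of order p are F-conjugate, and Aut_F(S) consists of inner automorphisms only. Then F is simple. -/
theorem result {Ω : Type*} [Group Ω] {S : Subgroup Ω} [Finite S] (p : ℕ) [Fact p.Prime] (hS : IsPGroup p S) (F : Cfsg.FusionSystem S) (hF : F.IsSaturated p) (hS1 : S ≠ ⊥) (hgen : Subgroup.closure {x : Ω | x ∈ S ∧ orderOf x = p} = S) (htr : ∀ A B : Subgroup Ω, A ≤ S → B ≤ S → Nat.card A = p → Nat.card B = p → F.IsConj A B) (htop : F.autGroup S = Cfsg.Inn ↥S) : F.IsSimple p := by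
  refine isSimple_of_inn p hF hS1 (fun T hT => ?_) htop
  by_cases hT1 : T = ⊥
  · exact Or.inl hT1
  refine Or.inr (le_antisymm hT.1 ?_)
  have := finite_of_le hT.1
  have : Nontrivial T := (Subgroup.nontrivial_iff_ne_bot T).2 hT1
  obtain ⟨k, hk0, hk⟩ := ((isPGroup_of_le hS hT.1)).nontrivial_iff_card.1 inferInstance
  obtain ⟨x, hx⟩ := exists_prime_orderOf_dvd_card' p (G := T) (hk ▸ dvd_pow_self p hk0.ne')
  conv_lhs => rw [← hgen]
  rw [Subgroup.closure_le]
  rintro y ⟨hyS, hy⟩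
  have hxΩ : orderOf (x : Ω) = p := by rw [Subgroup.orderOf_coe]; exact hx
  obtain ⟨φ, hφ, hr⟩ := htr (Subgroup.zpowers (x : Ω)) (Subgroup.zpowers y)
    (Subgroup.zpowers_le.2 (hT.1 x.2)) (Subgroup.zpowers_le.2 hyS)
    (by rw [Nat.card_zpowers, hxΩ]) (by rw [Nat.card_zpowers, hy])
  obtain ⟨u, rfl⟩ := hr.ge (Subgroup.mem_zpowers y)
  exact hT.2 _ (Subgroup.zpowers_le.2 x.2) φ hφ u

end Cfsg.Agent.S5340
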