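import Cfsg.Statements.S5317
import Cfsg.Agent.S0107
import Cfsg.Agent.S5340
import Cfsg.Agent.Fusion.GroupSystem
import Cfsg.Agent.Dickson.SylowTwo
import Cfsg.Agent.Fusion.DihedralAutGroup
import Cfsg.Agent.Classical.PSLTwoSub

set_option autoImplicit false
open Cfsg

namespace Cfsg.Agent.S5317

/-- Let F be a finite field of odd order q with q² ≡ 1 mod 16 (so that a Sylow 2-subgroup of PSL(2,q), dihedral of order the 2-part of (q²−1)/2, has order at least 8). Then the 2-fusion system of PSL(2,F) on a Sylow 2-subgroup is simple: saturated, over a nontrivial 2-group, with no normal subsystem other than the trivial one and itself. -/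
theorem result {F : Type*} [Field F] [Fintype F] (hodd : Fintype.card F % 2 = 1) (h16 : 16 ∣ Fintype.card F ^ 2 - 1)
    (S : Sylow 2 (Matrix.ProjectiveSpecialLinearGroup (Fin 2) F)) :
    (Cfsg.groupFusionSystem (S : Subgroup (Matrix.ProjectiveSpecialLinearGroup (Fin 2) F))).IsSimple 2 := by
  classical
  have := Fact.mk Nat.prime_two
  have hodd' : Odd (Nat.card F) := by
    rw [Nat.card_eq_fintype_card]; exact Nat.odd_iff.2 hodd
  rw [← Nat.card_eq_fintype_card] at h16 hodd
  have hq2 := Finite.one_lt_card (α := F)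
  have hq4 : 4 ≤ Nat.card F := by
    by_contra h
    rw [show Nat.card F = 3 by omega] at h16
    norm_num at h16
  have h8 : 8 ∣ Nat.card F - 1 ∨ 8 ∣ Nat.card F + 1 := by
    rw [CfsgLib.Linear.PSLTwo.sq_sub_one] at h16
    obtain ⟨j, hj⟩ := hodd'
    rw [hj, Nat.add_sub_cancel, show 2 * j * (2 * j + 1 + 1) = 4 * (j * (j + 1)) by ring] at h16
    have h4 : 4 ∣ j * (j + 1) := Nat.dvd_of_mul_dvd_mul_left (k := 4) (by norm_num) h16
    rcases Nat.even_or_odd j with ⟨i, hi⟩ | ⟨i, hi⟩
    · left
      have := (Nat.Coprime.dvd_mul_right (show Nat.Coprime 4 (j + 1) from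
        Nat.Coprime.pow_left 2 (Nat.prime_two.coprime_iff_not_dvd.2 (by omega)))).1 h4
      omega
    · right
      have := (Nat.Coprime.dvd_mul_left (show Nat.Coprime 4 j from
        Nat.Coprime.pow_left 2 (Nat.prime_two.coprime_iff_not_dvd.2 (by omega)))).1 h4
      omega
  obtain ⟨n, hn, ⟨e⟩⟩ := CfsgLib.Dickson.exists_sylow_two_dihedral hodd' h8 S
  have : NeZero (2 ^ n) := ⟨pow_ne_zero _ two_ne_zero⟩
  have hsimple := CfsgLib.Linear.PSLTwo.isSimple (F := F) hq4
  have hres : Cfsg.pResidual 2 (Matrix.ProjectiveSpecialLinearGroup (Fin 2) F) = ⊤ := by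
    have hnorm : (Cfsg.pResidual 2 (Matrix.ProjectiveSpecialLinearGroup (Fin 2) F)).Normal := by
      rw [Cfsg.pResidual, ← Subgroup.normalizer_eq_top_iff, eq_top_iff]
      intro g _
      rw [Subgroup.mem_normalizer_iff]
      have hmap : ∀ g : Matrix.ProjectiveSpecialLinearGroup (Fin 2) F, ∀ z ∈ Subgroup.closure
          {a : Matrix.ProjectiveSpecialLinearGroup (Fin 2) F | Nat.Coprime (orderOf a) 2},
          g * z * g⁻¹ ∈ Subgroup.closure
            {a : Matrix.ProjectiveSpecialLinearGroup (Fin 2) F | Nat.Coprime (orderOf a) 2} := by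
        intro g z hz
        induction hz using Subgroup.closure_induction with
        | mem a ha =>
          refine Subgroup.subset_closure ?_
          show Nat.Coprime (orderOf (g * a * g⁻¹)) 2
          rw [← MulAut.conj_apply, MulEquiv.orderOf_eq]
          exact ha
        | one => simp
        | mul a b _ _ iha ihb => rw [conj_mul.symm]; exact mul_mem iha ihb
        | inv a _ iha => rw [← conj_inv]; exact inv_mem iha
      intro z
      refine ⟨hmap g z, fun h => ?_⟩
      have h' := hmap g⁻¹ _ h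
      rwa [show g⁻¹ * (g * z * g⁻¹) * g⁻¹⁻¹ = z by group] at h'
    obtain ⟨p, hpF⟩ := CharP.exists F
    obtain ⟨e', hp, hpe⟩ := FiniteField.card F p
    have := Fact.mk hp
    obtain ⟨g, hg⟩ := CfsgLib.PSL2Spec.exists_orderOf_p (F := F) (p := p)
    refine (hsimple.eq_bot_or_eq_top_of_normal _ hnorm).resolve_left fun hbot => ?_
    have hgm : g ∈ Cfsg.pResidual 2 (Matrix.ProjectiveSpecialLinearGroup (Fin 2) F) := by
      refine Subgroup.subset_closure ?_
      show Nat.Coprime (orderOf g) 2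
      rw [hg]
      refine (Nat.coprime_primes hp Nat.prime_two).2 ?_
      rintro rfl
      rw [Nat.card_eq_fintype_card, hpe] at hodd'
      exact Nat.not_even_iff_odd.2 hodd' ((Nat.even_pow' e'.pos.ne').2 even_two)
    rw [hbot, Subgroup.mem_bot] at hgm
    rw [hgm, orderOf_one] at hg
    exact hp.one_lt.ne hg
  have hconj := Cfsg.Agent.S0107.result S n hn ⟨e⟩ hres
  have hgen : Subgroup.closure {x : Matrix.ProjectiveSpecialLinearGroup (Fin 2) F |
      x ∈ (S : Subgroup (Matrix.ProjectiveSpecialLinearGroup (Fin 2) F)) ∧ orderOf x = 2} =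
      (S : Subgroup (Matrix.ProjectiveSpecialLinearGroup (Fin 2) F)) := by
    refine le_antisymm ((Subgroup.closure_le _).2 fun x hx => hx.1) fun x hx => ?_
    have hsr : ∀ i, ((e.symm (DihedralGroup.sr i) :
        (S : Subgroup (Matrix.ProjectiveSpecialLinearGroup (Fin 2) F))) :
          Matrix.ProjectiveSpecialLinearGroup (Fin 2) F) ∈ Subgroup.closure
        {x : Matrix.ProjectiveSpecialLinearGroup (Fin 2) F |
          x ∈ (S : Subgroup (Matrix.ProjectiveSpecialLinearGroup (Fin 2) F)) ∧ orderOf x = 2} := by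
      intro i
      refine Subgroup.subset_closure ⟨Subtype.prop _, ?_⟩
      rw [Subgroup.orderOf_coe, MulEquiv.orderOf_eq, DihedralGroup.orderOf_sr]
    rcases hi : e ⟨x, hx⟩ with i | i
    · have : (⟨x, hx⟩ : (S : Subgroup (Matrix.ProjectiveSpecialLinearGroup (Fin 2) F))) =
          e.symm (.sr 0) * e.symm (.sr i) := by
        rw [← map_mul, DihedralGroup.sr_mul_sr, sub_zero, ← hi, e.symm_apply_apply]
      rw [show x = _ from congrArg Subtype.val this, Subgroup.coe_mul]
      exact mul_mem (hsr 0) (hsr i)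
    · have : (⟨x, hx⟩ : (S : Subgroup (Matrix.ProjectiveSpecialLinearGroup (Fin 2) F))) =
          e.symm (.sr i) := by rw [← hi, e.symm_apply_apply]
      rw [show x = _ from congrArg Subtype.val this]
      exact hsr i
  have hne : (S : Subgroup (Matrix.ProjectiveSpecialLinearGroup (Fin 2) F)) ≠ ⊥ := fun h => by
    have h1 := Nat.card_congr e.toEquiv
    rw [h, Subgroup.card_bot, DihedralGroup.nat_card] at h1
    omega
  have hsat := CfsgLib.Fusion.groupFusion_saturated S
  refine Cfsg.Agent.S5340.result 2 S.isPGroup' _ hsat hne hgen (fun A B hA hB hAc hBc => ?_)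
    (CfsgLib.Fusion.autGroup_eq_inn 2 S.isPGroup'
      (CfsgLib.Fusion.isPGroup_mulAut_dihedral hn e) _ hsat)
  have cyc : ∀ A : Subgroup (Matrix.ProjectiveSpecialLinearGroup (Fin 2) F), Nat.card A = 2 →
      ∃ a, orderOf a = 2 ∧ A = Subgroup.zpowers a := by
    intro A hA
    obtain ⟨a, ha⟩ := exists_prime_orderOf_dvd_card' 2 (G := A) (dvd_of_eq hA.symm)
    refine ⟨a, by rw [Subgroup.orderOf_coe, ha], (Subgroup.eq_of_le_of_card_ge
      (Subgroup.zpowers_le.2 a.2) ?_).symm⟩
    rw [Nat.card_zpowers, Subgroup.orderOf_coe, ha, hA]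
  obtain ⟨a, ha, rfl⟩ := cyc A hAc
  obtain ⟨b, hb, rfl⟩ := cyc B hBc
  obtain ⟨g, hg⟩ := hconj a b ha hb
  refine ⟨(MulAut.conj g).toMonoidHom.comp (Subgroup.zpowers a).subtype,
    ⟨hA, fun x => ?_, g, fun x => rfl⟩, ?_⟩
  · obtain ⟨i, hi⟩ := x.2
    show g * (x : Matrix.ProjectiveSpecialLinearGroup (Fin 2) F) * g⁻¹ ∈ _
    rw [← hi, ← conj_zpow, hg]
    exact hB (zpow_mem (Subgroup.mem_zpowers b) i)
  · rw [MonoidHom.range_comp, Subgroup.range_subtype, MonoidHom.map_zpowers]
    congr 1

end Cfsg.Agent.S5317
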