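import Cfsg.Statements.S5320
import Cfsg.Agent.Classical.PSpFourAut
-- import your own Cfsg.Agent.* helpers here

set_option autoImplicit false
open Cfsg

namespace Cfsg.Agent.S5320

/-- For a finite field F of odd order, the 2-fusion system of the projective symplectic group PSp(4,F) on a Sylow 2-subgroup is simple. -/
theorem result {F : Type*} [Field F] [Fintype F] (hodd : Fintype.card F % 2 = 1) (S : Sylow 2 (Cfsg.PSp 2 F)) :
    (Cfsg.groupFusionSystem (S : Subgroup (Cfsg.PSp 2 F))).IsSimple 2 := by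
  have ho : Odd (Fintype.card F) := Nat.odd_iff.2 hodd
  haveI : Fact (Nat.Prime 2) := ⟨Nat.prime_two⟩
  obtain ⟨D⟩ := CfsgLib.SpFour.exists_qdata ho
  set q := Fintype.card F with hq
  have hq3 : 2 ≤ q := Fintype.one_lt_card
  have hSL : Nat.card (CfsgLib.SL2C.SL F) = q * (q * q - 1) := by
    have h := CfsgLib.Linear.card_SL_mul (F := F) hq.symm 2 (by norm_num)
    simp only [Fin.prod_univ_two, Fin.val_zero, Fin.val_one, pow_zero, pow_one, sq] at h
    have e : q * q - q = q * (q - 1) := by rw [Nat.mul_sub, mul_one]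
    rw [e] at h
    exact Nat.eq_of_mul_eq_mul_left (by omega : 0 < q - 1) (h.trans (by ring))
  have hSp : Nat.card (Matrix.symplecticGroup (Fin 2) F) =
      Nat.card (CfsgLib.SL2C.SL F) * Nat.card (CfsgLib.SL2C.SL F) * (q * q * (q * q + 1)) := by
    rw [CfsgLib.Symp.card_Sp, Finset.prod_range_succ, Finset.prod_range_one, hSL, Nat.card_eq_fintype_card, ← hq]
    have e : q ^ (2 * (1 + 1)) - 1 = (q * q - 1) * (q * q + 1) := by
      rw [show q ^ (2 * (1 + 1)) = (q * q) ^ 2 by ring, mul_comm (q * q - 1), ← Nat.sq_sub_sq, one_pow]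
    rw [e]; ring_nf
  have hP : Nat.card (D.P : Subgroup (CfsgLib.SL2C.SL F)) = 2 ^ (Nat.card (CfsgLib.SL2C.SL F)).factorization 2 :=
    Sylow.card_eq_multiplicity D.P
  have hsq : (q * q * (q * q + 1)).factorization 2 = 1 := by
    have ho2 : Odd (q * q) := ho.mul ho
    have hm : (q * q + 1) % 4 = 2 := by
      obtain ⟨r, hr⟩ := ho
      rw [hr, show (2 * r + 1) * (2 * r + 1) + 1 = 4 * (r * r + r) + 2 by ring]
      omega
    rw [Nat.factorization_mul ho2.pos.ne' (Nat.succ_ne_zero _), Finsupp.add_apply,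
      CfsgLib.Linear.TwoSylow.fact_two_of_odd ho2, CfsgLib.Linear.TwoSylow.fact_two_of_mod hm]
  have hS0 : Nat.card (CfsgLib.SpFour.S0 D) =
      2 ^ (Nat.card (Matrix.symplecticGroup (Fin 2) F)).factorization 2 := by
    have hpos : Nat.card (CfsgLib.SL2C.SL F) ≠ 0 := Nat.card_pos.ne'
    have hpos2 : q * q * (q * q + 1) ≠ 0 := by positivity
    rw [CfsgLib.SpFour.card_S0 D ho, hP, hSp, Nat.factorization_mul (mul_ne_zero hpos hpos) hpos2,
      Nat.factorization_mul hpos hpos, Finsupp.add_apply, Finsupp.add_apply, hsq, pow_succ, pow_add]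
    ring
  let T : Sylow 2 (Matrix.symplecticGroup (Fin 2) F) := Sylow.ofCard (CfsgLib.SpFour.S0 D) hS0
  let π : Matrix.symplecticGroup (Fin 2) F →* Cfsg.PSp 2 F := QuotientGroup.mk' _
  have hπ : Function.Surjective π := QuotientGroup.mk'_surjective _
  obtain ⟨g, hg⟩ := MulAction.exists_smul_eq (Cfsg.PSp 2 F) (T.mapSurjective hπ) S
  let ψ := (MulAut.conj g).toMonoidHom.comp π
  refine CfsgLib.SpFour.isSimple_image D ho ψ (fun x => ?_) (S := S) ?_ ?_
  · rw [show ψ x = MulAut.conj g (π x) from rfl, map_eq_one_iff _ (MulAut.conj g).injective]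
    exact (QuotientGroup.eq_one_iff x).trans CfsgLib.Symp.mem_center_iff
  · rw [← hg]
    show ((CfsgLib.SpFour.S0 D).map π).map (MulAut.conj g).toMonoidHom = _
    rw [Subgroup.map_map]
  · exact (MulAut.conj g).surjective.comp hπ

end Cfsg.Agent.S5320
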