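import Cfsg.Statements.S5330
import Cfsg.Agent.Fusion.Transfer
import Cfsg.Agent.Fusion.NormalCriteria

set_option autoImplicit false
open Cfsg Cfsg.FusionSystem CfsgLib.Fusion

namespace Cfsg.Agent.S5330

/-- Let F be a saturated fusion system over a finite abelian p-group S. Then S is the internal direct product of the centre of the system and the focal subgroup: Z(F) ∩ foc(F) = 1 and Z(F)·foc(F) = S. -/
theorem result {Ω : Type*} [Group Ω] {S : Subgroup Ω} [Finite S] (p : ℕ) [Fact p.Prime] (hS : IsPGroup p S) (F : Cfsg.FusionSystem S) (hF : F.IsSaturated p) (hab : ∀ x ∈ S, ∀ y ∈ S, x * y = y * x) : F.center ⊓ F.focalSubgroup = ⊥ ∧ F.center ⊔ F.focalSubgroup = S := by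
  refine ⟨eq_bot_iff.2 ?_, le_antisymm (sup_le center_le_S ?_) fun x hx => ?_⟩
  · rw [inf_comm]
    refine (focal_inf_center_le p hS hF).trans ?_
    rw [Subgroup.commutator_le]
    intro a ha b hb
    exact Subgroup.mem_bot.2 (commutatorElement_eq_one_iff_mul_comm.2 (hab a ha b hb))
  · refine (Subgroup.closure_le _).2 ?_
    rintro _ ⟨P, φ, y, hφ, rfl⟩
    exact mul_mem (inv_mem (le_of_mem_hom hφ y.2)) (apply_mem_S hφ y)
  letI : CommGroup S := { (inferInstance : Group S) with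
    mul_comm := fun a b => Subtype.ext (hab a a.2 b b.2) }
  have hC : ∀ P : Subgroup Ω, P ≤ S → centralizerIn S P = S := fun P hP =>
    le_antisymm (centralizerIn_le_S P) fun s hs =>
      mem_centralizerIn.2 ⟨hs, fun y hy => hab y (hP hy) s hs⟩
  have hext : ∀ (P : Subgroup Ω) (φ : P →* Ω) (hφ : φ ∈ F.Hom P),
      ∃ α ∈ F.autGroup S, ∀ y : P, ((α ⟨y, le_of_mem_hom hφ y.2⟩ : S) : Ω) = φ y := by
    intro P φ hφ
    have hc : F.IsFullyCentralized φ.range := ⟨range_le_S hφ, fun Q hQ => by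
      rw [hC Q (IsConj.le_right hQ), hC _ (range_le_S hφ)]⟩
    obtain ⟨ψ, hψ, he⟩ := saturated_extend p hS hF hφ hc (N := S)
      ((hC P (le_of_mem_hom hφ)).ge.trans (centralizerIn_le_extender P φ))
    have hr : ψ.range = S := eq_of_le_of_card_le le_rfl (range_le_S hψ) (card_range hψ).ge
    exact ⟨autOfRange ψ (F.injective_of_mem hψ) hr, autOfRange_mem hψ hr, fun y => he y y.2 _⟩
  have : Finite (MulAut S) := finite_mulAut
  have hSn : F.IsFullyNormalized S := ⟨le_rfl, fun Q hQ => by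
    rw [show Q = S from eq_of_le_of_card_le le_rfl (IsConj.le_right hQ) (IsConj.card_eq hQ).ge]⟩
  obtain ⟨⟨-, R, hR⟩, -⟩ := good_of_fullyNormalized p hS hF hSn
  have hR1 : (R : Subgroup (F.autGroup S)) = ⊥ := by
    rw [hR, eq_bot_iff]
    rintro ⟨α, hα⟩ ha
    obtain ⟨g, hg, hga⟩ := mem_autInducedBy.1 (Subgroup.mem_subgroupOf.1 ha)
    refine Subgroup.mem_bot.2 (Subtype.ext (MulEquiv.ext fun y => Subtype.ext ?_))
    show ((α y : S) : Ω) = y
    rw [hga y, hab g hg y y.2, mul_inv_cancel_right]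
  have hcop : ¬ p ∣ Nat.card (F.autGroup S) := by
    have h1 := R.not_dvd_index
    rwa [hR1, Subgroup.index_bot] at h1
  have : Fintype (F.autGroup S) := Fintype.ofFinite _
  let N : S := ∏ α : F.autGroup S, (α : MulAut S) ⟨x, hx⟩
  have hfix : ∀ β : F.autGroup S, (β : MulAut S) N = N := by
    intro β
    show (β : MulAut S) (∏ α : F.autGroup S, (α : MulAut S) ⟨x, hx⟩) = _
    rw [map_prod]
    exact Fintype.prod_equiv (Equiv.mulLeft β) _ _ fun α => rfl
  have hNc : (N : Ω) ∈ F.center := by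
    refine le_center (isCentral_of_fixed p hS hF (Subgroup.zpowers_le.2 N.2) ?_)
      (Subgroup.mem_zpowers _)
    rintro y hy z ⟨φ, hφ, rfl⟩
    obtain ⟨α, hα, he⟩ := hext _ φ hφ
    obtain ⟨k, rfl⟩ := Subgroup.mem_zpowers_iff.1 hy
    rw [← he ⟨_, Subgroup.mem_zpowers _⟩]
    refine congrArg Subtype.val (?_ : α _ = N ^ k)
    rw [show (⟨(N : Ω) ^ k, _⟩ : S) = N ^ k from Subtype.ext (by simp), map_zpow]
    exact congrArg (· ^ k) (hfix ⟨α, hα⟩)
  have hdiff : ∀ α : F.autGroup S, ((⟨x, hx⟩ : S)⁻¹ * (α : MulAut S) ⟨x, hx⟩) ∈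
      F.focalSubgroup.subgroupOf S := fun α => Subgroup.mem_subgroupOf.2
    (Subgroup.subset_closure ⟨S, _, ⟨x, hx⟩, (autGroup_carrier le_rfl).1 α.2, rfl⟩)
  have hpow : ((⟨x, hx⟩ : S) ^ Nat.card (F.autGroup S)) ∈
      (F.center ⊔ F.focalSubgroup).subgroupOf S := by
    have h1 : (⟨x, hx⟩ : S)⁻¹ ^ Nat.card (F.autGroup S) * N ∈ F.focalSubgroup.subgroupOf S := by
      rw [Nat.card_eq_fintype_card, ← Finset.card_univ, ← Finset.prod_const, ← Finset.prod_mul_distrib]
      exact Subgroup.prod_mem _ fun α _ => hdiff α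
    have h2 : N * ((⟨x, hx⟩ : S)⁻¹ ^ Nat.card (F.autGroup S) * N)⁻¹ ∈
        (F.center ⊔ F.focalSubgroup).subgroupOf S :=
      mul_mem (Subgroup.mem_subgroupOf.2 (Subgroup.mem_sup_left hNc))
        (Subgroup.mem_subgroupOf.2 (Subgroup.mem_sup_right (Subgroup.mem_subgroupOf.1 (inv_mem h1))))
    simpa [mul_comm] using h2
  obtain ⟨k, hk⟩ := hS ⟨x, hx⟩
  have hc1 : Nat.Coprime (Nat.card (F.autGroup S)) (orderOf (⟨x, hx⟩ : S)) :=
    (Nat.Coprime.pow_right k ((Nat.Prime.coprime_iff_not_dvd Fact.out).2 hcop).symm).coprime_dvd_right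
      (orderOf_dvd_of_pow_eq_one hk)
  obtain ⟨m, hm⟩ := exists_pow_eq_self_of_coprime hc1
  have h2 := pow_mem hpow m
  rw [hm] at h2
  exact Subgroup.mem_subgroupOf.1 h2

end Cfsg.Agent.S5330
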