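import Cfsg.Statements.S5332
import Cfsg.Agent.Fusion.InnerAut

set_option autoImplicit false
open Cfsg Cfsg.FusionSystem CfsgLib.Fusion

namespace Cfsg.Agent.S5332

/-- Let p be odd and F a saturated fusion system over a finite p-group S that is not the inner system of S. Then F contains a saturated constrained subsystem over S that is itself not the inner system. -/
theorem result {Ω : Type*} [Group Ω] {S : Subgroup Ω} [Finite S] (p : ℕ) [Fact p.Prime] (hS : IsPGroup p S) (F : Cfsg.FusionSystem S) (hF : F.IsSaturated p) (hp : p ≠ 2) (hne : ∃ P : Subgroup Ω, F.Hom P ≠ (Cfsg.innerFusionSystem S).Hom P) : ∃ E : Cfsg.FusionSystem S, E ≤ F ∧ E.IsConstrained p ∧ ∃ P : Subgroup Ω, E.Hom P ≠ (Cfsg.innerFusionSystem S).Hom P := by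
  by_contra hcon
  push Not at hcon
  obtain ⟨P₀, hP₀⟩ := hne
  refine hP₀ (isInner_iff.1 ?_ P₀)
  by_cases hS1 : S = ⊥
  · intro P φ hφ
    refine ⟨1, one_mem _, fun x => ?_⟩
    have h1 : φ x = 1 := Subgroup.mem_bot.1 (hS1 ▸ apply_mem_S hφ x)
    have h2 : (x : Ω) = 1 := Subgroup.mem_bot.1 (hS1 ▸ le_of_mem_hom hφ x.2)
    rw [h1, h2]; group
  refine isInner_of_centerThompson p hp hS hF ?_
  refine innerAt_normal p (criterionZJ p hp) (fun S' E h1 h2 _ => isInner_of_criterion p _ _ S' E h1 h2 rfl)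
    hS hF trivial (fun Q hQ hQn hc => ?_) _ _ rfl isCharIn_centerThompsonAOf.1
    (centerThompsonAOf_ne_bot hS hS1) isCharIn_centerThompsonAOf.le_normalizer
  obtain ⟨E, hE, hEs, -, hEn, hEF, hEc⟩ :=
    exists_normSystem_eq p hS hF (fun {_} _ => True) hQ hQn fun _ _ => trivial
  intro P φ hφ
  obtain ⟨g, hg, hgx⟩ :=
    isInner_iff.2 (hcon E hEF ⟨hEs, Q, hEn, hEc hc⟩) P φ (hE P ▸ hφ)
  exact ⟨g, ⟨hg, hQn hg⟩, hgx⟩

end Cfsg.Agent.S5332
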