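import Cfsg.Statements.S5333
import Cfsg.Agent.Fusion.Local

set_option autoImplicit false
open Cfsg Cfsg.FusionSystem CfsgLib.Fusion

namespace Cfsg.Agent.S5333

/-- Let F′ ≤ F be saturated fusion systems over the same finite p-group S. Suppose that for every subgroup Z ≤ S of order p that is fully centralized in F′, the maps of F and of F′ with source Z coincide and the centralizer systems C_F(Z) and C_{F′}(Z) coincide. Then F = F′. -/
theorem result {Ω : Type*} [Group Ω] {S : Subgroup Ω} [Finite S] (p : ℕ) [Fact p.Prime] (hS : IsPGroup p S) (F : Cfsg.FusionSystem S) (hF : F.IsSaturated p) (F' : Cfsg.FusionSystem S) (hF' : F'.IsSaturated p) (hle : F' ≤ F) (hZ : ∀ Z : Subgroup Ω, Z ≤ S → Nat.card Z = p → F'.IsFullyCentralized Z → F.Hom Z = F'.Hom Z ∧ ∀ (C C' : Cfsg.FusionSystem (Cfsg.FusionSystem.centralizerIn S Z)), F.IsCentralizerSystem Z C → F'.IsCentralizerSystem Z C' →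 ∀ P : Subgroup Ω, C.Hom P = C'.Hom P) (P : Subgroup Ω) : F.Hom P = F'.Hom P := by
  refine Set.Subset.antisymm (fun φ hφ => ?_) (hle P)
  have hp := (Fact.out : p.Prime)
  have hPS := le_of_mem_hom hφ
  have := finite_of_le hPS
  by_cases hP1 : P = ⊥
  · subst hP1
    refine conj_mem_of_eq hPS (one_mem S) fun x => ?_
    rw [show x = 1 from Subtype.ext (Subgroup.mem_bot.1 x.2), map_one]; simp
  have : Nontrivial P := (Subgroup.nontrivial_iff_ne_bot _).2 hP1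
  have := (isPGroup_of_le hS hPS).center_nontrivial
  obtain ⟨k, hk0, hk⟩ := ((isPGroup_of_le hS hPS).to_subgroup (Subgroup.center P)).nontrivial_iff_card.1 this
  obtain ⟨zc, hzc⟩ := exists_prime_orderOf_dvd_card' (G := Subgroup.center P) p (hk ▸ dvd_pow_self p hk0.ne')
  obtain ⟨z, hz⟩ : ∃ z : Ω, ((zc : P) : Ω) = z := ⟨_, rfl⟩
  have hzo : orderOf z = p := by rw [← hz, Subgroup.orderOf_coe, Subgroup.orderOf_coe, hzc]
  set Z := Subgroup.zpowers z with hZdef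
  have hzP : z ∈ P := hz ▸ (zc : P).2
  have hZP : Z ≤ P := Subgroup.zpowers_le.2 hzP
  have hPC : P ≤ centralizerIn S Z := fun g hg => ⟨hPS hg, Subgroup.mem_centralizer_iff.2 fun d hd => by
    obtain ⟨i, rfl⟩ := Subgroup.mem_zpowers_iff.1 hd
    have h := congrArg Subtype.val (Subgroup.mem_center_iff.1 zc.2 ⟨g, hg⟩)
    simp only [Subgroup.coe_mul, hz] at h
    exact ((show Commute g z from h).zpow_right i).symm.eq⟩
  have hcardZ : Nat.card Z = p := by rw [hZdef, Nat.card_zpowers, hzo]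
  -- on a subgroup of order `p` the maps agree
  have hZmem : ∀ (A : Subgroup Ω) (ψ : A →* Ω), Nat.card A = p → ψ ∈ F.Hom A → ψ ∈ F'.Hom A := by
    intro A ψ hA hψ
    obtain ⟨A1, hA1, hA1c⟩ := exists_fullyCentralized F' (le_of_mem_hom hψ)
    obtain ⟨u, hu, hur⟩ := hA1
    have hcA1 : Nat.card A1 = p := by rw [← hur, card_range hu, hA]
    obtain ⟨w, hw, hwr, hw1, -⟩ := exists_inv hu hur
    have hwA : ∀ y, w y ∈ A := fun y => hwr.le ⟨y, rfl⟩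
    have hm : ψ.comp (w.codRestrict A hwA) ∈ F'.Hom A1 := by
      rw [← (hZ A1 hA1c.1 hcA1 hA1c).1]
      exact F.comp_mem (hle _ hw) hψ hwA
    refine comp_mem_of_eq hu hm (fun x => hur.le ⟨x, rfl⟩) fun x => ?_
    exact apply_congr ψ (hw1 x _).symm
  obtain ⟨φZ, hφZdef⟩ : ∃ f : Z →* Ω, φ.comp (Subgroup.inclusion hZP) = f := ⟨_, rfl⟩
  have hφZ : φZ ∈ F'.Hom Z := hZmem Z φZ hcardZ (hφZdef ▸ restrict_mem hφ hZP)
  obtain ⟨Z1, hZ1, hZ1c⟩ := exists_fullyCentralized F' (range_le_S hφZ)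
  obtain ⟨v0, hv0, hv0r⟩ := hZ1
  have hmap : ∀ x, φZ x ∈ φZ.range := fun x => ⟨x, rfl⟩
  have hu0 : v0.comp (φZ.codRestrict _ hmap) ∈ F'.Hom Z := F'.comp_mem hφZ hv0 hmap
  have hu0r : (v0.comp (φZ.codRestrict _ hmap)).range = Z1 := by
    refine le_antisymm ?_ ?_
    · rintro _ ⟨x, rfl⟩; exact hv0r.le ⟨_, rfl⟩
    · intro y hy
      obtain ⟨⟨_, x, rfl⟩, rfl⟩ := hv0r.ge hy
      exact ⟨x, rfl⟩
  have hcZ1 : Nat.card Z1 = p := by rw [← hu0r, card_range hu0, hcardZ]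
  obtain ⟨v, hv, hve⟩ := saturated_extend p hS hF' hv0 (hv0r.symm ▸ hZ1c) (centralizerIn_le_extender φZ.range v0)
  obtain ⟨u, hu, hue⟩ := saturated_extend p hS hF' hu0 (hu0r.symm ▸ hZ1c) (centralizerIn_le_extender Z _)
  have huP := restrict_mem hu hPC
  obtain ⟨P1, hP1r⟩ : ∃ P1, (u.comp (Subgroup.inclusion hPC)).range = P1 := ⟨_, rfl⟩
  obtain ⟨w, hw, hwr, hw1, -⟩ := exists_inv huP hP1r
  have hwP : ∀ y, w y ∈ P := fun y => hwr.le ⟨y, rfl⟩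
  have hφC : ∀ x : P, φ x ∈ centralizerIn S φZ.range := fun x => ⟨apply_mem_S hφ x, Subgroup.mem_centralizer_iff.2 (by
    rintro _ ⟨d, rfl⟩
    rw [← hφZdef]
    show φ ⟨d, hZP d.2⟩ * φ x = φ x * φ ⟨d, hZP d.2⟩
    rw [← map_mul, ← map_mul]
    exact apply_congr φ (Subgroup.mem_centralizer_iff.1 (hPC x.2).2 d d.2))⟩
  have hχ0 := F.comp_mem (hle _ hw) hφ hwP
  have hmem : ∀ y, (φ.comp (w.codRestrict P hwP)) y ∈ centralizerIn S φZ.range := fun y => hφC _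
  have hχ := F.comp_mem hχ0 (hle _ hv) hmem
  set χ := v.comp ((φ.comp (w.codRestrict P hwP)).codRestrict _ hmem) with hχdef
  have hval : ∀ (x : P) (hx : u ⟨x, hPC x.2⟩ ∈ P1), χ ⟨u ⟨x, hPC x.2⟩, hx⟩ = v ⟨φ x, hφC x⟩ := by
    intro x hx
    exact apply_congr v (apply_congr φ (hw1 x hx))
  have huz : ∀ (x : Z), u ⟨x, hPC (hZP x.2)⟩ = v0 ⟨φZ x, hmap x⟩ := fun x => hue x x.2 _
  have hZ1P1 : Z1 ≤ P1 := by
    intro y hy
    obtain ⟨x, rfl⟩ := hu0r.ge hy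
    refine hP1r.le ⟨⟨x, hZP x.2⟩, ?_⟩
    exact huz x
  have hfix : ∀ y : Z1, χ ⟨y, hZ1P1 y.2⟩ = y := by
    rintro ⟨y, hy⟩
    obtain ⟨x, rfl⟩ := hu0r.ge hy
    rw [apply_congr χ (y := ⟨u ⟨x, hPC (hZP x.2)⟩, hP1r.le ⟨⟨x, hZP x.2⟩, rfl⟩⟩) (huz x).symm,
      hval ⟨x, hZP x.2⟩]
    show v ⟨φ ⟨x, hZP x.2⟩, _⟩ = v0 ⟨φZ x, hmap x⟩
    have e : φ ⟨x, hZP x.2⟩ = φZ x := by rw [← hφZdef]; rfl
    exact (apply_congr v e).trans (hve (φZ x) (hmap x) (e ▸ hφC ⟨x, hZP x.2⟩))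
  have hP1S : P1 ≤ S := hP1r.ge.trans (range_le_S huP)
  have hC : ∀ (A : Subgroup Ω) (f : A →* Ω), (hle' : Z1 ≤ A) → f ∈ F.Hom A → (∀ y : Z1, f ⟨y, hle' y.2⟩ = y) →
      IsMulCommutative Z1 → (∀ a ∈ A, ∀ y ∈ Z1, a * y = y * a) → f ∈ F'.Hom A := by
    intro A f hle' hf hf1 _ hAc
    have hAS := le_of_mem_hom hf
    have h := (hZ Z1 hZ1c.1 hcZ1 hZ1c).2 (centSystem F Z1 hZ1c.1) (centSystem F' Z1 hZ1c.1)
      (centSystem_spec F Z1 hZ1c.1) (centSystem_spec F' Z1 hZ1c.1) A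
    rw [centSystem_spec F Z1 hZ1c.1 A, centSystem_spec F' Z1 hZ1c.1 A] at h
    have hsub : A ⊔ Z1 ≤ A := sup_le le_rfl hle'
    have : f ∈ F.centralizerHom Z1 A := by
      refine ⟨hf, fun a ha => ⟨hAS ha, Subgroup.mem_centralizer_iff.2 fun y hy => (hAc a ha y hy).symm⟩,
        fun a => ⟨apply_mem_S hf a, Subgroup.mem_centralizer_iff.2 fun y hy => ?_⟩,
        f.comp (Subgroup.inclusion hsub), restrict_mem hf hsub, fun a => rfl, fun y => hf1 y⟩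
      rw [show y = f ⟨y, hle' hy⟩ from (hf1 ⟨y, hy⟩).symm, ← map_mul, ← map_mul]
      exact apply_congr f (hAc a a.2 y hy).symm
    rw [h] at this
    exact this.1
  have hZ1ab : IsMulCommutative Z1 := by
    have : IsCyclic Z1 := isCyclic_of_prime_card hcZ1
    infer_instance
  have hχ' : χ ∈ F'.Hom P1 := by
    refine hC P1 χ hZ1P1 hχ hfix hZ1ab fun a ha y hy => ?_
    obtain ⟨x, rfl⟩ := hP1r.ge ha
    obtain ⟨d, rfl⟩ := hu0r.ge hy
    show u ⟨x, hPC x.2⟩ * v0 ⟨φZ d, hmap d⟩ = v0 ⟨φZ d, hmap d⟩ * u ⟨x, hPC x.2⟩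
    rw [← huz, ← map_mul, ← map_mul]
    exact apply_congr u (Subgroup.mem_centralizer_iff.1 (hPC x.2).2 d d.2).symm
  obtain ⟨v', hv', -, hv'1, -⟩ := exists_inv hv rfl
  refine comp_mem_of_eq (F'.comp_mem huP hχ' fun x => hP1r.le ⟨x, rfl⟩) hv' (fun x => ⟨_, rfl⟩) fun x => ?_
  refine ((apply_congr v' ?_).trans (hv'1 ⟨φ x, hφC x⟩ ⟨_, rfl⟩)).symm
  exact hval x _

end Cfsg.Agent.S5333
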