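import Cfsg.Statements.S5334
import Cfsg.Agent.Fusion.Invariant

set_option autoImplicit false
open Cfsg Cfsg.FusionSystem CfsgLib.Fusion

namespace Cfsg.Agent.S5334

/-- Let F′ ≤ F be saturated fusion systems over the same finite p-group S, let Q and R be F-centric subgroups, φ a map of F with source Q and values in R, and ψ a map of F with source R. If two of φ, ψ and the composite ψ ∘ φ are maps of F′ then so is the third. -/
theorem result {Ω : Type*} [Group Ω] {S : Subgroup Ω} [Finite S] (p : ℕ) [Fact p.Prime] (hS : IsPGroup p S) (F : Cfsg.FusionSystem S) (hF : F.IsSaturated p) (F' : Cfsg.FusionSystem S) (hF' : F'.IsSaturated p) (hle : F' ≤ F) (Q R : Subgroup Ω) (hQ : F.IsCentric Q) (hR : F.IsCentric R) (φ : ↥Q →* Ω) (hφ : φ ∈ F.Hom Q) (hφR : ∀ x : Q, φ x ∈ R) (ψ : ↥R →* Ω) (hψ : ψ ∈ F.Hom R) : (φ ∈ F'.Hom Q → ψ ∈ F'.Hom R → ψ.comp (φ.codRestrict R hφR) ∈ F'.Hom Q) ∧ (ψ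 ∈ F'.Hom R → ψ.comp (φ.codRestrict R hφR) ∈ F'.Hom Q → φ ∈ F'.Hom Q) ∧ (φ ∈ F'.Hom Q → ψ.comp (φ.codRestrict R hφR) ∈ F'.Hom Q → ψ ∈ F'.Hom R) := by
  have hsub : F'.IsSubsystemOf F := hle
  refine ⟨fun h₁ h₂ => F'.comp_mem h₁ h₂ hφR, fun h₁ h₂ => ?_, fun h₁ h₂ => ?_⟩
  · obtain ⟨ν, hν, -, hν1, -⟩ := exists_inv h₁ (Q := ψ.range) rfl
    refine comp_mem_of_eq h₂ hν (fun x => ⟨φ.codRestrict R hφR x, rfl⟩) fun x => ?_
    exact (hν1 (φ.codRestrict R hφR x) _).symm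
  · obtain ⟨ν, hν, hνr, -, hν2⟩ := exists_inv h₁ (Q := φ.range) rfl
    have hφle : φ.range ≤ R := by
      rintro _ ⟨x, rfl⟩
      exact hφR x
    refine mem_of_restrict_centric p hS hF hF' hsub hψ hφle
      (isCentric_of_isConj hQ ⟨φ, hφ, rfl⟩) ?_
    refine comp_mem_of_eq hν h₂ (fun y => hνr.le ⟨y, rfl⟩) fun y => ?_
    exact apply_congr ψ (hν2 y (hνr.le ⟨y, rfl⟩)).symm

end Cfsg.Agent.S5334
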