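import Cfsg.Statements.S5335
import Cfsg.Agent.Fusion.Alperin
import Cfsg.Agent.Fusion.Invariant
import Cfsg.Agent.Solvable.PGroupBasic

set_option autoImplicit false
open Cfsg Cfsg.FusionSystem CfsgLib.Fusion

namespace Cfsg.Agent.S5335

/-- Let F′ ≤ F be saturated fusion systems over the same finite p-group S. If the maps of F and of F′ with source Q coincide for every F-centric subgroup Q that is minimal among F-centric subgroups, then F = F′. -/
theorem result {Ω : Type*} [Group Ω] {S : Subgroup Ω} [Finite S] (p : ℕ) [Fact p.Prime] (hS : IsPGroup p S) (F : Cfsg.FusionSystem S) (hF : F.IsSaturated p) (F' : Cfsg.FusionSystem S) (hF' : F'.IsSaturated p) (hle : F' ≤ F) (hmin : ∀ Q : Subgroup Ω, F.IsCentric Q → (∀ R : Subgroup Ω, R < Q → ¬ F.IsCentric R) → F.Hom Q = F'.Hom Q) (P : Subgroup Ω) : F.Hom P = F'.Hom P := by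
  have key : ∀ (n : ℕ) (P : Subgroup Ω), Nat.card P ≤ n → F.IsCentric P → F.Hom P ⊆ F'.Hom P := by
    intro n
    induction n with
    | zero =>
      intro P hn hc
      have := finite_of_le hc.1
      have := Nat.card_pos (α := P)
      omega
    | succ n IH =>
      intro P hn hc φ hφ
      have := finite_of_le hc.1
      by_cases hm : ∀ R : Subgroup Ω, R < P → ¬ F.IsCentric R
      · rw [hmin P hc hm] at hφ; exact hφ
      push Not at hm
      obtain ⟨R, hR, hRc⟩ := hm
      obtain ⟨M, ⟨hRM, hMP⟩, hMmax⟩ := Set.Finite.exists_maximalFor (fun M : Subgroup Ω => Nat.card M)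
        {M : Subgroup Ω | R ≤ M ∧ M < P}
        ((finite_setOf_le (S := S) S le_rfl).subset fun M hM => hM.2.le.trans hc.1) ⟨R, le_rfl, hR⟩
      have hMc : F.IsCentric M := isCentric_mono hRc hRM (hMP.le.trans hc.1)
      have hlt := lt_normalizerIn p hS hc.1 hMP
      have hMn : P ≤ Subgroup.normalizer (M : Set Ω) := by
        have hN : normalizerIn P M = P := by
          by_contra hne
          have hNP : normalizerIn P M < P := lt_of_le_of_ne (normalizerIn_le_S M) hne
          have hfin := finite_of_le (hNP.le.trans hc.1)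
          have hle := hMmax ⟨hRM.trans hlt.le, hNP⟩
            (Nat.card_le_card_of_injective _ (Subgroup.inclusion_injective hlt.le))
          exact hlt.ne (eq_of_le_of_card_le (hNP.le.trans hc.1) hlt.le hle)
        intro g hg
        exact (hN.ge hg : g ∈ normalizerIn P M).2
      have hcard : Nat.card M < Nat.card P := lt_of_not_ge fun h =>
        hMP.ne (eq_of_le_of_card_le hc.1 hMP.le h)
      have hφM := restrict_mem hφ hMP.le
      have hφM' := IH M (by omega) hMc hφM
      have hrc : F.IsCentric (φ.comp (Subgroup.inclusion hMP.le)).range :=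
        isCentric_of_isConj hMc ⟨_, hφM, rfl⟩
      have hfc : F'.IsFullyCentralized (φ.comp (Subgroup.inclusion hMP.le)).range :=
        isFullyCentralized_of_centric (isCentric_sub (fun R => hle R) hrc)
      have hext : P ≤ extender S M (φ.comp (Subgroup.inclusion hMP.le)) := by
        intro g hg
        refine mem_extender_of ⟨hc.1 hg, hMn hg⟩ (apply_mem_S hφ ⟨g, hg⟩) fun x hx => ?_
        simp only [MonoidHom.comp_apply, ← map_inv, ← map_mul]
        exact apply_congr φ rfl
      obtain ⟨ψ, hψ, hψe⟩ := saturated_extend p hS hF' hφM' hfc hext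
      obtain ⟨z, hz, -, hzy⟩ := centric_uniqueness p hS hF hMP.le hMc (hle P hψ) hφ
        fun x hx => hψe x hx x.2
      refine comp_mem_of_eq (F'.conj_mem hc.1 (hc.1 z.2)) hψ
        (fun x => mul_mem (mul_mem z.2 x.2) (inv_mem z.2)) fun x => ?_
      rw [hzy x]
      exact apply_congr ψ rfl
  have hFle : F ≤ F' := alperin_saturated p hS hF F' fun R hR => by
    have hRc : F.IsCentric R := by
      rcases hR with rfl | hR
      · exact isCentric_S
      · exact hR.1
    intro α hα
    exact (autGroup_carrier hRc.1).2 (key _ R le_rfl hRc ((autGroup_carrier hRc.1).1 hα))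
  exact Set.Subset.antisymm (hFle P) (hle P)

end Cfsg.Agent.S5335
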