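import Cfsg.Statements.S5336
import Cfsg.Agent.S5118
import Cfsg.Agent.Solvable.Basics

set_option autoImplicit false
open Cfsg Cfsg.FusionSystem CfsgLib.Fusion

namespace Cfsg.Agent.S5336

/-- Let G be a finite group with Sylow p-subgroup S whose fusion system F_S(G) is simple. If G has no nontrivial normal subgroup of order prime to p and no proper subgroup H containing S induces the same fusion system on S as G does, then G is a simple group. -/
theorem result {G : Type*} [Group G] [Finite G] (p : ℕ) [Fact p.Prime] (S : Sylow p G) (hsimple : (Cfsg.groupFusionSystem (S : Subgroup G)).IsSimple p) (hcore : Cfsg.pPrimeCore p G = ⊥) (hmin : ∀ (H : Subgroup G) (hSH : (S : Subgroup G) ≤ H), H ≠ ⊤ → ∃ P : Subgroup G, (Cfsg.fusionSystemOfSubgroup H (S : Subgroup G) hSH).Hom P ≠ (Cfsg.groupFusionSystem (S : Subgroup G)).Hom P) : IsSimpleGroup G := by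
  classical
  obtain ⟨-, hne, hall⟩ := hsimple
  haveI : Nontrivial G := by
    by_contra hn
    rw [not_nontrivial_iff_subsingleton] at hn
    exact hne (Subsingleton.elim _ _)
  refine ⟨fun H hH => ?_⟩
  by_contra! hcon
  obtain ⟨hH1, hH2⟩ := hcon
  haveI := hH
  have hN := Cfsg.Agent.S5118.result p S H
  rcases hall _ _ hN with hT | ⟨hT, hhom⟩
  · refine hH1 (le_bot_iff.1 (hcore ▸ CfsgLib.Solvable.le_pPrimeCore p hH ?_))
    refine Nat.Coprime.symm ((Nat.Prime.coprime_iff_not_dvd Fact.out).2 fun hd => ?_)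
    have hST : SylowIn p (S : Subgroup G) ⊤ := ⟨le_top, S.subtype le_top, rfl⟩
    obtain ⟨R, hR⟩ := (hST.inf_normal le_top (fun g _ => by rw [Subgroup.normalizer_eq_top]; trivial) :
      SylowIn p ((S : Subgroup G) ⊓ H) H).2
    refine R.ne_bot_of_dvd_card hd ?_
    rw [hR, hT, Subgroup.bot_subgroupOf]
  · have hSH : (S : Subgroup G) ≤ H := hT ▸ inf_le_right
    obtain ⟨P, hP⟩ := hmin H hSH hH2
    apply hP
    rw [← hhom P]
    ext φ
    show (_ ∧ _ ∧ _) ↔ (_ ∧ _ ∧ _)
    simp only [hT]

end Cfsg.Agent.S5336
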