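import Cfsg.Statements.S5338
import Cfsg.Agent.Fusion.NormalCriteria

set_option autoImplicit false
open Cfsg Cfsg.FusionSystem CfsgLib.Fusion

namespace Cfsg.Agent.S5338

/-- Let F be a saturated fusion system over a finite p-group S and F′ ≤ F a saturated subsystem over all of S that is invariant under F in the conjugation sense: for every map φ of F with source Q and every map ψ of F′ between subgroups R ≤ Q (with values in Q), the transported map φψφ⁻¹ defined on φ(R) is again a map of F′. If moreover Aut_{F′}(S) = Aut_F(S), then F′ = F. -/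
theorem result {Ω : Type*} [Group Ω] {S : Subgroup Ω} [Finite S] (p : ℕ) [Fact p.Prime] (hS : IsPGroup p S) (F : Cfsg.FusionSystem S) (hF : F.IsSaturated p) (F' : Cfsg.FusionSystem S) (hF' : F'.IsSaturated p) (hle : F' ≤ F) (hinv : ∀ (Q : Subgroup Ω) (φ : ↥Q →* Ω), φ ∈ F.Hom Q → ∀ (R : Subgroup Ω) (hRQ : R ≤ Q) (ψ : ↥R →* Ω), ψ ∈ F'.Hom R → ∀ (hψQ : ∀ x : R, ψ x ∈ Q), ∃ χ ∈ F'.Hom ((R.subgroupOf Q).map φ), ∀ (x : R) (hx : φ ⟨(x : Ω), hRQ x.2⟩ ∈ (R.subgroupOf Q).map φ), χ ⟨φ ⟨(x : Ω), hRQ x.2⟩, hx⟩ = φ ⟨ψ x, hψQ x⟩) (htop : F'.autGroup S = F.autGroup S) (P : Subgroup Ω) : F'.Hom P = F.Hom P := by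
  suffices H : ∀ (n : ℕ) (P : Subgroup Ω), Nat.card S - Nat.card P = n → ∀ φ ∈ F.Hom P, φ ∈ F'.Hom P from
    Set.Subset.antisymm (hle P) fun φ hφ => H _ P rfl φ hφ
  intro n
  induction n using Nat.strong_induction_on with
  | _ n ih =>
  intro P hn φ hφ
  have hPS := le_of_mem_hom hφ
  rcases eq_or_lt_of_le hPS with rfl | hlt0
  · have hr : φ.range = P := eq_of_le_of_card_le le_rfl (range_le_S hφ) (card_range hφ).ge
    have h1 := autOfRange_mem hφ hr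
    rw [← htop] at h1
    exact restrict_mem_of_eq ((autGroup_carrier le_rfl).1 h1) le_rfl fun _ => rfl
  have big : ∀ {N : Subgroup Ω}, N ≤ S → Nat.card P < Nat.card N → ∀ ψ ∈ F.Hom N, ψ ∈ F'.Hom N :=
    fun {N} hN hc ψ hψ => ih _ (by have := card_le_of_le le_rfl hN; omega) N rfl ψ hψ
  have grow : ∀ {U : Subgroup Ω}, U ≤ S → Nat.card U = Nat.card P →
      Nat.card P < Nat.card (normalizerIn S U) := by
    intro U hU hUc
    have hne : U < S := lt_of_le_of_ne hU fun h =>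
      hlt0.ne (eq_of_le_of_card_le le_rfl hPS (by rw [← hUc, h]))
    have h3 := lt_normalizerIn p hS le_rfl hne
    have := finite_of_le (normalizerIn_le_S (S := S) U)
    by_contra h
    exact h3.ne (Subgroup.eq_of_le_of_card_ge h3.le (by omega))
  obtain ⟨Q, hPQ, h₁, h₂⟩ := hF P hPS
  have hQc : Nat.card Q = Nat.card P := IsConj.card_eq hPQ
  have hUQ : F.IsConj φ.range Q := isConj_trans (isConj_symm ⟨φ, hφ, rfl⟩) hPQ
  obtain ⟨ψ₁, hψ₁, hm₁, hmap₁⟩ := exists_map_normalizer p hS h₁ h₂ hPQ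
  obtain ⟨ψ₂, hψ₂, hm₂, hmap₂⟩ := exists_map_normalizer p hS h₁ h₂ hUQ
  have hψ₁E := big (normalizerIn_le_S P) (grow hPS rfl) ψ₁ hψ₁
  have hψ₂E := big (normalizerIn_le_S φ.range) (grow (range_le_S hφ) (card_range hφ)) ψ₂ hψ₂
  -- automorphisms of `Q`
  have key : ∀ α ∈ F.autGroup Q, α ∈ F'.autGroup Q := by
    haveI : Finite Q := finite_of_le h₁.1
    haveI : Finite (MulAut Q) := finite_mulAut
    obtain ⟨R, hR⟩ := h₁.2
    let B : Subgroup (F.autGroup Q) := (F'.autGroup Q).subgroupOf (F.autGroup Q)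
    haveI : B.Normal := ⟨fun b hb a => by
      have hbm := (autGroup_carrier h₁.1).1 (Subgroup.mem_subgroupOf.1 hb)
      have ham := (autGroup_carrier h₁.1).1 a.2
      obtain ⟨χ, hχ, hχe⟩ := hinv Q _ ham Q le_rfl _ hbm fun x => ((b : MulAut Q) x).2
      have hQm : Q ≤ (Q.subgroupOf Q).map (Q.subtype.comp (a : MulAut Q).toMonoidHom) := fun y hy =>
        ⟨(a : MulAut Q)⁻¹ ⟨y, hy⟩, ((a : MulAut Q)⁻¹ ⟨y, hy⟩).2, by simp⟩
      refine Subgroup.mem_subgroupOf.2 ((autGroup_carrier h₁.1).2 (restrict_mem_of_eq hχ hQm fun y => ?_))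
      have h := hχe ((a : MulAut Q)⁻¹ y) (by simpa using ⟨_, ((a : MulAut Q)⁻¹ y).2, by simp⟩)
      refine Eq.trans (h.trans ?_).symm (apply_congr χ ?_)
      · rfl
      · simp⟩
    have hRB : (R : Subgroup (F.autGroup Q)) ≤ B := by
      rw [hR]
      exact fun β hβ => Subgroup.mem_subgroupOf.2 (autInducedBy_le_autGroup h₁.1 hβ)
    have hsup := Sylow.normalizer_sup_eq_top (R.subtype hRB)
    have hmap : ((R.subtype hRB : Subgroup B).map B.subtype) = (R : Subgroup (F.autGroup Q)) :=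
      Subgroup.map_subgroupOf_eq_of_le hRB
    rw [hmap, sup_comm] at hsup
    intro α hα
    have hαm : (⟨α, hα⟩ : F.autGroup Q) ∈ B ⊔ Subgroup.normalizer ((R : Subgroup (F.autGroup Q)) : Set (F.autGroup Q)) := by
      rw [hsup]; exact Subgroup.mem_top _
    obtain ⟨b, hb, γ, hγ, he⟩ := Subgroup.mem_sup_of_normal_left.1 hαm
    rw [show α = (b : MulAut Q) * (γ : MulAut Q) from congrArg Subtype.val he.symm]
    refine mul_mem (Subgroup.mem_subgroupOf.1 hb) ?_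
    have hγm := (autGroup_carrier h₁.1).1 γ.2
    have hN : normalizerIn S Q ≤ extender S Q (Q.subtype.comp (γ : MulAut Q).toMonoidHom) := by
      intro g hg
      have hc : (⟨conjAut S Q ⟨g, hg⟩, autInducedBy_le_autGroup h₁.1
          (mem_autInducedBy.2 ⟨g, hg.1, fun _ => rfl⟩)⟩ : F.autGroup Q) ∈ (R : Subgroup (F.autGroup Q)) := by
        rw [hR]
        exact mem_autInducedBy.2 ⟨g, hg.1, fun _ => rfl⟩
      have h' := (Subgroup.mem_normalizer_iff.1 hγ _).1 hc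
      rw [hR] at h'
      refine autInducedBy_congr_mem (γ : MulAut Q) (fun _ => rfl) hg
        (α := conjAut S Q ⟨g, hg⟩) (fun _ => rfl) ?_
      convert Subgroup.mem_subgroupOf.1 h' using 1
      exact MulEquiv.ext fun y => rfl
    obtain ⟨ψ, hψ, hψe⟩ := receptive_extend h₂ hγm (range_subtype_comp _) hN
    exact (autGroup_carrier h₁.1).2 (restrict_mem_of_eq
      (big (normalizerIn_le_S Q) (grow h₁.1 hQc) ψ hψ) (le_normalizerIn h₁.1)
      fun x => (hψe x x.2 _).symm)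
  obtain ⟨ψ₁', hψ₁', hr₁', hl₁, -⟩ := exists_inv hψ₁E (rfl : ψ₁.range = _)
  obtain ⟨ψ₂', hψ₂', hr₂', hl₂, -⟩ := exists_inv hψ₂E (rfl : ψ₂.range = _)
  have hQ1 : Q ≤ ψ₁.range := fun q hq => by
    obtain ⟨a, -, ha⟩ := hmap₁.ge hq
    exact ⟨a, ha⟩
  have hQ2 : Q ≤ ψ₂.range := fun q hq => by
    obtain ⟨a, -, ha⟩ := hmap₂.ge hq
    exact ⟨a, ha⟩
  have hαran : ∀ q : Q, ψ₁' ⟨q, hQ1 q.2⟩ ∈ P := fun q => by
    obtain ⟨a, haP, ha⟩ := hmap₁.ge q.2
    rw [(apply_congr ψ₁' (y := ⟨ψ₁ a, ⟨a, rfl⟩⟩) ha.symm).trans (hl₁ a _)]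
    exact haP
  have hdom : ∀ q : Q, φ ⟨_, hαran q⟩ ∈ normalizerIn S φ.range := fun q =>
    le_normalizerIn (range_le_S hφ) ⟨_, rfl⟩
  let α₀ : Q →* Ω := (ψ₂.comp ((φ.comp ((ψ₁'.comp (Subgroup.inclusion hQ1)).codRestrict P hαran)).codRestrict
    (normalizerIn S φ.range) hdom))
  have hα₀ : α₀ ∈ F.Hom Q :=
    comp_mem_of_eq (comp_mem_of_eq (restrict_mem (hle _ hψ₁') hQ1) hφ hαran fun q => rfl) hψ₂ hdom fun q => rfl
  have hαr : α₀.range = Q := eq_of_le_of_card_le h₁.1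
    (by rintro _ ⟨q, rfl⟩
        exact hmap₂.le ⟨⟨_, hdom q⟩, ⟨_, rfl⟩, rfl⟩)
    (IsConj.card_eq (F := F) ⟨α₀, hα₀, rfl⟩).ge
  have hα₀E : α₀ ∈ F'.Hom Q := restrict_mem_of_eq
    ((autGroup_carrier h₁.1).1 (key _ (autOfRange_mem hα₀ hαr))) le_rfl fun _ => rfl
  have hPn := le_normalizerIn hPS
  have hx1 : ∀ x : P, ψ₁ ⟨x, hPn x.2⟩ ∈ Q := fun x => hmap₁.le ⟨⟨x, hPn x.2⟩, x.2, rfl⟩
  have hα₀Q : ∀ q : Q, α₀ q ∈ Q := fun q => hαr.le ⟨q, rfl⟩
  have c1 : (ψ₂'.comp (Subgroup.inclusion hQ2)).comp (α₀.codRestrict Q hα₀Q) ∈ F'.Hom Q :=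
    comp_mem_of_eq hα₀E (restrict_mem hψ₂' hQ2) hα₀Q fun _ => rfl
  refine comp_mem_of_eq (restrict_mem hψ₁E hPn) c1 hx1 fun x => ?_
  refine Eq.symm ((apply_congr ψ₂' ?_).trans (hl₂ ⟨φ x, le_normalizerIn (range_le_S hφ) ⟨x, rfl⟩⟩ ⟨_, rfl⟩))
  exact apply_congr ψ₂ (apply_congr φ (hl₁ ⟨x, hPn x.2⟩ _))

end Cfsg.Agent.S5338
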