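import Cfsg.Statements.S5341
import Cfsg.Agent.Fusion.Invariant

set_option autoImplicit false
open Cfsg Cfsg.FusionSystem CfsgLib.Fusion

namespace Cfsg.Agent.S5341

/-- Let F be a saturated fusion system over a finite p-group S, T a subgroup strongly closed in F, and F′ any fusion system over T all of whose maps are maps of F. For a subgroup Q ≤ T: if Q is fully centralized in F then it is fully centralized in F′, and if Q is fully normalized in F then it is fully normalized in F′. -/
theorem result {Ω : Type*} [Group Ω] {S : Subgroup Ω} [Finite S] (p : ℕ) [Fact p.Prime] (hS : IsPGroup p S) (F : Cfsg.FusionSystem S) (hF : F.IsSaturated p) (T : Subgroup Ω) (hT : F.StronglyClosed T) (F' : Cfsg.FusionSystem T) (hsub : F'.IsSubsystemOf F) (Q : Subgroup Ω) (hQT : Q ≤ T) : (F.IsFullyCentralized Q → F'.IsFullyCentralized Q) ∧ (F.IsFullyNormalized Q → F'.IsFullyNormalized Q) := by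
  exact ⟨fun h => fullyCentralized_sub p hS hF hT hsub hQT h,
    fun h => fullyNormalized_sub p hS hF hT hsub hQT h⟩

end Cfsg.Agent.S5341
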