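import Cfsg.Statements.S5345
import Cfsg.Agent.Spor3T.Basic

set_option autoImplicit false
open Cfsg

namespace Cfsg.Agent.S5345

/-- Let D be a conjugation-invariant generating set of 3-transpositions of a finite group G and T a Sylow 2-subgroup of G. Then the members of D lying in T generate an abelian subgroup, and their number is the width of D (the largest number of pairwise commuting members of D). -/
theorem result {G : Type*} [Group G] [Finite G] {D : Set G} (hD : Cfsg.IsThreeTranspositionGroup D) (T : Sylow 2 G) : IsMulCommutative (Subgroup.closure {d : G | d ∈ D ∧ d ∈ T}) ∧ {d : G | d ∈ D ∧ d ∈ T}.ncard = Cfsg.commutingWidth D := by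
  obtain ⟨hset, hconj, -⟩ := hD
  have comm : ∀ a ∈ {d : G | d ∈ D ∧ d ∈ T}, ∀ b ∈ {d : G | d ∈ D ∧ d ∈ T}, a * b = b * a := by
    rintro a ⟨ha, haT⟩ b ⟨hb, hbT⟩
    exact (CfsgLib.ThreeT.commute_of_two_group hset ha hb T.isPGroup' haT hbT).eq
  refine ⟨Subgroup.isMulCommutative_closure comm, ?_⟩
  have hbdd : BddAbove {n : ℕ | ∃ E : Set G, E ⊆ D ∧ E.Finite ∧ (∀ a ∈ E, ∀ b ∈ E, Commute a b) ∧ E.ncard = n} := by
    refine ⟨Nat.card G, ?_⟩
    rintro n ⟨E, -, -, -, rfl⟩
    exact Set.ncard_le_card E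
  refine le_antisymm (le_csSup hbdd ⟨_, fun x hx => hx.1, Set.toFinite _, fun a ha b hb => comm a ha b hb, rfl⟩) ?_
  refine csSup_le ⟨0, ∅, by simp⟩ ?_
  rintro n ⟨E, hED, -, hE, rfl⟩
  have hp : IsPGroup 2 (Subgroup.closure E) := by
    intro x
    refine ⟨1, ?_⟩
    obtain ⟨x, hx⟩ := x
    apply Subtype.ext
    show x ^ 2 ^ 1 = 1
    suffices x ^ 2 = 1 ∧ ∀ e ∈ E, Commute x e by simpa using this.1
    induction hx using Subgroup.closure_induction with
    | mem e he => exact ⟨by rw [pow_two]; exact CfsgLib.ThreeT.sq hset (hED he), fun f hf => hE e he f hf⟩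
    | one => simp
    | mul a b ha hb iha ihb =>
      refine ⟨?_, fun e he => (iha.2 e he).mul_left (ihb.2 e he)⟩
      have hab : Commute a b := by
        refine Subgroup.closure_induction (p := fun y _ => Commute a y) (fun e he => iha.2 e he)
          (Commute.one_right a) (fun _ _ _ _ h1 h2 => h1.mul_right h2) (fun _ _ h => h.inv_right) hb
      rw [hab.mul_pow, iha.1, ihb.1, one_mul]
    | inv a ha iha => exact ⟨by rw [inv_pow, iha.1, inv_one], fun e he => (iha.2 e he).inv_left⟩
  obtain ⟨S, hS⟩ := hp.exists_le_sylow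
  obtain ⟨g, hg⟩ := MulAction.exists_smul_eq G S T
  have hsub : (fun x => g * x * g⁻¹) '' E ⊆ {d : G | d ∈ D ∧ d ∈ T} := by
    rintro _ ⟨e, he, rfl⟩
    refine ⟨hconj g e (hED he), ?_⟩
    rw [← hg]
    show g * e * g⁻¹ ∈ (g • S : Sylow 2 G).toSubgroup
    rw [Sylow.coe_subgroup_smul]
    exact Subgroup.smul_mem_pointwise_smul e (MulAut.conj g) _ (hS (Subgroup.subset_closure he))
  calc E.ncard = ((fun x => g * x * g⁻¹) '' E).ncard :=
        (Set.ncard_image_of_injective E (MulAut.conj g).injective).symm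
    _ ≤ _ := Set.ncard_le_ncard hsub

end Cfsg.Agent.S5345
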