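import Cfsg.Statements.S5346
import Cfsg.Agent.Spor3T.Primitive

set_option autoImplicit false
open Cfsg

namespace Cfsg.Agent.S5346

/-- Let D be a conjugation-invariant generating set of 3-transpositions of a finite group G and d a member of D. Then D has width 1 (no two different members of D commute) if and only if G is the product of the subgroup generated by d with the largest normal 3-subgroup of G. -/
theorem result {G : Type*} [Group G] [Finite G] {D : Set G} (hD : Cfsg.IsThreeTranspositionGroup D) {d : G} (hd : d ∈ D) : Cfsg.commutingWidth D = 1 ↔ Subgroup.zpowers d ⊔ Cfsg.pCore 3 G = ⊤ := by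
  
  obtain ⟨hD1, hconj, hgen⟩ := hD
  haveI : Fact (Nat.Prime 3) := ⟨by norm_num⟩
  set S := {n : ℕ | ∃ E : Set G, E ⊆ D ∧ E.Finite ∧ (∀ a ∈ E, ∀ b ∈ E, Commute a b) ∧ E.ncard = n} with hS
  have hbdd : BddAbove S := ⟨Nat.card G, fun n ⟨E, _, _, _, hn⟩ => hn ▸ (Set.ncard_le_card E)⟩
  have hone : 1 ∈ S := ⟨{d}, Set.singleton_subset_iff.mpr hd, Set.finite_singleton d,
    fun a ha b hb => by rw [Set.mem_singleton_iff.mp ha, Set.mem_singleton_iff.mp hb], Set.ncard_singleton d⟩
  have hiff : Cfsg.commutingWidth D = 1 ↔ ∀ a ∈ D, ∀ b ∈ D, a ≠ b → ¬ Commute a b := by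
    constructor
    · intro hw a ha b hb hab hc
      have h2 : 2 ∈ S := ⟨{a, b}, Set.insert_subset ha (Set.singleton_subset_iff.mpr hb), Set.toFinite _,
        fun p hp q hq => by
          rcases hp with rfl | rfl <;> rcases hq with rfl | rfl
          exacts [Commute.refl _, hc, hc.symm, Commute.refl _], Set.ncard_pair hab⟩
      have := le_csSup hbdd h2
      rw [Cfsg.commutingWidth, ← hS] at hw
      omega
    · intro h
      refine le_antisymm (csSup_le ⟨1, hone⟩ ?_) (le_csSup hbdd hone)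
      rintro n ⟨E, hE, hfin, hc, rfl⟩
      rw [Set.ncard_le_one hfin]
      exact fun a ha b hb => by_contra fun hab => h a (hE ha) b (hE hb) hab (hc a ha b hb)
  rw [hiff]
  constructor
  · intro hall
    have hclass : Cfsg.IsThreeTranspositionClass D := by
      refine ⟨hD1, ⟨d, hd, Set.ext fun e => ⟨fun he => ?_, fun he => ?_⟩⟩, hgen⟩
      · show IsConj d e
        by_cases hde : d = e
        · exact hde ▸ IsConj.refl d
        · refine isConj_iff.mpr ⟨d * e, ?_⟩
          rw [CfsgLib.ThreeT.braid_eq_conj hD1 hd he (hall d hd e he hde)]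
      · obtain ⟨g, rfl⟩ := isConj_iff.mp (show IsConj d e from he)
        exact hconj g d hd
    have hp3 := CfsgLib.ThreeT.isPGroup_of_no_commuting hclass fun a b hab =>
      hall a a.2 b b.2 fun e => hab (Subtype.ext e)
    have hle : commutator G ≤ Cfsg.pCore 3 G := le_sSup ⟨inferInstance, hp3⟩
    rw [eq_top_iff, ← hgen, Subgroup.closure_le]
    intro e he
    have h1 : d * e ∈ Subgroup.zpowers d ⊔ Cfsg.pCore 3 G :=
      Subgroup.mem_sup_right (hle (CfsgLib.ThreeT.mul_mem_commutator hclass hd he))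
    have h2 := mul_mem (inv_mem (Subgroup.mem_sup_left (T := Cfsg.pCore 3 G) (Subgroup.mem_zpowers d))) h1
    rwa [inv_mul_cancel_left] at h2
  · intro htop a ha b hb hab hc
    obtain ⟨hN, hp⟩ : (Cfsg.pCore 3 G).Normal ∧ IsPGroup 3 (Cfsg.pCore 3 G) := ⟨CfsgLib.Solvable.pCore_normal 3, CfsgLib.Solvable.isPGroup_pCore 3⟩
    have hout : ∀ z ∈ D, z ∉ Cfsg.pCore 3 G := fun z hz hzN =>
      CfsgLib.ThreeT.ne_one_of_orderOf (hD1.1 z hz) (CfsgLib.ThreeT.eq_one_of_sq_of_three_group hp hzN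
        (by rw [pow_two, CfsgLib.ThreeT.sq hD1 hz]))
    have hcos : ∀ z ∈ D, (z : G ⧸ Cfsg.pCore 3 G) = d := by
      intro z hz
      have hz' : z ∈ Subgroup.zpowers d ⊔ Cfsg.pCore 3 G := htop ▸ Subgroup.mem_top z
      obtain ⟨u, hu, n, hn, rfl⟩ := Subgroup.mem_sup_of_normal_right.mp hz'
      obtain ⟨i, rfl⟩ := Subgroup.mem_zpowers_iff.mp hu
      rw [QuotientGroup.mk_mul, (QuotientGroup.eq_one_iff n).mpr hn, mul_one]
      rcases Int.even_or_odd i with ⟨k, hk⟩ | ⟨k, hk⟩
      · refine absurd ?_ (hout _ hz)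
        rw [hk, ← two_mul, zpow_mul, zpow_two, CfsgLib.ThreeT.sq hD1 hd, one_zpow, one_mul]
        exact hn
      · rw [hk, zpow_add, zpow_mul, zpow_two, CfsgLib.ThreeT.sq hD1 hd, one_zpow, one_mul, zpow_one]
    refine hab ?_
    have hab' : a⁻¹ * b ∈ Cfsg.pCore 3 G := QuotientGroup.eq.mp ((hcos a ha).trans (hcos b hb).symm)
    rw [CfsgLib.ThreeT.inv hD1 ha] at hab'
    have h1 := CfsgLib.ThreeT.eq_one_of_sq_of_three_group hp hab' (CfsgLib.ThreeT.sq_of_commute (hD1.1 a ha) (hD1.1 b hb) hc)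
    rw [← CfsgLib.ThreeT.inv hD1 ha]
    exact inv_eq_of_mul_eq_one_right h1

end Cfsg.Agent.S5346
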