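import Cfsg.Statements.S5348

set_option autoImplicit false
open Cfsg

namespace Cfsg.Agent.S5348

/-- Let D be a conjugation-invariant generating set of 3-transpositions of a finite group G and d a member of D. Let V be the set of members of D commuting with exactly the same members of D as d, and W the set of members w of D such that the members of D other than w commuting with w are precisely the members of D other than d commuting with d. Then V = {d} or W = {d}. -/
theorem result {G : Type*} [Group G] [Finite G] {D : Set G} (hD : Cfsg.IsThreeTranspositionGroup D) {d : G} (hd : d ∈ D) : {v : G | v ∈ D ∧ ∀ e ∈ D, Commute v e ↔ Commute d e} = {d} ∨ {w : G | w ∈ D ∧ {y : G | y ∈ D ∧ y ≠ d ∧ Commute d y} = {y : G | y ∈ D ∧ y ≠ w ∧ Commute w y}} = {d} := by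
  
  obtain ⟨⟨hD1, -⟩, -⟩ := hD
  by_contra hcon
  obtain ⟨hV, hW⟩ := not_or.mp hcon
  obtain ⟨v, ⟨hvD, hv⟩, hvd⟩ : ∃ v ∈ {v : G | v ∈ D ∧ ∀ e ∈ D, Commute v e ↔ Commute d e}, v ≠ d := by
    by_contra h
    push Not at h
    exact hV (Set.Subset.antisymm (fun z hz => h z hz) (Set.singleton_subset_iff.mpr ⟨hd, fun _ _ => Iff.rfl⟩))
  obtain ⟨w, ⟨hwD, hw⟩, hwd⟩ : ∃ w ∈ {w : G | w ∈ D ∧ {y : G | y ∈ D ∧ y ≠ d ∧ Commute d y} = {y : G | y ∈ D ∧ y ≠ w ∧ Commute w y}}, w ≠ d := by
    by_contra h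
    push Not at h
    exact hW (Set.Subset.antisymm (fun z hz => h z hz) (Set.singleton_subset_iff.mpr ⟨hd, rfl⟩))
  have hdw : ¬ Commute d w := fun h =>
    (hw.subset (show w ∈ {y : G | y ∈ D ∧ y ≠ d ∧ Commute d y} from ⟨hwD, hwd, h⟩)).2.1 rfl
  have hdv : Commute d v := ((hv d hd).mpr (Commute.refl d)).symm
  have hwv : Commute w v := (hw.subset (show v ∈ {y : G | y ∈ D ∧ y ≠ d ∧ Commute d y} from ⟨hvD, hvd, hdv⟩)).2.2
  exact hdw ((hv w hwD).mp hwv.symm)

end Cfsg.Agent.S5348
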