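import Cfsg.Statements.S5350
import Cfsg.Agent.Spor3T.Twins

set_option autoImplicit false
open Cfsg

namespace Cfsg.Agent.S5350

/-- Let D be a conjugacy class of 3-transpositions generating the finite group G, with at least two members, and d a member of D. Then the set of members w of D whose commuting partners in D (other than w) are exactly those of d (other than d) coincides with the set of members of D lying in the coset of d modulo the largest normal 3-subgroup of G, and also with the orbit of d under conjugation by that normal 3-subgroup. -/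
theorem result {G : Type*} [Group G] [Finite G] {D : Set G} (hD : Cfsg.IsThreeTranspositionClass D) (hD2 : ∃ a ∈ D, ∃ b ∈ D, a ≠ b) {d : G} (hd : d ∈ D) : {w : G | w ∈ D ∧ {y : G | y ∈ D ∧ y ≠ d ∧ Commute d y} = {y : G | y ∈ D ∧ y ≠ w ∧ Commute w y}} = {w : G | w ∈ D ∧ d⁻¹ * w ∈ Cfsg.pCore 3 G} ∧ {w : G | w ∈ D ∧ {y : G | y ∈ D ∧ y ≠ d ∧ Commute d y} = {y : G | y ∈ D ∧ y ≠ w ∧ Commute w y}} = {w : G | ∃ g ∈ Cfsg.pCore 3 G, w = g * d * g⁻¹} := by
  
  haveI := CfsgLib.Solvable.pCore_normal (G := G) 3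
  have hsets : {w : G | w ∈ D ∧ {y : G | y ∈ D ∧ y ≠ d ∧ Commute d y} = {y : G | y ∈ D ∧ y ≠ w ∧ Commute w y}} =
      {w : G | w ∈ D ∧ d⁻¹ * w ∈ Cfsg.pCore 3 G} := by
    ext v
    constructor
    · rintro ⟨hv, h⟩
      exact ⟨hv, (CfsgLib.ThreeT.inv hD.1 hd).symm ▸ CfsgLib.ThreeT.mul_mem_three_core hD hd hv h⟩
    · rintro ⟨hv, h⟩
      exact ⟨hv, CfsgLib.ThreeT.same_others_of_mem_three_core hD hd hv h⟩
  refine ⟨hsets, ?_⟩
  ext v
  constructor
  · rintro ⟨hv, hsame⟩
    by_cases hdv : d = v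
    · exact ⟨1, one_mem _, by simp [hdv]⟩
    · have hnc : ¬ Commute d v := fun h => (hsame.subset (show v ∈ {y : G | y ∈ D ∧ y ≠ d ∧ Commute d y} from
        ⟨hv, Ne.symm hdv, h⟩)).2.1 rfl
      exact ⟨_, CfsgLib.ThreeT.mul_mem_three_core hD hd hv hsame, (CfsgLib.ThreeT.braid_eq_conj hD.1 hd hv hnc).symm⟩
  · rintro ⟨g, hg, rfl⟩
    rw [hsets]
    refine ⟨CfsgLib.ThreeT.conj_mem hD hd g, ?_⟩
    have h1 := mul_mem ((inferInstance : (Cfsg.pCore 3 G).Normal).conj_mem g hg d⁻¹) (inv_mem hg)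
    simpa [mul_assoc] using h1

end Cfsg.Agent.S5350
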