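import Cfsg.Statements.S5354
import Cfsg.Agent.Spor3T.CentralQuotient

set_option autoImplicit false
open Cfsg

namespace Cfsg.Agent.S5354

/-- Let D be a conjugation-invariant generating set of 3-transpositions of the finite group G on which G acts primitively by conjugation, and suppose two different members of D commute (width at least 2). Then G has a quasisimple normal subgroup L of index at most 2 with the generalized Fitting subgroup of G equal to L times the centre, the commuting graph of D is connected, and for d in D the subgroup generated by the members of D commuting with d is a maximal D-subgroup: it is proper, and every subgroup generated by members of D that contains it is either it or G. -/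
theorem result {G : Type*} [Group G] [Finite G] {D : Set G} (hD : Cfsg.IsThreeTranspositionGroup D) (hprim : Cfsg.IsPrimitiveUnderConj D) (hw : ∃ a ∈ D, ∃ b ∈ D, a ≠ b ∧ Commute a b) : (∃ L : Subgroup G, L.Normal ∧ Cfsg.IsQuasisimple L ∧ L.index ≤ 2 ∧ Cfsg.generalizedFittingSubgroup G = L ⊔ Subgroup.center G) ∧ (Cfsg.commutingGraph D).Connected ∧ ∀ d ∈ D, Subgroup.closure {y : G | y ∈ D ∧ Commute d y} ≠ ⊤ ∧ ∀ H : Subgroup G, Cfsg.IsDSubgroup D H → Subgroup.closure {y : G | y ∈ D ∧ Commute d y} ≤ H → H = Subgroup.closure {y : G | y ∈ D ∧ Commute d y} ∨ H = ⊤ := by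
  
  obtain ⟨hD1, hconj, hgen⟩ := hD
  obtain ⟨a, ha, b, hb, hab, hcab⟩ := hw
  have hclass : Cfsg.IsThreeTranspositionClass D := by
    refine ⟨hD1, ⟨a, ha, Set.ext fun e => ⟨fun he => ?_, fun he => ?_⟩⟩, hgen⟩
    · exact isConj_iff.mpr (hprim.1 a ha e he)
    · obtain ⟨g, rfl⟩ := isConj_iff.mp (show IsConj a e from he)
      exact hconj g a ha
  have hD2 : ∃ a ∈ D, ∃ b ∈ D, a ≠ b := ⟨a, ha, b, hb, hab⟩
  have hw' : ∃ a ∈ D, ∃ b ∈ D, a ≠ b ∧ Commute a b := ⟨a, ha, b, hb, hab, hcab⟩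
  -- the orbit of a member under a normal subgroup is a single point or everything
  have horb : ∀ N : Subgroup G, N.Normal → (∀ n ∈ N, n * a * n⁻¹ = a) ∨ ∀ e ∈ D, a⁻¹ * e ∈ N := by
    intro N hN
    have hmem : ∀ n ∈ N, a⁻¹ * (n * a * n⁻¹) ∈ N := fun n hn => by
      have := mul_mem (hN.conj_mem n hn a⁻¹) (inv_mem hn)
      simpa [mul_assoc] using this
    set B : Set G := {e | ∃ n ∈ N, e = n * a * n⁻¹}
    rcases hprim.2.2 B (fun e ⟨n, _, he⟩ => he ▸ hconj n a ha) (fun g => by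
      refine or_iff_not_imp_right.mpr fun h => ?_
      obtain ⟨z, ⟨_, ⟨n, hn, rfl⟩, rfl⟩, ⟨m, hm, hzm⟩⟩ := Set.not_disjoint_iff.mp h
      have hg : g * a * g⁻¹ = (g * n * g⁻¹)⁻¹ * m * a * ((g * n * g⁻¹)⁻¹ * m)⁻¹ := by
        have e : g * n * g⁻¹ * (g * a * g⁻¹) * (g * n * g⁻¹)⁻¹ = m * a * m⁻¹ := by
          refine Eq.trans ?_ hzm
          show _ = g * (n * a * n⁻¹) * g⁻¹
          group
        calc g * a * g⁻¹ = (g * n * g⁻¹)⁻¹ * (g * n * g⁻¹ * (g * a * g⁻¹) * (g * n * g⁻¹)⁻¹) * (g * n * g⁻¹) := by group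
          _ = _ := by rw [e]; group
      have hm' : (g * n * g⁻¹)⁻¹ * m ∈ N := mul_mem (inv_mem (hN.conj_mem n hn g)) hm
      ext e
      constructor
      · rintro ⟨_, ⟨k, hk, rfl⟩, rfl⟩
        refine ⟨g * k * g⁻¹ * ((g * n * g⁻¹)⁻¹ * m), mul_mem (hN.conj_mem k hk g) hm', ?_⟩
        calc g * (k * a * k⁻¹) * g⁻¹ = g * k * g⁻¹ * (g * a * g⁻¹) * (g * k * g⁻¹)⁻¹ := by group
          _ = _ := by rw [hg]; group
      · rintro ⟨k, hk, rfl⟩
        set u := k * ((g * n * g⁻¹)⁻¹ * m)⁻¹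
        refine ⟨g⁻¹ * u * g * a * (g⁻¹ * u * g)⁻¹, ⟨_, ?_, rfl⟩, ?_⟩
        · simpa using hN.conj_mem u (mul_mem hk (inv_mem hm')) g⁻¹
        · show g * (g⁻¹ * u * g * a * (g⁻¹ * u * g)⁻¹) * g⁻¹ = k * a * k⁻¹
          calc g * (g⁻¹ * u * g * a * (g⁻¹ * u * g)⁻¹) * g⁻¹ = u * (g * a * g⁻¹) * u⁻¹ := by group
            _ = _ := by rw [hg]; simp only [u]; group) with h | h
    · exact Or.inl fun n hn => h ⟨n, hn, rfl⟩ ⟨1, one_mem N, by simp⟩
    · refine Or.inr fun e he => ?_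
      obtain ⟨n, hn, rfl⟩ := h.ge he
      exact hmem n hn
  -- both small cores are central
  have hfixcentral : ∀ N : Subgroup G, N.Normal → (∀ n ∈ N, n * a * n⁻¹ = a) → N ≤ Subgroup.center G := by
    intro N hN h n hn
    refine CfsgLib.ThreeT.center_of_commute hclass fun e he => ?_
    obtain ⟨g, rfl⟩ := CfsgLib.ThreeT.exists_conj hclass ha he
    have h1 := (CfsgLib.ThreeT.commute_conj_iff g _ _).mpr (mul_inv_eq_iff_eq_mul.mp (h _ (hN.conj_mem n hn g⁻¹)))
    rwa [show g * (g⁻¹ * n * g⁻¹⁻¹) * g⁻¹ = n by group] at h1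
  have h2 : Cfsg.pCore 2 G ≤ Subgroup.center G := by
    rcases horb _ (CfsgLib.Solvable.pCore_normal 2) with h | h
    · exact hfixcentral _ (CfsgLib.Solvable.pCore_normal 2) h
    · exfalso
      obtain ⟨e, he, hne⟩ := CfsgLib.ThreeT.exists_not_commute hclass hD2 ha
      exact hne ((CfsgLib.ThreeT.same_commuting_of_mem_two_core hclass ha he (h e he) a ha).mpr (Commute.refl a)).symm
  have h3 : Cfsg.pCore 3 G ≤ Subgroup.center G := by
    rcases horb _ (CfsgLib.Solvable.pCore_normal 3) with h | h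
    · exact hfixcentral _ (CfsgLib.Solvable.pCore_normal 3) h
    · exfalso
      obtain ⟨c, hc, hca, hcac⟩ : ∃ c ∈ D, c ≠ a ∧ Commute a c := ⟨b, hb, Ne.symm hab, hcab⟩
      have := (CfsgLib.ThreeT.same_others_of_mem_three_core hclass ha hc (h c hc)).subset
        (show c ∈ {y : G | y ∈ D ∧ y ≠ a ∧ Commute a y} from ⟨hc, hca, hcac⟩)
      exact this.2.1 rfl
  have hconn := CfsgLib.ThreeT.connected_of_primitive hclass hprim hw'
  obtain ⟨L, hL, hn, -, hF⟩ := CfsgLib.ThreeT.exists_component hclass hD2 h2 h3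
  have hi := CfsgLib.ThreeT.index_le_two_of_connected hclass hD2 h2 h3 hL hconn
  refine ⟨⟨L, hn, hL.2, hi, hF⟩, (CfsgLib.ThreeT.commutingGraph_connected_iff ⟨a, ha⟩).mpr hconn, fun d hd => ?_⟩
  set K := Subgroup.closure {y : G | y ∈ D ∧ Commute d y} with hK
  have hKc : ∀ k ∈ K, Commute d k := by
    intro k hk
    induction hk using Subgroup.closure_induction with
    | mem z hz => exact hz.2
    | one => exact Commute.one_right d
    | mul x y _ _ hx hy => exact hx.mul_right hy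
    | inv x _ hx => exact hx.inv_right
  refine ⟨fun htop => ?_, fun H hH hKH => ?_⟩
  · exact CfsgLib.ThreeT.center_ne_top hclass hD2 hd
      (Subgroup.mem_center_iff.mpr fun g => (hKc g (htop ▸ Subgroup.mem_top g)).eq.symm)
  by_cases hall : ∀ c ∈ D, c ∈ H → Commute d c
  · left
    refine le_antisymm ?_ hKH
    rw [← hH, Subgroup.closure_le]
    exact fun c hc => Subgroup.subset_closure ⟨hc.1, hall c hc.1 hc.2⟩
  right
  push Not at hall
  obtain ⟨c, hc, hcH, hdc⟩ := hall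
  -- some near member of `d` does not commute with `c`
  obtain ⟨e, he, hed, hde, hec⟩ : ∃ e ∈ D, e ≠ d ∧ Commute d e ∧ ¬ Commute e c := by
    by_contra hno
    push Not at hno
    obtain ⟨g, hg⟩ := CfsgLib.ThreeT.exists_conj hclass hd hc
    have hsub : {y : G | y ∈ D ∧ y ≠ d ∧ Commute d y} ⊆ {y : G | y ∈ D ∧ y ≠ c ∧ Commute c y} := fun y hy =>
      ⟨hy.1, fun e => hdc (e ▸ hy.2.2), (hno y hy.1 hy.2.1 hy.2.2).symm⟩
    have hcard : {y : G | y ∈ D ∧ y ≠ c ∧ Commute c y}.ncard ≤ {y : G | y ∈ D ∧ y ≠ d ∧ Commute d y}.ncard := by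
      refine Set.ncard_le_ncard_of_injOn (fun y => g⁻¹ * y * g⁻¹⁻¹) (fun y hy => ?_)
        (fun x _ y _ h => mul_left_cancel (mul_right_cancel h)) (Set.toFinite _)
      refine ⟨hconj g⁻¹ y hy.1, fun h => hy.2.1 ?_, ?_⟩
      · rw [← hg, ← h]; group
      · have h1 := (CfsgLib.ThreeT.commute_conj_iff g⁻¹ c y).mpr hy.2.2
        rwa [show g⁻¹ * c * g⁻¹⁻¹ = d by rw [← hg]; group] at h1
    have hmem := CfsgLib.ThreeT.mul_mem_three_core hclass hd hc
      (Set.eq_of_subset_of_ncard_le hsub hcard (Set.toFinite _))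
    rw [← CfsgLib.ThreeT.inv hD1 hd] at hmem
    exact hdc (CfsgLib.ThreeT.eq_of_mul_center hclass hD2 hd hc (h3 hmem) ▸ Commute.refl d)
  have heH : e ∈ H := hKH (Subgroup.subset_closure ⟨he, hde⟩)
  -- the orbit of `d` under `H` is closed under commuting
  have hnear : ∀ q ∈ D, q ≠ d → Commute d q → ∃ h ∈ H, h * d * h⁻¹ = q := by
    intro q hq hqd hdq
    obtain ⟨k, hk, hkq⟩ := CfsgLib.ThreeT.near_transitive hclass hD2 h2 h3 hL hi hd he hq hed hqd hde hdq
    have hkK : k ∈ H := hKH (Subgroup.closure_mono (show {y : G | y ∈ D ∧ y ≠ d ∧ Commute d y} ⊆ {y : G | y ∈ D ∧ Commute d y} from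
      fun y hy => ⟨hy.1, hy.2.2⟩) hk)
    have hdH : d ∈ H := hKH (Subgroup.subset_closure ⟨hd, Commute.refl d⟩)
    refine ⟨k * (c * e) * (d * c), mul_mem (mul_mem hkK (mul_mem hcH heH)) (mul_mem hdH hcH), ?_⟩
    calc k * (c * e) * (d * c) * d * (k * (c * e) * (d * c))⁻¹
        = k * (c * e * (d * c * d * (d * c)⁻¹) * (c * e)⁻¹) * k⁻¹ := by group
      _ = q := by
        rw [CfsgLib.ThreeT.braid_eq_conj hD1 hd hc hdc,
          CfsgLib.ThreeT.braid_eq_conj hD1 hc he (fun h => hec h.symm), hkq]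
  have hcl : ∀ q : D, Relation.ReflTransGen (fun p q : D => Commute (p : G) q) ⟨d, hd⟩ q →
      ∃ h ∈ H, h * d * h⁻¹ = q := by
    intro q hq
    induction hq with
    | refl => exact ⟨1, one_mem H, by simp⟩
    | @tail p q _ hpq ih =>
      obtain ⟨h, hh, hp⟩ := ih
      by_cases hqp : (q : G) = p
      · exact ⟨h, hh, hp.trans hqp.symm⟩
      obtain ⟨h', hh', hq'⟩ := hnear (h⁻¹ * q * h⁻¹⁻¹) (hconj _ _ q.2)
        (fun e => hqp (by rw [← hp, ← e]; group))
        (by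
          have h1 := (CfsgLib.ThreeT.commute_conj_iff h⁻¹ _ _).mpr hpq
          rwa [show h⁻¹ * (p : G) * h⁻¹⁻¹ = d by rw [← hp]; group] at h1)
      exact ⟨h * h', mul_mem hh hh', by
        calc h * h' * d * (h * h')⁻¹ = h * (h' * d * h'⁻¹) * h⁻¹ := by group
          _ = q := by rw [hq']; group⟩
  rw [eq_top_iff, ← hgen, Subgroup.closure_le]
  intro z hz
  obtain ⟨h, hh, he'⟩ := hcl ⟨z, hz⟩ (hconn _ _)
  have : h * d * h⁻¹ ∈ H := mul_mem (mul_mem hh (hKH (Subgroup.subset_closure ⟨hd, Commute.refl d⟩))) (inv_mem hh)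
  show z ∈ H
  rwa [show h * d * h⁻¹ = z from he'] at this

end Cfsg.Agent.S5354
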