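import Cfsg.Statements.S5355
import Cfsg.Agent.Spor3T.Twins
import Cfsg.Agent.S5344

set_option autoImplicit false
open Cfsg

namespace Cfsg.Agent.S5355

/-- Let D be a conjugacy class of 3-transpositions generating the finite group G, with at least two members, and d a member of D. Suppose that every member of D commuting with d commutes with exactly the same members of D as d does, and that exactly one member of D other than d commutes with d. Then G is isomorphic to the symmetric group of degree 4. -/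
theorem result {G : Type*} [Group G] [Finite G] {D : Set G} (hD : Cfsg.IsThreeTranspositionClass D) (hD2 : ∃ a ∈ D, ∃ b ∈ D, a ≠ b) {d : G} (hd : d ∈ D) (hV : {y : G | y ∈ D ∧ Commute d y} = {v : G | v ∈ D ∧ ∀ e ∈ D, Commute v e ↔ Commute d e}) (hm : {y : G | y ∈ D ∧ Commute d y}.ncard = 2) : Nonempty (G ≃* Equiv.Perm (Fin 4)) := by
  
  obtain ⟨x₀, y₀, hxy₀, hset⟩ := Set.ncard_eq_two.mp hm
  obtain ⟨d', hd', hdd', hcomm⟩ : ∃ d' ∈ D, d' ≠ d ∧ Commute d d' := by
    have hx : x₀ ∈ {y : G | y ∈ D ∧ Commute d y} := hset.ge (Or.inl rfl)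
    have hy : y₀ ∈ {y : G | y ∈ D ∧ Commute d y} := hset.ge (Or.inr rfl)
    by_cases h : x₀ = d
    · exact ⟨y₀, hy.1, fun e => hxy₀ (h.trans e.symm), hy.2⟩
    · exact ⟨x₀, hx.1, h, hx.2⟩
  -- every member has exactly one twin
  have hexi : ∀ e ∈ D, ∃ e', e' ∈ D ∧ e' ≠ e ∧ Commute e e' ∧ ∀ z ∈ D, Commute e z → z = e ∨ z = e' := by
    intro e he
    obtain ⟨g, rfl⟩ := CfsgLib.ThreeT.exists_conj hD hd he
    refine ⟨g * d' * g⁻¹, CfsgLib.ThreeT.conj_mem hD hd' g, fun h => hdd' (mul_left_cancel (mul_right_cancel h)),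
      (CfsgLib.ThreeT.commute_conj_iff g d d').mpr hcomm, fun z hz hc => ?_⟩
    have hz' : g⁻¹ * z * g⁻¹⁻¹ ∈ {y : G | y ∈ D ∧ Commute d y} := by
      refine ⟨CfsgLib.ThreeT.conj_mem hD hz g⁻¹, ?_⟩
      have h1 := (CfsgLib.ThreeT.commute_conj_iff g⁻¹ _ _).mpr hc
      rwa [show g⁻¹ * (g * d * g⁻¹) * g⁻¹⁻¹ = d by group] at h1
    have h1 : d ∈ ({x₀, y₀} : Set G) := hset.le ⟨hd, Commute.refl d⟩
    have h2 : d' ∈ ({x₀, y₀} : Set G) := hset.le ⟨hd', hcomm⟩
    have hall : g⁻¹ * z * g⁻¹⁻¹ = d ∨ g⁻¹ * z * g⁻¹⁻¹ = d' := by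
      rw [hset] at hz'
      rcases hz' with a | a <;> rcases h1 with b | b <;> rcases h2 with c | c
      all_goals first
        | exact Or.inl (a.trans b.symm)
        | exact Or.inr (a.trans c.symm)
        | exact absurd (c.trans b.symm) hdd'
    rcases hall with h | h
    · exact Or.inl (by rw [← h]; group)
    · exact Or.inr (by rw [← h]; group)
  choose! τ hτD hτne hτc hτu using hexi
  have hτeq : ∀ g : G, ∀ e ∈ D, τ (g * e * g⁻¹) = g * τ e * g⁻¹ := by
    intro g e he
    rcases hτu _ (CfsgLib.ThreeT.conj_mem hD he g) _ (CfsgLib.ThreeT.conj_mem hD (hτD e he) g)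
      ((CfsgLib.ThreeT.commute_conj_iff g e _).mpr (hτc e he)) with h | h
    · exact absurd (mul_left_cancel (mul_right_cancel h)) (hτne e he)
    · exact h.symm
  have hττ : ∀ e ∈ D, τ (τ e) = e := fun e he =>
    ((hτu _ (hτD e he) e he (hτc e he).symm).resolve_left (fun h => hτne e he h.symm)).symm
  have hsame : ∀ y ∈ D, ∀ z ∈ D, ¬ Commute y z → ¬ Commute (τ y) z := by
    intro y hy z hz hyz hc
    rcases hτu _ (hτD y hy) z hz hc with h | h
    · exact hyz (h ▸ hτc y hy)
    · exact hyz (by rw [h, hττ y hy])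
  have hflip1 : ∀ y ∈ D, ∀ z ∈ D, y * τ z * y = τ (y * z * y) := fun y hy z hz => by
    have h := hτeq y z hz
    rw [CfsgLib.ThreeT.inv hD.1 hy] at h
    exact h.symm
  have hflip2 : ∀ y ∈ D, ∀ z ∈ D, ¬ Commute y z → τ y * z * τ y = τ (y * z * y) := by
    intro y hy z hz hyz
    rw [CfsgLib.ThreeT.braid hD.1 (hτD y hy) hz (hsame y hy z hz hyz), hflip1 z hz y hy,
      CfsgLib.ThreeT.braid hD.1 hy hz hyz]
  obtain ⟨e, he, hde⟩ : ∃ e ∈ D, ¬ Commute d e := by
    by_contra h
    push Not at h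
    obtain ⟨a, ha, b, hb, hab⟩ := hD2
    have hz : d ∈ Subgroup.center G := by
      refine Subgroup.mem_center_iff.mpr fun g => ?_
      have hle : Subgroup.closure D ≤ Subgroup.centralizer ({d} : Set G) :=
        (Subgroup.closure_le _).mpr fun z hz => Subgroup.mem_centralizer_singleton_iff.mpr (h z hz).symm.eq
      exact Subgroup.mem_centralizer_singleton_iff.mp (hle (hD.2.2 ▸ Subgroup.mem_top g))
    have hone : ∀ z ∈ D, z = d := fun z hz' => by
      obtain ⟨g, rfl⟩ := CfsgLib.ThreeT.exists_conj hD hd hz'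
      rw [Subgroup.mem_center_iff.mp hz g, mul_inv_cancel_right]
    exact hab ((hone a ha).trans (hone b hb).symm)
  set a := d * e * d with ha'
  have ha : a ∈ D := by
    have := CfsgLib.ThreeT.conj_mem hD he d
    rwa [CfsgLib.ThreeT.inv hD.1 hd] at this
  -- there are only six members
  have hsix : ∀ x ∈ D, ¬ Commute d x → ¬ Commute e x → Commute a x := by
    intro x hx hdx hex
    by_contra hax
    set c := e * x * e with hc'
    set b := d * x * d with hb'
    have hcD : c ∈ D := by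
      have := CfsgLib.ThreeT.conj_mem hD hx e
      rwa [CfsgLib.ThreeT.inv hD.1 he] at this
    have hbD : b ∈ D := by
      have := CfsgLib.ThreeT.conj_mem hD hx d
      rwa [CfsgLib.ThreeT.inv hD.1 hd] at this
    have hdc : ¬ Commute d c := by
      intro h
      apply hax
      have h1 := (CfsgLib.ThreeT.commute_conj_iff e d c).mpr h
      rw [CfsgLib.ThreeT.inv hD.1 he, show e * c * e = (e * e) * x * (e * e) by rw [hc']; group,
        CfsgLib.ThreeT.sq hD.1 he, one_mul, mul_one, show e * d * e = a from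
          (CfsgLib.ThreeT.braid hD.1 hd he hde).symm] at h1
      exact h1
    have hab : ¬ Commute a b := by
      intro h
      apply hex
      have h1 := (CfsgLib.ThreeT.commute_conj_iff d a b).mpr h
      rw [CfsgLib.ThreeT.inv hD.1 hd, show d * a * d = (d * d) * e * (d * d) by rw [ha']; group,
        show d * b * d = (d * d) * x * (d * d) by rw [hb']; group,
        CfsgLib.ThreeT.sq hD.1 hd, one_mul, mul_one, one_mul, mul_one] at h1
      exact h1
    have hdist : ∀ q : G, q * q = 1 → q * (e * x * e) * q = (q * e * q) * (q * x * q) * (q * e * q) := by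
      intro q hq
      calc q * (e * x * e) * q = q * e * (q * q) * x * (q * q) * e * q := by rw [hq]; group
        _ = _ := by group
    have h1 : τ d * c * τ d = a * b * a := by
      rw [hc', hdist _ (CfsgLib.ThreeT.sq hD.1 (hτD d hd)), hflip2 d hd e he hde, hflip2 d hd x hx hdx, ← ha', ← hb',
        hflip2 a ha (τ b) (hτD b hbD) (fun h => hsame b hbD a ha (fun h' => hab h'.symm) h.symm),
        hflip1 a ha b hbD]
      refine hττ _ ?_
      have := CfsgLib.ThreeT.conj_mem hD hbD a
      rwa [CfsgLib.ThreeT.inv hD.1 ha] at this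
    have h2 : d * c * d = a * b * a := hdist d (CfsgLib.ThreeT.sq hD.1 hd)
    have h3 := hflip2 d hd c hcD hdc
    rw [h1, ← h2] at h3
    have hdcd : d * c * d ∈ D := by
      have := CfsgLib.ThreeT.conj_mem hD hcD d
      rwa [CfsgLib.ThreeT.inv hD.1 hd] at this
    exact hτne _ hdcd h3.symm
  obtain ⟨φ, hφ, h01, h12, h23⟩ := Cfsg.Agent.S5344.result hD.1 hd he (hτD d hd) (hτne d hd).symm (hτc d hd) hde
    (fun h => hsame d hd e he hde h.symm)
  refine ⟨(MulEquiv.ofBijective φ ⟨hφ, MonoidHom.range_eq_top.mp ?_⟩).symm⟩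
  rw [eq_top_iff, ← hD.2.2, Subgroup.closure_le]
  have hd1 : d ∈ φ.range := ⟨_, h01⟩
  have he1 : e ∈ φ.range := ⟨_, h12⟩
  have hd2 : τ d ∈ φ.range := ⟨_, h23⟩
  have ha1 : a ∈ φ.range := mul_mem (mul_mem hd1 he1) hd1
  have ha2 : τ a ∈ φ.range := by
    rw [ha', ← hflip2 d hd e he hde]; exact mul_mem (mul_mem hd2 he1) hd2
  have he2 : τ e ∈ φ.range := by
    have h : τ e = d * τ a * d := by
      rw [hflip1 d hd a ha]
      congr 1
      rw [ha', show d * (d * e * d) * d = (d * d) * e * (d * d) by group, CfsgLib.ThreeT.sq hD.1 hd, one_mul, mul_one]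
    rw [h]; exact mul_mem (mul_mem hd1 ha2) hd1
  intro x hx
  by_cases hdx : Commute d x
  · rcases hτu d hd x hx hdx with h | h <;> rw [h] <;> assumption
  by_cases hex : Commute e x
  · rcases hτu e he x hx hex with h | h <;> rw [h] <;> assumption
  rcases hτu a ha x hx (hsix x hx hdx hex) with h | h <;> rw [h] <;> assumption

end Cfsg.Agent.S5355
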