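import Cfsg.Statements.S5358
import Cfsg.Agent.Spor3T.ReflModThreeMatrix

set_option autoImplicit false
open scoped MatrixGroups
open Cfsg

namespace Cfsg.Agent.S5358

/-- Let Q be a non-degenerate quadratic form on the n-dimensional coordinate space over the field with three elements and u, v vectors of the same non-zero norm Q(u) = Q(v) spanning different lines (v ≠ u and v ≠ −u). Then the reflection matrices of u and v commute if and only if u and v are orthogonal for the polar form of Q. -/
theorem result (n : ℕ) (Q : QuadraticForm (ZMod 3) (Fin n → ZMod 3)) (hQ : (QuadraticMap.polarBilin Q).Nondegenerate) (u v : Fin n → ZMod 3) (hu : Q u ≠ 0) (huv : Q u = Q v) (h1 : v ≠ u) (h2 : v ≠ -u) : Commute (Cfsg.reflectionMatrix (⇑Q) u) (Cfsg.reflectionMatrix (⇑Q) v) ↔ QuadraticMap.polar (⇑Q) u v = 0 := by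
  
  have hv : Q v ≠ 0 := huv ▸ hu
  rw [← CfsgLib.ReflThree.commute_iff hu hv h1 h2, commute_iff_eq, commute_iff_eq]
  constructor <;> intro h
  · refine Subtype.ext (LinearEquiv.ext fun x => ?_)
    show (CfsgLib.Quad.refl Q u).1 ((CfsgLib.Quad.refl Q v).1 x) = (CfsgLib.Quad.refl Q v).1 ((CfsgLib.Quad.refl Q u).1 x)
    simp only [← CfsgLib.Quad.reflectionMatrix_mulVec, Matrix.mulVec_mulVec, h]
  · refine Matrix.ext_iff_smul.mpr fun x => ?_
    simp only [Matrix.smul_eq_mulVec, ← Matrix.mulVec_mulVec, CfsgLib.Quad.reflectionMatrix_mulVec]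
    exact congrArg (fun g : ↥(CfsgLib.Quad.oGroup Q) => g.1 x) h

end Cfsg.Agent.S5358
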