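import Cfsg.Statements.S5361
import Cfsg.Agent.Spor3T.Simple

set_option autoImplicit false
open Cfsg

namespace Cfsg.Agent.S5361

/-- Let D be a conjugacy class of 3-transpositions generating the finite group G, and suppose the centre of G is trivial and some two different members of D commute. Then the following are equivalent: (1) the commutator subgroup of G is simple (possibly of prime order); (2) G acts primitively on D by conjugation; (3) the largest normal 2-subgroup and the largest normal 3-subgroup of G are trivial and the commuting graph of D is connected. -/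
theorem result {G : Type*} [Group G] [Finite G] {D : Set G} (hD : Cfsg.IsThreeTranspositionClass D) (hZ : Subgroup.center G = ⊥) (hw : ∃ a ∈ D, ∃ b ∈ D, a ≠ b ∧ Commute a b) : (IsSimpleGroup (commutator G) ↔ Cfsg.IsPrimitiveUnderConj D) ∧ (Cfsg.IsPrimitiveUnderConj D ↔ (Cfsg.pCore 2 G = ⊥ ∧ Cfsg.pCore 3 G = ⊥ ∧ (Cfsg.commutingGraph D).Connected)) := by
  
  have hbridge : (Cfsg.commutingGraph D).Connected ↔
      ∀ p q : D, Relation.ReflTransGen (fun p q : D => Commute (p : G) q) p q := by
    constructor
    · intro h p q
      refine (Relation.ReflTransGen.mono (fun s t hst => ?_) _ _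
        (SimpleGraph.reachable_iff_reflTransGen p q |>.mp (h.preconnected p q)))
      obtain ⟨-, h | h⟩ := (SimpleGraph.fromRel_adj _ s t).mp hst
      · exact h
      · exact h.symm
    · intro h
      obtain ⟨a, ha, -⟩ := hw
      haveI : Nonempty D := ⟨⟨a, ha⟩⟩
      refine ⟨fun p q => ?_⟩
      induction h p q with
      | refl => exact SimpleGraph.Reachable.refl _
      | @tail s t _ hst ih =>
        by_cases e : s = t
        · exact e ▸ ih
        · exact ih.trans (SimpleGraph.Adj.reachable ((SimpleGraph.fromRel_adj _ s t).mpr ⟨e, Or.inl hst⟩))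
  have hw' : ∃ a ∈ D, ∃ b ∈ D, a ≠ b := by obtain ⟨a, ha, b, hb, hab, -⟩ := hw; exact ⟨a, ha, b, hb, hab⟩
  refine ⟨⟨fun hsimple => ?_, fun hprim => CfsgLib.ThreeT.simple_of_primitive hD hZ hprim hw⟩,
    fun hprim => ?_, fun ⟨h2, h3, hconn⟩ => ?_⟩
  · have hnonab : ∃ x y : commutator G, x * y ≠ y * x := by
      by_contra hcomm
      push Not at hcomm
      obtain ⟨a, ha, b, hb, hab, hc⟩ := hw
      haveI := hsimple
      have habM : a * b ∈ commutator G := CfsgLib.ThreeT.mul_mem_commutator hD ha hb
      have hne : (⟨a * b, habM⟩ : commutator G) ≠ 1 := fun h => hab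
        ((CfsgLib.ThreeT.inv hD.1 ha).symm.trans (inv_eq_of_mul_eq_one_right (congrArg Subtype.val h)))
      have hn : (Subgroup.zpowers (⟨a * b, habM⟩ : commutator G)).Normal :=
        ⟨fun x hx g => by rw [hcomm g x, mul_inv_cancel_right]; exact hx⟩
      have htop : Subgroup.zpowers (⟨a * b, habM⟩ : commutator G) = ⊤ :=
        (hsimple.eq_bot_or_eq_top_of_normal _ hn).resolve_left fun h => hne
          (Subgroup.mem_bot.mp (h ▸ Subgroup.mem_zpowers _))
      -- then `a` centralises the commutator subgroup, which is thus central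
      have hMc : ∀ m ∈ commutator G, Commute a m := by
        intro m hm
        obtain ⟨i, hi⟩ := Subgroup.mem_zpowers_iff.mp (htop ▸ Subgroup.mem_top (⟨m, hm⟩ : commutator G))
        have hi' : (a * b) ^ i = m := congrArg Subtype.val hi
        exact hi' ▸ ((Commute.refl a).mul_right hc).zpow_right i
      have hle : commutator G ≤ Subgroup.center G := fun m hm => by
        refine CfsgLib.ThreeT.center_of_commute hD fun d hd => ?_
        obtain ⟨g, rfl⟩ := CfsgLib.ThreeT.exists_conj hD ha hd
        have h1 := (CfsgLib.ThreeT.commute_conj_iff g a (g⁻¹ * m * g⁻¹⁻¹)).mpr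
          (hMc _ ((inferInstance : (commutator G).Normal).conj_mem m hm g⁻¹))
        rwa [show g * (g⁻¹ * m * g⁻¹⁻¹) * g⁻¹ = m by group, Commute.symm_iff] at h1
      exact hne (Subtype.ext (Subgroup.mem_bot.mp (hZ ▸ hle habM)))
    have hsol : ∀ N : Subgroup G, N.Normal → Group.IsSolvable N → N = ⊥ := by
      intro N hN hs
      rcases CfsgLib.ThreeT.normal_cases hD hsimple N with h | h
      · exfalso
        haveI := hs
        haveI hMsol : Group.IsSolvable (commutator G) :=
          Group.isSolvable_of_isSolvable_injective (Subgroup.inclusion_injective h)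
        obtain ⟨x, y, hxy⟩ := hnonab
        haveI := hsimple
        exact hxy ((IsSimpleGroup.comm_iff_isSolvable (G := commutator G)).mpr hMsol x y)
      · refine le_bot_iff.mp fun n hn => ?_
        rw [← hZ]
        refine CfsgLib.ThreeT.center_of_commute hD fun d hd => ?_
        have h1 : n * d * n⁻¹ * d⁻¹ = 1 := h _
          (Subgroup.commutator_mem_commutator (Subgroup.mem_top n) (Subgroup.mem_top d))
          (by
            have := mul_mem hn (hN.conj_mem _ (inv_mem hn) d)
            simpa only [mul_assoc] using this)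
        exact mul_inv_eq_iff_eq_mul.mp (mul_inv_eq_one.mp h1)
    exact CfsgLib.ThreeT.primitive_of_connected hD hsol (CfsgLib.ThreeT.connected_both hD hsimple hnonab).2 hw'
  · exact ⟨(CfsgLib.ThreeT.cores_of_primitive hD hZ hprim hw).1, (CfsgLib.ThreeT.cores_of_primitive hD hZ hprim hw).2,
      hbridge.mpr (CfsgLib.ThreeT.connected_of_primitive hD hprim hw)⟩
  · exact CfsgLib.ThreeT.primitive_of_connected hD (CfsgLib.ThreeT.solvable_normal_eq_bot hD hZ h2 h3)
      (hbridge.mp hconn) hw' 

end Cfsg.Agent.S5361
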