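import Cfsg.Statements.S5362
import Cfsg.Agent.Fischer.Disc.Main

set_option autoImplicit false
open scoped MatrixGroups
open Cfsg

namespace Cfsg.Agent.S5362

/-- Let D be a conjugacy class of 3-transpositions generating the finite group G, with trivial centre and trivial largest normal 2- and 3-subgroups, and suppose the commuting graph of D is not connected. Let F be the generalized Fitting subgroup of G. Then G/F is isomorphic to the symmetric group of degree 3, and F is isomorphic either to the commutator subgroup of the isometry group of the hyperbolic quadratic form in dimension 8 over the field with two elements, or to the commutator subgroup of the isometry group of the hyperbolic quadratic form in dimension 8 over the field with three elements modulo its centre. -/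
theorem result {G : Type*} [Group G] [Finite G] {D : Set G} (hD : Cfsg.IsThreeTranspositionClass D) (hZ : Subgroup.center G = ⊥) (h2 : Cfsg.pCore 2 G = ⊥) (h3 : Cfsg.pCore 3 G = ⊥) (hdisc : ¬ (Cfsg.commutingGraph D).Connected) (F : Subgroup G) [F.Normal] (hF : F = Cfsg.generalizedFittingSubgroup G) : Nonempty (G ⧸ F ≃* Equiv.Perm (Fin 3)) ∧ (Nonempty (F ≃* Cfsg.Omega (ZMod 2) (Cfsg.quadFormPlus 4 (ZMod 2))) ∨ Nonempty (F ≃* Cfsg.POmega (ZMod 3) (Cfsg.quadFormPlus 4 (ZMod 3)))) := by
  have hsplit : ∃ a ∈ D, ∃ b ∈ D, CfsgLib.Fischer.comp D a ≠ CfsgLib.Fischer.comp D b := by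
    by_contra hno
    push Not at hno
    obtain ⟨d₀, hd₀, -⟩ := hD.2.1
    have hne : D.Nonempty := ⟨d₀, hd₀⟩
    refine hdisc ((CfsgLib.ThreeT.commutingGraph_connected_iff hne).2 ?_)
    rintro ⟨p, hp⟩ ⟨q, hq⟩
    have key : ∀ y, CfsgLib.Fischer.Link D p y → ∀ (hy : y ∈ D),
        Relation.ReflTransGen (fun p q : D => Commute (p : G) q) ⟨p, hp⟩ ⟨y, hy⟩ := by
      intro y h
      induction h with
      | refl => exact fun _ => Relation.ReflTransGen.refl
      | tail _ hst ih => exact fun ht => (ih hst.1).tail hst.2.2
    exact key q ((hno p hp q hq).ge (CfsgLib.Fischer.mem_comp_self hq)).2 hq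
  have h : CfsgLib.Fischer.Disc D := ⟨hD, hZ, h2, h3, hsplit⟩
  obtain ⟨b, hb, -⟩ := id hsplit
  haveI := h.cder_normal hb
  have e : F = CfsgLib.Fischer.cder D b := hF.trans (h.gfit hb)
  subst e
  exact ⟨h.quot_three hb, (h.kind hb).2⟩

end Cfsg.Agent.S5362
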