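import Cfsg.Statements.S5363
import Cfsg.Agent.Spor3T.Basic

set_option autoImplicit false
open Cfsg

namespace Cfsg.Agent.S5363

/-- Let D be a conjugation-invariant set of involutions of a finite group G. Then every product of two members of D has odd order or order 2 if and only if, for every a in D and every b in D different from a and commuting with a, the members of D commuting with a b are exactly those commuting with both a and b. -/
theorem result {G : Type*} [Group G] [Finite G] {D : Set G} (hinv : ∀ d ∈ D, orderOf d = 2) (hconj : ∀ g : G, ∀ d ∈ D, g * d * g⁻¹ ∈ D) : (∀ a ∈ D, ∀ b ∈ D, Odd (orderOf (a * b)) ∨ orderOf (a * b) = 2) ↔ ∀ a ∈ D, ∀ b ∈ D, b ≠ a → Commute a b → {y : G | y ∈ D ∧ Commute (a * b) y} = {y : G | y ∈ D ∧ Commute a y} ∩ {y : G | y ∈ D ∧ Commute b y} := by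
  constructor
  · intro h a ha b hb hne hab
    ext y
    simp only [Set.mem_setOf_eq, Set.mem_inter_iff]
    refine ⟨?_, fun ⟨⟨hy, h1⟩, ⟨_, h2⟩⟩ => ⟨hy, h1.mul_left h2⟩⟩
    rintro ⟨hy, hc⟩
    have oa := hinv a ha
    have ob := hinv b hb
    have e := CfsgLib.ThreeT.conj_eq_of_commute_mul oa ob hc
    have hay : Commute a y := by
      by_contra hay
      have hby : ¬ Commute b y := by
        intro hby
        apply hay
        show a * y = y * a
        have e1 : a * y * a = y := by
          rw [← e, hby.eq, mul_assoc, CfsgLib.ThreeT.mul_self_of_orderOf ob, mul_one]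
        calc a * y = a * y * a * a := by rw [mul_assoc _ a a, CfsgLib.ThreeT.mul_self_of_orderOf oa, mul_one]
          _ = y * a := by rw [e1]
      have odd_of : ∀ c ∈ D, ¬ Commute c y → Odd (orderOf (c * y)) := by
        intro c hc' hn
        rcases h c hc' y hy with h' | h'
        · exact h'
        · exfalso
          apply hn
          apply CfsgLib.ThreeT.commute_of_sq (hinv c hc') (hinv y hy)
          rw [← h', pow_orderOf_eq_one]
      have root : ∀ u : G, Odd (orderOf u) → ∃ k : ℕ, (u ^ 2) ^ k = u ∧ 2 * k = orderOf u + 1 := by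
        intro u ⟨k, hk⟩
        refine ⟨k + 1, ?_, by omega⟩
        rw [← pow_mul, show 2 * (k + 1) = orderOf u + 1 by omega, pow_succ, pow_orderOf_eq_one, one_mul]
      have hsq : (b * y) ^ 2 = (a * y) ^ 2 := by
        rw [pow_two, pow_two, ← mul_assoc, ← mul_assoc, e]
      obtain ⟨k, hk⟩ := odd_of a ha hay
      obtain ⟨l, hl⟩ := odd_of b hb hby
      have hord : orderOf (b * y) = orderOf (a * y) := by
        rw [← (Nat.coprime_two_right.2 ⟨l, hl⟩).orderOf_pow, ← (Nat.coprime_two_right.2 ⟨k, hk⟩).orderOf_pow, hsq]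
      have key : b * y = a * y := by
        calc b * y = ((b * y) ^ 2) ^ (k + 1) := by
              rw [← pow_mul, show 2 * (k + 1) = orderOf (b * y) + 1 by omega, pow_succ,
                pow_orderOf_eq_one, one_mul]
          _ = ((a * y) ^ 2) ^ (k + 1) := by rw [hsq]
          _ = a * y := by
              rw [← pow_mul, show 2 * (k + 1) = orderOf (a * y) + 1 by omega, pow_succ,
                pow_orderOf_eq_one, one_mul]
      exact hne (mul_right_cancel key)
    refine ⟨⟨hy, hay⟩, hy, ?_⟩
    show b * y = y * b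
    have e1 : b * y * b = y := by
      rw [e, hay.eq, mul_assoc, CfsgLib.ThreeT.mul_self_of_orderOf oa, mul_one]
    calc b * y = b * y * b * b := by rw [mul_assoc _ b b, CfsgLib.ThreeT.mul_self_of_orderOf ob, mul_one]
      _ = y * b := by rw [e1]
  · intro h a ha b hb
    by_contra hcon
    push Not at hcon
    obtain ⟨heven, hne2⟩ := hcon
    rw [Nat.not_odd_iff_even] at heven
    obtain ⟨m, hm⟩ := heven
    have oa := hinv a ha
    have ob := hinv b hb
    have hmpos : 0 < m := by have := orderOf_pos (a * b); omega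
    have hm1 : m ≠ 1 := by omega
    have ia := CfsgLib.ThreeT.inv_eq_of_orderOf oa
    have ib := CfsgLib.ThreeT.inv_eq_of_orderOf ob
    have hinv' : (a * b)⁻¹ = b * a := by rw [mul_inv_rev, ia, ib]
    have inva : ∀ i : ℕ, a * (a * b) ^ i * a = ((a * b) ^ i)⁻¹ := by
      intro i
      have h0 : a * (a * b) * a⁻¹ = (a * b)⁻¹ := by
        rw [hinv', ia]
        calc a * (a * b) * a = (a * a) * b * a := by group
          _ = b * a := by rw [CfsgLib.ThreeT.mul_self_of_orderOf oa, one_mul]
      calc a * (a * b) ^ i * a = a * (a * b) ^ i * a⁻¹ := by rw [ia]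
        _ = (a * (a * b) * a⁻¹) ^ i := conj_pow.symm
        _ = _ := by rw [h0, inv_pow]
    have zz : ((a * b) ^ m)⁻¹ = (a * b) ^ m := by
      apply inv_eq_of_mul_eq_one_right
      rw [← pow_add, ← hm, pow_orderOf_eq_one]
    have hswap : ∀ i : ℕ, a * ((a * b) ^ i)⁻¹ = (a * b) ^ i * a := by
      intro i
      rw [← inva i]
      calc a * (a * (a * b) ^ i * a) = (a * a) * ((a * b) ^ i * a) := by group
        _ = _ := by rw [CfsgLib.ThreeT.mul_self_of_orderOf oa, one_mul]
    have hc : (a * b) ^ m * a ∈ D := by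
      obtain ⟨k, hk⟩ | ⟨k, hk⟩ := Nat.even_or_odd m
      · have h1 := hconj ((a * b) ^ k) a ha
        rw [mul_assoc, hswap k, ← mul_assoc, ← pow_add, ← hk] at h1
        exact h1
      · have haba : a * b * a ∈ D := by
          have := hconj a b hb
          rwa [ia] at this
        have h1 := hconj ((a * b) ^ k) (a * b * a) haba
        have e1 : (a * b) ^ k * (a * b * a) * ((a * b) ^ k)⁻¹ = (a * b) ^ m * a := by
          calc (a * b) ^ k * (a * b * a) * ((a * b) ^ k)⁻¹
              = (a * b) ^ k * (a * b) * (a * ((a * b) ^ k)⁻¹) := by simp only [mul_assoc]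
            _ = (a * b) ^ k * (a * b) * (a * b) ^ k * a := by rw [hswap k]; simp only [mul_assoc]
            _ = _ := by rw [← pow_succ, ← pow_add, show k + 1 + k = m by omega]
        rwa [e1] at h1
    have hca : Commute a ((a * b) ^ m * a) := by
      show a * ((a * b) ^ m * a) = (a * b) ^ m * a * a
      rw [← mul_assoc, inva, zz, mul_assoc, CfsgLib.ThreeT.mul_self_of_orderOf oa, mul_one]
    have hcne : (a * b) ^ m * a ≠ a := by
      intro e
      have : (a * b) ^ m = 1 := mul_eq_right.1 e
      have := Nat.le_of_dvd hmpos (orderOf_dvd_of_pow_eq_one this)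
      omega
    have hset := h a ha _ hc hcne hca
    have hz : a * ((a * b) ^ m * a) = (a * b) ^ m := by rw [← mul_assoc, inva, zz]
    rw [hz] at hset
    have hb' : b ∈ {y : G | y ∈ D ∧ Commute ((a * b) ^ m) y} := by
      refine ⟨hb, ?_⟩
      show (a * b) ^ m * b = b * (a * b) ^ m
      have h1 : (a * b) ^ m * b = ((a * b) ^ m * a) * (a * b) := by
        rw [mul_assoc, CfsgLib.ThreeT.invol_cancel oa]
      have h2 : (a * b) ^ m * a = a * (a * b) ^ m := by
        have := hswap m; rw [zz] at this; exact this.symm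
      calc (a * b) ^ m * b = a * (a * b) ^ m * (a * b) := by rw [h1, h2]
        _ = a * ((a * b) * (a * b) ^ m) := by rw [mul_assoc, ← pow_succ, pow_succ']
        _ = b * (a * b) ^ m := by rw [mul_assoc a b, CfsgLib.ThreeT.invol_cancel oa]
    rw [hset] at hb'
    apply hm1
    have hab : (a * b) ^ 2 = 1 := CfsgLib.ThreeT.sq_of_commute oa ob hb'.1.2
    have := Nat.le_of_dvd (by norm_num) (orderOf_dvd_of_pow_eq_one hab)
    omega

end Cfsg.Agent.S5363
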