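import Cfsg.Statements.S5364
import Cfsg.Agent.Spor3T.Basic

set_option autoImplicit false
open Cfsg

namespace Cfsg.Agent.S5364

/-- Let D be a conjugation-invariant set of involutions of a finite group G and t an involution in the centre of G such that d t does not lie in D for any d in D. If the images of the members of D in G modulo the subgroup generated by t satisfy the 3-transposition order conditions (each has order 2 and any two have product of order at most 3), then so do the members of D. -/
theorem result {G : Type*} [Group G] [Finite G] {D : Set G} (hinv : ∀ d ∈ D, orderOf d = 2) (hconj : ∀ g : G, ∀ d ∈ D, g * d * g⁻¹ ∈ D) (t : G) (ht : orderOf t = 2) (htZ : t ∈ Subgroup.center G) (hDt : ∀ d ∈ D, d * t ∉ D) [(Subgroup.zpowers t).Normal] (himg : Cfsg.IsThreeTranspositionSet ((QuotientGroup.mk : G → G ⧸ Subgroup.zpowers t) '' D)) : Cfsg.IsThreeTranspositionSet D := by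
  refine ⟨hinv, fun d hd e he => ?_⟩
  have od := hinv d hd
  have oe := hinv e he
  have hmem : ∀ x : G, x ∈ Subgroup.zpowers t → x = 1 ∨ x = t := by
    intro x hx
    obtain ⟨k, rfl⟩ := Subgroup.mem_zpowers_iff.1 hx
    rw [← zpow_mod_orderOf, ht]
    rcases Int.emod_two_eq_zero_or_one k with h | h <;> rw [show ((2 : ℕ) : ℤ) = 2 from rfl, h]
    · left; exact zpow_zero t
    · right; exact zpow_one t
  have hq := himg.2 _ ⟨d, hd, rfl⟩ _ ⟨e, he, rfl⟩
  rw [← QuotientGroup.mk_mul, ← QuotientGroup.mk_pow, ← QuotientGroup.mk_pow,
    QuotientGroup.eq_one_iff, QuotientGroup.eq_one_iff] at hq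
  have id' := CfsgLib.ThreeT.inv_eq_of_orderOf od
  have ie := CfsgLib.ThreeT.inv_eq_of_orderOf oe
  have tc : d * t = t * d := Subgroup.mem_center_iff.1 htZ d
  have hede : e * d * e ∈ D := by
    have := hconj e d hd
    rwa [ie] at this
  rcases hq with h | h
  · rcases hmem _ h with h1 | h1
    · exact Or.inl h1
    · exfalso
      apply hDt d hd
      have h2 : d * t = d * ((d * e) ^ 2) := by rw [h1]
      rw [h2, pow_two]
      have : d * (d * e * (d * e)) = e * d * e := by
        calc d * (d * e * (d * e)) = (d * d) * (e * d * e) := by group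
          _ = _ := by rw [CfsgLib.ThreeT.mul_self_of_orderOf od, one_mul]
      rw [this]; exact hede
  · rcases hmem _ h with h1 | h1
    · exact Or.inr h1
    · exfalso
      apply hDt e he
      have h2 : e * t = e * ((d * e) ^ 3) := by rw [h1]
      rw [h2]
      have h3 : e * ((d * e) ^ 3) = (e * d) * (e * d * e) * (e * d)⁻¹ * 1 ∨ True := Or.inr trivial
      have h4 : e * (d * e) ^ 3 = (e * d * e) * d * (e * d * e) := by
        rw [pow_three]; group
      rw [h4]
      have := hconj (e * d * e) d hd
      rw [mul_inv_rev, mul_inv_rev, id', ie, ← mul_assoc e d e] at this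
      exact this

end Cfsg.Agent.S5364
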