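import Cfsg.Statements.S5366
import Cfsg.Agent.Spor3T.FischerMaps
import Cfsg.Agent.Spor3T.Basic

set_option autoImplicit false
open Cfsg

namespace Cfsg.Agent.S5366

/-- Let L be a nondegenerate Fischer space on the point type X (every point on a line). Then for every point x the map t(x) — sending a point collinear with x to the third point of their common line and fixing every other point — is a permutation of X of order 2 and an automorphism of the line system; and the set of all t(x) satisfies the 3-transposition order conditions in the permutation group of X (any two have product of order at most 3). -/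
theorem result {X : Type*} (L : Set (Set X)) (hL : Cfsg.IsFischerSpace L) (hnd : Cfsg.LineSystem.IsNondegenerate L) : (∀ x : X, ∃ σ : Equiv.Perm X, ⇑σ = Cfsg.LineSystem.lineMap L x ∧ orderOf σ = 2 ∧ Cfsg.LineSystem.IsIso L L σ) ∧ Cfsg.IsThreeTranspositionSet {σ : Equiv.Perm X | ∃ x : X, ⇑σ = Cfsg.LineSystem.lineMap L x} := by
  
  have hord : ∀ x : X, orderOf (CfsgLib.ThreeT.Fischer.map_invol hL x).toPerm = 2 := by
    intro x
    refine orderOf_eq_prime (Equiv.ext fun y => by simp [pow_two, CfsgLib.ThreeT.Fischer.map_invol hL x y]) ?_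
    intro h
    obtain ⟨l, hl, hxl⟩ := hnd x
    have h3 := hL.2.1 l hl
    obtain ⟨y, hy, hyx⟩ := Set.exists_ne_of_one_lt_ncard (by omega : 1 < l.ncard) x
    obtain ⟨z, h1, h2, h3', h4, -⟩ := CfsgLib.ThreeT.Fischer.line_third hL hl hxl hy (Ne.symm hyx)
    have := congrArg (fun σ : Equiv.Perm X => σ y) h
    simp [CfsgLib.ThreeT.Fischer.map_eq hL h1 h2 h3' h4] at this
    exact h2 this
  refine ⟨fun x => ⟨_, rfl, hord x, CfsgLib.ThreeT.Fischer.map_isIso hL x⟩, ?_, ?_⟩
  · rintro σ ⟨x, hx⟩
    rw [show σ = (CfsgLib.ThreeT.Fischer.map_invol hL x).toPerm from Equiv.ext fun y => congrFun hx y]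
    exact hord x
  · rintro σ ⟨x, hx⟩ τ ⟨u, hu⟩
    -- the conjugate of one map by another is the map of the image
    have hconj : ∀ a b y : X, Cfsg.LineSystem.lineMap L a (Cfsg.LineSystem.lineMap L b (Cfsg.LineSystem.lineMap L a y)) =
        Cfsg.LineSystem.lineMap L (Cfsg.LineSystem.lineMap L a b) y := fun a b y => by
      rw [CfsgLib.ThreeT.Fischer.map_natural hL a b, CfsgLib.ThreeT.Fischer.map_invol hL a y]
    have hσ2 : ∀ y, σ (σ y) = y := fun y => by rw [hx]; exact CfsgLib.ThreeT.Fischer.map_invol hL x y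
    have hτ2 : ∀ y, τ (τ y) = y := fun y => by rw [hu]; exact CfsgLib.ThreeT.Fischer.map_invol hL u y
    rcases CfsgLib.ThreeT.Fischer.map_cases (L := L) x u with ⟨z, h1, h2, h3, h4, he⟩ | ⟨-, he⟩
    · right
      have hzu : Cfsg.LineSystem.lineMap L u x = z :=
        CfsgLib.ThreeT.Fischer.map_eq hL h2 h1 (Ne.symm h3) (by rwa [Set.insert_comm] at h4)
      have hbraid : ∀ y, σ (τ (σ y)) = τ (σ (τ y)) := fun y => by
        simp only [hx, hu]; rw [hconj x u y, hconj u x y, he, hzu]
      refine Equiv.ext fun y => ?_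
      simp only [pow_three, Equiv.Perm.mul_apply, Equiv.Perm.one_apply]
      rw [hbraid (τ (σ (τ y))), hτ2, hσ2, hτ2]
    · left
      have hcomm : ∀ y, σ (τ (σ y)) = τ y := fun y => by
        simp only [hx, hu]; rw [hconj x u y, he]
      refine Equiv.ext fun y => ?_
      simp only [pow_two, Equiv.Perm.mul_apply, Equiv.Perm.one_apply]
      rw [hcomm, hτ2]

end Cfsg.Agent.S5366
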