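import Cfsg.Statements.S5368
import Cfsg.Agent.Fischer.Theorem

set_option autoImplicit false
open scoped MatrixGroups
open Cfsg

namespace Cfsg.Agent.S5368

/-- Fischer's Theorem on 3-transposition groups. Let D be a conjugacy class of 3-transpositions generating the finite group G, and suppose the centre of G is trivial and the commutator subgroup of G is simple (possibly of prime order). Then one of the following holds: (1) G is isomorphic to a symmetric group with D going to the transpositions; (2) G is isomorphic to a symplectic group over the field with two elements with D going to the transvections (elements g with g − 1 of rank one); (3) G is isomorphic to a projective special unitary group over the field with four elements with D going to the images of the unitary transvections; (4) G is isomorphic to the full isometry group of a hyperbolic or elliptic quadratic form over the field with two elements with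 D going to the orthogonal transvections; (5) G is isomorphic to the subgroup of the isometry group of a non-degenerate quadratic form over the field with three elements generated by the reflections in vectors of a fixed non-zero norm, taken modulo its centre, with D going to the images of those reflections; (6) G with D is of type M(22), M(23) or M(24). -/
theorem result {G : Type*} [Group G] [Finite G] {D : Set G} (hD : Cfsg.IsThreeTranspositionClass D) (hZ : Subgroup.center G = ⊥) (hsimple : IsSimpleGroup (commutator G)) : (∃ n : ℕ, ∃ e : G ≃* Equiv.Perm (Fin n), e '' D = {σ : Equiv.Perm (Fin n) | σ.IsSwap}) ∨ (∃ m : ℕ, ∃ e : G ≃* Matrix.symplecticGroup (Fin m) (ZMod 2), e '' D = {g : Matrix.symplecticGroup (Fin m) (ZMod 2) | ((g : Matrix (Fin m ⊕ Fin m) (Fin m ⊕ Fin m) (ZMod 2)) - 1).rank = 1}) ∨ (∃ (n : ℕ) (F : Type) (_ : Field F) (_ : Fintype F), Fintype.card F = 4 ∧ ∃ e : G ≃* Cfsg.PSU n F 2, e '' D = (QuotientGroup.mk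 : ↥(Cfsg.SU n F 2) → Cfsg.PSU n F 2) '' {g : ↥(Cfsg.SU n F 2) | (((g : Matrix.SpecialLinearGroup (Fin n) F) : Matrix (Fin n) (Fin n) F) - 1).rank = 1}) ∨ ((∃ m : ℕ, ∃ e : G ≃* ↥(Cfsg.isometryGroup (ZMod 2) (Cfsg.quadFormPlus m (ZMod 2))), e '' D = {g : ↥(Cfsg.isometryGroup (ZMod 2) (Cfsg.quadFormPlus m (ZMod 2))) | (((g : GL (Fin m ⊕ Fin m) (ZMod 2)) : Matrix (Fin m ⊕ Fin m) (Fin m ⊕ Fin m) (ZMod 2)) - 1).rank = 1}) ∨ (∃ m : ℕ, ∃ e : G ≃* ↥(Cfsg.isometryGroup (ZMod 2) (Cfsg.quadFormMinus m (ZMod 2) 1 1)), e '' D = {g : ↥(Cfsg.isometryGroup (ZMod 2) (Cfsg.quadFormMinus m (ZMod 2) 1 1)) | (((g : GL ((Fin m ⊕ Fin m) ⊕ Fin 2) (ZMod 2)) : Matrix ((Fin m ⊕ Fin m) ⊕ Fin 2) ((Fin m ⊕ Fin m) ⊕ Fin 2) (ZMod 2)) - 1).rank = 1})) ∨ (∃ n : ℕ, ∃ Q : QuadraticForm (ZMod 3) (Fin n → ZMod 3), (QuadraticMap.polarBilin Q).Nondegenerate ∧ ∃ c : ZMod 3, c ≠ 0 ∧ ∃ e : G ≃* ↥(Cfsg.reflectionSubgroup (⇑Q) c) ⧸ Subgroup.center ↥(Cfsg.reflectionSubgroup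 (⇑Q) c), e '' D = (QuotientGroup.mk : ↥(Cfsg.reflectionSubgroup (⇑Q) c) → _) '' {g : ↥(Cfsg.reflectionSubgroup (⇑Q) c) | (g : ↥(Cfsg.isometryGroup (ZMod 3) (⇑Q))) ∈ Cfsg.reflectionsOfNorm (⇑Q) c}) ∨ (Cfsg.IsOfTypeM22 G D ∨ Cfsg.IsOfTypeM23 G D ∨ Cfsg.IsOfTypeM24 G D) := by
  classical
  haveI := hsimple
  by_cases hab : ∀ a b : commutator G, a * b = b * a
  · exact Or.inl ⟨3, CfsgLib.Fischer.sym_three hD hZ hab⟩
  have h : CfsgLib.Fischer.Fi D := CfsgLib.Fischer.fi_of_simple hD hZ hab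
  have hne : D.Nonempty := let ⟨a, ha, _⟩ := h.width; ⟨a, ha⟩
  have rc : ∀ {n : ℕ} {μ : ZMod 3}, CfsgLib.Fischer.RCo D n μ → ∃ n : ℕ, ∃ Q : QuadraticForm (ZMod 3) (Fin n → ZMod 3),
      (QuadraticMap.polarBilin Q).Nondegenerate ∧ ∃ c : ZMod 3, c ≠ 0 ∧ ∃ e : G ≃* ↥(Cfsg.reflectionSubgroup (⇑Q) c) ⧸
        Subgroup.center ↥(Cfsg.reflectionSubgroup (⇑Q) c), e '' D = (QuotientGroup.mk :
        ↥(Cfsg.reflectionSubgroup (⇑Q) c) → _) '' {g : ↥(Cfsg.reflectionSubgroup (⇑Q) c) |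
          (g : ↥(Cfsg.isometryGroup (ZMod 3) (⇑Q))) ∈ Cfsg.reflectionsOfNorm (⇑Q) c} := by
    intro n μ hs
    obtain ⟨Q, hQ, -, e, hee⟩ := CfsgLib.Fischer.refl_model h.cls hZ hs
    exact ⟨n, Q, hQ, 1, one_ne_zero, e, hee⟩
  by_cases ho : ∀ x ∈ D, Cfsg.oddCore ↥(Subgroup.closure (CfsgLib.ThreeT.Prod.nb D x)) ≤
      Subgroup.center ↥(Subgroup.closure (CfsgLib.ThreeT.Prod.nb D x))
  swap
  · push Not at ho
    obtain ⟨x, hx, ho⟩ := ho
    exact Or.inl ⟨5, CfsgLib.Fischer.sym_model hD hZ (by norm_num) (CfsgLib.Fischer.start_five h hx ho)⟩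
  by_cases h2 : ∀ x ∈ D, Cfsg.pCore 2 ↥(Subgroup.closure (CfsgLib.ThreeT.Prod.nb D x)) ≤
      Subgroup.center ↥(Subgroup.closure (CfsgLib.ThreeT.Prod.nb D x))
  swap
  · push Not at h2
    obtain ⟨x, hx, h2⟩ := h2
    rcases CfsgLib.Fischer.start_tv h hx h2 with ⟨m, hm, h'⟩ | ⟨n, hn, K, i1, i2, hK, φ, f⟩
    · exact Or.inr (Or.inl ⟨m, CfsgLib.Fischer.symp_model hD hZ hne (by omega) h'⟩)
    · exact Or.inr (Or.inr (Or.inl ⟨n, K, i1, i2, hK, CfsgLib.Fischer.uni_model hK hn hD hZ hne f⟩))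
  have hgood : ∀ a ∈ D, CfsgLib.Fischer.NoTwins (CfsgLib.ThreeT.Prod.nb D a) ∧
      CfsgLib.Fischer.Fi (CfsgLib.Fischer.qimg (CfsgLib.ThreeT.Prod.nb D a)) := fun a ha =>
    h.local_fi ha (h2 a ha) (ho a ha)
  cases CfsgLib.Fischer.stepped_of_good h hgood with
  | sym m hm hs => exact Or.inl ⟨m, CfsgLib.Fischer.sym_model hD hZ (by omega) hs⟩
  | quad m hm hs =>
    obtain ⟨k, rfl⟩ : ∃ k, m = k + 1 := ⟨m - 1, by omega⟩
    rcases CfsgLib.Fischer.quad_normal hs with ⟨φ, f⟩ | ⟨φ, f⟩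
    · exact Or.inr (Or.inr (Or.inr (Or.inl (Or.inl ⟨k + 1, CfsgLib.Fischer.plus_model (by omega) hD hZ f⟩))))
    · exact Or.inr (Or.inr (Or.inr (Or.inl (Or.inr ⟨k, CfsgLib.Fischer.minus_model (by omega) hD hZ f⟩))))
  | refl n hn μ hs => exact Or.inr (Or.inr (Or.inr (Or.inr (Or.inl (rc hs)))))
  | t22 hs => exact Or.inr (Or.inr (Or.inr (Or.inr (Or.inr (Or.inl (CfsgLib.Fischer.type22 h hs))))))
  | t23 hs => exact Or.inr (Or.inr (Or.inr (Or.inr (Or.inr (Or.inr (Or.inl (CfsgLib.Fischer.type23 h hs)))))))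
  | t24 hs => exact Or.inr (Or.inr (Or.inr (Or.inr (Or.inr (Or.inr (Or.inr (CfsgLib.Fischer.type24 h hgood hs)))))))

end Cfsg.Agent.S5368
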