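import Cfsg.Statements.S5369
import Cfsg.Agent.Fischer.Types

set_option autoImplicit false
open scoped MatrixGroups
open Cfsg

namespace Cfsg.Agent.S5369

/-- Let D be a conjugation-invariant generating set of 3-transpositions of the finite group G on which G acts primitively by conjugation, with trivial centre; let d be a member of D commuting with some other member of D (width at least 2), and let H be the subgroup generated by the members of D other than d commuting with d; suppose the largest normal 3-subgroup and the largest normal 2-subgroup of H are central in H. Then one of the following holds: G is isomorphic to a symmetric group of degree at least 7 with D going to the transpositions; G is isomorphic to the full isometry group of a hyperbolic or elliptic quadratic form in dimension at least 6 over the field with two elements with D going to the orthogonal transvections; G is isomorphic to the reflection group of a non-degenerate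 quadratic form in dimension at least 5 over the field with three elements for one non-zero norm, modulo its centre, with D going to the images of those reflections; or G with D is of type M(22), M(23) or M(24). -/
theorem result {G : Type*} [Group G] [Finite G] {D : Set G} (hD : Cfsg.IsThreeTranspositionGroup D) (hprim : Cfsg.IsPrimitiveUnderConj D) (hZ : Subgroup.center G = ⊥) (d : G) (hd : d ∈ D) (hw : ∃ b ∈ D, b ≠ d ∧ Commute d b) (h3 : Cfsg.pCore 3 ↥(Subgroup.closure {y : G | y ∈ D ∧ y ≠ d ∧ Commute d y}) ≤ Subgroup.center ↥(Subgroup.closure {y : G | y ∈ D ∧ y ≠ d ∧ Commute d y})) (h2 : Cfsg.pCore 2 ↥(Subgroup.closure {y : G | y ∈ D ∧ y ≠ d ∧ Commute d y}) ≤ Subgroup.center ↥(Subgroup.closure {y : G | y ∈ D ∧ y ≠ d ∧ Commute d y})) : (∃ n : ℕ, 7 ≤ n ∧ ∃ e : G ≃* Equiv.Perm (Fin n), e '' D = {σ : Equiv.Perm (Fin n) | σ.IsSwap}) ∨ ((∃ m : ℕ, 3 ≤ m ∧ ∃ e : G ≃* ↥(Cfsg.isometryGroup (ZMod 2) (Cfsg.quadFormPlus m (ZMod 2))), e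 '' D = {g : ↥(Cfsg.isometryGroup (ZMod 2) (Cfsg.quadFormPlus m (ZMod 2))) | (((g : GL (Fin m ⊕ Fin m) (ZMod 2)) : Matrix (Fin m ⊕ Fin m) (Fin m ⊕ Fin m) (ZMod 2)) - 1).rank = 1}) ∨ (∃ m : ℕ, 2 ≤ m ∧ ∃ e : G ≃* ↥(Cfsg.isometryGroup (ZMod 2) (Cfsg.quadFormMinus m (ZMod 2) 1 1)), e '' D = {g : ↥(Cfsg.isometryGroup (ZMod 2) (Cfsg.quadFormMinus m (ZMod 2) 1 1)) | (((g : GL ((Fin m ⊕ Fin m) ⊕ Fin 2) (ZMod 2)) : Matrix ((Fin m ⊕ Fin m) ⊕ Fin 2) ((Fin m ⊕ Fin m) ⊕ Fin 2) (ZMod 2)) - 1).rank = 1})) ∨ (∃ n : ℕ, 5 ≤ n ∧ ∃ Q : QuadraticForm (ZMod 3) (Fin n → ZMod 3), (QuadraticMap.polarBilin Q).Nondegenerate ∧ ∃ c : ZMod 3, c ≠ 0 ∧ ∃ e : G ≃* ↥(Cfsg.reflectionSubgroup (⇑Q) c) ⧸ Subgroup.center ↥(Cfsg.reflectionSubgroup (⇑Q) c), e '' D = (QuotientGroup.mk : ↥(Cfsg.reflectionSubgroup (⇑Q) c) → _) '' {g : ↥(Cfsg.reflectionSubgroup (⇑Q) c) | (g : ↥(Cfsg.isometryGroup (ZMod 3) (⇑Q))) ∈ Cfsg.reflectionsOfNorm (⇑Q) c}) ∨ (Cfsg.IsOfTypeM22 G D ∨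 Cfsg.IsOfTypeM23 G D ∨ Cfsg.IsOfTypeM24 G D) := by
  classical
  have hne : D.Nonempty := ⟨d, hd⟩
  obtain ⟨b, hb, hbd, hdb⟩ := hw
  have h : CfsgLib.Fischer.Fi D := by
    refine ⟨⟨hD.1, ⟨d, hd, Set.ext fun e => ⟨fun he => ?_, fun he => ?_⟩⟩, hD.2.2⟩, hZ, hprim,
      d, hd, b, hb, fun e => hbd e.symm, hdb⟩
    · exact isConj_iff.2 (hprim.1 d hd e he)
    · obtain ⟨g, rfl⟩ := isConj_iff.1 (show IsConj d e from he)
      exact hD.2.1 g d hd
  have ho : Cfsg.oddCore ↥(Subgroup.closure (CfsgLib.ThreeT.Prod.nb D d)) ≤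
      Subgroup.center ↥(Subgroup.closure (CfsgLib.ThreeT.Prod.nb D d)) := by
    by_contra hn
    exact CfsgLib.ThreeT.three_core_of_odd_core (h.hclass hd) hn h3
  obtain ⟨htw, he⟩ := h.nb_good hd h2 ho
  have hgood := CfsgLib.Fischer.good_all h hd htw he
  cases CfsgLib.Fischer.stepped_of_good h hgood with
  | sym m hm hs =>
    obtain ⟨e, hee⟩ := CfsgLib.Fischer.sym_model h.cls hZ (by omega) hs
    exact Or.inl ⟨m, hm, e, hee⟩
  | quad m hm hs =>
    obtain ⟨k, rfl⟩ : ∃ k, m = k + 1 := ⟨m - 1, by omega⟩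
    rcases CfsgLib.Fischer.quad_normal hs with ⟨φ, f⟩ | ⟨φ, f⟩
    · exact Or.inr (Or.inl (Or.inl ⟨k + 1, by omega, CfsgLib.Fischer.plus_model (by omega) h.cls hZ f⟩))
    · exact Or.inr (Or.inl (Or.inr ⟨k, by omega, CfsgLib.Fischer.minus_model (by omega) h.cls hZ f⟩))
  | refl n hn μ hs =>
    obtain ⟨Q, hQ, -, e, hee⟩ := CfsgLib.Fischer.refl_model h.cls hZ hs
    exact Or.inr (Or.inr (Or.inl ⟨n, hn, Q, hQ, 1, one_ne_zero, e, hee⟩))
  | t22 hs => exact Or.inr (Or.inr (Or.inr (Or.inl (CfsgLib.Fischer.type22 h hs))))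
  | t23 hs => exact Or.inr (Or.inr (Or.inr (Or.inr (Or.inl (CfsgLib.Fischer.type23 h hs)))))
  | t24 hs => exact Or.inr (Or.inr (Or.inr (Or.inr (Or.inr (CfsgLib.Fischer.type24 h hgood hs)))))

end Cfsg.Agent.S5369
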