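import Cfsg.Statements.S5372
import Cfsg.Agent.Spor3T.M24Unique
import Cfsg.Agent.S5371
import Cfsg.Agent.Solvable.Basics

set_option autoImplicit false
open Cfsg

namespace Cfsg.Agent.S5372

theorem core_le {X : Type*} [Group X] [Finite X] (hX : Cfsg.IsQuasisimple X) (p : ℕ) [Fact p.Prime] :
    Cfsg.pCore p X ≤ Subgroup.center X := by
  refine (CfsgLib.Comp.quasisimple_normal hX (CfsgLib.Solvable.pCore_spec p).1).resolve_left fun h => ?_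
  have hp : IsPGroup p X := by
    have := (CfsgLib.Solvable.pCore_spec (G := X) p).2
    rw [h] at this
    exact this.of_equiv Subgroup.topEquiv
  haveI := hp.isNilpotent
  exact CfsgLib.Comp.quasisimple_not_solvable hX inferInstance

/-- Uniqueness of the 3-transposition groups of type M(24). Let G₁ and G₂ be finite groups with trivial centres, each generated by a conjugation-invariant set of 3-transpositions Dᵢ on which it acts primitively, such that for some member d of Dᵢ the subgroup generated by the members of Dᵢ other than d commuting with d has central largest normal 2- and 3-subgroups, and suppose each Gᵢ with Dᵢ is of type M(24). Then there is an isomorphism from G₁ to G₂ carrying D₁ onto D₂. -/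
theorem result {G₁ G₂ : Type*} [Group G₁] [Finite G₁] [Group G₂] [Finite G₂] {D₁ : Set G₁} {D₂ : Set G₂} (hD₁ : Cfsg.IsThreeTranspositionGroup D₁) (hprim₁ : Cfsg.IsPrimitiveUnderConj D₁) (hZ₁ : Subgroup.center G₁ = ⊥) (d₁ : G₁) (hd₁ : d₁ ∈ D₁) (h3₁ : Cfsg.pCore 3 ↥(Subgroup.closure {y : G₁ | y ∈ D₁ ∧ y ≠ d₁ ∧ Commute d₁ y}) ≤ Subgroup.center ↥(Subgroup.closure {y : G₁ | y ∈ D₁ ∧ y ≠ d₁ ∧ Commute d₁ y})) (h2₁ : Cfsg.pCore 2 ↥(Subgroup.closure {y : G₁ | y ∈ D₁ ∧ y ≠ d₁ ∧ Commute d₁ y}) ≤ Subgroup.center ↥(Subgroup.closure {y : G₁ | y ∈ D₁ ∧ y ≠ d₁ ∧ Commute d₁ y})) (hD₂ : Cfsg.IsThreeTranspositionGroup D₂) (hprim₂ : Cfsg.IsPrimitiveUnderConj D₂) (hZ₂ : Subgroup.center G₂ = ⊥) (d₂ : G₂) (hd₂ : d₂ ∈ D₂) (h3₂ : Cfsg.pCore 3 ↥(Subgroup.closure {y : G₂ | y ∈ D₂ ∧ y ≠ d₂ ∧ Commute d₂ y}) ≤ Subgroup.center ↥(Subgroup.closure {y : G₂ | y ∈ D₂ ∧ y ≠ d₂ ∧ Commute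 d₂ y})) (h2₂ : Cfsg.pCore 2 ↥(Subgroup.closure {y : G₂ | y ∈ D₂ ∧ y ≠ d₂ ∧ Commute d₂ y}) ≤ Subgroup.center ↥(Subgroup.closure {y : G₂ | y ∈ D₂ ∧ y ≠ d₂ ∧ Commute d₂ y})) (ht₁ : Cfsg.IsOfTypeM24 G₁ D₁) (ht₂ : Cfsg.IsOfTypeM24 G₂ D₂) : ∃ e : G₁ ≃* G₂, e '' D₁ = D₂ := by
  obtain ⟨a₁, P₁⟩ := CfsgLib.ThreeT.Prod.exists_point24 hD₁ hprim₁ ht₁
  obtain ⟨a₂, P₂⟩ := CfsgLib.ThreeT.Prod.exists_point24 hD₂ hprim₂ ht₂
  obtain ⟨b₁, Q₁⟩ := P₁.below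
  obtain ⟨b₂, Q₂⟩ := P₂.below
  haveI : Fact (Nat.Prime 2) := ⟨Nat.prime_two⟩
  haveI : Fact (Nat.Prime 3) := ⟨Nat.prime_three⟩
  have q₁ := CfsgLib.ThreeT.Prod.quasi23 Q₁ Q₁.mem
  have q₂ := CfsgLib.ThreeT.Prod.quasi23 Q₂ Q₂.mem
  obtain ⟨e, he⟩ := Cfsg.Agent.S5371.result P₁.group P₁.prim Q₁.base.center b₁ Q₁.mem
    (core_le q₁ 3) (core_le q₁ 2) P₂.group P₂.prim Q₂.base.center b₂ Q₂.mem (core_le q₂ 3) (core_le q₂ 2)
    P₁.type P₂.type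
  exact CfsgLib.ThreeT.Prod.exists_iso_m24 P₁ P₂ e he

end Cfsg.Agent.S5372
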