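import Cfsg.Statements.S5380
import Cfsg.Statements.S5380
import Cfsg.Agent.SuzThree.Main

set_option autoImplicit false
open Cfsg

namespace Cfsg.Agent.S5380

/-- Let G be a finite group of Suzuki sporadic type (involution z with generalized Fitting subgroup Q of its centralizer C extraspecial of order 2^7, C/Q the commutator subgroup of the isometry group of the elliptic quadratic form in dimension 6 over the field with two elements, z not weakly closed in Q), and let Y be a subgroup of C of order 3 whose commutator subgroup with Q is non-abelian of order 8 (a quaternion group). Then the centralizer of Y in G is quasisimple, its quotient by Y is isomorphic to the projective special unitary group of dimension 4 over the field with nine elements, and the centralizer of Y has index 2 in the normalizer of Y. -/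
theorem result {G : Type*} [Group G] [Finite G] (z : G) (hz : orderOf z = 2) (Q : Subgroup (Subgroup.centralizer ({z} : Set G))) [Q.Normal] (hF : Cfsg.generalizedFittingSubgroup (Subgroup.centralizer ({z} : Set G)) = Q) (hQ : Cfsg.IsExtraspecial 2 Q) (hcard : Nat.card Q = 2 ^ 7) (e : (Subgroup.centralizer ({z} : Set G)) ⧸ Q ≃* Cfsg.Omega (ZMod 2) (Cfsg.quadFormMinus 2 (ZMod 2) 1 1)) (hnwc : ∃ g : G, (∃ hq : g * z * g⁻¹ ∈ Subgroup.centralizer ({z} : Set G), (⟨g * z * g⁻¹, hq⟩ : Subgroup.centralizer ({z} : Set G)) ∈ Q) ∧ g * z * g⁻¹ ≠ z) (Y : Subgroup (Subgroup.centralizer ({z} : Set G))) (hY : Nat.card Y = 3) (hQY : Nat.card ↥⁅Q, Y⁆ = 8) (hQYna : ¬ IsMulCommutative ↥⁅Q, Y⁆) [((Y.map (Subgroup.subtype (Subgroup.centralizer ({z} : Set G)))).subgroupOf (Subgroup.centralizer ((Y.map (Subgroup.subtype (Subgroup.centralizer ({z} : Set G)))) : Set G))).Normal] (K : Type) [Field K] [Fintype K] (hK : Fintype.card K = 9) : Cfsg.IsQuasisimple ↥(Subgroup.centralizer ((Y.map (Subgroup.subtype (Subgroup.centralizer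 ({z} : Set G)))) : Set G)) ∧ Nonempty (↥(Subgroup.centralizer ((Y.map (Subgroup.subtype (Subgroup.centralizer ({z} : Set G)))) : Set G)) ⧸ (Y.map (Subgroup.subtype (Subgroup.centralizer ({z} : Set G)))).subgroupOf (Subgroup.centralizer ((Y.map (Subgroup.subtype (Subgroup.centralizer ({z} : Set G)))) : Set G)) ≃* Cfsg.PSU 4 K 3) ∧ (Subgroup.centralizer ((Y.map (Subgroup.subtype (Subgroup.centralizer ({z} : Set G)))) : Set G)).relIndex (Subgroup.normalizer ((Y.map (Subgroup.subtype (Subgroup.centralizer ({z} : Set G)))) : Set G)) = 2 := by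
  classical
  obtain ⟨g₀, ⟨hq₀, hmem₀⟩, hne₀⟩ := hnwc
  obtain ⟨D, hD⟩ := CfsgLib.SuzInvol.exists_dat hz Q hF hQ hcard e
  haveI : Fact (Nat.Prime 3) := ⟨Nat.prime_three⟩
  haveI : Finite Y := inferInstance
  obtain ⟨yC, hyC⟩ : ∃ y : ↥Y, y ≠ 1 := by
    by_contra h
    push Not at h
    haveI : Subsingleton Y := ⟨fun a b => by rw [h a, h b]⟩
    rw [Nat.card_unique] at hY
    omega
  set y : G := ((yC : Subgroup.centralizer ({z} : Set G)) : G) with hy
  have hy1 : y ≠ 1 := fun h => hyC (Subtype.ext (Subtype.ext h))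
  have hyC' : y ∈ Subgroup.centralizer ({z} : Set G) := (yC : Subgroup.centralizer ({z} : Set G)).2
  have hord : orderOf yC = 3 := orderOf_eq_prime (by rw [← hY]; exact pow_card_eq_one') hyC
  have hy3 : y ^ 3 = 1 := by
    have h : yC ^ 3 = 1 := by rw [← hord]; exact pow_orderOf_eq_one yC
    exact congrArg (fun t : Y => ((t : Subgroup.centralizer ({z} : Set G)) : G)) h
  have hYc : Y.map (Subgroup.subtype (Subgroup.centralizer ({z} : Set G))) = Subgroup.zpowers y := by
    refine (Subgroup.eq_of_le_of_card_ge ?_ ?_).symm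
    · rw [Subgroup.zpowers_le]
      exact ⟨yC, yC.2, rfl⟩
    · rw [Subgroup.card_map_of_injective (Subgroup.centralizer ({z} : Set G)).subtype_injective, hY,
        Nat.card_zpowers, hy, Subgroup.orderOf_coe, Subgroup.orderOf_coe, hord]
  have hrange : Nat.card (Set.range fun m : CfsgLib.SuzInvol.M6 => (CfsgLib.SuzThree.actG D y).1 m + m) ≤ 8 := by
    set S := ⁅Q, Y⁆.map (Subgroup.subtype (Subgroup.centralizer ({z} : Set G))) with hS
    have hSc : Nat.card S = 8 := by
      rw [hS, Subgroup.card_map_of_injective (Subgroup.centralizer ({z} : Set G)).subtype_injective, hQY]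
    have hpre : ∀ m : CfsgLib.SuzInvol.M6, ∃ t ∈ S, D.π t = (CfsgLib.SuzThree.actG D y).1 m + m := by
      intro m
      obtain ⟨q, hq, rfl⟩ := D.π_surj m
      have hq' := hq
      rw [hD] at hq'
      obtain ⟨qC, hqC, hqe⟩ := hq'
      refine ⟨y * q * y⁻¹ * q⁻¹, ?_, ?_⟩
      · refine ⟨(yC : Subgroup.centralizer ({z} : Set G)) * qC * (yC : Subgroup.centralizer ({z} : Set G))⁻¹ * qC⁻¹,
          ?_, by rw [← hqe]; rfl⟩
        rw [Subgroup.commutator_comm]
        exact Subgroup.commutator_mem_commutator yC.2 hqC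
      · rw [D.π_mul _ (CfsgLib.SuzThree.conj_mem_Q D hyC' hq) _ (inv_mem hq), CfsgLib.SuzInvol.π_inv D hq,
          CfsgLib.SuzThree.actG_π D hyC' hq]
    choose t ht hte using hpre
    let f : S → CfsgLib.SuzInvol.M6 := fun s => D.π s.1
    have hsub : (Set.range fun m : CfsgLib.SuzInvol.M6 => (CfsgLib.SuzThree.actG D y).1 m + m) ⊆ Set.range f := by
      rintro _ ⟨m, rfl⟩
      exact ⟨⟨t m, ht m⟩, hte m⟩
    calc Nat.card (Set.range fun m : CfsgLib.SuzInvol.M6 => (CfsgLib.SuzThree.actG D y).1 m + m)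
        ≤ Nat.card (Set.range f) := Nat.card_mono (Set.finite_range f) hsub
      _ ≤ Nat.card S := Finite.card_range_le f
      _ = 8 := hSc
  obtain ⟨D', -, T⟩ := CfsgLib.SuzThree.exists_three D hyC' hy3 hy1 hrange
    ⟨g₀, by rw [hD]; exact ⟨⟨_, hq₀⟩, hmem₀, rfl⟩, hne₀⟩
  exact CfsgLib.SuzThree.main T _ hYc K hK

end Cfsg.Agent.S5380
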