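import Cfsg.Statements.S5385
import Cfsg.Agent.Co1Five.Main

set_option autoImplicit false
open Cfsg

namespace Cfsg.Agent.S5385

/-- Let G be a finite group of Conway type (involution z with generalized Fitting subgroup Q of its centralizer C extraspecial of order 2^9, C/Q the commutator subgroup of the isometry group of the hyperbolic quadratic form in dimension 8 over the field with two elements, z not weakly closed in Q), and let B be a subgroup of C of order 5 such that the centralizer of B in Q is extraspecial of order 32 containing no elementary abelian subgroup of order 8 (the quaternion-times-dihedral type). Then the layer L of the centralizer of B in G is isomorphic to the Hall–Janko group and the centralizer of L is isomorphic to the alternating group of degree 5. -/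
theorem result {G : Type*} [Group G] [Finite G] (z : G) (hz : orderOf z = 2) (Q : Subgroup (Subgroup.centralizer ({z} : Set G))) [Q.Normal] (hF : Cfsg.generalizedFittingSubgroup (Subgroup.centralizer ({z} : Set G)) = Q) (hQ : Cfsg.IsExtraspecial 2 Q) (hcard : Nat.card Q = 2 ^ 9) (e : (Subgroup.centralizer ({z} : Set G)) ⧸ Q ≃* Cfsg.Omega (ZMod 2) (Cfsg.quadFormPlus 4 (ZMod 2))) (hnwc : ∃ g : G, (∃ hq : g * z * g⁻¹ ∈ Subgroup.centralizer ({z} : Set G), (⟨g * z * g⁻¹, hq⟩ : Subgroup.centralizer ({z} : Set G)) ∈ Q) ∧ g * z * g⁻¹ ≠ z) (B : Subgroup (Subgroup.centralizer ({z} : Set G))) (hB : Nat.card B = 5) (hCQ : Cfsg.IsExtraspecial 2 ↥(Q ⊓ Subgroup.centralizer (B : Set (Subgroup.centralizer ({z} : Set G))))) (hCQcard : Nat.card ↥(Q ⊓ Subgroup.centralizer (B : Set (Subgroup.centralizer ({z} : Set G)))) = 32) (hminus : ∀ A : Subgroup (Subgroup.centralizer ({z} : Set G)), A ≤ Q ⊓ Subgroup.centralizer (B : Set (Subgroup.centralizer ({z} : Set G))) → Cfsg.IsElementaryAbelian 2 A →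 Nat.card A ≤ 4) : Cfsg.Spor.IsoJ2 ↥(Cfsg.layer ↥(Subgroup.centralizer ((B.map (Subgroup.subtype (Subgroup.centralizer ({z} : Set G)))) : Set G))) ∧ Nonempty (↥(Subgroup.centralizer (((Cfsg.layer ↥(Subgroup.centralizer ((B.map (Subgroup.subtype (Subgroup.centralizer ({z} : Set G)))) : Set G))).map (Subgroup.subtype _)) : Set G)) ≃* alternatingGroup (Fin 5)) := by
  classical
  obtain ⟨D, hDQ⟩ := CfsgLib.Co1Invol.exists_dat hz Q hF hQ hcard e
  haveI : Fact (Nat.Prime 5) := ⟨by norm_num⟩
  haveI : Finite B := inferInstance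
  obtain ⟨⟨bC, hbB⟩, hbo⟩ := exists_prime_orderOf_dvd_card' (G := B) 5 (dvd_of_eq hB.symm)
  rw [← Subgroup.orderOf_coe] at hbo
  simp only at hbo
  have hgen : B = Subgroup.zpowers bC := (Subgroup.eq_of_le_of_card_ge (Subgroup.zpowers_le.2 hbB)
    (by rw [Nat.card_zpowers, hbo, hB])).symm
  set b : G := (bC : G) with hb
  have hb5 : b ^ 5 = 1 := by
    rw [← hbo, hb, ← Subgroup.orderOf_coe]; exact pow_orderOf_eq_one _
  have hb1 : b ≠ 1 := fun h => by
    have : bC = 1 := Subtype.ext h
    rw [this, orderOf_one] at hbo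
    norm_num at hbo
  have hmapB : B.map (Subgroup.subtype (Subgroup.centralizer ({z} : Set G))) = Subgroup.zpowers b := by
    rw [hgen, MonoidHom.map_zpowers]; rfl
  have hcent : Subgroup.centralizer ((B.map (Subgroup.subtype (Subgroup.centralizer ({z} : Set G)))) : Set G) =
      Subgroup.centralizer ({b} : Set G) := by
    rw [hmapB, Subgroup.zpowers_eq_closure, Subgroup.centralizer_closure]
  rw [hcent]
  obtain ⟨g₀, ⟨hq₀, hg₀Q⟩, hg₀⟩ := hnwc
  -- the fixed points of the element on the extraspecial group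
  set R := Q ⊓ Subgroup.centralizer (B : Set (Subgroup.centralizer ({z} : Set G))) with hR
  have hmemR : ∀ q : G, q ∈ R.map (Subgroup.centralizer ({z} : Set G)).subtype ↔ q ∈ D.Q ∧ b * q = q * b := by
    intro q
    constructor
    · rintro ⟨w, hw, rfl⟩
      refine ⟨hDQ ▸ Subgroup.mem_map_of_mem _ hw.1, ?_⟩
      exact congrArg Subtype.val (Subgroup.mem_centralizer_iff.1 hw.2 bC hbB)
    · rintro ⟨hq, hc⟩
      rw [hDQ] at hq
      obtain ⟨w, hw, rfl⟩ := hq
      refine ⟨w, ⟨hw, ?_⟩, rfl⟩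
      rw [hgen, Subgroup.zpowers_eq_closure, Subgroup.centralizer_closure]
      exact Subgroup.mem_centralizer_iff.2 fun h hh => (Set.mem_singleton_iff.1 hh) ▸ Subtype.ext hc
  obtain ⟨q, hq, hq1, hqz⟩ : ∃ q ∈ R.map (Subgroup.centralizer ({z} : Set G)).subtype, q ≠ 1 ∧ q ≠ z := by
    by_contra hno
    push Not at hno
    have hle : R.map (Subgroup.centralizer ({z} : Set G)).subtype ≤ Subgroup.zpowers z := fun q hq => by
      by_cases h1 : q = 1
      · exact h1 ▸ one_mem _
      · exact hno q hq h1 ▸ Subgroup.mem_zpowers z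
    have h := Subgroup.card_le_of_le hle
    rw [Subgroup.card_map_of_injective (Subgroup.subtype_injective _), hCQcard, Nat.card_zpowers, hz] at h
    omega
  obtain ⟨hqQ, hqb⟩ := (hmemR q).1 hq
  obtain ⟨h, F⟩ := CfsgLib.Co1Five.exists_five D bC.2 hb5 hb1
    ⟨q, hqQ, hqb, fun h0 => ((D.π_eq_zero q hqQ).1 h0).elim hq1 hqz⟩
  have hQ1 : CfsgLib.Co1Five.Q1 (CfsgLib.Co1Five.twist D h) =
      R.map (Subgroup.centralizer ({z} : Set G)).subtype := by
    ext q
    rw [hmemR]
    exact ⟨fun hq => ⟨hq.1, (F.mem_Q1 hq.1).2 hq⟩, fun hq => (F.mem_Q1 hq.1).1 hq.2⟩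
  have h₀ : g₀ * z * g₀⁻¹ ∈ (CfsgLib.Co1Five.twist D h).Q := by
    show g₀ * z * g₀⁻¹ ∈ D.Q
    rw [hDQ]; exact ⟨_, hg₀Q, rfl⟩
  refine F.structure_thm h₀ hg₀ ?_ ?_
  · rw [hQ1]
    exact CfsgLib.LargeExtra.isExtraspecial_equiv (R.equivMapOfInjective _ (Subgroup.subtype_injective _)) hCQ
  · rw [hQ1, Subgroup.card_map_of_injective (Subgroup.subtype_injective _), hCQcard]

end Cfsg.Agent.S5385
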