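import Cfsg.Statements.S5387
import Cfsg.Agent.Spor3T.CoverPSL34

set_option autoImplicit false
open Cfsg

namespace Cfsg.Agent.S5387

/-- Up to isomorphism there is at most one quasisimple group whose centre is elementary abelian of order 4 and whose central quotient is isomorphic to the projective special linear group of dimension 3 over the field with four elements: any two such groups are isomorphic. -/
theorem result {L₁ L₂ : Type*} [Group L₁] [Finite L₁] [Group L₂] [Finite L₂] (F : Type) [Field F] [Fintype F] (hF : Fintype.card F = 4) (h₁ : Cfsg.IsQuasisimple L₁) (h₂ : Cfsg.IsQuasisimple L₂) (hc₁ : Nat.card (Subgroup.center L₁) = 4) (hc₂ : Nat.card (Subgroup.center L₂) = 4) (he₁ : ∀ x ∈ Subgroup.center L₁, x * x = 1) (he₂ : ∀ x ∈ Subgroup.center L₂, x * x = 1) (e₁ : L₁ ⧸ Subgroup.center L₁ ≃* Matrix.ProjectiveSpecialLinearGroup (Fin 3) F) (e₂ : L₂ ⧸ Subgroup.center L₂ ≃* Matrix.ProjectiveSpecialLinearGroup (Fin 3) F) : Nonempty (L₁ ≃* L₂) := by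
  classical
  let S := Matrix.ProjectiveSpecialLinearGroup (Fin 3) F
  have hF' : Nat.card F = 4 := by rw [Nat.card_eq_fintype_card]; exact hF
  let p₁ : L₁ →* S := e₁.toMonoidHom.comp (QuotientGroup.mk' _)
  let p₂ : L₂ →* S := e₂.toMonoidHom.comp (QuotientGroup.mk' _)
  have k₁ : p₁.ker = Subgroup.center L₁ := by
    ext x; simp [p₁, MonoidHom.mem_ker, QuotientGroup.eq_one_iff]
  have k₂ : p₂.ker = Subgroup.center L₂ := by
    ext x; simp [p₂, MonoidHom.mem_ker, QuotientGroup.eq_one_iff]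
  have s₁ : Function.Surjective p₁ := e₁.surjective.comp (QuotientGroup.mk'_surjective _)
  have s₂ : Function.Surjective p₂ := e₂.surjective.comp (QuotientGroup.mk'_surjective _)
  have per₁ : commutator L₁ = ⊤ := Group.isPerfect_def.1 h₁.1
  have per₂ : commutator L₂ = ⊤ := Group.isPerfect_def.1 h₂.1
  have perS : commutator S = ⊤ := by
    rw [commutator_def, ← MonoidHom.range_eq_top.2 s₁, MonoidHom.range_eq_map,
      ← Subgroup.map_commutator, ← commutator_def, per₁]
  -- the fibre product and its derived subgroup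
  let M : Subgroup (L₁ × L₂) := (p₁.comp (MonoidHom.fst L₁ L₂)).eqLocus (p₂.comp (MonoidHom.snd L₁ L₂))
  let K : Subgroup (L₁ × L₂) := ⁅M, M⁆
  let r : L₁ × L₂ →* S := p₁.comp (MonoidHom.fst L₁ L₂)
  have hrM : M.map r = ⊤ := by
    rw [eq_top_iff]
    rintro s -
    obtain ⟨a, rfl⟩ := s₁ s
    obtain ⟨b, hb⟩ := s₂ (p₁ a)
    exact ⟨(a, b), hb.symm, rfl⟩
  have hrK : K.map r = ⊤ := by
    rw [Subgroup.map_commutator, hrM]
    exact perS
  have hKM : K ≤ M := Subgroup.commutator_le.2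
    (fun a ha b hb => mul_mem (mul_mem (mul_mem ha hb) (inv_mem ha)) (inv_mem hb))
  have hker : ∀ x ∈ M, r x = 1 → x.1 ∈ Subgroup.center L₁ ∧ x.2 ∈ Subgroup.center L₂ := by
    intro x hx h
    have hx' : p₁ x.1 = p₂ x.2 := hx
    exact ⟨k₁ ▸ MonoidHom.mem_ker.2 h, k₂ ▸ MonoidHom.mem_ker.2 (hx'.symm.trans h)⟩
  have hcen : ∀ x ∈ M, r x = 1 → x ∈ Subgroup.center (L₁ × L₂) := by
    intro x hx h
    rw [Subgroup.mem_center_iff]
    intro g
    exact Prod.ext (Subgroup.mem_center_iff.1 (hker x hx h).1 g.1)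
      (Subgroup.mem_center_iff.1 (hker x hx h).2 g.2)
  have hdec : ∀ x ∈ M, ∃ k ∈ K, k⁻¹ * x ∈ Subgroup.center (L₁ × L₂) := by
    intro x hx
    obtain ⟨k, hk, hkx⟩ : r x ∈ K.map r := by rw [hrK]; trivial
    exact ⟨k, hk, hcen _ (mul_mem (inv_mem (hKM hk)) hx) (by rw [map_mul, map_inv, hkx, inv_mul_cancel])⟩
  have hKK : ⁅K, K⁆ = K := by
    refine le_antisymm (Subgroup.commutator_mono le_rfl le_rfl |>.trans ?_) ?_
    · exact Subgroup.commutator_le.2
        (fun a ha b hb => mul_mem (mul_mem (mul_mem ha hb) (inv_mem ha)) (inv_mem hb))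
    · refine Subgroup.commutator_le.2 ?_
      intro a ha b hb
      obtain ⟨k, hk, hk'⟩ := hdec a ha
      obtain ⟨l, hl, hl'⟩ := hdec b hb
      have hab : a * b * a⁻¹ * b⁻¹ = k * l * k⁻¹ * l⁻¹ := by
        have ca := Subgroup.mem_center_iff.1 hk'
        have cb := Subgroup.mem_center_iff.1 hl'
        rw [show a = k * (k⁻¹ * a) by group, show b = l * (l⁻¹ * b) by group]
        generalize k⁻¹ * a = u at ca
        generalize l⁻¹ * b = v at cb
        simp only [mul_inv_rev]
        calc k * u * (l * v) * (u⁻¹ * k⁻¹) * (v⁻¹ * l⁻¹)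
            = k * ((l * v) * u) * (u⁻¹ * k⁻¹) * (v⁻¹ * l⁻¹) := by rw [ca (l * v)]; group
          _ = k * l * (v * k⁻¹) * (v⁻¹ * l⁻¹) := by group
          _ = k * l * (k⁻¹ * v) * (v⁻¹ * l⁻¹) := by rw [cb k⁻¹]
          _ = k * l * k⁻¹ * l⁻¹ := by group
      rw [commutatorElement_def, hab, ← commutatorElement_def]
      exact Subgroup.commutator_mem_commutator hk hl
  have perK : commutator K = ⊤ := by
    apply Subgroup.map_injective K.subtype_injective
    rw [commutator_def, Subgroup.map_commutator, ← MonoidHom.range_eq_map, Subgroup.range_subtype]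
    exact hKK
  let π : K →* S := r.comp K.subtype
  have hπ : Function.Surjective π := by
    intro s
    obtain ⟨k, hk, hks⟩ : s ∈ K.map r := by rw [hrK]; trivial
    exact ⟨⟨k, hk⟩, hks⟩
  have hπc : π.ker ≤ Subgroup.center K := by
    rintro ⟨x, hx⟩ h
    rw [Subgroup.mem_center_iff]
    intro g
    exact Subtype.ext (Subgroup.mem_center_iff.1 (hcen x (hKM hx) h) g)
  have hπ2 : ∀ k ∈ π.ker, k * k = 1 := by
    rintro ⟨x, hx⟩ h
    exact Subtype.ext (Prod.ext (he₁ _ (hker x (hKM hx) h).1) (he₂ _ (hker x (hKM hx) h).2))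
  have hqk : (QuotientGroup.mk' (Subgroup.center (Matrix.SpecialLinearGroup (Fin 3) F))).ker ≤
      Subgroup.center (Matrix.SpecialLinearGroup (Fin 3) F) := by rw [QuotientGroup.ker_mk']
  have h4 : Nat.card π.ker ≤ 4 :=
    CfsgLib.CoverPSL34.card_ker_le_four (q := QuotientGroup.mk' _) hF' perK
      (QuotientGroup.mk'_surjective _) hqk hπ hπc hπ2
  have cardS : ∀ (A : Type _) [Group A] (f : A →* S), Function.Surjective f →
      Nat.card A = Nat.card f.ker * Nat.card S := by
    intro A _ f hf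
    rw [Subgroup.card_eq_card_quotient_mul_card_subgroup f.ker, mul_comm]
    congr 1
    exact Nat.card_congr (QuotientGroup.quotientKerEquivOfSurjective f hf).toEquiv
  have cK : Nat.card K = Nat.card π.ker * Nat.card S := cardS _ π hπ
  have cL₁ : Nat.card L₁ = 4 * Nat.card S := by
    rw [Subgroup.card_eq_card_quotient_mul_card_subgroup (Subgroup.center L₁), hc₁, mul_comm]
    congr 1
    exact Nat.card_congr e₁.toEquiv
  have cL₂ : Nat.card L₂ = 4 * Nat.card S := by
    rw [Subgroup.card_eq_card_quotient_mul_card_subgroup (Subgroup.center L₂), hc₂, mul_comm]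
    congr 1
    exact Nat.card_congr e₂.toEquiv
  have hM₁ : M.map (MonoidHom.fst L₁ L₂) = ⊤ := by
    rw [eq_top_iff]; rintro a -
    obtain ⟨b, hb⟩ := s₂ (p₁ a)
    exact ⟨(a, b), hb.symm, rfl⟩
  have hM₂ : M.map (MonoidHom.snd L₁ L₂) = ⊤ := by
    rw [eq_top_iff]; rintro b -
    obtain ⟨a, ha⟩ := s₁ (p₂ b)
    exact ⟨(a, b), ha, rfl⟩
  have surj₁ : Function.Surjective ((MonoidHom.fst L₁ L₂).comp K.subtype) := by
    intro x
    have hx : x ∈ K.map (MonoidHom.fst L₁ L₂) := by
      rw [Subgroup.map_commutator, hM₁, ← commutator_def, per₁]; trivial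
    obtain ⟨k, hk, rfl⟩ := hx
    exact ⟨⟨k, hk⟩, rfl⟩
  have surj₂ : Function.Surjective ((MonoidHom.snd L₁ L₂).comp K.subtype) := by
    intro x
    have hx : x ∈ K.map (MonoidHom.snd L₁ L₂) := by
      rw [Subgroup.map_commutator, hM₂, ← commutator_def, per₂]; trivial
    obtain ⟨k, hk, rfl⟩ := hx
    exact ⟨⟨k, hk⟩, rfl⟩
  have le₁ : Nat.card K ≤ 4 * Nat.card S := by rw [cK]; exact Nat.mul_le_mul_right _ h4
  have b₁ : Function.Bijective ((MonoidHom.fst L₁ L₂).comp K.subtype) :=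
    (Nat.bijective_iff_surjective_and_card _).2
      ⟨surj₁, le_antisymm (cL₁ ▸ le₁) (Nat.card_le_card_of_surjective _ surj₁)⟩
  have b₂ : Function.Bijective ((MonoidHom.snd L₁ L₂).comp K.subtype) :=
    (Nat.bijective_iff_surjective_and_card _).2
      ⟨surj₂, le_antisymm (cL₂ ▸ le₁) (Nat.card_le_card_of_surjective _ surj₂)⟩
  exact ⟨(MulEquiv.ofBijective _ b₁).symm.trans (MulEquiv.ofBijective _ b₂)⟩

end Cfsg.Agent.S5387
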