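import Cfsg.Statements.S5394
import Cfsg.Agent.Golay.InvCount

set_option autoImplicit false
open Cfsg

namespace Cfsg.Agent.S5394

open CfsgLib.Golay CfsgLib.Golay.Cert

/-- The automorphism group of the length-24 code built from the squares modulo 23 has exactly two conjugacy classes of involutions: an involution either fixes exactly the eight points of an octad or has no fixed points, both kinds occur, and any two involutions of the same kind are conjugate in the group. -/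
theorem result : (∀ g ∈ Cfsg.M24, orderOf g = 2 → (Finset.univ.filter fun p => g p = p) ∈ Cfsg.octads ∨ ∀ p, g p ≠ p) ∧ (∃ g ∈ Cfsg.M24, orderOf g = 2 ∧ (Finset.univ.filter fun p => g p = p) ∈ Cfsg.octads) ∧ (∃ g ∈ Cfsg.M24, orderOf g = 2 ∧ ∀ p, g p ≠ p) ∧ ∀ g ∈ Cfsg.M24, ∀ h ∈ Cfsg.M24, orderOf g = 2 → orderOf h = 2 → ((∀ p, g p ≠ p) ↔ (∀ p, h p ≠ p)) → ∃ k ∈ Cfsg.M24, k * g * k⁻¹ = h := by
  refine ⟨fun g hg ho => ?_, ?_, ?_, fun g hg h hh hgo hho hiff => ?_⟩
  · obtain ⟨k, ⟨-, h1, -⟩ | ⟨-, h1⟩⟩ := two_cases (g := (⟨g, hg⟩ : M24)) ((order_lift hg).trans ho)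
    · exact Or.inl h1
    · exact Or.inr fun p hp => by
        rw [Finset.card_eq_zero, Finset.filter_eq_empty_iff] at h1
        exact h1 (Finset.mem_univ p) hp
  · obtain ⟨r, hr⟩ := genOK_spec reps_eq.2.2.1
    refine ⟨r.1, r.2, ?_, ?_⟩
    · refine orderOf_eq_prime (toList_injective ?_) fun e => ?_
      · rw [toList_pow, hr, toList_one]; decide +kernel
      · have h8 := fixSet_spec.2.1
        rw [← hr, fixSet, ← fixedPts_eq, e] at h8
        revert h8; decide +kernel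
    · rw [show (Finset.univ.filter fun p => r.1 p = p) = fixSet rep2A by rw [← hr, fixSet, ← fixedPts_eq]]
      exact fixSet_rep2A_mem
  · obtain ⟨r, hr⟩ := genOK_spec reps_eq.2.2.2.1
    have h0 : fixedPts r.1 = ∅ := by rw [fixedPts_eq, hr]; exact fixSet_spec.2.2.1
    rw [Finset.filter_eq_empty_iff] at h0
    refine ⟨r.1, r.2, ?_, fun p hp => h0 (Finset.mem_univ p) hp⟩
    refine orderOf_eq_prime (toList_injective ?_) fun e => h0 (Finset.mem_univ none) (by rw [e]; rfl)
    rw [toList_pow, hr, toList_one]; decide +kernel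
  · obtain ⟨k, hk⟩ := two_cases (g := (⟨g, hg⟩ : M24)) ((order_lift hg).trans hgo)
    obtain ⟨k', hk'⟩ := two_cases (g := (⟨h, hh⟩ : M24)) ((order_lift hh).trans hho)
    have key : ∀ {σ : Equiv.Perm GolayPt}, (∀ p, σ p ≠ p) ↔ (fixedPts σ).card = 0 := by
      intro σ
      simp [fixedPts, Finset.filter_eq_empty_iff]
    rw [key, key] at hiff
    suffices e : toList ((k * ⟨g, hg⟩ * k⁻¹ : M24) : Equiv.Perm GolayPt) =
        toList ((k' * ⟨h, hh⟩ * k'⁻¹ : M24) : Equiv.Perm GolayPt) from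
      ⟨_, (k'⁻¹ * k).2, congrArg (fun z : M24 => (z : Equiv.Perm GolayPt)) (conj_of_same e)⟩
    rcases hk with ⟨e1, -, h1⟩ | ⟨e1, h1⟩ <;> rcases hk' with ⟨e2, -, h2⟩ | ⟨e2, h2⟩
    · rw [e1, e2]
    · exact absurd (hiff.mpr h2) (show ¬ (fixedPts g).card = 0 by rw [h1]; norm_num)
    · exact absurd (hiff.mp h1) (show ¬ (fixedPts h).card = 0 by rw [h2]; norm_num)
    · rw [e1, e2]

end Cfsg.Agent.S5394
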