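import Cfsg.Statements.S5395
import Cfsg.Agent.Solvable.ExtraspecialSplit

set_option autoImplicit false
open Cfsg

namespace Cfsg.Agent.S5395

/-- For a finite extraspecial 2-group E, an automorphism of E that induces the identity on E modulo its centre is inner (so these automorphisms form exactly the inner automorphism group, an elementary abelian 2-group of order |E|/2). -/
theorem result {E : Type*} [Group E] [Finite E] (hE : Cfsg.IsExtraspecial 2 E) (φ : E ≃* E) (hφ : ∀ x : E, φ x * x⁻¹ ∈ Subgroup.center E) : ∃ g : E, ∀ x : E, φ x = g * x * g⁻¹ := by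
  haveI : Fact (Nat.Prime 2) := ⟨Nat.prime_two⟩
  let f : E →* Subgroup.center E := MonoidHom.mk' (fun x => ⟨φ x * x⁻¹, hφ x⟩) fun a b => by
    refine Subtype.ext ?_
    show φ (a * b) * (a * b)⁻¹ = φ a * a⁻¹ * (φ b * b⁻¹)
    rw [map_mul, mul_inv_rev]
    have hc := Subgroup.mem_center_iff.1 (hφ b) a⁻¹
    calc φ a * φ b * (b⁻¹ * a⁻¹) = φ a * (φ b * b⁻¹ * a⁻¹) := by group
      _ = φ a * (a⁻¹ * (φ b * b⁻¹)) := by rw [hc]
      _ = _ := by group
  obtain ⟨y, hy⟩ := CfsgLib.ExtraspecialSplit.exists_commHom_eq hE f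
  refine ⟨y, fun x => ?_⟩
  have h : φ x * x⁻¹ = x * y * x⁻¹ * y⁻¹ := by
    rw [← commutatorElement_def]; exact hy x
  -- the commutator is an involution or trivial
  have hc : ∀ c : Subgroup.center E, c * c = 1 := fun c => by
    rw [← pow_two, ← hE.2]; exact pow_card_eq_one'
  have hinv : (x * y * x⁻¹ * y⁻¹)⁻¹ = x * y * x⁻¹ * y⁻¹ := by
    have := congrArg Subtype.val (hc ⟨_, h ▸ hφ x⟩)
    exact inv_eq_of_mul_eq_one_right this
  calc φ x = φ x * x⁻¹ * x := (inv_mul_cancel_right _ _).symm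
    _ = (x * y * x⁻¹ * y⁻¹)⁻¹ * x := by rw [h, hinv]
    _ = y * x * y⁻¹ := by group

end Cfsg.Agent.S5395
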