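import Cfsg.Statements.S5396
import Cfsg.Agent.FGSA.ExtraTwoType
import Cfsg.Agent.Monster.ExtraBasics

set_option autoImplicit false
open Cfsg


namespace CfsgLib.ExtraTwoModel

/-- The bilinear form of a hyperbolic (`false`) or anisotropic (`true`) plane over `ZMod 2`. -/
def pf : Bool → ZMod 2 × ZMod 2 → ZMod 2 × ZMod 2 → ZMod 2
  | false, u, w => u.1 * w.2
  | true, u, w => u.1 * w.2 + u.1 * w.1 + u.2 * w.2

theorem pf_add_left (b : Bool) (u v w : ZMod 2 × ZMod 2) : pf b (u + v) w = pf b u w + pf b v w := by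
  cases b <;> simp only [pf, Prod.fst_add, Prod.snd_add] <;> ring

theorem pf_add_right (b : Bool) (u v w : ZMod 2 × ZMod 2) : pf b u (v + w) = pf b u v + pf b u w := by
  cases b <;> simp only [pf, Prod.fst_add, Prod.snd_add] <;> ring

/-- The model group. -/
@[ext]
structure M {m : ℕ} (t : Fin m → Bool) where
  /-- vector part -/
  v : Fin m → ZMod 2 × ZMod 2
  /-- central part -/
  a : ZMod 2

variable {m : ℕ} {t : Fin m → Bool}

def bf (t : Fin m → Bool) (x y : Fin m → ZMod 2 × ZMod 2) : ZMod 2 := ∑ i, pf (t i) (x i) (y i)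

theorem bf_add_left (x y z : Fin m → ZMod 2 × ZMod 2) : bf t (x + y) z = bf t x z + bf t y z := by
  simp [bf, pf_add_left, Finset.sum_add_distrib]

theorem bf_add_right (x y z : Fin m → ZMod 2 × ZMod 2) : bf t x (y + z) = bf t x y + bf t x z := by
  simp [bf, pf_add_right, Finset.sum_add_distrib]

theorem bf_zero_left (x : Fin m → ZMod 2 × ZMod 2) : bf t 0 x = 0 := by
  refine Finset.sum_eq_zero fun i _ => ?_
  cases t i <;> simp [pf]

theorem bf_zero_right (x : Fin m → ZMod 2 × ZMod 2) : bf t x 0 = 0 := by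
  refine Finset.sum_eq_zero fun i _ => ?_
  cases t i <;> simp [pf]

theorem vadd_self (x : Fin m → ZMod 2 × ZMod 2) : x + x = 0 := by
  funext i
  exact Prod.ext (CharTwo.add_self_eq_zero _) (CharTwo.add_self_eq_zero _)

instance : Group (M t) where
  mul x y := ⟨x.v + y.v, x.a + y.a + bf t x.v y.v⟩
  one := ⟨0, 0⟩
  inv x := ⟨x.v, x.a + bf t x.v x.v⟩
  mul_assoc x y z := by
    refine M.ext (add_assoc _ _ _) ?_
    show x.a + y.a + bf t x.v y.v + z.a + bf t (x.v + y.v) z.v =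
      x.a + (y.a + z.a + bf t y.v z.v) + bf t x.v (y.v + z.v)
    rw [bf_add_left, bf_add_right]
    ring
  one_mul x := by
    refine M.ext (zero_add _) ?_
    show 0 + x.a + bf t 0 x.v = x.a
    rw [bf_zero_left]; simp
  mul_one x := by
    refine M.ext (add_zero _) ?_
    show x.a + 0 + bf t x.v 0 = x.a
    rw [bf_zero_right]; simp
  inv_mul_cancel x := by
    refine M.ext (vadd_self _) ?_
    show x.a + bf t x.v x.v + x.a + bf t x.v x.v = 0
    grind

theorem mul_v (x y : M t) : (x * y).v = x.v + y.v := rfl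
theorem mul_a (x y : M t) : (x * y).a = x.a + y.a + bf t x.v y.v := rfl
theorem one_v : (1 : M t).v = 0 := rfl
theorem one_a : (1 : M t).a = 0 := rfl
theorem inv_v (x : M t) : x⁻¹.v = x.v := rfl

def equivProd : M t ≃ (Fin m → ZMod 2 × ZMod 2) × ZMod 2 :=
  ⟨fun x => (x.v, x.a), fun q => ⟨q.1, q.2⟩, fun _ => rfl, fun _ => rfl⟩

instance : Finite (M t) := Finite.of_equiv _ equivProd.symm

theorem card_M : Nat.card (M t) = 2 ^ (2 * m + 1) := by
  rw [Nat.card_congr equivProd, Nat.card_prod, Nat.card_fun, Nat.card_prod, Nat.card_zmod,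
    Nat.card_eq_fintype_card (α := Fin m), Fintype.card_fin, pow_succ, pow_mul]; norm_num

theorem sq_eq (x : M t) : x ^ 2 = ⟨0, bf t x.v x.v⟩ := by
  rw [pow_two]
  refine M.ext (vadd_self _) ?_
  show x.a + x.a + bf t x.v x.v = bf t x.v x.v
  grind

theorem commute_iff (x y : M t) : x * y = y * x ↔ bf t x.v y.v = bf t y.v x.v := by
  rw [M.ext_iff, mul_v, mul_v, mul_a, mul_a]
  refine ⟨fun h => ?_, fun h => ⟨add_comm _ _, by rw [h, add_comm x.a]⟩⟩
  have := h.2
  rwa [add_comm y.a, add_right_inj] at this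

theorem bf_single_left (i : Fin m) (u : ZMod 2 × ZMod 2) (x : Fin m → ZMod 2 × ZMod 2) :
    bf t (Pi.single i u) x = pf (t i) u (x i) := by
  rw [bf, Finset.sum_eq_single i]
  · rw [Pi.single_eq_same]
  · intro j _ hj
    rw [Pi.single_eq_of_ne hj]
    cases t j <;> simp [pf]
  · simp

theorem bf_single_right (i : Fin m) (u : ZMod 2 × ZMod 2) (x : Fin m → ZMod 2 × ZMod 2) :
    bf t x (Pi.single i u) = pf (t i) (x i) u := by
  rw [bf, Finset.sum_eq_single i]
  · rw [Pi.single_eq_same]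
  · intro j _ hj
    rw [Pi.single_eq_of_ne hj]
    cases t j <;> simp [pf]
  · simp

theorem mem_center (x : M t) : x ∈ Subgroup.center (M t) ↔ x.v = 0 := by
  rw [Subgroup.mem_center_iff]
  refine ⟨fun h => funext fun i => ?_, fun h y => (commute_iff _ _).2 (by
    rw [h, bf_zero_left, bf_zero_right])⟩
  have key : ∀ (b : Bool) (u : ZMod 2 × ZMod 2), (∀ w, pf b u w = pf b w u) → u = 0 := by decide
  refine key (t i) (x.v i) fun w => ?_
  have := (commute_iff _ _).1 (h ⟨Pi.single i w, 0⟩)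
  rw [bf_single_left, bf_single_right] at this
  exact this.symm

theorem isExtraspecial (hm : 1 ≤ m) : Cfsg.IsExtraspecial 2 (M t) := by
  haveI : Fact (Nat.Prime 2) := ⟨Nat.prime_two⟩
  refine CfsgLib.Monster.isExtraspecial_of (IsPGroup.of_card card_M) ?_ (fun a b => ?_)
    (fun a => ?_) ?_
  · rw [Nat.card_congr (⟨fun x => x.1.a, fun a => ⟨⟨0, a⟩, (mem_center _).2 rfl⟩,
      fun x => Subtype.ext (M.ext ((mem_center _).1 x.2).symm rfl), fun _ => rfl⟩ :
      Subgroup.center (M t) ≃ ZMod 2), Nat.card_zmod]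
  · rw [mem_center, mul_v, mul_v, mul_v, inv_v, inv_v, add_assoc (a.v + b.v), vadd_self]
  · rw [mem_center, mul_v, vadd_self]
  · refine ⟨⟨Pi.single ⟨0, hm⟩ (1, 0), 0⟩, ⟨Pi.single ⟨0, hm⟩ (0, 1), 0⟩, fun h => ?_⟩
    rw [commute_iff, bf_single_left, bf_single_left] at h
    simp only [Pi.single_eq_same] at h
    revert h
    cases t ⟨0, hm⟩ <;> simp [pf]

/-- The sign character. -/
def χ (c : ZMod 2) : ℤ := if c = 0 then 1 else -1

theorem χ_sum {ι : Type*} (s : Finset ι) (f : ι → ZMod 2) : χ (∑ i ∈ s, f i) = ∏ i ∈ s, χ (f i) := by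
  classical
  induction s using Finset.induction_on with
  | empty => simp [χ]
  | insert a s ha ih =>
    rw [Finset.sum_insert ha, Finset.prod_insert ha, ← ih]
    generalize f a = u
    generalize ∑ i ∈ s, f i = w
    revert u w
    decide

theorem cnt_eq : (CfsgLib.ExtraTwoType.cnt (⊤ : Subgroup (M t)) : ℤ) =
    4 ^ m + ∏ i, (if t i then (-2 : ℤ) else 2) := by
  classical
  rw [CfsgLib.ExtraTwoType.cnt_top]
  have e : Nat.card {g : M t // g ^ 2 = 1} =
      Nat.card ({v : Fin m → ZMod 2 × ZMod 2 // bf t v v = 0} × ZMod 2) := by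
    refine Nat.card_congr ⟨fun g => (⟨g.1.v, ?_⟩, g.1.a), fun q => ⟨⟨q.1.1, q.2⟩, ?_⟩,
      fun _ => rfl, fun _ => rfl⟩
    · have h := g.2
      rw [sq_eq] at h
      exact congrArg M.a h
    · rw [sq_eq]
      exact M.ext rfl q.1.2
  rw [e, Nat.card_prod, Nat.card_zmod, Nat.card_eq_fintype_card, Fintype.card_subtype]
  have h1 : (∑ v : Fin m → ZMod 2 × ZMod 2, (1 + χ (bf t v v))) =
      2 * ((Finset.univ.filter fun v : Fin m → ZMod 2 × ZMod 2 => bf t v v = 0).card : ℤ) := by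
    rw [Finset.card_filter, Nat.cast_sum, Finset.mul_sum]
    refine Finset.sum_congr rfl fun v _ => ?_
    unfold χ
    split <;> simp
  have h2 : (∑ v : Fin m → ZMod 2 × ZMod 2, χ (bf t v v)) = ∏ i, (if t i then (-2 : ℤ) else 2) := by
    simp only [bf, χ_sum]
    rw [← Fintype.prod_sum fun i u => χ (pf (t i) u u)]
    refine Finset.prod_congr rfl fun i _ => ?_
    cases t i <;> decide
  rw [Finset.sum_add_distrib, h2] at h1
  push_cast
  rw [mul_comm, ← h1]
  simp

theorem exists_rank (n : ℕ) (hn : 1 ≤ n) (σ : Bool) :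
    ∃ (E : Type) (_ : Group E) (_ : Finite E), Cfsg.IsExtraspecial 2 E ∧
      Nat.card E = 2 ^ (2 * n + 1) ∧ ∃ r : ℕ, (r = if σ then n else n + 1) ∧
        Cfsg.PRankLE 2 r E ∧ ¬ Cfsg.PRankLE 2 (r - 1) E := by
  classical
  obtain ⟨k, rfl⟩ : ∃ k, n = k + 1 := ⟨n - 1, by omega⟩
  let t : Fin (k + 1) → Bool := Fin.cons σ fun _ => false
  refine ⟨M t, inferInstance, inferInstance, isExtraspecial hn, card_M, _, rfl, ?_⟩
  obtain ⟨-, hc⟩ := CfsgLib.ExtraTwoType.classify (isExtraspecial (t := t) hn) card_M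
  have hcnt := cnt_eq (t := t)
  rw [Fin.prod_univ_succ] at hcnt
  simp only [t, Fin.cons_zero, Fin.cons_succ, Finset.prod_const, Finset.card_univ, Fintype.card_fin,
    Bool.false_eq_true, if_false] at hcnt
  generalize hC : CfsgLib.ExtraTwoType.cnt (⊤ : Subgroup (M t)) = C at hc hcnt
  have hpos : 0 < (2 : ℕ) ^ (k + 1) := pow_pos two_pos _
  have h4 : (4 : ℤ) ^ (k + 1) = ((2 ^ (2 * (k + 1)) : ℕ) : ℤ) := by push_cast; rw [pow_mul]; norm_num
  have h2 : (2 : ℤ) * 2 ^ k = ((2 ^ (k + 1) : ℕ) : ℤ) := by push_cast; ring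
  rw [h4] at hcnt
  cases σ
  · simp only [Bool.false_eq_true, if_false] at hcnt ⊢
    rw [h2] at hcnt
    rcases hc with ⟨-, ha, hb⟩ | ⟨hb, -, -⟩
    · exact ⟨ha, hb⟩
    · omega
  · simp only [if_true] at hcnt ⊢
    rw [neg_mul, h2] at hcnt
    rcases hc with ⟨hb, -, -⟩ | ⟨-, ha, hb⟩
    · omega
    · exact ⟨ha, hb⟩

end CfsgLib.ExtraTwoModel

namespace Cfsg.Agent.S5396

/-- For every n ≥ 1 there exist finite extraspecial 2-groups of order 2^(2n+1) whose 2-rank (the largest rank of an elementary abelian subgroup) is n, and ones whose 2-rank is n + 1 (so for each such order there are two non-isomorphic extraspecial 2-groups, told apart by their 2-rank). -/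
theorem result (n : ℕ) (hn : 1 ≤ n) : ∀ r ∈ ({n, n + 1} : Set ℕ), ∃ (E : Type) (_ : Group E) (_ : Finite E), Cfsg.IsExtraspecial 2 E ∧ Nat.card E = 2 ^ (2 * n + 1) ∧ sSup {k : ℕ | ∃ A : Subgroup E, Cfsg.IsElementaryAbelian 2 A ∧ Nat.card A = 2 ^ k} = r := by
  intro r hr
  obtain ⟨σ, hσ⟩ : ∃ σ : Bool, r = if σ then n else n + 1 := by
    rcases hr with rfl | rfl
    · exact ⟨true, rfl⟩
    · exact ⟨false, rfl⟩
  obtain ⟨E, hG, hF, hE, hcard, r', hr', hle, hnle⟩ := CfsgLib.ExtraTwoModel.exists_rank n hn σ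
  obtain rfl : r' = r := hr'.trans hσ.symm
  refine ⟨E, hG, hF, hE, hcard, ?_⟩
  haveI : Fact (Nat.Prime 2) := ⟨Nat.prime_two⟩
  have hub : ∀ k ∈ {k : ℕ | ∃ A : Subgroup E, Cfsg.IsElementaryAbelian 2 A ∧ Nat.card A = 2 ^ k},
      k ≤ r' := fun k ⟨A, hA, hk⟩ => by
    have := hle A hA.1 hA.2
    rwa [hk, Nat.pow_le_pow_iff_right (by norm_num)] at this
  refine (IsGreatest.csSup_eq ⟨?_, hub⟩)
  unfold Cfsg.PRankLE at hnle
  push Not at hnle
  obtain ⟨A, hA, hA2, hlt⟩ := hnle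
  obtain ⟨j, hj⟩ := IsPGroup.iff_card.1 (hE.1.1.to_subgroup A)
  have hjle : j ≤ r' := hub j ⟨A, ⟨hA, hA2⟩, hj⟩
  rw [hj, Nat.pow_lt_pow_iff_right (by norm_num)] at hlt
  exact ⟨A, ⟨hA, hA2⟩, by rw [hj, show j = r' by omega]⟩

end Cfsg.Agent.S5396
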