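import Cfsg.Statements.S5401
import Cfsg.Agent.Coset.Fi24.M24

set_option autoImplicit false
open Cfsg

namespace Cfsg.Agent.S5401

/-- Existence of the Fischer 3-transposition groups: there exist finite groups generated by a conjugacy class of 3-transpositions on which they act primitively that are of type M(22), of type M(23), and of type M(24) respectively. -/
theorem result : (∃ (X : Type) (_ : Group X) (_ : Finite X) (E : Set X), Cfsg.IsThreeTranspositionClass E ∧ Cfsg.IsPrimitiveUnderConj E ∧ Cfsg.IsOfTypeM22 X E) ∧ (∃ (X : Type) (_ : Group X) (_ : Finite X) (E : Set X), Cfsg.IsThreeTranspositionClass E ∧ Cfsg.IsPrimitiveUnderConj E ∧ Cfsg.IsOfTypeM23 X E) ∧ (∃ (X : Type) (_ : Group X) (_ : Finite X) (E : Set X), Cfsg.IsThreeTranspositionClass E ∧ Cfsg.IsPrimitiveUnderConj E ∧ Cfsg.IsOfTypeM24 X E) := by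
  refine ⟨⟨Cfsg.Spor.Fi22, inferInstance, CfsgLib.Coset.Fi22.card_le.1, _, CfsgLib.Coset.Fi22.threeTransp, ?_,
    CfsgLib.Coset.FischerTypes.type22⟩, ⟨Cfsg.Spor.Fi23, inferInstance, CfsgLib.Coset.Fi23.card_le.1, _,
    CfsgLib.Coset.Fi23.threeTransp, ?_, CfsgLib.Coset.FischerTypes.type23⟩, ⟨Cfsg.Spor.Fi24, inferInstance,
    CfsgLib.Coset.Fi24.card_le.1, _, CfsgLib.Coset.Fi24.threeTransp, CfsgLib.Coset.Fi24.primitive,
    CfsgLib.Coset.Fi24.type24⟩⟩
  · obtain ⟨g, -, hg⟩ := CfsgLib.TC23.fi22_nwc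
    exact CfsgLib.Coset.primitive_of_isCoatom (isConj_iff.2 ⟨g, rfl⟩) hg
      (CfsgLib.Coset.Fi22.centralizer_t.symm ▸ CfsgLib.Coset.Fi22.H_isCoatom)
  · obtain ⟨g, -, hg⟩ := CfsgLib.Coset.FischerTypes.nwc23
    exact CfsgLib.Coset.primitive_of_isCoatom (isConj_iff.2 ⟨g, rfl⟩) hg
      (CfsgLib.Coset.Fi23.centralizer_t.symm ▸ CfsgLib.Coset.Fi23.H_isCoatom)

end Cfsg.Agent.S5401
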