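import Cfsg.Statements.S5410
import Cfsg.Agent.Monster.Conjugates

set_option autoImplicit false
open Cfsg

namespace Cfsg.Agent.S5410

/-- Let G be a finite group of Monster type at the involution z with Q the extraspecial normal subgroup of order 2^25 of C = C_G(z) (so C/Q is identified with the first Conway group with Q modulo its centre the Leech lattice modulo 2, and z is not weakly closed in Q). Let g in G with s = g z g⁻¹ a member of Q other than z, let X be the image in C/Q of the centralizer of s in C, and let E be the image in C/Q of the intersection of g Q g⁻¹ with C. Then E is a normal subgroup of X, elementary abelian of order 2^11, and it has a complement in X isomorphic to the Mathieu group of degree 24 (the automorphism group of the length-24 binary Golay code). -/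
theorem result {G : Type*} [Group G] [Finite G] (z : G) (Q : Subgroup (Subgroup.centralizer ({z} : Set G))) [Q.Normal] (hM : Cfsg.IsOfMonsterType z Q) (s : G) (hsQ : ∃ hsc : s ∈ Subgroup.centralizer ({z} : Set G), (⟨s, hsc⟩ : Subgroup.centralizer ({z} : Set G)) ∈ Q) (hs : IsConj z s) (hs1 : s ≠ z) (g : G) (hg : g * z * g⁻¹ = s) (X E : Subgroup ((Subgroup.centralizer ({z} : Set G)) ⧸ Q)) (hX : X = ((Subgroup.centralizer ({z} : Set G) ⊓ Subgroup.centralizer ({s} : Set G)).subgroupOf (Subgroup.centralizer ({z} : Set G))).map (QuotientGroup.mk' Q)) (hE : E = (((Q.map (Subgroup.centralizer ({z} : Set G)).subtype).map (MulAut.conj g).toMonoidHom ⊓ Subgroup.centralizer ({z} : Set G)).subgroupOf (Subgroup.centralizer ({z} : Set G))).map (QuotientGroup.mk' Q)) : E ≤ X ∧ (∀ x ∈ X, ∀ y ∈ E, x * y * x⁻¹ ∈ E) ∧ Cfsg.IsElementaryAbelian 2 E ∧ Nat.card E = 2 ^ 11 ∧ ∃ K : Subgroup ((Subgroup.centralizer ({z} : Set G)) ⧸ Q), K ≤ X ∧ E ⊓ K = ⊥ ∧ E ⊔ K = X ∧ Nonempty (K ≃*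 Cfsg.M24) := by
  obtain ⟨hset, e, ψ, hψ⟩ := hM
  obtain ⟨D, hDQ, hDπ, hDcl⟩ := CfsgLib.Monster.exists_data hset hψ
  obtain ⟨hsc, hsQ⟩ := hsQ
  have hs' : s ∈ D.Q := hDQ ▸ ⟨_, hsQ, rfl⟩
  obtain ⟨hcard, -, hab, hexp, K, hK1, hK2, hK3, ⟨iso⟩⟩ :=
    CfsgLib.Monster.conj_structure D hs' hs1 hg
  have hπ : D.π = e.toMonoidHom.comp (QuotientGroup.mk' Q) := MonoidHom.ext hDπ
  have hEmap : E.map e.toMonoidHom = CfsgLib.Monster.imagePart D g := by
    rw [hE, Subgroup.map_map, ← hπ, ← hDQ]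
    rfl
  have hmem : ∀ x, x ∈ E ↔ e x ∈ CfsgLib.Monster.imagePart D g := fun x => by
    rw [← hEmap]
    exact ⟨fun h => ⟨x, h, rfl⟩, fun ⟨y, hy, h⟩ => e.injective h ▸ hy⟩
  have hXiff : ∀ x, x ∈ X ↔ ∃ c : Subgroup.centralizer ({z} : Set G),
      (c : G) * s * (c : G)⁻¹ = s ∧ D.π c = e x := by
    intro x
    rw [hX, Subgroup.mem_map]
    constructor
    · rintro ⟨c, hc, rfl⟩
      exact ⟨c, by
          have h2 : (c : G) * s = s * (c : G) := Subgroup.mem_centralizer_singleton_iff.1 hc.2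
          rw [h2, mul_inv_cancel_right],
        hDπ c⟩
    · rintro ⟨c, hc, hcx⟩
      refine ⟨c, ⟨c.2, Subgroup.mem_centralizer_singleton_iff.2 (mul_inv_eq_iff_eq_mul.1 hc)⟩,
        e.injective ?_⟩
      rw [← hcx, hDπ]; rfl
  have hEX : E ≤ X := fun x hx =>
    (hXiff x).2 (CfsgLib.Monster.image_le D hg ((hmem x).1 hx))
  refine ⟨hEX, fun x hx y hy => ?_, ⟨⟨⟨fun a b => ?_⟩⟩, fun a ha => ?_⟩, ?_,
    K.comap e.toMonoidHom, fun x hx => (hXiff x).2 (hK1 _ hx), ?_, le_antisymm (sup_le hEX fun x hx =>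
      (hXiff x).2 (hK1 _ hx)) fun x hx => ?_, ⟨?_⟩⟩
  · obtain ⟨c, hc, hcx⟩ := (hXiff x).1 hx
    rw [hmem, map_mul, map_mul, map_inv, ← hcx]
    exact CfsgLib.Monster.image_normal D hg hc ((hmem y).1 hy)
  · exact Subtype.ext (e.injective (by
      simp only [Subgroup.coe_mul, map_mul]
      exact hab _ ((hmem _).1 a.2) _ ((hmem _).1 b.2)))
  · exact e.injective (by rw [map_pow, map_one]; exact hexp _ ((hmem a).1 ha))
  · rw [← hcard, ← hEmap]
    exact (Nat.card_congr (E.equivMapOfInjective e.toMonoidHom e.injective).toEquiv)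
  · refine (Subgroup.eq_bot_iff_forall _).2 fun x hx => e.injective ?_
    rw [map_one]
    exact hK2 _ hx.2 ((hmem x).1 hx.1)
  · obtain ⟨c, hc, hcx⟩ := (hXiff x).1 hx
    obtain ⟨a, ha, b, hb, hab'⟩ := hK3 c hc
    rw [show x = e.symm a * e.symm b by
      rw [← map_mul, ← hab', hcx, MulEquiv.symm_apply_apply]]
    refine Subgroup.mul_mem_sup ((hmem _).2 (by rwa [MulEquiv.apply_symm_apply])) ?_
    show e (e.symm b) ∈ K
    rwa [MulEquiv.apply_symm_apply]
  · refine MulEquiv.trans ?_ iso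
    refine (Subgroup.equivMapOfInjective _ e.toMonoidHom e.injective).trans (MulEquiv.subgroupCongr ?_)
    exact Subgroup.map_comap_eq_self_of_surjective e.surjective K

end Cfsg.Agent.S5410
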