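import Cfsg.Statements.S5415
import Cfsg.Agent.FiThree.Main

set_option autoImplicit false
open Cfsg

namespace Cfsg.Agent.S5415

/-- Let G be a finite group of Monster type at the involution z with Q the extraspecial normal subgroup of order 2^25 of C = C_G(z) (so C/Q is identified with the first Conway group with Q modulo its centre the Leech lattice modulo 2, and z is not weakly closed in Q). Let s be a conjugate of z in Q other than z and let Y be a subgroup of order 3 of the joint centralizer L of z and s that is 3-central in L (Y lies in the centre of some Sylow 3-subgroup of L). Then the centralizer of Y modulo Y is a group of large Fischer type (an involution whose centralizer D has generalized Fitting subgroup R extraspecial of order 2^13 and normal subgroups R ≤ N ≤ M with N/R of order 3, M/N the projective special unitary group of dimension 4 over the field with nine elements and M of index 2 in D; the involution not weakly closed in R). -/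
theorem result {G : Type*} [Group G] [Finite G] (z : G) (Q : Subgroup (Subgroup.centralizer ({z} : Set G))) [Q.Normal] (hM : Cfsg.IsOfMonsterType z Q) (s : G) (hsQ : ∃ hsc : s ∈ Subgroup.centralizer ({z} : Set G), (⟨s, hsc⟩ : Subgroup.centralizer ({z} : Set G)) ∈ Q) (hs : IsConj z s) (hs1 : s ≠ z) (Y : Subgroup G) (hY : Y ≤ Subgroup.centralizer ({z, s} : Set G)) (hY3 : Nat.card Y = 3) (hc : ∃ P : Sylow 3 ↥(Subgroup.centralizer ({z, s} : Set G)), Y.subgroupOf (Subgroup.centralizer ({z, s} : Set G)) ≤ (Subgroup.center ↥(P : Subgroup ↥(Subgroup.centralizer ({z, s} : Set G)))).map (P : Subgroup ↥(Subgroup.centralizer ({z, s} : Set G))).subtype) [hn : (Y.subgroupOf (Subgroup.centralizer (Y : Set G))).Normal] : Cfsg.IsOfLargeFischerType (↥(Subgroup.centralizer (Y : Set G)) ⧸ Y.subgroupOf (Subgroup.centralizer (Y : Set G))) := by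
  obtain ⟨hset, e, ψ, hψ⟩ := hM
  obtain ⟨D, hDQ, -, -⟩ := CfsgLib.Monster.exists_data hset hψ
  have hsD : s ∈ D.Q := by
    obtain ⟨hsc, h⟩ := hsQ
    rw [hDQ]; exact ⟨⟨s, hsc⟩, h, rfl⟩
  obtain ⟨P₀, hP⟩ := hc
  let P : Sylow 3 (CfsgLib.FiThree.pairCent z s) := P₀
  have hYP : ∀ y ∈ Y, ∃ hy : y ∈ CfsgLib.FiThree.pairCent z s,
      (⟨y, hy⟩ : CfsgLib.FiThree.pairCent z s) ∈ P ∧
        ∀ x ∈ P, (⟨y, hy⟩ : CfsgLib.FiThree.pairCent z s) * (x : CfsgLib.FiThree.pairCent z s) = x * ⟨y, hy⟩ := by
    intro y hy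
    have hm : (⟨y, hY hy⟩ : ↥(Subgroup.centralizer ({z, s} : Set G))) ∈
        Y.subgroupOf (Subgroup.centralizer ({z, s} : Set G)) := hy
    obtain ⟨w, hw, hwe⟩ := hP hm
    refine ⟨hY hy, ?_, fun x hx => ?_⟩
    · exact hwe ▸ w.2
    · have h1 := congrArg Subtype.val (Subgroup.mem_center_iff.1 hw ⟨x, hx⟩)
      refine Subtype.ext ?_
      have h2 := congrArg Subtype.val h1
      have h3 : ((w : Subgroup.centralizer ({z, s} : Set G)) : G) = y := congrArg Subtype.val hwe
      show y * (x : G) = (x : G) * y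
      rw [← h3]
      exact h2.symm
  obtain ⟨D', b, hQ, hb, hYb, hπ, hcs, hcen⟩ :=
    CfsgLib.FiThree.exists_standard D hsD hs1 hs hY3 P hYP
  have hbY : (b : G) ∈ Y := hYb ▸ Subgroup.mem_zpowers _
  have hbs : (b : G) * s = s * (b : G) := (CfsgLib.FiThree.mem_pairCent.1 (hY hbY)).2
  exact CfsgLib.FiThree.main D' hb hπ (hQ ▸ hsD) hs1 hs hcs hbs
    (CfsgLib.FiThree.exists_swap D' hb hπ (hQ ▸ hsD) hs1 hs hcs P (hYP _ hbY)
      fun x hx hxc => hYb ▸ hcen x hx hxc) hYb

end Cfsg.Agent.S5415
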