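import Cfsg.Statements.S5420
import Cfsg.Agent.Spor3T.Extraspecial
import Cfsg.Agent.Solvable.Basics

set_option autoImplicit false
open Cfsg

namespace Cfsg.Agent.S5420

/-- Let Q be an extraspecial 2-subgroup of the finite group G whose centralizer in G is its centre Z and which is normal in the centralizer of Z. If Z lies in the largest normal 2-subgroup of G, then Q is a large extraspecial 2-subgroup of G: it normalizes no non-trivial subgroup of G of odd order. -/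
theorem result {G : Type*} [Group G] [Finite G] (Q : Subgroup G) (hL1 : Cfsg.IsExtraspecial 2 ↥Q) (hL2 : Subgroup.centralizer (Q : Set G) = ((Subgroup.center ↥Q).map Q.subtype)) (hL3 : Subgroup.centralizer (((Subgroup.center ↥Q).map Q.subtype) : Set G) ≤ Subgroup.normalizer (Q : Set G)) (hZ : ((Subgroup.center ↥Q).map Q.subtype) ≤ Cfsg.pCore 2 G) : Cfsg.IsLargeExtraspecial Q := by
  refine ⟨hL1, hL2, hL3, fun K hK hQK => ?_⟩
  obtain ⟨z, hz⟩ := CfsgLib.Extra2.exists_gen hL1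
  rw [hz.map_center] at hL2 hL3 hZ
  obtain ⟨hOn, hO2⟩ := CfsgLib.Solvable.pCore_spec (p := 2) (G := G)
  have dis : ∀ (P : Subgroup G), IsPGroup 2 P → ∀ y, y ∈ P → y ∈ K → y = 1 := by
    intro P hP y hyP hyK
    obtain ⟨n, hn⟩ := IsPGroup.iff_orderOf.1 hP ⟨y, hyP⟩
    rw [Subgroup.orderOf_mk] at hn
    have h2 : orderOf y ∣ Nat.card K := by
      rw [← Subgroup.orderOf_mk y hyK]; exact orderOf_dvd_natCard _
    rw [← orderOf_eq_one_iff]
    refine Nat.eq_one_of_dvd_coprimes (Nat.Coprime.pow_left n ?_) (dvd_of_eq hn) h2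
    exact Nat.coprime_two_left.2 hK
  have conjK : ∀ q ∈ Q, ∀ w ∈ K, q * w * q⁻¹ ∈ K := fun q hq w hw =>
    (Subgroup.mem_normalizer_iff.1 (hQK hq) w).1 hw
  have hKz : ∀ w ∈ K, w ∈ Subgroup.centralizer (Subgroup.zpowers z : Set G) := by
    intro w hw
    have h1 : z * w * z⁻¹ * w⁻¹ ∈ K := mul_mem (conjK z hz.mem w hw) (inv_mem hw)
    have hzO : z ∈ Cfsg.pCore 2 G := hZ (Subgroup.mem_zpowers z)
    have h2 : z * w * z⁻¹ * w⁻¹ ∈ Cfsg.pCore 2 G := by
      rw [show z * w * z⁻¹ * w⁻¹ = z * (w * z⁻¹ * w⁻¹) by group]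
      exact mul_mem hzO (hOn.conj_mem _ (inv_mem hzO) w)
    have h3 : z * w = w * z := mul_inv_eq_iff_eq_mul.1 (mul_inv_eq_one.1 (dis _ hO2 _ h2 h1))
    rw [Subgroup.mem_centralizer_iff]
    intro y hy
    obtain ⟨n, rfl⟩ := Subgroup.mem_zpowers_iff.1 hy
    exact ((show Commute z w from h3).zpow_left n).eq
  have hQ2 : IsPGroup 2 Q := hL1.1.1
  have hKQ : ∀ w ∈ K, w ∈ Subgroup.zpowers z := by
    intro w hw
    have hn := hL3 (hKz w hw)
    rw [← hL2, Subgroup.mem_centralizer_iff]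
    intro q hq
    have h1 : q * w * q⁻¹ * w⁻¹ ∈ K := mul_mem (conjK q hq w hw) (inv_mem hw)
    have h2 : q * w * q⁻¹ * w⁻¹ ∈ Q := by
      rw [show q * w * q⁻¹ * w⁻¹ = q * (w * q⁻¹ * w⁻¹) by group]
      exact mul_mem hq ((Subgroup.mem_normalizer_iff.1 hn _).1 (inv_mem hq))
    exact mul_inv_eq_iff_eq_mul.1 (mul_inv_eq_one.1 (dis _ hQ2 _ h2 h1))
  rw [Subgroup.eq_bot_iff_forall]
  intro w hw
  exact dis Q hQ2 w (Subgroup.zpowers_le.2 hz.mem (hKQ w hw)) hw

end Cfsg.Agent.S5420
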