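import Cfsg.Statements.S5422
import Cfsg.Agent.LargeExtra.PairMain
-- import your own Cfsg.Agent.* helpers here

set_option autoImplicit false
open Cfsg

namespace Cfsg.Agent.S5422

/-- Let Q be an extraspecial 2-subgroup of the finite group G whose centralizer in G is its centre Z and which is normal in the centralizer of Z; suppose Q has width at least 2 (order 2^(2w+1) with w ≥ 2) and g is an element of G not normalizing Z with g Z g⁻¹ inside Q. Then Z lies inside g Q g⁻¹; writing V for the subgroup generated by Z and g Z g⁻¹ (a four-group), the normalizer of V induces on V its full automorphism group, that is, the centralizer of V has index 6 in the normalizer of V; and Q is a large extraspecial 2-subgroup of G. -/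
theorem result {G : Type*} [Group G] [Finite G] (Q : Subgroup G) (hL1 : Cfsg.IsExtraspecial 2 ↥Q) (hL2 : Subgroup.centralizer (Q : Set G) = ((Subgroup.center ↥Q).map Q.subtype)) (hL3 : Subgroup.centralizer (((Subgroup.center ↥Q).map Q.subtype) : Set G) ≤ Subgroup.normalizer (Q : Set G)) (w : ℕ) (hw : 2 ≤ w) (hcard : Nat.card ↥Q = 2 ^ (2 * w + 1)) (g : G) (hg : g ∉ Subgroup.normalizer (((Subgroup.center ↥Q).map Q.subtype) : Set G)) (hZg : (((Subgroup.center ↥Q).map Q.subtype)).map (MulAut.conj g).toMonoidHom ≤ Q) : ((Subgroup.center ↥Q).map Q.subtype) ≤ (Q).map (MulAut.conj g).toMonoidHom ∧ (Subgroup.centralizer ((((Subgroup.center ↥Q).map Q.subtype) ⊔ (((Subgroup.center ↥Q).map Q.subtype)).map (MulAut.conj g).toMonoidHom : Subgroup G) : Set G)).relIndex (Subgroup.normalizer ((((Subgroup.center ↥Q).map Q.subtype) ⊔ (((Subgroup.center ↥Q).map Q.subtype)).map (MulAut.conj g).toMonoidHom : Subgroup G) : Set G)) = 6 ∧ Cfsg.IsLargeExtraspecial Q := by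
  obtain ⟨z, h⟩ := CfsgLib.LargeExtra.pre_of hL1 hL2 hL3
  rw [h.gen.map_center] at hg hZg ⊢
  have hzz := h.gen.sq
  have hx : g * z * g⁻¹ ∈ Q := hZg ⟨z, Subgroup.mem_zpowers z, rfl⟩
  have hgC : g ∉ Subgroup.centralizer ({z} : Set G) := fun hc => hg (by
    rw [Subgroup.mem_centralizer_singleton_iff] at hc
    rw [Subgroup.mem_normalizer_iff]
    have hcz : Commute g z := hc
    intro v
    constructor
    · rintro ⟨k, rfl⟩
      exact ⟨k, by simp only; rw [(hcz.zpow_right k).eq, mul_inv_cancel_right]⟩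
    · rintro ⟨k, hk⟩
      refine ⟨k, ?_⟩
      simp only at hk ⊢
      calc z ^ k = g⁻¹ * (g * z ^ k) := by group
        _ = g⁻¹ * (z ^ k * g) := by rw [(hcz.zpow_right k).eq]
        _ = g⁻¹ * (g * v * g⁻¹ * g) := by rw [hk]
        _ = v := by group)
  have P := CfsgLib.LargeExtra.pair_of h hx hgC
  refine ⟨Subgroup.zpowers_le.2 P.zQ, ?_, ?_⟩
  · have hV : Subgroup.zpowers z ⊔ (Subgroup.zpowers z).map (MulAut.conj g).toMonoidHom =
        Subgroup.closure ({z, g * z * g⁻¹} : Set G) := by
      rw [MonoidHom.map_zpowers, Subgroup.zpowers_eq_closure, Subgroup.zpowers_eq_closure,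
        ← Subgroup.closure_union, Set.singleton_union]
      rfl
    rw [hV]
    exact CfsgLib.LargeExtra.relIndex_six P
  · refine CfsgLib.LargeExtra.large_of_core h hL1 hx P.pre'.gen.ne_one P.ne P.pre'.gen.sq _
      (hL1.1.1.map _) P.zQ fun c hc p hp => ?_
    exact P.pre'.conj_mem hc hp

end Cfsg.Agent.S5422
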