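import Cfsg.Statements.S5424
import Cfsg.Agent.LargeExtra.VectorStabilizer

set_option autoImplicit false
open Cfsg

namespace Cfsg.Agent.S5424

/-- Let G be the special linear group of degree n + 2 over the field with two elements, n ≥ 2, let z be a transvection, and let Q be the largest normal 2-subgroup of the centralizer C of z. Then Q is extraspecial of order 2^(2n+1) with an elementary abelian subgroup of order 2^(n+1) (plus type), Q is a large extraspecial 2-subgroup of G, and C is the split extension of Q by the special linear group of degree n over the field with two elements. -/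
theorem result (n : ℕ) (hn : 2 ≤ n) (z : Matrix.SpecialLinearGroup (Fin (n + 2)) (ZMod 2)) (hz : (z : Matrix (Fin (n + 2)) (Fin (n + 2)) (ZMod 2)) = Matrix.transvection 0 1 1) (Q : Subgroup (Matrix.SpecialLinearGroup (Fin (n + 2)) (ZMod 2))) (hQ : Q = (Cfsg.pCore 2 ↥(Subgroup.centralizer ({z} : Set (Matrix.SpecialLinearGroup (Fin (n + 2)) (ZMod 2))))).map (Subgroup.centralizer ({z} : Set (Matrix.SpecialLinearGroup (Fin (n + 2)) (ZMod 2)))).subtype) : Cfsg.IsExtraspecial 2 ↥Q ∧ Nat.card ↥Q = 2 ^ (2 * n + 1) ∧ (∃ E : Subgroup (Matrix.SpecialLinearGroup (Fin (n + 2)) (ZMod 2)), E ≤ Q ∧ Cfsg.IsElementaryAbelian 2 E ∧ Nat.card ↥E = 2 ^ (n + 1)) ∧ Cfsg.IsLargeExtraspecial Q ∧ ∃ K : Subgroup (Matrix.SpecialLinearGroup (Fin (n + 2)) (ZMod 2)), K ≤ Subgroup.centralizer ({z} : Set (Matrix.SpecialLinearGroup (Fin (n + 2)) (ZMod 2))) ∧ Q ⊓ K = ⊥ ∧ Q ⊔ K = Subgroup.centralizer ({z} : Set (Matrix.SpecialLinearGroup (Fin (n + 2)) (ZMod 2))) ∧ Nonempty (↥K ≃* Matrix.SpecialLinearGroup (Fin n) (ZMod 2)) := by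
  have hzu : z = CfsgLib.Holomorph.trHom (Multiplicative.ofAdd (Pi.single (0 : Fin (n + 1)) 1)) := by
    refine Subtype.ext (hz.trans (Matrix.ext fun i k => ?_))
    show _ = CfsgLib.Holomorph.trMat (Pi.single (0 : Fin (n + 1)) 1) i k
    rw [show (1 : Fin (n + 2)) = (0 : Fin (n + 1)).succ from rfl]
    cases i using Fin.cases with
    | zero =>
      cases k using Fin.cases with
      | zero => simp [CfsgLib.Holomorph.trMat, Matrix.transvection, Matrix.single, -Fin.succ_zero_eq_one]
      | succ k =>
        by_cases hk : k = 0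
        · subst hk
          simp [CfsgLib.Holomorph.trMat, Matrix.transvection, Matrix.single, -Fin.succ_zero_eq_one]
        · have h1 : (0 : Fin (n + 1)).succ ≠ k.succ := fun h => hk (Fin.succ_inj.1 h).symm
          simp [CfsgLib.Holomorph.trMat, Matrix.transvection, Matrix.single, hk, h1,
            (Fin.succ_ne_zero _).symm, -Fin.succ_zero_eq_one]
          intro h
          exact h1 (Fin.succ_zero_eq_one.trans h)
    | succ i =>
      cases k using Fin.cases with
      | zero => simp [CfsgLib.Holomorph.trMat, Matrix.transvection, Matrix.single, (Fin.succ_ne_zero _).symm,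
          -Fin.succ_zero_eq_one]
      | succ k =>
        by_cases hk : i = k
        · subst hk
          simp [CfsgLib.Holomorph.trMat, Matrix.transvection, Matrix.single, (Fin.succ_ne_zero _).symm,
            -Fin.succ_zero_eq_one]
        · simp [CfsgLib.Holomorph.trMat, Matrix.transvection, Matrix.single, (Fin.succ_ne_zero _).symm,
            hk, Ne.symm hk, -Fin.succ_zero_eq_one]
  have hz1 : z ≠ 1 := fun h => by
    rw [hzu, ← map_one (CfsgLib.Holomorph.trHom (m := n + 1))] at h
    simpa using congrFun (congrArg Multiplicative.toAdd (CfsgLib.Holomorph.trHom_injective h)) 0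
  obtain ⟨h1, h2, h3, h4, K, h5, h6, h7, ⟨e⟩⟩ := CfsgLib.Holomorph.main n (by omega)
    (CfsgLib.Holomorph.trHom (m := n + 1)).range (CfsgLib.Holomorph.emHom (m := n + 1)).range
    CfsgLib.Holomorph.trRange_elementary CfsgLib.Holomorph.trRange_card
    CfsgLib.Holomorph.emRange_le_normalizer CfsgLib.Holomorph.trRange_inf_emRange
    CfsgLib.Holomorph.emRange_faithful CfsgLib.Holomorph.emRange_full
    CfsgLib.Holomorph.centralizer_trHom_le z ⟨_, hzu.symm⟩ hz1 Q hQ
  exact ⟨h1, h2, h3, h4, K, h5, h6, h7,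
    ⟨e.trans (MulEquiv.ofBijective _ (CfsgLib.Holomorph.toGL_bijective n)).symm⟩⟩

end Cfsg.Agent.S5424
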