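import Cfsg.Statements.S5427
import Cfsg.Agent.LargeExtra.SimpleCriterion

set_option autoImplicit false
open Cfsg

namespace Cfsg.Agent.S5427

/-- Let z be an involution of the finite group G whose centralizer C has generalized Fitting subgroup Q, an extraspecial 2-group of width at least 2 (order 2^(2w+1), w ≥ 2). Let K be a subgroup of G such that the subgroup U generated by the K-conjugates of z is abelian and C is generated by the C-conjugates of U. Suppose that either some K-conjugate of z other than z lies in Q, or some element u of U ∩ Q outside the subgroup generated by z has z in the largest normal 2-subgroup of its centralizer. Then G is simple and Q is a large extraspecial 2-subgroup of G. -/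
theorem result {G : Type*} [Group G] [Finite G] (z : G) (hz : orderOf z = 2) (Q : Subgroup G) (hQC : Q ≤ Subgroup.centralizer ({z} : Set G)) (hF : (Cfsg.generalizedFittingSubgroup ↥(Subgroup.centralizer ({z} : Set G))).map (Subgroup.centralizer ({z} : Set G)).subtype = Q) (hQ : Cfsg.IsExtraspecial 2 ↥Q) (w : ℕ) (hw : 2 ≤ w) (hcard : Nat.card ↥Q = 2 ^ (2 * w + 1)) (K U : Subgroup G) (hU : U = Subgroup.closure {x : G | ∃ k ∈ K, x = k * z * k⁻¹}) (hUab : IsMulCommutative ↥U) (hgen : Subgroup.closure {x : G | ∃ c ∈ Subgroup.centralizer ({z} : Set G), ∃ u ∈ U, x = c * u * c⁻¹} = Subgroup.centralizer ({z} : Set G)) (h3 : (∃ k ∈ K, k * z * k⁻¹ ∈ Q ∧ k * z * k⁻¹ ≠ z) ∨ ∃ u ∈ U ⊓ Q, u ∉ Subgroup.zpowers z ∧ (∃ hz' : z ∈ Subgroup.centralizer ({u} : Set G), (⟨z, hz'⟩ : ↥(Subgroup.centralizer ({u} : Set G))) ∈ Cfsg.pCore 2 ↥(Subgroup.centralizer ({u} : Set G)))) : IsSimpleGroup G ∧ Cfsg.IsLargeExtraspecial Q := by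
  have h := CfsgLib.LargeExtra.pre_of_fstar hz hF hQ
  have hL : Cfsg.IsLargeExtraspecial Q := by
    rcases h3 with ⟨k, -, hkQ, hkz⟩ | ⟨u, hu, huz, hz', hzu⟩
    · exact CfsgLib.LargeExtra.large_of_conj h hQ hkQ hkz
    set Cu := Subgroup.centralizer ({u} : Set G)
    have hu1 : u ≠ 1 := fun e => huz (e ▸ one_mem _)
    have huz' : u ≠ z := fun e => huz (e ▸ Subgroup.mem_zpowers z)
    have hU2 : ∀ v ∈ U, v * v = 1 := by
      intro v hv
      rw [hU] at hv
      induction hv using Subgroup.closure_induction with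
      | mem x hx =>
        obtain ⟨k, -, rfl⟩ := hx
        calc k * z * k⁻¹ * (k * z * k⁻¹) = k * (z * z) * k⁻¹ := by group
          _ = 1 := by rw [h.gen.sq]; group
      | one => simp
      | mul a b ha hb iha ihb =>
        have hc : b * a = a * b := congrArg Subtype.val
          (hUab.is_comm.comm ⟨b, hU ▸ hb⟩ ⟨a, hU ▸ ha⟩)
        calc a * b * (a * b) = a * (b * a) * b := by group
          _ = (a * a) * (b * b) := by rw [hc]; group
          _ = 1 := by rw [iha, ihb, one_mul]
      | inv a _ iha => rw [← mul_inv_rev, iha, inv_one]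
    have hu2 : u * u = 1 := hU2 u hu.1
    refine CfsgLib.LargeExtra.large_of_core h hQ hu.2 hu1 huz' hu2
      ((Cfsg.pCore 2 Cu).map Cu.subtype) ((CfsgLib.Solvable.isPGroup_pCore 2).map _)
      ⟨_, hzu, rfl⟩ fun c hc p hp => ?_
    obtain ⟨y, hy, rfl⟩ := hp
    exact ⟨⟨c, Subgroup.mem_centralizer_singleton_iff.2 hc⟩ * y * ⟨c, _⟩⁻¹,
      (CfsgLib.Solvable.pCore_normal 2).conj_mem y hy _, rfl⟩
  refine ⟨CfsgLib.LargeExtra.simple_of h hL fun N hN hzN => ?_, hL⟩
  refine hgen.ge.trans ((Subgroup.closure_le _).2 ?_)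
  rintro _ ⟨c, -, u, hu, rfl⟩
  refine hN.conj_mem u ?_ c
  refine (?_ : U ≤ N) hu
  rw [hU, Subgroup.closure_le]
  rintro _ ⟨k, -, rfl⟩
  exact hN.conj_mem z hzN k

end Cfsg.Agent.S5427
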