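import Cfsg.Statements.S5433
import Cfsg.Agent.Spor3T.Extraspecial


set_option autoImplicit false
open Cfsg

namespace Cfsg.Agent.S5433

/-- Let Q be a large extraspecial 2-subgroup of the finite group G (extraspecial; centralizer equal to its centre; normal in the centralizer of its centre; normalizing no non-trivial subgroup of odd order), and L a normal subgroup of G containing Q. Then G is the product of L and the normalizer of Q. -/
theorem result {G : Type*} [Group G] [Finite G] (Q : Subgroup G) (hQ : Cfsg.IsLargeExtraspecial Q) (L : Subgroup G) [L.Normal] (hQL : Q ≤ L) : L ⊔ Subgroup.normalizer (Q : Set G) = ⊤ := by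
  obtain ⟨zc, hgen⟩ := CfsgLib.Extra2.exists_gen hQ.1
  obtain ⟨⟨⟨hp, -⟩, hcardZ⟩, hCQ, hN, -⟩ := hQ
  haveI : Fact (Nat.Prime 2) := ⟨Nat.prime_two⟩
  obtain ⟨S, hS⟩ := (hp.comap_subtype (K := L)).exists_le_sylow
  set T := (S : Subgroup L).map L.subtype with hT
  have hQT : Q ≤ T := fun q hq => ⟨⟨q, hQL hq⟩, hS hq, rfl⟩
  set Z := (Subgroup.center Q).map Q.subtype with hZ
  haveI : Nontrivial T := by
    rw [Subgroup.nontrivial_iff_ne_bot]
    intro h
    have hQ1 : Q = ⊥ := le_bot_iff.1 (h ▸ hQT)
    have := Subgroup.card_dvd_of_le (Subgroup.map_subtype_le (Subgroup.center Q))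
    rw [Subgroup.card_map_of_injective Q.subtype_injective, hcardZ, hQ1, Subgroup.card_bot] at this
    omega
  have hTp : IsPGroup 2 T := S.2.map _
  haveI := hTp.center_nontrivial
  have hle : (Subgroup.center T).map T.subtype ≤ Z := by
    rw [← hCQ]
    rintro _ ⟨c, hc, rfl⟩ q hq
    exact congrArg Subtype.val (Subgroup.mem_center_iff.1 hc ⟨q, hQT hq⟩)
  have heq : (Subgroup.center T).map T.subtype = Z := by
    refine Subgroup.eq_of_le_of_card_ge hle ?_
    rw [hZ, Subgroup.card_map_of_injective Q.subtype_injective, hcardZ,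
      Subgroup.card_map_of_injective T.subtype_injective]
    exact Finite.one_lt_card
  have hnorm : Subgroup.normalizer (T : Set G) ≤ Subgroup.normalizer (Q : Set G) := by
    refine le_trans ?_ hN
    intro n hn z hz
    rw [← heq] at hz
    obtain ⟨c, hc, rfl⟩ := hz
    have hmem : n * c * n⁻¹ ∈ (Subgroup.center T).map T.subtype := by
      refine ⟨⟨_, (Subgroup.mem_normalizer_iff.1 hn c).1 c.2⟩, Subgroup.mem_center_iff.2 fun t => ?_, rfl⟩
      have ht' : n⁻¹ * t * n ∈ T := by
        have := (Subgroup.mem_normalizer_iff.1 (inv_mem hn) t).1 t.2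
        rwa [inv_inv] at this
      have e : n⁻¹ * t * n * (c : G) = c * (n⁻¹ * t * n) :=
        congrArg Subtype.val (Subgroup.mem_center_iff.1 hc ⟨_, ht'⟩)
      refine Subtype.ext ?_
      show (t : G) * (n * c * n⁻¹) = n * c * n⁻¹ * t
      calc (t : G) * (n * c * n⁻¹) = n * (n⁻¹ * t * n * c) * n⁻¹ := by group
        _ = n * (c * (n⁻¹ * t * n)) * n⁻¹ := by rw [e]
        _ = _ := by group
    -- the two non-trivial central elements agree
    rw [heq] at hmem
    have hcZ : (c : G) ∈ Z := heq ▸ ⟨c, hc, rfl⟩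
    show (c : G) * n = n * c
    rcases eq_or_ne (c : G) 1 with e | e
    · simp [e]
    rw [hZ, hgen.map_center, CfsgLib.Extra2.mem_zpowers_iff hgen.sq] at hmem hcZ
    rcases hmem with e' | e'
    · refine absurd ?_ e
      calc (c : G) = n⁻¹ * (n * c * n⁻¹) * n := by group
        _ = 1 := by rw [e']; group
    · rcases hcZ with e'' | e''
      · exact absurd e'' e
      · exact (mul_inv_eq_iff_eq_mul.1 (e'.trans e''.symm)).symm
  have htop := Sylow.normalizer_sup_eq_top S
  refine eq_top_iff.2 (htop ▸ sup_le ?_ le_sup_left)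
  exact hnorm.trans le_sup_right

end Cfsg.Agent.S5433
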