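import Cfsg.Statements.S5436
import Cfsg.Agent.LargeExtra.SimpleCriterion

set_option autoImplicit false
open Cfsg

namespace Cfsg.Agent.S5436

/-- Let z be an involution of the finite group G with centralizer H whose generalized Fitting subgroup Q is extraspecial of width at least 2 (order 2^(2w+1), w ≥ 2); suppose some conjugate of z other than z lies in Q, H/Q is a non-abelian simple group, H acts irreducibly by conjugation on Q modulo the subgroup generated by z (the only H-invariant subgroups of Q containing z are that subgroup and Q), and Q is not the subgroup generated by the conjugates of z lying in H. Then G is simple. -/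
theorem result {G : Type*} [Group G] [Finite G] (z : G) (hz : orderOf z = 2) (Q : Subgroup (Subgroup.centralizer ({z} : Set G))) [Q.Normal] (hF : Cfsg.generalizedFittingSubgroup ↥(Subgroup.centralizer ({z} : Set G)) = Q) (hQ : Cfsg.IsExtraspecial 2 ↥Q) (w : ℕ) (hw : 2 ≤ w) (hcard : Nat.card ↥Q = 2 ^ (2 * w + 1)) (hnwc : ∃ g : G, (∃ hq : g * z * g⁻¹ ∈ Subgroup.centralizer ({z} : Set G), (⟨g * z * g⁻¹, hq⟩ : Subgroup.centralizer ({z} : Set G)) ∈ Q) ∧ g * z * g⁻¹ ≠ z) (hsimp : IsSimpleGroup (↥(Subgroup.centralizer ({z} : Set G)) ⧸ Q)) (hna : ¬ IsMulCommutative (↥(Subgroup.centralizer ({z} : Set G)) ⧸ Q)) (hirr : ∀ W : Subgroup (Subgroup.centralizer ({z} : Set G)), W.Normal → W ≤ Q → (W = Q ∨ ∀ x ∈ W, (x : G) ∈ Subgroup.zpowers z)) (hwcl : Subgroup.closure {x : Subgroup.centralizer ({z} : Set G) | IsConj z (x : G)} ≠ Q) : IsSimpleGroup G := by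
  have hQ'e : Cfsg.IsExtraspecial 2 ↥(Q.map (Subgroup.centralizer ({z} : Set G)).subtype) :=
    CfsgLib.LargeExtra.isExtraspecial_equiv (Q.equivMapOfInjective _ (Subgroup.subtype_injective (Subgroup.centralizer ({z} : Set G)))) hQ
  have h := CfsgLib.LargeExtra.pre_of_fstar hz (congrArg (Subgroup.map (Subgroup.centralizer ({z} : Set G)).subtype) hF) hQ'e
  obtain ⟨g, ⟨hq, hgQ⟩, hgz⟩ := hnwc
  have hgQ' : g * z * g⁻¹ ∈ Q.map (Subgroup.centralizer ({z} : Set G)).subtype := ⟨_, hgQ, rfl⟩
  refine CfsgLib.LargeExtra.simple_of h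
    (CfsgLib.LargeExtra.large_of_conj h hQ'e hgQ' hgz) fun N hN hzN => ?_
  have hnot : ¬ (g * z * g⁻¹ ∈ Subgroup.zpowers z) := fun hm => by
    rcases (CfsgLib.Extra2.mem_zpowers_iff h.gen.sq).1 hm with e | e
    · exact h.gen.ne_one (conj_eq_one_iff.1 e)
    · exact hgz e
  set W := N.subgroupOf (Subgroup.centralizer ({z} : Set G))
  haveI : W.Normal := hN.comap (Subgroup.centralizer ({z} : Set G)).subtype
  set V : Subgroup (Subgroup.centralizer ({z} : Set G)) := Subgroup.closure {x : (Subgroup.centralizer ({z} : Set G)) | IsConj z (x : G)}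
  haveI : V.Normal := by
    refine ⟨fun v hv c => ?_⟩
    induction hv using Subgroup.closure_induction with
    | mem x hx => exact Subgroup.subset_closure (IsConj.trans hx (isConj_iff.2 ⟨c, rfl⟩))
    | one => simp
    | mul x y _ _ ihx ihy => simpa [mul_assoc] using mul_mem ihx ihy
    | inv x _ ihx => simpa [mul_assoc] using inv_mem ihx
  have hgV : (⟨g * z * g⁻¹, hq⟩ : (Subgroup.centralizer ({z} : Set G))) ∈ V := Subgroup.subset_closure (isConj_iff.2 ⟨g, rfl⟩)
  have hVW : V ≤ W := (Subgroup.closure_le _).2 fun x hx => by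
    obtain ⟨k, hk⟩ := isConj_iff.1 hx
    exact Subgroup.mem_subgroupOf.2 (hk ▸ hN.conj_mem z hzN k)
  have hQV : Q ≤ V := by
    rcases hirr (V ⊓ Q) inferInstance inf_le_right with e | e
    · exact e ▸ inf_le_left
    · exact absurd (e _ ⟨hgV, hgQ⟩) hnot
  have hQW : Q ≤ W := hQV.trans hVW
  rcases (‹W.Normal›.map _ (QuotientGroup.mk'_surjective Q)).eq_bot_or_eq_top with e | e
  · rw [Subgroup.map_eq_bot_iff, QuotientGroup.ker_mk'] at e
    exact absurd (le_antisymm (hVW.trans e) hQV) hwcl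
  · intro c hc
    have h1 : (⟨c, hc⟩ : (Subgroup.centralizer ({z} : Set G))) ∈ (W.map (QuotientGroup.mk' Q)).comap (QuotientGroup.mk' Q) := by
      rw [e]; trivial
    rw [Subgroup.comap_map_eq, QuotientGroup.ker_mk', sup_eq_left.2 hQW] at h1
    exact Subgroup.mem_subgroupOf.1 h1

end Cfsg.Agent.S5436
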